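import Cfsg.Agent.Lib.F4Levels9
import Cfsg.Agent.Lib.StemFilt9
import Cfsg.Agent.Lib.TwistAutF4

/-!
`²F₄(q)`, `q ≥ 8`: the unipotent subgroup has no multiplier.
-/

set_option autoImplicit false
set_option linter.unusedSectionVars false
set_option linter.unusedVariables false
set_option linter.unusedSimpArgs false
set_option maxRecDepth 20000

namespace Cfsg.Agent.F4StemU9

open Cfsg.Lie Cfsg.Agent.ChevalleyCert Cfsg.Agent.ChevalleyCore Cfsg.Agent.ChevalleyRoots Cfsg.Agent.ChevalleyTorus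
  Cfsg.Agent.TwistedCore Cfsg.Agent.TwistedTools Cfsg.Agent.ChevWeyl Cfsg.Agent.ChevBruhat Cfsg.Agent.TwistedF4Classes
  Cfsg.Agent.F4Levels9 Cfsg.Agent.TwistAutF4
open scoped commutatorElement

/-- the rows of the Cartan integers of a level -/
def cc (i : ℕ) : ℤ × ℤ × ℤ × ℤ :=
  (chevF4.cartan 0 (fr i), chevF4.cartan 1 (fr i), chevF4.cartan 2 (fr i), chevF4.cartan 3 (fr i))

/-- the exponent of the first parameter -/
def al (E : ℤ) (i : ℕ) : ℤ := E * (cc i).1 + (cc i).2.2.2

/-- the exponent of the second parameter -/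
def be (E : ℤ) (i : ℕ) : ℤ := E * (cc i).2.1 + (cc i).2.2.1

theorem cc_vals : [cc 0, cc 1, cc 2, cc 3, cc 4, cc 5, cc 6, cc 7, cc 8, cc 9, cc 10, cc 11] =
    [(0, 0, -1, 2), (0, -2, 2, -1), (0, -2, 1, 1), (-1, 0, 1, -1), (-1, 0, 0, 1), (-2, 2, -1, 1), (-2, 0, 1, 0),
      (1, -1, 0, 1), (0, 1, -1, 1), (0, -1, 1, 0), (-1, 1, 0, 0), (1, 0, 0, 0)] := by decide +kernel

/-- every character is onto -/
theorem bezout (E : ℤ) : ∀ i < 12, ∃ x y : ℤ, (2 * E ^ 2 - 1) ∣ al E i * x + be E i * y - 1 := by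
  intro i hi
  have h := cc_vals
  simp only [List.cons.injEq, and_true] at h
  obtain ⟨h0, h1, h2, h3, h4, h5, h6, h7, h8, h9, h10, h11⟩ := h
  interval_cases i
  · exact ⟨0, -1, 0, by simp [al, be, h0]⟩
  · exact ⟨-1, 0, 0, by simp [al, be, h1]⟩
  · exact ⟨1, 0, 0, by simp [al, be, h2]⟩
  · exact ⟨0, 1, 0, by simp [al, be, h3]⟩
  · exact ⟨2 * (1 + E), 0, -1, by simp [al, be, h4]; ring⟩
  · exact ⟨0, 2 * E + 1, 2, by simp [al, be, h5]; ring⟩
  · exact ⟨0, 1, 0, by simp [al, be, h6]⟩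
  · exact ⟨0, -2 * E, 1, by simp [al, be, h7]; ring⟩
  · exact ⟨1, 0, 0, by simp [al, be, h8]⟩
  · exact ⟨0, 2 * (1 + E), -1, by simp [al, be, h9]; ring⟩
  · exact ⟨0, 2 * E, 1, by simp [al, be, h10]; ring⟩
  · exact ⟨2 * E, 0, 1, by simp [al, be, h11]; ring⟩

/-- twice the determinant of two levels modulo `2E² - 1` -/
def det2 (i j : ℕ) : ℤ × ℤ :=
  let a := cc j
  let b := cc i
  let A := a.1 * b.2.1 - a.2.1 * b.1
  let B := a.1 * b.2.2.1 + a.2.2.2 * b.2.1 - (a.2.1 * b.2.2.2 + a.2.2.1 * b.1)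
  let C := a.2.2.2 * b.2.2.1 - a.2.2.1 * b.2.2.2
  (2 * B, A + 2 * C)

/-- the pairs with parallel weights -/
def par (i j : ℕ) : Bool :=
  i == j || [(3, 1), (7, 2), (10, 5), (11, 4)].contains (i, j)

/-- the pairs handled by size -/
theorem det2_ok : ∀ i < 12, ∀ j ≤ i, par i j = false →
    ((det2 i j).1 ≠ 0 ∨ (det2 i j).2 ≠ 0) ∧ (det2 i j).1.natAbs ≤ 12 ∧ (det2 i j).2.natAbs ≤ 8 ∧
      ((det2 i j).2.natAbs < 8 ∨ (det2 i j).1.natAbs ≠ 1) := by decide +kernel

/-- the pairs over the two smallest fields -/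
theorem small_ok : ∀ m ∈ [1, 2], ∀ i < 12, ∀ j ≤ i, par i j = false → ∀ k < 2 * m + 1,
    ¬ ((2 * (2 ^ m : ℤ) ^ 2 - 1) ∣ 2 ^ k * al (2 ^ m) j + al (2 ^ m) i ∧
      (2 * (2 ^ m : ℤ) ^ 2 - 1) ∣ 2 ^ k * be (2 ^ m) j + be (2 ^ m) i) := by decide +kernel

theorem weights_ne (m : ℕ) (hm : 1 ≤ m) {i j : ℕ} (hi : i < 12) (hji : j ≤ i) (hp : par i j = false ∨ i = j)
    {k : ℕ} (hk : k < 2 * m + 1) :
    ¬ ((2 * (2 ^ m : ℤ) ^ 2 - 1) ∣ 2 ^ k * al (2 ^ m) j + al (2 ^ m) i ∧
      (2 * (2 ^ m : ℤ) ^ 2 - 1) ∣ 2 ^ k * be (2 ^ m) j + be (2 ^ m) i) := by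
  rintro ⟨ha, hb⟩
  set E : ℤ := 2 ^ m with hE
  set Q : ℤ := 2 * E ^ 2 - 1 with hQ
  have hE2 : 2 ≤ E := le_self_pow₀ (by norm_num) (by omega)
  have h2k : (2 : ℤ) ^ k ≤ E ^ 2 := by
    rw [hE, ← pow_mul]; exact pow_le_pow_right₀ (by norm_num) (by omega)
  have hsq : 4 ≤ E ^ 2 := by nlinarith
  rcases hp with hp | rfl
  · rcases Nat.lt_or_ge m 3 with hm3 | hm3
    · exact small_ok m (by simp only [List.mem_cons, List.not_mem_nil, or_false]; omega) i hi j hji hp k hk ⟨ha, hb⟩
    · obtain ⟨h0, h1, h2, h3⟩ := det2_ok i hi j hji hp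
      have hE8 : 8 ≤ E := by
        calc (8 : ℤ) = 2 ^ 3 := by norm_num
          _ ≤ _ := pow_le_pow_right₀ (by norm_num) hm3
      have hdvd : Q ∣ (det2 i j).1 * E + (det2 i j).2 := by
        have e : (det2 i j).1 * E + (det2 i j).2 = 2 * (al E j * (2 ^ k * be E j + be E i) -
            be E j * (2 ^ k * al E j + al E i)) -
            ((cc j).1 * (cc i).2.1 - (cc j).2.1 * (cc i).1) * Q := by
          simp only [det2, al, be, hQ]; ring
        rw [e]
        exact dvd_sub (dvd_mul_of_dvd_right (dvd_sub (dvd_mul_of_dvd_right hb _) (dvd_mul_of_dvd_right ha _)) _)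
          (dvd_mul_left _ _)
      set b := (det2 i j).1
      set c := (det2 i j).2
      have hb1 : -12 ≤ b ∧ b ≤ 12 := by omega
      have hc1 : -8 ≤ c ∧ c ≤ 8 := by omega
      have hlt : |b * E + c| < Q := by
        rw [abs_lt]
        constructor <;> nlinarith
      have hz := Int.eq_zero_of_abs_lt_dvd hdvd hlt
      rcases eq_or_ne b 0 with hb0 | hb0
      · rw [hb0] at hz; omega
      · rcases Int.lt_or_gt_of_ne hb0 with hneg | hpos
        · have h8 : b * E ≤ -E := by nlinarith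
          have : b = -1 := by
            by_contra hne
            have : b * E ≤ -2 * E := by nlinarith [show b ≤ -2 by omega]
            omega
          omega
        · have h8 : E ≤ b * E := by nlinarith
          have : b = 1 := by
            by_contra hne
            have : 2 * E ≤ b * E := by nlinarith [show 2 ≤ b by omega]
            omega
          omega
  · obtain ⟨x, y, hxy⟩ := bezout E i hi
    have h1 : Q ∣ 2 ^ k + 1 := by
      have e : (2 : ℤ) ^ k + 1 = (2 ^ k * al E i + al E i) * x + (2 ^ k * be E i + be E i) * y -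
          (2 ^ k + 1) * (al E i * x + be E i * y - 1) := by ring
      rw [e]
      exact dvd_sub (dvd_add (dvd_mul_of_dvd_left ha _) (dvd_mul_of_dvd_left hb _)) (dvd_mul_of_dvd_right hxy _)
    have hk0 : (0 : ℤ) < 2 ^ k := by positivity
    have := Int.le_of_dvd (by omega) h1
    omega

/-! ### elementary commutators in characteristic two -/

section Comm

variable {K : Type*} [Field K] [CharP K 2]

/-- two root groups without odd commutator terms -/
def evenPair (r s : ℕ) : Bool :=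
  decide (r < 48) && decide (s < 48) && decide (s ≠ r) && decide (s ≠ chevF4.neg r) &&
    (chevF4.commTerms r s).all fun c => decide (c.2.1 % 2 = 0)

theorem cast2 {z : ℤ} (h : z % 2 = 0) : (z : K) = 0 :=
  (CharP.intCast_eq_zero_iff K 2 z).2 (Int.dvd_of_emod_eq_zero h)

theorem commute_even {r s : ℕ} (h : evenPair r s = true) (t u : K) : Commute (xg cf r t) (xg cf s u) := by
  simp only [evenPair, Bool.and_eq_true, decide_eq_true_eq, List.all_eq_true] at h
  obtain ⟨⟨⟨⟨h1, h2⟩, h3⟩, h4⟩, h5⟩ := h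
  have e := comm_formula cf h1 h2 h3 h4 t u
  have hw : wg cf (chevF4.commWord K r s t u) = 1 := by
    apply List.prod_eq_one
    intro g hg
    simp only [ChevalleyDatum.commWord, List.map_map, List.mem_map] at hg
    obtain ⟨c, hcm, rfl⟩ := hg
    simp only [Function.comp_apply, cast2 (h5 c hcm), zero_mul, xg_zero]
  rw [hw, mul_one] at e
  exact e.symm

theorem comm_one {r s x : ℕ} (hr : r < 48) (hs : s < 48) (h1 : s ≠ r) (h2 : s ≠ chevF4.neg r)
    (h : (chevF4.commTerms r s).map (fun c => (c.1, c.2.1 % 2, c.2.2)) = [(x, 1, 1, 1)]) (t u : K) :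
    xg cf s u * xg cf r t = xg cf r t * xg cf s u * xg cf x (t * u) := by
  rw [comm_formula cf hr hs h1 h2 t u]
  congr 1
  obtain ⟨c, hc⟩ : ∃ c, chevF4.commTerms r s = [c] := by
    match hl : chevF4.commTerms r s, h with
    | [c], _ => exact ⟨c, rfl⟩
    | [], h => simp at h
    | _ :: _ :: _, h => simp at h
  rw [hc] at h
  simp only [List.map_cons, List.map_nil, List.cons.injEq, and_true, Prod.mk.injEq] at h
  obtain ⟨e1, e2, e3⟩ := h
  have hc1 : ((c.2.1 : ℤ) : K) = 1 := by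
    have h0 : ((c.2.1 - 1 : ℤ) : K) = 0 := cast2 (by omega)
    rwa [Int.cast_sub, Int.cast_one, sub_eq_zero] at h0
  simp only [ChevalleyDatum.commWord, hc, List.map_cons, List.map_nil, wg, List.prod_cons, List.prod_nil, mul_one]
  rw [e1, e3, hc1, CharTwo.neg_eq, pow_one, pow_one, one_mul]

end Comm

/-! ### the chain -/

section Main

variable {K : Type*} [Field K] [Fintype K] [CharP K 2] (m : ℕ) (hK : Fintype.card K = 2 ^ (2 * m + 1))

local notation "ε" => (2 ^ m : ℕ)

/-- the characters -/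
def chi (i : ℕ) (l : Kˣ × Kˣ) : Kˣ := tchar chevF4 (tp m l.1 l.2) (fr i)

theorem chi_eq (i : ℕ) (l : Kˣ × Kˣ) : chi m i l = l.1 ^ al (2 ^ m) i * l.2 ^ be (2 ^ m) i := by
  rw [chi, tchar_aux]
  simp only [tp, al, be, cc, List.getD_cons_zero, List.getD_cons_succ]
  rw [zpow_add, zpow_add, zpow_mul, zpow_mul, show ((2 : ℤ) ^ m) = ((2 ^ m : ℕ) : ℤ) by simp, zpow_natCast,
    zpow_natCast]
  simp only [mul_assoc, mul_comm, mul_left_comm]

include hK in
theorem card_units_int : ((Nat.card Kˣ : ℕ) : ℤ) = 2 * (2 ^ m : ℤ) ^ 2 - 1 := by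
  rw [TwistedField.card_units_eq, hK, Nat.cast_sub Nat.one_le_two_pow]
  push_cast
  rw [← pow_mul, pow_succ, mul_comm m 2]
  ring

include hK in
theorem chi_onto {i : ℕ} (hi : i < 12) (g : Kˣ) : ∃ l, chi m i l = g := by
  obtain ⟨x, y, k, h⟩ := bezout (2 ^ m) i hi
  refine ⟨(g ^ x, g ^ y), ?_⟩
  rw [chi_eq, ← zpow_mul, ← zpow_mul, ← zpow_add]
  rw [← card_units_int m hK] at h
  rw [show x * al (2 ^ m) i + y * be (2 ^ m) i = ((Nat.card Kˣ : ℕ) : ℤ) * k + 1 by linarith [mul_comm x (al (2 ^ m) i), mul_comm y (be (2 ^ m) i)],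
    zpow_add, zpow_mul, zpow_natCast, pow_card_eq_one', one_zpow, one_mul, zpow_one]

include hK in
theorem chi_gen {i : ℕ} (hi : i < 12) (R : Subring K) (h : ∀ l : Kˣ × Kˣ, (chi m i l : K) ∈ R) : R = ⊤ := by
  refine eq_top_iff.2 fun z _ => ?_
  rcases eq_or_ne z 0 with rfl | hz
  · exact R.zero_mem
  · obtain ⟨l, hl⟩ := chi_onto m hK hi (Units.mk0 z hz)
    have := h l
    rwa [hl] at this

include hK in
theorem chi_no (hm : 1 ≤ m) {i j : ℕ} (hi : i < 12) (hji : j ≤ i) (hp : par i j = false ∨ i = j) {k : ℕ}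
    (hk : k < 2 * m + 1) : ∃ l : Kˣ × Kˣ, chi m j l ^ 2 ^ k * chi m i l ≠ 1 := by
  by_contra hno
  push Not at hno
  obtain ⟨g, hg⟩ := IsCyclic.exists_ofOrder_eq_natCard (α := Kˣ)
  refine weights_ne m hm hi hji hp hk ⟨?_, ?_⟩ <;> rw [← card_units_int m hK, ← hg, orderOf_dvd_iff_zpow_eq_one]
  · have h := hno (g, 1)
    rw [chi_eq, chi_eq, one_zpow, one_zpow, mul_one, mul_one, ← zpow_natCast, ← zpow_mul, ← zpow_add] at h
    rw [← h]
    congr 1
    push_cast
    ring
  · have h := hno (1, g)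
    rw [chi_eq, chi_eq, one_zpow, one_zpow, one_mul, one_mul, ← zpow_natCast, ← zpow_mul, ← zpow_add] at h
    rw [← h]
    congr 1
    push_cast
    ring

/-- the torus -/
noncomputable def tor (l : Kˣ × Kˣ) : ↥(twistedF4 K ε) := ⟨torus chevF4 (tp m l.1 l.2), torus_tp_mem m hK l.1 l.2⟩

theorem torus_R (z : Fin chevF4.rank → Kˣ) {i : ℕ} {x : GL chevF4.Idx K} (hx : x ∈ R K i) :
    torus chevF4 z * x * (torus chevF4 z)⁻¹ ∈ R K i := by
  induction hx using Subgroup.closure_induction with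
  | mem g hg =>
    obtain ⟨r, t, h1, h2, h3, rfl⟩ := hg
    rw [torus_conj_xg cf h2]
    exact xg_mem_R h1 h2 h3 _
  | one => simp
  | mul a b _ _ ha hb =>
    have e : torus chevF4 z * (a * b) * (torus chevF4 z)⁻¹ =
        (torus chevF4 z * a * (torus chevF4 z)⁻¹) * (torus chevF4 z * b * (torus chevF4 z)⁻¹) := by group
    rw [e]; exact mul_mem ha hb
  | inv a _ ha =>
    have e : torus chevF4 z * a⁻¹ * (torus chevF4 z)⁻¹ = (torus chevF4 z * a * (torus chevF4 z)⁻¹)⁻¹ := by group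
    rw [e]; exact inv_mem ha

theorem torus_nf (z : Fin chevF4.rank → Kˣ) {i : ℕ} (hi : i < 12) (a b : K) :
    torus chevF4 z * nf K i a b * (torus chevF4 z)⁻¹ =
      nf K i ((tchar chevF4 z (fr i) : K) * a) ((tchar chevF4 z (sr i) : K) * b) := by
  obtain ⟨-, a2, -, -, b2, -⟩ := fr_sr i hi
  rw [nf, nf, ← torus_conj_xg cf a2, ← torus_conj_xg cf b2]
  group

include hK in
/-- the filtration with its torus -/
noncomputable def chain (hm : 1 ≤ m) : StemFilt9.Chain ↥(twistedF4 K ε) K (Kˣ × Kˣ) where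
  n := 12
  N := N K m
  τ := tor m hK
  c i g := co K i (g : GL chevF4.Idx K)
  χ := chi m
  top := by rw [N, R_top le_rfl, Subgroup.bot_subgroupOf]
  mono i := N_mono m i.le_succ
  br j i hji hi g hg x hx := by
    have h := bracket_R ((mem_N m).1 hg) ((mem_N m).1 hx)
    rw [Nat.max_eq_right hji] at h
    exact (mem_N m).2 h
  nrm i l x hx := (mem_N m).2 (torus_R _ ((mem_N m).1 hx))
  tab l l' := Subtype.ext (H_comm cf (torus_mem_H cf _) (torus_mem_H cf _))
  add i hi x hx y hy := co_add m hK hi hx hy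
  zero i hi x hx h := co_zero m hK hi hx h
  surj i hi t := co_surj m hK hi t
  eqv i hi l x hx := by
    obtain ⟨v, hv, e⟩ := exists_form m hK hi hx
    refine co_eq hi (torus_R (tp m l.1 l.2) hv) (b := (tchar chevF4 (tp m l.1 l.2) (sr i) : K) *
      co K i (x : GL chevF4.Idx K) ^ (ε * ChevExcGraphData.excF4.e (fr i))) ?_
    show torus chevF4 (tp m l.1 l.2) * (x : GL chevF4.Idx K) * (torus chevF4 (tp m l.1 l.2))⁻¹ = _
    conv_lhs => rw [e]
    show _ = nf K i ((tchar chevF4 (tp m l.1 l.2) (fr i) : K) * _) _ * _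
    rw [← torus_nf _ hi]
    group
  move i hi := by
    obtain ⟨g, hg⟩ : ∃ g : Kˣ, g ≠ 1 := by
      have : 1 < Nat.card Kˣ := by
        rw [TwistedField.card_units_eq, hK]
        have : 2 ^ 3 ≤ 2 ^ (2 * m + 1) := Nat.pow_le_pow_right two_pos (by omega)
        omega
      haveI := Finite.one_lt_card_iff_nontrivial.1 this
      exact exists_ne 1
    obtain ⟨l, hl⟩ := chi_onto m hK hi g
    exact ⟨l, hl ▸ hg⟩

/-! ### explicit elements -/

/-- the action of a representative -/
def rw1 : Bool → ℕ → ℕ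
  | false, r => chevF4.reflectRoot 0 (chevF4.reflectRoot 3 r)
  | true, r => chevF4.reflectRoot 1 (chevF4.reflectRoot 2 (chevF4.reflectRoot 1 (chevF4.reflectRoot 2 r)))

theorem refl_lt : ∀ i < 4, ∀ r < 48, chevF4.reflectRoot i r < 48 := by decide +kernel

theorem cnF_conj (J : Bool) {r : ℕ} (hr : r < 48) (t : K) :
    cnF (K := K) J * xg cf r t * (cnF J)⁻¹ = xg cf (rw1 J r) t := by
  obtain ⟨e0, e1, e2, e3, -⟩ := roots_eq
  have step : ∀ i < 4, ∀ r < 48, ng cf (chevF4.simple i) 1 * xg cf r t * (ng cf (chevF4.simple i) (1 : K))⁻¹ =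
      xg cf (chevF4.reflectRoot i r) t := fun i hi r hr => by
    rw [ng_simple_conj cf hi hr, eta_one, one_mul]
  cases J
  · show ng cf f4p1 1 * ng cf f4p4 1 * xg cf r t * (ng cf f4p1 1 * ng cf f4p4 1)⁻¹ = _
    rw [← e0, ← e3, rw1, ← step 0 (by norm_num) _ (refl_lt 3 (by norm_num) r hr), ← step 3 (by norm_num) r hr]
    group
  · show ng cf f4a 1 * ng cf f4b 1 * ng cf f4a 1 * ng cf f4b 1 * xg cf r t *
      (ng cf f4a 1 * ng cf f4b 1 * ng cf f4a 1 * ng cf f4b 1)⁻¹ = _
    have l1 := refl_lt 2 (by norm_num) r hr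
    have l2 := refl_lt 1 (by norm_num) _ l1
    have l3 := refl_lt 2 (by norm_num) _ l2
    rw [← e1, ← e2, rw1, ← step 1 (by norm_num) _ l3, ← step 2 (by norm_num) _ l2, ← step 1 (by norm_num) _ l1,
      ← step 2 (by norm_num) r hr]
    group

/-- products of representatives -/
noncomputable def gl : List Bool → ↥(twistedF4 K ε)
  | [] => 1
  | J :: l => ⟨cnF J, cnF_mem m J⟩ * gl l

/-- their action -/
def act : List Bool → ℕ → ℕ
  | [], r => r
  | J :: l, r => rw1 J (act l r)

theorem act_lt : ∀ (l : List Bool) (r : ℕ), r < 48 → act l r < 48 := by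
  have key : ∀ J : Bool, ∀ r < 48, rw1 J r < 48 := by decide +kernel
  intro l
  induction l with
  | nil => exact fun r h => h
  | cons J l ih => exact fun r h => key J _ (ih r h)

theorem gl_conj (l : List Bool) {r : ℕ} (hr : r < 48) (t : K) :
    ((gl (K := K) m l : ↥(twistedF4 K ε)) : GL chevF4.Idx K) * xg cf r t *
      ((gl (K := K) m l : ↥(twistedF4 K ε)) : GL chevF4.Idx K)⁻¹ = xg cf (act l r) t := by
  induction l with
  | nil => simp [gl, act]
  | cons J l ih =>
    rw [gl, act, ← cnF_conj J (act_lt l r hr), ← ih, Subgroup.coe_mul]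
    group

/-- the conjugates of the elements of the class of type `B₂` -/
noncomputable def eq (l : List Bool) (t u : K) : ↥(twistedF4 K ε) := gl m l * ep m t u * (gl m l)⁻¹

theorem eq_val (l : List Bool) (t u : K) : ((eq m l t u : ↥(twistedF4 K ε)) : GL chevF4.Idx K) =
    xg cf (act l 27) (t ^ ε) * xg cf (act l 25) t * xg cf (act l 28) (t ^ (ε + 1) + u) *
      xg cf (act l 30) (u ^ (ε * 2)) := by
  have h : f4a = 27 ∧ f4b = 25 ∧ f4ab = 28 ∧ f4aab = 30 := by decide +kernel
  obtain ⟨h1, h2, h3, h4⟩ := h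
  rw [← gl_conj m l (by norm_num : 27 < 48), ← gl_conj m l (by norm_num : 25 < 48), ← gl_conj m l (by norm_num : 28 < 48),
    ← gl_conj m l (by norm_num : 30 < 48)]
  simp only [eq, Subgroup.coe_mul, Subgroup.coe_inv, coe_ep, bw, four, List.getD_cons_zero, List.getD_cons_succ,
    h1, h2, h3, h4]
  group

theorem eq_centre (l : List Bool) (u : K) : ((eq m l 0 u : ↥(twistedF4 K ε)) : GL chevF4.Idx K) =
    xg cf (act l 28) u * xg cf (act l 30) (u ^ (ε * 2)) := by
  rw [eq_val, zero_pow (Nat.two_pow_pos m).ne', zero_pow (Nat.succ_ne_zero ε), xg_zero, xg_zero, one_mul,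
    one_mul, zero_add]

theorem eq_rep (l : List Bool) (t : K) : ((eq m l t 0 : ↥(twistedF4 K ε)) : GL chevF4.Idx K) =
    xg cf (act l 27) (t ^ ε) * xg cf (act l 25) t * xg cf (act l 28) (t ^ (ε + 1)) := by
  rw [eq_val, zero_pow (Nat.mul_pos (Nat.two_pow_pos m) two_pos).ne', xg_zero, mul_one, add_zero]

/-- the conjugates of the pair class -/
noncomputable def pq (l : List Bool) (s : K) : ↥(twistedF4 K ε) :=
  gl m l * pPhi m (ChevalleySL2.upper s) * (gl m l)⁻¹

theorem pq_val (l : List Bool) (s : K) : ((pq m l s : ↥(twistedF4 K ε)) : GL chevF4.Idx K) =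
    xg cf (act l 33) (s ^ ε) * xg cf (act l 24) s := by
  have h : f4p1 = 33 ∧ f4p4 = 24 := by decide +kernel
  rw [← gl_conj m l (by norm_num : 33 < 48), ← gl_conj m l (by norm_num : 24 < 48)]
  simp only [pq, Subgroup.coe_mul, Subgroup.coe_inv, coe_pPhi, pairPhi_upper, pr, h.1, h.2]
  group

theorem act_vals :
    ([28, 30].map (act [])) = [28, 30] ∧ ([25, 27, 28, 30].map (act [true, false])) = [31, 35, 40, 46] ∧
    ([24, 33].map (act [false, true])) = [43, 38] ∧
    ([28, 30].map (act [false, true, false])) = [44, 47] := by decide +kernel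

theorem centre_add (l : List Bool) (hl : evenPair (act l 28) (act l 30) = true) (x y : K) :
    eq m l 0 (x + y) = eq m l 0 x * eq m l 0 y := by
  refine Subtype.ext ?_
  rw [Subgroup.coe_mul, eq_centre, eq_centre, eq_centre, ← xg_mul, add_pow_char_pow_two m x y, ← xg_mul]
  have h := (commute_even hl y (x ^ (ε * 2))).eq
  calc _ = xg cf (act l 28) x * (xg cf (act l 28) y * xg cf (act l 30) (x ^ (ε * 2))) *
        xg cf (act l 30) (y ^ (ε * 2)) := by group
    _ = _ := by rw [h]; group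
where
  add_pow_char_pow_two (m : ℕ) (x y : K) : (x + y) ^ (2 ^ m * 2) = x ^ (2 ^ m * 2) + y ^ (2 ^ m * 2) := by
    rw [← pow_succ]; exact add_pow_char_pow x y 2 (m + 1)

theorem seed_even : ∀ r ∈ [31, 35, 40, 46], (∀ s ∈ [28, 30], evenPair r s = true) := by decide +kernel

theorem z_even : ∀ p ∈ [(28, 30), (38, 43), (40, 46), (28, 43), (30, 38), (40, 28), (40, 30), (40, 38), (40, 43),
    (46, 28), (46, 30), (46, 38), (46, 43), (44, 47)], evenPair p.1 p.2 = true := by decide +kernel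

/-- every element of the centre of a class as a commutator -/
theorem seed_comm (u : K) : ⁅eq (K := K) m [] 0 u, pq m [false, true] 1⁆ = eq m [true, false] 0 u := by
  obtain ⟨v0, v1, v2, v3⟩ := act_vals
  simp only [List.map_cons, List.map_nil, List.cons.injEq, and_true] at v0 v1 v2
  refine Subtype.ext ?_
  have hb : ((pq (K := K) m [false, true] 1 : ↥(twistedF4 K ε)) : GL chevF4.Idx K) = xg cf 38 1 * xg cf 43 1 := by
    rw [pq_val, v2.1, v2.2, one_pow]
  have ha : ((eq (K := K) m [] 0 u : ↥(twistedF4 K ε)) : GL chevF4.Idx K) = xg cf 28 u * xg cf 30 (u ^ (ε * 2)) := by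
    rw [eq_centre, v0.1, v0.2]
  show ⁅((eq (K := K) m [] 0 u : ↥(twistedF4 K ε)) : GL chevF4.Idx K),
    ((pq (K := K) m [false, true] 1 : ↥(twistedF4 K ε)) : GL chevF4.Idx K)⁆ = _
  rw [ha, hb, eq_centre, v1.2.2.1, v1.2.2.2]
  set U := u ^ (ε * 2)
  set A := xg cf 28 u with hA
  set B := xg cf 30 U with hB
  set C := xg (F := K) cf 38 1 with hC
  set D := xg (F := K) cf 43 1 with hD
  set Z := xg cf 40 u with hZ
  set W := xg cf 46 U with hW
  have ev : ∀ r s, (r, s) ∈ [(28, 30), (38, 43), (40, 46), (28, 43), (30, 38), (40, 28), (40, 30), (40, 38),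
      (40, 43), (46, 28), (46, 30), (46, 38), (46, 43), (44, 47)] → ∀ t v : K, Commute (xg cf r t) (xg cf s v) :=
    fun r s h => commute_even (z_even (r, s) h)
  have k1 : C * A = A * C * Z := by
    have := comm_one (K := K) (r := 28) (s := 38) (x := 40) (by norm_num) (by norm_num) (by norm_num)
      (by decide +kernel) (by decide +kernel) u 1
    rwa [mul_one] at this
  have k2 : D * B = B * D * W := by
    have := comm_one (K := K) (r := 30) (s := 43) (x := 46) (by norm_num) (by norm_num) (by norm_num)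
      (by decide +kernel) (by decide +kernel) U 1
    rwa [mul_one] at this
  have cDA : D * A = A * D := (ev 28 43 (by simp) u 1).eq.symm
  have cCB : C * B = B * C := (ev 30 38 (by simp) U 1).eq.symm
  have zB : Commute Z B := ev 40 30 (by simp) u U
  have zD : Commute Z D := ev 40 43 (by simp) u 1
  have zA : Commute Z A := ev 40 28 (by simp) u u
  have zC : Commute Z C := ev 40 38 (by simp) u 1
  have wA : Commute W A := ev 46 28 (by simp) U u
  have wB : Commute W B := ev 46 30 (by simp) U U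
  have wC : Commute W C := ev 46 38 (by simp) U 1
  have wD : Commute W D := ev 46 43 (by simp) U 1
  have k : C * D * (A * B) = A * B * (C * D) * (Z * W) := by
    calc C * D * (A * B) = C * (D * A) * B := by group
      _ = C * A * (D * B) := by rw [cDA]; group
      _ = A * C * (Z * B) * D * W := by rw [k1, k2]; group
      _ = A * C * (B * Z) * D * W := by rw [zB.eq]
      _ = A * (C * B) * (Z * D) * W := by group
      _ = A * (B * C) * (D * Z) * W := by rw [cCB, zD.eq]
      _ = _ := by group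
  have hcomm : Commute (Z * W) (A * B * (C * D)) :=
    (((zA.mul_right zB).mul_right (zC.mul_right zD))).mul_left (((wA.mul_right wB).mul_right (wC.mul_right wD)))
  have hsq : (Z * W)⁻¹ = Z * W := by
    rw [mul_inv_rev, hZ, hW, xg_inv, xg_inv, CharTwo.neg_eq, CharTwo.neg_eq]
    exact (ev 40 46 (by simp) u U).eq.symm
  rw [← hcomm.eq] at k
  have k' : A * B * (C * D) = (Z * W) * (C * D * (A * B)) := by
    rw [k]
    conv_rhs => rw [← mul_assoc]; arg 1; arg 1; rw [← hsq]
    group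
  rw [commutatorElement_def, k']
  group

theorem seed_mod : ∀ r ∈ [31, 35, 40, 46], ∀ s ∈ [38, 43], (chevF4.commTerms r s).all (fun c =>
    decide (c.2.1 % 2 = 0) || (decide (c.1 < 48) && decide (24 ≤ c.1) && decide (11 ≤ lv c.1))) = true ∧
    decide (s ≠ r) = true ∧ decide (s ≠ chevF4.neg r) = true := by decide +kernel

theorem bracket_gen_mod {r s : ℕ} (hr : r ∈ [31, 35, 40, 46]) (hs : s ∈ [38, 43]) (t u : K) :
    ⁅xg cf r t, xg cf s u⁆ ∈ R K 11 := by
  obtain ⟨h, h1, h2⟩ := seed_mod r hr s hs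
  simp only [decide_eq_true_eq, List.all_eq_true, Bool.or_eq_true, Bool.and_eq_true] at h h1 h2
  have hr' : 24 ≤ r ∧ r < 48 := (by decide : ∀ r ∈ [31, 35, 40, 46], 24 ≤ r ∧ r < 48) r hr
  have hs' : 24 ≤ s ∧ s < 48 := (by decide : ∀ s ∈ [38, 43], 24 ≤ s ∧ s < 48) s hs
  have hw : wg cf (chevF4.commWord K r s t u) ∈ R K 11 := by
    apply Subgroup.list_prod_mem
    intro g hg
    simp only [ChevalleyDatum.commWord, List.map_map, List.mem_map] at hg
    obtain ⟨c, hcm, rfl⟩ := hg
    rcases h c hcm with he | ⟨⟨a1, a2⟩, a3⟩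
    · simp only [Function.comp_apply, cast2 he, zero_mul, xg_zero]; exact one_mem _
    · exact xg_mem_R a2 a1 a3 _
  have e := comm_formula cf hr'.2 hs'.2 h1 h2 t u
  have hP : xg cf s u * xg cf r t ∈ chevF4.posUnipotent K :=
    mul_mem (R_le_U 0 (xg_mem_R hs'.1 hs'.2 (Nat.zero_le _) u)) (R_le_U 0 (xg_mem_R hr'.1 hr'.2 (Nat.zero_le _) t))
  have e2 : ⁅xg cf r t, xg cf s u⁆ = (xg cf s u * xg cf r t) * (wg cf (chevF4.commWord K r s t u))⁻¹ *
      (xg cf s u * xg cf r t)⁻¹ := by
    rw [commutatorElement_def]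
    conv_rhs => arg 1; arg 1; rw [e]
    group
  rw [e2]
  exact conj_R hP _ (inv_mem hw)

theorem bracket_mod (t v : K) (s : K) : ⁅eq m [true, false] t v, pq m [false, true] s⁆ ∈ N K m 11 := by
  obtain ⟨v0, v1, v2, v3⟩ := act_vals
  simp only [List.map_cons, List.map_nil, List.cons.injEq, and_true] at v1 v2
  obtain ⟨h1, h2, h3, h4⟩ := v1
  rw [mem_N]
  show ⁅((eq m [true, false] t v : ↥(twistedF4 K ε)) : GL chevF4.Idx K),
    ((pq m [false, true] s : ↥(twistedF4 K ε)) : GL chevF4.Idx K)⁆ ∈ _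
  rw [eq_val, pq_val, h1, h2, h3, h4, v2.1, v2.2]
  have hU : ∀ r, 24 ≤ r → r < 48 → ∀ x : K, xg cf r x ∈ chevF4.posUnipotent K := fun r a b x =>
    R_le_U 0 (xg_mem_R a b (Nat.zero_le _) x)
  have right : ∀ r ∈ [31, 35, 40, 46], ∀ x : K, ⁅xg cf r x, xg cf 38 (s ^ ε) * xg cf 43 s⁆ ∈ R K 11 := by
    intro r hr x
    have e : ⁅xg cf r x, xg cf 38 (s ^ ε) * xg cf 43 s⁆ = ⁅xg cf r x, xg cf 38 (s ^ ε)⁆ *
        (xg cf 38 (s ^ ε) * ⁅xg cf r x, xg cf 43 s⁆ * (xg cf 38 (s ^ ε))⁻¹) := by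
      simp only [commutatorElement_def]; group
    rw [e]
    exact mul_mem (bracket_gen_mod hr (by simp) _ _)
      (conj_R (hU 38 (by norm_num) (by norm_num) _) _ (bracket_gen_mod hr (by simp) _ _))
  have left : ∀ {a b y : GL chevF4.Idx K}, a ∈ chevF4.posUnipotent K → ⁅a, y⁆ ∈ R K 11 → ⁅b, y⁆ ∈ R K 11 →
      ⁅a * b, y⁆ ∈ R K 11 := fun {a b y} ha h h' => by
    have e : ⁅a * b, y⁆ = a * ⁅b, y⁆ * a⁻¹ * ⁅a, y⁆ := by simp only [commutatorElement_def]; group
    rw [e]; exact mul_mem (conj_R ha _ h') h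
  refine left (mul_mem (mul_mem (hU 35 ?_ ?_ _) (hU 31 ?_ ?_ _)) (hU 40 ?_ ?_ _))
    (left (mul_mem (hU 35 ?_ ?_ _) (hU 31 ?_ ?_ _))
      (left (hU 35 ?_ ?_ _) (right 35 (by simp) _) (right 31 (by simp) _)) (right 40 (by simp) _))
    (right 46 (by simp) _) <;> norm_num

section Ext

variable {Γ : Type*} [Group Γ] [Finite Γ] {σ : Γ →* ↥(twistedF4 K (2 ^ m))} (hs : Function.Surjective σ)
  (hc : σ.ker ≤ Subgroup.center Γ) (hm : 1 ≤ m)

include hK hs hc hm in
/-- lifts of the two pieces `3` and `11` commute -/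
theorem commute_far {x : K} {d : ↥(twistedF4 K ε)} (hd : d ∈ N K m 11) {g g' : Γ} (hg : σ g = eq m [] 0 x)
    (hg' : σ g' = d) : Commute g g' := by
  obtain ⟨v0, -, -, v3⟩ := act_vals
  simp only [List.map_cons, List.map_nil, List.cons.injEq, and_true] at v0 v3
  set C := chain m hK hm with hC
  have hQ : ∀ u : K, eq m [false, true, false] 0 u ∈ N K m 11 ∧
      co K 11 ((eq m [false, true, false] 0 u : ↥(twistedF4 K ε)) : GL chevF4.Idx K) = u := by
    intro u
    have e : ((eq m [false, true, false] 0 u : ↥(twistedF4 K ε)) : GL chevF4.Idx K) =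
        nf K 11 u (u ^ (ε * 2)) := by
      rw [eq_centre, v3.1, v3.2]; rfl
    exact ⟨(mem_N m).2 (e ▸ nf_mem (by norm_num) _ _), co_eq (by norm_num) (one_mem _) (by rw [e, mul_one])⟩
  have uniq : ∀ {y : ↥(twistedF4 K ε)}, y ∈ N K m 11 →
      y = eq m [false, true, false] 0 (co K 11 (y : GL chevF4.Idx K)) := by
    intro y hy
    have h := C.diff (i := 11) (by decide : 11 < 12) hy (hQ _).1 (hQ (co K 11 (y : GL chevF4.Idx K))).2.symm
    have hb : C.N (11 + 1) = ⊥ := C.top
    rw [hb, Subgroup.mem_bot, inv_mul_eq_one] at h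
    exact h.symm
  refine StemFilt9.commute_weight hs hc (p := 2) hK (tor m hK) (fun x => eq m [] 0 x)
    (fun u => eq m [false, true, false] 0 u) (chi m 3) (chi m 11)
    (centre_add m [] (by decide +kernel)) (centre_add m [false, true, false] (by decide +kernel)) ?_ ?_ ?_
    (chi_gen m hK (by norm_num)) (fun k hk => chi_no m hK hm (by norm_num) (by norm_num) (Or.inl (by decide)) hk)
    x (co K 11 (d : GL chevF4.Idx K)) hg (hg'.trans (uniq hd))
  · intro a b
    refine Subtype.ext ?_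
    show _ * _ = _ * _
    rw [eq_centre, eq_centre, v0.1, v0.2, v3.1, v3.2]
    have ev : ∀ r ∈ [28, 30], ∀ s ∈ [44, 47], evenPair r s = true := by decide +kernel
    exact ((((commute_even (ev 28 (by simp) 44 (by simp)) _ _).mul_right (commute_even (ev 28 (by simp) 47 (by simp)) _ _))).mul_left
      (((commute_even (ev 30 (by simp) 44 (by simp)) _ _).mul_right (commute_even (ev 30 (by simp) 47 (by simp)) _ _)))).eq
  · intro l a
    refine Subtype.ext ?_
    have hG : torus chevF4 (tp m l.1 l.2) * ((eq m [] 0 a : ↥(twistedF4 K ε)) : GL chevF4.Idx K) *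
        (torus chevF4 (tp m l.1 l.2))⁻¹ ∈ twistedF4 K ε :=
      (tor m hK l * eq m [] 0 a * (tor m hK l)⁻¹).2
    show torus chevF4 (tp m l.1 l.2) * _ * (torus chevF4 (tp m l.1 l.2))⁻¹ = _
    have e : ∀ z : K, ((eq m [] 0 z : ↥(twistedF4 K ε)) : GL chevF4.Idx K) = nf K 3 z (z ^ (ε * 2)) := fun z => by
      rw [eq_centre, v0.1, v0.2]; rfl
    rw [e, torus_nf _ (by norm_num)] at hG ⊢
    rw [e, fixed_form m hK (by norm_num) hG (one_mem _) (mul_one _).symm]
    rfl
  · intro l u
    have hm' := C.nrm 11 l _ (hQ u).1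
    refine (uniq hm').trans (congrArg _ ?_)
    refine (C.eqv 11 (by decide : 11 < 12) l _ (hQ u).1).trans ?_
    show (chi m 11 l : K) * co K 11 _ = _
    rw [(hQ u).2]

include hK hs hc hm in
/-- lifts of an element of the class of type `B₂` and of its centre commute -/
theorem commute_seed (l : List Bool) (t v u : K) {g g' : Γ} (hg : σ g = eq m l t v) (hg' : σ g' = eq m l 0 u) :
    Commute g g' := by
  have base : ∀ {x c : Γ}, σ x = eq m [true, false] t v → σ c = eq m [true, false] 0 u → Commute x c := by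
    intro x c hx hcc
    obtain ⟨a, ha⟩ := hs (eq m [] 0 u)
    obtain ⟨b, hb⟩ := hs (pq m [false, true] (1 : K))
    obtain ⟨v0, v1, -, -⟩ := act_vals
    simp only [List.map_cons, List.map_nil, List.cons.injEq, and_true] at v0 v1
    obtain ⟨h1, h2, h3, h4⟩ := v1
    have hxa : Commute (eq m [true, false] t v) (eq m [] 0 u) := by
      refine Subtype.ext ?_
      show _ * _ = _ * _
      rw [eq_val, eq_centre, h1, h2, h3, h4, v0.1, v0.2]
      have ev := fun r hr s hs' (t u : K) => commute_even (seed_even r hr s hs') t u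
      exact (((((ev 35 (by simp) 28 (by simp) _ _).mul_right (ev 35 (by simp) 30 (by simp) _ _)).mul_left
        ((ev 31 (by simp) 28 (by simp) _ _).mul_right (ev 31 (by simp) 30 (by simp) _ _))).mul_left
        ((ev 40 (by simp) 28 (by simp) _ _).mul_right (ev 40 (by simp) 30 (by simp) _ _))).mul_left
        ((ev 46 (by simp) 28 (by simp) _ _).mul_right (ev 46 (by simp) 30 (by simp) _ _))).eq
    have hd : σ ⁅x, b⁆ ∈ N K m 11 := by rw [map_commutatorElement, hx, hb]; exact bracket_mod m t v 1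
    have had : Commute a ⁅x, b⁆ := commute_far m hK hs hc hm hd ha rfl
    have hab : σ ⁅a, b⁆ = σ c := by rw [map_commutatorElement, ha, hb, seed_comm, hcc]
    rw [← commutatorElement_eq_one_iff_commute,
      StemPairing.bracket_congr hc (a' := x) (b' := ⁅a, b⁆) rfl hab.symm]
    have h1' : x * ⁅a, b⁆ * x⁻¹ = ⁅a, ⁅x, b⁆ * b⁆ := by
      rw [conjugate_commutatorElement]
      refine StemPairing.bracket_congr hc ?_ (by rw [commutatorElement_def]; group)
      rw [map_mul, map_mul, map_inv, hx, ha, hxa.eq, mul_inv_cancel_right]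
    have h2' : ⁅a, ⁅x, b⁆ * b⁆ = ⁅x, b⁆ * ⁅a, b⁆ * ⁅x, b⁆⁻¹ := by
      have e : ⁅a, ⁅x, b⁆ * b⁆ = ⁅a, ⁅x, b⁆⁆ * (⁅x, b⁆ * ⁅a, b⁆ * ⁅x, b⁆⁻¹) := by
        simp only [commutatorElement_def]; group
      rw [e, commutatorElement_eq_one_iff_commute.2 had, one_mul]
    have hdab : Commute ⁅x, b⁆ ⁅a, b⁆ := by
      have hcd : Commute (σ ⁅a, b⁆) (σ ⁅x, b⁆) := by
        rw [hab, hcc]
        have h := (chain m hK hm).br 0 11 (Nat.zero_le _) (by decide : 11 < 12) (eq m [true, false] 0 u)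
          ((mem_N m).2 (by
            rw [eq_centre, h3, h4]
            exact mul_mem (xg_mem_R (by norm_num) (by norm_num) (Nat.zero_le _) _)
              (xg_mem_R (by norm_num) (by norm_num) (Nat.zero_le _) _))) _ hd
        rw [show (chain m hK hm).N (11 + 1) = ⊥ from (chain m hK hm).top, Subgroup.mem_bot,
          commutatorElement_eq_one_iff_commute] at h
        exact h
      rw [← commutatorElement_eq_one_iff_commute] at had
      have z := StemPairing.bracket_mem_ker hcd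
      -- conjugation by a commutator only sees the images
      have e : ⁅x, b⁆ * ⁅a, b⁆ * ⁅x, b⁆⁻¹ = ⁅⁅x, b⁆ * a * ⁅x, b⁆⁻¹, ⁅x, b⁆ * b * ⁅x, b⁆⁻¹⁆ :=
        conjugate_commutatorElement _ _ _
      show _ = _
      have e2 : ⁅x, b⁆ * ⁅a, b⁆ * ⁅x, b⁆⁻¹ = ⁅a, b⁆ := by
        rw [e]
        refine StemPairing.bracket_congr hc ?_ ?_
        · rw [show ⁅x, b⁆ * a * ⁅x, b⁆⁻¹ = a by
            rw [← (commutatorElement_eq_one_iff_commute.1 had).eq, mul_inv_cancel_right]]
        · have h := (chain m hK hm).br 0 11 (Nat.zero_le _) (by decide : 11 < 12) (σ b)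
            ((mem_N m).2 (by
              rw [hb, pq_val]
              have v2 := act_vals.2.2.1
              simp only [List.map_cons, List.map_nil, List.cons.injEq, and_true] at v2
              rw [v2.1, v2.2]
              exact mul_mem (xg_mem_R (by norm_num) (by norm_num) (Nat.zero_le _) _)
                (xg_mem_R (by norm_num) (by norm_num) (Nat.zero_le _) _))) _ hd
          rw [show (chain m hK hm).N (11 + 1) = ⊥ from (chain m hK hm).top, Subgroup.mem_bot,
            commutatorElement_eq_one_iff_commute] at h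
          rw [map_mul, map_mul, map_inv, ← h.eq, mul_inv_cancel_right]
      exact mul_inv_eq_iff_eq_mul.1 e2
    rw [commutatorElement_def, h1', h2', hdab.eq, mul_inv_cancel_right, mul_inv_cancel]
  obtain ⟨γ, hγ⟩ := hs (gl (K := K) m [true, false] * (gl (K := K) m l)⁻¹)
  have hmap : ∀ (y : Γ) (a b : K), σ y = eq m l a b → σ (γ * y * γ⁻¹) = eq m [true, false] a b := by
    intro y a b hy
    rw [map_mul, map_mul, map_inv, hγ, hy]
    simp only [eq]; group
  have h := base (hmap g t v hg) (hmap g' 0 u hg')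
  exact (SemiconjBy.conj_iff (a := g) (x := g') (y := g') (b := γ)).1 h

include hK hs hc hm in
/-- the four exceptional pairings -/
theorem kill_special {i j : ℕ} (h : (i, j) ∈ [(3, 1), (7, 2), (10, 5), (11, 4)]) :
    StemFilt9.Kill (chain m hK hm) σ i j := by
  have key : ∀ l, (∀ t : K, ∃ t' : K, eq m l t' 0 ∈ N K m j ∧
      co K j ((eq m l t' 0 : ↥(twistedF4 K ε)) : GL chevF4.Idx K) = t) →
      act l 28 = fr i → act l 30 = sr i → j ≤ i → i < 12 → StemFilt9.Kill (chain m hK hm) σ i j := by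
    intro l hrep h28 h30 hji hi
    refine StemFilt9.kill_exact (chain m hK hm) hs hc hji hi fun t u => ?_
    obtain ⟨t', hy, hyt⟩ := hrep t
    have e : ((eq m l 0 u : ↥(twistedF4 K ε)) : GL chevF4.Idx K) = nf K i u (u ^ (ε * 2)) := by
      rw [eq_centre, h28, h30]; rfl
    exact ⟨_, hy, eq m l 0 u, (mem_N m).2 (e ▸ nf_mem hi _ _), hyt, co_eq hi (one_mem _) (by rw [e, mul_one]),
      fun a b ha hb => commute_seed m hK hs hc hm l t' 0 u ha hb⟩
  have rep' : ∀ l, act l 25 = fr j → act l 27 = sr j → (24 ≤ act l 28 ∧ j + 1 ≤ lv (act l 28)) → j < 12 →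
      ∀ t : K, eq m l t 0 ∈ N K m j ∧ co K j ((eq m l t 0 : ↥(twistedF4 K ε)) : GL chevF4.Idx K) = t := by
    intro l h25 h27 h28 hj t
    obtain ⟨a1, a2, a3, b1, b2, b3, -⟩ := fr_sr j hj
    have hv : xg cf (act l 28) (t ^ (ε + 1)) ∈ R K (j + 1) := xg_mem_R h28.1 (act_lt l 28 (by norm_num)) h28.2 _
    refine ⟨(mem_N m).2 ?_, co_eq' hj hv (b := t ^ ε) (by rw [eq_rep, h25, h27])⟩
    rw [eq_rep, h25, h27]
    exact mul_mem (mul_mem (xg_mem_R b1 b2 b3.ge _) (xg_mem_R a1 a2 a3.ge _)) (R_mono (by omega) hv)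
  simp only [List.mem_cons, List.not_mem_nil, or_false, Prod.mk.injEq] at h
  rcases h with ⟨rfl, rfl⟩ | ⟨rfl, rfl⟩ | ⟨rfl, rfl⟩ | ⟨rfl, rfl⟩
  · exact key [] (fun t => ⟨t, rep' [] (by decide) (by decide) (by decide) (by norm_num) t⟩)
      (by decide) (by decide) (by norm_num) (by norm_num)
  · exact key [false] (fun t => ⟨t, rep' [false] (by decide +kernel) (by decide +kernel) (by decide +kernel)
      (by norm_num) t⟩) (by decide +kernel) (by decide +kernel) (by norm_num) (by norm_num)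
  · exact key [true, false] (fun t => ⟨t, rep' [true, false] (by decide +kernel) (by decide +kernel)
      (by decide +kernel) (by norm_num) t⟩) (by decide +kernel) (by decide +kernel) (by norm_num) (by norm_num)
  · refine key [false, true, false] ?_ (by decide +kernel) (by decide +kernel) (by norm_num) (by norm_num)
    intro t
    have hv : (act [false, true, false] 27 = fr 4 ∧ act [false, true, false] 25 = sr 4) ∧
        24 ≤ act [false, true, false] 28 ∧ 5 ≤ lv (act [false, true, false] 28) := by decide +kernel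
    obtain ⟨⟨h27, h25⟩, h28⟩ := hv
    have h' : ∀ t' : K, eq m [false, true, false] t' 0 ∈ N K m 4 ∧
        co K 4 ((eq m [false, true, false] t' 0 : ↥(twistedF4 K ε)) : GL chevF4.Idx K) = t' ^ ε := by
      intro t'
      obtain ⟨a1, a2, a3, b1, b2, b3, -⟩ := fr_sr 4 (by norm_num)
      have hv' : xg cf (act [false, true, false] 28) (t' ^ (ε + 1)) ∈ R K (4 + 1) :=
        xg_mem_R h28.1 (act_lt _ 28 (by norm_num)) h28.2 _
      refine ⟨(mem_N m).2 ?_, co_eq (by norm_num) hv' (b := t') (by rw [eq_rep, h25, h27]; rfl)⟩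
      rw [eq_rep, h25, h27]
      exact mul_mem (mul_mem (xg_mem_R a1 a2 a3.ge _) (xg_mem_R b1 b2 b3.ge _)) (R_mono (by omega) hv')
    refine ⟨t ^ (ε * 2), (h' _).1, (h' _).2.trans ?_⟩
    exact (pow_twist m hK t).2

set_option maxHeartbeats 400000 in
include hK hs hc hm in
/-- `U` has no multiplier -/
theorem kerFree_U : StemBasic.KerFree σ (N K m 0) := by
  refine StemFilt9.kerFree (chain m hK hm) hs hc fun i hi j hji => ?_
  have hi' : i < 12 := hi
  by_cases hp : par i j = false ∨ i = j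
  · exact StemFilt9.kill_weight (chain m hK hm) hs hc (p := 2) hK hji hi (chi_gen m hK (lt_of_le_of_lt hji hi'))
      fun k hk => chi_no m hK hm hi' hji hp hk
  · refine kill_special m hK hs hc hm ?_
    simp only [not_or, Bool.not_eq_false, par, Bool.or_eq_true, beq_iff_eq] at hp
    simpa using hp.1.resolve_left hp.2

end Ext

end Main

end Cfsg.Agent.F4StemU9
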