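import Cfsg.Agent.Lib.F4StemU9
import Cfsg.Agent.Lib.SuzukiGroupLie
import Cfsg.Agent.Lib.SuzukiGroupCentralizer

/-!
The subgroup of the class of type `B₂` of `²F₄(q)` acts faithfully as a Suzuki group on four root spaces of the
adjoint module; it has no multiplier of odd order.
-/

set_option autoImplicit false
set_option linter.unusedSectionVars false
set_option linter.unusedVariables false
set_option linter.unusedSimpArgs false
set_option maxRecDepth 20000

namespace Cfsg.Agent.F4SzEmbed9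

open Cfsg.Lie Cfsg.Agent.ChevalleyCert Cfsg.Agent.ChevalleyCore Cfsg.Agent.ChevalleyRoots Cfsg.Agent.ChevalleyTorus
  Cfsg.Agent.TwistedCore Cfsg.Agent.TwistedTools Cfsg.Agent.ChevWeyl Cfsg.Agent.ChevBruhat Cfsg.Agent.TwistedF4Classes
  Cfsg.Agent.F4Levels9 Cfsg.Agent.F4StemU9 Cfsg.Agent.TwistAutF4
open scoped commutatorElement Matrix

/-- the four roots -/
def rt : Fin 4 → Fin chevF4.nroots := ![⟨37, by decide⟩, ⟨35, by decide⟩, ⟨34, by decide⟩, ⟨33, by decide⟩]

/-- the coordinates -/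
def idx (a : Fin 4) : chevF4.Idx := Sum.inr (rt a)

theorem idx_inj : Function.Injective idx := Sum.inr_injective.comp (by decide : Function.Injective rt)

/-- the moves of the eight roots -/
def lin : ℕ → List (Fin 4 × Fin 4)
  | 27 => [(0, 1), (2, 3)]
  | 25 => [(1, 2)]
  | 28 => [(1, 3), (0, 2)]
  | 30 => [(0, 3)]
  | 20 => [(1, 0), (3, 2)]
  | 22 => [(2, 1)]
  | 19 => [(3, 1), (2, 0)]
  | 17 => [(3, 0)]
  | _ => []

/-- the check on one entry -/
def entryOk (r : ℕ) (b : Fin 4) (u : Fin chevF4.nroots) : Bool :=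
  let l := (chevF4.chainCoeff r (rt b).val u.val).map fun c => (c.1, c.2 % 2)
  if ((lin r).any fun p => decide (rt p.1 = u) && decide (p.2 = b)) then decide (l = [(1, 1)])
  else l.all fun c => decide (c.2 = 0)

theorem entries_ok : ∀ r ∈ [27, 25, 28, 30, 20, 22, 19, 17], ∀ b : Fin 4, ∀ u : Fin chevF4.nroots,
    entryOk r b u = true ∧ (rt b).val ≠ r ∧ (rt b).val ≠ chevF4.negIdx.getD r 0 ∧ r < 48 := by decide +kernel

section Field

variable {K : Type*} [Field K] [CharP K 2]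

/-- the matrix of a root element on the four coordinates -/
def mat (r : ℕ) (t : K) : Matrix (Fin 4) (Fin 4) K :=
  Matrix.of fun a b => (if a = b then 1 else 0) + if (a, b) ∈ lin r then t else 0

theorem x_entry {r : ℕ} (hr : r ∈ [27, 25, 28, 30, 20, 22, 19, 17]) (t : K) (b : Fin 4) :
    (∀ a, ((xg cf r t : GL chevF4.Idx K) : Matrix chevF4.Idx chevF4.Idx K) (idx a) (idx b) = mat r t a b) ∧
    ∀ i, i ∉ Set.range idx → ((xg cf r t : GL chevF4.Idx K) : Matrix chevF4.Idx chevF4.Idx K) i (idx b) = 0 := by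
  obtain ⟨-, hne1, hne2, hr'⟩ := entries_ok r hr b (rt b)
  have e : ∀ i, ((xg cf r t : GL chevF4.Idx K) : Matrix chevF4.Idx chevF4.Idx K) i (idx b) =
      match i with
      | Sum.inl _ => 0
      | Sum.inr u => (if u = rt b then 1 else 0) +
        ((chevF4.chainCoeff r (rt b).val u.val).map fun km => ((km.2 : ℤ) : K) * t ^ km.1).sum := by
    intro i
    rw [coe_xg, ChevalleyDatum.x, dif_pos (show r < chevF4.nroots from hr')]
    have h1 : ¬ rt b = (⟨r, hr'⟩ : Fin chevF4.nroots) := fun h => hne1 (congrArg Fin.val h)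
    simp only [ChevalleyDatum.xMat, Matrix.of_apply, idx]
    rw [if_neg h1, if_neg hne2]
    rcases i with i | u <;> rfl
  have sum_eq : ∀ u, ((chevF4.chainCoeff r (rt b).val u.val).map fun km => ((km.2 : ℤ) : K) * t ^ km.1).sum =
      if (lin r).any (fun p => decide (rt p.1 = u) && decide (p.2 = b)) then t else 0 := by
    intro u
    obtain ⟨hok, -⟩ := entries_ok r hr b u
    simp only [entryOk] at hok
    split_ifs at hok ⊢ with h
    · simp only [decide_eq_true_eq] at hok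
      match hl : chevF4.chainCoeff r (rt b).val u.val, hok with
      | [], hok => simp at hok
      | _ :: _ :: _, hok => simp at hok
      | [c], hok =>
        simp only [List.map_cons, List.map_nil, List.cons.injEq, and_true, Prod.mk.injEq] at hok
        have hc : ((c.2 - 1 : ℤ) : K) = 0 := cast2 (by omega)
        rw [Int.cast_sub, Int.cast_one, sub_eq_zero] at hc
        simp [hok.1, hc]
    · simp only [List.all_eq_true, List.mem_map, decide_eq_true_eq] at hok
      apply List.sum_eq_zero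
      intro x hx
      obtain ⟨c, hc, rfl⟩ := List.mem_map.1 hx
      rw [cast2 (hok _ ⟨c, hc, rfl⟩), zero_mul]
  refine ⟨fun a => ?_, fun i hi => ?_⟩
  · rw [e]
    show (if rt a = rt b then (1 : K) else 0) + _ = _
    rw [sum_eq, mat, Matrix.of_apply]
    have hinj : Function.Injective rt := by decide
    congr 1
    · simp [hinj.eq_iff]
    · refine if_congr ?_ rfl rfl
      simp only [List.any_eq_true, Bool.and_eq_true, decide_eq_true_eq]
      constructor
      · rintro ⟨p, hp, h1, h2⟩; rwa [show (a, b) = p from Prod.ext (hinj h1).symm h2.symm]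
      · intro h; exact ⟨_, h, rfl, rfl⟩
  · rw [e]
    rcases i with i | u
    · rfl
    · show (if u = rt b then (1 : K) else 0) + _ = _
      rw [sum_eq, if_neg (fun h => hi ⟨b, by rw [idx, h]⟩), if_neg, add_zero]
      simp only [List.any_eq_true, Bool.and_eq_true, decide_eq_true_eq]
      rintro ⟨p, -, h1, -⟩
      exact hi ⟨p.1, by rw [idx, h1]⟩

variable (K) in
/-- the elements keeping the four coordinates -/
def St : Subgroup (GL chevF4.Idx K) where
  carrier := {g | ∀ b i, i ∉ Set.range idx → (g : Matrix chevF4.Idx chevF4.Idx K) i (idx b) = 0 ∧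
    ((g⁻¹ : GL chevF4.Idx K) : Matrix chevF4.Idx chevF4.Idx K) i (idx b) = 0}
  one_mem' := fun b i hi => by
    have : i ≠ idx b := fun h => hi ⟨b, h.symm⟩
    simp [Matrix.one_apply_ne this]
  mul_mem' := fun {g h} hg hh b i hi => by
    constructor
    · rw [Units.val_mul, Matrix.mul_apply]
      refine Finset.sum_eq_zero fun k _ => ?_
      by_cases hk : k ∈ Set.range idx
      · obtain ⟨c, rfl⟩ := hk
        rw [(hg c i hi).1, zero_mul]
      · rw [(hh b k hk).1, mul_zero]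
    · rw [mul_inv_rev, Units.val_mul, Matrix.mul_apply]
      refine Finset.sum_eq_zero fun k _ => ?_
      by_cases hk : k ∈ Set.range idx
      · obtain ⟨c, rfl⟩ := hk
        rw [(hh c i hi).2, zero_mul]
      · rw [(hg b k hk).2, mul_zero]
  inv_mem' := fun {g} hg b i hi => ⟨(hg b i hi).2, by rw [inv_inv]; exact (hg b i hi).1⟩

/-- the restriction -/
def res (g : GL chevF4.Idx K) : Matrix (Fin 4) (Fin 4) K :=
  Matrix.of fun a b => (g : Matrix chevF4.Idx chevF4.Idx K) (idx a) (idx b)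

/-- the restriction as a homomorphism -/
noncomputable def rho : ↥(St K) →* GL (Fin 4) K :=
  MonoidHom.toHomUnits
    { toFun := fun g => res (g : GL chevF4.Idx K)
      map_one' := by
        ext a b
        simp [res, Matrix.one_apply, idx_inj.eq_iff]
      map_mul' := fun g h => by
        ext a b
        simp only [res, Matrix.of_apply, Subgroup.coe_mul, Units.val_mul, Matrix.mul_apply]
        exact (Fintype.sum_of_injective idx idx_inj _ _ (fun k hk => by rw [(h.2 b k hk).1, mul_zero])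
          fun c => rfl).symm }

theorem rho_val (g : ↥(St K)) : ((rho g : GL (Fin 4) K) : Matrix (Fin 4) (Fin 4) K) = res (g : GL chevF4.Idx K) :=
  rfl

theorem xg_mem_St {r : ℕ} (hr : r ∈ [27, 25, 28, 30, 20, 22, 19, 17]) (t : K) : xg cf r t ∈ St K :=
  fun b i hi => ⟨(x_entry hr t b).2 i hi, by rw [xg_inv]; exact (x_entry hr (-t) b).2 i hi⟩

theorem res_xg {r : ℕ} (hr : r ∈ [27, 25, 28, 30, 20, 22, 19, 17]) (t : K) : res (xg cf r t) = mat r t := by
  ext a b
  exact (x_entry hr t b).1 a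

theorem res_mul {g h : GL chevF4.Idx K} (hg : g ∈ St K) (hh : h ∈ St K) : res (g * h) = res g * res h := by
  have h1 := (rho (K := K)).map_mul ⟨g, hg⟩ ⟨h, hh⟩
  exact congrArg Units.val h1

theorem torus_mem_St (z : Fin chevF4.rank → Kˣ) : torus chevF4 z ∈ St K := by
  intro b i hi
  have : i ≠ idx b := fun h => hi ⟨b, h.symm⟩
  rw [← map_inv, coe_torus, coe_torus, tmat, tmat, Matrix.diagonal_apply_ne _ this,
    Matrix.diagonal_apply_ne _ this]
  exact ⟨rfl, rfl⟩

theorem res_torus (z : Fin chevF4.rank → Kˣ) :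
    res (torus chevF4 z) = Matrix.diagonal fun a => (tchar chevF4 z (rt a).val : K) := by
  ext a b
  simp only [res, Matrix.of_apply, coe_torus, tmat]
  by_cases h : a = b
  · subst h
    rw [Matrix.diagonal_apply_eq, Matrix.diagonal_apply_eq]
    rfl
  · rw [Matrix.diagonal_apply_ne _ (fun e => h (idx_inj e)), Matrix.diagonal_apply_ne _ h]

end Field

section Main

variable {K : Type*} [Field K] [Fintype K] [CharP K 2] (m : ℕ) (hK : Fintype.card K = 2 ^ (2 * m + 1)) (hm : 1 ≤ m)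

local notation "ε" => (2 ^ m : ℕ)

theorem ids : f4a = 27 ∧ f4b = 25 ∧ f4ab = 28 ∧ f4aab = 30 ∧ f4ma = 20 ∧ f4mb = 22 ∧ chevF4.neg 27 = 20 ∧
    chevF4.neg 25 = 22 := by decide +kernel

include hK hm in
theorem res_ep (t u : K) :
    ((ep m t u : ↥(twistedF4 K ε)) : GL chevF4.Idx K) ∈ St K ∧
    res ((ep m t u : ↥(twistedF4 K ε)) : GL chevF4.Idx K) =
      SuzukiGroupBasic.Tm m (t ^ ε) (t ^ (ε + 1) + u) := by
  haveI := SuzukiGroupBasic.Param.mk' (F := K) hm hK
  obtain ⟨h1, h2, h3, h4, -⟩ := ids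
  have e : ((ep m t u : ↥(twistedF4 K ε)) : GL chevF4.Idx K) =
      xg cf 27 (t ^ ε) * xg cf 25 t * xg cf 28 (t ^ (ε + 1) + u) * xg cf 30 (u ^ (ε * 2)) := by
    simp only [coe_ep, bw, four, List.getD_cons_zero, List.getD_cons_succ, h1, h2, h3, h4]
  have m1 := xg_mem_St (K := K) (r := 27) (by simp) (t ^ ε)
  have m2 := xg_mem_St (K := K) (r := 25) (by simp) t
  have m3 := xg_mem_St (K := K) (r := 28) (by simp) (t ^ (ε + 1) + u)
  have m4 := xg_mem_St (K := K) (r := 30) (by simp) (u ^ (ε * 2))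
  rw [e]
  refine ⟨mul_mem (mul_mem (mul_mem m1 m2) m3) m4, ?_⟩
  rw [res_mul (mul_mem (mul_mem m1 m2) m3) m4, res_mul (mul_mem m1 m2) m3, res_mul m1 m2, res_xg (by simp),
    res_xg (by simp), res_xg (by simp), res_xg (by simp)]
  have hsA : SuzukiGroupBasic.sg m (t ^ ε) = t := by
    rw [SuzukiGroupBasic.sg, pow_succ]; exact (pow_twist m hK t).1
  have hsu : u ^ (ε * 2) = SuzukiGroupBasic.sg m u := by rw [SuzukiGroupBasic.sg, pow_succ]
  have hW : t ^ (ε + 1) = t ^ ε * t := pow_succ t ε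
  have hsb : SuzukiGroupBasic.sg m (t ^ (ε + 1) + u) = t * SuzukiGroupBasic.sg m t + SuzukiGroupBasic.sg m u := by
    rw [SuzukiGroupBasic.sg_add, hW, SuzukiGroupBasic.sg_mul, hsA]
  have hst : SuzukiGroupBasic.sg m t = (t ^ ε) ^ 2 := by
    rw [SuzukiGroupBasic.sg, ← pow_mul, pow_succ]
  rw [hsu]
  ext a b
  fin_cases a <;> fin_cases b <;>
    simp [mat, lin, SuzukiGroupBasic.Tm, SuzukiGroupBasic.ff, Matrix.mul_apply, Fin.sum_univ_four, hsA, hsb,
      hst, hW] <;> grind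

include hK in
theorem res_cn :
    cnF (K := K) true ∈ St K ∧ res (cnF (K := K) true) = suzukiForm K := by
  obtain ⟨h1, h2, -, -, h5, h6, h7, h8⟩ := ids
  have hA : ng cf 27 (1 : K) = xg cf 27 1 * xg cf 20 1 * xg cf 27 1 := by
    simp [ng, h7, CharTwo.neg_eq]
  have hB : ng cf 25 (1 : K) = xg cf 25 1 * xg cf 22 1 * xg cf 25 1 := by
    simp [ng, h8, CharTwo.neg_eq]
  have a1 := xg_mem_St (K := K) (r := 27) (by simp) 1
  have a2 := xg_mem_St (K := K) (r := 20) (by simp) 1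
  have b1 := xg_mem_St (K := K) (r := 25) (by simp) 1
  have b2 := xg_mem_St (K := K) (r := 22) (by simp) 1
  have mA : ng cf 27 (1 : K) ∈ St K := hA ▸ mul_mem (mul_mem a1 a2) a1
  have mB : ng cf 25 (1 : K) ∈ St K := hB ▸ mul_mem (mul_mem b1 b2) b1
  show ng cf f4a 1 * ng cf f4b 1 * ng cf f4a 1 * ng cf f4b 1 ∈ St K ∧ res (ng cf f4a 1 * ng cf f4b 1 * ng cf f4a 1 * ng cf f4b (1 : K)) = _
  rw [h1, h2]
  refine ⟨mul_mem (mul_mem (mul_mem mA mB) mA) mB, ?_⟩
  rw [res_mul (mul_mem (mul_mem mA mB) mA) mB, res_mul (mul_mem mA mB) mA, res_mul mA mB]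
  have eA : res (ng cf 27 (1 : K)) = !![0, 1, 0, 0; 1, 0, 0, 0; 0, 0, 0, 1; 0, 0, 1, 0] := by
    rw [hA, res_mul (mul_mem a1 a2) a1, res_mul a1 a2, res_xg (by simp), res_xg (by simp)]
    ext a b
    fin_cases a <;> fin_cases b <;>
      simp [mat, lin, Matrix.mul_apply, Fin.sum_univ_four, CharTwo.add_self_eq_zero]
  have eB : res (ng cf 25 (1 : K)) = !![1, 0, 0, 0; 0, 0, 1, 0; 0, 1, 0, 0; 0, 0, 0, 1] := by
    rw [hB, res_mul (mul_mem b1 b2) b1, res_mul b1 b2, res_xg (by simp), res_xg (by simp)]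
    ext a b
    fin_cases a <;> fin_cases b <;>
      simp [mat, lin, Matrix.mul_apply, Fin.sum_univ_four, CharTwo.add_self_eq_zero]
  rw [eA, eB]
  ext a b
  fin_cases a <;> fin_cases b <;> simp [suzukiForm, Matrix.mul_apply, Fin.sum_univ_four]

/-- the representative of the class of type `B₂` -/
noncomputable def nb : ↥(twistedF4 K ε) := ⟨cnF true, cnF_mem m true⟩

/-- the rank one subgroup -/
noncomputable def Lb : Subgroup ↥(twistedF4 K ε) :=
  Subgroup.closure ({x | ∃ t u, x = ep m t u} ∪ {x | ∃ t u, x = nb m * ep m t u * (nb (K := K) m)⁻¹})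

theorem ep_mem_Lb (t u : K) : ep m t u ∈ Lb (K := K) m := Subgroup.subset_closure (Or.inl ⟨t, u, rfl⟩)

include hK hm in
theorem Lb_le_St {g : ↥(twistedF4 K ε)} (hg : g ∈ Lb (K := K) m) : (g : GL chevF4.Idx K) ∈ St K := by
  induction hg using Subgroup.closure_induction with
  | mem x hx =>
    rcases hx with ⟨t, u, rfl⟩ | ⟨t, u, rfl⟩
    · exact (res_ep m hK hm t u).1
    · exact mul_mem (mul_mem (res_cn m hK).1 (res_ep m hK hm t u).1) (inv_mem (res_cn m hK).1)
  | one => exact one_mem _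
  | mul a b _ _ ha hb => exact mul_mem ha hb
  | inv a _ ha => exact inv_mem ha

/-- the restriction on the rank one subgroup -/
noncomputable def psi : ↥(Lb (K := K) m) →* GL (Fin 4) K :=
  rho.comp (((twistedF4 K ε).subtype.comp (Lb (K := K) m).subtype).codRestrict (St K) fun g => Lb_le_St m hK hm g.2)

theorem psi_val (g : ↥(Lb (K := K) m)) :
    ((psi m hK hm g : GL (Fin 4) K) : Matrix (Fin 4) (Fin 4) K) = res ((g : ↥(twistedF4 K ε)) : GL chevF4.Idx K) :=
  rfl

include hK hm in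
theorem psi_mem_Sz (g : ↥(Lb (K := K) m)) : psi m hK hm g ∈ Cfsg.Lie.Sz K (2 ^ (m + 1)) := by
  haveI := SuzukiGroupBasic.Param.mk' (F := K) hm hK
  set Sz' := Cfsg.Lie.Sz K (2 ^ (m + 1))
  have hep : ∀ t u, psi m hK hm ⟨ep m t u, ep_mem_Lb m t u⟩ ∈ Sz' := fun t u => by
    refine Subgroup.subset_closure (SuzukiGroupLie.mem_gen_iff.mpr ?_)
    rw [psi_val, (res_ep m hK hm t u).2]
    exact SuzukiGroupLie.isGen_Tm _ _
  let W' : GL (Fin 4) K := rho ⟨cnF true, (res_cn m hK).1⟩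
  have hW : W' ∈ Sz' := by
    refine Subgroup.subset_closure (SuzukiGroupLie.mem_gen_iff.mpr ?_)
    show SuzukiGroupLie.IsGen m (res (cnF (K := K) true))
    rw [(res_cn m hK).2]
    exact SuzukiGroupLie.isGen_W
  suffices h : ∀ x ∈ Lb (K := K) m, ∀ hx : x ∈ Lb (K := K) m, psi m hK hm ⟨x, hx⟩ ∈ Sz' from h g.1 g.2 g.2
  intro x hx
  induction hx using Subgroup.closure_induction with
  | mem y hy =>
    intro hy'
    rcases hy with ⟨t, u, rfl⟩ | ⟨t, u, rfl⟩
    · exact hep t u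
    · have e : psi m hK hm ⟨nb m * ep m t u * (nb m)⁻¹, hy'⟩ = W' * psi m hK hm ⟨ep m t u, ep_mem_Lb m t u⟩ * W'⁻¹ := by
        show rho _ = rho _ * rho _ * (rho _)⁻¹
        rw [← map_inv, ← map_mul, ← map_mul]
        congr 1
      rw [e]
      exact mul_mem (mul_mem hW (hep t u)) (inv_mem hW)
  | one =>
    intro h1
    rw [show (⟨1, h1⟩ : ↥(Lb (K := K) m)) = 1 from rfl, map_one]
    exact one_mem _
  | mul a b ha hb iha ihb =>
    intro hab
    rw [show (⟨a * b, hab⟩ : ↥(Lb (K := K) m)) = ⟨a, ha⟩ * ⟨b, hb⟩ from rfl, map_mul]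
    exact mul_mem (iha ha) (ihb hb)
  | inv a ha iha =>
    intro hai
    rw [show (⟨a⁻¹, hai⟩ : ↥(Lb (K := K) m)) = (⟨a, ha⟩ : ↥(Lb (K := K) m))⁻¹ from rfl, map_inv]
    exact inv_mem (iha ha)

/-! ### the Levi decomposition -/

/-- a torus element centralising the class -/
noncomputable def zt (s : Kˣ) : ↥(twistedF4 K ε) := tor m hK (s, s ^ (ε + 1))

theorem zexp (E : ℤ) : ∀ i < 12, i ≠ 1 → i ≠ 3 → ∃ x : ℤ, (2 * E ^ 2 - 1) ∣ (al E i + be E i * (E + 1)) * x - 1 := by
  intro i hi h1' h3'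
  have h := F4StemU9.cc_vals
  simp only [List.cons.injEq, and_true] at h
  obtain ⟨h0, h1, h2, h3, h4, h5, h6, h7, h8, h9, h10, h11⟩ := h
  interval_cases i
  · exact ⟨2 * (1 + E), -1, by simp [al, be, h0]; ring⟩
  · exact absurd rfl h1'
  · exact ⟨2 * (1 + E), -2 * (1 + E) - 1, by simp [al, be, h2]; ring⟩
  · exact absurd rfl h3'
  · exact ⟨2 * (1 + E), -1, by simp [al, be, h4]; ring⟩
  · exact ⟨2 * (1 + E), 2 * (1 + E) - 1, by simp [al, be, h5]; ring⟩
  · exact ⟨2 * (1 + E), -1, by simp [al, be, h6]; ring⟩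
  · exact ⟨2, -1, by simp [al, be, h7]; ring⟩
  · exact ⟨4 * E ^ 2, 2 * E ^ 2 + 1, by simp [al, be, h8]; ring⟩
  · exact ⟨2, -1, by simp [al, be, h9]; ring⟩
  · exact ⟨4 * E ^ 2, 2 * E ^ 2 + 1, by simp [al, be, h10]; ring⟩
  · exact ⟨2 * E, 1, by simp [al, be, h11]; ring⟩

theorem zfix (E : ℤ) : (2 * E ^ 2 - 1) ∣ al E 1 + be E 1 * (E + 1) ∧ (2 * E ^ 2 - 1) ∣ al E 3 + be E 3 * (E + 1) := by
  have h := F4StemU9.cc_vals
  simp only [List.cons.injEq, and_true] at h
  obtain ⟨h0, h1, h2, h3, -⟩ := h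
  exact ⟨⟨-1, by simp [al, be, h1]; ring⟩, ⟨0, by simp [al, be, h3]; ring⟩⟩

include hK in
theorem chi_z (i : ℕ) (s : Kˣ) : chi m i (s, s ^ (ε + 1)) = s ^ (al (2 ^ m) i + be (2 ^ m) i * (2 ^ m + 1)) := by
  rw [chi_eq, ← zpow_natCast, ← zpow_mul, ← zpow_add]
  congr 1
  push_cast
  ring

include hK in
theorem z_comm_class (s : Kˣ) : (∀ t u : K, Commute (zt m hK s) (ep m t u)) ∧ Commute (zt m hK s) (nb (K := K) m) := by
  have hfix : ∀ r ∈ [27, 25, 28, 30, 20, 22], tchar chevF4 (tp m s (s ^ (ε + 1))) r = 1 := by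
    have hc : ∀ i, (2 * (2 ^ m : ℤ) ^ 2 - 1) ∣ al (2 ^ m) i + be (2 ^ m) i * (2 ^ m + 1) →
        chi m i (s, s ^ (ε + 1)) = 1 := by
      intro i h
      rw [chi_z m hK]
      obtain ⟨k, hk⟩ := h
      rw [hk, ← card_units_int m hK, zpow_mul, zpow_natCast, pow_card_eq_one', one_zpow]
    have c25 : tchar chevF4 (tp m s (s ^ (ε + 1))) 25 = 1 := hc 1 (zfix _).1
    have c28 : tchar chevF4 (tp m s (s ^ (ε + 1))) 28 = 1 := hc 3 (zfix _).2
    have key : ∀ i < 4, chevF4.cartan i 27 = chevF4.cartan i 28 - chevF4.cartan i 25 ∧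
        chevF4.cartan i 30 = 2 * chevF4.cartan i 28 - chevF4.cartan i 25 ∧
        chevF4.cartan i 22 = - chevF4.cartan i 25 ∧
        chevF4.cartan i 20 = chevF4.cartan i 25 - chevF4.cartan i 28 := by decide +kernel
    set z := tp m s (s ^ (ε + 1))
    have hexp : ∀ r (a b : ℤ), (∀ i < 4, chevF4.cartan i r = a * chevF4.cartan i 25 + b * chevF4.cartan i 28) →
        tchar chevF4 z r = 1 := by
      intro r a b h
      have e : tchar chevF4 z r = tchar chevF4 z 25 ^ a * tchar chevF4 z 28 ^ b := by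
        simp only [tchar, ← Finset.prod_zpow, ← Finset.prod_mul_distrib, ← zpow_mul, ← zpow_add]
        refine Finset.prod_congr rfl fun i _ => ?_
        rw [h i.val i.isLt]
        congr 1
        ring
      rw [e, c25, c28, one_zpow, one_zpow, one_mul]
    intro r hr
    simp only [List.mem_cons, List.not_mem_nil, or_false] at hr
    rcases hr with rfl | rfl | rfl | rfl | rfl | rfl
    · exact hexp 27 (-1) 1 fun i hi => by rw [(key i hi).1]; ring
    · exact c25
    · exact c28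
    · exact hexp 30 (-1) 2 fun i hi => by rw [(key i hi).2.1]; ring
    · exact hexp 20 1 (-1) fun i hi => by rw [(key i hi).2.2.2]; ring
    · exact hexp 22 (-1) 0 fun i hi => by rw [(key i hi).2.2.1]; ring
  have hx : ∀ r ∈ [27, 25, 28, 30, 20, 22], ∀ t : K,
      Commute (torus chevF4 (tp m s (s ^ (ε + 1)))) (xg cf r t) := by
    intro r hr t
    have hr' : r < chevF4.nroots := (by decide : ∀ r ∈ [27, 25, 28, 30, 20, 22], r < 48) r hr
    have := torus_conj_xg cf hr' (tp m s (s ^ (ε + 1))) t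
    rw [hfix r hr, Units.val_one, one_mul] at this
    exact mul_inv_eq_iff_eq_mul.1 this
  obtain ⟨h1, h2, h3, h4, h5, h6, h7, h8⟩ := ids
  refine ⟨fun t u => Subtype.ext ?_, Subtype.ext ?_⟩
  · show _ * _ = _ * _
    simp only [coe_ep, bw, four, List.getD_cons_zero, List.getD_cons_succ, h1, h2, h3, h4]
    exact ((((hx 27 (by simp) _).mul_right (hx 25 (by simp) _)).mul_right (hx 28 (by simp) _)).mul_right
      (hx 30 (by simp) _)).eq
  · show _ * cnF (K := K) true = cnF true * _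
    have hn : ∀ r r', r ∈ [27, 25] → chevF4.neg r = r' → r' ∈ [20, 22] →
        Commute (torus chevF4 (tp m s (s ^ (ε + 1)))) (ng cf r (1 : K)) := by
      intro r r' hr e hr'
      rw [ng, e]
      have hr1 : r ∈ [27, 25, 28, 30, 20, 22] := by
        simp only [List.mem_cons, List.not_mem_nil, or_false] at hr ⊢; tauto
      have hr2 : r' ∈ [27, 25, 28, 30, 20, 22] := by
        simp only [List.mem_cons, List.not_mem_nil, or_false] at hr' ⊢; tauto
      exact ((hx r hr1 _).mul_right (hx r' hr2 _)).mul_right (hx r hr1 _)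
    have hA := hn 27 20 (by simp) h7 (by simp)
    have hB := hn 25 22 (by simp) h8 (by simp)
    show _ * (ng cf f4a 1 * ng cf f4b 1 * ng cf f4a 1 * ng cf f4b (1 : K)) = _
    rw [h1, h2]
    have := (((hA.mul_right hB).mul_right hA).mul_right hB).eq
    exact this

include hK in
theorem z_comm_Lb (s : Kˣ) {g : ↥(twistedF4 K ε)} (hg : g ∈ Lb (K := K) m) : Commute (zt m hK s) g := by
  obtain ⟨hx, hn⟩ := z_comm_class m hK s
  induction hg using Subgroup.closure_induction with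
  | mem y hy =>
    rcases hy with ⟨t, u, rfl⟩ | ⟨t, u, rfl⟩
    · exact hx t u
    · exact (hn.mul_right (hx t u)).mul_right hn.inv_right
  | one => exact Commute.one_right _
  | mul a b _ _ ha hb => exact ha.mul_right hb
  | inv a _ ha => exact ha.inv_right

include hK hm in
/-- the unipotent elements commuting with the torus of the class form the root group of the class -/
theorem U_inf_cent {u : ↥(twistedF4 K ε)} (hu : u ∈ N K m 0) (hz : ∀ s, Commute (zt m hK s) u) :
    ∃ t w, u = ep m t w := by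
  obtain ⟨hx, -⟩ := z_comm_class m hK (1 : Kˣ)
  set C := chain m hK hm with hC
  have moved : ∀ i < 12, i ≠ 1 → i ≠ 3 → ∀ y : ↥(twistedF4 K ε), y ∈ N K m i →
      (∀ s, Commute (zt m hK s) y) → y ∈ N K m (i + 1) := by
    intro i hi h1 h3 y hy hcy
    refine co_zero m hK hi hy ?_
    obtain ⟨x, k, hk⟩ := zexp (2 ^ m) i hi h1 h3
    obtain ⟨g, hg⟩ : ∃ g : Kˣ, g ≠ 1 := by
      obtain ⟨l, hl⟩ := C.move i (show i < C.n from hi)
      exact ⟨_, hl⟩
    have hg2 : chi m i (g ^ x, (g ^ x) ^ (ε + 1)) = g := by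
      rw [chi_z m hK, ← zpow_mul, mul_comm x, show (al (2 ^ m) i + be (2 ^ m) i * (2 ^ m + 1)) * x =
        ((Nat.card Kˣ : ℕ) : ℤ) * k + 1 by rw [card_units_int m hK]; linarith, zpow_add, zpow_mul, zpow_natCast,
        pow_card_eq_one', one_zpow, one_mul, zpow_one]
    have he := C.eqv i (show i < C.n from hi) (g ^ x, (g ^ x) ^ (ε + 1)) y hy
    have hcm : zt m hK (g ^ x) * y * (zt m hK (g ^ x))⁻¹ = y := by
      rw [(hcy (g ^ x)).eq, mul_inv_cancel_right]
    change co K i ((zt m hK (g ^ x) * y * (zt m hK (g ^ x))⁻¹ : ↥(twistedF4 K ε)) : GL chevF4.Idx K) =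
      (chi m i (g ^ x, (g ^ x) ^ (ε + 1)) : K) * co K i (y : GL chevF4.Idx K) at he
    rw [hcm, hg2] at he
    have : ((g : K) - 1) * co K i (y : GL chevF4.Idx K) = 0 := by rw [sub_one_mul, ← he, sub_self]
    exact (mul_eq_zero.1 this).resolve_left (sub_ne_zero.2 fun e => hg (Units.ext e))
  obtain ⟨h1, h2, h3, h4, -⟩ := ids
  have ep_form : ∀ a b : K, ((ep m a b : ↥(twistedF4 K ε)) : GL chevF4.Idx K) =
      xg cf 27 (a ^ ε) * xg cf 25 a * xg cf 28 (a ^ (ε + 1) + b) * xg cf 30 (b ^ (ε * 2)) := fun a b => by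
    simp only [coe_ep, bw, four, List.getD_cons_zero, List.getD_cons_succ, h1, h2, h3, h4]
  have u1 : u ∈ N K m 1 := moved 0 (by norm_num) (by norm_num) (by norm_num) u hu hz
  set t := co K 1 (u : GL chevF4.Idx K)
  have e0 : ep m t 0 ∈ N K m 1 ∧ co K 1 ((ep m t 0 : ↥(twistedF4 K ε)) : GL chevF4.Idx K) = t := by
    obtain ⟨a1, a2, a3, b1, b2, b3, -⟩ := fr_sr 1 (by norm_num)
    have hv : xg cf 28 (t ^ (ε + 1)) ∈ R K (1 + 1) :=
      xg_mem_R (by norm_num) (by norm_num) (by decide : 2 ≤ lv 28) _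
    have e : ((ep m t 0 : ↥(twistedF4 K ε)) : GL chevF4.Idx K) =
        xg cf (sr 1) (t ^ ε) * xg cf (fr 1) t * xg cf 28 (t ^ (ε + 1)) := by
      rw [ep_form, zero_pow (Nat.mul_pos (Nat.two_pow_pos m) two_pos).ne', xg_zero, mul_one, add_zero]; rfl
    exact ⟨(mem_N m).2 (e ▸ mul_mem (mul_mem (xg_mem_R b1 b2 b3.ge _) (xg_mem_R a1 a2 a3.ge _))
      (R_mono (by norm_num) hv)), co_eq' (by norm_num) hv e⟩
  set u' := (ep m t 0)⁻¹ * u with hu'
  have u2 : u' ∈ N K m 2 := C.diff (show 1 < C.n from (by decide : 1 < 12)) u1 e0.1 e0.2.symm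
  have hz' : ∀ s, Commute (zt m hK s) u' := fun s => ((z_comm_class m hK s).1 t 0).inv_right.mul_right (hz s)
  have u3 : u' ∈ N K m 3 := moved 2 (by norm_num) (by norm_num) (by norm_num) u' u2 hz'
  set w := co K 3 (u' : GL chevF4.Idx K)
  have e3 : ep m 0 w ∈ N K m 3 ∧ co K 3 ((ep m 0 w : ↥(twistedF4 K ε)) : GL chevF4.Idx K) = w := by
    have e : ((ep m 0 w : ↥(twistedF4 K ε)) : GL chevF4.Idx K) = nf K 3 w (w ^ (ε * 2)) := by
      rw [ep_form, zero_pow (Nat.two_pow_pos m).ne', zero_pow (Nat.succ_ne_zero ε), xg_zero, xg_zero, one_mul,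
        one_mul, zero_add]
      rfl
    exact ⟨(mem_N m).2 (e ▸ nf_mem (by norm_num) _ _), co_eq (by norm_num) (one_mem _) (by rw [e, mul_one])⟩
  set v := (ep m 0 w)⁻¹ * u' with hv
  have v4 : v ∈ N K m 4 := C.diff (show 3 < C.n from (by decide : 3 < 12)) u3 e3.1 e3.2.symm
  have hzv : ∀ s, Commute (zt m hK s) v := fun s => ((z_comm_class m hK s).1 0 w).inv_right.mul_right (hz' s)
  have climb : ∀ d, d ≤ 8 → v ∈ N K m (4 + d) := by
    intro d
    induction d with
    | zero => exact fun _ => v4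
    | succ d ih => exact fun hd => moved (4 + d) (by omega) (by omega) (by omega) v (ih (by omega)) hzv
  have v1 : v = 1 := by
    have h := climb 8 le_rfl
    have ht : N K m 12 = ⊥ := C.top
    rwa [ht, Subgroup.mem_bot] at h
  refine ⟨t, w, ?_⟩
  have : u = ep m t 0 * (ep m 0 w * v) := by simp only [hv, hu']; group
  rw [this, v1, mul_one]
  refine Subtype.ext ?_
  rw [Subgroup.coe_mul, ep_form, ep_form, ep_form, zero_pow (Nat.two_pow_pos m).ne',
    zero_pow (Nat.succ_ne_zero ε), zero_pow (Nat.mul_pos (Nat.two_pow_pos m) two_pos).ne', xg_zero, xg_zero,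
    xg_zero, one_mul, one_mul, zero_add, add_zero, mul_one, ← xg_mul]
  group

variable (K) in
/-- `H¹` -/
def H1 : Subgroup ↥(twistedF4 K ε) := (chevF4.diagonalSubgroup K).subgroupOf (twistedF4 K ε)

include hK hm in
/-- the Bruhat decomposition of the rank one subgroup -/
theorem bruhat {g : ↥(twistedF4 K ε)} (hg : g ∈ Lb (K := K) m) :
    (∃ t u, ∃ h ∈ H1 K m ⊓ Lb (K := K) m, g = ep m t u * h) ∨
      ∃ t u, ∃ h ∈ H1 K m ⊓ Lb (K := K) m, ∃ a b, g = ep m t u * h * nb m * ep m a b := by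
  set P := TwistAutRigid.Par (classes m hK) true
  have hepU : ∀ a b : K, ep m a b ∈ TwistAutRigid.B1 (D := chevF4) (twistedF4 K ε) := fun a b =>
    TwistAutRigid.U1_le_B1 (TwistAutRigid.XJ_le (classes m hK) true ((mem_XJ_true m hK).2 ⟨a, b, rfl⟩))
  have hnP : nb m ∈ P := by
    have : nb (K := K) m = TwistAutRigid.cG (classes m hK) true := Subtype.ext rfl
    rw [this]; exact TwistAutRigid.cG_mem_Par _ _
  have hle : Lb (K := K) m ≤ P := by
    refine (Subgroup.closure_le _).2 ?_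
    rintro x (⟨a, b, rfl⟩ | ⟨a, b, rfl⟩)
    · exact TwistAutRigid.B1_le_Par _ _ (hepU a b)
    · exact mul_mem (mul_mem hnP (TwistAutRigid.B1_le_Par _ _ (hepU a b))) (inv_mem hnP)
  have split : ∀ b : ↥(twistedF4 K ε), b ∈ TwistAutRigid.B1 (D := chevF4) (twistedF4 K ε) →
      (∀ s, Commute (zt m hK s) b) →
      ∃ t u, ∃ h ∈ H1 K m, b = ep m t u * h := by
    intro b hb hcb
    obtain ⟨u0, hu0, h0, hh0, e⟩ := (ChevalleyTorus.mem_B_iff cf).1 (Subgroup.mem_subgroupOf.1 hb)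
    have hfix := le_fixed m hK b.2
    -- the two factors are fixed
    have hug : u0 ∈ chevF4.group K := (tw (K := K) m).S.U_le_group hu0
    have hhg : h0 ∈ chevF4.group K := (tw (K := K) m).S.H_le_group hh0
    have hsu : (tw (K := K) m).sg u0 ∈ chevF4.posUnipotent K := by
      rw [← R_zero] at hu0 ⊢; exact sg_R m hu0
    obtain ⟨c, rfl⟩ := (mem_H_iff cf).1 hh0
    have hst : (tw (K := K) m).sg (torus chevF4 c) ∈ chevF4.diagonalSubgroup K := by
      rw [(tw (K := K) m).sg_torus]; exact torus_mem_H cf _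
    have e2 : (tw (K := K) m).sg u0 * (tw (K := K) m).sg (torus chevF4 c) = u0 * torus chevF4 c := by
      rw [← (tw (K := K) m).sg_mul hug hhg, e]; exact hfix.2
    have e3 : u0⁻¹ * (tw (K := K) m).sg u0 = torus chevF4 c * ((tw (K := K) m).sg (torus chevF4 c))⁻¹ := by
      rw [eq_mul_inv_iff_mul_eq, mul_assoc, e2, inv_mul_cancel_left]
    have e4 : u0⁻¹ * (tw (K := K) m).sg u0 = 1 := Subgroup.mem_bot.1 ((ChevalleyTorus.U_inf_H cf).le
      (Subgroup.mem_inf.2 ⟨mul_mem (inv_mem hu0) hsu, e3 ▸ mul_mem hh0 (inv_mem hst)⟩))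
    have hfu : (tw (K := K) m).sg u0 = u0 := (inv_mul_eq_one.1 e4).symm
    have huG : u0 ∈ twistedF4 K ε := (classes m hK).fixed_U_le hu0 ⟨hug, hfu⟩
    set U0 : ↥(twistedF4 K ε) := ⟨u0, huG⟩ with hU0
    have hU : U0 ∈ N K m 0 := (mem_N m).2 (by rw [R_zero]; exact hu0)
    have hH : U0⁻¹ * b ∈ H1 K m := by
      show u0⁻¹ * (b : GL chevF4.Idx K) ∈ chevF4.diagonalSubgroup K
      rw [← e, inv_mul_cancel_left]; exact hh0
    have hcU : ∀ s, Commute (zt m hK s) U0 := by
      intro s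
      have h1 : Commute (zt m hK s) (U0⁻¹ * b) := Subtype.ext (H_comm cf (torus_mem_H cf _) hH)
      have := (hcb s).mul_right h1.inv_right
      rwa [mul_inv_rev, mul_inv_cancel_left, inv_inv] at this
    obtain ⟨t, u, he⟩ := U_inf_cent m hK hm hU hcU
    exact ⟨t, u, U0⁻¹ * b, hH, by rw [← he, mul_inv_cancel_left]⟩
  rcases TwistAutRigid.Par_form (classes m hK) (hle hg) with hb | ⟨b, hb, x, hx, e⟩
  · obtain ⟨t, u, h, hh, e⟩ := split g hb fun s => z_comm_Lb m hK s hg
    refine Or.inl ⟨t, u, h, Subgroup.mem_inf.2 ⟨hh, ?_⟩, e⟩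
    rw [show h = (ep m t u)⁻¹ * g by rw [e, inv_mul_cancel_left]]
    exact mul_mem (inv_mem (ep_mem_Lb m t u)) hg
  · obtain ⟨a, c, rfl⟩ := (mem_XJ_true m hK).1 hx
    have hn : TwistAutRigid.cG (classes m hK) true = nb (K := K) m := Subtype.ext rfl
    rw [hn] at e
    have hnL : ∀ s, Commute (zt m hK s) (nb m) := fun s => (z_comm_class m hK s).2
    have hcb : ∀ s, Commute (zt m hK s) b := fun s => by
      have hb' : b = g * (ep m a c)⁻¹ * (nb m)⁻¹ := by rw [e]; group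
      rw [hb']
      exact ((z_comm_Lb m hK s hg).mul_right ((z_comm_class m hK s).1 a c).inv_right).mul_right (hnL s).inv_right
    obtain ⟨t, u, h, hh, e'⟩ := split b hb hcb
    refine Or.inr ⟨t, u, h, Subgroup.mem_inf.2 ⟨hh, ?_⟩, a, c, by rw [e, e']⟩
    have hnb : nb m ∈ Lb (K := K) m := nb_mem_Lb m hK hm
    rw [show h = (ep m t u)⁻¹ * (g * (ep m a c)⁻¹ * (nb m)⁻¹) by rw [e, e']; group]
    exact mul_mem (inv_mem (ep_mem_Lb m t u))
      (mul_mem (mul_mem hg (inv_mem (ep_mem_Lb m a c))) (inv_mem hnb))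
where
  nb_mem_Lb (m : ℕ) (hK : Fintype.card K = 2 ^ (2 * m + 1)) (hm : 1 ≤ m) : nb m ∈ Lb (K := K) m := by
    -- five factors alternately in the two root groups
    obtain ⟨h1, h2, h3, h4, -⟩ := ids
    have hneg : f4mab = 19 ∧ f4maab = 17 ∧ (rw1 true 28 = 19 ∧ rw1 true 30 = 17) := by decide +kernel
    have ec : ((ep m 0 1 : ↥(twistedF4 K (2 ^ m))) : GL chevF4.Idx K) = xg cf f4ab 1 * xg cf f4aab 1 := by
      simp [coe_ep, bw, four]
    have ec' : ((nb m * ep m 0 1 * (nb m)⁻¹ : ↥(twistedF4 K (2 ^ m))) : GL chevF4.Idx K) =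
        xg cf f4mab 1 * xg cf f4maab 1 := by
      show cnF true * ((ep m 0 1 : ↥(twistedF4 K (2 ^ m))) : GL chevF4.Idx K) * (cnF (K := K) true)⁻¹ = _
      rw [ec, h3, h4, hneg.1, hneg.2.1, ← hneg.2.2.1, ← hneg.2.2.2, ← cnF_conj true (by norm_num) (1 : K),
        ← cnF_conj true (by norm_num) (1 : K)]
      group
    have hids : TitsTwo15.rootIds.getD 8 0 = f4a ∧ TitsTwo15.rootIds.getD 3 0 = f4ma ∧
        TitsTwo15.rootIds.getD 7 0 = f4b ∧ TitsTwo15.rootIds.getD 4 0 = f4mb ∧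
        TitsTwo15.rootIds.getD 9 0 = f4ab ∧ TitsTwo15.rootIds.getD 10 0 = f4aab ∧
        TitsTwo15.rootIds.getD 2 0 = f4mab ∧ TitsTwo15.rootIds.getD 1 0 = f4maab := by decide +kernel
    obtain ⟨i8, i3, i7, i4, i9, i10, i2, i1⟩ := hids
    have hp := prod_eq (K := K) (v := [8, 3, 8, 7, 4, 7, 8, 3, 8, 7, 4, 7]) (w := [9, 10, 2, 1, 9, 10, 2, 1, 9, 10])
      (by decide +kernel) (by decide) (by decide)
    simp only [List.map_cons, List.map_nil, List.prod_cons, List.prod_nil, mul_one, i8, i3, i7, i4, i9, i10, i2,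
      i1] at hp
    set A := ep (K := K) m 0 1 with hA
    set B := nb (K := K) m * ep m 0 1 * (nb m)⁻¹ with hB
    have hBL : B ∈ Lb (K := K) m := Subgroup.subset_closure (Or.inr ⟨0, 1, rfl⟩)
    have e : nb (K := K) m = A * B * A * B * A := by
      refine Subtype.ext ?_
      simp only [Subgroup.coe_mul]
      rw [ec, ec']
      show ng cf f4a 1 * ng cf f4b 1 * ng cf f4a 1 * ng cf f4b (1 : K) = _
      unfold ng
      simp only [roots_eq.2.2.2.2.2.2.1, roots_eq.2.2.2.2.2.2.2, inv_one, CharTwo.neg_eq]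
      simpa [mul_assoc] using hp
    rw [e]
    exact mul_mem (mul_mem (mul_mem (mul_mem (ep_mem_Lb m 0 1) hBL) (ep_mem_Lb m 0 1)) hBL) (ep_mem_Lb m 0 1)

include hK hm in
theorem psi_injective : Function.Injective (psi (K := K) m hK hm) := by
  haveI := SuzukiGroupBasic.Param.mk' (F := K) hm hK
  rw [injective_iff_map_eq_one]
  intro g hg
  have hres : res ((g : ↥(twistedF4 K ε)) : GL chevF4.Idx K) = 1 := by
    rw [← psi_val m hK hm, hg]; rfl
  have hHres : ∀ h ∈ H1 K m, ∃ z : Fin chevF4.rank → Kˣ, ((h : ↥(twistedF4 K ε)) : GL chevF4.Idx K) = torus chevF4 z ∧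
      res ((h : ↥(twistedF4 K ε)) : GL chevF4.Idx K) = Matrix.diagonal fun a => (tchar chevF4 z (rt a).val : K) := by
    intro h hh
    obtain ⟨z, hz⟩ := (mem_H_iff cf).1 (show (h : GL chevF4.Idx K) ∈ chevF4.diagonalSubgroup K from hh)
    exact ⟨z, hz.symm, by rw [← hz, res_torus]⟩
  refine Subtype.ext ?_
  rcases bruhat m hK hm g.2 with ⟨t, u, h, hh', e⟩ | ⟨t, u, h, hh', a, c, e⟩
  · obtain ⟨hh, hhL⟩ := Subgroup.mem_inf.1 hh'
    obtain ⟨z, hz, hzr⟩ := hHres h hh
    rw [e, Subgroup.coe_mul, res_mul (res_ep m hK hm t u).1 (Lb_le_St m hK hm hhL), (res_ep m hK hm t u).2,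
      hzr] at hres
    have en : ∀ i j, (SuzukiGroupBasic.Tm m (t ^ ε) (t ^ (ε + 1) + u) *
        Matrix.diagonal fun a => (tchar chevF4 z (rt a).val : K)) i j = (1 : Matrix (Fin 4) (Fin 4) K) i j :=
      fun i j => by rw [hres]
    simp only [Matrix.mul_diagonal] at en
    have d0 := en 0 0
    have d1 := en 1 1
    have d2 := en 2 2
    have d3 := en 3 3
    simp [SuzukiGroupBasic.Tm] at d0 d1 d2 d3
    have hA := en 0 1
    have hb := en 1 3
    simp [SuzukiGroupBasic.Tm, d1, d3] at hA hb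
    have hchar : ∀ r, (∃ a, (rt a).val = r) → tchar chevF4 z r = 1 := by
      rintro r ⟨a, rfl⟩
      fin_cases a <;> first | exact d0 | exact d1 | exact d2 | exact d3
    have hhd : ((h : ↥(twistedF4 K ε)) : GL chevF4.Idx K) ∈ chevF4.diagonalSubgroup K ⊓ twistedF4 K ε :=
      Subgroup.mem_inf.2 ⟨hh, h.2⟩
    obtain ⟨s, v, hsv⟩ := (H1_iff m hK).1 hhd
    rw [hz] at hsv
    have hzt : z = tp m s v := by
      have h0 : torus chevF4 (z * (tp m s v)⁻¹) = 1 := by rw [map_mul, map_inv, ← hsv, mul_inv_cancel]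
      exact mul_inv_eq_one.1 (torus_inj h0)
    have c33 : tchar chevF4 z 33 = 1 := hchar 33 ⟨3, rfl⟩
    have c34 : tchar chevF4 z 34 = 1 := hchar 34 ⟨2, rfl⟩
    have c35 : tchar chevF4 z 35 = 1 := hchar 35 ⟨1, rfl⟩
    obtain ⟨e33, e34, e35⟩ := (by decide +kernel : ([chevF4.cartan 0 33, chevF4.cartan 1 33, chevF4.cartan 2 33,
      chevF4.cartan 3 33] = [2, -1, 0, 0]) ∧ ([chevF4.cartan 0 34, chevF4.cartan 1 34, chevF4.cartan 2 34,
      chevF4.cartan 3 34] = [1, 1, -1, 0]) ∧ ([chevF4.cartan 0 35, chevF4.cartan 1 35, chevF4.cartan 2 35,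
      chevF4.cartan 3 35] = [1, -1, 1, -1]))
    simp only [List.cons.injEq, and_true] at e33 e34 e35
    rw [hzt, tchar_aux] at c33 c34 c35
    simp only [tp, List.getD_cons_zero, List.getD_cons_succ, e33, e34, e35, zpow_zero, zpow_one, zpow_neg_one,
      zpow_ofNat, pow_zero, pow_one, mul_one] at c33 c34 c35
    have hv2 : v = s ^ 2 := by
      have h1 : (v ^ ε) = (s ^ 2) ^ ε := by
        rw [← pow_mul, mul_comm 2, pow_mul]
        exact (mul_inv_eq_one.1 c33).symm
      have := congrArg (fun y : Kˣ => y ^ (ε * 2)) h1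
      simpa only [(units_twist m hK _).1] using this
    have hs : s = 1 := by
      have h35 : (s ^ ε * s⁻¹) * (v ^ ε * v⁻¹)⁻¹ = 1 := by
        rw [← c35]; simp only [mul_inv_rev, inv_inv, mul_assoc, mul_comm, mul_left_comm]
      rw [mul_inv_eq_one, hv2] at h35
      have h2 : (s ^ 2) ^ ε * (s ^ 2)⁻¹ = (s ^ ε * s⁻¹) * (s ^ ε * s⁻¹) := by
        rw [pow_two, mul_pow, mul_inv, mul_mul_mul_comm]
      rw [h2] at h35
      have hse : s ^ ε = s := mul_inv_eq_one.1 (left_eq_mul.1 h35)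
      have h34 := c34
      rw [hv2, hse, ← pow_mul, mul_comm 2, pow_mul, hse] at h34
      rw [← h34]
      group
    have hh1 : h = 1 := by
      refine Subtype.ext ?_
      rw [hz, hzt, hv2, hs, one_pow, show tp m (1 : Kˣ) 1 = 1 by
        funext i
        have hi : i = nd 0 ∨ i = nd 1 ∨ i = nd 2 ∨ i = nd 3 := by revert i; decide
        rcases hi with rfl | rfl | rfl | rfl <;> simp [tp], map_one]
      rfl
    have ht : t = 0 := hA
    subst ht
    rw [zero_pow (Nat.succ_ne_zero ε), zero_add] at hb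
    subst hb
    rw [e, hh1, mul_one, OneMemClass.coe_one]
    exact TwistAutF4.ep_zero m
  · exfalso
    obtain ⟨hh, hhL⟩ := Subgroup.mem_inf.1 hh'
    obtain ⟨z, hz, hzr⟩ := hHres h hh
    have hnm : cnF (K := K) true ∈ St K := (res_cn m hK).1
    rw [e, Subgroup.coe_mul, Subgroup.coe_mul, Subgroup.coe_mul,
      show ((nb m : ↥(twistedF4 K ε)) : GL chevF4.Idx K) = cnF true from rfl,
      res_mul (mul_mem (mul_mem (res_ep m hK hm t u).1 (Lb_le_St m hK hm hhL)) hnm) (res_ep m hK hm a c).1,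
      res_mul (mul_mem (res_ep m hK hm t u).1 (Lb_le_St m hK hm hhL)) hnm,
      res_mul (res_ep m hK hm t u).1 (Lb_le_St m hK hm hhL), (res_cn m hK).2, (res_ep m hK hm t u).2,
      (res_ep m hK hm a c).2, hzr] at hres
    have h30 := congrFun (congrFun hres 3) 0
    simp [Matrix.mul_apply, Matrix.vecMul, dotProduct, Fin.sum_univ_four, SuzukiGroupBasic.Tm, suzukiForm,
      Matrix.diagonal_apply] at h30

include hK hm in
/-- no multiplier of odd order -/
theorem kerFree_Lb {Γ : Type*} [Group Γ] [Finite Γ] {σ : Γ →* ↥(twistedF4 K (2 ^ m))}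
    (hs : Function.Surjective σ) (hc : σ.ker ≤ Subgroup.center Γ) (hp : Nat.Coprime (Nat.card σ.ker) 2) :
    StemBasic.KerFree σ (Lb (K := K) m) := by
  haveI := SuzukiGroupBasic.Param.mk' (F := K) hm hK
  let φ : ↥(Lb (K := K) m) →* ↥(Cfsg.Sz K m) :=
    (SuzukiGroupLie.lieEquiv (F := K) (m := m)).toMonoidHom.comp
      ((psi m hK hm).codRestrict (Cfsg.Lie.Sz K (2 ^ (m + 1))) (psi_mem_Sz m hK hm))
  have hφ : Function.Injective φ := fun x y h => psi_injective m hK hm (congrArg Subtype.val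
    ((SuzukiGroupLie.lieEquiv (F := K) (m := m)).injective h))
  rintro w ⟨w', hw', rfl⟩ hw1
  by_contra hne
  have hwne : w' ≠ 1 := fun h => hne (by rw [h]; rfl)
  have h1 : orderOf w' ≠ 1 := fun h => hwne (orderOf_eq_one_iff.1 h)
  obtain ⟨ℓ, hl, hd⟩ := Nat.exists_prime_and_dvd h1
  haveI : Fact ℓ.Prime := ⟨hl⟩
  have hl2 : ℓ ≠ 2 := by
    rintro rfl
    have h2 : 2 ∣ Nat.card σ.ker := by
      refine hd.trans ?_
      rw [← Subgroup.orderOf_coe]
      exact StemBasic.orderOf_dvd_card_ker hw1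
    exact Nat.not_coprime_of_dvd_of_dvd one_lt_two h2 dvd_rfl hp
  let ρ : ↥((Lb (K := K) m).comap σ) →* ↥(Lb (K := K) m) :=
    (σ.comp ((Lb (K := K) m).comap σ).subtype).codRestrict _ fun x => x.2
  have hρs : Function.Surjective ρ := fun g => by
    obtain ⟨γ, hγ⟩ := hs g
    exact ⟨⟨γ, show σ γ ∈ _ from hγ ▸ g.2⟩, Subtype.ext hγ⟩
  have hρc : ρ.ker ≤ Subgroup.center ↥((Lb (K := K) m).comap σ) := fun x hx =>
    Subgroup.mem_center_iff.2 fun g => Subtype.ext
      (StemBasic.ker_comm hc (congrArg Subtype.val (MonoidHom.mem_ker.1 hx)) (g : Γ))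
  set z := w' ^ (orderOf w' / ℓ) with hz
  have hzo : orderOf z = ℓ := orderOf_pow_orderOf_div (orderOf_pos w').ne' hd
  have hρz : ρ z = 1 := by
    rw [hz, map_pow, show ρ w' = 1 from Subtype.ext hw1, one_pow]
  let P : Sylow ℓ ↥(Lb (K := K) m) := default
  obtain ⟨g₀, hg₀⟩ : ∃ g, Subgroup.zpowers g = (P : Subgroup ↥(Lb (K := K) m)) := by
    have hcyc : IsCyclic (P : Subgroup ↥(Lb (K := K) m)) := by
      obtain ⟨S, hS⟩ := (P.isPGroup'.map φ).exists_le_sylow
      haveI := SuzukiGroupCentralizer.isCyclic_sylow_odd hl2 S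
      haveI : IsCyclic ↥((P : Subgroup ↥(Lb (K := K) m)).map φ) :=
        isCyclic_of_injective (Subgroup.inclusion hS) (Subgroup.inclusion_injective hS)
      exact isCyclic_of_injective (Subgroup.equivMapOfInjective (P : Subgroup ↥(Lb (K := K) m)) φ hφ).toMonoidHom
        (Subgroup.equivMapOfInjective _ φ hφ).injective
    obtain ⟨g, hg⟩ := IsCyclic.exists_generator (α := (P : Subgroup ↥(Lb (K := K) m)))
    refine ⟨g, le_antisymm (Subgroup.zpowers_le.2 g.2) fun x hx => ?_⟩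
    obtain ⟨k, hk⟩ := Subgroup.mem_zpowers_iff.1 (hg ⟨x, hx⟩)
    exact Subgroup.mem_zpowers_iff.2 ⟨k, by simpa using congrArg Subtype.val hk⟩
  have hz1 := StemBasic.kerFree_zpowers ρ hρc g₀ z (StemBasic.mem_commutator_of_index
    (show ρ z ∈ Subgroup.zpowers g₀ by rw [hρz]; exact one_mem _) (hρc hρz)
    ((commutator _).pow_mem hw' _) (by
      rw [hzo, StemBasic.index_comap hρs, hl.coprime_iff_not_dvd, hg₀]; exact P.not_dvd_index)) hρz
  rw [hz1, orderOf_one] at hzo
  exact hl.ne_one hzo.symm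

end Main

end Cfsg.Agent.F4SzEmbed9
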