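import Cfsg.Agent.Lib.UnitaryF4Geo

/-!
The 45 isotropic points and the 27 totally isotropic lines of the four-dimensional unitary space
over the field with four elements, as tables over `Fin 4`.
-/

set_option autoImplicit false
set_option linter.unusedSectionVars false

namespace Cfsg.Agent.F4Table61

/-- Addition. -/
def add (a b : Fin 4) : Fin 4 :=
  ![![0, 1, 2, 3], ![1, 0, 3, 2], ![2, 3, 0, 1], ![3, 2, 1, 0]] a b

/-- Multiplication. -/
def mul (a b : Fin 4) : Fin 4 :=
  ![![0, 0, 0, 0], ![0, 1, 2, 3], ![0, 2, 3, 1], ![0, 3, 1, 2]] a b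

/-- The Hermitian form. -/
def hN (u v : Fin 4 → Fin 4) : Fin 4 :=
  add (add (add (mul (u 0) (mul (v 0) (v 0))) (mul (u 1) (mul (v 1) (v 1))))
    (mul (u 2) (mul (v 2) (v 2)))) (mul (u 3) (mul (v 3) (v 3)))

/-- The codes of the points. -/
def codes : List ℕ := [80,144,208,68,132,196,20,36,52,65,129,193,17,33,49,5,9,13,85,149,213,101,165,229,117,181,245,89,153,217,105,169,233,121,185,249,93,157,221,109,173,237,125,189,253]

/-- The points. -/
def row (i : Fin 45) (j : Fin 4) : Fin 4 :=
  ⟨codes.getD i.val 0 / 4 ^ j.val % 4, Nat.mod_lt _ (by norm_num)⟩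

/-- The codes of the lines. -/
def lineCodes : List ℕ := [108658125,146402145,184146165,100550026,138294046,176038066,104470427,142214447,179958467,158412243,170993613,183574983,150304144,162885514,175466884,154224545,166805915,179387285,174996861,179190681,183384501,150672562,154866382,159060202,162433763,166627583,170821403]

/-- The lines. -/
def line (l : Fin 27) (j : Fin 5) : Fin 45 :=
  ⟨lineCodes.getD l.val 0 / 45 ^ j.val % 45, Nat.mod_lt _ (by norm_num)⟩

/-- A semilinear function with a quartic term, on the points. -/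
def val (A : Fin 4 → Fin 4) (k : Fin 4) (i : Fin 45) : Fin 4 :=
  add (add (add (mul (A 0) (row i 0)) (mul (A 1) (row i 1))) (add (mul (A 2) (row i 2))
    (mul (A 3) (row i 3)))) (mul k (mul (mul (row i 0) (row i 1)) (mul (row i 2) (row i 3))))

/-- A vector from four entries. -/
def vec (a b c d : Fin 4) : Fin 4 → Fin 4 := ![a, b, c, d]

theorem vec_eta (v : Fin 4 → Fin 4) : v = vec (v 0) (v 1) (v 2) (v 3) := by
  funext j; fin_cases j <;> rfl

theorem row_iso : ∀ i, hN (row i) (row i) = 0 ∧ ∃ j, row i j ≠ 0 := by decide +kernel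

theorem row_pr : ∀ i : Fin 45, (∀ j, row i j ≠ 0) ∨
    ∃ a b : Fin 4, a < b ∧ row i a ≠ 0 ∧ row i b ≠ 0 ∧ ∀ j, j ≠ a → j ≠ b → row i j = 0 := by
  decide +kernel

theorem row_cover' : ∀ a b c d : Fin 4, hN (vec a b c d) (vec a b c d) = 0 →
    (a ≠ 0 ∨ b ≠ 0 ∨ c ≠ 0 ∨ d ≠ 0) →
    ∃ i, ∃ k : Fin 4, k ≠ 0 ∧ ∀ j, vec a b c d j = mul k (row i j) := by decide +kernel

theorem row_cover (v : Fin 4 → Fin 4) (hv : hN v v = 0) (hne : ∃ j, v j ≠ 0) :
    ∃ i, ∃ k : Fin 4, k ≠ 0 ∧ ∀ j, v j = mul k (row i j) := by
  rw [vec_eta v] at hv hne ⊢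
  refine row_cover' _ _ _ _ hv ?_
  obtain ⟨j, hj⟩ := hne
  fin_cases j
  exacts [Or.inl hj, Or.inr (Or.inl hj), Or.inr (Or.inr (Or.inl hj)),
    Or.inr (Or.inr (Or.inr hj))]

theorem row_inj : ∀ i i' : Fin 45, ∀ k : Fin 4, (∀ j, row i j = mul k (row i' j)) → i = i' := by
  decide +kernel

theorem row_degree : ∀ i : Fin 45,
    ((List.finRange 45).filter fun j => decide (j ≠ i ∧ hN (row i) (row j) = 0)).length = 12 := by
  decide +kernel

theorem line_orth : ∀ l : Fin 27, ∀ a b : Fin 5,
    (a ≠ b → line l a ≠ line l b) ∧ hN (row (line l a)) (row (line l b)) = 0 := by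
  decide +kernel

theorem line_max : ∀ l : Fin 27, ∀ a b : Fin 5, a ≠ b → ∀ i : Fin 45,
    hN (row (line l a)) (row i) = 0 → hN (row (line l b)) (row i) = 0 → ∃ j, line l j = i := by
  decide +kernel

theorem zeros' : ∀ a b c d k : Fin 4, k ≠ 0 →
    ((List.finRange 45).filter fun i => decide (val (vec a b c d) k i = 0)).length = 18 ∨
      ∃ l : Fin 27, ∀ j, val (vec a b c d) k (line l j) ≠ 0 := by decide +kernel

/-- A function with non-zero quartic term has 18 zeros, or misses some line. -/
theorem zeros (A : Fin 4 → Fin 4) {k : Fin 4} (hk : k ≠ 0) :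
    ((List.finRange 45).filter fun i => decide (val A k i = 0)).length = 18 ∨
      ∃ l : Fin 27, ∀ j, val A k (line l j) ≠ 0 := by
  rw [vec_eta A]
  exact zeros' _ _ _ _ k hk

theorem exists_zero' : ∀ a b c d k : Fin 4, k ≠ 0 → ∃ i, val (vec a b c d) k i = 0 := by
  decide +kernel

/-- A function with non-zero quartic term has a zero. -/
theorem exists_zero (A : Fin 4 → Fin 4) {k : Fin 4} (hk : k ≠ 0) : ∃ i, val A k i = 0 := by
  rw [vec_eta A]
  exact exists_zero' _ _ _ _ k hk

open Cfsg.Agent.UnitaryF4Geo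

variable {F : Type*} [Field F] [Fintype F] [FourField F]

/-- The field element of an entry. -/
def toF (o : F) : Fin 4 → F := ![0, 1, o, o + 1]

variable {o : F} (ho : o ^ 2 = o + 1)
include ho

theorem toF_add (a b : Fin 4) : toF o (add a b) = toF o a + toF o b := by
  fin_cases a <;> fin_cases b <;>
    simp [toF, add, add_self] <;>
    first
      | linear_combination (two_eq_zero (F := F))
      | linear_combination -(two_eq_zero (F := F))
      | linear_combination o * (two_eq_zero (F := F))
      | linear_combination -o * (two_eq_zero (F := F))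
      | linear_combination (o + 1) * (two_eq_zero (F := F))
      | linear_combination -(o + 1) * (two_eq_zero (F := F))
      | ring

theorem toF_mul (a b : Fin 4) : toF o (mul a b) = toF o a * toF o b := by
  fin_cases a <;> fin_cases b <;> simp [toF, mul] <;>
    first
      | linear_combination ho
      | linear_combination -ho
      | linear_combination ho + (o + 1) * (two_eq_zero (F := F))
      | linear_combination -ho - (o + 1) * (two_eq_zero (F := F))
      | linear_combination ho + o * (two_eq_zero (F := F))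
      | linear_combination -ho - o * (two_eq_zero (F := F))
      | linear_combination ho - (two_eq_zero (F := F))
      | linear_combination ho + (two_eq_zero (F := F))

theorem toF_surj (x : F) : ∃ a, toF o a = x := by
  by_cases h0 : x = 0
  · exact ⟨0, by simp [toF, h0]⟩
  by_cases h1 : x = 1
  · exact ⟨1, by simp [toF, h1]⟩
  have : (x + o) * (x + (o + 1)) = 0 := by
    linear_combination rel h0 h1 + ho + (x * o + x + o + 1) * (two_eq_zero (F := F))
  rcases mul_eq_zero.mp this with e | e
  · exact ⟨2, by simp [toF, eq_of_add_eq_zero e]⟩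
  · exact ⟨3, by simp [toF, eq_of_add_eq_zero e]⟩

theorem toF_eq_zero (a : Fin 4) : toF o a = 0 ↔ a = 0 := by
  obtain ⟨h0, h1⟩ := omega_ne ho
  have h2 : o + 1 ≠ 0 := fun e => h1 (eq_of_add_eq_zero e)
  fin_cases a <;> simp [toF, h0, h2]

theorem toF_inj {a b : Fin 4} (e : toF o a = toF o b) : a = b := by
  have h0 : toF o (add a b) = 0 := by rw [toF_add ho, e, add_self]
  rw [toF_eq_zero ho] at h0
  revert h0; fin_cases a <;> fin_cases b <;> simp [add]

end Cfsg.Agent.F4Table61
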