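import Cfsg.Agent.Lib.ChevTorusValues68
import Cfsg.Agent.Lib.ChevCoxTorus68
import Cfsg.Agent.Lib.ChevalleyRelative

/-!
The cell of an element transporting torus elements also transports every torus element vanishing on the
same roots.
-/

set_option autoImplicit false

namespace Cfsg.Agent.F4TorusCell98

open Cfsg Cfsg.Lie Cfsg.Agent.ChevalleyCert Cfsg.Agent.ChevWeyl Cfsg.Agent.ChevBruhat Cfsg.Agent.ChevRootCoord68
open Cfsg.Agent.ChevalleyTorus (torus tchar)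
open Cfsg.Agent.ChevalleyTorusCard (Smith act)
open Cfsg.Agent.ChevCoxTorus68 (tor)

variable {D : ChevalleyDatum} (C : Cert D) (Sm : Smith D 1 0) {K : Type*} [Field K]
variable (X : Weyl D) (hs : suppCheck D = true)

include C in
theorem transport {χ χ' : Fin D.rank → Additive Kˣ} {y : GL D.Idx K} (hy : y ∈ D.group K)
    (h : y * tor Sm χ' = tor Sm χ * y) :
    ∃ n : ↥(D.monomialSubgroup K),
      ChevalleyCells.InCell (ChevBruhatInstance.mkSys C X hs) y ((ChevBruhatInstance.mkSys C X hs).toW n) ∧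
      (∀ s, s < D.nroots →
        ev C χ (X.img ((ChevBruhatInstance.mkSys C X hs : Sys D K).toW n) s) = ev C χ' s) ∧
      ∀ ψ ψ' : Fin D.rank → Additive Kˣ, (∀ r, r < D.nroots → ev C χ r = 0 → ev C ψ r = 0) →
        (∀ r, r < D.nroots → ev C χ' r = 0 → ev C ψ' r = 0) →
        (∀ s, s < D.nroots →
          ev C ψ (X.img ((ChevBruhatInstance.mkSys C X hs : Sys D K).toW n) s) = ev C ψ' s) →
        y * tor Sm ψ' = tor Sm ψ * y := by
  let S : Sys D K := ChevBruhatInstance.mkSys C X hs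
  set t := tor Sm χ with ht
  set t' := tor Sm χ' with ht'
  have hmemH : ∀ φ : Fin D.rank → Additive Kˣ, tor Sm φ ∈ D.diagonalSubgroup K := fun φ =>
    (ChevCoxTorus68.mem_H_iff C Sm).2 ⟨φ, rfl⟩
  have htH : t ∈ D.diagonalSubgroup K := hmemH _
  obtain ⟨b, hb, n, u, hu, rfl⟩ := S.exists_cell_form hy
  have h' : t * (b * n * u) * t'⁻¹ = b * n * u := by rw [← h]; group
  obtain ⟨χn, hχn, hevn⟩ := ChevCoxTorus68.conj_tor C Sm X hs n χ'
  set h₁ := t * (tor Sm χn)⁻¹ with hh₁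
  have hh : h₁ ∈ D.diagonalSubgroup K := mul_mem htH (inv_mem (hmemH _))
  have hu' : t' * u * t'⁻¹ ∈ S.Uw (S.toW n) := by
    refine Sys.conj_closure_le
      (T := {g : GL D.Idx K | ∃ r a, r ∈ S.X.invSet (S.toW n) ∧ g = S.xg r a}) t' ?_ hu
    rintro x ⟨r, a, hr, rfl⟩
    exact Subgroup.subset_closure
      ⟨r, _, hr, ChevCoxTorus68.tor_conj_xg C Sm χ' (S.X.mem_invSet.mp hr).1.1 a⟩
  have hbB : t * b * t⁻¹ * h₁ ∈ D.borelSubgroup K :=
    mul_mem (mul_mem (mul_mem (Sys.H_le_B htH) hb) (inv_mem (Sys.H_le_B htH))) (Sys.H_le_B hh)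
  have he : (t * b * t⁻¹ * h₁) * n * (t' * u * t'⁻¹) = b * n * u := by
    conv_rhs => rw [← h']
    rw [hh₁, ← hχn, ← ht']; group
  obtain ⟨e1, e2⟩ := S.form_unique n hbB hb hu' hu he
  obtain ⟨u₀, hu₀, h₀, hh₀, rfl⟩ := (ChevalleyTorus.mem_B_iff C).1 hb
  have e3 : (t * u₀ * t⁻¹) * (h₀ * h₁) = u₀ * h₀ := by
    conv_rhs => rw [← e1]
    rw [show t * (u₀ * h₀) * t⁻¹ = t * u₀ * t⁻¹ * h₀ by
      rw [show t * (u₀ * h₀) * t⁻¹ = t * u₀ * (h₀ * t⁻¹) by group,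
        ChevalleyTorus.H_comm C hh₀ (inv_mem htH)]
      group]
    group
  have hU : t * u₀ * t⁻¹ ∈ D.posUnipotent K :=
    (Subgroup.mem_normalizer_iff.1 (ChevalleyTorus.H_le_normalizer_U C htH) u₀).1 hu₀
  have e4 : u₀⁻¹ * (t * u₀ * t⁻¹) = h₀ * (h₀ * h₁)⁻¹ := by
    rw [eq_mul_inv_iff_mul_eq, mul_assoc, e3]; group
  have e5 : u₀⁻¹ * (t * u₀ * t⁻¹) = 1 := by
    have := Subgroup.mem_inf.2 ⟨mul_mem (inv_mem hu₀) hU,
      e4 ▸ mul_mem hh₀ (inv_mem (mul_mem hh₀ hh))⟩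
    rwa [ChevalleyTorus.U_inf_H C, Subgroup.mem_bot] at this
  have h11 : h₁ = 1 := by
    have e6 := e5
    rw [e4, mul_inv_rev, ← mul_assoc] at e6
    have : h₀ * h₁⁻¹ = h₀ := by rw [← mul_inv_eq_one]; exact e6
    simpa using this
  have hχ : χ = χn := ChevCoxTorus68.tor_inj C Sm (mul_inv_eq_one.1 (hh₁.symm.trans h11))
  subst hχ
  refine ⟨n, ⟨u₀ * h₀, hb, n, rfl, u, Sys.U_le_B (S.Uw_le_U _ hu), rfl⟩, hevn, fun ψ ψ' hψ hψ' hw => ?_⟩
  have key : ∀ {v : GL D.Idx K}, v ∈ D.posUnipotent K → ∀ φ φ' : Fin D.rank → Additive Kˣ,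
      tor Sm φ * v * (tor Sm φ)⁻¹ = v → (∀ r, r < D.nroots → ev C φ r = 0 → ev C φ' r = 0) →
      tor Sm φ' * v = v * tor Sm φ' := by
    intro v hv φ φ' hfix hzero
    refine mul_inv_eq_iff_eq_mul.1 (ChevTorusValues68.commute_of_commute C hv
      (P := fun c => c = fun i => (act Sm.T φ i).toMul) (fun c hc => hc ▸ hfix) fun r hr hr0 => ?_)
    have h0 := hr0 _ rfl
    rw [ChevCoxTorus68.tchar_tor C Sm φ hr] at h0
    rw [ChevCoxTorus68.tchar_tor C Sm φ' hr, hzero r hr (Additive.toMul.injective h0)]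
    rfl
  obtain ⟨ψn, hψn, hevψ⟩ := ChevCoxTorus68.conj_tor C Sm X hs n ψ'
  have hψeq : ψn = ψ := funext fun j => by
    have hj := X.img_lt ((S.toW n)⁻¹) (X.simple_lt j.isLt)
    have h3 := (hevψ _ hj).trans (hw _ hj).symm
    erw [X.img_img_inv, ev_simple, ev_simple] at h3
    exact h3
  rw [hψeq] at hψn
  have k1 : tor Sm ψ' * u = u * tor Sm ψ' := key (S.Uw_le_U _ hu) χ' ψ' e2 hψ'
  have k2 : tor Sm ψ * u₀ = u₀ * tor Sm ψ := key hu₀ χ ψ (inv_mul_eq_one.1 e5).symm hψ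
  have k3 : h₀ * tor Sm ψ = tor Sm ψ * h₀ := ChevalleyTorus.H_comm C hh₀ (hmemH _)
  calc u₀ * h₀ * (n : GL D.Idx K) * u * tor Sm ψ' = u₀ * h₀ * ((n : GL D.Idx K) * tor Sm ψ') * u := by
        rw [mul_assoc _ u, ← k1]; group
    _ = u₀ * (h₀ * tor Sm ψ) * n * u := by rw [← hψn]; group
    _ = u₀ * tor Sm ψ * h₀ * n * u := by rw [k3]; group
    _ = tor Sm ψ * (u₀ * h₀ * n * u) := by rw [← k2]; group

end Cfsg.Agent.F4TorusCell98
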