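import Cfsg.Agent.Lib.F4WeylEigen98
import Cfsg.Agent.Lib.F4TorusCell98
import Cfsg.Agent.S2372
import Cfsg.Agent.Lib.TwistedTools

/-!
Commuting elements of prime orders in F₄(q): the torus of an element, and partners in it.
-/

set_option autoImplicit false
set_option linter.unusedSectionVars false
set_option maxRecDepth 20000

namespace Cfsg.Agent.F4TorusPartner98

open Cfsg Cfsg.Lie Cfsg.Agent.ChevalleyCert Cfsg.Agent.ChevalleyCore Cfsg.Agent.ChevWeyl Cfsg.Agent.ChevBruhat
  Cfsg.Agent.ChevRootCoord68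
open Cfsg.Agent.F4PrimeCheck98 (c4 X4)
open Cfsg.Agent.ChevCoxTorus68 (tor)
open Cfsg.Agent.ChevalleyTorusCard (act)

/-- the parabolic on the first three fundamental roots -/
def J3 : Set ℕ := {0, 1, 2}

/-- the parameters of the torus -/
abbrev sm : ChevalleyTorusCard.Smith chevF4 1 0 := ChevalleyTorusCard.smithF4

theorem reflect_three : ∀ i : Fin 3, ∀ s : Fin chevF4.nroots,
    c4.coef (chevF4.reflectRoot i.val s.val) 3 = c4.coef s.val 3 := by decide +kernel

theorem ds_small : ∀ e ∈ ([2, 6, 8, 12] : List ℕ), e ∣ 2 ^ 3 * 3 := by decide +kernel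

section Fields

variable {F L : Type*} [Field F] [Fintype F] [Field L] [Fintype L]

theorem coef_WJ {w : X4.W}
    (hw : w ∈ ChevalleyCells.WJ (ChevBruhatInstance.mkSys c4 X4 S2372.supp : Sys chevF4 L) J3) :
    ∀ {s : ℕ}, s < chevF4.nroots → c4.coef (X4.img w s) 3 = c4.coef s 3 := by
  induction hw using Subgroup.closure_induction with
  | mem x hx =>
    obtain ⟨i, hi, rfl⟩ := hx
    intro s hs
    exact (congrArg (c4.coef · 3) (X4.img_simple i hs)).trans
      (reflect_three ⟨i.val, by simp [J3] at hi; omega⟩ ⟨s, hs⟩)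
  | one => intro s _; exact congrArg (c4.coef · 3) (X4.img_one (r := s))
  | mul x y _ _ hx hy => intro s hs; exact (congrArg (c4.coef · 3) (X4.img_mul x y s)).trans ((hx (X4.img_lt y hs)).trans (hy hs))
  | inv x _ hx =>
    intro s hs
    have := hx (X4.img_lt x⁻¹ hs)
    erw [X4.img_img_inv] at this
    exact this.symm

theorem hg_map (ι : F →+* L) (r : ℕ) (t : F) :
    Matrix.GeneralLinearGroup.map ι (hg c4 r t) = hg c4 r (ι t) := by
  simp only [hg, ng, map_mul, TwistedTools.xg_map c4, map_neg, map_inv₀, map_one]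

theorem map_parabolic (ι : F →+* L) (J : Set ℕ) {g : GL chevF4.Idx F} (hg' : g ∈ chevF4.parabolicSubgroup F J) :
    Matrix.GeneralLinearGroup.map ι g ∈ chevF4.parabolicSubgroup L J := by
  have hle : chevF4.parabolicSubgroup F J ≤
      (chevF4.parabolicSubgroup L J).comap (Matrix.GeneralLinearGroup.map ι) := by
    rw [ChevalleyParabolic.parabolic_eq c4 J]
    refine sup_le ((Subgroup.closure_le _).2 ?_) ((Subgroup.closure_le _).2 ?_)
    · rintro g ⟨r, t, hr, ht, hgt⟩
      obtain rfl : g = hg c4 r t := Units.ext (hgt.trans (coe_hg c4 r t).symm)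
      rw [SetLike.mem_coe, Subgroup.mem_comap, hg_map]
      rw [ChevalleyParabolic.parabolic_eq c4 J]
      exact Subgroup.mem_sup_left (ChevalleyTorus.hg_mem_H c4 hr (by simpa using ht))
    · rintro g ⟨r, t, hr, hgt⟩
      obtain rfl : g = xg c4 r t := (xg_eq_iff c4).1 hgt |>.symm ▸ rfl
      rw [SetLike.mem_coe, Subgroup.mem_comap, TwistedTools.xg_map]
      exact ChevalleyParabolic.root_mem_parabolic c4 hr _
  exact hle hg'

/-- an element of prime order prime to the index of the torus is conjugate into it inside any overgroup -/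
theorem conj_in {r : ℕ} (hr : r.Prime) (hr5 : 5 ≤ r) (hcong : (Fintype.card L : ZMod r) = 1)
    {C : Subgroup (GL chevF4.Idx L)} (hC : C ≤ chevF4.group L) (hT : chevF4.diagonalSubgroup L ≤ C)
    {x : GL chevF4.Idx L} (hx : x ∈ C) (hxr : x ^ r = 1) :
    ∃ g ∈ C, g * x * g⁻¹ ∈ chevF4.diagonalSubgroup L := by
  classical
  have : Fact r.Prime := ⟨hr⟩
  set Q := Fintype.card L with hQ
  have hQ1 : 1 < Q := Fintype.one_lt_card
  have hH : 1 * Nat.card ↥(chevF4.diagonalSubgroup L) = (Q - 1) ^ chevF4.rank := by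
    simpa using ChevalleyTorusCard.card_H (F := L) c4 sm
  have hG := ChevOrder.order_eq (F := L) c4 X4 S2372.supp [2, 6, 8, 12] S2372.poly hH
  rw [one_mul, ← hQ] at hG
  rw [one_mul] at hH
  let T : Subgroup ↥(chevF4.group L) := (chevF4.diagonalSubgroup L).subgroupOf (chevF4.group L)
  let C' : Subgroup ↥(chevF4.group L) := C.subgroupOf (chevF4.group L)
  have hTC : T ≤ C' := fun z hz => hT hz
  have hidx : ¬ r ∣ T.index := by
    have hTc : Nat.card ↥T = (Q - 1) ^ chevF4.rank :=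
      (Nat.card_congr (Subgroup.subgroupOfEquivOfLe (hT.trans hC)).toEquiv).trans hH
    have h1 := T.card_mul_index
    rw [hTc, hG] at h1
    have h2 : T.index = Q ^ (chevF4.nroots / 2) *
        (([2, 6, 8, 12] : List ℕ).map fun e => ∑ i ∈ Finset.range e, Q ^ i).prod := by
      apply Nat.eq_of_mul_eq_mul_left (pow_pos (show 0 < Q - 1 by omega) chevF4.rank)
      rw [h1, show chevF4.rank = 4 from rfl]
      simp only [List.map_cons, List.map_nil, List.prod_cons, List.prod_nil, mul_one,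
        ← geom_sum_mul_of_one_le hQ1.le]
      ring
    rw [h2, hr.dvd_mul]
    rintro (h3 | h3)
    · have := (ZMod.natCast_eq_zero_iff _ r).2 (hr.dvd_of_dvd_pow h3)
      rw [hcong] at this
      exact one_ne_zero this
    · obtain ⟨a, ha, hdvd⟩ := hr.prime.dvd_prod_iff.1 h3
      obtain ⟨e, he, rfl⟩ := List.mem_map.1 ha
      have h4 := (ZMod.natCast_eq_zero_iff _ r).2 hdvd
      push_cast at h4
      simp only [hcong, one_pow, Finset.sum_const, Finset.card_range, nsmul_eq_mul, mul_one] at h4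
      rcases hr.dvd_mul.1 (((ZMod.natCast_eq_zero_iff _ r).1 h4).trans (ds_small e he)) with h' | h'
      · have := Nat.le_of_dvd (by norm_num) (hr.dvd_of_dvd_pow h'); omega
      · have := Nat.le_of_dvd (by norm_num) h'; omega
  let z : ↥(chevF4.group L) := ⟨x, hC hx⟩
  have hzC : z ∈ C' := hx
  let z' : ↥C' := ⟨z, hzC⟩
  have hz' : z' ^ r = 1 := Subtype.ext (Subtype.ext hxr)
  have hp : IsPGroup r ↥(Subgroup.zpowers z') := by
    intro y
    obtain ⟨y, k, rfl⟩ := y
    refine ⟨1, Subtype.ext ?_⟩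
    show (z' ^ k) ^ (r ^ 1) = 1
    rw [pow_one, ← zpow_natCast, ← zpow_mul, mul_comm, zpow_mul, zpow_natCast, hz', one_zpow]
  have hnd : ¬ r ∣ (T.subgroupOf C').index := fun hd =>
    hidx (hd.trans (Subgroup.relIndex_mul_index hTC ▸ Dvd.intro _ rfl))
  obtain ⟨a, ha⟩ := hp.nonempty_fixed_point_of_prime_not_dvd_card (↥C' ⧸ T.subgroupOf C') hnd
  induction a using QuotientGroup.induction_on with
  | _ a =>
    have h1 : (QuotientGroup.mk (z' * a) : ↥C' ⧸ T.subgroupOf C') = QuotientGroup.mk a :=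
      ha ⟨z', Subgroup.mem_zpowers z'⟩
    have h2 := QuotientGroup.eq.1 h1.symm
    refine ⟨(((a⁻¹ : ↥C') : ↥(chevF4.group L)) : GL chevF4.Idx L), (a⁻¹ : ↥C').2, ?_⟩
    rw [Subgroup.mem_subgroupOf, Subgroup.mem_subgroupOf] at h2
    simpa [mul_assoc, z', z] using h2

variable [Algebra F L]

/-- the map to the larger field -/
noncomputable abbrev up : GL chevF4.Idx F →* GL chevF4.Idx L := Matrix.GeneralLinearGroup.map (algebraMap F L)

/-- the Frobenius of the larger field over the smaller -/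
noncomputable def sig : L ≃+* L := (FiniteField.frobeniusAlgEquivOfAlgebraic F L).toRingEquiv

theorem sig_apply (x : L) : sig (F := F) x = x ^ Fintype.card F := rfl

theorem up_injective : Function.Injective (up (F := F) (L := L)) := by
  intro a b hab
  apply Units.ext
  have h := congrArg (fun g : GL chevF4.Idx L => (g : Matrix chevF4.Idx chevF4.Idx L)) hab
  simp only [ChevFieldAut77.coe_map] at h
  exact Matrix.map_injective (algebraMap F L).injective h

theorem psi_up (y : GL chevF4.Idx F) : ChevFieldAut77.psi (sig (F := F)) (up (L := L) y) = up y := by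
  apply Units.ext
  rw [ChevFieldAut77.coe_map, ChevFieldAut77.coe_map]
  ext i j
  show sig (F := F) (algebraMap F L _) = algebraMap F L _
  rw [sig_apply, ← map_pow, FiniteField.pow_card]

theorem psi_tor (χ : Fin chevF4.rank → Additive Lˣ) :
    ChevFieldAut77.psi (sig (F := F)) (tor sm χ) = tor sm (Fintype.card F • χ) := by
  rw [tor, tor, ChevFieldAut77.psi_torus, ChevalleyTorusCard.act_nsmul]
  refine congrArg _ (funext fun i => Units.ext ?_)
  simp [toMul_nsmul, sig_apply]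

theorem descend {y : GL chevF4.Idx L} (hy : y ∈ chevF4.group L)
    (hfix : ChevFieldAut77.psi (sig (F := F)) y = y) : ∃ x ∈ chevF4.group F, up x = y := by
  let S : Sys chevF4 L := ChevBruhatInstance.mkSys c4 X4 S2372.supp
  have hfg := ChevFieldAut77.fixed_mem c4 S (sig (F := F)) (ChevFieldAut77.torus_injective sm c4) hy hfix
  induction hfg using Subgroup.closure_induction with
  | mem x hx =>
    obtain ⟨r, t, hr, ht, rfl⟩ := hx
    rw [sig_apply] at ht
    obtain ⟨t₀, rfl⟩ := ChevCoxTorus68.mem_range_of_pow_card (algebraMap F L) ht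
    exact ⟨xg c4 r t₀, xg_mem_group c4 _ _, (TwistedTools.xg_map c4 _ r t₀).trans
      (Units.ext (by rw [coe_xg, S.coe_xg]))⟩
  | one => exact ⟨1, one_mem _, map_one _⟩
  | mul a b ha' hb' ha hb =>
    obtain ⟨x, hx, rfl⟩ := ha (by
      exact (Subgroup.closure_le _).2 (by rintro g ⟨r, t, hr, -, rfl⟩; exact S.xg_mem_group hr t) ha')
      (ChevFieldAut77.psi_fixGen c4 S _ ha')
    obtain ⟨z, hz, rfl⟩ := hb (by
      exact (Subgroup.closure_le _).2 (by rintro g ⟨r, t, hr, -, rfl⟩; exact S.xg_mem_group hr t) hb')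
      (ChevFieldAut77.psi_fixGen c4 S _ hb')
    exact ⟨x * z, mul_mem hx hz, map_mul _ _ _⟩
  | inv a ha' ha =>
    obtain ⟨x, hx, rfl⟩ := ha (by
      exact (Subgroup.closure_le _).2 (by rintro g ⟨r, t, hr, -, rfl⟩; exact S.xg_mem_group hr t) ha')
      (ChevFieldAut77.psi_fixGen c4 S _ ha')
    exact ⟨x⁻¹, inv_mem hx, map_inv _ _⟩

end Fields

section Prime

variable {F L : Type*} [Field F] [Fintype F] [Field L] [Fintype L] [Algebra F L]

theorem cong_of_order {r k : ℕ} (hL : Fintype.card L = Fintype.card F ^ 24)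
    (hk : orderOf (Fintype.card F : ZMod r) = k) (h24 : k ∣ 24) : (Fintype.card L : ZMod r) = 1 := by
  rw [hL, Nat.cast_pow]
  exact orderOf_dvd_iff_pow_eq_one.1 (hk ▸ h24)

theorem dvd_card_sub_one {r : ℕ} (h : (Fintype.card L : ZMod r) = 1) : r ∣ Fintype.card L - 1 := by
  rw [← ZMod.natCast_eq_zero_iff, Nat.cast_sub Fintype.card_pos, h, Nat.cast_one, sub_self]

theorem tor_order {χ : Fin chevF4.rank → Additive Lˣ} {r : ℕ} (hr : r.Prime)
    (h : orderOf (tor sm χ) = r) : r • χ = 0 ∧ χ ≠ 0 := by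
  have hinj : Function.Injective (ChevCoxTorus68.torHom (K := L) sm) := fun a b hab =>
    Multiplicative.toAdd.injective (ChevCoxTorus68.tor_inj c4 sm hab)
  rw [show tor sm χ = ChevCoxTorus68.torHom sm (Multiplicative.ofAdd χ) from rfl, orderOf_injective _ hinj,
    orderOf_ofAdd_eq_addOrderOf] at h
  refine ⟨h ▸ addOrderOf_nsmul_eq_zero χ, fun h0 => ?_⟩
  rw [h0, addOrderOf_zero] at h
  exact hr.one_lt.ne h

theorem tor_of_order {χ : Fin chevF4.rank → Additive Lˣ} {r : ℕ} [Fact r.Prime] (h : r • χ = 0) (h0 : χ ≠ 0) :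
    orderOf (tor sm χ) = r := by
  have hinj : Function.Injective (ChevCoxTorus68.torHom (K := L) sm) := fun a b hab =>
    Multiplicative.toAdd.injective (ChevCoxTorus68.tor_inj c4 sm hab)
  rw [show tor sm χ = ChevCoxTorus68.torHom sm (Multiplicative.ofAdd χ) from rfl, orderOf_injective _ hinj,
    orderOf_ofAdd_eq_addOrderOf]
  exact addOrderOf_eq_prime h h0

theorem regular_centraliser {s : ℕ} (hs : s.Prime) (hcong : (Fintype.card L : ZMod s) = 1)
    {χ : Fin chevF4.rank → Additive Lˣ} (hsχ : s • χ = 0) (hreg : ∀ a, a < chevF4.nroots → ev c4 χ a ≠ 0)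
    {y : GL chevF4.Idx L} (hy : y ∈ chevF4.group L) (hc : y * tor sm χ = tor sm χ * y) :
    y ∈ chevF4.diagonalSubgroup L := by
  obtain ⟨v, hv, hvn⟩ := ChevCoxTorus68.transporter c4 sm X4 S2372.supp hy hc
  obtain ⟨u, hu, hgen⟩ := ChevCoxTorus68.exists_prim (K := L) (dvd_card_sub_one hcong)
  choose f hf using fun j => hgen (χ j) (congrFun hsχ j)
  have hevf : ∀ a, ev c4 χ a = ev c4 f a • u := fun a => by
    rw [← ev_smul_const]; exact congrArg (ev c4 · a) (funext hf).symm
  have hdvd : ∀ z : ℤ, z • u = 0 ↔ (s : ℤ) ∣ z := fun z => by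
    rw [← hu, addOrderOf_dvd_iff_zsmul_eq_zero]
  have hv1 : v = 1 := by
    refine no_fix S2372.num X4 S2372.supp (Int.natCast_pos.2 hs.pos) f
      (fun a ha hd => hreg a ha ((hevf a).trans ((hdvd _).2 hd))) v fun a ha => ?_
    rw [← hdvd, sub_smul, ← hevf, ← hevf, hv a ha, sub_self]
  obtain ⟨n, hn, hnv⟩ := hvn hreg
  exact hn ▸ (ChevCoxTorus68.sysK c4 X4 S2372.supp).toW_ker.le (hnv.trans hv1)

/-- the transporter from an element of the smaller group to its Frobenius image -/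
theorem frob_transport {x : GL chevF4.Idx F} {g : GL chevF4.Idx L} {χ : Fin chevF4.rank → Additive Lˣ}
    (hχ : tor sm χ = g * up x * g⁻¹) :
    g * (ChevFieldAut77.psi (sig (F := F)) g)⁻¹ * tor sm (Fintype.card F • χ) =
      tor sm χ * (g * (ChevFieldAut77.psi (sig (F := F)) g)⁻¹) := by
  rw [← psi_tor, hχ, map_mul, map_mul, map_inv, psi_up]
  simp [mul_assoc]

theorem psi_mem_group {g : GL chevF4.Idx L} (hg' : g ∈ chevF4.group L) :
    ChevFieldAut77.psi (sig (F := F)) g ∈ chevF4.group L :=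
  ChevCoxTorus68.map_mem_group c4 _ hg'

theorem exists_eigen {r k : ℕ} [Fact r.Prime] (hk : orderOf (Fintype.card F : ZMod r) = k) (hk0 : 0 < k)
    (hrk : ¬ r ∣ k) (hcong : (Fintype.card L : ZMod r) = 1) {w : X4.W}
    (hd : Polynomial.cyclotomic k ℤ ∣ (ChevCoxTorus68.Pm c4 X4 w).charpoly) :
    ∃ ψ : Fin chevF4.rank → Additive Lˣ, r • ψ = 0 ∧ ψ ≠ 0 ∧
      ∀ a, a < chevF4.nroots → ev c4 ψ (X4.img w a) = Fintype.card F • ev c4 ψ a := by
  set q := Fintype.card F with hq
  set P := ChevCoxTorus68.Pm c4 X4 w with hP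
  have : NeZero (k : ZMod r) := ⟨fun h => hrk ((ZMod.natCast_eq_zero_iff _ _).1 h)⟩
  have hroot : (Polynomial.cyclotomic k (ZMod r)).IsRoot (q : ZMod r) :=
    Polynomial.isRoot_cyclotomic_iff.2 (hk ▸ IsPrimitiveRoot.orderOf _)
  set B : Matrix (Fin chevF4.rank) (Fin chevF4.rank) ℤ := P - (q : ℤ) • 1 with hB
  have hdet : (B.map (Int.castRingHom (ZMod r))).det = 0 := by
    have h1 : (Matrix.scalar (Fin chevF4.rank) (q : ZMod r) - P.map (Int.castRingHom (ZMod r))).det = 0 := by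
      rw [← Matrix.eval_charpoly, Matrix.charpoly_map]
      refine Polynomial.IsRoot.dvd hroot ?_
      have := Polynomial.map_dvd (Int.castRingHom (ZMod r)) hd
      rwa [Polynomial.map_cyclotomic] at this
    rw [show B.map (Int.castRingHom (ZMod r)) =
      -(Matrix.scalar (Fin chevF4.rank) (q : ZMod r) - P.map (Int.castRingHom (ZMod r))) by
        ext i j; rcases eq_or_ne i j with rfl | hij <;> simp [hB, Matrix.natCast_apply, *], Matrix.det_neg, h1, mul_zero]
  obtain ⟨v, hv0, hv⟩ := Matrix.exists_mulVec_eq_zero_iff.2 hdet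
  obtain ⟨u, hu, -⟩ := ChevCoxTorus68.exists_prim (K := L) (dvd_card_sub_one hcong)
  have hru : r • u = 0 := hu ▸ addOrderOf_nsmul_eq_zero u
  have hdvd : ∀ z : ℤ, z • u = 0 ↔ (r : ℤ) ∣ z := fun z => by
    rw [← hu, addOrderOf_dvd_iff_zsmul_eq_zero]
  refine ⟨fun j => ((v j).val : ℤ) • u, funext fun j => ?_, fun h => hv0 (funext fun j => ?_), ?_⟩
  · show r • (((v j).val : ℤ) • u) = 0
    rw [← natCast_zsmul, ← mul_smul, mul_comm, mul_smul, show (r : ℤ) • u = 0 from (natCast_zsmul _ _).trans hru,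
      zsmul_zero]
  · have h2 := (hdvd _).1 (congrFun h j)
    rw [← ZMod.intCast_zmod_eq_zero_iff_dvd] at h2
    simpa using h2
  · have hB0 : act B (fun j => ((v j).val : ℤ) • u) = 0 := by
      funext i
      show ∑ j, B i j • (((v j).val : ℤ) • u) = 0
      simp_rw [← mul_smul]
      refine ((map_sum (zmultiplesHom (Additive Lˣ) u) (fun x => B i x * ((v x).val : ℤ)) Finset.univ).symm).trans
        ((hdvd _).2 ?_)
      rw [← ZMod.intCast_zmod_eq_zero_iff_dvd]
      have := congrFun hv i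
      simp only [Matrix.mulVec, dotProduct, Matrix.map_apply, Pi.zero_apply] at this
      simpa using this
    rw [hB, hP, ChevCoxTorus68.act_sub_smul, sub_eq_zero, natCast_zsmul] at hB0
    intro a ha
    rw [← ev_wact c4 X4 w _ ha, hB0, ev_nsmul]

/-- an element of prime order `s` has a partner of prime order `r` with the same invariant -/
theorem partner {r s k : ℕ} (hr : r.Prime) (hr5 : 5 ≤ r) (hs : s.Prime) (hs5 : 5 ≤ s)
    (hL : Fintype.card L = Fintype.card F ^ 24)
    (hkr : orderOf (Fintype.card F : ZMod r) = k) (hks : orderOf (Fintype.card F : ZMod s) = k)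
    {x : GL chevF4.Idx F} (hxo : orderOf x = s) (hx : x ∈ chevF4.group F)
    (hk : k = 8 ∨ k = 12 ∨ ((k = 3 ∨ k = 4 ∨ k = 6) ∧ x ∈ chevF4.parabolicSubgroup F J3)) :
    ∃ y ∈ chevF4.group F, orderOf y = r ∧ Commute x y := by
  have : Fact r.Prime := ⟨hr⟩
  let S : Sys chevF4 L := ChevBruhatInstance.mkSys c4 X4 S2372.supp
  have hk24 : k ∣ 24 ∧ 0 < k ∧ k ≤ 12 := by
    rcases hk with h | h | ⟨h | h | h, -⟩ <;> subst h <;> norm_num
  have hcr := cong_of_order hL hkr hk24.1
  have hcs := cong_of_order hL hks hk24.1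
  have hrk : ¬ r ∣ k := fun h => by
    have : r = 5 ∨ r ≠ 5 := eq_or_ne r 5
    have h' := hr.eq_one_or_self_of_dvd
    rcases hk with h1 | h1 | ⟨h1 | h1 | h1, -⟩ <;> rw [h1] at h <;> [
      (have h2 := (Nat.prime_dvd_prime_iff_eq hr Nat.prime_two).1 (hr.dvd_of_dvd_pow (show r ∣ 2 ^ 3 from h)); omega);
      (rcases hr.dvd_mul.1 (show r ∣ 4 * 3 from h) with h2 | h2 <;> have := Nat.le_of_dvd (by norm_num) h2 <;> omega);
      (have := Nat.le_of_dvd (by norm_num) h; omega);
      (have := Nat.le_of_dvd (by norm_num) h; omega);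
      (rcases hr.dvd_mul.1 (show r ∣ 2 * 3 from h) with h2 | h2 <;> have := Nat.le_of_dvd (by norm_num) h2 <;> omega)]
  set h := up (L := L) x with hh
  have hho : orderOf h = s := by rw [hh, orderOf_injective up up_injective, hxo]
  have hhG : h ∈ chevF4.group L := ChevCoxTorus68.map_mem_group c4 _ hx
  -- the conjugating element
  obtain ⟨g, hgG, hgH, hgJ⟩ : ∃ g ∈ chevF4.group L, g * h * g⁻¹ ∈ chevF4.diagonalSubgroup L ∧
      ((k = 3 ∨ k = 4 ∨ k = 6) → g ∈ chevF4.parabolicSubgroup L J3) := by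
    by_cases hk3 : k = 3 ∨ k = 4 ∨ k = 6
    · have hxP : x ∈ chevF4.parabolicSubgroup F J3 := by
        rcases hk with h1 | h1 | ⟨-, h1⟩
        · omega
        · omega
        · exact h1
      have hP := ChevalleyParabolicBN.parabolic_le_group c4 S J3
      obtain ⟨g, hg', hgH⟩ := conj_in hs hs5 hcs hP (ChevalleyCells.H_le_parabolic c4 S J3)
        (map_parabolic _ J3 hxP) (by rw [← hho]; exact pow_orderOf_eq_one h)
      exact ⟨g, hP hg', hgH, fun _ => hg'⟩
    · obtain ⟨g, hg', hgH⟩ := conj_in hs hs5 hcs le_rfl S.H_le_group hhG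
        (by rw [← hho]; exact pow_orderOf_eq_one h)
      exact ⟨g, hg', hgH, fun h' => absurd h' hk3⟩
  obtain ⟨χ, hχ⟩ := (ChevCoxTorus68.mem_H_iff c4 sm).1 hgH
  obtain ⟨hsχ, hχ0⟩ := tor_order hs (by
    rw [hχ, show g * h * g⁻¹ = MulAut.conj g h from rfl, MulEquiv.orderOf_eq, hho])
  set ng' := g * (ChevFieldAut77.psi (sig (F := F)) g)⁻¹ with hn'
  obtain ⟨n, hcell, hw, hcomm⟩ := F4TorusCell98.transport c4 sm X4 S2372.supp
    (mul_mem hgG (inv_mem (psi_mem_group hgG))) (frob_transport (x := x) hχ)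
  set w := S.toW n with hw_def
  have hwq : ∀ a, a < chevF4.nroots → ev c4 χ (X4.img w a) = Fintype.card F • ev c4 χ a := fun a ha =>
    (hw a ha).trans (ev_nsmul c4 _ χ a)
  obtain ⟨hd, -⟩ := F4PrimeCheck98.cyclotomic_of_eigen hs hs5 hks hk24.2.1 hsχ hχ0 hwq
  obtain ⟨ψ, hrψ, hψ0, hwψ⟩ := exists_eigen hkr hk24.2.1 hrk hcr hd
  have hvan : ∀ a, a < chevF4.nroots → ev c4 χ a = 0 → ev c4 ψ a = 0 := by
    intro a ha h0
    by_cases hk3 : k = 3 ∨ k = 4 ∨ k = 6
    · refine F4PrimeCheck98.killed_small hs hs5 hks hk3 hsχ hχ0 ?_ hwq hr hkr hrψ hwψ ha h0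
      intro i hi
      refine coef_WJ (L := L) (w := w) ?_ (X4.simple_lt hi)
      refine ChevalleyRelative.cell_mem_WJ c4 S ?_ hcell
      exact mul_mem (hgJ hk3) (inv_mem (map_parabolic _ J3 (hgJ hk3)))
    · exact absurd h0 (F4PrimeCheck98.regular_big hs hs5 hks (by
        rcases hk with h1 | h1 | ⟨h1, -⟩
        · exact Or.inl h1
        · exact Or.inr h1
        · exact absurd h1 hk3) hsχ hχ0 hwq ha)
  have hq0 : ∀ a, a < chevF4.nroots → ev c4 (Fintype.card F • χ) a = 0 →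
      ev c4 (Fintype.card F • ψ) a = 0 := by
    intro a ha h0
    rw [← hw a ha] at h0
    rw [ev_nsmul, ← hwψ a ha]
    exact hvan _ (X4.img_lt w ha) h0
  have hn2 := hcomm ψ (Fintype.card F • ψ) hvan hq0 fun a ha => (hwψ a ha).trans (ev_nsmul c4 _ ψ a).symm
  have hyG : g⁻¹ * tor sm ψ * g ∈ chevF4.group L :=
    mul_mem (mul_mem (inv_mem hgG) (S.H_le_group ((ChevCoxTorus68.mem_H_iff c4 sm).2 ⟨ψ, rfl⟩))) hgG
  obtain ⟨y, hy, hye⟩ := descend (F := F) hyG (by
    rw [map_mul, map_mul, map_inv, psi_tor]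
    calc _ = g⁻¹ * (g * (ChevFieldAut77.psi (sig (F := F)) g)⁻¹ * tor sm (Fintype.card F • ψ)) *
          ChevFieldAut77.psi (sig (F := F)) g := by group
      _ = _ := by rw [hn2]; group)
  refine ⟨y, hy, ?_, ?_⟩
  · rw [← orderOf_injective up (up_injective (F := F) (L := L)), hye,
      show g⁻¹ * tor sm ψ * g = MulAut.conj g⁻¹ (tor sm ψ) by simp, MulEquiv.orderOf_eq, tor_of_order hrψ hψ0]
  · apply up_injective (F := F) (L := L)
    rw [map_mul, map_mul, hye]
    have hhc : h = g⁻¹ * tor sm χ * g := by rw [hχ]; group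
    show h * (g⁻¹ * tor sm ψ * g) = g⁻¹ * tor sm ψ * g * h
    rw [hhc]
    have hc : tor sm χ * tor sm ψ = tor sm ψ * tor sm χ := by
      rw [← ChevCoxTorus68.tor_add, ← ChevCoxTorus68.tor_add, add_comm]
    calc g⁻¹ * tor sm χ * g * (g⁻¹ * tor sm ψ * g) = g⁻¹ * (tor sm χ * tor sm ψ) * g := by group
      _ = _ := by rw [hc]; group

/-- the common Weyl element of two commuting elements conjugated into the torus -/
theorem common_weyl {r s : ℕ} (hrs : r.Coprime s) {a b : GL chevF4.Idx F} {g : GL chevF4.Idx L}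
    (hgG : g ∈ chevF4.group L) {χ ψ : Fin chevF4.rank → Additive Lˣ} (hχ : tor sm χ = g * up b * g⁻¹)
    (hψ : tor sm ψ = g * up a * g⁻¹) (hsχ : s • χ = 0) (hrψ : r • ψ = 0) :
    ∃ w : X4.W, (∀ i, i < chevF4.nroots → ev c4 χ (X4.img w i) = Fintype.card F • ev c4 χ i) ∧
      ∀ i, i < chevF4.nroots → ev c4 ψ (X4.img w i) = Fintype.card F • ev c4 ψ i := by
  have hsum : tor sm (χ + ψ) = g * up (b * a) * g⁻¹ := by
    rw [ChevCoxTorus68.tor_add, hχ, hψ, map_mul]; group
  obtain ⟨w, hw, -⟩ := ChevCoxTorus68.transporter c4 sm X4 S2372.supp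
    (mul_mem hgG (inv_mem (psi_mem_group hgG))) (frob_transport (x := b * a) hsum)
  have hw' : ∀ (c : ℤ) i, i < chevF4.nroots →
      ev c4 (c • (χ + ψ)) (X4.img w i) = Fintype.card F • ev c4 (c • (χ + ψ)) i := fun c i hi => by
    rw [ev_zsmul, ev_zsmul, hw i hi, ev_nsmul, ← natCast_zsmul, ← natCast_zsmul, smul_comm]
  obtain ⟨u, v, huv⟩ := (Nat.Coprime.isCoprime hrs : IsCoprime (r : ℤ) (s : ℤ))
  have hr' : (r : ℤ) • ψ = 0 := (natCast_zsmul _ _).trans hrψ
  have hs' : (s : ℤ) • χ = 0 := (natCast_zsmul _ _).trans hsχ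
  have h1 : (u * r) • (χ + ψ) = χ := by
    have : (u * r) • χ = χ := by
      conv_rhs => rw [← one_zsmul χ, ← huv, add_zsmul, mul_zsmul _ v, hs', zsmul_zero, add_zero]
    rw [zsmul_add, this, mul_zsmul _ u, hr', zsmul_zero, add_zero]
  have h2 : (v * s) • (χ + ψ) = ψ := by
    have : (v * s) • ψ = ψ := by
      conv_rhs => rw [← one_zsmul ψ, ← huv, add_zsmul, mul_zsmul _ u, hr', zsmul_zero, zero_add]
    rw [zsmul_add, this, mul_zsmul _ v, hs', zsmul_zero, zero_add]
  refine ⟨w, fun i hi => ?_, fun i hi => ?_⟩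
  · simpa only [h1] using hw' (u * r) i hi
  · simpa only [h2] using hw' (v * s) i hi

/-- no commuting elements when one has order 8 or 12 modulo its prime and the other less -/
theorem not_commute_big {r s k : ℕ} (hr : r.Prime) (hs : s.Prime) (hrs : r ≠ s)
    (hL : Fintype.card L = Fintype.card F ^ 24) (h2 : (2 : F) = 0)
    (hks : orderOf (Fintype.card F : ZMod s) = k) (hk : k = 8 ∨ k = 12)
    (hkr : r = 2 ∨ orderOf (Fintype.card F : ZMod r) < k)
    {a b : GL chevF4.Idx F} (haG : a ∈ chevF4.group F) (hbG : b ∈ chevF4.group F) (hao : orderOf a = r)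
    (hbo : orderOf b = s) (hab : Commute a b) : False := by
  have : Fact s.Prime := ⟨hs⟩
  have : Fact r.Prime := ⟨hr⟩
  have hs5 : 5 ≤ s := by
    have hq0 : (Fintype.card F : ZMod s) ≠ 0 := fun h0 => by
      rw [h0, orderOf_eq_zero_iff'.2 fun n hn => by rw [zero_pow hn.ne']; exact zero_ne_one] at hks
      omega
    have h1 := Nat.le_of_dvd (by have := hs.two_le; omega) (ZMod.orderOf_dvd_card_sub_one hq0)
    omega
  have hk24 : k ∣ 24 := by rcases hk with h | h <;> subst h <;> norm_num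
  have hcs := cong_of_order hL hks hk24
  let S : Sys chevF4 L := ChevBruhatInstance.mkSys c4 X4 S2372.supp
  have hbL : up (L := L) b ∈ chevF4.group L := ChevCoxTorus68.map_mem_group c4 _ hbG
  obtain ⟨g, hgG, hgH⟩ := conj_in hs hs5 hcs le_rfl S.H_le_group hbL (by
    rw [← map_pow, ← hbo, pow_orderOf_eq_one, map_one])
  obtain ⟨χ, hχ⟩ := (ChevCoxTorus68.mem_H_iff c4 sm).1 hgH
  obtain ⟨hsχ, hχ0⟩ := tor_order hs (by
    rw [hχ, show g * up b * g⁻¹ = MulAut.conj g (up b) from rfl, MulEquiv.orderOf_eq,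
      orderOf_injective up up_injective, hbo])
  obtain ⟨w₀, hw₀, -⟩ := ChevCoxTorus68.transporter c4 sm X4 S2372.supp
    (mul_mem hgG (inv_mem (psi_mem_group hgG))) (frob_transport (x := b) hχ)
  have hreg : ∀ i, i < chevF4.nroots → ev c4 χ i ≠ 0 := fun i hi =>
    F4PrimeCheck98.regular_big hs hs5 hks hk hsχ hχ0 (fun j hj => (hw₀ j hj).trans (ev_nsmul c4 _ χ j)) hi
  have hy : g * up a * g⁻¹ ∈ chevF4.diagonalSubgroup L := by
    refine regular_centraliser hs hcs hsχ hreg
      (mul_mem (mul_mem hgG (ChevCoxTorus68.map_mem_group c4 _ haG)) (inv_mem hgG)) ?_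
    rw [hχ]
    have hcm : up (L := L) a * up b = up b * up a := (hab.map up).eq
    calc g * up a * g⁻¹ * (g * up b * g⁻¹) = g * (up a * up b) * g⁻¹ := by group
      _ = _ := by rw [hcm]; group
  obtain ⟨ψ, hψ⟩ := (ChevCoxTorus68.mem_H_iff c4 sm).1 hy
  obtain ⟨hrψ, hψ0⟩ := tor_order hr (by
    rw [hψ, show g * up a * g⁻¹ = MulAut.conj g (up a) from rfl, MulEquiv.orderOf_eq,
      orderOf_injective up up_injective, hao])
  rcases eq_or_ne r 2 with rfl | hr2
  · apply hψ0
    funext j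
    have h1 := congrArg (fun z : Additive Lˣ => ((z.toMul : Lˣ) : L)) (congrFun hrψ j)
    simp only [Pi.smul_apply, toMul_nsmul, Pi.zero_apply, toMul_zero, Units.val_pow_eq_pow_val, Units.val_one] at h1
    apply Additive.toMul.injective
    apply Units.ext
    have h2' : (2 : L) = 0 := by
      rw [← map_ofNat (algebraMap F L) 2, h2, map_zero]
    have h3 : (((ψ j).toMul : L) - 1) ^ 2 = 0 := by linear_combination h1 + (1 - ((ψ j).toMul : L)) * h2'
    simpa [sub_eq_zero] using h3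
  · have hkr := hkr.resolve_left hr2
    obtain ⟨w, hwχ, hwψ⟩ := common_weyl ((Nat.coprime_primes hr hs).2 hrs) hgG hχ hψ hsχ hrψ
    obtain ⟨hd, -⟩ := F4PrimeCheck98.cyclotomic_of_eigen hs hs5 hks (by omega) hsχ hχ0 hwχ
    have hcp : (ChevCoxTorus68.Pm c4 X4 w).charpoly = Polynomial.cyclotomic k ℤ :=
      Polynomial.eq_of_monic_of_dvd_of_natDegree_le (Polynomial.cyclotomic.monic k ℤ)
        (Matrix.charpoly_monic _) hd (by
          rw [Polynomial.natDegree_cyclotomic, Matrix.charpoly_natDegree_eq_dim, Fintype.card_fin]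
          rcases hk with h | h <;> subst h <;> decide +kernel)
    set P := ChevCoxTorus68.Pm c4 X4 w
    have hB : act (P - (Fintype.card F : ℤ) • 1) ψ = 0 := by
      rw [ChevCoxTorus68.act_sub_smul, sub_eq_zero, natCast_zsmul]
      funext j
      exact (hwψ _ (X4.simple_lt j.isLt)).trans (by rw [ev_simple, Pi.smul_apply])
    obtain ⟨j, hj⟩ := Function.ne_iff.1 hψ0
    have h2 : (r : ℤ) ∣ (P - (Fintype.card F : ℤ) • 1).det := by
      rw [← addOrderOf_eq_prime (congrFun hrψ j) hj, addOrderOf_dvd_iff_zsmul_eq_zero]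
      exact congrFun (CyclotomicCharpoly68.det_smul_eq_zero _ hB) j
    have hev : (r : ℤ) ∣ (Polynomial.cyclotomic k ℤ).eval (Fintype.card F : ℤ) := by
      rw [← hcp, Matrix.eval_charpoly, Matrix.scalar_apply, ← Matrix.smul_one_eq_diagonal, ← neg_sub,
        Matrix.det_neg]
      exact dvd_mul_of_dvd_right h2 _
    by_cases hdv : r ∣ k
    · have hr3 : r = 3 := by
        rcases hk with h | h <;> subst h
        · exact absurd ((Nat.prime_dvd_prime_iff_eq hr Nat.prime_two).1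
            (hr.dvd_of_dvd_pow (show r ∣ 2 ^ 3 from hdv))) hr2
        · rcases hr.dvd_mul.1 (show r ∣ 2 ^ 2 * 3 from hdv) with h' | h'
          · exact absurd ((Nat.prime_dvd_prime_iff_eq hr Nat.prime_two).1 (hr.dvd_of_dvd_pow h')) hr2
          · exact (Nat.prime_dvd_prime_iff_eq hr Nat.prime_three).1 h'
      subst hr3
      have hk12 : k = 12 := by rcases hk with h | h <;> omega
      rw [hk12, ← F4PrimeCheck98.poly_cf (by simp : 12 ∈ [3, 4, 6, 8, 12]), F4PrimeCheck98.eval_poly,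
        ← ZMod.intCast_zmod_eq_zero_iff_dvd] at hev
      revert hev
      simp only [F4PrimeCheck98.cf, F4PrimeCheck98.val, show ¬ (12 = 3) by omega, show ¬ (12 = 4) by omega,
        show ¬ (12 = 6) by omega, show ¬ (12 = 8) by omega, if_false]
      push_cast
      generalize (Fintype.card F : ZMod 3) = z
      clear * - z
      decide +revert
    · have := CyclotomicCharpoly68.orderOf_eq_of_root hdv hev
      rw [Int.cast_natCast] at this
      omega

/-- no commuting elements of two of the orders 3, 4, 6 -/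
theorem not_commute_small {r s k l : ℕ} (hr : r.Prime) (hs : s.Prime) (hrs : r ≠ s)
    (hL : Fintype.card L = Fintype.card F ^ 24)
    (hkr : orderOf (Fintype.card F : ZMod r) = k) (hks : orderOf (Fintype.card F : ZMod s) = l)
    (hkl : (k, l) ∈ [(3, 4), (3, 6), (4, 6)])
    {a b : GL chevF4.Idx F} (haG : a ∈ chevF4.group F) (hbG : b ∈ chevF4.group F) (hao : orderOf a = r)
    (hbo : orderOf b = s) (hab : Commute a b) : False := by
  have hcases : (k = 3 ∨ k = 4) ∧ (l = 4 ∨ l = 6) := by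
    simp only [List.mem_cons, List.not_mem_nil, or_false, Prod.mk.injEq] at hkl
    omega
  have h5 : ∀ {p e : ℕ}, p.Prime → orderOf (Fintype.card F : ZMod p) = e → 3 ≤ e → 5 ≤ p := by
    intro p e hp he h3
    have : Fact p.Prime := ⟨hp⟩
    have hq0 : (Fintype.card F : ZMod p) ≠ 0 := fun h0 => by
      rw [h0, orderOf_eq_zero_iff'.2 fun n hn => by rw [zero_pow hn.ne']; exact zero_ne_one] at he
      omega
    have h1 := Nat.le_of_dvd (by have := hp.two_le; omega) (ZMod.orderOf_dvd_card_sub_one hq0)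
    rcases eq_or_ne p 4 with rfl | h4
    · exact absurd hp (by norm_num)
    · omega
  have hr5 := h5 hr hkr (by omega)
  have hs5 := h5 hs hks (by omega)
  have hcr := cong_of_order hL hkr (by rcases hcases.1 with h | h <;> subst h <;> norm_num)
  have hcs := cong_of_order hL hks (by rcases hcases.2 with h | h <;> subst h <;> norm_num)
  let S : Sys chevF4 L := ChevBruhatInstance.mkSys c4 X4 S2372.supp
  obtain ⟨g₁, hg₁G, hg₁H⟩ := conj_in hs hs5 hcs le_rfl S.H_le_group
    (ChevCoxTorus68.map_mem_group c4 (algebraMap F L) hbG) (by rw [← map_pow, ← hbo, pow_orderOf_eq_one, map_one])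
  set t := g₁ * up b * g₁⁻¹ with ht
  let C : Subgroup (GL chevF4.Idx L) := chevF4.group L ⊓ Subgroup.centralizer ({t} : Set (GL chevF4.Idx L))
  have hTC : chevF4.diagonalSubgroup L ≤ C := fun z hz =>
    ⟨S.H_le_group hz, Subgroup.mem_centralizer_singleton_iff.2 (ChevalleyTorus.H_comm c4 hz hg₁H)⟩
  have hyC : g₁ * up a * g₁⁻¹ ∈ C := by
    refine Subgroup.mem_inf.2 ⟨mul_mem (mul_mem hg₁G (ChevCoxTorus68.map_mem_group c4 _ haG)) (inv_mem hg₁G),
      Subgroup.mem_centralizer_singleton_iff.2 ?_⟩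
    rw [ht]
    have hcm : up (L := L) a * up b = up b * up a := (hab.map up).eq
    calc g₁ * up a * g₁⁻¹ * (g₁ * up b * g₁⁻¹) = g₁ * (up a * up b) * g₁⁻¹ := by group
      _ = _ := by rw [hcm]; group
  obtain ⟨g₂, hg₂, hg₂H⟩ := conj_in hr hr5 hcr inf_le_left hTC hyC (by
    rw [conj_pow, ← map_pow, ← hao, pow_orderOf_eq_one, map_one, mul_one, mul_inv_cancel])
  have hg₂t : g₂ * t * g₂⁻¹ = t := by
    rw [Subgroup.mem_centralizer_singleton_iff.1 hg₂.2, mul_inv_cancel_right]
  have e1 : g₂ * g₁ * up b * (g₂ * g₁)⁻¹ = t := by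
    calc g₂ * g₁ * up b * (g₂ * g₁)⁻¹ = g₂ * t * g₂⁻¹ := by rw [ht]; group
      _ = t := hg₂t
  obtain ⟨χ, hχ⟩ := (ChevCoxTorus68.mem_H_iff c4 sm).1 hg₁H
  have e2 : g₂ * g₁ * up a * (g₂ * g₁)⁻¹ = g₂ * (g₁ * up a * g₁⁻¹) * g₂⁻¹ := by group
  obtain ⟨ψ, hψ⟩ := (ChevCoxTorus68.mem_H_iff c4 sm).1 hg₂H
  obtain ⟨hsχ, hχ0⟩ := tor_order hs (by
    rw [hχ, ht, show g₁ * up b * g₁⁻¹ = MulAut.conj g₁ (up b) from rfl, MulEquiv.orderOf_eq,
      orderOf_injective up up_injective, hbo])
  obtain ⟨hrψ, hψ0⟩ := tor_order hr (by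
    rw [hψ, ← e2, show g₂ * g₁ * up a * (g₂ * g₁)⁻¹ = MulAut.conj (g₂ * g₁) (up a) from rfl, MulEquiv.orderOf_eq,
      orderOf_injective up up_injective, hao])
  obtain ⟨w, hwχ, hwψ⟩ := common_weyl ((Nat.coprime_primes hr hs).2 hrs) (mul_mem hg₂.1 hg₁G)
    (hχ.trans e1.symm) (hψ.trans e2.symm) hsχ hrψ
  exact F4PrimeCheck98.not_two hkl (F4PrimeCheck98.cyclotomic_of_eigen hr hr5 hkr (by omega) hrψ hψ0 hwψ).1
    (F4PrimeCheck98.cyclotomic_of_eigen hs hs5 hks (by omega) hsχ hχ0 hwχ).1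

end Prime

end Cfsg.Agent.F4TorusPartner98
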