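import Cfsg.Agent.Lib.ChevWeylData
import Cfsg.Agent.Lib.ChevalleyDataF4
import Cfsg.Agent.Lib.ChevWeylWords68
import Cfsg.Agent.Lib.ChevCoxTorus68

/-!
No element of the Weyl group of type `F₄` has both an eigenvalue 3 modulo 7 and an eigenvalue 2
modulo 5 in the root lattice representation.
-/

set_option autoImplicit false

namespace Cfsg.Agent.F4WeylEigen68

open Cfsg.Lie Cfsg.Agent.ChevWeyl Cfsg.Agent.CoxeterTables Cfsg.Agent.CoxeterData
open Cfsg.Agent.ChevCoxTorus68 (Pm)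
open Cfsg.Agent.ChevWeylWords68 (nforms exists_form)

/-- the certificate -/
abbrev C : ChevalleyCert.Cert chevF4 := ChevalleyDataF4.cert

/-- the Weyl structure -/
noncomputable abbrev X : Weyl chevF4 := ChevWeylData.f4

/-- coefficient matrix of four root numbers -/
def rowsOf (r : ℕ → ℕ) (j k : ℕ) : ℤ := C.coef (r j) k

/-- the matrix `a - M` -/
def shift (a : ℤ) (M : ℕ → ℕ → ℤ) (j k : ℕ) : ℤ := (if j = k then a else 0) - M j k

/-- determinant of a four by four matrix -/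
def det4 (a : ℕ → ℕ → ℤ) : ℤ :=
  a 0 0 * (a 1 1 * (a 2 2 * a 3 3 - a 2 3 * a 3 2) - a 1 2 * (a 2 1 * a 3 3 - a 2 3 * a 3 1)
      + a 1 3 * (a 2 1 * a 3 2 - a 2 2 * a 3 1))
  - a 0 1 * (a 1 0 * (a 2 2 * a 3 3 - a 2 3 * a 3 2) - a 1 2 * (a 2 0 * a 3 3 - a 2 3 * a 3 0)
      + a 1 3 * (a 2 0 * a 3 2 - a 2 2 * a 3 0))
  + a 0 2 * (a 1 0 * (a 2 1 * a 3 3 - a 2 3 * a 3 1) - a 1 1 * (a 2 0 * a 3 3 - a 2 3 * a 3 0)
      + a 1 3 * (a 2 0 * a 3 1 - a 2 1 * a 3 0))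
  - a 0 3 * (a 1 0 * (a 2 1 * a 3 2 - a 2 2 * a 3 1) - a 1 1 * (a 2 0 * a 3 2 - a 2 2 * a 3 0)
      + a 1 2 * (a 2 0 * a 3 1 - a 2 1 * a 3 0))

theorem det_eq (A : Matrix (Fin 4) (Fin 4) ℤ) (a : ℕ → ℕ → ℤ) (h : ∀ j k : Fin 4, A j k = a j k) :
    A.det = det4 a := by
  rw [Matrix.det_succ_row_zero]
  simp [Fin.sum_univ_four, Matrix.det_fin_three, Fin.succAbove, h, det4]
  ring

theorem det_eqF4 (A : Matrix (Fin chevF4.rank) (Fin chevF4.rank) ℤ) (a : ℕ → ℕ → ℤ)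
    (h : ∀ j k : Fin chevF4.rank, A j k = a j k) : A.det = det4 a :=
  det_eq A a h

/-- the property checked on a word -/
def good (l : List ℕ) : Bool :=
  let M := rowsOf fun j => actWord f4Perm l (chevF4.simple j)
  decide (det4 (shift 3 M) % 7 ≠ 0) || decide (det4 (shift 2 M) % 5 ≠ 0)

theorem all_good : (nforms f4Chain).all good = true := by decide +kernel

theorem no_eigen (w : X.W) : ¬ ((7 : ℤ) ∣ (Matrix.scalar (Fin chevF4.rank) 3 - Pm C X w).det ∧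
    (5 : ℤ) ∣ (Matrix.scalar (Fin chevF4.rank) 2 - Pm C X w).det) := by
  obtain ⟨l, hl, himg⟩ := exists_form X w
  have hg := List.all_eq_true.1 all_good l hl
  have key : ∀ a : ℤ, (Matrix.scalar (Fin chevF4.rank) a - Pm C X w).det =
      det4 (shift a (rowsOf fun j => actWord f4Perm l (chevF4.simple j))) := by
    intro a
    refine det_eqF4 _ _ fun j k => ?_
    rw [Matrix.sub_apply, shift, rowsOf, Pm, Matrix.of_apply, Matrix.scalar_apply,
      Matrix.diagonal_apply, himg _ (X.simple_lt j.isLt)]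
    simp only [Fin.ext_iff]
    rfl
  rintro ⟨h1, h2⟩
  rw [key, Int.dvd_iff_emod_eq_zero] at h1 h2
  simp [good, h1, h2] at hg

end Cfsg.Agent.F4WeylEigen68
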