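import Cfsg.Agent.Lib.F4PrimeCheck98
import Cfsg.Agent.Lib.F4PrimeDecide98

/-!
Eigenvectors of prime order of elements of the Weyl group of F₄.
-/

set_option autoImplicit false
set_option linter.unusedSectionVars false
set_option maxRecDepth 20000

namespace Cfsg.Agent.F4PrimeCheck98

open Cfsg Cfsg.Lie Cfsg.Agent.ChevalleyCert Cfsg.Agent.ChevWeyl Cfsg.Agent.ChevRootCoord68
open Cfsg.Agent.ChevCoxTorus68 (Pm)
open Cfsg.Agent.ChevalleyTorusCard (act)
open Polynomial Matrix

theorem ev_co {M : Type*} [AddCommGroup M] (χ : Fin chevF4.rank → M) (s : ℕ) :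
    ev c4 χ s = ∑ j : Fin chevF4.rank, co s j.val • χ j := rfl

theorem ev_comb {M : Type*} [AddCommGroup M] {χ : Fin chevF4.rank → M} {q : ℕ} {f : ℕ → ℕ}
    (hf : ∀ r, r < chevF4.nroots → f r < chevF4.nroots)
    (hq : ∀ r, r < chevF4.nroots → ev c4 χ (f r) = q • ev c4 χ r) :
    ∀ (l : List ℤ) {s : ℕ}, s < chevF4.nroots →
      ∑ j : Fin chevF4.rank, comb f l s j.val • χ j = val (q : ℤ) l • ev c4 χ s
  | [], s, _ => by simp [comb, val]
  | c :: l, s, hs => by
    simp only [comb, val, add_smul, Finset.sum_add_distrib, mul_smul]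
    rw [ev_comb hf hq l (hf s hs), hq s hs, ← natCast_zsmul, smul_comm (val (q : ℤ) l) ((q : ℕ) : ℤ), ev_co χ s,
      ← Finset.smul_sum]

theorem smooth_ne {d : ℤ} (h : smooth d = true) {s : ℕ} (hs : s.Prime) (h5 : 5 ≤ s) : ¬ (s : ℤ) ∣ d := by
  intro hd
  simp only [smooth, Bool.and_eq_true, decide_eq_true_eq] at h
  have h1 : s ∣ 2 ^ 12 * 3 ^ 8 := (Int.natCast_dvd.1 hd).trans h.2
  rcases hs.dvd_mul.1 h1 with h2 | h2
  · have := Nat.le_of_dvd (by norm_num) (hs.dvd_of_dvd_pow h2); omega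
  · have := Nat.le_of_dvd (by norm_num) (hs.dvd_of_dvd_pow h2); omega

/-- four rows killing a vector of prime order have determinant divisible by the prime -/
theorem dvd_det4 {M : Type*} [AddCommGroup M] {χ : Fin chevF4.rank → M} {s : ℕ} (hs : s.Prime) (hsχ : s • χ = 0)
    (hχ : χ ≠ 0) {a b c d : ℕ → ℤ} (ha : ∑ j : Fin chevF4.rank, a j.val • χ j = 0)
    (hb : ∑ j : Fin chevF4.rank, b j.val • χ j = 0) (hc : ∑ j : Fin chevF4.rank, c j.val • χ j = 0)
    (hd : ∑ j : Fin chevF4.rank, d j.val • χ j = 0) : (s : ℤ) ∣ det4 a b c d := by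
  have : Fact s.Prime := ⟨hs⟩
  have hB : act (rowsM a b c d) χ = 0 := by
    funext i
    obtain ⟨i, hi⟩ := i
    match i, hi with
    | 0, _ => exact ha
    | 1, _ => exact hb
    | 2, _ => exact hc
    | 3, _ => exact hd
  have h1 := CyclotomicCharpoly68.det_smul_eq_zero _ hB
  obtain ⟨j, hj⟩ := Function.ne_iff.1 hχ
  rw [← det_rowsM, ← addOrderOf_eq_prime (congrFun hsχ j) hj, addOrderOf_dvd_iff_zsmul_eq_zero]
  exact congrFun h1 j

theorem det_aeval_eq_zero {n : Type*} [Fintype n] [DecidableEq n] (P : Matrix n n ℤ) {f : ℤ[X]} (hf : f.Monic)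
    (hd : 0 < f.natDegree) (h : f ∣ P.charpoly) : (aeval P f).det = 0 := by
  let ι := Int.castRingHom ℂ
  have hdeg : (f.map ι).natDegree = f.natDegree := hf.natDegree_map ι
  obtain ⟨z, hz⟩ := IsAlgClosed.exists_root (f.map ι) (by
    rw [Polynomial.degree_eq_natDegree (hf.map ι).ne_zero, hdeg]
    exact_mod_cast hd.ne')
  obtain ⟨g, hg⟩ := Polynomial.dvd_iff_isRoot.2 hz
  have hdet0 : (Matrix.scalar n z - P.map ι).det = 0 := by
    rw [← Matrix.eval_charpoly, Matrix.charpoly_map]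
    exact IsRoot.dvd hz (Polynomial.map_dvd ι h)
  apply (Int.castRingHom ℂ).injective_int
  rw [map_zero, RingHom.map_det]
  have hcomm : (Int.castRingHom ℂ).mapMatrix (aeval P f) = aeval (P.map ι) (f.map ι) := by
    have h2 : ∀ p : ℤ[X], (Int.castRingHom ℂ).mapMatrix (aeval P p) = aeval (P.map ι) (p.map ι) := by
      intro p
      induction p using Polynomial.induction_on' with
      | add p q hp hq => rw [map_add, map_add, Polynomial.map_add, map_add, hp, hq]
      | monomial k a =>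
        rw [Polynomial.map_monomial, aeval_monomial, aeval_monomial, map_mul, map_pow,
          Algebra.algebraMap_eq_smul_one, Algebra.algebraMap_eq_smul_one, map_zsmul, map_one,
          ← Int.cast_smul_eq_zsmul ℂ]
        rfl
    exact h2 f
  rw [hcomm, hg, map_mul, Matrix.det_mul]
  have : aeval (P.map ι) (X - C z) = -(Matrix.scalar n z - P.map ι) := by
    rw [map_sub, aeval_X, aeval_C, neg_sub]
    rfl
  rw [this, Matrix.det_neg, hdet0, mul_zero, zero_mul]

/-- the cyclotomic factor seen by an eigenvector of prime order -/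
theorem cyclotomic_of_eigen {M : Type*} [AddCommGroup M] {χ : Fin chevF4.rank → M} {q s k : ℕ} (hs : s.Prime)
    (h5 : 5 ≤ s) (hk : orderOf (q : ZMod s) = k) (hk0 : 0 < k) (hsχ : s • χ = 0) (hχ : χ ≠ 0) {w : X4.W}
    (hw : ∀ r, r < chevF4.nroots → ev c4 χ (X4.img w r) = q • ev c4 χ r) :
    cyclotomic k ℤ ∣ (Pm c4 X4 w).charpoly ∧ (s : ℤ) ∣ (cyclotomic k ℤ).eval (q : ℤ) := by
  have : Fact s.Prime := ⟨hs⟩
  set P := Pm c4 X4 w with hP
  have hB : act (P - (q : ℤ) • 1) χ = 0 := by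
    rw [ChevCoxTorus68.act_sub_smul, sub_eq_zero, natCast_zsmul]
    funext j
    exact (hw _ (X4.simple_lt j.isLt)).trans (by rw [ev_simple, Pi.smul_apply])
  obtain ⟨j, hj⟩ := Function.ne_iff.1 hχ
  have h2 : (s : ℤ) ∣ (P - (q : ℤ) • 1).det := by
    rw [← addOrderOf_eq_prime (congrFun hsχ j) hj, addOrderOf_dvd_iff_zsmul_eq_zero]
    exact congrFun (CyclotomicCharpoly68.det_smul_eq_zero _ hB) j
  have hdet : (s : ℤ) ∣ P.charpoly.eval (q : ℤ) := by
    rw [Matrix.eval_charpoly, Matrix.scalar_apply, ← Matrix.smul_one_eq_diagonal, ← neg_sub, Matrix.det_neg]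
    exact dvd_mul_of_dvd_right h2 _
  have hpow : P ^ orderOf w = 1 := by
    rw [hP, ← ChevCoxTorus68.Pm_pow, pow_orderOf_eq_one, ← pow_zero w, ChevCoxTorus68.Pm_pow, pow_zero]
  have hfac : ∀ f : ℚ[X], Irreducible f → f ∣ P.charpoly.map (Int.castRingHom ℚ) → f ∣ X ^ orderOf w - 1 := by
    intro f hf hfd
    rw [← Matrix.charpoly_map] at hfd
    refine SLInvolutions68.dvd_of_factor ?_ hf hfd
    rw [map_sub, map_pow, aeval_X, map_one, sub_eq_zero,
      show P.map (Int.castRingHom ℚ) = (Int.castRingHom ℚ).mapMatrix P from rfl, ← map_pow, hpow, map_one]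
  obtain ⟨e, he0, hed, hev⟩ := CyclotomicCharpoly68.exists_cyclotomic_factor (orderOf_pos w) hs q _ _
    (Matrix.charpoly_monic _) le_rfl hfac hdet
  have hee : e = k := by
    by_cases hne : s ∣ e
    · exfalso
      have hd1 : cyclotomic e ℚ ∣ X ^ orderOf w - 1 := by
        refine hfac _ (cyclotomic.irreducible_rat he0) ?_
        have := Polynomial.map_dvd (Int.castRingHom ℚ) hed
        rwa [map_cyclotomic] at this
      have hroot := (Complex.isPrimitiveRoot_exp e he0.ne').isRoot_cyclotomic he0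
      have hd2 := Polynomial.map_dvd (algebraMap ℚ ℂ) hd1
      rw [map_cyclotomic, Polynomial.map_sub, Polynomial.map_pow, map_X, Polynomial.map_one] at hd2
      have hz := IsRoot.dvd hroot hd2
      simp only [IsRoot.def, eval_sub, eval_pow, eval_X, eval_one, sub_eq_zero] at hz
      have hew := (Complex.isPrimitiveRoot_exp e he0.ne').dvd_of_pow_eq_one _ hz
      have hcard := (hne.trans hew).trans (orderOf_dvd_natCard w)
      rw [ChevSylowTorus68.card_W, show (X4.chain.map CoxeterTables.Level.size).prod = 2 ^ 7 * 3 ^ 2 by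
        decide +kernel] at hcard
      rcases hs.dvd_mul.1 hcard with h' | h'
      · have := Nat.le_of_dvd (by norm_num) (hs.dvd_of_dvd_pow h'); omega
      · have := Nat.le_of_dvd (by norm_num) (hs.dvd_of_dvd_pow h'); omega
    · rw [← CyclotomicCharpoly68.orderOf_eq_of_root hne hev, Int.cast_natCast, hk]
  subst hee
  exact ⟨hed, hev⟩

theorem detPhi_eq_zero {k : ℕ} (hk : k ∈ [3, 4, 6, 8, 12]) {w : X4.W} {f : ℕ → ℕ}
    (hf : ∀ r, r < chevF4.nroots → X4.img w r = f r) (h : cyclotomic k ℤ ∣ (Pm c4 X4 w).charpoly) :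
    detPhi f k = 0 := by
  rw [det_aeval w f hf hk]
  refine det_aeval_eq_zero _ (cyclotomic.monic k ℤ) ?_ h
  rw [natDegree_cyclotomic]
  exact Nat.totient_pos.2 (by simp only [List.mem_cons, List.not_mem_nil, or_false] at hk; omega)

/-- no element has eigenvectors of two of the orders 3, 4, 6 -/
theorem not_two {w : X4.W} {k l : ℕ} (hkl : (k, l) ∈ [(3, 4), (3, 6), (4, 6)])
    (hk : cyclotomic k ℤ ∣ (Pm c4 X4 w).charpoly) (hl : cyclotomic l ℤ ∣ (Pm c4 X4 w).charpoly) : False := by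
  obtain ⟨v, hv, hf⟩ := exists_word w
  have h := List.all_eq_true.1 (List.all_eq_true.1 all_pair v hv) _ hkl
  have hk5 : k ∈ [3, 4, 6, 8, 12] ∧ l ∈ [3, 4, 6, 8, 12] := by
    simp only [List.mem_cons, List.not_mem_nil, or_false, Prod.mk.injEq] at hkl ⊢
    omega
  simp only [detPhi_eq_zero hk5.1 hf hk, detPhi_eq_zero hk5.2 hf hl] at h
  exact absurd h (by decide)

section Eigen

variable {M : Type*} [AddCommGroup M] {χ : Fin chevF4.rank → M} {q s k : ℕ}

/-- the roots are nonzero on an eigenvector of order 8 or 12 -/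
theorem regular_big (hs : s.Prime) (h5 : 5 ≤ s) (hk : orderOf (q : ZMod s) = k) (hk8 : k = 8 ∨ k = 12)
    (hsχ : s • χ = 0) (hχ : χ ≠ 0) {w : X4.W}
    (hw : ∀ r, r < chevF4.nroots → ev c4 χ (X4.img w r) = q • ev c4 χ r) {a : ℕ} (ha : a < chevF4.nroots) :
    ev c4 χ a ≠ 0 := by
  intro h0
  have hmem : k ∈ [8, 12] := by simpa using hk8
  obtain ⟨hd, -⟩ := cyclotomic_of_eigen hs h5 hk (by omega) hsχ hχ hw
  obtain ⟨v, hv, hf⟩ := exists_word w
  have h := List.all_eq_true.1 (List.all_eq_true.1 all_big v hv) k hmem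
  rw [detPhi_eq_zero (by simp; omega) hf hd] at h
  simp only [ne_eq, not_true_eq_false, decide_false, Bool.false_or, List.all_eq_true, List.mem_range] at h
  have hlt : ∀ r, r < chevF4.nroots → fw v r < chevF4.nroots := fun r hr => hf r hr ▸ X4.img_lt w hr
  have hz : ∀ r, r < chevF4.nroots → ev c4 χ r = 0 → ev c4 χ (fw v r) = 0 := fun r hr h0 => by
    rw [← hf r hr, hw r hr, h0, smul_zero]
  exact smooth_ne (h a ha) hs h5 (dvd_det4 hs hsχ hχ h0 (hz _ ha h0) (hz _ (hlt _ ha) (hz _ ha h0))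
    (hz _ (hlt _ (hlt _ ha)) (hz _ (hlt _ ha) (hz _ ha h0))))

/-- a root vanishing on an eigenvector of order 3, 4, 6 in the parabolic vanishes on all of them -/
theorem killed_small (hs : s.Prime) (h5 : 5 ≤ s) (hk : orderOf (q : ZMod s) = k) (hk3 : k = 3 ∨ k = 4 ∨ k = 6)
    (hsχ : s • χ = 0) (hχ : χ ≠ 0) {w : X4.W}
    (hJ : ∀ i, i < chevF4.rank → co (X4.img w (chevF4.simple i)) 3 = co (chevF4.simple i) 3)
    (hw : ∀ r, r < chevF4.nroots → ev c4 χ (X4.img w r) = q • ev c4 χ r)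
    {ψ : Fin chevF4.rank → M} {p : ℕ} (hp : p.Prime) (hkp : orderOf (q : ZMod p) = k) (hpψ : p • ψ = 0)
    (hwψ : ∀ r, r < chevF4.nroots → ev c4 ψ (X4.img w r) = q • ev c4 ψ r)
    {a : ℕ} (ha : a < chevF4.nroots) (h0 : ev c4 χ a = 0) : ev c4 ψ a = 0 := by
  have : Fact p.Prime := ⟨hp⟩
  have hmem : k ∈ [3, 4, 6] := by simpa using hk3
  obtain ⟨hd, hΦ⟩ := cyclotomic_of_eigen hs h5 hk (by omega) hsχ hχ hw
  obtain ⟨v, hv, hf⟩ := exists_word w
  have h := List.all_eq_true.1 all_J v hv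
  have hin : inJ (fw v) = true := by
    simp only [inJ, List.all_eq_true, List.mem_range, beq_iff_eq]
    intro i hi
    rw [← hf _ (X4.simple_lt (i := i) hi)]
    exact hJ i hi
  simp only [chkJ, hin, Bool.not_true, Bool.false_or] at h
  have h := List.all_eq_true.1 h k hmem
  rw [detPhi_eq_zero (by simp; omega) hf hd] at h
  simp only [ne_eq, not_true_eq_false, decide_false, Bool.false_or, List.all_eq_true, List.mem_range,
    Bool.or_eq_true, decide_eq_true_eq] at h
  have hlt : ∀ r, r < chevF4.nroots → fw v r < chevF4.nroots := fun r hr => hf r hr ▸ X4.img_lt w hr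
  have hrow : ∀ i : Fin chevF4.rank, ∑ j : Fin chevF4.rank, phiRow (fw v) k i.val j.val • χ j = 0 := fun i => by
    have hq : ∀ r, r < chevF4.nroots → ev c4 χ (fw v r) = q • ev c4 χ r := fun r hr => by
      rw [← hf r hr, hw r hr]
    rw [phiRow, ev_comb hlt hq (cf k) (X4.simple_lt i.isLt), ev_simple, ← eval_poly, poly_cf (by simp; omega)]
    obtain ⟨c, hc⟩ := hΦ
    rw [hc, mul_comm, mul_smul, natCast_zsmul, show s • χ i = 0 from congrFun hsχ i, smul_zero]
  have hfa : ev c4 χ (fw v a) = 0 := by rw [← hf a ha, hw a ha, h0, smul_zero]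
  rcases h a ha with (h1 | h1) | h1
  · have h2 : (q * q) • ev c4 ψ a = ev c4 ψ a := by
      rw [← hf _ ha, ← hf _ (X4.img_lt w ha)] at h1
      conv_rhs => rw [← h1, hwψ _ (X4.img_lt w ha), hwψ _ ha, ← mul_nsmul']
    by_contra hne
    have hord : addOrderOf (ev c4 ψ a) = p :=
      addOrderOf_eq_prime (by rw [← ev_nsmul, hpψ, ev_zero]) hne
    have h3 : (p : ℤ) ∣ (q : ℤ) * q - 1 := by
      rw [← hord, addOrderOf_dvd_iff_zsmul_eq_zero, sub_smul, one_smul, ← Nat.cast_mul, natCast_zsmul, h2,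
        sub_self]
    have h4 : ((q : ZMod p)) ^ 2 = 1 := by
      have := (ZMod.intCast_zmod_eq_zero_iff_dvd _ p).2 h3
      push_cast at this
      linear_combination this
    have := Nat.le_of_dvd (by norm_num) (hkp ▸ orderOf_dvd_of_pow_eq_one h4)
    omega
  · exact absurd (dvd_det4 hs hsχ hχ h0 hfa (hrow ⟨2, by decide⟩) (hrow ⟨3, by decide⟩)) (smooth_ne h1 hs h5)
  · exact absurd (dvd_det4 hs hsχ hχ h0 hfa (hrow ⟨0, by decide⟩) (hrow ⟨3, by decide⟩)) (smooth_ne h1 hs h5)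

end Eigen

end Cfsg.Agent.F4PrimeCheck98
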