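import Mathlib

/-!
# An equivariant section of a central extension of odd exponent and class two

`exists_section` : for a group of odd exponent `m` with commutators in a central subgroup `Z`, acted
on by a finite group of order prime to `m` whose fixed points lie in `Z`, the cosets of `Z` have
canonical representatives multiplying by the half power of the commutator.
-/

set_option autoImplicit false
set_option linter.unusedSectionVars false

open scoped commutatorElement

namespace Cfsg.Agent.FRInvBaer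

variable {P : Type*} [Group P] {Z : Subgroup P} {m : ℕ}

/-- Odd exponent, commutators central. -/
structure Data (P : Type*) [Group P] (Z : Subgroup P) (m : ℕ) : Prop where
  comm : ∀ a b : P, ⁅a, b⁆ ∈ Z
  central : ∀ z ∈ Z, ∀ a : P, a * z = z * a
  exp : ∀ a : P, a ^ m = 1
  odd : Odd m

/-- The half of the exponent. -/
abbrev hf (m : ℕ) : ℕ := (m - 1) / 2

theorem Data.pow_comm (h : Data P Z m) (a b : P) (n : ℕ) : ⁅a, b⁆ ^ n ∈ Z :=
  Z.pow_mem (h.comm a b) n

theorem Data.comm_mul_left (h : Data P Z m) (a b c : P) :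
    ⁅a * b, c⁆ = ⁅a, c⁆ * ⁅b, c⁆ := by
  have h1 : ⁅a * b, c⁆ = a * ⁅b, c⁆ * a⁻¹ * ⁅a, c⁆ := by
    simp only [commutatorElement_def]; group
  rw [h1, h.central _ (h.comm b c), mul_inv_cancel_right]
  exact (h.central _ (h.comm a c) _)

theorem Data.comm_mul_right (h : Data P Z m) (a b c : P) :
    ⁅a, b * c⁆ = ⁅a, b⁆ * ⁅a, c⁆ := by
  have h1 : ⁅a, b * c⁆ = ⁅a, b⁆ * (b * ⁅a, c⁆ * b⁻¹) := by
    simp only [commutatorElement_def]; group
  rw [h1, h.central _ (h.comm a c) b, mul_inv_cancel_right]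

theorem Data.comm_of_mem (h : Data P Z m) (a : P) {z : P} (hz : z ∈ Z) : ⁅z, a⁆ = 1 := by
  rw [commutatorElement_eq_one_iff_mul_comm, h.central z hz]

theorem Data.comm_of_mem' (h : Data P Z m) (a : P) {z : P} (hz : z ∈ Z) : ⁅a, z⁆ = 1 := by
  rw [commutatorElement_eq_one_iff_mul_comm, h.central z hz]

/-- `P` with the symmetrised product. -/
def Baer (_h : Data P Z m) : Type _ := P

/-- The symmetrised product. -/
def op (m : ℕ) (a b : P) : P := a * b * ⁅a, b⁆ ^ hf m

theorem Data.op_comm (h : Data P Z m) (a b : P) : op m a b = op m b a := by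
  have hc : ⁅b, a⁆ = ⁅a, b⁆⁻¹ := by rw [commutatorElement_inv]
  have hab : a * b = b * a * ⁅a, b⁆ := by
    rw [h.central _ (h.comm a b), commutatorElement_def]; group
  have hm : ⁅a, b⁆ ^ (2 * hf m + 1) = 1 := by
    obtain ⟨j, rfl⟩ := h.odd
    rw [show 2 * hf (2 * j + 1) + 1 = 2 * j + 1 by simp [hf]]
    exact h.exp _
  unfold op
  rw [hc, inv_pow, hab, mul_assoc, ← pow_succ']
  congr 1
  refine eq_inv_of_mul_eq_one_left ?_
  rw [← pow_add]
  convert hm using 2
  omega

theorem Data.op_assoc (h : Data P Z m) (a b c : P) : op m (op m a b) c = op m a (op m b c) := by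
  have hz1 := h.pow_comm a b (hf m)
  have hz2 := h.pow_comm b c (hf m)
  have e1 : ⁅op m a b, c⁆ = ⁅a, c⁆ * ⁅b, c⁆ := by
    rw [op, h.comm_mul_left, h.comm_of_mem _ hz1, mul_one, h.comm_mul_left]
  have e2 : ⁅a, op m b c⁆ = ⁅a, b⁆ * ⁅a, c⁆ := by
    rw [op, h.comm_mul_right, h.comm_of_mem' _ hz2, mul_one, h.comm_mul_right]
  have c1 : Commute ⁅a, c⁆ ⁅b, c⁆ := h.central _ (h.comm b c) _
  have c2 : Commute ⁅a, b⁆ ⁅a, c⁆ := h.central _ (h.comm a c) _
  show op m a b * c * ⁅op m a b, c⁆ ^ hf m = a * op m b c * ⁅a, op m b c⁆ ^ hf m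
  rw [e1, e2, c1.mul_pow, c2.mul_pow, op, op]
  simp only [mul_assoc]
  congr 2
  rw [← mul_assoc (⁅a, b⁆ ^ hf m) c, ← h.central _ hz1 c, mul_assoc]
  congr 1
  rw [← h.central _ hz2 (⁅a, b⁆ ^ hf m * ⁅a, c⁆ ^ hf m)]
  simp only [mul_assoc]

/-- The abelian group on `P`. -/
@[reducible] def Data.group (h : Data P Z m) : CommGroup (Baer h) :=
  { mul := fun a b => op m (P := P) a b
    one := (1 : P)
    inv := fun a => (Inv.inv (α := P) a)
    mul_assoc := h.op_assoc
    one_mul := fun (a : P) => show op m (1 : P) a = a by simp [op]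
    mul_one := fun (a : P) => show op m a (1 : P) = a by simp [op]
    inv_mul_cancel := fun (a : P) => show op m a⁻¹ a = (1 : P) by simp [op, commutatorElement_def]
    mul_comm := h.op_comm }

theorem Data.op_of_mem (h : Data P Z m) (a : P) {z : P} (hz : z ∈ Z) : op m a z = a * z := by
  rw [op, h.comm_of_mem' _ hz, one_pow, mul_one]

/-- The canonical representatives. -/
theorem exists_section (h : Data P Z m) {S : Type*} [Group S] [Finite S] (act : S →* MulAut P)
    (hZ : ∀ s, ∀ z ∈ Z, act s z = z) (hfix : ∀ a, (∀ s, act s a = a) → a ∈ Z)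
    (hcop : m.Coprime (Nat.card S)) :
    ∃ X : P → P, (∀ a, a⁻¹ * X a ∈ Z) ∧ (∀ a, ∀ z ∈ Z, X (a * z) = X a) ∧
      (∀ a b, X a * X b = X (a * b) * (⁅a, b⁆ ^ hf m)⁻¹) ∧
      ∀ γ : MulAut P, (∀ z ∈ Z, γ z = z) → (∀ s a, act s (γ a) = γ (act s a)) →
        ∀ a, X (γ a) = γ (X a) := by
  classical
  haveI : Fintype S := Fintype.ofFinite S
  letI := h.group
  have hpres : ∀ (γ : MulAut P) (a b : P), γ (op m a b) = op m (γ a) (γ b) := fun γ a b => by
    simp [op, map_commutatorElement]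
  let tB : P → Baer h := id
  let oB : Baer h → P := id
  let σ : P → P := fun a => oB (∏ s : S, tB (act s a))
  have hpowB : ∀ z ∈ Z, ∀ j : ℕ, oB ((tB z) ^ j) = z ^ j := fun z hz j => by
    induction j with
    | zero => rw [pow_zero, pow_zero]; rfl
    | succ j ih =>
      rw [pow_succ (tB z), pow_succ z, ← ih]
      exact h.op_of_mem _ hz
  let homOf : MulAut P → (Baer h →* Baer h) := fun γ =>
    { toFun := fun a => tB (γ (oB a))
      map_one' := map_one γ
      map_mul' := fun a b => hpres γ a b }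
  have hσfix : ∀ a, σ a ∈ Z := by
    intro a
    refine hfix _ fun s => ?_
    show oB (homOf (act s) (∏ t : S, tB (act t a))) = oB (∏ t : S, tB (act t a))
    apply congrArg oB
    refine (map_prod (homOf (act s)) (fun t => tB (act t a)) Finset.univ).trans ?_
    refine Fintype.prod_equiv (Equiv.mulLeft s) _ _ fun t => ?_
    show tB (act s (act t a)) = tB (act (s * t) a)
    rw [map_mul, MulAut.mul_apply]
  obtain ⟨n, hn⟩ : ∃ n, Nat.card S * n ≡ 1 [MOD m] := by
    by_cases hm1 : m = 1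
    · exact ⟨0, by subst hm1; exact Nat.modEq_one⟩
    · obtain ⟨n, -, hn⟩ := Nat.exists_mul_mod_eq_one_of_coprime hcop.symm
        (by have := h.odd.pos; omega)
      exact ⟨n, by rw [Nat.ModEq, hn, Nat.one_mod_eq_one.2 hm1]⟩
  let q : P → P := fun a => σ a ^ n
  have hqZ : ∀ a, q a ∈ Z := fun a => Z.pow_mem (hσfix a) n
  have hσop : ∀ a b : P, σ (op m a b) = σ a * σ b := fun a b => by
    refine Eq.trans ?_ (h.op_of_mem _ (hσfix b))
    show oB (∏ s : S, tB (act s (op m a b))) =
      oB ((∏ s : S, tB (act s a)) * ∏ s : S, tB (act s b))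
    rw [← Finset.prod_mul_distrib]
    exact congrArg oB (Finset.prod_congr rfl fun s _ => hpres (act s) a b)
  have hσz : ∀ z ∈ Z, σ z = z ^ Nat.card S := by
    intro z hz
    show oB (∏ s : S, tB (act s z)) = _
    rw [Finset.prod_congr rfl (g := fun _ => tB z) (fun s _ => congrArg tB (hZ s z hz)),
      Finset.prod_const, Finset.card_univ, ← Nat.card_eq_fintype_card, hpowB z hz]
  have hqz : ∀ z ∈ Z, q z = z := fun z hz => by
    show σ z ^ n = z
    rw [hσz z hz, ← pow_mul]
    conv_rhs => rw [← pow_one z]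
    rw [pow_eq_pow_iff_modEq]
    exact hn.of_dvd (orderOf_dvd_of_pow_eq_one (h.exp z))
  have hqop : ∀ a b, q (op m a b) = q a * q b := fun a b => by
    show σ (op m a b) ^ n = σ a ^ n * σ b ^ n
    rw [hσop, (show Commute (σ a) (σ b) from h.central _ (hσfix b) _).mul_pow]
  have hqmul : ∀ a b, q (a * b) = q a * q b * (⁅a, b⁆ ^ hf m)⁻¹ := fun a b => by
    have hz := h.pow_comm a b (hf m)
    have e := hqop (a * b) (⁅a, b⁆ ^ hf m)
    rw [h.op_of_mem _ hz, hqz _ hz, show a * b * ⁅a, b⁆ ^ hf m = op m a b from rfl, hqop] at e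
    rw [e, mul_inv_cancel_right]
  refine ⟨fun a => a * (q a)⁻¹, fun a => ?_, fun a z hz => ?_, fun a b => ?_,
    fun γ hγ hcomm a => ?_⟩
  · simpa using Z.inv_mem (hqZ a)
  · simp only
    rw [hqmul, hqz z hz, h.comm_of_mem' _ hz, one_pow, inv_one, mul_one, mul_inv_rev, mul_assoc a,
      ← mul_assoc z, mul_inv_cancel, one_mul]
  · have hu := h.pow_comm a b (hf m)
    have ha := Z.inv_mem (hqZ a)
    simp only
    rw [hqmul, mul_inv_rev, inv_inv, mul_inv_rev]
    calc a * (q a)⁻¹ * (b * (q b)⁻¹)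
        = a * b * ((q b)⁻¹ * (q a)⁻¹) := by
          rw [mul_assoc a, ← mul_assoc (q a)⁻¹, ← h.central _ ha b, mul_assoc b,
            ← h.central _ ha (q b)⁻¹, ← mul_assoc a]
      _ = _ := by
          rw [mul_assoc (a * b), h.central _ (Z.inv_mem hu), inv_mul_cancel_left]
  · have hq : q (γ a) = q a := by
      have e : σ (γ a) = σ a := by
        refine Eq.trans ?_ (hγ _ (hσfix a))
        show oB (∏ s : S, tB (act s (γ a))) = oB (homOf γ (∏ s : S, tB (act s a)))
        rw [map_prod]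
        exact congrArg oB (Finset.prod_congr rfl fun s _ => congrArg tB (hcomm s a))
      show σ (γ a) ^ n = σ a ^ n
      rw [e]
    show γ a * (q (γ a))⁻¹ = γ (a * (q a)⁻¹)
    rw [hq, map_mul, map_inv, hγ _ (hqZ a)]

end Cfsg.Agent.FRInvBaer
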