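import Mathlib
import Cfsg.Agent.Lib.FRInvBaer

/-!
# The inverting involution in the commutant of a normal subgroup

For a matrix representation `r` of `K` with scalar commutant, `L` normal with abelian quotient of odd
order on which the restriction is homogeneous, the commutant of `r L` is spanned by eigenvectors for
characters of `K ⧸ L`; a coprime group fixing no nontrivial character singles out an involution
`J` inverting them (`exists_inversion`). `sum_sub_eq_card` is the trace identity.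
-/

set_option autoImplicit false
set_option linter.unusedSectionVars false

open scoped commutatorElement
open Matrix (trace trace_mul_comm trace_smul trace_sum trace_one trace_single_eq_of_ne)

namespace Cfsg.Agent.FRInvOps

variable {K : Type*} [Group K] [Fintype K] {L : Subgroup K} [L.Normal] {d : ℕ}

/-- The matrices. -/
abbrev M (d : ℕ) := Matrix (Fin d) (Fin d) ℂ

/-- The standing assumptions. -/
structure Hyp (r : K →* M d) (L : Subgroup K) : Prop where
  pos : 0 < d
  swap : ∀ X : M d, ∑ k, r k * X * r k⁻¹ = ((Nat.card K : ℂ) / d * trace X) • (1 : M d)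
  comm : ∀ a b : K, a * b * a⁻¹ * b⁻¹ ∈ L
  odd : Odd L.index
  homog : ∀ g : M d, (∀ l ∈ L, r l * g = g * r l) → ∀ l ∈ L,
    trace (g * r l) = trace g / d * trace (r l)

variable {r : K →* M d}

theorem rr_inv (k : K) : r k * r k⁻¹ = 1 := by rw [← map_mul, mul_inv_cancel, map_one]

theorem r_inv_r (k : K) : r k⁻¹ * r k = 1 := by rw [← map_mul, inv_mul_cancel, map_one]

theorem Hyp.dC (h : Hyp r L) : (d : ℂ) ≠ 0 := Nat.cast_ne_zero.2 h.pos.ne'

theorem Hyp.cKC (_h : Hyp r L) : (Nat.card K : ℂ) ≠ 0 := Nat.cast_ne_zero.2 Nat.card_pos.ne'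

theorem Hyp.entries (h : Hyp r L) (i j a b : Fin d) :
    ∑ k, r k i j * r k⁻¹ a b =
      (if i = b then (1 : ℂ) else 0) * ((Nat.card K : ℂ) / d * if j = a then (1 : ℂ) else 0) := by
  have e := congrFun (congrFun (h.swap (Matrix.single j a (1 : ℂ))) i) b
  have ht : trace (Matrix.single j a (1 : ℂ)) = if j = a then (1 : ℂ) else 0 := by
    by_cases hja : j = a
    · subst hja; simp
    · rw [if_neg hja]; simp [trace_single_eq_of_ne _ _ _ hja]
  rw [Matrix.sum_apply, ht, Matrix.smul_apply, Matrix.one_apply, smul_eq_mul] at e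
  rw [mul_comm ((if i = b then (1 : ℂ) else 0)), ← e]
  refine Finset.sum_congr rfl fun k _ => ?_
  simp [Matrix.mul_apply, Matrix.single_apply, ite_and]

theorem Hyp.fourier (h : Hyp r L) (X : M d) :
    X = ((d : ℂ) / Nat.card K) • ∑ k, trace (X * r k⁻¹) • r k := by
  ext i j
  rw [Matrix.smul_apply, Matrix.sum_apply, smul_eq_mul]
  have e : ∀ k, (trace (X * r k⁻¹) • r k) i j = ∑ a, ∑ b, X a b * (r k i j * r k⁻¹ b a) := by
    intro k
    simp only [Matrix.smul_apply, smul_eq_mul, Matrix.trace, Matrix.diag_apply, Matrix.mul_apply,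
      Finset.sum_mul]
    exact Finset.sum_congr rfl fun a _ => Finset.sum_congr rfl fun b _ => by ring
  rw [Finset.sum_congr rfl fun k _ => e k, Finset.sum_comm]
  simp only [Finset.sum_comm (γ := K), ← Finset.mul_sum, h.entries]
  simp only [mul_ite, mul_one, mul_zero, ite_mul, one_mul, zero_mul,
    Finset.sum_ite_eq, Finset.mem_univ, if_true]
  field_simp [h.dC, h.cKC]

theorem Hyp.scalar_of_commute (h : Hyp r L) {g : M d} (hg : ∀ k, r k * g = g * r k) :
    g = (trace g / d) • (1 : M d) := by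
  have e := h.swap g
  simp only [hg, mul_assoc, rr_inv, mul_one, Finset.sum_const, Finset.card_univ,
    ← Nat.card_eq_fintype_card] at e
  rw [← Nat.cast_smul_eq_nsmul ℂ] at e
  calc g = (Nat.card K : ℂ)⁻¹ • ((Nat.card K : ℂ) • g) := by rw [inv_smul_smul₀ h.cKC]
    _ = _ := by
      rw [e, smul_smul]
      congr 1
      field_simp [h.cKC]

/-- Eigenvectors. -/
def Eig (r : K →* M d) (f : K → ℂ) (X : M d) : Prop := ∀ k, r k * X = f k • (X * r k)

theorem eig_one : Eig r (fun _ => 1) (1 : M d) := fun k => by simp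

theorem Eig.mul {f g : K → ℂ} {X Y : M d} (hX : Eig r f X) (hY : Eig r g Y) :
    Eig r (f * g) (X * Y) := fun k => by
  rw [← mul_assoc, hX, smul_mul_assoc, mul_assoc, hY, mul_smul_comm, smul_smul, mul_assoc,
    Pi.mul_apply]

theorem Eig.smul {f : K → ℂ} {X : M d} (hX : Eig r f X) (c : ℂ) : Eig r f (c • X) := fun k => by
  rw [mul_smul_comm, hX, smul_mul_assoc, smul_comm]

theorem Eig.units_inv {f : K → ℂ} {u : (M d)ˣ} (hf : ∀ k, f k ≠ 0) (hX : Eig r f (u : M d)) :
    Eig r (fun k => (f k)⁻¹) ((u⁻¹ : (M d)ˣ) : M d) := fun k => by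
  have e := congrArg (fun Y => ((u⁻¹ : (M d)ˣ) : M d) * Y * ((u⁻¹ : (M d)ˣ) : M d)) (hX k)
  simp only [mul_assoc, Units.mul_inv, mul_one, mul_smul_comm, smul_mul_assoc,
    Units.inv_mul_cancel_left] at e
  rw [e, inv_smul_smul₀ (hf k)]

theorem Eig.eq_of_unit (hd : 0 < d) {f g : K → ℂ} {u : (M d)ˣ} (hf : Eig r f (u : M d))
    (hg : Eig r g (u : M d)) : f = g := by
  funext k
  haveI : Nonempty (Fin d) := ⟨⟨0, hd⟩⟩
  have e := congrArg (fun Y => Y * r k⁻¹ * ((u⁻¹ : (M d)ˣ) : M d)) ((hf k).symm.trans (hg k))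
  simp only [smul_mul_assoc, mul_assoc, rr_inv, mul_one, Units.mul_inv] at e
  have e1 := congrFun (congrFun e ⟨0, hd⟩) ⟨0, hd⟩
  simpa using e1

theorem Hyp.isUnit_of_eig (h : Hyp r L) {f : K → ℂ} (hf : ∀ k, f k ≠ 0) {X : M d}
    (hX : Eig r f X) (h0 : X ≠ 0) : IsUnit X := by
  have hinj : Function.Injective (LinearMap.mulLeft ℂ X) := by
    rw [← LinearMap.ker_eq_bot, LinearMap.ker_eq_bot']
    intro A hA
    rw [LinearMap.mulLeft_apply] at hA
    by_contra hA0
    have hk : ∀ k, X * r k * A = 0 := fun k => by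
      have e : (f k) • (X * r k * A) = 0 := by
        rw [← smul_mul_assoc, ← hX k, mul_assoc, hA, mul_zero]
      exact (smul_eq_zero.1 e).resolve_left (hf k)
    obtain ⟨i, j, hij⟩ : ∃ i j, A i j ≠ 0 := by
      by_contra hc
      push_neg at hc
      exact hA0 (Matrix.ext hc)
    have e := congrArg (X * ·) (h.swap (A * Matrix.single j i 1))
    simp only [Finset.mul_sum, mul_smul_comm, mul_one, ← mul_assoc, hk, zero_mul,
      Finset.sum_const_zero] at e
    have ht : trace (A * Matrix.single j i (1 : ℂ)) = A i j := by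
      simp [Matrix.trace, Matrix.mul_apply, Matrix.single_apply, ite_and]
    rw [eq_comm, smul_eq_zero, mul_eq_zero, ht] at e
    rcases e with (e | e) | e
    · exact div_ne_zero h.cKC h.dC e
    · exact hij e
    · exact h0 e
  obtain ⟨Y, hY⟩ := LinearMap.injective_iff_surjective.1 hinj (1 : M d)
  exact ⟨⟨X, Y, hY, mul_eq_one_comm.1 hY⟩, rfl⟩

/-- The dual of `K ⧸ L`. -/
abbrev D (L : Subgroup K) [L.Normal] := K ⧸ L →* ℂˣ

/-- Evaluation. -/
def ev (lam : D L) : K → ℂ := fun k => (lam (k : K ⧸ L) : ℂ)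

theorem ev_ne (lam : D L) (k : K) : ev lam k ≠ 0 := Units.ne_zero _

theorem ev_one : ev (1 : D L) = fun _ : K => (1 : ℂ) := rfl

theorem ev_mul (lam mu : D L) : ev (lam * mu) = ev lam * ev mu := by
  funext k; simp [ev]

theorem ev_inv (lam : D L) : ev lam⁻¹ = fun k => (ev lam k)⁻¹ := by
  funext k; simp [ev]

theorem ev_injective : Function.Injective (ev : D L → K → ℂ) := fun a b e =>
  MonoidHom.ext fun q => by
    obtain ⟨k, rfl⟩ := QuotientGroup.mk_surjective q
    exact Units.ext (congrFun e k)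

theorem eig_commute_L {lam : D L} {X : M d} (hX : Eig r (ev lam) X) {l : K} (hl : l ∈ L) :
    r l * X = X * r l := by
  rw [hX l, ev, (QuotientGroup.eq_one_iff l).2 hl, map_one, Units.val_one, one_smul]

theorem Hyp.finite_dual (h : Hyp r L) : Finite (D L) ∧ Nat.card (D L) = L.index ∧
    ∀ q : K ⧸ L, q ≠ 1 → ∃ lam : D L, lam q ≠ 1 := by
  letI : CommGroup (K ⧸ L) :=
    { (inferInstance : Group (K ⧸ L)) with
      mul_comm := fun a b => by
        obtain ⟨a, rfl⟩ := QuotientGroup.mk_surjective a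
        obtain ⟨b, rfl⟩ := QuotientGroup.mk_surjective b
        rw [← QuotientGroup.mk_mul, ← QuotientGroup.mk_mul, QuotientGroup.eq]
        have e := h.comm b⁻¹ a⁻¹
        simpa [mul_inv_rev, mul_assoc] using e }
  obtain ⟨e⟩ := CommGroup.monoidHom_mulEquiv_of_hasEnoughRootsOfUnity (K ⧸ L) ℂ
  haveI : Finite (D L) := Finite.of_equiv _ e.symm.toEquiv
  exact ⟨this, by rw [Nat.card_congr e.toEquiv, Subgroup.index_eq_card],
    fun q hq => CommGroup.exists_apply_ne_one_of_hasEnoughRootsOfUnity (K ⧸ L) ℂ hq⟩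

theorem Hyp.sum_dual (h : Hyp r L) [Fintype (D L)] (k : K) [Decidable (k ∈ L)] :
    ∑ lam : D L, (ev lam k)⁻¹ = if k ∈ L then (L.index : ℂ) else 0 := by
  obtain ⟨-, hcard, hsep⟩ := h.finite_dual
  by_cases hk : k ∈ L
  · rw [if_pos hk, Finset.sum_congr rfl (g := fun _ => (1 : ℂ)) fun lam _ => by
      rw [ev, (QuotientGroup.eq_one_iff k).2 hk, map_one, Units.val_one, inv_one]]
    rw [Finset.sum_const, Finset.card_univ, ← Nat.card_eq_fintype_card, hcard, nsmul_one]
  · rw [if_neg hk]
    obtain ⟨mu, hmu⟩ := hsep (k : K ⧸ L) fun e => hk ((QuotientGroup.eq_one_iff k).1 e)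
    have e := Fintype.sum_equiv (Equiv.mulLeft mu) (fun lam : D L => (ev (mu * lam) k)⁻¹)
      (fun lam : D L => (ev lam k)⁻¹) fun _ => rfl
    simp only [ev_mul, Pi.mul_apply, mul_inv, ← Finset.mul_sum] at e
    have hne : (ev mu k)⁻¹ ≠ 1 := fun e' => hmu (Units.ext (inv_eq_one.1 e'))
    by_contra h0
    exact hne ((mul_eq_right₀ h0).1 e)

/-- The projection to an eigenspace. -/
noncomputable def proj (r : K →* M d) (f : K → ℂ) (X : M d) : M d :=
  (Nat.card K : ℂ)⁻¹ • ∑ k, (f k)⁻¹ • (r k * X * r k⁻¹)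

theorem eig_proj (lam : D L) (X : M d) : Eig r (ev lam) (proj r (ev lam) X) := fun k => by
  simp only [proj, mul_smul_comm, smul_mul_assoc, Finset.mul_sum, Finset.sum_mul,
    smul_comm (ev lam k) ((Nat.card K : ℂ)⁻¹), Finset.smul_sum]
  refine Fintype.sum_equiv (Equiv.mulLeft k) _ _ fun x => ?_
  rw [Equiv.coe_mulLeft]
  have e1 : ev lam (k * x) = ev lam k * ev lam x := by simp [ev]
  have e2 : r (k * x) * X * r (k * x)⁻¹ * r k = r k * (r x * X * r x⁻¹) := by
    rw [mul_inv_rev, map_mul, map_mul]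
    simp only [mul_assoc, r_inv_r, mul_one]
  rw [e1, e2, smul_smul (ev lam k), mul_inv, mul_inv_cancel_left₀ (ev_ne lam k)]

theorem Hyp.proj_eig (_h : Hyp r L) {lam mu : D L} {X : M d} (hX : Eig r (ev mu) X)
    (hne : mu ≠ lam) : proj r (ev lam) X = 0 := by
  have e : ∀ k, (ev lam k)⁻¹ • (r k * X * r k⁻¹) = (ev (lam⁻¹ * mu) k) • X := fun k => by
    rw [hX k, smul_mul_assoc, mul_assoc, rr_inv, mul_one, smul_smul, ev_mul, ev_inv, Pi.mul_apply]
  rw [proj, Finset.sum_congr rfl fun k _ => e k, ← Finset.sum_smul]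
  obtain ⟨k0, hk0⟩ : ∃ k0, ev (lam⁻¹ * mu) k0 ≠ 1 := by
    by_contra hc
    push_neg at hc
    have : lam⁻¹ * mu = 1 := ev_injective (funext fun k => (hc k).trans rfl)
    exact hne (inv_mul_eq_one.1 this).symm
  have e2 := Fintype.sum_equiv (Equiv.mulLeft k0) (fun k : K => ev (lam⁻¹ * mu) (k0 * k))
    (fun k : K => ev (lam⁻¹ * mu) k) fun _ => rfl
  simp only [ev, QuotientGroup.mk_mul, map_mul, Units.val_mul, ← Finset.mul_sum] at e2 hk0 ⊢
  have h0 : ∑ k : K, (((lam⁻¹ : D L) * mu) (k : K ⧸ L) : ℂ) = 0 := by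
    by_contra hs
    simp only [MonoidHom.mul_apply, Units.val_mul] at hs hk0
    exact hk0 ((mul_eq_right₀ hs).1 e2)
  simp only [MonoidHom.mul_apply, Units.val_mul] at h0 ⊢
  rw [h0, zero_smul, smul_zero]

theorem Hyp.proj_one (h : Hyp r L) (X : M d) :
    proj r (ev (1 : D L)) X = (trace X / d) • (1 : M d) := by
  simp only [proj, ev_one, inv_one, one_smul, h.swap, smul_smul]
  congr 1
  field_simp [h.cKC]

theorem Hyp.line (h : Hyp r L) {lam : D L} {X Y : M d} (hX : Eig r (ev lam) X) (hX0 : X ≠ 0)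
    (hY : Eig r (ev lam) Y) : ∃ c : ℂ, Y = c • X := by
  obtain ⟨u, rfl⟩ := h.isUnit_of_eig (ev_ne lam) hX hX0
  refine ⟨trace (((u⁻¹ : (M d)ˣ) : M d) * Y) / d, ?_⟩
  have e : ∀ k, r k * (((u⁻¹ : (M d)ˣ) : M d) * Y) = (((u⁻¹ : (M d)ˣ) : M d) * Y) * r k := fun k => by
    have := (Eig.units_inv (ev_ne lam) hX).mul hY k
    rwa [Pi.mul_apply, inv_mul_cancel₀ (ev_ne lam k), one_smul] at this
  conv_lhs => rw [← one_mul Y, ← Units.mul_inv u, mul_assoc, h.scalar_of_commute e, mul_smul_comm,
    mul_one]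

/-- The summand of the trace identity. -/
noncomputable def term (r : K →* M d) (f : K → ℂ) (Y Z : M d) : ℂ :=
  ∑ i, ∑ j, proj r f (Y * Matrix.single i j (1 : ℂ) * Z) i j

theorem sum_single (A B : M d) :
    ∑ i, ∑ j, (A * Matrix.single i j (1 : ℂ) * B : M d) i j = trace A * trace B := by
  simp [Matrix.mul_apply, Matrix.single_apply, ite_and, Matrix.trace, Finset.mul_sum,
    Finset.sum_mul]
  exact Finset.sum_comm

theorem term_eq (f : K → ℂ) (Y Z : M d) :
    term r f Y Z =
      (Nat.card K : ℂ)⁻¹ * ∑ k, (f k)⁻¹ * (trace (r k * Y) * trace (Z * r k⁻¹)) := by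
  simp only [term, proj, Matrix.smul_apply, Matrix.sum_apply, smul_eq_mul, ← Finset.mul_sum]
  congr 1
  rw [Finset.sum_congr rfl fun i _ => Finset.sum_comm, Finset.sum_comm]
  refine Finset.sum_congr rfl fun k _ => ?_
  rw [← sum_single (r k * Y) (Z * r k⁻¹)]
  simp only [Finset.mul_sum, mul_assoc]

theorem proj_linear (f : K → ℂ) (W : Fin d → Fin d → M d) (c : Fin d → Fin d → ℂ) :
    proj r f (∑ i, ∑ j, c i j • W i j) = ∑ i, ∑ j, c i j • proj r f (W i j) := by
  simp only [proj, Finset.mul_sum, Finset.sum_mul, mul_smul_comm, smul_mul_assoc, Finset.smul_sum]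
  rw [Finset.sum_comm]
  refine Finset.sum_congr rfl fun i _ => ?_
  rw [Finset.sum_comm]
  refine Finset.sum_congr rfl fun j _ => Finset.sum_congr rfl fun k _ => ?_
  rw [smul_comm (c i j), smul_comm (c i j)]

theorem Hyp.term_line (h : Hyp r L) {lam : D L} {X : M d} (hX : Eig r (ev lam) X) {a b : Fin d}
    (hab : X a b ≠ 0) (Y Z : M d) :
    term r (ev lam) Y Z = proj r (ev lam) (Y * X * Z) a b / X a b := by
  have hX0 : X ≠ 0 := fun e => hab (by rw [e]; rfl)
  have hl : ∀ W, proj r (ev lam) W = (proj r (ev lam) W a b / X a b) • X := fun W => by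
    obtain ⟨c, hc⟩ := h.line hX hX0 (eig_proj lam W)
    rw [hc, Matrix.smul_apply, smul_eq_mul, mul_div_cancel_right₀ _ hab]
  have e : Y * X * Z = ∑ i, ∑ j, (X i j : ℂ) • (Y * Matrix.single i j (1 : ℂ) * Z : M d) := by
    conv_lhs => rw [Matrix.matrix_eq_sum_single X]
    simp only [Finset.mul_sum, Finset.sum_mul]
    refine Finset.sum_congr rfl fun i _ => Finset.sum_congr rfl fun j _ => ?_
    rw [← smul_mul_assoc, ← mul_smul_comm, Matrix.smul_single, smul_eq_mul, mul_one]
  rw [e, proj_linear (ev lam) (fun i j => Y * Matrix.single i j (1 : ℂ) * Z) (fun i j => X i j),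
    Matrix.sum_apply, Finset.sum_div, term]
  refine Finset.sum_congr rfl fun i _ => ?_
  rw [Matrix.sum_apply, Finset.sum_div]
  refine Finset.sum_congr rfl fun j _ => ?_
  conv_lhs => rw [hl]
  simp only [Matrix.smul_apply, smul_eq_mul]
  ring

theorem Hyp.term_one (h : Hyp r L) {Y Z : M d} (hYZ : trace (Y * Z) = d) :
    term r (ev (1 : D L)) Y Z = 1 := by
  have hd : 0 < d := h.pos
  have h1 : (1 : M d) ⟨0, hd⟩ ⟨0, hd⟩ ≠ 0 := by simp
  rw [h.term_line (lam := 1) (X := 1) (by simpa [ev_one] using eig_one (r := r)) h1, h.proj_one,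
    mul_one, hYZ, div_self h.dC, one_smul, div_self h1]

theorem Hyp.term_zero (h : Hyp r L) {lam : D L} {Y Z : M d}
    (hmap : ∀ X, Eig r (ev lam) X → ∃ mu : D L, mu ≠ lam ∧ Eig r (ev mu) (Y * X * Z)) :
    term r (ev lam) Y Z = 0 := by
  by_cases hex : ∀ W, proj r (ev lam) W = 0
  · simp [term, hex]
  · push_neg at hex
    obtain ⟨W, hW⟩ := hex
    obtain ⟨a, b, hab⟩ : ∃ a b, proj r (ev lam) W a b ≠ 0 := by
      by_contra hc
      push_neg at hc
      exact hW (Matrix.ext hc)
    obtain ⟨mu, hmu, he⟩ := hmap _ (eig_proj lam W)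
    rw [h.term_line (eig_proj lam W) hab, h.proj_eig he hmu]
    simp

/-- The sum over `L` splits along the characters. -/
theorem Hyp.sum_sub_eq (h : Hyp r L) [Fintype (D L)] [Fintype L] (Y Z : M d) :
    ∑ l : L, trace (r l * Y) * trace (Z * r (l : K)⁻¹) =
      (Nat.card L : ℂ) * ∑ lam : D L, term r (ev lam) Y Z := by
  classical
  simp only [term_eq, ← Finset.mul_sum]
  rw [Finset.sum_comm]
  simp only [← Finset.sum_mul, h.sum_dual, ite_mul, zero_mul, ← Finset.sum_filter,
    ← Finset.mul_sum]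
  rw [Finset.sum_subtype (p := fun k => k ∈ L) _ (fun k => by simp)
    (fun k => trace (r k * Y) * trace (Z * r k⁻¹)), ← mul_assoc, ← mul_assoc]
  have e : (Nat.card L : ℂ) * (Nat.card K : ℂ)⁻¹ * (L.index : ℂ) = 1 := by
    rw [← L.card_mul_index, Nat.cast_mul]
    have h1 : (Nat.card L : ℂ) ≠ 0 := Nat.cast_ne_zero.2 Nat.card_pos.ne'
    have h2 : (L.index : ℂ) ≠ 0 := Nat.cast_ne_zero.2 Subgroup.index_ne_zero_of_finite
    field_simp
  rw [e, one_mul]

/-- The trace identity over `L`. -/
theorem Hyp.sum_sub_eq_card (h : Hyp r L) [Fintype L] {Y Z : M d} (hYZ : trace (Y * Z) = d)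
    (hmap : ∀ lam : D L, lam ≠ 1 → ∀ X, Eig r (ev lam) X →
      ∃ mu : D L, mu ≠ lam ∧ Eig r (ev mu) (Y * X * Z)) :
    ∑ l : L, trace (r l * Y) * trace (Z * r (l : K)⁻¹) = Nat.card L := by
  classical
  haveI := h.finite_dual.1
  haveI := Fintype.ofFinite (D L)
  rw [h.sum_sub_eq, Finset.sum_eq_single (1 : D L), h.term_one hYZ, mul_one]
  · exact fun lam _ hlam => h.term_zero (hmap lam hlam)
  · exact fun hh => absurd (Finset.mem_univ _) hh

/-- The trace identity over `K`. -/
theorem Hyp.sum_eq_card (h : Hyp r L) {Y Z : M d} (hYZ : trace (Y * Z) = d) :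
    ∑ k : K, trace (r k * Y) * trace (Z * r k⁻¹) = Nat.card K := by
  have e := h.term_one hYZ
  rw [term_eq, inv_mul_eq_one₀ h.cKC] at e
  simpa [ev_one] using e.symm

/-- A central element of the commutant is scalar. -/
theorem Hyp.eq_zero_of_central (h : Hyp r L) {g : M d} (hg : ∀ l ∈ L, r l * g = g * r l)
    (ht : trace g = 0) (hc : ∀ (lam : D L) (X : M d), Eig r (ev lam) X → g * X = X * g) : g = 0 := by
  classical
  haveI := h.finite_dual.1
  haveI := Fintype.ofFinite (D L)
  haveI := Fintype.ofFinite L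
  -- `g` commutes with averages over `L`
  have hav : ∀ X : M d, ∑ l : L, (r l * g) * X * r (l : K)⁻¹ =
      ∑ l : L, r l * X * (g * r (l : K)⁻¹) := by
    intro X
    have hΦ : ∀ W : M d, ∑ l : L, r l * W * r (l : K)⁻¹ =
        (Nat.card L : ℂ) • ∑ lam : D L, proj r (ev lam) W := by
      intro W
      simp only [proj, Finset.smul_sum]
      rw [Finset.sum_comm]
      simp only [smul_smul, ← Finset.sum_smul, ← Finset.mul_sum, h.sum_dual, mul_ite, mul_zero,
        ite_smul, zero_smul, ← Finset.sum_filter]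
      rw [Finset.sum_subtype (p := fun k => k ∈ L) _ (fun k => by simp)
        (fun k => ((Nat.card L : ℂ) * ((Nat.card K : ℂ)⁻¹ * (L.index : ℂ))) • (r k * W * r k⁻¹))]
      refine Finset.sum_congr rfl fun l _ => ?_
      rw [← L.card_mul_index, Nat.cast_mul]
      have h1 : (Nat.card L : ℂ) ≠ 0 := Nat.cast_ne_zero.2 Nat.card_pos.ne'
      have h2 : (L.index : ℂ) ≠ 0 := Nat.cast_ne_zero.2 Subgroup.index_ne_zero_of_finite
      rw [show (Nat.card L : ℂ) * (((Nat.card L : ℂ) * (L.index : ℂ))⁻¹ * (L.index : ℂ)) = 1 by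
        field_simp, one_smul]
    have e1 : g * (∑ l : L, r l * X * r (l : K)⁻¹) = (∑ l : L, r l * X * r (l : K)⁻¹) * g := by
      rw [hΦ, mul_smul_comm, smul_mul_assoc, Finset.mul_sum, Finset.sum_mul,
        Finset.sum_congr rfl fun lam _ => hc lam _ (eig_proj lam X)]
    rw [Finset.mul_sum, Finset.sum_mul] at e1
    refine Eq.trans (Finset.sum_congr rfl fun l _ => ?_)
      (e1.trans (Finset.sum_congr rfl fun l _ => ?_))
    · rw [hg _ l.2]; simp only [mul_assoc]
    · have e := hg _ (L.inv_mem l.2)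
      rw [mul_assoc, e, ← mul_assoc]
  have hkey : ∑ l : L, trace (r l * g) • r (l : K)⁻¹ =
      g * ∑ l : L, trace (r l) • r (l : K)⁻¹ := by
    rw [Finset.mul_sum]
    ext a b
    simp only [Matrix.sum_apply, mul_smul_comm, Matrix.smul_apply, smul_eq_mul, Matrix.trace,
      Matrix.diag_apply, Finset.sum_mul]
    rw [Finset.sum_comm, Finset.sum_comm (γ := L)]
    refine Finset.sum_congr rfl fun i _ => ?_
    have e := congrFun (congrFun (hav (Matrix.single i a (1 : ℂ))) i) b
    simpa [Matrix.sum_apply, Matrix.mul_apply, Matrix.single_apply, ite_and] using e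
  have hz : ∀ k, r k * (∑ l : L, trace (r l) • r (l : K)⁻¹) =
      (∑ l : L, trace (r l) • r (l : K)⁻¹) * r k := by
    intro k
    simp only [Finset.mul_sum, Finset.sum_mul, mul_smul_comm, smul_mul_assoc]
    refine Fintype.sum_equiv (MulAut.conjNormal k : L ≃* L).toEquiv _ _ fun l => ?_
    have hv : (((MulAut.conjNormal k : L ≃* L).toEquiv l : L) : K) = k * l * k⁻¹ :=
      MulAut.conjNormal_apply k l
    rw [hv, ← map_mul, ← map_mul]
    congr 1
    · rw [map_mul, map_mul, trace_mul_comm, ← mul_assoc, r_inv_r, one_mul]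
    · congr 1
      group
  have hz0 : trace (∑ l : L, trace (r l) • r (l : K)⁻¹) ≠ 0 := by
    rw [trace_sum]
    simp only [trace_smul, smul_eq_mul]
    have e := h.sum_sub_eq (1 : M d) 1
    simp only [mul_one, one_mul] at e
    rw [e]
    refine mul_ne_zero (Nat.cast_ne_zero.2 Nat.card_pos.ne') ?_
    have ht : ∀ lam : D L,
        term r (ev lam) 1 1 = if ∀ W, proj r (ev lam) W = 0 then (0 : ℂ) else 1 := by
      intro lam
      split_ifs with hex
      · simp [term, hex]
      · push_neg at hex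
        obtain ⟨W, hW⟩ := hex
        obtain ⟨a, b, hab⟩ : ∃ a b, proj r (ev lam) W a b ≠ 0 := by
          by_contra hc'
          push_neg at hc'
          exact hW (Matrix.ext hc')
        obtain ⟨c, hc'⟩ := h.line (eig_proj lam W) hW (eig_proj lam W)
        rw [h.term_line (eig_proj lam W) hab, one_mul, mul_one]
        have e : proj r (ev lam) (proj r (ev lam) W) = proj r (ev lam) W := by
          have hk : ∀ k, (ev lam k)⁻¹ •
              (r k * proj r (ev lam) W * r k⁻¹) = proj r (ev lam) W := fun k => by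
            rw [eig_proj lam W k, smul_mul_assoc, mul_assoc, rr_inv, mul_one,
              inv_smul_smul₀ (ev_ne lam k)]
          conv_lhs => rw [proj]
          rw [Finset.sum_congr rfl fun k _ => hk k, Finset.sum_const, Finset.card_univ,
            ← Nat.card_eq_fintype_card, ← Nat.cast_smul_eq_nsmul ℂ, inv_smul_smul₀ h.cKC]
        rw [e, div_self hab]
    rw [Finset.sum_congr rfl fun lam _ => ht lam, Finset.sum_ite, Finset.sum_const_zero, zero_add,
      Finset.sum_const, nsmul_one, Nat.cast_ne_zero, ← Nat.pos_iff_ne_zero, Finset.card_pos]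
    refine ⟨1, Finset.mem_filter.2 ⟨Finset.mem_univ _, fun hh => ?_⟩⟩
    have h1 := hh 1
    rw [h.proj_one, Matrix.trace_one, Fintype.card_fin, div_self h.dC, one_smul] at h1
    have h2 := congrFun (congrFun h1 ⟨0, h.pos⟩) ⟨0, h.pos⟩
    simp at h2
  rw [Finset.sum_eq_zero (fun l _ => by
    rw [trace_mul_comm, h.homog g hg _ l.2, ht, zero_div, zero_mul, zero_smul]),
    h.scalar_of_commute hz, mul_smul_comm, mul_one, eq_comm, smul_eq_zero] at hkey
  exact hkey.resolve_left (div_ne_zero hz0 h.dC)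

/-- An automorphism with an implementing unit. -/
def Impl (r : K →* M d) (γ : MulAut K) (U : (M d)ˣ) : Prop :=
  ∀ k, (U : M d) * r k = r (γ k) * (U : M d)

theorem Eig.conj {γ : MulAut K} {U : (M d)ˣ} (hU : Impl r γ U) {f : K → ℂ} {X : M d}
    (hX : Eig r f X) :
    Eig r (fun k => f (γ⁻¹ k)) ((U : M d) * X * ((U⁻¹ : (M d)ˣ) : M d)) := fun k => by
  obtain ⟨x, rfl⟩ := γ.surjective k
  have hx : γ⁻¹ (γ x) = x := γ.symm_apply_apply x
  beta_reduce
  have e2 : ((U⁻¹ : (M d)ˣ) : M d) * r (γ x) = r x * ((U⁻¹ : (M d)ˣ) : M d) := by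
    rw [Units.inv_mul_eq_iff_eq_mul, ← mul_assoc, hU, mul_assoc, Units.mul_inv, mul_one]
  rw [hx, ← mul_assoc, ← mul_assoc, ← hU, mul_assoc (U : M d) (r x), hX, mul_smul_comm,
    smul_mul_assoc, mul_assoc ((U : M d) * X), e2]
  simp only [mul_assoc]

/-- The units of exponent `L.index` among the eigenvectors. -/
def pgrp (h : Hyp r L) : Subgroup (M d)ˣ where
  carrier := {u | (∃ lam : D L, Eig r (ev lam) (u : M d)) ∧ u ^ L.index = 1}
  one_mem' := ⟨⟨1, by rw [ev_one]; exact eig_one⟩, one_pow _⟩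
  inv_mem' := by
    rintro u ⟨⟨lam, hlam⟩, hu⟩
    exact ⟨⟨lam⁻¹, by rw [ev_inv]; exact Eig.units_inv (ev_ne lam) hlam⟩, by
      rw [inv_pow, hu, inv_one]⟩
  mul_mem' := by
    rintro u v ⟨⟨lam, hlam⟩, hu⟩ ⟨⟨mu, hmu⟩, hv⟩
    refine ⟨⟨lam * mu, by rw [ev_mul]; exact hlam.mul hmu⟩, ?_⟩
    let c : (M d)ˣ := v * u * v⁻¹ * u⁻¹
    have he : Eig r (ev (1 : D L)) (c : M d) := by
      have e := ((hmu.mul hlam).mul (Eig.units_inv (ev_ne mu) hmu)).mul
        (Eig.units_inv (ev_ne lam) hlam)
      convert e using 1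
      · funext k
        simp only [ev_one, Pi.mul_apply]
        field_simp [ev_ne mu k, ev_ne lam k]
      · simp [c]
    have hcs : (c : M d) = (trace (c : M d) / d) • (1 : M d) :=
      h.scalar_of_commute fun k => by simpa [ev_one] using he k
    have hcen : ∀ w : (M d)ˣ, Commute c w := fun w => Units.ext (by
      rw [Units.val_mul c w, Units.val_mul w c, hcs, smul_mul_assoc, mul_smul_comm, one_mul, mul_one])
    have hvu : v * u = c * (u * v) := by simp [c, mul_assoc]
    have hvn : ∀ n, v ^ n * u = c ^ n * (u * v ^ n) := by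
      intro n
      induction n with
      | zero => simp
      | succ n ih =>
        rw [pow_succ, mul_assoc, hvu, ← mul_assoc, ← (hcen (v ^ n)).eq, mul_assoc,
          ← mul_assoc (v ^ n), ih, pow_succ' c]
        simp only [mul_assoc, pow_succ]
    have huv : ∀ n, (u * v) ^ n = c ^ (∑ i ∈ Finset.range n, i) * (u ^ n * v ^ n) := by
      intro n
      induction n with
      | zero => simp
      | succ n ih =>
        calc (u * v) ^ (n + 1) = c ^ (∑ i ∈ Finset.range n, i) * (u ^ n * (v ^ n * u) * v) := by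
              rw [pow_succ, ih]; simp only [mul_assoc]
          _ = c ^ (∑ i ∈ Finset.range n, i) * (c ^ n * (u ^ (n + 1) * v ^ (n + 1))) := by
              rw [hvn, ← mul_assoc (u ^ n), ← ((hcen (u ^ n)).pow_left n).eq]
              simp only [mul_assoc, pow_succ]
          _ = _ := by rw [Finset.sum_range_succ, pow_add c]; simp only [mul_assoc]
    have hcm : c ^ L.index = 1 := by
      have e1 := hvn L.index
      rw [hv, one_mul, mul_one] at e1
      exact mul_eq_right.1 e1.symm
    rw [huv, hu, hv, one_mul, mul_one]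
    obtain ⟨j, hj⟩ := h.odd
    have : L.index ∣ ∑ i ∈ Finset.range L.index, i := by
      rw [Finset.sum_range_id, hj, show 2 * j + 1 - 1 = j * 2 by omega, ← mul_assoc,
        Nat.mul_div_cancel _ two_pos]
      exact dvd_mul_right _ _
    obtain ⟨t, ht⟩ := this
    rw [ht, pow_mul, hcm, one_pow]

/-- The scalars of `pgrp`. -/
def zgrp (h : Hyp r L) : Subgroup (pgrp h) where
  carrier := {u | Eig r (fun _ => 1) ((u : (M d)ˣ) : M d)}
  one_mem' := eig_one
  inv_mem' := fun {u} hu => by
    have := Eig.units_inv (fun _ => one_ne_zero) (u := (u : (M d)ˣ)) hu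
    simpa using this
  mul_mem' := fun {u v} hu hv => by
    have := Eig.mul hu hv
    simpa [Pi.mul_def] using this

theorem mem_zgrp_scalar (h : Hyp r L) {u : pgrp h} (hu : u ∈ zgrp h) :
    ((u : (M d)ˣ) : M d) = (trace ((u : (M d)ˣ) : M d) / d) • (1 : M d) :=
  h.scalar_of_commute fun k => by simpa using hu k

theorem baerData (h : Hyp r L) : FRInvBaer.Data (pgrp h) (zgrp h) L.index where
  comm a b := by
    obtain ⟨⟨lam, hlam⟩, -⟩ := a.2
    obtain ⟨⟨mu, hmu⟩, -⟩ := b.2
    have e := ((hlam.mul hmu).mul (Eig.units_inv (ev_ne lam) hlam)).mul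
      (Eig.units_inv (ev_ne mu) hmu)
    show Eig r (fun _ => 1) _
    convert e using 1
    · funext k
      simp only [Pi.mul_apply]
      field_simp [ev_ne mu k, ev_ne lam k]
    · simp [commutatorElement_def]
  central z hz a := Subtype.ext (Units.ext (by
    simp only [Subgroup.coe_mul, Units.val_mul]
    rw [mem_zgrp_scalar h hz, mul_smul_comm, smul_mul_assoc, one_mul, mul_one]))
  exp a := Subtype.ext a.2.2
  odd := h.odd

/-- Restriction of an implemented automorphism. -/
theorem exists_restrict (h : Hyp r L) {γ : MulAut K} (hL : ∀ l ∈ L, γ⁻¹ l ∈ L) {U : (M d)ˣ}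
    (hU : Impl r γ U) : ∀ u ∈ pgrp h, U * u * U⁻¹ ∈ pgrp h := by
  rintro u ⟨⟨lam, hlam⟩, hu⟩
  refine ⟨⟨lam.comp (QuotientGroup.map L L (γ⁻¹).toMonoidHom hL), ?_⟩, by
    rw [conj_pow, hu, mul_one, mul_inv_cancel]⟩
  convert Eig.conj hU hlam using 1
  · funext k
    rfl
  · simp

theorem Hyp.impl_unique (h : Hyp r L) {γ : MulAut K} {U U' : (M d)ˣ} (hU : Impl r γ U)
    (hU' : Impl r γ U') (X : M d) :
    (U : M d) * X * ((U⁻¹ : (M d)ˣ) : M d) = (U' : M d) * X * ((U'⁻¹ : (M d)ˣ) : M d) := by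
  have e2 : ∀ k, ((U'⁻¹ : (M d)ˣ) : M d) * r (γ k) = r k * ((U'⁻¹ : (M d)ˣ) : M d) := fun k => by
    rw [Units.inv_mul_eq_iff_eq_mul, ← mul_assoc, hU', mul_assoc, Units.mul_inv, mul_one]
  have e := h.scalar_of_commute (g := ((U'⁻¹ : (M d)ˣ) : M d) * (U : M d)) fun k => by
    rw [← mul_assoc, ← e2, mul_assoc, ← hU k, mul_assoc]
  set W : (M d)ˣ := U'⁻¹ * U
  have hW : ((W : (M d)ˣ) : M d) * X = X * (W : M d) := by
    rw [show (W : M d) = ((U'⁻¹ : (M d)ˣ) : M d) * (U : M d) from Units.val_mul _ _, e,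
      smul_mul_assoc, mul_smul_comm, one_mul, mul_one]
  have hU2 : U = U' * W := (mul_inv_cancel_left U' U).symm
  rw [hU2, mul_inv_rev, Units.val_mul U' W, Units.val_mul W⁻¹ U'⁻¹, mul_assoc (U' : M d), hW]
  simp only [mul_assoc, Units.mul_inv_cancel_left]

/-- The involution. -/
theorem exists_inversion (h : Hyp r L) {S : Type*} [Group S] [Finite S] (σ : S →* MulAut K)
    (hSL : ∀ s, ∀ l ∈ L, σ s l ∈ L) (hU : ∀ s, ∃ U, Impl r (σ s) U)
    (hfix : ∀ lam : D L, (∀ s k, lam ((σ s k : K) : K ⧸ L) = lam (k : K ⧸ L)) → lam = 1)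
    (hcop : L.index.Coprime (Nat.card S)) :
    ∃ J : M d, J * J = 1 ∧ (∀ l ∈ L, r l * J = J * r l) ∧ trace J ≠ 0 ∧
      (∀ (lam : D L) (X : M d), Eig r (ev lam) X → Eig r (ev lam⁻¹) (J * X * J)) ∧
      ∀ (γ : MulAut K) (U : (M d)ˣ), Impl r γ U → (∀ l ∈ L, γ⁻¹ l ∈ L) →
        (∀ s k, σ s (γ k) = γ (σ s k)) → (U : M d) * J = J * (U : M d) := by
  classical
  haveI := h.finite_dual.1
  haveI := Fintype.ofFinite (D L)
  let P := pgrp h
  let Z := zgrp h
  choose Us hUs using hU
  have hSL' : ∀ s, ∀ l ∈ L, (σ s)⁻¹ l ∈ L := fun s l hl => by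
    rw [← map_inv]; exact hSL s⁻¹ l hl
  let restr : ∀ (γ : MulAut K) (U : (M d)ˣ), (∀ l ∈ L, γ⁻¹ l ∈ L) → Impl r γ U → P →* P :=
    fun γ U hL hU => ((MulAut.conj U).toMonoidHom.comp P.subtype).codRestrict P
      fun u => exists_restrict h hL hU _ u.2
  have hrestr_val : ∀ γ U hL hU (u : P), ((restr γ U hL hU u : P) : (M d)ˣ) =
      U * (u : (M d)ˣ) * U⁻¹ := fun _ _ _ _ _ => rfl
  have hadd : ∀ (γ γ' : MulAut K) (U U' V : (M d)ˣ), Impl r γ U → Impl r γ' U' →
      Impl r (γ * γ') V → ∀ X : (M d)ˣ, U * (U' * X * U'⁻¹) * U⁻¹ = V * X * V⁻¹ := by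
    intro γ γ' U U' V hU hU' hV X
    have hUU : Impl r (γ * γ') (U * U') := fun k => by
      rw [Units.val_mul, mul_assoc, hU' k, ← mul_assoc, hU, mul_assoc, MulAut.mul_apply]
    refine Units.ext ?_
    have e := h.impl_unique hUU hV (X : M d)
    simp only [Units.val_mul, mul_inv_rev, mul_assoc] at e ⊢
    exact e
  have hone : ∀ (V : (M d)ˣ), Impl r (1 : MulAut K) V → ∀ X : (M d)ˣ, V * X * V⁻¹ = X := by
    intro V hV X
    refine Units.ext ?_
    have e := h.impl_unique hV (γ := 1) (U' := 1) (fun k => by simp) (X : M d)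
    simpa using e
  let act : S →* MulAut P :=
    { toFun := fun s =>
        { toFun := restr (σ s) (Us s) (hSL' s) (hUs s)
          invFun := restr (σ s⁻¹) (Us s⁻¹) (hSL' s⁻¹) (hUs s⁻¹)
          left_inv := fun u => Subtype.ext (by
            simp only [hrestr_val]
            refine (hadd _ _ _ _ 1 (hUs s⁻¹) (hUs s) (fun k => ?_) _).trans (by simp)
            simp)
          right_inv := fun u => Subtype.ext (by
            simp only [hrestr_val]
            refine (hadd _ _ _ _ 1 (hUs s) (hUs s⁻¹) (fun k => ?_) _).trans (by simp)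
            simp)
          map_mul' := map_mul _ }
      map_one' := MulEquiv.ext fun u => Subtype.ext (hone (Us 1) (by simpa using hUs 1) _)
      map_mul' := fun s t => MulEquiv.ext fun u => Subtype.ext
        (hadd _ _ _ _ (Us (s * t)) (hUs s) (hUs t) (by simpa using hUs (s * t)) _).symm }
  have hactv : ∀ s (u : P), ((act s u : P) : (M d)ˣ) = Us s * (u : (M d)ˣ) * (Us s)⁻¹ :=
    fun s u => rfl
  have hfixZ : ∀ (U : (M d)ˣ) (z : P), z ∈ Z → U * (z : (M d)ˣ) * U⁻¹ = (z : (M d)ˣ) := by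
    intro U z hz
    refine Units.ext ?_
    rw [Units.val_mul, Units.val_mul, mem_zgrp_scalar h hz, mul_smul_comm, mul_one, smul_mul_assoc,
      Units.mul_inv]
  have hactZ : ∀ s, ∀ z ∈ Z, act s z = z := fun s z hz => Subtype.ext (hfixZ _ z hz)
  have hactfix : ∀ a, (∀ s, act s a = a) → a ∈ Z := by
    intro a ha
    obtain ⟨⟨lam, hlam⟩, -⟩ := a.2
    have hl : lam = 1 := hfix lam fun s k => by
      have e1 := Eig.conj (hUs s) hlam
      have e2 : ((Us s : M d) * ((a : (M d)ˣ) : M d) * (((Us s)⁻¹ : (M d)ˣ) : M d)) =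
          ((a : (M d)ˣ) : M d) := by
        have e := congrArg (fun u : P => ((u : (M d)ˣ) : M d)) (ha s)
        simpa [hactv] using e
      rw [e2] at e1
      have e3 := congrFun (Eig.eq_of_unit h.pos e1 hlam) (σ s k)
      rw [show (σ s)⁻¹ (σ s k) = k from (σ s).symm_apply_apply k] at e3
      exact Units.ext e3.symm
    show Eig r (fun _ => 1) _
    rwa [hl, ev_one] at hlam
  obtain ⟨X, hXa, hXz, hXmul, hXeq⟩ :=
    FRInvBaer.exists_section (baerData h) act hactZ hactfix hcop
  -- the support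
  let LamG : Subgroup (D L) :=
    { carrier := {lam | ∃ u : P, Eig r (ev lam) ((u : (M d)ˣ) : M d)}
      one_mem' := ⟨1, by rw [ev_one]; exact eig_one⟩
      mul_mem' := fun {a b} ⟨u, hu⟩ ⟨v, hv⟩ => ⟨u * v, by rw [ev_mul]; exact hu.mul hv⟩
      inv_mem' := fun {a} ⟨u, hu⟩ =>
        ⟨u⁻¹, by rw [ev_inv]; exact Eig.units_inv (ev_ne a) hu⟩ }
  choose rep hrep using fun lam : ↥LamG => lam.2
  have hsame : ∀ (lam : D L) (u v : P), Eig r (ev lam) ((u : (M d)ˣ) : M d) →
      Eig r (ev lam) ((v : (M d)ˣ) : M d) → X u = X v := by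
    intro lam u v hu hv
    have hz : u⁻¹ * v ∈ Z := by
      show Eig r (fun _ => 1) _
      have e := (Eig.units_inv (ev_ne lam) hu).mul hv
      convert e using 1
      · funext k
        rw [Pi.mul_apply, inv_mul_cancel₀ (ev_ne lam k)]
      · simp
    rw [← hXz u _ hz, mul_inv_cancel_left]
  let mM : P → M d := fun u => ((u : (M d)ˣ) : M d)
  have hmul : ∀ u v : P, mM (u * v) = mM u * mM v := fun u v => rfl
  have hXE : ∀ (lam : D L) (u : P), Eig r (ev lam) (mM u) → Eig r (ev lam) (mM (X u)) := by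
    intro lam u hu
    have e := hu.mul (show Eig r (fun _ => 1) (mM (u⁻¹ * X u)) from hXa u)
    rw [← hmul, mul_inv_cancel_left] at e
    convert e using 1
    funext k
    simp
  obtain ⟨c, hc⟩ := IsAlgClosed.exists_pow_nat_eq (k := ℂ) ((Fintype.card ↥LamG : ℂ)⁻¹) two_pos
  let J : M d := c • ∑ lam : ↥LamG, mM (X (rep lam))
  have hmulv : ∀ a b : ↥LamG, (a * b).1 = a.1 * b.1 := fun _ _ => rfl
  have hrepmul : ∀ a b : ↥LamG, X (rep (a * b)) = X (rep a * rep b) := fun a b =>
    hsame (a * b).1 _ _ (hrep _) (by rw [hmulv, ev_mul]; exact (hrep a).mul (hrep b))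
  -- X(b) J X(b) = J
  have hbJb : ∀ b : ↥LamG, mM (X (rep b)) * J * mM (X (rep b)) = J := by
    intro b
    simp only [J, mul_smul_comm, smul_mul_assoc, Finset.mul_sum, Finset.sum_mul]
    congr 1
    refine Fintype.sum_equiv ((Equiv.mulLeft b).trans (Equiv.mulRight b)) _ _ fun a => ?_
    rw [← hmul, ← hmul]
    congr 1
    show X (rep b) * X (rep a) * X (rep b) = X (rep (b * a * b))
    have hz := (baerData h).pow_comm (rep b) (rep a) (FRInvBaer.hf L.index)
    rw [hXmul, mul_assoc, ← (baerData h).central _ (Subgroup.inv_mem _ hz) (X (rep b)),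
      ← mul_assoc, hXmul]
    have hc : ⁅rep b * rep a, rep b⁆ = ⁅rep b, rep a⁆⁻¹ := by
      rw [(baerData h).comm_mul_left, commutatorElement_self, one_mul, commutatorElement_inv]
    rw [hc, inv_pow, inv_inv, mul_inv_cancel_right]
    refine (hsame _ _ _ (hrep _) ?_).symm
    rw [hmulv, hmulv, ev_mul, ev_mul]
    exact ((hrep b).mul (hrep a)).mul (hrep b)
  -- J² = 1
  let sc : P → ℂ := fun u => trace (mM u) / d
  have hsc : ∀ u, u ∈ Z → mM u = sc u • (1 : M d) := fun u hu => mem_zgrp_scalar h hu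
  have hscmul : ∀ u v, u ∈ Z → v ∈ Z → sc (u * v) = sc u * sc v := by
    intro u v hu hv
    have e : mM (u * v) = (sc u * sc v) • (1 : M d) := by
      rw [hmul, hsc u hu, hsc v hv, smul_mul_assoc, one_mul, smul_smul]
    show trace (mM (u * v)) / d = _
    rw [e, trace_smul, trace_one, Fintype.card_fin, smul_eq_mul, mul_div_assoc, div_self h.dC,
      mul_one]
  let w : ↥LamG → ↥LamG → P := fun a g => (⁅rep a, rep g⁆ ^ FRInvBaer.hf L.index)⁻¹
  have hwZ : ∀ a g, w a g ∈ Z := fun a g => Subgroup.inv_mem _ ((baerData h).pow_comm _ _ _)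
  have hpair : ∀ a g : ↥LamG, mM (X (rep a)) * mM (X (rep (a⁻¹ * g))) =
      sc (w a g) • mM (X (rep g)) := by
    intro a g
    rw [← hmul, hXmul, ← hrepmul, mul_inv_cancel_left, hmul]
    have hc : ⁅rep a, rep (a⁻¹ * g)⁆ = ⁅rep a, rep g⁆ := by
      have hz : (rep a * rep (a⁻¹ * g))⁻¹ * rep g ∈ Z := by
        show Eig r (fun _ => 1) _
        have e := (Eig.units_inv (ev_ne _) (u := ((rep a * rep (a⁻¹ * g) : P) : (M d)ˣ))
          (show Eig r (ev (a.1 * (a⁻¹ * g).1)) _ by
            rw [ev_mul]; exact (hrep a).mul (hrep (a⁻¹ * g)))).mul (hrep g)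
        convert e using 1
        · funext k
          simp only [Pi.mul_apply, hmulv, ev_mul, Subgroup.coe_inv, ev_inv]
          field_simp [ev_ne a.1 k, ev_ne g.1 k]
        · simp
      obtain ⟨z, hz', e⟩ : ∃ z ∈ Z, rep g = rep a * rep (a⁻¹ * g) * z :=
        ⟨_, hz, (mul_inv_cancel_left _ _).symm⟩
      rw [e, (baerData h).comm_mul_right, (baerData h).comm_mul_right, commutatorElement_self,
        one_mul, (baerData h).comm_of_mem' _ hz', mul_one]
    rw [hc, hsc _ (hwZ a g), mul_smul_comm, mul_one]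
  have hcen : ∀ g : ↥LamG, (∀ a : ↥LamG, sc (w a g) = 1) → g = 1 := by
    intro g hg
    by_contra hne
    have hcomm : ∀ a : ↥LamG, ⁅rep a, rep g⁆ = 1 := by
      intro a
      have h1 : ⁅rep a, rep g⁆ ^ FRInvBaer.hf L.index = 1 := by
        rw [← inv_eq_one]
        refine Subtype.ext (Units.ext ?_)
        show mM (w a g) = 1
        rw [hsc _ (hwZ a g), hg a, one_smul]
      obtain ⟨j, hj⟩ := h.odd
      have h2 := (baerData h).exp ⁅rep a, rep g⁆
      rw [show FRInvBaer.hf L.index = j by simp [FRInvBaer.hf, hj]] at h1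
      rw [hj, pow_succ, mul_comm 2 j, pow_mul, h1, one_pow, one_mul] at h2
      exact h2
    have hg1 : g.1 ≠ 1 := fun e => hne (Subtype.ext e)
    have ht : trace (mM (rep g)) = 0 := by
      obtain ⟨k, hk⟩ : ∃ k, ev g.1 k ≠ 1 := by
        by_contra hc'
        push_neg at hc'
        exact hg1 (ev_injective ((funext hc').trans ev_one.symm))
      have e := congrArg (fun Y => trace (Y * r k⁻¹)) (hrep g k)
      simp only [smul_mul_assoc, trace_smul, mul_assoc, rr_inv, mul_one, smul_eq_mul] at e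
      rw [trace_mul_comm, mul_assoc, r_inv_r, mul_one] at e
      by_contra ht0
      exact hk ((mul_eq_right₀ ht0).1 e.symm)
    have h0 := h.eq_zero_of_central (g := mM (rep g)) (fun l hl => eig_commute_L (hrep g) hl) ht
      fun lam Y hY => by
        by_cases hY0 : Y = 0
        · simp [hY0]
        obtain ⟨u, rfl⟩ := h.isUnit_of_eig (ev_ne lam) hY hY0
        obtain ⟨b, hb⟩ : ∃ b : ℂ, Eig r (ev lam) (b • (u : M d)) ∧
            (b • (u : M d)) ^ L.index = 1 := by
          have hum : ∀ n : ℕ, Eig r (fun k => ev lam k ^ n) ((u : M d) ^ n) := by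
            intro n
            induction n with
            | zero => simpa using eig_one (r := r)
            | succ n ih => simpa [pow_succ, Pi.mul_def] using ih.mul hY
          have hs := h.scalar_of_commute (g := (u : M d) ^ L.index) fun k => by
            have e := hum L.index k
            beta_reduce at e
            rwa [show ev lam k ^ L.index = 1 by
              rw [ev, ← Units.val_pow_eq_pow_val, ← map_pow, Subgroup.index_eq_card,
                pow_card_eq_one', map_one, Units.val_one], one_smul] at e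
          set s := trace ((u : M d) ^ L.index) / (d : ℂ)
          have hs0 : s ≠ 0 := fun e => by
            haveI : Nonempty (Fin d) := ⟨⟨0, h.pos⟩⟩
            rw [e, zero_smul] at hs
            exact (u.isUnit.pow L.index).ne_zero hs
          obtain ⟨b, hb⟩ := IsAlgClosed.exists_pow_nat_eq (k := ℂ) s⁻¹ h.odd.pos
          exact ⟨b, hY.smul b, by rw [smul_pow, hb, hs, inv_smul_smul₀ hs0]⟩
        have hb0 : b ≠ 0 := fun e => by
          haveI : Nonempty (Fin d) := ⟨⟨0, h.pos⟩⟩
          rw [e, zero_smul, zero_pow h.odd.pos.ne'] at hb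
          exact zero_ne_one hb.2
        obtain ⟨v, hv⟩ := h.isUnit_of_eig (ev_ne lam) hb.1 (smul_ne_zero hb0 hY0)
        let vP : P := ⟨v, ⟨lam, hv ▸ hb.1⟩, Units.ext (by
          rw [Units.val_pow_eq_pow_val, hv, hb.2, Units.val_one])⟩
        let a : ↥LamG := ⟨lam, vP, hv ▸ hb.1⟩
        have hz : (rep a)⁻¹ * vP ∈ Z := by
          show Eig r (fun _ => 1) _
          have e := (Eig.units_inv (ev_ne lam) (hrep a)).mul (hv ▸ hb.1 : Eig r (ev lam) (v : M d))
          convert e using 1
          · funext k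
            rw [Pi.mul_apply, inv_mul_cancel₀ (ev_ne lam k)]
          · simp [vP]
        have hv2 : ⁅vP, rep g⁆ = 1 := by
          rw [show vP = rep a * ((rep a)⁻¹ * vP) from (mul_inv_cancel_left _ _).symm,
            (baerData h).comm_mul_left, hcomm, (baerData h).comm_of_mem _ hz, one_mul]
        have e := congrArg mM (commutatorElement_eq_one_iff_mul_comm.1 hv2)
        simp only [hmul, show mM vP = b • (u : M d) from hv, smul_mul_assoc, mul_smul_comm] at e
        exact (smul_right_injective (M d) hb0 e).symm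
    haveI : Nonempty (Fin d) := ⟨⟨0, h.pos⟩⟩
    exact (Units.ne_zero ((rep g : P) : (M d)ˣ)) h0
  have hJJ : J * J = 1 := by
    have hsum : (∑ a : ↥LamG, mM (X (rep a))) * (∑ b : ↥LamG, mM (X (rep b))) =
        (Fintype.card ↥LamG : ℂ) • (1 : M d) := by
      rw [Finset.sum_mul]
      have e : ∀ a : ↥LamG, mM (X (rep a)) * ∑ b : ↥LamG, mM (X (rep b)) =
          ∑ g : ↥LamG, sc (w a g) • mM (X (rep g)) := fun a => by
        rw [Finset.mul_sum]
        refine Fintype.sum_equiv (Equiv.mulLeft a) _ _ fun b => ?_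
        show _ = sc (w a (a * b)) • mM (X (rep (a * b)))
        rw [← hpair, inv_mul_cancel_left]
      rw [Finset.sum_congr rfl fun a _ => e a, Finset.sum_comm]
      simp only [← Finset.sum_smul]
      rw [Finset.sum_eq_single (1 : ↥LamG)]
      · have h1 : X (rep 1) = 1 := by
          have e1 : X (rep 1) = X 1 := hsame (1 : ↥LamG).1 _ _ (hrep 1) (by
            show Eig r (ev (1 : D L)) _
            rw [ev_one]; exact eig_one)
          have e2 := hXmul 1 1
          rw [commutatorElement_self, one_pow, inv_one, mul_one, mul_one, mul_eq_left] at e2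
          rw [e1, e2]
        have hw : ∀ a : ↥LamG, sc (w a 1) = 1 := fun a => by
          have hz : rep (1 : ↥LamG) ∈ Z := by
            show Eig r (fun _ => 1) _
            have e := hrep (1 : ↥LamG)
            rwa [show ((1 : ↥LamG).1 : D L) = 1 from rfl, ev_one] at e
          show trace (mM (⁅rep a, rep 1⁆ ^ _)⁻¹) / d = 1
          rw [(baerData h).comm_of_mem' _ hz, one_pow, inv_one]
          simp [mM, h.dC]
        rw [Finset.sum_congr rfl fun a _ => hw a, Finset.sum_const, Finset.card_univ, nsmul_one,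
          h1]
        rfl
      · intro g _ hg
        have hhom : ∀ a b : ↥LamG, sc (w (a * b) g) = sc (w a g) * sc (w b g) := fun a b => by
          rw [← hscmul _ _ (hwZ a g) (hwZ b g)]
          congr 1
          have hz : (rep a * rep b)⁻¹ * rep (a * b) ∈ Z := by
            show Eig r (fun _ => 1) _
            have e := (Eig.units_inv (ev_ne (a * b).1) (u := ((rep a * rep b : P) : (M d)ˣ))
              (by rw [hmulv, ev_mul]; exact (hrep a).mul (hrep b))).mul (hrep (a * b))
            convert e using 1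
            · funext k
              rw [Pi.mul_apply, inv_mul_cancel₀ (ev_ne _ k)]
            · simp
          have e3 : rep (a * b) = rep a * rep b * ((rep a * rep b)⁻¹ * rep (a * b)) :=
            (mul_inv_cancel_left _ _).symm
          simp only [w]
          rw [e3, (baerData h).comm_mul_left, (baerData h).comm_of_mem _ hz, mul_one,
            (baerData h).comm_mul_left,
            (show Commute ⁅rep a, rep g⁆ ⁅rep b, rep g⁆ from
              (baerData h).central _ ((baerData h).comm _ _) _).mul_pow, mul_inv_rev]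
          exact ((baerData h).central _ (hwZ b g) _).symm
        obtain ⟨a0, ha0⟩ : ∃ a0 : ↥LamG, sc (w a0 g) ≠ 1 := by
          by_contra hc'
          push_neg at hc'
          exact hg (hcen g hc')
        have e4 := Fintype.sum_equiv (Equiv.mulLeft a0) (fun a : ↥LamG => sc (w (a0 * a) g))
          (fun a : ↥LamG => sc (w a g)) fun _ => rfl
        simp only [hhom, ← Finset.mul_sum] at e4
        have : ∑ a : ↥LamG, sc (w a g) = 0 := by
          by_contra hs
          exact ha0 ((mul_eq_right₀ hs).1 e4)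
        rw [this, zero_smul]
      · exact fun hh => absurd (Finset.mem_univ _) hh
    have hcard : (Fintype.card ↥LamG : ℂ) ≠ 0 := Nat.cast_ne_zero.2 Fintype.card_pos.ne'
    show (c • _) * (c • _) = (1 : M d)
    rw [smul_mul_assoc, mul_smul_comm, smul_smul, hsum, smul_smul, ← pow_two, hc,
      inv_mul_cancel₀ hcard, one_smul]
  have hc0 : c ≠ 0 := fun e => by
    rw [e, zero_pow two_ne_zero, eq_comm, inv_eq_zero, Nat.cast_eq_zero] at hc
    exact Fintype.card_pos.ne' hc
  refine ⟨J, hJJ, ?_, ?_, ?_, ?_⟩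
  · intro l hl
    simp only [J, mul_smul_comm, smul_mul_assoc, Finset.mul_sum, Finset.sum_mul]
    congr 1
    exact Finset.sum_congr rfl fun a _ => eig_commute_L (hXE _ _ (hrep a)) hl
  · show trace (c • ∑ a : ↥LamG, mM (X (rep a))) ≠ 0
    rw [trace_smul, trace_sum, Finset.sum_eq_single (1 : ↥LamG), smul_eq_mul]
    · refine mul_ne_zero hc0 ?_
      have e := hXE _ _ (hrep (1 : ↥LamG))
      rw [show ((1 : ↥LamG).1 : D L) = 1 from rfl, ev_one] at e
      have hs := h.scalar_of_commute fun k => by simpa using e k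
      intro h0
      rw [h0, zero_div, zero_smul] at hs
      haveI : Nonempty (Fin d) := ⟨⟨0, h.pos⟩⟩
      exact Units.ne_zero ((X (rep 1) : P) : (M d)ˣ) hs
    · intro a _ ha
      obtain ⟨k, hk⟩ : ∃ k, ev a.1 k ≠ 1 := by
        by_contra hc'
        push_neg at hc'
        exact ha (Subtype.ext (ev_injective ((funext hc').trans ev_one.symm)))
      have e := congrArg (fun Y => trace (Y * r k⁻¹)) (hXE _ _ (hrep a) k)
      simp only [smul_mul_assoc, trace_smul, mul_assoc, rr_inv, mul_one, smul_eq_mul] at e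
      rw [trace_mul_comm, mul_assoc, r_inv_r, mul_one] at e
      by_contra ht0
      exact hk ((mul_eq_right₀ ht0).1 e.symm)
    · exact fun hh => absurd (Finset.mem_univ _) hh
  · intro lam Y hY
    by_cases hY0 : Y = 0
    · intro k; simp [hY0]
    obtain ⟨u, rfl⟩ := h.isUnit_of_eig (ev_ne lam) hY hY0
    -- a representative of the line
    obtain ⟨a, ha⟩ : ∃ a : ↥LamG, a.1 = lam := by
      have hum : ∀ n : ℕ, Eig r (fun k => ev lam k ^ n) ((u : M d) ^ n) := by
        intro n
        induction n with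
        | zero => simpa using eig_one (r := r)
        | succ n ih => simpa [pow_succ, Pi.mul_def] using ih.mul hY
      have hs := h.scalar_of_commute (g := (u : M d) ^ L.index) fun k => by
        have e := hum L.index k
        beta_reduce at e
        rwa [show ev lam k ^ L.index = 1 by
          rw [ev, ← Units.val_pow_eq_pow_val, ← map_pow, Subgroup.index_eq_card,
            pow_card_eq_one', map_one, Units.val_one], one_smul] at e
      set s := trace ((u : M d) ^ L.index) / (d : ℂ)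
      haveI : Nonempty (Fin d) := ⟨⟨0, h.pos⟩⟩
      have hs0 : s ≠ 0 := fun e => by
        rw [e, zero_smul] at hs
        exact (u.isUnit.pow L.index).ne_zero hs
      obtain ⟨b, hb⟩ := IsAlgClosed.exists_pow_nat_eq (k := ℂ) s⁻¹ h.odd.pos
      have hb0 : b ≠ 0 := fun e => by
        rw [e, zero_pow h.odd.pos.ne'] at hb
        exact inv_ne_zero hs0 hb.symm
      obtain ⟨v, hv⟩ := h.isUnit_of_eig (ev_ne lam) (hY.smul b) (smul_ne_zero hb0 hY0)
      refine ⟨⟨lam, ⟨v, ⟨lam, hv ▸ hY.smul b⟩, Units.ext ?_⟩, hv ▸ hY.smul b⟩, rfl⟩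
      rw [Units.val_pow_eq_pow_val, hv, smul_pow, hb, hs, inv_smul_smul₀ hs0, Units.val_one]
    obtain ⟨e, he⟩ := h.line (hXE _ _ (hrep a)) (by
      haveI : Nonempty (Fin d) := ⟨⟨0, h.pos⟩⟩
      exact Units.ne_zero ((X (rep a) : P) : (M d)ˣ)) (Y := (u : M d)) (by rw [ha]; exact hY)
    set x := ((X (rep a) : P) : (M d)ˣ)
    have e1 : (x : M d) * J * (x : M d) = J := hbJb a
    have e2 : J * (x : M d) * J = ((x⁻¹ : (M d)ˣ) : M d) := by
      calc J * (x : M d) * J
          = ((x⁻¹ : (M d)ˣ) : M d) * ((x : M d) * J * (x : M d)) * J := by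
            simp only [mul_assoc, Units.inv_mul_cancel_left]
        _ = _ := by rw [e1, mul_assoc, hJJ, mul_one]
    rw [he, show J * (e • (x : M d)) * J = e • (J * (x : M d) * J) from
      (congrArg (· * J) (mul_smul_comm e J (x : M d))).trans (smul_mul_assoc e _ J),
      e2, ← ha, ev_inv]
    exact (Eig.units_inv (ev_ne a.1) (hXE _ _ (hrep a))).smul e
  · intro γ U hU hL hcomm
    let γP : MulAut P := MulEquiv.ofBijective (restr γ U hL hU) (by
      refine ⟨fun x y e => ?_, ?_⟩
      · have e' : U * (x : (M d)ˣ) * U⁻¹ = U * (y : (M d)ˣ) * U⁻¹ := congrArg Subtype.val e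
        exact Subtype.ext (mul_left_cancel (mul_right_cancel e'))
      · intro y
        have hU' : Impl r γ⁻¹ U⁻¹ := fun k => by
          rw [Units.inv_mul_eq_iff_eq_mul, ← mul_assoc, hU, MulAut.apply_inv_self, mul_assoc,
            Units.mul_inv, mul_one]
        have hL' : ∀ l ∈ L, (γ⁻¹)⁻¹ l ∈ L := fun l hl => by
          rw [inv_inv]
          have hLmap : L.map (γ⁻¹ : MulAut K).toMonoidHom = L :=
            Subgroup.eq_of_le_of_card_ge (fun x hx => by
              obtain ⟨y, hy, rfl⟩ := hx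
              exact hL y hy) (by
              rw [Subgroup.card_map_of_injective (γ⁻¹ : MulAut K).injective])
          obtain ⟨y, hy, hyl⟩ : l ∈ L.map (γ⁻¹ : MulAut K).toMonoidHom := by rw [hLmap]; exact hl
          rw [← hyl]
          show γ (γ⁻¹ y) ∈ L
          rwa [MulAut.apply_inv_self]
        exact ⟨⟨U⁻¹ * (y : (M d)ˣ) * U⁻¹⁻¹, exists_restrict h hL' hU' _ y.2⟩,
          Subtype.ext (by simp only [hrestr_val]; simp [mul_assoc])⟩)
    have hγv : ∀ u : P, ((γP u : P) : (M d)ˣ) = U * (u : (M d)ˣ) * U⁻¹ := fun u => rfl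
    have hX' := hXeq γP (fun z hz => Subtype.ext (hfixZ U z hz)) (fun s u => Subtype.ext (by
      rw [hactv, hγv, hγv, hactv]
      have hVsγ : Impl r (σ s * γ) (Us s * U) := fun k => by
        rw [Units.val_mul, mul_assoc, hU k, ← mul_assoc, hUs, mul_assoc, MulAut.mul_apply]
      have hVγs : Impl r (γ * σ s) (U * Us s) := fun k => by
        rw [Units.val_mul, mul_assoc, hUs s k, ← mul_assoc, hU, mul_assoc, MulAut.mul_apply]
      have heq : σ s * γ = γ * σ s := MulEquiv.ext fun k => hcomm s k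
      rw [hadd _ _ _ _ (Us s * U) (hUs s) hU hVsγ,
        hadd _ _ _ _ (Us s * U) hU (hUs s) (heq ▸ hVsγ)]))
    have hconj : (U : M d) * J * ((U⁻¹ : (M d)ˣ) : M d) = J := by
      simp only [J, mul_smul_comm, smul_mul_assoc, Finset.mul_sum, Finset.sum_mul]
      congr 1
      have hmem : ∀ a : ↥LamG, ∃ b : ↥LamG, Eig r (ev b.1) (mM (γP (rep a))) := fun a => by
        obtain ⟨⟨mu, hmu⟩, -⟩ := (γP (rep a)).2
        exact ⟨⟨mu, γP (rep a), hmu⟩, hmu⟩
      choose f hf using hmem
      have hf1 : Function.Injective f := fun a b e => by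
        have e1 := hf a
        rw [e] at e1
        have e2 := hf b
        have hz : (γP (rep a))⁻¹ * γP (rep b) ∈ Z := by
          show Eig r (fun _ => 1) _
          have e3 := (Eig.units_inv (ev_ne _) e1).mul e2
          convert e3 using 1
          · funext k
            rw [Pi.mul_apply, inv_mul_cancel₀ (ev_ne _ k)]
          · simp [mM]
        rw [← map_inv, ← map_mul] at hz
        have h3 : (rep a)⁻¹ * rep b ∈ Z := by
          have h4 : γP ((rep a)⁻¹ * rep b) = γP (γP ((rep a)⁻¹ * rep b)) :=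
            (Subtype.ext (hfixZ U _ hz)).symm
          rw [γP.injective h4]
          exact hz
        have e5 := (hrep a).mul (show Eig r (fun _ => 1) (mM ((rep a)⁻¹ * rep b)) from h3)
        rw [← hmul, mul_inv_cancel_left] at e5
        exact Subtype.ext (ev_injective ((Eig.eq_of_unit h.pos (hrep b) e5).trans
          (funext fun k => by simp)).symm)
      refine Fintype.sum_bijective f (Finite.injective_iff_bijective.1 hf1) _ _ fun a => ?_
      rw [hsame (f a).1 _ _ (hrep (f a)) (hf a), hX']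
      rfl
    calc (U : M d) * J = (U : M d) * J * (((U⁻¹ : (M d)ˣ) : M d) * (U : M d)) := by
          rw [Units.inv_mul, mul_one]
      _ = J * (U : M d) := by rw [← mul_assoc, hconj]

end Cfsg.Agent.FRInvOps
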