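import Mathlib
import Cfsg.Agent.Lib.FRInvOps
import Cfsg.Agent.Lib.CharInducedClifford
import Cfsg.Agent.Lib.CharBasicDecomp
import Cfsg.Agent.Lib.CharInducedCorr

/-!
# Restriction across a homogeneous abelian section of odd order

`core` : with `G = K H`, `K ⊓ H = L`, `θ` invariant and homogeneous over `φ`, each character over
`θ` has a unique constituent of odd multiplicity on `H`, and this is a bijection onto the characters
over `φ`.
-/

set_option autoImplicit false
set_option linter.unusedSectionVars false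

open scoped ComplexConjugate

open Matrix (trace trace_mul_comm trace_smul trace_sum trace_one)

namespace Cfsg.Agent.FRInvCore

open Cfsg Cfsg.Agent.CharBasic Cfsg.Agent.CharBasicOrth Cfsg.Agent.CharBasicDecomp
  Cfsg.Agent.FRInvOps

universe u w

/-- A class function orthogonal to the constituents of a representation kills it. -/
theorem sum_rep_eq_zero {G : Type u} [Group G] [Fintype G] {f : G → ℂ}
    (hf : IsClassFunction G f) (n : ℕ) :
    ∀ {V : Type w} [AddCommGroup V] [Module ℂ V] [FiniteDimensional ℂ V]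
      (ρ : Representation ℂ G V),
      (∀ χ, IsIrrCharacter G χ → classInner ρ.character χ ≠ 0 → classInner f χ = 0) →
      Module.finrank ℂ V = n → (∑ x, f x • ρ x⁻¹) = 0 := by
  induction n using Nat.strong_induction_on with
  | _ n ih =>
    intro V _ _ _ ρ h hn
    rcases subsingleton_or_nontrivial V with hV | hV
    · exact Subsingleton.elim _ _
    by_cases hirr : ρ.IsIrreducible
    · obtain ⟨c, hc, htr⟩ := exists_scalar_of_commute ρ _ (smul_sum_commute hf ρ)
      have hρ : IsIrrCharacter G ρ.character := isIrrCharacter_of_rep ρ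
      have h1 : LinearMap.trace ℂ V (∑ x, f x • ρ x⁻¹) = 0 := by
        have h2 := card_mul_classInner f ρ.character
        rw [h _ hρ (by rw [classInner_irr_self hρ]; exact one_ne_zero), mul_zero] at h2
        rw [map_sum, h2]
        refine Finset.sum_congr rfl fun x _ => ?_
        rw [map_smul, smul_eq_mul, ← character_inv]
        rfl
      rw [h1] at htr
      have : c = 0 := (mul_eq_zero.1 htr.symm).resolve_left
        (Nat.cast_ne_zero.2 Module.finrank_pos.ne')
      rw [hc, this, zero_smul]
    · obtain ⟨U, U', hc, -, -, h2, h3⟩ := exists_decomposition hirr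
      have hle : ∀ (W W' : Subrepresentation ρ), IsCompl W.toSubmodule W'.toSubmodule →
          ∀ χ, IsIrrCharacter G χ → classInner W.toRepresentation.character χ ≠ 0 →
            classInner f χ = 0 := by
        intro W W' hW χ hχ hne
        refine h χ hχ ?_
        obtain ⟨a, ha⟩ := classInner_isCharacter (isCharacter_of_rep W.toRepresentation)
          (isCharacter_of_isIrrCharacter hχ)
        obtain ⟨b, hb⟩ := classInner_isCharacter (isCharacter_of_rep W'.toRepresentation)
          (isCharacter_of_isIrrCharacter hχ)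
        rw [character_of_isCompl W W' hW, classInner_add_left, ha, hb, ← Nat.cast_add,
          Nat.cast_ne_zero]
        rw [ha, Nat.cast_ne_zero] at hne
        omega
      have hz : ∀ (W W' : Subrepresentation ρ), IsCompl W.toSubmodule W'.toSubmodule →
          Module.finrank ℂ W.toSubmodule < n →
          W.toSubmodule ≤ LinearMap.ker (∑ x, f x • ρ x⁻¹) := by
        intro W W' hW hU v hv
        have h4 := congrArg (fun T => ((T ⟨v, hv⟩ : W.toSubmodule) : V))
          (ih _ hU W.toRepresentation (hle W W' hW) rfl)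
        simpa [Subrepresentation.toRepresentation] using h4
      rw [← LinearMap.ker_eq_top, eq_top_iff, ← hc.sup_eq_top]
      exact sup_le (hz U U' hc (hn ▸ h2)) (hz U' U hc.symm (hn ▸ h3))

variable {G : Type u} [Group G] [Fintype G]

/-- The setting. -/
structure Setting (K L H : Subgroup G) (θ : K → ℂ) (φ : L → ℂ) [K.Normal] : Prop where
  Lnorm : L.Normal
  LK : L ≤ K
  LH : L ≤ H
  inf : K ⊓ H = L
  prod : ∀ g : G, ∃ k ∈ K, ∃ h ∈ H, g = k * h
  comm : ∀ a ∈ K, ∀ b ∈ K, a * b * a⁻¹ * b⁻¹ ∈ L
  oddG : Odd (Nat.card G)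
  irrθ : IsIrrCharacter K θ
  irrφ : IsIrrCharacter L φ
  invθ : ∀ g : G, CharInduced.conjFun K θ g = θ
  homog : ∃ e : ℕ, ∀ l : L, θ ⟨(l : G), LK l.2⟩ = (e : ℂ) * φ l

/-- Characters of a matrix representation. -/
theorem exists_matrix_rep {χ : G → ℂ} (hχ : IsCharacter G χ) :
    ∃ (n : ℕ) (R : G →* M n), ∀ g, trace (R g) = χ g := by
  obtain ⟨n, ρ, rfl⟩ := hχ
  refine ⟨n, (LinearMap.toMatrixAlgEquiv' : ((Fin n → ℂ) →ₗ[ℂ] (Fin n → ℂ)) ≃ₐ[ℂ] _).toAlgHom.toRingHom.toMonoidHom.comp ρ,
    fun g => ?_⟩
  show trace (LinearMap.toMatrix' (ρ g)) = _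
  rw [Representation.character, LinearMap.trace_eq_matrix_trace ℂ (Pi.basisFun ℂ (Fin n)),
    LinearMap.toMatrix_eq_toMatrix']

/-- The representation on column vectors. -/
noncomputable def colRep {n : ℕ} (R : G →* M n) : Representation ℂ G (Fin n → ℂ) :=
  (Matrix.toLinAlgEquiv' : M n ≃ₐ[ℂ] _).toAlgHom.toRingHom.toMonoidHom.comp R

theorem colRep_character {n : ℕ} (R : G →* M n) (g : G) :
    (colRep R).character g = trace (R g) := by
  show LinearMap.trace ℂ (Fin n → ℂ) (Matrix.toLin' (R g)) = _
  exact Matrix.trace_toLin'_eq (R g)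

/-- The Schur relation. -/
theorem swap_of_irr {d : ℕ} (r : G →* M d) (hirr : IsIrrCharacter G fun g => trace (r g))
    (X : M d) :
    ∑ g, r g * X * r g⁻¹ = ((Nat.card G : ℂ) / d * trace X) • (1 : M d) := by
  haveI : (colRep r).IsIrreducible := isIrreducible_of_isIrrCharacter _ (by
    rw [show (colRep r).character = fun g => trace (r g) from funext (colRep_character r)]
    exact hirr)
  have hd : (d : ℂ) ≠ 0 := by
    have := isIrrCharacter_apply_one_ne_zero hirr
    simpa using this
  set Y := ∑ g, r g * X * r g⁻¹ with hY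
  have hcomm : ∀ g, Y * r g = r g * Y := by
    intro g
    rw [hY, Finset.sum_mul, Finset.mul_sum]
    refine (Fintype.sum_equiv (Equiv.mulLeft g) _ _ fun x => ?_).symm
    rw [Equiv.coe_mulLeft, mul_inv_rev, map_mul, map_mul]
    simp only [mul_assoc]
    rw [← map_mul, inv_mul_cancel, map_one, mul_one]
  obtain ⟨c, hc, -⟩ := exists_scalar_of_commute (colRep r) (Matrix.toLinAlgEquiv' Y) (fun g v => by
    show Matrix.toLinAlgEquiv' Y (Matrix.toLinAlgEquiv' (r g) v) =
      Matrix.toLinAlgEquiv' (r g) (Matrix.toLinAlgEquiv' Y v)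
    rw [← Module.End.mul_apply, ← map_mul, hcomm, map_mul]; rfl)
  have hYc : Y = c • (1 : M d) := by
    apply (Matrix.toLinAlgEquiv' : M d ≃ₐ[ℂ] _).injective
    rw [hc, map_smul, map_one]; rfl
  have ht : trace Y = (Nat.card G : ℂ) * trace X := by
    rw [hY, trace_sum, Finset.sum_congr rfl (g := fun _ => trace X) fun g _ => ?_, Finset.sum_const,
      Finset.card_univ, ← Nat.card_eq_fintype_card, nsmul_eq_mul]
    rw [trace_mul_comm, ← mul_assoc, ← map_mul, inv_mul_cancel, map_one, one_mul]
  rw [hYc, trace_smul, trace_one, Fintype.card_fin, smul_eq_mul] at ht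
  rw [hYc, eq_div_iff hd |>.2 ht, mul_div_right_comm]

/-- A character-preserving automorphism is implemented. -/
theorem exists_impl {d : ℕ} (r : G →* M d) (γ : MulAut G)
    (hγ : ∀ g, trace (r (γ g)) = trace (r g)) : ∃ U, Impl r γ U := by
  obtain ⟨e⟩ := nonempty_equiv_of_character_eq (colRep r) (colRep (r.comp γ.toMonoidHom)) (by
    funext g
    rw [colRep_character, colRep_character]
    exact (hγ g).symm)
  let E : M d := LinearMap.toMatrixAlgEquiv' (e.toLinearEquiv.toLinearMap)
  let E' : M d := LinearMap.toMatrixAlgEquiv' (e.toLinearEquiv.symm.toLinearMap)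
  have h1 : E * E' = 1 := by
    rw [← map_mul, ← map_one (LinearMap.toMatrixAlgEquiv' (R := ℂ) (n := Fin d))]
    exact congrArg _ (LinearMap.ext fun v => e.toLinearEquiv.apply_symm_apply v)
  have h2 : E' * E = 1 := by
    rw [← map_mul, ← map_one (LinearMap.toMatrixAlgEquiv' (R := ℂ) (n := Fin d))]
    exact congrArg _ (LinearMap.ext fun v => e.toLinearEquiv.symm_apply_apply v)
  refine ⟨⟨E, E', h1, h2⟩, fun g => ?_⟩
  have h3 : e.toLinearEquiv.toLinearMap * colRep r g =
      colRep (r.comp γ.toMonoidHom) g * e.toLinearEquiv.toLinearMap :=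
    LinearMap.ext fun v => e.toIntertwiningMap.isIntertwining _ _ g v
  have h4 := congrArg LinearMap.toMatrixAlgEquiv' h3
  simp only [map_mul, colRep] at h4
  simpa [E] using h4

/-- A functional vanishing on commutators is a multiple of the trace. -/
theorem eq_mul_trace {d : ℕ} (τ : M d →ₗ[ℂ] ℂ) (h : ∀ a b, τ (a * b) = τ (b * a)) (X : M d) :
    τ X = τ 1 / d * trace X := by
  rcases Nat.eq_zero_or_pos d with rfl | hd
  · rw [Subsingleton.elim X 0, map_zero, Matrix.trace_zero, mul_zero]
  let i₀ : Fin d := ⟨0, hd⟩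
  have hoff : ∀ i j, i ≠ j → τ (Matrix.single i j 1) = 0 := fun i j hij => by
    have e := h (Matrix.single i i (1 : ℂ)) (Matrix.single i j (1 : ℂ))
    rw [Matrix.single_mul_single_same, Matrix.single_mul_single_of_ne (h := hij.symm), map_zero,
      one_mul] at e
    exact e
  have hdiag : ∀ i, τ (Matrix.single i i 1) = τ (Matrix.single i₀ i₀ 1) := fun i => by
    have e := h (Matrix.single i i₀ (1 : ℂ)) (Matrix.single i₀ i (1 : ℂ))
    rwa [Matrix.single_mul_single_same, Matrix.single_mul_single_same, one_mul] at e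
  have hX : ∀ Y : M d, τ Y = τ (Matrix.single i₀ i₀ 1) * trace Y := by
    intro Y
    conv_lhs => rw [Matrix.matrix_eq_sum_single Y]
    simp only [map_sum]
    rw [Matrix.trace, Finset.mul_sum]
    refine Finset.sum_congr rfl fun i _ => ?_
    rw [Finset.sum_eq_single i]
    · rw [← mul_one (Y i i), ← smul_eq_mul (Y i i) 1, ← Matrix.smul_single, map_smul, hdiag,
        smul_eq_mul, mul_comm]
      rfl
    · intro j _ hj
      rw [← mul_one (Y i j), ← smul_eq_mul (Y i j) 1, ← Matrix.smul_single, map_smul,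
        hoff i j (Ne.symm hj), smul_zero]
    · exact fun hh => absurd (Finset.mem_univ _) hh
  have h1 := hX 1
  rw [trace_one, Fintype.card_fin] at h1
  rw [hX X, h1, mul_div_cancel_right₀ _ (Nat.cast_ne_zero.2 hd.ne')]

/-- A commuting involution splits a character into two. -/
theorem exists_split {n : ℕ} (R : G →* M n) (T : M n) (hT : T * T = 1)
    (hc : ∀ g, R g * T = T * R g) :
    ∃ a b : G → ℂ, IsCharacter G a ∧ IsCharacter G b ∧
      ∀ g, trace (R g) = a g + b g ∧ trace (T * R g) = a g - b g := by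
  let ρ := colRep R
  let t : Module.End ℂ (Fin n → ℂ) := Matrix.toLinAlgEquiv' T
  have htt : ∀ v, t (t v) = v := fun v => by
    rw [← Module.End.mul_apply, ← map_mul, hT, map_one]; rfl
  have htc : ∀ g v, t (ρ g v) = ρ g (t v) := fun g v => by
    show (t * Matrix.toLinAlgEquiv' (R g)) v = (Matrix.toLinAlgEquiv' (R g) * t) v
    rw [← map_mul, ← map_mul, hc]
  let Up : Subrepresentation ρ := ⟨LinearMap.ker (t - 1), fun g v hv => by
    simp only [LinearMap.mem_ker, LinearMap.sub_apply, Module.End.one_apply, sub_eq_zero] at hv ⊢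
    rw [htc, hv]⟩
  let Um : Subrepresentation ρ := ⟨LinearMap.ker (t + 1), fun g v hv => by
    simp only [LinearMap.mem_ker, LinearMap.add_apply, Module.End.one_apply] at hv ⊢
    rw [htc, ← map_add, hv, map_zero]⟩
  have hcompl : IsCompl Up.toSubmodule Um.toSubmodule := by
    refine ⟨Submodule.disjoint_def.2 fun v hp hm => ?_, codisjoint_iff.2 (eq_top_iff.2 fun v _ => ?_)⟩
    · simp only [Up, Um, LinearMap.mem_ker, LinearMap.sub_apply, LinearMap.add_apply,
        Module.End.one_apply, sub_eq_zero] at hp hm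
      rw [hp, ← two_smul ℂ] at hm
      exact (smul_eq_zero.1 hm).resolve_left two_ne_zero
    · rw [Submodule.mem_sup]
      refine ⟨(2 : ℂ)⁻¹ • (v + t v), ?_, (2 : ℂ)⁻¹ • (v - t v), ?_, ?_⟩
      · simp only [Up, LinearMap.mem_ker, LinearMap.sub_apply, Module.End.one_apply, map_smul,
          map_add, htt]
        rw [smul_eq_zero]; right; abel
      · simp only [Um, LinearMap.mem_ker, LinearMap.add_apply, Module.End.one_apply, map_smul,
          map_sub, htt, ← smul_add]
        rw [smul_eq_zero]; right; abel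
      · rw [← smul_add, show v + t v + (v - t v) = (2 : ℂ) • v by rw [two_smul]; abel,
          inv_smul_smul₀ two_ne_zero]
  refine ⟨Up.toRepresentation.character, Um.toRepresentation.character, isCharacter_of_rep _,
    isCharacter_of_rep _, fun g => ⟨?_, ?_⟩⟩
  · rw [← colRep_character, character_of_isCompl Up Um hcompl, Pi.add_apply]
  · let E := Submodule.prodEquivOfIsCompl _ _ hcompl
    have h1 : t * ρ g = E.conj ((Up.toRepresentation g).prodMap (-(Um.toRepresentation g))) := by
      refine LinearMap.ext fun v => ?_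
      obtain ⟨⟨a, b⟩, rfl⟩ := E.surjective v
      rw [LinearEquiv.conj_apply, LinearMap.comp_apply, LinearMap.comp_apply,
        LinearEquiv.coe_coe, LinearEquiv.coe_coe, LinearEquiv.symm_apply_apply]
      show t (ρ g ((a : Fin n → ℂ) + (b : Fin n → ℂ))) =
        ((Up.toRepresentation g a : Fin n → ℂ) + ((-(Um.toRepresentation g)) b : Fin n → ℂ))
      rw [map_add, map_add, htc, htc]
      have ha : t (a : Fin n → ℂ) = a := by
        have := a.2
        simp only [Up, LinearMap.mem_ker, LinearMap.sub_apply, Module.End.one_apply] at this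
        exact sub_eq_zero.1 this
      have hb : t (b : Fin n → ℂ) = -(b : Fin n → ℂ) := by
        have := b.2
        simp only [Um, LinearMap.mem_ker, LinearMap.add_apply, Module.End.one_apply] at this
        exact eq_neg_of_add_eq_zero_left this
      rw [ha, hb, map_neg]
      rfl
    have h2 : trace (T * R g) = LinearMap.trace ℂ (Fin n → ℂ) (t * ρ g) := by
      rw [show t * ρ g = Matrix.toLin' (T * R g) from (map_mul _ _ _).symm]
      exact (Matrix.trace_toLin'_eq _).symm
    rw [h2, h1, LinearMap.trace_conj', LinearMap.trace_prodMap', sub_eq_add_neg]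
    congr 1
    exact map_neg (LinearMap.trace ℂ Um.toSubmodule) _

variable {K L H : Subgroup G} [hKn : K.Normal] [Fintype K] [Fintype L] [Fintype H]
  {θ : K → ℂ} {φ : L → ℂ}

/-- Double counting over the factorisation. -/
theorem Setting.sum_factor (st : Setting K L H θ φ) (F : G → ℂ) :
    ∑ h : H, ∑ k : K, F (k * h) = (Nat.card L : ℂ) * ∑ g : G, F g := by
  classical
  rw [Finset.sum_comm, ← Fintype.sum_prod_type', Finset.mul_sum,
    ← Finset.sum_fiberwise Finset.univ (fun x : K × H => (x.1 : G) * x.2)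
      (fun x : K × H => F (x.1 * x.2))]
  refine Finset.sum_congr rfl fun g _ => ?_
  rw [Finset.sum_congr rfl (g := fun _ => F g) fun x hx => by rw [(Finset.mem_filter.1 hx).2],
    Finset.sum_const, nsmul_eq_mul]
  congr 1
  rw [← Fintype.card_subtype, ← Nat.card_eq_fintype_card, Nat.cast_inj]
  obtain ⟨k0, hk0, h0, hh0, rfl⟩ := st.prod g
  refine (Nat.card_congr (Equiv.ofBijective (fun l : L =>
    (⟨(⟨k0 * (l : G)⁻¹, K.mul_mem hk0 (K.inv_mem (st.LK l.2))⟩,
      ⟨(l : G) * h0, H.mul_mem (st.LH l.2) hh0⟩), by simp [mul_assoc]⟩ :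
      {x : K × H // (x.1 : G) * x.2 = k0 * h0})) ⟨fun a b e => ?_, ?_⟩)).symm
  · have e' := congrArg (fun x : {x : K × H // (x.1 : G) * x.2 = k0 * h0} => (x.1.2 : G)) e
    exact Subtype.ext (mul_right_cancel e')
  · rintro ⟨⟨k, h⟩, e⟩
    have hl : (h : G) * h0⁻¹ ∈ L := by
      rw [← st.inf]
      refine ⟨?_, H.mul_mem h.2 (H.inv_mem hh0)⟩
      have : (h : G) * h0⁻¹ = (k : G)⁻¹ * k0 := by
        rw [eq_inv_mul_iff_mul_eq, ← mul_assoc, e, mul_inv_cancel_right]
      rw [this]
      exact K.mul_mem (K.inv_mem k.2) hk0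
    refine ⟨⟨_, hl⟩, Subtype.ext (Prod.ext (Subtype.ext ?_) (Subtype.ext ?_))⟩
    · show k0 * ((h : G) * h0⁻¹)⁻¹ = k
      rw [mul_inv_rev, inv_inv, ← mul_assoc, ← e, mul_inv_cancel_right]
    · show (h : G) * h0⁻¹ * h0 = h
      rw [inv_mul_cancel_right]

omit [Fintype K] in
theorem Setting.sum_sub (st : Setting K L H θ φ) (F : G → ℂ) :
    ∑ h : H, ∑ l : L, F (l * h) = (Nat.card L : ℂ) * ∑ h : H, F h := by
  rw [Finset.sum_comm, Finset.sum_congr rfl (g := fun _ => ∑ h : H, F h) fun l _ => ?_,
    Finset.sum_const, Finset.card_univ, ← Nat.card_eq_fintype_card, nsmul_eq_mul]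
  exact Fintype.sum_equiv (Equiv.mulLeft (⟨(l : G), st.LH l.2⟩ : H)) _ _ fun h => rfl

set_option maxHeartbeats 3000000 in
/-- The correspondence for a homogeneous section. -/
theorem core (st : Setting K L H θ φ) {S : Type*} [Group S] [Finite S] (σ : S →* MulAut K)
    (hSL : ∀ s, ∀ k : K, (k : G) ∈ L → ((σ s k : K) : G) ∈ L)
    (hSθ : ∀ s k, θ (σ s k) = θ k)
    (hfix : ∀ lam : K →* ℂˣ, (∀ k : K, (k : G) ∈ L → lam k = 1) →
      (∀ s k, lam (σ s k) = lam k) → lam = 1)
    (hcop : (L.relIndex K).Coprime (Nat.card S))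
    (hCS : ∀ h ∈ H, ∃ l ∈ L, ∃ c ∈ H, h = l * c ∧
      ∀ s (k k' : K), (k' : G) = c * k * c⁻¹ → ((σ s k' : K) : G) = c * (σ s k : K) * c⁻¹) :
    ∃ Ψ : {χ : IrrCharacter G // classInner (fun n : K => (χ : G → ℂ) n) θ ≠ 0} →
        {ξ : IrrCharacter H //
          classInner (fun n : L => (ξ : H → ℂ) ⟨(n : G), st.LH n.2⟩) φ ≠ 0},
      Function.Bijective Ψ ∧ ∀ χ (η : IrrCharacter H) (m : ℕ),
        classInner (fun h : H => (χ.1 : G → ℂ) h) (η : H → ℂ) = m → (Odd m ↔ η = (Ψ χ).1) := by
  classical
  haveI : L.Normal := st.Lnorm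
  let L' := L.subgroupOf K
  haveI : L'.Normal := st.Lnorm.subgroupOf K
  haveI := Fintype.ofFinite L'
  obtain ⟨d, r, hr⟩ := exists_matrix_rep (isCharacter_of_isIrrCharacter st.irrθ)
  have hirr : IsIrrCharacter K fun k => trace (r k) := by
    rw [show (fun k => trace (r k)) = θ from funext hr]; exact st.irrθ
  have hd : (d : ℂ) ≠ 0 := by
    have e := hr 1
    rw [map_one, trace_one, Fintype.card_fin] at e
    rw [e]; exact isIrrCharacter_apply_one_ne_zero st.irrθ
  obtain ⟨e, he⟩ := st.homog
  have he0 : (e : ℂ) ≠ 0 := fun e0 => by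
    have h1 := he 1
    rw [e0, zero_mul] at h1
    exact isIrrCharacter_apply_one_ne_zero st.irrθ h1
  let eL := Subgroup.subgroupOfEquivOfLe st.LK
  let φ' : L' → ℂ := φ ∘ eL
  have hφ' : IsIrrCharacter L' φ' := isIrrCharacter_comap eL.toMonoidHom eL.surjective st.irrφ
  have hrL : ∀ l : L', trace (r l) = (e : ℂ) * φ' l := fun l => (hr l).trans (he (eL l))
  -- the hypotheses on operators
  have hyp : FRInvOps.Hyp r L' := by
    refine ⟨Nat.pos_of_ne_zero fun h0 => hd (by rw [h0, Nat.cast_zero]), swap_of_irr r hirr,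
      fun a b => st.comm a a.2 b b.2, ?_, fun g hg l hl => ?_⟩
    · exact st.oddG.of_dvd_nat (((Subgroup.relIndex_dvd_card L K).trans
        (Subgroup.card_subgroup_dvd_card K)))
    · let f : L' → ℂ := fun x => trace (g * r x)
      have hfcf : IsClassFunction L' f := fun x y => by
        show trace (g * r ((y * x * y⁻¹ : L') : K)) = trace (g * r x)
        simp only [Subgroup.coe_mul, Subgroup.coe_inv, map_mul]
        rw [← mul_assoc, ← mul_assoc, ← hg _ y.2, trace_mul_comm]
        simp only [← mul_assoc]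
        rw [← map_mul, inv_mul_cancel, map_one, one_mul]
      have hzero : ∀ ψ : IrrCharacter L', (ψ : L' → ℂ) ≠ φ' → classInner f (ψ : L' → ℂ) = 0 := by
        intro ψ hne
        have hz := sum_rep_eq_zero (CharInduced.isClassFunction_irr ψ.2) _
          (colRep (r.comp L'.subtype)) (fun χ hχ hc => by
            have hchar : (colRep (r.comp L'.subtype)).character = (e : ℂ) • φ' := by
              funext x; rw [colRep_character]; exact hrL x
            rw [hchar, classInner_smul_left] at hc
            have hχφ : φ' = χ := by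
              by_contra h'
              exact hc (by rw [classInner_irr_ne hφ' hχ h', mul_zero])
            subst hχφ
            exact classInner_irr_ne ψ.2 hφ' hne) rfl
        have hz' : ∑ x : L', (ψ : L' → ℂ) x • r (x : K)⁻¹ = 0 := by
          apply (Matrix.toLinAlgEquiv' : M d ≃ₐ[ℂ] _).injective
          rw [map_sum, map_zero, ← hz]
          refine Finset.sum_congr rfl fun x _ => ?_
          rw [map_smul]; rfl
        have e1 : ∑ x : L', (ψ : L' → ℂ) x * f x⁻¹ = 0 := by
          have := congrArg (fun Y => trace (g * Y)) hz'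
          simpa [Finset.mul_sum, trace_sum, trace_smul, f] using this
        rw [classInner]
        refine mul_eq_zero_of_right _ ?_
        rw [← e1]
        refine Fintype.sum_equiv (Equiv.inv L') _ _ fun x => ?_
        rw [Equiv.inv_apply, inv_inv, ← isCharacter_inv (isCharacter_of_isIrrCharacter ψ.2),
          mul_comm]
      have hf : f = classInner f φ' • φ' := by
        refine (eq_sum_classInner hfcf).trans ?_
        rw [Finset.sum_eq_single (⟨φ', hφ'⟩ : IrrCharacter L')]
        · intro ψ _ hne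
          rw [hzero ψ fun h' => hne (Subtype.ext h'), zero_smul]
        · exact fun hh => absurd (Finset.mem_univ _) hh
      have h1 := congrFun hf 1
      have h2 := congrFun hf ⟨l, hl⟩
      have hφ1 : φ' 1 ≠ 0 := isIrrCharacter_apply_one_ne_zero hφ'
      have hd1 : (d : ℂ) = (e : ℂ) * φ' 1 := by
        rw [← hrL 1, OneMemClass.coe_one, map_one, trace_one, Fintype.card_fin]
      simp only [f, Pi.smul_apply, smul_eq_mul, OneMemClass.coe_one, map_one, mul_one] at h1 h2
      rw [h2, h1, hrL ⟨l, hl⟩, hd1]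
      field_simp
  -- the action
  have hex : ∀ γ : MulAut K, (∀ k, θ (γ k) = θ k) → ∃ U, Impl r γ U := fun γ hγ =>
    exists_impl r γ fun k => by rw [hr, hr, hγ]
  obtain ⟨J, hJ2, hJL, hJt, hJinv, hJU⟩ := FRInvOps.exists_inversion hyp σ
    (fun s l hl => hSL s l hl) (fun s => hex _ (hSθ s))
    (fun lam hlam => by
      have e1 := hfix (lam.comp (QuotientGroup.mk' L')) (fun k hk => by
        show lam (k : K ⧸ L') = 1
        rw [(QuotientGroup.eq_one_iff k).2 hk, map_one]) hlam
      refine MonoidHom.ext fun q => ?_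
      obtain ⟨k, rfl⟩ := QuotientGroup.mk_surjective q
      exact DFunLike.congr_fun e1 k)
    hcop
  let cj : G → MulAut K := fun g => MulAut.conjNormal g
  have hcjv : ∀ g (k : K), ((cj g k : K) : G) = g * k * g⁻¹ := fun g k =>
    MulAut.conjNormal_apply g k
  have hcjθ : ∀ g k, θ (cj g k) = θ k := fun g k => by
    refine Eq.trans (congrArg θ (Subtype.ext (hcjv g k))) (congrFun (st.invθ g) k)
  have hH : ∀ h : H, ∃ U : (M d)ˣ, Impl r (cj h) U ∧ (U : M d) * J = J * (U : M d) := by
    intro h
    obtain ⟨l, hl, c, hcH, hlc, hc⟩ := hCS h h.2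
    obtain ⟨U, hU⟩ := hex (cj c) (hcjθ c)
    have hUJ : (U : M d) * J = J * (U : M d) := hJU (cj c) U hU
      (fun x hx => by
        show (((cj c)⁻¹ x : K) : G) ∈ L
        rw [← map_inv (MulAut.conjNormal : G →* MulAut K), hcjv]
        exact st.Lnorm.conj_mem _ hx _)
      (fun s k => Subtype.ext (by rw [hc s k (cj c k) (hcjv c k), hcjv]))
    let lK : K := ⟨l, st.LK hl⟩
    let Ul : (M d)ˣ := ⟨r lK, r lK⁻¹, FRInvOps.rr_inv lK, FRInvOps.r_inv_r lK⟩
    refine ⟨Ul * U, fun k => ?_, ?_⟩
    · have e1 : cj (h : G) k = lK * cj c k * lK⁻¹ := Subtype.ext (by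
        rw [hcjv, hlc]
        simp [hcjv, lK, mul_assoc])
      rw [Units.val_mul, e1, map_mul, map_mul, mul_assoc, hU k]
      show r lK * (r (cj c k) * (U : M d)) = r lK * r (cj c k) * r lK⁻¹ * (r lK * (U : M d))
      simp only [mul_assoc]
      rw [← mul_assoc (r lK⁻¹), FRInvOps.r_inv_r, one_mul]
    · rw [Units.val_mul, mul_assoc, hUJ, ← mul_assoc, ← mul_assoc]
      congr 1
      exact hJL lK hl
  choose U hU hUJ using hH
  -- the representations
  have hrep : ∀ χ : {χ : IrrCharacter G // classInner (fun n : K => (χ : G → ℂ) n) θ ≠ 0},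
      ∃ (n : ℕ) (R : G →* M n) (π : M d →ₗ[ℂ] M n), (∀ g, trace (R g) = (χ.1 : G → ℂ) g) ∧
        (∀ X, π X = ((d : ℂ) / Nat.card K) • ∑ k : K, trace (X * r k⁻¹) • R k) ∧
        (∀ k : K, π (r k) = R k) ∧ (∀ X Y, π (X * Y) = π X * π Y) ∧
        (∀ (g : G) (V : (M d)ˣ), Impl r (cj g) V →
          ∃ c : ℂ, ∀ X, trace (π X * R g) = c * trace (X * (V : M d))) ∧
        (∀ (g : G) (V : (M d)ˣ), Impl r (cj g) V → ∀ X,
          R g * π X = π ((V : M d) * X * ((V⁻¹ : (M d)ˣ) : M d)) * R g) := by
    intro χ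
    obtain ⟨n, R, hR⟩ := exists_matrix_rep (isCharacter_of_isIrrCharacter χ.1.2)
    let π : M d →ₗ[ℂ] M n :=
      { toFun := fun X => ((d : ℂ) / Nat.card K) • ∑ k : K, trace (X * r k⁻¹) • R k
        map_add' := fun X Y => by
          simp only [add_mul, Matrix.trace_add, add_smul, Finset.sum_add_distrib, smul_add]
        map_smul' := fun z X => by
          simp only [smul_mul_assoc, trace_smul, smul_eq_mul, mul_smul, ← Finset.smul_sum,
            RingHom.id_apply]
          rw [smul_comm] }
    have hπ : ∀ X, π X = ((d : ℂ) / Nat.card K) • ∑ k : K, trace (X * r k⁻¹) • R k := fun X => rfl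
    have hθd : θ 1 = (d : ℂ) := by rw [← hr 1, map_one, trace_one, Fintype.card_fin]
    -- the central element
    have hz : ∑ k : K, θ k • R (k : G)⁻¹ = ((Nat.card K : ℂ) / d) • (1 : M n) := by
      let f : K → ℂ := fun k => θ k - if k = 1 then (Nat.card K : ℂ) / d else 0
      have hfcf : IsClassFunction K f := fun x y => by
        show θ _ - _ = θ _ - _
        rw [CharInduced.isClassFunction_irr st.irrθ x y]
        simp only [conj_eq_one_iff]
      have hz0 := sum_rep_eq_zero hfcf _ (colRep (R.comp K.subtype)) (fun ψ hψ hc => by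
        have hchar : (colRep (R.comp K.subtype)).character = fun k : K => (χ.1 : G → ℂ) k := by
          funext x; rw [colRep_character]; exact hR x
        rw [hchar] at hc
        obtain ⟨g, hg⟩ := (CharInduced.mem_orbitFin K).1
          (CharInduced.mem_orbit_of_constituents K χ.1.2 st.irrθ hψ χ.2 hc)
        rw [st.invθ g] at hg
        subst hg
        have e1 := classInner_irr_self st.irrθ
        rw [classInner] at e1 ⊢
        simp only [f, sub_mul, Finset.sum_sub_distrib, mul_sub, e1, ite_mul, zero_mul,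
          Finset.sum_ite_eq', Finset.mem_univ, if_true]
        rw [hθd, Complex.conj_natCast]
        field_simp [hd]
        simp) rfl
      have hz1 : ∑ k : K, f k • R (k : G)⁻¹ = 0 := by
        apply (Matrix.toLinAlgEquiv' : M n ≃ₐ[ℂ] _).injective
        rw [map_sum, map_zero, ← hz0]
        refine Finset.sum_congr rfl fun x _ => ?_
        rw [map_smul]; rfl
      simp only [f, sub_smul, Finset.sum_sub_distrib, ite_smul, zero_smul, Finset.sum_ite_eq',
        Finset.mem_univ, if_true, OneMemClass.coe_one, inv_one, map_one] at hz1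
      exact sub_eq_zero.1 hz1
    have hπr : ∀ k : K, π (r k) = R k := by
      intro y
      rw [hπ]
      have e1 : ∑ k : K, trace (r y * r k⁻¹) • R k = R y * ∑ k : K, θ k • R (k : G)⁻¹ := by
        rw [Finset.mul_sum]
        refine Fintype.sum_equiv ((Equiv.inv K).trans (Equiv.mulRight y)) _ _ fun k => ?_
        rw [trace_mul_comm]
        simp only [Equiv.trans_apply, Equiv.inv_apply, Equiv.coe_mulRight, ← map_mul, hr,
          mul_smul_comm]
        congr 2
        simp
      rw [e1, hz, mul_smul_comm, mul_one, smul_smul]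
      have : (d : ℂ) / Nat.card K * ((Nat.card K : ℂ) / d) = 1 := by field_simp [hd, hyp.cKC]
      rw [this, one_smul]
    have hπmul : ∀ X Y, π (X * Y) = π X * π Y := by
      intro X Y
      conv_lhs => rw [hyp.fourier X, hyp.fourier Y]
      conv_rhs => rw [hyp.fourier X, hyp.fourier Y]
      simp only [smul_mul_assoc, mul_smul_comm, Finset.mul_sum, Finset.sum_mul, map_smul, map_sum,
        ← map_mul r, hπr, Subgroup.coe_mul, map_mul R]
    have hconj : ∀ (g : G) (V : (M d)ˣ), Impl r (cj g) V → ∀ X,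
        R g * π X = π ((V : M d) * X * ((V⁻¹ : (M d)ˣ) : M d)) * R g := by
      intro g V hV X
      conv_lhs => rw [hyp.fourier X]
      conv_rhs => rw [hyp.fourier X]
      simp only [smul_mul_assoc, mul_smul_comm, Finset.mul_sum, Finset.sum_mul, map_smul, map_sum,
        hπr]
      refine congrArg _ (Finset.sum_congr rfl fun k _ => ?_)
      rw [hV k, mul_assoc (r (cj g k)), Units.mul_inv, mul_one, hπr, hcjv, map_mul, map_mul,
        mul_assoc _ (R g⁻¹), ← map_mul R g⁻¹, inv_mul_cancel, map_one, mul_one]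
    refine ⟨n, R, π, hR, hπ, hπr, hπmul, fun g V hV => ?_, hconj⟩
    let τ : M d →ₗ[ℂ] ℂ :=
      { toFun := fun X => trace (π (X * ((V⁻¹ : (M d)ˣ) : M d)) * R g)
        map_add' := fun X Y => by simp only [add_mul, map_add, Matrix.trace_add]
        map_smul' := fun z X => by
          simp only [smul_mul_assoc, map_smul, trace_smul, RingHom.id_apply] }
    have htr : ∀ a b, τ (a * b) = τ (b * a) := fun a b => by
      show trace (π (a * b * _) * R g) = trace (π (b * a * _) * R g)
      rw [mul_assoc a b, hπmul, mul_assoc (π a), trace_mul_comm, mul_assoc, hconj g V hV,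
        ← mul_assoc, ← hπmul]
      congr 2
      simp only [mul_assoc, Units.inv_mul_cancel_left]
    refine ⟨τ 1 / d, fun X => ?_⟩
    rw [← eq_mul_trace τ htr]
    show _ = trace (π (X * (V : M d) * _) * R g)
    rw [mul_assoc X, Units.mul_inv, mul_one]
  choose n R π hR hπ hπr hπmul hτ hconj using hrep
  let Δ : {χ : IrrCharacter G // classInner (fun n : K => (χ : G → ℂ) n) θ ≠ 0} → H → ℂ :=
    fun χ h => trace (π χ J * R χ (h : G))
  have hπ1 : ∀ χ, π χ 1 = 1 := fun χ => by
    have := hπr χ 1
    simpa using this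
  have hsplit : ∀ χ, ∃ a b : H → ℂ, IsCharacter H a ∧ IsCharacter H b ∧
      ∀ h : H, (χ.1 : G → ℂ) h = a h + b h ∧ Δ χ h = a h - b h := by
    intro χ
    obtain ⟨a, b, ha, hb, hab⟩ := exists_split ((R χ).comp H.subtype) (π χ J)
      (by rw [← hπmul, hJ2, hπ1]) (fun h => by
        show R χ (h : G) * π χ J = π χ J * R χ (h : G)
        rw [hconj χ _ _ (hU h), hUJ, mul_assoc J, Units.mul_inv, mul_one])
    exact ⟨a, b, ha, hb, fun h => ⟨(hR χ _).symm.trans (hab h).1, (hab h).2⟩⟩
  choose ca cb hca hcb hab using hsplit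
  have hΔinv : ∀ χ (h : H), conj (Δ χ h) = Δ χ h⁻¹ := fun χ h => by
    rw [(hab χ h).2, (hab χ h⁻¹).2, map_sub, isCharacter_inv (hca χ), isCharacter_inv (hcb χ)]
  -- orthogonality
  have horth : ∀ χ χ' : {χ : IrrCharacter G // classInner (fun n : K => (χ : G → ℂ) n) θ ≠ 0},
      classInner (Δ χ) (Δ χ') = if χ = χ' then 1 else 0 := by
    intro χ χ'
    choose c hc using fun h : H => hτ χ (h : G) (U h) (hU h)
    have hU' : ∀ h : H, Impl r (cj ((h : G)⁻¹)) (U h)⁻¹ := fun h k => by
      rw [Units.inv_mul_eq_iff_eq_mul, ← mul_assoc, hU h, mul_assoc, Units.mul_inv, mul_one]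
      exact congrArg r (Subtype.ext (by rw [hcjv, hcjv]; group))
    choose c' hc' using fun h : H => hτ χ' ((h : G)⁻¹) (U h)⁻¹ (hU' h)
    -- over `L`
    have h1 : ∀ h : H, ∑ l : L, (fun g : G => if hg : g ∈ H then Δ χ ⟨g, hg⟩ * Δ χ' ⟨g, hg⟩⁻¹
        else 0) ((l : G) * h) = c h * c' h * Nat.card L := by
      intro h
      have hcard : Nat.card L' = Nat.card L := Nat.card_congr eL.toEquiv
      rw [← hcard, ← hyp.sum_sub_eq_card (Y := J * (U h : M d))
        (Z := J * (((U h)⁻¹ : (M d)ˣ) : M d)) (by
          rw [← mul_assoc, mul_assoc J, hUJ, ← mul_assoc, hJ2, one_mul, Units.mul_inv, trace_one,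
            Fintype.card_fin]) (fun lam hlam X hX => by
          have e1 := FRInvOps.Eig.conj (hU h) hX
          have hLγ : ∀ x ∈ L', (cj (h : G))⁻¹ x ∈ L' := fun x hx => by
            show (((cj (h : G))⁻¹ x : K) : G) ∈ L
            rw [← map_inv (MulAut.conjNormal : G →* MulAut K), hcjv]
            exact st.Lnorm.conj_mem _ hx _
          let mu : D L' := lam.comp (QuotientGroup.map L' L' ((cj (h : G))⁻¹).toMonoidHom hLγ)
          have e2 : Eig r (ev mu) ((U h : M d) * X * (((U h)⁻¹ : (M d)ˣ) : M d)) := by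
            convert e1 using 1
            funext k; rfl
          refine ⟨mu⁻¹, fun heq => hlam ?_, ?_⟩
          · refine MonoidHom.ext fun q => ?_
            obtain ⟨k, rfl⟩ := QuotientGroup.mk_surjective q
            have hstep : ∀ (y : K), lam (((MulAut.conjNormal : G →* MulAut K) ((h : G)⁻¹) y : K) : K ⧸ L') =
                (lam (y : K ⧸ L'))⁻¹ := fun y => by
              have := DFunLike.congr_fun heq (y : K ⧸ L')
              rw [← this, MonoidHom.inv_apply, inv_inv]
              show _ = lam (((cj (h : G))⁻¹ y : K) : K ⧸ L')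
              rw [← map_inv (MulAut.conjNormal : G →* MulAut K)]
            have hiter : ∀ (j : ℕ) (y : K), lam (((MulAut.conjNormal : G →* MulAut K) (((h : G)⁻¹) ^ j) y : K) : K ⧸ L') =
                (lam (y : K ⧸ L')) ^ ((-1 : ℤ) ^ j) := by
              intro j
              induction j with
              | zero => intro y; simp
              | succ j ih =>
                intro y
                rw [pow_succ, map_mul, MulAut.mul_apply, ih, hstep, inv_zpow, ← zpow_neg, pow_succ,
                  mul_neg_one]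
            have h2 := hiter (orderOf (h : G)⁻¹) k
            rw [pow_orderOf_eq_one, map_one, (st.oddG.of_dvd_nat (orderOf_dvd_natCard _)).neg_one_pow,
              zpow_neg_one] at h2
            have h3 : lam (k : K ⧸ L') ^ 2 = 1 := by
              rw [pow_two]
              exact mul_eq_one_iff_eq_inv.2 h2
            have h4 : lam (k : K ⧸ L') ^ L'.index = 1 := by
              rw [← map_pow, Subgroup.index_eq_card, pow_card_eq_one', map_one]
            have h5 := pow_gcd_eq_one.2 ⟨h3, h4⟩
            rw [Nat.coprime_iff_gcd_eq_one.1 (Nat.coprime_two_left.2 hyp.odd), pow_one] at h5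
            rw [h5]; rfl
          · have e3 := hJinv mu _ e2
            convert e3 using 1
            rw [show J * (U h : M d) * X * (J * (((U h)⁻¹ : (M d)ˣ) : M d)) =
              J * ((U h : M d) * X * (((U h)⁻¹ : (M d)ˣ) : M d)) *
                ((U h : M d) * J * (((U h)⁻¹ : (M d)ˣ) : M d)) by
              simp only [mul_assoc, Units.inv_mul_cancel_left], hUJ, mul_assoc J (U h : M d),
              Units.mul_inv, mul_one]),
        Finset.mul_sum]
      refine Fintype.sum_equiv eL.symm.toEquiv _ _ fun l => ?_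
      have hlh : (l : G) * h ∈ H := H.mul_mem (st.LH l.2) h.2
      simp only [dif_pos hlh]
      let lK : K := ⟨(l : G), st.LK l.2⟩
      have e1 : Δ χ ⟨(l : G) * h, hlh⟩ = c h * trace (r lK * (J * (U h : M d))) := by
        show trace (π χ J * R χ ((l : G) * h)) = _
        rw [map_mul, ← mul_assoc, show R χ (l : G) = π χ (r lK) from (hπr χ lK).symm, ← hπmul,
          hc, ← hJL lK l.2, mul_assoc]
      have e2 : Δ χ' ⟨(l : G) * h, hlh⟩⁻¹ =
          c' h * trace (J * (((U h)⁻¹ : (M d)ˣ) : M d) * r lK⁻¹) := by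
        show trace (π χ' J * R χ' ((l : G) * h)⁻¹) = _
        rw [mul_inv_rev, map_mul, ← mul_assoc, trace_mul_comm,
          show R χ' (l : G)⁻¹ = π χ' (r lK⁻¹) from (hπr χ' lK⁻¹).symm, ← mul_assoc, ← hπmul,
          hc', trace_mul_comm (r lK⁻¹ * J), ← mul_assoc, trace_mul_comm, mul_assoc J]
      rw [e1, e2]
      show _ = c h * c' h * (trace (r lK * _) * trace (_ * r lK⁻¹))
      ring
    -- over `K`
    have h2 : ∀ h : H, ∑ k : K, (χ.1 : G → ℂ) ((k : G) * h) * (χ'.1 : G → ℂ) ((k : G) * h)⁻¹ =
        c h * c' h * Nat.card K := by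
      intro h
      rw [← hyp.sum_eq_card (Y := (U h : M d)) (Z := (((U h)⁻¹ : (M d)ˣ) : M d))
        (by rw [Units.mul_inv, trace_one, Fintype.card_fin]), Finset.mul_sum]
      refine Finset.sum_congr rfl fun k _ => ?_
      rw [← hR, ← hR, map_mul, ← hπr χ k, hc, mul_inv_rev, map_mul,
        show R χ' (k : G)⁻¹ = π χ' (r k⁻¹) from (hπr χ' k⁻¹).symm, trace_mul_comm (R χ' _), hc',
        trace_mul_comm (r k⁻¹)]
      ring
    let F : G → ℂ := fun g => if hg : g ∈ H then Δ χ ⟨g, hg⟩ * Δ χ' ⟨g, hg⟩⁻¹ else 0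
    have e1 := st.sum_sub F
    rw [Finset.sum_congr rfl fun h _ => h1 h] at e1
    have hF : ∀ h : H, F h = Δ χ h * conj (Δ χ' h) := fun h => by
      simp only [F, dif_pos h.2, hΔinv]
    rw [Finset.sum_congr rfl fun h _ => hF h] at e1
    have e2 := st.sum_factor fun g => (χ.1 : G → ℂ) g * (χ'.1 : G → ℂ) g⁻¹
    rw [Finset.sum_congr rfl fun h _ => h2 h] at e2
    have e4 : ∑ g : G, (χ.1 : G → ℂ) g * (χ'.1 : G → ℂ) g⁻¹ =
        if χ = χ' then (Nat.card G : ℂ) else 0 := by
      have e := card_mul_classInner (χ.1 : G → ℂ) (χ'.1 : G → ℂ)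
      simp only [isCharacter_inv (isCharacter_of_isIrrCharacter χ'.1.2)]
      rw [← e]
      split_ifs with hh
      · subst hh; rw [classInner_irr_self χ.1.2, mul_one]
      · rw [classInner_irr_ne χ.1.2 χ'.1.2 fun e' => hh (Subtype.ext (Subtype.ext e')), mul_zero]
    rw [e4] at e2
    have e3 := st.sum_factor fun _ => (1 : ℂ)
    simp only [Finset.sum_const, Finset.card_univ, ← Nat.card_eq_fintype_card, nsmul_eq_mul,
      mul_one] at e3
    have hLne : (Nat.card L : ℂ) ≠ 0 := Nat.cast_ne_zero.2 Nat.card_pos.ne'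
    have hHne : (Nat.card H : ℂ) ≠ 0 := Nat.cast_ne_zero.2 Nat.card_pos.ne'
    rw [← Finset.sum_mul, mul_comm] at e1 e2
    have e5 := mul_left_cancel₀ hLne e1
    rw [classInner, ← e5]
    split_ifs at e2 ⊢ with hh
    · rw [← e3] at e2
      have : (∑ h : H, c h * c' h) = (Nat.card H : ℂ) := by
        apply mul_left_cancel₀ hyp.cKC
        rw [e2]; ring
      rw [this, inv_mul_cancel₀ hHne]
    · rw [mul_zero] at e2
      rw [(mul_eq_zero.1 e2).resolve_left hyp.cKC, mul_zero]
  have hgen : ∀ χ, IsGeneralizedCharacter H (Δ χ) := fun χ => by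
    rw [show Δ χ = ca χ - cb χ from funext fun h => (hab χ h).2]
    exact isGeneralizedCharacter_sub (isGeneralizedCharacter_of_isCharacter (hca χ))
      (isGeneralizedCharacter_of_isCharacter (hcb χ))
  have hnorm : ∀ χ, classInner (Δ χ) (Δ χ) = 1 := fun χ => by rw [horth, if_pos rfl]
  choose ξ hξ hξΔ using fun χ => eq_or_neg_irr_of_norm_one (hgen χ) (hnorm χ)
  have hodd : ∀ χ (η : IrrCharacter H) (m : ℕ),
      classInner (fun h : H => (χ.1 : G → ℂ) h) (η : H → ℂ) = m →
      (Odd m ↔ η = ⟨ξ χ, hξ χ⟩) := by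
    intro χ η m hm
    obtain ⟨a, ha⟩ := classInner_isCharacter (hca χ) (isCharacter_of_isIrrCharacter η.2)
    obtain ⟨b, hb⟩ := classInner_isCharacter (hcb χ) (isCharacter_of_isIrrCharacter η.2)
    rw [show (fun h : H => (χ.1 : G → ℂ) h) = ca χ + cb χ from funext fun h => (hab χ h).1,
      classInner_add_left, ha, hb, ← Nat.cast_add, Nat.cast_inj] at hm
    have hΔη : ((a : ℤ) - b : ℂ) = classInner (Δ χ) (η : H → ℂ) := by
      rw [show Δ χ = ca χ - cb χ from funext fun h => (hab χ h).2, classInner_sub_left, ha, hb]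
      push_cast; ring
    subst hm
    by_cases heq : η = ⟨ξ χ, hξ χ⟩
    · simp only [heq, iff_true]
      rw [heq] at hΔη
      rcases hξΔ χ with e' | e'
      · rw [e', classInner_irr_self (hξ χ)] at hΔη
        have : (a : ℤ) - b = 1 := by exact_mod_cast hΔη
        exact ⟨b, by omega⟩
      · rw [e', classInner_neg_left, classInner_irr_self (hξ χ)] at hΔη
        have : (a : ℤ) - b = -1 := by exact_mod_cast hΔη
        exact ⟨a, by omega⟩
    · simp only [heq, iff_false, Nat.not_odd_iff_even]
      have h0 : classInner (ξ χ) (η : H → ℂ) = 0 :=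
        classInner_irr_ne (hξ χ) η.2 fun e' => heq (Subtype.ext e'.symm)
      have : (a : ℤ) - b = 0 := by
        rcases hξΔ χ with e' | e' <;> rw [e'] at hΔη
        · rw [h0] at hΔη; exact_mod_cast hΔη
        · rw [classInner_neg_left, h0, neg_zero] at hΔη; exact_mod_cast hΔη
      exact ⟨a, by omega⟩
  have hover : ∀ χ, classInner (fun n : L => ξ χ ⟨(n : G), st.LH n.2⟩) φ ≠ 0 := by
    intro χ hcontra
    obtain ⟨m, hm⟩ := classInner_isCharacter
      (CharInduced.isCharacter_res H (isCharacter_of_isIrrCharacter χ.1.2))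
      (isCharacter_of_isIrrCharacter (hξ χ))
    have hm0 : m ≠ 0 := ((hodd χ ⟨ξ χ, hξ χ⟩ m hm).2 rfl).pos.ne'
    let j : L →* H := Subgroup.inclusion st.LH
    obtain ⟨a, ha⟩ := classInner_isCharacter
      (CharInduced.isCharacter_res K (isCharacter_of_isIrrCharacter χ.1.2))
      (isCharacter_of_isIrrCharacter st.irrθ)
    have hχL : (fun n : L => (χ.1 : G → ℂ) n) = ((a : ℂ) * e) • φ := by
      funext x
      have hcl := congrFun (CharInduced.clifford K χ.1.2 st.irrθ χ.2) ⟨(x : G), st.LK x.2⟩
      have horb : CharInduced.orbitFin K θ = {θ} := Finset.eq_singleton_iff_unique_mem.2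
        ⟨CharInduced.self_mem_orbitFin K θ, fun f hf => by
          obtain ⟨g, rfl⟩ := (CharInduced.mem_orbitFin K).1 hf
          exact st.invθ g⟩
      rw [horb, Finset.sum_singleton, ha, Pi.smul_apply, smul_eq_mul, he] at hcl
      rw [Pi.smul_apply, smul_eq_mul, mul_assoc]
      exact hcl
    obtain ⟨ψ, hψ, hψc⟩ := CharInduced.exists_constituent
      (isCharacter_comap j (isCharacter_of_isIrrCharacter (hξ χ)))
      (fun h0 => isIrrCharacter_apply_one_ne_zero (hξ χ) (by
        have := congrFun h0 1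
        simpa using this))
    -- constituents come from `χ`
    obtain ⟨mm, hmm, hsum⟩ := exists_mult
      (CharInduced.isCharacter_res H (isCharacter_of_isIrrCharacter χ.1.2))
    choose k hk using fun η : IrrCharacter H => classInner_isCharacter
      (isCharacter_comap j (isCharacter_of_isIrrCharacter η.2)) (isCharacter_of_isIrrCharacter hψ)
    have e1 : classInner (fun n : L => (χ.1 : G → ℂ) n) ψ = ((∑ η, mm η * k η : ℕ) : ℂ) := by
      have : (fun n : L => (χ.1 : G → ℂ) n) =
          ∑ η : IrrCharacter H, (mm η : ℂ) • ((η : H → ℂ) ∘ j) := funext fun x => by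
        have := congrFun hsum (j x)
        simp only [Finset.sum_apply, Pi.smul_apply, Function.comp_apply] at this ⊢
        exact this
      rw [this, classInner_sum_left]
      simp only [classInner_smul_left, Nat.cast_sum, Nat.cast_mul]
      exact Finset.sum_congr rfl fun η _ => by rw [hk η]
    have hψφ : ψ = φ := by
      by_contra hne
      rw [hχL, classInner_smul_left, classInner_irr_ne st.irrφ hψ (Ne.symm hne), mul_zero,
        eq_comm, Nat.cast_eq_zero, Finset.sum_eq_zero_iff] at e1
      rcases mul_eq_zero.1 (e1 ⟨ξ χ, hξ χ⟩ (Finset.mem_univ _)) with e' | e'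
      · have := hm.symm.trans (hmm ⟨ξ χ, hξ χ⟩)
        rw [e', Nat.cast_inj] at this
        exact hm0 this
      · exact hψc ((hk ⟨ξ χ, hξ χ⟩).trans (by rw [e', Nat.cast_zero]))
    subst hψφ
    exact hψc hcontra
  refine ⟨fun χ => ⟨⟨ξ χ, hξ χ⟩, hover χ⟩, ⟨fun χ χ' e' => ?_, fun η => ?_⟩, hodd⟩
  · by_contra hne
    have e1 : ξ χ = ξ χ' := congrArg Subtype.val (congrArg Subtype.val e')
    have h0 := horth χ χ'
    rw [if_neg hne] at h0
    rcases hξΔ χ with a | a <;> rcases hξΔ χ' with b | b <;>
      simp only [a, b, e1, classInner_neg_left, classInner_neg_right,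
        classInner_irr_self (hξ χ'), neg_neg, neg_eq_zero, one_ne_zero] at h0
  · by_contra hno
    push Not at hno
    have hzero : ∀ χ, classInner (Δ χ) (η.1 : H → ℂ) = 0 := fun χ => by
      have h0 : classInner (ξ χ) (η.1 : H → ℂ) = 0 :=
        classInner_irr_ne (hξ χ) η.1.2 fun e' => hno χ (Subtype.ext (Subtype.ext e'))
      rcases hξΔ χ with a | a <;> rw [a]
      · exact h0
      · rw [classInner_neg_left, h0, neg_zero]
    choose ee hee using fun χ : IrrCharacter G => classInner_isCharacter
      (CharInduced.isCharacter_res K (isCharacter_of_isIrrCharacter χ.2))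
      (isCharacter_of_isIrrCharacter st.irrθ)
    have hind : indFun K θ = ∑ χ : IrrCharacter G, (ee χ : ℂ) • (χ : G → ℂ) := by
      refine (eq_sum_classInner (CharInduced.isClassFunction_ind K θ)).trans ?_
      refine Finset.sum_congr rfl fun χ _ => ?_
      rw [CharInduced.inner_ind_left K θ (CharInduced.isClassFunction_irr χ.2),
        ← CharInduced.inner_conj_symm, hee, map_natCast]
    let W : H → ℂ := fun h =>
      ((d : ℂ) / Nat.card K) * ∑ k : K, trace (J * r k⁻¹) * indFun K θ ((k : G) * h)
    have hW : W = ∑ χ : {χ : IrrCharacter G // classInner (fun n : K => (χ : G → ℂ) n) θ ≠ 0},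
        (ee χ.1 : ℂ) • Δ χ := by
      funext h
      have e1 : ∀ χ, Δ χ h =
          ((d : ℂ) / Nat.card K) * ∑ k : K, trace (J * r k⁻¹) * (χ.1 : G → ℂ) ((k : G) * h) := by
        intro χ
        show trace (π χ J * R χ (h : G)) = _
        rw [hπ, smul_mul_assoc, trace_smul, smul_eq_mul, Finset.sum_mul, trace_sum]
        congr 1
        refine Finset.sum_congr rfl fun k _ => ?_
        rw [smul_mul_assoc, trace_smul, smul_eq_mul, ← map_mul, hR]
      simp only [W, hind, Finset.sum_apply, Pi.smul_apply, smul_eq_mul, e1, Finset.mul_sum]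
      rw [Finset.sum_comm]
      symm
      refine (Finset.sum_bij_ne_zero (fun χ _ _ => χ.1) (fun _ _ _ => Finset.mem_univ _)
        (fun _ _ _ _ _ _ h' => Subtype.ext h') (fun χ _ hne => ?_) (fun χ _ _ => ?_))
      · refine ⟨⟨χ, fun h0 => hne ?_⟩, Finset.mem_univ _, ?_, rfl⟩
        · rw [hee, Nat.cast_eq_zero] at h0
          refine Finset.sum_eq_zero fun k _ => ?_
          rw [h0, Nat.cast_zero, zero_mul, mul_zero, mul_zero]
        · refine fun h0 => hne (Eq.trans ?_ h0)
          exact Finset.sum_congr rfl fun k _ => by ring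
      · exact Finset.sum_congr rfl fun k _ => by ring
    have hWη : classInner W (η.1 : H → ℂ) = 0 := by
      rw [hW, classInner_sum_left]
      simp [classInner_smul_left, hzero]
    apply η.2
    have hWv : ∀ h : H, W h =
        if hh : (h : G) ∈ L then (K.index : ℂ) * (trace J / d * e) * φ ⟨h, hh⟩ else 0 := by
      intro h
      by_cases hh : (h : G) ∈ L
      · rw [dif_pos hh]
        let hK : K := ⟨(h : G), st.LK hh⟩
        have e1 : ∀ k : K, indFun K θ ((k : G) * h) = (K.index : ℂ) * trace (r k * r hK) := by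
          intro k
          show indFun K θ ((k * hK : K) : G) = _
          rw [CharInduced.ind_normal_coe, ← map_mul, hr,
            Finset.sum_congr rfl fun x _ => congrFun (st.invθ x) (k * hK), Finset.sum_const,
            Finset.card_univ, ← Nat.card_eq_fintype_card, nsmul_eq_mul, ← K.card_mul_index,
            Nat.cast_mul, mul_assoc, inv_mul_cancel_left₀ (Nat.cast_ne_zero.2 Nat.card_pos.ne')]
        show ((d : ℂ) / Nat.card K) * _ = _
        simp only [e1]
        have e2 : trace (J * r hK) =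
            ((d : ℂ) / Nat.card K) * ∑ k : K, trace (J * r k⁻¹) * trace (r k * r hK) := by
          conv_lhs => rw [hyp.fourier J]
          rw [smul_mul_assoc, trace_smul, smul_eq_mul, Finset.sum_mul, trace_sum]
          congr 1
          exact Finset.sum_congr rfl fun k _ => by rw [smul_mul_assoc, trace_smul, smul_eq_mul]
        rw [show ((d : ℂ) / Nat.card K) * ∑ k : K, trace (J * r k⁻¹) *
            ((K.index : ℂ) * trace (r k * r hK)) = (K.index : ℂ) * trace (J * r hK) by
          rw [e2, Finset.mul_sum, Finset.mul_sum, Finset.mul_sum]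
          exact Finset.sum_congr rfl fun k _ => by ring]
        rw [hyp.homog J hJL hK hh, hr, show θ hK = (e : ℂ) * φ ⟨h, hh⟩ from he ⟨h, hh⟩]
        ring
      · rw [dif_neg hh]
        refine mul_eq_zero_of_right _ (Finset.sum_eq_zero fun k _ => ?_)
        rw [CharInduced.ind_normal_eq_zero K θ (fun hk => hh ?_), mul_zero]
        rw [← st.inf]
        exact ⟨(Subgroup.mul_mem_cancel_left K k.2).1 hk, h.2⟩
    have hconst : (K.index : ℂ) * (trace J / d * e) ≠ 0 :=
      mul_ne_zero (Nat.cast_ne_zero.2 Subgroup.index_ne_zero_of_finite)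
        (mul_ne_zero (div_ne_zero hJt hd) he0)
    rw [← CharInduced.inner_conj_symm, map_eq_zero]
    have e3 : (Nat.card H : ℂ) * classInner W (η.1 : H → ℂ) =
        (K.index : ℂ) * (trace J / d * e) *
          ((Nat.card L : ℂ) * classInner φ (fun n : L => (η.1 : H → ℂ) ⟨(n : G), st.LH n.2⟩)) := by
      rw [card_mul_classInner, card_mul_classInner, Finset.mul_sum]
      simp only [hWv, dite_mul, zero_mul]
      refine (Finset.sum_bij_ne_zero (fun (n : L) _ _ => (⟨(n : G), st.LH n.2⟩ : H))
        (fun _ _ _ => Finset.mem_univ _)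
        (fun _ _ _ _ _ _ h' => Subtype.ext (congrArg (fun x : H => (x : G)) h' :))
        (fun h _ hne => ?_) (fun n _ _ => by rw [dif_pos n.2]; ring)).symm
      by_cases hh : (h : G) ∈ L
      · refine ⟨⟨h, hh⟩, Finset.mem_univ _, ?_, rfl⟩
        rw [dif_pos hh] at hne
        exact fun h0 => hne (by linear_combination h0)
      · exact absurd (dif_neg hh) hne
    rw [hWη, mul_zero, eq_comm, mul_eq_zero, mul_eq_zero] at e3
    exact (mul_eq_zero.1 (e3.resolve_left fun hh => hconst (mul_eq_zero.2 hh))).resolve_left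
      (Nat.cast_ne_zero.2 Nat.card_pos.ne')

end Cfsg.Agent.FRInvCore
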