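import Mathlib
import Cfsg.Agent.Lib.GlaubermanP

/-!
For a finite solvable group `A` acting coprimely on `G`, the number of `A`-invariant irreducible
characters of `G` equals the number of `A`-invariant conjugacy classes (helper78).
-/

set_option autoImplicit false

namespace Cfsg.Agent.GlaubermanCount

open Cfsg.Agent.GlaubermanP

universe u v

/-- A conjugacy class mapped to itself by every operator. -/
def InvClass {A : Type u} {G : Type v} [Group A] [Group G] (φ : A →* MulAut G)
    (K : ConjClasses G) : Prop :=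
  ∀ (a : A) (g : G), ConjClasses.mk g = K → ConjClasses.mk (φ a g) = K

/-- The fixed-point subgroup of a set of operators. -/
def fixSub {A : Type u} {G : Type v} [Group A] [Group G] (φ : A →* MulAut G) (T : Subgroup A) :
    Subgroup G where
  carrier := {g | ∀ t ∈ T, φ t g = g}
  one_mem' := fun t _ => map_one _
  mul_mem' := fun hx hy t ht => by rw [map_mul, hx t ht, hy t ht]
  inv_mem' := fun hx t ht => by rw [map_inv, hx t ht]

section Step

variable {A : Type u} {G : Type v} [Group A] [Group G] (φ : A →* MulAut G) (T : Subgroup A)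
  [T.Normal]

theorem map_mem_fixSub (a : A) {g : G} (hg : g ∈ fixSub φ T) : φ a g ∈ fixSub φ T := by
  intro t ht
  have h := hg (a⁻¹ * t * a) (by simpa using ‹T.Normal›.conj_mem t ht a⁻¹)
  calc φ t (φ a g) = (φ t * φ a) g := rfl
    _ = φ (a * (a⁻¹ * t * a)) g := by rw [← map_mul]; congr 2; group
    _ = (φ a * φ (a⁻¹ * t * a)) g := by rw [map_mul]
    _ = φ a g := by show φ a (φ (a⁻¹ * t * a) g) = _; rw [h]

/-- The action on the fixed points of a normal subgroup of operators. -/
def resHom : A →* MulAut (fixSub φ T) where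
  toFun a :=
    { toFun := fun g => ⟨φ a g, map_mem_fixSub φ T a g.2⟩
      invFun := fun g => ⟨φ a⁻¹ g, map_mem_fixSub φ T a⁻¹ g.2⟩
      left_inv := fun g => Subtype.ext (by simp)
      right_inv := fun g => Subtype.ext (by simp)
      map_mul' := fun g h => Subtype.ext (map_mul (φ a) (g : G) h) }
  map_one' := by ext g; simp
  map_mul' a b := by ext g; simp

theorem resHom_apply (a : A) (g : fixSub φ T) : ((resHom φ T a g : fixSub φ T) : G) = φ a g :=
  rfl

theorem le_ker_resHom : T ≤ (resHom φ T).ker := fun t ht => by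
  rw [MonoidHom.mem_ker]
  ext g
  exact g.2 t ht

theorem isFix_fixSub : IsFix (φ.comp T.subtype) (fixSub φ T).subtype :=
  ⟨Subgroup.subtype_injective _, fun g => by
    rw [Subgroup.range_subtype]
    exact ⟨fun h t => h t t.2, fun h t ht => h ⟨t, ht⟩⟩⟩

variable [Finite A] [Finite G] {p : ℕ} [hp : Fact p.Prime]

theorem exists_fixed_of_ndvd (hT : IsPGroup p T) (P : G → Prop)
    (hP : ∀ (t : A), t ∈ T → ∀ g, P g → P (φ t g)) (hcard : ¬ p ∣ Nat.card {g // P g}) :
    ∃ g, g ∈ fixSub φ T ∧ P g := by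
  letI : MulAction T {g // P g} :=
    { smul := fun t g => ⟨φ t g, hP t t.2 _ g.2⟩
      one_smul := fun g => Subtype.ext (by show φ ((1 : T) : A) g = _; simp)
      mul_smul := fun s t g => Subtype.ext (by
        show φ ((s * t : T) : A) g = φ s (φ t g); simp) }
  obtain ⟨g, hg⟩ := hT.nonempty_fixed_point_of_prime_not_dvd_card {g // P g} hcard
  exact ⟨g.1, fun t ht => congrArg Subtype.val (hg ⟨t, ht⟩), g.2⟩

theorem isConj_fix (hT : IsPGroup p T) (hpG : ¬ p ∣ Nat.card G) {c d : fixSub φ T}
    (h : IsConj (c : G) d) : IsConj c d := by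
  obtain ⟨b, hb⟩ := isConj_iff.1 h
  have hcard : ¬ p ∣ Nat.card {a : G // a * c * a⁻¹ = d} := by
    have e : Nat.card {a : G // a * c * a⁻¹ = d} =
        Nat.card (Subgroup.centralizer ({(c : G)} : Set G)) := by
      refine Nat.card_congr ((Equiv.mulLeft b⁻¹).subtypeEquiv fun a => ?_)
      rw [Subgroup.mem_centralizer_singleton_iff, Equiv.coe_mulLeft, ← hb]
      refine ⟨fun e => ?_, fun e => ?_⟩
      · have := congrArg (fun t => b⁻¹ * t * a) e
        simpa [mul_assoc] using this
      · have := congrArg (fun t => b * t * a⁻¹) e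
        simpa [mul_assoc] using this
    rw [e]
    exact fun h => hpG (h.trans (Subgroup.card_subgroup_dvd_card _))
  obtain ⟨a, ha, hac⟩ := exists_fixed_of_ndvd φ T hT _ (fun t ht a ha => by
    have := congrArg (φ t) ha
    simpa [c.2 t ht, d.2 t ht] using this) hcard
  exact isConj_iff.2 ⟨⟨a, ha⟩, Subtype.ext hac⟩

theorem card_invClass_fix (hT : IsPGroup p T) (hpG : ¬ p ∣ Nat.card G) :
    Nat.card {K : ConjClasses G // InvClass φ K} =
      Nat.card {K : ConjClasses (fixSub φ T) // InvClass (resHom φ T) K} := by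
  have hmap : ∀ K : {K : ConjClasses (fixSub φ T) // InvClass (resHom φ T) K},
      InvClass φ (ConjClasses.map (fixSub φ T).subtype K.1) := by
    intro K a g hg
    obtain ⟨c, hc⟩ := ConjClasses.mk_surjective K.1
    rw [← hc] at hg ⊢
    have h1 : IsConj (c : G) g := (ConjClasses.mk_eq_mk_iff_isConj.1 hg).symm
    refine ConjClasses.mk_eq_mk_iff_isConj.2 ?_
    have h2 : IsConj (φ a c) (φ a g) := (φ a).toMonoidHom.map_isConj h1
    have h3 : IsConj (resHom φ T a c) c :=
      ConjClasses.mk_eq_mk_iff_isConj.1 ((K.2 a c hc).trans hc.symm)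
    exact h2.symm.trans ((fixSub φ T).subtype.map_isConj h3)
  refine (Nat.card_congr (Equiv.ofBijective
    (fun K => (⟨ConjClasses.map (fixSub φ T).subtype K.1, hmap K⟩ :
      {K : ConjClasses G // InvClass φ K})) ⟨?_, ?_⟩)).symm
  · rintro ⟨K, hK⟩ ⟨L, hL⟩ h
    obtain ⟨c, rfl⟩ := ConjClasses.mk_surjective K
    obtain ⟨d, rfl⟩ := ConjClasses.mk_surjective L
    exact Subtype.ext (ConjClasses.mk_eq_mk_iff_isConj.2
      (isConj_fix φ T hT hpG (ConjClasses.mk_eq_mk_iff_isConj.1 (congrArg Subtype.val h))))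
  · rintro ⟨K, hK⟩
    have hcard : ¬ p ∣ Nat.card {g : G // ConjClasses.mk g = K} := by
      obtain ⟨g₀, rfl⟩ := ConjClasses.mk_surjective K
      intro h
      refine hpG (h.trans ?_)
      have e : Nat.card {g : G // ConjClasses.mk g = ConjClasses.mk g₀} =
          Nat.card {g : G // IsConj g₀ g} :=
        Nat.card_congr (Equiv.subtypeEquivRight fun g =>
          ConjClasses.mk_eq_mk_iff_isConj.trans ⟨IsConj.symm, IsConj.symm⟩)
      rw [e, ← CharBasicOrth.card_conj_mul_card_centralizer g₀]
      exact dvd_mul_right _ _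
    obtain ⟨g, hg, hgK⟩ := exists_fixed_of_ndvd φ T hT (fun g => ConjClasses.mk g = K)
      (fun t _ g h => hK t g h) hcard
    refine ⟨⟨ConjClasses.mk ⟨g, hg⟩, fun a c hc => ?_⟩, Subtype.ext hgK⟩
    have h1 : IsConj (φ a (c : G)) (g : G) := by
      refine ConjClasses.mk_eq_mk_iff_isConj.1 ((hK a c ?_).trans hgK.symm)
      rw [← hgK]
      exact ConjClasses.mk_eq_mk_iff_isConj.2
        ((fixSub φ T).subtype.map_isConj (ConjClasses.mk_eq_mk_iff_isConj.1 hc))
    exact ConjClasses.mk_eq_mk_iff_isConj.2 (isConj_fix φ T hT hpG h1)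

theorem card_inv_fix (hT : IsPGroup p T) (hpG : ¬ p ∣ Nat.card G) :
    Nat.card {χ : Cfsg.IrrCharacter G // Inv φ χ} =
      Nat.card {β : Cfsg.IrrCharacter (fixSub φ T) // Inv (resHom φ T) β} := by
  classical
  haveI := Fintype.ofFinite G
  have hS : Setup p T G (fixSub φ T) := ⟨hp.out, hT, hpG⟩
  have hι := isFix_fixSub φ T
  let E := corr hS hι
  have hkey : ∀ χ : {χ : Cfsg.IrrCharacter G // Inv (φ.comp T.subtype) χ},
      Inv φ χ.1 ↔ Inv (resHom φ T) (E χ : fixSub φ T → ℂ) := by
    intro χ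
    let χa : A → {χ : Cfsg.IrrCharacter G // Inv (φ.comp T.subtype) χ} := fun a =>
      ⟨⟨(χ.1 : G → ℂ) ∘ (φ a).toMonoidHom,
        CharBasic.isIrrCharacter_comap _ (φ a).surjective χ.1.2⟩, fun t g => by
        have h := χ.2 ⟨a * t * a⁻¹, ‹T.Normal›.conj_mem t t.2 a⟩ (φ a g)
        simp only [MonoidHom.comp_apply, Subgroup.coe_subtype, map_mul, MulAut.mul_apply] at h
        simpa using h⟩
    have hcomp : ∀ a c, (E (χa a) : fixSub φ T → ℂ) c =
        (E χ : fixSub φ T → ℂ) (resHom φ T a c) := fun a =>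
      corr_comp hS hι (φ a) (resHom φ T a) (fun c => rfl) χ (χa a) (fun g => rfl)
    constructor
    · intro h a c
      rw [← hcomp, show χa a = χ from Subtype.ext (Subtype.ext (funext fun g => h a g))]
    · intro h a g
      have e : E (χa a) = E χ := Subtype.ext (funext fun c => (hcomp a c).trans (h a c))
      exact congrFun (congrArg Subtype.val (congrArg Subtype.val (E.injective e))) g
  refine Nat.card_congr (Equiv.trans ?_ (E.subtypeEquiv hkey))
  exact { toFun := fun χ => ⟨⟨χ.1, fun t g => χ.2 t g⟩, χ.2⟩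
          invFun := fun χ => ⟨χ.1.1, χ.2⟩
          left_inv := fun _ => rfl
          right_inv := fun _ => rfl }

end Step

theorem exists_normal_pSubgroup {A : Type u} [Group A] [Finite A] [Nontrivial A]
    (hA : Group.IsSolvable A) :
    ∃ (p : ℕ) (T : Subgroup A), p.Prime ∧ T.Normal ∧ IsPGroup p T ∧ T ≠ ⊥ := by
  classical
  have hex : ∃ k, derivedSeries A k = ⊥ := (Group.isSolvable_def A).mp hA
  set m := Nat.find hex with hm
  have hmn : derivedSeries A m = ⊥ := Nat.find_spec hex
  obtain ⟨k, hk⟩ : ∃ k, m = k + 1 := by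
    refine ⟨m - 1, (Nat.succ_pred_eq_of_ne_zero fun h0 => ?_).symm⟩
    rw [h0, derivedSeries_zero] at hmn
    exact bot_ne_top hmn.symm
  set D := derivedSeries A k with hD
  have hDne : D ≠ ⊥ := Nat.find_min hex (by omega)
  have hDab : ∀ x ∈ D, ∀ y ∈ D, x * y = y * x := fun x hx y hy => by
    have := Subgroup.commutator_mem_commutator hx hy
    rw [← derivedSeries_succ, ← hk, hmn, Subgroup.mem_bot] at this
    exact commutatorElement_eq_one_iff_mul_comm.1 this
  haveI : D.Normal := derivedSeries_normal A k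
  obtain ⟨p, hp, hpd⟩ := Nat.exists_prime_and_dvd (n := Nat.card D)
    (fun h => hDne (Subgroup.card_eq_one.mp h))
  haveI : Fact p.Prime := ⟨hp⟩
  let T : Subgroup A :=
    { carrier := {x | x ∈ D ∧ x ^ p = 1}
      one_mem' := ⟨D.one_mem, one_pow p⟩
      mul_mem' := fun {x y} hx hy => ⟨D.mul_mem hx.1 hy.1, by
        rw [(show Commute x y from hDab x hx.1 y hy.1).mul_pow, hx.2, hy.2, one_mul]⟩
      inv_mem' := fun {x} hx => ⟨D.inv_mem hx.1, by rw [inv_pow, hx.2, inv_one]⟩ }
  refine ⟨p, T, hp, ⟨fun x hx a => ⟨‹D.Normal›.conj_mem x hx.1 a, by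
    rw [conj_pow, hx.2, mul_one, mul_inv_cancel]⟩⟩, fun x => ⟨1, Subtype.ext (by simpa using x.2.2)⟩, ?_⟩
  obtain ⟨x, hx⟩ := exists_prime_orderOf_dvd_card' p hpd
  intro hbot
  have hxT : (x : A) ∈ T := ⟨x.2, by
    have := pow_orderOf_eq_one x
    rw [hx] at this
    exact congrArg Subtype.val this⟩
  rw [hbot, Subgroup.mem_bot] at hxT
  rw [show x = 1 from Subtype.ext hxT, orderOf_one] at hx
  exact hp.ne_one hx.symm

theorem card_inv_eq_aux (n : ℕ) : ∀ {A : Type u} [Group A] [Finite A], Nat.card A ≤ n →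
    Group.IsSolvable A → ∀ {G : Type v} [Group G] [Finite G] (φ : A →* MulAut G),
    (Nat.card G).Coprime (Nat.card A) →
    Nat.card {χ : Cfsg.IrrCharacter G // Inv φ χ} =
      Nat.card {K : ConjClasses G // InvClass φ K} := by
  induction n with
  | zero => intro A _ _ h; exact absurd h (by have := Nat.card_pos (α := A); omega)
  | succ n ih =>
    intro A _ _ hn hsol G _ _ φ hcop
    rcases subsingleton_or_nontrivial A with hs | hs
    · have h1 : ∀ (a : A) (g : G), φ a g = g := fun a g => by
        rw [Subsingleton.elim a 1, map_one]; rfl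
      rw [Nat.card_congr (Equiv.subtypeUnivEquiv
          (show ∀ χ : Cfsg.IrrCharacter G, Inv φ χ from fun χ a g => by rw [h1])),
        Nat.card_congr (Equiv.subtypeUnivEquiv
          (show ∀ K : ConjClasses G, InvClass φ K from fun K a g h => by rw [h1]; exact h)),
        CharBasicOrth.card_irrCharacter]
    · obtain ⟨p, T, hp, hTn, hT, hT1⟩ := exists_normal_pSubgroup hsol
      haveI : Fact p.Prime := ⟨hp⟩
      have hpG : ¬ p ∣ Nat.card G := by
        intro h
        obtain ⟨k, hk⟩ := IsPGroup.iff_card.mp hT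
        have hk0 : k ≠ 0 := fun h0 => hT1 (Subgroup.card_eq_one.mp (by rw [hk, h0, pow_zero]))
        exact hp.not_dvd_one (hcop ▸ Nat.dvd_gcd h
          ((hk ▸ dvd_pow_self p hk0).trans (Subgroup.card_subgroup_dvd_card T)))
      rw [card_inv_fix φ T hT hpG, card_invClass_fix φ T hT hpG]
      let ψ : A ⧸ T →* MulAut (fixSub φ T) :=
        QuotientGroup.lift T (resHom φ T) (le_ker_resHom φ T)
      have hψ : ∀ a : A, ψ (QuotientGroup.mk a) = resHom φ T a := fun a => rfl
      have hlt : Nat.card (A ⧸ T) ≤ n := by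
        have h2 : 1 < Nat.card T := Subgroup.one_lt_card_iff_ne_bot T |>.mpr hT1
        have h3 := Subgroup.card_eq_card_quotient_mul_card_subgroup T
        have h4 : 0 < Nat.card (A ⧸ T) := Nat.card_pos
        have : Nat.card (A ⧸ T) < Nat.card A := by rw [h3]; exact lt_mul_of_one_lt_right h4 h2
        omega
      have e := ih hlt (Group.isSolvable_of_surjective (QuotientGroup.mk'_surjective T)) ψ
        (Nat.Coprime.coprime_dvd_left (Subgroup.card_subgroup_dvd_card _)
          (Nat.Coprime.coprime_dvd_right (Subgroup.card_quotient_dvd_card T) hcop))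
      refine Eq.trans ?_ (e.trans ?_)
      · refine Nat.card_congr (Equiv.subtypeEquivRight fun β => ⟨fun h b g => ?_, fun h a g => ?_⟩)
        · obtain ⟨a, rfl⟩ := QuotientGroup.mk_surjective b
          rw [hψ]; exact h a g
        · rw [← hψ]; exact h _ g
      · refine Nat.card_congr (Equiv.subtypeEquivRight fun K => ⟨fun h a g hg => ?_, fun h b g hg => ?_⟩)
        · rw [← hψ]; exact h _ g hg
        · obtain ⟨a, rfl⟩ := QuotientGroup.mk_surjective b
          rw [hψ]; exact h a g hg

/-- Invariant characters and invariant classes are equinumerous. -/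
theorem card_inv_eq {A : Type u} [Group A] [Finite A] (hA : Group.IsSolvable A)
    {G : Type v} [Group G] [Finite G] (φ : A →* MulAut G)
    (hcop : (Nat.card G).Coprime (Nat.card A)) :
    Nat.card {χ : Cfsg.IrrCharacter G // Inv φ χ} =
      Nat.card {K : ConjClasses G // InvClass φ K} :=
  card_inv_eq_aux _ le_rfl hA φ hcop

end Cfsg.Agent.GlaubermanCount
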