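import Mathlib
import Cfsg.Agent.Lib.CharInducedRep
import Cfsg.Agent.Lib.CharInducedClifford
import Cfsg.Agent.Lib.GlaubermanP
import Cfsg.Agent.Lib.GlaubermanCount

/-!
# Invariant characters above an invariant character, coprime solvable operators

`exists_inv_above` : if the solvable group `A` acts coprimely on `G` and leaves the normal subgroup
`M` and `θ ∈ Irr M` invariant, some invariant irreducible character of `G` lies over `θ`.
-/

set_option autoImplicit false
set_option linter.unusedSectionVars false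

open scoped ComplexConjugate

namespace Cfsg.Agent.GlaubermanAbove

open Cfsg Cfsg.Agent.CharBasic Cfsg.Agent.CharBasicOrth Cfsg.Agent.GlaubermanP
  Cfsg.Agent.GlaubermanCount

universe u v

variable {A : Type u} {G : Type v} [Group A] [Group G]

/-- The action on an invariant subgroup. -/
def resSub (φ : A →* MulAut G) (M : Subgroup G) (hM : ∀ a, ∀ m ∈ M, φ a m ∈ M) :
    A →* MulAut M where
  toFun a :=
    { toFun := fun g => ⟨φ a g, hM a g g.2⟩
      invFun := fun g => ⟨φ a⁻¹ g, hM a⁻¹ g g.2⟩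
      left_inv := fun g => Subtype.ext (by simp)
      right_inv := fun g => Subtype.ext (by simp)
      map_mul' := fun g h => Subtype.ext (map_mul (φ a) (g : G) h) }
  map_one' := by ext g; simp
  map_mul' a b := by ext g; simp

theorem resSub_apply (φ : A →* MulAut G) (M : Subgroup G) (hM : ∀ a, ∀ m ∈ M, φ a m ∈ M) (a : A)
    (m : M) : ((resSub φ M hM a m : M) : G) = φ a m := rfl

/-- Nonzero multiplicities over a normal subgroup divide the degree. -/
theorem not_dvd_coeff [Fintype G] (N : Subgroup G) [N.Normal] [Fintype N] {p : ℕ}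
    (hpG : ¬ p ∣ Nat.card G) {χ : G → ℂ} (hχ : IsIrrCharacter G χ) {θ : N → ℂ}
    (hθ : IsIrrCharacter N θ) {e : ℕ} (he : classInner (fun n : N => χ n) θ = e) (h0 : e ≠ 0) :
    ¬ p ∣ e := by
  classical
  obtain ⟨n, -, hn, hdvd⟩ := CharBasicInt.exists_apply_one_dvd_card hχ
  obtain ⟨d, -, hd⟩ := isIrrCharacter_apply_one hθ
  have h1 := congrFun (CharInduced.clifford N hχ hθ (by rw [he]; exact Nat.cast_ne_zero.2 h0)) 1
  have h2 : ∀ ψ ∈ CharInduced.orbitFin N θ, ψ 1 = (d : ℂ) := fun ψ hψ => by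
    obtain ⟨g, rfl⟩ := (CharInduced.mem_orbitFin N).1 hψ
    rw [← hd]
    exact congrArg θ (Subtype.ext (by simp))
  rw [Pi.smul_apply, Finset.sum_apply, Finset.sum_congr rfl h2, he, smul_eq_mul,
    Finset.sum_const, nsmul_eq_mul, Subgroup.coe_one, hn] at h1
  have h3 : n = e * ((CharInduced.orbitFin N θ).card * d) := by exact_mod_cast h1
  exact fun hp => hpG ((hp.trans ⟨_, h3⟩).trans hdvd)

variable [Finite A] [Fintype G] (φ : A →* MulAut G) (M : Subgroup G) [M.Normal]
  (hM : ∀ a, ∀ m ∈ M, φ a m ∈ M) (T : Subgroup A) [T.Normal] {p : ℕ} [hp : Fact p.Prime]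

theorem hMres (a : A) (m : fixSub φ T) (hm : m ∈ M.subgroupOf (fixSub φ T))
    (hM : ∀ a, ∀ m ∈ M, φ a m ∈ M) : resHom φ T a m ∈ M.subgroupOf (fixSub φ T) :=
  hM a m hm

/-- One step: lifting along the correspondence for a normal `p`-subgroup of operators. -/
theorem step (hT : IsPGroup p T) (hpG : ¬ p ∣ Nat.card G) (θ : IrrCharacter M)
    (hθ : Inv (resSub φ M hM) (θ : M → ℂ))
    (ih : ∀ (θ' : IrrCharacter (M.subgroupOf (fixSub φ T))),
      Inv (resSub (resHom φ T) (M.subgroupOf (fixSub φ T)) (fun a m hm => hMres φ M T a m hm hM))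
        (θ' : M.subgroupOf (fixSub φ T) → ℂ) →
      ∃ β : IrrCharacter (fixSub φ T), Inv (resHom φ T) (β : fixSub φ T → ℂ) ∧
        ∀ [Fintype (M.subgroupOf (fixSub φ T))],
          classInner (fun n : M.subgroupOf (fixSub φ T) => (β : fixSub φ T → ℂ) n)
            (θ' : M.subgroupOf (fixSub φ T) → ℂ) ≠ 0) :
    ∃ χ : IrrCharacter G, Inv φ (χ : G → ℂ) ∧
      ∀ [Fintype M], classInner (fun n : M => (χ : G → ℂ) n) (θ : M → ℂ) ≠ 0 := by
  classical
  haveI := Fintype.ofFinite (fixSub φ T)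
  haveI := Fintype.ofFinite (M.subgroupOf (fixSub φ T))
  haveI iM : Fintype M := Fintype.ofFinite M
  let CM := M.subgroupOf (fixSub φ T)
  let ψC := resSub (resHom φ T) CM (fun a m hm => hMres φ M T a m hm hM)
  let ι : CM →* M :=
    { toFun := fun x => ⟨((x : fixSub φ T) : G), x.2⟩
      map_one' := rfl
      map_mul' := fun _ _ => rfl }
  have hιfix : IsFix ((resSub φ M hM).comp T.subtype) ι := by
    refine ⟨fun x y h => Subtype.ext (Subtype.ext (congrArg (fun z : M => (z : G)) h)), fun g => ?_⟩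
    constructor
    · rintro ⟨x, rfl⟩ t
      exact Subtype.ext ((x : fixSub φ T).2 t t.2)
    · intro h
      exact ⟨⟨⟨(g : G), fun t ht => congrArg Subtype.val (h ⟨t, ht⟩)⟩, g.2⟩, rfl⟩
  have hSM : Setup p T M CM :=
    ⟨hp.out, hT, fun h => hpG (h.trans (Subgroup.card_subgroup_dvd_card M))⟩
  have hθT : Inv ((resSub φ M hM).comp T.subtype) (θ : M → ℂ) := fun t g => hθ t g
  let θs : IrrCharacter CM := corr hSM hιfix ⟨θ, hθT⟩
  have hθs : Inv ψC (θs : CM → ℂ) := fun a c =>
    (corr_comp hSM hιfix (resSub φ M hM a) (ψC a) (fun c => rfl) ⟨θ, hθT⟩ ⟨θ, hθT⟩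
      (fun g => (hθ a g).symm) c).symm
  obtain ⟨β, hβinv, hβ⟩ := ih θs hθs
  have hS : Setup p T G (fixSub φ T) := ⟨hp.out, hT, hpG⟩
  have hι := isFix_fixSub φ T
  let E := corr hS hι
  obtain ⟨χ, hχ⟩ := E.surjective β
  have hχinv : Inv φ (χ.1 : G → ℂ) := by
    intro a g
    let χa : {χ : Cfsg.IrrCharacter G // Inv (φ.comp T.subtype) χ} :=
      ⟨⟨(χ.1 : G → ℂ) ∘ (φ a).toMonoidHom,
        CharBasic.isIrrCharacter_comap _ (φ a).surjective χ.1.2⟩, fun t g => by
        have h := χ.2 ⟨a * t * a⁻¹, ‹T.Normal›.conj_mem t t.2 a⟩ (φ a g)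
        simp only [MonoidHom.comp_apply, Subgroup.coe_subtype, map_mul, MulAut.mul_apply] at h
        simpa using h⟩
    have hcomp : ∀ c, (E χa : fixSub φ T → ℂ) c = (E χ : fixSub φ T → ℂ) (resHom φ T a c) :=
      corr_comp hS hι (φ a) (resHom φ T a) (fun c => rfl) χ χa (fun g => rfl)
    have e : E χa = E χ := Subtype.ext (funext fun c => (hcomp c).trans (by rw [hχ]; exact hβinv a c))
    exact congrFun (congrArg Subtype.val (congrArg Subtype.val (E.injective e))) g
  refine ⟨χ.1, hχinv, ?_⟩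
  intro inst
  obtain rfl : inst = iM := Subsingleton.elim _ _
  intro h0
  have hm0 : mult M.subtype χ.1 θ = 0 := (mult_eq_iff M.subtype χ.1 θ 0).1 (by rw [Nat.cast_zero]; exact h0)
  let N₁ : ℕ := ∑ ψ : IrrCharacter M, mult M.subtype χ.1 ψ * mult ι ψ θs
  let N₂ : ℕ := ∑ γ : IrrCharacter (fixSub φ T),
    mult (fixSub φ T).subtype χ.1 γ * mult CM.subtype γ θs
  have hN : N₁ = N₂ := by
    have e1 : classInner (((χ.1 : G → ℂ) ∘ M.subtype) ∘ ι) (θs : CM → ℂ) = (N₁ : ℂ) := by
      rw [comp_eq_sum M.subtype χ.1, Nat.cast_sum]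
      rw [show (∑ ψ : IrrCharacter M, (mult M.subtype χ.1 ψ : ℂ) • (ψ : M → ℂ)) ∘ ι =
          ∑ ψ : IrrCharacter M, (mult M.subtype χ.1 ψ : ℂ) • ((ψ : M → ℂ) ∘ ι) from
          funext fun c => by simp [Finset.sum_apply],
        classInner_sum_left]
      refine Finset.sum_congr rfl fun ψ _ => ?_
      rw [classInner_smul_left, classInner_eq_mult, Nat.cast_mul]
    have e2 : classInner (((χ.1 : G → ℂ) ∘ (fixSub φ T).subtype) ∘ CM.subtype) (θs : CM → ℂ) =
        (N₂ : ℂ) := by
      rw [comp_eq_sum (fixSub φ T).subtype χ.1, Nat.cast_sum]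
      rw [show (∑ γ : IrrCharacter (fixSub φ T),
          (mult (fixSub φ T).subtype χ.1 γ : ℂ) • (γ : fixSub φ T → ℂ)) ∘ CM.subtype =
          ∑ γ : IrrCharacter (fixSub φ T),
            (mult (fixSub φ T).subtype χ.1 γ : ℂ) • ((γ : fixSub φ T → ℂ) ∘ CM.subtype) from
          funext fun c => by simp [Finset.sum_apply],
        classInner_sum_left]
      refine Finset.sum_congr rfl fun γ _ => ?_
      rw [classInner_smul_left, classInner_eq_mult, Nat.cast_mul]
    exact_mod_cast e1.symm.trans e2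
  have h1 : p ∣ N₁ := by
    let φT := (resSub φ M hM).comp T.subtype
    letI : MulAction T (IrrCharacter M) :=
      { smul := fun a ψ => act φT a ψ
        one_smul := fun ψ => Subtype.ext (funext fun g => by
          show (ψ : M → ℂ) (φT 1⁻¹ g) = _
          rw [inv_one, map_one]; rfl)
        mul_smul := fun a b ψ => Subtype.ext (funext fun g => by
          show (ψ : M → ℂ) (φT (a * b)⁻¹ g) = (ψ : M → ℂ) (φT b⁻¹ (φT a⁻¹ g))
          rw [mul_inv_rev, map_mul]; rfl) }
    let f : IrrCharacter M → ℂ := fun ψ => ((mult M.subtype χ.1 ψ * mult ι ψ θs : ℕ) : ℂ)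
    have hf : ∀ (a : T) (ψ : IrrCharacter M), f (a • ψ) = f ψ := by
      intro a ψ
      have e1 : mult M.subtype χ.1 (a • ψ) = mult M.subtype χ.1 ψ := by
        rw [← mult_eq_iff, ← classInner_eq_mult]
        conv_rhs => rw [← classInner_congr_equiv (φT a⁻¹)]
        congr 1
        funext g
        exact (hχinv ((a⁻¹ : T) : A) (g : G)).symm
      have e2 : mult ι (a • ψ) θs = mult ι ψ θs := by
        rw [← mult_eq_iff, ← classInner_eq_mult]
        congr 1
        funext c
        show (ψ : M → ℂ) (φT a⁻¹ (ι c)) = _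
        rw [fixed_iota hιfix]
        rfl
      show ((_ : ℕ) : ℂ) = _
      rw [e1, e2]
    have h2 := pDvd_sum_sub_fixed hT f hf fun ψ => GlaubermanP.isIntegral_natCast _
    have h3 : PDvd p (∑ ψ ∈ Finset.univ.filter (· ∈ MulAction.fixedPoints T (IrrCharacter M)),
        f ψ) := by
      refine pDvd_sum fun ψ hψ => ?_
      rw [← mul_one (f ψ)]
      refine pDvd_natCast_mul ?_ isIntegral_one
      rcases eq_or_ne ψ θ with rfl | hne
      · rw [hm0, zero_mul]; exact dvd_zero p
      · refine Dvd.dvd.mul_left ?_ _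
        by_contra hd
        have hψi : Inv φT (ψ : M → ℂ) := fun a g => by
          have h5 := (Finset.mem_filter.1 hψ).2 a⁻¹
          have h4 : (ψ : M → ℂ) (φT a⁻¹⁻¹ g) = (ψ : M → ℂ) g :=
            congrFun (congrArg Subtype.val h5) g
          rwa [inv_inv] at h4
        exact hne (mult_injective hSM hιfix ψ θ hψi hθT hd
          ((corr_spec hSM hιfix ⟨θ, hθT⟩ θs).1 rfl))
    have h4 := h2.add h3
    rw [sub_add_cancel] at h4
    have h5 : PDvd p (((N₁ : ℤ)) : ℂ) := by simpa [N₁, f] using h4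
    exact Int.natCast_dvd_natCast.1 (int_dvd_of_pDvd h5)
  have hb : ¬ p ∣ mult (fixSub φ T).subtype χ.1 β := (corr_spec hS hι χ β).1 hχ
  have he : ¬ p ∣ mult CM.subtype β θs := by
    refine not_dvd_coeff CM (fun h => hpG (h.trans (Subgroup.card_subgroup_dvd_card _))) β.2 θs.2
      (classInner_eq_mult CM.subtype β θs) fun h => hβ ?_
    refine (classInner_eq_mult CM.subtype β θs).trans ?_
    rw [h, Nat.cast_zero]
  rw [hN] at h1
  simp only [N₂] at h1
  rw [← Finset.add_sum_erase _ _ (Finset.mem_univ β)] at h1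
  have h6 : p ∣ ∑ γ ∈ Finset.univ.erase β,
      mult (fixSub φ T).subtype χ.1 γ * mult CM.subtype γ θs := by
    refine Finset.dvd_sum fun γ hγ => Dvd.dvd.mul_right ?_ _
    by_contra hd
    exact (Finset.mem_erase.1 hγ).1
      (((corr_spec hS hι χ γ).2 hd).symm.trans hχ)
  exact (hp.out.dvd_mul.1 ((Nat.dvd_add_left h6).1 h1)).elim hb he

/-- Some irreducible character lies over a given one. -/
theorem exists_over {G : Type v} [Group G] [Fintype G] (M : Subgroup G) [Fintype M]
    {θ : M → ℂ} (hθ : IsIrrCharacter M θ) :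
    ∃ χ : IrrCharacter G, classInner (fun n : M => (χ : G → ℂ) n) θ ≠ 0 := by
  classical
  by_contra hc
  push_neg at hc
  have h0 : indFun M θ = 0 := by
    rw [eq_sum_classInner (CharInduced.isClassFunction_ind M θ)]
    refine Finset.sum_eq_zero fun χ _ => ?_
    rw [CharInduced.inner_ind_left M θ (CharInduced.isClassFunction_irr χ.2),
      ← CharInduced.inner_conj_symm, hc χ, map_zero, zero_smul]
  have h1 := congrFun h0 1
  rw [CharInduced.ind_one_apply, Pi.zero_apply, mul_eq_zero, Nat.cast_eq_zero] at h1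
  exact h1.elim Subgroup.index_ne_zero_of_finite (isIrrCharacter_apply_one_ne_zero hθ)

theorem exists_inv_above_aux (n : ℕ) : ∀ {A : Type u} [Group A] [Finite A], Nat.card A ≤ n →
    Group.IsSolvable A → ∀ {G : Type v} [Group G] [Fintype G] (φ : A →* MulAut G),
    (Nat.card G).Coprime (Nat.card A) → ∀ (M : Subgroup G) [M.Normal]
    (hM : ∀ a, ∀ m ∈ M, φ a m ∈ M) (θ : IrrCharacter M), Inv (resSub φ M hM) (θ : M → ℂ) →
    ∃ χ : IrrCharacter G, Inv φ (χ : G → ℂ) ∧
      ∀ [Fintype M], classInner (fun n : M => (χ : G → ℂ) n) (θ : M → ℂ) ≠ 0 := by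
  induction n with
  | zero => intro A _ _ h; exact absurd h (by have := Nat.card_pos (α := A); omega)
  | succ n ih =>
    intro A _ _ hn hsol G _ _ φ hcop M _ hM θ hθ
    classical
    rcases subsingleton_or_nontrivial A with hs | hs
    · haveI iM : Fintype M := Fintype.ofFinite M
      obtain ⟨χ, hχ⟩ := exists_over M θ.2
      refine ⟨χ, fun a g => by rw [Subsingleton.elim a 1, map_one]; rfl, ?_⟩
      intro inst
      obtain rfl : inst = iM := Subsingleton.elim _ _
      exact hχ
    · obtain ⟨p, T, hp, hTn, hT, hT1⟩ := exists_normal_pSubgroup hsol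
      haveI : Fact p.Prime := ⟨hp⟩
      have hpG : ¬ p ∣ Nat.card G := by
        intro h
        obtain ⟨k, hk⟩ := IsPGroup.iff_card.mp hT
        have hk0 : k ≠ 0 := fun h0 => hT1 (Subgroup.card_eq_one.mp (by rw [hk, h0, pow_zero]))
        exact hp.not_dvd_one (hcop ▸ Nat.dvd_gcd h
          ((hk ▸ dvd_pow_self p hk0).trans (Subgroup.card_subgroup_dvd_card T)))
      refine step φ M hM T hT hpG θ hθ fun θ' hθ' => ?_
      haveI := Fintype.ofFinite (fixSub φ T)
      let ψ : A ⧸ T →* MulAut (fixSub φ T) :=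
        QuotientGroup.lift T (resHom φ T) (le_ker_resHom φ T)
      have hlt : Nat.card (A ⧸ T) ≤ n := by
        have h2 : 1 < Nat.card T := Subgroup.one_lt_card_iff_ne_bot T |>.mpr hT1
        have h3 := Subgroup.card_eq_card_quotient_mul_card_subgroup T
        have h4 : 0 < Nat.card (A ⧸ T) := Nat.card_pos
        have : Nat.card (A ⧸ T) < Nat.card A := by rw [h3]; exact lt_mul_of_one_lt_right h4 h2
        omega
      obtain ⟨β, hβ, hβ'⟩ := ih hlt (Group.isSolvable_of_surjective (QuotientGroup.mk'_surjective T))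
        ψ (Nat.Coprime.coprime_dvd_left (Subgroup.card_subgroup_dvd_card _)
          (Nat.Coprime.coprime_dvd_right (Subgroup.card_quotient_dvd_card T) hcop))
        (M.subgroupOf (fixSub φ T))
        (fun b m hm => by
          obtain ⟨a, rfl⟩ := QuotientGroup.mk_surjective b
          exact hMres φ M T a m hm hM)
        θ' (fun b m => by
          obtain ⟨a, rfl⟩ := QuotientGroup.mk_surjective b
          exact hθ' a m)
      exact ⟨β, fun a g => hβ (QuotientGroup.mk a) g, hβ'⟩

/-- An invariant character lies over every invariant character of an invariant normal subgroup. -/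
theorem exists_inv_above {A : Type u} [Group A] [Finite A] (hA : Group.IsSolvable A)
    {G : Type v} [Group G] [Fintype G] (φ : A →* MulAut G)
    (hcop : (Nat.card G).Coprime (Nat.card A)) (M : Subgroup G) [M.Normal]
    (hM : ∀ a, ∀ m ∈ M, φ a m ∈ M) (θ : IrrCharacter M)
    (hθ : Inv (resSub φ M hM) (θ : M → ℂ)) :
    ∃ χ : IrrCharacter G, Inv φ (χ : G → ℂ) ∧
      ∀ [Fintype M], classInner (fun n : M => (χ : G → ℂ) n) (θ : M → ℂ) ≠ 0 :=
  exists_inv_above_aux _ le_rfl hA φ hcop M hM θ hθ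

end Cfsg.Agent.GlaubermanAbove
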