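import Mathlib
import Cfsg.Agent.Lib.CharBasicLinear
import Cfsg.Agent.Lib.CharInducedRep
import Cfsg.Agent.Lib.CharInducedClifford
import Cfsg.Agent.Lib.GlaubermanAbove
import Cfsg.Agent.Lib.CoprimeActionAut

/-!
# Invariant constituents, coprime layers

`A` acts on `G`, leaves the normal subgroup `M` invariant, the part `B` of `A` acts by inner
automorphisms from `M`, and the orders of `A ⧸ B` and `G ⧸ M` are coprime.

* `exists_inv_below` : an invariant character has an invariant constituent on `M`.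
* `exists_inv_over_abelian`, `exists_inv_over` : for solvable `G ⧸ M` an invariant character of
  `M` lies under an invariant character of `G`.
-/

set_option autoImplicit false
set_option linter.unusedSectionVars false

open scoped ComplexConjugate commutatorElement

namespace Cfsg.Agent.GlaubermanLayers

open Cfsg Cfsg.Agent.CharBasic Cfsg.Agent.CharBasicOrth Cfsg.Agent.CharBasicDecomp
  Cfsg.Agent.GlaubermanP Cfsg.Agent.GlaubermanAbove

universe u v

/-- A fixed point in an invariant orbit. -/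
theorem exists_fixed_pair {Q A Ω : Type*} [Group Q] [Group A] [Finite Q] [Finite A]
    (ψ : A →* MulAut Q) (fQ : Q →* Equiv.Perm Ω) (fA : A →* Equiv.Perm Ω)
    (hcompat : ∀ (a : A) (q : Q), fA a * fQ q = fQ (ψ a q) * fA a)
    (hcop : (Nat.card A).Coprime (Nat.card Q))
    (hsolv : Group.IsSolvable A ∨ Group.IsSolvable Q) (x : Ω)
    (h : ∀ a, ∃ q, fQ q x = fA a x) : ∃ q, ∀ a, fA a (fQ q x) = fQ q x := by
  haveI := CoprimeActionAut.finite_semidirect ψ
  let F : Q ⋊[ψ] A →* Equiv.Perm Ω := SemidirectProduct.lift fQ fA fun a =>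
    MonoidHom.ext fun q => by
      show fQ (ψ a q) = fA a * fQ q * (fA a)⁻¹
      rw [hcompat, mul_inv_cancel_right]
  letI : MulAction (Q ⋊[ψ] A) Ω := MulAction.compHom Ω F
  have hs : ∀ g : Q ⋊[ψ] A, ∀ y : Ω, g • y = F g y := fun _ _ => rfl
  obtain ⟨k, ⟨q, rfl⟩, hk⟩ := CoprimeAction.exists_fixed_point
    (CoprimeActionAut.act_le_normalizer_base ψ) (CoprimeActionAut.coprime_act_base ψ hcop)
    (CoprimeActionAut.isSolvable_act_or_base ψ hsolv) x (by
      rintro _ ⟨a, rfl⟩
      obtain ⟨q, hq⟩ := h a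
      refine ⟨SemidirectProduct.inl q, ⟨q, rfl⟩, ?_⟩
      simp only [hs, F, SemidirectProduct.lift_inl, SemidirectProduct.lift_inr]
      exact hq)
  refine ⟨q, fun a => ?_⟩
  have h1 := hk (SemidirectProduct.inr a) ⟨a, rfl⟩
  simpa only [hs, F, SemidirectProduct.lift_inl, SemidirectProduct.lift_inr] using h1

variable {A : Type u} {G : Type v} [Group A] [Group G]

/-- The induced action on a quotient. -/
def quotHom (φ : A →* MulAut G) (M : Subgroup G) [M.Normal] (hM : ∀ a, ∀ m ∈ M, φ a m ∈ M) :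
    A →* MulAut (G ⧸ M) where
  toFun a :=
    { toFun := QuotientGroup.map M M (φ a).toMonoidHom (fun m hm => hM a m hm)
      invFun := QuotientGroup.map M M (φ a⁻¹).toMonoidHom (fun m hm => hM a⁻¹ m hm)
      left_inv := fun q => QuotientGroup.induction_on q fun g => by simp
      right_inv := fun q => QuotientGroup.induction_on q fun g => by simp
      map_mul' := map_mul _ }
  map_one' := by
    ext q
    refine QuotientGroup.induction_on q fun g => ?_
    simp
  map_mul' a b := by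
    ext q
    refine QuotientGroup.induction_on q fun g => ?_
    simp

theorem quotHom_mk (φ : A →* MulAut G) (M : Subgroup G) [M.Normal]
    (hM : ∀ a, ∀ m ∈ M, φ a m ∈ M) (a : A) (g : G) :
    quotHom φ M hM a (g : G ⧸ M) = ((φ a g : G) : G ⧸ M) := rfl

theorem isClassFunction_comap_equiv {H : Type*} [Group H] (e : H ≃* H) {f : H → ℂ}
    (hf : IsClassFunction H f) : IsClassFunction H (fun h => f (e h)) := fun g h => by
  show f (e (h * g * h⁻¹)) = f (e g)
  rw [map_mul, map_mul, map_inv]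
  exact hf _ _

/-- The class functions. -/
abbrev CF (H : Type*) [Group H] : Type _ := {f : H → ℂ // IsClassFunction H f}

/-- The action on class functions. -/
def cfHom {H : Type*} [Group H] (φ : A →* MulAut H) : A →* Equiv.Perm (CF H) where
  toFun a :=
    { toFun := fun f => ⟨fun h => f.1 (φ a⁻¹ h), isClassFunction_comap_equiv (φ a⁻¹) f.2⟩
      invFun := fun f => ⟨fun h => f.1 (φ a h), isClassFunction_comap_equiv (φ a) f.2⟩
      left_inv := fun f => Subtype.ext (funext fun h => by simp)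
      right_inv := fun f => Subtype.ext (funext fun h => by simp) }
  map_one' := by ext f; simp
  map_mul' a b := by ext f h; simp

theorem cfHom_apply {H : Type*} [Group H] (φ : A →* MulAut H) (a : A) (f : CF H) (h : H) :
    (cfHom φ a f).1 h = f.1 (φ a⁻¹ h) := rfl

variable [Finite A] [Fintype G] (φ : A →* MulAut G) (M : Subgroup G) [M.Normal]
  (hM : ∀ a, ∀ m ∈ M, φ a m ∈ M) (B : Subgroup A) [B.Normal]
  (hB : ∀ b ∈ B, ∃ m ∈ M, ∀ g, φ b g = m * g * m⁻¹)

/-- An invariant character has an invariant constituent below. -/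
theorem exists_inv_below [Fintype M] (hcop : (Nat.card (A ⧸ B)).Coprime M.index)
    (hB : ∀ b ∈ B, ∃ m ∈ M, ∀ g, φ b g = m * g * m⁻¹)
    (hsolv : Group.IsSolvable (A ⧸ B) ∨ Group.IsSolvable (G ⧸ M)) (χ : IrrCharacter G)
    (hχ : Inv φ (χ : G → ℂ)) :
    ∃ θ : IrrCharacter M, classInner (fun n : M => (χ : G → ℂ) n) (θ : M → ℂ) ≠ 0 ∧
      Inv (resSub φ M hM) (θ : M → ℂ) := by
  classical
  let φM := resSub φ M hM
  -- a constituent
  obtain ⟨θ₀, hθ₀⟩ : ∃ θ : IrrCharacter M,
      classInner (fun n : M => (χ : G → ℂ) n) (θ : M → ℂ) ≠ 0 := by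
    by_contra hc
    push_neg at hc
    have h0 : (fun n : M => (χ : G → ℂ) n) = 0 := by
      rw [eq_sum_classInner (CharInduced.isClassFunction_res M (CharInduced.isClassFunction_irr χ.2))]
      exact Finset.sum_eq_zero fun θ _ => by rw [hc θ, zero_smul]
    exact isIrrCharacter_apply_one_ne_zero χ.2 (congrFun h0 1)
  let conjF : G →* MulAut M := MulAut.conjNormal
  let fG : G →* Equiv.Perm (CF M) := cfHom conjF
  have hker : M ≤ fG.ker := fun m hm => by
    refine Equiv.ext fun f => Subtype.ext (funext fun n => ?_)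
    show f.1 (conjF m⁻¹ n) = f.1 n
    rw [show conjF m⁻¹ n = (⟨m, hm⟩ : M)⁻¹ * n * (⟨m, hm⟩ : M)⁻¹⁻¹ from
      Subtype.ext (by simp [conjF, MulAut.conjNormal_apply])]
    exact f.2 _ _
  let fQ : G ⧸ M →* Equiv.Perm (CF M) := QuotientGroup.lift M fG hker
  have hBker : B ≤ (cfHom φM).ker := fun b hb => by
    obtain ⟨m, hm, hbm⟩ := hB b⁻¹ (B.inv_mem hb)
    refine Equiv.ext fun f => Subtype.ext (funext fun n => ?_)
    show f.1 (φM b⁻¹ n) = f.1 n
    rw [show φM b⁻¹ n = (⟨m, hm⟩ : M) * n * (⟨m, hm⟩ : M)⁻¹ from Subtype.ext (hbm n)]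
    exact f.2 _ _
  let fA : A ⧸ B →* Equiv.Perm (CF M) := QuotientGroup.lift B (cfHom φM) hBker
  have hψker : B ≤ (quotHom φ M hM).ker := fun b hb => by
    obtain ⟨m, hm, hbm⟩ := hB b hb
    refine MulEquiv.ext fun q => QuotientGroup.induction_on q fun g => ?_
    show ((φ b g : G) : G ⧸ M) = (g : G ⧸ M)
    rw [hbm, QuotientGroup.mk_mul, QuotientGroup.mk_mul,
      (QuotientGroup.eq_one_iff m).2 hm, QuotientGroup.mk_inv, (QuotientGroup.eq_one_iff m).2 hm]
    simp
  let ψ : A ⧸ B →* MulAut (G ⧸ M) := QuotientGroup.lift B (quotHom φ M hM) hψker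
  let x : CF M := ⟨θ₀, CharInduced.isClassFunction_irr θ₀.2⟩
  obtain ⟨q, hq⟩ := exists_fixed_pair ψ fQ fA (by
      intro a q
      obtain ⟨a, rfl⟩ := QuotientGroup.mk_surjective a
      obtain ⟨g, rfl⟩ := QuotientGroup.mk_surjective q
      refine Equiv.ext fun f => Subtype.ext (funext fun n => ?_)
      show f.1 (conjF g⁻¹ (φM a⁻¹ n)) = f.1 (φM a⁻¹ (conjF (φ a g)⁻¹ n))
      apply congrArg f.1
      apply Subtype.ext
      simp only [conjF, φM, MulAut.conjNormal_apply, resSub_apply, inv_inv, map_mul]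
      have e : φ a⁻¹ (φ a g) = g := by
        rw [← MulAut.mul_apply, ← map_mul, inv_mul_cancel, map_one]; rfl
      simp only [map_inv (φ a⁻¹), e])
    hcop hsolv x (by
      intro a
      obtain ⟨a, rfl⟩ := QuotientGroup.mk_surjective a
      let θ₁ : IrrCharacter M :=
        ⟨(θ₀ : M → ℂ) ∘ (φM a⁻¹).toMonoidHom, isIrrCharacter_comap _ (φM a⁻¹).surjective θ₀.2⟩
      have h1 : classInner (fun n : M => (χ : G → ℂ) n) (θ₁ : M → ℂ) ≠ 0 := by
        rw [← classInner_congr_equiv (φM a)]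
        convert hθ₀ using 2
        · funext n; exact hχ a n
        · funext n
          show (θ₀ : M → ℂ) (φM a⁻¹ (φM a n)) = (θ₀ : M → ℂ) n
          congr 1
          simp
      obtain ⟨g, hg⟩ := (CharInduced.mem_orbitFin M).1
        (CharInduced.mem_orbit_of_constituents M χ.2 θ₀.2 θ₁.2 hθ₀ h1)
      refine ⟨((g⁻¹ : G) : G ⧸ M), Subtype.ext (funext fun n => ?_)⟩
      show (θ₀ : M → ℂ) (conjF g⁻¹⁻¹ n) = (θ₁ : M → ℂ) n
      rw [← hg, inv_inv]
      exact congrArg _ (Subtype.ext (MulAut.conjNormal_apply g n)))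
  obtain ⟨g, rfl⟩ := QuotientGroup.mk_surjective q
  refine ⟨⟨CharInduced.conjFun M θ₀ g⁻¹, CharInduced.isIrrCharacter_conjFun M θ₀.2 g⁻¹⟩, ?_,
    fun a n => ?_⟩
  · show classInner _ (CharInduced.conjFun M θ₀ g⁻¹) ≠ 0
    rw [CharInduced.classInner_res_conjFun M (CharInduced.isClassFunction_irr χ.2)]
    exact hθ₀
  · have h1 : (cfHom φM a⁻¹ (fG g x)).1 n = (fG g x).1 n :=
      congrFun (congrArg Subtype.val (hq (QuotientGroup.mk a⁻¹))) n
    have h2 : ∀ k : M, (fG g x).1 k = CharInduced.conjFun M θ₀ g⁻¹ k := fun k =>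
      congrArg (θ₀ : M → ℂ) (Subtype.ext (MulAut.conjNormal_apply g⁻¹ k))
    rw [cfHom_apply, inv_inv, h2, h2] at h1
    exact h1

/-- Two characters over the same character of `M` differ by a linear character when `G ⧸ M` is
abelian. -/
theorem exists_linear_twist [Fintype M] (hab : commutator G ≤ M) {θ : M → ℂ}
    (hθ : IsIrrCharacter M θ) {χ χ' : G → ℂ} (hχ : IsIrrCharacter G χ) (hχ' : IsIrrCharacter G χ')
    (h : classInner (fun n : M => χ n) θ ≠ 0) (h' : classInner (fun n : M => χ' n) θ ≠ 0) :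
    ∃ lam : G →* ℂˣ, (∀ m ∈ M, lam m = 1) ∧ χ' = fun g => χ g * (lam g : ℂ) := by
  classical
  letI : CommGroup (G ⧸ M) :=
    { (inferInstance : Group (G ⧸ M)) with
      mul_comm := fun a b => by
        obtain ⟨a, rfl⟩ := QuotientGroup.mk_surjective a
        obtain ⟨b, rfl⟩ := QuotientGroup.mk_surjective b
        rw [← QuotientGroup.mk_mul, ← QuotientGroup.mk_mul, QuotientGroup.eq]
        have : (a * b)⁻¹ * (b * a) = ⁅b⁻¹, a⁻¹⁆ := by rw [commutatorElement_def]; group
        rw [this]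
        exact hab (Subgroup.commutator_mem_commutator (Subgroup.mem_top _) (Subgroup.mem_top _)) }
  haveI : Finite ((G ⧸ M) →* ℂˣ) :=
    Finite.of_equiv _ (CharBasicLinear.linearEquiv (G ⧸ M)).symm
  haveI := Fintype.ofFinite ((G ⧸ M) →* ℂˣ)
  by_contra hc
  have hzero : ∀ l : (G ⧸ M) →* ℂˣ,
      classInner (fun g => χ g * (l (g : G ⧸ M) : ℂ)) χ' = 0 := fun l =>
    classInner_irr_ne (isIrrCharacter_mul_linear hχ (l.comp (QuotientGroup.mk' M))) hχ' fun e =>
      hc ⟨l.comp (QuotientGroup.mk' M), fun m hm => by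
        simp [(QuotientGroup.eq_one_iff m).2 hm], e.symm⟩
  have hchar : ∀ g : G, ∑ l : (G ⧸ M) →* ℂˣ, (l (g : G ⧸ M) : ℂ) =
      if g ∈ M then (Fintype.card ((G ⧸ M) →* ℂˣ) : ℂ) else 0 := by
    intro g
    split_ifs with hg
    · simp [(QuotientGroup.eq_one_iff g).2 hg]
    · obtain ⟨l₀, hl₀⟩ := CommGroup.exists_apply_ne_one_of_hasEnoughRootsOfUnity (G ⧸ M) ℂ
        (a := (g : G ⧸ M)) fun e => hg ((QuotientGroup.eq_one_iff g).1 e)
      let ev : ((G ⧸ M) →* ℂˣ) →* ℂ :=
        { toFun := fun l => (l (g : G ⧸ M) : ℂ), map_one' := by simp, map_mul' := fun a b => by simp }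
      refine sum_hom_units_eq_zero ev fun e => hl₀ (Units.ext ?_)
      simpa [ev] using DFunLike.congr_fun e l₀
  have hsum : (Fintype.card ((G ⧸ M) →* ℂˣ) : ℂ) *
      ∑ m : M, χ m * conj (χ' m) = 0 := by
    have h1 : ∑ l : (G ⧸ M) →* ℂˣ, ∑ g : G, χ g * (l (g : G ⧸ M) : ℂ) * conj (χ' g) = 0 :=
      Finset.sum_eq_zero fun l _ => by
        rw [← card_mul_classInner (fun g => χ g * (l (g : G ⧸ M) : ℂ)) χ', hzero, mul_zero]
    rw [Finset.sum_comm] at h1
    simp only [mul_right_comm (χ _) _ (conj _), ← Finset.mul_sum, hchar, mul_ite, mul_zero] at h1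
    rw [← Finset.sum_filter, Finset.sum_subtype (p := fun g : G => g ∈ M) _ (fun g => by simp)
      (fun g => χ g * conj (χ' g) * (Fintype.card ((G ⧸ M) →* ℂˣ) : ℂ))] at h1
    rw [Finset.mul_sum, ← h1]
    refine Finset.sum_congr rfl fun m _ => ?_
    ring
  have h2 : classInner (fun n : M => χ n) (fun n : M => χ' n) = 0 := by
    rcases mul_eq_zero.1 hsum with e | e
    · exact absurd e (Nat.cast_ne_zero.2 Fintype.card_ne_zero)
    · rw [classInner, e, mul_zero]
  exact (CharInduced.coeff_mul_eq_zero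
    (CharInduced.isCharacter_res M (isCharacter_of_isIrrCharacter hχ))
    (CharInduced.isCharacter_res M (isCharacter_of_isIrrCharacter hχ')) h2 hθ).elim h h'

/-- The abelian layer. -/
theorem exists_inv_over_abelian [Fintype M] (hcop : (Nat.card (A ⧸ B)).Coprime M.index)
    (hB : ∀ b ∈ B, ∃ m ∈ M, ∀ g, φ b g = m * g * m⁻¹) (hab : commutator G ≤ M)
    (θ : IrrCharacter M) (hθ : Inv (resSub φ M hM) (θ : M → ℂ)) :
    ∃ χ : IrrCharacter G, classInner (fun n : M => (χ : G → ℂ) n) (θ : M → ℂ) ≠ 0 ∧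
      Inv φ (χ : G → ℂ) := by
  classical
  obtain ⟨χ₀, hχ₀⟩ := exists_over M θ.2
  let D : Subgroup (G →* ℂˣ) :=
    { carrier := {l | ∀ m ∈ M, l m = 1}
      one_mem' := fun _ _ => rfl
      mul_mem' := fun ha hb m hm => by rw [MonoidHom.mul_apply, ha m hm, hb m hm, one_mul]
      inv_mem' := fun ha m hm => by rw [MonoidHom.inv_apply, ha m hm, inv_one] }
  haveI : Finite (G →* ℂˣ) := Finite.of_equiv _ (CharBasicLinear.linearEquiv G).symm
  have hDcop : (Nat.card (A ⧸ B)).Coprime (Nat.card D) := by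
    refine Nat.coprime_of_dvd fun p hp hpA hpD => ?_
    haveI : Fact p.Prime := ⟨hp⟩
    obtain ⟨l, hl⟩ := exists_prime_orderOf_dvd_card' p hpD
    have h1 : l ^ M.index = 1 := Subtype.ext (MonoidHom.ext fun g => by
      show ((l.1 ^ M.index : G →* ℂˣ)) g = 1
      rw [MonoidHom.pow_apply, ← map_pow]
      exact l.2 _ (Subgroup.pow_index_mem M g))
    have h2 : p ∣ M.index := hl ▸ orderOf_dvd_of_pow_eq_one h1
    exact hp.not_dvd_one (hcop ▸ Nat.dvd_gcd hpA h2)
  -- operators on the linear characters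
  let ψ₀ : A →* MulAut D :=
    { toFun := fun a =>
        { toFun := fun l => ⟨l.1.comp (φ a⁻¹).toMonoidHom, fun m hm => l.2 _ (hM a⁻¹ m hm)⟩
          invFun := fun l => ⟨l.1.comp (φ a).toMonoidHom, fun m hm => l.2 _ (hM a m hm)⟩
          left_inv := fun l => Subtype.ext (MonoidHom.ext fun g => by simp)
          right_inv := fun l => Subtype.ext (MonoidHom.ext fun g => by simp)
          map_mul' := fun l l' => Subtype.ext (MonoidHom.ext fun g => by simp) }
      map_one' := by ext l g; simp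
      map_mul' := fun a b => by ext l g; simp }
  have hψker : B ≤ ψ₀.ker := fun b hb => by
    obtain ⟨m, hm, hbm⟩ := hB b⁻¹ (B.inv_mem hb)
    refine MulEquiv.ext fun l => Subtype.ext (MonoidHom.ext fun g => ?_)
    show l.1 (φ b⁻¹ g) = l.1 g
    rw [hbm, map_mul, map_mul, map_inv, mul_inv_cancel_comm]
  let ψ : A ⧸ B →* MulAut D := QuotientGroup.lift B ψ₀ hψker
  have hBker : B ≤ (cfHom φ).ker := fun b hb => by
    obtain ⟨m, hm, hbm⟩ := hB b⁻¹ (B.inv_mem hb)
    refine Equiv.ext fun f => Subtype.ext (funext fun n => ?_)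
    show f.1 (φ b⁻¹ n) = f.1 n
    rw [hbm]
    exact f.2 _ _
  let fA : A ⧸ B →* Equiv.Perm (CF G) := QuotientGroup.lift B (cfHom φ) hBker
  let fD : D →* Equiv.Perm (CF G) :=
    { toFun := fun l =>
        { toFun := fun f => ⟨fun g => f.1 g * (l.1 g : ℂ), fun g h => by
            show f.1 (h * g * h⁻¹) * (l.1 (h * g * h⁻¹) : ℂ) = f.1 g * (l.1 g : ℂ)
            rw [f.2, map_mul, map_mul, map_inv, mul_inv_cancel_comm]⟩
          invFun := fun f => ⟨fun g => f.1 g * ((l.1 g)⁻¹ : ℂˣ), fun g h => by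
            show f.1 (h * g * h⁻¹) * ((l.1 (h * g * h⁻¹))⁻¹ : ℂˣ) = f.1 g * ((l.1 g)⁻¹ : ℂˣ)
            rw [f.2, map_mul, map_mul, map_inv, mul_inv_cancel_comm]⟩
          left_inv := fun f => Subtype.ext (funext fun g => by simp)
          right_inv := fun f => Subtype.ext (funext fun g => by simp) }
      map_one' := by ext f g; simp
      map_mul' := fun l l' => by ext f g; simp [mul_assoc, mul_comm ((l.1 g : ℂ)) _] }
  let x : CF G := ⟨χ₀, CharInduced.isClassFunction_irr χ₀.2⟩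
  obtain ⟨l, hl⟩ := exists_fixed_pair ψ fD fA (by
      intro a l
      obtain ⟨a, rfl⟩ := QuotientGroup.mk_surjective a
      refine Equiv.ext fun f => Subtype.ext (funext fun g => ?_)
      rfl)
    hDcop (Or.inr (Group.isSolvable_of_comm fun a b => mul_comm a b)) x (by
      intro a
      obtain ⟨a, rfl⟩ := QuotientGroup.mk_surjective a
      let χ₁ : IrrCharacter G :=
        ⟨(χ₀ : G → ℂ) ∘ (φ a⁻¹).toMonoidHom, isIrrCharacter_comap _ (φ a⁻¹).surjective χ₀.2⟩
      have h1 : classInner (fun n : M => (χ₁ : G → ℂ) n) (θ : M → ℂ) ≠ 0 := by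
        rw [← classInner_congr_equiv (resSub φ M hM a)]
        convert hχ₀ using 2
        · funext n
          show (χ₀ : G → ℂ) (φ a⁻¹ (φ a (n : G))) = (χ₀ : G → ℂ) n
          congr 1
          simp
        · funext n; exact hθ a n
      obtain ⟨lam, hlam, he⟩ := exists_linear_twist M hab θ.2 χ₀.2 χ₁.2 hχ₀ h1
      exact ⟨⟨lam, hlam⟩, Subtype.ext he.symm⟩)
  refine ⟨⟨fun g => (χ₀ : G → ℂ) g * (l.1 g : ℂ), isIrrCharacter_mul_linear χ₀.2 l.1⟩, ?_,
    fun a g => ?_⟩
  · convert hχ₀ using 2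
    funext n
    show (χ₀ : G → ℂ) n * (l.1 n : ℂ) = (χ₀ : G → ℂ) n
    rw [l.2 n n.2, Units.val_one, mul_one]
  · have h1 : (cfHom φ a⁻¹ (fD l x)).1 g = (fD l x).1 g :=
      congrFun (congrArg Subtype.val (hl (QuotientGroup.mk a⁻¹))) g
    rw [cfHom_apply, inv_inv] at h1
    exact h1

/-- Constituency is transitive. -/
theorem over_trans {G : Type v} [Group G] [Fintype G] {L : Subgroup G} [Fintype L] {M : Subgroup G}
    [Fintype M] (hML : M ≤ L) {χ : G → ℂ} (hχ : IsCharacter G χ) {ψ : L → ℂ}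
    (hψ : IsIrrCharacter L ψ) {θ : M → ℂ} (hθ : IsIrrCharacter M θ)
    (h1 : classInner (fun n : L => χ n) ψ ≠ 0)
    (h2 : classInner (fun n : M => ψ ⟨n, hML n.2⟩) θ ≠ 0) :
    classInner (fun n : M => χ n) θ ≠ 0 := by
  classical
  obtain ⟨m, hm, hsum⟩ := exists_mult (CharInduced.isCharacter_res L hχ)
  have hres : ∀ φ : IrrCharacter L, ∃ k : ℕ,
      classInner (fun n : M => (φ : L → ℂ) ⟨n, hML n.2⟩) θ = k := fun φ =>
    classInner_isCharacter
      (isCharacter_comap (Subgroup.inclusion hML) (isCharacter_of_isIrrCharacter φ.2))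
      (isCharacter_of_isIrrCharacter hθ)
  choose k hk using hres
  have e : (fun n : M => χ n) = ∑ φ : IrrCharacter L,
      (m φ : ℂ) • fun n : M => (φ : L → ℂ) ⟨n, hML n.2⟩ := funext fun n => by
    have h := congrFun hsum (⟨n, hML n.2⟩ : L)
    simpa [Finset.sum_apply] using h
  rw [e, classInner_sum_left]
  simp only [classInner_smul_left, hk, ← Nat.cast_mul, ← Nat.cast_sum, Nat.cast_ne_zero]
  intro h0
  have h3 := (Finset.sum_eq_zero_iff.1 h0) ⟨ψ, hψ⟩ (Finset.mem_univ _)
  rcases mul_eq_zero.1 h3 with e | e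
  · exact h1 (by rw [hm ⟨ψ, hψ⟩, e, Nat.cast_zero])
  · exact h2 (by rw [hk ⟨ψ, hψ⟩, e, Nat.cast_zero])

theorem exists_inv_over_aux (n : ℕ) : ∀ {G : Type v} [Group G] [Fintype G], Nat.card G ≤ n →
    ∀ (φ : A →* MulAut G) (M : Subgroup G) [M.Normal] [Fintype M]
      (hM : ∀ a, ∀ m ∈ M, φ a m ∈ M), (Nat.card (A ⧸ B)).Coprime M.index →
      (∀ b ∈ B, ∃ m ∈ M, ∀ g, φ b g = m * g * m⁻¹) → Group.IsSolvable (G ⧸ M) →
      ∀ θ : IrrCharacter M, Inv (resSub φ M hM) (θ : M → ℂ) →
      ∃ χ : IrrCharacter G, classInner (fun n : M => (χ : G → ℂ) n) (θ : M → ℂ) ≠ 0 ∧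
        Inv φ (χ : G → ℂ) := by
  induction n with
  | zero => intro G _ _ h; exact absurd h (by have := Nat.card_pos (α := G); omega)
  | succ n ih =>
    intro G _ _ hn φ M _ _ hM hcop hB hsol θ hθ
    classical
    by_cases hab : commutator G ≤ M
    · exact exists_inv_over_abelian φ M hM B hcop hB hab θ hθ
    let L : Subgroup G := commutator G ⊔ M
    have hML : M ≤ L := le_sup_right
    haveI : L.Normal := Subgroup.sup_normal _ _
    have hL : ∀ a, ∀ l ∈ L, φ a l ∈ L := by
      intro a l hl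
      have : L ≤ L.comap (φ a).toMonoidHom := sup_le
        (fun x hx => Subgroup.mem_sup_left (by
          have h : φ a x ∈ (commutator G).map (φ a).toMonoidHom := ⟨x, hx, rfl⟩
          rwa [commutator_def, Subgroup.map_commutator,
            Subgroup.map_top_of_surjective _ (φ a).surjective, ← commutator_def] at h))
        (fun x hx => Subgroup.mem_sup_right (hM a x hx))
      exact this hl
    have hLtop : L ≠ ⊤ := by
      intro e
      haveI : Nontrivial (G ⧸ M) := QuotientGroup.nontrivial_iff.2 fun e' => hab (e'.symm ▸ le_top)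
      have h1 : commutator (G ⧸ M) = ⊤ := by
        rw [commutator_def, ← Subgroup.map_top_of_surjective _ (QuotientGroup.mk'_surjective M),
          ← Subgroup.map_commutator, ← commutator_def]
        have h2 := congrArg (Subgroup.map (QuotientGroup.mk' M)) e
        simp only [L, Subgroup.map_sup, QuotientGroup.map_mk'_self, sup_bot_eq] at h2
        exact h2
      exact (ne_of_lt (IsSolvable.commutator_lt_top_of_nontrivial (G ⧸ M))) h1
    have hlt : Nat.card L ≤ n := by
      have h1 := L.card_mul_index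
      have h2 : 1 < L.index := Nat.one_lt_iff_ne_zero_and_ne_one.2
        ⟨L.index_ne_zero_of_finite, fun e => hLtop (Subgroup.index_eq_one.1 e)⟩
      have h3 : Nat.card L < Nat.card G := by
        rw [← h1]; exact lt_mul_of_one_lt_right Nat.card_pos h2
      omega
    haveI := Fintype.ofFinite L
    haveI := Fintype.ofFinite (M.subgroupOf L)
    let e := Subgroup.subgroupOfEquivOfLe hML
    let θ' : IrrCharacter (M.subgroupOf L) :=
      ⟨(θ : M → ℂ) ∘ e.toMonoidHom, isIrrCharacter_comap _ e.surjective θ.2⟩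
    have hsolL : Group.IsSolvable (L ⧸ M.subgroupOf L) := by
      refine Group.isSolvable_of_isSolvable_injective (f := QuotientGroup.map (M.subgroupOf L) M
        L.subtype fun x hx => hx) ?_
      intro a b hab'
      obtain ⟨a, rfl⟩ := QuotientGroup.mk_surjective a
      obtain ⟨b, rfl⟩ := QuotientGroup.mk_surjective b
      have h1 : ((a : G) : G ⧸ M) = ((b : G) : G ⧸ M) := hab'
      exact QuotientGroup.eq.2 (QuotientGroup.eq.1 h1 : ((a : G))⁻¹ * (b : G) ∈ M)
    obtain ⟨χ₁, hχ₁, hinv₁⟩ := ih hlt (resSub φ L hL) (M.subgroupOf L) (fun a m hm => hM a m hm)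
      (hcop.coprime_dvd_right (Subgroup.relIndex_dvd_index_of_normal M L))
      (fun b hb => by
        obtain ⟨m, hm, h⟩ := hB b hb
        exact ⟨⟨m, hML hm⟩, hm, fun l => Subtype.ext (h l)⟩)
      hsolL θ' (fun a m => hθ a (e m))
    obtain ⟨χ, hχ, hinv⟩ := exists_inv_over_abelian φ L hL B
      (hcop.coprime_dvd_right (Subgroup.index_dvd_of_le hML))
      (fun b hb => by
        obtain ⟨m, hm, h⟩ := hB b hb
        exact ⟨m, hML hm, h⟩)
      le_sup_left χ₁ hinv₁
    refine ⟨χ, over_trans hML (isCharacter_of_isIrrCharacter χ.2) χ₁.2 θ.2 hχ ?_, hinv⟩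
    rw [← classInner_congr_equiv e]
    exact hχ₁

/-- The solvable layer. -/
theorem exists_inv_over [Fintype M] (hcop : (Nat.card (A ⧸ B)).Coprime M.index)
    (hB : ∀ b ∈ B, ∃ m ∈ M, ∀ g, φ b g = m * g * m⁻¹) (hsol : Group.IsSolvable (G ⧸ M))
    (θ : IrrCharacter M) (hθ : Inv (resSub φ M hM) (θ : M → ℂ)) :
    ∃ χ : IrrCharacter G, classInner (fun n : M => (χ : G → ℂ) n) (θ : M → ℂ) ≠ 0 ∧
      Inv φ (χ : G → ℂ) :=
  exists_inv_over_aux B _ le_rfl φ M hM hcop hB hsol θ hθ

end Cfsg.Agent.GlaubermanLayers
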