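import Mathlib
import Cfsg.Agent.Lib.CharCliffordCorr
import Cfsg.Agent.Lib.CharGallagher
import Cfsg.Agent.Lib.CharKernel
import Cfsg.Agent.Lib.GlaubermanLayers
import Cfsg.Agent.Lib.GlaubermanCyclic

/-!
# The correspondence for a p-group acting on a group with normal Sylow p-subgroup

`A` is a p-group acting on `K`, `Q` an invariant normal p-subgroup of index prime to `p`, and
`C ⧸ Q` the fixed points on `K ⧸ Q`.

* `main` : the unique invariant constituent on `C` of multiplicity prime to `p`.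
* `correspondent_injective`, `correspondent_surjective`.
-/

set_option autoImplicit false
set_option linter.unusedSectionVars false

open scoped ComplexConjugate

namespace Cfsg.Agent.GlaubermanNormalSylow

open Cfsg Cfsg.Agent.CharBasic Cfsg.Agent.CharBasicOrth Cfsg.Agent.CharBasicDecomp
  Cfsg.Agent.GlaubermanP Cfsg.Agent.GlaubermanAbove Cfsg.Agent.GlaubermanLayers

universe u v

/-- A conjugation between fixed points by a fixed element. -/
theorem exists_fixed_conjugator {Q A Ω : Type*} [Group Q] [Group A] [Finite Q] [Finite A]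
    (ψ : A →* MulAut Q) (fQ : Q →* Equiv.Perm Ω) (fA : A →* Equiv.Perm Ω)
    (hcompat : ∀ (a : A) (q : Q), fA a * fQ q = fQ (ψ a q) * fA a)
    (hcop : (Nat.card A).Coprime (Nat.card Q))
    (hsolv : Group.IsSolvable A ∨ Group.IsSolvable Q) {x y : Ω}
    (hx : ∀ a, fA a x = x) (hy : ∀ a, fA a y = y) (h : ∃ q, fQ q x = y) :
    ∃ q, (∀ a, ψ a q = q) ∧ fQ q x = y := by
  haveI := CoprimeActionAut.finite_semidirect ψ
  let F : Q ⋊[ψ] A →* Equiv.Perm Ω := SemidirectProduct.lift fQ fA fun a =>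
    MonoidHom.ext fun q => by
      show fQ (ψ a q) = fA a * fQ q * (fA a)⁻¹
      rw [hcompat, mul_inv_cancel_right]
  letI : MulAction (Q ⋊[ψ] A) Ω := MulAction.compHom Ω F
  have hs : ∀ g : Q ⋊[ψ] A, ∀ z : Ω, g • z = F g z := fun _ _ => rfl
  obtain ⟨c, ⟨⟨q, rfl⟩, hcen⟩, hc⟩ := CoprimeAction.exists_centralizer_smul_eq
    (CoprimeActionAut.act_le_normalizer_base ψ) (CoprimeActionAut.coprime_act_base ψ hcop)
    (CoprimeActionAut.isSolvable_act_or_base ψ hsolv) (x := x) (y := y)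
    (by rintro _ ⟨a, rfl⟩; simpa only [hs, F, SemidirectProduct.lift_inr] using hx a)
    (by rintro _ ⟨a, rfl⟩; simpa only [hs, F, SemidirectProduct.lift_inr] using hy a)
    (by
      obtain ⟨q, hq⟩ := h
      exact ⟨SemidirectProduct.inl q, ⟨q, rfl⟩,
        by simpa only [hs, F, SemidirectProduct.lift_inl] using hq⟩)
  exact ⟨q, (CoprimeActionAut.inl_mem_centralizer_iff ψ q).1 hcen,
    by simpa only [hs, F, SemidirectProduct.lift_inl] using hc⟩

/-- The Clifford correspondent is the only constituent over `θ`. -/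
theorem theta_part {G : Type v} [Group G] [Fintype G] (N : Subgroup G) [N.Normal] [Fintype N]
    {θ : N → ℂ} (hθ : IsIrrCharacter N θ) (T : Subgroup G) [Fintype T]
    (hT : T = CharInduced.inertia N θ) (hNT : N ≤ T) {χ : G → ℂ} (hχ : IsIrrCharacter G χ)
    (h : classInner (fun n : N => χ n) θ ≠ 0) :
    ∃ ψ : IrrCharacter T, indFun T (ψ : T → ℂ) = χ ∧
      classInner (fun t : T => χ t) (ψ : T → ℂ) = 1 ∧
      (fun n : N => (ψ : T → ℂ) ⟨(n : G), hNT n.2⟩) = classInner (fun n : N => χ n) θ • θ ∧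
      ∀ ψ' : IrrCharacter T, classInner (fun t : T => χ t) (ψ' : T → ℂ) ≠ 0 →
        classInner (fun n : N => (ψ' : T → ℂ) ⟨(n : G), hNT n.2⟩) θ ≠ 0 → ψ' = ψ := by
  classical
  obtain ⟨ψ, hψ, hind, hres⟩ := CharCliffordCorr.clifford_correspondence N hχ hθ h T hT hNT
  have h1 : classInner (fun t : T => χ t) ψ = 1 := by
    have e := CharInduced.inner_ind_left T ψ (CharInduced.isClassFunction_irr hχ)
    rw [hind, classInner_irr_self hχ] at e
    rw [← CharInduced.inner_conj_symm, ← e, map_one]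
  refine ⟨⟨ψ, hψ⟩, hind, h1, hres, fun ψ' hc ho => by_contra fun hne => ?_⟩
  obtain ⟨m, hm, hsum⟩ := exists_mult (CharInduced.isCharacter_res T (isCharacter_of_isIrrCharacter hχ))
  choose b hb using fun φ : IrrCharacter T => classInner_isCharacter
    (isCharacter_comap (Subgroup.inclusion hNT) (isCharacter_of_isIrrCharacter φ.2))
    (isCharacter_of_isIrrCharacter hθ)
  obtain ⟨a, ha⟩ := classInner_isCharacter
    (CharInduced.isCharacter_res N (isCharacter_of_isIrrCharacter hχ))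
    (isCharacter_of_isIrrCharacter hθ)
  have hexp : a = ∑ φ, m φ * b φ := by
    have e : (fun n : N => χ n) = ∑ φ : IrrCharacter T,
        (m φ : ℂ) • ((φ : T → ℂ) ∘ Subgroup.inclusion hNT) := funext fun n => by
      refine (congrFun hsum (⟨(n : G), hNT n.2⟩ : T)).trans ?_
      simp only [Finset.sum_apply, Pi.smul_apply, Function.comp_apply]
      rfl
    have e2 : ((a : ℕ) : ℂ) = ((∑ φ, m φ * b φ : ℕ) : ℂ) := by
      rw [← ha, e, classInner_sum_left]
      simp only [classInner_smul_left, hb]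
      push_cast
      rfl
    exact_mod_cast e2
  have hmψ : m ⟨ψ, hψ⟩ = 1 := by
    have e := hm ⟨ψ, hψ⟩
    rw [h1] at e
    exact_mod_cast e.symm
  have hbψ : b ⟨ψ, hψ⟩ = a := by
    have e : classInner ((fun n : N => ψ ⟨(n : G), hNT n.2⟩)) θ = (a : ℂ) := by
      rw [hres, classInner_smul_left, classInner_irr_self hθ, mul_one, ha]
    exact_mod_cast (hb ⟨ψ, hψ⟩).symm.trans e
  rw [← Finset.add_sum_erase _ _ (Finset.mem_univ (⟨ψ, hψ⟩ : IrrCharacter T)), hmψ, hbψ, one_mul]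
    at hexp
  have h0 := Finset.sum_eq_zero_iff.1 (by omega : ∑ φ ∈ Finset.univ.erase
    (⟨ψ, hψ⟩ : IrrCharacter T), m φ * b φ = 0) ψ' (Finset.mem_erase.2 ⟨hne, Finset.mem_univ _⟩)
  rcases mul_eq_zero.1 h0 with e | e
  · exact hc (by rw [hm ψ', e, Nat.cast_zero])
  · exact ho ((hb ψ').trans (by rw [e, Nat.cast_zero]))

variable {A : Type u} {K : Type v} [Group A] [Group K] [Finite A] [Fintype K]

/-- The setting. -/
structure Rel (p : ℕ) (φ : A →* MulAut K) (Q C : Subgroup K) : Prop where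
  prime : p.Prime
  pA : IsPGroup p A
  pQ : IsPGroup p Q
  ndvd : ¬ p ∣ Q.index
  invQ : ∀ a, ∀ q ∈ Q, φ a q ∈ Q
  memC : ∀ k, k ∈ C ↔ ∀ a, φ a k * k⁻¹ ∈ Q

variable {p : ℕ} {φ : A →* MulAut K} {Q C : Subgroup K} [hQn : Q.Normal]

theorem Rel.le (h : Rel p φ Q C) : Q ≤ C := fun q hq =>
  (h.memC q).2 fun a => Q.mul_mem (h.invQ a q hq) (Q.inv_mem hq)

theorem Rel.invC (h : Rel p φ Q C) (a : A) {k : K} (hk : k ∈ C) : φ a k ∈ C := by
  have h1 : φ a k * k⁻¹ ∈ C := h.le ((h.memC k).1 hk a)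
  simpa using C.mul_mem h1 hk

theorem Rel.cop_index (h : Rel p φ Q C) : (Nat.card A).Coprime Q.index := by
  haveI : Fact p.Prime := ⟨h.prime⟩
  obtain ⟨k, hk⟩ := IsPGroup.iff_card.mp h.pA
  rw [hk]
  exact (h.prime.coprime_iff_not_dvd.2 h.ndvd).pow_left k

theorem Rel.solvable (h : Rel p φ Q C) : Group.IsSolvable A := by
  haveI : Fact p.Prime := ⟨h.prime⟩
  haveI := h.pA.isNilpotent
  infer_instance

/-- Invariant `K`-conjugate characters of `Q` are `C`-conjugate. -/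
theorem Rel.exists_conj (h : Rel p φ Q C) {θ θ' : Q → ℂ} (hθc : IsClassFunction Q θ)
    (hθ'c : IsClassFunction Q θ') (hθ : Inv (resSub φ Q h.invQ) θ)
    (hθ' : Inv (resSub φ Q h.invQ) θ') {g : K} (hg : CharInduced.conjFun Q θ g = θ') :
    ∃ c ∈ C, CharInduced.conjFun Q θ c = θ' := by
  classical
  let φQ := resSub φ Q h.invQ
  let conjF : K →* MulAut Q := MulAut.conjNormal
  let fG : K →* Equiv.Perm (CF Q) := cfHom conjF
  have hker : Q ≤ fG.ker := fun m hm => by
    refine Equiv.ext fun f => Subtype.ext (funext fun n => ?_)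
    show f.1 (conjF m⁻¹ n) = f.1 n
    rw [show conjF m⁻¹ n = (⟨m, hm⟩ : Q)⁻¹ * n * (⟨m, hm⟩ : Q)⁻¹⁻¹ from
      Subtype.ext (by simp [conjF])]
    exact f.2 _ _
  let fQ : K ⧸ Q →* Equiv.Perm (CF Q) := QuotientGroup.lift Q fG hker
  have hval : ∀ (k : K) (f : CF Q) (n : Q), (fG k f).1 n = CharInduced.conjFun Q f.1 k⁻¹ n :=
    fun k f n => congrArg f.1 (Subtype.ext (MulAut.conjNormal_apply k⁻¹ n))
  obtain ⟨q, hq, hqx⟩ := exists_fixed_conjugator (quotHom φ Q h.invQ) fQ (cfHom φQ) (by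
      intro a q
      obtain ⟨g, rfl⟩ := QuotientGroup.mk_surjective q
      refine Equiv.ext fun f => Subtype.ext (funext fun n => ?_)
      show f.1 (conjF g⁻¹ (φQ a⁻¹ n)) = f.1 (φQ a⁻¹ (conjF (φ a g)⁻¹ n))
      apply congrArg f.1
      apply Subtype.ext
      simp only [conjF, φQ, MulAut.conjNormal_apply, resSub_apply, inv_inv, map_mul]
      have e : φ a⁻¹ (φ a g) = g := by
        rw [← MulAut.mul_apply, ← map_mul, inv_mul_cancel, map_one]; rfl
      simp only [map_inv (φ a⁻¹), e])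
    h.cop_index (Or.inl h.solvable) (x := ⟨θ, hθc⟩) (y := ⟨θ', hθ'c⟩)
    (fun a => Subtype.ext (funext fun n => hθ a⁻¹ n))
    (fun a => Subtype.ext (funext fun n => hθ' a⁻¹ n))
    ⟨((g⁻¹ : K) : K ⧸ Q), Subtype.ext (funext fun n => by
      show (fG g⁻¹ ⟨θ, hθc⟩).1 n = θ' n
      rw [hval, inv_inv]
      exact congrFun hg n)⟩
  obtain ⟨c, rfl⟩ := QuotientGroup.mk_surjective q
  have hc : c ∈ C := (h.memC c).2 fun a => by
    have h1 := hq a
    rw [quotHom_mk] at h1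
    rw [← QuotientGroup.eq_one_iff, QuotientGroup.mk_mul, QuotientGroup.mk_inv, h1, mul_inv_cancel]
  refine ⟨c⁻¹, C.inv_mem hc, funext fun n => ?_⟩
  rw [← hval c ⟨θ, hθc⟩ n]
  exact congrFun (congrArg Subtype.val hqx) n

theorem detOrder_comp_dvd {H : Type*} [Group H] [Finite H] (e : H ≃* H) {χ : H → ℂ}
    (hχ : IsCharacter H χ) : Cfsg.detOrder (fun x => χ (e x)) ∣ Cfsg.detOrder χ := by
  obtain ⟨d, ρ, rfl⟩ := hχ
  let η := MonoidHom.toHomUnits ρ
  have e1 : ρ.character = CharExtension.chr η := rfl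
  have e2 : (fun x => ρ.character (e x)) = CharExtension.chr (η.comp e.toMonoidHom) := rfl
  rw [Cfsg.detOrder, Cfsg.detOrder, e2, e1, orderOf_dvd_iff_pow_eq_one]
  funext x
  have h1 := congrFun (pow_orderOf_eq_one (Cfsg.detChar (CharExtension.chr η))) (e x)
  rw [Pi.pow_apply, CharExtension.detChar_chr] at h1
  rw [Pi.pow_apply, CharExtension.detChar_chr]
  exact h1

theorem exists_constituent_inv [Fintype Q] (h : Rel p φ Q C) (χ : IrrCharacter K)
    (hχ : Inv φ (χ : K → ℂ)) :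
    ∃ θ : IrrCharacter Q, classInner (fun n : Q => (χ : K → ℂ) n) (θ : Q → ℂ) ≠ 0 ∧
      Inv (resSub φ Q h.invQ) (θ : Q → ℂ) := by
  refine exists_inv_below φ Q h.invQ ⊥ ?_ (fun b hb => ⟨1, Q.one_mem, fun g => by
    rw [Subgroup.mem_bot.1 hb, map_one]; simp⟩)
    (Or.inl (@Group.isSolvable_of_surjective _ _ _ _ _ (QuotientGroup.mk'_surjective ⊥) h.solvable))
    χ hχ
  rw [← Subgroup.index_eq_card, Subgroup.index_bot]
  exact h.cop_index

/-- The data over one invariant character of `Q`. -/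
structure Over (φ : A →* MulAut K) (Q C : Subgroup K) [Q.Normal] [Fintype Q]
    (θ : IrrCharacter Q) (p : ℕ) : Prop where
  rel : Rel p φ Q C
  inv : Inv (resSub φ Q rel.invQ) (θ : Q → ℂ)

section overTheta

variable [Fintype Q] {θ : IrrCharacter Q}

theorem Over.invT (o : Over φ Q C θ p) (a : A) {t : K}
    (ht : t ∈ CharInduced.inertia Q (θ : Q → ℂ)) : φ a t ∈ CharInduced.inertia Q (θ : Q → ℂ) := by
  rw [CharInduced.mem_inertia_iff] at ht ⊢
  intro n
  have h1 := ht (resSub φ Q o.rel.invQ a⁻¹ n)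
  rw [o.inv a⁻¹ n] at h1
  have h2 := o.inv a ⟨t * (resSub φ Q o.rel.invQ a⁻¹ n : K) * t⁻¹, hQn.conj_mem _ (SetLike.coe_mem _) t⟩
  rw [h1] at h2
  refine Eq.trans (congrArg (θ : Q → ℂ) (Subtype.ext ?_)) h2
  have e : φ a (φ a⁻¹ (n : K)) = n := by
    rw [← MulAut.mul_apply, ← map_mul, mul_inv_cancel, map_one]; rfl
  show φ a t * (n : K) * (φ a t)⁻¹ = φ a (t * φ a⁻¹ (n : K) * t⁻¹)
  rw [map_mul, map_mul, e, map_inv]

/-- The inertia group. -/
abbrev TT (θ : IrrCharacter Q) : Subgroup K := CharInduced.inertia Q (θ : Q → ℂ)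

/-- The inertia group inside `C`, as a subgroup of `C`. -/
abbrev SS (C : Subgroup K) (θ : IrrCharacter Q) : Subgroup C := (TT θ).subgroupOf C

/-- `θ` on the copy of `Q` inside a larger subgroup. -/
def thetaOn (θ : IrrCharacter Q) (L : Subgroup K) : Q.subgroupOf L → ℂ :=
  fun n => (θ : Q → ℂ) ⟨(n : L), n.2⟩

theorem isIrr_thetaOn (θ : IrrCharacter Q) {L : Subgroup K} (hL : Q ≤ L) :
    IsIrrCharacter (Q.subgroupOf L) (thetaOn θ L) :=
  isIrrCharacter_comap (Subgroup.subgroupOfEquivOfLe hL).toMonoidHom (MulEquiv.surjective _) θ.2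

theorem Over.le_T (_o : Over φ Q C θ p) : Q ≤ TT θ :=
  CharInduced.le_inertia Q (CharInduced.isClassFunction_irr θ.2)

/-- The invariant extension to the inertia group. -/
theorem Over.exists_ext (o : Over φ Q C θ p) [Fintype (TT θ)] :
    ∃ θh : IrrCharacter (TT θ), (∀ n : Q.subgroupOf (TT θ), (θh : TT θ → ℂ) n = thetaOn θ (TT θ) n) ∧
      ∀ a x, (θh : TT θ → ℂ) (resSub φ (TT θ) (fun a t ht => o.invT a ht) a x) =
        (θh : TT θ → ℂ) x := by
  classical
  haveI : Fact p.Prime := ⟨o.rel.prime⟩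
  let N := Q.subgroupOf (TT θ)
  haveI : N.Normal := hQn.subgroupOf _
  haveI := Fintype.ofFinite N
  have hθN := isIrr_thetaOn θ o.le_T
  obtain ⟨d, -, hd, hdvd⟩ := CharBasicInt.exists_apply_one_dvd_card hθN
  have hcardN : ∃ k, Nat.card N = p ^ k := by
    obtain ⟨k, hk⟩ := IsPGroup.iff_card.mp o.rel.pQ
    exact ⟨k, by rw [Nat.card_congr (Subgroup.subgroupOfEquivOfLe o.le_T).toEquiv, hk]⟩
  obtain ⟨k, hk⟩ := hcardN
  have hndvd : ¬ p ∣ N.index := fun hd =>
    o.rel.ndvd (hd.trans (Subgroup.relIndex_dvd_index_of_normal Q (TT θ)))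
  have hcop : Nat.Coprime N.index (Cfsg.detOrder (thetaOn θ (TT θ)) * d) := by
    have h1 : Nat.Coprime N.index (p ^ k * p ^ k) :=
      ((o.rel.prime.coprime_iff_not_dvd.2 hndvd).symm.pow_right k).mul_right
        ((o.rel.prime.coprime_iff_not_dvd.2 hndvd).symm.pow_right k)
    exact h1.coprime_dvd_right (Nat.mul_dvd_mul
      (hk ▸ GlaubermanCyclic.detOrder_dvd_card (isCharacter_of_isIrrCharacter hθN)) (hk ▸ hdvd))
  obtain ⟨χ, ⟨h1, h2, h3⟩, hu⟩ := Cfsg.Agent.S0867.result N (thetaOn θ (TT θ)) hθN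
    (fun g n => (CharInduced.mem_inertia_iff Q).1 g.2 ⟨((n : TT θ) : K), n.2⟩) d hd hcop
  refine ⟨⟨χ, h1⟩, h2, fun a x => ?_⟩
  let e := resSub φ (TT θ) (fun a t ht => o.invT a ht) a
  have h4 := hu (χ ∘ e.toMonoidHom) (isIrrCharacter_comap _ e.surjective h1) (fun n => by
    have hm : e (n : TT θ) ∈ N := o.rel.invQ a _ n.2
    show χ (e (n : TT θ)) = thetaOn θ (TT θ) n
    rw [h2 ⟨_, hm⟩]
    exact o.inv a ⟨((n : TT θ) : K), n.2⟩)
    ((h3 ▸ hcop.coprime_mul_right_right).coprime_dvd_right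
      (detOrder_comp_dvd e (isCharacter_of_isIrrCharacter h1)))
  exact congrFun h4 x

end overTheta

end Cfsg.Agent.GlaubermanNormalSylow
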