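import Mathlib
import Cfsg.Agent.Lib.CharGallagher
import Cfsg.Agent.Lib.CharInducedCorr
import Cfsg.Agent.Lib.CharKernel
import Cfsg.Agent.Lib.GlaubermanNormalSylow

/-!
# Characters over a fixed character with an extension to its inertia group

For `θ` with an extension `ext` to its inertia group `T`, the characters over `θ` are parametrized
by the characters of `T ⧸ N` (`Layer.lift`).

* `Layer.inner_lift` : multiplicities between two such layers.
-/

set_option autoImplicit false
set_option linter.unusedSectionVars false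

open scoped ComplexConjugate

namespace Cfsg.Agent.GlaubermanLayer

open Cfsg Cfsg.Agent.CharBasic Cfsg.Agent.CharBasicOrth Cfsg.Agent.CharBasicDecomp
  Cfsg.Agent.GlaubermanP Cfsg.Agent.GlaubermanAbove Cfsg.Agent.GlaubermanLayers

universe v

/-- A character with irreducible pullback is irreducible. -/
theorem isIrr_of_comp {H P : Type*} [Group H] [Finite H] [Group P] {χ : P → ℂ}
    (hχ : IsCharacter P χ) (f : H →* P) (hirr : IsIrrCharacter H (χ ∘ f)) :
    IsIrrCharacter P χ := by
  obtain ⟨d, ρ, rfl⟩ := hχ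
  haveI hi : (repComap f ρ).IsIrreducible :=
    isIrreducible_of_isIrrCharacter (repComap f ρ) (by rw [character_repComap]; exact hirr)
  have hnt := nontrivial_of_irreducible (repComap f ρ)
  have : Nontrivial (Subrepresentation ρ) :=
    ⟨⊥, ⊤, fun h => bot_ne_top (α := Submodule ℂ (Fin d → ℂ))
      (congrArg Subrepresentation.toSubmodule h)⟩
  refine ⟨d, ρ, ⟨fun W => ?_⟩, rfl⟩
  let W' : Subrepresentation (repComap f ρ) :=
    ⟨W.toSubmodule, fun n v hv => W.apply_mem_toSubmodule (f n) hv⟩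
  rcases eq_bot_or_eq_top W' with h | h
  · exact Or.inl (Subrepresentation.toSubmodule_injective
      (congrArg Subrepresentation.toSubmodule h :))
  · exact Or.inr (Subrepresentation.toSubmodule_injective
      (congrArg Subrepresentation.toSubmodule h :))

/-- A constituent lying over `θ` forces the character over `θ`. -/
theorem constituent_over {H M : Type*} [Group H] [Fintype H] [Group M] [Fintype M] (e : M →* H)
    {a η : H → ℂ} (ha : IsCharacter H a) (hη : IsIrrCharacter H η) {θ : M → ℂ}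
    (hθ : IsIrrCharacter M θ) (h1 : classInner a η ≠ 0) (h2 : classInner (η ∘ e) θ ≠ 0) :
    classInner (a ∘ e) θ ≠ 0 := by
  classical
  obtain ⟨m, hm, hsum⟩ := exists_mult ha
  choose k hk using fun φ : IrrCharacter H => classInner_isCharacter
    (isCharacter_comap e (isCharacter_of_isIrrCharacter φ.2)) (isCharacter_of_isIrrCharacter hθ)
  have he : a ∘ e = ∑ φ : IrrCharacter H, (m φ : ℂ) • ((φ : H → ℂ) ∘ e) := funext fun n => by
    simpa [Finset.sum_apply] using congrFun hsum (e n)
  rw [he, classInner_sum_left]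
  simp only [classInner_smul_left]
  have e2 : ∀ φ : IrrCharacter H, (m φ : ℂ) * classInner ((φ : H → ℂ) ∘ e) θ =
      ((m φ * k φ : ℕ) : ℂ) := fun φ => by
    rw [Nat.cast_mul, ← hk φ]
  simp only [e2, ← Nat.cast_sum, Nat.cast_ne_zero]
  intro h0
  rcases mul_eq_zero.1 ((Finset.sum_eq_zero_iff.1 h0) ⟨η, hη⟩ (Finset.mem_univ _)) with e' | e'
  · exact h1 (by rw [hm ⟨η, hη⟩, e', Nat.cast_zero])
  · exact h2 ((hk ⟨η, hη⟩).trans (by rw [e', Nat.cast_zero]))

section restrict

variable {G : Type v} [Group G] {N T : Subgroup G}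

/-- `θ` on the copy of `N` inside `T`. -/
def onSub (θ : N → ℂ) : N.subgroupOf T → ℂ := fun n => θ ⟨((n : T) : G), n.2⟩

theorem isIrr_onSub (hNT : N ≤ T) {θ : N → ℂ} (hθ : IsIrrCharacter N θ) :
    IsIrrCharacter (N.subgroupOf T) (onSub (T := T) θ) :=
  isIrrCharacter_comap (Subgroup.subgroupOfEquivOfLe hNT).toMonoidHom (MulEquiv.surjective _) hθ

theorem inner_onSub [Fintype N] [Fintype (N.subgroupOf T)] (hNT : N ≤ T) (f : T → ℂ)
    (θ : N → ℂ) :
    classInner (fun n : N.subgroupOf T => f n) (onSub (T := T) θ) =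
      classInner (fun n : N => f ⟨(n : G), hNT n.2⟩) θ :=
  classInner_congr_equiv (G := N) (Subgroup.subgroupOfEquivOfLe hNT)
    (fun n : N => f ⟨(n : G), hNT n.2⟩) θ

end restrict

variable {G : Type v} [Group G] [Fintype G]

/-- A character of `N` with an extension to its inertia group. -/
structure Layer (N T : Subgroup G) [N.Normal] (θ : N → ℂ) (ext : T → ℂ) : Prop where
  hT : T = CharInduced.inertia N θ
  le : N ≤ T
  irrθ : IsIrrCharacter N θ
  irr : IsIrrCharacter T ext
  res : ∀ n : N, ext ⟨(n : G), le n.2⟩ = θ n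

variable {N T : Subgroup G} [N.Normal] [Fintype N] [Fintype T] {θ : N → ℂ} {ext : T → ℂ}

/-- The twist of the extension. -/
def gal (ext : T → ℂ) (β : IrrCharacter (T ⧸ N.subgroupOf T)) : T → ℂ :=
  fun t => (β : T ⧸ N.subgroupOf T → ℂ) (t : T ⧸ N.subgroupOf T) * ext t

/-- The lift of a character of `T ⧸ N`. -/
noncomputable def liftFun (ext : T → ℂ) (β : IrrCharacter (T ⧸ N.subgroupOf T)) : G → ℂ :=
  indFun T (gal ext β)

namespace Layer

variable (L : Layer N T θ ext)
include L

theorem hTg (g : G) : g ∈ T ↔ CharInduced.conjFun N θ g = θ := by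
  rw [L.hT]; rfl

theorem gal_bij [Fintype (N.subgroupOf T)] :
    Set.BijOn (fun β : T → ℂ => β * ext)
      {β : T → ℂ | IsIrrCharacter T β ∧ ∀ n : N.subgroupOf T, β n = β 1}
      {ψ : T → ℂ | IsIrrCharacter T ψ ∧
        classInner (fun n : N.subgroupOf T => ψ n) (onSub (T := T) θ) ≠ 0} :=
  CharGallagher.bijOn_one (N.subgroupOf T) (isIrr_onSub L.le L.irrθ) L.irr
    (fun n => L.res ⟨((n : T) : G), n.2⟩)

theorem mem_gal (β : IrrCharacter (T ⧸ N.subgroupOf T)) :
    (fun t : T => (β : T ⧸ N.subgroupOf T → ℂ) (t : T ⧸ N.subgroupOf T)) ∈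
      {b : T → ℂ | IsIrrCharacter T b ∧ ∀ n : N.subgroupOf T, b n = b 1} :=
  ⟨isIrrCharacter_comap (QuotientGroup.mk' _) (QuotientGroup.mk'_surjective _) β.2, fun n => by
    show (β : T ⧸ N.subgroupOf T → ℂ) ((n : T) : T ⧸ N.subgroupOf T) = _
    rw [(QuotientGroup.eq_one_iff (n : T)).2 n.2]
    rfl⟩

theorem gal_spec (β : IrrCharacter (T ⧸ N.subgroupOf T)) :
    IsIrrCharacter T (gal ext β) ∧
      classInner (fun n : N => gal ext β ⟨(n : G), L.le n.2⟩) θ ≠ 0 := by
  classical
  haveI := Fintype.ofFinite (N.subgroupOf T)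
  have h := L.gal_bij.mapsTo (L.mem_gal β)
  exact ⟨h.1, fun h0 => h.2 ((inner_onSub L.le (gal ext β) θ).trans h0)⟩

theorem gal_inj {β β' : IrrCharacter (T ⧸ N.subgroupOf T)} (h : gal ext β = gal ext β') :
    β = β' := by
  classical
  haveI := Fintype.ofFinite (N.subgroupOf T)
  have e := L.gal_bij.injOn (L.mem_gal β) (L.mem_gal β') h
  refine Subtype.ext (funext fun q => ?_)
  obtain ⟨t, rfl⟩ := QuotientGroup.mk_surjective q
  exact congrFun e t

theorem gal_surj {ψ : T → ℂ} (hψ : IsIrrCharacter T ψ)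
    (h : classInner (fun n : N => ψ ⟨(n : G), L.le n.2⟩) θ ≠ 0) :
    ∃ β : IrrCharacter (T ⧸ N.subgroupOf T), gal ext β = ψ := by
  classical
  haveI := Fintype.ofFinite (N.subgroupOf T)
  obtain ⟨b, ⟨hb, hb1⟩, e⟩ := L.gal_bij.surjOn
    (show ψ ∈ {ψ : T → ℂ | IsIrrCharacter T ψ ∧
        classInner (fun n : N.subgroupOf T => ψ n) (onSub (T := T) θ) ≠ 0} from
      ⟨hψ, fun h0 => h ((inner_onSub L.le ψ θ).symm.trans h0)⟩)
  obtain ⟨β, hβ⟩ := CharKernel.exists_quot_irr (N.subgroupOf T) ⟨b, hb⟩ (fun n hn => hb1 ⟨n, hn⟩)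
  exact ⟨β, by rw [← e]; funext t; exact congrArg (· * ext t) (hβ t).symm⟩

theorem inner_gal (β β' : IrrCharacter (T ⧸ N.subgroupOf T)) [Decidable (β = β')] :
    classInner (gal ext β) (gal ext β') = if β = β' then 1 else 0 := by
  split
  · next h => subst h; exact classInner_irr_self (L.gal_spec β).1
  · next h => exact classInner_irr_ne (L.gal_spec β).1 (L.gal_spec β').1 fun e => h (L.gal_inj e)

theorem isIrr_lift (β : IrrCharacter (T ⧸ N.subgroupOf T)) :
    IsIrrCharacter G (liftFun ext β) :=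
  CharInduced.ind_inertia_irr N T L.le L.irrθ L.hTg (L.gal_spec β).1 (L.gal_spec β).2

/-- The lift as an irreducible character. -/
noncomputable def lift (β : IrrCharacter (T ⧸ N.subgroupOf T)) : IrrCharacter G :=
  ⟨liftFun ext β, L.isIrr_lift β⟩

theorem lift_constituent (β : IrrCharacter (T ⧸ N.subgroupOf T)) :
    classInner (fun t : T => (L.lift β : G → ℂ) t) (gal ext β) = 1 := by
  show classInner (fun t : T => liftFun ext β t) (gal ext β) = 1
  rw [← CharInduced.inner_ind_right T (gal ext β)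
    (CharInduced.isClassFunction_irr (L.isIrr_lift β))]
  exact classInner_irr_self (L.isIrr_lift β)

theorem lift_over (β : IrrCharacter (T ⧸ N.subgroupOf T)) :
    classInner (fun n : N => (L.lift β : G → ℂ) n) θ ≠ 0 := by
  show classInner (fun n : N => liftFun ext β n) θ ≠ 0
  rw [(CharInduced.ind_inertia_eq N T L.le L.irrθ L.hTg (L.gal_spec β).1 (L.gal_spec β).2
    (L.isIrr_lift β) (by
      have := L.lift_constituent β
      exact fun h0 => one_ne_zero (this.symm.trans h0))).2]
  exact (L.gal_spec β).2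

theorem lift_inj {β β' : IrrCharacter (T ⧸ N.subgroupOf T)} (h : L.lift β = L.lift β') :
    β = β' :=
  L.gal_inj (CharInduced.ind_inertia_injective N T L.le L.irrθ L.hTg (L.gal_spec β).1
    (L.gal_spec β').1 (L.gal_spec β).2 (L.gal_spec β').2 (congrArg Subtype.val h))

theorem lift_surj (χ : IrrCharacter G) (h : classInner (fun n : N => (χ : G → ℂ) n) θ ≠ 0) :
    ∃ β, L.lift β = χ := by
  obtain ⟨ψ, hψ, hind, he⟩ := CharInduced.exists_inertia_constituent N T L.le L.irrθ L.hTg χ.2 h
  obtain ⟨β, rfl⟩ := L.gal_surj hψ (by rw [he]; exact h)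
  exact ⟨β, Subtype.ext hind⟩

/-- The Clifford correspondent is the only constituent over `θ`. -/
theorem constituent_unique (β : IrrCharacter (T ⧸ N.subgroupOf T)) {ψ : T → ℂ}
    (hψ : IsIrrCharacter T ψ) (hc : classInner (fun t : T => (L.lift β : G → ℂ) t) ψ ≠ 0)
    (ho : classInner (fun n : N => ψ ⟨(n : G), L.le n.2⟩) θ ≠ 0) : gal ext β = ψ := by
  obtain ⟨ψ₀, -, -, -, hu⟩ := GlaubermanNormalSylow.theta_part N L.irrθ T L.hT L.le (L.lift β).2
    (L.lift_over β)
  have h1 := hu ⟨gal ext β, (L.gal_spec β).1⟩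
    (fun h0 => one_ne_zero ((L.lift_constituent β).symm.trans h0)) (L.gal_spec β).2
  have h2 := hu ⟨ψ, hψ⟩ hc ho
  exact congrArg Subtype.val (h1.trans h2.symm)

theorem lift_one (β : IrrCharacter (T ⧸ N.subgroupOf T)) :
    (L.lift β : G → ℂ) 1 = (T.index : ℂ) * ((β : T ⧸ N.subgroupOf T → ℂ) 1 * θ 1) := by
  show indFun T (gal ext β) 1 = _
  rw [CharInduced.ind_one_apply, ← L.res 1]
  rfl

/-- Invariance is read on the quotient of the inertia group. -/
theorem lift_inv_iff {A : Type*} [Group A] (φ : A →* MulAut G)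
    (hN : ∀ a, ∀ n ∈ N, φ a n ∈ N) (hT : ∀ a, ∀ t ∈ T, φ a t ∈ T)
    (hθ : Inv (resSub φ N hN) θ) (hext : Inv (resSub φ T hT) ext)
    (hN' : ∀ a, ∀ n ∈ N.subgroupOf T, resSub φ T hT a n ∈ N.subgroupOf T)
    (β : IrrCharacter (T ⧸ N.subgroupOf T)) :
    Inv φ (L.lift β : G → ℂ) ↔
      Inv (quotHom (resSub φ T hT) (N.subgroupOf T) hN') (β : T ⧸ N.subgroupOf T → ℂ) := by
  classical
  let φT := resSub φ T hT
  let φQ := quotHom φT (N.subgroupOf T) hN'
  -- the twisted parameter
  let β' : A → IrrCharacter (T ⧸ N.subgroupOf T) := fun a =>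
    ⟨(β : T ⧸ N.subgroupOf T → ℂ) ∘ (φQ a).toMonoidHom,
      isIrrCharacter_comap _ (φQ a).surjective β.2⟩
  have hgal : ∀ a, gal ext (β' a) = fun t => gal ext β (φT a t) := fun a => funext fun t => by
    show (β : T ⧸ N.subgroupOf T → ℂ) (φQ a (t : T ⧸ N.subgroupOf T)) * ext t = _
    rw [← hext a t]
    exact congrArg (fun q => (β : T ⧸ N.subgroupOf T → ℂ) q * ext (φT a t))
      (quotHom_mk φT (N.subgroupOf T) hN' a t)
  have key : ∀ a, (L.lift (β' a) : G → ℂ) = fun g => (L.lift β : G → ℂ) (φ a g) := by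
    intro a
    let χ' : IrrCharacter G :=
      ⟨fun g => (L.lift β : G → ℂ) (φ a g), isIrrCharacter_comap (φ a).toMonoidHom
        (φ a).surjective (L.lift β).2⟩
    have hov : classInner (fun n : N => (χ' : G → ℂ) n) θ ≠ 0 := by
      have e := classInner_congr_equiv (G := N) (resSub φ N hN a)
        (fun n : N => (L.lift β : G → ℂ) n) θ
      have e2 : (θ ∘ (resSub φ N hN a) : N → ℂ) = θ := funext (hθ a)
      rw [e2] at e
      exact fun h0 => L.lift_over β (e.symm.trans h0)
    obtain ⟨b, hb⟩ := L.lift_surj χ' hov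
    have hc : classInner (fun t : T => (L.lift b : G → ℂ) t) (gal ext (β' a)) ≠ 0 := by
      rw [hb, hgal]
      have e := classInner_congr_equiv (G := T) (φT a)
        (fun t : T => (L.lift β : G → ℂ) t) (gal ext β)
      exact fun h0 => one_ne_zero ((L.lift_constituent β).symm.trans (e.symm.trans h0))
    have h1 := L.gal_inj (L.constituent_unique b (L.gal_spec (β' a)).1 hc (L.gal_spec (β' a)).2)
    rw [← h1, hb]
  constructor
  · intro h a q
    have h1 : L.lift (β' a) = L.lift β := Subtype.ext ((key a).trans (funext (h a)))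
    exact congrFun (congrArg Subtype.val (L.lift_inj h1)) q
  · intro h a g
    have h1 : β' a = β := Subtype.ext (funext (h a))
    have h2 := congrFun (key a) g
    rw [h1] at h2
    exact h2.symm

end Layer

/-- Multiplicities between two layers related by a homomorphism. -/
theorem inner_lift {H : Subgroup G} [Fintype H] {NH SH : Subgroup H} [NH.Normal] [Fintype NH]
    [Fintype SH] {θH : NH → ℂ} {extH : SH → ℂ} (L : Layer N T θ ext)
    (LH : Layer NH SH θH extH) (hS : ∀ s : SH, ((s : H) : G) ∈ T)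
    (hN : ∀ n : NH, ((n : H) : G) ∈ N) (hbij : Function.Bijective fun n : NH => (⟨_, hN n⟩ : N))
    (hθ : ∀ n : NH, θH n = θ ⟨_, hN n⟩)
    (hext : ∀ s : SH, extH s = ext ⟨_, hS s⟩)
    [Fintype (SH ⧸ NH.subgroupOf SH)]
    (ι : (SH ⧸ NH.subgroupOf SH) →* (T ⧸ N.subgroupOf T))
    (hι : ∀ s : SH, ι (s : SH ⧸ NH.subgroupOf SH) = ((⟨_, hS s⟩ : T) : T ⧸ N.subgroupOf T))
    (β : IrrCharacter (T ⧸ N.subgroupOf T)) (γ : IrrCharacter (SH ⧸ NH.subgroupOf SH)) :
    classInner (fun c : H => (L.lift β : G → ℂ) c) (LH.lift γ : H → ℂ) = (mult ι β γ : ℂ) := by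
  classical
  let j : SH →* T := ((H.subtype.comp SH.subtype).codRestrict T hS)
  have hj : ∀ s : SH, j s = ⟨_, hS s⟩ := fun s => rfl
  let eN : NH ≃* N := MulEquiv.ofBijective
    ((H.subtype.comp NH.subtype).codRestrict N hN) hbij
  have hlc := CharInduced.isClassFunction_irr (L.lift β).2
  have h1 : classInner (fun c : H => (L.lift β : G → ℂ) c) (LH.lift γ : H → ℂ) =
      classInner (fun s : SH => (L.lift β : G → ℂ) ((s : H) : G)) (gal extH γ) :=
    CharInduced.inner_ind_right SH (gal extH γ) (CharInduced.isClassFunction_res H hlc)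
  obtain ⟨m, hm, hsum⟩ := exists_mult (CharInduced.isCharacter_res T
    (isCharacter_of_isIrrCharacter (L.lift β).2))
  have h2 : (fun s : SH => (L.lift β : G → ℂ) ((s : H) : G)) =
      ∑ ψ : IrrCharacter T, (m ψ : ℂ) • ((ψ : T → ℂ) ∘ j) := funext fun s => by
    have e := congrFun hsum (j s)
    simp only [Finset.sum_apply, Pi.smul_apply, Function.comp_apply] at e ⊢
    exact e
  let ψ₀ : IrrCharacter T := ⟨gal ext β, (L.gal_spec β).1⟩
  have hm0 : m ψ₀ = 1 := by
    exact_mod_cast (hm ψ₀).symm.trans (L.lift_constituent β)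
  rw [h1, h2, classInner_sum_left, Finset.sum_eq_single ψ₀, classInner_smul_left, hm0,
    Nat.cast_one, one_mul]
  · have h3 : ((ψ₀ : T → ℂ) ∘ j) =
        ∑ γ' : IrrCharacter (SH ⧸ NH.subgroupOf SH), (mult ι β γ' : ℂ) • gal extH γ' := by
      funext s
      have e := congrFun (comp_eq_sum ι β) (s : SH ⧸ NH.subgroupOf SH)
      rw [Function.comp_apply, hι] at e
      show (β : T ⧸ N.subgroupOf T → ℂ) (j s : T ⧸ N.subgroupOf T) * ext (j s) = _
      rw [hj, e, ← hext]
      simp only [Finset.sum_apply, Pi.smul_apply, smul_eq_mul, Finset.sum_mul, gal, mul_assoc]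
    rw [h3, classInner_sum_left, Finset.sum_eq_single γ]
    · rw [classInner_smul_left, classInner_irr_self (LH.gal_spec γ).1, mul_one]
    · intro γ' _ hne
      rw [classInner_smul_left, LH.inner_gal, if_neg hne, mul_zero]
    · exact fun h => absurd (Finset.mem_univ _) h
  · intro ψ _ hne
    rw [classInner_smul_left]
    by_contra h0
    obtain ⟨hm', hin⟩ := mul_ne_zero_iff.1 h0
    have ho := constituent_over (Subgroup.inclusion LH.le)
      (isCharacter_comap j (isCharacter_of_isIrrCharacter ψ.2)) (LH.gal_spec γ).1 LH.irrθ hin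
      (LH.gal_spec γ).2
    have e : classInner (fun n : N => (ψ : T → ℂ) ⟨(n : G), L.le n.2⟩) θ =
        classInner (((ψ : T → ℂ) ∘ j) ∘ Subgroup.inclusion LH.le) θH := by
      refine (classInner_congr_equiv (G := N) eN _ θ).symm.trans ?_
      exact congrArg (classInner _) (funext fun n => (hθ n).symm)
    refine hne (Subtype.ext (L.constituent_unique β ψ.2 ?_ ?_).symm)
    · rw [hm ψ]; exact hm'
    · rw [e]; exact ho
  · exact fun h => absurd (Finset.mem_univ _) h

end Cfsg.Agent.GlaubermanLayer
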