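import Mathlib
import Cfsg.Agent.Lib.FRInvCore
import Cfsg.Agent.Lib.GlaubermanLayer
import Cfsg.Agent.Lib.CharInducedAbelianQuot

/-!
# Invariant characters across an abelian section without fixed points

`Sec` : a group `A` of coprime order acts on `G = K H` of odd order, `K ⊓ H = L`, the section
`K ⧸ L` is abelian, `H = L C` and the fixed points in `K` lie in `L`.

* `Sec.homogeneous` : the correspondence over a `G`-invariant character of `L`.
* `Sec.main` : the correspondence of invariant characters of `G` and `H` by odd multiplicity.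
-/

set_option autoImplicit false
set_option linter.unusedSectionVars false

open scoped ComplexConjugate

namespace Cfsg.Agent.FRInvReduce

open Cfsg Cfsg.Agent.CharBasic Cfsg.Agent.CharBasicOrth Cfsg.Agent.CharBasicDecomp
  Cfsg.Agent.GlaubermanP Cfsg.Agent.GlaubermanAbove Cfsg.Agent.GlaubermanLayers
  Cfsg.Agent.GlaubermanLayer

universe u v

variable {A : Type u} [Group A] [Finite A] {G : Type v} [Group G] [Fintype G]

/-- Odd multiplicity. -/
def Rel (H : Subgroup G) [Fintype H] (χ : G → ℂ) (η : H → ℂ) : Prop :=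
  ∃ m : ℕ, classInner (fun h : H => χ h) η = m ∧ Odd m

/-- The setting. -/
structure Sec (σ : A →* MulAut G) (K L H : Subgroup G) : Prop where
  Knorm : K.Normal
  Lnorm : L.Normal
  invK : ∀ a, ∀ k ∈ K, σ a k ∈ K
  invL : ∀ a, ∀ l ∈ L, σ a l ∈ L
  LK : L ≤ K
  LH : L ≤ H
  inf : K ⊓ H = L
  prod : ∀ g : G, ∃ k ∈ K, ∃ h ∈ H, g = k * h
  comm : ∀ a ∈ K, ∀ b ∈ K, a * b * a⁻¹ * b⁻¹ ∈ L
  odd : Odd (Nat.card G)
  cop : (Nat.card G).Coprime (Nat.card A)
  solv : Group.IsSolvable G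
  fixH : ∀ h ∈ H, ∃ l ∈ L, ∃ c ∈ H, h = l * c ∧ ∀ a, σ a c = c
  fixfree : ∀ k ∈ K, (∀ a, σ a k = k) → k ∈ L

variable {σ : A →* MulAut G} {K L H : Subgroup G}

theorem Sec.invH (sc : Sec σ K L H) : ∀ a, ∀ h ∈ H, σ a h ∈ H := fun a h hh => by
  obtain ⟨l, hl, c, hc, rfl, hfix⟩ := sc.fixH h hh
  rw [map_mul, hfix]
  exact H.mul_mem (sc.LH (sc.invL a l hl)) hc

theorem Sec.cop_index (sc : Sec σ K L H) (M : Subgroup G) :
    (Nat.card (A ⧸ (⊥ : Subgroup A))).Coprime M.index := by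
  rw [← Subgroup.index_eq_card, Subgroup.index_bot]
  exact sc.cop.symm.coprime_dvd_right M.index_dvd_card

theorem hB_bot {X : Type*} [Group X] (τ : A →* MulAut X) (M : Subgroup X) :
    ∀ b ∈ (⊥ : Subgroup A), ∃ m ∈ M, ∀ g, τ b g = m * g * m⁻¹ := fun b hb =>
  ⟨1, M.one_mem, fun g => by rw [Subgroup.mem_bot.1 hb, map_one]; simp⟩

theorem inv_comp {X : Type*} [Group X] [Fintype X] {τ : A →* MulAut X} {f : X → ℂ}
    (hf : Inv τ f) (a : A) (θ : X → ℂ) :
    classInner f (θ ∘ τ a) = classInner f θ := by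
  conv_lhs => rw [show f = f ∘ (τ a : X ≃* X) from (funext (hf a)).symm]
  exact classInner_congr_equiv (τ a : X ≃* X) f θ

/-! ### Clifford correspondents and the action -/

section clifford

variable {X : Type v} [Group X] [Fintype X] (τ : A →* MulAut X) (N : Subgroup X) [N.Normal]
  [Fintype N] (T : Subgroup X) [Fintype T] (hN : ∀ a, ∀ n ∈ N, τ a n ∈ N)
  (hTi : ∀ a, ∀ t ∈ T, τ a t ∈ T) {θ : N → ℂ}

theorem corr_down (hθ : IsIrrCharacter N θ) (hT : T = CharInduced.inertia N θ)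
    (hθi : Inv (resSub τ N hN) θ) (hNT : N ≤ T) (χ : IrrCharacter X) (hχ : Inv τ (χ : X → ℂ))
    (h : classInner (fun n : N => (χ : X → ℂ) n) θ ≠ 0) :
    ∃ χ₁ : IrrCharacter T, Inv (resSub τ T hTi) (χ₁ : T → ℂ) ∧
      indFun T (χ₁ : T → ℂ) = (χ : X → ℂ) ∧
      classInner (fun t : T => (χ : X → ℂ) t) (χ₁ : T → ℂ) = 1 ∧
      classInner (fun n : N => (χ₁ : T → ℂ) ⟨(n : X), hNT n.2⟩) θ ≠ 0 ∧
      ∀ ψ : IrrCharacter T, classInner (fun t : T => (χ : X → ℂ) t) (ψ : T → ℂ) ≠ 0 →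
        classInner (fun n : N => (ψ : T → ℂ) ⟨(n : X), hNT n.2⟩) θ ≠ 0 → ψ = χ₁ := by
  obtain ⟨χ₁, h1, h2, h3, hu⟩ := GlaubermanNormalSylow.theta_part N hθ T hT hNT χ.2 h
  have hov : classInner (fun n : N => (χ₁ : T → ℂ) ⟨(n : X), hNT n.2⟩) θ ≠ 0 := by
    rw [h3, classInner_smul_left, classInner_irr_self hθ, mul_one]
    exact h
  refine ⟨χ₁, fun a t => ?_, h1, h2, hov, hu⟩
  let χ' : IrrCharacter T := ⟨(χ₁ : T → ℂ) ∘ (resSub τ T hTi a).toMonoidHom,
    isIrrCharacter_comap _ (resSub τ T hTi a).surjective χ₁.2⟩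
  have e1 : classInner (fun t : T => (χ : X → ℂ) t) (χ' : T → ℂ) ≠ 0 := by
    rw [show (χ' : T → ℂ) = (χ₁ : T → ℂ) ∘ resSub τ T hTi a from rfl,
      inv_comp (τ := resSub τ T hTi) (fun b x => hχ b x) a, h2]
    exact one_ne_zero
  have e2 : classInner (fun n : N => (χ' : T → ℂ) ⟨(n : X), hNT n.2⟩) θ ≠ 0 := by
    have e := classInner_congr_equiv (G := N) (resSub τ N hN a)
      (fun n : N => (χ₁ : T → ℂ) ⟨(n : X), hNT n.2⟩) θ
    rw [show θ ∘ (resSub τ N hN a) = θ from funext (hθi a)] at e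
    exact fun h0 => hov (e.symm.trans h0)
  exact congrFun (congrArg Subtype.val (hu χ' e1 e2)) t

theorem corr_up (hθ : IsIrrCharacter N θ) (hT : T = CharInduced.inertia N θ)
    (hθi : Inv (resSub τ N hN) θ) (hNT : N ≤ T) (χ₁ : IrrCharacter T)
    (hinv : Inv (resSub τ T hTi) (χ₁ : T → ℂ))
    (h : classInner (fun n : N => (χ₁ : T → ℂ) ⟨(n : X), hNT n.2⟩) θ ≠ 0) :
    ∃ χ : IrrCharacter X, (χ : X → ℂ) = indFun T (χ₁ : T → ℂ) ∧ Inv τ (χ : X → ℂ) ∧
      classInner (fun n : N => (χ : X → ℂ) n) θ ≠ 0 := by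
  have hTg : ∀ g, g ∈ T ↔ CharInduced.conjFun N θ g = θ := fun g => by rw [hT]; rfl
  have hirr := CharInduced.ind_inertia_irr N T hNT hθ hTg χ₁.2 h
  have hc : classInner (fun t : T => indFun T (χ₁ : T → ℂ) t) (χ₁ : T → ℂ) = 1 := by
    rw [← CharInduced.inner_ind_right T _ (CharInduced.isClassFunction_irr hirr)]
    exact classInner_irr_self hirr
  refine ⟨⟨_, hirr⟩, rfl, fun a g => ?_, ?_⟩
  · let χ' : X → ℂ := indFun T (χ₁ : T → ℂ) ∘ (τ a).toMonoidHom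
    have hχ' : IsIrrCharacter X χ' := isIrrCharacter_comap _ (τ a).surjective hirr
    have hc' : classInner (fun t : T => χ' t) (χ₁ : T → ℂ) ≠ 0 := by
      have e := classInner_congr_equiv (G := T) (resSub τ T hTi a)
        (fun t : T => indFun T (χ₁ : T → ℂ) t) (χ₁ : T → ℂ)
      rw [show (χ₁ : T → ℂ) ∘ (resSub τ T hTi a) = (χ₁ : T → ℂ) from funext (hinv a)] at e
      exact fun h0 => one_ne_zero (hc.symm.trans (e.symm.trans h0))
    exact (congrFun (CharInduced.ind_inertia_eq N T hNT hθ hTg χ₁.2 h hχ' hc').1 g).symm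
  · rw [(CharInduced.ind_inertia_eq N T hNT hθ hTg χ₁.2 h hirr
      (by rw [hc]; exact one_ne_zero)).2]
    exact h

end clifford

/-! ### A character invariant in `G` -/

theorem over_below [Fintype L] [Fintype K] [L.Normal] (hLK : L ≤ K) {φ : L → ℂ}
    (hφ : IsIrrCharacter L φ) (hφG : ∀ g, CharInduced.conjFun L φ g = φ) {χ : G → ℂ}
    (hχ : IsIrrCharacter G χ) (hc : classInner (fun n : L => χ n) φ ≠ 0) {θ : K → ℂ}
    (hθ : IsIrrCharacter K θ) (hθc : classInner (fun n : K => χ n) θ ≠ 0) :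
    classInner (fun n : L => θ ⟨(n : G), hLK n.2⟩) φ ≠ 0 := by
  obtain ⟨ψ, hψ, hψc⟩ := CharInduced.exists_constituent
    (isCharacter_comap (Subgroup.inclusion hLK) (isCharacter_of_isIrrCharacter hθ))
    (fun h0 => isIrrCharacter_apply_one_ne_zero hθ (by
      have := congrFun h0 1
      simpa using this))
  have h1 := over_trans hLK (isCharacter_of_isIrrCharacter hχ) hθ hψ hθc hψc
  rw [CharInduced.res_eq_smul_of_invariant L hφ
    hφG hχ hc, classInner_smul_left] at h1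
  have : ψ = φ := by
    by_contra hne
    exact h1 (by rw [classInner_irr_ne hφ hψ (Ne.symm hne), mul_zero])
  exact this ▸ hψc

theorem Sec.lam_eq_one (sc : Sec σ K L H) (lam : K →* ℂˣ)
    (hL : ∀ k : K, (k : G) ∈ L → lam k = 1) (hinv : ∀ a k, lam (resSub σ K sc.invK a k) = lam k) :
    lam = 1 := by
  haveI := sc.solv
  refine MonoidHom.ext fun k => ?_
  obtain ⟨c, hc, hkc⟩ := CoprimeActionAut.exists_fixed_mem_coset (φ := resSub σ K sc.invK)
    (sc.cop.symm.coprime_dvd_right (Subgroup.card_subgroup_dvd_card K))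
    (Or.inr inferInstance) lam.ker (fun a s hs => by
      rw [MonoidHom.mem_ker] at hs ⊢
      rw [hinv, hs]) k (fun a => by
      rw [MonoidHom.mem_ker, map_mul, map_inv, hinv, inv_mul_cancel])
  have hcL : lam c = 1 := hL c (sc.fixfree _ c.2 fun a => congrArg Subtype.val (hc a))
  rw [MonoidHom.mem_ker, map_mul, map_inv, hcL, mul_one, inv_eq_one] at hkc
  exact hkc

/-- The invariant character above `φ` is unique. -/
theorem Sec.theta_unique [Fintype K] [Fintype L] (sc : Sec σ K L H) {φ : L → ℂ}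
    (hφ : IsIrrCharacter L φ) {θ θ' : IrrCharacter K}
    (h : classInner (fun n : L => (θ : K → ℂ) ⟨(n : G), sc.LK n.2⟩) φ ≠ 0)
    (h' : classInner (fun n : L => (θ' : K → ℂ) ⟨(n : G), sc.LK n.2⟩) φ ≠ 0)
    (hi : Inv (resSub σ K sc.invK) (θ : K → ℂ)) (hi' : Inv (resSub σ K sc.invK) (θ' : K → ℂ)) :
    θ = θ' := by
  classical
  haveI := sc.Lnorm
  haveI := Fintype.ofFinite (L.subgroupOf K)
  haveI := Fintype.ofFinite A
  have hab : commutator K ≤ L.subgroupOf K := by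
    rw [commutator_def, Subgroup.commutator_le]
    intro x _ y _
    rw [Subgroup.mem_subgroupOf, commutatorElement_def]
    exact sc.comm x x.2 y y.2
  obtain ⟨lam, hlam, he⟩ := exists_linear_twist (M := L.subgroupOf K) hab
    (isIrr_onSub sc.LK hφ) θ.2 θ'.2
    (fun h0 => h ((inner_onSub sc.LK (θ : K → ℂ) φ).symm.trans h0))
    (fun h0 => h' ((inner_onSub sc.LK (θ' : K → ℂ) φ).symm.trans h0))
  let P : K →* ℂˣ := ∏ a : A, lam.comp (resSub σ K sc.invK a).toMonoidHom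
  have hP : P = 1 := sc.lam_eq_one P (fun k hk => by
    simp only [P, MonoidHom.finsetProd_apply, MonoidHom.comp_apply]
    exact Finset.prod_eq_one fun a _ => hlam _ (sc.invL a _ hk)) (fun b k => by
    simp only [P, MonoidHom.finsetProd_apply, MonoidHom.comp_apply]
    refine Fintype.prod_equiv (Equiv.mulRight b) _ _ fun a => ?_
    show lam (resSub σ K sc.invK a (resSub σ K sc.invK b k)) = lam (resSub σ K sc.invK (a * b) k)
    rw [map_mul]
    rfl)
  refine Subtype.ext (funext fun k => ?_)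
  rw [he]
  show (θ : K → ℂ) k = (θ : K → ℂ) k * (lam k : ℂ)
  by_cases h0 : (θ : K → ℂ) k = 0
  · rw [h0, zero_mul]
  have hμ : ∀ a, lam (resSub σ K sc.invK a k) = lam k := fun a => by
    have e := hi' a k
    rw [he] at e
    simp only [hi a k] at e
    exact Units.ext (mul_left_cancel₀ h0 e)
  have h1 : lam k ^ Nat.card A = 1 := by
    have e := DFunLike.congr_fun hP k
    simp only [P, MonoidHom.finsetProd_apply, MonoidHom.comp_apply, MulEquiv.coe_toMonoidHom, hμ,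
      Finset.prod_const, Finset.card_univ, MonoidHom.one_apply] at e
    rwa [Nat.card_eq_fintype_card]
  have h2 : lam k ^ Nat.card K = 1 := by rw [← map_pow, pow_card_eq_one', map_one]
  have h3 := pow_gcd_eq_one.2 ⟨h2, h1⟩
  rw [Nat.coprime_iff_gcd_eq_one.1 (sc.cop.coprime_dvd_left (Subgroup.card_subgroup_dvd_card K)),
    pow_one] at h3
  rw [h3, Units.val_one, mul_one]

/-- The invariant character above `φ` exists. -/
theorem Sec.exists_theta [Fintype K] [Fintype L] (sc : Sec σ K L H) {φ : L → ℂ}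
    (hφ : IsIrrCharacter L φ) (hφi : Inv (resSub σ L sc.invL) φ) :
    ∃ θ : IrrCharacter K, classInner (fun n : L => (θ : K → ℂ) ⟨(n : G), sc.LK n.2⟩) φ ≠ 0 ∧
      Inv (resSub σ K sc.invK) (θ : K → ℂ) := by
  classical
  haveI := sc.Lnorm
  haveI := sc.solv
  haveI := Fintype.ofFinite (L.subgroupOf K)
  haveI : (L.subgroupOf K).Normal := sc.Lnorm.subgroupOf K
  have hcop : (Nat.card (A ⧸ (⊥ : Subgroup A))).Coprime (L.subgroupOf K).index := by
    rw [← Subgroup.index_eq_card, Subgroup.index_bot]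
    exact sc.cop.symm.coprime_dvd_right
      ((Subgroup.index_dvd_card _).trans (Subgroup.card_subgroup_dvd_card K))
  obtain ⟨θ, hθ, hθi⟩ := exists_inv_over (resSub σ K sc.invK) (L.subgroupOf K)
    (fun a m hm => sc.invL a _ hm) ⊥ hcop (hB_bot _ _)
    (Group.isSolvable_of_surjective (QuotientGroup.mk'_surjective _))
    ⟨onSub (T := K) φ, isIrr_onSub sc.LK hφ⟩ (fun a n => hφi a ⟨((n : K) : G), n.2⟩)
  exact ⟨θ, fun h0 => hθ ((inner_onSub sc.LK (θ : K → ℂ) φ).trans h0), hθi⟩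

theorem Sec.theta_inv [Fintype K] [Fintype L] [K.Normal] [L.Normal] (sc : Sec σ K L H)
    {φ : L → ℂ} (hφ : IsIrrCharacter L φ) (hφG : ∀ g, CharInduced.conjFun L φ g = φ)
    {θ : IrrCharacter K} (h : classInner (fun n : L => (θ : K → ℂ) ⟨(n : G), sc.LK n.2⟩) φ ≠ 0)
    (hi : Inv (resSub σ K sc.invK) (θ : K → ℂ)) (g : G) :
    CharInduced.conjFun K (θ : K → ℂ) g = (θ : K → ℂ) := by
  obtain ⟨k, hk, x, hx, rfl⟩ := sc.prod g
  obtain ⟨l, hl, c, hc, rfl, hfix⟩ := sc.fixH x hx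
  have hcl := CharInduced.isClassFunction_irr θ.2
  rw [← mul_assoc, ← CharInduced.conjFun_conjFun,
    CharInduced.conjFun_mem_eq K hcl (K.mul_mem hk (sc.LK hl))]
  let θ' : IrrCharacter K :=
    ⟨CharInduced.conjFun K (θ : K → ℂ) c, CharInduced.isIrrCharacter_conjFun K θ.2 c⟩
  refine congrArg Subtype.val (sc.theta_unique hφ (θ := θ') (θ' := θ) ?_ h ?_ hi)
  · have e := classInner_congr_equiv (G := L) (MulAut.conjNormal c : L ≃* L)
      (fun n : L => (θ : K → ℂ) ⟨(n : G), sc.LK n.2⟩) φ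
    rw [show φ ∘ ⇑(MulAut.conjNormal c : L ≃* L) = φ from
      (CharInduced.conjFun_eq_comp L φ c).symm.trans (hφG c)] at e
    intro h0
    refine h (e.symm.trans (Eq.trans ?_ h0))
    refine congrArg (fun f => classInner f φ) (funext fun n => ?_)
    exact congrArg (θ : K → ℂ) (Subtype.ext (MulAut.conjNormal_apply c n))
  · intro a n
    show (θ : K → ℂ) ⟨c * σ a n * c⁻¹, _⟩ = (θ : K → ℂ) ⟨c * n * c⁻¹, _⟩
    rw [← hi a ⟨c * n * c⁻¹, _⟩]
    exact congrArg (θ : K → ℂ) (Subtype.ext (by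
      show c * σ a n * c⁻¹ = σ a (c * n * c⁻¹)
      rw [map_mul, map_mul, map_inv, hfix]))

/-- The correspondence over a `G`-invariant character. -/
theorem Sec.homogeneous [Fintype L] [Fintype H] [L.Normal] (sc : Sec σ K L H) (φ : IrrCharacter L)
    (hφG : ∀ g, CharInduced.conjFun L (φ : L → ℂ) g = (φ : L → ℂ))
    (hφi : Inv (resSub σ L sc.invL) (φ : L → ℂ)) :
    (∀ χ : IrrCharacter G, Inv σ (χ : G → ℂ) →
      classInner (fun n : L => (χ : G → ℂ) n) (φ : L → ℂ) ≠ 0 →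
      ∃ η : IrrCharacter H, Inv (resSub σ H sc.invH) (η : H → ℂ) ∧
        classInner (fun n : L => (η : H → ℂ) ⟨(n : G), sc.LH n.2⟩) (φ : L → ℂ) ≠ 0 ∧
        Rel H (χ : G → ℂ) (η : H → ℂ) ∧
        ∀ η' : IrrCharacter H, Rel H (χ : G → ℂ) (η' : H → ℂ) → η' = η) ∧
    (∀ χ χ' : IrrCharacter G, Inv σ (χ : G → ℂ) → Inv σ (χ' : G → ℂ) →
      classInner (fun n : L => (χ : G → ℂ) n) (φ : L → ℂ) ≠ 0 →
      classInner (fun n : L => (χ' : G → ℂ) n) (φ : L → ℂ) ≠ 0 →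
      ∀ η : IrrCharacter H, Rel H (χ : G → ℂ) (η : H → ℂ) → Rel H (χ' : G → ℂ) (η : H → ℂ) →
        χ = χ') ∧
    ∀ η : IrrCharacter H, Inv (resSub σ H sc.invH) (η : H → ℂ) →
      classInner (fun n : L => (η : H → ℂ) ⟨(n : G), sc.LH n.2⟩) (φ : L → ℂ) ≠ 0 →
      ∃ χ : IrrCharacter G, Inv σ (χ : G → ℂ) ∧
        classInner (fun n : L => (χ : G → ℂ) n) (φ : L → ℂ) ≠ 0 ∧
        Rel H (χ : G → ℂ) (η : H → ℂ) := by
  classical
  haveI := sc.Knorm
  haveI := sc.solv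
  haveI := Fintype.ofFinite K
  haveI : (L.subgroupOf K).Normal := sc.Lnorm.subgroupOf K
  obtain ⟨θ, hθo, hθi⟩ := sc.exists_theta φ.2 hφi
  have hθinv := sc.theta_inv φ.2 hφG hθo hθi
  have hhom : ∃ e : ℕ, ∀ l : L,
      (θ : K → ℂ) ⟨(l : G), sc.LK l.2⟩ = (e : ℂ) * (φ : L → ℂ) l := by
    haveI := Fintype.ofFinite (L.subgroupOf K)
    obtain ⟨e, he⟩ := classInner_isCharacter
      (CharInduced.isCharacter_res (L.subgroupOf K) (isCharacter_of_isIrrCharacter θ.2))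
      (isCharacter_of_isIrrCharacter (isIrr_onSub sc.LK φ.2))
    refine ⟨e, fun l => ?_⟩
    have h1 := CharInduced.res_eq_smul_of_invariant (L.subgroupOf K) (isIrr_onSub sc.LK φ.2)
      (fun g => funext fun (n : L.subgroupOf K) => congrFun (hφG g) ⟨((n : K) : G), n.2⟩) θ.2
      (fun h0 => hθo ((inner_onSub sc.LK (θ : K → ℂ) φ).symm.trans h0))
    rw [he] at h1
    exact congrFun h1 ⟨⟨(l : G), sc.LK l.2⟩, l.2⟩
  have st : FRInvCore.Setting K L H (θ : K → ℂ) (φ : L → ℂ) :=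
    ⟨sc.Lnorm, sc.LK, sc.LH, sc.inf, sc.prod, sc.comm, sc.odd, θ.2, φ.2, hθinv, hhom⟩
  obtain ⟨Ψ, hΨ, hΨodd⟩ := FRInvCore.core st (resSub σ K sc.invK)
    (fun a k hk => sc.invL a _ hk) (fun a k => hθi a k) sc.lam_eq_one
    (sc.cop.coprime_dvd_left ((Subgroup.relIndex_dvd_card L K).trans
      (Subgroup.card_subgroup_dvd_card K)))
    (fun h hh => by
      obtain ⟨l, hl, c, hc, e, hfix⟩ := sc.fixH h hh
      refine ⟨l, hl, c, hc, e, fun a k k' hk => ?_⟩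
      rw [resSub_apply, resSub_apply, hk, map_mul, map_mul, map_inv, hfix])
  have hiff : ∀ χ (η : IrrCharacter H),
      Rel H (χ.1 : G → ℂ) (η : H → ℂ) ↔ η = (Ψ χ).1 := fun χ η => by
    obtain ⟨m, hm⟩ := classInner_isCharacter
      (CharInduced.isCharacter_res H (isCharacter_of_isIrrCharacter χ.1.2))
      (isCharacter_of_isIrrCharacter η.2)
    rw [← hΨodd χ η m hm]
    exact ⟨fun ⟨m', e, ho⟩ => Nat.cast_injective (hm.symm.trans e) ▸ ho, fun ho => ⟨m, hm, ho⟩⟩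
  have hθover : ∀ χ : IrrCharacter G, Inv σ (χ : G → ℂ) →
      classInner (fun n : L => (χ : G → ℂ) n) (φ : L → ℂ) ≠ 0 →
      classInner (fun n : K => (χ : G → ℂ) n) (θ : K → ℂ) ≠ 0 := by
    intro χ hχi hχo
    obtain ⟨θ', h1, h2⟩ := exists_inv_below σ K sc.invK ⊥ (sc.cop_index K) (hB_bot _ _)
      (Or.inr (Group.isSolvable_of_surjective (QuotientGroup.mk'_surjective _))) χ hχi
    have := sc.theta_unique φ.2 hθo (over_below sc.LK φ.2 hφG χ.2 hχo θ'.2 h1) hθi h2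
    exact this ▸ h1
  refine ⟨fun χ hχi hχo => ?_, fun χ χ' h h' ho ho' η r r' => ?_, fun η hηi hηo => ?_⟩
  · let x : {χ : IrrCharacter G // classInner (fun n : K => (χ : G → ℂ) n) (θ : K → ℂ) ≠ 0} :=
      ⟨χ, hθover χ hχi hχo⟩
    refine ⟨(Ψ x).1, fun a h => ?_, (Ψ x).2, (hiff x _).2 rfl, fun η' r => (hiff x η').1 r⟩
    obtain ⟨m, hm, ho⟩ := (hiff x _).2 rfl
    let η' : IrrCharacter H := ⟨((Ψ x).1 : H → ℂ) ∘ (resSub σ H sc.invH a).toMonoidHom,
      isIrrCharacter_comap _ (resSub σ H sc.invH a).surjective (Ψ x).1.2⟩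
    have e : η' = (Ψ x).1 := (hiff x η').1 ⟨m, (inv_comp (τ := resSub σ H sc.invH)
      (f := fun h : H => (χ : G → ℂ) h) (fun b y => hχi b y) a _).trans hm, ho⟩
    exact congrFun (congrArg Subtype.val e) h
  · exact congrArg Subtype.val (hΨ.1 (a₁ := ⟨χ, hθover χ h ho⟩) (a₂ := ⟨χ', hθover χ' h' ho'⟩)
      (Subtype.ext (((hiff ⟨χ, hθover χ h ho⟩ η).1 r).symm.trans
        ((hiff ⟨χ', hθover χ' h' ho'⟩ η).1 r'))))
  · obtain ⟨x, hx⟩ := hΨ.2 ⟨η, hηo⟩
    have hr : Rel H (x.1 : G → ℂ) (η : H → ℂ) := (hiff x η).2 (by rw [hx])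
    refine ⟨x.1, fun a g => ?_, over_trans sc.LK (isCharacter_of_isIrrCharacter x.1.2) θ.2 φ.2 x.2
      hθo, hr⟩
    let χ' : IrrCharacter G := ⟨(x.1 : G → ℂ) ∘ (σ a).toMonoidHom,
      isIrrCharacter_comap _ (σ a).surjective x.1.2⟩
    have hc : classInner (fun n : K => (χ' : G → ℂ) n) (θ : K → ℂ) ≠ 0 := by
      have e := classInner_congr_equiv (G := K) (resSub σ K sc.invK a)
        (fun n : K => (x.1 : G → ℂ) n) (θ : K → ℂ)
      rw [show (θ : K → ℂ) ∘ (resSub σ K sc.invK a) = (θ : K → ℂ) from funext (hθi a)] at e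
      exact fun h0 => x.2 (e.symm.trans h0)
    have hr' : Rel H (χ' : G → ℂ) (η : H → ℂ) := by
      obtain ⟨m, hm, ho⟩ := hr
      have e := classInner_congr_equiv (G := H) (resSub σ H sc.invH a)
        (fun h : H => (x.1 : G → ℂ) h) (η : H → ℂ)
      rw [show (η : H → ℂ) ∘ (resSub σ H sc.invH a) = (η : H → ℂ) from funext (hηi a)] at e
      exact ⟨m, e.trans hm, ho⟩
    have e : (⟨χ', hc⟩ : {χ : IrrCharacter G //
        classInner (fun n : K => (χ : G → ℂ) n) (θ : K → ℂ) ≠ 0}) = x :=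
      hΨ.1 (Subtype.ext (((hiff ⟨χ', hc⟩ η).1 hr').symm.trans ((hiff x η).1 hr)))
    exact congrFun (congrArg (fun y => ((y.1 : IrrCharacter G) : G → ℂ)) e) g

/-! ### The inertia group -/

variable [Fintype L] [L.Normal] {φ : L → ℂ}

theorem Sec.invT (sc : Sec σ K L H) (hφi : Inv (resSub σ L sc.invL) φ) (a : A) {t : G}
    (ht : t ∈ CharInduced.inertia L φ) : σ a t ∈ CharInduced.inertia L φ := by
  rw [CharInduced.mem_inertia_iff] at ht ⊢
  intro n
  obtain ⟨n', rfl⟩ := (resSub σ L sc.invL a).surjective n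
  rw [hφi a n', ← ht n', ← hφi a ⟨t * (n' : G) * t⁻¹, sc.Lnorm.conj_mem _ n'.2 _⟩]
  refine congrArg φ (Subtype.ext ?_)
  show σ a t * σ a n' * (σ a t)⁻¹ = σ a (t * n' * t⁻¹)
  rw [map_mul, map_mul, map_inv]

theorem Sec.inv_conj_H (sc : Sec σ K L H) (hφ : IsClassFunction L φ)
    (hφi : Inv (resSub σ L sc.invL) φ) {h : G} (hh : h ∈ H) :
    Inv (resSub σ L sc.invL) (CharInduced.conjFun L φ h) := by
  obtain ⟨l, hl, c, -, rfl, hfix⟩ := sc.fixH h hh
  rw [← CharInduced.conjFun_conjFun, CharInduced.conjFun_mem_eq L hφ hl]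
  intro a n
  show φ ⟨c * σ a n * c⁻¹, _⟩ = φ ⟨c * n * c⁻¹, _⟩
  rw [← hφi a ⟨c * n * c⁻¹, _⟩]
  exact congrArg φ (Subtype.ext (by
    show c * σ a n * c⁻¹ = σ a (c * n * c⁻¹)
    rw [map_mul, map_mul, map_inv, hfix]))

theorem Sec.mem_of_inv (sc : Sec σ K L H) (hφ : IsClassFunction L φ)
    (hφi : Inv (resSub σ L sc.invL) φ) {k : G} (hk : k ∈ K)
    (hinv : Inv (resSub σ L sc.invL) (CharInduced.conjFun L φ k)) :
    k ∈ CharInduced.inertia L φ := by
  haveI := sc.solv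
  have hmem : ∀ a, σ a k * k⁻¹ ∈ CharInduced.inertia L φ := fun a => by
    rw [← CharInduced.conjFun_eq_iff]
    funext n
    obtain ⟨n', rfl⟩ := (resSub σ L sc.invL a).surjective n
    rw [hinv a n']
    refine Eq.trans ?_ (hφi a ⟨k * (n' : G) * k⁻¹, sc.Lnorm.conj_mem _ n'.2 _⟩)
    refine congrArg φ (Subtype.ext ?_)
    show σ a k * σ a n' * (σ a k)⁻¹ = σ a (k * n' * k⁻¹)
    rw [map_mul, map_mul, map_inv]
  obtain ⟨c, hc, hkc⟩ := CoprimeActionAut.exists_fixed_mem_coset (φ := σ) sc.cop.symm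
    (Or.inr inferInstance) (K ⊓ CharInduced.inertia L φ)
    (fun a s hs => ⟨sc.invK a s hs.1, sc.invT hφi a hs.2⟩) k⁻¹ (fun a => by
      have h1 : (σ a k * k⁻¹)⁻¹ ∈ K ⊓ CharInduced.inertia L φ :=
        Subgroup.inv_mem _ ⟨K.mul_mem (sc.invK a k hk) (K.inv_mem hk), hmem a⟩
      simpa [map_inv] using h1)
  rw [inv_inv] at hkc
  have hcK : c ∈ K := (Subgroup.mul_mem_cancel_left K hk).1 hkc.1
  have hcT : c ∈ CharInduced.inertia L φ := CharInduced.le_inertia L hφ (sc.fixfree c hcK hc)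
  exact (Subgroup.mul_mem_cancel_right _ hcT).1 hkc.2

theorem Sec.restrict (sc : Sec σ K L H) (hφ : IsClassFunction L φ)
    (hφi : Inv (resSub σ L sc.invL) φ) :
    Sec (resSub σ (CharInduced.inertia L φ) fun a _ ht => sc.invT hφi a ht)
      (K.subgroupOf (CharInduced.inertia L φ)) (L.subgroupOf (CharInduced.inertia L φ))
      (H.subgroupOf (CharInduced.inertia L φ)) := by
  have hLT := CharInduced.le_inertia L hφ
  haveI := sc.solv
  refine ⟨sc.Knorm.subgroupOf _, sc.Lnorm.subgroupOf _, fun a k hk => sc.invK a _ hk,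
    fun a l hl => sc.invL a _ hl, fun x hx => sc.LK hx, fun x hx => sc.LH hx, ?_, fun g => ?_,
    fun a ha b hb => sc.comm a ha b hb,
    sc.odd.of_dvd_nat (Subgroup.card_subgroup_dvd_card _),
    sc.cop.coprime_dvd_left (Subgroup.card_subgroup_dvd_card _), inferInstance,
    fun h hh => ?_, fun k hk hfix => sc.fixfree _ hk fun a => congrArg Subtype.val (hfix a)⟩
  · ext x
    exact SetLike.ext_iff.1 sc.inf (x : G)
  · obtain ⟨k, hk, h, hh, e⟩ := sc.prod g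
    have h1 : CharInduced.conjFun L φ k = CharInduced.conjFun L φ h⁻¹ := by
      rw [CharInduced.conjFun_eq_iff, inv_inv, ← e]
      exact g.2
    have hkT := sc.mem_of_inv hφ hφi hk (h1 ▸ sc.inv_conj_H hφ hφi (H.inv_mem hh))
    have hhT : h ∈ CharInduced.inertia L φ :=
      (Subgroup.mul_mem_cancel_left _ hkT).1 (e ▸ g.2)
    exact ⟨⟨k, hkT⟩, hk, ⟨h, hhT⟩, hh, Subtype.ext e⟩
  · obtain ⟨l, hl, c, hc, e, hfix⟩ := sc.fixH h hh
    have hcT : c ∈ CharInduced.inertia L φ :=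
      (Subgroup.mul_mem_cancel_left _ (hLT hl)).1 (e ▸ h.2)
    exact ⟨⟨l, hLT hl⟩, hl, ⟨c, hcT⟩, hc, Subtype.ext e, fun a => Subtype.ext (hfix a)⟩

omit [Fintype L] [L.Normal] in
/-- The two copies of `H ⊓ T`. -/
def swapSub (H T : Subgroup G) : T.subgroupOf H ≃* H.subgroupOf T where
  toFun x := ⟨⟨((x : H) : G), x.2⟩, (x : H).2⟩
  invFun x := ⟨⟨((x : T) : G), x.2⟩, (x : T).2⟩
  left_inv _ := rfl
  right_inv _ := rfl
  map_mul' _ _ := rfl

theorem inertia_sub (hLH : L ≤ H) :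
    (CharInduced.inertia L φ).subgroupOf H =
      CharInduced.inertia (L.subgroupOf H) (onSub (T := H) φ) := by
  ext x
  rw [Subgroup.mem_subgroupOf, CharInduced.mem_inertia_iff, CharInduced.mem_inertia_iff]
  exact ⟨fun h n => h ⟨((n : H) : G), n.2⟩, fun h n => h ⟨⟨(n : G), hLH n.2⟩, n.2⟩⟩

/-- Reduction to the inertia group. -/
theorem Sec.inner_down [Fintype H] [Fintype (L.subgroupOf H)] [Fintype (CharInduced.inertia L φ)]
    [Fintype ((CharInduced.inertia L φ).subgroupOf H)] (sc : Sec σ K L H) (hφ : IsIrrCharacter L φ)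
    {χ : G → ℂ} (hχ : IsIrrCharacter G χ) (χ₁ : IrrCharacter (CharInduced.inertia L φ))
    (h1 : classInner (fun t : CharInduced.inertia L φ => χ t)
      (χ₁ : CharInduced.inertia L φ → ℂ) = 1)
    (hu : ∀ ψ : IrrCharacter (CharInduced.inertia L φ),
      classInner (fun t : CharInduced.inertia L φ => χ t)
        (ψ : CharInduced.inertia L φ → ℂ) ≠ 0 →
      classInner (fun n : L => (ψ : CharInduced.inertia L φ → ℂ)
        ⟨(n : G), CharInduced.le_inertia L (CharInduced.isClassFunction_irr hφ) n.2⟩) φ ≠ 0 →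
      ψ = χ₁)
    {ψ : H → ℂ} (ψ₁ : IrrCharacter ((CharInduced.inertia L φ).subgroupOf H))
    (hind : indFun ((CharInduced.inertia L φ).subgroupOf H)
      (ψ₁ : (CharInduced.inertia L φ).subgroupOf H → ℂ) = ψ)
    (hψ₁ : classInner (fun n : L.subgroupOf H =>
      (ψ₁ : (CharInduced.inertia L φ).subgroupOf H → ℂ)
        ⟨(n : H), CharInduced.le_inertia L (CharInduced.isClassFunction_irr hφ) n.2⟩)
      (onSub (T := H) φ) ≠ 0) :
    classInner (fun h : H => χ h) ψ =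
      classInner (fun x : (CharInduced.inertia L φ).subgroupOf H =>
        (χ₁ : CharInduced.inertia L φ → ℂ) ⟨((x : H) : G), x.2⟩)
        (ψ₁ : (CharInduced.inertia L φ).subgroupOf H → ℂ) := by
  classical
  let j : (CharInduced.inertia L φ).subgroupOf H →* CharInduced.inertia L φ :=
    (H.subtype.comp ((CharInduced.inertia L φ).subgroupOf H).subtype).codRestrict
      (CharInduced.inertia L φ) fun x => x.2
  rw [← hind, CharInduced.inner_ind_right _ _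
    (CharInduced.isClassFunction_res H (CharInduced.isClassFunction_irr hχ))]
  obtain ⟨m, hm, hsum⟩ := exists_mult
    (CharInduced.isCharacter_res (CharInduced.inertia L φ) (isCharacter_of_isIrrCharacter hχ))
  have h2 : (fun x : (CharInduced.inertia L φ).subgroupOf H => χ ((x : H) : G)) =
      ∑ χ' : IrrCharacter (CharInduced.inertia L φ),
        (m χ' : ℂ) • ((χ' : CharInduced.inertia L φ → ℂ) ∘ j) := funext fun x => by
    have e := congrFun hsum (j x)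
    simp only [Finset.sum_apply, Pi.smul_apply, Function.comp_apply] at e ⊢
    exact e
  rw [h2, classInner_sum_left, Finset.sum_eq_single χ₁, classInner_smul_left,
    show (m χ₁ : ℂ) = 1 from (hm χ₁).symm.trans h1, one_mul]
  · rfl
  · intro χ' _ hne
    rw [classInner_smul_left]
    by_contra h0
    obtain ⟨hm', hin⟩ := mul_ne_zero_iff.1 h0
    have ho := constituent_over
      (Subgroup.inclusion (show L.subgroupOf H ≤ (CharInduced.inertia L φ).subgroupOf H from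
        fun x hx => CharInduced.le_inertia L (CharInduced.isClassFunction_irr hφ) hx))
      (isCharacter_comap j (isCharacter_of_isIrrCharacter χ'.2)) ψ₁.2
      (isIrr_onSub sc.LH hφ) hin hψ₁
    refine hne (hu χ' (by rw [hm χ']; exact hm') fun h0' => ho ?_)
    exact (classInner_congr_equiv (G := L) (Subgroup.subgroupOfEquivOfLe sc.LH)
      (fun n : L => (χ' : CharInduced.inertia L φ → ℂ)
        ⟨(n : G), CharInduced.le_inertia L (CharInduced.isClassFunction_irr hφ) n.2⟩) φ).trans h0'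
  · exact fun hh => absurd (Finset.mem_univ _) hh

/-- The correspondence over one invariant character of `L`. -/
theorem Sec.over_phi [Fintype H] (sc : Sec σ K L H) (hφ : IsIrrCharacter L φ)
    (hφi : Inv (resSub σ L sc.invL) φ) :
    (∀ χ : IrrCharacter G, Inv σ (χ : G → ℂ) →
      classInner (fun n : L => (χ : G → ℂ) n) φ ≠ 0 →
      ∃ η : IrrCharacter H, Inv (resSub σ H sc.invH) (η : H → ℂ) ∧
        Rel H (χ : G → ℂ) (η : H → ℂ) ∧
        ∀ η' : IrrCharacter H,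
          classInner (fun n : L => (η' : H → ℂ) ⟨(n : G), sc.LH n.2⟩) φ ≠ 0 →
          Inv (resSub σ H sc.invH) (η' : H → ℂ) → Rel H (χ : G → ℂ) (η' : H → ℂ) → η' = η) ∧
    (∀ χ χ' : IrrCharacter G, Inv σ (χ : G → ℂ) → Inv σ (χ' : G → ℂ) →
      classInner (fun n : L => (χ : G → ℂ) n) φ ≠ 0 →
      classInner (fun n : L => (χ' : G → ℂ) n) φ ≠ 0 →
      ∀ η : IrrCharacter H, Inv (resSub σ H sc.invH) (η : H → ℂ) →
        classInner (fun n : L => (η : H → ℂ) ⟨(n : G), sc.LH n.2⟩) φ ≠ 0 →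
        Rel H (χ : G → ℂ) (η : H → ℂ) → Rel H (χ' : G → ℂ) (η : H → ℂ) → χ = χ') ∧
    ∀ η : IrrCharacter H, Inv (resSub σ H sc.invH) (η : H → ℂ) →
      classInner (fun n : L => (η : H → ℂ) ⟨(n : G), sc.LH n.2⟩) φ ≠ 0 →
      ∃ χ : IrrCharacter G, Inv σ (χ : G → ℂ) ∧ Rel H (χ : G → ℂ) (η : H → ℂ) := by
  classical
  let T := CharInduced.inertia L φ
  let SH := T.subgroupOf H
  haveI := Fintype.ofFinite T
  haveI := Fintype.ofFinite SH
  haveI := Fintype.ofFinite (L.subgroupOf T)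
  haveI := Fintype.ofFinite (H.subgroupOf T)
  haveI := Fintype.ofFinite (L.subgroupOf H)
  haveI : (L.subgroupOf T).Normal := sc.Lnorm.subgroupOf T
  haveI : (L.subgroupOf H).Normal := sc.Lnorm.subgroupOf H
  have hcl := CharInduced.isClassFunction_irr hφ
  have hLT : L ≤ T := CharInduced.le_inertia L hcl
  have hTi : ∀ a, ∀ t ∈ T, σ a t ∈ T := fun a t ht => sc.invT hφi a ht
  have hSi : ∀ a, ∀ x ∈ SH, resSub σ H sc.invH a x ∈ SH := fun a x hx => hTi a _ hx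
  have hLHi : ∀ a, ∀ x ∈ L.subgroupOf H, resSub σ H sc.invH a x ∈ L.subgroupOf H :=
    fun a x hx => sc.invL a _ hx
  have hφH : Inv (resSub (resSub σ H sc.invH) (L.subgroupOf H) hLHi) (onSub (T := H) φ) :=
    fun a n => hφi a ⟨((n : H) : G), n.2⟩
  have hNS : L.subgroupOf H ≤ SH := fun x hx => hLT hx
  have scT := sc.restrict hcl hφi
  obtain ⟨ex, inj, surj⟩ := scT.homogeneous ⟨onSub (T := T) φ, isIrr_onSub hLT hφ⟩
    (fun g => funext fun n => (CharInduced.mem_inertia_iff L).1 g.2 ⟨((n : T) : G), n.2⟩)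
    (fun a n => hφi a ⟨((n : T) : G), n.2⟩)
  let e : SH ≃* H.subgroupOf T := swapSub H T
  -- correspondents in `G`
  have down : ∀ χ : IrrCharacter G, Inv σ (χ : G → ℂ) →
      classInner (fun n : L => (χ : G → ℂ) n) φ ≠ 0 →
      ∃ χ₁ : IrrCharacter T, Inv (resSub σ T hTi) (χ₁ : T → ℂ) ∧
        indFun T (χ₁ : T → ℂ) = (χ : G → ℂ) ∧
        classInner (fun n : L.subgroupOf T => (χ₁ : T → ℂ) n) (onSub (T := T) φ) ≠ 0 ∧
        ∀ (ψ₁ : IrrCharacter SH),
          classInner (fun n : L.subgroupOf H => (ψ₁ : SH → ℂ) ⟨(n : H), hNS n.2⟩)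
            (onSub (T := H) φ) ≠ 0 →
          classInner (fun h : H => (χ : G → ℂ) h) (indFun SH (ψ₁ : SH → ℂ)) =
            classInner (fun x : H.subgroupOf T => (χ₁ : T → ℂ) x)
              ((ψ₁ : SH → ℂ) ∘ e.symm) := by
    intro χ hχi hχo
    obtain ⟨χ₁, hi, hind, h1, ho, hu⟩ :=
      corr_down σ L T sc.invL hTi hφ rfl hφi hLT χ hχi hχo
    refine ⟨χ₁, hi, hind, fun h0 => ho ((inner_onSub hLT _ φ).symm.trans h0), fun ψ₁ hψ => ?_⟩
    rw [sc.inner_down hφ χ.2 χ₁ h1 hu ψ₁ rfl hψ]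
    have e1 := classInner_congr_equiv (G := H.subgroupOf T) e
      (fun x : H.subgroupOf T => (χ₁ : T → ℂ) x) ((ψ₁ : SH → ℂ) ∘ e.symm)
    rw [show ((ψ₁ : SH → ℂ) ∘ e.symm) ∘ e = (ψ₁ : SH → ℂ) from
      funext fun x => congrArg (ψ₁ : SH → ℂ) (e.symm_apply_apply x)] at e1
    exact e1
  -- correspondents in `H`
  have downH : ∀ η : IrrCharacter H, Inv (resSub σ H sc.invH) (η : H → ℂ) →
      classInner (fun n : L => (η : H → ℂ) ⟨(n : G), sc.LH n.2⟩) φ ≠ 0 →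
      ∃ ψ₁ : IrrCharacter SH, Inv (resSub (resSub σ H sc.invH) SH hSi) (ψ₁ : SH → ℂ) ∧
        indFun SH (ψ₁ : SH → ℂ) = (η : H → ℂ) ∧
        classInner (fun n : L.subgroupOf H => (ψ₁ : SH → ℂ) ⟨(n : H), hNS n.2⟩)
          (onSub (T := H) φ) ≠ 0 := by
    intro η hηi hηo
    obtain ⟨ψ₁, hi, hind, -, ho, -⟩ := corr_down (resSub σ H sc.invH) (L.subgroupOf H) SH hLHi hSi
      (isIrr_onSub sc.LH hφ) (inertia_sub sc.LH) hφH hNS η hηi
      (fun h0 => hηo ((inner_onSub sc.LH (η : H → ℂ) φ).symm.trans h0))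
    exact ⟨ψ₁, hi, hind, ho⟩
  -- transport
  let push : IrrCharacter SH → IrrCharacter (H.subgroupOf T) := fun ψ₁ =>
    ⟨(ψ₁ : SH → ℂ) ∘ e.symm.toMonoidHom, isIrrCharacter_comap _ e.symm.surjective ψ₁.2⟩
  have pushInj : Function.Injective push := fun a b h => Subtype.ext (funext fun x => by
    simpa [push] using congrFun (congrArg Subtype.val h) (e x))
  have pushInv : ∀ ψ₁ : IrrCharacter SH, Inv (resSub (resSub σ H sc.invH) SH hSi) (ψ₁ : SH → ℂ) →
      Inv (resSub (resSub σ T hTi) (H.subgroupOf T) scT.invH)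
        (push ψ₁ : H.subgroupOf T → ℂ) := fun ψ₁ hi a x => hi a (e.symm x)
  have pushOver : ∀ ψ₁ : IrrCharacter SH,
      classInner (fun n : L.subgroupOf T =>
        (push ψ₁ : H.subgroupOf T → ℂ) ⟨(n : T), scT.LH n.2⟩) (onSub (T := T) φ) =
      classInner (fun n : L.subgroupOf H => (ψ₁ : SH → ℂ) ⟨(n : H), hNS n.2⟩)
        (onSub (T := H) φ) := fun ψ₁ => by
    have e1 := classInner_congr_equiv (G := L) (Subgroup.subgroupOfEquivOfLe hLT)
      (fun n : L => (ψ₁ : SH → ℂ) ⟨⟨(n : G), sc.LH n.2⟩, hLT n.2⟩) φ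
    have e2 := classInner_congr_equiv (G := L) (Subgroup.subgroupOfEquivOfLe sc.LH)
      (fun n : L => (ψ₁ : SH → ℂ) ⟨⟨(n : G), sc.LH n.2⟩, hLT n.2⟩) φ
    exact e1.trans e2.symm
  refine ⟨fun χ hχi hχo => ?_, fun χ χ' hi hi' ho ho' η hηi hηo r r' => ?_, fun η hηi hηo => ?_⟩
  · obtain ⟨χ₁, hi, -, ho, hrel⟩ := down χ hχi hχo
    obtain ⟨η₁, hη₁i, hη₁o, hη₁r, hη₁u⟩ := ex χ₁ hi ho
    let ψ₁ : IrrCharacter SH :=
      ⟨(η₁ : H.subgroupOf T → ℂ) ∘ e.toMonoidHom, isIrrCharacter_comap _ e.surjective η₁.2⟩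
    have hp : push ψ₁ = η₁ := Subtype.ext (funext fun x => by simp [push, ψ₁])
    have hψi : Inv (resSub (resSub σ H sc.invH) SH hSi) (ψ₁ : SH → ℂ) :=
      fun a x => hη₁i a (e x)
    have hψo : classInner (fun n : L.subgroupOf H => (ψ₁ : SH → ℂ) ⟨(n : H), hNS n.2⟩)
        (onSub (T := H) φ) ≠ 0 := by
      rw [← pushOver, hp]; exact hη₁o
    obtain ⟨η, hη, hηi, -⟩ := corr_up (resSub σ H sc.invH) (L.subgroupOf H) SH hLHi hSi
      (isIrr_onSub sc.LH hφ) (inertia_sub sc.LH) hφH hNS ψ₁ hψi hψo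
    refine ⟨η, hηi, ?_, fun η' ho' hi' r' => ?_⟩
    · obtain ⟨m, hm, hodd⟩ := hη₁r
      refine ⟨m, ?_, hodd⟩
      rw [hη, hrel ψ₁ hψo]
      rw [← hp] at hm
      exact hm
    · obtain ⟨ψ₁', -, hind', hψo'⟩ := downH η' hi' ho'
      obtain ⟨m, hm, hodd⟩ := r'
      rw [← hind', hrel ψ₁' hψo'] at hm
      have := pushInj ((hη₁u (push ψ₁') ⟨m, hm, hodd⟩).trans hp.symm)
      exact Subtype.ext (by rw [← hind', hη, this])
  · obtain ⟨χ₁, h1i, h1ind, h1o, hrel⟩ := down χ hi ho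
    obtain ⟨χ₁', h2i, h2ind, h2o, hrel'⟩ := down χ' hi' ho'
    obtain ⟨ψ₁, -, hind, hψo⟩ := downH η hηi hηo
    obtain ⟨m, hm, hodd⟩ := r
    obtain ⟨m', hm', hodd'⟩ := r'
    rw [← hind, hrel ψ₁ hψo] at hm
    rw [← hind, hrel' ψ₁ hψo] at hm'
    have := inj χ₁ χ₁' h1i h2i h1o h2o (push ψ₁) ⟨m, hm, hodd⟩ ⟨m', hm', hodd'⟩
    exact Subtype.ext (by rw [← h1ind, ← h2ind, this])
  · obtain ⟨ψ₁, hψi, hind, hψo⟩ := downH η hηi hηo
    obtain ⟨χ₁, h1i, h1o, hr⟩ := surj (push ψ₁) (pushInv ψ₁ hψi) (by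
      rw [pushOver]; exact hψo)
    have h1o' : classInner (fun n : L => (χ₁ : T → ℂ) ⟨(n : G), hLT n.2⟩) φ ≠ 0 :=
      fun h0 => h1o ((inner_onSub hLT _ φ).trans h0)
    obtain ⟨χ, hχ, hχi, hχo⟩ := corr_up σ L T sc.invL hTi hφ rfl hφi hLT χ₁ h1i h1o'
    obtain ⟨χ₂, -, h2ind, h2o, hrel⟩ := down χ hχi hχo
    have he : χ₂ = χ₁ := Subtype.ext (CharInduced.ind_inertia_injective L T hLT hφ
      (fun g => Iff.rfl) χ₂.2 χ₁.2 (fun h0 => h2o ((inner_onSub hLT _ φ).trans h0)) h1o'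
      (h2ind.trans hχ))
    obtain ⟨m, hm, hodd⟩ := hr
    refine ⟨χ, hχi, m, ?_, hodd⟩
    rw [← hind, hrel ψ₁ hψo, he]
    exact hm

omit [Fintype L] [L.Normal] in
/-- The correspondence. -/
theorem Sec.main [Fintype H] (sc : Sec σ K L H) :
    (∀ χ : IrrCharacter G, Inv σ (χ : G → ℂ) → ∃! η : IrrCharacter H,
      Inv (resSub σ H sc.invH) (η : H → ℂ) ∧ Rel H (χ : G → ℂ) (η : H → ℂ)) ∧
    (∀ χ χ' : IrrCharacter G, Inv σ (χ : G → ℂ) → Inv σ (χ' : G → ℂ) →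
      ∀ η : IrrCharacter H, Inv (resSub σ H sc.invH) (η : H → ℂ) →
        Rel H (χ : G → ℂ) (η : H → ℂ) → Rel H (χ' : G → ℂ) (η : H → ℂ) → χ = χ') ∧
    ∀ η : IrrCharacter H, Inv (resSub σ H sc.invH) (η : H → ℂ) →
      ∃ χ : IrrCharacter G, Inv σ (χ : G → ℂ) ∧ Rel H (χ : G → ℂ) (η : H → ℂ) := by
  classical
  haveI := sc.Lnorm
  haveI := sc.solv
  haveI := Fintype.ofFinite L
  haveI := Fintype.ofFinite (L.subgroupOf H)
  haveI : (L.subgroupOf H).Normal := sc.Lnorm.subgroupOf H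
  have hLHi : ∀ a, ∀ x ∈ L.subgroupOf H, resSub σ H sc.invH a x ∈ L.subgroupOf H :=
    fun a x hx => sc.invL a _ hx
  -- an invariant character below on `H`
  have belowH : ∀ η : IrrCharacter H, Inv (resSub σ H sc.invH) (η : H → ℂ) →
      ∃ φ : IrrCharacter L, Inv (resSub σ L sc.invL) (φ : L → ℂ) ∧
        classInner (fun n : L => (η : H → ℂ) ⟨(n : G), sc.LH n.2⟩) (φ : L → ℂ) ≠ 0 := by
    intro η hηi
    haveI : Group.IsSolvable H := inferInstance
    have hcop : (Nat.card (A ⧸ (⊥ : Subgroup A))).Coprime (L.subgroupOf H).index := by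
      rw [← Subgroup.index_eq_card, Subgroup.index_bot]
      exact sc.cop.symm.coprime_dvd_right
        ((Subgroup.index_dvd_card _).trans (Subgroup.card_subgroup_dvd_card H))
    obtain ⟨f, hf, hfi⟩ := exists_inv_below (resSub σ H sc.invH) (L.subgroupOf H) hLHi ⊥ hcop
      (hB_bot _ _) (Or.inr (Group.isSolvable_of_surjective (QuotientGroup.mk'_surjective _)))
      η hηi
    let e := Subgroup.subgroupOfEquivOfLe sc.LH
    refine ⟨⟨(f : L.subgroupOf H → ℂ) ∘ e.symm.toMonoidHom,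
      isIrrCharacter_comap _ e.symm.surjective f.2⟩, fun a n => hfi a (e.symm n), fun h0 => hf ?_⟩
    rw [← h0]
    exact classInner_congr_equiv (G := L.subgroupOf H) e.symm
      (fun n : L.subgroupOf H => (η : H → ℂ) n) (f : L.subgroupOf H → ℂ) |>.symm
  -- a character related to `χ` lies over each invariant constituent of `χ`
  have key : ∀ (χ : IrrCharacter G) (η : IrrCharacter H) (φ : IrrCharacter L),
      Inv (resSub σ L sc.invL) (φ : L → ℂ) →
      classInner (fun n : L => (χ : G → ℂ) n) (φ : L → ℂ) ≠ 0 →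
      Inv (resSub σ H sc.invH) (η : H → ℂ) → Rel H (χ : G → ℂ) (η : H → ℂ) →
      classInner (fun n : L => (η : H → ℂ) ⟨(n : G), sc.LH n.2⟩) (φ : L → ℂ) ≠ 0 := by
    intro χ η φ hφi hφo hηi hr
    obtain ⟨φ', hφ'i, hφ'o⟩ := belowH η hηi
    obtain ⟨m, hm, hodd⟩ := hr
    have hne : classInner (fun h : H => (χ : G → ℂ) h) (η : H → ℂ) ≠ 0 := by
      rw [hm, Nat.cast_ne_zero]
      exact hodd.pos.ne'
    have h1 := over_trans sc.LH (isCharacter_of_isIrrCharacter χ.2) η.2 φ'.2 hne hφ'o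
    obtain ⟨g, hg⟩ := (CharInduced.mem_orbitFin L).1
      (CharInduced.mem_orbit_of_constituents L χ.2 φ.2 φ'.2 hφo h1)
    obtain ⟨k, hk, h, hh, rfl⟩ := sc.prod g
    have hcl := CharInduced.isClassFunction_irr φ.2
    have h2 : CharInduced.conjFun L (φ : L → ℂ) k =
        CharInduced.conjFun L (φ' : L → ℂ) h⁻¹ := by
      rw [← hg, CharInduced.conjFun_conjFun, mul_inv_cancel_right]
    have hkT := sc.mem_of_inv hcl hφi hk (h2 ▸ sc.inv_conj_H
      (CharInduced.isClassFunction_irr φ'.2) hφ'i (H.inv_mem hh))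
    rw [← CharInduced.conjFun_conjFun, (CharInduced.mem_inertia L).1 hkT] at hg
    have hηc : (fun n : L => (η : H → ℂ) ⟨(n : G), sc.LH n.2⟩) ∘ (MulAut.conjNormal h : L ≃* L) =
        fun n : L => (η : H → ℂ) ⟨(n : G), sc.LH n.2⟩ := funext fun n => by
      refine Eq.trans (congrArg (η : H → ℂ) (Subtype.ext ?_))
        (CharInduced.isClassFunction_irr η.2 (⟨(n : G), sc.LH n.2⟩ : H) ⟨h, hh⟩)
      exact MulAut.conjNormal_apply h n
    have e := classInner_congr_equiv (G := L) (MulAut.conjNormal h : L ≃* L)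
      (fun n : L => (η : H → ℂ) ⟨(n : G), sc.LH n.2⟩) (φ : L → ℂ)
    rw [hηc, show (φ : L → ℂ) ∘ ⇑(MulAut.conjNormal h : L ≃* L) = φ' from
      (CharInduced.conjFun_eq_comp L (φ : L → ℂ) h).symm.trans hg] at e
    exact fun h0 => hφ'o (e.trans h0)
  have below : ∀ χ : IrrCharacter G, Inv σ (χ : G → ℂ) →
      ∃ φ : IrrCharacter L, classInner (fun n : L => (χ : G → ℂ) n) (φ : L → ℂ) ≠ 0 ∧
        Inv (resSub σ L sc.invL) (φ : L → ℂ) := fun χ hχi =>
    exists_inv_below σ L sc.invL ⊥ (sc.cop_index L) (hB_bot _ _)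
      (Or.inr (Group.isSolvable_of_surjective (QuotientGroup.mk'_surjective _))) χ hχi
  refine ⟨fun χ hχi => ?_, fun χ χ' hi hi' η hηi r r' => ?_, fun η hηi => ?_⟩
  · obtain ⟨φ, hφo, hφi⟩ := below χ hχi
    obtain ⟨η, hηi, hr, hu⟩ := (sc.over_phi φ.2 hφi).1 χ hχi hφo
    exact ⟨η, ⟨hηi, hr⟩, fun η' h' => hu η' (key χ η' φ hφi hφo h'.1 h'.2) h'.1 h'.2⟩
  · obtain ⟨φ, hφo, hφi⟩ := below χ hi
    have hηo := key χ η φ hφi hφo hηi r
    obtain ⟨m', hm', hodd'⟩ := r'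
    have hne : classInner (fun h : H => (χ' : G → ℂ) h) (η : H → ℂ) ≠ 0 := by
      rw [hm', Nat.cast_ne_zero]
      exact hodd'.pos.ne'
    exact (sc.over_phi φ.2 hφi).2.1 χ χ' hi hi' hφo
      (over_trans sc.LH (isCharacter_of_isIrrCharacter χ'.2) η.2 φ.2 hne hηo) η hηi hηo r
      ⟨m', hm', hodd'⟩
  · obtain ⟨φ, hφi, hηo⟩ := belowH η hηi
    exact (sc.over_phi φ.2 hφi).2.2 η hηi hηo

omit [Fintype L] [L.Normal] in
/-- The section without fixed points. -/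
theorem exists_sec (σ : A →* MulAut G) (K L C : Subgroup G) [hKn : K.Normal] [hLn : L.Normal]
    (invK : ∀ a, ∀ k ∈ K, σ a k ∈ K) (invL : ∀ a, ∀ l ∈ L, σ a l ∈ L) (hLK : L ≤ K)
    (comm : ∀ a ∈ K, ∀ b ∈ K, a * b * a⁻¹ * b⁻¹ ∈ L) (hKC : K ⊔ C = ⊤)
    (hC : ∀ x, x ∈ C ↔ ∀ a, σ a x = x) (odd : Odd (Nat.card G))
    (cop : (Nat.card G).Coprime (Nat.card A)) (solv : Group.IsSolvable G) :
    ∃ K₀ : Subgroup G, Sec σ K₀ L (L ⊔ C) := by
  classical
  haveI := Fintype.ofFinite A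
  haveI := solv
  let M := L.subgroupOf K
  haveI : M.Normal := hLn.subgroupOf K
  letI : CommGroup (K ⧸ M) :=
    { (inferInstance : Group (K ⧸ M)) with
      mul_comm := fun a b => by
        obtain ⟨a, rfl⟩ := QuotientGroup.mk_surjective a
        obtain ⟨b, rfl⟩ := QuotientGroup.mk_surjective b
        rw [← QuotientGroup.mk_mul, ← QuotientGroup.mk_mul, QuotientGroup.eq,
          Subgroup.mem_subgroupOf]
        have e := comm (b : G)⁻¹ (K.inv_mem b.2) (a : G)⁻¹ (K.inv_mem a.2)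
        simpa [mul_inv_rev, mul_assoc] using e }
  let ψ := quotHom (resSub σ K invK) M (fun a m hm => invL a _ hm)
  have hψmk : ∀ a (k : K), ψ a (k : K ⧸ M) = ((resSub σ K invK a k : K) : K ⧸ M) := fun a k => rfl
  let Nm : K →* K ⧸ M := (∏ a : A, (ψ a).toMonoidHom).comp (QuotientGroup.mk' M)
  have hNm : ∀ k : K, Nm k = ∏ a : A, ψ a (k : K ⧸ M) := fun k => by
    simp only [Nm, MonoidHom.comp_apply, MonoidHom.finsetProd_apply]
    rfl
  have hψinv : ∀ b (k : K), ψ b (Nm k) = Nm k := fun b k => by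
    rw [hNm, map_prod]
    refine Fintype.prod_equiv (Equiv.mulLeft b) _ _ fun a => ?_
    rw [← MulAut.mul_apply, ← map_mul]
    rfl
  have hfixed : ∀ k : K, (∀ a, σ a k = k) → Nm k = (k : K ⧸ M) ^ Nat.card A := fun k hk => by
    rw [hNm, Finset.prod_congr rfl (g := fun _ => (k : K ⧸ M)) fun a _ => ?_, Finset.prod_const,
      Finset.card_univ, Nat.card_eq_fintype_card]
    rw [hψmk]
    exact congrArg _ (Subtype.ext (hk a))
  have hcopQ : (Nat.card (K ⧸ M)).Coprime (Nat.card A) :=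
    cop.coprime_dvd_left ((Subgroup.card_quotient_dvd_card M).trans
      (Subgroup.card_subgroup_dvd_card K))
  let K₀ : Subgroup G := Nm.ker.map K.subtype
  have hK₀ : ∀ x, x ∈ K₀ ↔ ∃ hx : x ∈ K, Nm ⟨x, hx⟩ = 1 := fun x =>
    ⟨fun ⟨k, hk, e⟩ => by subst e; exact ⟨k.2, hk⟩, fun ⟨hx, e⟩ => ⟨⟨x, hx⟩, e, rfl⟩⟩
  have hLK₀ : L ≤ K₀ := fun x hx => (hK₀ x).2 ⟨hLK hx, by
    rw [hNm]
    refine Finset.prod_eq_one fun a _ => ?_
    rw [hψmk]
    exact (QuotientGroup.eq_one_iff _).2 (invL a x hx)⟩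
  have hnorm : K₀.Normal := by
    refine ⟨fun x hx g => ?_⟩
    obtain ⟨hxK, hx1⟩ := (hK₀ x).1 hx
    obtain ⟨k, hk, c, hc, rfl⟩ := Subgroup.mem_sup_of_normal_left.1
      (show g ∈ K ⊔ C by rw [hKC]; exact Subgroup.mem_top g)
    let cj : K ≃* K := MulAut.conjNormal c
    let f : K ⧸ M →* K ⧸ M := QuotientGroup.map M M cj.toMonoidHom fun m hm => by
      show ((cj m : K) : G) ∈ L
      rw [MulAut.conjNormal_apply]
      exact hLn.conj_mem _ hm _
    have h2 : Nm (cj ⟨x, hxK⟩) = 1 := by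
      rw [hNm, show (∏ a : A, ψ a (cj ⟨x, hxK⟩ : K ⧸ M)) =
        f (∏ a : A, ψ a ((⟨x, hxK⟩ : K) : K ⧸ M)) by
          rw [map_prod]
          refine Finset.prod_congr rfl fun a _ => ?_
          rw [hψmk, hψmk]
          refine congrArg (QuotientGroup.mk : K → K ⧸ M) (Subtype.ext ?_)
          show σ a ((cj ⟨x, hxK⟩ : K) : G) = ((cj (resSub σ K invK a ⟨x, hxK⟩) : K) : G)
          rw [MulAut.conjNormal_apply, MulAut.conjNormal_apply, map_mul, map_mul, map_inv,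
            (hC c).1 hc]
          rfl, ← hNm, hx1, map_one]
    refine (hK₀ _).2 ⟨hKn.conj_mem x hxK _, ?_⟩
    have e : (⟨k * c * x * (k * c)⁻¹, hKn.conj_mem x hxK _⟩ : K) =
        ⟨k, hk⟩ * cj ⟨x, hxK⟩ * ⟨k, hk⟩⁻¹ := Subtype.ext (by
      simp [cj, MulAut.conjNormal_apply, mul_assoc])
    rw [e, map_mul, map_mul, h2, mul_one, map_inv, mul_inv_cancel]
  have hinv₀ : ∀ a, ∀ x ∈ K₀, σ a x ∈ K₀ := fun b x hx => by
    obtain ⟨hxK, hx1⟩ := (hK₀ x).1 hx
    refine (hK₀ _).2 ⟨invK b x hxK, ?_⟩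
    rw [← hx1, hNm, hNm]
    refine Fintype.prod_equiv (Equiv.mulRight b) _ _ fun a => ?_
    show ψ a (ψ b ((⟨x, hxK⟩ : K) : K ⧸ M)) = ψ (a * b) ((⟨x, hxK⟩ : K) : K ⧸ M)
    rw [map_mul]
    rfl
  have hfree : ∀ k ∈ K₀, (∀ a, σ a k = k) → k ∈ L := fun k hk hfix => by
    obtain ⟨hkK, hk1⟩ := (hK₀ k).1 hk
    rw [hfixed ⟨k, hkK⟩ hfix] at hk1
    have h2 : ((⟨k, hkK⟩ : K) : K ⧸ M) ^ Nat.card (K ⧸ M) = 1 := pow_card_eq_one'
    have h3 := pow_gcd_eq_one.2 ⟨h2, hk1⟩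
    rw [Nat.coprime_iff_gcd_eq_one.1 hcopQ, pow_one] at h3
    exact (QuotientGroup.eq_one_iff (⟨k, hkK⟩ : K)).1 h3
  refine ⟨K₀, hnorm, hLn, hinv₀, invL, hLK₀, le_sup_left, ?_, fun g => ?_,
    fun a ha b hb => comm a ((hK₀ a).1 ha).1 b ((hK₀ b).1 hb).1, odd, cop, solv,
    fun h hh => ?_, hfree⟩
  · refine le_antisymm (fun x hx => ?_) (le_inf hLK₀ le_sup_left)
    obtain ⟨l, hl, c, hc, rfl⟩ := Subgroup.mem_sup_of_normal_left.1 hx.2
    exact L.mul_mem hl (hfree c ((Subgroup.mul_mem_cancel_left K₀ (hLK₀ hl)).1 hx.1) ((hC c).1 hc))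
  · obtain ⟨k, hk, c, hc, rfl⟩ := Subgroup.mem_sup_of_normal_left.1
      (show g ∈ K ⊔ C by rw [hKC]; exact Subgroup.mem_top g)
    obtain ⟨q, hq⟩ := (powCoprime hcopQ).surjective (Nm ⟨k, hk⟩)
    have hq' : q ^ Nat.card A = Nm ⟨k, hk⟩ := hq
    obtain ⟨c₀, rfl⟩ := QuotientGroup.mk_surjective q
    have hcfix : ∀ a, (c₀ : G)⁻¹ * σ a c₀ ∈ L := fun a => by
      have e : ψ a (c₀ : K ⧸ M) = (c₀ : K ⧸ M) := (powCoprime hcopQ).injective (by
        show (ψ a (c₀ : K ⧸ M)) ^ Nat.card A = (c₀ : K ⧸ M) ^ Nat.card A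
        rw [← map_pow, hq', hψinv])
      rw [hψmk, eq_comm, QuotientGroup.eq] at e
      exact e
    obtain ⟨c', hc', hcc⟩ := CoprimeActionAut.exists_fixed_mem_coset (φ := σ) cop.symm
      (Or.inr inferInstance) L invL (c₀ : G) hcfix
    have hc'K : c' ∈ K := (Subgroup.mul_mem_cancel_left K (K.inv_mem c₀.2)).1 (hLK hcc)
    have hNc : Nm ⟨c', hc'K⟩ = Nm ⟨k, hk⟩ := by
      rw [hfixed _ hc', ← hq']
      congr 1
      exact (QuotientGroup.eq.2 (show c₀⁻¹ * ⟨c', hc'K⟩ ∈ M from hcc)).symm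
    refine ⟨k * c'⁻¹, (hK₀ _).2 ⟨K.mul_mem hk (K.inv_mem hc'K), ?_⟩, c' * c,
      Subgroup.mem_sup_right (C.mul_mem ((hC c').2 hc') hc), by simp [mul_assoc]⟩
    rw [show (⟨k * c'⁻¹, K.mul_mem hk (K.inv_mem hc'K)⟩ : K) = ⟨k, hk⟩ * ⟨c', hc'K⟩⁻¹ from rfl,
      map_mul, map_inv, hNc, mul_inv_cancel]
  · obtain ⟨l, hl, c, hc, rfl⟩ := Subgroup.mem_sup_of_normal_left.1 hh
    exact ⟨l, hl, c, Subgroup.mem_sup_right hc, rfl, (hC c).1 hc⟩

end Cfsg.Agent.FRInvReduce
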