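import Mathlib
import Cfsg.Prelude.Def_OddOrderLocal
import Cfsg.Prelude.Def_OddOrderChar
import Cfsg.Agent.S1511
import Cfsg.Agent.S1513
import Cfsg.Agent.Lib.OddCharGroup
import Cfsg.Agent.Lib.CharBasicDecomp

/-!
Type `P` configurations `M = K ⋊ W₁` with `C_K(x) = W₂` for `x ∈ W₁#`: decomposition of `M \ K` into conjugates of
`W \ W₂`, summation over `M`, and the exceptional characters of `M` indexed by the linear characters of `W`.
-/

set_option autoImplicit false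

open scoped ComplexConjugate

namespace Cfsg.Agent.FTPBase78

open Cfsg
open Cfsg.Agent.CharBasic Cfsg.Agent.CharBasicOrth Cfsg.Agent.CharBasicDecomp

attribute [local instance] Classical.propDecidable

set_option linter.unusedSectionVars false

universe u

variable {G : Type u} [Group G] [Finite G] {M K W₁ W₂ : Subgroup G}

/-- The configuration `M = K ⋊ W₁`, `C_K(x) = W₂`. -/
structure Base (M K W₁ W₂ : Subgroup G) : Prop where
  compl : IsComplIn K W₁ M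
  normal : M ≤ Subgroup.normalizer (K : Set G)
  W₁c : IsCyclic W₁
  hall : (Nat.card W₁).Coprime (Nat.card K)
  W₂le : W₂ ≤ K
  cent : ∀ x ∈ W₁, x ≠ 1 → K ⊓ Subgroup.centralizer ({x} : Set G) = W₂
  sn : IsSelfNormalizingCyclic W₁ W₂
  odd : Odd (Nat.card G)

namespace Base

variable (B : Base M K W₁ W₂)
include B

theorem K_le : K ≤ M := B.compl.1
theorem W₁_le : W₁ ≤ M := B.compl.2.1
theorem W₂_le : W₂ ≤ M := B.W₂le.trans B.K_le
theorem W_le : W₁ ⊔ W₂ ≤ M := sup_le B.W₁_le B.W₂_le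
theorem disj : K ⊓ W₁ = ⊥ := B.compl.2.2.1
theorem W₁_ne : W₁ ≠ ⊥ := B.sn.1
theorem W₂_ne : W₂ ≠ ⊥ := B.sn.2.1

theorem W₂c : IsCyclic W₂ := by
  haveI : IsCyclic ↥(W₁ ⊔ W₂) := B.sn.2.2.2.2.1
  exact isCyclic_of_injective (Subgroup.inclusion (le_sup_right : W₂ ≤ W₁ ⊔ W₂))
    (Subgroup.inclusion_injective _)

theorem odd_card (H : Subgroup G) : Odd (Nat.card H) :=
  B.odd.of_dvd_nat (Subgroup.card_subgroup_dvd_card H)

theorem card_eq : Nat.card K * Nat.card W₁ = Nat.card M := by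
  have h : Subgroup.IsComplement' (K.subgroupOf M) (W₁.subgroupOf M) := by
    refine Subgroup.isComplement'_of_disjoint_and_mul_eq_univ ?_ ?_
    · rw [disjoint_iff, ← le_bot_iff]
      rintro x ⟨h1, h2⟩
      have : (x : G) ∈ K ⊓ W₁ := ⟨h1, h2⟩
      rw [B.disj] at this
      exact Subtype.ext this
    · refine Set.eq_univ_of_forall fun x => ?_
      obtain ⟨a, ha, b, hb, hab⟩ := B.compl.2.2.2 x x.2
      exact ⟨⟨a, B.K_le ha⟩, ha, ⟨b, B.W₁_le hb⟩, hb, Subtype.ext hab.symm⟩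
  rw [← h.card_mul, Nat.card_congr (Subgroup.subgroupOfEquivOfLe B.K_le).toEquiv,
    Nat.card_congr (Subgroup.subgroupOfEquivOfLe B.W₁_le).toEquiv]

theorem conj_K {x : G} (hx : x ∈ M) {c : G} (hc : c ∈ K) : x * c * x⁻¹ ∈ K :=
  (Subgroup.mem_normalizer_iff.1 (B.normal hx) c).1 hc

theorem decompW {w : G} (hw : w ∈ W₁ ⊔ W₂) : ∃ a ∈ W₁, ∃ b ∈ W₂, w = a * b := by
  have hn : W₁ ≤ Subgroup.normalizer (W₂ : Set G) := fun a ha => Subgroup.mem_normalizer_iff.2 fun z => by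
    constructor
    · intro hz; rw [B.sn.2.2.2.1 a ha z hz, mul_inv_cancel_right]; exact hz
    · intro hz
      have h := B.sn.2.2.2.1 a ha _ hz
      have e : z = a * z * a⁻¹ := (mul_left_cancel (h.trans (inv_mul_cancel_right _ _))).symm
      rw [e]; exact hz
  rw [← SetLike.mem_coe, Subgroup.coe_mul_of_left_le_normalizer_right W₁ W₂ hn] at hw
  obtain ⟨a, ha, b, hb, e⟩ := hw
  exact ⟨a, ha, b, hb, e.symm⟩

theorem W_inf_K {w : G} (hw : w ∈ W₁ ⊔ W₂) (hK : w ∈ K) : w ∈ W₂ := by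
  obtain ⟨a, ha, b, hb, rfl⟩ := B.decompW hw
  have : a ∈ K ⊓ W₁ := ⟨by simpa using K.mul_mem hK (K.inv_mem (B.W₂le hb)), ha⟩
  rw [B.disj, Subgroup.mem_bot] at this
  rw [this, one_mul]; exact hb

theorem not_mem_K {w : G} (hw : w ∈ W₁ ⊔ W₂) (h2 : w ∉ W₂) : w ∉ K := fun h => h2 (B.W_inf_K hw h)

theorem cancel {c a a' b b' : G} (hc : c ∈ K) (ha : a ∈ W₁) (ha1 : a ≠ 1) (hb : b ∈ W₂) (ha' : a' ∈ W₁)
    (hb' : b' ∈ W₂) (h : c * (a * b) * c⁻¹ = a' * b') : c ∈ W₂ ∧ a = a' ∧ b = b' := by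
  have hca : c * a * c⁻¹ * a⁻¹ ∈ K := by
    rw [mul_assoc c a, mul_assoc c]
    exact K.mul_mem hc (B.conj_K (B.W₁_le ha) (K.inv_mem hc))
  have e1 : a = a' := by
    have h1 : a'⁻¹ * a ∈ K ⊓ W₁ := by
      refine ⟨?_, W₁.mul_mem (W₁.inv_mem ha') ha⟩
      have h2 : a' * (b' * (c * b * c⁻¹)⁻¹) * a'⁻¹ ∈ K :=
        B.conj_K (B.W₁_le ha') (K.mul_mem (B.W₂le hb') (K.inv_mem (K.mul_mem (K.mul_mem hc (B.W₂le hb))
          (K.inv_mem hc))))
      have h3 : a'⁻¹ * (c * a * c⁻¹) ∈ K := by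
        have : a'⁻¹ * (c * a * c⁻¹) = b' * (c * b * c⁻¹)⁻¹ := by
          rw [eq_mul_inv_iff_mul_eq, mul_assoc a'⁻¹, inv_mul_eq_iff_eq_mul, ← h]; group
        rw [this]
        exact K.mul_mem (B.W₂le hb') (K.inv_mem (K.mul_mem (K.mul_mem hc (B.W₂le hb)) (K.inv_mem hc)))
      have h4 : a'⁻¹ * (c * a * c⁻¹) = (a'⁻¹ * (c * a * c⁻¹ * a⁻¹) * a'⁻¹⁻¹) * (a'⁻¹ * a) := by group
      have h5 : a'⁻¹ * (c * a * c⁻¹ * a⁻¹) * a'⁻¹⁻¹ ∈ K := B.conj_K (inv_mem (B.W₁_le ha')) hca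
      rw [h4] at h3
      exact (K.mul_mem_cancel_left h5).1 h3
    rw [B.disj, Subgroup.mem_bot, inv_mul_eq_one] at h1
    exact h1.symm
  subst e1
  obtain ⟨e, he1, he2⟩ := OddCharGroup.exists_exponent B.hall
  have hao : orderOf a ∣ Nat.card W₁ := Subgroup.orderOf_dvd_natCard _ ha
  have key : ∀ d ∈ W₂, (a * d) ^ e = a := fun d hd => by
    have hcm : d * a = a * d := (B.sn.2.2.2.1 a ha d hd).symm
    rw [← hcm]
    exact OddCharGroup.mul_pow_exponent hcm (he1.of_dvd hao)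
      ((Subgroup.orderOf_dvd_natCard _ (B.W₂le hd)).trans he2)
  have h6 := congrArg (· ^ e) h
  simp only [conj_pow, key b hb, key b' hb'] at h6
  have hcW : c ∈ W₂ := by
    rw [← B.cent a ha ha1]
    exact ⟨hc, Subgroup.mem_centralizer_singleton_iff.2 (mul_inv_eq_iff_eq_mul.1 h6)⟩
  refine ⟨hcW, rfl, ?_⟩
  have hcb : c * b * c⁻¹ = b := by
    haveI := B.W₂c
    letI := IsCyclic.commGroup (α := W₂)
    have := congrArg Subtype.val (mul_comm (⟨c, hcW⟩ : W₂) ⟨b, hb⟩)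
    rw [mul_inv_eq_iff_eq_mul]; exact this
  have h7 : a * (c * b * c⁻¹) = a * b' := by
    rw [← h]
    calc a * (c * b * c⁻¹) = (c * a * c⁻¹) * (c * b * c⁻¹) := by rw [h6]
      _ = c * (a * b) * c⁻¹ := by group
  rw [hcb] at h7
  exact mul_left_cancel h7

theorem mem_out (s : (K ⧸ W₂.subgroupOf K) × {w : ↥(W₁ ⊔ W₂) // (w : G) ∉ W₂}) :
    ((s.1.out : K) : G) * s.2.1 * ((s.1.out : K) : G)⁻¹ ∈ M ∧
      ((s.1.out : K) : G) * s.2.1 * ((s.1.out : K) : G)⁻¹ ∉ K := by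
  refine ⟨M.mul_mem (M.mul_mem (B.K_le s.1.out.2) (B.W_le s.2.1.2)) (M.inv_mem (B.K_le s.1.out.2)),
    fun h => B.not_mem_K s.2.1.2 s.2.2 ?_⟩
  have := B.conj_K (M.inv_mem (B.K_le s.1.out.2)) h
  simpa [mul_assoc] using this

theorem card_out : Nat.card {w : ↥(W₁ ⊔ W₂) // (w : G) ∉ W₂} = (Nat.card W₁ - 1) * Nat.card W₂ := by
  let f : {a : W₁ // a ≠ 1} × W₂ → {w : ↥(W₁ ⊔ W₂) // (w : G) ∉ W₂} := fun s =>
    ⟨⟨(s.1.1 : G) * s.2, Subgroup.mul_mem_sup s.1.1.2 s.2.2⟩, fun h => s.1.2 (Subtype.ext (by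
      have h2 : (s.1.1 : G) ∈ K ⊓ W₁ :=
        ⟨B.W₂le ((W₂.mul_mem_cancel_right s.2.2).1 h), s.1.1.2⟩
      rw [B.disj, Subgroup.mem_bot] at h2
      exact h2))⟩
  have hf : Function.Bijective f := by
    refine ⟨fun s t h => ?_, fun w => ?_⟩
    · have h1 : (1 : G) * ((s.1.1 : G) * s.2) * (1 : G)⁻¹ = (t.1.1 : G) * t.2 := by
        simpa [f] using congrArg (fun z => ((z.1 : ↥(W₁ ⊔ W₂)) : G)) h
      obtain ⟨-, h2, h3⟩ := B.cancel K.one_mem s.1.1.2 (fun h' => s.1.2 (Subtype.ext h')) s.2.2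
        t.1.1.2 t.2.2 h1
      exact Prod.ext (Subtype.ext (Subtype.ext h2)) (Subtype.ext h3)
    · obtain ⟨a, ha, b, hb, e⟩ := B.decompW w.1.2
      refine ⟨(⟨⟨a, ha⟩, fun h => w.2 ?_⟩, ⟨b, hb⟩), Subtype.ext (Subtype.ext e.symm)⟩
      rw [e, show a = 1 from congrArg Subtype.val h, one_mul]; exact hb
  rw [← Nat.card_congr (Equiv.ofBijective f hf), Nat.card_prod]
  congr 1
  haveI := Fintype.ofFinite W₁
  rw [Nat.card_eq_fintype_card, Nat.card_eq_fintype_card, Fintype.card_subtype_compl,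
    Fintype.card_subtype_eq]

theorem out_bijective :
    Function.Bijective (fun s : (K ⧸ W₂.subgroupOf K) × {w : ↥(W₁ ⊔ W₂) // (w : G) ∉ W₂} =>
      (⟨⟨_, (B.mem_out s).1⟩, (B.mem_out s).2⟩ : {x : ↥M // (x : G) ∉ K})) := by
  rw [Nat.bijective_iff_injective_and_card]
  refine ⟨fun s t h => ?_, ?_⟩
  · have h1 := congrArg (fun z => ((z.1 : ↥M) : G)) h
    obtain ⟨a, ha, b, hb, e⟩ := B.decompW s.2.1.2
    obtain ⟨a', ha', b', hb', e'⟩ := B.decompW t.2.1.2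
    have ha1 : a ≠ 1 := fun h' => s.2.2 (by rw [e, h', one_mul]; exact hb)
    simp only [e, e'] at h1
    obtain ⟨h2, h3, h4⟩ := B.cancel (c := ((t.1.out : K) : G)⁻¹ * ((s.1.out : K) : G))
      (K.mul_mem (K.inv_mem t.1.out.2) s.1.out.2) ha ha1 hb ha' hb' (by
        calc ((t.1.out : K) : G)⁻¹ * (s.1.out : K) * (a * b) * (((t.1.out : K) : G)⁻¹ * (s.1.out : K))⁻¹
            = ((t.1.out : K) : G)⁻¹ * ((s.1.out : K) * (a * b) * ((s.1.out : K) : G)⁻¹) * (t.1.out : K) := by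
              group
          _ = a' * b' := by rw [h1]; group)
    refine Prod.ext ?_ (Subtype.ext (Subtype.ext (by rw [e, e', h3, h4])))
    rw [← QuotientGroup.out_eq' s.1, ← QuotientGroup.out_eq' t.1]
    exact (QuotientGroup.eq.2 (Subgroup.mem_subgroupOf.2 (by simpa using h2))).symm
  · rw [Nat.card_prod, B.card_out, ← Subgroup.index_eq_card]
    have h1 : Nat.card {x : ↥M // (x : G) ∈ K} = Nat.card K :=
      Nat.card_congr (Subgroup.subgroupOfEquivOfLe B.K_le).toEquiv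
    have h2 : (W₂.subgroupOf K).index * Nat.card W₂ = Nat.card K := by
      rw [← Nat.card_congr (Subgroup.subgroupOfEquivOfLe B.W₂le).toEquiv, Subgroup.index_mul_card]
    haveI := Fintype.ofFinite ↥M
    have h3 : Nat.card {x : ↥M // (x : G) ∉ K} = Nat.card M - Nat.card K := by
      rw [← h1, Nat.card_eq_fintype_card, Nat.card_eq_fintype_card, Nat.card_eq_fintype_card,
        Fintype.card_subtype_compl]
    rw [h3, ← B.card_eq, ← h2]
    rcases Nat.exists_eq_add_one.2 (Nat.card_pos (α := W₁)) with ⟨r, hr⟩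
    rw [hr, Nat.add_sub_cancel, Nat.mul_succ, Nat.add_sub_cancel]
    ring

theorem exists_conj {x : G} (hx : x ∈ M) (hxK : x ∉ K) :
    ∃ c ∈ K, ∃ w ∈ W₁ ⊔ W₂, w ∉ W₂ ∧ x = c * w * c⁻¹ := by
  obtain ⟨s, hs⟩ := B.out_bijective.2 ⟨⟨x, hx⟩, hxK⟩
  exact ⟨_, s.1.out.2, _, s.2.1.2, s.2.2, (congrArg (fun z => ((z.1 : ↥M) : G)) hs).symm⟩

/-- Sum of a class function of `M` over `K` and over `W \ W₂`. -/
theorem sum_eq [Fintype ↥M] [Fintype ↥K] [Fintype ↥(W₁ ⊔ W₂)] {F : ↥M → ℂ} (hF : IsClassFunction ↥M F) :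
    ∑ x : ↥M, F x = (∑ c : K, F ⟨c, B.K_le c.2⟩) +
      ((W₂.relIndex K : ℕ) : ℂ) *
        ∑ w : {w : ↥(W₁ ⊔ W₂) // (w : G) ∉ W₂}, F ⟨w.1, B.W_le w.1.2⟩ := by
  rw [← Fintype.sum_subtype_add_sum_subtype (fun x : ↥M => (x : G) ∈ K) F]
  congr 1
  · exact Fintype.sum_equiv (Subgroup.subgroupOfEquivOfLe B.K_le).toEquiv
      (fun x : {x : ↥M // (x : G) ∈ K} => F x) _ fun x => rfl
  · haveI := Fintype.ofFinite (K ⧸ W₂.subgroupOf K)
    rw [← Fintype.sum_equiv (Equiv.ofBijective _ B.out_bijective) (fun s => F ⟨s.2.1, B.W_le s.2.1.2⟩)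
      (fun x : {x : ↥M // (x : G) ∉ K} => F x) fun s =>
        (hF ⟨s.2.1, B.W_le s.2.1.2⟩ ⟨_, B.K_le s.1.out.2⟩).symm]
    rw [Fintype.sum_prod_type, Finset.sum_congr rfl (g := fun _ =>
      ∑ w : {w : ↥(W₁ ⊔ W₂) // (w : G) ∉ W₂}, F ⟨w.1, B.W_le w.1.2⟩) (fun c _ => rfl),
      Finset.sum_const, Finset.card_univ, ← Nat.card_eq_fintype_card, nsmul_eq_mul]
    rfl

theorem exists_W₁_elt : ∃ x ∈ W₁, x ≠ 1 ∧ x ^ 2 ≠ 1 := by
  obtain ⟨x, hx, hx1⟩ := W₁.bot_or_exists_ne_one.resolve_left B.W₁_ne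
  refine ⟨x, hx, hx1, fun h => hx1 ?_⟩
  obtain ⟨j, hj⟩ := B.odd
  have h1 := pow_card_eq_one' (x := x)
  rwa [hj, pow_succ, pow_mul, h, one_pow, one_mul] at h1

theorem W₁_not_W₂ {x : G} (hx : x ∈ W₁) (hx1 : x ≠ 1) : x ∉ W₂ := fun h => by
  have : x ∈ K ⊓ W₁ := ⟨B.W₂le h, hx⟩
  rw [B.disj] at this; exact hx1 this

end Base

/-! ### The exceptional characters -/

/-- The data `μ, δ` of the exceptional characters of `M`. -/
structure Mu (B : Base M K W₁ W₂) where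
  μ : (↥(W₁ ⊔ W₂) →* ℂˣ) → (↥M → ℂ)
  δ : (↥(W₁ ⊔ W₂) →* ℂˣ) → ℂ
  irr : ∀ ω, IsIrrCharacter ↥M (μ ω)
  inj : Function.Injective μ
  sign : ∀ ω, δ ω = 1 ∨ δ ω = -1
  col : ∀ ω ω' : ↥(W₁ ⊔ W₂) →* ℂˣ, (∀ w : ↥(W₁ ⊔ W₂), (w : G) ∈ W₂ → ω w = ω' w) →
    δ ω = δ ω' ∧ ∀ x : ↥M, (x : G) ∈ K → μ ω x = μ ω' x
  val : ∀ ω, ∀ w : ↥(W₁ ⊔ W₂), (w : G) ∉ W₂ → μ ω ⟨w, B.W_le w.2⟩ = δ ω * (ω w : ℂ)
  vanish : ∀ θ : ↥M → ℂ, IsIrrCharacter ↥M θ → (∀ ω, θ ≠ μ ω) → ∀ x : ↥M, (x : G) ∉ K → θ x = 0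
  int : ∀ ω, ∃ n : ℤ, μ ω 1 - δ ω = n * (Nat.card W₁ : ℂ)

theorem exists_mu (B : Base M K W₁ W₂) : Nonempty (Mu B) := by
  haveI : Fintype ↥M := Fintype.ofFinite _
  haveI : (K.subgroupOf M).Normal := Subgroup.normal_subgroupOf_of_le_normalizer B.normal
  haveI := B.W₁c
  haveI := B.W₂c
  have hsup : (W₁ ⊔ W₂).subgroupOf M = W₁.subgroupOf M ⊔ W₂.subgroupOf M :=
    Subgroup.subgroupOf_sup B.W₁_le B.W₂_le
  let e : ↥(W₁.subgroupOf M ⊔ W₂.subgroupOf M) ≃* ↥(W₁ ⊔ W₂) :=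
    (MulEquiv.subgroupCongr hsup.symm).trans (Subgroup.subgroupOfEquivOfLe B.W_le)
  have he : ∀ w, ((e w : ↥(W₁ ⊔ W₂)) : G) = ((w : ↥M) : G) := fun w => rfl
  have hcK : Nat.card (K.subgroupOf M) = Nat.card K :=
    Nat.card_congr (Subgroup.subgroupOfEquivOfLe B.K_le).toEquiv
  have hc1 : Nat.card (W₁.subgroupOf M) = Nat.card W₁ :=
    Nat.card_congr (Subgroup.subgroupOfEquivOfLe B.W₁_le).toEquiv
  have hd : K.subgroupOf M ⊓ W₁.subgroupOf M = ⊥ := by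
    rw [← le_bot_iff]
    rintro x ⟨h1, h2⟩
    have : (x : G) ∈ K ⊓ W₁ := ⟨h1, h2⟩
    rw [B.disj] at this
    exact Subtype.ext this
  have hs : K.subgroupOf M ⊔ W₁.subgroupOf M = ⊤ := top_unique fun x _ => by
    obtain ⟨a, ha, b, hb, hab⟩ := B.compl.2.2.2 x x.2
    rw [show x = ⟨a, B.K_le ha⟩ * ⟨b, B.W₁_le hb⟩ from Subtype.ext hab]
    exact Subgroup.mul_mem_sup ha hb
  have hidx : (W₁.subgroupOf M).index = Nat.card K := by
    have := (W₁.subgroupOf M).index_mul_card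
    rw [hc1, ← B.card_eq] at this
    exact Nat.eq_of_mul_eq_mul_right Nat.card_pos this
  have hne1 : W₁.subgroupOf M ≠ ⊥ := fun h => B.W₁_ne (by
    rw [← Subgroup.map_subgroupOf_eq_of_le B.W₁_le, h, Subgroup.map_bot])
  have hne2 : W₂.subgroupOf M ≠ ⊥ := fun h => B.W₂_ne (by
    rw [← Subgroup.map_subgroupOf_eq_of_le B.W₂_le, h, Subgroup.map_bot])
  have hC : ∀ x ∈ W₁.subgroupOf M, x ≠ 1 →
      K.subgroupOf M ⊓ Subgroup.centralizer ({x} : Set ↥M) = W₂.subgroupOf M := by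
    intro x hx hx1
    ext z
    rw [Subgroup.mem_inf, Subgroup.mem_subgroupOf, Subgroup.mem_subgroupOf,
      Subgroup.mem_centralizer_singleton_iff, ← B.cent x hx (fun h => hx1 (Subtype.ext h)),
      Subgroup.mem_inf, Subgroup.mem_centralizer_singleton_iff, Subtype.ext_iff]
    rfl
  obtain ⟨μ, δ, hinj, hirr, hsign, hcol, hval, hvan, hint⟩ := S1511.result (K.subgroupOf M)
    (W₁.subgroupOf M) (W₂.subgroupOf M) hd hs hne1
    (isCyclic_of_surjective _ (Subgroup.subgroupOfEquivOfLe B.W₁_le).symm.surjective)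
    (by rw [hidx, hc1]; exact B.hall) hne2
    (isCyclic_of_surjective _ (Subgroup.subgroupOfEquivOfLe B.W₂_le).symm.surjective)
    (fun x hx => B.W₂le hx) hC
    (by rw [Nat.card_congr e.toEquiv]; exact B.odd_card _)
  refine ⟨⟨fun ω => μ (ω.comp e.toMonoidHom), fun ω => δ (ω.comp e.toMonoidHom), fun ω => hirr _,
    fun ω ω' h => ?_, fun ω => hsign _, fun ω ω' h => ?_, fun ω w hw => ?_, fun θ hθ hne x hx => ?_,
    fun ω => ?_⟩⟩
  · refine MonoidHom.ext fun w => ?_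
    have := DFunLike.congr_fun (hinj h) (e.symm w)
    simpa using this
  · obtain ⟨h1, h2⟩ := hcol (ω.comp e.toMonoidHom) (ω'.comp e.toMonoidHom) fun w hw => h (e w) hw
    refine ⟨h1, fun x hx => ?_⟩
    have h3 := congrFun h2 x
    rw [CharInduced.ind_eq_zero_of_vanish] at h3
    · have hδ : δ (ω.comp e.toMonoidHom) ≠ 0 := by
        rcases hsign (ω.comp e.toMonoidHom) with h | h <;> rw [h] <;> norm_num
      simp only [Pi.smul_apply, Pi.sub_apply, smul_eq_mul] at h3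
      exact sub_eq_zero.1 ((mul_eq_zero.1 h3.symm).resolve_left hδ)
    · intro y v hy
      have hyK : ((e v : ↥(W₁ ⊔ W₂)) : G) ∈ K := by
        rw [he, ← hy]
        simpa using B.conj_K (M.inv_mem y.2) hx
      simp [h _ (B.W_inf_K (e v).2 hyK)]
  · have h1 := hval (ω.comp e.toMonoidHom) (e.symm w) (fun h => hw (by
      have : ((e (e.symm w) : ↥(W₁ ⊔ W₂)) : G) ∈ W₂ := h
      rwa [e.apply_symm_apply] at this))
    simp only [MonoidHom.coe_comp, MulEquiv.coe_toMonoidHom, Function.comp_apply, e.apply_symm_apply] at h1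
    exact h1
  · obtain ⟨c, hc, w, hw, hw2, he'⟩ := B.exists_conj x.2 hx
    have h1 := isClassFunction_of_isCharacter (isCharacter_of_isIrrCharacter hθ)
      ⟨w, B.W_le hw⟩ ⟨c, B.K_le hc⟩
    rw [show (⟨c, B.K_le hc⟩ * ⟨w, B.W_le hw⟩ * ⟨c, B.K_le hc⟩⁻¹ : ↥M) = x from Subtype.ext he'.symm] at h1
    rw [h1]
    exact hvan θ hθ (fun ω h' => hne (ω.comp e.symm.toMonoidHom) (by
      rw [MonoidHom.comp_assoc, show e.symm.toMonoidHom.comp e.toMonoidHom = MonoidHom.id _ from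
        MonoidHom.ext fun z => e.symm_apply_apply z, MonoidHom.comp_id]; exact h'))
      (e.symm ⟨w, hw⟩) hw2
  · obtain ⟨n, hn⟩ := hint (ω.comp e.toMonoidHom)
    exact ⟨n, by rw [hn, hc1]⟩

namespace Mu

variable {B : Base M K W₁ W₂} (D : Mu B)

theorem sign_ne (ω) : D.δ ω ≠ 0 := by rcases D.sign ω with h | h <;> rw [h] <;> norm_num

theorem sign_mul (ω) : D.δ ω * D.δ ω = 1 := by rcases D.sign ω with h | h <;> rw [h] <;> norm_num

theorem sign_conj (ω) : conj (D.δ ω) = D.δ ω := by rcases D.sign ω with h | h <;> rw [h] <;> simp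

/-- An irreducible character with signed values `ω` on `W \ W₂` is `μ ω`. -/
theorem eq_of_val {θ : ↥M → ℂ} (hθ : IsIrrCharacter ↥M θ) {ε : ℂ} (hε : ε = 1 ∨ ε = -1)
    {ω : ↥(W₁ ⊔ W₂) →* ℂˣ} (h : ∀ w : ↥(W₁ ⊔ W₂), (w : G) ∉ W₂ → θ ⟨w, B.W_le w.2⟩ = ε * (ω w : ℂ)) :
    θ = D.μ ω ∧ ε = D.δ ω := by
  obtain ⟨x, hx, hx1, hx2⟩ := B.exists_W₁_elt
  set w : ↥(W₁ ⊔ W₂) := ⟨x, Subgroup.mem_sup_left hx⟩ with hwdef
  have hw : (w : G) ∉ W₂ := B.W₁_not_W₂ hx hx1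
  have hw2 : ((w ^ 2 : ↥(W₁ ⊔ W₂)) : G) ∉ W₂ := B.W₁_not_W₂ (W₁.pow_mem hx 2) hx2
  have hεne : ε ≠ 0 := by rcases hε with h | h <;> rw [h] <;> norm_num
  by_cases hex : ∃ ω', θ = D.μ ω'
  · obtain ⟨ω', rfl⟩ := hex
    have hv : ∀ v : ↥(W₁ ⊔ W₂), (v : G) ∉ W₂ → D.δ ω' * (ω' v : ℂ) = ε * (ω v : ℂ) := fun v hv => by
      rw [← D.val ω' v hv, h v hv]
    have e1 := hv w hw
    have e2 := hv _ hw2
    rw [map_pow, map_pow, Units.val_pow_eq_pow_val, Units.val_pow_eq_pow_val] at e2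
    have hε2 : ε * ε = 1 := by rcases hε with h | h <;> rw [h] <;> norm_num
    have hsq : (ω' w : ℂ) ^ 2 = (ω w : ℂ) ^ 2 := by
      have := congrArg (fun z => z * z) e1
      linear_combination this + (ω w : ℂ) ^ 2 * hε2 - (ω' w : ℂ) ^ 2 * D.sign_mul ω'
    have hδ : D.δ ω' = ε := by
      rw [hsq] at e2
      exact mul_right_cancel₀ (pow_ne_zero 2 (Units.ne_zero _)) e2
    have heq : ∀ v : ↥(W₁ ⊔ W₂), (v : G) ∉ W₂ → ω' v = ω v := fun v hv' => by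
      have := hv v hv'
      rw [hδ] at this
      exact Units.ext (mul_left_cancel₀ hεne this)
    have : ω' = ω := MonoidHom.ext fun v => by
      by_cases hv' : (v : G) ∈ W₂
      · have h3 := heq (w * v) (fun h' => hw ((W₂.mul_mem_cancel_right hv').1 h'))
        rw [map_mul, map_mul, heq w hw] at h3
        exact mul_left_cancel h3
      · exact heq v hv'
    subst this
    exact ⟨rfl, hδ.symm⟩
  · push Not at hex
    have h0 := D.vanish θ hθ hex ⟨w, B.W_le w.2⟩ (B.not_mem_K w.2 hw)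
    rw [h w hw] at h0
    exact absurd h0 (mul_ne_zero hεne (Units.ne_zero _))

theorem one_eq : D.μ 1 = (fun _ => 1) ∧ D.δ 1 = 1 := by
  obtain ⟨h1, h2⟩ := D.eq_of_val (θ := fun _ => 1) isIrrCharacter_one (ε := 1) (Or.inl rfl) (ω := 1)
    (fun w _ => by simp)
  exact ⟨h1.symm, h2.symm⟩

theorem conj_eq (ω : ↥(W₁ ⊔ W₂) →* ℂˣ) :
    D.μ ω⁻¹ = (fun x => conj (D.μ ω x)) ∧ D.δ ω⁻¹ = D.δ ω := by
  obtain ⟨h1, h2⟩ := D.eq_of_val (θ := fun x => conj (D.μ ω x)) (isIrrCharacter_conj (D.irr ω))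
    (D.sign ω) (ω := ω⁻¹) (fun w hw => by
      show conj (D.μ ω _) = _
      rw [D.val ω w hw, map_mul, D.sign_conj, MonoidHom.inv_apply, Units.val_inv_eq_inv_val,
        Complex.inv_eq_conj (norm_linear ω w)])
  exact ⟨h1.symm, h2.symm⟩

end Mu

end Cfsg.Agent.FTPBase78
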