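import Cfsg.Agent.Lib.FTPMu78

/-!
The test functions `γ = ζ - q·1_K` and `α = μ_j - δ - n ζ`: budgets, exact shapes, parity.
-/

set_option autoImplicit false
set_option linter.unusedSectionVars false

open scoped ComplexConjugate

namespace Cfsg.Agent.FTPMu78

open Cfsg
open Cfsg.Agent.CharBasic Cfsg.Agent.CharBasicOrth Cfsg.Agent.CharBasicDecomp
open Cfsg.Agent.CyclicTI Cfsg.Agent.FTPBase78 Cfsg.Agent.FTPGrid78 Cfsg.Agent.FTPTau78

attribute [local instance] Classical.propDecidable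

universe u

variable {G : Type u} [Group G] [Fintype G] {M K W₁ W₂ : Subgroup G} {R : G → Subgroup G} [Fintype ↥M]

namespace Core

variable (C : Core M K W₁ W₂ R)
include C

/-- The indicator function of `K`. -/
noncomputable def oneK (_C : Core M K W₁ W₂ R) : ↥M → ℂ := fun x => if (x : G) ∈ K then 1 else 0

/-- `γ`. -/
noncomputable def gam (ζ : ↥M → ℂ) : ↥M → ℂ := ζ - (Nat.card W₁ : ℂ) • C.oneK

/-- `α`. -/
noncomputable def alp (j : ColJ W₁ W₂) (ζ : ↥M → ℂ) : ↥M → ℂ :=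
  C.mu.μ j.1 - (C.dz j.1 : ℂ) • (fun _ => (1 : ℂ)) - (C.nn j.1 : ℂ) • ζ

theorem q_oneK : (Nat.card W₁ : ℂ) • C.oneK = Cfsg.indFun (K.subgroupOf M) (fun _ => 1) := by
  haveI := C.KM_normal
  funext x
  by_cases hx : x ∈ K.subgroupOf M
  · rw [show x = ((⟨x, hx⟩ : ↥(K.subgroupOf M)) : ↥M) from rfl, CharInduced.ind_normal_coe]
    have hx' : ((x : ↥M) : G) ∈ K := hx
    simp only [Pi.smul_apply, oneK, hx', if_true, smul_eq_mul, mul_one, CharInduced.conjFun,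
      Finset.sum_const, Finset.card_univ, nsmul_eq_mul]
    rw [← Nat.card_eq_fintype_card, C.card_M,
      inv_mul_cancel_left₀ (Nat.cast_ne_zero.2 Nat.card_pos.ne')]
  · rw [CharInduced.ind_normal_eq_zero _ _ hx]
    have hx' : ¬ ((x : ↥M) : G) ∈ K := hx
    simp [oneK, hx']

theorem oneK_class : IsClassFunction ↥M C.oneK := fun g h => by
  have : ((h * g * h⁻¹ : ↥M) : G) ∈ K ↔ (g : G) ∈ K :=
    ⟨fun hh => by simpa [mul_assoc] using C.base.conj_K (M.inv_mem h.2) hh, fun hh => C.base.conj_K h.2 hh⟩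
  simp only [oneK, this]

theorem sup_gam {ζ : ↥M → ℂ} (h : ζ ∈ C.Z1) : C.Sup (C.gam ζ) := by
  refine C.sup_of_K ?_ ?_ ?_
  · rw [gam, C.q_oneK]
    exact isGeneralizedCharacter_sub (isGeneralizedCharacter_of_isCharacter
      (isCharacter_of_isIrrCharacter (C.Z1_irr h))) (CharInduced.isGenChar_ind _
        (isGeneralizedCharacter_of_isCharacter isCharacter_one))
  · simp [gam, oneK, K.one_mem, C.Z1_one h]
  · intro x hx; simp [gam, oneK, hx, C.Z1_K h x hx]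

theorem sup_alp {j : ColJ W₁ W₂} {ζ : ↥M → ℂ} (h : ζ ∈ C.Z1) : C.Sup (C.alp j ζ) := by
  have hg : IsGeneralizedCharacter ↥M (C.alp j ζ) :=
    isGeneralizedCharacter_sub (isGeneralizedCharacter_sub
      (isGeneralizedCharacter_of_isCharacter (isCharacter_of_isIrrCharacter (C.mu.irr _)))
      (isGeneralizedCharacter_zsmul (isGeneralizedCharacter_of_isCharacter isCharacter_one) _))
      (isGeneralizedCharacter_zsmul (isGeneralizedCharacter_of_isCharacter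
        (isCharacter_of_isIrrCharacter (C.Z1_irr h))) _)
  refine ⟨hg, C.vanish_off (isClassFunction_of_isGeneralizedCharacter hg) ?_ fun w hw hw1 => ?_⟩
  · simp only [alp, Pi.sub_apply, Pi.smul_apply, smul_eq_mul, C.mu_one_apply, C.Z1_one h, deg]
    push_cast; ring
  · have hw1' : (w : G) ≠ 1 := fun e => hw1 (Subtype.ext e)
    have hw2 := C.base.W₁_not_W₂ hw hw1'
    have e := C.mu.val j.1 ⟨w, Subgroup.mem_sup_left hw⟩ hw2
    have hK : (w : G) ∉ K := fun hh => by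
      have : (w : G) ∈ K ⊓ W₁ := ⟨hh, hw⟩
      rw [C.base.disj] at this
      exact hw1' this
    simp only [alp, Pi.sub_apply, Pi.smul_apply, smul_eq_mul]
    rw [show C.mu.μ j.1 w = _ from e, j.2 _ hw, C.Z1_K h w hK, C.dz_cast]
    simp

theorem inner_K [Fintype ↥(K.subgroupOf M)] {F χ : ↥M → ℂ} (hF : ∀ x : ↥M, (x : G) ∉ K → F x = 0) :
    Cfsg.classInner F χ = (Nat.card W₁ : ℂ)⁻¹ * Cfsg.classInner (C.res F) (C.res χ) := by
  have e : ∑ x : ↥M, F x * conj (χ x) = ∑ k : ↥(K.subgroupOf M), F k * conj (χ k) := by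
    rw [← Fintype.sum_subtype_add_sum_subtype (fun x : ↥M => x ∈ K.subgroupOf M) (fun x => F x * conj (χ x))]
    rw [Finset.sum_eq_zero (s := (Finset.univ : Finset {x : ↥M // ¬ x ∈ K.subgroupOf M}))
      (fun x _ => by rw [hF x.1 x.2, zero_mul]), add_zero]
    exact Finset.sum_bij' (fun x _ => x) (fun x _ => x) (by simp) (by simp) (by simp) (by simp) (by simp)
  simp only [Cfsg.classInner, res, e, C.card_M, mul_inv]
  ring

theorem res_one : C.res (fun _ => (1 : ℂ)) = C.th j₀ := by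
  funext k
  simp only [res, th, show (j₀ : ColJ W₁ W₂).1 = 1 from rfl, C.mu.one_eq.1]

theorem inner_oneK [Fintype ↥(K.subgroupOf M)] (χ : ↥M → ℂ) :
    Cfsg.classInner C.oneK χ = (Nat.card W₁ : ℂ)⁻¹ * Cfsg.classInner (C.th j₀) (C.res χ) := by
  rw [C.inner_K (fun x hx => by simp [oneK, hx]), ← C.res_one]
  congr 2
  funext k
  have hk : ((k : ↥M) : G) ∈ K := k.2
  simp [res, oneK, hk]

theorem q_ne : (Nat.card W₁ : ℂ) ≠ 0 := Nat.cast_ne_zero.2 Nat.card_pos.ne'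

theorem inner_oneK_one : Cfsg.classInner C.oneK (fun _ => 1) = (Nat.card W₁ : ℂ)⁻¹ := by
  haveI : Fintype ↥(K.subgroupOf M) := Fintype.ofFinite _
  rw [C.inner_oneK, C.res_one, C.th_orth, if_pos rfl, mul_one]

theorem inner_oneK_mu {j : ColJ W₁ W₂} (hj : j ≠ j₀) : Cfsg.classInner C.oneK (C.mu.μ j.1) = 0 := by
  haveI : Fintype ↥(K.subgroupOf M) := Fintype.ofFinite _
  rw [C.inner_oneK, show C.res (C.mu.μ j.1) = C.th j from rfl, C.th_orth, if_neg (Ne.symm hj), mul_zero]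

theorem inner_zeta_one {ζ : ↥M → ℂ} (h : ζ ∈ C.Z1) : Cfsg.classInner ζ (fun _ => 1) = 0 :=
  classInner_irr_ne (C.Z1_irr h) isIrrCharacter_one (C.Z1_ne_one h)

theorem inner_zeta_zeta {ζ ζ' : ↥M → ℂ} (h : ζ ∈ C.Z1) (h' : ζ' ∈ C.Z1) :
    Cfsg.classInner ζ ζ' = if ζ = ζ' then 1 else 0 :=
  classInner_irr _ _ (C.Z1_irr h) (C.Z1_irr h')

theorem inner_oneK_zeta {ζ : ↥M → ℂ} (h : ζ ∈ C.Z1) : Cfsg.classInner C.oneK ζ = 0 := by
  haveI : Fintype ↥(K.subgroupOf M) := Fintype.ofFinite _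
  have h1 := C.inner_zeta_one h
  rw [C.inner_K (C.Z1_K h)] at h1
  have h2 : Cfsg.classInner (C.res ζ) (C.res fun _ => 1) = 0 :=
    (mul_eq_zero.1 h1).resolve_left (inv_ne_zero C.q_ne)
  rw [C.inner_oneK, ← C.res_one, ← conj_classInner (C.res ζ), h2, map_zero, mul_zero]

theorem inner_mu_zeta {j : ColJ W₁ W₂} {ζ : ↥M → ℂ} (h : ζ ∈ C.Z1) :
    Cfsg.classInner (C.mu.μ j.1) ζ = 0 := by
  refine classInner_irr_ne (C.mu.irr _) (C.Z1_irr h) fun e => ?_
  obtain ⟨x, hx, hx1, -⟩ := C.base.exists_W₁_elt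
  have e1 := C.mu.val j.1 ⟨x, Subgroup.mem_sup_left hx⟩ (C.base.W₁_not_W₂ hx hx1)
  have hK : x ∉ K := fun hh => by
    have : x ∈ K ⊓ W₁ := ⟨hh, hx⟩
    rw [C.base.disj] at this
    exact hx1 this
  rw [e, C.Z1_K h _ hK, j.2 _ hx, Units.val_one, mul_one] at e1
  exact C.mu.sign_ne _ e1.symm

theorem inner_mu_one {j : ColJ W₁ W₂} (hj : j ≠ j₀) :
    Cfsg.classInner (C.mu.μ j.1) (fun _ => 1) = 0 := by
  refine classInner_irr_ne (C.mu.irr _) isIrrCharacter_one fun e => hj (Subtype.ext ?_)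
  exact C.mu.inj (e.trans C.mu.one_eq.1.symm)

theorem gam_gam {ζ ζ' : ↥M → ℂ} (h : ζ ∈ C.Z1) (h' : ζ' ∈ C.Z1) :
    Cfsg.classInner (C.gam ζ) (C.gam ζ') = (if ζ = ζ' then 1 else 0) + (Nat.card W₁ : ℂ) := by
  have e1 : Cfsg.classInner ζ C.oneK = 0 := by rw [← conj_classInner, C.inner_oneK_zeta h, map_zero]
  have e2 : Cfsg.classInner C.oneK C.oneK = (Nat.card W₁ : ℂ)⁻¹ := by
    rw [← C.inner_oneK_one]
    simp only [Cfsg.classInner, oneK]
    congr 1
    refine Finset.sum_congr rfl fun x _ => ?_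
    split_ifs <;> simp
  simp only [gam, classInner_sub_left, classInner_sub_right, classInner_smul_left, classInner_smul_right,
    C.inner_zeta_zeta h h', e1, C.inner_oneK_zeta h', e2, map_natCast, mul_zero, sub_zero, zero_sub,
    sub_neg_eq_add]
  field_simp [C.q_ne]
  ring

theorem gam_one {ζ : ↥M → ℂ} (h : ζ ∈ C.Z1) : Cfsg.classInner (C.gam ζ) (fun _ => 1) = ((-1 : ℤ) : ℂ) := by
  simp only [gam, classInner_sub_left, classInner_smul_left, C.inner_zeta_one h, C.inner_oneK_one]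
  rw [mul_inv_cancel₀ C.q_ne]; norm_num

theorem gam_zeta {ζ ζ' : ↥M → ℂ} (h : ζ ∈ C.Z1) (h' : ζ' ∈ C.Z1) :
    Cfsg.classInner (C.gam ζ) ζ' = if ζ = ζ' then 1 else 0 := by
  simp only [gam, classInner_sub_left, classInner_smul_left, C.inner_zeta_zeta h h',
    C.inner_oneK_zeta h', mul_zero, sub_zero]

theorem alp_zeta {j : ColJ W₁ W₂} {ζ ζ' : ↥M → ℂ} (h : ζ ∈ C.Z1) (h' : ζ' ∈ C.Z1) :
    Cfsg.classInner (C.alp j ζ) ζ' = -(C.nn j.1 : ℂ) * (if ζ = ζ' then 1 else 0) := by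
  have e : Cfsg.classInner (fun _ => (1 : ℂ)) ζ' = 0 := by
    rw [← conj_classInner, C.inner_zeta_one h', map_zero]
  simp only [alp, classInner_sub_left, classInner_smul_left, C.inner_mu_zeta h', e, C.inner_zeta_zeta h h']
  ring

theorem alp_one {j : ColJ W₁ W₂} (hj : j ≠ j₀) {ζ : ↥M → ℂ} (h : ζ ∈ C.Z1) :
    Cfsg.classInner (C.alp j ζ) (fun _ => 1) = ((-C.dz j.1 : ℤ) : ℂ) := by
  simp only [alp, classInner_sub_left, classInner_smul_left, C.inner_mu_one hj, C.inner_zeta_one h,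
    classInner_irr_self (isIrrCharacter_one (G := ↥M))]
  push_cast; ring

theorem alp_alp {j : ColJ W₁ W₂} (hj : j ≠ j₀) {ζ : ↥M → ℂ} (h : ζ ∈ C.Z1) :
    Cfsg.classInner (C.alp j ζ) (C.alp j ζ) = ((2 + C.nn j.1 ^ 2 : ℤ) : ℂ) := by
  have e1 : Cfsg.classInner ζ (C.mu.μ j.1) = 0 := by rw [← conj_classInner, C.inner_mu_zeta h, map_zero]
  have e2 : Cfsg.classInner (fun _ => (1 : ℂ)) (C.mu.μ j.1) = 0 := by
    rw [← conj_classInner, C.inner_mu_one hj, map_zero]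
  have e3 : Cfsg.classInner (fun _ => (1 : ℂ)) ζ = 0 := by
    rw [← conj_classInner, C.inner_zeta_one h, map_zero]
  simp only [alp, classInner_sub_left, classInner_sub_right, classInner_smul_left, classInner_smul_right,
    C.inner_mu_one hj, C.inner_zeta_one h, C.inner_mu_zeta h, e1, e2, e3, C.inner_zeta_zeta h h,
    classInner_irr_self (isIrrCharacter_one (G := ↥M)), classInner_irr_self (C.mu.irr j.1),
    map_intCast, if_true]
  rcases C.dz_cases j.1 with e | e <;> rw [e] <;> push_cast <;> ring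

theorem gam_alp {j : ColJ W₁ W₂} (hj : j ≠ j₀) {ζ : ↥M → ℂ} (h : ζ ∈ C.Z1) :
    Cfsg.classInner (C.gam ζ) (C.alp j ζ) = ((C.dz j.1 - C.nn j.1 : ℤ) : ℂ) := by
  have e1 : Cfsg.classInner ζ (C.mu.μ j.1) = 0 := by rw [← conj_classInner, C.inner_mu_zeta h, map_zero]
  simp only [gam, alp, classInner_sub_left, classInner_sub_right, classInner_smul_left, classInner_smul_right,
    e1, C.inner_zeta_one h, C.inner_zeta_zeta h h, C.inner_oneK_mu hj, C.inner_oneK_one, C.inner_oneK_zeta h,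
    map_intCast, if_true]
  field_simp [C.q_ne]
  push_cast; ring

/-! ### The family on `Z1` -/

theorem exists_f1 : ∃ f, C.IsFam C.Z1 f ∧
    ∀ ζ ∈ C.Z1, C.Z1.card = 2 → ipz (C.τ (C.gam ζ)) (f ζ) ≠ 0 := by
  obtain ⟨f, hf⟩ := C.exists_fam C.Z1 C.Z1_nonempty (fun χ h => C.Z1_irr h)
    (fun χ h χ' h' => by rw [C.Z1_one h, C.Z1_one h']) (fun χ h => C.Z1_K h) (fun χ h => C.Z1_conj h)
  by_cases hgood : ∀ ζ ∈ C.Z1, C.Z1.card = 2 → ipz (C.τ (C.gam ζ)) (f ζ) ≠ 0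
  · exact ⟨f, hf, hgood⟩
  push Not at hgood
  obtain ⟨ζ, hζ, hm, h0⟩ := hgood
  have hcc := (C.Z1_conj hζ).1
  have hne := (C.Z1_conj hζ).2
  have hset : ∀ χ ∈ C.Z1, χ = ζ ∨ χ = Cfsg.conjFun ζ := by
    intro χ hχ
    by_contra hh
    push Not at hh
    have h3 : ({χ, ζ, Cfsg.conjFun ζ} : Finset _) ⊆ C.Z1 := by
      intro x hx
      simp only [Finset.mem_insert, Finset.mem_singleton] at hx
      rcases hx with rfl | rfl | rfl <;> assumption
    have h4 := Finset.card_le_card h3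
    rw [Finset.card_insert_of_notMem (by simp [hh.1, hh.2]), Finset.card_pair hne.symm, hm] at h4
    omega
  set f' : (↥M → ℂ) → G → ℂ := fun χ => -f (Cfsg.conjFun χ) with hf'
  have hfam : C.IsFam C.Z1 f' := by
    refine ⟨fun χ hχ => ?_, fun χ hχ χ' hχ' => ?_, fun χ hχ χ' hχ' => ?_, fun χ hχ ω => ?_, fun χ hχ => ?_⟩
    · rcases hf.si _ (C.Z1_conj hχ).1 with h | h
      · exact Or.inr (by simpa [hf'] using h)
      · exact Or.inl (by simpa [hf'] using h)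
    · simp only [hf', classInner_neg_left, classInner_neg_right, neg_neg,
        hf.orth _ (C.Z1_conj hχ).1 _ (C.Z1_conj hχ').1]
      refine if_congr ⟨fun e => ?_, fun e => by rw [e]⟩ rfl rfl
      rw [← CoherenceBasic.conjFun_conjFun χ, e, CoherenceBasic.conjFun_conjFun]
    · rcases hset χ hχ with rfl | rfl <;> rcases hset χ' hχ' with rfl | rfl <;>
        simp only [hf', sub_self, C.tau_zero, CoherenceBasic.conjFun_conjFun, neg_sub_neg]
      · exact hf.diff _ hζ _ hcc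
      · exact hf.diff _ hcc _ hζ
    · simp only [hf', classInner_neg_left, hf.eta _ (C.Z1_conj hχ).1, neg_zero]
    · simp only [hf', CoherenceBasic.conjFun_conjFun]
      rw [hf.conjC χ hχ]
      funext g
      simp [Cfsg.conjFun]
  refine ⟨f', hfam, ?_⟩
  have hg : IsGeneralizedCharacter G (C.τ (C.gam ζ)) := C.tau_gen (C.sup_gam hζ)
  have hval : ipz (C.τ (C.gam ζ)) (f' ζ) = 1 := by
    refine ipz_eq ?_
    have e1 : Cfsg.classInner (C.τ (C.gam ζ)) (f ζ - f (Cfsg.conjFun ζ)) = 1 := by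
      rw [← hf.diff _ hζ _ hcc, C.tau_inner_sup (C.sup_gam hζ) (C.sup_of_K
        (isGeneralizedCharacter_sub (isGeneralizedCharacter_of_isCharacter (isCharacter_of_isIrrCharacter
          (C.Z1_irr hζ))) (isGeneralizedCharacter_of_isCharacter (isCharacter_of_isIrrCharacter (C.Z1_irr hcc))))
        (by simp [C.Z1_one hζ, C.Z1_one hcc]) (fun x hx => by simp [C.Z1_K hζ x hx, C.Z1_K hcc x hx])),
        classInner_sub_right, C.gam_zeta hζ hζ, C.gam_zeta hζ hcc, if_pos rfl, if_neg hne.symm, sub_zero]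
    rw [classInner_sub_right, ipz_spec hg (C.fam_gen hf hζ), h0, Int.cast_zero, zero_sub] at e1
    simp only [hf', classInner_neg_right, e1, Int.cast_one]
  intro χ hχ _
  rcases hset χ hχ with rfl | rfl
  · rw [hval]; exact one_ne_zero
  · have e : ipz (C.τ (C.gam (Cfsg.conjFun ζ))) (f' (Cfsg.conjFun ζ)) = 1 := by
      refine ipz_eq ?_
      have e2 : C.gam (Cfsg.conjFun ζ) = Cfsg.conjFun (C.gam ζ) := by
        funext x; simp only [gam, oneK, Cfsg.conjFun, Pi.sub_apply, Pi.smul_apply]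
        split_ifs <;> simp
      rw [e2, C.tau_conj, hfam.conjC _ hζ, CoherenceBasic.classInner_conjFun,
        ipz_spec hg (C.fam_gen hfam hζ), hval, Int.cast_one, map_one]
    rw [e]; exact one_ne_zero

/-- The signed family on `Z1`. -/
noncomputable def f1 : (↥M → ℂ) → G → ℂ := Classical.choose C.exists_f1

theorem f1_fam : C.IsFam C.Z1 C.f1 := (Classical.choose_spec C.exists_f1).1

/-- A fixed member of `Z1`. -/
noncomputable def z0 : ↥M → ℂ := Classical.choose C.Z1_nonempty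

theorem z0_mem : C.z0 ∈ C.Z1 := Classical.choose_spec C.Z1_nonempty

theorem sup_diff {ζ ζ' : ↥M → ℂ} (h : ζ ∈ C.Z1) (h' : ζ' ∈ C.Z1) : C.Sup (ζ - ζ') :=
  C.sup_of_K (isGeneralizedCharacter_sub
    (isGeneralizedCharacter_of_isCharacter (isCharacter_of_isIrrCharacter (C.Z1_irr h)))
    (isGeneralizedCharacter_of_isCharacter (isCharacter_of_isIrrCharacter (C.Z1_irr h'))))
    (by simp [C.Z1_one h, C.Z1_one h']) (fun x hx => by simp [C.Z1_K h x hx, C.Z1_K h' x hx])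

/-- The parameter `s_j`. -/
noncomputable def sv (j : ColJ W₁ W₂) : ℤ := ipz (C.τ (C.alp j C.z0)) (C.f1 C.z0) + C.nn j.1

/-- The grid of `τ α_j`. -/
noncomputable def ag (j : ColJ W₁ W₂) : RowI W₁ W₂ → ColJ W₁ W₂ → ℤ := C.cell (C.τ (C.alp j C.z0))

/-- The parameter `g`. -/
noncomputable def gv : ℤ := ipz (C.τ (C.gam C.z0)) (C.f1 C.z0) - 1

/-- The grid of `τ γ`. -/
noncomputable def bg : RowI W₁ W₂ → ColJ W₁ W₂ → ℤ := C.cell (C.τ (C.gam C.z0))

theorem alpha_coeff {j : ColJ W₁ W₂} {ζ ζ' : ↥M → ℂ} (h : ζ ∈ C.Z1) (h' : ζ' ∈ C.Z1) :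
    Cfsg.classInner (C.τ (C.alp j ζ)) (C.f1 ζ') =
      ((C.sv j - C.nn j.1 * (if ζ = ζ' then 1 else 0) : ℤ) : ℂ) := by
  have hf := C.f1_fam
  have h0 := C.z0_mem
  have hg : IsGeneralizedCharacter G (C.τ (C.alp j C.z0)) := C.tau_gen (C.sup_alp h0)
  have e1 : C.τ (C.alp j ζ) = C.τ (C.alp j C.z0) - (C.nn j.1 : ℂ) • (C.f1 ζ - C.f1 C.z0) := by
    rw [← hf.diff _ h _ h0, ← C.tau_smul, ← C.tau_sub]
    congr 1
    simp only [alp]; module
  have e2 : Cfsg.classInner (C.τ (C.alp j C.z0)) (C.f1 ζ' - C.f1 C.z0) =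
      -(C.nn j.1 : ℂ) * (if C.z0 = ζ' then 1 else 0) + C.nn j.1 := by
    rw [← hf.diff _ h' _ h0, C.tau_inner_sup (C.sup_alp h0) (C.sup_diff h' h0), classInner_sub_right,
      C.alp_zeta h0 h', C.alp_zeta h0 h0, if_pos rfl]
    ring
  rw [classInner_sub_right, ipz_spec hg (C.fam_gen hf h0)] at e2
  rw [e1, classInner_sub_left, classInner_smul_left, classInner_sub_left, hf.orth _ h _ h',
    hf.orth _ h0 _ h', sv]
  push_cast
  linear_combination e2

theorem gamma_coeff {ζ ζ' : ↥M → ℂ} (h : ζ ∈ C.Z1) (h' : ζ' ∈ C.Z1) :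
    Cfsg.classInner (C.τ (C.gam ζ)) (C.f1 ζ') = ((C.gv + (if ζ = ζ' then 1 else 0) : ℤ) : ℂ) := by
  have hf := C.f1_fam
  have h0 := C.z0_mem
  have hg : IsGeneralizedCharacter G (C.τ (C.gam C.z0)) := C.tau_gen (C.sup_gam h0)
  have e1 : C.τ (C.gam ζ) = C.τ (C.gam C.z0) + (C.f1 ζ - C.f1 C.z0) := by
    rw [← hf.diff _ h _ h0, ← C.tau_add]
    congr 1
    simp only [gam]; abel
  have e2 : Cfsg.classInner (C.τ (C.gam C.z0)) (C.f1 ζ' - C.f1 C.z0) =
      (if C.z0 = ζ' then 1 else 0) - 1 := by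
    rw [← hf.diff _ h' _ h0, C.tau_inner_sup (C.sup_gam h0) (C.sup_diff h' h0), classInner_sub_right,
      C.gam_zeta h0 h', C.gam_zeta h0 h0, if_pos rfl]
  rw [classInner_sub_right, ipz_spec hg (C.fam_gen hf h0)] at e2
  rw [e1, classInner_add_left, classInner_sub_left, hf.orth _ h _ h', hf.orth _ h0 _ h', gv]
  push_cast
  linear_combination e2

theorem gv_ne (h : C.Z1.card = 2) : C.gv ≠ -1 := by
  have := (Classical.choose_spec C.exists_f1).2 _ C.z0_mem h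
  unfold gv
  intro e
  exact this (by
    show ipz (C.τ (C.gam C.z0)) (C.f1 C.z0) = 0
    omega)

theorem alpha_cell {j : ColJ W₁ W₂} {ζ : ↥M → ℂ} (h : ζ ∈ C.Z1) :
    C.cell (C.τ (C.alp j ζ)) = C.ag j := by
  have hf := C.f1_fam
  have h0 := C.z0_mem
  funext i j'
  refine ipz_eq ?_
  have e1 : C.τ (C.alp j ζ) = C.τ (C.alp j C.z0) - (C.nn j.1 : ℂ) • (C.f1 ζ - C.f1 C.z0) := by
    rw [← hf.diff _ h _ h0, ← C.tau_smul, ← C.tau_sub]
    congr 1
    simp only [alp]; module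
  rw [e1, classInner_sub_left, classInner_smul_left, classInner_sub_left, hf.eta _ h, hf.eta _ h0,
    sub_zero, mul_zero, sub_zero, C.cell_spec (C.tau_gen (C.sup_alp h0))]
  rfl

theorem gamma_cell {ζ : ↥M → ℂ} (h : ζ ∈ C.Z1) : C.cell (C.τ (C.gam ζ)) = C.bg := by
  have hf := C.f1_fam
  have h0 := C.z0_mem
  funext i j'
  refine ipz_eq ?_
  have e1 : C.τ (C.gam ζ) = C.τ (C.gam C.z0) + (C.f1 ζ - C.f1 C.z0) := by
    rw [← hf.diff _ h _ h0, ← C.tau_add]
    congr 1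
    simp only [gam]; abel
  rw [e1, classInner_add_left, classInner_sub_left, hf.eta _ h, hf.eta _ h0,
    sub_zero, add_zero, C.cell_spec (C.tau_gen (C.sup_gam h0))]
  rfl

theorem alpha_corner {j : ColJ W₁ W₂} (hj : j ≠ j₀) : C.ag j i₀ j₀ = -C.dz j.1 :=
  C.cell_corner (C.tau_gen (C.sup_alp C.z0_mem)) (by
    rw [C.tau_inner_one (isClassFunction_of_isGeneralizedCharacter (C.sup_alp C.z0_mem).1)
      (C.sup_alp C.z0_mem).2, C.alp_one hj C.z0_mem])

theorem gamma_corner : C.bg i₀ j₀ = -1 :=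
  C.cell_corner (C.tau_gen (C.sup_gam C.z0_mem)) (by
    rw [C.tau_inner_one (isClassFunction_of_isGeneralizedCharacter (C.sup_gam C.z0_mem).1)
      (C.sup_gam C.z0_mem).2, C.gam_one C.z0_mem])

theorem sum_sq_coeff {ζ : ↥M → ℂ} (h : ζ ∈ C.Z1) (c d : ℤ) :
    ∑ χ ∈ C.Z1, (c + d * (if ζ = χ then 1 else 0)) ^ 2 = C.Z1.card * c ^ 2 + 2 * c * d + d ^ 2 := by
  have e : ∀ χ : ↥M → ℂ, (c + d * (if ζ = χ then 1 else 0)) ^ 2 =
      c ^ 2 + (2 * c * d + d ^ 2) * (if ζ = χ then 1 else 0) := fun χ => by split_ifs <;> ring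
  rw [Finset.sum_congr rfl (fun χ _ => e χ), Finset.sum_add_distrib, ← Finset.mul_sum,
    Finset.sum_ite_eq, if_pos h, Finset.sum_const, nsmul_eq_mul]
  ring

/-- The budget for `α`. -/
theorem alpha_budget {j : ColJ W₁ W₂} (hj : j ≠ j₀) :
    C.sv j * (C.Z1.card * C.sv j - 2 * C.nn j.1) + ∑ i, ∑ j', C.ag j i j' ^ 2 ≤ 2 := by
  have h0 := C.z0_mem
  have h := (C.budget C.f1_fam (C.tau_gen (C.sup_alp (j := j) h0))
    (N := 2 + C.nn j.1 ^ 2) (by rw [C.tau_inner_sup (C.sup_alp h0) (C.sup_alp h0), C.alp_alp hj h0])).1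
  rw [Finset.sum_congr rfl (fun χ hχ => by
    rw [ipz_eq (C.alpha_coeff h0 hχ), sub_eq_add_neg, ← neg_mul]), C.sum_sq_coeff h0] at h
  change _ + ∑ i, ∑ j', C.ag j i j' ^ 2 ≤ _ at h
  linarith

theorem alpha_grid_pos {j : ColJ W₁ W₂} (hj : j ≠ j₀) : 1 ≤ ∑ i, ∑ j', C.ag j i j' ^ 2 := by
  refine le_trans ?_ (Finset.single_le_sum (f := fun i => ∑ j', C.ag j i j' ^ 2)
    (fun i _ => Finset.sum_nonneg fun j' _ => sq_nonneg _) (Finset.mem_univ i₀))
  refine le_trans ?_ (one_le_sum (f := C.ag j i₀) j₀)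
  rw [C.alpha_corner hj]
  rcases C.dz_cases j.1 with e | e <;> rw [e] <;> norm_num

theorem alpha_zero_of_big {j : ColJ W₁ W₂} (hj : j ≠ j₀) (hm : 2 * C.nn j.1 + 2 ≤ C.Z1.card) :
    C.sv j = 0 := by
  have h1 := C.alpha_budget hj
  have h2 := C.alpha_grid_pos hj
  have hn := C.nn_ge_two hj
  by_contra hs
  rcases lt_or_gt_of_ne hs with h | h
  · have : (2 : ℤ) ≤ C.sv j * (C.Z1.card * C.sv j - 2 * C.nn j.1) := by
      have h3 : C.sv j ≤ -1 := by omega
      have h4 : (C.Z1.card : ℤ) * C.sv j - 2 * C.nn j.1 ≤ -2 := by nlinarith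
      nlinarith
    omega
  · have : (2 : ℤ) ≤ C.sv j * (C.Z1.card * C.sv j - 2 * C.nn j.1) := by
      have h3 : (1 : ℤ) ≤ C.sv j := by omega
      have h4 : (2 : ℤ) ≤ C.Z1.card * C.sv j - 2 * C.nn j.1 := by nlinarith
      nlinarith
    omega

theorem alpha_cells {j : ColJ W₁ W₂} (hj : j ≠ j₀) (hgr : ∑ i, ∑ j', C.ag j i j' ^ 2 ≤ 2) :
    (∀ i j', C.ag j i j' = C.dz j.1 * E i₀ j i j' - C.dz j.1 * E i₀ j₀ i j') ∧
      ∑ i, ∑ j', C.ag j i j' ^ 2 = 2 := by
  have h := C.z0_mem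
  set θ := C.τ (C.alp j C.z0) with hθd
  have hθ : IsGeneralizedCharacter G θ := C.tau_gen (C.sup_alp h)
  set d : G → ℂ := (C.dz j.1 : ℂ) • (C.η ((i₀ : RowI W₁ W₂).1 * j.1) -
    C.η ((i₀ : RowI W₁ W₂).1 * (j₀ : ColJ W₁ W₂).1)) with hd
  have hdg : IsGeneralizedCharacter G d :=
    isGeneralizedCharacter_zsmul (isGeneralizedCharacter_sub (C.eta_gen _) (C.eta_gen _)) _
  have hdc : ∀ i j', C.cell d i j' = C.dz j.1 * E i₀ j i j' - C.dz j.1 * E i₀ j₀ i j' := fun i j' => by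
    rw [hd, C.cell_smul _ (isGeneralizedCharacter_sub (C.eta_gen _) (C.eta_gen _)),
      C.cell_sub (C.eta_gen _) (C.eta_gen _), C.cell_eta, C.cell_eta]
    ring
  have hrect : Rect i₀ j₀ (C.cell (θ - d)) := by
    refine C.cell_rect (isGeneralizedCharacter_sub hθ hdg) fun w hw => ?_
    have hK : ((⟨(w : G), C.base.W_le w.2⟩ : ↥M) : G) ∉ K := C.base.not_mem_K w.2 hw.2
    rw [Pi.sub_apply, hθd, C.tau_on_V (isClassFunction_of_isGeneralizedCharacter (C.sup_alp h).1) hw]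
    simp only [hd, Pi.sub_apply, Pi.smul_apply, smul_eq_mul, C.eta_V _ hw, alp, C.Z1_K h _ hK,
      C.mu.val j.1 w hw.2, C.dz_cast]
    simp [i₀, j₀, hom_one_mul]
    ring
  have hb : ∀ i j', C.cell (θ - d) i j' = C.ag j i j' - (C.dz j.1 * E i₀ j i j' - C.dz j.1 * E i₀ j₀ i j') :=
    fun i j' => by rw [C.cell_sub hθ hdg, hdc]; rfl
  have h00 : C.cell (θ - d) i₀ j₀ = 0 := by
    rw [hb, C.alpha_corner hj, E_self, E_ne_right hj.symm]; ring
  have hz := alpha_grid C.three_row C.three_col hrect h00 (C.dz_cases j.1) hj (by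
    refine le_trans (le_of_eq ?_) hgr
    refine Finset.sum_congr rfl fun i _ => Finset.sum_congr rfl fun j' _ => ?_
    rw [hb]; ring)
  have hcell : ∀ i j', C.ag j i j' = C.dz j.1 * E i₀ j i j' - C.dz j.1 * E i₀ j₀ i j' := fun i j' => by
    have := hz i j'; rw [hb] at this; linarith
  refine ⟨hcell, ?_⟩
  simp only [hcell]
  rw [Finset.sum_eq_single i₀ (fun i _ hi => by simp [E_ne_left hi]) (fun h' => absurd (Finset.mem_univ _) h')]
  rw [← Finset.sum_subset (Finset.subset_univ ({j, j₀} : Finset (ColJ W₁ W₂))) (fun x _ hx => by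
    simp only [Finset.mem_insert, Finset.mem_singleton, not_or] at hx
    simp [E_ne_right hx.1, E_ne_right hx.2]), Finset.sum_pair hj, E_self, E_self, E_ne_right hj, E_ne_right hj.symm]
  rcases C.dz_cases j.1 with e | e <;> rw [e] <;> norm_num

/-- The shape of `τ α` when the budget for the family coefficients is used up. -/
theorem alpha_expand {j : ColJ W₁ W₂} (hj : j ≠ j₀) (hgr : ∑ i, ∑ j', C.ag j i j' ^ 2 ≤ 2)
    (hs : C.sv j * (C.Z1.card * C.sv j - 2 * C.nn j.1) = 0) {ζ : ↥M → ℂ} (h : ζ ∈ C.Z1) :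
    C.τ (C.alp j ζ) = (C.dz j.1 : ℂ) • (C.η j.1 - C.η 1) +
      ∑ χ ∈ C.Z1, ((C.sv j - C.nn j.1 * (if ζ = χ then 1 else 0) : ℤ) : ℂ) • C.f1 χ := by
  have hf := C.f1_fam
  obtain ⟨hcell, hnorm2⟩ := C.alpha_cells hj hgr
  set θ := C.τ (C.alp j ζ) with hθd
  have hθ : IsGeneralizedCharacter G θ := C.tau_gen (C.sup_alp h)
  have hN : Cfsg.classInner θ θ = ((2 + C.nn j.1 ^ 2 : ℤ) : ℂ) := by
    rw [hθd, C.tau_inner_sup (C.sup_alp h) (C.sup_alp h), C.alp_alp hj h]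
  set d : G → ℂ := (C.dz j.1 : ℂ) • (C.η ((i₀ : RowI W₁ W₂).1 * j.1) -
    C.η ((i₀ : RowI W₁ W₂).1 * (j₀ : ColJ W₁ W₂).1)) with hd
  have hdg : IsGeneralizedCharacter G d :=
    isGeneralizedCharacter_zsmul (isGeneralizedCharacter_sub (C.eta_gen _) (C.eta_gen _)) _
  have hdc : ∀ i j', C.cell d i j' = C.dz j.1 * E i₀ j i j' - C.dz j.1 * E i₀ j₀ i j' := fun i j' => by
    rw [hd, C.cell_smul _ (isGeneralizedCharacter_sub (C.eta_gen _) (C.eta_gen _)),
      C.cell_sub (C.eta_gen _) (C.eta_gen _), C.cell_eta, C.cell_eta]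
    ring
  have hag : ∀ i j', C.cell θ i j' = C.ag j i j' := fun i j' => by rw [hθd, C.alpha_cell h]
  have hco : ∀ χ ∈ C.Z1, ipz θ (C.f1 χ) = C.sv j - C.nn j.1 * (if ζ = χ then 1 else 0) := fun χ hχ =>
    ipz_eq (C.alpha_coeff h hχ)
  have hexp := (C.budget hf hθ hN).2 (by
    rw [Finset.sum_congr rfl (fun χ hχ => by rw [hco χ hχ, sub_eq_add_neg, ← neg_mul]), C.sum_sq_coeff h]
    simp only [hag, hnorm2]; linarith)
  have hgrid : ∑ i, ∑ j', (C.cell θ i j' : ℂ) • C.η (i.1 * j'.1) = d := by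
    have hdd : Cfsg.classInner d d = ((2 : ℤ) : ℂ) := by
      simp only [hd, classInner_smul_left, classInner_smul_right, classInner_sub_left, classInner_sub_right,
        C.eta_cell, map_intCast, hj, Ne.symm hj, and_false, if_false, and_self, if_true]
      rcases C.dz_cases j.1 with e | e <;> rw [e] <;> norm_num
    have hemp : C.IsFam ∅ C.f1 := ⟨by simp, by simp, by simp, by simp, by simp⟩
    have := (C.budget hemp hdg hdd).2 (by simp only [Finset.sum_empty, zero_add, hdc, ← hcell, hnorm2])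
    rw [Finset.sum_empty, zero_add] at this
    rw [this]
    exact Finset.sum_congr rfl fun i _ => Finset.sum_congr rfl fun j' _ => by rw [hdc, hag, hcell]
  rw [hexp, hgrid, hd, show (i₀ : RowI W₁ W₂).1 * j.1 = j.1 from hom_one_mul _,
    show (i₀ : RowI W₁ W₂).1 * (j₀ : ColJ W₁ W₂).1 = 1 from hom_one_mul _, add_comm]
  exact congrArg₂ (· + ·) rfl (Finset.sum_congr rfl fun χ hχ => by rw [hco χ hχ])

theorem alpha_grid_le {j : ColJ W₁ W₂} (hj : j ≠ j₀) (hs : C.sv j = 0) :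
    ∑ i, ∑ j', C.ag j i j' ^ 2 ≤ 2 := by
  have := C.alpha_budget hj; rw [hs] at this; linarith

theorem alpha_exact {j : ColJ W₁ W₂} (hj : j ≠ j₀) (hs : C.sv j = 0) {ζ : ↥M → ℂ} (h : ζ ∈ C.Z1) :
    C.τ (C.alp j ζ) =
      (C.dz j.1 : ℂ) • (C.η j.1 - C.η 1) - (C.nn j.1 : ℂ) • C.f1 ζ := by
  rw [C.alpha_expand hj (C.alpha_grid_le hj hs) (by rw [hs, zero_mul]) h,
    Finset.sum_eq_single ζ (fun χ hχ hne => by simp [hs, Ne.symm hne]) (fun h' => absurd h h')]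
  simp only [hs, if_true]
  push_cast
  module

/-- `τ γ` has its exact shape. -/
def GExact : Prop := C.gv = 0 ∧ ∀ i j, C.bg i j = if j = j₀ then -1 else 0

theorem gamma_rect : Rect i₀ j₀ C.bg := by
  refine C.cell_rect (C.tau_gen (C.sup_gam C.z0_mem)) fun w hw => ?_
  rw [C.tau_on_V (isClassFunction_of_isGeneralizedCharacter (C.sup_gam C.z0_mem).1) hw]
  have hK : ((⟨(w : G), C.base.W_le w.2⟩ : ↥M) : G) ∉ K := C.base.not_mem_K w.2 hw.2
  simp [gam, oneK, C.Z1_K C.z0_mem _ hK, C.base.not_mem_K w.2 hw.2]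

/-- `τ γ` is exact, or the first row is constant and `p ≤ q`. -/
theorem gamma_dichotomy : C.GExact ∨ ((∀ j, C.bg i₀ j = -1) ∧ Nat.card W₂ ≤ Nat.card W₁) := by
  have h0 := C.z0_mem
  have hb := (C.budget C.f1_fam (C.tau_gen (C.sup_gam h0)) (N := 1 + (Nat.card W₁ : ℤ))
    (by rw [C.tau_inner_sup (C.sup_gam h0) (C.sup_gam h0), C.gam_gam h0 h0, if_pos rfl]; push_cast; rfl)).1
  rw [Finset.sum_congr rfl (fun χ hχ => by rw [ipz_eq (C.gamma_coeff h0 hχ), ← one_mul (ite _ (1 : ℤ) 0)]),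
    C.sum_sq_coeff h0] at hb
  have hm : (2 : ℤ) ≤ C.Z1.card := by exact_mod_cast C.two_Z1
  have hX : 0 ≤ C.gv * (C.Z1.card * C.gv + 2) := by
    rcases le_or_gt 0 C.gv with h | h
    · positivity
    · exact mul_nonneg_of_nonpos_of_nonpos h.le (by nlinarith)
  rcases gamma_grid C.three_col C.gamma_rect C.gamma_corner hX (by
    rw [C.card_row]
    change _ + (∑ i, ∑ j, C.bg i j ^ 2) ≤ _ at hb
    linarith) with ⟨hX0, hg⟩ | ⟨hall, hle⟩
  · left
    refine ⟨?_, fun i j => by convert hg i j⟩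
    rcases mul_eq_zero.1 hX0 with h | h
    · exact h
    · exfalso
      have h1 : C.gv = -1 := by
        have h2 : C.gv < 0 := by nlinarith
        have h3 : -1 ≤ C.gv := by nlinarith
        omega
      rw [h1] at h
      exact C.gv_ne (by omega) h1
  · refine Or.inr ⟨hall, ?_⟩
    rw [C.card_col, C.card_row] at hle
    omega

theorem gamma_exact_of_lt (h : Nat.card W₁ < Nat.card W₂) : C.GExact :=
  C.gamma_dichotomy.resolve_right fun h' => by omega

theorem gamma_eq (hG : C.GExact) {ζ : ↥M → ℂ} (h : ζ ∈ C.Z1) :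
    C.τ (C.gam ζ) = C.f1 ζ - ∑ i : RowI W₁ W₂, C.η i.1 := by
  have hθ : IsGeneralizedCharacter G (C.τ (C.gam ζ)) := C.tau_gen (C.sup_gam h)
  have hN : Cfsg.classInner (C.τ (C.gam ζ)) (C.τ (C.gam ζ)) = ((1 + (Nat.card W₁ : ℤ) : ℤ) : ℂ) := by
    rw [C.tau_inner_sup (C.sup_gam h) (C.sup_gam h), C.gam_gam h h, if_pos rfl]; push_cast; rfl
  have hco : ∀ χ ∈ C.Z1, ipz (C.τ (C.gam ζ)) (C.f1 χ) = 0 + 1 * (if ζ = χ then 1 else 0) := fun χ hχ =>
    ipz_eq (by rw [C.gamma_coeff h hχ, hG.1]; push_cast; ring)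
  have hexp := (C.budget C.f1_fam hθ hN).2 (by
    rw [Finset.sum_congr rfl (fun χ hχ => by rw [hco χ hχ]), C.sum_sq_coeff h]
    simp only [C.gamma_cell h, hG.2, ite_pow, neg_sq, one_pow, zero_pow two_ne_zero, Finset.sum_ite_eq',
      Finset.mem_univ, if_true, Finset.sum_const, Finset.card_univ, C.card_row, nsmul_eq_mul, mul_one]
    push_cast; ring)
  rw [hexp, Finset.sum_eq_single ζ (fun χ hχ hne => by simp [hco χ hχ, Ne.symm hne])
    (fun h' => absurd h h'), hco ζ h]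
  simp only [C.gamma_cell h, hG.2, if_true, apply_ite (fun z : ℤ => (z : ℂ)), Int.cast_zero, ite_smul,
    zero_smul, Finset.sum_ite_eq', Finset.mem_univ, show ∀ i : RowI W₁ W₂, i.1 * (j₀ : ColJ W₁ W₂).1 = i.1 from
      fun i => hom_mul_one _]
  push_cast
  simp [sub_eq_add_neg]

theorem gamma_of_grid {j : ColJ W₁ W₂} (hj : j ≠ j₀) (hgr : ∑ i, ∑ j', C.ag j i j' ^ 2 ≤ 2)
    (hs : C.sv j * (C.Z1.card * C.sv j - 2 * C.nn j.1) = 0) (hev : Even (C.sv j)) : C.GExact := by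
  refine C.gamma_dichotomy.resolve_right fun ⟨hall, _⟩ => ?_
  have h0 := C.z0_mem
  have hg : IsGeneralizedCharacter G (C.τ (C.gam C.z0)) := C.tau_gen (C.sup_gam h0)
  have e := C.tau_inner_sup (C.sup_gam h0) (C.sup_alp (j := j) h0)
  rw [C.alpha_expand hj hgr hs h0, C.gam_alp hj h0, classInner_add_right, classInner_smul_right,
    classInner_sub_right, classInner_sum_right,
    show C.η 1 = C.η ((i₀ : RowI W₁ W₂).1 * (j₀ : ColJ W₁ W₂).1) by
      rw [show (i₀ : RowI W₁ W₂).1 * (j₀ : ColJ W₁ W₂).1 = 1 from hom_one_mul _],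
    show j.1 = (i₀ : RowI W₁ W₂).1 * j.1 from (hom_one_mul _).symm,
    C.cell_spec hg, C.cell_spec hg, show C.cell (C.τ (C.gam C.z0)) = C.bg from rfl, hall j, hall j₀,
    show (i₀ : RowI W₁ W₂).1 * j.1 = j.1 from hom_one_mul _] at e
  rw [Finset.sum_congr rfl (fun χ hχ => by
    rw [classInner_smul_right, C.gamma_coeff h0 hχ, map_intCast, ← Int.cast_mul]), ← Int.cast_sum] at e
  simp only [map_intCast, sub_self, mul_zero, zero_add] at e
  have e' : ∑ χ ∈ C.Z1, (C.sv j - C.nn j.1 * (if C.z0 = χ then 1 else 0)) *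
      (C.gv + (if C.z0 = χ then 1 else 0)) = C.dz j.1 - C.nn j.1 := by exact_mod_cast e
  have e3 : ∀ χ : ↥M → ℂ, (C.sv j - C.nn j.1 * (if C.z0 = χ then 1 else 0)) *
      (C.gv + (if C.z0 = χ then 1 else 0)) = C.sv j * C.gv +
        (C.sv j - C.nn j.1 * C.gv - C.nn j.1) * (if C.z0 = χ then 1 else 0) := fun χ => by
    split_ifs <;> ring
  rw [Finset.sum_congr rfl (fun χ _ => e3 χ), Finset.sum_add_distrib, Finset.sum_const, nsmul_eq_mul,
    ← Finset.mul_sum, Finset.sum_ite_eq, if_pos h0, mul_one] at e'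
  obtain ⟨r, hr⟩ := C.nn_even j.1
  obtain ⟨t, ht⟩ := hev
  rw [hr, ht] at e'
  obtain ⟨A, hA⟩ : ∃ A : ℤ, C.dz j.1 = 2 * A := ⟨(C.Z1.card : ℤ) * t * C.gv + t - r * C.gv, by linarith⟩
  rcases C.dz_cases j.1 with hd | hd <;> omega

theorem gamma_of_alpha {j : ColJ W₁ W₂} (hj : j ≠ j₀) (hs : C.sv j = 0) : C.GExact :=
  C.gamma_of_grid hj (C.alpha_grid_le hj hs) (by rw [hs, zero_mul]) (by rw [hs]; exact ⟨0, rfl⟩)

theorem sum_r (hG : C.GExact) {j : ColJ W₁ W₂} (hj : j ≠ j₀) :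
    ∑ i ∈ Finset.univ.erase i₀, C.ag j i j₀ = C.sv j := by
  have h0 := C.z0_mem
  have hg : IsGeneralizedCharacter G (C.τ (C.alp j C.z0)) := C.tau_gen (C.sup_alp h0)
  have e := C.tau_inner_sup (C.sup_gam h0) (C.sup_alp (j := j) h0)
  rw [C.gamma_eq hG h0, C.gam_alp hj h0, classInner_sub_left, classInner_sum_left,
    ← conj_classInner (C.τ (C.alp j C.z0)) (C.f1 C.z0), C.alpha_coeff h0 h0, map_intCast, if_pos rfl] at e
  have e2 : ∀ i : RowI W₁ W₂, Cfsg.classInner (C.η i.1) (C.τ (C.alp j C.z0)) = (C.ag j i j₀ : ℂ) := fun i => by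
    rw [← conj_classInner, show i.1 = i.1 * (j₀ : ColJ W₁ W₂).1 from (hom_mul_one _).symm,
      C.cell_spec hg, map_intCast]
    rfl
  simp only [e2, mul_one] at e
  have e' : (C.sv j - C.nn j.1) - ∑ i, C.ag j i j₀ = C.dz j.1 - C.nn j.1 := by exact_mod_cast e
  have h2 := Finset.add_sum_erase Finset.univ (fun i => C.ag j i j₀) (Finset.mem_univ i₀)
  simp only [C.alpha_corner hj] at h2
  linarith

theorem col_eq (i : RowI W₁ W₂) (j : ColJ W₁ W₂) :
    C.mu.δ (i.1 * j.1) = C.mu.δ j.1 ∧ ∀ x : ↥M, (x : G) ∈ K → C.mu.μ (i.1 * j.1) x = C.mu.μ j.1 x :=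
  C.mu.col _ _ fun w hw => by rw [MonoidHom.mul_apply, i.2 w hw, one_mul]

/-- The difference lemma. -/
theorem delta_eq (i : RowI W₁ W₂) {j j' : ColJ W₁ W₂} (hjj : j ≠ j') (hj : j ≠ j₀) (hj' : j' ≠ j₀)
    (hd : C.deg j.1 = C.deg j'.1) (hz : C.dz j.1 = C.dz j'.1) :
    C.τ (C.mu.μ (i.1 * j.1) - C.mu.μ (i.1 * j'.1)) =
      (C.dz j.1 : ℂ) • (C.η (i.1 * j.1) - C.η (i.1 * j'.1)) := by
  set D : ↥M → ℂ := C.mu.μ (i.1 * j.1) - C.mu.μ (i.1 * j'.1) with hD
  have hg : IsGeneralizedCharacter ↥M D := isGeneralizedCharacter_sub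
    (isGeneralizedCharacter_of_isCharacter (isCharacter_of_isIrrCharacter (C.mu.irr _)))
    (isGeneralizedCharacter_of_isCharacter (isCharacter_of_isIrrCharacter (C.mu.irr _)))
  have hδ : C.mu.δ j.1 = C.mu.δ j'.1 := by rw [← C.dz_cast, ← C.dz_cast, hz]
  have hS : C.Sup D := by
    refine ⟨hg, C.vanish_off (isClassFunction_of_isGeneralizedCharacter hg) ?_ fun w hw hw1 => ?_⟩
    · have e1 := (C.col_eq i j).2 1 K.one_mem
      have e2 := (C.col_eq i j').2 1 K.one_mem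
      simp only [hD, Pi.sub_apply]
      rw [e1, e2, C.mu_one_apply, C.mu_one_apply, hd, sub_self]
    · have hw2 := C.base.W₁_not_W₂ hw (fun e => hw1 (Subtype.ext e))
      have e1 := C.mu.val (i.1 * j.1) ⟨w, Subgroup.mem_sup_left hw⟩ hw2
      have e2 := C.mu.val (i.1 * j'.1) ⟨w, Subgroup.mem_sup_left hw⟩ hw2
      simp only [MonoidHom.mul_apply, j.2 ⟨(w : G), Subgroup.mem_sup_left hw⟩ hw,
        j'.2 ⟨(w : G), Subgroup.mem_sup_left hw⟩ hw, mul_one, (C.col_eq i j).1, (C.col_eq i j').1] at e1 e2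
      simp only [hD, Pi.sub_apply]
      rw [show C.mu.μ (i.1 * j.1) w = _ from e1, show C.mu.μ (i.1 * j'.1) w = _ from e2, hδ, sub_self]
  have hne : i.1 * j.1 ≠ i.1 * j'.1 := fun e => hjj (C.hom_inj.1 e).2
  have hθ := C.tau_gen hS
  have hN : Cfsg.classInner (C.τ D) (C.τ D) = ((2 : ℤ) : ℂ) := by
    rw [C.tau_inner_sup hS hS]
    have hne' : C.mu.μ (i.1 * j.1) ≠ C.mu.μ (i.1 * j'.1) := fun e => hne (C.mu.inj e)
    simp only [hD, classInner_sub_left, classInner_sub_right, classInner_irr_self (C.mu.irr _),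
      classInner_irr_ne (C.mu.irr _) (C.mu.irr _) hne', classInner_irr_ne (C.mu.irr _) (C.mu.irr _) hne'.symm]
    norm_num
  set d : G → ℂ := (C.dz j.1 : ℂ) • (C.η (i.1 * j.1) - C.η (i.1 * j'.1)) with hdd
  have hdg : IsGeneralizedCharacter G d :=
    isGeneralizedCharacter_zsmul (isGeneralizedCharacter_sub (C.eta_gen _) (C.eta_gen _)) _
  have hdc : ∀ x y, C.cell d x y = C.dz j.1 * E i j x y - C.dz j.1 * E i j' x y := fun x y => by
    rw [hdd, C.cell_smul _ (isGeneralizedCharacter_sub (C.eta_gen _) (C.eta_gen _)),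
      C.cell_sub (C.eta_gen _) (C.eta_gen _), C.cell_eta, C.cell_eta]
    ring
  have hb : ∀ x y, C.cell (C.τ D - d) x y = C.cell (C.τ D) x y - (C.dz j.1 * E i j x y - C.dz j.1 * E i j' x y) :=
    fun x y => by rw [C.cell_sub hθ hdg, hdc]
  have hrect : Rect i₀ j₀ (C.cell (C.τ D - d)) := by
    refine C.cell_rect (isGeneralizedCharacter_sub hθ hdg) fun w hw => ?_
    rw [Pi.sub_apply, C.tau_on_V (isClassFunction_of_isGeneralizedCharacter hg) hw]
    simp only [hdd, Pi.sub_apply, Pi.smul_apply, smul_eq_mul, C.eta_V _ hw, hD, C.mu.val _ w hw.2,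
      (C.col_eq i j).1, (C.col_eq i j').1, ← hδ, C.dz_cast]
    ring
  have h00 : C.cell (C.τ D - d) i₀ j₀ = 0 := by
    have e0 : C.cell (C.τ D) i₀ j₀ = 0 := C.cell_corner hθ (by
      rw [C.tau_inner_one (isClassFunction_of_isGeneralizedCharacter hg) hS.2]
      have n1 : ∀ l : ColJ W₁ W₂, l ≠ j₀ → C.mu.μ (i.1 * l.1) ≠ fun _ => 1 := fun l hl e => hl
        (C.hom_inj (i' := i₀) (j' := j₀) |>.1 ((C.mu.inj (e.trans C.mu.one_eq.1.symm)).trans
          (hom_mul_one _).symm)).2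
      simp only [hD, classInner_sub_left, classInner_irr_ne (C.mu.irr _) isIrrCharacter_one (n1 j hj),
        classInner_irr_ne (C.mu.irr _) isIrrCharacter_one (n1 j' hj'), sub_self, Int.cast_zero])
    rw [hb, e0, E_ne_right hj.symm, E_ne_right hj'.symm]; ring
  have hle := C.grid_le hθ hN
  have hz0 := delta_grid C.three_row C.three_col hrect h00 (C.dz_cases j.1) i hjj hj hj' (by
    refine le_trans (le_of_eq ?_) hle
    refine Finset.sum_congr rfl fun x _ => Finset.sum_congr rfl fun y _ => ?_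
    rw [hb]; ring)
  have hcell : ∀ x y, C.cell (C.τ D) x y = C.cell d x y := fun x y => by
    have := hz0 x y; rw [hb] at this; rw [hdc]; linarith
  have hsum2 : ∑ x, ∑ y, C.cell d x y ^ 2 = 2 := by
    simp only [hdc]
    rw [Finset.sum_eq_single i (fun x _ hx => by simp [E_ne_left hx]) (fun h' => absurd (Finset.mem_univ _) h')]
    rw [← Finset.sum_subset (Finset.subset_univ ({j, j'} : Finset (ColJ W₁ W₂))) (fun x _ hx => by
      simp only [Finset.mem_insert, Finset.mem_singleton, not_or] at hx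
      simp [E_ne_right hx.1, E_ne_right hx.2]), Finset.sum_pair hjj, E_self, E_self, E_ne_right hjj,
      E_ne_right hjj.symm]
    rcases C.dz_cases j.1 with e | e <;> rw [e] <;> norm_num
  have hemp : C.IsFam ∅ C.f1 := ⟨by simp, by simp, by simp, by simp, by simp⟩
  have hd2 : Cfsg.classInner d d = ((2 : ℤ) : ℂ) := by
    simp only [hdd, classInner_smul_left, classInner_smul_right, classInner_sub_left, classInner_sub_right,
      C.eta_orth, map_intCast, hne, Ne.symm hne, if_false, if_true]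
    rcases C.dz_cases j.1 with e | e <;> rw [e] <;> norm_num
  have x1 := (C.budget hemp hθ hN).2 (by simp only [Finset.sum_empty, zero_add, hcell, hsum2])
  have x2 := (C.budget hemp hdg hd2).2 (by simp only [Finset.sum_empty, zero_add, hsum2])
  rw [Finset.sum_empty, zero_add] at x1 x2
  simp only [hcell] at x1
  rw [x1, ← x2]

/-- The inverse column. -/
noncomputable def jinv (_C : Core M K W₁ W₂ R) (j : ColJ W₁ W₂) : ColJ W₁ W₂ :=
  ⟨j.1⁻¹, fun w hw => by simp [j.2 w hw]⟩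

/-- The inverse row. -/
noncomputable def iinv (_C : Core M K W₁ W₂ R) (i : RowI W₁ W₂) : RowI W₁ W₂ :=
  ⟨i.1⁻¹, fun w hw => by simp [i.2 w hw]⟩

theorem eq_one_of_inv {ω : ↥(W₁ ⊔ W₂) →* ℂˣ} (h : ω⁻¹ = ω) : ω = 1 := by
  refine MonoidHom.ext fun w => ?_
  have h1 : ω w ^ 2 = 1 := by
    have := DFunLike.congr_fun h w
    rw [MonoidHom.inv_apply] at this
    rw [pow_two]
    nth_rw 1 [← this]
    exact inv_mul_cancel _
  have h2 : ω w ^ Nat.card ↥(W₁ ⊔ W₂) = 1 := by rw [← map_pow, pow_card_eq_one', map_one]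
  obtain ⟨r, hr⟩ := C.oddW
  rw [hr, pow_succ, pow_mul, h1, one_pow, one_mul] at h2
  exact h2

theorem jinv_facts {j : ColJ W₁ W₂} (hj : j ≠ j₀) :
    C.jinv j ≠ j ∧ C.jinv j ≠ j₀ ∧ C.deg (C.jinv j).1 = C.deg j.1 ∧ C.dz (C.jinv j).1 = C.dz j.1 ∧
      C.nn (C.jinv j).1 = C.nn j.1 := by
  obtain ⟨e1, e2⟩ := C.mu.conj_eq j.1
  have hd : C.dz (C.jinv j).1 = C.dz j.1 := by simp only [dz, jinv, e2]
  have hdeg : C.deg (C.jinv j).1 = C.deg j.1 := by
    have := congrFun e1 1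
    rw [C.mu_one_apply j.1, map_intCast] at this
    exact_mod_cast (C.mu_one_apply (C.jinv j).1).symm.trans this
  refine ⟨fun e => hj (Subtype.ext (C.eq_one_of_inv (congrArg Subtype.val e))), fun e => hj (Subtype.ext ?_),
    hdeg, hd, ?_⟩
  · exact MonoidHom.ext fun w => inv_eq_one.1 (DFunLike.congr_fun (congrArg Subtype.val e) w)
  · have h := hdeg
    rw [deg, deg, hd] at h
    have hq : (Nat.card W₁ : ℤ) ≠ 0 := by exact_mod_cast Nat.card_pos.ne'
    exact mul_right_cancel₀ hq (add_left_cancel h)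

theorem r_symm {j : ColJ W₁ W₂} (hj : j ≠ j₀) (i : RowI W₁ W₂) :
    C.ag j (C.iinv i) j₀ = C.ag j i j₀ := by
  obtain ⟨hne, hne0, hdeg, hd, hn⟩ := C.jinv_facts hj
  have h0 := C.z0_mem
  have e1 : C.alp (C.jinv j) (Cfsg.conjFun C.z0) = Cfsg.conjFun (C.alp j C.z0) := by
    funext x
    have := congrFun (C.mu.conj_eq j.1).1 x
    simp only [alp, Cfsg.conjFun, Pi.sub_apply, Pi.smul_apply, smul_eq_mul, map_sub, map_mul, map_intCast,
      map_one, hd, hn]
    rw [show C.mu.μ (C.jinv j).1 x = _ from this]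
  have e2 : C.ag (C.jinv j) (C.iinv i) j₀ = C.ag j i j₀ := by
    rw [← C.alpha_cell (j := C.jinv j) (C.Z1_conj h0).1, e1, C.tau_conj]
    exact C.cell_conj (C.tau_gen (C.sup_alp h0)) i j₀ (C.iinv i) j₀ rfl (MonoidHom.ext fun w => by simp [j₀])
  have e3 : C.alp (C.jinv j) C.z0 - C.alp j C.z0 =
      C.mu.μ ((i₀ : RowI W₁ W₂).1 * (C.jinv j).1) - C.mu.μ ((i₀ : RowI W₁ W₂).1 * j.1) := by
    rw [show (i₀ : RowI W₁ W₂).1 * (C.jinv j).1 = (C.jinv j).1 from hom_one_mul _,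
      show (i₀ : RowI W₁ W₂).1 * j.1 = j.1 from hom_one_mul _]
    simp only [alp, hd, hn]
    abel
  have e4 := congrArg C.τ e3
  rw [C.tau_sub, C.delta_eq i₀ hne hne0 hj hdeg hd] at e4
  have e5 := congrFun (congrFun (congrArg (C.cell) e4) (C.iinv i)) j₀
  rw [C.cell_sub (C.tau_gen (C.sup_alp h0)) (C.tau_gen (C.sup_alp h0)),
    C.cell_smul _ (isGeneralizedCharacter_sub (C.eta_gen _) (C.eta_gen _)),
    C.cell_sub (C.eta_gen _) (C.eta_gen _), C.cell_eta, C.cell_eta, E_ne_right (Ne.symm hne0),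
    E_ne_right (Ne.symm hj), sub_zero, mul_zero, sub_eq_zero] at e5
  change C.ag (C.jinv j) (C.iinv i) j₀ = C.ag j (C.iinv i) j₀ at e5
  rw [← e5, e2]

theorem s_even (hG : C.GExact) {j : ColJ W₁ W₂} (hj : j ≠ j₀) : Even (C.sv j) := by
  rw [← C.sum_r hG hj, ← ZMod.intCast_eq_zero_iff_even, Int.cast_sum]
  refine Finset.sum_involution (fun i _ => C.iinv i) (fun i _ => ?_) (fun i hi _ e => ?_) (fun i hi => ?_)
    (fun i _ => Subtype.ext (MonoidHom.ext fun w => inv_inv _))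
  · rw [C.r_symm hj]
    exact CharTwo.add_self_eq_zero _
  · exact (Finset.mem_erase.1 hi).1 (Subtype.ext (C.eq_one_of_inv (congrArg Subtype.val e)))
  · refine Finset.mem_erase.2 ⟨fun e => (Finset.mem_erase.1 hi).1 (Subtype.ext ?_), Finset.mem_univ _⟩
    exact MonoidHom.ext fun w => inv_eq_one.1 (DFunLike.congr_fun (congrArg Subtype.val e) w)

theorem s_zero_of_grid {j : ColJ W₁ W₂} (hj : j ≠ j₀) (hgr : ∑ i, ∑ j', C.ag j i j' ^ 2 ≤ 2)
    (hs : C.sv j * (C.Z1.card * C.sv j - 2 * C.nn j.1) = 0) (hev : Even (C.sv j)) : C.sv j = 0 := by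
  rw [← C.sum_r (C.gamma_of_grid hj hgr hs hev) hj]
  refine Finset.sum_eq_zero fun i hi => ?_
  rw [(C.alpha_cells hj hgr).1, E_ne_left (Finset.mem_erase.1 hi).1, E_ne_left (Finset.mem_erase.1 hi).1]
  ring

/-- When `n ≤ m`, exactness of `τ γ` forces `s = 0`. -/
theorem s_zero_of_le (hG : C.GExact) {j : ColJ W₁ W₂} (hj : j ≠ j₀) (hm : C.nn j.1 ≤ C.Z1.card) :
    C.sv j = 0 := by
  have h1 := C.alpha_budget hj
  have h2 := C.alpha_grid_pos hj
  have hn := C.nn_ge_two hj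
  obtain ⟨r, hr⟩ := C.s_even hG hj
  by_contra hs
  rcases lt_trichotomy r 0 with h | h | h
  · have h4 : (C.Z1.card : ℤ) * C.sv j - 2 * C.nn j.1 ≤ -2 := by nlinarith
    nlinarith
  · omega
  · by_cases h1r : r = 1
    · have hs2 : C.sv j = 2 := by omega
      have hsum : (2 : ℤ) ≤ ∑ i ∈ Finset.univ.erase i₀, C.ag j i j₀ ^ 2 := by
        calc (2 : ℤ) = ∑ i ∈ Finset.univ.erase i₀, C.ag j i j₀ := by rw [C.sum_r hG hj, hs2]
          _ ≤ _ := Finset.sum_le_sum fun i _ => Int.le_self_sq _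
      have h3 : (1 : ℤ) + ∑ i ∈ Finset.univ.erase i₀, C.ag j i j₀ ^ 2 ≤ ∑ i, ∑ j', C.ag j i j' ^ 2 := by
        rw [← Finset.add_sum_erase Finset.univ (fun i => ∑ j', C.ag j i j' ^ 2) (Finset.mem_univ i₀)]
        refine add_le_add ?_ (Finset.sum_le_sum fun i _ => one_le_sum (f := C.ag j i) j₀)
        refine le_trans ?_ (one_le_sum (f := C.ag j i₀) j₀)
        rw [C.alpha_corner hj]
        rcases C.dz_cases j.1 with e | e <;> rw [e] <;> norm_num
      rw [hs2] at h1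
      nlinarith
    · have h3 : (4 : ℤ) ≤ C.sv j := by omega
      have h4 : (2 : ℤ) ≤ C.Z1.card * C.sv j - 2 * C.nn j.1 := by nlinarith
      nlinarith

end Core

end Cfsg.Agent.FTPMu78
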