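import Mathlib
import Cfsg.Agent.S1545
import Cfsg.Agent.Lib.OddCharGroup
import Cfsg.Agent.Lib.FrobeniusBasic
import Cfsg.Agent.Lib.BGTypeBasic

/-!
An abelian group `V`, normalised by a group `E` of prime order, acting on a solvable group `H` with cyclic `C_H(E)`
and with a large fixed-point-free subgroup: few elements of `V` have fixed points.
-/

set_option autoImplicit false
set_option linter.unusedSectionVars false
set_option maxHeartbeats 800000

open scoped commutatorElement Pointwise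

namespace Cfsg.Agent.FTPLayer78

attribute [local instance] Classical.propDecidable

variable {G : Type*} [Group G] [Finite G]

/-- An abelian group all of whose `Ω₁` have rank at most two has order at most the square of its exponent. -/
theorem card_le_exponent_sq {A : Type*} [CommGroup A] [Finite A]
    (h : ∀ s : ℕ, s.Prime → Nat.card (powMonoidHom s : A →* A).ker ≤ s ^ 2) :
    Nat.card A ≤ Monoid.exponent A ^ 2 := by
  suffices H : ∀ n : ℕ, 0 < n → ∀ B : Subgroup A, (∀ b ∈ B, b ^ n = 1) → Nat.card B ≤ n ^ 2 by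
    have := H _ (Nat.pos_of_ne_zero Monoid.exponent_ne_zero_of_finite) ⊤
      fun b _ => Monoid.pow_exponent_eq_one b
    rwa [Subgroup.card_top] at this
  intro n
  induction n using Nat.strong_induction_on with
  | _ n ih =>
    intro hn B hB
    by_cases h1 : n = 1
    · subst h1
      rw [show B = ⊥ from (Subgroup.eq_bot_iff_forall _).2 fun b hb => by simpa using hB b hb,
        Subgroup.card_bot, one_pow]
    obtain ⟨s, hs, m, rfl⟩ := Nat.exists_prime_and_dvd h1
    have hm : 0 < m := Nat.pos_of_ne_zero fun e => by subst e; simp at hn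
    set C := B.map (powMonoidHom s) with hC
    have hC' : Nat.card C ≤ m ^ 2 := by
      refine ih m (by nlinarith [hs.two_le]) hm C ?_
      rintro _ ⟨b, hb, rfl⟩
      rw [powMonoidHom_apply, ← pow_mul]
      exact hB b hb
    have hsplit : Nat.card B ≤ Nat.card (powMonoidHom s : A →* A).ker * Nat.card C := by
      set g := (powMonoidHom s : A →* A).subgroupMap B with hg
      rw [← g.ker.card_mul_index, Subgroup.index_ker, MonoidHom.range_eq_top.2
        (MonoidHom.subgroupMap_surjective _ _), Subgroup.card_top]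
      refine Nat.mul_le_mul_right _ (Nat.card_le_card_of_injective
        (fun b : g.ker => (⟨((b : B) : A), ?_⟩ : (powMonoidHom s : A →* A).ker)) ?_)
      · have := congrArg Subtype.val (MonoidHom.mem_ker.1 b.2)
        simpa [hg] using this
      · intro a b e
        have h' := congrArg Subtype.val e
        exact Subtype.ext (Subtype.ext h')
    calc Nat.card B ≤ s ^ 2 * m ^ 2 := hsplit.trans (Nat.mul_le_mul (h s hs) hC')
      _ = (s * m) ^ 2 := by ring

theorem relIndex_sup_of_le_normalizer {A B : Subgroup G} (h : B ≤ Subgroup.normalizer (A : Set G)) :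
    A.relIndex (B ⊔ A) = A.relIndex B := by
  haveI : (A.subgroupOf (B ⊔ A)).Normal :=
    Subgroup.normal_subgroupOf_of_le_normalizer (sup_le h Subgroup.le_normalizer)
  have h1 : B.subgroupOf (B ⊔ A) ⊔ A.subgroupOf (B ⊔ A) = ⊤ := by
    rw [← Subgroup.subgroupOf_sup le_sup_left le_sup_right, Subgroup.subgroupOf_self]
  have h2 := Subgroup.relIndex_sup_right (B.subgroupOf (B ⊔ A)) (A.subgroupOf (B ⊔ A))
  rw [h1, Subgroup.relIndex_top_right, Subgroup.relIndex_subgroupOf le_sup_left] at h2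
  exact h2

/-- The configuration. -/
structure Layer (H V U₀ E : Subgroup G) : Prop where
  solv : Group.IsSolvable H
  cop : (Nat.card H).Coprime (Nat.card ↥(V ⊔ E))
  Vab : ∀ u ∈ V, ∀ u' ∈ V, u * u' = u' * u
  En : ∀ w ∈ E, ∀ u ∈ V, w * u * w⁻¹ ∈ V
  fpfE : ∀ w ∈ E, w ≠ 1 → ∀ u ∈ V, w * u = u * w → u = 1
  U₀le : U₀ ≤ V
  U₀ne : U₀ ≠ ⊥
  fpf : ∀ u ∈ U₀, u ≠ 1 → ∀ x ∈ H, u * x = x * u → x = 1
  cyc : IsCyclic ↥(H ⊓ Subgroup.centralizer (E : Set G))
  prime : (Nat.card E).Prime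
  odd : Odd (Nat.card G)

/-- The elements of `V` with a fixed point other than `1` on `N`. -/
noncomputable def bad [Fintype G] (V N : Subgroup G) : Finset G :=
  Finset.univ.filter fun u => u ∈ V ∧ ∃ x ∈ N, x ≠ 1 ∧ u * x = x * u

namespace Layer

variable {H V U₀ E : Subgroup G} (L : Layer H V U₀ E)
include L

theorem V_ne : V ≠ ⊥ := fun e => L.U₀ne (le_bot_iff.1 (e ▸ L.U₀le))

theorem E_ne : E ≠ ⊥ := fun e => L.prime.ne_one (by rw [e, Subgroup.card_bot])

theorem VE_inf : V ⊓ E = ⊥ := by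
  rw [Subgroup.eq_bot_iff_forall]
  intro w hw
  by_contra hw1
  exact hw1 (L.fpfE w hw.2 hw1 w hw.1 rfl)

theorem cent_V {N : Subgroup G} (hN : N ≤ H) : N ⊓ Subgroup.centralizer (V : Set G) = ⊥ := by
  rw [Subgroup.eq_bot_iff_forall]
  intro x hx
  obtain ⟨u, hu, hu1⟩ := U₀.bot_or_exists_ne_one.resolve_left L.U₀ne
  exact L.fpf u hu hu1 x (hN hx.1) (Subgroup.mem_centralizer_iff.1 hx.2 u (L.U₀le hu))

/-- Invariant subgroups are determined in order by the centraliser of `E`. -/
theorem card_eq {N : Subgroup G} (hN : N ≤ H) (hn : ∀ x ∈ V ⊔ E, ∀ h ∈ N, x * h * x⁻¹ ∈ N) :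
    Nat.card N = Nat.card ↥(N ⊓ Subgroup.centralizer (E : Set G)) ^ Nat.card E := by
  haveI := L.solv
  have hsol : Group.IsSolvable N := Group.isSolvable_of_isSolvable_injective (Subgroup.inclusion_injective hN)
  have hcop : (Nat.card N).Coprime (Nat.card ↥(V ⊔ E)) := L.cop.coprime_dvd_left (Subgroup.card_dvd_of_le hN)
  have h1 : N ⊓ Subgroup.centralizer ((V ⊔ E : Subgroup G) : Set G) = ⊥ := by
    rw [eq_bot_iff, ← L.cent_V hN]
    exact inf_le_inf_left _ (Subgroup.centralizer_le (SetLike.coe_subset_coe.2 le_sup_left))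
  have h := S1545.result V E N L.V_ne L.E_ne L.VE_inf L.En L.fpfE hn
    (Subgroup.inf_eq_bot_of_coprime hcop) hsol hcop
  rw [h1, L.cent_V hN, Subgroup.card_bot, one_pow, one_mul, mul_one] at h
  exact h

/-- A coset fixed by an element of `U₀` is trivial. -/
theorem fix_coset {N' : Subgroup G} (hN' : N' ≤ H) (hn : ∀ x ∈ V ⊔ E, ∀ h ∈ N', x * h * x⁻¹ ∈ N')
    {u : G} (hu : u ∈ U₀) (hu1 : u ≠ 1) {x : G} (hx : x ∈ H) (h : u * x * u⁻¹ * x⁻¹ ∈ N') : x ∈ N' := by
  have huVE : u ∈ V ⊔ E := Subgroup.mem_sup_left (L.U₀le hu)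
  have hnorm : u ∈ Subgroup.normalizer (N' : Set G) := Subgroup.mem_normalizer_iff.2 fun z =>
    ⟨hn u huVE z, fun hz => by simpa [mul_assoc] using hn u⁻¹ (inv_mem huVE) _ hz⟩
  have hcop : (orderOf u).Coprime (Nat.card N') :=
    ((L.cop.coprime_dvd_left (Subgroup.card_dvd_of_le hN')).coprime_dvd_right
      (Subgroup.orderOf_dvd_natCard _ huVE)).symm
  have h' : x * u * x⁻¹ * u⁻¹ ∈ N' := by
    have := N'.inv_mem h
    simpa [mul_assoc] using this
  obtain ⟨z, hz, c, hc, hcu, e⟩ := OddCharGroup.coset_conj N' u hnorm hcop _ h'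
  have hc1 : c = 1 := L.fpf u hu hu1 c (hN' hc) hcu.symm
  have e' : z * x * u * (z * x)⁻¹ = u := by
    have : z * (x * u * x⁻¹ * u⁻¹ * u) * z⁻¹ = u := by rw [e, hc1, one_mul]
    calc z * x * u * (z * x)⁻¹ = z * (x * u * x⁻¹ * u⁻¹ * u) * z⁻¹ := by group
      _ = u := this
  have h2 := L.fpf u hu hu1 (z * x) (H.mul_mem (hN' hz) hx) (mul_inv_eq_iff_eq_mul.1 e').symm
  rw [eq_inv_of_mul_eq_one_right h2]
  exact N'.inv_mem hz

/-- An `U₀`-invariant layer of prime order `r` makes `2|U₀| < r`. -/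
theorem line {N' F : Subgroup G} (hN'F : N' ≤ F) (hFH : F ≤ H) (hn : ∀ x ∈ V ⊔ E, ∀ h ∈ N', x * h * x⁻¹ ∈ N')
    (hFn : ∀ x ∈ F, ∀ h ∈ N', x * h * x⁻¹ ∈ N') (hFV : ∀ x ∈ V, ∀ h ∈ F, x * h * x⁻¹ ∈ F) {r : ℕ}
    (hr : r.Prime) (hr2 : r ≠ 2) (hidx : N'.relIndex F = r) : 2 * Nat.card U₀ < r := by
  haveI hnorm : (N'.subgroupOf F).Normal := ⟨fun h hh x => hFn x x.2 h hh⟩
  let act : U₀ → ↥F ⧸ N'.subgroupOf F → ↥F ⧸ N'.subgroupOf F := fun u z =>
    QuotientGroup.mk' (N'.subgroupOf F) ⟨(u : G) * (z.out : G) * (u : G)⁻¹, hFV _ (L.U₀le u.2) _ z.out.2⟩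
  have key : ∀ (u : U₀) (x : ↥F), act u (QuotientGroup.mk x) =
      QuotientGroup.mk' (N'.subgroupOf F) ⟨(u : G) * (x : G) * (u : G)⁻¹, hFV _ (L.U₀le u.2) _ x.2⟩ := by
    intro u x
    refine QuotientGroup.eq.2 (Subgroup.mem_subgroupOf.2 ?_)
    have h1 := QuotientGroup.eq.1 (QuotientGroup.out_eq' (QuotientGroup.mk x : ↥F ⧸ N'.subgroupOf F))
    rw [Subgroup.mem_subgroupOf] at h1
    have h2 := hn u (Subgroup.mem_sup_left (L.U₀le u.2)) _ h1
    simpa [mul_assoc] using h2
  let _ : MulAction U₀ {z : ↥F ⧸ N'.subgroupOf F // z ≠ 1} :=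
    { smul := fun u z => ⟨act u z.1, fun e => z.2 (by
        obtain ⟨x, hx⟩ := QuotientGroup.mk_surjective z.1
        rw [← hx, key] at e
        rw [← hx, QuotientGroup.eq_one_iff, Subgroup.mem_subgroupOf]
        have h2 := hn (u : G)⁻¹ (inv_mem (Subgroup.mem_sup_left (L.U₀le u.2))) _
          (Subgroup.mem_subgroupOf.1 ((QuotientGroup.eq_one_iff _).1 e))
        simpa [mul_assoc] using h2)⟩
      one_smul := fun z => Subtype.ext (by
        obtain ⟨x, hx⟩ := QuotientGroup.mk_surjective z.1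
        show act 1 z.1 = z.1
        rw [← hx, key, QuotientGroup.mk'_apply]; congr 1; exact Subtype.ext (by simp))
      mul_smul := fun u u' z => Subtype.ext (by
        obtain ⟨x, hx⟩ := QuotientGroup.mk_surjective z.1
        show act (u * u') z.1 = act u (act u' z.1)
        rw [← hx, key, key, QuotientGroup.mk'_apply, QuotientGroup.mk'_apply, key, QuotientGroup.mk'_apply]
        congr 1; exact Subtype.ext (by simp [mul_assoc])) }
  have hdvd := Cfsg.Agent.FrobeniusBasic.card_dvd_of_free (M := U₀)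
    (α := {z : ↥F ⧸ N'.subgroupOf F // z ≠ 1}) (fun u z e => by
      by_contra hu
      obtain ⟨x, hx⟩ := QuotientGroup.mk_surjective z.1
      have e1 : act u z.1 = z.1 := congrArg Subtype.val e
      rw [← hx, key, QuotientGroup.mk'_apply] at e1
      have e2 := QuotientGroup.eq_iff_div_mem.1 e1
      rw [Subgroup.mem_subgroupOf] at e2
      refine z.2 ?_
      rw [← hx, QuotientGroup.eq_one_iff, Subgroup.mem_subgroupOf]
      exact L.fix_coset (hN'F.trans hFH) hn u.2 (fun h => hu (Subtype.ext h)) (hFH x.2)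
        (by simpa [div_eq_mul_inv] using e2))
  have hc : Nat.card {z : ↥F ⧸ N'.subgroupOf F // z ≠ 1} = r - 1 := by
    haveI := Fintype.ofFinite (↥F ⧸ N'.subgroupOf F)
    rw [Nat.card_eq_fintype_card, Fintype.card_subtype_compl, Fintype.card_subtype_eq,
      ← Nat.card_eq_fintype_card, ← Subgroup.index_eq_card]
    rw [← hidx]; rfl
  rw [hc] at hdvd
  obtain ⟨a, ha⟩ := hr.odd_of_ne_two hr2
  obtain ⟨k, hk⟩ := hdvd
  have hodd : Odd (Nat.card U₀) := L.odd.of_dvd_nat (Subgroup.card_subgroup_dvd_card U₀)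
  have hk2 : 2 ∣ k := (Nat.coprime_two_left.2 hodd).dvd_of_dvd_mul_left ⟨a, by omega⟩
  obtain ⟨l, rfl⟩ := hk2
  have hl : 0 < l := Nat.pos_of_ne_zero fun e => by
    subst e; simp only [mul_zero] at hk; have := hr.two_le; omega
  have : 2 * Nat.card U₀ ≤ Nat.card U₀ * (2 * l) := by
    rw [mul_comm 2 (Nat.card U₀)]; exact Nat.mul_le_mul_left _ (by omega)
  omega

/-- Few elements of `V` have fixed points on an invariant subgroup. -/
theorem bad_bound [Fintype G]
    (hsm : ∀ r : ℕ, r.Prime → r ∣ Nat.card ↥(H ⊓ Subgroup.centralizer (E : Set G)) → r ≤ 2 * Nat.card U₀) :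
    ∀ N : Subgroup G, N ≤ H → (∀ x ∈ V ⊔ E, ∀ h ∈ N, x * h * x⁻¹ ∈ N) →
    ∃ t : ℕ, 3 ^ t ≤ Nat.card ↥(N ⊓ Subgroup.centralizer (E : Set G)) ∧
      (bad V N).card * Nat.card U₀ ≤ t * Nat.card V := by
  intro N
  induction N using WellFoundedLT.induction with
  | _ N ih =>
  intro hN hn
  by_cases hbot : N = ⊥
  · refine ⟨0, by rw [pow_zero]; exact Nat.card_pos, ?_⟩
    have : bad V N = ∅ := Finset.filter_eq_empty_iff.2 fun u _ h => by
      obtain ⟨-, x, hx, hx1, -⟩ := h
      exact hx1 (by rwa [hbot, Subgroup.mem_bot] at hx)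
    simp [this]
  haveI := L.solv
  haveI : Group.IsSolvable N := Group.isSolvable_of_isSolvable_injective (Subgroup.inclusion_injective hN)
  haveI : Nontrivial N := (Subgroup.nontrivial_iff_ne_bot N).2 hbot
  have hlt := Group.IsSolvable.commutator_lt_top_of_nontrivial (G := N)
  have hQ : Nat.card (Abelianization N) ≠ 1 := by
    show (commutator N).index ≠ 1
    exact fun e => hlt.ne (Subgroup.index_eq_one.1 e)
  obtain ⟨r, hr, hrQ⟩ := Nat.exists_prime_and_dvd hQ
  haveI := Fact.mk hr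
  have hr2 : r ≠ 2 := fun e => by
    subst e
    have h1 : Nat.card (Abelianization N) ∣ Nat.card G :=
      (Subgroup.index_dvd_card _).trans (Subgroup.card_subgroup_dvd_card N)
    exact Nat.not_even_iff_odd.2 L.odd (even_iff_two_dvd.2 (hrQ.trans h1))
  set N' := Subgroup.closure ((↑⁅N, N⁆ : Set G) ∪ (fun x => x ^ r) '' (N : Set G)) with hN'def
  have hcomm : ∀ a ∈ N, ∀ b ∈ N, a * b * a⁻¹ * b⁻¹ ∈ N' := fun a ha b hb =>
    Subgroup.subset_closure (Or.inl (Subgroup.commutator_mem_commutator ha hb))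
  have hpow : ∀ a ∈ N, a ^ r ∈ N' := fun a ha => Subgroup.subset_closure (Or.inr ⟨a, ha, rfl⟩)
  have hN'N : N' ≤ N := by
    rw [hN'def, Subgroup.closure_le]
    rintro y (hy | ⟨a, ha, rfl⟩)
    exacts [Subgroup.commutator_le_self N hy, N.pow_mem ha r]
  have hproper : N' ≠ N := by
    intro e
    set S : Subgroup N := (powMonoidHom r : Abelianization N →* Abelianization N).range.comap
      (Abelianization.of (G := N)) with hS
    have h1 : N' ≤ S.map N.subtype := by
      rw [hN'def, Subgroup.closure_le]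
      rintro y (hy | ⟨a, ha, rfl⟩)
      · rw [← Subgroup.map_subtype_commutator] at hy
        obtain ⟨c, hc, rfl⟩ := hy
        refine ⟨c, ?_, rfl⟩
        show Abelianization.of c ∈ (powMonoidHom r : Abelianization N →* Abelianization N).range
        rw [show Abelianization.of c = 1 from (QuotientGroup.eq_one_iff c).2 hc]
        exact one_mem _
      · exact ⟨⟨a, ha⟩ ^ r, ⟨Abelianization.of (G := N) ⟨a, ha⟩, (map_pow Abelianization.of _ r).symm⟩, rfl⟩
    obtain ⟨z, hz⟩ := exists_prime_orderOf_dvd_card' (G := Abelianization N) r hrQ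
    have hsurj : Function.Surjective (powMonoidHom r : Abelianization N →* Abelianization N) := by
      intro a
      obtain ⟨b, rfl⟩ : ∃ b, Abelianization.of b = a := QuotientGroup.mk_surjective a
      obtain ⟨b', hb', hbb⟩ := h1 (e.symm ▸ b.2 : (b : G) ∈ N')
      rw [Subgroup.coe_subtype] at hbb
      rw [← Subtype.ext hbb]
      exact hb'
    have hinj := Finite.injective_iff_surjective.2 hsurj
    have : z = 1 := hinj (by simp [← hz, pow_orderOf_eq_one])
    rw [this, orderOf_one] at hz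
    exact hr.ne_one hz.symm
  have hn' : ∀ x ∈ V ⊔ E, ∀ h ∈ N', x * h * x⁻¹ ∈ N' := by
    intro x hx h hh
    have : N' ≤ N'.comap (MulAut.conj x).toMonoidHom := by
      conv_lhs => rw [hN'def]
      rw [Subgroup.closure_le]
      rintro y (hy | ⟨a, ha, rfl⟩)
      · refine Subgroup.subset_closure (Or.inl ?_)
        have hle : N.map (MulAut.conj x).toMonoidHom ≤ N := by
          rintro _ ⟨a, ha, rfl⟩; exact hn x hx a ha
        exact Subgroup.commutator_mono hle hle
          (Subgroup.map_commutator N N (MulAut.conj x).toMonoidHom ▸ Subgroup.mem_map_of_mem _ hy)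
      · show x * a ^ r * x⁻¹ ∈ N'
        rw [← conj_pow]
        exact hpow _ (hn x hx a ha)
    exact this hh
  have hNn' : ∀ x ∈ N, ∀ h ∈ N', x * h * x⁻¹ ∈ N' := fun x hx h hh => by
    have := N'.mul_mem (hcomm x hx h (hN'N hh)) hh
    simpa using this
  have hlt' : N' < N := lt_of_le_of_ne hN'N hproper
  have hN'H : N' ≤ H := hN'N.trans hN
  set cE := Subgroup.centralizer (E : Set G) with hcE
  have hcN := L.card_eq hN hn
  have hcN' := L.card_eq hN'H hn'
  -- the centraliser of `E` grows by a factor `r` at most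
  have hfac : ∀ A : Subgroup G, N' ≤ A → A ≤ N → ((N' ⊓ cE).relIndex (A ⊓ cE) = 1 ∨
      (N' ⊓ cE).relIndex (A ⊓ cE) = r) ∧
      Nat.card ↥(A ⊓ cE) = (N' ⊓ cE).relIndex (A ⊓ cE) * Nat.card ↥(N' ⊓ cE) := by
    intro A hA1 hA2
    refine ⟨(Nat.dvd_prime hr).1 ?_, ?_⟩
    · haveI : IsCyclic ↥(A ⊓ cE) := by
        haveI := L.cyc
        exact isCyclic_of_injective (Subgroup.inclusion (inf_le_inf_right _ (hA2.trans hN)))
          (Subgroup.inclusion_injective _)
      haveI : ((N' ⊓ cE).subgroupOf (A ⊓ cE)).Normal := by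
        letI := IsCyclic.commGroup (α := ↥(A ⊓ cE))
        exact Subgroup.normal_of_comm _
      show ((N' ⊓ cE).subgroupOf (A ⊓ cE)).index ∣ r
      haveI : IsCyclic (↥(A ⊓ cE) ⧸ (N' ⊓ cE).subgroupOf (A ⊓ cE)) :=
        isCyclic_of_surjective (QuotientGroup.mk' _) (QuotientGroup.mk'_surjective _)
      rw [Subgroup.index_eq_card, ← IsCyclic.exponent_eq_card]
      refine Monoid.exponent_dvd_of_forall_pow_eq_one fun z => ?_
      obtain ⟨⟨a, haA, haC⟩, rfl⟩ := QuotientGroup.mk_surjective z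
      rw [← QuotientGroup.mk_pow, QuotientGroup.eq_one_iff, Subgroup.mem_subgroupOf]
      exact ⟨hpow a (hA2 haA), cE.pow_mem haC r⟩
    · have h1 := Subgroup.relIndex_mul_relIndex ⊥ (N' ⊓ cE) (A ⊓ cE) bot_le (inf_le_inf_right _ hA1)
      rw [Subgroup.relIndex_bot_left, Subgroup.relIndex_bot_left] at h1
      rw [← h1, mul_comm]
  obtain ⟨hi, hcard⟩ := hfac N hN'N le_rfl
  have hi' : (N' ⊓ cE).relIndex (N ⊓ cE) = r := by
    refine hi.resolve_left fun e => hproper ?_
    rw [e, one_mul] at hcard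
    exact Subgroup.eq_of_le_of_card_ge hN'N (by rw [hcN, hcN', hcard])
  rw [hi'] at hcard
  have hrH : r ≤ 2 * Nat.card U₀ := hsm r hr ((Dvd.intro _ hcard.symm).trans
    (Subgroup.card_dvd_of_le (inf_le_inf_right _ hN)))
  have hidx : N'.relIndex N = r ^ Nat.card E := by
    have h1 := Subgroup.relIndex_mul_relIndex ⊥ N' N bot_le hN'N
    rw [Subgroup.relIndex_bot_left, Subgroup.relIndex_bot_left, hcN, hcN', hcard, mul_pow, mul_comm (r ^ _)] at h1
    exact Nat.eq_of_mul_eq_mul_left (pow_pos Nat.card_pos _) h1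
  -- the kernel of the layer
  let Kr : Subgroup G :=
    { carrier := {u | u ∈ V ∧ ∀ x ∈ N, u * x * u⁻¹ * x⁻¹ ∈ N'}
      one_mem' := ⟨V.one_mem, fun x _ => by simp⟩
      mul_mem' := by
        rintro a b ⟨ha, ha'⟩ ⟨hb, hb'⟩
        refine ⟨V.mul_mem ha hb, fun x hx => ?_⟩
        have := N'.mul_mem (hn' a (Subgroup.mem_sup_left ha) _ (hb' x hx)) (ha' x hx)
        simpa [mul_assoc] using this
      inv_mem' := by
        rintro a ⟨ha, ha'⟩
        refine ⟨V.inv_mem ha, fun x hx => ?_⟩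
        have h1 := hn a⁻¹ (inv_mem (Subgroup.mem_sup_left ha)) x hx
        have := N'.inv_mem (ha' _ h1)
        simpa [mul_assoc] using this }
  have hKU : Nat.card Kr * Nat.card U₀ ≤ Nat.card V := by
    rw [← Nat.card_prod]
    refine Nat.card_le_card_of_injective
      (fun z : Kr × U₀ => (⟨(z.1 : G) * z.2, V.mul_mem z.1.2.1 (L.U₀le z.2.2)⟩ : V)) ?_
    rintro ⟨a, b⟩ ⟨a', b'⟩ e
    have e' : (a : G) * b = a' * b' := congrArg Subtype.val e
    have h1 : (b : G) * (b' : G)⁻¹ = (a : G)⁻¹ * a' := by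
      rw [eq_inv_mul_iff_mul_eq, ← mul_assoc, e', mul_inv_cancel_right]
    have h2 : (b : G) * (b' : G)⁻¹ = 1 := by
      by_contra hne
      obtain ⟨x, hx, hxN'⟩ := SetLike.exists_of_lt hlt'
      refine hxN' (L.fix_coset hN'H hn' (U₀.mul_mem b.2 (U₀.inv_mem b'.2)) hne (hN hx) ?_)
      rw [h1]
      exact (Kr.mul_mem (Kr.inv_mem a.2) a'.2).2 x hx
    have hb : (b : G) = b' := mul_inv_eq_one.1 h2
    exact Prod.ext (Subtype.ext (mul_right_cancel (hb ▸ e'))) (Subtype.ext hb)
  -- a fixed point on the layer forces membership in the kernel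
  have hirr : ∀ u ∈ V, ∀ x ∈ N, x ∉ N' → u * x * u⁻¹ * x⁻¹ ∈ N' → u ∈ Kr := by
    intro u hu x hx hxN' hfix
    by_contra hnK
    let P : Subgroup G :=
      { carrier := {y | y ∈ N ∧ u * y * u⁻¹ * y⁻¹ ∈ N'}
        one_mem' := ⟨N.one_mem, by simp⟩
        mul_mem' := by
          rintro a b ⟨ha, ha'⟩ ⟨hb, hb'⟩
          refine ⟨N.mul_mem ha hb, ?_⟩
          have h1 := hn u (Subgroup.mem_sup_left hu) a ha
          have := N'.mul_mem (hNn' _ h1 _ hb') ha'
          simpa [mul_assoc] using this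
        inv_mem' := by
          rintro a ⟨ha, ha'⟩
          refine ⟨N.inv_mem ha, ?_⟩
          have := hNn' a⁻¹ (N.inv_mem ha) _ (N'.inv_mem ha')
          have e : u * a⁻¹ * u⁻¹ * a⁻¹⁻¹ = (u * a⁻¹ * u⁻¹ * a) := by rw [inv_inv]
          rw [e]
          have h1 := hn u (Subgroup.mem_sup_left hu) a⁻¹ (N.inv_mem ha)
          have h2 := hNn' _ h1 _ (N'.inv_mem ha')
          simpa [mul_assoc] using h2 }
    have hPN' : N' < P := lt_of_le_of_ne
      (fun y hy => ⟨hN'N hy, N'.mul_mem (hn' u (Subgroup.mem_sup_left hu) y hy) (N'.inv_mem hy)⟩)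
      fun e => hxN' (e ▸ ⟨hx, hfix⟩)
    have hPV : ∀ v ∈ V, ∀ y ∈ P, v * y * v⁻¹ ∈ P := by
      rintro v hv y ⟨hy, hy'⟩
      refine ⟨hn v (Subgroup.mem_sup_left hv) y hy, ?_⟩
      have := hn' v (Subgroup.mem_sup_left hv) _ hy'
      have e : u * (v * y * v⁻¹) * u⁻¹ * (v * y * v⁻¹)⁻¹ = v * (u * y * u⁻¹ * y⁻¹) * v⁻¹ := by
        rw [show u * (v * y * v⁻¹) * u⁻¹ = (u * v) * y * (u * v)⁻¹ by group, L.Vab u hu v hv]
        group
      rw [e]; exact this
    set 𝒮 : Set (Subgroup G) := {F | N' < F ∧ F ≤ P ∧ ∀ v ∈ V, ∀ y ∈ F, v * y * v⁻¹ ∈ F} with h𝒮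
    obtain ⟨F, hF, hmin⟩ := 𝒮.toFinite.exists_minimal ⟨P, hPN', le_rfl, hPV⟩
    obtain ⟨hN'F, hFP, hFV⟩ := hF
    have hFN : F ≤ N := fun y hy => (hFP hy).1
    have hFne : F ≠ N := fun e => hnK ⟨hu, fun y hy => (hFP (e.symm ▸ hy : y ∈ F)).2⟩
    let Fw : G → Subgroup G := fun w => F.map (MulAut.conj w).toMonoidHom
    have hFwN : ∀ w ∈ E, Fw w ≤ N := by
      rintro w hw _ ⟨y, hy, rfl⟩; exact hn w (Subgroup.mem_sup_right hw) y (hFN hy)
    have hFwN' : ∀ w ∈ E, N' ≤ Fw w := fun w hw y hy =>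
      ⟨w⁻¹ * y * w⁻¹⁻¹, hN'F.le (hn' _ (inv_mem (Subgroup.mem_sup_right hw)) y hy), by simp [mul_assoc]⟩
    have hFwV : ∀ w ∈ E, ∀ v ∈ V, ∀ y ∈ Fw w, v * y * v⁻¹ ∈ Fw w := by
      rintro w hw v hv _ ⟨y, hy, rfl⟩
      refine ⟨(w⁻¹ * v * w) * y * (w⁻¹ * v * w)⁻¹, hFV _ ?_ y hy, by simp [mul_assoc]⟩
      simpa using L.En w⁻¹ (E.inv_mem hw) v hv
    have hFwidx : ∀ w ∈ E, N'.relIndex (Fw w) = N'.relIndex F := by
      intro w hw
      have e1 := Subgroup.relIndex_mul_relIndex ⊥ N' (Fw w) bot_le (hFwN' w hw)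
      have e2 := Subgroup.relIndex_mul_relIndex ⊥ N' F bot_le hN'F.le
      rw [Subgroup.relIndex_bot_left, Subgroup.relIndex_bot_left] at e1 e2
      rw [show Nat.card (Fw w) = Nat.card F from
        Subgroup.card_map_of_injective (MulAut.conj w).injective, ← e2] at e1
      exact Nat.eq_of_mul_eq_mul_left Nat.card_pos e1
    have hjoin : ∀ S : Finset G, (∀ w ∈ S, w ∈ E) → ∃ A : Subgroup G, N' ≤ A ∧ A ≤ N ∧
        (∀ v ∈ V, ∀ y ∈ A, v * y * v⁻¹ ∈ A) ∧ (∀ w ∈ S, Fw w ≤ A) ∧
        (∀ B : Subgroup G, N' ≤ B → (∀ w ∈ S, Fw w ≤ B) → A ≤ B) ∧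
        ∃ j : ℕ, N'.relIndex A = N'.relIndex F ^ j := by
      intro S
      induction S using Finset.induction with
      | empty => exact fun _ => ⟨N', le_rfl, hN'N, fun v hv y hy => hn' v (Subgroup.mem_sup_left hv) y hy,
          by simp, fun B hB _ => hB, 0, by simp⟩
      | insert w S hwS ihS =>
        intro hS
        obtain ⟨A, hA1, hA2, hA3, hA4, hA5, j, hj⟩ := ihS fun w' hw' => hS w' (Finset.mem_insert_of_mem hw')
        have hwE := hS w (Finset.mem_insert_self _ _)
        by_cases hle : Fw w ≤ A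
        · exact ⟨A, hA1, hA2, hA3, fun w' hw' => (Finset.mem_insert.1 hw').elim (fun e => e ▸ hle) (hA4 w'),
            fun B hB hB' => hA5 B hB fun w' hw' => hB' w' (Finset.mem_insert_of_mem hw'), j, hj⟩
        refine ⟨Fw w ⊔ A, le_sup_of_le_right hA1, sup_le (hFwN w hwE) hA2, ?_, ?_, ?_, j + 1, ?_⟩
        · intro v hv y hy
          have : Fw w ⊔ A ≤ (Fw w ⊔ A).comap (MulAut.conj v).toMonoidHom :=
            sup_le (fun z hz => Subgroup.mem_sup_left (hFwV w hwE v hv z hz))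
              (fun z hz => Subgroup.mem_sup_right (hA3 v hv z hz))
          exact this hy
        · exact fun w' hw' => (Finset.mem_insert.1 hw').elim (fun e => e ▸ le_sup_left)
            fun h => (hA4 w' h).trans le_sup_right
        · exact fun B hB hB' => sup_le (hB' w (Finset.mem_insert_self _ _))
            (hA5 B hB fun w' hw' => hB' w' (Finset.mem_insert_of_mem hw'))
        · have hnorm : Fw w ≤ Subgroup.normalizer (A : Set G) := fun y hy => Subgroup.mem_normalizer_iff.2 fun z =>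
            ⟨fun hz => by
              have := A.mul_mem (hA1 (hcomm y (hFwN w hwE hy) z (hA2 hz))) hz
              simpa using this,
            fun hz => by
              have := A.mul_mem (hA1 (hcomm y⁻¹ (N.inv_mem (hFwN w hwE hy)) _ (hA2 hz))) hz
              simpa [mul_assoc] using this⟩
          have hint : A ⊓ Fw w = N' := by
            refine le_antisymm ?_ (le_inf hA1 (hFwN' w hwE))
            by_contra hne
            set B := (A ⊓ Fw w).map (MulAut.conj w⁻¹).toMonoidHom with hB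
            have hBF : B ≤ F := by
              rintro _ ⟨z, ⟨-, y, hy, rfl⟩, rfl⟩
              simpa [mul_assoc] using hy
            have hN'B : N' < B := by
              refine lt_of_le_of_ne (fun z hz => ⟨w * z * w⁻¹, ⟨hA1 ?_, hFwN' w hwE ?_⟩, by simp [mul_assoc]⟩) ?_
              · exact hn' w (Subgroup.mem_sup_right hwE) z hz
              · exact hn' w (Subgroup.mem_sup_right hwE) z hz
              · intro e
                refine hne fun z hz => ?_
                have h1 : w⁻¹ * z * w⁻¹⁻¹ ∈ N' := e ▸ ⟨z, hz, rfl⟩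
                simpa [mul_assoc] using hn' w (Subgroup.mem_sup_right hwE) _ h1
            have hBV : ∀ v ∈ V, ∀ y ∈ B, v * y * v⁻¹ ∈ B := by
              rintro v hv _ ⟨z, ⟨hz1, hz2⟩, rfl⟩
              have hv' : w * v * w⁻¹ ∈ V := L.En w hwE v hv
              exact ⟨(w * v * w⁻¹) * z * (w * v * w⁻¹)⁻¹, ⟨hA3 _ hv' z hz1, hFwV w hwE _ hv' z hz2⟩,
                by simp [mul_assoc]⟩
            have hFB : F ≤ B := hmin ⟨hN'B, hBF.trans hFP, hBV⟩ hBF
            refine hle ?_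
            rintro _ ⟨y, hy, rfl⟩
            obtain ⟨z, hz, e⟩ := hFB hy
            have : z = (MulAut.conj w).toMonoidHom y := by rw [← e]; simp [mul_assoc]
            exact this ▸ hz.1
          have h1 : A.relIndex (Fw w ⊔ A) = N'.relIndex F := by
            rw [relIndex_sup_of_le_normalizer hnorm, ← Subgroup.inf_relIndex_right, hint, hFwidx w hwE]
          rw [← Subgroup.relIndex_mul_relIndex N' A (Fw w ⊔ A) hA1 le_sup_right, hj, h1, pow_succ]
    obtain ⟨A, hA1, hA2, hA3, hA4, hA5, j, hj⟩ := hjoin (Finset.univ.filter (· ∈ E))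
      (fun w hw => (Finset.mem_filter.1 hw).2)
    have hFA : F ≤ A := by
      have := hA4 1 (Finset.mem_filter.2 ⟨Finset.mem_univ _, E.one_mem⟩)
      intro y hy
      exact this ⟨y, hy, by simp⟩
    have hAn : ∀ v ∈ V ⊔ E, ∀ y ∈ A, v * y * v⁻¹ ∈ A := by
      have hVE : V ⊔ E ≤ Subgroup.normalizer (A : Set G) := by
        refine sup_le (fun v hv => ?_) (fun w hw => ?_)
        · exact Subgroup.mem_normalizer_iff.2 fun z =>
            ⟨hA3 v hv z, fun hz => by simpa [mul_assoc] using hA3 v⁻¹ (V.inv_mem hv) _ hz⟩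
        · have hsub : ∀ a ∈ E, ∀ y ∈ A, a * y * a⁻¹ ∈ A := by
            intro a ha
            refine hA5 (A.comap (MulAut.conj a).toMonoidHom)
              (fun y hy => hA1 (hn' a (Subgroup.mem_sup_right ha) y hy)) (fun w' hw' => ?_)
            rintro _ ⟨y, hy, rfl⟩
            exact hA4 (a * w') (Finset.mem_filter.2 ⟨Finset.mem_univ _, E.mul_mem ha (Finset.mem_filter.1 hw').2⟩)
              ⟨y, hy, by simp [mul_assoc]⟩
          exact Subgroup.mem_normalizer_iff.2 fun z =>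
            ⟨hsub w hw z, fun hz => by simpa [mul_assoc] using hsub w⁻¹ (E.inv_mem hw) _ hz⟩
      exact fun v hv y hy => (Subgroup.mem_normalizer_iff.1 (hVE hv) y).1 hy
    obtain ⟨hA, hAc⟩ := hfac A hA1 hA2
    have hAN : A = N := by
      rcases hA with e | e <;> rw [e] at hAc
      · exact absurd (Subgroup.eq_of_le_of_card_ge hA1 (by
          rw [L.card_eq (hA2.trans hN) hAn, hcN', hAc, one_mul])).symm
          (fun e' => hN'F.ne (le_antisymm hN'F.le (e' ▸ hFA)))
      · exact Subgroup.eq_of_le_of_card_ge hA2 (by rw [L.card_eq (hA2.trans hN) hAn, hcN, hAc, hcard])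
    rw [hAN, hidx] at hj
    obtain ⟨d, hd, hfd⟩ := (Nat.dvd_prime_pow hr).1
      (hidx ▸ ⟨_, (Subgroup.relIndex_mul_relIndex N' F N hN'F.le hFN).symm⟩ : N'.relIndex F ∣ r ^ Nat.card E)
    rw [hfd, ← pow_mul] at hj
    have hdj := Nat.pow_right_injective hr.two_le hj
    rcases L.prime.eq_one_or_self_of_dvd d ⟨j, hdj⟩ with rfl | rfl
    · rw [pow_one] at hfd
      have := L.line hN'F.le (hFN.trans hN) hn' (fun y hy h hh => hNn' y (hFN hy) h hh) hFV hr hr2 hfd
      omega
    · refine hFne (Subgroup.eq_of_le_of_card_ge hFN ?_)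
      have e1 := Subgroup.relIndex_mul_relIndex ⊥ N' F bot_le hN'F.le
      have e2 := Subgroup.relIndex_mul_relIndex ⊥ N' N bot_le hN'N
      rw [Subgroup.relIndex_bot_left, Subgroup.relIndex_bot_left] at e1 e2
      rw [← e1, ← e2, hfd, hidx]
  obtain ⟨t, ht, hbd⟩ := ih N' hlt' hN'H hn'
  refine ⟨t + 1, ?_, ?_⟩
  · rw [pow_succ, hcard, mul_comm r]
    exact Nat.mul_le_mul ht (Nat.lt_of_le_of_ne hr.two_le hr2.symm)
  · have hsub : bad V N ⊆ bad V N' ∪ Finset.univ.filter (· ∈ Kr) := by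
      intro u hu
      simp only [bad, Finset.mem_filter, Finset.mem_univ, true_and, Finset.mem_union] at hu ⊢
      obtain ⟨huV, x, hx, hx1, hux⟩ := hu
      by_cases hxN' : x ∈ N'
      · exact Or.inl ⟨huV, x, hxN', hx1, hux⟩
      · refine Or.inr (hirr u huV x hx hxN' ?_)
        rw [hux, mul_inv_cancel_right, mul_inv_cancel]
        exact N'.one_mem
    have hKc : (Finset.univ.filter (· ∈ Kr)).card = Nat.card Kr := by
      rw [← Fintype.card_subtype, ← Nat.card_eq_fintype_card]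
    calc (bad V N).card * Nat.card U₀ ≤ ((bad V N').card + Nat.card Kr) * Nat.card U₀ :=
          Nat.mul_le_mul_right _ ((Finset.card_le_card hsub).trans (hKc ▸ Finset.card_union_le _ _))
      _ ≤ t * Nat.card V + Nat.card V := by rw [add_mul]; exact Nat.add_le_add hbd hKU
      _ = (t + 1) * Nat.card V := by ring

end Layer

end Cfsg.Agent.FTPLayer78
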