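import Cfsg.Agent.Lib.FTPBridge78
import Cfsg.Agent.Lib.FTPLayer78
import Cfsg.Agent.Lib.FittingHallBasic
import Cfsg.Agent.S1389
import Cfsg.Agent.S1390

/-!
Many elements of `G` of order prime to `|W₁|` lie outside the Dade support of `S`, when the partner `T` is of Type II.
-/

set_option autoImplicit false
set_option linter.unusedSectionVars false
set_option linter.style.haveILetI false
set_option maxHeartbeats 800000

open scoped commutatorElement Pointwise

namespace Cfsg.Agent.FTPCount78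

open Cfsg
open Cfsg.Agent.FTPBase78 Cfsg.Agent.FTPTau78 Cfsg.Agent.FTPMu78 Cfsg.Agent.BGTypeBasic
open Cfsg.Agent.FTPLayer78

attribute [local instance] Classical.propDecidable

universe u

variable {G : Type u} [Group G] [Fintype G]

theorem base_of_typeP (hG : IsMinSimpleOddOrder G) {T W₂ V W₁ : Subgroup G} (h : IsTypePWith T W₂ V W₁) :
    Base T ⁅T, T⁆ W₂ W₁ where
  compl := h.W₁_compl
  normal := le_normalizer_derived T
  W₁c := h.W₁_cyclic
  hall := (typeP_card_W₁_coprime h).symm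
  W₂le := h.W₂_le.trans (inf_le_left.trans h.U_compl.1)
  cent := h.W₂_centralizer
  sn := h.selfNormalizing
  odd := hG.1

/-- The support is not too large. -/
theorem card_inS {M K W₁ W₂ : Subgroup G} {R : G → Subgroup G} [Fintype ↥M] (C : Core M K W₁ W₂ R) :
    (Finset.univ.filter fun g => C.InS g).card * (Nat.card W₂ * Nat.card W₁) ≤
      Nat.card G * (Nat.card W₂ + (Nat.card W₁ - 1) * (Nat.card W₂ - 1)) := by
  haveI := C.base.W₁c
  haveI : IsCyclic ↥(W₁ ⊔ W₂) := C.base.sn.2.2.2.2.1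
  letI := IsCyclic.commGroup (α := ↥(W₁ ⊔ W₂))
  have h := DadeMap.sum_support_aux C.dade (R := ℂ) (fun g => if C.InS g then 1 else 0)
    (fun g hg => if_neg hg) (fun g y => by
      have hiff : C.InS (y * g * y⁻¹) ↔ C.InS g := ⟨fun h' => by
        have := DadeMap.inSupport_conj (y := y⁻¹) h'
        simpa [mul_assoc] using this, DadeMap.inSupport_conj⟩
      simp only [hiff])
  have e1 : ∀ a : ↥M, (a : G) ∈ suppSet M K W₁ W₂ →
      (Nat.card (R (a : G)) : ℂ)⁻¹ * ∑ᶠ u ∈ (R (a : G) : Set G), (if C.InS ((a : G) * u) then (1 : ℂ) else 0) = 1 := by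
    intro a ha
    rw [finsum_mem_congr rfl (g := fun _ => (1 : ℂ)) fun u hu => if_pos ⟨a, ha, 1, u, hu, by simp⟩,
      finsum_mem_eq_toFinset_sum, Finset.sum_const, nsmul_eq_mul, mul_one, Set.toFinset_card,
      ← Nat.card_eq_fintype_card]
    exact inv_mul_cancel₀ (Nat.cast_ne_zero.2 Nat.card_pos.ne')
  rw [finsum_mem_congr (s := {a : ↥M | (a : G) ∈ suppSet M K W₁ W₂}) rfl (g := fun _ => (1 : ℂ))
    (fun a ha => e1 a ha), finsum_mem_eq_toFinset_sum,
    Finset.sum_const, nsmul_eq_mul, mul_one, Set.toFinset_card, ← Nat.card_eq_fintype_card, Finset.sum_boole]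
    at h
  have h' : Nat.card M * (Finset.univ.filter fun g => C.InS g).card =
      Nat.card G * Nat.card {a : ↥M // (a : G) ∈ suppSet M K W₁ W₂} := by
    exact_mod_cast h
  -- the size of `A`
  have hA : Nat.card {a : ↥M // (a : G) ∈ suppSet M K W₁ W₂} ≤
      Nat.card K + W₂.relIndex K * Nat.card {w : ↥(W₁ ⊔ W₂) // InV w} := by
    have hs : ∀ a : {a : ↥M // (a : G) ∈ suppSet M K W₁ W₂}, ((a.1 : ↥M) : G) ∈ K ∨
        ∃ s : (K ⧸ W₂.subgroupOf K) × {w : ↥(W₁ ⊔ W₂) // InV w},
          ((a.1 : ↥M) : G) = ((s.1.out : K) : G) * (s.2.1 : G) * ((s.1.out : K) : G)⁻¹ := by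
      intro a
      by_cases hK : ((a.1 : ↥M) : G) ∈ K
      · exact Or.inl hK
      refine Or.inr ?_
      obtain ⟨s, hs⟩ := C.base.out_bijective.2 ⟨a.1, hK⟩
      have hse : ((s.1.out : K) : G) * (s.2.1 : G) * ((s.1.out : K) : G)⁻¹ = a.1 :=
        congrArg (fun z => ((z.1 : ↥M) : G)) hs
      refine ⟨(s.1, ⟨s.2.1, fun hw1 => ?_, s.2.2⟩), hse.symm⟩
      obtain ⟨m, hm, hv, hv1, hv2⟩ := a.2.2.resolve_left hK
      obtain ⟨k, hk, w, hw, hmkw⟩ := C.base.compl.2.2.2 m hm
      obtain ⟨a', ha', b', hb', hab⟩ := C.base.decompW hv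
      have hcomm : w * (m⁻¹ * (a.1 : G) * m) * w⁻¹ = m⁻¹ * (a.1 : G) * m := by
        have := congrArg Subtype.val
          (mul_comm (⟨w, Subgroup.mem_sup_left hw⟩ : ↥(W₁ ⊔ W₂)) ⟨_, hv⟩)
        simp only [Subgroup.coe_mul] at this
        rw [this, mul_inv_cancel_right]
      have ha1 : (s.2.1 : G) ≠ 1 := fun e => s.2.2 (by rw [e]; exact W₂.one_mem)
      have hc := C.base.cancel (c := k⁻¹ * ((s.1.out : K) : G)) (K.mul_mem (K.inv_mem hk) s.1.out.2) hw1 ha1
        W₂.one_mem ha' hb' (by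
          rw [← hab, ← hcomm, mul_one]
          calc k⁻¹ * ((s.1.out : K) : G) * (s.2.1 : G) * (k⁻¹ * ((s.1.out : K) : G))⁻¹
              = k⁻¹ * (((s.1.out : K) : G) * (s.2.1 : G) * ((s.1.out : K) : G)⁻¹) * k := by group
            _ = w * (m⁻¹ * (a.1 : G) * m) * w⁻¹ := by rw [hse, hmkw]; group)
      exact hv1 (by rw [hab, ← hc.2.2, mul_one]; exact ha')
    let f : {a : ↥M // (a : G) ∈ suppSet M K W₁ W₂} →
        K ⊕ ((K ⧸ W₂.subgroupOf K) × {w : ↥(W₁ ⊔ W₂) // InV w}) := fun a =>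
      if hK : ((a.1 : ↥M) : G) ∈ K then Sum.inl ⟨_, hK⟩
      else Sum.inr (Classical.choose ((hs a).resolve_left hK))
    have hf : Function.Injective f := by
      intro a b e
      simp only [f] at e
      split_ifs at e with ha hb hb
      · have h' := congrArg Subtype.val (Sum.inl.inj e)
        exact Subtype.ext (Subtype.ext h')
      · refine Subtype.ext (Subtype.ext ?_)
        rw [Classical.choose_spec ((hs a).resolve_left ha), Classical.choose_spec ((hs b).resolve_left hb),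
          Sum.inr.inj e]
    refine (Nat.card_le_card_of_injective f hf).trans ?_
    rw [Nat.card_sum, Nat.card_prod, ← Subgroup.index_eq_card]
    rfl
  have hV : Nat.card {w : ↥(W₁ ⊔ W₂) // InV w} + (Nat.card W₁ - 1) ≤ (Nat.card W₁ - 1) * Nat.card W₂ := by
    rw [← C.base.card_out]
    have e : Nat.card {a : W₁ // a ≠ 1} = Nat.card W₁ - 1 := by
      haveI := Fintype.ofFinite W₁
      simp [Nat.card_eq_fintype_card]
    rw [← e, ← Nat.card_sum]
    refine Nat.card_le_card_of_injective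
      (Sum.elim (fun w => (⟨w.1, w.2.2⟩ : {w : ↥(W₁ ⊔ W₂) // (w : G) ∉ W₂}))
        (fun a => ⟨⟨a.1, Subgroup.mem_sup_left a.1.2⟩, fun h2 => a.2 (Subtype.ext
          (by_contra fun h1 => C.base.W₁_not_W₂ a.1.2 h1 h2))⟩)) ?_
    rintro (w | a) (w' | a') e <;> simp only [Sum.elim_inl, Sum.elim_inr, Subtype.mk.injEq] at e
    · exact congrArg _ (Subtype.ext e)
    · exact absurd (by rw [e]; exact a'.1.2) w.2.1
    · exact absurd (by rw [← e]; exact a.1.2) w'.2.1
    · exact congrArg _ (Subtype.ext (Subtype.ext e))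
  have hW₂K : W₂.relIndex K * Nat.card W₂ = Nat.card K := by
    have := Subgroup.relIndex_mul_relIndex ⊥ W₂ K bot_le C.base.W₂le
    rw [Subgroup.relIndex_bot_left, Subgroup.relIndex_bot_left, mul_comm] at this
    exact this
  have hV' : Nat.card {w : ↥(W₁ ⊔ W₂) // InV w} ≤ (Nat.card W₁ - 1) * (Nat.card W₂ - 1) := by
    rw [Nat.mul_sub_one]; omega
  refine Nat.le_of_mul_le_mul_left ?_ (Nat.card_pos (α := K))
  calc Nat.card K * ((Finset.univ.filter fun g => C.InS g).card * (Nat.card W₂ * Nat.card W₁))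
      = Nat.card M * (Finset.univ.filter fun g => C.InS g).card * Nat.card W₂ := by rw [← C.base.card_eq]; ring
    _ ≤ Nat.card G * (Nat.card K + W₂.relIndex K * ((Nat.card W₁ - 1) * (Nat.card W₂ - 1))) * Nat.card W₂ := by
        rw [h']
        exact Nat.mul_le_mul_right _ (Nat.mul_le_mul_left _ (hA.trans
          (Nat.add_le_add_left (Nat.mul_le_mul_left _ hV') _)))
    _ = _ := by
        rw [mul_assoc, add_mul, mul_right_comm (W₂.relIndex K), hW₂K]; ring

/-! ### The side of `T` -/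

/-- The standing facts on the partner of Type II. -/
structure Side (T W₂ V W₁ : Subgroup G) : Prop where
  hG : IsMinSimpleOddOrder G
  max : IsCoatom T
  data : IsTypePWith T W₂ V W₁
  II : IsOfTypeII T

namespace Side

variable {T W₂ V W₁ : Subgroup G} (D : Side T W₂ V W₁)
include D

theorem facts : (Nat.card W₂).Prime ∧ (∀ x ∈ V, ∀ y ∈ V, x * y = y * x) ∧ V ≠ ⊥ ∧
    IsTISubset (fittingOf T : Set G) := by
  obtain ⟨W₂', V', W₁', h', hne, hpr, hti, hab, -⟩ := D.II
  obtain ⟨m, -, hmW, -⟩ := typeP_W_conj D.data h'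
  obtain ⟨n, -, hnU⟩ := typeP_U_conj D.data h'
  refine ⟨?_, fun x hx y hy => ?_, fun e => hne ?_, hti⟩
  · rwa [← hmW, conj_smul_eq_map, Subgroup.card_map_of_injective (MulAut.conj m).injective] at hpr
  · haveI := hab
    have e := congrArg (Subtype.val : ↥V' → G) (mul_comm'
      (⟨n * x * n⁻¹, hnU ▸ conj_mem_conj_smul hx⟩ : ↥V') ⟨n * y * n⁻¹, hnU ▸ conj_mem_conj_smul hy⟩)
    have e' := congrArg (fun z => n⁻¹ * z * n) e
    simpa [mul_assoc] using e'
  · rw [← hnU, e, conj_smul_eq_map, Subgroup.map_bot]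

/-- A fixed-point-free subgroup of `V` of the same exponent. -/
theorem exists_fpf : ∃ U₀ : Subgroup G, U₀ ≤ V ∧ Monoid.exponent U₀ = Monoid.exponent V ∧
    ∀ u ∈ U₀, u ≠ 1 → ∀ x ∈ fittingHallOf T, u * x = x * u → x = 1 := by
  obtain ⟨-, -, -, -, -, -, -, -, -, hF, hH⟩ := D.II
  obtain ⟨-, -, -, -, U, -, hU, -, U₀, hU₀, hexp, hfpf⟩ := hF
  set H := fittingHallOf T with hHdef
  set U' := U.map ⁅T, T⁆.subtype with hU'
  have hcU : Nat.card U' = Nat.card U := Subgroup.card_map_of_injective Subtype.val_injective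
  have hcH : Nat.card (fittingHall ↥⁅T, T⁆) = Nat.card H := by
    rw [← FittingHallBasic.card_fittingHallOf, hH]
  have hcV : Nat.card H * Nat.card V = Nat.card ↥⁅T, T⁆ := card_mul_of_isComplIn D.data.U_compl
  have hcU' : Nat.card U' = Nat.card V := by
    have := hU.card_mul
    rw [hcH, ← hcV] at this
    rw [hcU]; exact Nat.eq_of_mul_eq_mul_left Nat.card_pos this
  have hHV := typeP_card_U_coprime D.data
  have hc : IsComplIn H U' ⁅T, T⁆ := isComplIn_of_card D.data.U_compl.1 (Subgroup.map_subtype_le U)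
    (hcU' ▸ hHV) (by rw [hcU', hcV])
  haveI : Group.IsSolvable V := typeP_U_isSolvable D.data
  obtain ⟨a, ha, haU⟩ := isComplIn_conjugate
    ((Subgroup.commutator_le_self _).trans (FittingHallBasic.le_normalizer_fittingHallOf T))
    hHV (Or.inl inferInstance) D.data.U_compl hc
  set e : G ≃* G := MulAut.conj a⁻¹ with he
  have hUV : U'.map e.toMonoidHom = V := by
    rw [← haU, conj_smul_eq_map, Subgroup.map_map]
    convert Subgroup.map_id V using 2
    ext z
    simp [he, mul_assoc]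
  have hUV' : (U.map ⁅T, T⁆.subtype).map e.toMonoidHom = V := hUV
  refine ⟨(U₀.map ⁅T, T⁆.subtype).map e.toMonoidHom,
    hUV' ▸ Subgroup.map_mono (Subgroup.map_mono hU₀), ?_, ?_⟩
  · have hV : Monoid.exponent V = Monoid.exponent U := by
      rw [← hUV']
      exact Monoid.exponent_eq_of_mulEquiv ((U.equivMapOfInjective ⁅T, T⁆.subtype Subtype.val_injective).trans
        ((U.map ⁅T, T⁆.subtype).equivMapOfInjective e.toMonoidHom e.injective)).symm
    rw [hV, ← hexp]
    exact Monoid.exponent_eq_of_mulEquiv ((U₀.equivMapOfInjective ⁅T, T⁆.subtype Subtype.val_injective).trans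
      ((U₀.map ⁅T, T⁆.subtype).equivMapOfInjective e.toMonoidHom e.injective)).symm
  · rintro _ ⟨_, ⟨u, hu, rfl⟩, rfl⟩ hu1 x hx hxu
    have hxH : a * x * a⁻¹ ∈ H := H.mul_mem (H.mul_mem ha hx) (H.inv_mem ha)
    have hxH' := hxH
    rw [← hH] at hxH'
    obtain ⟨y, hy, hye⟩ := hxH'
    rw [Subgroup.coe_subtype] at hye
    simp only [he, MulEquiv.toMonoidHom_eq_coe, MonoidHom.coe_coe, MulAut.conj_apply, inv_inv,
      Subgroup.coe_subtype] at hu1 hxu
    have h1 := hfpf u hu (fun h => hu1 (by rw [h]; simp)) y hy (Subtype.ext (by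
      rw [Subgroup.coe_mul, Subgroup.coe_mul, hye]
      calc (u : G) * (a * x * a⁻¹) = a * (a⁻¹ * (u : G) * a * x) * a⁻¹ := by group
        _ = _ := by rw [hxu]; group))
    rw [h1, Subgroup.coe_one] at hye
    have h2 := congrArg (fun z => a⁻¹ * z * a) hye.symm
    simpa [mul_assoc] using h2

theorem exponent_sq : Nat.card V ≤ Monoid.exponent V ^ 2 := by
  letI : CommGroup ↥V := { (inferInstance : Group ↥V) with
    mul_comm := fun x y => Subtype.ext (D.facts.2.1 x x.2 y y.2) }
  refine card_le_exponent_sq fun s hs => ?_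
  haveI := Fact.mk hs
  set A := (powMonoidHom s : ↥V →* ↥V).ker with hA
  have hpow : ∀ z : A, z ^ s = 1 := fun z => Subtype.ext (by
    rw [Subgroup.coe_pow, Subgroup.coe_one]; exact MonoidHom.mem_ker.1 z.2)
  have hAp : IsPGroup s A := fun z => ⟨1, by rw [pow_one]; exact hpow z⟩
  obtain ⟨P, hP⟩ := hAp.exists_le_sylow
  have h2 := ((S1390.result D.hG T D.max V (Or.inr ⟨D.II, D.data.U_compl⟩)).1 s hs P).2
    (A.subgroupOf P) ⟨⟨fun x y => Subtype.ext (Subtype.ext (mul_comm _ _))⟩⟩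
    (fun z hz => Subtype.ext (by
      have := hpow ⟨(z : ↥V), hz⟩
      simpa using congrArg Subtype.val this))
  rwa [Nat.card_congr (Subgroup.subgroupOfEquivOfLe hP).toEquiv] at h2

theorem normalizer_F : Subgroup.normalizer ((fittingOf T : Subgroup G) : Set G) = T := by
  have hle : T ≤ Subgroup.normalizer ((fittingOf T : Subgroup G) : Set G) := by
    intro x hx
    rw [Subgroup.mem_normalizer_iff]
    intro z
    have key : ∀ y ∈ T, ∀ z ∈ fittingOf T, y * z * y⁻¹ ∈ fittingOf T := by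
      rintro y hy _ ⟨z, hz, rfl⟩
      haveI : (fittingSubgroup ↥T).Normal := Subgroup.sSup_normal _ (fun _ h => h.1)
      exact ⟨_, this.conj_mem z hz ⟨y, hy⟩, rfl⟩
    exact ⟨key x hx z, fun hz => by simpa [mul_assoc] using key x⁻¹ (T.inv_mem hx) _ hz⟩
  refine le_antisymm ?_ hle
  by_contra hne
  have htop := (D.max.le_iff.1 hle).resolve_right (fun e => hne e.le)
  haveI := D.hG.2.1
  have hn : (fittingOf T).Normal := Subgroup.normalizer_eq_top_iff.1 htop
  rcases hn.eq_bot_or_eq_top with e | e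
  · obtain ⟨x, hx, hx1⟩ := W₁.bot_or_exists_ne_one.resolve_left D.data.selfNormalizing.2.1
    have := FittingHallBasic.fittingHallOf_le_fittingOf T (D.data.W₂_le hx).1
    rw [e, Subgroup.mem_bot] at this
    exact hx1 this
  · exact D.max.1 (top_unique (e ▸ FittingHallBasic.fittingOf_le T))

theorem q_dvd : Nat.card W₁ ∣ Nat.card (fittingHallOf T) :=
  Subgroup.card_dvd_of_le (D.data.W₂_le.trans inf_le_left)

/-- Elements of order not prime to `|W₁|`, off the support, are conjugate into `T'`. -/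
theorem conj_into {g : G} (hg : ¬ (orderOf g).Coprime (Nat.card W₁)) :
    ∃ c : G, (c * g * c⁻¹ ∈ ⁅T, T⁆) ∨
      (c * g * c⁻¹ ∈ W₂ ⊔ W₁ ∧ c * g * c⁻¹ ∉ W₂ ∧ c * g * c⁻¹ ∉ W₁) := by
  obtain ⟨r, hr, hrg, hrq⟩ := Nat.Prime.not_coprime_iff_dvd.1 hg
  haveI := Fact.mk hr
  set H := fittingHallOf T with hH
  have hcop := (S1389.result D.hG T D.max).2.1
  have hnd : ¬ r ∣ H.relIndex ⊤ := by
    rw [Subgroup.relIndex_top_right]
    exact fun h => Nat.not_coprime_of_dvd_of_dvd hr.one_lt (hrq.trans D.q_dvd) h hcop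
  set x := g ^ (orderOf g / r) with hx
  have hxo : orderOf x = r := by
    rw [hx, orderOf_pow_orderOf_div (orderOf_pos g).ne' hrg]
  obtain ⟨m, -, hm⟩ := exists_conj_mem_of_not_dvd_relIndex hnd (Subgroup.mem_top x)
    (IsPGroup.of_card (n := 1) (by rw [Nat.card_zpowers, hxo, pow_one]))
  set g' := m⁻¹ * g * m with hg'
  have hx1 : m⁻¹ * x * m ≠ 1 := by
    intro e
    have : x = 1 := by
      have e' := congrArg (fun z => m * z * m⁻¹) e
      simpa [mul_assoc] using e'
    rw [this, orderOf_one] at hxo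
    exact hr.ne_one hxo.symm
  have hgT : g' ∈ T := by
    rw [← D.normalizer_F]
    by_contra hn
    refine hx1 (D.facts.2.2.2 g' hn _ (FittingHallBasic.fittingHallOf_le_fittingOf T hm) ?_)
    have e : g' * (m⁻¹ * x * m) * g'⁻¹ = m⁻¹ * x * m := by
      rw [hg', hx]; group
    rw [e]
    exact FittingHallBasic.fittingHallOf_le_fittingOf T hm
  have B := base_of_typeP D.hG D.data
  by_cases hT' : g' ∈ ⁅T, T⁆
  · exact ⟨m⁻¹, Or.inl (by simpa [hg'] using hT')⟩
  obtain ⟨k, hk, w, hw, hw1, e⟩ := B.exists_conj hgT hT'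
  refine ⟨k⁻¹ * m⁻¹, Or.inr ?_⟩
  have ew : k⁻¹ * m⁻¹ * g * (k⁻¹ * m⁻¹)⁻¹ = w := by
    calc _ = k⁻¹ * g' * k := by rw [hg']; group
      _ = w := by rw [e]; group
  rw [ew]
  refine ⟨hw, fun hw2 => ?_, hw1⟩
  have ho : orderOf w = orderOf g := by
    rw [← ew, ← MulAut.conj_apply]
    exact (MulAut.conj (k⁻¹ * m⁻¹)).orderOf_eq g
  have h1 : r ∣ Nat.card W₂ := (ho ▸ hrg).trans (Subgroup.orderOf_dvd_natCard _ hw2)
  exact Nat.not_coprime_of_dvd_of_dvd hr.one_lt h1 (hrq.trans (Subgroup.card_dvd_of_le B.W₂le)) B.hall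

/-- The good elements: those of `V` acting without fixed points. -/
noncomputable def good (_D : Side T W₂ V W₁) : Finset G :=
  Finset.univ.filter fun u => u ∈ V ∧ ∀ x ∈ fittingHallOf T, u * x = x * u → x = 1

theorem layer {U₀ : Subgroup G} (hle : U₀ ≤ V) (hne : U₀ ≠ ⊥)
    (hfpf : ∀ u ∈ U₀, u ≠ 1 → ∀ x ∈ fittingHallOf T, u * x = x * u → x = 1) :
    Layer (fittingHallOf T) V U₀ W₂ ∧ fittingHallOf T ⊓ Subgroup.centralizer (W₂ : Set G) = W₁ := by
  have hd := D.data
  have hcent : fittingHallOf T ⊓ Subgroup.centralizer (W₂ : Set G) = W₁ := by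
    refine le_antisymm (fun z hz => ?_) (fun z hz => ⟨(hd.W₂_le hz).1, ?_⟩)
    · obtain ⟨w, hw, hw1⟩ := W₂.bot_or_exists_ne_one.resolve_left hd.W₁_ne
      rw [← hd.W₂_centralizer w hw hw1]
      exact ⟨hd.U_compl.1 hz.1, Subgroup.centralizer_le (Set.singleton_subset_iff.2 hw) hz.2⟩
    · refine Subgroup.mem_centralizer_iff.2 ?_
      exact fun w hw => hd.selfNormalizing.2.2.2.1 w hw z hz
  refine ⟨⟨?_, ?_, D.facts.2.1, fun w hw u hu => ?_, fun w hw hw1 u hu h => ?_, hle, hne, hfpf, ?_,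
    D.facts.1, D.hG.1⟩, hcent⟩
  · exact D.hG.2.2.2 _ fun e => D.max.1 (top_unique (e ▸ FittingHallBasic.fittingHallOf_le T))
  · have h1 : Nat.card ↥(V ⊔ W₂) = Nat.card V * Nat.card W₂ := by
      have := Subgroup.relIndex_mul_relIndex ⊥ V (W₂ ⊔ V) bot_le le_sup_right
      rw [Subgroup.relIndex_bot_left, Subgroup.relIndex_bot_left, relIndex_sup_of_le_normalizer hd.U_normal,
        ← Subgroup.inf_relIndex_right] at this
      have h2 : V ⊓ W₂ = ⊥ := le_bot_iff.1
        ((inf_le_inf_right _ hd.U_compl.2.1).trans hd.W₁_compl.2.2.1.le)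
      rw [h2, Subgroup.relIndex_bot_left] at this
      rw [sup_comm, this]
    rw [h1]
    exact Nat.Coprime.mul_right (typeP_card_U_coprime hd)
      ((typeP_card_W₁_coprime hd).coprime_dvd_left (Subgroup.card_dvd_of_le hd.U_compl.1))
  · exact (Subgroup.mem_normalizer_iff.1 (hd.U_normal hw) u).1 hu
  · have h1 : u ∈ fittingHallOf T ⊓ V := by
      refine ⟨(hd.W₂_le ?_).1, hu⟩
      rw [← hd.W₂_centralizer w hw hw1]
      exact ⟨hd.U_compl.2.1 hu, Subgroup.mem_centralizer_singleton_iff.2 h.symm⟩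
    rw [hd.U_compl.2.2.1, Subgroup.mem_bot] at h1
    exact h1
  · rw [hcent]
    haveI : IsCyclic ↥(W₂ ⊔ W₁) := hd.selfNormalizing.2.2.2.2.1
    exact isCyclic_of_injective (Subgroup.inclusion (le_sup_right : W₁ ≤ W₂ ⊔ W₁))
      (Subgroup.inclusion_injective _)

theorem good_bound : 3 * Nat.card V < 2 * Nat.card W₁ * D.good.card := by
  obtain ⟨U₀, hle, hexp, hfpf⟩ := D.exists_fpf
  have hv := D.exponent_sq
  set e := Monoid.exponent V with he
  have heodd : Odd e := D.hG.1.of_dvd_nat (Group.exponent_dvd_nat_card.trans (Subgroup.card_subgroup_dvd_card V))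
  have he1 : e ≠ 1 := fun h => by
    rw [Monoid.exp_eq_one_iff] at h
    exact D.facts.2.2.1 ((Subgroup.eq_bot_iff_forall _).2 fun x hx =>
      congrArg Subtype.val (h.elim (⟨x, hx⟩ : V) 1))
  have he3 : 3 ≤ e := by
    obtain ⟨a, ha⟩ := heodd; omega
  have hcU : e ≤ Nat.card U₀ := Nat.le_of_dvd Nat.card_pos (hexp ▸ Group.exponent_dvd_nat_card)
  have hU₀ne : U₀ ≠ ⊥ := fun h => by rw [h, Subgroup.card_bot] at hcU; omega
  have hq3 : 3 ≤ Nat.card W₁ := by
    have h1 : Nat.card W₁ ≠ 1 := fun h => D.data.selfNormalizing.2.1 (Subgroup.card_eq_one.1 h)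
    obtain ⟨a, ha⟩ := D.hG.1.of_dvd_nat (Subgroup.card_subgroup_dvd_card W₁)
    omega
  by_cases hA : 2 * e + 1 ≤ Nat.card W₁
  · have hg : Nat.card U₀ - 1 ≤ D.good.card := by
      rw [show Nat.card U₀ - 1 = ((Finset.univ.filter (· ∈ U₀)).erase 1).card by
        rw [Finset.card_erase_of_mem (Finset.mem_filter.2 ⟨Finset.mem_univ _, U₀.one_mem⟩),
          ← Fintype.card_subtype, ← Nat.card_eq_fintype_card]]
      refine Finset.card_le_card fun u hu => ?_
      simp only [Finset.mem_erase, Finset.mem_filter, Finset.mem_univ, true_and] at hu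
      exact Finset.mem_filter.2 ⟨Finset.mem_univ _, hle hu.2, hfpf u hu.2 hu.1⟩
    have hg' : e - 1 ≤ D.good.card := by omega
    calc 3 * Nat.card V ≤ 3 * e ^ 2 := Nat.mul_le_mul_left _ hv
      _ < 2 * (2 * e + 1) * (e - 1) := by
          obtain ⟨k, hk⟩ := Nat.exists_eq_add_of_le he3
          rw [hk, show 3 + k - 1 = 2 + k by omega]
          nlinarith
      _ ≤ _ := Nat.mul_le_mul (Nat.mul_le_mul_left _ hA) hg'
  · obtain ⟨L, hcent⟩ := D.layer hle hU₀ne hfpf
    obtain ⟨t, ht, hbd⟩ := L.bad_bound (fun r hr hrd => by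
      rw [hcent] at hrd
      have := Nat.le_of_dvd Nat.card_pos hrd
      omega) (fittingHallOf T) le_rfl (fun x hx h hh => by
      have hxT : x ∈ T := (sup_le (typeP_U_le D.data) (typeP_W₁_le D.data)) hx
      exact (Subgroup.mem_normalizer_iff.1 (FittingHallBasic.le_normalizer_fittingHallOf T hxT) h).1 hh)
    rw [hcent] at ht
    have h2t : 2 * t < Nat.card U₀ := by
      rcases Nat.lt_or_ge t 2 with h | h
      · omega
      have h4 : 4 * t < 3 ^ t := by
        obtain ⟨k, rfl⟩ := Nat.exists_eq_add_of_le h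
        clear ht hbd h
        induction k with
        | zero => norm_num
        | succ k ih => rw [← Nat.add_assoc, pow_succ]; omega
      omega
    have h2bad : 2 * (bad V (fittingHallOf T)).card < Nat.card V := by
      refine Nat.lt_of_mul_lt_mul_right (a := Nat.card U₀) ?_
      calc 2 * (bad V (fittingHallOf T)).card * Nat.card U₀ ≤ 2 * (t * Nat.card V) := by
            rw [mul_assoc]; exact Nat.mul_le_mul_left _ hbd
        _ = 2 * t * Nat.card V := by ring
        _ < Nat.card U₀ * Nat.card V := Nat.mul_lt_mul_of_lt_of_le h2t le_rfl Nat.card_pos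
        _ = _ := mul_comm _ _
    have hsplit : Nat.card V ≤ (bad V (fittingHallOf T)).card + D.good.card := by
      rw [show Nat.card V = (Finset.univ.filter (· ∈ V)).card by
        rw [← Fintype.card_subtype, ← Nat.card_eq_fintype_card]]
      refine (Finset.card_le_card ?_).trans (Finset.card_union_le _ _)
      intro u hu
      simp only [good, bad, Finset.mem_filter, Finset.mem_univ, true_and, Finset.mem_union] at hu ⊢
      by_cases h : ∃ x ∈ fittingHallOf T, x ≠ 1 ∧ u * x = x * u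
      · exact Or.inl ⟨hu, h⟩
      · exact Or.inr ⟨hu, fun x hx he => by_contra fun h1 => h ⟨x, hx, h1, he⟩⟩
    calc 3 * Nat.card V < 6 * D.good.card := by omega
      _ ≤ _ := Nat.mul_le_mul_right _ (by omega)

/-- `T'` contains many elements of order prime to `|W₁|`. -/
theorem card_cop : Nat.card (fittingHallOf T) * D.good.card ≤
    (Finset.univ.filter fun y => y ∈ ⁅T, T⁆ ∧ (orderOf y).Coprime (Nat.card W₁)).card := by
  set H := fittingHallOf T with hH
  have hd := D.data
  have hnorm := (Subgroup.commutator_le_self T).trans (FittingHallBasic.le_normalizer_fittingHallOf T)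
  rw [show Nat.card H = (Finset.univ.filter (· ∈ H)).card by
    rw [← Fintype.card_subtype, ← Nat.card_eq_fintype_card], ← Finset.card_product]
  refine Finset.card_le_card_of_injOn (fun z => z.1 * z.2 * z.1⁻¹) ?_ ?_
  · rintro ⟨h, u⟩ hz
    simp only [good, Finset.coe_product, Set.mem_prod, Finset.mem_coe, Finset.mem_filter, Finset.mem_univ,
      true_and] at hz ⊢
    obtain ⟨hh, huV, -⟩ := hz
    refine ⟨⁅T, T⁆.mul_mem (⁅T, T⁆.mul_mem (hd.U_compl.1 hh) (hd.U_compl.2.1 huV))
      (⁅T, T⁆.inv_mem (hd.U_compl.1 hh)), ?_⟩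
    rw [← MulAut.conj_apply, (MulAut.conj h).orderOf_eq u]
    exact ((typeP_card_U_coprime hd).coprime_dvd_left D.q_dvd).symm.coprime_dvd_left
      (Subgroup.orderOf_dvd_natCard _ huV)
  · rintro ⟨h, u⟩ hz ⟨h', u'⟩ hz' e
    simp only [good, Finset.coe_product, Set.mem_prod, Finset.mem_coe, Finset.mem_filter, Finset.mem_univ,
      true_and] at hz hz' e
    obtain ⟨hh, huV, hu⟩ := hz
    obtain ⟨hh', huV', -⟩ := hz'
    set c := h'⁻¹ * h with hc
    have hcH : c ∈ H := H.mul_mem (H.inv_mem hh') hh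
    have e' : c * u * c⁻¹ = u' := by
      calc c * u * c⁻¹ = h'⁻¹ * (h * u * h⁻¹) * h' := by rw [hc]; group
        _ = u' := by rw [e]; group
    have h1 : u⁻¹ * u' ∈ H ⊓ V := by
      refine ⟨?_, V.mul_mem (V.inv_mem huV) huV'⟩
      rw [← e', show u⁻¹ * (c * u * c⁻¹) = (u⁻¹ * c * u⁻¹⁻¹) * c⁻¹ by group]
      exact H.mul_mem ((Subgroup.mem_normalizer_iff.1 (hnorm (hd.U_compl.2.1 (V.inv_mem huV))) c).1 hcH)
        (H.inv_mem hcH)
    rw [hd.U_compl.2.2.1, Subgroup.mem_bot, inv_mul_eq_one] at h1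
    subst h1
    have hc1 := hu c hcH (mul_inv_eq_iff_eq_mul.1 e').symm
    rw [hc, inv_mul_eq_one] at hc1
    exact Prod.ext hc1.symm rfl

/-- The count. -/
theorem exists_count {S K : Subgroup G} [Fintype ↥S] {R : G → Subgroup G} (C : Core S K W₁ W₂ R) :
    ∃ X : Finset G, (∀ g ∈ X, ¬ C.InS g ∧ (orderOf g).Coprime (Nat.card W₁)) ∧
      (Nat.card W₁ : ℤ) * Nat.card G < X.card * C.ke := by
  have hd := D.data
  set X := Finset.univ.filter fun g => ¬ C.InS g ∧ (orderOf g).Coprime (Nat.card W₁) with hX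
  refine ⟨X, fun g hg => (Finset.mem_filter.1 hg).2, ?_⟩
  set N := ⁅T, T⁆ with hN
  set B := Finset.univ.filter fun y => y ∈ N ∧ ¬ (orderOf y).Coprime (Nat.card W₁) with hB
  set bad' := Finset.univ.filter fun g => ¬ C.InS g ∧ ¬ (orderOf g).Coprime (Nat.card W₁) with hbad'
  have hnormT : ∀ t ∈ T, ∀ y ∈ N, t * y * t⁻¹ ∈ N := fun t ht y hy =>
    (Subgroup.mem_normalizer_iff.1 (le_normalizer_derived T ht) y).1 hy
  have hbad : bad'.card ≤ T.index * B.card := by
    haveI := Fintype.ofFinite (G ⧸ T)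
    refine (Finset.card_le_card (t := (Finset.univ ×ˢ B).image
      fun z : (G ⧸ T) × G => z.1.out * z.2 * z.1.out⁻¹) ?_).trans (Finset.card_image_le.trans ?_)
    · intro g hg
      simp only [hbad', Finset.mem_filter, Finset.mem_univ, true_and] at hg
      obtain ⟨c, hc | ⟨hw, hw2, hw1⟩⟩ := D.conj_into hg.2
      · obtain ⟨t, ht⟩ := QuotientGroup.mk_out_eq_mul T c⁻¹
        refine Finset.mem_image.2 ⟨((QuotientGroup.mk c⁻¹ : G ⧸ T), (t : G)⁻¹ * (c * g * c⁻¹) * (t : G)⁻¹⁻¹), ?_, ?_⟩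
        · simp only [hB, Finset.mem_product, Finset.mem_univ, true_and, Finset.mem_filter]
          refine ⟨hnormT _ (T.inv_mem t.2) _ hc, fun h => hg.2 ?_⟩
          rwa [← MulAut.conj_apply, (MulAut.conj (t : G)⁻¹).orderOf_eq, ← MulAut.conj_apply,
            (MulAut.conj c).orderOf_eq] at h
        · simp only [ht]
          group
      · refine absurd ?_ hg.1
        have hw' : c * g * c⁻¹ ∈ W₁ ⊔ W₂ := by rwa [sup_comm]
        exact ⟨⟨c * g * c⁻¹, C.base.W_le hw'⟩, C.V_mem (w := ⟨_, hw'⟩) ⟨hw1, hw2⟩, c, 1,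
          (R _).one_mem, by simp⟩
    · rw [Finset.card_product, Finset.card_univ, ← Nat.card_eq_fintype_card]
      rfl
  have hsum : (Finset.univ.filter fun g => C.InS g).card + bad'.card + X.card = Nat.card G := by
    rw [Nat.card_eq_fintype_card, ← Finset.card_univ,
      ← Finset.card_filter_add_card_filter_not (s := Finset.univ) (fun g => C.InS g),
      ← Finset.card_filter_add_card_filter_not (s := Finset.univ.filter fun g => ¬ C.InS g)
        (fun g => (orderOf g).Coprime (Nat.card W₁)), Finset.filter_filter, Finset.filter_filter,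
      hX, hbad']
    ring
  have hBcard : B.card + Nat.card (fittingHallOf T) * D.good.card ≤ Nat.card N := by
    refine (Nat.add_le_add_left D.card_cop _).trans ?_
    rw [show Nat.card N = (Finset.univ.filter (· ∈ N)).card by
        rw [← Fintype.card_subtype, ← Nat.card_eq_fintype_card],
      ← Finset.card_filter_add_card_filter_not (s := Finset.univ.filter (· ∈ N))
        (fun y => (orderOf y).Coprime (Nat.card W₁)), Finset.filter_filter, Finset.filter_filter, hB,
      add_comm]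
  have hidx : T.index * (Nat.card N * Nat.card W₂) = Nat.card G := by
    rw [(base_of_typeP D.hG hd).card_eq, Subgroup.index_mul_card]
  have hNH : Nat.card (fittingHallOf T) * Nat.card V = Nat.card N := card_mul_of_isComplIn hd.U_compl
  have hin := card_inS C
  have hgood := D.good_bound
  have hke : (2 : ℤ) * (Nat.card W₂ : ℤ) * (Nat.card W₁ : ℤ) ^ 2 ≤ C.ke := by
    unfold Core.ke
    have h1 : ∑ j ∈ Finset.univ.erase (j₀ : ColJ W₁ W₂), (2 * (Nat.card W₁ : ℤ) - 1) ^ 2 ≤
        ∑ j ∈ Finset.univ.erase (j₀ : ColJ W₁ W₂), C.deg j.1 ^ 2 :=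
      Finset.sum_le_sum fun j hj => pow_le_pow_left₀ (by
        have := C.three_W₁; omega) (C.deg_ge (Finset.mem_erase.1 hj).1) 2
    rw [Finset.sum_const, Finset.card_erase_of_mem (Finset.mem_univ _), Finset.card_univ, C.card_col,
      nsmul_eq_mul, Nat.cast_sub (by have := C.three_W₂; omega : 1 ≤ Nat.card W₂)] at h1
    push_cast at h1 ⊢
    have hp : (3 : ℤ) ≤ Nat.card W₂ := by exact_mod_cast C.three_W₂
    have hq : (3 : ℤ) ≤ Nat.card W₁ := by exact_mod_cast C.three_W₁
    have hm : (2 : ℤ) ≤ C.Z1.card := by exact_mod_cast C.two_Z1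
    generalize (Nat.card W₂ : ℤ) = p at *
    generalize (Nat.card W₁ : ℤ) = q at *
    generalize (C.Z1.card : ℤ) = m at *
    have e1 : (0 : ℤ) ≤ 2 * q ^ 2 - 4 * q + 1 := by nlinarith
    have e2 := mul_le_mul_of_nonneg_right hp e1
    have e3 := mul_le_mul_of_nonneg_left hm (by linarith : (0 : ℤ) ≤ q)
    have e4 : (0 : ℤ) ≤ 2 * q ^ 2 - 6 * q + 3 := by nlinarith
    linarith
  have hp3 := C.three_W₂
  have hq3 := C.three_W₁
  have hh : 0 < Nat.card (fittingHallOf T) := Nat.card_pos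
  have hi : 0 < T.index := Nat.pos_of_ne_zero Subgroup.index_ne_zero_of_finite
  generalize hP : Nat.card W₂ = p at *
  generalize hQ : Nat.card W₁ = q at *
  generalize hH' : Nat.card (fittingHallOf T) = h at *
  generalize hV' : Nat.card V = v at *
  generalize hGc : Nat.card G = Gc at *
  generalize hI : (Finset.univ.filter fun g => C.InS g).card = a at *
  generalize hb' : bad'.card = b at *
  generalize hBc : B.card = Bc at *
  generalize hg' : D.good.card = g at *
  generalize hx' : X.card = x at *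
  generalize hi' : T.index = i at *
  generalize hk' : C.ke = k at *
  rw [← hNH] at hBcard hidx
  subst hidx
  zify [show 1 ≤ q by omega, show 1 ≤ p by omega] at *
  -- `x ≥ i h (q g - v) / q`
  have h2 : (a : ℤ) * q ≤ i * (h * v) * (p + (q - 1) * (p - 1)) := by
    refine le_of_mul_le_mul_left (a := (p : ℤ)) ?_ (by linarith)
    linarith
  have h4 : (b : ℤ) * q ≤ i * (h * v - h * g) * q := by
    refine mul_le_mul_of_nonneg_right (hbad.trans (mul_le_mul_of_nonneg_left ?_ (by linarith))) (by linarith)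
    linarith
  have h5 : (i : ℤ) * h * (q * g - v) ≤ x * q := by
    have : (x : ℤ) * q = i * (h * v * p) * q - a * q - b * q := by
      rw [← hsum]; ring
    linarith
  have hgv : (0 : ℤ) < q * g - v := by
    have : (0 : ℤ) ≤ v := by positivity
    linarith
  have hkey : (q : ℤ) ^ 2 * (v * p) < (q * g - v) * k := by
    have e6 : (v : ℤ) + 1 ≤ 2 * (q * g - v) := by linarith
    have e7 := mul_le_mul e6 hke (by positivity) (by linarith)
    have e8 : (0 : ℤ) < p * q ^ 2 := by positivity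
    linarith
  have h6 := mul_lt_mul_of_pos_left hkey (show (0 : ℤ) < i * h from mul_pos (by linarith) (by linarith))
  have hk0 : (0 : ℤ) ≤ k := by
    exact le_trans (by positivity) hke
  refine lt_of_mul_lt_mul_right (a := (q : ℤ)) ?_ (by linarith)
  calc (q : ℤ) * (i * (h * v * p)) * q = i * h * (q ^ 2 * (v * p)) := by ring
    _ < i * h * ((q * g - v) * k) := h6
    _ = i * h * (q * g - v) * k := by ring
    _ ≤ x * q * k := mul_le_mul_of_nonneg_right h5 hk0
    _ = _ := by ring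

end Side

/-- The count for a partner of Type II. -/
theorem exists_count (hG : IsMinSimpleOddOrder G) {S K T W₁ W₂ V : Subgroup G} [Fintype ↥S]
    (hT : IsCoatom T) (hTP : IsTypePWith T W₂ V W₁) (hII : IsOfTypeII T) {R : G → Subgroup G}
    (C : Core S K W₁ W₂ R) :
    ∃ X : Finset G, (∀ g ∈ X, ¬ C.InS g ∧ (orderOf g).Coprime (Nat.card W₁)) ∧
      (Nat.card W₁ : ℤ) * Nat.card G < X.card * C.ke :=
  Side.exists_count ⟨hG, hT, hTP, hII⟩ C

end Cfsg.Agent.FTPCount78
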