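import Mathlib

/-!
Integer arrays `a : I → J → ℤ` satisfying the rectangle rule, with small sum of squares.
-/

set_option autoImplicit false
set_option linter.unusedSectionVars false

namespace Cfsg.Agent.FTPGrid78

open Finset

attribute [local instance] Classical.propDecidable

variable {I J : Type*} [Fintype I] [Fintype J] {i₀ : I} {j₀ : J}

/-- The rectangle rule. -/
def Rect (i₀ : I) (j₀ : J) (a : I → J → ℤ) : Prop :=
  ∀ i j, a i j + a i₀ j₀ = a i j₀ + a i₀ j

theorem sq_pos_of_ne {x : ℤ} (h : x ≠ 0) : 1 ≤ x ^ 2 := by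
  have := mul_self_pos.2 h
  nlinarith

/-- A sum over a set of a nonnegative function is at most the total. -/
theorem two_le {f : J → ℤ} {j k : J} (hjk : j ≠ k) : f j ^ 2 + f k ^ 2 ≤ ∑ x, f x ^ 2 := by
  rw [← sum_pair (f := fun x => f x ^ 2) hjk]
  exact sum_le_sum_of_subset_of_nonneg (subset_univ _) fun x _ _ => sq_nonneg _

theorem one_le_sum {f : J → ℤ} (j : J) : f j ^ 2 ≤ ∑ x, f x ^ 2 :=
  single_le_sum (f := fun x => f x ^ 2) (fun x _ => sq_nonneg _) (mem_univ j)

theorem three_le {f : J → ℤ} {j k l : J} (hjk : j ≠ k) (hjl : j ≠ l) (hkl : k ≠ l) :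
    f j ^ 2 + f k ^ 2 + f l ^ 2 ≤ ∑ x, f x ^ 2 := by
  have h : ({j, k, l} : Finset J).sum (fun x => f x ^ 2) = f j ^ 2 + f k ^ 2 + f l ^ 2 := by
    rw [sum_insert (by simp [hjk, hjl]), sum_pair hkl, add_assoc]
  rw [← h]
  exact sum_le_sum_of_subset_of_nonneg (subset_univ _) fun x _ _ => sq_nonneg _

theorem exists_third (hJ : 3 ≤ Fintype.card J) (j k : J) : ∃ l, l ≠ j ∧ l ≠ k := by
  obtain ⟨l, -, hl⟩ := exists_mem_notMem_of_card_lt_card (s := ({j, k} : Finset J)) (t := univ)
    (lt_of_le_of_lt card_le_two (by rw [card_univ]; omega))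
  simp only [mem_insert, mem_singleton, not_or] at hl
  exact ⟨l, hl⟩

/-- Arrays with `a i₀ j₀ = -1`. -/
theorem gamma_grid (hJ : 3 ≤ Fintype.card J) {a : I → J → ℤ} (ha : Rect i₀ j₀ a) (h00 : a i₀ j₀ = -1)
    {X : ℤ} (hX : 0 ≤ X) (hsum : (∑ i, ∑ j, a i j ^ 2) + X ≤ Fintype.card I) :
    (X = 0 ∧ ∀ i j, a i j = if j = j₀ then -1 else 0) ∨
      ((∀ j, a i₀ j = -1) ∧ (Fintype.card J : ℤ) + X ≤ Fintype.card I) := by
  by_cases hall : ∀ j, a i₀ j = -1
  · refine Or.inr ⟨hall, le_trans ?_ hsum⟩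
    have h1 : ∑ j, a i₀ j ^ 2 ≤ ∑ i, ∑ j, a i j ^ 2 :=
      single_le_sum (f := fun i => ∑ j, a i j ^ 2) (fun i _ => sum_nonneg fun j _ => sq_nonneg _)
        (mem_univ i₀)
    have h2 : ∑ j, a i₀ j ^ 2 = Fintype.card J := by simp [hall]
    omega
  · left
    push Not at hall
    obtain ⟨l, hl⟩ := hall
    have hlj : l ≠ j₀ := fun h => hl (h ▸ h00)
    have hrow : ∀ i, i ≠ i₀ → 1 ≤ a i j₀ ^ 2 + a i l ^ 2 := by
      intro i hi
      by_cases h : a i j₀ = 0
      · have := ha i l
        have h2 : a i l ≠ 0 := by omega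
        have := sq_pos_of_ne h2
        have := sq_nonneg (a i j₀)
        omega
      · have := sq_pos_of_ne h
        have := sq_nonneg (a i l)
        omega
    have hrows : ∀ i, 1 ≤ ∑ j, a i j ^ 2 := by
      intro i
      by_cases hi : i = i₀
      · subst hi
        have := one_le_sum (f := a i) j₀
        rw [h00] at this
        linarith
      · exact le_trans (hrow i hi) (two_le hlj.symm)
    have hI : ∑ i, (∑ j, a i j ^ 2 - 1) ≤ -X := by
      rw [sum_sub_distrib, sum_const, card_univ]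
      simp only [nsmul_eq_mul, mul_one]
      linarith
    have hz : ∀ i, ∑ j, a i j ^ 2 - 1 ≤ -X := fun i =>
      le_trans (single_le_sum (f := fun i => ∑ j, a i j ^ 2 - 1) (fun i _ => by linarith [hrows i])
        (mem_univ i)) hI
    have hX0 : X = 0 := by linarith [hz i₀, hrows i₀]
    have heq : ∀ i, ∑ j, a i j ^ 2 = 1 := fun i => by linarith [hz i, hrows i]
    have h0 : ∀ j, j ≠ j₀ → a i₀ j = 0 := by
      intro j hj
      have := two_le (f := a i₀) hj
      rw [heq i₀, h00] at this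
      nlinarith
    refine ⟨hX0, fun i j => ?_⟩
    by_cases hi : i = i₀
    · subst hi
      split_ifs with h
      · rw [h]; exact h00
      · exact h0 j h
    · have hij : ∀ j, j ≠ j₀ → a i j = a i j₀ + 1 := fun j hj => by
        have := ha i j
        rw [h00, h0 j hj] at this
        omega
      have hm : a i j₀ = -1 := by
        obtain ⟨k, hk1, hk2⟩ := exists_third hJ j₀ l
        have h3 := three_le (f := a i) (j := j₀) (k := l) (l := k) hlj.symm hk1.symm hk2.symm
        rw [heq i, hij l hlj, hij k hk1] at h3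
        nlinarith
      split_ifs with h
      · rw [h]; exact hm
      · rw [hij j h, hm]; norm_num

/-- A single cell. -/
noncomputable def E (i : I) (j : J) (x : I) (y : J) : ℤ := if x = i ∧ y = j then 1 else 0

theorem E_self (i : I) (j : J) : E i j i j = 1 := by simp [E]

theorem E_ne_right {i x : I} {j y : J} (h : y ≠ j) : E i j x y = 0 := by simp [E, h]

theorem E_ne_left {i x : I} {j y : J} (h : x ≠ i) : E i j x y = 0 := by simp [E, h]

/-- Difference of two cells in a row plus a rectangle array, with at most two units. -/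
theorem delta_grid (hI : 3 ≤ Fintype.card I) (hJ : 3 ≤ Fintype.card J) {b : I → J → ℤ}
    (hb : Rect i₀ j₀ b) (h00 : b i₀ j₀ = 0) {ε : ℤ} (hε : ε = 1 ∨ ε = -1) (i : I) {l l' : J}
    (hll : l ≠ l') (hl : l ≠ j₀) (hl' : l' ≠ j₀)
    (hsum : ∑ x, ∑ y, (ε * E i l x y - ε * E i l' x y + b x y) ^ 2 ≤ 2) : ∀ x y, b x y = 0 := by
  set a := fun x y => ε * E i l x y - ε * E i l' x y + b x y with ha
  have hεne : ε ≠ 0 := by rcases hε with h | h <;> omega
  have hrow : ∀ x, x ≠ i → ∀ y, a x y = b x y := fun x hx y => by simp [ha, E_ne_left hx]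
  have hcell : ∀ x y, b x y = b x j₀ + b i₀ y := fun x y => by
    have := hb x y; rw [h00, add_zero] at this; exact this
  have hai : a i j₀ = b i j₀ := by simp [ha, E_ne_right hl.symm, E_ne_right hl'.symm]
  have hail : a i l = ε + b i l := by simp [ha, E_self, E_ne_right hll]
  have hail' : a i l' = -ε + b i l' := by simp [ha, E_self, E_ne_right hll.symm]
  by_cases hc : ∀ y, b i₀ y = 0
  · have hr : ∀ x, b x j₀ = 0 := by
      intro x
      by_contra hne
      obtain ⟨k, hk1, hk2⟩ := exists_third hJ l l'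
      have hs : ∑ y, a x y ^ 2 ≤ 2 := le_trans (single_le_sum (f := fun x => ∑ y, a x y ^ 2)
        (fun x _ => sum_nonneg fun y _ => sq_nonneg _) (mem_univ x)) hsum
      have h3 := three_le (f := a x) (j := j₀) (k := l) (l := l') hl.symm hl'.symm hll
      by_cases hx : x = i
      · subst hx
        rw [hai, hail, hail', hcell x l, hcell x l', hc l, hc l', add_zero] at h3
        have := sq_pos_of_ne hne
        rcases hε with h | h <;> subst h <;> nlinarith
      · rw [hrow x hx, hrow x hx, hrow x hx, hcell x l, hcell x l', hc l, hc l', add_zero] at h3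
        have := sq_pos_of_ne hne
        nlinarith
    exact fun x y => by rw [hcell, hr, hc, add_zero]
  · exfalso
    push Not at hc
    obtain ⟨c, hc⟩ := hc
    have hcj : c ≠ j₀ := fun h => hc (h ▸ h00)
    have hone : ∀ x, x ≠ i → 1 ≤ ∑ y, a x y ^ 2 := by
      intro x hx
      have h := two_le (f := a x) hcj
      rw [hrow x hx, hrow x hx, hcell x c] at h
      by_cases h0 : b x j₀ = 0
      · rw [h0, zero_add] at h
        have := sq_pos_of_ne hc
        nlinarith
      · have := sq_pos_of_ne h0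
        nlinarith [sq_nonneg (b x j₀ + b i₀ c)]
    obtain ⟨k, hki, hki0⟩ := exists_third hI i i₀
    obtain ⟨k', hk'i, hk'k⟩ := exists_third hI i k
    have hsplit : (∑ y, a i y ^ 2) + ((∑ y, a k y ^ 2) + ∑ y, a k' y ^ 2) ≤ 2 := by
      refine le_trans ?_ hsum
      have h : ({i, k, k'} : Finset I).sum (fun x => ∑ y, a x y ^ 2) =
          (∑ y, a i y ^ 2) + ((∑ y, a k y ^ 2) + ∑ y, a k' y ^ 2) := by
        rw [sum_insert (by simp [hki.symm, hk'i.symm]), sum_pair hk'k.symm]
      rw [← h]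
      exact sum_le_sum_of_subset_of_nonneg (subset_univ _)
        fun x _ _ => sum_nonneg fun y _ => sq_nonneg _
    have hnn : 0 ≤ ∑ y, a i y ^ 2 := sum_nonneg fun y _ => sq_nonneg _
    have hi0 : ∑ y, a i y ^ 2 = 0 := by linarith [hone k hki, hone k' hk'i]
    have hk1 : ∑ y, a k y ^ 2 = 1 := by linarith [hone k hki, hone k' hk'i]
    have hzero : ∀ y, a i y = 0 := fun y => by
      have := one_le_sum (f := a i) y
      rw [hi0] at this
      nlinarith [sq_nonneg (a i y)]
    have e0 := hzero j₀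
    have e1 := hzero l
    have e2 := hzero l'
    rw [hai] at e0
    rw [hail, hcell, e0, zero_add] at e1
    rw [hail', hcell, e0, zero_add] at e2
    have h3 := three_le (f := a k) (j := j₀) (k := l) (l := l') hl.symm hl'.symm hll
    rw [hk1, hrow k hki, hrow k hki, hrow k hki, hcell k l, hcell k l'] at h3
    rcases hε with h | h <;> subst h <;>
    · have hl1 : b i₀ l = - _ := eq_neg_of_add_eq_zero_right e1
      have hl2 : b i₀ l' = - _ := eq_neg_of_add_eq_zero_right e2
      rw [hl1, hl2] at h3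
      nlinarith

/-- Two cells in the first row plus a rectangle array, with at most two units. -/
theorem alpha_grid (hI : 3 ≤ Fintype.card I) (hJ : 3 ≤ Fintype.card J) {b : I → J → ℤ}
    (hb : Rect i₀ j₀ b) (h00 : b i₀ j₀ = 0) {ε : ℤ} (hε : ε = 1 ∨ ε = -1) {l : J} (hl : l ≠ j₀)
    (hsum : ∑ x, ∑ y, (ε * E i₀ l x y - ε * E i₀ j₀ x y + b x y) ^ 2 ≤ 2) : ∀ x y, b x y = 0 := by
  set a := fun x y => ε * E i₀ l x y - ε * E i₀ j₀ x y + b x y with ha
  have hε2 : ε ^ 2 = 1 := by rcases hε with h | h <;> subst h <;> norm_num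
  have hrow : ∀ x, x ≠ i₀ → ∀ y, a x y = b x y := fun x hx y => by simp [ha, E_ne_left hx]
  have hcell : ∀ x y, b x y = b x j₀ + b i₀ y := fun x y => by
    have := hb x y; rw [h00, add_zero] at this; exact this
  have ha0 : a i₀ j₀ = -ε := by simp [ha, E_self, E_ne_right hl.symm, h00]
  have hal : a i₀ l = ε + b i₀ l := by simp [ha, E_self, E_ne_right hl]
  have hak : ∀ y, y ≠ l → y ≠ j₀ → a i₀ y = b i₀ y := fun y h1 h2 => by
    simp [ha, E_ne_right h1, E_ne_right h2]
  have htwo : ∀ x, x ≠ i₀ → (∑ y, a i₀ y ^ 2) + ∑ y, a x y ^ 2 ≤ 2 := fun x hx => by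
    refine le_trans ?_ hsum
    rw [← sum_pair (f := fun x => ∑ y, a x y ^ 2) hx.symm]
    exact sum_le_sum_of_subset_of_nonneg (subset_univ _) fun x _ _ => sum_nonneg fun y _ => sq_nonneg _
  obtain ⟨k, hk1, hk2⟩ := exists_third hJ l j₀
  have h0row : ∀ y, y ≠ j₀ → 1 + a i₀ y ^ 2 ≤ ∑ z, a i₀ z ^ 2 := fun y hy => by
    have := two_le (f := a i₀) hy.symm
    rw [ha0, neg_sq, hε2] at this
    exact this
  have hr : ∀ x, b x j₀ = 0 := by
    intro x
    by_cases hx : x = i₀
    · rw [hx]; exact h00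
    by_contra hne
    have hx1 : 1 ≤ b x j₀ ^ 2 := sq_pos_of_ne hne
    have hxj : b x j₀ ^ 2 ≤ ∑ y, a x y ^ 2 := by
      have := one_le_sum (f := a x) j₀
      rwa [hrow x hx] at this
    have hz : ∀ y, y ≠ j₀ → a i₀ y = 0 := fun y hy => by
      have := h0row y hy
      have := htwo x hx
      nlinarith [sq_nonneg (a i₀ y)]
    have h2 := two_le (f := a x) hk2.symm
    rw [hrow x hx, hrow x hx, hcell x k, show b i₀ k = 0 by rw [← hak k hk1 hk2]; exact hz k hk2,
      add_zero] at h2
    have := htwo x hx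
    have := h0row k hk2
    nlinarith [sq_nonneg (a i₀ k)]
  have hc : ∀ y, y ≠ j₀ → b i₀ y = 0 := by
    intro y hy
    by_contra hne
    obtain ⟨x, hx, -⟩ := exists_third hI i₀ i₀
    obtain ⟨x', hx', hxx⟩ := exists_third hI i₀ x
    have hone : ∀ z, z ≠ i₀ → 1 ≤ ∑ w, a z w ^ 2 := fun z hz => by
      have := one_le_sum (f := a z) y
      rw [hrow z hz, hcell z y, hr z, zero_add] at this
      linarith [sq_pos_of_ne hne]
    have hsplit : (∑ w, a i₀ w ^ 2) + ((∑ w, a x w ^ 2) + ∑ w, a x' w ^ 2) ≤ 2 := by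
      refine le_trans ?_ hsum
      have h : ({i₀, x, x'} : Finset I).sum (fun z => ∑ w, a z w ^ 2) =
          (∑ w, a i₀ w ^ 2) + ((∑ w, a x w ^ 2) + ∑ w, a x' w ^ 2) := by
        rw [sum_insert (by simp [hx.symm, hx'.symm]), sum_pair hxx.symm]
      rw [← h]
      exact sum_le_sum_of_subset_of_nonneg (subset_univ _)
        fun z _ _ => sum_nonneg fun w _ => sq_nonneg _
    linarith [hone x hx, hone x' hx', h0row k hk2, sq_nonneg (a i₀ k)]
  intro u v
  rw [hcell, hr]
  by_cases hv : v = j₀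
  · rw [hv, h00, add_zero]
  · rw [hc v hv, add_zero]

end Cfsg.Agent.FTPGrid78

namespace Cfsg.Agent.FTPGrid78

open Finset

attribute [local instance] Classical.propDecidable

variable {I J : Type*} [Fintype I] [Fintype J] {i₀ : I} {j₀ : J}

/-- A rectangle array with zero corner and at most two units vanishes. -/
theorem small_grid (hI : 3 ≤ Fintype.card I) (hJ : 3 ≤ Fintype.card J) {a : I → J → ℤ}
    (ha : Rect i₀ j₀ a) (h00 : a i₀ j₀ = 0) (hsum : ∑ x, ∑ y, a x y ^ 2 ≤ 2) : ∀ x y, a x y = 0 := by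
  have hcell : ∀ x y, a x y = a x j₀ + a i₀ y := fun x y => by
    have := ha x y; rw [h00, add_zero] at this; exact this
  have hcol : ∀ y, ∑ x, a x y ^ 2 ≤ 2 := fun y =>
    le_trans (sum_le_sum fun x _ => one_le_sum (f := a x) y) hsum
  have hrw : ∀ x, ∑ y, a x y ^ 2 ≤ 2 := fun x =>
    le_trans (single_le_sum (f := fun x => ∑ y, a x y ^ 2) (fun x _ => sum_nonneg fun y _ => sq_nonneg _)
      (mem_univ x)) hsum
  have hc : ∀ y, a i₀ y = 0 := by
    intro y
    by_contra hne
    obtain ⟨x, hx, -⟩ := exists_third hI i₀ i₀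
    obtain ⟨x', hx', hxx⟩ := exists_third hI i₀ x
    have h1 : ∀ z, 1 ≤ ∑ w, a z w ^ 2 := fun z => by
      have h := two_le (f := a z) (j := j₀) (k := y) (fun e => hne (e ▸ h00))
      rw [hcell z y] at h
      by_cases h0 : a z j₀ = 0
      · rw [h0, zero_add] at h
        have := sq_pos_of_ne hne
        nlinarith
      · have := sq_pos_of_ne h0
        nlinarith [sq_nonneg (a z j₀ + a i₀ y)]
    have h3 : ({i₀, x, x'} : Finset I).sum (fun z => ∑ w, a z w ^ 2) ≤ 2 :=
      le_trans (sum_le_sum_of_subset_of_nonneg (subset_univ _)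
        fun z _ _ => sum_nonneg fun w _ => sq_nonneg _) hsum
    rw [sum_insert (by simp [hx.symm, hx'.symm]), sum_pair hxx.symm] at h3
    linarith [h1 i₀, h1 x, h1 x']
  have hr : ∀ x, a x j₀ = 0 := by
    intro x
    by_contra hne
    obtain ⟨y, hy, -⟩ := exists_third hJ j₀ j₀
    obtain ⟨y', hy', hyy⟩ := exists_third hJ j₀ y
    have h3 := three_le (f := a x) hy.symm hy'.symm hyy.symm
    rw [hcell x y, hcell x y', hc y, hc y', add_zero] at h3
    linarith [hrw x, sq_pos_of_ne hne]
  intro x y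
  rw [hcell, hr, hc, add_zero]

end Cfsg.Agent.FTPGrid78
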