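import Cfsg.Agent.Lib.FTPTau78
import Cfsg.Agent.Lib.CharInducedClifford
import Cfsg.Agent.Lib.FourCoherence

/-!
Restrictions of the exceptional characters of `M` to `K`, the characters induced from linear characters of `K`,
and the basic test functions on `M`.
-/

set_option autoImplicit false
set_option linter.unusedSectionVars false

open scoped ComplexConjugate

namespace Cfsg.Agent.FTPMu78

open Cfsg
open Cfsg.Agent.CharBasic Cfsg.Agent.CharBasicOrth Cfsg.Agent.CharBasicDecomp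
open Cfsg.Agent.CyclicTI Cfsg.Agent.FTPBase78 Cfsg.Agent.FTPGrid78 Cfsg.Agent.FTPTau78

attribute [local instance] Classical.propDecidable

universe u

theorem sum_hom_eq_zero {X : Type*} [Group X] [Fintype X] {χ : X →* ℂˣ} (h : χ ≠ 1) :
    ∑ x, (χ x : ℂ) = 0 := by
  obtain ⟨b, hb⟩ : ∃ b, χ b ≠ 1 := by
    by_contra hh
    push Not at hh
    exact h (MonoidHom.ext hh)
  have h1 : ∑ x, (χ x : ℂ) = (χ b : ℂ) * ∑ x, (χ x : ℂ) := by
    conv_lhs => rw [← Equiv.sum_comp (Equiv.mulLeft b)]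
    rw [Finset.mul_sum]
    exact Finset.sum_congr rfl fun x _ => by simp
  have h2 : ((χ b : ℂ) - 1) * ∑ x, (χ x : ℂ) = 0 := by linear_combination -h1
  exact (mul_eq_zero.1 h2).resolve_left (sub_ne_zero.2 fun e => hb (Units.val_eq_one.1 e))

variable {G : Type u} [Group G] [Fintype G] {M K W₁ W₂ : Subgroup G} {R : G → Subgroup G}

/-- A configuration with `W₂ ≤ K' < K`. -/
structure Core (M K W₁ W₂ : Subgroup G) (R : G → Subgroup G) : Prop extends PCtx M K W₁ W₂ R where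
  W₂der : W₂ ≤ ⁅K, K⁆
  Kder : ⁅K, K⁆ ≠ K

namespace Core

variable [Fintype ↥M]

/-- The chosen exceptional data. -/
noncomputable def mu (C : Core M K W₁ W₂ R) : Mu C.base := Classical.choice (exists_mu C.base)

variable (C : Core M K W₁ W₂ R)
include C

theorem KM_normal : (K.subgroupOf M).Normal := Subgroup.normal_subgroupOf_of_le_normalizer C.base.normal

theorem card_KM : Nat.card (K.subgroupOf M) = Nat.card K :=
  Nat.card_congr (Subgroup.subgroupOfEquivOfLe C.base.K_le).toEquiv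

theorem index_KM : (K.subgroupOf M).index = Nat.card W₁ := by
  have h := (K.subgroupOf M).index_mul_card
  rw [C.card_KM, ← C.base.card_eq, mul_comm (Nat.card K)] at h
  exact Nat.eq_of_mul_eq_mul_right Nat.card_pos h

theorem card_M : (Nat.card ↥M : ℂ) = (Nat.card (K.subgroupOf M) : ℂ) * Nat.card W₁ := by
  rw [C.card_KM, ← C.base.card_eq]; push_cast; rfl

theorem oddM : Odd (Nat.card ↥M) := C.base.odd_card M

/-- Sign as an integer. -/
noncomputable def dz (ω : ↥(W₁ ⊔ W₂) →* ℂˣ) : ℤ := if C.mu.δ ω = 1 then 1 else -1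

theorem dz_cases (ω : ↥(W₁ ⊔ W₂) →* ℂˣ) : C.dz ω = 1 ∨ C.dz ω = -1 := by
  unfold dz; split_ifs <;> simp

theorem dz_cast (ω : ↥(W₁ ⊔ W₂) →* ℂˣ) : (C.dz ω : ℂ) = C.mu.δ ω := by
  rcases C.mu.sign ω with h | h
  · simp [dz, h]
  · have : ¬ C.mu.δ ω = 1 := by rw [h]; norm_num
    simp only [dz, if_neg this, h]; norm_num

theorem dz_mul (ω : ↥(W₁ ⊔ W₂) →* ℂˣ) : C.dz ω * C.dz ω = 1 := by
  rcases C.dz_cases ω with h | h <;> rw [h] <;> rfl

/-- The multiple. -/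
noncomputable def nn (ω : ↥(W₁ ⊔ W₂) →* ℂˣ) : ℤ := Classical.choose (C.mu.int ω)

/-- The degree. -/
noncomputable def deg (ω : ↥(W₁ ⊔ W₂) →* ℂˣ) : ℤ := C.dz ω + C.nn ω * (Nat.card W₁ : ℤ)

theorem mu_one_apply (ω : ↥(W₁ ⊔ W₂) →* ℂˣ) : C.mu.μ ω 1 = (C.deg ω : ℂ) := by
  rw [deg]; push_cast
  have h : C.mu.μ ω 1 - C.mu.δ ω = (C.nn ω : ℂ) * (Nat.card W₁ : ℂ) := Classical.choose_spec (C.mu.int ω)
  rw [C.dz_cast]; linear_combination h

theorem deg_pos_odd (ω : ↥(W₁ ⊔ W₂) →* ℂˣ) : 0 < C.deg ω ∧ Odd (C.deg ω) := by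
  obtain ⟨d, -, hd, hdvd⟩ := CharBasicInt.exists_apply_one_dvd_card (C.mu.irr ω)
  have he : C.deg ω = (d : ℤ) := by
    have := C.mu_one_apply ω
    rw [hd] at this
    exact_mod_cast this.symm
  have hpos : 0 < d := Nat.pos_of_ne_zero fun h => isIrrCharacter_apply_one_ne_zero (C.mu.irr ω) (by
    rw [hd, h, Nat.cast_zero])
  rw [he]
  exact ⟨by exact_mod_cast hpos, by exact_mod_cast C.oddM.of_dvd_nat hdvd⟩

theorem nn_even (ω : ↥(W₁ ⊔ W₂) →* ℂˣ) : Even (C.nn ω) := by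
  have h := (C.deg_pos_odd ω).2
  have hq : Odd (Nat.card W₁ : ℤ) := by exact_mod_cast C.base.odd_card W₁
  by_contra hn
  rw [Int.not_even_iff_odd] at hn
  have hp : Odd (C.nn ω * (Nat.card W₁ : ℤ)) := hn.mul hq
  rw [deg] at h
  rcases C.dz_cases ω with e | e <;> rw [e] at h <;>
    obtain ⟨a, ha⟩ := h <;> obtain ⟨b, hb⟩ := hp <;> omega

/-- A class function on `M` restricted to `K`. -/
def res (_C : Core M K W₁ W₂ R) (χ : ↥M → ℂ) : ↥(K.subgroupOf M) → ℂ := fun k => χ k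

theorem sum_K_eq [Fintype ↥(K.subgroupOf M)] [Fintype ↥K] (F : ↥M → ℂ) :
    ∑ k : ↥(K.subgroupOf M), F k = ∑ c : K, F ⟨c, C.base.K_le c.2⟩ :=
  Fintype.sum_equiv (Subgroup.subgroupOfEquivOfLe C.base.K_le).toEquiv
    (fun k : ↥(K.subgroupOf M) => F k) _ fun _ => rfl

theorem sum_out_eq [Fintype ↥(K.subgroupOf M)] [Fintype ↥(W₁ ⊔ W₂)] {F : ↥M → ℂ}
    (hF : IsClassFunction ↥M F) :
    ∑ x : ↥M, F x = (∑ k : ↥(K.subgroupOf M), F k) + ((W₂.relIndex K : ℕ) : ℂ) *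
        ∑ w : {w : ↥(W₁ ⊔ W₂) // (w : G) ∉ W₂}, F ⟨w.1, C.base.W_le w.1.2⟩ := by
  haveI : Fintype ↥K := Fintype.ofFinite _
  rw [C.base.sum_eq hF, C.sum_K_eq]

theorem relIndex_mul : (W₂.relIndex K : ℕ) * Nat.card W₂ = Nat.card K := by
  rw [← Nat.card_congr (Subgroup.subgroupOfEquivOfLe C.base.W₂le).toEquiv]
  exact Subgroup.index_mul_card _

/-- Sum over `W \ W₂` of a linear character that is trivial on `W₁`. -/
theorem sum_compl [Fintype ↥(W₁ ⊔ W₂)] (χ : ↥(W₁ ⊔ W₂) →* ℂˣ) (hχ : TrivOn W₁ χ) :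
    ∑ w : {w : ↥(W₁ ⊔ W₂) // (w : G) ∉ W₂}, (χ w.1 : ℂ) =
      if χ = 1 then (((Nat.card W₁ - 1) * Nat.card W₂ : ℕ) : ℂ) else 0 := by
  split_ifs with h
  · subst h
    simp only [MonoidHom.one_apply, Units.val_one, Finset.sum_const, Finset.card_univ, nsmul_eq_mul, mul_one]
    rw [← Nat.card_eq_fintype_card, C.base.card_out]
  · have h1 := sum_hom_eq_zero h
    rw [← Fintype.sum_subtype_add_sum_subtype (fun w : ↥(W₁ ⊔ W₂) => (w : G) ∈ W₂) (fun w => (χ w : ℂ))] at h1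
    set χ₂ : ↥W₂ →* ℂˣ := χ.comp (Subgroup.inclusion le_sup_right) with hχ₂
    have h2 : χ₂ ≠ 1 := fun e => h (eq_one_of_triv_both (hdisj C.base.sn) (hcomm C.base.sn) hχ fun w hw => by
      have := DFunLike.congr_fun e ⟨(w : G), hw⟩
      rw [show w = Subgroup.inclusion le_sup_right (⟨(w : G), hw⟩ : ↥W₂) from Subtype.ext rfl]
      exact this)
    haveI : Fintype ↥W₂ := Fintype.ofFinite _
    have h3 : ∑ w : {w : ↥(W₁ ⊔ W₂) // (w : G) ∈ W₂}, (χ w.1 : ℂ) = 0 := by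
      rw [← sum_hom_eq_zero h2]
      exact Fintype.sum_equiv
        { toFun := fun w => ⟨(w.1 : G), w.2⟩, invFun := fun b => ⟨Subgroup.inclusion le_sup_right b, b.2⟩,
          left_inv := fun w => rfl, right_inv := fun b => rfl } _ _ fun w => rfl
    rw [h3, zero_add] at h1
    exact h1

/-- `θ_j`: the restriction of `μ j` to `K`. -/
noncomputable def th (j : ColJ W₁ W₂) : ↥(K.subgroupOf M) → ℂ := C.res (C.mu.μ j.1)

theorem th_one (j : ColJ W₁ W₂) : C.th j 1 = (C.deg j.1 : ℂ) := C.mu_one_apply j.1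

theorem th_orth [Fintype ↥(K.subgroupOf M)] (j j' : ColJ W₁ W₂) :
    Cfsg.classInner (C.th j) (C.th j') = if j = j' then 1 else 0 := by
  haveI : Fintype ↥(W₁ ⊔ W₂) := Fintype.ofFinite _
  set F : ↥M → ℂ := fun x => C.mu.μ j.1 x * conj (C.mu.μ j'.1 x) with hF
  have hcl : IsClassFunction ↥M F := fun g h => by
    simp only [hF, isClassFunction_of_isCharacter (isCharacter_of_isIrrCharacter (C.mu.irr j.1)) g h,
      isClassFunction_of_isCharacter (isCharacter_of_isIrrCharacter (C.mu.irr j'.1)) g h]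
  have hsum : ∑ x, F x = if j = j' then (Nat.card ↥M : ℂ) else 0 := by
    rw [show ∑ x, F x = (Nat.card ↥M : ℂ) * Cfsg.classInner (C.mu.μ j.1) (C.mu.μ j'.1) from
      (card_mul_classInner _ _).symm, classInner_irr _ _ (C.mu.irr _) (C.mu.irr _)]
    by_cases h : j = j'
    · simp [h]
    · have : C.mu.μ j.1 ≠ C.mu.μ j'.1 := fun e => h (Subtype.ext (C.mu.inj e))
      simp [h, this]
  set χ : ↥(W₁ ⊔ W₂) →* ℂˣ := j.1 * j'.1⁻¹ with hχd
  have hχ : TrivOn W₁ χ := fun w hw => by simp [hχd, j.2 w hw, j'.2 w hw]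
  have hχ1 : χ = 1 ↔ j = j' := by
    refine ⟨fun e => Subtype.ext (MonoidHom.ext fun w => ?_), fun e => MonoidHom.ext fun w => by simp [hχd, e]⟩
    have := DFunLike.congr_fun e w
    simpa [hχd, mul_inv_eq_one] using this
  have hout : ∑ w : {w : ↥(W₁ ⊔ W₂) // (w : G) ∉ W₂}, F ⟨w.1, C.base.W_le w.1.2⟩ =
      (C.mu.δ j.1 * C.mu.δ j'.1) * ∑ w : {w : ↥(W₁ ⊔ W₂) // (w : G) ∉ W₂}, (χ w.1 : ℂ) := by
    rw [Finset.mul_sum]
    refine Finset.sum_congr rfl fun w _ => ?_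
    simp only [hF, C.mu.val _ w.1 w.2, map_mul, C.mu.sign_conj, hχd, MonoidHom.mul_apply,
      MonoidHom.inv_apply, Units.val_mul, Units.val_inv_eq_inv_val,
      Complex.inv_eq_conj (norm_linear j'.1 w.1)]
    ring
  rw [C.sum_out_eq hcl, hout, C.sum_compl χ hχ] at hsum
  have hinner : (Nat.card (K.subgroupOf M) : ℂ) * Cfsg.classInner (C.th j) (C.th j') =
      ∑ k : ↥(K.subgroupOf M), F k := card_mul_classInner _ _
  have hK : (Nat.card (K.subgroupOf M) : ℂ) ≠ 0 := Nat.cast_ne_zero.2 Nat.card_pos.ne'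
  rw [← hinner] at hsum
  by_cases h : j = j'
  · rw [if_pos h, if_pos (hχ1.2 h), h, C.mu.sign_mul, C.card_M] at hsum
    rw [if_pos h]
    obtain ⟨q, hq⟩ := Nat.exists_eq_add_one.2 (Nat.card_pos (α := W₁))
    have hrel : (W₂.relIndex K : ℂ) * (Nat.card W₂ : ℂ) = (Nat.card (K.subgroupOf M) : ℂ) := by
      rw [C.card_KM]; exact_mod_cast C.relIndex_mul
    rw [hq, Nat.add_sub_cancel] at hsum
    push_cast at hsum
    refine mul_left_cancel₀ hK ?_
    rw [← h] at hsum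
    rw [← h]
    linear_combination hsum - (q : ℂ) * hrel
  · rw [if_neg h, if_neg (fun e => h (hχ1.1 e)), mul_zero, mul_zero, add_zero] at hsum
    rw [if_neg h]
    exact (mul_eq_zero.1 hsum).resolve_left hK

theorem th_irr [Fintype ↥(K.subgroupOf M)] (j : ColJ W₁ W₂) : IsIrrCharacter ↥(K.subgroupOf M) (C.th j) :=
  isIrrCharacter_iff.2 ⟨CharInduced.isCharacter_res _ (isCharacter_of_isIrrCharacter (C.mu.irr _)),
    by rw [C.th_orth, if_pos rfl]⟩

theorem th_inj : Function.Injective C.th := fun j j' h => by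
  haveI : Fintype ↥(K.subgroupOf M) := Fintype.ofFinite _
  have h1 := C.th_orth j j
  rw [if_pos rfl] at h1
  have h2 := C.th_orth j j'
  rw [← h, h1] at h2
  by_contra hne
  rw [if_neg hne] at h2
  exact one_ne_zero h2

/-- An irreducible character of `K` is some `θ_j` or induces irreducibly. -/
theorem th_or_irr {θ : ↥(K.subgroupOf M) → ℂ} (hθ : IsIrrCharacter ↥(K.subgroupOf M) θ) :
    (∃ j, θ = C.th j) ∨ IsIrrCharacter ↥M (Cfsg.indFun (K.subgroupOf M) θ) := by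
  haveI : Fintype ↥(K.subgroupOf M) := Fintype.ofFinite _
  haveI hN : (K.subgroupOf M).Normal := C.KM_normal
  haveI := C.base.W₁c
  haveI := C.base.W₂c
  have B := C.base
  have hd : K.subgroupOf M ⊓ W₁.subgroupOf M = ⊥ := by
    rw [← le_bot_iff]
    rintro x ⟨h1, h2⟩
    have : (x : G) ∈ K ⊓ W₁ := ⟨h1, h2⟩
    rw [B.disj] at this
    exact Subtype.ext this
  have hs : K.subgroupOf M ⊔ W₁.subgroupOf M = ⊤ := top_unique fun x _ => by
    obtain ⟨a, ha, b, hb, hab⟩ := B.compl.2.2.2 x x.2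
    rw [show x = ⟨a, B.K_le ha⟩ * ⟨b, B.W₁_le hb⟩ from Subtype.ext hab]
    exact Subgroup.mul_mem_sup ha hb
  have hc1 : Nat.card (W₁.subgroupOf M) = Nat.card W₁ :=
    Nat.card_congr (Subgroup.subgroupOfEquivOfLe B.W₁_le).toEquiv
  have hidx : (W₁.subgroupOf M).index = Nat.card K := by
    have := (W₁.subgroupOf M).index_mul_card
    rw [hc1, ← B.card_eq] at this
    exact Nat.eq_of_mul_eq_mul_right Nat.card_pos this
  have hne1 : W₁.subgroupOf M ≠ ⊥ := fun h => B.W₁_ne (by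
    rw [← Subgroup.map_subgroupOf_eq_of_le B.W₁_le, h, Subgroup.map_bot])
  have hne2 : W₂.subgroupOf M ≠ ⊥ := fun h => B.W₂_ne (by
    rw [← Subgroup.map_subgroupOf_eq_of_le B.W₂_le, h, Subgroup.map_bot])
  have hC : ∀ x ∈ W₁.subgroupOf M, x ≠ 1 →
      K.subgroupOf M ⊓ Subgroup.centralizer ({x} : Set ↥M) = W₂.subgroupOf M := by
    intro x hx hx1
    ext z
    rw [Subgroup.mem_inf, Subgroup.mem_subgroupOf, Subgroup.mem_subgroupOf,
      Subgroup.mem_centralizer_singleton_iff, ← B.cent x hx (fun h => hx1 (Subtype.ext h)),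
      Subgroup.mem_inf, Subgroup.mem_centralizer_singleton_iff, Subtype.ext_iff]
    rfl
  have hsup : (W₁ ⊔ W₂).subgroupOf M = W₁.subgroupOf M ⊔ W₂.subgroupOf M :=
    Subgroup.subgroupOf_sup B.W₁_le B.W₂_le
  have hoddW : Odd (Nat.card ↥(W₁.subgroupOf M ⊔ W₂.subgroupOf M)) := by
    rw [← hsup, Nat.card_congr (Subgroup.subgroupOfEquivOfLe B.W_le).toEquiv]; exact B.odd_card _
  obtain ⟨h1, h2, -⟩ := S1513.result (K.subgroupOf M) (W₁.subgroupOf M) (W₂.subgroupOf M) hd hs hne1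
    (isCyclic_of_surjective _ (Subgroup.subgroupOfEquivOfLe B.W₁_le).symm.surjective)
    (by rw [hidx, hc1]; exact B.hall) hne2
    (isCyclic_of_surjective _ (Subgroup.subgroupOfEquivOfLe B.W₂_le).symm.surjective)
    (fun x hx => B.W₂le hx) hC hoddW
  by_cases hinv : ∀ x ∈ W₁.subgroupOf M, (fun k : ↥(K.subgroupOf M) =>
      θ ⟨x * k * x⁻¹, hN.conj_mem (k : ↥M) k.2 x⟩) = θ
  · left
    have hf : ∀ j, ∀ x ∈ W₁.subgroupOf M, (fun k : ↥(K.subgroupOf M) =>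
        C.th j ⟨x * k * x⁻¹, hN.conj_mem (k : ↥M) k.2 x⟩) = C.th j := fun j x _ => funext fun k =>
      isClassFunction_of_isCharacter (isCharacter_of_isIrrCharacter (C.mu.irr j.1)) (k : ↥M) x
    let f : ColJ W₁ W₂ → {θ : Cfsg.IrrCharacter ↥(K.subgroupOf M) // ∀ x ∈ W₁.subgroupOf M,
        (fun k : ↥(K.subgroupOf M) => (θ : ↥(K.subgroupOf M) → ℂ)
          ⟨x * k * x⁻¹, hN.conj_mem (k : ↥M) k.2 x⟩) = θ} := fun j => ⟨⟨C.th j, C.th_irr j⟩, hf j⟩
    haveI := finite_irrCharacter (G := ↥(K.subgroupOf M))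
    have hbij : Function.Bijective f := (Nat.bijective_iff_injective_and_card f).2
      ⟨fun j j' h => C.th_inj (congrArg (fun z => (z.1 : ↥(K.subgroupOf M) → ℂ)) h), by
        rw [h2, Nat.card_congr (Subgroup.subgroupOfEquivOfLe B.W₂_le).toEquiv]
        exact CyclicTIExist.card_trivOn₁ B.sn⟩
    obtain ⟨j, hj⟩ := hbij.2 ⟨⟨θ, hθ⟩, hinv⟩
    exact ⟨j, (congrArg (fun z => (z.1 : ↥(K.subgroupOf M) → ℂ)) hj).symm⟩
  · right
    push Not at hinv
    exact h1 θ hθ hinv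

/-- Linear characters of `K` are trivial on `W₂`. -/
theorem lam_W₂ (l : ↥(K.subgroupOf M) →* ℂˣ) (w : ↥(K.subgroupOf M)) (hw : ((w : ↥M) : G) ∈ W₂) :
    l w = 1 := by
  set e := Subgroup.subgroupOfEquivOfLe C.base.K_le
  have h := C.W₂der hw
  rw [← Subgroup.map_subtype_commutator] at h
  obtain ⟨c, hc, hcw⟩ := h
  have h2 : e w = c := Subtype.ext hcw.symm
  have h3 : c ∈ (l.comp e.symm.toMonoidHom).ker := Abelianization.commutator_subset_ker _ hc
  rw [MonoidHom.mem_ker, MonoidHom.comp_apply, ← h2] at h3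
  simpa using h3

/-- The only linear `θ_j` is the principal one. -/
theorem th_linear {j : ColJ W₁ W₂} {l : ↥(K.subgroupOf M) →* ℂˣ}
    (h : C.th j = fun k => (l k : ℂ)) : j = j₀ := by
  have hμ1 : C.mu.μ j.1 1 = 1 := by
    rw [show C.mu.μ j.1 1 = C.th j 1 from rfl, h]; simp
  obtain ⟨ν, hν⟩ := CharBasicLinear.exists_hom_of_apply_one_eq_one
    (isCharacter_of_isIrrCharacter (C.mu.irr j.1)) hμ1
  obtain ⟨x, hx, hx1, hx2⟩ := C.base.exists_W₁_elt
  have hval : ∀ y ∈ W₁, y ≠ 1 → ∀ hy : y ∈ M, (ν ⟨y, hy⟩ : ℂ) = C.mu.δ j.1 := fun y hy hy1 hyM => by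
    have e := C.mu.val j.1 ⟨y, Subgroup.mem_sup_left hy⟩ (C.base.W₁_not_W₂ hy hy1)
    rw [j.2 _ hy, Units.val_one, mul_one, hν] at e
    exact e
  have hxM := C.base.W₁_le hx
  have e2 := hval _ (W₁.pow_mem hx 2) hx2 (M.pow_mem hxM 2)
  rw [show (⟨x ^ 2, M.pow_mem hxM 2⟩ : ↥M) = ⟨x, hxM⟩ ^ 2 from rfl, map_pow, Units.val_pow_eq_pow_val,
    hval x hx hx1 hxM, pow_two, C.mu.sign_mul] at e2
  refine Subtype.ext ((eq_one_of_triv_both (hdisj C.base.sn) (hcomm C.base.sn) j.2 fun w hw => ?_).trans rfl)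
  set v : ↥(W₁ ⊔ W₂) := ⟨x, Subgroup.mem_sup_left hx⟩ with hv
  have e3 := C.mu.val j.1 (v * w) (fun hh => C.base.W₁_not_W₂ hx hx1 ((W₂.mul_mem_cancel_right hw).1 hh))
  rw [hν, ← e2, one_mul, map_mul, j.2 v hx, one_mul] at e3
  have hwK : (⟨(w : G), C.base.W_le w.2⟩ : ↥M) ∈ K.subgroupOf M := C.base.W₂le hw
  have e4 : (ν ⟨(w : G), C.base.W_le w.2⟩ : ℂ) = 1 := by
    have := congrFun h ⟨_, hwK⟩
    simp only [th, res, hν] at this
    rw [this, C.lam_W₂ l ⟨_, hwK⟩ hw, Units.val_one]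
  have e5 : (ν ⟨(v * w : ↥(W₁ ⊔ W₂)), C.base.W_le (v * w).2⟩ : ℂ) = 1 := by
    rw [show (⟨((v * w : ↥(W₁ ⊔ W₂)) : G), C.base.W_le (v * w).2⟩ : ↥M) =
      ⟨x, hxM⟩ * ⟨(w : G), C.base.W_le w.2⟩ from rfl, map_mul, Units.val_mul, e4, mul_one,
      hval x hx hx1 hxM, ← e2]
  simp only [] at e3
  rw [e5] at e3
  exact Units.val_eq_one.1 e3.symm

theorem deg_ne_one {j : ColJ W₁ W₂} (hj : j ≠ j₀) : C.deg j.1 ≠ 1 := fun h => hj (by
  haveI : Fintype ↥(K.subgroupOf M) := Fintype.ofFinite _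
  obtain ⟨l, hl⟩ := CharBasicLinear.exists_hom_of_apply_one_eq_one
    (isCharacter_of_isIrrCharacter (C.th_irr j)) (by rw [C.th_one, h, Int.cast_one])
  exact C.th_linear hl)

theorem nn_ge_two {j : ColJ W₁ W₂} (hj : j ≠ j₀) : 2 ≤ C.nn j.1 := by
  have h1 := (C.deg_pos_odd j.1).1
  have h2 := C.deg_ne_one hj
  have hq : (3 : ℤ) ≤ (Nat.card W₁ : ℤ) := by exact_mod_cast C.three_W₁
  obtain ⟨r, hr⟩ := C.nn_even j.1
  rw [deg] at h1 h2
  by_contra hlt
  have h3 : C.nn j.1 ≤ 0 := by omega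
  rcases eq_or_lt_of_le h3 with h0 | h0
  · rw [h0, zero_mul, add_zero] at h1 h2
    rcases C.dz_cases j.1 with e | e <;> rw [e] at h1 h2 <;> omega
  · have : C.nn j.1 * (Nat.card W₁ : ℤ) ≤ -3 := by nlinarith
    rcases C.dz_cases j.1 with e | e <;> omega

theorem deg_ge {j : ColJ W₁ W₂} (hj : j ≠ j₀) : 2 * (Nat.card W₁ : ℤ) - 1 ≤ C.deg j.1 := by
  have := C.nn_ge_two hj
  have hq : (0 : ℤ) ≤ (Nat.card W₁ : ℤ) := by positivity
  rw [deg]
  rcases C.dz_cases j.1 with e | e <;> rw [e] <;> nlinarith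

/-! ### Characters induced from linear characters -/

noncomputable instance homFintype : Fintype (↥(K.subgroupOf M) →* ℂˣ) :=
  haveI := hom_fintype ↥(K.subgroupOf M)
  Fintype.ofFinite _

/-- `Ind λ`. -/
noncomputable def indLam (_C : Core M K W₁ W₂ R) (l : ↥(K.subgroupOf M) →* ℂˣ) : ↥M → ℂ :=
  Cfsg.indFun (K.subgroupOf M) (fun k => (l k : ℂ))

/-- The set of characters induced from non-trivial linear characters. -/
noncomputable def Z1 : Finset (↥M → ℂ) :=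
  haveI := C
  ((Finset.univ : Finset (↥(K.subgroupOf M) →* ℂˣ)).filter (· ≠ 1)).image C.indLam

theorem mem_Z1 {ζ : ↥M → ℂ} : ζ ∈ C.Z1 ↔ ∃ l : ↥(K.subgroupOf M) →* ℂˣ, l ≠ 1 ∧ C.indLam l = ζ := by
  simp [Z1]

theorem indLam_irr {l : ↥(K.subgroupOf M) →* ℂˣ} (hl : l ≠ 1) : IsIrrCharacter ↥M (C.indLam l) := by
  rcases C.th_or_irr (isIrrCharacter_linear l) with ⟨j, hj⟩ | h
  · exfalso
    have hj0 := C.th_linear hj.symm
    subst hj0
    refine hl (MonoidHom.ext fun k => Units.ext ?_)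
    have := congrFun hj k
    simp only [th, res] at this
    rw [show (j₀ : ColJ W₁ W₂).1 = 1 from rfl, (C.mu.one_eq).1] at this
    simpa using this
  · exact h

theorem Z1_irr {ζ : ↥M → ℂ} (h : ζ ∈ C.Z1) : IsIrrCharacter ↥M ζ := by
  obtain ⟨l, hl, rfl⟩ := C.mem_Z1.1 h; exact C.indLam_irr hl

theorem Z1_one {ζ : ↥M → ℂ} (h : ζ ∈ C.Z1) : ζ 1 = (Nat.card W₁ : ℂ) := by
  obtain ⟨l, -, rfl⟩ := C.mem_Z1.1 h
  rw [indLam, CharInduced.ind_one_apply, C.index_KM, map_one, Units.val_one, mul_one]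

theorem Z1_K {ζ : ↥M → ℂ} (h : ζ ∈ C.Z1) (x : ↥M) (hx : (x : G) ∉ K) : ζ x = 0 := by
  haveI := C.KM_normal
  obtain ⟨l, -, rfl⟩ := C.mem_Z1.1 h
  exact CharInduced.ind_normal_eq_zero _ _ hx

theorem Z1_ne_one {ζ : ↥M → ℂ} (h : ζ ∈ C.Z1) : ζ ≠ fun _ => 1 := fun e => by
  have h1 := C.Z1_one h
  rw [e] at h1
  simp only at h1
  have : Nat.card W₁ = 1 := by exact_mod_cast h1.symm
  have := C.three_W₁
  omega

theorem Z1_conj {ζ : ↥M → ℂ} (h : ζ ∈ C.Z1) : Cfsg.conjFun ζ ∈ C.Z1 ∧ Cfsg.conjFun ζ ≠ ζ := by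
  refine ⟨?_, fun e => C.Z1_ne_one h (FourCoherence.eq_one_of_real C.oddM ⟨ζ, C.Z1_irr h⟩
    fun d => congrFun e d)⟩
  obtain ⟨l, hl, rfl⟩ := C.mem_Z1.1 h
  refine C.mem_Z1.2 ⟨l⁻¹, fun e => hl (MonoidHom.ext fun k => inv_eq_one.1 (DFunLike.congr_fun e k)), ?_⟩
  funext x
  rw [Cfsg.conjFun, indLam, indLam, CharInduced.indFun_apply, CharInduced.indFun_apply, map_mul, map_inv₀,
    map_natCast, map_sum]
  congr 1
  refine Finset.sum_congr rfl fun y _ => ?_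
  rw [← CharInduced.ext_zero_conj]
  congr 1
  funext k
  simp only [MonoidHom.inv_apply, Units.val_inv_eq_inv_val]
  exact Complex.inv_eq_conj (norm_linear l k)

theorem exists_lam : ∃ l : ↥(K.subgroupOf M) →* ℂˣ, l ≠ 1 := by
  by_contra h
  push Not at h
  have h1 : Nat.card (↥(K.subgroupOf M) →* ℂˣ) = 1 :=
    Nat.card_eq_one_iff_unique.2 ⟨⟨fun a b => (h a).trans (h b).symm⟩, ⟨1⟩⟩
  rw [CharBasicLinear.card_hom_units, Subgroup.index_eq_one] at h1
  refine C.Kder ?_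
  have h2 : (commutator ↥(K.subgroupOf M)).map ((Subgroup.subtype M).comp (K.subgroupOf M).subtype) =
      ⁅K, K⁆ := by
    rw [commutator_def, Subgroup.map_commutator, ← Subgroup.map_map, ← MonoidHom.range_eq_map,
      Subgroup.range_subtype, Subgroup.map_subgroupOf_eq_of_le C.base.K_le]
  rw [← h2, h1, ← Subgroup.map_map, ← MonoidHom.range_eq_map, Subgroup.range_subtype,
    Subgroup.map_subgroupOf_eq_of_le C.base.K_le]

theorem Z1_nonempty : C.Z1.Nonempty := by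
  obtain ⟨l, hl⟩ := C.exists_lam
  exact ⟨_, C.mem_Z1.2 ⟨l, hl, rfl⟩⟩

theorem two_Z1 : 2 ≤ C.Z1.card := by
  obtain ⟨ζ, hζ⟩ := C.Z1_nonempty
  exact Finset.one_lt_card.2 ⟨_, (C.Z1_conj hζ).1, _, hζ, (C.Z1_conj hζ).2⟩

/-- Every fibre of `λ ↦ Ind λ` has `|W₁|` elements. -/
theorem fibre_card {ζ : ↥M → ℂ} (h : ζ ∈ C.Z1) :
    (((Finset.univ : Finset (↥(K.subgroupOf M) →* ℂˣ)).filter (· ≠ 1)).filter
      (fun l => C.indLam l = ζ)).card = Nat.card W₁ := by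
  haveI : Fintype ↥(K.subgroupOf M) := Fintype.ofFinite _
  haveI := C.KM_normal
  obtain ⟨l, hl, rfl⟩ := C.mem_Z1.1 h
  set θ : ↥(K.subgroupOf M) → ℂ := fun k => (l k : ℂ) with hθd
  have hθ : IsIrrCharacter ↥(K.subgroupOf M) θ := isIrrCharacter_linear l
  have hin : (Nat.card (CharInduced.inertia (K.subgroupOf M) θ) : ℂ) = Nat.card (K.subgroupOf M) := by
    have h1 := classInner_irr_self (C.indLam_irr hl)
    rw [indLam, ← hθd, CharInduced.classInner_ind_self _ hθ,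
      div_eq_one_iff_eq (Nat.cast_ne_zero.2 Nat.card_pos.ne')] at h1
    exact h1
  have horb := CharInduced.card_inertia_mul_card_orbit (K.subgroupOf M) θ
  rw [show Nat.card (CharInduced.inertia (K.subgroupOf M) θ) = Nat.card (K.subgroupOf M) by
    exact_mod_cast hin, ← (K.subgroupOf M).card_mul_index, C.index_KM] at horb
  rw [← Nat.eq_of_mul_eq_mul_left Nat.card_pos horb]
  refine Finset.card_bij (fun l' _ => fun k => (l' k : ℂ)) (fun l' hl' => ?_) (fun a _ b _ e => ?_)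
    (fun φ hφ => ?_)
  · rw [Finset.mem_filter] at hl'
    exact (CharInduced.ind_eq_iff_mem_orbit _ hθ (isIrrCharacter_linear l')).1 hl'.2
  · exact MonoidHom.ext fun k => Units.ext (congrFun e k)
  · obtain ⟨g, rfl⟩ := (CharInduced.mem_orbitFin _).1 hφ
    refine ⟨l.comp (MulAut.conjNormal g).toMonoidHom, ?_, ?_⟩
    · rw [Finset.mem_filter, Finset.mem_filter]
      refine ⟨⟨Finset.mem_univ _, fun e => hl (MonoidHom.ext fun k => ?_)⟩, ?_⟩
      · have := DFunLike.congr_fun e ((MulAut.conjNormal g).symm k)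
        simpa using this
      · have := CharInduced.ind_conjFun (K.subgroupOf M) θ g
        rw [CharInduced.conjFun_eq_comp] at this
        exact this
    · rw [CharInduced.conjFun_eq_comp]; rfl

theorem card_lam : Fintype.card (↥(K.subgroupOf M) →* ℂˣ) = Nat.card W₁ * C.Z1.card + 1 := by
  have h : ((Finset.univ : Finset (↥(K.subgroupOf M) →* ℂˣ)).filter (· ≠ 1)).card =
      Nat.card W₁ * C.Z1.card := by
    rw [Finset.card_eq_sum_card_fiberwise (f := C.indLam) (t := C.Z1)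
      (fun l hl => C.mem_Z1.2 ⟨l, (Finset.mem_filter.1 hl).2, rfl⟩),
      Finset.sum_congr rfl (fun ζ hζ => C.fibre_card hζ), Finset.sum_const, smul_eq_mul, mul_comm]
  have hf : ((Finset.univ : Finset (↥(K.subgroupOf M) →* ℂˣ)).filter (· ≠ 1)) =
      Finset.univ.erase 1 := by ext; simp
  rw [hf, Finset.card_erase_of_mem (Finset.mem_univ _), Finset.card_univ] at h
  have : 0 < Fintype.card (↥(K.subgroupOf M) →* ℂˣ) := Fintype.card_pos
  omega

end Core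

end Cfsg.Agent.FTPMu78
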