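import Cfsg.Agent.Lib.FTPBase78
import Cfsg.Agent.Lib.FTPGrid78
import Cfsg.Agent.Lib.CyclicTIGalois
import Cfsg.Agent.Lib.CyclicTIExist
import Cfsg.Agent.Lib.CyclicTIFamily
import Cfsg.Agent.Lib.DadeMap
import Cfsg.Agent.Lib.DadeGenChar
import Cfsg.Agent.Lib.PFInvDade
import Cfsg.Agent.Lib.PF13Galois8
import Cfsg.Agent.Lib.CoherenceBasic
import Cfsg.Agent.S1514
import Cfsg.Agent.S1517

/-!
The Dade map of a type `P` configuration for `A = K# ∪ (conjugates of W \ (W₁ ∪ W₂))`, the cyclic TI family,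
integer cells, a budget inequality, and signed families attached to sets of equal degree characters.
-/

set_option autoImplicit false
set_option linter.unusedSectionVars false

open scoped ComplexConjugate

namespace Cfsg.Agent.FTPTau78

open Cfsg
open Cfsg.Agent.CharBasic Cfsg.Agent.CharBasicOrth Cfsg.Agent.CharBasicDecomp
open Cfsg.Agent.CyclicTI Cfsg.Agent.FTPBase78 Cfsg.Agent.FTPGrid78

attribute [local instance] Classical.propDecidable

universe u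

/-! ### Integer inner products -/

section Ipz

variable {X : Type u} [Group X] [Fintype X]

/-- The inner product as an integer (meaningful for generalized characters). -/
noncomputable def ipz (θ φ : X → ℂ) : ℤ := round (Cfsg.classInner θ φ).re

theorem ipz_eq {θ φ : X → ℂ} {n : ℤ} (h : Cfsg.classInner θ φ = n) : ipz θ φ = n := by
  simp [ipz, h]

theorem ipz_spec {θ φ : X → ℂ} (hθ : IsGeneralizedCharacter X θ) (hφ : IsGeneralizedCharacter X φ) :
    Cfsg.classInner θ φ = (ipz θ φ : ℂ) := by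
  obtain ⟨n, hn⟩ := classInner_isGeneralizedCharacter hθ hφ
  rw [ipz_eq hn, hn]

theorem ipz_comm {θ φ : X → ℂ} (hθ : IsGeneralizedCharacter X θ) (hφ : IsGeneralizedCharacter X φ) :
    ipz φ θ = ipz θ φ := by
  refine ipz_eq ?_
  rw [← conj_classInner, ipz_spec hθ hφ, map_intCast]

/-- Bessel with integer coefficients. -/
theorem bessel_int {κ : Type*} [Fintype κ] (e : κ → X → ℂ) (hg : ∀ k, IsGeneralizedCharacter X (e k))
    (he : ∀ k l, Cfsg.classInner (e k) (e l) = if k = l then 1 else 0) {θ : X → ℂ}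
    (hθ : IsGeneralizedCharacter X θ) {N : ℤ} (hN : Cfsg.classInner θ θ = N) :
    ∑ k, ipz θ (e k) ^ 2 ≤ N ∧ (∑ k, ipz θ (e k) ^ 2 = N → θ = ∑ k, (ipz θ (e k) : ℂ) • e k) := by
  set c := fun k => ipz θ (e k) with hc
  have h1 : ∀ k, Cfsg.classInner θ (e k) = (c k : ℂ) := fun k => ipz_spec hθ (hg k)
  have h2 : ∀ k, Cfsg.classInner (e k) θ = (c k : ℂ) := fun k => by
    rw [← conj_classInner, h1, map_intCast]
  set T := ∑ k, (c k : ℂ) • e k with hT
  have h3 : Cfsg.classInner (θ - T) (θ - T) = ((N - ∑ k, c k ^ 2 : ℤ) : ℂ) := by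
    simp only [hT, classInner_sub_left, classInner_sub_right, classInner_sum_left, classInner_sum_right,
      classInner_smul_left, classInner_smul_right, hN, h1, h2, he, map_intCast, mul_ite, mul_one,
      mul_zero, Finset.sum_ite_eq', Finset.mem_univ, if_true]
    push_cast
    simp [pow_two]
  refine ⟨?_, fun heq => ?_⟩
  · have h4 := CoherenceBasic.classInner_self_nonneg (θ - T)
    rw [h3, Complex.intCast_re] at h4
    have h5 : (0 : ℤ) ≤ N - ∑ k, c k ^ 2 := by exact_mod_cast h4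
    linarith
  · have h4 : Cfsg.classInner (θ - T) (θ - T) = 0 := by rw [h3, heq, sub_self, Int.cast_zero]
    exact sub_eq_zero.1 (eq_zero_of_classInner_self h4)

end Ipz

/-! ### The configuration -/

variable {G : Type u} [Group G] [Fintype G] {M K W₁ W₂ : Subgroup G} {R : G → Subgroup G}

/-- The set `A = K# ∪ conjugates of W \ (W₁ ∪ W₂)`. -/
def suppSet (M K W₁ W₂ : Subgroup G) : Set G :=
  {a | a ≠ 1 ∧ (a ∈ K ∨ ∃ m ∈ M, m⁻¹ * a * m ∈ W₁ ⊔ W₂ ∧ m⁻¹ * a * m ∉ W₁ ∧ m⁻¹ * a * m ∉ W₂)}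

/-- A type `P` configuration with a Dade hypothesis on its support set. -/
structure PCtx (M K W₁ W₂ : Subgroup G) (R : G → Subgroup G) : Prop where
  base : Base M K W₁ W₂
  dade : DadeHypothesis (suppSet M K W₁ W₂) M R

/-- The row index. -/
abbrev RowI (W₁ W₂ : Subgroup G) := {φ : ↥(W₁ ⊔ W₂) →* ℂˣ // TrivOn W₂ φ}

/-- The column index. -/
abbrev ColJ (W₁ W₂ : Subgroup G) := {φ : ↥(W₁ ⊔ W₂) →* ℂˣ // TrivOn W₁ φ}

noncomputable instance linFintype (W₁ W₂ : Subgroup G) : Fintype (↥(W₁ ⊔ W₂) →* ℂˣ) :=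
  haveI := hom_fintype ↥(W₁ ⊔ W₂)
  Fintype.ofFinite _

/-- The principal row. -/
def i₀ : RowI W₁ W₂ := ⟨1, trivOn_one _⟩

/-- The principal column. -/
def j₀ : ColJ W₁ W₂ := ⟨1, trivOn_one _⟩

/-- `V`: the elements of `W` outside both factors, as a predicate on `W`. -/
abbrev InV (w : ↥(W₁ ⊔ W₂)) : Prop := (w : G) ∉ W₁ ∧ (w : G) ∉ W₂

namespace PCtx

variable [Fintype ↥M]

/-- The Dade map. -/
noncomputable def τ (_C : PCtx M K W₁ W₂ R) (α : ↥M → ℂ) : G → ℂ :=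
  Cfsg.dadeIsometry (suppSet M K W₁ W₂) M R α

variable (C : PCtx M K W₁ W₂ R)

/-- A generalized character of `M` vanishing outside `A`. -/
def Sup (_C : PCtx M K W₁ W₂ R) (α : ↥M → ℂ) : Prop :=
  IsGeneralizedCharacter ↥M α ∧ ∀ x : ↥M, (x : G) ∉ suppSet M K W₁ W₂ → α x = 0

include C

theorem oddW : Odd (Nat.card ↥(W₁ ⊔ W₂)) := C.base.odd_card _

theorem three_W₁ : 3 ≤ Nat.card W₁ := (CyclicTIFamily.card_facts C.base.sn C.oddW).2.2.1

theorem three_W₂ : 3 ≤ Nat.card W₂ := (CyclicTIFamily.card_facts C.base.sn C.oddW).2.2.2.1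

theorem card_row : Fintype.card (RowI W₁ W₂) = Nat.card W₁ := by
  rw [← Nat.card_eq_fintype_card]; exact CyclicTIExist.card_trivOn₂ C.base.sn

theorem card_col : Fintype.card (ColJ W₁ W₂) = Nat.card W₂ := by
  rw [← Nat.card_eq_fintype_card]; exact CyclicTIExist.card_trivOn₁ C.base.sn

theorem three_row : 3 ≤ Fintype.card (RowI W₁ W₂) := C.card_row.symm ▸ C.three_W₁

theorem three_col : 3 ≤ Fintype.card (ColJ W₁ W₂) := C.card_col.symm ▸ C.three_W₂

theorem V_mem {w : ↥(W₁ ⊔ W₂)} (hw : InV w) : (w : G) ∈ suppSet M K W₁ W₂ :=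
  ⟨fun h => hw.1 (by rw [h]; exact W₁.one_mem), Or.inr ⟨1, M.one_mem, by
    rw [inv_one, one_mul, mul_one]; exact ⟨w.2, hw.1, hw.2⟩⟩⟩

theorem not_inSupport_one : ¬ DadeMap.InSupport (suppSet M K W₁ W₂) M R 1 := by
  rintro ⟨a, ha, x, u, hu, e⟩
  rw [mul_one, mul_inv_cancel] at e
  have hu' : u = (a : G)⁻¹ := eq_inv_of_mul_eq_one_right e.symm
  have := DadeMap.eq_one_of_mem_H_of_mem C.dade ha hu (hu' ▸ M.inv_mem a.2)
  rw [hu', inv_eq_one] at this
  exact ha.1 this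

theorem tau_one_eq (α : ↥M → ℂ) : C.τ α 1 = 0 := DadeMap.dade_eq_zero C.not_inSupport_one

theorem tau_add (α β : ↥M → ℂ) : C.τ (α + β) = C.τ α + C.τ β := by
  funext g
  simp only [τ, Cfsg.dadeIsometry, Pi.add_apply]
  split_ifs <;> simp

theorem tau_smul (c : ℂ) (α : ↥M → ℂ) : C.τ (c • α) = c • C.τ α := by
  funext g
  simp only [τ, Cfsg.dadeIsometry, Pi.smul_apply, smul_eq_mul]
  split_ifs <;> simp

theorem tau_zero : C.τ 0 = 0 := by
  funext g
  simp only [τ, Cfsg.dadeIsometry, Pi.zero_apply]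
  split_ifs <;> simp

theorem tau_neg (α : ↥M → ℂ) : C.τ (-α) = -C.τ α := by
  rw [← neg_one_smul ℂ α, tau_smul, neg_one_smul]

theorem tau_sub (α β : ↥M → ℂ) : C.τ (α - β) = C.τ α - C.τ β := by
  rw [sub_eq_add_neg, tau_add, tau_neg, ← sub_eq_add_neg]

theorem tau_sum {ι : Type*} (s : Finset ι) (α : ι → ↥M → ℂ) :
    C.τ (∑ k ∈ s, α k) = ∑ k ∈ s, C.τ (α k) := by
  induction s using Finset.induction with
  | empty => simp [tau_zero]
  | insert a s ha ih => rw [Finset.sum_insert ha, Finset.sum_insert ha, tau_add, ih]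

theorem tau_conj (α : ↥M → ℂ) : C.τ (Cfsg.conjFun α) = Cfsg.conjFun (C.τ α) :=
  PFInvDade.dade_conjFun α

theorem tau_class {α : ↥M → ℂ} (hα : IsClassFunction ↥M α) : IsClassFunction G (C.τ α) :=
  DadeMap.dade_isClassFunction C.dade hα

theorem tau_gen {α : ↥M → ℂ} (hα : C.Sup α) : IsGeneralizedCharacter G (C.τ α) :=
  DadeGenChar.dade_gen C.dade hα.1 hα.2

theorem tau_inner {α β : ↥M → ℂ} (hα : IsClassFunction ↥M α)
    (hαA : ∀ x : ↥M, (x : G) ∉ suppSet M K W₁ W₂ → α x = 0) (hβ : IsClassFunction ↥M β) :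
    Cfsg.classInner (C.τ α) (C.τ β) = Cfsg.classInner α β :=
  DadeMap.inner_dade_dade C.dade hα hαA hβ

theorem tau_inner_sup {α β : ↥M → ℂ} (hα : C.Sup α) (hβ : C.Sup β) :
    Cfsg.classInner (C.τ α) (C.τ β) = Cfsg.classInner α β :=
  C.tau_inner (isClassFunction_of_isGeneralizedCharacter hα.1) hα.2
    (isClassFunction_of_isGeneralizedCharacter hβ.1)

theorem tau_inner_one {α : ↥M → ℂ} (hα : IsClassFunction ↥M α)
    (hαA : ∀ x : ↥M, (x : G) ∉ suppSet M K W₁ W₂ → α x = 0) :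
    Cfsg.classInner (C.τ α) (fun _ => 1) = Cfsg.classInner α (fun _ => 1) := by
  refine DadeMap.inner_dade C.dade hα hαA (fun _ _ => rfl) _ fun a _ => ?_
  rw [finsum_mem_eq_finite_toFinset_sum _ ((R (a : G) : Set G).toFinite), Finset.sum_const, nsmul_eq_mul,
    mul_one, ← Set.ncard_eq_toFinset_card, ← Nat.card_coe_set_eq,
    show Nat.card ↥(R (a : G) : Set G) = Nat.card (R (a : G)) from rfl,
    inv_mul_cancel₀ (Nat.cast_ne_zero.mpr Nat.card_pos.ne')]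

theorem tau_on_V {α : ↥M → ℂ} (hα : IsClassFunction ↥M α) {w : ↥(W₁ ⊔ W₂)} (hw : InV w) :
    C.τ α (w : G) = α ⟨w, C.base.W_le w.2⟩ := by
  have h := DadeMap.dade_apply_coset C.dade hα ⟨(w : G), C.base.W_le w.2⟩ (C.V_mem hw)
    (Subgroup.one_mem _)
  rw [mul_one] at h
  exact h

theorem sup_sub {α β : ↥M → ℂ} (hα : C.Sup α) (hβ : C.Sup β) : C.Sup (α - β) :=
  ⟨isGeneralizedCharacter_sub hα.1 hβ.1, fun x hx => by simp [hα.2 x hx, hβ.2 x hx]⟩

theorem sup_add {α β : ↥M → ℂ} (hα : C.Sup α) (hβ : C.Sup β) : C.Sup (α + β) :=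
  ⟨isGeneralizedCharacter_add hα.1 hβ.1, fun x hx => by simp [hα.2 x hx, hβ.2 x hx]⟩

theorem sup_smul (n : ℤ) {α : ↥M → ℂ} (hα : C.Sup α) : C.Sup ((n : ℂ) • α) :=
  ⟨isGeneralizedCharacter_zsmul hα.1 n, fun x hx => by simp [hα.2 x hx]⟩

theorem sup_conj {α : ↥M → ℂ} (hα : C.Sup α) : C.Sup (Cfsg.conjFun α) :=
  ⟨PF13Galois8.gen_conj hα.1, fun x hx => by simp [Cfsg.conjFun, hα.2 x hx]⟩

/-- Support in `A` for a class function that vanishes at `1` and on `W₁`. -/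
theorem vanish_off {α : ↥M → ℂ} (hα : IsClassFunction ↥M α) (h1 : α 1 = 0)
    (hW : ∀ w : ↥M, (w : G) ∈ W₁ → w ≠ 1 → α w = 0) (x : ↥M) (hx : (x : G) ∉ suppSet M K W₁ W₂) :
    α x = 0 := by
  by_cases hx1 : x = 1
  · rw [hx1]; exact h1
  have hx1' : (x : G) ≠ 1 := fun h => hx1 (Subtype.ext h)
  have hxK : (x : G) ∉ K := fun h => hx ⟨hx1', Or.inl h⟩
  obtain ⟨c, hc, w, hw, hw2, e⟩ := C.base.exists_conj x.2 hxK
  have e' : x = (⟨c, C.base.K_le hc⟩ : ↥M) * ⟨w, C.base.W_le hw⟩ * (⟨c, C.base.K_le hc⟩ : ↥M)⁻¹ :=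
    Subtype.ext e
  rw [e', hα]
  by_cases hw1 : w ∈ W₁
  · refine hW _ hw1 fun h => hw2 ?_
    rw [show w = 1 from congrArg Subtype.val h]
    exact W₂.one_mem
  · refine absurd ⟨hx1', Or.inr ⟨c, C.base.K_le hc, ?_⟩⟩ hx
    rw [e, show c⁻¹ * (c * w * c⁻¹) * c = w by group]
    exact ⟨hw, hw1, hw2⟩

/-- A generalized character vanishing off `K` and at `1` is supported in `A`. -/
theorem sup_of_K {α : ↥M → ℂ} (hg : IsGeneralizedCharacter ↥M α) (h1 : α 1 = 0)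
    (hK : ∀ x : ↥M, (x : G) ∉ K → α x = 0) : C.Sup α := by
  refine ⟨hg, fun x hx => ?_⟩
  by_cases hx1 : x = 1
  · rw [hx1]; exact h1
  exact hK x fun h => hx ⟨fun e => hx1 (Subtype.ext e), Or.inl h⟩

/-! ### The cyclic TI family -/

/-- The family. -/
noncomputable def η : (↥(W₁ ⊔ W₂) →* ℂˣ) → G → ℂ :=
  Classical.choose (CyclicTIExist.exists_family C.base.sn C.oddW)

theorem eta_fam : IsCyclicTIFamily W₁ W₂ C.η :=
  Classical.choose_spec (CyclicTIExist.exists_family C.base.sn C.oddW)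

theorem eta_si (ω : ↥(W₁ ⊔ W₂) →* ℂˣ) : CoherenceBasic.SignedIrr (C.η ω) := C.eta_fam.irr_or_neg ω

theorem eta_gen (ω : ↥(W₁ ⊔ W₂) →* ℂˣ) : IsGeneralizedCharacter G (C.η ω) :=
  CoherenceBasic.si_gen (C.eta_si ω)

theorem eta_orth (ω ω' : ↥(W₁ ⊔ W₂) →* ℂˣ) :
    Cfsg.classInner (C.η ω) (C.η ω') = if ω = ω' then 1 else 0 := by
  convert C.eta_fam.orthonormal ω ω'

theorem eta_V (ω : ↥(W₁ ⊔ W₂) →* ℂˣ) {w : ↥(W₁ ⊔ W₂)} (hw : InV w) : C.η ω (w : G) = (ω w : ℂ) :=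
  C.eta_fam.eq_on ω w hw.1 hw.2

theorem eta_conj (ω : ↥(W₁ ⊔ W₂) →* ℂˣ) : C.η ω⁻¹ = Cfsg.conjFun (C.η ω) := by
  have hpos : 0 < Nat.card G := Nat.card_pos
  obtain ⟨N, hN⟩ := Nat.exists_eq_add_one.2 hpos
  have hk : N.Coprime (Nat.card G) := by rw [hN]; simp
  have hjk : N * N ≡ 1 [MOD Nat.card G] := by
    rw [← ZMod.natCast_eq_natCast_iff]
    have h : ((Nat.card G : ℕ) : ZMod (Nat.card G)) = 0 := ZMod.natCast_self _
    have h' : ((N : ℕ) : ZMod (Nat.card G)) = -1 := by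
      rw [eq_neg_iff_add_eq_zero, ← h, hN]; push_cast; ring
    rw [Nat.cast_mul, h', Nat.cast_one]; ring
  have hω : ω ^ N = ω⁻¹ := MonoidHom.ext fun w => by
    rw [MonoidHom.pow_apply, MonoidHom.inv_apply, eq_inv_iff_mul_eq_one, ← pow_succ, ← hN, ← map_pow,
      show w ^ Nat.card G = 1 from ?_, map_one]
    exact Subtype.ext (by rw [SubgroupClass.coe_pow, pow_card_eq_one']; rfl)
  funext g
  have h := CyclicTIGalois.family_pow C.base.sn C.oddW C.eta_fam hk hjk ω g⁻¹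
  have hg : (g⁻¹) ^ N = g := by
    rw [inv_pow, inv_eq_iff_mul_eq_one, ← pow_succ, ← hN, pow_card_eq_one']
  rw [hω, hg] at h
  rw [h]
  rcases C.eta_si ω with hi | hi
  · exact (isCharacter_inv (isCharacter_of_isIrrCharacter hi) g)
  · have := isCharacter_inv (isCharacter_of_isIrrCharacter hi) g
    simp only [Pi.neg_apply, map_neg, neg_inj] at this
    exact this

/-- A cell. -/
noncomputable def cell (θ : G → ℂ) (i : RowI W₁ W₂) (j : ColJ W₁ W₂) : ℤ := ipz θ (C.η (i.1 * j.1))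

theorem cell_spec {θ : G → ℂ} (hθ : IsGeneralizedCharacter G θ) (i : RowI W₁ W₂) (j : ColJ W₁ W₂) :
    Cfsg.classInner θ (C.η (i.1 * j.1)) = (C.cell θ i j : ℂ) := ipz_spec hθ (C.eta_gen _)

theorem hom_inj {i i' : RowI W₁ W₂} {j j' : ColJ W₁ W₂} : i.1 * j.1 = i'.1 * j'.1 ↔ i = i' ∧ j = j' := by
  rw [mul_left_inj_of_triv (hdisj C.base.sn) (hcomm C.base.sn) i.2 i'.2 j.2 j'.2, Subtype.ext_iff,
    Subtype.ext_iff]

theorem eta_cell (i i' : RowI W₁ W₂) (j j' : ColJ W₁ W₂) :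
    Cfsg.classInner (C.η (i.1 * j.1)) (C.η (i'.1 * j'.1)) = if i = i' ∧ j = j' then 1 else 0 := by
  rw [C.eta_orth]
  exact if_congr C.hom_inj rfl rfl

theorem cell_rect {θ : G → ℂ} (hθ : IsGeneralizedCharacter G θ)
    (hV : ∀ w : ↥(W₁ ⊔ W₂), InV w → θ (w : G) = 0) : Rect i₀ j₀ (C.cell θ) := by
  intro i j
  have h := CyclicTI.rectangle C.base.sn C.eta_fam (isClassFunction_of_isGeneralizedCharacter hθ)
    (fun w h1 h2 => hV w ⟨h1, h2⟩) (i.1 * j.1)
  rw [part₁_eq _ _ i.2 j.2, part₂_eq _ _ i.2 j.2] at h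
  have e1 : i.1 = i.1 * (j₀ : ColJ W₁ W₂).1 := (hom_mul_one _).symm
  have e2 : j.1 = (i₀ : RowI W₁ W₂).1 * j.1 := (hom_one_mul _).symm
  have e3 : (1 : ↥(W₁ ⊔ W₂) →* ℂˣ) = (i₀ : RowI W₁ W₂).1 * (j₀ : ColJ W₁ W₂).1 := (hom_mul_one _).symm
  rw [C.cell_spec hθ i j] at h
  conv at h =>
    rhs
    rw [e3]
    enter [1, 1]
    rw [e1]
  conv at h =>
    rhs
    enter [1, 2]
    rw [e2]
  rw [C.cell_spec hθ, C.cell_spec hθ, C.cell_spec hθ] at h
  have h' : C.cell θ i j = C.cell θ i j₀ + C.cell θ i₀ j - C.cell θ i₀ j₀ := by exact_mod_cast h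
  linarith

theorem cell_corner {θ : G → ℂ} (hθ : IsGeneralizedCharacter G θ) {n : ℤ}
    (h : Cfsg.classInner θ (fun _ => 1) = n) : C.cell θ i₀ j₀ = n := by
  refine ipz_eq ?_
  rw [show (i₀ : RowI W₁ W₂).1 * (j₀ : ColJ W₁ W₂).1 = 1 from hom_mul_one _, C.eta_fam.map_one, h]

theorem cell_eta (i i' : RowI W₁ W₂) (j j' : ColJ W₁ W₂) :
    C.cell (C.η (i'.1 * j'.1)) i j = E i' j' i j := by
  refine ipz_eq ?_
  rw [C.eta_cell]
  simp only [E, eq_comm (a := i'), eq_comm (a := j')]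
  split_ifs <;> simp

theorem cell_sub {θ θ' : G → ℂ} (hθ : IsGeneralizedCharacter G θ) (hθ' : IsGeneralizedCharacter G θ')
    (i : RowI W₁ W₂) (j : ColJ W₁ W₂) : C.cell (θ - θ') i j = C.cell θ i j - C.cell θ' i j := by
  refine ipz_eq ?_
  rw [classInner_sub_left, C.cell_spec hθ, C.cell_spec hθ']
  push_cast; rfl

theorem cell_add {θ θ' : G → ℂ} (hθ : IsGeneralizedCharacter G θ) (hθ' : IsGeneralizedCharacter G θ')
    (i : RowI W₁ W₂) (j : ColJ W₁ W₂) : C.cell (θ + θ') i j = C.cell θ i j + C.cell θ' i j := by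
  refine ipz_eq ?_
  rw [classInner_add_left, C.cell_spec hθ, C.cell_spec hθ']
  push_cast; rfl

theorem cell_smul (n : ℤ) {θ : G → ℂ} (hθ : IsGeneralizedCharacter G θ)
    (i : RowI W₁ W₂) (j : ColJ W₁ W₂) : C.cell ((n : ℂ) • θ) i j = n * C.cell θ i j := by
  refine ipz_eq ?_
  rw [classInner_smul_left, C.cell_spec hθ]
  push_cast; rfl

theorem cell_conj {θ : G → ℂ} (hθ : IsGeneralizedCharacter G θ) (i : RowI W₁ W₂) (j : ColJ W₁ W₂)
    (i' : RowI W₁ W₂) (j' : ColJ W₁ W₂) (hi : i'.1 = i.1⁻¹) (hj : j'.1 = j.1⁻¹) :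
    C.cell (Cfsg.conjFun θ) i' j' = C.cell θ i j := by
  refine ipz_eq ?_
  have e : i'.1 * j'.1 = (i.1 * j.1)⁻¹ := by
    rw [hi, hj]; refine MonoidHom.ext fun w => ?_; simp [mul_comm]
  rw [e, C.eta_conj, CoherenceBasic.classInner_conjFun, C.cell_spec hθ, map_intCast]

/-- A class function orthogonal to the family vanishes on `V`. -/
theorem vanish_of_orth {θ : G → ℂ} (hθ : IsClassFunction G θ)
    (h : ∀ ω, Cfsg.classInner θ (C.η ω) = 0) {w : ↥(W₁ ⊔ W₂)} (hw : InV w) : θ (w : G) = 0 := by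
  haveI : Fintype ↥(W₁ ⊔ W₂) := Fintype.ofFinite _
  set f : ↥(W₁ ⊔ W₂) → ℂ := fun x => θ x with hf
  have hd := hdisj C.base.sn
  have hc := hcomm C.base.sn
  refine CyclicTIExist.vanish_of_split C.base.sn f (fun ω => ?_) w hw.1 hw.2
  have hω : part₁ hd hc ω * part₂ hd hc ω = ω := part_mul hd hc ω
  by_cases hφ1 : part₁ hd hc ω = 1
  · have hω' : part₂ hd hc ω = ω := by rwa [hφ1, hom_one_mul] at hω
    rw [hφ1, hω']; ring
  by_cases hψ1 : part₂ hd hc ω = 1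
  · have hω' : part₁ hd hc ω = ω := by rwa [hψ1, hom_mul_one] at hω
    rw [hψ1, hω']; ring
  have hz : Cfsg.classInner f (alphaFun (part₁ hd hc ω) (part₂ hd hc ω)) = 0 := by
    rw [hf, ← CharInduced.inner_ind_right _ _ hθ]
    unfold alphaFun
    rw [C.eta_fam.induced_eq _ _ hφ1 hψ1 (part₁_triv hd hc ω) (part₂_triv hd hc ω),
      show (fun g => 1 - C.η (part₁ hd hc ω) g - C.η (part₂ hd hc ω) g +
        C.η (part₁ hd hc ω * part₂ hd hc ω) g) = C.η 1 - C.η (part₁ hd hc ω) - C.η (part₂ hd hc ω) +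
        C.η (part₁ hd hc ω * part₂ hd hc ω) by funext g; simp [C.eta_fam.map_one],
      classInner_add_right, classInner_sub_right, classInner_sub_right, h, h, h, h]
    ring
  rw [show alphaFun (part₁ hd hc ω) (part₂ hd hc ω) =
    (fun x => ((1 : ↥(W₁ ⊔ W₂) →* ℂˣ) x : ℂ)) - (fun x => (part₁ hd hc ω x : ℂ)) -
    (fun x => (part₂ hd hc ω x : ℂ)) + (fun x => ((part₁ hd hc ω * part₂ hd hc ω) x : ℂ)) by
      funext x; simp [alphaFun],
    classInner_add_right, classInner_sub_right, classInner_sub_right, hω] at hz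
  linear_combination hz

/-! ### Budget and signed families -/

/-- A signed family attached to a set of characters of `M`. -/
structure IsFam (C : PCtx M K W₁ W₂ R) (X : Finset (↥M → ℂ)) (f : (↥M → ℂ) → G → ℂ) : Prop where
  si : ∀ χ ∈ X, CoherenceBasic.SignedIrr (f χ)
  orth : ∀ χ ∈ X, ∀ χ' ∈ X, Cfsg.classInner (f χ) (f χ') = if χ = χ' then 1 else 0
  diff : ∀ χ ∈ X, ∀ χ' ∈ X, C.τ (χ - χ') = f χ - f χ'
  eta : ∀ χ ∈ X, ∀ ω, Cfsg.classInner (f χ) (C.η ω) = 0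
  conjC : ∀ χ ∈ X, f (Cfsg.conjFun χ) = Cfsg.conjFun (f χ)

theorem fam_gen {X : Finset (↥M → ℂ)} {f : (↥M → ℂ) → G → ℂ} (hf : C.IsFam X f) {χ : ↥M → ℂ}
    (hχ : χ ∈ X) : IsGeneralizedCharacter G (f χ) := CoherenceBasic.si_gen (hf.si χ hχ)

/-- The budget. -/
theorem budget {X : Finset (↥M → ℂ)} {f : (↥M → ℂ) → G → ℂ} (hf : C.IsFam X f) {θ : G → ℂ}
    (hθ : IsGeneralizedCharacter G θ) {N : ℤ} (hN : Cfsg.classInner θ θ = N) :
    (∑ χ ∈ X, ipz θ (f χ) ^ 2) + (∑ i, ∑ j, C.cell θ i j ^ 2) ≤ N ∧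
      ((∑ χ ∈ X, ipz θ (f χ) ^ 2) + (∑ i, ∑ j, C.cell θ i j ^ 2) = N →
        θ = (∑ χ ∈ X, (ipz θ (f χ) : ℂ) • f χ) +
          ∑ i, ∑ j, (C.cell θ i j : ℂ) • C.η (i.1 * j.1)) := by
  set e : ↥X ⊕ (RowI W₁ W₂ × ColJ W₁ W₂) → G → ℂ :=
    Sum.elim (fun χ => f χ.1) (fun p => C.η (p.1.1 * p.2.1)) with he
  have hg : ∀ k, IsGeneralizedCharacter G (e k) := by
    rintro (χ | p)
    · exact C.fam_gen hf χ.2
    · exact C.eta_gen _
  have ho : ∀ k l, Cfsg.classInner (e k) (e l) = if k = l then 1 else 0 := by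
    rintro (χ | p) (χ' | p')
    · simp only [he, Sum.elim_inl, hf.orth χ χ.2 χ' χ'.2, Sum.inl.injEq, Subtype.ext_iff]
    · simp [he, hf.eta χ χ.2]
    · simp only [he, Sum.elim_inr, Sum.elim_inl, reduceCtorEq, if_false]
      rw [← conj_classInner, hf.eta χ' χ'.2, map_zero]
    · simp only [he, Sum.elim_inr, Sum.inr.injEq, C.eta_cell, Prod.ext_iff]
  obtain ⟨h1, h2⟩ := bessel_int e hg (fun k l => by convert ho k l) hθ hN
  simp only [he, Fintype.sum_sum_type, Sum.elim_inl, Sum.elim_inr, Fintype.sum_prod_type] at h1 h2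
  rw [Finset.sum_coe_sort X (fun χ => ipz θ (f χ) ^ 2)] at h1
  rw [Finset.sum_coe_sort X (fun χ => ipz θ (f χ) ^ 2),
    Finset.sum_coe_sort X (fun χ => (ipz θ (f χ) : ℂ) • f χ)] at h2
  exact ⟨h1, h2⟩

/-- The grid alone is within the norm. -/
theorem grid_le {θ : G → ℂ} (hθ : IsGeneralizedCharacter G θ) {N : ℤ} (hN : Cfsg.classInner θ θ = N) :
    ∑ i, ∑ j, C.cell θ i j ^ 2 ≤ N := by
  have h := (C.budget (X := ∅) (f := fun _ => 0)
    ⟨by simp, by simp, by simp, by simp, by simp⟩ hθ hN).1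
  simpa using h

/-- Existence of signed families. -/
theorem exists_fam (X : Finset (↥M → ℂ)) (hne : X.Nonempty) (hirr : ∀ χ ∈ X, IsIrrCharacter ↥M χ)
    (hdeg : ∀ χ ∈ X, ∀ χ' ∈ X, χ 1 = χ' 1) (hK : ∀ χ ∈ X, ∀ x : ↥M, (x : G) ∉ K → χ x = 0)
    (hconj : ∀ χ ∈ X, Cfsg.conjFun χ ∈ X ∧ Cfsg.conjFun χ ≠ χ) :
    ∃ f, C.IsFam X f := by
  set S : Set (↥M → ℂ) := ↑X with hS
  have hgen : ∀ α ∈ Cfsg.zspan S, IsGeneralizedCharacter ↥M α ∧ ∀ x : ↥M, (x : G) ∉ K → α x = 0 := by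
    intro α hα
    refine Submodule.span_induction ?_ ?_ ?_ ?_ hα
    · exact fun χ hχ => ⟨isGeneralizedCharacter_of_isCharacter (isCharacter_of_isIrrCharacter (hirr χ hχ)),
        hK χ hχ⟩
    · exact ⟨isGeneralizedCharacter_zero, fun _ _ => rfl⟩
    · exact fun a b _ _ ha hb => ⟨isGeneralizedCharacter_add ha.1 hb.1,
        fun x hx => by simp [ha.2 x hx, hb.2 x hx]⟩
    · intro n a _ ha
      refine ⟨?_, fun x hx => by simp [ha.2 x hx]⟩
      rw [show n • a = (n : ℂ) • a by funext x; simp]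
      exact isGeneralizedCharacter_zsmul ha.1 n
  have hsup : ∀ α ∈ Cfsg.zspanOn S {1}ᶜ, C.Sup α := fun α hα =>
    C.sup_of_K (hgen α hα.1).1 (hα.2 1 (by simp)) (hgen α hα.1).2
  have hiso : Cfsg.IsLinearIsometryOn (Cfsg.zspanOn S {1}ᶜ) C.τ := by
    refine ⟨fun α _ β _ => C.tau_add α β, fun α _ n => ?_, fun α hα β hβ => C.tau_inner_sup (hsup α hα) (hsup β hβ),
      fun α hα => C.tau_gen (hsup α hα)⟩
    rw [show n • α = (n : ℂ) • α by funext x; simp, C.tau_smul]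
    funext g; simp
  obtain ⟨Rc, hR⟩ := S1514.result S hne hirr hconj C.τ hiso (fun α _ => C.tau_one_eq α)
  obtain ⟨-, τ₁, h₁, h₂⟩ := S1517.result S C.τ Rc hR hdeg
  have hmem : ∀ χ ∈ X, χ ∈ Cfsg.zspan S := fun χ hχ => CoherenceBasic.subset_zspan hχ
  have hdmem : ∀ χ ∈ X, ∀ χ' ∈ X, χ - χ' ∈ Cfsg.zspanOn S {1}ᶜ := fun χ hχ χ' hχ' =>
    ⟨CoherenceBasic.zspan_sub (hmem χ hχ) (hmem χ' hχ'), fun x hx => by
      simp only [Set.mem_compl_iff, Set.mem_singleton_iff, not_not] at hx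
      simp [hx, hdeg χ hχ χ' hχ']⟩
  have hsi : ∀ χ ∈ X, CoherenceBasic.SignedIrr (τ₁ χ) := fun χ hχ =>
    CoherenceBasic.si_of_norm_one (h₁.2.2.2 χ (hmem χ hχ))
      (by rw [h₁.2.2.1 χ (hmem χ hχ) χ (hmem χ hχ)]; exact classInner_irr_self (hirr χ hχ))
  have horth : ∀ χ ∈ X, ∀ χ' ∈ X, Cfsg.classInner (τ₁ χ) (τ₁ χ') = if χ = χ' then 1 else 0 := by
    intro χ hχ χ' hχ'
    rw [h₁.2.2.1 χ (hmem χ hχ) χ' (hmem χ' hχ'), classInner_irr _ _ (hirr χ hχ) (hirr χ' hχ')]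
  have hdiff : ∀ χ ∈ X, ∀ χ' ∈ X, C.τ (χ - χ') = τ₁ χ - τ₁ χ' := fun χ hχ χ' hχ' => by
    rw [← h₂ _ (hdmem χ hχ χ' hχ'), CoherenceBasic.span_map_sub h₁ (hmem χ hχ) (hmem χ' hχ')]
  have hconj' : ∀ χ ∈ X, τ₁ (Cfsg.conjFun χ) = Cfsg.conjFun (τ₁ χ) := by
    intro χ hχ
    obtain ⟨hc, hcne⟩ := hconj χ hχ
    set a := τ₁ χ with ha
    set b := τ₁ (Cfsg.conjFun χ) with hb
    have e1 := hdiff χ hχ _ hc
    have e2 : Cfsg.conjFun a - Cfsg.conjFun b = b - a := by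
      have e3 := congrArg C.τ (show Cfsg.conjFun (χ - Cfsg.conjFun χ) = -(χ - Cfsg.conjFun χ) by
        funext x; simp [Cfsg.conjFun])
      rw [C.tau_conj, C.tau_neg, e1, neg_sub] at e3
      rw [← e3]; funext g; simp [a, b, Cfsg.conjFun, map_sub]
    have hab : Cfsg.classInner a b = 0 := by rw [horth χ hχ _ hc, if_neg (Ne.symm hcne)]
    have hsa : CoherenceBasic.SignedIrr (Cfsg.conjFun a) := by
      rcases hsi χ hχ with h | h
      · exact Or.inl (isIrrCharacter_conj h)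
      · exact Or.inr (by
          rw [show -Cfsg.conjFun a = Cfsg.conjFun (-a) by funext g; simp [Cfsg.conjFun]]
          exact isIrrCharacter_conj h)
    have h3 := congrArg (fun z => Cfsg.classInner z (Cfsg.conjFun a)) e2
    have hba : Cfsg.classInner b a = 0 := by rw [← conj_classInner, hab, map_zero]
    have haa : Cfsg.classInner a a = 1 := CoherenceBasic.si_self (hsi χ hχ)
    simp only [classInner_sub_left, CoherenceBasic.classInner_conjFun, haa,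
      hba, map_one, map_zero, sub_zero] at h3
    rcases CoherenceBasic.si_cases (hsi _ hc) hsa with h | ⟨ε, hε, he, hε'⟩
    · rcases CoherenceBasic.si_cases (hsi χ hχ) hsa with h' | ⟨ε, hε, he, hε'⟩
      · rw [h, h', sub_zero] at h3; exact absurd h3 one_ne_zero
      · rcases hε with rfl | rfl
        · rw [h, hε'] at h3; norm_num at h3
        · exfalso
          have h1 : Cfsg.conjFun a 1 = a 1 := by
            obtain ⟨c, d, hc', hd', e⟩ := CoherenceBasic.si_gen (hsi χ hχ)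
            have hc1 := CoherenceBasic.conjFun_apply_one hc'
            have hd1 := CoherenceBasic.conjFun_apply_one hd'
            simp only [Cfsg.conjFun] at hc1 hd1 ⊢
            have ea : a = c - d := e
            rw [ea]; simp [hc1, hd1]
          rw [he] at h1
          simp only [Pi.smul_apply, smul_eq_mul] at h1
          exact CoherenceBasic.si_apply_one_ne_zero (hsi χ hχ) (by
            push_cast at h1; linear_combination (-1 / 2 : ℂ) * h1)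
    · rcases hε with rfl | rfl
      · rw [he]; simp [b]
      · rw [hε'] at h3
        rcases CoherenceBasic.si_cases (hsi χ hχ) hsa with h' | ⟨ε, hε, -, hε''⟩
        · rw [h'] at h3; norm_num at h3
        · rcases hε with rfl | rfl <;> rw [hε''] at h3 <;> norm_num at h3
  refine ⟨τ₁, hsi, horth, hdiff, ?_, hconj'⟩
  intro χ hχ ω
  obtain ⟨hc, hcne⟩ := hconj χ hχ
  set a := τ₁ χ
  set b := τ₁ (Cfsg.conjFun χ)
  have hs := hsup _ (hdmem χ hχ _ hc)
  have hθ : IsGeneralizedCharacter G (a - b) :=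
    isGeneralizedCharacter_sub (CoherenceBasic.si_gen (hsi χ hχ)) (CoherenceBasic.si_gen (hsi _ hc))
  have hN : Cfsg.classInner (a - b) (a - b) = ((2 : ℤ) : ℂ) := by
    simp only [a, b, classInner_sub_left, classInner_sub_right, horth χ hχ _ hc, horth _ hc χ hχ,
      horth χ hχ χ hχ, horth _ hc _ hc, if_true, if_neg hcne, if_neg (Ne.symm hcne)]
    norm_num
  have hV : ∀ w : ↥(W₁ ⊔ W₂), InV w → (a - b) (w : G) = 0 := fun w hw => by
    rw [← hdiff χ hχ _ hc, C.tau_on_V (isClassFunction_of_isGeneralizedCharacter hs.1) hw]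
    exact (hgen _ (hdmem χ hχ _ hc).1).2 _ (C.base.not_mem_K w.2 hw.2)
  have h00 : C.cell (a - b) i₀ j₀ = 0 := by
    refine C.cell_corner hθ ?_
    rw [← hdiff χ hχ _ hc, C.tau_inner_one (isClassFunction_of_isGeneralizedCharacter hs.1) hs.2,
      classInner_sub_left, classInner_irr _ _ (hirr χ hχ) isIrrCharacter_one,
      classInner_irr _ _ (hirr _ hc) isIrrCharacter_one]
    have e1 : χ ≠ (fun _ => 1) := fun h => hcne (by rw [h]; funext x; simp [Cfsg.conjFun])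
    have e2 : Cfsg.conjFun χ ≠ (fun _ => 1) := fun h => hcne (by
      have h' := congrArg Cfsg.conjFun h
      rw [CoherenceBasic.conjFun_conjFun] at h'
      rw [h, h']; funext x; simp [Cfsg.conjFun])
    rw [if_neg e1, if_neg e2]; simp
  have hz := small_grid C.three_row C.three_col (C.cell_rect hθ hV) h00 (C.grid_le hθ hN)
  have hd := hdisj C.base.sn
  have hcm := hcomm C.base.sn
  set i : RowI W₁ W₂ := ⟨_, part₁_triv hd hcm ω⟩
  set j : ColJ W₁ W₂ := ⟨_, part₂_triv hd hcm ω⟩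
  have hω : i.1 * j.1 = ω := part_mul hd hcm ω
  have h5 := C.cell_spec hθ i j
  rw [hz, Int.cast_zero, hω, classInner_sub_left, sub_eq_zero] at h5
  rcases CoherenceBasic.si_cases (hsi χ hχ) (C.eta_si ω) with h | ⟨ε, hε, he, hε'⟩
  · exact h
  · exfalso
    have h6 : Cfsg.classInner b ((ε : ℂ) • a) = (ε : ℂ) := by rw [← he, ← h5, hε']
    rw [classInner_smul_right, horth _ hc χ hχ, if_neg hcne, mul_zero] at h6
    rcases hε with rfl | rfl <;> norm_num at h6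

end PCtx

end Cfsg.Agent.FTPTau78
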