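import Mathlib

/-!
Arithmetic of power sums of roots of unity, used for the Feit–Higman theorem: Galois invariance
of rational power sums and strict convexity of sums of geometric progressions.
-/

set_option autoImplicit false

noncomputable section

namespace Cfsg.Agent.FeitHigmanArith

open Polynomial

theorem exists_poly {m : ℕ} [NeZero m] {ζ : ℂ} (hζ : IsPrimitiveRoot ζ m) (Ω : Multiset ℂ)
    (hΩ : ∀ z ∈ Ω, z ^ m = 1) :
    ∃ P : ℚ[X], ∀ u : ℕ, aeval (ζ ^ u) P = (Ω.map (· ^ u)).sum := by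
  induction Ω using Multiset.induction with
  | empty => exact ⟨0, fun u => by simp⟩
  | cons z Ω ih =>
    obtain ⟨P, hP⟩ := ih fun w hw => hΩ w (Multiset.mem_cons_of_mem hw)
    obtain ⟨e, -, rfl⟩ := hζ.eq_pow_of_pow_eq_one (hΩ z (Multiset.mem_cons_self _ _))
    exact ⟨X ^ e + P, fun u => by simp [hP, ← pow_mul, mul_comm]⟩

/-- A rational power sum of roots of unity is invariant under Galois conjugation. -/
theorem sum_pow_eq_of_coprime {m : ℕ} [NeZero m] (Ω : Multiset ℂ) (hΩ : ∀ z ∈ Ω, z ^ m = 1)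
    (r : ℚ) (h : Ω.sum = (r : ℂ)) {u : ℕ} (hu : u.Coprime m) :
    (Ω.map (· ^ u)).sum = (r : ℂ) := by
  have hζ := Complex.isPrimitiveRoot_exp m (NeZero.ne m)
  set ζ := Complex.exp (2 * Real.pi * Complex.I / m)
  obtain ⟨P, hP⟩ := exists_poly hζ Ω hΩ
  have h1 : aeval (ζ ^ 1) (P - C r) = 0 := by
    rw [map_sub, hP, aeval_C]
    simp [h]
  have h2 : Polynomial.cyclotomic m ℚ ∣ P - C r := by
    rw [Polynomial.cyclotomic_eq_minpoly_rat hζ (NeZero.pos m)]
    exact minpoly.dvd ℚ ζ (by simpa using h1)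
  have h3 : aeval (ζ ^ u) (P - C r) = 0 := by
    refine aeval_eq_zero_of_dvd_aeval_eq_zero h2 ?_
    rw [Polynomial.cyclotomic_eq_minpoly_rat (hζ.pow_of_coprime u hu) (NeZero.pos m)]
    exact minpoly.aeval ℚ _
  rw [map_sub, hP, aeval_C, sub_eq_zero] at h3
  simpa using h3

/-- Applying the previous lemma to `k`-th powers. -/
theorem sum_pow_mul_eq {m : ℕ} [NeZero m] (Ω : Multiset ℂ) (hΩ : ∀ z ∈ Ω, z ^ m = 1) (k : ℕ)
    (r : ℚ) (h : (Ω.map (· ^ k)).sum = (r : ℂ)) {u : ℕ} (hu : u.Coprime m) :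
    (Ω.map (· ^ (k * u))).sum = (r : ℂ) := by
  have := sum_pow_eq_of_coprime (Ω.map (· ^ k)) (m := m) (by
    intro z hz
    obtain ⟨w, hw, rfl⟩ := Multiset.mem_map.1 hz
    rw [← pow_mul, mul_comm, pow_mul, hΩ w hw, one_pow]) r h hu
  rw [Multiset.map_map] at this
  simpa [pow_mul, Function.comp_def] using this

theorem sum_pow_mod (Ω : Multiset ℂ) {m : ℕ} (hΩ : ∀ z ∈ Ω, z ^ m = 1) (a : ℕ) :
    (Ω.map (· ^ a)).sum = (Ω.map (· ^ (a % m))).sum :=
  congrArg _ (Multiset.map_congr rfl fun z hz => pow_eq_pow_mod a (hΩ z hz))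

theorem re_sum (Ω : Multiset ℂ) : Ω.sum.re = (Ω.map Complex.re).sum :=
  map_multiset_sum Complex.reLm Ω

theorem sum_pow_symm (Ω : Multiset ℂ) {m : ℕ} (hm : 0 < m) (hΩ : ∀ z ∈ Ω, z ^ m = 1) {k : ℕ}
    (hk : k ≤ m) (r : ℝ) (h : (Ω.map (· ^ k)).sum = (r : ℂ)) :
    (Ω.map (· ^ (m - k))).sum = (r : ℂ) := by
  have e : (Ω.map (· ^ (m - k))).sum = (starRingEnd ℂ) (Ω.map (· ^ k)).sum := by
    rw [map_multiset_sum, Multiset.map_map]
    refine congrArg _ (Multiset.map_congr rfl fun z hz => ?_)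
    have h1 : z ^ (m - k) * z ^ k = 1 := by rw [← pow_add, Nat.sub_add_cancel hk, hΩ z hz]
    have hn : ‖z‖ = 1 := Complex.norm_eq_one_of_pow_eq_one (hΩ z hz) hm.ne'
    simp only [Function.comp_apply, map_pow, ← Complex.inv_eq_conj hn, inv_pow]
    exact eq_inv_of_mul_eq_one_left h1
  rw [e, h, Complex.conj_ofReal]

/-- Two point mass convexity inequality for a single geometric progression. -/
theorem geom_convex {b : ℝ} (hb : 0 < b) {i j l : ℕ} (hij : i < j) (hjl : j < l) :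
    ((l : ℝ) - i) * b ^ j ≤ ((l : ℝ) - j) * b ^ i + ((j : ℝ) - i) * b ^ l ∧
      (b ≠ 1 → ((l : ℝ) - i) * b ^ j < ((l : ℝ) - j) * b ^ i + ((j : ℝ) - i) * b ^ l) := by
  set a := Real.log b
  have hpow : ∀ k : ℕ, b ^ k = Real.exp (a * j) * Real.exp (a * ((k : ℝ) - j)) := fun k => by
    rw [← Real.exp_add, show a * j + a * ((k : ℝ) - j) = k * a by ring, Real.exp_nat_mul,
      Real.exp_log hb]
  have hji : (0 : ℝ) < (j : ℝ) - i := sub_pos.2 (by exact_mod_cast hij)
  have hlj : (0 : ℝ) < (l : ℝ) - j := sub_pos.2 (by exact_mod_cast hjl)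
  have hj : b ^ j = Real.exp (a * j) := by rw [hpow j, sub_self, mul_zero, Real.exp_zero, mul_one]
  have hE := Real.exp_pos (a * (j : ℝ))
  refine ⟨?_, fun hne => ?_⟩ <;> rw [hj, hpow i, hpow l]
  · have h1 := mul_le_mul_of_nonneg_left (Real.add_one_le_exp (a * ((i : ℝ) - j))) hlj.le
    have h2 := mul_le_mul_of_nonneg_left (Real.add_one_le_exp (a * ((l : ℝ) - j))) hji.le
    have h3 := mul_le_mul_of_nonneg_left (add_le_add h1 h2) hE.le
    ring_nf at h3 ⊢
    linarith
  · have ha : a ≠ 0 := Real.log_ne_zero_of_pos_of_ne_one hb hne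
    have h1 := mul_lt_mul_of_pos_left
      (Real.add_one_lt_exp (x := a * ((i : ℝ) - j)) (mul_ne_zero ha (by linarith))) hlj
    have h2 := mul_lt_mul_of_pos_left
      (Real.add_one_lt_exp (x := a * ((l : ℝ) - j)) (mul_ne_zero ha (by linarith))) hji
    have h3 := mul_lt_mul_of_pos_left (add_lt_add h1 h2) hE
    ring_nf at h3 ⊢
    linarith

/-- A sum of geometric progressions with positive ratios, one of them not `1`, does not take the
same value three times. -/
theorem not_three_equal (L : Multiset ℝ) (hpos : ∀ b ∈ L, 0 < b) (hne : ∃ b ∈ L, b ≠ 1)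
    {i j l : ℕ} (hij : i < j) (hjl : j < l) (h1 : (L.map (· ^ i)).sum = (L.map (· ^ j)).sum)
    (h2 : (L.map (· ^ l)).sum = (L.map (· ^ j)).sum) : False := by
  have key : (L.map fun b => ((l : ℝ) - i) * b ^ j).sum <
      (L.map fun b => ((l : ℝ) - j) * b ^ i + ((j : ℝ) - i) * b ^ l).sum := by
    obtain ⟨b, hb, hb1⟩ := hne
    exact Multiset.sum_lt_sum (fun c hc => (geom_convex (hpos c hc) hij hjl).1)
      ⟨b, hb, (geom_convex (hpos b hb) hij hjl).2 hb1⟩
  rw [Multiset.sum_map_add, Multiset.sum_map_mul_left, Multiset.sum_map_mul_left,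
    Multiset.sum_map_mul_left, h1, h2, ← add_mul] at key
  rw [show ((l : ℝ) - j) + ((j : ℝ) - i) = (l : ℝ) - i by ring] at key
  exact lt_irrefl _ key

/-- Coprime residues: if `n` is none of `1,2,3,4,6`, three distinct units are available. -/
theorem exists_middle_unit {n : ℕ} (h : n ∉ ({0, 1, 2, 3, 4, 6} : Finset ℕ)) :
    ∃ u, 1 < u ∧ u + 1 < n ∧ u.Coprime n := by
  simp only [Finset.mem_insert, Finset.mem_singleton, not_or] at h
  rcases Nat.even_or_odd n with ⟨l, rfl⟩ | ho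
  · rcases Nat.even_or_odd l with ⟨c, rfl⟩ | ⟨c, rfl⟩
    · refine ⟨c + c - 1, by omega, by omega, ?_⟩
      have h1 : Nat.Coprime (c + c - 1) (c + c) := by
        have := Nat.coprime_self_add_right.2 (Nat.coprime_one_right (c + c - 1))
        rwa [show (c + c - 1) + 1 = c + c by omega] at this
      have h2 : Nat.Coprime (c + c - 1) 2 :=
        Nat.coprime_two_right.2 (by rw [Nat.odd_iff]; omega)
      have := h1.mul_right h2
      rwa [show (c + c) * 2 = c + c + (c + c) by ring] at this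
    · refine ⟨2 * c - 1, by omega, by omega, ?_⟩
      have h2 : Nat.Coprime (2 * c - 1) 2 :=
        Nat.coprime_two_right.2 (by rw [Nat.odd_iff]; omega)
      have h1 : Nat.Coprime (2 * c - 1) (2 * c + 1) := by
        have := Nat.coprime_self_add_right.2 h2
        rwa [show (2 * c - 1) + 2 = 2 * c + 1 by omega] at this
      have := h1.mul_right h2
      rwa [show (2 * c + 1) * 2 = 2 * c + 1 + (2 * c + 1) by ring] at this
  · refine ⟨2, by omega, ?_, Nat.coprime_two_left.2 ho⟩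
    obtain ⟨c, rfl⟩ := ho
    omega

end Cfsg.Agent.FeitHigmanArith
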