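import Mathlib

/-!
Eigenvalues of a product of two operators satisfying quadratic and braid relations, and traces
of powers through eigenvalues.
-/

set_option autoImplicit false

noncomputable section

namespace Cfsg.Agent.FeitHigmanEigen

open Matrix

/-- The eigenvalues allowed from common eigenvectors. -/
def IsLin (p q : ℝ) (z : ℂ) : Prop :=
  z = (p : ℂ) * q ∨ z = 1 ∨ z = -(p : ℂ) ∨ z = -(q : ℂ)

theorem root_quadratic {p : ℝ} {z : ℂ} (h : z * z = ((p : ℂ) - 1) * z + p) :
    z = p ∨ z = -1 := by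
  have h2 : (z - p) * (z + 1) = 0 := by linear_combination h
  rcases mul_eq_zero.1 h2 with h | h
  · exact Or.inl (by linear_combination h)
  · exact Or.inr (by linear_combination h)

variable {X : Type*} [Fintype X] [DecidableEq X]

/-- Model of the first operator on a two dimensional invariant subspace. -/
def modelA (p : ℝ) (z : ℂ) : Matrix (Fin 2) (Fin 2) ℂ := !![(p : ℂ) - 1, z; (p : ℂ) / z, 0]

/-- Model of the second operator on a two dimensional invariant subspace. -/
def modelB (q : ℝ) : Matrix (Fin 2) (Fin 2) ℂ := !![0, (q : ℂ); 1, (q : ℂ) - 1]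

theorem modelC (p q : ℝ) {z : ℂ} (hz : z ≠ 0) : modelA p z * modelB q =
    !![z, ((p : ℂ) - 1) * q + z * ((q : ℂ) - 1); 0, (p : ℂ) * q / z] := by
  ext i j
  fin_cases i <;> fin_cases j <;> simp [modelA, modelB] <;> field_simp

theorem modelC_pow (a c d : ℂ) (k : ℕ) :
    ∃ e : ℂ, (!![a, c; 0, d] : Matrix (Fin 2) (Fin 2) ℂ) ^ k = !![a ^ k, e; 0, d ^ k] ∧
      (a = d → e = k * a ^ (k - 1) * c) := by
  induction k with
  | zero => exact ⟨0, by ext i j; fin_cases i <;> fin_cases j <;> simp, fun _ => by simp⟩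
  | succ k ih =>
    obtain ⟨e, h1, h2⟩ := ih
    refine ⟨a ^ k * c + e * d, ?_, fun had => ?_⟩
    · rw [pow_succ, h1]
      ext i j
      fin_cases i <;> fin_cases j <;> simp [pow_succ]
    · subst had
      rw [h2 rfl]
      rcases k with _ | k
      · simp
      · simp only [Nat.add_sub_cancel, pow_succ]; push_cast; ring

/-- Dichotomy for an eigenvector of `A * B`. -/
theorem dichotomy {A B : Matrix X X ℂ} {p q : ℝ} (hp : 1 < p) (hq : 1 < q)
    (hA : A * A = ((p : ℂ) - 1) • A + (p : ℂ) • 1) (hB : B * B = ((q : ℂ) - 1) • B + (q : ℂ) • 1)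
    {z : ℂ} {x : X → ℂ} (hx0 : x ≠ 0) (hx : (A * B) *ᵥ x = z • x) :
    IsLin p q z ∨ (z ≠ 0 ∧ ∃ L : Matrix X (Fin 2) ℂ,
      (∀ M N : Matrix (Fin 2) (Fin 2) ℂ, L * M = L * N → M = N) ∧
      A * L = L * modelA p z ∧ B * L = L * modelB q) := by
  have hp0 : (p : ℂ) ≠ 0 := by exact_mod_cast (by linarith : p ≠ 0)
  have hq0 : (q : ℂ) ≠ 0 := by exact_mod_cast (by linarith : q ≠ 0)
  set y := B *ᵥ x with hy
  have hAy : A *ᵥ y = z • x := by rw [hy, mulVec_mulVec, hx]
  have hBy : B *ᵥ y = ((q : ℂ) - 1) • y + (q : ℂ) • x := by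
    rw [hy, mulVec_mulVec, hB, add_mulVec, smul_mulVec, smul_mulVec, one_mulVec]
  have hAAy : z • (A *ᵥ x) = ((p : ℂ) - 1) • (z • x) + (p : ℂ) • y := by
    rw [← mulVec_smul, ← hAy, mulVec_mulVec, hA, add_mulVec, smul_mulVec, smul_mulVec, one_mulVec]
  have hz : z ≠ 0 := by
    intro hz
    rw [hz, zero_smul, zero_smul, smul_zero, zero_add, eq_comm, smul_eq_zero] at hAAy
    have hy0 : y = 0 := hAAy.resolve_left hp0
    rw [hy0, mulVec_zero, smul_zero, zero_add, eq_comm, smul_eq_zero] at hBy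
    exact hx0 (hBy.resolve_left hq0)
  have hAx : A *ᵥ x = ((p : ℂ) - 1) • x + ((p : ℂ) / z) • y := by
    have := congrArg (fun w => z⁻¹ • w) hAAy
    simp only [smul_smul, smul_add, inv_mul_cancel₀ hz, one_smul] at this
    rw [this, show z⁻¹ * (((p : ℂ) - 1) * z) = (p : ℂ) - 1 by field_simp, div_eq_inv_mul]
  by_cases hdep : ∃ β : ℂ, y = β • x
  · left
    obtain ⟨β, hβ⟩ := hdep
    have hBx : B *ᵥ x = β • x := by rw [← hy, hβ]
    have hb : β * β = ((q : ℂ) - 1) * β + q := by
      refine smul_left_injective ℂ hx0 ?_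
      show (β * β) • x = (((q : ℂ) - 1) * β + q) • x
      have h := hBy
      rw [hβ, mulVec_smul, hBx, smul_smul, smul_smul] at h
      rw [h, add_smul]
    have hβ0 : β ≠ 0 := by
      intro h0; rw [h0] at hb; simp at hb; exact hq0 hb.symm
    obtain ⟨α, hα⟩ : ∃ α : ℂ, A *ᵥ x = α • x :=
      ⟨((p : ℂ) - 1) + (p : ℂ) / z * β, by rw [hAx, hβ, smul_smul, add_smul]⟩
    have hzab : z = α * β := by
      refine smul_left_injective ℂ hx0 ?_
      show z • x = (α * β) • x
      rw [← hAy, hβ, mulVec_smul, hα, smul_smul, mul_comm]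
    have ha : α * α = ((p : ℂ) - 1) * α + p := by
      refine smul_left_injective ℂ hx0 ?_
      show (α * α) • x = (((p : ℂ) - 1) * α + p) • x
      have h : (A * A) *ᵥ x = (α * α) • x := by
        rw [← mulVec_mulVec, hα, mulVec_smul, hα, smul_smul]
      rw [← h, hA, add_mulVec, smul_mulVec, smul_mulVec, one_mulVec, hα, smul_smul, add_smul]
    rcases root_quadratic ha with rfl | rfl <;> rcases root_quadratic hb with rfl | rfl
    · exact Or.inl hzab
    · exact Or.inr (Or.inr (Or.inl (by rw [hzab]; ring)))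
    · exact Or.inr (Or.inr (Or.inr (by rw [hzab]; ring)))
    · exact Or.inr (Or.inl (by rw [hzab]; ring))
  · right
    refine ⟨hz, Matrix.of fun k i => (![x, y] i) k, ?_, ?_, ?_⟩
    · intro M N h
      have hli : LinearIndependent ℂ ![x, y] := by
        rw [LinearIndependent.pair_iff]
        intro a b hab
        by_cases hb0 : b = 0
        · refine ⟨?_, hb0⟩
          rw [hb0, zero_smul, add_zero, smul_eq_zero] at hab
          exact hab.resolve_right hx0
        · refine absurd ⟨-(a / b), ?_⟩ hdep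
          rw [add_eq_zero_iff_eq_neg'] at hab
          rw [← inv_smul_smul₀ hb0 y, hab, smul_neg, smul_smul, ← neg_smul, div_eq_inv_mul]
      ext i j
      have hcol : ∑ l, M l j • ![x, y] l = ∑ l, N l j • ![x, y] l := by
        funext k
        have := congrFun (congrFun h k) j
        simpa [Matrix.mul_apply, mul_comm] using this
      exact congrFun (linearIndependent_iff_injective_fintypeLinearCombination.1 hli
        (a₁ := fun l => M l j) (a₂ := fun l => N l j)
        (by simpa [Fintype.linearCombination_apply] using hcol)) i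
    · ext k i
      fin_cases i
      · show (A *ᵥ x) k = _
        rw [hAx]; simp [Matrix.mul_apply, modelA, Fin.sum_univ_two, mul_comm]
      · show (A *ᵥ y) k = _
        rw [hAy]; simp [Matrix.mul_apply, modelA, Fin.sum_univ_two, mul_comm]
    · ext k i
      fin_cases i
      · show (B *ᵥ x) k = _
        rw [← hy]; simp [Matrix.mul_apply, modelB, Fin.sum_univ_two]
      · show (B *ᵥ y) k = _
        rw [hBy]; simp [Matrix.mul_apply, modelB, Fin.sum_univ_two, mul_comm]; ring

theorem transfer {A : Matrix X X ℂ} {L : Matrix X (Fin 2) ℂ} {a : Matrix (Fin 2) (Fin 2) ℂ}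
    (h : A * L = L * a) {B : Matrix X X ℂ} {b : Matrix (Fin 2) (Fin 2) ℂ} (h' : B * L = L * b) :
    (A * B) * L = L * (a * b) := by
  rw [Matrix.mul_assoc, h', ← Matrix.mul_assoc, h, Matrix.mul_assoc]

theorem transfer_pow {A : Matrix X X ℂ} {L : Matrix X (Fin 2) ℂ} {a : Matrix (Fin 2) (Fin 2) ℂ}
    (h : A * L = L * a) : ∀ k : ℕ, A ^ k * L = L * a ^ k
  | 0 => by simp
  | k + 1 => by rw [pow_succ, pow_succ, transfer (transfer_pow h k) h]

/-- A matrix commuting with `modelB`, upper triangular, is scalar. -/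
theorem scalar_of_commute {q : ℝ} (hq : q ≠ 0) {l c u : ℂ}
    (h : !![l, c; 0, u] * modelB q = modelB q * !![l, c; 0, u]) : c = 0 ∧ l = u := by
  have h00 := congrFun (congrFun h 0) 0
  have h10 := congrFun (congrFun h 1) 0
  simp [modelB] at h00 h10
  exact ⟨h00, h10.symm⟩

/-- Eigenvalues in the even case. -/
theorem eigen_even {A B : Matrix X X ℂ} {p q : ℝ} (hp : 1 < p) (hq : 1 < q)
    (hA : A * A = ((p : ℂ) - 1) • A + (p : ℂ) • 1) (hB : B * B = ((q : ℂ) - 1) • B + (q : ℂ) • 1)
    {n : ℕ} (hn : 0 < n) (hbr : (A * B) ^ n * B = B * (A * B) ^ n)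
    {z : ℂ} {x : X → ℂ} (hx0 : x ≠ 0) (hx : (A * B) *ᵥ x = z • x) :
    IsLin p q z ∨ (z ^ (2 * n) = ((p : ℂ) * q) ^ n ∧ z ^ 2 ≠ (p : ℂ) * q) := by
  rcases dichotomy hp hq hA hB hx0 hx with h | ⟨hz, L, hL, hAL, hBL⟩
  · exact Or.inl h
  have hCn := transfer_pow (transfer hAL hBL) n
  have hb2 : (modelA p z * modelB q) ^ n * modelB q = modelB q * (modelA p z * modelB q) ^ n :=
    hL _ _ (by rw [← transfer hCn hBL, ← transfer hBL hCn, hbr])
  rw [modelC p q hz] at hb2
  obtain ⟨e, he, heq⟩ := modelC_pow z (((p : ℂ) - 1) * q + z * ((q : ℂ) - 1)) ((p : ℂ) * q / z) n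
  rw [he] at hb2
  obtain ⟨he0, hzn⟩ := scalar_of_commute (by linarith) hb2
  have hpow : z ^ (2 * n) = ((p : ℂ) * q) ^ n := by
    rw [two_mul, pow_add]
    conv_lhs => arg 2; rw [hzn]
    rw [← mul_pow, mul_div_cancel₀ _ hz]
  by_cases hsq : z ^ 2 = (p : ℂ) * q
  · left
    have hd : z = (p : ℂ) * q / z := by rw [eq_div_iff hz, ← hsq, sq]
    have hc := heq hd
    rw [he0, eq_comm] at hc
    have hc' : ((p : ℂ) - 1) * q + z * ((q : ℂ) - 1) = 0 := by
      rcases mul_eq_zero.1 hc with h | h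
      · exact absurd h (mul_ne_zero (Nat.cast_ne_zero.2 hn.ne') (pow_ne_zero _ hz))
      · exact h
    set zr : ℝ := -((p - 1) * q / (q - 1)) with hzr
    have hq1 : (q : ℂ) - 1 ≠ 0 := sub_ne_zero.2 (by exact_mod_cast hq.ne')
    have hzc : z = (zr : ℂ) := by
      rw [hzr]; push_cast; field_simp; linear_combination hc'
    have hsq' : zr ^ 2 = p * q := by
      rw [hzc] at hsq
      exact_mod_cast hsq
    have hpq : p = q := by
      rw [hzr, neg_sq, div_pow, div_eq_iff (pow_ne_zero _ (by linarith : q - 1 ≠ 0))] at hsq'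
      have h3 : q * ((p - q) * (p * q - 1)) = 0 := by linear_combination hsq'
      rcases mul_eq_zero.1 h3 with h4 | h4
      · linarith
      rcases mul_eq_zero.1 h4 with h5 | h5
      · linarith
      · nlinarith
    refine Or.inr (Or.inr (Or.inl ?_))
    have hq1' : q - 1 ≠ 0 := by linarith
    have hzp : zr = -p := by rw [hzr, hpq, mul_div_cancel_left₀ _ hq1']
    rw [hzc, hzp, Complex.ofReal_neg]
  · exact Or.inr ⟨hpow, hsq⟩

/-- Eigenvalues in the odd case. -/
theorem eigen_odd {A B : Matrix X X ℂ} {p : ℝ} (hp : 1 < p)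
    (hA : A * A = ((p : ℂ) - 1) • A + (p : ℂ) • 1) (hB : B * B = ((p : ℂ) - 1) • B + (p : ℂ) • 1)
    {n : ℕ} (hbr : (A * B) ^ n * A = B * (A * B) ^ n)
    {z : ℂ} {x : X → ℂ} (hx0 : x ≠ 0) (hx : (A * B) *ᵥ x = z • x) :
    IsLin p p z ∨ z ^ (2 * n + 1) = (p : ℂ) ^ (2 * n + 1) := by
  rcases dichotomy hp hp hA hB hx0 hx with h | ⟨hz, L, hL, hAL, hBL⟩
  · exact Or.inl h
  have hp0 : (p : ℂ) ≠ 0 := by exact_mod_cast (by linarith : p ≠ 0)
  have hp1 : (p : ℂ) - 1 ≠ 0 := sub_ne_zero.2 (by exact_mod_cast hp.ne')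
  set a := modelA p z with ha
  set b := modelB p with hb
  set N := (a * b) ^ n * a with hN
  have hCn := transfer_pow (transfer hAL hBL) n
  have hN' : N = b * (a * b) ^ n :=
    hL _ _ (by rw [hN, ← transfer hCn hAL, ← transfer hBL hCn, hbr])
  have e1 : N * a = b * N := by
    conv_lhs => rw [hN']
    rw [hN, mul_assoc]
  have e2 : a * N = N * b := by
    conv_lhs => rw [hN']
    rw [hN, ← mul_assoc, mul_assoc _ a b]
    exact (Commute.self_pow (a * b) n).eq
  have hNN : N * N = (a * b) ^ (2 * n + 1) := by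
    conv_lhs => arg 2; rw [hN']
    rw [hN, ← mul_assoc, mul_assoc _ a b, ← pow_succ, ← pow_add]
    congr 1; omega
  have ca : N * N * a = a * (N * N) := by
    rw [mul_assoc, e1, ← mul_assoc, ← e2, mul_assoc]
  have cb : N * N * b = b * (N * N) := by
    rw [mul_assoc, ← e2, ← mul_assoc, e1, mul_assoc]
  by_cases hc0 : ((p : ℂ) - 1) * p + z * ((p : ℂ) - 1) = 0
  · left
    refine Or.inr (Or.inr (Or.inl ?_))
    have : ((p : ℂ) - 1) * (z + p) = 0 := by linear_combination hc0
    linear_combination (mul_eq_zero.1 this).resolve_left hp1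
  right
  have a01 := congrFun (congrFun ca 0) 1
  have b00 := congrFun (congrFun cb 0) 0
  have b10 := congrFun (congrFun cb 1) 0
  simp [ha, hb, modelA, modelB, Matrix.mul_apply, Fin.sum_univ_two] at a01 b00 b10
  have hu : N 1 0 * N 0 0 + N 1 1 * N 1 0 = 0 := by
    have : (N 1 0 * N 0 0 + N 1 1 * N 1 0) * (((p : ℂ) - 1) * p + z * ((p : ℂ) - 1)) = 0 := by
      linear_combination (-1 : ℂ) * a01 + (-((p : ℂ) - 1)) * b00 + (-z) * b10
    exact (mul_eq_zero.1 this).resolve_right hc0
  have hu' : N 0 0 * N 0 1 + N 0 1 * N 1 1 = 0 := by linear_combination b00 + (p : ℂ) * hu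
  have hlw : N 1 0 * N 0 1 + N 1 1 * N 1 1 = N 0 0 * N 0 0 + N 0 1 * N 1 0 := by
    linear_combination b10 + ((p : ℂ) - 1) * hu
  have hdet : N.det = -(p : ℂ) ^ (2 * n + 1) := by
    have hda : a.det = -(p : ℂ) := by rw [ha, modelA, Matrix.det_fin_two_of]; field_simp; ring
    have hdb : b.det = -(p : ℂ) := by rw [hb, modelB, Matrix.det_fin_two_of]; ring
    rw [hN, Matrix.det_mul, Matrix.det_pow, Matrix.det_mul, hda, hdb, pow_succ, pow_mul]
    ring
  have htr : N 0 0 + N 1 1 = 0 := by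
    by_contra htr
    have h10 : N 1 0 = 0 :=
      (mul_eq_zero.1 (show (N 0 0 + N 1 1) * N 1 0 = 0 by linear_combination hu)).resolve_left htr
    have h01 : N 0 1 = 0 :=
      (mul_eq_zero.1 (show (N 0 0 + N 1 1) * N 0 1 = 0 by linear_combination hu')).resolve_left htr
    have h11 : N 0 0 = N 1 1 := by
      refine sub_eq_zero.1 ((mul_eq_zero.1 (show (N 0 0 + N 1 1) * (N 0 0 - N 1 1) = 0 by
        linear_combination (-1 : ℂ) * hlw)).resolve_left htr)
    have e := congrFun (congrFun e1 0) 0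
    simp [ha, hb, modelA, modelB, Matrix.mul_apply, Fin.sum_univ_two, h10, h01] at e
    have hN0 : N 0 0 = 0 := by
      rcases e with h | h
      · exact h
      · exact absurd h hp1
    rw [Matrix.det_fin_two, h10, h01, ← h11, hN0] at hdet
    simp at hdet
    exact hp0 (by rw [hdet, Complex.ofReal_zero])
  obtain ⟨e, he, -⟩ :=
    modelC_pow z (((p : ℂ) - 1) * p + z * ((p : ℂ) - 1)) ((p : ℂ) * p / z) (2 * n + 1)
  rw [ha, hb, modelC p p hz, he] at hNN
  have h := congrFun (congrFun hNN 0) 0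
  simp [Matrix.mul_apply, Fin.sum_univ_two] at h
  rw [Matrix.det_fin_two] at hdet
  linear_combination (-1 : ℂ) * h + (N 0 0) * htr - hdet

theorem isNilpotent_pow_sub_pow {R : Type*} [Ring R] {x y : R} (h : Commute x y)
    (hn : IsNilpotent (x - y)) (k : ℕ) : IsNilpotent (x ^ k - y ^ k) := by
  rw [← h.geom_sum₂_mul k]
  refine Commute.isNilpotent_mul_left ?_ hn
  exact Commute.sum_left _ _ _ fun i _ =>
    (((Commute.refl x).sub_right h).pow_left i).mul_left
      ((h.symm.sub_right (Commute.refl y)).pow_left _)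

/-- Traces of powers as sums over a multiset of eigenvalues. -/
theorem exists_eigenvalues (C : Matrix X X ℂ) :
    ∃ R : Multiset ℂ, (∀ k : ℕ, (C ^ k).trace = (R.map (· ^ k)).sum) ∧
      (∀ z ∈ R, ∃ x : X → ℂ, x ≠ 0 ∧ C *ᵥ x = z • x) ∧
      (∀ (z : ℂ) (x : X → ℂ), x ≠ 0 → C *ᵥ x = z • x → z ∈ R) := by
  classical
  set f : Module.End ℂ (X → ℂ) := Matrix.toLinAlgEquiv' C with hf
  have hfapp : ∀ v, f v = C *ᵥ v := fun v => Matrix.toLinAlgEquiv'_apply _ _
  have hint := DirectSum.isInternal_submodule_of_iSupIndep_of_iSup_eq_top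
    f.independent_maxGenEigenspace f.iSup_maxGenEigenspace_eq_top
  have hfin : {μ : ℂ | f.maxGenEigenspace μ ≠ ⊥}.Finite :=
    WellFoundedGT.finite_ne_bot_of_iSupIndep f.independent_maxGenEigenspace
  set R : Multiset ℂ := ∑ μ ∈ hfin.toFinset,
    Multiset.replicate (Module.finrank ℂ (f.maxGenEigenspace μ)) μ with hR
  have hmem : ∀ z, z ∈ R ↔ f.maxGenEigenspace z ≠ ⊥ := by
    intro z
    rw [hR, Multiset.mem_sum]
    constructor
    · rintro ⟨μ, hμ, hz⟩
      rw [Multiset.eq_of_mem_replicate hz]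
      exact hfin.mem_toFinset.1 hμ
    · intro hz
      exact ⟨z, hfin.mem_toFinset.2 hz, Multiset.mem_replicate.2
        ⟨(Submodule.finrank_eq_zero.not.2 hz), rfl⟩⟩
  refine ⟨R, fun k => ?_, fun z hz => ?_, fun z x hx0 hx => ?_⟩
  · have hmaps : ∀ μ : ℂ, Set.MapsTo (f ^ k) (f.maxGenEigenspace μ) (f.maxGenEigenspace μ) :=
      fun μ => Module.End.mapsTo_maxGenEigenspace_of_comm (Commute.self_pow f k) μ
    have htr : (C ^ k).trace = LinearMap.trace ℂ (X → ℂ) (f ^ k) := by
      rw [hf, ← map_pow, LinearMap.trace_eq_matrix_trace ℂ (Pi.basisFun ℂ X)]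
      congr 1
      exact (Matrix.toLinAlgEquiv'.symm_apply_apply (C ^ k)).symm.trans (by
        rw [LinearMap.toMatrix_eq_toMatrix']; rfl)
    rw [htr, LinearMap.trace_eq_sum_trace_restrict' hint hfin hmaps, hR,
      ← Multiset.coe_mapAddMonoidHom, map_sum]
    simp only [Multiset.coe_mapAddMonoidHom, Multiset.sum_sum, Multiset.map_replicate,
      Multiset.sum_replicate]
    refine Finset.sum_congr rfl fun μ _ => ?_
    set W := f.maxGenEigenspace μ
    have hW : Set.MapsTo f W W :=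
      Module.End.mapsTo_maxGenEigenspace_of_comm (Commute.refl f) μ
    have hrest : LinearMap.restrict (f ^ k) (hmaps μ) = (LinearMap.restrict f hW) ^ k := by
      have hk : ∀ (j : ℕ) (w : W), (((LinearMap.restrict f hW) ^ j) w : X → ℂ) = (f ^ j) w := by
        intro j w
        induction j generalizing w with
        | zero => rfl
        | succ j ih =>
          rw [pow_succ, pow_succ, Module.End.mul_apply, Module.End.mul_apply, ih]
          rfl
      exact LinearMap.ext fun w => Subtype.ext (hk k w).symm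
    set g : Module.End ℂ W := LinearMap.restrict f hW
    have hnil : IsNilpotent (g - algebraMap ℂ (Module.End ℂ W) μ) :=
      Module.End.isNilpotent_restrict_maxGenEigenspace_sub_algebraMap f μ
    have hga : Commute g (algebraMap ℂ (Module.End ℂ W) μ) := (Algebra.commutes μ g).symm
    have hnil' : IsNilpotent (g ^ k - algebraMap ℂ (Module.End ℂ W) μ ^ k) :=
      isNilpotent_pow_sub_pow (R := Module.End ℂ W) hga hnil k
    have h0 := (LinearMap.isNilpotent_trace_of_isNilpotent hnil').eq_zero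
    rw [show LinearMap.trace ℂ W (g ^ k - algebraMap ℂ (Module.End ℂ W) μ ^ k) =
        LinearMap.trace ℂ W (g ^ k) - LinearMap.trace ℂ W (algebraMap ℂ (Module.End ℂ W) μ ^ k) from
        map_sub (LinearMap.trace ℂ W) (g ^ k) _, sub_eq_zero, ← map_pow, Algebra.algebraMap_eq_smul_one, map_smul,
      LinearMap.trace_one, smul_eq_mul] at h0
    rw [hrest, h0, nsmul_eq_mul, mul_comm]
  · have hne := (hmem z).1 hz
    have hev : f.HasEigenvalue z := by
      exact (Module.End.hasUnifEigenvalue_iff_hasUnifEigenvalue_one (k := ⊤) (by simp)).1 hne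
    obtain ⟨x, hx, hx0⟩ := hev.exists_hasEigenvector
    exact ⟨x, hx0, by rw [← hfapp]; exact Module.End.mem_eigenspace_iff.1 hx⟩
  · refine (hmem z).2 fun hbot => hx0 ?_
    have hmem' : x ∈ f.maxGenEigenspace z :=
      Module.End.eigenspace_le_maxGenEigenspace (f := f) (μ := z)
        (Module.End.mem_eigenspace_iff.2 (by rw [hfapp]; exact hx))
    rwa [hbot, Submodule.mem_bot] at hmem'

end Cfsg.Agent.FeitHigmanEigen
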