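import Mathlib
import Cfsg.Agent.Lib.FeitHigmanArith
import Cfsg.Agent.Lib.FeitHigmanEigen

/-!
The numerical part of the Feit–Higman theorem: a multiset of eigenvalues with vanishing power sums
forces the admissible values of `m`.
-/

set_option autoImplicit false

noncomputable section

namespace Cfsg.Agent.FeitHigmanCount

open Cfsg.Agent.FeitHigmanArith Cfsg.Agent.FeitHigmanEigen

/-- Separate the eigenvalues into real ones from common eigenvectors and scaled roots of unity. -/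
theorem split {m p q : ℕ} {v : ℝ} (hv : 0 < v) {R : Multiset ℂ} (hpq : ((p : ℂ) * q) ∈ R)
    (hcl : ∀ z ∈ R, IsLin (p : ℝ) q z ∨ z ^ m = (v : ℂ) ^ m)
    (htr : ∀ k, 0 < k → k < m → (R.map (· ^ k)).sum = 0) :
    ∃ (L : Multiset ℝ) (Ω : Multiset ℂ),
      (∀ b ∈ L, b = (p : ℝ) * q ∨ b = 1 ∨ b = -(p : ℝ) ∨ b = -(q : ℝ)) ∧ (p : ℝ) * q ∈ L ∧
      (∀ z ∈ Ω, z ^ m = 1 ∧ ∃ w ∈ R, z = w / v ∧ ¬ IsLin (p : ℝ) q w) ∧
      ∀ k, 0 < k → k < m → (Ω.map (· ^ k)).sum = ((-(L.map (· ^ k)).sum / v ^ k : ℝ) : ℂ) := by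
  classical
  set P : ℂ → Prop := IsLin (p : ℝ) q with hP
  have hvc : (v : ℂ) ≠ 0 := by exact_mod_cast hv.ne'
  have hreal : ∀ z, P z → z = (z.re : ℂ) := by
    intro z hz
    rcases hz with h | h | h | h <;> subst h <;> simp [Complex.ext_iff]
  refine ⟨(R.filter P).map Complex.re, (R.filter fun z => ¬ P z).map (· / (v : ℂ)), ?_, ?_, ?_, ?_⟩
  · intro b hb
    obtain ⟨z, hz, rfl⟩ := Multiset.mem_map.1 hb
    rcases (Multiset.mem_filter.1 hz).2 with h | h | h | h <;> subst h <;> simp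
  · exact Multiset.mem_map.2 ⟨_, Multiset.mem_filter.2 ⟨hpq, Or.inl (by simp)⟩, by simp⟩
  · intro z hz
    obtain ⟨w, hw, rfl⟩ := Multiset.mem_map.1 hz
    obtain ⟨hwR, hwP⟩ := Multiset.mem_filter.1 hw
    refine ⟨?_, w, hwR, rfl, hwP⟩
    rw [div_pow, (hcl w hwR).resolve_left hwP, div_self (pow_ne_zero _ hvc)]
  · intro k h0 hk
    have h := htr k h0 hk
    rw [← Multiset.filter_add_not P R, Multiset.map_add, Multiset.sum_add] at h
    have e1 : ((R.filter P).map (· ^ k)).sum =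
        ((((R.filter P).map Complex.re).map (· ^ k)).sum : ℝ) := by
      rw [show ∀ M : Multiset ℝ, ((M.sum : ℝ) : ℂ) = (M.map Complex.ofReal).sum from
        fun M => map_multiset_sum Complex.ofRealHom M, Multiset.map_map, Multiset.map_map]
      refine congrArg _ (Multiset.map_congr rfl fun z hz => ?_)
      simp only [Function.comp_apply, Complex.ofReal_pow]
      rw [← hreal z (Multiset.mem_filter.1 hz).2]
    rw [Multiset.map_map]
    simp only [Function.comp_def, div_pow]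
    rw [show ((R.filter fun z => ¬ P z).map fun z => z ^ k / (v : ℂ) ^ k) =
      (R.filter fun z => ¬ P z).map fun z => z ^ k * ((v : ℂ) ^ k)⁻¹ from
        Multiset.map_congr rfl fun z _ => div_eq_mul_inv _ _,
      Multiset.sum_map_mul_right, eq_neg_of_add_eq_zero_right h, e1]
    push_cast
    rw [← div_eq_mul_inv]

theorem int_sum {p q : ℕ} {L : Multiset ℝ}
    (hL : ∀ b ∈ L, b = (p : ℝ) * q ∨ b = 1 ∨ b = -(p : ℝ) ∨ b = -(q : ℝ)) (k : ℕ) :
    ∃ a : ℤ, (L.map (· ^ k)).sum = (a : ℝ) := by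
  induction L using Multiset.induction with
  | empty => exact ⟨0, by simp⟩
  | cons b L ih =>
    obtain ⟨a, ha⟩ := ih fun c hc => hL c (Multiset.mem_cons_of_mem hc)
    rw [Multiset.map_cons, Multiset.sum_cons, ha]
    rcases hL b (Multiset.mem_cons_self _ _) with h | h | h | h <;> subst h
    · exact ⟨((p : ℤ) * q) ^ k + a, by push_cast; ring⟩
    · exact ⟨1 + a, by push_cast; rw [one_pow]⟩
    · exact ⟨(-(p : ℤ)) ^ k + a, by push_cast; ring⟩
    · exact ⟨(-(q : ℤ)) ^ k + a, by push_cast; ring⟩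

/-- Normal form of the sums from common eigenvectors. -/
theorem normal_form {p q : ℕ} (hp : 2 ≤ p) (hq : 2 ≤ q) {v : ℝ} (hv : 0 < v)
    (hv2 : v ^ 2 = (p : ℝ) * q) {L : Multiset ℝ}
    (hL : ∀ b ∈ L, b = (p : ℝ) * q ∨ b = 1 ∨ b = -(p : ℝ) ∨ b = -(q : ℝ))
    (hmem : (p : ℝ) * q ∈ L) :
    ∃ c0 c1 f1 f2 : ℝ, 0 < c0 ∧ ∀ k : ℕ, (L.map (· ^ k)).sum / v ^ k =
      c0 * v ^ k + c1 * (1 / v) ^ k + (-1) ^ k * (f1 * ((p : ℝ) / v) ^ k + f2 * (v / p) ^ k) := by
  classical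
  obtain ⟨L', rfl⟩ := Multiset.exists_cons_of_mem hmem
  have key : ∀ M : Multiset ℝ,
      (∀ b ∈ M, b = (p : ℝ) * q ∨ b = 1 ∨ b = -(p : ℝ) ∨ b = -(q : ℝ)) →
      ∃ c0 c1 f1 f2 : ℝ, 0 ≤ c0 ∧ ∀ k : ℕ, (M.map (· ^ k)).sum / v ^ k =
      c0 * v ^ k + c1 * (1 / v) ^ k + (-1) ^ k * (f1 * ((p : ℝ) / v) ^ k + f2 * (v / p) ^ k) := by
    have hp0 : (p : ℝ) ≠ 0 := by positivity
    intro M hM
    induction M using Multiset.induction with
    | empty => exact ⟨0, 0, 0, 0, le_rfl, fun k => by simp⟩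
    | cons b M ih =>
      obtain ⟨c0, c1, f1, f2, h0, h⟩ := ih fun c hc => hM c (Multiset.mem_cons_of_mem hc)
      have hk : ∀ (k : ℕ), ((b ::ₘ M).map (· ^ k)).sum / v ^ k =
          (b / v) ^ k + (M.map (· ^ k)).sum / v ^ k := fun k => by
        rw [Multiset.map_cons, Multiset.sum_cons, add_div, div_pow]
      rcases hM b (Multiset.mem_cons_self _ _) with hb | hb | hb | hb <;> subst hb
      · refine ⟨c0 + 1, c1, f1, f2, by linarith, fun k => ?_⟩
        rw [hk, h, show (p : ℝ) * q / v = v by rw [← hv2, sq]; field_simp]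
        ring
      · refine ⟨c0, c1 + 1, f1, f2, h0, fun k => ?_⟩
        rw [hk, h]; ring
      · refine ⟨c0, c1, f1 + 1, f2, h0, fun k => ?_⟩
        rw [hk, h, neg_div, neg_pow]; ring
      · refine ⟨c0, c1, f1, f2 + 1, h0, fun k => ?_⟩
        rw [hk, h, show -(q : ℝ) / v = -(v / p) by
          field_simp; linear_combination hv2, neg_pow]
        ring
  obtain ⟨c0, c1, f1, f2, h0, h⟩ := key L' fun c hc => hL c (Multiset.mem_cons_of_mem hc)
  refine ⟨c0 + 1, c1, f1, f2, by linarith, fun k => ?_⟩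
  rw [Multiset.map_cons, Multiset.sum_cons, add_div, h, ← div_pow,
    show (p : ℝ) * q / v = v by rw [← hv2, sq]; field_simp]
  ring

/-- Galois invariance transported to the real sums. -/
theorem galois_eq {m : ℕ} [NeZero m] {Ω : Multiset ℂ} (hΩ : ∀ z ∈ Ω, z ^ m = 1) {S : ℕ → ℝ}
    (hS : ∀ k, 0 < k → k < m → (Ω.map (· ^ k)).sum = (S k : ℂ)) {k : ℕ} (hk0 : 0 < k) (hk : k < m)
    (r : ℚ) (hr : S k = r) {u : ℕ} (hu : u.Coprime m) (hu0 : 0 < k * u % m) :
    S (k * u % m) = S k := by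
  have h1 := sum_pow_mul_eq Ω hΩ k r (by rw [hS k hk0 hk, hr, Complex.ofReal_ratCast]) hu
  rw [sum_pow_mod Ω hΩ, hS _ hu0 (Nat.mod_lt _ (NeZero.pos m)), ← Complex.ofReal_ratCast] at h1
  rw [hr]; exact Complex.ofReal_inj.1 h1

theorem symm_eq {m : ℕ} {Ω : Multiset ℂ} (hΩ : ∀ z ∈ Ω, z ^ m = 1) {S : ℕ → ℝ}
    (hS : ∀ k, 0 < k → k < m → (Ω.map (· ^ k)).sum = (S k : ℂ)) {k : ℕ} (hk0 : 0 < k) (hk : k < m) :
    S (m - k) = S k := by
  have := sum_pow_symm Ω (by omega) hΩ hk.le _ (hS k hk0 hk)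
  rw [hS _ (by omega) (by omega)] at this
  exact Complex.ofReal_inj.1 this

/-- Even case. -/
theorem even_case {n p q : ℕ} (hn : 0 < n) (hp : 2 ≤ p) (hq : 2 ≤ q) {R : Multiset ℂ}
    (hpq : ((p : ℂ) * q) ∈ R)
    (hcl : ∀ z ∈ R, IsLin (p : ℝ) q z ∨ z ^ (2 * n) = ((p : ℂ) * q) ^ n)
    (htr : ∀ k, 0 < k → k < 2 * n → (R.map (· ^ k)).sum = 0) :
    n ∈ ({0, 1, 2, 3, 4, 6} : Finset ℕ) := by
  by_contra hnot
  obtain ⟨u, hu1, hu2, hu⟩ := exists_middle_unit hnot
  obtain ⟨u', hu', huu⟩ : ∃ u', u'.Coprime (2 * n) ∧ 2 * u' % (2 * n) = 2 * u := by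
    rcases Nat.even_or_odd u with he | ho
    · refine ⟨u + n, Nat.Coprime.mul_right ?_ (Nat.coprime_add_self_left.2 hu), ?_⟩
      · rw [Nat.coprime_two_right]
        refine he.add_odd ?_
        rw [← Nat.not_even_iff_odd]
        intro hne
        have h1 : ¬ Odd u := Nat.not_odd_iff_even.2 he
        exact h1 (Nat.coprime_two_right.1 (Nat.Coprime.coprime_dvd_right hne.two_dvd hu))
      · rw [mul_add, Nat.add_mod_right, Nat.mod_eq_of_lt (by omega)]
    · exact ⟨u, Nat.Coprime.mul_right (Nat.coprime_two_right.2 ho) hu,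
        Nat.mod_eq_of_lt (by omega)⟩
  set v := Real.sqrt ((p : ℝ) * q)
  have hpos : (0 : ℝ) < (p : ℝ) * q := by positivity
  have hv : 0 < v := Real.sqrt_pos.2 hpos
  have hv2 : v ^ 2 = (p : ℝ) * q := Real.sq_sqrt hpos.le
  have hvp : ((v : ℂ)) ^ (2 * n) = ((p : ℂ) * q) ^ n := by
    rw [pow_mul, ← Complex.ofReal_pow, hv2]; push_cast; ring
  obtain ⟨L, Ω, hL, hLm, hΩ, hS⟩ := split (m := 2 * n) hv hpq
    (fun z hz => (hcl z hz).imp_right fun h => h.trans hvp.symm) htr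
  set S : ℕ → ℝ := fun k => -(L.map (· ^ k)).sum / v ^ k
  have : NeZero (2 * n) := ⟨by omega⟩
  obtain ⟨a, ha⟩ := int_sum hL 2
  have hr : S 2 = (((-a : ℚ) / ((p : ℚ) * q)) : ℚ) := by
    show -(L.map (· ^ 2)).sum / v ^ 2 = _
    rw [ha, hv2]; push_cast; ring
  have e1 : S (2 * u) = S 2 := by
    have := galois_eq (fun z hz => (hΩ z hz).1) hS (by omega : 0 < 2) (by omega) _ hr hu'
      (by rw [huu]; omega)
    rwa [huu] at this
  have e2 : S (2 * n - 2) = S 2 :=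
    symm_eq (fun z hz => (hΩ z hz).1) hS (by omega) (by omega)
  have key : ∀ j : ℕ, ((L.map fun b => b ^ 2 / ((p : ℝ) * q)).map (· ^ j)).sum = -S (2 * j) := by
    intro j
    show _ = -(-(L.map (· ^ (2 * j))).sum / v ^ (2 * j))
    rw [neg_div, neg_neg, Multiset.map_map, pow_mul v, hv2, div_eq_mul_inv,
      ← Multiset.sum_map_mul_right]
    refine congrArg _ (Multiset.map_congr rfl fun b _ => ?_)
    simp only [Function.comp_apply, div_eq_mul_inv, mul_pow, inv_pow, ← pow_mul]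
  refine not_three_equal _ ?_ ⟨((p : ℝ) * q) ^ 2 / ((p : ℝ) * q),
      Multiset.mem_map_of_mem (fun b : ℝ => b ^ 2 / ((p : ℝ) * q)) hLm, ?_⟩ hu1 (show u < n - 1 by omega) ?_ ?_
  · intro b hb
    obtain ⟨c, hc, rfl⟩ := Multiset.mem_map.1 hb
    have hc0 : c ≠ 0 := by
      rcases hL c hc with h | h | h | h <;> subst h <;> simp <;> omega
    exact div_pos (sq_pos_of_ne_zero hc0) hpos
  · rw [sq, mul_div_assoc, div_self hpos.ne', mul_one]
    have : (4 : ℝ) ≤ (p : ℝ) * q := by exact_mod_cast Nat.mul_le_mul hp hq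
    linarith
  · rw [key, key, mul_one, e1]
  · rw [key, key, Nat.mul_sub, mul_one, e1, e2]

/-- Odd case. -/
theorem odd_case {n p : ℕ} (hp : 2 ≤ p) {R : Multiset ℂ} (hpp : ((p : ℂ) * p) ∈ R)
    (hcl : ∀ z ∈ R, IsLin (p : ℝ) p z ∨ z ^ (2 * n + 1) = (p : ℂ) ^ (2 * n + 1))
    (htr : ∀ k, 0 < k → k < 2 * n + 1 → (R.map (· ^ k)).sum = 0) : n ≤ 1 := by
  by_contra hn
  have hv : (0 : ℝ) < p := by positivity
  obtain ⟨L, Ω, hL, hLm, hΩ, hS⟩ := split (m := 2 * n + 1) hv hpp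
    (fun z hz => (hcl z hz).imp_right fun h => by rw [h]; simp) htr
  set S : ℕ → ℝ := fun k => -(L.map (· ^ k)).sum / (p : ℝ) ^ k
  have hrat : ∀ k, ∃ r : ℚ, S k = r := fun k => by
    obtain ⟨a, ha⟩ := int_sum hL k
    exact ⟨(-a : ℚ) / (p : ℚ) ^ k, by
      show -(L.map (· ^ k)).sum / (p : ℝ) ^ k = _
      rw [ha]; push_cast; ring⟩
  obtain ⟨r1, hr1⟩ := hrat 1
  have h2 : Nat.Coprime 2 (2 * n + 1) := Nat.coprime_two_left.2 ⟨n, rfl⟩
  have e2 : S 2 = S 1 := by
    have := galois_eq (m := 2 * n + 1) (fun z hz => (hΩ z hz).1) hS one_pos (by omega) _ hr1 h2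
      (by rw [Nat.mod_eq_of_lt (by omega)]; omega)
    rwa [one_mul, Nat.mod_eq_of_lt (by omega)] at this
  have e3 : S (2 * n + 1 - 2) = S 2 := symm_eq (fun z hz => (hΩ z hz).1) hS (by omega) (by omega)
  have e4 : S (2 * n + 1 - 1) = S 1 := symm_eq (fun z hz => (hΩ z hz).1) hS (by omega) (by omega)
  obtain ⟨c0, c1, f1, f2, hc0, hc⟩ := normal_form hp hp hv (sq (p : ℝ)) hL hLm
  have hp0 : (p : ℝ) ≠ 0 := hv.ne'
  have hnf : ∀ k : ℕ, -S k = c0 * (p : ℝ) ^ k + c1 * (1 / (p : ℝ)) ^ k + (-1) ^ k * (f1 + f2) :=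
    fun k => by
      show -(-(L.map (· ^ k)).sum / (p : ℝ) ^ k) = _
      rw [neg_div, neg_neg, hc k, div_self hp0, one_pow, mul_one, mul_one]
  obtain ⟨i, rfl⟩ : ∃ i, n = i + 2 := ⟨n - 2, by omega⟩
  rw [show 2 * (i + 2) + 1 - 2 = 2 * (i + 1) + 1 by omega] at e3
  rw [show 2 * (i + 2) + 1 - 1 = 2 * (i + 2) by omega] at e4
  have a1 := hnf 1
  have a2 := hnf 2
  have a3 := hnf (2 * (i + 1) + 1)
  have a4 := hnf (2 * (i + 2))
  rw [e3, e2] at a3
  rw [e4] at a4
  simp only [pow_succ (-1 : ℝ), pow_mul (-1 : ℝ), neg_one_sq, one_pow] at a1 a2 a3 a4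
  set T := (p : ℝ) ^ (2 * (i + 1))
  have hT : 1 < T := one_lt_pow₀ (by exact_mod_cast (by omega : 1 < p)) (by omega)
  have b3 : c0 * p * (T - 1) = c1 * ((1 : ℝ) / p) * (1 - 1 / T) := by
    rw [pow_succ, pow_succ, one_div_pow] at a3
    linear_combination a1 - a3
  have b4 : c0 * p ^ 2 * (T - 1) = c1 * ((1 : ℝ) / p) ^ 2 * (1 - 1 / T) := by
    rw [show 2 * (i + 2) = 2 * (i + 1) + 2 by ring, pow_add, pow_add, one_div_pow] at a4
    rw [e2] at a2
    linear_combination a2 - a4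
  have h5 : c0 * (T - 1) * ((p : ℝ) ^ 2 - 1) = 0 := by
    field_simp at b3 b4
    have hp2 : (p : ℝ) ^ 2 ≠ 0 := pow_ne_zero _ hp0
    have hT1 : T ≠ 0 := by linarith
    have h6 : c0 * T * (T - 1) * ((p : ℝ) ^ 2 * ((p : ℝ) ^ 2 - 1)) = 0 := by linear_combination b4 - b3
    rcases mul_eq_zero.1 h6 with h | h
    · rcases mul_eq_zero.1 h with h | h
      · exact absurd h (mul_ne_zero hc0.ne' hT1)
      · rw [h]; ring
    · rw [(mul_eq_zero.1 h).resolve_left hp2]; ring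
  have hp2 : (1 : ℝ) < (p : ℝ) ^ 2 := one_lt_pow₀ (by exact_mod_cast (by omega : 1 < p)) (by omega)
  rcases mul_eq_zero.1 h5 with h | h
  · rcases mul_eq_zero.1 h with h | h <;> linarith
  · linarith

/-- The case `m = 12` does not occur. -/
theorem twelve_case {p q : ℕ} (hp : 2 ≤ p) (hq : 2 ≤ q) {R : Multiset ℂ}
    (hpq : ((p : ℂ) * q) ∈ R)
    (hcl : ∀ z ∈ R, IsLin (p : ℝ) q z ∨ (z ^ 12 = ((p : ℂ) * q) ^ 6 ∧ z ^ 2 ≠ (p : ℂ) * q))
    (htr : ∀ k, 0 < k → k < 12 → (R.map (· ^ k)).sum = 0) : False := by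
  set v := Real.sqrt ((p : ℝ) * q)
  have hpos : (0 : ℝ) < (p : ℝ) * q := by positivity
  have hv : 0 < v := Real.sqrt_pos.2 hpos
  have hv2 : v ^ 2 = (p : ℝ) * q := Real.sq_sqrt hpos.le
  have hp0 : (p : ℝ) ≠ 0 := by positivity
  have hvc : (v : ℂ) ≠ 0 := by exact_mod_cast hv.ne'
  have hvp : ((v : ℂ)) ^ 12 = ((p : ℂ) * q) ^ 6 := by
    rw [show (12 : ℕ) = 2 * 6 from rfl, pow_mul, ← Complex.ofReal_pow, hv2]; push_cast; ring
  obtain ⟨L, Ω, hL, hLm, hΩ, hS⟩ := split (m := 12) hv hpq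
    (fun z hz => (hcl z hz).imp_right fun h => h.1.trans hvp.symm) htr
  set S : ℕ → ℝ := fun k => -(L.map (· ^ k)).sum / v ^ k
  have h12 : ∀ z ∈ Ω, z ^ 12 = 1 := fun z hz => (hΩ z hz).1
  have hsy : ∀ k, 0 < k → k < 12 → S (12 - k) = S k := fun k => symm_eq h12 hS
  -- the alternating sum over odd exponents
  have hsum : S 1 + S 3 + S 5 = 0 := by
    have h0 : (Ω.map fun z => z + z ^ 3 + z ^ 5 + z ^ 7 + z ^ 9 + z ^ 11).sum = 0 := by
      rw [Multiset.map_congr rfl fun z hz => ?_, Multiset.sum_map_zero]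
      obtain ⟨h1, w, hw, rfl, hwl⟩ := hΩ z hz
      have hne : (w / (v : ℂ)) ^ 2 ≠ 1 := by
        intro he
        refine ((hcl w hw).resolve_left hwl).2 ?_
        rw [div_pow, div_eq_one_iff_eq (pow_ne_zero _ hvc)] at he
        rw [he, ← Complex.ofReal_pow, hv2]; push_cast; ring
      refine (mul_eq_zero.1 ?_).resolve_left (sub_ne_zero.2 hne)
      linear_combination (w / (v : ℂ)) * h1
    simp only [Multiset.sum_map_add] at h0
    have h1' : (Ω.map fun z => z).sum = (S 1 : ℂ) := by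
      rw [← hS 1 one_pos (by norm_num)]; simp
    rw [h1', hS 3 (by norm_num) (by norm_num), hS 5 (by norm_num) (by norm_num),
      hS 7 (by norm_num) (by norm_num), hS 9 (by norm_num) (by norm_num),
      hS 11 (by norm_num) (by norm_num)] at h0
    have h' : S 1 + S 3 + S 5 + S 7 + S 9 + S 11 = 0 := Complex.ofReal_inj.1 (by push_cast; exact h0)
    have := hsy 1 one_pos (by norm_num)
    have := hsy 3 (by norm_num) (by norm_num)
    have := hsy 5 (by norm_num) (by norm_num)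
    norm_num at *
    linarith
  obtain ⟨c0, c1, f1, f2, hc0, hc⟩ := normal_form hp hq hv hv2 hL hLm
  set x := v
  set y := (p : ℝ) / v with hy
  have hy0 : 0 < y := by positivity
  have hnf : ∀ k : ℕ, -S k = c0 * x ^ k + c1 / x ^ k + (-1) ^ k * (f1 * y ^ k + f2 / y ^ k) :=
    fun k => by
      show -(-(L.map (· ^ k)).sum / v ^ k) = _
      rw [neg_div, neg_neg, hc k, one_div_pow, show v / (p : ℝ) = 1 / y by rw [hy, one_div_div],
        one_div_pow]
      ring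
  set Z := x ^ 2 + 1 / x ^ 2 with hZ
  set Z' := y ^ 2 + 1 / y ^ 2 with hZ'
  have hZlt : Z' < Z := by
    have e : Z - Z' = ((p : ℝ) ^ 2 - 1) * ((q : ℝ) ^ 2 - 1) / ((p : ℝ) * q) := by
      rw [hZ, hZ', hy, div_pow, hv2]
      field_simp
      ring
    have h1 : (1 : ℝ) < (p : ℝ) ^ 2 := one_lt_pow₀ (by exact_mod_cast (by omega : 1 < p)) two_ne_zero
    have h2 : (1 : ℝ) < (q : ℝ) ^ 2 := one_lt_pow₀ (by exact_mod_cast (by omega : 1 < q)) two_ne_zero
    have : 0 < Z - Z' := e ▸ div_pos (mul_pos (by linarith) (by linarith)) hpos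
    linarith
  set A := c0 * x ^ 6 with hA
  set A' := c1 / x ^ 6 with hA'
  set B := f1 * y ^ 6 with hB
  set B' := f2 / y ^ 6 with hB'
  have hA0 : 0 < A := by positivity
  have hx0 : x ≠ 0 := hv.ne'
  have hyn : y ≠ 0 := hy0.ne'
  have n2 := hnf 2; have n4 := hnf 4; have n8 := hnf 8; have n10 := hnf 10
  rw [hsy 4 (by norm_num) (by norm_num)] at n8
  rw [hsy 2 (by norm_num) (by norm_num)] at n10
  have d2 : (A - A') * (x ^ 2 - 1 / x ^ 2) + (B - B') * (y ^ 2 - 1 / y ^ 2) = 0 := by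
    have := n8.symm.trans n4
    rw [hA, hA', hB, hB']; field_simp at this ⊢; linear_combination this
  have d4 : (A - A') * (x ^ 2 - 1 / x ^ 2) * Z + (B - B') * (y ^ 2 - 1 / y ^ 2) * Z' = 0 := by
    have := n10.symm.trans n2
    rw [hA, hA', hB, hB', hZ, hZ']; field_simp at this ⊢; linear_combination this
  have hx1 : 0 < x ^ 2 - 1 / x ^ 2 := by
    have h1 : (4 : ℝ) ≤ x ^ 2 := by rw [hv2]; exact_mod_cast Nat.mul_le_mul hp hq
    have : 1 / x ^ 2 ≤ 1 := by rw [div_le_one (by positivity)]; linarith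
    linarith
  have hAA : A = A' := by
    have : (A - A') * (x ^ 2 - 1 / x ^ 2) * (Z - Z') = 0 := by linear_combination d4 - Z' * d2
    rcases mul_eq_zero.1 this with h | h
    · linarith [(mul_eq_zero.1 h).resolve_right hx1.ne']
    · linarith
  have hBB : B = B' ∨ y = 1 := by
    rw [hAA] at d2
    simp only [sub_self, zero_mul, zero_add] at d2
    rcases mul_eq_zero.1 d2 with h | h
    · exact Or.inl (by linarith)
    · right
      field_simp at h
      have h' : (y - 1) * ((y + 1) * (y ^ 2 + 1)) = 0 := by linear_combination h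
      have h2 : (y + 1) * (y ^ 2 + 1) ≠ 0 := by positivity
      linarith [(mul_eq_zero.1 h').resolve_right h2]
  set c := (B + B') / 2 with hc'
  set zx := x + 1 / x with hzx
  set zy := y + 1 / y with hzy
  have form : ∀ k d : ℕ, k + d = 6 → Odd d →
      -S k = A * (x ^ d + 1 / x ^ d) - c * (y ^ d + 1 / y ^ d) := by
    intro k d hkd hd
    have hk : Odd k := by
      obtain ⟨j, rfl⟩ := hd
      exact ⟨2 - j, by omega⟩
    have hneg : (-1 : ℝ) ^ k = -1 := hk.neg_one_pow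
    rw [hnf k, hneg]
    have e1 : c0 * x ^ k = A * (1 / x ^ d) := by
      rw [hA, ← hkd, pow_add]; field_simp
    have e2 : c1 / x ^ k = A * x ^ d := by
      rw [hAA, hA', ← hkd, pow_add]; field_simp
    have e3 : f1 * y ^ k + f2 / y ^ k = c * (y ^ d + 1 / y ^ d) := by
      have e4 : f1 * y ^ k = B * (1 / y ^ d) := by rw [hB, ← hkd, pow_add]; field_simp
      have e5 : f2 / y ^ k = B' * y ^ d := by rw [hB', ← hkd, pow_add]; field_simp
      rw [e4, e5, hc']
      rcases hBB with h | h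
      · rw [← h]; ring
      · rw [h]; ring
    rw [e1, e2, e3]; ring
  have f5 := form 5 1 rfl odd_one
  have f3 := form 3 3 rfl (by decide)
  have f1' := form 1 5 rfl (by decide)
  have i1 : x ^ 1 + 1 / x ^ 1 = zx := by rw [hzx, pow_one]
  have i1' : y ^ 1 + 1 / y ^ 1 = zy := by rw [hzy, pow_one]
  have i3 : x ^ 3 + 1 / x ^ 3 = zx * (Z - 1) := by rw [hzx, hZ]; field_simp; ring
  have i3' : y ^ 3 + 1 / y ^ 3 = zy * (Z' - 1) := by rw [hzy, hZ']; field_simp; ring
  have i5 : x ^ 5 + 1 / x ^ 5 = zx * (Z ^ 2 - Z - 1) := by rw [hzx, hZ]; field_simp; ring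
  have i5' : y ^ 5 + 1 / y ^ 5 = zy * (Z' ^ 2 - Z' - 1) := by rw [hzy, hZ']; field_simp; ring
  rw [i1, i1'] at f5
  rw [i3, i3'] at f3
  rw [i5, i5'] at f1'
  have s0 : A * zx * ((Z - 1) * (Z + 1)) = c * zy * ((Z' - 1) * (Z' + 1)) := by
    linear_combination -(f5 + f3 + f1') - hsum
  have hzx0 : 0 < A * zx := mul_pos hA0 (by rw [hzx]; positivity)
  have hZ2 : 1 < Z := by
    have h1 : (4 : ℝ) ≤ x ^ 2 := by rw [hv2]; exact_mod_cast Nat.mul_le_mul hp hq
    have : 0 < 1 / x ^ 2 := by positivity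
    linarith
  by_cases hrat : ∃ r : ℚ, (r : ℝ) = v
  · obtain ⟨r, hr⟩ := hrat
    obtain ⟨a, ha⟩ := int_sum hL 1
    have hr1 : S 1 = ((-a : ℚ) / r : ℚ) := by
      show -(L.map (· ^ 1)).sum / v ^ 1 = _
      rw [ha, ← hr]; push_cast; ring
    have e51 : S 5 = S 1 :=
      galois_eq h12 hS one_pos (by norm_num) _ hr1 (u := 5) (by decide) (by decide)
    have s1 : A * zx * ((Z - 2) * (Z + 1)) = c * zy * ((Z' - 2) * (Z' + 1)) := by
      linear_combination f5 - f1' + e51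
    have s2 : A * zx * (Z + 1) = c * zy * (Z' + 1) := by linear_combination s0 - s1
    have s3 : A * zx * (Z + 1) * ((Z - 1) - (Z' - 1)) = 0 := by
      linear_combination s0 - (Z' - 1) * s2
    have : 0 < A * zx * (Z + 1) * ((Z - 1) - (Z' - 1)) :=
      mul_pos (mul_pos hzx0 (by linarith)) (by linarith)
    linarith
  · -- `v` is irrational, so the sum of cubes vanishes
    have hint : ∃ b : ℤ, S 3 = (b : ℝ) := by
      have h3 := congrArg Complex.re (hS 3 (by norm_num) (by norm_num))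
      rw [re_sum, Complex.ofReal_re, Multiset.map_map] at h3
      have hgen : ∀ M : Multiset ℂ, (∀ z ∈ M, z ^ 12 = 1) →
          ∃ b : ℤ, (M.map (Complex.re ∘ (· ^ 3))).sum = (b : ℝ) := by
        intro M hM
        induction M using Multiset.induction with
        | empty => exact ⟨0, by simp⟩
        | cons z M ih =>
          obtain ⟨b, hb⟩ := ih fun w hw => hM w (Multiset.mem_cons_of_mem hw)
          have h4 : ((z ^ 3) ^ 2 - 1) * ((z ^ 3) ^ 2 + 1) = 0 := by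
            linear_combination hM z (Multiset.mem_cons_self _ _)
          rw [Multiset.map_cons, Multiset.sum_cons, hb, Function.comp_apply]
          rcases mul_eq_zero.1 h4 with h | h
          · rcases sq_eq_one_iff.1 (by linear_combination h : (z ^ 3) ^ 2 = 1) with h | h <;> rw [h]
            · exact ⟨1 + b, by simp⟩
            · exact ⟨-1 + b, by simp⟩
          · rcases (sq_eq_sq_iff_eq_or_eq_neg (a := z ^ 3) (b := Complex.I)).1
              (by rw [Complex.I_sq]; linear_combination h) with h | h <;> rw [h]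
            · exact ⟨b, by simp⟩
            · exact ⟨b, by simp⟩
      obtain ⟨b, hb⟩ := hgen Ω h12
      exact ⟨b, by rw [← hb]; exact h3.symm⟩
    obtain ⟨b, hb⟩ := hint
    obtain ⟨a, ha⟩ := int_sum hL 3
    have h30 : S 3 = 0 := by
      by_contra hne
      refine hrat ⟨(-a : ℚ) / b / ((p : ℚ) * q), ?_⟩
      have h : -(a : ℝ) / v ^ 3 = (b : ℝ) := by rw [← ha, ← hb]
      have hb0 : (b : ℝ) ≠ 0 := hb ▸ hne
      push_cast
      rw [← h, ← hv2]
      have ha0 : (a : ℝ) ≠ 0 := by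
        intro ha0
        rw [ha0, neg_zero, zero_div] at h
        exact hb0 h.symm
      field_simp
      show v ^ 3 = v * v ^ 2
      ring
    have t3 : A * zx * (Z - 1) = c * zy * (Z' - 1) := by linear_combination -f3 - h30
    have : A * zx * (Z - 1) * (Z - Z') = 0 := by linear_combination s0 - (Z' + 1) * t3
    have : 0 < A * zx * (Z - 1) * (Z - Z') :=
      mul_pos (mul_pos hzx0 (by linarith)) (by linarith)
    linarith

end Cfsg.Agent.FeitHigmanCount
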