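import Mathlib
import Cfsg.Agent.Lib.BNPair
import Cfsg.Agent.Lib.BNPairCoxeter

/-!
The Weyl group of a rank two (B, N)-pair is dihedral; alternating words are reduced.
-/

set_option autoImplicit false

noncomputable section

namespace Cfsg.Agent.FeitHigmanDihedral

open Cfsg.Agent.BNPairLib

variable {G : Type*} [Group G] (P : Cfsg.BNPair G) (s t : P.S)

/-- The rotation. -/
def rot : W P := σ P s * σ P t

theorem σ_t_eq : σ P t = σ P s * rot P s t := (σ_mul_cancel P s _).symm

theorem conj_rot (i : ℕ) : σ P s * rot P s t ^ i = (rot P s t ^ i)⁻¹ * σ P s := by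
  induction i with
  | zero => simp
  | succ i ih =>
    rw [pow_succ, ← mul_assoc, ih, mul_assoc, mul_inv_rev, mul_assoc]
    have h1 : σ P s * rot P s t = (rot P s t)⁻¹ * σ P s := by
      rw [rot, mul_inv_rev, σ_inv, σ_inv, σ_mul_cancel, mul_assoc, σ_mul_self, mul_one]
    rw [h1, ← mul_assoc ((rot P s t ^ i)⁻¹), ← mul_inv_rev, ← mul_assoc, ← mul_inv_rev,
      (Commute.pow_self (rot P s t) i).eq]

theorem two_le_orderOf [Finite G] (hst : s ≠ t) : 2 ≤ orderOf (rot P s t) := by
  have h0 : 0 < orderOf (rot P s t) := (isOfFinOrder_of_finite _).orderOf_pos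
  by_contra h
  have h1 : orderOf (rot P s t) = 1 := by omega
  rw [orderOf_eq_one_iff, rot, mul_eq_one_iff_eq_inv, σ_inv] at h1
  exact hst (σ_injective P h1)

theorem σ_not_mem_zpowers (hst : s ≠ t) : σ P s ∉ Subgroup.zpowers (rot P s t) := by
  intro h
  have hc : Commute (σ P s) (rot P s t) := by
    obtain ⟨i, hi⟩ := Subgroup.mem_zpowers_iff.1 h
    rw [← hi]; exact (Commute.refl _).zpow_left i
  -- the rotation has order two, so its powers are `1` and itself
  have h2 : rot P s t * rot P s t = 1 := by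
    have := conj_rot P s t 1
    rw [pow_one, hc.eq] at this
    have h3 := mul_right_cancel this
    conv_lhs => arg 2; rw [h3]
    exact mul_inv_cancel _
  obtain ⟨i, hi⟩ := Subgroup.mem_zpowers_iff.1 h
  rcases Int.even_or_odd i with ⟨j, rfl⟩ | ⟨j, rfl⟩
  · rw [zpow_add, ← (Commute.refl (rot P s t)).mul_zpow, h2, one_zpow] at hi
    exact σ_ne_one P s hi.symm
  · rw [zpow_add, two_mul, zpow_add, ← (Commute.refl (rot P s t)).mul_zpow, h2, one_zpow, one_mul,
      zpow_one, rot] at hi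
    exact σ_ne_one P t (mul_eq_left.1 hi)

theorem wd_alt (k : ℕ) :
    wd P (alt s t (2 * k)) = rot P s t ^ k ∧
    wd P (alt t s (2 * k)) = (rot P s t ^ k)⁻¹ ∧
    wd P (alt s t (2 * k + 1)) = rot P s t ^ k * σ P s ∧
    wd P (alt t s (2 * k + 1)) = (rot P s t ^ (k + 1))⁻¹ * σ P s := by
  induction k with
  | zero =>
    refine ⟨by simp [alt], by simp [alt], by simp [alt], ?_⟩
    simp [alt, rot, σ_inv, mul_assoc, σ_mul_self]
  | succ k ih =>
    obtain ⟨-, -, h3, h4⟩ := ih
    have e1 : wd P (alt s t (2 * (k + 1))) = rot P s t ^ (k + 1) := by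
      rw [show 2 * (k + 1) = (2 * k + 1) + 1 by ring]
      show wd P (s :: alt t s (2 * k + 1)) = _
      rw [wd_cons, h4, ← conj_rot, σ_mul_cancel]
    have e2 : wd P (alt t s (2 * (k + 1))) = (rot P s t ^ (k + 1))⁻¹ := by
      rw [show 2 * (k + 1) = (2 * k + 1) + 1 by ring]
      show wd P (t :: alt s t (2 * k + 1)) = _
      rw [wd_cons, h3, σ_t_eq P s t, mul_assoc, ← mul_assoc (rot P s t), ← pow_succ', ← mul_assoc,
        conj_rot, mul_assoc, σ_mul_self, mul_one]
    refine ⟨e1, e2, ?_, ?_⟩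
    · show wd P (s :: alt t s (2 * (k + 1))) = _
      rw [wd_cons, e2]
      have h := conj_rot P s t (k + 1)
      generalize rot P s t ^ (k + 1) = R at h ⊢
      rw [mul_inv_eq_iff_eq_mul, mul_assoc, h, mul_inv_cancel_left]
    · show wd P (t :: alt s t (2 * (k + 1))) = _
      rw [wd_cons, e1, σ_t_eq P s t, mul_assoc, ← pow_succ', conj_rot]

theorem mem_or (hst : s ≠ t) (hS : ∀ x : P.S, x = s ∨ x = t) (w : W P) :
    w ∈ Subgroup.zpowers (rot P s t) ∨ w * σ P s ∈ Subgroup.zpowers (rot P s t) := by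
  obtain ⟨l, rfl⟩ := exists_wd P w
  obtain ⟨m, hm, e, -⟩ := exists_red_subset P l
  rw [← e]
  have key : ∀ k, (wd P (alt s t k) ∈ Subgroup.zpowers (rot P s t) ∨
      wd P (alt s t k) * σ P s ∈ Subgroup.zpowers (rot P s t)) ∧
      (wd P (alt t s k) ∈ Subgroup.zpowers (rot P s t) ∨
      wd P (alt t s k) * σ P s ∈ Subgroup.zpowers (rot P s t)) := by
    intro k
    have hr := Subgroup.mem_zpowers (rot P s t)
    rcases Nat.even_or_odd k with ⟨j, rfl⟩ | ⟨j, rfl⟩
    · rw [← two_mul]
      obtain ⟨h1, h2, -, -⟩ := wd_alt P s t j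
      rw [h1, h2]
      exact ⟨Or.inl (pow_mem hr _), Or.inl (inv_mem (pow_mem hr _))⟩
    · obtain ⟨-, -, h3, h4⟩ := wd_alt P s t j
      rw [h3, h4, mul_assoc, mul_assoc, σ_mul_self, mul_one, mul_one]
      exact ⟨Or.inr (pow_mem hr _), Or.inr (inv_mem (pow_mem hr _))⟩
  by_cases hh : m.head? = some t
  · rw [red_alt P (s := t) (t := s) m hm (fun x _ => (hS x).symm)
      (by rw [hh]; simpa using Ne.symm hst)]
    exact (key _).2
  · rw [red_alt P (s := s) (t := t) m hm (fun x _ => hS x) hh]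
    exact (key _).1

theorem card_W (hst : s ≠ t) (hS : ∀ x : P.S, x = s ∨ x = t) :
    Nat.card (W P) = 2 * orderOf (rot P s t) := by
  have hidx : (Subgroup.zpowers (rot P s t)).index = 2 := by
    rw [Subgroup.index_eq_two_iff]
    refine ⟨σ P s, fun w => ?_⟩
    rcases mem_or P s t hst hS w with h | h
    · refine Or.inr ⟨h, fun h' => σ_not_mem_zpowers P s t hst ?_⟩
      have := Subgroup.mul_mem _ (Subgroup.inv_mem _ h) h'
      rwa [inv_mul_cancel_left] at this
    · refine Or.inl ⟨h, fun h' => σ_not_mem_zpowers P s t hst ?_⟩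
      have := Subgroup.mul_mem _ (Subgroup.inv_mem _ h') h
      rwa [inv_mul_cancel_left] at this
  rw [← Subgroup.index_mul_card (Subgroup.zpowers (rot P s t)), hidx, Nat.card_zpowers]

theorem pow_ne_one {k : ℕ} (h1 : 0 < k) (h2 : k < orderOf (rot P s t)) :
    rot P s t ^ k ≠ 1 := pow_ne_one_of_lt_orderOf h1.ne' h2

theorem pow_ne_inv_pow {a b : ℕ} (h1 : 0 < a + b) (h2 : a + b < orderOf (rot P s t)) :
    rot P s t ^ a ≠ (rot P s t ^ b)⁻¹ := fun h => pow_ne_one P s t h1 h2
  (by rw [pow_add, h, inv_mul_cancel])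

theorem pow_ne_pow {a b : ℕ} (h1 : b < a) (h2 : a < orderOf (rot P s t) + b) :
    rot P s t ^ a ≠ rot P s t ^ b := fun h => pow_ne_one P s t (k := a - b) (by omega) (by omega)
  (mul_right_cancel (b := rot P s t ^ b) (by rw [← pow_add, Nat.sub_add_cancel h1.le, h, one_mul]))

theorem len_alt [Finite G] (hst : s ≠ t) (hS : ∀ x : P.S, x = s ∨ x = t) {k : ℕ}
    (hk : k ≤ orderOf (rot P s t)) : len P (wd P (alt s t k)) = k := by
  have hns := σ_not_mem_zpowers P s t hst
  have hr := Subgroup.mem_zpowers (rot P s t)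
  have hm := two_le_orderOf P s t hst
  by_contra hne
  obtain ⟨m, hm1, hm2⟩ := exists_reduced P (wd P (alt s t k))
  have hred : Red P m := by rw [Red, hm2, hm1]
  have hlt : m.length < k := by
    have := len_le P (alt s t k)
    rw [length_alt] at this
    omega
  have halt : m = alt s t m.length ∨ m = alt t s m.length := by
    by_cases hh : m.head? = some t
    · exact Or.inr (red_alt P m hred (fun x _ => (hS x).symm)
        (by rw [hh]; simpa using Ne.symm hst))
    · exact Or.inl (red_alt P m hred (fun x _ => hS x) hh)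
  set j := m.length
  rcases Nat.even_or_odd k with ⟨a, rfl⟩ | ⟨a, rfl⟩ <;>
    rcases Nat.even_or_odd j with ⟨b, hb⟩ | ⟨b, hb⟩ <;>
    rcases halt with h | h <;> rw [h, hb] at hm2 <;>
    (try simp only [← two_mul] at *) <;>
    rw [hb] at hlt <;>
    obtain ⟨a1, a2, a3, a4⟩ := wd_alt P s t a <;>
    obtain ⟨b1, b2, b3, b4⟩ := wd_alt P s t b
  · rw [a1, b1] at hm2; exact pow_ne_pow P s t (a := a) (b := b) (by omega) (by omega) hm2.symm
  · rw [a1, b2] at hm2
    exact pow_ne_inv_pow P s t (a := a) (b := b) (by omega) (by omega) hm2.symm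
  · rw [a1, b3] at hm2
    exact hns ((Subgroup.mul_mem_cancel_left _ (pow_mem hr b)).1 (hm2 ▸ pow_mem hr a))
  · rw [a1, b4] at hm2
    exact hns ((Subgroup.mul_mem_cancel_left _ (inv_mem (pow_mem hr (b + 1)))).1
      (hm2 ▸ pow_mem hr a))
  · rw [a3, b1] at hm2
    exact hns ((Subgroup.mul_mem_cancel_left _ (pow_mem hr a)).1 (hm2 ▸ pow_mem hr b))
  · rw [a3, b2] at hm2
    exact hns ((Subgroup.mul_mem_cancel_left _ (pow_mem hr a)).1 (hm2 ▸ inv_mem (pow_mem hr b)))
  · rw [a3, b3] at hm2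
    exact pow_ne_pow P s t (a := a) (b := b) (by omega) (by omega) (mul_right_cancel hm2).symm
  · rw [a3, b4] at hm2
    exact pow_ne_inv_pow P s t (a := a) (b := b + 1) (by omega) (by omega)
      (mul_right_cancel hm2).symm

end Cfsg.Agent.FeitHigmanDihedral
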