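import Mathlib
import Cfsg.Agent.Lib.BNPair

/-!
Double coset operators of a finite (B, N)-pair on the cosets of `B`: quadratic relations,
products, and traces.
-/

set_option autoImplicit false

noncomputable section

namespace Cfsg.Agent.FeitHigmanHecke

open Cfsg.Agent.BNPairLib Matrix

set_option linter.unusedSectionVars false

variable {G : Type*} [Group G] (P : Cfsg.BNPair G)

/-- The flag set. -/
abbrev X : Type _ := G ⧸ P.B

variable [Fintype (X P)]

/-- The double coset operator of `w`. -/
def T (w : W P) : Matrix (X P) (X P) ℂ :=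
  Matrix.of fun x y => by
    classical exact if x.out⁻¹ * y.out ∈ cell P w then 1 else 0

theorem out_eq (g : G) : ∃ b ∈ P.B, (QuotientGroup.mk g : X P).out = g * b := by
  obtain ⟨⟨b, hb⟩, h⟩ := QuotientGroup.mk_out_eq_mul P.B g
  exact ⟨b, hb, h⟩

theorem mem_cell_out (w : W P) (g h : G) :
    (QuotientGroup.mk g : X P).out⁻¹ * (QuotientGroup.mk h : X P).out ∈ cell P w ↔
      g⁻¹ * h ∈ cell P w := by
  obtain ⟨b, hb, e1⟩ := out_eq P g
  obtain ⟨c, hc, e2⟩ := out_eq P h
  rw [e1, e2, _root_.mul_inv_rev, show b⁻¹ * g⁻¹ * (h * c) = b⁻¹ * (g⁻¹ * h) * c by group]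
  constructor
  · intro hm
    have := cell_mul_right P (P.B.inv_mem hc) (cell_mul_left P hb hm)
    rwa [show b * (b⁻¹ * (g⁻¹ * h) * c) * c⁻¹ = g⁻¹ * h by group] at this
  · exact fun hm => cell_mul_right P hc (cell_mul_left P (P.B.inv_mem hb) hm)

open scoped Classical in
theorem T_mk (w : W P) (g h : G) :
    T P w (QuotientGroup.mk g) (QuotientGroup.mk h) = if g⁻¹ * h ∈ cell P w then 1 else 0 := by
  simp only [T, Matrix.of_apply, mem_cell_out]

theorem T_one [DecidableEq (X P)] : T P 1 = 1 := by
  classical
  ext x y
  induction x using QuotientGroup.induction_on with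
  | _ g =>
    induction y using QuotientGroup.induction_on with
    | _ h => rw [T_mk, Matrix.one_apply, mem_cell_one]; simp only [QuotientGroup.eq]

theorem trace_T {w : W P} (hw : w ≠ 1) : (T P w).trace = 0 := by
  classical
  refine Finset.sum_eq_zero fun x _ => ?_
  induction x using QuotientGroup.induction_on with
  | _ g =>
    rw [Matrix.diag_apply, T_mk, inv_mul_cancel, if_neg fun h => hw ?_]
    exact cell_unique P h ((mem_cell_one P).2 P.B.one_mem)

theorem T_diag {w : W P} (hw : w ≠ 1) (x : X P) : T P w x x = 0 := by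
  classical
  induction x using QuotientGroup.induction_on with
  | _ g =>
    rw [T_mk, inv_mul_cancel, if_neg fun h => hw ?_]
    exact cell_unique P h ((mem_cell_one P).2 P.B.one_mem)

theorem trace_T_mul {u v : W P} (h : u * v ≠ 1) : (T P u * T P v).trace = 0 := by
  classical
  refine Finset.sum_eq_zero fun x _ => ?_
  rw [Matrix.diag_apply, Matrix.mul_apply]
  refine Finset.sum_eq_zero fun y _ => ?_
  induction x using QuotientGroup.induction_on with
  | _ g =>
    induction y using QuotientGroup.induction_on with
    | _ k =>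
      rw [T_mk, T_mk]
      split_ifs with h1 h2 <;> simp
      have h3 := inv_mem_cell P h1
      rw [_root_.mul_inv_rev, inv_inv] at h3
      exact h (by rw [← cell_unique P h3 h2, mul_inv_cancel])

theorem mul_cell_of_le {s : P.S} {w : W P} (h : len P w ≤ len P (σ P s * w)) {c d : G}
    (hc : c ∈ cell P (σ P s)) (hd : d ∈ cell P w) : c * d ∈ cell P (σ P s * w) := by
  obtain ⟨a, ha, b, hb, rfl⟩ := exists_eq_mul P ⟨(s : G), P.subset s.2⟩ rfl hc
  rw [show a * ((⟨(s : G), P.subset s.2⟩ : P.N) : G) * b * d = a * ((s : G) * (b * d)) by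
    simp [mul_assoc]]
  exact cell_mul_left P ha (rep_mul_cell_of_le' P h (cell_mul_left P hb hd))

theorem inv_mul_cases {s : P.S} {c d : G} (hc : c ∈ cell P (σ P s)) (hd : d ∈ cell P (σ P s)) :
    c⁻¹ * d ∈ cell P 1 ∨ c⁻¹ * d ∈ cell P (σ P s) := by
  have hc' := inv_mem_cell P hc
  rw [σ_inv] at hc'
  obtain ⟨a, ha, b, hb, e⟩ := exists_eq_mul P ⟨(s : G), P.subset s.2⟩ rfl hc'
  rw [e, show a * ((⟨(s : G), P.subset s.2⟩ : P.N) : G) * b * d = a * ((s : G) * (b * d)) by
    simp [mul_assoc]]
  refine (rep_mul_cell P s (cell_mul_left P hb hd)).imp (fun h => ?_) fun h => cell_mul_left P ha h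
  rw [σ_mul_self] at h
  exact cell_mul_left P ha h

open scoped Classical in
theorem T_mul_apply (u v : W P) (g h : G) :
    (T P u * T P v) (QuotientGroup.mk g) (QuotientGroup.mk h) =
      ((Finset.univ.filter fun y : X P =>
        g⁻¹ * y.out ∈ cell P u ∧ y.out⁻¹ * h ∈ cell P v).card : ℂ) := by
  rw [Matrix.mul_apply, Finset.card_filter, Nat.cast_sum]
  refine Finset.sum_congr rfl fun y _ => ?_
  conv_lhs => rw [← QuotientGroup.out_eq' y, T_mk, T_mk]
  split_ifs <;> simp_all

/-- Products along increasing length. -/
theorem T_mul {s : P.S} {w : W P} (h : len P w ≤ len P (σ P s * w)) :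
    T P (σ P s) * T P w = T P (σ P s * w) := by
  classical
  ext x z
  induction x using QuotientGroup.induction_on with
  | _ g =>
    induction z using QuotientGroup.induction_on with
    | _ k =>
      rw [T_mk, T_mul_apply]
      split_ifs with hgk
      · obtain ⟨n, hn⟩ := π_surj P w
        obtain ⟨a, ha, b, hb, e⟩ := exists_eq_mul P (⟨(s : G), P.subset s.2⟩ * n)
          (by rw [map_mul, hn]; rfl) hgk
        have hk : k = g * a * s * n * b := by
          rw [show k = g * (g⁻¹ * k) by group, e, Subgroup.coe_mul]; group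
        have hy : ∃! y : X P, g⁻¹ * y.out ∈ cell P (σ P s) ∧ y.out⁻¹ * k ∈ cell P w := by
          refine ⟨QuotientGroup.mk (g * a * s), ?_, ?_⟩
          · obtain ⟨c, hc, ec⟩ := out_eq P (g * a * s)
            refine ⟨?_, ?_⟩
            · rw [ec, show g⁻¹ * (g * a * s * c) = a * ((s : G)) * c by group]
              exact cell_mul_right P hc (cell_mul_left P ha (rep_mem_cell P s))
            · rw [ec, hk, show (g * a * s * c)⁻¹ * (g * a * s * n * b) = c⁻¹ * (n * b) by group]
              exact cell_mul_left P (P.B.inv_mem hc)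
                (cell_mul_right P hb (hn ▸ self_mem_cell P n))
          · rintro y ⟨h1, h2⟩
            have h1' : g⁻¹ * (g * a * s) ∈ cell P (σ P s) := by
              rw [show g⁻¹ * (g * a * s) = a * (s : G) by group]
              exact cell_mul_left P ha (rep_mem_cell P s)
            conv_lhs => rw [← QuotientGroup.out_eq' y]
            refine QuotientGroup.eq.2 ?_
            rw [show y.out⁻¹ * (g * a * s) = (g⁻¹ * y.out)⁻¹ * (g⁻¹ * (g * a * s)) by group]
            rcases inv_mul_cases P h1 h1' with h3 | h3
            · exact (mem_cell_one P).1 h3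
            · exfalso
              have h4 : (g * a * (s : G))⁻¹ * k ∈ cell P w := by
                rw [hk, show (g * a * s)⁻¹ * (g * a * s * n * b) = n * b by group]
                exact cell_mul_right P hb (hn ▸ self_mem_cell P n)
              have h5 := mul_cell_of_le P h h3 h4
              rw [show (g⁻¹ * y.out)⁻¹ * (g⁻¹ * (g * a * s)) * ((g * a * s)⁻¹ * k) =
                y.out⁻¹ * k by group] at h5
              have := cell_unique P h5 h2
              exact σ_ne_one P s (mul_right_cancel (this.trans (one_mul w).symm))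
        obtain ⟨y0, hy0, hy1⟩ := hy
        have : (Finset.univ.filter fun y : X P =>
            g⁻¹ * y.out ∈ cell P (σ P s) ∧ y.out⁻¹ * k ∈ cell P w) = {y0} := by
          ext y
          simp only [Finset.mem_filter_univ, Finset.mem_singleton]
          exact ⟨fun h => hy1 y h, fun h => h ▸ hy0⟩
        rw [this, Finset.card_singleton, Nat.cast_one]
      · rw [Nat.cast_eq_zero, Finset.card_eq_zero, Finset.filter_eq_empty_iff]
        rintro y - ⟨h1, h2⟩
        refine hgk ?_
        rw [show g⁻¹ * k = g⁻¹ * y.out * (y.out⁻¹ * k) by group]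
        exact mul_cell_of_le P h h1 h2

/-- The number of flags adjacent of type `s` to a given one. -/
def par (s : P.S) : ℕ := Nat.card {y : X P // y.out ∈ cell P (σ P s)}

open scoped Classical in
theorem card_adjacent (s : P.S) (g : G) :
    (Finset.univ.filter fun y : X P => g⁻¹ * y.out ∈ cell P (σ P s)).card = par P s := by
  rw [par, Nat.card_eq_fintype_card, Fintype.card_subtype]
  refine Finset.card_equiv (MulAction.toPerm g⁻¹) fun y => ?_
  simp only [Finset.mem_filter_univ, MulAction.toPerm_apply]
  obtain ⟨b, hb, e⟩ := out_eq P (g⁻¹ * y.out)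
  have hy : g⁻¹ • y = (QuotientGroup.mk (g⁻¹ * y.out) : X P) := by
    conv_lhs => rw [← QuotientGroup.out_eq' y]
    rfl
  rw [hy, e]
  constructor
  · exact fun h => cell_mul_right P hb h
  · intro h
    have := cell_mul_right P (P.B.inv_mem hb) h
    rwa [mul_inv_cancel_right] at this

theorem two_le_par (s : P.S) : 2 ≤ par P s := by
  classical
  obtain ⟨b, hb, hbs⟩ := exists_conj_not_mem P s
  have hne : (QuotientGroup.mk (s : G) : X P) ≠ QuotientGroup.mk (b * s) := by
    intro h
    refine hbs ?_
    have h2 := QuotientGroup.eq.1 h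
    rw [show (s : G) * b * s = ((s : G) * s) * ((s : G)⁻¹ * (b * s)) by group]
    exact P.B.mul_mem (P.sq_mem _ s.2) h2
  rw [← card_adjacent P s 1, ← Finset.card_pair hne]
  refine Finset.card_le_card fun y hy => ?_
  simp only [Finset.mem_filter_univ, inv_one, one_mul]
  rcases Finset.mem_insert.1 hy with rfl | hy
  · obtain ⟨c, hc, e⟩ := out_eq P (s : G)
    rw [e]; exact cell_mul_right P hc (rep_mem_cell P s)
  · rw [Finset.mem_singleton.1 hy]
    obtain ⟨c, hc, e⟩ := out_eq P (b * (s : G))
    rw [e]; exact cell_mul_right P hc (cell_mul_left P hb (rep_mem_cell P s))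

/-- The quadratic relation. -/
theorem T_sq [DecidableEq (X P)] (s : P.S) : T P (σ P s) * T P (σ P s) =
    ((par P s : ℂ) - 1) • T P (σ P s) + (par P s : ℂ) • 1 := by
  classical
  ext x z
  induction x using QuotientGroup.induction_on with
  | _ g =>
    induction z using QuotientGroup.induction_on with
    | _ k =>
      have hsymm : ∀ y : X P, y.out⁻¹ * k ∈ cell P (σ P s) ↔ k⁻¹ * y.out ∈ cell P (σ P s) := by
        intro y
        constructor <;> intro h <;> have := inv_mem_cell P h <;> simpa [σ_inv] using this
      rw [T_mul_apply, Matrix.add_apply, Matrix.smul_apply, Matrix.smul_apply, T_mk,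
        Matrix.one_apply, smul_eq_mul, smul_eq_mul]
      simp only [hsymm, QuotientGroup.eq]
      by_cases h0 : g⁻¹ * k ∈ P.B
      · have hn : g⁻¹ * k ∉ cell P (σ P s) := fun h =>
          σ_ne_one P s (cell_unique P h ((mem_cell_one P).2 h0))
        rw [if_neg hn, if_pos h0, mul_zero, zero_add, mul_one, ← card_adjacent P s g]
        congr 2
        ext y
        simp only [Finset.mem_filter_univ, and_iff_left_iff_imp]
        intro h
        rw [show k⁻¹ * y.out = (g⁻¹ * k)⁻¹ * (g⁻¹ * y.out) by group]
        exact cell_mul_left P (P.B.inv_mem h0) h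
      rw [if_neg h0, mul_zero, add_zero]
      by_cases h1 : g⁻¹ * k ∈ cell P (σ P s)
      · rw [if_pos h1, mul_one]
        have hmem : (QuotientGroup.mk k : X P) ∈
            Finset.univ.filter fun y : X P => g⁻¹ * y.out ∈ cell P (σ P s) := by
          obtain ⟨b, hb, e⟩ := out_eq P k
          simp only [Finset.mem_filter_univ, e, ← mul_assoc]
          exact cell_mul_right P hb h1
        have heq : (Finset.univ.filter fun y : X P =>
            g⁻¹ * y.out ∈ cell P (σ P s) ∧ k⁻¹ * y.out ∈ cell P (σ P s)) =
            (Finset.univ.filter fun y : X P => g⁻¹ * y.out ∈ cell P (σ P s)).erase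
              (QuotientGroup.mk k) := by
          ext y
          simp only [Finset.mem_filter_univ, Finset.mem_erase]
          constructor
          · rintro ⟨hy, hky⟩
            refine ⟨?_, hy⟩
            rintro rfl
            obtain ⟨b, hb, e⟩ := out_eq P k
            rw [e, inv_mul_cancel_left] at hky
            exact σ_ne_one P s (cell_unique P hky ((mem_cell_one P).2 hb))
          · rintro ⟨hne, hy⟩
            refine ⟨hy, ?_⟩
            have h3 := inv_mul_cases P h1 hy
            rw [show (g⁻¹ * k)⁻¹ * (g⁻¹ * y.out) = k⁻¹ * y.out by group] at h3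
            refine h3.resolve_left fun h => hne ?_
            conv_lhs => rw [← QuotientGroup.out_eq' y]
            refine QuotientGroup.eq.2 ?_
            have := P.B.inv_mem ((mem_cell_one P).1 h)
            rwa [_root_.mul_inv_rev, inv_inv] at this
        rw [heq, Finset.card_erase_of_mem hmem, card_adjacent,
          Nat.cast_sub (by have := two_le_par P s; omega), Nat.cast_one]
      · rw [if_neg h1, mul_zero, Nat.cast_eq_zero, Finset.card_eq_zero,
          Finset.filter_eq_empty_iff]
        rintro y - ⟨hy, hky⟩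
        have hky' := inv_mem_cell P hky
        have hy' := inv_mem_cell P hy
        rw [σ_inv] at hky' hy'
        have h3 := inv_mul_cases P hy' hky'
        rw [inv_inv, show g⁻¹ * y.out * (k⁻¹ * y.out)⁻¹ = g⁻¹ * k by group] at h3
        exact h3.elim (fun h => h0 ((mem_cell_one P).1 h)) h1

/-- The all-ones vector is an eigenvector. -/
theorem T_mulVec_one (s : P.S) :
    T P (σ P s) *ᵥ (fun _ => (1 : ℂ)) = fun _ => (par P s : ℂ) := by
  classical
  funext x
  induction x using QuotientGroup.induction_on with
  | _ g =>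
    rw [← card_adjacent P s g, Finset.card_filter, Nat.cast_sum, Matrix.mulVec, dotProduct]
    refine Finset.sum_congr rfl fun y _ => ?_
    conv_lhs => rw [← QuotientGroup.out_eq' y, T_mk]
    split_ifs <;> simp_all

end Cfsg.Agent.FeitHigmanHecke
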