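import Mathlib
import Cfsg.Prelude.Def_Solvable
import Cfsg.Prelude.Def_TwoFusion
import Cfsg.Agent.Lib.ZStarTheorem
import Cfsg.Agent.Lib.HallCore

/-!
# Dihedral lemmas and Z* modulo a central involution
-/

set_option autoImplicit false

namespace Cfsg.Agent.Fi22Conn80

open Subgroup

variable {G : Type*} [Group G]

theorem inv_of_sq {a : G} (h : a * a = 1) : a⁻¹ = a := inv_eq_of_mul_eq_one_right h

theorem exists_sqrt {o : G} (h : Odd (orderOf o)) : ∃ k : ℕ, (o * o) ^ k = o := by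
  obtain ⟨m, hm⟩ := h
  refine ⟨m + 1, ?_⟩
  rw [← pow_two, ← pow_mul, show 2 * (m + 1) = orderOf o + 1 by omega, pow_succ,
    pow_orderOf_eq_one, one_mul]

theorem commute_of_sq {o a : G} (h : Odd (orderOf o)) (hc : Commute (o * o) a) : Commute o a := by
  obtain ⟨k, hk⟩ := exists_sqrt h
  rw [← hk]
  exact hc.pow_left k

theorem eq_one_of_sq {o : G} (h : Odd (orderOf o)) (hc : o * o = 1) : o = 1 := by
  obtain ⟨k, hk⟩ := exists_sqrt h
  rw [← hk, hc, one_pow]

theorem inv_pow_conj {a b : G} (ha : a * a = 1) (hb : b * b = 1) (k : ℕ) :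
    a * (a * b) ^ k * a = ((a * b) ^ k)⁻¹ := by
  have h1 : a * (a * b) * a⁻¹ = (a * b)⁻¹ := by
    rw [inv_of_sq ha, mul_inv_rev, inv_of_sq ha, inv_of_sq hb, ← mul_assoc, ha, one_mul]
  have := conj_pow (i := k) (a := a) (b := a * b)
  rw [h1, inv_pow, inv_of_sq ha] at this
  exact this.symm

/-- Two involutions with product of odd order are conjugate by a power of the product. -/
theorem conj_of_odd {a b : G} (ha : a * a = 1) (hb : b * b = 1) (h : Odd (orderOf (a * b))) :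
    ∃ k : ℕ, ((a * b) ^ k)⁻¹ * a * (a * b) ^ k = b := by
  obtain ⟨k, hk⟩ := exists_sqrt h
  refine ⟨k, ?_⟩
  rw [← inv_pow_conj ha hb k, mul_assoc (a * (a * b) ^ k), ha, mul_one, mul_assoc, ← pow_add,
    ← two_mul, pow_mul, pow_two, hk, ← mul_assoc, ha, one_mul]

/-- The central involution of a dihedral group of order divisible by four. -/
theorem mid_of_even [Finite G] {a b : G} (ha : a * a = 1) (hb : b * b = 1)
    (h : Even (orderOf (a * b))) :
    ∃ m : ℕ, orderOf ((a * b) ^ m) = 2 ∧ Commute ((a * b) ^ m) a ∧ Commute ((a * b) ^ m) b ∧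
      (Even m → ∃ g, g * a * g⁻¹ = (a * b) ^ m * a) ∧
      (¬ Even m → ∃ g, g * b * g⁻¹ = (a * b) ^ m * a) ∧
      (Even m → ∃ g, g * b * g⁻¹ = (a * b) ^ m * b) := by
  obtain ⟨m, hm⟩ := h
  have hpos : 0 < m := by
    have := orderOf_pos (a * b)
    omega
  refine ⟨m, ?_, ?_, ?_, ?_, ?_, ?_⟩
  · rw [orderOf_pow' _ hpos.ne', hm, ← two_mul, Nat.gcd_comm, Nat.gcd_mul_left_right,
      Nat.mul_div_cancel _ hpos]
  · have hw : ((a * b) ^ m)⁻¹ = (a * b) ^ m :=
      inv_eq_of_mul_eq_one_right (by rw [← pow_add, ← hm, pow_orderOf_eq_one])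
    have h1 := inv_pow_conj ha hb m
    rw [hw] at h1
    show (a * b) ^ m * a = a * (a * b) ^ m
    conv_lhs => rw [← h1]
    rw [mul_assoc, ha, mul_one]
  · have hw : ((a * b) ^ m)⁻¹ = (a * b) ^ m :=
      inv_eq_of_mul_eq_one_right (by rw [← pow_add, ← hm, pow_orderOf_eq_one])
    have h1 := inv_pow_conj ha hb m
    rw [hw] at h1
    have hca : Commute ((a * b) ^ m) a := by
      show (a * b) ^ m * a = a * (a * b) ^ m
      conv_lhs => rw [← h1]
      rw [mul_assoc, ha, mul_one]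
    have := hca.mul_right ((Commute.refl (a * b)).pow_left m)
    rwa [← mul_assoc, ha, one_mul] at this
  · rintro ⟨k, rfl⟩
    refine ⟨(a * b) ^ k, ?_⟩
    have h1 : a * ((a * b) ^ k)⁻¹ = (a * b) ^ k * a := by
      rw [← inv_pow_conj ha hb k, ← mul_assoc, ← mul_assoc, ha, one_mul]
    rw [mul_assoc, h1, ← mul_assoc, ← pow_add]
  · intro hodd
    obtain ⟨k, rfl⟩ := Nat.not_even_iff_odd.mp hodd
    refine ⟨(a * b) ^ k * a, ?_⟩
    have h1 : a * ((a * b) ^ k)⁻¹ = (a * b) ^ k * a := by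
      rw [← inv_pow_conj ha hb k, ← mul_assoc, ← mul_assoc, ha, one_mul]
    have h2 : b * a = (a * b)⁻¹ := by rw [mul_inv_rev, inv_of_sq ha, inv_of_sq hb]
    calc (a * b) ^ k * a * b * ((a * b) ^ k * a)⁻¹
        = (a * b) ^ k * ((a * b) * (a * ((a * b) ^ k)⁻¹)) := by
          rw [mul_inv_rev, inv_of_sq ha]; group
      _ = (a * b) ^ (2 * k + 1) * a := by
          rw [h1, ← mul_assoc (a * b), ← pow_succ', ← mul_assoc, ← pow_add]
          congr 2; omega
  · rintro ⟨k, rfl⟩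
    refine ⟨(a * b) ^ k, ?_⟩
    have h1 : b * ((a * b) ^ k)⁻¹ = (a * b) ^ k * b := by
      have h2 : Commute (a * b) ((a * b) ^ k) := (Commute.refl _).pow_right k
      have h3 : a * (a * b) ^ k * a = ((a * b) ^ k)⁻¹ := inv_pow_conj ha hb k
      calc b * ((a * b) ^ k)⁻¹ = (b * a) * (a * b) ^ k * a := by rw [← h3]; group
        _ = (a * b)⁻¹ * (a * b) ^ k * a := by rw [mul_inv_rev, inv_of_sq ha, inv_of_sq hb]
        _ = (a * b) ^ k * ((a * b)⁻¹ * a) := by rw [h2.inv_left.eq, mul_assoc]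
        _ = (a * b) ^ k * b := by rw [mul_inv_rev, inv_of_sq ha, inv_of_sq hb, mul_assoc, ha, mul_one]
    rw [mul_assoc, h1, ← mul_assoc, ← pow_add]

theorem inverts_of_fpf {O : Subgroup G} [Finite O] {a : G} (ha : a * a = 1)
    (hnorm : ∀ o ∈ O, a * o * a ∈ O) (hfix : ∀ o ∈ O, Commute o a → o = 1) :
    ∀ o ∈ O, a * o * a = o⁻¹ := by
  have hinj : Function.Injective
      (fun o : O => (⟨(o : G)⁻¹ * (a * o * a), mul_mem (inv_mem o.2) (hnorm _ o.2)⟩ : O)) := by
    intro x y e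
    have e' : (x : G)⁻¹ * (a * x * a) = (y : G)⁻¹ * (a * y * a) := congrArg Subtype.val e
    have h1 : ((y : G) * (x : G)⁻¹) = 1 := by
      refine hfix _ (mul_mem y.2 (inv_mem x.2)) ?_
      have e'' : (y : G) * (x : G)⁻¹ = a * y * (x : G)⁻¹ * a := by
        have : (y : G) * (x : G)⁻¹ = (a * y * a) * (a * x * a)⁻¹ := by
          rw [eq_mul_inv_iff_mul_eq, mul_assoc, e', mul_inv_cancel_left]
        rw [this, mul_inv_rev, mul_inv_rev, inv_of_sq ha]
        calc a * y * a * (a * ((x : G)⁻¹ * a)) = a * y * (a * a) * (x : G)⁻¹ * a := by group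
          _ = a * y * (x : G)⁻¹ * a := by rw [ha, mul_one]
      show (y : G) * (x : G)⁻¹ * a = a * ((y : G) * (x : G)⁻¹)
      conv_lhs => rw [e'']
      rw [mul_assoc _ a a, ha, mul_one, mul_assoc]
    exact (Subtype.ext (mul_inv_eq_one.mp h1)).symm
  intro o ho
  obtain ⟨y, hy⟩ := Finite.surjective_of_injective hinj ⟨o, ho⟩
  have hy' : (y : G)⁻¹ * (a * y * a) = o := congrArg Subtype.val hy
  rw [← hy', mul_inv_rev, inv_inv, mul_inv_rev, mul_inv_rev, inv_of_sq ha]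
  calc a * ((y : G)⁻¹ * (a * y * a)) * a = a * (y : G)⁻¹ * a * y * (a * a) := by group
    _ = a * ((y : G)⁻¹ * a) * y := by rw [ha, mul_one]; group

/-- Z* modulo a central involution. -/
theorem commutator_mod {X : Type*} [Group X] [Finite X] {z a : X} (hz : orderOf z = 2)
    (hzc : z ∈ Subgroup.center X) (ha : orderOf a = 2) (haz : a ≠ z)
    (hiso : ∀ g : X, (g * a * g⁻¹ * a = a * (g * a * g⁻¹) ∨
        g * a * g⁻¹ * a = a * (g * a * g⁻¹) * z) → g * a * g⁻¹ = a ∨ g * a * g⁻¹ = a * z)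
    (g : X) :
    a * g * a⁻¹ * g⁻¹ ∈ Cfsg.pPrimeCore 2 X ∨ a * g * a⁻¹ * g⁻¹ * z ∈ Cfsg.pPrimeCore 2 X := by
  set Y := Subgroup.zpowers z with hY
  haveI : Y.Normal := ⟨fun y hy x => by
    have : y ∈ Subgroup.center X := (Subgroup.zpowers_le.mpr hzc) hy
    rw [Subgroup.mem_center_iff.mp this x, mul_inv_cancel_right]
    exact hy⟩
  have hYcases : ∀ y ∈ Y, y = 1 ∨ y = z := by
    intro y hy
    obtain ⟨k, rfl⟩ := Subgroup.mem_zpowers_iff.mp hy
    rw [← zpow_mod_orderOf, hz]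
    rcases Int.emod_two_eq_zero_or_one k with h | h
    · left; rw [Nat.cast_ofNat, h, zpow_zero]
    · right; rw [Nat.cast_ofNat, h, zpow_one]
  have hzz : z * z = 1 := by rw [← pow_two, ← hz]; exact pow_orderOf_eq_one z
  have heq : ∀ x y : X, (x : X ⧸ Y) = (y : X ⧸ Y) → y = x ∨ y = x * z := by
    intro x y h
    rcases hYcases _ ((QuotientGroup.eq).mp h) with h' | h'
    · exact Or.inl (inv_mul_eq_one.mp h').symm
    · exact Or.inr (inv_mul_eq_iff_eq_mul.mp h')
  have ha1 : (a : X ⧸ Y) ≠ 1 := fun h => by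
    rcases hYcases _ ((QuotientGroup.eq_one_iff a).mp h) with h' | h'
    · rw [h', orderOf_one] at ha; omega
    · exact haz h'
  have haa : a * a = 1 := by rw [← pow_two, ← ha]; exact pow_orderOf_eq_one a
  have hbar : Cfsg.IsIsolatedInvolution (a : X ⧸ Y) := by
    refine ⟨orderOf_eq_prime (by rw [pow_two, ← QuotientGroup.mk_mul, haa, QuotientGroup.mk_one])
      ha1, fun q hq => ?_⟩
    obtain ⟨x, rfl⟩ := QuotientGroup.mk_surjective q
    have hq' : ((a * (x * a * x⁻¹) : X) : X ⧸ Y) = ((x * a * x⁻¹ * a : X) : X ⧸ Y) := hq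
    rcases hiso x (heq _ _ hq') with h | h
    · show ((x * a * x⁻¹ : X) : X ⧸ Y) = _
      rw [h]
    · show ((x * a * x⁻¹ : X) : X ⧸ Y) = _
      rw [h, QuotientGroup.mk_mul, (QuotientGroup.eq_one_iff z).mpr (Subgroup.mem_zpowers z),
        mul_one]
  have hN : ((a * g * a⁻¹ * g⁻¹ : X) : X ⧸ Y) ∈ Cfsg.pPrimeCore 2 (X ⧸ Y) :=
    ZStarTheorem.commutator_mem hbar (g : X ⧸ Y)
  -- the preimage of the odd core splits over the central group of order two
  set Q := (Cfsg.pPrimeCore 2 (X ⧸ Y)).comap (QuotientGroup.mk' Y) with hQ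
  haveI hQn : Q.Normal := (HallCore.pPrimeCore_normal 2 _).comap _
  have hYQ : Y ≤ Q := fun y hy => by
    show (y : X ⧸ Y) ∈ Cfsg.pPrimeCore 2 (X ⧸ Y)
    rw [(QuotientGroup.eq_one_iff y).2 hy]; exact one_mem _
  set Y' := Y.subgroupOf Q with hY'
  haveI : Y'.Normal := Subgroup.normal_subgroupOf
  have hcardY : Nat.card Y' = 2 := by
    rw [Nat.card_congr (Subgroup.subgroupOfEquivOfLe hYQ).toEquiv, hY, Nat.card_zpowers, hz]
  have hcard := HallCore.card_comap_mk' Y (Cfsg.pPrimeCore 2 (X ⧸ Y))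
  rw [← hQ, show Nat.card Y = 2 from (Nat.card_zpowers z).trans hz] at hcard
  have hidx : Y'.index = Nat.card (Cfsg.pPrimeCore 2 (X ⧸ Y)) := by
    have h1 := Y'.index_mul_card
    rw [← hcard, hcardY] at h1
    exact Nat.eq_of_mul_eq_mul_right (by norm_num) h1
  have hcop : (Nat.card Y').Coprime Y'.index := by
    rw [hcardY, hidx]
    exact (HallCore.coprime_card_pPrimeCore 2 (X ⧸ Y)).symm
  obtain ⟨K, hK⟩ := Subgroup.exists_right_complement'_of_coprime hcop
  have hKcard : Nat.card K = Nat.card (Cfsg.pPrimeCore 2 (X ⧸ Y)) := by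
    have h1 := hK.card_mul
    rw [hcardY, ← hcard, mul_comm _ 2] at h1
    exact Nat.eq_of_mul_eq_mul_left (by norm_num) h1
  have hKodd : Odd (Nat.card K) := hKcard ▸ ZStarTheorem.odd_card_pPrimeCore
  have hsplit : ∀ q : Q, ∃ k ∈ K, (q : X) = (k : X) ∨ (q : X) = (k : X) * z := by
    intro q
    obtain ⟨⟨⟨y, hy⟩, ⟨l, hl⟩⟩, h⟩ := hK.2 q
    refine ⟨l, hl, ?_⟩
    have h' : (y : X) * (l : X) = q := congrArg Subtype.val h
    rcases hYcases (y : X) hy with e | e <;> rw [e] at h'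
    · exact Or.inl (by rw [← h', one_mul])
    · exact Or.inr (by rw [← h', Subgroup.mem_center_iff.mp hzc])
  have hKn : (K.map Q.subtype).Normal := by
    refine ⟨fun x hx w => ?_⟩
    obtain ⟨k, hk, rfl⟩ := hx
    obtain ⟨l, hl, h | h⟩ := hsplit ⟨w * (k : X) * w⁻¹, hQn.conj_mem _ k.2 w⟩
    · exact ⟨l, hl, h.symm⟩
    · exfalso
      have ho1 : Odd (orderOf (w * (k : X) * w⁻¹)) := by
        rw [show w * (k : X) * w⁻¹ = MulAut.conj w (k : X) from rfl, MulEquiv.orderOf_eq,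
          orderOf_coe]
        exact hKodd.of_dvd_nat (Subgroup.orderOf_dvd_natCard K hk)
      have ho2 : Odd (orderOf (l : X)) := by
        rw [orderOf_coe]
        exact hKodd.of_dvd_nat (Subgroup.orderOf_dvd_natCard K hl)
      have he : (w * (k : X) * w⁻¹) ^ (orderOf (l : X)) = z := by
        have hlz : Commute (l : X) z := Subgroup.mem_center_iff.mp hzc _
        show (w * (k : X) * w⁻¹) ^ (orderOf (l : X)) = z
        rw [show w * (k : X) * w⁻¹ = (l : X) * z from h, hlz.mul_pow, pow_orderOf_eq_one, one_mul]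
        obtain ⟨j, hj⟩ := ho2
        rw [hj, pow_succ, pow_mul, pow_two, hzz, one_pow, one_mul]
      have := ho1.of_dvd_nat (orderOf_pow_dvd (x := w * (k : X) * w⁻¹) (orderOf (l : X)))
      rw [he, hz] at this
      exact absurd this (by decide)
  have hKle : K.map Q.subtype ≤ Cfsg.pPrimeCore 2 X := by
    haveI := hKn
    refine HallCore.le_pPrimeCore (Nat.coprime_two_right.mpr ?_)
    exact hKodd.of_dvd_nat (Subgroup.card_map_dvd _ _)
  obtain ⟨l, hl, h | h⟩ := hsplit ⟨a * g * a⁻¹ * g⁻¹, hN⟩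
  · exact Or.inl (hKle ⟨l, hl, h.symm⟩)
  · refine Or.inr (hKle ⟨l, hl, ?_⟩)
    show (l : X) = a * g * a⁻¹ * g⁻¹ * z
    rw [show a * g * a⁻¹ * g⁻¹ = (l : X) * z from h, mul_assoc, hzz, mul_one]

end Cfsg.Agent.Fi22Conn80
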