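import Cfsg.Agent.Lib.ThreeTransRel

/-!
# Descending relations to `H/Z(H)`

`H = loc E d` is the subgroup generated by the transpositions other than `d` commuting with `d`.
`Level0`: four-relations are impossible (`O_2 = 1`).  `Level1` (type M(22)): four- and
five-relations are impossible.  `Level2` (type M(23)): five-relations are impossible.
-/

set_option autoImplicit false
set_option linter.unusedSectionVars false
set_option linter.style.haveILetI false

namespace Cfsg.Agent.ThreeTransDescent

open Subgroup Cfsg.Agent.ThreeTransRel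

variable {G : Type*} [Group G] {E : Set G}

/-- The transpositions other than `d` commuting with `d`. -/
abbrev near (E : Set G) (d : G) : Set G := {y : G | y ∈ E ∧ y ≠ d ∧ Commute d y}

/-- The subgroup they generate. -/
abbrev loc (E : Set G) (d : G) : Subgroup G := Subgroup.closure (near E d)

/-- The image of `near E d` in `loc E d` modulo its centre. -/
abbrev imgSet (E : Set G) (d : G) : Set (↥(loc E d) ⧸ Subgroup.center ↥(loc E d)) :=
  (QuotientGroup.mk : ↥(loc E d) → _) '' {x : ↥(loc E d) | (x : G) ∈ near E d}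

theorem near_le_loc {d y : G} (hy : y ∈ near E d) : y ∈ loc E d := subset_closure hy

theorem commute_d_of_mem_loc {d x : G} (hx : x ∈ loc E d) : Commute d x := by
  have : loc E d ≤ centralizer ({d} : Set G) := (closure_le _).mpr fun y hy =>
    mem_centralizer_singleton_iff.mpr hy.2.2.symm.eq
  exact (mem_centralizer_singleton_iff.mp (this hx)).symm

theorem near_conj (ht : TSys E) {d y g : G} (hg : Commute g d) (hy : y ∈ near E d) :
    g * y * g⁻¹ ∈ near E d := by
  have hd : g * d * g⁻¹ = d := mul_inv_eq_iff_eq_mul.mpr hg.eq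
  refine ⟨ht.conj g y hy.1, fun e => hy.2.1 ?_, ?_⟩
  · exact mul_left_cancel (mul_right_cancel (e.trans hd.symm))
  · have := (Commute.conj_iff g).mpr hy.2.2
    rwa [hd] at this

theorem tsys_img (ht : TSys E) (d : G) : TSys (imgSet E d) := by
  refine ⟨?_, ?_, ?_, ?_⟩
  · rintro _ ⟨x, hx, rfl⟩
    rw [← QuotientGroup.mk_mul, show x * x = 1 from Subtype.ext (ht.sq _ hx.1), QuotientGroup.mk_one]
  · rintro _ ⟨a, ha, rfl⟩ _ ⟨b, hb, rfl⟩ hn
    have hn' : ¬ Commute (a : G) (b : G) := fun e =>
      hn ((show Commute a b from Subtype.ext e).map (QuotientGroup.mk' _))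
    simp only [← QuotientGroup.mk_mul]
    exact congrArg _ (Subtype.ext (ht.braid _ ha.1 _ hb.1 hn'))
  · intro g e he
    obtain ⟨g, rfl⟩ := QuotientGroup.mk'_surjective _ g
    obtain ⟨x, hx, rfl⟩ := he
    exact ⟨g * x * g⁻¹, near_conj ht (commute_d_of_mem_loc g.2).symm hx, rfl⟩
  · have h1 : Subgroup.closure {x : ↥(loc E d) | (x : G) ∈ near E d} = ⊤ := by
      rw [eq_top_iff]
      rintro ⟨x, hx⟩ -
      induction hx using Subgroup.closure_induction with
      | mem y hy => exact subset_closure hy
      | one => exact one_mem _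
      | mul a b _ _ ha hb => exact mul_mem ha hb
      | inv a _ ha => exact inv_mem ha
    have h2 := congrArg (Subgroup.map (QuotientGroup.mk' (Subgroup.center ↥(loc E d)))) h1
    rw [MonoidHom.map_closure, Subgroup.map_top_of_surjective _ (QuotientGroup.mk'_surjective _)] at h2
    exact h2

/-- The image is trivial exactly for the members commuting with all of `near E d`. -/
theorem mk_eq_one_iff {d : G} (x : ↥(loc E d)) :
    (QuotientGroup.mk x : ↥(loc E d) ⧸ Subgroup.center ↥(loc E d)) = 1 ↔
      ∀ y ∈ near E d, Commute y (x : G) := by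
  rw [QuotientGroup.eq_one_iff, mem_center_iff]
  constructor
  · exact fun h y hy => congrArg Subtype.val (h ⟨y, near_le_loc hy⟩)
  · intro h g
    have : loc E d ≤ centralizer ({(x : G)} : Set G) := (closure_le _).mpr fun y hy =>
      mem_centralizer_singleton_iff.mpr (h y hy).eq
    exact Subtype.ext (mem_centralizer_singleton_iff.mp (this g.2))

/-- Two commuting members with equal images both have trivial image. -/
theorem fibre (ht : TSys E) {d p q : G} (hp : p ∈ near E d) (hq : q ∈ near E d) (hne : p ≠ q)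
    (hc : Commute p q)
    (e : (QuotientGroup.mk ⟨p, near_le_loc hp⟩ : ↥(loc E d) ⧸ Subgroup.center ↥(loc E d)) =
      QuotientGroup.mk ⟨q, near_le_loc hq⟩) : ∀ y ∈ near E d, Commute y p := by
  intro y hy
  have h1 : (QuotientGroup.mk (⟨p, near_le_loc hp⟩ * ⟨q, near_le_loc hq⟩) :
      ↥(loc E d) ⧸ Subgroup.center ↥(loc E d)) = 1 := by
    rw [QuotientGroup.mk_mul, ← e, ← QuotientGroup.mk_mul,
      show (⟨p, near_le_loc hp⟩ : ↥(loc E d)) * ⟨p, near_le_loc hp⟩ = 1 from
        Subtype.ext (ht.sq p hp.1), QuotientGroup.mk_one]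
  have h2 : Commute y (p * q) := (mk_eq_one_iff _).mp h1 y hy
  have hl : CList E [p, q] := by
    refine ⟨by simp [hp.1, hq.1], by simp [hne], ?_⟩
    intro a ha b hb
    simp only [List.mem_cons, List.not_mem_nil, or_false] at ha hb
    rcases ha with rfl | rfl <;> rcases hb with rfl | rfl <;>
      first
        | exact Commute.refl _
        | exact hc
        | exact hc.symm
  exact cnt_eq_zero.mp ((key ht hy.1 hl (by simp)).1.mp (by simpa using h2)) p (by simp)

open Classical in
/-- The image in `loc E d` modulo centre. -/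
noncomputable def im (E : Set G) (d : G) (a : G) : ↥(loc E d) ⧸ Subgroup.center ↥(loc E d) :=
  if h : a ∈ loc E d then QuotientGroup.mk ⟨a, h⟩ else 1

theorem im_eq {d a : G} (h : a ∈ loc E d) : im E d a = QuotientGroup.mk ⟨a, h⟩ := dif_pos h

theorem im_prod {d : G} : ∀ {l : List G} (hl : ∀ a ∈ l, a ∈ loc E d),
    (l.map (im E d)).prod = QuotientGroup.mk ⟨l.prod, list_prod_mem hl⟩
  | [], _ => rfl
  | a :: l, hl => by
    rw [List.map_cons, List.prod_cons, im_eq (hl a (List.mem_cons_self ..)),
      im_prod fun b hb => hl b (List.mem_cons_of_mem _ hb), ← QuotientGroup.mk_mul]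
    exact congrArg _ (Subtype.ext (List.prod_cons ..).symm)

/-- A list near `d` descends to the quotient or has a member with trivial image. -/
theorem descend (ht : TSys E) {d : G} {r : List G} (hr : CList E r)
    (hnear : ∀ a ∈ r, a ∈ near E d) (hprod : r.prod = 1 ∨ r.prod = d) :
    (∃ p ∈ r, ∀ y ∈ near E d, Commute y p) ∨
      (Rel (imgSet E d) (r.map (im E d)) ∧ ∀ x ∈ r.map (im E d), x ≠ 1) := by
  by_cases hc : ∃ p ∈ r, ∀ y ∈ near E d, Commute y p
  · exact Or.inl hc
  push Not at hc
  refine Or.inr ⟨⟨⟨?_, ?_, ?_⟩, ?_⟩, ?_⟩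
  · intro x hx
    obtain ⟨a, ha, rfl⟩ := List.mem_map.mp hx
    rw [im_eq (near_le_loc (hnear a ha))]
    exact ⟨_, hnear a ha, rfl⟩
  · refine List.Nodup.map_on (fun a ha b hb e => ?_) hr.nodup
    by_contra hne
    rw [im_eq (near_le_loc (hnear a ha)), im_eq (near_le_loc (hnear b hb))] at e
    obtain ⟨y, hy, hy'⟩ := hc a ha
    exact hy' (fibre ht (hnear a ha) (hnear b hb) hne (hr.comm a ha b hb) e y hy)
  · intro x hx x' hx'
    obtain ⟨a, ha, rfl⟩ := List.mem_map.mp hx
    obtain ⟨b, hb, rfl⟩ := List.mem_map.mp hx'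
    rw [im_eq (near_le_loc (hnear a ha)), im_eq (near_le_loc (hnear b hb))]
    exact (show Commute (⟨a, _⟩ : ↥(loc E d)) ⟨b, _⟩ from
      Subtype.ext (hr.comm a ha b hb)).map (QuotientGroup.mk' _)
  · rw [im_prod fun a ha => near_le_loc (hnear a ha), mk_eq_one_iff]
    intro y hy
    rcases hprod with e | e
    · simp [e]
    · simpa [e] using hy.2.2.symm
  · intro x hx
    obtain ⟨a, ha, rfl⟩ := List.mem_map.mp hx
    rw [im_eq (near_le_loc (hnear a ha)), Ne, mk_eq_one_iff]
    intro hall
    obtain ⟨y, hy, hy'⟩ := hc a ha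
    exact hy' (hall y hy)

/-! ### Conjugacy -/

theorem isConj_of_not_commute (ht : TSys E) {a b : G} (ha : a ∈ E) (hb : b ∈ E)
    (h : ¬ Commute a b) : IsConj a b := by
  refine isConj_iff.mpr ⟨a * b, ?_⟩
  rw [mul_inv_rev, ht.inv_self ha, ht.inv_self hb]
  calc a * b * a * (b * a) = (a * b * a) * b * a := by group
    _ = (b * a * b) * b * a := by rw [ht.braid a ha b hb h]
    _ = b * (a * (b * b) * a) := by group
    _ = b := by rw [ht.sq b hb, mul_one, ht.sq a ha, mul_one]

theorem conj_or_commute (ht : TSys E) {d a b : G} (ha : a ∈ E) (hb : b ∈ E) (hca : IsConj d a)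
    (hcb : ¬ IsConj d b) : Commute a b := by
  by_contra h
  exact hcb (hca.trans (isConj_of_not_commute ht ha hb h))

theorem eq_one_of_central (ht : TSys E) (hZ : Subgroup.center G = ⊥) {x : G}
    (h : ∀ y ∈ E, Commute y x) : x = 1 := by
  have hle : Subgroup.closure E ≤ centralizer ({x} : Set G) := (closure_le _).mpr fun y hy =>
    mem_centralizer_singleton_iff.mpr (h y hy).eq
  rw [ht.gen] at hle
  have : x ∈ Subgroup.center G :=
    mem_center_iff.mpr fun g => mem_centralizer_singleton_iff.mp (hle (mem_top g))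
  rwa [hZ, mem_bot] at this

/-- Members of different classes commute, so products from the two classes meet trivially. -/
theorem eq_one_of_two_products (ht : TSys E) (hZ : Subgroup.center G = ⊥) {d : G} {A B : List G}
    (hA : ∀ a ∈ A, a ∈ E ∧ IsConj d a) (hB : ∀ b ∈ B, b ∈ E ∧ ¬ IsConj d b)
    (e : A.prod * B.prod = 1) : A.prod = 1 := by
  refine eq_one_of_central ht hZ fun y hy => ?_
  by_cases hyd : IsConj d y
  · rw [eq_inv_of_mul_eq_one_left e]
    exact (Commute.list_prod_right _ _ fun b hb => conj_or_commute ht hy (hB b hb).1 hyd (hB b hb).2).inv_right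
  · exact Commute.list_prod_right _ _ fun a ha => (conj_or_commute ht (hA a ha).1 hy (hA a ha).2 hyd).symm

/-! ### Short relations -/

/-- With trivial centre there are no relations of length 1, 2 or 3 without trivial members. -/
theorem no_short (ht : TSys E) (hZ : Subgroup.center G = ⊥) {l : List G} (h : Rel E l)
    (hne : ∀ a ∈ l, a ≠ 1) (hlen : l.length ≤ 3) : l = [] := by
  match l, h, hne, hlen with
  | [], _, _, _ => rfl
  | [a], h, hne, _ => exact absurd (by simpa using h.prod) (hne a (by simp))
  | [a, b], h, _, _ =>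
    have e : a * b = 1 := by simpa using h.prod
    have : a = b := by rw [eq_inv_of_mul_eq_one_left e, ht.inv_self (h.mem b (by simp))]
    exact absurd this (by have := h.nodup; simpa using this)
  | [a, b, c], h, hne, _ =>
    exfalso
    apply hne a (by simp)
    refine eq_one_of_central ht hZ fun u hu => ?_
    have h1 := (h.perm (l' := [a] ++ [b, c]) (by simp)).split ht hu (by simp) (by simp)
    have h2 := (h.perm (l' := [b] ++ [a, c]) (List.Perm.swap _ _ _)).split ht hu (by simp) (by simp)
    have h3 := (h.perm (l' := [c] ++ [a, b]) (by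
      simpa using List.perm_middle (a := c) (l₁ := [a, b]) (l₂ := []))).split ht hu (by simp) (by simp)
    by_contra hna
    by_cases hb : Commute u b <;> by_cases hc : Commute u c <;> simp [cnt, hna, hb, hc] at h1 h2 h3
  | _ :: _ :: _ :: _ :: _, _, _, hlen => exact absurd hlen (by simp only [List.length_cons]; omega)

/-- The bottom of the descent: no four-relation without trivial members when `O_2 = 1`. -/
theorem no_four [Finite G] (ht : TSys E) (hO : Cfsg.pCore 2 G = ⊥) {l : List G} (h : Rel E l)
    (hne : ∀ a ∈ l, a ≠ 1) : l.length ≠ 4 := by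
  intro hlen
  classical
  match l, h, hne, hlen with
  | [a, b, c, e], h, hne, hlen =>
    have hD : Cfsg.IsThreeTranspositionSet (E \ {1}) := by
      refine ⟨fun x hx => orderOf_eq_prime (by rw [pow_two]; exact ht.sq x hx.1) hx.2, ?_⟩
      intro x hx y hy
      by_cases hxy : Commute x y
      · left; rw [hxy.mul_pow, pow_two, pow_two, ht.sq x hx.1, ht.sq y hy.1, one_mul]
      · right
        calc (x * y) ^ 3 = (x * y * x) * (y * x * y) := by simp [pow_succ, mul_assoc]
          _ = (x * y * x) * (x * y * x) := by rw [ht.braid x hx.1 y hy.1 hxy]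
          _ = x * y * (x * x) * y * x := by group
          _ = 1 := by rw [ht.sq x hx.1, mul_one, mul_assoc x y y, ht.sq y hy.1, mul_one, ht.sq x hx.1]
    have hconj : ∀ g : G, ∀ x ∈ E \ {1}, g * x * g⁻¹ ∈ E \ {1} := fun g x hx =>
      ⟨ht.conj g x hx.1, fun e' => hx.2 (conj_eq_one_iff.mp e')⟩
    have hV : ThreeTrans.SameV (E \ {1}) a b := by
      refine ⟨⟨h.mem b (by simp), hne b (by simp)⟩, fun u hu => ?_⟩
      have key4 : cnt u [a, b, c, e] = 0 ∨ cnt u [a, b, c, e] = 4 := h.pattern ht hu.1 (Or.inl hlen)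
      rcases key4 with k | k
      · have := cnt_eq_zero.mp k
        exact iff_of_true (this b (by simp)).symm (this a (by simp)).symm
      · have hall : ∀ x ∈ [a, b, c, e], ¬ Commute u x := by
          intro x hx
          have := (List.countP_eq_length (p := fun x => decide (¬ Commute u x)) (l := [a, b, c, e])).mp k x hx
          simpa using this
        exact iff_of_false (fun h' => hall b (by simp) h'.symm) (fun h' => hall a (by simp) h'.symm)
    have := ThreeTrans.sameV_mul_mem_pCore hD hconj ⟨h.mem a (by simp), hne a (by simp)⟩ hV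
    rw [hO, mem_bot] at this
    have e' : a = b := by rw [eq_inv_of_mul_eq_one_left this, ht.inv_self (h.mem b (by simp))]
    have := h.nodup
    simp [e'] at this
  | [], _, _, hlen => simp at hlen
  | [_], _, _, hlen => simp at hlen
  | [_, _], _, _, hlen => simp at hlen
  | [_, _, _], _, _, hlen => simp at hlen
  | _ :: _ :: _ :: _ :: _ :: _, _, _, hlen => simp only [List.length_cons] at hlen; omega

/-! ### Descending from a member -/

/-- A member `d` of a relation: the other members either have a trivial image, and then everything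
commuting with `d` commutes with the whole relation, or give a relation in the quotient. -/
theorem descend_member (ht : TSys E) {d : G} {l : List G} (h : Rel E l) (hd : d ∈ l)
    (hlen : l.length = 4 ∨ l.length = 5) :
    (∀ y ∈ E, Commute d y → ∀ p ∈ l, Commute y p) ∨
      ∃ r : List (↥(loc E d) ⧸ Subgroup.center ↥(loc E d)),
        r.length + 1 = l.length ∧ Rel (imgSet E d) r ∧ ∀ x ∈ r, x ≠ 1 := by
  classical
  have hp : l.Perm (d :: l.erase d) := List.perm_cons_erase hd
  have h' := h.perm hp
  set r := l.erase d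
  have hr : CList E r := h'.toCList.sublist (List.sublist_cons_self d r)
  have hdnot : d ∉ r := (List.nodup_cons.mp h'.nodup).1
  have hnear : ∀ a ∈ r, a ∈ near E d := fun a ha =>
    ⟨hr.mem a ha, fun e => hdnot (e ▸ ha),
      h'.comm d (List.mem_cons_self ..) a (List.mem_cons_of_mem _ ha)⟩
  have hprod : r.prod = d := by
    have := h'.prod
    rw [List.prod_cons] at this
    rw [eq_inv_of_mul_eq_one_right this, ht.inv_self (h.mem d hd)]
  rcases descend ht hr hnear (Or.inr hprod) with ⟨p, hp', hall⟩ | ⟨h1, h2⟩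
  · left
    intro y hy hdy
    have hc : cnt y l = 0 := by
      rcases h.pattern ht hy hlen with k | k
      · exact k
      exfalso
      have hyp : Commute y p := by
        by_cases e : y = d
        · exact e ▸ (hnear p hp').2.2
        · exact hall y ⟨hy, e, hdy⟩
      have h3 : cnt y (d :: r) ≤ l.length - 2 := by
        have hpr : (d :: r).Perm (d :: p :: r.erase p) := (List.perm_cons_erase hp').cons d
        rw [cnt_perm y hpr, cnt, List.countP_cons_of_neg (by simpa using hdy.symm),
          List.countP_cons_of_neg (by simpa using hyp)]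
        refine List.countP_le_length.trans ?_
        have := hpr.length_eq
        have := hp.length_eq
        simp only [List.length_cons] at *
        omega
      rw [← cnt_perm y hp, k] at h3
      omega
    exact fun q hq => cnt_eq_zero.mp hc q hq
  · right
    refine ⟨r.map (im E d), ?_, h1, h2⟩
    rw [List.length_map, hp.length_eq, List.length_cons]

/-- Each transposition of a relation of length five can be moved to `d`. -/
theorem descend_conj (ht : TSys E) {d x : G} {l : List G} (h : Rel E l) (hx : x ∈ l)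
    (hdx : IsConj d x) (hlen : l.length = 4 ∨ l.length = 5)
    (hno : ∀ r : List (↥(loc E d) ⧸ Subgroup.center ↥(loc E d)),
      r.length + 1 = l.length → Rel (imgSet E d) r → (∀ y ∈ r, y ≠ 1) → False) :
    ∀ y ∈ E, Commute x y → ∀ p ∈ l, Commute y p := by
  obtain ⟨g, hg⟩ := isConj_iff.mp hdx
  have hl' := h.map_conj ht g⁻¹
  have hd' : d ∈ l.map (MulAut.conj g⁻¹) :=
    List.mem_map.mpr ⟨x, hx, by rw [MulAut.conj_apply, ← hg]; group⟩
  rcases descend_member ht hl' hd' (by simpa using hlen) with hall | ⟨r, h1, h2, h3⟩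
  · intro y hy hxy p hp
    have hc : Commute d (g⁻¹ * y * g⁻¹⁻¹) := by
      have := (Commute.conj_iff g⁻¹).mpr hxy
      have e : g⁻¹ * x * g⁻¹⁻¹ = d := by rw [← hg]; group
      rwa [e] at this
    have := hall _ (ht.conj g⁻¹ y hy) hc (g⁻¹ * p * g⁻¹⁻¹) (List.mem_map.mpr ⟨p, hp, rfl⟩)
    exact (Commute.conj_iff g⁻¹).mp this
  · exact absurd (hno r (by simpa using h1) h2 h3) not_false

/-- If every member absorbs, the relation is empty. -/
theorem no_five_of_absorb (ht : TSys E) (hZ : Subgroup.center G = ⊥) {l : List G} (h : Rel E l)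
    (hne : ∀ a ∈ l, a ≠ 1) (hlen : l.length = 5)
    (habs : ∀ x ∈ l, ∀ y ∈ E, Commute x y → ∀ p ∈ l, Commute y p) : False := by
  classical
  obtain ⟨a, l', rfl⟩ : ∃ a l', l = a :: l' := by
    cases l with
    | nil => simp at hlen
    | cons a l' => exact ⟨a, l', rfl⟩
  apply hne a (List.mem_cons_self ..)
  refine eq_one_of_central ht hZ fun y hy => ?_
  rcases h.pattern ht hy (Or.inr hlen) with k | k
  · exact cnt_eq_zero.mp k a (List.mem_cons_self ..)
  · exfalso
    obtain ⟨x, hx, hyx⟩ : ∃ x ∈ a :: l', Commute y x := by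
      by_contra hno
      push Not at hno
      have : cnt y (a :: l') = (a :: l').length := List.countP_eq_length.mpr fun x hx => by
        simpa using hno x hx
      omega
    have := cnt_eq_zero.mpr fun p hp => habs x hx y hy hyx.symm p hp
    omega

/-- The middle level: type M(22). -/
structure Level1 (E : Set G) : Prop where
  sys : TSys E
  centre : Subgroup.center G = ⊥
  /-- there is a class with simple local quotient containing every nontrivial member -/
  base : ∃ d ∈ E, (∀ y ∈ E, y ≠ 1 → IsConj d y) ∧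
    Subgroup.center (↥(loc E d) ⧸ Subgroup.center ↥(loc E d)) = ⊥ ∧
    Cfsg.pCore 2 (↥(loc E d) ⧸ Subgroup.center ↥(loc E d)) = ⊥ ∧
    Nontrivial (↥(loc E d) ⧸ Subgroup.center ↥(loc E d))

theorem Level1.no_five [Finite G] (hL : Level1 E) {l : List G} (h : Rel E l)
    (hne : ∀ a ∈ l, a ≠ 1) : l.length ≠ 5 := by
  intro hlen
  obtain ⟨d, -, hclass, -, hO, -⟩ := hL.base
  refine no_five_of_absorb hL.sys hL.centre h hne hlen fun x hx => ?_
  exact descend_conj hL.sys h hx (hclass x (h.mem x hx) (hne x hx)) (Or.inr hlen) fun r h1 h2 h3 =>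
    no_four (tsys_img hL.sys d) hO h2 h3 (by omega)

theorem Level1.no_four [Finite G] (hL : Level1 E) {l : List G} (h : Rel E l)
    (hne : ∀ a ∈ l, a ≠ 1) : l.length ≠ 4 := by
  intro hlen
  classical
  have ht := hL.sys
  obtain ⟨d, hdE, hclass, hZb, hO, hnt⟩ := hL.base
  -- all members have the same commuting partners
  have hsame : ∀ p ∈ l, ∀ q ∈ l, ∀ y ∈ E, Commute y p → Commute y q := by
    intro p hp q hq y hy hyp
    rcases h.pattern ht hy (Or.inl hlen) with k | k
    · exact cnt_eq_zero.mp k q hq
    · exfalso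
      have := (List.countP_eq_length.mp (k.trans hlen.symm)) p hp
      simp [hyp] at this
  obtain ⟨a, b, ha, hb, hab⟩ : ∃ a b, a ∈ l ∧ b ∈ l ∧ a ≠ b := by
    match l, hlen, h.nodup with
    | a :: b :: _, _, hn => exact ⟨a, b, by simp, by simp, fun e => by simp [e] at hn⟩
    | [_], hlen, _ => simp at hlen
    | [], hlen, _ => simp at hlen
  have hsame' : ∀ y ∈ E, Commute y a ↔ Commute y b := fun y hy =>
    ⟨hsame a ha b hb y hy, hsame b hb a ha y hy⟩
  -- every element of the class has a twin
  have htwin : ∀ y ∈ E, y ≠ 1 → ∃ y' ∈ E, y' ≠ y ∧ y' ≠ 1 ∧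
      ∀ u ∈ E, Commute u y ↔ Commute u y' := by
    intro y hy hy1
    obtain ⟨g, hg⟩ := isConj_iff.mp ((hclass a (h.mem a ha) (hne a ha)).symm.trans (hclass y hy hy1))
    refine ⟨g * b * g⁻¹, ht.conj g b (h.mem b hb), ?_, fun e => hne b hb (conj_eq_one_iff.mp e), ?_⟩
    · rw [← hg]
      exact fun e => hab (mul_left_cancel (mul_right_cancel e)).symm
    · intro u hu
      have := hsame' (g⁻¹ * u * g⁻¹⁻¹) (ht.conj g⁻¹ u hu)
      have e1 : g⁻¹ * y * g⁻¹⁻¹ = a := by rw [← hg]; group
      have e2 : g⁻¹ * (g * b * g⁻¹) * g⁻¹⁻¹ = b := by group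
      refine (Commute.conj_iff g⁻¹).symm.trans ?_
      rw [e1]
      refine this.trans ((Commute.conj_iff g⁻¹).symm.trans ?_).symm
      rw [e2]
  -- so the local quotient is trivial
  have hall : ∀ y (hy : y ∈ near E d),
      (QuotientGroup.mk ⟨y, near_le_loc hy⟩ : ↥(loc E d) ⧸ Subgroup.center ↥(loc E d)) = 1 := by
    intro y hy
    by_cases hy1 : y = 1
    · subst hy1
      exact congrArg QuotientGroup.mk (Subtype.ext rfl : (⟨1, near_le_loc hy⟩ : ↥(loc E d)) = 1)
    obtain ⟨y', hy', hne', hy'1, hyy'⟩ := htwin y hy.1 hy1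
    by_cases hy'd : y' = d
    · rw [mk_eq_one_iff]
      intro u hu
      exact (hyy' u hu.1).mpr (hy'd ▸ hu.2.2.symm)
    have hy'n : y' ∈ near E d := ⟨hy', hy'd, (hyy' d hdE).mp hy.2.2⟩
    by_contra hone
    set π := QuotientGroup.mk' (Subgroup.center ↥(loc E d)) with hπ
    have hone' : π ⟨y', near_le_loc hy'n⟩ ≠ 1 := by
      intro e
      apply hone
      rw [mk_eq_one_iff]
      intro u hu
      exact (hyy' u hu.1).mpr ((mk_eq_one_iff _).mp e u hu)
    -- commutation in the quotient reflects commutation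
    have hrefl : ∀ p q : ↥(loc E d), (p : G) ∈ near E d → (q : G) ∈ near E d →
        Commute (π p) (π q) → Commute (p : G) (q : G) := by
      intro p q hp hq hpq
      by_contra hn
      have e1 : π (p * q * p) = π q := by
        rw [map_mul, map_mul, hpq.eq, mul_assoc, ← map_mul π p p,
          show p * p = 1 from Subtype.ext (ht.sq _ hp.1), map_one, mul_one]
      rw [show p * q * p = q * p * q from Subtype.ext (ht.braid _ hp.1 _ hq.1 hn), map_mul] at e1
      have e2 : π q * π p = 1 := mul_eq_right.mp e1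
      rw [← map_mul, QuotientGroup.mk'_apply, mk_eq_one_iff] at e2
      have e3 := e2 p hp
      apply hn
      have e4 : (p : G) * ((q : G) * p) * (p : G)⁻¹ = (q : G) * p := mul_inv_eq_iff_eq_mul.mpr e3.eq
      show (p : G) * q = q * p
      rw [← e4]; group
    have htI := tsys_img ht d
    have hD : Cfsg.IsThreeTranspositionSet (imgSet E d \ {1}) := by
      refine ⟨fun x hx => orderOf_eq_prime (by rw [pow_two]; exact htI.sq x hx.1) hx.2, ?_⟩
      intro x hx w hw
      by_cases hxw : Commute x w
      · left; rw [hxw.mul_pow, pow_two, pow_two, htI.sq x hx.1, htI.sq w hw.1, one_mul]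
      · right
        calc (x * w) ^ 3 = (x * w * x) * (w * x * w) := by simp [pow_succ, mul_assoc]
          _ = (x * w * x) * (x * w * x) := by rw [htI.braid x hx.1 w hw.1 hxw]
          _ = x * w * (x * x) * w * x := by group
          _ = 1 := by rw [htI.sq x hx.1, mul_one, mul_assoc x w w, htI.sq w hw.1, mul_one, htI.sq x hx.1]
    have hconj : ∀ g, ∀ x ∈ imgSet E d \ {1}, g * x * g⁻¹ ∈ imgSet E d \ {1} := fun g x hx =>
      ⟨htI.conj g x hx.1, fun e' => hx.2 (conj_eq_one_iff.mp e')⟩
    have hV : ThreeTrans.SameV (imgSet E d \ {1}) (π ⟨y, near_le_loc hy⟩) (π ⟨y', near_le_loc hy'n⟩) := by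
      refine ⟨⟨⟨_, hy'n, rfl⟩, hone'⟩, ?_⟩
      rintro _ ⟨⟨u, hu, rfl⟩, -⟩
      constructor
      · intro hc
        exact (show Commute (⟨y, near_le_loc hy⟩ : ↥(loc E d)) u from
          Subtype.ext ((hyy' u hu.1).mpr (hrefl _ _ hy'n hu hc).symm).symm.eq).map π
      · intro hc
        exact (show Commute (⟨y', near_le_loc hy'n⟩ : ↥(loc E d)) u from
          Subtype.ext ((hyy' u hu.1).mp (hrefl _ _ hy hu hc).symm).symm.eq).map π
    have hmem := ThreeTrans.sameV_mul_mem_pCore hD hconj
      (d := π ⟨y, near_le_loc hy⟩) ⟨⟨_, hy, rfl⟩, hone⟩ hV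
    rw [hO, mem_bot] at hmem
    apply hone
    have heq : π ⟨y, near_le_loc hy⟩ = π ⟨y', near_le_loc hy'n⟩ := by
      rw [eq_inv_of_mul_eq_one_left hmem]
      exact htI.inv_self ⟨_, hy'n, rfl⟩
    exact (mk_eq_one_iff _).mpr
      (fibre ht hy hy'n hne'.symm ((hyy' y hy.1).mp (Commute.refl y)) heq)
  have htriv : imgSet E d ⊆ {1} := by
    rintro _ ⟨x, hx, rfl⟩
    exact hall _ hx
  have htop := (tsys_img ht d).gen
  have : Subgroup.closure (imgSet E d) = ⊥ := by
    rw [eq_bot_iff]; exact (closure_le _).mpr (by intro x hx; simpa using htriv hx)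
  rw [this] at htop
  obtain ⟨x, hx⟩ := exists_ne (1 : ↥(loc E d) ⧸ Subgroup.center ↥(loc E d))
  exact hx (mem_bot.mp (htop ▸ mem_top x))

/-- The upper level: type M(23). -/
structure Level2 (E : Set G) : Prop where
  sys : TSys E
  centre : Subgroup.center G = ⊥
  base : ∃ d ∈ E, Level1 (imgSet E d)

theorem Level2.no_five [Finite G] (hL : Level2 E) {l : List G} (h : Rel E l)
    (hne : ∀ a ∈ l, a ≠ 1) : l.length ≠ 5 := by
  intro hlen
  classical
  have ht := hL.sys
  obtain ⟨d, hdE, hL1⟩ := hL.base
  set P : G → Bool := fun x => decide (IsConj d x)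
  set A := l.filter P with hA
  set B := l.filter fun x => !P x with hB
  have hperm : (A ++ B).Perm l := List.filter_append_perm P l
  have hAB := h.perm hperm.symm
  have hA' : ∀ a ∈ A, a ∈ E ∧ IsConj d a := fun a ha =>
    ⟨h.mem a (List.mem_filter.mp ha).1, by simpa [P] using (List.mem_filter.mp ha).2⟩
  have hB' : ∀ b ∈ B, b ∈ E ∧ ¬ IsConj d b := fun b hb =>
    ⟨h.mem b (List.mem_filter.mp hb).1, by simpa [P] using (List.mem_filter.mp hb).2⟩
  have hp := hAB.prod
  rw [List.prod_append] at hp
  have hA1 := eq_one_of_two_products ht hL.centre hA' hB' hp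
  have hB1 : B.prod = 1 := by rw [hA1, one_mul] at hp; exact hp
  have hRA : Rel E A := ⟨hAB.toCList.sublist (List.sublist_append_left A B), hA1⟩
  have hRB : Rel E B := ⟨hAB.toCList.sublist (List.sublist_append_right A B), hB1⟩
  have hsum : A.length + B.length = 5 := by rw [← List.length_append, hperm.length_eq, hlen]
  by_cases hA5 : A.length = 5
  · -- all members are conjugate to `d`
    have hallA : ∀ x ∈ l, IsConj d x := fun x hx => by
      have hB0 : B = [] := List.eq_nil_of_length_eq_zero (by omega)
      rw [hB0, List.append_nil] at hperm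
      exact (hA' x (hperm.mem_iff.mpr hx)).2
    exact no_five_of_absorb ht hL.centre h hne hlen fun x hx =>
      descend_conj ht h hx (hallA x hx) (Or.inr hlen) fun r h1 h2 h3 =>
        hL1.no_four h2 h3 (by omega)
  by_cases hB5 : B.length = 5
  · -- all members lie outside the class of `d`
    have hnear : ∀ b ∈ B, b ∈ near E d := fun b hb => by
      refine ⟨(hB' b hb).1, fun e => (hB' b hb).2 (e ▸ IsConj.refl b), ?_⟩
      by_contra hn
      exact (hB' b hb).2 (isConj_of_not_commute ht hdE (hB' b hb).1 hn)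
    rcases descend ht hRB.toCList hnear (Or.inl hB1) with ⟨p, hp', hall⟩ | ⟨h1, h2⟩
    · apply hne p (List.mem_filter.mp hp').1
      refine eq_one_of_central ht hL.centre fun y hy => ?_
      by_cases hyd : IsConj d y
      · exact conj_or_commute ht hy (hB' p hp').1 hyd (hB' p hp').2
      · by_cases hn : Commute d y
        · exact hall y ⟨hy, fun e => hyd (e ▸ IsConj.refl y), hn⟩
        · have hdE : d ∈ E := by assumption
          exact absurd (isConj_of_not_commute ht hdE hy hn) hyd
    · exact hL1.no_five h1 h2 (by rw [List.length_map]; exact hB5)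
  have hcase : (1 ≤ A.length ∧ A.length ≤ 3) ∨ (1 ≤ B.length ∧ B.length ≤ 3) := by omega
  rcases hcase with ⟨h1, h2⟩ | ⟨h1, h2⟩
  · have := no_short ht hL.centre hRA (fun a ha => hne a (List.mem_filter.mp ha).1) h2
    rw [this] at h1; simp at h1
  · have := no_short ht hL.centre hRB (fun a ha => hne a (List.mem_filter.mp ha).1) h2
    rw [this] at h1; simp at h1

end Cfsg.Agent.ThreeTransDescent
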