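import Mathlib
import Cfsg.Agent.Lib.Fi22ConnBasic80
import Cfsg.Agent.Lib.ThreeTransDescent

/-!
# A component of the commuting graph is the whole class

`Ω ⊆ D` is closed under commuting inside the class `D`, members of `Ω` commute or braid, and a few local
facts hold at each member. Then `Ω = D`: centralizers of products of two commuting members stabilize `Ω`
by the Z*-theorem, and a member outside leads to a triple product which contradicts the local facts.
-/

set_option autoImplicit false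

namespace Cfsg.Agent.Fi22Conn80

open Subgroup Cfsg.Agent.ThreeTransDescent

variable {G : Type*} [Group G] {D Ω : Set G}

/-- The members near both `a` and `t`. -/
abbrev CN (D : Set G) (a t : G) : Set G := near D a ∩ near D t

/-- The hypotheses of the connectivity theorem. -/
structure Conn (D Ω : Set G) : Prop where
  two : ∀ x ∈ D, orderOf x = 2
  conj : ∀ g : G, ∀ x ∈ D, g * x * g⁻¹ ∈ D
  trans : ∀ a ∈ D, ∀ b ∈ D, ∃ g : G, g * a * g⁻¹ = b
  sub : Ω ⊆ D
  ne : Ω.Nonempty
  closed : ∀ a ∈ Ω, ∀ b ∈ D, Commute a b → b ∈ Ω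
  block : ∀ g : G, ∀ a ∈ Ω, g * a * g⁻¹ ∈ Ω → ∀ b ∈ Ω, g * b * g⁻¹ ∈ Ω
  three : ∀ a ∈ Ω, ∀ b ∈ Ω, ¬ Commute a b → (a * b) ^ 3 = 1
  fix : ∀ m : G, orderOf m = 2 → (∀ a ∈ Ω, m * a * m⁻¹ ∈ Ω) → ∃ a ∈ Ω, Commute m a
  gen : ∀ a ∈ Ω, centralizer ({a} : Set G) ≤ closure (near D a)
  perfect : ∀ a ∈ Ω, centralizer ({a} : Set G) ≤
    ⁅centralizer ({a} : Set G), centralizer ({a} : Set G)⁆
  noPair : ∀ a ∈ Ω, ∀ t ∈ near D a, a * t ∉ D
  noTriple : ∀ a ∈ Ω, ∀ t ∈ near D a, ∀ f ∈ CN D a t, f * (a * t) ∉ D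
  common : ∀ a ∈ Ω, ∀ t ∈ near D a, ∀ t' ∈ near D a, ∃ f ∈ CN D a t, f ∈ near D t'
  shift : ∀ a ∈ Ω, ∀ t ∈ near D a, ∀ f ∈ CN D a t, ∀ f' ∈ CN D a t, ¬ Commute f f' →
    ∃ g ∈ CN D a t, g ≠ f ∧ Commute g f ∧ ¬ Commute g f'
  cone : ∀ a ∈ Ω, ∀ t ∈ near D a, ∀ k : G, Odd (orderOf k) → Commute k a → Commute k t →
    (∀ f ∈ CN D a t, Commute k f) → k = 1
  four : ∀ a ∈ Ω, ∀ t ∈ near D a, ∀ w ∈ CN D a t, ∃ u ∈ Ω, Commute u a ∧ Commute u t ∧
    Commute u w ∧ ∀ p ∈ near D u, ∀ q ∈ near D u, Commute p q → u * (a * t * w) ≠ p * q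

namespace Conn

variable (h : Conn D Ω)
include h

theorem sq {x : G} (hx : x ∈ D) : x * x = 1 := by
  rw [← pow_two, ← h.two x hx]; exact pow_orderOf_eq_one x

theorem inv' {x : G} (hx : x ∈ D) : x⁻¹ = x := inv_of_sq (h.sq hx)

theorem near_sub {a : G} (ha : a ∈ Ω) {t : G} (ht : t ∈ near D a) : t ∈ Ω :=
  h.closed a ha t ht.1 ht.2.2

/-- A member mapping `Ω` to itself lies in `Ω`. -/
theorem mem_of_stab {f : G} (hf : f ∈ D) {a : G} (ha : a ∈ Ω) (hfa : f * a * f⁻¹ ∈ Ω) : f ∈ Ω := by
  obtain ⟨b, hb, hc⟩ := h.fix f (h.two f hf) fun b hb => h.block f a ha hfa b hb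
  exact h.closed b hb f hf hc.symm

theorem pair_sq {a t : G} (ha : a ∈ Ω) (ht : t ∈ near D a) : a * t * (a * t) = 1 := by
  calc a * t * (a * t) = a * (t * a) * t := by group
    _ = a * (a * t) * t := by rw [ht.2.2.eq]
    _ = (a * a) * (t * t) := by group
    _ = 1 := by rw [h.sq (h.sub ha), h.sq ht.1, one_mul]

theorem pair_order {a t : G} (ha : a ∈ Ω) (ht : t ∈ near D a) : orderOf (a * t) = 2 := by
  refine orderOf_eq_prime (by rw [pow_two, h.pair_sq ha ht]) fun e => ht.2.1 ?_
  rw [mul_eq_one_iff_eq_inv.mp e, h.inv' ht.1]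

/-- A member of `Ω` centralizing `a * t` commutes with `a`. -/
theorem commute_of_pair {a t b : G} (ha : a ∈ Ω) (ht : t ∈ near D a) (hb : b ∈ Ω)
    (hbz : Commute b (a * t)) : Commute b a := by
  by_contra hn
  set r := b * a * b⁻¹ with hr
  have hrD : r ∈ D := h.conj b a (h.sub ha)
  have h3 := h.three b hb a ha hn
  have hbb := h.sq (h.sub hb)
  have haa := h.sq (h.sub ha)
  have hra : r = a * b * a := by
    have h4 : b * a * b * (a * b * a) = 1 := by rw [← h3, pow_three]; group
    calc r = b * a * b := by rw [hr, h.inv' (h.sub hb)]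
      _ = (a * b * a)⁻¹ := mul_eq_one_iff_eq_inv.mp h4
      _ = a * b * a := by
        rw [mul_inv_rev, mul_inv_rev, h.inv' (h.sub hb), h.inv' (h.sub ha), mul_assoc]
  -- `b` conjugates the pair `{a, t}` to `{r, s}` with the same product
  set s := b * t * b⁻¹ with hs
  have hrs : r * s = a * t := by
    calc r * s = b * (a * t) * b⁻¹ := by rw [hr, hs]; group
      _ = a * t := by rw [hbz.eq, mul_inv_cancel_right]
  have haz : Commute a (a * t) := (Commute.refl a).mul_right ht.2.2
  have hrz : Commute r (a * t) := by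
    rw [← hrs]
    refine (Commute.refl r).mul_right ?_
    rw [hr, hs]
    exact (Commute.conj_iff b).mpr ht.2.2
  have hs' : s = r * (a * t) := by rw [← hrs, ← mul_assoc, h.sq hrD, one_mul]
  have hrΩ : r ∈ Ω := h.block b b hb (by rw [mul_inv_cancel_right]; exact hb) a ha
  have hsΩ : s ∈ Ω :=
    h.closed r hrΩ s (h.conj b t ht.1) (by rw [hs']; exact (Commute.refl r).mul_right hrz)
  have hnar : ¬ Commute a r := by
    intro e
    apply hn
    have e2 : Commute (a * a * a⁻¹) (a * b * a⁻¹) := by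
      rw [mul_inv_cancel_right, h.inv' (h.sub ha), ← hra]; exact e
    exact ((Commute.conj_iff a).mp e2).symm
  have hzr : Commute (a * t) (a * r) := haz.symm.mul_right hrz.symm
  have hcub : (a * r) ^ 3 = 1 := h.three a ha r hrΩ hnar
  have hsq : (a * s) * (a * s) = (a * r) * (a * r) := by
    rw [hs', ← mul_assoc a r, hzr.mul_mul_mul_comm, h.pair_sq ha ht, mul_one]
  by_cases hc : Commute a s
  · have : (a * s) * (a * s) = 1 := by
      rw [hc.symm.mul_mul_mul_comm, h.sq (h.sub ha), h.sq (h.sub hsΩ), one_mul]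
    rw [hsq] at this
    have hone : a * r = 1 := by
      rw [← hcub, pow_three, this, mul_one]
    exact hnar (by rw [mul_eq_one_iff_eq_inv.mp hone, h.inv' hrD])
  · have h3' := h.three a ha s hsΩ hc
    rw [pow_three, hsq, hs', ← mul_assoc a r, mul_assoc (a * r),
      (hzr.mul_right hzr).eq, ← mul_assoc, ← pow_three, hcub, one_mul] at h3'
    have := h.pair_order ha ht
    rw [h3', orderOf_one] at this
    omega

/-- A member of `Ω` centralizing `a * t` for which it fixes a member centralizes both. -/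
theorem commute_pair_both {a t b : G} (ha : a ∈ Ω) (ht : t ∈ near D a) (hb : b ∈ Ω)
    (hbz : Commute b (a * t)) : Commute b a ∧ Commute b t := by
  have h1 := h.commute_of_pair ha ht hb hbz
  refine ⟨h1, ?_⟩
  have := h1.mul_right hbz
  rwa [← mul_assoc, h.sq (h.sub ha), one_mul] at this

/-- The pair with given product is unique inside the stabilizer. -/
theorem pair_unique {a t m : G} (ha : a ∈ Ω) (ht : t ∈ near D a) (hm : Commute m (a * t))
    (hma : m * a * m⁻¹ ∈ Ω) : m * a * m⁻¹ = a ∨ m * a * m⁻¹ = t := by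
  set p := m * a * m⁻¹ with hp
  set q := m * t * m⁻¹ with hq
  have hpq : p * q = a * t := by
    calc p * q = m * (a * t) * m⁻¹ := by rw [hp, hq]; group
      _ = a * t := by rw [hm.eq, mul_inv_cancel_right]
  have hpqc : Commute p q := (Commute.conj_iff m).mpr ht.2.2
  have hpz : Commute p (a * t) := by rw [← hpq]; exact (Commute.refl p).mul_right hpqc
  obtain ⟨hpa, hpt⟩ := h.commute_pair_both ha ht hma hpz
  by_contra hne
  push Not at hne
  have hf : p ∈ CN D a t := ⟨⟨h.sub hma, hne.1, hpa.symm⟩, ⟨h.sub hma, hne.2, hpt.symm⟩⟩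
  refine h.noTriple a ha t ht p hf ?_
  rw [← hpq, ← mul_assoc, h.sq (h.sub hma), one_mul]
  exact h.conj m t ht.1

variable [Finite G]

/-- The odd core of the centralizer of `z`. -/
def oc (z : G) : Subgroup G :=
  (Cfsg.pPrimeCore 2 ↥(centralizer ({z} : Set G))).map (centralizer ({z} : Set G)).subtype

omit h [Finite G] in
theorem oc_le (z : G) : oc z ≤ centralizer ({z} : Set G) := Subgroup.map_subtype_le _

omit h [Finite G] in
theorem oc_commute {z o : G} (ho : o ∈ oc z) : Commute o z :=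
  mem_centralizer_singleton_iff.mp (oc_le z ho)

omit h in
theorem oc_odd {z o : G} (ho : o ∈ oc z) : Odd (orderOf o) := by
  obtain ⟨x, hx, rfl⟩ := ho
  rw [Subgroup.coe_subtype, orderOf_coe]
  exact ZStarTheorem.odd_card_pPrimeCore.of_dvd_nat (Subgroup.orderOf_dvd_natCard _ hx)

omit h in
theorem oc_conj {z o g : G} (ho : o ∈ oc z) (hg : Commute g z) : g * o * g⁻¹ ∈ oc z := by
  obtain ⟨x, hx, rfl⟩ := ho
  refine ⟨⟨g, mem_centralizer_singleton_iff.mpr hg⟩ * x * ⟨g, mem_centralizer_singleton_iff.mpr hg⟩⁻¹,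
    (HallCore.pPrimeCore_normal 2 _).conj_mem _ hx _, rfl⟩

omit h [Finite G] in
theorem commute_pair_snd {a t : G} (ha : a * a = 1) {o : G} (h1 : Commute o a)
    (h2 : Commute o (a * t)) : Commute o t := by
  have := h1.mul_right h2
  rwa [← mul_assoc, ha, one_mul] at this

theorem oc_fix_eq {a t o : G} (ha : a ∈ Ω) (ht : t ∈ near D a) (ho : o ∈ oc (a * t))
    (hoa : Commute o a) : o = 1 := by
  have hot := commute_pair_snd (h.sq (h.sub ha)) hoa (oc_commute ho)
  refine h.cone a ha t ht o (oc_odd ho) hoa hot fun f hf => ?_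
  have hfz : Commute f (a * t) := (hf.1.2.2.symm).mul_right hf.2.2.2.symm
  set f' := o * f * o⁻¹ with hf'
  have hf'CN : f' ∈ CN D a t := by
    refine ⟨⟨h.conj o f hf.1.1, fun e => hf.1.2.1 ?_, ?_⟩, ⟨h.conj o f hf.1.1, fun e => hf.2.2.1 ?_, ?_⟩⟩
    · have : o * f * o⁻¹ = o * a * o⁻¹ := by rw [← hf', e, hoa.eq, mul_inv_cancel_right]
      exact mul_left_cancel (mul_right_cancel this)
    · have := (Commute.conj_iff o).mpr hf.1.2.2
      rwa [hoa.eq, mul_inv_cancel_right] at this
    · have : o * f * o⁻¹ = o * t * o⁻¹ := by rw [← hf', e, hot.eq, mul_inv_cancel_right]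
      exact mul_left_cancel (mul_right_cancel this)
    · have := (Commute.conj_iff o).mpr hf.2.2.2
      rwa [hot.eq, mul_inv_cancel_right] at this
  have hff : f' * f ∈ oc (a * t) := by
    have h1 : f * o⁻¹ * f⁻¹ ∈ oc (a * t) := oc_conj (inv_mem ho) hfz
    have h2 := mul_mem ho h1
    rwa [← mul_assoc, ← mul_assoc, h.inv' hf.1.1] at h2
  suffices hff' : f' = f by
    show o * f = f * o
    conv_rhs => rw [← hff', hf', inv_mul_cancel_right]
  by_contra hne
  have hnc : ¬ Commute f f' := by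
    intro e
    apply hne
    have h1 : (f' * f) * (f' * f) = 1 := by
      rw [e.mul_mul_mul_comm, h.sq hf'CN.1.1, h.sq hf.1.1, one_mul]
    have h2 := eq_one_of_sq (oc_odd hff) h1
    rw [mul_eq_one_iff_eq_inv.mp h2, h.inv' hf.1.1]
  obtain ⟨g, hg, hgf, hgc, hgn⟩ := h.shift a ha t ht f hf f' hf'CN hnc
  have hgz : Commute g (a * t) := (hg.1.2.2.symm).mul_right hg.2.2.2.symm
  have hk : g * f' * (g * f') ∈ oc (a * t) := by
    have h1 := mul_mem (oc_conj hff hgz) (inv_mem hff)
    rw [mul_inv_rev, h.inv' hf.1.1, h.inv' hf'CN.1.1, h.inv' hg.1.1] at h1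
    convert h1 using 1
    calc g * f' * (g * f') = g * f' * g * (f * f) * f' := by rw [h.sq hf.1.1, mul_one]; group
      _ = g * f' * (g * f) * f * f' := by group
      _ = g * f' * (f * g) * f * f' := by rw [hgc.eq]
      _ = g * (f' * f) * g * (f * f') := by group
  have hgΩ : g ∈ Ω := h.near_sub ha hg.1
  have h3 := h.three g hgΩ f' (h.near_sub ha hf'CN.1) hgn
  have hgf' : g * f' ∈ oc (a * t) := by
    have : g * f' = (g * f' * (g * f'))⁻¹ := by
      refine eq_inv_of_mul_eq_one_right ?_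
      rw [← h3, pow_three]
      group
    rw [this]; exact inv_mem hk
  have hgf2 : g * f ∈ oc (a * t) := by
    have := mul_mem hgf' hff
    rwa [← mul_assoc, mul_assoc g, h.sq hf'CN.1.1, mul_one] at this
  have hone : g * f = 1 := eq_one_of_sq (oc_odd hgf2)
    (by rw [hgc.symm.mul_mul_mul_comm, h.sq hg.1.1, h.sq hf.1.1, one_mul])
  exact hgf (by rw [mul_eq_one_iff_eq_inv.mp hone, h.inv' hf.1.1])

theorem oc_inverts {a t b : G} (ha : a ∈ Ω) (ht : t ∈ near D a)
    (hb : b = a ∨ b = t ∨ b ∈ CN D a t) {o : G} (ho : o ∈ oc (a * t)) : b * o * b = o⁻¹ := by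
  have hbD : b ∈ D := by
    rcases hb with rfl | rfl | hb
    · exact h.sub ha
    · exact ht.1
    · exact hb.1.1
  have hbz : Commute b (a * t) := by
    rcases hb with rfl | rfl | hb
    · exact (Commute.refl _).mul_right ht.2.2
    · exact ht.2.2.symm.mul_right (Commute.refl _)
    · exact (hb.1.2.2.symm).mul_right hb.2.2.2.symm
  have hbΩ : b ∈ Ω := by
    rcases hb with rfl | rfl | hb
    · exact ha
    · exact h.near_sub ha ht
    · exact h.near_sub ha hb.1
  refine inverts_of_fpf (O := oc (a * t)) (h.sq hbD) (fun o ho => ?_) (fun o ho hob => ?_) o ho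
  · have := oc_conj ho hbz
    rwa [h.inv' hbD] at this
  · have hoΩ : o * a * o⁻¹ ∈ Ω :=
      h.block o b hbΩ (by rw [hob.eq, mul_inv_cancel_right]; exact hbΩ) a ha
    rcases h.pair_unique ha ht (oc_commute ho) hoΩ with e | e
    · exact h.oc_fix_eq ha ht ho (mul_inv_eq_iff_eq_mul.mp e)
    · refine h.oc_fix_eq ha ht ho (commute_of_sq (oc_odd ho) ?_)
      have he : o * t * o⁻¹ = a := by
        have h1 : (o * a * o⁻¹) * (o * t * o⁻¹) = a * t := by
          rw [show (o * a * o⁻¹) * (o * t * o⁻¹) = o * (a * t) * o⁻¹ by group,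
            (oc_commute ho).eq, mul_inv_cancel_right]
        rw [e, ← eq_inv_mul_iff_mul_eq, h.inv' ht.1] at h1
        rw [h1, ht.2.2.eq, ← mul_assoc, h.sq ht.1, one_mul]
      show o * o * a = a * (o * o)
      calc o * o * a = o * (o * a * o⁻¹) * o := by group
        _ = (o * t * o⁻¹) * (o * o) := by rw [e]; group
        _ = a * (o * o) := by rw [he]

/-- Z* for the image of `a` modulo `a * t`. -/
theorem zstar {a t g : G} (ha : a ∈ Ω) (ht : t ∈ near D a) (hg : Commute g (a * t)) :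
    a * g * a * g⁻¹ ∈ oc (a * t) ∨ a * g * a * g⁻¹ * (a * t) ∈ oc (a * t) := by
  set X := centralizer ({a * t} : Set G) with hX
  have hzX : a * t ∈ X := mem_centralizer_singleton_iff.mpr rfl
  have haX : a ∈ X := mem_centralizer_singleton_iff.mpr ((Commute.refl a).mul_right ht.2.2)
  have haD := h.sub ha
  have hzc : (⟨a * t, hzX⟩ : X) ∈ Subgroup.center X := mem_center_iff.mpr fun x =>
    Subtype.ext (mem_centralizer_singleton_iff.mp x.2)
  have haz : (⟨a, haX⟩ : X) ≠ ⟨a * t, hzX⟩ := by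
    intro e
    have e' : a = a * t := congrArg Subtype.val e
    have : t = 1 := mul_left_cancel (a := a) (by rw [← e', mul_one])
    have h2 := h.two t ht.1
    rw [this, orderOf_one] at h2
    omega
  have hiso : ∀ x : X, ((x : G) * a * (x : G)⁻¹ * a = a * ((x : G) * a * (x : G)⁻¹) ∨
      (x : G) * a * (x : G)⁻¹ * a = a * ((x : G) * a * (x : G)⁻¹) * (a * t)) →
      (x : G) * a * (x : G)⁻¹ = a ∨ (x : G) * a * (x : G)⁻¹ = t := by
    intro x hx
    have hxz : Commute (x : G) (a * t) := mem_centralizer_singleton_iff.mp x.2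
    set f := (x : G) * a * (x : G)⁻¹ with hf
    have hfD : f ∈ D := h.conj x a haD
    have hzf : Commute f (a * t) := by
      have := (Commute.conj_iff (x : G)).mpr ((Commute.refl a).mul_right ht.2.2)
      rwa [hxz.eq, mul_inv_cancel_right] at this
    rcases hx with hx | hx
    · exact h.pair_unique ha ht hxz (h.closed a ha f hfD (Commute.symm hx))
    · exfalso
      have hfaf : f * a * f⁻¹ = t := by
        rw [hx, h.inv' hfD] at *
        calc a * f * (a * t) * f = a * (f * (a * t)) * f := by group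
          _ = a * ((a * t) * f) * f := by rw [hzf.eq]
          _ = (a * a) * t * (f * f) := by group
          _ = t := by rw [h.sq haD, h.sq hfD, one_mul, mul_one]
      have hfΩ : f ∈ Ω := h.mem_of_stab hfD ha (hfaf ▸ h.near_sub ha ht)
      have hc := h.commute_of_pair ha ht hfΩ hzf
      rw [hc.eq, mul_inv_cancel_right] at hfaf
      exact ht.2.1 hfaf.symm
  have key := commutator_mod (X := X) (z := ⟨a * t, hzX⟩) (a := ⟨a, haX⟩)
    (by rw [orderOf_mk]; exact h.pair_order ha ht) hzc (by rw [orderOf_mk]; exact h.two a haD) haz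
    (fun x hx => by
      have hx' := hiso x (hx.imp (fun e => congrArg Subtype.val e) (fun e => congrArg Subtype.val e))
      refine hx'.imp (fun e => Subtype.ext e) (fun e => Subtype.ext ?_)
      show (x : G) * a * (x : G)⁻¹ = a * (a * t)
      rw [e, ← mul_assoc, h.sq haD, one_mul])
    ⟨g, mem_centralizer_singleton_iff.mpr hg⟩
  rcases key with k | k
  · refine Or.inl ⟨_, k, ?_⟩
    show a * g * a⁻¹ * g⁻¹ = _
    rw [h.inv' haD]
  · refine Or.inr ⟨_, k, ?_⟩
    show a * g * a⁻¹ * g⁻¹ * (a * t) = _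
    rw [h.inv' haD]

theorem oc_sub {a t f : G} (ha : a ∈ Ω) (ht : t ∈ near D a) (hf : f ∈ CN D a t) :
    oc (a * t) ≤ oc (a * f) := by
  intro o ho
  have haD := h.sub ha
  have hI := fun b hb => h.oc_inverts (b := b) ha ht hb ho
  have hao := hI a (Or.inl rfl)
  have hfo := hI f (Or.inr (Or.inr hf))
  have hinv : ∀ b, b * b = 1 → b * o * b = o⁻¹ → b * o⁻¹ * b = o := by
    intro b hb e
    have := congrArg (·⁻¹) e
    simp only [mul_inv_rev, inv_inv, inv_of_sq hb] at this
    rwa [← mul_assoc] at this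
  have hoaf : Commute o (a * f) := by
    show o * (a * f) = a * f * o
    calc o * (a * f) = (a * o⁻¹ * a) * (a * f) := by rw [hinv a (h.sq haD) hao]
      _ = a * o⁻¹ * (a * a) * f := by group
      _ = a * (f * o * f) * f := by rw [h.sq haD, mul_one, hfo]
      _ = a * f * o * (f * f) := by group
      _ = a * f * o := by rw [h.sq hf.1.1, mul_one]
  have hsq : a * o * a * o⁻¹ = o⁻¹ * o⁻¹ := by rw [hao]
  rcases h.zstar ha hf.1 hoaf with k | k <;> rw [hsq] at k
  · obtain ⟨j, hj⟩ := exists_sqrt (oc_odd ho)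
    have := pow_mem (inv_mem k) j
    rw [mul_inv_rev, inv_inv, hj] at this
    exact this
  · exfalso
    have hm : Commute (o⁻¹ * o⁻¹) (a * f) := hoaf.inv_left.mul_left hoaf.inv_left
    have h1 := oc_odd k
    set N := orderOf (o⁻¹ * o⁻¹) with hN
    have hNodd : Odd N := by
      refine (oc_odd ho).of_dvd_nat (orderOf_dvd_of_pow_eq_one ?_)
      rw [← pow_two, ← pow_mul, mul_comm, pow_mul, inv_pow, pow_orderOf_eq_one, inv_one, one_pow]
    have he : (o⁻¹ * o⁻¹ * (a * f)) ^ N = a * f := by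
      rw [hm.mul_pow, hN, pow_orderOf_eq_one, one_mul]
      obtain ⟨j, hj⟩ := hNodd
      rw [← hN, hj, pow_succ, pow_mul, pow_two, h.pair_sq ha hf.1, one_pow, one_mul]
    have := h1.of_dvd_nat (orderOf_pow_dvd (x := o⁻¹ * o⁻¹ * (a * f)) N)
    rw [he, h.pair_order ha hf.1] at this
    exact absurd this (by decide)

theorem oc_eq {a t t' : G} (ha : a ∈ Ω) (ht : t ∈ near D a) (ht' : t' ∈ near D a) :
    oc (a * t) ≤ oc (a * t') := by
  obtain ⟨f, hf, hft'⟩ := h.common a ha t ht t' ht'
  refine (h.oc_sub ha ht hf).trans (h.oc_sub ha hf.1 ⟨ht', h.sub (h.near_sub ha ht'), ?_, hft'.2.2.symm⟩)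
  exact hft'.2.1.symm

theorem oc_bot {a t : G} (ha : a ∈ Ω) (ht : t ∈ near D a) {o : G} (ho : o ∈ oc (a * t)) : o = 1 := by
  have haD := h.sub ha
  have hnear : ∀ f ∈ near D a, ∀ x ∈ oc (a * t), f * x * f⁻¹ = x⁻¹ := fun f hf x hx => by
    rw [h.inv' hf.1]
    exact h.oc_inverts ha hf (Or.inr (Or.inl rfl)) (h.oc_eq ha ht hf hx)
  set O := oc (a * t) with hO
  let S : Subgroup G :=
    { carrier := {g | (∀ x ∈ O, g * x * g⁻¹ = x) ∨ (∀ x ∈ O, g * x * g⁻¹ = x⁻¹)}
      one_mem' := Or.inl fun x _ => by group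
      mul_mem' := by
        rintro g k (hg | hg) (hk | hk)
        · refine Or.inl fun x hx => ?_
          rw [mul_inv_rev, show g * k * x * (k⁻¹ * g⁻¹) = g * (k * x * k⁻¹) * g⁻¹ by group,
            hk x hx, hg x hx]
        · refine Or.inr fun x hx => ?_
          rw [mul_inv_rev, show g * k * x * (k⁻¹ * g⁻¹) = g * (k * x * k⁻¹) * g⁻¹ by group,
            hk x hx, hg _ (inv_mem hx)]
        · refine Or.inr fun x hx => ?_
          rw [mul_inv_rev, show g * k * x * (k⁻¹ * g⁻¹) = g * (k * x * k⁻¹) * g⁻¹ by group,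
            hk x hx, hg x hx]
        · refine Or.inl fun x hx => ?_
          rw [mul_inv_rev, show g * k * x * (k⁻¹ * g⁻¹) = g * (k * x * k⁻¹) * g⁻¹ by group,
            hk x hx, hg _ (inv_mem hx), inv_inv]
      inv_mem' := by
        rintro g (hg | hg)
        · refine Or.inl fun x hx => ?_
          conv_lhs => rw [← hg x hx]
          group
        · refine Or.inr fun x hx => ?_
          have := hg _ (inv_mem hx)
          rw [inv_inv] at this
          conv_lhs => rw [← this]
          group }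
  have hS : centralizer ({a} : Set G) ≤ S :=
    (h.gen a ha).trans ((closure_le _).mpr fun f hf => Or.inr fun x hx => hnear f hf x hx)
  have hflip : ∀ g : G, (∀ x ∈ O, g * x * g⁻¹ = x⁻¹) → ∀ x ∈ O, g⁻¹ * x * g⁻¹⁻¹ = x⁻¹ := by
    intro g hg x hx
    have := hg _ (inv_mem hx)
    rw [inv_inv] at this
    conv_lhs => rw [← this]
    group
  have hsame : ∀ g : G, (∀ x ∈ O, g * x * g⁻¹ = x) → ∀ x ∈ O, g⁻¹ * x * g⁻¹⁻¹ = x := by
    intro g hg x hx
    conv_lhs => rw [← hg x hx]
    group
  have hcen : ⁅centralizer ({a} : Set G), centralizer ({a} : Set G)⁆ ≤ centralizer (O : Set G) := by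
    rw [commutator_le]
    intro g hg k hk
    rw [mem_centralizer_iff]
    intro x hx
    suffices e : (g * k * g⁻¹ * k⁻¹) * x * (g * k * g⁻¹ * k⁻¹)⁻¹ = x by
      rw [commutatorElement_def]
      exact (mul_inv_eq_iff_eq_mul.mp e).symm
    rw [show g * k * g⁻¹ * k⁻¹ * x * (g * k * g⁻¹ * k⁻¹)⁻¹ =
      g * (k * (g⁻¹ * (k⁻¹ * x * k⁻¹⁻¹) * g⁻¹⁻¹) * k⁻¹) * g⁻¹ by group]
    rcases hS hg with hg1 | hg1 <;> rcases hS hk with hk1 | hk1
    · rw [hsame k hk1 x hx, hsame g hg1 x hx, hk1 x hx, hg1 x hx]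
    · rw [hflip k hk1 x hx, hsame g hg1 _ (inv_mem hx), hk1 _ (inv_mem hx), inv_inv, hg1 x hx]
    · rw [hsame k hk1 x hx, hflip g hg1 x hx, hk1 _ (inv_mem hx), hg1 _ (inv_mem hx), inv_inv]
    · rw [hflip k hk1 x hx, hflip g hg1 _ (inv_mem hx), inv_inv, hk1 x hx, hg1 _ (inv_mem hx),
        inv_inv]
  have hac := hcen (h.perfect a ha (mem_centralizer_singleton_iff.mpr rfl))
  have h1 := mem_centralizer_iff.mp hac o ho
  have h2 := h.oc_inverts ha ht (Or.inl rfl) ho
  rw [mul_assoc, h1, ← mul_assoc, h.sq haD, one_mul] at h2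
  exact eq_one_of_sq (oc_odd ho) (by conv_lhs => arg 1; rw [h2]
                                     exact inv_mul_cancel o)

/-- The centralizer of a product of two commuting members stabilizes `Ω`. -/
theorem centralizer_pair {a t g : G} (ha : a ∈ Ω) (ht : t ∈ near D a) (hg : Commute g (a * t)) :
    ∀ b ∈ Ω, g * b * g⁻¹ ∈ Ω := by
  have haD := h.sub ha
  refine h.block g a ha ?_
  rcases h.zstar ha ht hg with k | k <;> have e := h.oc_bot ha ht k
  · have e' : g * a * g⁻¹ = a := by
      rw [mul_assoc a g, mul_assoc a (g * a), mul_eq_one_iff_eq_inv, ← inv_inj, inv_inv] at e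
      rw [← e, h.inv' haD]
    rw [e']; exact ha
  · have e' : g * a * g⁻¹ = t := by
      rw [mul_eq_one_iff_eq_inv, inv_eq_of_mul_eq_one_right (h.pair_sq ha ht), mul_assoc a g,
        mul_assoc a (g * a)] at e
      exact mul_left_cancel e
    rw [e']; exact h.near_sub ha ht

theorem odd_outside {a e : G} (ha : a ∈ Ω) (he : e ∈ D) (heΩ : e ∉ Ω) : Odd (orderOf (a * e)) := by
  by_contra hne
  rw [Nat.not_odd_iff_even] at hne
  have haD := h.sub ha
  obtain ⟨m, hw2, hwa, hwe, hev, hod, -⟩ := mid_of_even (h.sq haD) (h.sq he) hne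
  set w := (a * e) ^ m with hw
  have hmem : w * a ∈ D := by
    by_cases hm : Even m
    · obtain ⟨g, hg⟩ := hev hm; rw [← hg]; exact h.conj g a haD
    · obtain ⟨g, hg⟩ := hod hm; rw [← hg]; exact h.conj g e he
  have htn : w * a ∈ near D a := by
    refine ⟨hmem, fun e' => ?_, hwa.symm.mul_right (Commute.refl a)⟩
    have : w = 1 := mul_right_cancel (b := a) (by rw [e', one_mul])
    rw [this, orderOf_one] at hw2
    omega
  have hz : a * (w * a) = w := by rw [← mul_assoc, ← hwa.eq, mul_assoc, h.sq haD, mul_one]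
  have hM := h.centralizer_pair ha htn (g := e) (by rw [hz]; exact hwe.symm)
  exact heΩ (h.mem_of_stab he ha (hM a ha))

/-- The main theorem: the component is the whole class. -/
theorem eq : Ω = D := by
  refine Set.Subset.antisymm h.sub fun e he => ?_
  by_contra heΩ
  obtain ⟨a, ha⟩ := h.ne
  have haD := h.sub ha
  obtain ⟨t, ht⟩ : (near D a).Nonempty := by
    rw [Set.nonempty_iff_ne_empty]
    intro h0
    have h1 : a ∈ closure (near D a) := h.gen a ha (mem_centralizer_singleton_iff.mpr rfl)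
    rw [h0, Subgroup.closure_empty, mem_bot] at h1
    have := h.two a haD
    rw [h1, orderOf_one] at this
    omega
  have hz2 := h.pair_sq ha ht
  have hee := h.sq he
  rcases Nat.even_or_odd (orderOf (a * t * e)) with hev | hod
  · obtain ⟨m, hw2, hwz, hwe, -, hO, hE⟩ := mid_of_even hz2 hee hev
    set w := (a * t * e) ^ m with hw
    have hwM := h.centralizer_pair ha ht hwz
    by_cases hm : Even m
    · -- then `w` is a pair product on the side of `e`
      obtain ⟨g, hg⟩ := hE hm
      have he' : w * e ∈ D := hg ▸ h.conj g e he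
      obtain ⟨b, hb, hbw⟩ := h.fix w hw2 hwM
      obtain ⟨c, hc⟩ := h.trans e he a haD
      have hne' : w * e ≠ e := fun e' => by
        have : w = 1 := mul_right_cancel (b := e) (by rw [e', one_mul])
        rw [this, orderOf_one] at hw2
        omega
      have ht₀ : c * (w * e) * c⁻¹ ∈ near D a := by
        refine ⟨h.conj c _ he', fun e' => hne' (mul_left_cancel (mul_right_cancel (e'.trans hc.symm))),
          ?_⟩
        have := (Commute.conj_iff c).mpr (hwe.symm.mul_right (Commute.refl e))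
        rwa [hc] at this
      have hprod : a * (c * (w * e) * c⁻¹) = c * w * c⁻¹ := by
        calc a * (c * (w * e) * c⁻¹) = (c * e * c⁻¹) * (c * (w * e) * c⁻¹) := by rw [hc]
          _ = c * (e * w * e) * c⁻¹ := by group
          _ = c * w * c⁻¹ := by rw [← hwe.eq, mul_assoc w e e, hee, mul_one]
      have hb0 : Commute (c * b * c⁻¹) (a * (c * (w * e) * c⁻¹)) := by
        rw [hprod]; exact (Commute.conj_iff c).mpr hbw.symm
      have hb0Ω : c * b * c⁻¹ ∈ Ω := h.mem_of_stab (h.conj c b (h.sub hb)) ha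
        (h.centralizer_pair ha ht₀ hb0 a ha)
      have hcomm := h.commute_of_pair ha ht₀ hb0Ω hb0
      rw [← hc] at hcomm
      exact heΩ (h.closed b hb e he ((Commute.conj_iff c).mp hcomm))
    · obtain ⟨g, hg⟩ := hO hm
      set f := w * (a * t) with hf
      have hfD : f ∈ D := hg ▸ h.conj g e he
      have hfz : Commute f (a * t) := hwz.mul_left (Commute.refl _)
      have hfΩ : f ∈ Ω := h.mem_of_stab hfD ha (h.centralizer_pair ha ht hfz a ha)
      obtain ⟨hfa, hft⟩ := h.commute_pair_both ha ht hfΩ hfz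
      have hwf : w = f * (a * t) := by rw [hf, mul_assoc, hz2, mul_one]
      have htΩ := h.near_sub ha ht
      have hfCN : f ∈ CN D a t := by
        refine ⟨⟨hfD, fun e' => ?_, hfa.symm⟩, ⟨hfD, fun e' => ?_, hft.symm⟩⟩
        · rw [e', ← mul_assoc, h.sq haD, one_mul] at hwf
          exact heΩ (h.closed t htΩ e he (hwf ▸ hwe))
        · rw [e', ht.2.2.eq, ← mul_assoc, h.sq ht.1, one_mul] at hwf
          exact heΩ (h.closed a ha e he (hwf ▸ hwe))
      obtain ⟨u, hu, hua, hut, huf, hu'⟩ := h.four a ha t ht f hfCN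
      have hatf : a * t * f = w := by rw [hwf, hfz.eq]
      have haw : Commute a w := by
        rw [← hatf]; exact ((Commute.refl a).mul_right ht.2.2).mul_right hfa.symm
      have huw : Commute u w := by rw [← hatf]; exact (hua.mul_right hut).mul_right huf
      obtain ⟨k, hk⟩ := conj_of_odd (h.sq haD) hee (h.odd_outside ha he heΩ)
      obtain ⟨l, hl⟩ := conj_of_odd (h.sq (h.sub hu)) hee (h.odd_outside hu he heΩ)
      set r := (a * e) ^ k with hr
      set s := (u * e) ^ l with hs
      have hrw : Commute r w := (haw.mul_left hwe.symm).pow_left k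
      have hsw : Commute s w := (huw.mul_left hwe.symm).pow_left l
      set q := s * r⁻¹ with hq
      have hqa : q * a * q⁻¹ = u := by
        calc q * a * q⁻¹ = s * (r⁻¹ * a * r) * s⁻¹ := by rw [hq]; group
          _ = s * (s⁻¹ * u * s) * s⁻¹ := by rw [hk, hl]
          _ = u := by group
      have hqw : q * w * q⁻¹ = w := by
        rw [(hsw.mul_left hrw.inv_left).eq, mul_inv_cancel_right]
      have hnr : ∀ x ∈ near D a, q * x * q⁻¹ ∈ near D u := fun x hx =>
        ⟨h.conj q x hx.1, fun e' => hx.2.1 (mul_left_cancel (mul_right_cancel (e'.trans hqa.symm))),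
          hqa ▸ (Commute.conj_iff q).mpr hx.2.2⟩
      refine hu' _ (hnr t ht) _ (hnr f hfCN.1) ((Commute.conj_iff q).mpr hft.symm) ?_
      rw [hatf]
      calc u * w = (q * a * q⁻¹) * (q * w * q⁻¹) := by rw [hqa, hqw]
        _ = q * (a * w) * q⁻¹ := by group
        _ = q * (t * f) * q⁻¹ := by
          rw [← hatf, mul_assoc a t, ← mul_assoc a a, h.sq haD, one_mul]
        _ = q * t * q⁻¹ * (q * f * q⁻¹) := by group
  · obtain ⟨k, hk⟩ := conj_of_odd hz2 hee hod
    apply h.noPair a ha t ht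
    have hc := h.conj ((a * t * e) ^ k) e he
    conv at hc => arg 2; arg 1; arg 2; rw [← hk]
    convert hc using 1
    group

end Conn

end Cfsg.Agent.Fi22Conn80
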