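import Cfsg.Agent.Lib.ThreeTransM22Frames51

/-!
# Members near two non-commuting members of a web with local charts `PSU₆(2)`

A web is a set `D` in a group such that around each member the commuting members are the points of the
Hermitian polar space of dimension six over the field of four elements.  For non-commuting `d`, `y` the
set `W` of common neighbours meets each totally isotropic plane of the chart at `y` in an arc, and the
members of `W` commuting with two commuting ones form three lines of four.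
-/

set_option autoImplicit false
set_option linter.unusedSectionVars false

namespace Cfsg.Agent.Fi22RecogWebGeo11

open Cfsg.Agent.ThreeTransDescent
open Cfsg.Agent.UnitaryF4Geo Cfsg.Agent.UnitaryF4Line
open Cfsg.Agent.ThreeTransM22Frame72 (exists_duals exists_alpha exists_iso_perp)
open Cfsg.Agent.ThreeTransM22Frames51 (indep_of_nondeg eq_of_pair)

variable {F : Type} [Field F] [Fintype F] [hF : FourField F]

/-! ### The field -/

theorem third {a b c : F} (ha : a ≠ 0) (hb : b ≠ 0) (hab : a ≠ b) (hc : c ≠ 0) (hca : c ≠ a)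
    (hcb : c ≠ b) : c = a + b := by
  classical
  have h4 : ({0, a, b, a + b} : Finset F).card = 4 := by
    have h1 : a + b ≠ 0 := fun e => hab (eq_of_add_eq_zero e)
    have h2 : a + b ≠ a := fun e => hb (by simpa using e)
    have h3 : a + b ≠ b := fun e => ha (by simpa using e)
    simp [ha, hb, hab, ha.symm, hb.symm, h1.symm, h2.symm, h3.symm]
  have hu : ({0, a, b, a + b} : Finset F) = Finset.univ :=
    Finset.eq_univ_of_card _ (h4.trans hF.card_eq.symm)
  have := hu.ge (Finset.mem_univ c)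
  simpa [hc, hca, hcb] using this

theorem card_ne_zero_eq [DecidableEq F] : (Finset.univ.filter fun t : F => t ≠ 0).card = 3 := by
  rw [Finset.filter_ne', Finset.card_erase_of_mem (Finset.mem_univ _), Finset.card_univ, hF.card_eq]

/-! ### Linear algebra -/

theorem plane {a p x w : Fin 6 → F} (hli : LinearIndependent F ![a, p, x])
    (haa : h a a = 0) (hpp : h p p = 0) (hxx : h x x = 0) (hww : h w w = 0) (hap : h a p = 0)
    (hax : h a x = 0) (haw : h a w = 0) (hpx : h p x = 0) (hpw : h p w = 0) (hxw : h x w = 0) :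
    ∃ A B C : F, w = A • a + B • p + C • x := by
  by_contra hne
  have hu : LinearIndependent F (Fin.snoc ![a, p, x] w : Fin 4 → Fin 6 → F) := by
    rw [linearIndependent_finSnoc]
    refine ⟨hli, fun hm => hne ?_⟩
    obtain ⟨c, hc⟩ := (Submodule.mem_span_range_iff_exists_fun F).mp hm
    exact ⟨c 0, c 1, c 2, by rw [← hc, Fin.sum_univ_three]; rfl⟩
  set u := (Fin.snoc ![a, p, x] w : Fin 4 → Fin 6 → F) with hudef
  have hz : ∀ i j, h (u i) (u j) = 0 := by
    intro i j
    fin_cases i <;> fin_cases j <;>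
      simp [hudef, Fin.snoc, haa, hpp, hxx, hww, hap, hax, haw, hpx, hpw, hxw, h_comm_zero hap,
        h_comm_zero hax, h_comm_zero haw, h_comm_zero hpx, h_comm_zero hpw, h_comm_zero hxw]
  obtain ⟨v, hv⟩ := exists_duals hu
  have h8 : LinearIndependent F (Sum.elim u v) := by
    rw [Fintype.linearIndependent_iff]
    intro c hc
    rw [Fintype.sum_sum_type] at hc
    simp only [Sum.elim_inl, Sum.elim_inr] at hc
    have e : ∀ j, c (Sum.inr j) = 0 := by
      intro j
      have := congrArg (fun z => h z (u j)) hc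
      simpa [h_add_left, h_sum_left, hz, hv, h_zero_left] using this
    intro i
    cases i with
    | inr j => exact e j
    | inl j =>
      exact Fintype.linearIndependent_iff.mp hu (fun i => c (Sum.inl i)) (by simpa [e] using hc) j
  simpa using h8.fintype_card_le_finrank

/-! ### Webs -/

variable {G : Type*} [Group G] {D : Set G}

/-- The members commuting with `s` are the isotropic points. -/
structure Pts (D : Set G) (s : G) (L : (Fin 6 → F) → G) : Prop where
  mem : ∀ {u : Fin 6 → F}, h u u = 0 → u ≠ 0 → L u ∈ near D s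
  surj : ∀ {x : G}, x ∈ near D s → ∃ u, h u u = 0 ∧ u ≠ 0 ∧ L u = x
  smul : ∀ {u : Fin 6 → F} {c : F}, h u u = 0 → u ≠ 0 → c ≠ 0 → L (c • u) = L u
  inj : ∀ {u v : Fin 6 → F}, h u u = 0 → u ≠ 0 → h v v = 0 → v ≠ 0 → L u = L v →
    ∃ c : F, c ≠ 0 ∧ u = c • v
  comm : ∀ {u v : Fin 6 → F}, h u u = 0 → u ≠ 0 → h v v = 0 → v ≠ 0 →
    (Commute (L u) (L v) ↔ h u v = 0)
  tconj : ∀ {u v : Fin 6 → F}, h u u = 0 → u ≠ 0 → h v v = 0 → v ≠ 0 →
    L u * L v * L u = L (v + h v u • u)

/-- Every member has a chart. -/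
def Web (D : Set G) (F : Type) [Field F] [Fintype F] : Prop :=
  ∀ s ∈ D, ∃ L : (Fin 6 → F) → G, Pts D s L

theorem near_symm {d x : G} (hd : d ∈ D) (hx : x ∈ near D d) : d ∈ near D x :=
  ⟨hd, hx.2.1.symm, hx.2.2.symm⟩

/-- Two non-commuting members. -/
structure Pair (D : Set G) (F : Type) [Field F] [Fintype F] (d y : G) : Prop where
  web : Web D F
  dmem : d ∈ D
  ymem : y ∈ D
  ncomm : ¬ Commute d y

variable {d y : G}

/-- A vector whose member lies near both. -/
def Rep (D : Set G) (d : G) (L : (Fin 6 → F) → G) (u : Fin 6 → F) : Prop :=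
  h u u = 0 ∧ u ≠ 0 ∧ L u ∈ near D d

section

variable (P : Pair D F d y) {L : (Fin 6 → F) → G} (Y : Pts D y L)
include P Y

theorem exists_rep {x : G} (hx : x ∈ near D d) (hxy : x ∈ near D y) :
    ∃ u, Rep D d L u ∧ L u = x := by
  obtain ⟨u, h1, h2, rfl⟩ := Y.surj hxy
  exact ⟨u, ⟨h1, h2, hx⟩, rfl⟩

theorem rep_smul {u : Fin 6 → F} (hu : Rep D d L u) {c : F} (hc : c ≠ 0) : Rep D d L (c • u) :=
  ⟨by rw [h_smul_left, h_smul_right, hu.1, mul_zero, mul_zero], smul_ne_zero hc hu.2.1,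
    by rw [Y.smul hu.1 hu.2.1 hc]; exact hu.2.2⟩

theorem third_iso {u v : Fin 6 → F} (hu : h u u = 0) (hv : h v v = 0) :
    h (v + h v u • u) (v + h v u • u) = 0 := by
  simp only [h_add_left, h_add_right, h_smul_left, h_smul_right, hu, hv, mul_zero, add_zero,
    zero_add, h_symm v u]
  linear_combination (h v u * h v u ^ 2) * two_eq_zero (F := F)

theorem third_ne {u v : Fin 6 → F} (hu : h u u = 0) (hv : h v v = 0) (hv0 : v ≠ 0) :
    v + h v u • u ≠ 0 := by
  intro e
  have e1 := congrArg (fun z => h z u) e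
  simp [h_add_left, h_smul_left, hu, h_zero_left] at e1
  rw [e1, zero_smul, add_zero] at e
  exact hv0 e

/-- The set is closed under conjugation among its members. -/
theorem rep_third {u v : Fin 6 → F} (hu : Rep D d L u) (hv : Rep D d L v) :
    Rep D d L (v + h v u • u) := by
  refine ⟨third_iso P Y hu.1 hv.1, third_ne P Y hu.1 hv.1 hv.2.1, ?_⟩
  rw [← Y.tconj hu.1 hu.2.1 hv.1 hv.2.1]
  obtain ⟨M, Z⟩ := P.web d P.dmem
  obtain ⟨u', h1, h2, e1⟩ := Z.surj hu.2.2
  obtain ⟨v', h3, h4, e2⟩ := Z.surj hv.2.2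
  rw [← e1, ← e2, Z.tconj h1 h2 h3 h4]
  exact Z.mem (third_iso P Y h1 h3) (third_ne P Y h1 h3 h4)

theorem rep_commute {u v : Fin 6 → F} (hu : Rep D d L u) (hv : Rep D d L v) :
    Commute (L u) (L v) ↔ h u v = 0 :=
  Y.comm hu.1 hu.2.1 hv.1 hv.2.1

theorem rep_ne {u v z : Fin 6 → F} (hu : Rep D d L u) (hv : Rep D d L v) (h1 : h u z = 0)
    (h2 : h v z ≠ 0) : L u ≠ L v := by
  intro e
  obtain ⟨c, hc, rfl⟩ := Y.inj hu.1 hu.2.1 hv.1 hv.2.1 e
  rw [h_smul_left] at h1
  exact h2 ((mul_eq_zero.mp h1).resolve_left hc)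

theorem rep_near {u v : Fin 6 → F} (hu : Rep D d L u) (hv : Rep D d L v) (h0 : h u v = 0)
    (hne : L u ≠ L v) : L v ∈ near D (L u) :=
  ⟨hv.2.2.1, hne.symm, (rep_commute P Y hu hv).mpr h0⟩

/-- A totally isotropic line carries at most two members of the set. -/
theorem line {u v w : Fin 6 → F} (hu : Rep D d L u) (hv : Rep D d L v) (hw : Rep D d L w)
    (huv : h u v = 0) {A B : F} (he : w = A • u + B • v) : L w = L u ∨ L w = L v := by
  by_contra hne
  push Not at hne
  have hne' : L u ≠ L v := by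
    intro e
    obtain ⟨c, hc, rfl⟩ := Y.inj hu.1 hu.2.1 hv.1 hv.2.1 e
    rw [smul_smul, ← add_smul] at he
    have hk : A * c + B ≠ 0 := fun e0 => hw.2.1 (by rw [he, e0, zero_smul])
    exact hne.2 (by rw [he, Y.smul hv.1 hv.2.1 hk])
  have huw : h u w = 0 := by
    rw [he, h_add_right, h_smul_right, h_smul_right, hu.1, huv, mul_zero, mul_zero, add_zero]
  have hvw : h v w = 0 := by
    rw [he, h_add_right, h_smul_right, h_smul_right, hv.1, h_comm_zero huv, mul_zero, mul_zero,
      add_zero]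
  have nu : L u ∈ near D y := Y.mem hu.1 hu.2.1
  obtain ⟨M, Z⟩ := P.web (L u) nu.1
  obtain ⟨y', hy1, hy2, ey⟩ := Z.surj (near_symm P.ymem nu)
  obtain ⟨d', hd1, hd2, ed⟩ := Z.surj (near_symm P.dmem hu.2.2)
  obtain ⟨p', hp1, hp2, ep⟩ := Z.surj (rep_near P Y hu hv huv hne')
  obtain ⟨x', hx1, hx2, ex⟩ := Z.surj (rep_near P Y hu hw huw hne.1.symm)
  have hspan : x' ∈ Submodule.span F ({y', p'} : Set (Fin 6 → F)) := by
    refine mem_span_of_perp le_rfl hy1 hp1 fun g hg hgy hgp => ?_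
    by_cases hg0 : g = 0
    · subst hg0; exact h_zero_left _
    refine (Z.comm hg hg0 hx1 hx2).mp ?_
    rw [ex]
    have hy : Commute (M g) y := by rw [← ey]; exact (Z.comm hg hg0 hy1 hy2).mpr hgy
    have hp : Commute (M g) (L v) := by rw [← ep]; exact (Z.comm hg hg0 hp1 hp2).mpr hgp
    by_cases hgy' : M g = y
    · rw [hgy']; exact (Y.mem hw.1 hw.2.1).2.2
    obtain ⟨g', h1, h2, eg⟩ := Y.surj (x := M g) ⟨(Z.mem hg hg0).1, hgy', hy.symm⟩
    rw [← eg] at hp ⊢
    have hu' : Commute (L g') (L u) := by rw [eg]; exact (Z.mem hg hg0).2.2.symm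
    rw [Y.comm h1 h2 hw.1 hw.2.1, he, h_add_right, h_smul_right, h_smul_right,
      (Y.comm h1 h2 hu.1 hu.2.1).mp hu', (Y.comm h1 h2 hv.1 hv.2.1).mp hp, mul_zero, mul_zero,
      add_zero]
  obtain ⟨a, b, hab⟩ := Submodule.mem_span_pair.mp hspan
  have hpd : h p' d' = 0 := (Z.comm hp1 hp2 hd1 hd2).mp (by rw [ep, ed]; exact hv.2.2.2.2.symm)
  have hxd : h x' d' = 0 := (Z.comm hx1 hx2 hd1 hd2).mp (by rw [ex, ed]; exact hw.2.2.2.2.symm)
  have hyd : h y' d' ≠ 0 := fun e =>
    P.ncomm (by rw [← ed, ← ey]; exact (Z.comm hd1 hd2 hy1 hy2).mpr (h_comm_zero e))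
  rw [← hab, h_add_left, h_smul_left, h_smul_left, hpd, mul_zero, add_zero] at hxd
  rw [(mul_eq_zero.mp hxd).resolve_right hyd, zero_smul, zero_add] at hab
  have hb : b ≠ 0 := fun e => hx2 (by rw [← hab, e, zero_smul])
  exact hne.2 (by rw [← ex, ← ep, ← hab, Z.smul hp1 hp2 hb])

theorem rep_li {u v w : Fin 6 → F} (hu : Rep D d L u) (hv : Rep D d L v) (hw : Rep D d L w)
    (huv : h u v = 0) (h1 : L u ≠ L v) (h2 : L u ≠ L w) (h3 : L v ≠ L w) :
    LinearIndependent F ![u, v, w] := by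
  rw [Fintype.linearIndependent_iff]
  intro c hc
  simp [Fin.sum_univ_three] at hc
  have e2 : c 2 = 0 := by
    by_contra h0
    have he : w = (c 0 / c 2) • u + (c 1 / c 2) • v := by
      have e := vec_eq_of_add hc
      have := congrArg (fun z => (c 2)⁻¹ • z) e
      simp only [smul_add, smul_smul, inv_mul_cancel₀ h0, one_smul] at this
      rw [← this, div_eq_inv_mul, div_eq_inv_mul]
    rcases line P Y hu hv hw huv he with e | e
    · exact h2 e.symm
    · exact h3 e.symm
  rw [e2, zero_smul, add_zero] at hc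
  have e := vec_eq_of_add hc
  have e0 : c 0 = 0 := by
    by_contra h0
    have h1' : c 1 ≠ 0 := fun e1 => by
      rw [e1, zero_smul] at e; exact smul_ne_zero h0 hu.2.1 e
    exact h1 (by rw [← Y.smul hu.1 hu.2.1 h0, e, Y.smul hv.1 hv.2.1 h1'])
  have e1 : c 1 = 0 := by
    rw [e0, zero_smul] at e
    exact (smul_eq_zero.mp e.symm).resolve_right hv.2.1
  intro i
  fin_cases i
  exacts [e0, e1, e2]

end

/-! ### Three lines at two commuting members -/

/-- The members near `d`, `y`, `a` and `p`. -/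
structure Fan (D : Set G) (d y a p : G) (l : Fin 3 → F → G) : Prop where
  mem : ∀ k t, (l k t ∈ near D d ∧ l k t ∈ near D y) ∧ l k t ∈ near D a ∧ l k t ∈ near D p
  inj : ∀ k k' t t', l k t = l k' t' → k = k' ∧ t = t'
  comm : ∀ k k' t t', Commute (l k t) (l k' t') ↔ k = k'
  surj : ∀ z, z ∈ near D d → z ∈ near D y → z ∈ near D a → z ∈ near D p → ∃ k t, l k t = z
  one : ∀ b, b ∈ near D d → b ∈ near D y → b ∈ near D a → ¬ Commute b p →
    ∀ k, ∃! t, Commute b (l k t)

theorem exists_near (P : Pair D F d y) {a : G} (ha : a ∈ near D d) (hay : a ∈ near D y) :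
    ∃ p, p ∈ near D d ∧ p ∈ near D y ∧ p ∈ near D a := by
  obtain ⟨M, Z⟩ := P.web a ha.1
  obtain ⟨d', hd1, hd2, ed⟩ := Z.surj (near_symm P.dmem ha)
  obtain ⟨y', hy1, hy2, ey⟩ := Z.surj (near_symm P.ymem hay)
  obtain ⟨g, hg0, hg, hgp⟩ := exists_iso_perp (n := 6) (m := 2) (by norm_num) ![d', y']
  have hdy : h y' d' ≠ 0 := fun e =>
    P.ncomm (by rw [← ed, ← ey]; exact (Z.comm hd1 hd2 hy1 hy2).mpr (h_comm_zero e))
  have hgd : h g d' = 0 := hgp 0
  have hgy : h g y' = 0 := hgp 1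
  refine ⟨M g, ⟨(Z.mem hg hg0).1, fun e => ?_, ?_⟩, ⟨(Z.mem hg hg0).1, fun e => ?_, ?_⟩,
    Z.mem hg hg0⟩
  · obtain ⟨c, hc, rfl⟩ := Z.inj hg hg0 hd1 hd2 (e.trans ed.symm)
    rw [h_smul_left, mul_eq_zero] at hgy
    exact hdy (h_comm_zero (hgy.resolve_left hc))
  · rw [← ed]; exact ((Z.comm hg hg0 hd1 hd2).mpr hgd).symm
  · obtain ⟨c, hc, rfl⟩ := Z.inj hg hg0 hy1 hy2 (e.trans ey.symm)
    rw [h_smul_left, mul_eq_zero] at hgd
    exact hdy (hgd.resolve_left hc)
  · rw [← ey]; exact ((Z.comm hg hg0 hy1 hy2).mpr hgy).symm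

theorem exists_fan (P : Pair D F d y) {a p : G} (ha : a ∈ near D d) (hay : a ∈ near D y)
    (hp : p ∈ near D d) (hpy : p ∈ near D y) (hap : p ∈ near D a) :
    ∃ l : Fin 3 → F → G, Fan D d y a p l := by
  obtain ⟨M, Z⟩ := P.web a ha.1
  obtain ⟨d', hd1, hd2, ed⟩ := Z.surj (near_symm P.dmem ha)
  obtain ⟨y₀, hy1₀, hy2₀, ey₀⟩ := Z.surj (near_symm P.ymem hay)
  obtain ⟨p', hp1, hp2, ep⟩ := Z.surj hap
  have hk : h d' y₀ ≠ 0 := fun e =>
    P.ncomm (by rw [← ed, ← ey₀]; exact (Z.comm hd1 hd2 hy1₀ hy2₀).mpr e)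
  set y' := h d' y₀ • y₀ with hy'
  have hy1 : h y' y' = 0 := by rw [hy', h_smul_left, h_smul_right, hy1₀, mul_zero, mul_zero]
  have hy2 : y' ≠ 0 := smul_ne_zero hk hy2₀
  have ey : M y' = y := (Z.smul hy1₀ hy2₀ hk).trans ey₀
  have hdy : h d' y' = 1 := by rw [hy', h_smul_right, ← pow_succ, cube hk]
  have hyd := h_comm_one hdy
  have hpd : h p' d' = 0 := (Z.comm hp1 hp2 hd1 hd2).mp (by rw [ep, ed]; exact hp.2.2.symm)
  have hpy' : h p' y' = 0 := (Z.comm hp1 hp2 hy1 hy2).mp (by rw [ep, ey]; exact hpy.2.2.symm)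
  have hdp := h_comm_zero hpd
  have hyp := h_comm_zero hpy'
  have hli3 : LinearIndependent F ![d', y', p'] := by
    rw [Fintype.linearIndependent_iff]
    intro c hc
    have e0 := congrArg (fun z => h z y') hc
    have e1 := congrArg (fun z => h z d') hc
    simp [Fin.sum_univ_three, h_add_left, h_smul_left, h_zero_left, hd1, hy1, hdy, hyd, hpy',
      hpd] at e0 e1
    simp [Fin.sum_univ_three, e0, e1, hp2] at hc
    intro i
    fin_cases i
    exacts [e0, e1, hc]
  obtain ⟨x, hx⟩ := exists_duals hli3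
  obtain ⟨α, hα⟩ := exists_alpha (x := x 2) hp1 (by simpa using hx 2 2)
  set q := x 2 + α • p' with hq
  have hqd : h q d' = 0 := by simpa [hq, h_add_left, h_smul_left, hpd] using hx 2 0
  have hqy : h q y' = 0 := by simpa [hq, h_add_left, h_smul_left, hpy'] using hx 2 1
  have hqp : h q p' = 1 := by simpa [hq, h_add_left, h_smul_left, hp1] using hx 2 2
  have hdq := h_comm_zero hqd
  have hyq := h_comm_zero hqy
  have hpq := h_comm_one hqp
  obtain ⟨x0, hx00, hx01, hx0p⟩ := exists_iso_perp (n := 6) (m := 4) (by norm_num) ![d', y', p', q]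
  have h0d : h x0 d' = 0 := hx0p 0
  have h0y : h x0 y' = 0 := hx0p 1
  have h0p : h x0 p' = 0 := hx0p 2
  have h0q : h x0 q = 0 := hx0p 3
  have hd0 := h_comm_zero h0d
  have hy0 := h_comm_zero h0y
  have hp0 := h_comm_zero h0p
  have hq0 := h_comm_zero h0q
  have hli5 : LinearIndependent F ![d', y', p', q, x0] := by
    rw [Fintype.linearIndependent_iff]
    intro c hc
    have e0 := congrArg (fun z => h z y') hc
    have e1 := congrArg (fun z => h z d') hc
    have e2 := congrArg (fun z => h z q) hc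
    have e3 := congrArg (fun z => h z p') hc
    simp [Fin.sum_univ_five, h_add_left, h_smul_left, h_zero_left, hd1, hy1, hdy, hyd, hp1, hα,
      hpd, hpy', hdp, hyp, hqd, hqy, hqp, hdq, hyq, hpq, h0d, h0y, h0p, h0q] at e0 e1 e2 e3
    simp [Fin.sum_univ_five, e0, e1, e2, e3, hx00] at hc
    intro i
    fin_cases i
    exacts [e0, e1, e2, e3, hc]
  obtain ⟨x', hx'⟩ := exists_duals hli5
  obtain ⟨β, hβ⟩ := exists_alpha (x := x' 4) hx01 (by simpa using hx' 4 4)
  set x1 := x' 4 + β • x0 with hx1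
  have h1d : h x1 d' = 0 := by simpa [hx1, h_add_left, h_smul_left, h0d] using hx' 4 0
  have h1y : h x1 y' = 0 := by simpa [hx1, h_add_left, h_smul_left, h0y] using hx' 4 1
  have h1p : h x1 p' = 0 := by simpa [hx1, h_add_left, h_smul_left, h0p] using hx' 4 2
  have h1q : h x1 q = 0 := by simpa [hx1, h_add_left, h_smul_left, h0q] using hx' 4 3
  have h10 : h x1 x0 = 1 := by simpa [hx1, h_add_left, h_smul_left, hx01] using hx' 4 4
  have h01 := h_comm_one h10
  have hd1' := h_comm_zero h1d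
  have hy1' := h_comm_zero h1y
  have hp1' := h_comm_zero h1p
  have hq1 := h_comm_zero h1q
  have hli6 : LinearIndependent F ![d', y', p', q, x0, x1] := by
    rw [Fintype.linearIndependent_iff]
    intro c hc
    have e0 := congrArg (fun z => h z y') hc
    have e1 := congrArg (fun z => h z d') hc
    have e2 := congrArg (fun z => h z q) hc
    have e3 := congrArg (fun z => h z p') hc
    have e4 := congrArg (fun z => h z x1) hc
    have e5 := congrArg (fun z => h z x0) hc
    simp [Fin.sum_univ_six, h_add_left, h_smul_left, h_zero_left, hd1, hy1, hdy, hyd, hp1, hα,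
      hx01, hβ, hpd, hpy', hdp, hyp, hqd, hqy, hqp, hdq, hyq, hpq, h0d, h0y, h0p, h0q, hd0, hy0,
      hp0, hq0, h1d, h1y, h1p, h1q, hd1', hy1', hp1', hq1, h10, h01] at e0 e1 e2 e3 e4 e5
    intro i
    fin_cases i
    exacts [e0, e1, e2, e3, e4, e5]
  set xs : Fin 3 → Fin 6 → F := ![x0, x1, x0 + x1] with hxs
  have hxx : ∀ k k', h (xs k) (xs k') = if k = k' then 0 else 1 := by
    intro k k'
    fin_cases k <;> fin_cases k' <;>
      simp [hxs, h_add_left, h_add_right, hx01, hβ, h01, h10, add_self]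
  have hxp : ∀ k, h (xs k) d' = 0 ∧ h (xs k) y' = 0 ∧ h (xs k) p' = 0 ∧ h (xs k) q = 0 := by
    intro k
    fin_cases k <;> simp [hxs, h_add_left, h0d, h0y, h0p, h0q, h1d, h1y, h1p, h1q]
  set v : Fin 3 → F → Fin 6 → F := fun k t => xs k + t • p' with hv
  have hvd : ∀ k t, h (v k t) d' = 0 ∧ h (v k t) y' = 0 ∧ h (v k t) p' = 0 := fun k t => by
    simp [hv, h_add_left, h_smul_left, hxp, hpd, hpy', hp1]
  have hvx : ∀ k t k', h (v k t) (xs k') = if k = k' then 0 else 1 := fun k t k' => by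
    simp [hv, h_add_left, h_smul_left, hxx, h_comm_zero (hxp k').2.2.1]
  have hvv : ∀ k t k' t', h (v k t) (v k' t') = if k = k' then 0 else 1 := fun k t k' t' => by
    rw [show v k' t' = xs k' + t' • p' from rfl, h_add_right, h_smul_right, hvx,
      (hvd k t).2.2, mul_zero, add_zero]
  have hvq : ∀ k t, h (v k t) q = t := fun k t => by
    simp [hv, h_add_left, h_smul_left, hxp, hpq]
  have hiso : ∀ k t, h (v k t) (v k t) = 0 := fun k t => by rw [hvv, if_pos rfl]
  have hne0 : ∀ k t, v k t ≠ 0 := fun k t e => by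
    obtain ⟨k', hk'⟩ := exists_ne k
    have := hvx k t k'
    rw [e, h_zero_left, if_neg hk'.symm] at this
    exact zero_ne_one this
  refine ⟨fun k t => M (v k t), ?_, ?_, ?_, ?_, ?_⟩
  · intro k t
    have hm := Z.mem (hiso k t) (hne0 k t)
    refine ⟨⟨⟨hm.1, fun e => ?_, ?_⟩, ⟨hm.1, fun e => ?_, ?_⟩⟩, hm, ⟨hm.1, fun e => ?_, ?_⟩⟩
    · obtain ⟨c, hc, e'⟩ := Z.inj (hiso k t) (hne0 k t) hd1 hd2 (e.trans ed.symm)
      have := (hvd k t).2.1
      rw [e', h_smul_left, hdy, mul_one] at this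
      exact hc this
    · rw [← ed]; exact ((Z.comm (hiso k t) (hne0 k t) hd1 hd2).mpr (hvd k t).1).symm
    · obtain ⟨c, hc, e'⟩ := Z.inj (hiso k t) (hne0 k t) hy1 hy2 (e.trans ey.symm)
      have := (hvd k t).1
      rw [e', h_smul_left, hyd, mul_one] at this
      exact hc this
    · rw [← ey]; exact ((Z.comm (hiso k t) (hne0 k t) hy1 hy2).mpr (hvd k t).2.1).symm
    · obtain ⟨c, hc, e'⟩ := Z.inj (hiso k t) (hne0 k t) hp1 hp2 (e.trans ep.symm)
      obtain ⟨k', hk'⟩ := exists_ne k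
      have := hvx k t k'
      rw [e', h_smul_left, h_comm_zero (hxp k').2.2.1, mul_zero, if_neg hk'.symm] at this
      exact zero_ne_one this
    · rw [← ep]; exact ((Z.comm (hiso k t) (hne0 k t) hp1 hp2).mpr (hvd k t).2.2).symm
  · intro k k' t t' e
    obtain ⟨c, hc, e'⟩ := Z.inj (hiso k t) (hne0 k t) (hiso k' t') (hne0 k' t') e
    have hkk : k = k' := by
      by_contra hn
      have := hvx k t k'
      rw [e', h_smul_left, hvx, if_pos rfl, mul_zero, if_neg hn] at this
      exact zero_ne_one this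
    subst hkk
    obtain ⟨k', hk'⟩ := exists_ne k
    have h1 := hvx k t k'
    rw [e', h_smul_left, hvx, if_neg hk'.symm, mul_one] at h1
    have h2 := hvq k t
    rw [e', h1, one_smul, hvq] at h2
    exact ⟨rfl, h2.symm⟩
  · intro k k' t t'
    rw [Z.comm (hiso k t) (hne0 k t) (hiso k' t') (hne0 k' t'), hvv]
    split_ifs with e <;> simp [e]
  · intro z hzd hzy hza hzp
    obtain ⟨w, hw1, hw2, ew⟩ := Z.surj hza
    have hwd : h w d' = 0 := (Z.comm hw1 hw2 hd1 hd2).mp (by rw [ew, ed]; exact hzd.2.2.symm)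
    have hwy : h w y' = 0 := (Z.comm hw1 hw2 hy1 hy2).mp (by rw [ew, ey]; exact hzy.2.2.symm)
    have hwp : h w p' = 0 := (Z.comm hw1 hw2 hp1 hp2).mp (by rw [ew, ep]; exact hzp.2.2.symm)
    have hexp : w = h w q • p' + h w x1 • x0 + h w x0 • x1 := by
      refine eq_of_pair hli6 fun j => ?_
      fin_cases j <;>
        simp [h_add_left, h_smul_left, hwd, hwy, hwp, hpd, hpy', hp1, hpq, h0d, h0y, h0p, h0q,
          hx01, h1d, h1y, h1p, h1q, hβ, h10, h01, hp0, hp1']
    have hfin : ∀ k (B : F), B ≠ 0 → w = B • xs k + h w q • p' → ∃ k t, M (v k t) = z := by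
      intro k B hB e
      refine ⟨k, B⁻¹ * h w q, ?_⟩
      rw [← ew, ← Z.smul (hiso k _) (hne0 k _) hB]
      congr 1
      rw [hv, smul_add, smul_smul, mul_inv_cancel_left₀ hB, ← e]
    set A := h w x1 with hA
    set B := h w x0 with hB
    set C := h w q with hC
    have hAB : A = 0 ∨ B = 0 ∨ A = B := by
      have e := hw1
      rw [hexp] at e
      simp [h_add_left, h_add_right, h_smul_left, h_smul_right, hp1, hp0, hp1', h0p, h1p, hx01,
        hβ, h10, h01] at e
      have : A * B * (A + B) = 0 := by linear_combination e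
      rcases mul_eq_zero.mp this with e' | e'
      · rcases mul_eq_zero.mp e' with e'' | e''
        exacts [Or.inl e'', Or.inr (Or.inl e'')]
      · exact Or.inr (Or.inr (eq_of_add_eq_zero e'))
    by_cases hA0 : A = 0
    · by_cases hB0 : B = 0
      · exfalso
        rw [hA0, hB0, zero_smul, zero_smul, add_zero, add_zero] at hexp
        have hC0 : C ≠ 0 := fun e => hw2 (by rw [hexp, e, zero_smul])
        exact hzp.2.1 (by rw [← ew, ← ep, hexp, Z.smul hp1 hp2 hC0])
      · exact hfin 1 B hB0 (by rw [hexp, hA0, zero_smul, add_zero, add_comm]; rfl)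
    · by_cases hB0 : B = 0
      · exact hfin 0 A hA0 (by rw [hexp, hB0, zero_smul, add_zero, add_comm]; rfl)
      · have e := (hAB.resolve_left hA0).resolve_left hB0
        refine hfin 2 A hA0 ?_
        rw [hexp, ← e]
        show C • p' + A • x0 + A • x1 = A • (x0 + x1) + C • p'
        rw [smul_add A x0 x1, add_assoc, add_comm]
  · intro b hbd hby hba hbp k
    obtain ⟨w, hw1, hw2, ew⟩ := Z.surj hba
    have hn : h w p' ≠ 0 := fun e => hbp (by rw [← ew, ← ep]; exact (Z.comm hw1 hw2 hp1 hp2).mpr e)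
    have key : ∀ t, Commute b (M (v k t)) ↔ h w (xs k) + t ^ 2 * h w p' = 0 := fun t => by
      rw [← ew, Z.comm hw1 hw2 (hiso k t) (hne0 k t), hv, h_add_right, h_smul_right]
    set r := h w (xs k) / h w p' with hr
    refine ⟨r ^ 2, (key _).mpr ?_, fun t ht => ?_⟩
    · rw [sq_sq, hr, div_mul_cancel₀ _ hn, add_self]
    · have e := eq_of_add_eq_zero ((key t).mp ht)
      rw [hr, e, mul_div_assoc, div_self hn, mul_one, sq_sq]

end Cfsg.Agent.Fi22RecogWebGeo11
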