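import Cfsg.Agent.Lib.Unit62Cover55

/-!
# Every involution of the cover lies over a plane group
-/

set_option autoImplicit false
set_option linter.unusedSectionVars false
set_option linter.style.haveILetI false

namespace Cfsg.Agent.Unit62Exist55

open Cfsg.Agent.UnitaryF4Geo Cfsg.Agent.UnitaryF4Line Cfsg.Agent.ThreeTransM22Frame72
open Cfsg.Agent.Unit62Code55 Cfsg.Agent.Unit62Plane55 Cfsg.Agent.Unit62Flag55
open Cfsg.Agent.Unit62Cover55

variable {C : Type*} [Group C] [Finite C] {F : Type} [Field F] [Fintype F] [hF : FourField F]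
variable {z : C} {θ : C →* Cfsg.PSU 6 F 2}

local notation "act" => OrthUnitaryTransvection.act

theorem extend : ∀ (m k : ℕ), k + m = 3 → ∀ (t : Fin k → Fin 6 → F), (∀ i j, h (t i) (t j) = 0) →
    LinearIndependent F t →
    ∃ e f, Frame e f ∧ ∀ i, t i ∈ Submodule.span F (Set.range e) := by
  intro m
  induction m with
  | zero =>
    intro k hk t htt hli
    obtain rfl : k = 3 := by omega
    obtain ⟨f, hf⟩ := exists_frame_of htt hli
    exact ⟨t, f, hf, fun i => Submodule.subset_span ⟨i, rfl⟩⟩
  | succ m ih =>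
    intro k hk t htt hli
    have hB : Elem (⊥ : Subgroup (Cfsg.SU 6 F 2)) := fun g hg => by
      rw [Subgroup.mem_bot] at hg
      subst hg
      exact ⟨one_mul 1, fun k _ => by simp⟩
    obtain ⟨v, hvv, hvt, hnv, -⟩ := grow hB (by omega : k ≤ 2) t htt (fun g hg i => by
      rw [Subgroup.mem_bot] at hg
      rw [hg, OrthUnitaryTransvection.act_one, vec_add_self]
      exact Submodule.zero_mem _)
    obtain ⟨e, f, hfr, he⟩ := ih (k + 1) (by omega) (Fin.snoc t v) (fun i j => by
      refine Fin.lastCases ?_ (fun i => ?_) i <;> refine Fin.lastCases ?_ (fun j => ?_) j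
      · simpa using hvv
      · simpa using hvt j
      · simpa using h_comm_zero (hvt i)
      · simpa using htt i j) (linearIndependent_finSnoc.mpr ⟨hli, hnv⟩)
    exact ⟨e, f, hfr, fun i => by simpa using he i.castSucc⟩

theorem involution_mem_plane {t : Cfsg.SU 6 F 2} (ht : t * t = 1) :
    ∃ e f, Frame e f ∧ t ∈ P e := by
  classical
  obtain ⟨l, u, x, hu, horth, hdual, hprod, -⟩ := decompose ht
  have hb : LinearIndependent F (Sum.elim u x) := by
    rw [Fintype.linearIndependent_iff]
    intro c hc
    rw [Fintype.sum_sum_type] at hc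
    simp only [Sum.elim_inl, Sum.elim_inr] at hc
    have hx : ∀ j, c (Sum.inr j) = 0 := fun j => by
      have := congrArg (fun w => h w (u j)) hc
      simpa [h_add_left, h_sum_left, h_zero_left, horth, hdual] using this
    have hu' : ∀ j, c (Sum.inl j) = 0 := fun j => by
      have := congrArg (fun w => h (x j) w) hc
      simp only [hx, zero_smul, Finset.sum_const_zero, add_zero, h_zero_right, h_sum_right] at this
      simpa [hdual, ite_mul] using this
    rintro (i | i)
    exacts [hu' i, hx i]
  have hl : l ≤ 3 := by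
    have := hb.fintype_card_le_finrank
    rw [Fintype.card_sum, Fintype.card_fin, Module.finrank_pi, Fintype.card_fin] at this
    omega
  have hli : LinearIndependent F u := hb.comp Sum.inl Sum.inl_injective
  obtain ⟨e, f, hfr, he⟩ := extend (3 - l) l (by omega) u horth hli
  refine ⟨e, f, hfr, ?_⟩
  rw [← hprod]
  refine Subgroup.list_prod_mem _ fun g hg => ?_
  obtain ⟨i, rfl⟩ := List.mem_ofFn.mp hg
  obtain ⟨c, hc⟩ := (Submodule.mem_span_range_iff_exists_fun F).mp (he i)
  have hc' : comb e c = u i := hc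
  have := T_mem hfr c
  rwa [T_congr hc' _ (hu i)] at this

theorem exists_plane (X : Cov z θ) {x : C} (hx : x * x = 1) : ∃ e f, Frame e f ∧ x ∈ Eh θ e := by
  obtain ⟨g, hg, eg⟩ := lift_sq (F := F) (u := θ x) (by rw [← map_mul, hx, map_one])
  obtain ⟨e, f, hfr, he⟩ := involution_mem_plane hg
  exact ⟨e, f, hfr, mem_Eh.mpr ⟨g, he, eg⟩⟩

end Cfsg.Agent.Unit62Exist55
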