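import Cfsg.Agent.Lib.Fi22Conn80
import Cfsg.Agent.Lib.Fi22RecogWebGeo11
import Cfsg.Agent.Lib.Unit62Exist55

/-!
# The local facts of the connectivity theorem in charts `PSU₆(2)`

For members whose neighbours are the points of the Hermitian polar space of dimension six over the field of
four elements: products of two or three commuting members are no members, the common neighbour facts hold,
and four suitable members give no product of two.
-/

set_option autoImplicit false
set_option linter.unusedSectionVars false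

namespace Cfsg.Agent.Fi22ConnChart80

open Subgroup Cfsg.Agent.ThreeTransDescent Cfsg.Agent.UnitaryF4Geo Cfsg.Agent.Fi22RecogWebGeo11
open Cfsg.Agent.Fi22Conn80 (CN)
open Cfsg.Agent.ThreeTransM22Frame72 (exists_duals exists_alpha exists_iso_perp)

variable {F : Type} [Field F] [Fintype F] [hF : FourField F]
variable {G : Type*} [Group G] {D : Set G} {a : G} {L : (Fin 6 → F) → G}

theorem tv_iso {u v : Fin 6 → F} (hu : h u u = 0) (hv : h v v = 0) : h (tv u v) (tv u v) = 0 := by
  rw [tv_isom hu, hv]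

theorem tv_ne {u v : Fin 6 → F} (hu : h u u = 0) (hv0 : v ≠ 0) : tv u v ≠ 0 := fun e =>
  hv0 (by rw [← tv_tv hu v, e, map_zero])

theorem conjL (Y : Pts D a L) (hsq : ∀ x ∈ D, x * x = 1) {u v : Fin 6 → F} (hu : h u u = 0)
    (hu0 : u ≠ 0) (hv : h v v = 0) (hv0 : v ≠ 0) : L u * L v * (L u)⁻¹ = L (tv u v) := by
  rw [inv_eq_of_mul_eq_one_right (hsq _ (Y.mem hu hu0).1), Y.tconj hu hu0 hv hv0]
  rfl

theorem perp_ne (Y : Pts D a L) {u v : Fin 6 → F} (hu : h u u = 0) (hu0 : u ≠ 0) (hv : h v v = 0)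
    (hv0 : v ≠ 0) {z : Fin 6 → F} (h1 : h u z = 0) (h2 : h v z ≠ 0) : L u ≠ L v := by
  intro e
  obtain ⟨c, hc, rfl⟩ := Y.inj hu hu0 hv hv0 e
  rw [h_smul_left] at h1
  exact h2 ((mul_eq_zero.mp h1).resolve_left hc)

/-- Two points are independent when their members differ. -/
theorem pair_indep (Y : Pts D a L) {u v : Fin 6 → F} (hu : h u u = 0) (hu0 : u ≠ 0) (hv : h v v = 0)
    (hv0 : v ≠ 0) (hne : L u ≠ L v) : LinearIndependent F ![u, v] := by
  rw [LinearIndependent.pair_iff' hu0]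
  intro c hc
  subst hc
  exact hne (Y.smul hu hu0 fun e => hv0 (by rw [e, zero_smul])).symm

/-- An isotropic vector dual to the member `j` of an isotropic family. -/
theorem exists_iso_duals {k : ℕ} {s : Fin k → Fin 6 → F} (hs : LinearIndependent F s)
    (hss : ∀ i j, h (s i) (s j) = 0) :
    ∃ g : Fin k → Fin 6 → F, (∀ i, h (g i) (g i) = 0) ∧
      ∀ i j, h (g i) (s j) = if i = j then 1 else 0 := by
  obtain ⟨x, hx⟩ := exists_duals hs
  have : ∀ i, ∃ α : F, h (x i + α • s i) (x i + α • s i) = 0 := fun i =>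
    exists_alpha (hss i i) (by rw [hx, if_pos rfl])
  choose α hα using this
  refine ⟨fun i => x i + α i • s i, hα, fun i j => ?_⟩
  rw [h_add_left, h_smul_left, hss, mul_zero, add_zero, hx]

/-- Equal action on the points of an involutive map with `g ↦ g + s` forces the scalar one. -/
theorem scalar_one (Y : Pts D a L) {M : (Fin 6 → F) →ₗ[F] (Fin 6 → F)} (hMM : ∀ v, M (M v) = v)
    (hM : ∀ v w, h (M v) (M w) = h v w) {g s : Fin 6 → F} (hg : h g g = 0) (hs : h s s = 0)
    (hgs : h g s = 1) (eg : L (M g) = L (g + s)) (es : L (M s) = L s) : M g = g + s := by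
  have hg0 : g ≠ 0 := fun e => by rw [e, h_zero_left] at hgs; exact zero_ne_one hgs
  have hs0 : s ≠ 0 := fun e => by rw [e, h_zero_right] at hgs; exact zero_ne_one hgs
  have hne : ∀ v, v ≠ 0 → M v ≠ 0 := fun v hv e => hv (by rw [← hMM v, e, map_zero])
  have hgs' : h (g + s) (g + s) = 0 := by
    simp only [h_add_left, h_add_right, hg, hs, hgs, h_comm_one hgs]
    linear_combination two_eq_zero (F := F)
  have hgs0 : g + s ≠ 0 := fun e => by
    rw [vec_eq_of_add e, hs] at hgs; exact zero_ne_one hgs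
  obtain ⟨c, hc, ec⟩ := Y.inj (by rw [hM, hg]) (hne g hg0) hgs' hgs0 eg
  obtain ⟨d, hd, ed⟩ := Y.inj (by rw [hM, hs]) (hne s hs0) hs hs0 es
  have e : g = c • (c • (g + s) + d • s) := by
    conv_lhs => rw [← hMM g, ec, map_smul, map_add, ec, ed]
  have := congrArg (fun z => h z s) e
  simp only [h_smul_left, h_add_left, hs, hgs, mul_zero, mul_one, add_zero] at this
  have hc1 : c = 1 := by
    have : (c + 1) * (c + 1) = 0 := by linear_combination this.symm + (c + 1) * two_eq_zero (F := F)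
    exact eq_of_add_eq_zero (mul_self_eq_zero.mp this)
  rw [ec, hc1, one_smul]

theorem tv_sum {p q v : Fin 6 → F} (hqp : h q p = 0) :
    tv p (tv q v) = v + (h v q • q + h v p • p) := by
  rw [tv_apply, tv_apply, h_add_left, h_smul_left, hqp, mul_zero, add_zero, add_assoc]

theorem add_left_cancel' {x y z : Fin 6 → F} (e : x + y = x + z) : y = z := add_left_cancel e

/-- The product of two commuting members is no member. -/
theorem noPair (Y : Pts D a L) (hsq : ∀ x ∈ D, x * x = 1) (hone : (1 : G) ∉ D) (ha : a ∈ D) {t : G}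
    (ht : t ∈ near D a) : a * t ∉ D := by
  intro hs
  have hsa : a * t ≠ a := fun e =>
    hone (mul_left_cancel (a := a) (e.trans (mul_one a).symm) ▸ ht.1)
  obtain ⟨v, hv, hv0, ev⟩ := Y.surj (x := a * t)
    ⟨hs, hsa, (Commute.refl a).mul_right ht.2.2⟩
  obtain ⟨u, hu, hu0, eu⟩ := Y.surj ht
  obtain ⟨g, hg, hgs⟩ := exists_iso_duals (s := ![u]) (LinearIndependent.of_subsingleton 0 hu0)
    (fun i j => by fin_cases i; fin_cases j; exact hu)
  have hgu : h (g 0) u = 1 := by simpa using hgs 0 0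
  have hact : ∀ z, h z z = 0 → z ≠ 0 → L (tv v z) = L (tv u z) := by
    intro z hz hz0
    rw [← conjL Y hsq hv hv0 hz hz0, ← conjL Y hsq hu hu0 hz hz0, ev, eu]
    have hc : Commute a (t * L z * t⁻¹) := by
      have := (Commute.conj_iff t).mpr (Y.mem hz hz0).2.2
      rwa [← ht.2.2.eq, mul_inv_cancel_right] at this
    calc a * t * L z * (a * t)⁻¹ = a * (t * L z * t⁻¹) * a⁻¹ := by group
      _ = t * L z * t⁻¹ := by rw [hc.eq, mul_inv_cancel_right]
  have hg0 : g 0 ≠ 0 := fun e => by rw [e, h_zero_left] at hgu; exact zero_ne_one hgu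
  have e1 : tv u (g 0) = g 0 + u := by rw [tv_apply, hgu, one_smul]
  have e2 : tv u u = u := tv_fix hu
  have key := scalar_one Y (M := tv v) (tv_tv hv) (tv_isom hv) (hg 0) hu hgu
    ((hact _ (hg 0) hg0).trans (by rw [e1])) ((hact _ hu hu0).trans (by rw [e2]))
  rw [tv_apply] at key
  have key' := add_left_cancel' key
  have hc : h (g 0) v ≠ 0 := fun e => hu0 (by rw [← key', e, zero_smul])
  have : L u = L v := by rw [← key', Y.smul hv hv0 hc]
  rw [eu, ev] at this
  exact hone (mul_right_cancel (b := t) (this.symm.trans (one_mul t).symm) ▸ ha)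

/-- The product of three commuting members is no member. -/
theorem noTriple (Y : Pts D a L) (hsq : ∀ x ∈ D, x * x = 1) (ha : a ∈ D) {t f : G}
    (ht : t ∈ near D a) (hf : f ∈ CN D a t) : f * (a * t) ∉ D := by
  intro hs
  have hsa : f * (a * t) ≠ a := fun e => by
    rw [ht.2.2.eq, ← mul_assoc] at e
    have e' : f * t = 1 := mul_right_cancel (b := a) (by rw [e, one_mul])
    exact hf.2.2.1 (by rw [mul_eq_one_iff_eq_inv.mp e', inv_eq_of_mul_eq_one_right (hsq t ht.1)])
  obtain ⟨v, hv, hv0, ev⟩ := Y.surj (x := f * (a * t))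
    ⟨hs, hsa, hf.1.2.2.mul_right ((Commute.refl a).mul_right ht.2.2)⟩
  obtain ⟨u, hu, hu0, eu⟩ := Y.surj ht
  obtain ⟨w, hw, hw0, ew⟩ := Y.surj hf.1
  have huw : h u w = 0 := (Y.comm hu hu0 hw hw0).mp (by rw [eu, ew]; exact hf.2.2.2)
  have hli := pair_indep Y hu hu0 hw hw0 (by rw [eu, ew]; exact hf.2.2.1.symm)
  obtain ⟨g, hg, hgs⟩ := exists_iso_duals hli (fun i j => by
    fin_cases i <;> fin_cases j <;> simp [hu, hw, huw, h_comm_zero huw])
  have hact : ∀ z, h z z = 0 → z ≠ 0 → L (tv v z) = L (tv w (tv u z)) := by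
    intro z hz hz0
    rw [← conjL Y hsq hv hv0 hz hz0,
      ← conjL Y hsq hw hw0 (tv_iso hu hz) (tv_ne hu hz0), ← conjL Y hsq hu hu0 hz hz0, ev, eu, ew]
    have hc : Commute a (t * L z * t⁻¹) := by
      have := (Commute.conj_iff t).mpr (Y.mem hz hz0).2.2
      rwa [← ht.2.2.eq, mul_inv_cancel_right] at this
    calc f * (a * t) * L z * (f * (a * t))⁻¹ = f * (a * (t * L z * t⁻¹) * a⁻¹) * f⁻¹ := by group
      _ = f * (t * L z * t⁻¹) * f⁻¹ := by rw [hc.eq, mul_inv_cancel_right]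
  have hspan : ∀ i, ∃ c : F, ![u, w] i = c • v := by
    intro i
    refine ⟨h (g i) v, ?_⟩
    have hgi : h (g i) (![u, w] i) = 1 := by rw [hgs, if_pos rfl]
    have hg0 : g i ≠ 0 := fun e => by rw [e, h_zero_left] at hgi; exact zero_ne_one hgi
    have e1 : tv w (tv u (g i)) = g i + ![u, w] i := by
      rw [tv_sum huw]
      have h0 : h (g i) u = if i = 0 then 1 else 0 := hgs i 0
      have h1 : h (g i) w = if i = 1 then 1 else 0 := hgs i 1
      rw [h0, h1]
      fin_cases i <;> simp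
    have e2 : tv w (tv u (![u, w] i)) = ![u, w] i := by
      have h0 : h (![u, w] i) u = 0 := by fin_cases i <;> simp [hu, h_comm_zero huw]
      have h1 : h (![u, w] i) w = 0 := by fin_cases i <;> simp [hw, huw]
      rw [tv_fix h0, tv_fix h1]
    have hsi : h (![u, w] i) (![u, w] i) = 0 := by fin_cases i <;> simp [hu, hw]
    have hs0 : ![u, w] i ≠ 0 := hli.ne_zero i
    have key := scalar_one Y (M := tv v) (tv_tv hv) (tv_isom hv) (hg i) hsi hgi
      ((hact _ (hg i) hg0).trans (by rw [e1])) ((hact _ hsi hs0).trans (by rw [e2]))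
    rw [tv_apply] at key
    exact (add_left_cancel' key).symm
  obtain ⟨c, hc⟩ := hspan 0
  obtain ⟨d, hd⟩ := hspan 1
  simp only [Matrix.cons_val_zero, Matrix.cons_val_one] at hc hd
  have hc0 : c ≠ 0 := fun e => hu0 (by rw [hc, e, zero_smul])
  have hd0 : d ≠ 0 := fun e => hw0 (by rw [hd, e, zero_smul])
  exact hf.2.2.1 (by rw [← ew, ← eu, hc, hd, Y.smul hv hv0 hc0, Y.smul hv hv0 hd0])

/-- Two members near `a` have a common neighbour near both. -/
theorem common (Y : Pts D a L) {t t' : G} (ht : t ∈ near D a) (ht' : t' ∈ near D a) :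
    ∃ f ∈ CN D a t, f ∈ near D t' := by
  obtain ⟨u, hu, hu0, rfl⟩ := Y.surj ht
  obtain ⟨v, hv, hv0, rfl⟩ := Y.surj ht'
  obtain ⟨p, -, hp⟩ := exists_h_eq_one hu0
  obtain ⟨q, -, hq⟩ := exists_h_eq_one hv0
  obtain ⟨z, hzu, hzv⟩ : ∃ z, h u z ≠ 0 ∧ h v z ≠ 0 := by
    by_cases h1 : h v p = 0
    · by_cases h2 : h u q = 0
      · exact ⟨p + q, by rw [h_add_right, hp, h2, add_zero]; exact one_ne_zero,
          by rw [h_add_right, hq, h1, zero_add]; exact one_ne_zero⟩
      · exact ⟨q, h2, by rw [hq]; exact one_ne_zero⟩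
    · exact ⟨p, by rw [hp]; exact one_ne_zero, h1⟩
  obtain ⟨f, hf0, hff, hf⟩ := exists_iso_perp (m := 3) (by norm_num) ![u, v, z]
  have hfu : h f u = 0 := hf 0
  have hfv : h f v = 0 := hf 1
  have hfz : h f z = 0 := hf 2
  exact ⟨L f, ⟨Y.mem hff hf0, (Y.mem hff hf0).1, perp_ne Y hff hf0 hu hu0 hfz hzu,
      (Y.comm hu hu0 hff hf0).mpr (h_comm_zero hfu)⟩, (Y.mem hff hf0).1,
    perp_ne Y hff hf0 hv hv0 hfz hzv, (Y.comm hv hv0 hff hf0).mpr (h_comm_zero hfv)⟩

/-- A further common neighbour separating two non-commuting ones. -/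
theorem shift (Y : Pts D a L) {t f f' : G} (ht : t ∈ near D a) (hf : f ∈ CN D a t)
    (hf' : f' ∈ CN D a t) (hn : ¬ Commute f f') :
    ∃ g ∈ CN D a t, g ≠ f ∧ Commute g f ∧ ¬ Commute g f' := by
  obtain ⟨u, hu, hu0, rfl⟩ := Y.surj ht
  obtain ⟨v, hv, hv0, rfl⟩ := Y.surj hf.1
  obtain ⟨w, hw, hw0, rfl⟩ := Y.surj hf'.1
  have huv : h u v = 0 := (Y.comm hu hu0 hv hv0).mp hf.2.2.2
  have huw : h u w = 0 := (Y.comm hu hu0 hw hw0).mp hf'.2.2.2
  have hvw : h v w ≠ 0 := fun e => hn ((Y.comm hv hv0 hw hw0).mpr e)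
  have hgw : h (u + v) w ≠ 0 := by rwa [h_add_left, huw, zero_add]
  have hg0 : u + v ≠ 0 := fun e => hgw (by rw [e, h_zero_left])
  have hgg : h (u + v) (u + v) = 0 := by
    simp only [h_add_left, h_add_right, hu, hv, huv, h_comm_zero huv, add_zero]
  have hgu : L (u + v) ≠ L u := (perp_ne Y hu hu0 hgg hg0 huw hgw).symm
  have hgv : L (u + v) ≠ L v := by
    intro e
    obtain ⟨c, -, ec⟩ := Y.inj hgg hg0 hv hv0 e
    have hu' : u = (c + 1) • v := by
      rw [add_smul, one_smul, ← ec, add_assoc, vec_add_self, add_zero]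
    have hk : c + 1 ≠ 0 := fun e => hu0 (by rw [hu', e, zero_smul])
    rw [hu', h_smul_left] at huw
    exact hvw ((mul_eq_zero.mp huw).resolve_left hk)
  refine ⟨L (u + v), ⟨Y.mem hgg hg0, (Y.mem hgg hg0).1, hgu, ?_⟩, hgv, ?_, ?_⟩
  · exact (Y.comm hu hu0 hgg hg0).mpr (by rw [h_add_right, hu, huv, add_zero])
  · exact (Y.comm hgg hg0 hv hv0).mpr (by rw [h_add_left, huv, hv, add_zero])
  · exact fun e => hgw ((Y.comm hgg hg0 hw hw0).mp e)

/-- An element of odd order centralizing the cone at `t` centralizes all neighbours of `a`. -/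
theorem cone (Y : Pts D a L) (hsq : ∀ x ∈ D, x * x = 1) (hconj : ∀ g : G, ∀ x ∈ D, g * x * g⁻¹ ∈ D)
    {t k : G} (ht : t ∈ near D a) (hk : Odd (orderOf k)) (hka : Commute k a) (hkt : Commute k t)
    (hcn : ∀ f ∈ CN D a t, Commute k f) : ∀ y ∈ near D a, Commute y k := by
  intro y hy
  obtain ⟨u, hu, hu0, rfl⟩ := Y.surj ht
  by_cases hyt : y = L u
  · subst hyt; exact hkt.symm
  by_cases hyc : Commute (L u) y
  · exact (hcn y ⟨hy, hy.1, hyt, hyc⟩).symm
  obtain ⟨v₀, hv₀, hv₀0, rfl⟩ := Y.surj hy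
  have huv₀ : h u v₀ ≠ 0 := fun e => hyc ((Y.comm hu hu0 hv₀ hv₀0).mpr e)
  -- normalize to a hyperbolic pair
  obtain ⟨v, hvdef⟩ : ∃ v, v = h u v₀ • v₀ := ⟨_, rfl⟩
  have hv : h v v = 0 := by rw [hvdef, h_smul_left, h_smul_right, hv₀, mul_zero, mul_zero]
  have hv0 : v ≠ 0 := hvdef ▸ smul_ne_zero huv₀ hv₀0
  have hLv : L v = L v₀ := by rw [hvdef]; exact Y.smul hv₀ hv₀0 huv₀
  have H : Hyp u v := ⟨hu, hv, by
    rw [hvdef, h_smul_right, show h u v₀ ^ 2 * h u v₀ = h u v₀ ^ 3 by ring, cube huv₀]⟩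
  rw [← hLv]
  have key : ∀ k' : G, Commute k' a → Commute k' (L u) → (∀ f ∈ CN D a (L u), Commute k' f) →
      k' * L v * k'⁻¹ = L v ∨ k' * L v * k'⁻¹ = L u * L v * L u := by
    intro k' hka hkt hcn
    have hm : k' * L v * k'⁻¹ ∈ near D a := by
      refine ⟨hconj k' _ (Y.mem hv hv0).1, fun e => (Y.mem hv hv0).2.1 ?_, ?_⟩
      · have : k' * L v * k'⁻¹ = k' * a * k'⁻¹ := by rw [e, hka.eq, mul_inv_cancel_right]
        exact mul_left_cancel (mul_right_cancel this)
      · have := (Commute.conj_iff k').mpr (Y.mem hv hv0).2.2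
        rwa [hka.eq, mul_inv_cancel_right] at this
    obtain ⟨w, hw, hw0, ew⟩ := Y.surj hm
    have hperp : ∀ g, h g u = 0 → h g v = 0 → h g w = 0 := by
      intro g hgu hgv
      refine H.induction (by norm_num) (P := fun g => h g w = 0) (fun g hgu hgv hgg => ?_)
        (fun g g' _ _ _ _ e e' => by rw [h_add_left, e, e', add_zero]) hgu hgv
      by_cases hg0 : g = 0
      · subst hg0; exact h_zero_left _
      have hne : L g ≠ L u := perp_ne Y hgg hg0 hu hu0 hgv (by rw [H.pq]; exact one_ne_zero)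
      have hfk := hcn _ ⟨Y.mem hgg hg0, (Y.mem hgg hg0).1, hne,
        (Y.comm hu hu0 hgg hg0).mpr (h_comm_zero hgu)⟩
      refine (Y.comm hgg hg0 hw hw0).mp ?_
      have := (Commute.conj_iff k').mpr ((Y.comm hgg hg0 hv hv0).mpr hgv)
      rwa [hfk.eq, mul_inv_cancel_right, ← ew] at this
    have hdec : proj u v w = 0 := eq_zero_of_h fun x => by
      have h1 : h (proj u v x) w = 0 := hperp _ (H.proj_p x) (H.proj_q x)
      have h2 : h (proj u v x) (proj u v w) = 0 := by
        rw [show proj u v w = w + h w v • u + h w u • v from rfl, h_add_right, h_add_right,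
          h_smul_right, h_smul_right, h1, H.proj_p, H.proj_q, mul_zero, mul_zero, add_zero, add_zero]
      rw [proj_decomp u v x, h_add_right, h_add_right, h_smul_right, h_smul_right, H.proj_p,
        H.proj_q, mul_zero, mul_zero, add_zero, zero_add]
      exact h_comm_zero h2
    have hdw : w = h w v • u + h w u • v := by
      conv_lhs => rw [proj_decomp u v w, hdec, add_zero]
    set A := h w v with hA
    set B := h w u with hB
    have hB0 : B ≠ 0 := by
      intro e
      have h1 : Commute (L w) (L u) := (Y.comm hw hw0 hu hu0).mpr e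
      rw [ew] at h1
      have h2 : Commute (k' * L v * k'⁻¹) (k' * L u * k'⁻¹) := by
        rwa [hkt.eq, mul_inv_cancel_right]
      have h3 := (Y.comm hv hv0 hu hu0).mp ((Commute.conj_iff k').mp h2)
      rw [H.qp] at h3
      exact one_ne_zero h3
    have hiso : A * B * (A + B) = 0 := by
      have := hw
      rw [hdw] at this
      simp only [h_add_left, h_add_right, h_smul_left, h_smul_right, hu, hv, H.pq, H.qp] at this
      linear_combination this
    rcases mul_eq_zero.mp hiso with h' | h'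
    · left
      rw [← ew, hdw, (mul_eq_zero.mp h').resolve_right hB0, zero_smul, zero_add, Y.smul hv hv0 hB0]
    · right
      rw [← ew, hdw, eq_of_add_eq_zero h', ← smul_add, Y.smul (by
        simp only [h_add_left, h_add_right, hu, hv, H.pq, H.qp]
        linear_combination two_eq_zero (F := F)) (fun e => by
        rw [vec_eq_of_add e] at hu0 H; exact one_ne_zero (H.pq.symm.trans hv)) hB0,
        Y.tconj hu hu0 hv hv0, H.qp, one_smul, add_comm]
  rcases key k hka hkt hcn with e | e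
  · exact (mul_inv_eq_iff_eq_mul.mp e).symm
  · refine ((Fi22Conn80.commute_of_sq hk ?_)).symm
    show k * k * L v = L v * (k * k)
    have h2 : k * (L u * L v * L u) * k⁻¹ = L v := by
      calc k * (L u * L v * L u) * k⁻¹
          = (k * L u * k⁻¹) * (k * L v * k⁻¹) * (k * L u * k⁻¹) := by group
        _ = L u * (L u * L v * L u) * L u := by rw [hkt.eq, mul_inv_cancel_right, e]
        _ = (L u * L u) * L v * (L u * L u) := by group
        _ = L v := by rw [hsq _ ht.1, one_mul, mul_one]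
    calc k * k * L v = k * (k * L v * k⁻¹) * k⁻¹ * (k * k) := by group
      _ = L v * (k * k) := by rw [e, h2]

/-- An isotropic vector orthogonal to an isotropic orthogonal pair, outside their span. -/
theorem exists_outside {u v : Fin 6 → F} (hu : h u u = 0) (hv : h v v = 0) (huv : h u v = 0) :
    ∃ z, h z z = 0 ∧ h z u = 0 ∧ h z v = 0 ∧ z ∉ Submodule.span F (Set.range ![u, v]) := by
  have hB : Unit62Flag55.Elem (⊥ : Subgroup (Cfsg.SU 6 F 2)) := fun g hg => by
    rw [Subgroup.mem_bot] at hg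
    subst hg
    exact ⟨one_mul 1, fun k _ => by simp⟩
  obtain ⟨z, hzz, hzt, hnz, -⟩ := Unit62Flag55.grow hB (le_refl 2) ![u, v]
    (fun i j => by fin_cases i <;> fin_cases j <;> simp [hu, hv, huv, h_comm_zero huv])
    (fun g hg i => by
      rw [Subgroup.mem_bot] at hg
      rw [hg, OrthUnitaryTransvection.act_one, vec_add_self]
      exact Submodule.zero_mem _)
  exact ⟨z, hzz, hzt 0, hzt 1, hnz⟩

/-- In a chart at `u` three pairwise commuting members not on one line act as no product of two. -/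
theorem three_ne_two {u : G} {M : (Fin 6 → F) → G} (Z : Pts D u M) (hsq : ∀ x ∈ D, x * x = 1)
    {v : Fin 3 → Fin 6 → F} (hv : LinearIndependent F v) (hvv : ∀ i j, h (v i) (v j) = 0)
    {p q : G} (hp : p ∈ near D u) (hq : q ∈ near D u) (hpq : Commute p q) :
    u * (M (v 0) * M (v 1) * M (v 2)) ≠ p * q := by
  intro e
  obtain ⟨P, hP, hP0, eP⟩ := Z.surj hp
  obtain ⟨Q, hQ, hQ0, eQ⟩ := Z.surj hq
  have hQP : h Q P = 0 := (Z.comm hQ hQ0 hP hP0).mp (by rw [eP, eQ]; exact hpq.symm)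
  have hv0 : ∀ i, v i ≠ 0 := hv.ne_zero
  have hact : ∀ z, h z z = 0 → z ≠ 0 →
      M (tv P (tv Q z)) = M (tv (v 0) (tv (v 1) (tv (v 2) z))) := by
    intro z hz hz0
    have i2 := tv_iso (hvv 2 2) hz
    have n2 := tv_ne (hvv 2 2) hz0
    rw [← conjL Z hsq hP hP0 (tv_iso hQ hz) (tv_ne hQ hz0), ← conjL Z hsq hQ hQ0 hz hz0,
      ← conjL Z hsq (hvv 0 0) (hv0 0) (tv_iso (hvv 1 1) i2) (tv_ne (hvv 1 1) n2),
      ← conjL Z hsq (hvv 1 1) (hv0 1) i2 n2, ← conjL Z hsq (hvv 2 2) (hv0 2) hz hz0, eP, eQ]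
    set A := M (v 0) * M (v 1) * M (v 2) with hA
    have hc : Commute u (A * M z * A⁻¹) := by
      have hAu : Commute u A := (((Z.mem (hvv 0 0) (hv0 0)).2.2).mul_right
        (Z.mem (hvv 1 1) (hv0 1)).2.2).mul_right (Z.mem (hvv 2 2) (hv0 2)).2.2
      exact (hAu.mul_right (Z.mem hz hz0).2.2).mul_right hAu.inv_right
    calc p * (q * M z * q⁻¹) * p⁻¹ = (p * q) * M z * (p * q)⁻¹ := by group
      _ = (u * A) * M z * (u * A)⁻¹ := by rw [← e]
      _ = u * (A * M z * A⁻¹) * u⁻¹ := by group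
      _ = A * M z * A⁻¹ := by rw [hc.eq, mul_inv_cancel_right]
      _ = _ := by rw [hA]; group
  obtain ⟨g, hg, hgs⟩ := exists_iso_duals hv hvv
  have hspan : Set.range v ⊆ Submodule.span F ({P, Q} : Set (Fin 6 → F)) := by
    rintro _ ⟨i, rfl⟩
    have hgi : h (g i) (v i) = 1 := by rw [hgs, if_pos rfl]
    have hg0 : g i ≠ 0 := fun e => by rw [e, h_zero_left] at hgi; exact zero_ne_one hgi
    have hMM : ∀ z, ((tv P).comp (tv Q)) (((tv P).comp (tv Q)) z) = z := fun z => by
      simp only [LinearMap.comp_apply]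
      rw [tv_conj (tv Q) (tv_isom hQ) P (tv Q z), tv_tv hQ, tv_fix (u := Q) (v := P) (h_comm_zero hQP),
        tv_tv hP]
    have e1 : tv (v 0) (tv (v 1) (tv (v 2) (g i))) = g i + v i := by
      rw [tv_apply (v 2), tv_apply (v 1), tv_apply (v 0)]
      simp only [h_add_left, h_smul_left, hvv, mul_zero, add_zero, hgs]
      fin_cases i <;> simp
    have e2 : tv (v 0) (tv (v 1) (tv (v 2) (v i))) = v i := by
      rw [tv_fix (hvv i 2), tv_fix (hvv i 1), tv_fix (hvv i 0)]
    have key := scalar_one Z (M := (tv P).comp (tv Q)) hMM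
      (fun z z' => by simp only [LinearMap.comp_apply]; rw [tv_isom hP, tv_isom hQ])
      (hg i) (hvv i i) hgi ((hact _ (hg i) hg0).trans (by show M _ = M _; rw [e1]))
      ((hact _ (hvv i i) (hv0 i)).trans (by show M _ = M _; rw [e2]))
    rw [LinearMap.comp_apply, tv_sum hQP] at key
    rw [← add_left_cancel' key]
    exact add_mem (Submodule.smul_mem _ _ (Submodule.subset_span (by simp)))
      (Submodule.smul_mem _ _ (Submodule.subset_span (by simp)))
  have h1 := Submodule.finrank_mono (Submodule.span_le.mpr hspan)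
  rw [finrank_span_eq_card hv] at h1
  have h2 : Module.finrank F (Submodule.span F (Set.range ![P, Q])) ≤ 2 := by
    simpa [Set.finrank] using finrank_range_le_card (R := F) ![P, Q]
  rw [Matrix.range_cons, Matrix.range_cons, Matrix.range_empty, Set.union_empty,
    Set.singleton_union] at h2
  simp at h1
  omega

/-- A fourth member near three commuting ones with which their product is no product of two. -/
theorem four (hweb : Web D F) (hsq : ∀ x ∈ D, x * x = 1) (ha : a ∈ D) {t w : G}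
    (ht : t ∈ near D a) (hw : w ∈ CN D a t) :
    ∃ u ∈ D, Commute u a ∧ Commute u t ∧ Commute u w ∧
      ∀ p ∈ near D u, ∀ q ∈ near D u, Commute p q → u * (a * t * w) ≠ p * q := by
  obtain ⟨L, Y⟩ := hweb a ha
  obtain ⟨x, hx, hx0, rfl⟩ := Y.surj ht
  obtain ⟨y, hy, hy0, rfl⟩ := Y.surj hw.1
  have hxy : h x y = 0 := (Y.comm hx hx0 hy hy0).mp hw.2.2.2
  have hli := pair_indep Y hx hx0 hy hy0 hw.2.2.1.symm
  obtain ⟨z, hz, hzx, hzy, hnz⟩ := exists_outside hx hy hxy
  have hz0 : z ≠ 0 := fun e => hnz (e ▸ Submodule.zero_mem _)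
  set u := L z with hu
  have huD := Y.mem hz hz0
  have hua : Commute u a := huD.2.2.symm
  have hut : Commute u (L x) := (Y.comm hz hz0 hx hx0).mpr hzx
  have huw : Commute u (L y) := (Y.comm hz hz0 hy hy0).mpr hzy
  refine ⟨u, huD.1, hua, hut, huw, fun p hp q hq hpq => ?_⟩
  have hne_t : u ≠ L x := fun e => by
    obtain ⟨c, -, hc⟩ := Y.inj hz hz0 hx hx0 e
    exact hnz (hc ▸ Submodule.smul_mem _ _ (Submodule.subset_span ⟨0, rfl⟩))
  have hne_w : u ≠ L y := fun e => by
    obtain ⟨c, -, hc⟩ := Y.inj hz hz0 hy hy0 e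
    exact hnz (hc ▸ Submodule.smul_mem _ _ (Submodule.subset_span ⟨1, rfl⟩))
  -- a member near `u`, `a`, `t` which does not commute with `w`
  have hli3 : LinearIndependent F ![x, z, y] := by
    have h3 : LinearIndependent F (Fin.snoc ![x, y] z : Fin 3 → Fin 6 → F) :=
      linearIndependent_finSnoc.mpr ⟨hli, hnz⟩
    have h4 := h3.comp ![0, 2, 1] (by decide)
    convert h4 using 1
    funext i
    fin_cases i <;> rfl
  obtain ⟨g, hg, hgs⟩ := exists_iso_duals hli3 (fun i j => by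
    fin_cases i <;> fin_cases j <;>
      simp [hx, hy, hz, hxy, h_comm_zero hxy, hzx, h_comm_zero hzx, hzy, h_comm_zero hzy])
  have hgx : h (g 2) x = 0 := hgs 2 0
  have hgz : h (g 2) z = 0 := hgs 2 1
  have hgy : h (g 2) y = 1 := hgs 2 2
  have hg0 : g 2 ≠ 0 := fun e => by rw [e, h_zero_left] at hgy; exact zero_ne_one hgy
  have hrw : ¬ Commute (L (g 2)) (L y) := fun e =>
    one_ne_zero (hgy.symm.trans ((Y.comm (hg 2) hg0 hy hy0).mp e))
  have hrt : Commute (L (g 2)) (L x) := (Y.comm (hg 2) hg0 hx hx0).mpr hgx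
  have hru : Commute (L (g 2)) u := (Y.comm (hg 2) hg0 hz hz0).mpr hgz
  have hra : Commute (L (g 2)) a := (Y.mem (hg 2) hg0).2.2.symm
  have hrne : L (g 2) ≠ u := fun e => hrw (e ▸ huw)
  -- the chart at `u`
  obtain ⟨M, Z⟩ := hweb u huD.1
  obtain ⟨A, hA, hA0, eA⟩ := Z.surj (x := a) ⟨ha, huD.2.1.symm, hua⟩
  obtain ⟨T, hT, hT0, eT⟩ := Z.surj (x := L x) ⟨ht.1, hne_t.symm, hut⟩
  obtain ⟨W, hW, hW0, eW⟩ := Z.surj (x := L y) ⟨hw.1.1, hne_w.symm, huw⟩
  obtain ⟨R, hR, hR0, eR⟩ := Z.surj (x := L (g 2))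
    ⟨(Y.mem (hg 2) hg0).1, hrne, hru.symm⟩
  have hAT : h A T = 0 := (Z.comm hA hA0 hT hT0).mp (by rw [eA, eT]; exact ht.2.2)
  have hAW : h A W = 0 := (Z.comm hA hA0 hW hW0).mp (by rw [eA, eW]; exact hw.1.2.2)
  have hTW : h T W = 0 := (Z.comm hT hT0 hW hW0).mp (by rw [eT, eW]; exact hw.2.2.2)
  have hRA : h R A = 0 := (Z.comm hR hR0 hA hA0).mp (by rw [eR, eA]; exact hra)
  have hRT : h R T = 0 := (Z.comm hR hR0 hT hT0).mp (by rw [eR, eT]; exact hrt)
  have hRW : h R W ≠ 0 := fun e => hrw (by rw [← eR, ← eW]; exact (Z.comm hR hR0 hW hW0).mpr e)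
  have hli2 := pair_indep Z hA hA0 hT hT0 (by rw [eA, eT]; exact ht.2.1.symm)
  have hli' : LinearIndependent F ![A, T, W] := by
    have h3 : LinearIndependent F (Fin.snoc ![A, T] W : Fin 3 → Fin 6 → F) := by
      refine linearIndependent_finSnoc.mpr ⟨hli2, fun hm => hRW ?_⟩
      obtain ⟨c, hc⟩ := (Submodule.mem_span_range_iff_exists_fun F).mp hm
      rw [← hc, Fin.sum_univ_two, h_add_right, h_smul_right, h_smul_right]
      show c 0 ^ 2 * h R A + c 1 ^ 2 * h R T = 0
      rw [hRA, hRT, mul_zero, mul_zero, add_zero]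
    convert h3 using 1
    funext i
    fin_cases i <;> rfl
  have key := three_ne_two Z hsq hli' (fun i j => by
    fin_cases i <;> fin_cases j <;>
      simp [hA, hT, hW, hAT, h_comm_zero hAT, hAW, h_comm_zero hAW, hTW, h_comm_zero hTW]) hp hq hpq
  simp only [Matrix.cons_val_zero, Matrix.cons_val_one] at key
  rw [eA, eT] at key
  exact fun e => key (by rw [show (![A, T, W] : Fin 3 → Fin 6 → F) 2 = W from rfl, eW]; exact e)

end Cfsg.Agent.Fi22ConnChart80
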