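import Cfsg.Agent.Lib.ThreeTransM22Std72

/-!
# The centralizer of a member of a class of type M(22)

A maximal commuting set through which a Sylow 2-subgroup passes has 22 members, the local group acts on it
by even permutations and the field automorphism by odd ones; transfer of the sign shows that the
centralizer of a member is its local group.
-/

set_option autoImplicit false
set_option linter.unusedSectionVars false
set_option linter.style.haveILetI false

namespace Cfsg.Agent.ThreeTransM22Outer72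

open Subgroup Cfsg.Agent.ThreeTransRel Cfsg.Agent.ThreeTransDescent
open Cfsg.Agent.UnitaryF4Geo Cfsg.Agent.UnitaryF4Line Matrix
open Cfsg.Agent.ThreeTransM22Local72 Cfsg.Agent.ThreeTransM22Frame72 Cfsg.Agent.ThreeTransM22Lift72
open Cfsg.Agent.ThreeTransM22Std72
open Cfsg.Agent.ThreeTransM22Count72 (dvd_of_partition)

variable {G : Type*} [Group G] [Finite G] {D : Set G}

/-- A maximal set of pairwise commuting members. -/
structure Blk (D B : Set G) : Prop where
  sub : B ⊆ D
  comm : ∀ x ∈ B, ∀ y ∈ B, Commute x y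
  max : ∀ y ∈ D, (∀ x ∈ B, Commute y x) → y ∈ B

theorem Blk.conj (ht : TSys D) {B : Set G} (hB : Blk D B) (g : G) :
    Blk D (MulAut.conj g '' B) := by
  refine ⟨?_, ?_, fun y hy hall => ⟨g⁻¹ * y * g⁻¹⁻¹, ?_, by simp [mul_assoc]⟩⟩
  · rintro _ ⟨x, hx, rfl⟩; exact ht.conj g x (hB.sub hx)
  · rintro _ ⟨x, hx, rfl⟩ _ ⟨y, hy, rfl⟩; exact (Commute.conj_iff g).mpr (hB.comm x hx y hy)
  · refine hB.max _ (ht.conj g⁻¹ y hy) fun x hx => ?_
    have := (Commute.conj_iff g⁻¹).mpr (hall _ ⟨x, hx, rfl⟩)
    simpa [mul_assoc] using this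

/-- A member normalising a maximal set belongs to it. -/
theorem Blk.mem_of_stable (ht : TSys D) {B : Set G} (hB : Blk D B) {y : G} (hy : y ∈ D)
    (hst : ∀ x ∈ B, y * x * y⁻¹ ∈ B) : y ∈ B := by
  refine hB.max y hy fun x hx => ?_
  by_contra hn
  have h1 := hB.comm x hx _ (hst x hx)
  rw [ht.inv_self hy, ht.braid y hy x (hB.sub hx) hn] at h1
  apply hn
  have h2 : x * (x * y * x) * x = x * y * x := by
    rw [h1.eq, mul_assoc (x * y * x), ht.sq x (hB.sub hx), mul_one]
  rw [ThreeTransRel.TSys.conj_conj ht (hB.sub hx)] at h2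
  show y * x = x * y
  calc y * x = (x * y * x) * x := by rw [← h2]
    _ = x * y := by rw [mul_assoc, ht.sq x (hB.sub hx), mul_one]

/-- The number of maximal sets through a commuting set is odd. -/
theorem odd_blocks (ht : TSys D) : ∀ {T : Set G}, T ⊆ D → (∀ x ∈ T, ∀ y ∈ T, Commute x y) →
    {B : Set G | Blk D B ∧ T ⊆ B}.ncard % 2 = 1 := by
  intro T
  induction hm : (D \ T).ncard using Nat.strong_induction_on generalizing T with
  | _ m ih =>
    intro hT hc
    by_cases hmax : ∀ y ∈ D, (∀ x ∈ T, Commute y x) → y ∈ T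
    · have : {B : Set G | Blk D B ∧ T ⊆ B} = {T} := by
        ext B
        refine ⟨fun ⟨hB, hTB⟩ => Set.mem_singleton_iff.mpr (Set.Subset.antisymm (fun y hy =>
          hmax y (hB.sub hy) fun x hx => hB.comm y hy x (hTB hx)) hTB), ?_⟩
        rintro rfl
        exact ⟨⟨hT, hc, hmax⟩, subset_rfl⟩
      rw [this, Set.ncard_singleton]
    push Not at hmax
    obtain ⟨y, hy, hyc, hyT⟩ := hmax
    have hlt : (D \ insert y T).ncard < m := by
      rw [← hm]
      refine Set.ncard_lt_ncard ⟨Set.sdiff_subset_sdiff_right (Set.subset_insert _ _), fun hsub => ?_⟩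
        (Set.toFinite _)
      exact (hsub ⟨hy, hyT⟩).2 (Set.mem_insert _ _)
    have h1 := ih _ hlt rfl (Set.insert_subset hy hT) (by
      rintro a (rfl | ha) b (rfl | hb)
      · exact Commute.refl _
      · exact hyc b hb
      · exact (hyc a ha).symm
      · exact hc a ha b hb)
    have h2 : 2 ∣ ({B : Set G | Blk D B ∧ T ⊆ B} \ {B : Set G | Blk D B ∧ insert y T ⊆ B}).ncard := by
      refine dvd_of_partition 2 (fun B => {B, MulAut.conj y '' B}) fun B hB => ⟨by simp, ?_, ?_, ?_⟩
      · refine Set.insert_subset hB (Set.singleton_subset_iff.mpr ⟨⟨hB.1.1.conj ht y, fun x hx =>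
          ⟨x, hB.1.2 hx, mul_inv_eq_iff_eq_mul.mpr (hyc x hx).eq⟩⟩, fun h => hB.2 ⟨hB.1.1, ?_⟩⟩)
        obtain ⟨x, hx, e⟩ := h.2 (Set.mem_insert y T)
        have : x = y := mul_left_cancel ((mul_inv_eq_iff_eq_mul.mp e))
        exact Set.insert_subset (this ▸ hx) hB.1.2
      · rw [Set.ncard_pair fun h => hB.2 ⟨hB.1.1, Set.insert_subset
          (hB.1.1.mem_of_stable ht hy fun x hx => by rw [h]; exact ⟨x, hx, rfl⟩) hB.1.2⟩]
      · intro C hC
        rcases hC with rfl | rfl
        · rfl
        · have : MulAut.conj y '' (MulAut.conj y '' B) = B := by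
            rw [Set.image_image]
            convert Set.image_id B using 1
            exact congrArg (· '' B) (funext fun x => ThreeTransM22Count72.cg_cg (ht.sq y hy) x)
          rw [this]; exact Set.pair_comm _ _
    have h3 := Set.ncard_sdiff_add_ncard_of_subset (show {B : Set G | Blk D B ∧ insert y T ⊆ B} ⊆
      {B : Set G | Blk D B ∧ T ⊆ B} from fun B hB => ⟨hB.1, (Set.subset_insert _ _).trans hB.2⟩)
      (Set.toFinite _)
    omega

/-- Sign and fixed points of an involutory permutation. -/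
theorem sign_involution {α : Type*} [Fintype α] [DecidableEq α] (g : Equiv.Perm α)
    (h2 : g * g = 1) : ∃ k : ℕ, Fintype.card α = {x | g x = x}.ncard + 2 * k ∧
      Equiv.Perm.sign g = (-1) ^ k := by
  have hall : ∀ n ∈ g.cycleType, n = 2 := fun n hn => by
    have h1 := Equiv.Perm.two_le_of_mem_cycleType hn
    have h3 : n ∣ orderOf g := Equiv.Perm.dvd_of_mem_cycleType hn
    have h4 : orderOf g ∣ 2 := orderOf_dvd_of_pow_eq_one (by rw [pow_two, h2])
    have := Nat.le_of_dvd (by norm_num) (h3.trans h4)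
    omega
  have hrep := Multiset.eq_replicate_card.mpr hall
  refine ⟨Multiset.card g.cycleType, ?_, ?_⟩
  · have hs : g.cycleType.sum = 2 * Multiset.card g.cycleType := by
      conv_lhs => rw [hrep, Multiset.sum_replicate, smul_eq_mul, mul_comm]
    rw [← hs, Equiv.Perm.sum_cycleType]
    have : {x | g x = x}.ncard = (g.supportᶜ).card := by
      rw [← Set.ncard_coe_finset]
      congr 1
      ext x
      simp
    rw [this, Finset.card_compl]
    have := g.support.card_le_univ
    omega
  · rw [Equiv.Perm.sign_of_cycleType, hrep, Multiset.sum_replicate, smul_eq_mul, Multiset.card_replicate,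
      show Multiset.card g.cycleType * 2 + Multiset.card g.cycleType
        = 2 * Multiset.card g.cycleType + Multiset.card g.cycleType by ring,
      pow_add, pow_mul, neg_one_sq, one_pow, one_mul]

variable {F : Type} [Field F] [Fintype F] [hF : FourField F]

/-- `GL₃(4)` has no character of order two. -/
theorem gl_trivial (χ : GL (Fin 3) F →* ℤˣ) (M : GL (Fin 3) F) : χ M = 1 := by
  classical
  have hodd : ∀ N : GL (Fin 3) F, N ^ 3 = 1 → χ N = 1 := fun N hN => by
    have h3 : χ N ^ 3 = 1 := by rw [← map_pow, hN, map_one]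
    rwa [pow_succ, Int.units_sq, one_mul] at h3
  obtain ⟨w, hw⟩ := exists_omega (F := F)
  obtain ⟨hw0, hw1⟩ := omega_ne hw
  suffices h : ∀ A : Matrix (Fin 3) (Fin 3) F, A.det ≠ 0 → ∀ N : GL (Fin 3) F, (N : Matrix _ _ F) = A →
      χ N = 1 from h _ (Matrix.GeneralLinearGroup.det_ne_zero M) M rfl
  intro A hA
  refine Matrix.diagonal_transvection_induction_of_det_ne_zero
    (fun A => ∀ N : GL (Fin 3) F, (N : Matrix _ _ F) = A → χ N = 1) A hA ?_ ?_ ?_
  · intro D hD N hN
    refine hodd N (Units.ext ?_)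
    rw [Units.val_pow_eq_pow_val, hN, Matrix.diagonal_pow, Units.val_one, ← Matrix.diagonal_one]
    congr 1
    funext i
    have : D i ≠ 0 := fun h0 => hD (by
      rw [Matrix.det_diagonal]; exact Finset.prod_eq_zero (Finset.mem_univ i) h0)
    simpa using cube this
  · rintro ⟨i, j, hij, c⟩ N hN
    -- a transvection is a commutator
    set D : Fin 3 → F := fun k => if k = i then w else 1 with hD
    have hD0 : ∀ k, D k ≠ 0 := fun k => by simp only [hD]; split_ifs <;> simp [hw0]
    set P : GL (Fin 3) F := Matrix.GeneralLinearGroup.mkOfDetNeZero (Matrix.diagonal D)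
      (by rw [Matrix.det_diagonal]; exact Finset.prod_ne_zero_iff.mpr fun k _ => hD0 k) with hP
    set Q : GL (Fin 3) F := Matrix.GeneralLinearGroup.mkOfDetNeZero (Matrix.transvection i j (w ^ 2)⁻¹)
      (by rw [Matrix.det_transvection_of_ne _ _ hij]; exact one_ne_zero) with hQ
    have hw2 : (w ^ 2)⁻¹ = w := inv_eq_of_mul_eq_one_right (by rw [← pow_succ]; exact cube hw0)
    set R : GL (Fin 3) F := Matrix.GeneralLinearGroup.mkOfDetNeZero (Matrix.transvection i j (c * w))
      (by rw [Matrix.det_transvection_of_ne _ _ hij]; exact one_ne_zero)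
    have key : P * R * P⁻¹ * R⁻¹ = N := by
      rw [mul_inv_eq_iff_eq_mul, mul_inv_eq_iff_eq_mul]
      refine Units.ext ?_
      rw [Units.val_mul, Units.val_mul, Units.val_mul, hN]
      show Matrix.diagonal D * Matrix.transvection i j (c * w) =
        Matrix.transvection i j c * Matrix.transvection i j (c * w) * Matrix.diagonal D
      rw [Matrix.transvection_mul_transvection_same _ _ hij]
      have h2 : c + c * w = c * w ^ 2 := by rw [hw]; ring
      rw [h2]
      ext a b
      rw [Matrix.diagonal_mul, Matrix.mul_diagonal]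
      simp only [Matrix.transvection, Matrix.add_apply, Matrix.one_apply, Matrix.single_apply, hD]
      by_cases h1 : i = a ∧ j = b
      · obtain ⟨rfl, rfl⟩ := h1
        simp [hij, Ne.symm hij]
        ring
      · simp only [h1, if_false, add_zero]
        by_cases h3 : a = b
        · subst h3; simp
        · simp [h3]
    rw [← key, map_mul, map_mul, map_mul, map_inv, map_inv]
    simp [mul_comm, mul_left_comm]
  · intro A B hA hB h1 h2 N hN
    set NA := Matrix.GeneralLinearGroup.mkOfDetNeZero A hA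
    set NB := Matrix.GeneralLinearGroup.mkOfDetNeZero B hB
    rw [show N = NA * NB from Units.ext (by rw [hN, Units.val_mul]; rfl), map_mul, h1 NA rfl, h2 NB rfl,
      mul_one]

variable {d : G} {φ : ↥(loc D d) →* Cfsg.PSU 6 F 2}
variable (X : Ctx D d φ)

local notation "π" => QuotientGroup.mk' (Subgroup.center (Cfsg.SU 6 F 2))
local notation "act" => OrthUnitaryTransvection.act
local notation "L" => ThreeTransM22Lift72.Chart.L X.chart

include X

/-- A maximal set through `d` is `d` with the points of a plane. -/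
theorem exists_plane {B : Set G} (hB : Blk D B) (hdB : d ∈ B) {w : F} (hw : w ^ 2 = w + 1) :
    ∃ e f : Fin 3 → Fin 6 → F, Frame e f ∧ (conic X e 1 w).prod = (base X e).prod ∧
      (∀ c : Fin 3 → F, c ≠ 0 → L (comb e c) ∈ B) ∧
      ∀ x ∈ B, x ≠ d → ∃ c : Fin 3 → F, c ≠ 0 ∧ x = L (comb e c) := by
  classical
  set U : Set (Fin 6 → F) := {u | h u u = 0 ∧ u ≠ 0 ∧ L u ∈ B} with hU
  have horth : ∀ u ∈ U, ∀ v ∈ U, h u v = 0 := fun u hu v hv =>
    (L_comm X hu.1 hu.2.1 hv.1 hv.2.1).mp (hB.comm _ hu.2.2 _ hv.2.2)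
  have hin : ∀ v : Fin 6 → F, h v v = 0 → v ≠ 0 → (∀ u ∈ U, h v u = 0) → v ∈ U := by
    intro v hv hv0 hp
    refine ⟨hv, hv0, hB.max _ (L_mem X hv hv0).1 fun x hx => ?_⟩
    by_cases e : x = d
    · exact e ▸ (L_mem X hv hv0).2.2.symm
    obtain ⟨u, hu, hu0, rfl⟩ := L_surj X (x := x) ⟨hB.sub hx, e, hB.comm d hdB x hx⟩
    exact (L_comm X hv hv0 hu hu0).mpr (hp u ⟨hu, hu0, hx⟩)
  have step : ∀ k : ℕ, k ≤ 2 → ∀ u : Fin k → Fin 6 → F, LinearIndependent F u → (∀ i, u i ∈ U) →
      ∃ v ∈ U, v ∉ Submodule.span F (Set.range u) := by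
    intro k hk u hli hu
    by_contra hno
    push Not at hno
    obtain ⟨x, hx⟩ := exists_duals hli
    obtain ⟨y, hy0, hy, hperp⟩ := exists_iso_perp (n := 6) (m := k + k) (by omega) (Fin.append u x)
    have hyu : ∀ i, h y (u i) = 0 := fun i => by simpa using hperp (Fin.castAdd k i)
    have hyx : ∀ i, h y (x i) = 0 := fun i => by
      have := hperp (Fin.natAdd k i)
      rwa [Fin.append_right] at this
    have hyU : y ∈ U := hin y hy hy0 fun v hv => by
      obtain ⟨c, rfl⟩ := Submodule.mem_span_range_iff_exists_fun F |>.mp (hno v hv)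
      rw [h_sum_right]
      exact Finset.sum_eq_zero fun i _ => by rw [hyu, mul_zero]
    obtain ⟨c, hc⟩ := Submodule.mem_span_range_iff_exists_fun F |>.mp (hno y hyU)
    refine hy0 ?_
    rw [← hc]
    refine Finset.sum_eq_zero fun j _ => ?_
    have := hyx j
    rw [← hc, h_sum_left, Finset.sum_eq_single j (fun i _ hij => ?_) (by simp)] at this
    · rw [h_comm_one (by simpa using hx j j), mul_one] at this
      rw [this, zero_smul]
    · rw [h_comm_zero (by simpa [Ne.symm hij] using hx j i), mul_zero]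
  have grow : ∀ k : ℕ, k ≤ 3 → ∃ u : Fin k → Fin 6 → F, LinearIndependent F u ∧ ∀ i, u i ∈ U := by
    intro k
    induction k with
    | zero => exact fun _ => ⟨Fin.elim0, linearIndependent_empty_type, fun i => i.elim0⟩
    | succ k ih =>
      intro hk
      obtain ⟨u, hli, hu⟩ := ih (by omega)
      obtain ⟨v, hv, hvn⟩ := step k (by omega) u hli hu
      exact ⟨Fin.cons v u, hli.finCons hvn, Fin.cases (by simpa using hv) (by simpa using hu)⟩
  obtain ⟨e, hli, he⟩ := grow 3 le_rfl
  have hee : ∀ i j, h (e i) (e j) = 0 := fun i j => horth _ (he i) _ (he j)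
  obtain ⟨f, hfr⟩ := exists_frame_of hee hli
  obtain ⟨a, ha, hgood, -⟩ := (conic_exists X hfr hw).1
  have hone : ∀ x ∈ B, x ≠ d → ∃ c : Fin 3 → F, c ≠ 0 ∧ x = L (comb e c) := by
    intro x hx hxd
    obtain ⟨u, hu, hu0, rfl⟩ := L_surj X (x := x) ⟨hB.sub hx, hxd, hB.comm d hdB x hx⟩
    have hp := hfr.mem_plane (v := u) fun i => horth u ⟨hu, hu0, hx⟩ _ (he i)
    exact ⟨fun i => h u (f i), fun h0 => hu0 (by rw [hp, h0, comb_zero]), by rw [← hp]⟩
  have hmemU : ∀ c : Fin 3 → F, c ≠ 0 → comb e c ∈ U := fun c hc => by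
    refine hin _ (hfr.h_ee _ _) (comb_ne X hfr hc) fun u hu => ?_
    have hp := hfr.mem_plane (v := u) fun i => horth u hu _ (he i)
    rw [hp]; exact hfr.h_ee _ _
  -- rescale the third base vector
  set l : Fin 3 → F := ![1, 1, a] with hl
  have hl0 : ∀ i, l i ≠ 0 := fun i => by fin_cases i <;> simp [hl, ha]
  set e' : Fin 3 → Fin 6 → F := fun i => l i • e i with he'
  set f' : Fin 3 → Fin 6 → F := fun i => l i • f i with hf'
  have hfr' : Frame e' f' := by
    refine ⟨fun i j => ?_, fun i j => ?_, fun i j => ?_⟩ <;>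
      simp only [he', hf', h_smul_left, h_smul_right, hfr.ee, hfr.ff, hfr.ef, mul_zero]
    by_cases e1 : i = j
    · subst e1; simp only [if_true, mul_one]; linear_combination cube (hl0 i)
    · simp [e1]
  have hcomb : ∀ c : Fin 3 → F, comb e' c = comb e (fun i => c i * l i) := fun c => by
    simp [comb, he', smul_smul]
  refine ⟨e', f', hfr', ?_, fun c hc => ?_, fun x hx hxd => ?_⟩
  · have hb : base X e' = base X e := by
      simp [base, he', L_smul X (hee _ _) (hfr.ne_zero _) (hl0 _)]
    have hq : ∀ t : F, comb e' (q 1 t) = comb e (q a t) := fun t => by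
      rw [hcomb]; congr 1; funext i; fin_cases i <;> simp [q, hl, mul_comm]
    rw [hb, ← hgood]
    simp [conic, hq]
  · rw [hcomb]
    exact (hmemU _ fun h0 => hc (funext fun i => by simpa [hl0 i] using congrFun h0 i)).2.2
  · obtain ⟨c, hc, rfl⟩ := hone x hx hxd
    refine ⟨fun i => c i * (l i)⁻¹, fun h0 => hc (funext fun i => by simpa [hl0 i] using congrFun h0 i), ?_⟩
    rw [hcomb]
    congr 2
    funext i
    rw [mul_assoc, inv_mul_cancel₀ (hl0 i), mul_one]

/-- Facts about a maximal set through `d`: it has 22 members, the local group induces even permutations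
and an element squaring coordinates an odd one. -/
theorem plane_action {B : Set G} (hB : Blk D B) (hdB : d ∈ B) [Fintype B] [DecidableEq B] :
    Fintype.card B = 22 ∧
    (∀ g ∈ loc D d, ∀ ρ : Equiv.Perm B, (∀ x, (ρ x : G) = g * x * g⁻¹) → Equiv.Perm.sign ρ = 1) ∧
    ∀ g : G, Commute d g → g ∉ loc D d → ∃ k ∈ loc D d,
      ((k * g) * (k * g) = 1 ∨ (k * g) * (k * g) = d) ∧
      (∀ x ∈ B, (k * g) * x * (k * g)⁻¹ ∈ B) ∧
      ∀ ρ : Equiv.Perm B, (∀ x, (ρ x : G) = (k * g) * x * (k * g)⁻¹) → Equiv.Perm.sign ρ = -1 := by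
  classical
  obtain ⟨w, hw⟩ := exists_omega (F := F)
  obtain ⟨e, f, hfr, hgood, hmem, hsur⟩ := exists_plane X hB hdB hw
  -- coordinates
  let pt : (Fin 3 → F) → B := fun c => if hc : c = 0 then ⟨d, hdB⟩ else ⟨L (comb e c), hmem c hc⟩
  have hpt : ∀ c, c ≠ 0 → (pt c : G) = L (comb e c) := fun c hc => by simp [pt, hc]
  have hpt0 : (pt 0 : G) = d := by simp [pt]
  have hpts : Function.Surjective pt := fun x => by
    by_cases hx : (x : G) = d
    · exact ⟨0, Subtype.ext (hpt0.trans hx.symm)⟩
    · obtain ⟨c, hc, e1⟩ := hsur x x.2 hx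
      exact ⟨c, Subtype.ext ((hpt c hc).trans e1.symm)⟩
  have hptd : ∀ c, c ≠ 0 → (pt c : G) ≠ d := fun c hc => by
    rw [hpt c hc]; exact (comb_mem X hfr hc).2.1
  have hpteq : ∀ c b, pt c = pt b ↔ ∃ k : F, k ≠ 0 ∧ c = k • b := by
    intro c b
    constructor
    · intro h1
      by_cases hc : c = 0 <;> by_cases hb : b = 0
      · exact ⟨1, one_ne_zero, by simp [hc, hb]⟩
      · exact absurd (by rw [← h1, hc, hpt0]) (hptd b hb)
      · exact absurd (by rw [h1, hb, hpt0]) (hptd c hc)
      · obtain ⟨k, hk, e1⟩ := L_inj X (hfr.h_ee _ _) (comb_ne X hfr hc) (hfr.h_ee _ _) (comb_ne X hfr hb)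
          (by rw [← hpt c hc, ← hpt b hb, h1])
        rw [← comb_smul] at e1
        exact ⟨k, hk, hfr.comb_inj e1⟩
    · rintro ⟨k, hk, rfl⟩
      by_cases hb : b = 0
      · simp [hb]
      · refine Subtype.ext ?_
        rw [hpt _ (smul_ne_zero hk hb), hpt b hb, comb_smul, L_smul X (hfr.h_ee _ _) (comb_ne X hfr hb) hk]
  let co : B → Fin 3 → F := Function.surjInv hpts
  have hco : ∀ x, pt (co x) = x := Function.surjInv_eq hpts
  -- the number of members
  have h64 : Fintype.card B = 22 := by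
    let Φ : {x : B // (x : G) ≠ d} × Fˣ → {c : Fin 3 → F // c ≠ 0} := fun p =>
      ⟨(p.2 : F) • co p.1.1, smul_ne_zero p.2.ne_zero fun h0 => p.1.2 (by rw [← hco p.1.1, h0, hpt0])⟩
    have hΦ : Function.Bijective Φ := by
      refine ⟨fun p p' h1 => ?_, fun c => ?_⟩
      · have h2 : (p.2 : F) • co p.1.1 = (p'.2 : F) • co p'.1.1 := congrArg Subtype.val h1
        have h3 : p.1.1 = p'.1.1 := by
          rw [← hco p.1.1, ← hco p'.1.1]
          refine (hpteq _ _).mpr ⟨(p.2 : F)⁻¹ * p'.2, mul_ne_zero (inv_ne_zero p.2.ne_zero) p'.2.ne_zero, ?_⟩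
          rw [mul_smul, ← h2, smul_smul, inv_mul_cancel₀ p.2.ne_zero, one_smul]
        have h4 : p.1 = p'.1 := Subtype.ext h3
        refine Prod.ext h4 (Units.ext ?_)
        rw [h4] at h2
        exact smul_left_injective F (fun h0 : co p'.1.1 = 0 => p'.1.2 (by rw [← hco p'.1.1, h0, hpt0])) h2
      · obtain ⟨k, hk, e1⟩ := (hpteq c.1 (co (pt c.1))).mp (hco _).symm
        exact ⟨(⟨pt c.1, hptd _ c.2⟩, Units.mk0 k hk), Subtype.ext e1.symm⟩
    have h1 := Fintype.card_of_bijective hΦ
    rw [Fintype.card_prod, Fintype.card_units, hF.card_eq, Fintype.card_subtype_compl,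
      Fintype.card_subtype_compl, Fintype.card_fun, Fintype.card_fin, hF.card_eq,
      Fintype.card_subtype_eq] at h1
    have h2 : Fintype.card {x : B // (x : G) = d} = 1 :=
      Fintype.card_eq_one_iff.mpr ⟨⟨⟨d, hdB⟩, rfl⟩, fun x => Subtype.ext (Subtype.ext x.2)⟩
    rw [h2] at h1
    have := Fintype.card_pos_iff.mpr ⟨(⟨d, hdB⟩ : B)⟩
    omega
  refine ⟨h64, fun g hg ρ hρ => ?_, fun g hg hgn => ?_⟩
  · -- inner elements
    obtain ⟨A, hA⟩ := QuotientGroup.mk'_surjective (Subgroup.center (Cfsg.SU 6 F 2)) (φ ⟨g, hg⟩)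
    have hgd : g * d * g⁻¹ = d := mul_inv_eq_iff_eq_mul.mpr (commute_d_of_mem_loc hg).symm.eq
    have hcol : ∀ j, ∃ m : Fin 3 → F, act A (e j) = comb e m := by
      intro j
      have hm : g * L (e j) * g⁻¹ ∈ B := by
        have h1 := hmem (Pi.single j 1) (by simp)
        rw [comb_single] at h1
        rw [← hρ ⟨_, h1⟩]; exact (ρ _).2
      have h2 : g * L (e j) * g⁻¹ = L (act A (e j)) :=
        L_conj X (k := ⟨g, hg⟩) hA.symm (hfr.ee j j) (hfr.ne_zero j)
      have hne : g * L (e j) * g⁻¹ ≠ d := fun h0 =>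
        (L_mem X (hfr.ee j j) (hfr.ne_zero j)).2.1 (mul_left_cancel (mul_right_cancel (h0.trans hgd.symm)))
      obtain ⟨c, hc, e1⟩ := hsur _ hm hne
      rw [h2] at e1
      obtain ⟨k, -, e2⟩ := L_inj X ((OrthUnitaryTransvection.herm_act A _ _).trans (hfr.ee j j))
        (OrthUnitaryPSU.act_smul_right_inj A (hfr.ne_zero j)) (hfr.h_ee _ _) (comb_ne X hfr hc) e1
      exact ⟨k • c, by rw [e2, comb_smul]⟩
    choose m hm using hcol
    set M : Matrix (Fin 3) (Fin 3) F := Matrix.of fun i j => m j i with hM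
    have hact : ∀ c, act A (comb e c) = comb e (M *ᵥ c) := fun c => by
      rw [comb_three, OrthUnitaryTransvection.act_add, OrthUnitaryTransvection.act_add,
        OrthUnitaryTransvection.act_smul, OrthUnitaryTransvection.act_smul,
        OrthUnitaryTransvection.act_smul, hm, hm, hm]
      simp only [comb, Matrix.mulVec, dotProduct, hM, Matrix.of_apply, Fin.sum_univ_three]
      module
    have hdet : M.det ≠ 0 := fun h0 => by
      obtain ⟨v, hv, hv0⟩ := Matrix.exists_mulVec_eq_zero_iff.mpr h0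
      have h1 := hact v
      rw [hv0, comb_zero] at h1
      exact OrthUnitaryPSU.act_smul_right_inj A (comb_ne X hfr hv) h1
    let Ψ : GL (Fin 3) F → B → B := fun N x => pt ((N : Matrix (Fin 3) (Fin 3) F) *ᵥ co x)
    have hΨ : ∀ (N : GL (Fin 3) F) (c : Fin 3 → F), Ψ N (pt c) = pt ((N : Matrix _ _ F) *ᵥ c) := by
      intro N c
      obtain ⟨k, hk, e1⟩ := (hpteq (co (pt c)) c).mp (hco _)
      exact (hpteq _ _).mpr ⟨k, hk, by rw [e1, Matrix.mulVec_smul]⟩
    letI : MulAction (GL (Fin 3) F) B :=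
      { smul := Ψ
        one_smul := fun x => by
          show pt (((1 : GL (Fin 3) F) : Matrix (Fin 3) (Fin 3) F) *ᵥ co x) = x
          rw [Units.val_one, Matrix.one_mulVec, hco]
        mul_smul := fun N N' x => by
          show Ψ (N * N') x = Ψ N (pt ((N' : Matrix (Fin 3) (Fin 3) F) *ᵥ co x))
          rw [hΨ, Matrix.mulVec_mulVec, ← Units.val_mul] }
    set N₀ := Matrix.GeneralLinearGroup.mkOfDetNeZero M hdet
    have hρN : ρ = MulAction.toPermHom (GL (Fin 3) F) B N₀ := by
      refine Equiv.ext fun x => ?_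
      obtain ⟨c, rfl⟩ := hpts x
      show ρ (pt c) = Ψ N₀ (pt c)
      rw [hΨ]
      refine Subtype.ext ?_
      rw [hρ]
      show g * (pt c : G) * g⁻¹ = (pt (M *ᵥ c) : G)
      by_cases hc : c = 0
      · rw [hc, Matrix.mulVec_zero, hpt0, hgd]
      · have hMc : M *ᵥ c ≠ 0 := fun h0 => hdet (Matrix.exists_mulVec_eq_zero_iff.mp ⟨c, hc, h0⟩)
        rw [hpt c hc, hpt _ hMc, ← hact]
        exact L_conj X (k := ⟨g, hg⟩) hA.symm (hfr.h_ee _ _) (comb_ne X hfr hc)
    rw [hρN]
    exact gl_trivial (Equiv.Perm.sign.comp (MulAction.toPermHom (GL (Fin 3) F) B)) N₀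
  · -- the field automorphism
    obtain ⟨k, hk, hfix, hp⟩ := normalise X hfr hw hgood hg
    set u := k * g with hu
    have hun : u ∉ loc D d := fun h1 => hgn ((mul_mem_cancel_left hk).mp h1)
    rcases std_cases X hfr hfix hp with h1 | h1 | ⟨hE, hF'⟩
    · exact absurd (h1 ▸ one_mem _) hun
    · exact absurd (h1 ▸ X.self d X.mem) hun
    refine ⟨k, hk, ?_, ?_, ?_⟩
    · refine trivial_of_planes X hfr (hfix.1.mul_right hfix.1) (fun c hc => ?_) (fun c hc => ?_) <;>
        refine mul_inv_eq_iff_eq_mul.mp ?_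
      all_goals rw [show ∀ y : G, u * u * y * (u * u)⁻¹ = u * (u * y * u⁻¹) * u⁻¹ from fun y => by group]
      · rw [hE c hc, hE _ fun h0 => hc (funext fun i => by simpa using congrFun h0 i)]
        simp only [sq_sq]
      · rw [hF' c hc, hF' _ fun h0 => hc (funext fun i => by simpa using congrFun h0 i)]
        simp only [sq_sq]
    · intro x hx
      by_cases hxd : x = d
      · rw [hxd, mul_inv_eq_iff_eq_mul.mpr hfix.1.symm.eq]; exact hdB
      · obtain ⟨c, hc, rfl⟩ := hsur x hx hxd
        rw [hE c hc]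
        exact hmem _ fun h0 => hc (funext fun i => by simpa using congrFun h0 i)
    · intro ρ hρ
      have hρc : ∀ c, ρ (pt c) = pt (fun i => c i ^ 2) := by
        intro c
        refine Subtype.ext ?_
        rw [hρ]
        by_cases hc : c = 0
        · rw [hc, hpt0, show (fun i => (0 : Fin 3 → F) i ^ 2) = 0 by funext i; simp, hpt0,
            mul_inv_eq_iff_eq_mul.mpr hfix.1.symm.eq]
        · rw [hpt c hc, hpt _ fun h0 => hc (funext fun i => by simpa using congrFun h0 i)]
          exact hE c hc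
      have h2 : ρ * ρ = 1 := by
        refine Equiv.ext fun x => ?_
        obtain ⟨c, rfl⟩ := hpts x
        rw [Equiv.Perm.mul_apply, hρc, hρc, Equiv.Perm.one_apply]
        simp only [sq_sq]
      have hfixc : {x | ρ x = x}.ncard = 8 := by
        let Θ : (Fin 3 → {a : F // a ^ 2 = a}) → {x : B // ρ x = x} := fun c =>
          ⟨pt fun i => (c i : F), by rw [hρc]; simp only [(c _).2]⟩
        have hΘ : Function.Bijective Θ := by
          refine ⟨fun c c' h1 => ?_, fun x => ?_⟩
          · obtain ⟨k, hk, e1⟩ := (hpteq _ _).mp (congrArg Subtype.val h1)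
            funext i
            refine Subtype.ext ?_
            have e2 : (c i : F) = k * (c' i : F) := congrFun e1 i
            rcases fixed_cases (c i).2 with h0 | h0 <;> rcases fixed_cases (c' i).2 with h0' | h0' <;>
              rw [h0, h0'] at e2 ⊢
            · exact absurd (by rw [mul_one] at e2; exact e2.symm) hk
            · exact absurd (by rw [mul_zero] at e2; exact e2) one_ne_zero
          · obtain ⟨c, hc⟩ := hpts x.1
            have h1 := x.2
            rw [← hc, hρc] at h1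
            obtain ⟨k, hk, e1⟩ := (hpteq _ _).mp h1
            have e2 : ∀ i, (k ^ 2 * c i) ^ 2 = k ^ 2 * c i := fun i => by
              have := congrFun e1 i
              simp only [Pi.smul_apply, smul_eq_mul] at this
              rw [mul_pow, sq_sq, this, ← mul_assoc, ← pow_two]
            refine ⟨fun i => ⟨k ^ 2 * c i, e2 i⟩, Subtype.ext ?_⟩
            rw [← hc]
            exact (hpteq _ _).mpr ⟨k ^ 2, pow_ne_zero 2 hk, rfl⟩
        have h3 : Fintype.card {a : F // a ^ 2 = a} = 2 := by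
          rw [Fintype.card_subtype, show Finset.univ.filter (fun a : F => a ^ 2 = a) = {0, 1} from
            Finset.ext fun a => ⟨fun ha => by
              rcases fixed_cases (Finset.mem_filter.mp ha).2 with h | h <;> simp [h], fun ha => by
              simp at ha; rcases ha with rfl | rfl <;> simp⟩]
          exact Finset.card_pair zero_ne_one
        rw [← Nat.card_coe_set_eq, Set.coe_setOf, Nat.card_eq_fintype_card,
          ← Fintype.card_of_bijective hΘ, Fintype.card_fun, Fintype.card_fin, h3]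
        norm_num
      obtain ⟨j, hj, hs⟩ := sign_involution ρ h2
      rw [hfixc, h64] at hj
      rw [hs, show j = 7 by omega]
      norm_num

omit X

/-- Type M(22): the centralizer of a member is its local group. -/
theorem centralizer_eq_loc (hD : Cfsg.IsThreeTranspositionGroup D)
    (hprim : Cfsg.IsPrimitiveUnderConj D) (h22 : Cfsg.IsOfTypeM22 G D) :
    ∀ s ∈ D, Subgroup.centralizer ({s} : Set G) = loc D s := by
  classical
  have ht := tsys_of_group hD
  have hsimple := (ThreeTransM22Local72.main hD hprim h22).1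
  obtain ⟨F, _, _, _, hctx⟩ := exists_ctx hD hprim h22
  intro s₀ hs₀
  refine le_antisymm (fun g₀ hg₀ => ?_) fun x hx =>
    mem_centralizer_singleton_iff.mpr (commute_d_of_mem_loc hx).symm.eq
  have hg₀' : Commute s₀ g₀ := (mem_centralizer_singleton_iff.mp hg₀ : Commute g₀ s₀).symm
  by_contra hg₀n
  have hloc : ∀ g s x : G, x ∈ loc D s → g * x * g⁻¹ ∈ loc D (g * s * g⁻¹) := by
    intro g s x hx
    have := mem_map_of_mem (MulAut.conj g).toMonoidHom hx
    rw [loc, MonoidHom.map_closure] at this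
    refine closure_mono ?_ this
    rintro _ ⟨y, hy, rfl⟩
    exact ⟨ht.conj g y hy.1, fun h => hy.2.1 (mul_left_cancel (mul_right_cancel h)),
      (Commute.conj_iff g).mpr hy.2.2⟩
  -- a maximal set with an odd number of conjugates
  letI : MulAction G {B : Set G // Blk D B} :=
    { smul := fun g B => ⟨MulAut.conj g '' B.1, B.2.conj ht g⟩
      one_smul := fun B => Subtype.ext (show MulAut.conj (1 : G) '' B.1 = B.1 by simp)
      mul_smul := fun g k B => Subtype.ext (show MulAut.conj (g * k) '' B.1 =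
        MulAut.conj g '' (MulAut.conj k '' B.1) by rw [Set.image_image]; simp [mul_assoc]) }
  obtain ⟨B, hodd⟩ : ∃ B : {B : Set G // Blk D B}, (MulAction.orbit G B).ncard % 2 = 1 := by
    by_contra hno
    push Not at hno
    have h1 : 2 ∣ (Set.univ : Set {B : Set G // Blk D B}).ncard :=
      dvd_of_partition 2 (fun B => MulAction.orbit G B) fun B _ =>
        ⟨MulAction.mem_orbit_self B, Set.subset_univ _, by have := hno B; omega,
          fun C hC => MulAction.orbit_eq_iff.mpr hC⟩
    have h2 := odd_blocks ht (T := ∅) (Set.empty_subset D) (by simp)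
    rw [Set.ncard_univ] at h1
    simp only [Set.empty_subset, and_true] at h2
    rw [← Nat.card_coe_set_eq] at h2
    change 2 ∣ Nat.card {B : Set G | Blk D B} at h1
    omega
  set N := MulAction.stabilizer G B with hN
  have hidx : N.index % 2 = 1 := by rw [hN, MulAction.index_stabilizer]; exact hodd
  have hmemN : ∀ g, g ∈ N ↔ ∀ x ∈ B.1, g * x * g⁻¹ ∈ B.1 := by
    intro g
    rw [hN, MulAction.mem_stabilizer_iff]
    constructor
    · intro h x hx
      have := congrArg Subtype.val h
      exact this ▸ ⟨x, hx, rfl⟩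
    · intro h
      refine Subtype.ext (Set.eq_of_subset_of_ncard_le ?_ ?_ (Set.toFinite _))
      · rintro _ ⟨x, hx, rfl⟩; exact h x hx
      · rw [show ((g • B : {B : Set G // Blk D B}) : Set G) = MulAut.conj g '' B.1 from rfl,
          Set.ncard_image_of_injective _ (MulAut.conj g).injective]
  letI : MulAction N B.1 :=
    { smul := fun g x => ⟨(g : G) * x * (g : G)⁻¹, (hmemN g).mp g.2 x x.2⟩
      one_smul := fun x => Subtype.ext (by show (1 : G) * x * (1 : G)⁻¹ = x; group)
      mul_smul := fun g k x => Subtype.ext (by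
        show (g * k : G) * x * (g * k : G)⁻¹ = g * (k * x * (k : G)⁻¹) * (g : G)⁻¹; group) }
  haveI : Fintype B.1 := Fintype.ofFinite _
  let χ : N →* ℤˣ := Equiv.Perm.sign.comp (MulAction.toPermHom N B.1)
  -- the three facts at each member of the set
  have hact : ∀ e ∈ B.1, Fintype.card B.1 = 22 ∧
      (∀ g ∈ loc D e, ∀ ρ : Equiv.Perm B.1, (∀ x, (ρ x : G) = g * x * g⁻¹) → Equiv.Perm.sign ρ = 1) ∧
      ∀ g : G, Commute e g → g ∉ loc D e → ∃ k ∈ loc D e,
        ((k * g) * (k * g) = 1 ∨ (k * g) * (k * g) = e) ∧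
        (∀ x ∈ B.1, (k * g) * x * (k * g)⁻¹ ∈ B.1) ∧
        ∀ ρ : Equiv.Perm B.1, (∀ x, (ρ x : G) = (k * g) * x * (k * g)⁻¹) → Equiv.Perm.sign ρ = -1 := by
    intro e he
    obtain ⟨φ, X⟩ := hctx e (B.2.sub he)
    exact plane_action X B.2 he
  have houtodd : ∀ e ∈ B.1, ∀ v : N, Commute e (v : G) → (v : G) ∉ loc D e → χ v = -1 := by
    intro e he v hc hv
    obtain ⟨-, hin, hout⟩ := hact e he
    obtain ⟨k, hk, -, hkB, hs⟩ := hout v hc hv
    have hkN : k ∈ N := by
      have h1 : k * (v : G) ∈ N := (hmemN _).mpr hkB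
      exact (mul_mem_cancel_right v.2).mp h1
    have h1 : χ (⟨k, hkN⟩ * v) = -1 := hs _ fun x => rfl
    rw [map_mul, show χ ⟨k, hkN⟩ = 1 from hin k hk _ fun x => rfl, one_mul] at h1
    exact h1
  -- an element outside the local group at a member of the set
  obtain ⟨e, he⟩ : B.1.Nonempty := by
    by_contra hne
    exact hne ⟨s₀, B.2.max s₀ hs₀ fun x hx => absurd ⟨x, hx⟩ hne⟩
  obtain ⟨g, hg, hgn⟩ : ∃ g, Commute e g ∧ g ∉ loc D e := by
    obtain ⟨k, hk⟩ := hprim.1 s₀ hs₀ e (B.2.sub he)
    refine ⟨k * g₀ * k⁻¹, hk ▸ (Commute.conj_iff k).mpr hg₀', fun h => hg₀n ?_⟩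
    have := hloc k⁻¹ _ _ h
    rwa [show k⁻¹ * (k * g₀ * k⁻¹) * k⁻¹⁻¹ = g₀ by group,
      show k⁻¹ * e * k⁻¹⁻¹ = s₀ by rw [← hk]; group] at this
  obtain ⟨k, hk, hsq, hkB, -⟩ := (hact e he).2.2 g hg hgn
  set u := k * g with hu
  have hun : u ∉ loc D e := fun h => hgn ((mul_mem_cancel_left hk).mp h)
  have hue : Commute e u := (commute_d_of_mem_loc hk).mul_right hg
  have huN : u ∈ N := (hmemN _).mpr hkB
  have hu4 : u ^ 2 ^ 2 = 1 := by
    rw [show 2 ^ 2 = 2 * 2 from rfl, pow_mul, pow_two u, pow_two]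
    rcases hsq with h | h <;> rw [h]
    · rw [one_mul]
    · exact ht.sq e (B.2.sub he)
  haveI : Fact (Nat.Prime 2) := ⟨Nat.prime_two⟩
  obtain ⟨j, -, hj⟩ := (Nat.dvd_prime_pow Nat.prime_two).mp (orderOf_dvd_of_pow_eq_one hu4)
  suffices hboth : (∀ (t : G) (m : ℕ), 2 ∣ m → ∀ hh : t⁻¹ * u ^ m * t ∈ N, χ ⟨_, hh⟩ = 1) ∧
      ∀ (t : G) (hh : t⁻¹ * u * t ∈ N), χ ⟨_, hh⟩ = -1 by
    obtain ⟨n, hn, hV⟩ := TransferThompson.transfer_eq_pow_fixed χ hj (-1) hboth.1 hboth.2
    -- the transfer is trivial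
    have hn2 : n % 2 = 1 := by
      have := hn; rw [Nat.ModEq] at this; omega
    haveI := hsimple
    rcases (inferInstance : (MonoidHom.transfer χ).ker.Normal).eq_bot_or_eq_top with h | h
    · have hcomm : ∀ a b : G, a * b = b * a := fun a b =>
        (MonoidHom.ker_eq_bot_iff _).mp h (by rw [map_mul, map_mul, mul_comm])
      have htop : Subgroup.center G = ⊤ := eq_top_iff.mpr fun x _ => mem_center_iff.mpr fun y => hcomm y x
      rw [h22.1] at htop
      exact bot_ne_top htop
    · have h1 : MonoidHom.transfer χ u = 1 := MonoidHom.mem_ker.mp (h ▸ mem_top u)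
      rw [hV, ← Nat.div_add_mod n 2, hn2, pow_add, pow_mul, neg_one_sq, one_pow, one_mul, pow_one] at h1
      exact absurd h1 (by decide)
  refine ⟨?_, ?_⟩
  · -- even powers
    intro t m hm hh
    obtain ⟨r, rfl⟩ := hm
    have hpow : u ^ (2 * r) = 1 ∨ u ^ (2 * r) = e := by
      rw [pow_mul, pow_two]
      rcases hsq with h | h <;> rw [h]
      · exact Or.inl (one_pow r)
      · rcases Nat.even_or_odd r with ⟨i, rfl⟩ | ⟨i, rfl⟩
        · left; rw [← two_mul, pow_mul, pow_two, ht.sq e (B.2.sub he), one_pow]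
        · right; rw [pow_add, pow_mul, pow_two, ht.sq e (B.2.sub he), one_pow, one_mul, pow_one]
    rcases hpow with h | h
    · rw [show (⟨_, hh⟩ : N) = 1 from Subtype.ext (by simp [h])]; exact map_one χ
    · set y := t⁻¹ * u ^ (2 * r) * t with hy
      have hyD : y ∈ D := by rw [hy, h]; simpa using ht.conj t⁻¹ e (B.2.sub he)
      have hyB : y ∈ B.1 := B.2.mem_of_stable ht hyD ((hmemN y).mp hh)
      show Equiv.Perm.sign _ = 1
      rw [show MulAction.toPermHom N B.1 ⟨y, hh⟩ = 1 from Equiv.ext fun x => Subtype.ext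
        (mul_inv_eq_iff_eq_mul.mpr (B.2.comm y hyB x x.2).eq), map_one]
  · -- fixed cosets
    intro t hh
    set v := t⁻¹ * u * t with hv
    set e' := t⁻¹ * e * t with he'
    have he'D : e' ∈ D := by rw [he']; simpa using ht.conj t⁻¹ e (B.2.sub he)
    have hvn : v ∉ loc D e' := fun h => hun (by
      have := hloc t _ _ h
      rwa [show t * v * t⁻¹ = u by rw [hv]; group, show t * e' * t⁻¹ = e by rw [he']; group] at this)
    have hve' : Commute e' v := by
      have := (Commute.conj_iff t⁻¹).mpr hue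
      simpa [he', hv] using this
    rcases Int.units_eq_one_or (χ ⟨v, hh⟩) with hχ | hχ
    swap
    · exact hχ
    exfalso
    rcases hsq with h | h
    · have hv2 : v * v = 1 := by
        rw [hv, show t⁻¹ * u * t * (t⁻¹ * u * t) = t⁻¹ * (u * u) * t by group, h]; group
      set ρ := MulAction.toPermHom N B.1 ⟨v, hh⟩ with hρ
      have hρ2 : ρ * ρ = 1 := by
        rw [hρ, ← map_mul, show (⟨v, hh⟩ : N) * ⟨v, hh⟩ = 1 from Subtype.ext hv2, map_one]
      obtain ⟨i, hi, his⟩ := sign_involution ρ hρ2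
      have hs1 : Equiv.Perm.sign ρ = 1 := hχ
      rw [hs1] at his
      obtain ⟨x, hx⟩ : ∃ x, ρ x = x := by
        by_contra hno
        push Not at hno
        rw [show {x | ρ x = x} = (∅ : Set B.1) from Set.eq_empty_iff_forall_notMem.mpr hno,
          Set.ncard_empty, (hact e he).1] at hi
        rw [show i = 11 by omega] at his
        exact absurd his (by decide)
      have hxv : Commute (x : G) v := by
        have := congrArg Subtype.val hx
        exact (mul_inv_eq_iff_eq_mul.mp (show v * (x : G) * v⁻¹ = x from this)).symm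
      have hvx : v ∈ loc D x := by
        by_contra hn
        exact absurd ((houtodd x x.2 ⟨v, hh⟩ hxv hn).symm.trans hχ) (by decide)
      obtain ⟨φ, X⟩ := hctx x (B.2.sub x.2)
      have hv1 : v ≠ 1 := fun h1 => hvn (h1 ▸ one_mem _)
      obtain ⟨l, hl, -, hlen, hlp⟩ := involution_product X hvx hv2 hv1
      exact hvn (hlp ▸ product_inner ht X.self hl hlen he'D (hlp ▸ hve'))
    · have hv2 : v * v = e' := by
        rw [hv, he', show t⁻¹ * u * t * (t⁻¹ * u * t) = t⁻¹ * (u * u) * t by group, h]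
      have he'N : e' ∈ N := hv2 ▸ mul_mem hh hh
      have he'B : e' ∈ B.1 := B.2.mem_of_stable ht he'D ((hmemN e').mp he'N)
      exact absurd ((houtodd e' he'B ⟨v, hh⟩ hve' hvn).symm.trans hχ) (by decide)

end Cfsg.Agent.ThreeTransM22Outer72
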