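import Cfsg.Agent.Lib.Fi22ConnChart80
import Cfsg.Agent.Lib.ThreeTransM22Outer72

/-!
# Involutions of the stabilizer of a component fix a member

The component has `2` modulo `4` members and its stabilizer acts by even permutations, as it is generated
by perfect centralizers; so no involution of it moves all members.
-/

set_option autoImplicit false
set_option linter.unusedSectionVars false

namespace Cfsg.Agent.Fi22ConnFix80

open Subgroup Cfsg.Agent.ThreeTransDescent Cfsg.Agent.UnitaryF4Geo Cfsg.Agent.Fi22RecogWebGeo11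
open Cfsg.Agent.ThreeTransM22Frame72 (exists_iso_perp)

variable {F : Type} [Field F] [Fintype F] [hF : FourField F]
variable {G : Type*} [Group G] {D Ω : Set G}

/-- Two commuting members have a member commuting with neither, near a common neighbour. -/
theorem exists_far (hweb : Web D F) {a b : G} (ha : a ∈ D) (hb : b ∈ near D a) :
    ∃ u ∈ D, Commute a u ∧ ∃ c ∈ D, Commute u c ∧ ¬ Commute a c ∧ ¬ Commute b c := by
  obtain ⟨L, Y⟩ := hweb a ha
  obtain ⟨v, hv, hv0, rfl⟩ := Y.surj hb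
  obtain ⟨p, -, hp⟩ := exists_h_eq_one hv0
  obtain ⟨f, hf0, hff, hf⟩ := exists_iso_perp (m := 2) (by norm_num) ![v, p]
  have hfv : h f v = 0 := hf 0
  have hfp : h f p = 0 := hf 1
  have hne : L f ≠ L v := Fi22ConnChart80.perp_ne Y hff hf0 hv hv0 hfp (by rw [hp]; exact one_ne_zero)
  have hu := Y.mem hff hf0
  refine ⟨L f, hu.1, hu.2.2, ?_⟩
  obtain ⟨M, Z⟩ := hweb (L f) hu.1
  obtain ⟨A, hA, hA0, eA⟩ := Z.surj (x := a) ⟨ha, hu.2.1.symm, hu.2.2.symm⟩
  obtain ⟨B, hB, hB0, eB⟩ := Z.surj (x := L v)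
    ⟨hb.1, hne.symm, (Y.comm hff hf0 hv hv0).mpr hfv⟩
  have hAB : h A B = 0 := (Z.comm hA hA0 hB hB0).mp (by rw [eA, eB]; exact hb.2.2)
  have hli := Fi22ConnChart80.pair_indep Z hA hA0 hB hB0 (by rw [eA, eB]; exact hb.2.1.symm)
  obtain ⟨g, hg, hgs⟩ := Fi22ConnChart80.exists_iso_duals hli
    (fun i j => by fin_cases i <;> fin_cases j <;> simp [hA, hB, hAB, h_comm_zero hAB])
  obtain ⟨c, hc, hcc⟩ : ∃ c : F, c ≠ 0 ∧ h (g 0 + c • g 1) (g 0 + c • g 1) = 0 := by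
    by_cases hk : h (g 0) (g 1) = 0
    · exact ⟨1, one_ne_zero, by
        simp only [one_smul, h_add_left, h_add_right, hg, hk, h_comm_zero hk, add_zero]⟩
    · refine ⟨h (g 0) (g 1), hk, ?_⟩
      simp only [h_add_left, h_add_right, h_smul_left, h_smul_right, hg, mul_zero, add_zero, zero_add]
      rw [h_symm (g 0) (g 1)]
      linear_combination (h (g 0) (g 1) ^ 3) * two_eq_zero (F := F)
  have hxA : h (g 0 + c • g 1) A = 1 := by
    have h0 : h (g 0) A = 1 := hgs 0 0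
    have h1 : h (g 1) A = 0 := hgs 1 0
    rw [h_add_left, h_smul_left, h0, h1, mul_zero, add_zero]
  have hxB : h (g 0 + c • g 1) B = c := by
    have h0 : h (g 0) B = 0 := hgs 0 1
    have h1 : h (g 1) B = 1 := hgs 1 1
    rw [h_add_left, h_smul_left, h0, h1, mul_one, zero_add]
  have hx0 : g 0 + c • g 1 ≠ 0 := fun e => by rw [e, h_zero_left] at hxA; exact zero_ne_one hxA
  refine ⟨M (g 0 + c • g 1), (Z.mem hcc hx0).1, (Z.mem hcc hx0).2.2, fun e => ?_, fun e => ?_⟩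
  · rw [← eA] at e
    exact one_ne_zero (hxA.symm.trans ((Z.comm hcc hx0 hA hA0).mp e.symm))
  · rw [← eB] at e
    exact hc (hxB.symm.trans ((Z.comm hcc hx0 hB hB0).mp e.symm))

/-- Parity: an involution stabilizing the component fixes a member. -/
theorem fix_of_mod_four [Finite G] (hweb : Web D F) (hsub : Ω ⊆ D) (hsq : ∀ x ∈ D, x * x = 1)
    (hclosed : ∀ a ∈ Ω, ∀ b ∈ D, Commute a b → b ∈ Ω)
    (hblock : ∀ g : G, ∀ a ∈ Ω, g * a * g⁻¹ ∈ Ω → ∀ b ∈ Ω, g * b * g⁻¹ ∈ Ω)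
    (hthree : ∀ a ∈ Ω, ∀ b ∈ Ω, ¬ Commute a b → (a * b) ^ 3 = 1)
    (hperf : ∀ a ∈ Ω, centralizer ({a} : Set G) ≤
      ⁅centralizer ({a} : Set G), centralizer ({a} : Set G)⁆)
    (h2 : Ω.ncard % 4 = 2) :
    ∀ m : G, orderOf m = 2 → (∀ a ∈ Ω, m * a * m⁻¹ ∈ Ω) → ∃ a ∈ Ω, Commute m a := by
  classical
  intro m hm hst
  haveI : Fintype Ω := Fintype.ofFinite _
  by_contra hno
  push Not at hno
  let K : Subgroup G :=
    { carrier := {g | ∀ b, b ∈ Ω ↔ g * b * g⁻¹ ∈ Ω}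
      one_mem' := fun b => by simp
      mul_mem' := fun {g k} hg hk b => by
        rw [hk b, hg (k * b * k⁻¹), mul_inv_rev]
        simp only [mul_assoc]
      inv_mem' := fun {g} hg b => by
        rw [hg (g⁻¹ * b * g⁻¹⁻¹), show g * (g⁻¹ * b * g⁻¹⁻¹) * g⁻¹ = b by group] }
  have hmem : ∀ g : G, ∀ a ∈ Ω, g * a * g⁻¹ ∈ Ω → g ∈ K := by
    intro g a ha hga b
    refine ⟨fun hb => hblock g a ha hga b hb, fun hb => ?_⟩
    have h1 : g⁻¹ * (g * a * g⁻¹) * g⁻¹⁻¹ ∈ Ω := by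
      rwa [show g⁻¹ * (g * a * g⁻¹) * g⁻¹⁻¹ = a by group]
    have := hblock g⁻¹ _ hga h1 _ hb
    rwa [show g⁻¹ * (g * b * g⁻¹) * g⁻¹⁻¹ = b by group] at this
  let σ : K →* Equiv.Perm Ω :=
    { toFun := fun g => ⟨fun b => ⟨(g : G) * b * (g : G)⁻¹, (g.2 b).mp b.2⟩,
        fun b => ⟨(g : G)⁻¹ * b * g, by
          have := (inv_mem g.2 : (g : G)⁻¹ ∈ K) b
          rw [inv_inv] at this
          exact this.mp b.2⟩,
        fun b => Subtype.ext (by
          show (g : G)⁻¹ * ((g : G) * b * (g : G)⁻¹) * g = b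
          group),
        fun b => Subtype.ext (by
          show (g : G) * ((g : G)⁻¹ * b * g) * (g : G)⁻¹ = b
          group)⟩
      map_one' := Equiv.ext fun b => Subtype.ext (by show (1 : G) * b * (1 : G)⁻¹ = b; group)
      map_mul' := fun g k => Equiv.ext fun b => Subtype.ext (by
        show (g * k : G) * b * (g * k : G)⁻¹ = g * (k * b * (k : G)⁻¹) * (g : G)⁻¹
        group) }
  let χ : K →* ℤˣ := Equiv.Perm.sign.comp σ
  have hcK : ∀ a ∈ Ω, centralizer ({a} : Set G) ≤ K := fun a ha g hg => hmem g a ha (by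
    rw [mem_centralizer_singleton_iff.mp hg, mul_inv_cancel_right]; exact ha)
  have hker : ∀ a ∈ Ω, ∀ g ∈ centralizer ({a} : Set G), ∃ hg : g ∈ K, χ ⟨g, hg⟩ = 1 := by
    intro a ha g hg
    have h1 : ⁅centralizer ({a} : Set G), centralizer ({a} : Set G)⁆ ≤ χ.ker.map K.subtype := by
      rw [commutator_le]
      intro x hx y hy
      refine ⟨(⟨x, hcK a ha hx⟩ : K) * ⟨y, hcK a ha hy⟩ * (⟨x, hcK a ha hx⟩ : K)⁻¹ *
        (⟨y, hcK a ha hy⟩ : K)⁻¹, ?_, by simp [commutatorElement_def]⟩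
      rw [SetLike.mem_coe, MonoidHom.mem_ker, map_mul, map_mul, map_mul, map_inv, map_inv,
        mul_inv_cancel_comm, mul_inv_cancel]
    obtain ⟨x, hx, rfl⟩ := h1 (hperf a ha hg)
    exact ⟨x.2, hx⟩
  have hself : ∀ a ∈ Ω, ∃ hg : a ∈ K, χ ⟨a, hg⟩ = 1 := fun a ha =>
    hker a ha a (mem_centralizer_singleton_iff.mpr rfl)
  have hprod : ∀ x y : G, (∃ hg : x ∈ K, χ ⟨x, hg⟩ = 1) → (∃ hg : y ∈ K, χ ⟨y, hg⟩ = 1) →
      ∃ hg : x * y ∈ K, χ ⟨x * y, hg⟩ = 1 := by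
    rintro x y ⟨hx, ex⟩ ⟨hy, ey⟩
    refine ⟨mul_mem hx hy, ?_⟩
    show χ (⟨x, hx⟩ * ⟨y, hy⟩) = 1
    rw [map_mul, ex, ey, one_mul]
  have hbr : ∀ a ∈ Ω, ∀ b ∈ Ω, ¬ Commute a b → (a * b) * a * (a * b)⁻¹ = b := by
    intro a ha b hb hn
    have h3 := hthree a ha b hb hn
    have e : a * b * a * b * a * b = 1 := by rw [← h3, pow_three]; group
    have hb' : b⁻¹ = b := inv_eq_of_mul_eq_one_right (hsq b (hsub hb))
    have ha' : a⁻¹ = a := inv_eq_of_mul_eq_one_right (hsq a (hsub ha))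
    rw [mul_inv_rev, ha', hb', ← mul_assoc]
    calc a * b * a * b * a = (a * b * a * b * a * b) * b⁻¹ := by group
      _ = b := by rw [e, one_mul, hb']
  obtain ⟨a, ha⟩ : Ω.Nonempty := Set.nonempty_of_ncard_ne_zero (by omega)
  set b := m * a * m⁻¹ with hbdef
  have hbΩ : b ∈ Ω := hst a ha
  have hba : b ≠ a := fun e => hno a ha (mul_inv_eq_iff_eq_mul.mp e)
  obtain ⟨w, hwK, hwa⟩ : ∃ w : G, (∃ hg : w ∈ K, χ ⟨w, hg⟩ = 1) ∧ w * a * w⁻¹ = b := by
    by_cases hn : Commute a b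
    · obtain ⟨u, hu, hau, c, hc, huc, hac, hbc⟩ := exists_far hweb (hsub ha) ⟨hsub hbΩ, hba, hn⟩
      have hcΩ : c ∈ Ω := hclosed u (hclosed a ha u hu hau) c hc huc
      refine ⟨(c * b) * (a * c), hprod _ _ (hprod _ _ (hself c hcΩ) (hself b hbΩ))
        (hprod _ _ (hself a ha) (hself c hcΩ)), ?_⟩
      calc c * b * (a * c) * a * (c * b * (a * c))⁻¹
          = c * b * ((a * c) * a * (a * c)⁻¹) * (c * b)⁻¹ := by group
        _ = b := by rw [hbr a ha c hcΩ hac, hbr c hcΩ b hbΩ fun e => hbc e.symm]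
    · exact ⟨a * b, hprod _ _ (hself a ha) (hself b hbΩ), hbr a ha b hbΩ hn⟩
  have hmK : m ∈ K := hmem m a ha hbΩ
  have hwm : w⁻¹ * m ∈ centralizer ({a} : Set G) := by
    rw [mem_centralizer_singleton_iff]
    calc w⁻¹ * m * a = w⁻¹ * b * m := by rw [hbdef]; group
      _ = a * (w⁻¹ * m) := by rw [← hwa]; group
  obtain ⟨hx, hχ⟩ := hprod w (w⁻¹ * m) hwK (hker a ha _ hwm)
  have hχm : χ ⟨m, hmK⟩ = 1 := by
    rw [← hχ]; congr 1; exact Subtype.ext (mul_inv_cancel_left w m).symm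
  set p := σ ⟨m, hmK⟩ with hp
  have hmm : m * m = 1 := by rw [← pow_two, ← hm]; exact pow_orderOf_eq_one m
  have hp2 : p * p = 1 := by
    rw [hp, ← map_mul, show (⟨m, hmK⟩ : K) * ⟨m, hmK⟩ = 1 from Subtype.ext hmm, map_one]
  obtain ⟨k, hk, hsg⟩ := ThreeTransM22Outer72.sign_involution p hp2
  have hfix : {x | p x = x}.ncard = 0 := by
    have : {x | p x = x} = (∅ : Set Ω) := by
      ext x
      simp only [Set.mem_setOf_eq, Set.mem_empty_iff_false, iff_false]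
      exact fun e => hno x x.2 (mul_inv_eq_iff_eq_mul.mp (congrArg Subtype.val e))
    rw [this, Set.ncard_empty]
  rw [hfix, zero_add, ← Nat.card_eq_fintype_card, Nat.card_coe_set_eq] at hk
  have hsg1 : Equiv.Perm.sign p = 1 := hχm
  rw [hsg1] at hsg
  rcases Nat.even_or_odd k with ⟨j, hj⟩ | hodd
  · omega
  · rw [hodd.neg_one_pow] at hsg
    exact absurd hsg (by decide)

end Cfsg.Agent.Fi22ConnFix80

namespace Cfsg.Agent.Fi22ConnFix80

open Cfsg.Agent.ThreeTransDescent Cfsg.Agent.Fi22RecogWebGeo11 Cfsg.Agent.UnitaryF4Geo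

variable {F : Type} [Field F] [Fintype F] [hF : FourField F]
variable {G : Type*} [Group G] [Finite G] {D Ω : Set G}

/-- The hypotheses of the connectivity theorem from charts. -/
theorem conn_of_web (hweb : Web D F) (two : ∀ x ∈ D, orderOf x = 2)
    (conj : ∀ g : G, ∀ x ∈ D, g * x * g⁻¹ ∈ D)
    (trans : ∀ a ∈ D, ∀ b ∈ D, ∃ g : G, g * a * g⁻¹ = b)
    (sub : Ω ⊆ D) (closed : ∀ a ∈ Ω, ∀ b ∈ D, Commute a b → b ∈ Ω)
    (block : ∀ g : G, ∀ a ∈ Ω, g * a * g⁻¹ ∈ Ω → ∀ b ∈ Ω, g * b * g⁻¹ ∈ Ω)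
    (three : ∀ a ∈ Ω, ∀ b ∈ Ω, ¬ Commute a b → (a * b) ^ 3 = 1)
    (gen : ∀ a ∈ Ω, Subgroup.centralizer ({a} : Set G) ≤ Subgroup.closure (near D a))
    (perfect : ∀ a ∈ Ω, Subgroup.centralizer ({a} : Set G) ≤
      ⁅Subgroup.centralizer ({a} : Set G), Subgroup.centralizer ({a} : Set G)⁆)
    (only : ∀ a ∈ Ω, ∀ z : G, Commute a z → (∀ y ∈ near D a, Commute y z) → z = 1 ∨ z = a)
    (h2 : Ω.ncard % 4 = 2) : Fi22Conn80.Conn D Ω := by
  have hsq : ∀ x ∈ D, x * x = 1 := fun x hx => by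
    rw [← pow_two, ← two x hx]; exact pow_orderOf_eq_one x
  have hone : (1 : G) ∉ D := fun e => by simpa [orderOf_one] using two 1 e
  refine
    { two := two, conj := conj, trans := trans, sub := sub,
      ne := Set.nonempty_of_ncard_ne_zero (by omega), closed := closed, block := block, three := three,
      fix := fix_of_mod_four hweb sub hsq closed block three perfect h2, gen := gen, perfect := perfect,
      noPair := ?_, noTriple := ?_, common := ?_, shift := ?_, cone := ?_, four := ?_ }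
  · intro a ha t ht
    obtain ⟨L, Y⟩ := hweb a (sub ha)
    exact Fi22ConnChart80.noPair Y hsq hone (sub ha) ht
  · intro a ha t ht f hf
    obtain ⟨L, Y⟩ := hweb a (sub ha)
    exact Fi22ConnChart80.noTriple Y hsq (sub ha) ht hf
  · intro a ha t ht t' ht'
    obtain ⟨L, Y⟩ := hweb a (sub ha)
    exact Fi22ConnChart80.common Y ht ht'
  · intro a ha t ht f hf f' hf' hn
    obtain ⟨L, Y⟩ := hweb a (sub ha)
    exact Fi22ConnChart80.shift Y ht hf hf' hn
  · intro a ha t ht k hk hka hkt hcn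
    obtain ⟨L, Y⟩ := hweb a (sub ha)
    rcases only a ha k hka.symm (Fi22ConnChart80.cone Y hsq conj ht hk hka hkt hcn) with e | e
    · exact e
    · rw [e, two a (sub ha)] at hk; exact absurd hk (by decide)
  · intro a ha t ht w hw
    obtain ⟨u, hu, hua, h'⟩ := Fi22ConnChart80.four hweb hsq (sub ha) ht hw
    exact ⟨u, closed a ha u hu hua.symm, hua, h'⟩

end Cfsg.Agent.Fi22ConnFix80
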