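import Cfsg.Agent.Lib.OrthUnitaryHerm

/-!
Square roots generating the fields with 4, 9 and 25 elements, and three orders.
-/

set_option autoImplicit false
set_option linter.style.haveILetI false

namespace Cfsg.Agent.UnitaryImageFields

open Cfsg Cfsg.Agent.OrthUnitaryHerm

variable {F : Type} [Field F] [Fintype F]

theorem cast_char {p k : ℕ} (hp : p.Prime) (hF : Fintype.card F = p ^ k) : ((p : ℕ) : F) = 0 := by
  have h : ((Fintype.card F : ℕ) : F) = 0 := FiniteField.cast_card_eq_zero F
  rw [hF, Nat.cast_pow] at h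
  exact eq_zero_of_pow_eq_zero h

theorem gen_four (hF : Fintype.card F = 4) : ∃ s : F, s ^ 2 = s + 1 ∧ s ^ 2 = 1 - s := by
  have h2 : ((2 : ℕ) : F) = 0 := cast_char (k := 2) Nat.prime_two (by rw [hF]; rfl)
  have h2' : (2 : F) = 0 := by exact_mod_cast h2
  obtain ⟨g, hg⟩ := IsCyclic.exists_generator (α := Fˣ)
  have ho : orderOf g = 3 := by
    rw [orderOf_eq_card_of_forall_mem_zpowers hg, Nat.card_units, Nat.card_eq_fintype_card, hF]
  have h3 : (g : F) ^ 3 = 1 := by
    rw [← Units.val_pow_eq_pow_val, ← ho, pow_orderOf_eq_one, Units.val_one]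
  have h1 : (g : F) - 1 ≠ 0 := fun h => by
    rw [sub_eq_zero, Units.val_eq_one] at h
    rw [h, orderOf_one] at ho
    omega
  have hq : (g : F) ^ 2 + g + 1 = 0 := by
    refine (mul_eq_zero.mp ?_).resolve_left h1
    linear_combination h3
  exact ⟨g, by linear_combination hq - ((g : F) + 1) * h2', by linear_combination hq - h2'⟩

theorem gen_nine (hF : Fintype.card F = 9) : ∃ s : F, s ^ 2 = 2 ∧ s ^ 3 = -s := by
  have h3 : ((3 : ℕ) : F) = 0 := cast_char (k := 2) Nat.prime_three (by rw [hF]; rfl)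
  have h3' : (3 : F) = 0 := by exact_mod_cast h3
  have hchar : ringChar F ≠ 2 := by
    intro h
    have h2 : ((2 : ℕ) : F) = 0 := by rw [← h]; exact ringChar.Nat.cast_ringChar
    have h2' : (2 : F) = 0 := by exact_mod_cast h2
    exact one_ne_zero (α := F) (by linear_combination h3' - h2')
  have h2 : (2 : F) ≠ 0 := Ring.two_ne_zero hchar
  have hsq : IsSquare (2 : F) := by
    rw [FiniteField.isSquare_iff hchar h2, hF]
    linear_combination 5 * h3'
  obtain ⟨s, hs⟩ := hsq
  refine ⟨s, by rw [hs]; ring, ?_⟩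
  linear_combination -s * hs + s * h3'

theorem gen_twentyfive (hF : Fintype.card F = 25) : ∃ s : F, s ^ 2 = 2 ∧ s ^ 5 = -s := by
  have h5 : ((5 : ℕ) : F) = 0 := cast_char (k := 2) Nat.prime_five (by rw [hF]; rfl)
  have h5' : (5 : F) = 0 := by exact_mod_cast h5
  have hchar : ringChar F ≠ 2 := by
    intro h
    have h2 : ((2 : ℕ) : F) = 0 := by rw [← h]; exact ringChar.Nat.cast_ringChar
    have h2' : (2 : F) = 0 := by exact_mod_cast h2
    exact one_ne_zero (α := F) (by linear_combination h5' - 2 * h2')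
  have h2 : (2 : F) ≠ 0 := Ring.two_ne_zero hchar
  have hsq : IsSquare (2 : F) := by
    rw [FiniteField.isSquare_iff hchar h2, hF]
    linear_combination 819 * h5'
  obtain ⟨s, hs⟩ := hsq
  refine ⟨s, by rw [hs]; ring, ?_⟩
  linear_combination (-s ^ 3 - 2 * s) * hs + s * h5'

theorem card_PSU35 (hF : Fintype.card F = 25) : Nat.card (PSU 3 F 5) = 126000 := by
  have h := card_PSU_mul (n := 3) (q := 5) (show Fintype.card F = 5 ^ 2 by rw [hF]; rfl) (by norm_num)
  rw [card_GU (show Fintype.card F = 5 ^ 2 by rw [hF]; rfl)] at h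
  norm_num [Finset.prod_range_succ, Nat.even_iff] at h
  omega

theorem card_PSU43 (hF : Fintype.card F = 9) : Nat.card (PSU 4 F 3) = 3265920 := by
  have h := card_PSU_mul (n := 4) (q := 3) (show Fintype.card F = 3 ^ 2 by rw [hF]; rfl) (by norm_num)
  rw [card_GU (show Fintype.card F = 3 ^ 2 by rw [hF]; rfl)] at h
  norm_num [Finset.prod_range_succ, Nat.even_iff] at h
  omega

theorem card_PSU62 (hF : Fintype.card F = 4) : Nat.card (PSU 6 F 2) = 9196830720 := by
  have h := card_PSU_mul (n := 6) (q := 2) (show Fintype.card F = 2 ^ 2 by rw [hF]; rfl) (by norm_num)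
  rw [card_GU (show Fintype.card F = 2 ^ 2 by rw [hF]; rfl)] at h
  norm_num [Finset.prod_range_succ, Nat.even_iff] at h
  omega

end Cfsg.Agent.UnitaryImageFields
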