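import Cfsg.Agent.Lib.ThreeTransM22Outer72
import Cfsg.Agent.Lib.UnitaryImageFields

/-!
# Commuting triples in a class of type M(22)

Counts of isotropic points, transitivity on ordered commuting triples, and the order of the centralizer
of a product of three commuting members.
-/

set_option autoImplicit false
set_option linter.unusedSectionVars false
set_option linter.style.haveILetI false

namespace Cfsg.Agent.ThreeTransM22Triples17

open Subgroup Cfsg.Agent.ThreeTransRel Cfsg.Agent.ThreeTransDescent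
open Cfsg.Agent.UnitaryF4Geo Cfsg.Agent.UnitaryF4Line Matrix
open Cfsg.Agent.ThreeTransM22Local72 Cfsg.Agent.ThreeTransM22Frame72 Cfsg.Agent.ThreeTransM22Lift72

variable {F : Type} [Field F] [Fintype F] [hF : FourField F]

theorem natCard_field : Nat.card F = 4 := by rw [Nat.card_eq_fintype_card, hF.card_eq]

theorem natCard_ne_zero : Nat.card {c : F // c ≠ 0} = 3 := by
  classical
  rw [Nat.card_eq_fintype_card, Fintype.card_subtype_compl, Fintype.card_subtype_eq, hF.card_eq]

theorem h_cons {n : ℕ} (a : F) (v : Fin n → F) :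
    h (Fin.cons a v : Fin (n + 1) → F) (Fin.cons a v) = a ^ 3 + h v v := by
  simp only [h, Fin.sum_univ_succ, Fin.cons_zero, Fin.cons_succ]
  ring

/-- The number of isotropic vectors, step in the dimension. -/
theorem iso_count_succ (n : ℕ) :
    Nat.card {v : Fin (n + 1) → F // h v v = 0} =
      Nat.card {v : Fin n → F // h v v = 0} +
        3 * (4 ^ n - Nat.card {v : Fin n → F // h v v = 0}) := by
  classical
  have e1 : {v : Fin (n + 1) → F // h v v = 0} ≃
      (Σ a : F, {v : Fin n → F // a ^ 3 + h v v = 0}) :=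
    { toFun := fun v => ⟨v.1 0, ⟨Fin.tail v.1, by rw [← h_cons, Fin.cons_self_tail]; exact v.2⟩⟩
      invFun := fun p => ⟨Fin.cons p.1 p.2.1, by rw [h_cons]; exact p.2.2⟩
      left_inv := fun v => Subtype.ext (Fin.cons_self_tail v.1)
      right_inv := fun ⟨a, v, hv⟩ => Sigma.subtype_ext (by simp) (by simp) }
  have hne : ∀ a : F, a ≠ 0 → Fintype.card {v : Fin n → F // a ^ 3 + h v v = 0} =
      4 ^ n - Fintype.card {v : Fin n → F // h v v = 0} := by
    intro a ha
    rw [Fintype.card_congr (Equiv.subtypeEquivRight (q := fun v : Fin n → F => ¬ h v v = 0) fun v => ?_),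
      Fintype.card_subtype_compl, Fintype.card_fun, hF.card_eq, Fintype.card_fin]
    rw [cube ha]
    rcases h_self v with e | e <;> rw [e] <;> simp [add_self]
  simp only [Nat.card_eq_fintype_card]
  rw [Fintype.card_congr e1, Fintype.card_sigma, ← Finset.add_sum_erase _ _ (Finset.mem_univ (0 : F)),
    Finset.sum_congr rfl (fun a ha => hne a (Finset.ne_of_mem_erase ha)), Finset.sum_const,
    Finset.card_erase_of_mem (Finset.mem_univ _), Finset.card_univ, hF.card_eq, smul_eq_mul]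
  congr 1
  exact Fintype.card_congr (Equiv.subtypeEquivRight fun v => by simp)

theorem iso_count_zero : Nat.card {v : Fin 0 → F // h v v = 0} = 1 := by
  rw [Nat.card_eq_one_iff_unique]
  exact ⟨⟨fun a b => Subtype.ext (Subsingleton.elim _ _)⟩, ⟨⟨0, h_zero_left 0⟩⟩⟩

theorem iso_count_four : Nat.card {v : Fin 4 → F // h v v = 0} = 136 := by
  rw [iso_count_succ, iso_count_succ, iso_count_succ, iso_count_succ, iso_count_zero]
  norm_num

theorem iso_count_six : Nat.card {v : Fin 6 → F // h v v = 0} = 2080 := by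
  rw [iso_count_succ, iso_count_succ, iso_count_four]
  norm_num

/-- A standard isotropic vector. -/
def u0 : Fin 6 → F := Fin.cons 1 (Fin.cons 1 0)

theorem h_u0 (a b : F) (w : Fin 4 → F) :
    h (Fin.cons a (Fin.cons b w) : Fin 6 → F) u0 = a + b := by
  simp only [h, u0, Fin.sum_univ_succ, Fin.cons_zero, Fin.cons_succ]
  simp

theorem iso_u0 : h (u0 : Fin 6 → F) u0 = 0 := by
  have := h_u0 (1 : F) 1 0
  rw [add_self] at this
  exact this

theorem u0_ne : (u0 : Fin 6 → F) ≠ 0 := fun e => by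
  have := congrFun e 0
  simp [u0] at this

theorem perp_count :
    Nat.card {v : Fin 6 → F // h v v = 0 ∧ h v u0 = 0} = 544 := by
  have e : F × {w : Fin 4 → F // h w w = 0} ≃ {v : Fin 6 → F // h v v = 0 ∧ h v u0 = 0} :=
    { toFun := fun p => ⟨Fin.cons p.1 (Fin.cons p.1 p.2.1), by
        rw [h_cons, h_cons, p.2.2, add_zero, add_self, h_u0, add_self]
        exact ⟨rfl, rfl⟩⟩
      invFun := fun v => ⟨v.1 0, ⟨Fin.tail (Fin.tail v.1), by
        obtain ⟨v, h1, h2⟩ := v
        rw [← Fin.cons_self_tail v, ← Fin.cons_self_tail (Fin.tail v)] at h1 h2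
        rw [h_u0] at h2
        rw [h_cons, h_cons, ← eq_of_add_eq_zero h2, ← add_assoc, add_self, zero_add] at h1
        exact h1⟩⟩
      left_inv := fun p => by simp
      right_inv := fun v => by
        obtain ⟨v, h1, h2⟩ := v
        refine Subtype.ext ?_
        show (Fin.cons (v 0) (Fin.cons (v 0) (Fin.tail (Fin.tail v))) : Fin 6 → F) = v
        rw [← Fin.cons_self_tail v, ← Fin.cons_self_tail (Fin.tail v), h_u0] at h2
        conv_rhs => rw [← Fin.cons_self_tail v, ← Fin.cons_self_tail (Fin.tail v)]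
        rw [← eq_of_add_eq_zero h2] }
  rw [← Nat.card_congr e, Nat.card_prod, natCard_field, iso_count_four]

/-- Two independent orthogonal isotropic vectors are part of a frame. -/
theorem exists_frame_pair {u v : Fin 6 → F} (hu : h u u = 0) (hv : h v v = 0) (huv : h u v = 0)
    (hli : LinearIndependent F ![u, v]) : ∃ e f, Frame e f ∧ e 0 = u ∧ e 1 = v := by
  obtain ⟨x, hx⟩ := exists_duals hli
  obtain ⟨y, hy0, hy, hperp⟩ := exists_iso_perp (n := 6) (m := 2 + 2) (by omega) (Fin.append ![u, v] x)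
  have hyu : ∀ i, h y (![u, v] i) = 0 := fun i => by simpa using hperp (Fin.castAdd 2 i)
  have hyx : ∀ i, h y (x i) = 0 := fun i => by
    have := hperp (Fin.natAdd 2 i)
    rwa [Fin.append_right] at this
  have hyn : y ∉ Submodule.span F (Set.range ![u, v]) := by
    intro hmem
    obtain ⟨c, hc⟩ := Submodule.mem_span_range_iff_exists_fun F |>.mp hmem
    refine hy0 ?_
    rw [← hc]
    refine Finset.sum_eq_zero fun j _ => ?_
    have := hyx j
    rw [← hc, h_sum_left, Finset.sum_eq_single j (fun i _ hij => ?_) (by simp)] at this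
    · rw [h_comm_one (by simpa using hx j j), mul_one] at this
      rw [this, zero_smul]
    · rw [h_comm_zero (by simpa [Ne.symm hij] using hx j i), mul_zero]
  have hyu' : h y u = 0 := hyu 0
  have hyv' : h y v = 0 := hyu 1
  have h1 : LinearIndependent F (![y, u, v] : Fin 3 → Fin 6 → F) := hli.finCons hyn
  have h2 : LinearIndependent F (![u, v, y] : Fin 3 → Fin 6 → F) := by
    have hc := h1.comp (![1, 2, 0] : Fin 3 → Fin 3) (by decide)
    have : (![y, u, v] : Fin 3 → Fin 6 → F) ∘ (![1, 2, 0] : Fin 3 → Fin 3) = ![u, v, y] := by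
      funext i; fin_cases i <;> rfl
    rwa [this] at hc
  obtain ⟨f, hf⟩ := exists_frame_of (e := ![u, v, y]) (fun i j => by
    fin_cases i <;> fin_cases j <;>
      simp [hu, hv, huv, hy, hyu', hyv', h_comm_zero huv, h_comm_zero hyu', h_comm_zero hyv']) h2
  exact ⟨_, f, hf, rfl, rfl⟩

/-- The unitary group is transitive on ordered pairs of orthogonal isotropic points. -/
theorem exists_act_pair {u v u' v' : Fin 6 → F} (hu : h u u = 0) (hv : h v v = 0)
    (huv : h u v = 0) (hli : LinearIndependent F ![u, v]) (hu' : h u' u' = 0) (hv' : h v' v' = 0)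
    (huv' : h u' v' = 0) (hli' : LinearIndependent F ![u', v']) :
    ∃ (A : Cfsg.SU 6 F 2) (a b : F), a ≠ 0 ∧ b ≠ 0 ∧
      OrthUnitaryTransvection.act A u = a • u' ∧ OrthUnitaryTransvection.act A v = b • v' := by
  obtain ⟨e, f, hfr, rfl, rfl⟩ := exists_frame_pair hu hv huv hli
  obtain ⟨e', f', hfr', rfl, rfl⟩ := exists_frame_pair hu' hv' huv' hli'
  obtain ⟨δ, hδ, -, hiso⟩ := exists_isometry hfr hfr'
  obtain ⟨A, hA, -⟩ := hiso ![δ, 1, 1] (fun i => by fin_cases i <;> simp [hδ])
    (by simp [Fin.prod_univ_three]; linear_combination cube hδ)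
  exact ⟨A, δ, 1, hδ, one_ne_zero, hA 0, hA 1⟩

variable {G : Type*} [Group G] [Finite G] {D : Set G}

/-- Counting by the orbit of an element under conjugation. -/
theorem card_eq_mul (H : Subgroup G) (S : Set G) {a : G} (ha : a ∈ S)
    (hstab : ∀ k ∈ H, k * a * k⁻¹ ∈ S) (htrans : ∀ y ∈ S, ∃ k ∈ H, k * a * k⁻¹ = y) :
    Nat.card ↥H = S.ncard * Nat.card ↥(H ⊓ centralizer ({a} : Set G)) := by
  letI : MulAction ↥H G :=
    { smul := fun k x => (k : G) * x * (k : G)⁻¹
      one_smul := fun x => by show ((1 : ↥H) : G) * x * ((1 : ↥H) : G)⁻¹ = x; simp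
      mul_smul := fun k l x => by
        show ((k * l : ↥H) : G) * x * ((k * l : ↥H) : G)⁻¹ = k * (l * x * (l : G)⁻¹) * (k : G)⁻¹
        push_cast; group }
  have horb : MulAction.orbit ↥H a = S := by
    ext y
    refine ⟨?_, fun hy => ?_⟩
    · rintro ⟨k, rfl⟩; exact hstab k k.2
    · obtain ⟨k, hk, e⟩ := htrans y hy
      exact ⟨⟨k, hk⟩, e⟩
  have hst : MulAction.stabilizer ↥H a = (H ⊓ centralizer ({a} : Set G)).subgroupOf H := by
    ext k
    rw [MulAction.mem_stabilizer_iff, mem_subgroupOf, mem_inf, mem_centralizer_singleton_iff]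
    show (k : G) * a * (k : G)⁻¹ = a ↔ _
    rw [mul_inv_eq_iff_eq_mul]
    exact ⟨fun e => ⟨k.2, e⟩, fun e => e.2⟩
  rw [← (MulAction.stabilizer (↥H) a).index_mul_card, MulAction.index_stabilizer, horb, hst,
    Nat.card_congr (subgroupOfEquivOfLe inf_le_left).toEquiv]

variable {d : G} {φ : ↥(loc D d) →* Cfsg.PSU 6 F 2} (X : Ctx D d φ)
include X

local notation "L" => Chart.L X.chart

/-- Points and vectors. -/
theorem card_points (P : G → Prop) :
    Nat.card {v : Fin 6 → F // h v v = 0 ∧ v ≠ 0 ∧ P (L v)} =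
      3 * Nat.card {x : G // x ∈ near D d ∧ P x} := by
  classical
  have hr : ∀ x : {x : G // x ∈ near D d ∧ P x},
      ∃ u : Fin 6 → F, h u u = 0 ∧ u ≠ 0 ∧ L u = x.1 := fun x => L_surj X x.2.1
  choose r hr1 hr2 hr3 using hr
  have hmem : ∀ (c : {c : F // c ≠ 0}) x, h (c.1 • r x) (c.1 • r x) = 0 ∧ c.1 • r x ≠ 0 ∧
      P (L (c.1 • r x)) := fun c x => by
    refine ⟨by rw [h_smul_left, h_smul_right, hr1, mul_zero, mul_zero], smul_ne_zero c.2 (hr2 x), ?_⟩
    rw [L_smul X (hr1 x) (hr2 x) c.2, hr3]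
    exact x.2.2
  let f : {c : F // c ≠ 0} × {x : G // x ∈ near D d ∧ P x} →
      {v : Fin 6 → F // h v v = 0 ∧ v ≠ 0 ∧ P (L v)} := fun p => ⟨p.1.1 • r p.2, hmem p.1 p.2⟩
  have hf : Function.Bijective f := by
    constructor
    · rintro ⟨c, x⟩ ⟨c', x'⟩ e
      have e1 : c.1 • r x = c'.1 • r x' := congrArg Subtype.val e
      have e2 := congrArg (Chart.L X.chart) e1
      rw [L_smul X (hr1 x) (hr2 x) c.2, L_smul X (hr1 x') (hr2 x') c'.2, hr3, hr3] at e2
      obtain rfl := Subtype.ext e2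
      exact Prod.ext (Subtype.ext (smul_left_injective F (hr2 x) e1)) rfl
    · rintro ⟨v, hv, hv0, hP⟩
      obtain ⟨c, hc, e⟩ := L_inj X hv hv0 (hr1 ⟨L v, L_mem X hv hv0, hP⟩)
        (hr2 ⟨L v, L_mem X hv hv0, hP⟩) (hr3 ⟨L v, L_mem X hv hv0, hP⟩).symm
      exact ⟨⟨⟨c, hc⟩, ⟨L v, L_mem X hv hv0, hP⟩⟩, Subtype.ext e.symm⟩
  rw [← Nat.card_eq_of_bijective f hf, Nat.card_prod, natCard_ne_zero]

theorem ncard_near : (near D d).ncard = 693 := by
  classical
  have h1 := card_points X fun _ => True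
  have h2 : Nat.card {v : Fin 6 → F // h v v = 0 ∧ v ≠ 0 ∧ True} + 1 = 2080 := by
    rw [← iso_count_six (F := F)]
    have e : {v : Fin 6 → F // h v v = 0 ∧ v ≠ 0 ∧ True} ≃
        {x : {v : Fin 6 → F // h v v = 0} // x ≠ ⟨0, h_zero_left 0⟩} :=
      { toFun := fun v => ⟨⟨v.1, v.2.1⟩, fun e => v.2.2.1 (congrArg Subtype.val e)⟩
        invFun := fun x => ⟨x.1.1, x.1.2, fun e => x.2 (Subtype.ext e), trivial⟩
        left_inv := fun v => rfl
        right_inv := fun x => rfl }
    rw [Nat.card_congr e, Nat.card_eq_fintype_card, Nat.card_eq_fintype_card,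
      Fintype.card_subtype_compl, Fintype.card_subtype_eq]
    have : 0 < Fintype.card {v : Fin 6 → F // h v v = 0} :=
      Fintype.card_pos_iff.mpr ⟨⟨0, h_zero_left 0⟩⟩
    omega
  have e3 : Nat.card {x : G // x ∈ near D d ∧ True} = (near D d).ncard := by
    rw [← Nat.card_coe_set_eq]
    exact Nat.card_congr (Equiv.subtypeEquivRight fun x => ⟨fun h => h.1, fun h => ⟨h, trivial⟩⟩)
  omega

theorem ncard_near_u0 :
    {y ∈ near D d | y ≠ L u0 ∧ Commute y (L u0)}.ncard = 180 := by
  classical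
  have h1 := card_points X fun y => y ≠ L u0 ∧ Commute y (L u0)
  have h2 : Nat.card {v : Fin 6 → F // h v v = 0 ∧ v ≠ 0 ∧ L v ≠ L u0 ∧ Commute (L v) (L u0)} + 4 = 544 := by
    rw [← perp_count (F := F)]
    let S : Set (Fin 6 → F) := {v | h v v = 0 ∧ h v u0 = 0}
    let M : Set (Fin 6 → F) := Set.range fun c : F => c • (u0 : Fin 6 → F)
    have hMS : M ⊆ S := by
      rintro _ ⟨c, rfl⟩
      exact ⟨by rw [h_smul_left, h_smul_right, iso_u0, mul_zero, mul_zero],
        by rw [h_smul_left, iso_u0, mul_zero]⟩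
    have hM : M.ncard = 4 := by
      rw [Set.ncard_range_of_injective (smul_left_injective F u0_ne), natCard_field]
    have e : {v : Fin 6 → F | h v v = 0 ∧ v ≠ 0 ∧ L v ≠ L u0 ∧ Commute (L v) (L u0)} = S \ M := by
      ext v
      constructor
      · rintro ⟨hv, hv0, hne, hc⟩
        refine ⟨⟨hv, (L_comm X hv hv0 iso_u0 u0_ne).mp hc⟩, ?_⟩
        rintro ⟨c, rfl⟩
        exact hne (L_smul X iso_u0 u0_ne fun hc0 => hv0 (by simp [hc0]))
      · rintro ⟨⟨hv, hp⟩, hn⟩
        have hv0 : v ≠ 0 := fun e0 => hn ⟨0, by simp [e0]⟩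
        refine ⟨hv, hv0, fun e => ?_, (L_comm X hv hv0 iso_u0 u0_ne).mpr hp⟩
        obtain ⟨c, -, hc⟩ := L_inj X hv hv0 iso_u0 u0_ne e
        exact hn ⟨c, hc.symm⟩
    have h3 := Set.ncard_sdiff_add_ncard_of_subset hMS (Set.toFinite S)
    rw [← e, hM] at h3
    exact h3
  have e3 : Nat.card {x : G // x ∈ near D d ∧ x ≠ L u0 ∧ Commute x (L u0)} =
      {y ∈ near D d | y ≠ L u0 ∧ Commute y (L u0)}.ncard := Nat.card_coe_set_eq _
  omega

theorem near_trans {a a' : G} (ha : a ∈ near D d) (ha' : a' ∈ near D d) :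
    ∃ k ∈ loc D d, k * a * k⁻¹ = a' := (X.lines d X.mem).2 a ha a' ha'

theorem loc_near {k a : G} (hk : k ∈ loc D d) (ha : a ∈ near D d) : k * a * k⁻¹ ∈ near D d :=
  near_conj X.ts (commute_d_of_mem_loc hk).symm ha

/-- The local group is transitive on the members near `d` commuting with a given one. -/
theorem pair_trans {a b b' : G} (ha : a ∈ near D d) (hb : b ∈ near D d) (hab : Commute a b)
    (hne : a ≠ b) (hb' : b' ∈ near D d) (hab' : Commute a b') (hne' : a ≠ b') :
    ∃ k ∈ loc D d, k * a * k⁻¹ = a ∧ k * b * k⁻¹ = b' := by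
  obtain ⟨u, hu, hu0, rfl⟩ := L_surj X ha
  obtain ⟨v, hv, hv0, rfl⟩ := L_surj X hb
  obtain ⟨v', hv', hv0', rfl⟩ := L_surj X hb'
  have hli : ∀ w : Fin 6 → F, h w w = 0 → w ≠ 0 → L u ≠ L w → LinearIndependent F ![u, w] := by
    intro w _ hw0 hne
    refine (LinearIndependent.pair_iff' hu0).mpr fun a e => hne ?_
    have ha0 : a ≠ 0 := fun h0 => hw0 (by rw [← e, h0, zero_smul])
    rw [← e, L_smul X hu hu0 ha0]
  obtain ⟨A, p, q, hp, hq, hAu, hAv⟩ := exists_act_pair hu hv
    ((L_comm X hu hu0 hv hv0).mp hab) (hli v hv hv0 hne) hu hv'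
    ((L_comm X hu hu0 hv' hv0').mp hab') (hli v' hv' hv0' hne')
  obtain ⟨k, hk⟩ := X.chart.surj (QuotientGroup.mk' (Subgroup.center (Cfsg.SU 6 F 2)) A)
  refine ⟨k, k.2, ?_, ?_⟩
  · rw [L_conj X hk hu hu0, hAu, L_smul X hu hu0 hp]
  · rw [L_conj X hk hv hv0, hAv, L_smul X hv' hv0' hq]

theorem ncard_pair {a : G} (ha : a ∈ near D d) :
    {y ∈ near D d | y ≠ a ∧ Commute y a}.ncard = 180 := by
  obtain ⟨k, hk, rfl⟩ := near_trans X (L_mem X iso_u0 u0_ne) ha
  rw [← ncard_near_u0 X]
  conv_rhs => rw [← Set.ncard_image_of_injective _ (MulAut.conj k).injective]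
  congr 1
  ext y
  constructor
  · rintro ⟨hy, hne, hc⟩
    refine ⟨k⁻¹ * y * k, ⟨?_, fun e => hne ?_, ?_⟩, by simp [mul_assoc]⟩
    · simpa using loc_near X (inv_mem hk) hy
    · rw [← e]; group
    · have := (Commute.conj_iff k⁻¹).mpr hc
      simpa [mul_assoc] using this
  · rintro ⟨x, ⟨hx, hne, hc⟩, rfl⟩
    exact ⟨loc_near X hk hx, fun e => hne ((MulAut.conj k).injective e), (Commute.conj_iff k).mpr hc⟩

theorem card_loc (hd2 : d ≠ 1) : Nat.card ↥(loc D d) = 2 * 9196830720 := by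
  have hker : (φ.ker.map (loc D d).subtype : Set G) = {1, d} := by
    ext x
    constructor
    · rintro ⟨y, hy, rfl⟩
      exact X.ker hy
    · rintro (rfl | rfl)
      · exact one_mem _
      · refine ⟨⟨x, X.self x X.mem⟩, ?_, rfl⟩
        exact (X.chart.one _).mpr fun y hy => hy.2.2.symm
  have hk2 : Nat.card φ.ker = 2 := by
    rw [← Subgroup.card_map_of_injective (loc D d).subtype_injective]
    show Nat.card (φ.ker.map (loc D d).subtype : Set G) = 2
    rw [hker, Nat.card_coe_set_eq, Set.ncard_pair (Ne.symm hd2)]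
  rw [← φ.ker.index_mul_card, index_ker, hk2, MonoidHom.range_eq_top.mpr X.chart.surj,
    Subgroup.card_top, UnitaryImageFields.card_PSU62 hF.card_eq, mul_comm]

theorem card_triple_stab (hd2 : d ≠ 1) (hloc : centralizer ({d} : Set G) = loc D d)
    {a b : G} (ha : a ∈ near D d) (hb : b ∈ near D d) (hab : Commute a b) (hne : a ≠ b) :
    Nat.card ↥(centralizer ({d} : Set G) ⊓ centralizer ({a} : Set G) ⊓ centralizer ({b} : Set G)) =
      147456 := by
  rw [hloc]
  have h1 := card_eq_mul (loc D d) (near D d) ha (fun k hk => loc_near X hk ha)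
    (fun y hy => near_trans X ha hy)
  have h2 := card_eq_mul (loc D d ⊓ centralizer ({a} : Set G))
    {y ∈ near D d | y ≠ a ∧ Commute y a} (a := b) ⟨hb, hne.symm, hab.symm⟩ ?_ ?_
  · rw [card_loc X hd2, ncard_near X, h2, ncard_pair X ha] at h1
    omega
  · intro k hk
    obtain ⟨hk1, hk2⟩ := mem_inf.mp hk
    have hka : k * a * k⁻¹ = a := mul_inv_eq_iff_eq_mul.mpr (mem_centralizer_singleton_iff.mp hk2)
    refine ⟨loc_near X hk1 hb, fun e => hne ?_, ?_⟩
    · exact (mul_left_cancel (mul_right_cancel (e.trans hka.symm))).symm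
    · have := (Commute.conj_iff k).mpr hab.symm
      rwa [hka] at this
  · rintro y ⟨hy, hy1, hy2⟩
    obtain ⟨k, hk, hka, hkb⟩ := pair_trans X ha hb hab hne hy hy2.symm (Ne.symm hy1)
    exact ⟨k, mem_inf.mpr ⟨hk, mem_centralizer_singleton_iff.mpr (mul_inv_eq_iff_eq_mul.mp hka)⟩, hkb⟩

omit X

/-- Type M(22): transitivity on ordered commuting triples. -/
theorem triple_trans (hD : Cfsg.IsThreeTranspositionGroup D) (hprim : Cfsg.IsPrimitiveUnderConj D)
    (h22 : Cfsg.IsOfTypeM22 G D) {a b c a' b' c' : G} (ha : a ∈ D) (hb : b ∈ near D a)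
    (hc : c ∈ near D a) (hbc : Commute b c) (hne : b ≠ c) (ha' : a' ∈ D) (hb' : b' ∈ near D a')
    (hc' : c' ∈ near D a') (hbc' : Commute b' c') (hne' : b' ≠ c') :
    ∃ g : G, g * a * g⁻¹ = a' ∧ g * b * g⁻¹ = b' ∧ g * c * g⁻¹ = c' := by
  obtain ⟨F, _, _, _, hctx⟩ := exists_ctx hD hprim h22
  obtain ⟨φ, X⟩ := hctx a' ha'
  obtain ⟨g, hg⟩ := hprim.1 a ha a' ha'
  have hcj : ∀ {y : G}, y ∈ near D a → g * y * g⁻¹ ∈ near D a' := fun {y} hy =>
    ⟨X.ts.conj g y hy.1, fun e => hy.2.1 (mul_left_cancel (mul_right_cancel (e.trans hg.symm))),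
      hg ▸ (Commute.conj_iff g).mpr hy.2.2⟩
  obtain ⟨k, hk, hkb⟩ := near_trans X (hcj hb) hb'
  have hcc : k * (g * c * g⁻¹) * k⁻¹ ∈ near D a' := loc_near X hk (hcj hc)
  have hne2 : b' ≠ k * (g * c * g⁻¹) * k⁻¹ := by
    rw [← hkb]
    exact fun e => hne (mul_left_cancel (mul_right_cancel (mul_left_cancel (mul_right_cancel e))))
  have hcom : Commute b' (k * (g * c * g⁻¹) * k⁻¹) := by
    rw [← hkb]
    exact (Commute.conj_iff k).mpr ((Commute.conj_iff g).mpr hbc)
  obtain ⟨l, hl, hlb, hlc⟩ := pair_trans X hb' hcc hcom hne2 hc' hbc' hne'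
  have hla : l * a' * l⁻¹ = a' := mul_inv_eq_iff_eq_mul.mpr (commute_d_of_mem_loc hl).symm.eq
  have hka : k * a' * k⁻¹ = a' := mul_inv_eq_iff_eq_mul.mpr (commute_d_of_mem_loc hk).symm.eq
  refine ⟨l * k * g, ?_, ?_, ?_⟩
  · rw [show l * k * g * a * (l * k * g)⁻¹ = l * (k * (g * a * g⁻¹) * k⁻¹) * l⁻¹ by group,
      hg, hka, hla]
  · rw [show l * k * g * b * (l * k * g)⁻¹ = l * (k * (g * b * g⁻¹) * k⁻¹) * l⁻¹ by group,
      hkb, hlb]
  · rw [show l * k * g * c * (l * k * g)⁻¹ = l * (k * (g * c * g⁻¹) * k⁻¹) * l⁻¹ by group, hlc]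

theorem card_centralizer_triple (hD : Cfsg.IsThreeTranspositionGroup D)
    (hprim : Cfsg.IsPrimitiveUnderConj D) (h22 : Cfsg.IsOfTypeM22 G D) {a b c : G}
    (hl : CList D [a, b, c]) (htwo : ∃ l₂ : List G, CList D l₂ ∧ l₂.length = 3 ∧
      l₂.prod = [a, b, c].prod ∧ ¬ (∀ x, x ∈ [a, b, c] ↔ x ∈ l₂) ∧
      ∀ m : List G, CList D m → m.length = 3 → m.prod = [a, b, c].prod →
        (∀ x, x ∈ m ↔ x ∈ [a, b, c]) ∨ (∀ x, x ∈ m ↔ x ∈ l₂)) :
    Nat.card ↥(centralizer ({a * b * c} : Set G)) = 2 ^ 16 * 3 ^ 3 := by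
  classical
  obtain ⟨l₂, hl₂, hlen₂, hp₂, hdiff, hall⟩ := htwo
  have hj : [a, b, c].prod = a * b * c := by simp [mul_assoc]
  obtain ⟨F, _, _, _, hctx⟩ := exists_ctx hD hprim h22
  have ha : a ∈ D := hl.mem a (by simp)
  obtain ⟨φ, X⟩ := hctx a ha
  have hnd := hl.nodup
  simp only [List.nodup_cons, List.mem_cons, List.not_mem_nil, or_false, not_or, not_false_eq_true,
    List.nodup_nil, and_true] at hnd
  have hbn : b ∈ near D a := ⟨hl.mem b (by simp), Ne.symm hnd.1.1, hl.comm a (by simp) b (by simp)⟩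
  have hcn : c ∈ near D a := ⟨hl.mem c (by simp), Ne.symm hnd.1.2, hl.comm a (by simp) c (by simp)⟩
  have ha1 : a ≠ 1 := fun e => by
    subst e
    have hcen : ∀ y ∈ D, ¬ Commute (1 : G) y → False := fun y _ hy => hy (Commute.one_left y)
    obtain ⟨-, d', hd', c', hc', hnc, -⟩ := h22
    obtain ⟨g, hg⟩ := hprim.1 1 ha d' hd'
    rw [mul_one, mul_inv_cancel] at hg
    exact hnc (hg ▸ Commute.one_left c')
  have hstab := card_triple_stab X ha1
    (ThreeTransM22Outer72.centralizer_eq_loc hD hprim h22 a ha) hbn hcn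
    (hl.comm b (by simp) c (by simp)) hnd.2
  set H := centralizer ({a * b * c} : Set G) with hH
  letI : MulAction ↥H (List G) :=
    { smul := fun k l => l.map (MulAut.conj (k : G))
      one_smul := fun l => by
        show l.map (MulAut.conj ((1 : ↥H) : G)) = l
        simp
      mul_smul := fun k m l => by
        show l.map (MulAut.conj ((k * m : ↥H) : G)) = (l.map (MulAut.conj (m : G))).map (MulAut.conj (k : G))
        rw [List.map_map]; refine List.map_congr_left fun x _ => ?_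
        simp [MulAut.conj_apply, mul_assoc] }
  let T : Set (List G) := {m | m.Perm [a, b, c]} ∪ {m | m.Perm l₂}
  have hsplit : ∀ m : List G, CList D m → m.length = 3 → m.prod = a * b * c → m ∈ T := by
    intro m hm hlen hp
    rcases hall m hm hlen (hp.trans hj.symm) with e | e
    · exact Or.inl ((List.perm_ext_iff_of_nodup hm.nodup hl.nodup).mpr e)
    · exact Or.inr ((List.perm_ext_iff_of_nodup hm.nodup hl₂.nodup).mpr e)
  have hclist : ∀ m l : List G, m.Perm l → CList D l → CList D m := fun m l hp h1 =>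
    ⟨fun x hx => h1.mem x (hp.mem_iff.mp hx), hp.nodup_iff.mpr h1.nodup,
      fun x hx y hy => h1.comm x (hp.mem_iff.mp hx) y (hp.mem_iff.mp hy)⟩
  have horb : MulAction.orbit ↥H [a, b, c] = T := by
    ext m
    constructor
    · rintro ⟨k, rfl⟩
      show [a, b, c].map (MulAut.conj (k : G)) ∈ T
      refine hsplit _ ⟨?_, hl.nodup.map (MulAut.conj (k : G)).injective, ?_⟩ (by simp) ?_
      · intro x hx
        obtain ⟨y, hy, rfl⟩ := List.mem_map.mp hx
        exact X.ts.conj _ y (hl.mem y hy)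
      · intro x hx y hy
        obtain ⟨x, hx', rfl⟩ := List.mem_map.mp hx
        obtain ⟨y, hy', rfl⟩ := List.mem_map.mp hy
        exact (Commute.conj_iff _).mpr (hl.comm x hx' y hy')
      · rw [← map_list_prod, hj, MulAut.conj_apply]
        exact mul_inv_eq_iff_eq_mul.mpr (mem_centralizer_singleton_iff.mp k.2)
    · intro hm
      obtain ⟨hm3, hmc, hmp⟩ : m.length = 3 ∧ CList D m ∧ m.prod = a * b * c := by
        rcases hm with hm | hm
        · exact ⟨hm.length_eq, hclist _ _ hm hl, ((hclist _ _ hm hl).prod_perm hm).trans hj⟩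
        · exact ⟨hm.length_eq.trans hlen₂, hclist _ _ hm hl₂,
            ((hclist _ _ hm hl₂).prod_perm hm).trans (hp₂.trans hj)⟩
      obtain ⟨p, q, r, rfl⟩ := List.length_eq_three.mp hm3
      have hn' := hmc.nodup
      simp only [List.nodup_cons, List.mem_cons, List.not_mem_nil, or_false, not_or,
        not_false_eq_true, List.nodup_nil, and_true] at hn'
      obtain ⟨g, g1, g2, g3⟩ := triple_trans hD hprim h22 ha hbn hcn
        (hl.comm b (by simp) c (by simp)) hnd.2 (hmc.mem p (by simp))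
        ⟨hmc.mem q (by simp), Ne.symm hn'.1.1, hmc.comm p (by simp) q (by simp)⟩
        ⟨hmc.mem r (by simp), Ne.symm hn'.1.2, hmc.comm p (by simp) r (by simp)⟩
        (hmc.comm q (by simp) r (by simp)) hn'.2
      have hgH : g ∈ H := by
        refine mem_centralizer_singleton_iff.mpr (mul_inv_eq_iff_eq_mul.mp ?_)
        rw [show g * (a * b * c) * g⁻¹ = (g * a * g⁻¹) * (g * b * g⁻¹) * (g * c * g⁻¹) by group,
          g1, g2, g3, ← hmp]
        simp [mul_assoc]
      exact ⟨⟨g, hgH⟩, by show [a, b, c].map (MulAut.conj g) = _; simp [g1, g2, g3]⟩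
  have hst : MulAction.stabilizer ↥H [a, b, c] = (centralizer ({a} : Set G) ⊓
      centralizer ({b} : Set G) ⊓ centralizer ({c} : Set G)).subgroupOf H := by
    ext k
    rw [MulAction.mem_stabilizer_iff]
    show [a, b, c].map (MulAut.conj (k : G)) = [a, b, c] ↔ _
    simp [mem_subgroupOf, mem_inf, mem_centralizer_singleton_iff, mul_inv_eq_iff_eq_mul, and_assoc]
  have hle : centralizer ({a} : Set G) ⊓ centralizer ({b} : Set G) ⊓ centralizer ({c} : Set G) ≤ H := by
    intro k hk
    simp only [mem_inf, mem_centralizer_singleton_iff] at hk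
    exact mem_centralizer_singleton_iff.mpr
      (((show Commute k a from hk.1.1).mul_right hk.1.2).mul_right hk.2).eq
  have hperm : ∀ l : List G, l.Nodup → l.length = 3 → {m : List G | m.Perm l}.ncard = 6 := by
    intro l hn hlen
    have e : {m : List G | m.Perm l} = ↑l.permutations.toFinset := by
      ext m; simp
    rw [e, Set.ncard_coe_finset, List.toFinset_card_of_nodup (List.nodup_permutations l hn),
      List.length_permutations, hlen]
    rfl
  have hT : T.ncard = 12 := by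
    have hdis : Disjoint {m : List G | m.Perm [a, b, c]} {m : List G | m.Perm l₂} :=
      Set.disjoint_left.mpr fun m h1 h2 => hdiff fun x => (h1.symm.trans h2).mem_iff
    rw [Set.ncard_union_eq hdis ?_ ?_, hperm _ hl.nodup rfl, hperm _ hl₂.nodup hlen₂]
    · exact Set.finite_of_ncard_ne_zero (by rw [hperm _ hl.nodup rfl]; norm_num)
    · exact Set.finite_of_ncard_ne_zero (by rw [hperm _ hl₂.nodup hlen₂]; norm_num)
  rw [← (MulAction.stabilizer ↥H [a, b, c]).index_mul_card, MulAction.index_stabilizer, horb, hT,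
    hst, Nat.card_congr (subgroupOfEquivOfLe hle).toEquiv, hstab]
  norm_num

end Cfsg.Agent.ThreeTransM22Triples17
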