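import Cfsg.Agent.Lib.Fi22RecogBridge11
import Cfsg.Agent.Lib.ThreeTransM22Triples17

/-!
# Local groups at the conjugates of a transposition with centralizer a double cover of `PSU(6,2)`

Each centralizer is perfect and generated by the conjugates it contains; there are 693 of them besides the
central one, and two commuting members have 180 common neighbours.
-/

set_option autoImplicit false
set_option linter.unusedSectionVars false
set_option linter.style.haveILetI false

namespace Cfsg.Agent.Fi22RecogLocal11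

open Subgroup Cfsg.Agent.ThreeTransDescent
open Cfsg.Agent.UnitaryF4Geo Cfsg.Agent.UnitaryF4Line
open Cfsg.Agent.Unit62Cover55 Cfsg.Agent.Unit62Count55
open Cfsg.Agent.Fi22RecogWebGeo11 Cfsg.Agent.Fi22RecogBridge11
open Cfsg.Agent.ThreeTransM22Triples17 (natCard_ne_zero natCard_field iso_count_six perp_count u0 iso_u0 u0_ne)

variable {G : Type*} [Group G] [Finite G]
variable {F : Type} [Field F] [Fintype F] [hF : FourField F]

local notation "π" => QuotientGroup.mk' (Subgroup.center (Cfsg.SU 6 F 2))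

/-! ### Counts in one chart -/

section

variable {D : Set G} {s : G} {L : (Fin 6 → F) → G} (Y : Pts D s L)
include Y

/-- Points and vectors. -/
theorem card_points (P : G → Prop) :
    Nat.card {v : Fin 6 → F // h v v = 0 ∧ v ≠ 0 ∧ P (L v)} =
      3 * Nat.card {x : G // x ∈ near D s ∧ P x} := by
  classical
  have hr : ∀ x : {x : G // x ∈ near D s ∧ P x},
      ∃ u : Fin 6 → F, h u u = 0 ∧ u ≠ 0 ∧ L u = x.1 := fun x => Y.surj x.2.1
  choose r hr1 hr2 hr3 using hr
  have hmem : ∀ (c : {c : F // c ≠ 0}) x, h (c.1 • r x) (c.1 • r x) = 0 ∧ c.1 • r x ≠ 0 ∧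
      P (L (c.1 • r x)) := fun c x => by
    refine ⟨by rw [h_smul_left, h_smul_right, hr1, mul_zero, mul_zero], smul_ne_zero c.2 (hr2 x), ?_⟩
    rw [Y.smul (hr1 x) (hr2 x) c.2, hr3]
    exact x.2.2
  let f : {c : F // c ≠ 0} × {x : G // x ∈ near D s ∧ P x} →
      {v : Fin 6 → F // h v v = 0 ∧ v ≠ 0 ∧ P (L v)} := fun p => ⟨p.1.1 • r p.2, hmem p.1 p.2⟩
  have hf : Function.Bijective f := by
    constructor
    · rintro ⟨c, x⟩ ⟨c', x'⟩ e
      have e1 : c.1 • r x = c'.1 • r x' := congrArg Subtype.val e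
      have e2 := congrArg L e1
      rw [Y.smul (hr1 x) (hr2 x) c.2, Y.smul (hr1 x') (hr2 x') c'.2, hr3, hr3] at e2
      obtain rfl := Subtype.ext e2
      exact Prod.ext (Subtype.ext (smul_left_injective F (hr2 x) e1)) rfl
    · rintro ⟨v, hv, hv0, hP⟩
      obtain ⟨c, hc, e⟩ := Y.inj hv hv0 (hr1 ⟨L v, Y.mem hv hv0, hP⟩)
        (hr2 ⟨L v, Y.mem hv hv0, hP⟩) (hr3 ⟨L v, Y.mem hv hv0, hP⟩).symm
      exact ⟨⟨⟨c, hc⟩, ⟨L v, Y.mem hv hv0, hP⟩⟩, Subtype.ext e.symm⟩
  rw [← Nat.card_eq_of_bijective f hf, Nat.card_prod, natCard_ne_zero]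

theorem ncard_near : (near D s).ncard = 693 := by
  classical
  have h1 := card_points Y fun _ => True
  have h2 : Nat.card {v : Fin 6 → F // h v v = 0 ∧ v ≠ 0 ∧ True} + 1 = 2080 := by
    rw [← iso_count_six (F := F)]
    have e : {v : Fin 6 → F // h v v = 0 ∧ v ≠ 0 ∧ True} ≃
        {x : {v : Fin 6 → F // h v v = 0} // x ≠ ⟨0, h_zero_left 0⟩} :=
      { toFun := fun v => ⟨⟨v.1, v.2.1⟩, fun e => v.2.2.1 (congrArg Subtype.val e)⟩
        invFun := fun x => ⟨x.1.1, x.1.2, fun e => x.2 (Subtype.ext e), trivial⟩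
        left_inv := fun v => rfl
        right_inv := fun x => rfl }
    rw [Nat.card_congr e, Nat.card_eq_fintype_card, Nat.card_eq_fintype_card,
      Fintype.card_subtype_compl, Fintype.card_subtype_eq]
    have : 0 < Fintype.card {v : Fin 6 → F // h v v = 0} :=
      Fintype.card_pos_iff.mpr ⟨⟨0, h_zero_left 0⟩⟩
    omega
  have e3 : Nat.card {x : G // x ∈ near D s ∧ True} = (near D s).ncard := by
    rw [← Nat.card_coe_set_eq]
    exact Nat.card_congr (Equiv.subtypeEquivRight fun x => ⟨fun h => h.1, fun h => ⟨h, trivial⟩⟩)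
  omega

theorem ncard_inter_u0 : (near D s ∩ near D (L u0)).ncard = 180 := by
  classical
  have h1 := card_points Y fun y => y ≠ L u0 ∧ Commute y (L u0)
  have h2 : Nat.card {v : Fin 6 → F // h v v = 0 ∧ v ≠ 0 ∧ L v ≠ L u0 ∧ Commute (L v) (L u0)} + 4 =
      544 := by
    rw [← perp_count (F := F)]
    let A : Set (Fin 6 → F) := {v | h v v = 0 ∧ h v u0 = 0}
    let M : Set (Fin 6 → F) := Set.range fun c : F => c • (u0 : Fin 6 → F)
    have hMA : M ⊆ A := by
      rintro _ ⟨c, rfl⟩
      exact ⟨by rw [h_smul_left, h_smul_right, iso_u0, mul_zero, mul_zero],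
        by rw [h_smul_left, iso_u0, mul_zero]⟩
    have hM : M.ncard = 4 := by
      rw [Set.ncard_range_of_injective (smul_left_injective F u0_ne), natCard_field]
    have e : {v : Fin 6 → F | h v v = 0 ∧ v ≠ 0 ∧ L v ≠ L u0 ∧ Commute (L v) (L u0)} = A \ M := by
      ext v
      constructor
      · rintro ⟨hv, hv0, hne, hc⟩
        refine ⟨⟨hv, (Y.comm hv hv0 iso_u0 u0_ne).mp hc⟩, ?_⟩
        rintro ⟨c, rfl⟩
        exact hne (Y.smul iso_u0 u0_ne fun hc0 => hv0 (by simp [hc0]))
      · rintro ⟨⟨hv, hp⟩, hn⟩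
        have hv0 : v ≠ 0 := fun e0 => hn ⟨0, by simp [e0]⟩
        refine ⟨hv, hv0, fun e => ?_, (Y.comm hv hv0 iso_u0 u0_ne).mpr hp⟩
        obtain ⟨c, -, hc⟩ := Y.inj hv hv0 iso_u0 u0_ne e
        exact hn ⟨c, hc.symm⟩
    have h3 := Set.ncard_sdiff_add_ncard_of_subset hMA (Set.toFinite A)
    rw [← e, hM] at h3
    exact h3
  have e3 : Nat.card {x : G // x ∈ near D s ∧ x ≠ L u0 ∧ Commute x (L u0)} =
      (near D s ∩ near D (L u0)).ncard := by
    rw [← Nat.card_coe_set_eq]
    exact Nat.card_congr (Equiv.subtypeEquivRight fun x =>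
      ⟨fun h => ⟨h.1, h.1.1, h.2.1, h.2.2.symm⟩, fun h => ⟨h.1, h.2.2.1, h.2.2.2.symm⟩⟩)
  omega

end

/-! ### The centralizers -/

variable {d : G} {θ : ↥(centralizer ({d} : Set G)) →* Cfsg.PSU 6 F 2} (S : Setup d θ)
include S

theorem conj_closed : ∀ g : G, ∀ x ∈ conjugatesOf d, g * x * g⁻¹ ∈ conjugatesOf d :=
  fun g _ h => conj_mem S g h

/-- The neighbours of a member generate its centralizer. -/
theorem le_loc_self : centralizer ({d} : Set G) ≤ loc (conjugatesOf d) d := by
  classical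
  haveI := (ThreeTransPairs.psu6Simple F hF.card_eq).1
  set H : Subgroup ↥(centralizer ({d} : Set G)) :=
    (loc (conjugatesOf d) d).subgroupOf (centralizer ({d} : Set G)) with hH
  haveI hnormal : H.Normal := ⟨fun x hx c => by
    rw [hH, mem_subgroupOf] at hx ⊢
    have hmap : (loc (conjugatesOf d) d).map (MulAut.conj (c : G)).toMonoidHom ≤
        loc (conjugatesOf d) d := by
      rw [loc, MonoidHom.map_closure]
      refine (closure_le _).mpr ?_
      rintro _ ⟨y, hy, rfl⟩
      have hc : (c : G) * d * (c : G)⁻¹ = d :=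
        mul_inv_eq_iff_eq_mul.mpr (mem_centralizer_singleton_iff.mp c.2)
      have := (conj_near (conj_closed S) (c : G) (x := d)).mpr hy
      rw [hc] at this
      exact subset_closure this
    exact hmap ⟨_, hx, rfl⟩⟩
  obtain ⟨L, Y, hL⟩ := exists_pts S
  have hmap : H.map θ = ⊤ := by
    rcases (hnormal.map θ S.cov.surj).eq_bot_or_eq_top with e | e
    · exfalso
      obtain ⟨hc, eq⟩ := hL u0 iso_u0 u0_ne
      have : θ ⟨L u0, hc⟩ ∈ H.map θ :=
        mem_map_of_mem θ (mem_subgroupOf.mpr (subset_closure (Y.mem iso_u0 u0_ne)))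
      rw [e, mem_bot, eq] at this
      exact pi_T_ne S iso_u0 u0_ne this
    · exact e
  have hcases : ∀ x : ↥(centralizer ({d} : Set G)), (x : ↥(centralizer ({d} : Set G)) ⧸ H) = 1 ∨
      (x : ↥(centralizer ({d} : Set G)) ⧸ H) = (dd d : ↥(centralizer ({d} : Set G)) ⧸ H) := by
    intro x
    obtain ⟨k, hk, e⟩ := hmap.ge (mem_top (θ x))
    have hk' : (k : ↥(centralizer ({d} : Set G)) ⧸ H) = 1 := (QuotientGroup.eq_one_iff k).mpr hk
    rcases S.cov.fib e.symm with rfl | rfl
    · exact Or.inl hk'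
    · right; rw [QuotientGroup.mk_mul, hk', mul_one]
  have hcomm : ∀ a b : ↥(centralizer ({d} : Set G)) ⧸ H, a * b = b * a := by
    intro a b
    induction a using QuotientGroup.induction_on with | H a => ?_
    induction b using QuotientGroup.induction_on with | H b => ?_
    rcases hcases a with e | e <;> rcases hcases b with e' | e' <;> simp [e, e']
  have hle : commutator ↥(centralizer ({d} : Set G)) ≤ H := by
    rw [_root_.commutator_def, commutator_le]
    intro a _ b _
    refine (QuotientGroup.eq_one_iff _).mp ?_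
    simp only [commutatorElement_def, QuotientGroup.mk_mul, QuotientGroup.mk_inv]
    rw [hcomm (a : ↥(centralizer ({d} : Set G)) ⧸ H) b]
    group
  intro x hx
  have := hle (S.cov.perfect.commutator_eq_top.ge (mem_top ⟨x, hx⟩))
  exact mem_subgroupOf.mp this

omit hF S in
theorem map_centralizer (g s : G) :
    (centralizer ({s} : Set G)).map (MulAut.conj g).toMonoidHom = centralizer ({g * s * g⁻¹} : Set G) := by
  ext x
  constructor
  · rintro ⟨y, hy, rfl⟩
    exact mem_centralizer_singleton_iff.mpr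
      ((Commute.conj_iff g).mpr (mem_centralizer_singleton_iff.mp hy))
  · intro hx
    refine ⟨g⁻¹ * x * g, mem_centralizer_singleton_iff.mpr ?_, by simp [mul_assoc]⟩
    have := (Commute.conj_iff g⁻¹).mpr (mem_centralizer_singleton_iff.mp hx)
    simpa [mul_assoc, Commute, SemiconjBy] using this

theorem centralizer_eq_loc {s : G} (hs : s ∈ conjugatesOf d) :
    centralizer ({s} : Set G) = loc (conjugatesOf d) s := by
  refine le_antisymm ?_ ((closure_le _).mpr fun y hy =>
    mem_centralizer_singleton_iff.mpr hy.2.2.symm.eq)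
  obtain ⟨g, rfl⟩ := isConj_iff.mp hs
  rw [← map_centralizer g d]
  refine (Subgroup.map_mono (le_loc_self S)).trans ?_
  rw [loc, MonoidHom.map_closure]
  refine closure_mono ?_
  rintro _ ⟨y, hy, rfl⟩
  exact (conj_near (conj_closed S) g).mpr hy

theorem perfect_le {s : G} (hs : s ∈ conjugatesOf d) :
    centralizer ({s} : Set G) ≤ ⁅centralizer ({s} : Set G), centralizer ({s} : Set G)⁆ := by
  obtain ⟨g, rfl⟩ := isConj_iff.mp hs
  rw [← map_centralizer g d, ← Subgroup.map_commutator]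
  refine Subgroup.map_mono ?_
  have h1 := congrArg (Subgroup.map (centralizer ({d} : Set G)).subtype) S.cov.perfect.commutator_eq_top
  rw [_root_.commutator_def, Subgroup.map_commutator, ← MonoidHom.range_eq_map, Subgroup.range_subtype] at h1
  exact h1.ge

theorem ncard_near_all {s : G} (hs : s ∈ conjugatesOf d) : (near (conjugatesOf d) s).ncard = 693 := by
  obtain ⟨L, Y⟩ := exists_web S s hs
  exact ncard_near Y

theorem near_trans {s a b : G} (hs : s ∈ conjugatesOf d) (ha : a ∈ near (conjugatesOf d) s)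
    (hb : b ∈ near (conjugatesOf d) s) : ∃ k, Commute k s ∧ k * a * k⁻¹ = b := by
  obtain ⟨g, rfl⟩ := isConj_iff.mp hs
  have key : ∀ {y}, y ∈ near (conjugatesOf d) (g * d * g⁻¹) →
      g⁻¹ * y * g ∈ near (conjugatesOf d) d := fun {y} hy => by
    rw [← conj_near (conj_closed S) g]
    rwa [show g * (g⁻¹ * y * g) * g⁻¹ = y by group]
  obtain ⟨⟨c, hc⟩, e⟩ := Unit62Near55.near_conj S.cov S.nwc
    (x := ⟨g⁻¹ * a * g, mem_centralizer_singleton_iff.mpr (key ha).2.2.symm.eq⟩)
    (y := ⟨g⁻¹ * b * g, mem_centralizer_singleton_iff.mpr (key hb).2.2.symm.eq⟩)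
    (key ha).1 (key ha).2.1 (key hb).1 (key hb).2.1
  refine ⟨g * c * g⁻¹, (Commute.conj_iff g).mpr (mem_centralizer_singleton_iff.mp hc), ?_⟩
  have e' : c * (g⁻¹ * a * g) * c⁻¹ = g⁻¹ * b * g := congrArg Subtype.val e
  calc g * c * g⁻¹ * a * (g * c * g⁻¹)⁻¹ = g * (c * (g⁻¹ * a * g) * c⁻¹) * g⁻¹ := by group
    _ = b := by rw [e']; group

theorem ncard_adjacent {s a : G} (hs : s ∈ conjugatesOf d) (ha : a ∈ near (conjugatesOf d) s) :
    (near (conjugatesOf d) s ∩ near (conjugatesOf d) a).ncard = 180 := by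
  obtain ⟨L, Y⟩ := exists_web S s hs
  obtain ⟨k, hk, rfl⟩ := near_trans S hs (Y.mem iso_u0 u0_ne) ha
  rw [← ncard_inter_u0 Y]
  conv_rhs => rw [← Set.ncard_image_of_injective _ (MulAut.conj k).injective]
  congr 1
  have hks : k * s * k⁻¹ = s := mul_inv_eq_iff_eq_mul.mpr hk.eq
  conv_lhs => rw [← hks]
  ext y
  refine ⟨fun hy => ⟨k⁻¹ * y * k, ?_, by simp [mul_assoc]⟩, ?_⟩
  · constructor <;> rw [← conj_near (conj_closed S) k, show k * (k⁻¹ * y * k) * k⁻¹ = y by group]
    exacts [hy.1, hy.2]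
  · rintro ⟨x, hx, rfl⟩
    exact ⟨(conj_near (conj_closed S) k).mpr hx.1, (conj_near (conj_closed S) k).mpr hx.2⟩

/-- Only `1` and `s` commute with `s` and all its neighbours. -/
theorem only {s z : G} (hs : s ∈ conjugatesOf d) (hz : Commute s z)
    (hzc : ∀ y ∈ near (conjugatesOf d) s, Commute y z) : z = 1 ∨ z = s := by
  obtain ⟨g, rfl⟩ := isConj_iff.mp hs
  set w := g⁻¹ * z * g with hw
  have hzw : z = g * w * g⁻¹ := by rw [hw]; group
  have hdw : Commute d w := (Commute.conj_iff g).mp (by rwa [← hzw])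
  have hwc : w ∈ centralizer ({d} : Set G) := mem_centralizer_singleton_iff.mpr hdw.symm.eq
  have hcen : (⟨w, hwc⟩ : ↥(centralizer ({d} : Set G))) ∈ Subgroup.center _ := by
    refine mem_center_iff.mpr fun x => Subtype.ext ?_
    have hle : loc (conjugatesOf d) d ≤ centralizer ({w} : Set G) := (closure_le _).mpr fun y hy =>
      mem_centralizer_singleton_iff.mpr
        ((Commute.conj_iff g).mp (by rw [← hzw]; exact hzc _ ((conj_near (conj_closed S) g).mpr hy))).eq
    exact mem_centralizer_singleton_iff.mp (hle (le_loc_self S x.2))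
  haveI := (ThreeTransPairs.psu6Simple F hF.card_eq).1
  have hθ : θ ⟨w, hwc⟩ ∈ Subgroup.center (Cfsg.PSU 6 F 2) := by
    refine mem_center_iff.mpr fun x => ?_
    obtain ⟨x, rfl⟩ := S.cov.surj x
    rw [← map_mul, ← map_mul, mem_center_iff.mp hcen x]
  have hbot : Subgroup.center (Cfsg.PSU 6 F 2) = ⊥ := by
    refine (inferInstance : (Subgroup.center (Cfsg.PSU 6 F 2)).Normal).eq_bot_or_eq_top.resolve_right
      fun e => ?_
    obtain ⟨x, y, hxy⟩ := (ThreeTransPairs.psu6Simple F hF.card_eq).2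
    exact hxy ((mem_center_iff.mp (e ▸ mem_top y)) x)
  rw [hbot, mem_bot] at hθ
  rcases (S.cov.ker _).mp hθ with e | e
  · left; rw [hzw, show w = 1 from congrArg Subtype.val e]; group
  · right; rw [hzw, show w = d from congrArg Subtype.val e]

theorem center_eq_bot : Subgroup.center G = ⊥ := by
  rw [eq_bot_iff]
  intro z hz
  have hc : ∀ x : G, Commute x z := fun x => mem_center_iff.mp hz x
  rcases only S (IsConj.refl d) (hc d) (fun y _ => hc y) with e | e
  · exact e
  · obtain ⟨g, -, hg⟩ := S.nwc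
    subst e
    exact absurd (by rw [(hc g).eq, mul_inv_cancel_right]) hg

end Cfsg.Agent.Fi22RecogLocal11
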