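import Cfsg.Agent.Lib.Fi22ConnFix80
import Cfsg.Agent.Lib.Fi22RecogLocal11

/-!
# The commuting graph of the class is connected

With centralizer a double cover of `PSU(6,2)` the component of `d` has `3510` members, so it is the whole
class: every two non-commuting conjugates of `d` have a common neighbour.
-/

set_option autoImplicit false
set_option linter.unusedSectionVars false

namespace Cfsg.Agent.Fi22ConnSetup80

open Cfsg.Agent.ThreeTransDescent Cfsg.Agent.UnitaryF4Geo
open Cfsg.Agent.Fi22RecogWebGeo11 Cfsg.Agent.Fi22RecogWebCount11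
open Cfsg.Agent.Fi22RecogBridge11 Cfsg.Agent.Fi22RecogLocal11

variable {G : Type*} [Group G] [Finite G] {d : G}
variable {F : Type} [Field F] [Fintype F] [hF : FourField F]
variable {θ : ↥(Subgroup.centralizer ({d} : Set G)) →* Cfsg.PSU 6 F 2}

/-- Adjacent or equal members of `D`. -/
def Adj (D : Set G) (x x' : G) : Prop := x ∈ D ∧ x' ∈ D ∧ Commute x x'

/-- The component of `d` in the commuting graph of its class. -/
def comp (d : G) : Set G :=
  {x | x ∈ conjugatesOf d ∧ Relation.ReflTransGen (Adj (conjugatesOf d)) d x}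

theorem adj_symm {D : Set G} {x y : G} (h : Relation.ReflTransGen (Adj D) x y) :
    Relation.ReflTransGen (Adj D) y x := by
  induction h with
  | refl => exact .refl
  | tail _ h ih => exact .head ⟨h.2.1, h.1, h.2.2.symm⟩ ih

variable (S : Setup d θ)
include S

theorem order_two {x : G} (hx : x ∈ conjugatesOf d) : orderOf x = 2 := by
  refine orderOf_eq_prime (by rw [pow_two]; exact Fi22RecogBridge11.sq S hx) fun e => ?_
  obtain ⟨g, hg⟩ := isConj_iff.mp hx
  obtain ⟨k, hk, hne⟩ := S.nwc
  rw [e, conj_eq_one_iff] at hg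
  subst hg
  exact hne (by group)

omit S in
theorem closed : ∀ a ∈ comp d, ∀ b ∈ conjugatesOf d, Commute a b → b ∈ comp d :=
  fun _ ha _ hb hc => ⟨hb, ha.2.tail ⟨ha.1, hb, hc⟩⟩

theorem conj_adj (g : G) {x y : G} (h : Relation.ReflTransGen (Adj (conjugatesOf d)) x y) :
    Relation.ReflTransGen (Adj (conjugatesOf d)) (g * x * g⁻¹) (g * y * g⁻¹) := by
  induction h with
  | refl => exact .refl
  | tail _ h ih => exact ih.tail ⟨conj_mem S g h.1, conj_mem S g h.2.1, (Commute.conj_iff g).mpr h.2.2⟩

theorem block : ∀ g : G, ∀ a ∈ comp d, g * a * g⁻¹ ∈ comp d → ∀ b ∈ comp d, g * b * g⁻¹ ∈ comp d :=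
  fun g _ ha hga _ hb => ⟨conj_mem S g hb.1,
    (hga.2.trans (adj_symm (conj_adj S g ha.2))).trans (conj_adj S g hb.2)⟩

theorem exists_nbr {a b : G} (ha : a ∈ comp d) (hb : b ∈ comp d) (hn : ¬ Commute a b) :
    ∃ c, c ∈ near (conjugatesOf d) a ∧ c ∈ near (conjugatesOf d) b :=
  exists_common (exists_web S) ha.1 ((adj_symm ha.2).trans hb.2) hn

theorem three : ∀ a ∈ comp d, ∀ b ∈ comp d, ¬ Commute a b → (a * b) ^ 3 = 1 := by
  intro a ha b hb hn
  obtain ⟨c, hca, hcb⟩ := exists_nbr S ha hb hn
  have hw := braid (exists_web S) hca.1 (x := a) (y := b)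
    ⟨ha.1, hca.2.1.symm, hca.2.2.symm⟩ ⟨hb.1, hcb.2.1.symm, hcb.2.2.symm⟩ hn
  calc (a * b) ^ 3 = (a * b * a) * (b * a * b) := by rw [pow_three]; group
    _ = (b * a * b) * (b * a * b) := by rw [hw]
    _ = b * a * (b * b) * a * b := by group
    _ = b * (a * a) * b := by rw [Fi22RecogBridge11.sq S hb.1]; group
    _ = 1 := by rw [Fi22RecogBridge11.sq S ha.1, mul_one, Fi22RecogBridge11.sq S hb.1]

theorem ncard_comp : (comp d).ncard = 3510 := by
  classical
  set D := conjugatesOf d with hD
  have hd : d ∈ comp d := ⟨IsConj.refl d, .refl⟩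
  set N := (Set.toFinite (near D d)).toFinset with hN
  set Y := (Set.toFinite {y | y ∈ comp d ∧ ¬ Commute d y}).toFinset with hY
  have hNc : N.card = 693 := by
    rw [hN, ← Set.ncard_eq_toFinset_card, ncard_near_all S hd.1]
  have key := Finset.card_mul_eq_card_mul (s := N) (t := Y) (m := 512) (n := 126)
    (fun t y => y ∈ near D t) (fun t ht => ?_) (fun y hy => ?_)
  · have hsplit : comp d = {d} ∪ near D d ∪ {y | y ∈ comp d ∧ ¬ Commute d y} := by
      ext y
      simp only [Set.mem_union, Set.mem_singleton_iff]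
      constructor
      · intro hy
        by_cases hc : Commute d y
        · by_cases e : y = d
          · exact Or.inl (Or.inl e)
          · exact Or.inl (Or.inr ⟨hy.1, e, hc⟩)
        · exact Or.inr ⟨hy, hc⟩
      · rintro ((rfl | hy) | hy)
        · exact hd
        · exact closed d hd y hy.1 hy.2.2
        · exact hy.1
    rw [hsplit, Set.ncard_union_eq ?_, Set.ncard_union_eq ?_, Set.ncard_singleton,
      ncard_near_all S hd.1, Set.ncard_eq_toFinset_card {y | y ∈ comp d ∧ ¬ Commute d y}
        (Set.toFinite _), ← hY]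
    · omega
    · exact Set.disjoint_singleton_left.mpr fun h => h.2.1 rfl
    · refine Set.disjoint_left.mpr ?_
      rintro y (rfl | hy) hy'
      · exact hy'.2 (Commute.refl _)
      · exact hy'.2 hy.2.2
  · rw [hN, Set.Finite.mem_toFinset] at ht
    have htd : d ∈ near D t := ⟨hd.1, ht.2.1.symm, ht.2.2.symm⟩
    have e : ((Y.bipartiteAbove (fun t y => y ∈ near D t) t : Finset G) : Set G) =
        near D t \ insert d (near D d ∩ near D t) := by
      ext y
      simp only [Finset.coe_bipartiteAbove, hY, Set.Finite.mem_toFinset, Set.mem_setOf_eq,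
        Set.mem_sdiff, Set.mem_insert_iff, Set.mem_inter_iff, not_or, not_and]
      constructor
      · rintro ⟨⟨hy, hc⟩, hyt⟩
        exact ⟨hyt, fun e => hc (e ▸ Commute.refl d), fun h => absurd h.2.2 hc⟩
      · rintro ⟨hyt, hne, hn⟩
        exact ⟨⟨closed t (closed d hd t ht.1 ht.2.2) y hyt.1 hyt.2.2,
          fun hc => hn ⟨hyt.1, hne, hc⟩ hyt.1 hyt.2.1 hyt.2.2⟩, hyt⟩
    rw [← Set.ncard_coe_finset, e]
    have h1 := Set.ncard_sdiff_add_ncard_of_subset (s := insert d (near D d ∩ near D t)) (t := near D t)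
      (Set.insert_subset htd Set.inter_subset_right) (Set.toFinite _)
    rw [Set.ncard_insert_of_notMem (fun h => h.1.2.1 rfl) (Set.toFinite _),
      ncard_adjacent S hd.1 ht, ncard_near_all S ht.1] at h1
    omega
  · rw [hY, Set.Finite.mem_toFinset] at hy
    obtain ⟨hy, hc⟩ := hy
    have e : ((N.bipartiteBelow (fun t y => y ∈ near D t) y : Finset G) : Set G) =
        near D d ∩ near D y := by
      ext t
      simp only [Finset.coe_bipartiteBelow, hN, Set.Finite.mem_toFinset, Set.mem_setOf_eq,
        Set.mem_inter_iff]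
      exact and_congr_right fun ht => ⟨fun h => ⟨ht.1, h.2.1.symm, h.2.2.symm⟩,
        fun h => ⟨hy.1, h.2.1.symm, h.2.2.symm⟩⟩
    rw [← Set.ncard_coe_finset, e]
    exact mu (exists_web S) hd.1 hy.1 hy.2 hc

/-- The component is the whole class. -/
theorem comp_eq : comp d = conjugatesOf d :=
  (Fi22ConnFix80.conn_of_web (exists_web S) (fun _ hx => order_two S hx)
    (fun g _ hx => conj_mem S g hx) (fun _ ha _ hb => isConj_iff.mp (ha.symm.trans hb))
    (fun _ hx => hx.1) closed (block S) (three S)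
    (fun _ ha => (centralizer_eq_loc S ha.1).le) (fun _ ha => perfect_le S ha.1)
    (fun _ ha _ hz hzc => only S ha.1 hz hzc) (by rw [ncard_comp S])).eq

/-- Any two conjugates are joined by commuting steps. -/
theorem connected {x y : G} (hx : x ∈ conjugatesOf d) (hy : y ∈ conjugatesOf d) :
    Relation.ReflTransGen (fun a b => a ∈ conjugatesOf d ∧ b ∈ conjugatesOf d ∧ Commute a b) x y := by
  rw [← comp_eq S] at hx hy
  exact (adj_symm hx.2).trans hy.2

/-- Non-commuting conjugates braid. -/
theorem braid_all {x y : G} (hx : x ∈ conjugatesOf d) (hy : y ∈ conjugatesOf d)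
    (hn : ¬ Commute x y) : x * y * x = y * x * y := by
  obtain ⟨c, hca, hcb⟩ := exists_common (exists_web S) hx (connected S hx hy) hn
  exact braid (exists_web S) hca.1 ⟨hx, hca.2.1.symm, hca.2.2.symm⟩
    ⟨hy, hcb.2.1.symm, hcb.2.2.symm⟩ hn

/-- The conjugates have 126 common neighbours for each non-commuting pair. -/
theorem mu_all {x y : G} (hx : x ∈ conjugatesOf d) (hy : y ∈ conjugatesOf d)
    (hn : ¬ Commute x y) : (near (conjugatesOf d) x ∩ near (conjugatesOf d) y).ncard = 126 :=
  mu (exists_web S) hx hy (connected S hx hy) hn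

theorem ncard_class : (conjugatesOf d).ncard = 3510 := comp_eq S ▸ ncard_comp S

end Cfsg.Agent.Fi22ConnSetup80
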