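import Cfsg.Agent.Lib.CosetCertFi22Simple
import Cfsg.Agent.Lib.CosetCertSpanLower41
import Cfsg.Agent.Lib.CosetCertRestrict
import Cfsg.Agent.Lib.CosetCertFi23W6Sgs
import Cfsg.Agent.Lib.CosetCertFi23W6
import Cfsg.Agent.Lib.CosetCertFi23M2
import Cfsg.Agent.Lib.CosetCertFi23M3
import Cfsg.Agent.Lib.CosetCertFi23M4
import Cfsg.Agent.Lib.CosetCertFi23MA

/-!
Central extensions of the presented group Fi22 by involutions, in which the generators lift to
involutions with the Coxeter relations: the spider lifts to one, so the derived subgroup meets the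
kernel in at most two elements.
-/

set_option autoImplicit false
set_option maxRecDepth 100000
set_option synthInstance.maxSize 2000
set_option linter.style.haveILetI false

namespace Cfsg.Agent.Fi22Lift58

open Cfsg.Agent.CosetCertCore Cfsg.Agent.CosetCertTable Cfsg.Agent.CosetCertPres
open Cfsg.Agent.CosetCertOrder Cfsg.Agent.CosetCertSpanLower41
open scoped commutatorElement

/-- The presentation. -/
abbrev P22 : Pres := CosetCertFi22UData.pres

theorem good : P22.Good := CosetCertFi22Simple.good

/-! ### The lower bound for the subgroup on `bcdefh` -/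

theorem lowW6_4 : 2 ≤ Nat.card (fixing (rho CosetCertFi23W6.enumerated).range [3, 2, 1, 0]) :=
  le_of_eq_of_le (by decide +kernel) (stage_le CosetCertFi23W6.enumerated (E := CosetCertFi23W6SgsData.elts) CosetCertFi23W6Sgs.words_ok CosetCertFi23W6Sgs.elts_ok
    (b := 4) (n := 2) (by decide +kernel) CosetCertFi23W6Sgs.fix4 CosetCertFi23W6Sgs.stage4_ok CosetCertFi23W6Sgs.stage4_count (Nat.succ_le_of_lt Nat.card_pos))

theorem lowW6_3 : 12 ≤ Nat.card (fixing (rho CosetCertFi23W6.enumerated).range [2, 1, 0]) :=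
  le_of_eq_of_le (by decide +kernel) (stage_le CosetCertFi23W6.enumerated (E := CosetCertFi23W6SgsData.elts) CosetCertFi23W6Sgs.words_ok CosetCertFi23W6Sgs.elts_ok
    (b := 3) (n := 6) (by decide +kernel) CosetCertFi23W6Sgs.fix3 CosetCertFi23W6Sgs.stage3_ok CosetCertFi23W6Sgs.stage3_count lowW6_4)

theorem lowW6_2 : 120 ≤ Nat.card (fixing (rho CosetCertFi23W6.enumerated).range [1, 0]) :=
  le_of_eq_of_le (by decide +kernel) (stage_le CosetCertFi23W6.enumerated (E := CosetCertFi23W6SgsData.elts) CosetCertFi23W6Sgs.words_ok CosetCertFi23W6Sgs.elts_ok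
    (b := 2) (n := 10) (by decide +kernel) CosetCertFi23W6Sgs.fix2 CosetCertFi23W6Sgs.stage2_ok CosetCertFi23W6Sgs.stage2_count lowW6_3)

theorem lowW6_1 : 1920 ≤ Nat.card (fixing (rho CosetCertFi23W6.enumerated).range [0]) :=
  le_of_eq_of_le (by decide +kernel) (stage_le CosetCertFi23W6.enumerated (E := CosetCertFi23W6SgsData.elts) CosetCertFi23W6Sgs.words_ok CosetCertFi23W6Sgs.elts_ok
    (b := 1) (n := 16) (by decide +kernel) CosetCertFi23W6Sgs.fix1 CosetCertFi23W6Sgs.stage1_ok CosetCertFi23W6Sgs.stage1_count lowW6_2)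

theorem lowW6_0 : 51840 ≤ Nat.card (fixing (rho CosetCertFi23W6.enumerated).range []) :=
  le_of_eq_of_le (by decide +kernel) (stage_le CosetCertFi23W6.enumerated (E := CosetCertFi23W6SgsData.elts) CosetCertFi23W6Sgs.words_ok CosetCertFi23W6Sgs.elts_ok
    (b := 0) (n := 27) (by decide +kernel) CosetCertFi23W6Sgs.fix0 CosetCertFi23W6Sgs.stage0_ok CosetCertFi23W6Sgs.stage0_count lowW6_1)

/-- The points moved as those of the Coxeter group on `bcdefh`. -/
def emb : List Nat := [154, 120, 89, 63, 45, 90, 31, 67, 49, 93, 71, 122, 98, 99, 155, 126, 128, 159, 160, 199, 200, 249, 250, 314, 398, 506, 637]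

theorem lower : 51840 ≤ Nat.card (span P22.gg [1, 2, 3, 4, 5, 7]) := by
  haveI : Finite P22.Grp := Nat.finite_of_card_ne_zero (by
    rw [CosetCertFi22Simple.card_and_faithful.1]; decide)
  refine le_trans lowW6_0 ?_
  show Nat.card (rho CosetCertFi23W6.enumerated).range ≤ _
  exact card_range_le CosetCertFi22U.enumerated CosetCertFi23W6.enumerated (by decide +kernel) (e := emb)
    (by decide +kernel) (by decide +kernel) (by decide +kernel)

/-! ### Lifts -/

/-- The spider word. -/
abbrev sw : List Nat := (List.replicate 10 [3, 2, 1, 3, 4, 5, 3, 7, 8]).flatten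

/-- The first word on a diagram of type E7. -/
abbrev cw : List Nat := (List.replicate 9 [0, 1, 2, 3, 4, 5, 7]).flatten

/-- The second word on a diagram of type E7. -/
abbrev cw' : List Nat := (List.replicate 9 [1, 2, 3, 4, 5, 6, 7]).flatten

/-- The relator words of the Coxeter graph. -/
abbrev coxWords : List (List Nat) :=
  (List.range 9).flatMap fun i => (List.range (9 - i)).map fun d => P22.pairWord i (i + d)

theorem relWords_cases : ∀ w ∈ P22.relWords, w ∈ coxWords ∨ w = sw ∨ w = cw ∨ w = cw' := by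
  decide +kernel

/-- Involutions over the generators with the Coxeter relations. -/
structure Lifts {P : Type*} [Group P] (π : P →* P22.Grp) (u : Nat → P) : Prop where
  map : ∀ x, π (u x) = P22.gg x
  sq : ∀ x, u x * u x = 1
  pair : ∀ w ∈ coxWords, val u w = 1

section

variable {P : Type} [Group P] {π : P →* P22.Grp}

variable (hc : ∀ z : P, π z = 1 → (∀ g, g * z = z * g) ∧ z * z = 1) {u : Nat → P} (hu : Lifts π u)

include hu in
theorem map_val (w : List Nat) : π (val u w) = val P22.gg w := by
  unfold val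
  rw [map_list_prod, List.map_map]
  exact congrArg List.prod (List.map_congr_left fun x _ => hu.map x)

include hu in
theorem val_ker {w : List Nat} (hw : w ∈ P22.relWords) : π (val u w) = 1 := by
  rw [map_val hu, val_relWords good hw]

include hu in
theorem cert_rels {C : Cert} {σ : List Nat}
    (h : (C.rels.all fun w => coxWords.contains (w.map (ren σ))) = true) :
    ∀ w ∈ C.rels, val u (w.map (ren σ)) = 1 := by
  intro w hw
  have := List.all_eq_true.mp h w hw
  simp only [List.contains_eq_mem, decide_eq_true_eq] at this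
  exact hu.pair _ this

theorem sgens_of {C : Cert} {σ τ : List Nat}
    (h : C.sgens.map (List.map (ren σ)) = τ.map fun i => [i]) :
    ∀ w ∈ C.sgens, val u (w.map (ren σ)) ∈ span u τ := by
  intro w hw
  have h1 : w.map (ren σ) ∈ τ.map fun i => [i] := h ▸ List.mem_map_of_mem hw
  obtain ⟨i, hi, hiw⟩ := List.mem_map.mp h1
  rw [← hiw, val_cons, val_nil, mul_one]
  exact Subgroup.subset_closure ⟨i, hi, rfl⟩

include hu in
theorem bound6 : Finite (span u [1, 2, 3, 4, 5, 7]) ∧ Nat.card (span u [1, 2, 3, 4, 5, 7]) ≤ 51840 := by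
  have h4 := span_card_le u hu.sq CosetCertFi23M4.closed (σ := [1, 2, 3, 4]) (by decide +kernel) (by simp)
    (cert_rels hu (by decide +kernel)) (τ := []) (by decide +kernel) (sgens_of (by decide +kernel))
    (span_nil_card _)
  have h3 := span_card_le u hu.sq CosetCertFi23M3.closed (σ := [1, 2, 3, 4, 7]) (by decide +kernel) (by simp)
    (cert_rels hu (by decide +kernel)) (τ := [1, 2, 3, 4]) (by decide +kernel) (sgens_of (by decide +kernel)) h4
  have h2 := span_card_le u hu.sq CosetCertFi23M2.closed (σ := [1, 2, 3, 4, 5, 7]) (by decide +kernel) (by simp)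
    (cert_rels hu (by decide +kernel)) (τ := [1, 2, 3, 4, 7]) (by decide +kernel) (sgens_of (by decide +kernel)) h3
  exact ⟨h2.1, h2.2.trans_eq (by decide +kernel)⟩

include hc hu in
theorem spider_pow_mem : val u sw ^ 3 ∈ span u [1, 2, 3, 4, 5, 7] := by
  let σ : List Nat := [1, 2, 3, 4, 5, 7, 8]
  let g : Nat → P := fun x => u (ren σ x)
  have hv : ∀ r : List Nat, val g r = val u (r.map (ren σ)) := fun r => by
    unfold val; rw [List.map_map]; rfl
  have hz := hc _ (val_ker hu (w := sw) (by decide +kernel))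
  have hsg : ∀ r ∈ CosetCertFi23MAData.cert.sgens, val g r ∈ span u [1, 2, 3, 4, 5, 7] := by
    intro r hr
    rw [hv]
    exact sgens_of (by decide +kernel) r hr
  have hrels : ∀ r ∈ CosetCertFi23MAData.cert.rels, val g r = 1 := by
    intro r hr
    have := List.all_eq_true.mp (show (CosetCertFi23MAData.cert.rels.all fun r =>
      coxWords.contains (r.map (ren σ)) || (r.map (ren σ) ==
        sw ++ [ren σ (r.getD (r.length - 1) 0)] ++ sw.reverse ++ [ren σ (r.getD (r.length - 1) 0)]))
      = true by decide +kernel) r hr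
    simp only [Bool.or_eq_true, List.contains_eq_mem, decide_eq_true_eq, beq_iff_eq] at this
    rw [hv]
    rcases this with h | h
    · exact hu.pair _ h
    · rw [h, val_append, val_append, val_append, val_reverse u hu.sq]
      simp only [val_cons, val_nil, mul_one]
      calc val u sw * u _ * (val u sw)⁻¹ * u _
          = u _ * val u sw * (val u sw)⁻¹ * u _ := by rw [← hz.1]
        _ = 1 := by rw [mul_inv_cancel_right, hu.sq]
  have hctx : Ctx g ((1 : P) : P ⧸ span u [1, 2, 3, 4, 5, 7]) CosetCertFi23MAData.cert :=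
    ctx_of g _ (fun x => hu.sq _) hrels hsg
  have h := CosetCertFi23MA.word_fixes g _ hctx
  rw [act_eq _ (fun x => hu.sq _)] at h
  change (((val g _)⁻¹ * 1 : P) : P ⧸ span u [1, 2, 3, 4, 5, 7]) = _ at h
  rw [mul_one, eq_comm, QuotientGroup.eq, inv_one, one_mul, inv_mem_iff, hv,
    show CosetCertFi23MAData.word.map (ren σ) = (List.replicate 3 sw).flatten by decide +kernel,
    val_replicate] at h
  exact h

include hc hu in
/-- The spider lifts to one. -/
theorem spider_one : val u sw = 1 := by
  have hzk : π (val u sw) = 1 := val_ker hu (by decide +kernel)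
  have h2 : val u sw * val u sw = 1 := (hc _ hzk).2
  have h3 := spider_pow_mem hc hu
  rw [show val u sw ^ 3 = val u sw by rw [pow_succ, pow_two, h2, one_mul]] at h3
  haveI := (bound6 hu).1
  let f : span u [1, 2, 3, 4, 5, 7] →* P22.Grp := π.comp (span u [1, 2, 3, 4, 5, 7]).subtype
  have hrange : span P22.gg [1, 2, 3, 4, 5, 7] ≤ f.range := by
    refine (Subgroup.closure_le _).mpr ?_
    rintro y ⟨i, hi, rfl⟩
    exact ⟨⟨u i, Subgroup.subset_closure ⟨i, hi, rfl⟩⟩, hu.map i⟩
  have hinj : f.ker = ⊥ := by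
    rw [← Subgroup.card_eq_one]
    have hm : Nat.card f.ker * f.ker.index = Nat.card (span u [1, 2, 3, 4, 5, 7]) :=
      Subgroup.card_mul_index f.ker
    rw [Subgroup.index_ker] at hm
    haveI : Finite f.range := Finite.of_surjective _ f.rangeRestrict_surjective
    have hge : 51840 ≤ Nat.card f.range := lower.trans (Subgroup.card_le_of_le hrange)
    have hpos : 0 < Nat.card f.ker := Nat.card_pos
    nlinarith [(bound6 hu).2]
  have h1 : (⟨val u sw, h3⟩ : span u [1, 2, 3, 4, 5, 7]) ∈ f.ker := hzk
  rw [hinj, Subgroup.mem_bot] at h1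
  exact congrArg Subtype.val h1

theorem val_twist {K : Type} [Group K] {κ : K} (hκ : ∀ g, g * κ = κ * g) (v : Nat → K) :
    ∀ w : List Nat, val (fun x => v x * κ) w = val v w * κ ^ w.length
  | [] => by simp [val]
  | x :: w => by
    rw [val_cons, val_cons, val_twist hκ v w, List.length_cons, pow_succ']
    calc v x * κ * (val v w * κ ^ w.length) = v x * (κ * val v w) * κ ^ w.length := by group
      _ = v x * (val v w * κ) * κ ^ w.length := by rw [← hκ]
      _ = _ := by group

theorem pow_sq_one {K : Type} [Group K] {z : K} (hz : z * z = 1) (n : Nat) : z ^ (2 * n) = 1 := by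
  rw [pow_mul, pow_two, hz, one_pow]

include hc hu in
/-- The derived subgroup meets the kernel in at most two elements. -/
theorem derived_ker : ∃ ρ : P, ∀ g ∈ commutator P, π g = 1 → g = 1 ∨ g = ρ := by
  set r2 := val u cw with hr2
  set r3 := val u cw' with hr3
  have k2 := hc _ (val_ker hu (w := cw) (by decide +kernel))
  have k3 := hc _ (val_ker hu (w := cw') (by decide +kernel))
  set ρ := r2 * r3 with hρ
  have hρk : π ρ = 1 := by
    rw [hρ, map_mul, val_ker hu (w := cw) (by decide +kernel),
      val_ker hu (w := cw') (by decide +kernel), one_mul]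
  obtain ⟨hρc, hρ2⟩ := hc ρ hρk
  haveI hN : (Subgroup.zpowers ρ).Normal :=
    ⟨fun n hn g => by
      obtain ⟨k, rfl⟩ := Subgroup.mem_zpowers_iff.mp hn
      rw [((show Commute g ρ from hρc g).zpow_right k).eq, mul_inv_cancel_right]
      exact hn⟩
  let mk := QuotientGroup.mk' (Subgroup.zpowers ρ)
  set κ := mk r2 with hκ
  have hκc : ∀ q, q * κ = κ * q := fun q => by
    obtain ⟨g, rfl⟩ := QuotientGroup.mk'_surjective _ q
    rw [hκ, ← map_mul, ← map_mul, k2.1]
  have hκ2 : κ * κ = 1 := by rw [hκ, ← map_mul, k2.2, map_one]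
  have hκ3 : mk r3 = κ := by
    have h : κ * mk r3 = 1 := by
      rw [hκ, ← map_mul]
      exact (QuotientGroup.eq_one_iff ρ).mpr (Subgroup.mem_zpowers ρ)
    calc mk r3 = κ * κ * mk r3 := by rw [hκ2, one_mul]
      _ = κ := by rw [mul_assoc, h, mul_one]
  let v : Nat → P ⧸ Subgroup.zpowers ρ := fun x => mk (u x) * κ
  have hvsq : ∀ x, v x * v x = 1 := fun x => by
    calc mk (u x) * κ * (mk (u x) * κ) = mk (u x) * (κ * mk (u x)) * κ := by group
      _ = mk (u x) * (mk (u x) * κ) * κ := by rw [← hκc]
      _ = mk (u x * u x) * (κ * κ) := by rw [map_mul]; group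
      _ = 1 := by rw [hu.sq, hκ2, map_one, one_mul]
  have hrel : ∀ w ∈ P22.relWords, val v w = 1 := by
    intro w hw
    have hval : val v w = mk (val u w) * κ ^ w.length := by
      rw [show v = fun x => (mk ∘ u) x * κ from rfl, val_twist hκc]
      congr 1
      unfold val
      rw [map_list_prod, List.map_map]
    rw [hval]
    rcases relWords_cases w hw with h | rfl | rfl | rfl
    · rw [hu.pair w h, map_one, one_mul]
      obtain ⟨n, hn⟩ := (show ∀ w ∈ coxWords, ∃ n ∈ List.range 10, w.length = 2 * n by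
        decide +kernel) w h
      rw [hn.2, pow_sq_one hκ2]
    · rw [spider_one hc hu, map_one, one_mul,
        show sw.length = 2 * 45 by decide +kernel, pow_sq_one hκ2]
    · rw [show cw.length = 2 * 31 + 1 by decide +kernel, pow_succ, pow_sq_one hκ2, one_mul]
      exact hκ2
    · rw [show cw'.length = 2 * 31 + 1 by decide +kernel, pow_succ, pow_sq_one hκ2, one_mul,
        show mk (val u cw') = κ from hκ3]
      exact hκ2
  let θ : P22.Grp →* P ⧸ Subgroup.zpowers ρ := PresentedGroup.toGroup
    (CosetCertRestrict.lift_rels good (by decide +kernel) v hvsq hrel (by decide +kernel))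
  let π' : P ⧸ Subgroup.zpowers ρ →* P22.Grp :=
    QuotientGroup.lift _ π ((Subgroup.zpowers_le).mpr hρk)
  have hsec : ∀ k, π' (θ k) = k := fun k => by
    refine DFunLike.congr_fun (f := π'.comp θ) (g := MonoidHom.id _) ?_ k
    refine PresentedGroup.ext fun a => ?_
    show π' (θ (PresentedGroup.of a)) = PresentedGroup.of a
    rw [show θ (PresentedGroup.of a) = v (P22.gens.idxOf a) from PresentedGroup.toGroup.of _]
    show π' (mk (u _) * κ) = _
    rw [map_mul, show π' (mk (u (P22.gens.idxOf a))) = π (u (P22.gens.idxOf a)) from rfl, hu.map,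
      show π' κ = π r2 from rfl, val_ker hu (w := cw) (by decide +kernel), mul_one, Pres.gg,
      gen_idxOf good]
  refine ⟨ρ, fun g hg hgk => ?_⟩
  have hker : ∀ q, π' q = 1 → ∀ p, Commute p q := by
    intro q hq p
    obtain ⟨x, rfl⟩ := QuotientGroup.mk'_surjective _ q
    obtain ⟨y, rfl⟩ := QuotientGroup.mk'_surjective _ p
    exact (show Commute y x from (hc x hq).1 y).map mk
  have hle : commutator (P ⧸ Subgroup.zpowers ρ) ≤ θ.range := by
    rw [commutator_def, Subgroup.commutator_le]
    intro q₁ _ q₂ _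
    have c₁ := hker ((θ (π' q₁))⁻¹ * q₁) (by rw [map_mul, map_inv, hsec, inv_mul_cancel])
    have c₂ := hker ((θ (π' q₂))⁻¹ * q₂) (by rw [map_mul, map_inv, hsec, inv_mul_cancel])
    refine ⟨⁅π' q₁, π' q₂⁆, ?_⟩
    rw [map_commutatorElement]
    set a := θ (π' q₁)
    set b := θ (π' q₂)
    set k := a⁻¹ * q₁ with hk
    set l := b⁻¹ * q₂ with hl
    rw [show q₁ = a * k by rw [hk, mul_inv_cancel_left],
      show q₂ = b * l by rw [hl, mul_inv_cancel_left]]
    simp only [commutatorElement_def, mul_inv_rev]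
    calc a * b * a⁻¹ * b⁻¹ = a * b * ((k * k⁻¹) * a⁻¹ * b⁻¹) := by group
      _ = a * (b * k) * (k⁻¹ * a⁻¹) * b⁻¹ := by group
      _ = a * k * b * (k⁻¹ * a⁻¹) * b⁻¹ := by rw [(c₁ b).eq]; group
      _ = a * k * b * ((l * (k⁻¹ * a⁻¹)) * l⁻¹) * b⁻¹ := by
        rw [← (c₂ (k⁻¹ * a⁻¹)).eq]; group
      _ = _ := by group
  have hmem : mk g ∈ θ.range := hle (by
    have := Subgroup.mem_map_of_mem mk hg
    refine SetLike.le_def.mp ?_ this
    rw [commutator_def, Subgroup.map_commutator, commutator_def]
    exact Subgroup.commutator_mono le_top le_top)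
  obtain ⟨t, ht⟩ := hmem
  have ht1 : t = 1 := by
    rw [← hsec t, ht]; exact hgk
  rw [ht1, map_one] at ht
  obtain ⟨k, hk⟩ := Subgroup.mem_zpowers_iff.mp ((QuotientGroup.eq_one_iff g).mp ht.symm)
  rcases Int.even_or_odd k with ⟨n, rfl⟩ | ⟨n, rfl⟩
  · exact Or.inl (by rw [← hk, zpow_add, ← (Commute.refl ρ).mul_zpow, hρ2, one_zpow])
  · exact Or.inr (by
      rw [← hk, zpow_add, two_mul, zpow_add, ← (Commute.refl ρ).mul_zpow, hρ2, one_zpow, one_mul,
        zpow_one])

end

/-- The same in a finite group of any universe. -/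
theorem derived_ker' {K : Type*} [Group K] [Finite K] (π : K →* P22.Grp)
    (hc : ∀ z : K, π z = 1 → (∀ g, g * z = z * g) ∧ z * z = 1) {u : Nat → K} (hu : Lifts π u) :
    ∃ ρ : K, ∀ g ∈ commutator K, π g = 1 → g = 1 ∨ g = ρ := by
  classical
  let ι : K →* Equiv.Perm (Fin (Nat.card K)) :=
    (Finite.equivFin K).permCongrHom.toMonoidHom.comp (MulAction.toPermHom K K)
  have hι : Function.Injective ι :=
    (Finite.equivFin K).permCongrHom.injective.comp MulAction.toPerm_injective
  let φ : K ≃* ↥ι.range := MonoidHom.ofInjective hι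
  let π' : ↥ι.range →* P22.Grp := π.comp φ.symm.toMonoidHom
  have hu' : Lifts π' fun x => φ (u x) := ⟨fun x => by
      show π (φ.symm (φ (u x))) = _
      rw [φ.symm_apply_apply, hu.map],
    fun x => by rw [← map_mul, hu.sq, map_one], fun w hw => by
      have : val (fun x => φ (u x)) w = φ (val u w) := by
        unfold val; rw [map_list_prod, List.map_map]; rfl
      rw [this, hu.pair w hw, map_one]⟩
  obtain ⟨ρ, hρ⟩ := derived_ker (π := π') (fun z hz => by
    obtain ⟨z, rfl⟩ := φ.surjective z
    have hz' : π z = 1 := by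
      have : π (φ.symm (φ z)) = 1 := hz
      rwa [φ.symm_apply_apply] at this
    refine ⟨fun g => ?_, by rw [← map_mul, (hc z hz').2, map_one]⟩
    obtain ⟨g, rfl⟩ := φ.surjective g
    rw [← map_mul, ← map_mul, (hc z hz').1 g]) hu'
  refine ⟨φ.symm ρ, fun g hg hg1 => ?_⟩
  have hmem : φ g ∈ commutator ↥ι.range := by
    have h := Subgroup.mem_map_of_mem φ.toMonoidHom hg
    rw [commutator_def, Subgroup.map_commutator] at h
    rw [commutator_def]
    exact Subgroup.commutator_mono le_top le_top h
  rcases hρ (φ g) hmem (by show π (φ.symm (φ g)) = 1; rwa [φ.symm_apply_apply]) with h | h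
  · exact Or.inl (φ.injective (by rw [h, map_one]))
  · exact Or.inr (by rw [← h, φ.symm_apply_apply])

end Cfsg.Agent.Fi22Lift58
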