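import Cfsg.Agent.Lib.Fi22Triple16
import Cfsg.Agent.Lib.MultiplierFi22x16
import Cfsg.Agent.Lib.CosetCertFi23Simple
import Cfsg.Agent.Lib.SchurMultiplierBasic

/-!
The Schur multiplier of the presented group Fi22 is cyclic of order six.
-/

set_option autoImplicit false
set_option maxRecDepth 100000
set_option linter.style.haveILetI false

namespace Cfsg.Agent.Fi22Mult16

open Subgroup

/-- The presented group. -/
abbrev Q22 : CosetCertPres.Pres := CosetCertFi22UData.pres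

theorem double : ∃ (Γ : Type) (_ : Group Γ) (_ : Finite Γ) (σ : Γ →* Q22.Grp),
    Cfsg.IsStemExtension σ ∧ Nat.card σ.ker = 2 := by
  obtain ⟨ψ, ⟨e⟩, -, -, -⟩ := CosetCertFi23Simple.cover
  haveI := CosetCertFi23Simple.card_span.2
  let σ := e.symm.toMonoidHom.comp ψ.rangeRestrict
  have hσ : σ.ker = ψ.ker := by
    ext g
    rw [MonoidHom.mem_ker, MonoidHom.comp_apply, MulEquiv.coe_toMonoidHom, EmbeddingLike.map_eq_one_iff,
      ← MonoidHom.mem_ker, MonoidHom.ker_rangeRestrict]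
  have hcard : Nat.card σ.ker = 2 := by rw [hσ]; exact CosetCertFi23Simple.ker_cases ψ ⟨e⟩
  refine ⟨_, inferInstance, inferInstance, σ,
    ⟨e.symm.surjective.comp ψ.rangeRestrict_surjective, ?_, ?_⟩, hcard⟩
  · intro y hy
    rw [mem_center_iff]
    intro g
    obtain ⟨w, -, hw⟩ := (Nat.card_eq_two_iff' (1 : σ.ker)).mp hcard
    by_cases h1 : y = 1
    · rw [h1, mul_one, one_mul]
    · have hg : g * y * g⁻¹ ∈ σ.ker := σ.normal_ker.conj_mem y hy g
      have e1 := hw ⟨g * y * g⁻¹, hg⟩ fun h => h1 (by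
        have := congrArg Subtype.val h
        simpa using this)
      have e2 := hw ⟨y, hy⟩ fun h => h1 (congrArg Subtype.val h)
      have := congrArg Subtype.val (e1.trans e2.symm)
      simp only at this
      exact mul_inv_eq_iff_eq_mul.mp this
  · rw [CosetCertFi23Simple.span_perfect]; exact le_top

theorem pow_card_ker {A B : Type} [Group A] [Finite A] [Group B] (f : A →* B) {n : ℕ}
    (h : Nat.card f.ker = n) {x : A} (hx : f x = 1) : x ^ n = 1 := by
  have := congrArg Subtype.val (pow_card_eq_one' (x := (⟨x, hx⟩ : f.ker)))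
  rwa [h] at this

/-- Two stem extensions with kernels of orders two and three give one with cyclic kernel of order six. -/
theorem combine {G A B : Type} [Group G] [Group A] [Finite A] [Group B] [Finite B]
    (f : A →* G) (g : B →* G) (hf : Cfsg.IsStemExtension f) (hg : Cfsg.IsStemExtension g)
    (h2 : Nat.card f.ker = 2) (h3 : Nat.card g.ker = 3) :
    ∃ (Γ : Type) (_ : Group Γ) (_ : Finite Γ) (σ : Γ →* G),
      Cfsg.IsStemExtension σ ∧ Nonempty (σ.ker ≃* Multiplicative (ZMod 6)) := by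
  classical
  let Γ : Subgroup (A × B) := (f.comp (MonoidHom.fst A B)).eqLocus (g.comp (MonoidHom.snd A B))
  let σ : Γ →* G := f.comp ((MonoidHom.fst A B).comp Γ.subtype)
  let p1 : Γ →* A := (MonoidHom.fst A B).comp Γ.subtype
  let p2 : Γ →* B := (MonoidHom.snd A B).comp Γ.subtype
  have hp1 : Function.Surjective p1 := fun a => by
    obtain ⟨b, hb⟩ := hg.1 (f a)
    exact ⟨⟨(a, b), hb.symm⟩, rfl⟩
  have hp2 : Function.Surjective p2 := fun b => by
    obtain ⟨a, ha⟩ := hf.1 (g b)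
    exact ⟨⟨(a, b), ha⟩, rfl⟩
  have hker : ∀ q : Γ, q ∈ σ.ker ↔ f (q : A × B).1 = 1 ∧ g (q : A × B).2 = 1 := by
    intro q
    have hq : f (q : A × B).1 = g (q : A × B).2 := q.2
    exact ⟨fun h => ⟨h, hq ▸ h⟩, fun h => h.1⟩
  obtain ⟨y, hy, -⟩ := (Nat.card_eq_two_iff' (1 : f.ker)).mp h2
  haveI : Nontrivial g.ker := Finite.one_lt_card_iff_nontrivial.mp (by rw [h3]; norm_num)
  obtain ⟨t, ht⟩ := exists_ne (1 : g.ker)
  have hoy : orderOf (y : A) = 2 := orderOf_eq_prime (pow_card_ker f h2 y.2) (fun h => hy (Subtype.ext h))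
  haveI : Fact (Nat.Prime 3) := ⟨Nat.prime_three⟩
  have hot : orderOf (t : B) = 3 := orderOf_eq_prime (pow_card_ker g h3 t.2) (fun h => ht (Subtype.ext h))
  let q : σ.ker := ⟨⟨((y : A), (t : B)), y.2.trans t.2.symm⟩, y.2⟩
  have hoq : orderOf q = 6 := by
    rw [← orderOf_coe, ← orderOf_coe]
    show orderOf ((y : A), (t : B)) = 6
    rw [Prod.orderOf, hoy, hot]
    rfl
  have hcard : Nat.card σ.ker = 6 := by
    let F : σ.ker → f.ker × g.ker := fun r =>
      (⟨(r : Γ).1.1, ((hker _).mp r.2).1⟩, ⟨(r : Γ).1.2, ((hker _).mp r.2).2⟩)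
    have hF : Function.Bijective F := by
      refine ⟨fun r s h => ?_, fun ⟨a, b⟩ => ⟨⟨⟨(a.1, b.1), a.2.trans b.2.symm⟩, a.2⟩, rfl⟩⟩
      refine Subtype.ext (Subtype.ext (Prod.ext ?_ ?_))
      · exact congrArg Subtype.val (congrArg Prod.fst h)
      · exact congrArg Subtype.val (congrArg Prod.snd h)
    rw [Nat.card_eq_of_bijective F hF, Nat.card_prod, h2, h3]
  haveI : IsCyclic σ.ker := isCyclic_of_orderOf_eq_card q (by rw [hoq, hcard])
  refine ⟨Γ, inferInstance, inferInstance, σ, ⟨hf.1.comp hp1, ?_, ?_⟩,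
    ⟨(zmodCyclicMulEquiv inferInstance).symm.trans
      (AddEquiv.toMultiplicative (ZMod.ringEquivCongr hcard).toAddEquiv)⟩⟩
  · intro r hr
    obtain ⟨hr1, hr2⟩ := (hker r).mp hr
    rw [mem_center_iff]
    intro s
    exact Subtype.ext (Prod.ext (mem_center_iff.mp (hf.2.1 hr1) _) (mem_center_iff.mp (hg.2.1 hr2) _))
  · intro r hr
    obtain ⟨hr1, hr2⟩ := (hker r).mp hr
    have lift1 : ∀ a ∈ commutator A, ∃ s ∈ commutator Γ, p1 s = a := by
      intro a ha
      rw [_root_.commutator_def, ← Subgroup.map_top_of_surjective p1 hp1, ← Subgroup.map_commutator] at ha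
      exact ha
    have lift2 : ∀ b ∈ commutator B, ∃ s ∈ commutator Γ, p2 s = b := by
      intro b hb
      rw [_root_.commutator_def, ← Subgroup.map_top_of_surjective p2 hp2, ← Subgroup.map_commutator] at hb
      exact hb
    obtain ⟨s1, hs1, e1⟩ := lift1 _ (hf.2.2 hr1)
    obtain ⟨s2, hs2, e2⟩ := lift2 _ (hg.2.2 hr2)
    have e1' : (s1 : A × B).1 = (r : A × B).1 := e1
    have e2' : (s2 : A × B).2 = (r : A × B).2 := e2
    have hs1g : g (s1 : A × B).2 = 1 := by
      rw [← show f (s1 : A × B).1 = g (s1 : A × B).2 from s1.2, e1', hr1]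
    have hs2f : f (s2 : A × B).1 = 1 := by
      rw [show f (s2 : A × B).1 = g (s2 : A × B).2 from s2.2, e2', hr2]
    have hr' : r = s1 ^ 3 * s2 ^ 4 := by
      refine Subtype.ext (Prod.ext ?_ ?_)
      · show (r : A × B).1 = (s1 : A × B).1 ^ 3 * (s2 : A × B).1 ^ 4
        rw [e1', show (4 : ℕ) = 2 * 2 from rfl, pow_mul, pow_card_ker f h2 hs2f, one_pow, mul_one, pow_succ,
          pow_card_ker f h2 hr1, one_mul]
      · show (r : A × B).2 = (s1 : A × B).2 ^ 3 * (s2 : A × B).2 ^ 4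
        rw [pow_card_ker g h3 hs1g, one_mul, e2', pow_succ _ 3, pow_card_ker g h3 hr2, one_mul]
    rw [hr']
    exact mul_mem (pow_mem hs1 3) (pow_mem hs2 4)

/-- The kernels of stem extensions are cyclic of exponent six. -/
theorem upper {Γ : Type} [Group Γ] [Finite Γ] (σ : Γ →* Q22.Grp) (hσ : Cfsg.IsStemExtension σ) :
    ∃ g : σ.ker, g ^ 6 = 1 ∧ ∀ x, x ∈ zpowers g := by
  classical
  letI : CommGroup σ.ker :=
    { (inferInstance : Group σ.ker) with
      mul_comm := fun a b => Subtype.ext (mem_center_iff.1 (hσ.2.1 b.2) a) }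
  haveI : NeZero (Monoid.exponent σ.ker) := ⟨Monoid.exponent_ne_zero_of_finite⟩
  let D : Type := (σ.ker →* ℂˣ) → ℂˣ
  let ev : σ.ker →* D :=
    { toFun := fun w χ => χ w
      map_one' := funext fun χ => χ.map_one
      map_mul' := fun a b => funext fun χ => χ.map_mul a b }
  let ι : σ.ker →* Γ × D := (σ.ker.subtype).prod ev⁻¹
  have hcent : ι.range ≤ center (Γ × D) := by
    rintro _ ⟨w, rfl⟩
    rw [Subgroup.mem_center_iff]
    intro r
    exact Prod.ext (mem_center_iff.1 (hσ.2.1 w.2) r.1) (mul_comm _ _)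
  haveI : ι.range.Normal := ⟨fun a ha g => by
    rw [mem_center_iff.1 (hcent ha) g, mul_inv_cancel_right]; exact ha⟩
  let π : (Γ × D) ⧸ ι.range →* Q22.Grp :=
    QuotientGroup.lift ι.range (σ.comp (MonoidHom.fst _ _)) (by rintro _ ⟨w, rfl⟩; exact w.2)
  have hker : ∀ r ∈ π.ker, ∃ c : D, r = QuotientGroup.mk (1, c) := by
    intro r hr
    obtain ⟨⟨g, c⟩, rfl⟩ := QuotientGroup.mk_surjective r
    have hg : σ g = 1 := hr
    refine ⟨ev ⟨g, hg⟩ * c, (QuotientGroup.eq).2 ⟨(⟨g, hg⟩ : σ.ker)⁻¹, ?_⟩⟩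
    refine Prod.ext ?_ ?_
    · show g⁻¹ = g⁻¹ * 1
      rw [mul_one]
    · show (ev ((⟨g, hg⟩ : σ.ker)⁻¹))⁻¹ = c⁻¹ * (ev ⟨g, hg⟩ * c)
      rw [map_inv, inv_inv, mul_comm _ c, inv_mul_cancel_left]
  have hc : π.ker ≤ center _ := by
    intro r hr
    obtain ⟨c, rfl⟩ := hker r hr
    rw [mem_center_iff]
    intro s
    obtain ⟨⟨g, d⟩, rfl⟩ := QuotientGroup.mk_surjective s
    rw [← QuotientGroup.mk_mul, ← QuotientGroup.mk_mul]
    congr 1
    exact Prod.ext ((mul_one g).trans (one_mul g).symm) (mul_comm d c)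
  obtain ⟨c, -, hc6, hle⟩ := MultiplierFi22x16.bound (π := π)
    (fun k => (hσ.1 k).elim fun g hg => ⟨QuotientGroup.mk (g, 1), hg⟩) hc (fun r hr => by
      obtain ⟨c, rfl⟩ := hker r hr
      have hd : ∀ χ, ∃ d : ℂˣ, d * d = c χ := fun χ => by
        obtain ⟨d, hd⟩ := IsAlgClosed.exists_pow_nat_eq ((c χ : ℂˣ) : ℂ) (n := 2) (by norm_num)
        have hd0 : d ≠ 0 := fun e => (c χ).ne_zero (by rw [← hd, e]; simp)
        exact ⟨Units.mk0 d hd0, Units.ext (by simpa [pow_two] using hd)⟩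
      choose d hd using hd
      refine ⟨QuotientGroup.mk (1, d), map_one σ, ?_⟩
      rw [← QuotientGroup.mk_mul]
      congr 1
      exact Prod.ext (mul_one 1) (funext hd))
  let j : σ.ker →* (Γ × D) ⧸ ι.range :=
    ((QuotientGroup.mk' ι.range).comp (MonoidHom.inl Γ D)).comp σ.ker.subtype
  have hj : ∀ w, j w ∈ zpowers c := by
    intro w
    refine hle ⟨?_, w.2⟩
    have := Subgroup.mem_map_of_mem ((QuotientGroup.mk' ι.range).comp (MonoidHom.inl Γ D)) (hσ.2.2 w.2)
    rw [_root_.commutator_def, Subgroup.map_commutator] at this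
    rw [_root_.commutator_def]
    exact Subgroup.commutator_mono le_top le_top this
  have hinj : Function.Injective j := by
    rw [injective_iff_map_eq_one]
    intro w hw
    obtain ⟨v, hv⟩ := (QuotientGroup.eq_one_iff _).1 hw
    obtain ⟨h1, h2⟩ := Prod.mk.injEq _ _ _ _ ▸ hv
    have hvw : v = w := Subtype.ext h1
    subst hvw
    by_contra hne
    obtain ⟨χ, hχ⟩ := CommGroup.exists_apply_ne_one_of_hasEnoughRootsOfUnity σ.ker ℂ hne
    exact hχ (inv_eq_one.mp (congrFun h2 χ))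
  have hj' : Function.Injective (j.codRestrict (zpowers c) hj) :=
    fun a b h => hinj (congrArg Subtype.val h)
  haveI : IsCyclic σ.ker := isCyclic_of_injective (j.codRestrict (zpowers c) hj) hj'
  obtain ⟨g, hg⟩ := IsCyclic.exists_generator (α := σ.ker)
  refine ⟨g, hinj ?_, hg⟩
  obtain ⟨m, hm⟩ := hj g
  rw [map_pow, map_one, ← hm]
  show (c ^ m) ^ 6 = 1
  rw [← zpow_natCast, ← zpow_mul, mul_comm, zpow_mul, zpow_natCast, hc6, one_zpow]

theorem multiplier : Cfsg.HasCyclicSchurMultiplier Q22.Grp 6 := by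
  obtain ⟨A, _, _, f, hf, h2⟩ := double
  obtain ⟨B, _, _, g, hg, h3⟩ := Fi22Triple16.triple
  refine ⟨combine f g hf hg h2 h3, fun Γ _ _ σ hσ => ?_⟩
  obtain ⟨g, hg6, hgen⟩ := upper σ hσ
  exact SchurMultiplierBasic.exists_surjective_zmod 6 g hg6 hgen

end Cfsg.Agent.Fi22Mult16
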