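import Cfsg.Agent.Lib.ThreeTransM22Exist51
import Cfsg.Agent.Lib.CosetCertFi22Simple

/-!
# A group of type M(22) is the presented group Fi22

The diagram Y332 inside the group satisfies the relators, so the presented group maps to it; the map is
injective by simplicity and surjective by the orders.
-/

set_option autoImplicit false
set_option linter.unusedSectionVars false

namespace Cfsg.Agent.ThreeTransM22Pres51

open Cfsg.Agent.ThreeTransRel
open Cfsg.Agent.CoxMoves51 (val Rels)
open Cfsg.Agent.Fi22Certs51 Cfsg.Agent.ThreeTransM22Pat51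

/-- The number of a generator. -/
def idx : Cfsg.Spor.Fi22.Gen → ℕ
  | .a => 0 | .b => 1 | .c => 2 | .d => 3 | .e => 4 | .f => 5 | .g => 6 | .h => 7 | .i => 8

theorem label_eq : ∀ x y : Cfsg.Spor.Fi22.Gen,
    Cfsg.Spor.coxLabel Cfsg.Spor.Fi22.edges x y = M (idx x) (idx y) := by
  intro x y; cases x <;> cases y <;> decide +kernel

theorem M_cases : ∀ x y : Cfsg.Spor.Fi22.Gen,
    M (idx x) (idx y) = 1 ∧ idx x = idx y ∨ M (idx x) (idx y) = 2 ∨ M (idx x) (idx y) = 3 := by
  intro x y; cases x <;> cases y <;> decide +kernel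

theorem idx_lt (x : Cfsg.Spor.Fi22.Gen) : idx x < 9 := by cases x <;> decide

theorem val_replicate {K : Type*} [Group K] (g : ℕ → K) (w : List ℕ) (n : ℕ) :
    val g (List.replicate n w).flatten = val g w ^ n := by
  induction n with
  | zero => simp [val]
  | succ n ih => rw [List.replicate_succ, List.flatten_cons, CoxMoves51.val_append, ih, pow_succ']

variable {G : Type*} [Group G] [Finite G] {D : Set G}
section

variable (H : Hyp D)
include H

theorem ne_one {a : G} (ha : a ∈ D) : a ≠ 1 := by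
  rintro rfl
  obtain ⟨x, hx, y, hy, hxy⟩ := H.prim.2.1
  obtain ⟨g, rfl⟩ := H.prim.1 1 ha x hx
  obtain ⟨k, rfl⟩ := H.prim.1 1 ha y hy
  exact hxy (by simp)

/-- The order of the group. -/
theorem card_G : Nat.card G = 2 ^ 17 * 3 ^ 9 * 5 ^ 2 * 7 * 11 * 13 := by
  obtain ⟨F, _, _, _, hctx⟩ := H.ctx
  obtain ⟨a, ha, -⟩ := H.prim.2.1
  obtain ⟨φ, X⟩ := hctx a ha
  have hk : ∀ b ∈ D, (RankThreeCount34.nb D b).ncard = 693 := fun b hb => by
    obtain ⟨ψ, Y⟩ := hctx b hb
    exact ThreeTransM22Triples17.ncard_near Y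
  have hl : ∀ b ∈ RankThreeCount34.nb D a,
      (RankThreeCount34.nb D a ∩ RankThreeCount34.nb D b).ncard = 180 := fun b hb => by
    rw [← ThreeTransM22Triples17.ncard_pair X hb]
    congr 1
    ext y
    exact ⟨fun h => ⟨h.1, h.2.2.1, h.2.2.2.symm⟩, fun h => ⟨h.1, h.1.1, h.2.1, h.2.2.symm⟩⟩
  have hfar := RankThreeCount34.count ha hk hl fun c hc => H.mu a ha c hc.1 hc.2
  have hn : D.ncard = 3510 := by
    rw [RankThreeCount34.ncard_eq ha, hk a ha]
    omega
  have h := ThreeTransM22Triples17.card_eq_mul (⊤ : Subgroup G) D ha (fun k _ => H.ts.conj k a ha)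
    fun y hy => (H.prim.1 a ha y hy).imp fun g hg => ⟨Subgroup.mem_top g, hg⟩
  rw [Subgroup.card_top, top_inf_eq, H.locEq a ha,
    ThreeTransM22Triples17.card_loc X (ne_one H ha), hn] at h
  rw [h]; norm_num

theorem rels_one {v : ℕ → G} (P : Pat D v) :
    ∀ r ∈ Cfsg.Spor.coxRelators Cfsg.Spor.Fi22.edges ∪ {r | r ∈ Cfsg.Spor.Fi22.extra},
      FreeGroup.lift (fun x => gN v (idx x)) r = 1 := by
  have ht := H.ts
  have hR := P.rels ht
  rintro r (⟨x, -, y, -, rfl⟩ | hr)
  · simp only [map_pow, map_mul, FreeGroup.lift_apply_of, label_eq]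
    rcases M_cases x y with ⟨h1, h2⟩ | h2 | h3
    · rw [h1, pow_one, h2, hR.sq]
    · rw [h2, pow_two]
      calc gN v (idx x) * gN v (idx y) * (gN v (idx x) * gN v (idx y))
          = gN v (idx x) * gN v (idx y) * (gN v (idx y) * gN v (idx x)) := by rw [hR.two _ _ h2]
        _ = 1 := by rw [mul_assoc, ← mul_assoc (gN v (idx y)), hR.sq, one_mul, hR.sq]
    · rw [h3]
      calc (gN v (idx x) * gN v (idx y)) ^ 3
          = (gN v (idx x) * gN v (idx y) * gN v (idx x)) *
              (gN v (idx y) * gN v (idx x) * gN v (idx y)) := by simp only [pow_three, mul_assoc]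
        _ = (gN v (idx x) * gN v (idx y) * gN v (idx x)) *
              (gN v (idx x) * gN v (idx y) * gN v (idx x)) := by rw [hR.three _ _ h3]
        _ = gN v (idx x) * gN v (idx y) * (gN v (idx x) * gN v (idx x)) * gN v (idx y) *
              gN v (idx x) := by group
        _ = gN v (idx x) * (gN v (idx y) * gN v (idx y)) * gN v (idx x) := by
              rw [hR.sq, mul_one, ← mul_assoc]
        _ = 1 := by rw [hR.sq, mul_one, hR.sq]
  · have hU := rel_spider H P
    have hz := rel_seven H P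
    have hz' := rel_seven H P.mirror
    have hm : gN (fun i => v (ThreeTransM22Pat51.sigma i)) = fun i => gN v (ThreeTransM22Pat51.sigma i) := by
      funext i
      rcases i with _ | _ | _ | _ | _ | _ | _ | _ | _ | n <;> simp [gN, ThreeTransM22Pat51.sigma]
    rw [wU, val_replicate] at hU
    rw [wz, val_replicate] at hz hz'
    have h7 : val (gN v) [0, 1, 2, 3, 4, 5, 7] ^ 9 = 1 := by
      have e := Fi22Certs51.mirror hR
      rw [val_replicate, val_replicate] at e
      rw [← e, ← hz', hm]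
      rfl
    simp only [Cfsg.Spor.Fi22.extra, Set.mem_setOf_eq, List.mem_cons, List.not_mem_nil, or_false] at hr
    rcases hr with rfl | rfl | rfl
    · rw [← hU]
      simp [val, wu, idx, mul_assoc, Cfsg.Spor.Fi22.a, Cfsg.Spor.Fi22.b, Cfsg.Spor.Fi22.c,
        Cfsg.Spor.Fi22.d, Cfsg.Spor.Fi22.e, Cfsg.Spor.Fi22.f, Cfsg.Spor.Fi22.g, Cfsg.Spor.Fi22.h,
        Cfsg.Spor.Fi22.i]
    · rw [← h7]
      simp [val, idx, mul_assoc, Cfsg.Spor.Fi22.a, Cfsg.Spor.Fi22.b, Cfsg.Spor.Fi22.c,
        Cfsg.Spor.Fi22.d, Cfsg.Spor.Fi22.e, Cfsg.Spor.Fi22.f, Cfsg.Spor.Fi22.g, Cfsg.Spor.Fi22.h,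
        Cfsg.Spor.Fi22.i]
    · rw [← hz]
      simp [val, wz7, idx, mul_assoc, Cfsg.Spor.Fi22.a, Cfsg.Spor.Fi22.b, Cfsg.Spor.Fi22.c,
        Cfsg.Spor.Fi22.d, Cfsg.Spor.Fi22.e, Cfsg.Spor.Fi22.f, Cfsg.Spor.Fi22.g, Cfsg.Spor.Fi22.h,
        Cfsg.Spor.Fi22.i]

/-- A group of type M(22) is isomorphic to the presented group, the generators going to members. -/
theorem exists_equiv_of_hyp : ∃ e : Cfsg.Spor.Fi22 ≃* G, ∀ x, e (PresentedGroup.of x) ∈ D := by
  obtain ⟨v, P⟩ := ThreeTransM22Exist51.exists_pat H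
  let f : Cfsg.Spor.Fi22 →* G := PresentedGroup.toGroup (rels_one H P)
  have hgen : ∀ x, f (PresentedGroup.of x) = v (idx x) := fun x => by
    rw [show f (PresentedGroup.of x) = gN v (idx x) from PresentedGroup.toGroup.of (rels_one H P)]
    exact if_pos (idx_lt x)
  haveI : IsSimpleGroup Cfsg.Spor.Fi22 := CosetCertFi22Simple.simple
  have hinj : Function.Injective f := by
    rw [← MonoidHom.ker_eq_bot_iff]
    refine (f.normal_ker.eq_bot_or_eq_top).resolve_right fun h => ?_
    refine ne_one H (P.mem 0 (by norm_num)) ?_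
    rw [show v 0 = f (PresentedGroup.of .a) from (hgen .a).symm]
    exact (MonoidHom.mem_ker (f := f)).mp (by rw [h]; exact Subgroup.mem_top _)
  have hcard : Nat.card Cfsg.Spor.Fi22 = Nat.card G := by
    rw [card_G H]
    exact CosetCertFi22Simple.card_and_faithful.1.trans (by norm_num)
  refine ⟨MulEquiv.ofBijective f ((Nat.bijective_iff_injective_and_card _).mpr ⟨hinj, hcard⟩),
    fun x => ?_⟩
  rw [MulEquiv.ofBijective_apply, hgen]
  exact P.mem _ (idx_lt x)

end

variable (hD : Cfsg.IsThreeTranspositionGroup D) (hprim : Cfsg.IsPrimitiveUnderConj D)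
  (h22 : Cfsg.IsOfTypeM22 G D)
include hD hprim h22

/-- A group of type M(22) is isomorphic to the presented group, the generators going to members. -/
theorem exists_equiv : ∃ e : Cfsg.Spor.Fi22 ≃* G, ∀ x, e (PresentedGroup.of x) ∈ D :=
  exists_equiv_of_hyp (ThreeTransM22Exist51.hyp_of_type hD hprim h22)

/-- A group of type M(22) is isomorphic to the group of the coset tables. -/
theorem nonempty_mulEquiv : Nonempty (CosetCertFi22UData.pres.Grp ≃* G) := by
  obtain ⟨e, -⟩ := exists_equiv hD hprim h22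
  exact ⟨e⟩

end Cfsg.Agent.ThreeTransM22Pres51
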