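import Cfsg.Agent.Lib.Fi22RecogWebArc11

/-!
# A web has diameter two and two non-commuting members have 126 common neighbours

For two non-commuting members `d`, `y` with a common neighbour `a` there are 45 further ones commuting
with `a`; every other one commutes with 18 of these, so there are `1 + 45 + 80` in all.
-/

set_option autoImplicit false
set_option linter.unusedSectionVars false

namespace Cfsg.Agent.Fi22RecogWebCount11

open Cfsg.Agent.ThreeTransDescent
open Cfsg.Agent.UnitaryF4Geo Cfsg.Agent.UnitaryF4Line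
open Cfsg.Agent.Fi22RecogWebGeo11 Cfsg.Agent.Fi22RecogWebArc11

variable {F : Type} [Field F] [Fintype F] [hF : FourField F]
variable {G : Type*} [Group G] {D : Set G} {d y : G} (P : Pair D F d y)
include P

theorem near_of_ncomm {a b u : G} (hu : u ∈ D) (hb : b ∈ D) (hc : Commute b u) (hua : Commute u a)
    (hn : ¬ Commute b a) : b ∈ near D u :=
  ⟨hb, fun e => hn (e ▸ hua), hc.symm⟩

/-- Diameter two: a member near `y` commutes with some common neighbour. -/
theorem exists_commute {a q : G} (had : a ∈ near D d) (hay : a ∈ near D y) (hq : q ∈ near D y) :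
    ∃ w, w ∈ near D d ∧ w ∈ near D y ∧ Commute q w := by
  obtain ⟨p, hpd, hpy, hpa⟩ := exists_near P had hay
  obtain ⟨L, Y⟩ := P.web y P.ymem
  obtain ⟨u, hu, rfl⟩ := exists_rep P Y had hay
  obtain ⟨v, hv, rfl⟩ := exists_rep P Y hpd hpy
  obtain ⟨x, hx, hx0, rfl⟩ := Y.surj hq
  by_contra hno
  push Not at hno
  refine pairing P Y (q := x) hu hv ((rep_commute P Y hu hv).mp hpa.2.2) hpa.2.1.symm
    fun w hw _ _ e => hno _ hw.2.2 (Y.mem hw.1 hw.2.1) ?_
  exact (Y.comm hx hx0 hw.1 hw.2.1).mpr (h_comm_zero e)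

/-- No line at two commuting members is missed by a further one. -/
theorem exists_on_line {a p b : G} (had : a ∈ near D d) (hay : a ∈ near D y) (hpd : p ∈ near D d)
    (hpy : p ∈ near D y) (hpa : p ∈ near D a) {l : Fin 3 → F → G} (hl : Fan D d y a p l)
    (hbd : b ∈ near D d) (hby : b ∈ near D y) (hba : ¬ Commute b a) (hbp : ¬ Commute b p)
    (k : Fin 3) : ∃ t, Commute b (l k t) := by
  by_contra hno
  push Not at hno
  obtain ⟨L, Y⟩ := P.web y P.ymem
  obtain ⟨vb, hvb, eb⟩ := exists_rep P Y hbd hby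
  have scaled : ∀ z, z ∈ near D d → z ∈ near D y → ¬ Commute b z →
      ∃ u, Rep D d L u ∧ L u = z ∧ h u vb = 1 := fun z hzd hzy hn => by
    obtain ⟨u, hu, e⟩ := exists_rep P Y hzd hzy
    have hk : h u vb ≠ 0 := fun e0 => hn (by
      rw [← e, ← eb]; exact ((rep_commute P Y hu hvb).mpr e0).symm)
    exact ⟨_, rep_smul P Y hu (inv_ne_zero hk), by rw [Y.smul hu.1 hu.2.1 (inv_ne_zero hk), e],
      by rw [h_smul_left, inv_mul_cancel₀ hk]⟩
  obtain ⟨va, hva, ea, hab⟩ := scaled a had hay hba
  obtain ⟨vp, hvp, ep, hpb⟩ := scaled p hpd hpy hbp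
  obtain ⟨vx, hvx, ex, hxb⟩ := scaled _ (hl.mem k 0).1.1 (hl.mem k 0).1.2 (hno 0)
  have hap : h va vp = 0 := by rw [← rep_commute P Y hva hvp, ea, ep]; exact hpa.2.2
  have hne : L va ≠ L vp := by rw [ea, ep]; exact hpa.2.1.symm
  have infan : ∀ w, Rep D d L w → h w va = 0 → h w vp = 0 → L w ≠ a → L w ≠ p →
      ∃ k t, l k t = L w := fun w hw h1 h2 n1 n2 =>
    hl.surj _ hw.2.2 (Y.mem hw.1 hw.2.1)
      ⟨hw.2.2.1, n1, by rw [← ea]; exact ((rep_commute P Y hw hva).mpr h1).symm⟩
      ⟨hw.2.2.1, n2, by rw [← ep]; exact ((rep_commute P Y hw hvp).mpr h2).symm⟩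
  have nz : ∀ w, Rep D d L w → L w = a ∨ L w = p → h w vb ≠ 0 := fun w hw he e0 => by
    have hc := ((rep_commute P Y hw hvb).mpr e0).symm
    rw [eb] at hc
    rcases he with e | e <;> rw [e] at hc
    · exact hba hc
    · exact hbp hc
  refine pairing P Y (q := vb) hva hvp hap hne fun w hw h1 h2 hw0 => ?_
  refine zero_third P Y hva hvp hvb hvx hw hap hne hab hpb hxb ?_ ?_ ?_ ?_ ?_ h1 h2 hw0
  · rw [← rep_commute P Y hva hvx, ea, ex]; exact (hl.mem k 0).2.1.2.2
  · rw [← rep_commute P Y hvp hvx, ep, ex]; exact (hl.mem k 0).2.2.2.2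
  · rw [ea, ex]; exact (hl.mem k 0).2.1.2.1.symm
  · rw [ep, ex]; exact (hl.mem k 0).2.2.2.1.symm
  intro u hu g1 g2 g3 g0
  by_cases na : L u = a
  · exact nz u hu (Or.inl na) g0
  by_cases np : L u = p
  · exact nz u hu (Or.inr np) g0
  obtain ⟨k', t', e⟩ := infan u hu g1 g2 na np
  have hk : k' = k := (hl.comm k' k t' 0).mp (by
    rw [e, ← ex]; exact (rep_commute P Y hu hvx).mpr g3)
  subst hk
  refine hno t' ?_
  rw [e, ← eb]; exact ((rep_commute P Y hu hvb).mpr g0).symm

/-! ### Counting -/

section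

variable [Finite G]

/-- The common neighbours of `d` and `y`. -/
noncomputable def common (D : Set G) (d y : G) : Finset G :=
  (Set.toFinite (near D d ∩ near D y)).toFinset

theorem mem_common {z : G} : z ∈ common D d y ↔ z ∈ near D d ∧ z ∈ near D y :=
  Set.Finite.mem_toFinset _

open scoped Classical in
/-- Those of them commuting with `a`. -/
noncomputable def nbs (D : Set G) (d y a : G) : Finset G :=
  (common D d y).filter fun z => z ∈ near D a

theorem mem_nbs {a z : G} :
    z ∈ nbs D d y a ↔ (z ∈ near D d ∧ z ∈ near D y) ∧ z ∈ near D a := by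
  classical
  simp [nbs, mem_common P]

theorem near_iff {s z : G} (hz : z ∈ D) : z ∈ near D s ↔ z ≠ s ∧ Commute s z :=
  ⟨fun h => ⟨h.2.1, h.2.2⟩, fun h => ⟨hz, h.1, h.2⟩⟩

open scoped Classical in
/-- Those commuting with `a` and `p` are the twelve on the lines. -/
theorem filter_eq {a p : G} {l : Fin 3 → F → G} (hl : Fan D d y a p l) :
    (nbs D d y a).filter (fun z => z ∈ near D p) =
      (Finset.univ : Finset (Fin 3 × F)).image fun i => l i.1 i.2 := by
  ext z
  simp only [Finset.mem_filter, mem_nbs P, Finset.mem_image, Finset.mem_univ, true_and]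
  constructor
  · rintro ⟨⟨⟨h1, h2⟩, h3⟩, h4⟩
    obtain ⟨k, t, e⟩ := hl.surj z h1 h2 h3 h4
    exact ⟨(k, t), e⟩
  · rintro ⟨⟨k, t⟩, rfl⟩
    exact ⟨⟨(hl.mem k t).1, (hl.mem k t).2.1⟩, (hl.mem k t).2.2⟩

open scoped Classical in
theorem card_filter_fan {a p : G} {l : Fin 3 → F → G} (hl : Fan D d y a p l) (Q : G → Prop) :
    ((nbs D d y a).filter fun z => z ∈ near D p ∧ Q z).card =
      ∑ k : Fin 3, (Finset.univ.filter fun t : F => Q (l k t)).card := by
  rw [← Finset.filter_filter, filter_eq P hl, Finset.filter_image,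
    Finset.card_image_of_injective _ (fun i j e => Prod.ext (hl.inj _ _ _ _ e).1 (hl.inj _ _ _ _ e).2),
    ← Finset.card_sigma]
  exact Finset.card_bij' (fun i _ => ⟨i.1, i.2⟩) (fun i _ => (i.1, i.2))
    (by intro i hi; simpa using hi) (by intro i hi; simpa using hi) (by intro i hi; rfl)
    (by intro i hi; rfl)

open scoped Classical in
theorem card_nbs_near {a p : G} (had : a ∈ near D d) (hay : a ∈ near D y) (hp : p ∈ nbs D d y a) :
    ((nbs D d y a).filter fun z => z ∈ near D p).card = 12 := by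
  obtain ⟨⟨hpd, hpy⟩, hpa⟩ := (mem_nbs P).mp hp
  obtain ⟨l, hl⟩ := exists_fan P had hay hpd hpy hpa
  have := card_filter_fan P hl (fun _ => True)
  simpa [hF.card_eq] using this

open scoped Classical in
/-- There are 45 common neighbours commuting with a given one. -/
theorem card_nbs {a : G} (had : a ∈ near D d) (hay : a ∈ near D y) : (nbs D d y a).card = 45 := by
  obtain ⟨p, hpd, hpy, hpa⟩ := exists_near P had hay
  have hp : p ∈ nbs D d y a := (mem_nbs P).mpr ⟨⟨hpd, hpy⟩, hpa⟩
  obtain ⟨l, hl⟩ := exists_fan P had hay hpd hpy hpa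
  set S := nbs D d y a with hS
  set N := S.filter fun z => z ∈ near D p with hN
  set R := S.filter fun z => ¬ Commute p z with hR
  have hsplit : S.card = 1 + N.card + R.card := by
    have h1 := Finset.card_filter_add_card_filter_not (s := S) (fun z => Commute p z)
    have h2 : S.filter (fun z => Commute p z) = insert p N := by
      ext z
      simp only [Finset.mem_filter, Finset.mem_insert, hN]
      constructor
      · rintro ⟨h1, h2⟩
        by_cases e : z = p
        · exact Or.inl e
        · exact Or.inr ⟨h1, ((mem_nbs P).mp h1).1.1.1, e, h2⟩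
      · rintro (rfl | ⟨h1, h2⟩)
        · exact ⟨hp, Commute.refl _⟩
        · exact ⟨h1, h2.2.2⟩
    have h3 : p ∉ N := fun e => (Finset.mem_filter.mp e).2.2.1 rfl
    rw [h2, Finset.card_insert_of_notMem h3, ← hR] at h1
    omega
  have hN12 : N.card = 12 := card_nbs_near P had hay hp
  have key := Finset.card_mul_eq_card_mul (s := N) (t := R) (m := 8) (n := 3)
    (fun u z => z ∈ near D u) (fun u hu => ?_) (fun z hz => ?_)
  · omega
  · rw [hN, filter_eq P hl, Finset.mem_image] at hu
    obtain ⟨⟨k, t⟩, -, rfl⟩ := hu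
    have hmem := hl.mem k t
    have huS : l k t ∈ S := (mem_nbs P).mpr ⟨hmem.1, hmem.2.1⟩
    have h12 := card_nbs_near P had hay huS
    have h1 := Finset.card_filter_add_card_filter_not (s := S.filter fun z => z ∈ near D (l k t))
      (fun z => Commute p z)
    have h2 : (S.filter fun z => z ∈ near D (l k t)).filter (fun z => Commute p z) =
        insert p ((Finset.univ.erase t).image fun t' => l k t') := by
      ext z
      simp only [Finset.mem_filter, Finset.mem_insert, Finset.mem_image, Finset.mem_erase,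
        Finset.mem_univ, and_true]
      constructor
      · rintro ⟨⟨h1, h2⟩, h3⟩
        by_cases e : z = p
        · exact Or.inl e
        · obtain ⟨⟨g1, g2⟩, g3⟩ := (mem_nbs P).mp h1
          obtain ⟨k', t', e'⟩ := hl.surj z g1 g2 g3 ⟨g1.1, e, h3⟩
          have hk : k = k' := (hl.comm k k' t t').mp (e' ▸ h2.2.2)
          subst hk
          exact Or.inr ⟨t', fun et => h2.2.1 (by rw [← e', et]), e'⟩
      · rintro (rfl | ⟨t', ht', rfl⟩)
        · exact ⟨⟨hp, near_symm hpd.1 hmem.2.2⟩, Commute.refl _⟩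
        · exact ⟨⟨(mem_nbs P).mpr ⟨(hl.mem k t').1, (hl.mem k t').2.1⟩, (hl.mem k t').1.1.1,
            fun e => ht' (hl.inj k k _ _ e).2, (hl.comm k k t t').mpr rfl⟩, (hl.mem k t').2.2.2.2⟩
    rw [h2, Finset.card_insert_of_notMem (fun e => by
      obtain ⟨t', -, e'⟩ := Finset.mem_image.mp e
      exact (hl.mem k t').2.2.2.1 e'),
      Finset.card_image_of_injective _ (fun t' t'' e => (hl.inj k k t' t'' e).2),
      Finset.card_erase_of_mem (Finset.mem_univ _), Finset.card_univ, hF.card_eq] at h1
    have h3 : R.bipartiteAbove (fun u z => z ∈ near D u) (l k t) =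
        (S.filter fun z => z ∈ near D (l k t)).filter (fun z => ¬ Commute p z) := by
      ext z
      simp only [Finset.bipartiteAbove, hR, Finset.mem_filter]
      tauto
    rw [← hS] at h12
    rw [h3]; omega
  · rw [hR, Finset.mem_filter] at hz
    obtain ⟨⟨hzd, hzy⟩, hza⟩ := (mem_nbs P).mp hz.1
    have h3 : N.bipartiteBelow (fun u z => z ∈ near D u) z =
        S.filter fun u => u ∈ near D p ∧ Commute z u := by
      ext u
      simp only [Finset.bipartiteBelow, hN, Finset.mem_filter]
      refine ⟨fun ⟨⟨h1, h2⟩, h4⟩ => ⟨h1, h2, h4.2.2.symm⟩, fun ⟨h1, h2, h4⟩ => ⟨⟨h1, h2⟩, ?_⟩⟩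
      exact ⟨hzd.1, fun e => hz.2 (e ▸ h2.2.2), h4.symm⟩
    rw [h3, card_filter_fan P hl]
    have : ∀ k, (Finset.univ.filter fun t : F => Commute z (l k t)).card = 1 := fun k => by
      obtain ⟨t, ht, hu⟩ := hl.one z hzd hzy hza (fun e => hz.2 e.symm) k
      rw [Finset.card_eq_one]
      refine ⟨t, Finset.ext fun t' => ?_⟩
      simp only [Finset.mem_filter, Finset.mem_univ, true_and, Finset.mem_singleton]
      exact ⟨hu t', fun e => e ▸ ht⟩
    simp [this]

open scoped Classical in
/-- A member not commuting with `a` commutes with 18 of them. -/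
theorem card_nbs_commute {a b : G} (had : a ∈ near D d) (hay : a ∈ near D y) (hbd : b ∈ near D d)
    (hby : b ∈ near D y) (hba : ¬ Commute b a) :
    ((nbs D d y a).filter fun z => Commute b z).card = 18 := by
  set S := nbs D d y a with hS
  set χ := S.filter fun z => Commute b z with hχ
  have h45 := card_nbs P had hay
  have h3 : ∀ s ∈ χ, (S.filter fun z => z ∈ near D s ∧ Commute b z).card = 3 := by
    intro s hs
    obtain ⟨hsS, hbs⟩ := Finset.mem_filter.mp hs
    obtain ⟨⟨hsd, hsy⟩, hsa⟩ := (mem_nbs P).mp hsS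
    obtain ⟨l, hl⟩ := exists_fan P hsd hsy had hay (near_symm had.1 hsa)
    have e : S.filter (fun z => z ∈ near D s ∧ Commute b z) =
        (nbs D d y s).filter (fun z => z ∈ near D a ∧ Commute b z) := by
      ext z; simp only [Finset.mem_filter, hS, mem_nbs P]; tauto
    rw [e, card_filter_fan P hl]
    have hbs' : b ∈ near D s := near_of_ncomm P hsd.1 hbd.1 hbs hsa.2.2.symm hba
    have : ∀ k, (Finset.univ.filter fun t : F => Commute b (l k t)).card = 1 := fun k => by
      obtain ⟨t, ht, hu⟩ := hl.one b hbd hby hbs' hba k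
      rw [Finset.card_eq_one]
      refine ⟨t, Finset.ext fun t' => ?_⟩
      simp only [Finset.mem_filter, Finset.mem_univ, true_and, Finset.mem_singleton]
      exact ⟨hu t', fun e => e ▸ ht⟩
    simp [this]
  have h6 : ∀ s ∈ S, s ∉ χ → (S.filter fun z => z ∈ near D s ∧ Commute b z).card = 6 := by
    intro s hsS hs
    have hbs : ¬ Commute b s := fun e => hs (Finset.mem_filter.mpr ⟨hsS, e⟩)
    obtain ⟨⟨hsd, hsy⟩, hsa⟩ := (mem_nbs P).mp hsS
    obtain ⟨l, hl⟩ := exists_fan P had hay hsd hsy hsa
    rw [card_filter_fan P hl]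
    have : ∀ k, (Finset.univ.filter fun t : F => Commute b (l k t)).card = 2 := fun k => by
      obtain ⟨t, ht⟩ := exists_on_line P had hay hsd hsy hsa hl hbd hby hba hbs k
      obtain ⟨⟨hcd, hcy⟩, hca, hcs⟩ := hl.mem k t
      set c := l k t with hc
      obtain ⟨m, hm⟩ := exists_fan P hcd hcy had hay (near_symm had.1 hca)
      obtain ⟨k', t₀, e0⟩ := hm.surj s hsd hsy (near_symm hsd.1 hcs) hsa
      have hbc : b ∈ near D c := near_of_ncomm P hcd.1 hbd.1 ht hca.2.2.symm hba
      obtain ⟨t₁, ht₁, hu⟩ := hm.one b hbd hby hbc hba k'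
      have hs1 : m k' t₁ ≠ s := fun e => hbs (e ▸ ht₁)
      obtain ⟨⟨g1, g2⟩, g3, g4⟩ := hm.mem k' t₁
      obtain ⟨k'', t₂, e2⟩ := hl.surj (m k' t₁) g1 g2 g4
        ⟨g1.1, hs1, by rw [← e0]; exact (hm.comm k' k' t₀ t₁).mpr rfl⟩
      have hk : k = k'' := (hl.comm k k'' t t₂).mp (by rw [e2, ← hc]; exact g3.2.2)
      subst hk
      have hne : t ≠ t₂ := fun e => g3.2.1 (by rw [← e2, ← e])
      have hset : (Finset.univ.filter fun t : F => Commute b (l k t)) = {t, t₂} := by
        ext t'
        simp only [Finset.mem_filter, Finset.mem_univ, true_and, Finset.mem_insert,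
          Finset.mem_singleton]
        refine ⟨fun e => ?_, ?_⟩
        · by_cases htt : t' = t
          · exact Or.inl htt
          right
          obtain ⟨⟨f1, f2⟩, f3, f4⟩ := hl.mem k t'
          obtain ⟨k3, t3, e3⟩ := hm.surj (l k t') f1 f2
            ⟨f1.1, fun e' => htt (hl.inj k k _ _ e').2, (hl.comm k k t t').mpr rfl⟩ f3
          have hk3 : k3 = k' := (hm.comm k3 k' t3 t₀).mp (by rw [e3, e0]; exact f4.2.2.symm)
          subst hk3
          have : t3 = t₁ := hu t3 (show Commute b (m k3 t3) by rw [e3]; exact e)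
          subst this
          exact (hl.inj k k _ _ (e3.symm.trans e2.symm)).2
        · rintro (rfl | rfl)
          · exact ht
          · rw [e2]; exact ht₁
      rw [hset, Finset.card_pair hne]
    simp [this]
  have hsum := Finset.sum_card_bipartiteAbove_eq_sum_card_bipartiteBelow
    (s := S) (t := χ) (fun s z => z ∈ near D s)
  have hleft : ∀ s ∈ S, (χ.bipartiteAbove (fun s z => z ∈ near D s) s).card =
      if Commute b s then 3 else 6 := by
    intro s hs
    have e : χ.bipartiteAbove (fun s z => z ∈ near D s) s =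
        S.filter fun z => z ∈ near D s ∧ Commute b z := by
      ext z; simp only [Finset.bipartiteAbove, hχ, Finset.mem_filter]; tauto
    rw [e]
    by_cases hc : Commute b s
    · rw [if_pos hc]; exact h3 s (Finset.mem_filter.mpr ⟨hs, hc⟩)
    · rw [if_neg hc]; exact h6 s hs (fun e => hc (Finset.mem_filter.mp e).2)
  have hright : ∀ z ∈ χ, (S.bipartiteBelow (fun s z => z ∈ near D s) z).card = 12 := by
    intro z hz
    obtain ⟨hzS, -⟩ := Finset.mem_filter.mp hz
    rw [← card_nbs_near P had hay hzS]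
    congr 1
    ext s
    simp only [Finset.bipartiteBelow, Finset.mem_filter]
    exact and_congr_right fun hs => ⟨near_symm ((mem_nbs P).mp hs).1.1.1,
      near_symm ((mem_nbs P).mp hzS).1.1.1⟩
  rw [Finset.sum_congr rfl hleft, Finset.sum_congr rfl hright, Finset.sum_ite, Finset.sum_const,
    Finset.sum_const, Finset.sum_const] at hsum
  have hsplit := Finset.card_filter_add_card_filter_not (s := S) (fun z => Commute b z)
  simp only [smul_eq_mul, ← hχ] at hsum hsplit
  rw [← hS] at h45
  omega

open scoped Classical in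
/-- Two non-commuting members with a common neighbour have 126. -/
theorem card_common {a : G} (had : a ∈ near D d) (hay : a ∈ near D y) :
    (common D d y).card = 126 := by
  set W := common D d y with hW
  set S := nbs D d y a with hS
  set R := W.filter fun z => ¬ Commute a z with hR
  have haW : a ∈ W := (mem_common P).mpr ⟨had, hay⟩
  have h45 : S.card = 45 := card_nbs P had hay
  have hsplit : W.card = 1 + S.card + R.card := by
    have h1 := Finset.card_filter_add_card_filter_not (s := W) (fun z => Commute a z)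
    have h2 : W.filter (fun z => Commute a z) = insert a S := by
      ext z
      simp only [Finset.mem_filter, Finset.mem_insert, hS, mem_nbs P, hW, mem_common P]
      constructor
      · rintro ⟨h1, h2⟩
        by_cases e : z = a
        · exact Or.inl e
        · exact Or.inr ⟨h1, h1.1.1, e, h2⟩
      · rintro (rfl | ⟨h1, h2⟩)
        · exact ⟨⟨had, hay⟩, Commute.refl _⟩
        · exact ⟨h1, h2.2.2⟩
    have h3 : a ∉ S := fun e => ((mem_nbs P).mp e).2.2.1 rfl
    rw [h2, Finset.card_insert_of_notMem h3, ← hR] at h1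
    omega
  have key := Finset.card_mul_eq_card_mul (s := S) (t := R) (m := 32) (n := 18)
    (fun u z => z ∈ near D u) (fun s hs => ?_) (fun b hb => ?_)
  · omega
  · obtain ⟨⟨hsd, hsy⟩, hsa⟩ := (mem_nbs P).mp hs
    have has := near_symm had.1 hsa
    have haS : a ∈ nbs D d y s := (mem_nbs P).mpr ⟨⟨had, hay⟩, has⟩
    have h12 := card_nbs_near P hsd hsy haS
    have h45' := card_nbs P hsd hsy
    have h1 := Finset.card_filter_add_card_filter_not (s := nbs D d y s) (fun z => Commute a z)
    have h2 : (nbs D d y s).filter (fun z => Commute a z) =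
        insert a ((nbs D d y s).filter fun z => z ∈ near D a) := by
      ext z
      simp only [Finset.mem_filter, Finset.mem_insert]
      constructor
      · rintro ⟨h1, h2⟩
        by_cases e : z = a
        · exact Or.inl e
        · exact Or.inr ⟨h1, ((mem_nbs P).mp h1).1.1.1, e, h2⟩
      · rintro (rfl | ⟨h1, h2⟩)
        · exact ⟨haS, Commute.refl _⟩
        · exact ⟨h1, h2.2.2⟩
    rw [h2, Finset.card_insert_of_notMem (fun e => (Finset.mem_filter.mp e).2.2.1 rfl)] at h1
    have h3 : R.bipartiteAbove (fun u z => z ∈ near D u) s =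
        (nbs D d y s).filter (fun z => ¬ Commute a z) := by
      ext z
      simp only [Finset.bipartiteAbove, hR, Finset.mem_filter, mem_nbs P, hW, mem_common P]
      tauto
    rw [h3]; omega
  · obtain ⟨hbW, hb⟩ := Finset.mem_filter.mp hb
    obtain ⟨hbd, hby⟩ := (mem_common P).mp hbW
    rw [← card_nbs_commute P had hay hbd hby (fun e => hb e.symm)]
    congr 1
    ext s
    simp only [Finset.bipartiteBelow, Finset.mem_filter]
    refine and_congr_right fun hs => ⟨fun h => h.2.2.symm, fun h => ?_⟩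
    exact ⟨hbd.1, fun e => hb (e ▸ ((mem_nbs P).mp hs).2.2.2), h.symm⟩

/-- The same as a statement about sets. -/
theorem ncard_common {a : G} (had : a ∈ near D d) (hay : a ∈ near D y) :
    (near D d ∩ near D y).ncard = 126 := by
  rw [Set.ncard_eq_toFinset_card _ (Set.toFinite _)]
  exact card_common P had hay

end

omit P

/-- A commuting chain of length three shortens. -/
theorem shorten (hweb : Web D F) {d w y q : G} (hd : d ∈ D) (hy : y ∈ D)
    (hdy : ¬ Commute d y) (hw : w ∈ D) (hdw : Commute d w) (hwy : Commute w y) (hq : q ∈ near D y) :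
    Commute d q ∨ ∃ c, c ∈ near D d ∧ c ∈ near D q := by
  have hwd : w ∈ near D d := ⟨hw, fun e => hdy (e ▸ hwy), hdw⟩
  have hwy' : w ∈ near D y := ⟨hw, fun e => hdy (e ▸ hdw), hwy.symm⟩
  obtain ⟨c, hcd, -, hqc⟩ := exists_commute ⟨hweb, hd, hy, hdy⟩ hwd hwy' hq
  by_cases e : c = q
  · exact Or.inl (e ▸ hcd.2.2)
  · exact Or.inr ⟨c, hcd, hcd.1, e, hqc⟩

/-- In a connected web two non-commuting members have a common neighbour. -/
theorem exists_common (hweb : Web D F) {d z : G} (hd : d ∈ D)
    (hcon : Relation.ReflTransGen (fun x x' => x ∈ D ∧ x' ∈ D ∧ Commute x x') d z)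
    (hn : ¬ Commute d z) : ∃ c, c ∈ near D d ∧ c ∈ near D z := by
  suffices H : Commute d z ∨ ∃ c, c ∈ near D d ∧ c ∈ near D z from H.resolve_left hn
  clear hn
  induction hcon with
  | refl => exact Or.inl (Commute.refl d)
  | @tail y q _ hyq ih =>
    obtain ⟨hy, hq, hc⟩ := hyq
    by_cases hdq : Commute d q
    · exact Or.inl hdq
    by_cases hdy : Commute d y
    · exact Or.inr ⟨y, ⟨hy, fun e => hdq (e ▸ hc), hdy⟩, hy, fun e => hdq (e ▸ hdy), hc.symm⟩
    obtain ⟨w, hwd, hwy⟩ := ih.resolve_left hdy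
    by_cases hqy : q = y
    · exact Or.inr ⟨w, hwd, hqy ▸ hwy⟩
    exact shorten hweb hd hy hdy hwd.1 hwd.2.2 hwy.2.2.symm ⟨hq, hqy, hc⟩

/-- A connected web has 126 common neighbours for every non-commuting pair. -/
theorem mu [Finite G] (hweb : Web D F) {d z : G} (hd : d ∈ D) (hz : z ∈ D)
    (hcon : Relation.ReflTransGen (fun x x' => x ∈ D ∧ x' ∈ D ∧ Commute x x') d z)
    (hn : ¬ Commute d z) : (near D d ∩ near D z).ncard = 126 := by
  obtain ⟨c, hcd, hcz⟩ := exists_common hweb hd hcon hn
  exact ncard_common ⟨hweb, hd, hz, hn⟩ hcd hcz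

/-- Non-commuting members with a common neighbour braid. -/
theorem braid (hweb : Web D F) {c x y : G} (hc : c ∈ D) (hx : x ∈ near D c) (hy : y ∈ near D c)
    (hn : ¬ Commute x y) : x * y * x = y * x * y := by
  obtain ⟨L, Y⟩ := hweb c hc
  obtain ⟨u, hu, hu0, rfl⟩ := Y.surj hx
  obtain ⟨v, hv, hv0, rfl⟩ := Y.surj hy
  have hk : h u v ≠ 0 := fun e => hn ((Y.comm hu hu0 hv hv0).mpr e)
  rw [Y.tconj hu hu0 hv hv0, Y.tconj hv hv0 hu hu0]
  have hiso : h (u + h u v • v) (u + h u v • v) = 0 := by
    simp only [h_add_left, h_add_right, h_smul_left, h_smul_right, hu, hv, mul_zero, add_zero,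
      zero_add, h_symm u v]
    linear_combination (h u v * h u v ^ 2) * two_eq_zero (F := F)
  have hne : u + h u v • v ≠ 0 := fun e => by
    have := congrArg (fun z => h z v) e
    simp [h_add_left, h_smul_left, hv, hk, h_zero_left] at this
  rw [← Y.smul hiso hne (pow_ne_zero 2 hk)]
  congr 1
  rw [h_symm u v, smul_add, smul_smul, show h u v ^ 2 * h u v = h u v ^ 3 by ring, cube hk, one_smul,
    add_comm]

end Cfsg.Agent.Fi22RecogWebCount11
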