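import Cfsg.Agent.Lib.Unit62Near55
import Cfsg.Agent.Lib.Fi22RecogWebCount11

/-!
# Charts at all conjugates of a transposition with centralizer a double cover of `PSU(6,2)`

The conjugates of `d` commuting with `d` are one lift of each transvection, so they carry the Hermitian
polar space; conjugation moves this chart to every conjugate of `d`.
-/

set_option autoImplicit false
set_option linter.unusedSectionVars false
set_option linter.style.haveILetI false

namespace Cfsg.Agent.Fi22RecogBridge11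

open Cfsg.Agent.ThreeTransDescent
open Cfsg.Agent.UnitaryF4Geo Cfsg.Agent.UnitaryF4Line
open Cfsg.Agent.Unit62Cover55 Cfsg.Agent.Unit62Count55
open Cfsg.Agent.Fi22RecogWebGeo11

variable {G : Type*} [Group G] [Finite G] {d : G}
variable {F : Type} [Field F] [Fintype F] [hF : FourField F]
variable {θ : ↥(Subgroup.centralizer ({d} : Set G)) →* Cfsg.PSU 6 F 2}

local notation "π" => QuotientGroup.mk' (Subgroup.center (Cfsg.SU 6 F 2))

/-- The setting of the recognition theorem. -/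
structure Setup (d : G) (θ : ↥(Subgroup.centralizer ({d} : Set G)) →* Cfsg.PSU 6 F 2) : Prop where
  cov : Cov (dd d) θ
  nwc : ∃ g : G, g * d * g⁻¹ ∈ Subgroup.centralizer ({d} : Set G) ∧ g * d * g⁻¹ ≠ d

/-- The hypotheses of the statements give the setting. -/
theorem exists_setup (hd : orderOf d = 2)
    (hq : Cfsg.IsQuasisimple ↥(Subgroup.centralizer ({d} : Set G)))
    [hzn : ((Subgroup.zpowers d).subgroupOf (Subgroup.centralizer ({d} : Set G))).Normal]
    (e : ↥(Subgroup.centralizer ({d} : Set G)) ⧸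
      (Subgroup.zpowers d).subgroupOf (Subgroup.centralizer ({d} : Set G)) ≃* Cfsg.PSU 6 F 2)
    (hnwc : ∃ g : G, g * d * g⁻¹ ∈ Subgroup.centralizer ({d} : Set G) ∧ g * d * g⁻¹ ≠ d) :
    ∃ θ : ↥(Subgroup.centralizer ({d} : Set G)) →* Cfsg.PSU 6 F 2, Setup d θ := by
  set θ : ↥(Subgroup.centralizer ({d} : Set G)) →* Cfsg.PSU 6 F 2 :=
    e.toMonoidHom.comp (QuotientGroup.mk' _) with hθ
  have hdd : d * d = 1 := by rw [← pow_two, ← hd]; exact pow_orderOf_eq_one d
  have hd1 : d ≠ 1 := fun h => by rw [h, orderOf_one] at hd; exact absurd hd (by norm_num)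
  refine ⟨θ, ⟨hq.1, e.surjective.comp (QuotientGroup.mk'_surjective _), fun x => ?_,
    fun x => Subtype.ext (Subgroup.mem_centralizer_singleton_iff.mp x.2).symm,
    fun h => hd1 (congrArg Subtype.val h)⟩, hnwc⟩
  have h1 : θ x = 1 ↔ (x : G) ∈ Subgroup.zpowers d := by
    rw [hθ, MonoidHom.comp_apply, MulEquiv.coe_toMonoidHom, e.map_eq_one_iff]
    exact (QuotientGroup.eq_one_iff x).trans Subgroup.mem_subgroupOf
  rw [h1, Subgroup.mem_zpowers_iff]
  constructor
  · rintro ⟨n, hn⟩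
    rcases Int.even_or_odd n with ⟨m, rfl⟩ | ⟨m, rfl⟩
    · refine Or.inl (Subtype.ext ?_)
      rw [← hn, ← two_mul, zpow_mul, zpow_two, hdd, one_zpow]; rfl
    · refine Or.inr (Subtype.ext ?_)
      rw [← hn, zpow_add, zpow_mul, zpow_two, hdd, one_zpow, one_mul, zpow_one]; rfl
  · rintro (h | h) <;> rw [h]
    exacts [⟨0, by simp⟩, ⟨1, by simp [dd]⟩]

section

variable (S : Setup d θ)
include S

theorem dsq : d * d = 1 := congrArg Subtype.val S.cov.zz

theorem sq {x : G} (hx : x ∈ conjugatesOf d) : x * x = 1 := by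
  obtain ⟨g, rfl⟩ := isConj_iff.mp hx
  rw [show g * d * g⁻¹ * (g * d * g⁻¹) = g * (d * d) * g⁻¹ by group, dsq S, mul_one,
    mul_inv_cancel]

theorem conj_mem (g : G) {x : G} (hx : x ∈ conjugatesOf d) : g * x * g⁻¹ ∈ conjugatesOf d :=
  hx.trans (isConj_iff.mpr ⟨g, rfl⟩)

/-- A near member has an isotropic point. -/
theorem near_spec {x : G} (hx : x ∈ near (conjugatesOf d) d) :
    ∃ (hc : x ∈ Subgroup.centralizer ({d} : Set G)) (u : Fin 6 → F) (hu : h u u = 0),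
      u ≠ 0 ∧ θ ⟨x, hc⟩ = π (T u hu) :=
  ⟨Subgroup.mem_centralizer_singleton_iff.mpr hx.2.2.symm.eq,
    Unit62Near55.near_transvection S.cov S.nwc hx.1 hx.2.1⟩

theorem pi_T_ne {u : Fin 6 → F} (hu : h u u = 0) (hu0 : u ≠ 0) : π (T u hu) ≠ 1 := fun e =>
  T_ne_one hu hu0 (pi_inj (T_sq u hu) (one_mul 1) (e.trans (map_one π).symm))

theorem lift_near {u : Fin 6 → F} (hu : h u u = 0) (hu0 : u ≠ 0)
    {x : ↥(Subgroup.centralizer ({d} : Set G))} (hx : IsConj d (x : G)) (e : θ x = π (T u hu)) :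
    (x : G) ∈ near (conjugatesOf d) d :=
  ⟨hx, fun h => pi_T_ne S hu hu0 (e.symm.trans (by
      rw [show x = dd d from Subtype.ext h]; exact S.cov.theta_z)),
    (Subgroup.mem_centralizer_singleton_iff.mp x.2).symm⟩

/-- The chart at `d`. -/
theorem exists_pts : ∃ L : (Fin 6 → F) → G, Pts (conjugatesOf d) d L ∧
    ∀ u, ∀ hu : h u u = 0, u ≠ 0 → ∃ hc : L u ∈ Subgroup.centralizer ({d} : Set G),
      θ ⟨L u, hc⟩ = π (T u hu) := by
  classical
  have hex : ∀ u : Fin 6 → F, ∃ x : G, ∀ hu : h u u = 0, u ≠ 0 →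
      ∃ hc : x ∈ Subgroup.centralizer ({d} : Set G), IsConj d x ∧ θ ⟨x, hc⟩ = π (T u hu) := fun u => by
    by_cases hu : h u u = 0 ∧ u ≠ 0
    · obtain ⟨x, hx, -⟩ := Unit62Near55.existsUnique_lift S.cov S.nwc hu.1 hu.2
      exact ⟨x, fun _ _ => ⟨x.2, hx⟩⟩
    · exact ⟨1, fun h1 h2 => absurd ⟨h1, h2⟩ hu⟩
  choose L hL using hex
  have hmem : ∀ {u}, h u u = 0 → u ≠ 0 → L u ∈ near (conjugatesOf d) d := fun {u} hu hu0 => by
    obtain ⟨hc, h1, h2⟩ := hL u hu hu0
    exact lift_near S hu hu0 (x := ⟨L u, hc⟩) h1 h2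
  have huniq : ∀ {u} (hu : h u u = 0), u ≠ 0 → ∀ x : ↥(Subgroup.centralizer ({d} : Set G)),
      IsConj d (x : G) → θ x = π (T u hu) → L u = x := fun {u} hu hu0 x h1 h2 => by
    obtain ⟨hc, g1, g2⟩ := hL u hu hu0
    exact congrArg Subtype.val ((Unit62Near55.existsUnique_lift S.cov S.nwc hu hu0).unique
      (y₁ := ⟨L u, hc⟩) ⟨g1, g2⟩ ⟨h1, h2⟩)
  refine ⟨L, ⟨hmem, ?_, ?_, ?_, ?_, ?_⟩, fun u hu hu0 => ?_⟩
  · intro x hx
    obtain ⟨hc, u, hu, hu0, e⟩ := near_spec S hx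
    exact ⟨u, hu, hu0, huniq hu hu0 ⟨x, hc⟩ hx.1 e⟩
  · intro u c hu hu0 hc
    have hcu : h (c • u) (c • u) = 0 := by rw [h_smul_left, h_smul_right, hu, mul_zero, mul_zero]
    obtain ⟨h0, h1, h2⟩ := hL u hu hu0
    exact huniq hcu (smul_ne_zero hc hu0) ⟨_, h0⟩ h1 (by rw [h2, T_smul hc hu hcu])
  · intro u v hu hu0 hv hv0 e
    obtain ⟨h0, -, h2⟩ := hL u hu hu0
    obtain ⟨g0, -, g2⟩ := hL v hv hv0
    refine T_inj hu hv hu0 (pi_inj (T_sq _ _) (T_sq _ _) ?_)
    rw [← h2, ← g2]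
    congr 1
    exact Subtype.ext e
  · intro u v hu hu0 hv hv0
    obtain ⟨h0, h1, h2⟩ := hL u hu hu0
    obtain ⟨g0, g1, g2⟩ := hL v hv hv0
    constructor
    · intro hc
      refine orth_of_commute hu hv hu0 (commute_of_mk (by norm_num) (T_sq _ _) (T_sq _ _) ?_)
      rw [← h2, ← g2]
      exact (show Commute (⟨L u, h0⟩ : ↥(Subgroup.centralizer ({d} : Set G))) ⟨L v, g0⟩ from
        Subtype.ext hc.eq).map θ
    · intro h0'
      have e := huniq hv hv0 ((⟨L u, h0⟩ : ↥(Subgroup.centralizer ({d} : Set G))) *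
        ⟨L v, g0⟩ * (⟨L u, h0⟩ : ↥(Subgroup.centralizer ({d} : Set G)))⁻¹)
        (g1.trans (isConj_iff.mpr ⟨L u, rfl⟩)) (by
        rw [map_mul, map_mul, map_inv, h2, g2, ← map_inv, ← map_mul, ← map_mul,
          (T_commute hu hv h0').eq, mul_inv_cancel_right])
      exact (mul_inv_eq_iff_eq_mul.mp e.symm)
  · intro u v hu hu0 hv hv0
    obtain ⟨h0, h1, h2⟩ := hL u hu hu0
    obtain ⟨g0, g1, g2⟩ := hL v hv hv0
    have hiso : h (v + h v u • u) (v + h v u • u) = 0 := by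
      simp only [h_add_left, h_add_right, h_smul_left, h_smul_right, hu, hv, mul_zero, add_zero,
        zero_add, h_symm v u]
      linear_combination (h v u * h v u ^ 2) * two_eq_zero (F := F)
    have hne : v + h v u • u ≠ 0 := fun e => by
      have e1 := congrArg (fun z => h z u) e
      simp [h_add_left, h_smul_left, hu, h_zero_left] at e1
      rw [e1, zero_smul, add_zero] at e
      exact hv0 e
    have e := huniq hiso hne ((⟨L u, h0⟩ : ↥(Subgroup.centralizer ({d} : Set G))) *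
        ⟨L v, g0⟩ * (⟨L u, h0⟩ : ↥(Subgroup.centralizer ({d} : Set G)))⁻¹)
        (g1.trans (isConj_iff.mpr ⟨L u, rfl⟩)) (by
      rw [map_mul, map_mul, map_inv, h2, g2, ← map_inv, ← map_mul, ← map_mul, T_conj]
      exact congrArg π (T_congr (T_act u hu v) _ _))
    rw [e]
    simp only [Subgroup.coe_mul, Subgroup.coe_inv,
      show (L u)⁻¹ = L u from inv_eq_of_mul_eq_one_right (sq S h1)]
  · obtain ⟨h0, -, h2⟩ := hL u hu hu0
    exact ⟨h0, h2⟩

omit S in
/-- Conjugation carries the neighbours of `x` to those of `g x g⁻¹`. -/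
theorem conj_near {D : Set G} (hD : ∀ g : G, ∀ x ∈ D, g * x * g⁻¹ ∈ D) (g : G) {x y : G} :
    g * y * g⁻¹ ∈ near D (g * x * g⁻¹) ↔ y ∈ near D x := by
  constructor
  · rintro ⟨h1, h2, h3⟩
    refine ⟨?_, fun e => h2 (by rw [e]), (Commute.conj_iff g).mp h3⟩
    have := hD g⁻¹ _ h1
    rwa [inv_inv, show g⁻¹ * (g * y * g⁻¹) * g = y by group] at this
  · rintro ⟨h1, h2, h3⟩
    exact ⟨hD g y h1, fun e => h2 (mul_left_cancel (mul_right_cancel e)), (Commute.conj_iff g).mpr h3⟩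

/-- Charts at all conjugates. -/
theorem exists_web : Web (conjugatesOf d) F := by
  intro s hs
  obtain ⟨g, rfl⟩ := isConj_iff.mp hs
  obtain ⟨L, Y, -⟩ := exists_pts S
  have hD : ∀ g : G, ∀ x ∈ conjugatesOf d, g * x * g⁻¹ ∈ conjugatesOf d := fun g _ h => conj_mem S g h
  refine ⟨fun u => g * L u * g⁻¹, fun {u} hu hu0 => (conj_near hD g).mpr (Y.mem hu hu0), ?_, ?_, ?_,
    ?_, ?_⟩
  · intro x hx
    have hx' : g * (g⁻¹ * x * g) * g⁻¹ = x := by group
    rw [← hx'] at hx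
    obtain ⟨u, h1, h2, e⟩ := Y.surj ((conj_near hD g).mp hx)
    exact ⟨u, h1, h2, by rw [e, hx']⟩
  · intro u c hu hu0 hc
    show g * L (c • u) * g⁻¹ = g * L u * g⁻¹
    rw [Y.smul hu hu0 hc]
  · intro u v hu hu0 hv hv0 e
    exact Y.inj hu hu0 hv hv0 (mul_left_cancel (mul_right_cancel e))
  · intro u v hu hu0 hv hv0
    exact (Commute.conj_iff g).trans (Y.comm hu hu0 hv hv0)
  · intro u v hu hu0 hv hv0
    show g * L u * g⁻¹ * (g * L v * g⁻¹) * (g * L u * g⁻¹) = g * L (v + h v u • u) * g⁻¹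
    rw [← Y.tconj hu hu0 hv hv0]; group

end

end Cfsg.Agent.Fi22RecogBridge11
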