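import Cfsg.Prelude.Def_SporadicB
import Cfsg.Agent.Lib.Fi22RecogLocal11
import Cfsg.Agent.Lib.Fi22ConnSetup80
import Cfsg.Agent.Lib.ThreeTransM22Pres51

/-!
# Recognition of `Fi22` from a transposition centralizer: the input of the presentation theorem

All conjugates commute or braid, they generate the group and conjugation is primitive on them; with the
charts and 126 common neighbours this is the input of the presentation theorem.
-/

set_option autoImplicit false
set_option linter.unusedSectionVars false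
set_option linter.style.haveILetI false

namespace Cfsg.Agent.Fi22RecogMain11

open Subgroup Cfsg.Agent.ThreeTransRel Cfsg.Agent.ThreeTransDescent
open Cfsg.Agent.UnitaryF4Geo Cfsg.Agent.UnitaryF4Line
open Cfsg.Agent.Unit62Cover55 Cfsg.Agent.Unit62Count55
open Cfsg.Agent.Fi22RecogWebGeo11 Cfsg.Agent.Fi22RecogBridge11 Cfsg.Agent.Fi22RecogLocal11
open Cfsg.Agent.Fi22RecogWebCount11

variable {G : Type*} [Group G] [Finite G]
variable {F : Type} [Field F] [Fintype F] [hF : FourField F]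

local notation "π" => QuotientGroup.mk' (Subgroup.center (Cfsg.SU 6 F 2))

/-- Adjacency. -/
abbrev Adj (D : Set G) (x x' : G) : Prop := x ∈ D ∧ x' ∈ D ∧ Commute x x'

variable {d : G} {θ : ↥(centralizer ({d} : Set G)) →* Cfsg.PSU 6 F 2}
variable (S : Setup d θ)
include S

local notation "D₀" => conjugatesOf d

theorem mu : ThreeTransM22Pat51.Mu D₀ := fun _ ha _ hb hn =>
  Fi22RecogWebCount11.mu (exists_web S) ha hb (Fi22ConnSetup80.connected S ha hb) hn

theorem braid_all {a b : G} (ha : a ∈ D₀) (hb : b ∈ D₀) (hn : ¬ Commute a b) :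
    a * b * a = b * a * b := by
  obtain ⟨c, hca, hcb⟩ := exists_common (exists_web S) ha (Fi22ConnSetup80.connected S ha hb) hn
  exact Fi22RecogWebCount11.braid (exists_web S) hca.1 (near_symm ha hca) (near_symm hb hcb) hn

theorem three_set : Cfsg.IsThreeTranspositionSet D₀ := by
  refine ⟨fun x hx => orderOf_eq_prime (by rw [pow_two]; exact sq S hx) fun e => ?_, fun a ha b hb => ?_⟩
  · obtain ⟨g, hg⟩ := isConj_iff.mp hx
    rw [e, conj_eq_one_iff] at hg
    exact S.cov.ne (Subtype.ext hg)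
  · by_cases hc : Commute a b
    · left
      rw [hc.mul_pow, pow_two, pow_two, sq S ha, sq S hb, one_mul]
    · right
      have e := braid_all S ha hb hc
      calc (a * b) ^ 3 = (a * b * a) * (b * a * b) := by
            simp only [pow_succ, pow_zero, one_mul]; group
        _ = (b * a * b) * (b * a * b) := by rw [e]
        _ = b * a * (b * b) * a * b := by group
        _ = 1 := by rw [sq S hb, mul_one, mul_assoc b a a, sq S ha, mul_one, sq S hb]

theorem closure_eq_top : closure D₀ = ⊤ := by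
  set M := closure D₀ with hM
  have hcent : ∀ s ∈ D₀, centralizer ({s} : Set G) ≤ M := fun s hs => by
    rw [centralizer_eq_loc S hs]
    exact closure_mono fun y hy => hy.1
  have hreach : ∀ x, Relation.ReflTransGen (Adj D₀) d x → ∃ m ∈ M, m * d * m⁻¹ = x := by
    intro x hx
    induction hx with
    | refl => exact ⟨1, one_mem _, by group⟩
    | @tail a b _ hab ih =>
      obtain ⟨m, hm, rfl⟩ := ih
      obtain ⟨ha, hb, hc⟩ := hab
      by_cases e : b = m * d * m⁻¹
      · exact ⟨m, hm, e.symm⟩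
      have hba : b ∈ near D₀ (m * d * m⁻¹) := ⟨hb, e, hc⟩
      obtain ⟨c, hca, hcb⟩ : (near D₀ (m * d * m⁻¹) ∩ near D₀ b).Nonempty :=
        Set.nonempty_of_ncard_ne_zero (by rw [ncard_adjacent S ha hba]; norm_num)
      obtain ⟨k, hk, e'⟩ := near_trans S hca.1 (near_symm ha hca) (near_symm hb hcb)
      exact ⟨k * m, mul_mem (hcent c hca.1 (mem_centralizer_singleton_iff.mpr hk.eq)) hm,
        by rw [← e']; group⟩
  rw [eq_top_iff]
  intro g _
  obtain ⟨m, hm, e⟩ := hreach _ (Fi22ConnSetup80.connected S (IsConj.refl d) (conj_mem S g (IsConj.refl d)))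
  have hmg : m⁻¹ * g ∈ centralizer ({d} : Set G) := mem_centralizer_singleton_iff.mpr (by
    rw [← mul_inv_eq_iff_eq_mul, show m⁻¹ * g * d * (m⁻¹ * g)⁻¹ = m⁻¹ * (g * d * g⁻¹) * m by group, ← e]
    group)
  have := mul_mem hm (hcent d (IsConj.refl d) hmg)
  rwa [mul_inv_cancel_left] at this

theorem tsys : TSys D₀ :=
  ⟨fun _ h => sq S h, fun _ ha _ hb h => braid_all S ha hb h, conj_closed S,
    closure_eq_top S⟩

theorem class_three : Cfsg.IsThreeTranspositionClass D₀ :=
  ⟨three_set S, ⟨d, IsConj.refl d, rfl⟩, closure_eq_top S⟩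

theorem group_three : Cfsg.IsThreeTranspositionGroup D₀ :=
  ⟨three_set S, conj_closed S, closure_eq_top S⟩

theorem exists_far {a : G} (ha : a ∈ D₀) : ∃ b ∈ D₀, ¬ Commute a b := by
  obtain ⟨L, Y⟩ := exists_web S a ha
  obtain ⟨v, -, hv⟩ := exists_h_eq_one (ThreeTransM22Triples17.u0_ne (F := F))
  -- a member near `a` and a conjugate not commuting with it
  by_contra hno
  push Not at hno
  have hz : a ∈ Subgroup.center G := by
    refine mem_center_iff.mpr fun g => ?_
    have : (⊤ : Subgroup G) ≤ centralizer ({a} : Set G) := by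
      rw [← closure_eq_top S]
      exact (closure_le _).mpr fun x hx => mem_centralizer_singleton_iff.mpr (hno x hx).symm.eq
    exact mem_centralizer_singleton_iff.mp (this (mem_top g))
  rw [center_eq_bot S, mem_bot] at hz
  have := (three_set S).1 a ha
  rw [hz, orderOf_one] at this
  exact absurd this (by norm_num)

/-- Conjugation is primitive. -/
theorem primitive : Cfsg.IsPrimitiveUnderConj D₀ := by
  have ht := tsys S
  refine ⟨fun a ha b hb => isConj_iff.mp (ha.symm.trans hb), ?_, fun B hB hblk => ?_⟩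
  · obtain ⟨b, hb, hn⟩ := exists_far S (IsConj.refl d)
    exact ⟨d, IsConj.refl d, b, hb, fun e => hn (e ▸ Commute.refl d)⟩
  by_cases hsub : B.Subsingleton
  · exact Or.inl hsub
  right
  rw [Set.not_subsingleton_iff] at hsub
  have hfix : ∀ g : G, ∀ a ∈ B, g * a * g⁻¹ ∈ B → ∀ x ∈ B, g * x * g⁻¹ ∈ B := by
    intro g a ha hga x hx
    rcases hblk g with e | e
    · exact e ▸ ⟨x, hx, rfl⟩
    · exact absurd hga (fun h => Set.disjoint_left.mp e ⟨a, ha, rfl⟩ h)
  have hstab : ∀ k, ∀ a ∈ B, Commute k a → ∀ x ∈ B, k * x * k⁻¹ ∈ B := fun k a ha hk =>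
    hfix k a ha (by rwa [mul_inv_eq_iff_eq_mul.mpr hk.eq])
  obtain ⟨a, ha, b, hb, hab⟩ : ∃ a ∈ B, ∃ b ∈ B, a ≠ b ∧ Commute a b := by
    obtain ⟨a, ha, b, hb, hab⟩ := hsub
    by_cases hc : Commute a b
    · exact ⟨a, ha, b, hb, hab, hc⟩
    have hba : ¬ Commute b a := fun e => hc e.symm
    -- two commuting neighbours of `a` moving `b`
    set A := near D₀ a \ near D₀ b with hA
    have h693 := ncard_near_all S (hB ha)
    have h126 := mu S a (hB ha) b (hB hb) hc
    have hcard : A.ncard + (near D₀ a ∩ near D₀ b).ncard = (near D₀ a).ncard := by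
      rw [hA, ← Set.sdiff_inter_self_eq_sdiff]
      rw [Set.inter_comm (near D₀ b)]
      exact Set.ncard_sdiff_add_ncard_of_subset Set.inter_subset_left (Set.toFinite _)
    obtain ⟨c₁, hc₁⟩ : A.Nonempty := Set.nonempty_of_ncard_ne_zero (by omega)
    obtain ⟨c₂, hc₂, hc₁₂, hne, hc12⟩ : ∃ c₂, c₂ ∈ A ∧ c₂ ∈ near D₀ c₁ ∧ c₂ ≠ c₁ ∧ Commute c₁ c₂ := by
      by_contra hno
      push Not at hno
      have hle : (near D₀ a ∩ near D₀ c₁).ncard ≤ (near D₀ a ∩ near D₀ b).ncard := by
        refine Set.ncard_le_ncard (fun z hz => ⟨hz.1, ?_⟩) (Set.toFinite _)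
        by_contra hzb
        exact hno z ⟨hz.1, hzb⟩ hz.2 hz.2.2.1 hz.2.2.2
      rw [ncard_adjacent S (hB ha) hc₁.1, h126] at hle
      omega
    have nb : ∀ c ∈ A, ¬ Commute b c := fun c hc' e =>
      hc'.2 ⟨hc'.1.1, fun e' => hc (e' ▸ hc'.1.2.2), e⟩
    obtain ⟨h1, h2⟩ := ht.f2 (hB hb) hc₁.1.1 hc₂.1.1 (nb c₁ hc₁) (nb c₂ hc₂) hc12 hne.symm
    refine ⟨b, hb, _, ?_, h1.symm, h2⟩
    have := hstab c₁ a ha hc₁.1.2.2.symm _ (hstab c₂ a ha hc₂.1.2.2.symm b hb)
    rw [ht.inv_self hc₁.1.1, ht.inv_self hc₂.1.1] at this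
    rwa [show c₁ * c₂ * b * c₂ * c₁ = c₁ * (c₂ * b * c₂) * c₁ by group]
  obtain ⟨hne, hc⟩ := hab
  have hnear : ∀ x ∈ B, near D₀ x ⊆ B := by
    intro x hx
    obtain ⟨g, hg⟩ := isConj_iff.mp ((hB ha).symm.trans (hB hx))
    have hgb : g * b * g⁻¹ ∈ B := hfix g a ha (hg.symm ▸ hx) b hb
    have hgbn : g * b * g⁻¹ ∈ near D₀ x := hg ▸ (conj_near (conj_closed S) g).mpr
      ⟨hB hb, hne.symm, hc⟩
    intro z hz
    obtain ⟨k, hk, rfl⟩ := near_trans S (hB hx) hgbn hz
    exact hstab k x hx hk _ hgb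
  refine Set.Subset.antisymm hB fun x hx => ?_
  have key : ∀ y, Relation.ReflTransGen (Adj D₀) a y → y ∈ B := by
    intro y hy
    induction hy with
    | refl => exact ha
    | @tail u v _ huv ih =>
      by_cases e : v = u
      · exact e ▸ ih
      · exact hnear u ih ⟨huv.2.1, e, huv.2.2⟩
  exact key x (Fi22ConnSetup80.connected S (hB ha) hx)

/-- The chart of the local group at every conjugate. -/
theorem exists_ctx {s : G} (hs : s ∈ D₀) :
    ∃ φ : ↥(loc D₀ s) →* Cfsg.PSU 6 F 2, ThreeTransM22Local72.Chart D₀ s φ := by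
  classical
  obtain ⟨g, rfl⟩ := isConj_iff.mp hs
  have hloc := centralizer_eq_loc S hs
  have hin : ∀ x : ↥(loc D₀ (g * d * g⁻¹)), g⁻¹ * (x : G) * g ∈ centralizer ({d} : Set G) := fun x =>
    mem_centralizer_singleton_iff.mpr
      ((Commute.conj_iff g).mp (by
        rw [show g * (g⁻¹ * (x : G) * g) * g⁻¹ = x by group]
        exact (commute_d_of_mem_loc x.2).symm)).eq
  let φ : ↥(loc D₀ (g * d * g⁻¹)) →* Cfsg.PSU 6 F 2 :=
    MonoidHom.mk' (fun x => θ ⟨g⁻¹ * (x : G) * g, hin x⟩) fun x y => by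
      rw [← map_mul]; congr 1; exact Subtype.ext (by push_cast; group)
  have hφ : ∀ x, φ x = θ ⟨g⁻¹ * (x : G) * g, hin x⟩ := fun _ => rfl
  have hcj : ∀ {y}, y ∈ near D₀ (g * d * g⁻¹) → g⁻¹ * y * g ∈ near D₀ d := fun {y} hy => by
    rw [← conj_near (conj_closed S) g]
    rwa [show g * (g⁻¹ * y * g) * g⁻¹ = y by group]
  have hpt : ∀ p : ↥(loc D₀ (g * d * g⁻¹)), (p : G) ∈ near D₀ (g * d * g⁻¹) →
      ∃ (u : Fin 6 → F) (hu : h u u = 0), u ≠ 0 ∧ φ p = π (T u hu) := fun p hp => by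
    obtain ⟨hc, u, hu, hu0, e⟩ := near_spec S (hcj hp)
    exact ⟨u, hu, hu0, e⟩
  have hsurj : Function.Surjective φ := fun z => by
    obtain ⟨⟨c, hc⟩, rfl⟩ := S.cov.surj z
    refine ⟨⟨g * c * g⁻¹, ?_⟩, ?_⟩
    · rw [← hloc]
      exact mem_centralizer_singleton_iff.mpr
        ((Commute.conj_iff g).mpr (mem_centralizer_singleton_iff.mp hc))
    · rw [hφ]; congr 1; exact Subtype.ext (by push_cast; group)
  refine ⟨φ, hsurj, fun x => ?_, fun p q hp hq hpq => ?_, fun p q hp hq hpq => ?_, ?_⟩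
  · constructor
    · intro hx y hy
      rcases (S.cov.ker _).mp ((hφ x).symm.trans hx) with e | e
      · have : (x : G) = 1 := by
          have := congrArg Subtype.val e
          simpa [mul_assoc, inv_mul_eq_iff_eq_mul] using this
        rw [this]; exact Commute.one_right y
      · have : (x : G) = g * d * g⁻¹ := by
          have e' : g⁻¹ * (x : G) * g = d := congrArg Subtype.val e
          calc (x : G) = g * (g⁻¹ * (x : G) * g) * g⁻¹ := by group
            _ = g * d * g⁻¹ := congrArg (fun z => g * z * g⁻¹) e'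
        rw [this]; exact hy.2.2.symm
    · intro hy
      rcases only S hs (commute_d_of_mem_loc x.2) hy with e | e
      · rw [show x = 1 from Subtype.ext e, map_one]
      · rw [hφ]
        have : (⟨g⁻¹ * (x : G) * g, hin x⟩ : ↥(centralizer ({d} : Set G))) = dd d :=
          Subtype.ext (by rw [dd]; show g⁻¹ * (x : G) * g = d; rw [e]; group)
        rw [this]; exact S.cov.theta_z
  · obtain ⟨u, hu, hu0, eu⟩ := hpt p hp
    obtain ⟨v, hv, hv0, ev⟩ := hpt q hq
    obtain ⟨L, Y, hL⟩ := exists_pts S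
    have hid : ∀ {w : Fin 6 → F} (hw : h w w = 0), w ≠ 0 → ∀ r : ↥(loc D₀ (g * d * g⁻¹)),
        (r : G) ∈ near D₀ (g * d * g⁻¹) → φ r = π (T w hw) → g⁻¹ * (r : G) * g = L w := by
      intro w hw hw0 r hr e
      obtain ⟨hc, el⟩ := hL w hw hw0
      exact congrArg Subtype.val ((Unit62Near55.existsUnique_lift S.cov S.nwc hw hw0).unique
        (y₁ := ⟨_, hin r⟩) (y₂ := ⟨L w, hc⟩) ⟨(hcj hr).1, e⟩ ⟨(Y.mem hw hw0).1, el⟩)
    have h0 : h u v = 0 := by
      refine orth_of_commute hu hv hu0 (commute_of_mk (by norm_num) (T_sq _ _) (T_sq _ _) ?_)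
      rw [← eu, ← ev]; exact hpq
    have hc := (Y.comm hu hu0 hv hv0).mpr h0
    rw [← hid hu hu0 p hp eu, ← hid hv hv0 q hq ev] at hc
    have h' := (Commute.conj_iff g).mpr hc
    simpa [mul_assoc] using h'
  · obtain ⟨u, hu, hu0, eu⟩ := hpt p hp
    have := (Unit62Near55.existsUnique_lift S.cov S.nwc hu hu0).unique
      (y₁ := ⟨_, hin p⟩) (y₂ := ⟨_, hin q⟩) ⟨(hcj hp).1, eu⟩ ⟨(hcj hq).1, hpq ▸ eu⟩
    have e : g⁻¹ * (p : G) * g = g⁻¹ * (q : G) * g := congrArg Subtype.val this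
    exact Subtype.ext (mul_left_cancel (mul_right_cancel e))
  · have ht := tsys S
    refine ⟨?_, ?_, ?_, ?_, ?_⟩
    · rintro _ ⟨x, hx, rfl⟩
      rw [← map_mul, show x * x = 1 from Subtype.ext (ht.sq _ hx.1), map_one]
    · rintro _ ⟨x, hx, rfl⟩ h1
      obtain ⟨u, hu, hu0, e⟩ := hpt x hx
      exact pi_T_ne S hu hu0 (e.symm.trans h1)
    · rintro _ ⟨x, hx, rfl⟩ _ ⟨y, hy, rfl⟩ hn
      rw [← map_mul, ← map_mul, ← map_mul, ← map_mul]
      exact congrArg φ (Subtype.ext (ht.braid _ hx.1 _ hy.1 fun h =>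
        hn ((show Commute x y from Subtype.ext h).map φ)))
    · intro k x hx
      obtain ⟨k, rfl⟩ := hsurj k
      obtain ⟨x, hx, rfl⟩ := hx
      exact ⟨k * x * k⁻¹, ThreeTransDescent.near_conj ht (commute_d_of_mem_loc k.2).symm hx, by simp⟩
    · obtain ⟨L, Y⟩ := exists_web S _ hs
      have hm := Y.mem (ThreeTransM22Triples17.iso_u0 (F := F)) ThreeTransM22Triples17.u0_ne
      exact ⟨_, ⟨⟨_, near_le_loc hm⟩, hm, rfl⟩⟩

theorem exists_quot_equiv {s : G} (hs : s ∈ D₀) :
    Nonempty (↥(loc D₀ s) ⧸ Subgroup.center ↥(loc D₀ s) ≃* Cfsg.PSU 6 F 2) := by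
  obtain ⟨φ, C⟩ := exists_ctx S hs
  have hk : Subgroup.center ↥(loc D₀ s) = φ.ker := by
    ext x
    rw [MonoidHom.mem_ker, C.one]
    refine ⟨fun hx y hy => congrArg Subtype.val (mem_center_iff.mp hx ⟨y, near_le_loc hy⟩),
      fun hx => mem_center_iff.mpr fun z => Subtype.ext ?_⟩
    have hle : loc D₀ s ≤ centralizer ({(x : G)} : Set G) :=
      (closure_le _).mpr fun y hy => mem_centralizer_singleton_iff.mpr (hx y hy).eq
    exact mem_centralizer_singleton_iff.mp (hle z.2)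
  exact ⟨(QuotientGroup.quotientMulEquivOfEq hk).trans
    (QuotientGroup.quotientKerEquivOfSurjective φ C.surj)⟩

/-- The input of the presentation theorem. -/
theorem hyp : ThreeTransM22Pat51.Hyp D₀ := by
  refine ⟨tsys S, primitive S, ⟨F, inferInstance, inferInstance, inferInstance, fun s hs => ?_⟩,
    mu S, fun s hs => centralizer_eq_loc S hs⟩
  obtain ⟨φ, C⟩ := exists_ctx S hs
  refine ⟨φ, tsys S, primitive S, center_eq_bot S, fun x hx => ?_, fun x hx => ?_,
    fun z hz hzc => only S hs hz hzc, hs, C⟩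
  · obtain ⟨e⟩ := exists_quot_equiv S hx
    exact ThreeTransLine.lineAt_of_iso (tsys S) (primitive S) hx hF.card_eq e
  · rw [← centralizer_eq_loc S hx]
    exact mem_centralizer_singleton_iff.mpr rfl

end Cfsg.Agent.Fi22RecogMain11
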