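import Cfsg.Agent.Lib.Fi22RecogWebGeo11

/-!
# Arcs of six among the common neighbours of two non-commuting members

A totally isotropic plane through two commuting common neighbours of `d` and `y` carries six of them.
No point of the chart at `y` is non-perpendicular to all common neighbours, and a common neighbour `b`
commutes with some member on each of the three lines at two commuting ones not commuting with `b`.
-/

set_option autoImplicit false
set_option linter.unusedSectionVars false

namespace Cfsg.Agent.Fi22RecogWebArc11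

open Cfsg.Agent.ThreeTransDescent
open Cfsg.Agent.UnitaryF4Geo Cfsg.Agent.UnitaryF4Line
open Cfsg.Agent.Fi22RecogWebGeo11

variable {F : Type} [Field F] [Fintype F] [hF : FourField F]
variable {G : Type*} [Group G] {D : Set G} {d y : G}
variable (P : Pair D F d y) {L : (Fin 6 → F) → G} (Y : Pts D y L)
include P Y

theorem rep_h_of_eq {u v z : Fin 6 → F} (hu : Rep D d L u) (hv : Rep D d L v) (e : L u = L v)
    (h0 : h z v = 0) : h z u = 0 := by
  obtain ⟨c, hc, rfl⟩ := Y.inj hu.1 hu.2.1 hv.1 hv.2.1 e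
  rw [h_smul_right, h0, mul_zero]

/-- The four members of the line of `w` at `u` and `v`. -/
theorem six {u v w : Fin 6 → F} (hu : Rep D d L u) (hv : Rep D d L v) (hw : Rep D d L w)
    (huv : h u v = 0) (huw : h u w = 0) (hvw : h v w = 0) (h1 : L u ≠ L v) (h2 : L u ≠ L w)
    (h3 : L v ≠ L w) :
    ∃ g : F → Fin 6 → F, (∀ t, Rep D d L (g t) ∧ h (g t) u = 0 ∧ h (g t) v = 0 ∧ h (g t) w = 0 ∧
      L (g t) ≠ L u ∧ L (g t) ≠ L v) ∧ (∀ t t', L (g t) = L (g t') → t = t') ∧
      ∃ t, L (g t) = L w := by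
  have nu := Y.mem hu.1 hu.2.1
  have nv := Y.mem hv.1 hv.2.1
  have nw := Y.mem hw.1 hw.2.1
  obtain ⟨l, hl⟩ := exists_fan P hu.2.2 nu hv.2.2 nv (rep_near P Y hu hv huv h1)
  obtain ⟨k, t0, e0⟩ := hl.surj (L w) hw.2.2 nw (rep_near P Y hu hw huw h2) (rep_near P Y hv hw hvw h3)
  choose g hg hge using fun t => exists_rep P Y (hl.mem k t).1.1 (hl.mem k t).1.2
  refine ⟨g, fun t => ⟨hg t, ?_, ?_, ?_, ?_, ?_⟩, fun t t' e => ?_, t0, (hge t0).trans e0⟩
  · rw [← rep_commute P Y (hg t) hu, hge t]; exact (hl.mem k t).2.1.2.2.symm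
  · rw [← rep_commute P Y (hg t) hv, hge t]; exact (hl.mem k t).2.2.2.2.symm
  · rw [← rep_commute P Y (hg t) hw, hge t, ← e0]; exact (hl.comm k k t t0).mpr rfl
  · rw [hge t]; exact (hl.mem k t).2.1.2.1
  · rw [hge t]; exact (hl.mem k t).2.2.2.1
  · rw [hge t, hge t'] at e
    exact (hl.inj k k t t' e).2

/-- A fifth member in the plane of a quadrangle. -/
theorem quad {z z2 x x2 w : Fin 6 → F} (hz : Rep D d L z) (hz2 : Rep D d L z2) (hx : Rep D d L x)
    (hx2 : Rep D d L x2) (hw : Rep D d L w) (he : x2 = x + z + z2) (hzz : h z z2 = 0)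
    (hzx : h z x = 0) (hz2x : h z2 x = 0) (h1 : L z ≠ L z2) (h2 : L z ≠ L x) (h3 : L z2 ≠ L x)
    (hwz : h w z = 0) (hwz2 : h w z2 = 0) (hwx : h w x = 0) (n1 : L w ≠ L z) (n2 : L w ≠ L z2)
    (n3 : L w ≠ L x) (n4 : L w ≠ L x2) :
    ∃ l B : F, l ≠ 0 ∧ B ≠ 0 ∧ B ≠ 1 ∧ w = l • (z + x + B • (z + z2)) := by
  obtain ⟨A, B, C, hABC⟩ := plane (rep_li P Y hz hz2 hx hzz h1 h2 h3) hz.1 hz2.1 hx.1 hw.1 hzz hzx
    (h_comm_zero hwz) hz2x (h_comm_zero hwz2) (h_comm_zero hwx)
  have hxx2 : h x x2 = 0 := by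
    rw [he, h_add_right, h_add_right, hx.1, h_comm_zero hzx, h_comm_zero hz2x, add_zero, add_zero]
  have hzx2 : h z x2 = 0 := by
    rw [he, h_add_right, h_add_right, hzx, hz.1, hzz, add_zero, add_zero]
  have hz2x2 : h z2 x2 = 0 := by
    rw [he, h_add_right, h_add_right, hz2x, hz2.1, h_comm_zero hzz, add_zero, add_zero]
  have no : ∀ {u v : Fin 6 → F}, Rep D d L u → Rep D d L v → h u v = 0 → L w ≠ L u → L w ≠ L v →
      ∀ a b : F, w ≠ a • u + b • v := fun hu hv huv e e' a b hab =>
    (line P Y hu hv hw huv hab).elim e e'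
  have hC : C ≠ 0 := fun e => no hz hz2 hzz n1 n2 A B (by rw [hABC, e, zero_smul, add_zero])
  have hA : A ≠ 0 := fun e => no hz2 hx hz2x n2 n3 B C (by rw [hABC, e, zero_smul, zero_add])
  have hB : B ≠ 0 := fun e => no hz hx hzx n1 n3 A C (by rw [hABC, e, zero_smul, add_zero])
  have hAC : C ≠ A := fun e => no hz2 hx2 hz2x2 n2 n4 (A + B) A (by
    subst e; rw [hABC, he]
    simp only [smul_add, add_smul]
    have := vec_add_self (C • z2)
    linear_combination (norm := module) -(this))
  have hBC : C ≠ B := fun e => no hz hx2 hzx2 n1 n4 (A + B) B (by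
    subst e; rw [hABC, he]
    simp only [smul_add, add_smul]
    have := vec_add_self (C • z)
    linear_combination (norm := module) -(this))
  have hAB : A ≠ B := fun e => no hx hx2 hxx2 n3 n4 (A + C) A (by
    subst e; rw [hABC, he]
    simp only [smul_add, add_smul]
    have := vec_add_self (A • x)
    linear_combination (norm := module) -(this))
  have hs : C = A + B := third hA hB hAB hC hAC hBC
  refine ⟨C, B / C, hC, div_ne_zero hB hC, fun e => hBC ((div_eq_one_iff_eq hC).mp e).symm, ?_⟩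
  rw [hABC, smul_add, smul_smul, mul_div_cancel₀ _ hC, hs]
  simp only [smul_add, add_smul]
  have := vec_add_self (B • z)
  linear_combination (norm := module) -(this)

/-- The second member on the line through `x` and the third point of the line through `a` and `p`. -/
theorem partner {a p x : Fin 6 → F} (ha : Rep D d L a) (hp : Rep D d L p) (hx : Rep D d L x)
    (hap : h a p = 0) (hax : h a x = 0) (hpx : h p x = 0) (h1 : L a ≠ L p) (h2 : L a ≠ L x)
    (h3 : L p ≠ L x) : ∃ α : F, α ≠ 0 ∧ Rep D d L (x + α • (a + p)) := by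
  classical
  obtain ⟨g, hg, hinj, t0, ht0⟩ := six P Y ha hp hx hap hax hpx h1 h2 h3
  have hli := rep_li P Y ha hp hx hap h1 h2 h3
  choose A B C hABC using fun t => plane hli ha.1 hp.1 hx.1 (hg t).1.1 hap hax
    (h_comm_zero (hg t).2.1) hpx (h_comm_zero (hg t).2.2.1) (h_comm_zero (hg t).2.2.2.1)
  have hLx : ∀ t, t ≠ t0 → L (g t) ≠ L x := fun t ht e => ht (hinj t t0 (e.trans ht0.symm))
  have hC : ∀ t, C t ≠ 0 := fun t e =>
    (line P Y ha hp (hg t).1 hap (by rw [hABC t, e, zero_smul, add_zero])).elim (hg t).2.2.2.2.1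
      (hg t).2.2.2.2.2
  have hA : ∀ t, t ≠ t0 → A t ≠ 0 := fun t ht e =>
    (line P Y hp hx (hg t).1 hpx (by rw [hABC t, e, zero_smul, zero_add])).elim (hg t).2.2.2.2.2
      (hLx t ht)
  have hB : ∀ t, t ≠ t0 → B t ≠ 0 := fun t ht e =>
    (line P Y ha hx (hg t).1 hax (by rw [hABC t, e, zero_smul, add_zero])).elim (hg t).2.2.2.2.1
      (hLx t ht)
  have hinj' : ∀ t t', t ≠ t0 → t' ≠ t0 → B t / A t = B t' / A t' → t = t' := by
    intro t t' ht ht' e
    have hb : B t' = A t' / A t * B t := by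
      have := congrArg (· * A t') e
      simp only [div_mul_cancel₀ _ (hA t' ht')] at this
      rw [← this]; field_simp
    have ha' : A t' = A t' / A t * A t := (div_mul_cancel₀ _ (hA t ht)).symm
    obtain ⟨ρ, hρ⟩ : ∃ ρ, ρ = A t' / A t := ⟨_, rfl⟩
    rw [← hρ] at hb ha'
    have key : g t' = ρ • g t + (C t' + ρ * C t) • x := by
      rw [hABC t, hABC t']
      rw [hb, ha']
      simp only [smul_add, smul_smul, add_smul]
      have := vec_add_self ((ρ * C t) • x)
      linear_combination (norm := module) -(this)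
    rcases line P Y (hg t).1 hx (hg t').1 (hg t).2.2.2.1 key with e' | e'
    · exact (hinj _ _ e').symm
    · exact absurd e' (hLx t' ht')
  obtain ⟨t, ht, hr⟩ := Finset.surj_on_of_inj_on_of_card_le (s := Finset.univ.erase t0)
    (t := Finset.univ.erase (0 : F)) (fun t _ => B t / A t)
    (fun t ht => Finset.mem_erase.mpr
      ⟨div_ne_zero (hB t (Finset.ne_of_mem_erase ht)) (hA t (Finset.ne_of_mem_erase ht)),
        Finset.mem_univ _⟩)
    (fun t t' ht ht' e => hinj' t t' (Finset.ne_of_mem_erase ht) (Finset.ne_of_mem_erase ht') e)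
    (by rw [Finset.card_erase_of_mem (Finset.mem_univ _), Finset.card_erase_of_mem (Finset.mem_univ _)])
    1 (by simp)
  have hne := Finset.ne_of_mem_erase ht
  have hAB : B t = A t := (div_eq_one_iff_eq (hA t hne)).mp hr.symm
  refine ⟨(C t)⁻¹ * A t, mul_ne_zero (inv_ne_zero (hC t)) (hA t hne), ?_⟩
  have hs := rep_smul P Y (hg t).1 (inv_ne_zero (hC t))
  rw [hABC t, hAB, smul_add, smul_add, smul_smul, smul_smul, smul_smul, inv_mul_cancel₀ (hC t),
    one_smul, ← smul_add, add_comm] at hs
  exact hs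

theorem shift_ne {u r z : Fin 6 → F} {α β : F} (hu : Rep D d L (u + α • r))
    (hv : Rep D d L (u + β • r)) (huz : h u z = 1) (hrz : h r z = 0) (hr : r ≠ 0) (hne : α ≠ β) :
    L (u + α • r) ≠ L (u + β • r) := by
  intro e
  obtain ⟨c, hc, e'⟩ := Y.inj hu.1 hu.2.1 hv.1 hv.2.1 e
  have h1 := congrArg (fun w => h w z) e'
  simp [h_add_left, h_smul_left, huz, hrz] at h1
  rw [← h1, one_smul] at e'
  exact hne (smul_left_injective F hr (add_left_cancel e'))

/-- A line missed by `b` excludes neighbours of `b` on the other lines. -/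
theorem zero_third {a p b x c : Fin 6 → F} (ha : Rep D d L a) (hp : Rep D d L p) (hb : Rep D d L b)
    (hx : Rep D d L x) (hc : Rep D d L c) (hap : h a p = 0) (hne : L a ≠ L p) (hab : h a b = 1)
    (hpb : h p b = 1) (hxb : h x b = 1) (hax : h a x = 0) (hpx : h p x = 0)
    (hnax : L a ≠ L x) (hnpx : L p ≠ L x)
    (hzero : ∀ w, Rep D d L w → h w a = 0 → h w p = 0 → h w x = 0 → h w b ≠ 0)
    (hca : h c a = 0) (hcp : h c p = 0) (hcb : h c b = 0) : False := by
  classical
  wlog hcx : h c x = 1 generalizing c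
  · have hk : h c x ≠ 0 := fun e => hzero c hc hca hcp e hcb
    exact this (rep_smul P Y hc (inv_ne_zero hk)) (by rw [h_smul_left, hca, mul_zero])
      (by rw [h_smul_left, hcp, mul_zero]) (by rw [h_smul_left, hcb, mul_zero])
      (by rw [h_smul_left, inv_mul_cancel₀ hk])
  have hxa := h_comm_zero hax
  have hxp := h_comm_zero hpx
  have hba := h_comm_one hab
  have hbp := h_comm_one hpb
  have hpa := h_comm_zero hap
  have hac := h_comm_zero hca
  have hpc := h_comm_zero hcp
  have hxc := h_comm_one hcx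
  have hbx := h_comm_one hxb
  have hbc := h_comm_zero hcb
  set r := a + p with hr
  have hra : h r a = 0 := by rw [hr, h_add_left, ha.1, hpa, add_zero]
  have hrp : h r p = 0 := by rw [hr, h_add_left, hp.1, hap, add_zero]
  have hrx : h r x = 0 := by rw [hr, h_add_left, hax, hpx, add_zero]
  have hrb : h r b = 0 := by rw [hr, h_add_left, hab, hpb, add_self]
  have hrc : h r c = 0 := by rw [hr, h_add_left, hac, hpc, add_zero]
  have hr0 : r ≠ 0 := fun e => hne (by rw [vec_eq_of_add e])
  have hxr := h_comm_zero hrx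
  have hcr := h_comm_zero hrc
  have hrr : h r r = 0 := by rw [hr, h_add_right, ← hr, hra, hrp, add_zero]
  -- the partner of `x`
  obtain ⟨α, hα, hx2⟩ := partner P Y ha hp hx hap hax hpx hne hnax hnpx
  rw [← hr] at hx2
  have hα1 : α ≠ 1 := by
    intro e
    subst e
    obtain ⟨g, hg, hinj, t0, ht0⟩ := six P Y ha hp hx hap hax hpx hne hnax hnpx
    have hs : ∃ t, L (g t) ≠ L x ∧ L (g t) ≠ L (x + (1 : F) • r) := by
      by_contra hcon
      push Not at hcon
      have hcard : (Finset.univ.image fun t => L (g t)).card ≤ 2 :=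
        (Finset.card_le_card (t := {L x, L (x + (1 : F) • r)}) (fun z hz => by
          obtain ⟨t, -, rfl⟩ := Finset.mem_image.mp hz
          by_cases e : L (g t) = L x
          · exact Finset.mem_insert.mpr (Or.inl e)
          · exact Finset.mem_insert.mpr (Or.inr (Finset.mem_singleton.mpr (hcon t e))))).trans
          Finset.card_le_two
      rw [Finset.card_image_of_injective _ (fun t t' e => hinj t t' e), Finset.card_univ,
        hF.card_eq] at hcard
      omega
    obtain ⟨t, n3, n4⟩ := hs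
    obtain ⟨l, B, hl, -, -, hw⟩ := quad P Y ha hp hx hx2 (hg t).1
      (by rw [one_smul, hr]; abel) hap hax hpx hne hnax hnpx (hg t).2.1 (hg t).2.2.1
      (hg t).2.2.2.1 (hg t).2.2.2.2.1 (hg t).2.2.2.2.2 n3 n4
    refine hzero _ (hg t).1 (hg t).2.1 (hg t).2.2.1 (hg t).2.2.2.1 ?_
    rw [hw, h_smul_left, ← hr, h_add_left, h_add_left, h_smul_left, hab, hxb, hrb, add_self,
      mul_zero, add_zero, mul_zero]
  -- the point `z` of the third line and its partner
  set z := c + x with hz
  have hzR : Rep D d L z := by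
    have := rep_third P Y hx hc
    rwa [hcx, one_smul] at this
  have hza : h z a = 0 := by rw [hz, h_add_left, hca, hxa, add_zero]
  have hzp : h z p = 0 := by rw [hz, h_add_left, hcp, hxp, add_zero]
  have hzb : h z b = 1 := by rw [hz, h_add_left, hcb, hxb, zero_add]
  have hzx : h z x = 1 := by rw [hz, h_add_left, hcx, hx.1, add_zero]
  have hzr : h z r = 0 := by rw [hz, h_add_left, hcr, hxr, add_zero]
  have nza : L a ≠ L z := rep_ne P Y ha hzR hax (by rw [hzx]; exact one_ne_zero)
  have nzp : L p ≠ L z := rep_ne P Y hp hzR hpx (by rw [hzx]; exact one_ne_zero)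
  obtain ⟨β, hβ, hz2⟩ := partner P Y ha hp hzR hap (h_comm_zero hza) (h_comm_zero hzp) hne nza nzp
  rw [← hr] at hz2
  -- equal displacements
  have hc1 : Rep D d L (c + α • r) := by
    have := rep_third P Y hx2 hzR
    rw [h_add_right, h_smul_right, hzx, hzr, mul_zero, add_zero, one_smul] at this
    convert this using 1
    rw [hz]
    have := vec_add_self x
    linear_combination (norm := module) -(this)
  have hc2 : Rep D d L (c + β • r) := by
    have := rep_third P Y hx hz2
    rw [h_add_left, h_smul_left, hzx, hrx, mul_zero, add_zero, one_smul] at this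
    convert this using 1
    rw [hz]
    have := vec_add_self x
    linear_combination (norm := module) -(this)
  have hαβ : α = β := by
    by_contra hn
    have e0 : Rep D d L (c + (0 : F) • r) := by rwa [zero_smul, add_zero]
    have hl : h (c + (0 : F) • r) (c + α • r) = 0 := by
      simp [h_add_left, h_add_right, h_smul_left, h_smul_right, hc.1, hcr]
    rcases line P Y e0 hc1 hc2 hl (A := 1 + β / α) (B := β / α) (by
      rw [smul_add (β / α), smul_smul, div_mul_cancel₀ _ hα, zero_smul, add_zero, add_smul, one_smul]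
      have := vec_add_self ((β / α) • c)
      linear_combination (norm := module) -(this)) with e | e
    · exact shift_ne P Y e0 hc2 hcx hrx hr0 (Ne.symm hβ) e.symm
    · exact shift_ne P Y hc1 hc2 hcx hrx hr0 hn e.symm
  subst hαβ
  -- the quadrangle on `z` and `x + b`
  have hx'R : Rep D d L (x + b) := by
    have := rep_third P Y hb hx
    rwa [hxb, one_smul] at this
  have hx'2 : Rep D d L (x + α • r + b) := by
    have := rep_third P Y hb hx2
    rwa [h_add_left, h_smul_left, hxb, hrb, mul_zero, add_zero, one_smul] at this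
  set z2 := z + α • r with hz2e
  have q1 : h z z2 = 0 := by rw [hz2e, h_add_right, h_smul_right, hzR.1, hzr, mul_zero, add_zero]
  have q2 : h z (x + b) = 0 := by rw [h_add_right, hzx, hzb, add_self]
  have q3 : h z2 (x + b) = 0 := by
    rw [hz2e, h_add_left, h_smul_left, q2, h_add_right, hrx, hrb, add_zero, mul_zero, add_zero]
  have hz2a : h z2 a = 0 := by rw [hz2e, h_add_left, h_smul_left, hza, hra, mul_zero, add_zero]
  have hxa' : h (x + b) a ≠ 0 := by rw [h_add_left, hxa, hba, zero_add]; exact one_ne_zero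
  have d1 : L z ≠ L z2 := by
    have := shift_ne P Y (u := z) (r := r) (z := x) (α := 0) (β := α)
      (by rwa [zero_smul, add_zero]) hz2 hzx hrx hr0 (Ne.symm hα)
    rwa [zero_smul, add_zero] at this
  have d2 : L z ≠ L (x + b) := rep_ne P Y hzR hx'R hza hxa'
  have d3 : L z2 ≠ L (x + b) := rep_ne P Y hz2 hx'R hz2a hxa'
  obtain ⟨g, hg, hinj, -⟩ := six P Y hzR hz2 hx'R q1 q2 q3 d1 d2 d3
  set s := Finset.univ.filter fun t =>
    L (g t) ≠ L (x + b) ∧ L (g t) ≠ L (x + α • r + b) with hs
  have hs2 : 1 < s.card := by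
    have h1 : (Finset.univ.filter fun t => ¬ (L (g t) ≠ L (x + b) ∧
        L (g t) ≠ L (x + α • r + b))).card ≤ 2 := by
      refine (Finset.card_le_card_of_injOn (fun t => L (g t))
        (t := {L (x + b), L (x + α • r + b)}) (fun t ht => ?_)
        (fun t _ t' _ e => hinj t t' e)).trans Finset.card_le_two
      have := (Finset.mem_filter.mp ht).2
      rw [not_and_or, not_not, not_not] at this
      simpa using this
    have h2 := Finset.card_filter_add_card_filter_not (s := (Finset.univ : Finset F))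
      (fun t => L (g t) ≠ L (x + b) ∧ L (g t) ≠ L (x + α • r + b))
    rw [Finset.card_univ, hF.card_eq, ← hs] at h2
    omega
  obtain ⟨t, ht, t', ht', hne'⟩ := Finset.one_lt_card.mp hs2
  rw [hs, Finset.mem_filter] at ht ht'
  have key : ∀ t, L (g t) ≠ L (x + b) → L (g t) ≠ L (x + α • r + b) →
      ∃ l B : F, l ≠ 0 ∧ B ≠ 0 ∧ B ≠ α ∧ g t = l • (c + b + B • r) := by
    intro t n3 n4
    obtain ⟨l, B, hl, hB, hB1, e⟩ := quad P Y hzR hz2 hx'R hx'2 (hg t).1
      (by rw [hz2e]; have := vec_add_self z; linear_combination (norm := module) -(this))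
      q1 q2 q3 d1 d2 d3 (hg t).2.1 (hg t).2.2.1 (hg t).2.2.2.1 (hg t).2.2.2.2.1 (hg t).2.2.2.2.2
      n3 n4
    refine ⟨l, B * α, hl, mul_ne_zero hB hα, fun e' => hB1 ((mul_eq_right₀ hα).mp e'), ?_⟩
    rw [e]
    congr 1
    rw [hz2e, hz]
    have h1 := vec_add_self x
    have h2 := vec_add_self (B • (c + x))
    linear_combination (norm := module) h1 + h2
  have heR : Rep D d L (c + b + r) := by
    obtain ⟨l, B, hl, hB, hBα, e⟩ := key t ht.2.1 ht.2.2
    obtain ⟨l', B', hl', hB', hBα', e'⟩ := key t' ht'.2.1 ht'.2.2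
    have hBB : B ≠ B' := by
      intro e1
      subst e1
      refine hne' (hinj t t' ?_)
      have : g t = (l / l') • g t' := by rw [e, e', smul_smul, div_mul_cancel₀ _ hl']
      rw [this]
      exact Y.smul (hg t').1.1 (hg t').1.2.1 (div_ne_zero hl hl')
    have one : ∀ (u : Fin 6 → F) (k : F), k ≠ 0 → Rep D d L (k • (u + (1 : F) • r)) →
        Rep D d L (u + r) := fun u k hk hR => by
      have := rep_smul P Y hR (inv_ne_zero hk)
      rwa [smul_smul, inv_mul_cancel₀ hk, one_smul, one_smul] at this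
    by_cases h1 : B = 1
    · subst h1; exact one _ l hl (e ▸ (hg t).1)
    by_cases h2 : B' = 1
    · subst h2; exact one _ l' hl' (e' ▸ (hg t').1)
    exfalso
    exact hBB ((third hα one_ne_zero hα1 hB hBα h1).trans (third hα one_ne_zero hα1 hB' hBα' h2).symm)
  have hbr : Rep D d L (b + r) := by
    have h1 : Rep D d L (a + b) := by
      have := rep_third P Y hb ha
      rwa [hab, one_smul] at this
    have h2 := rep_third P Y hp h1
    rw [h_add_left, hap, hbp, zero_add, one_smul] at h2
    convert h2 using 1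
    rw [hr]; abel
  have hl : h c (b + r) = 0 := by rw [h_add_right, hcb, hcr, add_zero]
  have hea : h (c + b + r) a = 1 := by
    rw [h_add_left, h_add_left, hca, hba, hra, zero_add, add_zero]
  rcases line P Y hc hbr heR hl (A := 1) (B := 1) (by simp [add_assoc]) with e | e
  · exact rep_ne P Y hc heR hca (by rw [hea]; exact one_ne_zero) e.symm
  · obtain ⟨k, hk, e'⟩ := Y.inj heR.1 heR.2.1 hbr.1 hbr.2.1 e
    have h1 := congrArg (fun w => h w a) e'
    simp [h_add_left, h_smul_left, hca, hba, hra] at h1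
    rw [← h1, one_smul, add_assoc] at e'
    exact hc.2.1 (by simpa using e')

/-- No point is non-perpendicular to `a`, `p` and all members commuting with both. -/
theorem pairing {a p q : Fin 6 → F} (ha : Rep D d L a) (hp : Rep D d L p) (hap : h a p = 0)
    (hne : L a ≠ L p) (hall : ∀ w, Rep D d L w → h w a = 0 → h w p = 0 → h w q ≠ 0) : False := by
  classical
  wlog hn : h a q = 1 ∧ h p q = 1 generalizing a p
  · have ka := hall a ha ha.1 hap
    have kp := hall p hp (h_comm_zero hap) hp.1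
    refine this (rep_smul P Y ha (inv_ne_zero ka)) (rep_smul P Y hp (inv_ne_zero kp))
      (by rw [h_smul_left, h_smul_right, hap, mul_zero, mul_zero]) ?_ ?_
      ⟨by rw [h_smul_left, inv_mul_cancel₀ ka], by rw [h_smul_left, inv_mul_cancel₀ kp]⟩
    · rw [Y.smul ha.1 ha.2.1 (inv_ne_zero ka), Y.smul hp.1 hp.2.1 (inv_ne_zero kp)]
      exact hne
    · intro w hw e1 e2
      rw [h_smul_right, mul_eq_zero] at e1 e2
      exact hall w hw (e1.resolve_left (pow_ne_zero _ (inv_ne_zero ka)))
        (e2.resolve_left (pow_ne_zero _ (inv_ne_zero kp)))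
  obtain ⟨haq, hpq⟩ := hn
  obtain ⟨l, hl⟩ := exists_fan P ha.2.2 (Y.mem ha.1 ha.2.1) hp.2.2 (Y.mem hp.1 hp.2.1)
    (rep_near P Y ha hp hap hne)
  have hv : ∀ k t, ∃ u, Rep D d L u ∧ L u = l k t ∧ h u a = 0 ∧ h u p = 0 ∧ h u q = 1 := by
    intro k t
    obtain ⟨u, hu, e⟩ := exists_rep P Y (hl.mem k t).1.1 (hl.mem k t).1.2
    have e1 : h u a = 0 := by
      rw [← rep_commute P Y hu ha, e]; exact (hl.mem k t).2.1.2.2.symm
    have e2 : h u p = 0 := by
      rw [← rep_commute P Y hu hp, e]; exact (hl.mem k t).2.2.2.2.symm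
    have e3 := inv_ne_zero (hall u hu e1 e2)
    exact ⟨_, rep_smul P Y hu e3, by rw [Y.smul hu.1 hu.2.1 e3, e],
      by rw [h_smul_left, e1, mul_zero], by rw [h_smul_left, e2, mul_zero],
      by rw [h_smul_left, inv_mul_cancel₀ (hall u hu e1 e2)]⟩
  choose v hvR hve hva hvp hvq using hv
  have hcomm : ∀ k k' t t', h (v k t) (v k' t') = 0 ↔ k = k' := fun k k' t t' => by
    rw [← rep_commute P Y (hvR k t) (hvR k' t'), hve, hve]; exact hl.comm k k' t t'
  have hna : ∀ k t, L a ≠ L (v k t) := fun k t => by rw [hve]; exact (hl.mem k t).2.1.2.1.symm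
  have hnp : ∀ k t, L p ≠ L (v k t) := fun k t => by rw [hve]; exact (hl.mem k t).2.2.2.1.symm
  have hinj : ∀ k t t', L (v k t) = L (v k t') → t = t' := fun k t t' e => by
    rw [hve, hve] at e; exact (hl.inj k k t t' e).2
  -- two levels on each line
  have lev : ∀ k, ∃ t A B C : F, C ≠ 0 ∧ C ≠ 1 ∧ v k t = A • a + B • p + C • v k 0 := by
    intro k
    have hli := rep_li P Y ha hp (hvR k 0) hap hne (hna k 0) (hnp k 0)
    choose A B C hABC using fun t => plane hli ha.1 hp.1 (hvR k 0).1 (hvR k t).1 hap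
      (h_comm_zero (hva k 0)) (h_comm_zero (hva k t)) (h_comm_zero (hvp k 0))
      (h_comm_zero (hvp k t)) ((hcomm k k 0 t).mpr rfl)
    have hC : ∀ t, C t ≠ 0 := fun t e =>
      (line P Y ha hp (hvR k t) hap (by rw [hABC t, e, zero_smul, add_zero])).elim
        (hna k t).symm (hnp k t).symm
    by_contra hcon
    push Not at hcon
    have hC1 : ∀ t, C t = 1 := fun t => by
      by_contra e; exact hcon t (A t) (B t) (C t) (hC t) e (hABC t)
    have hAB : ∀ t, A t = B t := fun t => by
      have := hvq k t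
      rw [hABC t] at this
      simp [h_add_left, h_smul_left, haq, hpq, hvq, hC1] at this
      exact eq_of_add_eq_zero this
    obtain ⟨w, hw⟩ := exists_omega (F := F)
    obtain ⟨hw0, hw1⟩ := omega_ne hw
    have hA1 : A 1 ≠ 0 := fun e => one_ne_zero (hinj k 1 0 (by
      rw [hABC 1, ← hAB, hC1, e, zero_smul, zero_smul, one_smul, zero_add, zero_add]))
    have key : v k w = (A w / A 1) • v k 1 + (1 + A w / A 1) • v k 0 := by
      rw [hABC w, hABC 1, ← hAB, ← hAB, hC1, hC1, smul_add, smul_add, smul_smul, smul_smul,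
        div_mul_cancel₀ _ hA1, add_smul, smul_smul, mul_one]
      have := vec_add_self ((A w / A 1) • v k 0)
      linear_combination (norm := module) -(this)
    rcases line P Y (hvR k 1) (hvR k 0) (hvR k w) ((hcomm k k 1 0).mpr rfl) key with e | e
    · exact hw1 (hinj k _ _ e)
    · exact hw0 (hinj k _ _ e)
  obtain ⟨t, A, B, C, hC0, hC1, ex⟩ := lev 0
  obtain ⟨t', A', B', C', hC0', hC1', ez⟩ := lev 1
  have hval : ∀ i j, h (v 1 j) (v 0 i) ≠ 0 ∧ h (v 1 j) (v 0 i) ≠ 1 := by
    intro i j
    refine ⟨fun e => absurd ((hcomm _ _ _ _).mp e) (by decide), fun e => ?_⟩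
    have hT := rep_third P Y (hvR 0 i) (hvR 1 j)
    rw [e, one_smul] at hT
    exact hall _ hT (by rw [h_add_left, hva, hva, add_zero]) (by rw [h_add_left, hvp, hvp, add_zero])
      (by rw [h_add_left, hvq, hvq, add_self])
  set k := h (v 1 0) (v 0 0) with hk
  have a0 := fun j => h_comm_zero (hva 0 j)
  have p0 := fun j => h_comm_zero (hvp 0 j)
  have e10 : h (v 1 0) (v 0 t) = C ^ 2 * k := by
    rw [ex]; simp [h_add_right, h_smul_right, hva, hvp, hk]
  have e01 : h (v 1 t') (v 0 0) = C' * k := by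
    rw [ez]; simp [h_add_left, h_smul_left, a0, p0, hk]
  have e11 : h (v 1 t') (v 0 t) = C' * (C ^ 2 * k) := by
    rw [← e10]; nth_rw 1 [ez]; simp [h_add_left, h_smul_left, a0, p0]
  obtain ⟨k0, k1⟩ := hval 0 0
  rw [← hk] at k0 k1
  obtain ⟨u0, u1⟩ := hval t 0
  rw [e10] at u0 u1
  obtain ⟨v0, v1⟩ := hval 0 t'
  rw [e01] at v0 v1
  obtain ⟨w0, w1⟩ := hval t t'
  rw [e11] at w0 w1
  have hc1 : C ^ 2 ≠ 1 := fun e => (fixed_cases (x := C) (by
    have := cube hC0; linear_combination (1 + C) * e - this)).elim hC0 hC1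
  have eu : C ^ 2 * k = k + 1 := third k0 one_ne_zero k1 u0
    (fun e => hc1 ((mul_eq_right₀ k0).mp e)) u1
  have ev : C' * k = k + 1 := third k0 one_ne_zero k1 v0
    (fun e => hC1' ((mul_eq_right₀ k0).mp e)) v1
  have ec : C' = C ^ 2 := mul_right_cancel₀ k0 (ev.trans eu.symm)
  have hne1 : C' * (C ^ 2 * k) ≠ C ^ 2 * k := fun e => hC1' ((mul_eq_right₀ u0).mp e)
  rw [eu] at hne1 w0 w1
  have hk' : k + 1 ≠ 1 := fun e => k0 (by simpa using e)
  have ew : C' * (k + 1) = k := by
    refine (third (eu ▸ u0) one_ne_zero hk' w0 hne1 w1).trans ?_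
    rw [add_assoc, add_self, add_zero]
  have e4 : C ^ 2 * (C ^ 2 * k) = k := by rw [eu, ← ec, ew]
  rw [← mul_assoc, ← sq, sq_sq] at e4
  exact hC1 ((mul_eq_right₀ k0).mp e4)

end Cfsg.Agent.Fi22RecogWebArc11
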