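import Cfsg.Agent.Lib.ReflectionThree
import Cfsg.Prelude.Def_FischerSpaces

/-!
# A set acting by conjugation like the lines of one norm is a projective reflection group

If the members of a set `W` carry vectors, one for each pair of opposite vectors of norm `c`, so that
conjugation by members corresponds to reflection, then the group they generate, modulo its centre, is
the reflection group modulo its centre.
-/

set_option autoImplicit false
set_option linter.unusedSectionVars false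
set_option linter.style.haveILetI false

namespace Cfsg.Agent.Fi22Refl55Proj

open Matrix Cfsg.Agent.ReflectionThree

variable {n : ℕ} (Q : QuadraticForm (ZMod 3) (Fin n → ZMod 3)) {c : ZMod 3}

/-- Equal up to sign. -/
def Sg (u v : Fin n → ZMod 3) : Prop := u = v ∨ u = -v

theorem Sg.symm' {u v : Fin n → ZMod 3} (h : Sg u v) : Sg v u := by
  rcases h with h | h
  · exact Or.inl h.symm
  · exact Or.inr (by rw [h, neg_neg])

theorem Sg.trans' {u v w : Fin n → ZMod 3} (h : Sg u v) (h' : Sg v w) : Sg u w := by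
  rcases h with rfl | rfl <;> rcases h' with rfl | rfl
  · exact Or.inl rfl
  · exact Or.inr rfl
  · exact Or.inr rfl
  · exact Or.inl (neg_neg w)

theorem Sg.mulVec {u v : Fin n → ZMod 3} (M : Matrix (Fin n) (Fin n) (ZMod 3)) (h : Sg u v) :
    Sg (M *ᵥ u) (M *ᵥ v) := by
  rcases h with rfl | rfl
  · exact Or.inl rfl
  · exact Or.inr (mulVec_neg v M)

theorem Sg.reflection {u v : Fin n → ZMod 3} (h : Sg u v) :
    Cfsg.reflectionMatrix (⇑Q) u = Cfsg.reflectionMatrix (⇑Q) v := by
  rcases h with rfl | rfl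
  · rfl
  · exact reflection_neg Q v

/-- A reflection determines its vector up to sign. -/
theorem sg_of_reflection {u v : Fin n → ZMod 3} (hu : Q u ≠ 0) (_hv : Q v = Q u)
    (h : Cfsg.reflectionMatrix (⇑Q) u = Cfsg.reflectionMatrix (⇑Q) v) : Sg u v := by
  have hs : Cfsg.reflectionMatrix (⇑Q) v *ᵥ u = -u := by rw [← h]; exact reflection_self Q hu
  rw [mulVec_reflection] at hs
  set k := (Q v)⁻¹ * QuadraticMap.polar (⇑Q) v u with hk
  have h2 : ∀ i, u i = -(k * v i) := fun i => by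
    have := congrFun hs i
    simp only [Pi.sub_apply, Pi.smul_apply, smul_eq_mul, Pi.neg_apply] at this
    generalize k * v i = p at this ⊢
    generalize u i = q at this ⊢
    revert p q
    decide
  have hz : ∀ k : ZMod 3, k = 0 ∨ k = 1 ∨ k = -1 := by decide
  rcases hz k with h0 | h0 | h0
  · exact absurd (funext fun i => by rw [h2, h0]; simp) (ne_zero_of_norm Q hu)
  · exact Or.inr (funext fun i => by rw [h2, h0]; simp)
  · exact Or.inl (funext fun i => by rw [h2, h0]; simp)

variable {G : Type*} [Group G] {W : Set G} {v : G → Fin n → ZMod 3}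

/-- Vectors for the members, conjugation going to reflection. -/
structure Rep (c : ZMod 3) (W : Set G) (v : G → Fin n → ZMod 3) : Prop where
  norm : ∀ w ∈ W, Q (v w) = c
  surj : ∀ x, Q x = c → ∃ w ∈ W, Sg (v w) x
  inj : ∀ w ∈ W, ∀ w' ∈ W, Sg (v w) (v w') → w = w'
  mem : ∀ w ∈ W, ∀ y ∈ W, w * y * w⁻¹ ∈ W
  equiv : ∀ w ∈ W, ∀ y ∈ W, Sg (v (w * y * w⁻¹)) (Cfsg.reflectionMatrix (⇑Q) (v w) *ᵥ v y)

theorem iso_of_rep {Q : QuadraticForm (ZMod 3) (Fin n → ZMod 3)} (hc : c ≠ 0)
    (R : Rep Q c W v) :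
    Nonempty (↥(Subgroup.closure W) ⧸ Subgroup.center ↥(Subgroup.closure W) ≃*
      Cfsg.reflectionSubgroup (⇑Q) c ⧸ Subgroup.center (Cfsg.reflectionSubgroup (⇑Q) c)) := by
  classical
  set L := Subgroup.closure W with hL
  set T := Cfsg.reflectionSubgroup (⇑Q) c with hT
  -- the matrix of a member of `T`
  let mat : ↥T → Matrix (Fin n) (Fin n) (ZMod 3) := fun r =>
    (((r : Cfsg.isometryGroup (ZMod 3) (⇑Q)) : GL (Fin n) (ZMod 3)) : Matrix (Fin n) (Fin n) (ZMod 3))
  have mat_one : mat 1 = 1 := rfl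
  have mat_mul : ∀ r s, mat (r * s) = mat r * mat s := fun _ _ => rfl
  have mat_inj : Function.Injective mat := fun r s h => Subtype.ext (Subtype.ext (Units.ext h))
  -- the graph
  let Gr : Set (↥L × ↥T) := {p | ∃ w ∈ W, (p.1 : G) = w ∧ mat p.2 = Cfsg.reflectionMatrix (⇑Q) (v w)}
  set H := Subgroup.closure Gr with hH
  let Pr : ↥L × ↥T → Prop := fun p => ∀ y ∈ W, (p.1 : G) * y * (p.1 : G)⁻¹ ∈ W ∧
    Sg (v ((p.1 : G) * y * (p.1 : G)⁻¹)) (mat p.2 *ᵥ v y)
  have hP : ∀ p ∈ H, Pr p ∧ Pr p⁻¹ := by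
    intro p hp
    induction hp using Subgroup.closure_induction with
    | mem p hp =>
      obtain ⟨w, hw, e1, e2⟩ := hp
      have hPp : Pr p := fun y hy => by rw [e1, e2]; exact ⟨R.mem w hw y hy, R.equiv w hw y hy⟩
      refine ⟨hPp, fun y hy => ?_⟩
      have hne : Q (v w) ≠ 0 := by rw [R.norm w hw]; exact hc
      have hinv : mat p.2⁻¹ = Cfsg.reflectionMatrix (⇑Q) (v w) := by
        have h1 : mat p.2⁻¹ * mat p.2 = 1 := by rw [← mat_mul, inv_mul_cancel, mat_one]
        rw [e2] at h1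
        rw [← mul_one (mat p.2⁻¹), ← reflection_sq Q hne, ← mul_assoc, h1, one_mul]
      have hww : w * w ∈ Subgroup.centralizer W := by
        rw [Subgroup.mem_centralizer_iff]
        intro u hu
        obtain ⟨hm, hsg⟩ := hPp u hu
        obtain ⟨hm2, hsg2⟩ := hPp _ hm
        rw [e1] at hm hsg hm2 hsg2
        have heq : w * (w * u * w⁻¹) * w⁻¹ = u := by
          refine R.inj _ hm2 u hu (hsg2.trans' ?_)
          have := hsg.mulVec (mat p.2)
          rw [e2] at this ⊢
          rwa [mulVec_mulVec, reflection_sq Q hne, one_mulVec] at this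
        calc u * (w * w) = w * (w * u * w⁻¹) * w⁻¹ * (w * w) := by rw [heq]
          _ = w * w * u := by group
      have hflip : w⁻¹ * y * w = w * y * w⁻¹ := by
        have := (Subgroup.mem_centralizer_iff.mp hww) y hy
        calc w⁻¹ * y * w = w⁻¹ * (y * (w * w)) * w⁻¹ := by group
          _ = w⁻¹ * (w * w * y) * w⁻¹ := by rw [this]
          _ = w * y * w⁻¹ := by group
      show ((p.1⁻¹ : ↥L) : G) * y * ((p.1⁻¹ : ↥L) : G)⁻¹ ∈ W ∧ _
      rw [Subgroup.coe_inv, inv_inv, e1, hflip]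
      refine ⟨R.mem w hw y hy, ?_⟩
      show Sg (v (((p.1⁻¹ : ↥L) : G) * y * ((p.1⁻¹ : ↥L) : G)⁻¹)) (mat p.2⁻¹ *ᵥ v y)
      rw [Subgroup.coe_inv, inv_inv, e1, hflip, hinv]
      exact R.equiv w hw y hy
    | one =>
      have h1 : Pr 1 := fun y hy => by
        refine ⟨by simpa using hy, Or.inl ?_⟩
        show v ((1 : G) * y * (1 : G)⁻¹) = mat 1 *ᵥ v y
        rw [mat_one, one_mulVec, one_mul, inv_one, mul_one]
      exact ⟨h1, by rwa [inv_one]⟩
    | mul a b _ _ ha hb =>
      have key : ∀ {a b : ↥L × ↥T}, Pr a → Pr b → Pr (a * b) := fun {a b} pa pb y hy => by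
        obtain ⟨m1, s1⟩ := pb y hy
        obtain ⟨m2, s2⟩ := pa _ m1
        have e1 : ((a * b).1 : G) * y * ((a * b).1 : G)⁻¹
            = (a.1 : G) * ((b.1 : G) * y * (b.1 : G)⁻¹) * (a.1 : G)⁻¹ := by
          show (a.1 : G) * b.1 * y * ((a.1 : G) * b.1)⁻¹ = _
          group
        rw [e1, show mat (a * b).2 = mat a.2 * mat b.2 from mat_mul _ _, ← mulVec_mulVec]
        exact ⟨m2, s2.trans' (s1.mulVec _)⟩
      exact ⟨key ha.1 hb.1, by rw [_root_.mul_inv_rev]; exact key hb.2 ha.2⟩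
    | inv a _ ha => exact ⟨ha.2, by rw [inv_inv]; exact ha.1⟩
  -- centre of `L`
  have cL : ∀ g : ↥L, g ∈ Subgroup.center ↥L ↔ ∀ y ∈ W, (g : G) * y * (g : G)⁻¹ = y := by
    intro g
    constructor
    · intro hg y hy
      have := congrArg Subtype.val (Subgroup.mem_center_iff.mp hg ⟨y, Subgroup.subset_closure hy⟩)
      rw [show (g : G) * y = y * g from this.symm, mul_inv_cancel_right]
    · intro h
      have hle : L ≤ Subgroup.centralizer ({(g : G)} : Set G) :=
        (Subgroup.closure_le _).mpr fun y hy =>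
          Subgroup.mem_centralizer_singleton_iff.mpr (mul_inv_eq_iff_eq_mul.mp (h y hy)).symm
      exact Subgroup.mem_center_iff.mpr fun k =>
        Subtype.ext (Subgroup.mem_centralizer_singleton_iff.mp (hle k.2))
  -- centre of `T`
  have refl_mem : ∀ x, Q x = c → ∃ r : ↥T, mat r = Cfsg.reflectionMatrix (⇑Q) x := fun x hx => by
    have hne : Q x ≠ 0 := by rw [hx]; exact hc
    let u : GL (Fin n) (ZMod 3) := ⟨_, _, reflection_sq Q hne, reflection_sq Q hne⟩
    have hu : u ∈ Cfsg.isometryGroup (ZMod 3) (⇑Q) := fun y _ => Q_reflection Q hne y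
    exact ⟨⟨⟨u, hu⟩, Subgroup.subset_closure ⟨x, hx, rfl⟩⟩, rfl⟩
  have iso_mat : ∀ r : ↥T, ∀ y, Q (mat r *ᵥ y) = Q y := fun r y =>
    ((r : Cfsg.isometryGroup (ZMod 3) (⇑Q))).2 y y
  have cT : ∀ r : ↥T, r ∈ Subgroup.center ↥T ↔ ∀ y ∈ W, Sg (mat r *ᵥ v y) (v y) := by
    intro r
    constructor
    · intro hr y hy
      obtain ⟨s, hs⟩ := refl_mem (v y) (R.norm y hy)
      have hcomm : mat r * mat s = mat s * mat r := by
        rw [← mat_mul, ← mat_mul, Subgroup.mem_center_iff.mp hr s]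
      rw [hs, mul_reflection Q (iso_mat r)] at hcomm
      have hh : Cfsg.reflectionMatrix (⇑Q) (mat r *ᵥ v y) = Cfsg.reflectionMatrix (⇑Q) (v y) := by
        have h1 : mat r * mat r⁻¹ = 1 := by rw [← mat_mul, mul_inv_cancel, mat_one]
        have := congrArg (· * mat r⁻¹) hcomm
        simp only [mul_assoc, h1, mul_one] at this
        exact this
      exact sg_of_reflection Q (by rw [iso_mat, R.norm y hy]; exact hc) (iso_mat r _).symm hh
    · intro h
      rw [Subgroup.mem_center_iff]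
      rintro ⟨k, hk⟩
      induction hk using Subgroup.closure_induction with
      | mem k hk =>
        obtain ⟨x, hx, hkx⟩ := hk
        obtain ⟨w, hw, hsg⟩ := R.surj x hx
        refine mat_inj ?_
        rw [mat_mul, mat_mul,
          show mat ⟨k, Subgroup.subset_closure ⟨x, hx, hkx⟩⟩ = Cfsg.reflectionMatrix (⇑Q) x from hkx,
          ← hsg.reflection Q, mul_reflection Q (iso_mat r), (h w hw).reflection Q]
      | one => exact (one_mul r).trans (mul_one r).symm
      | mul a b ha hb iha ihb =>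
        show (⟨a, ha⟩ * ⟨b, hb⟩ : ↥T) * r = r * (⟨a, ha⟩ * ⟨b, hb⟩)
        rw [mul_assoc, ihb, ← mul_assoc, iha, mul_assoc]
      | inv a ha iha =>
        show (⟨a, ha⟩⁻¹ : ↥T) * r = r * (⟨a, ha⟩ : ↥T)⁻¹
        exact (Commute.inv_left (show Commute (⟨a, ha⟩ : ↥T) r from iha)).eq
  -- the two projections
  let ρ : ↥H →* ↥L ⧸ Subgroup.center ↥L :=
    (QuotientGroup.mk' _).comp ((MonoidHom.fst ↥L ↥T).comp H.subtype)
  let σ : ↥H →* ↥T ⧸ Subgroup.center ↥T :=
    (QuotientGroup.mk' _).comp ((MonoidHom.snd ↥L ↥T).comp H.subtype)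
  have sρ : Function.Surjective ρ := by
    refine (QuotientGroup.mk'_surjective _).comp fun g => ?_
    suffices g ∈ H.map (MonoidHom.fst ↥L ↥T) by
      obtain ⟨p, hp, rfl⟩ := this
      exact ⟨⟨p, hp⟩, rfl⟩
    obtain ⟨g, hg⟩ := g
    induction hg using Subgroup.closure_induction with
    | mem w hw =>
      obtain ⟨r, hr⟩ := refl_mem (v w) (R.norm w hw)
      exact ⟨(⟨w, Subgroup.subset_closure hw⟩, r), Subgroup.subset_closure ⟨w, hw, rfl, hr⟩, rfl⟩
    | one => exact one_mem _
    | mul a b ha hb iha ihb => exact mul_mem iha ihb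
    | inv a ha iha => exact inv_mem iha
  have sσ : Function.Surjective σ := by
    refine (QuotientGroup.mk'_surjective _).comp fun g => ?_
    suffices g ∈ H.map (MonoidHom.snd ↥L ↥T) by
      obtain ⟨p, hp, rfl⟩ := this
      exact ⟨⟨p, hp⟩, rfl⟩
    obtain ⟨g, hg⟩ := g
    induction hg using Subgroup.closure_induction with
    | mem k hk =>
      obtain ⟨x, hx, hkx⟩ := hk
      obtain ⟨w, hw, hsg⟩ := R.surj x hx
      exact ⟨(⟨w, Subgroup.subset_closure hw⟩, ⟨k, Subgroup.subset_closure ⟨x, hx, hkx⟩⟩),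
        Subgroup.subset_closure ⟨w, hw, rfl, hkx.trans (hsg.reflection Q).symm⟩, rfl⟩
    | one => exact one_mem _
    | mul a b ha hb iha ihb => exact mul_mem iha ihb
    | inv a ha iha => exact inv_mem iha
  have hker : ρ.ker = σ.ker := by
    ext p
    obtain ⟨hp, -⟩ := hP p.1 p.2
    show ρ p = 1 ↔ σ p = 1
    simp only [ρ, σ, MonoidHom.comp_apply, QuotientGroup.mk'_apply, QuotientGroup.eq_one_iff]
    show p.1.1 ∈ Subgroup.center ↥L ↔ p.1.2 ∈ Subgroup.center ↥T
    rw [cL, cT]
    constructor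
    · intro h y hy
      obtain ⟨-, hs⟩ := hp y hy
      rw [h y hy] at hs
      exact hs.symm'
    · intro h y hy
      obtain ⟨hm, hs⟩ := hp y hy
      exact R.inj _ hm y hy (hs.trans' (h y hy))
  exact ⟨((QuotientGroup.quotientKerEquivOfSurjective ρ sρ).symm.trans
    (QuotientGroup.quotientMulEquivOfEq hker)).trans (QuotientGroup.quotientKerEquivOfSurjective σ sσ)⟩

end Cfsg.Agent.Fi22Refl55Proj
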