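import Cfsg.Agent.Lib.ThreeTransAut41

/-!
Which elements centralise a chosen element: the tests that pin down the image of one point.
-/

set_option autoImplicit false

namespace Cfsg.Agent.ThreeTransRecognise41

open Cfsg.Agent.CosetCertCore Cfsg.Agent.CosetCertTable Cfsg.Agent.CosetCertPres
open Cfsg.Agent.ThreeTransAut41

/-- The words of the symbols: transposition of a point, the chosen element, some generators. -/
def syms (R : Nat) (w A path : List Nat) : List (List Nat) :=
  [dw R path, w] ++ A.map fun y => [y]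

/-- A point given as the image of a root under symbols; `src = none` is the moving root. -/
noncomputable def derived (D : Table) (e : Nat → Nat) (R : Nat) (w A path : List Nat)
    (src : Option Nat) (Mw : List Nat) : Nat :=
  D.run (ex (syms R w A path) Mw) (src.elim (D.run path (e R)) e)

section

variable {P : Pres} {S : List Wx} {C : Cert} {M : Nat} {D : Table}
  (h : Enumerated P S C M D) {d : Fin D.N → P.Grp} {E : Nat → Fin D.N}
include h

theorem fixed_to_fixed {w : List Nat} (hw : ∀ x ∈ w, x < D.NG) (g : P.Grp)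
    (hc : g * val P.gg w = val P.gg w * g) {i : Fin D.N} (hi : D.run w i = (i : Nat)) :
    D.run w ((rho h g i : Fin D.N) : Nat) = ((rho h g i : Fin D.N) : Nat) := by
  have := transport h g [w] [w] [0] rfl
    (by intro k hk; obtain rfl : k = 0 := by simp at hk; omega
        exact hc)
    (by simpa using hw) (by simpa using hw) (i := i) (j := i) (i' := rho h g i) rfl
    (by simpa [ex] using hi)
  simpa [ex] using this

variable (hd : Data h d E)
include hd

theorem not_fixed {w : List Nat} (hw : ∀ x ∈ w, x < D.NG) (g : P.Grp)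
    (hc : g * val P.gg w = val P.gg w * g) {i : Fin D.N} (hi : D.run w i ≠ (i : Nat)) :
    D.run w ((rho h g i : Fin D.N) : Nat) ≠ ((rho h g i : Fin D.N) : Nat) := by
  intro hf
  apply hi
  have hc' : g⁻¹ * val P.gg w = val P.gg w * g⁻¹ := by
    rw [eq_mul_inv_iff_mul_eq, mul_assoc, inv_mul_eq_iff_eq_mul]
    exact hc.symm
  have := fixed_to_fixed h hw g⁻¹ hc' hf
  rwa [← Equiv.Perm.mul_apply, ← map_mul, inv_mul_cancel, map_one, Equiv.Perm.one_apply] at this

/-- A conjugate of the setting keeps the symbols. -/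
theorem syms_conj {R : Nat} (hR : R < D.NG) (w A : List Nat) (hw : ∀ x ∈ w, x < D.NG)
    (hA : ∀ y ∈ A, y < D.NG) (g : P.Grp) (hc : g * val P.gg w = val P.gg w * g)
    (hgA : ∀ y ∈ A, rho h g (E y) = E y) {pa pb : List Nat} (hpa : ∀ x ∈ pa, x < D.NG)
    (hpb : ∀ x ∈ pb, x < D.NG) {i i' : Fin D.N} (hi : D.run pa (E R) = (i : Nat))
    (hi' : D.run pb (E R) = (i' : Nat)) (hgi : rho h g i = i') :
    ∀ k < (syms R w A pa).length,
      g * val P.gg ((syms R w A pa).getD k []) = val P.gg ((syms R w A pb).getD k []) * g := by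
  intro k hk
  match k with
  | 0 =>
    show g * val P.gg (dw R pa) = val P.gg (dw R pb) * g
    rw [d_word h hd hR hpa hi, d_word h hd hR hpb hi', ← hgi, hd.conj]
    group
  | 1 => exact hc
  | k + 2 =>
    have hk' : k < A.length := by simp [syms] at hk; omega
    show g * val P.gg ((A.map fun y => [y]).getD k []) = val P.gg ((A.map fun y => [y]).getD k []) * g
    rw [List.getD_eq_getElem _ _ (by simpa using hk'), List.getElem_map, val_cons, val_nil, mul_one]
    have hm := List.getElem_mem hk'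
    rw [← hd.base _ (hA _ hm)]
    exact (fix_iff h hd g _).mp (hgA _ hm)

theorem syms_letters {R : Nat} (hR : R < D.NG) {w A pa : List Nat} (hw : ∀ x ∈ w, x < D.NG)
    (hA : ∀ y ∈ A, y < D.NG) (hpa : ∀ x ∈ pa, x < D.NG) :
    ∀ u ∈ syms R w A pa, ∀ x ∈ u, x < D.NG := by
  intro u hu x hx
  simp only [syms, List.cons_append, List.nil_append, List.mem_cons, List.mem_map] at hu
  rcases hu with rfl | rfl | ⟨y, hy, rfl⟩
  · simp only [dw, List.mem_append, List.mem_reverse, List.mem_singleton] at hx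
    rcases hx with (hx | rfl) | hx
    exacts [hpa x hx, hR, hpa x hx]
  · exact hw x hx
  · obtain rfl := List.mem_singleton.mp hx
    exact hA _ hy

/-- The image of a derived point. -/
theorem image_derived (e : Nat → Nat) (he : ∀ x < D.NG, (E x : Nat) = e x) {R : Nat} (hR : R < D.NG)
    (w A : List Nat) (hw : ∀ x ∈ w, x < D.NG) (hA : ∀ y ∈ A, y < D.NG) (g : P.Grp)
    (hc : g * val P.gg w = val P.gg w * g) (hgA : ∀ y ∈ A, rho h g (E y) = E y)
    {pa pb : List Nat} (hpa : ∀ x ∈ pa, x < D.NG) (hpb : ∀ x ∈ pb, x < D.NG) {i : Fin D.N}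
    (hi : D.run pa (e R) = (i : Nat)) (hgi : ((rho h g i : Fin D.N) : Nat) = D.run pb (e R))
    (src : Option Nat) (hsrc : ∀ y ∈ src, y ∈ A) (Mw : List Nat) {j : Fin D.N}
    (hj : derived D e R w A pa src Mw = (j : Nat)) :
    ((rho h g j : Fin D.N) : Nat) = derived D e R w A pb src Mw := by
  have hs := syms_conj h hd hR w A hw hA g hc hgA hpa hpb (i := i) (i' := rho h g i)
    (by rw [he R hR]; exact hi) (by rw [he R hR]; exact hgi.symm) rfl
  have hlen : (syms R w A pa).length = (syms R w A pb).length := by simp [syms]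
  cases src with
  | none =>
    simp only [derived, Option.elim] at hj ⊢
    rw [hi] at hj
    rw [← hgi]
    exact (transport h g _ _ Mw hlen hs (syms_letters h hd hR hw hA hpa)
      (syms_letters h hd hR hw hA hpb) rfl hj).symm
  | some y =>
    have hy : y ∈ A := hsrc y rfl
    simp only [derived, Option.elim] at hj ⊢
    rw [← he y (hA y hy)] at hj ⊢
    exact (transport h g _ _ Mw hlen hs (syms_letters h hd hR hw hA hpa)
      (syms_letters h hd hR hw hA hpb) (hgA y hy) hj).symm

/-- A test separating two possible images. -/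
theorem test_contra (e : Nat → Nat) (he : ∀ x < D.NG, (E x : Nat) = e x) {R : Nat} (hR : R < D.NG)
    (w A : List Nat) (hw : ∀ x ∈ w, x < D.NG) (hA : ∀ y ∈ A, y < D.NG) (g : P.Grp)
    (hc : g * val P.gg w = val P.gg w * g) (hgA : ∀ y ∈ A, rho h g (E y) = E y)
    {pa pb : List Nat} (hpa : ∀ x ∈ pa, x < D.NG) (hpb : ∀ x ∈ pb, x < D.NG) {i : Fin D.N}
    (hi : D.run pa (e R) = (i : Nat)) (hgi : ((rho h g i : Fin D.N) : Nat) = D.run pb (e R))
    (Mw : List Nat)
    (hne : (Nat.beq (derived D e R w A pa none Mw) (D.run pa (e R)) ==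
      Nat.beq (derived D e R w A pb none Mw) (D.run pb (e R))) = false) : False := by
  have hlt : derived D e R w A pa none Mw < D.N := by
    refine run_lt h (fun x hx => ?_) (by show D.run pa (e R) < D.N; rw [hi]; exact i.2)
    simp only [ex, List.mem_flatMap] at hx
    obtain ⟨k, -, hx⟩ := hx
    by_cases hk : k < (syms R w A pa).length
    · rw [List.getD_eq_getElem _ _ hk] at hx
      exact syms_letters h hd hR hw hA hpa _ (List.getElem_mem hk) x hx
    · rw [List.getD_eq_default _ _ (by omega)] at hx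
      simp at hx
  have himg := image_derived h hd e he hR w A hw hA g hc hgA hpa hpb hi hgi none (by simp) Mw
    (j := ⟨_, hlt⟩) rfl
  rw [← himg, ← hgi, hi, beq_eq_false_iff_ne] at hne
  apply hne
  rw [Bool.eq_iff_iff, Nat.beq_eq, Nat.beq_eq, Fin.val_inj, Equiv.apply_eq_iff_eq]
  exact ⟨fun hh => Fin.ext hh, fun hh => congrArg Fin.val hh⟩

/-- All images of the derived points and the possible images of one more point. -/
theorem images (e : Nat → Nat) (he : ∀ x < D.NG, (E x : Nat) = e x) {R : Nat} (hR : R < D.NG)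
    (w A : List Nat) (hw : ∀ x ∈ w, x < D.NG) (hA : ∀ y ∈ A, y < D.NG) (g : P.Grp)
    (hc : g * val P.gg w = val P.gg w * g) (hgA : ∀ y ∈ A, rho h g (E y) = E y)
    {pa pb : List Nat} (hpa : ∀ x ∈ pa, x < D.NG) (hpb : ∀ x ∈ pb, x < D.NG) {i : Fin D.N}
    (hi : D.run pa (e R) = (i : Nat)) (hgi : ((rho h g i : Fin D.N) : Nat) = D.run pb (e R))
    (ders : List (Nat × Option Nat × List Nat)) (m : Nat) (hm : m < D.NG)
    (hders : ∀ t ∈ ders, t.1 < D.NG ∧ e t.1 ≠ e m ∧ (∀ y ∈ t.2.1, y ∈ A) ∧
      derived D e R w A pa t.2.1 t.2.2 = e t.1)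
    (qp : List (Nat × List Nat))
    (hqp : ∀ yq ∈ qp, (∀ z ∈ yq.2, z < D.NG) ∧ ∃ t ∈ ders, t.1 = yq.1 ∧
      derived D e R w A pb t.2.1 t.2.2 = D.run yq.2 (e R))
    (allowed : List Nat)
    (hall : allFrom (fun p => !patOk D R (e R) (e m) qp p || allowed.elem p) D.N 0 = true) :
    (∀ t ∈ ders, ((rho h g (E t.1) : Fin D.N) : Nat) = derived D e R w A pb t.2.1 t.2.2) ∧
      ((rho h g (E m) : Fin D.N) : Nat) ∈ allowed := by
  have key : ∀ t ∈ ders, ((rho h g (E t.1) : Fin D.N) : Nat) = derived D e R w A pb t.2.1 t.2.2 := by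
    intro t ht
    obtain ⟨h1, -, h2, h3⟩ := hders t ht
    exact image_derived h hd e he hR w A hw hA g hc hgA hpa hpb hi hgi t.2.1 h2 t.2.2
      (by rw [he _ h1]; exact h3)
  refine ⟨key, ?_⟩
  have hp := pattern h hd hR hm g qp fun yq hy => by
    obtain ⟨hl, t, ht, hty, hq⟩ := hqp yq hy
    obtain ⟨h1, h2, -, -⟩ := hders t ht
    refine ⟨hty ▸ h1, fun hh => h2 ?_, hl, ?_⟩
    · rw [hty, ← he yq.1 (hty ▸ h1), ← he m hm, hh]
    · rw [he R hR, ← hty, key t ht, hq]
  have hh := (allFrom_iff _ _ _).mp hall _ (Nat.zero_le _) (Nat.lt_of_lt_of_eq (rho h g (E m)).2 (Nat.zero_add _).symm)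
  rw [he R hR, he m hm] at hp
  rw [hp] at hh
  simpa using hh

end

end Cfsg.Agent.ThreeTransRecognise41
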