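import Cfsg.Agent.S0471
import Cfsg.Agent.Lib.ThreeTransRecognise41
import Cfsg.Agent.Lib.ThreeTransFi22Data41

/-!
Automorphisms of the presented group Fi22: there are at most twice as many as elements, and the
symmetry of the diagram is not inner.
-/

set_option autoImplicit false
set_option maxRecDepth 100000
set_option Elab.async false

namespace Cfsg.Agent.ThreeTransFi22Out41

open Cfsg.Agent.CosetCertCore Cfsg.Agent.CosetCertTable Cfsg.Agent.CosetCertPres
open Cfsg.Agent.CosetCertOrder Cfsg.Agent.CosetCertRestrict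
open Cfsg.Agent.ThreeTransAut41 Cfsg.Agent.ThreeTransRecognise41 Cfsg.Agent.ThreeTransFi22Data41
open Cfsg.Agent.CosetCertU62 (P22 T22 HH)

local notation "hh" => CosetCertFi22U.enumerated

/-- Point number of a generator. -/
def e (x : Nat) : Nat := EL.getD x 0

/-- Point of a generator. -/
noncomputable def E (x : Nat) : Fin T22.N :=
  if hx : e x < T22.N then ⟨e x, hx⟩ else ⟨0, CosetCertFi22U.enumerated.table.npos⟩

theorem e_lt : ∀ x < T22.NG, e x < T22.N := by decide +kernel

theorem E_val : ∀ x < T22.NG, (E x : Nat) = e x := fun x hx => by rw [E, dif_pos (e_lt x hx)]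

theorem E_inj : Function.Injective (fun x : {x // x < T22.NG} => E x.1) := by
  intro x y hxy
  have h := congrArg Fin.val hxy
  simp only [E_val _ x.2, E_val _ y.2] at h
  exact Subtype.ext ((by decide +kernel : ∀ x < T22.NG, ∀ y < T22.NG, e x = e y → x = y) _ x.2 _ y.2 h)

theorem exists_data : ∃ d : Fin T22.N → P22.Grp, Data hh d E := by
  letI : Fintype (GaloisField 2 2) := Fintype.ofFinite _
  have h4 : Fintype.card (GaloisField 2 2) = 4 := by
    rw [← Nat.card_eq_fintype_card, GaloisField.card 2 2 (by norm_num)]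
    norm_num
  haveI : UnitaryF4Geo.FourField (GaloisField 2 2) := ⟨h4⟩
  obtain ⟨w, hw⟩ := UnitaryF4Geo.exists_omega (F := GaloisField 2 2)
  obtain ⟨d, hc, hi, h0⟩ := exists_map hh (S0471.z_facts hw).2
  have hr : ∀ x < T22.NG, e x < T22.N := e_lt
  have b0 : d (E 0) = P22.gg 0 := by
    rw [show E 0 = ⟨0, CosetCertFi22U.enumerated.table.npos⟩ from
      Fin.ext ((E_val 0 (by decide +kernel)).trans (by decide +kernel))]
    exact h0
  have hd0 : ∀ c p : Nat, c < T22.NG → p < T22.NG → d (E p) = P22.gg p →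
      [p, c, p, c, p, c] ∈ P22.relWords → T22.run [p, c] (e c) = e p → d (E c) = P22.gg c := by
    intro c p hcl hpl hp hrel hrun
    have h1 := apply_of_run hh (w := [p, c]) (by simp [hpl, hcl]) (i := E c) (j := E p)
      (by rw [E_val c hcl, E_val p hpl]; exact hrun)
    have h2 := hc (val P22.gg [p, c]) (E p)
    rw [h1, hp] at h2
    rw [h2]
    have h3 := val_relWords CosetCertFi22U.good hrel
    simp only [val_cons, val_nil, mul_one] at h3 ⊢
    have hinv : ∀ y, (P22.gg y)⁻¹ = P22.gg y := fun y => inv_of_sq _ CosetCertFi22Simple.invol y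
    have hsq := CosetCertFi22Simple.invol
    calc P22.gg p * P22.gg c * P22.gg p * (P22.gg p * P22.gg c)⁻¹
        = P22.gg p * P22.gg c * P22.gg p * P22.gg c * P22.gg p := by rw [mul_inv_rev, hinv, hinv]; simp [mul_assoc]
      _ = (P22.gg p * (P22.gg c * (P22.gg p * (P22.gg c * (P22.gg p * P22.gg c))))) * P22.gg c := by
          simp [mul_assoc, hsq]
      _ = P22.gg c := by rw [h3, one_mul]
  have b1 := hd0 1 0 (by decide +kernel) (by decide +kernel) b0 (by decide +kernel) (by decide +kernel)
  have b2 := hd0 2 1 (by decide +kernel) (by decide +kernel) b1 (by decide +kernel) (by decide +kernel)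
  have b3 := hd0 3 2 (by decide +kernel) (by decide +kernel) b2 (by decide +kernel) (by decide +kernel)
  have b4 := hd0 4 3 (by decide +kernel) (by decide +kernel) b3 (by decide +kernel) (by decide +kernel)
  have b5 := hd0 5 4 (by decide +kernel) (by decide +kernel) b4 (by decide +kernel) (by decide +kernel)
  have b6 := hd0 6 5 (by decide +kernel) (by decide +kernel) b5 (by decide +kernel) (by decide +kernel)
  have b7 := hd0 7 3 (by decide +kernel) (by decide +kernel) b3 (by decide +kernel) (by decide +kernel)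
  have b8 := hd0 8 7 (by decide +kernel) (by decide +kernel) b7 (by decide +kernel) (by decide +kernel)
  refine ⟨d, ⟨hc, hi, CosetCertFi22Simple.card_and_faithful.2, fun x hx => ?_⟩⟩
  have hx9 : x < 9 := hx
  interval_cases x
  exacts [b0, b1, b2, b3, b4, b5, b6, b7, b8]

/-- The symmetry of the diagram. -/
def sg (x : Nat) : Nat := [6, 5, 4, 3, 2, 1, 0, 7, 8].getD x x

theorem sg_lt : ∀ x < T22.NG, sg x < T22.NG ∧ sg (sg x) = x := by decide +kernel

/-- The swapped action on a point. -/
def pi (p : Nat) : Nat := Nat.land (Nat.shiftRight PI (12 * p)) 4095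

theorem pi_ok : allFrom (fun p => Nat.blt (pi p) T22.N && Nat.beq (pi (pi p)) p &&
    (List.range 9).all fun x => Nat.beq (pi (T22.img x p)) (T22.img (sg x) (pi p))) T22.N 0 = true := by
  decide +kernel

theorem pi_fix : cntFrom (fun p => Nat.beq (pi p) p) T22.N 0 0 = 360 := by decide +kernel

theorem pi_root : pi (e 0) = e (sg 0) := by decide +kernel

theorem gg_fix_iff {x : Nat} (hx : x < T22.NG) (i : Fin T22.N) :
    rho hh (P22.gg x) i = i ↔ T22.img x i = (i : Nat) := by
  rw [← img_eq hh hx, Fin.val_inj]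

theorem fixed_points : allFrom (fun i => !Nat.beq (T22.run W i) i || Nat.beq i (e 0)) T22.N 0 = true := by
  decide +kernel

theorem cover_ok : allFrom (fun i => !Nat.beq (T22.img 0 i) i || Nat.beq i (e 0) ||
    (TRI.map Prod.fst).elem i) T22.N 0 = true := by
  decide +kernel

theorem tri_ok : (TRI.all fun t => Nat.blt t.2.1 REPS.length && Nat.blt t.2.2 11 &&
    Nat.beq (T22.run (List.replicate t.2.2 W).flatten t.1) (T22.run (REPS.getD t.2.1 []) (e 0))) = true := by
  decide +kernel

theorem tests_ok : ∀ j < TESTS.length,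
    (Nat.beq (derived T22 e 0 W [0] (REPS.getD 0 []) none (TESTS.getD j []))
        (T22.run (REPS.getD 0 []) (e 0)) ==
      Nat.beq (derived T22 e 0 W [0] (REPS.getD (j + 3) []) none (TESTS.getD j []))
        (T22.run (REPS.getD (j + 3) []) (e 0))) = false := by
  decide +kernel

theorem ders_ok : ∀ t ∈ DERS, t.1 < T22.NG ∧ e t.1 ≠ e 1 ∧ (∀ y ∈ t.2.1.toList, y ∈ [0]) ∧
    derived T22 e 0 W [0] (REPS.getD 0 []) t.2.1 t.2.2 = e t.1 := by
  decide +kernel

theorem qp_ok : ∀ c ∈ [(0, QP0), (1, QP17), (2, QP89)], ∀ yq ∈ (c : Nat × List (Nat × List Nat)).2,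
    (∀ z ∈ yq.2, z < T22.NG) ∧ ∃ t ∈ DERS, t.1 = yq.1 ∧
      derived T22 e 0 W [0] (REPS.getD c.1 []) t.2.1 t.2.2 = T22.run yq.2 (e 0) := by
  decide +kernel

theorem pat0 : allFrom (fun p => !patOk T22 0 (e 0) (e 1) QP0 p ||
    [e 1, T22.img 0 (e 1)].elem p) T22.N 0 = true := by
  decide +kernel

theorem pat17 : allFrom (fun p => !patOk T22 0 (e 0) (e 1) QP17 p || ([] : List Nat).elem p) T22.N 0 = true := by
  decide +kernel

theorem pat89 : allFrom (fun p => !patOk T22 0 (e 0) (e 1) QP89 p || [79, 99].elem p) T22.N 0 = true := by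
  decide +kernel

theorem sig_ok : ∀ c ∈ [(79, H79), (99, H99)], (∀ z ∈ (c : Nat × List Nat).2, z < T22.NG) ∧
    T22.run c.2 c.1 = e (sg 1) ∧
    ∀ t ∈ DERS, T22.run c.2 (derived T22 e 0 W [0] (REPS.getD 2 []) t.2.1 t.2.2) = e (sg t.1) := by
  decide +kernel

theorem count : prodCnt T22 e [] [2, 5, 6, 1, 0, 7, 8, 3, 4] = 2 * 64561751654400 := by
  decide +kernel

section

variable {d : Fin T22.N → P22.Grp} (hd : Data hh d E)
include hd

/-- No element induces the symmetry of the diagram. -/
theorem no_swap (k : P22.Grp) (hk : ∀ x < T22.NG, rho hh k (E x) = E (sg x)) : False := by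
  have hN : ∀ p : Fin T22.N, pi p < T22.N ∧ pi (pi p) = p ∧
      ∀ x < 9, pi (T22.img x p) = T22.img (sg x) (pi p) := by
    intro p
    have := (allFrom_iff _ _ _).mp pi_ok p (Nat.zero_le _) (Nat.lt_of_lt_of_eq p.2 (Nat.zero_add _).symm)
    simp only [Bool.and_eq_true, Nat.blt_eq, Nat.beq_eq, List.all_eq_true, List.mem_range] at this
    exact ⟨this.1.1, this.1.2, this.2⟩
  have hx : ∀ x < T22.NG, k * P22.gg x * k⁻¹ = P22.gg (sg x) := by
    intro x hx
    rw [← hd.base x hx, ← hd.conj, hk x hx, hd.base _ (sg_lt x hx).1]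
  have hclo : ∀ g : P22.Grp, ∀ p : Fin T22.N, ((rho hh k p : Fin T22.N) : Nat) = pi p →
      ((rho hh k (rho hh g p) : Fin T22.N) : Nat) = pi (rho hh g p : Fin T22.N) := by
    intro g
    have hg : g ∈ Subgroup.closure {y | ∃ x, x < P22.gens.length ∧ y = P22.gg x} := by
      rw [closure_gg CosetCertFi22U.good]; exact Subgroup.mem_top g
    induction hg using Subgroup.closure_induction_left with
    | one => intro p hp; rwa [map_one, Equiv.Perm.one_apply]
    | mul_left y hy z _ ih =>
      obtain ⟨x, hxl, rfl⟩ := hy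
      intro p hp
      have hx9 : x < T22.NG := hxl
      rw [map_mul, Equiv.Perm.mul_apply]
      have h1 := ih p hp
      generalize rho hh z p = q at h1 ⊢
      rw [img_eq hh hx9 q, (hN q).2.2 x hx9, ← h1, ← img_eq hh (sg_lt x hx9).1, ← hx x hx9]
      simp [Equiv.Perm.mul_apply]
    | inv_mul_cancel y hy z _ ih =>
      obtain ⟨x, hxl, rfl⟩ := hy
      intro p hp
      rw [inv_of_sq _ CosetCertFi22Simple.invol]
      have hx9 : x < T22.NG := hxl
      rw [map_mul, Equiv.Perm.mul_apply]
      have h1 := ih p hp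
      generalize rho hh z p = q at h1 ⊢
      rw [img_eq hh hx9 q, (hN q).2.2 x hx9, ← h1, ← img_eq hh (sg_lt x hx9).1, ← hx x hx9]
      simp [Equiv.Perm.mul_apply]
  have hpi : ∀ p : Fin T22.N, ((rho hh k p : Fin T22.N) : Nat) = pi p := by
    intro p
    obtain ⟨m, hp⟩ := exists_move hh (E 0) p
    rw [← hp]
    refine hclo _ _ ?_
    rw [hk 0 (by decide +kernel), E_val _ (by decide +kernel), E_val 0 (by decide +kernel), pi_root]
  haveI : Finite P22.Grp := CosetCertFi22Simple.upper.1
  haveI := CosetCertFi22Simple.simple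
  let π : Equiv.Perm (Fin T22.N) := rho hh k
  have h2 : π ^ 2 = 1 := by
    refine Equiv.ext fun p => Fin.ext ?_
    rw [pow_two, Equiv.Perm.mul_apply, Equiv.Perm.one_apply]
    show ((rho hh k (rho hh k p) : Fin T22.N) : Nat) = p
    rw [hpi, hpi, (hN p).2.1]
  have hfix : Fintype.card (Function.fixedPoints π) = 360 := by
    rw [← Nat.card_eq_fintype_card]
    refine (Nat.card_congr (Equiv.subtypeEquivRight fun p => ?_)).trans
      ((?_ : Nat.card {p : Fin T22.N // pi p = (p : Nat)} = 360))
    · show π p = p ↔ _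
      rw [← Fin.val_inj]
      show ((rho hh k p : Fin T22.N) : Nat) = p ↔ _
      rw [hpi]
    · rw [← pi_fix, cntFrom_eq, Nat.zero_add, ← List.range_eq_range', List.countP_eq_length_filter,
        ← List.toFinset_card_of_nodup ((List.nodup_range (n := T22.N)).filter _), Nat.card_eq_fintype_card,
        Fintype.card_subtype]
      refine Finset.card_bij (fun p _ => (p : Nat)) (fun p hp => ?_) (fun _ _ _ _ h => Fin.ext h)
        (fun q hq => ?_)
      · simp only [Finset.mem_filter, Finset.mem_univ, true_and] at hp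
        simp [hp]
      · simp only [List.mem_toFinset, List.mem_filter, List.mem_range, Nat.beq_eq] at hq
        exact ⟨⟨q, hq.1⟩, by simp [hq.2], rfl⟩
  have hs : Equiv.Perm.sign π = -1 := by
    rw [Equiv.Perm.sign_of_pow_two_eq_one h2, hfix, Fintype.card_fin]
    exact Odd.neg_one_pow ⟨787, by decide +kernel⟩
  let χ : P22.Grp →* ℤˣ := Equiv.Perm.sign.comp (rho hh)
  rcases (inferInstance : χ.ker.Normal).eq_bot_or_eq_top with hb | ht
  · have := Nat.card_le_card_of_injective χ (χ.ker_eq_bot_iff.mp hb)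
    rw [CosetCertFi22Simple.card_and_faithful.1, Nat.card_eq_fintype_card, Fintype.card_units_int] at this
    omega
  · have hk1 : χ k = 1 := (SetLike.ext_iff.mp ht k).mpr (Subgroup.mem_top k)
    have : Equiv.Perm.sign π = 1 := hk1
    rw [hs] at this
    exact absurd this (by decide)

theorem center_trivial (g : P22.Grp) (hg : ∀ k, g * k = k * g) : g = 1 :=
  eq_one hh hd g fun x _ => (fix_iff hh hd g _).mpr (hg _)

/-- The chosen element has order 11. -/
theorem order_w : orderOf (val P22.gg W) = 11 := by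
  haveI : Fact (Nat.Prime 11) := ⟨by norm_num⟩
  refine orderOf_eq_prime ?_ ?_
  · rw [← val_replicate]
    refine val_eq_one hh hd (by decide +kernel) fun x hx => ?_
    rw [E_val x hx]
    exact (by decide +kernel : ∀ x < T22.NG, T22.run (List.replicate 11 W).flatten (e x) = e x) x hx
  · intro h1
    have h2 := inv_run hh (w := W) (by decide +kernel) (E 1)
    rw [h1, map_one, inv_one, Equiv.Perm.one_apply, E_val 1 (by decide +kernel)] at h2
    exact absurd h2 (by decide +kernel)

/-- An involution commuting with the chosen element is the first generator. -/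
theorem invol_eq (t : P22.Grp) (ht : orderOf t = 2) (hc : t * val P22.gg W = val P22.gg W * t) :
    t = P22.gg 0 := by
  have h0 : (0 : Nat) < T22.NG := by decide +kernel
  have hW : ∀ x ∈ W, x < T22.NG := by decide +kernel
  have hfix0 : T22.run W (E 0) = (E 0 : Nat) := by rw [E_val 0 h0]; decide +kernel
  have ht0 : rho hh t (E 0) = E 0 := by
    have h1 := fixed_to_fixed hh hW t hc hfix0
    have h2 := (allFrom_iff _ _ _).mp fixed_points _ (Nat.zero_le _)
      (Nat.lt_of_lt_of_eq (rho hh t (E 0)).2 (Nat.zero_add _).symm)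
    simp only [h1, Bool.or_eq_true, Bool.not_eq_true', Nat.beq_eq] at h2
    rcases h2 with h2 | h2
    · exact absurd h2 (by rw [show Nat.beq _ _ = true from Nat.beq_refl _]; simp)
    · exact Fin.ext (h2.trans (E_val 0 h0).symm)
  have hta : t * P22.gg 0 = P22.gg 0 * t := by
    rw [← hd.base 0 h0]
    exact (fix_iff hh hd t _).mp ht0
  -- the chosen point and its image
  have hp0 : ∀ x ∈ REPS.getD 0 [], x < T22.NG := by decide +kernel
  obtain ⟨i0, hi0⟩ : ∃ i0 : Fin T22.N, T22.run (REPS.getD 0 []) (e 0) = (i0 : Nat) :=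
    ⟨⟨_, run_lt hh hp0 (e_lt 0 h0)⟩, rfl⟩
  have hi0a : T22.img 0 i0 = (i0 : Nat) := by rw [← hi0]; decide +kernel
  have hi0w : T22.run W i0 ≠ (i0 : Nat) := by rw [← hi0]; decide +kernel
  have hq0 : T22.img 0 (rho hh t i0 : Fin T22.N) = ((rho hh t i0 : Fin T22.N) : Nat) := by
    rw [← img_eq hh h0, Fin.val_inj, ← Equiv.Perm.mul_apply, ← map_mul, ← hta, map_mul,
      Equiv.Perm.mul_apply, (gg_fix_iff h0 i0).mpr hi0a]
  have hqw := not_fixed hh hd hW t hc hi0w
  have hcov := (allFrom_iff _ _ _).mp cover_ok _ (Nat.zero_le _)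
    (Nat.lt_of_lt_of_eq (rho hh t i0).2 (Nat.zero_add _).symm)
  simp only [hq0, Bool.or_eq_true, Bool.not_eq_true', Nat.beq_eq, List.elem_eq_mem,
    decide_eq_true_eq] at hcov
  rcases hcov with (hcov | hcov) | hcov
  · exact absurd hcov (by rw [show Nat.beq _ _ = true from Nat.beq_refl _]; simp)
  · exact absurd (by rw [hcov]; decide +kernel) hqw
  obtain ⟨⟨i, idx, k⟩, htri, hik⟩ := List.mem_map.mp hcov
  have hT := tri_ok
  rw [List.all_eq_true] at hT
  have hT := hT _ htri
  simp only [Bool.and_eq_true, Nat.blt_eq, Nat.beq_eq] at hT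
  obtain ⟨⟨hidx, hk⟩, hrun⟩ := hT
  have hwk : ∀ x ∈ (List.replicate k W).flatten, x < T22.NG := by
    intro x hx
    obtain ⟨u, hu, hxu⟩ := List.mem_flatten.mp hx
    rw [List.eq_of_mem_replicate hu] at hxu
    exact hW x hxu
  obtain ⟨g, hgdef⟩ : ∃ g, g = (val P22.gg (List.replicate k W).flatten)⁻¹ * t := ⟨_, rfl⟩
  have hgc : g * val P22.gg W = val P22.gg W * g := by
    rw [hgdef, val_replicate]
    exact (((Commute.refl (val P22.gg W)).pow_left k).inv_left.mul_left hc).eq
  have hgA : ∀ y ∈ [0], rho hh g (E y) = E y := by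
    intro y hy
    obtain rfl := List.mem_singleton.mp hy
    rw [hgdef, map_mul, Equiv.Perm.mul_apply, ht0, map_inv]
    refine Fin.ext ((inv_run hh hwk _).trans ?_)
    rw [E_val 0 h0]
    exact (by decide +kernel : ∀ k < 11, T22.run (List.replicate k W).flatten (e 0) = e 0) k hk
  have hgi : ((rho hh g i0 : Fin T22.N) : Nat) = T22.run (REPS.getD idx []) (e 0) := by
    rw [hgdef, map_mul, Equiv.Perm.mul_apply, map_inv, inv_run hh hwk, ← hrun]
    exact congrArg _ hik.symm
  have hpb : ∀ x ∈ REPS.getD idx [], x < T22.NG :=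
    (by decide +kernel : ∀ j < REPS.length, ∀ x ∈ REPS.getD j [], x < T22.NG) idx hidx
  have hA : ∀ y ∈ [0], y < T22.NG := by decide +kernel
  have hm : 1 < T22.NG := by decide +kernel
  have hders : ∀ t ∈ DERS, t.1 < T22.NG ∧ e t.1 ≠ e 1 ∧ (∀ y ∈ t.2.1, y ∈ [0]) ∧
      derived T22 e 0 W [0] (REPS.getD 0 []) t.2.1 t.2.2 = e t.1 := by
    intro t ht
    obtain ⟨a, b, c, f⟩ := ders_ok t ht
    exact ⟨a, b, fun y hy => c y (by simpa using hy), f⟩
  have hall : ∀ x < T22.NG, x = 1 ∨ ∃ t ∈ DERS, t.1 = x := by decide +kernel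
  have hex : ∀ c ∈ [(0, QP0, [e 1, T22.img 0 (e 1)]), (1, QP17, ([] : List Nat)), (2, QP89, [79, 99])],
      (c : Nat × List (Nat × List Nat) × List Nat).1 = idx →
      (∀ t ∈ DERS, ((rho hh g (E t.1) : Fin T22.N) : Nat) =
        derived T22 e 0 W [0] (REPS.getD idx []) t.2.1 t.2.2) ∧
      ((rho hh g (E 1) : Fin T22.N) : Nat) ∈ c.2.2 := by
    intro c hmem hci
    subst hci
    refine images hh hd e E_val h0 W [0] hW hA g hgc hgA hp0 hpb hi0 hgi DERS 1 hm hders c.2.1
      (fun yq hyq => ?_) c.2.2 ?_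
    · simp only [List.mem_cons, List.not_mem_nil, or_false] at hmem
      rcases hmem with rfl | rfl | rfl <;>
        exact qp_ok (_, _) (by simp) yq hyq
    · simp only [List.mem_cons, List.not_mem_nil, or_false] at hmem
      rcases hmem with rfl | rfl | rfl
      exacts [pat0, pat17, pat89]
  rcases (by omega : idx = 0 ∨ idx = 1 ∨ idx = 2 ∨ 3 ≤ idx) with rfl | rfl | rfl | h3
  · obtain ⟨h1, h2⟩ := hex (0, QP0, [e 1, T22.img 0 (e 1)]) (by simp) rfl
    have hfix : ∀ x < T22.NG, x ≠ 1 → rho hh g (E x) = E x := by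
      intro x hx hx1
      obtain ⟨t, htm, rfl⟩ := (hall x hx).resolve_left hx1
      exact Fin.ext ((h1 t htm).trans (((hders t htm).2.2.2).trans (E_val _ hx).symm))
    have hcases : g = 1 ∨ g = P22.gg 0 := by
      simp only [List.mem_cons, List.not_mem_nil, or_false] at h2
      rcases h2 with h2 | h2
      · left
        refine eq_one hh hd g fun x hx => ?_
        by_cases hx1 : x = 1
        · subst hx1; exact Fin.ext (h2.trans (E_val 1 hm).symm)
        · exact hfix x hx hx1
      · right
        have hone : P22.gg 0 * g = 1 := by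
          refine eq_one hh hd _ fun x hx => ?_
          rw [map_mul, Equiv.Perm.mul_apply]
          by_cases hx1 : x = 1
          · subst hx1
            refine Fin.ext ?_
            rw [img_eq hh h0, h2, E_val 1 hm]
            decide +kernel
          · rw [hfix x hx hx1, gg_fix_iff h0, E_val x hx]
            exact (by decide +kernel : ∀ x < T22.NG, x ≠ 1 → T22.img 0 (e x) = e x) x hx hx1
        rw [eq_inv_of_mul_eq_one_right hone, inv_of_sq _ CosetCertFi22Simple.invol]
    have hw11 : (val P22.gg W) ^ 11 = 1 := by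
      have := pow_orderOf_eq_one (val P22.gg W)
      rwa [order_w hd] at this
    have ht2 : t ^ 2 = 1 := by rw [← ht]; exact pow_orderOf_eq_one t
    have htw : t = val P22.gg (List.replicate k W).flatten * g := by rw [hgdef, mul_inv_cancel_left]
    have ht11 : t ^ 11 = t := by
      rw [show 11 = 2 * 5 + 1 from rfl, pow_succ, pow_mul, ht2, one_pow, one_mul]
    have h11 : t ^ 11 = g ^ 11 := by
      rw [htw, Commute.mul_pow, val_replicate, ← pow_mul, mul_comm k, pow_mul, hw11, one_pow, one_mul]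
      rw [val_replicate]
      exact ((show Commute g (val P22.gg W) from hgc).symm.pow_left k)
    rcases hcases with rfl | rfl
    · exfalso
      rw [← ht11, h11, one_pow, orderOf_one] at ht
      omega
    · rw [← ht11, h11, show 11 = 2 * 5 + 1 from rfl, pow_succ, pow_mul, pow_two,
        CosetCertFi22Simple.invol, one_pow, one_mul]
  · exact absurd (hex (1, QP17, []) (by simp) rfl).2 (by simp)
  · exfalso
    obtain ⟨h1, h2⟩ := hex (2, QP89, [79, 99]) (by simp) rfl
    obtain ⟨h, hq, hmem⟩ : ∃ h, ((rho hh g (E 1) : Fin T22.N) : Nat) = (h : Nat × List Nat).1 ∧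
        h ∈ [(79, H79), (99, H99)] := by
      simp only [List.mem_cons, List.not_mem_nil, or_false] at h2
      rcases h2 with h2 | h2
      exacts [⟨(79, H79), h2, by simp⟩, ⟨(99, H99), h2, by simp⟩]
    obtain ⟨hl, hs1, hsx⟩ := sig_ok h hmem
    refine no_swap hd ((val P22.gg h.2)⁻¹ * g) fun x hx => Fin.ext ?_
    rw [map_mul, Equiv.Perm.mul_apply, map_inv, inv_run hh hl, E_val _ (sg_lt x hx).1]
    rcases hall x hx with rfl | ⟨s, hsm, rfl⟩
    · rw [hq, hs1]
    · rw [h1 s hsm]
      exact hsx s hsm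
  · exfalso
    obtain ⟨j, rfl⟩ : ∃ j, idx = j + 3 := ⟨idx - 3, by omega⟩
    have hj : j < TESTS.length := by
      have hlen : REPS.length = TESTS.length + 3 := by decide +kernel
      omega
    exact test_contra hh hd e E_val h0 W [0] hW hA g hgc hgA hp0 hpb hi0 hgi _ (tests_ok j hj)

theorem closed (α : MulAut P22.Grp) : ∀ x < T22.NG, ∃ p, α (P22.gg x) = d p := by
  haveI : Finite P22.Grp := CosetCertFi22Simple.upper.1
  have h0 : (0 : Nat) < T22.NG := by decide +kernel
  letI : Fintype (GaloisField 2 2) := Fintype.ofFinite _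
  have h4 : Fintype.card (GaloisField 2 2) = 4 := by
    rw [← Nat.card_eq_fintype_card, GaloisField.card 2 2 (by norm_num)]
    norm_num
  haveI : UnitaryF4Geo.FourField (GaloisField 2 2) := ⟨h4⟩
  obtain ⟨w4, hw4⟩ := UnitaryF4Geo.exists_omega (F := GaloisField 2 2)
  obtain ⟨hord, hC⟩ := S0471.z_facts hw4
  have hH : Nat.card HH = 18393661440 := by
    have := Subgroup.card_mul_index HH
    rw [index_sub hh, CosetCertFi22Simple.card_and_faithful.1,
      show T22.N = 3510 from by decide +kernel] at this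
    omega
  obtain ⟨g, hg⟩ := exists_commuting_conj (G := P22.Grp) (p := 11) (by norm_num)
    (by rw [CosetCertFi22Simple.card_and_faithful.1]; decide +kernel) (order_w hd) (t := α (P22.gg 0))
    (by rw [card_centralizer_map, hC, hH]; decide +kernel)
  have hx := invol_eq hd _ (by
    rw [← MulAut.conj_apply, MulEquiv.orderOf_eq, MulEquiv.orderOf_eq, hord]) hg
  have hα : α (P22.gg 0) = g⁻¹ * P22.gg 0 * g := by
    calc α (P22.gg 0) = g⁻¹ * (g * α (P22.gg 0) * g⁻¹) * g := by group
      _ = _ := by rw [hx]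
  intro x hxl
  obtain ⟨c, hc⟩ : ∃ c, P22.gg x = c * P22.gg 0 * c⁻¹ := by
    obtain ⟨m, hm⟩ := exists_move hh (E 0) (E x)
    exact ⟨m, by rw [← hd.base x hxl, ← hd.base 0 h0, ← hd.conj, hm]⟩
  refine ⟨rho hh (α c * g⁻¹) (E 0), ?_⟩
  rw [hc, map_mul, map_mul, map_inv, hα, hd.conj, hd.base 0 h0]
  group

/-- The outer automorphism group has order two. -/
theorem card_out_of : Nat.card (Cfsg.Out P22.Grp) = 2 := by
  haveI : Finite P22.Grp := CosetCertFi22Simple.upper.1
  have hrel : ∀ w ∈ P22.relWords, val (fun x => P22.gg (sg x)) w = 1 := by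
    intro w hw
    have e1 : val (fun x => P22.gg (sg x)) w = val P22.gg (w.map sg) := by
      unfold val
      rw [List.map_map]
      rfl
    rw [e1]
    refine val_eq_one hh hd
      ((by decide +kernel : ∀ w ∈ P22.relWords, ∀ x ∈ w.map sg, x < T22.NG) w hw) fun x hx => ?_
    rw [E_val x hx]
    exact (by decide +kernel :
      ∀ w ∈ P22.relWords, ∀ x < T22.NG, T22.run (w.map sg) (e x) = e x) w hw x hx
  let f : P22.Grp →* P22.Grp := PresentedGroup.toGroup (lift_rels CosetCertFi22U.good (by decide +kernel)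
    (fun x => P22.gg (sg x)) (fun x => CosetCertFi22Simple.invol _) hrel (by decide +kernel))
  have hf : ∀ x < T22.NG, f (P22.gg x) = P22.gg (sg x) := by
    intro x hx
    show f (PresentedGroup.of (P22.gen x)) = _
    rw [show f (PresentedGroup.of (P22.gen x)) = P22.gg (sg (P22.gens.idxOf (P22.gen x))) from
      PresentedGroup.toGroup.of _,
      (by decide +kernel : ∀ x < T22.NG, P22.gens.idxOf (P22.gen x) = x) x hx]
  have hff : f.comp f = MonoidHom.id _ := by
    refine MonoidHom.eq_of_eqOn_dense (closure_gg CosetCertFi22U.good) ?_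
    rintro _ ⟨x, hx, rfl⟩
    show f (f (P22.gg x)) = P22.gg x
    rw [hf x hx, hf _ (sg_lt x hx).1, (sg_lt x hx).2]
  let s : MulAut P22.Grp := MonoidHom.toMulEquiv f f hff hff
  have hs : s ∉ Cfsg.Inn P22.Grp := by
    rintro ⟨k, hk⟩
    refine no_swap hd k fun x hx => hd.inj ?_
    rw [hd.conj, hd.base x hx, hd.base _ (sg_lt x hx).1, ← hf x hx]
    exact congrArg (fun a : MulAut P22.Grp => a (P22.gg x)) hk
  haveI : Finite (MulAut P22.Grp) :=
    Finite.of_injective (fun a : MulAut P22.Grp => (a : P22.Grp → P22.Grp)) DFunLike.coe_injective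
  have hle := card_aut hh hd (closed hd) e E_val [2, 5, 6, 1, 0, 7, 8, 3, 4] (by decide +kernel)
    (by decide +kernel) (by decide +kernel) E_inj
  rw [count] at hle
  have hmul := Subgroup.card_mul_index (Cfsg.Inn P22.Grp)
  rw [card_inn (center_trivial hd), CosetCertFi22Simple.card_and_faithful.1] at hmul
  have h1 : (Cfsg.Inn P22.Grp).index ≠ 1 := fun h1 => hs (by
    rw [Subgroup.index_eq_one.mp h1]; exact Subgroup.mem_top s)
  have h2 : (Cfsg.Inn P22.Grp).index ≠ 0 := Subgroup.index_ne_zero_of_finite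
  rw [← hmul, mul_comm 2] at hle
  have h3 : (Cfsg.Inn P22.Grp).index ≤ 2 := Nat.le_of_mul_le_mul_left hle (by norm_num)
  show (Cfsg.Inn P22.Grp).index = 2
  omega

end

/-- The outer automorphism group of the presented Fi22 has order two. -/
theorem card_out : Nat.card (Cfsg.Out P22.Grp) = 2 := by
  obtain ⟨d, hd⟩ := exists_data
  exact card_out_of hd

end Cfsg.Agent.ThreeTransFi22Out41
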