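import Cfsg.Agent.Lib.Fi22Refl55Data
import Cfsg.Agent.Lib.Fi22Refl55Proj
import Cfsg.Agent.Lib.ThreeTransFi22Out41

/-!
# The common neighbours of two non-commuting members of the presented Fi22

They generate, modulo the centre, the projective reflection group of a six-dimensional orthogonal space of
discriminant one over three elements.
-/

set_option autoImplicit false
set_option maxRecDepth 100000
set_option linter.unusedSectionVars false
set_option linter.style.haveILetI false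

namespace Cfsg.Agent.Fi22Refl55

open Matrix Cfsg.Agent.CosetCertCore Cfsg.Agent.CosetCertTable Cfsg.Agent.CosetCertPres
open Cfsg.Agent.CosetCertOrder Cfsg.Agent.CosetCertRestrict
open Cfsg.Agent.ThreeTransAut41
open Cfsg.Agent.CosetCertU62 (P22 T22 HH)
open Cfsg.Agent.Fi22Refl55Data Cfsg.Agent.Fi22Refl55Proj

local notation "hh" => CosetCertFi22U.enumerated
local notation "E22" => ThreeTransFi22Out41.E
local notation "e22" => ThreeTransFi22Out41.e

/-- The sum of squares in six variables over three elements. -/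
def Q6 : QuadraticForm (ZMod 3) (Fin 6 → ZMod 3) :=
  QuadraticMap.weightedSumSquares (ZMod 3) (fun _ : Fin 6 => (1 : ZMod 3))

theorem Q6_apply (x : Fin 6 → ZMod 3) : Q6 x = ∑ k, x k * x k := by
  simp [Q6, QuadraticMap.weightedSumSquares_apply]

theorem Q6_polar (u x : Fin 6 → ZMod 3) : QuadraticMap.polar (⇑Q6) u x = 2 * ∑ k, u k * x k := by
  simp only [QuadraticMap.polar, Q6_apply, Pi.add_apply, Finset.mul_sum, ← Finset.sum_sub_distrib]
  exact Finset.sum_congr rfl fun k _ => by ring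

/-- The reflection, explicitly. -/
def refl6 (u x : Fin 6 → ZMod 3) : Fin 6 → ZMod 3 := fun i => x i - 2 * (∑ k, u k * x k) * u i

/-- Unpack a code. -/
def unpack (n : Nat) : Fin 6 → ZMod 3 := fun k => ((n / 3 ^ (k : ℕ) % 3 : ℕ) : ZMod 3)

/-- The vector of a neighbour. -/
def rv (j : Nat) : Fin 6 → ZMod 3 := unpack (RV.getD j 0)

/-- The point of a neighbour. -/
def wl (j : Nat) : Nat := WL.getD j 0

/-- The words of the seven generators. -/
def GW (g : Nat) : List Nat := if g < 6 then [g + 3] else dw 0 EP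

/-- Equality up to sign, decided. -/
def sgB (u v : Fin 6 → ZMod 3) : Bool := decide (u = v) || decide (u = -v)

theorem sgB_iff {u v : Fin 6 → ZMod 3} : sgB u v = true ↔ Sg u v := by simp [sgB, Sg]

theorem wl_lt : ∀ j : Fin 126, wl j < T22.N := by decide +kernel

theorem gw_lt : ∀ g : Fin 7, ∀ x ∈ GW g, x < T22.NG := by decide +kernel

theorem gw_point : (∀ g : Fin 6, e22 (g + 3) = wl g) ∧ T22.run EP (e22 0) = wl 6 := by decide +kernel

/-- The image of a neighbour under a generator. -/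
noncomputable def img7 (g j : Nat) : Nat := WL.idxOf (T22.run (GW g) (wl j))

theorem act_ok : ∀ g : Fin 7, ∀ j : Fin 126, img7 g j < 126 ∧ T22.run (GW g) (wl j) = wl (img7 g j) ∧
    sgB (rv j) (refl6 (rv g) (rv (img7 g j))) = true := by
  decide +kernel

theorem par_all : ∀ j : Fin 126, 7 ≤ (j : ℕ) → (PAR.getD ((j : ℕ) - 7) (0, 0)).1 < 7 ∧
    (PAR.getD ((j : ℕ) - 7) (0, 0)).2 < (j : ℕ) ∧
    T22.run (GW (PAR.getD ((j : ℕ) - 7) (0, 0)).1) (wl (PAR.getD ((j : ℕ) - 7) (0, 0)).2) = wl j := by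
  decide +kernel

theorem par_ok (j : Fin 126) (hj : 7 ≤ (j : ℕ)) : ∃ (g : Fin 7) (p : Fin 126),
    (p : ℕ) < (j : ℕ) ∧ T22.run (GW g) (wl p) = wl j :=
  ⟨⟨_, (par_all j hj).1⟩, ⟨_, lt_trans (par_all j hj).2.1 j.2⟩, (par_all j hj).2.1, (par_all j hj).2.2⟩

theorem wl_inj : ∀ i j : Fin 126, wl i = wl j → i = j := by decide +kernel

theorem wl_fixed : ∀ j : Fin 126, T22.img 0 (wl j) = wl j ∧ T22.img 1 (wl j) = wl j ∧
    wl j ≠ e22 0 ∧ wl j ≠ e22 1 := by
  decide +kernel

theorem wl_all : allFrom (fun i => !Nat.beq (T22.img 0 i) i || !Nat.beq (T22.img 1 i) i ||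
    Nat.beq i (e22 0) || Nat.beq i (e22 1) || WL.elem i) T22.N 0 = true := by
  decide +kernel

theorem rv_norm : ∀ j : Fin 126, ∑ k, rv j k * rv j k = 1 := by decide +kernel

theorem rv_inj : ∀ i j : Fin 126, sgB (rv i) (rv j) = true → i = j := by decide +kernel

theorem rv_surj : ∀ n : Fin 729, ∑ k, unpack n k * unpack n k = 1 →
    ∃ j : Fin 126, sgB (rv j) (unpack n) = true := by
  decide +kernel

theorem unpack_surj : ∀ x : Fin 6 → ZMod 3, ∃ n : Fin 729, unpack n = x := by
  intro x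
  let s : ℕ := ∑ k : Fin 6, (x k).val * 3 ^ (k : ℕ)
  have hv : ∀ k, (x k).val ≤ 2 := fun k => Nat.le_of_lt_succ (ZMod.val_lt (x k))
  have hs : s = (x 0).val + (x 1).val * 3 + (x 2).val * 9 + (x 3).val * 27 + (x 4).val * 81
      + (x 5).val * 243 := by
    simp only [s, Fin.sum_univ_six]
    norm_num
  have h0 := hv 0; have h1 := hv 1; have h2 := hv 2; have h3 := hv 3; have h4 := hv 4; have h5 := hv 5
  refine ⟨⟨s, by omega⟩, funext fun k => ?_⟩
  have e1 : (s / 3 ^ (k : ℕ) % 3) = (x k).val := by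
    fin_cases k <;> simp only [Fin.zero_eta, Fin.mk_one, Fin.reduceFinMk, s, hs] <;> norm_num <;> omega
  show ((s / 3 ^ (k : ℕ) % 3 : ℕ) : ZMod 3) = x k
  rw [e1, ZMod.natCast_rightInverse]

theorem one_point : e22 0 ≠ e22 1 ∧ T22.img 0 (e22 1) ≠ e22 1 := by decide +kernel

theorem refl_eq {u : Fin 6 → ZMod 3} (hu : ∑ k, u k * u k = 1) (x : Fin 6 → ZMod 3) :
    Cfsg.reflectionMatrix (⇑Q6) u *ᵥ x = refl6 u x := by
  rw [ReflectionThree.mulVec_reflection, Q6_apply, hu, inv_one, one_mul, Q6_polar]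
  rfl

section

variable {d : Fin T22.N → P22.Grp} (hd : Data hh d E22)
include hd

/-- The member of a neighbour. -/
noncomputable def mem126 (_hd : Data hh d E22) (j : Fin 126) : P22.Grp := d ⟨wl j, wl_lt j⟩

theorem member_sq (i : Fin T22.N) : d i * d i = 1 := by
  obtain ⟨k, hk⟩ := exists_move hh (E22 0) i
  rw [← hk, hd.conj, hd.base 0 (by decide +kernel),
    show k * P22.gg 0 * k⁻¹ * (k * P22.gg 0 * k⁻¹) = k * (P22.gg 0 * P22.gg 0) * k⁻¹ by group,
    CosetCertFi22Simple.invol, mul_one, mul_inv_cancel]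

theorem mem126_gen (g : Fin 7) :
    mem126 hd ⟨g, by omega⟩ = CosetCertCore.val P22.gg (GW g) := by
  rw [mem126]
  by_cases hg : (g : ℕ) < 6
  · rw [GW, if_pos hg, val_cons, val_nil, mul_one, ← hd.base ((g : ℕ) + 3) (Nat.lt_of_lt_of_eq (show (g : ℕ) + 3 < 9 by omega) rfl)]
    congr 1
    refine Fin.ext ?_
    rw [ThreeTransFi22Out41.E_val _ (Nat.lt_of_lt_of_eq (show (g : ℕ) + 3 < 9 by omega) rfl)]
    exact ((gw_point.1 ⟨g, hg⟩)).symm
  · have h6 : (g : ℕ) = 6 := by omega
    rw [GW, if_neg hg]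
    refine (d_word hh hd (by decide +kernel) (by decide +kernel) ?_).symm
    rw [ThreeTransFi22Out41.E_val 0 (by decide +kernel)]
    show _ = wl (g : ℕ)
    rw [h6]
    exact gw_point.2

theorem conj_gen (g : Fin 7) {i j : Fin 126} (h : T22.run (GW g) (wl i) = wl j) :
    mem126 hd ⟨g, by omega⟩ * mem126 hd j * (mem126 hd ⟨g, by omega⟩)⁻¹ = mem126 hd i := by
  rw [mem126_gen hd g]
  have h1 := apply_of_run hh (gw_lt g) (i := ⟨wl i, wl_lt i⟩) (j := ⟨wl j, wl_lt j⟩) h
  have h2 := hd.conj (CosetCertCore.val P22.gg (GW g)) ⟨wl j, wl_lt j⟩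
  rw [h1] at h2
  exact h2.symm

/-- Conjugation by every neighbour is a reflection. -/
theorem equivariant : ∀ j : Fin 126, ∀ k : Fin 126, ∃ l : Fin 126,
    mem126 hd j * mem126 hd k * (mem126 hd j)⁻¹ = mem126 hd l ∧
      Sg (rv l) (Cfsg.reflectionMatrix (⇑Q6) (rv j) *ᵥ rv k) := by
  intro j
  induction hn : (j : ℕ) using Nat.strong_induction_on generalizing j with
  | _ n ih =>
    subst hn
    have inv : ∀ i, (mem126 hd i)⁻¹ = mem126 hd i := fun i =>
      inv_eq_of_mul_eq_one_right (member_sq hd _)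
    have gen : ∀ g : Fin 7, ∀ k : Fin 126, ∃ l : Fin 126,
        mem126 hd ⟨g, by omega⟩ * mem126 hd k * (mem126 hd ⟨g, by omega⟩)⁻¹ = mem126 hd l ∧
          Sg (rv l) (Cfsg.reflectionMatrix (⇑Q6) (rv g) *ᵥ rv k) := by
      intro g k
      obtain ⟨hl, hrun, hsg⟩ := act_ok g k
      refine ⟨⟨img7 g k, hl⟩, ?_, ?_⟩
      · have := conj_gen hd g (j := ⟨img7 g k, hl⟩) hrun
        rw [← this, inv]
        calc mem126 hd ⟨g, _⟩ * (mem126 hd ⟨g, _⟩ * mem126 hd ⟨img7 g k, hl⟩ * mem126 hd ⟨g, _⟩) *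
              mem126 hd ⟨g, _⟩
            = (mem126 hd ⟨g, by omega⟩ * mem126 hd ⟨g, by omega⟩) * mem126 hd ⟨img7 g k, hl⟩ *
              (mem126 hd ⟨g, by omega⟩ * mem126 hd ⟨g, by omega⟩) := by simp only [mul_assoc]
          _ = _ := by rw [show mem126 hd ⟨g, by omega⟩ * mem126 hd ⟨g, by omega⟩ = 1 from member_sq hd _,
              one_mul, mul_one]
      · have hu : ∑ a, rv g a * rv g a = 1 := rv_norm ⟨g, by omega⟩
        have h1 := (sgB_iff.mp hsg).mulVec (Cfsg.reflectionMatrix (⇑Q6) (rv g))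
        rw [← refl_eq hu, mulVec_mulVec, ReflectionThree.reflection_sq Q6
          (by rw [Q6_apply, hu]; exact one_ne_zero), one_mulVec] at h1
        exact h1.symm'
    by_cases hj : (j : ℕ) < 7
    · exact gen ⟨j, hj⟩
    obtain ⟨g, p, hp, hrun⟩ := par_ok j (by omega)
    have hjp : mem126 hd j = mem126 hd ⟨g, by omega⟩ * mem126 hd p * (mem126 hd ⟨g, by omega⟩)⁻¹ := by
      have h := conj_gen hd g (i := p) (j := j) hrun
      rw [← h, inv]
      calc mem126 hd j = (mem126 hd ⟨g, by omega⟩ * mem126 hd ⟨g, by omega⟩) * mem126 hd j *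
            (mem126 hd ⟨g, by omega⟩ * mem126 hd ⟨g, by omega⟩) := by
            rw [show mem126 hd ⟨g, by omega⟩ * mem126 hd ⟨g, by omega⟩ = 1 from member_sq hd _,
              one_mul, mul_one]
        _ = _ := by simp only [mul_assoc]
    have hu : ∑ a, rv g a * rv g a = 1 := rv_norm ⟨g, by omega⟩
    have hne : Q6 (rv g) ≠ 0 := by rw [Q6_apply, hu]; exact one_ne_zero
    have hsgj : Sg (rv j) (Cfsg.reflectionMatrix (⇑Q6) (rv g) *ᵥ rv p) := by
      obtain ⟨l, hl1, hl2⟩ := gen g p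
      rw [← hjp] at hl1
      have : l = j := wl_inj l j (congrArg Fin.val (hd.inj hl1.symm))
      exact this ▸ hl2
    intro k
    obtain ⟨l1, a1, b1⟩ := gen g k
    obtain ⟨l2, a2, b2⟩ := ih p (by omega) p rfl l1
    obtain ⟨l3, a3, b3⟩ := gen g l2
    refine ⟨l3, ?_, ?_⟩
    · rw [← a3, ← a2, ← a1, hjp]
      simp only [inv, mul_assoc, _root_.mul_inv_rev]
    · refine b3.trans' ((b2.trans' (b1.mulVec _)).mulVec _ |>.trans' ?_)
      rw [mulVec_mulVec, mulVec_mulVec, ReflectionThree.reflection_conj Q6 hne,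
        hsgj.reflection Q6]
      exact Or.inl rfl

/-- The members. -/
def members (_hd : Data hh d E22) : Set P22.Grp := Set.range d

theorem members_eq : members hd = conjugatesOf (P22.gg 0) := by
  ext y
  rw [members, show y ∈ conjugatesOf (P22.gg 0) ↔ IsConj (P22.gg 0) y from Iff.rfl, isConj_iff]
  constructor
  · rintro ⟨i, rfl⟩
    obtain ⟨k, hk⟩ := exists_move hh (E22 0) i
    exact ⟨k, by rw [← hk, hd.conj, hd.base 0 (by decide +kernel)]⟩
  · rintro ⟨k, rfl⟩
    exact ⟨rho hh k (E22 0), by rw [hd.conj, hd.base 0 (by decide +kernel)]⟩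

theorem commute_gg_iff {x : Nat} (hx : x < T22.NG) (i : Fin T22.N) :
    Commute (P22.gg x) (d i) ↔ T22.img x i = (i : Nat) := by
  rw [← ThreeTransFi22Out41.gg_fix_iff hx i, fix_iff hh hd]
  exact Iff.rfl

theorem near_eq :
    {y | y ∈ members hd ∧ y ≠ P22.gg 0 ∧ Commute (P22.gg 0) y} ∩
      {y | y ∈ members hd ∧ y ≠ P22.gg 1 ∧ Commute (P22.gg 1) y} = Set.range (mem126 hd) := by
  ext y
  constructor
  · rintro ⟨⟨⟨i, rfl⟩, n0, c0⟩, -, n1, c1⟩
    rw [commute_gg_iff hd (by decide +kernel)] at c0 c1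
    have := (allFrom_iff _ _ _).mp wl_all i (Nat.zero_le _) (Nat.lt_of_lt_of_eq i.2 (Nat.zero_add _).symm)
    simp only [Bool.or_eq_true, Bool.not_eq_true', Nat.beq_eq, List.elem_eq_mem, decide_eq_true_eq] at this
    rcases this with (((h | h) | h) | h) | h
    · exact absurd c0 fun e => by simp [e] at h
    · exact absurd c1 fun e => by simp [e] at h
    · refine absurd ?_ n0
      rw [← hd.base 0 (by decide +kernel)]
      exact congrArg d (Fin.ext (h.trans (ThreeTransFi22Out41.E_val 0 (by decide +kernel)).symm))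
    · refine absurd ?_ n1
      rw [← hd.base 1 (by decide +kernel)]
      exact congrArg d (Fin.ext (h.trans (ThreeTransFi22Out41.E_val 1 (by decide +kernel)).symm))
    · obtain ⟨j, hj, hje⟩ := List.getElem_of_mem h
      have hj' : j < 126 := hj
      refine ⟨⟨j, hj'⟩, congrArg d (Fin.ext ?_)⟩
      show wl j = _
      rw [wl, List.getD_eq_getElem _ _ hj, hje]
  · rintro ⟨j, rfl⟩
    obtain ⟨f0, f1, n0, n1⟩ := wl_fixed j
    refine ⟨⟨⟨_, rfl⟩, ?_, (commute_gg_iff hd (by decide +kernel) _).mpr f0⟩,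
      ⟨_, rfl⟩, ?_, (commute_gg_iff hd (by decide +kernel) _).mpr f1⟩
    · rw [mem126, ← hd.base 0 (by decide +kernel)]
      exact fun h => n0 ((congrArg Fin.val (hd.inj h)).trans (ThreeTransFi22Out41.E_val 0 (by decide +kernel)))
    · rw [mem126, ← hd.base 1 (by decide +kernel)]
      exact fun h => n1 ((congrArg Fin.val (hd.inj h)).trans (ThreeTransFi22Out41.E_val 1 (by decide +kernel)))

theorem clause :
    Cfsg.IsProjReflectionGroupModThree
      (↥(Subgroup.closure (Set.range (mem126 hd))) ⧸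
        Subgroup.center ↥(Subgroup.closure (Set.range (mem126 hd)))) 6 1 1 := by
  classical
  have hinj : Function.Injective (mem126 hd) := fun i j h => wl_inj i j (congrArg Fin.val (hd.inj h))
  let v : P22.Grp → Fin 6 → ZMod 3 := fun y => if h : ∃ j, mem126 hd j = y then rv h.choose else 0
  have hv : ∀ j, v (mem126 hd j) = rv j := fun j => by
    have h : ∃ i, mem126 hd i = mem126 hd j := ⟨j, rfl⟩
    simp only [v, dif_pos h]
    rw [hinj h.choose_spec]
  refine ⟨Q6, ?_, ?_, iso_of_rep (Q := Q6) (c := 1) (v := v) one_ne_zero ⟨?_, ?_, ?_, ?_, ?_⟩⟩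
  · have key : ∀ x : Fin 6 → ZMod 3, (∀ y, QuadraticMap.polar (⇑Q6) x y = 0) → x = 0 := fun x h => by
      funext k
      have h1 := h (Pi.single k 1)
      rw [Q6_polar] at h1
      simpa [Pi.single_apply, show (2 : ZMod 3) ≠ 0 by decide] using h1
    refine ⟨fun x hx => key x fun y => by simpa using hx y,
      fun x hx => key x fun y => ?_⟩
    rw [QuadraticMap.polar_comm]; simpa using hx y
  · rw [Cfsg.polarGramDet, show (Matrix.of fun i j : Fin 6 => QuadraticMap.polar (⇑Q6) (Pi.single i 1)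
        (Pi.single j 1)) = Matrix.diagonal (fun _ => (2 : ZMod 3)) from ?_, Matrix.det_diagonal]
    · simp only [Finset.prod_const, Finset.card_univ, Fintype.card_fin]; decide
    ext i j
    rw [Matrix.of_apply, Q6_polar, Matrix.diagonal_apply]
    by_cases h : i = j
    · subst h; simp [Pi.single_apply]
    · simp [Pi.single_apply, h, Ne.symm h]
  · rintro _ ⟨j, rfl⟩
    rw [hv, Q6_apply]; exact rv_norm j
  · intro x hx
    obtain ⟨n, rfl⟩ := unpack_surj x
    obtain ⟨j, hj⟩ := rv_surj n (by rw [← Q6_apply]; exact hx)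
    exact ⟨_, ⟨j, rfl⟩, by rw [hv]; exact sgB_iff.mp hj⟩
  · rintro _ ⟨i, rfl⟩ _ ⟨j, rfl⟩ h
    rw [hv, hv] at h
    rw [rv_inj i j (sgB_iff.mpr h)]
  · rintro _ ⟨i, rfl⟩ _ ⟨j, rfl⟩
    obtain ⟨l, hl, -⟩ := equivariant hd i j
    exact ⟨l, hl.symm⟩
  · rintro _ ⟨i, rfl⟩ _ ⟨j, rfl⟩
    obtain ⟨l, hl, hs⟩ := equivariant hd i j
    rw [hl, hv, hv, hv]
    exact hs

theorem not_commute : ¬ Commute (P22.gg 0) (P22.gg 1) := by
  rw [← hd.base 1 (by decide +kernel), commute_gg_iff hd (by decide +kernel),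
    ThreeTransFi22Out41.E_val 1 (by decide +kernel)]
  exact one_point.2

end

/-- In a group identified with the presented Fi22, two non-commuting members have common neighbours
generating, modulo the centre, the projective reflection group. -/
theorem exists_clause {G : Type*} [Group G] (φ : Cfsg.Spor.Fi22 ≃* G) :
    ∃ d c : G, d = φ (PresentedGroup.of Cfsg.Spor.Fi22.Gen.a) ∧ c ∈ conjugatesOf d ∧ ¬ Commute d c ∧
      Cfsg.IsProjReflectionGroupModThree
        (↥(Subgroup.closure ({y : G | y ∈ conjugatesOf d ∧ y ≠ d ∧ Commute d y} ∩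
            {y : G | y ∈ conjugatesOf d ∧ y ≠ c ∧ Commute c y})) ⧸
          Subgroup.center ↥(Subgroup.closure ({y : G | y ∈ conjugatesOf d ∧ y ≠ d ∧ Commute d y} ∩
            {y : G | y ∈ conjugatesOf d ∧ y ≠ c ∧ Commute c y}))) 6 1 1 := by
  obtain ⟨m, hd⟩ := ThreeTransFi22Out41.exists_data
  let f : P22.Grp ≃* G := φ
  refine ⟨f (P22.gg 0), f (P22.gg 1), rfl, ?_, fun h => not_commute hd ((f.injective.eq_iff).mp
    (by simpa only [map_mul] using h.eq)), ?_⟩
  · have h1 : P22.gg 1 ∈ members hd := ⟨E22 1, hd.base 1 (by decide +kernel)⟩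
    rw [members_eq] at h1
    exact (f.toMonoidHom).map_isConj h1
  · have hset : ({y : G | y ∈ conjugatesOf (f (P22.gg 0)) ∧ y ≠ f (P22.gg 0) ∧ Commute (f (P22.gg 0)) y} ∩
        {y : G | y ∈ conjugatesOf (f (P22.gg 0)) ∧ y ≠ f (P22.gg 1) ∧ Commute (f (P22.gg 1)) y})
        = f '' Set.range (mem126 hd) := by
      rw [← near_eq hd, members_eq hd, Set.image_inter f.injective]
      have hc : ∀ x y : P22.Grp, Commute (f x) (f y) ↔ Commute x y := fun x y =>
        ⟨fun h => f.injective (by simpa only [map_mul] using h.eq), fun h => h.map f⟩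
      have hk : ∀ x y : P22.Grp, f y ∈ conjugatesOf (f x) ↔ y ∈ conjugatesOf x := fun x y => by
        refine ⟨fun h => ?_, fun h => f.toMonoidHom.map_isConj h⟩
        have := f.symm.toMonoidHom.map_isConj h
        exact (isConj_iff.mpr (by simpa using this) : IsConj x y)
      congr 1 <;>
      · ext y
        obtain ⟨y, rfl⟩ := f.surjective y
        simp [Set.mem_image, hc, hk, f.injective.eq_iff]
    rw [hset]
    obtain ⟨Q, h1, h2, ⟨i⟩⟩ := clause hd
    let j : ↥(Subgroup.closure (Set.range (mem126 hd))) ≃* ↥(Subgroup.closure (f '' Set.range (mem126 hd))) :=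
      (f.subgroupMap _).trans (MulEquiv.subgroupCongr (f.toMonoidHom.map_closure _))
    refine ⟨Q, h1, h2, ⟨(QuotientGroup.congr _ _ j ?_).symm.trans i⟩⟩
    ext x
    rw [Subgroup.mem_center_iff]
    constructor
    · rintro ⟨y, hy, rfl⟩ g
      obtain ⟨g, rfl⟩ := j.surjective g
      show j g * j y = j y * j g
      rw [← map_mul, ← map_mul, Subgroup.mem_center_iff.mp hy g]
    · intro h
      obtain ⟨y, rfl⟩ := j.surjective x
      exact ⟨y, Subgroup.mem_center_iff.mpr fun g =>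
        j.injective (by rw [map_mul, map_mul]; exact h (j g)), rfl⟩

end Cfsg.Agent.Fi22Refl55
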