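import Mathlib

/-!
Data: the 126 common neighbours of the first two generators of Fi22 among the 3510 points, a vector of norm
one over three elements for each, and derivations from seven of them. It only feeds checks.
-/

set_option autoImplicit false

namespace Cfsg.Agent.Fi22Refl55Data

/-- The common neighbours, generators first. -/
abbrev WL : List Nat := [16, 40, 88, 154, 43, 92, 183, 26, 27, 62, 120, 213, 66, 230, 231, 41, 42, 44, 291, 89, 266, 267, 268, 371, 292, 293, 63, 64, 65, 369, 475, 338, 370, 335, 336, 337, 339, 340, 432, 372, 90, 424, 91, 472, 603, 430, 473, 547, 601, 427, 431, 474, 425, 426, 428, 429, 448, 433, 571, 543, 477, 121, 539, 489, 392, 685, 488, 545, 391, 680, 683, 542, 546, 569, 540, 541, 350, 544, 490, 549, 718, 677, 606, 1349, 676, 570, 379, 308, 840, 621, 380, 502, 717, 309, 833, 831, 682, 679, 447, 830, 719, 276, 678, 393, 298, 688, 886, 828, 720, 1166, 1174, 827, 1072, 243, 999, 887, 991, 996, 836, 994, 989, 845, 235, 1004, 1169, 193]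

/-- Their vectors, in base three. -/
abbrev RV : List Nat := [1, 352, 243, 360, 175, 3, 210, 703, 106, 595, 603, 579, 178, 115, 147, 460, 282, 103, 220, 226, 336, 511, 426, 76, 112, 79, 127, 525, 561, 597, 43, 256, 223, 52, 268, 669, 508, 331, 328, 40, 156, 67, 318, 354, 345, 228, 462, 655, 145, 499, 259, 208, 120, 49, 265, 574, 622, 652, 289, 571, 660, 201, 70, 588, 705, 678, 586, 129, 523, 412, 424, 502, 577, 433, 237, 139, 379, 409, 532, 381, 550, 142, 417, 9, 118, 309, 343, 280, 435, 307, 415, 154, 81, 316, 301, 667, 304, 334, 676, 517, 552, 27, 196, 199, 658, 624, 441, 193, 534, 711, 184, 235, 187, 559, 544, 94, 520, 684, 547, 274, 468, 291, 387, 97, 277, 630]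

/-- The path to the seventh generator. -/
abbrev EP : List Nat := [1, 2, 3, 4, 5, 7, 3, 2, 1, 4, 3, 2]

/-- For each further neighbour: a generator and an earlier neighbour. -/
abbrev PAR : List (Nat × Nat) := [(1, 0), (4, 0), (2, 1), (3, 2), (6, 3), (5, 4), (6, 4), (6, 5), (2, 7), (4, 7), (5, 8), (6, 8), (3, 9), (6, 10), (4, 11), (5, 11), (6, 12), (5, 13), (4, 14), (3, 15), (4, 15), (5, 16), (6, 16), (6, 17), (3, 18), (5, 18), (6, 19), (4, 20), (5, 20), (5, 21), (4, 22), (3, 23), (0, 25), (4, 26), (6, 26), (5, 27), (6, 27), (6, 28), (3, 29), (5, 29), (3, 30), (4, 30), (2, 31), (5, 31), (4, 32), (4, 33), (5, 33), (5, 34), (4, 35), (6, 36), (0, 37), (6, 37), (2, 38), (1, 39), (5, 40), (5, 41), (6, 42), (5, 43), (3, 44), (4, 44), (5, 45), (4, 46), (2, 47), (4, 47), (5, 49), (4, 50), (6, 50), (5, 52), (4, 53), (6, 54), (0, 55), (6, 55), (1, 57), (6, 57), (1, 59), (2, 60), (6, 61), (4, 62), (3, 63), (4, 63), (4, 64), (2, 65), (4, 65), (0, 66), (4, 67), (6, 67), (0, 68), (1, 69), (4, 69),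 (6, 70), (4, 71), (6, 71), (6, 72), (4, 73), (6, 74), (0, 75), (6, 75), (3, 76), (2, 79), (6, 79), (0, 81), (3, 82), (3, 83), (4, 83), (0, 84), (6, 84), (0, 87), (1, 88), (4, 92), (0, 94), (4, 94), (6, 95), (6, 97), (4, 99), (5, 100), (3, 101), (0, 110), (3, 112), (1, 113)]

end Cfsg.Agent.Fi22Refl55Data
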