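import Cfsg.Agent.Lib.Fi22TripleChecks16
import Cfsg.Agent.Lib.CosetCertRestrict
import Cfsg.Agent.Lib.CosetCertFi22Simple
import Cfsg.Prelude.Def_KGroupFacts

/-!
The triple cover of the presented group Fi22, from voltages modulo three on 61776 points.
-/

set_option autoImplicit false
set_option maxRecDepth 100000
set_option linter.style.haveILetI false

namespace Cfsg.Agent.Fi22Triple16

open Cfsg.Agent.CosetCertCore Cfsg.Agent.CosetCertTable Cfsg.Agent.CosetCertPres
open Cfsg.Agent.Fi22TripleCore16

/-- The presentation of Fi22. -/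
abbrev Q : Pres := CosetCertFi22UData.pres
/-- The table of the action. -/
noncomputable abbrev T : Tbl := Fi22TripleData16.tbl
/-- The points with their fibres. -/
abbrev X : Type := Fin 61776 × ZMod 3

/-- The code of a point. -/
def code (q : X) : Nat := 4 * q.1.1 + q.2.val

theorem code_inj {q r : X} (h : code q = code r) : q = r := by
  have := ZMod.val_lt q.2; have := ZMod.val_lt r.2
  simp only [code] at h
  exact Prod.ext (Fin.ext (by omega)) (ZMod.val_injective 3 (by omega))

/-- The map given by a column. -/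
noncomputable def F (x : Nat) (q : X) : X :=
  if h : fld T x q.1.1 >>> 2 < 61776 then
    (⟨fld T x q.1.1 >>> 2, h⟩, ((fld T x q.1.1 &&& 3 : ℕ) : ZMod 3) + q.2)
  else q

/-- Translation of the fibres. -/
def sh (b : ZMod 3) : Equiv.Perm X := (Equiv.refl _).prodCongr (Equiv.addLeft b)

theorem sh_apply (b : ZMod 3) (q : X) : sh b q = (q.1, b + q.2) := rfl

theorem F_sh (x : Nat) (b : ZMod 3) (q : X) : F x (sh b q) = sh b (F x q) := by
  by_cases h : fld T x q.1.1 >>> 2 < 61776
  · rw [F, F, dif_pos h, dif_pos (show fld T x (sh b q).1.1 >>> 2 < 61776 from h)]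
    exact Prod.ext rfl (add_left_comm _ _ _)
  · rw [F, F, dif_neg h, dif_neg (show ¬fld T x (sh b q).1.1 >>> 2 < 61776 from h)]

/-- The map of a word, the first letter applied last. -/
noncomputable def Fw (w : List Nat) (q : X) : X := w.foldr F q

theorem Fw_sh (w : List Nat) (b : ZMod 3) (q : X) : Fw w (sh b q) = sh b (Fw w q) := by
  induction w with
  | nil => rfl
  | cons x w ih =>
    show F x (Fw w (sh b q)) = sh b (F x (Fw w q))
    rw [ih, F_sh]

theorem range_ok (x p : Nat) (hx : x < 12) (hp : p < 61776) :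
    fld T x p >>> 2 < 61776 ∧ fld T x p &&& 3 < 3 := by
  have h := Fi22TripleChecks16.ok61776 p hp
  simp only [Fi22TripleCore16.pointOk, rangeOk, Bool.and_eq_true] at h
  have := (allFrom_iff _ _ _).mp h.1 x (Nat.zero_le x) (by omega)
  simp only [force_eq, Bool.and_eq_true, Nat.blt_eq] at this
  exact this

theorem step_code (x : Nat) (hx : x < 12) (q : X) : step T x (code q) = code (F x q) := by
  obtain ⟨h1, h2⟩ := range_ok x q.1.1 hx q.1.2
  have ha := ZMod.val_lt q.2
  have e1 : Nat.shiftRight (code q) 2 = q.1.1 := by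
    show (code q) >>> 2 = _
    rw [Nat.shiftRight_eq_div_pow, code]
    omega
  have e2 : Nat.land (code q) 3 = q.2.val := by
    show (code q) &&& 3 = _
    refine (Nat.and_two_pow_sub_one_eq_mod (code q) 2).trans ?_
    rw [code]
    omega
  unfold step
  rw [force_eq, e1, e2, F, dif_pos h1]
  show (fld T x q.1.1 >>> 2) <<< 2 + ((fld T x q.1.1 &&& 3) + q.2.val) % 3 = code _
  rw [code, ZMod.val_add, ZMod.val_natCast, Nat.shiftLeft_eq, Nat.mod_add_mod]
  ring

theorem runC_code : ∀ (w : List Nat), (∀ x ∈ w, x < 12) → ∀ q : X,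
    runC T w (code q) = code (Fw w q)
  | [], _, _ => rfl
  | x :: w, hw, q => by
    show force (runC T w (code q)) (fun r => step T x r) = code (F x (Fw w q))
    rw [force_eq, runC_code w (fun y hy => hw y (List.mem_cons_of_mem _ hy)) q,
      step_code x (hw x (List.mem_cons_self ..))]

theorem pairsOk_iff (L : List (List Nat × List Nat)) (q : Nat) :
    pairsOk T L q = true ↔ ∀ p ∈ L, runC T p.1 q = runC T p.2 q := by
  induction L with
  | nil => simp [pairsOk]
  | cons a L ih =>
    show (force (runC T a.1 q) (fun r => Nat.beq r (runC T a.2 q)) && pairsOk T L q) = true ↔ _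
    rw [force_eq, Bool.and_eq_true, Nat.beq_eq, ih]
    simp

theorem eq_everywhere {l r : List Nat} (h : (l, r) ∈ eqs) (q : X) : Fw l q = Fw r q := by
  have hb := (show ∀ e ∈ eqs, (∀ x ∈ e.1, x < 12) ∧ ∀ x ∈ e.2, x < 12 from by decide +kernel) _ h
  have hp := Fi22TripleChecks16.ok61776 q.1.1 q.1.2
  simp only [Fi22TripleCore16.pointOk, force_eq, Bool.and_eq_true] at hp
  have h0 := (pairsOk_iff _ _).mp hp.2.1 _ h
  have e : Nat.shiftLeft q.1.1 2 = code (q.1, 0) := by
    show q.1.1 <<< 2 = _
    rw [Nat.shiftLeft_eq, code, ZMod.val_zero]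
    ring
  rw [e, runC_code _ hb.1, runC_code _ hb.2] at h0
  rw [show q = sh q.2 (q.1, 0) by simp [sh_apply], Fw_sh, Fw_sh, code_inj h0]

theorem spider_shift (q : X) : Fw (List.replicate 10 11) q = sh 2 q := by
  have hp := Fi22TripleChecks16.ok61776 q.1.1 q.1.2
  simp only [Fi22TripleCore16.pointOk, force_eq, Bool.and_eq_true, Nat.beq_eq] at hp
  have e : Nat.shiftLeft q.1.1 2 = code (q.1, 0) := by
    show q.1.1 <<< 2 = _
    rw [Nat.shiftLeft_eq, code, ZMod.val_zero]
    ring
  have h0 := hp.2.2
  rw [e, show ([11, 11, 11, 11, 11, 11, 11, 11, 11, 11] : List Nat) = List.replicate 10 11 from rfl,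
    runC_code _ (fun x hx => by rw [List.eq_of_mem_replicate hx]; norm_num)] at h0
  have h1 : code (Fw (List.replicate 10 11) (q.1, 0)) = code (sh 2 (q.1, 0)) := by
    rw [h0, sh_apply]
    show code (q.1, (0 : ZMod 3)) + 2 = code (q.1, 2 + 0)
    rw [add_zero]
    rfl
  rw [show q = sh q.2 (q.1, 0) by simp [sh_apply], Fw_sh, code_inj h1, sh_apply, sh_apply, sh_apply,
    sh_apply]
  exact Prod.ext rfl (add_left_comm _ _ _)

theorem involutive (x : Nat) (hx : x < 9) : Function.Involutive (F x) := fun q =>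
  eq_everywhere ((show ∀ y < 9, ([y, y], ([] : List Nat)) ∈ eqs from by decide +kernel) x hx) q

/-- The permutation of a generator. -/
noncomputable def perm (x : Nat) : Equiv.Perm X :=
  if hx : x < 9 then (involutive x hx).toPerm else 1

theorem perm_sq (x : Nat) : perm x * perm x = 1 := by
  unfold perm
  split
  · rename_i hx
    exact Equiv.ext (involutive x hx)
  · exact one_mul 1

theorem val_perm : ∀ (w : List Nat), (∀ x ∈ w, x < 9) → ∀ q : X, val perm w q = Fw w q
  | [], _, _ => rfl
  | x :: w, hw, q => by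
    have hx := hw x (List.mem_cons_self ..)
    rw [val_cons, Equiv.Perm.mul_apply, val_perm w (fun y hy => hw y (List.mem_cons_of_mem _ hy)),
      perm, dif_pos hx]
    rfl

theorem Fw_replicate (c : Nat) : ∀ (n : Nat) (q : X), Fw (List.replicate n c) q = (F c)^[n] q
  | 0, _ => rfl
  | n + 1, q => by
    rw [Function.iterate_succ_apply', ← Fw_replicate c n q]
    rfl

theorem val_power {W : List Nat} {c : Nat} (hW : ∀ x ∈ W, x < 9) (h : ([c], W) ∈ eqs) (n : Nat)
    (q : X) : (val perm W ^ n) q = Fw (List.replicate n c) q := by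
  have e : ⇑(val perm W) = F c := funext fun r => by
    rw [val_perm W hW, ← eq_everywhere h]
    rfl
  rw [Fw_replicate, Equiv.Perm.coe_pow, e]

theorem k1_one : val perm [0, 1, 2, 3, 4, 5, 7] ^ 9 = 1 := Equiv.ext fun q => by
  rw [val_power (c := 9) (by decide) (by decide +kernel),
    show List.replicate 9 9 = [9, 9, 9, 9, 9, 9, 9, 9, 9] from rfl,
    eq_everywhere (r := []) (by decide +kernel)]
  rfl

theorem k2_one : val perm [1, 2, 3, 4, 5, 6, 7] ^ 9 = 1 := Equiv.ext fun q => by
  rw [val_power (c := 10) (by decide) (by decide +kernel),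
    show List.replicate 9 10 = [10, 10, 10, 10, 10, 10, 10, 10, 10] from rfl,
    eq_everywhere (r := []) (by decide +kernel)]
  rfl

theorem spider : val perm [3, 2, 1, 3, 4, 5, 3, 7, 8] ^ 10 = sh 2 := Equiv.ext fun q => by
  rw [val_power (c := 11) (by decide) (by decide +kernel), spider_shift]

theorem cox_one {l r : List Nat} (h : (l, r) ∈ eqs) (hl : ∀ x ∈ l, x < 9) (hr : ∀ x ∈ r, x < 9) :
    val perm (l ++ r.reverse) = 1 := by
  rw [val_append, val_reverse perm perm_sq, mul_inv_eq_one]
  exact Equiv.ext fun q => by rw [val_perm l hl, val_perm r hr, eq_everywhere h]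

theorem sh_zero : sh 0 = 1 := Equiv.ext fun q => by simp [sh_apply]

theorem sh_mul (a b : ZMod 3) : sh a * sh b = sh (a + b) := Equiv.ext fun q => by
  simp [Equiv.Perm.mul_apply, sh_apply, add_assoc]

theorem sh_ne : sh 2 ≠ 1 := fun h => by
  have h1 := congrArg Prod.snd (DFunLike.congr_fun h ((0 : Fin 61776), (0 : ZMod 3)))
  simp [sh_apply] at h1
  exact absurd h1 (by decide)

theorem three_two : (2 : ZMod 3) + 2 + 2 = 0 := by decide

theorem sh_order : orderOf (sh 2) = 3 := by
  haveI : Fact (Nat.Prime 3) := ⟨Nat.prime_three⟩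
  refine orderOf_eq_prime ?_ sh_ne
  rw [pow_succ, pow_two, sh_mul, sh_mul, three_two, sh_zero]

/-- The group of the permutations. -/
abbrev G3 : Subgroup (Equiv.Perm X) := Subgroup.closure (Set.range perm)

/-- The generators in the group. -/
noncomputable def gen (x : Nat) : G3 := ⟨perm x, Subgroup.subset_closure ⟨x, rfl⟩⟩

theorem gen_sq (x : Nat) : gen x * gen x = 1 := Subtype.ext (perm_sq x)

theorem val_gen (w : List Nat) : ((val gen w : G3) : Equiv.Perm X) = val perm w := by
  unfold val
  rw [← Subgroup.coe_subtype, map_list_prod, List.map_map]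
  rfl

/-- The generator of the kernel. -/
noncomputable def z : G3 := val gen [3, 2, 1, 3, 4, 5, 3, 7, 8] ^ 10

theorem z_val : (z : Equiv.Perm X) = sh 2 := by
  rw [z, SubgroupClass.coe_pow, val_gen, spider]

theorem z_central : z ∈ Subgroup.center G3 := by
  rw [Subgroup.mem_center_iff]
  intro g
  refine Subtype.ext ?_
  rw [Subgroup.coe_mul, Subgroup.coe_mul, z_val]
  have hle : G3 ≤ Subgroup.centralizer {sh 2} := by
    rw [Subgroup.closure_le]
    rintro _ ⟨x, rfl⟩
    rw [SetLike.mem_coe, Subgroup.mem_centralizer_singleton_iff]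
    refine Equiv.ext fun q => ?_
    show perm x (sh 2 q) = sh 2 (perm x q)
    unfold perm
    split
    · exact F_sh x 2 q
    · rfl
  exact Subgroup.mem_centralizer_singleton_iff.mp (hle g.2)

theorem edge_eq {A : Type} [CommGroup A] {g : Nat → A} (h2 : ∀ x, g x * g x = 1) {x y : Nat}
    (h : g x * (g y * g x) = g y * (g x * g y)) : g x = g y := by
  calc g x = g x * (g y * g x) * (g x * g y)⁻¹ := by rw [mul_comm (g y)]; group
    _ = g y := by rw [h]; group

/-- There is a stem extension with kernel of order three. -/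
theorem triple : ∃ (Γ : Type) (_ : Group Γ) (_ : Finite Γ) (σ : Γ →* Q.Grp),
    Cfsg.IsStemExtension σ ∧ Nat.card σ.ker = 3 := by
  classical
  haveI := CosetCertFi22Simple.simple
  haveI hN : (Subgroup.zpowers z).Normal := ⟨fun a ha g => by
    have hc : a ∈ Subgroup.center G3 := (Subgroup.zpowers_le.mpr z_central) ha
    rw [Subgroup.mem_center_iff.mp hc g, mul_inv_cancel_right]; exact ha⟩
  let f : Nat → G3 ⧸ Subgroup.zpowers z := fun x => (gen x : G3 ⧸ Subgroup.zpowers z)
  have hfval : ∀ w : List Nat, val f w = ((val gen w : G3) : G3 ⧸ Subgroup.zpowers z) := by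
    intro w
    unfold val
    rw [← QuotientGroup.mk'_apply, map_list_prod, List.map_map]
    rfl
  have hw : ∀ w ∈ Q.relWords, val f w = 1 := by
    intro w hw
    rcases (show ∀ w ∈ Q.relWords, (∃ e ∈ eqs, (∀ x ∈ e.1, x < 9) ∧ (∀ x ∈ e.2, x < 9) ∧
        w = e.1 ++ e.2.reverse) ∨
        w = (List.replicate 9 [0, 1, 2, 3, 4, 5, 7]).flatten ∨
        w = (List.replicate 9 [1, 2, 3, 4, 5, 6, 7]).flatten ∨
        w = (List.replicate 10 [3, 2, 1, 3, 4, 5, 3, 7, 8]).flatten from by decide +kernel) w hw with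
      ⟨⟨l, r⟩, he, hl, hr, rfl⟩ | rfl | rfl | rfl
    · rw [hfval, show (val gen (l ++ r.reverse) : G3) = 1 from
        Subtype.ext ((val_gen _).trans (cox_one he hl hr))]
      rfl
    · rw [val_replicate, hfval, ← QuotientGroup.mk_pow,
        show val gen [0, 1, 2, 3, 4, 5, 7] ^ 9 = 1 from
          Subtype.ext (by rw [SubgroupClass.coe_pow, val_gen, k1_one]; rfl)]
      rfl
    · rw [val_replicate, hfval, ← QuotientGroup.mk_pow,
        show val gen [1, 2, 3, 4, 5, 6, 7] ^ 9 = 1 from
          Subtype.ext (by rw [SubgroupClass.coe_pow, val_gen, k2_one]; rfl)]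
      rfl
    · rw [val_replicate, hfval, ← QuotientGroup.mk_pow, QuotientGroup.eq_one_iff]
      exact Subgroup.mem_zpowers z
  let φ : Q.Grp →* G3 ⧸ Subgroup.zpowers z := PresentedGroup.toGroup
    (CosetCertRestrict.lift_rels CosetCertFi22Simple.good (by decide +kernel) f
      (fun x => by show (QuotientGroup.mk' (Subgroup.zpowers z)) (gen x) * (QuotientGroup.mk' (Subgroup.zpowers z)) (gen x) = 1; rw [← map_mul, gen_sq, map_one])
      hw (by decide +kernel))
  have hφ : ∀ a, φ (PresentedGroup.of a) = f (Q.gens.idxOf a) := fun a => PresentedGroup.toGroup.of _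
  have hφsurj : Function.Surjective φ := by
    intro t
    obtain ⟨⟨g, hg⟩, rfl⟩ := QuotientGroup.mk_surjective t
    suffices ((⟨g, hg⟩ : G3) : G3 ⧸ Subgroup.zpowers z) ∈ φ.range from this
    induction hg using Subgroup.closure_induction with
    | mem g hg =>
      obtain ⟨x, rfl⟩ := hg
      by_cases hx : x < 9
      · refine ⟨PresentedGroup.of (Q.gen x), (hφ _).trans ?_⟩
        rw [(show ∀ y < 9, Q.gens.idxOf (Q.gen y) = y from by decide +kernel) x hx]
        rfl
      · have : (gen x : G3) = 1 := Subtype.ext (by show perm x = 1; exact dif_neg hx)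
        exact ⟨1, (map_one φ).trans (congrArg (fun g : G3 => (g : G3 ⧸ Subgroup.zpowers z)) this).symm⟩
    | one => exact one_mem _
    | mul a b ha hb iha ihb => exact mul_mem iha ihb
    | inv a ha iha => exact inv_mem iha
  have hφinj : Function.Injective φ := by
    rw [← MonoidHom.ker_eq_bot_iff]
    refine (φ.normal_ker.eq_bot_or_eq_top).resolve_right fun h => ?_
    have h7 : ((gen 7 : G3) : G3 ⧸ Subgroup.zpowers z) = 1 := by
      have := MonoidHom.mem_ker.mp (h ▸ Subgroup.mem_top (PresentedGroup.of (Q.gen 7) : Q.Grp))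
      rw [hφ, show Q.gens.idxOf (Q.gen 7) = 7 from by decide +kernel] at this
      exact this
    rw [QuotientGroup.eq_one_iff] at h7
    have hfix : ∀ g ∈ Subgroup.zpowers z, ∀ q : X, ((g : G3) : Equiv.Perm X) q ∈ {r : X | r.1 = q.1} := by
      intro g hg
      rw [Subgroup.zpowers_eq_closure] at hg
      induction hg using Subgroup.closure_induction with
      | mem g hg => intro q; rw [Set.mem_singleton_iff.mp hg, z_val]; rfl
      | one => intro q; rfl
      | mul a b _ _ ha hb => intro q; exact (ha _).trans (hb q)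
      | inv a _ ha =>
        intro q
        have h1 := ha (((a : G3) : Equiv.Perm X)⁻¹ q)
        rw [← Equiv.Perm.mul_apply, mul_inv_cancel, Equiv.Perm.one_apply] at h1
        rw [Subgroup.coe_inv]
        exact h1.symm
    have h0 := congrArg Fin.val (hfix _ h7 ((0 : Fin 61776), 0))
    change ((perm 7 ((0 : Fin 61776), 0)).1 : ℕ) = 0 at h0
    have hv : code (Fw [7] ((0 : Fin 61776), 0)) = 4 := by
      rw [← runC_code [7] (by decide)]
      decide +kernel
    rw [perm, dif_pos (by norm_num)] at h0
    change ((Fw [7] ((0 : Fin 61776), 0)).1 : ℕ) = 0 at h0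
    have := ZMod.val_lt (Fw [7] ((0 : Fin 61776), 0)).2
    simp only [code] at hv
    omega
  let e : Q.Grp ≃* G3 ⧸ Subgroup.zpowers z := MulEquiv.ofBijective φ ⟨hφinj, hφsurj⟩
  let σ : G3 →* Q.Grp := e.symm.toMonoidHom.comp (QuotientGroup.mk' _)
  have hker : σ.ker = Subgroup.zpowers z := by
    show (e.symm.toMonoidHom.comp (QuotientGroup.mk' _)).ker = _
    ext g
    rw [MonoidHom.mem_ker, MonoidHom.comp_apply, MulEquiv.coe_toMonoidHom, EmbeddingLike.map_eq_one_iff,
      QuotientGroup.mk'_apply, QuotientGroup.eq_one_iff]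
  have hσ : Function.Surjective σ :=
    e.symm.surjective.comp (QuotientGroup.mk'_surjective _)
  refine ⟨G3, inferInstance, inferInstance, σ, ⟨hσ, ?_, ?_⟩, ?_⟩
  · rw [hker]; exact Subgroup.zpowers_le.mpr z_central
  · rw [hker, Subgroup.zpowers_le]
    let a : Nat → Abelianization G3 := fun x => Abelianization.of (gen x)
    have ha : ∀ x, a x * a x = 1 := fun x => by
      show Abelianization.of _ * Abelianization.of _ = 1
      rw [← map_mul, gen_sq, map_one]
    have hav : ∀ w : List Nat, val a w = Abelianization.of (val gen w) := by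
      intro w
      unfold val
      rw [map_list_prod, List.map_map]
      rfl
    have hedge : ∀ x y : Nat, x < 9 → y < 9 → ([x, y, x], [y, x, y]) ∈ eqs → a x = a y := by
      intro x y hx hy h
      refine edge_eq ha ?_
      have hg : val gen [x, y, x] = val gen [y, x, y] := Subtype.ext (Equiv.ext fun q => by
        rw [val_gen, val_gen, val_perm _ (by simp; omega), val_perm _ (by simp; omega), eq_everywhere h])
      have h1 := (hav [x, y, x]).trans (by rw [hg, ← hav])
      simpa only [val_cons, val_nil, mul_one] using h1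
    have h32 : a 3 = a 2 := (hedge 2 3 (by norm_num) (by norm_num) (by decide +kernel)).symm
    have h21 : a 2 = a 1 := (hedge 1 2 (by norm_num) (by norm_num) (by decide +kernel)).symm
    have h34 : a 3 = a 4 := hedge 3 4 (by norm_num) (by norm_num) (by decide +kernel)
    have h45 : a 4 = a 5 := hedge 4 5 (by norm_num) (by norm_num) (by decide +kernel)
    have h37 : a 3 = a 7 := hedge 3 7 (by norm_num) (by norm_num) (by decide +kernel)
    have h78 : a 7 = a 8 := hedge 7 8 (by norm_num) (by norm_num) (by decide +kernel)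
    rw [← Abelianization.ker_of, MonoidHom.mem_ker, z, map_pow, ← hav]
    simp only [val_cons, val_nil, mul_one, ← h78, ← h37, ← h45, ← h34, ← h21, ← h32]
    rw [show a 3 * (a 3 * (a 3 * (a 3 * (a 3 * (a 3 * (a 3 * (a 3 * a 3))))))) = a 3 ^ 9 by
      simp [pow_succ, mul_assoc], ← pow_mul, show 9 * 10 = 2 * 45 from rfl, pow_mul, pow_two, ha, one_pow]
  · rw [hker, Nat.card_zpowers, ← Subgroup.orderOf_coe, z_val, sh_order]

end Cfsg.Agent.Fi22Triple16
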