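import Cfsg.Agent.Lib.Fi22TripleCore16
import Cfsg.Agent.Lib.Fi22TripleData16

/-! Part of the checks of the triple cover of Fi22. -/

set_option autoImplicit false
set_option maxRecDepth 100000
set_option Elab.async false

namespace Cfsg.Agent.Fi22TripleCheck16x0

open Cfsg.Agent.CosetCertTable Cfsg.Agent.Fi22TripleCore16 Cfsg.Agent.Fi22TripleData16

theorem ok0 : allFrom (pointOk tbl 61776) 512 0 = true := by decide +kernel

theorem ok512 : allFrom (pointOk tbl 61776) 512 512 = true := by decide +kernel

theorem ok1024 : allFrom (pointOk tbl 61776) 512 1024 = true := by decide +kernel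

theorem ok1536 : allFrom (pointOk tbl 61776) 512 1536 = true := by decide +kernel

theorem ok2048 : allFrom (pointOk tbl 61776) 512 2048 = true := by decide +kernel

theorem ok2560 : allFrom (pointOk tbl 61776) 512 2560 = true := by decide +kernel

theorem ok3072 : allFrom (pointOk tbl 61776) 512 3072 = true := by decide +kernel

theorem ok3584 : allFrom (pointOk tbl 61776) 512 3584 = true := by decide +kernel

theorem ok4096 : allFrom (pointOk tbl 61776) 512 4096 = true := by decide +kernel

theorem ok4608 : allFrom (pointOk tbl 61776) 512 4608 = true := by decide +kernel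

theorem ok5120 : allFrom (pointOk tbl 61776) 512 5120 = true := by decide +kernel

theorem ok5632 : allFrom (pointOk tbl 61776) 512 5632 = true := by decide +kernel

theorem ok6144 : allFrom (pointOk tbl 61776) 512 6144 = true := by decide +kernel

theorem ok6656 : allFrom (pointOk tbl 61776) 512 6656 = true := by decide +kernel

theorem ok7168 : allFrom (pointOk tbl 61776) 512 7168 = true := by decide +kernel

theorem ok7680 : allFrom (pointOk tbl 61776) 512 7680 = true := by decide +kernel

end Cfsg.Agent.Fi22TripleCheck16x0
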