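import Cfsg.Agent.Lib.Fi22TripleCore16
import Cfsg.Agent.Lib.Fi22TripleData16

/-! Part of the checks of the triple cover of Fi22. -/

set_option autoImplicit false
set_option maxRecDepth 100000
set_option Elab.async false

namespace Cfsg.Agent.Fi22TripleCheck16x1

open Cfsg.Agent.CosetCertTable Cfsg.Agent.Fi22TripleCore16 Cfsg.Agent.Fi22TripleData16

theorem ok8192 : allFrom (pointOk tbl 61776) 512 8192 = true := by decide +kernel

theorem ok8704 : allFrom (pointOk tbl 61776) 512 8704 = true := by decide +kernel

theorem ok9216 : allFrom (pointOk tbl 61776) 512 9216 = true := by decide +kernel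

theorem ok9728 : allFrom (pointOk tbl 61776) 512 9728 = true := by decide +kernel

theorem ok10240 : allFrom (pointOk tbl 61776) 512 10240 = true := by decide +kernel

theorem ok10752 : allFrom (pointOk tbl 61776) 512 10752 = true := by decide +kernel

theorem ok11264 : allFrom (pointOk tbl 61776) 512 11264 = true := by decide +kernel

theorem ok11776 : allFrom (pointOk tbl 61776) 512 11776 = true := by decide +kernel

theorem ok12288 : allFrom (pointOk tbl 61776) 512 12288 = true := by decide +kernel

theorem ok12800 : allFrom (pointOk tbl 61776) 512 12800 = true := by decide +kernel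

theorem ok13312 : allFrom (pointOk tbl 61776) 512 13312 = true := by decide +kernel

theorem ok13824 : allFrom (pointOk tbl 61776) 512 13824 = true := by decide +kernel

theorem ok14336 : allFrom (pointOk tbl 61776) 512 14336 = true := by decide +kernel

theorem ok14848 : allFrom (pointOk tbl 61776) 512 14848 = true := by decide +kernel

theorem ok15360 : allFrom (pointOk tbl 61776) 512 15360 = true := by decide +kernel

theorem ok15872 : allFrom (pointOk tbl 61776) 512 15872 = true := by decide +kernel

end Cfsg.Agent.Fi22TripleCheck16x1
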