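import Cfsg.Agent.Lib.Fi22TripleCore16
import Cfsg.Agent.Lib.Fi22TripleData16

/-! Part of the checks of the triple cover of Fi22. -/

set_option autoImplicit false
set_option maxRecDepth 100000
set_option Elab.async false

namespace Cfsg.Agent.Fi22TripleCheck16x2

open Cfsg.Agent.CosetCertTable Cfsg.Agent.Fi22TripleCore16 Cfsg.Agent.Fi22TripleData16

theorem ok16384 : allFrom (pointOk tbl 61776) 512 16384 = true := by decide +kernel

theorem ok16896 : allFrom (pointOk tbl 61776) 512 16896 = true := by decide +kernel

theorem ok17408 : allFrom (pointOk tbl 61776) 512 17408 = true := by decide +kernel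

theorem ok17920 : allFrom (pointOk tbl 61776) 512 17920 = true := by decide +kernel

theorem ok18432 : allFrom (pointOk tbl 61776) 512 18432 = true := by decide +kernel

theorem ok18944 : allFrom (pointOk tbl 61776) 512 18944 = true := by decide +kernel

theorem ok19456 : allFrom (pointOk tbl 61776) 512 19456 = true := by decide +kernel

theorem ok19968 : allFrom (pointOk tbl 61776) 512 19968 = true := by decide +kernel

theorem ok20480 : allFrom (pointOk tbl 61776) 512 20480 = true := by decide +kernel

theorem ok20992 : allFrom (pointOk tbl 61776) 512 20992 = true := by decide +kernel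

theorem ok21504 : allFrom (pointOk tbl 61776) 512 21504 = true := by decide +kernel

theorem ok22016 : allFrom (pointOk tbl 61776) 512 22016 = true := by decide +kernel

theorem ok22528 : allFrom (pointOk tbl 61776) 512 22528 = true := by decide +kernel

theorem ok23040 : allFrom (pointOk tbl 61776) 512 23040 = true := by decide +kernel

theorem ok23552 : allFrom (pointOk tbl 61776) 512 23552 = true := by decide +kernel

theorem ok24064 : allFrom (pointOk tbl 61776) 512 24064 = true := by decide +kernel

end Cfsg.Agent.Fi22TripleCheck16x2
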