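import Cfsg.Agent.Lib.Fi22TripleCore16
import Cfsg.Agent.Lib.Fi22TripleData16

/-! Part of the checks of the triple cover of Fi22. -/

set_option autoImplicit false
set_option maxRecDepth 100000
set_option Elab.async false

namespace Cfsg.Agent.Fi22TripleCheck16x3

open Cfsg.Agent.CosetCertTable Cfsg.Agent.Fi22TripleCore16 Cfsg.Agent.Fi22TripleData16

theorem ok24576 : allFrom (pointOk tbl 61776) 512 24576 = true := by decide +kernel

theorem ok25088 : allFrom (pointOk tbl 61776) 512 25088 = true := by decide +kernel

theorem ok25600 : allFrom (pointOk tbl 61776) 512 25600 = true := by decide +kernel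

theorem ok26112 : allFrom (pointOk tbl 61776) 512 26112 = true := by decide +kernel

theorem ok26624 : allFrom (pointOk tbl 61776) 512 26624 = true := by decide +kernel

theorem ok27136 : allFrom (pointOk tbl 61776) 512 27136 = true := by decide +kernel

theorem ok27648 : allFrom (pointOk tbl 61776) 512 27648 = true := by decide +kernel

theorem ok28160 : allFrom (pointOk tbl 61776) 512 28160 = true := by decide +kernel

theorem ok28672 : allFrom (pointOk tbl 61776) 512 28672 = true := by decide +kernel

theorem ok29184 : allFrom (pointOk tbl 61776) 512 29184 = true := by decide +kernel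

theorem ok29696 : allFrom (pointOk tbl 61776) 512 29696 = true := by decide +kernel

theorem ok30208 : allFrom (pointOk tbl 61776) 512 30208 = true := by decide +kernel

theorem ok30720 : allFrom (pointOk tbl 61776) 512 30720 = true := by decide +kernel

theorem ok31232 : allFrom (pointOk tbl 61776) 512 31232 = true := by decide +kernel

theorem ok31744 : allFrom (pointOk tbl 61776) 512 31744 = true := by decide +kernel

theorem ok32256 : allFrom (pointOk tbl 61776) 512 32256 = true := by decide +kernel

end Cfsg.Agent.Fi22TripleCheck16x3
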