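import Cfsg.Agent.Lib.Fi22TripleCore16
import Cfsg.Agent.Lib.Fi22TripleData16

/-! Part of the checks of the triple cover of Fi22. -/

set_option autoImplicit false
set_option maxRecDepth 100000
set_option Elab.async false

namespace Cfsg.Agent.Fi22TripleCheck16x4

open Cfsg.Agent.CosetCertTable Cfsg.Agent.Fi22TripleCore16 Cfsg.Agent.Fi22TripleData16

theorem ok32768 : allFrom (pointOk tbl 61776) 512 32768 = true := by decide +kernel

theorem ok33280 : allFrom (pointOk tbl 61776) 512 33280 = true := by decide +kernel

theorem ok33792 : allFrom (pointOk tbl 61776) 512 33792 = true := by decide +kernel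

theorem ok34304 : allFrom (pointOk tbl 61776) 512 34304 = true := by decide +kernel

theorem ok34816 : allFrom (pointOk tbl 61776) 512 34816 = true := by decide +kernel

theorem ok35328 : allFrom (pointOk tbl 61776) 512 35328 = true := by decide +kernel

theorem ok35840 : allFrom (pointOk tbl 61776) 512 35840 = true := by decide +kernel

theorem ok36352 : allFrom (pointOk tbl 61776) 512 36352 = true := by decide +kernel

theorem ok36864 : allFrom (pointOk tbl 61776) 512 36864 = true := by decide +kernel

theorem ok37376 : allFrom (pointOk tbl 61776) 512 37376 = true := by decide +kernel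

theorem ok37888 : allFrom (pointOk tbl 61776) 512 37888 = true := by decide +kernel

theorem ok38400 : allFrom (pointOk tbl 61776) 512 38400 = true := by decide +kernel

theorem ok38912 : allFrom (pointOk tbl 61776) 512 38912 = true := by decide +kernel

theorem ok39424 : allFrom (pointOk tbl 61776) 512 39424 = true := by decide +kernel

theorem ok39936 : allFrom (pointOk tbl 61776) 512 39936 = true := by decide +kernel

theorem ok40448 : allFrom (pointOk tbl 61776) 512 40448 = true := by decide +kernel

end Cfsg.Agent.Fi22TripleCheck16x4
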