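import Cfsg.Agent.Lib.Fi22TripleCore16
import Cfsg.Agent.Lib.Fi22TripleData16

/-! Part of the checks of the triple cover of Fi22. -/

set_option autoImplicit false
set_option maxRecDepth 100000
set_option Elab.async false

namespace Cfsg.Agent.Fi22TripleCheck16x5

open Cfsg.Agent.CosetCertTable Cfsg.Agent.Fi22TripleCore16 Cfsg.Agent.Fi22TripleData16

theorem ok40960 : allFrom (pointOk tbl 61776) 512 40960 = true := by decide +kernel

theorem ok41472 : allFrom (pointOk tbl 61776) 512 41472 = true := by decide +kernel

theorem ok41984 : allFrom (pointOk tbl 61776) 512 41984 = true := by decide +kernel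

theorem ok42496 : allFrom (pointOk tbl 61776) 512 42496 = true := by decide +kernel

theorem ok43008 : allFrom (pointOk tbl 61776) 512 43008 = true := by decide +kernel

theorem ok43520 : allFrom (pointOk tbl 61776) 512 43520 = true := by decide +kernel

theorem ok44032 : allFrom (pointOk tbl 61776) 512 44032 = true := by decide +kernel

theorem ok44544 : allFrom (pointOk tbl 61776) 512 44544 = true := by decide +kernel

theorem ok45056 : allFrom (pointOk tbl 61776) 512 45056 = true := by decide +kernel

theorem ok45568 : allFrom (pointOk tbl 61776) 512 45568 = true := by decide +kernel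

theorem ok46080 : allFrom (pointOk tbl 61776) 512 46080 = true := by decide +kernel

theorem ok46592 : allFrom (pointOk tbl 61776) 512 46592 = true := by decide +kernel

theorem ok47104 : allFrom (pointOk tbl 61776) 512 47104 = true := by decide +kernel

theorem ok47616 : allFrom (pointOk tbl 61776) 512 47616 = true := by decide +kernel

theorem ok48128 : allFrom (pointOk tbl 61776) 512 48128 = true := by decide +kernel

theorem ok48640 : allFrom (pointOk tbl 61776) 512 48640 = true := by decide +kernel

end Cfsg.Agent.Fi22TripleCheck16x5
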