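import Cfsg.Agent.Lib.Fi22TripleCore16
import Cfsg.Agent.Lib.Fi22TripleData16

/-! Part of the checks of the triple cover of Fi22. -/

set_option autoImplicit false
set_option maxRecDepth 100000
set_option Elab.async false

namespace Cfsg.Agent.Fi22TripleCheck16x6

open Cfsg.Agent.CosetCertTable Cfsg.Agent.Fi22TripleCore16 Cfsg.Agent.Fi22TripleData16

theorem ok49152 : allFrom (pointOk tbl 61776) 512 49152 = true := by decide +kernel

theorem ok49664 : allFrom (pointOk tbl 61776) 512 49664 = true := by decide +kernel

theorem ok50176 : allFrom (pointOk tbl 61776) 512 50176 = true := by decide +kernel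

theorem ok50688 : allFrom (pointOk tbl 61776) 512 50688 = true := by decide +kernel

theorem ok51200 : allFrom (pointOk tbl 61776) 512 51200 = true := by decide +kernel

theorem ok51712 : allFrom (pointOk tbl 61776) 512 51712 = true := by decide +kernel

theorem ok52224 : allFrom (pointOk tbl 61776) 512 52224 = true := by decide +kernel

theorem ok52736 : allFrom (pointOk tbl 61776) 512 52736 = true := by decide +kernel

theorem ok53248 : allFrom (pointOk tbl 61776) 512 53248 = true := by decide +kernel

theorem ok53760 : allFrom (pointOk tbl 61776) 512 53760 = true := by decide +kernel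

theorem ok54272 : allFrom (pointOk tbl 61776) 512 54272 = true := by decide +kernel

theorem ok54784 : allFrom (pointOk tbl 61776) 512 54784 = true := by decide +kernel

theorem ok55296 : allFrom (pointOk tbl 61776) 512 55296 = true := by decide +kernel

theorem ok55808 : allFrom (pointOk tbl 61776) 512 55808 = true := by decide +kernel

theorem ok56320 : allFrom (pointOk tbl 61776) 512 56320 = true := by decide +kernel

theorem ok56832 : allFrom (pointOk tbl 61776) 512 56832 = true := by decide +kernel

end Cfsg.Agent.Fi22TripleCheck16x6
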