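import Cfsg.Agent.Lib.Fi22TripleCore16
import Cfsg.Agent.Lib.Fi22TripleData16

/-! Part of the checks of the triple cover of Fi22. -/

set_option autoImplicit false
set_option maxRecDepth 100000
set_option Elab.async false

namespace Cfsg.Agent.Fi22TripleCheck16x7

open Cfsg.Agent.CosetCertTable Cfsg.Agent.Fi22TripleCore16 Cfsg.Agent.Fi22TripleData16

theorem ok57344 : allFrom (pointOk tbl 61776) 512 57344 = true := by decide +kernel

theorem ok57856 : allFrom (pointOk tbl 61776) 512 57856 = true := by decide +kernel

theorem ok58368 : allFrom (pointOk tbl 61776) 512 58368 = true := by decide +kernel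

theorem ok58880 : allFrom (pointOk tbl 61776) 512 58880 = true := by decide +kernel

theorem ok59392 : allFrom (pointOk tbl 61776) 512 59392 = true := by decide +kernel

theorem ok59904 : allFrom (pointOk tbl 61776) 512 59904 = true := by decide +kernel

theorem ok60416 : allFrom (pointOk tbl 61776) 512 60416 = true := by decide +kernel

theorem ok60928 : allFrom (pointOk tbl 61776) 512 60928 = true := by decide +kernel

theorem ok61440 : allFrom (pointOk tbl 61776) 336 61440 = true := by decide +kernel

end Cfsg.Agent.Fi22TripleCheck16x7
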