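import Cfsg.Agent.Lib.Fi22TripleCheck16x0
import Cfsg.Agent.Lib.Fi22TripleCheck16x1
import Cfsg.Agent.Lib.Fi22TripleCheck16x2
import Cfsg.Agent.Lib.Fi22TripleCheck16x3
import Cfsg.Agent.Lib.Fi22TripleCheck16x4
import Cfsg.Agent.Lib.Fi22TripleCheck16x5
import Cfsg.Agent.Lib.Fi22TripleCheck16x6
import Cfsg.Agent.Lib.Fi22TripleCheck16x7

/-! All checks of the triple cover of Fi22. -/

set_option autoImplicit false
set_option maxRecDepth 100000

namespace Cfsg.Agent.Fi22TripleChecks16

open Cfsg.Agent.CosetCertTable Cfsg.Agent.Fi22TripleCore16 Cfsg.Agent.Fi22TripleData16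

theorem ok0 : AllBelow (pointOk tbl 61776) 0 := AllBelow.zero _

theorem ok512 : AllBelow (pointOk tbl 61776) 512 :=
  AllBelow.step ok0 512 Fi22TripleCheck16x0.ok0

theorem ok1024 : AllBelow (pointOk tbl 61776) 1024 :=
  AllBelow.step ok512 512 Fi22TripleCheck16x0.ok512

theorem ok1536 : AllBelow (pointOk tbl 61776) 1536 :=
  AllBelow.step ok1024 512 Fi22TripleCheck16x0.ok1024

theorem ok2048 : AllBelow (pointOk tbl 61776) 2048 :=
  AllBelow.step ok1536 512 Fi22TripleCheck16x0.ok1536

theorem ok2560 : AllBelow (pointOk tbl 61776) 2560 :=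
  AllBelow.step ok2048 512 Fi22TripleCheck16x0.ok2048

theorem ok3072 : AllBelow (pointOk tbl 61776) 3072 :=
  AllBelow.step ok2560 512 Fi22TripleCheck16x0.ok2560

theorem ok3584 : AllBelow (pointOk tbl 61776) 3584 :=
  AllBelow.step ok3072 512 Fi22TripleCheck16x0.ok3072

theorem ok4096 : AllBelow (pointOk tbl 61776) 4096 :=
  AllBelow.step ok3584 512 Fi22TripleCheck16x0.ok3584

theorem ok4608 : AllBelow (pointOk tbl 61776) 4608 :=
  AllBelow.step ok4096 512 Fi22TripleCheck16x0.ok4096

theorem ok5120 : AllBelow (pointOk tbl 61776) 5120 :=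
  AllBelow.step ok4608 512 Fi22TripleCheck16x0.ok4608

theorem ok5632 : AllBelow (pointOk tbl 61776) 5632 :=
  AllBelow.step ok5120 512 Fi22TripleCheck16x0.ok5120

theorem ok6144 : AllBelow (pointOk tbl 61776) 6144 :=
  AllBelow.step ok5632 512 Fi22TripleCheck16x0.ok5632

theorem ok6656 : AllBelow (pointOk tbl 61776) 6656 :=
  AllBelow.step ok6144 512 Fi22TripleCheck16x0.ok6144

theorem ok7168 : AllBelow (pointOk tbl 61776) 7168 :=
  AllBelow.step ok6656 512 Fi22TripleCheck16x0.ok6656

theorem ok7680 : AllBelow (pointOk tbl 61776) 7680 :=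
  AllBelow.step ok7168 512 Fi22TripleCheck16x0.ok7168

theorem ok8192 : AllBelow (pointOk tbl 61776) 8192 :=
  AllBelow.step ok7680 512 Fi22TripleCheck16x0.ok7680

theorem ok8704 : AllBelow (pointOk tbl 61776) 8704 :=
  AllBelow.step ok8192 512 Fi22TripleCheck16x1.ok8192

theorem ok9216 : AllBelow (pointOk tbl 61776) 9216 :=
  AllBelow.step ok8704 512 Fi22TripleCheck16x1.ok8704

theorem ok9728 : AllBelow (pointOk tbl 61776) 9728 :=
  AllBelow.step ok9216 512 Fi22TripleCheck16x1.ok9216

theorem ok10240 : AllBelow (pointOk tbl 61776) 10240 :=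
  AllBelow.step ok9728 512 Fi22TripleCheck16x1.ok9728

theorem ok10752 : AllBelow (pointOk tbl 61776) 10752 :=
  AllBelow.step ok10240 512 Fi22TripleCheck16x1.ok10240

theorem ok11264 : AllBelow (pointOk tbl 61776) 11264 :=
  AllBelow.step ok10752 512 Fi22TripleCheck16x1.ok10752

theorem ok11776 : AllBelow (pointOk tbl 61776) 11776 :=
  AllBelow.step ok11264 512 Fi22TripleCheck16x1.ok11264

theorem ok12288 : AllBelow (pointOk tbl 61776) 12288 :=
  AllBelow.step ok11776 512 Fi22TripleCheck16x1.ok11776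

theorem ok12800 : AllBelow (pointOk tbl 61776) 12800 :=
  AllBelow.step ok12288 512 Fi22TripleCheck16x1.ok12288

theorem ok13312 : AllBelow (pointOk tbl 61776) 13312 :=
  AllBelow.step ok12800 512 Fi22TripleCheck16x1.ok12800

theorem ok13824 : AllBelow (pointOk tbl 61776) 13824 :=
  AllBelow.step ok13312 512 Fi22TripleCheck16x1.ok13312

theorem ok14336 : AllBelow (pointOk tbl 61776) 14336 :=
  AllBelow.step ok13824 512 Fi22TripleCheck16x1.ok13824

theorem ok14848 : AllBelow (pointOk tbl 61776) 14848 :=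
  AllBelow.step ok14336 512 Fi22TripleCheck16x1.ok14336

theorem ok15360 : AllBelow (pointOk tbl 61776) 15360 :=
  AllBelow.step ok14848 512 Fi22TripleCheck16x1.ok14848

theorem ok15872 : AllBelow (pointOk tbl 61776) 15872 :=
  AllBelow.step ok15360 512 Fi22TripleCheck16x1.ok15360

theorem ok16384 : AllBelow (pointOk tbl 61776) 16384 :=
  AllBelow.step ok15872 512 Fi22TripleCheck16x1.ok15872

theorem ok16896 : AllBelow (pointOk tbl 61776) 16896 :=
  AllBelow.step ok16384 512 Fi22TripleCheck16x2.ok16384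

theorem ok17408 : AllBelow (pointOk tbl 61776) 17408 :=
  AllBelow.step ok16896 512 Fi22TripleCheck16x2.ok16896

theorem ok17920 : AllBelow (pointOk tbl 61776) 17920 :=
  AllBelow.step ok17408 512 Fi22TripleCheck16x2.ok17408

theorem ok18432 : AllBelow (pointOk tbl 61776) 18432 :=
  AllBelow.step ok17920 512 Fi22TripleCheck16x2.ok17920

theorem ok18944 : AllBelow (pointOk tbl 61776) 18944 :=
  AllBelow.step ok18432 512 Fi22TripleCheck16x2.ok18432

theorem ok19456 : AllBelow (pointOk tbl 61776) 19456 :=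
  AllBelow.step ok18944 512 Fi22TripleCheck16x2.ok18944

theorem ok19968 : AllBelow (pointOk tbl 61776) 19968 :=
  AllBelow.step ok19456 512 Fi22TripleCheck16x2.ok19456

theorem ok20480 : AllBelow (pointOk tbl 61776) 20480 :=
  AllBelow.step ok19968 512 Fi22TripleCheck16x2.ok19968

theorem ok20992 : AllBelow (pointOk tbl 61776) 20992 :=
  AllBelow.step ok20480 512 Fi22TripleCheck16x2.ok20480

theorem ok21504 : AllBelow (pointOk tbl 61776) 21504 :=
  AllBelow.step ok20992 512 Fi22TripleCheck16x2.ok20992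

theorem ok22016 : AllBelow (pointOk tbl 61776) 22016 :=
  AllBelow.step ok21504 512 Fi22TripleCheck16x2.ok21504

theorem ok22528 : AllBelow (pointOk tbl 61776) 22528 :=
  AllBelow.step ok22016 512 Fi22TripleCheck16x2.ok22016

theorem ok23040 : AllBelow (pointOk tbl 61776) 23040 :=
  AllBelow.step ok22528 512 Fi22TripleCheck16x2.ok22528

theorem ok23552 : AllBelow (pointOk tbl 61776) 23552 :=
  AllBelow.step ok23040 512 Fi22TripleCheck16x2.ok23040

theorem ok24064 : AllBelow (pointOk tbl 61776) 24064 :=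
  AllBelow.step ok23552 512 Fi22TripleCheck16x2.ok23552

theorem ok24576 : AllBelow (pointOk tbl 61776) 24576 :=
  AllBelow.step ok24064 512 Fi22TripleCheck16x2.ok24064

theorem ok25088 : AllBelow (pointOk tbl 61776) 25088 :=
  AllBelow.step ok24576 512 Fi22TripleCheck16x3.ok24576

theorem ok25600 : AllBelow (pointOk tbl 61776) 25600 :=
  AllBelow.step ok25088 512 Fi22TripleCheck16x3.ok25088

theorem ok26112 : AllBelow (pointOk tbl 61776) 26112 :=
  AllBelow.step ok25600 512 Fi22TripleCheck16x3.ok25600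

theorem ok26624 : AllBelow (pointOk tbl 61776) 26624 :=
  AllBelow.step ok26112 512 Fi22TripleCheck16x3.ok26112

theorem ok27136 : AllBelow (pointOk tbl 61776) 27136 :=
  AllBelow.step ok26624 512 Fi22TripleCheck16x3.ok26624

theorem ok27648 : AllBelow (pointOk tbl 61776) 27648 :=
  AllBelow.step ok27136 512 Fi22TripleCheck16x3.ok27136

theorem ok28160 : AllBelow (pointOk tbl 61776) 28160 :=
  AllBelow.step ok27648 512 Fi22TripleCheck16x3.ok27648

theorem ok28672 : AllBelow (pointOk tbl 61776) 28672 :=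
  AllBelow.step ok28160 512 Fi22TripleCheck16x3.ok28160

theorem ok29184 : AllBelow (pointOk tbl 61776) 29184 :=
  AllBelow.step ok28672 512 Fi22TripleCheck16x3.ok28672

theorem ok29696 : AllBelow (pointOk tbl 61776) 29696 :=
  AllBelow.step ok29184 512 Fi22TripleCheck16x3.ok29184

theorem ok30208 : AllBelow (pointOk tbl 61776) 30208 :=
  AllBelow.step ok29696 512 Fi22TripleCheck16x3.ok29696

theorem ok30720 : AllBelow (pointOk tbl 61776) 30720 :=
  AllBelow.step ok30208 512 Fi22TripleCheck16x3.ok30208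

theorem ok31232 : AllBelow (pointOk tbl 61776) 31232 :=
  AllBelow.step ok30720 512 Fi22TripleCheck16x3.ok30720

theorem ok31744 : AllBelow (pointOk tbl 61776) 31744 :=
  AllBelow.step ok31232 512 Fi22TripleCheck16x3.ok31232

theorem ok32256 : AllBelow (pointOk tbl 61776) 32256 :=
  AllBelow.step ok31744 512 Fi22TripleCheck16x3.ok31744

theorem ok32768 : AllBelow (pointOk tbl 61776) 32768 :=
  AllBelow.step ok32256 512 Fi22TripleCheck16x3.ok32256

theorem ok33280 : AllBelow (pointOk tbl 61776) 33280 :=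
  AllBelow.step ok32768 512 Fi22TripleCheck16x4.ok32768

theorem ok33792 : AllBelow (pointOk tbl 61776) 33792 :=
  AllBelow.step ok33280 512 Fi22TripleCheck16x4.ok33280

theorem ok34304 : AllBelow (pointOk tbl 61776) 34304 :=
  AllBelow.step ok33792 512 Fi22TripleCheck16x4.ok33792

theorem ok34816 : AllBelow (pointOk tbl 61776) 34816 :=
  AllBelow.step ok34304 512 Fi22TripleCheck16x4.ok34304

theorem ok35328 : AllBelow (pointOk tbl 61776) 35328 :=
  AllBelow.step ok34816 512 Fi22TripleCheck16x4.ok34816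

theorem ok35840 : AllBelow (pointOk tbl 61776) 35840 :=
  AllBelow.step ok35328 512 Fi22TripleCheck16x4.ok35328

theorem ok36352 : AllBelow (pointOk tbl 61776) 36352 :=
  AllBelow.step ok35840 512 Fi22TripleCheck16x4.ok35840

theorem ok36864 : AllBelow (pointOk tbl 61776) 36864 :=
  AllBelow.step ok36352 512 Fi22TripleCheck16x4.ok36352

theorem ok37376 : AllBelow (pointOk tbl 61776) 37376 :=
  AllBelow.step ok36864 512 Fi22TripleCheck16x4.ok36864

theorem ok37888 : AllBelow (pointOk tbl 61776) 37888 :=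
  AllBelow.step ok37376 512 Fi22TripleCheck16x4.ok37376

theorem ok38400 : AllBelow (pointOk tbl 61776) 38400 :=
  AllBelow.step ok37888 512 Fi22TripleCheck16x4.ok37888

theorem ok38912 : AllBelow (pointOk tbl 61776) 38912 :=
  AllBelow.step ok38400 512 Fi22TripleCheck16x4.ok38400

theorem ok39424 : AllBelow (pointOk tbl 61776) 39424 :=
  AllBelow.step ok38912 512 Fi22TripleCheck16x4.ok38912

theorem ok39936 : AllBelow (pointOk tbl 61776) 39936 :=
  AllBelow.step ok39424 512 Fi22TripleCheck16x4.ok39424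

theorem ok40448 : AllBelow (pointOk tbl 61776) 40448 :=
  AllBelow.step ok39936 512 Fi22TripleCheck16x4.ok39936

theorem ok40960 : AllBelow (pointOk tbl 61776) 40960 :=
  AllBelow.step ok40448 512 Fi22TripleCheck16x4.ok40448

theorem ok41472 : AllBelow (pointOk tbl 61776) 41472 :=
  AllBelow.step ok40960 512 Fi22TripleCheck16x5.ok40960

theorem ok41984 : AllBelow (pointOk tbl 61776) 41984 :=
  AllBelow.step ok41472 512 Fi22TripleCheck16x5.ok41472

theorem ok42496 : AllBelow (pointOk tbl 61776) 42496 :=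
  AllBelow.step ok41984 512 Fi22TripleCheck16x5.ok41984

theorem ok43008 : AllBelow (pointOk tbl 61776) 43008 :=
  AllBelow.step ok42496 512 Fi22TripleCheck16x5.ok42496

theorem ok43520 : AllBelow (pointOk tbl 61776) 43520 :=
  AllBelow.step ok43008 512 Fi22TripleCheck16x5.ok43008

theorem ok44032 : AllBelow (pointOk tbl 61776) 44032 :=
  AllBelow.step ok43520 512 Fi22TripleCheck16x5.ok43520

theorem ok44544 : AllBelow (pointOk tbl 61776) 44544 :=
  AllBelow.step ok44032 512 Fi22TripleCheck16x5.ok44032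

theorem ok45056 : AllBelow (pointOk tbl 61776) 45056 :=
  AllBelow.step ok44544 512 Fi22TripleCheck16x5.ok44544

theorem ok45568 : AllBelow (pointOk tbl 61776) 45568 :=
  AllBelow.step ok45056 512 Fi22TripleCheck16x5.ok45056

theorem ok46080 : AllBelow (pointOk tbl 61776) 46080 :=
  AllBelow.step ok45568 512 Fi22TripleCheck16x5.ok45568

theorem ok46592 : AllBelow (pointOk tbl 61776) 46592 :=
  AllBelow.step ok46080 512 Fi22TripleCheck16x5.ok46080

theorem ok47104 : AllBelow (pointOk tbl 61776) 47104 :=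
  AllBelow.step ok46592 512 Fi22TripleCheck16x5.ok46592

theorem ok47616 : AllBelow (pointOk tbl 61776) 47616 :=
  AllBelow.step ok47104 512 Fi22TripleCheck16x5.ok47104

theorem ok48128 : AllBelow (pointOk tbl 61776) 48128 :=
  AllBelow.step ok47616 512 Fi22TripleCheck16x5.ok47616

theorem ok48640 : AllBelow (pointOk tbl 61776) 48640 :=
  AllBelow.step ok48128 512 Fi22TripleCheck16x5.ok48128

theorem ok49152 : AllBelow (pointOk tbl 61776) 49152 :=
  AllBelow.step ok48640 512 Fi22TripleCheck16x5.ok48640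

theorem ok49664 : AllBelow (pointOk tbl 61776) 49664 :=
  AllBelow.step ok49152 512 Fi22TripleCheck16x6.ok49152

theorem ok50176 : AllBelow (pointOk tbl 61776) 50176 :=
  AllBelow.step ok49664 512 Fi22TripleCheck16x6.ok49664

theorem ok50688 : AllBelow (pointOk tbl 61776) 50688 :=
  AllBelow.step ok50176 512 Fi22TripleCheck16x6.ok50176

theorem ok51200 : AllBelow (pointOk tbl 61776) 51200 :=
  AllBelow.step ok50688 512 Fi22TripleCheck16x6.ok50688

theorem ok51712 : AllBelow (pointOk tbl 61776) 51712 :=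
  AllBelow.step ok51200 512 Fi22TripleCheck16x6.ok51200

theorem ok52224 : AllBelow (pointOk tbl 61776) 52224 :=
  AllBelow.step ok51712 512 Fi22TripleCheck16x6.ok51712

theorem ok52736 : AllBelow (pointOk tbl 61776) 52736 :=
  AllBelow.step ok52224 512 Fi22TripleCheck16x6.ok52224

theorem ok53248 : AllBelow (pointOk tbl 61776) 53248 :=
  AllBelow.step ok52736 512 Fi22TripleCheck16x6.ok52736

theorem ok53760 : AllBelow (pointOk tbl 61776) 53760 :=
  AllBelow.step ok53248 512 Fi22TripleCheck16x6.ok53248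

theorem ok54272 : AllBelow (pointOk tbl 61776) 54272 :=
  AllBelow.step ok53760 512 Fi22TripleCheck16x6.ok53760

theorem ok54784 : AllBelow (pointOk tbl 61776) 54784 :=
  AllBelow.step ok54272 512 Fi22TripleCheck16x6.ok54272

theorem ok55296 : AllBelow (pointOk tbl 61776) 55296 :=
  AllBelow.step ok54784 512 Fi22TripleCheck16x6.ok54784

theorem ok55808 : AllBelow (pointOk tbl 61776) 55808 :=
  AllBelow.step ok55296 512 Fi22TripleCheck16x6.ok55296

theorem ok56320 : AllBelow (pointOk tbl 61776) 56320 :=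
  AllBelow.step ok55808 512 Fi22TripleCheck16x6.ok55808

theorem ok56832 : AllBelow (pointOk tbl 61776) 56832 :=
  AllBelow.step ok56320 512 Fi22TripleCheck16x6.ok56320

theorem ok57344 : AllBelow (pointOk tbl 61776) 57344 :=
  AllBelow.step ok56832 512 Fi22TripleCheck16x6.ok56832

theorem ok57856 : AllBelow (pointOk tbl 61776) 57856 :=
  AllBelow.step ok57344 512 Fi22TripleCheck16x7.ok57344

theorem ok58368 : AllBelow (pointOk tbl 61776) 58368 :=
  AllBelow.step ok57856 512 Fi22TripleCheck16x7.ok57856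

theorem ok58880 : AllBelow (pointOk tbl 61776) 58880 :=
  AllBelow.step ok58368 512 Fi22TripleCheck16x7.ok58368

theorem ok59392 : AllBelow (pointOk tbl 61776) 59392 :=
  AllBelow.step ok58880 512 Fi22TripleCheck16x7.ok58880

theorem ok59904 : AllBelow (pointOk tbl 61776) 59904 :=
  AllBelow.step ok59392 512 Fi22TripleCheck16x7.ok59392

theorem ok60416 : AllBelow (pointOk tbl 61776) 60416 :=
  AllBelow.step ok59904 512 Fi22TripleCheck16x7.ok59904

theorem ok60928 : AllBelow (pointOk tbl 61776) 60928 :=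
  AllBelow.step ok60416 512 Fi22TripleCheck16x7.ok60416

theorem ok61440 : AllBelow (pointOk tbl 61776) 61440 :=
  AllBelow.step ok60928 512 Fi22TripleCheck16x7.ok60928

theorem ok61776 : AllBelow (pointOk tbl 61776) 61776 :=
  AllBelow.step ok61440 336 Fi22TripleCheck16x7.ok61440

end Cfsg.Agent.Fi22TripleChecks16
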