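import Cfsg.Agent.Lib.CosetCertTable

/-!
Columns of packed images with voltages modulo three, and the checks on them.
-/

set_option autoImplicit false

namespace Cfsg.Agent.Fi22TripleCore16

open Cfsg.Agent.CosetCertCore Cfsg.Agent.CosetCertTable

/-- Field `x` at point `p`: four times the image plus the voltage. -/
noncomputable def fld (T : Tbl) (x p : Nat) : Nat :=
  Nat.land (Nat.shiftRight (entry T 216 p) (18 * x)) 262143

/-- One step on codes. -/
noncomputable def step (T : Tbl) (x q : Nat) : Nat :=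
  force (fld T x (Nat.shiftRight q 2)) fun e =>
    Nat.add (Nat.shiftLeft (Nat.shiftRight e 2) 2) (Nat.mod (Nat.add (Nat.land e 3) (Nat.land q 3)) 3)

/-- The first letter is applied last. -/
noncomputable def runC (T : Tbl) (w : List Nat) (q : Nat) : Nat :=
  List.rec (motive := fun _ => Nat) q (fun x _ ih => force ih fun r => step T x r) w

/-- All pairs agree at a point. -/
noncomputable def pairsOk (T : Tbl) (L : List (List Nat × List Nat)) (q : Nat) : Bool :=
  List.rec (motive := fun _ => Bool) true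
    (fun wv _ ih => force (runC T wv.1 q) (fun r => Nat.beq r (runC T wv.2 q)) && ih) L

/-- The fields at a point are in range. -/
noncomputable def rangeOk (T : Tbl) (N p : Nat) : Bool :=
  allFrom (fun x => force (fld T x p) fun e => Nat.blt (Nat.shiftRight e 2) N && Nat.blt (Nat.land e 3) 3) 12 0

/-- The equalities of words checked at every point. -/
def eqs : List (List Nat × List Nat) :=
  [([0, 0], []), ([1, 1], []), ([2, 2], []), ([3, 3], []), ([4, 4], []), ([5, 5], []), ([6, 6], []),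
    ([7, 7], []), ([8, 8], []),
    ([0, 2], [2, 0]), ([0, 3], [3, 0]), ([0, 4], [4, 0]), ([0, 5], [5, 0]), ([0, 6], [6, 0]),
    ([0, 7], [7, 0]), ([0, 8], [8, 0]),
    ([1, 3], [3, 1]), ([1, 4], [4, 1]), ([1, 5], [5, 1]), ([1, 6], [6, 1]), ([1, 7], [7, 1]),
    ([1, 8], [8, 1]),
    ([2, 4], [4, 2]), ([2, 5], [5, 2]), ([2, 6], [6, 2]), ([2, 7], [7, 2]), ([2, 8], [8, 2]),
    ([3, 5], [5, 3]), ([3, 6], [6, 3]), ([3, 8], [8, 3]),
    ([4, 6], [6, 4]), ([4, 7], [7, 4]), ([4, 8], [8, 4]),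
    ([5, 7], [7, 5]), ([5, 8], [8, 5]),
    ([6, 7], [7, 6]), ([6, 8], [8, 6]),
    ([0, 1, 0], [1, 0, 1]), ([1, 2, 1], [2, 1, 2]), ([2, 3, 2], [3, 2, 3]), ([3, 4, 3], [4, 3, 4]),
    ([3, 7, 3], [7, 3, 7]), ([4, 5, 4], [5, 4, 5]), ([5, 6, 5], [6, 5, 6]), ([7, 8, 7], [8, 7, 8]),
    ([9], [0, 1, 2, 3, 4, 5, 7]), ([10], [1, 2, 3, 4, 5, 6, 7]), ([11], [3, 2, 1, 3, 4, 5, 3, 7, 8]),
    ([9, 9, 9, 9, 9, 9, 9, 9, 9], []), ([10, 10, 10, 10, 10, 10, 10, 10, 10], [])]

/-- The check at point `p`. -/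
noncomputable def pointOk (T : Tbl) (N p : Nat) : Bool :=
  rangeOk T N p && force (Nat.shiftLeft p 2) (fun q => pairsOk T eqs q &&
    Nat.beq (runC T [11, 11, 11, 11, 11, 11, 11, 11, 11, 11] q) (Nat.add q 2))

end Cfsg.Agent.Fi22TripleCore16
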