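import Cfsg.Agent.Lib.ThreeTransM22Lines72

/-!
# There are 23 conjugates, or the lifts of triples fall into two classes

The sizes 45 and 276 contradict the orientation of the lines, 2047 is not divisible by three, and 254 would
need an automorphism of order 127 with few fixed points moving a spanning set in two cycles.
-/

set_option autoImplicit false
set_option linter.unusedSectionVars false
set_option linter.style.haveILetI false

namespace Cfsg.Agent.ThreeTransM22Exclude72

open Subgroup Cfsg.Agent.ThreeTransRel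
open Cfsg.Agent.ThreeTransM22Outer72 Cfsg.Agent.ThreeTransM22Block72
open Cfsg.Agent.ThreeTransM22Cover72 Cfsg.Agent.ThreeTransM22CoverCount72
open Cfsg.Agent.ThreeTransM22Fusion72 Cfsg.Agent.ThreeTransM22FusionCount72
open Cfsg.Agent.ThreeTransM22Lines72

section cycles

theorem card_sup_le {A : Type*} [Group A] [Finite A] (hc : ∀ a b : A, a * b = b * a) (H K : Subgroup A) :
    Nat.card ↥(H ⊔ K) ≤ Nat.card ↥H * Nat.card ↥K := by
  haveI : H.Normal := ⟨fun n hn g => by rwa [hc g n, mul_inv_cancel_right]⟩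
  rw [show Nat.card ↥(H ⊔ K) = Nat.card ↥((H ⊔ K : Subgroup A) : Set A) from rfl, Subgroup.normal_mul]
  exact Set.natCard_mul_le

/-- An automorphism of order 127 of an elementary abelian group of order 2048 has sixteen fixed points,
and no union of two nontrivial cycles generates. -/
theorem no_two_cycles {A : Type*} [Group A] [Finite A] (hc : ∀ a b : A, a * b = b * a)
    (h2 : ∀ a : A, a * a = 1) (hA : Nat.card A = 2048) (α : MulAut A) (hα : orderOf α = 127)
    {O : Set A} (hO : ∀ a ∈ O, α a ∈ O) (hn : O.ncard = 254) : closure O ≠ ⊤ := by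
  classical
  intro htop
  let φ : A →* A :=
    { toFun := fun a => α a * a⁻¹
      map_one' := by simp
      map_mul' := fun a b => by
        rw [map_mul, mul_inv_rev, hc b⁻¹ a⁻¹, mul_assoc, ← mul_assoc (α b), hc (α b) a⁻¹,
          mul_assoc a⁻¹, ← mul_assoc] }
  set F := φ.ker
  set U := φ.range
  have hF : ∀ a, a ∈ F ↔ α a = a := fun a => mul_inv_eq_one
  haveI : Fact (Nat.Prime 127) := ⟨by norm_num⟩
  set K := Subgroup.zpowers α
  have hKcard : Nat.card ↥K = 127 := by rw [Nat.card_zpowers, hα]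
  -- the cycles
  have horb : ∀ a, α a ≠ a → (MulAction.orbit ↥K a).ncard = 127 := by
    intro a ha
    have h := (MulAction.stabilizer ↥K a).card_mul_index
    rw [MulAction.index_stabilizer (G := ↥K) a, hKcard] at h
    rcases (Nat.dvd_prime (Fact.out : Nat.Prime 127)).mp (Dvd.intro_left _ h) with h' | h'
    · obtain ⟨b, hb⟩ := Set.ncard_eq_one.mp h'
      have h1 : α a ∈ MulAction.orbit ↥K a := ⟨⟨α, Subgroup.mem_zpowers α⟩, rfl⟩
      have h2 := MulAction.mem_orbit_self (M := ↥K) a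
      rw [hb, Set.mem_singleton_iff] at h1 h2
      exact absurd (h1.trans h2.symm) ha
    · exact h'
  have hstable : ∀ {T : Set A}, (∀ b ∈ T, α b ∈ T) → ∀ a ∈ T, MulAction.orbit ↥K a ⊆ T := by
    rintro T hT a ha _ ⟨⟨k, hk⟩, rfl⟩
    obtain ⟨m, rfl⟩ := (isOfFinOrder_of_finite α).mem_powers_iff_mem_zpowers.mpr hk
    show (α ^ m) a ∈ T
    induction m with
    | zero => simpa using ha
    | succ m ih => rw [pow_succ', MulAut.mul_apply]; exact hT _ (ih (Subgroup.npow_mem_zpowers α m))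
  -- sixteen fixed points
  have hmoved : 127 ∣ ((F : Set A)ᶜ).ncard := by
    refine ThreeTransM22Count72.dvd_of_partition 127 (fun a => MulAction.orbit ↥K a) fun a ha =>
      ⟨MulAction.mem_orbit_self a, ?_, (horb a fun e => ha ((hF a).mpr e)) ▸ dvd_rfl,
        fun b hb => MulAction.orbit_eq_iff.mpr hb⟩
    refine hstable (T := (F : Set A)ᶜ) (fun b hb => fun e => hb ((hF b).mpr ?_)) a ha
    exact α.injective ((hF _).mp e)
  have hF16 : Nat.card ↥F ≤ 16 ∧ 16 ≤ Nat.card ↥F := by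
    obtain ⟨j, hj, e⟩ := (Nat.dvd_prime_pow Nat.prime_two).mp
      (show Nat.card ↥F ∣ 2 ^ 11 by rw [show (2 : ℕ) ^ 11 = 2048 by norm_num, ← hA]; exact F.card_subgroup_dvd_card)
    have hne : j ≠ 11 := fun h => by
      have : F = ⊤ := Subgroup.eq_top_of_card_eq F (by rw [e, h, hA]; norm_num)
      have h1 : α = 1 := MulEquiv.ext fun a => (hF a).mp (this ▸ Subgroup.mem_top a)
      rw [h1, orderOf_one] at hα
      omega
    rw [Set.ncard_compl, hA, show (F : Set A).ncard = Nat.card ↥F from (Nat.card_coe_set_eq _).symm, e]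
      at hmoved
    rw [e]
    interval_cases j <;> first | omega | (norm_num at hmoved ⊢)
  have hU : Nat.card ↥U = 128 := by
    have h := φ.ker.card_mul_index
    rw [Subgroup.index_ker, show Nat.card ↥φ.ker = 16 from le_antisymm hF16.1 hF16.2, hA] at h
    have h' : 16 * Nat.card ↥U = 2048 := h
    omega
  -- the two cycles
  have hpick : ∀ T : Set A, 16 < T.ncard → ∃ a ∈ T, α a ≠ a := fun T hT => by
    by_contra hno
    push Not at hno
    have := Set.ncard_le_ncard (s := T) (t := (F : Set A)) (fun a ha => (hF a).mpr (hno a ha))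
    rw [show (F : Set A).ncard = Nat.card ↥F from (Nat.card_coe_set_eq _).symm] at this
    omega
  obtain ⟨a, ha, ha'⟩ := hpick O (by omega)
  have hsub := hstable hO a ha
  have hrest : (O \ MulAction.orbit ↥K a).ncard = 127 := by
    rw [Set.ncard_sdiff hsub, hn, horb a ha']
  obtain ⟨b, hb, hb'⟩ := hpick (O \ MulAction.orbit ↥K a) (by omega)
  have hbsub : MulAction.orbit ↥K b ⊆ O \ MulAction.orbit ↥K a := fun c hc =>
    ⟨hstable hO b hb.1 hc, fun hca => hb.2 (by
      rw [← MulAction.orbit_eq_iff.mpr hca, MulAction.orbit_eq_iff.mpr hc]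
      exact MulAction.mem_orbit_self b)⟩
  have hb2 : MulAction.orbit ↥K b = O \ MulAction.orbit ↥K a :=
    Set.eq_of_subset_of_ncard_le hbsub (by rw [horb b hb', hrest])
  set H := (Subgroup.zpowers a ⊔ Subgroup.zpowers b) ⊔ U
  have hH : ∀ c, c ∈ H → MulAction.orbit ↥K c ⊆ (H : Set A) := fun c hc =>
    hstable (fun w hw => by
      have : α w = φ w * w := by simp [φ]
      show α w ∈ H
      rw [this]
      exact mul_mem (Subgroup.mem_sup_right ⟨w, rfl⟩) hw) c hc
  have hle : closure O ≤ H := (closure_le _).mpr fun c hc => by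
    by_cases h : c ∈ MulAction.orbit ↥K a
    · exact hH a (Subgroup.mem_sup_left (Subgroup.mem_sup_left (Subgroup.mem_zpowers a))) h
    · exact hH b (Subgroup.mem_sup_left (Subgroup.mem_sup_right (Subgroup.mem_zpowers b))) (hb2 ▸ ⟨hc, h⟩)
  have hcard : Nat.card ↥H ≤ 512 := by
    have hz : ∀ c : A, Nat.card ↥(Subgroup.zpowers c) ≤ 2 := fun c => by
      rw [Nat.card_zpowers]; exact Nat.le_of_dvd (by norm_num) (orderOf_dvd_of_pow_eq_one (by rw [pow_two, h2]))
    refine (card_sup_le hc _ _).trans ?_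
    have := (card_sup_le hc (Subgroup.zpowers a) (Subgroup.zpowers b)).trans (Nat.mul_le_mul (hz a) (hz b))
    rw [hU]; omega
  rw [htop] at hle
  have := Subgroup.card_le_of_le hle
  rw [Subgroup.card_top, hA] at this
  omega

end cycles

variable {G : Type*} [Group G] [Finite G] {d : G}
variable {Q : Type*} [Group Q] [Finite Q]

set_option quotPrecheck false in
local notation "C₀" => Subgroup.centralizer ({d} : Set G)

variable {p : ↥(Subgroup.centralizer ({d} : Set G)) →* Q} {z x₀ : ↥(Subgroup.centralizer ({d} : Set G))}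
variable {E B : Set Q}
variable (X : Cov p z E) (hzd : (z : G) = d) (hx : p x₀ ∈ E) (hB : Blk E B)
include X hzd hx hB

theorem not_254 (hn : (fused p B).ncard = 254)
    (hW : ∀ s ∈ B, ((sig p x₀ s : ↥C₀) : G) ∈ fused p B ∨ ((sig p x₀ s : ↥C₀) : G) * d ∈ fused p B) :
    False := by
  classical
  haveI : Fact (Nat.Prime 127) := ⟨by norm_num⟩
  set N := Subgroup.normalizer (pre p B : Set G)
  -- the order of the automiser is divisible by 127
  have h127 : 127 ∣ Nat.card ↥(pre p B).normalizerMonoidHom.range := by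
    have hd : cl N d = fused p B := by
      ext y
      refine ⟨?_, fun hy => ?_⟩
      · rintro ⟨n, hn, rfl⟩
        exact fused_invariant X hzd hB hn ⟨d_mem X hzd hB, IsConj.refl d⟩
      · obtain ⟨n, hn, e⟩ := transitive X hzd hB hx hy
        exact ⟨n, hn, e⟩
    have hN := cl_card N d
    rw [hd, hn, ← order_split X hzd hx hB] at hN
    have hle : CA p B ≤ N ⊓ Subgroup.centralizer ({d} : Set G) := fun a ha =>
      ⟨ha.1, Subgroup.mem_centralizer_singleton_iff.mpr
        (Subgroup.mem_centralizer_iff.mp ha.2 d (d_mem X hzd hB)).symm⟩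
    obtain ⟨j, hj⟩ := Subgroup.card_dvd_of_le hle
    rw [hj] at hN
    refine Dvd.intro (2 * j) (Nat.eq_of_mul_eq_mul_left (Nat.card_pos (α := ↥(CA p B))) ?_)
    rw [← hN]; ring
  obtain ⟨⟨α, m, rfl⟩, hα⟩ := exists_prime_orderOf_dvd_card' 127 h127
  set O : Set ↥(pre p B) := {a | (a : G) ∈ fused p B}
  refine no_two_cycles (fun a b => Subtype.ext (pre_comm X hzd hB a.2 b.2 hx).eq)
    (fun a => Subtype.ext (pre_sq X hzd hB a.2 hx)) (card_pre X hzd hB) _
    (by rw [← hα, ← Subgroup.orderOf_coe]) (O := O) ?_ ?_ ?_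
  · intro a ha
    show (m : G) * a * (m : G)⁻¹ ∈ fused p B
    exact fused_invariant X hzd hB m.2 ha
  · rw [← Set.ncard_image_of_injective O Subtype.val_injective, ← hn]
    congr 1
    ext y
    exact ⟨by rintro ⟨a, ha, rfl⟩; exact ha, fun hy => ⟨⟨y, hy.1⟩, hy, rfl⟩⟩
  · rw [eq_top_iff]
    rintro ⟨y, hy⟩ -
    obtain ⟨v, hv, rfl⟩ := id hy
    rw [SetLike.mem_coe, X.preimage_eq hx hB] at hv
    set S := ((closure O).map (pre p B).subtype).comap (Subgroup.subtype C₀)
    suffices h : v ∈ S by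
      obtain ⟨a, ha, e⟩ := h
      rwa [show a = ⟨_, hy⟩ from Subtype.ext e] at ha
    refine (closure_le S).mpr ?_ hv
    have hd : d ∈ fused p B := ⟨d_mem X hzd hB, IsConj.refl d⟩
    have hin : ∀ y ∈ fused p B, y ∈ (closure O).map (pre p B).subtype := fun y hy =>
      ⟨⟨y, hy.1⟩, subset_closure hy, rfl⟩
    rintro w (hw | ⟨s, hs, rfl⟩)
    · exact (congrArg (· ∈ (closure O).map (pre p B).subtype)
        ((congrArg Subtype.val hw).trans hzd)).mpr (hin d hd)
    · show ((sig p x₀ s : ↥C₀) : G) ∈ (closure O).map (pre p B).subtype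
      rcases hW s hs with h | h
      · exact hin _ h
      · have := mul_mem (hin _ h) (hin d hd)
        rwa [mul_assoc, fused_sq X hzd hx hB hd, mul_one] at this

theorem sig_sub {s : Q} (hs : s ∈ B) : ((sig p x₀ s : ↥C₀) : G) ∈ W p x₀ B := ⟨_, ⟨s, hs, rfl⟩, rfl⟩

/-- The conjugates in the preimage are as many as in M(23), unless the lifts of triples fall into two
classes. -/
theorem dichotomy23 (hnwc : ∃ g : G, g * d * g⁻¹ ∈ C₀ ∧ g * d * g⁻¹ ≠ d) :
    (fused p B).ncard = 23 ∨ ∀ v ∈ V3 p x₀ B, v * z ∉ V3 p x₀ B := by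
  classical
  obtain ⟨hinv, h1, h2, h3⟩ := X.orbits hx hB
  obtain ⟨i1, i2, i3, hcov, d12, d13, d23, o1, o2, o3⟩ := images X hx hB
  set O : Set ↥C₀ := {y | (y : G) ∈ fused p B} with hO
  have hOinv : ∀ k ∈ stab p B, ∀ y ∈ O, k * y * k⁻¹ ∈ O := fun k hk y hy =>
    fused_invariant X hzd hB (Kd_of_stab X hzd hB hk).1 hy
  have hsum : (fused p B).ncard = _ := ncard_fused X hzd hx hB
  have hdvd := count_dvd X hzd hx hB
  have hP1 := piece X (fun k hk y hy => (hinv k hk y).1 hy) h1 hOinv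
  have hP2 := piece X (fun k hk y hy => (hinv k hk y).2.1 hy) h2 hOinv
  have hP3 := piece X (fun k hk y hy => (hinv k hk y).2.2 hy) h3 hOinv
  rw [i1] at hP1
  rw [i2] at hP2
  rw [i3] at hP3
  set a := (O ∩ p ⁻¹' (p '' V1 p x₀ B)).ncard with ha
  set b := (O ∩ p ⁻¹' (p '' V2 p x₀ B)).ncard with hb
  set c := (O ∩ p ⁻¹' (p '' V3 p x₀ B)).ncard with hc
  -- the arithmetic
  have ha' : a = 0 ∨ a = 44 ∨ a = 22 := by
    rcases hP1 with h | ⟨-, h⟩ | ⟨h, -⟩
    · exact Or.inl (by rw [ha, h, Set.ncard_empty])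
    · exact Or.inr (Or.inl h)
    · exact Or.inr (Or.inr h)
  have hb' : b = 0 ∨ b = 462 ∨ b = 231 := by
    rcases hP2 with h | ⟨-, h⟩ | ⟨h, -⟩
    · exact Or.inl (by rw [hb, h, Set.ncard_empty])
    · exact Or.inr (Or.inl h)
    · exact Or.inr (Or.inr h)
  have hc' : c = 0 ∨ c = 1540 ∨ c = 770 := by
    rcases hP3 with h | ⟨-, h⟩ | ⟨h, -⟩
    · exact Or.inl (by rw [hc, h, Set.ncard_empty])
    · exact Or.inr (Or.inl h)
    · exact Or.inr (Or.inr h)
  rw [hsum] at hdvd
  have hcases : c = 770 ∨ (b = 0 ∧ c = 0 ∧ a = 0) ∨ (b = 0 ∧ c = 0 ∧ a = 22) ∨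
      (b = 231 ∧ c = 0 ∧ a = 22) ∨ (a = 44 ∧ c = 0 ∧ (b = 0 ∨ b = 231)) ∨
      (a = 44 ∧ b = 462 ∧ c = 1540) := by
    rcases ha' with e1 | e1 | e1 <;> rcases hb' with e2 | e2 | e2 <;> rcases hc' with e3 | e3 | e3 <;>
      rw [e1, e2, e3] at hdvd <;> first | omega | (norm_num at hdvd)
  rcases hcases with e | ⟨eb, ec, ea⟩ | ⟨eb, ec, ea⟩ | ⟨eb, ec, ea⟩ | ⟨ea, ec, eb⟩ | ⟨ea, eb, ec⟩
  · -- one class of lifts of triples
    right
    rcases hP3 with h | ⟨-, h⟩ | ⟨-, h, -⟩
    · rw [hc, h, Set.ncard_empty] at e; omega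
    · rw [e] at h; omega
    · exact h
  · -- some conjugate besides `d`
    exfalso
    obtain ⟨g, hgC, hne⟩ := hnwc
    have hd2 : d * d = 1 := by rw [← hzd]; exact congrArg Subtype.val X.zz
    obtain ⟨k, hk⟩ := X.exists_into hB (c := ⟨_, hgC⟩) (Subtype.ext (by
      show g * d * g⁻¹ * (g * d * g⁻¹) = 1
      rw [show g * d * g⁻¹ * (g * d * g⁻¹) = g * (d * d) * g⁻¹ by group, hd2]; group))
    set y := k * ⟨_, hgC⟩ * k⁻¹ with hy
    have hyO : (y : G) ∈ fused p B :=
      ⟨⟨y, hk, rfl⟩, isConj_iff.mpr ⟨(k : G) * g, by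
        show _ = (k : G) * (g * d * g⁻¹) * (k : G)⁻¹
        group⟩⟩
    have h1' : (fused p B).ncard = 1 := by rw [hsum]; omega
    obtain ⟨w, hw⟩ := Set.ncard_eq_one.mp h1'
    have hyd : (y : G) = d := by
      have hdm : d ∈ fused p B := ⟨d_mem X hzd hB, IsConj.refl d⟩
      rw [hw, Set.mem_singleton_iff] at hdm hyO
      rw [hyO, hdm]
    apply hne
    have hkd : (k : G) * d = d * (k : G) := Subgroup.mem_centralizer_singleton_iff.mp k.2
    have h : (k : G) * (g * d * g⁻¹) * (k : G)⁻¹ = d := hyd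
    rw [show g * d * g⁻¹ = (k : G)⁻¹ * ((k : G) * (g * d * g⁻¹) * (k : G)⁻¹) * k by group, h, mul_assoc, ← hkd]
    group
  · left; rw [hsum]; omega
  · exfalso
    refine not_254 X hzd hx hB (by rw [hsum]; omega) fun s hs => ?_
    have hmem : sig p x₀ s ∈ p ⁻¹' (p '' V1 p x₀ B) := ⟨_, ⟨s, hs, rfl⟩, rfl⟩
    rcases hP1 with h | ⟨h, -⟩ | ⟨-, -, -, h | h⟩
    · rw [ha, h, Set.ncard_empty] at ea; omega
    · exact Or.inl (h hmem)
    · exact Or.inl (h.symm.subset ⟨s, hs, rfl⟩).1
    · right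
      have h' : ((sig p x₀ s * z : ↥C₀) : G) ∈ fused p B := (h.symm.subset ⟨_, ⟨s, hs, rfl⟩, rfl⟩).1
      rwa [Subgroup.coe_mul, hzd] at h'
  all_goals
    exfalso
    have hall : p ⁻¹' (p '' V1 p x₀ B) ⊆ O := by
      rcases hP1 with h | ⟨h, -⟩ | ⟨h, -⟩
      · rw [ha, h, Set.ncard_empty] at ea; omega
      · exact h
      · omega
    have hW : W p x₀ B ⊆ fused p B := by
      rintro _ ⟨v, hv, rfl⟩
      exact hall ⟨v, hv, rfl⟩
    have hWd : ∀ y ∈ W p x₀ B, y * d ∈ fused p B := by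
      rintro _ ⟨v, hv, rfl⟩
      have h' : ((v * z : ↥C₀) : G) ∈ fused p B := hall ⟨v, hv, (X.map_mul_z v).symm⟩
      rwa [Subgroup.coe_mul, hzd] at h'
  rotate_left
  · -- 2047
    have h := three_dvd X hzd hx hB hW hWd
    rw [hsum] at h
    omega
  -- 45 and 276
  have hdm : d ∈ fused p B := ⟨d_mem X hzd hB, IsConj.refl d⟩
  have hd2 : d * d = 1 := fused_sq X hzd hx hB hdm
  have hno3 : ∀ v ∈ V3 p x₀ B, v ∉ O ∧ v * z ∉ O := fun v hv => by
    have h0 : O ∩ p ⁻¹' (p '' V3 p x₀ B) = ∅ := (Set.ncard_eq_zero (Set.toFinite _)).mp ec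
    refine ⟨fun h => ?_, fun h => ?_⟩
    · exact Set.notMem_empty v (h0 ▸ ⟨h, v, hv, rfl⟩)
    · exact Set.notMem_empty (v * z) (h0 ▸ ⟨h, v, hv, (X.map_mul_z v).symm⟩)
  have hno2 : ∀ v : ↥C₀, p v ∈ p '' V2 p x₀ B → v ∈ O → v * z ∉ O := fun v hv hvO hvz => by
    rcases hP2 with h | ⟨-, h⟩ | ⟨-, -, h, -⟩
    · exact Set.notMem_empty v (h ▸ ⟨hvO, hv⟩)
    · omega
    · exact h v hvO hvz hv
  -- the related pairs are those with product in the set
  have hconv : ∀ a b : G, a ∈ fused p B → b ∈ fused p B → b ≠ a → b * a ∈ fused p B →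
      R1 p x₀ B a b ∨ R1 p x₀ B a (b * a) := by
    intro u v hu hv hne huv
    obtain ⟨n, hn, hna⟩ := transitive X hzd hB hx hu
    have hn' := inv_mem hn
    have h1 := fused_invariant X hzd hB hn' hv
    have h2 := fused_invariant X hzd hB hn' huv
    rw [inv_inv] at h1 h2
    rw [show n⁻¹ * (v * u) * n = n⁻¹ * v * n * d by rw [← hna]; group] at h2
    obtain ⟨hC, hw⟩ := fused_sub X hzd hx hB h1
    set w : ↥C₀ := ⟨n⁻¹ * v * n, hC⟩
    have hwz : ((w * z : ↥C₀) : G) ∈ fused p B := by rwa [Subgroup.coe_mul, hzd]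
    rcases hcov _ hw with h | h | h | h
    · rcases X.ker _ h with e | e
      · have := h1.2
        rw [show n⁻¹ * v * n = 1 from congrArg Subtype.val e] at this
        exact absurd (isConj_one_left.mp this) (d_ne_one X hzd hx hB)
      · exfalso
        refine hne ?_
        rw [← hna, show v = n * (n⁻¹ * v * n) * n⁻¹ by group,
          show n⁻¹ * v * n = d from (congrArg Subtype.val e).trans hzd]
    · obtain ⟨w', hw', e⟩ := h
      rcases X.fib e.symm with e' | e'
      · exact Or.inl ⟨n, hn, hna, ⟨w', hw', (congrArg Subtype.val e').symm⟩⟩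
      · refine Or.inr ⟨n, hn, hna, ⟨w', hw', ?_⟩⟩
        have e'' : w' = w * z := by rw [e', X.mul_z_z]
        rw [e'', Subgroup.coe_mul, hzd]
        show n⁻¹ * v * n * d = n⁻¹ * (v * u) * n
        rw [← hna]; group
    · exact absurd hwz (hno2 w h h1)
    · obtain ⟨w', hw', e⟩ := h
      rcases X.fib e.symm with e' | e'
      · exact absurd (show w ∈ O from h1) (e' ▸ (hno3 w' hw').1)
      · exact absurd (show w ∈ O from h1) (e' ▸ (hno3 w' hw').2)
  obtain ⟨s₀, hs₀⟩ := block_nonempty X.grp X.prim X.m22 hB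
  rcases eb with eb | eb
  · -- 45
    set xG := ((sig p x₀ s₀ : ↥C₀) : G) with hxG
    obtain ⟨n, hn, hnx⟩ := transitive X hzd hB hx (hW (sig_sub X hzd hx hB hs₀))
    have hsub : (fun y => n * y * n⁻¹) '' W p x₀ B ⊆ {d, xG * d} := by
      rintro _ ⟨y, hy, rfl⟩
      have hR : R1 p x₀ B xG (n * y * n⁻¹) :=
        ⟨n, hn, hnx, by rwa [show n⁻¹ * (n * y * n⁻¹) * n = y by group]⟩
      obtain ⟨hxO, hq, hqne⟩ := R1_mem X hzd hx hB hW hR
      have hqx := rel_mem X hzd hx hB hW hWd hR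
      set q := n * y * n⁻¹
      obtain ⟨hC, hw⟩ := fused_sub X hzd hx hB hq
      rcases hcov _ hw with h | h | h | h
      · rcases X.ker _ h with e | e
        · have := hq.2
          rw [show q = 1 from congrArg Subtype.val e] at this
          exact absurd (isConj_one_left.mp this) (d_ne_one X hzd hx hB)
        · exact Or.inl ((congrArg Subtype.val e).trans hzd)
      · obtain ⟨w', ⟨t, ht, rfl⟩, e⟩ := h
        by_cases hts : t = s₀
        · subst hts
          rcases X.fib e.symm with e' | e'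
          · exact absurd (congrArg Subtype.val e') hqne
          · exact Or.inr ((congrArg Subtype.val e').trans (by rw [Subgroup.coe_mul, hzd]))
        · exfalso
          have hb0 : O ∩ p ⁻¹' (p '' V2 p x₀ B) = ∅ := (Set.ncard_eq_zero (Set.toFinite _)).mp eb
          refine Set.notMem_empty ((⟨q, hC⟩ : ↥C₀) * sig p x₀ s₀) (hb0 ▸ ⟨hqx, ?_⟩)
          exact ⟨_, ⟨t, ht, s₀, hs₀, hts, rfl⟩, by rw [map_mul, e, map_mul]⟩
      · exfalso
        have hb0 : O ∩ p ⁻¹' (p '' V2 p x₀ B) = ∅ := (Set.ncard_eq_zero (Set.toFinite _)).mp eb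
        exact Set.notMem_empty (⟨q, hC⟩ : ↥C₀) (hb0 ▸ ⟨hq, h⟩)
      · obtain ⟨w', hw', e⟩ := h
        rcases X.fib e.symm with e' | e'
        · exact absurd (show (⟨q, hC⟩ : ↥C₀) ∈ O from hq) (e' ▸ (hno3 w' hw').1)
        · exact absurd (show (⟨q, hC⟩ : ↥C₀) ∈ O from hq) (e' ▸ (hno3 w' hw').2)
    have := (Set.ncard_le_ncard hsub (Set.toFinite _)).trans (Set.ncard_insert_le _ _)
    rw [Set.ncard_image_of_injective _ (fun u v e => mul_left_cancel (mul_right_cancel e)), W,
      Set.ncard_image_of_injective _ Subtype.val_injective, ncard_V1 X hzd hx hB,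
      Set.ncard_singleton] at this
    omega
  · -- 276: products of two lifts of the first kind are not in the set
    have hprod : ∀ s ∈ B, ∀ t ∈ B, s ≠ t → sig p x₀ s * sig p x₀ t ∉ O := by
      intro s hs t ht hst hw
      set u := ((sig p x₀ s : ↥C₀) : G)
      set v := ((sig p x₀ t : ↥C₀) : G)
      have hu := hW (sig_sub X hzd hx hB hs)
      have hv := hW (sig_sub X hzd hx hB ht)
      have huv := fused_comm X hzd hx hB hu hv
      have hne : v ≠ u := fun e => hst (by
        have e' := congrArg p (Subtype.ext e : sig p x₀ t = sig p x₀ s)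
        rw [(X.sig_spec hx (hB.sub ht)).2, (X.sig_spec hx (hB.sub hs)).2] at e'
        exact e'.symm)
      have hwv : v * u ∈ fused p B := by
        rw [← huv.eq]; exact hw
      obtain ⟨k, hk, hk1⟩ := h2 _ ⟨s, hs, t, ht, hst, rfl⟩ _ ⟨t, ht, s, hs, hst.symm, rfl⟩
      obtain ⟨u', hu', hus', hut'⟩ := X.exists_third hB s t
      obtain ⟨k, hk, hks, hkt, -⟩ := X.exists_stab hB hs ht hu' hst hus'.symm hut'.symm ht hs hu'
        hst.symm hut'.symm hus'.symm
      have cs : (k : G) * u * (k : G)⁻¹ = v :=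
        congrArg Subtype.val (show k * sig p x₀ s * k⁻¹ = sig p x₀ t by rw [X.sig_conj hx (hB.sub hs), hks])
      have ct : (k : G) * v * (k : G)⁻¹ = u :=
        congrArg Subtype.val (show k * sig p x₀ t * k⁻¹ = sig p x₀ s by rw [X.sig_conj hx (hB.sub ht), hkt])
      have hkN := (Kd_of_stab X hzd hB hk).1
      rcases hconv u v hu hv hne hwv with h | h
      · have h' := R1_conj hkN h
        rw [cs, ct] at h'
        exact antisymm X hzd hx hB hW hWd h h'
      · have hn1 := next_rel X hzd hx hB hW hWd h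
        have e1 : u * (v * u) = v := by
          rw [← mul_assoc, huv.eq, mul_assoc, fused_sq X hzd hx hB hu, mul_one]
        rw [e1] at hn1
        have hn2 := next_rel X hzd hx hB hW hWd hn1
        have e2 : v * u * v = u := by
          rw [mul_assoc, huv.eq, ← mul_assoc, fused_sq X hzd hx hB hv, one_mul]
        rw [e2] at hn2
        have h' := R1_conj hkN hn2
        rw [cs, ct] at h'
        exact dichotomy X hzd hx hB h' h
    have hpairs : ∀ s ∈ B, ∀ t ∈ B, s ≠ t → sig p x₀ s * sig p x₀ t * z ∈ O := by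
      intro s hs t ht hst
      rcases hP2 with h | ⟨-, h⟩ | ⟨-, -, -, h | h⟩
      · rw [hb, h, Set.ncard_empty] at eb; omega
      · omega
      · exact absurd (h.symm.subset ⟨s, hs, t, ht, hst, rfl⟩).1 (hprod s hs t ht hst)
      · exact (h.symm.subset ⟨_, ⟨s, hs, t, ht, hst, rfl⟩, rfl⟩).1
    -- seen from any conjugate
    have huniv : ∀ a q q' : G, R1 p x₀ B a q → R1 p x₀ B a q' → q ≠ q' → q * q' * a ∈ fused p B := by
      intro a q q' h h' hne
      obtain ⟨n, hn, hna, hq⟩ := h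
      obtain ⟨_, ⟨s, hs, rfl⟩, e⟩ := hq
      obtain ⟨_, ⟨t, ht, rfl⟩, e'⟩ := R1_wd X hzd hx hB h' hn hna
      have hst : s ≠ t := fun h0 => hne (by
        subst h0
        have := e.symm.trans e'
        exact mul_left_cancel (mul_right_cancel this))
      have := fused_invariant X hzd hB hn (x := ((sig p x₀ s * sig p x₀ t * z : ↥C₀) : G)) (hpairs s hs t ht hst)
      rw [Subgroup.coe_mul, Subgroup.coe_mul, hzd, e, e'] at this
      rwa [show n * (n⁻¹ * q * n * (n⁻¹ * q' * n) * d) * n⁻¹ = q * q' * a by rw [← hna]; group] at this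
    set xG := ((sig p x₀ s₀ : ↥C₀) : G)
    have hxG := hW (sig_sub X hzd hx hB hs₀)
    let aa : Q → G := fun t => ((sig p x₀ t * z : ↥C₀) : G)
    have haa : ∀ t ∈ B, t ≠ s₀ → R1 p x₀ B xG (aa t) ∨ R1 p x₀ B xG (aa t * xG) := fun t ht hts => by
      refine hconv _ _ hxG (hall ⟨_, ⟨t, ht, rfl⟩, (X.map_mul_z _).symm⟩) (fun e => hts ?_) ?_
      · have e' := congrArg p (Subtype.ext e : sig p x₀ t * z = sig p x₀ s₀)
        rwa [X.map_mul_z, (X.sig_spec hx (hB.sub ht)).2, (X.sig_spec hx (hB.sub hs₀)).2] at e'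
      · have := hpairs t ht s₀ hs₀ hts
        show ((sig p x₀ t * z * sig p x₀ s₀ : ↥C₀) : G) ∈ fused p B
        rw [mul_assoc, (X.central _).eq, ← mul_assoc]
        exact this
    have hkill : ∀ t ∈ B, ∀ u ∈ B, t ≠ s₀ → u ≠ s₀ → t ≠ u → ∀ q q' : G,
        R1 p x₀ B xG q → R1 p x₀ B xG q' → q ≠ q' → q * q' * xG = aa t * aa u * xG → False := by
      intro t ht u hu hts hus htu q q' hq hq' hne he
      have h := huniv _ _ _ hq hq' hne
      rw [he] at h
      refine (hno3 _ ⟨t, ht, u, hu, s₀, hs₀, htu, hts, hus, rfl⟩).1 ?_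
      show ((sig p x₀ t * sig p x₀ u * sig p x₀ s₀ : ↥C₀) : G) ∈ fused p B
      rw [show sig p x₀ t * sig p x₀ u * sig p x₀ s₀ =
        sig p x₀ t * z * (sig p x₀ u * z) * sig p x₀ s₀ by
          rw [(X.central _).mul_mul_mul_comm, X.zz, mul_one]]
      exact h
    have haane : ∀ t ∈ B, ∀ u ∈ B, t ≠ u → aa t ≠ aa u := fun t ht u hu htu e => htu (by
      have e' := congrArg p (Subtype.ext e : sig p x₀ t * z = sig p x₀ u * z)
      rwa [X.map_mul_z, X.map_mul_z, (X.sig_spec hx (hB.sub ht)).2, (X.sig_spec hx (hB.sub hu)).2] at e')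
    obtain ⟨t, ht, hts, -⟩ := X.exists_third hB s₀ s₀
    obtain ⟨u, hu, hus, hut⟩ := X.exists_third hB s₀ t
    obtain ⟨x', m, hx'⟩ := exists_model X.grp X.prim X.m22 hB hs₀
    obtain ⟨w, hwB, hws, hwt, hwu⟩ : ∃ w ∈ B, w ≠ s₀ ∧ w ≠ t ∧ w ≠ u := by
      by_contra hno
      push Not at hno
      have hsub : B ⊆ {s₀, t, u} := fun w hw => by
        by_cases h1 : w = s₀
        · exact Or.inl h1
        by_cases h2 : w = t
        · exact Or.inr (Or.inl h2)
        · exact Or.inr (Or.inr (hno w hw h1 h2))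
      have h22 : B.ncard = 22 := by rw [← m.range_eq, Set.ncard_range_of_injective m.inj, Nat.card_fin]
      have h3' : ({s₀, t, u} : Set Q).ncard ≤ 3 := by
        refine (Set.ncard_insert_le _ _).trans ?_
        have := Set.ncard_insert_le t ({u} : Set Q)
        rw [Set.ncard_singleton] at this
        omega
      have := Set.ncard_le_ncard hsub (Set.toFinite _)
      omega
    have hfirst : ∀ t ∈ B, ∀ u ∈ B, t ≠ s₀ → u ≠ s₀ → t ≠ u →
        R1 p x₀ B xG (aa t) → R1 p x₀ B xG (aa u) → False :=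
      fun t ht u hu hts hus htu h h' => hkill t ht u hu hts hus htu _ _ h h' (haane t ht u hu htu) rfl
    have hsecond : ∀ t ∈ B, ∀ u ∈ B, t ≠ s₀ → u ≠ s₀ → t ≠ u →
        R1 p x₀ B xG (aa t * xG) → R1 p x₀ B xG (aa u * xG) → False :=
      fun t ht u hu hts hus htu h h' => hkill t ht u hu hts hus htu _ _ h h'
        (fun e => haane t ht u hu htu (mul_right_cancel e)) (by
          have hc : Commute xG (aa u) :=
            fused_comm X hzd hx hB hxG (hall ⟨_, ⟨u, hu, rfl⟩, (X.map_mul_z _).symm⟩)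
          rw [show aa t * xG * (aa u * xG) * xG = aa t * (xG * aa u) * (xG * xG) by group,
            fused_sq X hzd hx hB hxG, mul_one, hc.eq, ← mul_assoc])
    rcases haa t ht hts with e1 | e1 <;> rcases haa u hu hus with e2 | e2 <;>
      rcases haa w hwB hws with e3 | e3
    exacts [hfirst t ht u hu hts hus hut.symm e1 e2, hfirst t ht u hu hts hus hut.symm e1 e2,
      hfirst t ht w hwB hts hws hwt.symm e1 e3, hsecond u hu w hwB hus hws hwu.symm e2 e3,
      hfirst u hu w hwB hus hws hwu.symm e2 e3, hsecond t ht w hwB hts hws hwt.symm e1 e3,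
      hsecond t ht u hu hts hus hut.symm e1 e2, hsecond t ht u hu hts hus hut.symm e1 e2]

end Cfsg.Agent.ThreeTransM22Exclude72
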