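import Mathlib

/-!
# Counting in rank three commutation graphs

A double count, a divisibility of orbit lengths, and a congruence for the parameters of a strongly
regular graph from traces of powers of the adjacency matrix over prime fields.
-/

set_option autoImplicit false
set_option linter.unusedSectionVars false

namespace Cfsg.Agent.RankThreeCount34

open Matrix Finset

/-- Coefficients of the powers of the adjacency matrix on `A`, `1`, `J`: the entry `n` is for `A ^ (n+1)`. -/
def coef (p k l mu : ℕ) : ℕ → ZMod p × ZMod p × ZMod p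
  | 0 => (1, 0, 0)
  | n + 1 =>
    let c := coef p k l mu n
    (c.1 * ((l : ZMod p) - mu) + c.2.1, c.1 * ((k : ZMod p) - mu), c.1 * mu + c.2.2 * k)

/-- The trace congruence. -/
theorem srg_trace {V : Type*} [Fintype V] [DecidableEq V] (R : V → V → Prop) [DecidableRel R]
    (hirr : ∀ x, ¬ R x x) (hsymm : ∀ x y, R x y → R y x) (k l mu : ℕ)
    (hk : ∀ x, #{y | R x y} = k) (hl : ∀ x y, R x y → #{z | R x z ∧ R z y} = l)
    (hmu : ∀ x y, x ≠ y → ¬ R x y → #{z | R x z ∧ R z y} = mu) (p : ℕ) [Fact p.Prime] :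
    (Fintype.card V : ZMod p) * ((coef p k l mu (p - 1)).2.1 + (coef p k l mu (p - 1)).2.2) = 0 := by
  set A : Matrix V V (ZMod p) := Matrix.of fun x y => if R x y then 1 else 0 with hA
  set J : Matrix V V (ZMod p) := Matrix.of fun _ _ => 1 with hJ
  have hAA : A * A = ((l : ZMod p) - mu) • A + ((k : ZMod p) - mu) • (1 : Matrix V V (ZMod p))
      + (mu : ZMod p) • J := by
    ext x y
    have e : (A * A) x y = ((#{z | R x z ∧ R z y} : ℕ) : ZMod p) := by
      simp only [hA, Matrix.mul_apply, Matrix.of_apply]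
      rw [Finset.natCast_card_filter]
      refine Finset.sum_congr rfl fun z _ => ?_
      split_ifs <;> simp_all
    rw [e]
    simp only [hA, hJ, Matrix.add_apply, Matrix.smul_apply, Matrix.of_apply, Matrix.one_apply,
      smul_eq_mul]
    by_cases hxy : x = y
    · subst hxy
      rw [show (#{z | R x z ∧ R z x} : ℕ) = k from by
        rw [← hk x]; exact congrArg Finset.card (Finset.filter_congr fun z _ =>
          ⟨fun h => h.1, fun h => ⟨h, hsymm _ _ h⟩⟩)]
      simp [hirr x]
    · by_cases hr : R x y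
      · rw [hl x y hr]; simp [hxy, hr]
      · rw [hmu x y hxy hr]; simp [hxy, hr]
  have hJA : J * A = (k : ZMod p) • J := by
    ext x y
    simp only [hA, hJ, Matrix.mul_apply, Matrix.of_apply, Matrix.smul_apply, smul_eq_mul, one_mul,
      mul_one]
    rw [← hk y, Finset.natCast_card_filter]
    refine Finset.sum_congr rfl fun z _ => ?_
    by_cases h : R z y
    · simp [h, hsymm _ _ h]
    · have h' : ¬ R y z := fun h' => h (hsymm _ _ h')
      simp [h, h']
  have hpow : ∀ n, A ^ (n + 1) = (coef p k l mu n).1 • A +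
      (coef p k l mu n).2.1 • (1 : Matrix V V (ZMod p)) + (coef p k l mu n).2.2 • J := by
    intro n
    induction n with
    | zero => simp [coef]
    | succ n ih =>
      rw [pow_succ, ih]
      simp only [add_mul, smul_mul, one_mul, hAA, hJA, coef]
      module
  have hp : p - 1 + 1 = p := Nat.succ_pred_eq_of_pos (Fact.out : p.Prime).pos
  have htA : Matrix.trace A = 0 := Finset.sum_eq_zero fun x _ => by simp [hA, hirr x]
  have h := ZMod.trace_pow_card A
  have h2 : A ^ p = (coef p k l mu (p - 1)).1 • A +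
      (coef p k l mu (p - 1)).2.1 • (1 : Matrix V V (ZMod p)) + (coef p k l mu (p - 1)).2.2 • J :=
    (congrArg (A ^ ·) hp.symm).trans (hpow _)
  rw [h2, htA, zero_pow (Fact.out : p.Prime).ne_zero] at h
  have htJ : Matrix.trace J = (Fintype.card V : ZMod p) := by
    simp [hJ, Matrix.trace]
  rw [Matrix.trace_add, Matrix.trace_add, Matrix.trace_smul, Matrix.trace_smul, Matrix.trace_smul,
    htA, Matrix.trace_one, htJ, smul_zero, zero_add, smul_eq_mul, smul_eq_mul] at h
  rw [← h]; ring

variable {G : Type*} [Group G]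

/-- The members other than `a` commuting with `a`. -/
abbrev nb (D : Set G) (a : G) : Set G := {y | y ∈ D ∧ y ≠ a ∧ Commute a y}

/-- The trace congruence for the commutation graph of a set. -/
theorem commute_trace [Finite G] (D : Set G) (k l mu : ℕ)
    (hk : ∀ a ∈ D, (nb D a).ncard = k)
    (hl : ∀ a ∈ D, ∀ b ∈ nb D a, (nb D a ∩ nb D b).ncard = l)
    (hmu : ∀ a ∈ D, ∀ c ∈ D, ¬ Commute a c → (nb D a ∩ nb D c).ncard = mu) (p : ℕ)
    [Fact p.Prime] :
    (D.ncard : ZMod p) * ((coef p k l mu (p - 1)).2.1 + (coef p k l mu (p - 1)).2.2) = 0 := by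
  classical
  haveI := Fintype.ofFinite ↥D
  have hcard : ∀ (P : ↥D → Prop) [DecidablePred P] (S : Set G), (∀ y, y ∈ S → y ∈ D) →
      (∀ y : ↥D, P y ↔ (y : G) ∈ S) → #{y | P y} = S.ncard := by
    intro P _ S hS hP
    rw [← Set.ncard_coe_finset, ← Set.ncard_image_of_injective _ Subtype.val_injective]
    congr 1
    ext y
    simp only [Finset.coe_filter, Finset.mem_univ, true_and, Set.mem_image, Set.mem_setOf_eq]
    exact ⟨fun ⟨z, hz, e⟩ => e ▸ (hP z).mp hz, fun hy => ⟨⟨y, hS y hy⟩, (hP _).mpr hy, rfl⟩⟩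
  have h := srg_trace (V := ↥D) (fun x y => (y : G) ∈ nb D x)
    (fun x h => h.2.1 rfl) (fun x y h => ⟨x.2, Ne.symm h.2.1, h.2.2.symm⟩) k l mu
    (fun x => (hcard _ (nb D x) (fun y hy => hy.1) fun y => Iff.rfl).trans (hk x x.2))
    (fun x y hxy => (hcard _ (nb D x ∩ nb D y) (fun z hz => hz.1.1) fun z =>
      ⟨fun h => ⟨h.1, z.2, Ne.symm h.2.2.1, h.2.2.2.symm⟩,
        fun h => ⟨h.1, y.2, Ne.symm h.2.2.1, h.2.2.2.symm⟩⟩).trans (hl x x.2 y hxy))
    (fun x y hne hxy => (hcard _ (nb D x ∩ nb D y) (fun z hz => hz.1.1) fun z =>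
      ⟨fun h => ⟨h.1, z.2, Ne.symm h.2.2.1, h.2.2.2.symm⟩,
        fun h => ⟨h.1, y.2, Ne.symm h.2.2.1, h.2.2.2.symm⟩⟩).trans (hmu x x.2 y y.2 fun e =>
        hxy ⟨y.2, fun e' => hne (Subtype.ext e').symm, e⟩)) p
  rwa [← Nat.card_eq_fintype_card, Nat.card_coe_set_eq] at h

/-- The members not commuting with `a`. -/
abbrev far (D : Set G) (a : G) : Set G := {y | y ∈ D ∧ ¬ Commute a y}

/-- The three parts of `D`. -/
theorem ncard_eq [Finite G] {D : Set G} {a : G} (ha : a ∈ D) :
    D.ncard = 1 + (nb D a).ncard + (far D a).ncard := by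
  have e : D = insert a (nb D a ∪ far D a) := by
    ext y
    refine ⟨fun hy => (em (y = a)).imp id fun h =>
      (em (Commute a y)).imp (fun h' => ⟨hy, h, h'⟩) fun h' => ⟨hy, h'⟩, ?_⟩
    rintro (rfl | h | h)
    · exact ha
    · exact h.1
    · exact h.1
  conv_lhs => rw [e]
  rw [Set.ncard_insert_of_notMem (by simp),
    Set.ncard_union_eq (Set.disjoint_left.mpr fun y h1 h2 => h2.2 h1.2.2)]
  omega

/-- Counting the commuting pairs between `nb D a` and `far D a`. -/
theorem count [Finite G] {D : Set G} {a : G} (ha : a ∈ D) {k l mu : ℕ}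
    (hk : ∀ b ∈ D, (nb D b).ncard = k) (hl : ∀ b ∈ nb D a, (nb D a ∩ nb D b).ncard = l)
    (hmu : ∀ c ∈ far D a, (nb D a ∩ nb D c).ncard = mu) :
    (far D a).ncard * mu = k * (k - 1 - l) := by
  classical
  haveI := Fintype.ofFinite G
  have h := Finset.card_mul_eq_card_mul (fun c b : G => Commute c b) (s := (far D a).toFinset)
    (t := (nb D a).toFinset) (m := mu) (n := k - 1 - l) (fun c hc => ?_) fun b hb => ?_
  · rwa [← Set.ncard_eq_toFinset_card', ← Set.ncard_eq_toFinset_card', hk a ha] at h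
  · rw [Set.mem_toFinset] at hc
    rw [← hmu c hc, ← Set.ncard_coe_finset]
    congr 1
    ext y
    simp only [Finset.coe_bipartiteAbove, Set.mem_setOf_eq, Set.mem_toFinset, Set.mem_inter_iff]
    exact ⟨fun ⟨h1, h2⟩ => ⟨h1, h1.1, fun e => hc.2 (e ▸ h1.2.2), h2⟩, fun ⟨h1, _, _, h2⟩ => ⟨h1, h2⟩⟩
  · rw [Set.mem_toFinset] at hb
    rw [← Set.ncard_coe_finset]
    have hsplit : nb D b = insert a ((nb D a ∩ nb D b) ∪ {c | c ∈ far D a ∧ Commute c b}) := by
      ext c
      refine ⟨fun hc => (em (c = a)).imp id fun h => (em (Commute a c)).imp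
        (fun h' => ⟨⟨hc.1, h, h'⟩, hc⟩) fun h' => ⟨⟨hc.1, h'⟩, hc.2.2.symm⟩, ?_⟩
      rintro (rfl | h | ⟨h, h'⟩)
      · exact ⟨ha, Ne.symm hb.2.1, hb.2.2.symm⟩
      · exact h.2
      · exact ⟨h.1, fun e => h.2 (e ▸ hb.2.2), h'.symm⟩
    have hc := hk b hb.1
    rw [hsplit, Set.ncard_insert_of_notMem (by simp),
      Set.ncard_union_eq (Set.disjoint_left.mpr fun y h1 h2 => h2.1.2 h1.1.2.2), hl b hb] at hc
    rw [← hc]
    simp only [Finset.coe_bipartiteBelow, Set.mem_toFinset]
    omega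

/-- Orbit length times the order of a group of stabilising elements divides the order of the group. -/
theorem orbit_dvd [Finite G] {D : Set G} {a c : G} {C L : Subgroup G} (hc : c ∈ far D a)
    (hC : ∀ g ∈ C, ∀ y ∈ far D a, g * y * g⁻¹ ∈ far D a)
    (htr : ∀ y ∈ far D a, ∃ g ∈ C, g * c * g⁻¹ = y) (hL : L ≤ C)
    (hfix : ∀ g ∈ L, g * c * g⁻¹ = c) :
    (far D a).ncard * Nat.card ↥L ∣ Nat.card ↥C := by
  set S : Subgroup G := C ⊓ Subgroup.centralizer ({c} : Set G) with hS
  have hLS : L ≤ S := fun g hg => ⟨hL hg, Subgroup.mem_centralizer_singleton_iff.mpr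
    (mul_inv_eq_iff_eq_mul.mp (hfix g hg))⟩
  have horb : (far D a).ncard = (S.subgroupOf C).index := by
    rw [Subgroup.index, ← Nat.card_coe_set_eq]
    refine (Nat.card_congr (Equiv.ofBijective
      (fun q : ↥C ⧸ S.subgroupOf C => (⟨Quotient.liftOn' q (fun g : ↥C => (g : G) * c * (g : G)⁻¹)
        ?_, ?_⟩ : ↥(far D a))) ⟨?_, ?_⟩)).symm
    · intro g h hgh
      rw [QuotientGroup.leftRel_apply, Subgroup.mem_subgroupOf] at hgh
      have := Subgroup.mem_centralizer_singleton_iff.mp hgh.2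
      simp only [Subgroup.coe_mul, Subgroup.coe_inv] at this
      show (g : G) * c * (g : G)⁻¹ = (h : G) * c * (h : G)⁻¹
      calc (g : G) * c * (g : G)⁻¹ = g * (c * ((g : G)⁻¹ * h)) * (h : G)⁻¹ := by group
        _ = g * (((g : G)⁻¹ * h) * c) * (h : G)⁻¹ := by rw [this]
        _ = _ := by group
    · induction q using Quotient.inductionOn' with
      | h g => exact hC g g.2 c hc
    · intro q r
      induction q using Quotient.inductionOn' with
      | h g =>
        induction r using Quotient.inductionOn' with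
        | h h =>
          intro e
          refine Quotient.sound' ?_
          rw [QuotientGroup.leftRel_apply, Subgroup.mem_subgroupOf]
          refine ⟨(g⁻¹ * h).2, Subgroup.mem_centralizer_singleton_iff.mpr ?_⟩
          have e' : (g : G) * c * (g : G)⁻¹ = (h : G) * c * (h : G)⁻¹ := congrArg Subtype.val e
          simp only [Subgroup.coe_mul, Subgroup.coe_inv]
          calc (g : G)⁻¹ * h * c = (g : G)⁻¹ * ((h : G) * c * (h : G)⁻¹) * h := by group
            _ = c * ((g : G)⁻¹ * h) := by rw [← e']; group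
    · rintro ⟨y, hy⟩
      obtain ⟨g, hg, e⟩ := htr y hy
      exact ⟨QuotientGroup.mk ⟨g, hg⟩, Subtype.ext e⟩
  have h1 := (S.subgroupOf C).card_mul_index
  rw [Nat.card_congr (Subgroup.subgroupOfEquivOfLe (inf_le_left : S ≤ C)).toEquiv] at h1
  rw [← h1, ← horb, mul_comm]
  exact mul_dvd_mul_right (Subgroup.card_dvd_of_le hLS) _

end Cfsg.Agent.RankThreeCount34
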