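import Cfsg.Agent.Lib.ThreeTransReflection

/-!
# Seven divides the order of the reflection group of minus type in dimension six

A non-degenerate quadratic form in dimension six over `ZMod 3` of discriminant one has an orthogonal
basis of vectors of any given non-zero norm; six reflections in that coordinate system have a product
of order seven which is not central.
-/

set_option autoImplicit false
set_option linter.unusedSectionVars false
set_option linter.style.haveILetI false

namespace Cfsg.Agent.ReflectionSeven72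

open QuadraticMap Cfsg.Agent.OrthUnitaryQuad Cfsg.Agent.OrthUnitaryRefl Cfsg.Agent.OrthUnitaryPrelude
open scoped Matrix

local notation "V" => Fin 6 → ZMod 3

/-- The reflection in the vector `w` of an orthonormal coordinate space. -/
def step (w x : V) : V := x + (∑ i, w i * x i) • w

/-- The centres of six reflections. -/
def centres : List V :=
  [![0,1,1,1,0,2], ![0,1,2,1,1,0], ![0,1,1,1,0,1], ![0,1,1,2,1,0], ![1,0,0,1,1,1], ![0,0,1,2,2,1]]

/-- Their product. -/
def word (x : V) : V := centres.foldr step x

/-- The first coordinate vector. -/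
def first : V := ![1,0,0,0,0,0]

theorem centres_norm : ∀ w ∈ centres, ∑ i, w i * w i = 1 := by decide +kernel

theorem word_seven : ∀ i : Fin 6, word^[7] (Pi.single i 1) = Pi.single i 1 := by decide +kernel

theorem word_first : ∃ i : Fin 6,
    word (step first (Pi.single i 1)) ≠ step first (word (Pi.single i 1)) := by decide +kernel

variable {Q : QuadraticForm (ZMod 3) V} {c : ZMod 3}

/-- Vectors with the polar form of an orthogonal basis of norm `c`. -/
def IsFrameOf (Q : QuadraticForm (ZMod 3) V) (c : ZMod 3) (u : Fin 6 → V) : Prop :=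
  (∀ i j, i ≠ j → polar Q (u i) (u j) = 0) ∧ ∀ i, Q (u i) = c

theorem exists_frame (hQ : (polarBilin Q).Nondegenerate) (hdet : Cfsg.polarGramDet (⇑Q) = 1)
    (hc : c ≠ 0) : ∃ u, IsFrameOf Q c u := by
  classical
  haveI : Invertible (2 : ZMod 3) := invertibleOfNonzero (by decide)
  set B : LinearMap.BilinForm (ZMod 3) V := polarBilin Q with hB
  have hBs : LinearMap.IsSymm B := ⟨fun x y => by simp [hB, QuadraticMap.polar_comm (⇑Q) x y]⟩
  obtain ⟨v₀, hv₀⟩ := LinearMap.BilinForm.exists_orthogonal_basis (B := B) hBs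
  set v : Module.Basis (Fin 6) (ZMod 3) V :=
    v₀.reindex (finCongr (Module.finrank_fin_fun (ZMod 3))) with hv
  have hort : ∀ i j, i ≠ j → polar Q (v i) (v j) = 0 := fun i j hij => by
    rw [hv, Module.Basis.reindex_apply, Module.Basis.reindex_apply]
    exact hv₀ (fun e => hij ((finCongr _).symm.injective e))
  have hdiag : LinearMap.BilinForm.toMatrix v B = Matrix.diagonal fun i => 2 * Q (v i) := by
    ext i j
    rw [LinearMap.BilinForm.toMatrix_apply]
    by_cases h : i = j
    · subst h; simp [hB, polar_self_mul]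
    · simp [hB, Matrix.diagonal_apply_ne _ h, hort i j h]
  have hprod : ∃ D : ZMod 3, D ≠ 0 ∧ ∏ i, (2 * Q (v i)) = D * D := by
    refine ⟨((Pi.basisFun (ZMod 3) (Fin 6)).toMatrix v).det, ?_, ?_⟩
    · have := (Pi.basisFun (ZMod 3) (Fin 6)).invertibleToMatrix v
      exact (Matrix.isUnit_det_of_invertible _).ne_zero
    · rw [← Matrix.det_diagonal, ← hdiag,
        ← LinearMap.BilinForm.toMatrix_mul_basis_toMatrix (b := Pi.basisFun (ZMod 3) (Fin 6)) v B,
        Matrix.det_mul, Matrix.det_mul, Matrix.det_transpose]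
      have : (LinearMap.BilinForm.toMatrix (Pi.basisFun (ZMod 3) (Fin 6)) B).det = 1 := by
        rw [← hdet, Cfsg.polarGramDet]
        congr 1
      rw [this, mul_one]
  obtain ⟨D, hD, hprod⟩ := hprod
  have hone : ∏ i, Q (v i) = 1 := by
    rw [Finset.prod_mul_distrib, Finset.prod_const, Finset.card_univ, Fintype.card_fin,
      show (2 : ZMod 3) ^ 6 = 1 from by decide, one_mul,
      (show ∀ x : ZMod 3, x ≠ 0 → x * x = 1 by decide) D hD] at hprod
    exact hprod
  suffices key : ∀ n (u : Fin 6 → V), (∀ i j, i ≠ j → polar Q (u i) (u j) = 0) → ∏ i, Q (u i) = 1 →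
      (Finset.univ.filter fun i => Q (u i) ≠ c).card = n → ∃ u', IsFrameOf Q c u' by
    exact key _ v hort hone rfl
  intro n
  induction n using Nat.strong_induction_on with
  | _ n ih =>
    intro u hu hp hn
    by_cases hall : ∀ i, Q (u i) = c
    · exact ⟨u, hu, hall⟩
    push Not at hall
    obtain ⟨i, hi⟩ := hall
    have hne : ∀ k, Q (u k) ≠ 0 := fun k h0 =>
      zero_ne_one ((Finset.prod_eq_zero (f := fun k => Q (u k)) (Finset.mem_univ k) h0).symm.trans hp)
    have hneg : ∀ k, Q (u k) ≠ c → Q (u k) = -c := fun k hk =>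
      (show ∀ x y : ZMod 3, x ≠ 0 → y ≠ 0 → x ≠ y → x = -y by decide) _ _ (hne k) hc hk
    obtain ⟨j, hji, hj⟩ : ∃ j, j ≠ i ∧ Q (u j) ≠ c := by
      by_contra hno
      push Not at hno
      rw [← Finset.mul_prod_erase _ _ (Finset.mem_univ i), hneg i hi,
        Finset.prod_congr rfl (fun k hk => hno k (Finset.ne_of_mem_erase hk)), Finset.prod_const,
        Finset.card_erase_of_mem (Finset.mem_univ i), Finset.card_univ, Fintype.card_fin] at hp
      exact (show ∀ y : ZMod 3, -y * y ^ 5 ≠ 1 by decide) c hp
    set u' : Fin 6 → V := fun k => if k = i then u i + u j else if k = j then u i - u j else u k with hu'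
    have hu'i : u' i = u i + u j := if_pos rfl
    have hu'j : u' j = u i - u j := by simp [hu', hji]
    have hu'k : ∀ k, k ≠ i → k ≠ j → u' k = u k := fun k h1 h2 => by simp [hu', h1, h2]
    have hij0 := hu i j hji.symm
    have hm2 : -c + -c = c := (show ∀ y : ZMod 3, -y + -y = y by decide) c
    have hQi : Q (u' i) = c := by
      rw [hu'i, QuadraticMap.map_add Q, hij0, add_zero, hneg i hi, hneg j hj, hm2]
    have hQj : Q (u' j) = c := by
      rw [hu'j, sub_eq_add_neg, QuadraticMap.map_add Q, QuadraticMap.map_neg, polar_neg_right, hij0,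
        neg_zero, add_zero, hneg i hi, hneg j hj, hm2]
    have hother : ∀ k, k ≠ i → k ≠ j → polar Q (u' k) (u' i) = 0 ∧ polar Q (u' k) (u' j) = 0 := by
      intro k h1 h2
      rw [hu'k k h1 h2, hu'i, hu'j, polar_add_right, polar_sub_right, hu k i h1, hu k j h2]
      simp
    have hpair : polar Q (u' i) (u' j) = 0 := by
      rw [hu'i, hu'j, polar_add_left, polar_sub_right, polar_sub_right, hij0, hu j i hji,
        polar_self_mul, polar_self_mul, hneg i hi, hneg j hj]
      ring
    have hort' : ∀ a b, a ≠ b → polar Q (u' a) (u' b) = 0 := by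
      intro a b hab
      by_cases ha1 : a = i
      · subst ha1
        by_cases hb2 : b = j
        · subst hb2; exact hpair
        · rw [polar_comm]; exact (hother b (Ne.symm hab) hb2).1
      by_cases ha2 : a = j
      · subst ha2
        by_cases hb1 : b = i
        · subst hb1; rw [polar_comm]; exact hpair
        · rw [polar_comm]; exact (hother b hb1 (Ne.symm hab)).2
      by_cases hb1 : b = i
      · subst hb1; exact (hother a ha1 ha2).1
      by_cases hb2 : b = j
      · subst hb2; exact (hother a ha1 ha2).2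
      rw [hu'k a ha1 ha2, hu'k b hb1 hb2]; exact hu a b hab
    refine ih _ ?_ u' hort' ?_ rfl
    · rw [← hn]
      refine Finset.card_lt_card ⟨fun k hk => ?_, fun hsub => ?_⟩
      · simp only [Finset.mem_filter, Finset.mem_univ, true_and] at hk ⊢
        have h1 : k ≠ i := fun e => hk (e ▸ hQi)
        have h2 : k ≠ j := fun e => hk (e ▸ hQj)
        rwa [hu'k k h1 h2] at hk
      · exact (Finset.mem_filter.mp (hsub (Finset.mem_filter.mpr ⟨Finset.mem_univ i, hi⟩))).2 hQi
    · have hsplit : ∀ g : Fin 6 → ZMod 3, ∏ k, g k = g i * (g j * ∏ k ∈ (Finset.univ.erase i).erase j, g k) :=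
        fun g => by
          rw [Finset.mul_prod_erase _ g (Finset.mem_erase.mpr ⟨hji, Finset.mem_univ _⟩),
            Finset.mul_prod_erase _ g (Finset.mem_univ i)]
      rw [hsplit] at hp ⊢
      rw [hQi, hQj, Finset.prod_congr rfl (fun k hk => by
        rw [hu'k k (Finset.ne_of_mem_erase (Finset.mem_of_mem_erase hk)) (Finset.ne_of_mem_erase hk)])]
      rw [hneg i hi, hneg j hj] at hp
      rw [← hp]; ring

/-- Seven divides the order of the projective reflection group. -/
theorem seven_dvd {X : Type*} [Group X] [Finite X] (hc : c ≠ 0)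
    (hX : Cfsg.IsProjReflectionGroupModThree X 6 1 c) : 7 ∣ Nat.card X := by
  classical
  obtain ⟨Q, hQn, hdet, ⟨e⟩⟩ := hX
  obtain ⟨u, hu, hun⟩ := exists_frame hQn hdet hc
  let comb : V →ₗ[ZMod 3] V :=
    { toFun := fun x => ∑ k, x k • u k
      map_add' := fun x y => by simp [add_smul, Finset.sum_add_distrib]
      map_smul' := fun a x => by simp [Finset.smul_sum, smul_smul] }
  have hcomb : ∀ x, comb x = ∑ k, x k • u k := fun x => rfl
  have hpolar : ∀ w x : V, polar Q (comb w) (comb x) = 2 * c * ∑ i, w i * x i := by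
    intro w x
    rw [← polarBilin_apply_apply, hcomb, hcomb]
    simp only [map_sum, map_smul, LinearMap.sum_apply, LinearMap.smul_apply, polarBilin_apply_apply,
      smul_eq_mul]
    rw [Finset.mul_sum]
    refine Finset.sum_congr rfl fun j _ => ?_
    rw [Finset.sum_eq_single j (fun k _ hk => ?_) (fun h => absurd (Finset.mem_univ _) h)]
    · rw [polar_self_mul, hun]; ring
    · simp [hu j k (Ne.symm hk), hu k j hk]
  have hnorm : ∀ w : V, Q (comb w) = c * ∑ i, w i * w i := by
    intro w
    have h2 : (2 : ZMod 3) ≠ 0 := by decide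
    refine mul_left_cancel₀ h2 ?_
    rw [← polar_self_mul, hpolar, mul_assoc]
  have hinj : Function.Injective comb := by
    intro x y hxy
    funext k
    have h1 := hpolar (Pi.single k 1) x
    rw [hxy, hpolar] at h1
    simp [Pi.single_apply] at h1
    rcases h1 with h1 | h1
    · exact h1.symm
    · rcases h1 with h1 | h1
      · exact absurd h1 (by decide)
      · exact absurd h1 hc
  have hbij : Function.Bijective comb := Finite.injective_iff_bijective.mp hinj
  have hc' : ∀ w : V, ∑ i, w i * w i = 1 → Q (comb w) = c := fun w hw => by rw [hnorm, hw, mul_one]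
  set R := Cfsg.reflectionSubgroup (⇑Q) c with hR
  let ψ : R →* orth Q := (iso Q).toMonoidHom.comp R.subtype
  have hψinj : Function.Injective ψ := (iso Q).injective.comp Subtype.val_injective
  have hact : ∀ w : V, ∑ i, w i * w i = 1 → ∃ r : R, ∀ y, (ψ r).1 (comb y) = comb (step w y) := by
    intro w hw
    have hv := hc' w hw
    have hv0 : Q (comb w) ≠ 0 := hv ▸ hc
    set r := (iso Q).symm (refl Q (comb w) hv0) with hr
    have hrR : r ∈ Cfsg.reflectionsOfNorm (⇑Q) c :=
      ⟨comb w, hv, (mat_eq_reflectionMatrix_iff r hv0).mpr ((iso Q).apply_symm_apply _)⟩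
    refine ⟨⟨r, Subgroup.subset_closure hrR⟩, fun y => ?_⟩
    show ((iso Q) r).1 (comb y) = _
    have hscal : ∀ a t : ZMod 3, a ≠ 0 → -(a⁻¹ * (2 * a * t)) = t := by decide +kernel
    rw [hr, (iso Q).apply_symm_apply, refl_apply, hpolar, hv, step, map_add, map_smul,
      sub_eq_add_neg, ← neg_smul, hscal c _ hc]
  have hlist : ∀ ws : List V, (∀ w ∈ ws, ∑ i, w i * w i = 1) →
      ∃ g : R, ∀ y, (ψ g).1 (comb y) = comb (ws.foldr step y) := by
    intro ws
    induction ws with
    | nil => exact fun _ => ⟨1, fun y => by rw [map_one]; rfl⟩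
    | cons w ws ih =>
      intro h
      obtain ⟨r, hr⟩ := hact w (h w (by simp))
      obtain ⟨g, hg⟩ := ih fun x hx => h x (by simp [hx])
      exact ⟨r * g, fun y => by rw [map_mul, orth_mul_apply, hg, hr, List.foldr_cons]⟩
  obtain ⟨g, hg⟩ := hlist centres centres_norm
  obtain ⟨r₀, hr₀⟩ := hact first (by decide +kernel)
  have hiter : ∀ n y, (ψ (g ^ n)).1 (comb y) = comb (word^[n] y) := by
    intro n
    induction n with
    | zero => intro y; rw [pow_zero, map_one]; rfl
    | succ n ih =>
      intro y
      rw [pow_succ', map_mul, orth_mul_apply, ih, hg, Function.iterate_succ_apply']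
      rfl
  have hg7 : g ^ 7 = 1 := by
    apply hψinj
    rw [map_one]
    refine orth_ext fun x => ?_
    obtain ⟨y, rfl⟩ := hbij.2 x
    rw [← Finset.univ_sum_single y, map_sum, map_sum]
    show _ = ∑ i, comb (Pi.single i (y i))
    refine Finset.sum_congr rfl fun i _ => ?_
    rw [show Pi.single i (y i) = y i • (Pi.single i 1 : V) by simp [← Pi.single_smul],
      map_smul, map_smul, hiter, word_seven]
  have hgZ : g ∉ Subgroup.center R := by
    intro hz
    obtain ⟨i, hi⟩ := word_first
    apply hi
    apply hinj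
    have h1 := congrArg (fun k => (ψ k).1 (comb (Pi.single i 1))) (Subgroup.mem_center_iff.mp hz r₀)
    simp only [map_mul, orth_mul_apply, hr₀, hg] at h1
    exact h1.symm
  haveI : Fact (Nat.Prime 7) := ⟨by norm_num⟩
  have hord : orderOf (QuotientGroup.mk g : R ⧸ Subgroup.center R) = 7 :=
    orderOf_eq_prime (by rw [← QuotientGroup.mk_pow, hg7, QuotientGroup.mk_one])
      (fun h => hgZ ((QuotientGroup.eq_one_iff g).mp h))
  rw [Nat.card_congr e.toEquiv, ← hord]
  exact orderOf_dvd_natCard _

end Cfsg.Agent.ReflectionSeven72
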