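import Cfsg.Agent.Lib.ThreeTranspRegular

/-!
Fischer's theory of 3-transposition groups, third part: in a group without solvable normal
subgroups in the derived group the transpositions commuting with a given one form one class of
the subgroup they generate; if moreover the derived group is perfect the centralizer of a
transposition is transitive on the transpositions not commuting with it.
-/

set_option autoImplicit false

namespace Cfsg.Agent.ThreeTransp

variable {G : Type*} [Group G] {D : Set G}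

/-- Adjacency inside the set of transpositions commuting with `a`. -/
def Adj (D : Set G) (a u v : G) : Prop := u ∈ Dx D a ∧ v ∈ Dx D a ∧ ¬ Commute u v

/-- The component of `c`. -/
def Cmp (D : Set G) (a c : G) : Set G := {d | Relation.ReflTransGen (Adj D a) c d}

theorem self_mem_cmp (a c : G) : c ∈ Cmp D a c := Relation.ReflTransGen.refl

theorem cmp_subset {a c : G} (hc : c ∈ Dx D a) : Cmp D a c ⊆ Dx D a := by
  intro d hd
  cases hd with
  | refl => exact hc
  | tail _ h2 => exact h2.2.1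

theorem cmp_symm {a c d : G} (hd : d ∈ Cmp D a c) : c ∈ Cmp D a d := by
  induction hd with
  | refl => exact Relation.ReflTransGen.refl
  | tail _ h2 ih =>
    exact Relation.ReflTransGen.head ⟨h2.2.1, h2.1, fun e => h2.2.2 e.symm⟩ ih

theorem cmp_conj (h : TC D) (g a c : G) :
    Cmp D (g * a * g⁻¹) (g * c * g⁻¹) = (fun x => g * x * g⁻¹) '' Cmp D a c := by
  have key : ∀ g a c d : G, d ∈ Cmp D a c → g * d * g⁻¹ ∈ Cmp D (g * a * g⁻¹) (g * c * g⁻¹) := by
    intro g a c d hd
    induction hd with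
    | refl => exact Relation.ReflTransGen.refl
    | tail _ h2 ih =>
      refine Relation.ReflTransGen.tail ih ⟨?_, ?_, fun e => h2.2.2 (commute_conj_iff.mp e)⟩
      · rw [h.dx_conj]; exact ⟨_, h2.1, rfl⟩
      · rw [h.dx_conj]; exact ⟨_, h2.2.1, rfl⟩
  ext y
  constructor
  · intro hy
    refine ⟨g⁻¹ * y * g, ?_, by group⟩
    have := key g⁻¹ _ _ _ hy
    convert this using 1 <;> group
  · rintro ⟨d, hd, rfl⟩
    exact key g a c d hd

/-- A connected set inside another commuting set lies in one component there. -/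
theorem cmp_transfer {a c w : G} (hC : Cmp D a c ⊆ Dx D w) : Cmp D a c ⊆ Cmp D w c := by
  intro d hd
  induction hd with
  | refl => exact Relation.ReflTransGen.refl
  | tail h1 h2 ih =>
    exact Relation.ReflTransGen.tail ih ⟨hC h1, hC (Relation.ReflTransGen.tail h1 h2), h2.2.2⟩

/-- The components of largest size `m`. -/
def Big (D : Set G) (m : ℕ) : Set (Set G) :=
  {C | ∃ a c, a ∈ D ∧ c ∈ Dx D a ∧ C = Cmp D a c ∧ C.ncard = m}

/-- The big components inside the commuting set of `y`. -/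
def Mset (D : Set G) (m : ℕ) (y : G) : Set (Set G) := {C | C ∈ Big D m ∧ C ⊆ Dx D y}

section

variable [Finite G] (h : TC D) {m : ℕ}
  (hm : ∀ a c : G, a ∈ D → c ∈ Dx D a → (Cmp D a c).ncard ≤ m)

theorem big_subset_D {C : Set G} (hC : C ∈ Big D m) : C ⊆ D := by
  obtain ⟨a, c, -, hc, rfl, -⟩ := hC
  exact fun d hd => (cmp_subset hc hd).1

include hm in
/-- Maximality: a big component is a component wherever it fits. -/
theorem big_commute {C : Set G} (hC : C ∈ Big D m) {w : G} (hw : w ∈ D) (hsub : C ⊆ Dx D w)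
    {d : G} (hd : d ∈ Dx D w) (hdC : d ∉ C) {c : G} (hc : c ∈ C) : Commute c d := by
  by_contra hn
  obtain ⟨a, c0, -, hc0, rfl, hcard⟩ := hC
  have h1 := cmp_transfer hsub
  have h2 : d ∈ Cmp D w c0 := Relation.ReflTransGen.tail (h1 hc) ⟨hsub hc, hd, hn⟩
  have h3 : insert d (Cmp D a c0) ⊆ Cmp D w c0 := Set.insert_subset h2 h1
  have h4 := Set.ncard_le_ncard h3 (Set.toFinite _)
  rw [Set.ncard_insert_of_notMem hdC (Set.toFinite _), hcard] at h4
  have := hm w c0 hw (hsub (self_mem_cmp a c0))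
  omega

include hm in
theorem big_sub_dx {C : Set G} (hC : C ∈ Big D m) {w : G} (hw : w ∈ D) (hsub : C ⊆ Dx D w)
    {d : G} (hd : d ∈ Dx D w) (hdC : d ∉ C) : C ⊆ Dx D d := fun c hc =>
  ⟨big_subset_D hC hc, fun e => hdC (e ▸ hc), (big_commute hm hC hw hsub hd hdC hc).symm⟩

include hm in
theorem big_eq_of_meet {C C' : Set G} (hC : C ∈ Big D m) (hC' : C' ∈ Big D m) {w : G}
    (hw : w ∈ D) (h1 : C ⊆ Dx D w) (h2 : C' ⊆ Dx D w) {x : G} (hx : x ∈ C) (hx' : x ∈ C') :
    C = C' := by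
  have key : ∀ (A B : Set G), A ∈ Big D m → B ∈ Big D m → A ⊆ Dx D w → B ⊆ Dx D w →
      x ∈ A → x ∈ B → B ⊆ A := by
    intro A B hA hB hAw hBw hxA hxB
    obtain ⟨a', c', -, -, rfl, -⟩ := id hB
    have : ∀ y, y ∈ Cmp D a' c' → (y ∈ A ↔ c' ∈ A) := by
      intro y hy
      induction hy with
      | refl => exact Iff.rfl
      | tail p1 p2 ih =>
        refine ⟨fun e => ih.mp ?_, fun e => ?_⟩
        · by_contra hn
          exact p2.2.2 (big_commute hm hA hw hAw (hBw p1) hn e).symm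
        · by_contra hn
          exact p2.2.2
            (big_commute hm hA hw hAw (hBw (Relation.ReflTransGen.tail p1 p2)) hn (ih.mpr e))
    intro y hy
    exact (this y hy).mpr ((this x hxB).mp hxA)
  exact Set.Subset.antisymm (key C' C hC' hC h2 h1 hx' hx) (key C C' hC hC' h1 h2 hx hx')

include h in
theorem mset_conj (g y : G) :
    Mset D m (g * y * g⁻¹) = (fun C => (fun x => g * x * g⁻¹) '' C) '' Mset D m y := by
  have key : ∀ g y : G, ∀ C ∈ Mset D m y,
      (fun x => g * x * g⁻¹) '' C ∈ Mset D m (g * y * g⁻¹) := by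
    rintro g y _ ⟨⟨a, c, ha, hc, rfl, hcard⟩, hsub⟩
    refine ⟨⟨g * a * g⁻¹, g * c * g⁻¹, h.conj g a ha, ?_, (cmp_conj h g a c).symm, ?_⟩, ?_⟩
    · rw [h.dx_conj]; exact ⟨c, hc, rfl⟩
    · rw [Set.ncard_image_of_injective _ fun _ _ e => conj_inj e, hcard]
    · rw [h.dx_conj]; exact Set.image_mono hsub
  ext C
  constructor
  · intro hC
    have := key g⁻¹ _ C hC
    rw [show g⁻¹ * (g * y * g⁻¹) * g⁻¹⁻¹ = y by group] at this
    refine ⟨_, this, ?_⟩
    show (fun x => g * x * g⁻¹) '' ((fun x => g⁻¹ * x * g⁻¹⁻¹) '' C) = C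
    rw [Set.image_image]
    simp [mul_assoc]
  · rintro ⟨C', hC', rfl⟩
    exact key g y C' hC'

include h in
theorem mset_card {a b : G} (ha : a ∈ D) (hb : b ∈ D) :
    (Mset D m a).ncard = (Mset D m b).ncard := by
  obtain ⟨g, rfl⟩ := h.trans a ha b hb
  rw [mset_conj h]
  exact (Set.ncard_image_of_injective _
    (Set.image_injective.mpr fun _ _ e => conj_inj e)).symm

include h hm in
theorem mset_rel : Rel D (fun u v => Mset D m u = Mset D m v) := by
  refine ⟨fun _ _ => rfl, fun _ _ _ _ e => e.symm, fun _ _ _ _ _ _ e e' => e.trans e',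
    fun g u _ v _ e => by simp only [mset_conj h, e], fun u hu v hv d hd e hc hn => ?_⟩
  have hdu : d ∈ Dx D u := ⟨hd, fun e' => hn (e' ▸ rfl), hc.symm⟩
  by_cases hex : ∃ C ∈ Mset D m u, d ∈ C
  · obtain ⟨C, hC, hdC⟩ := hex
    rw [e] at hC
    exact (hC.2 hdC).2.2.symm
  · push Not at hex
    refine absurd ?_ hn
    refine (Set.eq_of_subset_of_ncard_le ?_ (mset_card h hd hu).le (Set.toFinite _)).symm
    exact fun C hC => ⟨hC.1, big_sub_dx hm hC.1 hu hC.2 hdu (hex C hC)⟩

include h in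
/-- Transitivity transports connectedness. -/
theorem conn_transport {a b : G} (ha : a ∈ D) (hb : b ∈ D) {c : G} (hc : c ∈ Dx D a)
    (he : Cmp D a c = Dx D a) :
    ∀ y ∈ Dx D b, ∀ y' ∈ Dx D b, y' ∈ Cmp D b y := by
  obtain ⟨g, rfl⟩ := h.trans a ha b hb
  intro y hy y' hy'
  rw [h.dx_conj] at hy hy'
  obtain ⟨z, hz, rfl⟩ := hy
  obtain ⟨z', hz', rfl⟩ := hy'
  rw [cmp_conj h]
  refine ⟨z', ?_, rfl⟩
  rw [← he] at hz hz'
  exact Relation.ReflTransGen.trans (cmp_symm hz) hz'

end

/-- Fischer: the transpositions commuting with `x` are connected by non-commuting pairs. -/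
theorem dx_connected [Finite G] (h : TC D)
    (hsol : ∀ N : Subgroup G, N.Normal → Group.IsSolvable ↥N → N ≤ commutator G → N = ⊥)
    {x : G} (hx : x ∈ D) : ∀ y ∈ Dx D x, ∀ y' ∈ Dx D x, y' ∈ Cmp D x y := by
  intro y0 hy0 y0' hy0'
  by_contra hdis
  by_cases htiny : ∀ a ∈ D, ∀ u ∈ Dx D a, ∀ v ∈ Dx D a, Commute u v
  · -- commuting is an equivalence relation
    have hr : Rel D (fun u v => Commute u v) := by
      refine ⟨fun a _ => Commute.refl a, fun _ _ _ _ e => e.symm,
        fun a ha b hb c hc e e' => ?_, fun g a _ b _ e => commute_conj_iff.mpr e,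
        fun a _ b _ d _ _ hc hn => absurd hc hn⟩
      by_cases e1 : a = b
      · exact e1 ▸ e'
      by_cases e2 : c = b
      · exact e2 ▸ e
      exact htiny b hb a ⟨ha, e1, e.symm⟩ c ⟨hc, e2, e'⟩
    have := Rel.eq_of_solvable h hr hsol (fun a ha => ?_) hx hy0.1 hy0.2.2
    · exact hy0.2.1 this.symm
    · haveI : IsMulCommutative ↥(evn D (fun u v => Commute u v) a) := by
        refine Subgroup.isMulCommutative_closure fun y hy z hz => ?_
        obtain ⟨u, hu, v, hv, rfl⟩ := hy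
        obtain ⟨u', hu', v', hv', rfl⟩ := hz
        have hc : ∀ p ∈ cls D (fun u v => Commute u v) a, ∀ q ∈ cls D (fun u v => Commute u v) a,
            Commute p q := fun p hp q hq => hr.trans p hp.1 a ha q hq.1 hp.2.symm hq.2
        exact (((hc u hu u' hu').mul_right (hc u hu v' hv')).mul_left
          ((hc v hv u' hu').mul_right (hc v hv v' hv'))).eq
      open scoped IsMulCommutative in infer_instance
  push Not at htiny
  obtain ⟨a1, ha1, u1, hu1, v1, hv1, hn1⟩ := htiny
  classical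
  have hfinne : Nonempty {q : G × G // q.1 ∈ D ∧ q.2 ∈ Dx D q.1} := ⟨⟨(a1, u1), ha1, hu1⟩⟩
  obtain ⟨⟨⟨a, c⟩, ha, hc⟩, hmax⟩ :=
    Finite.exists_max fun q : {q : G × G // q.1 ∈ D ∧ q.2 ∈ Dx D q.1} =>
      (Cmp D q.1.1 q.1.2).ncard
  set m := (Cmp D a c).ncard with hmdef
  have hm : ∀ p q : G, p ∈ D → q ∈ Dx D p → (Cmp D p q).ncard ≤ m := fun p q hp hq =>
    hmax ⟨(p, q), hp, hq⟩
  have hm2 : 2 ≤ m := by
    refine le_trans ?_ (hm a1 u1 ha1 hu1)
    have hne : u1 ≠ v1 := fun e => hn1 (e ▸ Commute.refl u1)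
    rw [← Set.ncard_pair hne]
    refine Set.ncard_le_ncard (Set.insert_subset (self_mem_cmp a1 u1) ?_) (Set.toFinite _)
    exact Set.singleton_subset_iff.mpr
      (Relation.ReflTransGen.tail Relation.ReflTransGen.refl ⟨hu1, hv1, hn1⟩)
  have hC : Cmp D a c ∈ Mset D m a := ⟨⟨a, c, ha, hc, rfl, rfl⟩, cmp_subset hc⟩
  set C := Cmp D a c
  obtain ⟨b, hb, hbC⟩ : ∃ b ∈ Dx D a, b ∉ C := by
    by_contra hno
    push Not at hno
    exact hdis (conn_transport h ha hx hc (Set.Subset.antisymm (cmp_subset hc) hno) y0 hy0 y0' hy0')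
  have hr := mset_rel (m := m) h hm
  have hnr : ¬ Mset D m a = Mset D m c := by
    intro e
    have h1 : C ∈ Mset D m c := e ▸ hC
    exact (h1.2 (self_mem_cmp a c)).2.1 rfl
  have htriv : ∀ p q : G, p ∈ D → q ∈ D → Mset D m p = Mset D m q → p = q :=
    fun p q hp hq e => Rel.eq_of_commuting h hr hsol ha hc.1 hnr hc.2.2 hp hq e
  by_cases hone : (Mset D m a).ncard ≤ 1
  · have hab : Mset D m a = Mset D m b := by
      have hCb : C ∈ Mset D m b := ⟨hC.1, big_sub_dx hm hC.1 ha hC.2 hb hbC⟩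
      have h1 := (Set.ncard_le_one (Set.toFinite _)).mp hone
      have h2 := (Set.ncard_le_one (Set.toFinite _)).mp ((mset_card h hb.1 ha).le.trans hone)
      ext A
      exact ⟨fun hA => (h1 A hA C hC) ▸ hCb, fun hA => (h2 A hA C hCb) ▸ hC⟩
    exact hb.2.1 (htriv a b ha hb.1 hab).symm
  push Not at hone
  obtain ⟨C', hC', hne⟩ := Set.exists_ne_of_one_lt_ncard hone C
  have hdisj : ∀ {P Q : Set G} {w : G}, P ∈ Mset D m w → Q ∈ Mset D m w → w ∈ D → P ≠ Q →
      ∀ x ∈ P, x ∉ Q := fun hP hQ hw hPQ x hx hx' =>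
    hPQ (big_eq_of_meet hm hP.1 hQ.1 hw hP.2 hQ.2 hx hx')
  obtain ⟨u, hu⟩ : C'.Nonempty := by
    obtain ⟨p, q, -, -, rfl, -⟩ := hC'.1
    exact ⟨q, self_mem_cmp p q⟩
  have hau : u ∈ Dx D a := hC'.2 hu
  have hothers : ∀ A ∈ Mset D m a, A ≠ C' → A ∈ Mset D m u := fun A hA hA' =>
    ⟨hA.1, big_sub_dx hm hA.1 ha hA.2 hau (hdisj hC' hA ha hA'.symm u hu)⟩
  obtain ⟨E, hE, hEa⟩ : ∃ E ∈ Mset D m u, E ∉ Mset D m a := by
    by_contra hno
    push Not at hno
    have e : Mset D m u = Mset D m a :=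
      Set.eq_of_subset_of_ncard_le hno (mset_card h ha hau.1).le (Set.toFinite _)
    exact hau.2.1 (htriv u a hau.1 ha e)
  have haE : a ∈ E := by
    by_contra hn
    exact hEa ⟨hE.1, big_sub_dx hm hE.1 hau.1 hE.2 ⟨ha, hau.2.1.symm, hau.2.2.symm⟩ hn⟩
  obtain ⟨w, hw, hwa⟩ : ∃ w ∈ E, w ≠ a := by
    obtain ⟨p, q, -, -, -, hcard⟩ := id hE.1
    exact Set.exists_ne_of_one_lt_ncard (by omega) a
  have hwu : w ∈ Dx D u := hE.2 hw
  have hCu : C ∈ Mset D m u := hothers C hC hne.symm
  have hCE : C ≠ E := fun e => hEa (e ▸ hC)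
  -- `z` in `C` sees both `C'` and `E`
  have hcC' : C' ⊆ Dx D c := big_sub_dx hm hC'.1 ha hC'.2 hc
    (hdisj hC hC' ha hne.symm c (self_mem_cmp a c))
  have hcE : E ⊆ Dx D c := big_sub_dx hm hE.1 hau.1 hE.2 (hCu.2 (self_mem_cmp a c))
    (hdisj hCu hE hau.1 hCE c (self_mem_cmp a c))
  have hwC' : w ∉ C' := fun e => hEa (by
    have := big_eq_of_meet hm hE.1 hC'.1 hc.1 hcE hcC' hw e
    exact this ▸ hC')
  have hsub : Mset D m a ⊆ Mset D m w := by
    intro A hA
    by_cases hAC' : A = C'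
    · subst hAC'
      exact ⟨hA.1, big_sub_dx hm hA.1 hc.1 hcC' (hcE hw) hwC'⟩
    · have hAu := hothers A hA hAC'
      exact ⟨hA.1, big_sub_dx hm hA.1 hau.1 hAu.2 hwu
        (hdisj hE hAu hau.1 (fun e => hEa (e ▸ hA)) w hw)⟩
  exact hwa (htriv a w ha hwu.1
    (Set.eq_of_subset_of_ncard_le hsub (mset_card h hwu.1 ha).le (Set.toFinite _))).symm

/-- The transpositions commuting with `x` form one class of the subgroup they generate. -/
theorem dx_transitive [Finite G] (h : TC D)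
    (hsol : ∀ N : Subgroup G, N.Normal → Group.IsSolvable ↥N → N ≤ commutator G → N = ⊥)
    {x : G} (hx : x ∈ D) {y y' : G} (hy : y ∈ Dx D x) (hy' : y' ∈ Dx D x) :
    ∃ g ∈ Subgroup.closure (Dx D x), g * y * g⁻¹ = y' := by
  have := dx_connected h hsol hx y hy y' hy'
  clear hy'
  induction this with
  | refl => exact ⟨1, one_mem _, by group⟩
  | tail _ h2 ih =>
    obtain ⟨g, hg, he⟩ := ih
    refine ⟨_ * g, mul_mem (mul_mem (Subgroup.subset_closure h2.1)
      (Subgroup.subset_closure h2.2.1)) hg, ?_⟩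
    rename_i p q _
    calc p * q * g * y * (p * q * g)⁻¹ = p * (q * (g * y * g⁻¹) * q⁻¹) * p⁻¹ := by group
      _ = p * (q * p * q) * p := by rw [he, h.inv_eq h2.1.1, h.inv_eq h2.2.1.1]
      _ = q := by
        rw [← h.braid h2.1.1 h2.2.1.1 h2.2.2, h.refl_refl h2.1.1]

/-- Some element fixing `a` carries `c` to `e`. -/
def SameOrbit (a c e : G) : Prop := ∃ g : G, g * a * g⁻¹ = a ∧ g * c * g⁻¹ = e

theorem SameOrbit.symm {a c e : G} (hs : SameOrbit a c e) : SameOrbit a e c := by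
  obtain ⟨g, h1, h2⟩ := hs
  refine ⟨g⁻¹, ?_, ?_⟩
  · conv_lhs => rw [← h1]
    group
  · rw [← h2]; group

theorem SameOrbit.trans {a c d e : G} (h1 : SameOrbit a c d) (h2 : SameOrbit a d e) :
    SameOrbit a c e := by
  obtain ⟨g, g1, g2⟩ := h1
  obtain ⟨k, k1, k2⟩ := h2
  refine ⟨k * g, ?_, ?_⟩
  · calc k * g * a * (k * g)⁻¹ = k * (g * a * g⁻¹) * k⁻¹ := by group
      _ = a := by rw [g1, k1]
  · calc k * g * c * (k * g)⁻¹ = k * (g * c * g⁻¹) * k⁻¹ := by group
      _ = e := by rw [g2, k2]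

/-- An element exchanging two non-commuting transpositions. -/
theorem exists_swap (h : TC D) {a c : G} (ha : a ∈ D) (hc : c ∈ D) (hn : ¬ Commute a c) :
    ∃ g : G, g * a * g⁻¹ = c ∧ g * c * g⁻¹ = a := by
  refine ⟨a * c * a, ?_, ?_⟩
  · rw [h.inv_eq (h.refl_mem ha hc)]
    calc a * c * a * a * (a * c * a) = a * c * (a * a) * a * c * a := by group
      _ = a * (c * a * c) * a := by rw [h.sq a ha]; group
      _ = c := by rw [← h.braid ha hc hn, h.refl_refl ha]
  · rw [h.inv_eq (h.refl_mem ha hc), h.braid ha hc hn]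
    calc c * a * c * c * (c * a * c) = c * a * (c * c) * c * a * c := by group
      _ = c * (a * c * a) * c := by rw [h.sq c hc]; group
      _ = a := by rw [h.braid ha hc hn, h.refl_refl hc]

/-- The centralizer of `a` is transitive on the transpositions not commuting with `a`. -/
theorem ax_transitive [Finite G] (h : TC D)
    (hsol : ∀ N : Subgroup G, N.Normal → Group.IsSolvable ↥N → N ≤ commutator G → N = ⊥)
    (hperf : ⁅commutator G, commutator G⁆ = commutator G) {a : G} (ha : a ∈ D) {c e : G}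
    (hc : c ∈ D) (he : e ∈ D) (hac : ¬ Commute a c) (hae : ¬ Commute a e) :
    SameOrbit a c e := by
  classical
  set lam := fun u v : G => (Dx D u ∩ Dx D v).ncard with hlam
  have hlamc : ∀ g u v : G, lam (g * u * g⁻¹) (g * v * g⁻¹) = lam u v := by
    intro g u v
    simp only [hlam, h.dx_conj]
    rw [← Set.image_inter fun _ _ e => conj_inj e,
      Set.ncard_image_of_injective _ fun _ _ e => conj_inj e]
  -- in different orbits at `p` the common commuting transpositions commute with `p`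
  have hstar : ∀ p ∈ D, ∀ q ∈ D, ∀ s ∈ D, ¬ Commute p q → ¬ Commute p s → ¬ SameOrbit p q s →
      Dx D q ∩ Dx D s ⊆ Dx D p := by
    intro p hp q hq s hs hpq hps hns d hd
    have hdp : d ≠ p := fun e => hpq (e ▸ hd.1.2.2).symm
    refine ⟨hd.1.1, hdp, ?_⟩
    by_contra hpd
    apply hns
    obtain ⟨g, g1, g2⟩ := h.swap_ends hq hd.1.1 hp hd.1.2.2 (fun e => hpq e.symm)
      (fun e => hpd e.symm)
    obtain ⟨k, k1, k2⟩ := h.swap_ends hd.1.1 hs hp hd.2.2.2.symm (fun e => hpd e.symm)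
      (fun e => hps e.symm)
    exact SameOrbit.trans ⟨g, g1, g2⟩ ⟨k, k1, k2⟩
  -- the orbit of a pair with fewest common neighbours swallows every other one
  have hkey : ∀ q ∈ D, ∀ s ∈ D, ¬ Commute a q → ¬ Commute a s → ¬ SameOrbit a q s →
      lam a q ≤ lam a s → Dx D a ∩ Dx D q ⊆ Dx D s := by
    intro q hq s hs haq has hns hle
    have hqs : ¬ Commute q s := fun e => hns (by
      obtain ⟨g, g1, g2⟩ := h.swap_ends hq hs ha e (fun e' => haq e'.symm) fun e' => has e'.symm
      exact ⟨g, g1, g2⟩)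
    by_cases h1 : SameOrbit s a q
    · by_cases h2 : SameOrbit q a s
      · exfalso
        apply hns
        obtain ⟨g, g1, g2⟩ := h1.symm
        obtain ⟨k, k1, k2⟩ := h2.symm
        obtain ⟨w, w1, w2⟩ := exists_swap h ha hs has
        obtain ⟨v, v1, v2⟩ := exists_swap h hq hs hqs
        -- (a,q) → (s,q) → (q,s) → (a,s)
        obtain ⟨k', k1', k2'⟩ := h2
        refine ⟨g * v * k', ?_, ?_⟩
        · calc g * v * k' * a * (g * v * k')⁻¹ = g * (v * (k' * a * k'⁻¹) * v⁻¹) * g⁻¹ := by group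
            _ = a := by rw [k2', v2, g2]
        · calc g * v * k' * q * (g * v * k')⁻¹ = g * (v * (k' * q * k'⁻¹) * v⁻¹) * g⁻¹ := by group
            _ = s := by rw [k1', v1, g1]
      · -- apply the inclusion at `q`
        have hsub := hstar q hq a ha s hs (fun e => haq e.symm) hqs h2
        obtain ⟨g, g1, g2⟩ := h1
        have hl : lam s q = lam s a := by rw [← hlamc g s a, g1, g2]
        have hle' : Dx D a ∩ Dx D s ⊆ Dx D a ∩ Dx D q := fun d hd => ⟨hd.1, hsub hd⟩
        have heq := Set.eq_of_subset_of_ncard_le hle' hle (Set.toFinite _)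
        intro d hd
        rw [← heq] at hd
        exact hd.2
    · exact hstar s hs a ha q hq (fun e => has e.symm) (fun e => hqs e.symm) h1
  by_contra hns
  -- choose an orbit minimizing the number of common neighbours
  have hne : Nonempty {q : G // q ∈ D ∧ ¬ Commute a q} := ⟨⟨c, hc, hac⟩⟩
  obtain ⟨⟨q, hq, haq⟩, hmin⟩ :=
    Finite.exists_min fun q : {q : G // q ∈ D ∧ ¬ Commute a q} => lam a q.1
  obtain ⟨s, hs, has, hns'⟩ : ∃ s ∈ D, ¬ Commute a s ∧ ¬ SameOrbit a q s := by
    by_contra hno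
    push Not at hno
    exact hns ((hno c hc hac).symm.trans (hno e he hae))
  obtain ⟨d, hd, hda, hdq⟩ := near_all h hperf ha hq
  have hdne : d ≠ a := fun e => haq (e ▸ hdq)
  have hdne' : d ≠ q := fun e => haq (e ▸ hda.symm)
  have hall : Dx D a ⊆ Dx D s := by
    intro y hy
    obtain ⟨g, hg, hgy⟩ := dx_transitive h hsol ha
      (⟨hd, hdne, hda.symm⟩ : d ∈ Dx D a) hy
    have hga : g * a * g⁻¹ = a := by
      have : Subgroup.closure (Dx D a) ≤ Subgroup.centralizer {a} :=
        (Subgroup.closure_le _).mpr fun z hz =>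
          Subgroup.mem_centralizer_singleton_iff.mpr hz.2.2.symm.eq
      rw [Subgroup.mem_centralizer_singleton_iff.mp (this hg), mul_inv_cancel_right]
    have hnr : ¬ SameOrbit a (g * q * g⁻¹) s := fun e =>
      hns' (SameOrbit.trans ⟨g, hga, rfl⟩ e)
    have hna : ¬ Commute a (g * q * g⁻¹) := by
      intro e
      rw [← hga] at e
      exact haq (commute_conj_iff.mp e)
    have hll : lam a (g * q * g⁻¹) ≤ lam a s := by
      have := hlamc g a q
      rw [hga] at this
      rw [this]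
      exact hmin ⟨s, hs, has⟩
    refine hkey _ (h.conj g q hq) s hs hna has hnr hll ⟨hy, ?_⟩
    rw [← hgy, h.dx_conj]
    exact ⟨d, ⟨hd, hdne', hdq.symm⟩, rfl⟩
  have heq := Set.eq_of_subset_of_ncard_le hall (h.ncard_dx hs ha).le (Set.toFinite _)
  exact has (eq_of_dx_eq h hsol ha hs heq ▸ Commute.refl a)

end Cfsg.Agent.ThreeTransp
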