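import Cfsg.Agent.Lib.ThreeTransM22Triples17
import Cfsg.Agent.Lib.RankThreeCount34
import Cfsg.Agent.Lib.ThreeTranspRank3
import Cfsg.Agent.Lib.ReflectionSeven72

/-!
# The parameters of type M(22)

`|D| = 3510`, the centralizer of a member has order `2 |U₆(2)|` and two noncommuting members have `126`
common neighbours: the product of this number with the number of members not commuting with a given one
is `693 · 512`, seven divides it because seven divides the order of the reflection group, and every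
candidate other than `126` contradicts the trace congruence of the commutation graph.
-/

set_option autoImplicit false
set_option linter.unusedSectionVars false
set_option linter.style.haveILetI false

namespace Cfsg.Agent.ThreeTransM22Order72

open Subgroup Cfsg.Agent.ThreeTransRel Cfsg.Agent.ThreeTransDescent
open Cfsg.Agent.ThreeTransM22Lift72

variable {G : Type*} [Group G] [Finite G] {D : Set G}

section

variable (hD : Cfsg.IsThreeTranspositionGroup D) (hprim : Cfsg.IsPrimitiveUnderConj D)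
  (h22 : Cfsg.IsOfTypeM22 G D)
include hD hprim h22

theorem not_one_mem {a : G} (ha : a ∈ D) : a ≠ 1 := fun e => by
  have := hD.1.1 a ha
  rw [e, orderOf_one] at this
  exact absurd this (by norm_num)

theorem exists_far {a : G} (ha : a ∈ D) : ∃ c ∈ D, ¬ Commute a c := by
  obtain ⟨-, d, hd, c, hc, hnc, -⟩ := h22
  obtain ⟨g, rfl⟩ := hprim.1 d hd a ha
  exact ⟨g * c * g⁻¹, hD.2.1 g c hc, fun e => hnc ((Commute.conj_iff g).mp e)⟩

theorem card_centralizer {a : G} (ha : a ∈ D) :
    Nat.card ↥(centralizer ({a} : Set G)) = 18393661440 := by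
  obtain ⟨F, _, _, _, hctx⟩ := exists_ctx hD hprim h22
  obtain ⟨φ, X⟩ := hctx a ha
  rw [ThreeTransM22Outer72.centralizer_eq_loc hD hprim h22 a ha,
    ThreeTransM22Triples17.card_loc X (not_one_mem hD hprim h22 ha)]

theorem ncard_near {a : G} (ha : a ∈ D) : (near D a).ncard = 693 := by
  obtain ⟨F, _, _, _, hctx⟩ := exists_ctx hD hprim h22
  obtain ⟨φ, X⟩ := hctx a ha
  exact ThreeTransM22Triples17.ncard_near X

theorem ncard_adjacent {a b : G} (ha : a ∈ D) (hb : b ∈ near D a) :
    (near D a ∩ near D b).ncard = 180 := by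
  obtain ⟨F, _, _, _, hctx⟩ := exists_ctx hD hprim h22
  obtain ⟨φ, X⟩ := hctx a ha
  rw [← ThreeTransM22Triples17.ncard_pair X hb]
  congr 1
  ext y
  exact ⟨fun h => ⟨h.1, h.2.2.1, h.2.2.2.symm⟩, fun h => ⟨h.1, h.1.1, h.2.1, h.2.2.symm⟩⟩

theorem tc : ThreeTransp.TC D := by
  have ht := tsys_of_group hD
  refine ⟨ht.sq, fun a ha b hb => ?_, ht.conj, ht.gen, hprim.1, ?_⟩
  · by_cases h : Commute a b
    · exact Or.inl h
    · exact Or.inr (ThreeTrans.cube_of_not_commute hD.1 ha hb h)
  · obtain ⟨a, ha, -⟩ := hprim.2.1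
    exact ⟨a, ha⟩

/-- The centralizer of a member is transitive on the members not commuting with it. -/
theorem far_trans {a c e : G} (ha : a ∈ D) (hc : c ∈ D) (he : e ∈ D) (hac : ¬ Commute a c)
    (hae : ¬ Commute a e) : ∃ g : G, g * a * g⁻¹ = a ∧ g * c * g⁻¹ = e := by
  haveI := (ThreeTransM22Local72.main hD hprim h22).1
  have hZ := h22.1
  have hna : ¬ IsMulCommutative G := fun h => by
    exact hac (h.1.1 a c)
  have hcomm : commutator G = ⊤ := by
    rcases (inferInstance : (commutator G).Normal).eq_bot_or_eq_top with h | h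
    · exfalso
      rw [commutator_def, Subgroup.commutator_eq_bot_iff_le_centralizer] at h
      exact hac (mem_centralizer_iff.mp (h (mem_top c)) a (mem_top a))
    · exact h
  refine ThreeTransp.ax_transitive (tc hD hprim h22) (fun N hN hsol _ => ?_) ?_ ha hc he hac hae
  · rcases hN.eq_bot_or_eq_top with h | h
    · exact h
    · exfalso
      subst h
      haveI : Group.IsSolvable G := Group.isSolvable_of_surjective
        (f := (Subgroup.topEquiv : ↥(⊤ : Subgroup G) ≃* G).toMonoidHom) (MulEquiv.surjective _)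
      have hlt := Group.IsSolvable.commutator_lt_top_of_nontrivial G
      exact hlt.ne hcomm
  · rw [hcomm]; rw [← commutator_def, hcomm]

theorem ncard_common_const {a c a' c' : G} (ha : a ∈ D) (hc : c ∈ D) (hac : ¬ Commute a c)
    (ha' : a' ∈ D) (hc' : c' ∈ D) (hac' : ¬ Commute a' c') :
    (near D a ∩ near D c).ncard = (near D a' ∩ near D c').ncard := by
  have ht := tsys_of_group hD
  obtain ⟨g, hg⟩ := hprim.1 a ha a' ha'
  have hn : ¬ Commute a' (g * c * g⁻¹) := fun e => hac ((Commute.conj_iff g).mp (hg ▸ e))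
  obtain ⟨k, hk, hkc⟩ := far_trans hD hprim h22 ha' (ht.conj g c hc) hc' hn hac'
  have hka : k * g * a * (k * g)⁻¹ = a' := by
    rw [show k * g * a * (k * g)⁻¹ = k * (g * a * g⁻¹) * k⁻¹ by group, hg, hk]
  have hkc' : k * g * c * (k * g)⁻¹ = c' := by
    rw [show k * g * c * (k * g)⁻¹ = k * (g * c * g⁻¹) * k⁻¹ by group, hkc]
  have him : ∀ z : G, (fun y => (k * g) * y * (k * g)⁻¹) '' near D z = near D ((k * g) * z * (k * g)⁻¹) := by
    intro z
    ext y
    constructor
    · rintro ⟨x, hx, rfl⟩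
      exact ⟨ht.conj _ x hx.1, fun e => hx.2.1 (mul_left_cancel (mul_right_cancel e)),
        (Commute.conj_iff _).mpr hx.2.2⟩
    · intro hy
      refine ⟨(k * g)⁻¹ * y * (k * g), ⟨?_, fun e => hy.2.1 ?_, ?_⟩, by group⟩
      · have := ht.conj (k * g)⁻¹ y hy.1
        simpa using this
      · rw [← e]; group
      · have := (Commute.conj_iff (k * g)⁻¹).mpr hy.2.2
        simpa [mul_assoc] using this
  rw [← hka, ← hkc', ← him, ← him, ← Set.image_inter (fun x y e => mul_left_cancel (mul_right_cancel e)),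
    Set.ncard_image_of_injective _ (fun x y e => mul_left_cancel (mul_right_cancel e))]

/-- Two noncommuting members have 126 common neighbours. -/
theorem ncard_common {a c : G} (ha : a ∈ D) (hc : c ∈ D) (hac : ¬ Commute a c) :
    (near D a ∩ near D c).ncard = 126 := by
  classical
  have ht := tsys_of_group hD
  obtain ⟨-, d, hd, c₀, hc₀, hnc, -, c₃, hc₃, hL⟩ := id h22
  rw [ncard_common_const hD hprim h22 ha hc hac hd hc₀ hnc]
  set mu := (near D d ∩ near D c₀).ncard with hmu
  have hk : ∀ b ∈ D, (RankThreeCount34.nb D b).ncard = 693 := fun b hb => ncard_near hD hprim h22 hb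
  have hl : ∀ b ∈ D, ∀ b' ∈ RankThreeCount34.nb D b,
      (RankThreeCount34.nb D b ∩ RankThreeCount34.nb D b').ncard = 180 :=
    fun b hb b' hb' => ncard_adjacent hD hprim h22 hb hb'
  have hm : ∀ b ∈ D, ∀ b' ∈ D, ¬ Commute b b' →
      (RankThreeCount34.nb D b ∩ RankThreeCount34.nb D b').ncard = mu :=
    fun b hb b' hb' hn => ncard_common_const hD hprim h22 hb hb' hn hd hc₀ hnc
  have hcount : (RankThreeCount34.far D d).ncard * mu = 354816 := by
    rw [RankThreeCount34.count hd hk (fun b hb => hl d hd b hb) fun x hx => hm d hd x hx.1 hx.2]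
  -- seven divides
  set L := Subgroup.closure (near D d ∩ near D c₀) with hLdef
  have h7L : 7 ∣ Nat.card ↥L := (ReflectionSeven72.seven_dvd hc₃ hL).trans
    (Subgroup.card_quotient_dvd_card _)
  have hdvd : (RankThreeCount34.far D d).ncard * Nat.card ↥L ∣ Nat.card ↥(centralizer ({d} : Set G)) := by
    refine RankThreeCount34.orbit_dvd (a := d) (c := c₀) ⟨hc₀, hnc⟩ (fun g hg y hy => ⟨ht.conj g y hy.1,
      fun e => hy.2 ?_⟩) (fun y hy => ?_) ((closure_le _).mpr fun y hy =>
        mem_centralizer_singleton_iff.mpr hy.1.2.2.symm.eq) fun g hg => ?_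
    · have hgd : g * d * g⁻¹ = d := mul_inv_eq_iff_eq_mul.mpr (mem_centralizer_singleton_iff.mp hg)
      rw [← hgd] at e
      exact (Commute.conj_iff g).mp e
    · obtain ⟨g, hg, hgc⟩ := far_trans hD hprim h22 hd hc₀ hy.1 hnc hy.2
      exact ⟨g, mem_centralizer_singleton_iff.mpr (mul_inv_eq_iff_eq_mul.mp hg), hgc⟩
    · have : L ≤ centralizer ({c₀} : Set G) := (closure_le _).mpr fun y hy =>
        mem_centralizer_singleton_iff.mpr hy.2.2.2.symm.eq
      exact mul_inv_eq_iff_eq_mul.mpr (mem_centralizer_singleton_iff.mp (this hg))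
  rw [card_centralizer hD hprim h22 hd] at hdvd
  have h7far : ¬ 7 ∣ (RankThreeCount34.far D d).ncard := fun h => by
    have h49 : 7 * 7 ∣ 18393661440 := (mul_dvd_mul h h7L).trans hdvd
    norm_num at h49
  have h7mu : 7 ∣ mu :=
    ((Nat.Prime.dvd_mul (by norm_num : Nat.Prime 7)).mp (hcount ▸ by norm_num)).resolve_left h7far
  have hmu_le : mu ≤ 693 := (Set.ncard_le_ncard Set.inter_subset_left).trans_eq (ncard_near hD hprim h22 hd)
  have hmu_dvd : mu ∣ 354816 := Dvd.intro_left _ hcount
  have hDcard : D.ncard = 694 + 354816 / mu := by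
    have hpos : 0 < mu := Nat.pos_of_ne_zero fun h0 => by simp [h0] at hcount
    rw [RankThreeCount34.ncard_eq hd, hk d hd, ← hcount, Nat.mul_div_cancel _ hpos]
  have htrace := fun p (hp : Fact p.Prime) =>
    @RankThreeCount34.commute_trace G _ _ D 693 180 mu hk hl hm p hp
  have e5 := htrace 5 ⟨by norm_num⟩
  have e13 := htrace 13 ⟨by norm_num⟩
  have e17 := htrace 17 ⟨by norm_num⟩
  have e19 := htrace 19 ⟨by norm_num⟩
  rw [hDcard] at e5 e13 e17 e19
  have hcases : ∀ m : Fin 100, 7 * m.val ∣ 354816 → 7 * m.val = 126 ∨ 7 * m.val ∈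
      [7, 14, 21, 28, 42, 56, 63, 77, 84, 112, 154, 168, 224, 231, 252, 308, 336, 448, 462, 504, 616,
        672, 693] := by decide +kernel
  obtain ⟨m, hm7⟩ := h7mu
  rcases hcases ⟨m, by omega⟩ (show 7 * m ∣ 354816 from hm7 ▸ hmu_dvd) with h | h
  · rw [hm7]; exact h
  · exfalso
    have hmem : mu ∈ [7, 14, 21, 28, 42, 56, 63, 77, 84, 112, 154, 168, 224, 231, 252, 308, 336, 448,
      462, 504, 616, 672, 693] := by rw [hm7]; exact h
    obtain ⟨k, hk'⟩ : ∃ k, k = mu := ⟨_, rfl⟩
    rw [← hk'] at e5 e13 e17 e19 hmem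
    clear hk'
    fin_cases hmem <;>
      first
        | exact absurd e5 (by decide +kernel)
        | exact absurd e13 (by decide +kernel)
        | exact absurd e17 (by decide +kernel)
        | exact absurd e19 (by decide +kernel)

theorem ncard_far {a : G} (ha : a ∈ D) : {y | y ∈ D ∧ ¬ Commute a y}.ncard = 2816 := by
  have h := RankThreeCount34.count (D := D) ha (fun b hb => ncard_near hD hprim h22 hb)
    (fun b hb => ncard_adjacent hD hprim h22 ha hb)
    (fun x hx => ncard_common hD hprim h22 ha hx.1 hx.2)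
  change (RankThreeCount34.far D a).ncard * 126 = _ at h
  change (RankThreeCount34.far D a).ncard = _
  omega

/-- The class has 3510 members. -/
theorem card_D : D.ncard = 3510 := by
  obtain ⟨a, ha, -⟩ := hprim.2.1
  rw [RankThreeCount34.ncard_eq ha]
  have h1 := ncard_far hD hprim h22 ha
  have h2 := ncard_near hD hprim h22 ha
  change 1 + (near D a).ncard + {y | y ∈ D ∧ ¬ Commute a y}.ncard = _
  omega

/-- The order of a group of type M(22). -/
theorem card_G : Nat.card G = 2 ^ 17 * 3 ^ 9 * 5 ^ 2 * 7 * 11 * 13 := by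
  obtain ⟨a, ha, -⟩ := hprim.2.1
  have h := ThreeTransM22Triples17.card_eq_mul (⊤ : Subgroup G) D ha (fun k _ => hD.2.1 k a ha)
    fun y hy => (hprim.1 a ha y hy).imp fun g hg => ⟨mem_top g, hg⟩
  rw [Subgroup.card_top, top_inf_eq, card_centralizer hD hprim h22 ha, card_D hD hprim h22] at h
  rw [h]; norm_num

/-- The width is 22. -/
theorem width : Cfsg.commutingWidth D = 22 := by
  classical
  have ht := tsys_of_group hD
  obtain ⟨F, _, _, _, hctx⟩ := exists_ctx hD hprim h22
  have h22B : ∀ B : Set G, ThreeTransM22Outer72.Blk D B → B.ncard = 22 := by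
    intro B hB
    obtain ⟨b, hb⟩ : B.Nonempty := by
      by_contra hne
      obtain ⟨a, ha, -⟩ := hprim.2.1
      exact hne ⟨a, hB.max a ha fun x hx => absurd ⟨x, hx⟩ hne⟩
    obtain ⟨φ, X⟩ := hctx b (hB.sub hb)
    haveI : Fintype B := Fintype.ofFinite _
    rw [← Nat.card_coe_set_eq, Nat.card_eq_fintype_card]
    exact (ThreeTransM22Outer72.plane_action X hB hb).1
  have hext : ∀ E : Set G, E ⊆ D → (∀ x ∈ E, ∀ y ∈ E, Commute x y) →
      ∃ B, ThreeTransM22Outer72.Blk D B ∧ E ⊆ B := by
    intro E hE hc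
    have h := ThreeTransM22Outer72.odd_blocks ht hE hc
    obtain ⟨B, hB⟩ : {B : Set G | ThreeTransM22Outer72.Blk D B ∧ E ⊆ B}.Nonempty :=
      Set.nonempty_of_ncard_ne_zero (by omega)
    exact ⟨B, hB⟩
  have hgreat : IsGreatest {n : ℕ | ∃ E : Set G, E ⊆ D ∧ E.Finite ∧
      (∀ a ∈ E, ∀ b ∈ E, Commute a b) ∧ E.ncard = n} 22 := by
    constructor
    · obtain ⟨B, hB, -⟩ := hext ∅ (Set.empty_subset D) (by simp)
      exact ⟨B, hB.sub, Set.toFinite _, hB.comm, h22B B hB⟩
    · rintro n ⟨E, hE, -, hc, rfl⟩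
      obtain ⟨B, hB, hEB⟩ := hext E hE hc
      exact (Set.ncard_le_ncard hEB).trans_eq (h22B B hB)
  exact hgreat.csSup_eq

end

end Cfsg.Agent.ThreeTransM22Order72
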