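import Cfsg.Agent.Lib.Unit62Plane55

/-!
# Root elements of a Sylow 2-subgroup seen in two further plane groups
-/

set_option autoImplicit false
set_option linter.unusedSectionVars false

namespace Cfsg.Agent.Unit62Roots55

open Cfsg.Agent.UnitaryF4Geo Cfsg.Agent.UnitaryF4Line Cfsg.Agent.ThreeTransM22Frame72
open Cfsg.Agent.Unit62Code55 Cfsg.Agent.Unit62Plane55

variable {F : Type*} [Field F] [Fintype F] [hF : FourField F]
variable {e f : Fin 3 → Fin 6 → F}

local notation "act" => OrthUnitaryTransvection.act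

/-- The second plane. -/
def e₁ (e f : Fin 3 → Fin 6 → F) : Fin 3 → Fin 6 → F := ![e 0, e 1, f 2]
/-- Its dual. -/
def f₁ (e f : Fin 3 → Fin 6 → F) : Fin 3 → Fin 6 → F := ![f 0, f 1, e 2]
/-- The third plane. -/
def e₂ (e f : Fin 3 → Fin 6 → F) : Fin 3 → Fin 6 → F := ![e 0, f 1, f 2]
/-- Its dual. -/
def f₂ (e f : Fin 3 → Fin 6 → F) : Fin 3 → Fin 6 → F := ![f 0, e 1, e 2]

theorem frame_one (hfr : Frame e f) : Frame (e₁ e f) (f₁ e f) := by
  refine ⟨?_, ?_, ?_⟩ <;> intro i j <;> fin_cases i <;> fin_cases j <;>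
    simp [e₁, f₁, hfr.ee, hfr.ff, hfr.ef, hfr.fe]

theorem frame_two (hfr : Frame e f) : Frame (e₂ e f) (f₂ e f) := by
  refine ⟨?_, ?_, ?_⟩ <;> intro i j <;> fin_cases i <;> fin_cases j <;>
    simp [e₂, f₂, hfr.ee, hfr.ff, hfr.ef, hfr.fe]

/-- An element with prescribed matrix. -/
theorem exists_elem (hfr : Frame e f) (M : Fin 3 → Fin 3 → F) (hM : ∀ i j, M i j = M j i ^ 2) :
    ∃ g ∈ P e, ∀ i j, mat f g i j = M i j := by
  obtain ⟨n, hn, hnM⟩ := exists_code M hM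
  obtain ⟨g, hg⟩ := code_surjective hfr hn
  exact ⟨g.1, g.2, fun i j => by rw [← code_spec hfr, hg, hnM]⟩

/-- The root subgroup in the second plane: the last row and column, without the diagonal. -/
def R₁ (hfr : Frame e f) : Subgroup (Cfsg.SU 6 F 2) where
  carrier := {g | g ∈ P (e₁ e f) ∧
    ∀ i j : Fin 3, ((i ≠ 2 ∧ j ≠ 2) ∨ (i = 2 ∧ j = 2)) → mat (f₁ e f) g i j = 0}
  one_mem' := ⟨one_mem _, fun i j _ => by
    rw [mat, OrthUnitaryTransvection.act_one, (frame_one hfr).ff]⟩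
  mul_mem' := fun {a b} ha hb => ⟨mul_mem ha.1 hb.1, fun i j h => by
    rw [mat_mul (frame_one hfr) ha.1 hb.1, ha.2 i j h, hb.2 i j h, add_zero]⟩
  inv_mem' := fun {a} ha => by
    rw [inv_eq_of_mul_eq_one_right (congrArg Subtype.val (sq_one (frame_one hfr) ⟨a, ha.1⟩))]
    exact ha

/-- The root subgroup in the third plane: the first two rows off the diagonal. -/
def R₂ (hfr : Frame e f) : Subgroup (Cfsg.SU 6 F 2) where
  carrier := {g | g ∈ P (e₂ e f) ∧
    ∀ i j : Fin 3, ((i = 2 ∨ j = 2) ∨ i = j) → mat (f₂ e f) g i j = 0}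
  one_mem' := ⟨one_mem _, fun i j _ => by
    rw [mat, OrthUnitaryTransvection.act_one, (frame_two hfr).ff]⟩
  mul_mem' := fun {a b} ha hb => ⟨mul_mem ha.1 hb.1, fun i j h => by
    rw [mat_mul (frame_two hfr) ha.1 hb.1, ha.2 i j h, hb.2 i j h, add_zero]⟩
  inv_mem' := fun {a} ha => by
    rw [inv_eq_of_mul_eq_one_right (congrArg Subtype.val (sq_one (frame_two hfr) ⟨a, ha.1⟩))]
    exact ha

/-- The action of a member of the first root subgroup. -/
structure Is₁ (e f : Fin 3 → Fin 6 → F) (g : Cfsg.SU 6 F 2) (b c : F) : Prop where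
  e0 : act g (e 0) = e 0
  e1 : act g (e 1) = e 1
  e2 : act g (e 2) = e 2 + c • e 0 + b • e 1
  f0 : act g (f 0) = f 0 + c ^ 2 • f 2
  f1 : act g (f 1) = f 1 + b ^ 2 • f 2
  f2 : act g (f 2) = f 2

/-- The action of a member of the second root subgroup. -/
structure Is₂ (e f : Fin 3 → Fin 6 → F) (g : Cfsg.SU 6 F 2) (a : F) : Prop where
  e0 : act g (e 0) = e 0
  e1 : act g (e 1) = e 1 + a • e 0
  e2 : act g (e 2) = e 2
  f0 : act g (f 0) = f 0 + a ^ 2 • f 1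
  f1 : act g (f 1) = f 1
  f2 : act g (f 2) = f 2

theorem is₁ (hfr : Frame e f) {g : Cfsg.SU 6 F 2} (hg : g ∈ R₁ hfr) : ∃ b c, Is₁ e f g b c := by
  set M := mat (f₁ e f) g with hM
  have hs := mat_symm (frame_one hfr) hg.1
  have h0 : act g (f 0) = f 0 + comb (e₁ e f) (M 0) := act_f (frame_one hfr) hg.1 0
  have h1 : act g (f 1) = f 1 + comb (e₁ e f) (M 1) := act_f (frame_one hfr) hg.1 1
  have h2 : act g (e 2) = e 2 + comb (e₁ e f) (M 2) := act_f (frame_one hfr) hg.1 2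
  have z : ∀ i j : Fin 3, ((i ≠ 2 ∧ j ≠ 2) ∨ (i = 2 ∧ j = 2)) → M i j = 0 := hg.2
  refine ⟨M 2 1, M 2 0, hg.1 0, hg.1 1, ?_, ?_, ?_, hg.1 2⟩
  · rw [h2, comb_three, z 2 2 (by decide)]; simp [e₁, add_assoc]
  · rw [h0, comb_three, z 0 0 (by decide), z 0 1 (by decide), show M 0 2 = M 2 0 ^ 2 from hs 0 2]
    simp [e₁]
  · rw [h1, comb_three, z 1 0 (by decide), z 1 1 (by decide), show M 1 2 = M 2 1 ^ 2 from hs 1 2]
    simp [e₁]

theorem is₂ (hfr : Frame e f) {g : Cfsg.SU 6 F 2} (hg : g ∈ R₂ hfr) : ∃ a, Is₂ e f g a := by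
  set M := mat (f₂ e f) g with hM
  have hs := mat_symm (frame_two hfr) hg.1
  have h0 : act g (f 0) = f 0 + comb (e₂ e f) (M 0) := act_f (frame_two hfr) hg.1 0
  have h1 : act g (e 1) = e 1 + comb (e₂ e f) (M 1) := act_f (frame_two hfr) hg.1 1
  have h2 : act g (e 2) = e 2 + comb (e₂ e f) (M 2) := act_f (frame_two hfr) hg.1 2
  have z : ∀ i j : Fin 3, ((i = 2 ∨ j = 2) ∨ i = j) → M i j = 0 := hg.2
  refine ⟨M 1 0, hg.1 0, ?_, ?_, ?_, hg.1 1, hg.1 2⟩
  · rw [h1, comb_three, z 1 1 (by decide), z 1 2 (by decide)]; simp [e₂]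
  · rw [h2, comb_three, z 2 0 (by decide), z 2 1 (by decide), z 2 2 (by decide)]; simp
  · rw [h0, comb_three, z 0 0 (by decide), z 0 2 (by decide), show M 0 1 = M 1 0 ^ 2 from hs 0 1]
    simp [e₂]

theorem exists₁ (hfr : Frame e f) (b c : F) : ∃ g ∈ R₁ hfr, Is₁ e f g b c := by
  obtain ⟨g, hg, hM⟩ := exists_elem (frame_one hfr) ![![0, 0, c ^ 2], ![0, 0, b ^ 2], ![c, b, 0]]
    (fun i j => by fin_cases i <;> fin_cases j <;> simp [sq_sq])
  have hgR : g ∈ R₁ hfr := ⟨hg, fun i j h => by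
    rw [hM]; fin_cases i <;> fin_cases j <;> simp at h ⊢⟩
  have h0 : act g (f 0) = f 0 + comb (e₁ e f) (mat (f₁ e f) g 0) := act_f (frame_one hfr) hg 0
  have h1 : act g (f 1) = f 1 + comb (e₁ e f) (mat (f₁ e f) g 1) := act_f (frame_one hfr) hg 1
  have h2 : act g (e 2) = e 2 + comb (e₁ e f) (mat (f₁ e f) g 2) := act_f (frame_one hfr) hg 2
  refine ⟨g, hgR, hg 0, hg 1, ?_, ?_, ?_, hg 2⟩
  · rw [h2, comb_three, hM, hM, hM]; simp [e₁, add_assoc]
  · rw [h0, comb_three, hM, hM, hM]; simp [e₁]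
  · rw [h1, comb_three, hM, hM, hM]; simp [e₁]

theorem exists₂ (hfr : Frame e f) (a : F) : ∃ g ∈ R₂ hfr, Is₂ e f g a := by
  obtain ⟨g, hg, hM⟩ := exists_elem (frame_two hfr) ![![0, a ^ 2, 0], ![a, 0, 0], ![0, 0, 0]]
    (fun i j => by fin_cases i <;> fin_cases j <;> simp [sq_sq])
  have hgR : g ∈ R₂ hfr := ⟨hg, fun i j h => by
    rw [hM]; fin_cases i <;> fin_cases j <;> simp at h ⊢⟩
  have h0 : act g (f 0) = f 0 + comb (e₂ e f) (mat (f₂ e f) g 0) := act_f (frame_two hfr) hg 0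
  have h1 : act g (e 1) = e 1 + comb (e₂ e f) (mat (f₂ e f) g 1) := act_f (frame_two hfr) hg 1
  have h2 : act g (e 2) = e 2 + comb (e₂ e f) (mat (f₂ e f) g 2) := act_f (frame_two hfr) hg 2
  refine ⟨g, hgR, hg 0, ?_, ?_, ?_, hg 1, hg 2⟩
  · rw [h1, comb_three, hM, hM, hM]; simp [e₂]
  · rw [h2, comb_three, hM, hM, hM]; simp
  · rw [h0, comb_three, hM, hM, hM]; simp [e₂]

theorem card_R₁ (hfr : Frame e f) : Nat.card ↥(R₁ hfr) ≤ 16 := by
  have hi : Function.Injective fun g : ↥(R₁ hfr) =>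
      ((mat (f₁ e f) g.1 2 0, mat (f₁ e f) g.1 2 1) : F × F) := fun g g' h => by
    obtain ⟨h20, h21⟩ := Prod.ext_iff.mp h
    refine Subtype.ext (eq_of_mat (frame_one hfr) g.2.1 g'.2.1 fun i j => ?_)
    have s := mat_symm (frame_one hfr) g.2.1
    have s' := mat_symm (frame_one hfr) g'.2.1
    by_cases hz : (i ≠ 2 ∧ j ≠ 2) ∨ (i = 2 ∧ j = 2)
    · rw [g.2.2 i j hz, g'.2.2 i j hz]
    fin_cases i <;> fin_cases j <;> simp at hz ⊢
    · exact ((s 0 2).trans (congrArg (· ^ 2) h20)).trans (s' 0 2).symm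
    · exact ((s 1 2).trans (congrArg (· ^ 2) h21)).trans (s' 1 2).symm
    · exact h20
    · exact h21
  refine (Nat.card_le_card_of_injective _ hi).trans ?_
  rw [Nat.card_prod, Nat.card_eq_fintype_card, hF.card_eq]

theorem card_R₂ (hfr : Frame e f) : Nat.card ↥(R₂ hfr) ≤ 4 := by
  have hi : Function.Injective fun g : ↥(R₂ hfr) => mat (f₂ e f) g.1 1 0 := fun g g' h => by
    refine Subtype.ext (eq_of_mat (frame_two hfr) g.2.1 g'.2.1 fun i j => ?_)
    have s := mat_symm (frame_two hfr) g.2.1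
    have s' := mat_symm (frame_two hfr) g'.2.1
    by_cases hz : (i = 2 ∨ j = 2) ∨ i = j
    · rw [g.2.2 i j hz, g'.2.2 i j hz]
    fin_cases i <;> fin_cases j <;> simp at hz ⊢
    · exact ((s 0 1).trans (congrArg (· ^ 2) h)).trans (s' 0 1).symm
    · exact h
  refine (Nat.card_le_card_of_injective _ hi).trans ?_
  rw [Nat.card_eq_fintype_card, hF.card_eq]

/-- An element sending the plane into itself normalises its group. -/
theorem normalizes {g : Cfsg.SU 6 F 2} (hfr : Frame e f) (h : ∀ i, ∃ c, act g (e i) = comb e c) :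
    ∀ k, k ∈ P e ↔ g * k * g⁻¹ ∈ P e := by
  choose c hc using h
  have one : ∀ k, k ∈ P e → g⁻¹ * k * g ∈ P e := fun k hk i => by
    rw [OrthUnitaryTransvection.act_mul, OrthUnitaryTransvection.act_mul, hc, fix_comb hk, ← hc,
      OrthUnitaryTransvection.act_inv_act]
  intro k
  let ψ : ↥(P e) → ↥(P e) := fun k => ⟨g⁻¹ * k.1 * g, one k.1 k.2⟩
  have hb : Function.Surjective ψ := Finite.injective_iff_surjective.mp fun a b h =>
    Subtype.ext (mul_left_cancel (mul_right_cancel (congrArg Subtype.val h)))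
  constructor
  · intro hk
    obtain ⟨a, ha⟩ := hb ⟨k, hk⟩
    have : g⁻¹ * a.1 * g = k := congrArg Subtype.val ha
    rw [show g * k * g⁻¹ = a.1 by rw [← this]; group]
    exact a.2
  · intro hk
    have := one _ hk
    rwa [show g⁻¹ * (g * k * g⁻¹) * g = k by group] at this

theorem norm₁ (hfr : Frame e f) {g : Cfsg.SU 6 F 2} {b c : F} (h : Is₁ e f g b c) :
    ∀ k, k ∈ P e ↔ g * k * g⁻¹ ∈ P e := by
  refine normalizes hfr fun i => ?_
  fin_cases i
  · exact ⟨![1, 0, 0], h.e0.trans (by simp [comb_three])⟩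
  · exact ⟨![0, 1, 0], h.e1.trans (by simp [comb_three])⟩
  · exact ⟨![c, b, 1], h.e2.trans (by simp [comb_three]; abel)⟩

theorem norm₂ (hfr : Frame e f) {g : Cfsg.SU 6 F 2} {a : F} (h : Is₂ e f g a) :
    ∀ k, k ∈ P e ↔ g * k * g⁻¹ ∈ P e := by
  refine normalizes hfr fun i => ?_
  fin_cases i
  · exact ⟨![1, 0, 0], h.e0.trans (by simp [comb_three])⟩
  · exact ⟨![a, 1, 0], h.e1.trans (by simp [comb_three]; abel)⟩
  · exact ⟨![0, 0, 1], h.e2.trans (by simp [comb_three])⟩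

/-- The second root subgroup normalises the first. -/
theorem conj₁₂ (hfr : Frame e f) {x y : Cfsg.SU 6 F 2} (hx : x ∈ R₂ hfr) (hy : y ∈ R₁ hfr) :
    x * y * x⁻¹ ∈ R₁ hfr := by
  obtain ⟨a, hA⟩ := is₂ hfr hx
  obtain ⟨b, c, hB⟩ := is₁ hfr hy
  obtain ⟨w, hw, hW⟩ := exists₁ hfr b (c + a * b)
  have hxx : x⁻¹ = x :=
    inv_eq_of_mul_eq_one_right (congrArg Subtype.val (sq_one (frame_two hfr) ⟨x, hx.1⟩))
  have two := two_eq_zero (F := F)
  suffices x * y * x⁻¹ = w by rw [this]; exact hw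
  refine ext_frame hfr (fun i => ?_) (fun i => ?_) <;>
    (rw [hxx, OrthUnitaryTransvection.act_mul, OrthUnitaryTransvection.act_mul]; fin_cases i) <;>
    simp only [Fin.zero_eta, Fin.mk_one, Fin.reduceFinMk, hA.e0, hA.e1, hA.e2, hA.f0, hA.f1, hA.f2,
      hB.e0, hB.e1, hB.e2, hB.f0, hB.f1, hB.f2, hW.e0, hW.e1, hW.e2, hW.f0, hW.f1, hW.f2,
      OrthUnitaryTransvection.act_add, OrthUnitaryTransvection.act_smul, smul_add, smul_smul] <;>
    funext m <;> simp only [Pi.add_apply, Pi.smul_apply, smul_eq_mul] <;>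
    first
    | ring1
    | linear_combination (a * e 0 m) * two
    | linear_combination (a ^ 2 * f 1 m) * two
    | linear_combination (a ^ 2 * f 1 m - a * b * c * f 2 m) * two

end Cfsg.Agent.Unit62Roots55
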