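import Cfsg.Agent.Lib.Unit62Cover55
import Cfsg.Agent.Lib.Unit62Roots55
import Cfsg.Agent.Lib.TransferPow
import Cfsg.Agent.Lib.UnitaryImageFields

/-!
# The preimage of a plane group has no invariant complement to the centre

Such a complement would extend, by two further root subgroups, to a complement in a Sylow 2-subgroup,
which the transfer forbids in a perfect group.
-/

set_option autoImplicit false
set_option linter.unusedSectionVars false
set_option linter.style.haveILetI false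

namespace Cfsg.Agent.Unit62Split55

open Cfsg.Agent.UnitaryF4Geo Cfsg.Agent.UnitaryF4Line Cfsg.Agent.ThreeTransM22Frame72
open Cfsg.Agent.Unit62Code55 Cfsg.Agent.Unit62Plane55 Cfsg.Agent.Unit62Cover55
open Cfsg.Agent.Unit62Roots55
open scoped Pointwise

variable {C : Type*} [Group C] [Finite C] {F : Type} [Field F] [Fintype F] [hF : FourField F]
variable {z : C} {θ : C →* Cfsg.PSU 6 F 2} {e f : Fin 3 → Fin 6 → F}

local notation "act" => OrthUnitaryTransvection.act
local notation "π" => QuotientGroup.mk' (Subgroup.center (Cfsg.SU 6 F 2))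

/-- A complement to the centre in the preimage of a plane group, invariant under its normalizer. -/
structure Hyper (z : C) (θ : C →* Cfsg.PSU 6 F 2) (e : Fin 3 → Fin 6 → F) (E : Subgroup C) :
    Prop where
  le : E ≤ Eh θ e
  card : Nat.card ↥E = 512
  notMem : z ∉ E
  inv : ∀ n ∈ Subgroup.normalizer (Eh θ e : Set C), ∀ x ∈ E, n * x * n⁻¹ ∈ E

/-- Conjugate into the complement. -/
def Good (E : Subgroup C) (y : C) : Prop := ∃ k, k * y * k⁻¹ ∈ E

variable {E : Subgroup C}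

theorem Hyper.good_iff (X : Cov z θ) (hfr : Frame e f) (H : Hyper z θ e E) {y : C}
    (hy : y ∈ Eh θ e) : Good E y ↔ y ∈ E := by
  refine ⟨fun ⟨k, hk⟩ => ?_, fun h => ⟨1, by simpa using h⟩⟩
  obtain ⟨n, hn, e1⟩ := X.fusion (X.big_Eh hfr) hy (H.le hk)
  have := H.inv n⁻¹ ((Subgroup.normalizer _).inv_mem hn) _ hk
  rwa [← e1, show n⁻¹ * (n * y * n⁻¹) * n⁻¹⁻¹ = y by group] at this

theorem good_conj {y c : C} (h : Good E y) : Good E (c * y * c⁻¹) := by
  obtain ⟨k, hk⟩ := h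
  refine ⟨k * c⁻¹, ?_⟩
  rwa [show k * c⁻¹ * (c * y * c⁻¹) * (k * c⁻¹)⁻¹ = k * y * k⁻¹ by group]

theorem Hyper.not_good_z (X : Cov z θ) (H : Hyper z θ e E) : ¬ Good E z := fun ⟨k, hk⟩ => by
  rw [← X.central, mul_inv_cancel_right] at hk
  exact H.notMem hk

theorem Hyper.cases (X : Cov z θ) (hfr : Frame e f) (H : Hyper z θ e E) {y : C}
    (hy : y ∈ Eh θ e) : y ∈ E ∨ z * y ∈ E := by
  have hidx : (E.subgroupOf (Eh θ e)).index = 2 := by
    have h1 := Subgroup.card_mul_index (E.subgroupOf (Eh θ e))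
    rw [Nat.card_congr (Subgroup.subgroupOfEquivOfLe H.le).toEquiv, H.card, X.card_Eh hfr] at h1
    omega
  by_cases h : y ∈ E
  · exact Or.inl h
  · refine Or.inr ?_
    have := (Subgroup.mul_mem_iff_of_index_two hidx (a := ⟨z, X.z_mem e⟩) (b := ⟨y, hy⟩)).mpr
      ⟨fun h' => absurd h' H.notMem, fun h' => absurd h' h⟩
    exact this

variable {e' f' : Fin 3 → Fin 6 → F}

/-- Its image in another plane group. -/
theorem Hyper.transport (X : Cov z θ) (hfr : Frame e f) (H : Hyper z θ e E) (hfr' : Frame e' f') :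
    (∀ x ∈ Eh θ e', Good E x ∨ Good E (z * x)) ∧
      ∀ x ∈ Eh θ e', ∀ y ∈ Eh θ e', Good E x → Good E y → Good E (x * y) := by
  obtain ⟨c, hc⟩ := X.exists_conj hfr' hfr
  refine ⟨fun x hx => ?_, fun x hx y hy gx gy => ?_⟩
  · rcases H.cases X hfr ((hc x).mp hx) with h | h
    · exact Or.inl ⟨c, h⟩
    · refine Or.inr ⟨c, ?_⟩
      rwa [← mul_assoc c z, ← X.central c, mul_assoc z, mul_assoc z]
  · refine ⟨c, ?_⟩
    rw [show c * (x * y) * c⁻¹ = (c * x * c⁻¹) * (c * y * c⁻¹) by group]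
    exact E.mul_mem ((H.good_iff X hfr ((hc x).mp hx)).mp (good_conj gx))
      ((H.good_iff X hfr ((hc y).mp hy)).mp (good_conj gy))

/-- The good lifts of a subgroup of another plane group. -/
def lifted (X : Cov z θ) (hfr : Frame e f) (H : Hyper z θ e E) (hfr' : Frame e' f')
    (R : Subgroup (Cfsg.SU 6 F 2)) : Subgroup C where
  carrier := {x | x ∈ Eh θ e' ∧ Good E x ∧ ∃ g ∈ R, π g = θ x}
  one_mem' := ⟨one_mem _, ⟨1, by simp [E.one_mem]⟩, 1, R.one_mem, by rw [map_one, map_one]⟩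
  mul_mem' := by
    rintro x y ⟨hx, gx, g, hg, eg⟩ ⟨hy, gy, k, hk, ek⟩
    exact ⟨mul_mem hx hy, (H.transport X hfr hfr').2 x hx y hy gx gy, g * k, R.mul_mem hg hk,
      by rw [map_mul, map_mul, eg, ek]⟩
  inv_mem' := by
    intro x hx
    rw [inv_eq_of_mul_eq_one_right (X.Eh_sq hfr' hx.1)]
    exact hx

section
variable (X : Cov z θ) (hfr : Frame e f) (H : Hyper z θ e E) (hfr' : Frame e' f')
variable {R : Subgroup (Cfsg.SU 6 F 2)}

theorem lifted_exists (hR : R ≤ P e') {g : Cfsg.SU 6 F 2} (hg : g ∈ R) :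
    ∃ x ∈ lifted X hfr H hfr' R, θ x = π g := by
  obtain ⟨x, hx⟩ := X.surj (π g)
  have hxe : x ∈ Eh θ e' := mem_Eh.mpr ⟨g, hR hg, hx.symm⟩
  rcases (H.transport X hfr hfr').1 x hxe with h | h
  · exact ⟨x, ⟨hxe, h, g, hg, hx.symm⟩, hx⟩
  · have hz : θ (z * x) = π g := by rw [map_mul, X.theta_z, one_mul, hx]
    exact ⟨z * x, ⟨mul_mem (X.z_mem e') hxe, h, g, hg, hz.symm⟩, hz⟩

theorem lifted_card : Nat.card ↥(lifted X hfr H hfr' R) ≤ Nat.card ↥R := by
  choose g hg eg using fun x : ↥(lifted X hfr H hfr' R) => x.2.2.2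
  refine Nat.card_le_card_of_injective (fun x => (⟨g x, hg x⟩ : ↥R)) fun x y h => ?_
  have hh : g x = g y := congrArg Subtype.val h
  have e1 : θ (x : C) = θ (y : C) := by rw [← eg x, ← eg y, hh]
  rcases X.fib e1 with h' | h'
  · exact Subtype.ext h'
  · exfalso
    refine H.not_good_z X ?_
    have hgood := (H.transport X hfr hfr').2 x x.2.1 y y.2.1 x.2.2.1 y.2.2.1
    rwa [h', mul_assoc, X.Eh_sq hfr' y.2.1, mul_one] at hgood

end

/-- Lifts of elements stabilising the plane normalise its preimage. -/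
theorem normalizer_of (X : Cov z θ) {x : C} {g : Cfsg.SU 6 F 2} (hx : θ x = π g)
    (hg : ∀ k, k ∈ P e ↔ g * k * g⁻¹ ∈ P e) : x ∈ Subgroup.normalizer (Eh θ e : Set C) :=
  Subgroup.mem_normalizer_iff.mpr fun a => Eh_conj hx hg a

theorem center_eq_one_of_act {l : Cfsg.SU 6 F 2} (hl : l ∈ Subgroup.center (Cfsg.SU 6 F 2))
    {v : Fin 6 → F} (hv : v ≠ 0) (h : act l v = v) : l = 1 := by
  obtain ⟨s, hs⟩ := exists_scalar (n := 6) (by norm_num) hl
  have h1 : s = 1 := by
    rw [hs] at h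
    by_contra hne
    exact hv ((smul_eq_zero.mp (show (s - 1) • v = 0 by rw [sub_smul, one_smul, h, sub_self])).resolve_left
      (sub_ne_zero.mpr hne))
  refine OrthUnitaryTransvection.su_ext fun x => ?_
  rw [hs, h1, one_smul, OrthUnitaryTransvection.act_one]

/-- The three factors are independent modulo the centre. -/
theorem triple_injective (hfr : Frame e f) {g₁ g₁' g₂ g₂' p p' : Cfsg.SU 6 F 2} {b c b' c' a a' : F}
    (hp : p ∈ P e) (hp' : p' ∈ P e) (h₁ : Is₁ e f g₁ b c) (h₁' : Is₁ e f g₁' b' c')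
    (h₂ : Is₂ e f g₂ a) (h₂' : Is₂ e f g₂' a') (hπ : π (p * g₁ * g₂) = π (p' * g₁' * g₂')) :
    a = a' ∧ (b = b' ∧ c = c') := by
  obtain ⟨l, hl, e1⟩ := (QuotientGroup.mk'_eq_mk' _).mp hπ
  have v0 : ∀ {p g k : Cfsg.SU 6 F 2} {b c a : F}, p ∈ P e → Is₁ e f g b c → Is₂ e f k a →
      act (p * g * k) (e 0) = e 0 := fun hp h1 h2 => by
    rw [OrthUnitaryTransvection.act_mul, OrthUnitaryTransvection.act_mul, h2.e0, h1.e0, hp 0]
  have hl1 : l = 1 := by
    refine center_eq_one_of_act hl (hfr.ne_zero 0) ?_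
    have : act (p * g₁ * g₂ * l) (e 0) = act (p' * g₁' * g₂') (e 0) := by rw [e1]
    rw [v0 hp' h₁' h₂', OrthUnitaryTransvection.act_mul] at this
    have hh : act (p * g₁ * g₂) (act l (e 0)) = act l (act (p * g₁ * g₂) (e 0)) := by
      rw [← OrthUnitaryTransvection.act_mul, ← OrthUnitaryTransvection.act_mul,
        Subgroup.mem_center_iff.mp hl]
    rwa [hh, v0 hp h₁ h₂] at this
  rw [hl1, mul_one] at e1
  have v1 : ∀ {p g k : Cfsg.SU 6 F 2} {b c a : F}, p ∈ P e → Is₁ e f g b c → Is₂ e f k a →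
      act (p * g * k) (e 1) = e 1 + a • e 0 ∧
        act (p * g * k) (e 2) = e 2 + c • e 0 + b • e 1 := fun hp h1 h2 => by
    constructor
    · rw [OrthUnitaryTransvection.act_mul, OrthUnitaryTransvection.act_mul, h2.e1]
      simp only [OrthUnitaryTransvection.act_add, OrthUnitaryTransvection.act_smul, h1.e1, h1.e0,
        hp 0, hp 1]
    · rw [OrthUnitaryTransvection.act_mul, OrthUnitaryTransvection.act_mul, h2.e2, h1.e2]
      simp only [OrthUnitaryTransvection.act_add, OrthUnitaryTransvection.act_smul, hp 0, hp 1, hp 2]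
  obtain ⟨A1, A2⟩ := v1 hp h₁ h₂
  obtain ⟨B1, B2⟩ := v1 hp' h₁' h₂'
  rw [e1] at A1 A2
  have q1 := congrArg (fun v => h v (f 0)) (A1.symm.trans B1)
  have q2 := congrArg (fun v => h v (f 0)) (A2.symm.trans B2)
  have q3 := congrArg (fun v => h v (f 1)) (A2.symm.trans B2)
  simp only [h_add_left, h_smul_left, hfr.ef, Fin.reduceEq, if_false, if_true, mul_one, mul_zero,
    zero_add, add_zero] at q1 q2 q3
  exact ⟨q1, q3, q2⟩

theorem card_C (X : Cov z θ) : Nat.card C = 2 * 9196830720 := by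
  have h1 := Subgroup.card_mul_index θ.ker
  rw [Subgroup.index_ker, MonoidHom.range_eq_top.mpr X.surj, Subgroup.card_top,
    UnitaryImageFields.card_PSU62 hF.card_eq] at h1
  have h2 : Nat.card ↥θ.ker = 2 := by
    classical
    have hset : (θ.ker : Set C) = {1, z} := Set.ext fun x => by
      simp [MonoidHom.mem_ker, X.ker x]
    show Nat.card ↥(θ.ker : Set C) = 2
    rw [Nat.card_coe_set_eq, hset, Set.ncard_pair X.ne.symm]
  rw [h2] at h1
  exact h1.symm

theorem card_sup_le {L Q : Subgroup C} (h : ∀ q ∈ Q, q ∈ Subgroup.normalizer (L : Set C)) :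
    Nat.card ↥(L ⊔ Q) ≤ Nat.card ↥L * Nat.card ↥Q := by
  rw [show Nat.card ↥(L ⊔ Q) = Nat.card ↥((L ⊔ Q : Subgroup C) : Set C) from rfl,
    Subgroup.coe_mul_of_right_le_normalizer_left L Q h]
  exact Set.natCard_mul_le

theorem mem_normalizer_of_finite {L : Subgroup C} {q : C} (h : ∀ x ∈ L, q * x * q⁻¹ ∈ L) :
    q ∈ Subgroup.normalizer (L : Set C) := by
  refine Subgroup.mem_normalizer_iff.mpr fun x => ⟨h x, fun hx => ?_⟩
  let ψ : ↥L → ↥L := fun x => ⟨q * x.1 * q⁻¹, h x.1 x.2⟩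
  obtain ⟨y, hy⟩ := (Finite.injective_iff_surjective (f := ψ)).mp (fun a b hab =>
    Subtype.ext (mul_left_cancel (mul_right_cancel (congrArg Subtype.val hab)))) ⟨_, hx⟩
  rw [← mul_left_cancel (mul_right_cancel (congrArg Subtype.val hy))]
  exact y.2

theorem no_hyper (X : Cov z θ) (hfr : Frame e f) (H : Hyper z θ e E) : False := by
  classical
  set Q₁ := lifted X hfr H (frame_one hfr) (R₁ hfr) with hQ₁
  set Q₂ := lifted X hfr H (frame_two hfr) (R₂ hfr) with hQ₂
  have n1 : ∀ q ∈ Q₁, q ∈ Subgroup.normalizer (Eh θ e : Set C) := fun q hq => by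
    obtain ⟨g, hg, eg⟩ := hq.2.2
    obtain ⟨b, c, hb⟩ := is₁ hfr hg
    exact normalizer_of X eg.symm (norm₁ hfr hb)
  have n2 : ∀ q ∈ Q₂, q ∈ Subgroup.normalizer (Eh θ e : Set C) := fun q hq => by
    obtain ⟨g, hg, eg⟩ := hq.2.2
    obtain ⟨a, ha⟩ := is₂ hfr hg
    exact normalizer_of X eg.symm (norm₂ hfr ha)
  have q1 : ∀ q ∈ Q₁, q ∈ Subgroup.normalizer (E : Set C) := fun q hq =>
    mem_normalizer_of_finite (H.inv q (n1 q hq))
  have hL : ∀ q ∈ Q₂, q ∈ Subgroup.normalizer ((E ⊔ Q₁ : Subgroup C) : Set C) := fun q hq => by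
    refine mem_normalizer_of_finite fun x hx => ?_
    have hle : (E ⊔ Q₁).map (MulAut.conj q).toMonoidHom ≤ E ⊔ Q₁ := by
      rw [Subgroup.map_sup]
      refine sup_le ?_ ?_
      · rintro _ ⟨y, hy, rfl⟩
        exact Subgroup.mem_sup_left (H.inv q (n2 q hq) y hy)
      · rintro _ ⟨y, ⟨hy, gy, g, hg, eg⟩, rfl⟩
        obtain ⟨k, hk, ek⟩ := hq.2.2
        have hkg := conj₁₂ hfr hk hg
        refine Subgroup.mem_sup_right ⟨mem_Eh.mpr ⟨k * g * k⁻¹, hkg.1, ?_⟩, good_conj gy,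
          k * g * k⁻¹, hkg, ?_⟩ <;>
          simp [MulAut.conj_apply, ← eg, ← ek]
    exact hle ⟨x, hx, rfl⟩
  set K := E ⊔ Q₁ ⊔ Q₂ with hK
  have hKle : Nat.card ↥K ≤ 32768 := by
    have c1 := card_sup_le hL
    have c2 := card_sup_le (L := E) (Q := Q₁) q1
    have c3 := (lifted_card X hfr H (frame_one hfr) (R := R₁ hfr)).trans (card_R₁ hfr)
    have c4 := (lifted_card X hfr H (frame_two hfr) (R := R₂ hfr)).trans (card_R₂ hfr)
    rw [H.card] at c2
    calc Nat.card ↥K ≤ Nat.card ↥(E ⊔ Q₁) * Nat.card ↥Q₂ := c1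
      _ ≤ 512 * 16 * 4 := Nat.mul_le_mul (c2.trans (Nat.mul_le_mul le_rfl c3)) c4
  -- the image of `K`
  choose g₁ hg₁ hb₁ using fun p : F × F => exists₁ hfr p.1 p.2
  choose g₂ hg₂ hb₂ using fun a : F => exists₂ hfr a
  let Φ : ↥(P e) × (F × F) × F → ↥(K.map θ) := fun p => ⟨π (p.1.1 * g₁ p.2.1 * g₂ p.2.2), by
    obtain ⟨x, hx⟩ := X.surj (π p.1.1)
    have hxe : x ∈ Eh θ e := mem_Eh.mpr ⟨_, p.1.2, hx.symm⟩
    obtain ⟨x', hx', ex'⟩ : ∃ x' ∈ E, θ x' = π p.1.1 := by
      rcases H.cases X hfr hxe with h | h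
      · exact ⟨x, h, hx⟩
      · exact ⟨z * x, h, by rw [map_mul, X.theta_z, one_mul, hx]⟩
    obtain ⟨y, hy, ey⟩ := lifted_exists X hfr H (frame_one hfr) (R := R₁ hfr) (fun g hg => hg.1) (hg₁ p.2.1)
    obtain ⟨w, hw, ew⟩ := lifted_exists X hfr H (frame_two hfr) (R := R₂ hfr) (fun g hg => hg.1) (hg₂ p.2.2)
    exact ⟨x' * y * w, K.mul_mem (K.mul_mem (Subgroup.mem_sup_left (Subgroup.mem_sup_left hx'))
      (Subgroup.mem_sup_left (Subgroup.mem_sup_right hy))) (Subgroup.mem_sup_right hw),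
      by simp only [map_mul, ex', ey, ew]⟩⟩
  have hΦ : Function.Injective Φ := by
    rintro ⟨p, bc, a⟩ ⟨p', bc', a'⟩ h
    have h' : π (p.1 * g₁ bc * g₂ a) = π (p'.1 * g₁ bc' * g₂ a') := congrArg Subtype.val h
    obtain ⟨r1, r2, r3⟩ := triple_injective hfr p.2 p'.2 (hb₁ bc) (hb₁ bc') (hb₂ a) (hb₂ a') h'
    have r : bc = bc' := Prod.ext r2 r3
    subst r1 r
    have h'' : π p.1 = π p'.1 := by
      simp only [map_mul] at h'
      exact mul_right_cancel (mul_right_cancel h')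
    rw [Subtype.ext (pi_inj (congrArg Subtype.val (sq_one hfr p)) (congrArg Subtype.val (sq_one hfr p'))
      h'')]
  have hKge : 32768 ≤ Nat.card ↥(K.map θ) := by
    refine le_trans (le_of_eq ?_) (Nat.card_le_card_of_injective Φ hΦ)
    rw [Nat.card_prod, Nat.card_prod, Nat.card_prod, card_P hfr, Nat.card_eq_fintype_card, hF.card_eq]
  have hinj : Function.Injective (θ.subgroupMap K) := by
    refine Nat.bijective_iff_surjective_and_card _ |>.mpr ⟨θ.subgroupMap_surjective K, ?_⟩ |>.1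
    exact le_antisymm (hKle.trans hKge)
      (Nat.card_le_card_of_surjective _ (θ.subgroupMap_surjective K))
  have hzK : z ∉ K := fun h => X.ne (congrArg Subtype.val
    (hinj (a₁ := ⟨z, h⟩) (a₂ := 1) (Subtype.ext (by simpa using X.theta_z))))
  have hKcard : Nat.card ↥K = 32768 :=
    le_antisymm hKle (hKge.trans (Nat.card_le_card_of_surjective _ (θ.subgroupMap_surjective K)))
  set S : Subgroup C := K ⊔ Subgroup.zpowers z with hS
  have hzS : z ∈ S := Subgroup.mem_sup_right (Subgroup.mem_zpowers z)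
  have hzc : ∀ q ∈ Subgroup.zpowers z, q ∈ Subgroup.normalizer (K : Set C) := fun q hq => by
    obtain ⟨n, rfl⟩ := Subgroup.mem_zpowers_iff.mp hq
    have hc : ∀ x, Commute (z ^ n) x := fun x => Commute.zpow_left (X.central x) n
    exact mem_normalizer_of_finite fun x hx => by rwa [(hc x).eq, mul_inv_cancel_right]
  have hoz : orderOf z = 2 := orderOf_eq_prime (by rw [pow_two, X.zz]) X.ne
  have hScard : Nat.card ↥S = 65536 := by
    have up : Nat.card ↥S ≤ 65536 := by
      have := card_sup_le (L := K) (Q := Subgroup.zpowers z) hzc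
      rw [hKcard, Nat.card_zpowers, hoz] at this
      exact this
    have hlt : K < S := lt_of_le_of_ne le_sup_left fun h => hzK (h ▸ hzS)
    have hd := Subgroup.card_dvd_of_le hlt.le
    rw [hKcard] at hd
    have hne : Nat.card ↥S ≠ 32768 := fun h =>
      hlt.ne (Subgroup.eq_of_le_of_card_ge hlt.le (by rw [h, hKcard]))
    have hpos : 0 < Nat.card ↥S := Nat.card_pos
    omega
  have hindex : S.index = 280665 := by
    have := Subgroup.card_mul_index S
    rw [hScard, card_C X] at this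
    omega
  have h2 : (K.subgroupOf S).index = 2 := by
    have := Subgroup.card_mul_index (K.subgroupOf S)
    rw [Nat.card_congr (Subgroup.subgroupOfEquivOfLe le_sup_left).toEquiv, hKcard, hScard] at this
    omega
  let ψ : ↥S →* ℤˣ := MonoidHom.mk' (fun s => if s ∈ K.subgroupOf S then 1 else -1) fun a b => by
    have := Subgroup.mul_mem_iff_of_index_two h2 (a := a) (b := b)
    by_cases ha : a ∈ K.subgroupOf S <;> by_cases hb : b ∈ K.subgroupOf S <;> simp_all
  have key := TransferPow.central_pow_index_eq_one ψ ⟨z, hzS⟩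
    (Subgroup.mem_center_iff.mpr fun x => (X.central x).symm)
    (by rw [Group.isPerfect_def.mp X.perfect]; exact Subgroup.mem_top z)
  have hψ : ψ ⟨z, hzS⟩ = -1 := by
    simp only [ψ, MonoidHom.mk'_apply]
    exact if_neg fun h => hzK (Subgroup.mem_subgroupOf.mp h)
  rw [hψ, hindex, Odd.neg_one_pow (by decide)] at key
  exact absurd key (by decide)

end Cfsg.Agent.Unit62Split55
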