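import Cfsg.Agent.Lib.ThreeTransM22CoverCount72
import Cfsg.Agent.Lib.ThreeTransM22Order72
import Cfsg.Agent.Lib.Unit62Split55

/-!
# No perfect double cover of type M(22) separates the lifts of triples

If the lifts of triples fall into two classes, suitable lifts of the members of a maximal commuting set
generate a complement to the centre; then so do the lifts of the members commuting with one member and,
adjoining an involution exchanging two members, a complement in a subgroup of odd index. The transfer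
forbids this in a perfect group.
-/

set_option autoImplicit false
set_option linter.unusedSectionVars false
set_option linter.style.haveILetI false

namespace Cfsg.Agent.ThreeTransM22Split72

open Subgroup Cfsg.Agent.ThreeTransRel Cfsg.Agent.ThreeTransDescent
open Cfsg.Agent.UnitaryF4Geo Cfsg.Agent.UnitaryF4Line
open Cfsg.Agent.ThreeTransM22Local72 Cfsg.Agent.ThreeTransM22Frame72 Cfsg.Agent.ThreeTransM22Lift72
open Cfsg.Agent.ThreeTransM22Outer72 Cfsg.Agent.ThreeTransM22Std72
open Cfsg.Agent.ThreeTransM22Block72 Cfsg.Agent.M22BlockCode72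
open Cfsg.Agent.ThreeTransM22Cover72 Cfsg.Agent.ThreeTransM22CoverCount72
open Cfsg.Agent.Unit62Code55 Cfsg.Agent.Unit62Plane55

variable {C Q : Type*} [Group C] [Group Q] [Finite C] [Finite Q]
variable {p : C →* Q} {z x₀ : C} {E B : Set Q}

section label

theorem label_mul_z (X : Cov p z E) (hx : p x₀ ∈ E) {t : Q} (ht : t ∈ E) :
    sig p (x₀ * z) t = sig p x₀ t * z := by
  obtain ⟨h1, h2⟩ := X.sig_spec hx ht
  obtain ⟨g, hg⟩ := isConj_iff.mp h1
  have := X.sig_unique (x₀ := x₀ * z) (by rwa [X.map_mul_z]) (y := sig p x₀ t * z)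
    (isConj_iff.mpr ⟨g, by rw [X.conj_z, hg]⟩)
  rwa [X.map_mul_z, h2] at this

theorem six_eq (X : Cov p z E) (hx : p x₀ ∈ E) (hB : Blk E B)
    (hex : ∀ v ∈ V3 p x₀ B, v * z ∉ V3 p x₀ B) {a b c a' b' c' : C}
    (h : a * b * c ∈ V3 p x₀ B) (h' : a' * b' * c' ∈ V3 p x₀ B)
    (hs : (a' * b' * c') * (a' * b' * c') = 1) (e : p (a * b * c * (a' * b' * c')) = 1) :
    a * b * c * (a' * b' * c') = 1 := by
  have e' : p (a * b * c) = p (a' * b' * c') := by
    calc p (a * b * c) = p (a * b * c * (a' * b' * c') * (a' * b' * c')) := by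
          rw [mul_assoc _ _ (a' * b' * c'), hs, mul_one]
      _ = p (a' * b' * c') := by rw [map_mul, e, one_mul]
  rcases X.fib e' with h1 | h1
  · rw [h1, hs]
  · exact absurd (h1 ▸ h) (hex _ h')

/-- With separated triples, one of the two labellings makes all relations hold exactly. -/
theorem exists_label (X : Cov p z E) (hx : p x₀ ∈ E) (hB : Blk E B)
    (hex : ∀ v ∈ V3 p x₀ B, v * z ∉ V3 p x₀ B) :
    ∃ x₁ : C, p x₁ ∈ E ∧ z ∉ closure (sig p x₁ '' B) := by
  classical
  obtain ⟨a, ha⟩ := block_nonempty X.grp X.prim X.m22 hB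
  obtain ⟨x, m, -⟩ := exists_model X.grp X.prim X.m22 hB ha
  set y : Fin 22 → C := fun i => sig p x₀ (x i)
  have hy : ∀ i, p (y i) = x i := fun i => (X.sig_spec hx (hB.sub (m.mem i))).2
  have hI : Inv y := ⟨fun i j => X.blk_comm hx hB (m.mem i) (m.mem j), fun i => X.sig_sq hx (hB.sub (m.mem i))⟩
  have hp1 : ∀ k : ℕ, k < 23 → p (val y (rels.getD k 0)) = 1 := fun k hk => by
    rw [map_val, show (fun i => p (y i)) = x from funext hy]; exact m.rep.rel k hk
  have hV : ∀ i j k : Fin 22, i ≠ j → i ≠ k → j ≠ k → y i * y j * y k ∈ V3 p x₀ B := fun i j k h1 h2 h3 =>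
    ⟨_, m.mem i, _, m.mem j, _, m.mem k, m.inj.ne h1, m.inj.ne h2, m.inj.ne h3, rfl⟩
  have hsq3 : ∀ i j k : Fin 22, y i * y j * y k * (y i * y j * y k) = 1 := fun i j k => by
    rw [((hI.comm i k).mul_left (hI.comm j k)).symm.mul_mul_mul_comm, (hI.comm i j).symm.mul_mul_mul_comm,
      hI.sq, hI.sq, hI.sq, one_mul, one_mul]
  have hsix : ∀ i j k i' j' k' : Fin 22, i ≠ j → i ≠ k → j ≠ k → i' ≠ j' → i' ≠ k' → j' ≠ k' →
      p (y i * y j * y k * (y i' * y j' * y k')) = 1 → y i * y j * y k * (y i' * y j' * y k') = 1 :=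
    fun i j k i' j' k' h1 h2 h3 h4 h5 h6 e => six_eq X hx hB hex (hV i j k h1 h2 h3) (hV i' j' k' h4 h5 h6)
      (hsq3 i' j' k') e
  have hv : ∀ (i : Fin 22) (n : ℕ), n = (i : ℕ) → val y (2 ^ n) = y i := fun i n e => by
    subst e; exact val_pow y i
  have hline : ∀ k : Fin 21, val y (rels.getD k 0) = 1 := by
    intro k
    have e := hp1 k (by omega)
    have hcv : ∀ i : Fin 21, val y (2 ^ (i : ℕ)) = y i.castSucc := fun i => val_pow y i.castSucc
    rw [line_rel] at e ⊢
    simp only [hI.val_xor] at e ⊢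
    rw [hv 21 21 rfl, hcv, hcv, hcv, hcv, hcv] at e ⊢
    have hl : ∀ s t : Fin 5, s ≠ t → (line k s).castSucc ≠ (line k t).castSucc := fun s t h h' =>
      h (line_inj k s t (Fin.castSucc_injective _ h'))
    have hn : ∀ t : Fin 5, (21 : Fin 22) ≠ (line k t).castSucc := fun t h =>
      Fin.castSucc_ne_last (line k t) h.symm
    simp only [mul_assoc] at e ⊢
    have := hsix 21 (line k 0).castSucc (line k 1).castSucc (line k 2).castSucc (line k 3).castSucc
      (line k 4).castSucc (hn 0) (hn 1) (hl 0 1 (by decide)) (hl 2 3 (by decide)) (hl 2 4 (by decide))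
      (hl 3 4 (by decide)) (by simpa only [mul_assoc] using e)
    simpa only [mul_assoc] using this
  have hgood : val y (rels.getD 21 0) = 1 := by
    have e := hp1 21 (by norm_num)
    rw [oval_rel.1] at e ⊢
    simp only [hI.val_xor] at e ⊢
    rw [hv 12 12 rfl, hv 17 17 rfl, hv 19 19 rfl, hv 0 0 rfl, hv 1 1 rfl, hv 2 2 rfl] at e ⊢
    simp only [mul_assoc] at e ⊢
    have := hsix 12 17 19 0 1 2 (by decide) (by decide) (by decide) (by decide) (by decide) (by decide)
      (by simpa only [mul_assoc] using e)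
    simpa only [mul_assoc] using this
  have hrep : ∀ x₁ : C, p x₁ ∈ E → Rep (fun i => sig p x₁ (x i)) → z ∉ closure (sig p x₁ '' B) := by
    intro x₁ hx₁ hR hz
    have hr : Set.range (fun i => sig p x₁ (x i)) = sig p x₁ '' B := by
      rw [← m.range_eq, ← Set.range_comp]; rfl
    have h := hR.card_le
    rw [hr] at h
    have hle : (closure B).comap p ≤ closure (sig p x₁ '' B) := by
      rw [X.preimage_eq hx₁ hB, closure_le]
      rintro w (rfl | hw)
      · exact hz
      · exact subset_closure hw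
    have := Subgroup.card_le_of_le hle
    rw [X.card_preimage hB] at this
    omega
  rcases X.ker _ (hp1 22 (by norm_num)) with h22 | h22
  · refine ⟨x₀, hx, hrep x₀ hx ⟨hI, fun k hk => ?_⟩⟩
    rcases (show k < 21 ∨ k = 21 ∨ k = 22 by omega) with h | rfl | rfl
    exacts [hline ⟨k, h⟩, hgood, h22]
  · have hx₁ : p (x₀ * z) ∈ E := by rwa [X.map_mul_z]
    refine ⟨x₀ * z, hx₁, hrep _ hx₁ ?_⟩
    have hfun : (fun i => sig p (x₀ * z) (x i)) = fun i => y i * z :=
      funext fun i => label_mul_z X hx (hB.sub (m.mem i))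
    rw [hfun]
    have hI' : Inv fun i => y i * z :=
      ⟨fun i j => ((hI.comm i j).mul_right (X.central _).symm).mul_left
          ((X.central _).mul_right (Commute.refl z)),
        fun i => by rw [(X.central (y i)).mul_mul_mul_comm, hI.sq, X.zz, one_mul]⟩
    refine ⟨hI', fun k hk => ?_⟩
    -- the change is the parity
    have hz : ∀ r : ℕ, val (fun i => y i * z) r = val y r * val (fun _ => z) r := fun r => by
      simp only [val]
      rw [← prod_map_mul]
      · refine congrArg List.prod (List.map_congr_left fun i _ => ?_)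
        split <;> simp
      · intro i _ j _
        split <;> split <;> first | exact Commute.one_left _ | exact Commute.one_right _ | exact X.central _
    have hIz : Inv (fun _ : Fin 22 => z) := ⟨fun _ _ => Commute.refl z, fun _ => X.zz⟩
    have hzv : ∀ (i : Fin 22) (n : ℕ), n = (i : ℕ) → val (fun _ : Fin 22 => z) (2 ^ n) = z := fun i n e => by
      subst e; exact val_pow _ i
    rw [hz]
    rcases (show k < 21 ∨ k = 21 ∨ k = 22 by omega) with h | rfl | rfl
    · rw [hline ⟨k, h⟩, one_mul, show rels.getD k 0 = rels.getD (⟨k, h⟩ : Fin 21) 0 from rfl, line_rel]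
      simp only [hIz.val_xor]
      have hzc : ∀ i : Fin 21, val (fun _ : Fin 22 => z) (2 ^ (i : ℕ)) = z := fun i => val_pow _ i.castSucc
      rw [hzv 21 21 rfl, hzc, hzc, hzc, hzc, hzc]
      simp [X.zz]
    · rw [hgood, one_mul, oval_rel.1]
      simp only [hIz.val_xor]
      rw [hzv 12 12 rfl, hzv 17 17 rfl, hzv 19 19 rfl, hzv 0 0 rfl, hzv 1 1 rfl, hzv 2 2 rfl]
      simp [X.zz]
    · rw [h22, oval_rel.2]
      simp only [hIz.val_xor]
      rw [hzv 13 13 rfl, hzv 15 15 rfl, hzv 20 20 rfl, hzv 0 0 rfl, hzv 1 1 rfl, hzv 2 2 rfl, hzv 21 21 rfl]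
      simp [X.zz]

theorem notMem_block (X : Cov p z E) (hx : p x₀ ∈ E) (hB : Blk E B)
    (hz : z ∉ closure (sig p x₀ '' B)) {B' : Set Q} (hB' : Blk E B') :
    z ∉ closure (sig p x₀ '' B') := by
  intro h
  obtain ⟨t, ht⟩ := block_conj X.grp X.prim X.m22 hB' hB
  obtain ⟨g, rfl⟩ := X.surj t
  apply hz
  have hle : (closure (sig p x₀ '' B')).map (MulAut.conj g).toMonoidHom ≤ closure (sig p x₀ '' B) := by
    rw [MonoidHom.map_closure, ← Set.image_comp]
    refine closure_mono ?_
    rintro _ ⟨s, hs, rfl⟩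
    exact ⟨_, ht ▸ ⟨s, hs, rfl⟩, (X.sig_conj hx (hB'.sub hs) g).symm⟩
  have h2 : MulAut.conj g z = z := mul_inv_eq_iff_eq_mul.mpr (X.central g).eq.symm
  exact h2 ▸ hle ⟨z, h, rfl⟩

end label

section chart

variable {G : Type*} [Group G] [Finite G] {D : Set G} {F : Type} [Field F] [Fintype F] [hF : FourField F]
variable {d : G} {φ : ↥(loc D d) →* Cfsg.PSU 6 F 2}

local notation "π" => QuotientGroup.mk' (Subgroup.center (Cfsg.SU 6 F 2))

variable (X : Ctx D d φ)
include X

/-- The local map sends the members of a plane onto its group. -/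
theorem plane_image {e f : Fin 3 → Fin 6 → F} (hfr : Frame e f) :
    (P e).map π ≤ ((closure (Set.range fun i : Fin 21 =>
      Chart.L X.chart (comb e (vec (pv i))))).subgroupOf (loc D d)).map φ := by
  rintro _ ⟨g, hg, rfl⟩
  set M := ((closure (Set.range fun i : Fin 21 =>
      Chart.L X.chart (comb e (vec (pv i))))).subgroupOf (loc D d)).map φ
  have hone : ∀ i : Fin 21, π (tp hfr i).1 ∈ M := fun i =>
    ⟨⟨_, near_le_loc (L_mem X (hfr.h_ee _ _) (comb_ne X hfr (vec_pv_ne i)))⟩,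
      subset_closure ⟨i, rfl⟩, L_img X (hfr.h_ee _ _) (comb_ne X hfr (vec_pv_ne i))⟩
  by_cases h0 : code hfr ⟨g, hg⟩ = 0
  · have h1 : (⟨g, hg⟩ : ↥(P e)) = 1 := code_injective hfr (h0.trans (code_one hfr).symm)
    rw [show g = 1 from congrArg Subtype.val h1, map_one]
    exact one_mem _
  rcases elem_cases (code_lt hfr ⟨g, hg⟩) h0 with ⟨i, hi⟩ | ⟨i, j, -, hi⟩ | ⟨i, j, k, -, hi⟩
  · rw [show g = (tp hfr i).1 from congrArg Subtype.val
      (code_injective hfr (a₁ := ⟨g, hg⟩) (hi.trans (code_tp hfr i).symm))]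
    exact hone i
  · rw [show g = (tp hfr i * tp hfr j).1 from congrArg Subtype.val
      (code_injective hfr (a₁ := ⟨g, hg⟩) (a₂ := tp hfr i * tp hfr j)
        (by rw [hi, code_mul, code_tp, code_tp]))]
    rw [Subgroup.coe_mul, map_mul]
    exact mul_mem (hone i) (hone j)
  · rw [show g = (tp hfr i * tp hfr j * tp hfr k).1 from congrArg Subtype.val
      (code_injective hfr (a₁ := ⟨g, hg⟩) (a₂ := tp hfr i * tp hfr j * tp hfr k)
        (by rw [hi, code_mul, code_mul, code_tp, code_tp, code_tp]))]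
    rw [Subgroup.coe_mul, Subgroup.coe_mul, map_mul, map_mul]
    exact mul_mem (mul_mem (hone i) (hone j)) (hone k)

/-- The members of a plane with `d` generate the preimage of its group. -/
theorem block_preimage {e f : Fin 3 → Fin 6 → F} (hfr : Frame e f) {B : Set G}
    (hrange : Set.range (mem22 X e) = B) (k : ↥(loc D d)) :
    (k : G) ∈ closure B ↔ φ k ∈ (P e).map π := by
  have hdB : d ∈ B := hrange ▸ ⟨21, mem22_last X e⟩
  have hsub : (Set.range fun i : Fin 21 => Chart.L X.chart (comb e (vec (pv i)))) ⊆ B := by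
    rintro _ ⟨i, rfl⟩
    exact hrange ▸ ⟨i.castSucc, mem22_cast X e i⟩
  constructor
  · intro hk
    have hle : closure B ≤ (((P e).map π).comap φ).map (loc D d).subtype := by
      refine (closure_le _).mpr ?_
      rw [← hrange]
      rintro _ ⟨i, rfl⟩
      induction i using Fin.lastCases with
      | last =>
        refine ⟨⟨d, X.self d X.mem⟩, ?_, (mem22_last X e).symm⟩
        show φ ⟨d, X.self d X.mem⟩ ∈ (P e).map π
        rw [(X.chart.one _).mpr fun y hy => hy.2.2.symm]
        exact one_mem _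
      | cast i =>
        exact ⟨⟨_, near_le_loc (L_mem X (hfr.h_ee _ _) (comb_ne X hfr (vec_pv_ne i)))⟩,
          ⟨_, (tp hfr i).2, (L_img X (hfr.h_ee _ _) (comb_ne X hfr (vec_pv_ne i))).symm⟩,
          (mem22_cast X e i).symm⟩
    obtain ⟨k', hk', e'⟩ := hle hk
    rwa [show k' = k from Subtype.ext e'] at hk'
  · intro hk
    obtain ⟨k', hk', e'⟩ := plane_image X hfr hk
    have h1 : φ (k * k'⁻¹) = 1 := by rw [map_mul, map_inv, e', mul_inv_cancel]
    have h2 : (k' : G) ∈ closure B := closure_mono hsub hk'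
    rcases X.ker h1 with h | h <;> rw [Subgroup.coe_mul, Subgroup.coe_inv, mul_inv_eq_iff_eq_mul] at h <;> rw [h]
    · rwa [one_mul]
    · exact mul_mem (subset_closure hdB) h2

end chart

section local_split

theorem commutator_psu {F : Type} [Field F] [Fintype F] [hF : FourField F] :
    commutator (Cfsg.PSU 6 F 2) = ⊤ := by
  have hF' : Fintype.card F = 2 ^ 2 := by rw [hF.card_eq]; norm_num
  have hperf : commutator (Cfsg.SU 6 F 2) = ⊤ :=
    OrthUnitaryPSU.commutator_eq_top hF' (by norm_num) (by norm_num)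
  rw [← top_le_iff]
  have hsur : Function.Surjective (QuotientGroup.mk' (Subgroup.center (Cfsg.SU 6 F 2))) :=
    QuotientGroup.mk'_surjective _
  have h := congrArg (Subgroup.map (QuotientGroup.mk' (Subgroup.center (Cfsg.SU 6 F 2)))) hperf
  rw [commutator_def, Subgroup.map_commutator, Subgroup.map_top_of_surjective _ hsur] at h
  rw [commutator_def]
  exact h.ge

/-- The exact lifts of the members commuting with one member do not generate the central involution. -/
theorem notMem_local (X : Cov p z E) (hx : p x₀ ∈ E)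
    (hsplit : ∀ B, Blk E B → z ∉ closure (sig p x₀ '' B)) {t : Q} (ht : t ∈ E) :
    z ∉ closure (sig p x₀ '' (insert t (near E t))) := by
  classical
  obtain ⟨F, _, _, hF, hctx⟩ := exists_ctx X.grp X.prim X.m22
  obtain ⟨φ, Z⟩ := hctx t ht
  obtain ⟨B, hB, hBt⟩ := exists_block_through X.grp X.prim X.m22 (T := {t}) (by simpa using ht) (by simp)
  rw [Set.singleton_subset_iff] at hBt
  obtain ⟨e, f, hfr, hinj, hrange, -, -⟩ := exists_rep Z X.grp X.m22 hB hBt
  set K := closure (sig p x₀ '' B)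
  have hzK : z ∉ K := hsplit B hB
  set Y := (loc E t).comap p
  set y₀ := sig p x₀ t
  have hy₀ : p y₀ = t := (X.sig_spec hx ht).2
  have hy₀Y : y₀ ∈ Y := by show p y₀ ∈ loc E t; rw [hy₀]; exact Z.self t ht
  have hzY : z ∈ Y := by show p z ∈ loc E t; rw [X.map_z]; exact one_mem _
  have hcomm : ∀ c ∈ Y, Commute c y₀ := fun c hc => X.centralises (by rw [hy₀]; exact ht) (by
    rw [hy₀]
    exact (commute_d_of_mem_loc (show p c ∈ loc E t from hc)).symm)
  have hy2 : y₀ * y₀ = 1 := X.sig_sq hx ht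
  -- the quotient
  set N : Subgroup ↥Y := Subgroup.zpowers ⟨y₀, hy₀Y⟩ with hN
  haveI : N.Normal := ⟨fun n hn g => by
    obtain ⟨i, rfl⟩ := Subgroup.mem_zpowers_iff.mp hn
    have hc : Commute g (⟨y₀, hy₀Y⟩ : ↥Y) := Subtype.ext (hcomm g g.2).eq
    rw [(hc.zpow_right i).eq, mul_inv_cancel_right]
    exact hn⟩
  have hNmem : ∀ n : ↥Y, n ∈ N → (n : C) = 1 ∨ (n : C) = y₀ := fun n hn => by
    obtain ⟨i, rfl⟩ := Subgroup.mem_zpowers_iff.mp hn
    rw [Subgroup.coe_zpow]
    rcases Int.even_or_odd i with ⟨j, hj⟩ | ⟨j, hj⟩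
    · left; rw [hj, zpow_add, ← (Commute.refl y₀).mul_zpow, hy2, one_zpow]
    · right; rw [hj, zpow_add_one, two_mul, zpow_add, ← (Commute.refl y₀).mul_zpow, hy2, one_zpow, one_mul]
  let θY : ↥Y →* Cfsg.PSU 6 F 2 :=
    φ.comp ((p.comp Y.subtype).codRestrict (loc E t) fun c => c.2)
  have hθN : N ≤ θY.ker := by
    rw [hN, Subgroup.zpowers_le]
    show φ ⟨p y₀, _⟩ = 1
    exact (Z.chart.one _).mpr fun w hw => by show Commute w (p y₀); rw [hy₀]; exact hw.2.2.symm
  set θ := QuotientGroup.lift N θY hθN with hθ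
  set mk := QuotientGroup.mk' N with hmk
  set zb := mk ⟨z, hzY⟩ with hzb
  have hsurj : Function.Surjective θ := fun u => by
    obtain ⟨k, hk⟩ := Z.chart.surj u
    obtain ⟨c, hc⟩ := X.surj (k : Q)
    refine ⟨mk ⟨c, show p c ∈ loc E t by rw [hc]; exact k.2⟩, ?_⟩
    show φ ⟨p c, _⟩ = u
    rw [← hk]; exact congrArg φ (Subtype.ext hc)
  have hker : ∀ q, θ q = 1 ↔ q = 1 ∨ q = zb := by
    intro q
    constructor
    · obtain ⟨⟨c, hc⟩, rfl⟩ := QuotientGroup.mk'_surjective N q
      intro h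
      have hy : (⟨y₀, hy₀Y⟩ : ↥Y) ∈ N := Subgroup.mem_zpowers _
      rcases Z.ker (show φ ⟨p c, hc⟩ = 1 from h) with h1 | h1
      · rcases X.ker c h1 with rfl | rfl
        · exact Or.inl (map_one mk)
        · exact Or.inr rfl
      · rcases X.fib (show p c = p y₀ by rw [hy₀]; exact h1) with rfl | rfl
        · exact Or.inl ((QuotientGroup.eq_one_iff _).mpr hy)
        · right
          show mk _ = mk ⟨z, hzY⟩
          rw [show (⟨y₀ * z, hc⟩ : ↥Y) = ⟨y₀, hy₀Y⟩ * ⟨z, hzY⟩ from rfl, map_mul,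
            show mk ⟨y₀, hy₀Y⟩ = 1 from (QuotientGroup.eq_one_iff _).mpr hy, one_mul]
    · rintro (rfl | rfl)
      · exact map_one θ
      · show φ ⟨p z, _⟩ = 1
        exact (Z.chart.one _).mpr fun w _ => by show Commute w (p z); rw [X.map_z]; exact Commute.one_right w
  have hcentral : ∀ q, zb * q = q * zb := fun q => by
    obtain ⟨c, rfl⟩ := QuotientGroup.mk'_surjective N q
    rw [hzb, ← map_mul, ← map_mul]
    exact congrArg mk (Subtype.ext (X.central c).eq)
  have hne : zb ≠ 1 := fun h => by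
    rcases hNmem _ ((QuotientGroup.eq_one_iff _).mp h) with h1 | h1
    · exact X.ne h1
    · refine hzK ?_
      rw [show z = y₀ from h1]
      exact subset_closure ⟨t, hBt, rfl⟩
  have hK : K ≤ Y := by
    refine (closure_le _).mpr ?_
    rintro _ ⟨s, hs, rfl⟩
    show p (sig p x₀ s) ∈ loc E t
    rw [(X.sig_spec hx (hB.sub hs)).2]
    by_cases hst : s = t
    · exact hst ▸ Z.self t ht
    · exact near_le_loc ⟨hB.sub hs, hst, hB.comm t hBt s hs⟩
  -- a perfect quotient would have an invariant complement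
  have hnotperf : commutator (↥Y ⧸ N) ≠ ⊤ := by
    intro hperf
    have XC : Unit62Cover55.Cov zb θ :=
      ⟨Group.isPerfect_def.mpr hperf, hsurj, hker, hcentral, hne⟩
    have hA : ∀ c : ↥Y, mk c ∈ Unit62Cover55.Eh θ e ↔ (c : C) ∈ (closure B).comap p := fun c => by
      rw [show Unit62Cover55.Eh θ e = ((P e).map (QuotientGroup.mk' _)).comap θ from rfl]
      exact (block_preimage Z hfr hrange ⟨p c, c.2⟩).symm
    refine Unit62Split55.no_hyper XC hfr (E := (K.subgroupOf Y).map mk) ⟨?_, ?_, ?_, ?_⟩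
    · rintro _ ⟨c, hc, rfl⟩
      refine (hA c).mpr ?_
      rw [X.preimage_eq hx hB]
      exact closure_mono (Set.subset_insert _ _) hc
    · have hy : (⟨y₀, hy₀Y⟩ : ↥Y) ∈ K.subgroupOf Y := subset_closure ⟨t, hBt, rfl⟩
      have hcK : Nat.card ↥K = 1024 := by
        have hmap : K.map p = closure B := by
          rw [MonoidHom.map_closure, ← Set.image_comp]
          refine congrArg Subgroup.closure ((Set.image_congr fun s hs => ?_).trans (Set.image_id B))
          exact (X.sig_spec hx (hB.sub hs)).2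
        have hinj : Set.InjOn p (K : Set C) := fun u hu v hv h => (X.fib h).resolve_right fun h' =>
          hzK (by
            have hm := mul_mem (inv_mem hv) hu
            rwa [h', inv_mul_cancel_left] at hm)
        rw [← card_block X.grp X.prim X.m22 hB, ← hmap, ← SetLike.coe_sort_coe, ← SetLike.coe_sort_coe,
          Nat.card_coe_set_eq, Nat.card_coe_set_eq, Subgroup.coe_map, hinj.ncard_image]
      have h1 := (mk.comp (K.subgroupOf Y).subtype).ker.card_mul_index
      rw [Subgroup.index_ker, MonoidHom.range_comp, Subgroup.range_subtype,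
        Nat.card_congr (Subgroup.subgroupOfEquivOfLe hK).toEquiv, hcK] at h1
      have h2 : Nat.card ↥(mk.comp (K.subgroupOf Y).subtype).ker = 2 := by
        have hk : ((mk.comp (K.subgroupOf Y).subtype).ker : Set ↥(K.subgroupOf Y)) =
            {1, ⟨_, hy⟩} := by
          ext c
          constructor
          · intro hc
            rcases hNmem _ ((QuotientGroup.eq_one_iff (c : ↥Y)).mp hc) with h | h
            · exact Or.inl (Subtype.ext (Subtype.ext h))
            · exact Or.inr (Subtype.ext (Subtype.ext h))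
          · rintro (rfl | rfl)
            · exact one_mem _
            · exact (QuotientGroup.eq_one_iff _).mpr (Subgroup.mem_zpowers _)
        rw [← SetLike.coe_sort_coe, Nat.card_coe_set_eq, hk, Set.ncard_pair]
        intro h
        have h' : (1 : C) = y₀ := congrArg (fun w : ↥(K.subgroupOf Y) => ((w : ↥Y) : C)) h
        exact X.grp |> fun g => ThreeTrans.ne_one g.1 ht (by rw [← hy₀, ← h', map_one])
      rw [h2] at h1
      omega
    · rintro ⟨c, hc, e'⟩
      apply hzK
      have hd : (⟨z, hzY⟩ : ↥Y)⁻¹ * c ∈ N := QuotientGroup.eq.mp e'.symm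
      rcases hNmem _ hd with h | h <;> rw [Subgroup.coe_mul, Subgroup.coe_inv] at h
      · rw [show z = (c : C) from inv_mul_eq_one.mp h]; exact hc
      · rw [inv_mul_eq_iff_eq_mul] at h
        have : z = (c : C) * y₀⁻¹ := by rw [h, mul_inv_cancel_right]
        rw [this]
        exact mul_mem hc (inv_mem (subset_closure ⟨t, hBt, rfl⟩))
    · intro n hn q hq
      obtain ⟨⟨c, hcY⟩, rfl⟩ := QuotientGroup.mk'_surjective N n
      obtain ⟨⟨k, hkY⟩, hk, rfl⟩ := hq
      have hst : c ∈ stab p B := by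
        rw [X.stab_iff hB]
        intro w hw
        have hwY : w ∈ Y := by
          rw [X.preimage_eq hx hB] at hw
          refine (closure_le Y).mpr ?_ hw
          rintro v (rfl | hv)
          · exact hzY
          · exact hK (subset_closure hv)
        have h1 := (Subgroup.mem_normalizer_iff.mp hn (mk ⟨w, hwY⟩)).mp ((hA _).mpr hw)
        rw [← map_inv, ← map_mul, ← map_mul] at h1
        exact (hA _).mp h1
      refine ⟨⟨c, hcY⟩ * ⟨k, hkY⟩ * ⟨c, hcY⟩⁻¹, ?_, by rw [map_mul, map_mul, map_inv]⟩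
      show c * k * c⁻¹ ∈ K
      have hle : K.map (MulAut.conj c).toMonoidHom ≤ K := by
        rw [MonoidHom.map_closure, ← Set.image_comp]
        refine closure_mono ?_
        rintro _ ⟨s, hs, rfl⟩
        exact ⟨_, mem_stab_conj hst hs, (X.sig_conj hx (hB.sub hs) c).symm⟩
      exact hle ⟨k, hk, rfl⟩
  -- so it is the product of the centre and the derived subgroup
  set D' := commutator (↥Y ⧸ N)
  have hDmap : ∀ u, ∃ q ∈ D', θ q = u := fun u => by
    have h : D'.map θ = ⊤ := by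
      rw [show D' = ⁅(⊤ : Subgroup (↥Y ⧸ N)), ⊤⁆ from _root_.commutator_def _, Subgroup.map_commutator,
        Subgroup.map_top_of_surjective _ hsurj, ← _root_.commutator_def, commutator_psu]
    obtain ⟨q, hq, e'⟩ := (h ▸ Subgroup.mem_top u : u ∈ D'.map θ)
    exact ⟨q, hq, e'⟩
  have hdec : ∀ q, q ∈ D' ∨ zb * q ∈ D' := by
    intro q
    obtain ⟨r, hr, e'⟩ := hDmap (θ q)
    rcases (hker (q * r⁻¹)).mp (by rw [map_mul, map_inv, e', mul_inv_cancel]) with h | h
    · exact Or.inl ((mul_inv_eq_one.mp h) ▸ hr)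
    · refine Or.inr ?_
      rw [mul_inv_eq_iff_eq_mul.mp h, ← mul_assoc]
      have hzz : zb * zb = 1 := by
        rw [hzb, ← map_mul, show (⟨z, hzY⟩ : ↥Y) * ⟨z, hzY⟩ = 1 from Subtype.ext X.zz, map_one]
      rwa [hzz, one_mul]
  have hzD : zb ∉ D' := fun hz => hnotperf (eq_top_iff.mpr fun q _ => by
    rcases hdec q with h | h
    · exact h
    · simpa using mul_mem (inv_mem hz) h)
  have hmemY : ∀ w ∈ near E t, sig p x₀ w ∈ Y := fun w hw => by
    show p (sig p x₀ w) ∈ loc E t
    rw [(X.sig_spec hx hw.1).2]; exact near_le_loc hw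
  -- all lifts near `t` are in the derived subgroup or none
  have hunif : ∀ v (hv : v ∈ near E t) w (hw : w ∈ near E t),
      mk ⟨_, hmemY v hv⟩ ∈ D' → mk ⟨_, hmemY w hw⟩ ∈ D' := by
    intro v hv w hw h
    obtain ⟨g, hg, hgv⟩ := (ThreeTransLine.lineAt_all X.ts X.prim X.m22 t ht).2 v hv w hw
    obtain ⟨c, rfl⟩ := X.surj g
    have e1 : c * sig p x₀ v * c⁻¹ = sig p x₀ w := by rw [X.sig_conj hx hv.1, hgv]
    have e2 : mk ⟨_, hmemY w hw⟩ = mk ⟨c, hg⟩ * mk ⟨_, hmemY v hv⟩ * (mk ⟨c, hg⟩)⁻¹ := by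
      rw [← map_inv, ← map_mul, ← map_mul]
      exact congrArg mk (Subtype.ext e1.symm)
    rw [e2]
    exact Subgroup.Normal.conj_mem (inferInstanceAs (commutator (↥Y ⧸ N)).Normal) _ h _
  -- the line decides
  have hall : ∀ w (hw : w ∈ near E t), mk ⟨_, hmemY w hw⟩ ∈ D' := by
    obtain ⟨e₂, f₂, hfr₂, hinj₂, hrange₂, hrep₂, -⟩ := exists_rep Z X.grp X.m22 hB hBt
    set m := mem22 Z e₂
    have hmn : ∀ i : Fin 21, m i.castSucc ∈ near E t := fun i => by
      rw [show m = mem22 Z e₂ from rfl, mem22_cast]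
      exact L_mem Z (hfr₂.h_ee _ _) (comb_ne Z hfr₂ (vec_pv_ne i))
    have hmB : ∀ i, m i ∈ B := fun i => hrange₂ ▸ ⟨i, rfl⟩
    intro w hw
    refine hunif _ (hmn (line 0 0)) w hw ?_
    by_contra hno
    have hout : ∀ i : Fin 21, zb * mk ⟨_, hmemY _ (hmn i)⟩ ∈ D' := fun i =>
      (hdec _).resolve_left fun h => hno (hunif _ (hmn i) _ (hmn (line 0 0)) h)
    set s : Fin 22 → C := fun i => sig p x₀ (m i)
    have hI : Inv s := ⟨fun i j => X.blk_comm hx hB (hmB i) (hmB j), fun i => X.sig_sq hx (hB.sub (hmB i))⟩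
    have hval : val s (rels.getD 0 0) = 1 := by
      rcases X.ker (val s (rels.getD 0 0)) (by
        rw [map_val, show (fun i => p (s i)) = m from funext fun i => (X.sig_spec hx (hB.sub (hmB i))).2]
        exact hrep₂.rel 0 (by norm_num)) with h | h
      · exact h
      · refine absurd ?_ hzK
        rw [← h]
        refine list_prod_mem fun u hu => ?_
        obtain ⟨i, -, rfl⟩ := List.mem_map.mp hu
        split
        · exact subset_closure ⟨_, hmB i, rfl⟩
        · exact one_mem _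
    have hv : ∀ (i : Fin 22) (n : ℕ), n = (i : ℕ) → val s (2 ^ n) = s i := fun i n e => by
      subst e; exact val_pow s i
    have hvc : ∀ i : Fin 21, val s (2 ^ (i : ℕ)) = s i.castSucc := fun i => val_pow s i.castSucc
    rw [show rels.getD 0 0 = rels.getD ((0 : Fin 21) : ℕ) 0 from rfl, line_rel] at hval
    simp only [hI.val_xor] at hval
    rw [hv 21 21 rfl, hvc, hvc, hvc, hvc, hvc] at hval
    have hs21 : s 21 = y₀ := congrArg (sig p x₀) (mem22_last Z e₂)
    rw [hs21] at hval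
    have hq : mk ⟨_, hmemY _ (hmn (line 0 0))⟩ * mk ⟨_, hmemY _ (hmn (line 0 1))⟩ *
        mk ⟨_, hmemY _ (hmn (line 0 2))⟩ * mk ⟨_, hmemY _ (hmn (line 0 3))⟩ *
        mk ⟨_, hmemY _ (hmn (line 0 4))⟩ = 1 := by
      rw [← map_mul, ← map_mul, ← map_mul, ← map_mul]
      refine (QuotientGroup.eq_one_iff _).mpr ?_
      convert inv_mem (Subgroup.mem_zpowers (⟨y₀, hy₀Y⟩ : ↥Y)) using 1
      apply Subtype.ext
      show _ = y₀⁻¹
      refine eq_inv_of_mul_eq_one_right ?_
      simpa [s, mul_assoc] using hval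
    have hzz : zb * zb = 1 := by
      rw [hzb, ← map_mul, show (⟨z, hzY⟩ : ↥Y) * ⟨z, hzY⟩ = 1 from Subtype.ext X.zz, map_one]
    have hpair : ∀ u v, zb * u * (zb * v) = u * v := fun u v => by
      rw [(show Commute u zb from (hcentral u).symm).mul_mul_mul_comm, hzz, one_mul]
    have h5 := mul_mem (mul_mem (mul_mem (hout (line 0 0)) (hout (line 0 1)))
      (mul_mem (hout (line 0 2)) (hout (line 0 3)))) (hout (line 0 4))
    rw [hpair, hpair, ← mul_assoc _ zb, ← hcentral, mul_assoc zb] at h5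
    rw [← mul_assoc (mk _ * mk _) (mk _) (mk _), hq, mul_one] at h5
    exact hzD h5
  intro hz
  have hle : closure (sig p x₀ '' insert t (near E t)) ≤ (D'.comap mk).map Y.subtype := by
    refine (closure_le _).mpr ?_
    rintro _ ⟨s, rfl | hs, rfl⟩
    · exact ⟨⟨y₀, hy₀Y⟩, by
        show mk ⟨y₀, hy₀Y⟩ ∈ D'
        rw [show mk ⟨y₀, hy₀Y⟩ = 1 from (QuotientGroup.eq_one_iff _).mpr (Subgroup.mem_zpowers _)]
        exact one_mem _, rfl⟩
    · exact ⟨⟨_, hmemY s hs⟩, hall s hs, rfl⟩
  obtain ⟨⟨w, hwY⟩, hw, ew⟩ := hle hz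
  exact hzD (by rw [hzb, show (⟨z, hzY⟩ : ↥Y) = ⟨w, hwY⟩ from Subtype.ext ew.symm]; exact hw)

end local_split

section pair

/-- The members commuting with two given ones. -/
def both (E : Set Q) (a b : Q) : Set Q := {n | n ∈ E ∧ Commute n a ∧ Commute n b}

/-- The members commuting with two commuting members generate a subgroup containing a full 2-part of the
stabiliser of the pair. -/
theorem dvd_both {D : Set Q} {F : Type} [Field F] [Fintype F] [hF : FourField F] {d : Q}
    {φ : ↥(loc D d) →* Cfsg.PSU 6 F 2} (Z : Ctx D d φ) (hD1 : ∀ y ∈ D, y ≠ 1) {b : Q}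
    {e f : Fin 3 → Fin 6 → F} (hfr : Frame e f) (hb : Chart.L Z.chart (e 0) = b) :
    closure (both D d b) ≤ loc D d ∧ 2 ^ 16 ∣ Nat.card ↥(closure (both D d b)) := by
  classical
  have hle : closure (both D d b) ≤ loc D d := (closure_le _).mpr fun y hy => by
    by_cases h : y = d
    · exact h ▸ Z.self d Z.mem
    · exact near_le_loc ⟨hy.1, h, hy.2.1.symm⟩
  refine ⟨hle, ?_⟩
  have he0 := hfr.ne_zero 0
  have hb' : b ∈ near D d := hb ▸ L_mem Z (hfr.ee 0 0) he0
  set H := (closure (both D d b)).subgroupOf (loc D d)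
  set M := H.map φ
  have hplane : ∀ {e' f' : Fin 3 → Fin 6 → F}, Frame e' f' → e' 0 = e 0 →
      (P e').map (QuotientGroup.mk' _) ≤ M := by
    intro e' f' hfr' h0
    refine (plane_image Z hfr').trans (Subgroup.map_mono (Subgroup.comap_mono (closure_mono ?_)))
    rintro _ ⟨i, rfl⟩
    have hn := L_mem Z (hfr'.h_ee _ _) (comb_ne Z hfr' (vec_pv_ne i))
    refine ⟨hn.1, hn.2.2.symm, ?_⟩
    rw [← hb, L_comm Z (hfr'.h_ee _ _) (comb_ne Z hfr' (vec_pv_ne i)) (hfr.ee 0 0) he0, ← h0,
      ← comb_single e' 0]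
    exact hfr'.h_ee _ _
  -- the three factors
  set R₁ := Unit62Roots55.R₁ hfr
  set R₂ := Unit62Roots55.R₂ hfr
  have hPe : (P e).map (QuotientGroup.mk' _) ≤ M := hplane hfr rfl
  have hR1 : R₁.map (QuotientGroup.mk' _) ≤ M :=
    (Subgroup.map_mono (show R₁ ≤ P (Unit62Roots55.e₁ e f) from fun g hg => hg.1)).trans
      (hplane (Unit62Roots55.frame_one hfr) rfl)
  have hR2 : R₂.map (QuotientGroup.mk' _) ≤ M :=
    (Subgroup.map_mono (show R₂ ≤ P (Unit62Roots55.e₂ e f) from fun g hg => hg.1)).trans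
      (hplane (Unit62Roots55.frame_two hfr) rfl)
  have n1 : ∀ g ∈ R₁, g ∈ Subgroup.normalizer (P e : Set (Cfsg.SU 6 F 2)) := fun g hg => by
    obtain ⟨β, γ, h⟩ := Unit62Roots55.is₁ hfr hg
    exact Subgroup.mem_normalizer_iff.mpr (Unit62Roots55.norm₁ hfr h)
  have n2 : ∀ g ∈ R₂, g ∈ Subgroup.normalizer ((P e ⊔ R₁ : Subgroup (Cfsg.SU 6 F 2)) : Set (Cfsg.SU 6 F 2)) :=
    fun g hg => Unit62Split55.mem_normalizer_of_finite fun x hx => by
      obtain ⟨α, h⟩ := Unit62Roots55.is₂ hfr hg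
      have hle' : (P e ⊔ R₁).map (MulAut.conj g).toMonoidHom ≤ P e ⊔ R₁ := by
        rw [Subgroup.map_sup]
        refine sup_le ?_ ?_
        · rintro _ ⟨y, hy, rfl⟩
          exact Subgroup.mem_sup_left ((Unit62Roots55.norm₂ hfr h y).mp hy)
        · rintro _ ⟨y, hy, rfl⟩
          exact Subgroup.mem_sup_right (Unit62Roots55.conj₁₂ hfr hg hy)
      exact hle' ⟨x, hx, rfl⟩
  set T := P e ⊔ R₁ ⊔ R₂
  have hTle : Nat.card ↥T ≤ 32768 := by
    refine (Unit62Split55.card_sup_le n2).trans ?_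
    refine (Nat.mul_le_mul_right _ (Unit62Split55.card_sup_le n1)).trans ?_
    rw [card_P hfr]
    calc 512 * Nat.card ↥R₁ * Nat.card ↥R₂ ≤ 512 * 16 * 4 :=
          Nat.mul_le_mul (Nat.mul_le_mul_left _ (Unit62Roots55.card_R₁ hfr)) (Unit62Roots55.card_R₂ hfr)
      _ = 32768 := by norm_num
  choose g₁ hg₁ hi₁ using fun q : F × F => Unit62Roots55.exists₁ hfr q.1 q.2
  choose g₂ hg₂ hi₂ using fun α : F => Unit62Roots55.exists₂ hfr α
  let Φ : ↥(P e) × (F × F) × F → ↥(T.map (QuotientGroup.mk' (Subgroup.center (Cfsg.SU 6 F 2)))) :=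
    fun q => ⟨QuotientGroup.mk' _ (q.1.1 * g₁ q.2.1 * g₂ q.2.2), _, mul_mem (mul_mem
      (Subgroup.mem_sup_left (Subgroup.mem_sup_left q.1.2))
      (Subgroup.mem_sup_left (Subgroup.mem_sup_right (hg₁ _)))) (Subgroup.mem_sup_right (hg₂ _)), rfl⟩
  have hΦ : Function.Injective Φ := by
    rintro ⟨u, β, α⟩ ⟨u', β', α'⟩ h
    have h' := congrArg Subtype.val h
    obtain ⟨r1, r2, r3⟩ := Unit62Split55.triple_injective hfr u.2 u'.2 (hi₁ β) (hi₁ β') (hi₂ α) (hi₂ α') h'
    have r : β = β' := Prod.ext r2 r3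
    subst r1 r
    simp only [Φ, map_mul] at h'
    have h'' := mul_right_cancel (mul_right_cancel h')
    rw [Subtype.ext (eq_of_mk_eq (n := 6) (by norm_num) (congrArg Subtype.val (sq_one hfr u))
      (congrArg Subtype.val (sq_one hfr u')) h'')]
  have hTge : 32768 ≤ Nat.card ↥(T.map (QuotientGroup.mk' (Subgroup.center (Cfsg.SU 6 F 2)))) := by
    refine le_trans (le_of_eq ?_) (Nat.card_le_card_of_injective Φ hΦ)
    rw [Nat.card_prod, Nat.card_prod, Nat.card_prod, card_P hfr, Nat.card_eq_fintype_card, hF.card_eq]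
  have hTeq : Nat.card ↥(T.map (QuotientGroup.mk' (Subgroup.center (Cfsg.SU 6 F 2)))) = 32768 :=
    le_antisymm ((Nat.card_le_card_of_surjective _ ((QuotientGroup.mk' _).subgroupMap_surjective T)).trans
      hTle) hTge
  have hTM : T.map (QuotientGroup.mk' _) ≤ M := by
    rw [Subgroup.map_sup, Subgroup.map_sup]; exact sup_le (sup_le hPe hR1) hR2
  have hdvd : 32768 ∣ Nat.card ↥M := hTeq ▸ Subgroup.card_dvd_of_le hTM
  -- and the kernel
  have hdH : (⟨d, Z.self d Z.mem⟩ : ↥(loc D d)) ∈ H :=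
    subset_closure (show d ∈ both D d b from ⟨Z.mem, Commute.refl d, hb'.2.2⟩)
  have h := (φ.comp H.subtype).ker.card_mul_index
  rw [Subgroup.index_ker, MonoidHom.range_comp, Subgroup.range_subtype,
    Nat.card_congr (Subgroup.subgroupOfEquivOfLe hle).toEquiv] at h
  have hk : Nat.card ↥(φ.comp H.subtype).ker = 2 := by
    have hset : ((φ.comp H.subtype).ker : Set ↥H) = {1, ⟨_, hdH⟩} := by
      ext c
      constructor
      · intro hc
        rcases Z.ker hc with h' | h'
        · exact Or.inl (Subtype.ext (Subtype.ext h'))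
        · exact Or.inr (Subtype.ext (Subtype.ext h'))
      · rintro (rfl | rfl)
        · exact one_mem _
        · show φ ⟨d, Z.self d Z.mem⟩ = 1
          exact (Z.chart.one _).mpr fun w hw => hw.2.2.symm
    rw [← SetLike.coe_sort_coe, Nat.card_coe_set_eq, hset, Set.ncard_pair]
    intro h'
    exact hD1 d Z.mem (congrArg (fun w : ↥H => ((w : ↥(loc D d)) : Q)) h').symm
  rw [hk] at h
  rw [← h]
  exact (show (2 : ℕ) ^ 16 = 2 * 32768 by norm_num) ▸ Nat.mul_dvd_mul_left 2 hdvd

/-- No perfect double cover separates the lifts of triples. -/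
theorem not_separated (X : Cov p z E) (hx : p x₀ ∈ E) (hB : Blk E B)
    (hperf : commutator C = ⊤) (hex : ∀ v ∈ V3 p x₀ B, v * z ∉ V3 p x₀ B) : False := by
  classical
  obtain ⟨x₁, hx₁, hzB⟩ := exists_label X hx hB hex
  have hloc : ∀ t ∈ E, z ∉ closure (sig p x₁ '' (insert t (near E t))) := fun t ht =>
    notMem_local X hx₁ (fun B' hB' => notMem_block X hx₁ hB hzB hB') ht
  have hne : ∀ y ∈ E, y ≠ 1 := fun y hy => ThreeTrans.ne_one X.grp.1 hy
  obtain ⟨F, _, _, hF, hctx⟩ := exists_ctx X.grp X.prim X.m22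
  obtain ⟨r, hr⟩ := block_nonempty X.grp X.prim X.m22 hB
  obtain ⟨ψ, Z⟩ := hctx r (hB.sub hr)
  obtain ⟨e, f, hfr, -, -, -, -⟩ := exists_rep Z X.grp X.m22 hB hr
  set a := Chart.L Z.chart (e 0) with hadef
  set b := Chart.L Z.chart (e 1) with hbdef
  -- the exchanging involution
  set u : Fin 6 → F := e 0 + e 1 with hu
  set v : Fin 6 → F := f 0 + f 1 with hv
  have two : ∀ x : F, x + x = 0 := add_self
  have huu : h u u = 0 := by simp [u, h_add_left, h_add_right, hfr.ee]
  have hvv : h v v = 0 := by simp [v, h_add_left, h_add_right, hfr.ff]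
  have huv : h u v = 0 := by simp [u, v, h_add_left, h_add_right, hfr.ef, two]
  have hvu : h v u = 0 := h_comm_zero huv
  have hu0 : u ≠ 0 := fun h0 => by
    have := congrArg (fun w => h w (f 0)) h0
    simp [u, h_add_left, hfr.ef, h_zero_left] at this
  have hv0 : v ≠ 0 := fun h0 => by
    have := congrArg (fun w => h w (e 0)) h0
    simp [v, h_add_left, hfr.fe, h_zero_left] at this
  have hw : h (u + v) (u + v) = 0 := by simp [h_add_left, h_add_right, huu, hvv, huv, hvu]
  have hw0 : u + v ≠ 0 := fun h0 => by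
    have := congrArg (fun w => h w (f 0)) h0
    simp [u, v, h_add_left, hfr.ef, hfr.ff, h_zero_left] at this
  set p₁ := Chart.L Z.chart u
  set p₂ := Chart.L Z.chart v
  set p₃ := Chart.L Z.chart (u + v)
  have c12 : Commute p₁ p₂ := (L_comm Z huu hu0 hvv hv0).mpr huv
  have c13 : Commute p₁ p₃ := (L_comm Z huu hu0 hw hw0).mpr (by simp [h_add_right, huu, huv])
  have c23 : Commute p₂ p₃ := (L_comm Z hvv hv0 hw hw0).mpr (by simp [h_add_right, hvu, hvv])
  set s := p₁ * p₂ * p₃ with hs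
  have hswap : ∀ i j : Fin 3, (i = 0 ∧ j = 1) ∨ (i = 1 ∧ j = 0) →
      s * Chart.L Z.chart (e i) * s⁻¹ = Chart.L Z.chart (e j) := by
    intro i j hij
    have hei : h (e i) u = 0 := by simp [u, h_add_right, hfr.ee]
    have heiv : h (e i) v = 1 := by
      rcases hij with ⟨rfl, rfl⟩ | ⟨rfl, rfl⟩ <;> simp [v, h_add_right, hfr.ef]
    have hsum : e i + u = e j := by
      rcases hij with ⟨rfl, rfl⟩ | ⟨rfl, rfl⟩
      · rw [hu, ← add_assoc, vec_add_self, zero_add]
      · rw [hu, add_comm, add_assoc, vec_add_self, add_zero]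
    have h1 : p₃ * Chart.L Z.chart (e i) * p₃⁻¹ = Chart.L Z.chart (e j + v) := by
      rw [L_tconj Z (hfr.ee i i) (hfr.ne_zero i) hw hw0, h_add_right, hei, heiv, zero_add, one_smul,
        ← add_assoc, hsum]
    have hjv : h (e j + v) (e j + v) = 0 ∧ e j + v ≠ 0 := by
      have hev : h (e j) v = 1 := by
        rcases hij with ⟨rfl, rfl⟩ | ⟨rfl, rfl⟩ <;> simp [v, h_add_right, hfr.ef]
      refine ⟨by simp [h_add_left, h_add_right, hfr.ee, hvv, hev, h_comm_one hev, two], fun h0 => ?_⟩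
      have := congrArg (fun w => h w v) h0
      simp [h_add_left, hev, hvv, h_zero_left] at this
    have h2 : p₂ * Chart.L Z.chart (e j + v) * p₂⁻¹ = Chart.L Z.chart (e j) := by
      have hev : h (e j) v = 1 := by
        rcases hij with ⟨rfl, rfl⟩ | ⟨rfl, rfl⟩ <;> simp [v, h_add_right, hfr.ef]
      rw [L_tconj Z hjv.1 hjv.2 hvv hv0, h_add_left, hev, hvv, add_zero, one_smul, add_assoc,
        vec_add_self, add_zero]
    have h3 : p₁ * Chart.L Z.chart (e j) * p₁⁻¹ = Chart.L Z.chart (e j) := by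
      have : h (e j) u = 0 := by simp [u, h_add_right, hfr.ee]
      rw [L_tconj Z (hfr.ee j j) (hfr.ne_zero j) huu hu0, this, zero_smul, add_zero]
    rw [show s * Chart.L Z.chart (e i) * s⁻¹ =
      p₁ * (p₂ * (p₃ * Chart.L Z.chart (e i) * p₃⁻¹) * p₂⁻¹) * p₁⁻¹ by rw [hs]; group, h1, h2, h3]
  have hsab : s * a * s⁻¹ = b := hswap 0 1 (Or.inl ⟨rfl, rfl⟩)
  have hsba : s * b * s⁻¹ = a := hswap 1 0 (Or.inr ⟨rfl, rfl⟩)
  -- the complement
  have ha := L_mem Z (hfr.ee 0 0) (hfr.ne_zero 0)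
  have hb := L_mem Z (hfr.ee 1 1) (hfr.ne_zero 1)
  have hab : a ≠ b := fun h0 => by
    have := (clist_base Z hfr).nodup
    simp [ThreeTransM22Lift72.base, ← hadef, ← hbdef, h0] at this
  have habc : Commute a b := (L_comm Z (hfr.ee 0 0) (hfr.ne_zero 0) (hfr.ee 1 1) (hfr.ne_zero 1)).mpr (hfr.ee 0 1)
  obtain ⟨φ, W'⟩ := hctx a ha.1
  obtain ⟨e', f', hfr', hb', -⟩ := ThreeTransM22Classes72.exists_frame_pair W' (b := b) (c := r)
    ⟨hb.1, hab.symm, habc⟩ ⟨hB.sub hr, ha.2.1.symm, ha.2.2.symm⟩ hb.2.2.symm hb.2.1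
  obtain ⟨hH1, hdvd⟩ := dvd_both W' hne hfr' hb'
  set Bth := both E a b
  set H1 := closure Bth
  set W := closure (sig p x₁ '' Bth)
  have hzW : z ∉ W := fun h => hloc a ha.1 (closure_mono (Set.image_mono fun n hn => by
    by_cases hna : n = a
    · exact Or.inl hna
    · exact Or.inr ⟨hn.1, hna, hn.2.1.symm⟩) h)
  have hWp : W.map p = H1 := by
    rw [MonoidHom.map_closure, ← Set.image_comp]
    refine congrArg Subgroup.closure ((Set.image_congr fun n hn => ?_).trans (Set.image_id Bth))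
    exact (X.sig_spec hx₁ hn.1).2
  set s' := sig p x₁ p₁ * sig p x₁ p₂ * sig p x₁ p₃ with hs'
  have hp1 := (L_mem Z huu hu0).1
  have hp2 := (L_mem Z hvv hv0).1
  have hp3 := (L_mem Z hw hw0).1
  have hps : p s' = s := by
    rw [hs', map_mul, map_mul, (X.sig_spec hx₁ hp1).2, (X.sig_spec hx₁ hp2).2, (X.sig_spec hx₁ hp3).2]
  have hs2 : s' * s' = 1 := by
    have d12 := X.sig_comm hx₁ hp1 hp2 c12
    have d13 := X.sig_comm hx₁ hp1 hp3 c13
    have d23 := X.sig_comm hx₁ hp2 hp3 c23
    rw [hs', (d13.mul_left d23).symm.mul_mul_mul_comm, d12.symm.mul_mul_mul_comm, X.sig_sq hx₁ hp1,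
      X.sig_sq hx₁ hp2, X.sig_sq hx₁ hp3, one_mul, one_mul]
  have hnorm : s' ∈ Subgroup.normalizer (W : Set C) := by
    refine Unit62Split55.mem_normalizer_of_finite fun x hx' => ?_
    have hle : W.map (MulAut.conj s').toMonoidHom ≤ W := by
      rw [MonoidHom.map_closure, ← Set.image_comp]
      refine closure_mono ?_
      rintro _ ⟨n, hn, rfl⟩
      refine ⟨s * n * s⁻¹, ⟨X.ts.conj s n hn.1, ?_, ?_⟩, ?_⟩
      · rw [← hsba]; exact (Commute.conj_iff s).mpr hn.2.2
      · rw [← hsab]; exact (Commute.conj_iff s).mpr hn.2.1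
      · show sig p x₁ (s * n * s⁻¹) = s' * sig p x₁ n * s'⁻¹
        rw [X.sig_conj hx₁ hn.1, hps]
    exact hle ⟨x, hx', rfl⟩
  have hmem2 : ∀ w, w ∈ W ⊔ Subgroup.zpowers s' → w ∈ W ∨ w * s' ∈ W := by
    intro w hw
    have hw' : w ∈ ((W ⊔ Subgroup.zpowers s' : Subgroup C) : Set C) := hw
    rw [Subgroup.coe_mul_of_right_le_normalizer_left W _ (Subgroup.zpowers_le.mpr hnorm)] at hw'
    obtain ⟨x, hx', y, hy, rfl⟩ := Set.mem_mul.mp hw'
    obtain ⟨i, rfl⟩ := Subgroup.mem_zpowers_iff.mp hy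
    rcases Int.even_or_odd i with ⟨j, rfl⟩ | ⟨j, rfl⟩
    · left
      rw [zpow_add, ← (Commute.refl s').mul_zpow, hs2, one_zpow, mul_one]
      exact hx'
    · right
      rw [zpow_add_one, two_mul, zpow_add, ← (Commute.refl s').mul_zpow, hs2, one_zpow, one_mul,
        mul_assoc, hs2, mul_one]
      exact hx'
  have hsH : s ∉ H1 := fun h0 => hab (by
    rw [← hsab]
    exact (mul_inv_eq_iff_eq_mul.mpr (commute_d_of_mem_loc (hH1 h0)).symm.eq).symm)
  set V := W ⊔ Subgroup.zpowers s'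
  have hs'V : s' ∈ V := Subgroup.mem_sup_right (Subgroup.mem_zpowers s')
  have hzV : z ∉ V := fun h0 => by
    rcases hmem2 z h0 with h1 | h1
    · exact hzW h1
    · refine hsH ?_
      rw [← hWp, ← hps]
      exact ⟨_, h1, by rw [map_mul, X.map_z, one_mul]⟩
  set H := V ⊔ Subgroup.zpowers z
  have hVH : V ≤ H := le_sup_left
  have hzH : z ∈ H := Subgroup.mem_sup_right (Subgroup.mem_zpowers z)
  have hzn : z ∈ Subgroup.normalizer (V : Set C) :=
    Unit62Split55.mem_normalizer_of_finite fun x hx' => by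
      rwa [(X.central x).eq, mul_inv_cancel_right]
  -- orders
  have hcW : Nat.card ↥W = Nat.card ↥H1 := by
    have hinj : Set.InjOn p (W : Set C) := fun x hx' y hy h0 => (X.fib h0).resolve_right fun h' => hzW (by
      have hm := mul_mem (inv_mem hy) hx'
      rwa [h', inv_mul_cancel_left] at hm)
    rw [← hWp, ← SetLike.coe_sort_coe, ← SetLike.coe_sort_coe, Nat.card_coe_set_eq, Nat.card_coe_set_eq,
      Subgroup.coe_map, hinj.ncard_image]
  have hdouble : ∀ {L : Subgroup C} {g : C}, g * g = 1 → g ∉ L → g ∈ Subgroup.normalizer (L : Set C) →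
      Nat.card ↥(L ⊔ Subgroup.zpowers g) = 2 * Nat.card ↥L := by
    intro L g hg hgL hgn
    have hup := Unit62Split55.card_sup_le (L := L) (Q := Subgroup.zpowers g)
      fun q hq => (Subgroup.zpowers_le.mpr hgn) hq
    rw [Nat.card_zpowers, orderOf_eq_prime (by rw [pow_two, hg]) (fun h0 => hgL (by rw [h0]; exact one_mem L))]
      at hup
    have hlt : L < L ⊔ Subgroup.zpowers g := lt_of_le_of_ne le_sup_left fun h0 =>
      hgL (h0 ▸ Subgroup.mem_sup_right (Subgroup.mem_zpowers g))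
    have := ThreeTransM22Thompson72.card_half hlt
    omega
  have hs'W : s' ∉ W := fun h0 => hsH (hWp ▸ ⟨s', h0, hps⟩)
  have hcV : Nat.card ↥V = 2 * Nat.card ↥H1 := by rw [hdouble hs2 hs'W hnorm, hcW]
  have hcH : Nat.card ↥H = 2 * Nat.card ↥V := hdouble X.zz hzV hzn
  have hcC : Nat.card C = 2 ^ 18 * (3 ^ 9 * 5 ^ 2 * 7 * 11 * 13) := by
    have h1 := (X.card_map (⊤ : Subgroup C)).2 (mem_top z)
    rw [Subgroup.card_top, Subgroup.map_top_of_surjective p X.surj, Subgroup.card_top,
      ThreeTransM22Order72.card_G X.grp X.prim X.m22] at h1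
    rw [h1]; ring
  obtain ⟨k, hk⟩ := hdvd
  have hodd : Odd H.index := by
    have h1 := H.card_mul_index
    rw [hcH, hcV, hk, hcC] at h1
    have h2 : k * H.index = 3 ^ 9 * 5 ^ 2 * 7 * 11 * 13 := by
      refine Nat.eq_of_mul_eq_mul_left (show 0 < 2 ^ 18 by norm_num) ?_
      rw [← h1]; ring
    exact (Nat.odd_mul.mp (show Odd (k * H.index) by rw [h2]; decide)).2
  have h2idx : (V.subgroupOf H).index = 2 := by
    have h1 := Subgroup.card_mul_index (V.subgroupOf H)
    rw [Nat.card_congr (Subgroup.subgroupOfEquivOfLe hVH).toEquiv, hcH] at h1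
    exact Nat.eq_of_mul_eq_mul_left Nat.card_pos (h1.trans (mul_comm _ _))
  let χ : ↥H →* ℤˣ := MonoidHom.mk' (fun c => if c ∈ V.subgroupOf H then 1 else -1) fun x y => by
    have := Subgroup.mul_mem_iff_of_index_two h2idx (a := x) (b := y)
    by_cases hx' : x ∈ V.subgroupOf H <;> by_cases hy : y ∈ V.subgroupOf H <;> simp_all
  have key := TransferPow.central_pow_index_eq_one χ ⟨z, hzH⟩
    (Subgroup.mem_center_iff.mpr fun x => (X.central x).eq.symm) (by rw [hperf]; exact mem_top z)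
  have hχ : χ ⟨z, hzH⟩ = -1 := by
    simp only [χ, MonoidHom.mk'_apply]
    exact if_neg fun h0 => hzV h0
  rw [hχ, hodd.neg_one_pow] at key
  exact absurd key (by decide)

end pair

end Cfsg.Agent.ThreeTransM22Split72
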