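import Cfsg.Agent.Lib.Fi23Local94
import Cfsg.Agent.Lib.ThreeTransM22Exclude72
import Cfsg.Agent.Lib.ThreeTransM22Split72

/-!
# The setting of the recognition of M(23)

An involution with quasisimple centralizer, of type M(22) modulo the involution, not weakly closed in its
centralizer, satisfies the local hypotheses at each of its conjugates; the conjugates near one of them
form a copy of the class of type M(22).
-/

set_option autoImplicit false
set_option linter.unusedSectionVars false
set_option linter.style.haveILetI false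

namespace Cfsg.Agent.Fi23Setup94

open Subgroup Cfsg.Agent.ThreeTransM22Fusion72 Cfsg.Agent.Fi23Near94 Cfsg.Agent.Fi23Local94
open Cfsg.Agent.ThreeTransM22Outer72 (Blk)

variable {G : Type*} [Group G] [Finite G] {d : G}
variable {Q : Type*} [Group Q] [Finite Q] {E : Set Q}

/-- A double cover with perfect centralizer and a second conjugate in it has 23 conjugates in each
preimage. -/
theorem full_of_cov {p : ↥(Subgroup.centralizer ({d} : Set G)) →* Q}
    {z : ↥(Subgroup.centralizer ({d} : Set G))} (X : ThreeTransM22Cover72.Cov p z E)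
    (hzd : (z : G) = d) (hperf : commutator ↥(Subgroup.centralizer ({d} : Set G)) = ⊤)
    (hnwc : ∃ g : G, g * d * g⁻¹ ∈ Subgroup.centralizer ({d} : Set G) ∧ g * d * g⁻¹ ≠ d) :
    Full p z E := by
  refine ⟨⟨X, hzd, fun B hB => ?_⟩, hperf⟩
  obtain ⟨t, ht⟩ := ThreeTransM22Block72.block_nonempty X.grp X.prim X.m22 hB
  obtain ⟨x₀, hx₀⟩ := X.surj t
  have hx : p x₀ ∈ E := hx₀ ▸ hB.sub ht
  exact (ThreeTransM22Exclude72.dichotomy23 X hzd hx hB hnwc).resolve_right fun hex =>
    ThreeTransM22Split72.not_separated X hx hB hperf hex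

set_option quotPrecheck false in
local notation "C₀" => Subgroup.centralizer ({d} : Set G)

set_option quotPrecheck false in
local notation "K₀" => (Subgroup.zpowers d).subgroupOf (Subgroup.centralizer ({d} : Set G))

/-- The hypotheses of the recognition give the local hypotheses. -/
theorem full_of_quotient (hd : orderOf d = 2)
    (hq : Cfsg.IsQuasisimple ↥(Subgroup.centralizer ({d} : Set G)))
    [((Subgroup.zpowers d).subgroupOf (Subgroup.centralizer ({d} : Set G))).Normal]
    {E : Set (↥(Subgroup.centralizer ({d} : Set G)) ⧸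
      (Subgroup.zpowers d).subgroupOf (Subgroup.centralizer ({d} : Set G)))}
    (hEc : Cfsg.IsThreeTranspositionClass E) (hE22 : Cfsg.IsOfTypeM22 _ E)
    (hnwc : ∃ g : G, g * d * g⁻¹ ∈ Subgroup.centralizer ({d} : Set G) ∧ g * d * g⁻¹ ≠ d) :
    Full (QuotientGroup.mk' ((Subgroup.zpowers d).subgroupOf (Subgroup.centralizer ({d} : Set G))))
      ⟨d, Subgroup.mem_centralizer_singleton_iff.mpr rfl⟩ E := by
  classical
  set z : ↥C₀ := ⟨d, Subgroup.mem_centralizer_singleton_iff.mpr rfl⟩ with hzdef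
  have hd2 : d * d = 1 := by rw [← pow_two, ← hd]; exact pow_orderOf_eq_one d
  have hz : ∀ c : ↥C₀, Commute z c := fun c =>
    Subtype.ext (Subgroup.mem_centralizer_singleton_iff.mp c.2).symm
  have hz1 : z ≠ 1 := fun h => by
    have h1 : d = 1 := congrArg Subtype.val h
    rw [h1, orderOf_one] at hd
    omega
  have hπz : (QuotientGroup.mk' K₀) z = 1 :=
    (QuotientGroup.eq_one_iff z).mpr (Subgroup.mem_zpowers d)
  have hker : ∀ c : ↥C₀, (QuotientGroup.mk' K₀) c = 1 → c = 1 ∨ c = z := by
    intro c hc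
    obtain ⟨n, hn⟩ := Subgroup.mem_zpowers_iff.mp
      (Subgroup.mem_subgroupOf.mp ((QuotientGroup.eq_one_iff c).mp hc))
    rcases Int.even_or_odd n with ⟨k, hk⟩ | ⟨k, hk⟩
    · left
      apply Subtype.ext
      rw [← hn, hk, zpow_add, ← (Commute.refl d).mul_zpow, hd2, one_zpow]
      rfl
    · right
      apply Subtype.ext
      rw [← hn, hk, zpow_add_one, two_mul, zpow_add, ← (Commute.refl d).mul_zpow, hd2, one_zpow,
        one_mul]
  have hcen : Subgroup.center ↥C₀ = K₀ := by
    refine le_antisymm (fun c hc => (QuotientGroup.eq_one_iff c).mp ?_) fun c hc => ?_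
    · have h1 : (QuotientGroup.mk' K₀) c ∈ Subgroup.center (↥C₀ ⧸ K₀) := by
        refine Subgroup.mem_center_iff.mpr fun g => ?_
        obtain ⟨g, rfl⟩ := QuotientGroup.mk'_surjective K₀ g
        rw [← map_mul, ← map_mul, Subgroup.mem_center_iff.mp hc g]
      rw [hE22.1] at h1
      exact Subgroup.mem_bot.mp h1
    · rcases hker c ((QuotientGroup.eq_one_iff c).mpr hc) with rfl | rfl
      · exact one_mem _
      · exact Subgroup.mem_center_iff.mpr fun g => (hz g).eq.symm
  haveI := hq.2
  haveI : Nontrivial (↥C₀ ⧸ K₀) := (QuotientGroup.quotientMulEquivOfEq hcen).symm.toEquiv.nontrivial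
  haveI : IsSimpleGroup (↥C₀ ⧸ K₀) :=
    IsSimpleGroup.isSimpleGroup_of_surjective (QuotientGroup.quotientMulEquivOfEq hcen).toMonoidHom
      (QuotientGroup.quotientMulEquivOfEq hcen).surjective
  have hprim := ThreeTransM22Lifts17.primitive_of_simple hEc (by
    obtain ⟨-, a, ha, b, hb, hab, -⟩ := hE22
    exact ⟨a, ha, b, hb, fun h => hab (h ▸ Commute.refl a)⟩)
  have X : ThreeTransM22Cover72.Cov (QuotientGroup.mk' K₀) z E :=
    ⟨ThreeTransM22Lifts17.group_of_class hEc, hprim, hE22, QuotientGroup.mk'_surjective K₀, hker, hz,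
      Subtype.ext hd2, hπz, hz1⟩
  exact full_of_cov X rfl (Group.isPerfect_def.mp hq.1) hnwc

variable {p : ↥(Subgroup.centralizer ({d} : Set G)) →* Q} {z : ↥(Subgroup.centralizer ({d} : Set G))}

/-- The members near any conjugate form a copy of the class, with the same commutation. -/
theorem chart (H : Full p z E) {x : G} (hx : x ∈ conjugatesOf d) :
    ∃ π : G → Q, Set.BijOn π (Fi23Graph98.near (conjugatesOf d) x) E ∧
      (∀ a ∈ Fi23Graph98.near (conjugatesOf d) x, ∀ b ∈ Fi23Graph98.near (conjugatesOf d) x,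
        (Commute a b ↔ Commute (π a) (π b))) ∧
      ∃ q : ↥(Subgroup.centralizer ({x} : Set G)) →* Q, Function.Surjective q ∧
        (∀ c : ↥(Subgroup.centralizer ({x} : Set G)), q c = 1 → (c : G) = 1 ∨ (c : G) = x) ∧
        ∀ c : ↥(Subgroup.centralizer ({x} : Set G)), (c : G) ∈ Fi23Graph98.near (conjugatesOf d) x → q c = π (c : G) := by
  classical
  obtain ⟨q, w, Hx⟩ := H.move hx
  rw [IsConj.conjugatesOf_eq hx]
  set π : G → Q := fun g =>
    if h : g ∈ Subgroup.centralizer ({x} : Set G) then q ⟨g, h⟩ else 1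
  have hπ : ∀ c : ↥(Subgroup.centralizer ({x} : Set G)), π (c : G) = q c := fun c => by
    show (if h : (c : G) ∈ _ then q ⟨c, h⟩ else 1) = q c
    rw [dif_pos c.2]
  refine ⟨π, ⟨fun y hy => ?_, fun a ha b hb e => ?_, fun t ht => ?_⟩, fun a ha b hb => ?_, q, Hx.surj,
    fun c hc => ?_, fun c _ => (hπ c).symm⟩
  · obtain ⟨u, hu, rfl⟩ := Hx.lift_near hy
    rw [hπ]; exact Hx.near_mem hu
  · obtain ⟨u, hu, rfl⟩ := Hx.lift_near ha
    obtain ⟨v, hv, rfl⟩ := Hx.lift_near hb
    rw [hπ, hπ] at e
    rw [Hx.lift_unique hu hv e]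
  · obtain ⟨u, ⟨hu, rfl⟩, -⟩ := Hx.existsUnique_lift ht
    exact ⟨u, Hx.near_of hu, hπ u⟩
  · obtain ⟨u, hu, rfl⟩ := Hx.lift_near ha
    obtain ⟨v, hv, rfl⟩ := Hx.lift_near hb
    rw [hπ, hπ]; exact Hx.commute_iff hu hv
  · rcases Hx.ker c hc with e | e
    · exact Or.inl (congrArg Subtype.val e)
    · exact Or.inr ((congrArg Subtype.val e).trans Hx.zd)

end Cfsg.Agent.Fi23Setup94
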