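import Cfsg.Agent.Lib.ThreeTransM22Pat51
import Cfsg.Agent.Lib.ThreeTransM22Order72
import Cfsg.Agent.Lib.ThreeTransM22Outer72

/-!
# The diagram Y332 occurs among the members of a group of type M(22)

Counting the common neighbours of two non-commuting members `a, b` against the members near a further one
gives a path of six there; the node next to `b` is then a linear combination in the chart of `a`.
-/

set_option autoImplicit false
set_option linter.unusedSectionVars false
set_option linter.style.haveILetI false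

namespace Cfsg.Agent.ThreeTransM22Exist51

open Subgroup Cfsg.Agent.ThreeTransRel Cfsg.Agent.ThreeTransDescent
open Cfsg.Agent.UnitaryF4Geo Cfsg.Agent.UnitaryF4Line
open Cfsg.Agent.ThreeTransM22Frame72 Cfsg.Agent.ThreeTransM22Lift72
open Cfsg.Agent.ThreeTransM22Local72 (Chart)
open Cfsg.Agent.ThreeTransM22Frames51
open Cfsg.Agent.ThreeTransM22Pat51

variable {G : Type*} [Group G] [Finite G] {D : Set G}

theorem ncs {x y : G} (e : ¬ Commute x y) : ¬ Commute y x := fun h => e h.symm

theorem near_symm {d y : G} (hd : d ∈ D) (hy : y ∈ near D d) : d ∈ near D y :=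
  ⟨hd, hy.2.1.symm, hy.2.2.symm⟩

/-- One hyperbolic pair. -/
def pair3 (i j : Fin 3) : Bool := i.1 + j.1 == 1

/-- Two hyperbolic pairs. -/
def pairs4 (i j : Fin 4) : Bool := i.1 + j.1 == 1 || i.1 + j.1 == 5

/-- A hyperbolic pair and a path of three. -/
def adj5 (i j : Fin 5) : Bool :=
  i.1 + j.1 == 1 || ((i.1, j.1) ∈ [(2, 3), (3, 2), (3, 4), (4, 3)] : Bool)

section

variable {F : Type} [Field F] [Fintype F] [hF : FourField F] {d : G}
  {φ : ↥(loc D d) →* Cfsg.PSU 6 F 2} (X : Ctx D d φ)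
include X

local notation "L" => Chart.L X.chart

/-- At least 32 members near `d` commute with a non-commuting pair and not with a given further one. -/
theorem far_bound {a b i : G} (ha : a ∈ near D d) (hb : b ∈ near D d) (hi : i ∈ near D d)
    (hab : ¬ Commute a b) (hia : Commute i a) (hib : Commute i b) :
    32 ≤ {y ∈ near D d | Commute y a ∧ Commute y b ∧ ¬ Commute y i}.ncard := by
  classical
  obtain ⟨u, hu, hg⟩ := exists_gram X 3 ![a, b, i] pair3
    (fun k => by
      fin_cases k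
      exacts [ha, hb, hi])
    (fun k l => by
      fin_cases k <;> fin_cases l <;>
        simp [pair3, hia, hib, hia.symm, hib.symm, hab, ncs hab])
    (by decide) (by decide)
  have hli3 : LinearIndependent F u := by
    rw [Fintype.linearIndependent_iff]
    intro c hc
    have e0 := congrArg (fun z => h z (u 0)) hc
    have e1 := congrArg (fun z => h z (u 1)) hc
    simp [h_add_left, h_smul_left, hg _ _, Fin.sum_univ_three, h_zero_left, pair3] at e0 e1
    simp [Fin.sum_univ_three, e0, e1, (hu 2).2.1] at hc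
    intro k
    fin_cases k
    exacts [e1, e0, hc]
  obtain ⟨x, hx⟩ := exists_duals hli3
  obtain ⟨α, hα⟩ := exists_alpha (x := x 2) (hu 2).1 (by rw [hx]; rfl)
  set r := u 2 with hr
  set s := x 2 + α • r with hs
  have hsu : ∀ j, h s (u j) = if (2 : Fin 3) = j then 1 else 0 := fun j => by
    rw [hs, h_add_left, h_smul_left, hx, hr, hg]
    fin_cases j <;> simp [pair3]
  obtain ⟨y, hy0, hy, hyp⟩ := exists_iso_perp (n := 6) (m := 4) (by norm_num) ![u 0, u 1, r, s]
  have hy_ : ∀ j, h y (u j) = 0 := fun j => by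
    fin_cases j
    exacts [hyp 0, hyp 1, hyp 2]
  have hys : h y s = 0 := hyp 3
  have hli5 : LinearIndependent F ![u 0, u 1, r, s, y] := by
    rw [Fintype.linearIndependent_iff]
    intro c hc
    have e0 := congrArg (fun z => h z (u 0)) hc
    have e1 := congrArg (fun z => h z (u 1)) hc
    have e2 := congrArg (fun z => h z r) hc
    have e3 := congrArg (fun z => h z s) hc
    simp [Fin.sum_univ_five, h_add_left, h_smul_left, h_zero_left, hg _ _, hsu, hy_, hys, hα, hr,
      pair3, h_comm_zero ((hsu 0).trans (if_neg (by decide))),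
      h_comm_zero ((hsu 1).trans (if_neg (by decide))),
      h_comm_one ((hsu 2).trans (if_pos rfl))] at e0 e1 e2 e3
    simp [Fin.sum_univ_five, e0, e1, e2, e3, hy0] at hc
    intro k
    fin_cases k
    exacts [e1, e0, e3, e2, hc]
  obtain ⟨x', hx'⟩ := exists_duals hli5
  obtain ⟨β, hβ⟩ := exists_alpha (x := x' 4) hy (by simpa using hx' 4 4)
  set z := x' 4 + β • y with hz
  have hz0 : h z (u 0) = 0 := by
    rw [hz, h_add_left, h_smul_left, hy_, mul_zero, add_zero]; simpa using hx' 4 0
  have hz1 : h z (u 1) = 0 := by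
    rw [hz, h_add_left, h_smul_left, hy_, mul_zero, add_zero]; simpa using hx' 4 1
  have hzr : h z r = 0 := by
    rw [hz, h_add_left, h_smul_left, hr, hy_, mul_zero, add_zero]; simpa using hx' 4 2
  have hzs : h z s = 0 := by
    rw [hz, h_add_left, h_smul_left, hys, mul_zero, add_zero]; simpa using hx' 4 3
  have hzy : h z y = 1 := by
    rw [hz, h_add_left, h_smul_left, hy, mul_zero, add_zero]; simpa using hx' 4 4
  have hsr : h s r = 1 := (hsu 2).trans (if_pos rfl)
  have hrr : h r r = 0 := (hu 2).1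
  have hyr : h y r = 0 := hy_ 2
  set vec : F × F × Bool → Fin 6 → F := fun p =>
    s + ((p.1 * p.2.1 ^ 2 + if p.2.2 then 1 else 0) • r + (p.1 • y + p.2.1 • z)) with hvec
  have hr0' : ∀ p, h (vec p) r = 1 := fun p => by
    simp [hvec, h_add_left, h_smul_left, hsr, hrr, hyr, hzr]
  have hvs : ∀ p, h (vec p) s = p.1 * p.2.1 ^ 2 + if p.2.2 then 1 else 0 := fun p => by
    simp [hvec, h_add_left, h_smul_left, hα, h_comm_one hsr, hys, hzs]
  have hvy : ∀ p, h (vec p) y = p.2.1 := fun p => by
    simp [hvec, h_add_left, h_smul_left, h_comm_zero hys, h_comm_zero hyr, hy, hzy]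
  have hvz : ∀ p, h (vec p) z = p.1 := fun p => by
    simp [hvec, h_add_left, h_smul_left, h_comm_zero hzs, h_comm_zero hzr, h_comm_one hzy, hβ]
  have hiso : ∀ p, h (vec p) (vec p) = 0 := fun p => by
    conv_lhs => arg 2; simp only [hvec]
    simp only [h_add_right, h_smul_right, hvs, hr0', hvy, hvz]
    have h4 : p.2.1 ^ 4 = p.2.1 := by
      by_cases h0 : p.2.1 = 0
      · rw [h0]; ring
      · linear_combination p.2.1 * cube h0
    split_ifs
    · linear_combination p.1 ^ 2 * h4 +
        (1 + 2 * p.1 * p.2.1 ^ 2 + p.1 ^ 2 * p.2.1) * two_eq_zero (F := F)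
    · linear_combination p.1 ^ 2 * h4 +
        (p.1 * p.2.1 ^ 2 + p.1 ^ 2 * p.2.1) * two_eq_zero (F := F)
  have hne0 : ∀ p, vec p ≠ 0 := fun p e => by
    have := hr0' p
    rw [e, h_zero_left] at this
    exact zero_ne_one this
  have hinj : Function.Injective fun p => L (vec p) := by
    intro p p' e
    obtain ⟨c, -, hc⟩ := L_inj X (hiso p) (hne0 p) (hiso p') (hne0 p') e
    have c1 : c = 1 := by
      have := congrArg (fun w => h w r) hc
      simp [hr0', h_smul_left] at this
      exact this.symm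
    rw [c1, one_smul] at hc
    obtain ⟨p1, p2, p3⟩ := p
    obtain ⟨q1, q2, q3⟩ := p'
    have e1 := congrArg (fun w => h w z) hc
    have e2 := congrArg (fun w => h w y) hc
    have e3 := congrArg (fun w => h w s) hc
    simp only [hvz, hvy, hvs] at e1 e2 e3
    subst e1 e2
    cases p3 <;> cases q3 <;> simp at e3 ⊢
  refine le_trans (le_of_eq ?_) (Set.ncard_le_ncard (s := Set.range fun p => L (vec p)) ?_)
  · rw [Set.ncard_range_of_injective hinj, Nat.card_prod, Nat.card_prod,
      ThreeTransM22Triples17.natCard_field]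
    simp
  · rintro _ ⟨p, rfl⟩
    refine ⟨L_mem X (hiso p) (hne0 p), ?_, ?_, fun hc => ?_⟩
    · rw [← show L (u 0) = a from (hu 0).2.2, L_comm X (hiso p) (hne0 p) (hu 0).1 (hu 0).2.1]
      simp [hvec, h_add_left, h_smul_left, hsu, hy_, hz0, hr, hg _ _, pair3]
    · rw [← show L (u 1) = b from (hu 1).2.2, L_comm X (hiso p) (hne0 p) (hu 1).1 (hu 1).2.1]
      simp [hvec, h_add_left, h_smul_left, hsu, hy_, hz1, hr, hg _ _, pair3]
    · rw [← show L r = i from (hu 2).2.2, L_comm X (hiso p) (hne0 p) hrr (hu 2).2.1, hr0'] at hc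
      exact one_ne_zero hc

/-- The members near `d` commuting with two non-commuting pairs. -/
theorem three (x : Fin 4 → G) (hx : ∀ k, x k ∈ near D d)
    (hpat : ∀ k l, Commute (x k) (x l) ↔ pairs4 k l = false) :
    (∃ p ∈ near D d, ∀ k, Commute p (x k)) ∧
      ∀ p ∈ near D d, ∀ q ∈ near D d, (∀ k, Commute p (x k)) → (∀ k, Commute q (x k)) → p ≠ q →
        ∀ w ∈ near D d, (∀ k, Commute w (x k)) → w = p ∨ w = q ∨ w = q * p * q⁻¹ := by
  obtain ⟨u, hu, hg⟩ := exists_gram X 4 x pairs4 hx hpat (by decide) (by decide)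
  have hnd : ∀ c : Fin 4 → F, (∀ j, ∑ i, c i * h (u i) (u j) = 0) → c = 0 := by
    intro c hc
    have e0 := hc 0; have e1 := hc 1; have e2 := hc 2; have e3 := hc 3
    simp [hg _ _, Fin.sum_univ_four, pairs4] at e0 e1 e2 e3
    funext i
    fin_cases i <;> simp [e0, e1, e2, e3]
  refine ⟨?_, fun p hp q hq hpx hqx hne w hw hwx => ?_⟩
  · obtain ⟨y, hy0, hy, hyp⟩ := exists_iso_perp (n := 6) (m := 4) (by norm_num) u
    exact ⟨L y, L_mem X hy hy0, fun k => by
      rw [← (hu k).2.2, L_comm X hy hy0 (hu k).1 (hu k).2.1]; exact hyp k⟩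
  obtain ⟨vp, hvp, hvp0, rfl⟩ := L_surj X hp
  obtain ⟨vq, hvq, hvq0, rfl⟩ := L_surj X hq
  obtain ⟨vw, hvw, hvw0, rfl⟩ := L_surj X hw
  have hperp : ∀ {v : Fin 6 → F}, h v v = 0 → v ≠ 0 → (∀ k, Commute (L v) (x k)) →
      ∀ k, h v (u k) = 0 := fun hv hv0 hc k =>
    (L_comm X hv hv0 (hu k).1 (hu k).2.1).mp ((hu k).2.2.symm ▸ hc k)
  exact (perp_four X (fun k => (hu k).1) hnd hvp hvp0 hvq hvq0 hne (hperp hvp hvp0 hpx)
    (hperp hvq hvq0 hqx)).2 vw hvw hvw0 (hperp hvw hvw0 hwx)

end

/-- A group of type M(22) satisfies the hypotheses. -/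
theorem hyp_of_type (hD : Cfsg.IsThreeTranspositionGroup D) (hprim : Cfsg.IsPrimitiveUnderConj D)
    (h22 : Cfsg.IsOfTypeM22 G D) : Hyp D :=
  ⟨tsys_of_group hD, hprim, exists_ctx hD hprim h22,
    fun _ ha _ hb hn => ThreeTransM22Order72.ncard_common hD hprim h22 ha hb hn,
    ThreeTransM22Outer72.centralizer_eq_loc hD hprim h22⟩

/-- Two non-commuting members have 126 common neighbours. -/
theorem mu (hD : Cfsg.IsThreeTranspositionGroup D) (hprim : Cfsg.IsPrimitiveUnderConj D)
    (h22 : Cfsg.IsOfTypeM22 G D) : Mu D := (hyp_of_type hD hprim h22).mu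

theorem exists_far (H : Hyp D) {a : G} (ha : a ∈ D) : ∃ b ∈ D, ¬ Commute a b := by
  by_contra hcon
  push Not at hcon
  obtain ⟨F, _, _, _, hctx⟩ := H.ctx
  obtain ⟨φ, X⟩ := hctx a ha
  have h1 : a ∈ Subgroup.center G := Subgroup.mem_center_iff.mpr fun g => by
    have : g ∈ Subgroup.centralizer ({a} : Set G) := by
      have hle : Subgroup.closure D ≤ Subgroup.centralizer ({a} : Set G) := (closure_le _).mpr fun y hy =>
        mem_centralizer_singleton_iff.mpr (hcon y hy).symm.eq
      exact hle (by rw [H.ts.gen]; exact mem_top g)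
    exact mem_centralizer_singleton_iff.mp this
  rw [X.centre, mem_bot] at h1
  obtain ⟨x, hx, y, hy, hxy⟩ := H.prim.2.1
  obtain ⟨g, rfl⟩ := H.prim.1 a ha x hx
  obtain ⟨k, rfl⟩ := H.prim.1 a ha y hy
  exact hxy (by simp [h1])

section

variable (H : Hyp D)
include H

/-- The diagram occurs. -/
theorem exists_pat : ∃ v : ℕ → G, Pat D v := by
  classical
  obtain ⟨a, ha, -⟩ := H.prim.2.1
  obtain ⟨b, hb, hab⟩ := exists_far H ha
  obtain ⟨F, _, _, _, hctx⟩ := H.ctx
  set K := near D a ∩ near D b with hK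
  have hKc : K.ncard = 126 := H.mu a ha b hb hab
  have hKmem : ∀ {p}, p ∈ D → Commute a p → Commute b p → p ∈ K := fun {p} hp h1 h2 =>
    ⟨⟨hp, fun e => hab (e ▸ h2).symm, h1⟩, hp, fun e => hab (e ▸ h1), h2⟩
  obtain ⟨i, hi⟩ : K.Nonempty := Set.nonempty_of_ncard_ne_zero (by omega)
  have hiD : i ∈ D := hi.1.1
  have hia : a ∈ near D i := near_symm ha hi.1
  have hib : b ∈ near D i := near_symm hb hi.2
  set N := K ∩ near D i with hN
  have hN32 : 32 ≤ N.ncard := by
    obtain ⟨φ, X⟩ := hctx i hiD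
    obtain ⟨p, hp, hp0, hpe⟩ := L_surj X hia
    obtain ⟨q, hq, hq0, hqe⟩ := L_surj X hib
    obtain ⟨r, hr0, hr, hrp⟩ := exists_iso_perp (n := 6) (m := 2) (by norm_num) ![p, q]
    refine (far_bound X hia hib (L_mem X hr hr0) hab
      (by rw [← hpe, L_comm X hr hr0 hp hp0]; exact hrp 0)
      (by rw [← hqe, L_comm X hr hr0 hq hq0]; exact hrp 1)).trans (Set.ncard_le_ncard ?_)
    exact fun y hy => ⟨hKmem hy.1.1 hy.2.1.symm hy.2.2.1.symm, hy.1⟩
  have hFar : ∃ y ∈ K, ¬ Commute i y ∧ 6 < (N ∩ near D y).ncard := by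
    by_contra hcon
    push Not at hcon
    set Fs := {y ∈ K | ¬ Commute i y} with hFs
    have hle : Fs.ncard + N.ncard + 1 ≤ 126 := by
      have hdis : Disjoint Fs (insert i N) := Set.disjoint_left.mpr fun y hy hy' => by
        rcases hy' with rfl | hy'
        · exact hy.2 (Commute.refl _)
        · exact hy.2 hy'.2.2.2
      have hiN : i ∉ N := fun h => h.2.2.1 rfl
      have := Set.ncard_union_eq hdis
      rw [Set.ncard_insert_of_notMem hiN] at this
      have h2 : (Fs ∪ insert i N).ncard ≤ K.ncard := Set.ncard_le_ncard (by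
        rintro y (hy | rfl | hy)
        exacts [hy.1, hi, hy.1])
      omega
    have h1 : ∀ g ∈ (Set.toFinite N).toFinset,
        32 ≤ (Finset.bipartiteAbove (fun g y => Commute g y) (Set.toFinite Fs).toFinset g).card := by
      intro g hg
      have hg' : g ∈ N := by simpa using hg
      obtain ⟨φ, X⟩ := hctx g hg'.1.1.1
      refine (far_bound X (near_symm ha hg'.1.1) (near_symm hb hg'.1.2) (near_symm hiD hg'.2) hab
        hi.1.2.2.symm hi.2.2.2.symm).trans ?_
      rw [← Set.ncard_coe_finset]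
      refine Set.ncard_le_ncard (fun y hy => ?_)
      simp only [Finset.mem_coe, Finset.bipartiteAbove, Finset.mem_filter, Set.Finite.mem_toFinset]
      exact ⟨⟨hKmem hy.1.1 hy.2.1.symm hy.2.2.1.symm, ncs hy.2.2.2⟩, hy.1.2.2⟩
    have h2 : ∀ y ∈ (Set.toFinite Fs).toFinset,
        (Finset.bipartiteBelow (fun g y => Commute g y) (Set.toFinite N).toFinset y).card ≤ 6 := by
      intro y hy
      have hy' : y ∈ Fs := by simpa using hy
      refine le_trans ?_ (hcon y hy'.1 hy'.2)
      rw [← Set.ncard_coe_finset]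
      refine Set.ncard_le_ncard (fun g hg => ?_)
      simp only [Finset.mem_coe, Finset.bipartiteBelow, Finset.mem_filter, Set.Finite.mem_toFinset] at hg
      exact ⟨hg.1, hg.1.1.1.1, fun e => hy'.2 (e ▸ hg.1.2.2.2), hg.2.symm⟩
    have := Finset.card_nsmul_le_sum _ _ 32 h1
    have h3 := Finset.sum_le_card_nsmul _ _ 6 h2
    rw [Finset.sum_card_bipartiteAbove_eq_sum_card_bipartiteBelow] at this
    simp only [smul_eq_mul, ← Set.ncard_eq_toFinset_card _ _] at this h3
    omega
  obtain ⟨y, hy, hiy, hS⟩ := hFar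
  set S := N ∩ near D y with hSdef
  have hyD : y ∈ D := hy.1.1
  have hpatS : ∀ g ∈ S, (∀ k, ![a, b, i, y] k ∈ near D g) ∧
      ∀ k l, Commute (![a, b, i, y] k) (![a, b, i, y] l) ↔ pairs4 k l = false := by
    intro g hg
    refine ⟨fun k => by
      fin_cases k
      exacts [near_symm ha hg.1.1.1, near_symm hb hg.1.1.2, near_symm hiD hg.1.2,
        near_symm hyD hg.2], fun k l => ?_⟩
    fin_cases k <;> fin_cases l <;>
      simp [pairs4, hab, ncs hab, hiy, ncs hiy, hi.1.2.2, hi.1.2.2.symm, hi.2.2.2, hi.2.2.2.symm,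
        hy.1.2.2, hy.1.2.2.symm, hy.2.2.2, hy.2.2.2.symm]
  have hin : ∀ g ∈ S, ∀ p ∈ near D g, (∀ k, Commute p (![a, b, i, y] k)) → p ∈ S := by
    intro g _ p hp hc
    have h0 : Commute p a := hc 0
    have h1 : Commute p b := hc 1
    have h2 : Commute p i := hc 2
    have h3 : Commute p y := hc 3
    exact ⟨⟨hKmem hp.1 h0.symm h1.symm, hp.1, fun e => hiy (e ▸ h3), h2.symm⟩, hp.1,
      fun e => hiy (e ▸ h2).symm, h3.symm⟩
  have hout : ∀ p ∈ S, ∀ k, Commute p (![a, b, i, y] k) := by
    intro p hp k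
    fin_cases k
    exacts [hp.1.1.1.2.2.symm, hp.1.1.2.2.2.symm, hp.1.2.2.2.symm, hp.2.2.2.symm]
  have hnb : ∀ g ∈ S, (S ∩ near D g).Nonempty ∧ (S ∩ near D g).ncard ≤ 3 := by
    intro g hg
    obtain ⟨φ, X⟩ := hctx g hg.1.1.1.1
    obtain ⟨hne, hall⟩ := three X _ (hpatS g hg).1 (hpatS g hg).2
    obtain ⟨p, hp, hpc⟩ := hne
    refine ⟨⟨p, hin g hg p hp hpc, hp⟩, ?_⟩
    by_cases hsub : S ∩ near D g ⊆ {p}
    · exact le_trans (Set.ncard_le_ncard hsub) (by simp)
    obtain ⟨q, hq, hqp⟩ := Set.not_subset.mp hsub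
    refine le_trans (Set.ncard_le_ncard (t := {p, q, q * p * q⁻¹}) fun w hw => ?_) ?_
    · exact hall p hp q hq.2 hpc (hout q hq.1) (fun e => hqp e.symm) w hw.2 (hout w hw.1)
    · exact (Set.ncard_insert_le _ _).trans (Nat.add_le_add_right
        ((Set.ncard_insert_le _ _).trans (by simp)) 1)
  obtain ⟨g, hg⟩ : S.Nonempty := Set.nonempty_of_ncard_ne_zero (by omega)
  obtain ⟨e, he⟩ := (hnb g hg).1
  obtain ⟨f, hf, hfn⟩ := Set.exists_mem_notMem_of_ncard_lt_ncard
    (s := (S ∩ near D g) ∪ (S ∩ near D e)) (t := S) (by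
      have := Set.ncard_union_le (S ∩ near D g) (S ∩ near D e)
      have := (hnb g hg).2
      have := (hnb e he.1).2
      omega)
  have hge : Commute g e := he.2.2.2
  have hgf : ¬ Commute g f := fun hc => hfn (by
    by_cases h0 : f = g
    · exact Or.inr ⟨hf, h0 ▸ near_symm hg.1.1.1.1 he.2⟩
    · exact Or.inl ⟨hf, hf.1.1.1.1, h0, hc⟩)
  have hef : ¬ Commute e f := fun hc => hfn (by
    by_cases h0 : f = e
    · exact Or.inl ⟨hf, h0 ▸ he.2⟩
    · exact Or.inr ⟨hf, hf.1.1.1.1, h0, hc⟩)
  -- the fourth point of the path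
  obtain ⟨d, hdK, hdi, hdg, hdf, hde, hdy⟩ : ∃ d ∈ K, Commute d i ∧ Commute d g ∧ Commute d f ∧
      ¬ Commute d e ∧ ¬ Commute d y := by
    obtain ⟨φ, X⟩ := hctx i hiD
    have hga := hg.1.1.1.2.2; have hgb := hg.1.1.2.2.2
    have hea := he.1.1.1.1.2.2; have heb := he.1.1.1.2.2.2
    have hfa := hf.1.1.1.2.2; have hfb := hf.1.1.2.2.2
    obtain ⟨u, hu, hgr⟩ := exists_gram X 5 ![a, b, g, f, e] adj5
      (fun k => by
        fin_cases k
        exacts [hia, hib, hg.1.2, hf.1.2, he.1.1.2])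
      (fun k l => by
        fin_cases k <;> fin_cases l <;>
          simp [adj5, hab, ncs hab, hga, hga.symm, hgb, hgb.symm, hea, hea.symm, heb, heb.symm,
            hfa, hfa.symm, hfb, hfb.symm, hgf, ncs hgf, hef, ncs hef, hge, hge.symm])
      (by decide) (by decide)
    set r := u 2 + u 4 with hr
    have hru : ∀ j, h r (u j) = 0 := fun j => by
      rw [hr, h_add_left, hgr, hgr]
      fin_cases j <;> simp [adj5, add_self]
    have hr0 : r ≠ 0 := fun h0 => he.2.2.1 (by
      have h1 : u 4 = u 2 := funext fun k => (eq_of_add_eq_zero (congrFun h0 k)).symm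
      have h2 := (hu 4).2.2
      rw [h1, (hu 2).2.2] at h2
      exact h2.symm)
    have hli : LinearIndependent F u := by
      rw [Fintype.linearIndependent_iff]
      intro c hc
      have e0 := congrArg (fun z => h z (u 0)) hc
      have e1 := congrArg (fun z => h z (u 1)) hc
      have e2 := congrArg (fun z => h z (u 2)) hc
      have e3 := congrArg (fun z => h z (u 3)) hc
      simp [h_add_left, h_smul_left, hgr _ _, Fin.sum_univ_five, h_zero_left, adj5] at e0 e1 e2 e3
      have e4 : c 4 = c 2 := (eq_of_add_eq_zero e3).symm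
      simp [Fin.sum_univ_five, e0, e1, e2, e4, ← smul_add, ← hr, hr0] at hc
      intro k
      fin_cases k
      exacts [e1, e0, hc, e2, e4.trans hc]
    obtain ⟨x', hx'⟩ := exists_duals hli
    have hrr : h r r = 0 := by
      conv_lhs => arg 2; rw [hr]
      rw [h_add_right, hru, hru, add_zero]
    obtain ⟨α, hα⟩ := exists_alpha (x := x' 4) hrr (by rw [hr, h_add_right, hx', hx']; simp)
    set x := x' 4 + α • r with hx
    have hxu : ∀ j, h x (u j) = if (4 : Fin 5) = j then 1 else 0 := fun j => by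
      rw [hx, h_add_left, h_smul_left, hru, mul_zero, add_zero, hx']
    have hxr : h x r = 1 := by rw [hr, h_add_right, hxu, hxu]; simp
    have hxi' : h (x + r) (x + r) = 0 := by
      simp only [h_add_left, h_add_right, hα, hxr, h_comm_one hxr, hrr, zero_add, add_zero, add_self]
    have hxu' : ∀ j, h (x + r) (u j) = if (4 : Fin 5) = j then 1 else 0 := fun j => by
      rw [h_add_left, hxu, hru, add_zero]
    have hne : ∀ {w : Fin 6 → F}, h w (u 4) = 1 → w ≠ 0 := fun h1 h0 => by
      rw [h0, h_zero_left] at h1; exact zero_ne_one h1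
    have hx0 : x ≠ 0 := hne ((hxu 4).trans (if_pos rfl))
    have hx0' : x + r ≠ 0 := hne ((hxu' 4).trans (if_pos rfl))
    set L := Chart.L X.chart with hL
    have key : ∀ w : Fin 6 → F, (hw : h w w = 0) → w ≠ 0 →
        (∀ j, h w (u j) = if (4 : Fin 5) = j then 1 else 0) →
        L w ∈ K ∧ Commute (L w) i ∧ Commute (L w) g ∧ Commute (L w) f ∧ ¬ Commute (L w) e := by
      intro w hw hw0 hwu
      have hc : ∀ j : Fin 5, Commute (L w) (![a, b, g, f, e] j) ↔ (4 : Fin 5) ≠ j := fun j => by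
        rw [← (hu j).2.2, hL, L_comm X hw hw0 (hu j).1 (hu j).2.1, hwu]
        by_cases h4 : (4 : Fin 5) = j <;> simp [h4]
      have hwi := L_mem X hw hw0
      exact ⟨hKmem hwi.1 ((hc 0).mpr (by decide)).symm ((hc 1).mpr (by decide)).symm,
        hwi.2.2.symm, (hc 2).mpr (by decide), (hc 3).mpr (by decide),
        fun hce => (hc 4).mp hce rfl⟩
    obtain ⟨k1, k2, k3, k4, k5⟩ := key x hα hx0 hxu
    obtain ⟨l1, l2, l3, l4, l5⟩ := key (x + r) hxi' hx0' hxu'
    by_cases hy1 : Commute (L x) y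
    swap; · exact ⟨_, k1, k2, k3, k4, k5, hy1⟩
    by_cases hy2 : Commute (L (x + r)) y
    swap; · exact ⟨_, l1, l2, l3, l4, l5, hy2⟩
    exfalso
    obtain ⟨ψ, Y⟩ := hctx g hg.1.1.1.1
    obtain ⟨-, hall⟩ := three Y _ (hpatS g hg).1 (hpatS g hg).2
    have hcg : ∀ p, p ∈ K → Commute p i → Commute p y → ∀ k, Commute p (![a, b, i, y] k) := by
      intro p hp h2 h3 k
      fin_cases k
      exacts [hp.1.2.2.symm, hp.2.2.2.symm, h2, h3]
    have hgn : ∀ p, p ∈ K → Commute p g → ¬ Commute p e → p ∈ near D g := fun p hp h1 h2 =>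
      ⟨hp.1.1, fun e' => h2 (e'.symm ▸ hge), h1.symm⟩
    rcases hall e he.2 (L x) (hgn _ k1 k3 k5) (hout e he.1) (hcg _ k1 k2 hy1)
      (fun e' => k5 (e' ▸ Commute.refl _)) (L (x + r)) (hgn _ l1 l3 l5) (hcg _ l1 l2 hy2) with
      e' | e' | e'
    · exact l5 (e' ▸ Commute.refl _)
    · obtain ⟨c, -, hc⟩ := L_inj X hxi' hx0' hα hx0 e'
      have h1 := congrArg (fun z => h z (u 4)) hc
      simp [hxu', hxu, h_smul_left] at h1
      rw [← h1, one_smul] at hc
      exact hr0 (by simpa using hc)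
    · have heq : L x * e * (L x)⁻¹ = L (u 4 + x) := by
        have h4 : h (u 4) x = 1 := h_comm_one ((hxu 4).trans (if_pos rfl))
        rw [hL, ← show Chart.L X.chart (u 4) = e from (hu 4).2.2,
          L_tconj X (hu 4).1 (hu 4).2.1 hα hx0, h4, one_smul]
      rw [heq] at e'
      have hi4 : h (u 4 + x) (u 4 + x) = 0 := by
        have h4 : h x (u 4) = 1 := (hxu 4).trans (if_pos rfl)
        simp only [h_add_left, h_add_right, (hu 4).1, hα, h4, h_comm_one h4, zero_add, add_zero,
          add_self]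
      have h40 : u 4 + x ≠ 0 := hne (by rw [h_add_left, (hu 4).1, hxu, if_pos rfl, zero_add])
      obtain ⟨c, -, hc⟩ := L_inj X hxi' hx0' hi4 h40 e'
      have h1 := congrArg (fun z => h z (u 4)) hc
      simp [hxu', hxu, h_add_left, h_smul_left, (hu 4).1] at h1
      rw [← h1, one_smul, hr, ← add_assoc, add_comm (u 4)] at hc
      exact (hu 2).2.1 (add_left_cancel (a := x) (by rw [add_zero]; exact add_right_cancel hc))
  -- the node next to `b`
  obtain ⟨φ, X⟩ := hctx a ha
  have hgK := hg.1.1; have heK := he.1.1.1; have hfK := hf.1.1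
  have cgi : Commute g i := hg.1.2.2.2.symm
  have cei : Commute e i := he.1.1.2.2.2.symm
  have cfi : Commute f i := hf.1.2.2.2.symm
  have cgy : Commute g y := hg.2.2.2.symm
  have cey : Commute e y := he.1.2.2.2.symm
  have cfy : Commute f y := hf.2.2.2.symm
  obtain ⟨u, hu, hgr⟩ := exists_gram X 6 ![g, f, e, d, y, i] path6
    (fun k => by
      fin_cases k
      exacts [hgK.1, hfK.1, heK.1, hdK.1, hy.1, hi.1])
    (fun k l => by
      fin_cases k <;> fin_cases l <;>
        simp [path6, hgf, ncs hgf, hef, ncs hef, hde, ncs hde, hdy, ncs hdy, hiy, ncs hiy,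
          hge, hge.symm, hdg, hdg.symm, cgy, cgy.symm, cgi, cgi.symm, hdf, hdf.symm, cfy, cfy.symm,
          cfi, cfi.symm, cey, cey.symm, cei, cei.symm, hdi, hdi.symm])
    (by decide) (by decide)
  set w := u 0 + u 2 with hw
  have hwu : ∀ j, h w (u j) = if (3 : Fin 6) = j then 1 else 0 := fun j => by
    rw [hw, h_add_left, hgr, hgr]
    fin_cases j <;> simp [path6, add_self]
  have hww : h w w = 0 := by
    conv_lhs => arg 2; rw [hw]
    rw [h_add_right, hwu, hwu]; simp
  have hw0 : w ≠ 0 := fun h0 => by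
    have := hwu 3
    rw [h0, h_zero_left, if_pos rfl] at this
    exact zero_ne_one this
  set c := Chart.L X.chart w with hc
  have hca : c ∈ near D a := L_mem X hww hw0
  have hcu : ∀ j : Fin 6, Commute c (![g, f, e, d, y, i] j) ↔ (3 : Fin 6) ≠ j := fun j => by
    rw [← (hu j).2.2, hc, L_comm X hww hw0 (hu j).1 (hu j).2.1, hwu]
    by_cases h3 : (3 : Fin 6) = j <;> simp [h3]
  have ccg : Commute c g := (hcu 0).mpr (by decide)
  have ccf : Commute c f := (hcu 1).mpr (by decide)
  have cce : Commute c e := (hcu 2).mpr (by decide)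
  have ccy : Commute c y := (hcu 4).mpr (by decide)
  have cci : Commute c i := (hcu 5).mpr (by decide)
  have ccd : ¬ Commute c d := fun h => (hcu 3).mp h rfl
  have hbc : ¬ Commute b c := by
    intro hbc
    have hcK : c ∈ K := hKmem hca.1 hca.2.2 hbc
    refine hgf ?_
    have := unique_perp H ha hb hab ![c, d, y, i]
      (fun k => by
        fin_cases k
        exacts [hcK, hdK, hy, hi])
      (fun k l => by
        fin_cases k <;> fin_cases l <;>
          simp [ccd, ncs ccd, ccy, ccy.symm, cci, cci.symm, hdy, ncs hdy, hdi, hdi.symm, hiy,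
            ncs hiy])
      (p := f) (q := g) hfK hgK
      (fun k => by
        fin_cases k
        exacts [ccf.symm, hdf.symm, cfy, cfi])
      (fun k => by
        fin_cases k
        exacts [ccg.symm, hdg.symm, cgy, cgi])
    rw [this]
  have cac := hca.2.2
  have cad := hdK.1.2.2; have cae := heK.1.2.2; have caf := hfK.1.2.2; have cag := hgK.1.2.2
  have cay := hy.1.2.2; have cai := hi.1.2.2
  have cbd := hdK.2.2.2; have cbe := heK.2.2.2; have cbf := hfK.2.2.2; have cbg := hgK.2.2.2
  have cby := hy.2.2.2; have cbi := hi.2.2.2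
  refine ⟨fun k => [a, b, c, d, e, f, g, y, i].getD k a, ⟨fun k hk => ?_, fun k hk l hl h => ?_,
    fun k hk l hl h => ?_⟩⟩
  · interval_cases k <;> simp
    exacts [ha, hb, hca.1, hdK.1.1, heK.1.1, hfK.1.1, hgK.1.1, hyD, hiD]
  all_goals interval_cases k <;> interval_cases l <;>
    first | exact absurd h (by decide) | skip
  all_goals simp only [List.getD_cons_zero, List.getD_cons_succ]
  all_goals first
    | exact Commute.refl _
    | assumption
    | exact Commute.symm (by assumption)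
    | exact ncs (by assumption)

end

end Cfsg.Agent.ThreeTransM22Exist51
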