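import Cfsg.Agent.Lib.Fi23Config79
import Cfsg.Agent.Lib.Fi23Setup94
import Cfsg.Agent.Lib.ThreeTransM22Exist51

/-!
# The configuration Y342 from the local hypotheses of the recognition of M(23)

The members near each conjugate form a web, pulled back from the class of type M(22), and contain a
diagram Y332; hence the configuration exists.
-/

set_option autoImplicit false
set_option linter.unusedSectionVars false
set_option linter.style.haveILetI false

namespace Cfsg.Agent.Fi23Bridge79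

open Cfsg.Agent.ThreeTransDescent Cfsg.Agent.ThreeTransRel
open Cfsg.Agent.UnitaryF4Geo
open Cfsg.Agent.ThreeTransM22Lift72
open Cfsg.Agent.ThreeTransM22Local72 (Chart)
open Cfsg.Agent.Fi22RecogWebGeo11 (Pts Web)
open Cfsg.Agent.ThreeTransM22Pat51 (Pat)

variable {G : Type*} [Group G] [Finite G] {Q : Type*} [Group Q] {E : Set Q}
variable {D : Set G} {x : G} {π : G → Q}

/-- A copy of the class near `x`. -/
structure Copy (D : Set G) (x : G) (E : Set Q) (π : G → Q) : Prop where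
  bij : Set.BijOn π (near D x) E
  comm : ∀ a ∈ near D x, ∀ b ∈ near D x, (Commute a b ↔ Commute (π a) (π b))
  mul : ∀ a ∈ near D x, ∀ b ∈ near D x, a * b * a ∈ near D x ∧ π (a * b * a) = π a * π b * π a

theorem Copy.pts [Finite Q] (C : Copy D x E π) {F : Type} [Field F] [Fintype F] [FourField F] {s : G}
    (hs : s ∈ near D x) {φ : ↥(loc E (π s)) →* Cfsg.PSU 6 F 2} (X : Ctx E (π s) φ) :
    ∃ L : (Fin 6 → F) → G, Pts (near D x) s L := by
  classical
  haveI : Nonempty G := ⟨1⟩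
  set g : Q → G := Function.invFunOn π (near D x) with hg
  have g1 : ∀ {t}, t ∈ E → g t ∈ near D x ∧ π (g t) = t := fun {t} ht =>
    ⟨Function.invFunOn_mem (C.bij.surjOn ht), Function.invFunOn_eq (C.bij.surjOn ht)⟩
  have g2 : ∀ {a}, a ∈ near D x → g (π a) = a := fun {a} ha =>
    C.bij.injOn.leftInvOn_invFunOn ha
  refine ⟨fun u => g (Chart.L X.chart u), ?_, ?_, ?_, ?_, ?_, ?_⟩
  · intro u hu hu0
    obtain ⟨hm, hne, hc⟩ := L_mem X hu hu0
    obtain ⟨m1, m2⟩ := g1 hm
    exact ⟨m1, fun e => hne (by rw [← m2]; exact congrArg π e), (C.comm s hs _ m1).mpr (by rwa [m2])⟩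
  · rintro y ⟨hy, hne, hc⟩
    obtain ⟨u, hu, hu0, e⟩ := L_surj X (x := π y)
      ⟨C.bij.mapsTo hy, fun e => hne (C.bij.injOn hy hs e), (C.comm s hs y hy).mp hc⟩
    exact ⟨u, hu, hu0, by simp only [e]; exact g2 hy⟩
  · intro u c hu hu0 hc
    simp only [L_smul X hu hu0 hc]
  · intro u v hu hu0 hv hv0 e
    have := congrArg π e
    simp only [(g1 (L_mem X hu hu0).1).2, (g1 (L_mem X hv hv0).1).2] at this
    exact L_inj X hu hu0 hv hv0 this
  · intro u v hu hu0 hv hv0
    obtain ⟨m1, m2⟩ := g1 (L_mem X hu hu0).1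
    obtain ⟨n1, n2⟩ := g1 (L_mem X hv hv0).1
    rw [C.comm _ m1 _ n1, m2, n2]
    exact L_comm X hu hu0 hv hv0
  · intro u v hu hu0 hv hv0
    obtain ⟨m1, m2⟩ := g1 (L_mem X hu hu0).1
    obtain ⟨n1, n2⟩ := g1 (L_mem X hv hv0).1
    obtain ⟨h1, h2⟩ := C.mul _ m1 _ n1
    show g _ * g _ * g _ = g _
    rw [← g2 h1, h2, m2, n2, ← L_tconj X hv hv0 hu hu0]
    congr 1
    conv_rhs => rw [show (Chart.L X.chart u)⁻¹ = Chart.L X.chart u from
      inv_eq_of_mul_eq_one_right (X.ts.sq _ (L_mem X hu hu0).1)]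

theorem Copy.pat (C : Copy D x E π) {v : ℕ → Q} (P : Pat E v) :
    ∃ w : ℕ → G, Pat (near D x) w ∧ ∀ i < 9, π (w i) = v i := by
  classical
  haveI : Nonempty G := ⟨1⟩
  set g : Q → G := Function.invFunOn π (near D x) with hg
  have g1 : ∀ {t}, t ∈ E → g t ∈ near D x ∧ π (g t) = t := fun {t} ht =>
    ⟨Function.invFunOn_mem (C.bij.surjOn ht), Function.invFunOn_eq (C.bij.surjOn ht)⟩
  refine ⟨fun i => g (v i), ⟨fun i hi => (g1 (P.mem i hi)).1, fun i hi k hk e => ?_,
    fun i hi k hk e hc => ?_⟩, fun i hi => (g1 (P.mem i hi)).2⟩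
  · refine (C.comm _ (g1 (P.mem i hi)).1 _ (g1 (P.mem k hk)).1).mpr ?_
    rw [(g1 (P.mem i hi)).2, (g1 (P.mem k hk)).2]; exact P.comm i hi k hk e
  · have := (C.comm _ (g1 (P.mem i hi)).1 _ (g1 (P.mem k hk)).1).mp hc
    rw [(g1 (P.mem i hi)).2, (g1 (P.mem k hk)).2] at this
    exact P.nc i hi k hk e this

variable {d : G} [Finite Q] {p : ↥(Subgroup.centralizer ({d} : Set G)) →* Q}
variable {z : ↥(Subgroup.centralizer ({d} : Set G))}

/-- The members near each conjugate form a copy of the class, the map extending to the centralizer. -/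
theorem exists_copy (H : Fi23Local94.Full p z E) {x : G} (hx : x ∈ conjugatesOf d) :
    ∃ π : G → Q, Copy (conjugatesOf d) x E π ∧
      ∃ q : ↥(Subgroup.centralizer ({x} : Set G)) →* Q, Function.Surjective q ∧
        (∀ c : ↥(Subgroup.centralizer ({x} : Set G)), q c = 1 → (c : G) = 1 ∨ (c : G) = x) ∧
        ∀ c : ↥(Subgroup.centralizer ({x} : Set G)), (c : G) ∈ near (conjugatesOf d) x →
          q c = π (c : G) := by
  obtain ⟨π, hbij, hcomm, q, hq, hker, hπ⟩ := Fi23Setup94.chart H hx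
  refine ⟨π, ⟨hbij, hcomm, fun a ha b hb => ?_⟩, q, hq, hker, hπ⟩
  have hcen : ∀ {y}, y ∈ near (conjugatesOf d) x → y ∈ Subgroup.centralizer ({x} : Set G) :=
    fun hy => Subgroup.mem_centralizer_singleton_iff.mpr hy.2.2.symm.eq
  have hd2 : d * d = 1 := by
    have := congrArg Subtype.val H.zz
    rwa [Subgroup.coe_mul, H.zd] at this
  have haa : a * a = 1 := by
    obtain ⟨g, rfl⟩ := isConj_iff.mp ha.1
    rw [show g * d * g⁻¹ * (g * d * g⁻¹) = g * (d * d) * g⁻¹ by group, hd2]; group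
  have hmem : a * b * a ∈ near (conjugatesOf d) x := by
    have e : a * b * a = a * b * a⁻¹ := by rw [inv_eq_of_mul_eq_one_right haa]
    refine ⟨?_, fun e' => hb.2.1 ?_, ((ha.2.2.mul_right hb.2.2).mul_right ha.2.2)⟩
    · rw [e]; exact (hb.1 : IsConj d b).trans (isConj_iff.mpr ⟨a, rfl⟩)
    · have : a * x * a = x := by rw [← ha.2.2.eq, mul_assoc, haa, mul_one]
      calc b = a * a * b * (a * a) := by rw [haa, one_mul, mul_one]
        _ = a * (a * b * a) * a := by group
        _ = x := by rw [e', this]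
  refine ⟨hmem, ?_⟩
  obtain ⟨A, hA⟩ : ∃ A : ↥(Subgroup.centralizer ({x} : Set G)), (A : G) = a := ⟨⟨a, hcen ha⟩, rfl⟩
  obtain ⟨B, hB⟩ : ∃ B : ↥(Subgroup.centralizer ({x} : Set G)), (B : G) = b := ⟨⟨b, hcen hb⟩, rfl⟩
  have hab : ((A * B * A : ↥(Subgroup.centralizer ({x} : Set G))) : G) = a * b * a := by
    simp [hA, hB]
  have key := hπ (A * B * A) (hab ▸ hmem)
  rw [map_mul, map_mul, hπ A (hA ▸ ha), hπ B (hB ▸ hb), hA, hB, hab] at key
  exact key.symm

/-- The configuration exists, and lies over a diagram Y332 of the class. -/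
theorem exists_config_of_full (H : Fi23Local94.Full p z E) :
    ∃ j w, Fi23Config79.Config (conjugatesOf d) d j w := by
  obtain ⟨v, P⟩ := ThreeTransM22Exist51.exists_pat (ThreeTransM22Exist51.hyp_of_type H.grp H.prim H.m22)
  obtain ⟨F, _, _, _, hctx⟩ := exists_ctx H.grp H.prim H.m22
  have hW : ∀ x ∈ conjugatesOf d, Web (near (conjugatesOf d) x) F := fun x hx s hs => by
    obtain ⟨π, C, -⟩ := exists_copy H hx
    obtain ⟨φ, X⟩ := hctx (π s) (C.bij.mapsTo hs)
    exact C.pts hs X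
  obtain ⟨π, C, -⟩ := exists_copy H (mem_conjugatesOf_self (a := d))
  obtain ⟨w, Pw, -⟩ := C.pat P
  exact Fi23Config79.exists_config hW mem_conjugatesOf_self Pw

end Cfsg.Agent.Fi23Bridge79
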