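import Cfsg.Agent.Lib.UnitaryF4Line

/-!
# Two hyperovals in a totally isotropic plane

Three mutually orthogonal isotropic points complete to six points with product one in more than one way.
-/

set_option autoImplicit false
set_option linter.unusedSectionVars false
set_option linter.style.haveILetI false

namespace Cfsg.Agent.ThreeTransM22Hyperoval72

open Cfsg.Agent.UnitaryF4Geo Cfsg.Agent.UnitaryF4Line

variable {F : Type*} [Field F] [Fintype F] [hF : FourField F] {n : ℕ}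

local notation "act" => OrthUnitaryTransvection.act

/-- The sum of transvection corrections. -/
def corr (x : Fin n → F) : List (Fin n → F) → (Fin n → F)
  | [] => 0
  | p :: l => h x p • p + corr x l

theorem h_corr (x : Fin n → F) {q : Fin n → F} :
    ∀ {l : List (Fin n → F)}, (∀ p ∈ l, h p q = 0) → h (corr x l) q = 0
  | [], _ => h_zero_left q
  | p :: l, hl => by
    rw [corr, h_add_left, h_smul_left, hl p (by simp), mul_zero, zero_add]
    exact h_corr x fun r hr => hl r (List.mem_cons_of_mem _ hr)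

/-- The product of pairwise orthogonal transvections. -/
theorem act_prod (x : Fin n → F) :
    ∀ {l : List {u : Fin n → F // h u u = 0}}, (∀ p ∈ l, ∀ q ∈ l, h p.1 q.1 = 0) →
      act (l.map fun p => T p.1 p.2).prod x = x + corr x (l.map Subtype.val)
  | [], _ => by simp [corr, OrthUnitaryTransvection.act_one]
  | p :: l, hl => by
    rw [List.map_cons, List.prod_cons, OrthUnitaryTransvection.act_mul,
      act_prod x (fun a ha b hb => hl a (List.mem_cons_of_mem _ ha) b (List.mem_cons_of_mem _ hb)),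
      T_act, h_add_left, h_corr x (q := p.1) (fun r hr => by
        obtain ⟨r, hr', rfl⟩ := List.mem_map.mp hr
        exact hl r (List.mem_cons_of_mem _ hr') p (by simp)), add_zero, List.map_cons, corr]
    abel

/-- A point of the conic. -/
def pt (e₁ e₂ e₃ : Fin n → F) (a t : F) : Fin n → F := e₁ + t • e₂ + (a * t ^ 2) • e₃

/-- The six points have product one. -/
theorem corr_oval (e₁ e₂ e₃ : Fin n → F) {a w : F} (ha : a ≠ 0) (hw : w ^ 2 = w + 1)
    (x : Fin n → F) :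
    corr x [e₁, e₂, e₃, pt e₁ e₂ e₃ a 1, pt e₁ e₂ e₃ a w, pt e₁ e₂ e₃ a (w + 1)] = 0 := by
  have two := two_eq_zero (F := F)
  have hw3 : w ^ 3 = 1 := cube (omega_ne hw).1
  have ha3 : a ^ 3 = 1 := cube ha
  have e2 : w + 1 = w ^ 2 := hw.symm
  simp only [corr, pt, e2, add_zero, h_add_right, h_smul_right]
  funext i
  simp only [Pi.add_apply, Pi.smul_apply, smul_eq_mul, Pi.zero_apply]
  have S : 1 + w + w ^ 2 = 0 := by linear_combination hw + (w + 1) * two
  have c1 : (4 : F) = 0 := by linear_combination 2 * two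
  have c22 : 1 + 1 + w ^ 3 + w ^ 6 = 0 := by
    linear_combination c1 + (1 + w ^ 3 + 1) * hw3
  have c33 : 1 + a ^ 3 * (1 + w ^ 6 + w ^ 12) = 0 := by
    linear_combination c1 + (1 + w ^ 6 + w ^ 12) * ha3 + (w ^ 9 + w ^ 6 + 2 * w ^ 3 + 2) * hw3
  have s4 : 1 + w ^ 2 + w ^ 4 = 0 := by linear_combination S + w * hw3
  have s8 : 1 + w ^ 4 + w ^ 8 = 0 := by
    linear_combination S + (w + w ^ 2 * (w ^ 3 + 1)) * hw3
  have s10 : 1 + w ^ 5 + w ^ 10 = 0 := by
    linear_combination S + (w ^ 2 + w * (w ^ 6 + w ^ 3 + 1)) * hw3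
  linear_combination (h x e₁ * e₁ i * c1 + h x e₂ * e₂ i * c22 + h x e₃ * e₃ i * c33
    + h x e₁ * e₂ i * S + h x e₁ * e₃ i * a * s4 + h x e₂ * e₁ i * s4
    + h x e₂ * e₃ i * a * s8 + h x e₃ * e₁ i * a ^ 2 * s8 + h x e₃ * e₂ i * a ^ 2 * s10)

/-- Three mutually orthogonal isotropic vectors and the conics through them. -/
theorem exists_ovals :
    ∃ (u v : {u : Fin 6 → F // h u u = 0}) (S : Bool → List {u : Fin 6 → F // h u u = 0})
      (b : List {u : Fin 6 → F // h u u = 0}),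
      (h u.1 v.1 ≠ 0 ∧ u.1 ≠ 0 ∧ v.1 ≠ 0) ∧ b.length = 3 ∧ (∀ k, (S k).length = 3) ∧
      (∀ k, ∀ p ∈ b ++ S k, ∀ q ∈ b ++ S k, h p.1 q.1 = 0) ∧
      (∀ k, (b ++ S k).Pairwise fun p q => ∀ c : F, p.1 ≠ c • q.1) ∧
      (∀ k, ∀ p ∈ b ++ S k, p.1 ≠ 0) ∧
      (∀ k, (List.map (fun p => T p.1 p.2) (b ++ S k)).prod = (1 : Cfsg.SU 6 F 2)) ∧
      ∃ p ∈ S true, ∀ q ∈ S false, ∀ c : F, p.1 ≠ c • q.1 := by
  obtain ⟨w, hw⟩ := exists_omega (F := F)
  obtain ⟨hw0, hw1⟩ := omega_ne hw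
  have two := two_eq_zero (F := F)
  have hw10 : w + 1 ≠ 0 := fun e => hw1 (eq_of_add_eq_zero e)
  set e₁ : Fin 6 → F := ![1, 1, 0, 0, 0, 0] with he₁
  set e₂ : Fin 6 → F := ![0, 0, 1, 1, 0, 0] with he₂
  set e₃ : Fin 6 → F := ![0, 0, 0, 0, 1, 1] with he₃
  set v₁ : Fin 6 → F := ![0, 1, 1, 0, 0, 0] with hv₁
  have h11 : h e₁ e₁ = 0 := by simp [h, he₁, Fin.sum_univ_six]; linear_combination two
  have h22 : h e₂ e₂ = 0 := by simp [h, he₂, Fin.sum_univ_six]; linear_combination two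
  have h33 : h e₃ e₃ = 0 := by simp [h, he₃, Fin.sum_univ_six]; linear_combination two
  have hvv : h v₁ v₁ = 0 := by simp [h, hv₁, Fin.sum_univ_six]; linear_combination two
  have huv : h e₁ v₁ = 1 := by simp [h, he₁, hv₁, Fin.sum_univ_six]
  have h12 : h e₁ e₂ = 0 := by simp [h, he₁, he₂, Fin.sum_univ_six]
  have h13 : h e₁ e₃ = 0 := by simp [h, he₁, he₃, Fin.sum_univ_six]
  have h23 : h e₂ e₃ = 0 := by simp [h, he₂, he₃, Fin.sum_univ_six]
  have horth : ∀ a b c a' b' c' : F,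
      h (a • e₁ + b • e₂ + c • e₃) (a' • e₁ + b' • e₂ + c' • e₃) = 0 := by
    intro a b c a' b' c'
    simp only [h_add_left, h_add_right, h_smul_left, h_smul_right, h11, h22, h33, h12, h13, h23,
      h_comm_zero h12, h_comm_zero h13, h_comm_zero h23, mul_zero, add_zero]
  have hform : ∀ a t : F, pt e₁ e₂ e₃ a t = (1 : F) • e₁ + t • e₂ + (a * t ^ 2) • e₃ := by
    intro a t; rw [pt, one_smul]
  have hpt : ∀ a t : F, h (pt e₁ e₂ e₃ a t) (pt e₁ e₂ e₃ a t) = 0 := fun a t => by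
    rw [hform]; exact horth ..
  let aOf : Bool → F := fun k => if k then w else 1
  have haOf : ∀ k, aOf k ≠ 0 := by intro k; cases k <;> simp [aOf, hw0]
  set b : List {u : Fin 6 → F // h u u = 0} := [⟨e₁, h11⟩, ⟨e₂, h22⟩, ⟨e₃, h33⟩] with hb
  set S : Bool → List {u : Fin 6 → F // h u u = 0} := fun k =>
    [⟨_, hpt (aOf k) 1⟩, ⟨_, hpt (aOf k) w⟩, ⟨_, hpt (aOf k) (w + 1)⟩] with hS
  have hspan : ∀ k, ∀ p ∈ b ++ S k, ∃ x y z : F, p.1 = x • e₁ + y • e₂ + z • e₃ := by
    intro k p hp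
    simp only [hb, hS, List.mem_append, List.mem_cons, List.not_mem_nil, or_false] at hp
    rcases hp with (rfl | rfl | rfl) | (rfl | rfl | rfl)
    · exact ⟨1, 0, 0, by simp⟩
    · exact ⟨0, 1, 0, by simp⟩
    · exact ⟨0, 0, 1, by simp⟩
    all_goals exact ⟨_, _, _, hform _ _⟩
  have hco : ∀ x y z x' y' z' c : F, x • e₁ + y • e₂ + z • e₃ = c • (x' • e₁ + y' • e₂ + z' • e₃) →
      x = c * x' ∧ y = c * y' ∧ z = c * z' := by
    intro x y z x' y' z' c e
    exact ⟨by simpa [he₁, he₂, he₃] using congrFun e 0, by simpa [he₁, he₂, he₃] using congrFun e 2,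
      by simpa [he₁, he₂, he₃] using congrFun e 4⟩
  have hne : ∀ a t t' : F, t ≠ t' → ∀ c : F, pt e₁ e₂ e₃ a t ≠ c • pt e₁ e₂ e₃ a t' := by
    intro a t t' htt c e
    rw [hform, hform] at e
    obtain ⟨c1, c2, -⟩ := hco _ _ _ _ _ _ c e
    rw [mul_one] at c1
    rw [← c1, one_mul] at c2
    exact htt c2
  have hb1 : ∀ a t : F, a ≠ 0 → t ≠ 0 → ∀ c : F, e₁ ≠ c • pt e₁ e₂ e₃ a t ∧ e₂ ≠ c • pt e₁ e₂ e₃ a t
      ∧ e₃ ≠ c • pt e₁ e₂ e₃ a t := by
    intro a t ha ht c
    rw [hform]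
    refine ⟨fun e => ?_, fun e => ?_, fun e => ?_⟩
    · obtain ⟨c1, c2, -⟩ := hco 1 0 0 1 t (a * t ^ 2) c (by simpa using e)
      rw [mul_one] at c1; rw [← c1, one_mul] at c2; exact ht c2.symm
    · obtain ⟨c1, c2, -⟩ := hco 0 1 0 1 t (a * t ^ 2) c (by simpa using e)
      rw [mul_one] at c1; rw [← c1, zero_mul] at c2; exact one_ne_zero c2
    · obtain ⟨c1, c2, c3⟩ := hco 0 0 1 1 t (a * t ^ 2) c (by simpa using e)
      rw [mul_one] at c1; rw [← c1, zero_mul] at c3; exact one_ne_zero c3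
  have hd : (1 : F) ≠ w ∧ (1 : F) ≠ w + 1 ∧ w ≠ w + 1 :=
    ⟨fun e => hw1 e.symm, fun e => hw0 (add_eq_right.mp e.symm),
      fun e => one_ne_zero (left_eq_add.mp e)⟩
  refine ⟨⟨e₁, h11⟩, ⟨v₁, hvv⟩, S, b, ⟨?_, ?_, ?_⟩, rfl, fun k => rfl, ?_, ?_, ?_, ?_, ?_⟩
  · rw [huv]; exact one_ne_zero
  · intro e; simpa [he₁] using congrFun e 0
  · intro e; simpa [hv₁] using congrFun e 1
  · intro k p hp q hq
    obtain ⟨x, y, z, ep⟩ := hspan k p hp
    obtain ⟨x', y', z', eq⟩ := hspan k q hq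
    rw [ep, eq]; exact horth ..
  · intro k
    have B1 := hb1 (aOf k) 1 (haOf k) one_ne_zero
    have B2 := hb1 (aOf k) w (haOf k) hw0
    have B3 := hb1 (aOf k) (w + 1) (haOf k) hw10
    have N12 : ∀ c : F, e₁ ≠ c • e₂ := fun c e => by simpa [he₁, he₂] using congrFun e 0
    have N13 : ∀ c : F, e₁ ≠ c • e₃ := fun c e => by simpa [he₁, he₃] using congrFun e 0
    have N23 : ∀ c : F, e₂ ≠ c • e₃ := fun c e => by simpa [he₂, he₃] using congrFun e 2
    simp only [hb, hS, List.cons_append, List.nil_append, List.pairwise_cons, List.mem_cons,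
      List.not_mem_nil, or_false, forall_eq_or_imp, forall_eq, IsEmpty.forall_iff, List.Pairwise.nil,
      implies_true, and_true]
    exact ⟨⟨N12, N13, fun c => (B1 c).1, fun c => (B2 c).1, fun c => (B3 c).1⟩,
      ⟨N23, fun c => (B1 c).2.1, fun c => (B2 c).2.1, fun c => (B3 c).2.1⟩,
      ⟨fun c => (B1 c).2.2, fun c => (B2 c).2.2, fun c => (B3 c).2.2⟩,
      ⟨hne _ _ _ hd.1, hne _ _ _ hd.2.1⟩, hne _ _ _ hd.2.2⟩
  · intro k p hp e
    simp only [hb, hS, List.mem_append, List.mem_cons, List.not_mem_nil, or_false] at hp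
    rcases hp with (rfl | rfl | rfl) | (rfl | rfl | rfl)
    · simpa [he₁] using congrFun e 0
    · simpa [he₂] using congrFun e 2
    · simpa [he₃] using congrFun e 4
    all_goals simpa [he₁, he₂, he₃, pt] using congrFun e 0
  · intro k
    refine OrthUnitaryTransvection.su_ext fun x => ?_
    rw [act_prod x (fun p hp q hq => ?_), OrthUnitaryTransvection.act_one]
    · have := corr_oval e₁ e₂ e₃ (haOf k) hw x
      simp only [hb, hS, List.map_cons, List.map_nil, List.cons_append, List.nil_append]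
      rw [this, add_zero]
    · obtain ⟨x, y, z, ep⟩ := hspan k p hp
      obtain ⟨x', y', z', eq⟩ := hspan k q hq
      rw [ep, eq]; exact horth ..
  · refine ⟨⟨_, hpt (aOf true) 1⟩, by simp [hS], fun q hq c e => ?_⟩
    simp only [hS, List.mem_cons, List.not_mem_nil, or_false] at hq
    have main : ∀ t : F, pt e₁ e₂ e₃ w 1 = c • pt e₁ e₂ e₃ 1 t → False := by
      intro t e
      rw [hform, hform] at e
      obtain ⟨c1, c2, c3⟩ := hco _ _ _ _ _ _ c e
      rw [mul_one] at c1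
      rw [← c1, one_mul] at c2 c3
      rw [← c2] at c3
      exact hw1 (by simpa using c3)
    rcases hq with rfl | rfl | rfl <;> exact main _ (by simpa [aOf] using e)

end Cfsg.Agent.ThreeTransM22Hyperoval72
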