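import Cfsg.Agent.Lib.UnitaryF4Line
import Cfsg.Agent.Lib.ThreeTransM22Hyperoval72

/-!
# Hyperbolic frames of the six-dimensional hermitian space over four elements

Frames, the isometries between them, completions of orthogonal isotropic families, the decomposition of
involutions into orthogonal transvections, and the conics in the span of half a frame.
-/

set_option autoImplicit false
set_option linter.unusedSectionVars false
set_option linter.style.haveILetI false

namespace Cfsg.Agent.ThreeTransM22Frame72

open Cfsg.Agent.UnitaryF4Geo Cfsg.Agent.UnitaryF4Line Matrix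

variable {F : Type*} [Field F] [Fintype F] [hF : FourField F]

local notation "act" => OrthUnitaryTransvection.act

section general

variable {n : ℕ}

theorem h_sum_right {ι : Type*} [Fintype ι] (v : Fin n → F) (c : ι → F) (f : ι → Fin n → F) :
    h v (∑ i, c i • f i) = ∑ i, c i ^ 2 * h v (f i) := by
  classical
  have key : ∀ s : Finset ι, h v (∑ i ∈ s, c i • f i) = ∑ i ∈ s, c i ^ 2 * h v (f i) := by
    intro s
    induction s using Finset.induction_on with
    | empty => simp [h]
    | insert a s ha ih =>
      rw [Finset.sum_insert ha, Finset.sum_insert ha, ← ih]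
      rw [h_add_right, h_smul_right]
  exact key Finset.univ

/-- Duals of an independent family. -/
theorem exists_duals {k : ℕ} {u : Fin k → Fin n → F} (hu : LinearIndependent F u) :
    ∃ x : Fin k → Fin n → F, ∀ i j, h (x i) (u j) = if i = j then 1 else 0 := by
  classical
  let φ : (Fin n → F) →ₗ[F] (Fin k → F) :=
    { toFun := fun v i => h v (u i)
      map_add' := fun v w => funext fun i => h_add_left _ _ _
      map_smul' := fun c v => funext fun i => h_smul_left _ _ _ }
  have hsurj : LinearMap.range φ = ⊤ := by
    by_contra hne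
    obtain ⟨f, hf0, hf⟩ := Submodule.exists_le_ker_of_lt_top _ (lt_top_iff_ne_top.mpr hne)
    set c : Fin k → F := fun i => f (Pi.single i 1) with hc
    have hval : ∀ z : Fin k → F, f z = ∑ i, z i * c i := fun z => by
      conv_lhs => rw [pi_eq_sum_univ' z, map_sum]
      exact Finset.sum_congr rfl fun i _ => by rw [map_smul, smul_eq_mul, hc]
    have h0 : ∑ i, c i ^ 2 • u i = 0 := by
      refine eq_zero_of_h fun v => h_comm_zero ?_
      rw [h_sum_right]
      have := LinearMap.mem_ker.mp (hf (LinearMap.mem_range_self φ v))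
      rw [hval] at this
      refine Eq.trans (Finset.sum_congr rfl fun i _ => ?_) this
      show (c i ^ 2) ^ 2 * h v (u i) = h v (u i) * c i
      rw [sq_sq, mul_comm]
    refine hf0 (LinearMap.ext fun z => ?_)
    rw [hval, LinearMap.zero_apply]
    refine Finset.sum_eq_zero fun i _ => ?_
    rw [pow_eq_zero_iff (n := 2) (by norm_num) |>.mp (Fintype.linearIndependent_iff.mp hu _ h0 i),
      mul_zero]
  have : ∀ i : Fin k, ∃ x, φ x = Pi.single i 1 := fun i => LinearMap.range_eq_top.mp hsurj _
  choose x hx using this
  refine ⟨x, fun i j => ?_⟩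
  rw [show h (x i) (u j) = φ (x i) j from rfl, hx, Pi.single_apply]
  exact if_congr eq_comm rfl rfl

/-- A scalar making a vector isotropic. -/
theorem exists_alpha {x u : Fin n → F} (hu : h u u = 0) (hxu : h x u = 1) :
    ∃ α : F, h (x + α • u) (x + α • u) = 0 := by
  obtain ⟨w, hw⟩ := exists_omega (F := F)
  rcases h_self x with e | e
  · exact ⟨0, by simpa using e⟩
  · refine ⟨w, ?_⟩
    simp only [h_add_left, h_add_right, h_smul_left, h_smul_right, e, hu, hxu, h_comm_one hxu]
    linear_combination hw + (1 + w) * (two_eq_zero (F := F))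

/-- An isotropic vector orthogonal to fewer than `n - 1` given ones. -/
theorem exists_iso_perp {m : ℕ} (hm : m + 1 < n) (s : Fin m → Fin n → F) :
    ∃ y : Fin n → F, y ≠ 0 ∧ h y y = 0 ∧ ∀ i, h y (s i) = 0 := by
  have step : ∀ {l : ℕ} (r : Fin l → Fin n → F), l < n → ∃ y, y ≠ 0 ∧ ∀ i, h y (r i) = 0 := by
    intro l r hl
    let φ : (Fin n → F) →ₗ[F] (Fin l → F) :=
      { toFun := fun v i => h v (r i)
        map_add' := fun v w => funext fun i => h_add_left _ _ _
        map_smul' := fun c v => funext fun i => h_smul_left _ _ _ }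
    obtain ⟨y, hy, hy0⟩ := (Submodule.ne_bot_iff _).mp
      (LinearMap.ker_ne_bot_of_finrank_lt (f := φ) (by simp [hl]))
    exact ⟨y, hy0, fun i => congrFun (LinearMap.mem_ker.mp hy) i⟩
  obtain ⟨y, hy0, hy⟩ := step s (by omega)
  rcases h_self y with e | e
  · exact ⟨y, hy0, e, hy⟩
  obtain ⟨z, hz0, hz⟩ := step (Fin.cons y s) hm
  rcases h_self z with e' | e'
  · exact ⟨z, hz0, e', fun i => by simpa using hz i.succ⟩
  have hzy : h z y = 0 := by simpa using hz 0
  refine ⟨z + y, fun h0 => ?_, ?_, fun i => ?_⟩
  · have := congrArg (fun v => h v y) h0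
    simp [h_add_left, hzy, e, h_zero_left] at this
  · simp only [h_add_left, h_add_right, e, e', hzy, h_comm_zero hzy, add_zero, zero_add]
    exact add_self 1
  · rw [h_add_left, hy i, add_zero]
    simpa using hz i.succ

/-- An involution is a product of orthogonal transvections with independent centres. -/
theorem decompose : ∀ {t : Cfsg.SU n F 2}, t * t = 1 →
    ∃ (l : ℕ) (u x : Fin l → Fin n → F) (hu : ∀ i, h (u i) (u i) = 0),
      (∀ i j, h (u i) (u j) = 0) ∧ (∀ i j, h (x i) (u j) = if i = j then 1 else 0) ∧
      (List.ofFn fun i => T (u i) (hu i)).prod = t ∧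
      ∀ i, u i = act t (x i) + x i := by
  classical
  intro t
  induction hN : {v : Fin n → F | act t v ≠ v}.ncard using Nat.strong_induction_on generalizing t with
  | _ N ih =>
    intro ht
    by_cases ht1 : t = 1
    · exact ⟨0, Fin.elim0, Fin.elim0, fun i => i.elim0, fun i => i.elim0, fun i => i.elim0,
        by simp [ht1], fun i => i.elim0⟩
    have htt : ∀ v, act t (act t v) = v := fun v => by
      rw [← OrthUnitaryTransvection.act_mul, ht, OrthUnitaryTransvection.act_one]
    have hiso : ∀ v w, h (act t v) (act t w) = h v w := OrthUnitaryTransvection.herm_act t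
    have hadj : ∀ v w, h (act t v + v) w = h v (act t w + w) := fun v w => by
      rw [h_add_left, h_add_right]
      congr 1
      conv_lhs => rw [← htt w, hiso]
    obtain ⟨a, ha⟩ : ∃ a, h (act t a + a) a = 1 := by
      by_contra hno
      push Not at hno
      have h0 : ∀ v, h (act t v + v) v = 0 := fun v => by
        refine (fixed_cases ?_).resolve_right (hno v)
        conv_rhs => rw [hadj]
        rw [← h_symm]
      refine ht1 (OrthUnitaryTransvection.su_ext fun v => ?_)
      rw [OrthUnitaryTransvection.act_one]
      refine vec_eq_of_add (eq_zero_of_h fun w => ?_)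
      exact self_polar (fun v w => h (act t v + v) w)
        (fun v w z => by simp only [OrthUnitaryTransvection.act_add, h_add_left]; ring)
        (fun v w z => h_add_right _ _ _)
        (fun c v w => by simp only [OrthUnitaryTransvection.act_smul, h_add_left, h_smul_left]; ring)
        (fun c v w => h_smul_right _ _ _) h0 v w
    set u := act t a + a with hu
    have htu : act t u = u := by rw [hu, OrthUnitaryTransvection.act_add, htt, add_comm]
    have huu : h u u = 0 := by
      conv_lhs => rw [hu, hadj, htu, vec_add_self, h_zero_right]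
    have hau : h a u = 1 := h_comm_one ha
    set t' := T u huu * t with ht'
    have hact' : ∀ v, act t' v = act t v + h v u • u := fun v => by
      rw [ht', OrthUnitaryTransvection.act_mul, T_act]
      congr 2
      conv_rhs => rw [← hiso v u, htu]
    have hc : Commute (T u huu) t := by
      exact (mul_inv_eq_iff_eq_mul.mp ((T_conj t huu).trans (T_congr htu _ huu))).symm
    have ht'2 : t' * t' = 1 := by
      rw [ht', hc.symm.mul_mul_mul_comm, T_sq, ht, one_mul]
    have hlt : {v : Fin n → F | act t' v ≠ v}.ncard < N := by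
      rw [← hN]
      refine Set.ncard_lt_ncard ⟨fun v hv hfix => hv ?_, fun hsub => ?_⟩ (Set.toFinite _)
      · rw [hact', hfix]
        have : h v u = 0 := by rw [hu, ← hadj, hfix, vec_add_self, h_zero_left]
        rw [this, zero_smul, add_zero]
      · refine hsub (a := a) ?_ ?_
        · intro e
          rw [hu, e, vec_add_self, h_zero_left] at ha
          exact zero_ne_one ha
        · rw [hact', hau, one_smul, hu, ← add_assoc, vec_add_self, zero_add]
    obtain ⟨l, us, xs, hus, horth, hdual, hprod, hN'⟩ := ih _ hlt rfl ht'2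
    -- the new centre is orthogonal to the old ones
    have hut : act t' u = u := by rw [hact', htu, huu, zero_smul, add_zero]
    have hou : ∀ i, h u (us i) = 0 := fun i => by
      have e1 : h (act t' (xs i)) u = h (xs i) u := by
        conv_lhs => rw [← hut]
        exact OrthUnitaryTransvection.herm_act t' _ _
      refine h_comm_zero ?_
      rw [hN' i, h_add_left, e1, add_self]
    have hfixa : act t' a + a = 0 := by
      rw [hact', hau, one_smul, hu, show act t a + (act t a + a) + a
        = (act t a + act t a) + (a + a) by abel, vec_add_self, vec_add_self, zero_add]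
    have hau' : ∀ i, h a (us i) = 0 := fun i => by
      rw [hN' i]
      have : h a (act t' (xs i) + xs i) = h (act t' a + a) (xs i) := by
        rw [h_add_left, h_add_right]
        congr 1
        refine (OrthUnitaryTransvection.herm_act t' a (act t' (xs i))).symm.trans ?_
        show h (act t' a) (act t' (act t' (xs i))) = h (act t' a) (xs i)
        rw [← OrthUnitaryTransvection.act_mul, ht'2, OrthUnitaryTransvection.act_one]
      rw [this, hfixa, h_zero_left]
    refine ⟨l + 1, Fin.cons u us, Fin.cons a (fun i => xs i + h (xs i) u • a), Fin.cases huu hus,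
      ?_, ?_, ?_, ?_⟩
    · intro i j
      cases i using Fin.cases with
      | zero =>
        cases j using Fin.cases with
        | zero => simpa using huu
        | succ j => simpa using hou j
      | succ i =>
        cases j using Fin.cases with
        | zero => simpa using h_comm_zero (hou i)
        | succ j => simpa using horth i j
    · intro i j
      cases i using Fin.cases with
      | zero =>
        cases j using Fin.cases with
        | zero => simpa using hau
        | succ j => simpa [(Fin.succ_ne_zero j).symm] using hau' j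
      | succ i =>
        cases j using Fin.cases with
        | zero => simp [Fin.succ_ne_zero, h_add_left, h_smul_left, hau, add_self]
        | succ j => simp [h_add_left, h_smul_left, hau', hdual i j]
    · rw [List.ofFn_succ, List.prod_cons]
      simp only [Fin.cons_zero, Fin.cases_zero, Fin.cons_succ, Fin.cases_succ]
      rw [hprod, ht', ← mul_assoc, T_sq, one_mul]
    · intro i
      cases i using Fin.cases with
      | zero => simp [hu]
      | succ i =>
        simp only [Fin.cons_succ]
        rw [OrthUnitaryTransvection.act_add, OrthUnitaryTransvection.act_smul, hN' i, hact']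
        rw [show act t (xs i) + h (xs i) u • u + xs i
          = act t (xs i) + xs i + h (xs i) u • u by abel, hu, smul_add]
        abel

end general

/-- A hyperbolic frame. -/
structure Frame (e f : Fin 3 → Fin 6 → F) : Prop where
  ee : ∀ i j, h (e i) (e j) = 0
  ff : ∀ i j, h (f i) (f j) = 0
  ef : ∀ i j, h (e i) (f j) = if i = j then 1 else 0

variable {e f e' f' : Fin 3 → Fin 6 → F}

theorem Frame.fe (hfr : Frame e f) (i j : Fin 3) : h (f j) (e i) = if i = j then 1 else 0 := by
  by_cases e1 : i = j
  · subst e1
    rw [if_pos rfl]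
    exact h_comm_one (by simpa using hfr.ef i i)
  · rw [if_neg e1]
    exact h_comm_zero (by simpa [e1] using hfr.ef i j)

theorem Frame.symm (hfr : Frame e f) : Frame f e :=
  ⟨hfr.ff, hfr.ee, fun i j => by rw [hfr.fe j i]; exact if_congr eq_comm rfl rfl⟩

/-- Linear combinations. -/
def comb (e : Fin 3 → Fin 6 → F) (c : Fin 3 → F) : Fin 6 → F := ∑ i, c i • e i

theorem comb_single (e : Fin 3 → Fin 6 → F) (i : Fin 3) : comb e (Pi.single i 1) = e i := by
  rw [comb, Finset.sum_eq_single i] <;> simp +contextual

theorem comb_three (e : Fin 3 → Fin 6 → F) (c : Fin 3 → F) :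
    comb e c = c 0 • e 0 + c 1 • e 1 + c 2 • e 2 := Fin.sum_univ_three _

theorem comb_smul (e : Fin 3 → Fin 6 → F) (a : F) (c : Fin 3 → F) :
    comb e (a • c) = a • comb e c := by
  simp [comb, Finset.smul_sum, smul_smul]

theorem comb_zero (e : Fin 3 → Fin 6 → F) : comb e 0 = 0 := by simp [comb]

theorem Frame.h_ef (hfr : Frame e f) (c b : Fin 3 → F) :
    h (comb e c) (comb f b) = ∑ i, c i * b i ^ 2 := by
  rw [comb, comb, h_sum_left]
  refine Finset.sum_congr rfl fun i _ => ?_
  rw [h_sum_right, Finset.sum_eq_single i] <;> simp +contextual [hfr.ef, eq_comm]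

theorem Frame.h_ee (hfr : Frame e f) (c b : Fin 3 → F) : h (comb e c) (comb e b) = 0 := by
  rw [comb, comb, h_sum_left]
  refine Finset.sum_eq_zero fun i _ => ?_
  rw [h_sum_right, Finset.sum_eq_zero (fun j _ => by rw [hfr.ee, mul_zero]), mul_zero]

theorem Frame.h_eb (hfr : Frame e f) (c : Fin 3 → F) (j : Fin 3) : h (comb e c) (f j) = c j := by
  rw [← comb_single f j, hfr.h_ef, Finset.sum_eq_single j] <;> simp +contextual

theorem Frame.comb_inj (hfr : Frame e f) {c b : Fin 3 → F} (he : comb e c = comb e b) : c = b :=
  funext fun j => by rw [← hfr.h_eb c j, he, hfr.h_eb]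

theorem Frame.ne_zero (hfr : Frame e f) (i : Fin 3) : e i ≠ 0 := fun h0 => by
  have := hfr.ef i i
  rw [h0, h_zero_left, if_pos rfl] at this
  exact zero_ne_one this

/-- The coordinates with respect to a frame. -/
theorem Frame.expand (hfr : Frame e f) (v : Fin 6 → F) :
    v = comb e (fun i => h v (f i)) + comb f (fun i => h v (e i)) := by
  classical
  let b : Fin 3 ⊕ Fin 3 → Fin 6 → F := Sum.elim e f
  have hb : ∀ c : Fin 3 ⊕ Fin 3 → F,
      (∑ k, c k • b k) = comb e (c ∘ Sum.inl) + comb f (c ∘ Sum.inr) := fun c => by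
    rw [Fintype.sum_sum_type]; rfl
  have hli : LinearIndependent F b := by
    rw [Fintype.linearIndependent_iff]
    intro c hc k
    rw [hb] at hc
    cases k with
    | inl i =>
      have := congrArg (fun w => h w (f i)) hc
      simp only [h_add_left, h_zero_left, hfr.h_eb, hfr.symm.h_ee] at this
      rw [show h (comb f (c ∘ Sum.inr)) (f i) = 0 by
        rw [← comb_single f i]; exact hfr.symm.h_ee _ _, add_zero] at this
      exact this
    | inr i =>
      have := congrArg (fun w => h w (e i)) hc
      simp only [h_add_left, h_zero_left, hfr.symm.h_eb] at this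
      rw [show h (comb e (c ∘ Sum.inl)) (e i) = 0 by
        rw [← comb_single e i]; exact hfr.h_ee _ _, zero_add] at this
      exact this
  have hspan := hli.span_eq_top_of_card_eq_finrank (by simp)
  obtain ⟨c, hc⟩ := Submodule.mem_span_range_iff_exists_fun F |>.mp
    (hspan ▸ Submodule.mem_top (x := v))
  rw [hb] at hc
  have e1 : (fun i => h v (f i)) = c ∘ Sum.inl := funext fun i => by
    rw [← hc, h_add_left, hfr.h_eb, ← comb_single f i, hfr.symm.h_ee, add_zero]
  have e2 : (fun i => h v (e i)) = c ∘ Sum.inr := funext fun i => by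
    rw [← hc, h_add_left, hfr.symm.h_eb, ← comb_single e i, hfr.h_ee, zero_add]
  rw [e1, e2, hc]

/-- Orthogonal to the first half means in its span. -/
theorem Frame.mem_plane (hfr : Frame e f) {v : Fin 6 → F} (hv : ∀ i, h v (e i) = 0) :
    v = comb e (fun i => h v (f i)) := by
  conv_lhs => rw [hfr.expand v]
  rw [show (fun i => h v (e i)) = (0 : Fin 3 → F) from funext hv, comb_zero, add_zero]

/-- Completion of three orthogonal independent isotropic vectors. -/
theorem exists_frame_of {e : Fin 3 → Fin 6 → F} (hee : ∀ i j, h (e i) (e j) = 0)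
    (hli : LinearIndependent F e) : ∃ f, Frame e f := by
  obtain ⟨x, hx⟩ := exists_duals hli
  have hx' : ∀ i j, h (e j) (x i) = if i = j then 1 else 0 := fun i j => by
    rw [h_symm (x i) (e j), hx]; split_ifs <;> simp
  obtain ⟨a, ha⟩ := exists_alpha (hee 0 0) (by simpa using hx 0 0)
  set f0 := x 0 + a • e 0 with hf0
  set b := h (x 1) f0 with hb
  have e0f0 : h (e 0) f0 = 1 := by simp [hf0, h_add_right, h_smul_right, hx', hee]
  have e1f0 : h (e 1) f0 = 0 := by simp [hf0, h_add_right, h_smul_right, hx', hee]
  have e2f0 : h (e 2) f0 = 0 := by simp [hf0, h_add_right, h_smul_right, hx', hee]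
  obtain ⟨g, hg⟩ := exists_alpha (x := x 1 + b • e 0) (hee 1 1)
    (by simp [h_add_left, h_smul_left, hx, hee])
  set f1 := x 1 + b • e 0 + g • e 1 with hf1
  have f1f0 : h f1 f0 = 0 := by
    simp [hf1, h_add_left, h_smul_left, e0f0, e1f0, ← hb, add_self]
  have e0f1 : h (e 0) f1 = 0 := by simp [hf1, h_add_right, h_smul_right, hx', hee]
  have e1f1 : h (e 1) f1 = 1 := by simp [hf1, h_add_right, h_smul_right, hx', hee]
  have e2f1 : h (e 2) f1 = 0 := by simp [hf1, h_add_right, h_smul_right, hx', hee]
  set b0 := h (x 2) f0 with hb0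
  set b1 := h (x 2) f1 with hb1
  obtain ⟨g2, hg2⟩ := exists_alpha (x := x 2 + b0 • e 0 + b1 • e 1) (hee 2 2)
    (by simp [h_add_left, h_smul_left, hx, hee])
  set f2 := x 2 + b0 • e 0 + b1 • e 1 + g2 • e 2 with hf2
  have f2f0 : h f2 f0 = 0 := by
    simp [hf2, h_add_left, h_smul_left, e0f0, e1f0, e2f0, ← hb0, add_self]
  have f2f1 : h f2 f1 = 0 := by
    simp [hf2, h_add_left, h_smul_left, e0f1, e1f1, e2f1, ← hb1, add_self]
  have e0f2 : h (e 0) f2 = 0 := by simp [hf2, h_add_right, h_smul_right, hx', hee]
  have e1f2 : h (e 1) f2 = 0 := by simp [hf2, h_add_right, h_smul_right, hx', hee]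
  have e2f2 : h (e 2) f2 = 1 := by simp [hf2, h_add_right, h_smul_right, hx', hee]
  refine ⟨![f0, f1, f2], hee, fun i j => ?_, fun i j => ?_⟩
  · fin_cases i <;> fin_cases j <;>
      simp [ha, hg, hg2, f1f0, f2f0, f2f1, h_comm_zero f1f0, h_comm_zero f2f0, h_comm_zero f2f1]
  · fin_cases i <;> fin_cases j <;>
      simp [e0f0, e0f1, e0f2, e1f0, e1f1, e1f2, e2f0, e2f1, e2f2]

/-- An isometry carrying one frame to a scaled frame, with prescribed ratios. -/
theorem exists_isometry (hfr : Frame e f) (hfr' : Frame e' f') :
    ∃ δ : F, δ ≠ 0 ∧ (e = e' ∧ f = f' → δ = 1) ∧ ∀ l : Fin 3 → F, (∀ i, l i ≠ 0) →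
      δ * (∏ i, l i) ^ 2 = 1 →
        ∃ A : Cfsg.SU 6 F 2, (∀ i, act A (e i) = l i • e' i) ∧ ∀ i, act A (f i) = l i • f' i := by
  classical
  let L : (Fin 3 → F) → (Fin 6 → F) →ₗ[F] (Fin 6 → F) := fun l =>
    { toFun := fun v => comb e' (fun i => h v (f i) * l i) + comb f' (fun i => h v (e i) * l i)
      map_add' := fun v w => by
        simp [comb, h_add_left, add_mul, add_smul, Finset.sum_add_distrib]; abel
      map_smul' := fun c v => by
        simp [comb, h_smul_left, Finset.smul_sum, smul_smul, mul_assoc, smul_add] }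
  have hLe : ∀ l i, L l (e i) = l i • e' i := fun l i => by
    show comb e' _ + comb f' _ = _
    rw [show (fun j => h (e i) (f j) * l j) = l i • Pi.single i 1 from funext fun j => by
        rw [hfr.ef]; by_cases hij : i = j
        · subst hij; simp
        · simp [hij, Pi.single_eq_of_ne (Ne.symm hij)],
      show (fun j => h (e i) (e j) * l j) = (0 : Fin 3 → F) from funext fun j => by
        rw [hfr.ee, zero_mul]; rfl,
      comb_zero, add_zero, comb_smul, comb_single]
  have hLf : ∀ l i, L l (f i) = l i • f' i := fun l i => by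
    show comb e' _ + comb f' _ = _
    rw [show (fun j => h (f i) (e j) * l j) = l i • Pi.single i 1 from funext fun j => by
        rw [hfr.fe]; by_cases hij : j = i
        · subst hij; simp
        · simp [hij],
      show (fun j => h (f i) (f j) * l j) = (0 : Fin 3 → F) from funext fun j => by
        rw [hfr.ff, zero_mul]; rfl,
      comb_zero, zero_add, comb_smul, comb_single]
  have hiso : ∀ l, (∀ i, l i ≠ 0) → ∀ v w, h (L l v) (L l w) = h v w := by
    intro l hl v w
    show h (comb e' _ + comb f' _) (comb e' _ + comb f' _) = _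
    conv_rhs => rw [hfr.expand v, hfr.expand w]
    simp only [h_add_left, h_add_right, hfr'.h_ee, hfr'.symm.h_ee, hfr.h_ee, hfr.symm.h_ee,
      hfr'.h_ef, hfr'.symm.h_ef, hfr.h_ef, hfr.symm.h_ef, zero_add, add_zero]
    congr 1 <;> refine Finset.sum_congr rfl fun i _ => ?_
    · linear_combination (h v (e i) * h w (f i) ^ 2) * cube (hl i)
    · linear_combination (h v (f i) * h w (e i) ^ 2) * cube (hl i)
  -- the determinant
  let L₁ : (Fin 6 → F) →ₗ[F] (Fin 6 → F) := L fun _ => 1
  let b : Fin 3 ⊕ Fin 3 → Fin 6 → F := Sum.elim e f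
  have hspan : ∀ v, v ∈ Submodule.span F (Set.range b) := fun v => by
    rw [hfr.expand v]
    refine add_mem (sum_mem fun i _ => Submodule.smul_mem _ _ (Submodule.subset_span ⟨Sum.inl i, rfl⟩))
      (sum_mem fun i _ => Submodule.smul_mem _ _ (Submodule.subset_span ⟨Sum.inr i, rfl⟩))
  let B : Module.Basis (Fin 3 ⊕ Fin 3) F (Fin 6 → F) :=
    Module.Basis.mk (v := b) (linearIndependent_of_top_le_span_of_card_eq_finrank
      (fun v _ => hspan v) (by simp)) (fun v _ => hspan v)
  let Dl : (Fin 3 → F) → (Fin 6 → F) →ₗ[F] (Fin 6 → F) := fun l =>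
    Matrix.toLin B B (Matrix.diagonal (Sum.elim l l))
  have hD : ∀ l k, Dl l (b k) = Sum.elim l l k • b k := fun l k => by
    have hBk : B k = b k := Module.Basis.mk_apply _ _ k
    rw [← hBk, Matrix.toLin_self, Finset.sum_eq_single k] <;>
      simp +contextual [Matrix.diagonal_apply]
  have hfact : ∀ l, L l = L₁.comp (Dl l) := by
    intro l
    refine B.ext fun k => ?_
    rw [Module.Basis.mk_apply, LinearMap.comp_apply, hD, map_smul]
    cases k with
    | inl i => exact (hLe l i).trans (by simp [L₁, b, hLe])
    | inr i => exact (hLf l i).trans (by simp [L₁, b, hLf])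
  have hdet : ∀ l, LinearMap.det (L l) = LinearMap.det L₁ * (∏ i, l i) ^ 2 := fun l => by
    rw [hfact, LinearMap.det_comp, LinearMap.det_toLin, Matrix.det_diagonal, Fintype.prod_sum_type]
    simp [pow_two]
  refine ⟨LinearMap.det L₁, fun h0 => ?_, fun hs => ?_, fun l hl hl1 => ?_⟩
  · obtain ⟨v, hv, hv0⟩ := (Submodule.ne_bot_iff _).mp
      (LinearMap.bot_lt_ker_of_det_eq_zero h0).ne'
    refine hv0 (eq_zero_of_h fun w => ?_)
    rw [← hiso (fun _ => 1) (fun _ => one_ne_zero) v w]
    show h (L₁ v) _ = 0
    rw [LinearMap.mem_ker.mp hv, h_zero_left]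
  · obtain ⟨rfl, rfl⟩ := hs
    have : L₁ = LinearMap.id := LinearMap.ext fun v => by
      show comb e _ + comb f _ = v
      simpa using (hfr.expand v).symm
    rw [this, LinearMap.det_id]
  · set M := LinearMap.toMatrix' (L l) with hM
    have hMv : ∀ v, M *ᵥ v = L l v := fun v => LinearMap.toMatrix'_mulVec (L l) v
    refine ⟨OrthUnitaryHerm.mkSU M (by rw [hM, LinearMap.det_toMatrix', hdet, hl1])
      (fun v w => by rw [hMv, hMv]; exact hiso l hl v w), fun i => ?_, fun i => ?_⟩
    · exact (hMv (e i)).trans (hLe l i)
    · exact (hMv (f i)).trans (hLf l i)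

/-- The point of the conic with parameter `a`. -/
def q (a t : F) : Fin 3 → F := ![1, t, a * t ^ 2]

/-- The three conic points have the same product as the three base points. -/
theorem hexad (hfr : Frame e f) {a w : F} (ha : a ≠ 0) (hw : w ^ 2 = w + 1) :
    T (e 0) (hfr.ee 0 0) * T (e 1) (hfr.ee 1 1) * T (e 2) (hfr.ee 2 2) =
      T (comb e (q a 1)) (hfr.h_ee _ _) * T (comb e (q a w)) (hfr.h_ee _ _) *
        T (comb e (q a (w + 1))) (hfr.h_ee _ _) := by
  have key := fun x => ThreeTransM22Hyperoval72.corr_oval (e 0) (e 1) (e 2) ha hw x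
  have hpt : ∀ t : F, comb e (q a t) = ThreeTransM22Hyperoval72.pt (e 0) (e 1) (e 2) a t := fun t => by
    rw [comb_three, ThreeTransM22Hyperoval72.pt]; simp [q]
  refine OrthUnitaryTransvection.su_ext fun x => ?_
  simp only [OrthUnitaryTransvection.act_mul, T_act, h_add_left, h_smul_left, hfr.ee, hfr.h_ee,
    mul_zero, add_zero]
  have k := key x
  simp only [ThreeTransM22Hyperoval72.corr, ← hpt, add_zero] at k
  simp only [add_assoc]
  refine congrArg (x + ·) (vec_eq_of_add ?_)
  rw [← k]
  abel

end Cfsg.Agent.ThreeTransM22Frame72
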