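import Cfsg.Agent.Lib.ThreeTransM22Cent72
import Cfsg.Agent.Lib.ThreeTransM22Frame72

/-!
# Members near a member of a class of type M(22) as isotropic points

The members near `d` are indexed by the isotropic points; the conics in a plane give the two products of
three base members; involutions of the local group are products of at most three commuting members.
-/

set_option autoImplicit false
set_option linter.unusedSectionVars false
set_option linter.style.haveILetI false

namespace Cfsg.Agent.ThreeTransM22Lift72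

open Subgroup Cfsg.Agent.ThreeTransRel Cfsg.Agent.ThreeTransDescent
open Cfsg.Agent.UnitaryF4Geo Cfsg.Agent.UnitaryF4Line
open Cfsg.Agent.ThreeTransM22Local72 Cfsg.Agent.ThreeTransM22Frame72

variable {G : Type*} [Group G] [Finite G] {D : Set G}
variable {F : Type} [Field F] [Fintype F] [hF : FourField F]
variable {d : G} {φ : ↥(loc D d) →* Cfsg.PSU 6 F 2}

local notation "π" => QuotientGroup.mk' (Subgroup.center (Cfsg.SU 6 F 2))
local notation "act" => OrthUnitaryTransvection.act

/-- What is used about a member and the map of its local group. -/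
structure Ctx (D : Set G) (d : G) (φ : ↥(loc D d) →* Cfsg.PSU 6 F 2) : Prop where
  ts : TSys D
  prim : Cfsg.IsPrimitiveUnderConj D
  centre : Subgroup.center G = ⊥
  lines : ∀ s ∈ D, ThreeTransLine.LineAt D s
  self : ∀ s ∈ D, s ∈ loc D s
  only : ∀ z : G, Commute d z → (∀ y ∈ near D d, Commute y z) → z = 1 ∨ z = d
  mem : d ∈ D
  chart : Chart D d φ

/-- Every member has a context, over one field. -/
theorem exists_ctx (hD : Cfsg.IsThreeTranspositionGroup D) (hprim : Cfsg.IsPrimitiveUnderConj D)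
    (h22 : Cfsg.IsOfTypeM22 G D) :
    ∃ (F : Type) (_ : Field F) (_ : Fintype F) (_ : FourField F), ∀ s ∈ D,
      ∃ φ : ↥(loc D s) →* Cfsg.PSU 6 F 2, Ctx D s φ := by
  have ht := tsys_of_group hD
  have hmain := ThreeTransM22Local72.main hD hprim h22
  have hline := ThreeTransLine.lineAt_all ht hprim h22
  obtain ⟨hZ, d, hd, -, -, -, ⟨F, _, _, hF, ⟨e⟩⟩, -⟩ := h22
  haveI : FourField F := ⟨hF⟩
  obtain ⟨φ, C⟩ := chart_of_iso ht hprim hd e
  obtain ⟨a, ha, hgen⟩ := centre_gen hD hprim hZ hd C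
  refine ⟨F, inferInstance, inferInstance, inferInstance, fun s hs => ?_⟩
  have hnear : ∀ g x : G, ∀ y, y ∈ near D x → g * y * g⁻¹ ∈ near D (g * x * g⁻¹) := fun g x y hy =>
    ⟨ht.conj g y hy.1, fun h => hy.2.1 (mul_left_cancel (mul_right_cancel h)),
      (Commute.conj_iff g).mpr hy.2.2⟩
  have honly : ∀ z : G, Commute s z → (∀ y ∈ near D s, Commute y z) → z = 1 ∨ z = s := by
    intro z hz hzc
    obtain ⟨g, hg⟩ := hprim.1 s hs a ha
    rcases hgen (g * z * g⁻¹) (hg ▸ (Commute.conj_iff g).mpr hz) (fun y hy => by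
      have hy' := hnear g⁻¹ a y hy
      rw [show g⁻¹ * a * g⁻¹⁻¹ = s by rw [← hg]; group] at hy'
      have := (Commute.conj_iff g).mpr (hzc _ hy')
      rwa [show g * (g⁻¹ * y * g⁻¹⁻¹) * g⁻¹ = y by group] at this) with h | h
    · exact Or.inl (conj_eq_one_iff.mp h)
    · rw [← hg] at h; exact Or.inr (mul_left_cancel (mul_right_cancel h))
  obtain ⟨g, hg⟩ := hprim.1 s hs d hd
  have hm : (loc D s).map (MulAut.conj g).toMonoidHom = loc D d := by
    rw [loc, loc, MonoidHom.map_closure]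
    refine congrArg _ (Set.ext fun y => ⟨?_, fun hy => ⟨g⁻¹ * y * g, ?_, by simp [mul_assoc]⟩⟩)
    · rintro ⟨x, hx, rfl⟩
      exact hg ▸ hnear g s x hx
    · have := hnear g⁻¹ d y hy
      rw [inv_inv, show g⁻¹ * d * g = s by rw [← hg]; group] at this
      exact this
  let E : ↥(loc D s) ≃* ↥(loc D d) :=
    ((loc D s).equivMapOfInjective _ (MulAut.conj g).injective).trans (MulEquiv.subgroupCongr hm)
  have hc : (Subgroup.center ↥(loc D s)).map (E : ↥(loc D s) →* ↥(loc D d)) =
      Subgroup.center ↥(loc D d) := by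
    ext y
    simp only [mem_map, MonoidHom.coe_coe, mem_center_iff]
    refine ⟨?_, fun hy => ⟨E.symm y, fun z => E.injective ?_, E.apply_symm_apply y⟩⟩
    · rintro ⟨x, hx, rfl⟩ z
      obtain ⟨z, rfl⟩ := E.surjective z
      rw [← map_mul, ← map_mul, hx]
    · rw [map_mul, map_mul, E.apply_symm_apply, hy]
  obtain ⟨ψ, Cs⟩ := chart_of_iso ht hprim hs ((QuotientGroup.congr _ _ E hc).trans e)
  exact ⟨ψ, ht, hprim, hZ, hline, fun x hx => (hmain.2 x hx).1, honly, hs, Cs⟩

/-- The kernel of the map. -/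
theorem Ctx.ker (X : Ctx D d φ) {x : ↥(loc D d)} (hx : φ x = 1) : (x : G) = 1 ∨ (x : G) = d :=
  X.only x (commute_d_of_mem_loc x.2) ((X.chart.one x).mp hx)

/-- The member near `d` at a point. -/
noncomputable def Chart.L (C : Chart D d φ) (u : Fin 6 → F) : G :=
  letI := Classical.dec (h u u = 0 ∧ u ≠ 0)
  if hu : h u u = 0 ∧ u ≠ 0 then (C.lift hu.1 hu.2).choose else 1

variable (X : Ctx D d φ)
include X

local notation "L" => Chart.L X.chart

theorem L_spec {u : Fin 6 → F} (hu : h u u = 0) (hu0 : u ≠ 0) :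
    ∃ hx : L u ∈ near D d, φ ⟨L u, near_le_loc hx⟩ = π (T u hu) := by
  have e : L u = (X.chart.lift hu hu0).choose := by
    unfold Chart.L
    exact dif_pos ⟨hu, hu0⟩
  rw [e]
  exact (X.chart.lift hu hu0).choose_spec

theorem L_mem {u : Fin 6 → F} (hu : h u u = 0) (hu0 : u ≠ 0) : L u ∈ near D d := (L_spec X hu hu0).1

theorem L_img {u : Fin 6 → F} (hu : h u u = 0) (hu0 : u ≠ 0) :
    φ ⟨L u, near_le_loc (L_mem X hu hu0)⟩ = π (T u hu) := (L_spec X hu hu0).2

theorem L_eq {u : Fin 6 → F} (hu : h u u = 0) (hu0 : u ≠ 0) {x : G} (hx : x ∈ near D d)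
    (e : φ ⟨x, near_le_loc hx⟩ = π (T u hu)) : L u = x :=
  congrArg Subtype.val (X.chart.inj ⟨L u, near_le_loc (L_mem X hu hu0)⟩ ⟨x, near_le_loc hx⟩
    (L_mem X hu hu0) hx ((L_img X hu hu0).trans e.symm))

theorem L_surj {x : G} (hx : x ∈ near D d) :
    ∃ u : Fin 6 → F, h u u = 0 ∧ u ≠ 0 ∧ L u = x := by
  obtain ⟨u, hu, hu0, e⟩ := exists_transvection (by norm_num) X.chart.three
    (x := φ ⟨x, near_le_loc hx⟩) ⟨_, hx, rfl⟩
  exact ⟨u, hu, hu0, L_eq X hu hu0 hx e.symm⟩

theorem L_smul {u : Fin 6 → F} (hu : h u u = 0) (hu0 : u ≠ 0) {c : F} (hc : c ≠ 0) :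
    L (c • u) = L u := by
  have hcu : h (c • u) (c • u) = 0 := by rw [h_smul_left, h_smul_right, hu, mul_zero, mul_zero]
  refine L_eq X hcu (smul_ne_zero hc hu0) (L_mem X hu hu0) ?_
  rw [L_img X hu hu0, T_smul hc hu]

theorem L_inj {u v : Fin 6 → F} (hu : h u u = 0) (hu0 : u ≠ 0) (hv : h v v = 0) (hv0 : v ≠ 0)
    (e : L u = L v) : ∃ c : F, c ≠ 0 ∧ u = c • v := by
  obtain ⟨c, hc⟩ := X.chart.eq_iff (L_mem X hu hu0) (L_mem X hv hv0) hu hv hu0 (L_img X hu hu0)
    (L_img X hv hv0) e
  exact ⟨c, fun h0 => hu0 (by rw [hc, h0, zero_smul]), hc⟩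

theorem L_comm {u v : Fin 6 → F} (hu : h u u = 0) (hu0 : u ≠ 0) (hv : h v v = 0) (hv0 : v ≠ 0) :
    Commute (L u) (L v) ↔ h u v = 0 :=
  X.chart.orth (L_mem X hu hu0) (L_mem X hv hv0) hu hv hu0 (L_img X hu hu0) (L_img X hv hv0)

theorem L_conj {k : ↥(loc D d)} {A : Cfsg.SU 6 F 2} (hk : φ k = π A) {u : Fin 6 → F}
    (hu : h u u = 0) (hu0 : u ≠ 0) : (k : G) * L u * (k : G)⁻¹ = L (act A u) := by
  have hm : (k : G) * L u * (k : G)⁻¹ ∈ near D d :=
    near_conj X.ts (commute_d_of_mem_loc k.2).symm (L_mem X hu hu0)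
  have hAu : h (act A u) (act A u) = 0 := (OrthUnitaryTransvection.herm_act A u u).trans hu
  refine (L_eq X hAu (OrthUnitaryPSU.act_smul_right_inj A hu0) hm ?_).symm
  rw [show (⟨_, near_le_loc hm⟩ : ↥(loc D d)) = k * ⟨L u, near_le_loc (L_mem X hu hu0)⟩ * k⁻¹ from rfl,
    map_mul, map_mul, map_inv, hk, L_img X hu hu0, ← map_inv, ← map_mul, ← map_mul]
  exact congrArg π (T_conj A hu)

theorem L_tconj {u v : Fin 6 → F} (hu : h u u = 0) (hu0 : u ≠ 0) (hv : h v v = 0) (hv0 : v ≠ 0) :
    L v * L u * (L v)⁻¹ = L (u + h u v • v) := by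
  have := L_conj X (k := ⟨L v, near_le_loc (L_mem X hv hv0)⟩) (L_img X hv hv0) hu hu0
  rwa [T_act] at this

/-- A list of members with product of transvections one has product `1` or `d`. -/
theorem L_prod_two {u : List {u : Fin 6 → F // h u u = 0}} (hu0 : ∀ p ∈ u, p.1 ≠ 0)
    {t : Cfsg.SU 6 F 2} (e : (u.map fun p => T p.1 p.2).prod = t) :
    ∃ hm : (u.map fun p => L p.1).prod ∈ loc D d, φ ⟨_, hm⟩ = π t := by
  subst e
  induction u with
  | nil =>
    refine ⟨one_mem _, ?_⟩
    exact (map_one φ).trans (map_one π).symm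
  | cons p u ih =>
    obtain ⟨hm, e⟩ := ih fun q hq => hu0 q (List.mem_cons_of_mem _ hq)
    have hp0 := hu0 p (List.mem_cons_self ..)
    refine ⟨mul_mem (near_le_loc (L_mem X p.2 hp0)) hm, ?_⟩
    show φ (⟨L p.1, near_le_loc (L_mem X p.2 hp0)⟩ * ⟨_, hm⟩) = π (T p.1 p.2 * _)
    rw [map_mul, L_img X p.2 hp0, e, map_mul]
    rfl

omit X in
theorem q_ne_zero (a t : F) : q a t ≠ 0 := fun e => by
  simpa [q] using congrFun e 0

variable {e f : Fin 3 → Fin 6 → F}

theorem q_comb_ne (hfr : Frame e f) (a t : F) : comb e (q a t) ≠ 0 := fun h0 =>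
  q_ne_zero a t (hfr.comb_inj (h0.trans (comb_zero e).symm))

/-- The three base members. -/
noncomputable def base (e : Fin 3 → Fin 6 → F) : List G := [L (e 0), L (e 1), L (e 2)]

/-- The three conic members. -/
noncomputable def conic (e : Fin 3 → Fin 6 → F) (a w : F) : List G :=
  [L (comb e (q a 1)), L (comb e (q a w)), L (comb e (q a (w + 1)))]

theorem L_comb_ne (hfr : Frame e f) {c b : Fin 3 → F} (hc : c ≠ 0) (hb : b ≠ 0)
    (hne : ∀ k : F, c ≠ k • b) : L (comb e c) ≠ L (comb e b) := fun he => by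
  obtain ⟨k, -, hk⟩ := L_inj X (hfr.h_ee _ _) (fun h0 => hc (hfr.comb_inj (h0.trans (comb_zero e).symm)))
    (hfr.h_ee _ _) (fun h0 => hb (hfr.comb_inj (h0.trans (comb_zero e).symm))) he
  rw [← comb_smul] at hk
  exact hne k (hfr.comb_inj hk)

theorem clist_base (hfr : Frame e f) : CList D (base X e) := by
  have hs : ∀ i, h (e i) (e i) = 0 := fun i => hfr.ee i i
  have hne : ∀ i j : Fin 3, i ≠ j → L (e i) ≠ L (e j) := fun i j hij he => by
    obtain ⟨c, -, hc⟩ := L_inj X (hs i) (hfr.ne_zero i) (hs j) (hfr.ne_zero j) he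
    have := hfr.ef i i
    rw [hc, h_smul_left, hfr.ef, if_neg (Ne.symm hij), mul_zero, if_pos rfl] at this
    exact zero_ne_one this
  have hm : ∀ x ∈ base X e, ∃ i, x = L (e i) := fun x hx => by
    simp only [base, List.mem_cons, List.not_mem_nil, or_false] at hx
    rcases hx with rfl | rfl | rfl <;> exact ⟨_, rfl⟩
  refine ⟨fun x hx => ?_, ?_, fun x hx y hy => ?_⟩
  · obtain ⟨i, rfl⟩ := hm x hx; exact (L_mem X (hs i) (hfr.ne_zero i)).1
  · simp [base, hne 0 1 (by decide), hne 0 2 (by decide), hne 1 2 (by decide)]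
  · obtain ⟨i, rfl⟩ := hm x hx
    obtain ⟨j, rfl⟩ := hm y hy
    exact (L_comm X (hs i) (hfr.ne_zero i) (hs j) (hfr.ne_zero j)).mpr (hfr.ee i j)

theorem clist_conic (hfr : Frame e f) {a w : F} (hw : w ^ 2 = w + 1) :
    CList D (conic X e a w) := by
  obtain ⟨hw0, hw1⟩ := omega_ne hw
  have hne : ∀ t s : F, t ≠ s → L (comb e (q a t)) ≠ L (comb e (q a s)) := fun t s hts =>
    L_comb_ne X hfr (q_ne_zero a t) (q_ne_zero a s) fun k hk => hts (by
      have h0 := congrFun hk 0
      have h1 := congrFun hk 1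
      simp [q] at h0 h1
      rw [h1, ← h0, one_mul])
  have hd : (1 : F) ≠ w ∧ (1 : F) ≠ w + 1 ∧ w ≠ w + 1 :=
    ⟨fun e => hw1 e.symm, fun e => hw0 (add_eq_right.mp e.symm),
      fun e => one_ne_zero (left_eq_add.mp e)⟩
  have hm : ∀ x ∈ conic X e a w, ∃ t, x = L (comb e (q a t)) := fun x hx => by
    simp only [conic, List.mem_cons, List.not_mem_nil, or_false] at hx
    rcases hx with rfl | rfl | rfl <;> exact ⟨_, rfl⟩
  refine ⟨fun x hx => ?_, ?_, fun x hx y hy => ?_⟩
  · obtain ⟨t, rfl⟩ := hm x hx; exact (L_mem X (hfr.h_ee _ _) (q_comb_ne X hfr a t)).1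
  · simp [conic, hne _ _ hd.1, hne _ _ hd.2.1, hne _ _ hd.2.2]
  · obtain ⟨t, rfl⟩ := hm x hx
    obtain ⟨s, rfl⟩ := hm y hy
    exact (L_comm X (hfr.h_ee _ _) (q_comb_ne X hfr a t) (hfr.h_ee _ _) (q_comb_ne X hfr a s)).mpr
      (hfr.h_ee _ _)

theorem conic_cases (hfr : Frame e f) {a w : F} (ha : a ≠ 0) (hw : w ^ 2 = w + 1) :
    (conic X e a w).prod = (base X e).prod ∨ (conic X e a w).prod = (base X e).prod * d := by
  obtain ⟨hm₁, e₁⟩ := L_prod_two X
    (u := [⟨e 0, hfr.ee 0 0⟩, ⟨e 1, hfr.ee 1 1⟩, ⟨e 2, hfr.ee 2 2⟩])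
    (fun p hp => by
      simp only [List.mem_cons, List.not_mem_nil, or_false] at hp
      rcases hp with rfl | rfl | rfl <;> exact hfr.ne_zero _) rfl
  obtain ⟨hm₂, e₂⟩ := L_prod_two X
    (u := [⟨comb e (q a 1), hfr.h_ee _ _⟩, ⟨comb e (q a w), hfr.h_ee _ _⟩,
      ⟨comb e (q a (w + 1)), hfr.h_ee _ _⟩])
    (fun p hp => by
      simp only [List.mem_cons, List.not_mem_nil, or_false] at hp
      rcases hp with rfl | rfl | rfl <;> exact q_comb_ne X hfr a _) rfl
  have key := hexad hfr ha hw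
  simp only [List.map_cons, List.map_nil, List.prod_cons, List.prod_nil, mul_one] at e₁ e₂ hm₁ hm₂
  rw [mul_assoc, mul_assoc] at key
  rw [key, ← e₂] at e₁
  have h1 := mul_inv_eq_one.mpr e₁
  rw [← map_inv, ← map_mul] at h1
  rcases X.ker h1 with h | h <;> simp only [Subgroup.coe_mul, Subgroup.coe_inv] at h <;>
    simp only [base, conic, List.prod_cons, List.prod_nil, mul_one]
  · exact Or.inl (mul_inv_eq_one.mp h).symm
  · right
    have hb : (base X e).prod * (base X e).prod = 1 := (clist_base X hfr).prod_sq X.ts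
    have hc : (conic X e a w).prod * (conic X e a w).prod = 1 := (clist_conic X hfr hw).prod_sq X.ts
    simp only [base, conic, List.prod_cons, List.prod_nil, mul_one] at hb hc
    have hcd : Commute (L (e 0) * (L (e 1) * L (e 2))) d :=
      (commute_d_of_mem_loc hm₁).symm
    rw [mul_inv_eq_iff_eq_mul.mp h]
    set c := L (comb e (q a 1)) * (L (comb e (q a w)) * L (comb e (q a (w + 1))))
    have hdd : Commute d c := commute_d_of_mem_loc hm₂
    rw [mul_assoc, ← hdd.eq, ← mul_assoc, X.ts.sq d X.mem, one_mul]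

theorem conic_ne_base (hfr : Frame e f) {a w : F} (ha : a ≠ 0) :
    L (comb e (q a 1)) ∉ base X e := by
  intro hx
  simp only [base, List.mem_cons, List.not_mem_nil, or_false] at hx
  have key : ∀ i : Fin 3, L (comb e (q a 1)) ≠ L (e i) := fun i => by
    rw [← comb_single e i]
    refine L_comb_ne X hfr (q_ne_zero a 1) (by simp) fun k hk => ?_
    have h0 := congrFun hk 0
    have h1 := congrFun hk 1
    have h2 := congrFun hk 2
    fin_cases i <;> simp [q, ha] at h0 h1 h2
  rcases hx with h | h | h <;> exact key _ h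

theorem conic_disjoint (hfr : Frame e f) {a b w : F} (hw : w ^ 2 = w + 1) (hab : a ≠ b) :
    L (comb e (q a 1)) ∉ conic X e b w := by
  intro hx
  simp only [conic, List.mem_cons, List.not_mem_nil, or_false] at hx
  have key : ∀ t : F, L (comb e (q a 1)) ≠ L (comb e (q b t)) := fun t =>
    L_comb_ne X hfr (q_ne_zero a 1) (q_ne_zero b t) fun k hk => by
      have h0 := congrFun hk 0
      have h1 := congrFun hk 1
      have h2 := congrFun hk 2
      simp [q] at h0 h1 h2
      rw [← h0, one_mul] at h1 h2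
      rw [← h1, one_pow, mul_one] at h2
      exact hab h2
  rcases hx with h | h | h <;> exact key _ h

/-- Exactly one conic has the product of the base. -/
theorem conic_exists (hfr : Frame e f) {w : F} (hw : w ^ 2 = w + 1) :
    (∃ a : F, a ≠ 0 ∧ (conic X e a w).prod = (base X e).prod ∧
      ∀ m : List G, CList D m → m.length = 3 → m.prod = (base X e).prod →
        (∀ x, x ∈ m ↔ x ∈ base X e) ∨ ∀ x, x ∈ m ↔ x ∈ conic X e a w) ∧
    ∃ a : F, a ≠ 0 ∧ (conic X e a w).prod = (base X e).prod * d := by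
  obtain ⟨hw0, hw1⟩ := omega_ne hw
  have hw10 : w + 1 ≠ 0 := fun e => hw1 (eq_of_add_eq_zero e)
  have hd : (1 : F) ≠ w ∧ (1 : F) ≠ w + 1 ∧ w ≠ w + 1 :=
    ⟨fun e => hw1 e.symm, fun e => hw0 (add_eq_right.mp e.symm),
      fun e => one_ne_zero (left_eq_add.mp e)⟩
  obtain ⟨l₂, -, -, -, -, hall⟩ := S5463.two_triples X.ts X.prim X.centre X.lines
    (clist_base X hfr) rfl
  have huniq : ∀ a b : F, a ≠ 0 → b ≠ 0 → a ≠ b → (conic X e a w).prod = (base X e).prod →
      (conic X e b w).prod = (base X e).prod → False := by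
    intro a b ha hb hab h1 h2
    have k1 := (hall _ (clist_conic X hfr hw) rfl h1).resolve_left fun h =>
      conic_ne_base X hfr (w := w) ha ((h _).mp (by simp [conic]))
    have k2 := (hall _ (clist_conic X hfr hw) rfl h2).resolve_left fun h =>
      conic_ne_base X hfr (w := w) hb ((h _).mp (by simp [conic]))
    exact conic_disjoint X hfr hw hab ((k2 _).mpr ((k1 _).mp (by simp [conic])))
  have c1 := conic_cases X hfr one_ne_zero hw
  have c2 := conic_cases X hfr hw0 hw
  have c3 := conic_cases X hfr hw10 hw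
  have hsame : ∃ a : F, a ≠ 0 ∧ (conic X e a w).prod = (base X e).prod := by
    rcases c1 with h1 | h1
    · exact ⟨1, one_ne_zero, h1⟩
    rcases c2 with h2 | h2
    · exact ⟨w, hw0, h2⟩
    rcases c3 with h3 | h3
    · exact ⟨w + 1, hw10, h3⟩
    exfalso
    obtain ⟨l₃, -, -, -, -, hall'⟩ := S5463.two_triples X.ts X.prim X.centre X.lines
      (clist_conic X hfr (a := 1) hw) rfl
    have k2 := (hall' _ (clist_conic X hfr (a := w) hw) rfl (h2.trans h1.symm)).resolve_left fun h =>
      conic_disjoint X hfr hw (Ne.symm hd.1) ((h _).mp (by simp [conic]))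
    have k3 := (hall' _ (clist_conic X hfr (a := w + 1) hw) rfl (h3.trans h1.symm)).resolve_left
      fun h => conic_disjoint X hfr hw (Ne.symm hd.2.1) ((h _).mp (by simp [conic]))
    exact conic_disjoint X hfr hw hd.2.2 ((k3 _).mpr ((k2 _).mp (by simp [conic])))
  refine ⟨?_, ?_⟩
  · obtain ⟨a, ha, e1⟩ := hsame
    refine ⟨a, ha, e1, fun m hm hlen he => ?_⟩
    have k1 := (hall _ (clist_conic X hfr hw) rfl e1).resolve_left fun h =>
      conic_ne_base X hfr (w := w) ha ((h _).mp (by simp [conic]))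
    exact (hall m hm hlen he).imp id fun h x => (h x).trans (k1 x).symm
  · rcases c1 with h1 | h1
    · rcases c2 with h2 | h2
      · exact (huniq 1 w one_ne_zero hw0 hd.1 h1 h2).elim
      · exact ⟨w, hw0, h2⟩
    · exact ⟨1, one_ne_zero, h1⟩

/-- An involution of the local group is a product of at most three commuting members. -/
theorem involution_product {x : G} (hx : x ∈ loc D d) (hx2 : x * x = 1) (hx1 : x ≠ 1) :
    ∃ l : List G, CList D l ∧ 1 ≤ l.length ∧ l.length ≤ 3 ∧ l.prod = x := by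
  obtain ⟨t', ht'⟩ := QuotientGroup.mk'_surjective (Subgroup.center (Cfsg.SU 6 F 2)) (φ ⟨x, hx⟩)
  have hz : t' * t' ∈ Subgroup.center (Cfsg.SU 6 F 2) := by
    rw [← QuotientGroup.eq_one_iff]
    show π (t' * t') = 1
    rw [map_mul, ht', ← map_mul, show (⟨x, hx⟩ : ↥(loc D d)) * ⟨x, hx⟩ = 1 from Subtype.ext hx2, map_one]
  set z := t' * t' with hzdef
  set t := t' * z with htdef
  have hπt : π t = φ ⟨x, hx⟩ := by
    rw [htdef, map_mul, show π z = 1 from (QuotientGroup.eq_one_iff z).mpr hz, mul_one, ht']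
  have htt : t * t = 1 := by
    rw [htdef, show t' * z * (t' * z) = z * z * z by rw [hzdef]; group, center_cube (by norm_num) hz]
  obtain ⟨k, u, v, hu, horth, hdual, hprod, -⟩ := decompose htt
  have hu0 : ∀ i, u i ≠ 0 := fun i h0 => by
    have := hdual i i
    rw [h0, h_zero_right, if_pos rfl] at this
    exact zero_ne_one this
  have hk : k ≤ 3 := by
    have hli : LinearIndependent F (Sum.elim u v) := by
      rw [Fintype.linearIndependent_iff]
      intro c hc i
      rw [Fintype.sum_sum_type] at hc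
      simp only [Sum.elim_inl, Sum.elim_inr] at hc
      have hv : ∀ j, c (Sum.inr j) = 0 := fun j => by
        have := congrArg (fun w => h w (u j)) hc
        simp only [h_add_left, h_sum_left, h_zero_left, horth, hdual, mul_zero,
          Finset.sum_const_zero, zero_add, mul_ite, mul_one, Finset.sum_ite_eq', Finset.mem_univ,
          if_true] at this
        exact this
      cases i with
      | inr j => exact hv j
      | inl j =>
        simp only [hv, zero_smul, Finset.sum_const_zero, add_zero] at hc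
        have := congrArg (fun w => h (v j) w) hc
        simp only [h_sum_right, h_zero_right, hdual, mul_ite, mul_one, mul_zero, Finset.sum_ite_eq,
          Finset.mem_univ, if_true] at this
        exact pow_eq_zero_iff (n := 2) (by norm_num) |>.mp this
    have := hli.fintype_card_le_finrank
    simp at this
    omega
  set us : List {u : Fin 6 → F // h u u = 0} := List.ofFn fun i => ⟨u i, hu i⟩ with hus
  obtain ⟨hm, em⟩ := L_prod_two X (u := us) (fun p hp => by
    obtain ⟨i, rfl⟩ := List.mem_ofFn.mp hp; exact hu0 i)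
    (show (us.map fun p => T p.1 p.2).prod = t by rw [hus, List.map_ofFn]; exact hprod)
  set M := us.map fun p => L p.1 with hM
  have hMe : M = List.ofFn fun i => L (u i) := by rw [hM, hus, List.map_ofFn]; rfl
  have hMlen : M.length = k := by rw [hMe, List.length_ofFn]
  have hMmem : ∀ y ∈ M, ∃ i, y = L (u i) := fun y hy => by
    rw [hMe] at hy
    obtain ⟨i, rfl⟩ := List.mem_ofFn.mp hy
    exact ⟨i, rfl⟩
  have hMC : CList D M := by
    refine ⟨fun y hy => ?_, ?_, fun y hy y' hy' => ?_⟩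
    · obtain ⟨i, rfl⟩ := hMmem y hy; exact (L_mem X (hu i) (hu0 i)).1
    · rw [hMe, List.nodup_ofFn]
      intro i j hij
      obtain ⟨c, -, hc⟩ := L_inj X (hu i) (hu0 i) (hu j) (hu0 j) hij
      by_contra hne
      have := hdual i i
      rw [hc, h_smul_right, hdual, if_neg hne, mul_zero, if_pos rfl] at this
      exact zero_ne_one this
    · obtain ⟨i, rfl⟩ := hMmem y hy
      obtain ⟨j, rfl⟩ := hMmem y' hy'
      exact (L_comm X (hu i) (hu0 i) (hu j) (hu0 j)).mpr (horth i j)
  have hMn : ∀ y ∈ M, y ∈ near D d := fun y hy => by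
    obtain ⟨i, rfl⟩ := hMmem y hy; exact L_mem X (hu i) (hu0 i)
  have h1 : φ (⟨x, hx⟩ * (⟨_, hm⟩ : ↥(loc D d))⁻¹) = 1 := by
    rw [map_mul, map_inv, em, hπt, mul_inv_cancel]
  rcases X.ker h1 with hk1 | hk1 <;> simp only [Subgroup.coe_mul, Subgroup.coe_inv] at hk1
  · have e : M.prod = x := (mul_inv_eq_one.mp hk1).symm
    refine ⟨M, hMC, ?_, hMlen ▸ hk, e⟩
    by_contra h0
    exact hx1 (by rw [← e, List.eq_nil_of_length_eq_zero (show M.length = 0 by omega), List.prod_nil])
  have e : x = d * M.prod := mul_inv_eq_iff_eq_mul.mp hk1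
  by_cases hk2 : k ≤ 2
  · refine ⟨d :: M, ⟨fun y hy => ?_, List.nodup_cons.mpr ⟨fun hd => (hMn d hd).2.1 rfl, hMC.nodup⟩,
      fun y hy y' hy' => ?_⟩, by simp, by simp [hMlen]; omega, by rw [List.prod_cons, e]⟩
    · rcases List.mem_cons.mp hy with rfl | hy
      · exact X.mem
      · exact hMC.mem y hy
    · rcases List.mem_cons.mp hy with h₁ | h₁ <;> rcases List.mem_cons.mp hy' with h₂ | h₂
      · rw [h₁, h₂]
      · rw [h₁]; exact (hMn _ h₂).2.2
      · rw [h₂]; exact (hMn _ h₁).2.2.symm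
      · exact hMC.comm y h₁ y' h₂
  obtain rfl : k = 3 := by omega
  have hli : LinearIndependent F u := by
    rw [Fintype.linearIndependent_iff]
    intro c hc j
    have := congrArg (fun w => h (v j) w) hc
    simp only [h_sum_right, h_zero_right, hdual, mul_ite, mul_one, mul_zero, Finset.sum_ite_eq,
      Finset.mem_univ, if_true] at this
    exact pow_eq_zero_iff (n := 2) (by norm_num) |>.mp this
  obtain ⟨f, hfr⟩ := exists_frame_of horth hli
  obtain ⟨w, hw⟩ := exists_omega (F := F)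
  obtain ⟨a, -, ea⟩ := (conic_exists X hfr hw).2
  refine ⟨conic X u a w, clist_conic X hfr hw, by simp [conic], by simp [conic], ?_⟩
  have hb : base X u = M := by rw [hMe]; simp [base, List.ofFn_succ]
  rw [ea, hb, e]
  exact (Commute.list_prod_right _ _ fun y hy => (hMn y hy).2.2).eq.symm

omit X in
/-- A short product lies in the local group of every member it commutes with. -/
theorem product_inner (ht : TSys D) (hself : ∀ s ∈ D, s ∈ loc D s) {l : List G} (hl : CList D l)
    (hlen : l.length ≤ 3) {y : G} (hy : y ∈ D) (hc : Commute y l.prod) : l.prod ∈ loc D y := by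
  refine list_prod_mem fun z hz => ?_
  by_cases e : z = y
  · exact e ▸ hself y hy
  · exact near_le_loc ⟨hl.mem z hz, e, (ThreeTransM22Count72.commute_prod_iff ht hy hl hlen).mp hc z hz⟩

end Cfsg.Agent.ThreeTransM22Lift72
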