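import Cfsg.Agent.Lib.ThreeTransM22Frames51
import Cfsg.Agent.Lib.ThreeTransM22Lift72
import Cfsg.Agent.Lib.Fi22Certs51

/-!
# The diagram Y332 inside a group of type M(22) satisfies the relators of Fi22

Nine members commuting as in the diagram satisfy the three further relators; the only counting fact used
is that two non-commuting members have 126 common neighbours, a number congruent to one modulo five.
-/

set_option autoImplicit false
set_option linter.unusedSectionVars false
set_option linter.style.haveILetI false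

namespace Cfsg.Agent.ThreeTransM22Pat51

open Subgroup Cfsg.Agent.ThreeTransRel Cfsg.Agent.ThreeTransDescent
open Cfsg.Agent.UnitaryF4Geo Cfsg.Agent.UnitaryF4Line
open Cfsg.Agent.ThreeTransM22Frame72 Cfsg.Agent.ThreeTransM22Lift72
open Cfsg.Agent.ThreeTransM22Local72 (Chart)
open Cfsg.Agent.ThreeTransM22Frames51
open Cfsg.Agent.CoxMoves51 (val val_append val_cons val_nil val_reverse Rels)
open Cfsg.Agent.Fi22Certs51

variable {G : Type*} [Group G] [Finite G] {D : Set G}

/-- Two non-commuting members have 126 common neighbours. -/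
def Mu (D : Set G) : Prop :=
  ∀ a ∈ D, ∀ b ∈ D, ¬ Commute a b → (near D a ∩ near D b).ncard = 126

/-- What the diagram argument uses: charts at the members, 126 common neighbours, self-centralisation. -/
structure Hyp (D : Set G) : Prop where
  ts : TSys D
  prim : Cfsg.IsPrimitiveUnderConj D
  ctx : ∃ (F : Type) (_ : Field F) (_ : Fintype F) (_ : FourField F), ∀ s ∈ D,
    ∃ φ : ↥(loc D s) →* Cfsg.PSU 6 F 2, Ctx D s φ
  mu : Mu D
  locEq : ∀ s ∈ D, Subgroup.centralizer ({s} : Set G) = loc D s

/-- Paths of four. -/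
def M4 (i j : ℕ) : ℕ :=
  if i = j then 1 else if 4 ≤ i ∨ 4 ≤ j then 0 else if i + 1 = j ∨ j + 1 = i then 3 else 2

theorem cycle_pow (ht : TSys D) {a b c e : G} (ha : a ∈ D) (hb : b ∈ D) (hc : c ∈ D) (he : e ∈ D)
    (ab : ¬ Commute a b) (bc : ¬ Commute b c) (ce : ¬ Commute c e) (ac : Commute a c)
    (ae : Commute a e) (be : Commute b e) : (a * b * c * e) ^ 5 = 1 := by
  set g : ℕ → G := fun i => if i = 0 then a else if i = 1 then b else if i = 2 then c
    else if i = 3 then e else 1
  have hR : Rels g M4 := by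
    refine ⟨fun i => ?_, fun i j hM => ?_, fun i j hM => ?_⟩
    · simp only [g]
      split_ifs
      exacts [ht.sq a ha, ht.sq b hb, ht.sq c hc, ht.sq e he, one_mul 1]
    all_goals
      have hlt : i < 4 ∧ j < 4 := by
        unfold M4 at hM
        split_ifs at hM with h1 h2 h3 <;> omega
      obtain ⟨hi, hj⟩ := hlt
      interval_cases i <;> interval_cases j <;> first | exact absurd hM (by decide) | skip
    all_goals simp only [g]
    all_goals norm_num
    exacts [ac.eq, ae.eq, be.eq, ac.symm.eq, ae.symm.eq, be.symm.eq,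
      ht.braid _ ha _ hb ab, (ht.braid _ ha _ hb ab).symm, ht.braid _ hb _ hc bc,
      (ht.braid _ hb _ hc bc).symm, ht.braid _ hc _ he ce, (ht.braid _ hc _ he ce).symm]
  have key := CoxMoves51.eq_of_cert hR (a := (List.replicate 5 [0, 1, 2, 3]).flatten) (b := [])
    (ps := [3, 4, 2, 0, 2, 4, 6, 5, 3, 1, 2, 3, 5, 7, 2, 3, 0, 2, 3, 5, 6, 2, 3, 4, 6, 1, 2, 4, 5, 0, 2, 3, 4, 3, 2, 1, 0]) (by decide +kernel)
  simpa [val, g, List.replicate_succ, pow_succ, mul_assoc] using key

/-- The diagram. -/
structure Pat (D : Set G) (v : ℕ → G) : Prop where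
  mem : ∀ i < 9, v i ∈ D
  comm : ∀ i < 9, ∀ j < 9, adjN i j = false → Commute (v i) (v j)
  nc : ∀ i < 9, ∀ j < 9, adjN i j = true → ¬ Commute (v i) (v j)

/-- The group elements of the letters. -/
def gN (v : ℕ → G) (i : ℕ) : G := if i < 9 then v i else 1

/-- The reflection of the diagram in the short arm. -/
def sigma : ℕ → ℕ
  | 0 => 6 | 1 => 5 | 2 => 4 | 3 => 3 | 4 => 2 | 5 => 1 | 6 => 0 | n => n

namespace Pat

variable {v : ℕ → G}

theorem mirror (P : Pat D v) : Pat D (fun i => v (sigma i)) := by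
  have hs : ∀ i < 9, sigma i < 9 := by decide
  have ha : ∀ i < 9, ∀ j < 9, adjN (sigma i) (sigma j) = adjN i j := by decide
  exact ⟨fun i hi => P.mem _ (hs i hi),
    fun i hi j hj h => P.comm _ (hs i hi) _ (hs j hj) (by rw [ha i hi j hj, h]),
    fun i hi j hj h => P.nc _ (hs i hi) _ (hs j hj) (by rw [ha i hi j hj, h])⟩

theorem commute_iff (P : Pat D v) {i j : ℕ} (hi : i < 9) (hj : j < 9) :
    Commute (v i) (v j) ↔ adjN i j = false := by
  refine ⟨fun h => ?_, P.comm i hi j hj⟩
  cases e : adjN i j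
  · rfl
  · exact absurd h (P.nc i hi j hj e)

theorem ne (P : Pat D v) {i j : ℕ} (hi : i < 9) (hj : j < 9) (hij : i ≠ j) : v i ≠ v j := by
  intro e
  have key : ∀ i < 9, ∀ j < 9, i ≠ j →
      ∃ k : Fin 9, (adjN i k.1 = true ∧ adjN j k.1 = false) ∨ (adjN j k.1 = true ∧ adjN i k.1 = false) := by
    decide
  obtain ⟨k, ⟨h1, h2⟩ | ⟨h1, h2⟩⟩ := key i hi j hj hij
  · exact P.nc i hi k k.2 h1 (e ▸ P.comm j hj k k.2 h2)
  · exact P.nc j hj k k.2 h1 (e.symm ▸ P.comm i hi k k.2 h2)

theorem rels (ht : TSys D) (P : Pat D v) : Rels (gN v) M := by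
  refine ⟨fun i => ?_, fun i j h => ?_, fun i j h => ?_⟩
  · unfold gN; split_ifs with hi
    · exact ht.sq _ (P.mem i hi)
    · exact one_mul 1
  all_goals
    simp only [M] at h
    split_ifs at h with h1 h2 h3 <;> try omega
    simp only [not_or, not_le] at h2
  · rw [gN, gN, if_pos h2.1, if_pos h2.2]
    exact (P.comm i h2.1 j h2.2 (by simpa using h3)).eq
  · rw [gN, gN, if_pos h2.1, if_pos h2.2]
    exact ht.braid _ (P.mem i h2.1) _ (P.mem j h2.2) (P.nc i h2.1 j h2.2 h3)

theorem commute_val (P : Pat D v) {x : ℕ} (hx : x < 9) {w : List ℕ}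
    (h : ∀ i ∈ w, i < 9 ∧ adjN x i = false) : Commute (v x) (val (gN v) w) := by
  refine Commute.list_prod_right _ _ fun y hy => ?_
  obtain ⟨i, hi, rfl⟩ := List.mem_map.mp hy
  rw [gN, if_pos (h i hi).1]
  exact P.comm x hx i (h i hi).1 (h i hi).2

theorem val_conj (ht : TSys D) (P : Pat D v) (w : List ℕ) {x : ℕ} (hx : x < 9) :
    val (gN v) (w ++ [x] ++ w.reverse) = val (gN v) w * v x * (val (gN v) w)⁻¹ := by
  rw [val_append, val_append, val_reverse _ w (fun a _ => (P.rels ht).sq a), val_cons, val_nil,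
    mul_one, gN, if_pos hx]

end Pat

section

variable (H : Hyp D)
include H

theorem mem_loc {s g : G} (hs : s ∈ D) (hg : Commute g s) : g ∈ loc D s := by
  rw [← H.locEq s hs]
  exact mem_centralizer_singleton_iff.mpr hg.eq

/-- At most one member near two non-commuting members commutes with a given path of four there. -/
theorem unique_perp {a b : G} (ha : a ∈ D) (hb : b ∈ D) (hab : ¬ Commute a b) (x : Fin 4 → G)
    (hx : ∀ i, x i ∈ near D a ∩ near D b)
    (hpat : ∀ i j : Fin 4, Commute (x i) (x j) ↔ (i.1 + 1 == j.1 || j.1 + 1 == i.1) = false)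
    {p q : G} (hp : p ∈ near D a ∩ near D b) (hq : q ∈ near D a ∩ near D b)
    (hpx : ∀ i, Commute p (x i)) (hqx : ∀ i, Commute q (x i)) : p = q := by
  classical
  by_contra hne
  have ht := H.ts
  obtain ⟨F, _, _, _, hctx⟩ := H.ctx
  obtain ⟨φ, X⟩ := hctx a ha
  set adj : Fin 4 → Fin 4 → Bool := fun i j => i.1 + 1 == j.1 || j.1 + 1 == i.1
  obtain ⟨u, hu, hg⟩ := exists_gram X 4 x adj (fun i => (hx i).1) hpat (by decide) (by decide)
  have hnd : ∀ c : Fin 4 → F, (∀ j, ∑ i, c i * h (u i) (u j) = 0) → c = 0 := by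
    intro c hc
    have e0 := hc 0; have e1 := hc 1; have e2 := hc 2; have e3 := hc 3
    simp [hg _ _, Fin.sum_univ_four, adj] at e0 e1 e2 e3
    have c3 : c 3 = 0 := by linear_combination e2 - e0
    have c0' : c 0 = 0 := by linear_combination e1 - e3
    funext i
    fin_cases i <;> simp [e0, e3, c3, c0']
  obtain ⟨vp, hvp, hvp0, rfl⟩ := L_surj X hp.1
  obtain ⟨vq, hvq, hvq0, rfl⟩ := L_surj X hq.1
  have hperp : ∀ {w : Fin 6 → F}, h w w = 0 → w ≠ 0 →
      (∀ i, Commute (Chart.L X.chart w) (x i)) → ∀ i, h w (u i) = 0 := fun hw hw0 hc i =>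
    (L_comm X hw hw0 (hu i).1 (hu i).2.1).mp ((hu i).2.2.symm ▸ hc i)
  obtain ⟨hpq, hall⟩ := perp_four X (fun i => (hu i).1) hnd hvp hvp0 hvq hvq0 hne
    (hperp hvp hvp0 hpx) (hperp hvq hvq0 hqx)
  set P := Chart.L X.chart vp
  set Q := Chart.L X.chart vq
  have hnPQ : ¬ Commute P Q := fun e => hpq ((L_comm X hvp hvp0 hvq hvq0).mp e)
  set T := Q * P * Q⁻¹ with hT
  set S : Set G := near D a ∩ near D b with hS
  have hTS : T ∈ S := ⟨near_conj ht hq.1.2.2.symm hp.1, near_conj ht hq.2.2.2.symm hp.2⟩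
  have hTx : ∀ i, Commute T (x i) := fun i => by
    have := (Commute.conj_iff Q).mpr (hpx i)
    rwa [mul_inv_eq_iff_eq_mul.mpr (hqx i).eq] at this
  have hTP : T ≠ P := fun e => hnPQ (mul_inv_eq_iff_eq_mul.mp e).symm
  have hTQ : T ≠ Q := fun e => hne (by
    have e' : Q * P = Q * Q := mul_inv_eq_iff_eq_mul.mp e
    exact mul_left_cancel e')
  set y := x 0 * x 1 * x 2 * x 3 with hy
  have hyp : y ^ 5 = 1 := by
    have hn : ∀ i j : Fin 4, adj i j = true → ¬ Commute (x i) (x j) := fun i j e h' => by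
      have e' : adj i j = false := (hpat i j).mp h'
      rw [e] at e'
      exact Bool.noConfusion e'
    exact cycle_pow ht (hx 0).1.1 (hx 1).1.1 (hx 2).1.1 (hx 3).1.1 (hn 0 1 rfl) (hn 1 2 rfl)
      (hn 2 3 rfl) ((hpat 0 2).mpr rfl) ((hpat 0 3).mpr rfl) ((hpat 1 3).mpr rfl)
  have hyS : ∀ g ∈ zpowers y, ∀ z ∈ S, g * z * g⁻¹ ∈ S := by
    intro g hg z hz
    have hc : ∀ s, (∀ i, x i ∈ near D s) → Commute g s := fun s hxs => by
      obtain ⟨k, rfl⟩ := mem_zpowers_iff.mp hg
      refine Commute.zpow_left ?_ k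
      rw [hy]
      exact ((((hxs 0).2.2.symm).mul_left (hxs 1).2.2.symm).mul_left (hxs 2).2.2.symm).mul_left
        (hxs 3).2.2.symm
    exact ⟨near_conj ht (hc a fun i => (hx i).1) hz.1, near_conj ht (hc b fun i => (hx i).2) hz.2⟩
  letI : MulAction ↥(zpowers y) ↥S :=
    { smul := fun g z => ⟨(g : G) * z.1 * (g : G)⁻¹, hyS g g.2 z.1 z.2⟩
      one_smul := fun z => Subtype.ext (by
        show ((1 : ↥(zpowers y)) : G) * z.1 * ((1 : ↥(zpowers y)) : G)⁻¹ = z.1
        simp)
      mul_smul := fun g k z => Subtype.ext (by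
        show ((g * k : ↥(zpowers y)) : G) * z.1 * ((g * k : ↥(zpowers y)) : G)⁻¹ =
          (g : G) * ((k : G) * z.1 * (k : G)⁻¹) * (g : G)⁻¹
        push_cast; group) }
  haveI : Fact (Nat.Prime 5) := ⟨by norm_num⟩
  have hp5 : IsPGroup 5 ↥(zpowers y) := fun g => ⟨1, by
    obtain ⟨k, hk⟩ := mem_zpowers_iff.mp g.2
    apply Subtype.ext
    rw [pow_one, SubmonoidClass.coe_pow, ← hk, ← zpow_natCast, ← zpow_mul, mul_comm, zpow_mul,
      zpow_natCast, hyp, one_zpow]
    rfl⟩
  have hmod := hp5.card_modEq_card_fixedPoints ↥S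
  have hfix : MulAction.fixedPoints ↥(zpowers y) ↥S =
      {⟨P, hp⟩, ⟨Q, hq⟩, ⟨T, hTS⟩} := by
    ext z
    constructor
    · intro hz
      have e := congrArg Subtype.val (hz ⟨y, mem_zpowers y⟩)
      have hyz : Commute y z.1 := mul_inv_eq_iff_eq_mul.mp e
      obtain ⟨w, hw, hw0, hwz⟩ := L_surj X z.2.1
      have hyw : Commute (Chart.L X.chart (u 0) * Chart.L X.chart (u 1) * Chart.L X.chart (u 2) *
          Chart.L X.chart (u 3)) (Chart.L X.chart w) := by
        rw [(hu 0).2.2, (hu 1).2.2, (hu 2).2.2, (hu 3).2.2, hwz]; exact hyz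
      rcases hall w hw hw0 (perp_of_cycle X (fun i => (hu i).1) (fun i => (hu i).2.1) hg hw hw0 hyw)
        with e' | e' | e' <;> rw [hwz] at e'
      · exact Or.inl (Subtype.ext e')
      · exact Or.inr (Or.inl (Subtype.ext e'))
      · exact Or.inr (Or.inr (Subtype.ext e'))
    · intro hz g
      have hc : ∀ i, Commute z.1 (x i) := by
        rcases hz with rfl | rfl | rfl
        exacts [hpx, hqx, hTx]
      obtain ⟨k, hk⟩ := mem_zpowers_iff.mp g.2
      apply Subtype.ext
      refine mul_inv_eq_iff_eq_mul.mpr ?_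
      rw [← hk]
      exact (Commute.zpow_left ((((hc 0).symm.mul_left (hc 1).symm).mul_left (hc 2).symm).mul_left
        (hc 3).symm) k).eq
  have hcard : Nat.card (MulAction.fixedPoints ↥(zpowers y) ↥S) = 3 := by
    rw [hfix, Nat.card_coe_set_eq, Set.ncard_eq_three]
    refine ⟨_, _, _, ?_, ?_, ?_, rfl⟩
    · exact fun e => hne (congrArg Subtype.val e)
    · exact fun e => hTP (congrArg Subtype.val e).symm
    · exact fun e => hTQ (congrArg Subtype.val e).symm
  have hS126 : Nat.card ↥S = 126 := by rw [Nat.card_coe_set_eq]; exact H.mu a ha b hb hab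
  rw [hcard, hS126] at hmod
  exact absurd hmod (by decide)

variable {v : ℕ → G} (P : Pat D v)
include P

theorem near_of {i j : ℕ} (hi : i < 9) (hj : j < 9) (hij : i ≠ j) (h : adjN i j = false) :
    v j ∈ near D (v i) :=
  ⟨P.mem j hj, (P.ne hi hj hij).symm, P.comm i hi j hj h⟩

/-- The letters of the path in the chart of the first node. -/
def pA : Fin 6 → ℕ := ![6, 5, 4, 3, 7, 8]

/-- The letters of the path in the chart of the seventh node. -/
def pG : Fin 6 → ℕ := ![0, 1, 2, 3, 7, 8]

/-- The letters of the path in the chart of the last node. -/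
def pI : Fin 6 → ℕ := ![0, 1, 2, 3, 4, 5]

/-- The letters of the tree `E₆`. -/
def pT : Fin 6 → ℕ := ![2, 3, 4, 5, 7, 8]

theorem nodes_gram {s : G} {F : Type} [Field F] [Fintype F] [FourField F]
    {φ : ↥(loc D s) →* Cfsg.PSU 6 F 2} (X : Ctx D s φ) (p : Fin 6 → ℕ) (adj : Fin 6 → Fin 6 → Bool)
    (hp : ∀ i, p i < 9) (hadj : ∀ i j, adjN (p i) (p j) = adj i j)
    (htree : ∀ i j j', j < i → j' < i → adj j i = true → adj j' i = true → j = j')
    (hsym : ∀ i j, adj i j = adj j i) (hn : ∀ i, v (p i) ∈ near D s) :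
    ∃ u : Fin 6 → Fin 6 → F,
      (∀ i, h (u i) (u i) = 0 ∧ u i ≠ 0 ∧ Chart.L X.chart (u i) = v (p i)) ∧ Gram adj u :=
  exists_gram X 6 (fun i => v (p i)) adj hn
    (fun i j => by rw [P.commute_iff (hp i) (hp j), hadj]) hsym htree

/-- The radical point of the path does not commute with the second node. -/
theorem rad_not_commute {F : Type} [Field F] [Fintype F] [FourField F]
    {φ : ↥(loc D (v 0)) →* Cfsg.PSU 6 F 2} (X : Ctx D (v 0) φ) {u : Fin 6 → Fin 6 → F}
    (hu : ∀ i, h (u i) (u i) = 0 ∧ u i ≠ 0 ∧ Chart.L X.chart (u i) = v (pA i))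
    (hg : Gram path6 u) : ¬ Commute (Chart.L X.chart (rad u)) (v 1) := by
  intro hc
  set s := Chart.L X.chart (rad u)
  have hsa : s ∈ near D (v 0) := L_mem X (rad_iso hg) (rad_ne hg)
  have hcs : ∀ j : Fin 6, Commute s (v (pA j)) ↔ j ≠ 5 := fun j => by
    rw [← (hu j).2.2, L_comm X (rad_iso hg) (rad_ne hg) (hu j).1 (hu j).2.1, rad_pair hg]
    by_cases hj : j = 5 <;> simp [hj]
  have hsb : s ∈ near D (v 1) := ⟨hsa.1, fun e => P.nc 0 (by norm_num) 1 (by norm_num) rfl
    (e ▸ hsa.2.2), hc.symm⟩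
  have hL : ∀ i, i < 9 → i ≠ 0 → i ≠ 1 → adjN 0 i = false → adjN 1 i = false →
      v i ∈ near D (v 0) ∩ near D (v 1) := fun i hi h0 h1 a0 a1 =>
    ⟨near_of H P (by norm_num) hi h0.symm a0,
      near_of H P (by norm_num) hi h1.symm a1⟩
  have e := unique_perp H (P.mem 0 (by norm_num)) (P.mem 1 (by norm_num))
    (P.nc 0 (by norm_num) 1 (by norm_num) rfl) ![v 6, v 5, v 4, v 3]
    (fun i => by fin_cases i <;> exact hL _ (by norm_num) (by decide) (by decide) rfl rfl)
    (fun i j => by fin_cases i <;> fin_cases j <;> exact P.commute_iff (by norm_num) (by norm_num))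
    (p := s) (q := v 8) ⟨hsa, hsb⟩ (hL 8 (by norm_num) (by decide) (by decide) rfl rfl)
    (fun i => by
      fin_cases i
      · exact (hcs 0).mpr (by decide)
      · exact (hcs 1).mpr (by decide)
      · exact (hcs 2).mpr (by decide)
      · exact (hcs 3).mpr (by decide))
    (fun i => by fin_cases i <;> exact P.comm 8 (by norm_num) _ (by norm_num) rfl)
  exact absurd rfl ((hcs 5).mp (by rw [e]; exact Commute.refl _))

/-- The relator of the first `E₇`-subdiagram. -/
theorem rel_seven : val (gN v) wz = 1 := by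
  classical
  have ht := H.ts
  have hR := P.rels ht
  have hN : ∀ i, i < 9 → gN v i = v i := fun i hi => if_pos hi
  set z := val (gN v) wz
  set θ := val (gN v) wTheta with hθ
  have hthD : θ ∈ D := by
    rw [hθ, show wTheta = wTheta.take 16 ++ [1] ++ (wTheta.take 16).reverse by decide,
      P.val_conj ht _ (by norm_num)]
    exact ht.conj _ _ (P.mem 1 (by norm_num))
  have hcθ : ∀ x, x < 9 → val (gN v) (wTheta ++ [x]) = val (gN v) (x :: wTheta) →
      Commute θ (v x) := fun x hx e => by
    rw [val_append, val_cons, val_cons, val_nil, mul_one, hN x hx] at e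
    exact e
  have hcz : ∀ x, x < 9 → val (gN v) (wz ++ [x]) = val (gN v) (x :: wz) → Commute z (v x) :=
    fun x hx e => by
      rw [val_append, val_cons, val_cons, val_nil, mul_one, hN x hx] at e
      exact e
  obtain ⟨F, _, _, _, hctx⟩ := H.ctx
  -- `θ` commutes with the first node
  have hθa : Commute θ (v 0) := by
    by_cases e6 : θ = v 6
    · exact e6 ▸ P.comm 6 (by norm_num) 0 (by norm_num) rfl
    obtain ⟨φ, X⟩ := hctx (v 6) (P.mem 6 (by norm_num))
    obtain ⟨u, hu, hg⟩ := nodes_gram H P X pG path6 (by decide) (by decide) (by decide)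
      (by decide) (fun i => near_of H P (by norm_num)
        ((show ∀ i, pG i < 9 by decide) i) ((show ∀ i, 6 ≠ pG i by decide) i)
        ((show ∀ i, adjN 6 (pG i) = false by decide) i))
    obtain ⟨w, hw, hw0, hwe⟩ := L_surj X
      (near_of H P (i := 6) (j := 4) (by norm_num) (by norm_num) (by decide) rfl)
    obtain ⟨t, htt, ht0, hte⟩ := L_surj X (x := θ)
      ⟨hthD, e6, (hcθ 6 (by norm_num) (theta_comm_g hR)).symm⟩
    have hwu : ∀ j : Fin 6, j ≠ 3 → h w (u j) = 0 := fun j hj =>
      (L_comm X hw hw0 (hu j).1 (hu j).2.1).mp (by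
        rw [hwe, (hu j).2.2]
        exact P.comm 4 (by norm_num) _ ((show ∀ i, pG i < 9 by decide) j)
          ((show ∀ i : Fin 6, i ≠ 3 → adjN 4 (pG i) = false by decide) j hj))
    set k := h w (u 3)
    have hweq : w = k • (u 0 + u 2) := by
      refine eq_of_pair (path6_li hg) fun j => ?_
      rw [h_smul_left, h_add_left, hg, hg]
      by_cases hj : j = 3
      · subst hj; simp [path6, k]
      · rw [hwu j hj]
        fin_cases j <;> simp [path6, add_self] at hj ⊢
    have hk : k ≠ 0 := fun e => hw0 (by rw [hweq, e, zero_smul])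
    have hc2 : h t (u 2) = 0 := (L_comm X htt ht0 (hu 2).1 (hu 2).2.1).mp (by
      rw [hte, (hu 2).2.2]; exact hcθ 2 (by norm_num) (theta_comm_c hR))
    have hc4 : h t w = 0 := (L_comm X htt ht0 hw hw0).mp (by
      rw [hte, hwe]; exact hcθ 4 (by norm_num) (theta_comm_e hR))
    rw [hweq, h_smul_right, h_add_right, hc2, add_zero] at hc4
    have h0 : h t (u 0) = 0 := (mul_eq_zero.mp hc4).resolve_left (pow_ne_zero 2 hk)
    have := (L_comm X htt ht0 (hu 0).1 (hu 0).2.1).mpr h0
    rwa [hte, (hu 0).2.2] at this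
  -- so does the product
  have hzsplit : z = θ * val (gN v) wP := by rw [hθ, ← val_append]; exact z_split hR
  have hza : Commute z (v 0) := by
    rw [hzsplit]
    exact hθa.mul_left (P.commute_val (by norm_num) (by decide)).symm
  obtain ⟨φ, X⟩ := hctx (v 0) (P.mem 0 (by norm_num))
  obtain ⟨u, hu, hg⟩ := nodes_gram H P X pA path6 (by decide) (by decide) (by decide)
    (by decide) (fun i => near_of H P (by norm_num)
      ((show ∀ i, pA i < 9 by decide) i) ((show ∀ i, 0 ≠ pA i by decide) i)
      ((show ∀ i, adjN 0 (pA i) = false by decide) i))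
  have hzb : Commute z (v 1) := hcz 1 (by norm_num) (z_comm_b hR)
  have hfix : ∀ i : Fin 6, i ≠ 5 → Commute z (v (pA i)) := by
    intro i hi
    fin_cases i
    · exact hcz 6 (by norm_num) (z_comm_g hR)
    · exact hcz 5 (by norm_num) (z_comm_f hR)
    · exact hcz 4 (by norm_num) (z_comm_e hR)
    · exact hcz 3 (by norm_num) (z_comm_d hR)
    · exact hcz 7 (by norm_num) (z_comm_h hR)
    · exact absurd rfl hi
  have hns := rad_not_commute H P X hu hg
  have hnab := P.nc 0 (by norm_num) 1 (by norm_num) rfl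
  have hsn : Chart.L X.chart (rad u) ∈ near D (v 0) := L_mem X (rad_iso hg) (rad_ne hg)
  rcases eq_of_fix_five X hu hg (mem_loc H (P.mem 0 (by norm_num)) hza) hfix with
    e | e | e | e
  · exact e
  · exact absurd (e ▸ hzb) hnab
  · exact absurd (e ▸ hzb) hns
  · exfalso
    set s := Chart.L X.chart (rad u)
    set a := v 0
    set b := v 1
    have ha := P.mem 0 (by norm_num)
    have hb := P.mem 1 (by norm_num)
    have hbb : b * b = 1 := ht.sq b hb
    have hsa : CList D [s, a] :=
      ⟨by simp; exact ⟨hsn.1, ha⟩, by simp; exact hsn.2.1, by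
        intro p hp q hq
        simp at hp hq
        rcases hp with rfl | rfl <;> rcases hq with rfl | rfl <;>
          first | exact Commute.refl _ | exact hsn.2.2 | exact hsn.2.2.symm⟩
    have hsa' : CList D [b * s * b, b * a * b] :=
      ⟨by simp; exact ⟨ht.conj_mem hb hsn.1, ht.conj_mem hb ha⟩,
        by simp; exact hsn.2.1, by
        intro p hp q hq
        simp at hp hq
        have h2 := ht.commute_conj hb hsn.2.2
        rcases hp with rfl | rfl <;> rcases hq with rfl | rfl <;>
          first | exact Commute.refl _ | exact h2 | exact h2.symm⟩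
    have hz' : [b * s * b, b * a * b].prod = [s, a].prod := by
      simp only [List.prod_cons, List.prod_nil, mul_one]
      calc b * s * b * (b * a * b) = b * s * (b * b) * a * b := by group
        _ = b * (s * a) * b := by rw [hbb]; group
        _ = b * z * b := by rw [e]
        _ = z * (b * b) := by rw [← hzb.eq, mul_assoc]
        _ = s * a := by rw [hbb, mul_one, e]
    have hmem := (ThreeTransPairs.pair_unique ht H.prim hsa' rfl hsa rfl hz' (b * a * b)).mp
      (by simp)
    obtain ⟨f1, f2⟩ := ht.f1 ha hb hnab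
    simp at hmem
    rcases hmem with e' | e'
    · exact f2 (e'.symm ▸ hsn.2.2)
    · exact f1 e'

/-- The spider relator. -/
theorem rel_spider : val (gN v) wU = 1 := by
  classical
  have ht := H.ts
  have hR := P.rels ht
  have hN : ∀ i, i < 9 → gN v i = v i := fun i hi => if_pos hi
  set U := val (gN v) wU
  set θ := val (gN v) wTheta2 with hθ
  have hM : ∀ i < 9, v i ∈ D := P.mem
  have hcW : Commute (v 0) (val (gN v) (wTheta2.take 10)) := P.commute_val (by norm_num) (by decide)
  have hθeq : θ = val (gN v) (wTheta2.take 10) * v 2 * (val (gN v) (wTheta2.take 10))⁻¹ := by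
    rw [hθ, ← P.val_conj ht _ (by norm_num : 2 < 9)]
    exact congrArg _ (by decide)
  have hθn : θ ∈ near D (v 0) := by
    rw [hθeq]
    exact near_conj ht hcW.symm (near_of H P (by norm_num) (by norm_num) (by decide) rfl)
  have hcθ : ∀ x, x < 9 → val (gN v) (wTheta2 ++ [x]) = val (gN v) (x :: wTheta2) →
      Commute θ (v x) := fun x hx e => by
    rw [val_append, val_cons, val_cons, val_nil, mul_one, hN x hx] at e
    exact e
  have hθd := hcθ 3 (by norm_num) (theta2_comm_d hR)
  have hθe := hcθ 4 (by norm_num) (theta2_comm_e hR)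
  have hθf := hcθ 5 (by norm_num) (theta2_comm_f hR)
  have hθh := hcθ 7 (by norm_num) (theta2_comm_h hR)
  have hθi := hcθ 8 (by norm_num) (theta2_comm_i hR)
  have hnab := P.nc 0 (by norm_num) 1 (by norm_num) rfl
  have hbθ : ¬ Commute (v 1) θ := by
    intro hc
    have hθb : θ ∈ near D (v 1) := ⟨hθn.1, fun e => hnab (e ▸ hθn.2.2), hc⟩
    have hL : ∀ i, i < 9 → i ≠ 0 → i ≠ 1 → adjN 0 i = false → adjN 1 i = false →
        v i ∈ near D (v 0) ∩ near D (v 1) := fun i hi h0 h1 a0 a1 =>
      ⟨near_of H P (by norm_num) hi h0.symm a0,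
        near_of H P (by norm_num) hi h1.symm a1⟩
    have e := unique_perp H (hM 0 (by norm_num)) (hM 1 (by norm_num)) hnab
      ![v 8, v 7, v 3, v 4]
      (fun i => by fin_cases i <;> exact hL _ (by norm_num) (by decide) (by decide) rfl rfl)
      (fun i j => by fin_cases i <;> fin_cases j <;> exact P.commute_iff (by norm_num) (by norm_num))
      (p := θ) (q := v 6) ⟨hθn, hθb⟩ (hL 6 (by norm_num) (by decide) (by decide) rfl rfl)
      (fun i => by fin_cases i <;> assumption)
      (fun i => by fin_cases i <;> exact P.comm 6 (by norm_num) _ (by norm_num) rfl)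
    exact P.nc 6 (by norm_num) 5 (by norm_num) rfl (e ▸ hθf)
  set t := val (gN v) wt with htdef
  have ht' : t = v 1 * θ := by rw [htdef, wt, val_cons, hN 1 (by norm_num)]
  have ht3 : t * t * t = 1 := by
    rw [ht']
    have hb := ht.braid _ (hM 1 (by norm_num)) _ hθn.1 hbθ
    have hsq : (v 1 * θ * v 1) * (v 1 * θ * v 1) = 1 := by
      have h1 := ht.sq _ (ht.conj_mem (hM 1 (by norm_num)) hθn.1)
      exact h1
    calc v 1 * θ * (v 1 * θ) * (v 1 * θ) = (v 1 * θ * v 1) * (θ * v 1 * θ) := by group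
      _ = 1 := by rw [← hb]; exact hsq
  have hrep : val (gN v) (List.replicate 3 wt).flatten = 1 := by
    simp [List.replicate_succ, val_append, val_nil, ← mul_assoc, ← htdef, ht3]
  have hrep' : val (gN v) (List.replicate 3 wt.reverse).flatten = 1 := by
    simp only [List.replicate_succ, List.replicate_zero, List.flatten_cons, List.flatten_nil,
      val_append, val_nil, mul_one]
    rw [val_reverse _ _ (fun a _ => hR.sq a), ← mul_inv_rev, ← mul_inv_rev, ← htdef, ht3, inv_one]
  have hred : ∀ (w m : List ℕ) (x : ℕ), val (gN v) m = 1 →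
      val (gN v) (w ++ m ++ w.reverse ++ (x :: wU)) = val (gN v) (x :: wU) := fun w m x hm => by
    rw [val_append, val_append, val_append, val_reverse _ w (fun a _ => hR.sq a), hm, mul_one,
      mul_inv_cancel, one_mul]
  have hcU : ∀ x, x < 9 → val (gN v) (wU ++ [x]) = val (gN v) (x :: wU) → Commute U (v x) :=
    fun x hx e => by
      rw [val_append, val_cons, val_cons, val_nil, mul_one, hN x hx] at e
      exact e
  have hUT : ∀ j : Fin 6, Commute U (v (pT j)) := by
    intro j
    fin_cases j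
    · exact hcU 2 (by norm_num) ((u_comm_c hR).trans (hred [3, 7, 8, 4, 3, 7, 5, 4, 3, 2] _ 2 hrep'))
    · exact hcU 3 (by norm_num) ((u_comm_d hR).trans (hred [7, 8, 4, 2, 3, 7, 5, 4, 3, 2] _ 3 hrep'))
    · exact hcU 4 (by norm_num) (u_comm_e hR)
    · exact hcU 5 (by norm_num) ((u_comm_f hR).trans (hred [4, 3, 7, 8, 2, 3, 7, 4, 3, 2] _ 5 hrep))
    · exact hcU 7 (by norm_num) ((u_comm_h hR).trans (hred [8, 3, 4, 2, 3, 7, 5, 4, 3, 2] _ 7 hrep))
    · exact hcU 8 (by norm_num) ((u_comm_i hR).trans (hred [7, 3, 4, 2, 3, 7, 5, 4, 3, 2] _ 8 hrep))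
  -- the conjugate of the first node
  set a := v 0 with hadef
  set a' := U * a * U⁻¹ with ha'
  have ha'D : a' ∈ D := ht.conj _ _ (hM 0 (by norm_num))
  have hc' : ∀ j, Commute a' (v (pT j)) := fun j => by
    have := (Commute.conj_iff U).mpr (P.comm 0 (by norm_num) _ ((show ∀ i, pT i < 9 by decide) j)
      ((show ∀ i, adjN 0 (pT i) = false by decide) j))
    rwa [← ha', mul_inv_eq_iff_eq_mul.mpr (hUT j).eq] at this
  obtain ⟨F, _, _, _, hctx⟩ := H.ctx
  have haa : a' = a := by
    by_contra hne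
    by_cases hca : Commute a a'
    · obtain ⟨φ, X⟩ := hctx a (hM 0 (by norm_num))
      obtain ⟨u, hu, hg⟩ := nodes_gram H P X pA path6 (by decide) (by decide) (by decide)
        (by decide) (fun i => near_of H P (by norm_num)
          ((show ∀ i, pA i < 9 by decide) i) ((show ∀ i, 0 ≠ pA i by decide) i)
          ((show ∀ i, adjN 0 (pA i) = false by decide) i))
      obtain ⟨w, hw, hw0, hwe⟩ := L_surj X (x := a') ⟨ha'D, hne, hca⟩
      obtain ⟨c, hc, hc0, hce⟩ := L_surj X
        (near_of H P (i := 0) (j := 2) (by norm_num) (by norm_num) (by decide) rfl)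
      set k := h c (u 3)
      have hceq : c = k • (u 0 + u 2) := by
        refine eq_of_pair (path6_li hg) fun j => ?_
        rw [h_smul_left, h_add_left, hg, hg]
        by_cases hj : j = 3
        · subst hj; simp [path6, k]
        · have hz : h c (u j) = 0 := (L_comm X hc hc0 (hu j).1 (hu j).2.1).mp (by
            rw [hce, (hu j).2.2]
            exact P.comm 2 (by norm_num) _ ((show ∀ i, pA i < 9 by decide) j)
              ((show ∀ i : Fin 6, i ≠ 3 → adjN 2 (pA i) = false by decide) j hj))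
          rw [hz]
          fin_cases j <;> simp [path6, add_self] at hj ⊢
      have hk : k ≠ 0 := fun e => hc0 (by rw [hceq, e, zero_smul])
      have hwz : ∀ j : Fin 6, j ≠ 0 → h w (u j) = 0 := fun j hj =>
        (L_comm X hw hw0 (hu j).1 (hu j).2.1).mp (by
          rw [hwe, (hu j).2.2]
          obtain ⟨j', hj'⟩ := (show ∀ i : Fin 6, i ≠ 0 → ∃ k : Fin 6, pT k = pA i by decide) j hj
          exact hj' ▸ hc' j')
      have hwc : h w c = 0 := (L_comm X hw hw0 hc hc0).mp (by rw [hwe, hce]; exact hc' 0)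
      rw [hceq, h_smul_right, h_add_right, hwz 2 (by decide), add_zero] at hwc
      refine hw0 (eq_of_pair (path6_li hg) fun j => ?_)
      rw [h_zero_left]
      by_cases hj : j = 0
      · rw [hj]; exact (mul_eq_zero.mp hwc).resolve_left (pow_ne_zero 2 hk)
      · exact hwz j hj
    -- a member commuting with the seven nodes of the affine diagram but not with the first
    obtain ⟨a1, ha1, hn1, h1b, h1c⟩ : ∃ a1 ∈ D, ¬ Commute a1 a ∧ Commute a1 (v 1) ∧
        ∀ j, Commute a1 (v (pT j)) := by
      obtain ⟨φ, X⟩ := hctx (v 8) (hM 8 (by norm_num))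
      obtain ⟨u, hu, hg⟩ := nodes_gram H P X pI path6 (by decide) (by decide) (by decide)
        (by decide) (fun i => near_of H P (by norm_num)
          ((show ∀ i, pI i < 9 by decide) i) ((show ∀ i, 8 ≠ pI i by decide) i)
          ((show ∀ i, adjN 8 (pI i) = false by decide) i))
      obtain ⟨w, hw, hw0, hwe⟩ := L_surj X (x := a') ⟨ha'D,
        fun e => hca (e ▸ P.comm 0 (by norm_num) 8 (by norm_num) rfl), (hc' 5).symm⟩
      set r' := u 1 + u 3 + u 5 with hr'
      have hrp : ∀ j : Fin 6, h r' (u j) = if j = 0 then 1 else 0 := fun j => by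
        rw [hr', h_add_left, h_add_left, hg, hg, hg]
        fin_cases j <;> simp [path6, add_self]
      have hrr : h r' r' = 0 := by
        conv_lhs => arg 2; rw [hr']
        rw [h_add_right, h_add_right, hrp, hrp, hrp]
        simp
      have hr0 : r' ≠ 0 := fun e => by
        have := hrp 0
        rw [e, h_zero_left, if_pos rfl] at this
        exact zero_ne_one this
      have hwz : ∀ j : Fin 6, j ≠ 0 → j ≠ 1 → h w (u j) = 0 := fun j h0 h1 =>
        (L_comm X hw hw0 (hu j).1 (hu j).2.1).mp (by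
          rw [hwe, (hu j).2.2]
          obtain ⟨j', hj'⟩ := (show ∀ i : Fin 6, i ≠ 0 → i ≠ 1 → ∃ k : Fin 6, pT k = pI i by decide)
            j h0 h1
          exact hj' ▸ hc' j')
      set α := h w (u 0)
      set β := h w (u 1)
      have hα : α ≠ 0 := fun e => hca (by
        have := (L_comm X hw hw0 (hu 0).1 (hu 0).2.1).mpr e
        rw [hwe, (hu 0).2.2] at this
        exact this.symm)
      have hweq : w = α • r' + β • u 0 := by
        refine eq_of_pair (path6_li hg) fun j => ?_
        rw [h_add_left, h_smul_left, h_smul_left, hrp, hg]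
        by_cases h0 : j = 0
        · subst h0; simp [path6, α]
        by_cases h1 : j = 1
        · subst h1; simp [path6, β]
        · rw [hwz j h0 h1, if_neg h0]
          fin_cases j <;> simp [path6] at h0 h1 ⊢
      have hiso : β * (α + β) = 0 := by
        have := hw
        have h0r : h (u 0) r' = 1 := h_comm_one ((hrp 0).trans (if_pos rfl))
        rw [hweq] at this
        simp only [h_add_left, h_add_right, h_smul_left, h_smul_right, hrr, hrp, h0r, (hu 0).1,
          if_true, mul_one, mul_zero, zero_add, add_zero] at this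
        exact (mul_eq_zero.mp (show α * (β * (α + β)) = 0 by linear_combination this)).resolve_left hα
      have h0r : h (u 0) r' = 1 := h_comm_one ((hrp 0).trans (if_pos rfl))
      refine ⟨Chart.L X.chart r', (L_mem X hrr hr0).1, fun hcc => ?_, ?_, fun j => ?_⟩
      · have := (L_comm X hrr hr0 (hu 0).1 (hu 0).2.1).mp (by rw [(hu 0).2.2]; exact hcc)
        rw [hrp, if_pos rfl] at this
        exact one_ne_zero this
      · have := (L_comm X hrr hr0 (hu 1).1 (hu 1).2.1).mpr (by rw [hrp]; rfl)
        rwa [(hu 1).2.2] at this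
      · rcases mul_eq_zero.mp hiso with hb0 | hab
        · have e : Chart.L X.chart r' = a' := by
            rw [← hwe, hweq, hb0, zero_smul, add_zero, L_smul X hrr hr0 hα]
          rw [e]; exact hc' j
        · have hαβ : α = β := eq_of_add_eq_zero hab
          have e : a * a' * a⁻¹ = Chart.L X.chart r' := by
            rw [← hwe, show a = Chart.L X.chart (u 0) from (hu 0).2.2.symm,
              L_tconj X hw hw0 (hu 0).1 (hu 0).2.1]
            have : w + h w (u 0) • u 0 = α • r' := by
              show w + α • u 0 = _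
              rw [hweq, ← hαβ, add_assoc, ← add_smul, add_self, zero_smul, add_zero]
            rw [this, L_smul X hrr hr0 hα]
          rw [← e]
          have := (Commute.conj_iff a).mpr (hc' j)
          rwa [mul_inv_eq_iff_eq_mul.mpr (P.comm 0 (by norm_num) _
            ((show ∀ i, pT i < 9 by decide) j) ((show ∀ i, adjN 0 (pT i) = false by decide) j)).eq]
            at this
    obtain ⟨φ, X⟩ := hctx a1 ha1
    have hnear : ∀ j, v (pT j) ∈ near D a1 := fun j => ⟨hM _ ((show ∀ i, pT i < 9 by decide) j),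
      fun e => hn1 (e ▸ (P.comm 0 (by norm_num) _ ((show ∀ i, pT i < 9 by decide) j)
        ((show ∀ i, adjN 0 (pT i) = false by decide) j)).symm), h1c j⟩
    obtain ⟨u, hu, hg⟩ := nodes_gram H P X pT tree6 (by decide) (by decide) (by decide)
      (by decide) hnear
    obtain ⟨wb, hb, hb0, hbe⟩ := L_surj X (x := v 1) ⟨hM 1 (by norm_num),
      fun e => P.nc 1 (by norm_num) 2 (by norm_num) rfl (e.symm ▸ h1c 0), h1b⟩
    have hcθ1 : Commute a1 θ := by
      rw [hθ]
      refine Commute.list_prod_right _ _ fun y hy => ?_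
      obtain ⟨i, hi, rfl⟩ := List.mem_map.mp hy
      obtain ⟨k, rfl⟩ := (show ∀ i ∈ wTheta2, ∃ k : Fin 6, pT k = i by decide) i hi
      rw [gN, if_pos ((show ∀ i, pT i < 9 by decide) k)]
      exact h1c k
    obtain ⟨wθ, hθw, hθ0, hθwe⟩ := L_surj X (x := θ) ⟨hθn.1, fun e => hn1 (e ▸ hθn.2.2.symm), hcθ1⟩
    have zb : ∀ j : Fin 6, j ≠ 0 → h wb (u j) = 0 := fun j hj =>
      (L_comm X hb hb0 (hu j).1 (hu j).2.1).mp (by
        rw [hbe, (hu j).2.2]
        exact P.comm 1 (by norm_num) _ ((show ∀ i, pT i < 9 by decide) j)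
          ((show ∀ i : Fin 6, i ≠ 0 → adjN 1 (pT i) = false by decide) j hj))
    have zθ : ∀ j : Fin 6, j ≠ 0 → h wθ (u j) = 0 := fun j hj =>
      (L_comm X hθw hθ0 (hu j).1 (hu j).2.1).mp (by
        rw [hθwe, (hu j).2.2]
        fin_cases j
        exacts [absurd rfl hj, hθd, hθe, hθf, hθh, hθi])
    have k0 : h wθ (u 0) ≠ 0 := fun e => hθ0 (eq_of_pair (tree6_li hg) fun j => by
      rw [h_zero_left]
      by_cases hj : j = 0
      · rw [hj]; exact e
      · exact zθ j hj)
    set k := h wb (u 0) / h wθ (u 0)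
    have e : wb = k • wθ := by
      refine eq_of_pair (tree6_li hg) fun j => ?_
      rw [h_smul_left]
      by_cases hj : j = 0
      · rw [hj, div_mul_cancel₀ _ k0]
      · rw [zb j hj, zθ j hj, mul_zero]
    have hk : k ≠ 0 := fun h0 => hb0 (by rw [e, h0, zero_smul])
    have hbt : v 1 = θ := by rw [← hbe, e, L_smul X hθw hθ0 hk, hθwe]
    exact hbθ (hbt ▸ Commute.refl _)
  have hUa : Commute U a := mul_inv_eq_iff_eq_mul.mp haa
  obtain ⟨φ, X⟩ := hctx a (hM 0 (by norm_num))
  obtain ⟨u, hu, hg⟩ := nodes_gram H P X pT tree6 (by decide) (by decide) (by decide)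
    (by decide) (fun i => near_of H P (by norm_num)
      ((show ∀ i, pT i < 9 by decide) i) ((show ∀ i, 0 ≠ pT i by decide) i)
      ((show ∀ i, adjN 0 (pT i) = false by decide) i))
  rcases eq_of_fix X hu hg (tree6_li hg) (by decide) (mem_loc H (hM 0 (by norm_num)) hUa)
    hUT with e | e
  · exact e
  · exfalso
    have hUt : Commute U t := by
      have := u_trans hR
      rw [val_append, val_append] at this
      exact this
    rw [e, ht'] at hUt
    have hat : Commute a (v 1 * θ * θ) := hUt.mul_right hθn.2.2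
    rw [mul_assoc, ht.sq θ hθn.1, mul_one] at hat
    exact hnab hat

end

end Cfsg.Agent.ThreeTransM22Pat51
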