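import Cfsg.Agent.Lib.Fi23Plane79
import Cfsg.Agent.Lib.ThreeTransM22Pat51

/-!
# The diagram Y342 in a class whose local structures are of type M(22)

Assume that the members near each member form a web with charts `PSU₆(2)`.  From a diagram Y332
`a, ..., i` near a member `z` we construct a member `j` and change the node `h` so that the nine and `j`
form the diagram Y342, `z` commuting with the nine but not with `j`.
-/

set_option autoImplicit false
set_option linter.unusedSectionVars false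

namespace Cfsg.Agent.Fi23Config79

open Cfsg.Agent.ThreeTransDescent
open Cfsg.Agent.UnitaryF4Geo Cfsg.Agent.UnitaryF4Line
open Cfsg.Agent.Fi22RecogWebGeo11 Cfsg.Agent.Fi23Plane79
open Cfsg.Agent.ThreeTransM22Frame72 (exists_duals exists_alpha)
open Cfsg.Agent.ThreeTransM22Frames51 (Gram path6 tree6 path6_li eq_of_pair)
open Cfsg.Agent.ThreeTransM22Pat51 (Pat)
open Cfsg.Agent.Fi22Certs51 (adjN)

variable {G : Type*} [Group G] {D : Set G}
variable {F : Type} [Field F] [Fintype F] [hF : FourField F]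

/-- The nine nodes near `z` and the tenth one. -/
structure Config (D : Set G) (z j : G) (w : ℕ → G) : Prop where
  pat : Pat (near D z) w
  jmem : j ∈ D
  zj : ¬ Commute z j
  comm : ∀ i < 9, i ≠ 6 → Commute j (w i)
  ncg : ¬ Commute j (w 6)

theorem near_swap {z s : G} : near (near D z) s = near (near D s) z := by
  ext x
  exact ⟨fun ⟨⟨a, b, c⟩, d, e⟩ => ⟨⟨a, d, e⟩, b, c⟩, fun ⟨⟨a, b, c⟩, d, e⟩ => ⟨⟨a, d, e⟩, b, c⟩⟩

theorem pts_swap {z s : G} {L : (Fin 6 → F) → G} (X : Pts (near D z) s L) : Pts (near D s) z L where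
  mem hu hu0 := by rw [near_swap]; exact X.mem hu hu0
  surj hx := X.surj (by rwa [near_swap])
  smul := X.smul
  inj := X.inj
  comm := X.comm
  tconj := X.tconj

/-! ### Scaled vectors in a chart -/

section chart

variable {E : Set G} {s : G} {L : (Fin 6 → F) → G} (X : Pts E s L)
include X

theorem exists_scaled {u : Fin 6 → F} (hu : h u u = 0) (hu0 : u ≠ 0) {x : G} (hx : x ∈ near E s)
    (hn : ¬ Commute (L u) x) :
    ∃ v : Fin 6 → F, h v v = 0 ∧ v ≠ 0 ∧ L v = x ∧ h u v = 1 := by
  obtain ⟨v, hv, hv0, rfl⟩ := X.surj hx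
  have hk : h u v ≠ 0 := fun e => hn ((X.comm hu hu0 hv hv0).mpr e)
  refine ⟨h u v • v, by rw [h_smul_left, h_smul_right, hv, mul_zero, mul_zero], smul_ne_zero hk hv0,
    X.smul hv hv0 hk, ?_⟩
  rw [h_smul_right, ← pow_succ, cube hk]

theorem exists_gram : ∀ (n : ℕ) (x : Fin n → G) (adj : Fin n → Fin n → Bool),
    (∀ i, x i ∈ near E s) → (∀ i j, Commute (x i) (x j) ↔ adj i j = false) →
    (∀ i j, adj i j = adj j i) →
    (∀ i j j', j < i → j' < i → adj j i = true → adj j' i = true → j = j') →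
    ∃ u : Fin n → Fin 6 → F, (∀ i, h (u i) (u i) = 0 ∧ u i ≠ 0 ∧ L (u i) = x i) ∧ Gram adj u
  | 0, _, _, _, _, _, _ => ⟨fun i => i.elim0, fun i => i.elim0, fun i => i.elim0⟩
  | n + 1, x, adj, hx, hpat, hsym, htree => by
    obtain ⟨u, hu, hg⟩ := exists_gram n (x ∘ Fin.castSucc) (fun i j => adj i.castSucc j.castSucc)
      (fun i => hx _) (fun i j => hpat _ _) (fun i j => hsym _ _)
      (fun i j j' h1 h2 a1 a2 => Fin.castSucc_injective _ (htree _ _ _ (by simpa using h1)
        (by simpa using h2) a1 a2))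
    have hz : ∀ {v : Fin 6 → F}, h v v = 0 → v ≠ 0 → L v = x (Fin.last n) → ∀ i,
        adj i.castSucc (Fin.last n) = false → h (u i) v = 0 := fun hv hv0 e i ha =>
      (X.comm (hu i).1 (hu i).2.1 hv hv0).mp (by rw [e, (hu i).2.2]; exact (hpat _ _).mpr ha)
    have hlast : ∃ v : Fin 6 → F, h v v = 0 ∧ v ≠ 0 ∧ L v = x (Fin.last n) ∧
        ∀ i, h (u i) v = if adj i.castSucc (Fin.last n) then 1 else 0 := by
      by_cases hex : ∃ j : Fin n, adj j.castSucc (Fin.last n) = true
      · obtain ⟨j, hj⟩ := hex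
        have hn : ¬ Commute (L (u j)) (x (Fin.last n)) := by
          rw [(hu j).2.2]
          intro hc
          have := (hpat _ _).mp hc
          rw [hj] at this
          exact Bool.noConfusion this
        obtain ⟨v, hv, hv0, e, h1⟩ := exists_scaled X (hu j).1 (hu j).2.1 (hx _) hn
        refine ⟨v, hv, hv0, e, fun i => ?_⟩
        by_cases ha : adj i.castSucc (Fin.last n) = true
        · rw [if_pos ha, show i = j from Fin.castSucc_injective _
            (htree (Fin.last n) _ _ (Fin.castSucc_lt_last i) (Fin.castSucc_lt_last j) ha hj), h1]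
        · rw [if_neg ha]; exact hz hv hv0 e i (by simpa using ha)
      · obtain ⟨v, hv, hv0, e⟩ := X.surj (hx (Fin.last n))
        push Not at hex
        refine ⟨v, hv, hv0, e, fun i => ?_⟩
        rw [if_neg (hex i)]
        exact hz hv hv0 e i (by simpa using hex i)
    obtain ⟨v, hv, hv0, e, hgv⟩ := hlast
    refine ⟨Fin.snoc u v, fun i => ?_, fun i j => ?_⟩
    · induction i using Fin.lastCases with
      | last => rw [Fin.snoc_last]; exact ⟨hv, hv0, e⟩
      | cast i => rw [Fin.snoc_castSucc]; exact hu i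
    · have hd : adj (Fin.last n) (Fin.last n) = false := (hpat _ _).mp (Commute.refl _)
      induction i using Fin.lastCases with
      | last =>
        induction j using Fin.lastCases with
        | last => simp [hd, hv]
        | cast j =>
          rw [Fin.snoc_last, Fin.snoc_castSucc, h_symm (u j) v, hgv, hsym]
          split_ifs <;> simp
      | cast i =>
        induction j using Fin.lastCases with
        | last => rw [Fin.snoc_last, Fin.snoc_castSucc, hgv]
        | cast j => rw [Fin.snoc_castSucc, Fin.snoc_castSucc]; exact hg i j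

end chart

/-! ### Collinearity is symmetric -/

/-- Every member commuting with three members commutes with the fourth. -/
def Col (E : Set G) (s x y p : G) : Prop :=
  ∀ g ∈ E, Commute g s → Commute g x → Commute g y → Commute g p

theorem Col.rot {E : Set G} {s x y p : G} (C : Col E s x y p) : Col E x s y p :=
  fun g hg h1 h2 h3 => C g hg h2 h1 h3

theorem col_of_span {E : Set G} {s : G} {L : (Fin 6 → F) → G} (X : Pts E s L) {vx vy vp : Fin 6 → F}
    (x0 : h vx vx = 0) (x1 : vx ≠ 0) (y0 : h vy vy = 0) (y1 : vy ≠ 0) (p0 : h vp vp = 0) (p1 : vp ≠ 0)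
    {A B : F} (e : vp = A • vx + B • vy) : Col E s (L vx) (L vy) (L vp) := by
  intro g hg hs hx hy
  by_cases hgs : g = s
  · subst hgs; exact (X.mem p0 p1).2.2
  obtain ⟨u, u0, u1, rfl⟩ := X.surj (x := g) ⟨hg, hgs, hs.symm⟩
  rw [X.comm u0 u1 x0 x1] at hx
  rw [X.comm u0 u1 y0 y1] at hy
  rw [X.comm u0 u1 p0 p1, e, h_add_right, h_smul_right, h_smul_right, hx, hy, mul_zero, mul_zero,
    add_zero]

theorem span_of_col {E : Set G} {s : G} {L : (Fin 6 → F) → G} (X : Pts E s L) {vx vy vp : Fin 6 → F}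
    (x0 : h vx vx = 0) (x1 : vx ≠ 0) (y0 : h vy vy = 0) (y1 : vy ≠ 0) (p0 : h vp vp = 0) (p1 : vp ≠ 0)
    (C : Col E s (L vx) (L vy) (L vp)) : ∃ A B : F, vp = A • vx + B • vy := by
  have hm : vp ∈ Submodule.span F ({vx, vy} : Set (Fin 6 → F)) := by
    refine mem_span_of_perp le_rfl x0 y0 fun g hg hgx hgy => ?_
    by_cases g1 : g = 0
    · subst g1; exact h_zero_left _
    refine (X.comm hg g1 p0 p1).mp (C _ (X.mem hg g1).1 (X.mem hg g1).2.2.symm ?_ ?_)
    · exact (X.comm hg g1 x0 x1).mpr hgx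
    · exact (X.comm hg g1 y0 y1).mpr hgy
  obtain ⟨A, B, e⟩ := Submodule.mem_span_pair.mp hm
  exact ⟨A, B, e.symm⟩

/-- If `p` is on the line of `x`, `y` in the charts at `z` and at `i` then `i` is on it at `z`. -/
theorem not_both {a : G} (hW : Web (near D a) F) {z i : G} {L L' : (Fin 6 → F) → G}
    (X : Pts (near D a) z L) (X' : Pts (near D a) i L') (hz : z ∈ near D a) (hi : i ∈ near D a)
    {x y p : G} (hxy : y ≠ x) (hpx : p ≠ x) (hpy : p ≠ y)
    {vx vy vp vi : Fin 6 → F} (x0 : h vx vx = 0) (x1 : vx ≠ 0) (y0 : h vy vy = 0) (y1 : vy ≠ 0)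
    (p0 : h vp vp = 0) (p1 : vp ≠ 0) (i0 : h vi vi = 0) (i1 : vi ≠ 0) (ex : L vx = x) (ey : L vy = y)
    (ep : L vp = p) (ei : L vi = i) (hxy0 : h vx vy = 0)
    {A B : F} (e : vp = A • vx + B • vy)
    {wx wy wp : Fin 6 → F} (x0' : h wx wx = 0) (x1' : wx ≠ 0) (y0' : h wy wy = 0) (y1' : wy ≠ 0)
    (p0' : h wp wp = 0) (p1' : wp ≠ 0) (ex' : L' wx = x) (ey' : L' wy = y) (ep' : L' wp = p)
    {A' B' : F} (e' : wp = A' • wx + B' • wy) :
    ∃ a b : F, vi = a • vx + b • vy := by
  have C1 := (col_of_span X x0 x1 y0 y1 p0 p1 e).rot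
  have C2 := (col_of_span X' x0' x1' y0' y1' p0' p1' e').rot
  rw [ex, ey, ep] at C1
  rw [ex', ey', ep'] at C2
  have hxm : x ∈ near D a := ex ▸ (X.mem x0 x1).1
  obtain ⟨M, Z⟩ := hW x hxm
  have hxz : z ∈ near (near D a) x := near_symm hz (ex ▸ X.mem x0 x1)
  have hxi : i ∈ near (near D a) x := near_symm hi (ex' ▸ X'.mem x0' x1')
  have hxy' : y ∈ near (near D a) x := by
    refine ⟨ey ▸ (X.mem y0 y1).1, hxy, ?_⟩
    rw [← ex, ← ey]; exact (X.comm x0 x1 y0 y1).mpr hxy0
  have hxp : p ∈ near (near D a) x := by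
    refine ⟨ep ▸ (X.mem p0 p1).1, hpx, ?_⟩
    rw [← ex, ← ep, X.comm x0 x1 p0 p1, e, h_add_right, h_smul_right, h_smul_right, x0, hxy0, mul_zero,
      mul_zero, add_zero]
  obtain ⟨z', z0, z1, ez⟩ := Z.surj hxz
  obtain ⟨i', i0', i1', ei'⟩ := Z.surj hxi
  obtain ⟨y', yy0, yy1, ey''⟩ := Z.surj hxy'
  obtain ⟨p', pp0, pp1, ep''⟩ := Z.surj hxp
  obtain ⟨α, β, h1⟩ := span_of_col Z z0 z1 yy0 yy1 pp0 pp1 (by rw [ez, ey'', ep'']; exact C1)
  obtain ⟨γ, δ, h2⟩ := span_of_col Z i0' i1' yy0 yy1 pp0 pp1 (by rw [ei', ey'', ep'']; exact C2)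
  have hγ : γ ≠ 0 := fun e0 => hpy (by
    have hp : p' = δ • y' := by rw [h2, e0, zero_smul, zero_add]
    have hδ : δ ≠ 0 := fun e1 => pp1 (by rw [hp, e1, zero_smul])
    rw [← ep'', ← ey'', hp, Z.smul yy0 yy1 hδ])
  have h3 : i' = (γ⁻¹ * α) • z' + (γ⁻¹ * (β + δ)) • y' := by
    have h4 : γ • i' = α • z' + (β + δ) • y' := by
      rw [h1] at h2
      have := vec_add_self (δ • y')
      rw [add_smul]
      linear_combination (norm := module) -h2 - this
    rw [← smul_smul γ⁻¹ α, ← smul_smul γ⁻¹ (β + δ), ← smul_add, ← h4, smul_smul, inv_mul_cancel₀ hγ,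
      one_smul]
  have C3 := (col_of_span Z z0 z1 yy0 yy1 i0' i1' h3).rot
  rw [ez, ey'', ei'] at C3
  exact span_of_col X x0 x1 y0 y1 i0 i1 (by rw [ex, ey, ei]; exact C3)

set_option maxHeartbeats 2000000 in
/-- From a diagram Y332 near `z`: the tenth node, and the node `h` adjusted to it. -/
theorem exists_config [Finite G] (hW : ∀ x ∈ D, Web (near D x) F) {z : G} (hz : z ∈ D) {v : ℕ → G}
    (P : Pat (near D z) v) : ∃ j w, Config D z j w := by
  have hv : ∀ i < 9, v i ∈ near D z := P.mem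
  set a := v 0 with ha
  have haz : a ∈ near D z := hv 0 (by norm_num)
  have hza : z ∈ near D a := near_symm hz haz
  have hna : ∀ i < 9, i ≠ 0 → i ≠ 1 → v i ∈ near (near D a) z := fun i hi h0 h1 => by
    rw [near_swap]
    refine ⟨hv i hi, P.ne hi (by norm_num) h0, P.comm 0 (by norm_num) i hi ?_⟩
    interval_cases i <;> first | rfl | omega
  have hia : v 8 ∈ near D a := (hna 8 (by norm_num) (by decide) (by decide)).1
  obtain ⟨L, X⟩ := hW a haz.1 z hza
  obtain ⟨L', X'⟩ := hW a haz.1 (v 8) hia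
  -- the chart at `z`
  obtain ⟨u, hu, hg⟩ := exists_gram X 6 ![v 6, v 5, v 4, v 3, v 7, v 8] path6
    (fun i => by fin_cases i <;> exact hna _ (by norm_num) (by decide) (by decide))
    (fun i k => by
      fin_cases i <;> fin_cases k <;>
        exact P.commute_iff (by norm_num) (by norm_num))
    (by decide) (by decide)
  obtain ⟨uc0, c0, c1, ec0⟩ := X.surj (hna 2 (by norm_num) (by decide) (by decide))
  have hcu : ∀ k : Fin 6, k ≠ 3 → h uc0 (u k) = 0 := fun k hk => by
    rw [← X.comm c0 c1 (hu k).1 (hu k).2.1, ec0, (hu k).2.2]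
    fin_cases k <;> first | exact absurd rfl hk | exact P.comm 2 (by norm_num) _ (by norm_num) rfl
  have hc3 : h uc0 (u 3) ≠ 0 := fun e => P.nc 2 (by norm_num) 3 (by norm_num) rfl (by
    have := (X.comm c0 c1 (hu 3).1 (hu 3).2.1).mpr e
    rwa [ec0, (hu 3).2.2] at this)
  set uc := u 0 + u 2 with huc
  have euc : uc0 = h uc0 (u 3) • uc := by
    refine eq_of_pair (path6_li hg) fun k => ?_
    rw [h_smul_left, huc, h_add_left, hg, hg]
    by_cases hk : k = 3
    · subst hk; simp [path6]
    · rw [hcu k hk]; fin_cases k <;> simp [path6, add_self] <;> exact absurd rfl hk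
  have uc0' : h uc uc = 0 := by simp [huc, h_add_left, h_add_right, hg _ _, path6]
  have uc1 : uc ≠ 0 := fun e => c1 (by rw [euc, e, smul_zero])
  have eLc : L uc = v 2 := by rw [← ec0, euc, X.smul uc0' uc1 hc3]
  -- the chart at `i`
  have hni : ∀ k < 9, k ≠ 0 → k ≠ 1 → k ≠ 7 → k ≠ 8 → v k ∈ near (near D a) (v 8) := fun k hk h0 h1 h7 h8 =>
    ⟨(hna k hk h0 h1).1, P.ne hk (by norm_num) h8, P.comm 8 (by norm_num) k hk (by
      interval_cases k <;> first | rfl | omega)⟩
  obtain ⟨q, hq, hgq⟩ := exists_gram X' 5 ![v 2, v 3, v 4, v 5, v 6]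
    (fun i k => i.1 + 1 == k.1 || k.1 + 1 == i.1)
    (fun i => by
      fin_cases i <;> exact hni _ (by norm_num) (by decide) (by decide) (by decide) (by decide))
    (fun i k => by
      fin_cases i <;> fin_cases k <;>
        exact P.commute_iff (by norm_num) (by norm_num))
    (by decide) (by decide)
  set s := q 0 + q 2 + q 4 with hs
  have hsq : ∀ k, h s (q k) = 0 := fun k => by
    fin_cases k <;> simp [hs, h_add_left, hgq _ _, add_self]
  have hss : h s s = 0 := by
    conv_lhs => arg 2; rw [hs]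
    rw [h_add_right, h_add_right, hsq, hsq, hsq, add_zero, add_zero]
  have hs0 : s ≠ 0 := by
    intro e
    have e4 : q 4 = (1 : F) • q 0 + (1 : F) • q 2 := by
      rw [one_smul, one_smul]; exact (vec_eq_of_add e).symm
    obtain ⟨A, B, hi⟩ := not_both (hW a haz.1) X X' hza hia
      (P.ne (i := 4) (j := 2) (by norm_num) (by norm_num) (by decide))
      (P.ne (i := 6) (j := 2) (by norm_num) (by norm_num) (by decide))
      (P.ne (i := 6) (j := 4) (by norm_num) (by norm_num) (by decide))
      uc0' uc1 (hu 2).1 (hu 2).2.1 (hu 0).1 (hu 0).2.1 (hu 5).1 (hu 5).2.1 eLc (hu 2).2.2 (hu 0).2.2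
      (hu 5).2.2 (by simp [huc, h_add_left, hg _ _, path6])
      (A := 1) (B := 1) (by
        rw [huc, one_smul, one_smul]
        have := vec_add_self (u 2)
        linear_combination (norm := module) -this)
      (hq 0).1 (hq 0).2.1 (hq 2).1 (hq 2).2.1 (hq 4).1 (hq 4).2.1 (hq 0).2.2 (hq 2).2.2 (hq 4).2.2 e4
    have h1 := congrArg (fun y => h y (u 4)) hi
    simp [huc, h_add_left, h_smul_left, hg _ _, path6] at h1
  have qli : LinearIndependent F q := by
    rw [Fintype.linearIndependent_iff]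
    intro c hc
    have e0 := congrArg (fun y => h y (q 0)) hc
    have e1 := congrArg (fun y => h y (q 1)) hc
    have e2 := congrArg (fun y => h y (q 2)) hc
    have e3 := congrArg (fun y => h y (q 3)) hc
    simp [h_add_left, h_smul_left, hgq _ _, Fin.sum_univ_five, h_zero_left] at e0 e1 e2 e3
    have a02 : c 2 = c 0 := (eq_of_add_eq_zero e1).symm
    have a24 : c 4 = c 2 := (eq_of_add_eq_zero e3).symm
    have a3 : c 3 = 0 := by simpa [e0] using e2
    simp [Fin.sum_univ_five, e0, a24, a02, a3, ← smul_add, ← hs, hs0] at hc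
    intro k
    fin_cases k
    exacts [hc, e0, a02.trans hc, a3, (a24.trans a02).trans hc]
  obtain ⟨x5, hx5⟩ := exists_duals qli
  have hsx : h (x5 0) s = 1 := by
    simp [hs, h_add_right, hx5]
  have qli6 : LinearIndependent F (Fin.snoc q (x5 0) : Fin 6 → Fin 6 → F) := by
    rw [linearIndependent_finSnoc]
    refine ⟨qli, fun hm => ?_⟩
    obtain ⟨c, hc⟩ := (Submodule.mem_span_range_iff_exists_fun F).mp hm
    have := congrArg (fun y => h y s) hc
    simp [h_sum_left, h_smul_left, fun k => h_comm_zero (hsq k), hsx] at this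
  have hzi : z ∈ near (near D a) (v 8) := near_symm hza (hna 8 (by norm_num) (by decide) (by decide))
  obtain ⟨zz, z0, z1, ezz⟩ := X'.surj hzi
  have hzq : ∀ k, h zz (q k) = 0 := fun k => by
    rw [← X'.comm z0 z1 (hq k).1 (hq k).2.1, ezz, (hq k).2.2]
    fin_cases k <;> exact (hv _ (by norm_num)).2.2
  have ezs : zz = h zz (x5 0) • s := by
    refine eq_of_pair qli6 fun k => ?_
    rw [h_smul_left]
    induction k using Fin.lastCases with
    | last => rw [Fin.snoc_last, h_comm_one hsx, mul_one]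
    | cast k => rw [Fin.snoc_castSucc, hsq, mul_zero, hzq]
  have eLs : L' s = z := by
    rw [← ezz, ezs, X'.smul hss hs0 (fun e => z1 (by rw [ezs, e, zero_smul]))]
  have pli : LinearIndependent F ![q 1, q 2, q 3, q 4, s] := by
    rw [Fintype.linearIndependent_iff]
    intro c hc
    simp [Fin.sum_univ_five] at hc
    have := Fintype.linearIndependent_iff.mp qli ![c 4, c 0, c 1 + c 4, c 2, c 3 + c 4] (by
      rw [← hc, Fin.sum_univ_five, hs]
      simp only [Matrix.cons_val]
      module)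
    have h4 : c 4 = 0 := this 0
    have h1 : c 1 + c 4 = 0 := this 2
    have h3 : c 3 + c 4 = 0 := this 4
    rw [h4, add_zero] at h1 h3
    intro k
    fin_cases k
    exacts [this 1, h1, this 3, h3, h4]
  obtain ⟨x6, hx6⟩ := exists_duals pli
  set x := x6 3 + x6 4 with hx
  obtain ⟨α, hα⟩ := exists_alpha (x := x) hss (by
    rw [hx, h_add_left, show h (x6 3) s = 0 from hx6 3 4, show h (x6 4) s = 1 from hx6 4 4, zero_add])
  set J := x + α • s with hJ
  have J1 : h J (q 1) = 0 := by
    rw [hJ, h_add_left, h_smul_left, hsq, hx, h_add_left, show h (x6 3) (q 1) = 0 from hx6 3 0,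
      show h (x6 4) (q 1) = 0 from hx6 4 0, mul_zero, add_zero, add_zero]
  have J2 : h J (q 2) = 0 := by
    rw [hJ, h_add_left, h_smul_left, hsq, hx, h_add_left, show h (x6 3) (q 2) = 0 from hx6 3 1,
      show h (x6 4) (q 2) = 0 from hx6 4 1, mul_zero, add_zero, add_zero]
  have J3 : h J (q 3) = 0 := by
    rw [hJ, h_add_left, h_smul_left, hsq, hx, h_add_left, show h (x6 3) (q 3) = 0 from hx6 3 2,
      show h (x6 4) (q 3) = 0 from hx6 4 2, mul_zero, add_zero, add_zero]
  have J4 : h J (q 4) = 1 := by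
    rw [hJ, h_add_left, h_smul_left, hsq, hx, h_add_left, show h (x6 3) (q 4) = 1 from hx6 3 3,
      show h (x6 4) (q 4) = 0 from hx6 4 3, mul_zero, add_zero, add_zero]
  have Js : h J s = 1 := by
    rw [hJ, h_add_left, h_smul_left, hss, hx, h_add_left, show h (x6 3) s = 0 from hx6 3 4,
      show h (x6 4) s = 1 from hx6 4 4, mul_zero, add_zero, zero_add]
  have J0 : h J J = 0 := hα
  have Jne : J ≠ 0 := fun e => one_ne_zero (α := F) (by rw [← J4, e, h_zero_left])
  have J00 : h J (q 0) = 0 := by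
    have := Js
    rw [hs, h_add_right, h_add_right, J2, J4, add_zero] at this
    simpa using this
  set U' : Fin 6 → Fin 6 → F := ![q 1, q 2, q 3, q 4, J, s] with hU'
  have gU' : Gram path6 U' := by
    intro k l
    fin_cases k <;> fin_cases l <;>
      simp [hU', path6, hgq _ _, hsq, hss, J0, J1, J2, J3, J4, Js, h_comm_zero J1, h_comm_zero J2,
        h_comm_zero J3, h_comm_one J4, h_comm_one Js, fun m => h_comm_zero (hsq m)]
  set j := L' J with hj
  have hjn : j ∈ near (near D a) (v 8) := X'.mem J0 Jne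
  have hjD : j ∈ D := hjn.1.1
  have hja : Commute j a := hjn.1.2.2.symm
  have hji : Commute j (v 8) := hjn.2.2.symm
  have hjz : ¬ Commute j z := fun e => one_ne_zero (α := F) (by
    rw [← Js]; exact (X'.comm J0 Jne hss hs0).mp (by rwa [eLs]))
  have hjq : ∀ k : Fin 5, Commute j (![v 2, v 3, v 4, v 5, v 6] k) ↔ k ≠ 4 := fun k => by
    rw [← (hq k).2.2, hj, X'.comm J0 Jne (hq k).1 (hq k).2.1]
    fin_cases k <;> simp [J00, J1, J2, J3, J4]
  -- the pair `a`, `b` in the world of `i`
  have hab : ¬ Commute (v 1) a := P.nc 1 (by norm_num) 0 (by norm_num) rfl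
  have h8 : v 8 ∈ D := (hv 8 (by norm_num)).1
  have nearI : ∀ k < 9, k ≠ 7 → k ≠ 8 → v k ∈ near D (v 8) := fun k hk h7 h8 =>
    ⟨(hv k hk).1, P.ne hk (by norm_num) h8, P.comm 8 (by norm_num) k hk (by
      interval_cases k <;> first | rfl | omega)⟩
  have P1 : Pair (near D (v 8)) F (v 1) a := ⟨hW _ h8, nearI 1 (by norm_num) (by decide) (by decide),
    nearI 0 (by norm_num) (by decide) (by decide), hab⟩
  have Y1 : Pts (near D (v 8)) a L' := pts_swap X'
  have rep1 : ∀ {x : Fin 6 → F} {k : ℕ}, h x x = 0 → x ≠ 0 → L' x = v k → k < 9 → k ≠ 1 → k ≠ 7 →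
      k ≠ 8 → adjN 1 k = false → Rep (near D (v 8)) (v 1) L' x := fun x0 x1 e hk h1 h7 h8 ha' =>
    ⟨x0, x1, by rw [e]; exact ⟨nearI _ hk h7 h8, P.ne hk (by norm_num) h1,
      P.comm 1 (by norm_num) _ hk ha'⟩⟩
  have r3 := rep1 (hq 1).1 (hq 1).2.1 (hq 1).2.2 (by norm_num) (by decide) (by decide) (by decide) rfl
  have r4 := rep1 (hq 2).1 (hq 2).2.1 (hq 2).2.2 (by norm_num) (by decide) (by decide) (by decide) rfl
  have r5 := rep1 (hq 3).1 (hq 3).2.1 (hq 3).2.2 (by norm_num) (by decide) (by decide) (by decide) rfl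
  have r6 := rep1 (hq 4).1 (hq 4).2.1 (hq 4).2.2 (by norm_num) (by decide) (by decide) (by decide) rfl
  have rs : Rep (near D (v 8)) (v 1) L' s := ⟨hss, hs0, by
    rw [eLs]
    exact ⟨⟨hz, hzi.2.1, hzi.2.2⟩, (hv 1 (by norm_num)).2.1.symm,
      (hv 1 (by norm_num)).2.2.symm⟩⟩
  have rJ := path_fifth P1 Y1 gU'
    (fun k hk => by
      fin_cases k
      exacts [r3, r4, r5, r6, absurd rfl hk, rs])
    (fun hr => by
      have e : U' 1 + U' 3 + U' 5 = q 0 := by
        show q 2 + q 4 + s = q 0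
        rw [hs]
        have e1 := vec_add_self (q 2)
        have e2 := vec_add_self (q 4)
        linear_combination (norm := module) e1 + e2
      rw [e] at hr
      have := hr.2.2.2.2
      rw [(hq 0).2.2] at this
      exact P.nc 1 (by norm_num) 2 (by norm_num) rfl this)
  have hjb : Commute (v 1) j := rJ.2.2.2.2
  -- the member `r`
  set w' := q 1 + q 3 with hw'
  have w0 : h w' w' = 0 := by simp [hw', h_add_left, h_add_right, hgq _ _]
  have w1 : w' ≠ 0 := fun e => by
    have := congrArg (fun y => h y (q 4)) e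
    simp [hw', h_add_left, hgq _ _, h_zero_left] at this
  set r := L' w' with hr
  have hrn : r ∈ near (near D a) (v 8) := X'.mem w0 w1
  have hrb : ¬ Rep (near D (v 8)) (v 1) L' w' := fun hR => by
    rcases Fi22RecogWebGeo11.line P1 Y1 r3 r5 hR (by simp [hgq _ _]) (A := 1) (B := 1)
      (by rw [one_smul, one_smul]) with e | e
    · obtain ⟨c, hc, e'⟩ := X'.inj w0 w1 (hq 1).1 (hq 1).2.1 e
      have := Fintype.linearIndependent_iff.mp qli ![0, 1 + c, 0, 1, 0] (by
        rw [Fin.sum_univ_five]; simp only [Matrix.cons_val]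
        rw [hw'] at e'
        have := vec_add_self (c • q 1)
        linear_combination (norm := module) e' + this) 3
      exact one_ne_zero this
    · obtain ⟨c, hc, e'⟩ := X'.inj w0 w1 (hq 3).1 (hq 3).2.1 e
      have := Fintype.linearIndependent_iff.mp qli ![0, 1, 0, 1 + c, 0] (by
        rw [Fin.sum_univ_five]; simp only [Matrix.cons_val]
        rw [hw'] at e'
        have := vec_add_self (c • q 3)
        linear_combination (norm := module) e' + this) 1
      exact one_ne_zero this
  have hrj : Commute r j := (X'.comm w0 w1 J0 Jne).mpr (by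
    simp [hw', h_add_left, h_comm_zero J1, h_comm_zero J3])
  have hrnz : r ≠ z := fun e => hjz (e ▸ hrj.symm)
  have hrz : Commute r z := by
    rw [← eLs, hr, X'.comm w0 w1 hss hs0]
    simp [hw', h_add_left, fun m => h_comm_zero (hsq m)]
  have hrnb : ¬ (r ∈ near (near D (v 8)) (v 1)) := fun e => hrb ⟨w0, w1, e⟩
  have hrmem : r ∈ near (near D a) z := ⟨hrn.1, hrnz, hrz.symm⟩
  obtain ⟨ur0, ur00, ur01, eur0⟩ := X.surj hrmem
  have hrq : ∀ k : Fin 5, Commute r (![v 2, v 3, v 4, v 5, v 6] k) ↔ k ≠ 0 ∧ k ≠ 4 := fun k => by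
    rw [← (hq k).2.2, hr, X'.comm w0 w1 (hq k).1 (hq k).2.1]
    fin_cases k <;> simp [hw', h_add_left, hgq _ _, add_self]
  have hg0 : h ur0 (u 0) ≠ 0 := fun e => by
    have := (X.comm ur00 ur01 (hu 0).1 (hu 0).2.1).mpr e
    rw [eur0, (hu 0).2.2] at this
    exact ((hrq 4).mp this).2 rfl
  set ur := (h ur0 (u 0))⁻¹ • ur0 with hur
  have urne : ur ≠ 0 := smul_ne_zero (inv_ne_zero hg0) ur01
  have ur0' : h ur ur = 0 := by rw [hur, h_smul_left, h_smul_right, ur00, mul_zero, mul_zero]
  have eLr : L ur = r := by rw [hur, X.smul ur00 ur01 (inv_ne_zero hg0), eur0]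
  have urg : h ur (u 0) = 1 := by rw [hur, h_smul_left, inv_mul_cancel₀ hg0]
  have urz : ∀ k : Fin 6, k ≠ 0 → k ≠ 4 → h ur (u k) = 0 := fun k h0 h4 => by
    rw [← X.comm ur0' urne (hu k).1 (hu k).2.1, eLr, (hu k).2.2]
    fin_cases k
    · exact absurd rfl h0
    · exact (hrq 3).mpr (by decide)
    · exact (hrq 2).mpr (by decide)
    · exact (hrq 1).mpr (by decide)
    · exact absurd rfl h4
    · exact hrn.2.2.symm
  set τ := 1 + h ur (u 4) with hτ
  have eur : ur = u 1 + u 3 + τ • u 5 := by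
    refine eq_of_pair (path6_li hg) fun k => ?_
    rw [show h (u 1 + u 3 + τ • u 5) (u k) = h (u 1) (u k) + h (u 3) (u k) + τ * h (u 5) (u k) by
      simp [h_add_left, h_smul_left], hg, hg, hg]
    by_cases h0 : k = 0
    · subst h0; simp [urg, path6]
    by_cases h4 : k = 4
    · subst h4; simp [hτ, path6, ← add_assoc, add_self]
    rw [urz k h0 h4]
    fin_cases k <;> simp [path6, add_self] <;> first | exact absurd rfl h0 | exact absurd rfl h4
  have hτ0 : τ ≠ 0 := by
    intro e
    rw [e, zero_smul, add_zero] at eur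
    have hrd : r ≠ v 3 := fun e' => (P.nc 2 (by norm_num) 3 (by norm_num) rfl)
      (by
        have h1 := (hrq 2).mpr (by decide)
        rw [e'] at h1
        exact absurd h1 (P.nc 3 (by norm_num) 4 (by norm_num) rfl))
    have hrf : r ≠ v 5 := fun e' => by
      have h1 := (hrq 2).mpr (by decide)
      rw [e'] at h1
      exact P.nc 5 (by norm_num) 4 (by norm_num) rfl h1
    obtain ⟨A, B, hi⟩ := not_both (hW a haz.1) X X' hza hia
      (P.ne (i := 5) (j := 3) (by norm_num) (by norm_num) (by decide)) hrd hrf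
      (hu 3).1 (hu 3).2.1 (hu 1).1 (hu 1).2.1 ur0' urne (hu 5).1 (hu 5).2.1
      (hu 3).2.2 (hu 1).2.2 eLr (hu 5).2.2 (by simp [hg _ _, path6])
      (A := 1) (B := 1) (by rw [one_smul, one_smul, eur, add_comm])
      (hq 1).1 (hq 1).2.1 (hq 3).1 (hq 3).2.1 w0 w1 (hq 1).2.2 (hq 3).2.2 rfl
      (A' := 1) (B' := 1) (by rw [one_smul, one_smul])
    have h1 := congrArg (fun y => h y (u 0)) hi
    have h2 := congrArg (fun y => h y (u 2)) hi
    have h3 := congrArg (fun y => h y (u 4)) hi
    simp [h_add_left, h_smul_left, hg _ _, path6] at h1 h2 h3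
    simp [h1] at h2
    exact one_ne_zero ((h3.trans h2).trans h1.symm)
  set si := τ • u 5 with hsi
  have si0 : h si si = 0 := by rw [hsi, h_smul_left, h_smul_right, (hu 5).1, mul_zero, mul_zero]
  have si1 : si ≠ 0 := smul_ne_zero hτ0 (hu 5).2.1
  have esi : L si = v 8 := by rw [hsi, X.smul (hu 5).1 (hu 5).2.1 hτ0, (hu 5).2.2]; rfl
  set H' := τ • u 4 + (1 + τ) • uc with hH'
  have g : ∀ k l, h (u k) (u l) = if path6 k l then (1 : F) else 0 := hg
  have hh0 : h H' H' = 0 := by
    simp [hH', huc, h_add_left, h_add_right, h_smul_left, h_smul_right, g, path6]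
  have hU'' : Gram path6 ![u 0, u 1, u 2, u 3, H', si] := by
    have e1 : h H' (u 0) = 0 := by simp [hH', huc, h_add_left, h_smul_left, g, path6]
    have e2 : h H' (u 1) = 0 := by simp [hH', huc, h_add_left, h_smul_left, g, path6, add_self]
    have e3 : h H' (u 2) = 0 := by simp [hH', huc, h_add_left, h_smul_left, g, path6]
    have e4 : h H' (u 3) = 1 := by
      simp [hH', huc, h_add_left, h_smul_left, g, path6]
      linear_combination τ * two_eq_zero (F := F)
    have e5 : h H' si = 1 := by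
      have := cube hτ0
      simp [hH', huc, hsi, h_add_left, h_smul_left, h_smul_right, g, path6]
      linear_combination this
    intro k l
    fin_cases k <;> fin_cases l <;>
      simp [path6, g, e1, e2, e3, e4, e5, hh0, si0, h_comm_zero e1, h_comm_zero e2, h_comm_zero e3,
        h_comm_one e4, h_comm_one e5] <;> simp [hsi, h_smul_left, h_smul_right, g, path6]
  have hh1 : H' ≠ 0 := fun e => one_ne_zero (α := F) (by
    have h5 : h (![u 0, u 1, u 2, u 3, H', si] 4) (![u 0, u 1, u 2, u 3, H', si] 5) =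
        if path6 4 5 then (1 : F) else 0 := hU'' 4 5
    simp [path6, e, h_zero_left] at h5)
  set nh := L H' with hnh
  have hnm : nh ∈ near (near D a) z := X.mem hh0 hh1
  have hnz : nh ∈ near D z := ⟨hnm.1.1, hnm.2.1, hnm.2.2⟩
  have hnu : ∀ k : Fin 6, k ≠ 4 → (Commute nh (![v 6, v 5, v 4, v 3, v 7, v 8] k) ↔ k.1 < 3) := by
    intro k hk
    have hc : ∀ x : Fin 6 → F, h x x = 0 → x ≠ 0 → (Commute nh (L x) ↔ h H' x = 0) := fun x x0 x1 =>
      X.comm hh0 hh1 x0 x1
    have G' : ∀ k l, h (![u 0, u 1, u 2, u 3, H', si] k) (![u 0, u 1, u 2, u 3, H', si] l) =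
        if path6 k l then (1 : F) else 0 := hU''
    fin_cases k
    all_goals first | exact absurd rfl hk | skip
    · have := G' 4 0; simp [path6] at this
      simpa [← (hu 0).2.2, hc _ (hu 0).1 (hu 0).2.1] using this
    · have := G' 4 1; simp [path6] at this
      simpa [← (hu 1).2.2, hc _ (hu 1).1 (hu 1).2.1] using this
    · have := G' 4 2; simp [path6] at this
      simpa [← (hu 2).2.2, hc _ (hu 2).1 (hu 2).2.1] using this
    · have := G' 4 3; simp [path6] at this
      simpa [← (hu 3).2.2, hc _ (hu 3).1 (hu 3).2.1] using (by rw [this]; exact one_ne_zero : h H' (u 3) ≠ 0)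
    · have := G' 4 5; simp [path6] at this
      simpa [← esi, hc _ si0 si1] using (by rw [this]; exact one_ne_zero : h H' si ≠ 0)
  -- the pair `a`, `b` in the world of `z`
  have P2 : Pair (near D z) F (v 1) a := ⟨hW z hz, hv 1 (by norm_num), haz, hab⟩
  have Y2 : Pts (near D z) a L := pts_swap X
  have rep2 : ∀ {x : Fin 6 → F} {k : ℕ}, h x x = 0 → x ≠ 0 → L x = v k → k < 9 → k ≠ 1 →
      adjN 1 k = false → Rep (near D z) (v 1) L x := fun x0 x1 e hk h1 ha' =>
    ⟨x0, x1, by rw [e]; exact ⟨hv _ hk, P.ne hk (by norm_num) h1, P.comm 1 (by norm_num) _ hk ha'⟩⟩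
  have rH := path_fifth P2 Y2 hU''
    (fun k hk => by
      fin_cases k
      exacts [rep2 (hu 0).1 (hu 0).2.1 (hu 0).2.2 (by norm_num) (by decide) rfl,
        rep2 (hu 1).1 (hu 1).2.1 (hu 1).2.2 (by norm_num) (by decide) rfl,
        rep2 (hu 2).1 (hu 2).2.1 (hu 2).2.2 (by norm_num) (by decide) rfl,
        rep2 (hu 3).1 (hu 3).2.1 (hu 3).2.2 (by norm_num) (by decide) rfl, absurd rfl hk,
        rep2 si0 si1 esi (by norm_num) (by decide) rfl])
    (fun hR => by
      have e : (![u 0, u 1, u 2, u 3, H', si] 1 + ![u 0, u 1, u 2, u 3, H', si] 3 +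
          ![u 0, u 1, u 2, u 3, H', si] 5) = ur := eur.symm
      rw [e] at hR
      have h2 := hR.2.2
      rw [eLr] at h2
      exact hrnb ⟨⟨h2.1.1, hrn.2.1, hrn.2.2⟩, h2.2.1, h2.2.2⟩)
  have hnb : Commute (v 1) nh := rH.2.2.2.2
  -- the pair `z`, `j` in the world of `a`
  have hjz' : ¬ Commute j z := hjz
  have P3 : Pair (near D a) F j z := ⟨hW a haz.1, hjn.1, hza, hjz'⟩
  have hrep : ∀ {x : Fin 6 → F}, h x x = 0 → x ≠ 0 → Commute j (L x) → Rep (near D a) j L x :=
    fun x0 x1 hc => ⟨x0, x1, (X.mem x0 x1).1, fun e => hjz (e ▸ (X.mem x0 x1).2.2.symm), hc⟩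
  set T : Fin 6 → Fin 6 → F := ![uc, u 3, u 2, u 1, H', si] with hT
  have gT : Gram tree6 T := by
    have G' : ∀ k l, h (![u 0, u 1, u 2, u 3, H', si] k) (![u 0, u 1, u 2, u 3, H', si] l) =
        if path6 k l then (1 : F) else 0 := hU''
    have a1 : h H' (u 0) = 0 := by simpa [path6] using G' 4 0
    have a2 : h H' (u 1) = 0 := by simpa [path6] using G' 4 1
    have a3 : h H' (u 2) = 0 := by simpa [path6] using G' 4 2
    have a4 : h H' (u 3) = 1 := by simpa [path6] using G' 4 3
    have a5 : h H' si = 1 := by simpa [path6] using G' 4 5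
    intro k l
    fin_cases k <;> fin_cases l <;>
      simp [hT, tree6, huc, h_add_left, h_add_right, g, path6, a1, a2, a3, a4, a5, h_comm_zero a1,
        h_comm_zero a2, h_comm_zero a3, h_comm_one a4, h_comm_one a5, hh0, si0, add_self] <;>
      simp [hsi, h_smul_left, h_smul_right, g, path6]
  have rN := tree_fifth P3 X gT
    (fun k hk => by
      fin_cases k
      exacts [hrep uc0' uc1 (show Commute j (L uc) by rw [eLc]; exact (hjq 0).mpr (by decide)),
        hrep (hu 3).1 (hu 3).2.1 (show Commute j (L (u 3)) by rw [(hu 3).2.2]; exact (hjq 1).mpr (by decide)),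
        hrep (hu 2).1 (hu 2).2.1 (show Commute j (L (u 2)) by rw [(hu 2).2.2]; exact (hjq 2).mpr (by decide)),
        hrep (hu 1).1 (hu 1).2.1 (show Commute j (L (u 1)) by rw [(hu 1).2.2]; exact (hjq 3).mpr (by decide)),
        absurd rfl hk, hrep si0 si1 (show Commute j (L si) by rw [esi]; exact hji)])
    (by
      have e : T 5 + T 1 + T 3 = ur := by
        show si + u 3 + u 1 = ur
        rw [eur]; abel
      rw [e]
      exact hrep ur0' urne (by rw [eLr]; exact hrj.symm))
  have hjn' : Commute j nh := rN.2.2.2.2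
  have hna' : Commute a nh := hnm.1.2.2
  have hnc : Commute nh (v 2) := by
    rw [← eLc, hnh, X.comm hh0 hh1 uc0' uc1]
    have G' : ∀ k l, h (![u 0, u 1, u 2, u 3, H', si] k) (![u 0, u 1, u 2, u 3, H', si] l) =
        if path6 k l then (1 : F) else 0 := hU''
    have a1 : h H' (u 0) = 0 := by simpa [path6] using G' 4 0
    have a3 : h H' (u 2) = 0 := by simpa [path6] using G' 4 2
    rw [huc, h_add_right, a1, a3, add_zero]
  have hiff : ∀ i < 9, i ≠ 7 → (Commute nh (v i) ↔ adjN 7 i = false) := by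
    intro i hi h7
    interval_cases i
    · exact iff_of_true hna'.symm rfl
    · exact iff_of_true hnb.symm rfl
    · exact iff_of_true hnc rfl
    · exact iff_of_false (fun e => absurd ((hnu 3 (by decide)).mp e) (by decide)) (by decide)
    · exact iff_of_true ((hnu 2 (by decide)).mpr (by decide)) rfl
    · exact iff_of_true ((hnu 1 (by decide)).mpr (by decide)) rfl
    · exact iff_of_true ((hnu 0 (by decide)).mpr (by decide)) rfl
    · exact absurd rfl h7
    · exact iff_of_false (fun e => absurd ((hnu 5 (by decide)).mp e) (by decide)) (by decide)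
  have hsym : ∀ i < 9, ∀ k < 9, adjN i k = adjN k i := by decide
  have hd7 : ∀ i < 9, i ≠ 7 → Function.update v 7 nh i = v i := fun i _ h7 => Function.update_of_ne h7 _ _
  refine ⟨j, Function.update v 7 nh, ⟨fun i hi => ?_, fun i hi k hk e => ?_, fun i hi k hk e => ?_⟩,
    hjD, fun e => hjz e.symm, fun i hi h6 => ?_, fun e => ((hjq 4).mp ?_) rfl⟩
  · by_cases h7 : i = 7
    · subst h7; rw [Function.update_self]; exact hnz
    · rw [hd7 i hi h7]; exact hv i hi
  · by_cases h7 : i = 7 <;> by_cases k7 : k = 7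
    · subst h7; subst k7; exact Commute.refl _
    · subst h7; rw [Function.update_self, hd7 k hk k7]; exact (hiff k hk k7).mpr e
    · subst k7; rw [Function.update_self, hd7 i hi h7]
      exact ((hiff i hi h7).mpr (hsym i hi 7 hk ▸ e)).symm
    · rw [hd7 i hi h7, hd7 k hk k7]; exact P.comm i hi k hk e
  · intro hc
    by_cases h7 : i = 7 <;> by_cases k7 : k = 7
    · subst h7; subst k7; exact absurd e (by decide)
    · subst h7; rw [Function.update_self, hd7 k hk k7] at hc
      rw [(hiff k hk k7).mp hc] at e; exact Bool.noConfusion e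
    · subst k7; rw [Function.update_self, hd7 i hi h7] at hc
      rw [hsym i hi 7 hk, (hiff i hi h7).mp hc.symm] at e; exact Bool.noConfusion e
    · rw [hd7 i hi h7, hd7 k hk k7] at hc; exact P.nc i hi k hk e hc
  · by_cases h7 : i = 7
    · subst h7; rw [Function.update_self]; exact hjn'
    rw [hd7 i hi h7]
    interval_cases i
    · exact hja
    · exact hjb.symm
    · exact (hjq 0).mpr (by decide)
    · exact (hjq 1).mpr (by decide)
    · exact (hjq 2).mpr (by decide)
    · exact (hjq 3).mpr (by decide)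
    · exact absurd rfl h6
    · exact absurd rfl h7
    · exact hji
  · rwa [hd7 6 (by norm_num) (by decide)] at e

end Cfsg.Agent.Fi23Config79
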