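import Mathlib
import Cfsg.Prelude.Def_FischerSpaces

/-!
Reflections of a quadratic space over the field with three elements: action of the reflection matrix,
conjugation, braid relation, existence of anisotropic orthogonal vectors and of vectors of given norm.
-/

set_option autoImplicit false

namespace Cfsg.Agent.ReflectionThree

open Matrix

variable {n : ℕ} (Q : QuadraticForm (ZMod 3) (Fin n → ZMod 3))

local notation "V" => Fin n → ZMod 3

theorem sum_polarVec (v x : V) :
    Cfsg.polarVec (⇑Q) v ⬝ᵥ x = QuadraticMap.polar (⇑Q) v x := by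
  calc Cfsg.polarVec (⇑Q) v ⬝ᵥ x
      = ∑ j, x j * QuadraticMap.polarBilin Q v (Pi.single j 1) := by
        simp [dotProduct, Cfsg.polarVec, mul_comm]
    _ = QuadraticMap.polarBilin Q v (∑ j, x j • Pi.single j (1 : ZMod 3)) := by
        simp [map_sum]
    _ = _ := by
        rw [← pi_eq_sum_univ' x]
        rfl

theorem mulVec_reflection (v x : V) :
    Cfsg.reflectionMatrix (⇑Q) v *ᵥ x = x - ((Q v)⁻¹ * QuadraticMap.polar (⇑Q) v x) • v := by
  rw [Cfsg.reflectionMatrix, sub_mulVec, one_mulVec, smul_mulVec, vecMulVec_mulVec, sum_polarVec]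
  funext i
  simp [mul_comm, mul_left_comm]

theorem polar_self (v : V) : QuadraticMap.polar (⇑Q) v v = 2 * Q v := by
  rw [QuadraticMap.polar_self]
  simp

theorem polar_comm (v w : V) : QuadraticMap.polar (⇑Q) v w = QuadraticMap.polar (⇑Q) w v :=
  QuadraticMap.polar_comm (⇑Q) v w

theorem inv_eq_self' : ∀ a : ZMod 3, a⁻¹ = a := by decide +kernel

theorem map_sub_smul (v x : V) (k : ZMod 3) :
    Q (x - k • v) = Q x + k * k * Q v - k * QuadraticMap.polar (⇑Q) v x := by
  rw [sub_eq_add_neg, ← neg_smul, QuadraticMap.map_add ⇑Q, QuadraticMap.map_smul,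
    QuadraticMap.polar_smul_right, polar_comm Q x v, smul_eq_mul, smul_eq_mul]
  ring

theorem Q_reflection {v : V} (hv : Q v ≠ 0) (x : V) :
    Q (Cfsg.reflectionMatrix (⇑Q) v *ᵥ x) = Q x := by
  rw [mulVec_reflection, map_sub_smul, inv_eq_self']
  generalize Q v = a at hv
  generalize QuadraticMap.polar (⇑Q) v x = b
  generalize Q x = d
  revert hv a b d
  decide

theorem reflection_sq {v : V} (hv : Q v ≠ 0) :
    Cfsg.reflectionMatrix (⇑Q) v * Cfsg.reflectionMatrix (⇑Q) v = 1 := by
  refine ext_of_mulVec_single fun i => ?_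
  generalize (Pi.single i 1 : Fin n → ZMod 3) = x
  rw [← mulVec_mulVec, one_mulVec, mulVec_reflection Q v x, mulVec_sub, mulVec_smul,
    mulVec_reflection, mulVec_reflection, polar_self]
  funext j
  simp only [Pi.sub_apply, Pi.smul_apply, smul_eq_mul, inv_eq_self']
  generalize Q v = a at hv
  generalize QuadraticMap.polar (⇑Q) v x = b
  generalize x j = d
  generalize v j = e
  revert hv a b d e
  decide

theorem reflection_self {v : V} (hv : Q v ≠ 0) : Cfsg.reflectionMatrix (⇑Q) v *ᵥ v = -v := by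
  rw [mulVec_reflection, polar_self]
  funext j
  simp only [Pi.sub_apply, Pi.smul_apply, smul_eq_mul, Pi.neg_apply, inv_eq_self']
  generalize Q v = a at hv
  generalize v j = e
  revert hv a e
  decide

theorem reflection_neg (v : V) :
    Cfsg.reflectionMatrix (⇑Q) (-v) = Cfsg.reflectionMatrix (⇑Q) v := by
  refine ext_of_mulVec_single fun i => ?_
  rw [mulVec_reflection, mulVec_reflection, QuadraticMap.map_neg, QuadraticMap.polar_neg_left]
  simp

theorem ne_zero_of_norm {v : V} (hv : Q v ≠ 0) : v ≠ 0 := by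
  rintro rfl
  exact hv (QuadraticMap.map_zero Q)

/-- Conjugation by a linear isometry. -/
theorem mul_reflection {M : Matrix (Fin n) (Fin n) (ZMod 3)} (hM : ∀ x : V, Q (M *ᵥ x) = Q x)
    (v : V) : M * Cfsg.reflectionMatrix (⇑Q) v = Cfsg.reflectionMatrix (⇑Q) (M *ᵥ v) * M := by
  refine ext_of_mulVec_single fun i => ?_
  generalize (Pi.single i 1 : Fin n → ZMod 3) = x
  have hp : QuadraticMap.polar (⇑Q) (M *ᵥ v) (M *ᵥ x) = QuadraticMap.polar (⇑Q) v x := by
    simp only [QuadraticMap.polar, ← mulVec_add, hM]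
  rw [← mulVec_mulVec, ← mulVec_mulVec, mulVec_reflection, mulVec_reflection, mulVec_sub,
    mulVec_smul, hM, hp]

theorem reflection_conj {u : V} (hu : Q u ≠ 0) (v : V) :
    Cfsg.reflectionMatrix (⇑Q) u * Cfsg.reflectionMatrix (⇑Q) v * Cfsg.reflectionMatrix (⇑Q) u =
      Cfsg.reflectionMatrix (⇑Q) (Cfsg.reflectionMatrix (⇑Q) u *ᵥ v) := by
  rw [mul_reflection Q (Q_reflection Q hu), mul_assoc, reflection_sq Q hu, mul_one]

theorem conj_vec {u v : V} (huv : Q u = Q v) (hu : Q u ≠ 0)
    (hk : QuadraticMap.polar (⇑Q) u v ≠ 0) :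
    Cfsg.reflectionMatrix (⇑Q) u *ᵥ v = Cfsg.reflectionMatrix (⇑Q) v *ᵥ u ∨
      Cfsg.reflectionMatrix (⇑Q) u *ᵥ v = -(Cfsg.reflectionMatrix (⇑Q) v *ᵥ u) := by
  rw [mulVec_reflection, mulVec_reflection, polar_comm Q v u, ← huv]
  have hz : ∀ k : ZMod 3, k ≠ 0 → k = 1 ∨ k = -1 := by decide
  rcases hz _ (mul_ne_zero (inv_ne_zero hu) hk) with h | h <;> rw [h]
  · right; simp
  · left; simp [add_comm]

theorem braid {u v : V} (huv : Q u = Q v) (hu : Q u ≠ 0)
    (hk : QuadraticMap.polar (⇑Q) u v ≠ 0) :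
    (Cfsg.reflectionMatrix (⇑Q) u * Cfsg.reflectionMatrix (⇑Q) v) ^ 3 = 1 := by
  have hv : Q v ≠ 0 := huv ▸ hu
  have h : Cfsg.reflectionMatrix (⇑Q) u * Cfsg.reflectionMatrix (⇑Q) v *
      Cfsg.reflectionMatrix (⇑Q) u = Cfsg.reflectionMatrix (⇑Q) v *
        Cfsg.reflectionMatrix (⇑Q) u * Cfsg.reflectionMatrix (⇑Q) v := by
    rw [reflection_conj Q hu, reflection_conj Q hv]
    rcases conj_vec Q huv hu hk with h | h <;> rw [h]
    rw [reflection_neg]
  calc (Cfsg.reflectionMatrix (⇑Q) u * Cfsg.reflectionMatrix (⇑Q) v) ^ 3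
      = Cfsg.reflectionMatrix (⇑Q) u * Cfsg.reflectionMatrix (⇑Q) v *
          Cfsg.reflectionMatrix (⇑Q) u * (Cfsg.reflectionMatrix (⇑Q) v *
            Cfsg.reflectionMatrix (⇑Q) u * Cfsg.reflectionMatrix (⇑Q) v) := by
        rw [pow_succ, pow_two]; simp only [mul_assoc]
    _ = Cfsg.reflectionMatrix (⇑Q) u * Cfsg.reflectionMatrix (⇑Q) v *
          (Cfsg.reflectionMatrix (⇑Q) u * Cfsg.reflectionMatrix (⇑Q) u) *
            Cfsg.reflectionMatrix (⇑Q) v * Cfsg.reflectionMatrix (⇑Q) u := by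
        rw [← h]; simp only [mul_assoc]
    _ = 1 := by
        rw [reflection_sq Q hu, mul_one, mul_assoc _ (Cfsg.reflectionMatrix (⇑Q) v)
          (Cfsg.reflectionMatrix (⇑Q) v), reflection_sq Q hv, mul_one, reflection_sq Q hu]

theorem commute_iff {u v : V} (huv : Q u = Q v) (hu : Q u ≠ 0) (h1 : v ≠ u) (h2 : v ≠ -u) :
    Commute (Cfsg.reflectionMatrix (⇑Q) u) (Cfsg.reflectionMatrix (⇑Q) v) ↔
      QuadraticMap.polar (⇑Q) u v = 0 := by
  have hv : Q v ≠ 0 := huv ▸ hu
  constructor
  · intro hc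
    have h := reflection_conj Q hu v
    rw [hc.eq, mul_assoc, reflection_sq Q hu, mul_one] at h
    -- the reflection in v and in the image of v agree, so v is mapped to a multiple of itself
    have h3 := congrArg (fun M => M *ᵥ v) h
    beta_reduce at h3
    rw [reflection_self Q hv] at h3
    by_contra hk
    set w := Cfsg.reflectionMatrix (⇑Q) u *ᵥ v with hw
    rw [mulVec_reflection, hw, mulVec_reflection] at h3
    have hz : ∀ k : ZMod 3, k ≠ 0 → k = 1 ∨ k = -1 := by decide
    generalize hl : (Q (v - ((Q u)⁻¹ * QuadraticMap.polar (⇑Q) u v) • u))⁻¹ *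
      QuadraticMap.polar (⇑Q) (v - ((Q u)⁻¹ * QuadraticMap.polar (⇑Q) u v) • u) v = l at h3
    generalize hkk : (Q u)⁻¹ * QuadraticMap.polar (⇑Q) u v = k at h3
    have hk0 : k ≠ 0 := hkk ▸ mul_ne_zero (inv_ne_zero hu) hk
    have hu0 := ne_zero_of_norm Q hu
    have hv0 := ne_zero_of_norm Q hv
    rcases hz k hk0 with rfl | rfl <;>
      rcases (show ∀ l : ZMod 3, l = 0 ∨ l = 1 ∨ l = -1 by decide) l with rfl | rfl | rfl
    all_goals first
      | (apply hv0; funext j; have e := congrFun h3 j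
         simp only [Pi.sub_apply, Pi.smul_apply, smul_eq_mul, Pi.neg_apply, Pi.zero_apply] at e ⊢
         revert e; generalize v j = x; generalize u j = y; revert x y; decide)
      | (apply hu0; funext j; have e := congrFun h3 j
         simp only [Pi.sub_apply, Pi.smul_apply, smul_eq_mul, Pi.neg_apply, Pi.zero_apply] at e ⊢
         revert e; generalize v j = x; generalize u j = y; revert x y; decide)
      | (apply h1; funext j; have e := congrFun h3 j
         simp only [Pi.sub_apply, Pi.smul_apply, smul_eq_mul, Pi.neg_apply] at e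
         revert e; generalize v j = x; generalize u j = y; revert x y; decide)
      | (apply h2; funext j; have e := congrFun h3 j
         simp only [Pi.sub_apply, Pi.smul_apply, smul_eq_mul, Pi.neg_apply] at e ⊢
         revert e; generalize v j = x; generalize u j = y; revert x y; decide)
  · intro hk
    have h := mul_reflection Q (Q_reflection Q hu) v
    rw [mulVec_reflection, hk, mul_zero, zero_smul, sub_zero] at h
    exact h

/-- An anisotropic vector orthogonal to fewer than `n` pairwise orthogonal anisotropic vectors. -/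
theorem exists_orth (hQ : (QuadraticMap.polarBilin Q).Nondegenerate) {k : ℕ} (w : Fin k → V)
    (hk : k < n) (hw : ∀ i, Q (w i) ≠ 0)
    (horth : ∀ i j, i ≠ j → QuadraticMap.polar (⇑Q) (w i) (w j) = 0) :
    ∃ a : V, Q a ≠ 0 ∧ ∀ i, QuadraticMap.polar (⇑Q) (w i) a = 0 := by
  by_contra hno
  push Not at hno
  have hiso : ∀ a : V, (∀ i, QuadraticMap.polar (⇑Q) (w i) a = 0) → Q a = 0 := by
    intro a ha
    by_contra h
    obtain ⟨i, hi⟩ := hno a h
    exact hi (ha i)
  let L : V →ₗ[ZMod 3] (Fin k → ZMod 3) := LinearMap.pi fun i => QuadraticMap.polarBilin Q (w i)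
  obtain ⟨x, hx, hx0⟩ : ∃ x ∈ L.ker, x ≠ 0 := by
    refine Submodule.exists_mem_ne_zero_of_ne_bot fun h => ?_
    have hle := LinearMap.finrank_le_finrank_of_injective (LinearMap.ker_eq_bot.mp h)
    rw [Module.finrank_fin_fun, Module.finrank_fin_fun] at hle
    omega
  have hxw : ∀ i, QuadraticMap.polar (⇑Q) (w i) x = 0 := fun i => congrFun hx i
  apply hx0
  refine hQ.1 x fun y => ?_
  set y' := y - ∑ i, ((2 * Q (w i))⁻¹ * QuadraticMap.polar (⇑Q) (w i) y) • w i with hy'
  have hyperp : ∀ i, QuadraticMap.polar (⇑Q) (w i) y' = 0 := by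
    intro i
    show QuadraticMap.polarBilin Q (w i) y' = 0
    rw [hy', map_sub, map_sum, Finset.sum_eq_single i]
    · rw [map_smul]
      show QuadraticMap.polar (⇑Q) (w i) y -
        ((2 * Q (w i))⁻¹ * QuadraticMap.polar (⇑Q) (w i) y) • QuadraticMap.polar (⇑Q) (w i) (w i) = 0
      rw [polar_self, smul_eq_mul, inv_eq_self']
      have := hw i
      generalize Q (w i) = a at this
      generalize QuadraticMap.polar (⇑Q) (w i) y = b
      revert this a b
      decide
    · intro j _ hj
      rw [map_smul]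
      show _ • QuadraticMap.polar (⇑Q) (w i) (w j) = 0
      rw [horth i j hj.symm, smul_zero]
    · simp
  have hsum : ∀ i, QuadraticMap.polar (⇑Q) (w i) (x + y') = 0 := fun i => by
    rw [QuadraticMap.polar_add_right, hxw, hyperp, add_zero]
  have hxy' : QuadraticMap.polarBilin Q x y' = 0 := by
    show QuadraticMap.polar (⇑Q) x y' = 0
    rw [QuadraticMap.polar, hiso _ hsum, hiso _ hxw, hiso _ hyperp]
    simp
  have hsumzero : QuadraticMap.polarBilin Q x (∑ i,
      ((2 * Q (w i))⁻¹ * QuadraticMap.polar (⇑Q) (w i) y) • w i) = 0 := by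
    rw [map_sum]
    refine Finset.sum_eq_zero fun i _ => ?_
    rw [map_smul]
    show _ • QuadraticMap.polar (⇑Q) x (w i) = 0
    rw [polar_comm Q x (w i), hxw, smul_zero]
  have : y = y' + ∑ i, ((2 * Q (w i))⁻¹ * QuadraticMap.polar (⇑Q) (w i) y) • w i := by
    rw [hy', sub_add_cancel]
  rw [this, map_add, hxy', hsumzero, add_zero]

/-- A vector of prescribed non-zero norm orthogonal to at most `n - 2` orthogonal anisotropic vectors. -/
theorem exists_norm (hQ : (QuadraticMap.polarBilin Q).Nondegenerate) {k : ℕ} (w : Fin k → V)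
    (hk : k + 1 < n) (hw : ∀ i, Q (w i) ≠ 0)
    (horth : ∀ i j, i ≠ j → QuadraticMap.polar (⇑Q) (w i) (w j) = 0) {c : ZMod 3} (hc : c ≠ 0) :
    ∃ z : V, Q z = c ∧ ∀ i, QuadraticMap.polar (⇑Q) (w i) z = 0 := by
  obtain ⟨a, ha, haw⟩ := exists_orth Q hQ w (by omega) hw horth
  obtain ⟨b, hb, hbw⟩ := exists_orth Q hQ (Fin.snoc w a) hk
    (Fin.lastCases (by simpa using ha) (fun i => by simpa using hw i))
    (by
      intro i j hij
      induction i using Fin.lastCases <;> induction j using Fin.lastCases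
      · exact absurd rfl hij
      · simp only [Fin.snoc_last, Fin.snoc_castSucc]; rw [polar_comm]; exact haw _
      · simp only [Fin.snoc_last, Fin.snoc_castSucc]; exact haw _
      · simp only [Fin.snoc_castSucc]; exact horth _ _ (fun e => hij (by rw [e])))
  have hbw' : ∀ i, QuadraticMap.polar (⇑Q) (w i) b = 0 := fun i => by
    simpa using hbw (Fin.castSucc i)
  have hab : QuadraticMap.polar (⇑Q) a b = 0 := by simpa using hbw (Fin.last k)
  by_cases h1 : Q a = c
  · exact ⟨a, h1, haw⟩
  by_cases h2 : Q b = c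
  · exact ⟨b, h2, hbw'⟩
  refine ⟨a + b, ?_, fun i => ?_⟩
  · rw [QuadraticMap.map_add ⇑Q, hab, add_zero]
    revert ha hb h1 h2 hc
    generalize Q a = x
    generalize Q b = y
    revert c x y
    decide
  · rw [QuadraticMap.polar_add_right, haw, hbw', add_zero]

end Cfsg.Agent.ReflectionThree
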