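import Cfsg.Agent.Lib.ReflectionThreeGroup
import Cfsg.Agent.Lib.ReflectionThree
import Cfsg.Agent.Lib.QuadClassify
import Cfsg.Agent.Lib.OrthUnitaryPrelude
import Cfsg.Agent.Lib.OrthUnitaryStd
import Cfsg.Prelude.Def_FischerSpaces

/-!
# The projective reflection group in dimension seven over the field with three elements

When the discriminant is the negative of the norm of the generating reflections, the reflection group
contains minus the identity, so modulo its centre it is the commutator subgroup `Ω(7, 3)`, a simple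
group.
-/

set_option autoImplicit false
set_option linter.unusedSectionVars false

namespace Cfsg.Agent.ReflectionOddSeven92

open QuadraticMap Subgroup
open Cfsg.Agent.OrthUnitaryQuad Cfsg.Agent.OrthUnitaryRefl Cfsg.Agent.OrthUnitaryOmega
open Cfsg.Agent.OrthUnitarySimple Cfsg.Agent.OrthUnitaryCentre Cfsg.Agent.ReflectionThreeGroup

local notation "K" => ZMod 3
local notation "V" => Fin 7 → ZMod 3

variable {Q : QuadraticForm K V}

theorem eq_neg_of_ne3 : ∀ a d : K, a ≠ 0 → d ≠ 0 → a ≠ d → a = -d := by decide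

theorem eq_of_ne3 (a b d : K) (ha : a ≠ 0) (hb : b ≠ 0) (hd : d ≠ 0) (h1 : a ≠ d) (h2 : b ≠ d) :
    a = b := (eq_neg_of_ne3 a d ha hd h1).trans (eq_neg_of_ne3 b d hb hd h2).symm

theorem odd_case3 : ∀ d : K, d ≠ 0 → -d ≠ (-d) ^ 7 * -1 := by decide

theorem negOne_comm (g : orth Q) : g * negOne Q = negOne Q * g :=
  orth_ext fun x => map_neg g.1 x

theorem negOne_inv : (negOne Q)⁻¹ = negOne Q :=
  inv_eq_of_mul_eq_one_right (orth_ext fun x => neg_neg x)

/-- An orthogonal basis of non-singular vectors. -/
theorem exists_ortho (hQ : (polarBilin Q).Nondegenerate) :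
    ∃ w : Fin 7 → V, (∀ i, Q (w i) ≠ 0) ∧ ∀ i j, i ≠ j → polar Q (w i) (w j) = 0 := by
  suffices h : ∀ k ≤ 7, ∃ w : Fin k → V, (∀ i, Q (w i) ≠ 0) ∧
      ∀ i j, i ≠ j → polar Q (w i) (w j) = 0 from h 7 le_rfl
  intro k hk
  induction k with
  | zero => exact ⟨Fin.elim0, fun i => i.elim0, fun i => i.elim0⟩
  | succ k ih =>
    obtain ⟨w, h1, h2⟩ := ih (by omega)
    obtain ⟨a, ha, ha'⟩ := ReflectionThree.exists_orth Q hQ w (by omega) h1 h2
    refine ⟨Fin.snoc (α := fun _ => V) w a, fun i => ?_, fun i j hij => ?_⟩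
    · cases i using Fin.lastCases with
      | last => simpa using ha
      | cast i => simpa using h1 i
    · cases i using Fin.lastCases with
      | last =>
        cases j using Fin.lastCases with
        | last => exact absurd rfl hij
        | cast j => simpa [polar_comm (⇑Q) a] using ha' j
      | cast i =>
        cases j using Fin.lastCases with
        | last => simpa using ha' i
        | cast j => simpa using h2 i j (fun h => hij (by rw [h]))

theorem negOne_mem (hQ : (polarBilin Q).Nondegenerate) {c : K} (hc : c ≠ 0)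
    (hdisc : Cfsg.polarGramDet (⇑Q) = -c) : negOne Q ∈ tGroup Q c := by
  classical
  obtain ⟨w, hw, horth⟩ := exists_ortho hQ
  have hli : LinearIndependent K w := by
    rw [Fintype.linearIndependent_iff]
    intro g hg j
    have h1 := congrArg (polarBilin Q (w j)) hg
    rw [map_sum, map_zero, Finset.sum_eq_single j (fun i _ hij => by
        rw [map_smul, polarBilin_apply_apply, horth j i (Ne.symm hij), smul_zero]) (by simp),
      map_smul, polarBilin_apply_apply, polar_self, smul_eq_mul] at h1
    rw [nsmul_eq_mul] at h1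
    exact (mul_eq_zero.mp h1).resolve_right (mul_ne_zero (by decide) (hw j))
  let b := basisOfLinearIndependentOfCardEqFinrank hli (by simp)
  have hb : ⇑b = w := coe_basisOfLinearIndependentOfCardEqFinrank hli _
  -- the discriminant counts the vectors of the other norm
  have hg := QuadClassify.gram_change Q (Pi.basisFun K (Fin 7)) b
  have e1 : (QuadClassify.gram Q ⇑(Pi.basisFun K (Fin 7))).det = Cfsg.polarGramDet (⇑Q) := by
    simp [QuadClassify.gram, Cfsg.polarGramDet]
  have e2 : QuadClassify.gram Q ⇑b = Matrix.diagonal fun i => -Q (w i) := by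
    ext i j
    rw [QuadClassify.gram_apply, hb]
    by_cases h : i = j
    · subst h
      rw [Matrix.diagonal_apply_eq, polar_self, nsmul_eq_mul]
      exact (by decide : ∀ x : K, ((2 : ℕ) : K) * x = -x) _
    · rw [Matrix.diagonal_apply_ne _ h, horth i j h]
  have hdet : ((Pi.basisFun K (Fin 7)).toMatrix ⇑b).det ≠ 0 := by
    intro h0
    rw [e1, e2, h0, zero_mul, zero_mul, Matrix.det_diagonal] at hg
    exact Finset.prod_ne_zero_iff.mpr (fun i _ => neg_ne_zero.mpr (hw i)) hg
  rw [e1, e2, Matrix.det_diagonal, hdisc] at hg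
  have hsq : ∀ x : K, x ≠ 0 → x * x = 1 := by decide
  rw [hsq _ hdet, one_mul] at hg
  -- the reflection group has index two
  haveI hN : (tGroup Q c).Normal :=
    normal_of_index_eq_two (index_tGroup hQ (by norm_num) hc)
  let χ := QuotientGroup.mk' (tGroup Q c)
  haveI : Fact (Nat.Prime 2) := ⟨Nat.prime_two⟩
  have hq2 : Nat.card (orth Q ⧸ tGroup Q c) = 2 := index_tGroup hQ (by norm_num) hc
  have hsqr : ∀ x : orth Q ⧸ tGroup Q c, x * x = 1 := fun x => by
    haveI : Finite (orth Q) := finite_orth Q
    rw [← pow_two, ← hq2]; exact pow_card_eq_one'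
  have hsame : ∀ i, Q (w i) = c → χ (refl Q (w i) (hw i)) = 1 := fun i h =>
    (QuotientGroup.eq_one_iff _).mpr (refl_mem_tGroup (hw i) h)
  obtain ⟨x, hother⟩ : ∃ x : orth Q ⧸ tGroup Q c, ∀ i, Q (w i) ≠ c →
      χ (refl Q (w i) (hw i)) = x := by
    by_cases h : ∃ i, Q (w i) ≠ c
    · obtain ⟨i₀, hi₀⟩ := h
      refine ⟨χ (refl Q (w i₀) (hw i₀)), fun i hi => ?_⟩
      have heq : Q (w i) = Q (w i₀) :=
        eq_of_ne3 _ _ _ (hw i) (hw i₀) hc hi hi₀
      have := (QuotientGroup.eq_one_iff _).mpr
        (sGroup_le_tGroup hQ (by norm_num) hc (refl_mul_mem hQ (by norm_num) (hw i) (hw i₀) heq))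
      change χ (refl Q (w i) (hw i) * refl Q (w i₀) (hw i₀)) = 1 at this
      rw [map_mul, mul_eq_one_iff_eq_inv] at this
      rw [this, inv_eq_iff_mul_eq_one]
      exact hsqr _
    · exact ⟨1, fun i hi => absurd ⟨i, hi⟩ h⟩
  -- minus one is the product of the seven reflections
  have hfix : ∀ i j, (refl Q (w i) (hw i)).1 (w j) = if i = j then -w j else w j := by
    intro i j
    rw [refl_apply]
    by_cases h : i = j
    · subst h
      rw [if_pos rfl, polar_self, nsmul_eq_mul, mul_left_comm, inv_mul_cancel₀ (hw i), mul_one,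
        show ((2 : ℕ) : K) = -1 by decide, neg_smul, one_smul, sub_neg_eq_add]
      funext k
      simp only [Pi.add_apply, Pi.neg_apply]
      exact (by decide : ∀ x : K, x + x = -x) _
    · rw [if_neg h, horth i j h, mul_zero, zero_smul, sub_zero]
  let l : List (Fin 7) := List.finRange 7
  have hprod : ∀ (l : List (Fin 7)), l.Nodup → ∀ j,
      ((l.map fun i => refl Q (w i) (hw i)).prod).1 (w j) = if j ∈ l then -w j else w j := by
    intro l
    induction l with
    | nil => intro _ j; simp
    | cons i l ih =>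
      intro hnd j
      rw [List.nodup_cons] at hnd
      rw [List.map_cons, List.prod_cons]
      show (refl Q (w i) (hw i)).1 ((_ : orth Q).1 (w j)) = _
      rw [ih hnd.2 j]
      by_cases hij : i = j
      · subst hij
        rw [if_neg hnd.1, hfix, if_pos rfl, if_pos (List.mem_cons_self ..)]
      · by_cases hj : j ∈ l
        · rw [if_pos hj, map_neg, hfix, if_neg hij, if_pos (List.mem_cons_of_mem _ hj)]
        · rw [if_neg hj, hfix, if_neg hij, if_neg (by simp [Ne.symm hij, hj])]
  have hneg : negOne Q = (l.map fun i => refl Q (w i) (hw i)).prod := by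
    refine Subtype.ext (LinearEquiv.toLinearMap_injective (b.ext fun j => ?_))
    show (negOne Q).1 (b j) = _
    rw [LinearEquiv.coe_coe, negOne_apply, hb, hprod l (List.nodup_finRange 7) j,
      if_pos (List.mem_finRange j)]
  rw [← QuotientGroup.eq_one_iff (N := tGroup Q c)]
  show χ (negOne Q) = 1
  rw [hneg, map_list_prod, List.map_map]
  have hfun : (⇑χ ∘ fun i => refl Q (w i) (hw i)) =
      fun i => x ^ (if Q (w i) = c then 0 else 1) := by
    funext i
    by_cases h : Q (w i) = c
    · simp [hsame i h, h]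
    · simp [hother i h, h]
  rw [hfun]
  have hpow : ∀ l : List (Fin 7), (l.map fun i => x ^ (if Q (w i) = c then 0 else 1)).prod =
      x ^ (l.map fun i => if Q (w i) = c then 0 else 1).sum := fun l => by
    induction l with
    | nil => simp
    | cons i l ih => simp only [List.map_cons, List.prod_cons, List.sum_cons, ih, pow_add]
  rw [hpow]
  have hsign : ∀ l : List (Fin 7), (l.map fun i => -Q (w i)).prod =
      (-c) ^ l.length * (-1) ^ (l.map fun i => if Q (w i) = c then 0 else 1).sum := fun l => by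
    induction l with
    | nil => simp
    | cons i l ih =>
      by_cases h : Q (w i) = c
      · simp only [List.map_cons, List.prod_cons, List.sum_cons, List.length_cons, ih, if_pos h,
          zero_add, pow_succ]
        rw [h]
        ring
      · have h' : Q (w i) = -c := eq_neg_of_ne3 _ _ (hw i) hc h
        simp only [List.map_cons, List.prod_cons, List.sum_cons, List.length_cons, ih, if_neg h,
          pow_add, pow_one, pow_succ]
        rw [h']
        ring
  rw [Fin.prod_univ_def, hsign, List.length_finRange] at hg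
  generalize hm : ((List.finRange 7).map fun i => if Q (w i) = c then 0 else 1).sum = m at hg ⊢
  obtain ⟨k, hk⟩ | ⟨k, hk⟩ := Nat.even_or_odd m
  · rw [hk, pow_add, hsqr]
  · rw [hk, Odd.neg_one_pow ⟨k, rfl⟩] at hg
    exact absurd hg.symm (odd_case3 c hc)

theorem negOne_notMem (hQ : (polarBilin Q).Nondegenerate) : negOne Q ∉ sGroup Q := by
  intro h
  have h1 : detHom Q (negOne Q) = 1 := Abelianization.commutator_subset_ker (detHom Q)
    (sGroup_le_commutator hQ (by simp) h)
  have h2 := congrArg (fun u : Kˣ => (u : K)) h1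
  have h3 : ((detHom Q (negOne Q) : Kˣ) : K) = -1 := by
    show ((LinearEquiv.det (negOne Q).1 : Kˣ) : K) = _
    rw [LinearEquiv.coe_det, show ((negOne Q).1 : V →ₗ[K] V) = (-1 : K) • LinearMap.id by
      ext; simp [negOne_apply], LinearMap.det_smul, LinearMap.det_id]
    simp only [Module.finrank_fin_fun, mul_one]
    decide
  simp only [Units.val_one] at h2
  exact absurd (h3.symm.trans h2) (by decide)

theorem sGroup_center (hQ : (polarBilin Q).Nondegenerate) {g : orth Q} (hg : g ∈ sGroup Q)
    (hcm : ∀ k ∈ sGroup Q, g * k = k * g) : g = 1 :=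
  (eq_one_or_neg hQ (by norm_num) hcm).resolve_right fun h => negOne_notMem hQ (h ▸ hg)

/-- The reflection group modulo its centre is the simple subgroup. -/
theorem quot_equiv (hQ : (polarBilin Q).Nondegenerate) {c : K} (hc : c ≠ 0)
    (hdisc : Cfsg.polarGramDet (⇑Q) = -c) :
    Nonempty (↥(Cfsg.reflectionSubgroup (⇑Q) c) ⧸ center ↥(Cfsg.reflectionSubgroup (⇑Q) c) ≃*
      ↥(sGroup Q)) := by
  set π := QuotientGroup.mk' (center ↥(tGroup Q c))
  let φ : ↥(sGroup Q) →* ↥(tGroup Q c) ⧸ center ↥(tGroup Q c) :=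
    π.comp (inclusion (sGroup_le_tGroup hQ (by norm_num) hc))
  have hinj : Function.Injective φ := by
    rw [injective_iff_map_eq_one]
    intro x hx
    have hx' := (QuotientGroup.eq_one_iff _).mp hx
    rw [mem_center_iff] at hx'
    exact Subtype.ext (sGroup_center hQ x.2 fun k hk =>
      (congrArg Subtype.val (hx' ⟨k, sGroup_le_tGroup hQ (by norm_num) hc hk⟩)).symm)
  have hneg := negOne_mem hQ hc hdisc
  have hz : π ⟨negOne Q, hneg⟩ = 1 := (QuotientGroup.eq_one_iff _).mpr (mem_center_iff.mpr
    fun y => Subtype.ext (negOne_comm y.1))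
  have hsurj : Function.Surjective φ := by
    intro y
    obtain ⟨⟨g, hg⟩, rfl⟩ := QuotientGroup.mk'_surjective _ y
    obtain ⟨v, hv, -, -, h, -⟩ := exists_pair (Q := Q) hQ (by norm_num) hc
    have hor := mem_sGroup_or hQ (by norm_num) hc hv h hg
    have hnor := mem_sGroup_or hQ (by norm_num) hc hv h hneg
    rcases hor with h1 | h1
    · exact ⟨⟨g, h1⟩, rfl⟩
    · have h2 := hnor.resolve_left (negOne_notMem hQ)
      have hS := sGroup_normal (Q := Q)
      have h3 : negOne Q * g ∈ sGroup Q := by
        have hrg := hS.conj_mem _ (mul_mem (inv_mem h2) h1) 1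
        simpa [mul_assoc, negOne_inv] using hrg
      refine ⟨⟨_, h3⟩, ?_⟩
      show π ⟨negOne Q * g, _⟩ = π ⟨g, hg⟩
      rw [show (⟨negOne Q * g, sGroup_le_tGroup hQ (by norm_num) hc h3⟩ : ↥(tGroup Q c)) =
        ⟨negOne Q, hneg⟩ * ⟨g, hg⟩ from rfl, map_mul, hz, one_mul]
  let e := equiv (Q := Q) hc
  have hc' : (center ↥(Cfsg.reflectionSubgroup (⇑Q) c)).map e.toMonoidHom = center ↥(tGroup Q c) := by
    ext y
    simp only [mem_map, MulEquiv.toMonoidHom_eq_coe, MonoidHom.coe_coe, mem_center_iff]
    refine ⟨?_, fun hy => ⟨e.symm y, fun z => e.injective ?_, e.apply_symm_apply y⟩⟩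
    · rintro ⟨x, hx, rfl⟩ z
      obtain ⟨z, rfl⟩ := e.surjective z
      rw [← map_mul, ← map_mul, hx]
    · rw [map_mul, map_mul, e.apply_symm_apply, hy]
  exact ⟨(QuotientGroup.congr _ _ e hc').trans (MulEquiv.ofBijective φ ⟨hinj, hsurj⟩).symm⟩

/-- Up to similarity there is one form in dimension seven. -/
theorem orth_equiv_std (hQ : (polarBilin Q).Nondegenerate) :
    Nonempty (orth Q ≃* Cfsg.isometryGroup K (Cfsg.quadFormOdd 3 K)) := by
  classical
  obtain ⟨k, e, f, W, ⟨hhyp, -, -, -, hperp, hdim, hani, -⟩, hW⟩ := QuadClassify.exists_decomp Q hQ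
  simp only [finrank_top, Module.finrank_fin_fun] at hdim
  obtain rfl : k = 3 := by omega
  obtain ⟨z, hzW, hz0⟩ := Submodule.exists_mem_ne_zero_of_ne_bot (p := W) fun h => by
    rw [h, finrank_bot] at hdim; omega
  have hQz : Q z ≠ 0 := fun h => hz0 (hani z hzW h)
  set a := Q z
  have ha2 : a * a = 1 := (by decide : ∀ x : K, x ≠ 0 → x * x = 1) a hQz
  obtain ⟨b, hb⟩ := hhyp.exists_basis (ι := Unit) (z := fun _ => z)
    (LinearIndependent.of_subsingleton () hz0)
    (fun i _ => (hperp i z hzW).1) (fun i _ => (hperp i z hzW).2) (by simp)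
  let T : (Unit ⊕ (Fin 3 ⊕ Fin 3) → K) →ₗ[K] V :=
    { toFun := fun v => (∑ i, (a * v (.inr (.inl i))) • e i) + (∑ i, v (.inr (.inr i)) • f i) +
        v (.inl ()) • z
      map_add' := fun v v' => by
        simp only [Pi.add_apply, mul_add, add_smul, Finset.sum_add_distrib]; abel
      map_smul' := fun r v => by
        simp only [Pi.smul_apply, smul_eq_mul, RingHom.id_apply, smul_add, Finset.smul_sum, smul_smul]
        congr 2
        exact Finset.sum_congr rfl fun i _ => by ring_nf }
  have hval : ∀ v, Q (T v) = a * QuadClassify.qOdd 3 K v := by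
    intro v
    have h1 := hhyp.value (v (.inl ()) • z)
      (fun i => by rw [polar_smul_right, (hperp i z hzW).1, smul_zero])
      (fun i => by rw [polar_smul_right, (hperp i z hzW).2, smul_zero])
      (fun i => a * v (.inr (.inl i))) (fun i => v (.inr (.inr i)))
    show Q ((∑ i, _) + (∑ i, _) + _) = _
    rw [h1, QuadraticMap.map_smul, smul_eq_mul, QuadClassify.qOdd_apply, Cfsg.quadFormOdd, mul_add,
      Finset.mul_sum]
    rw [show a * v (.inl ()) ^ 2 = v (.inl ()) * v (.inl ()) * a by ring, add_comm]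
    exact congrArg _ (Finset.sum_congr rfl fun i _ => by ring)
  have hreg : Function.Injective T := by
    rw [← LinearMap.ker_eq_bot, LinearMap.ker_eq_bot']
    intro v hv
    have h0 : ∀ u, polar (QuadClassify.qOdd 3 K) v u = 0 := fun u => by
      have : a * polar (QuadClassify.qOdd 3 K) v u = polar Q (T v) (T u) := by
        simp only [polar, ← map_add, hval]; ring
      rw [hv, polar_zero_left] at this
      exact (mul_eq_zero.mp this).resolve_left hQz
    funext i
    rcases i with ⟨⟩ | i | i
    · have h := h0 (Pi.single (.inl ()) 1)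
      simp only [polar, QuadClassify.qOdd_apply, Cfsg.quadFormOdd, Pi.add_apply] at h
      simp at h
      exact (mul_eq_zero.mp (show (2 : K) * v (.inl ()) = 0 by linear_combination h)).resolve_left
        (by decide)
    · have h := h0 (Pi.single (.inr (.inr i)) 1)
      simp only [polar, QuadClassify.qOdd_apply, Cfsg.quadFormOdd, Pi.add_apply] at h
      simp [add_mul, mul_add, Finset.sum_add_distrib, Pi.single_apply] at h
      simpa using h
    · have h := h0 (Pi.single (.inr (.inl i)) 1)
      simp only [polar, QuadClassify.qOdd_apply, Cfsg.quadFormOdd, Pi.add_apply] at h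
      simp [add_mul, mul_add, Finset.sum_add_distrib, Pi.single_apply] at h
      simpa using h
  let Te := LinearEquiv.ofBijective T ⟨hreg,
    (LinearMap.injective_iff_surjective_of_finrank_eq_finrank (by simp)).mp hreg⟩
  have heq : orth (a • QuadClassify.qOdd 3 K) = orth (QuadClassify.qOdd 3 K) := by
    ext g
    exact ⟨fun h x => mul_left_cancel₀ hQz (h x), fun h x => congrArg (a * ·) (h x)⟩
  exact ⟨((orthCongr (Q := a • QuadClassify.qOdd 3 K) Te fun x => hval x).symm.trans
    (MulEquiv.subgroupCongr heq)).trans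
    (OrthUnitaryQuad.isometryGroupEquiv (QuadClassify.qOdd 3 K) (Cfsg.quadFormOdd 3 K)
      fun v => (QuadClassify.qOdd_apply 3 v).symm).symm⟩

/-- The statement used by the Fischer-group rows. -/
theorem main {X : Type*} [Group X] {c : K} (hc : c ≠ 0)
    (hX : Cfsg.IsProjReflectionGroupModThree X 7 (-c) c) :
    (IsSimpleGroup X ∧ ∃ x y : X, ¬ Commute x y) ∧
      Nonempty (X ≃* Cfsg.POmega K (Cfsg.quadFormOdd 3 K)) := by
  obtain ⟨Q, hQ, hdisc, ⟨e⟩⟩ := hX
  obtain ⟨e₁⟩ := quot_equiv hQ hc hdisc
  obtain ⟨Φ⟩ := orth_equiv_std hQ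
  have hcomm := commutator_eq_sGroup hQ (by simp)
  let Ψ : ↥(sGroup Q) ≃* ↥(Cfsg.Omega K (Cfsg.quadFormOdd 3 K)) :=
    (MulEquiv.subgroupCongr hcomm.symm).trans
      ((Φ.subgroupMap _).trans (MulEquiv.subgroupCongr (map_commutator_equiv Φ)))
  have hbot : center ↥(sGroup Q) = ⊥ := eq_bot_iff.mpr fun x hx => mem_bot.mpr <| Subtype.ext <|
    sGroup_center hQ x.2 fun k hk => (congrArg Subtype.val (mem_center_iff.mp hx ⟨k, hk⟩)).symm
  have hbot' : center ↥(Cfsg.Omega K (Cfsg.quadFormOdd 3 K)) = ⊥ := eq_bot_iff.mpr fun x hx => by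
    obtain ⟨x, rfl⟩ := Ψ.surjective x
    have : x ∈ center ↥(sGroup Q) := mem_center_iff.mpr fun k => Ψ.injective (by
      rw [map_mul, map_mul]; exact mem_center_iff.mp hx (Ψ k))
    rw [hbot, mem_bot] at this
    rw [mem_bot, this, map_one]
  have hq := sGroup_quasisimple hQ (by norm_num : (5 : ℕ) ≤ 7)
  have hsimp : IsSimpleGroup ↥(sGroup Q) := by
    haveI := hq.2
    haveI : Nontrivial ↥(sGroup Q) :=
      ((QuotientGroup.quotientMulEquivOfEq hbot).trans QuotientGroup.quotientBot).toEquiv.symm.nontrivial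
    exact IsSimpleGroup.isSimpleGroup_of_surjective
      ((QuotientGroup.quotientMulEquivOfEq hbot).trans QuotientGroup.quotientBot).toMonoidHom
      ((QuotientGroup.quotientMulEquivOfEq hbot).trans QuotientGroup.quotientBot).surjective
  let E := e.trans e₁
  refine ⟨⟨?_, ?_⟩, ⟨(E.trans Ψ).trans
    (((QuotientGroup.quotientMulEquivOfEq hbot').trans QuotientGroup.quotientBot).symm)⟩⟩
  · haveI := hsimp
    haveI : Nontrivial ↥(sGroup Q) := hsimp.toNontrivial
    haveI : Nontrivial X := E.toEquiv.nontrivial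
    exact IsSimpleGroup.isSimpleGroup_of_surjective E.symm.toMonoidHom E.symm.surjective
  · by_contra hno
    push Not at hno
    haveI := hsimp
    have hall : center ↥(sGroup Q) = ⊤ := eq_top_iff.mpr fun x _ => mem_center_iff.mpr fun y => by
      obtain ⟨x, rfl⟩ := E.surjective x
      obtain ⟨y, rfl⟩ := E.surjective y
      rw [← map_mul, ← map_mul, (hno y x).eq]
    exact bot_ne_top (hbot.symm.trans hall)

end Cfsg.Agent.ReflectionOddSeven92
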