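import Cfsg.Agent.Lib.Fi23Local94
import Cfsg.Agent.Lib.ThreeTransM22Pres51
import Cfsg.Agent.Lib.ReflectionOddSeven92
import Cfsg.Agent.S1686

/-!
# The pair of opposite members in a candidate class of M(23)

Let `z` be a member, the members near `z` cover a class of type M(22), and let eight of nine members
of a diagram Y332 near `z` commute with a member `j` that does not commute with `z`.  Then the members
commuting with both generate the group of the eight, which is `Ω(7,3)`: the subgroup of the eight is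
maximal in `Fi22`, and `j` does not centralise the whole centraliser of `z`.
-/

set_option autoImplicit false
set_option maxRecDepth 100000
set_option linter.style.haveILetI false

namespace Cfsg.Agent.Fi23Type95

open Subgroup Cfsg.Agent.ThreeTransM22Cover72
open Cfsg.Agent.Fi22Certs51 (adjN)
open Cfsg.Agent.ThreeTransM22Pat51 (Pat gN)

/-! ### The projective reflection group -/

/-- The sum of seven squares. -/
noncomputable def sq7 : QuadraticForm (ZMod 3) (Fin 7 → ZMod 3) :=
  QuadraticMap.weightedSumSquares (ZMod 3) (fun _ : Fin 7 => (1 : ZMod 3))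

theorem polar_sq7 (x y : Fin 7 → ZMod 3) : QuadraticMap.polar sq7 x y = 2 * ∑ i, x i * y i := by
  simp only [QuadraticMap.polar, sq7, QuadraticMap.weightedSumSquares_apply, smul_eq_mul, one_mul,
    Pi.add_apply, Finset.mul_sum, ← Finset.sum_sub_distrib]
  exact Finset.sum_congr rfl fun i _ => by ring

theorem sq7_nondeg : (QuadraticMap.polarBilin sq7).Nondegenerate := by
  have key : ∀ x : Fin 7 → ZMod 3, (∀ y, QuadraticMap.polar sq7 x y = 0) → x = 0 := by
    intro x hx
    funext i
    have := hx (Pi.single i 1)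
    rw [polar_sq7] at this
    simp [Pi.single_apply] at this
    exact this.resolve_left (by decide)
  exact ⟨fun x hx => key x hx, fun x hx => key x fun y => by rw [QuadraticMap.polar_comm]; exact hx y⟩

theorem sq7_det : Cfsg.polarGramDet (⇑sq7) = -(1 : ZMod 3) := by
  rw [Cfsg.polarGramDet, show (Matrix.of fun i j : Fin 7 =>
      QuadraticMap.polar sq7 (Pi.single i 1) (Pi.single j 1)) =
      Matrix.diagonal (fun _ : Fin 7 => (2 : ZMod 3)) by
    ext i j
    simp [polar_sq7, Pi.single_apply, Matrix.diagonal_apply, eq_comm], Matrix.det_diagonal]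
  decide

/-- The commutator group of the orthogonal group is of the reflection type. -/
theorem proj_of_pomega {X : Type*} [Group X]
    (h : Nonempty (X ≃* Cfsg.POmega (ZMod 3) (Cfsg.quadFormOdd 3 (ZMod 3)))) :
    Cfsg.IsProjReflectionGroupModThree X 7 (-1) 1 := by
  obtain ⟨e⟩ := h
  obtain ⟨-, ⟨e'⟩⟩ := ReflectionOddSeven92.main (c := (1 : ZMod 3))
    (X := ↥(Cfsg.reflectionSubgroup (⇑sq7) (1 : ZMod 3)) ⧸
      Subgroup.center ↥(Cfsg.reflectionSubgroup (⇑sq7) (1 : ZMod 3))) one_ne_zero
    ⟨sq7, sq7_nondeg, sq7_det, ⟨MulEquiv.refl _⟩⟩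
  exact ⟨sq7, sq7_nondeg, sq7_det, ⟨e.trans e'.symm⟩⟩

/-- The commutator group has trivial centre. -/
theorem center_of_pomega {X : Type*} [Group X]
    (h : Nonempty (X ≃* Cfsg.POmega (ZMod 3) (Cfsg.quadFormOdd 3 (ZMod 3)))) :
    Subgroup.center X = ⊥ := by
  obtain ⟨e⟩ := h
  obtain ⟨e'⟩ := CosetCertO73Iso.equiv_pomega
  let f := e.trans e'.symm
  rw [Subgroup.eq_bot_iff_forall]
  intro x hx
  have hfx : f x ∈ Subgroup.center (CosetCertPres.Pres.Grp CosetCertO73Iso.K73) := by
    rw [Subgroup.mem_center_iff]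
    intro y
    obtain ⟨y, rfl⟩ := f.surjective y
    rw [← map_mul, ← map_mul, Subgroup.mem_center_iff.mp hx y]
  rw [CosetCertO73Iso.center_k, Subgroup.mem_bot] at hfx
  exact f.injective (hfx.trans f.map_one.symm)

/-! ### The eight letters in a group of type M(22) -/

open CosetCertPres CosetCertOrder in
theorem maximal (U : Subgroup CosetCertFi22OData.pres.Grp)
    (hU : CosetCertFi22OData.pres.sub CosetCertFi22OData.subgens ≤ U) :
    U = CosetCertFi22OData.pres.sub CosetCertFi22OData.subgens ∨ U = ⊤ :=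
  block_cases CosetCertFi22O.enumerated CosetCertFi22O.orbits (by decide +kernel) (by decide +kernel)
    CosetCertFi22O.count0 (by
      have h1 := CosetCertFi22O.count1
      have h2 := CosetCertFi22O.count2
      unfold GoodBlocks
      intro T hT
      have hN : CosetCertFi22OData.table.N = 14080 := rfl
      rw [show CosetCertFi22OData.roots.length = 3 by decide +kernel] at hT
      have hT' : T = ∅ ∨ T = {1} ∨ T = {2} ∨ T = {1, 2} := by
        revert hT; revert T; decide
      rw [hN]
      rcases hT' with rfl | rfl | rfl | rfl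
      · left; rfl
      · right; right; rw [Finset.sum_singleton, h1]; decide
      · right; right; rw [Finset.sum_singleton, h2]; decide
      · right; left
        rw [Finset.sum_insert (by decide), Finset.sum_singleton, h1, h2]
        rfl) U hU

section

variable {Q : Type*} [Group Q] [Finite Q] {E : Set Q} (H : ThreeTransM22Pat51.Hyp E)
  {v : ℕ → Q} (P : Pat E v)
include H P

/-- The eight members generate a maximal subgroup isomorphic to `Ω(7,3)`. -/
theorem eight :
    Nonempty (↥(closure {y | ∃ i < 9, i ≠ 6 ∧ y = v i}) ≃*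
      Cfsg.POmega (ZMod 3) (Cfsg.quadFormOdd 3 (ZMod 3))) ∧
    ∀ U : Subgroup Q, closure {y | ∃ i < 9, i ≠ 6 ∧ y = v i} ≤ U →
      U = closure {y | ∃ i < 9, i ≠ 6 ∧ y = v i} ∨ U = ⊤ := by
  have hP := P.mirror
  let f : Cfsg.Spor.Fi22 →* Q := PresentedGroup.toGroup (ThreeTransM22Pres51.rels_one H hP)
  have hgen : ∀ x, f (PresentedGroup.of x) = v (ThreeTransM22Pat51.sigma (ThreeTransM22Pres51.idx x)) := fun x => by
    show PresentedGroup.toGroup (ThreeTransM22Pres51.rels_one H hP) (PresentedGroup.of x) = _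
    rw [PresentedGroup.toGroup.of]
    exact if_pos (ThreeTransM22Pres51.idx_lt x)
  haveI : IsSimpleGroup Cfsg.Spor.Fi22 := CosetCertFi22Simple.simple
  have hinj : Function.Injective f := by
    rw [← MonoidHom.ker_eq_bot_iff]
    refine (f.normal_ker.eq_bot_or_eq_top).resolve_right fun h => ?_
    refine ThreeTransM22Pres51.ne_one H (P.mem 6 (by norm_num)) ?_
    rw [show v 6 = f (PresentedGroup.of .a) from (hgen .a).symm]
    exact (MonoidHom.mem_ker (f := f)).mp (by rw [h]; exact Subgroup.mem_top _)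
  have hcard : Nat.card Cfsg.Spor.Fi22 = Nat.card Q := by
    rw [ThreeTransM22Pres51.card_G H]
    exact CosetCertFi22Simple.card_and_faithful.1.trans (by norm_num)
  have hbij : Function.Bijective f := (Nat.bijective_iff_injective_and_card _).mpr ⟨hinj, hcard⟩
  let e : CosetCertFi22OData.pres.Grp ≃* Q := MulEquiv.ofBijective f hbij
  have hspan : (CosetCertFi22OData.pres.sub CosetCertFi22OData.subgens).map e.toMonoidHom =
      closure {y | ∃ i < 9, i ≠ 6 ∧ y = v i} := by
    rw [CosetCertPres.Pres.sub, Subgroup.map_map, MonoidHom.map_closure]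
    congr 1
    have hof : ∀ x : Cfsg.Spor.Fi22.Gen,
        e.toMonoidHom.comp (PresentedGroup.mk _) (FreeGroup.of x) =
          v (ThreeTransM22Pat51.sigma (ThreeTransM22Pres51.idx x)) := fun x => hgen x
    ext y
    constructor
    · rintro ⟨r, hr, rfl⟩
      simp [CosetCertFi22OData.subgens, CosetCertPres.Wx.eval, CosetCertPres.Pres.gen] at hr
      rcases hr with rfl | rfl | rfl | rfl | rfl | rfl | rfl | rfl <;>
        exact ⟨_, by decide, by decide, hof _⟩
    · rintro ⟨i, hi, h6, rfl⟩
      have : ∀ i < 9, i ≠ 6 → ∃ x ∈ [Cfsg.Spor.Fi22.Gen.b, .c, .d, .e, .f, .g, .h, .i],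
          ThreeTransM22Pat51.sigma (ThreeTransM22Pres51.idx x) = i := by decide
      obtain ⟨x, hx, rfl⟩ := this i hi h6
      refine ⟨FreeGroup.of x, ?_, hof x⟩
      simp only [List.mem_cons, List.not_mem_nil, or_false] at hx
      simp [CosetCertFi22OData.subgens, CosetCertPres.Wx.eval, CosetCertPres.Pres.gen]
      rcases hx with rfl | rfl | rfl | rfl | rfl | rfl | rfl | rfl <;> simp
  refine ⟨?_, fun U hU => ?_⟩
  · obtain ⟨e'⟩ := S1686.main
    exact ⟨((MulEquiv.subgroupCongr hspan.symm).trans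
      ((CosetCertFi22OData.pres.sub CosetCertFi22OData.subgens).equivMapOfInjective e.toMonoidHom
        e.injective).symm).trans e'⟩
  · rw [← hspan] at hU ⊢
    rcases maximal (U.comap e.toMonoidHom) (Subgroup.map_le_iff_le_comap.mp hU) with h | h
    · left
      rw [← h, Subgroup.map_comap_eq_self_of_surjective (f := e.toMonoidHom) e.surjective]
    · right
      rw [← Subgroup.map_comap_eq_self_of_surjective (f := e.toMonoidHom) e.surjective U, h]
      exact Subgroup.map_top_of_surjective _ e.surjective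

end

/-! ### The opposite pair -/

variable {G : Type*} [Group G] [Finite G] {D : Set G} {z : G}
variable {Q : Type*} [Group Q] [Finite Q] {E : Set Q}

open Fi23Graph98 (near)

/-- The members commuting with both of an opposite pair generate `Ω(7,3)`. -/
theorem lclause_of_cov (H : Fi23Graph98.Hyp D) {j : G} {w : ℕ → G} (hz : z ∈ D)
    (p : ↥(centralizer ({z} : Set G)) →* Q) {z' : ↥(centralizer ({z} : Set G))} (hz' : (z' : G) = z)
    (hcov : Cov p z' E)
    (hE : p '' {y : ↥(centralizer ({z} : Set G)) | (y : G) ∈ near D z} = E)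
    (hw : ∀ i < 9, w i ∈ near D z) (hj : j ∈ D) (hzj : ¬ Commute z j)
    (hwc : ∀ i < 9, ∀ k < 9, (Commute (w i) (w k) ↔ adjN i k = false))
    (hjw : ∀ i < 9, i ≠ 6 → Commute j (w i)) :
    ∃ c₃ : ZMod 3, c₃ ≠ 0 ∧ Cfsg.IsProjReflectionGroupModThree
      (↥(closure ({y : G | y ∈ D ∧ y ≠ z ∧ Commute z y} ∩ {y : G | y ∈ D ∧ y ≠ j ∧ Commute j y})) ⧸
        center ↥(closure ({y : G | y ∈ D ∧ y ≠ z ∧ Commute z y} ∩ {y : G | y ∈ D ∧ y ≠ j ∧ Commute j y})))
      7 (-c₃) c₃ := by
  classical
  refine ⟨1, one_ne_zero, ?_⟩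
  have hwm : ∀ i < 9, w i ∈ centralizer ({z} : Set G) := fun i hi =>
    mem_centralizer_singleton_iff.mpr (hw i hi).2.2.symm.eq
  let W : ℕ → ↥(centralizer ({z} : Set G)) := fun i => if hi : i < 9 then ⟨w i, hwm i hi⟩ else 1
  have hW : ∀ i < 9, (W i : G) = w i := fun i hi => by simp [W, hi]
  have hWE : ∀ i < 9, p (W i) ∈ E := fun i hi =>
    hE.subset ⟨W i, by show (W i : G) ∈ near D z; rw [hW i hi]; exact hw i hi, rfl⟩
  have hWc : ∀ i < 9, ∀ k < 9, (Commute (p (W i)) (p (W k)) ↔ adjN i k = false) := by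
    intro i hi k hk
    rw [← hwc i hi k hk]
    constructor
    · intro h
      have h' := (hcov.comm (hWE i hi) (hWE k hk) h).map (centralizer ({z} : Set G)).subtype
      simpa only [Subgroup.coe_subtype, hW i hi, hW k hk] using h'
    · intro h
      refine Commute.map ?_ p
      exact Subtype.ext (by simpa only [Subgroup.coe_mul, hW i hi, hW k hk] using h.eq)
  have P : Pat E fun i => p (W i) :=
    ⟨hWE, fun i hi k hk h => (hWc i hi k hk).mpr h, fun i hi k hk h h' => by
      rw [(hWc i hi k hk).mp h'] at h; exact Bool.noConfusion h⟩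
  obtain ⟨⟨eQ⟩, hmax⟩ :=
    eight (ThreeTransM22Exist51.hyp_of_type hcov.grp hcov.prim hcov.m22) P
  set S := closure {y | ∃ i < 9, i ≠ 6 ∧ y = W i} with hS
  have hSmap : S.map p = closure {y | ∃ i < 9, i ≠ 6 ∧ y = p (W i)} := by
    rw [MonoidHom.map_closure]
    congr 1
    ext y
    exact ⟨fun ⟨_, ⟨i, hi, h6, e⟩, ey⟩ => ⟨i, hi, h6, by rw [← ey, e]⟩,
      fun ⟨i, hi, h6, e⟩ => ⟨W i, ⟨i, hi, h6, rfl⟩, e.symm⟩⟩
  have hzj' : ∀ U : Subgroup ↥(centralizer ({z} : Set G)),
      (∀ x ∈ U, Commute j (x : G)) → z' ∉ U := fun U hU h => hzj (by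
    have := hU z' h; rw [hz'] at this; exact this.symm)
  have hSj : ∀ x ∈ S, Commute j (x : G) := by
    intro x hx
    induction hx using Subgroup.closure_induction with
    | mem y hy => obtain ⟨i, hi, h6, rfl⟩ := hy; rw [hW i hi]; exact hjw i hi h6
    | one => exact Commute.one_right j
    | mul a b _ _ ha hb => exact ha.mul_right hb
    | inv a _ ha => exact ha.inv_right
  -- a member near both lies in the group of the eight
  have hsub : ∀ y : G, y ∈ near D z ∩ near D j → y ∈ S.map (centralizer ({z} : Set G)).subtype := by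
    rintro y ⟨hyz, hyj⟩
    have hym : y ∈ centralizer ({z} : Set G) := mem_centralizer_singleton_iff.mpr hyz.2.2.symm.eq
    set Y : ↥(centralizer ({z} : Set G)) := ⟨y, hym⟩
    by_cases hY : p Y ∈ S.map p
    · obtain ⟨s, hs, hsY⟩ := hY
      rcases hcov.fib hsY.symm with h | h
      · exact ⟨s, hs, (congrArg Subtype.val h).symm⟩
      · exfalso
        have e : (z' : G) = (s : G)⁻¹ * y := by
          rw [show y = ((s * z' : ↥(centralizer ({z} : Set G))) : G) from congrArg Subtype.val h,
            Subgroup.coe_mul, inv_mul_cancel_left]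
        apply hzj
        rw [← hz', e]
        exact ((hSj s hs).inv_right.mul_right hyj.2.2).symm
    exfalso
    set K := closure (insert Y {y | ∃ i < 9, i ≠ 6 ∧ y = W i}) with hK
    have hSK : S ≤ K := closure_mono (Set.subset_insert _ _)
    have hYK : Y ∈ K := subset_closure (Set.mem_insert _ _)
    have hKj : ∀ x ∈ K, Commute j (x : G) := by
      intro x hx
      induction hx using Subgroup.closure_induction with
      | mem y hy =>
        rcases hy with rfl | hy
        · exact hyj.2.2
        · obtain ⟨i, hi, h6, rfl⟩ := hy; rw [hW i hi]; exact hjw i hi h6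
      | one => exact Commute.one_right j
      | mul a b _ _ ha hb => exact ha.mul_right hb
      | inv a _ ha => exact ha.inv_right
    have htop : K.map p = ⊤ := by
      refine (hmax (K.map p) (hSmap ▸ Subgroup.map_mono hSK)).resolve_left fun h => hY ?_
      rw [hSmap, ← h]
      exact mem_map_of_mem p hYK
    have hmod : ∀ g : ↥(centralizer ({z} : Set G)), ∃ k ∈ K, g = k ∨ g = k * z' := fun g => by
      obtain ⟨k, hk, e⟩ := htop.ge (mem_top (p g))
      exact ⟨k, hk, hcov.fib e.symm⟩
    -- the members near `z` form one class, so all of them lie in `K`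
    have hnear : ∀ x ∈ near D z, x ∈ K.map (centralizer ({z} : Set G)).subtype := by
      intro x hx
      obtain ⟨g, hg, rfl⟩ := H.cls z hz y hyz x hx
      obtain ⟨k, hk, hgk⟩ := hmod ⟨g, mem_centralizer_singleton_iff.mpr hg.eq⟩
      refine ⟨k * Y * k⁻¹, mul_mem (mul_mem hk hYK) (inv_mem hk), ?_⟩
      rcases hgk with h | h
      · rw [show g = (k : G) from congrArg Subtype.val h]; rfl
      · have hc : z' * Y * z'⁻¹ = Y := by rw [(hcov.central Y).eq, mul_inv_cancel_right]
        rw [show g = ((k * z' : ↥(centralizer ({z} : Set G))) : G) from congrArg Subtype.val h]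
        show ((k * Y * k⁻¹ : ↥(centralizer ({z} : Set G))) : G) =
          ((k * z') * Y * (k * z')⁻¹ : ↥(centralizer ({z} : Set G)))
        rw [show (k * z') * Y * (k * z')⁻¹ = k * (z' * Y * z'⁻¹) * k⁻¹ by group, hc]
    obtain ⟨z₁, hz₁, e⟩ := (closure_le _).mpr hnear (H.gen z hz z (Commute.refl z))
    exact hzj' K hKj ((show z₁ = z' from Subtype.ext (e.trans hz'.symm)) ▸ hz₁)
  -- the group of the common members
  have hL : closure ({y : G | y ∈ D ∧ y ≠ z ∧ Commute z y} ∩ {y : G | y ∈ D ∧ y ≠ j ∧ Commute j y}) =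
      S.map (centralizer ({z} : Set G)).subtype := by
    refine le_antisymm ((closure_le _).mpr hsub) ?_
    rw [MonoidHom.map_closure, closure_le]
    rintro _ ⟨_, ⟨i, hi, h6, rfl⟩, rfl⟩
    refine subset_closure ⟨?_, ?_⟩ <;> rw [Subgroup.coe_subtype, hW i hi]
    · exact hw i hi
    · exact ⟨(hw i hi).1, fun e => hzj (e ▸ (hw i hi).2.2), hjw i hi h6⟩
  have hinjS : Function.Injective (p.comp S.subtype) := by
    rw [injective_iff_map_eq_one]
    intro s hs
    rcases hcov.ker _ hs with h | h
    · exact Subtype.ext h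
    · exact absurd (h ▸ s.2 : z' ∈ S) (hzj' S hSj)
  have hPO : Nonempty (↥(closure ({y : G | y ∈ D ∧ y ≠ z ∧ Commute z y} ∩
      {y : G | y ∈ D ∧ y ≠ j ∧ Commute j y})) ≃* Cfsg.POmega (ZMod 3) (Cfsg.quadFormOdd 3 (ZMod 3))) := by
    refine ⟨((MulEquiv.subgroupCongr hL).trans
      (S.equivMapOfInjective _ (Subgroup.subtype_injective _)).symm).trans
      (((MonoidHom.ofInjective hinjS).trans (MulEquiv.subgroupCongr ?_)).trans eQ)⟩
    rw [MonoidHom.range_comp, Subgroup.range_subtype, hSmap]
  obtain ⟨ePO⟩ := hPO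
  exact proj_of_pomega ⟨(QuotientGroup.quotientMulEquivOfEq (center_of_pomega ⟨ePO⟩)).trans
    (QuotientGroup.quotientBot.trans ePO)⟩

/-- The reflection clause of type M(23) from the local hypotheses and the node `j`. -/
theorem lclause {d : G} {p : ↥(centralizer ({d} : Set G)) →* Q} {z' : ↥(centralizer ({d} : Set G))}
    (H : Fi23Local94.Full p z' E) {j : G} {w : ℕ → G}
    (hw : ∀ i < 9, w i ∈ near (conjugatesOf d) d) (hj : j ∈ conjugatesOf d) (hdj : ¬ Commute d j)
    (hwc : ∀ i < 9, ∀ k < 9, (Commute (w i) (w k) ↔ adjN i k = false))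
    (hjw : ∀ i < 9, i ≠ 6 → Commute j (w i)) :
    ∃ c₃ : ZMod 3, c₃ ≠ 0 ∧ Cfsg.IsProjReflectionGroupModThree
      (↥(closure ({y : G | y ∈ conjugatesOf d ∧ y ≠ d ∧ Commute d y} ∩
          {y : G | y ∈ conjugatesOf d ∧ y ≠ j ∧ Commute j y})) ⧸
        center ↥(closure ({y : G | y ∈ conjugatesOf d ∧ y ≠ d ∧ Commute d y} ∩
          {y : G | y ∈ conjugatesOf d ∧ y ≠ j ∧ Commute j y}))) 7 (-c₃) c₃ := by
  refine lclause_of_cov H.graph (IsConj.refl d) p H.zd H.toCov ?_ hw hj hdj hwc hjw
  ext t
  constructor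
  · rintro ⟨y, hy, rfl⟩
    obtain ⟨u, hu, hue⟩ := H.lift_near hy
    rw [show y = u from Subtype.ext hue.symm]
    exact H.near_mem hu
  · intro ht
    obtain ⟨u, ⟨hu, rfl⟩, -⟩ := H.existsUnique_lift ht
    exact ⟨u, H.near_of hu, rfl⟩

end Cfsg.Agent.Fi23Type95
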