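import Mathlib
import Cfsg.Prelude.Def_SporadicB
import Cfsg.Prelude.Def_TwoFusion
import Cfsg.Agent.Lib.ZStarTheorem

/-!
# The commuting graph of a candidate class of M(23)

A class of involutions, the centraliser of each member of which is a double cover of a group of
type M(22), is a class of 3-transpositions generating the group, with trivial centre.  The facts
about a single centraliser which the proof uses are gathered in the structure `Hyp`.

The proof: no member exchanges two commuting members; the centraliser of the product of two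
commuting members permutes the two (Z*-theorem and the seven relation); the commuting graph is
connected; it has diameter two, since two blocks of the Steiner system of parameters (4,7,23)
always meet (a member attached to a single point is moved to a clique where it has a block); so two members that do not commute satisfy the braid relation.
-/

set_option autoImplicit false

namespace Cfsg.Agent.Fi23Graph98

open Finset

section Steiner

variable {α : Type*} [DecidableEq α]

/-- Double count of the subsets of size `j` of `S` inside the members of `ℬ`. -/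
theorem sum_choose_inter (ℬ : Finset (Finset α)) (S : Finset α) (j : ℕ) :
    (∑ B ∈ ℬ, (S ∩ B).card.choose j) =
      ∑ T ∈ S.powersetCard j, (ℬ.filter (fun B => T ⊆ B)).card := by
  have h1 : ∀ B : Finset α, (S ∩ B).card.choose j =
      ∑ T ∈ S.powersetCard j, if T ⊆ B then 1 else 0 := by
    intro B
    rw [← card_filter, ← card_powersetCard]
    refine congrArg Finset.card (Finset.ext fun T => ?_)
    simp only [mem_powersetCard, mem_filter, subset_inter_iff]
    tauto
  simp only [h1, card_filter]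
  exact Finset.sum_comm

/-- Two blocks of a Steiner system with parameters (4,7,23) meet. -/
theorem blocks_meet {K : Finset α} (hK : K.card = 23) {ℬ : Finset (Finset α)}
    (hsub : ∀ B ∈ ℬ, B ⊆ K) (hseven : ∀ B ∈ ℬ, B.card = 7)
    (hone : ∀ T ⊆ K, T.card = 4 → (ℬ.filter (fun B => T ⊆ B)).card = 1)
    {B₁ B₂ : Finset α} (h₁ : B₁ ∈ ℬ) (h₂ : B₂ ∈ ℬ) : (B₁ ∩ B₂).Nonempty := by
  -- blocks through `j` given points
  have hb : ∀ j ≤ 4, ∀ T ⊆ K, T.card = j →
      (ℬ.filter (fun B => T ⊆ B)).card * (7 - j).choose (4 - j) = (23 - j).choose (4 - j) := by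
    intro j hj T hT hTc
    have h := sum_choose_inter (ℬ.filter (fun B => T ⊆ B)) (K \ T) (4 - j)
    have hl : ∀ B ∈ ℬ.filter (fun B => T ⊆ B),
        ((K \ T) ∩ B).card.choose (4 - j) = (7 - j).choose (4 - j) := by
      intro B hB
      rw [mem_filter] at hB
      have he : (K \ T) ∩ B = B \ T := by
        ext x
        simp only [mem_inter, mem_sdiff]
        constructor
        · rintro ⟨⟨-, h2⟩, h3⟩; exact ⟨h3, h2⟩
        · rintro ⟨h3, h2⟩; exact ⟨⟨hsub B hB.1 h3, h2⟩, h3⟩
      rw [he, card_sdiff_of_subset hB.2, hseven B hB.1, hTc]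
    rw [Finset.sum_congr rfl hl, Finset.sum_const, smul_eq_mul] at h
    rw [h]
    have hr : ∀ U ∈ (K \ T).powersetCard (4 - j),
        ((ℬ.filter (fun B => T ⊆ B)).filter (fun B => U ⊆ B)).card = 1 := by
      intro U hU
      rw [mem_powersetCard] at hU
      rw [filter_filter]
      have hd : Disjoint T U := by
        rw [Finset.disjoint_left]
        intro x hx hx'
        exact (mem_sdiff.1 (hU.1 hx')).2 hx
      have hc : (T ∪ U).card = 4 := by
        rw [card_union_of_disjoint hd, hTc, hU.2]; omega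
      have := hone (T ∪ U) (union_subset hT (hU.1.trans sdiff_subset)) hc
      simpa only [union_subset_iff] using this
    rw [Finset.sum_congr rfl hr, Finset.sum_const, smul_eq_mul, mul_one, card_powersetCard,
      card_sdiff_of_subset hT, hK, hTc]
  by_contra hmeet
  -- intersection numbers with `B₁`
  have hS : ∀ j ≤ 4, ∀ c : ℕ,
      (∀ T ⊆ K, T.card = j → (ℬ.filter (fun B => T ⊆ B)).card = c) →
      (∑ B ∈ ℬ, (B₁ ∩ B).card.choose j) = Nat.choose 7 j * c := by
    intro j _ c hc
    rw [sum_choose_inter, Finset.sum_congr rfl (fun T hT => hc T ((mem_powersetCard.1 hT).1.trans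
      (hsub B₁ h₁)) (mem_powersetCard.1 hT).2), Finset.sum_const, smul_eq_mul, card_powersetCard,
      hseven B₁ h₁]
  have hb1 : ∀ T ⊆ K, T.card = 1 → (ℬ.filter (fun B => T ⊆ B)).card = 77 := fun T hT hc => by
    have := hb 1 (by omega) T hT hc
    norm_num [Nat.choose_eq_descFactorial_div_factorial, Nat.descFactorial, Nat.factorial] at this
    omega
  have hb2 : ∀ T ⊆ K, T.card = 2 → (ℬ.filter (fun B => T ⊆ B)).card = 21 := fun T hT hc => by
    have := hb 2 (by omega) T hT hc
    norm_num [Nat.choose_eq_descFactorial_div_factorial, Nat.descFactorial, Nat.factorial] at this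
    omega
  have hb3 : ∀ T ⊆ K, T.card = 3 → (ℬ.filter (fun B => T ⊆ B)).card = 5 := fun T hT hc => by
    have := hb 3 (by omega) T hT hc
    norm_num [Nat.choose_eq_descFactorial_div_factorial, Nat.descFactorial, Nat.factorial] at this
    omega
  have hb0 : ℬ.card = 253 := by
    have := hb 0 (by omega) ∅ (empty_subset _) card_empty
    have he : ℬ.filter (fun B => (∅ : Finset α) ⊆ B) = ℬ :=
      filter_true_of_mem fun B _ => empty_subset B
    rw [he] at this
    norm_num [Nat.choose_eq_descFactorial_div_factorial, Nat.descFactorial, Nat.factorial] at this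
    omega
  have s1 := hS 1 (by omega) 77 hb1
  have s2 := hS 2 (by omega) 21 hb2
  have s3 := hS 3 (by omega) 5 hb3
  -- `1 - i + C(i,2) - C(i,3)` vanishes for `i ≤ 3` unless `i = 0`
  have key : ∀ B ∈ ℬ, 1 + (B₁ ∩ B).card.choose 2 ≥
      (B₁ ∩ B).card.choose 1 + (B₁ ∩ B).card.choose 3 ∨ B = B₁ := by
    intro B hB
    by_cases hle : (B₁ ∩ B).card ≤ 3
    · left
      interval_cases hi : (B₁ ∩ B).card <;> decide
    · right
      obtain ⟨T, hTsub, hTc⟩ := exists_subset_card_eq (s := B₁ ∩ B) (n := 4) (by omega)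
      rw [subset_inter_iff] at hTsub
      exact Finset.card_le_one.1 (hone T (hTsub.1.trans (hsub B₁ h₁)) hTc).le B
        (mem_filter.2 ⟨hB, hTsub.2⟩) B₁ (mem_filter.2 ⟨h₁, hTsub.1⟩)
  have hne : B₂ ∈ ℬ.erase B₁ := by
    refine mem_erase.2 ⟨?_, h₂⟩
    rintro rfl
    exact hmeet (by rw [inter_self, ← card_pos, hseven B₂ h₂]; omega)
  have h0 : B₁ ∩ B₂ = ∅ := not_nonempty_iff_eq_empty.1 hmeet
  rw [← add_sum_erase _ _ h₁, inter_self, hseven B₁ h₁] at s1 s2 s3
  have hcard : (ℬ.erase B₁).card = 252 := by rw [card_erase_of_mem h₁, hb0]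
  have hlt : (∑ B ∈ ℬ.erase B₁, ((B₁ ∩ B).card.choose 1 + (B₁ ∩ B).card.choose 3)) <
      ∑ B ∈ ℬ.erase B₁, (1 + (B₁ ∩ B).card.choose 2) := by
    refine Finset.sum_lt_sum (fun B hB => ?_) ⟨B₂, hne, by simp [h0]⟩
    rcases key B (mem_of_mem_erase hB) with h | h
    · exact h
    · exact absurd h (mem_erase.1 hB).1
  simp only [Finset.sum_add_distrib, Finset.sum_const, smul_eq_mul, mul_one, hcard] at hlt
  simp only [show Nat.choose 7 1 = 7 from rfl, show Nat.choose 7 2 = 21 from rfl,
    show Nat.choose 7 3 = 35 from rfl] at s1 s2 s3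
  simp only [Nat.choose_one_right] at hlt s1
  omega

end Steiner

variable {G : Type*} [Group G]

/-- The members of `D` other than `x` that commute with `x`. -/
def near (D : Set G) (x : G) : Set G := {y | y ∈ D ∧ y ≠ x ∧ Commute x y}

/-- The members commuting with both of two given ones. -/
def common (D : Set G) (a d : G) : Set G := near D a ∩ near D d

/-- What the centraliser of one member contributes, stated at every member. -/
structure Hyp (D : Set G) : Prop where
  nonempty : D.Nonempty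
  sq : ∀ x ∈ D, x * x = 1
  ne_one : ∀ x ∈ D, x ≠ 1
  conj : ∀ x ∈ D, ∀ g : G, g * x * g⁻¹ ∈ D
  nearNe : ∀ x ∈ D, (near D x).Nonempty
  /-- Members near one member satisfy the braid relation or commute. -/
  braid : ∀ x ∈ D, ∀ a ∈ near D x, ∀ b ∈ near D x, ¬ Commute a b → a * b * a = b * a * b
  /-- 693 members are near both of two commuting members. -/
  odd : ∀ a ∈ D, ∀ d ∈ near D a, Odd (common D a d).ncard
  /-- One lift of each member. -/
  prodNot : ∀ a ∈ D, ∀ d ∈ near D a, a * d ∉ D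
  /-- The product of a commuting pair is not a member. -/
  pairNe : ∀ x ∈ D, ∀ a ∈ near D x, ∀ b ∈ near D x, a ≠ b → Commute a b →
    ∀ c ∈ near D x, a * b ≠ c * x
  /-- A product of three members is not a product of two. -/
  tripNe : ∀ x ∈ D, ∀ a ∈ near D x, ∀ b ∈ near D x, ∀ c ∈ near D x, ∀ p ∈ near D x,
    ∀ q ∈ near D x, a ≠ b → a ≠ c → b ≠ c → Commute a b → Commute a c → Commute b c →
    p ≠ q → Commute p q → a * b * c ≠ x * (p * q)
  /-- The product of a commuting pair determines the pair. -/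
  pairUniq : ∀ f ∈ D, ∀ a ∈ near D f, ∀ d ∈ near D f, a ≠ d → Commute a d →
    ∀ g : G, Commute g f → Commute g (a * d) → g * a * g⁻¹ = a ∨ g * a * g⁻¹ = d
  /-- A relation of odd length through every commuting pair. -/
  seven : ∀ a ∈ D, ∀ d ∈ near D a, ∃ l : List G, Odd l.length ∧
    (∀ f ∈ l, f ∈ common D a d) ∧ a * d * l.prod = 1
  /-- The centraliser of a commuting pair has no odd subgroup normalised by the common members. -/
  oddLocal : ∀ a ∈ D, ∀ d ∈ near D a, ∀ O : Subgroup G, Odd (Nat.card O) →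
    (∀ o ∈ O, Commute o a ∧ Commute o d) →
    (∀ f ∈ common D a d, ∀ o ∈ O, f * o * f⁻¹ ∈ O) → O = ⊥
  /-- Three pairwise commuting members have a further member commuting with all. -/
  four : ∀ a ∈ D, ∀ d ∈ near D a, ∀ f ∈ common D a d,
    ∃ g ∈ common D a d, g ≠ f ∧ Commute f g
  /-- Two members near one that do not commute have a common neighbour near it. -/
  mu : ∀ a ∈ D, ∀ c ∈ near D a, ∀ y ∈ near D a, ¬ Commute c y →
    ∃ b ∈ near D a, Commute b c ∧ Commute b y
  /-- Twenty-three pairwise commuting members through four, with the hexads at each point: a member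
  near `x` outside commutes with none or six of the others; three points are in one hexad; if it
  commutes with none, any two points have a neighbour of it near `x`. -/
  clique : ∀ y ∈ D, ∀ a ∈ near D y, ∀ b ∈ near D y, ∀ c ∈ near D y, Commute a b → Commute a c →
    Commute b c → ∃ K : Set G, y ∈ K ∧ a ∈ K ∧ b ∈ K ∧ c ∈ K ∧ K ⊆ D ∧ K.ncard = 23 ∧
    (∀ k ∈ K, ∀ k' ∈ K, Commute k k') ∧
    ∀ x ∈ K, (∀ q ∈ near D x, q ∉ K → (∃ k ∈ K, k ≠ x ∧ Commute k q) →
        {k | k ∈ K ∧ k ≠ x ∧ Commute k q}.ncard = 6) ∧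
      (∀ i ∈ K, ∀ j ∈ K, ∀ k ∈ K, i ≠ x → j ≠ x → k ≠ x → i ≠ j → i ≠ k → j ≠ k →
        ∃ q ∈ near D x, q ∉ K ∧ Commute i q ∧ Commute j q ∧ Commute k q ∧
          ∀ q' ∈ near D x, q' ∉ K → Commute i q' → Commute j q' → Commute k q' →
            ∀ w ∈ K, Commute w q' ↔ Commute w q) ∧
      ∀ q ∈ near D x, q ∉ K → (∀ k ∈ K, k ≠ x → ¬ Commute k q) →
        ∀ i ∈ K, ∀ j ∈ K, i ≠ x → j ≠ x → i ≠ j →
          ∃ r ∈ near D x, Commute r q ∧ Commute r i ∧ Commute r j
  /-- The members near one member form one class of its centraliser. -/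
  cls : ∀ f ∈ D, ∀ a ∈ near D f, ∀ b ∈ near D f, ∃ g : G, Commute g f ∧ g * a * g⁻¹ = b
  /-- The members near one member generate its centraliser. -/
  gen : ∀ f ∈ D, ∀ g : G, Commute g f → g ∈ Subgroup.closure (near D f)
  /-- The centre of the centraliser of `x` is generated by `x`. -/
  centre : ∀ x ∈ D, ∀ z : G, Commute z x → (∀ g : G, Commute g x → Commute z g) → z = 1 ∨ z = x

theorem conj_self_inv {x : G} (h : x * x = 1) : x⁻¹ = x := inv_eq_of_mul_eq_one_right h

theorem commute_conj (g : G) {x y : G} (h : Commute x y) :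
    Commute (g * x * g⁻¹) (g * y * g⁻¹) := h.conj g

namespace Hyp

variable {D : Set G} (H : Hyp D)
include H

theorem mem_near_symm {x y : G} (hx : x ∈ D) (hy : y ∈ near D x) : x ∈ near D y :=
  ⟨hx, hy.2.1.symm, hy.2.2.symm⟩

theorem mem_near_conj (g : G) {x y : G} (hy : y ∈ near D x) :
    g * y * g⁻¹ ∈ near D (g * x * g⁻¹) :=
  ⟨H.conj _ hy.1 g, fun h => hy.2.1 (mul_left_cancel (mul_right_cancel h)), commute_conj g hy.2.2⟩

theorem common_conj (g : G) {a d f : G} (hf : f ∈ common D a d) :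
    g * f * g⁻¹ ∈ common D (g * a * g⁻¹) (g * d * g⁻¹) :=
  ⟨H.mem_near_conj g hf.1, H.mem_near_conj g hf.2⟩

/-- An element exchanging a commuting pair, with square centralising the common members, fixes one
of them. -/
theorem exists_fixed [Finite G] {a d g : G} (ha : a ∈ D) (hd : d ∈ near D a)
    (h1 : g * a * g⁻¹ = d) (h2 : g * d * g⁻¹ = a) (hg : g * g = 1) :
    ∃ f ∈ common D a d, Commute g f := by
  classical
  set N := common D a d
  let e : N → N := fun f => ⟨g * f * g⁻¹, by
    have := H.common_conj g f.2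
    rw [h1, h2] at this
    exact ⟨this.2, this.1⟩⟩
  have hinv : Function.Involutive e := fun f => Subtype.ext (by
    show g * (g * (f : G) * g⁻¹) * g⁻¹ = f
    calc g * (g * (f : G) * g⁻¹) * g⁻¹ = (g * g) * f * (g * g)⁻¹ := by group
      _ = f := by rw [hg, one_mul, inv_one, mul_one])
  have := Fintype.ofFinite N
  have hodd : ¬ 2 ∣ Fintype.card N := by
    rw [← Nat.card_eq_fintype_card, Nat.card_coe_set_eq]
    exact Nat.two_dvd_ne_zero.2 (Nat.odd_iff.1 (H.odd a ha d hd))
  obtain ⟨f, hf⟩ := Equiv.Perm.exists_fixed_point_of_prime (p := 2) (n := 1) hodd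
    (σ := hinv.toPerm) (by rw [pow_one]; exact Equiv.ext fun f => by simp [pow_two, hinv f])
  exact ⟨f, f.2, mul_inv_eq_iff_eq_mul.1 (congrArg Subtype.val hf)⟩

/-- No member exchanges two commuting members. -/
theorem noSwap [Finite G] {g a : G} (hg : g ∈ D) (ha : a ∈ D)
    (hc : Commute a (g * a * g⁻¹)) : g * a * g⁻¹ = a := by
  by_contra hne
  set d := g * a * g⁻¹ with hd
  have hgg := H.sq g hg
  have hgi := conj_self_inv hgg
  have hda : g * d * g⁻¹ = a := by
    rw [hd]
    calc g * (g * a * g⁻¹) * g⁻¹ = (g * g) * a * (g * g)⁻¹ := by group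
      _ = a := by rw [hgg, one_mul, inv_one, mul_one]
  have hdn : d ∈ near D a := ⟨H.conj a ha g, hne, hc⟩
  obtain ⟨f, hf, hgf⟩ := H.exists_fixed ha hdn hd.symm hda hgg
  have hgf' : g ≠ f := by
    rintro rfl
    exact hne (by rw [hd, ← hf.1.2.2.eq, mul_inv_cancel_right])
  have hgd : ¬ Commute g d := fun h => hne (by
    calc d = g * d * g⁻¹ := by rw [h.eq, mul_inv_cancel_right]
      _ = a := hda)
  have hfD : f ∈ D := hf.1.1
  have hb := H.braid f hfD g ⟨hg, hgf', hgf.symm⟩ d (H.mem_near_symm hdn.1 hf.2) hgd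
  have hgdg : g * d * g = a := by
    nth_rewrite 2 [← hgi]
    exact hda
  have hdd := H.sq d hdn.1
  -- then `g = a`
  have hga : g = a := by
    have h3 : g = d * a * d := by
      calc g = (d * d) * g * (d * d) := by rw [hdd, one_mul, mul_one]
        _ = d * (d * g * d) * d := by group
        _ = d * a * d := by rw [← hb, hgdg]
    rw [h3, ← hc.eq, mul_assoc, hdd, mul_one]
  exact hgd (hga ▸ hdn.2.2)

theorem noSwap_pair [Finite G] {g a d : G} (hg : g ∈ D) (ha : a ∈ D) (hd : d ∈ near D a)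
    (h : g * a * g⁻¹ = a ∨ g * a * g⁻¹ = d) : Commute g a := by
  rcases h with h | h
  · exact mul_inv_eq_iff_eq_mul.1 h
  · exact absurd ((H.noSwap hg ha (h.symm ▸ hd.2.2)).symm.trans h) hd.2.1.symm

/-- A conjugate of `a` in the centraliser of `a * d` commuting with `a` is `a` or `d`. -/
theorem commuting_conj [Finite G] {a d g : G} (ha : a ∈ D) (hd : d ∈ near D a)
    (hg : Commute g (a * d)) (hc : Commute a (g * a * g⁻¹)) :
    g * a * g⁻¹ = a ∨ g * a * g⁻¹ = d := by
  by_contra! hne
  set a' := g * a * g⁻¹ with ha'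
  set d' := g * d * g⁻¹ with hd'
  have hh : a' * d' = a * d := by
    rw [ha', hd', show g * a * g⁻¹ * (g * d * g⁻¹) = g * (a * d) * g⁻¹ by group, hg.eq,
      mul_inv_cancel_right]
  have haa : a' * a' = 1 := H.sq _ (H.conj a ha g)
  have hd'2 : d' = a' * (a * d) := by rw [← hh, ← mul_assoc, haa, one_mul]
  have hcd : Commute a' d := by
    have h1 : Commute a' (a * d) := by
      rw [← hh]
      exact (Commute.refl a').mul_right (commute_conj g hd.2.2)
    have h2 := hc.symm.mul_right h1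
    rwa [← mul_assoc, H.sq a ha, one_mul] at h2
  have hca : Commute a d' := by
    rw [hd'2]
    exact hc.mul_right ((Commute.refl a).mul_right hd.2.2)
  have hd'a : d' ≠ a := by
    intro h
    refine hne.2 ?_
    calc a' = a' * d' * d' := by rw [mul_assoc, H.sq d' (H.conj d hd.1 g), mul_one]
      _ = a * d * a := by rw [hh, h]
      _ = d := by rw [hd.2.2.eq, mul_assoc, H.sq a ha, mul_one]
  refine H.pairNe a ha a' ⟨H.conj a ha g, hne.1, hc⟩ d hd hne.2 hcd d'
    ⟨H.conj d hd.1 g, hd'a, hca⟩ ?_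
  rw [hd'2, hd.2.2.eq, mul_assoc a' (d * a) a, mul_assoc d a a, H.sq a ha, mul_one]

omit H in
/-- Conjugation by a product of elements inverting `o`. -/
theorem conj_list_prod {o : G} : ∀ l : List G, (∀ f ∈ l, f * o * f⁻¹ = o⁻¹) →
    l.prod * o * l.prod⁻¹ = o ^ ((-1 : ℤ) ^ l.length) := by
  intro l
  induction l with
  | nil => intro _; simp
  | cons x t ih =>
    intro h
    rw [List.prod_cons, List.length_cons, pow_succ, mul_neg, mul_one]
    calc x * t.prod * o * (x * t.prod)⁻¹ = x * (t.prod * o * t.prod⁻¹) * x⁻¹ := by group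
      _ = (x * o * x⁻¹) ^ ((-1 : ℤ) ^ t.length) := by
        rw [ih fun f hf => h f (List.mem_cons_of_mem _ hf), conj_zpow]
      _ = o ^ (-(-1 : ℤ) ^ t.length) := by rw [h x List.mem_cons_self, inv_zpow, zpow_neg]

/-- The centraliser of the product of two commuting members permutes them. -/
theorem pairCent [Finite G] {a d g : G} (ha : a ∈ D) (hd : d ∈ near D a)
    (hg : Commute g (a * d)) : g * a * g⁻¹ = a ∨ g * a * g⁻¹ = d := by
  classical
  set h := a * d with hh
  have had := hd.2.2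
  have hh1 : h ≠ 1 := fun e => hd.2.1 (by
    rw [← conj_self_inv (H.sq a ha)]; exact eq_inv_of_mul_eq_one_right e)
  have hh2 : h * h = 1 := by
    rw [hh, mul_assoc, ← mul_assoc d, ← had.eq, mul_assoc a d d, H.sq d hd.1, mul_one,
      H.sq a ha]
  let X := Subgroup.centralizer ({h} : Set G)
  have hmemX : ∀ {v : G}, v ∈ X ↔ Commute v h := fun {v} => Subgroup.mem_centralizer_singleton_iff
  let hX : X := ⟨h, hmemX.2 (Commute.refl h)⟩
  let aX : X := ⟨a, hmemX.2 ((Commute.refl a).mul_right had)⟩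
  let Z : Subgroup X := Subgroup.zpowers hX
  have hZmem : ∀ v : X, v ∈ Z → (v : G) = 1 ∨ (v : G) = h := by
    intro v hv
    obtain ⟨k, rfl⟩ := Subgroup.mem_zpowers_iff.1 hv
    have h2 : hX ^ (2 : ℤ) = 1 := Subtype.ext (by simp [hX, pow_two, hh2])
    rcases Int.even_or_odd k with ⟨j, rfl⟩ | ⟨j, rfl⟩
    · left
      rw [← two_mul, zpow_mul, h2, one_zpow]; rfl
    · right
      rw [zpow_add_one, zpow_mul, h2, one_zpow, one_mul]
  have hcen : ∀ v : X, Commute hX v := fun v => Subtype.ext (hmemX.1 v.2).eq.symm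
  have hZn : Z.Normal := ⟨fun v hv x => by
    obtain ⟨k, rfl⟩ := Subgroup.mem_zpowers_iff.1 hv
    rw [← ((hcen x).zpow_left k).eq, mul_inv_cancel_right]
    exact Subgroup.zpow_mem _ (Subgroup.mem_zpowers _) k⟩
  -- `a` is isolated modulo `h`
  have hiso : IsIsolatedInvolution (QuotientGroup.mk' Z aX) := by
    refine ⟨orderOf_eq_prime ?_ ?_, ?_⟩
    · rw [← map_pow, show aX ^ 2 = 1 from Subtype.ext ((pow_two a).trans (H.sq a ha)), map_one]
    · intro e
      rcases hZmem aX ((QuotientGroup.eq_one_iff _).1 e) with e' | e'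
      · exact H.ne_one a ha e'
      · exact H.ne_one d hd.1 (mul_left_cancel (a := a) (e'.symm.trans (mul_one a).symm))
    · intro w hw
      obtain ⟨x, rfl⟩ := QuotientGroup.mk'_surjective Z w
      have hx : Commute (x : G) h := hmemX.1 x.2
      set a' := (x : G) * a * (x : G)⁻¹ with ha'
      have ha'D : a' ∈ D := H.conj a ha _
      have hw' : (aX * (x * aX * x⁻¹))⁻¹ * ((x * aX * x⁻¹) * aX) ∈ Z := by
        refine QuotientGroup.eq.1 ?_
        exact hw.eq
      have hcomm : Commute a a' := by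
        rcases hZmem _ hw' with e | e
        · exact inv_mul_eq_one.1 e
        · -- then `a'` exchanges `a` and `d`
          have e2 : a' * a = a * a' * h := by
            rw [← e]; exact (mul_inv_cancel_left _ _).symm
          have h3 : a' * a * a'⁻¹ = d := by
            have hha' : Commute a' h := by
              rw [ha']
              have := commute_conj (x : G) ((Commute.refl a).mul_right had : Commute a h)
              rwa [hx.eq, mul_inv_cancel_right] at this
            rw [e2, mul_assoc a a' h, hha'.eq, mul_assoc a (h * a'), mul_inv_cancel_right, hh,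
              ← mul_assoc, H.sq a ha, one_mul]
          exact absurd (h3.symm.trans (H.noSwap ha'D ha (h3.symm ▸ had))) hd.2.1
      rw [← map_inv, ← map_mul, ← map_mul]
      rcases H.commuting_conj ha hd hx hcomm with e | e
      · exact congrArg _ (Subtype.ext e)
      · refine QuotientGroup.eq.2 ?_
        have : (x * aX * x⁻¹)⁻¹ * aX = hX := by
          refine Subtype.ext ?_
          show ((x : G) * a * (x : G)⁻¹)⁻¹ * a = h
          rw [e, conj_self_inv (H.sq d hd.1), hh, had.eq]
        rw [this]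
        exact Subgroup.mem_zpowers _
  obtain ⟨N, hNn, hNodd, hN⟩ := ZStarTheorem.exists_odd_normal hiso
  set n := Nat.card N with hn
  have hKpow : ∀ k : X, QuotientGroup.mk' Z k ∈ N → (k : G) ^ n = 1 ∨ (k : G) ^ n = h := by
    intro k hk
    have hk1 : QuotientGroup.mk' Z (k ^ n) = 1 := by
      rw [map_pow]
      exact orderOf_dvd_iff_pow_eq_one.1 (Subgroup.orderOf_dvd_natCard _ hk)
    simpa using hZmem _ ((QuotientGroup.eq_one_iff _).1 hk1)
  -- the `n`th power is multiplicative on the preimage of `N`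
  let K : Subgroup X := N.comap (QuotientGroup.mk' Z)
  have hmulpow : ∀ u ∈ K, ∀ v ∈ K, (u * v) ^ n = u ^ n * v ^ n := by
    intro u hu v hv
    have hcK : ∀ w : K, w ^ n ∈ Subgroup.center K := by
      intro w
      rw [Subgroup.mem_center_iff]
      intro z
      refine Subtype.ext (Subtype.ext ?_)
      have hz : Commute ((z : X) : G) h := hmemX.1 (z : X).2
      rcases hKpow (w : X) w.2 with e | e <;> simp [e, hz.eq]
    have hdvd : (Subgroup.center K).index ∣ n := by
      let ZK : Subgroup K := Z.subgroupOf K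
      have h1 : ZK ≤ Subgroup.center K := fun w hw => by
        rw [Subgroup.mem_center_iff]
        intro z
        refine Subtype.ext ?_
        obtain ⟨k, hk⟩ := Subgroup.mem_zpowers_iff.1 (Subgroup.mem_subgroupOf.1 hw)
        show (z : X) * (w : X) = (w : X) * (z : X)
        rw [← hk]
        exact ((hcen _).zpow_left k).eq.symm
      refine (Subgroup.index_dvd_of_le h1).trans ?_
      have h2 : ZK.index = n := by
        show (Z.subgroupOf K).index = n
        rw [← QuotientGroup.ker_mk' Z, ← Subgroup.relIndex, Subgroup.relIndex_ker]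
        rw [hn, Subgroup.map_comap_eq_self_of_surjective (QuotientGroup.mk'_surjective Z) N]
      exact h2 ▸ dvd_rfl
    obtain ⟨m, hm⟩ := hdvd
    have key : ((⟨u, hu⟩ : K) * ⟨v, hv⟩) ^ n = (⟨u, hu⟩ : K) ^ n * ⟨v, hv⟩ ^ n := by
      have htr : ∀ w : K, (((MonoidHom.transferCenterPow K) w : Subgroup.center K) : K) =
          w ^ (Subgroup.center K).index := fun w => rfl
      have hmap := congrArg Subtype.val
        ((MonoidHom.transferCenterPow K).map_mul ⟨u, hu⟩ ⟨v, hv⟩)
      rw [Subgroup.coe_mul, htr, htr, htr] at hmap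
      have hcomm : Commute ((⟨u, hu⟩ : K) ^ (Subgroup.center K).index)
          ((⟨v, hv⟩ : K) ^ (Subgroup.center K).index) := by
        rw [← htr]
        exact (Subgroup.mem_center_iff.1 ((MonoidHom.transferCenterPow K) ⟨u, hu⟩).2 _).symm
      rw [hm, pow_mul, pow_mul, pow_mul, hmap, hcomm.mul_pow]
    simpa using congrArg Subtype.val key
  let O : Subgroup G :=
    { carrier := {x | ∃ k ∈ K, (k : X) ^ n = 1 ∧ (k : G) = x}
      one_mem' := ⟨1, one_mem _, one_pow _, rfl⟩
      mul_mem' := by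
        rintro _ _ ⟨u, hu, hu1, rfl⟩ ⟨v, hv, hv1, rfl⟩
        exact ⟨u * v, mul_mem hu hv, by rw [hmulpow u hu v hv, hu1, hv1, one_mul], rfl⟩
      inv_mem' := by
        rintro _ ⟨u, hu, hu1, rfl⟩
        exact ⟨u⁻¹, inv_mem hu, by rw [inv_pow, hu1, inv_one], rfl⟩ }
  have hOn : ∀ v : X, ∀ o ∈ O, (v : G) * o * (v : G)⁻¹ ∈ O := by
    rintro v _ ⟨u, hu, hu1, rfl⟩
    refine ⟨v * u * v⁻¹, ?_, by rw [conj_pow, hu1, mul_one, mul_inv_cancel], rfl⟩
    show QuotientGroup.mk' Z (v * u * v⁻¹) ∈ N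
    rw [map_mul, map_mul, map_inv]
    exact hNn.conj_mem _ hu _
  have hOh : ∀ o ∈ O, Commute o h := by
    rintro _ ⟨u, -, -, rfl⟩
    exact hmemX.1 u.2
  have hOord : ∀ o ∈ O, o ^ n = 1 := by
    rintro _ ⟨u, -, hu1, rfl⟩
    simpa using congrArg Subtype.val hu1
  -- an involution normalising `O` without fixed points inverts it
  have hinvert : ∀ t : G, (∀ o ∈ O, t * o * t⁻¹ ∈ O) → t * t = 1 →
      (∀ o ∈ O, Commute t o → o = 1) → ∀ o ∈ O, t * o * t⁻¹ = o⁻¹ := by
    intro t ht htt hfix o ho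
    have := Fintype.ofFinite O
    let m : O → O := fun o => ⟨(o : G)⁻¹ * (t * o * t⁻¹), mul_mem (inv_mem o.2) (ht o o.2)⟩
    have hmi : Function.Injective m := by
      intro o₁ o₂ e
      have e' : (o₁ : G)⁻¹ * (t * o₁ * t⁻¹) = (o₂ : G)⁻¹ * (t * o₂ * t⁻¹) :=
        congrArg Subtype.val e
      have hfx : Commute t ((o₂ : G) * (o₁ : G)⁻¹) := by
        refine mul_inv_eq_iff_eq_mul.1 ?_
        calc t * ((o₂ : G) * (o₁ : G)⁻¹) * t⁻¹
            = (t * o₂ * t⁻¹) * (t * o₁ * t⁻¹)⁻¹ := by group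
          _ = (o₂ : G) * ((o₂ : G)⁻¹ * (t * o₂ * t⁻¹)) * (t * o₁ * t⁻¹)⁻¹ := by group
          _ = (o₂ : G) * ((o₁ : G)⁻¹ * (t * o₁ * t⁻¹)) * (t * o₁ * t⁻¹)⁻¹ := by rw [e']
          _ = (o₂ : G) * (o₁ : G)⁻¹ := by group
      exact (Subtype.ext (mul_inv_eq_one.1 (hfix _ (mul_mem o₂.2 (inv_mem o₁.2)) hfx))).symm
    obtain ⟨p, hp⟩ := (Finite.injective_iff_surjective.1 hmi) ⟨o, ho⟩
    have hp' : (p : G)⁻¹ * (t * p * t⁻¹) = o := congrArg Subtype.val hp
    rw [← hp']
    calc t * ((p : G)⁻¹ * (t * p * t⁻¹)) * t⁻¹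
        = (t * p * t⁻¹)⁻¹ * ((t * t) * p * (t * t)⁻¹) := by group
      _ = ((p : G)⁻¹ * (t * p * t⁻¹))⁻¹ := by
        rw [htt, one_mul, inv_one, mul_one]; group
  have hOodd : Odd (Nat.card O) := by
    rw [Nat.odd_iff, ← Nat.two_dvd_ne_zero]
    intro h2
    have : Fact (Nat.Prime 2) := ⟨Nat.prime_two⟩
    obtain ⟨o, ho⟩ := exists_prime_orderOf_dvd_card' 2 h2
    have h3 : orderOf o ∣ n := orderOf_dvd_of_pow_eq_one (Subtype.ext (by
      simpa using hOord o o.2))
    rw [ho] at h3
    exact Nat.not_even_iff_odd.2 hNodd (even_iff_two_dvd.2 h3)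
  have hnd : n = n / 2 * 2 + 1 := by
    have := Nat.odd_iff.1 hNodd; omega
  have hCa : ∀ o ∈ O, Commute a o → o = 1 := by
    let O' : Subgroup G := O ⊓ Subgroup.centralizer {a}
    have hO' : O' = ⊥ := by
      refine H.oddLocal a ha d hd O' (hOodd.of_dvd_nat (Subgroup.card_dvd_of_le inf_le_left))
        (fun o ho => ?_) fun f hf o ho => ?_
      · have hoa : Commute o a := Subgroup.mem_centralizer_singleton_iff.1 ho.2
        have h2 := hoa.mul_right (hOh o ho.1)
        rw [hh, ← mul_assoc, H.sq a ha, one_mul] at h2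
        exact ⟨hoa, h2⟩
      · have hfh : Commute f h := (hf.1.2.2.symm).mul_right hf.2.2.2.symm
        refine ⟨hOn ⟨f, hmemX.2 hfh⟩ o ho.1, ?_⟩
        refine Subgroup.mem_centralizer_singleton_iff.2 ?_
        have hoa : Commute o a := Subgroup.mem_centralizer_singleton_iff.1 ho.2
        exact ((hf.1.2.2.symm.mul_left hoa).mul_left hf.1.2.2.symm.inv_left).eq
    intro o ho hao
    rw [← Subgroup.mem_bot, ← hO']
    exact ⟨ho, Subgroup.mem_centralizer_singleton_iff.2 hao.symm.eq⟩
  have hO : O = ⊥ := by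
    rw [Subgroup.eq_bot_iff_forall]
    intro o ho
    obtain ⟨l, hl, hmem, hrel⟩ := H.seven a ha d hd
    have hf : ∀ f ∈ l, f * o * f⁻¹ = o⁻¹ := by
      intro f hfl
      have hfN := hmem f hfl
      have hfh : Commute f h := (hfN.1.2.2.symm).mul_right hfN.2.2.2.symm
      refine hinvert f (fun o ho => hOn ⟨f, hmemX.2 hfh⟩ o ho) (H.sq f hfN.1.1)
        (fun p hp hfp => ?_) o ho
      refine hCa p hp ?_
      have haf := H.mem_near_symm ha hfN.1
      have hdf := H.mem_near_symm hd.1 hfN.2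
      -- squares centralise `a`
      have hsq : Commute (p * p) a := by
        have h1 := H.pairUniq f hfN.1.1 a haf d hdf hd.2.1.symm had p hfp.symm (hOh p hp)
        refine mul_inv_eq_iff_eq_mul.1 ?_
        rcases h1 with e | e
        · calc p * p * a * (p * p)⁻¹ = p * (p * a * p⁻¹) * p⁻¹ := by group
            _ = a := by rw [e, e]
        · have e2 : p * d * p⁻¹ = a := by
            have := (hOh p hp).eq
            calc p * d * p⁻¹ = (p * a * p⁻¹)⁻¹ * (p * h * p⁻¹) := by rw [hh]; group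
              _ = d⁻¹ * h := by rw [e, this, mul_inv_cancel_right]
              _ = a := by rw [conj_self_inv (H.sq d hd.1), hh, had.eq, ← mul_assoc,
                H.sq d hd.1, one_mul]
          calc p * p * a * (p * p)⁻¹ = p * (p * a * p⁻¹) * p⁻¹ := by group
            _ = a := by rw [e, e2]
      have hp2 : Commute p a := by
        have : p = ((p * p) ^ (n / 2 + 1)) := by
          rw [← pow_two, ← pow_mul, show 2 * (n / 2 + 1) = n + 1 by omega, pow_succ, hOord p hp,
            one_mul]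
        rw [this]
        exact hsq.pow_left _
      exact hp2.symm
    have hprod := conj_list_prod (o := o) l hf
    have hlp : l.prod = h⁻¹ := eq_inv_of_mul_eq_one_right hrel
    rw [Odd.neg_one_pow hl, zpow_neg_one, hlp, inv_inv, (hOh o ho).symm.inv_left.eq,
      mul_assoc, inv_mul_cancel, mul_one] at hprod
    have h2 : o * o = 1 := by nth_rewrite 2 [hprod]; exact mul_inv_cancel o
    calc o = o ^ (n / 2 * 2) * o := by rw [mul_comm (n / 2), pow_mul, pow_two, h2, one_pow, one_mul]
      _ = 1 := by rw [← pow_succ, ← hnd, hOord o ho]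
  -- conclusion
  let gX : X := ⟨g, hmemX.2 hg⟩
  set c := aX * gX * aX⁻¹ * gX⁻¹ with hc
  have hcK : c ∈ K := by
    show QuotientGroup.mk' Z c ∈ N
    simp only [hc, map_mul, map_inv]
    exact hN _
  have hc1 : (c : G) = 1 ∨ (c : G) = h := by
    rcases hKpow c hcK with e | e
    · left
      exact (Subgroup.eq_bot_iff_forall O).1 hO _ ⟨c, hcK, Subtype.ext (by simpa using e), rfl⟩
    · right
      have hmem : (c : G) * h ∈ O := by
        refine ⟨c * hX, mul_mem hcK ?_, Subtype.ext ?_, rfl⟩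
        · show QuotientGroup.mk' Z hX ∈ N
          rw [show QuotientGroup.mk' Z hX = 1 from
            (QuotientGroup.eq_one_iff _).2 (Subgroup.mem_zpowers _)]
          exact one_mem _
        · have hh3 : h ^ n = h := by
            rw [hnd, pow_succ, mul_comm (n / 2), pow_mul, pow_two, hh2, one_pow, one_mul]
          have hch : Commute (c : G) h := hmemX.1 c.2
          show ((c * hX : X) ^ n : X).1 = (1 : X).1
          simp only [SubgroupClass.coe_pow, Subgroup.coe_mul, OneMemClass.coe_one]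
          rw [show ((hX : X) : G) = h from rfl, hch.mul_pow, e, hh3, hh2]
      have := (Subgroup.eq_bot_iff_forall O).1 hO _ hmem
      rw [← conj_self_inv hh2]
      exact eq_inv_of_mul_eq_one_left this
  have hval : g * a * g⁻¹ = a⁻¹ * ((c : X) : G) := by
    have : ((c : X) : G) = a * g * a⁻¹ * g⁻¹ := rfl
    rw [this, show a⁻¹ * (a * g * a⁻¹ * g⁻¹) = g * a⁻¹ * g⁻¹ by group,
      conj_self_inv (H.sq a ha)]
  rw [hval, conj_self_inv (H.sq a ha)]
  rcases hc1 with e | e
  · left; rw [e, mul_one]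
  · right; rw [e, hh, ← mul_assoc, H.sq a ha, one_mul]

/-- A member centralising the product of two commuting members centralises both. -/
theorem pair_member [Finite G] {a d f : G} (ha : a ∈ D) (hd : d ∈ near D a) (hf : f ∈ D)
    (h : Commute f (a * d)) : Commute f a ∧ Commute f d := by
  have h1 := H.noSwap_pair hf ha hd (H.pairCent ha hd h)
  refine ⟨h1, ?_⟩
  have h2 := h1.mul_right h
  rwa [← mul_assoc, H.sq a ha, one_mul] at h2

/-- Some member centralised by `u` is reachable from an adjacent pair whose product `u`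
centralises. -/
theorem fixed_of_cent [Finite G] {a d u : G} (ha : a ∈ D) (hd : d ∈ near D a) (hu : u * u = 1)
    (h : Commute u (a * d)) : ∃ f, (f = a ∨ f ∈ common D a d) ∧ Commute u f := by
  rcases H.pairCent ha hd h with e | e
  · exact ⟨a, Or.inl rfl, mul_inv_eq_iff_eq_mul.1 e⟩
  · have e2 : u * d * u⁻¹ = a := by
      rw [← e]
      calc u * (u * a * u⁻¹) * u⁻¹ = (u * u) * a * (u * u)⁻¹ := by group
        _ = a := by rw [hu, one_mul, inv_one, mul_one]
    obtain ⟨f, hf, hc⟩ := H.exists_fixed ha hd e e2 hu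
    exact ⟨f, Or.inr hf, hc⟩

end Hyp

/-- The component of `c` in the commuting graph. -/
def Reach (D : Set G) (c : G) : G → Prop := Relation.ReflTransGen (fun x y => y ∈ near D x) c

namespace Hyp

variable {D : Set G} (H : Hyp D)
include H

theorem reach_mem {c x : G} (hc : c ∈ D) (h : Reach D c x) : x ∈ D := by
  cases h with
  | refl => exact hc
  | tail _ h2 => exact h2.1

theorem reach_commute {c x y : G} (hx : Reach D c x) (hy : y ∈ D) (h : Commute x y) :
    Reach D c y := by
  by_cases e : y = x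
  · exact e ▸ hx
  · exact hx.tail ⟨hy, e, h⟩

/-- An outside member is linked to a member near both ends of each edge of the component. -/
theorem bridge [Finite G] {c e a d : G} (hc : c ∈ D) (he : e ∈ D) (hne : ¬ Reach D c e)
    (hra : Reach D c a) (hd : d ∈ near D a) :
    ∃ x : G, x * e * x⁻¹ ∈ common D a d ∧ Commute (x * e * x⁻¹ * a * d) e ∧
      ∀ v : G, Commute v (a * d) → Commute v e → Commute v x := by
  have ha := H.reach_mem hc hra
  have hrd : Reach D c d := hra.tail hd
  set z := a * d with hz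
  have hzz : z * z = 1 := by
    rw [hz, mul_assoc, ← mul_assoc d, ← hd.2.2.eq, mul_assoc a d, H.sq d hd.1, mul_one,
      H.sq a ha]
  have hee := H.sq e he
  have hzi := conj_self_inv hzz
  have hei := conj_self_inv hee
  set w := z * e with hw
  have hwinv : w⁻¹ = e * z := by rw [hw, mul_inv_rev, hei, hzi]
  have hzw : ∀ k : ℕ, z * w ^ k * z⁻¹ = (w ^ k)⁻¹ := fun k => by
    rw [← conj_pow, ← inv_pow, hwinv, hw, hzi, ← mul_assoc z z e, hzz, one_mul]
  have hew : ∀ k : ℕ, e * w ^ k * e⁻¹ = (w ^ k)⁻¹ := fun k => by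
    rw [← conj_pow, ← inv_pow, hwinv, hw, hei, mul_assoc e (z * e) e, mul_assoc z e e, hee,
      mul_one]
  have hcomm_w : ∀ v : G, Commute v (a * d) → Commute v e → ∀ k : ℕ, Commute v (w ^ k * z) :=
    fun v h1 h2 k => ((h1.mul_right h2).pow_right k).mul_right h1
  have hew' : ∀ k : ℕ, e * (w ^ k)⁻¹ = w ^ k * e := fun k => by
    refine mul_inv_eq_iff_eq_mul.1 ?_
    rw [show e * (w ^ k)⁻¹ * e⁻¹ = (e * w ^ k * e⁻¹)⁻¹ by group, hew, inv_inv]
  -- the order of `z * e` is even
  obtain ⟨m, hm⟩ : ∃ m, orderOf w = 2 * m := by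
    rcases Nat.even_or_odd (orderOf w) with ⟨m, hm⟩ | ⟨k, hk⟩
    · exact ⟨m, by omega⟩
    · refine absurd ?_ (H.prodNot a ha d hd)
      have hwk : w ^ k * w ^ k = w⁻¹ := eq_inv_of_mul_eq_one_left (by
        rw [← pow_add, ← pow_succ, show k + k + 1 = orderOf w by omega, pow_orderOf_eq_one])
      have h1 : w ^ k * e * (w ^ k)⁻¹ = e * z * e := by
        rw [mul_assoc (w ^ k) e, hew', ← mul_assoc, hwk, hwinv]
      have h2 := H.conj _ (h1 ▸ H.conj e he _) e
      rwa [show e * (e * z * e) * e⁻¹ = (e * e) * z by group, hee, one_mul] at h2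
  set u := w ^ m with hu
  have hord : 0 < orderOf w := orderOf_pos w
  have huu : u * u = 1 := by rw [hu, ← pow_add, ← two_mul, ← hm, pow_orderOf_eq_one]
  have hu1 : u ≠ 1 := pow_ne_one_of_lt_orderOf (by omega) (by omega)
  have hui := conj_self_inv huu
  have huz : Commute u z := (mul_inv_eq_iff_eq_mul.1 (by rw [hzw m, ← hu, hui])).symm
  have hue : Commute u e := (mul_inv_eq_iff_eq_mul.1 (by rw [hew m, ← hu, hui])).symm
  rcases Nat.even_or_odd m with ⟨k, hk⟩ | ⟨k, hk⟩
  · exfalso
    obtain ⟨f, hf, huf⟩ := H.fixed_of_cent ha hd huu huz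
    have hrf : Reach D c f := by
      rcases hf with rfl | hf
      · exact hra
      · exact hra.tail hf.1
    have hue' : u * e ∈ D := by
      have h1 : w ^ k * e * (w ^ k)⁻¹ = u * e := by
        rw [mul_assoc (w ^ k) e, hew', ← mul_assoc, ← pow_add, ← hk]
      exact h1 ▸ H.conj e he _
    have hnear : u * e ∈ near D e :=
      ⟨hue', fun h => hu1 (mul_eq_right.1 h), hue.symm.mul_right (Commute.refl e)⟩
    have hu' : u = e * (u * e) := by rw [← mul_assoc, ← hue.eq, mul_assoc, hee, mul_one]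
    have h3 := (H.pair_member he hnear (H.reach_mem hc hrf) (hu' ▸ huf.symm)).1
    exact hne (H.reach_commute hrf he h3)
  · set x := w ^ k * z with hx
    have hxe : x * e * x⁻¹ = u * z := by
      have h1 := hzw k
      calc x * e * x⁻¹ = w ^ k * (z * e) * (z⁻¹ * (w ^ k)⁻¹ * z) * z⁻¹ := by rw [hx]; group
        _ = w ^ k * w * (z * (w ^ k)⁻¹ * z⁻¹) * z := by rw [hzi, hw]
        _ = w ^ k * w * w ^ k * z := by
          rw [show z * (w ^ k)⁻¹ * z⁻¹ = (z * w ^ k * z⁻¹)⁻¹ by group, h1, inv_inv]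
        _ = u * z := by
          rw [hu, hk, show 2 * k + 1 = k + 1 + k by omega, pow_add, pow_succ]
    set f := x * e * x⁻¹ with hf
    have hfD : f ∈ D := H.conj e he x
    have hfz : Commute f z := by rw [hxe]; exact huz.mul_left (Commute.refl z)
    obtain ⟨hfa, hfd⟩ := H.pair_member ha hd hfD hfz
    have huf : u = f * z := by rw [hxe, mul_assoc, hzz, mul_one]
    have hfa' : f ≠ a := fun h => by
      rw [h, hz, ← mul_assoc, H.sq a ha, one_mul] at huf
      exact hne (H.reach_commute hrd he (huf ▸ hue))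
    have hfd' : f ≠ d := fun h => by
      rw [h, hz, hd.2.2.eq, ← mul_assoc, H.sq d hd.1, one_mul] at huf
      exact hne (H.reach_commute hra he (huf ▸ hue))
    refine ⟨x, ⟨⟨hfD, hfa', hfa.symm⟩, ⟨hfD, hfd', hfd.symm⟩⟩, ?_,
      fun v h1 h2 => hcomm_w v h1 h2 k⟩
    rw [mul_assoc, ← hz, ← huf]
    exact hue

/-- A conjugate of `f` under the centraliser of `f * a * d` commuting with `a` is one of the
three. -/
theorem conj_trip [Finite G] {a d f x : G} (ha : a ∈ D) (hd : d ∈ near D a)
    (hf : f ∈ common D a d) (hx : Commute x (f * a * d)) (hc : Commute a (x * f * x⁻¹)) :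
    x * f * x⁻¹ = a ∨ x * f * x⁻¹ = f ∨ x * f * x⁻¹ = d := by
  by_contra! hne
  set f' := x * f * x⁻¹ with hf'
  have hfD : f ∈ D := hf.1.1
  have hf'D : f' ∈ D := H.conj f hfD x
  have hfa : Commute f a := hf.1.2.2.symm
  have hfd : Commute f d := hf.2.2.2.symm
  have hu : Commute f' (f * a * d) := by
    have := commute_conj x (((Commute.refl f).mul_right hfa).mul_right hfd : Commute f (f * a * d))
    rwa [hx.eq, mul_inv_cancel_right] at this
  have hfdc : Commute f' (f * d) := by
    have h2 := hc.symm.mul_right hu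
    rwa [show a * (f * a * d) = f * d by
      rw [hfa.eq, ← mul_assoc, ← mul_assoc, H.sq a ha, one_mul]] at h2
  have hdf : d ∈ near D f := H.mem_near_symm hd.1 hf.2
  obtain ⟨h1, h2⟩ := H.pair_member hfD hdf hf'D hfdc
  have haf : a ∈ near D f := H.mem_near_symm ha hf.1
  refine H.tripNe f' hf'D f ⟨hfD, hne.2.1.symm, h1⟩ a ⟨ha, hne.1.symm, hc.symm⟩ d
    ⟨hd.1, hne.2.2.symm, h2⟩ _ (H.mem_near_conj x haf) _ (H.mem_near_conj x hdf) hf.1.2.1
    hf.2.2.1 hd.2.1.symm hfa hfd hd.2.2 (fun e => hd.2.1 (mul_left_cancel (mul_right_cancel e)).symm)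
    (commute_conj x hd.2.2) ?_
  calc f * a * d = x * (f * a * d) * x⁻¹ := by rw [hx.eq, mul_inv_cancel_right]
    _ = _ := by rw [hf']; group

/-- The commuting graph is connected. -/
theorem connected [Finite G] {c e : G} (hc : c ∈ D) (he : e ∈ D) : Reach D c e := by
  by_contra hne
  obtain ⟨d, hd⟩ := H.nearNe c hc
  obtain ⟨x, hf, hu, hx⟩ := H.bridge hc he hne .refl hd
  set f := x * e * x⁻¹ with hfdef
  obtain ⟨g, hg, hgf, hfg⟩ := H.four c hc d hd f hf
  obtain ⟨y, hf₂, hu₂, hy⟩ := H.bridge hc he hne .refl hg.1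
  set f₂ := y * e * y⁻¹ with hf₂def
  set u := f * c * d with hudef
  have hcd := hd.2.2
  have hfc : Commute f c := hf.1.2.2.symm
  have hfd : Commute f d := hf.2.2.2.symm
  have hcg : Commute c g := hg.1.2.2
  have hdg : Commute d g := hg.2.2.2
  have huc : Commute u c := (hfc.mul_left (Commute.refl c)).mul_left hcd.symm
  have hug : Commute u g := (hfg.mul_left hcg).mul_left hdg
  have huz : Commute u (c * d) :=
    huc.mul_right ((hfd.mul_left hcd).mul_left (Commute.refl d))
  have hux : Commute u x := hx u huz hu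
  have huy : Commute u y := hy u (huc.mul_right hug) hu
  have hconj : (y * x⁻¹) * f * (y * x⁻¹)⁻¹ = f₂ := by rw [hfdef, hf₂def]; group
  have h2 : f₂ = f ∨ f₂ = d := by
    rcases H.conj_trip hc hd hf (huy.symm.mul_left hux.symm.inv_left)
      (by rw [hconj]; exact hf₂.1.2.2) with e' | e' | e' <;> rw [hconj] at e'
    · exact absurd e' hf₂.1.2.1
    · exact Or.inl e'
    · exact Or.inr e'
  have h3 : Commute (u * (f₂ * c * g)) e := Commute.mul_left hu hu₂
  rcases h2 with e' | e'
  · have h4 : u * (f₂ * c * g) = d * g := by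
      rw [e', hudef]
      calc f * c * d * (f * c * g) = (f * c) * (d * (f * c)) * g := by group
        _ = (f * c) * (f * c) * (d * g) := by
          rw [((hfd.mul_left hcd).symm).eq]; group
        _ = d * g := by
          rw [show f * c * (f * c) = f * f * (c * c) by
            rw [mul_assoc f c, ← mul_assoc c, ← hfc.eq]; group, H.sq f hf.1.1, H.sq c hc,
            one_mul, one_mul]
    rw [h4] at h3
    exact hne (H.reach_commute (Relation.ReflTransGen.single hd) he
      (H.pair_member hd.1 hg.2 he h3.symm).1.symm)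
  · have h4 : u * (f₂ * c * g) = f * g := by
      rw [e', hudef]
      calc f * c * d * (d * c * g) = f * (c * (d * d) * c) * g := by group
        _ = f * g := by rw [H.sq d hd.1, mul_one, H.sq c hc, mul_one]
    rw [h4] at h3
    exact hne (H.reach_commute (Relation.ReflTransGen.single hf.1) he
      (H.pair_member hf.1.1 ⟨hg.1.1, hgf, hfg⟩ he h3.symm).1.symm)

/-- In a clique, two members outside, each commuting with at least two of it, commute with a
common one of it. -/
theorem clique_meet [Finite G] {K : Set G} (hK23 : K.ncard = 23)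
    (hK : ∀ x ∈ K, (∀ q ∈ near D x, q ∉ K → (∃ k ∈ K, k ≠ x ∧ Commute k q) →
        {k | k ∈ K ∧ k ≠ x ∧ Commute k q}.ncard = 6) ∧
      (∀ i ∈ K, ∀ j ∈ K, ∀ k ∈ K, i ≠ x → j ≠ x → k ≠ x → i ≠ j → i ≠ k → j ≠ k →
        ∃ q ∈ near D x, q ∉ K ∧ Commute i q ∧ Commute j q ∧ Commute k q ∧
          ∀ q' ∈ near D x, q' ∉ K → Commute i q' → Commute j q' → Commute k q' →
            ∀ w ∈ K, Commute w q' ↔ Commute w q))
    {c q : G} (hcD : c ∈ D) (hqD : q ∈ D) (hcK : c ∉ K) (hqK : q ∉ K)
    (hc2 : ∃ k ∈ K, ∃ k' ∈ K, k ≠ k' ∧ Commute k c ∧ Commute k' c)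
    (hq2 : ∃ k ∈ K, ∃ k' ∈ K, k ≠ k' ∧ Commute k q ∧ Commute k' q) :
    ∃ w ∈ K, Commute w c ∧ Commute w q := by
  classical
  have hKfin : K.Finite := K.toFinite
  let KF := hKfin.toFinset
  have hKF : ∀ {v}, v ∈ KF ↔ v ∈ K := fun {v} => hKfin.mem_toFinset
  let blk : G → Finset G := fun q => KF.filter (fun k => Commute k q)
  let ℬ : Finset (Finset G) := (Set.toFinite
    {q | q ∈ D ∧ q ∉ K ∧ ∃ k ∈ K, ∃ k' ∈ K, k ≠ k' ∧ Commute k q ∧ Commute k' q}).toFinset.image blk
  have hℬ : ∀ B, B ∈ ℬ ↔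
      ∃ q, (q ∈ D ∧ q ∉ K ∧ ∃ k ∈ K, ∃ k' ∈ K, k ≠ k' ∧ Commute k q ∧ Commute k' q) ∧ blk q = B := by
    intro B; simp only [ℬ, Finset.mem_image, Set.Finite.mem_toFinset, Set.mem_setOf_eq]
  have hnear : ∀ {x q}, x ∈ K → q ∈ D → q ∉ K → Commute x q → q ∈ near D x :=
    fun hx hq hn hcq => ⟨hq, fun h => hn (h ▸ hx), hcq⟩
  have hseven : ∀ B ∈ ℬ, B.card = 7 := by
    intro B hB
    obtain ⟨q, ⟨hqD, hqK, x, hxK, x', hxK', hne, hxq, hxq'⟩, rfl⟩ := (hℬ B).1 hB
    have h6 := (hK x hxK).1 q (hnear hxK hqD hqK hxq) hqK ⟨x', hxK', hne.symm, hxq'⟩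
    have he : {k | k ∈ K ∧ k ≠ x ∧ Commute k q} = ↑((blk q).erase x) := by
      ext k; simp [blk, hKF]; tauto
    rw [he, Set.ncard_coe_finset, Finset.card_erase_of_mem
      (by simp [blk, hKF, hxK, hxq])] at h6
    omega
  have hone : ∀ T ⊆ KF, T.card = 4 → (ℬ.filter (fun B => T ⊆ B)).card = 1 := by
    intro T hT hTc
    obtain ⟨x, i, j, k, hxi, hxj, hxk, hij, hik, hjk, rfl⟩ := Finset.card_eq_four.1 hTc
    simp only [Finset.insert_subset_iff, Finset.singleton_subset_iff, hKF] at hT
    obtain ⟨hxK, hiK, hjK, hkK⟩ := hT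
    obtain ⟨q₀, hq₀, hq₀K, hiq, hjq, hkq, huniq⟩ :=
      (hK x hxK).2 i hiK j hjK k hkK hxi.symm hxj.symm hxk.symm hij hik hjk
    rw [Finset.card_eq_one]
    refine ⟨blk q₀, Finset.ext fun B => ?_⟩
    rw [Finset.mem_singleton, Finset.mem_filter, hℬ]
    constructor
    · rintro ⟨⟨q', ⟨hq'D, hq'K, -⟩, rfl⟩, hsub⟩
      simp only [Finset.insert_subset_iff, Finset.singleton_subset_iff, blk,
        Finset.mem_filter] at hsub
      obtain ⟨⟨-, hx'⟩, ⟨-, hi'⟩, ⟨-, hj'⟩, ⟨-, hk'⟩⟩ := hsub
      ext w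
      simp only [blk, Finset.mem_filter, hKF]
      exact and_congr_right fun hw =>
        huniq q' (hnear hxK hq'D hq'K hx') hq'K hi' hj' hk' w hw
    · rintro rfl
      refine ⟨⟨q₀, ⟨hq₀.1, hq₀K, x, hxK, i, hiK, hxi, hq₀.2.2, hiq⟩, rfl⟩, ?_⟩
      simp [Finset.insert_subset_iff, blk, hKF, hxK, hiK, hjK, hkK, hq₀.2.2, hiq, hjq, hkq]
  have hB1 : blk c ∈ ℬ := (hℬ _).2 ⟨c, ⟨hcD, hcK, hc2⟩, rfl⟩
  have hB2 : blk q ∈ ℬ := (hℬ _).2 ⟨q, ⟨hqD, hqK, hq2⟩, rfl⟩
  have hcard : KF.card = 23 := by rw [← Set.ncard_eq_toFinset_card K hKfin, hK23]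
  have hsub : ∀ B ∈ ℬ, B ⊆ KF := by
    intro B hB
    obtain ⟨q', -, rfl⟩ := (hℬ B).1 hB
    exact Finset.filter_subset _ _
  obtain ⟨w, hw⟩ := blocks_meet hcard hsub hseven hone hB1 hB2
  simp only [blk, Finset.mem_inter, Finset.mem_filter, hKF] at hw
  exact ⟨w, hw.1.1, hw.1.2, hw.2.2⟩

/-- The commuting graph has diameter two. -/
theorem two_steps [Finite G] {c e : G} (hc : c ∈ D) (he : e ∈ D) :
    ∃ w ∈ D, Commute c w ∧ Commute w e := by
  have hr := H.connected hc he
  clear he
  induction hr with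
  | refl => exact ⟨c, hc, Commute.refl c, Commute.refl c⟩
  | @tail y q hcy hyq ih =>
    have hyD := H.reach_mem hc hcy
    obtain ⟨a, haD, hca, hay⟩ := ih
    by_cases h1 : Commute c y
    · exact ⟨y, hyD, h1, hyq.2.2⟩
    by_cases h2 : Commute a q
    · exact ⟨a, haD, hca, h2⟩
    have hna : a ≠ y := fun h => h1 (h ▸ hca)
    have hya : y ∈ near D a := ⟨hyD, hna.symm, hay⟩
    have hac : c ∈ near D a := ⟨hc, fun h => h1 (h.symm ▸ hay), hca.symm⟩
    obtain ⟨b, hb, hbc, hby⟩ := H.mu a haD c hac y hya h1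
    have hby' : b ≠ y := fun h => h1 (h ▸ hbc).symm
    have hbn : b ∈ near D y := ⟨hb.1, hby', hby.symm⟩
    have han : a ∈ near D y := H.mem_near_symm haD hya
    obtain ⟨K, hyK, haK, hbK, -, hKD, hK23, hKc, hKb⟩ :=
      H.clique y hyD a han b hbn b hbn hb.2.2 hb.2.2 (Commute.refl b)
    have hcK : c ∉ K := fun h => h1 (hKc c h y hyK)
    have hqK : q ∉ K := fun h => h2 (hKc a haK q h)
    by_cases h3 : ∃ k ∈ K, k ≠ y ∧ Commute k q
    · obtain ⟨k, hkK, hky, hkq⟩ := h3
      obtain ⟨w, hw, hwc, hwq⟩ := H.clique_meet hK23 (fun x hx => ⟨(hKb x hx).1, (hKb x hx).2.1⟩)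
        hc hyq.1 hcK hqK ⟨a, haK, b, hbK, hb.2.1.symm, hca.symm, hbc⟩
        ⟨k, hkK, y, hyK, hky, hkq, hyq.2.2⟩
      exact ⟨w, hKD hw, hwc.symm, hwq⟩
    · push Not at h3
      obtain ⟨r, hr, hrq, hra, hrb⟩ :=
        (hKb y hyK).2.2 q hyq hqK h3 a haK b hbK hna hby' hb.2.1.symm
      obtain ⟨K', hyK', haK', hbK', hrK', hKD', hK23', hKc', hKb'⟩ :=
        H.clique y hyD a han b hbn r hr hb.2.2 hra.symm hrb.symm
      have hcK' : c ∉ K' := fun h => h1 (hKc' c h y hyK')
      have hqK' : q ∉ K' := fun h => h2 (hKc' a haK' q h)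
      obtain ⟨w, hw, hwc, hwq⟩ := H.clique_meet hK23' (fun x hx => ⟨(hKb' x hx).1, (hKb' x hx).2.1⟩)
        hc hyq.1 hcK' hqK' ⟨a, haK', b, hbK', hb.2.1.symm, hca.symm, hbc⟩
        ⟨r, hrK', y, hyK', hr.2.1, hrq, hyq.2.2⟩
      exact ⟨w, hKD' hw, hwc.symm, hwq⟩

/-- Two members that do not commute satisfy the braid relation. -/
theorem braid_all [Finite G] {a b : G} (ha : a ∈ D) (hb : b ∈ D) (h : ¬ Commute a b) :
    a * b * a = b * a * b := by
  obtain ⟨w, hw, haw, hwb⟩ := H.two_steps ha hb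
  exact H.braid w hw a ⟨ha, fun e => h (e ▸ hwb), haw.symm⟩ b
    ⟨hb, fun e => h (e ▸ haw), hwb⟩ h

theorem threeTranspositionSet [Finite G] : IsThreeTranspositionSet D := by
  refine ⟨fun a ha => orderOf_eq_prime ((pow_two a).trans (H.sq a ha)) (H.ne_one a ha),
    fun a ha b hb => ?_⟩
  by_cases h : Commute a b
  · left
    rw [pow_two, mul_assoc, ← mul_assoc b, ← h.eq, mul_assoc a b, H.sq b hb, mul_one, H.sq a ha]
  · right
    rw [pow_three, show a * b * (a * b * (a * b)) = (a * b * a) * (b * a * b) by group,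
      H.braid_all ha hb h, show b * a * b * (b * a * b) = b * a * (b * b) * a * b by group,
      H.sq b hb, mul_one, mul_assoc b a a, H.sq a ha, mul_one, H.sq b hb]

theorem exists_conj_closure [Finite G] {c e : G} (hc : c ∈ D) (he : e ∈ D) :
    ∃ g ∈ Subgroup.closure D, g * c * g⁻¹ = e := by
  have hr := H.connected hc he
  clear he
  induction hr with
  | refl => exact ⟨1, one_mem _, by simp⟩
  | @tail y q hcy hyq ih =>
    have hyD := H.reach_mem hc hcy
    obtain ⟨g, hg, hgc⟩ := ih
    obtain ⟨l, hl, hmem, -⟩ := H.seven y hyD q hyq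
    obtain ⟨f, hfl⟩ := List.exists_mem_of_length_pos (l := l) (by rcases hl with ⟨k, hk⟩; omega)
    have hf := hmem f hfl
    obtain ⟨s, hs, hsy⟩ := H.cls f hf.1.1 y (H.mem_near_symm hyD hf.1) q
      (H.mem_near_symm hyq.1 hf.2)
    refine ⟨s * g, mul_mem ?_ hg, ?_⟩
    · exact (Subgroup.closure_mono fun v hv => hv.1) (H.gen f hf.1.1 s hs)
    · rw [← hsy, ← hgc]; group

theorem closure_eq_top [Finite G] : Subgroup.closure D = ⊤ := by
  obtain ⟨c, hc⟩ := H.nonempty
  rw [Subgroup.eq_top_iff']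
  intro g
  obtain ⟨s, hs, hsc⟩ := H.exists_conj_closure hc (H.conj c hc g)
  have hcomm : Commute (s⁻¹ * g) c := by
    refine mul_inv_eq_iff_eq_mul.1 ?_
    calc s⁻¹ * g * c * (s⁻¹ * g)⁻¹ = s⁻¹ * (g * c * g⁻¹) * s := by group
      _ = c := by rw [← hsc]; group
  have h2 := (Subgroup.closure_mono fun v hv => hv.1) (H.gen c hc _ hcomm)
  simpa using mul_mem hs h2

theorem eq_conjugatesOf [Finite G] {c : G} (hc : c ∈ D) : D = conjugatesOf c := by
  ext e
  rw [conjugatesOf, Set.mem_setOf_eq, isConj_iff]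
  exact ⟨fun he => (H.exists_conj_closure hc he).imp fun g hg => hg.2,
    fun ⟨g, hg⟩ => hg ▸ H.conj c hc g⟩

/-- The hypotheses make `D` a class of 3-transpositions generating the group. -/
theorem threeTranspositionClass [Finite G] : IsThreeTranspositionClass D := by
  obtain ⟨c, hc⟩ := H.nonempty
  exact ⟨H.threeTranspositionSet, ⟨c, hc, H.eq_conjugatesOf hc⟩, H.closure_eq_top⟩

theorem center_eq_bot [Finite G] : Subgroup.center G = ⊥ := by
  rw [Subgroup.eq_bot_iff_forall]
  intro z hz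
  rw [Subgroup.mem_center_iff] at hz
  obtain ⟨c, hc⟩ := H.nonempty
  obtain ⟨d, hd⟩ := H.nearNe c hc
  have h : ∀ g, Commute z g := fun g => (hz g).symm
  by_contra hz1
  exact hd.2.1 (((H.centre d hd.1 z (h d) fun g _ => h g).resolve_left hz1).symm.trans
    ((H.centre c hc z (h c) fun g _ => h g).resolve_left hz1))

end Hyp

end Cfsg.Agent.Fi23Graph98
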