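import Cfsg.Agent.Lib.ThreeTransM22Aut59

/-!
# Outer automorphisms of type M(22) at a member: squares and swapped conics

An outer automorphism fixing `d` may be adjusted to one squaring the coordinates of a frame; its square
is trivial or conjugation by `d`, and it moves one conic onto another with the same product. No member
is a square.
-/

set_option autoImplicit false
set_option linter.unusedSectionVars false
set_option linter.style.haveILetI false

namespace Cfsg.Agent.ThreeTransM22Swap59

open Subgroup Cfsg.Agent.ThreeTransRel Cfsg.Agent.ThreeTransDescent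
open Cfsg.Agent.UnitaryF4Geo Cfsg.Agent.UnitaryF4Line
open Cfsg.Agent.ThreeTransM22Local72 Cfsg.Agent.ThreeTransM22Frame72 Cfsg.Agent.ThreeTransM22Lift72
open Cfsg.Agent.ThreeTransM22Std72 (comb_ne comb_mem perp_swap first_ne second_ne smul_three)
open Cfsg.Agent.ThreeTransM22Aut59

variable {G : Type*} [Group G] [Finite G] {D : Set G}
variable {F : Type} [Field F] [Fintype F] [hF : FourField F]
variable {d : G} {φ : ↥(loc D d) →* Cfsg.PSU 6 F 2}
variable (X : Ctx D d φ)

local notation "π" => QuotientGroup.mk' (Subgroup.center (Cfsg.SU 6 F 2))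
local notation "L" => ThreeTransM22Lift72.Chart.L X.chart

include X

/-- An element of the local group with square `d` does not exist. -/
theorem square_ne {x : G} (hx : x ∈ loc D d) : x * x ≠ d := by
  intro hx2
  have hd1 : d ≠ 1 := fun e => by
    obtain ⟨u, hu, -, -, ⟨-, hu0, -⟩, -⟩ := ThreeTransM22Hyperoval72.exists_ovals (F := F)
    obtain ⟨p, hp, -⟩ := X.chart.lift u.2 hu0
    obtain ⟨g, hg⟩ := X.prim.1 d X.mem p hp.1
    exact hp.2.1 (by rw [← hg, e]; group)
  obtain ⟨t', ht'⟩ := QuotientGroup.mk'_surjective (Subgroup.center (Cfsg.SU 6 F 2)) (φ ⟨x, hx⟩)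
  have hφd : φ (⟨x, hx⟩ * ⟨x, hx⟩) = 1 := (X.chart.one _).mpr fun y hy => by
    show Commute y (x * x)
    rw [hx2]; exact hy.2.2.symm
  have hz : t' * t' ∈ Subgroup.center (Cfsg.SU 6 F 2) := by
    rw [← QuotientGroup.eq_one_iff]
    show π (t' * t') = 1
    rw [map_mul, ht', ← map_mul, hφd]
  set z := t' * t' with hzdef
  set t := t' * z with htdef
  have hπt : π t = φ ⟨x, hx⟩ := by
    rw [htdef, map_mul, show π z = 1 from (QuotientGroup.eq_one_iff z).mpr hz, mul_one, ht']
  have htt : t * t = 1 := by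
    rw [htdef, show t' * z * (t' * z) = z * z * z by rw [hzdef]; group, center_cube (by norm_num) hz]
  obtain ⟨k, u, v, hu, horth, hdual, hprod, -⟩ := decompose htt
  have hu0 : ∀ i, u i ≠ 0 := fun i h0 => by
    have := hdual i i
    rw [h0, h_zero_right, if_pos rfl] at this
    exact zero_ne_one this
  set us : List {u : Fin 6 → F // h u u = 0} := List.ofFn fun i => ⟨u i, hu i⟩ with hus
  obtain ⟨hm, em⟩ := L_prod_two X (u := us) (fun p hp => by
    obtain ⟨i, rfl⟩ := List.mem_ofFn.mp hp; exact hu0 i)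
    (show (us.map fun p => T p.1 p.2).prod = t by rw [hus, List.map_ofFn]; exact hprod)
  set M := us.map fun p => L p.1 with hM
  have hMmem : ∀ y ∈ M, ∃ i, y = L (u i) := fun y hy => by
    obtain ⟨p, hp, rfl⟩ := List.mem_map.mp hy
    obtain ⟨i, rfl⟩ := List.mem_ofFn.mp hp
    exact ⟨i, rfl⟩
  -- the product squares to one
  have hsq : ∀ m : List G, (∀ y ∈ m, y * y = 1) → (∀ y ∈ m, ∀ y' ∈ m, Commute y y') →
      m.prod * m.prod = 1 := by
    intro m
    induction m with
    | nil => intros; simp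
    | cons a m ih =>
      intro h1 h2
      have hc : Commute m.prod a :=
        Commute.list_prod_left _ _ fun y hy => h2 y (List.mem_cons_of_mem _ hy) a (by simp)
      rw [List.prod_cons, show a * m.prod * (a * m.prod) = a * (m.prod * a) * m.prod by group, hc.eq,
        ← mul_assoc, h1 a (by simp), one_mul,
        ih (fun y hy => h1 y (List.mem_cons_of_mem _ hy))
          fun y hy y' hy' => h2 y (List.mem_cons_of_mem _ hy) y' (List.mem_cons_of_mem _ hy')]
  have hM2 : M.prod * M.prod = 1 := hsq M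
    (fun y hy => by obtain ⟨i, rfl⟩ := hMmem y hy; exact X.ts.sq _ (L_mem X (hu i) (hu0 i)).1)
    fun y hy y' hy' => by
      obtain ⟨i, rfl⟩ := hMmem y hy
      obtain ⟨j, rfl⟩ := hMmem y' hy'
      exact (L_comm X (hu i) (hu0 i) (hu j) (hu0 j)).mpr (horth i j)
  have h1 : φ (⟨x, hx⟩ * (⟨_, hm⟩ : ↥(loc D d))⁻¹) = 1 := by
    rw [map_mul, map_inv, em, hπt, mul_inv_cancel]
  rcases X.ker h1 with hk1 | hk1 <;> simp only [Subgroup.coe_mul, Subgroup.coe_inv] at hk1
  · rw [mul_inv_eq_one.mp hk1] at hx2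
    exact hd1 (hx2.symm.trans hM2)
  · have e : x = d * M.prod := mul_inv_eq_iff_eq_mul.mp hk1
    have hc : Commute d M.prod := commute_d_of_mem_loc hm
    rw [e, show d * M.prod * (d * M.prod) = d * (M.prod * d) * M.prod by group, ← hc.eq, ← mul_assoc,
      X.ts.sq d X.mem, one_mul, hM2] at hx2
    exact hd1 hx2.symm

/-- An outer automorphism fixing `d`, adjusted to swap two conics of equal product. -/
theorem outer_swap (hD : Cfsg.IsThreeTranspositionGroup D) {g : MulAut G} (hg : IsAut X g) :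
    (∃ k, g = MulAut.conj k) ∨ ∃ k ∈ loc D d,
      ((MulAut.conj k * g) * (MulAut.conj k * g) = 1 ∨
        (MulAut.conj k * g) * (MulAut.conj k * g) = MulAut.conj d) ∧
      ∃ M : List G, CList D M ∧ M.length = 3 ∧ (∀ p ∈ M, p ∈ near D d) ∧
        (∃ p ∈ M, (MulAut.conj k * g) p ∉ M) ∧ (M.map (MulAut.conj k * g)).prod = M.prod := by
  obtain ⟨w, hw⟩ := exists_omega (F := F)
  obtain ⟨hw0, hw1⟩ := omega_ne hw
  have hw10 : w + 1 ≠ 0 := fun e => hw1 (eq_of_add_eq_zero e)
  obtain ⟨B, hB, hdB⟩ : ∃ B : Set G, ThreeTransM22Outer72.Blk D B ∧ {d} ⊆ B := by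
    by_contra hno
    push Not at hno
    have := ThreeTransM22Outer72.odd_blocks X.ts (T := {d}) (Set.singleton_subset_iff.mpr X.mem)
      (by simp)
    rw [show {B : Set G | ThreeTransM22Outer72.Blk D B ∧ {d} ⊆ B} = ∅ from
      Set.eq_empty_iff_forall_notMem.mpr fun B hB => hno B hB.1 hB.2, Set.ncard_empty] at this
    omega
  obtain ⟨e, f, hfr, hgood, -, -⟩ :=
    ThreeTransM22Outer72.exists_plane X hB (hdB rfl) hw
  obtain ⟨k, hk, hfix, hp⟩ := normalise X hfr hw hgood hg
  rcases std_cases X hfr hfix hp with h | ⟨he, hf⟩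
  · refine Or.inl ?_
    rcases fix_near X hD X.mem hfix.1.1 hfix.1.2 h with h' | h'
    · exact ⟨k⁻¹, eq_inv_of_mul_eq_one_right h' |>.trans (map_inv _ k).symm⟩
    · exact ⟨k⁻¹ * d, by rw [map_mul, ← h', map_inv, inv_mul_cancel_left]⟩
  refine Or.inr ⟨k, hk, ?_, conic X e w w, clist_conic X hfr hw, by simp [conic], ?_, ?_, ?_⟩
  · have hplane : ∀ {e : Fin 3 → Fin 6 → F},
        (∀ c : Fin 3 → F, c ≠ 0 → Img X (MulAut.conj k * g) e c (fun i => c i ^ 2)) →
        ∀ c : Fin 3 → F, c ≠ 0 →
          ((MulAut.conj k * g) * (MulAut.conj k * g)) (L (comb e c)) = L (comb e c) := by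
      intro e p c hc
      have hc2 : (fun i => c i ^ 2) ≠ 0 := fun h0 => hc (funext fun i =>
        (pow_eq_zero_iff (n := 2) (by norm_num)).mp (congrFun h0 i))
      show (MulAut.conj k * g) ((MulAut.conj k * g) (L (comb e c))) = _
      rw [p c hc, p _ hc2]
      simp only [sq_sq]
    exact fix_near X hD X.mem (fun y hy => hfix.1.1 _ (hfix.1.1 y hy))
      (by
        show (MulAut.conj k * g) ((MulAut.conj k * g) d) = d
        rw [hfix.1.2, hfix.1.2])
      (trivial_of_planes X hfr (hplane he) (hplane hf))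
  · intro p hp
    simp only [conic, List.mem_cons, List.not_mem_nil, or_false] at hp
    rcases hp with rfl | rfl | rfl <;> exact L_mem X (hfr.h_ee _ _) (q_comb_ne X hfr _ _)
  · have hsq : (fun i => q w 1 i ^ 2) = q (w + 1) 1 := by
      funext i; fin_cases i <;> simp [q, hw]
    refine ⟨L (comb e (q w 1)), by simp [conic], ?_⟩
    rw [show (MulAut.conj k * g) (L (comb e (q w 1))) = L (comb e (fun i => q w 1 i ^ 2)) from
      he _ (q_ne_zero w 1), hsq]
    exact conic_disjoint X hfr hw fun h => one_ne_zero (add_eq_left.mp h)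
  · -- both conics have product base times `d`
    have hval : ∀ t : F, (MulAut.conj k * g) (L (comb e (q w t))) = L (comb e (q (w + 1) (t ^ 2))) :=
      fun t => by
        rw [show (MulAut.conj k * g) (L (comb e (q w t))) = L (comb e (fun i => q w t i ^ 2)) from
          he _ (q_ne_zero w t)]
        congr 2
        funext i; fin_cases i <;> simp [q, mul_pow, hw]
    have hw2 : (w + 1) ^ 2 = w := by
      linear_combination hw + (w + 1) * two_eq_zero (F := F)
    have hnot : ∀ a : F, a ≠ 0 → a ≠ 1 → (conic X e a w).prod ≠ (base X e).prod := by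
      intro a ha ha1 h
      obtain ⟨a₀, -, -, huniq⟩ := (conic_exists X hfr hw).1
      have hnb := conic_ne_base X hfr (w := w) (a := a) ha
      have k1 := (huniq _ (clist_conic X hfr hw) rfl h).resolve_left fun hh =>
        hnb ((hh _).mp (by simp [conic]))
      have hnb' := conic_ne_base X hfr (w := w) (a := (1 : F)) one_ne_zero
      have k2 := (huniq _ (clist_conic X hfr hw) rfl hgood).resolve_left fun hh =>
        hnb' ((hh _).mp (by simp [conic]))
      exact conic_disjoint X hfr hw ha1 ((k2 _).mpr ((k1 _).mp (by simp [conic])))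
    have e1 := (conic_cases X hfr hw0 hw).resolve_left (hnot w hw0 hw1)
    have e2 := (conic_cases X hfr hw10 hw).resolve_left (hnot (w + 1) hw10 fun h =>
      hw0 (add_eq_right.mp h))
    rw [e1, ← e2]
    have hC := clist_conic X hfr (a := w + 1) hw
    have hperm : ((conic X e w w).map (MulAut.conj k * g)).Perm (conic X e (w + 1) w) := by
      simp only [conic, List.map_cons, List.map_nil, hval, one_pow, hw, hw2]
      exact List.Perm.cons _ (List.Perm.swap _ _ [])
    exact hperm.symm.prod_eq' (List.pairwise_of_forall_mem_list fun x hx y hy => hC.comm x hx y hy)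
      |>.symm

omit X

/-- Type M(22): no member is a square. -/
theorem no_sqrt (hD : Cfsg.IsThreeTranspositionGroup D) (hprim : Cfsg.IsPrimitiveUnderConj D)
    (h22 : Cfsg.IsOfTypeM22 G D) {x : G} (hx : x * x ∈ D) : False := by
  obtain ⟨F, _, _, _, hctx⟩ := exists_ctx hD hprim h22
  obtain ⟨φ, X⟩ := hctx (x * x) hx
  have hmem : x ∈ loc D (x * x) := by
    rw [← ThreeTransM22Outer72.centralizer_eq_loc hD hprim h22 _ hx]
    exact mem_centralizer_singleton_iff.mpr (mul_assoc x x x).symm
  exact square_ne X hmem rfl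

/-- Type M(22): an outer automorphism fixing a member, adjusted. -/
theorem swap (hD : Cfsg.IsThreeTranspositionGroup D) (hprim : Cfsg.IsPrimitiveUnderConj D)
    (h22 : Cfsg.IsOfTypeM22 G D) {s : G} (hs : s ∈ D) {g : MulAut G} (h₁ : ∀ y ∈ D, g y ∈ D)
    (h₁s : g s = s) :
    (∃ k, g = MulAut.conj k) ∨ ∃ k ∈ loc D s,
      ((MulAut.conj k * g) * (MulAut.conj k * g) = 1 ∨
        (MulAut.conj k * g) * (MulAut.conj k * g) = MulAut.conj s) ∧
      ∃ M : List G, CList D M ∧ M.length = 3 ∧ (∀ p ∈ M, p ∈ near D s) ∧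
        (∃ p ∈ M, (MulAut.conj k * g) p ∉ M) ∧ (M.map (MulAut.conj k * g)).prod = M.prod := by
  obtain ⟨F, _, _, _, hctx⟩ := exists_ctx hD hprim h22
  obtain ⟨φ, X⟩ := hctx s hs
  exact outer_swap X hD ⟨h₁, h₁s⟩

end Cfsg.Agent.ThreeTransM22Swap59
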