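import Cfsg.Agent.Lib.ReflectionThreeGroup
import Cfsg.Agent.Lib.OrthUnitaryForms
import Cfsg.Agent.Lib.OrthTypeCount73

/-!
# Orders of reflection groups over three elements in dimension seven
-/

set_option autoImplicit false
set_option linter.unusedSectionVars false

namespace Cfsg.Agent.ReflectionThreeOrder34

open Subgroup QuadraticMap Cfsg.Agent
open OrthUnitaryQuad OrthUnitaryRefl OrthUnitaryOmega OrthUnitaryCentre OrthUnitarySimple

variable {Q : QuadraticForm (ZMod 3) (Fin 7 → ZMod 3)}

theorem card_orth (hQ : (polarBilin Q).Nondegenerate) : Nat.card ↥(orth Q) = 18341406720 := by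
  obtain ⟨c, g, hc, hg⟩ := OrthTypeCount73.iso_odd Q hQ (m := 3) (by simp)
  have h1 : orth (c • Q) = orth Q := by
    ext f
    show (∀ x, (c • Q) (f x) = (c • Q) x) ↔ ∀ x, Q (f x) = Q x
    simp [hc]
  rw [← h1, ← card_isometryGroup (c • Q) (Cfsg.quadFormOdd 3 (ZMod 3)) g (fun v => by rw [hg]; rfl),
    OrthUnitaryForms.card_isometryGroup_odd (ZMod.card 3) (by decide) 3]
  decide +kernel

/-- The order of the projective reflection group is a multiple of that of `Ω₇(3)`. -/
theorem dvd_card_proj {c : ZMod 3} (hc : c ≠ 0) (hQ : (polarBilin Q).Nondegenerate) :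
    4585351680 ∣ Nat.card (↥(Cfsg.reflectionSubgroup (⇑Q) c) ⧸
      Subgroup.center ↥(Cfsg.reflectionSubgroup (⇑Q) c)) := by
  have hT : Nat.card ↥(ReflectionThreeGroup.tGroup Q c) = 9170703360 := by
    have h := (ReflectionThreeGroup.tGroup Q c).card_mul_index
    rw [ReflectionThreeGroup.index_tGroup hQ (by norm_num) hc, card_orth hQ] at h
    omega
  let he := ReflectionThreeGroup.equiv (Q := Q) (c := c) hc
  have hR : Nat.card ↥(Cfsg.reflectionSubgroup (⇑Q) c) = 9170703360 :=
    (Nat.card_congr (he).toEquiv).trans hT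
  set R := Cfsg.reflectionSubgroup (⇑Q) c
  have hz : Nat.card ↥(Subgroup.center ↥R) ≤ 2 := by
    have hz2 : ∀ z : ↥(Subgroup.center ↥R), (he (z : ↥R) : orth Q) = 1 ∨
        (he (z : ↥R) : orth Q) = negOne Q := fun z => by
      refine ReflectionThreeGroup.eq_one_or_neg hQ (by norm_num) fun k hk => ?_
      obtain ⟨r, hr⟩ := he.surjective ⟨k, ReflectionThreeGroup.sGroup_le_tGroup hQ (by norm_num) hc hk⟩
      have h := congrArg he (Subgroup.mem_center_iff.mp z.2 r)
      rw [map_mul, map_mul, hr] at h
      exact (congrArg Subtype.val h).symm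
    have hinj : Function.Injective fun z : ↥(Subgroup.center ↥R) => (he (z : ↥R) : orth Q) :=
      fun a b h => Subtype.ext (he.injective (Subtype.ext h))
    calc Nat.card ↥(Subgroup.center ↥R) = (Set.range fun z : ↥(Subgroup.center ↥R) =>
          (he (z : ↥R) : orth Q)).ncard := by
            rw [← Nat.card_coe_set_eq, Nat.card_range_of_injective hinj]
      _ ≤ ({1, negOne Q} : Set (orth Q)).ncard := Set.ncard_le_ncard (by
            rintro _ ⟨z, rfl⟩
            simpa using hz2 z) (Set.toFinite _)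
      _ ≤ 2 := by
            refine (Set.ncard_insert_le _ _).trans ?_
            simp
  have h := Subgroup.card_eq_card_quotient_mul_card_subgroup (Subgroup.center ↥R)
  rw [hR] at h
  have hpos : 0 < Nat.card ↥(Subgroup.center ↥R) := Nat.card_pos
  rcases (show Nat.card ↥(Subgroup.center ↥R) = 1 ∨ Nat.card ↥(Subgroup.center ↥R) = 2 by omega)
    with e | e <;> rw [e] at h
  · exact ⟨2, by omega⟩
  · exact ⟨1, by omega⟩

/-- The same for an abstract projective reflection group. -/
theorem dvd_card_of_proj {X : Type*} [Group X] {μ c : ZMod 3} (hc : c ≠ 0)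
    (h : Cfsg.IsProjReflectionGroupModThree X 7 μ c) : 4585351680 ∣ Nat.card X := by
  obtain ⟨Q, hQ, -, ⟨e⟩⟩ := h
  rw [Nat.card_congr e.toEquiv]
  exact dvd_card_proj hc hQ

end Cfsg.Agent.ReflectionThreeOrder34
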