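import Mathlib
import Cfsg.Prelude.Def_FischerSpaces
import Cfsg.Agent.S5344
import Cfsg.Agent.Lib.BaerSuzuki

/-!
Elementary facts about sets of 3-transpositions: braid relation, commuting criteria, pairs with equal
commuting sets (their product lies in the largest normal 2-subgroup).
-/

set_option autoImplicit false

namespace Cfsg.Agent.ThreeTrans

variable {G : Type*} [Group G] {D : Set G}

theorem mul_self (hD : Cfsg.IsThreeTranspositionSet D) {a : G} (ha : a ∈ D) : a * a = 1 := by
  have := pow_orderOf_eq_one a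
  rwa [hD.1 a ha, pow_two] at this

theorem inv_self (hD : Cfsg.IsThreeTranspositionSet D) {a : G} (ha : a ∈ D) : a⁻¹ = a :=
  inv_eq_of_mul_eq_one_right (mul_self hD ha)

theorem ne_one (hD : Cfsg.IsThreeTranspositionSet D) {a : G} (ha : a ∈ D) : a ≠ 1 := by
  rintro rfl
  simpa using hD.1 1 ha

theorem conj_mem (hD : Cfsg.IsThreeTranspositionSet D) (hconj : ∀ g : G, ∀ d ∈ D, g * d * g⁻¹ ∈ D)
    {a b : G} (ha : a ∈ D) (hb : b ∈ D) : a * b * a ∈ D := by
  have := hconj a b hb
  rwa [inv_self hD ha] at this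

theorem commute_of_sq (hD : Cfsg.IsThreeTranspositionSet D) {a b : G} (ha : a ∈ D) (hb : b ∈ D)
    (h : (a * b) ^ 2 = 1) : Commute a b := by
  show a * b = b * a
  calc a * b = (a * b)⁻¹ := (inv_eq_of_mul_eq_one_right (by rw [← pow_two]; exact h)).symm
    _ = b * a := by rw [mul_inv_rev, inv_self hD ha, inv_self hD hb]

theorem commute_of_two_pow (hD : Cfsg.IsThreeTranspositionSet D) {a b : G} (ha : a ∈ D)
    (hb : b ∈ D) {k : ℕ} (h : (a * b) ^ 2 ^ k = 1) : Commute a b := by
  rcases hD.2 a ha b hb with h2 | h3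
  · exact commute_of_sq hD ha hb h2
  · have hg := pow_gcd_eq_one.mpr ⟨h, h3⟩
    have hcop : Nat.Coprime (2 ^ k) 3 := Nat.Coprime.pow_left _ (by norm_num)
    rw [hcop, pow_one] at hg
    exact commute_of_sq hD ha hb (by rw [hg, one_pow])

theorem cube_of_not_commute (hD : Cfsg.IsThreeTranspositionSet D) {a b : G} (ha : a ∈ D)
    (hb : b ∈ D) (h : ¬ Commute a b) : (a * b) ^ 3 = 1 := by
  rcases hD.2 a ha b hb with h2 | h3
  · exact absurd (commute_of_sq hD ha hb h2) h
  · exact h3

theorem braid (hD : Cfsg.IsThreeTranspositionSet D) {a b : G} (ha : a ∈ D) (hb : b ∈ D)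
    (h : ¬ Commute a b) : a * b * a = b * a * b := by
  have h' : (a * b * a) * (b * a * b) = 1 := by
    simpa [pow_succ, mul_assoc] using cube_of_not_commute hD ha hb h
  rw [eq_inv_of_mul_eq_one_left h', mul_inv_rev, mul_inv_rev, inv_self hD ha, inv_self hD hb,
    ← mul_assoc]

theorem commute_conj_iff (g a b : G) :
    Commute (g * a * g⁻¹) (g * b * g⁻¹) ↔ Commute a b := Commute.conj_iff g

theorem exists_not_commute (hD : Cfsg.IsThreeTranspositionClass D)
    (hD2 : ∃ a ∈ D, ∃ b ∈ D, a ≠ b) {d : G} (hd : d ∈ D) : ∃ e ∈ D, ¬ Commute d e := by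
  by_contra h
  push Not at h
  have hcen : d ∈ Subgroup.center G := by
    have hle : Subgroup.closure D ≤ Subgroup.centralizer {d} := by
      rw [Subgroup.closure_le]
      intro e he
      exact Subgroup.mem_centralizer_singleton_iff.mpr (h e he).eq.symm
    rw [hD.2.2] at hle
    rw [Subgroup.mem_center_iff]
    exact fun g => Subgroup.mem_centralizer_singleton_iff.mp (hle (Subgroup.mem_top g))
  obtain ⟨d0, -, rfl⟩ := hD.2.1
  obtain ⟨a, ha, b, hb, hab⟩ := hD2
  apply hab
  have key : ∀ x ∈ conjugatesOf d0, x = d := by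
    intro x hx
    have h1 : IsConj d x := (show IsConj d0 d from hd).symm.trans (show IsConj d0 x from hx)
    obtain ⟨g, hg⟩ := isConj_iff.mp h1
    rw [← hg, Subgroup.mem_center_iff.mp hcen g, mul_inv_cancel_right]
  rw [key a ha, key b hb]

theorem conjInv (hD : Cfsg.IsThreeTranspositionClass D) :
    ∀ g : G, ∀ d ∈ D, g * d * g⁻¹ ∈ D := by
  obtain ⟨d0, -, rfl⟩ := hD.2.1
  intro g d hd
  exact (show IsConj d0 d from hd).trans (isConj_iff.mpr ⟨g, rfl⟩)

/-- Two transpositions have the same commuting partners in `D`. -/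
def SameV (D : Set G) (d v : G) : Prop := v ∈ D ∧ ∀ e ∈ D, Commute v e ↔ Commute d e

theorem SameV.commute {d v : G} (h : SameV D d v) : Commute d v :=
  (h.2 v h.1).mp (Commute.refl v)

theorem SameV.conj (hconj : ∀ g : G, ∀ d ∈ D, g * d * g⁻¹ ∈ D) {d v : G} (h : SameV D d v)
    (g : G) : SameV D (g * d * g⁻¹) (g * v * g⁻¹) := by
  refine ⟨hconj g v h.1, fun e he => ?_⟩
  have hrw : e = g * (g⁻¹ * e * g) * g⁻¹ := by group
  have hmem : g⁻¹ * e * g ∈ D := by simpa using hconj g⁻¹ e he
  rw [hrw, Commute.conj_iff, Commute.conj_iff]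
  exact h.2 _ hmem

/-- The products of pairs with equal commuting sets pairwise generate 2-groups. -/
theorem sameV_pow_four (hD : Cfsg.IsThreeTranspositionSet D)
    (hconj : ∀ g : G, ∀ d ∈ D, g * d * g⁻¹ ∈ D) {d v a b : G} (hd : d ∈ D) (ha : a ∈ D)
    (hdv : SameV D d v) (hab : SameV D a b) : (d * v * (a * b)) ^ 4 = 1 := by
  have hv := hdv.1
  have hb := hab.1
  set x := d * v with hx
  set y := a * b with hy
  have hxx : x * x = 1 := by
    rw [hx, hdv.commute.symm.mul_mul_mul_comm, mul_self hD hd, mul_self hD hv, one_mul]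
  have hyy : y * y = 1 := by
    rw [hy, hab.commute.symm.mul_mul_mul_comm, mul_self hD ha, mul_self hD hb, one_mul]
  have hyi : y⁻¹ = y := inv_eq_of_mul_eq_one_right hyy
  suffices h : Commute x (y * x * y) by
    have hsq : (x * y) ^ 2 = x * (y * x * y) := by rw [pow_two]; simp only [mul_assoc]
    calc (x * y) ^ 4 = (x * (y * x * y)) ^ 2 := by rw [← hsq, ← pow_mul]
      _ = x ^ 2 * (y * x * y) ^ 2 := h.mul_pow 2
      _ = 1 := by
        rw [pow_two, pow_two, hxx, one_mul,
          show y * x * y * (y * x * y) = y * x * (y * y) * x * y by simp only [mul_assoc],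
          hyy, mul_one, mul_assoc y x x, hxx, mul_one, hyy]
  by_cases hc : Commute a d
  · have hxy : Commute x y := by
      refine Commute.mul_left (hc.symm.mul_right ?_) (Commute.mul_right ?_ ?_)
      · exact ((hab.2 d hd).mpr hc).symm
      · exact ((hdv.2 a ha).mpr hc.symm)
      · exact ((hdv.2 b hb).mpr ((hab.2 d hd).mpr hc).symm)
    rw [← hxy.eq, mul_assoc, hyy, mul_one]
  -- no element of one pair commutes with an element of the other
  have key : ∀ t : G, t ∈ D → ¬ Commute a t → ¬ Commute b t → Commute t (y * t * y) := by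
    intro t ht hat hbt
    have h1 : Commute (a * t * a) (b * t * b) := by
      rw [braid hD ha ht hat, braid hD hb ht hbt]
      have := (Commute.conj_iff t).mpr hab.commute
      rwa [inv_self hD ht] at this
    have h2 := (Commute.conj_iff a).mpr h1
    rw [inv_self hD ha] at h2
    have e1 : a * (a * t * a) * a = t := by
      simp only [mul_assoc]; rw [mul_self hD ha, mul_one, ← mul_assoc, mul_self hD ha, one_mul]
    rw [e1] at h2
    have e2 : y * t * y = a * (b * t * b) * a := by
      have : y = b * a := hy ▸ hab.commute.eq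
      nth_rewrite 2 [this]
      rw [hy]; simp only [mul_assoc]
    rwa [e2]
  have hbd : ¬ Commute b d := fun h => hc ((hab.2 d hd).mp h)
  have hav : ¬ Commute a v := fun h => hc ((hdv.2 a ha).mp h.symm).symm
  have hbv : ¬ Commute b v := fun h => hbd ((hdv.2 b hb).mp h.symm).symm
  have hmem : ∀ t ∈ D, y * t * y ∈ D := fun t ht => by
    have := hconj y t ht
    rwa [hyi] at this
  have e : y * x * y = (y * d * y) * (y * v * y) := by
    rw [show y * d * y * (y * v * y) = y * d * (y * y) * v * y by simp only [mul_assoc], hyy,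
      mul_one, hx]
    simp only [mul_assoc]
  have hd1 := key d hd hc hbd
  have hv1 := key v hv hav hbv
  rw [e]
  exact (hd1.mul_right ((hdv.2 _ (hmem v hv)).mp hv1)).mul_left
    (((hdv.2 _ (hmem d hd)).mpr hd1).mul_right hv1)

/-- For two transpositions with the same commuting sets, their product is in the largest normal
2-subgroup. -/
theorem sameV_mul_mem_pCore [Finite G] (hD : Cfsg.IsThreeTranspositionSet D)
    (hconj : ∀ g : G, ∀ d ∈ D, g * d * g⁻¹ ∈ D) {d v : G} (hd : d ∈ D) (hdv : SameV D d v) :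
    d * v ∈ Cfsg.pCore 2 G := by
  by_cases hne : d * v = 1
  · rw [hne]; exact one_mem _
  have hxx : d * v * (d * v) = 1 := by
    rw [hdv.commute.symm.mul_mul_mul_comm, mul_self hD hd, mul_self hD hdv.1, one_mul]
  by_contra hnot
  obtain ⟨h, hh1, hodd, hinv⟩ := BaerSuzuki.exists_inverted_odd (d * v)
    (orderOf_eq_prime (by rw [pow_two]; exact hxx) hne)
    (fun N hN hp hmem => hnot
      ((le_sSup (show N ∈ {N : Subgroup G | N.Normal ∧ IsPGroup 2 N} from ⟨hN, hp⟩)) hmem))
  have hc := hdv.conj hconj h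
  have h4 := sameV_pow_four hD hconj hd (hconj h d hd) hdv hc
  have hxi : (d * v)⁻¹ = d * v := inv_eq_of_mul_eq_one_right hxx
  rw [hxi] at hinv
  have e : h * d * h⁻¹ * (h * v * h⁻¹) = h * (d * v) * h⁻¹ := by group
  rw [e] at h4
  have e2 : d * v * (h * (d * v) * h⁻¹) = (h⁻¹) ^ 2 := by
    rw [pow_two, ← mul_assoc, ← mul_assoc (d * v), hinv]
  rw [e2, ← pow_mul, inv_pow, inv_eq_one] at h4
  have hdvd : orderOf h ∣ 2 ^ 3 := orderOf_dvd_of_pow_eq_one h4
  obtain ⟨k, -, hk⟩ := (Nat.dvd_prime_pow Nat.prime_two).mp hdvd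
  rcases k with _ | k
  · exact hh1 (orderOf_eq_one_iff.mp (by simpa using hk))
  · rw [hk, pow_succ, Nat.odd_mul] at hodd
    exact absurd hodd.2 (by decide)

end Cfsg.Agent.ThreeTrans
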