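import Cfsg.Agent.Lib.WidthOneTable
import Cfsg.Agent.Lib.BaerSuzuki

/-!
Finite 3-transposition groups of width one: if a normal set `S` of elements squaring to one has
all products cubing to one then the products `s * t` generate a `3`-group.
-/

set_option autoImplicit false

namespace Cfsg.Agent.WidthOne

/-- The affine coordinates of the 81 points. -/
abbrev V : Type := ZMod 3 × ZMod 3 × ZMod 3

/-- The index of a fibre. -/
def idx (v : V) : Fin 27 :=
  ⟨v.1.val * 9 + v.2.1.val * 3 + v.2.2.val, by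
    have h1 := ZMod.val_lt v.1; have h2 := ZMod.val_lt v.2.1; have h3 := ZMod.val_lt v.2.2; omega⟩

/-- The index of a point. -/
def cd (v : V) (w : ZMod 3) : Fin 81 :=
  ⟨(idx v).val * 3 + w.val, by have h1 := (idx v).isLt; have h2 := ZMod.val_lt w; omega⟩

/-- The affine coordinates of the four points. -/
def centre : Fin 4 → V
  | 0 => (0, 0, 0)
  | 1 => (1, 0, 0)
  | 2 => (0, 1, 0)
  | 3 => (0, 0, 1)

theorem tab_affine : ∀ (g : Fin 4) (v : V) (w : ZMod 3),
    tab g (cd v w) = cd (centre g + centre g - v) (shift g (idx v) - w) := by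
  decide +kernel

theorem base_point : ∀ g : Fin 4, ∃ (v : V) (w : ZMod 3), cd v w = base g := by
  decide +kernel

theorem three_mul_eq (a : ZMod 3) : a + a + a = 0 := by
  revert a; decide

theorem three_vec_eq (a : V) : a + a + a = 0 := by
  ext <;> exact three_mul_eq _

variable {G : Type*} [Group G] {S : Set G}

/-- `e` moves the points by a translation of the fibres and a shift inside each fibre. -/
def IsShift (x : Fin 4 → G) (e : G) : Prop :=
  ∃ (c : V) (f : V → ZMod 3), ∀ v w,
    e * pnt x (word (cd v w)) * e⁻¹ = pnt x (word (cd (v + c) (w + f v)))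

theorem isShift_mul {x : Fin 4 → G} {d e : G} (hd : IsShift x d) (he : IsShift x e) :
    IsShift x (d * e) := by
  obtain ⟨c, f, hf⟩ := hd
  obtain ⟨c', f', hf'⟩ := he
  refine ⟨c' + c, fun v => f' v + f (v + c'), fun v w => ?_⟩
  rw [← add_assoc v, ← add_assoc w, ← hf, ← hf']
  group

theorem isShift_inv {x : Fin 4 → G} {e : G} (he : IsShift x e) : IsShift x e⁻¹ := by
  obtain ⟨c, f, hf⟩ := he
  refine ⟨-c, fun v => -f (v - c), fun v w => ?_⟩
  have := hf (v - c) (w - f (v - c))
  rw [sub_add_cancel, sub_add_cancel] at this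
  rw [← this, sub_eq_add_neg, sub_eq_add_neg, inv_inv]
  group

theorem isShift_pow_nine {x : Fin 4 → G} {e : G} (he : IsShift x e) (v : V) (w : ZMod 3) :
    e ^ 9 * pnt x (word (cd v w)) * (e ^ 9)⁻¹ = pnt x (word (cd v w)) := by
  obtain ⟨c, f, hf⟩ := he
  have h3 : ∀ v w, e ^ 3 * pnt x (word (cd v w)) * (e ^ 3)⁻¹ =
      pnt x (word (cd v (w + (f v + f (v + c) + f (v + c + c))))) := by
    intro v w
    have e1 : v + c + c + c = v := by rw [add_assoc v, add_assoc v, three_vec_eq, add_zero]
    calc e ^ 3 * pnt x (word (cd v w)) * (e ^ 3)⁻¹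
        = e * (e * (e * pnt x (word (cd v w)) * e⁻¹) * e⁻¹) * e⁻¹ := by rw [pow_three]; group
      _ = _ := by
          rw [hf, hf, hf, e1, add_assoc w, add_assoc w]
  calc e ^ 9 * pnt x (word (cd v w)) * (e ^ 9)⁻¹
      = e ^ 3 * (e ^ 3 * (e ^ 3 * pnt x (word (cd v w)) * (e ^ 3)⁻¹) * (e ^ 3)⁻¹) * (e ^ 3)⁻¹ := by
        group
    _ = _ := by rw [h3, h3, h3, add_assoc w, add_assoc w, three_mul_eq, add_zero]

/-- The products of four elements form a 3-group. -/
theorem four_isPGroup [Finite G] (h : Hyp S) (x : Fin 4 → G) (hx : ∀ g, x g ∈ S) :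
    IsPGroup 3 (Subgroup.closure (Set.range fun g => x 0 * x g)) := by
  haveI : Fact (Nat.Prime 3) := ⟨Nat.prime_three⟩
  set E := Subgroup.closure (Set.range fun g => x 0 * x g) with hE
  have hgen : ∀ g, IsShift x (x 0 * x g) := by
    intro g
    refine ⟨centre 0 + centre 0 - centre g - centre g,
      fun v => shift 0 (idx (centre g + centre g - v)) - shift g (idx v), fun v w => ?_⟩
    have hi : (x 0 * x g)⁻¹ = x g * x 0 := by
      rw [mul_inv_rev, inv_eq_of_mul_eq_one_right (h.sq _ (hx g)),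
        inv_eq_of_mul_eq_one_right (h.sq _ (hx 0))]
    calc (x 0 * x g) * pnt x (word (cd v w)) * (x 0 * x g)⁻¹
        = act (x 0) (act (x g) (pnt x (word (cd v w)))) := by
          rw [hi]; simp only [act]; group
      _ = _ := by
          rw [tab_spec h x hx, tab_spec h x hx, tab_affine, tab_affine]
          congr 3 <;> first | abel1 | ring
  have hshift : ∀ e ∈ E, IsShift x e := by
    intro e he
    induction he using Subgroup.closure_induction with
    | mem y hy => obtain ⟨g, rfl⟩ := hy; exact hgen g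
    | one => exact ⟨0, 0, fun v w => by simp⟩
    | mul a b _ _ ha hb => exact isShift_mul ha hb
    | inv a _ ha => exact isShift_inv ha
  have hcent : ∀ e ∈ E, ∀ y ∈ E, Commute (e ^ 9) y := by
    intro e he y hy
    have hg : ∀ g, Commute (e ^ 9) (x g) := by
      intro g
      obtain ⟨v, w, hvw⟩ := base_point g
      have := isShift_pow_nine (hshift e he) v w
      rw [hvw, base_spec h x hx] at this
      exact mul_inv_eq_iff_eq_mul.mp this
    induction hy using Subgroup.closure_induction with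
    | mem y hy => obtain ⟨g, rfl⟩ := hy; exact (hg 0).mul_right (hg g)
    | one => exact Commute.one_right _
    | mul a b _ _ ha hb => exact ha.mul_right hb
    | inv a _ ha => exact ha.inv_right
  have hq : IsPGroup 3 (↥E ⧸ Subgroup.center ↥E) := by
    intro q
    induction q using QuotientGroup.induction_on with
    | H e =>
      refine ⟨2, ?_⟩
      rw [← QuotientGroup.mk_pow, QuotientGroup.eq_one_iff, Subgroup.mem_center_iff]
      intro y
      exact Subtype.ext (hcent e e.2 y y.2).symm.eq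
  obtain ⟨P⟩ : Nonempty (Sylow 3 ↥E) := inferInstance
  have hsup : (P : Subgroup ↥E) ⊔ Subgroup.center ↥E = ⊤ := by
    have hs : Function.Surjective (QuotientGroup.mk' (Subgroup.center ↥E)) :=
      QuotientGroup.mk'_surjective _
    have h1 : (P : Subgroup ↥E).map (QuotientGroup.mk' (Subgroup.center ↥E)) = ⊤ := by
      rw [← Sylow.coe_mapSurjective hs]
      exact ((P.mapSurjective hs).is_maximal'
        (hq.of_equiv Subgroup.topEquiv.symm : IsPGroup 3 (⊤ : Subgroup (↥E ⧸ Subgroup.center ↥E)))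
        le_top).symm
    have h2 := Subgroup.comap_map_eq (QuotientGroup.mk' (Subgroup.center ↥E)) (P : Subgroup ↥E)
    rw [h1, Subgroup.comap_top, QuotientGroup.ker_mk'] at h2
    exact h2.symm
  haveI : (P : Subgroup ↥E).Normal := by
    rw [← Subgroup.normalizer_eq_top_iff, eq_top_iff, ← hsup]
    exact sup_le Subgroup.le_normalizer (Subgroup.center_le_normalizer _)
  have hle : (⊤ : Subgroup ↥E) ≤ (P : Subgroup ↥E) := by
    rw [← Subgroup.closure_closure_coe_preimage, Subgroup.closure_le]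
    rintro ⟨y, hy⟩ hy'
    obtain ⟨g, rfl⟩ := (hy' : y ∈ Set.range fun g => x 0 * x g)
    have h3 : orderOf (⟨x 0 * x g, hy⟩ : ↥E) ∣ 3 ^ 1 := by
      rw [Subgroup.orderOf_mk]
      exact orderOf_dvd_of_pow_eq_one (h.cube _ (hx 0) _ (hx g))
    obtain ⟨k, -, hk⟩ := (Nat.dvd_prime_pow Nat.prime_three).mp h3
    obtain ⟨Q, hQ⟩ := (IsPGroup.of_card (n := k)
      ((Nat.card_zpowers (⟨x 0 * x g, hy⟩ : ↥E)).trans hk)).exists_le_sylow
    haveI := P.unique_of_normal inferInstance
    have hQP : Q = P := Subsingleton.elim Q P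
    rw [hQP] at hQ
    exact hQ (Subgroup.mem_zpowers _)
  exact (P.2.to_le hle).of_equiv Subgroup.topEquiv

/-- Width one: the products generate a normal 3-group. -/
theorem even_isPGroup [Finite G] (h : Hyp S) (hn : ∀ g : G, ∀ s ∈ S, g * s * g⁻¹ ∈ S) :
    IsPGroup 3 (Subgroup.closure {y : G | ∃ s ∈ S, ∃ t ∈ S, y = s * t}) := by
  haveI : Fact (Nat.Prime 3) := ⟨Nat.prime_three⟩
  obtain ⟨Q⟩ : Nonempty (Sylow 3 G) := inferInstance
  refine Q.2.to_le ((Subgroup.closure_le _).mpr ?_)
  rintro _ ⟨a, ha, b, hb, rfl⟩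
  have hpair : ∀ g : G, IsPGroup 3 ↥(Subgroup.zpowers (a * b) ⊔
      (Subgroup.zpowers (a * b)).map (MulAut.conj g).toMonoidHom) := by
    intro g
    set x : Fin 4 → G := ![a, b, g * a * g⁻¹, g * b * g⁻¹] with hxdef
    have hx : ∀ i, x i ∈ S := by
      intro i
      fin_cases i <;> simp [hxdef, ha, hb, hn]
    refine (four_isPGroup h x hx).to_le (sup_le ?_ ?_)
    · rw [Subgroup.zpowers_le]
      exact Subgroup.subset_closure ⟨1, rfl⟩
    · rw [Subgroup.map_le_iff_le_comap, Subgroup.zpowers_le, Subgroup.mem_comap]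
      have hc : (g * a * g⁻¹) * (g * b * g⁻¹) = (x 0 * x 2)⁻¹ * (x 0 * x 3) := by
        have : (x 2)⁻¹ = x 2 := inv_eq_of_mul_eq_one_right (h.sq _ (hx 2))
        rw [mul_inv_rev, this]
        simp [hxdef, mul_assoc]
      have hg' : (MulAut.conj g).toMonoidHom (a * b) = (g * a * g⁻¹) * (g * b * g⁻¹) := by
        simp [MulAut.conj_apply, mul_assoc]
      rw [hg', hc]
      exact mul_mem (inv_mem (Subgroup.subset_closure ⟨2, rfl⟩)) (Subgroup.subset_closure ⟨3, rfl⟩)
  have hp : IsPGroup 3 ↥(Subgroup.zpowers (a * b)) := (hpair 1).to_le le_sup_left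
  obtain ⟨N, hN, hNp, hXN⟩ := BaerSuzuki.exists_normal_pGroup_of_pairs _ hp hpair
  haveI := hN
  exact (IsPGroup.le_sylow_of_normal hNp Q) (hXN (Subgroup.mem_zpowers _))

/-- Hence a finite group generated by such a set has a solvable even part. -/
theorem even_solvable [Finite G] (h : Hyp S) (hn : ∀ g : G, ∀ s ∈ S, g * s * g⁻¹ ∈ S) :
    Group.IsSolvable ↥(Subgroup.closure {y : G | ∃ s ∈ S, ∃ t ∈ S, y = s * t}) := by
  haveI : Fact (Nat.Prime 3) := ⟨Nat.prime_three⟩
  haveI := (even_isPGroup h hn).isNilpotent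
  infer_instance

end Cfsg.Agent.WidthOne
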