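import Mathlib
import Cfsg.Agent.Lib.ThreeTrans
import Cfsg.Agent.Lib.WidthOne
import Cfsg.Agent.Lib.BaerSuzuki

/-!
Sets of 3-transpositions: pairs with the same commuting partners (`SameW`); the product of such a
pair lies in the largest normal 3-subgroup.
-/

set_option autoImplicit false

namespace Cfsg.Agent.ThreeTransPerp

variable {G : Type*} [Group G] {D : Set G}

open Cfsg.Agent

/-- Two transpositions have the same set of other commuting transpositions. -/
def SameW (D : Set G) (d w : G) : Prop :=
  w ∈ D ∧ {y : G | y ∈ D ∧ y ≠ d ∧ Commute d y} = {y : G | y ∈ D ∧ y ≠ w ∧ Commute w y}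

theorem SameW.refl {d : G} (hd : d ∈ D) : SameW D d d := ⟨hd, rfl⟩

theorem SameW.symm {d w : G} (hd : d ∈ D) (h : SameW D d w) : SameW D w d := ⟨hd, h.2.symm⟩

theorem SameW.trans {d w v : G} (h : SameW D d w) (h' : SameW D w v) : SameW D d v :=
  ⟨h'.1, h.2.trans h'.2⟩

theorem SameW.mem_iff {d w : G} (h : SameW D d w) {y : G} (hy : y ∈ D) :
    (y ≠ d ∧ Commute d y) ↔ (y ≠ w ∧ Commute w y) := by
  have := Set.ext_iff.mp h.2 y
  exact ⟨fun hh => (this.mp ⟨hy, hh⟩).2, fun hh => (this.mpr ⟨hy, hh⟩).2⟩

theorem SameW.eq_of_commute {d w : G} (h : SameW D d w) (hc : Commute d w) : w = d := by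
  by_contra hne
  exact ((h.mem_iff h.1).mp ⟨hne, hc⟩).1 rfl

theorem SameW.conj (hconj : ∀ g : G, ∀ d ∈ D, g * d * g⁻¹ ∈ D) {d w : G} (h : SameW D d w)
    (g : G) : SameW D (g * d * g⁻¹) (g * w * g⁻¹) := by
  refine ⟨hconj g w h.1, ?_⟩
  ext y
  have hrw : y = g * (g⁻¹ * y * g) * g⁻¹ := by group
  have hmem : y ∈ D ↔ g⁻¹ * y * g ∈ D := by
    refine ⟨fun hy => by simpa using hconj g⁻¹ y hy, fun hy => ?_⟩
    rw [hrw]; exact hconj g _ hy
  simp only [Set.mem_setOf_eq]
  by_cases hy : y ∈ D
  · rw [hrw, Commute.conj_iff, Commute.conj_iff]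
    simp only [ne_eq, mul_left_inj, mul_right_inj]
    have := h.mem_iff (hmem.mp hy)
    simp only [ne_eq] at this
    rw [this]
  · simp [hy]

theorem SameW.conj_invol (hD : Cfsg.IsThreeTranspositionSet D)
    (hconj : ∀ g : G, ∀ d ∈ D, g * d * g⁻¹ ∈ D) {d w t : G} (ht : t ∈ D) (h : SameW D d w) :
    SameW D (t * d * t) (t * w * t) := by
  have := h.conj hconj t
  rwa [ThreeTrans.inv_self hD ht] at this

/-- An element commuting with one member of a class commutes with every member, unless it is in
the class. -/
theorem SameW.commute_of_commute {d w y : G} (h : SameW D d w) (hy : y ∈ D) (hne : y ≠ d)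
    (hc : Commute d y) : Commute w y :=
  ((h.mem_iff hy).mp ⟨hne, hc⟩).2

theorem conj_self_eq (hD : Cfsg.IsThreeTranspositionSet D) {d : G} (hd : d ∈ D) : d * d * d = d := by
  rw [ThreeTrans.mul_self hD hd, one_mul]

theorem conj_conj_eq (hD : Cfsg.IsThreeTranspositionSet D) {a : G} (ha : a ∈ D) (d : G) :
    a * (a * d * a) * a = d := by
  rw [show a * (a * d * a) * a = (a * a) * d * (a * a) by simp only [mul_assoc],
    ThreeTrans.mul_self hD ha, one_mul, mul_one]

/-- Products of two pairs with equal commuting partners generate a 3-group. -/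
theorem pair_isPGroup [Finite G] (hD : Cfsg.IsThreeTranspositionSet D)
    (hconj : ∀ g : G, ∀ d ∈ D, g * d * g⁻¹ ∈ D) {d w a b : G} (hd : d ∈ D) (ha : a ∈ D)
    (hdw : SameW D d w) (hab : SameW D a b) :
    IsPGroup 3 ↥(Subgroup.zpowers (d * w) ⊔ Subgroup.zpowers (a * b)) := by
  haveI : Fact (Nat.Prime 3) := ⟨Nat.prime_three⟩
  have hw := hdw.1
  have hb := hab.1
  have hcube : ∀ p q : G, p ∈ D → SameW D p q → (p * q) ^ 3 = 1 := by
    intro p q hp hpq
    rcases eq_or_ne q p with rfl | hne
    · rw [ThreeTrans.mul_self hD hp, one_pow]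
    · exact ThreeTrans.cube_of_not_commute hD hp hpq.1 fun hc => hne (hpq.eq_of_commute hc)
  by_cases hadj : Commute d a ∧ ¬ SameW D d a
  · -- the two classes commute
    obtain ⟨hc, hns⟩ := hadj
    have had : a ≠ d := by
      rintro rfl
      exact hns (SameW.refl ha)
    have hwa : Commute w a := hdw.commute_of_commute ha had hc
    have hdb : Commute b d := hab.commute_of_commute hd had.symm hc.symm
    have hbd : b ≠ d := by
      intro h
      subst h
      exact hns (SameW.symm ha hab)
    have hwb : Commute w b := hdw.commute_of_commute hb hbd hdb.symm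
    have hcomm : Commute (d * w) (a * b) :=
      (hc.mul_right hdb.symm).mul_left (hwa.mul_right hwb)
    have h1 : IsPGroup 3 ↥(Subgroup.zpowers (d * w)) := by
      obtain ⟨k, -, hk⟩ := (Nat.dvd_prime_pow Nat.prime_three).mp
        (orderOf_dvd_of_pow_eq_one (show (d * w) ^ 3 ^ 1 = 1 from hcube d w hd hdw))
      exact IsPGroup.of_card ((Nat.card_zpowers _).trans hk)
    have h2 : IsPGroup 3 ↥(Subgroup.zpowers (a * b)) := by
      obtain ⟨k, -, hk⟩ := (Nat.dvd_prime_pow Nat.prime_three).mp
        (orderOf_dvd_of_pow_eq_one (show (a * b) ^ 3 ^ 1 = 1 from hcube a b ha hab))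
      exact IsPGroup.of_card ((Nat.card_zpowers _).trans hk)
    refine h1.to_sup_of_normal_right' h2 ?_
    refine le_trans ?_ (Subgroup.centralizer_le_normalizer _)
    rw [Subgroup.le_centralizer_iff, Subgroup.zpowers_le, Subgroup.mem_centralizer_iff]
    intro z hz
    obtain ⟨k, rfl⟩ := Subgroup.mem_zpowers_iff.mp hz
    exact (hcomm.zpow_left k).eq
  · push Not at hadj
    let c : Fin 3 → G := ![d, a, a * d * a]
    let S : Set G := {s | ∃ i, SameW D (c i) s}
    have hcD : ∀ i, c i ∈ D := by
      intro i
      fin_cases i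
      exacts [hd, ha, ThreeTrans.conj_mem hD hconj ha hd]
    -- the three classes are pairwise non-commuting or equal
    have hpair : ∀ i j, Commute (c i) (c j) → SameW D (c i) (c j) := by
      have h01 : Commute d a → SameW D d a := hadj
      have he1 : Commute a (a * d * a) → SameW D a (a * d * a) := by
        intro h
        have h' : Commute d a := by
          have := (Commute.conj_iff a).mpr h
          rw [ThreeTrans.inv_self hD ha, conj_self_eq hD ha, conj_conj_eq hD ha] at this
          exact this.symm
        have h2 := (SameW.symm hd (h01 h')).conj_invol hD hconj ha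
        rwa [conj_self_eq hD ha] at h2
      have he0 : Commute d (a * d * a) → SameW D d (a * d * a) := by
        intro h
        by_cases hda : Commute d a
        · have : a * d * a = d := by
            rw [← hda.eq, mul_assoc, ThreeTrans.mul_self hD ha, mul_one]
          rw [this]; exact SameW.refl hd
        · exfalso
          rw [ThreeTrans.braid hD ha hd (fun hc => hda hc.symm)] at h
          apply hda
          have := (Commute.conj_iff d).mpr h
          rw [ThreeTrans.inv_self hD hd, conj_self_eq hD hd, conj_conj_eq hD hd] at this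
          exact this
      intro i j hij
      fin_cases i <;> fin_cases j
      exacts [SameW.refl hd, h01 hij, he0 hij, SameW.symm hd (h01 hij.symm), SameW.refl ha,
        he1 hij, SameW.symm hd (he0 hij.symm), SameW.symm ha (he1 hij.symm),
        SameW.refl (hcD 2)]
    have hnc : ∀ i j s t, SameW D (c i) s → SameW D (c j) t → Commute s t → s = t := by
      intro i j s t hs ht hst
      by_contra hne
      by_cases h1 : SameW D (c i) t
      · exact hne (((SameW.symm (hcD i) hs).trans h1).eq_of_commute hst).symm
      have h2 : Commute (c i) t :=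
        (SameW.symm (hcD i) hs).commute_of_commute ht.1 (fun h => hne h.symm) hst
      have hne2 : c i ≠ t := fun h => h1 (h ▸ SameW.refl (hcD i))
      have h3 : Commute (c j) (c i) :=
        (SameW.symm (hcD j) ht).commute_of_commute (hcD i) hne2 h2.symm
      exact h1 ((SameW.symm (hcD j) (hpair j i h3)).trans ht)
    have hline : ∀ i j, c i = c j ∨ ∃ k, c i * c j * c i = c k := by
      intro i j
      have e20 : a * d * a * d * (a * d * a) = a ∨ Commute d a := by
        by_cases hda : Commute d a
        · exact Or.inr hda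
        · left
          rw [ThreeTrans.braid hD ha hd (fun hc => hda hc.symm)]
          calc d * a * d * d * (d * a * d) = d * a * (d * d) * d * a * d := by
                simp only [mul_assoc]
            _ = (d * a * d) * a * d := by rw [ThreeTrans.mul_self hD hd]; simp
            _ = (a * d * a) * a * d := by rw [ThreeTrans.braid hD ha hd (fun hc => hda hc.symm)]
            _ = a * d * (a * a) * d := by simp only [mul_assoc]
            _ = a := by rw [ThreeTrans.mul_self hD ha, mul_one, mul_assoc,
                  ThreeTrans.mul_self hD hd, mul_one]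
      have hcomm2 : Commute d a → a * d * a = d := fun h => by
        rw [← h.eq, mul_assoc, ThreeTrans.mul_self hD ha, mul_one]
      fin_cases i <;> fin_cases j
      · exact Or.inl rfl
      · by_cases hda : Commute d a
        · exact Or.inr ⟨1, show d * a * d = a by
            rw [hda.eq, mul_assoc, ThreeTrans.mul_self hD hd, mul_one]⟩
        · exact Or.inr ⟨2, show d * a * d = a * d * a from ThreeTrans.braid hD hd ha hda⟩
      · by_cases hda : Commute d a
        · exact Or.inl (hcomm2 hda).symm
        · refine Or.inr ⟨1, show d * (a * d * a) * d = a from ?_⟩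
          rw [ThreeTrans.braid hD ha hd (fun hc => hda hc.symm), conj_conj_eq hD hd]
      · exact Or.inr ⟨2, rfl⟩
      · exact Or.inl rfl
      · exact Or.inr ⟨0, show a * (a * d * a) * a = d from conj_conj_eq hD ha d⟩
      · rcases e20 with h | h
        · exact Or.inr ⟨1, h⟩
        · exact Or.inl (hcomm2 h)
      · refine Or.inr ⟨0, show a * d * a * a * (a * d * a) = d from ?_⟩
        by_cases hda : Commute d a
        · rw [hcomm2 hda, hda.eq, mul_assoc, ThreeTrans.mul_self hD hd, mul_one]
          by_contra hne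
          exact hne ((hadj hda).eq_of_commute hda)
        · calc a * d * a * a * (a * d * a) = a * d * (a * a) * a * d * a := by
                simp only [mul_assoc]
            _ = a * (d * a * d) * a := by rw [ThreeTrans.mul_self hD ha]; simp [mul_assoc]
            _ = d := by rw [ThreeTrans.braid hD hd ha hda, conj_conj_eq hD ha]
      · exact Or.inl rfl
    have hS : WidthOne.Hyp S := by
      refine ⟨fun s ⟨i, hs⟩ => ThreeTrans.mul_self hD hs.1, ?_, ?_⟩
      · rintro s ⟨i, hs⟩ t ⟨j, ht⟩
        by_cases hst : Commute s t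
        · rw [hnc i j s t hs ht hst, ThreeTrans.mul_self hD ht.1, one_pow]
        · exact ThreeTrans.cube_of_not_commute hD hs.1 ht.1 hst
      · rintro s ⟨i, hs⟩ t ⟨j, ht⟩
        by_cases hst : Commute s t
        · rw [hnc i j s t hs ht hst, conj_self_eq hD ht.1]
          exact ⟨j, ht⟩
        by_cases hsame : SameW D (c i) (c j)
        · -- conjugation by a member of a class fixes the class
          refine ⟨i, SameW.trans hs ⟨ThreeTrans.conj_mem hD hconj hs.1 ht.1, ?_⟩⟩
          have hst' : SameW D s t := ((SameW.symm (hcD i) hs).trans hsame).trans ht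
          have hc2 := hst'.conj_invol hD hconj hs.1
          rw [conj_self_eq hD hs.1] at hc2
          exact hc2.2
        rcases hline i j with h | ⟨k, hk⟩
        · exact absurd (h ▸ SameW.refl (hcD i)) hsame
        refine ⟨k, ?_⟩
        have hit : ¬ Commute (c i) t := fun hh => hsame
          ((show c i = t from hnc i j _ _ (SameW.refl (hcD i)) ht hh).symm ▸
            SameW.symm (hcD j) ht)
        have h1 := ht.conj_invol hD hconj (hcD i)
        have h2 := hs.conj_invol hD hconj ht.1
        rw [hk] at h1
        rw [ThreeTrans.braid hD ht.1 (hcD i) (fun hh => hit hh.symm),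
          ThreeTrans.braid hD ht.1 hs.1 (fun hh => hst hh.symm)] at h2
        exact h1.trans h2
    let x : Fin 4 → G := ![d, w, a, b]
    have hx : ∀ i, x i ∈ S := by
      intro i
      fin_cases i
      exacts [⟨0, SameW.refl hd⟩, ⟨0, hdw⟩, ⟨1, SameW.refl ha⟩, ⟨1, hab⟩]
    refine (WidthOne.four_isPGroup hS x hx).to_le (sup_le ?_ ?_) <;> rw [Subgroup.zpowers_le]
    · exact Subgroup.subset_closure ⟨1, rfl⟩
    · have e : a * b = (x 0 * x 2)⁻¹ * (x 0 * x 3) := by
        show a * b = (d * a)⁻¹ * (d * b)
        rw [mul_inv_rev, ThreeTrans.inv_self hD ha, ThreeTrans.inv_self hD hd, mul_assoc,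
          ← mul_assoc d d b, ThreeTrans.mul_self hD hd, one_mul]
      rw [e]
      exact mul_mem (inv_mem (Subgroup.subset_closure ⟨2, rfl⟩))
        (Subgroup.subset_closure ⟨3, rfl⟩)

/-- For two transpositions with the same commuting partners, their product lies in the largest
normal 3-subgroup. -/
theorem sameW_mul_mem_pCore [Finite G] (hD : Cfsg.IsThreeTranspositionSet D)
    (hconj : ∀ g : G, ∀ d ∈ D, g * d * g⁻¹ ∈ D) {d w : G} (hd : d ∈ D) (hdw : SameW D d w) :
    d * w ∈ Cfsg.pCore 3 G := by
  haveI : Fact (Nat.Prime 3) := ⟨Nat.prime_three⟩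
  have hpair : ∀ g : G, IsPGroup 3 ↥(Subgroup.zpowers (d * w) ⊔
      (Subgroup.zpowers (d * w)).map (MulAut.conj g).toMonoidHom) := by
    intro g
    rw [MonoidHom.map_zpowers]
    have e : (MulAut.conj g).toMonoidHom (d * w) = (g * d * g⁻¹) * (g * w * g⁻¹) := by
      simp [MulAut.conj_apply, mul_assoc]
    rw [e]
    exact pair_isPGroup hD hconj hd (hconj g d hd) hdw (hdw.conj hconj g)
  obtain ⟨N, hN, hNp, hXN⟩ := BaerSuzuki.exists_normal_pGroup_of_pairs _
    ((hpair 1).to_le le_sup_left) hpair
  exact (le_sSup (show N ∈ {N : Subgroup G | N.Normal ∧ IsPGroup 3 N} from ⟨hN, hNp⟩))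
    (hXN (Subgroup.mem_zpowers _))

/-- If no two members commute, any two differ by an element of the largest normal 3-subgroup. -/
theorem mul_mem_pCore_of_width_one [Finite G] (hD : Cfsg.IsThreeTranspositionSet D)
    (hconj : ∀ g : G, ∀ d ∈ D, g * d * g⁻¹ ∈ D)
    (h1 : ∀ a ∈ D, ∀ b ∈ D, Commute a b → a = b) {a b : G} (ha : a ∈ D) (hb : b ∈ D) :
    a * b ∈ Cfsg.pCore 3 G := by
  refine sameW_mul_mem_pCore hD hconj ha ⟨hb, ?_⟩
  ext y
  simp only [Set.mem_setOf_eq]
  exact ⟨fun h => absurd (h1 a ha y h.1 h.2.2).symm h.2.1,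
    fun h => absurd (h1 b hb y h.1 h.2.2).symm h.2.1⟩

end Cfsg.Agent.ThreeTransPerp
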