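import Cfsg.Agent.Lib.ThreeTrans
import Cfsg.Agent.S5349
import Cfsg.Agent.S5350
import Cfsg.Agent.S5352

/-!
# Primitivity of a class of 3-transpositions

A class of 3-transpositions is permuted primitively as soon as some normal subgroup of index at most
two lies in every non-central normal subgroup; conversely primitivity with two commuting members
forces a connected commuting graph and central cores at 2 and 3.
-/

set_option autoImplicit false
set_option linter.unusedSectionVars false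

namespace Cfsg.Agent.ThreeTransPrimitive

open Subgroup Cfsg.Agent

variable {G : Type*} [Group G] {D : Set G}

/-- The conjugate of a set. -/
def cj (g : G) (X : Set G) : Set G := (fun x => g * x * g⁻¹) '' X

theorem cj_mul (g h : G) (X : Set G) : cj (g * h) X = cj g (cj h X) := by
  simp [cj, Set.image_image, mul_assoc]

theorem cj_one (X : Set G) : cj 1 X = X := by simp [cj]

theorem cj_cancel (g : G) (X : Set G) : cj g⁻¹ (cj g X) = X := by
  rw [← cj_mul, inv_mul_cancel, cj_one]

theorem mem_cj {g x : G} {X : Set G} (hx : x ∈ X) : g * x * g⁻¹ ∈ cj g X := ⟨x, hx, rfl⟩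

variable {B : Set G}

theorem cj_eq_of_meet (hblock : ∀ g : G, cj g B = B ∨ Disjoint (cj g B) B) {g h x : G}
    (h1 : x ∈ cj g B) (h2 : x ∈ cj h B) : cj g B = cj h B := by
  have hne : ¬ Disjoint (cj (h⁻¹ * g) B) B := by
    rw [Set.not_disjoint_iff]
    refine ⟨h⁻¹ * x * h⁻¹⁻¹, ?_, ?_⟩
    · rw [cj_mul]; exact mem_cj h1
    · have := mem_cj (g := h⁻¹) h2
      rwa [cj_cancel] at this
  have e := congrArg (cj h) ((hblock _).resolve_right hne)
  rwa [← cj_mul, mul_inv_cancel_left] at e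

theorem translate_block (hblock : ∀ g : G, cj g B = B ∨ Disjoint (cj g B) B) (t : G) :
    ∀ g : G, cj g (cj t B) = cj t B ∨ Disjoint (cj g (cj t B)) (cj t B) := by
  intro g
  by_cases h : Disjoint (cj g (cj t B)) (cj t B)
  · exact Or.inr h
  left
  obtain ⟨z, hz1, hz2⟩ := Set.not_disjoint_iff.mp h
  rw [← cj_mul] at hz1 ⊢
  exact cj_eq_of_meet hblock hz1 hz2

theorem fix_of_commute (hD : Cfsg.IsThreeTranspositionSet D)
    (hblock : ∀ g : G, cj g B = B ∨ Disjoint (cj g B) B) {d x : G} (hd : d ∈ D) (hx : x ∈ B)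
    (hc : Commute d x) : cj d B = B := by
  refine (hblock d).resolve_right (Set.not_disjoint_iff.mpr ⟨x, ⟨x, hx, ?_⟩, hx⟩)
  simp only
  rw [hc.eq, mul_inv_cancel_right]

/-- A member of the block moves every translate as every other member does. -/
theorem transfer (hD : Cfsg.IsThreeTranspositionClass D) (hBD : B ⊆ D)
    (hblock : ∀ g : G, cj g B = B ∨ Disjoint (cj g B) B) {b b' : G} (hb : b ∈ B) (hb' : b' ∈ B)
    (t : G) (h : cj b (cj t B) = cj t B) : cj b' (cj t B) = cj t B := by
  have hset := hD.1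
  set C := cj t B with hC
  have hCD : C ⊆ D := by
    rintro _ ⟨x, hx, rfl⟩
    exact ThreeTrans.conjInv hD t x (hBD hx)
  have hBfix : cj b' B = B := fix_of_commute hset hblock (hBD hb') hb' (Commute.refl _)
  have hone : B = cj 1 B := (cj_one B).symm
  by_cases hc : ∃ c ∈ C, Commute b c
  · obtain ⟨c, hcC, hbc⟩ := hc
    have hcB : cj c B = B := fix_of_commute hset hblock (hCD hcC) hb hbc.symm
    by_cases hb'c : Commute b' c
    · exact fix_of_commute hset (translate_block hblock t) (hBD hb') hcC hb'c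
    have hy : c * b' * c⁻¹ = b' * c * b'⁻¹ := by
      rw [ThreeTrans.inv_self hset (hCD hcC), ThreeTrans.inv_self hset (hBD hb'),
        ThreeTrans.braid hset (hBD hb') (hCD hcC) hb'c]
    have h1 : b' * c * b'⁻¹ ∈ B := hy ▸ hcB ▸ mem_cj hb'
    have h2 : b' * c * b'⁻¹ ∈ cj (b' * t) B := by rw [cj_mul]; exact mem_cj hcC
    have e : cj (b' * t) B = B := (cj_eq_of_meet hblock h2 (hone ▸ h1)).trans (cj_one B)
    rw [cj_mul] at e
    have e' : C = B := by
      have := congrArg (cj b'⁻¹) e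
      rw [cj_cancel] at this
      show cj t B = B
      rw [this, ThreeTrans.inv_self hset (hBD hb'), hBfix]
    rw [e']
    exact hBfix
  · have hne : (cj t B).Nonempty := ⟨_, mem_cj hb⟩
    obtain ⟨c, hcC⟩ := hne
    have hbc : ¬ Commute b c := fun h => hc ⟨c, hcC, h⟩
    have hcfix : cj c C = C :=
      fix_of_commute hset (translate_block hblock t) (hCD hcC) hcC (Commute.refl _)
    have h1 : b * c * b⁻¹ ∈ C := h ▸ mem_cj hcC
    have h2 : c * (b * c * b⁻¹) * c⁻¹ ∈ C := hcfix ▸ mem_cj h1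
    have hb2 : b ∈ C := by
      convert h2 using 1
      rw [ThreeTrans.inv_self hset (hBD hb), ThreeTrans.inv_self hset (hCD hcC),
        ThreeTrans.braid hset (hBD hb) (hCD hcC) hbc]
      simp only [← mul_assoc, ThreeTrans.mul_self hset (hCD hcC), one_mul]
      rw [mul_assoc, ThreeTrans.mul_self hset (hCD hcC), mul_one]
    have e : C = B := (cj_eq_of_meet hblock (hC ▸ hb2) (hone ▸ hb)).trans (cj_one B)
    rw [e]
    exact hBfix

/-- Two members of a block induce the same permutation of its translates. -/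
theorem same_action (hD : Cfsg.IsThreeTranspositionClass D) (hBD : B ⊆ D)
    (hblock : ∀ g : G, cj g B = B ∨ Disjoint (cj g B) B) {b b' : G} (hb : b ∈ B) (hb' : b' ∈ B)
    (t : G) : cj b (cj t B) = cj b' (cj t B) := by
  have hset := hD.1
  by_cases h : cj b (cj t B) = cj t B
  · rw [h, transfer hD hBD hblock hb hb' t h]
  have h' : ¬ cj b' (cj t B) = cj t B := fun h' => h (transfer hD hBD hblock hb' hb t h')
  have hne : (cj t B).Nonempty := ⟨_, mem_cj hb⟩
  obtain ⟨c, hcC⟩ := hne
  have hcD : c ∈ D := by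
    obtain ⟨x, hx, rfl⟩ := hcC
    exact ThreeTrans.conjInv hD t x (hBD hx)
  have key : ∀ a ∈ B, ¬ cj a (cj t B) = cj t B → a * c * a⁻¹ ∈ cj c B ∧
      a * c * a⁻¹ ∈ cj (a * t) B := by
    intro a ha hmove
    have hac : ¬ Commute a c := fun hc => hmove
      (fix_of_commute hset (translate_block hblock t) (hBD ha) hcC hc)
    refine ⟨?_, by rw [cj_mul]; exact mem_cj hcC⟩
    rw [show a * c * a⁻¹ = c * a * c⁻¹ by
      rw [ThreeTrans.inv_self hset hcD, ThreeTrans.inv_self hset (hBD ha),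
        ThreeTrans.braid hset (hBD ha) hcD hac]]
    exact mem_cj ha
  obtain ⟨p1, p2⟩ := key b hb h
  obtain ⟨q1, q2⟩ := key b' hb' h'
  rw [← cj_mul, ← cj_mul, cj_eq_of_meet hblock p2 p1, cj_eq_of_meet hblock q2 q1]

/-- The kernel of the action on the translates of a set. -/
def blockKer (B : Set G) : Subgroup G where
  carrier := {g | ∀ t : G, cj g (cj t B) = cj t B}
  one_mem' := fun t => cj_one _
  mul_mem' := fun {g h} hg hh t => by rw [cj_mul, hh t, hg t]
  inv_mem' := fun {g} hg t => by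
    conv_lhs => rw [← hg t]
    rw [cj_cancel]

theorem mem_blockKer {g : G} : g ∈ blockKer B ↔ ∀ t : G, cj g (cj t B) = cj t B := Iff.rfl

instance blockKer_normal : (blockKer B).Normal := ⟨fun g hg k t => by
  rw [show cj (k * g * k⁻¹) (cj t B) = cj k (cj g (cj (k⁻¹ * t) B)) by
    simp only [← cj_mul, mul_assoc], hg, ← cj_mul, mul_inv_cancel_left]⟩

theorem primitive_of_dichotomy [Finite G] (hD : Cfsg.IsThreeTranspositionClass D)
    (hD2 : ∃ a ∈ D, ∃ b ∈ D, a ≠ b) (L : Subgroup G) [L.Normal] (hidx : L.index ≤ 2)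
    (hdich : ∀ N : Subgroup G, N.Normal → L ≤ N ∨ N ≤ center G) :
    Cfsg.IsPrimitiveUnderConj D := by
  have hset := hD.1
  have htrans : ∀ a ∈ D, ∀ b ∈ D, ∃ g : G, g * a * g⁻¹ = b := by
    obtain ⟨d₀, -, hD0⟩ := hD.2.1
    intro a ha b hb
    rw [hD0] at ha hb
    exact isConj_iff.mp ((show IsConj d₀ a from ha).symm.trans hb)
  refine ⟨htrans, hD2, fun B hBD hblock => ?_⟩
  have hblock' : ∀ g : G, cj g B = B ∨ Disjoint (cj g B) B := hblock
  by_contra hcon
  push Not at hcon
  obtain ⟨b, hb, b', hb', hne⟩ : ∃ b ∈ B, ∃ b' ∈ B, b ≠ b' := hcon.1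
  have hN : b * b' ∈ blockKer B := by
    intro t
    rw [cj_mul, ← same_action hD hBD hblock' hb hb' t, ← cj_mul,
      ThreeTrans.mul_self hset (hBD hb), cj_one]
  rcases hdich _ (blockKer_normal (B := B)) with hLN | hcen
  · let H : Subgroup G :=
      { carrier := {g | cj g B = B}
        one_mem' := cj_one _
        mul_mem' := fun {g h} hg hh => by
          show cj (g * h) B = B
          rw [cj_mul, hh, hg]
        inv_mem' := fun {g} hg => by
          show cj g⁻¹ B = B
          conv_lhs => rw [← hg]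
          rw [cj_cancel] }
    have hLH : L ≤ H := fun g hg => by
      show cj g B = B
      simpa [cj_one] using mem_blockKer.mp (hLN hg) 1
    have hbH : b ∈ H := fix_of_commute hset hblock' (hBD hb) hb (Commute.refl _)
    have htop : H = ⊤ := by
      have hdvd := index_dvd_of_le hLH
      have hL0 : 0 < L.index := Nat.pos_of_ne_zero FiniteIndex.index_ne_zero
      have hH0 := Nat.le_of_dvd hL0 hdvd
      have hpos : 0 < H.index := Nat.pos_of_ne_zero FiniteIndex.index_ne_zero
      rcases (show H.index = 1 ∨ H.index = L.index by omega) with h | h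
      · exact index_eq_one.mp h
      · have hHL : H ≤ L := by
          have hmul := relIndex_mul_index hLH
          rw [h] at hmul
          exact relIndex_eq_one.mp (Nat.mul_eq_right (by omega) |>.mp hmul)
        rw [← top_le_iff, ← hD.2.2, closure_le]
        intro d hd
        obtain ⟨g, rfl⟩ := htrans b (hBD hb) d hd
        exact hLH (Normal.conj_mem (inferInstance : L.Normal) b (hHL hbH) g)
    refine hcon.2 (Set.Subset.antisymm hBD fun d hd => ?_)
    obtain ⟨g, rfl⟩ := htrans b (hBD hb) d hd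
    have hg : cj g B = B := (htop.ge (mem_top g) : g ∈ H)
    exact hg ▸ mem_cj hb
  · have hz := mem_center_iff.mp (hcen hN)
    obtain ⟨c, hc, hbc⟩ := ThreeTrans.exists_not_commute hD hD2 (hBD hb)
    set z := b * b' with hzdef
    have hb'z : b' = b * z := by
      rw [hzdef, ← mul_assoc, ThreeTrans.mul_self hset (hBD hb), one_mul]
    have hbz : Commute b z := hz b
    have hcz : Commute c z := hz c
    have hz2 : z ^ 2 = 1 := by
      have h := ThreeTrans.mul_self hset (hBD hb')
      rwa [hb'z, mul_assoc, ← mul_assoc z b z, ← hbz.eq, mul_assoc b z z, ← mul_assoc,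
        ThreeTrans.mul_self hset (hBD hb), one_mul, ← pow_two] at h
    have hcb' : ¬ Commute c b' := by
      intro h
      apply hbc
      have h' : Commute c (b' * z⁻¹) := h.mul_right hcz.inv_right
      rw [hb'z, mul_inv_cancel_right] at h'
      exact h'.symm
    have h3 : z ^ 3 = 1 := by
      have h := ThreeTrans.cube_of_not_commute hset hc (hBD hb') hcb'
      rwa [hb'z, ← mul_assoc, (show Commute (c * b) z from hcz.mul_left hbz).mul_pow,
        ThreeTrans.cube_of_not_commute hset hc (hBD hb) (fun h => hbc h.symm), one_mul] at h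
    have hz1 : z = 1 := by
      rwa [pow_succ, hz2, one_mul] at h3
    apply hne
    rw [hb'z, hz1, mul_one]

/-- A normal subgroup centralises the class or is transitive on it. -/
theorem normal_dichotomy (hconj : ∀ g : G, ∀ d ∈ D, g * d * g⁻¹ ∈ D)
    (hprim : Cfsg.IsPrimitiveUnderConj D) (N : Subgroup G) [hN : N.Normal] :
    (∀ d ∈ D, ∀ n ∈ N, n * d * n⁻¹ = d) ∨ ∀ a ∈ D, ∀ b ∈ D, ∃ n ∈ N, b = n * a * n⁻¹ := by
  by_cases h : ∀ a ∈ D, ∀ b ∈ D, ∃ n ∈ N, b = n * a * n⁻¹
  · exact Or.inr h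
  left
  intro d hd n hn
  set O : Set G := {x | ∃ m ∈ N, x = m * d * m⁻¹}
  have hblock : ∀ g : G, cj g O = O ∨ Disjoint (cj g O) O := by
    intro g
    by_cases hdj : Disjoint (cj g O) O
    · exact Or.inr hdj
    left
    obtain ⟨z, ⟨x, ⟨m₁, hm₁, rfl⟩, rfl⟩, m₂, hm₂, he⟩ := Set.not_disjoint_iff.mp hdj
    simp only at he
    set k := g * m₁ * g⁻¹ with hk
    have hkN : k ∈ N := hN.conj_mem m₁ hm₁ g
    have hgd : g * d * g⁻¹ = (k⁻¹ * m₂) * d * (k⁻¹ * m₂)⁻¹ := by
      rw [show k⁻¹ * m₂ * d * (k⁻¹ * m₂)⁻¹ = k⁻¹ * (m₂ * d * m₂⁻¹) * k by group, ← he, hk]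
      group
    apply Set.Subset.antisymm
    · rintro _ ⟨_, ⟨m, hm, rfl⟩, rfl⟩
      refine ⟨g * m * g⁻¹ * (k⁻¹ * m₂), mul_mem (hN.conj_mem m hm g)
        (mul_mem (inv_mem hkN) hm₂), ?_⟩
      have : g * (m * d * m⁻¹) * g⁻¹ = g * m * g⁻¹ * (g * d * g⁻¹) * (g * m * g⁻¹)⁻¹ := by group
      simp only
      rw [this, hgd]
      group
    · rintro _ ⟨m, hm, rfl⟩
      refine ⟨(g⁻¹ * (m * (k⁻¹ * m₂)⁻¹) * g) * d * (g⁻¹ * (m * (k⁻¹ * m₂)⁻¹) * g)⁻¹,
        ⟨_, ?_, rfl⟩, ?_⟩
      · simpa using hN.conj_mem (m * (k⁻¹ * m₂)⁻¹) (mul_mem hm (inv_mem (mul_mem (inv_mem hkN) hm₂))) g⁻¹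
      · have e : d = g⁻¹ * ((k⁻¹ * m₂) * d * (k⁻¹ * m₂)⁻¹) * g := by rw [← hgd]; group
        simp only
        conv_lhs => arg 1; arg 2; arg 1; arg 2; rw [e]
        group
  rcases hprim.2.2 O (by rintro _ ⟨m, -, rfl⟩; exact hconj m d hd) hblock with hs | hall
  · exact hs ⟨n, hn, rfl⟩ ⟨1, one_mem _, by group⟩
  · refine absurd (fun a ha b hb => ?_) h
    obtain ⟨m₁, hm₁, rfl⟩ := hall.ge ha
    obtain ⟨m₂, hm₂, rfl⟩ := hall.ge hb
    exact ⟨m₂ * m₁⁻¹, mul_mem hm₂ (inv_mem hm₁), by group⟩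

theorem le_center_of_fix [Finite G] (hD : Cfsg.IsThreeTranspositionClass D) {N : Subgroup G}
    (h : ∀ d ∈ D, ∀ n ∈ N, n * d * n⁻¹ = d) : N ≤ center G := by
  intro n hn
  rw [mem_center_iff]
  intro g
  have hle : closure D ≤ centralizer ({n} : Set G) := by
    rw [closure_le]
    intro d hd
    exact mem_centralizer_singleton_iff.mpr (mul_inv_eq_iff_eq_mul.mp (h d hd n hn)).symm
  exact mem_centralizer_singleton_iff.mp (hle (hD.2.2 ▸ mem_top g))

theorem pCore_two_le_center [Finite G] (hD : Cfsg.IsThreeTranspositionClass D)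
    (hprim : Cfsg.IsPrimitiveUnderConj D) : Cfsg.pCore 2 G ≤ center G := by
  haveI := HallCore.pCore_normal 2 G
  rcases normal_dichotomy (ThreeTrans.conjInv hD) hprim (Cfsg.pCore 2 G) with h | h
  · exact le_center_of_fix hD h
  exfalso
  obtain ⟨d, hd, -⟩ := hD.2.1
  obtain ⟨e, he, hde⟩ := ThreeTrans.exists_not_commute hD hprim.2.1 hd
  obtain ⟨n, hn, hne⟩ := h d hd e he
  have := (Set.ext_iff.mp (S5349.result hD hprim.2.1 hd).2 e).mpr ⟨n, hn, hne⟩
  exact hde ((this.2 e he).mp (Commute.refl e))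

theorem pCore_three_le_center [Finite G] (hD : Cfsg.IsThreeTranspositionClass D)
    (hprim : Cfsg.IsPrimitiveUnderConj D) (hw : ∃ a ∈ D, ∃ b ∈ D, a ≠ b ∧ Commute a b) :
    Cfsg.pCore 3 G ≤ center G := by
  haveI := HallCore.pCore_normal 3 G
  rcases normal_dichotomy (ThreeTrans.conjInv hD) hprim (Cfsg.pCore 3 G) with h | h
  · exact le_center_of_fix hD h
  exfalso
  obtain ⟨a, ha, b, hb, hab, hc⟩ := hw
  obtain ⟨n, hn, hne⟩ := h a ha b hb
  have := (Set.ext_iff.mp (S5350.result hD hprim.2.1 ha).2 b).mpr ⟨n, hn, hne⟩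
  exact ((Set.ext_iff.mp this.2 b).mp ⟨hb, hab.symm, hc⟩).2.1 rfl

theorem connected_of_primitive (hD : Cfsg.IsThreeTranspositionClass D)
    (hprim : Cfsg.IsPrimitiveUnderConj D) (hw : ∃ a ∈ D, ∃ b ∈ D, a ≠ b ∧ Commute a b) :
    (Cfsg.commutingGraph D).Connected := by
  have hconj := ThreeTrans.conjInv hD
  obtain ⟨a, ha, b, hb, hab, hc⟩ := hw
  set R : G → G → Prop := fun x y => x ∈ D ∧ y ∈ D ∧ Commute x y with hR
  have hRsymm : ∀ x y, Relation.ReflTransGen R x y → Relation.ReflTransGen R y x := by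
    intro x y h
    induction h with
    | refl => exact .refl
    | tail _ h2 ih => exact Relation.ReflTransGen.head ⟨h2.2.1, h2.1, h2.2.2.symm⟩ ih
  have hmap : ∀ k p q : G, Relation.ReflTransGen R p q →
      Relation.ReflTransGen R (k * p * k⁻¹) (k * q * k⁻¹) := fun k p q h =>
    h.lift (fun w => k * w * k⁻¹) fun u v huv =>
      ⟨hconj k u huv.1, hconj k v huv.2.1, (Commute.conj_iff k).mpr huv.2.2⟩
  set C : Set G := {x | Relation.ReflTransGen R a x} with hC
  have hblock : ∀ g : G, cj g C = C ∨ Disjoint (cj g C) C := by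
    intro g
    by_cases hdj : Disjoint (cj g C) C
    · exact Or.inr hdj
    left
    obtain ⟨z, ⟨x, hx, rfl⟩, hz⟩ := Set.not_disjoint_iff.mp hdj
    apply Set.Subset.antisymm
    · rintro _ ⟨y, hy, rfl⟩
      exact hz.trans (hmap g x y ((hRsymm _ _ hx).trans hy))
    · intro w hw
      refine ⟨g⁻¹ * w * g⁻¹⁻¹, ?_, by group⟩
      have := hmap g⁻¹ _ _ ((hRsymm _ _ hz).trans hw)
      rw [show g⁻¹ * (g * x * g⁻¹) * g⁻¹⁻¹ = x by group] at this
      exact hx.trans this
  have hCD : C ⊆ D := by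
    intro x hx
    induction hx with
    | refl => exact ha
    | tail _ h _ => exact h.2.1
  have hall : C = D := by
    rcases hprim.2.2 C hCD hblock with hs | hall
    · exact absurd (hs Relation.ReflTransGen.refl (.single ⟨ha, hb, hc⟩)) hab
    · exact hall
  have reach : ∀ x, Relation.ReflTransGen R a x → ∀ hx : x ∈ D,
      (Cfsg.commutingGraph D).Reachable ⟨a, ha⟩ ⟨x, hx⟩ := by
    intro x hx
    induction hx with
    | refl => exact fun _ => .refl _
    | @tail y z _ hyz ih =>
      intro hzD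
      by_cases e : y = z
      · subst e; exact ih hzD
      refine (ih hyz.1).trans (SimpleGraph.Adj.reachable ?_)
      exact ⟨fun h => e (congrArg Subtype.val h), Or.inl hyz.2.2⟩
  haveI : Nonempty D := ⟨⟨a, ha⟩⟩
  refine ⟨fun u v => ?_⟩
  exact (reach u.1 (hall.ge u.2) u.2).symm.trans (reach v.1 (hall.ge v.2) v.2)

/-- Adjacent members congruent modulo `L` force index at most two. -/
theorem index_le_two (hD : Cfsg.IsThreeTranspositionClass D) (L : Subgroup G) [L.Normal]
    (hcon : (Cfsg.commutingGraph D).Connected)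
    (h : ∀ a ∈ D, ∀ b ∈ D, Commute a b → a⁻¹ * b ∈ L) : L.index ≤ 2 := by
  obtain ⟨a, ha, -⟩ := hD.2.1
  have hwalk : ∀ u v : D, (Cfsg.commutingGraph D).Reachable u v →
      (QuotientGroup.mk' L) u.1 = QuotientGroup.mk' L v.1 := by
    intro u v huv
    obtain ⟨p⟩ := huv
    induction p with
    | nil => rfl
    | @cons x y z hxy _ ih =>
      refine Eq.trans (QuotientGroup.eq.mpr ?_) ih
      rcases hxy.2 with hc | hc
      · exact h _ x.2 _ y.2 hc
      · exact h _ x.2 _ y.2 hc.symm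
  have htop : (⊤ : Subgroup (G ⧸ L)) ≤ zpowers (QuotientGroup.mk' L a) := by
    rw [← map_top_of_surjective _ (QuotientGroup.mk'_surjective L), ← hD.2.2,
      MonoidHom.map_closure, closure_le]
    rintro _ ⟨d, hd, rfl⟩
    show QuotientGroup.mk' L d ∈ zpowers (QuotientGroup.mk' L a)
    rw [hwalk ⟨d, hd⟩ ⟨a, ha⟩ (hcon.preconnected _ _)]
    exact mem_zpowers _
  have h1 : L.index = orderOf (QuotientGroup.mk' L a) := by
    rw [index_eq_card, ← Nat.card_zpowers, top_le_iff.mp htop, card_top]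
  rw [h1]
  refine Nat.le_of_dvd (by norm_num) (orderOf_dvd_of_pow_eq_one ?_)
  rw [← map_pow, pow_two, ThreeTrans.mul_self hD.1 ha, map_one]

/-- The quasisimple subgroup of S5352 lies in every non-central normal subgroup. -/
theorem dichotomy_of_gen [Finite G] (hD : Cfsg.IsThreeTranspositionClass D)
    (h2 : Cfsg.pCore 2 G ≤ center G) (h3 : Cfsg.pCore 3 G ≤ center G) (L : Subgroup G) [L.Normal]
    (hL : Cfsg.IsQuasisimple L)
    (hF : Cfsg.generalizedFittingSubgroup G = L ⊔ center G) :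
    ∀ N : Subgroup G, N.Normal → L ≤ N ∨ N ≤ center G := by
  intro N hN
  have hcomp : Cfsg.IsComponent L := ⟨(inferInstance : L.Normal).isSubnormal, hL⟩
  rcases ComponentsBasic.component_le_or_commute hcomp hN.isSubnormal with h | h
  · exact Or.inl h
  right
  have hNc : ∀ n ∈ N, ∀ x ∈ L ⊔ center G, Commute n x := by
    intro n hn x hx
    have hle : L ⊔ center G ≤ centralizer ({n} : Set G) := by
      refine sup_le (fun l hl => ?_) (fun z hz => ?_)
      · exact mem_centralizer_singleton_iff.mpr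
          (mem_centralizer_iff.mp (commutator_eq_bot_iff_le_centralizer.mp h hl) n hn).symm
      · exact mem_centralizer_singleton_iff.mpr (mem_center_iff.mp hz n).symm
    exact (mem_centralizer_singleton_iff.mp (hle hx)).symm
  have hNF : N ≤ L ⊔ center G := by
    intro n hn
    rw [← hF]
    apply ComponentsFitting.centralizer_gen_le
    rw [hF, mem_centralizer_iff]
    exact fun x hx => (hNc n hn x hx).symm
  haveI : IsMulCommutative N :=
    ⟨⟨fun x y => Subtype.ext (hNc x.1 x.2 y.1 (hNF y.2))⟩⟩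
  rw [← S5352.fitting_eq_center hD h2 h3]
  refine le_sSup ⟨hN, ?_⟩
  open scoped IsMulCommutative in infer_instance

end Cfsg.Agent.ThreeTransPrimitive
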