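import Cfsg.Agent.Lib.ThreeTransM23Parity34
import Cfsg.Agent.Lib.ThreeTransPerp
import Cfsg.Agent.Lib.ReflectionThreeOrder34
import Cfsg.Agent.Lib.ThreeTranspRank3
import Cfsg.Agent.S5350
import Cfsg.Agent.S5361

/-!
# The local quotient of type M(23) is primitive

A group of type M(22) has trivial `O₂` and `O₃`; in a primitive group of type M(23) two non-commuting
members near `d` have a common neighbour near `d`.  Hence the local quotient acts primitively.
-/

set_option autoImplicit false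
set_option linter.unusedSectionVars false
set_option linter.style.haveILetI false

namespace Cfsg.Agent.ThreeTransM23Prim34

open Subgroup Cfsg.Agent.ThreeTransRel Cfsg.Agent.ThreeTransDescent
open Cfsg.Agent.ThreeTransM23Parity34
open scoped commutatorElement

variable {G : Type*} [Group G] [Finite G] {D : Set G}

section m22

variable {X : Type*} [Group X] [Finite X] {E : Set X}

/-- A normal `p`-subgroup meets a local group inside its centre when the local quotient has no normal
`p`-subgroup. -/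
theorem local_central {d u v : X} {N : Subgroup X} [hN : N.Normal] {p : ℕ}
    (hp : IsPGroup p N) (hO : Cfsg.pCore p (↥(loc E d) ⧸ Subgroup.center ↥(loc E d)) = ⊥)
    (hu : u ∈ near E d) (hv : v ∈ near E d) (huv : u * v ∈ N) :
    ∀ y ∈ near E d, Commute y (u * v) := by
  set π := QuotientGroup.mk' (Subgroup.center ↥(loc E d)) with hπ
  have hle : (N.subgroupOf (loc E d)).map π ≤ Cfsg.pCore p _ :=
    le_sSup ⟨(inferInstance : (N.subgroupOf (loc E d)).Normal).map π (QuotientGroup.mk'_surjective _),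
      ((hp.comap_of_injective _ (loc E d).subtype_injective).map π)⟩
  rw [hO, le_bot_iff] at hle
  have h1 : π (⟨u, near_le_loc hu⟩ * ⟨v, near_le_loc hv⟩) = 1 := by
    rw [← mem_bot, ← hle]
    exact mem_map_of_mem π (show _ ∈ N.subgroupOf (loc E d) from huv)
  exact (mk_eq_one_iff _).mp h1

theorem center_pCore {n : ℕ} [Fact n.Prime] (hn : n = 2 ∨ n = 3) {F : Type} [Field F] [Fintype F]
    (hF : Fintype.card F = 4) {Q : Type*} [Group Q] [Finite Q] (e : Q ≃* Cfsg.PSU 6 F 2) :
    Cfsg.pCore n Q = ⊥ := by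
  have h := (ThreeTransPairs.psu6Simple F hF).congr e.symm
  haveI := h.1
  haveI hN : (Cfsg.pCore n Q).Normal := HallCore.pCore_normal n Q
  rcases Subgroup.Normal.eq_bot_or_eq_top (H := Cfsg.pCore n Q) hN with e' | e'
  · exact e'
  · exfalso
    have hp : IsPGroup n Q := by
      have := HallCore.isPGroup_pCore n Q
      rw [e'] at this
      exact this.of_equiv Subgroup.topEquiv
    haveI := h.1.toNontrivial
    haveI := hp.center_nontrivial
    exact (Subgroup.nontrivial_iff_ne_bot _).mp this h.center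

/-- Type M(22): no normal 2- or 3-subgroup. -/
theorem m22_cores (ht : TSys E) (h1 : ∀ y ∈ E, y ≠ 1) (h22 : Cfsg.IsOfTypeM22 X E) :
    Cfsg.pCore 2 X = ⊥ ∧ Cfsg.pCore 3 X = ⊥ := by
  classical
  obtain ⟨-, hcl, -⟩ := m22_even ht h1 h22
  obtain ⟨hZ, d, hd, c, hc, hdc, ⟨F, _, _, hF, ⟨iso⟩⟩, -⟩ := h22
  haveI : Fact (Nat.Prime 2) := ⟨Nat.prime_two⟩
  haveI : Fact (Nat.Prime 3) := ⟨Nat.prime_three⟩
  have hconj := ThreeTrans.conjInv hcl
  have htrans : ∀ a ∈ E, ∀ b ∈ E, ∃ g : X, g * a * g⁻¹ = b := by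
    obtain ⟨d₀, -, hE⟩ := hcl.2.1
    intro a ha b hb
    exact isConj_iff.mp ((show IsConj d₀ a from Set.ext_iff.mp hE a |>.mp ha).symm.trans
      (show IsConj d₀ b from Set.ext_iff.mp hE b |>.mp hb))
  obtain ⟨a, ha, b, hb, hab⟩ : ∃ a ∈ near E d, ∃ b ∈ near E d, ¬ Commute a b := by
    by_contra hno
    push Not at hno
    obtain ⟨-, x, y, hxy⟩ := (ThreeTransPairs.psu6Simple F hF).congr iso.symm
    obtain ⟨x, rfl⟩ := QuotientGroup.mk'_surjective _ x
    obtain ⟨y, rfl⟩ := QuotientGroup.mk'_surjective _ y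
    have : (QuotientGroup.mk' (Subgroup.center ↥(loc E d))) x = 1 := by
      refine (mk_eq_one_iff x).mpr fun z hz => ?_
      have hle : loc E d ≤ Subgroup.centralizer ({z} : Set X) := (closure_le _).mpr fun w hw =>
        mem_centralizer_singleton_iff.mpr (hno w hw z hz).eq
      exact (mem_centralizer_singleton_iff.mp (hle x.2) : (x : X) * z = z * x).symm
    exact hxy (by rw [this]; exact Commute.one_left _)
  have hD2 : ∃ p ∈ E, ∃ q ∈ E, p ≠ q := ⟨a, ha.1, d, hd, ha.2.1⟩
  have hfix : ∀ (n : ℕ), (∀ g ∈ Cfsg.pCore n X, g * d * g⁻¹ = d) → Cfsg.pCore n X = ⊥ := by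
    intro n hn
    refine le_bot_iff.mp (hZ ▸ ThreeTransPrimitive.le_center_of_fix hcl fun e he g hg => ?_)
    obtain ⟨k, rfl⟩ := htrans d hd e he
    have := hn _ ((HallCore.pCore_normal n X).conj_mem g hg k⁻¹)
    calc g * (k * d * k⁻¹) * g⁻¹ = k * (k⁻¹ * g * k⁻¹⁻¹ * d * (k⁻¹ * g * k⁻¹⁻¹)⁻¹) * k⁻¹ := by group
      _ = k * d * k⁻¹ := by rw [this]
  constructor
  · refine hfix 2 fun g hg => ?_
    by_contra hne
    have hp := (Set.ext_iff.mp (S5349.result hcl hD2 hd).2 (g * d * g⁻¹)).mpr ⟨g, hg, rfl⟩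
    have hall : ∀ u ∈ near E d, ∀ y ∈ near E d, Commute y u := by
      intro u hu y hy
      obtain ⟨k, hk⟩ := htrans d hd u hu.1
      have htw : ThreeTrans.SameV E u (k * (g * d * g⁻¹) * k⁻¹) := hk ▸
        ThreeTrans.SameV.conj hconj (show ThreeTrans.SameV E d (g * d * g⁻¹) from hp) k
      have hne' : k * (g * d * g⁻¹) * k⁻¹ ≠ u := fun e => hne
        (mul_left_cancel (mul_right_cancel (e.trans hk.symm)))
      set u' := k * (g * d * g⁻¹) * k⁻¹ with hu'
      by_cases hud : u' = d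
      · exact ((htw.2 y hy.1).mp (hud ▸ hy.2.2)).symm
      have hu'n : u' ∈ near E d := ⟨htw.1, hud, ((htw.2 d hd).mpr hu.2.2.symm).symm⟩
      haveI := HallCore.pCore_normal 2 X
      have hcen := local_central (HallCore.isPGroup_pCore 2 X) (center_pCore (Or.inl rfl) hF iso)
        hu hu'n (ThreeTrans.sameV_mul_mem_pCore hcl.1 hconj hu.1 htw) y hy
      have hl : CList E [u, u'] := ⟨by simp [hu.1, htw.1], by simp [hne'.symm],
        by simp [htw.commute, htw.commute.symm]⟩
      exact cnt_eq_zero.mp ((key ht hy.1 hl (by simp)).1.mp (by simpa using hcen)) u (by simp)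
    exact hab (hall b hb a ha)
  · refine hfix 3 fun g hg => ?_
    by_contra hne
    have hp := (Set.ext_iff.mp (S5350.result hcl hD2 hd).2 (g * d * g⁻¹)).mpr ⟨g, hg, rfl⟩
    obtain ⟨k, hk⟩ := htrans d hd a ha.1
    have htw : ThreeTransPerp.SameW E a (k * (g * d * g⁻¹) * k⁻¹) := hk ▸
      ThreeTransPerp.SameW.conj hconj (show ThreeTransPerp.SameW E d (g * d * g⁻¹) from hp) k
    have hne' : k * (g * d * g⁻¹) * k⁻¹ ≠ a := fun e => hne
      (mul_left_cancel (mul_right_cancel (e.trans hk.symm)))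
    set a' := k * (g * d * g⁻¹) * k⁻¹ with ha'
    have h2 := (htw.mem_iff hd).mp ⟨ha.2.1.symm, ha.2.2.symm⟩
    have ha'n : a' ∈ near E d := ⟨htw.1, h2.1.symm, h2.2.symm⟩
    haveI := HallCore.pCore_normal 3 X
    have hcen := local_central (HallCore.isPGroup_pCore 3 X) (center_pCore (Or.inr rfl) hF iso)
      ha ha'n (ThreeTransPerp.sameW_mul_mem_pCore hcl.1 hconj ha.1 htw) a ha
    exact hne' (htw.eq_of_commute (by
      have := (Commute.refl a).inv_right.mul_right hcen
      rwa [inv_mul_cancel_left] at this))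

end m22

/-- The class of a primitive group. -/
theorem class_of_prim (hD : Cfsg.IsThreeTranspositionGroup D)
    (hprim : Cfsg.IsPrimitiveUnderConj D) : Cfsg.IsThreeTranspositionClass D := by
  obtain ⟨a, ha, -⟩ := hprim.2.1
  refine ⟨hD.1, ⟨a, ha, Set.ext fun x => ⟨fun hx => isConj_iff.mpr (hprim.1 a ha x hx), fun hx => ?_⟩⟩,
    hD.2.2⟩
  obtain ⟨g, rfl⟩ := isConj_iff.mp (show IsConj a x from hx)
  exact hD.2.1 g a ha

/-- The order of the common local group. -/
theorem card_common {d c : G} {c₃ : ZMod 3} (hc₃ : c₃ ≠ 0)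
    (hL : Cfsg.IsProjReflectionGroupModThree
      (↥(Subgroup.closure (near D d ∩ near D c)) ⧸
        Subgroup.center ↥(Subgroup.closure (near D d ∩ near D c))) 7 (-c₃) c₃) :
    4585351680 ∣ Nat.card ↥(Subgroup.closure (near D d ∩ near D c)) :=
  (ReflectionThreeOrder34.dvd_card_of_proj hc₃ hL).trans (Subgroup.card_quotient_dvd_card _)

/-- Type M(23): transitivity inputs. -/
theorem derived (hD : Cfsg.IsThreeTranspositionGroup D) (hprim : Cfsg.IsPrimitiveUnderConj D)
    (h23 : Cfsg.IsOfTypeM23 G D) :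
    IsSimpleGroup ↥(commutator G) ∧
      (∀ N : Subgroup G, N.Normal → Group.IsSolvable ↥N → N ≤ commutator G → N = ⊥) ∧
      ⁅commutator G, commutator G⁆ = commutator G := by
  have ht := tsys_of_group hD
  have hcl := class_of_prim hD hprim
  obtain ⟨-, hne⟩ := m23_odd ht hprim h23
  obtain ⟨hZ, d, hd, c, hc, hdc, -, c₃, hc₃, hL⟩ := h23
  obtain ⟨y, hy⟩ := hne d hd
  have hw : ∃ a ∈ D, ∃ b ∈ D, a ≠ b ∧ Commute a b := ⟨d, hd, y, hy.1, hy.2.1.symm, hy.2.2⟩
  haveI hs : IsSimpleGroup ↥(commutator G) := (S5361.result hcl hZ hw).1.mpr hprim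
  have hidx : (commutator G).index ≤ 2 := by
    refine ThreeTransPrimitive.index_le_two hcl _
      (ThreeTransPrimitive.connected_of_primitive hcl hprim hw) fun a ha b hb _ => ?_
    obtain ⟨g, rfl⟩ := hprim.1 a ha b hb
    rw [show a⁻¹ * (g * a * g⁻¹) = ⁅a⁻¹, g⁆ by rw [commutatorElement_def]; group]
    exact Subgroup.commutator_mem_commutator (mem_top _) (mem_top _)
  have hnc : ¬ IsMulCommutative ↥(commutator G) := by
    intro hco
    letI : CommGroup ↥(commutator G) :=
      { (inferInstance : Group ↥(commutator G)) with mul_comm := hco.is_comm.comm }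
    have hp : (Nat.card ↥(commutator G)).Prime := IsSimpleGroup.prime_card
    have h1 := ((card_common hc₃ hL).trans (Subgroup.card_subgroup_dvd_card _))
    have h2 := (commutator G).card_mul_index
    rw [← h2] at h1
    have hi : 0 < (commutator G).index := Nat.pos_of_ne_zero FiniteIndex.index_ne_zero
    have h4 : 4 ∣ Nat.card ↥(commutator G) * (commutator G).index :=
      (by norm_num : 4 ∣ 4585351680).trans h1
    have hp2 : Nat.card ↥(commutator G) = 2 := by
      rcases hp.eq_two_or_odd with h | h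
      · exact h
      · exfalso
        rcases (show (commutator G).index = 1 ∨ (commutator G).index = 2 by omega) with h' | h' <;>
          rw [h'] at h4 <;> omega
    have := Nat.le_of_dvd (by rw [hp2]; omega) h1
    rw [hp2] at this
    omega
  have hbr : commutator ↥(commutator G) = ⊤ := by
    rcases Subgroup.Normal.eq_bot_or_eq_top (H := commutator ↥(commutator G)) inferInstance with h | h
    · exfalso
      rw [commutator_eq_bot_iff] at h
      exact hnc h
    · exact h
  refine ⟨hs, fun N hN hsol hle => ?_, ?_⟩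
  · rcases Subgroup.Normal.eq_bot_or_eq_top (H := N.subgroupOf (commutator G)) inferInstance with h | h
    · rw [Subgroup.subgroupOf_eq_bot, disjoint_iff, inf_eq_left.mpr hle] at h
      exact h
    · exfalso
      have hle' : commutator G ≤ N := Subgroup.subgroupOf_eq_top.mp h
      haveI := hsol
      haveI : Group.IsSolvable ↥(commutator G) := Group.isSolvable_of_isSolvable_injective
        (f := Subgroup.inclusion hle') (Subgroup.inclusion_injective hle')
      haveI := hs.toNontrivial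
      haveI : Group.IsPerfect ↥(commutator G) := ⟨hbr⟩
      exact Group.IsPerfect.not_isSolvable ↥(commutator G) inferInstance
  · have h := congrArg (Subgroup.map (commutator G).subtype) hbr
    rwa [Subgroup.map_subtype_commutator, ← MonoidHom.range_eq_map, Subgroup.range_subtype] at h

/-- Non-commuting members near `d₀` have a common neighbour near `d₀`. -/
theorem common_neighbour (hD : Cfsg.IsThreeTranspositionGroup D)
    (hprim : Cfsg.IsPrimitiveUnderConj D) (h23 : Cfsg.IsOfTypeM23 G D) {d₀ p q : G} (hd₀ : d₀ ∈ D)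
    (hp : p ∈ near D d₀) (hq : q ∈ near D d₀) (hpq : ¬ Commute p q) :
    ∃ y ∈ near D d₀, y ∈ near D p ∧ y ∈ near D q := by
  classical
  have ht := tsys_of_group hD
  have hcl := class_of_prim hD hprim
  have htc := ThreeTransp.tc_of_class hcl
  obtain ⟨-, hsol, hperf⟩ := derived hD hprim h23
  obtain ⟨-, d, hd, c, hc, hdc, -, c₃, hc₃, hL⟩ := h23
  set S := near D d ∩ near D c with hS
  set L := Subgroup.closure S with hLdef
  have hLd : ∀ k ∈ L, Commute d k ∧ Commute c k := fun k hk =>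
    ⟨commute_d_of_mem_loc (closure_mono Set.inter_subset_left hk),
      commute_d_of_mem_loc (closure_mono Set.inter_subset_right hk)⟩
  have hSconj : ∀ k ∈ L, ∀ y ∈ S, k * y * k⁻¹ ∈ S := fun k hk y hy =>
    ⟨near_conj ht (hLd k hk).1.symm hy.1, near_conj ht (hLd k hk).2.symm hy.2⟩
  have hpart : ∀ s ∈ S, ∃ t ∈ S, t ≠ s ∧ Commute s t := by
    intro s hs
    by_contra hno
    push Not at hno
    have hw1 : ∀ a ∈ S, ∀ b ∈ S, Commute a b → a = b := by
      intro a ha b hb hab
      by_contra hne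
      by_cases has : a = s
      · exact hno b hb (fun e => hne (has.trans e.symm)) (has ▸ hab)
      · have hn : ¬ Commute s a := hno a ha has
        set k := s * a with hk
        have hkL : k ∈ L := mul_mem (subset_closure hs) (subset_closure ha)
        have hks : k * s * k⁻¹ = a := by
          rw [hk, mul_inv_rev, ht.inv_self hs.1.1, ht.inv_self ha.1.1]
          calc s * a * s * (a * s) = (s * a * s) * a * s := by group
            _ = (a * s * a) * a * s := by rw [ht.braid s hs.1.1 a ha.1.1 hn]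
            _ = a * (s * (a * a) * s) := by group
            _ = a := by rw [ht.sq a ha.1.1, mul_one, ht.sq s hs.1.1, mul_one]
        have hb' := hSconj _ (inv_mem hkL) b hb
        refine hno _ hb' (fun e => hne ?_) ?_
        · rw [← hks, ← e]; group
        · have := (Commute.conj_iff k⁻¹).mpr hab
          rwa [← hks, show k⁻¹ * (k * s * k⁻¹) * k⁻¹⁻¹ = s by group] at this
    set S' : Set ↥L := {x | (x : G) ∈ S} with hS'
    have hset : Cfsg.IsThreeTranspositionSet S' := by
      refine ⟨fun x hx => ?_, fun x hx y hy => ?_⟩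
      · rw [← hD.1.1 _ hx.1.1]; exact (orderOf_injective L.subtype L.subtype_injective x).symm
      · exact (hD.1.2 _ hx.1.1 _ hy.1.1).imp (fun h => Subtype.ext (by simpa using h))
          fun h => Subtype.ext (by simpa using h)
    have hin : ∀ x ∈ S', ∀ y ∈ S', x * y ∈ Cfsg.pCore 3 ↥L := fun x hx y hy =>
      ThreeTransPerp.mul_mem_pCore_of_width_one hset (fun g x hx => hSconj g g.2 x hx)
        (fun a ha b hb h => Subtype.ext (hw1 _ ha _ hb (h.map L.subtype))) hx hy
    haveI := HallCore.pCore_normal 3 ↥L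
    set π := QuotientGroup.mk' (Cfsg.pCore 3 ↥L) with hπ
    have hgen : Subgroup.closure S' = ⊤ := by
      rw [eq_top_iff]
      rintro ⟨x, hx⟩ -
      induction hx using Subgroup.closure_induction with
      | mem y hy => exact subset_closure hy
      | one => exact one_mem _
      | mul a b _ _ ha hb => exact mul_mem ha hb
      | inv a _ ha => exact inv_mem ha
    have hsL : (⟨s, subset_closure hs⟩ : ↥L) ∈ S' := hs
    have htop : (⊤ : Subgroup (↥L ⧸ Cfsg.pCore 3 ↥L)) ≤ zpowers (π ⟨s, subset_closure hs⟩) := by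
      rw [← map_top_of_surjective _ (QuotientGroup.mk'_surjective _), ← hgen, MonoidHom.map_closure,
        closure_le]
      rintro _ ⟨x, hx, rfl⟩
      have h1 : π (x * ⟨s, subset_closure hs⟩) = 1 :=
        (QuotientGroup.eq_one_iff _).mpr (hin x hx _ hsL)
      rw [map_mul] at h1
      show QuotientGroup.mk' _ x ∈ zpowers _
      rw [eq_inv_of_mul_eq_one_left h1]
      exact inv_mem (mem_zpowers _)
    have hidx : (Cfsg.pCore 3 ↥L).index ≤ 2 := by
      rw [index_eq_card, ← Subgroup.card_top, ← top_le_iff.mp htop, Nat.card_zpowers]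
      refine Nat.le_of_dvd (by norm_num) (orderOf_dvd_of_pow_eq_one ?_)
      rw [← map_pow, pow_two, show (⟨s, subset_closure hs⟩ : ↥L) * ⟨s, _⟩ = 1 from
        Subtype.ext (ht.sq s hs.1.1), map_one]
    haveI : Fact (Nat.Prime 3) := ⟨Nat.prime_three⟩
    obtain ⟨n, hn⟩ := IsPGroup.iff_card.mp (HallCore.isPGroup_pCore 3 ↥L)
    have h5 : 5 ∣ 3 ^ n * (Cfsg.pCore 3 ↥L).index := by
      rw [← hn, Subgroup.card_mul_index]
      exact (by norm_num : 5 ∣ 4585351680).trans (card_common hc₃ hL)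
    rcases (Nat.Prime.dvd_mul (by norm_num)).mp h5 with h | h
    · exact absurd (Nat.Prime.dvd_of_dvd_pow (by norm_num) h) (by norm_num)
    · have hi : 0 < (Cfsg.pCore 3 ↥L).index := Nat.pos_of_ne_zero FiniteIndex.index_ne_zero
      have := Nat.le_of_dvd hi h
      omega
  obtain ⟨g, hg⟩ := hprim.1 p hp.1 d hd
  have hq' : ¬ Commute d (g * q * g⁻¹) := fun h => hpq ((Commute.conj_iff g).mp (hg ▸ h))
  obtain ⟨k, hk1, hk2⟩ := ThreeTransp.ax_transitive htc hsol hperf hd (hD.2.1 g q hq.1) hc hq' hdc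
  set m := k * g with hm
  have hmp : m * p * m⁻¹ = d := by
    rw [hm, show k * g * p * (k * g)⁻¹ = k * (g * p * g⁻¹) * k⁻¹ by group, hg, hk1]
  have hmq : m * q * m⁻¹ = c := by
    rw [hm, show k * g * q * (k * g)⁻¹ = k * (g * q * g⁻¹) * k⁻¹ by group, hk2]
  have hmn : ∀ x y : G, m * y * m⁻¹ ∈ near D (m * x * m⁻¹) → y ∈ near D x := fun x y h => by
    have e : ∀ w : G, m⁻¹ * (m * w * m⁻¹) * m⁻¹⁻¹ = w := fun w => by group
    exact ⟨e y ▸ hD.2.1 m⁻¹ _ h.1, fun h' => h.2.1 (by rw [h']), (Commute.conj_iff m).mp h.2.2⟩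
  have hmn' : ∀ x y : G, y ∈ near D x → m * y * m⁻¹ ∈ near D (m * x * m⁻¹) := fun x y h =>
    ⟨hD.2.1 m y h.1, fun e => h.2.1 (mul_left_cancel (mul_right_cancel e)),
      (Commute.conj_iff m).mpr h.2.2⟩
  obtain ⟨t, ht', htne, htc'⟩ := hpart (m * d₀ * m⁻¹)
    ⟨hmp ▸ hmn' p d₀ ⟨hd₀, hp.2.1.symm, hp.2.2.symm⟩, hmq ▸ hmn' q d₀ ⟨hd₀, hq.2.1.symm, hq.2.2.symm⟩⟩
  have e : m * (m⁻¹ * t * m) * m⁻¹ = t := by group
  exact ⟨m⁻¹ * t * m, hmn _ _ (by rw [e]; exact ⟨ht'.1.1, htne, htc'⟩),
    hmn _ _ (by rw [e, hmp]; exact ht'.1), hmn _ _ (by rw [e, hmq]; exact ht'.2)⟩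

/-- The local quotient of type M(22) is a primitive group of that type. -/
theorem img_primitive (hD : Cfsg.IsThreeTranspositionGroup D) (hprim : Cfsg.IsPrimitiveUnderConj D)
    (h23 : Cfsg.IsOfTypeM23 G D) {d : G} (hd : d ∈ D)
    (h22 : Cfsg.IsOfTypeM22 (↥(loc D d) ⧸ Subgroup.center ↥(loc D d)) (imgSet D d)) :
    Cfsg.IsThreeTranspositionGroup (imgSet D d) ∧ Cfsg.IsPrimitiveUnderConj (imgSet D d) := by
  classical
  have ht := tsys_of_group hD
  have htI := tsys_img ht d
  have hno := no_trivial ht hprim hd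
  have h1 : ∀ y ∈ imgSet D d, y ≠ 1 := by
    rintro _ ⟨x, hx, rfl⟩ e
    exact hno _ hx ((mk_eq_one_iff x).mp e)
  obtain ⟨-, hcl, a, ha, b, hb, -⟩ := m22_even htI h1 h22
  have hgrp : Cfsg.IsThreeTranspositionGroup (imgSet D d) := ⟨hcl.1, htI.conj, htI.gen⟩
  obtain ⟨h2, h3⟩ := m22_cores htI h1 h22
  obtain ⟨hiff1, hiff2⟩ := S5361.result hcl h22.1 ⟨a, ha, b, hb.1, hb.2.1.symm, hb.2.2⟩
  refine ⟨hgrp, hiff2.mpr ⟨h2, h3, ?_⟩⟩
  haveI : Nonempty ↥(imgSet D d) := ⟨⟨a, ha⟩⟩
  refine ⟨fun u v => ?_⟩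
  have hstep : ∀ u v : ↥(imgSet D d), Commute u.1 v.1 →
      (Cfsg.commutingGraph (imgSet D d)).Reachable u v := by
    intro u v h
    by_cases e : u = v
    · subst e; exact .refl _
    · exact SimpleGraph.Adj.reachable ⟨e, Or.inl h⟩
  by_cases huv : Commute u.1 v.1
  · exact hstep u v huv
  obtain ⟨p, hp, hpu⟩ := u.2
  obtain ⟨q, hq, hqv⟩ := v.2
  have hpq : ¬ Commute (p : G) q := fun h => huv (by
    rw [← hpu, ← hqv]
    exact (show Commute p q from Subtype.ext h.eq).map (QuotientGroup.mk' _))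
  obtain ⟨y, hy, hyp, hyq⟩ := common_neighbour hD hprim h23 hd hp hq hpq
  refine (hstep u ⟨_, ⟨y, near_le_loc hy⟩, hy, rfl⟩ ?_).trans (hstep _ v ?_)
  · rw [← hpu]
    exact (show Commute p ⟨y, near_le_loc hy⟩ from Subtype.ext hyp.2.2.eq).map (QuotientGroup.mk' _)
  · rw [← hqv]
    exact (show Commute (⟨y, near_le_loc hy⟩ : ↥(loc D d)) q from Subtype.ext hyq.2.2.symm.eq).map
      (QuotientGroup.mk' _)

/-- Primitivity of the local quotient at the base member of type M(23). -/
theorem exists_base (hD : Cfsg.IsThreeTranspositionGroup D) (hprim : Cfsg.IsPrimitiveUnderConj D)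
    (h23 : Cfsg.IsOfTypeM23 G D) :
    ∃ d ∈ D, Cfsg.IsThreeTranspositionGroup (imgSet D d) ∧ Cfsg.IsPrimitiveUnderConj (imgSet D d) ∧
      Cfsg.IsOfTypeM22 (↥(loc D d) ⧸ Subgroup.center ↥(loc D d)) (imgSet D d) := by
  obtain ⟨-, d, hd, -, -, -, h22, -⟩ := id h23
  obtain ⟨h1, h2⟩ := img_primitive hD hprim h23 hd h22
  exact ⟨d, hd, h1, h2, h22⟩

end Cfsg.Agent.ThreeTransM23Prim34
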