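import Cfsg.Agent.Lib.ThreeTransM23Local59
import Cfsg.Agent.Lib.ThreeTransM22Swap59
import Cfsg.Agent.Lib.ThreeTransM23Prim34

/-!
# The centralizer of a member in type M(23)

The centralizer of a member is its local group: otherwise an element outside, adjusted through the outer
automorphism of the local quotient, has square `1` or a member `e` and a non-trivial transfer.
-/

set_option autoImplicit false
set_option linter.unusedSectionVars false
set_option linter.style.haveILetI false

namespace Cfsg.Agent.ThreeTransM23Cent59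

open Subgroup Cfsg.Agent.ThreeTransRel Cfsg.Agent.ThreeTransDescent
open Cfsg.Agent.ThreeTransM23Parity34 Cfsg.Agent.ThreeTransM23Local59

variable {G : Type*} [Group G] [Finite G] {D : Set G} {d : G}
variable (X : Ctx D d)
include X

theorem quotAut_mul {j y : G} (hj : j ∈ loc D d) (hy : Commute y d) :
    quotAut X.ts ((commute_d_of_mem_loc hj).symm.mul_left hy) =
      MulAut.conj (im D d j) * quotAut X.ts hy := by
  refine MulEquiv.ext fun u => ?_
  obtain ⟨p, hp, rfl⟩ := X.surj_quot u
  have hyp : y * p * y⁻¹ ∈ loc D d := conj_mem_loc X.ts (mul_inv_eq_iff_eq_mul.mpr hy.eq) hp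
  rw [quotAut_im X.ts _ hp, MulAut.mul_apply, quotAut_im X.ts hy hp, MulAut.conj_apply,
    ← X.im_conj hj hyp]
  congr 1
  group

theorem quotAut_sq {y : G} (hy : Commute y d) :
    quotAut X.ts hy * quotAut X.ts hy = quotAut X.ts (hy.mul_left hy) := by
  refine MulEquiv.ext fun u => ?_
  obtain ⟨p, hp, rfl⟩ := X.surj_quot u
  have hyp : y * p * y⁻¹ ∈ loc D d := conj_mem_loc X.ts (mul_inv_eq_iff_eq_mul.mpr hy.eq) hp
  rw [MulAut.mul_apply, quotAut_im X.ts hy hp, quotAut_im X.ts hy hyp, quotAut_im X.ts _ hp]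
  congr 1
  group

/-- An element whose induced automorphism is inner lies in the local group. -/
theorem mem_of_inner {y : G} (hy : Commute y d)
    {k : ↥(loc D d) ⧸ Subgroup.center ↥(loc D d)} (h : quotAut X.ts hy = MulAut.conj k) :
    y ∈ loc D d := by
  obtain ⟨j, hj, rfl⟩ := X.surj_quot k
  have hjy : Commute (j⁻¹ * y) d := (commute_d_of_mem_loc hj).symm.inv_left.mul_left hy
  have hfix : ∀ p ∈ near D d, j⁻¹ * y * p * (j⁻¹ * y)⁻¹ = p := fun p hp => by
    refine X.inj (X.conj_near hjy hp) hp ?_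
    rw [show j⁻¹ * y * p * (j⁻¹ * y)⁻¹ = j⁻¹ * (y * p * y⁻¹) * j⁻¹⁻¹ by group,
      X.im_conj (inv_mem hj) (near_le_loc (X.conj_near hy hp)), ← quotAut_im X.ts hy (near_le_loc hp),
      h, MulAut.conj_apply, ← X.im_conj hj (near_le_loc hp),
      ← X.im_conj (inv_mem hj) (near_le_loc (X.conj_near (commute_d_of_mem_loc hj).symm hp))]
    congr 1; group
  rcases X.only hjy (fun p hp => (mul_inv_eq_iff_eq_mul.mp (hfix p hp)).symm) with h' | h'
  · rw [inv_mul_eq_one.mp h'] at hj; exact hj
  · have := mul_mem hj (h' ▸ X.self : j⁻¹ * y ∈ loc D d)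
    rwa [mul_inv_cancel_left] at this

theorem im_one : im D d 1 = 1 := im_eq (one_mem _)

/-- An element of the local group whose square is a member does not exist. -/
theorem no_sqrt {v : G} (hv : v ∈ loc D d) (hvv : v * v ∈ D) : False := by
  have h1 : v * v ≠ 1 := ThreeTrans.ne_one X.grp.1 hvv
  by_cases e : v * v = d
  · by_cases h0 : im D d v = 1
    · rcases X.ker hv h0 with h | h
      · exact h1 (by rw [h, one_mul])
      · exact h1 (by rw [h]; exact X.ts.sq d X.mem)
    have hd0 : im D d d = 1 := by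
      rw [im_eq X.self]
      exact (mk_eq_one_iff _).mpr fun y hy => hy.2.2.symm
    have ho : orderOf (im D d v) = 2 := orderOf_eq_prime
      (by rw [pow_two, ← X.im_mul hv hv, e, hd0]) h0
    obtain ⟨L, hL, -, -, hp⟩ := ThreeTransM22Classes72.exists_product X.qgrp X.qprim X.q22 ho
    obtain ⟨l, hl, hn, rfl⟩ := X.lift_list hL
    have hc : Commute d l.prod := Commute.list_prod_right _ _ fun p hp => (hn p hp).2.2
    rcases X.prod_cases (l' := l) hl hn hv hp.symm with e' | e'
    · exact h1 (by rw [e', hl.prod_sq X.ts])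
    · refine h1 ?_
      rw [e', show d * l.prod * (d * l.prod) = d * (l.prod * d) * l.prod by group, ← hc.eq,
        ← mul_assoc, X.ts.sq d X.mem, one_mul, hl.prod_sq X.ts]
  · have hn : v * v ∈ near D d := ⟨hvv, e, commute_d_of_mem_loc (mul_mem hv hv)⟩
    have := X.im_mem hn
    rw [X.im_mul hv hv] at this
    exact ThreeTransM22Swap59.no_sqrt X.qgrp X.qprim X.q22 this

open Classical in
/-- The centralizer of `d` is its local group. -/
theorem centralizer_eq : Subgroup.centralizer ({d} : Set G) = loc D d := by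
  refine le_antisymm (fun x₀ hx₀ => ?_) fun x hx =>
    mem_centralizer_singleton_iff.mpr (commute_d_of_mem_loc hx).symm.eq
  have hx₀d : Commute x₀ d := mem_centralizer_singleton_iff.mp hx₀
  by_contra hn₀
  obtain ⟨hodd, hnearne⟩ := m23_odd X.ts X.prim X.m23
  obtain ⟨e, he⟩ := hnearne d X.mem
  -- fix `e`
  obtain ⟨y, hyd, hye, hyn⟩ : ∃ y : G, Commute y d ∧ Commute y e ∧ y ∉ loc D d := by
    obtain ⟨k, hk, hke⟩ := X.transitive (X.conj_near hx₀d he) he
    refine ⟨k * x₀, (commute_d_of_mem_loc hk).symm.mul_left hx₀d, mul_inv_eq_iff_eq_mul.mp ?_,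
      fun h => hn₀ ((mul_mem_cancel_left hk).mp h)⟩
    rw [show k * x₀ * e * (k * x₀)⁻¹ = k * (x₀ * e * x₀⁻¹) * k⁻¹ by group, hke]
  have hpres : ∀ u ∈ imgSet D d, quotAut X.ts hyd u ∈ imgSet D d := by
    intro u hu
    obtain ⟨p, hp, rfl⟩ := X.surj_img hu
    rw [quotAut_im X.ts hyd (near_le_loc hp)]; exact X.im_mem (X.conj_near hyd hp)
  have hfe : quotAut X.ts hyd (im D d e) = im D d e := by
    rw [quotAut_im X.ts hyd (near_le_loc he), mul_inv_eq_iff_eq_mul.mpr hye.eq]
  rcases ThreeTransM22Swap59.swap X.qgrp X.qprim X.q22 (X.im_mem he) hpres hfe with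
    ⟨k, hk⟩ | ⟨k, hk, hsq, M, hM, hMlen, hMn, ⟨q, hq, hqM⟩, hMp⟩
  · exact hyn (mem_of_inner X hyd hk)
  obtain ⟨j, hj, rfl⟩ := X.surj_quot k
  have hje : Commute j e := by
    refine mul_inv_eq_iff_eq_mul.mp (X.inj (X.conj_near (commute_d_of_mem_loc hj).symm he) he ?_)
    rw [X.im_conj hj (near_le_loc he),
      mul_inv_eq_iff_eq_mul.mpr (commute_d_of_mem_loc hk).symm.eq]
  set u := j * y with hu
  have hud : Commute u d := (commute_d_of_mem_loc hj).symm.mul_left hyd
  have hue : Commute u e := hje.mul_left hye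
  have hun : u ∉ loc D d := fun h => hyn ((mul_mem_cancel_left hj).mp h)
  have hσ : quotAut X.ts hud = MulAut.conj (im D d j) * quotAut X.ts hyd := quotAut_mul X hj hyd
  rw [← hσ] at hsq hqM hMp
  -- the square of `u`
  have hcases : u * u = 1 ∨ u * u = d ∨ u * u = e ∨ u * u = e * d := by
    have hfix : ∀ w : G, ∀ hw : Commute w d, quotAut X.ts hw = 1 → w = 1 ∨ w = d := fun w hw h1 =>
      X.only hw fun p hp => (mul_inv_eq_iff_eq_mul.mp (X.inj (X.conj_near hw hp) hp (by
        rw [← quotAut_im X.ts hw (near_le_loc hp), h1]; rfl))).symm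
    rcases hsq with h | h
    · rw [quotAut_sq X hud] at h
      rcases hfix _ _ h with h' | h'
      exacts [Or.inl h', Or.inr (Or.inl h')]
    · rw [quotAut_sq X hud] at h
      have h2 : quotAut X.ts ((commute_d_of_mem_loc (near_le_loc he)).symm.mul_left (hud.mul_left hud))
          = 1 := by
        rw [quotAut_mul X (near_le_loc he) (hud.mul_left hud), h, ← map_mul,
          ← X.im_mul (near_le_loc he) (near_le_loc he), X.ts.sq e he.1, im_one X, map_one]
      have e1 : u * u = e * (e * (u * u)) := by rw [← mul_assoc e e, X.ts.sq e he.1, one_mul]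
      rcases hfix _ _ h2 with h' | h' <;> rw [h'] at e1
      · exact Or.inr (Or.inr (Or.inl (by rwa [mul_one] at e1)))
      · exact Or.inr (Or.inr (Or.inr e1))
  -- the lifted conic
  obtain ⟨l, hl, hln, rfl⟩ := X.lift_list hM
  rw [List.length_map] at hMlen
  set J := l.prod with hJ
  have hJl : J ∈ loc D d := list_prod_mem fun p hp => near_le_loc (hln p hp)
  have hJd : Commute J d := (commute_d_of_mem_loc hJl).symm
  have hJe : Commute J e := Commute.list_prod_left _ _ fun p hp =>
    ((X.comm_iff he (hln p hp)).mp (hMn _ (List.mem_map_of_mem hp)).2.2).symm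
  have hJJ : J * J = 1 := hl.prod_sq X.ts
  have hswap : u * J * u⁻¹ = d * J := by
    have hl' : CList D (l.map (MulAut.conj u)) := by
      refine ⟨fun p hp => ?_, hl.nodup.map (MulAut.conj u).injective, fun p hp p' hp' => ?_⟩
      · obtain ⟨r, hr, rfl⟩ := List.mem_map.mp hp; exact X.ts.conj u r (hl.mem r hr)
      · obtain ⟨r, hr, rfl⟩ := List.mem_map.mp hp
        obtain ⟨r', hr', rfl⟩ := List.mem_map.mp hp'
        exact (Commute.conj_iff u).mpr (hl.comm r hr r' hr')
    have hn' : ∀ p ∈ l.map (MulAut.conj u), p ∈ near D d := fun p hp => by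
      obtain ⟨r, hr, rfl⟩ := List.mem_map.mp hp; exact X.conj_near hud (hln r hr)
    have himg : (l.map (MulAut.conj u)).map (im D d) = (l.map (im D d)).map (quotAut X.ts hud) := by
      rw [List.map_map, List.map_map]
      exact List.map_congr_left fun r hr => (quotAut_im X.ts hud (near_le_loc (hln r hr))).symm
    have hloc : (l.map (MulAut.conj u)).prod ∈ loc D d :=
      list_prod_mem fun p hp => near_le_loc (hn' p hp)
    have him : im D d (l.map (MulAut.conj u)).prod = (l.map (im D d)).prod := by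
      rw [← X.prod_im hn', himg, hMp]
    have hconj : (l.map (MulAut.conj u)).prod = u * J * u⁻¹ := by rw [← map_list_prod]; rfl
    rcases X.prod_cases (l' := l) hl hln hloc him with h | h
    · exfalso
      obtain ⟨-, d', hd', -, -, -, h22', -⟩ := X.m23
      have hsame := S5464.unique_three X.ts X.prim hd' (fun r h1 h2 =>
        (ThreeTransTypes.level1_of_m22 ThreeTransPairs.psu6Simple (tsys_img X.ts d') h22').no_five h1 h2)
        hl' (by rw [List.length_map]; exact hMlen) hl hMlen h
      obtain ⟨r, hr, rfl⟩ := List.mem_map.mp hq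
      refine hqM (List.mem_map.mpr ⟨_, (hsame _).mp (List.mem_map_of_mem hr), ?_⟩)
      exact (quotAut_im X.ts hud (near_le_loc (hln r hr))).symm
    · rw [← hconj]; exact h
  have hswitch : Commute J (u * u) → (u * J) * (u * J) = d * (u * u) := fun hc => by
    calc (u * J) * (u * J) = (u * J * u⁻¹) * ((u * u) * J) := by group
      _ = d * J * (J * (u * u)) := by rw [hswap, ← hc.eq]
      _ = d * (u * u) := by rw [mul_assoc d, ← mul_assoc J J, hJJ, one_mul]
  -- an element outside with square `e`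
  obtain ⟨v, hvd, hvn, hvv⟩ : ∃ v : G, Commute v d ∧ v ∉ loc D d ∧ v * v = e := by
    have hJu : Commute (u * J) d := hud.mul_left hJd
    have hJn : u * J ∉ loc D d := fun h => hun ((mul_mem_cancel_right hJl).mp h)
    rcases hcases with h | h | h | h
    · exact absurd (X.involution_mem hud h) hun
    · refine absurd (X.involution_mem hJu ?_) hJn
      rw [hswitch (h ▸ hJd), h, X.ts.sq d X.mem]
    · exact ⟨u, hud, hun, h⟩
    · refine ⟨u * J, hJu, hJn, ?_⟩
      rw [hswitch (h ▸ hJe.mul_right hJd), h, ← mul_assoc, he.2.2.eq, mul_assoc, X.ts.sq d X.mem,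
        mul_one]
  -- the transfer to the quotient of order two
  have hcd : ∀ x : ↥(Subgroup.centralizer ({d} : Set G)), Commute (x : G) d := fun x =>
    mem_centralizer_singleton_iff.mp x.2
  let χ : ↥(Subgroup.centralizer ({d} : Set G)) →* ℤˣ :=
    { toFun := fun x => if (x : G) ∈ loc D d then 1 else -1
      map_one' := if_pos (one_mem _)
      map_mul' := fun x y => by
        by_cases hx : (x : G) ∈ loc D d <;> by_cases hy : (y : G) ∈ loc D d <;>
          simp only [Subgroup.coe_mul, if_pos, if_neg, hx, hy, not_false_eq_true]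
        · rw [if_pos (mul_mem hx hy), mul_one]
        · rw [if_neg fun h => hy ((mul_mem_cancel_left hx).mp h), one_mul]
        · rw [if_neg fun h => hx ((mul_mem_cancel_right hy).mp h), mul_one]
        · rw [if_pos (X.index_two (hcd x) (hcd y) hx hy)]; rfl }
  have hidx : (Subgroup.centralizer ({d} : Set G)).index = D.ncard := by
    have he : (Subgroup.centralizer ({d} : Set G)).index =
        (MulAction.stabilizer (ConjAct G) d).index := by
      rw [Subgroup.centralizer_eq_comap_stabilizer]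
      exact Subgroup.index_comap_of_surjective _ ConjAct.toConjAct.surjective
    rw [he, MulAction.index_stabilizer]
    congr 1
    ext y
    refine ⟨?_, fun hy => ?_⟩
    · rintro ⟨g, rfl⟩
      simpa [ConjAct.smul_def] using X.ts.conj (ConjAct.ofConjAct g) d X.mem
    · obtain ⟨g, hg⟩ := X.prim.1 d X.mem y hy
      exact ⟨ConjAct.toConjAct g, by simpa [ConjAct.smul_def] using hg⟩
  haveI : Fact (Nat.Prime 2) := ⟨Nat.prime_two⟩
  have hmember : ∀ {y : G} (_ : y ∈ D) (hy' : y ∈ Subgroup.centralizer ({d} : Set G)),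
      χ ⟨y, hy'⟩ = 1 := fun {y} hyD hy' => if_pos (by
    by_cases e : y = d
    · show y ∈ loc D d
      rw [e]; exact X.self
    · exact near_le_loc ⟨hyD, e, (hcd ⟨y, hy'⟩).symm⟩)
  -- members have trivial transfer
  have hV : MonoidHom.transfer χ = 1 := by
    refine MonoidHom.eq_of_eqOn_top fun x _ => ?_
    refine MonoidHom.eqOn_closure (f := MonoidHom.transfer χ) (g := 1) (fun y hy => ?_)
      (X.ts.gen.symm ▸ mem_top x)
    have ho : orderOf y = 2 ^ 1 := X.grp.1.1 y hy
    obtain ⟨n, -, hn⟩ := TransferThompson.transfer_eq_pow_fixed χ ho 1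
      (fun t k hk h => by
        obtain ⟨r, rfl⟩ := hk
        rw [show (⟨_, h⟩ : ↥(Subgroup.centralizer ({d} : Set G))) = 1 from Subtype.ext (by
          simp [pow_mul, pow_two, X.ts.sq y hy]), map_one])
      (fun t h => hmember (by simpa using X.ts.conj t⁻¹ y hy) h)
    rw [hn, one_pow]; rfl
  have hv2 : v ^ 2 = e := by rw [pow_two, hvv]
  have ho : orderOf v = 2 ^ 2 := by
    refine orderOf_eq_prime_pow (p := 2) (n := 1) ?_ ?_
    · rw [pow_one, hv2]; exact ThreeTrans.ne_one X.grp.1 he.1
    · rw [show 2 ^ (1 + 1) = 2 * 2 from rfl, pow_mul, hv2, pow_two, X.ts.sq e he.1]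
  obtain ⟨n, hn, hVn⟩ := TransferThompson.transfer_eq_pow_fixed χ ho (-1)
    (fun t k hk h => by
      obtain ⟨r, rfl⟩ := hk
      have hr : v ^ (2 * r) = 1 ∨ v ^ (2 * r) = e := by
        rw [pow_mul, hv2]
        rcases Nat.even_or_odd r with ⟨i, rfl⟩ | ⟨i, rfl⟩
        · left; rw [← two_mul, pow_mul, pow_two, X.ts.sq e he.1, one_pow]
        · right; rw [pow_add, pow_mul, pow_two, X.ts.sq e he.1, one_pow, one_mul, pow_one]
      rcases hr with hr | hr
      · rw [show (⟨_, h⟩ : ↥(Subgroup.centralizer ({d} : Set G))) = 1 from Subtype.ext (by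
          simp [hr]), map_one]
      · exact hmember (by rw [hr]; simpa using X.ts.conj t⁻¹ e he.1) h)
    (fun t h => if_neg fun hmem => no_sqrt X (v := t⁻¹ * v * t) hmem (by
      rw [show t⁻¹ * v * t * (t⁻¹ * v * t) = t⁻¹ * (v * v) * t by group, hvv]
      simpa using X.ts.conj t⁻¹ e he.1))
  rw [hV, hidx] at *
  have hn2 : n % 2 = 1 := by
    rw [Nat.ModEq] at hn; omega
  rw [← Nat.div_add_mod n 2, hn2, pow_add, pow_mul, neg_one_sq, one_pow, one_mul, pow_one,
    MonoidHom.one_apply] at hVn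
  exact absurd hVn (by decide)

/-- The centre of the local group is generated by `d`. -/
theorem center_loc : Subgroup.center ↥(loc D d) = (Subgroup.zpowers d).subgroupOf (loc D d) := by
  refine le_antisymm (fun z hz => ?_) fun z hz => ?_
  · rw [mem_subgroupOf]
    rcases X.only (commute_d_of_mem_loc z.2).symm (fun y hy =>
      congrArg Subtype.val (mem_center_iff.mp hz ⟨y, near_le_loc hy⟩)) with e | e
    · rw [e]; exact one_mem _
    · rw [e]; exact mem_zpowers d
  · obtain ⟨k, hk⟩ := mem_zpowers_iff.mp (mem_subgroupOf.mp hz)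
    refine mem_center_iff.mpr fun x => Subtype.ext ?_
    show (x : G) * z = z * x
    rw [← hk]
    exact ((commute_d_of_mem_loc x.2).symm.zpow_right k).eq

omit X

/-- Type M(22) is carried along an isomorphism. -/
theorem m22_map {A B : Type*} [Group A] [Group B] {E : Set A} {E' : Set B} (e : A ≃* B)
    (hE : e '' E = E') (h : Cfsg.IsOfTypeM22 A E) : Cfsg.IsOfTypeM22 B E' := by
  subst hE
  obtain ⟨hZ, d, hd, c, hc, hdc, ⟨F, i1, i2, hF, ⟨iso⟩⟩, c₃, hc₃, Q, hQ, hμ, ⟨iso'⟩⟩ := h
  have hnear : ∀ s : A, e '' {y : A | y ∈ E ∧ y ≠ s ∧ Commute s y} =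
      {y : B | y ∈ e '' E ∧ y ≠ e s ∧ Commute (e s) y} := by
    intro s
    ext y
    obtain ⟨x, rfl⟩ := e.surjective y
    simp only [Set.mem_image, EmbeddingLike.apply_eq_iff_eq, exists_eq_right, Set.mem_setOf_eq]
    exact and_congr_right fun _ => and_congr e.injective.ne_iff.symm
      ⟨fun h => h.map e.toMonoidHom, fun h => by simpa using h.map e.symm.toMonoidHom⟩
  have hcl : ∀ (S : Set A) (S' : Set B), e '' S = S' →
      Nonempty (↥(Subgroup.closure S) ≃* ↥(Subgroup.closure S')) := fun S S' h =>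
    ⟨((Subgroup.closure S).equivMapOfInjective e.toMonoidHom e.injective).trans
      (MulEquiv.subgroupCongr (by rw [MonoidHom.map_closure]; exact congrArg _ h))⟩
  obtain ⟨E₁⟩ := hcl _ _ (hnear d)
  obtain ⟨E₂⟩ := hcl _ _ ((Set.image_inter e.injective).trans (congrArg₂ (· ∩ ·) (hnear d) (hnear c)))
  refine ⟨eq_bot_iff.mpr fun z hz => ?_, e d, ⟨d, hd, rfl⟩, e c, ⟨c, hc, rfl⟩,
    fun h => hdc (by simpa using h.map e.symm.toMonoidHom),
    ⟨F, i1, i2, hF, ⟨(ThreeTransM23Quot59.centerQuot E₁).symm.trans iso⟩⟩,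
    c₃, hc₃, Q, hQ, hμ, ⟨(ThreeTransM23Quot59.centerQuot E₂).symm.trans iso'⟩⟩
  have h0 : e.symm z = 1 := by
    rw [← mem_bot, ← hZ, mem_center_iff]
    intro g
    refine e.injective ?_
    rw [map_mul, map_mul, e.apply_symm_apply]
    exact mem_center_iff.mp hz (e g)
  rw [mem_bot, ← e.apply_symm_apply z, h0, map_one]

/-- Every member has a context. -/
theorem ctx_all (hD : Cfsg.IsThreeTranspositionGroup D) (hprim : Cfsg.IsPrimitiveUnderConj D)
    (h23 : Cfsg.IsOfTypeM23 G D) : ∀ s ∈ D, Ctx D s := by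
  intro s hs
  have ht := tsys_of_group hD
  obtain ⟨hZ, d, hd, -, -, -, h22, -⟩ := id h23
  obtain ⟨g, hg⟩ := hprim.1 d hd s hs
  set E := locEquiv ht g hg with hE
  have himg : ThreeTransM23Quot59.centerQuot E '' imgSet D d = imgSet D s := by
    ext u
    constructor
    · rintro ⟨_, ⟨x, hx, rfl⟩, rfl⟩
      refine ⟨E x, ?_, rfl⟩
      show g * (x : G) * g⁻¹ ∈ near D s
      rw [← near_map ht hg]; exact ⟨x, hx, rfl⟩
    · rintro ⟨y, hy, rfl⟩
      obtain ⟨x, rfl⟩ := E.surjective y
      refine ⟨_, ⟨x, ?_, rfl⟩, rfl⟩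
      have hy' : g * (x : G) * g⁻¹ ∈ near D s := hy
      rw [← near_map ht hg] at hy'
      obtain ⟨w, hw, e⟩ := hy'
      show (x : G) ∈ near D d
      rwa [← mul_left_cancel (mul_right_cancel (e : g * w * g⁻¹ = g * (x : G) * g⁻¹))]
  have h22s := m22_map _ himg h22
  obtain ⟨hgrp, hprimQ⟩ := ThreeTransM23Prim34.img_primitive hD hprim h23 hs h22s
  exact ⟨hD, hprim, hZ, hs, h23, hgrp, hprimQ, h22s⟩

end Cfsg.Agent.ThreeTransM23Cent59
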