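import Cfsg.Agent.Lib.ThreeTransM23Local59
import Cfsg.Agent.Lib.ThreeTransM23Prim34
import Cfsg.Agent.Lib.ThreeTransM22Order72
import Cfsg.Agent.Lib.ComponentsBasic

/-!
# The parameters of type M(23)

At a member `d` whose centralizer is the local group: `|D| = 31671`, the group is simple of order
`2 ^ 18 * 3 ^ 13 * 5 ^ 2 * 7 * 11 * 13 * 17 * 23`, the width is 23 and the local group is quasisimple
with centre generated by `d`.
-/

set_option autoImplicit false
set_option linter.unusedSectionVars false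
set_option linter.style.haveILetI false

namespace Cfsg.Agent.ThreeTransM23Order34

open Subgroup Cfsg.Agent.ThreeTransRel Cfsg.Agent.ThreeTransDescent
open Cfsg.Agent.ThreeTransM23Local59

variable {G : Type*} [Group G] [Finite G] {D : Set G} {d : G}

/-- A context exists at some member, with no hypothesis on the cores. -/
theorem exists_ctx (hD : Cfsg.IsThreeTranspositionGroup D) (hprim : Cfsg.IsPrimitiveUnderConj D)
    (h23 : Cfsg.IsOfTypeM23 G D) : ∃ d, Ctx D d := by
  obtain ⟨d, hd, h1, h2, h3⟩ := ThreeTransM23Prim34.exists_base hD hprim h23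
  exact ⟨d, hD, hprim, h23.1, hd, h23, h1, h2, h3⟩

/-- Width of a set with a bound that is attained. -/
theorem width_eq {S : Set G} {n : ℕ}
    (hle : ∀ E : Set G, E ⊆ S → (∀ a ∈ E, ∀ b ∈ E, Commute a b) → E.ncard ≤ n)
    (hex : ∃ E : Set G, E ⊆ S ∧ (∀ a ∈ E, ∀ b ∈ E, Commute a b) ∧ E.ncard = n) :
    Cfsg.commutingWidth S = n := by
  have hg : IsGreatest {m : ℕ | ∃ E : Set G, E ⊆ S ∧ E.Finite ∧
      (∀ a ∈ E, ∀ b ∈ E, Commute a b) ∧ E.ncard = m} n := by
    obtain ⟨E, h1, h2, h3⟩ := hex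
    refine ⟨⟨E, h1, Set.toFinite _, h2, h3⟩, ?_⟩
    rintro m ⟨E, hE, -, hc, rfl⟩
    exact hle E hE hc
  exact hg.csSup_eq

variable (X : Ctx D d)
include X

theorem quot_simple : IsSimpleGroup (↥(loc D d) ⧸ Subgroup.center ↥(loc D d)) :=
  (ThreeTransM22Local72.main X.qgrp X.qprim X.q22).1

theorem quot_card :
    Nat.card (↥(loc D d) ⧸ Subgroup.center ↥(loc D d)) = 2 ^ 17 * 3 ^ 9 * 5 ^ 2 * 7 * 11 * 13 :=
  ThreeTransM22Order72.card_G X.qgrp X.qprim X.q22

theorem quot_nonabelian : ¬ IsMulCommutative (↥(loc D d) ⧸ Subgroup.center ↥(loc D d)) := by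
  intro h
  obtain ⟨-, a, -, c, -, hac, -⟩ := X.q22
  exact hac (h.1.1 a c)

theorem ne_one : d ≠ 1 := ThreeTrans.ne_one X.grp.1 X.mem

/-- The centre of the local group is generated by the member. -/
theorem center_loc : Subgroup.center ↥(loc D d) = (zpowers d).subgroupOf (loc D d) := by
  ext z
  rw [mem_subgroupOf, mem_center_iff]
  constructor
  · intro hz
    rcases X.only (commute_d_of_mem_loc z.2).symm (fun y hy =>
      congrArg Subtype.val (hz ⟨y, near_le_loc hy⟩)) with h | h
    · rw [h]; exact one_mem _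
    · rw [h]; exact mem_zpowers d
  · intro hz w
    rcases ThreeTransM22Cent72.mem_zpowers_two (X.grp.1.1 d X.mem) hz with h | h
    · rw [show z = 1 from Subtype.ext h, mul_one, one_mul]
    · exact Subtype.ext (by rw [Subgroup.coe_mul, Subgroup.coe_mul, h];
                            exact (commute_d_of_mem_loc w.2).symm.eq)

theorem card_center : Nat.card ↥(Subgroup.center ↥(loc D d)) = 2 := by
  rw [center_loc X, Nat.card_congr (subgroupOfEquivOfLe (zpowers_le.mpr X.self)).toEquiv,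
    Nat.card_zpowers, X.grp.1.1 d X.mem]

theorem card_loc : Nat.card ↥(loc D d) = 129123503308800 := by
  rw [card_eq_card_quotient_mul_card_subgroup (Subgroup.center ↥(loc D d)), quot_card X,
    card_center X]
  norm_num

theorem ncard_near : (near D d).ncard = 3510 := by
  rw [← ThreeTransM23Parity34.ncard_img X.ts (ThreeTransM23Parity34.no_trivial X.ts X.prim X.mem)]
  exact ThreeTransM22Order72.card_D X.qgrp X.qprim X.q22

theorem ncard_adjacent {b : G} (hb : b ∈ near D d) : (near D d ∩ near D b).ncard = 693 := by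
  rw [← ThreeTransM22Order72.ncard_near X.qgrp X.qprim X.q22 (X.im_mem hb),
    ← Set.ncard_image_of_injOn (f := im D d) (s := near D d ∩ near D b)
      fun p hp q hq e => X.inj hp.1 hq.1 e]
  congr 1
  ext y
  constructor
  · rintro ⟨p, hp, rfl⟩
    exact ⟨X.im_mem hp.1, fun e => hp.2.2.1 (X.inj hp.1 hb e),
      (X.comm_iff hb hp.1).mpr hp.2.2.2⟩
  · intro hy
    obtain ⟨p, hp, rfl⟩ := X.surj_img hy.1
    exact ⟨p, ⟨hp, hp.1, fun e => hy.2.1 (by rw [e]), (X.comm_iff hb hp).mp hy.2.2⟩, rfl⟩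

omit X

theorem near_eq_nb (a : G) : RankThreeCount34.nb D a = near D a := rfl

theorem ncard_near_conj (ht : TSys D) {g s t : G} (h : g * s * g⁻¹ = t) :
    (near D t).ncard = (near D s).ncard := by
  rw [← near_map ht h, Set.ncard_image_of_injective _ (MulAut.conj g).injective]

theorem ncard_inter_conj (ht : TSys D) {g a b : G} :
    (near D (g * a * g⁻¹) ∩ near D (g * b * g⁻¹)).ncard = (near D a ∩ near D b).ncard := by
  rw [← near_map ht (rfl : g * a * g⁻¹ = _), ← near_map ht (rfl : g * b * g⁻¹ = _),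
    ← Set.image_inter (MulAut.conj g).injective,
    Set.ncard_image_of_injective _ (MulAut.conj g).injective]

include X

theorem ncard_near_all {a : G} (ha : a ∈ D) : (near D a).ncard = 3510 := by
  obtain ⟨g, hg⟩ := X.prim.1 d X.mem a ha
  rw [ncard_near_conj X.ts hg, ncard_near X]

theorem ncard_adjacent_all {a b : G} (ha : a ∈ D) (hb : b ∈ near D a) :
    (near D a ∩ near D b).ncard = 693 := by
  obtain ⟨g, hg⟩ := X.prim.1 a ha d X.mem
  rw [← ncard_inter_conj X.ts (g := g) (a := a) (b := b), hg]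
  refine ncard_adjacent X ?_
  rw [← near_map X.ts hg]
  exact ⟨b, hb, rfl⟩

/-- The centralizer of `d` is transitive on the members not commuting with it. -/
theorem far_trans {a c e : G} (ha : a ∈ D) (hc : c ∈ D) (he : e ∈ D) (hac : ¬ Commute a c)
    (hae : ¬ Commute a e) : ∃ g : G, g * a * g⁻¹ = a ∧ g * c * g⁻¹ = e := by
  obtain ⟨-, hsol, hperf⟩ := ThreeTransM23Prim34.derived X.grp X.prim X.m23
  exact ThreeTransp.ax_transitive
    (ThreeTransp.tc_of_class (ThreeTransM23Prim34.class_of_prim X.grp X.prim)) hsol hperf ha hc he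
    hac hae

theorem ncard_common_const {a c a' c' : G} (ha : a ∈ D) (hc : c ∈ D) (hac : ¬ Commute a c)
    (ha' : a' ∈ D) (hc' : c' ∈ D) (hac' : ¬ Commute a' c') :
    (near D a ∩ near D c).ncard = (near D a' ∩ near D c').ncard := by
  obtain ⟨g, hg⟩ := X.prim.1 a ha a' ha'
  have hn : ¬ Commute a' (g * c * g⁻¹) := fun e => hac ((Commute.conj_iff g).mp (hg ▸ e))
  obtain ⟨k, hk, hkc⟩ := far_trans X ha' (X.ts.conj g c hc) hc' hn hac'
  have hka : k * g * a * (k * g)⁻¹ = a' := by
    rw [show k * g * a * (k * g)⁻¹ = k * (g * a * g⁻¹) * k⁻¹ by group, hg, hk]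
  have hkc' : k * g * c * (k * g)⁻¹ = c' := by
    rw [show k * g * c * (k * g)⁻¹ = k * (g * c * g⁻¹) * k⁻¹ by group, hkc]
  rw [← ncard_inter_conj X.ts (g := k * g) (a := a) (b := c), hka, hkc']

/-- The number of members not commuting with `d`, when the centralizer is the local group. -/
theorem ncard_far (hC : Subgroup.centralizer ({d} : Set G) = loc D d) :
    (RankThreeCount34.far D d).ncard = 28160 := by
  classical
  have ht := X.ts
  obtain ⟨-, d₀, hd₀, c₀, hc₀, hnc, -, c₃, hc₃, hL⟩ := id X.m23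
  obtain ⟨g, hg⟩ := X.prim.1 d₀ hd₀ d X.mem
  set c := g * c₀ * g⁻¹ with hc_def
  have hc : c ∈ D := ht.conj g c₀ hc₀
  have hdc : ¬ Commute d c := fun e => hnc ((Commute.conj_iff g).mp (hg.symm ▸ e))
  set L := Subgroup.closure (near D d ∩ near D c) with hLdef
  have hcardL : 4585351680 ∣ Nat.card ↥L := by
    have e : L = (Subgroup.closure (near D d₀ ∩ near D c₀)).map (MulAut.conj g).toMonoidHom := by
      rw [MonoidHom.map_closure]
      refine congrArg Subgroup.closure ?_
      rw [← near_map ht hg, hc_def, ← near_map ht (rfl : g * c₀ * g⁻¹ = _)]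
      exact (Set.image_inter (MulAut.conj g).injective).symm
    rw [e, Nat.card_congr (((Subgroup.closure (near D d₀ ∩ near D c₀)).equivMapOfInjective
      (MulAut.conj g).toMonoidHom (MulAut.conj g).injective).symm).toEquiv]
    exact ThreeTransM23Prim34.card_common hc₃ hL
  have hdvd : (RankThreeCount34.far D d).ncard * Nat.card ↥L ∣
      Nat.card ↥(centralizer ({d} : Set G)) := by
    refine RankThreeCount34.orbit_dvd (a := d) (c := c) ⟨hc, hdc⟩ (fun h hh y hy => ⟨ht.conj h y hy.1,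
      fun e => hy.2 ?_⟩) (fun y hy => ?_) ((closure_le _).mpr fun y hy =>
        mem_centralizer_singleton_iff.mpr hy.1.2.2.symm.eq) fun h hh => ?_
    · have hgd : h * d * h⁻¹ = d := mul_inv_eq_iff_eq_mul.mpr (mem_centralizer_singleton_iff.mp hh)
      rw [← hgd] at e
      exact (Commute.conj_iff h).mp e
    · obtain ⟨h, hh, hhc⟩ := far_trans X X.mem hc hy.1 hdc hy.2
      exact ⟨h, mem_centralizer_singleton_iff.mpr (mul_inv_eq_iff_eq_mul.mp hh), hhc⟩
    · have : L ≤ centralizer ({c} : Set G) := (closure_le _).mpr fun y hy =>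
        mem_centralizer_singleton_iff.mpr hy.2.2.2.symm.eq
      exact mul_inv_eq_iff_eq_mul.mpr (mem_centralizer_singleton_iff.mp (this hh))
  rw [hC, card_loc X] at hdvd
  have hfar : (RankThreeCount34.far D d).ncard ∣ 2 ^ 9 * 55 := by
    obtain ⟨q, hq⟩ := hcardL
    rw [hq] at hdvd
    have h1 : (RankThreeCount34.far D d).ncard * 4585351680 ∣ 2 ^ 9 * 55 * 4585351680 :=
      (mul_dvd_mul_left _ (dvd_mul_right _ q)).trans (by norm_num; exact hdvd)
    exact Nat.dvd_of_mul_dvd_mul_right (by norm_num) h1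
  set mu := (near D d ∩ near D c).ncard with hmu
  have hcount : (RankThreeCount34.far D d).ncard * mu = 9884160 := by
    rw [RankThreeCount34.count (k := 3510) (l := 693) X.mem (fun b hb => ncard_near_all X hb)
      (fun b hb => ncard_adjacent X hb)
      fun x hx => ncard_common_const X X.mem hx.1 hx.2 X.mem hc hdc]
  have hmu_le : mu ≤ 3510 :=
    (Set.ncard_le_ncard Set.inter_subset_left).trans_eq (ncard_near X)
  have htrace := fun p (hp : Fact p.Prime) =>
    @RankThreeCount34.commute_trace G _ _ D 3510 693 mu (fun b hb => ncard_near_all X hb)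
      (fun b hb b' hb' => ncard_adjacent_all X hb hb')
      (fun b hb b' hb' hn => ncard_common_const X hb hb' hn X.mem hc hdc) p hp
  have hDcard : D.ncard = 3511 + (RankThreeCount34.far D d).ncard := by
    rw [RankThreeCount34.ncard_eq X.mem, near_eq_nb, ncard_near X]
  have e7 := htrace 7 ⟨by norm_num⟩
  have e19 := htrace 19 ⟨by norm_num⟩
  have e313 := htrace 313 ⟨by norm_num⟩
  rw [hDcard] at e7 e19 e313
  generalize hf : (RankThreeCount34.far D d).ncard = f at hfar hcount e7 e19 e313 ⊢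
  clear_value mu
  clear hdvd hmu hf hDcard htrace
  obtain ⟨a, b, ha, hb, rfl⟩ := (Nat.dvd_mul).mp hfar
  obtain ⟨i, hi, rfl⟩ := (Nat.dvd_prime_pow Nat.prime_two).mp ha
  have hb' : b = 1 ∨ b = 5 ∨ b = 11 ∨ b = 55 := by
    have h : ∀ m : Fin 56, m.val ∣ 55 → m.val = 1 ∨ m.val = 5 ∨ m.val = 11 ∨ m.val = 55 := by
      decide +kernel
    exact h ⟨b, by have := Nat.le_of_dvd (by norm_num) hb; omega⟩ hb
  have hkey : 2 ^ i * b = 28160 ∨ (2 ^ i * b = 14080 ∧ mu = 702) ∨ (2 ^ i * b = 7040 ∧ mu = 1404) ∨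
      (2 ^ i * b = 5632 ∧ mu = 1755) ∨ (2 ^ i * b = 3520 ∧ mu = 2808) ∨
      (2 ^ i * b = 2816 ∧ mu = 3510) := by
    clear e7 e19 e313
    interval_cases i <;> rcases hb' with rfl | rfl | rfl | rfl <;> omega
  rcases hkey with h | ⟨h, rfl⟩ | ⟨h, rfl⟩ | ⟨h, rfl⟩ | ⟨h, rfl⟩ | ⟨h, rfl⟩
  · exact h
  · rw [h] at e19; exact absurd e19 (by decide +kernel)
  · rw [h] at e7; exact absurd e7 (by decide +kernel)
  · rw [h] at e7; exact absurd e7 (by decide +kernel)
  · rw [h] at e19; exact absurd e19 (by decide +kernel)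
  · rw [h] at e313; exact absurd e313 (by decide +kernel)

/-- The class has 31671 members. -/
theorem card_D (hC : Subgroup.centralizer ({d} : Set G) = loc D d) : D.ncard = 31671 := by
  rw [RankThreeCount34.ncard_eq X.mem, near_eq_nb, ncard_near X, ncard_far X hC]

/-- The order of the group. -/
theorem card_G (hC : Subgroup.centralizer ({d} : Set G) = loc D d) :
    Nat.card G = 2 ^ 18 * 3 ^ 13 * 5 ^ 2 * 7 * 11 * 13 * 17 * 23 := by
  have h := ThreeTransM22Triples17.card_eq_mul (⊤ : Subgroup G) D X.mem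
    (fun k _ => X.ts.conj k d X.mem)
    fun y hy => (X.prim.1 d X.mem y hy).imp fun g hg => ⟨mem_top g, hg⟩
  rw [Subgroup.card_top, top_inf_eq, hC, card_loc X, card_D X hC] at h
  rw [h]
  norm_num

/-- The local group is perfect. -/
theorem loc_perfect : Group.IsPerfect ↥(loc D d) := by
  classical
  set H := loc D d
  let χ := Abelianization.of (G := ↥H)
  have hsame : ∀ p ∈ near D d, ∀ q ∈ near D d, ∀ (hp : p ∈ H) (hq : q ∈ H),
      χ ⟨p, hp⟩ = χ ⟨q, hq⟩ := by
    intro p hp q hq hp' hq'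
    obtain ⟨k, hk, e⟩ := X.transitive hp hq
    rw [show (⟨q, hq'⟩ : ↥H) = ⟨k, hk⟩ * ⟨p, hp'⟩ * ⟨k, hk⟩⁻¹ from Subtype.ext e.symm, map_mul,
      map_mul, map_inv, mul_inv_cancel_comm]
  obtain ⟨l, hl, hn, hlen⟩ := X.exists_triple
  obtain ⟨l', hl', hn', hlen', hp'⟩ := X.flip hl hn hlen
  obtain ⟨a, b, c, rfl⟩ := List.length_eq_three.mp hlen
  obtain ⟨a', b', c', rfl⟩ := List.length_eq_three.mp hlen'
  simp only [List.prod_cons, List.prod_nil, mul_one] at hp'
  have hm : ∀ {p : G}, p ∈ near D d → p ∈ H := fun hp => near_le_loc hp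
  have ea := hn a (by simp)
  have eb := hn b (by simp)
  have ec := hn c (by simp)
  have ea' := hn' a' (by simp)
  have eb' := hn' b' (by simp)
  have ec' := hn' c' (by simp)
  have hχd : χ ⟨d, X.self⟩ = 1 := by
    have h := congrArg χ (show (⟨a', hm ea'⟩ : ↥H) * (⟨b', hm eb'⟩ * ⟨c', hm ec'⟩) =
      ⟨d, X.self⟩ * (⟨a, hm ea⟩ * (⟨b, hm eb⟩ * ⟨c, hm ec⟩)) from Subtype.ext hp')
    simp only [map_mul, hsame _ ea' _ ea _ (hm ea), hsame _ eb' _ eb _ (hm eb),
      hsame _ ec' _ ec _ (hm ec)] at h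
    exact mul_eq_right.mp h.symm
  haveI := quot_simple X
  set π := QuotientGroup.mk' (Subgroup.center ↥H) with hπ
  have hXc : commutator (↥H ⧸ Subgroup.center ↥H) = ⊤ := by
    rcases (inferInstance : (commutator (↥H ⧸ Subgroup.center ↥H)).Normal).eq_bot_or_eq_top with h | h
    · exact absurd ((commutator_eq_bot_iff _).mp h) (quot_nonabelian X)
    · exact h
  have hmap : (commutator ↥H).map π = ⊤ := by
    rw [map_commutator_eq, MonoidHom.range_eq_top.mpr (QuotientGroup.mk'_surjective _), ← commutator_def]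
    exact hXc
  refine ⟨eq_top_iff.mpr fun x _ => ?_⟩
  obtain ⟨y, hy, e⟩ := Subgroup.mem_map.mp (hmap.ge (mem_top (π x)))
  have hker : x * y⁻¹ ∈ Subgroup.center ↥H := by
    rw [← QuotientGroup.ker_mk' (Subgroup.center ↥H), MonoidHom.mem_ker, map_mul, map_inv, ← hπ, e,
      mul_inv_cancel]
  rw [center_loc X, mem_subgroupOf] at hker
  have hχy : χ y = 1 := (Abelianization.ker_of ↥H).ge hy
  refine (Abelianization.ker_of ↥H).le (MonoidHom.mem_ker.mpr ?_)
  rcases ThreeTransM22Cent72.mem_zpowers_two (X.grp.1.1 d X.mem) hker with h | h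
  · show χ x = 1
    rw [show x = y from eq_of_mul_inv_eq_one (Subtype.ext h), hχy]
  · show χ x = 1
    rw [show x = ⟨d, X.self⟩ * y from eq_mul_of_mul_inv_eq (Subtype.ext h), map_mul, hχd, hχy,
      mul_one]

/-- The local group is quasisimple. -/
theorem loc_quasisimple : Cfsg.IsQuasisimple ↥(loc D d) :=
  ⟨loc_perfect X, quot_simple X⟩

/-- The group is simple. -/
theorem simple : IsSimpleGroup G := by
  obtain ⟨hs, -, -⟩ := ThreeTransM23Prim34.derived X.grp X.prim X.m23
  haveI := loc_perfect X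
  have hd : d ∈ commutator G := by
    have h := mem_map_of_mem (loc D d).subtype
      ((Group.IsPerfect.commutator_eq_top (G := ↥(loc D d))).ge (mem_top ⟨d, X.self⟩))
    rw [Subgroup.map_subtype_commutator] at h
    exact commutator_mono le_top le_top h
  have htop : commutator G = ⊤ := by
    rw [eq_top_iff, ← X.ts.gen, closure_le]
    intro y hy
    obtain ⟨g, rfl⟩ := X.prim.1 d X.mem y hy
    exact (inferInstance : (commutator G).Normal).conj_mem d hd g
  haveI := hs
  haveI : Nontrivial G := ⟨⟨d, 1, ne_one X⟩⟩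
  exact IsSimpleGroup.isSimpleGroup_of_surjective (commutator G).subtype
    (fun x => ⟨⟨x, htop ▸ mem_top x⟩, rfl⟩)

/-- The width is 23. -/
theorem width : Cfsg.commutingWidth D = 23 := by
  classical
  have hwX : IsGreatest {m : ℕ | ∃ E, E ⊆ imgSet D d ∧ E.Finite ∧
      (∀ a ∈ E, ∀ b ∈ E, Commute a b) ∧ E.ncard = m} 22 := by
    have hbdd : BddAbove {m : ℕ | ∃ E, E ⊆ imgSet D d ∧ E.Finite ∧
        (∀ a ∈ E, ∀ b ∈ E, Commute a b) ∧ E.ncard = m} := by
      refine ⟨(imgSet D d).ncard, ?_⟩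
      rintro m ⟨E, hE, -, -, rfl⟩
      exact Set.ncard_le_ncard hE
    have h22 : sSup {m : ℕ | ∃ E, E ⊆ imgSet D d ∧ E.Finite ∧
        (∀ a ∈ E, ∀ b ∈ E, Commute a b) ∧ E.ncard = m} = 22 :=
      ThreeTransM22Order72.width X.qgrp X.qprim X.q22
    refine ⟨h22 ▸ Nat.sSup_mem ⟨0, ∅, Set.empty_subset _, Set.finite_empty, by simp, by simp⟩ hbdd,
      fun m hm => h22 ▸ le_csSup hbdd hm⟩
  refine width_eq (fun E hE hc => ?_) ?_
  · rcases E.eq_empty_or_nonempty with rfl | ⟨a, ha⟩
    · simp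
    obtain ⟨g, hg⟩ := X.prim.1 a (hE ha) d X.mem
    set T := im D d '' ((MulAut.conj g) '' (E \ {a})) with hT
    have hnear : ∀ x ∈ (MulAut.conj g) '' (E \ {a}), x ∈ near D d := by
      rintro _ ⟨x, hx, rfl⟩
      refine ⟨X.ts.conj g x (hE hx.1), fun e => hx.2 ?_, hg ▸ (Commute.conj_iff g).mpr (hc a ha x hx.1)⟩
      exact mul_left_cancel (mul_right_cancel (e.trans hg.symm))
    have h1 : T.ncard = (E \ {a}).ncard := by
      rw [hT, Set.ncard_image_of_injOn fun p hp q hq e => X.inj (hnear p hp) (hnear q hq) e,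
        Set.ncard_image_of_injective _ (MulAut.conj g).injective]
    have h2 : T.ncard ≤ 22 := hwX.2 ⟨T, by rintro _ ⟨x, hx, rfl⟩; exact X.im_mem (hnear x hx),
      Set.toFinite _, by
        rintro _ ⟨x, hx, rfl⟩ _ ⟨y, hy, rfl⟩
        refine (X.comm_iff (hnear x hx) (hnear y hy)).mpr ?_
        obtain ⟨x, hx', rfl⟩ := hx
        obtain ⟨y, hy', rfl⟩ := hy
        exact (Commute.conj_iff g).mpr (hc x hx'.1 y hy'.1), rfl⟩
    have h3 := Set.ncard_sdiff_singleton_add_one ha (Set.toFinite E)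
    omega
  · obtain ⟨B, hB, -, hBc, hBn⟩ := hwX.1
    set A : Set G := {p | p ∈ near D d ∧ im D d p ∈ B} with hA
    have hAimg : im D d '' A = B := by
      ext y
      refine ⟨?_, fun hy => ?_⟩
      · rintro ⟨p, hp, rfl⟩; exact hp.2
      · obtain ⟨p, hp, rfl⟩ := X.surj_img (hB hy)
        exact ⟨p, ⟨hp, hy⟩, rfl⟩
    have hAn : A.ncard = 22 := by
      rw [← hBn, ← hAimg, Set.ncard_image_of_injOn fun p hp q hq e => X.inj hp.1 hq.1 e]
    refine ⟨insert d A, ?_, ?_, ?_⟩
    · rintro p (rfl | hp)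
      exacts [X.mem, hp.1.1]
    · rintro p (rfl | hp) q (rfl | hq)
      · exact Commute.refl _
      · exact hq.1.2.2
      · exact hp.1.2.2.symm
      · exact (X.comm_iff hp.1 hq.1).mp (hBc _ hp.2 _ hq.2)
    · rw [Set.ncard_insert_of_notMem (fun h => h.1.2.1 rfl) (Set.toFinite _), hAn]

omit X

/-- Transport to every member. -/
theorem local_all {d' : G} (hq : Cfsg.IsQuasisimple ↥(loc D d)) (ht : TSys D) {g : G}
    (hg : g * d * g⁻¹ = d') (hC : Subgroup.centralizer ({d} : Set G) = loc D d)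
    (hc : Subgroup.center ↥(loc D d) = (zpowers d).subgroupOf (loc D d)) :
    loc D d' = Subgroup.centralizer ({d'} : Set G) ∧ Cfsg.IsQuasisimple ↥(loc D d') ∧
      Subgroup.center ↥(loc D d') = (zpowers d').subgroupOf (loc D d') := by
  refine ⟨?_, ComponentsBasic.isQuasisimple_of_mulEquiv (locEquiv ht g hg) hq, ?_⟩
  · refine le_antisymm (fun x hx => mem_centralizer_singleton_iff.mpr
      (commute_d_of_mem_loc hx).symm.eq) fun x hx => ?_
    have hx' : g⁻¹ * x * g ∈ loc D d := by
      rw [← hC, mem_centralizer_singleton_iff]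
      have h := mem_centralizer_singleton_iff.mp hx
      rw [← hg] at h
      calc g⁻¹ * x * g * d = g⁻¹ * (x * (g * d * g⁻¹)) * g := by group
        _ = d * (g⁻¹ * x * g) := by rw [h]; group
    have := conj_mem_loc ht hg hx'
    rwa [show g * (g⁻¹ * x * g) * g⁻¹ = x by group] at this
  · ext z
    obtain ⟨w, rfl⟩ := (locEquiv ht g hg).surjective z
    have e1 : locEquiv ht g hg w ∈ Subgroup.center ↥(loc D d') ↔ w ∈ Subgroup.center ↥(loc D d) := by
      simp only [mem_center_iff]
      constructor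
      · intro h v
        apply (locEquiv ht g hg).injective
        rw [map_mul, map_mul]
        exact h _
      · intro h v
        obtain ⟨v, rfl⟩ := (locEquiv ht g hg).surjective v
        rw [← map_mul, ← map_mul, h v]
    rw [e1, hc, mem_subgroupOf, mem_subgroupOf, coe_locEquiv, ← hg,
      show g * d * g⁻¹ = MulAut.conj g d from rfl, show g * (w : G) * g⁻¹ = MulAut.conj g (w : G) from rfl,
      ← MulEquiv.coe_toMonoidHom, ← MonoidHom.map_zpowers]
    exact (Subgroup.mem_map_iff_mem (f := (MulAut.conj g).toMonoidHom) (MulAut.conj g).injective).symm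

end Cfsg.Agent.ThreeTransM23Order34
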