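import Cfsg.Agent.Lib.ThreeTransM22Extend78
import Cfsg.Agent.Lib.ThreeTransM22Exist51
import Cfsg.Agent.Lib.ThreeTransM23Cent59
import Cfsg.Agent.Lib.ThreeTransM23Order34
import Cfsg.Agent.Lib.ThreeTransM22Order72
import Cfsg.Agent.Lib.CosetCertFi23Simple

/-!
# A group of type M(23) is the presented group Fi23

Ten members of a group of type M(23) realise the diagram and the two further relators of the presented
group; the map is onto for the order.
-/

set_option autoImplicit false
set_option linter.unusedSectionVars false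
set_option linter.style.haveILetI false

namespace Cfsg.Agent.ThreeTransM23Pres78

open Subgroup Cfsg.Agent.ThreeTransRel Cfsg.Agent.ThreeTransDescent
open Cfsg.Agent.ThreeTransM23Local59
open Cfsg.Agent.Fi22Certs51 (adjN wz wU wz7 wu)
open Cfsg.Agent.ThreeTransM22Pat51 (Pat gN sigma Mu)
open Cfsg.Agent.ThreeTransM22Extend78 (letters)
open Cfsg.Agent.ThreeTransM23Vectors78 (mover com conj_pair exists_nine)
open Cfsg.Agent.CoxMoves51 (val val_cons val_nil val_append)
open Cfsg.Agent.CosetCertFi23Simple (P23)

variable {G : Type*} [Group G] [Finite G] {D : Set G}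

/-- The number of a generator, the node `j` last. -/
def num : Cfsg.Spor.Fi23.Gen → ℕ
  | .a => 0
  | .b => 1
  | .c => 2
  | .d => 3
  | .e => 4
  | .f => 5
  | .g => 6
  | .h => 7
  | .i => 8
  | .j => 9

/-- The diagram with the node `j` last. -/
def adjJ (i k : ℕ) : Bool := if i = 9 then k == 6 else if k = 9 then i == 6 else adjN i k

theorem label_eq (x y : Cfsg.Spor.Fi23.Gen) :
    Cfsg.Spor.coxLabel P23.edges x y =
      if num x = num y then 1 else if adjJ (num x) (num y) then 3 else 2 := by
  cases x <;> cases y <;> decide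

theorem prod_map_im {z : G} (X : Ctx D z) {l : List G} (hl : ∀ a ∈ l, a ∈ near D z) :
    (l.map (im D z)).prod = im D z l.prod := X.prod_im hl

theorem pow_nine_reverse {a b c d e f h : G} (ha : a * a = 1) (hb : b * b = 1) (hc : c * c = 1)
    (hd : d * d = 1) (he : e * e = 1) (hf : f * f = 1) (hh : h * h = 1)
    (h9 : (f * e * d * c * b * a * h) ^ 9 = 1) : (a * b * c * d * e * f * h) ^ 9 = 1 := by
  set Y := f * e * d * c * b * a
  have hY : (a * b * c * d * e * f)⁻¹ = Y := by
    simp only [mul_inv_rev, inv_eq_of_mul_eq_one_right ha, inv_eq_of_mul_eq_one_right hb,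
      inv_eq_of_mul_eq_one_right hc, inv_eq_of_mul_eq_one_right hd, inv_eq_of_mul_eq_one_right he,
      inv_eq_of_mul_eq_one_right hf, Y, mul_assoc]
  rw [show a * b * c * d * e * f = Y⁻¹ by rw [← hY, inv_inv]]
  have h2 : (h * Y) ^ 9 = 1 := by
    rw [show h * Y = h * (Y * h) * h⁻¹ by group, conj_pow, h9, mul_one, mul_inv_cancel]
  have h3 : Y⁻¹ * h = (h * Y)⁻¹ := by rw [mul_inv_rev h Y, inv_eq_of_mul_eq_one_right hh]
  rw [h3, inv_pow, h2, inv_one]

set_option maxHeartbeats 1600000 in
/-- A group of type M(23) is the presented group, a generator going to a member. -/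
theorem exists_iso (hD : Cfsg.IsThreeTranspositionGroup D) (hprim : Cfsg.IsPrimitiveUnderConj D)
    (h23 : Cfsg.IsOfTypeM23 G D) : ∃ e : P23.Grp ≃* G, e (P23.gg 0) ∈ D := by
  classical
  have ht := tsys_of_group hD
  obtain ⟨-, z, hz, j, hj, hzj, -, c, hc, Q, hQn, hdet, ⟨eL⟩⟩ := id h23
  have X : Ctx D z := ThreeTransM23Cent59.ctx_all hD hprim h23 z hz
  obtain ⟨p, hp, hpat, hcen⟩ := exists_nine (z := z) (j := j) ht hc hQn hdet eL
  set v := fun i => im D z (p i) with hv
  have hpn : ∀ i, p i ∈ near D z := fun i => (hp i).1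
  obtain ⟨g', c', hc', P⟩ := ThreeTransM22Extend78.extend X.qgrp X.qprim X.q22
    (fun a ha b hb hab => ThreeTransM22Order72.ncard_common X.qgrp X.qprim X.q22 ha hb hab)
    (v := v) (fun i => X.im_mem (hpn i)) (fun i k => (X.comm_iff (hpn i) (hpn k)).trans (hpat i k))
  -- lift the new members
  obtain ⟨g, hg, hgim⟩ := X.surj_img (show g' ∈ imgSet D z by simpa [letters] using P.mem 6 (by norm_num))
  have hmL : mover p ∈ com D z j := by
    have h : ∀ i, p i ∈ com D z j := fun i => subset_closure (hp i)
    unfold mover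
    exact mul_mem (mul_mem (mul_mem (mul_mem (mul_mem (mul_mem (mul_mem (mul_mem (h 3) (h 7)) (h 8))
      (h 4)) (h 3)) (h 7)) (h 5)) (h 4)) (h 3)
  have hmv : im D z (mover p) = mover v := by
    have hl : ∀ i, p i ∈ loc D z := fun i => near_le_loc (hpn i)
    have := X.prod_im (l := [p 3, p 7, p 8, p 4, p 3, p 7, p 5, p 4, p 3]) (by
      intro a ha
      simp only [List.mem_cons, List.not_mem_nil, or_false] at ha
      rcases ha with rfl | rfl | rfl | rfl | rfl | rfl | rfl | rfl | rfl <;> exact hpn _)
    simp only [List.map_cons, List.map_nil, List.prod_cons, List.prod_nil, mul_one] at this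
    simp only [mover, v, mul_assoc]
    exact this.symm
  obtain ⟨cc, hcc, hccim, hccg⟩ : ∃ cc ∈ near D z ∩ near D j, im D z cc = c' ∧
      (cc = p 2 ∨ cc = mover p * p 2 * (mover p)⁻¹) := by
    rcases hc' with rfl | rfl
    · exact ⟨p 2, hp 2, rfl, Or.inl rfl⟩
    · refine ⟨_, conj_pair ht hmL (hp 2), ?_, Or.inr rfl⟩
      rw [X.im_conj (Subgroup.closure_mono Set.inter_subset_left hmL) (near_le_loc (hpn 2)), hmv]
  set w := letters p cc g with hw
  have hwn : ∀ i < 9, w i ∈ near D z := by
    intro i hi
    simp only [hw, letters]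
    split_ifs
    exacts [hcc.1, hg, hpn _]
  have hwim : ∀ i < 9, im D z (w i) = letters v c' g' i := by
    intro i hi
    simp only [hw, letters]
    split_ifs <;> first | exact hccim | exact hgim | rfl
  have hwj : ∀ i < 9, i ≠ 6 → w i ∈ near D j := by
    intro i hi h6
    simp only [hw, letters]
    split_ifs
    exacts [hcc.2, (hp _).2]
  have hwc : ∀ i < 9, ∀ k < 9, (Commute (w i) (w k) ↔ adjN i k = false) := fun i hi k hk => by
    rw [← X.comm_iff (hwn i hi) (hwn k hk), hwim i hi, hwim k hk, P.commute_iff hi hk]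
  -- the node `j`
  have hjg : ¬ Commute j g := by
    intro hjg
    have hgj : g ∈ near D j := ⟨hg.1, fun e => hzj (e ▸ hg.2.2), hjg⟩
    have hcom : ∀ k : Fin 9, k ≠ 2 → k ≠ 5 → k ≠ 6 → Commute g (p k) := by
      intro k h2 h5 h6
      have h := (hwc 6 (by norm_num) k.1 k.2).mpr ((show ∀ k : Fin 9, k ≠ 5 → adjN 6 k.1 = false by decide) k h5)
      have n2 : k.1 ≠ 2 := fun e => h2 (Fin.ext e)
      have n6 : k.1 ≠ 6 := fun e => h6 (Fin.ext e)
      rwa [show w 6 = g by simp [hw, letters], show w k.1 = p k by
        simp [hw, letters, n2, n6]] at h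
    have hgc : Commute g cc := by
      have h := (hwc 6 (by norm_num) 2 (by norm_num)).mpr rfl
      rwa [show w 6 = g by simp [hw, letters], show w 2 = cc by simp [hw, letters]] at h
    have h5 := hcen g ⟨hg, hgj⟩ (hcom 0 (by decide) (by decide) (by decide))
      (hcom 1 (by decide) (by decide) (by decide))
      (hccg.imp (fun e => by rw [e] at hgc; exact hgc) (fun e => by rw [e] at hgc; exact hgc))
      (hcom 3 (by decide) (by decide) (by decide)) (hcom 4 (by decide) (by decide) (by decide))
      (hcom 7 (by decide) (by decide) (by decide)) (hcom 8 (by decide) (by decide) (by decide))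
      (p 5) (hp 5)
    have h56 := (hwc 6 (by norm_num) 5 (by norm_num)).mp (by
      rw [show w 6 = g by simp [hw, letters], show w 5 = p 5 by simp [hw, letters]]; exact h5)
    exact absurd h56 (by decide)
  -- the two relators
  have hval : ∀ l : List ℕ, (∀ i ∈ l, i < 9 ∧ i ≠ 6) →
      val (gN fun i => letters v c' g' i) l = 1 → val (gN w) l = 1 := by
    intro l hl h
    have hmap : ∀ a ∈ l.map (gN w), a ∈ near D z ∧ a ∈ near D j := by
      intro a ha
      obtain ⟨i, hi, rfl⟩ := List.mem_map.mp ha
      rw [gN, if_pos (hl i hi).1]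
      exact ⟨hwn i (hl i hi).1, hwj i (hl i hi).1 (hl i hi).2⟩
    have him : im D z (val (gN w) l) = 1 := by
      rw [val, ← X.prod_im fun a ha => (hmap a ha).1, List.map_map, ← h, val]
      refine congrArg List.prod (List.map_congr_left fun i hi => ?_)
      simp only [Function.comp_apply, gN, if_pos (hl i hi).1]
      exact hwim i (hl i hi).1
    have hmem : val (gN w) l ∈ loc D z :=
      list_prod_mem fun a ha => near_le_loc (hmap a ha).1
    refine (X.ker hmem him).resolve_right fun e => hzj ?_
    have hcj : Commute j (val (gN w) l) := Commute.list_prod_right _ _ fun a ha => (hmap a ha).2.2.2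
    rw [e] at hcj
    exact hcj.symm
  have hU : val (gN w) wU = 1 := hval wU (by decide)
    (ThreeTransM22Pat51.rel_spider (ThreeTransM22Exist51.hyp_of_type X.qgrp X.qprim X.q22) P)
  have hZ : val (gN w) (List.replicate 9 [5, 4, 3, 2, 1, 0, 7]).flatten = 1 := by
    refine hval _ (by decide) ?_
    have := ThreeTransM22Pat51.rel_seven (ThreeTransM22Exist51.hyp_of_type X.qgrp X.qprim X.q22) P.mirror
    rw [← this]
    simp [val, wz, wz7, gN, List.replicate_succ, show ThreeTransM22Pat51.sigma 1 = 5 from rfl, show ThreeTransM22Pat51.sigma 2 = 4 from rfl,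
      show ThreeTransM22Pat51.sigma 3 = 3 from rfl, show ThreeTransM22Pat51.sigma 4 = 2 from rfl, show ThreeTransM22Pat51.sigma 5 = 1 from rfl,
      show ThreeTransM22Pat51.sigma 6 = 0 from rfl, show ThreeTransM22Pat51.sigma 7 = 7 from rfl]
  have hsq : ∀ i < 9, w i * w i = 1 := fun i hi => ht.sq _ (hwn i hi).1
  have hU' : (w 3 * w 2 * w 1 * w 3 * w 4 * w 5 * w 3 * w 7 * w 8) ^ 10 = 1 := by
    simpa [val, wU, wu, gN, List.replicate_succ, pow_succ, mul_assoc] using hU
  have hZ' : (w 5 * w 4 * w 3 * w 2 * w 1 * w 0 * w 7) ^ 9 = 1 := by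
    simpa [val, gN, List.replicate_succ, pow_succ, mul_assoc] using hZ
  have hZ'' := pow_nine_reverse (hsq 0 (by norm_num)) (hsq 1 (by norm_num)) (hsq 2 (by norm_num))
    (hsq 3 (by norm_num)) (hsq 4 (by norm_num)) (hsq 5 (by norm_num)) (hsq 7 (by norm_num)) hZ'
  -- the ten generators
  set u : ℕ → G := fun i => if i = 9 then j else w i with hu
  have humem : ∀ i < 10, u i ∈ D := fun i hi => by
    simp only [hu]
    split_ifs with h9
    exacts [hj, (hwn i (by omega)).1]
  have hucomm : ∀ i < 10, ∀ k < 10, (Commute (u i) (u k) ↔ adjJ i k = false) := by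
    intro i hi k hk
    have hjw : ∀ i < 9, (Commute j (w i) ↔ (i == 6) = false) := fun i hi => by
      by_cases h6 : i = 6
      · subst h6
        simpa [hw, letters] using hjg
      · exact iff_of_true (hwj i hi h6).2.2 (by simpa using h6)
    by_cases i9 : i = 9 <;> by_cases k9 : k = 9
    · subst i9 k9; simp [hu, adjJ]
    · subst i9
      simp only [hu, adjJ, if_true, if_neg k9]
      exact hjw k (by omega)
    · subst k9
      simp only [hu, adjJ, if_true, if_neg i9]
      rw [Commute.symm_iff]
      exact hjw i (by omega)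
    · simp only [hu, adjJ, if_neg i9, if_neg k9]
      exact hwc i (by omega) k (by omega)
  have hnum : ∀ x, num x < 10 := fun x => by cases x <;> decide
  set F : Cfsg.Spor.Fi23.Gen → G := fun x => u (num x) with hF
  have hrel : ∀ r ∈ Cfsg.Spor.coxRelators P23.edges ∪ {r | r ∈ P23.extraRels},
      FreeGroup.lift F r = 1 := by
    rintro r (⟨x, -, y, -, rfl⟩ | hr)
    · rw [map_pow, map_mul, FreeGroup.lift_apply_of, FreeGroup.lift_apply_of, label_eq]
      by_cases hxy : num x = num y
      · rw [if_pos hxy, pow_one, hF]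
        simp only [hxy]
        exact ht.sq _ (humem _ (hnum y))
      rw [if_neg hxy]
      cases hadj : adjJ (num x) (num y)
      · have hcom : Commute (F x) (F y) := (hucomm _ (hnum x) _ (hnum y)).mpr hadj
        simp only [Bool.false_eq_true, if_false]
        rw [hcom.mul_pow, pow_two, pow_two, ht.sq _ (humem _ (hnum x)), ht.sq _ (humem _ (hnum y)),
          one_mul]
      · have hn : ¬ Commute (F x) (F y) := fun h => by
          have := (hucomm _ (hnum x) _ (hnum y)).mp h
          rw [hadj] at this
          exact Bool.noConfusion this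
        simp only [if_true]
        calc (F x * F y) ^ 3 = (F x * F y * F x) * (F y * F x * F y) := by simp [pow_succ, mul_assoc]
          _ = (F x * F y * F x) * (F x * F y * F x) := by
              rw [ht.braid _ (humem _ (hnum x)) _ (humem _ (hnum y)) hn]
          _ = 1 := ht.sq _ (ht.conj_mem (humem _ (hnum x)) (humem _ (hnum y)))
    · obtain ⟨e, he, rfl⟩ := List.mem_map.mp hr
      rw [CosetCertPres.map_eval]
      simp only [List.mem_cons, List.not_mem_nil, or_false] at he
      rcases he with rfl | rfl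
      · simpa [CosetCertPres.Wx.eval, CosetCertPres.Pres.gen, hF, hu, num] using hU'
      · simpa [CosetCertPres.Wx.eval, CosetCertPres.Pres.gen, hF, hu, num] using hZ''
  let f : P23.Grp →* G := PresentedGroup.toGroup hrel
  have hf0 : f (P23.gg 0) = w 0 := by
    show PresentedGroup.toGroup hrel (PresentedGroup.of _) = _
    rw [PresentedGroup.toGroup.of]
    simp [CosetCertPres.Pres.gen, hF, hu, num]
  haveI : Finite P23.Grp := CosetCertFi23Simple.upper.1
  have hinj : Function.Injective f := by
    rw [← MonoidHom.ker_eq_bot_iff]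
    refine ((CosetCertFi23Simple.simple).eq_bot_or_eq_top_of_normal f.ker inferInstance).resolve_right
      fun h => ?_
    have h1 : f (P23.gg 0) = 1 := MonoidHom.mem_ker.mp (h ▸ mem_top _)
    rw [hf0] at h1
    exact ThreeTrans.ne_one hD.1 (hwn 0 (by norm_num)).1 h1
  have hcard : Nat.card P23.Grp = Nat.card G := by
    rw [CosetCertFi23Simple.card_p,
      ThreeTransM23Order34.card_G X (ThreeTransM23Cent59.centralizer_eq X)]
    norm_num
  refine ⟨MulEquiv.ofBijective f ((Nat.bijective_iff_injective_and_card f).mpr ⟨hinj, hcard⟩), ?_⟩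
  show f (P23.gg 0) ∈ D
  rw [hf0]
  exact (hwn 0 (by norm_num)).1

end Cfsg.Agent.ThreeTransM23Pres78
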