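import Cfsg.Agent.Lib.ThreeTransM22Outer72

/-!
# The three classes of involutions of a group of type M(22)
-/

set_option autoImplicit false
set_option linter.unusedSectionVars false
set_option linter.style.haveILetI false

namespace Cfsg.Agent.ThreeTransM22Classes72

open Subgroup Cfsg.Agent.ThreeTransRel Cfsg.Agent.ThreeTransDescent
open Cfsg.Agent.UnitaryF4Geo Cfsg.Agent.UnitaryF4Line
open Cfsg.Agent.ThreeTransM22Local72 Cfsg.Agent.ThreeTransM22Frame72 Cfsg.Agent.ThreeTransM22Lift72

variable {G : Type*} [Group G] [Finite G] {D : Set G}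

section geometry

variable {F : Type} [Field F] [Fintype F] [hF : FourField F]
variable {d : G} {φ : ↥(loc D d) →* Cfsg.PSU 6 F 2}
variable (X : Ctx D d φ)

local notation "π" => QuotientGroup.mk' (Subgroup.center (Cfsg.SU 6 F 2))
local notation "act" => OrthUnitaryTransvection.act
local notation "L" => ThreeTransM22Lift72.Chart.L X.chart

include X

/-- A frame beginning at two commuting members near `d`. -/
theorem exists_frame_pair {b c : G} (hb : b ∈ near D d) (hc : c ∈ near D d) (hbc : Commute b c)
    (hne : b ≠ c) : ∃ e f : Fin 3 → Fin 6 → F, Frame e f ∧ L (e 0) = b ∧ L (e 1) = c := by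
  obtain ⟨u, hu, hu0, rfl⟩ := L_surj X hb
  obtain ⟨v, hv, hv0, rfl⟩ := L_surj X hc
  have huv : h u v = 0 := (L_comm X hu hu0 hv hv0).mp hbc
  have hli : LinearIndependent F ![u, v] := by
    refine LinearIndependent.pair_iff.mpr fun s t hst => ?_
    by_cases hs : s = 0
    · subst hs; rw [zero_smul, zero_add] at hst
      exact ⟨rfl, (smul_eq_zero.mp hst).resolve_right hv0⟩
    · exfalso
      have hu' : s • u = t • v := vec_eq_of_add hst
      have ht : t ≠ 0 := fun h0 => by
        rw [h0, zero_smul] at hu'; exact smul_ne_zero hs hu0 hu'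
      apply hne
      rw [← L_smul X hu hu0 hs, hu', L_smul X hv hv0 ht]
  obtain ⟨x, hx⟩ := exists_duals hli
  obtain ⟨y, hy0, hy, hperp⟩ := exists_iso_perp (n := 6) (m := 4) (by norm_num) ![u, v, x 0, x 1]
  have hyu : h y u = 0 := hperp 0
  have hyv : h y v = 0 := hperp 1
  have hyx0 : h y (x 0) = 0 := hperp 2
  have hyx1 : h y (x 1) = 0 := hperp 3
  have hli3 : LinearIndependent F ![u, v, y] := by
    rw [Fintype.linearIndependent_iff]
    intro k hk
    rw [Fin.sum_univ_three] at hk
    simp only [Matrix.cons_val_zero, Matrix.cons_val_one, Matrix.cons_val] at hk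
    have e0 := congrArg (fun w => h w (x 0)) hk
    have e1 := congrArg (fun w => h w (x 1)) hk
    have h00 : h u (x 0) = 1 := h_comm_one (hx 0 0)
    have h10 : h v (x 0) = 0 := h_comm_zero (hx 0 1)
    have h01 : h u (x 1) = 0 := h_comm_zero (hx 1 0)
    have h11 : h v (x 1) = 1 := h_comm_one (hx 1 1)
    simp only [h_add_left, h_smul_left, h_zero_left, h00, h10, hyx0, mul_one, mul_zero, add_zero,
      h01, h11, hyx1, zero_add] at e0 e1
    rw [e0, e1, zero_smul, zero_smul, zero_add, zero_add] at hk
    intro i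
    fin_cases i
    · exact e0
    · exact e1
    · exact (smul_eq_zero.mp hk).resolve_right hy0
  have hee : ∀ i j, h ((![u, v, y] : Fin 3 → Fin 6 → F) i) ((![u, v, y] : Fin 3 → Fin 6 → F) j) = 0 := by
    intro i j
    fin_cases i <;> fin_cases j <;>
      simp [hu, hv, hy, huv, hyu, hyv, h_comm_zero huv, h_comm_zero hyu, h_comm_zero hyv]
  obtain ⟨f, hfr⟩ := exists_frame_of hee hli3
  exact ⟨_, f, hfr, rfl, rfl⟩

/-- The local group is transitive on ordered pairs of commuting members near `d`. -/
theorem pair_transitive {b c b' c' : G} (hb : b ∈ near D d) (hc : c ∈ near D d) (hbc : Commute b c)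
    (hne : b ≠ c) (hb' : b' ∈ near D d) (hc' : c' ∈ near D d) (hbc' : Commute b' c') (hne' : b' ≠ c') :
    ∃ k ∈ loc D d, k * b * k⁻¹ = b' ∧ k * c * k⁻¹ = c' := by
  obtain ⟨e, f, hfr, rfl, rfl⟩ := exists_frame_pair X hb hc hbc hne
  obtain ⟨e', f', hfr', rfl, rfl⟩ := exists_frame_pair X hb' hc' hbc' hne'
  obtain ⟨δ, hδ, -, hA⟩ := exists_isometry hfr hfr'
  have hl : ∀ i : Fin 3, (![δ, 1, 1] : Fin 3 → F) i ≠ 0 := fun i => by fin_cases i <;> simp [hδ]
  obtain ⟨A, hAe, -⟩ := hA ![δ, 1, 1] hl
    (by simp [Fin.prod_univ_three]; rw [← pow_succ']; exact cube hδ)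
  obtain ⟨k, hk⟩ := X.chart.surj (π A)
  refine ⟨k, k.2, ?_, ?_⟩ <;>
    rw [L_conj X hk (hfr.ee _ _) (hfr.ne_zero _), hAe, L_smul X (hfr'.ee _ _) (hfr'.ne_zero _) (hl _)]

end geometry

/-- Every involution is a product of at most three commuting members. -/
theorem exists_product (hD : Cfsg.IsThreeTranspositionGroup D) (hprim : Cfsg.IsPrimitiveUnderConj D)
    (h22 : Cfsg.IsOfTypeM22 G D) {x : G} (hx : orderOf x = 2) :
    ∃ l : List G, CList D l ∧ 1 ≤ l.length ∧ l.length ≤ 3 ∧ l.prod = x := by
  obtain ⟨s, hs, hxs⟩ := ThreeTransM22Cent72.exists_member hD hprim h22 hx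
  obtain ⟨F, _, _, _, hctx⟩ := exists_ctx hD hprim h22
  obtain ⟨φ, X⟩ := hctx s hs
  have hmem : x ∈ loc D s := by
    rw [← ThreeTransM22Outer72.centralizer_eq_loc hD hprim h22 s hs]
    exact mem_centralizer_singleton_iff.mpr hxs.eq
  have h2 : x * x = 1 := by rw [← pow_two, ← hx]; exact pow_orderOf_eq_one x
  exact involution_product X hmem h2 fun h1 => by simp [h1] at hx

/-- Products of the same number of members are conjugate. -/
theorem isConj_products (hD : Cfsg.IsThreeTranspositionGroup D) (hprim : Cfsg.IsPrimitiveUnderConj D)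
    (h22 : Cfsg.IsOfTypeM22 G D) {l l' : List G} (hl : CList D l) (hl' : CList D l')
    (hlen : l.length = l'.length) (h1 : 1 ≤ l.length) (h3 : l.length ≤ 3) :
    IsConj l.prod l'.prod := by
  have ht := tsys_of_group hD
  have hline := ThreeTransLine.lineAt_all ht hprim h22
  have hfix : ∀ {s k : G}, k ∈ loc D s → k * s * k⁻¹ = s := fun hk =>
    mul_inv_eq_iff_eq_mul.mpr (commute_d_of_mem_loc hk).symm.eq
  have hmove : ∀ {g a b : G}, a ∈ D → b ∈ D → a ≠ b → Commute a b →
      g * b * g⁻¹ ∈ near D (g * a * g⁻¹) := fun {g a b} _ hb hne hc =>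
    ⟨ht.conj g b hb, fun h => hne (mul_left_cancel (mul_right_cancel h)).symm,
      (Commute.conj_iff g).mpr hc⟩
  match l, l', hlen, h1, h3 with
  | [a], [a'], _, _, _ =>
    obtain ⟨g, hg⟩ := hprim.1 a (hl.mem a (by simp)) a' (hl'.mem a' (by simp))
    exact isConj_iff.mpr ⟨g, by simpa using hg⟩
  | [a, b], [a', b'], _, _, _ =>
    have ha := hl.mem a (by simp)
    have ha' := hl'.mem a' (by simp)
    have hab : a ≠ b := by have := hl.nodup; simpa using this
    have hab' : a' ≠ b' := by have := hl'.nodup; simpa using this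
    obtain ⟨g, hg⟩ := hprim.1 a ha a' ha'
    have hb1 : g * b * g⁻¹ ∈ near D a' :=
      hg ▸ hmove ha (hl.mem b (by simp)) hab (hl.comm a (by simp) b (by simp))
    obtain ⟨k, hk, hkb⟩ := (hline a' ha').2 _ hb1 b'
      ⟨hl'.mem b' (by simp), hab'.symm, hl'.comm a' (by simp) b' (by simp)⟩
    refine isConj_iff.mpr ⟨k * g, ?_⟩
    simp only [List.prod_cons, List.prod_nil, mul_one]
    calc k * g * (a * b) * (k * g)⁻¹ = (k * (g * a * g⁻¹) * k⁻¹) * (k * (g * b * g⁻¹) * k⁻¹) := by group
      _ = a' * b' := by rw [hg, hfix hk, hkb]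
  | [a, b, c], [a', b', c'], _, _, _ =>
    have ha := hl.mem a (by simp)
    have ha' := hl'.mem a' (by simp)
    have hn := hl.nodup
    have hn' := hl'.nodup
    simp only [List.nodup_cons, List.mem_cons, List.not_mem_nil, or_false, not_or, not_false_eq_true,
      List.nodup_nil, and_true] at hn hn'
    obtain ⟨g, hg⟩ := hprim.1 a ha a' ha'
    have hb1 : g * b * g⁻¹ ∈ near D a' :=
      hg ▸ hmove ha (hl.mem b (by simp)) hn.1.1 (hl.comm a (by simp) b (by simp))
    have hc1 : g * c * g⁻¹ ∈ near D a' :=
      hg ▸ hmove ha (hl.mem c (by simp)) hn.1.2 (hl.comm a (by simp) c (by simp))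
    obtain ⟨F, _, _, _, hctx⟩ := exists_ctx hD hprim h22
    obtain ⟨φ, X⟩ := hctx a' ha'
    obtain ⟨k, hk, hkb, hkc⟩ := pair_transitive X hb1 hc1
      ((Commute.conj_iff g).mpr (hl.comm b (by simp) c (by simp)))
      (fun h => hn.2 (mul_left_cancel (mul_right_cancel h)))
      (b' := b') (c' := c')
      ⟨hl'.mem b' (by simp), fun h => hn'.1.1 h.symm, hl'.comm a' (by simp) b' (by simp)⟩
      ⟨hl'.mem c' (by simp), fun h => hn'.1.2 h.symm, hl'.comm a' (by simp) c' (by simp)⟩
      (hl'.comm b' (by simp) c' (by simp)) hn'.2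
    refine isConj_iff.mpr ⟨k * g, ?_⟩
    simp only [List.prod_cons, List.prod_nil, mul_one]
    calc k * g * (a * (b * c)) * (k * g)⁻¹ = (k * (g * a * g⁻¹) * k⁻¹) *
          ((k * (g * b * g⁻¹) * k⁻¹) * (k * (g * c * g⁻¹) * k⁻¹)) := by group
      _ = a' * (b' * c') := by rw [hg, hfix hk, hkb, hkc]

/-- A product of at most three commuting members determines their number. -/
theorem length_unique (hD : Cfsg.IsThreeTranspositionGroup D) (hprim : Cfsg.IsPrimitiveUnderConj D)
    (h22 : Cfsg.IsOfTypeM22 G D) : ∀ {l l' : List G}, CList D l → CList D l' → 1 ≤ l.length →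
      l.length ≤ l'.length → l'.length ≤ 3 → l.prod = l'.prod → l.length = l'.length := by
  classical
  have ht := tsys_of_group hD
  have hL1 := ThreeTransTypes.level1_of_m22 ThreeTransPairs.psu6Simple ht h22
  intro l l' hl hl' h1 hle h3 he
  have hne1 : ∀ {m : List G}, CList D m → ∀ a ∈ m, a ≠ 1 := fun hm a ha =>
    ThreeTrans.ne_one hD.1 (hm.mem a ha)
  -- the members of one list commute with those of the other
  have hcr : ∀ x ∈ l, ∀ y ∈ l', Commute x y := by
    intro x hx
    refine (ThreeTransM22Count72.commute_prod_iff ht (hl.mem x hx) hl' h3).mp ?_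
    rw [← he]
    exact Commute.list_prod_right _ _ fun y hy => hl.comm x hx y hy
  by_contra hlt
  by_cases hcom : ∃ x ∈ l, x ∈ l'
  · obtain ⟨x, hx, hx'⟩ := hcom
    have p1 := List.perm_cons_erase hx
    have p2 := List.perm_cons_erase hx'
    rw [hl.prod_perm p1, hl'.prod_perm p2, List.prod_cons, List.prod_cons] at he
    have he' := mul_left_cancel he
    have n1 : (l.erase x).length = l.length - 1 := List.length_erase_of_mem hx
    have n2 : (l'.erase x).length = l'.length - 1 := List.length_erase_of_mem hx'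
    have c1 := hl.sublist (List.erase_sublist (a := x) (l := l))
    have c2 := hl'.sublist (List.erase_sublist (a := x) (l := l'))
    -- a product of commuting members, shorter than three, equal to another
    have hrel : ∀ {m : List G}, CList D m → m.prod = 1 → m.length ≤ 3 → m = [] := fun hm hp hlen =>
      no_short ht h22.1 ⟨hm, hp⟩ (hne1 hm) hlen
    by_cases hk : l.length = 1
    · rw [List.eq_nil_of_length_eq_zero (l := l.erase x) (by omega), List.prod_nil] at he'
      have := hrel c2 he'.symm (by omega)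
      rw [this] at n2
      simp at n2
      omega
    · obtain ⟨y, hy⟩ : ∃ y, l.erase x = [y] := List.length_eq_one_iff.mp (by omega)
      obtain ⟨z, w, hzw⟩ : ∃ z w, l'.erase x = [z, w] := List.length_eq_two.mp (by omega)
      rw [hy, hzw, List.prod_cons, List.prod_nil, mul_one, List.prod_cons, List.prod_cons,
        List.prod_nil, mul_one] at he'
      rw [hy] at c1
      rw [hzw] at c2
      have hzw' : z ≠ w := by simpa using c2.nodup
      have hz := c2.mem z (by simp)
      have hw := c2.mem w (by simp)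
      have hcyz : Commute y z ∧ Commute y w := by
        have := (ThreeTransM22Count72.commute_prod_iff ht (c1.mem y (by simp)) c2 (by simp)).mp
          (by simp [← he'])
        exact ⟨this z (by simp), this w (by simp)⟩
      by_cases hyz : y = z
      · rw [hyz] at he'
        exact hne1 c2 w (by simp) (mul_eq_left.mp he'.symm)
      by_cases hyw : y = w
      · rw [hyw] at he'
        exact hne1 c2 z (by simp) (mul_eq_right.mp he'.symm)
      have hm : CList D [y, z, w] := by
        refine ⟨fun a ha => ?_, by simp [hyz, hyw, hzw'], fun a ha b hb => ?_⟩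
        · simp at ha; rcases ha with rfl | rfl | rfl
          exacts [c1.mem _ (by simp), hz, hw]
        · have hc := c2.comm z (by simp) w (by simp)
          simp at ha hb
          rcases ha with rfl | rfl | rfl <;> rcases hb with rfl | rfl | rfl <;>
            first | exact Commute.refl _ | exact hcyz.1 | exact hcyz.2 | exact hcyz.1.symm |
              exact hcyz.2.symm | exact hc | exact hc.symm
      have := hrel hm (by simp [← he', ht.sq y (c1.mem y (by simp))]) (by simp)
      simp at this
  push Not at hcom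
  have hR : Rel D (l ++ l') := by
    refine ⟨⟨fun a ha => ?_, List.nodup_append.mpr ⟨hl.nodup, hl'.nodup, fun a ha b hb e =>
      hcom a ha (e ▸ hb)⟩, fun a ha b hb => ?_⟩, ?_⟩
    · rcases List.mem_append.mp ha with h | h
      exacts [hl.mem a h, hl'.mem a h]
    · rcases List.mem_append.mp ha with h | h <;> rcases List.mem_append.mp hb with h' | h'
      exacts [hl.comm a h b h', hcr a h b h', (hcr b h' a h).symm, hl'.comm a h b h']
    · rw [List.prod_append, ← he, hl.prod_sq ht]
  have hlen := List.length_append (as := l) (bs := l')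
  have hne := hne1 hR.toCList
  by_cases h33 : (l ++ l').length ≤ 3
  · have := no_short ht h22.1 hR hne h33
    rw [this] at hlen
    simp at hlen
    omega
  · rcases (show (l ++ l').length = 4 ∨ (l ++ l').length = 5 by omega) with k | k
    · exact hL1.no_four hR hne k
    · exact hL1.no_five hR hne k

end Cfsg.Agent.ThreeTransM22Classes72
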