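import Cfsg.Agent.Lib.Unit62Code55
import Cfsg.Agent.Lib.ThreeTransM22Frame72

/-!
# The abelian groups of order 512 fixing a totally isotropic plane of the hermitian six-space

For a frame, the isometries fixing the first half pointwise are coded by hermitian matrices.
-/

set_option autoImplicit false
set_option linter.unusedSectionVars false

namespace Cfsg.Agent.Unit62Plane55

open Cfsg.Agent.UnitaryF4Geo Cfsg.Agent.UnitaryF4Line Cfsg.Agent.ThreeTransM22Frame72
open Cfsg.Agent.Unit62Code55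

variable {F : Type*} [Field F] [Fintype F] [hF : FourField F]

local notation "act" => OrthUnitaryTransvection.act

/-- A root of `X ^ 2 + X + 1`. -/
noncomputable def om : F := (exists_omega (F := F)).choose

theorem om_sq : (om : F) ^ 2 = om + 1 := (exists_omega (F := F)).choose_spec

/-- The coding of the field. -/
noncomputable def φ (x : ℕ) : F :=
  if x = 1 then 1 else if x = 2 then om else if x = 3 then om + 1 else 0

theorem φ_zero : φ (F := F) 0 = 0 := by simp [φ]

theorem φ_one : φ (F := F) 1 = 1 := by simp [φ]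

theorem φ_mul {x y : ℕ} (hx : x < 4) (hy : y < 4) : φ (F := F) (mul4 x y) = φ x * φ y := by
  have e := om_sq (F := F)
  have two := two_eq_zero (F := F)
  interval_cases x <;> interval_cases y <;> simp [φ, mul4] <;>
    first
    | linear_combination e
    | linear_combination -e
    | linear_combination e + (om + 1) * two
    | linear_combination e + two * om
    | linear_combination -e + two * om
    | linear_combination e + two
    | linear_combination -e - two
    | linear_combination -e - (om + 1) * two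
    | linear_combination -e - om * two

theorem mul4_lt {x y : ℕ} (hx : x < 4) (hy : y < 4) : mul4 x y < 4 := by
  interval_cases x <;> interval_cases y <;> decide

theorem φ_sq {x : ℕ} (hx : x < 4) : φ (F := F) (sq4 x) = φ x ^ 2 := by
  rw [sq4, φ_mul hx hx, sq]

theorem φ_xor {x y : ℕ} (hx : x < 4) (hy : y < 4) : φ (F := F) (x ^^^ y) = φ x + φ y := by
  have two := two_eq_zero (F := F)
  interval_cases x <;> interval_cases y <;> simp [φ] <;>
    first
    | linear_combination -two
    | linear_combination (-om) * two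
    | linear_combination -(om + 1) * two
    | ring

theorem φ_inj {x y : ℕ} (hx : x < 4) (hy : y < 4) (e : φ (F := F) x = φ y) : x = y := by
  obtain ⟨h0, h1⟩ := omega_ne (om_sq (F := F))
  have h2 : (om : F) + 1 ≠ 0 := fun e => h1 (eq_of_add_eq_zero e)
  interval_cases x <;> interval_cases y <;>
    first
    | rfl
    | simp [φ, h0, h0.symm, h1, h1.symm, h2, h2.symm] at e

theorem φ_surj (a : F) : ∃ x : Fin 4, φ (x : ℕ) = a := by
  have hi : Function.Injective fun x : Fin 4 => φ (F := F) (x : ℕ) :=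
    fun x y e => Fin.ext (φ_inj x.isLt y.isLt e)
  exact ((Fintype.bijective_iff_injective_and_card _).mpr
    ⟨hi, by rw [Fintype.card_fin, hF.card_eq]⟩).2 a

theorem φ_fix (a : F) (h : a ^ 2 = a) : ∃ x : Fin 2, φ (x : ℕ) = a := by
  rcases fixed_cases h with rfl | rfl
  · exact ⟨0, φ_zero⟩
  · exact ⟨1, φ_one⟩

theorem xor_lt {a b : ℕ} (ha : a < 512) (hb : b < 512) : a ^^^ b < 512 :=
  Nat.xor_lt_two_pow (n := 9) ha hb

theorem ent_lt' {n : ℕ} (hn : n < 512) (i j : Fin 3) : ent n i j < 4 := ent_lt ⟨n, hn⟩ i j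

theorem ent_xor (a b : ℕ) (i j : Fin 3) : ent (a ^^^ b) i j = ent a i j ^^^ ent b i j := by
  have hb : ∀ k, bit (a ^^^ b) k = bit a k ^^^ bit b k := fun k => by
    simp only [bit, Nat.testBit_xor]
    cases a.testBit k <;> cases b.testBit k <;> rfl
  have h1 : ∀ k l, bit (a ^^^ b) k + 2 * bit (a ^^^ b) l =
      (bit a k + 2 * bit a l) ^^^ (bit b k + 2 * bit b l) := fun k l => by
    simp only [bit, Nat.testBit_xor]
    cases a.testBit k <;> cases b.testBit k <;> cases a.testBit l <;> cases b.testBit l <;> rfl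
  have h2 : ∀ k l, sq4 (bit (a ^^^ b) k + 2 * bit (a ^^^ b) l) =
      sq4 (bit a k + 2 * bit a l) ^^^ sq4 (bit b k + 2 * bit b l) := fun k l => by
    simp only [bit, Nat.testBit_xor]
    cases a.testBit k <;> cases b.testBit k <;> cases a.testBit l <;> cases b.testBit l <;> rfl
  fin_cases i <;> fin_cases j <;> first | exact hb _ | exact h1 _ _ | exact h2 _ _

theorem φ_ent_xor {a b : ℕ} (ha : a < 512) (hb : b < 512) (i j : Fin 3) :
    φ (F := F) (ent (a ^^^ b) i j) = φ (ent a i j) + φ (ent b i j) := by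
  rw [ent_xor, φ_xor (ent_lt' ha i j) (ent_lt' hb i j)]

theorem code_inj {a b : ℕ} (ha : a < 512) (hb : b < 512)
    (e : ∀ i j, φ (F := F) (ent a i j) = φ (ent b i j)) : a = b := by
  refine Nat.eq_of_xor_eq_zero ?_
  exact ent_inj ⟨a ^^^ b, xor_lt ha hb⟩ fun i j => by
    rw [Fin.val_mk, ent_xor, φ_inj (ent_lt' ha i j) (ent_lt' hb i j) (e i j), Nat.xor_self]

theorem assemble : ∀ (d0 d1 d2 : Fin 2) (k0 k1 k2 : Fin 4),
    let n := (d0 : ℕ) + 2 * (d1 : ℕ) + 4 * (d2 : ℕ) + 8 * (k0 : ℕ) + 32 * (k1 : ℕ) + 128 * (k2 : ℕ)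
    n < 512 ∧ ent n 0 0 = d0 ∧ ent n 1 1 = d1 ∧ ent n 2 2 = d2 ∧ ent n 0 1 = k0 ∧
      ent n 0 2 = k1 ∧ ent n 1 2 = k2 ∧ ent n 1 0 = sq4 k0 ∧ ent n 2 0 = sq4 k1 ∧
      ent n 2 1 = sq4 k2 := by decide +kernel

theorem exists_code (M : Fin 3 → Fin 3 → F) (hM : ∀ i j, M i j = M j i ^ 2) :
    ∃ n, n < 512 ∧ ∀ i j, φ (ent n i j) = M i j := by
  choose d hd using fun i => φ_fix (M i i) (hM i i).symm
  obtain ⟨k0, h0⟩ := φ_surj (M 0 1)
  obtain ⟨k1, h1⟩ := φ_surj (M 0 2)
  obtain ⟨k2, h2⟩ := φ_surj (M 1 2)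
  obtain ⟨hn, e00, e11, e22, e01, e02, e12, e10, e20, e21⟩ := assemble (d 0) (d 1) (d 2) k0 k1 k2
  refine ⟨_, hn, fun i j => ?_⟩
  fin_cases i <;> fin_cases j <;>
    simp only [Fin.zero_eta, Fin.mk_one, Fin.reduceFinMk, e00, e11, e22, e01, e02, e12, e10, e20, e21,
      hd, h0, h1, h2, φ_sq k0.isLt, φ_sq k1.isLt, φ_sq k2.isLt]
  · exact (hM 1 0).symm
  · exact (hM 2 0).symm
  · exact (hM 2 1).symm

/-- The field vector with given code. -/
noncomputable def vec (c : Fin 3 → Fin 4) : Fin 3 → F := fun k => φ (c k : ℕ)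

theorem vec_pv_ne (i : Fin 21) : vec (F := F) (pv i) ≠ 0 := fun e => by
  obtain ⟨k, hk⟩ := pv_ne i
  have := congrFun e k
  exact hk (Fin.ext (φ_inj (F := F) (pv i k).isLt (by norm_num) (this.trans φ_zero.symm)))

theorem vec_cover {c : Fin 3 → F} (hc : c ≠ 0) :
    ∃ (i : Fin 21) (s : F), s ≠ 0 ∧ c = s • vec (pv i) := by
  choose k hk using fun i => φ_surj (c i)
  obtain ⟨i, s, hs, hcs⟩ := pv_cover k (by
    by_contra hno
    push Not at hno
    exact hc (funext fun i => by rw [← hk, hno i]; exact φ_zero))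
  refine ⟨i, φ (s : ℕ), fun e => hs (Fin.ext (φ_inj (F := F) s.isLt (by norm_num) (e.trans φ_zero.symm))),
    funext fun j => ?_⟩
  rw [Pi.smul_apply, smul_eq_mul, vec, ← φ_mul s.isLt (pv i j).isLt, ← hcs, hk]

theorem det3_ne {a b c : Fin 3 → Fin 4} (hd : det3 a b c ≠ 0) :
    LinearIndependent F ![vec (F := F) a, vec b, vec c] := by
  have hlt : ∀ {x y : ℕ}, x < 4 → y < 4 → x ^^^ y < 4 := fun hx hy => Nat.xor_lt_two_pow (n := 2) hx hy
  have hm : ∀ x y z : Fin 4, mul4 (mul4 x y) z < 4 := fun x y z =>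
    mul4_lt (mul4_lt x.isLt y.isLt) z.isLt
  have hφ : ∀ x y z : Fin 4, φ (F := F) (mul4 (mul4 x y) z) = φ (x : ℕ) * φ (y : ℕ) * φ (z : ℕ) :=
    fun x y z => by rw [φ_mul (mul4_lt x.isLt y.isLt) z.isLt, φ_mul x.isLt y.isLt]
  have he : (Matrix.of ![vec (F := F) a, vec b, vec c]).det = φ (det3 a b c) := by
    rw [Matrix.det_fin_three, det3, φ_xor, φ_xor, φ_xor, φ_xor, φ_xor, hφ, hφ, hφ, hφ, hφ, hφ]
    rotate_left
    all_goals first
      | exact hm _ _ _
      | exact hlt (hm _ _ _) (hm _ _ _)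
      | exact hlt (hlt (hm _ _ _) (hm _ _ _)) (hm _ _ _)
      | exact hlt (hlt (hlt (hm _ _ _) (hm _ _ _)) (hm _ _ _)) (hm _ _ _)
      | exact hlt (hlt (hlt (hlt (hm _ _ _) (hm _ _ _)) (hm _ _ _)) (hm _ _ _)) (hm _ _ _)
      | skip
    simp only [Matrix.of_apply, Matrix.cons_val_zero, Matrix.cons_val_one, Matrix.cons_val, sub_eq, vec]
  have hlt6 : det3 a b c < 4 :=
    hlt (hlt (hlt (hlt (hlt (hm _ _ _) (hm _ _ _)) (hm _ _ _)) (hm _ _ _)) (hm _ _ _)) (hm _ _ _)
  exact Matrix.linearIndependent_rows_of_det_ne_zero (A := Matrix.of ![vec (F := F) a, vec b, vec c])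
    fun e => hd (φ_inj hlt6 (by norm_num) ((he.symm.trans e).trans φ_zero.symm))

variable {e f e' f' : Fin 3 → Fin 6 → F}

/-- The isometries fixing the first half pointwise. -/
def P (e : Fin 3 → Fin 6 → F) : Subgroup (Cfsg.SU 6 F 2) where
  carrier := {g | ∀ i, act g (e i) = e i}
  one_mem' := fun _ => OrthUnitaryTransvection.act_one _
  mul_mem' := fun {a b} ha hb i => by rw [OrthUnitaryTransvection.act_mul, hb i, ha i]
  inv_mem' := fun {a} ha i => by conv_lhs => rw [← ha i, OrthUnitaryTransvection.act_inv_act]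

theorem act_comb (g : Cfsg.SU 6 F 2) (e : Fin 3 → Fin 6 → F) (c : Fin 3 → F) :
    act g (comb e c) = comb (fun i => act g (e i)) c := by
  simp only [comb_three, OrthUnitaryTransvection.act_add, OrthUnitaryTransvection.act_smul]

theorem fix_comb {g : Cfsg.SU 6 F 2} (hg : g ∈ P e) (c : Fin 3 → F) :
    act g (comb e c) = comb e c := by
  rw [act_comb, show (fun i => act g (e i)) = e from funext hg]

theorem comb_add (e : Fin 3 → Fin 6 → F) (a b : Fin 3 → F) :
    comb e (a + b) = comb e a + comb e b := by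
  simp [comb, add_smul, Finset.sum_add_distrib]

/-- The matrix of an element. -/
def mat (f : Fin 3 → Fin 6 → F) (g : Cfsg.SU 6 F 2) (i j : Fin 3) : F := h (act g (f i)) (f j)

theorem act_f (hfr : Frame e f) {g : Cfsg.SU 6 F 2} (hg : g ∈ P e) (i : Fin 3) :
    act g (f i) = f i + comb e (mat f g i) := by
  have h0 : ∀ j, h (act g (f i) + f i) (e j) = 0 := fun j => by
    rw [h_add_left]
    conv_lhs => arg 1; rw [← hg j]
    rw [show h (act g (f i)) (act g (e j)) = h (f i) (e j) from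
      OrthUnitaryTransvection.herm_act g _ _]
    exact add_self _
  have h1 := hfr.mem_plane h0
  rw [show (fun j => h (act g (f i) + f i) (f j)) = mat f g i from funext fun j => by
    rw [h_add_left, hfr.ff, add_zero]; rfl] at h1
  rw [← h1, add_left_comm, vec_add_self, add_zero]

theorem ext_frame (hfr : Frame e f) {g k : Cfsg.SU 6 F 2} (he : ∀ i, act g (e i) = act k (e i))
    (hf' : ∀ i, act g (f i) = act k (f i)) : g = k := by
  refine OrthUnitaryTransvection.su_ext fun x => ?_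
  rw [hfr.expand x]
  simp only [OrthUnitaryTransvection.act_add, act_comb, funext he, funext hf']

theorem eq_of_mat (hfr : Frame e f) {g k : Cfsg.SU 6 F 2} (hg : g ∈ P e) (hk : k ∈ P e)
    (h : ∀ i j, mat f g i j = mat f k i j) : g = k :=
  ext_frame hfr (fun i => (hg i).trans (hk i).symm) fun i => by
    rw [act_f hfr hg, act_f hfr hk, show mat f g i = mat f k i from funext (h i)]

theorem mat_mul (hfr : Frame e f) {g k : Cfsg.SU 6 F 2} (hg : g ∈ P e) (hk : k ∈ P e) (i j : Fin 3) :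
    mat f (g * k) i j = mat f g i j + mat f k i j := by
  have e1 : act (g * k) (f i) = f i + comb e (mat f g i + mat f k i) := by
    rw [OrthUnitaryTransvection.act_mul, act_f hfr hk, OrthUnitaryTransvection.act_add,
      act_f hfr hg, fix_comb hg, comb_add, add_assoc]
  rw [mat, e1, h_add_left, hfr.ff, zero_add, hfr.h_eb, Pi.add_apply]

theorem mat_symm (hfr : Frame e f) {g : Cfsg.SU 6 F 2} (hg : g ∈ P e) (i j : Fin 3) :
    mat f g i j = mat f g j i ^ 2 := by
  have h1 : h (act g (f i)) (act g (f j)) = 0 :=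
    (OrthUnitaryTransvection.herm_act g _ _).trans (hfr.ff i j)
  rw [act_f hfr hg, act_f hfr hg] at h1
  simp only [h_add_left, h_add_right, hfr.ff, hfr.h_eb, hfr.h_ee, add_zero, zero_add] at h1
  rw [h_symm (comb e (mat f g j)) (f i), hfr.h_eb] at h1
  exact eq_of_add_eq_zero h1

theorem T_mem (hfr : Frame e f) (c : Fin 3 → F) : T (comb e c) (hfr.h_ee c c) ∈ P e := fun i => by
  rw [T_act]
  conv_lhs => arg 2; arg 1; rw [← comb_single e i, hfr.h_ee]
  rw [zero_smul, add_zero]

theorem mat_T (hfr : Frame e f) (c : Fin 3 → F) (i j : Fin 3) :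
    mat f (T (comb e c) (hfr.h_ee c c)) i j = c i ^ 2 * c j := by
  rw [mat, T_act, h_add_left, hfr.ff, zero_add, h_smul_left, hfr.h_eb, h_symm (comb e c) (f i),
    hfr.h_eb]

/-- The code of an element. -/
noncomputable def code (hfr : Frame e f) (g : ↥(P e)) : ℕ :=
  (exists_code (mat f g.1) (mat_symm hfr g.2)).choose

theorem code_lt (hfr : Frame e f) (g : ↥(P e)) : code hfr g < 512 :=
  (exists_code (mat f g.1) (mat_symm hfr g.2)).choose_spec.1

theorem code_spec (hfr : Frame e f) (g : ↥(P e)) (i j : Fin 3) :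
    φ (ent (code hfr g) i j) = mat f g.1 i j :=
  (exists_code (mat f g.1) (mat_symm hfr g.2)).choose_spec.2 i j

theorem code_eq (hfr : Frame e f) {g : ↥(P e)} {n : ℕ} (hn : n < 512)
    (h : ∀ i j, φ (ent n i j) = mat f g.1 i j) : code hfr g = n :=
  code_inj (code_lt hfr g) hn fun i j => (code_spec hfr g i j).trans (h i j).symm

theorem code_mul (hfr : Frame e f) (g k : ↥(P e)) :
    code hfr (g * k) = code hfr g ^^^ code hfr k :=
  code_eq hfr (xor_lt (code_lt hfr g) (code_lt hfr k)) fun i j => by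
    rw [φ_ent_xor (code_lt hfr g) (code_lt hfr k), code_spec, code_spec, Subgroup.coe_mul,
      mat_mul hfr g.2 k.2]

theorem code_one (hfr : Frame e f) : code hfr 1 = 0 := by
  have := code_mul hfr 1 1
  rwa [mul_one, Nat.xor_self] at this

theorem code_injective (hfr : Frame e f) : Function.Injective (code hfr) := fun g k h =>
  Subtype.ext (eq_of_mat hfr g.2 k.2 fun i j => by rw [← code_spec hfr, h, code_spec])

/-- The transvection of a point of the plane. -/
noncomputable def tp (hfr : Frame e f) (i : Fin 21) : ↥(P e) :=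
  ⟨T (comb e (vec (pv i))) (hfr.h_ee _ _), T_mem hfr _⟩

theorem code_tp (hfr : Frame e f) (i : Fin 21) : code hfr (tp hfr i) = pc i :=
  code_eq hfr (codeOf_lt _) fun a b => by
    rw [pc, ent_codeOf, φ_mul (x := sq4 _) (mul4_lt (pv i a).isLt (pv i a).isLt) (pv i b).isLt,
      φ_sq (pv i a).isLt]
    exact (mat_T hfr (vec (pv i)) a b).symm

theorem elem_cases {n : ℕ} (hn : n < 512) (hn0 : n ≠ 0) :
    (∃ i, n = pc i) ∨ (∃ i j, i ≠ j ∧ n = pc i ^^^ pc j) ∨
      ∃ i j k, det3 (pv i) (pv j) (pv k) ≠ 0 ∧ n = pc i ^^^ pc j ^^^ pc k := by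
  rcases classes ⟨n, hn⟩ hn0 with h | h | h
  · obtain ⟨i, -, hi⟩ := List.mem_map.mp h
    exact Or.inl ⟨i, hi.symm⟩
  · exact Or.inr (Or.inl (two_spec n h))
  · exact Or.inr (Or.inr (three_spec n h))

theorem code_surjective (hfr : Frame e f) {n : ℕ} (hn : n < 512) : ∃ g, code hfr g = n := by
  by_cases hn0 : n = 0
  · exact ⟨1, by rw [code_one, hn0]⟩
  rcases elem_cases hn hn0 with ⟨i, hi⟩ | ⟨i, j, -, hi⟩ | ⟨i, j, k, -, hi⟩
  · exact ⟨tp hfr i, by rw [code_tp, hi]⟩
  · exact ⟨tp hfr i * tp hfr j, by rw [code_mul, code_tp, code_tp, hi]⟩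
  · exact ⟨tp hfr i * tp hfr j * tp hfr k, by rw [code_mul, code_mul, code_tp, code_tp, code_tp, hi]⟩

theorem sq_one (hfr : Frame e f) (g : ↥(P e)) : g * g = 1 :=
  code_injective hfr (by rw [code_mul, Nat.xor_self, code_one])

theorem comm_P (hfr : Frame e f) (g k : ↥(P e)) : g * k = k * g :=
  code_injective hfr (by rw [code_mul, code_mul, Nat.xor_comm])

theorem card_P (hfr : Frame e f) : Nat.card ↥(P e) = 512 := by
  have : Function.Bijective fun g => (⟨code hfr g, code_lt hfr g⟩ : Fin 512) :=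
    ⟨fun g k h => code_injective hfr (congrArg Fin.val h), fun n => by
      obtain ⟨g, hg⟩ := code_surjective hfr n.2
      exact ⟨g, Fin.ext hg⟩⟩
  rw [Nat.card_eq_of_bijective _ this, Nat.card_fin]

theorem P_eq_of_span (hfr : Frame e f) (hfr' : Frame e' f')
    (h : ∀ i, ∃ c : Fin 3 → F, e' i = comb e c) : P e' = P e := by
  have hle : P e ≤ P e' := fun g hg i => by
    obtain ⟨c, hc⟩ := h i
    rw [hc]; exact fix_comb hg c
  exact (Subgroup.eq_of_le_of_card_ge hle (by rw [card_P hfr, card_P hfr'])).symm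

/-- A frame is carried to any other. -/
theorem exists_move (hfr : Frame e f) (hfr' : Frame e' f') :
    ∃ k : Cfsg.SU 6 F 2, (∀ g, g ∈ P e ↔ k * g * k⁻¹ ∈ P e') ∧
      ∀ i, k * T (e i) (hfr.ee i i) * k⁻¹ = T (e' i) (hfr'.ee i i) := by
  obtain ⟨δ, hδ, -, hl⟩ := exists_isometry hfr hfr'
  have hne : ∀ i, (![δ, 1, 1] : Fin 3 → F) i ≠ 0 := fun i => by fin_cases i <;> simp [hδ]
  obtain ⟨k, he, -⟩ := hl ![δ, 1, 1] hne (by
    rw [Fin.prod_univ_three]
    simp only [Matrix.cons_val_zero, Matrix.cons_val_one, Matrix.cons_val, mul_one]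
    rw [← pow_succ']; exact cube hδ)
  refine ⟨k, fun g => forall_congr' fun i => ?_, fun i => ?_⟩
  · have e1 : act (k * g * k⁻¹) ((![δ, 1, 1] : Fin 3 → F) i • e' i) = act k (act g (e i)) := by
      rw [← he i, OrthUnitaryTransvection.act_mul, OrthUnitaryTransvection.act_mul,
        OrthUnitaryTransvection.act_inv_act]
    constructor
    · intro hg
      refine smul_right_injective _ (hne i) ?_
      show _ • act _ (e' i) = _
      rw [← OrthUnitaryTransvection.act_smul, e1, hg, he]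
    · intro hg
      rw [OrthUnitaryTransvection.act_smul, hg, ← he i] at e1
      have := congrArg (act k⁻¹) e1
      rwa [OrthUnitaryTransvection.act_inv_act, OrthUnitaryTransvection.act_inv_act, eq_comm] at this
  · have h0 : h ((![δ, 1, 1] : Fin 3 → F) i • e' i) ((![δ, 1, 1] : Fin 3 → F) i • e' i) = 0 := by
      rw [h_smul_left, h_smul_right, hfr'.ee, mul_zero, mul_zero]
    exact (T_conj k _).trans ((T_congr (he i) _ h0).trans (T_smul (hne i) _ h0))

/-- An ordered triangle of the plane is the first half of a frame with the same group. -/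
theorem triangle_frame (hfr : Frame e f) {i j k : Fin 21} (hd : det3 (pv i) (pv j) (pv k) ≠ 0) :
    ∃ f', Frame ![comb e (vec (pv i)), comb e (vec (pv j)), comb e (vec (pv k))] f' ∧
      P ![comb e (vec (pv i)), comb e (vec (pv j)), comb e (vec (pv k))] = P e := by
  set e' := ![comb e (vec (pv i)), comb e (vec (pv j)), comb e (vec (pv k))] with he'
  have hc : ∀ m, e' m = comb e (![vec (pv i), vec (pv j), vec (pv k)] m) := fun m => by
    fin_cases m <;> rfl
  have hli : LinearIndependent F e' := by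
    rw [Fintype.linearIndependent_iff]
    intro g hg
    refine Fintype.linearIndependent_iff.mp (det3_ne (F := F) hd) g ?_
    refine hfr.comb_inj ?_
    rw [comb_zero, ← hg, Fin.sum_univ_three, Fin.sum_univ_three, comb_add, comb_add, comb_smul,
      comb_smul, comb_smul, hc, hc, hc]
  obtain ⟨f', hf'⟩ := exists_frame_of (fun a b => by rw [hc, hc]; exact hfr.h_ee _ _) hli
  exact ⟨f', hf', P_eq_of_span hfr hf' fun m => ⟨_, hc m⟩⟩

/-- Triangles of two planes are conjugate by an element carrying the groups. -/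
theorem triangle_move (hfr : Frame e f) (hfr' : Frame e' f') {i j k i' j' k' : Fin 21}
    (hd : det3 (pv i) (pv j) (pv k) ≠ 0) (hd' : det3 (pv i') (pv j') (pv k') ≠ 0) :
    ∃ x : Cfsg.SU 6 F 2, (∀ g, g ∈ P e ↔ x * g * x⁻¹ ∈ P e') ∧
      x * (tp hfr i).1 * x⁻¹ = (tp hfr' i').1 ∧ x * (tp hfr j).1 * x⁻¹ = (tp hfr' j').1 ∧
      x * (tp hfr k).1 * x⁻¹ = (tp hfr' k').1 := by
  obtain ⟨f₁, h1, p1⟩ := triangle_frame hfr hd
  obtain ⟨f₂, h2, p2⟩ := triangle_frame hfr' hd'
  obtain ⟨x, hx, hT⟩ := exists_move h1 h2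
  rw [p1, p2] at hx
  exact ⟨x, hx, hT 0, hT 1, hT 2⟩

end Cfsg.Agent.Unit62Plane55
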