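import Cfsg.Agent.Lib.M22BlockCode72
import Cfsg.Agent.Lib.Unit62Plane55
import Cfsg.Agent.Lib.ThreeTransM22Classes72

/-!
# A maximal commuting set of type M(22) in coordinates

The group generated by a maximal set is elementary abelian of order 1024, with the coordinates of
`M22BlockCode72`; the maximal sets are conjugate, and the stabiliser is transitive on ordered triples.
-/

set_option autoImplicit false
set_option linter.unusedSectionVars false
set_option linter.style.haveILetI false

namespace Cfsg.Agent.ThreeTransM22Block72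

open Subgroup Cfsg.Agent.ThreeTransRel Cfsg.Agent.ThreeTransDescent
open Cfsg.Agent.UnitaryF4Geo Cfsg.Agent.UnitaryF4Line
open Cfsg.Agent.ThreeTransM22Local72 Cfsg.Agent.ThreeTransM22Frame72 Cfsg.Agent.ThreeTransM22Lift72
open Cfsg.Agent.ThreeTransM22Outer72 Cfsg.Agent.ThreeTransM22Std72
open Cfsg.Agent.Unit62Code55 Cfsg.Agent.Unit62Plane55 Cfsg.Agent.M22BlockCode72

section coordinates

variable {C : Type*} [Group C]

/-- The product of some of twenty-two elements. -/
def val (x : Fin 22 → C) (n : ℕ) : C :=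
  ((List.finRange 22).map fun i : Fin 22 => if n.testBit (i : ℕ) then x i else 1).prod

/-- The element with given coordinates. -/
def ev (x : Fin 22 → C) (n : ℕ) : C :=
  ((List.finRange 10).map fun k : Fin 10 => if n.testBit (k : ℕ) then x (gen k) else 1).prod

theorem prod_map_mul {α : Type*} (f g : α → C) :
    ∀ l : List α, (∀ a ∈ l, ∀ b ∈ l, Commute (g a) (f b)) →
      (l.map fun a => f a * g a).prod = (l.map f).prod * (l.map g).prod
  | [], _ => by simp
  | a :: l, h => by
    have ih := prod_map_mul f g l fun p hp q hq => h p (List.mem_cons_of_mem _ hp) q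
      (List.mem_cons_of_mem _ hq)
    have hc : Commute (g a) (l.map f).prod := Commute.list_prod_right _ _ fun y hy => by
      obtain ⟨b, hb, rfl⟩ := List.mem_map.mp hy
      exact h a (List.mem_cons_self ..) b (List.mem_cons_of_mem _ hb)
    simp only [List.map_cons, List.prod_cons, ih, mul_assoc, hc.left_comm]

theorem prod_single {α : Type*} [DecidableEq α] (f : α → C) (i : α) : ∀ l : List α, l.Nodup →
    (l.map fun a => if a = i then f a else 1).prod = if i ∈ l then f i else 1
  | [], _ => by simp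
  | a :: l, h => by
    obtain ⟨h1, h2⟩ := List.nodup_cons.mp h
    rw [List.map_cons, List.prod_cons, prod_single f i l h2]
    by_cases e : a = i
    · subst e; simp [h1]
    · simp [e, Ne.symm e]

theorem map_val {C' : Type*} [Group C'] (ψ : C →* C') (x : Fin 22 → C) (n : ℕ) :
    ψ (val x n) = val (fun i => ψ (x i)) n := by
  simp only [val, map_list_prod, List.map_map]
  refine congrArg List.prod (List.map_congr_left fun i _ => ?_)
  simp only [Function.comp_apply]
  split <;> simp

theorem map_ev {C' : Type*} [Group C'] (ψ : C →* C') (x : Fin 22 → C) (n : ℕ) :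
    ψ (ev x n) = ev (fun i => ψ (x i)) n := by
  simp only [ev, map_list_prod, List.map_map]
  refine congrArg List.prod (List.map_congr_left fun i _ => ?_)
  simp only [Function.comp_apply]
  split <;> simp

theorem val_pow (x : Fin 22 → C) (i : Fin 22) : val x (2 ^ (i : ℕ)) = x i := by
  rw [val]
  simp only [Nat.testBit_two_pow, decide_eq_true_eq, Fin.val_inj, eq_comm (a := i)]
  rw [prod_single x i _ (List.nodup_finRange _)]
  simp

/-- Pairwise commuting involutions. -/
structure Inv (x : Fin 22 → C) : Prop where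
  comm : ∀ i j, Commute (x i) (x j)
  sq : ∀ i, x i * x i = 1

variable {x : Fin 22 → C}

theorem Inv.xor_prod (h : Inv x) {α : Type*} (g : α → Fin 22) (p q : α → Bool) (l : List α) :
    (l.map fun a => if (p a != q a) then x (g a) else 1).prod =
      (l.map fun a => if p a then x (g a) else 1).prod * (l.map fun a => if q a then x (g a) else 1).prod := by
  rw [← prod_map_mul]
  · refine congrArg List.prod (List.map_congr_left fun a _ => ?_)
    cases p a <;> cases q a <;> simp [h.sq]
  · intro a _ b _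
    cases p b <;> cases q a <;> simp [h.comm]

theorem Inv.val_xor (h : Inv x) (m n : ℕ) : val x (m ^^^ n) = val x m * val x n := by
  simp only [val, Nat.testBit_xor]
  exact h.xor_prod id (fun i : Fin 22 => m.testBit (i : ℕ)) (fun i : Fin 22 => n.testBit (i : ℕ)) _

theorem Inv.ev_xor (h : Inv x) (m n : ℕ) : ev x (m ^^^ n) = ev x m * ev x n := by
  simp only [ev, Nat.testBit_xor]
  exact h.xor_prod gen (fun k : Fin 10 => m.testBit (k : ℕ)) (fun k : Fin 10 => n.testBit (k : ℕ)) _

theorem val_zero (x : Fin 22 → C) : val x 0 = 1 := by simp [val]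

theorem ev_zero (x : Fin 22 → C) : ev x 0 = 1 := by simp [ev]

theorem Inv.val_foldl (h : Inv x) : ∀ (l : List ℕ) (a : ℕ),
    val x (l.foldl (fun a k => a ^^^ k) a) = val x a * (l.map (val x)).prod
  | [], a => by simp
  | k :: l, a => by rw [List.foldl_cons, h.val_foldl l, h.val_xor, List.map_cons, List.prod_cons, mul_assoc]

theorem Inv.val_gmask (h : Inv x) (n : ℕ) : val x (gmask n) = ev x n := by
  rw [gmask, h.val_foldl, val_zero, one_mul, ev, List.map_map]
  refine congrArg List.prod (List.map_congr_left fun k _ => ?_)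
  simp only [Function.comp_apply]
  split
  · exact val_pow x _
  · exact val_zero x

/-- Twenty-two elements with the relations of a maximal commuting set. -/
structure Rep (x : Fin 22 → C) : Prop extends Inv x where
  rel : ∀ k : ℕ, k < 23 → val x (rels.getD k 0) = 1

theorem Rep.member (h : Rep x) (i : Fin 22) : x i = ev x (mv i) := by
  have h1 : val x (relSum (comb i)) = 1 := by
    rw [relSum, h.toInv.val_foldl, val_zero, one_mul]
    refine List.prod_eq_one fun y hy => ?_
    obtain ⟨r, hr, rfl⟩ := List.mem_map.mp hy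
    obtain ⟨k, hk, rfl⟩ := List.mem_map.mp hr
    exact h.rel k (List.mem_range.mp (List.mem_filter.mp hk).1)
  rw [← member_rel, h.toInv.val_xor, val_pow, h.toInv.val_gmask] at h1
  calc x i = x i * (x i * ev x (mv i)) := by rw [h1, mul_one]
    _ = ev x (mv i) := by rw [← mul_assoc, h.sq, one_mul]

/-- The group generated by the elements. -/
def span (h : Rep x) : Subgroup C where
  carrier := Set.range fun n : Fin 1024 => ev x (n : ℕ)
  one_mem' := ⟨0, ev_zero x⟩
  mul_mem' := by
    rintro _ _ ⟨m, rfl⟩ ⟨n, rfl⟩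
    exact ⟨⟨(m : ℕ) ^^^ n, Nat.xor_lt_two_pow (n := 10) m.isLt n.isLt⟩, h.toInv.ev_xor m n⟩
  inv_mem' := by
    rintro _ ⟨m, rfl⟩
    refine ⟨m, ?_⟩
    symm
    apply inv_eq_of_mul_eq_one_right
    rw [← h.toInv.ev_xor, Nat.xor_self, ev_zero]

theorem Rep.closure_eq (h : Rep x) : closure (Set.range x) = span h := by
  refine le_antisymm ((closure_le _).mpr ?_) ?_
  · rintro _ ⟨i, rfl⟩
    exact ⟨⟨mv i, mv_lt i⟩, (h.member i).symm⟩
  · rintro _ ⟨n, rfl⟩
    refine list_prod_mem fun y hy => ?_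
    obtain ⟨k, -, rfl⟩ := List.mem_map.mp hy
    split
    · exact subset_closure ⟨_, rfl⟩
    · exact one_mem _

theorem Rep.mem_iff (h : Rep x) {y : C} : y ∈ closure (Set.range x) ↔ ∃ n < 1024, y = ev x n := by
  rw [h.closure_eq]
  constructor
  · rintro ⟨n, rfl⟩; exact ⟨n, n.isLt, rfl⟩
  · rintro ⟨n, hn, rfl⟩; exact ⟨⟨n, hn⟩, rfl⟩

theorem Rep.card_le (h : Rep x) : Nat.card ↥(closure (Set.range x)) ≤ 1024 := by
  rw [h.closure_eq, ← SetLike.coe_sort_coe, Nat.card_coe_set_eq]
  calc (Set.range fun n : Fin 1024 => ev x (n : ℕ)).ncard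
      ≤ (Set.univ : Set (Fin 1024)).ncard := by rw [← Set.image_univ]; exact Set.ncard_image_le
    _ = 1024 := by rw [Set.ncard_univ, Nat.card_fin]

theorem Rep.ev_injective [Finite C] (h : Rep x) (hc : 1024 ≤ Nat.card ↥(closure (Set.range x)))
    {m n : ℕ} (hm : m < 1024) (hn : n < 1024) (e : ev x m = ev x n) : m = n := by
  by_contra hne
  rw [h.closure_eq, ← SetLike.coe_sort_coe, Nat.card_coe_set_eq] at hc
  have h1 : (Set.range fun n : Fin 1024 => ev x (n : ℕ)) ⊆
      (fun n : Fin 1024 => ev x (n : ℕ)) '' {i | i ≠ ⟨m, hm⟩} := by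
    rintro _ ⟨i, rfl⟩
    by_cases hi : i = ⟨m, hm⟩
    · exact ⟨⟨n, hn⟩, fun h => hne (congrArg Fin.val h).symm, by rw [hi]; exact e.symm⟩
    · exact ⟨i, hi, rfl⟩
  have h2 := (Set.ncard_le_ncard h1 (Set.toFinite _)).trans Set.ncard_image_le
  have h3 : {i : Fin 1024 | i ≠ ⟨m, hm⟩}.ncard = 1023 := by
    rw [show {i : Fin 1024 | i ≠ ⟨m, hm⟩} = Set.univ \ {⟨m, hm⟩} by ext; simp,
      Set.ncard_sdiff_singleton_of_mem (Set.mem_univ _), Set.ncard_univ, Nat.card_fin]
  have h4 : (span h : Set C).ncard ≤ 1023 := h2.trans h3.le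
  change 1024 ≤ (span h : Set C).ncard at hc
  omega

end coordinates

variable {G : Type*} [Group G] [Finite G] {D : Set G}
variable {F : Type} [Field F] [Fintype F] [hF : FourField F]
variable {d : G} {φ : ↥(loc D d) →* Cfsg.PSU 6 F 2}

local notation "π" => QuotientGroup.mk' (Subgroup.center (Cfsg.SU 6 F 2))

section chart

variable (X : Ctx D d φ)

local notation "L" => Chart.L X.chart

include X

theorem level1 (hD : Cfsg.IsThreeTranspositionGroup D) (h22 : Cfsg.IsOfTypeM22 G D) : Level1 D :=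
  ThreeTransTypes.level1_of_m22 ThreeTransPairs.psu6Simple (tsys_of_group hD) h22

/-- The twenty-two members of a plane with `d`. -/
noncomputable def mem22 (e : Fin 3 → Fin 6 → F) : Fin 22 → G :=
  Fin.snoc (fun i : Fin 21 => L (comb e (vec (pv i)))) d

theorem mem22_last (e : Fin 3 → Fin 6 → F) : mem22 X e 21 = d := by
  rw [show (21 : Fin 22) = Fin.last 21 from rfl, mem22, Fin.snoc_last]

theorem mem22_cast (e : Fin 3 → Fin 6 → F) (i : Fin 21) :
    mem22 X e i.castSucc = L (comb e (vec (pv i))) := by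
  rw [mem22, Fin.snoc_castSucc]

theorem vec_val (i : Fin 21) (k : Fin 3) : vec (F := F) (pv i) k = Unit62Plane55.φ ((pv i k : ℕ)) := rfl

/-- A maximal set through `d` in coordinates. -/
theorem exists_rep (hD : Cfsg.IsThreeTranspositionGroup D) (h22 : Cfsg.IsOfTypeM22 G D) {B : Set G}
    (hB : Blk D B) (hdB : d ∈ B) : ∃ e f : Fin 3 → Fin 6 → F, Frame e f ∧
      Function.Injective (mem22 X e) ∧ Set.range (mem22 X e) = B ∧ Rep (mem22 X e) ∧
      1024 ≤ Nat.card ↥(closure B) := by
  classical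
  have hL1 := level1 X hD h22
  obtain ⟨e, f, hfr, hgood, hmem, hsur⟩ := exists_plane X hB hdB (om_sq (F := F))
  set x := mem22 X e with hxdef
  have hne : ∀ i : Fin 21, comb e (vec (pv i)) ≠ 0 := fun i => comb_ne X hfr (vec_pv_ne i)
  have hiso : ∀ i : Fin 21, h (comb e (vec (F := F) (pv i))) (comb e (vec (pv i))) = 0 := fun i =>
    hfr.h_ee _ _
  have himg : ∀ i : Fin 21, φ ⟨L (comb e (vec (pv i))), near_le_loc (L_mem X (hiso i) (hne i))⟩ =
      π (tp hfr i).1 := fun i => L_img X (hiso i) (hne i)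
  have hd : x 21 = d := mem22_last X e
  have hcast : ∀ i : Fin 21, x i.castSucc = L (comb e (vec (pv i))) := mem22_cast X e
  have hpi : ∀ {a b : ↥(P e)}, π a.1 = π b.1 → a = b := fun {a b} h => Subtype.ext
    (eq_of_mk_eq (n := 6) (by norm_num) (congrArg Subtype.val (sq_one hfr a))
      (congrArg Subtype.val (sq_one hfr b)) h)
  have hne_d : ∀ i : Fin 21, L (comb e (vec (pv i))) ≠ d := fun i => (L_mem X (hiso i) (hne i)).2.1
  have hinj : Function.Injective x := by
    intro i j hij
    induction i using Fin.lastCases with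
    | last =>
      induction j using Fin.lastCases with
      | last => rfl
      | cast j => exact absurd (hij.symm.trans hd) (by rw [hcast]; exact hne_d j)
    | cast i =>
      induction j using Fin.lastCases with
      | last => exact absurd (hij.trans hd) (by rw [hcast]; exact hne_d i)
      | cast j =>
        rw [hcast, hcast] at hij
        have h1 : tp hfr i = tp hfr j := hpi (by
          rw [← himg i, ← himg j]; exact congrArg φ (Subtype.ext hij))
        have h2 := congrArg (code hfr) h1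
        rw [code_tp, code_tp] at h2
        rw [pc_inj i j h2]
  have hrange : Set.range x = B := by
    refine Set.Subset.antisymm ?_ fun y hy => ?_
    · rintro _ ⟨i, rfl⟩
      induction i using Fin.lastCases with
      | last => exact hd ▸ hdB
      | cast i => rw [hcast]; exact hmem _ (vec_pv_ne i)
    · by_cases hyd : y = d
      · exact ⟨21, hd.trans hyd.symm⟩
      · obtain ⟨c, hc, rfl⟩ := hsur y hy hyd
        obtain ⟨i, s, hs, rfl⟩ := vec_cover hc
        exact ⟨i.castSucc, by rw [hcast, comb_smul, L_smul X (hiso i) (hne i) hs]⟩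
  have hmemB : ∀ i, x i ∈ B := fun i => hrange ▸ ⟨i, rfl⟩
  have hInv : Inv x :=
    ⟨fun i j => hB.comm _ (hmemB i) _ (hmemB j), fun i => X.ts.sq _ (hB.sub (hmemB i))⟩
  have hne1 : ∀ i, x i ≠ 1 := fun i => ThreeTrans.ne_one hD.1 (hB.sub (hmemB i))
  -- the lines
  have hline : ∀ k : Fin 21, val x (rels.getD k 0) = 1 := by
    intro k
    set l : List G := (List.finRange 5).map fun t => x (line k t).castSucc with hl
    have hR : l.prod ≠ 1 := by
      intro h1
      refine hL1.no_five (l := l) ⟨⟨?_, ?_, ?_⟩, h1⟩ ?_ (by simp [hl])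
      · intro y hy; obtain ⟨t, -, rfl⟩ := List.mem_map.mp hy; exact hB.sub (hmemB _)
      · exact (List.nodup_finRange 5).map fun s t hst =>
          line_inj k s t (Fin.castSucc_injective _ (hinj hst))
      · intro y hy z hz
        obtain ⟨t, -, rfl⟩ := List.mem_map.mp hy
        obtain ⟨s, -, rfl⟩ := List.mem_map.mp hz
        exact hInv.comm _ _
      · intro y hy; obtain ⟨t, -, rfl⟩ := List.mem_map.mp hy; exact hne1 _
    have hl5 : l.prod = x (line k 0).castSucc * x (line k 1).castSucc * x (line k 2).castSucc *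
        x (line k 3).castSucc * x (line k 4).castSucc := by
      simp [hl, List.finRange_succ, mul_assoc]
    have hval : val x (rels.getD k 0) = d * l.prod := by
      have hv : ∀ i : Fin 21, val x (2 ^ (i : ℕ)) = x i.castSucc := fun i => val_pow x i.castSucc
      rw [line_rel, hInv.val_xor, hInv.val_xor, hInv.val_xor, hInv.val_xor, hInv.val_xor, hl5, hv, hv,
        hv, hv, hv, show (2 : ℕ) ^ 21 = 2 ^ ((21 : Fin 22) : ℕ) from rfl, val_pow, hd]
      simp only [mul_assoc]
    have hk : π ((tp hfr (line k 0)).1 * (tp hfr (line k 1)).1 * (tp hfr (line k 2)).1 *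
        (tp hfr (line k 3)).1 * (tp hfr (line k 4)).1) = 1 := by
      rw [← map_one π, ← Subgroup.coe_one (P e)]
      refine congrArg π (congrArg Subtype.val (code_injective hfr (a₁ := tp hfr (line k 0) *
        tp hfr (line k 1) * tp hfr (line k 2) * tp hfr (line k 3) * tp hfr (line k 4)) (a₂ := 1) ?_))
      simp only [code_mul, code_tp, code_one, line_code]
    simp only [map_mul, ← himg] at hk
    simp only [← map_mul] at hk
    rcases X.ker hk with h | h <;> simp only [Subgroup.coe_mul, ← hcast, ← hl5] at h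
    · exact absurd h hR
    · rw [hval, h, X.ts.sq d X.mem]
  -- the two ovals
  have hq : ∀ (a t : F) (i : Fin 21), (∀ m, q a t m = vec (F := F) (pv i) m) →
      L (comb e (q a t)) = x i.castSucc := fun a t i hi => by
    rw [hcast, show q a t = vec (pv i) from funext hi]
  have ho := om_sq (F := F)
  have two := two_eq_zero (F := F)
  have hp2 : Unit62Plane55.φ (F := F) 2 = om := by simp [Unit62Plane55.φ]
  have hp3 : Unit62Plane55.φ (F := F) 3 = om + 1 := by simp [Unit62Plane55.φ]
  have g1 : conic X e 1 (om : F) =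
      [x (12 : Fin 21).castSucc, x (17 : Fin 21).castSucc, x (19 : Fin 21).castSucc] := by
    simp only [conic]
    rw [hq 1 1 12 ?_, hq 1 om 17 ?_, hq 1 (om + 1) 19 ?_] <;>
    · intro m
      fin_cases m <;> simp [q, vec, pv, Unit62Plane55.φ] <;>
        first | rfl | linear_combination ho | linear_combination ho + (om + 1) * two
  have g2 : conic X e (om : F) om =
      [x (13 : Fin 21).castSucc, x (15 : Fin 21).castSucc, x (20 : Fin 21).castSucc] := by
    simp only [conic]
    rw [hq om 1 13 ?_, hq om om 15 ?_, hq om (om + 1) 20 ?_] <;>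
    · intro m
      fin_cases m <;> simp [q, vec, pv, Unit62Plane55.φ] <;>
        first
        | rfl
        | linear_combination (om + 1) * ho + om * two
        | linear_combination (om + 1) * ho + (om + 1) * two
        | linear_combination (om + 3) * ho + 2 * om * two
        | linear_combination (om + 3) * ho + (2 * om + 1) * two
  have gb : base X e = [x (0 : Fin 21).castSucc, x (1 : Fin 21).castSucc, x (2 : Fin 21).castSucc] := by
    have hbi : ∀ i : Fin 3, ∀ j : Fin 21, (∀ m, (Pi.single i (1 : F) : Fin 3 → F) m = vec (pv j) m) →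
        L (e i) = x j.castSucc := fun i j hj => by
      rw [hcast, ← show (Pi.single i (1 : F) : Fin 3 → F) = vec (pv j) from funext hj, comb_single]
    simp only [base]
    rw [hbi 0 0 ?_, hbi 1 1 ?_, hbi 2 2 ?_] <;>
    · intro m
      fin_cases m <;> simp [vec, pv, Unit62Plane55.φ]
  have hbad : (conic X e (om : F) om).prod = (base X e).prod * d := by
    obtain ⟨hw0, hw1⟩ := omega_ne ho
    refine (conic_cases X hfr hw0 ho).resolve_left fun hc => ?_
    obtain ⟨⟨a, ha, -, huniq⟩, -⟩ := conic_exists X hfr ho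
    have k1 := (huniq _ (clist_conic X hfr ho) rfl hgood).resolve_left fun h =>
      conic_ne_base X hfr (w := om) one_ne_zero ((h _).mp (by simp [conic]))
    have k2 := (huniq _ (clist_conic X hfr ho) rfl hc).resolve_left fun h =>
      conic_ne_base X hfr (w := om) hw0 ((h _).mp (by simp [conic]))
    exact conic_disjoint X hfr ho (Ne.symm hw1) ((k2 _).mpr ((k1 _).mp (by simp [conic])))
  have hrel : ∀ k : ℕ, k < 23 → val x (rels.getD k 0) = 1 := by
    intro k hk
    by_cases hk21 : k < 21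
    · exact hline ⟨k, hk21⟩
    have hv : ∀ (i : Fin 21) (n : ℕ), n = (i : ℕ) → val x (2 ^ n) = x i.castSucc := fun i n e => by
      subst e; exact val_pow x i.castSucc
    have hb2 : (base X e).prod * (base X e).prod = 1 := (clist_base X hfr).prod_sq X.ts
    rcases (show k = 21 ∨ k = 22 by omega) with rfl | rfl
    · rw [oval_rel.1]
      simp only [hInv.val_xor]
      rw [hv 12 12 rfl, hv 17 17 rfl, hv 19 19 rfl, hv 0 0 rfl, hv 1 1 rfl, hv 2 2 rfl]
      have h1 : (conic X e 1 om).prod * (base X e).prod = 1 := by rw [hgood, hb2]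
      rw [g1, gb] at h1
      simpa [mul_assoc] using h1
    · rw [oval_rel.2]
      simp only [hInv.val_xor]
      rw [hv 13 13 rfl, hv 15 15 rfl, hv 20 20 rfl, hv 0 0 rfl, hv 1 1 rfl, hv 2 2 rfl,
        show (2 : ℕ) ^ 21 = 2 ^ ((21 : Fin 22) : ℕ) from rfl, val_pow, hd]
      have h1 : (conic X e om om).prod * ((base X e).prod * d) = 1 := by
        rw [hbad]
        have hc : Commute d (base X e).prod := Commute.list_prod_right _ _ fun y hy => by
          rw [gb] at hy
          simp only [List.mem_cons, List.not_mem_nil, or_false] at hy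
          rcases hy with rfl | rfl | rfl <;> exact hd ▸ hInv.comm _ _
        rw [hc.mul_mul_mul_comm, hb2, X.ts.sq d X.mem, one_mul]
      rw [g2, gb] at h1
      simpa [mul_assoc] using h1
  refine ⟨e, f, hfr, hinj, hrange, ⟨hInv, hrel⟩, ?_⟩
  -- the order
  have hle : closure B ≤ loc D d := (closure_le _).mpr fun y hy => by
    by_cases hyd : y = d
    · exact hyd ▸ X.self d X.mem
    · exact near_le_loc ⟨hB.sub hy, hyd, hB.comm d hdB y hy⟩
  set ψ : ↥(closure B) →* Cfsg.PSU 6 F 2 := φ.comp (Subgroup.inclusion hle) with hψ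
  have hran : (P e).map π ≤ ψ.range := by
    rintro _ ⟨g, hg, rfl⟩
    have hall : ∀ n < 512, ∃ y : ↥(closure B), ∀ g : ↥(P e), code hfr g = n → ψ y = π g.1 := by
      have hone : ∀ i : Fin 21, ∃ y : ↥(closure B), ψ y = π (tp hfr i).1 := fun i =>
        ⟨⟨_, subset_closure (hmem _ (vec_pv_ne i))⟩, himg i⟩
      intro n hn
      by_cases hn0 : n = 0
      · exact ⟨1, fun g hg => by
          rw [map_one, code_injective hfr (hg.trans (hn0.trans (code_one hfr).symm)), Subgroup.coe_one,
            map_one]⟩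
      choose y hy using hone
      rcases elem_cases hn hn0 with ⟨i, hi⟩ | ⟨i, j, -, hi⟩ | ⟨i, j, k, -, hi⟩
      · exact ⟨y i, fun g hg => by
          rw [code_injective hfr (hg.trans (hi.trans (code_tp hfr i).symm)), hy]⟩
      · exact ⟨y i * y j, fun g hg => by
          rw [code_injective hfr (a₁ := g) (a₂ := tp hfr i * tp hfr j) (by rw [hg, hi, code_mul, code_tp, code_tp]),
            Subgroup.coe_mul, map_mul, map_mul, hy, hy]⟩
      · exact ⟨y i * y j * y k, fun g hg => by
          rw [code_injective hfr (a₁ := g) (a₂ := tp hfr i * tp hfr j * tp hfr k)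
            (by rw [hg, hi, code_mul, code_mul, code_tp, code_tp, code_tp]),
            Subgroup.coe_mul, Subgroup.coe_mul, map_mul, map_mul, map_mul, map_mul, hy, hy, hy]⟩
    obtain ⟨y, hy⟩ := hall _ (code_lt hfr ⟨g, hg⟩)
    exact ⟨y, hy ⟨g, hg⟩ rfl⟩
  have hcardP : Nat.card ↥((P e).map π) = 512 := by
    have hb : Function.Bijective fun g : ↥(P e) => (⟨π g.1, g.1, g.2, rfl⟩ : ↥((P e).map π)) :=
      ⟨fun a b h => hpi (congrArg Subtype.val h), fun ⟨_, g, hg, hh⟩ => ⟨⟨g, hg⟩, Subtype.ext hh⟩⟩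
    rw [← Nat.card_eq_of_bijective _ hb, card_P hfr]
  have hk2 : 2 ≤ Nat.card ↥ψ.ker := by
    have hdk : (⟨d, subset_closure hdB⟩ : ↥(closure B)) ∈ ψ.ker := by
      show φ ⟨d, hle (subset_closure hdB)⟩ = 1
      exact (X.chart.one _).mpr fun y hy => hy.2.2.symm
    have h1 : (⟨⟨d, subset_closure hdB⟩, hdk⟩ : ↥ψ.ker) ≠ 1 := fun h =>
      ThreeTrans.ne_one hD.1 X.mem (congrArg (fun z : ↥ψ.ker => ((z : ↥(closure B)) : G)) h)
    haveI : Nontrivial ↥ψ.ker := ⟨_, _, h1⟩
    exact Finite.one_lt_card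
  have h1 : Nat.card ↥((P e).map π) ≤ Nat.card ↥ψ.range := Subgroup.card_le_of_le hran
  have h2 := ψ.ker.card_mul_index
  rw [Subgroup.index_ker] at h2
  rw [hcardP] at h1
  nlinarith

/-- A member commuting with `d` and a triangle of a maximal set belongs to it. -/
theorem triangle_block {B : Set G} {e f : Fin 3 → Fin 6 → F} (hfr : Frame e f)
    (hrange : Set.range (mem22 X e) = B) {i j k : Fin 21} (hdet : det3 (pv i) (pv j) (pv k) ≠ 0)
    {y : G} (hy : y ∈ D) (hyd : Commute y d) (hi : Commute y (mem22 X e i.castSucc))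
    (hj : Commute y (mem22 X e j.castSucc)) (hk : Commute y (mem22 X e k.castSucc)) : y ∈ B := by
  by_cases hd : y = d
  · exact hrange ▸ ⟨21, (mem22_last X e).trans hd.symm⟩
  obtain ⟨u, hu, hu0, rfl⟩ := L_surj X (x := y) ⟨hy, hd, hyd.symm⟩
  simp only [mem22_cast] at hi hj hk
  have hc : ∀ i : Fin 21, Commute (L u) (L (comb e (vec (pv i)))) → h u (comb e (vec (F := F) (pv i))) = 0 :=
    fun i hc => (L_comm X hu hu0 (hfr.h_ee _ _) (comb_ne X hfr (vec_pv_ne i))).mp hc
  obtain ⟨f', hfr', -⟩ := triangle_frame hfr hdet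
  have hp := hfr'.mem_plane (v := u) fun m => by
    fin_cases m
    · exact hc i hi
    · exact hc j hj
    · exact hc k hk
  set a : Fin 3 → F := fun m => h u (f' m) with ha
  have he : u = comb e (a 0 • vec (pv i) + a 1 • vec (pv j) + a 2 • vec (pv k)) := by
    conv_lhs => rw [hp]
    rw [comb_three, comb_add, comb_add, comb_smul, comb_smul, comb_smul]
    rfl
  set c := a 0 • vec (F := F) (pv i) + a 1 • vec (pv j) + a 2 • vec (pv k)
  have hc0 : c ≠ 0 := fun h0 => hu0 (by rw [he, h0, comb_zero])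
  obtain ⟨m, s, hs, hcs⟩ := vec_cover hc0
  refine hrange ▸ ⟨m.castSucc, ?_⟩
  rw [mem22_cast, he, hcs, comb_smul, L_smul X (hfr.h_ee _ _) (comb_ne X hfr (vec_pv_ne m)) hs]

/-- The local group moves two points of a maximal set through `d` to any two, carrying the set. -/
theorem loc_move (hD : Cfsg.IsThreeTranspositionGroup D) (h22 : Cfsg.IsOfTypeM22 G D) {B B' : Set G}
    (hB : Blk D B) (hdB : d ∈ B) (hB' : Blk D B') (hdB' : d ∈ B') {b c b' c' : G} (hb : b ∈ B)
    (hc : c ∈ B) (hbd : b ≠ d) (hcd : c ≠ d) (hbc : b ≠ c) (hb' : b' ∈ B') (hc' : c' ∈ B')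
    (hbd' : b' ≠ d) (hcd' : c' ≠ d) (hbc' : b' ≠ c') :
    ∃ g ∈ loc D d, MulAut.conj g '' B = B' ∧ g * b * g⁻¹ = b' ∧ g * c * g⁻¹ = c' := by
  obtain ⟨e, f, hfr, hinj, hrange, -, -⟩ := exists_rep X hD h22 hB hdB
  obtain ⟨e', f', hfr', hinj', hrange', -, -⟩ := exists_rep X hD h22 hB' hdB'
  have hidx : ∀ {B : Set G} {e : Fin 3 → Fin 6 → F}, Set.range (mem22 X e) = B → ∀ y ∈ B, y ≠ d →
      ∃ i : Fin 21, mem22 X e i.castSucc = y := by
    intro B e hr y hy hyd
    obtain ⟨i, rfl⟩ := (hr ▸ hy : y ∈ Set.range (mem22 X e))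
    induction i using Fin.lastCases with
    | last => exact absurd (mem22_last X e) hyd
    | cast i => exact ⟨i, rfl⟩
  obtain ⟨i, rfl⟩ := hidx hrange b hb hbd
  obtain ⟨j, rfl⟩ := hidx hrange c hc hcd
  obtain ⟨i', rfl⟩ := hidx hrange' b' hb' hbd'
  obtain ⟨j', rfl⟩ := hidx hrange' c' hc' hcd'
  obtain ⟨k, hk⟩ := exists_third i j fun h => hbc (by rw [h])
  obtain ⟨k', hk'⟩ := exists_third i' j' fun h => hbc' (by rw [h])
  obtain ⟨A, -, e1, e2, e3⟩ := triangle_move hfr hfr' hk hk'
  obtain ⟨g, hg⟩ := X.chart.surj (π A)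
  have himg : ∀ (p p' : Fin 21), A * (tp hfr p).1 * A⁻¹ = (tp hfr' p').1 →
      (g : G) * mem22 X e p.castSucc * (g : G)⁻¹ = mem22 X e' p'.castSucc := by
    intro p p' hpp
    rw [mem22_cast, mem22_cast]
    set u := comb e (vec (F := F) (pv p))
    set v := comb e' (vec (F := F) (pv p'))
    have hu : h u u = 0 := hfr.h_ee _ _
    have hv : h v v = 0 := hfr'.h_ee _ _
    have hu0 : u ≠ 0 := comb_ne X hfr (vec_pv_ne p)
    have hv0 : v ≠ 0 := comb_ne X hfr' (vec_pv_ne p')
    have hm : (g : G) * L u * (g : G)⁻¹ ∈ near D d :=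
      near_conj X.ts (commute_d_of_mem_loc g.2).symm (L_mem X hu hu0)
    refine (L_eq X hv hv0 hm ?_).symm
    rw [show (⟨_, near_le_loc hm⟩ : ↥(loc D d)) = g * ⟨L u, near_le_loc (L_mem X hu hu0)⟩ * g⁻¹ from rfl,
      map_mul, map_mul, map_inv, hg, L_img X hu hu0, ← map_inv, ← map_mul, ← map_mul]
    exact congrArg π hpp
  have k1 := himg i i' e1
  have k2 := himg j j' e2
  have k3 := himg k k' e3
  refine ⟨g, g.2, ?_, k1, k2⟩
  have hBg := hB.conj X.ts (g : G)
  have hsub : MulAut.conj (g : G) '' B ⊆ B' := by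
    intro y hy
    have hcm : ∀ p : Fin 22, Commute y ((g : G) * mem22 X e p * (g : G)⁻¹) := fun p =>
      hBg.comm y hy _ ⟨_, hrange ▸ ⟨p, rfl⟩, rfl⟩
    have hd : (g : G) * mem22 X e 21 * (g : G)⁻¹ = d := by
      rw [mem22_last]; exact mul_inv_eq_iff_eq_mul.mpr (commute_d_of_mem_loc g.2).symm.eq
    exact triangle_block X hfr' hrange' hk' (hBg.sub hy) (hd ▸ hcm 21) (k1 ▸ hcm i.castSucc)
      (k2 ▸ hcm j.castSucc) (k3 ▸ hcm k.castSucc)
  exact hsub.antisymm fun y hy => hBg.max y (hB'.sub hy) fun z hz => hB'.comm y hy z (hsub hz)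

end chart

section classes

theorem foldl_mask : ∀ (l : List ℕ) (a n : ℕ),
    (l.foldl (fun a k => a ||| 2 ^ k) a).testBit n = true ↔ a.testBit n = true ∨ n ∈ l
  | [], a, n => by simp
  | k :: l, a, n => by
    rw [List.foldl_cons, foldl_mask l, Nat.testBit_or, Bool.or_eq_true, Nat.testBit_two_pow,
      decide_eq_true_eq, List.mem_cons, eq_comm (a := k), or_assoc]

theorem mem_single {n : ℕ} : single.testBit n = true ↔ ∃ i, mv i = n := by
  rw [single, foldl_mask]
  simp

theorem mem_two {n : ℕ} : two.testBit n = true ↔ ∃ i j, i < j ∧ mv i ^^^ mv j = n := by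
  rw [M22BlockCode72.two, foldl_mask]
  simp

theorem mem_three {n : ℕ} :
    three.testBit n = true ↔ ∃ i j k, i < j ∧ j < k ∧ mv i ^^^ mv j ^^^ mv k = n := by
  rw [M22BlockCode72.three, foldl_mask]
  simp [and_assoc]

end classes

section models

/-- A maximal set with coordinates. -/
structure Model (D B : Set G) (x : Fin 22 → G) : Prop where
  inj : Function.Injective x
  range_eq : Set.range x = B
  rep : Rep x
  card : Nat.card ↥(closure B) = 1024

theorem Model.mem {B : Set G} {x : Fin 22 → G} (m : Model D B x) (i : Fin 22) : x i ∈ B :=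
  m.range_eq ▸ ⟨i, rfl⟩

theorem Model.ev_inj {B : Set G} {x : Fin 22 → G} (m : Model D B x) {i j : ℕ} (hi : i < 1024)
    (hj : j < 1024) (e : ev x i = ev x j) : i = j :=
  m.rep.ev_injective (by rw [m.range_eq, m.card]) hi hj e

theorem Model.mem_closure {B : Set G} {x : Fin 22 → G} (m : Model D B x) {y : G} :
    y ∈ closure B ↔ ∃ n < 1024, y = ev x n := by
  rw [← m.range_eq]; exact m.rep.mem_iff

variable (hD : Cfsg.IsThreeTranspositionGroup D) (hprim : Cfsg.IsPrimitiveUnderConj D)
  (h22 : Cfsg.IsOfTypeM22 G D)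
include hD hprim h22

/-- Every maximal set has coordinates with any member last. -/
theorem exists_model {B : Set G} (hB : Blk D B) {a : G} (ha : a ∈ B) :
    ∃ x, Model D B x ∧ x 21 = a := by
  obtain ⟨F, _, _, _, hctx⟩ := exists_ctx hD hprim h22
  obtain ⟨φ, X⟩ := hctx a (hB.sub ha)
  obtain ⟨e, f, -, hinj, hrange, hrep, hc⟩ := exists_rep X hD h22 hB ha
  exact ⟨_, ⟨hinj, hrange, hrep, le_antisymm (hrange ▸ hrep.card_le) hc⟩, mem22_last X e⟩

theorem block_nonempty {B : Set G} (hB : Blk D B) : B.Nonempty := by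
  by_contra hne
  obtain ⟨a, ha, -⟩ := hprim.2.1
  exact hne ⟨a, hB.max a ha fun x hx => absurd ⟨x, hx⟩ hne⟩

theorem exists_block_through {T : Set G} (hT : T ⊆ D) (hc : ∀ x ∈ T, ∀ y ∈ T, Commute x y) :
    ∃ B, Blk D B ∧ T ⊆ B := by
  have h1 := odd_blocks (tsys_of_group hD) hT hc
  obtain ⟨B, hB⟩ := Set.nonempty_of_ncard_ne_zero (s := {B : Set G | Blk D B ∧ T ⊆ B}) (by omega)
  exact ⟨B, hB⟩

theorem card_block {B : Set G} (hB : Blk D B) : Nat.card ↥(closure B) = 1024 := by
  obtain ⟨a, ha⟩ := block_nonempty hD hprim h22 hB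
  obtain ⟨x, m, -⟩ := exists_model hD hprim h22 hB ha
  exact m.card

/-- Ordered triples in maximal sets are conjugate with the sets. -/
theorem move_three {B B' : Set G} (hB : Blk D B) (hB' : Blk D B') {a b c a' b' c' : G} (ha : a ∈ B)
    (hb : b ∈ B) (hc : c ∈ B) (hab : a ≠ b) (hac : a ≠ c) (hbc : b ≠ c) (ha' : a' ∈ B') (hb' : b' ∈ B')
    (hc' : c' ∈ B') (hab' : a' ≠ b') (hac' : a' ≠ c') (hbc' : b' ≠ c') :
    ∃ g : G, MulAut.conj g '' B = B' ∧ g * a * g⁻¹ = a' ∧ g * b * g⁻¹ = b' ∧ g * c * g⁻¹ = c' := by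
  have ht := tsys_of_group hD
  obtain ⟨F, _, _, _, hctx⟩ := exists_ctx hD hprim h22
  obtain ⟨φ, X⟩ := hctx a' (hB'.sub ha')
  obtain ⟨g, hg⟩ := hprim.1 a (hB.sub ha) a' (hB'.sub ha')
  have hne : ∀ {p q : G}, p ≠ q → g * p * g⁻¹ ≠ g * q * g⁻¹ := fun h e =>
    h (mul_left_cancel (mul_right_cancel e))
  obtain ⟨k, hk, e1, e2, e3⟩ := loc_move X hD h22 (hB.conj ht g) ⟨a, ha, hg⟩ hB' ha'
    (b := g * b * g⁻¹) (c := g * c * g⁻¹) ⟨b, hb, rfl⟩ ⟨c, hc, rfl⟩ (hg ▸ hne hab.symm)
    (hg ▸ hne hac.symm) (hne hbc) hb' hc' hab'.symm hac'.symm hbc'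
  refine ⟨k * g, ?_, ?_, ?_, ?_⟩
  · rw [← e1, Set.image_image]
    exact congrArg (· '' B) (funext fun y => by simp [mul_assoc])
  · rw [show k * g * a * (k * g)⁻¹ = k * (g * a * g⁻¹) * k⁻¹ by group, hg]
    exact mul_inv_eq_iff_eq_mul.mpr (commute_d_of_mem_loc hk).symm.eq
  · rw [show k * g * b * (k * g)⁻¹ = k * (g * b * g⁻¹) * k⁻¹ by group, e2]
  · rw [show k * g * c * (k * g)⁻¹ = k * (g * c * g⁻¹) * k⁻¹ by group, e3]

theorem exists_other {B : Set G} (hB : Blk D B) (a b : G) : ∃ c ∈ B, c ≠ a ∧ c ≠ b := by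
  obtain ⟨p, hp⟩ := block_nonempty hD hprim h22 hB
  obtain ⟨x, m, -⟩ := exists_model hD hprim h22 hB hp
  by_contra hno
  push Not at hno
  have h1 : B ⊆ {a, b} := fun y hy => by
    by_cases h : y = a
    · exact Or.inl h
    · exact Or.inr (hno y hy h)
  have h2 : B.ncard = 22 := by
    rw [← m.range_eq, Set.ncard_range_of_injective m.inj, Nat.card_fin]
  have := (Set.ncard_le_ncard h1 (Set.toFinite _)).trans (Set.ncard_insert_le a {b})
  rw [Set.ncard_singleton] at this
  omega

/-- Maximal sets are conjugate. -/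
theorem block_conj {B B' : Set G} (hB : Blk D B) (hB' : Blk D B') :
    ∃ g : G, MulAut.conj g '' B = B' := by
  obtain ⟨a, ha⟩ := block_nonempty hD hprim h22 hB
  obtain ⟨a', ha'⟩ := block_nonempty hD hprim h22 hB'
  obtain ⟨b, hb, hba, -⟩ := exists_other hD hprim h22 hB a a
  obtain ⟨b', hb', hba', -⟩ := exists_other hD hprim h22 hB' a' a'
  obtain ⟨c, hc, hca, hcb⟩ := exists_other hD hprim h22 hB a b
  obtain ⟨c', hc', hca', hcb'⟩ := exists_other hD hprim h22 hB' a' b'
  obtain ⟨g, hg, -⟩ := move_three hD hprim h22 hB hB' ha hb hc hba.symm hca.symm hcb.symm ha' hb' hc'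
    hba'.symm hca'.symm hcb'.symm
  exact ⟨g, hg⟩

end models

end Cfsg.Agent.ThreeTransM22Block72
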