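import Mathlib
import Cfsg.Prelude.Def_LieClassical
import Cfsg.Agent.Lib.UnitaryF4Geo
import Cfsg.Agent.Lib.OrthUnitaryPSU
import Cfsg.Agent.Lib.TransvectionUnitaryGen

/-!
# 3-transposition sets of `PSU n F 2` and isotropic lines

An invariant set of 3-transpositions of `PSU n F 2`, `|F| = 4`, consists of the unitary transvections,
and two commuting members lie in a set of five (the points of a totally isotropic line) of product one.
-/

set_option autoImplicit false
set_option linter.unusedSectionVars false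
set_option linter.style.haveILetI false

namespace Cfsg.Agent.UnitaryF4Line

open Cfsg.Agent.UnitaryF4Geo

variable {F : Type*} [Field F] [Fintype F] [hF : FourField F] {n : ℕ}

theorem hF4 : Fintype.card F = 2 ^ 2 := by rw [hF.card_eq]; norm_num

theorem one_skew : (1 : F) + 1 ^ 2 = 0 := by rw [one_pow]; exact add_self 1

local notation "act" => OrthUnitaryTransvection.act

/-- The transvection with centre `u`. -/
noncomputable def T (u : Fin n → F) (hu : h u u = 0) : Cfsg.SU n F 2 :=
  OrthUnitaryTransvection.tv hF4 u 1 hu one_skew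

theorem T_act (u : Fin n → F) (hu : h u u = 0) (x : Fin n → F) :
    act (T u hu) x = x + h x u • u :=
  (OrthUnitaryTransvection.tv_act hF4 u 1 hu one_skew x).trans (by rw [one_mul]; rfl)

theorem T_sq (u : Fin n → F) (hu : h u u = 0) : T u hu * T u hu = 1 :=
  OrthUnitaryTransvection.su_ext fun x => by
    rw [OrthUnitaryTransvection.act_mul, T_act, T_act, OrthUnitaryTransvection.act_one,
      h_add_left, h_smul_left, hu, mul_zero, add_zero, add_assoc, vec_add_self, add_zero]

theorem T_ne_one {u : Fin n → F} (hu : h u u = 0) (hu0 : u ≠ 0) : T u hu ≠ 1 := by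
  intro e
  obtain ⟨v, hv, -⟩ := exists_h_eq_one hu0
  have := congrArg (fun g => act g v) e
  simp only [T_act, OrthUnitaryTransvection.act_one, hv, one_smul] at this
  exact hu0 (add_eq_left.mp this)

theorem T_smul {u : Fin n → F} {c : F} (hc : c ≠ 0) (hu : h u u = 0)
    (hcu : h (c • u) (c • u) = 0) : T (c • u) hcu = T u hu :=
  OrthUnitaryTransvection.su_ext fun x => by
    rw [T_act, T_act]
    exact LinearMap.congr_fun (tv_smul (u := u) hc) x

theorem T_congr {u v : Fin n → F} (e : u = v) (hu : h u u = 0) (hv : h v v = 0) :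
    T u hu = T v hv := by subst e; rfl

theorem T_inj {u v : Fin n → F} (hu : h u u = 0) (hv : h v v = 0) (hu0 : u ≠ 0)
    (e : T u hu = T v hv) : ∃ c : F, c ≠ 0 ∧ u = c • v := by
  refine tv_inj hu0 (LinearMap.ext fun x => ?_)
  rw [tv_apply, tv_apply, ← T_act u hu, ← T_act v hv, e]

theorem T_commute {u v : Fin n → F} (hu : h u u = 0) (hv : h v v = 0) (e : h u v = 0) :
    Commute (T u hu) (T v hv) :=
  OrthUnitaryTransvection.su_ext fun x => by
    rw [OrthUnitaryTransvection.act_mul, OrthUnitaryTransvection.act_mul, T_act, T_act, T_act,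
      T_act, h_add_left, h_add_left, h_smul_left, h_smul_left, e, h_comm_zero e, mul_zero,
      mul_zero, add_zero, add_zero]
    abel

theorem T_conj (g : Cfsg.SU n F 2) {u : Fin n → F} (hu : h u u = 0) :
    g * T u hu * g⁻¹ = T (act g u) ((OrthUnitaryTransvection.herm_act g u u).trans hu) :=
  OrthUnitaryPSU.tv_conj hF4 g hu one_skew

theorem orth_of_commute {u v : Fin n → F} (hu : h u u = 0) (hv : h v v = 0) (hu0 : u ≠ 0)
    (e : Commute (T u hu) (T v hv)) : h u v = 0 := by
  by_cases hv0 : v = 0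
  · subst hv0; exact h_zero_right u
  have h1 : T v hv * T u hu * (T v hv)⁻¹ = T u hu := by rw [← e.eq, mul_inv_cancel_right]
  rw [T_conj] at h1
  obtain ⟨c, hc, h2⟩ := T_inj _ hu (by
    rw [T_act]; intro h0
    have := congrArg (fun w => h w v) h0
    simp only [h_add_left, h_smul_left, hv, mul_zero, add_zero, h_zero_left] at this
    rw [this, zero_smul, add_zero] at h0
    exact hu0 h0) h1
  rw [T_act] at h2
  have h3 := congrArg (fun w => h w u) h2
  simp only [h_add_left, h_smul_left, hu, mul_zero, zero_add] at h3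
  rw [h_symm u v, ← pow_succ'] at h3
  exact pow_eq_zero_iff (by norm_num : 2 + 1 ≠ 0) |>.mp h3

/-! ### Central elements -/

theorem exists_scalar (hn : 2 ≤ n) {z : Cfsg.SU n F 2} (hz : z ∈ Subgroup.center (Cfsg.SU n F 2)) :
    ∃ l : F, ∀ x, act z x = l • x := by
  refine ⟨((z : Matrix.SpecialLinearGroup (Fin n) F) : Matrix (Fin n) (Fin n) F)
    ⟨0, by omega⟩ ⟨0, by omega⟩, fun x => funext fun i => ?_⟩
  have hsc := OrthUnitaryHerm.center_SU_scalar hF4 hn hz i
  simp only [OrthUnitaryTransvection.act, Matrix.mulVec, dotProduct, hsc, ite_mul, zero_mul,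
    Finset.sum_ite_eq, Finset.mem_univ, if_true, Pi.smul_apply, smul_eq_mul]

theorem center_cube (hn : 2 ≤ n) {z : Cfsg.SU n F 2} (hz : z ∈ Subgroup.center (Cfsg.SU n F 2)) :
    z * z * z = 1 := by
  obtain ⟨l, hl⟩ := exists_scalar hn hz
  refine OrthUnitaryTransvection.su_ext fun x => ?_
  rw [OrthUnitaryTransvection.act_mul, OrthUnitaryTransvection.act_mul, hl, hl, hl,
    OrthUnitaryTransvection.act_one, smul_smul, smul_smul]
  by_cases hl0 : l = 0
  · have : act z⁻¹ (act z x) = 0 := by
      rw [hl, hl0, zero_smul, OrthUnitaryTransvection.act, Matrix.mulVec_zero]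
    rw [OrthUnitaryTransvection.act_inv_act] at this
    rw [this, smul_zero]
  · rw [show l * l * l = l ^ 3 by ring, cube hl0, one_smul]

theorem center_eq_one (hn : 2 ≤ n) {z : Cfsg.SU n F 2} (hz : z ∈ Subgroup.center (Cfsg.SU n F 2))
    (h2 : z * z = 1) : z = 1 := by
  have := center_cube hn hz
  rwa [h2, one_mul] at this

local notation "π" => QuotientGroup.mk' (Subgroup.center (Cfsg.SU n F 2))

theorem eq_of_mk_eq (hn : 2 ≤ n) {a b : Cfsg.SU n F 2} (ha : a * a = 1) (hb : b * b = 1)
    (e : π a = π b) : a = b := by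
  obtain ⟨z, hz, rfl⟩ := (QuotientGroup.mk'_eq_mk' _).mp e
  have hc : Commute z a := (Subgroup.mem_center_iff.mp hz a).symm
  rw [hc.mul_mul_mul_comm, ha, one_mul] at hb
  rw [center_eq_one hn hz hb, mul_one]

theorem commute_of_mk (hn : 2 ≤ n) {a b : Cfsg.SU n F 2} (ha : a * a = 1) (hb : b * b = 1)
    (e : Commute (π a) (π b)) : Commute a b := by
  have ha' : a⁻¹ = a := inv_eq_of_mul_eq_one_right ha
  have h1 : π (a * b * a⁻¹) = π b := by
    rw [map_mul, map_mul, e.eq, map_inv, mul_inv_cancel_right]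
  have h2 : (a * b * a⁻¹) * (a * b * a⁻¹) = 1 := by
    rw [show (a * b * a⁻¹) * (a * b * a⁻¹) = a * (b * b) * a⁻¹ by group, hb, mul_one, mul_inv_cancel]
  exact mul_inv_eq_iff_eq_mul.mp (eq_of_mk_eq hn h2 hb h1)

/-! ### Involutions -/

theorem self_polar {α : Type*} [AddCommGroup α] [Module F α] (φ : α → α → F)
    (hl : ∀ x y z, φ (x + y) z = φ x z + φ y z) (hr : ∀ x y z, φ x (y + z) = φ x y + φ x z)
    (hsl : ∀ (c : F) x y, φ (c • x) y = c * φ x y)
    (hsr : ∀ (c : F) x y, φ x (c • y) = c ^ 2 * φ x y)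
    (h0 : ∀ x, φ x x = 0) (x y : α) : φ x y = 0 := by
  obtain ⟨w, hw⟩ := exists_omega (F := F)
  have e1 : φ x y + φ y x = 0 := by
    have := h0 (x + y); rwa [hl, hr, hr, h0, h0, zero_add, add_zero] at this
  have e2 : w ^ 2 * φ x y + w * φ y x = 0 := by
    have := h0 (x + w • y)
    rwa [hl, hr, hr, hsl, hsl, hsr, hsr, h0, h0, zero_add, mul_zero, mul_zero, add_zero] at this
  rw [← eq_of_add_eq_zero e1, hw] at e2
  linear_combination e2 - w * φ x y * (two_eq_zero (F := F))

/-- An involution is a transvection or has a conjugate with product of order five. -/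
theorem involution_cases {t : Cfsg.SU n F 2} (ht : t * t = 1) (ht1 : t ≠ 1) :
    (∃ (u : Fin n → F) (hu : h u u = 0), u ≠ 0 ∧ t = T u hu) ∨
      ∃ (k : Cfsg.SU n F 2) (r : Fin n → F), k * k = 1 ∧
        (∀ l : F, act ((t * k) * (t * k) * ((t * k) * (t * k))) r ≠ l • r) ∧
        (∀ l : F, act ((t * k) * (t * k) * ((t * k) * (t * k)) * ((t * k) * (t * k))) r ≠ l • r) := by
  set N : (Fin n → F) → (Fin n → F) := fun x => act t x + x with hN
  have htt : ∀ x, act t (act t x) = x := fun x => by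
    rw [← OrthUnitaryTransvection.act_mul, ht, OrthUnitaryTransvection.act_one]
  have hact : ∀ x, act t x = x + N x := fun x => by
    rw [hN]; simp only
    rw [add_left_comm, vec_add_self, add_zero]
  have hiso : ∀ x y, h (act t x) (act t y) = h x y := OrthUnitaryTransvection.herm_act t
  have hNa : ∀ x y, N (x + y) = N x + N y := fun x y => by
    simp only [hN, OrthUnitaryTransvection.act_add]; abel
  have hNs : ∀ (c : F) x, N (c • x) = c • N x := fun c x => by
    simp only [hN, OrthUnitaryTransvection.act_smul, smul_add]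
  have hadj : ∀ x y, h (N x) y = h x (N y) := fun x y => by
    simp only [hN, h_add_left, h_add_right]
    congr 1
    conv_lhs => rw [← htt y, hiso]
  have hNN : ∀ x, N (N x) = 0 := fun x => by
    simp only [hN, OrthUnitaryTransvection.act_add, htt]
    rw [add_comm x, vec_add_self]
  have hNiso : ∀ x y, h (N x) (N y) = 0 := fun x y => by rw [hadj, hNN, h_zero_right]
  have hN0 : N 0 = 0 := by simpa using hNs 0 0
  set φ : (Fin n → F) → (Fin n → F) → F := fun x y => h (N x) y with hφ
  have hφl : ∀ x y z, φ (x + y) z = φ x z + φ y z := fun x y z => by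
    simp only [hφ, hNa, h_add_left]
  have hφr : ∀ x y z, φ x (y + z) = φ x y + φ x z := fun x y z => by simp only [hφ, h_add_right]
  have hφsl : ∀ (c : F) x y, φ (c • x) y = c * φ x y := fun c x y => by
    simp only [hφ, hNs, h_smul_left]
  have hφsr : ∀ (c : F) x y, φ x (c • y) = c ^ 2 * φ x y := fun c x y => by
    simp only [hφ, h_smul_right]
  have hφsym : ∀ x y, φ y x = φ x y ^ 2 := fun x y => by
    simp only [hφ]; rw [hadj y x, h_symm]
  obtain ⟨x₁, hx₁⟩ : ∃ x, φ x x = 1 := by
    by_contra hno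
    push Not at hno
    have h0 : ∀ x, φ x x = 0 := fun x =>
      (fixed_cases (hφsym x x).symm).resolve_right (hno x)
    apply ht1
    refine OrthUnitaryTransvection.su_ext fun x => ?_
    rw [OrthUnitaryTransvection.act_one, hact,
      eq_zero_of_h (v := N x) fun y => self_polar φ hφl hφr hφsl hφsr h0 x y, add_zero]
  have h11 : h x₁ (N x₁) = 1 := by rw [← hadj]; exact hx₁
  by_cases hone : ∀ x, N x = h x (N x₁) • N x₁
  · left
    refine ⟨N x₁, hNiso _ _, ?_, OrthUnitaryTransvection.su_ext fun x => ?_⟩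
    · intro e
      rw [e, h_zero_right] at h11
      exact zero_ne_one h11
    · rw [T_act, hact, hone x]
  right
  obtain ⟨y₀, hy₀, hy₀'⟩ : ∃ y, φ y x₁ = 0 ∧ N y ≠ 0 := by
    push Not at hone
    obtain ⟨x, hx⟩ := hone
    refine ⟨x + h x (N x₁) • x₁, ?_, fun e => hx ?_⟩
    · rw [hφl, hφsl, hx₁, mul_one]; simp only [hφ]; rw [hadj]; exact add_self _
    · rw [hNa, hNs] at e; exact vec_eq_of_add e
  obtain ⟨x₂, hx₂, hx₂'⟩ : ∃ x, φ x x₁ = 0 ∧ φ x x = 1 := by
    by_contra hno
    push Not at hno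
    let X : Submodule F (Fin n → F) :=
      { carrier := {x | φ x x₁ = 0}
        zero_mem' := by
          show φ 0 x₁ = 0
          have : (0 : Fin n → F) = (0 : F) • (0 : Fin n → F) := by simp
          rw [this, hφsl, zero_mul]
        add_mem' := fun {a b} ha hb => by
          show φ (a + b) x₁ = 0
          rw [hφl, ha, hb, add_zero]
        smul_mem' := fun c {a} ha => by
          show φ (c • a) x₁ = 0
          rw [hφsl, ha, mul_zero] }
    have h0 : ∀ x : X, φ x x = 0 := fun x =>
      (fixed_cases (hφsym (x : Fin n → F) x).symm).resolve_right (hno x x.2)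
    refine hy₀' (eq_zero_of_h fun w => ?_)
    have hw : w + φ w x₁ • x₁ ∈ X := by
      show φ (w + φ w x₁ • x₁) x₁ = 0
      rw [hφl, hφsl, hx₁, mul_one, add_self]
    have hs := self_polar (α := X) (fun a b => φ (a : Fin n → F) b) (fun _ _ _ => hφl _ _ _)
      (fun _ _ _ => hφr _ _ _) (fun _ _ _ => hφsl _ _ _) (fun _ _ _ => hφsr _ _ _) h0 ⟨y₀, hy₀⟩ ⟨_, hw⟩
    simp only [hφr, hφsr] at hs
    rw [hy₀, mul_zero, add_zero] at hs
    exact hs
  obtain ⟨w, hw⟩ := exists_omega (F := F)
  set r₁ := N x₁ with hr₁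
  set r₂ := N x₂ with hr₂
  obtain ⟨α, hα⟩ : ∃ α : F, h x₁ x₁ + (α + α ^ 2) = 0 := by
    rcases h_self x₁ with e | e
    · exact ⟨0, by rw [e]; ring⟩
    · exact ⟨w, by rw [e, hw]; linear_combination (1 + w) * (two_eq_zero (F := F))⟩
  have r11 : h r₁ r₁ = 0 := hNiso _ _
  have r12 : h r₁ r₂ = 0 := hNiso _ _
  have r21 : h r₂ r₁ = 0 := hNiso _ _
  have r22 : h r₂ r₂ = 0 := hNiso _ _
  have x1r1 : h x₁ r₁ = 1 := h11
  have r1x1 : h r₁ x₁ = 1 := hx₁
  have r2x1 : h r₂ x₁ = 0 := hx₂
  have x1r2 : h x₁ r₂ = 0 := h_comm_zero r2x1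
  have r2x2 : h r₂ x₂ = 1 := hx₂'
  have x2r2 : h x₂ r₂ = 1 := h_comm_one r2x2
  have x2r1 : h x₂ r₁ = 0 := by
    rw [hr₁, ← hadj]; exact hx₂
  have r1x2 : h r₁ x₂ = 0 := h_comm_zero x2r1
  set s₁ := x₁ + α • r₁ with hs₁
  have s1s1 : h s₁ s₁ = 0 := by
    simp only [hs₁, h_add_left, h_add_right, h_smul_left, h_smul_right, r11, x1r1, r1x1]
    linear_combination hα
  set β := h x₂ s₁ with hβ
  obtain ⟨γ, hγ⟩ : ∃ γ : F, h (x₂ + β • r₁) (x₂ + β • r₁) + (γ + γ ^ 2) = 0 := by
    rcases h_self (x₂ + β • r₁) with e | e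
    · exact ⟨0, by rw [e]; ring⟩
    · exact ⟨w, by rw [e, hw]; linear_combination (1 + w) * (two_eq_zero (F := F))⟩
  set s₂ := x₂ + β • r₁ + γ • r₂ with hs₂
  have s1r1 : h s₁ r₁ = 1 := by
    simp only [hs₁, h_add_left, h_smul_left, x1r1, r11, mul_zero, add_zero]
  have s1r2 : h s₁ r₂ = 0 := by
    simp only [hs₁, h_add_left, h_smul_left, x1r2, r12, mul_zero, add_zero]
  have s2r1 : h s₂ r₁ = 0 := by
    simp only [hs₂, h_add_left, h_smul_left, x2r1, r11, r21, mul_zero, add_zero]
  have s2r2 : h s₂ r₂ = 1 := by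
    simp only [hs₂, h_add_left, h_smul_left, x2r2, r12, r22, mul_zero, add_zero]
  have s2s1 : h s₂ s₁ = 0 := by
    simp only [hs₂, h_add_left, h_smul_left, ← hβ, h_comm_one s1r1, h_comm_zero s1r2, mul_zero,
      mul_one, add_zero]
    exact add_self β
  have s2s2 : h s₂ s₂ = 0 := by
    simp only [hs₂, h_add_left, h_add_right, h_smul_left, h_smul_right, r11, r12, r21, r22,
      x2r1, r1x2, x2r2, r2x2, mul_zero, add_zero, zero_add, mul_one] at hγ ⊢
    linear_combination hγ
  have s1s2 : h s₁ s₂ = 0 := h_comm_zero s2s1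
  have Ns1 : N s₁ = r₁ := by rw [hs₁, hNa, hNs, hr₁, hNN, smul_zero, add_zero]
  have Ns2 : N s₂ = r₂ := by
    rw [hs₂, hNa, hNa, hNs, hNs, hr₁, hr₂, hNN, hNN, smul_zero, smul_zero, add_zero, add_zero]
  have s12 : h (s₁ + s₂) (s₁ + s₂) = 0 := by
    simp only [h_add_left, h_add_right, s1s1, s1s2, s2s1, s2s2, add_zero]
  set k := T (s₁ + s₂) s12 * T s₂ s2s2 with hk
  have hkk : k * k = 1 := by
    have hc : Commute (T (s₁ + s₂) s12) (T s₂ s2s2) :=
      T_commute _ _ (by simp only [h_add_left, s1s2, s2s2, add_zero])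
    rw [hk, hc.symm.mul_mul_mul_comm, T_sq, T_sq, one_mul]
  have kact : ∀ x, act k x = x + h x s₂ • s₂ + h x (s₁ + s₂) • (s₁ + s₂) := fun x => by
    rw [hk, OrthUnitaryTransvection.act_mul, T_act, T_act, h_add_left, h_smul_left]
    simp only [h_add_right, s2s1, s2s2, add_zero, mul_zero]
  set M : (Fin n → F) → (Fin n → F) := fun x => act (t * k) x with hM
  have hMe : ∀ x, act (t * k) x = act t (act k x) := OrthUnitaryTransvection.act_mul t k
  have M_r1 : M r₁ = r₂ + s₁ + s₂ := by
    simp only [hM, hMe, kact, h_add_right, h_comm_one s1r1, h_comm_zero s2r1, zero_smul,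
      add_zero, one_smul, hact, hNa, Ns1, Ns2]
    simp only [hr₁, hNN, hN0, zero_add]
    rw [show N x₁ + (s₁ + s₂) + (N x₁ + r₂) = (N x₁ + N x₁) + (r₂ + s₁ + s₂) by abel,
      vec_add_self, zero_add]
  have M_r2 : M r₂ = r₁ + r₂ + s₁ := by
    simp only [hM, hMe, kact, h_add_right, h_comm_zero s1r2, h_comm_one s2r2, zero_add, one_smul,
      hact, hNa, Ns1, Ns2]
    simp only [hr₂, hNN]
    rw [show N x₂ + s₂ + (s₁ + s₂) + (0 + N x₂ + (r₁ + N x₂))
      = (N x₂ + N x₂) + (s₂ + s₂) + (r₁ + N x₂ + s₁) by abel, vec_add_self, vec_add_self,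
      zero_add, zero_add]
  have M_s : ∀ s, h s s₁ = 0 → h s s₂ = 0 → M s = act t s := fun s e1 e2 => by
    simp only [hM, hMe, kact, h_add_right, e1, e2, add_zero, zero_smul]
  have M_s1 : M s₁ = r₁ + s₁ := by rw [M_s _ s1s1 s1s2, hact, Ns1, add_comm]
  have M_s2 : M s₂ = r₂ + s₂ := by rw [M_s _ s2s1 s2s2, hact, Ns2, add_comm]
  have Madd : ∀ x y, M (x + y) = M x + M y := OrthUnitaryTransvection.act_add (t * k)
  have M2 : M (M r₁) = s₂ := by
    rw [M_r1, Madd, Madd, M_r2, M_s1, M_s2,
      show r₁ + r₂ + s₁ + (r₁ + s₁) + (r₂ + s₂) = (r₁ + r₁) + (r₂ + r₂) + (s₁ + s₁) + s₂ by abel]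
    simp only [vec_add_self, zero_add]
  have M4 : M (M (M (M r₁))) = r₁ + s₁ + s₂ := by
    rw [M2, M_s2, Madd, M_r2, M_s2,
      show r₁ + r₂ + s₁ + (r₂ + s₂) = (r₂ + r₂) + (r₁ + s₁ + s₂) by abel, vec_add_self, zero_add]
  have M6 : M (M (M (M (M (M r₁))))) = r₂ + s₁ + s₂ := by
    have M5 : M (r₁ + s₁ + s₂) = r₁ := by
      rw [Madd, Madd, M_r1, M_s1, M_s2,
        show r₂ + s₁ + s₂ + (r₁ + s₁) + (r₂ + s₂) = (r₂ + r₂) + (s₁ + s₁) + (s₂ + s₂) + r₁ by abel]
      simp only [vec_add_self, zero_add]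
    rw [M4, M5, M_r1]
  refine ⟨k, r₁, hkk, fun l e => ?_, fun l e => ?_⟩
  · have e' : M (M (M (M r₁))) = l • r₁ := by
      simp only [hM, OrthUnitaryTransvection.act_mul] at e ⊢
      exact e
    rw [M4] at e'
    have := congrArg (fun v => h v r₁) e'
    simp [h_add_left, h_smul_left, r11, s1r1, s2r1] at this
  · have e' : M (M (M (M (M (M r₁))))) = l • r₁ := by
      simp only [hM, OrthUnitaryTransvection.act_mul] at e ⊢
      exact e
    rw [M6] at e'
    have := congrArg (fun v => h v r₁) e'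
    simp [h_add_left, h_smul_left, r11, r21, s1r1, s2r1] at this

/-! ### Lines -/

/-- A vector orthogonal to all isotropic vectors orthogonal to `u` and `v` lies in their span. -/
theorem mem_span_of_perp (hn : 6 ≤ n) {u v e : Fin n → F} (hu : h u u = 0) (hv : h v v = 0)
    (he : ∀ w, h w w = 0 → h w u = 0 → h w v = 0 → h w e = 0) :
    e ∈ Submodule.span F {u, v} := by
  obtain ⟨τ, -, hf⟩ := TransvectionUnitaryGen.herm_isUnitaryForm (n := n) (hF4 (F := F))
  obtain ⟨ω, hω⟩ := exists_omega (F := F)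
  apply TransvectionUnitary.perp_perp_le hf
  intro w hw
  obtain ⟨hwu, hwv⟩ := (TransvectionUnitary.mem_perp_pair hf).mp hw
  rcases h_self w with hw0 | hw1
  · exact he w hw0 hwu hwv
  have hspan3 : Module.finrank F (Submodule.span F ({u, v, w} : Set (Fin n → F))) ≤ 3 := by
    classical
    have := finrank_span_le_card (R := F) ({u, v, w} : Set (Fin n → F))
    refine this.trans ?_
    simpa using Finset.card_le_three
  have h1 := TransvectionUnitary.finrank_perp hf (Submodule.span F ({u, v, w} : Set (Fin n → F)))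
  set W := TransvectionUnitary.perp hf (Submodule.span F ({u, v, w} : Set (Fin n → F))) with hW
  have hWm : ∀ z ∈ W, h z u = 0 ∧ h z v = 0 ∧ h z w = 0 := fun z hz =>
    ⟨hz u (Submodule.subset_span (by simp)), hz v (Submodule.subset_span (by simp)),
      hz w (Submodule.subset_span (by simp))⟩
  by_cases hex : ∃ z ∈ W, h z z = 1
  · obtain ⟨z, hz, hz1⟩ := hex
    obtain ⟨hzu, hzv, hzw⟩ := hWm z hz
    have key : ∀ c : F, c ≠ 0 → h (w + c • z) e = 0 := by
      intro c hc
      apply he
      · simp only [h_add_left, h_add_right, h_smul_left, h_smul_right, hw1, hz1, hzw,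
          h_comm_zero hzw, mul_zero, add_zero, zero_add, mul_one]
        rw [← pow_succ, cube hc, add_self]
      · simp only [h_add_left, h_smul_left, hzu, mul_zero, add_zero]; exact hwu
      · simp only [h_add_left, h_smul_left, hzv, mul_zero, add_zero]; exact hwv
    have k1 := key 1 one_ne_zero
    have k2 := key ω (omega_ne hω).1
    simp only [h_add_left, h_smul_left, one_mul] at k1 k2
    have hz0 : (ω + 1) * h z e = 0 := by
      linear_combination k1 + k2 - h w e * (two_eq_zero (F := F))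
    have hω1 : ω + 1 ≠ 0 := fun e => (omega_ne hω).2 (eq_of_add_eq_zero e)
    show h w e = 0
    rw [(mul_eq_zero.mp hz0).resolve_left hω1, add_zero] at k1
    exact k1
  · exfalso
    push Not at hex
    have h0 : ∀ x : W, h (x : Fin n → F) x = 0 := fun x => (h_self _).resolve_right (hex x x.2)
    have hiso : ∀ a ∈ W, ∀ b ∈ W, h a b = 0 := fun a ha b hb =>
      self_polar (α := W) (fun a b => h (a : Fin n → F) b) (fun _ _ _ => h_add_left _ _ _)
        (fun _ _ _ => h_add_right _ _ _) (fun _ _ _ => h_smul_left _ _ _)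
        (fun _ _ _ => h_smul_right _ _ _) h0 ⟨a, ha⟩ ⟨b, hb⟩
    have hle : W ≤ Submodule.span F ({u, v} : Set (Fin n → F)) := by
      intro z hz
      obtain ⟨hzu, hzv, hzw⟩ := hWm z hz
      apply TransvectionUnitary.perp_perp_le hf
      intro y hy
      obtain ⟨hyu, hyv⟩ := (TransvectionUnitary.mem_perp_pair hf).mp hy
      have hy' : y + h y w • w ∈ W := by
        rw [hW, TransvectionUnitary.mem_perp]
        intro x hx
        induction hx using Submodule.span_induction with
        | mem x hx =>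
          show h (y + h y w • w) x = 0
          simp only [Set.mem_insert_iff, Set.mem_singleton_iff] at hx
          rcases hx with rfl | rfl | rfl
          · rw [h_add_left, h_smul_left]; rw [show h y x = 0 from hyu, show h w x = 0 from hwu]; ring
          · rw [h_add_left, h_smul_left]; rw [show h y x = 0 from hyv, show h w x = 0 from hwv]; ring
          · rw [h_add_left, h_smul_left, hw1, mul_one]; exact add_self _
        | zero => exact h_zero_right _
        | add a b _ _ ha hb =>
          show h (y + h y w • w) (a + b) = 0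
          rw [h_add_right, show h (y + h y w • w) a = 0 from ha,
            show h (y + h y w • w) b = 0 from hb, add_zero]
        | smul c a _ ha =>
          show h (y + h y w • w) (c • a) = 0
          rw [h_smul_right, show h (y + h y w • w) a = 0 from ha, mul_zero]
      have := hiso _ hy' z hz
      rw [h_add_left, h_smul_left, h_comm_zero hzw, mul_zero, add_zero] at this
      exact this
    classical
    have h2 := Submodule.finrank_mono hle
    have h3 : Module.finrank F (Submodule.span F ({u, v} : Set (Fin n → F))) ≤ 2 := by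
      refine (finrank_span_le_card (R := F) ({u, v} : Set (Fin n → F))).trans ?_
      simpa using Finset.card_le_two
    rw [Fintype.card_fin] at h1
    omega

variable (D : Set (Cfsg.PSU n F 2))

/-- An invariant set of 3-transpositions, without the identity. -/
structure IsThree : Prop where
  sq : ∀ x ∈ D, x * x = 1
  ne_one : ∀ x ∈ D, x ≠ 1
  braid : ∀ x ∈ D, ∀ y ∈ D, ¬ Commute x y → x * y * x = y * x * y
  conj : ∀ g, ∀ x ∈ D, g * x * g⁻¹ ∈ D
  nonempty : D.Nonempty

variable {D}

theorem exists_transvection (hn : 2 ≤ n) (hD : IsThree D) {x : Cfsg.PSU n F 2} (hx : x ∈ D) :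
    ∃ (u : Fin n → F) (hu : h u u = 0), u ≠ 0 ∧ π (T u hu) = x := by
  obtain ⟨t', rfl⟩ := QuotientGroup.mk'_surjective _ x
  have hz : t' * t' ∈ Subgroup.center (Cfsg.SU n F 2) := by
    rw [← QuotientGroup.eq_one_iff]; exact (map_mul π t' t').symm.trans (hD.sq _ hx)
  set z := t' * t' with hzdef
  set t := t' * z with htdef
  have hπt : π t = π t' := by
    rw [htdef, map_mul, show π z = 1 from (QuotientGroup.eq_one_iff z).mpr hz, mul_one]
  have htt : t * t = 1 := by
    rw [htdef, show t' * z * (t' * z) = z * z * z by rw [hzdef]; group, center_cube hn hz]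
  have ht1 : t ≠ 1 := fun e => hD.ne_one _ hx (by rw [← hπt, e, map_one])
  rcases involution_cases htt ht1 with ⟨u, hu, hu0, e⟩ | ⟨k, r, hk, h4, h6⟩
  · exact ⟨u, hu, hu0, by rw [← e, hπt]⟩
  exfalso
  rw [← hπt] at hx
  set y := k * t * k with hy
  have hyD : π y ∈ D := by
    have := hD.conj (π k) _ hx
    rwa [← map_inv, ← map_mul, ← map_mul, inv_eq_of_mul_eq_one_right hk] at this
  have hty : t * y = (t * k) * (t * k) := by rw [hy]; group
  have hscal : ∀ a : Cfsg.SU n F 2, π a = 1 → ∃ l : F, act a r = l • r := fun a ha =>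
    (exists_scalar hn ((QuotientGroup.eq_one_iff a).mp ha)).imp fun l hl => hl r
  by_cases hc : Commute (π t) (π y)
  · obtain ⟨l, hl⟩ := hscal ((t * y) * (t * y)) (by
      rw [map_mul, map_mul, hc.symm.mul_mul_mul_comm, hD.sq _ hx, hD.sq _ hyD, one_mul])
    rw [hty] at hl
    exact h4 l hl
  · obtain ⟨l, hl⟩ := hscal ((t * y) * (t * y) * (t * y)) (by
      have hb := hD.braid _ hx _ hyD hc
      simp only [map_mul]
      calc π t * π y * (π t * π y) * (π t * π y)
          = (π t * π y * π t) * (π y * π t * π y) := by group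
        _ = (π t * π y * π t) * (π t * π y * π t) := by rw [hb]
        _ = π t * π y * (π t * π t) * π y * π t := by group
        _ = π t * (π y * π y) * π t := by rw [hD.sq _ hx]; group
        _ = 1 := by rw [hD.sq _ hyD, mul_one, hD.sq _ hx])
    rw [hty] at hl
    exact h6 l hl

theorem transvection_mem (hn : 3 ≤ n) (hD : IsThree D) {u : Fin n → F} (hu : h u u = 0)
    (hu0 : u ≠ 0) : π (T u hu) ∈ D := by
  obtain ⟨x, hx⟩ := hD.nonempty
  obtain ⟨v, hv, hv0, rfl⟩ := exists_transvection (by omega) hD hx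
  obtain ⟨g, hg⟩ := isConj_iff.mp (OrthUnitaryPSU.isConj_tv hF4 hn hv hu hv0 hu0 one_skew one_skew
    one_ne_zero one_ne_zero)
  have := hD.conj (π g) _ hx
  rwa [← map_inv, ← map_mul, ← map_mul, show g * T v hv * g⁻¹ = T u hu from hg] at this

theorem five_points {u v : Fin n → F} (hu : h u u = 0) (hv : h v v = 0) (huv : h u v = 0) :
    ∀ e ∈ Submodule.span F ({u, v} : Set (Fin n → F)), h e e = 0 := by
  intro e he
  obtain ⟨a, b, rfl⟩ := Submodule.mem_span_pair.mp he
  simp [h_add_left, h_add_right, h_smul_left, h_smul_right, hu, hv, huv, h_comm_zero huv]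

theorem line (hn : 6 ≤ n) (hD : IsThree D) {x y : Cfsg.PSU n F 2} (hx : x ∈ D) (hy : y ∈ D)
    (hxy : Commute x y) (hne : x ≠ y) :
    ∃ L : List (Cfsg.PSU n F 2), L.Nodup ∧ L.length = 5 ∧ (∀ p ∈ L, p ∈ D) ∧ x ∈ L ∧ y ∈ L ∧
      (∀ p ∈ L, ∀ q ∈ L, Commute p q) ∧ L.prod = 1 ∧
      (∀ w ∈ D, Commute w x → Commute w y → ∀ p ∈ L, Commute w p) ∧
      (∀ q ∈ D, (∀ w ∈ D, Commute w x → Commute w y → Commute w q) → q ∈ L) := by
  obtain ⟨u, hu, hu0, rfl⟩ := exists_transvection (by omega) hD hx
  obtain ⟨v, hv, hv0, rfl⟩ := exists_transvection (by omega) hD hy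
  have huv : h u v = 0 :=
    orth_of_commute hu hv hu0 (commute_of_mk (by omega) (T_sq _ _) (T_sq _ _) hxy)
  have hind : ∀ a b : F, a • u + b • v = 0 → a = 0 ∧ b = 0 := by
    intro a b e
    by_cases hb : b = 0
    · subst hb; rw [zero_smul, add_zero] at e; exact ⟨(smul_eq_zero.mp e).resolve_right hu0, rfl⟩
    · exfalso
      have ev : v = (b⁻¹ * a) • u := by
        rw [mul_smul, vec_eq_of_add e, smul_smul, inv_mul_cancel₀ hb, one_smul]
      by_cases ha : b⁻¹ * a = 0
      · exact hv0 (by rw [ev, ha, zero_smul])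
      · exact hne (congrArg π ((T_congr ev hv (by rw [← ev]; exact hv)).trans (T_smul ha hu _)).symm)
  obtain ⟨w, hw⟩ := exists_omega (F := F)
  obtain ⟨hw0, hw1⟩ := omega_ne hw
  have hw2 : ∀ a : F, a ≠ 0 → a = 1 ∨ a = w ∨ a = w + 1 := by
    intro a ha
    by_cases h1 : a = 1
    · exact Or.inl h1
    have h2 := rel ha h1
    have : (a - w) * (a - (w + 1)) = 0 := by
      linear_combination h2 + hw + (-(a * w) + w + 1) * (two_eq_zero (F := F))
    rcases mul_eq_zero.mp this with h | h
    · exact Or.inr (Or.inl (sub_eq_zero.mp h))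
    · exact Or.inr (Or.inr (sub_eq_zero.mp h))
  have hw10 : w + 1 ≠ 0 := fun e => hw1 (eq_of_add_eq_zero e)
  have hp : ∀ c : F, h (u + c • v) (u + c • v) = 0 := fun c =>
    five_points hu hv huv _ (Submodule.mem_span_pair.mpr ⟨1, c, by rw [one_smul]⟩)
  let P : F → Cfsg.SU n F 2 := fun c => T (u + c • v) (hp c)
  have hPne : ∀ c, u + c • v ≠ 0 := fun c e =>
    one_ne_zero (hind 1 c (by rw [one_smul]; exact e)).1
  have hPu : ∀ c : F, c ≠ 0 → T u hu ≠ P c := fun c hc e => by
    obtain ⟨d, hd, e1⟩ := T_inj hu (hp c) hu0 e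
    have := (hind (1 + d) (d * c) (by
      rw [add_smul, one_smul, mul_smul, add_assoc, ← smul_add, ← e1, vec_add_self])).2
    exact mul_ne_zero hd hc this
  have hPv : ∀ c : F, T v hv ≠ P c := fun c e => by
    obtain ⟨d, hd, e1⟩ := T_inj hv (hp c) hv0 e
    exact hd (hind d (1 + d * c) (by
      rw [add_smul, one_smul, mul_smul, add_left_comm, ← smul_add, ← e1, vec_add_self])).1
  have hPP : ∀ c c' : F, c ≠ c' → P c ≠ P c' := fun c c' hcc e => by
    obtain ⟨d, -, e1⟩ := T_inj (hp c) (hp c') (hPne c) e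
    have h' := hind (1 + d) (c + d * c') (by
      rw [add_smul, one_smul, add_smul, mul_smul,
        show u + d • u + (c • v + d • c' • v) = (u + c • v) + d • (u + c' • v) by
          rw [smul_add]; abel, ← e1, vec_add_self])
    have hd1 : (1 : F) = d := eq_of_add_eq_zero h'.1
    rw [← hd1, one_mul] at h'
    exact hcc (eq_of_add_eq_zero h'.2)
  have huvne : T u hu ≠ T v hv := fun e => hne (congrArg π e)
  set LS := [T u hu, T v hv, P 1, P w, P (w + 1)] with hLS
  have hdist : (1 : F) ≠ w ∧ (1 : F) ≠ w + 1 ∧ w ≠ w + 1 :=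
    ⟨fun e => hw1 e.symm, fun e => hw0 (add_eq_right.mp e.symm),
      fun e => one_ne_zero (left_eq_add.mp e)⟩
  have hnd : LS.Nodup := by
    simp [hLS, huvne, hPu 1 one_ne_zero, hPu w hw0, hPu _ hw10, hPv, hPP 1 w hdist.1,
      hPP 1 _ hdist.2.1, hPP w _ hdist.2.2]
  have hmem : ∀ p ∈ LS, ∃ (e : Fin n → F) (he : h e e = 0), e ≠ 0 ∧
      e ∈ Submodule.span F ({u, v} : Set (Fin n → F)) ∧ T e he = p := by
    intro p hp'
    simp only [hLS, List.mem_cons, List.not_mem_nil, or_false] at hp'
    have hin : ∀ c : F, u + c • v ∈ Submodule.span F ({u, v} : Set (Fin n → F)) := fun c =>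
      Submodule.mem_span_pair.mpr ⟨1, c, by rw [one_smul]⟩
    rcases hp' with rfl | rfl | rfl | rfl | rfl
    · exact ⟨u, hu, hu0, Submodule.subset_span (by simp), rfl⟩
    · exact ⟨v, hv, hv0, Submodule.subset_span (by simp), rfl⟩
    all_goals exact ⟨_, hp _, hPne _, hin _, rfl⟩
  have horth : ∀ e e' : Fin n → F, e ∈ Submodule.span F ({u, v} : Set (Fin n → F)) →
      e' ∈ Submodule.span F ({u, v} : Set (Fin n → F)) → h e e' = 0 := by
    intro e e' he he'
    obtain ⟨a, b, rfl⟩ := Submodule.mem_span_pair.mp he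
    obtain ⟨a', b', rfl⟩ := Submodule.mem_span_pair.mp he'
    simp [h_add_left, h_add_right, h_smul_left, h_smul_right, hu, hv, huv, h_comm_zero huv]
  refine ⟨LS.map π, ?_, by simp [hLS], ?_, by simp [hLS], by simp [hLS], ?_, ?_, ?_, ?_⟩
  · refine List.Nodup.map_on (fun a ha b hb e => ?_) hnd
    obtain ⟨_, _, -, -, rfl⟩ := hmem a ha
    obtain ⟨_, _, -, -, rfl⟩ := hmem b hb
    exact eq_of_mk_eq (by omega) (T_sq _ _) (T_sq _ _) e
  · intro p hp'
    obtain ⟨a, ha, rfl⟩ := List.mem_map.mp hp'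
    obtain ⟨e, he, he0, -, rfl⟩ := hmem a ha
    exact transvection_mem (by omega) hD he he0
  · intro p hp' q hq'
    obtain ⟨a, ha, rfl⟩ := List.mem_map.mp hp'
    obtain ⟨b, hb, rfl⟩ := List.mem_map.mp hq'
    obtain ⟨e, he, -, hes, rfl⟩ := hmem a ha
    obtain ⟨e', he', -, hes', rfl⟩ := hmem b hb
    exact (T_commute he he' (horth e e' hes hes')).map π
  · rw [← map_list_prod]
    suffices hs : LS.prod = 1 by rw [hs, map_one]
    refine OrthUnitaryTransvection.su_ext fun z => ?_
    simp only [hLS, P, List.prod_cons, List.prod_nil, mul_one, OrthUnitaryTransvection.act_mul,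
      T_act, OrthUnitaryTransvection.act_one, h_add_left, h_add_right, h_smul_left, h_smul_right,
      hu, hv, huv, h_comm_zero huv, mul_zero, add_zero, zero_add]
    funext i
    simp only [Pi.add_apply, Pi.smul_apply, smul_eq_mul, one_pow, one_mul]
    have e2 : (w + 1) ^ 2 = w := by
      linear_combination hw + (w + 1) * (two_eq_zero (F := F))
    rw [e2, hw]
    linear_combination (h z u * u i * 2 + h z v * v i + h z u * v i * (w + 1)
      + h z v * u i * (w + 1) + h z v * v i * (w + w * w)) * (two_eq_zero (F := F))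
  · intro q hq hqx hqy p hp'
    obtain ⟨a, ha, rfl⟩ := List.mem_map.mp hp'
    obtain ⟨e, he, -, hes, rfl⟩ := hmem a ha
    obtain ⟨g, hg, hg0, rfl⟩ := exists_transvection (by omega) hD hq
    have h1 := orth_of_commute hg hu hg0 (commute_of_mk (by omega) (T_sq _ _) (T_sq _ _) hqx)
    have h2 := orth_of_commute hg hv hg0 (commute_of_mk (by omega) (T_sq _ _) (T_sq _ _) hqy)
    refine (T_commute hg he ?_).map π
    obtain ⟨a, b, rfl⟩ := Submodule.mem_span_pair.mp hes
    simp [h_add_right, h_smul_right, h1, h2]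
  · intro q hq hall
    obtain ⟨e, he, he0, rfl⟩ := exists_transvection (by omega) hD hq
    have hes : e ∈ Submodule.span F ({u, v} : Set (Fin n → F)) := by
      refine mem_span_of_perp hn hu hv fun g hg hgu hgv => ?_
      by_cases hg0 : g = 0
      · subst hg0; exact h_zero_left e
      exact orth_of_commute hg he hg0 (commute_of_mk (by omega) (T_sq _ _) (T_sq _ _)
        (hall _ (transvection_mem (by omega) hD hg hg0) ((T_commute hg hu hgu).map π)
          ((T_commute hg hv hgv).map π)))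
    obtain ⟨a, b, rfl⟩ := Submodule.mem_span_pair.mp hes
    refine List.mem_map.mpr ⟨_, ?_, rfl⟩
    by_cases ha : a = 0
    · have hb : b ≠ 0 := fun hb => he0 (by rw [ha, hb, zero_smul, zero_smul, add_zero])
      have e1 : T (a • u + b • v) he = T v hv := by
        rw [T_congr (show a • u + b • v = b • v by rw [ha, zero_smul, zero_add]) he
          (by rw [h_smul_left, h_smul_right, hv, mul_zero, mul_zero]), T_smul hb hv]
      rw [e1]; simp [hLS]
    · have e1 : a • u + b • v = a • (u + (a⁻¹ * b) • v) := by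
        rw [smul_add, smul_smul, mul_inv_cancel_left₀ ha]
      have e2 : T (a • u + b • v) he = P (a⁻¹ * b) := by
        rw [T_congr e1 he (e1 ▸ he)]; exact T_smul ha _ _
      rw [e2]
      by_cases hb : a⁻¹ * b = 0
      · have e3 : P (a⁻¹ * b) = T u hu := T_congr (by rw [hb, zero_smul, add_zero]) _ _
        rw [e3]; simp [hLS]
      · rcases hw2 _ hb with e3 | e3 | e3 <;> simp [hLS, e3]

end Cfsg.Agent.UnitaryF4Line
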