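import Cfsg.Agent.Lib.ThreeTransPairs
import Cfsg.Agent.Lib.UnitaryF4Line

/-!
# The six-sets of groups of type M(22)

Two commuting transpositions near `d` lie in five pairwise commuting transpositions near `d`, the
preimages of a totally isotropic line, and with `d` these six have product one.
-/

set_option autoImplicit false
set_option linter.unusedSectionVars false
set_option linter.style.haveILetI false

namespace Cfsg.Agent.ThreeTransLine

open Subgroup Cfsg.Agent.ThreeTransRel Cfsg.Agent.ThreeTransDescent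

variable {G : Type*} [Group G] [Finite G] {D : Set G}

/-- No transposition near `d` commutes with all the others. -/
theorem no_central (ht : TSys D) (hprim : Cfsg.IsPrimitiveUnderConj D) {d p : G} (hd : d ∈ D)
    (hp : p ∈ near D d) (hall : ∀ y ∈ near D d, Commute y p) : False := by
  set A : G → Set G := fun x => {y | y ∈ D ∧ Commute x y}
  have hsub : A d ⊆ A p := by
    intro y hy
    refine ⟨hy.1, ?_⟩
    by_cases e : y = d
    · exact e ▸ hp.2.2.symm
    · exact (hall y ⟨hy.1, e, hy.2⟩).symm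
  have hcard : (A p).ncard ≤ (A d).ncard := by
    obtain ⟨k, hk⟩ := hprim.1 p hp.1 d hd
    refine Set.ncard_le_ncard_of_injOn (fun y => k * y * k⁻¹) ?_
      (fun x _ y _ e => mul_left_cancel (mul_right_cancel e)) (Set.toFinite _)
    intro y hy
    refine ⟨ht.conj k y hy.1, ?_⟩
    have := (Commute.conj_iff k).mpr hy.2
    rwa [hk] at this
  have heq : A d = A p := Set.eq_of_subset_of_ncard_le hsub hcard (Set.toFinite _)
  refine hp.2.1 (ThreeTransPairs.eq_of_same ht hprim hd hp.1 fun u hu => ?_).symm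
  have := Set.ext_iff.mp heq u
  exact ⟨fun e => (this.mp ⟨hu, e.symm⟩).2.symm, fun e => (this.mpr ⟨hu, e.symm⟩).2.symm⟩

/-- Five transpositions near `d` on a line through two given ones. -/
structure Five (D : Set G) (d b c : G) (l : List G) : Prop where
  nodup : l.Nodup
  len : l.length = 5
  near_mem : ∀ p ∈ l, p ∈ near D d
  left_mem : b ∈ l
  right_mem : c ∈ l
  comm : ∀ p ∈ l, ∀ q ∈ l, Commute p q
  central : ∀ y ∈ near D d, Commute y l.prod
  closed : ∀ y ∈ near D d, Commute y b → Commute y c → ∀ p ∈ l, Commute y p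
  maximal : ∀ q ∈ near D d,
    (∀ y ∈ near D d, Commute y b → Commute y c → Commute y q) → q ∈ l

/-- Any two commuting transpositions near `d` are on a line, and `loc D d` is transitive on them. -/
def LineAt (D : Set G) (d : G) : Prop :=
  (∀ b ∈ near D d, ∀ c ∈ near D d, Commute b c → b ≠ c → ∃ l, Five D d b c l) ∧
    ∀ y ∈ near D d, ∀ z ∈ near D d, ∃ h ∈ loc D d, h * y * h⁻¹ = z

theorem lineAt_of_iso (ht : TSys D) (hprim : Cfsg.IsPrimitiveUnderConj D) {d : G} (hd : d ∈ D)
    {F : Type} [Field F] [Fintype F] (hF : Fintype.card F = 4)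
    (e : ↥(loc D d) ⧸ Subgroup.center ↥(loc D d) ≃* Cfsg.PSU 6 F 2) : LineAt D d := by
  haveI : UnitaryF4Geo.FourField F := ⟨hF⟩
  have hU := ThreeTransPairs.psu6Simple F hF
  haveI := hU.1
  set φ : ↥(loc D d) →* Cfsg.PSU 6 F 2 := e.toMonoidHom.comp (QuotientGroup.mk' _) with hφ
  have hone : ∀ x : ↥(loc D d), φ x = 1 ↔ ∀ y ∈ near D d, Commute y (x : G) := fun x =>
    (map_eq_one_iff e e.injective).trans (mk_eq_one_iff x)
  have hsurj : Function.Surjective φ := e.surjective.comp (QuotientGroup.mk'_surjective _)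
  have hrefl : ∀ p q : ↥(loc D d), (p : G) ∈ near D d → (q : G) ∈ near D d →
      Commute (φ p) (φ q) → Commute (p : G) (q : G) := by
    intro p q hp hq hpq
    by_contra hn
    have e1 : φ (p * q * p) = φ q := by
      rw [map_mul, map_mul, hpq.eq, mul_assoc, ← map_mul φ p p,
        show p * p = 1 from Subtype.ext (ht.sq _ hp.1), map_one, mul_one]
    rw [show p * q * p = q * p * q from Subtype.ext (ht.braid _ hp.1 _ hq.1 hn), map_mul] at e1
    have e2 : φ (q * p) = 1 := mul_eq_right.mp e1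
    rw [hone] at e2
    have e3 := e2 p hp
    apply hn
    have e4 : (p : G) * ((q : G) * p) * (p : G)⁻¹ = (q : G) * p := mul_inv_eq_iff_eq_mul.mpr e3.eq
    show (p : G) * q = q * p
    rw [← e4]; group
  have hinj : ∀ p q : ↥(loc D d), (p : G) ∈ near D d → (q : G) ∈ near D d → φ p = φ q → p = q := by
    intro p q hp hq hpq
    by_contra hne
    have hc : Commute (p : G) (q : G) := hrefl p q hp hq (hpq ▸ Commute.refl _)
    exact no_central ht hprim hd hp
      (fibre ht hp hq (fun h => hne (Subtype.ext h)) hc (e.injective hpq))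
  set D' : Set (Cfsg.PSU 6 F 2) := φ '' {x | (x : G) ∈ near D d} with hD'
  have hthree : UnitaryF4Line.IsThree D' := by
    refine ⟨?_, ?_, ?_, ?_, ?_⟩
    · rintro _ ⟨x, hx, rfl⟩
      rw [← map_mul, show x * x = 1 from Subtype.ext (ht.sq _ hx.1), map_one]
    · rintro _ ⟨x, hx, rfl⟩ h1
      exact no_central ht hprim hd hx ((hone x).mp h1)
    · rintro _ ⟨x, hx, rfl⟩ _ ⟨y, hy, rfl⟩ hn
      rw [← map_mul, ← map_mul, ← map_mul, ← map_mul]
      exact congrArg φ (Subtype.ext (ht.braid _ hx.1 _ hy.1 fun h =>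
        hn ((show Commute x y from Subtype.ext h).map φ)))
    · intro g x hx
      obtain ⟨g, rfl⟩ := hsurj g
      obtain ⟨x, hx, rfl⟩ := hx
      exact ⟨g * x * g⁻¹, near_conj ht (commute_d_of_mem_loc g.2).symm hx, by simp⟩
    · by_contra hne
      rw [Set.not_nonempty_iff_eq_empty] at hne
      have hbot : loc D d = ⊥ := by
        rw [eq_bot_iff]
        exact (closure_le _).mpr fun y hy => absurd (Set.mem_image_of_mem φ
          (show (⟨y, near_le_loc hy⟩ : ↥(loc D d)) ∈ {x : ↥(loc D d) | (x : G) ∈ near D d} from hy))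
          (by rw [← hD', hne]; exact Set.notMem_empty _)
      obtain ⟨a, ha⟩ := exists_ne (1 : Cfsg.PSU 6 F 2)
      obtain ⟨x, rfl⟩ := hsurj a
      have : x = 1 := Subtype.ext (mem_bot.mp (hbot.le x.2))
      exact ha (by rw [this, map_one])
  refine ⟨?_, ?_⟩
  swap
  · intro y hy z hz
    obtain ⟨u, hu, hu0, e1⟩ := UnitaryF4Line.exists_transvection (by norm_num) hthree
      (x := φ ⟨y, near_le_loc hy⟩) ⟨_, hy, rfl⟩
    obtain ⟨v, hv, hv0, e2⟩ := UnitaryF4Line.exists_transvection (by norm_num) hthree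
      (x := φ ⟨z, near_le_loc hz⟩) ⟨_, hz, rfl⟩
    obtain ⟨g, hg⟩ := isConj_iff.mp (OrthUnitaryPSU.isConj_tv (n := 6) UnitaryF4Line.hF4
      (by norm_num) hu hv hu0 hv0 UnitaryF4Line.one_skew UnitaryF4Line.one_skew one_ne_zero one_ne_zero)
    obtain ⟨k, hk⟩ := hsurj (QuotientGroup.mk' _ g)
    refine ⟨k, k.2, congrArg Subtype.val (hinj (k * ⟨y, near_le_loc hy⟩ * k⁻¹) ⟨z, near_le_loc hz⟩
      (near_conj ht (commute_d_of_mem_loc k.2).symm hy) hz ?_)⟩
    rw [map_mul, map_mul, map_inv, hk, ← e1, ← e2, ← map_inv, ← map_mul, ← map_mul]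
    exact congrArg _ hg
  intro b hb c hc hbc hne
  obtain ⟨L, hnd, hlen, hLD, hxL, hyL, hcomm, hprod, hclosed, hmax⟩ := UnitaryF4Line.line le_rfl hthree
    (x := φ ⟨b, near_le_loc hb⟩) (y := φ ⟨c, near_le_loc hc⟩) ⟨_, hb, rfl⟩ ⟨_, hc, rfl⟩
    ((show Commute (⟨b, near_le_loc hb⟩ : ↥(loc D d)) ⟨c, near_le_loc hc⟩ from
      Subtype.ext hbc.eq).map φ)
    (fun h => hne (congrArg Subtype.val (hinj _ _ hb hc h)))
  obtain ⟨l, hl⟩ : ∃ l : List ↥(loc D d), (∀ p ∈ l, (p : G) ∈ near D d) ∧ l.map φ = L := by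
    clear hnd hlen hxL hyL hcomm hprod hclosed hmax
    induction L with
    | nil => exact ⟨[], by simp, rfl⟩
    | cons a L ih =>
      obtain ⟨x, hx, hxa⟩ := hLD a (List.mem_cons_self ..)
      obtain ⟨l, hl, hl'⟩ := ih fun p hp => hLD p (List.mem_cons_of_mem _ hp)
      exact ⟨x :: l, fun p hp => by
        rcases List.mem_cons.mp hp with rfl | hp
        · exact hx
        · exact hl p hp, by rw [List.map_cons, hxa, hl']⟩
  obtain ⟨hln, rfl⟩ := hl
  have hback : ∀ q (hq : q ∈ near D d), φ ⟨q, near_le_loc hq⟩ ∈ l.map φ →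
      q ∈ l.map Subtype.val := by
    intro q hq hm
    obtain ⟨p, hp, hpq⟩ := List.mem_map.mp hm
    exact List.mem_map.mpr ⟨p, hp, congrArg Subtype.val (hinj _ _ (hln p hp) hq hpq)⟩
  refine ⟨l.map Subtype.val, ⟨(List.Nodup.of_map φ hnd).map Subtype.val_injective, ?_, ?_,
    hback b hb hxL, hback c hc hyL, ?_, ?_, ?_, ?_⟩⟩
  · rw [List.length_map] at hlen ⊢; exact hlen
  · intro p hp
    obtain ⟨x, hx, rfl⟩ := List.mem_map.mp hp
    exact hln x hx
  · intro p hp q hq
    obtain ⟨x, hx, rfl⟩ := List.mem_map.mp hp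
    obtain ⟨y, hy, rfl⟩ := List.mem_map.mp hq
    exact hrefl x y (hln x hx) (hln y hy)
      (hcomm _ (List.mem_map_of_mem hx) _ (List.mem_map_of_mem hy))
  · intro y hy
    rw [← map_list_prod] at hprod
    have := (hone _).mp hprod y hy
    have e1 : ((l.prod : ↥(loc D d)) : G) = (l.map Subtype.val).prod :=
      map_list_prod (loc D d).subtype l
    rwa [e1] at this
  · intro y hy hyb hyc p hp
    obtain ⟨x, hx, rfl⟩ := List.mem_map.mp hp
    exact hrefl ⟨y, near_le_loc hy⟩ x hy (hln x hx) (hclosed _ ⟨_, hy, rfl⟩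
      ((show Commute (⟨y, near_le_loc hy⟩ : ↥(loc D d)) ⟨b, near_le_loc hb⟩ from
        Subtype.ext hyb.eq).map φ)
      ((show Commute (⟨y, near_le_loc hy⟩ : ↥(loc D d)) ⟨c, near_le_loc hc⟩ from
        Subtype.ext hyc.eq).map φ) _ (List.mem_map_of_mem hx))
  · intro q hq hall
    refine hback q hq (hmax _ ⟨_, hq, rfl⟩ ?_)
    rintro _ ⟨y, hy, rfl⟩ h1 h2
    exact (show Commute y ⟨q, near_le_loc hq⟩ from Subtype.ext
      (hall y hy (hrefl y _ hy hb h1) (hrefl y _ hy hc h2)).eq).map φ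

/-- Lines exist at every member. -/
theorem lineAt_all (ht : TSys D) (hprim : Cfsg.IsPrimitiveUnderConj D)
    (h22 : Cfsg.IsOfTypeM22 G D) : ∀ s ∈ D, LineAt D s := by
  obtain ⟨-, d, hd, -, -, -, ⟨F, _, _, hF, ⟨e⟩⟩, -⟩ := h22
  intro s hs
  obtain ⟨g, hg⟩ := hprim.1 s hs d hd
  have hnear : ∀ y, y ∈ near D s ↔ g * y * g⁻¹ ∈ near D d := by
    intro y
    have e1 : g⁻¹ * (g * y * g⁻¹) * g⁻¹⁻¹ = y := by group
    constructor
    · intro hy
      exact ⟨ht.conj g y hy.1, fun h => hy.2.1 (mul_left_cancel (mul_right_cancel (h.trans hg.symm))),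
        hg ▸ (Commute.conj_iff g).mpr hy.2.2⟩
    · intro hy
      refine ⟨e1 ▸ ht.conj g⁻¹ _ hy.1, fun h => hy.2.1 (by rw [h, hg]), ?_⟩
      exact (Commute.conj_iff g).mp (hg.symm ▸ hy.2.2)
  refine ⟨?_, ?_⟩
  swap
  · intro y hy z hz
    obtain ⟨k, hk, hkz⟩ := (lineAt_of_iso ht hprim hd hF e).2 _ ((hnear y).mp hy) _ ((hnear z).mp hz)
    refine ⟨g⁻¹ * k * g, ?_, ?_⟩
    · clear hkz
      induction hk using Subgroup.closure_induction with
      | mem w hw =>
        refine subset_closure ((hnear _).mpr ?_)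
        rwa [show g * (g⁻¹ * w * g) * g⁻¹ = w by group]
      | one => simp
      | mul p q _ _ hp hq =>
        rw [show g⁻¹ * (p * q) * g = (g⁻¹ * p * g) * (g⁻¹ * q * g) by group]
        exact mul_mem hp hq
      | inv p _ hp =>
        rw [show g⁻¹ * p⁻¹ * g = (g⁻¹ * p * g)⁻¹ by group]
        exact inv_mem hp
    · rw [show g⁻¹ * k * g * y * (g⁻¹ * k * g)⁻¹ = g⁻¹ * (k * (g * y * g⁻¹) * k⁻¹) * g by group, hkz]
      group
  intro b hb c hc hbc hne
  obtain ⟨l, hl⟩ := (lineAt_of_iso ht hprim hd hF e).1 _ ((hnear b).mp hb) _ ((hnear c).mp hc)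
    ((Commute.conj_iff g).mpr hbc) (fun h => hne (mul_left_cancel (mul_right_cancel h)))
  have hinvol : ∀ y : G, g⁻¹ * (g * y * g⁻¹) * g⁻¹⁻¹ = y := fun y => by group
  have hinvol' : ∀ y : G, g * (g⁻¹ * y * g⁻¹⁻¹) * g⁻¹ = y := fun y => by group
  have hmem : ∀ p, g * p * g⁻¹ ∈ l ↔ p ∈ l.map (MulAut.conj g⁻¹) := by
    intro p
    constructor
    · intro hp; exact List.mem_map.mpr ⟨_, hp, hinvol p⟩
    · intro hp
      obtain ⟨q, hq, rfl⟩ := List.mem_map.mp hp
      rw [MulAut.conj_apply, hinvol']; exact hq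
  refine ⟨l.map (MulAut.conj g⁻¹), ⟨hl.nodup.map (MulAut.conj g⁻¹).injective, by
    rw [List.length_map, hl.len], fun p hp => (hnear p).mpr (hl.near_mem _ ((hmem p).mpr hp)),
    (hmem b).mp hl.left_mem, (hmem c).mp hl.right_mem, ?_, ?_, ?_, ?_⟩⟩
  · intro p hp q hq
    exact (Commute.conj_iff g).mp (hl.comm _ ((hmem p).mpr hp) _ ((hmem q).mpr hq))
  · intro y hy
    rw [← map_list_prod, MulAut.conj_apply, ← Commute.conj_iff g, hinvol']
    exact hl.central _ ((hnear y).mp hy)
  · intro y hy hyb hyc p hp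
    exact (Commute.conj_iff g).mp (hl.closed _ ((hnear y).mp hy) ((Commute.conj_iff g).mpr hyb)
      ((Commute.conj_iff g).mpr hyc) _ ((hmem p).mpr hp))
  · intro q hq hall
    refine (hmem q).mp (hl.maximal _ ((hnear q).mp hq) fun y hy h1 h2 => ?_)
    rw [← hinvol' y] at h1 h2 hy ⊢
    exact (Commute.conj_iff g).mpr (hall _ ((hnear _).mpr hy) ((Commute.conj_iff g).mp h1)
      ((Commute.conj_iff g).mp h2))

/-- The six-set has product one. -/
theorem six (ht : TSys D) (hprim : Cfsg.IsPrimitiveUnderConj D) (hZ : Subgroup.center G = ⊥)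
    (hline : ∀ s ∈ D, LineAt D s) {d b c : G} (hd : d ∈ D) {l : List G} (hl : Five D d b c l)
    (hb : b ∈ near D d) (hc : c ∈ near D d) (hbc : Commute b c) (hne : b ≠ c) :
    d * l.prod = 1 := by
  classical
  have hdb : d ∈ near D b := ⟨hd, hb.2.1.symm, hb.2.2.symm⟩
  have hcb : c ∈ near D b := ⟨hc.1, hne.symm, hbc⟩
  obtain ⟨l', hl'⟩ := (hline b hb.1).1 d hdb c hcb hc.2.2 hc.2.1.symm
  -- the same six elements seen from `b`
  have hsub : ∀ q ∈ l'.erase d, q ∈ l.erase b := by
    intro q hq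
    obtain ⟨hqd, hql⟩ := (hl'.nodup.mem_erase_iff).mp hq
    have hqb := hl'.near_mem q hql
    have hqn : q ∈ near D d := ⟨hqb.1, hqd, hl'.comm d hl'.left_mem q hql⟩
    refine (hl.nodup.mem_erase_iff).mpr ⟨hqb.2.1, hl.maximal q hqn fun y hy hyb hyc => ?_⟩
    by_cases e : y = b
    · exact e ▸ hqb.2.2
    · exact hl'.closed y ⟨hy.1, e, hyb.symm⟩ hy.2.2.symm hyc q hql
  have hp : (l'.erase d).Perm (l.erase b) := by
    refine (List.subperm_of_subset (hl'.nodup.erase d) hsub).perm_of_length_le ?_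
    rw [List.length_erase_of_mem hl.left_mem, List.length_erase_of_mem hl'.left_mem, hl.len, hl'.len]
  have hprod : ∀ (s : G) (m : List G), (∀ p ∈ m, ∀ q ∈ m, Commute p q) → s ∈ m →
      m.prod = s * (m.erase s).prod := by
    intro s m hm hs
    rw [← List.prod_cons]
    exact (List.perm_cons_erase hs).prod_eq' (List.pairwise_of_forall_mem_list fun x hx y hy =>
      hm x hx y hy)
  have e1 : l'.prod = d * (l.erase b).prod := by
    rw [hprod d l' hl'.comm hl'.left_mem]
    congr 1
    exact hp.prod_eq' (List.pairwise_of_forall_mem_list fun x hx y hy =>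
      hl'.comm x (List.mem_of_mem_erase hx) y (List.mem_of_mem_erase hy))
  have hP : d * l.prod = b * l'.prod := by
    rw [hprod b l hl.comm hl.left_mem, e1, ← mul_assoc, ← mul_assoc, hb.2.2.eq]
  set P := d * l.prod with hPdef
  have hPd : ∀ y ∈ D, Commute d y → Commute y P := by
    intro y hy hdy
    by_cases e : y = d
    · subst e
      exact (Commute.refl y).mul_right
        (Commute.list_prod_right _ _ fun p hp => (hl.near_mem p hp).2.2)
    · exact hdy.symm.mul_right (hl.central y ⟨hy, e, hdy⟩)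
  have hPb : ∀ y ∈ D, Commute b y → Commute y P := by
    intro y hy hby
    rw [hP]
    by_cases e : y = b
    · subst e
      exact (Commute.refl y).mul_right
        (Commute.list_prod_right _ _ fun p hp => (hl'.near_mem p hp).2.2)
    · exact hby.symm.mul_right (hl'.central y ⟨hy, e, hby⟩)
  -- some member commutes with `b` and not with `d`
  obtain ⟨u, hu, hbu, hdu⟩ : ∃ u ∈ D, Commute b u ∧ ¬ Commute d u := by
    by_contra hno
    push Not at hno
    refine no_central ht hprim hb.1 hdb fun y hy => (hno y hy.1 hy.2.2).symm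
  -- the members commuting with `P` form a block containing the component of `d`
  set M := centralizer ({P} : Set G)
  have hMmem : ∀ y, y ∈ M ↔ Commute y P := fun y => mem_centralizer_singleton_iff
  have hdM : d ∈ M := (hMmem d).mpr (hPd d hd (Commute.refl d))
  have huM : u ∈ M := (hMmem u).mpr (hPb u hu hbu)
  set Ed : Set G := {x | ∃ m ∈ M, m * d * m⁻¹ = x} with hEd
  have hEdD : ∀ x ∈ Ed, x ∈ D := by rintro _ ⟨m, -, rfl⟩; exact ht.conj m d hd
  have hEdC : ∀ x ∈ Ed, ∀ y ∈ D, Commute x y → y ∈ M := by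
    rintro _ ⟨m, hm, rfl⟩ y hy hxy
    have h1 : m⁻¹ * y * m⁻¹⁻¹ ∈ M := (hMmem _).mpr (hPd _ (ht.conj _ y hy) (by
      have := (Commute.conj_iff m⁻¹).mpr hxy
      rwa [show m⁻¹ * (m * d * m⁻¹) * m⁻¹⁻¹ = d by group] at this))
    have e : y = m * (m⁻¹ * y * m⁻¹⁻¹) * m⁻¹ := by group
    rw [e]; exact mul_mem (mul_mem hm h1) (inv_mem hm)
  have hnc : ∀ x ∈ Ed, ∀ y ∈ D, y ∈ M → ¬ Commute x y → y ∈ Ed := by
    rintro x ⟨m, hm, hmx⟩ y hy hyM hn
    have hxM : x ∈ M := hmx ▸ mul_mem (mul_mem hm hdM) (inv_mem hm)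
    have hxE : x ∈ D := hmx ▸ ht.conj m d hd
    refine ⟨x * y * m, mul_mem (mul_mem hxM hyM) hm, ?_⟩
    rw [show x * y * m * d * (x * y * m)⁻¹ = x * y * (m * d * m⁻¹) * y⁻¹ * x⁻¹ by group, hmx,
      ht.inv_self hy, ht.inv_self hxE]
    calc x * y * x * y * x = (x * y * x) * y * x := by group
      _ = (y * x * y) * y * x := by rw [ht.braid x hxE y hy hn]
      _ = y * x * (y * y) * x := by group
      _ = _ := by rw [ht.sq y hy, mul_one, mul_assoc, ht.sq x hxE, mul_one]
  have huEd : u ∈ Ed := hnc d ⟨1, one_mem _, by group⟩ u hu huM hdu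
  -- commutation stays inside the class
  have hclosed : ∀ x ∈ Ed, ∀ y ∈ D, Commute x y → y ∈ Ed := by
    have key : ∀ y ∈ near D d, y ∈ Ed := by
      obtain ⟨v, hv, hvu⟩ : ∃ v ∈ near D d, ¬ Commute v u := by
        by_contra h
        push Not at h
        -- `near d ⊆ near u` would make the commuting sets equal
        have hun : ∀ w ∈ near D d, w ≠ u := fun w hw e => hdu (e ▸ hw.2.2)
        set A : G → Set G := fun x => {w | w ∈ D ∧ w ≠ x ∧ Commute x w}
        have hsub : A d ⊆ A u := fun w hw => ⟨hw.1, hun w hw, (h w hw).symm⟩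
        have hcard : (A u).ncard ≤ (A d).ncard := by
          obtain ⟨k, hk⟩ := hprim.1 u hu d hd
          refine Set.ncard_le_ncard_of_injOn (fun w => k * w * k⁻¹) ?_
            (fun x _ y _ e => mul_left_cancel (mul_right_cancel e)) (Set.toFinite _)
          intro w hw
          refine ⟨ht.conj k w hw.1,
            fun e => hw.2.1 (mul_left_cancel (mul_right_cancel (e.trans hk.symm))), ?_⟩
          have := (Commute.conj_iff k).mpr hw.2.2
          rwa [hk] at this
        have heq : A d = A u := Set.eq_of_subset_of_ncard_le hsub hcard (Set.toFinite _)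
        -- this makes `{x | A x = A d}` a block
        set B : Set G := {x | x ∈ D ∧ A x = A d} with hB
        have hA : ∀ (g x : G), A (g * x * g⁻¹) = (fun w => g * w * g⁻¹) '' A x := by
          intro g x
          ext w
          constructor
          · intro hw
            refine ⟨g⁻¹ * w * g⁻¹⁻¹, ⟨ht.conj _ w hw.1, fun e => hw.2.1 (by rw [← e]; group), ?_⟩,
              by group⟩
            have := (Commute.conj_iff g⁻¹).mpr hw.2.2
            rwa [show g⁻¹ * (g * x * g⁻¹) * g⁻¹⁻¹ = x by group] at this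
          · rintro ⟨w', hw', rfl⟩
            exact ⟨ht.conj g w' hw'.1,
              fun e => hw'.2.1 (mul_left_cancel (mul_right_cancel e)),
              (Commute.conj_iff g).mpr hw'.2.2⟩
        have hblock : ∀ g : G, (fun x => g * x * g⁻¹) '' B = B ∨
            Disjoint ((fun x => g * x * g⁻¹) '' B) B := by
          intro g
          by_cases hdj : Disjoint ((fun x => g * x * g⁻¹) '' B) B
          · exact Or.inr hdj
          left
          obtain ⟨z, ⟨x, hx, rfl⟩, hz⟩ := Set.not_disjoint_iff.mp hdj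
          have hfix : (fun w => g * w * g⁻¹) '' A d = A d := by
            conv_lhs => rw [← hx.2, ← hA, hz.2]
          apply Set.Subset.antisymm
          · rintro _ ⟨w, hw, rfl⟩
            exact ⟨ht.conj g w hw.1, by rw [hA, hw.2, hfix]⟩
          · intro w hw
            refine ⟨g⁻¹ * w * g⁻¹⁻¹, ⟨ht.conj g⁻¹ w hw.1, ?_⟩, by group⟩
            apply (Set.image_injective.mpr
              (show Function.Injective fun w => g * w * g⁻¹ from
                fun a b e => mul_left_cancel (mul_right_cancel e)))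
            show (fun w => g * w * g⁻¹) '' A _ = (fun w => g * w * g⁻¹) '' A d
            rw [← hA, show g * (g⁻¹ * w * g⁻¹⁻¹) * g⁻¹ = w by group, hw.2, hfix]
        rcases hprim.2.2 B (fun x hx => hx.1) hblock with hs | hall
        · exact hdu ((hs ⟨hd, rfl⟩ ⟨hu, heq.symm⟩) ▸ Commute.refl d)
        · have hbB : b ∈ B := by rw [hall]; exact hb.1
          have : b ∈ A d := ⟨hb.1, hb.2.1, hb.2.2⟩
          rw [← hbB.2] at this
          exact this.2.1 rfl
      have hvM : v ∈ M := hEdC d ⟨1, one_mem _, by group⟩ v hv.1 hv.2.2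
      have hvE : v ∈ Ed := hnc u huEd v hv.1 hvM fun h => hvu h.symm
      -- all of `near d` is one orbit of `loc D d`
      intro y hy
      obtain ⟨k, hk, rfl⟩ := (hline d hd).2 v hv y hy
      obtain ⟨m, hm, rfl⟩ := hvE
      have hkM : k ∈ M := by
        have : loc D d ≤ M := (closure_le _).mpr fun w hw =>
          hEdC d ⟨1, one_mem _, by group⟩ w hw.1 hw.2.2
        exact this hk
      exact ⟨k * m, mul_mem hkM hm, by group⟩
    rintro _ ⟨m, hm, rfl⟩ y hy hxy
    by_cases e : y = m * d * m⁻¹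
    · exact ⟨m, hm, e.symm⟩
    · have h1 : m⁻¹ * y * m⁻¹⁻¹ ∈ near D d := by
        refine ⟨ht.conj _ y hy, fun h => e (by rw [← h]; group), ?_⟩
        have := (Commute.conj_iff m⁻¹).mpr hxy
        rwa [show m⁻¹ * (m * d * m⁻¹) * m⁻¹⁻¹ = d by group] at this
      obtain ⟨m', hm', hm''⟩ := key _ h1
      exact ⟨m * m', mul_mem hm hm', by
        rw [show m * m' * d * (m * m')⁻¹ = m * (m' * d * m'⁻¹) * m⁻¹ by group, hm'']; group⟩
  -- the component of `d` in the commuting graph is a block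
  set R : G → G → Prop := fun x y => x ∈ D ∧ y ∈ D ∧ Commute x y with hR
  have hRsymm : ∀ x y, Relation.ReflTransGen R x y → Relation.ReflTransGen R y x := by
    intro x y h
    induction h with
    | refl => exact .refl
    | tail _ h2 ih => exact Relation.ReflTransGen.head ⟨h2.2.1, h2.1, h2.2.2.symm⟩ ih
  set C : Set G := {x | Relation.ReflTransGen R d x} with hC
  have hCE : C ⊆ Ed := by
    intro x hx
    induction hx with
    | refl => exact ⟨1, one_mem _, by group⟩
    | tail _ h2 ih => exact hclosed _ ih _ h2.2.1 h2.2.2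
  have hblock : ∀ g : G, (fun x => g * x * g⁻¹) '' C = C ∨
      Disjoint ((fun x => g * x * g⁻¹) '' C) C := by
    intro g
    by_cases hdj : Disjoint ((fun x => g * x * g⁻¹) '' C) C
    · exact Or.inr hdj
    left
    obtain ⟨z, ⟨x, hx, rfl⟩, hz⟩ := Set.not_disjoint_iff.mp hdj
    have hmap : ∀ k p q : G, Relation.ReflTransGen R p q →
        Relation.ReflTransGen R (k * p * k⁻¹) (k * q * k⁻¹) := fun k p q h =>
      h.lift (fun w => k * w * k⁻¹) fun a b hab =>
        ⟨ht.conj k a hab.1, ht.conj k b hab.2.1, (Commute.conj_iff k).mpr hab.2.2⟩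
    apply Set.Subset.antisymm
    · rintro _ ⟨y, hy, rfl⟩
      exact hz.trans (hmap g x y ((hRsymm _ _ hx).trans hy))
    · intro w hw
      refine ⟨g⁻¹ * w * g⁻¹⁻¹, ?_, by group⟩
      have := hmap g⁻¹ _ _ ((hRsymm _ _ hz).trans hw)
      rw [show g⁻¹ * (g * x * g⁻¹) * g⁻¹⁻¹ = x by group] at this
      exact hx.trans this
  refine eq_one_of_central ht hZ fun y hy => (hMmem y).mp ?_
  rcases hprim.2.2 C (fun x hx => hEdD x (hCE hx)) hblock with hs | hall
  · exact absurd (hs Relation.ReflTransGen.refl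
      (Relation.ReflTransGen.single ⟨hd, hb.1, hb.2.2⟩)).symm hb.2.1
  · obtain ⟨m, hm, rfl⟩ := hCE (hall.ge hy)
    exact mul_mem (mul_mem hm hdM) (inv_mem hm)

end Cfsg.Agent.ThreeTransLine
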