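import Cfsg.Agent.Lib.ThreeTransLine
import Cfsg.Agent.Lib.ComponentsBasic
import Cfsg.Agent.Lib.ThreeTransM22Hyperoval72
import Cfsg.Agent.S5354
import Cfsg.Agent.S5463

/-!
# Local structure and simplicity for type M(22)
-/

set_option autoImplicit false
set_option linter.unusedSectionVars false
set_option linter.style.haveILetI false

namespace Cfsg.Agent.ThreeTransM22Local72

open Subgroup Cfsg.Agent.ThreeTransRel Cfsg.Agent.ThreeTransDescent
open Cfsg.Agent.UnitaryF4Geo Cfsg.Agent.UnitaryF4Line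

variable {G : Type*} [Group G] [Finite G] {D : Set G}
variable {F : Type} [Field F] [Fintype F] [hF : FourField F]

local notation "π" => QuotientGroup.mk' (Subgroup.center (Cfsg.SU 6 F 2))

/-- A map of the local group at `d` onto `PSU₆(2)` with the properties used below. -/
structure Chart (D : Set G) (d : G) (φ : ↥(loc D d) →* Cfsg.PSU 6 F 2) : Prop where
  surj : Function.Surjective φ
  one : ∀ x : ↥(loc D d), φ x = 1 ↔ ∀ y ∈ near D d, Commute y (x : G)
  refl : ∀ p q : ↥(loc D d), (p : G) ∈ near D d → (q : G) ∈ near D d →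
      Commute (φ p) (φ q) → Commute (p : G) (q : G)
  inj : ∀ p q : ↥(loc D d), (p : G) ∈ near D d → (q : G) ∈ near D d → φ p = φ q → p = q
  three : IsThree (φ '' {x | (x : G) ∈ near D d})

theorem chart_of_iso (ht : TSys D) (hprim : Cfsg.IsPrimitiveUnderConj D) {d : G} (hd : d ∈ D)
    (e : ↥(loc D d) ⧸ Subgroup.center ↥(loc D d) ≃* Cfsg.PSU 6 F 2) :
    ∃ φ : ↥(loc D d) →* Cfsg.PSU 6 F 2, Chart D d φ := by
  have hU := ThreeTransPairs.psu6Simple F hF.card_eq
  haveI := hU.1
  set φ : ↥(loc D d) →* Cfsg.PSU 6 F 2 := e.toMonoidHom.comp (QuotientGroup.mk' _) with hφ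
  have hone : ∀ x : ↥(loc D d), φ x = 1 ↔ ∀ y ∈ near D d, Commute y (x : G) := fun x =>
    (map_eq_one_iff e e.injective).trans (mk_eq_one_iff x)
  have hsurj : Function.Surjective φ := e.surjective.comp (QuotientGroup.mk'_surjective _)
  have hrefl : ∀ p q : ↥(loc D d), (p : G) ∈ near D d → (q : G) ∈ near D d →
      Commute (φ p) (φ q) → Commute (p : G) (q : G) := by
    intro p q hp hq hpq
    by_contra hn
    have e1 : φ (p * q * p) = φ q := by
      rw [map_mul, map_mul, hpq.eq, mul_assoc, ← map_mul φ p p,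
        show p * p = 1 from Subtype.ext (ht.sq _ hp.1), map_one, mul_one]
    rw [show p * q * p = q * p * q from Subtype.ext (ht.braid _ hp.1 _ hq.1 hn), map_mul] at e1
    have e2 : φ (q * p) = 1 := mul_eq_right.mp e1
    rw [hone] at e2
    have e3 := e2 p hp
    apply hn
    have e4 : (p : G) * ((q : G) * p) * (p : G)⁻¹ = (q : G) * p := mul_inv_eq_iff_eq_mul.mpr e3.eq
    show (p : G) * q = q * p
    rw [← e4]; group
  refine ⟨φ, hsurj, hone, hrefl, ?_, ?_⟩
  · intro p q hp hq hpq
    by_contra hne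
    exact ThreeTransLine.no_central ht hprim hd hp
      (fibre ht hp hq (fun h => hne (Subtype.ext h)) (hrefl p q hp hq (hpq ▸ Commute.refl _))
        (e.injective hpq))
  · refine ⟨?_, ?_, ?_, ?_, ?_⟩
    · rintro _ ⟨x, hx, rfl⟩
      rw [← map_mul, show x * x = 1 from Subtype.ext (ht.sq _ hx.1), map_one]
    · rintro _ ⟨x, hx, rfl⟩ h1
      exact ThreeTransLine.no_central ht hprim hd hx ((hone x).mp h1)
    · rintro _ ⟨x, hx, rfl⟩ _ ⟨y, hy, rfl⟩ hn
      rw [← map_mul, ← map_mul, ← map_mul, ← map_mul]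
      exact congrArg φ (Subtype.ext (ht.braid _ hx.1 _ hy.1 fun h =>
        hn ((show Commute x y from Subtype.ext h).map φ)))
    · intro g x hx
      obtain ⟨g, rfl⟩ := hsurj g
      obtain ⟨x, hx, rfl⟩ := hx
      exact ⟨g * x * g⁻¹, near_conj ht (commute_d_of_mem_loc g.2).symm hx, by simp⟩
    · by_contra hne
      rw [Set.not_nonempty_iff_eq_empty, Set.image_eq_empty] at hne
      have hbot : loc D d = ⊥ := eq_bot_iff.mpr ((closure_le _).mpr fun y hy =>
        (Set.notMem_empty (⟨y, near_le_loc hy⟩ : ↥(loc D d))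
          (hne ▸ (show (⟨y, near_le_loc hy⟩ : ↥(loc D d)) ∈ {x : ↥(loc D d) | (x : G) ∈ near D d}
            from hy))).elim)
      obtain ⟨a, ha⟩ := exists_ne (1 : Cfsg.PSU 6 F 2)
      obtain ⟨x, rfl⟩ := hsurj a
      exact ha (by rw [show x = 1 from Subtype.ext (mem_bot.mp (hbot.le x.2)), map_one])

variable {d : G} {φ : ↥(loc D d) →* Cfsg.PSU 6 F 2}

theorem Chart.lift (C : Chart D d φ) {u : Fin 6 → F} (hu : h u u = 0) (hu0 : u ≠ 0) :
    ∃ x : G, ∃ hx : x ∈ near D d, φ ⟨x, near_le_loc hx⟩ = π (T u hu) := by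
  obtain ⟨x, hx, e⟩ := transvection_mem (by norm_num) C.three hu hu0
  exact ⟨x, hx, e⟩

theorem Chart.orth (C : Chart D d φ) {x y : G} (hx : x ∈ near D d) (hy : y ∈ near D d)
    {u v : Fin 6 → F} (hu : h u u = 0) (hv : h v v = 0) (hu0 : u ≠ 0)
    (ex : φ ⟨x, near_le_loc hx⟩ = π (T u hu)) (ey : φ ⟨y, near_le_loc hy⟩ = π (T v hv)) :
    Commute x y ↔ h u v = 0 := by
  constructor
  · intro hc
    refine orth_of_commute hu hv hu0 (commute_of_mk (by norm_num) (T_sq _ _) (T_sq _ _) ?_)
    rw [← ex, ← ey]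
    exact (show Commute (⟨x, near_le_loc hx⟩ : ↥(loc D d)) ⟨y, near_le_loc hy⟩ from
      Subtype.ext hc.eq).map φ
  · intro h0
    refine C.refl ⟨x, near_le_loc hx⟩ ⟨y, near_le_loc hy⟩ hx hy ?_
    rw [ex, ey]
    exact (T_commute hu hv h0).map π

theorem Chart.eq_iff (C : Chart D d φ) {x y : G} (hx : x ∈ near D d) (hy : y ∈ near D d)
    {u v : Fin 6 → F} (hu : h u u = 0) (hv : h v v = 0) (hu0 : u ≠ 0)
    (ex : φ ⟨x, near_le_loc hx⟩ = π (T u hu)) (ey : φ ⟨y, near_le_loc hy⟩ = π (T v hv)) :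
    x = y → ∃ c : F, u = c • v := by
  rintro rfl
  obtain ⟨c, -, e⟩ := T_inj hu hv hu0
    (eq_of_mk_eq (by norm_num) (T_sq _ _) (T_sq _ _) (ex.symm.trans ey))
  exact ⟨c, e⟩

/-- Only `1` and `a` commute with `a` and with all members near it. -/
theorem centre_gen (hD : Cfsg.IsThreeTranspositionGroup D) (hprim : Cfsg.IsPrimitiveUnderConj D)
    (hZ : Subgroup.center G = ⊥) (hd : d ∈ D) (C : Chart D d φ) :
    ∃ a ∈ D, ∀ z : G, Commute a z → (∀ y ∈ near D a, Commute y z) → z = 1 ∨ z = a := by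
  have ht : TSys D := tsys_of_group hD
  obtain ⟨u, v, -, -, ⟨huv, hu0, hv0⟩, -⟩ := ThreeTransM22Hyperoval72.exists_ovals (F := F)
  obtain ⟨a, ha, ea⟩ := C.lift u.2 hu0
  obtain ⟨c, hc, ec⟩ := C.lift v.2 hv0
  refine ⟨a, ha.1, fun z hza hzc => ?_⟩
  have hac : ¬ Commute a c := fun e => huv ((C.orth ha hc u.2 v.2 hu0 ea ec).mp e)
  have hda : d ∈ near D a := ⟨hd, ha.2.1.symm, ha.2.2.symm⟩
  have hzd : Commute z d := (hzc d hda).symm
  have hc' : z * c * z⁻¹ ∈ near D d := near_conj ht hzd hc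
  obtain ⟨w, hw, hw0, ew⟩ := exists_transvection (by norm_num) C.three
    (x := φ ⟨_, near_le_loc hc'⟩) ⟨_, hc', rfl⟩
  have hspan : w ∈ Submodule.span F ({u.1, v.1} : Set (Fin 6 → F)) := by
    refine mem_span_of_perp le_rfl u.2 v.2 fun g hg hgu hgv => ?_
    by_cases hg0 : g = 0
    · subst hg0; exact h_zero_left w
    obtain ⟨p, hp, ep⟩ := C.lift hg hg0
    have hpa : Commute p a := (C.orth hp ha hg u.2 hg0 ep ea).mpr hgu
    have hpc : Commute p c := (C.orth hp hc hg v.2 hg0 ep ec).mpr hgv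
    have hpn : p ∈ near D a := ⟨hp.1, fun e => hac (e ▸ hpc), hpa.symm⟩
    have hzp : z * p * z⁻¹ = p := mul_inv_eq_iff_eq_mul.mpr (hzc p hpn).symm.eq
    refine (C.orth hp hc' hg hw hg0 ep ew.symm).mp ?_
    have := (Commute.conj_iff z).mpr hpc
    rwa [hzp] at this
  obtain ⟨s, t, rfl⟩ := Submodule.mem_span_pair.mp hspan
  have hfix : ∀ z' : G, (∀ y ∈ near D a, Commute y z') → Commute a z' → Commute c z' → z' = 1 := by
    intro z' h1 h2 h3
    have hK := ((S5354.result hD hprim ⟨d, hd, a, ha.1, ha.2.1.symm, ha.2.2⟩).2.2 a ha.1).2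
    set K := Subgroup.closure {y : G | y ∈ D ∧ Commute a y} with hKdef
    have hKle : K ≤ Subgroup.centralizer ({a} : Set G) := (closure_le _).mpr fun y hy =>
      mem_centralizer_singleton_iff.mpr hy.2.symm.eq
    set H' := Subgroup.closure (insert c {y : G | y ∈ D ∧ Commute a y}) with hH'
    have hDsub : Cfsg.IsDSubgroup D H' := by
      refine le_antisymm ((closure_le _).mpr fun y hy => hy.2) ((closure_le _).mpr fun y hy => ?_)
      refine subset_closure ⟨?_, subset_closure hy⟩
      rcases hy with rfl | hy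
      · exact hc.1
      · exact hy.1
    rcases hK H' hDsub (closure_mono (Set.subset_insert _ _)) with e | e
    · exact absurd (mem_centralizer_singleton_iff.mp
        (hKle (e ▸ subset_closure (Set.mem_insert _ _)))) (fun h => hac h.symm)
    have hle : H' ≤ Subgroup.centralizer ({z'} : Set G) := by
      refine (closure_le _).mpr fun y hy => mem_centralizer_singleton_iff.mpr ?_
      rcases hy with rfl | hy
      · exact h3.eq
      by_cases hya : y = a
      · exact hya ▸ h2.eq
      · exact (h1 y ⟨hy.1, hya, hy.2⟩).eq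
    rw [← mem_bot, ← hZ, mem_center_iff]
    exact fun g => mem_centralizer_singleton_iff.mp (hle (e ▸ mem_top g))
  by_cases hs : s = 0
  · left
    have ht0 : t ≠ 0 := fun e => hw0 (by rw [hs, e, zero_smul, zero_smul, add_zero])
    have e1 : T (s • u.1 + t • v.1) hw = T v.1 v.2 := by
      rw [T_congr (show s • u.1 + t • v.1 = t • v.1 by rw [hs, zero_smul, zero_add]) hw
        (by rw [h_smul_left, h_smul_right, v.2, mul_zero, mul_zero]), T_smul ht0 v.2]
    have e2 : z * c * z⁻¹ = c := congrArg Subtype.val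
      (C.inj ⟨_, near_le_loc hc'⟩ ⟨c, near_le_loc hc⟩ hc' hc (by rw [← ew, e1, ec]))
    exact hfix z hzc hza (show Commute c z from (mul_inv_eq_iff_eq_mul.mp e2).symm)
  by_cases ht0 : t = 0
  · exfalso
    have e1 : T (s • u.1 + t • v.1) hw = T u.1 u.2 := by
      rw [T_congr (show s • u.1 + t • v.1 = s • u.1 by rw [ht0, zero_smul, add_zero]) hw
        (by rw [h_smul_left, h_smul_right, u.2, mul_zero, mul_zero]), T_smul hs u.2]
    have e2 : z * c * z⁻¹ = a := congrArg Subtype.val
      (C.inj ⟨_, near_le_loc hc'⟩ ⟨a, near_le_loc ha⟩ hc' ha (by rw [← ew, e1, ea]))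
    have e3 : z * a * z⁻¹ = a := mul_inv_eq_iff_eq_mul.mpr hza.symm.eq
    have e4 := mul_left_cancel (mul_right_cancel (e2.trans e3.symm))
    exact hac (e4 ▸ Commute.refl a)
  right
  -- the third point of the line through `a` and `c`
  have hk : t⁻¹ * s = h v.1 u.1 := by
    have h0 := hw
    simp only [h_add_left, h_add_right, h_smul_left, h_smul_right, u.2, v.2, mul_zero, zero_add,
      add_zero, h_symm u.1 v.1] at h0
    have h1 : (s * t * h u.1 v.1) * (t + s * h u.1 v.1) = 0 := by linear_combination h0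
    have h2 := (mul_eq_zero.mp h1).resolve_left (mul_ne_zero (mul_ne_zero hs ht0) huv)
    have h3 : t = s * h u.1 v.1 := eq_of_add_eq_zero h2
    rw [h_symm u.1 v.1, h3, mul_inv, mul_comm s⁻¹, mul_assoc, inv_mul_cancel₀ hs, mul_one]
    exact inv_eq_of_mul_eq_one_right (by rw [← pow_succ']; exact cube huv)
  have hconj : a * c * a⁻¹ ∈ near D d := near_conj ht ha.2.2.symm hc
  have e1 : φ ⟨_, near_le_loc hconj⟩ = φ ⟨_, near_le_loc hc'⟩ := by
    have : (⟨_, near_le_loc hconj⟩ : ↥(loc D d)) = ⟨a, near_le_loc ha⟩ * ⟨c, near_le_loc hc⟩ *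
      ⟨a, near_le_loc ha⟩⁻¹ := rfl
    rw [this, map_mul, map_mul, map_inv, ea, ec, ← map_inv, ← map_mul, ← map_mul, T_conj, ← ew]
    refine congrArg π ?_
    have e2 : s • u.1 + t • v.1 = t • (OrthUnitaryTransvection.act (T u.1 u.2) v.1) := by
      rw [T_act, smul_add, smul_smul, ← hk, mul_inv_cancel_left₀ ht0, add_comm]
    exact ((T_congr e2 hw (e2 ▸ hw)).trans (T_smul ht0 _ _)).symm
  have e2 : a * c * a⁻¹ = z * c * z⁻¹ := congrArg Subtype.val
    (C.inj _ _ hconj hc' e1)
  have hfix' : a⁻¹ * z = 1 := by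
    refine hfix _ (fun y hy => (hy.2.2.symm.inv_right).mul_right (hzc y hy))
      ((Commute.refl a).inv_right.mul_right hza) ?_
    show c * (a⁻¹ * z) = a⁻¹ * z * c
    calc c * (a⁻¹ * z) = a⁻¹ * (a * c * a⁻¹) * z := by group
      _ = a⁻¹ * (z * c * z⁻¹) * z := by rw [e2]
      _ = a⁻¹ * z * c := by group
  exact (inv_mul_eq_one.mp hfix').symm

/-- Only `1` and `a` centralize the local group at a member `a` near `d`. -/
theorem centre_eq (hD : Cfsg.IsThreeTranspositionGroup D) (hprim : Cfsg.IsPrimitiveUnderConj D)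
    (hZ : Subgroup.center G = ⊥) (hd : d ∈ D) (C : Chart D d φ) :
    ∃ a ∈ D, ∀ z ∈ loc D a, (∀ y ∈ near D a, Commute y z) → z = 1 ∨ z = a := by
  obtain ⟨a, ha, h⟩ := centre_gen hD hprim hZ hd C
  exact ⟨a, ha, fun z hz => h z (commute_d_of_mem_loc hz)⟩

/-- Type M(22): the local groups are quasisimple with centre generated by the member, and the group is
simple. -/
theorem main (hD : Cfsg.IsThreeTranspositionGroup D) (hprim : Cfsg.IsPrimitiveUnderConj D)
    (h22 : Cfsg.IsOfTypeM22 G D) :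
    IsSimpleGroup G ∧ ∀ s ∈ D, s ∈ loc D s ∧ Cfsg.IsQuasisimple ↥(loc D s) ∧
      Subgroup.center ↥(loc D s) = (Subgroup.zpowers s).subgroupOf (loc D s) := by
  classical
  have ht : TSys D := tsys_of_group hD
  have hline := ThreeTransLine.lineAt_all ht hprim h22
  obtain ⟨hZ, d, hd, -, -, -, ⟨F, _, _, hF, ⟨e⟩⟩, -⟩ := h22
  haveI : FourField F := ⟨hF⟩
  obtain ⟨φ, C⟩ := chart_of_iso ht hprim hd e
  have hU := ThreeTransPairs.psu6Simple F hF
  haveI := hU.1
  -- transport along conjugation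
  have hnearmap : ∀ g s : G, (MulAut.conj g) '' near D s = near D (g * s * g⁻¹) := by
    intro g s
    refine Set.ext fun y => ⟨?_, fun hy => ⟨g⁻¹ * y * g, ?_, by simp [mul_assoc]⟩⟩
    · rintro ⟨x, hx, rfl⟩
      exact ⟨ht.conj g x hx.1, fun e => hx.2.1 (mul_left_cancel (mul_right_cancel e)),
        (Commute.conj_iff g).mpr hx.2.2⟩
    · have := ht.conj g⁻¹ y hy.1
      rw [inv_inv] at this
      refine ⟨this, fun e => hy.2.1 (by rw [← e]; group), (Commute.conj_iff g).mp ?_⟩
      rw [show g * (g⁻¹ * y * g) * g⁻¹ = y by group]; exact hy.2.2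
  obtain ⟨a, ha, hca⟩ := centre_eq hD hprim hZ hd C
  have hcentre : ∀ s ∈ D, ∀ z ∈ loc D s, (∀ y ∈ near D s, Commute y z) → z = 1 ∨ z = s := by
    intro s hs z hz hzc
    obtain ⟨g, hg⟩ := hprim.1 s hs a ha
    have hz' : g * z * g⁻¹ ∈ loc D a := by
      have := mem_map_of_mem (MulAut.conj g).toMonoidHom hz
      rw [loc, MonoidHom.map_closure] at this
      rw [← hg, loc, ← hnearmap]
      exact this
    rcases hca _ hz' (fun y hy => by
      rw [← hg, ← hnearmap] at hy
      obtain ⟨x, hx, rfl⟩ := hy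
      exact (Commute.conj_iff g).mpr (hzc x hx)) with e | e
    · exact Or.inl (conj_eq_one_iff.mp e)
    · rw [← hg] at e; exact Or.inr (mul_left_cancel (mul_right_cancel e))
  -- three points and their completions
  obtain ⟨-, -, S, b, -, hblen, hSlen, horth, hpw, hnz, hprod, p₁, hp₁, hp₁'⟩ :=
    ThreeTransM22Hyperoval72.exists_ovals (F := F)
  have hlift : ∀ p : {u : Fin 6 → F // h u u = 0}, ∃ x : G, p.1 ≠ 0 →
      ∃ hx : x ∈ near D d, φ ⟨x, near_le_loc hx⟩ = QuotientGroup.mk' _ (T p.1 p.2) := by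
    intro p
    by_cases hp : p.1 = 0
    · exact ⟨1, fun h => (h hp).elim⟩
    · obtain ⟨x, hx, ex⟩ := C.lift p.2 hp; exact ⟨x, fun _ => ⟨hx, ex⟩⟩
  choose L hL using hlift
  have hne : ∀ k, ∀ p ∈ b ++ S k, ∀ q ∈ b ++ S k, (∀ c : F, p.1 ≠ c • q.1) → L p ≠ L q := by
    intro k p hp q hq hc e
    obtain ⟨hx, ex⟩ := hL p (hnz k p hp)
    obtain ⟨hy, ey⟩ := hL q (hnz k q hq)
    obtain ⟨c, hc'⟩ := C.eq_iff hx hy p.2 q.2 (hnz k p hp) ex ey e
    exact hc c hc'
  have hCL : ∀ k, CList D ((b ++ S k).map L) := by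
    intro k
    refine ⟨fun x hx => ?_, ?_, fun x hx y hy => ?_⟩
    · obtain ⟨p, hp, rfl⟩ := List.mem_map.mp hx; exact (hL p (hnz k p hp)).1.1
    · exact List.pairwise_map.mpr ((hpw k).imp_of_mem fun hp hq hpq => hne k _ hp _ hq hpq)
    · obtain ⟨p, hp, rfl⟩ := List.mem_map.mp hx
      obtain ⟨q, hq, rfl⟩ := List.mem_map.mp hy
      exact (C.orth (hL p (hnz k p hp)).1 (hL q (hnz k q hq)).1 p.2 q.2 (hnz k p hp)
        (hL p (hnz k p hp)).2 (hL q (hnz k q hq)).2).mpr (horth k p hp q hq)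
  -- every member lies in its local group
  have hpair : ∀ s ∈ D, ∃ p ∈ near D s, ∃ q ∈ near D s, p ≠ q ∧ Commute p q := by
    intro s hs
    obtain ⟨g, hg⟩ := hprim.1 d hd s hs
    obtain ⟨x, y, z, hxyz⟩ := List.length_eq_three.mp hblen
    have hmx : x ∈ b ++ S true := by simp [hxyz]
    have hmy : y ∈ b ++ S true := by simp [hxyz]
    have hxy : ∀ c : F, x.1 ≠ c • y.1 := by
      have := hpw true
      rw [hxyz, List.cons_append] at this
      exact (List.pairwise_cons.mp this).1 y (by simp)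
    refine ⟨g * L x * g⁻¹, ?_, g * L y * g⁻¹, ?_,
      fun e => hne true x hmx y hmy hxy (mul_left_cancel (mul_right_cancel e)),
      (Commute.conj_iff g).mpr ((hCL true).comm _ (List.mem_map_of_mem hmx) _
        (List.mem_map_of_mem hmy))⟩
    · rw [← hg, ← hnearmap]; exact ⟨L x, (hL x (hnz true x hmx)).1, rfl⟩
    · rw [← hg, ← hnearmap]; exact ⟨L y, (hL y (hnz true y hmy)).1, rfl⟩
  have hmem : ∀ s ∈ D, s ∈ loc D s := by
    intro s hs
    obtain ⟨p, hp, q, hq, hpq, hc⟩ := hpair s hs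
    obtain ⟨l, hl⟩ := (hline s hs).1 p hp q hq hc hpq
    have h6 := ThreeTransLine.six ht hprim hZ hline hs hl hp hq hc hpq
    have hin : l.prod⁻¹ ∈ loc D s :=
      inv_mem (list_prod_mem fun x hx => near_le_loc (hl.near_mem x hx))
    rwa [← eq_inv_of_mul_eq_one_left h6] at hin
  have hcen : ∀ s ∈ D, Subgroup.center ↥(loc D s) = (Subgroup.zpowers s).subgroupOf (loc D s) := by
    intro s hs
    refine le_antisymm (fun z hz => ?_) (fun z hz => ?_)
    · rw [mem_subgroupOf]
      rcases hcentre s hs z z.2 (fun y hy =>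
        congrArg Subtype.val (mem_center_iff.mp hz ⟨y, near_le_loc hy⟩)) with e | e
      · rw [e]; exact one_mem _
      · rw [e]; exact mem_zpowers s
    · obtain ⟨k, hk⟩ := mem_zpowers_iff.mp (mem_subgroupOf.mp hz)
      refine mem_center_iff.mpr fun x => Subtype.ext ?_
      show (x : G) * z = z * x
      rw [← hk]
      exact ((commute_d_of_mem_loc x.2).symm.zpow_right k).eq
  -- the local group at `d` is perfect
  have hperf : commutator ↥(loc D d) = ⊤ := by
    by_contra hM
    set M := commutator ↥(loc D d) with hMdef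
    set χ := QuotientGroup.mk' M with hχ
    set dd : ↥(loc D d) := ⟨d, hmem d hd⟩ with hdd
    have hχcomm : ∀ g x, χ (g * x * g⁻¹) = χ x := fun g x => by
      refine (QuotientGroup.mk'_eq_mk' _).mpr ⟨g * x⁻¹ * g⁻¹ * x, ?_, by group⟩
      rw [hMdef, _root_.commutator_def]
      have := commutator_mem_commutator (mem_top g) (mem_top x⁻¹)
      simpa [commutatorElement_def] using this
    have hker : ∀ x, φ x = 1 → x = 1 ∨ x = dd := by
      intro x hx
      rcases hcentre d hd x x.2 ((C.one x).mp hx) with e | e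
      · exact Or.inl (Subtype.ext e)
      · exact Or.inr (Subtype.ext e)
    have hφM : M.map φ = ⊤ := by
      rw [hMdef, _root_.commutator_def, Subgroup.map_commutator, map_top_of_surjective _ C.surj,
        ← _root_.commutator_def]
      rcases Subgroup.Normal.eq_bot_or_eq_top (H := commutator (Cfsg.PSU 6 F 2)) inferInstance with
        h0 | h0
      · exfalso
        obtain ⟨x, y, hxy⟩ := hU.2
        rw [_root_.commutator_def, Subgroup.commutator_eq_bot_iff_le_centralizer] at h0
        exact hxy ((mem_centralizer_iff.mp (h0 (mem_top y))) x (mem_top x))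
      · exact h0
    have hcase : ∀ x, χ x = 1 ∨ χ x = χ dd := by
      intro x
      obtain ⟨m, hm, hme⟩ := mem_map.mp (hφM ▸ mem_top (φ x) : φ x ∈ M.map φ)
      rcases hker (x * m⁻¹) (by rw [map_mul, map_inv, hme, mul_inv_cancel]) with e | e
      · left; rw [mul_inv_eq_one.mp e]; exact (QuotientGroup.eq_one_iff m).mpr hm
      · right
        rw [← e, map_mul, map_inv, show χ m = 1 from (QuotientGroup.eq_one_iff m).mpr hm, inv_one,
          mul_one]
    have hdd1 : χ dd ≠ 1 := by
      intro e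
      apply hM
      rw [← top_le_iff]
      intro x _
      refine (QuotientGroup.eq_one_iff x).mp ?_
      rcases hcase x with k | k
      · exact k
      · exact k.trans e
    have hy : ∀ y (hy : y ∈ near D d), χ ⟨y, near_le_loc hy⟩ = χ dd := by
      intro y hy
      refine (hcase _).resolve_left fun e1 => hdd1 ?_
      have hall : loc D d ≤ M.map (loc D d).subtype := (closure_le _).mpr fun x hx => by
        obtain ⟨g, hg, hgx⟩ := (hline d hd).2 y hy x hx
        refine mem_map.mpr ⟨⟨g, hg⟩ * ⟨y, near_le_loc hy⟩ * ⟨g, hg⟩⁻¹, ?_, hgx⟩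
        exact (QuotientGroup.eq_one_iff _).mp ((hχcomm _ _).trans e1)
      obtain ⟨m, hm, e⟩ := mem_map.mp (hall dd.2)
      rw [← show m = dd from Subtype.ext e]
      exact (QuotientGroup.eq_one_iff m).mpr hm
    have hsix : ∀ k, ((b ++ S k).map L).prod = 1 := by
      intro k
      set Lk : List ↥(loc D d) := (b ++ S k).attach.map fun p =>
        (⟨L p.1, near_le_loc (hL p.1 (hnz k p.1 p.2)).1⟩ : ↥(loc D d)) with hLk
      have e0 : (Lk.prod : G) = ((b ++ S k).map L).prod := by
        rw [Subgroup.val_list_prod, hLk, List.map_map]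
        exact congrArg List.prod (List.attach_map_val (l := b ++ S k) (f := L))
      have e1 : φ Lk.prod = 1 := by
        rw [map_list_prod, hLk, List.map_map]
        have : ((b ++ S k).attach.map (φ ∘ fun p =>
            (⟨L p.1, near_le_loc (hL p.1 (hnz k p.1 p.2)).1⟩ : ↥(loc D d)))) =
            ((b ++ S k).map fun p => T p.1 p.2).map (QuotientGroup.mk' _) := by
          rw [List.map_map, ← List.attach_map_val (l := b ++ S k)]
          exact List.map_congr_left fun p _ => (hL p.1 (hnz k p.1 p.2)).2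
        rw [this, ← map_list_prod, hprod k, map_one]
      have e2 : χ Lk.prod = χ dd ^ 6 := by
        rw [map_list_prod, hLk, List.map_map, List.prod_eq_pow_card _ (χ dd) (fun x hx => ?_)]
        · congr 1; simp [hblen, hSlen k]
        · obtain ⟨p, -, rfl⟩ := List.mem_map.mp hx
          exact hy _ (hL p.1 (hnz k p.1 p.2)).1
      have e3 : χ Lk.prod = 1 := by
        rw [e2, show 6 = 2 * 3 from rfl, pow_mul, pow_two, ← map_mul,
          show dd * dd = 1 from Subtype.ext (ht.sq d hd), map_one, one_pow]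
      rcases hker _ e1 with e | e
      · rw [← e0, e]; rfl
      · exact absurd (e ▸ e3) hdd1
    -- three triples with one product
    have hlen3 : ∀ k, ((S k).map L).length = 3 := fun k => by rw [List.length_map, hSlen k]
    have hsub : ∀ k, CList D ((S k).map L) := fun k =>
      (hCL k).sublist (by rw [List.map_append]; exact List.sublist_append_right ..)
    have hbC : CList D (b.map L) :=
      (hCL true).sublist (by rw [List.map_append]; exact List.sublist_append_left ..)
    have hpr : ∀ k, ((S k).map L).prod = (b.map L).prod := by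
      intro k
      have := hsix k
      rw [List.map_append, List.prod_append] at this
      rw [eq_inv_of_mul_eq_one_right this, inv_eq_of_mul_eq_one_right (hbC.prod_sq ht)]
    obtain ⟨l₂, -, -, -, -, hall⟩ :=
      S5463.two_triples ht hprim hZ hline hbC (by rw [List.length_map, hblen])
    have hout : ∀ k, ∀ p ∈ S k, L p ∉ b.map L := by
      intro k p hp hmem'
      have hnd := (hCL k).nodup
      rw [List.map_append, List.nodup_append] at hnd
      exact hnd.2.2 _ hmem' _ (List.mem_map_of_mem hp) rfl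
    have hl2 : ∀ k, ∀ x, x ∈ (S k).map L ↔ x ∈ l₂ := by
      intro k
      refine (hall _ (hsub k) (hlen3 k) (hpr k)).resolve_left fun h => ?_
      obtain ⟨p, hp⟩ := List.exists_mem_of_length_pos (l := S k) (by rw [hSlen k]; norm_num)
      exact hout k p hp ((h _).mp (List.mem_map_of_mem hp))
    obtain ⟨q, hq, hqe⟩ := List.mem_map.mp
      ((hl2 false _).mpr ((hl2 true _).mp (List.mem_map_of_mem (f := L) hp₁)))
    have hn1 := hnz true p₁ (List.mem_append_right _ hp₁)
    have hn2 := hnz false q (List.mem_append_right _ hq)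
    obtain ⟨c, hc⟩ := C.eq_iff (hL p₁ hn1).1 (hL q hn2).1 p₁.2 q.2 hn1 (hL p₁ hn1).2 (hL q hn2).2
      hqe.symm
    exact hp₁' q hq c hc
  haveI : Nontrivial (↥(loc D d) ⧸ Subgroup.center ↥(loc D d)) := e.toEquiv.nontrivial
  have hqs : Cfsg.IsQuasisimple ↥(loc D d) :=
    ⟨⟨hperf⟩, IsSimpleGroup.isSimpleGroup_of_surjective (H := ↥(loc D d) ⧸ Subgroup.center ↥(loc D d))
      e.symm.toMonoidHom e.symm.surjective⟩
  have hqall : ∀ s ∈ D, Cfsg.IsQuasisimple ↥(loc D s) := by
    intro s hs
    obtain ⟨g, hg⟩ := hprim.1 d hd s hs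
    have hm : (loc D d).map (MulAut.conj g).toMonoidHom = loc D s := by
      rw [loc, loc, MonoidHom.map_closure, ← hg, ← hnearmap]; rfl
    exact ComponentsBasic.isQuasisimple_of_mulEquiv
      (((loc D d).equivMapOfInjective _ (MulAut.conj g).injective).trans (MulEquiv.subgroupCongr hm)) hqs
  refine ⟨?_, fun s hs => ⟨hmem s hs, hqall s hs, hcen s hs⟩⟩
  obtain ⟨p, hp, q, hq, hpq, hc⟩ := hpair d hd
  obtain ⟨L', hn, hLq, hidx, -⟩ := (S5354.result hD hprim ⟨p, hp.1, q, hq.1, hpq, hc⟩).1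
  haveI := hn
  have hHL : ∀ s ∈ D, loc D s ≤ L' := by
    intro s hs x hx
    have hsub : commutator G ≤ L' := by
      rcases (show L'.index = 1 ∨ L'.index = 2 by
        have : L'.index ≠ 0 := Subgroup.index_ne_zero_of_finite
        omega) with k | k
      · rw [Subgroup.index_eq_one.mp k]; exact le_top
      · have hc2 : Nat.card (G ⧸ L') = 2 := k
        haveI : Fact (Nat.Prime 2) := ⟨Nat.prime_two⟩
        haveI : IsCyclic (G ⧸ L') := isCyclic_of_prime_card hc2
        exact (Subgroup.Normal.quotient_commutative_iff_commutator_le).mp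
          ⟨⟨fun a b => IsCyclic.commGroup.mul_comm a b⟩⟩
    refine hsub ?_
    have := (hqall s hs).1.commutator_eq_top
    have hx' : (⟨x, hx⟩ : ↥(loc D s)) ∈ commutator ↥(loc D s) := this ▸ mem_top _
    have := mem_map_of_mem (loc D s).subtype hx'
    rw [_root_.commutator_def, Subgroup.map_commutator] at this
    exact Subgroup.commutator_mono le_top le_top this
  have hLtop : L' = ⊤ := by
    rw [← top_le_iff, ← hD.2.2]
    exact (closure_le _).mpr fun s hs => hHL s hs (hmem s hs)
  subst hLtop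
  haveI := (ComponentsBasic.isQuasisimple_of_mulEquiv Subgroup.topEquiv hLq).2
  obtain ⟨a₁, -, b₁, -, hab₁⟩ := hprim.2.1
  haveI : Nontrivial G := ⟨a₁, b₁, hab₁⟩
  exact IsSimpleGroup.isSimpleGroup_of_surjective
    (((QuotientGroup.quotientMulEquivOfEq hZ).trans QuotientGroup.quotientBot) :
      G ⧸ Subgroup.center G ≃* G).toMonoidHom (MulEquiv.surjective _)

end Cfsg.Agent.ThreeTransM22Local72
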