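import Cfsg.Agent.Lib.OrthUnitarySimple
import Cfsg.Agent.Lib.OrthUnitaryPrelude
import Cfsg.Agent.Lib.ReflectionThree
import Cfsg.Agent.Lib.ComponentsFitting
import Cfsg.Prelude.Def_FischerSpaces

/-!
# The reflection groups over the field with three elements

In dimension at least five the group generated by the reflections of one norm has index two in the
isometry group, its derived group is quasisimple of index two, and that derived group lies in every
non-central normal subgroup.
-/

set_option autoImplicit false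
set_option linter.unusedSectionVars false
set_option linter.style.haveILetI false

namespace Cfsg.Agent.ReflectionThreeGroup

open Subgroup QuadraticMap Cfsg.Agent
open OrthUnitaryQuad OrthUnitaryRefl OrthUnitaryOmega OrthUnitaryCentre OrthUnitarySimple
open scoped commutatorElement

variable {n : ℕ} {Q : QuadraticForm (ZMod 3) (Fin n → ZMod 3)} {c : ZMod 3}

theorem two_ne : (2 : ZMod 3) ≠ 0 := by decide

/-- The reflection group as linear equivalences. -/
noncomputable def tGroup (Q : QuadraticForm (ZMod 3) (Fin n → ZMod 3)) (c : ZMod 3) :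
    Subgroup (orth Q) :=
  Subgroup.closure {g | ∃ v, ∃ hv : Q v ≠ 0, Q v = c ∧ g = refl Q v hv}

theorem map_reflectionSubgroup (hc : c ≠ 0) :
    (Cfsg.reflectionSubgroup (⇑Q) c).map (OrthUnitaryPrelude.iso Q).toMonoidHom = tGroup Q c := by
  rw [Cfsg.reflectionSubgroup, OrthUnitaryPrelude.map_closure, tGroup]
  congr 1
  ext g
  constructor
  · rintro ⟨x, ⟨v, hv, hx⟩, rfl⟩
    have h0 : Q v ≠ 0 := hv ▸ hc
    exact ⟨v, h0, hv, (OrthUnitaryPrelude.mat_eq_reflectionMatrix_iff x h0).mp hx⟩
  · rintro ⟨v, h0, hv, rfl⟩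
    refine ⟨(OrthUnitaryPrelude.iso Q).symm (refl Q v h0), ⟨v, hv, ?_⟩, by simp⟩
    exact (OrthUnitaryPrelude.mat_eq_reflectionMatrix_iff _ h0).mpr (by simp)

theorem refl_mem_tGroup {v : Fin n → ZMod 3} (hv : Q v ≠ 0) (h : Q v = c) :
    refl Q v hv ∈ tGroup Q c :=
  subset_closure ⟨v, hv, h, rfl⟩

instance tGroup_normal : (tGroup Q c).Normal := by
  refine ⟨fun x hx g => ?_⟩
  induction hx using Subgroup.closure_induction with
  | mem x hx =>
    obtain ⟨v, hv, h, rfl⟩ := hx
    rw [conj_refl]
    exact refl_mem_tGroup _ (by rw [map_orth g, h])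
  | one => simp [Subgroup.one_mem]
  | mul a b _ _ ha hb =>
    rw [show g * (a * b) * g⁻¹ = (g * a * g⁻¹) * (g * b * g⁻¹) by group]
    exact Subgroup.mul_mem _ ha hb
  | inv a _ ha =>
    rw [show g * a⁻¹ * g⁻¹ = (g * a * g⁻¹)⁻¹ by group]
    exact Subgroup.inv_mem _ ha

variable (hQ : (polarBilin Q).Nondegenerate) (hn : 5 ≤ n)

include hn in
theorem finrank_le : 5 ≤ Module.finrank (ZMod 3) (Fin n → ZMod 3) := by
  rwa [Module.finrank_fin_fun]

include hQ hn

theorem sGroup_quasisimple : Cfsg.IsQuasisimple (sGroup Q) := by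
  refine ⟨⟨?_⟩, isSimpleGroup_sGroup hQ (finrank_le hn)⟩
  rw [eq_top_iff]
  intro x _
  have hx : x.1 ∈ ⁅sGroup Q, sGroup Q⁆ := sGroup_le_bracket hQ (finrank_le hn) x.2
  rw [← Subgroup.map_subtype_commutator] at hx
  obtain ⟨y, hy, hyx⟩ := hx
  rwa [← Subtype.ext hyx]

theorem sGroup_perfect : ⁅sGroup Q, sGroup Q⁆ = sGroup Q :=
  ComponentsBasic.isQuasisimple_perfect (sGroup_quasisimple hQ hn)

theorem eq_one_or_neg {g : orth Q} (hg : ∀ k ∈ sGroup Q, g * k = k * g) :
    g = 1 ∨ g = negOne Q := by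
  have h3 : 3 ≤ Module.finrank (ZMod 3) (Fin n → ZMod 3) := by
    have := finrank_le hn
    omega
  obtain ⟨e, he, he0⟩ := exists_singular (isReg_of_nondegenerate hQ) h3
  refine eq_one_or_negOne_of_lines (isReg_of_nondegenerate hQ) he he0 h3 fun u hu =>
    exists_smul_of_commute hQ h3 (fun k hk => hg k ?_) hu
  rwa [commutator_eq_sGroup hQ (finrank_le hn)] at hk

theorem central_of_commute {g : orth Q} (hg : ∀ k ∈ sGroup Q, g * k = k * g) (x : orth Q) :
    x * g = g * x := by
  rcases eq_one_or_neg hQ hn hg with rfl | rfl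
  · rw [one_mul, mul_one]
  · exact orth_ext fun z => map_neg x.1 z

theorem exists_pair (hc : c ≠ 0) :
    ∃ v, ∃ hv : Q v ≠ 0, ∃ v', ∃ hv' : Q v' ≠ 0, Q v = c ∧ Q v' = c ∧
      (refl Q v hv * refl Q v' hv' ≠ 1) ∧ refl Q v hv * refl Q v' hv' ≠ negOne Q := by
  obtain ⟨v, hv, -⟩ := ReflectionThree.exists_norm Q hQ (k := 0) ![] (by omega) (fun i => i.elim0)
    (fun i => i.elim0) hc
  have hv0 : Q v ≠ 0 := hv ▸ hc
  obtain ⟨v', hv', hvv'⟩ := ReflectionThree.exists_norm Q hQ ![v] (by omega) (fun _ => by simpa)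
    (fun i j hij => absurd (Subsingleton.elim i j) hij) hc
  have hpol : polar Q v v' = 0 := by simpa using hvv' 0
  have hv'0 : Q v' ≠ 0 := hv' ▸ hc
  obtain ⟨w, hw, hwo⟩ := ReflectionThree.exists_norm Q hQ ![v, v'] (by omega)
    (fun i => by fin_cases i <;> simpa)
    (fun i j hij => by
      fin_cases i <;> fin_cases j <;> simp_all [polar_comm (⇑Q) v' v]) hc
  refine ⟨v, hv0, v', hv'0, hv, hv', fun h => ?_, fun h => ?_⟩
  · have h1 := congrArg (fun g : orth Q => g.1 v) h
    simp only [orth_mul_apply] at h1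
    rw [refl_apply Q v' hv'0 v, polar_comm, hpol, mul_zero, zero_smul, sub_zero, refl_apply,
      polar_self_mul, mul_comm 2, inv_mul_cancel_left₀ hv0, two_smul] at h1
    have h2 : v - (v + v) = v := h1
    have h3 : (2 : ZMod 3) • v = 0 := by
      rw [sub_eq_iff_eq_add] at h2
      rw [two_smul]
      exact (add_eq_left.mp h2.symm)
    rcases smul_eq_zero.mp h3 with h4 | h4
    · exact two_ne h4
    · exact hv0 (by rw [h4, QuadraticMap.map_zero])
  · have h1 := congrArg (fun g : orth Q => g.1 w) h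
    simp only [orth_mul_apply, negOne_apply] at h1
    have e1 : polar Q v w = 0 := by simpa using hwo 0
    have e2 : polar Q v' w = 0 := by simpa using hwo 1
    rw [refl_apply Q v' hv'0 w, e2, mul_zero, zero_smul, sub_zero, refl_apply, e1, mul_zero,
      zero_smul, sub_zero] at h1
    have h3 : (2 : ZMod 3) • w = 0 := by
      rw [two_smul]
      exact eq_neg_iff_add_eq_zero.mp h1
    rcases smul_eq_zero.mp h3 with h4 | h4
    · exact two_ne h4
    · exact (hw ▸ hc : Q w ≠ 0) (by rw [h4, QuadraticMap.map_zero])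

omit hn in
theorem detHom_refl_ne (v : Fin n → ZMod 3) (hv : Q v ≠ 0) : detHom Q (refl Q v hv) ≠ 1 := by
  rw [detHom_refl]
  decide

theorem refl_notMem (v : Fin n → ZMod 3) (hv : Q v ≠ 0) : refl Q v hv ∉ sGroup Q := fun h =>
  detHom_refl_ne hQ v hv (Abelianization.commutator_subset_ker (detHom Q)
    (sGroup_le_commutator hQ (finrank_le hn) h))

theorem refl_mul_mem {v v' : Fin n → ZMod 3} (hv : Q v ≠ 0) (hv' : Q v' ≠ 0) (h : Q v = Q v') :
    refl Q v hv * refl Q v' hv' ∈ sGroup Q := by
  obtain ⟨g, hg, hgv⟩ := exists_move_norm hQ (finrank_le hn) hv h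
  subst hgv
  rw [← conj_refl g v hv, show refl Q v hv * (g * refl Q v hv * g⁻¹) =
    (refl Q v hv * g * (refl Q v hv)⁻¹) * g⁻¹ by
      rw [← mul_assoc, ← mul_assoc,
        show (refl Q v hv)⁻¹ = refl Q v hv from inv_eq_of_mul_eq_one_right (refl_sq v hv)]]
  exact mul_mem ((sGroup_normal (Q := Q)).conj_mem g hg _) (inv_mem hg)

theorem sGroup_le_tGroup (hc : c ≠ 0) : sGroup Q ≤ tGroup Q c := by
  obtain ⟨v, hv, v', hv', h, h', hne1, hne2⟩ := exists_pair hQ hn hc
  have hz : (⟨_, refl_mul_mem hQ hn hv hv' (h.trans h'.symm)⟩ : sGroup Q) ∈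
      (tGroup Q c).subgroupOf (sGroup Q) :=
    mul_mem (refl_mem_tGroup hv h) (refl_mem_tGroup hv' h')
  rcases ComponentsBasic.normal_le_center_or_eq_top (sGroup_quasisimple hQ hn)
    ((tGroup Q c).subgroupOf (sGroup Q)) with h1 | h1
  · exfalso
    rcases eq_one_or_neg hQ hn (g := refl Q v hv * refl Q v' hv') fun k hk =>
      (congrArg Subtype.val (mem_center_iff.mp (h1 hz) ⟨k, hk⟩)).symm with e | e
    · exact hne1 e
    · exact hne2 e
  · exact subgroupOf_eq_top.mp h1

theorem mem_sGroup_or (hc : c ≠ 0) {v : Fin n → ZMod 3} (hv : Q v ≠ 0) (h : Q v = c) {g : orth Q}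
    (hg : g ∈ tGroup Q c) : g ∈ sGroup Q ∨ refl Q v hv * g ∈ sGroup Q := by
  have hS := sGroup_normal (Q := Q)
  have hr : (refl Q v hv)⁻¹ = refl Q v hv := inv_eq_of_mul_eq_one_right (refl_sq v hv)
  have hconj : ∀ x ∈ sGroup Q, refl Q v hv * x * refl Q v hv ∈ sGroup Q := fun x hx => by
    have := hS.conj_mem x hx (refl Q v hv)
    rwa [hr] at this
  induction hg using Subgroup.closure_induction with
  | mem x hx =>
    obtain ⟨u, hu, h', rfl⟩ := hx
    exact Or.inr (refl_mul_mem hQ hn hv hu (h.trans h'.symm))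
  | one => exact Or.inl (one_mem _)
  | mul a b _ _ ha hb =>
    rcases ha with ha | ha <;> rcases hb with hb | hb
    · exact Or.inl (mul_mem ha hb)
    · refine Or.inr ?_
      have := mul_mem (hconj a ha) hb
      simpa [mul_assoc, ← mul_assoc (refl Q v hv) (refl Q v hv), refl_sq] using this
    · exact Or.inr (by simpa [mul_assoc] using mul_mem ha hb)
    · refine Or.inl ?_
      have := mul_mem (hconj _ ha) hb
      simpa [mul_assoc, ← mul_assoc (refl Q v hv) (refl Q v hv), refl_sq] using this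
  | inv a _ ha =>
    rcases ha with ha | ha
    · exact Or.inl (inv_mem ha)
    · refine Or.inr ?_
      have := hconj _ (inv_mem ha)
      simpa [mul_assoc, hr, ← mul_assoc (refl Q v hv) (refl Q v hv), refl_sq] using this

/-- The derived group of a reflection group, seen inside it. -/
theorem relIndex_sGroup (hc : c ≠ 0) : (sGroup Q).relIndex (tGroup Q c) = 2 := by
  obtain ⟨v, hv, -, -, h, -⟩ := exists_pair hQ hn hc
  rw [relIndex, index_eq_two_iff]
  refine ⟨⟨_, refl_mem_tGroup hv h⟩, fun b => ?_⟩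
  have hr := refl_notMem hQ hn v hv
  simp only [mem_subgroupOf, Subgroup.coe_mul]
  rcases mem_sGroup_or hQ hn hc hv h b.2 with hb | hb
  · refine Or.inr ⟨hb, fun h' => hr ?_⟩
    have := mul_mem (inv_mem hb) h'
    rwa [inv_mul_cancel_left] at this
  · refine Or.inl ⟨?_, fun h' => hr ?_⟩
    · have := (sGroup_normal (Q := Q)).conj_mem _ hb (refl Q v hv)
      rwa [inv_eq_of_mul_eq_one_right (refl_sq v hv), ← mul_assoc, refl_sq, one_mul] at this
    · have := mul_mem hb (inv_mem h')
      rwa [mul_inv_cancel_right] at this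

theorem index_tGroup (hc : c ≠ 0) : (tGroup Q c).index = 2 := by
  have h4 := (odd_main two_ne (isReg_of_nondegenerate hQ)).2 (by have := finrank_le hn; omega)
  rw [commutator_eq_sGroup hQ (finrank_le hn)] at h4
  have := relIndex_mul_index (sGroup_le_tGroup hQ hn hc)
  rw [relIndex_sGroup hQ hn hc, h4] at this
  omega

theorem index_reflectionSubgroup (hc : c ≠ 0) : (Cfsg.reflectionSubgroup (⇑Q) c).index = 2 := by
  rw [← index_tGroup hQ hn hc, ← map_reflectionSubgroup hc]
  exact (Subgroup.index_map_equiv _ (OrthUnitaryPrelude.iso Q)).symm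

/-- The reflection group as an isomorphic copy among linear equivalences. -/
noncomputable def equiv (hc : c ≠ 0) :
    ↥(Cfsg.reflectionSubgroup (⇑Q) c) ≃* ↥(tGroup Q c) :=
  ((OrthUnitaryPrelude.iso Q).subgroupMap _).trans
    (MulEquiv.subgroupCongr (map_reflectionSubgroup hc))

theorem commutator_tGroup (hc : c ≠ 0) :
    commutator ↥(tGroup Q c) = (sGroup Q).subgroupOf (tGroup Q c) := by
  have hS := sGroup_normal (Q := Q)
  refine le_antisymm ?_ ?_
  · haveI := hS
    have h2 := relIndex_sGroup hQ hn hc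
    rw [commutator_def, commutator_le]
    intro x _ y _
    rw [← QuotientGroup.eq_one_iff, ← QuotientGroup.mk'_apply, map_commutatorElement,
      commutatorElement_eq_one_iff_commute]
    haveI : Fact (Nat.Prime 2) := ⟨Nat.prime_two⟩
    haveI := isCyclic_of_prime_card (α := ↥(tGroup Q c) ⧸ (sGroup Q).subgroupOf (tGroup Q c))
      (p := 2) h2
    exact IsCyclic.isMulCommutative.is_comm.comm _ _
  · intro x hx
    have : (x : orth Q) ∈ (commutator ↥(tGroup Q c)).map (tGroup Q c).subtype := by
      rw [Subgroup.map_subtype_commutator]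
      exact commutator_mono (sGroup_le_tGroup hQ hn hc) (sGroup_le_tGroup hQ hn hc)
        ((sGroup_perfect hQ hn).ge hx)
    obtain ⟨y, hy, e⟩ := this
    rwa [← Subtype.ext e]

theorem quasisimple_commutator (hc : c ≠ 0) :
    Cfsg.IsQuasisimple (commutator ↥(tGroup Q c)) := by
  rw [commutator_tGroup hQ hn hc]
  exact ComponentsBasic.isQuasisimple_of_mulEquiv
    (Subgroup.subgroupOfEquivOfLe (sGroup_le_tGroup hQ hn hc)).symm (sGroup_quasisimple hQ hn)

theorem dichotomy (hc : c ≠ 0) (N : Subgroup ↥(tGroup Q c)) (hN : N.Normal) :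
    commutator ↥(tGroup Q c) ≤ N ∨ N ≤ center ↥(tGroup Q c) := by
  haveI := hN
  set L := commutator ↥(tGroup Q c) with hLdef
  have hcomp : Cfsg.IsComponent L :=
    ⟨(inferInstance : L.Normal).isSubnormal, quasisimple_commutator hQ hn hc⟩
  rcases ComponentsBasic.component_le_or_commute hcomp hN.isSubnormal with h | h
  · exact Or.inl h
  refine Or.inr fun g hg => mem_center_iff.mpr fun x => Subtype.ext ?_
  refine central_of_commute hQ hn (g := g.1) (fun k hk => ?_) x.1
  have hkL : (⟨k, sGroup_le_tGroup hQ hn hc hk⟩ : ↥(tGroup Q c)) ∈ L := by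
    rw [hLdef, commutator_tGroup hQ hn hc]
    exact hk
  exact congrArg Subtype.val
    (mem_centralizer_iff.mp (commutator_eq_bot_iff_le_centralizer.mp h hkL) g hg)

theorem generalizedFitting (hc : c ≠ 0) :
    Cfsg.generalizedFittingSubgroup ↥(tGroup Q c) =
      center ↥(tGroup Q c) ⊔ commutator ↥(tGroup Q c) := by
  haveI : Finite (orth Q) := finite_orth Q
  have hq := quasisimple_commutator hQ hn hc
  set L := commutator ↥(tGroup Q c)
  have hcomp : Cfsg.IsComponent L := ⟨(inferInstance : L.Normal).isSubnormal, hq⟩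
  refine le_antisymm (sup_le (sSup_le fun K hK => ?_) (sSup_le ?_))
    (sup_le (le_sup_of_le_right ?_) (le_sup_of_le_left (ComponentsBasic.component_le_layer hcomp)))
  · by_cases e : K = L
    · exact e ▸ le_sup_right
    exfalso
    have hKc := commutator_eq_bot_iff_le_centralizer.mp (ComponentsBasic.components_commute hK hcomp e)
    rcases dichotomy hQ hn hc (centralizer (L : Set ↥(tGroup Q c))) inferInstance with h | h
    · refine ComponentsBasic.isQuasisimple_not_commutative hq ?_
      exact ⟨⟨fun a b => Subtype.ext (mem_centralizer_iff.mp (h b.2) a a.2)⟩⟩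
    · haveI : Group.IsSolvable (center ↥(tGroup Q c)) := ComponentsBasic.isSolvable_of_commutative
      exact ComponentsBasic.IsComponent.ne_bot hK
        (ComponentsBasic.perfect_eq_bot_of_le_solvable (ComponentsBasic.IsComponent.perfect hK)
          (hKc.trans h))
  · rintro N ⟨hN, hnil⟩
    rcases dichotomy hQ hn hc N hN with h | h
    · haveI := hnil
      haveI : Group.IsSolvable N := inferInstance
      exact absurd h (ComponentsBasic.isQuasisimple_not_le_solvable hq)
    · exact le_sup_of_le_left h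
  · refine le_sSup ⟨inferInstance, ?_⟩
    open scoped IsMulCommutative in infer_instance

end Cfsg.Agent.ReflectionThreeGroup
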