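import Cfsg.Agent.Lib.ReflectionSeven72
import Cfsg.Agent.Lib.ReflectionThreeGroup
import Cfsg.Agent.Lib.OrthUnitaryForms
import Cfsg.Agent.Lib.OrthTypeCount73

/-!
# The projective reflection group in dimension six of discriminant one over three elements

It has order 6531840, its derived group is perfect and it has no non-trivial solvable normal subgroup.
-/

set_option autoImplicit false
set_option linter.unusedSectionVars false
set_option linter.style.haveILetI false

namespace Cfsg.Agent.ReflectionSixOrder64

open Subgroup QuadraticMap Cfsg.Agent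
open OrthUnitaryQuad OrthUnitaryRefl OrthUnitaryOmega OrthUnitaryCentre OrthUnitarySimple

local notation "V" => Fin 6 → ZMod 3

variable {Q : QuadraticForm (ZMod 3) V} {c : ZMod 3}

theorem sumSq_zero_count :
    ((Finset.univ : Finset V).filter fun v => ∑ i, v i * v i = 0).card = 225 := by decide +kernel

theorem sumSq_one_count :
    ((Finset.univ : Finset V).filter fun v => ∑ i, v i * v i = 1).card = 252 := by decide +kernel

theorem sumSq_two_count :
    ((Finset.univ : Finset V).filter fun v => ∑ i, v i * v i = 2).card = 252 := by decide +kernel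

theorem card_orth (hQ : (polarBilin Q).Nondegenerate) (hdet : Cfsg.polarGramDet (⇑Q) = 1)
    (hc : c ≠ 0) : Nat.card ↥(orth Q) = 26127360 := by
  classical
  obtain ⟨u, hu, hun⟩ := ReflectionSeven72.exists_frame hQ hdet hc
  let comb : V →ₗ[ZMod 3] V :=
    { toFun := fun x => ∑ k, x k • u k
      map_add' := fun x y => by simp [add_smul, Finset.sum_add_distrib]
      map_smul' := fun a x => by simp [Finset.smul_sum, smul_smul] }
  have hcomb : ∀ x, comb x = ∑ k, x k • u k := fun x => rfl
  have hpolar : ∀ w x : V, polar Q (comb w) (comb x) = 2 * c * ∑ i, w i * x i := by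
    intro w x
    rw [← polarBilin_apply_apply, hcomb, hcomb]
    simp only [map_sum, map_smul, LinearMap.sum_apply, LinearMap.smul_apply, polarBilin_apply_apply,
      smul_eq_mul]
    rw [Finset.mul_sum]
    refine Finset.sum_congr rfl fun j _ => ?_
    rw [Finset.sum_eq_single j (fun k _ hk => ?_) (fun h => absurd (Finset.mem_univ _) h)]
    · rw [polar_self_mul, hun]; ring
    · simp [hu j k (Ne.symm hk), hu k j hk]
  have hnorm : ∀ w : V, Q (comb w) = c * ∑ i, w i * w i := by
    intro w
    have h2 : (2 : ZMod 3) ≠ 0 := by decide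
    refine mul_left_cancel₀ h2 ?_
    rw [← polar_self_mul, hpolar, mul_assoc]
  have hinj : Function.Injective comb := by
    intro x y hxy
    funext k
    have h1 := hpolar (Pi.single k 1) x
    rw [hxy, hpolar] at h1
    simp [Pi.single_apply] at h1
    rcases h1 with h1 | h1
    · exact h1.symm
    · rcases h1 with h1 | h1
      · exact absurd h1 (by decide)
      · exact absurd h1 hc
  have hbij : Function.Bijective comb := Finite.injective_iff_bijective.mp hinj
  have hcnt : ∀ x : ZMod 3, (Nat.card {v // Q v = x} : ℤ) = if x = 0 then 225 else 252 := by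
    intro x
    have e : {w : V // ∑ i, w i * w i = c * x} ≃ {v // Q v = x} :=
      (Equiv.ofBijective comb hbij).subtypeEquiv fun w => by
        rw [Equiv.ofBijective_apply, hnorm]
        exact (show ∀ c s x : ZMod 3, c ≠ 0 → (s = c * x ↔ c * s = x) by decide) c _ x hc
    rw [← Nat.card_congr e, Nat.card_eq_fintype_card, Fintype.card_subtype]
    rcases (show ∀ y : ZMod 3, y = 0 ∨ y = 1 ∨ y = 2 by decide) (c * x) with h | h | h
    · rw [h, sumSq_zero_count, if_pos ((mul_eq_zero.mp h).resolve_left hc)]; rfl
    · rw [h, sumSq_one_count, if_neg (fun h0 => by rw [h0, mul_zero] at h; exact zero_ne_one h)]; rfl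
    · rw [h, sumSq_two_count, if_neg (fun h0 => by
        rw [h0, mul_zero] at h; exact absurd h (by decide))]; rfl
  have hprof : OrthTypeCount73.Prof (⇑Q) 252 (-(Fintype.card (ZMod 3) : ℤ) ^ 3) := by
    refine ⟨fun x hx => by rw [hcnt, if_neg hx], ?_⟩
    rw [hcnt, if_pos rfl, ZMod.card]
    norm_num
  have hab : ∀ z₁ z₂ : ZMod 3, z₁ ^ 2 + 0 * z₁ * z₂ + 1 * z₂ ^ 2 = 0 → z₁ = 0 ∧ z₂ = 0 := by decide
  obtain ⟨g, hg⟩ := OrthTypeCount73.iso_minus_of_prof Q hQ (m := 3) (by simp) hprof hab
  rw [← card_isometryGroup Q (Cfsg.quadFormMinus (3 - 1) (ZMod 3) 0 1) g (fun v => by rw [hg]),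
    OrthUnitaryForms.card_isometryGroup_minus (ZMod.card 3) hab 2]
  decide +kernel

variable (hQ : (polarBilin Q).Nondegenerate)
include hQ

theorem card_refl (hdet : Cfsg.polarGramDet (⇑Q) = 1) (hc : c ≠ 0) :
    Nat.card ↥(Cfsg.reflectionSubgroup (⇑Q) c) = 13063680 := by
  have h := (ReflectionThreeGroup.tGroup Q c).card_mul_index
  rw [ReflectionThreeGroup.index_tGroup hQ (by norm_num) hc, card_orth hQ hdet hc] at h
  rw [Nat.card_congr (ReflectionThreeGroup.equiv (Q := Q) hc).toEquiv]
  omega

/-- Minus the identity is a product of six reflections of norm `c`. -/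
theorem negOne_mem (hdet : Cfsg.polarGramDet (⇑Q) = 1) (hc : c ≠ 0) :
    negOne Q ∈ ReflectionThreeGroup.tGroup Q c := by
  obtain ⟨u, hu, hun⟩ := ReflectionSeven72.exists_frame hQ hdet hc
  have h0 : ∀ i, Q (u i) ≠ 0 := fun i => (hun i).symm ▸ hc
  let r : Fin 6 → orth Q := fun i => refl Q (u i) (h0 i)
  have hfix : ∀ i k, k ≠ i → (r i).1 (u k) = u k := fun i k hk => by
    show (refl Q (u i) (h0 i)).1 (u k) = _
    rw [refl_apply, hu i k (Ne.symm hk), mul_zero, zero_smul, sub_zero]
  have hneg : ∀ i, (r i).1 (u i) = -u i := fun i => by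
    show (refl Q (u i) (h0 i)).1 (u i) = _
    rw [refl_apply, polar_self_mul, mul_left_comm, inv_mul_cancel₀ (h0 i), mul_one, two_smul]
    abel
  have hmem : r 0 * r 1 * r 2 * r 3 * r 4 * r 5 ∈ ReflectionThreeGroup.tGroup Q c := by
    refine mul_mem (mul_mem (mul_mem (mul_mem (mul_mem ?_ ?_) ?_) ?_) ?_) ?_ <;>
      exact ReflectionThreeGroup.refl_mem_tGroup _ (hun _)
  have hli : LinearIndependent (ZMod 3) u := by
    rw [Fintype.linearIndependent_iff]
    intro g hg i
    have h1 := congrArg (fun v => polarBilin Q v (u i)) hg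
    simp only [map_sum, map_smul, LinearMap.sum_apply, LinearMap.smul_apply, polarBilin_apply_apply,
      smul_eq_mul, map_zero, LinearMap.zero_apply] at h1
    rw [Finset.sum_eq_single i (fun k _ hk => by rw [hu k i hk, mul_zero])
      (fun h => absurd (Finset.mem_univ _) h), polar_self_mul, hun] at h1
    rcases mul_eq_zero.mp h1 with h | h
    · exact h
    · exact absurd h (mul_ne_zero (by decide) hc)
  suffices h : r 0 * r 1 * r 2 * r 3 * r 4 * r 5 = negOne Q by rwa [h] at hmem
  refine orth_ext fun x => ?_
  have hspan : x ∈ Submodule.span (ZMod 3) (Set.range u) := by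
    rw [hli.span_eq_top_of_card_eq_finrank' (by simp)]
    trivial
  induction hspan using Submodule.span_induction with
  | mem x hx =>
    obtain ⟨i, rfl⟩ := hx
    rw [negOne_apply]
    simp only [orth_mul_apply]
    fin_cases i <;>
      simp +decide [hfix, hneg, map_neg]
  | zero => rw [map_zero, map_zero]
  | add a b _ _ ha hb => rw [map_add, map_add, ha, hb]
  | smul t a _ ha => rw [map_smul, map_smul, ha]

theorem card_center (hdet : Cfsg.polarGramDet (⇑Q) = 1) (hc : c ≠ 0) :
    Nat.card ↥(center ↥(Cfsg.reflectionSubgroup (⇑Q) c)) = 2 := by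
  classical
  set he := ReflectionThreeGroup.equiv (Q := Q) (c := c) hc
  set z := he.symm ⟨negOne Q, negOne_mem hQ hdet hc⟩ with hz
  have hez : (he z : orth Q) = negOne Q := by rw [hz, he.apply_symm_apply]
  have hset : (center ↥(Cfsg.reflectionSubgroup (⇑Q) c) : Set _) = {1, z} := by
    ext x
    constructor
    · intro hx
      rcases ReflectionThreeGroup.eq_one_or_neg hQ (by norm_num) (g := (he x : orth Q)) (fun k hk => by
          obtain ⟨r, hr⟩ := he.surjective
            ⟨k, ReflectionThreeGroup.sGroup_le_tGroup hQ (by norm_num) hc hk⟩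
          have h := congrArg he (mem_center_iff.mp hx r)
          rw [map_mul, map_mul, hr] at h
          exact (congrArg Subtype.val h).symm) with e | e
      · exact Or.inl (he.injective (Subtype.ext (e.trans (by rw [map_one]; rfl))))
      · exact Or.inr (he.injective (Subtype.ext (e.trans hez.symm)))
    · rintro (rfl | rfl)
      · exact one_mem _
      · refine mem_center_iff.mpr fun y => he.injective (Subtype.ext ?_)
        rw [map_mul, map_mul, Subgroup.coe_mul, Subgroup.coe_mul, hez]
        exact orth_ext fun v => map_neg (he y : orth Q).1 v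
  rw [← SetLike.coe_sort_coe, Nat.card_coe_set_eq, hset, Set.ncard_pair]
  intro e
  obtain ⟨u, -, hun⟩ := ReflectionSeven72.exists_frame hQ hdet hc
  have h1 : (negOne Q).1 (u 0) = u 0 := by
    rw [← hez, ← e, map_one]
    rfl
  rw [negOne_apply, neg_eq_iff_add_eq_zero, ← two_smul (ZMod 3)] at h1
  rcases smul_eq_zero.mp h1 with h | h
  · exact absurd h (by decide)
  · exact hc (by rw [← hun 0, h, QuadraticMap.map_zero])

omit hQ

/-- The order of the projective reflection group. -/
theorem card_of_proj {X : Type*} [Group X] (hc : c ≠ 0)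
    (h : Cfsg.IsProjReflectionGroupModThree X 6 1 c) : Nat.card X = 6531840 := by
  obtain ⟨Q, hQ, hdet, ⟨e⟩⟩ := h
  have h := Subgroup.card_eq_card_quotient_mul_card_subgroup
    (center ↥(Cfsg.reflectionSubgroup (⇑Q) c))
  rw [card_refl hQ hdet hc, card_center hQ hdet hc] at h
  rw [Nat.card_congr e.toEquiv]
  omega

/-- Its derived group is perfect. -/
theorem perfect_of_proj {X : Type*} [Group X] (hc : c ≠ 0)
    (h : Cfsg.IsProjReflectionGroupModThree X 6 1 c) : ⁅commutator X, commutator X⁆ = commutator X := by
  obtain ⟨Q, hQ, -, ⟨e⟩⟩ := h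
  set he := ReflectionThreeGroup.equiv (Q := Q) (c := c) hc
  set T := ReflectionThreeGroup.tGroup Q c
  have hT : ⁅commutator ↥T, commutator ↥T⁆ = commutator ↥T :=
    ComponentsBasic.isQuasisimple_perfect (ReflectionThreeGroup.quasisimple_commutator hQ (by norm_num) hc)
  set ψ : ↥T →* X := (e.symm.toMonoidHom.comp (QuotientGroup.mk' _)).comp he.symm.toMonoidHom
  have hsurj : Function.Surjective ψ :=
    (e.symm.surjective.comp (QuotientGroup.mk'_surjective _)).comp he.symm.surjective
  have hm : (commutator ↥T).map ψ = commutator X := by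
    rw [commutator_def, commutator_def, map_commutator, ← MonoidHom.range_eq_map,
      MonoidHom.range_eq_top.mpr hsurj]
  rw [← hm, ← map_commutator, hT]

/-- It has no non-trivial solvable normal subgroup. -/
theorem solvable_of_proj {X : Type*} [Group X] (hc : c ≠ 0)
    (h : Cfsg.IsProjReflectionGroupModThree X 6 1 c) (N : Subgroup X) (hN : N.Normal)
    (hs : Group.IsSolvable ↥N) : N = ⊥ := by
  obtain ⟨Q, hQ, -, ⟨e⟩⟩ := h
  set he := ReflectionThreeGroup.equiv (Q := Q) (c := c) hc
  set T := ReflectionThreeGroup.tGroup Q c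
  set R := Cfsg.reflectionSubgroup (⇑Q) c
  set ψ : ↥T →* X := (e.symm.toMonoidHom.comp (QuotientGroup.mk' _)).comp he.symm.toMonoidHom
  have hsurj : Function.Surjective ψ :=
    (e.symm.surjective.comp (QuotientGroup.mk'_surjective _)).comp he.symm.surjective
  have hker : ∀ x, ψ x = 1 ↔ x ∈ center ↥T := by
    intro x
    show e.symm (QuotientGroup.mk (he.symm x)) = 1 ↔ _
    rw [map_eq_one_iff _ e.symm.injective, QuotientGroup.eq_one_iff, mem_center_iff, mem_center_iff]
    exact ⟨fun h y => he.symm.injective (by rw [map_mul, map_mul, h]),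
      fun h y => by
        obtain ⟨y, rfl⟩ := he.symm.surjective y
        rw [← map_mul, h, map_mul]⟩
  rcases ReflectionThreeGroup.dichotomy hQ (by norm_num) hc (N.comap ψ) (hN.comap ψ) with h | h
  · exfalso
    haveI := hs
    haveI : Group.IsSolvable ↥(N.comap ψ) := by
      haveI : Group.IsSolvable ↥((ψ.subgroupComap N).ker) := by
        have hc' : ∀ a b : ↥((ψ.subgroupComap N).ker), a * b = b * a := fun a b => by
          apply Subtype.ext; apply Subtype.ext
          exact ((mem_center_iff.mp ((hker _).mp
            (congrArg Subtype.val (MonoidHom.mem_ker.mp a.2)))) _).symm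
        exact Group.isSolvable_of_comm hc'
      exact Group.isSolvable_of_ker_le_range ((ψ.subgroupComap N).ker.subtype) (ψ.subgroupComap N)
        (by rw [Subgroup.range_subtype])
    exact ComponentsBasic.isQuasisimple_not_le_solvable
      (ReflectionThreeGroup.quasisimple_commutator hQ (by norm_num) hc) h
  · rw [eq_bot_iff]
    intro x hx
    obtain ⟨t, rfl⟩ := hsurj x
    exact mem_bot.mpr ((hker t).mpr (h (show t ∈ N.comap ψ from hx)))

end Cfsg.Agent.ReflectionSixOrder64
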