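import Cfsg.Agent.Lib.ThreeTransM22Triples17

/-!
# Pairs of points in the local geometry of type M(22)

Two commuting members near `d` have 51 common neighbours there and two noncommuting ones 45; the product
of two noncommuting members determines their line; six is the width of what commutes with such a pair.
-/

set_option autoImplicit false
set_option linter.unusedSectionVars false
set_option linter.style.haveILetI false

namespace Cfsg.Agent.ThreeTransM22LocalPairs64

open Subgroup Cfsg.Agent.ThreeTransRel Cfsg.Agent.ThreeTransDescent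
open Cfsg.Agent.UnitaryF4Geo Cfsg.Agent.UnitaryF4Line
open Cfsg.Agent.ThreeTransM22Lift72 Cfsg.Agent.ThreeTransM22Local72
open Cfsg.Agent.ThreeTransM22Triples17

local notation "act" => OrthUnitaryTransvection.act

variable {F : Type} [Field F] [Fintype F] [hF : FourField F]

/-- A second standard isotropic vector. -/
def u1 : Fin 6 → F := Fin.cons 0 (Fin.cons 0 (Fin.cons 1 (Fin.cons 1 0)))

theorem h_u1 (a b c e : F) (w : Fin 2 → F) :
    h (Fin.cons a (Fin.cons b (Fin.cons c (Fin.cons e w))) : Fin 6 → F) u1 = c + e := by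
  simp only [h, u1, Fin.sum_univ_succ, Fin.cons_zero, Fin.cons_succ]
  simp

theorem iso_u1 : h (u1 : Fin 6 → F) u1 = 0 := by
  have := h_u1 (0 : F) 0 1 1 0
  rw [add_self] at this
  exact this

theorem u1_ne : (u1 : Fin 6 → F) ≠ 0 := fun e => by
  have := congrFun e (0 : Fin 4).succ.succ
  simp only [u1, Fin.cons_succ, Fin.cons_zero, Pi.zero_apply] at this
  exact one_ne_zero this

theorem h_u1_u0 : h (u1 : Fin 6 → F) u0 = 0 := by
  rw [show (u1 : Fin 6 → F) = Fin.cons 0 (Fin.cons 0 (Fin.cons 1 (Fin.cons 1 0))) from rfl, h_u0,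
    add_zero]

theorem u1_ne_smul (c : F) : (u1 : Fin 6 → F) ≠ c • u0 := fun e => by
  have := congrFun e (0 : Fin 4).succ.succ
  simp only [u1, u0, Fin.cons_succ, Fin.cons_zero, Pi.smul_apply, Pi.zero_apply, smul_zero] at this
  exact one_ne_zero this

theorem iso_count_two : Nat.card {v : Fin 2 → F // h v v = 0} = 10 := by
  rw [iso_count_succ, iso_count_succ, iso_count_zero]
  norm_num

theorem perp_two_count :
    Nat.card {v : Fin 6 → F // h v v = 0 ∧ h v u0 = 0 ∧ h v u1 = 0} = 160 := by
  have e : F × F × {w : Fin 2 → F // h w w = 0} ≃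
      {v : Fin 6 → F // h v v = 0 ∧ h v u0 = 0 ∧ h v u1 = 0} :=
    { toFun := fun p => ⟨Fin.cons p.1 (Fin.cons p.1 (Fin.cons p.2.1 (Fin.cons p.2.1 p.2.2.1))), by
        rw [h_cons, h_cons, h_cons, h_cons, p.2.2.2, add_zero, add_self, add_zero, add_self, h_u0,
          add_self, h_u1, add_self]
        exact ⟨rfl, rfl, rfl⟩⟩
      invFun := fun v => (v.1 0, v.1 2, ⟨Fin.tail (Fin.tail (Fin.tail (Fin.tail v.1))), by
        obtain ⟨v, h1, h2, h3⟩ := v
        rw [← Fin.cons_self_tail v, ← Fin.cons_self_tail (Fin.tail v),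
          ← Fin.cons_self_tail (Fin.tail (Fin.tail v)),
          ← Fin.cons_self_tail (Fin.tail (Fin.tail (Fin.tail v)))] at h1 h2 h3
        rw [h_u0] at h2
        rw [h_u1] at h3
        rw [h_cons, h_cons, h_cons, h_cons, ← eq_of_add_eq_zero h2, ← eq_of_add_eq_zero h3,
          ← add_assoc, add_self, zero_add, ← add_assoc, add_self, zero_add] at h1
        exact h1⟩)
      left_inv := fun p => rfl
      right_inv := fun v => by
        obtain ⟨v, h1, h2, h3⟩ := v
        refine Subtype.ext ?_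
        show (Fin.cons (v 0) (Fin.cons (v 0) (Fin.cons (v 2) (Fin.cons (v 2)
          (Fin.tail (Fin.tail (Fin.tail (Fin.tail v))))))) : Fin 6 → F) = v
        rw [← Fin.cons_self_tail v, ← Fin.cons_self_tail (Fin.tail v), h_u0] at h2
        rw [← Fin.cons_self_tail v, ← Fin.cons_self_tail (Fin.tail v),
          ← Fin.cons_self_tail (Fin.tail (Fin.tail v)),
          ← Fin.cons_self_tail (Fin.tail (Fin.tail (Fin.tail v))), h_u1] at h3
        conv_rhs => rw [← Fin.cons_self_tail v, ← Fin.cons_self_tail (Fin.tail v),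
          ← Fin.cons_self_tail (Fin.tail (Fin.tail v)),
          ← Fin.cons_self_tail (Fin.tail (Fin.tail (Fin.tail v)))]
        rw [← eq_of_add_eq_zero h2, ← eq_of_add_eq_zero h3]
        rfl }
  rw [← Nat.card_congr e, Nat.card_prod, Nat.card_prod, natCard_field, iso_count_two]

/-- Two isotropic vectors which are not orthogonal have 136 isotropic vectors orthogonal to both. -/
theorem hyperbolic_count {u w : Fin 6 → F} (hu : h u u = 0) (hw : h w w = 0) (huw : h u w ≠ 0) :
    Nat.card {z : Fin 6 → F // h z z = 0 ∧ h z u = 0 ∧ h z w = 0} = 136 := by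
  classical
  set c := h u w with hc
  have hwu : h w u = c ^ 2 := by rw [h_symm]
  have hc3 : c * c ^ 2 = 1 := by rw [← pow_succ', cube huw]
  let P := {z : Fin 6 → F // h z u = 0 ∧ h z w = 0}
  let val : F × F → F := fun p => p.1 * p.2 ^ 2 * c + p.2 * p.1 ^ 2 * c ^ 2
  have hval : ∀ (p : F × F) (z : P),
      h (p.1 • u + p.2 • w + z.1) (p.1 • u + p.2 • w + z.1) = val p + h z.1 z.1 := by
    intro p z
    simp only [h_add_left, h_add_right, h_smul_left, h_smul_right, hu, hw, z.2.1, z.2.2,
      h_comm_zero z.2.1, h_comm_zero z.2.2, hwu, ← hc, val]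
    ring
  let e : (F × F) × P ≃ (Fin 6 → F) :=
    { toFun := fun q => q.1.1 • u + q.1.2 • w + q.2.1
      invFun := fun v => ((h v w * c ^ 2, h v u * c),
        ⟨v + (h v w * c ^ 2) • u + (h v u * c) • w, by
          simp only [h_add_left, h_smul_left, hu, hw, hwu, ← hc, mul_zero, add_zero]
          rw [mul_assoc, mul_assoc, hc3, mul_comm (c ^ 2) c, hc3, mul_one, mul_one, add_self,
            add_self]
          exact ⟨rfl, rfl⟩⟩)
      left_inv := fun q => by
        obtain ⟨⟨a, b⟩, z, hz1, hz2⟩ := q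
        have e1 : h (a • u + b • w + z) w * c ^ 2 = a := by
          simp only [h_add_left, h_smul_left, hw, hz2, ← hc, mul_zero, add_zero]
          rw [mul_assoc, hc3, mul_one]
        have e2 : h (a • u + b • w + z) u * c = b := by
          simp only [h_add_left, h_smul_left, hu, hz1, hwu, mul_zero, add_zero, zero_add]
          rw [mul_assoc, mul_comm (c ^ 2) c, hc3, mul_one]
        refine Prod.ext (Prod.ext e1 e2) (Subtype.ext ?_)
        show a • u + b • w + z + _ • u + _ • w = z
        rw [e1, e2]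
        calc a • u + b • w + z + a • u + b • w = (a • u + a • u) + (b • w + b • w) + z := by abel
          _ = z := by rw [vec_add_self, vec_add_self, zero_add, zero_add]
      right_inv := fun v => by
        show _ • u + _ • w + (v + _ • u + _ • w) = v
        calc (h v w * c ^ 2) • u + (h v u * c) • w + (v + (h v w * c ^ 2) • u + (h v u * c) • w)
            = ((h v w * c ^ 2) • u + (h v w * c ^ 2) • u) + ((h v u * c) • w + (h v u * c) • w) + v := by
              abel
          _ = v := by rw [vec_add_self, vec_add_self, zero_add, zero_add] }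
  haveI : Fintype P := Fintype.ofFinite P
  have hP : Fintype.card P = 256 := by
    have := Fintype.card_congr e
    simp only [Fintype.card_prod, Fintype.card_fun, Fintype.card_fin, hF.card_eq] at this
    omega
  set N := (Finset.univ.filter fun z : P => h z.1 z.1 = 0).card with hN
  have hM : (Finset.univ.filter fun z : P => h z.1 z.1 = 1).card = 256 - N := by
    have h1 := Finset.card_filter_add_card_filter_not
      (s := (Finset.univ : Finset P)) (fun z : P => h z.1 z.1 = 0)
    rw [Finset.card_univ, hP] at h1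
    have h2 : (Finset.univ.filter fun z : P => ¬ h z.1 z.1 = 0) =
        Finset.univ.filter fun z : P => h z.1 z.1 = 1 :=
      Finset.filter_congr fun z _ => ⟨fun h => (h_self z.1).resolve_left h,
        fun h h0 => zero_ne_one (h0.symm.trans h)⟩
    rw [h2] at h1
    omega
  have hv01 : ∀ p, val p = 0 ∨ val p = 1 := fun p => by
    have := hval p ⟨0, h_zero_left u, h_zero_left w⟩
    simp only [h_zero_left, add_zero] at this
    rw [← this]
    exact h_self _
  have hzero : (Finset.univ.filter fun p : F × F => val p = 0).card = 10 := by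
    have e1 : ∀ p : F × F, val p = 0 ↔ p.1 = 0 ∨ p.2 = 0 ∨ p.2 = p.1 * c := by
      intro p
      rw [show val p = p.1 * p.2 * c * (p.2 + p.1 * c) by simp only [val]; ring]
      simp only [mul_eq_zero, or_assoc]
      refine or_congr Iff.rfl (or_congr Iff.rfl ?_)
      exact ⟨fun h => eq_of_add_eq_zero (h.resolve_left huw), fun h => Or.inr (by rw [h, add_self])⟩
    obtain ⟨f₀⟩ : Nonempty (Fin 4 ≃ F) := ⟨(Fintype.equivFinOfCardEq hF.card_eq).symm⟩
    let f : Fin 4 ≃ F := (Equiv.swap 0 (f₀.symm 0)).trans f₀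
    have hf : ∀ i, f i = 0 ↔ i = 0 := fun i => by
      rw [← f.injective.eq_iff (a := i) (b := 0)]
      simp [f]
    let g : Fin 4 × Fin 4 ≃ F × F :=
      (f.prodCongr (f.trans (Equiv.mulRight₀ c huw)))
    have : (Finset.univ.filter fun p : F × F => val p = 0) =
        ((Finset.univ : Finset (Fin 4 × Fin 4)).filter fun p => p.1 = 0 ∨ p.2 = 0 ∨ p.2 = p.1).map
          g.toEmbedding := by
      ext p
      obtain ⟨⟨i, j⟩, rfl⟩ := g.surjective p
      simp [Finset.mem_map_equiv, e1, g, hf, huw]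
    rw [this, Finset.card_map]
    decide
  have htot : Nat.card {v : Fin 6 → F // h v v = 0} = 10 * N + 6 * (256 - N) := by
    rw [Nat.card_congr (e.symm.subtypeEquiv (q := fun q : (F × F) × P => val q.1 + h q.2.1 q.2.1 = 0)
      fun v => by
        conv_lhs => rw [← e.apply_symm_apply v]
        exact Eq.congr_left (hval _ _)),
      Nat.card_eq_fintype_card, Fintype.card_subtype]
    have hsum : (Finset.univ.filter fun q : (F × F) × P => val q.1 + h q.2.1 q.2.1 = 0).card =
        ∑ p : F × F, (Finset.univ.filter fun z : P => val p + h z.1 z.1 = 0).card := by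
      simp only [Finset.card_filter]
      rw [Fintype.sum_prod_type]
    rw [hsum, ← Finset.sum_filter_add_sum_filter_not Finset.univ (fun p : F × F => val p = 0),
      Finset.sum_congr rfl (fun p hp => show _ = N by
        rw [(Finset.mem_filter.mp hp).2]; simp only [zero_add]; exact hN.symm),
      Finset.sum_congr (s₁ := Finset.univ.filter fun p : F × F => ¬ val p = 0) rfl
        (fun p hp => show _ = 256 - N by
          rw [← hM]
          refine congrArg Finset.card (Finset.filter_congr fun z _ => ?_)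
          rw [(hv01 p).resolve_left (Finset.mem_filter.mp hp).2]
          exact ⟨fun h => (eq_of_add_eq_zero h).symm, fun h => by rw [h, add_self]⟩),
      Finset.sum_const, Finset.sum_const, hzero, smul_eq_mul, smul_eq_mul]
    have h6 := Finset.card_filter_add_card_filter_not
      (s := (Finset.univ : Finset (F × F))) (fun p : F × F => val p = 0)
    rw [Finset.card_univ, Fintype.card_prod, hF.card_eq, hzero] at h6
    rw [show (Finset.univ.filter fun p : F × F => ¬ val p = 0).card = 6 by omega]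
  rw [iso_count_six] at htot
  have hle : N ≤ 256 := hP ▸ Finset.card_le_univ _
  have : Nat.card {z : Fin 6 → F // h z z = 0 ∧ h z u = 0 ∧ h z w = 0} = N := by
    rw [Nat.card_congr (show {z : Fin 6 → F // h z z = 0 ∧ h z u = 0 ∧ h z w = 0} ≃
      {z : P // h z.1 z.1 = 0} from
      { toFun := fun z => ⟨⟨z.1, z.2.2⟩, z.2.1⟩
        invFun := fun z => ⟨z.1.1, z.2, z.1.2⟩
        left_inv := fun z => rfl
        right_inv := fun z => rfl }), Nat.card_eq_fintype_card, Fintype.card_subtype]
  omega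

variable {G : Type*} [Group G] [Finite G] {D : Set G}
variable {d : G} {φ : ↥(loc D d) →* Cfsg.PSU 6 F 2} (X : Ctx D d φ)
include X

local notation "L" => Chart.L X.chart

theorem ncard_common_std :
    {y ∈ near D d | y ≠ L u0 ∧ y ≠ L u1 ∧ Commute y (L u0) ∧ Commute y (L u1)}.ncard = 51 := by
  classical
  have h1 := card_points X fun y => y ≠ L u0 ∧ y ≠ L u1 ∧ Commute y (L u0) ∧ Commute y (L u1)
  let S : Set (Fin 6 → F) := {v | h v v = 0 ∧ h v u0 = 0 ∧ h v u1 = 0}
  let A : Set (Fin 6 → F) := Set.range fun c : F => c • (u0 : Fin 6 → F)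
  let B : Set (Fin 6 → F) := (fun c : F => c • (u1 : Fin 6 → F)) '' {c | c ≠ 0}
  have hMS : A ∪ B ⊆ S := by
    rintro _ (⟨c, rfl⟩ | ⟨c, -, rfl⟩)
    · exact ⟨by rw [h_smul_left, h_smul_right, iso_u0, mul_zero, mul_zero],
        by rw [h_smul_left, iso_u0, mul_zero], by rw [h_smul_left, h_comm_zero h_u1_u0, mul_zero]⟩
    · exact ⟨by rw [h_smul_left, h_smul_right, iso_u1, mul_zero, mul_zero],
        by rw [h_smul_left, h_u1_u0, mul_zero], by rw [h_smul_left, iso_u1, mul_zero]⟩
  have hM : (A ∪ B).ncard = 7 := by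
    rw [Set.ncard_union_eq ?_ (Set.toFinite _) (Set.toFinite _),
      Set.ncard_range_of_injective (smul_left_injective F u0_ne), natCard_field,
      Set.ncard_image_of_injective _ (smul_left_injective F u1_ne), ← Nat.card_coe_set_eq]
    · show 4 + Nat.card {c : F // c ≠ 0} = 7
      rw [natCard_ne_zero]
    · rw [Set.disjoint_left]
      rintro _ ⟨a, rfl⟩ ⟨c, hc, e⟩
      refine u1_ne_smul (c⁻¹ * a) ?_
      rw [mul_smul, ← show c • (u1 : Fin 6 → F) = a • u0 from e, smul_smul, inv_mul_cancel₀ hc, one_smul]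
  have e : {v : Fin 6 → F | h v v = 0 ∧ v ≠ 0 ∧ L v ≠ L u0 ∧ L v ≠ L u1 ∧ Commute (L v) (L u0) ∧
      Commute (L v) (L u1)} = S \ (A ∪ B) := by
    ext v
    constructor
    · rintro ⟨hv, hv0, hne, hne1, hc, hc1⟩
      refine ⟨⟨hv, (L_comm X hv hv0 iso_u0 u0_ne).mp hc, (L_comm X hv hv0 iso_u1 u1_ne).mp hc1⟩, ?_⟩
      rintro (⟨c, rfl⟩ | ⟨c, hc0, rfl⟩)
      · exact hne (L_smul X iso_u0 u0_ne fun hc0 => hv0 (by simp [hc0]))
      · exact hne1 (L_smul X iso_u1 u1_ne hc0)
    · rintro ⟨⟨hv, hp, hp1⟩, hn⟩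
      have hv0 : v ≠ 0 := fun e0 => hn (Or.inl ⟨0, by simp [e0]⟩)
      refine ⟨hv, hv0, fun e => ?_, fun e => ?_, (L_comm X hv hv0 iso_u0 u0_ne).mpr hp,
        (L_comm X hv hv0 iso_u1 u1_ne).mpr hp1⟩
      · obtain ⟨c, -, hc⟩ := L_inj X hv hv0 iso_u0 u0_ne e
        exact hn (Or.inl ⟨c, hc.symm⟩)
      · obtain ⟨c, hc0, hc⟩ := L_inj X hv hv0 iso_u1 u1_ne e
        exact hn (Or.inr ⟨c, hc0, hc.symm⟩)
  have h3 := Set.ncard_sdiff_add_ncard_of_subset hMS (Set.toFinite S)
  rw [← e, hM, show S.ncard = 160 from perp_two_count (F := F), ← Nat.card_coe_set_eq] at h3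
  have e3 : Nat.card {x : G // x ∈ near D d ∧ x ≠ L u0 ∧ x ≠ L u1 ∧ Commute x (L u0) ∧
      Commute x (L u1)} = {y ∈ near D d | y ≠ L u0 ∧ y ≠ L u1 ∧ Commute y (L u0) ∧
        Commute y (L u1)}.ncard := Nat.card_coe_set_eq _
  change Nat.card {v : Fin 6 → F // h v v = 0 ∧ v ≠ 0 ∧ L v ≠ L u0 ∧ L v ≠ L u1 ∧
    Commute (L v) (L u0) ∧ Commute (L v) (L u1)} + 7 = 160 at h3
  omega

/-- Two commuting members near `d` have 51 common neighbours there. -/
theorem ncard_commuting {p q : G} (hp : p ∈ near D d) (hq : q ∈ near D d) (hne : p ≠ q)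
    (hpq : Commute p q) :
    {y ∈ near D d | y ≠ p ∧ y ≠ q ∧ Commute y p ∧ Commute y q}.ncard = 51 := by
  have hne01 : L u0 ≠ L u1 := fun e => by
    obtain ⟨c, -, hc⟩ := L_inj X iso_u1 u1_ne iso_u0 u0_ne e.symm
    exact u1_ne_smul c hc
  obtain ⟨k, hk, hk0⟩ := near_trans X (L_mem X iso_u0 u0_ne) hp
  have hq' : k⁻¹ * q * k ∈ near D d := by simpa using loc_near X (inv_mem hk) hq
  have hc' : Commute (L u0) (k⁻¹ * q * k) := by
    have := (Commute.conj_iff k⁻¹).mpr hpq
    rw [← hk0] at this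
    simpa [mul_assoc] using this
  have hne' : L u0 ≠ k⁻¹ * q * k := fun e => hne (by rw [← hk0, e]; group)
  obtain ⟨l, hl, hl0, hl1⟩ := pair_trans X (L_mem X iso_u0 u0_ne) (L_mem X iso_u1 u1_ne)
    ((L_comm X iso_u0 u0_ne iso_u1 u1_ne).mpr (h_comm_zero h_u1_u0)) hne01 hq' hc' hne'
  set g := k * l with hg
  have hgl : g ∈ loc D d := mul_mem hk hl
  have hg0 : g * L u0 * g⁻¹ = p := by
    rw [hg, show k * l * L u0 * (k * l)⁻¹ = k * (l * L u0 * l⁻¹) * k⁻¹ by group, hl0, hk0]
  have hg1 : g * L u1 * g⁻¹ = q := by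
    rw [hg, show k * l * L u1 * (k * l)⁻¹ = k * (l * L u1 * l⁻¹) * k⁻¹ by group, hl1]
    group
  rw [← ncard_common_std X]
  conv_rhs => rw [← Set.ncard_image_of_injective _ (MulAut.conj g).injective]
  congr 1
  ext y
  constructor
  · rintro ⟨hy, h1, h2, h3, h4⟩
    refine ⟨g⁻¹ * y * g, ⟨by simpa using loc_near X (inv_mem hgl) hy, fun e => h1 ?_, fun e => h2 ?_,
      ?_, ?_⟩, by simp [mul_assoc]⟩
    · rw [← hg0, ← e]; group
    · rw [← hg1, ← e]; group
    · rw [← Commute.conj_iff g, hg0, show g * (g⁻¹ * y * g) * g⁻¹ = y by group]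
      exact h3
    · rw [← Commute.conj_iff g, hg1, show g * (g⁻¹ * y * g) * g⁻¹ = y by group]
      exact h4
  · rintro ⟨x, ⟨hx, h1, h2, h3, h4⟩, rfl⟩
    refine ⟨loc_near X hgl hx, fun e => h1 ?_, fun e => h2 ?_, ?_, ?_⟩
    · exact (MulAut.conj g).injective (e.trans hg0.symm)
    · exact (MulAut.conj g).injective (e.trans hg1.symm)
    · rw [← hg0]; exact (Commute.conj_iff g).mpr h3
    · rw [← hg1]; exact (Commute.conj_iff g).mpr h4

/-- Two noncommuting members near `d` have 45 common neighbours there. -/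
theorem ncard_noncommuting {p q : G} (hp : p ∈ near D d) (hq : q ∈ near D d) (hpq : ¬ Commute p q) :
    {y ∈ near D d | Commute y p ∧ Commute y q}.ncard = 45 := by
  classical
  obtain ⟨u, hu, hu0, rfl⟩ := L_surj X hp
  obtain ⟨w, hw, hw0, rfl⟩ := L_surj X hq
  have huw : h u w ≠ 0 := fun e => hpq ((L_comm X hu hu0 hw hw0).mpr e)
  have h1 := card_points X fun y => Commute y (L u) ∧ Commute y (L w)
  let S : Set (Fin 6 → F) := {v | h v v = 0 ∧ h v u = 0 ∧ h v w = 0}
  have e : {v : Fin 6 → F | h v v = 0 ∧ v ≠ 0 ∧ Commute (L v) (L u) ∧ Commute (L v) (L w)} =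
      S \ {0} := by
    ext v
    constructor
    · rintro ⟨hv, hv0, hc, hc1⟩
      exact ⟨⟨hv, (L_comm X hv hv0 hu hu0).mp hc, (L_comm X hv hv0 hw hw0).mp hc1⟩, hv0⟩
    · rintro ⟨⟨hv, hc, hc1⟩, hv0⟩
      exact ⟨hv, hv0, (L_comm X hv hv0 hu hu0).mpr hc, (L_comm X hv hv0 hw hw0).mpr hc1⟩
  have h3 := Set.ncard_sdiff_singleton_add_one (s := S) (a := 0)
    ⟨h_zero_left 0, h_zero_left u, h_zero_left w⟩ (Set.toFinite S)
  rw [← e, show S.ncard = 136 from hyperbolic_count hu hw huw] at h3
  change Nat.card {v : Fin 6 → F // h v v = 0 ∧ v ≠ 0 ∧ Commute (L v) (L u) ∧ Commute (L v) (L w)}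
    + 1 = 136 at h3
  have e3 : Nat.card {x : G // x ∈ near D d ∧ Commute x (L u) ∧ Commute x (L w)} =
      {y ∈ near D d | Commute y (L u) ∧ Commute y (L w)}.ncard := Nat.card_coe_set_eq _
  omega

/-- The product of two noncommuting members near `d` determines their line. -/
theorem eq_third {p q y : G} (hp : p ∈ near D d) (hq : q ∈ near D d) (hy : y ∈ near D d)
    (hpq : ¬ Commute p q) (hyp : ¬ Commute y p) (hyq : ¬ Commute y q)
    (he : (y * p * y⁻¹) * (y * q * y⁻¹) = q * p) : y = q * p * q⁻¹ := by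
  obtain ⟨u, hu, hu0, rfl⟩ := L_surj X hp
  obtain ⟨w, hw, hw0, rfl⟩ := L_surj X hq
  obtain ⟨r, hr, hr0, rfl⟩ := L_surj X hy
  have huw : h u w ≠ 0 := fun e => hpq ((L_comm X hu hu0 hw hw0).mpr e)
  have hru : h r u ≠ 0 := fun e => hyp ((L_comm X hr hr0 hu hu0).mpr e)
  set u' := act (T r hr) u with hu'
  set w' := act (T r hr) w with hw'
  have hu'i : h u' u' = 0 := (OrthUnitaryTransvection.herm_act _ u u).trans hu
  have hw'i : h w' w' = 0 := (OrthUnitaryTransvection.herm_act _ w w).trans hw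
  have hwu' : h w' u' ≠ 0 := fun e => huw (h_comm_zero
    ((OrthUnitaryTransvection.herm_act (T r hr) w u).symm.trans e))
  let i : ∀ v : Fin 6 → F, h v v = 0 → v ≠ 0 → ↥(loc D d) := fun v hv hv0 => ⟨L v, near_le_loc (L_mem X hv hv0)⟩
  have hk : φ (i r hr hr0) = QuotientGroup.mk' (Subgroup.center (Cfsg.SU 6 F 2)) (T r hr) :=
    L_img X hr hr0
  have hu'0 : u' ≠ 0 := OrthUnitaryPSU.act_smul_right_inj _ hu0
  have hw'0 : w' ≠ 0 := OrthUnitaryPSU.act_smul_right_inj _ hw0
  rw [show L r * L u * (L r)⁻¹ = L u' from L_conj X hk hu hu0,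
    show L r * L w * (L r)⁻¹ = L w' from L_conj X hk hw hw0] at he
  have he' : i u' hu'i hu'0 * i w' hw'i hw'0 = i w hw hw0 * i u hu hu0 := Subtype.ext he
  have h1 := congrArg φ he'
  simp only [map_mul, i, L_img X hu'i hu'0, L_img X hw'i hw'0, L_img X hw hw0, L_img X hu hu0] at h1
  rw [← map_mul, ← map_mul] at h1
  obtain ⟨z, hz, hzeq⟩ := (QuotientGroup.mk'_eq_mk' _).mp h1
  obtain ⟨l, hl⟩ := exists_scalar (by norm_num) hz
  obtain ⟨s, hs0, -, hs⟩ := ThreeTransM22Frame72.exists_iso_perp (n := 6) (m := 4) (by norm_num)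
    ![u, w, u', w']
  have hsu : h s u = 0 := hs 0
  have hsw : h s w = 0 := hs 1
  have hsu' : h s u' = 0 := hs 2
  have hsw' : h s w' = 0 := hs 3
  have hl1 : l = 1 := by
    have h2 := congrArg (fun A => act A s) hzeq
    simp only [OrthUnitaryTransvection.act_mul, hl, T_act, h_smul_left, hsu, hsw, hsu', hsw',
      mul_zero, zero_smul, add_zero] at h2
    exact smul_left_injective F hs0 (h2.trans (one_smul F s).symm)
  have h2 := congrArg (fun A => act A w') hzeq
  simp only [OrthUnitaryTransvection.act_mul, hl, hl1, one_smul, T_act, hw'i, zero_smul, add_zero,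
    add_assoc] at h2
  have hsp : h w' u' • u' ∈ Submodule.span F ({u, w} : Set (Fin 6 → F)) := by
    rw [add_left_cancel h2]
    exact add_mem (Submodule.smul_mem _ _ (Submodule.subset_span (by simp)))
      (Submodule.smul_mem _ _ (Submodule.subset_span (by simp)))
  rw [Submodule.smul_mem_iff _ hwu'] at hsp
  have hr' : r ∈ Submodule.span F ({u, w} : Set (Fin 6 → F)) := by
    have := add_mem (Submodule.subset_span (s := ({u, w} : Set (Fin 6 → F))) (Set.mem_insert u {w})) hsp
    rw [hu', T_act, ← add_assoc, vec_add_self, zero_add] at this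
    exact (Submodule.smul_mem_iff _ fun e => hru (h_comm_zero e)).mp this
  obtain ⟨a, b, hab⟩ := Submodule.mem_span_pair.mp hr'
  have ha : a ≠ 0 := fun ha => by
    subst ha
    rw [zero_smul, zero_add] at hab
    have hb : b ≠ 0 := fun hb => hr0 (by rw [← hab, hb, zero_smul])
    exact hyq (by rw [← hab, L_smul X hw hw0 hb])
  have hb : b ≠ 0 := fun hb => by
    subst hb
    rw [zero_smul, add_zero] at hab
    exact hyp (by rw [← hab, L_smul X hu hu0 ha])
  have hb2 : b = a * h u w := by
    have h3 : a * b * h u w * (b + a * h u w) = 0 := by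
      rw [← hab] at hr
      simp only [h_add_left, h_add_right, h_smul_left, h_smul_right, hu, hw, h_symm u w] at hr
      linear_combination hr
    exact eq_of_add_eq_zero ((mul_eq_zero.mp h3).resolve_left (mul_ne_zero (mul_ne_zero ha hb) huw))
  have hi : h (u + h u w • w) (u + h u w • w) = 0 := by
    have := (OrthUnitaryTransvection.herm_act (T w hw) u u).trans hu
    rwa [T_act] at this
  rw [L_tconj X hu hu0 hw hw0, ← L_smul X hi (fun e => ?_) ha]
  · congr 1
    rw [smul_add, smul_smul, ← hb2, hab]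
  · have := congrArg (fun v => h v w) e
    simp only [h_add_left, h_smul_left, hw, mul_zero, add_zero, h_zero_left] at this
    exact huw this

/-- At most five pairwise commuting members near `d` commute with two noncommuting ones there. -/
theorem ncard_clique_le {p q : G} (hp : p ∈ near D d) (hq : q ∈ near D d) (hpq : ¬ Commute p q)
    {S : Set G} (hS : S ⊆ near D d) (hc : ∀ x ∈ S, ∀ y ∈ S, Commute x y)
    (hSp : ∀ x ∈ S, Commute x p ∧ Commute x q) : S.ncard ≤ 5 := by
  classical
  obtain ⟨u, hu, hu0, rfl⟩ := L_surj X hp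
  obtain ⟨w, hw, hw0, rfl⟩ := L_surj X hq
  have huw : h u w ≠ 0 := fun e => hpq ((L_comm X hu hu0 hw hw0).mpr e)
  set M : Set (Fin 6 → F) := {v | h v v = 0 ∧ v ≠ 0 ∧ L v ∈ S} with hM
  have horth : ∀ v ∈ M, ∀ v' ∈ M, h v v' = 0 := fun v hv v' hv' =>
    (L_comm X hv.1 hv.2.1 hv'.1 hv'.2.1).mp (hc _ hv.2.2 _ hv'.2.2)
  have hperp : ∀ v ∈ M, h v u = 0 ∧ h v w = 0 := fun v hv =>
    ⟨(L_comm X hv.1 hv.2.1 hu hu0).mp (hSp _ hv.2.2).1, (L_comm X hv.1 hv.2.1 hw hw0).mp (hSp _ hv.2.2).2⟩
  set W := Submodule.span F M with hW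
  set Z := Submodule.span F ({u, w} : Set (Fin 6 → F)) with hZ
  have hWperp : ∀ x ∈ W, h x u = 0 ∧ h x w = 0 := fun x hx => by
    induction hx using Submodule.span_induction with
    | mem x hx => exact hperp x hx
    | zero => exact ⟨h_zero_left _, h_zero_left _⟩
    | add a b _ _ ha hb => exact ⟨by rw [h_add_left, ha.1, hb.1, add_zero],
        by rw [h_add_left, ha.2, hb.2, add_zero]⟩
    | smul t a _ ha => exact ⟨by rw [h_smul_left, ha.1, mul_zero], by rw [h_smul_left, ha.2, mul_zero]⟩
  have hWW : ∀ x ∈ W, ∀ y ∈ W, h x y = 0 := fun x hx y hy => by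
    induction hx using Submodule.span_induction with
    | mem x hx =>
      induction hy using Submodule.span_induction with
      | mem y hy => exact horth x hx y hy
      | zero => exact h_zero_right _
      | add a b _ _ ha hb => rw [h_add_right, ha, hb, add_zero]
      | smul t a _ ha => rw [h_smul_right, ha, mul_zero]
    | zero => exact h_zero_left _
    | add a b _ _ ha hb => rw [h_add_left, ha, hb, add_zero]
    | smul t a _ ha => rw [h_smul_left, ha, mul_zero]
  have hle : ∀ x ∈ W ⊔ Z, ∀ y ∈ W, h x y = 0 := by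
    intro x hx y hy
    obtain ⟨x1, hx1, x2, hx2, rfl⟩ := Submodule.mem_sup.mp hx
    obtain ⟨a, b, rfl⟩ := Submodule.mem_span_pair.mp hx2
    simp only [h_add_left, h_smul_left, hWW x1 hx1 y hy, h_comm_zero (hWperp y hy).1,
      h_comm_zero (hWperp y hy).2, mul_zero, add_zero]
  have hinf : W ⊓ Z = ⊥ := by
    rw [eq_bot_iff]
    rintro x ⟨hxW, hxZ⟩
    obtain ⟨a, b, rfl⟩ := Submodule.mem_span_pair.mp hxZ
    obtain ⟨h1, h2⟩ := hWperp _ hxW
    simp only [h_add_left, h_smul_left, hu, hw, mul_zero, add_zero, zero_add] at h1 h2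
    rw [(mul_eq_zero.mp h2).resolve_right huw,
      (mul_eq_zero.mp h1).resolve_right fun e => huw (h_comm_zero e), zero_smul, zero_smul, add_zero]
    exact zero_mem _
  have hZ2 : 2 ≤ Module.finrank F Z := by
    have hli : LinearIndependent F ![u, w] := by
      refine (LinearIndependent.pair_iff' hu0).mpr fun a e => ?_
      exact huw (by rw [← e, h_smul_right, hu, mul_zero])
    have := finrank_span_eq_card hli
    rw [Fintype.card_fin, Matrix.range_cons, Matrix.range_cons, Matrix.range_empty, Set.union_empty,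
      Set.singleton_union] at this
    exact this.ge
  have hdim : Module.finrank F W ≤ 2 := by
    let e := Module.finBasis F W
    have hli : LinearIndependent F fun i => (e i : Fin 6 → F) :=
      e.linearIndependent.map' W.subtype (Submodule.ker_subtype W)
    obtain ⟨x, hx⟩ := ThreeTransM22Frame72.exists_duals hli
    have hval : ∀ g : Fin (Module.finrank F W) → F, ∀ j, h (∑ i, g i • x i) (e j : Fin 6 → F) = g j :=
      fun g j => by
        rw [h_sum_left, Finset.sum_eq_single j (fun i _ hi => by rw [hx, if_neg hi, mul_zero])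
          (fun h => absurd (Finset.mem_univ _) h), hx, if_pos rfl, mul_one]
    have hxli : LinearIndependent F x := Fintype.linearIndependent_iff.mpr fun g hg j => by
      rw [← hval g j, hg, h_zero_left]
    set U := Submodule.span F (Set.range x) with hU
    have hUdim : Module.finrank F U = Module.finrank F W := by
      rw [hU, finrank_span_eq_card hxli, Fintype.card_fin]
    have hUinf : (W ⊔ Z) ⊓ U = ⊥ := by
      rw [eq_bot_iff]
      rintro y ⟨hy1, hy2⟩
      obtain ⟨g, rfl⟩ := Submodule.mem_span_range_iff_exists_fun F |>.mp hy2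
      rw [Submodule.mem_bot]
      refine Finset.sum_eq_zero fun j _ => ?_
      rw [← hval g j, hle _ hy1 _ (e j).2, zero_smul]
    have h2 := Submodule.finrank_sup_add_finrank_inf_eq W Z
    rw [hinf, finrank_bot, add_zero] at h2
    have h3 := Submodule.finrank_sup_add_finrank_inf_eq (W ⊔ Z) U
    rw [hUinf, finrank_bot, add_zero] at h3
    have h4 := Submodule.finrank_le ((W ⊔ Z) ⊔ U)
    rw [Module.finrank_fin_fun] at h4
    omega
  have hcard : Nat.card W ≤ 16 := by
    rw [Nat.card_eq_fintype_card, Module.card_eq_pow_finrank (K := F), hF.card_eq]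
    exact (Nat.pow_le_pow_right (by norm_num) hdim).trans_eq (by norm_num)
  have hsub : M ⊆ (W : Set (Fin 6 → F)) \ {0} := fun v hv => ⟨Submodule.subset_span hv, hv.2.1⟩
  have h5 := Set.ncard_le_ncard hsub (Set.toFinite _)
  have h6 := Set.ncard_sdiff_singleton_add_one (W.zero_mem) (Set.toFinite (W : Set (Fin 6 → F)))
  have h7 := card_points X fun x => x ∈ S
  have h8 : Nat.card {x : G // x ∈ near D d ∧ x ∈ S} = S.ncard := by
    rw [← Nat.card_coe_set_eq]
    exact Nat.card_congr (Equiv.subtypeEquivRight fun x => ⟨fun h => h.2, fun h => ⟨hS h, h⟩⟩)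
  rw [← Nat.card_coe_set_eq, ← Nat.card_coe_set_eq] at h5
  rw [← Nat.card_coe_set_eq, ← Nat.card_coe_set_eq] at h6
  change Nat.card {v : Fin 6 → F // h v v = 0 ∧ v ≠ 0 ∧ L v ∈ S} ≤ _ at h5
  simp only [SetLike.coe_sort_coe] at h6
  omega

/-- Two commuting members near `d` commute with two noncommuting ones there. -/
theorem exists_commuting_pair {p q : G} (hp : p ∈ near D d) (hq : q ∈ near D d) :
    ∃ b ∈ near D d, ∃ c ∈ near D d, b ≠ c ∧ Commute b c ∧ Commute b p ∧ Commute b q ∧
      Commute c p ∧ Commute c q := by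
  obtain ⟨u, hu, hu0, rfl⟩ := L_surj X hp
  obtain ⟨w, hw, hw0, rfl⟩ := L_surj X hq
  obtain ⟨v, hv0, hv, hvs⟩ := ThreeTransM22Frame72.exists_iso_perp (n := 6) (m := 2) (by norm_num)
    ![u, w]
  obtain ⟨x, hxv, hvx⟩ := exists_h_eq_one hv0
  obtain ⟨y, hy0, hy, hys⟩ := ThreeTransM22Frame72.exists_iso_perp (n := 6) (m := 4) (by norm_num)
    ![u, w, v, x]
  refine ⟨L v, L_mem X hv hv0, L y, L_mem X hy hy0, fun e => ?_, ?_, ?_, ?_, ?_, ?_⟩
  · obtain ⟨c, hc, e'⟩ := L_inj X hy hy0 hv hv0 e.symm
    have := hys 3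
    simp [e', h_smul_left, hvx, hc] at this
  · exact (L_comm X hv hv0 hy hy0).mpr (h_comm_zero (hys 2))
  · exact (L_comm X hv hv0 hu hu0).mpr (hvs 0)
  · exact (L_comm X hv hv0 hw hw0).mpr (hvs 1)
  · exact (L_comm X hy hy0 hu hu0).mpr (hys 0)
  · exact (L_comm X hy hy0 hw hw0).mpr (hys 1)

end Cfsg.Agent.ThreeTransM22LocalPairs64
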