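import Cfsg.Agent.Lib.ThreeTransM22Order72
import Cfsg.Agent.Lib.ThreeTransM22LocalPairs64
import Cfsg.Agent.Lib.ReflectionSixOrder64

/-!
# The pair of noncommuting members in type M(22)

Every member off the three lines through a noncommuting pair commutes with exactly 18 of its 126 common
neighbours; so the product of the pair determines its line and its centralizer.
-/

set_option autoImplicit false
set_option linter.unusedSectionVars false
set_option linter.style.haveILetI false
set_option maxHeartbeats 1000000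

namespace Cfsg.Agent.ThreeTransM22Six64

open Subgroup Cfsg.Agent.ThreeTransRel Cfsg.Agent.ThreeTransDescent
open Cfsg.Agent.ThreeTransM22Lift72
open scoped Classical

variable {G : Type*} [Group G] [Finite G] {D : Set G}
variable (hD : Cfsg.IsThreeTranspositionGroup D) (hprim : Cfsg.IsPrimitiveUnderConj D)
  (h22 : Cfsg.IsOfTypeM22 G D)
variable {a d : G} (ha : a ∈ D) (hd : d ∈ D) (hnc : ¬ Commute a d)
include hD hprim h22

omit [Finite G] in
theorem near_symm {u v : G} (hv : v ∈ D) (h : u ∈ near D v) : v ∈ near D u :=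
  ⟨hv, Ne.symm h.2.1, h.2.2.symm⟩

theorem ncard_common_near {b p q : G} (hb : b ∈ D) (hp : p ∈ near D b) (hq : q ∈ near D b)
    (hne : p ≠ q) :
    (near D b ∩ near D p ∩ near D q).ncard = if Commute p q then 51 else 45 := by
  obtain ⟨F, _, _, _, hctx⟩ := exists_ctx hD hprim h22
  obtain ⟨φ, X⟩ := hctx b hb
  split_ifs with hc
  · rw [← ThreeTransM22LocalPairs64.ncard_commuting X hp hq hne hc]
    congr 1
    ext y
    exact ⟨fun h => ⟨h.1.1, h.1.2.2.1, h.2.2.1, h.1.2.2.2.symm, h.2.2.2.symm⟩,
      fun h => ⟨⟨h.1, h.1.1, h.2.1, h.2.2.2.1.symm⟩, h.1.1, h.2.2.1, h.2.2.2.2.symm⟩⟩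
  · rw [← ThreeTransM22LocalPairs64.ncard_noncommuting X hp hq hc]
    congr 1
    ext y
    refine ⟨fun h => ⟨h.1.1, h.1.2.2.2.symm, h.2.2.2.symm⟩, fun h => ⟨⟨h.1, h.1.1, ?_, h.2.1.symm⟩,
      h.1.1, ?_, h.2.2.symm⟩⟩
    · rintro rfl; exact hc h.2.2
    · rintro rfl; exact hc h.2.1.symm

omit [Finite G] hprim h22 in
include ha hd hnc in
theorem third : a * d * a ∈ D ∧ ¬ Commute a (a * d * a) ∧ ¬ Commute d (a * d * a) ∧
    (a * d * a) * a = a * d ∧ d * (a * d * a) = a * d := by
  have ht := tsys_of_group hD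
  refine ⟨ht.conj_mem ha hd, fun e => hnc ?_, (ht.f1 hd ha fun e => hnc e.symm).2, ?_, ?_⟩
  · have := ht.commute_conj ha e
    rwa [ht.sq a ha, one_mul, ht.conj_conj ha] at this
  · rw [mul_assoc, ht.sq a ha, mul_one]
  · rw [ht.braid a ha d hd hnc, ← mul_assoc, ← mul_assoc, ht.sq d hd, one_mul]

omit [Finite G] hprim h22 in
include ha hd hnc in
theorem common_line : near D (a * d * a) ∩ near D a = near D a ∩ near D d := by
  have ht := tsys_of_group hD
  obtain ⟨he, hae, hde, -, -⟩ := third hD ha hd hnc
  have hconj : ∀ y, Commute a y → a * y * a = y := fun y hy => by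
    rw [hy.eq, mul_assoc, ht.sq a ha, mul_one]
  ext y
  constructor
  · rintro ⟨h1, h2⟩
    have hdy : Commute d y := by
      have := ht.commute_conj ha h1.2.2
      rwa [ht.conj_conj ha, hconj y h2.2.2] at this
    exact ⟨h2, h2.1, fun e => hnc (e ▸ h2.2.2), hdy⟩
  · rintro ⟨h2, h1⟩
    have hey : Commute (a * d * a) y := by
      have := ht.commute_conj ha h1.2.2
      rwa [hconj y h2.2.2] at this
    exact ⟨⟨h2.1, fun e => hae (e ▸ h2.2.2), hey⟩, h2⟩

include ha hd hnc

theorem ncard_deg {b : G} (hb : b ∈ near D a ∩ near D d) :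
    ((near D a ∩ near D d) ∩ near D b).ncard = 45 := by
  rw [show (near D a ∩ near D d) ∩ near D b = near D b ∩ near D a ∩ near D d by
    ext y; simp only [Set.mem_inter_iff]; tauto,
    ncard_common_near hD hprim h22 hb.1.1 (near_symm hD hprim h22 ha hb.1)
      (near_symm hD hprim h22 hd hb.2) (fun e => hnc (e ▸ Commute.refl a)), if_neg hnc]

/-- Summing over the 126 common neighbours by the commutation with one of them. -/
theorem inner {b : G} (hb : b ∈ near D a ∩ near D d) (f : G → ℤ) (c₁ c₂ : ℤ)
    (h1 : ∀ b' ∈ near D a ∩ near D d, b' ≠ b → Commute b b' → f b' = c₁)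
    (h2 : ∀ b' ∈ near D a ∩ near D d, ¬ Commute b b' → f b' = c₂) :
    ∑ b' ∈ (Set.toFinite (near D a ∩ near D d)).toFinset, f b' = f b + (45 * c₁ + 80 * c₂) := by
  set T := (Set.toFinite (near D a ∩ near D d)).toFinset with hT
  have hbT : b ∈ T := (Set.Finite.mem_toFinset _).mpr hb
  have hcard : T.card = 126 := by
    rw [hT, ← Set.ncard_eq_toFinset_card]
    exact ThreeTransM22Order72.ncard_common hD hprim h22 ha hd hnc
  have hcc : ((T.erase b).filter fun b' => Commute b b').card = 45 := by
    rw [← ncard_deg hD hprim h22 ha hd hnc hb, ← Set.ncard_coe_finset]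
    congr 1
    ext y
    simp only [hT, Finset.coe_filter, Finset.mem_erase, Set.Finite.mem_toFinset, Set.mem_setOf_eq]
    exact ⟨fun h => ⟨h.1.2, h.1.2.1.1, h.1.1, h.2⟩, fun h => ⟨⟨h.2.2.1, h.1⟩, h.2.2.2⟩⟩
  have hnn : ((T.erase b).filter fun b' => ¬ Commute b b').card = 80 := by
    have := Finset.card_filter_add_card_filter_not (s := T.erase b) (fun b' => Commute b b')
    rw [hcc, Finset.card_erase_of_mem hbT, hcard] at this
    omega
  have s1 : ∑ x ∈ (T.erase b).filter (fun b' => Commute b b'), f x = 45 * c₁ := by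
    rw [Finset.sum_eq_card_nsmul (fun b' hb' => by
      simp only [Finset.mem_filter, Finset.mem_erase, hT, Set.Finite.mem_toFinset] at hb'
      exact h1 b' hb'.1.2 hb'.1.1 hb'.2), hcc]
    simp
  have s2 : ∑ x ∈ (T.erase b).filter (fun b' => ¬ Commute b b'), f x = 80 * c₂ := by
    rw [Finset.sum_eq_card_nsmul (fun b' hb' => by
      simp only [Finset.mem_filter, Finset.mem_erase, hT, Set.Finite.mem_toFinset] at hb'
      exact h2 b' hb'.1.2 hb'.2), hnn]
    simp
  rw [← Finset.add_sum_erase T f hbT,
    ← Finset.sum_filter_add_sum_filter_not (T.erase b) (fun b' => Commute b b'), s1, s2]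

omit [Finite G] hD hprim h22 ha hd hnc in
theorem sum_count [Fintype G] (S T : Finset G) :
    (∑ x ∈ S, ((T.filter fun b => x ∈ near D b).card : ℤ)) =
      ∑ b ∈ T, (((↑S : Set G) ∩ near D b).ncard : ℤ) ∧
    (∑ x ∈ S, ((T.filter fun b => x ∈ near D b).card : ℤ) ^ 2) =
      ∑ b ∈ T, ∑ b' ∈ T, (((↑S : Set G) ∩ near D b ∩ near D b').ncard : ℤ) := by
  have h2 : ∀ x, ((T.filter fun b => x ∈ near D b).card : ℤ) =
      ∑ b ∈ T, if x ∈ near D b then 1 else 0 := fun x => by rw [Finset.sum_boole]
  constructor
  · rw [Finset.sum_congr rfl fun x _ => h2 x, Finset.sum_comm]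
    refine Finset.sum_congr rfl fun b _ => ?_
    rw [Finset.sum_boole, ← Set.ncard_coe_finset]
    congr 2
    ext x; simp
  · simp only [h2, sq, Finset.sum_mul, Finset.mul_sum]
    rw [Finset.sum_comm]
    refine Finset.sum_congr rfl fun b _ => ?_
    rw [Finset.sum_comm]
    refine Finset.sum_congr rfl fun b' _ => ?_
    rw [Finset.sum_congr rfl (g := fun x => if x ∈ near D b ∧ x ∈ near D b' then (1 : ℤ) else 0)
      (fun x _ => by split_ifs <;> simp_all), Finset.sum_boole, ← Set.ncard_coe_finset]
    congr 2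
    ext x; simp [and_assoc]

/-- The sums over the neighbours of `a`. -/
theorem side_sums [Fintype G] (T : Finset G) (hT : (↑T : Set G) = near D a ∩ near D d) :
    (∑ x ∈ (near D a).toFinset, ((T.filter fun b => x ∈ near D b).card : ℤ)) = 22680 ∧
    (∑ x ∈ (near D a).toFinset, ((T.filter fun b => x ∈ near D b).card : ℤ) ^ 2) = 765450 := by
  have hmem : ∀ b, b ∈ T ↔ b ∈ near D a ∩ near D d := fun b => by rw [← hT]; rfl
  have hTc : T.card = 126 := by
    rw [← Set.ncard_coe_finset, hT, ThreeTransM22Order72.ncard_common hD hprim h22 ha hd hnc]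
  have hTeq : T = (Set.toFinite (near D a ∩ near D d)).toFinset := by
    ext b; rw [Set.Finite.mem_toFinset]; exact hmem b
  obtain ⟨h1, h2⟩ := sum_count (D := D) (near D a).toFinset T
  rw [h1, h2, Set.coe_toFinset]
  constructor
  · rw [Finset.sum_congr rfl (g := fun _ => (180 : ℤ)) fun b hb => by
      rw [ThreeTransM22Order72.ncard_adjacent hD hprim h22 ha ((hmem b).mp hb).1]; rfl,
      Finset.sum_const, hTc]
    norm_num
  · rw [Finset.sum_congr rfl (g := fun _ => ((180 : ℤ) + (45 * 51 + 80 * 45))) fun b hb => ?_,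
      Finset.sum_const, hTc]
    · norm_num
    · rw [hTeq, inner hD hprim h22 ha hd hnc ((hmem b).mp hb) _ 51 45
        (fun b' hb' hne hc => by
          rw [ncard_common_near hD hprim h22 ha ((hmem b).mp hb).1 hb'.1 (Ne.symm hne), if_pos hc]; rfl)
        (fun b' hb' hc => by
          rw [ncard_common_near hD hprim h22 ha ((hmem b).mp hb).1 hb'.1
            (fun e => hc (e ▸ Commute.refl b)), if_neg hc]; rfl)]
      rw [show near D a ∩ near D b ∩ near D b = near D a ∩ near D b by simp [Set.inter_assoc],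
        ThreeTransM22Order72.ncard_adjacent hD hprim h22 ha ((hmem b).mp hb).1]
      rfl

/-- A member off the lines commutes with some common neighbour. -/
theorem exists_triangle_near {y : G} (hy : y ∈ D) (hya : ¬ Commute y a) (hyd : ¬ Commute y d)
    (hye : ¬ Commute y (a * d * a)) : ∃ b ∈ near D a ∩ near D d, y ∈ near D b := by
  haveI := Fintype.ofFinite G
  obtain ⟨he, hae, hde, -, -⟩ := third hD ha hd hnc
  set e := a * d * a with hedef
  set T : Finset G := (near D a ∩ near D d).toFinset with hTdef
  have hT : (↑T : Set G) = near D a ∩ near D d := Set.coe_toFinset _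
  have hTc : T.card = 126 := by
    rw [← Set.ncard_coe_finset, hT, ThreeTransM22Order72.ncard_common hD hprim h22 ha hd hnc]
  have hTeq : T = (Set.toFinite (near D a ∩ near D d)).toFinset := by ext b; simp [hTdef]
  have hmem : ∀ b, b ∈ T ↔ b ∈ near D a ∩ near D d := fun b => Set.mem_toFinset
  set g : G → ℤ := fun x => ((T.filter fun b => x ∈ near D b).card : ℤ) with hg
  have hA1 := common_line hD ha hd hnc
  have sa := side_sums hD hprim h22 ha hd hnc T hT
  have sd := side_sums hD hprim h22 hd ha (fun h => hnc h.symm) T (hT.trans (Set.inter_comm _ _))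
  have se := side_sums hD hprim h22 he ha (fun h => hae h.symm) T (hT.trans hA1.symm)
  obtain ⟨hD1, hD2⟩ := sum_count (D := D) D.toFinset T
  have hDn : ∀ b, (↑D.toFinset : Set G) ∩ near D b = near D b := fun b => by
    rw [Set.coe_toFinset]; exact Set.inter_eq_right.mpr fun x hx => hx.1
  have tD1 : ∑ x ∈ D.toFinset, g x = 87318 := by
    rw [hD1, Finset.sum_congr rfl (g := fun _ => (693 : ℤ)) fun b hb => by
      rw [hDn, ThreeTransM22Order72.ncard_near hD hprim h22 ((hmem b).mp hb).1.1]; rfl,
      Finset.sum_const, hTc]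
    norm_num
  have tD2 : ∑ x ∈ D.toFinset, g x ^ 2 = 2377998 := by
    rw [hD2, Finset.sum_congr rfl (g := fun _ => ((693 : ℤ) + (45 * 180 + 80 * 126))) fun b hb => ?_,
      Finset.sum_const, hTc]
    · norm_num
    · simp only [hDn]
      rw [hTeq, inner hD hprim h22 ha hd hnc ((hmem b).mp hb) _ 180 126
        (fun b' hb' hne hc => by
          rw [ThreeTransM22Order72.ncard_adjacent hD hprim h22 ((hmem b).mp hb).1.1
            ⟨hb'.1.1, hne, hc⟩]; rfl)
        (fun b' hb' hc => by
          rw [ThreeTransM22Order72.ncard_common hD hprim h22 ((hmem b).mp hb).1.1 hb'.1.1 hc]; rfl)]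
      rw [Set.inter_self, ThreeTransM22Order72.ncard_near hD hprim h22 ((hmem b).mp hb).1.1]; rfl
  have gA : ∀ x ∈ T, g x = 45 := fun x hx => by
    show ((T.filter fun b => x ∈ near D b).card : ℤ) = 45
    rw [← Set.ncard_coe_finset, show ((↑(T.filter fun b => x ∈ near D b) : Set G)) =
      (near D a ∩ near D d) ∩ near D x from ?_, ncard_deg hD hprim h22 ha hd hnc ((hmem x).mp hx)]
    · rfl
    · ext b
      simp only [Finset.coe_filter, hmem, Set.mem_inter_iff, Set.mem_setOf_eq]
      exact ⟨fun h => ⟨h.1, h.1.1.1, Ne.symm h.2.2.1, h.2.2.2.symm⟩,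
        fun h => ⟨h.1, ((hmem x).mp hx).1.1, Ne.symm h.2.2.1, h.2.2.2.symm⟩⟩
  have gl : ∀ x ∈ ({a, d, e} : Finset G), g x = 126 := fun x hx => by
    show ((T.filter fun b => x ∈ near D b).card : ℤ) = 126
    rw [Finset.filter_true_of_mem, hTc]
    · rfl
    intro b hb
    have hb' := (hmem b).mp hb
    simp only [Finset.mem_insert, Finset.mem_singleton] at hx
    rcases hx with rfl | rfl | rfl
    · exact near_symm hD hprim h22 ha hb'.1
    · exact near_symm hD hprim h22 hd hb'.2
    · rw [← hA1] at hb'
      exact near_symm hD hprim h22 he hb'.1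
  set N : Finset G := D.toFinset.filter fun x => ¬ Commute x a ∧ ¬ Commute x d ∧ ¬ Commute x e with hN
  have hna : ∀ x, x ∈ near D a ↔ x ∈ D ∧ x ≠ a ∧ Commute a x := fun x => Iff.rfl
  have hne3 : a ≠ d ∧ a ≠ e ∧ d ≠ e := ⟨fun h => hnc (h ▸ Commute.refl a),
    fun h => hae (h ▸ Commute.refl a), fun h => hde (h ▸ Commute.refl d)⟩
  have hpart : ∀ f : G → ℤ, ∑ x ∈ D.toFinset, f x + 2 * ∑ x ∈ T, f x =
      ∑ x ∈ ({a, d, e} : Finset G), f x + ∑ x ∈ (near D a).toFinset, f x +
        ∑ x ∈ (near D d).toFinset, f x + ∑ x ∈ (near D e).toFinset, f x + ∑ x ∈ N, f x := by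
    intro f
    have key : ∀ S : Finset G, S ⊆ D.toFinset →
        ∑ x ∈ S, f x = ∑ x ∈ D.toFinset, if x ∈ S then f x else 0 := fun S hS => by
      rw [← Finset.sum_filter, Finset.filter_mem_eq_inter, Finset.inter_eq_right.mpr hS]
    rw [key T (fun x hx => Set.mem_toFinset.mpr ((hmem x).mp hx).1.1),
      key {a, d, e} (fun x hx => by
        simp only [Finset.mem_insert, Finset.mem_singleton] at hx
        rcases hx with rfl | rfl | rfl <;> simp [ha, hd, he]),
      key (near D a).toFinset (fun x hx => Set.mem_toFinset.mpr (Set.mem_toFinset.mp hx).1),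
      key (near D d).toFinset (fun x hx => Set.mem_toFinset.mpr (Set.mem_toFinset.mp hx).1),
      key (near D e).toFinset (fun x hx => Set.mem_toFinset.mpr (Set.mem_toFinset.mp hx).1),
      key N (Finset.filter_subset _ _), Finset.mul_sum, ← Finset.sum_add_distrib,
      ← Finset.sum_add_distrib, ← Finset.sum_add_distrib, ← Finset.sum_add_distrib,
      ← Finset.sum_add_distrib]
    refine Finset.sum_congr rfl fun x hx => ?_
    have hxD := Set.mem_toFinset.mp hx
    have k1 : ∀ z, z ∈ near D a ∩ near D d → Commute e z := fun z hz => by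
      rw [← hA1] at hz; exact hz.1.2.2
    have k2 : Commute a x → Commute e x → Commute d x := fun u v => by
      by_cases hxa : x = a
      · subst hxa; exact absurd v.symm hae
      by_cases hxe : x = e
      · subst hxe; exact absurd u hae
      have : x ∈ near D e ∩ near D a := ⟨⟨hxD, hxe, v⟩, hxD, hxa, u⟩
      rw [hA1] at this
      exact this.2.2.2
    have k3 : Commute d x → Commute e x → Commute a x := fun u v => by
      have ht := tsys_of_group hD
      have hed : e = d * a * d := ht.braid a ha d hd hnc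
      have h' := ht.commute_conj hd v
      rw [hed, ht.conj_conj hd, show d * x * d = x by rw [u.eq, mul_assoc, ht.sq d hd, mul_one]] at h'
      exact h'
    simp only [hN, hmem, Set.mem_toFinset, Finset.mem_filter, Finset.mem_insert, Finset.mem_singleton,
      Set.mem_inter_iff, Set.mem_setOf_eq, hxD, true_and]
    have sa' : Commute x a ↔ Commute a x := ⟨Commute.symm, Commute.symm⟩
    have sd' : Commute x d ↔ Commute d x := ⟨Commute.symm, Commute.symm⟩
    have se' : Commute x e ↔ Commute e x := ⟨Commute.symm, Commute.symm⟩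
    simp only [sa', sd', se']
    have hed' : ¬ Commute e d := fun h => hde h.symm
    have hea' : ¬ Commute e a := fun h => hae h.symm
    have hda' : ¬ Commute d a := fun h => hnc h.symm
    by_cases hxa : x = a
    · subst hxa; simp [hne3.1, hne3.2.1, hda', hea']
    by_cases hxd : x = d
    · subst hxd; simp [hne3.2.2, Ne.symm hne3.1, hnc, hed']
    by_cases hxe : x = e
    · subst hxe; simp [Ne.symm hne3.2.1, Ne.symm hne3.2.2, hae, hde]
    simp only [hxa, hxd, hxe, ne_eq, not_false_eq_true, true_and, or_self, if_false]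
    by_cases ca : Commute a x <;> by_cases cd : Commute d x <;> by_cases ce : Commute e x
    · simp only [ca, cd, ce]; norm_num; ring
    · exact absurd (k1 x ⟨⟨hxD, hxa, ca⟩, hxD, hxd, cd⟩) ce
    · exact absurd (k2 ca ce) cd
    · simp [ca, cd, ce]
    · exact absurd (k3 cd ce) ca
    · simp [ca, cd, ce]
    · simp [ca, cd, ce]
    · simp [ca, cd, ce]
  have h3 : ({a, d, e} : Finset G).card = 3 := by simp [hne3.1, hne3.2.1, hne3.2.2]
  have hnear : ∀ z ∈ D, ((near D z).toFinset.card : ℤ) = 693 := fun z hz => by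
    rw [← Set.ncard_eq_toFinset_card', ThreeTransM22Order72.ncard_near hD hprim h22 hz]; rfl
  have p1 := hpart g
  have p2 := hpart fun x => g x ^ 2
  have p0 := hpart fun _ => (1 : ℤ)
  rw [Finset.sum_congr rfl gA, Finset.sum_congr rfl gl, sa.1, sd.1, se.1, tD1] at p1
  rw [Finset.sum_congr rfl (fun x hx => congrArg (· ^ 2) (gA x hx)),
    Finset.sum_congr rfl (fun x hx => congrArg (· ^ 2) (gl x hx)), sa.2, sd.2, se.2, tD2] at p2
  simp only [Finset.sum_const, nsmul_eq_mul, mul_one, hnear a ha, hnear d hd, hnear e he] at p0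
  rw [← Set.ncard_eq_toFinset_card', ThreeTransM22Order72.card_D hD hprim h22, hTc, h3] at p0
  simp only [Finset.sum_const, nsmul_eq_mul, hTc, h3] at p1 p2
  norm_num at p0 p1 p2
  have hzero : ∑ x ∈ N, (g x - 18) ^ 2 = 0 := by
    rw [Finset.sum_congr rfl (g := fun x => g x ^ 2 - 36 * g x + 324) (fun x _ => by ring),
      Finset.sum_add_distrib, Finset.sum_sub_distrib, ← Finset.mul_sum, Finset.sum_const, nsmul_eq_mul]
    linarith
  have hyN : y ∈ N := Finset.mem_filter.mpr ⟨Set.mem_toFinset.mpr hy, hya, hyd, hye⟩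
  have h18 := (Finset.sum_eq_zero_iff_of_nonneg fun x _ => sq_nonneg (g x - 18)).mp hzero y hyN
  have hgy : g y = 18 := by linarith [pow_eq_zero_iff (n := 2) (by norm_num) |>.mp h18]
  obtain ⟨b, hb⟩ : (T.filter fun b => y ∈ near D b).Nonempty := Finset.card_pos.mp (by
    have : ((T.filter fun b => y ∈ near D b).card : ℤ) = 18 := hgy
    omega)
  rw [Finset.mem_filter] at hb
  exact ⟨b, (hmem b).mp hb.1, hb.2⟩

omit hprim h22 ha hd hnc in
/-- A member inverting the product of a noncommuting pair and commuting with its first member. -/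
theorem eq_of_invert_commute {p q y : G} (hp : p ∈ D) (hq : q ∈ D) (hpq : ¬ Commute p q) (hy : y ∈ D)
    (hc : Commute y p) (he : y * (p * q) * y = q * p) : y = p := by
  have ht := tsys_of_group hD
  have h1 : y * p * y = p := by rw [hc.eq, mul_assoc, ht.sq y hy, mul_one]
  have h2 : y * q * y = p * q * p := by
    have : p * (y * q * y) = q * p := by
      rw [← he]; nth_rewrite 1 [← h1]
      calc y * p * y * (y * q * y) = y * p * (y * y) * q * y := by group
        _ = y * (p * q) * y := by rw [ht.sq y hy]; group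
    calc y * q * y = p * p * (y * q * y) := by rw [ht.sq p hp, one_mul]
      _ = p * q * p := by rw [mul_assoc, this, ← mul_assoc]
  set u := p * y with hu
  have hy' : y = p * u := by rw [hu, ← mul_assoc, ht.sq p hp, one_mul]
  have hup : Commute u p := (Commute.refl p).mul_left hc
  have huq : Commute u q := by
    show p * y * q = q * (p * y)
    calc p * y * q = p * (y * q * y) * y := by
          rw [show p * (y * q * y) * y = p * y * q * (y * y) by group, ht.sq y hy, mul_one]
      _ = p * (p * q * p) * y := by rw [h2]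
      _ = q * (p * y) := by
          rw [show p * (p * q * p) * y = p * p * (q * (p * y)) by group, ht.sq p hp, one_mul]
  have hyq : ¬ Commute y q := fun e => hpq (by
    have : p * q * p = q := by rw [← h2, e.eq, mul_assoc, ht.sq y hy, mul_one]
    show p * q = q * p
    conv_rhs => rw [← this, mul_assoc, ht.sq p hp, mul_one])
  have hu2 : u * u = 1 := by
    rw [hu, show p * y * (p * y) = p * (y * p * y) by group, h1, ht.sq p hp]
  have hc3 := ThreeTrans.cube_of_not_commute hD.1 hy hq hyq
  have hpq3 := ThreeTrans.cube_of_not_commute hD.1 hp hq hpq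
  rw [hy', show p * u * q = p * q * u by rw [mul_assoc, huq.eq, ← mul_assoc],
    (hup.mul_right huq).symm.mul_pow, hpq3, one_mul, pow_succ, sq, hu2, one_mul] at hc3
  rw [hy', hc3, mul_one]

/-- The members inverting `a * d` are those of its line. -/
theorem eq_of_invert {y : G} (hy : y ∈ D) (he : y * (a * d) * y = d * a) :
    y = a ∨ y = d ∨ y = a * d * a := by
  have ht := tsys_of_group hD
  obtain ⟨hed, hae, hde, e1, e2⟩ := third hD ha hd hnc
  set e := a * d * a with hedef
  by_cases ca : Commute y a
  · exact Or.inl (eq_of_invert_commute hD ha hd hnc hy ca he)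
  have hxinv : (a * d)⁻¹ = d * a := by rw [mul_inv_rev, ht.inv_self ha, ht.inv_self hd]
  by_cases cd : Commute y d
  · refine Or.inr (Or.inl (eq_of_invert_commute hD hd hed hde hy cd ?_))
    rw [e2, he, ← hxinv, ← e2, mul_inv_rev, ht.inv_self hd, ht.inv_self hed]
  by_cases ce : Commute y e
  · refine Or.inr (Or.inr (eq_of_invert_commute hD hed ha (fun h => hae h.symm) hy ce ?_))
    rw [e1, he, ← hxinv, ← e1, mul_inv_rev, ht.inv_self ha, ht.inv_self hed]
  exfalso
  obtain ⟨b, hb, hyb⟩ := exists_triangle_near hD hprim h22 ha hd hnc hy ca cd ce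
  obtain ⟨F, _, _, _, hctx⟩ := exists_ctx hD hprim h22
  obtain ⟨φ, X⟩ := hctx b hb.1.1
  have h3 := ThreeTransM22LocalPairs64.eq_third X (near_symm hD hprim h22 ha hb.1)
    (near_symm hD hprim h22 hd hb.2) hyb hnc ca cd (by
      rw [ht.inv_self hy, show y * a * y * (y * d * y) = y * a * (y * y) * d * y by group, ht.sq y hy,
        mul_one, show y * a * d * y = y * (a * d) * y by group, he])
  rw [ht.inv_self hd, ← ht.braid a ha d hd hnc] at h3
  exact ce (h3 ▸ Commute.refl _)

/-- The members commuting with `a * d` commute with `a` and `d`. -/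
theorem commute_line {y : G} (hy : y ∈ D) (hc : Commute y (a * d)) : Commute a y ∧ Commute d y := by
  have ht := tsys_of_group hD
  obtain ⟨hed, hae, hde, e1, e2⟩ := third hD ha hd hnc
  have hfix : y * (a * d) * y = a * d := by rw [hc.eq, mul_assoc, ht.sq y hy, mul_one]
  have hfix' : y * (d * a) * y = d * a := by
    have := congrArg (·⁻¹) hfix
    simpa [mul_inv_rev, ht.inv_self ha, ht.inv_self hd, ht.inv_self hy, mul_assoc] using this
  have hx : a * (a * d) * a = d * a := by rw [← mul_assoc, ht.sq a ha, one_mul]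
  have hz : (y * a * y) * (a * d) * (y * a * y) = d * a := by
    calc (y * a * y) * (a * d) * (y * a * y) = y * a * (y * (a * d) * y) * a * y := by group
      _ = y * (a * (a * d) * a) * y := by rw [hfix]; group
      _ = d * a := by rw [hx, hfix']
  have hya : Commute y a := by
    by_contra hn
    have hb : y * a * y = a * y * a := ht.braid y hy a ha hn
    rcases eq_of_invert hD hprim h22 ha hd hnc (ht.conj_mem hy ha) hz with h | h | h
    · apply hn
      show y * a = a * y
      calc y * a = y * a * (y * y) := by rw [ht.sq y hy, mul_one]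
        _ = (y * a * y) * y := by group
        _ = a * y := by rw [h]
    · have hye : y = a * d * a := by rw [← h, hb, ht.conj_conj ha]
      subst hye
      apply hae
      have h' : Commute (a * d * a) (a * d * a * a) := e1.symm ▸ hc
      show a * (a * d * a) = a * d * a * a
      have h'' := h'.eq
      rw [show a * d * a * a * (a * d * a) = a * d * a * (a * (a * d * a)) by group] at h''
      exact (mul_left_cancel h'').symm
    · have hye : y = d := by rw [← ht.conj_conj ha y, ← hb, h, ht.conj_conj ha]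
      rw [hye] at hc
      apply hde
      have h' : Commute d (d * (a * d * a)) := e2.symm ▸ hc
      have h'' := h'.eq
      rw [mul_assoc d (a * d * a) d] at h''
      exact mul_left_cancel h''
  refine ⟨hya.symm, ?_⟩
  have h := (hya.mul_right hc).symm
  rwa [← mul_assoc, ht.sq a ha, one_mul] at h

end Cfsg.Agent.ThreeTransM22Six64
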