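import Cfsg.Agent.Lib.ThreeTransM22Base17
import Cfsg.Agent.Lib.ThreeTransM22Block72
import Cfsg.Agent.Lib.ThreeTransM22Order72
import Cfsg.Agent.Lib.ThreeTransM22Local72
import Cfsg.Agent.Lib.ThreeTransM22Six64

/-!
# Facts on a group of type M(22) used for the recognition of M(23)

Hexads cut out on a maximal commuting set by outside members, relations of six members through a
commuting pair, and the lack of odd normal subgroups in the centralizer of a member.
-/

set_option autoImplicit false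
set_option linter.unusedSectionVars false
set_option linter.style.haveILetI false

namespace Cfsg.Agent.Fi23LocalQ94

open scoped commutatorElement
open Subgroup Cfsg.Agent.ThreeTransRel Cfsg.Agent.ThreeTransDescent Cfsg.Agent.ThreeTransM22Frame72
open Cfsg.Agent.ThreeTransM22Lift72 Cfsg.Agent.UnitaryF4Geo Cfsg.Agent.UnitaryF4Line
open Cfsg.Agent.ThreeTransM22Outer72 (Blk)

variable {Q : Type*} [Group Q] [Finite Q] {E : Set Q}
variable (hE : Cfsg.IsThreeTranspositionGroup E) (hprim : Cfsg.IsPrimitiveUnderConj E)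
  (h22 : Cfsg.IsOfTypeM22 Q E)
include hE hprim h22

/-- Pairs are determined by their products. -/
theorem pair_fix {a b k : Q} (ha : a ∈ E) (hb : b ∈ E) (hab : a ≠ b) (hc : Commute a b)
    (hk : Commute k (a * b)) : k * a * k⁻¹ = a ∨ k * a * k⁻¹ = b := by
  have ht := tsys_of_group hE
  have hl : CList E [a, b] := by
    refine ⟨?_, by simp [hab], ?_⟩
    · simp [ha, hb]
    · intro x hx y hy
      simp only [List.mem_cons, List.not_mem_nil, or_false] at hx hy
      rcases hx with rfl | rfl <;> rcases hy with rfl | rfl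
      exacts [Commute.refl _, hc, hc.symm, Commute.refl _]
  have hl' : CList E [k * a * k⁻¹, k * b * k⁻¹] := by
    refine ⟨?_, by simpa using hab, ?_⟩
    · simp [ht.conj k a ha, ht.conj k b hb]
    · intro x hx y hy
      simp only [List.mem_cons, List.not_mem_nil, or_false] at hx hy
      have hck : Commute (k * a * k⁻¹) (k * b * k⁻¹) := (Commute.conj_iff k).mpr hc
      rcases hx with rfl | rfl <;> rcases hy with rfl | rfl
      exacts [Commute.refl _, hck, hck.symm, Commute.refl _]
  have he : [k * a * k⁻¹, k * b * k⁻¹].prod = [a, b].prod := by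
    simp only [List.prod_cons, List.prod_nil, mul_one]
    calc k * a * k⁻¹ * (k * b * k⁻¹) = k * (a * b) * k⁻¹ := by group
      _ = a * b := by rw [hk.eq, mul_inv_cancel_right]
  simpa using (ThreeTransPairs.pair_unique ht hprim hl' rfl hl rfl he (k * a * k⁻¹)).mp (by simp)

/-- Through two commuting members passes a relation of six members. -/
theorem exists_six {s c : Q} (hs : s ∈ E) (hc : c ∈ near E s) :
    ∃ l : List Q, l.Nodup ∧ l.length = 5 ∧ (∀ t ∈ l, t ∈ near E s) ∧
      (∀ t ∈ l, ∀ u ∈ l, Commute t u) ∧ s * l.prod = 1 := by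
  have ht := tsys_of_group hE
  have hline := ThreeTransLine.lineAt_all ht hprim h22
  obtain ⟨B, hB, hsub⟩ := ThreeTransM22Block72.exists_block_through hE hprim h22 (T := {s, c})
    (by rintro x (rfl | rfl); exacts [hs, hc.1]) (by
      rintro x (rfl | rfl) y (rfl | rfl)
      exacts [Commute.refl _, hc.2.2, hc.2.2.symm, Commute.refl _])
  obtain ⟨e, heB, hes, hec⟩ := ThreeTransM22Block72.exists_other hE hprim h22 hB s c
  have hen : e ∈ near E s := ⟨hB.sub heB, hes, hB.comm s (hsub (Or.inl rfl)) e heB⟩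
  have hce : Commute c e := hB.comm c (hsub (Or.inr rfl)) e heB
  obtain ⟨l, h5⟩ := (hline s hs).1 c hc e hen hce hec.symm
  exact ⟨l, h5.nodup, h5.len, h5.near_mem, h5.comm,
    ThreeTransLine.six ht hprim h22.1 hline hs h5 hc hen hce hec.symm⟩

/-- A member outside commutes with three given members of a maximal commuting set; all such members
commute with the same members of the set. -/
theorem hexad {B : Set Q} (hB : Blk E B) {i j k : Q} (hi : i ∈ B) (hj : j ∈ B) (hk : k ∈ B)
    (hij : i ≠ j) (hik : i ≠ k) (hjk : j ≠ k) :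
    ∃ q ∈ E, q ∉ B ∧ Commute i q ∧ Commute j q ∧ Commute k q ∧
      ∀ q' ∈ E, q' ∉ B → Commute i q' → Commute j q' → Commute k q' →
        ∀ w ∈ B, Commute w q' ↔ Commute w q := by
  classical
  have ht := tsys_of_group hE
  have hline := ThreeTransLine.lineAt_all ht hprim h22
  have hjn := ThreeTransM22Base17.near_of_mem hB hi hj hij.symm
  have hkn := ThreeTransM22Base17.near_of_mem hB hi hk hik.symm
  obtain ⟨l, h5⟩ := (hline i (hB.sub hi)).1 j hjn k hkn (hB.comm j hj k hk) hjk
  have hsix : ∀ q' ∈ E, q' ∉ B → Commute i q' → Commute j q' → Commute k q' →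
      {b | b ∈ B ∧ Commute q' b} = ↑(insert i l.toFinset) := by
    intro q hq hqB h1 h2 h3
    refine (Set.eq_of_subset_of_ncard_le ?_ ?_ (Set.toFinite _)).symm
    · intro b hb
      simp only [Finset.coe_insert, List.coe_toFinset, Set.mem_insert_iff, Set.mem_ofPred_eq] at hb
      rcases hb with rfl | hb
      · exact ⟨hi, h1.symm⟩
      · exact ⟨ThreeTransM22Base17.five_mem hB hi hj hk h5 b hb,
          h5.closed q ⟨hq, fun e => hqB (e ▸ hi), h1⟩ h2.symm h3.symm b hb⟩
    · rw [Set.ncard_coe_finset, Finset.card_insert_of_notMem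
          (fun hm => (h5.near_mem i (List.mem_toFinset.mp hm)).2.1 rfl),
        List.toFinset_card_of_nodup h5.nodup, h5.len]
      exact le_of_eq (ThreeTransM22Base17.ncard_meet hE hprim h22 hB hi hq hqB h1.symm)
  obtain ⟨F, _, _, _, hctx⟩ := exists_ctx hE hprim h22
  obtain ⟨φ, X⟩ := hctx i (hB.sub hi)
  obtain ⟨w, hw⟩ := exists_omega (F := F)
  obtain ⟨e, f, hfr, -, hmem, hsur⟩ := ThreeTransM22Outer72.exists_plane X hB hi hw
  obtain ⟨c₁, hc₁, hjc⟩ := hsur j hj hij.symm
  obtain ⟨c₂, hc₂, hkc⟩ := hsur k hk hik.symm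
  let Λ : (Fin 3 → F) →ₗ[F] (Fin 2 → F) := Matrix.mulVecLin (Matrix.of ![c₁, c₂])
  obtain ⟨a, hak, ha⟩ := (Submodule.ne_bot_iff _).mp (LinearMap.ker_ne_bot_of_finrank_lt (f := Λ)
    (by simp))
  have hΛ : ∀ m : Fin 2, ∑ x, (![c₁, c₂] m) x * a x = 0 := fun m =>
    congrFun (LinearMap.mem_ker.mp hak) m
  set b : Fin 3 → F := fun x => a x ^ 2 with hb
  have hb2 : ∀ x, b x ^ 2 = a x := fun x => sq_sq (a x)
  have hb0 : b ≠ 0 := fun h0 => ha (funext fun x => by rw [← hb2, h0]; simp)
  have hv0 : comb f b ≠ 0 := ThreeTransM22Std72.comb_ne X hfr.symm hb0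
  have hv : h (comb f b) (comb f b) = 0 := hfr.symm.h_ee b b
  have hpair : ∀ c : Fin 3 → F, h (comb e c) (comb f b) = ∑ x, c x * a x := fun c => by
    rw [hfr.h_ef]; simp only [hb2]
  have hqj : Commute j (Chart.L X.chart (comb f b)) := by
    rw [hjc]
    exact (L_comm X (hfr.h_ee _ _) (ThreeTransM22Std72.comb_ne X hfr hc₁) hv hv0).mpr
      (by rw [hpair]; exact hΛ 0)
  have hqk : Commute k (Chart.L X.chart (comb f b)) := by
    rw [hkc]
    exact (L_comm X (hfr.h_ee _ _) (ThreeTransM22Std72.comb_ne X hfr hc₂) hv hv0).mpr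
      (by rw [hpair]; exact hΛ 1)
  have hqn := L_mem X hv hv0
  set q := Chart.L X.chart (comb f b) with hq
  obtain ⟨x, hx⟩ : ∃ x, a x ≠ 0 := by
    by_contra hn
    push Not at hn
    exact ha (funext hn)
  have hqB : q ∉ B := by
    intro hqB
    have he0 : (Pi.single x (1 : F) : Fin 3 → F) ≠ 0 := fun h0 => by simpa using congrFun h0 x
    have := (L_comm X (hfr.h_ee _ _) (ThreeTransM22Std72.comb_ne X hfr he0) hv hv0).mp
      (hB.comm _ (hmem _ he0) q hqB)
    rw [hpair, Finset.sum_eq_single x (fun y _ hy => by simp [Pi.single_eq_of_ne hy]) (by simp)] at this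
    exact hx (by simpa using this)
  refine ⟨q, hqn.1, hqB, hqn.2.2, hqj, hqk, fun q' hq' hq'B h1 h2 h3 y hy => ?_⟩
  have e1 := Set.ext_iff.mp (hsix q' hq' hq'B h1 h2 h3) y
  have e2 := Set.ext_iff.mp (hsix q hqn.1 hqB hqn.2.2 hqj hqk) y
  exact ⟨fun hh => (e2.mpr (e1.mp ⟨hy, hh.symm⟩)).2.symm,
    fun hh => (e1.mpr (e2.mp ⟨hy, hh.symm⟩)).2.symm⟩

/-- A member near one of two noncommuting members commutes with one of their common neighbours. -/
theorem exists_common_three {a d y : Q} (ha : a ∈ E) (hd : d ∈ E) (hnc : ¬ Commute a d)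
    (hy : y ∈ near E a) : ∃ b ∈ near E a ∩ near E d, Commute b y := by
  classical
  haveI := Fintype.ofFinite Q
  by_contra hno
  push Not at hno
  set T : Finset Q := (near E a ∩ near E d).toFinset with hTdef
  have hT : (↑T : Set Q) = near E a ∩ near E d := Set.coe_toFinset _
  obtain ⟨s1, s2⟩ := ThreeTransM22Six64.side_sums hE hprim h22 ha hd hnc T hT
  have hTc : T.card = 126 := by
    rw [← Set.ncard_coe_finset, hT, ThreeTransM22Order72.ncard_common hE hprim h22 ha hd hnc]
  set g : Q → ℤ := fun x => ((T.filter fun b => x ∈ near E b).card : ℤ) with hg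
  have gT : ∀ x ∈ T, g x = 45 := fun x hx => by
    have hx' : x ∈ near E a ∩ near E d := hT ▸ hx
    show ((T.filter fun b => x ∈ near E b).card : ℤ) = 45
    rw [show (45 : ℤ) = ((45 : ℕ) : ℤ) from rfl, ← ThreeTransM22Six64.ncard_deg hE hprim h22 ha hd hnc hx',
      ← Set.ncard_coe_finset]
    congr 2
    ext b
    rw [Finset.coe_filter, Set.mem_ofPred_eq, ← Finset.mem_coe, hT]
    exact ⟨fun h => ⟨h.1, h.1.1.1, Ne.symm h.2.2.1, h.2.2.2.symm⟩,
      fun h => ⟨h.1, hx'.1.1, Ne.symm h.2.2.1, h.2.2.2.symm⟩⟩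
  have hsubT : T ⊆ (near E a).toFinset := fun x hx => by
    rw [Set.mem_toFinset]; exact (show x ∈ near E a ∩ near E d from hT ▸ hx).1
  set N := (near E a).toFinset \ T with hN
  have hNc : N.card = 567 := by
    rw [hN, Finset.card_sdiff_of_subset hsubT, hTc, ← Set.ncard_eq_toFinset_card',
      ThreeTransM22Order72.ncard_near hE hprim h22 ha]
  have e1 : ∑ x ∈ N, g x = 17010 := by
    have := Finset.sum_sdiff (f := g) hsubT
    rw [s1, Finset.sum_congr rfl gT, Finset.sum_const, hTc] at this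
    rw [hN]; simp only [nsmul_eq_mul, Nat.cast_ofNat] at this; linarith
  have e2 : ∑ x ∈ N, g x ^ 2 = 510300 := by
    have := Finset.sum_sdiff (f := fun x => g x ^ 2) hsubT
    rw [s2, Finset.sum_congr rfl (fun x hx => congrArg (· ^ 2) (gT x hx)), Finset.sum_const, hTc]
      at this
    rw [hN]; simp only [nsmul_eq_mul, Nat.cast_ofNat] at this; linarith
  have hzero : ∑ x ∈ N, (g x - 30) ^ 2 = 0 := by
    rw [Finset.sum_congr rfl (g := fun x => g x ^ 2 - 60 * g x + 900) (fun x _ => by ring),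
      Finset.sum_add_distrib, Finset.sum_sub_distrib, ← Finset.mul_sum, Finset.sum_const, hNc, e1, e2]
    norm_num
  have hgy : g y = 0 := by
    show ((T.filter fun b => y ∈ near E b).card : ℤ) = 0
    rw [Finset.card_eq_zero.mpr (Finset.filter_eq_empty_iff.mpr fun b hb h =>
      hno b (hT ▸ hb) h.2.2)]
    rfl
  have hyN : y ∈ N := by
    rw [hN, Finset.mem_sdiff, Set.mem_toFinset]
    refine ⟨hy, fun hyT => ?_⟩
    have := gT y hyT
    omega
  have := (Finset.sum_eq_zero_iff_of_nonneg fun x _ => sq_nonneg (g x - 30)).mp hzero y hyN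
  rw [hgy] at this
  norm_num at this

/-- The centralizer of a member has no nontrivial odd subgroup normalised by the members near it. -/
theorem odd_normal {s : Q} (hs : s ∈ E) {M : Subgroup Q} (hodd : Odd (Nat.card M))
    (hM : ∀ m ∈ M, Commute m s) (hn : ∀ t ∈ near E s, ∀ m ∈ M, t * m * t⁻¹ ∈ M) : M = ⊥ := by
  classical
  obtain ⟨-, hloc⟩ := ThreeTransM22Local72.main hE hprim h22
  obtain ⟨hss, hq, hcen⟩ := hloc s hs
  have hle : M ≤ loc E s := fun m hm => by
    rw [← ThreeTransM22Outer72.centralizer_eq_loc hE hprim h22 s hs]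
    exact mem_centralizer_singleton_iff.mpr (hM m hm).eq
  have hnorm : loc E s ≤ Subgroup.normalizer (M : Set Q) := by
    refine (closure_le _).mpr fun t ht => Subgroup.mem_normalizer_iff.mpr fun m => ⟨hn t ht m, fun hm => ?_⟩
    have := hn t ht _ hm
    have hsq : t * t = 1 := ThreeTrans.mul_self hE.1 ht.1
    rwa [show t * (t * m * t⁻¹) * t⁻¹ = (t * t) * m * (t * t)⁻¹ by group, hsq, one_mul, inv_one,
      mul_one] at this
  haveI : (M.subgroupOf (loc E s)).Normal := ⟨fun m hm g => by
    simpa [mem_subgroupOf] using (mem_normalizer_iff.mp (hnorm g.2) _).mp hm⟩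
  haveI := hq.2
  set N := (M.subgroupOf (loc E s)).map (QuotientGroup.mk' (Subgroup.center ↥(loc E s)))
  haveI : N.Normal := Normal.map inferInstance _ (QuotientGroup.mk'_surjective _)
  have ho2 : orderOf s = 2 := orderOf_eq_prime
    (by rw [pow_two]; exact ThreeTrans.mul_self hE.1 hs) (ThreeTrans.ne_one hE.1 hs)
  have hzc : Nat.card ↥(Subgroup.center ↥(loc E s)) = 2 := by
    rw [hcen, Nat.card_congr (Subgroup.subgroupOfEquivOfLe ((zpowers_le).mpr hss)).toEquiv,
      Nat.card_zpowers, ho2]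
  have hMcard : Nat.card ↥(M.subgroupOf (loc E s)) = Nat.card ↥M :=
    Nat.card_congr (Subgroup.subgroupOfEquivOfLe hle).toEquiv
  rcases IsSimpleGroup.eq_bot_or_eq_top_of_normal N inferInstance with h | h
  · have hsub : M.subgroupOf (loc E s) ≤ Subgroup.center ↥(loc E s) := fun m hm =>
      (QuotientGroup.eq_one_iff m).mp (mem_bot.mp (h ▸ ⟨m, hm, rfl⟩))
    have hd := Subgroup.card_dvd_of_le hsub
    rw [hzc, hMcard] at hd
    rcases (Nat.dvd_prime Nat.prime_two).mp hd with e | e
    · exact Subgroup.eq_bot_of_card_eq M e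
    · exact absurd (e ▸ hodd) (by decide)
  · exfalso
    have htop : M.subgroupOf (loc E s) ⊔ Subgroup.center ↥(loc E s) = ⊤ := by
      have := congrArg (Subgroup.comap (QuotientGroup.mk' (Subgroup.center ↥(loc E s)))) h
      rwa [Subgroup.comap_map_eq, QuotientGroup.ker_mk', Subgroup.comap_top] at this
    have hperf := hq.1
    have hsM : (⟨s, hss⟩ : ↥(loc E s)) ∈ M.subgroupOf (loc E s) := by
      have h1 : (commutator ↥(loc E s) : Subgroup ↥(loc E s)) ≤ M.subgroupOf (loc E s) := by
        rw [_root_.commutator_def, Subgroup.commutator_le]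
        intro a _ b _
        have hdec : ∀ a : ↥(loc E s), ∃ m ∈ M.subgroupOf (loc E s),
            ∃ c ∈ Subgroup.center ↥(loc E s), a = m * c := fun a => by
          have ha : a ∈ ((M.subgroupOf (loc E s) ⊔ Subgroup.center ↥(loc E s) : Subgroup _) : Set _) :=
            htop ▸ mem_top a
          rw [Subgroup.normal_mul] at ha
          obtain ⟨m, hm, c, hc, e⟩ := ha
          exact ⟨m, hm, c, hc, e.symm⟩
        obtain ⟨m, hm, c, hc, rfl⟩ := hdec a
        obtain ⟨m', hm', c', hc', rfl⟩ := hdec b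
        have e : ⁅m * c, m' * c'⁆ = ⁅m, m'⁆ := by
          have hl : ∀ m x : ↥(loc E s), ∀ c ∈ Subgroup.center ↥(loc E s), ⁅m * c, x⁆ = ⁅m, x⁆ :=
            fun m x c hc => by
              rw [commutatorElement_def, commutatorElement_def,
                show m * c * x * (m * c)⁻¹ = m * (c * x) * c⁻¹ * m⁻¹ by group,
                ← (Subgroup.mem_center_iff.mp hc x), ← mul_assoc m x c, mul_inv_cancel_right]
          rw [hl _ _ _ hc, ← commutatorElement_inv, hl _ _ _ hc', commutatorElement_inv]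
        rw [e, commutatorElement_def]
        exact mul_mem (mul_mem (mul_mem hm hm') (inv_mem hm)) (inv_mem hm')
      exact h1 (hperf.commutator_eq_top.symm ▸ mem_top _)
    have hdvd : orderOf (⟨s, hsM⟩ : ↥M) ∣ Nat.card ↥M := orderOf_dvd_natCard _
    rw [← orderOf_injective M.subtype Subtype.val_injective] at hdvd
    change orderOf s ∣ _ at hdvd
    rw [ho2] at hdvd
    obtain ⟨r, hr⟩ := hodd
    obtain ⟨t, ht'⟩ := hdvd
    omega

end Cfsg.Agent.Fi23LocalQ94
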