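import Cfsg.Agent.Lib.Fi23Near94
import Cfsg.Agent.Lib.Fi23LocalQ94
import Cfsg.Agent.Lib.Fi23Graph98

/-!
# The local hypotheses for the commuting graph of M(23)

If the centralizer of an involution `d` is a perfect double cover of a group of type M(22), with 23
conjugates of `d` in the preimage of each maximal commuting set, then the conjugates of `d` satisfy the
local hypotheses of the recognition of the graph.
-/

set_option autoImplicit false
set_option linter.unusedSectionVars false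
set_option linter.style.haveILetI false

namespace Cfsg.Agent.Fi23Local94

open Subgroup Cfsg.Agent.ThreeTransRel Cfsg.Agent.ThreeTransDescent
open Cfsg.Agent.ThreeTransM22Fusion72 Cfsg.Agent.Fi23Near94
open Cfsg.Agent.ThreeTransM22Outer72 (Blk)

variable {G : Type*} [Group G] [Finite G] {d : G}
variable {Q : Type*} [Group Q] [Finite Q] {E : Set Q}
variable {p : ↥(Subgroup.centralizer ({d} : Set G)) →* Q} {z : ↥(Subgroup.centralizer ({d} : Set G))}

/-- The hypotheses, with a perfect centralizer. -/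
structure Full (p : ↥(Subgroup.centralizer ({d} : Set G)) →* Q)
    (z : ↥(Subgroup.centralizer ({d} : Set G))) (E : Set Q) : Prop extends Fi23Near94.Hyp p z E where
  perf : commutator ↥(Subgroup.centralizer ({d} : Set G)) = ⊤

/-- The hypotheses hold at each conjugate. -/
theorem Full.move (H : Full p z E) {x : G} (hx : IsConj d x) :
    ∃ (q : ↥(Subgroup.centralizer ({x} : Set G)) →* Q) (w : ↥(Subgroup.centralizer ({x} : Set G))),
      Full q w E := by
  obtain ⟨g, rfl⟩ := isConj_iff.mp hx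
  have hin : ∀ c ∈ Subgroup.centralizer ({g * d * g⁻¹} : Set G),
      g⁻¹ * c * g ∈ Subgroup.centralizer ({d} : Set G) := fun c hc => by
    rw [mem_centralizer_singleton_iff] at hc ⊢
    calc g⁻¹ * c * g * d = g⁻¹ * (c * (g * d * g⁻¹)) * g := by group
      _ = g⁻¹ * ((g * d * g⁻¹) * c) * g := by rw [hc]
      _ = d * (g⁻¹ * c * g) := by group
  have hout : ∀ c ∈ Subgroup.centralizer ({d} : Set G),
      g * c * g⁻¹ ∈ Subgroup.centralizer ({g * d * g⁻¹} : Set G) := fun c hc => by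
    rw [mem_centralizer_singleton_iff] at hc ⊢
    calc g * c * g⁻¹ * (g * d * g⁻¹) = g * (c * d) * g⁻¹ := by group
      _ = g * (d * c) * g⁻¹ := by rw [hc]
      _ = g * d * g⁻¹ * (g * c * g⁻¹) := by group
  let φ : ↥(Subgroup.centralizer ({g * d * g⁻¹} : Set G)) ≃* ↥(Subgroup.centralizer ({d} : Set G)) :=
    { toFun := fun c => ⟨g⁻¹ * c * g, hin c c.2⟩
      invFun := fun c => ⟨g * c * g⁻¹, hout c c.2⟩
      left_inv := fun c => Subtype.ext (by show g * (g⁻¹ * (c : G) * g) * g⁻¹ = c; group)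
      right_inv := fun c => Subtype.ext (by show g⁻¹ * (g * (c : G) * g⁻¹) * g = c; group)
      map_mul' := fun a b => Subtype.ext (by
        show g⁻¹ * ((a : G) * b) * g = g⁻¹ * (a : G) * g * (g⁻¹ * (b : G) * g); group) }
  have hzd : ((φ.symm z : ↥(Subgroup.centralizer ({g * d * g⁻¹} : Set G))) : G) = g * d * g⁻¹ := by
    show g * (z : G) * g⁻¹ = _
    rw [H.zd]
  refine ⟨p.comp φ.toMonoidHom, φ.symm z, ⟨⟨⟨H.grp, H.prim, H.m22, H.surj.comp φ.surjective, ?_,
    ?_, ?_, ?_, ?_⟩, hzd, ?_⟩, ?_⟩⟩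
  · intro c hc
    rcases H.ker (φ c) hc with e | e
    · exact Or.inl (φ.injective (by rw [e, map_one]))
    · exact Or.inr (φ.injective (by rw [e, φ.apply_symm_apply]))
  · intro c
    simpa using (H.central (φ c)).map φ.symm.toMonoidHom
  · rw [← map_mul, H.zz, map_one]
  · show p (φ (φ.symm z)) = 1
    rw [φ.apply_symm_apply, H.map_z]
  · exact fun e => H.ne (φ.symm.injective (by rw [e, map_one]))
  · intro B hB
    rw [← H.count B hB]
    have : fused (p.comp φ.toMonoidHom) B = (fun v => g * v * g⁻¹) '' fused p B := by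
      ext y
      constructor
      · rintro ⟨⟨c, hc, rfl⟩, hyc⟩
        refine ⟨g⁻¹ * (c : G) * g, ⟨⟨φ c, hc, rfl⟩, ?_⟩, by
          show g * (g⁻¹ * (c : G) * g) * g⁻¹ = c; group⟩
        exact (isConj_iff.mpr ⟨g, rfl⟩ : IsConj d (g * d * g⁻¹)).trans
          (hyc.trans (isConj_iff.mpr ⟨g⁻¹, by rw [inv_inv]; rfl⟩))
      · rintro ⟨v, ⟨⟨c, hc, rfl⟩, hvc⟩, rfl⟩
        refine ⟨⟨φ.symm c, ?_, rfl⟩, ?_⟩
        · show p (φ (φ.symm c)) ∈ closure B
          rw [φ.apply_symm_apply]; exact hc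
        · exact ((isConj_iff.mpr ⟨g, rfl⟩ : IsConj d (g * d * g⁻¹)).symm.trans hvc).trans
            (isConj_iff.mpr ⟨g, rfl⟩)
    rw [this, Set.ncard_image_of_injective _ fun u v e => mul_left_cancel (mul_right_cancel e)]
  · rw [← Subgroup.map_top_of_surjective φ.symm.toMonoidHom φ.symm.surjective, ← H.perf,
      _root_.commutator_def, _root_.commutator_def, Subgroup.map_commutator,
      Subgroup.map_top_of_surjective _ φ.symm.surjective]

section local_facts

variable (H : Full p z E)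
include H

local notation "𝒩" => Fi23Graph98.near (conjugatesOf d) d

/-- A member near `d` as an element of the centralizer. -/
theorem Full.lift_near {y : G} (hy : y ∈ 𝒩) :
    ∃ w : ↥(Subgroup.centralizer ({d} : Set G)), w ∈ nset d ∧ (w : G) = y :=
  ⟨⟨y, mem_centralizer_singleton_iff.mpr hy.2.2.symm.eq⟩, ⟨hy.1, hy.2.1⟩, rfl⟩

theorem Full.near_of {w : ↥(Subgroup.centralizer ({d} : Set G))} (hw : w ∈ nset d) : (w : G) ∈ 𝒩 :=
  ⟨hw.1, hw.2, (show Commute (w : G) d from mem_centralizer_singleton_iff.mp w.2).symm⟩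

theorem Full.ne_one' : d ≠ 1 := fun h => H.ne (Subtype.ext (H.zd.trans h))

theorem Full.commute_iff {u v : ↥(Subgroup.centralizer ({d} : Set G))} (hu : u ∈ nset d)
    (hv : v ∈ nset d) : Commute (u : G) (v : G) ↔ Commute (p u) (p v) :=
  ⟨fun h => (H.near_commute hu hv).mp (Subtype.ext h.eq),
    fun h => congrArg Subtype.val ((H.near_commute hu hv).mpr h).eq⟩

theorem Full.img_ne {u v : ↥(Subgroup.centralizer ({d} : Set G))} (hu : u ∈ nset d)
    (hv : v ∈ nset d) (h : (u : G) ≠ v) : p u ≠ p v := fun e => h (by rw [H.lift_unique hu hv e])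

theorem Full.nearNe : (𝒩).Nonempty := by
  obtain ⟨a, ha, -⟩ := H.prim.2.1
  obtain ⟨w, ⟨hw, -⟩, -⟩ := H.existsUnique_lift ha
  exact ⟨_, H.near_of hw⟩

theorem Full.braid {a b : G} (ha : a ∈ 𝒩) (hb : b ∈ 𝒩) (h : ¬ Commute a b) :
    a * b * a = b * a * b := by
  obtain ⟨u, hu, rfl⟩ := H.lift_near ha
  obtain ⟨v, hv, rfl⟩ := H.lift_near hb
  exact congrArg Subtype.val (H.near_braid hu hv fun e => h (congrArg Subtype.val e.eq))

theorem Full.odd {b : G} (hb : b ∈ 𝒩) :
    Odd (Fi23Graph98.common (conjugatesOf d) d b).ncard := by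
  obtain ⟨v, hv, rfl⟩ := H.lift_near hb
  have e : Fi23Graph98.common (conjugatesOf d) d (v : G) =
      Subtype.val '' {w | w ∈ nset d ∧ p w ∈ near E (p v)} := by
    ext y
    constructor
    · rintro ⟨h1, -, h2, h3⟩
      obtain ⟨w, hw, rfl⟩ := H.lift_near h1
      exact ⟨w, ⟨hw, H.near_mem hw, H.img_ne hw hv h2, (H.commute_iff hv hw).mp h3⟩, rfl⟩
    · rintro ⟨w, ⟨hw, h1, h2, h3⟩, rfl⟩
      exact ⟨H.near_of hw, hw.1, fun e => h2 (by rw [Subtype.ext e]), (H.commute_iff hv hw).mpr h3⟩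
  have e2 : p '' {w | w ∈ nset d ∧ p w ∈ near E (p v)} = near E (p v) := by
    ext t
    constructor
    · rintro ⟨w, hw, rfl⟩; exact hw.2
    · intro ht
      obtain ⟨w, ⟨hw, rfl⟩, -⟩ := H.existsUnique_lift ht.1
      exact ⟨w, ⟨hw, ht⟩, rfl⟩
  rw [e, Set.ncard_image_of_injective _ Subtype.val_injective,
    ← Set.InjOn.ncard_image (f := p) (fun a ha b hb e => H.lift_unique ha.1 hb.1 e), e2,
    ThreeTransM22Order72.ncard_near H.grp H.prim H.m22 (H.near_mem hv)]
  decide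

theorem Full.prodNot {b : G} (hb : b ∈ 𝒩) : d * b ∉ conjugatesOf d := by
  intro hm
  obtain ⟨v, hv, rfl⟩ := H.lift_near hb
  have hdv : Commute d (v : G) := hb.2.2
  have hne : d * (v : G) ≠ d := fun e => by
    have h1 : (v : G) = 1 := mul_eq_left.mp e
    have h2 := hv.1
    rw [h1] at h2
    exact H.ne_one' (isConj_one_left.mp h2)
  have hw : v * z ∈ nset d := by
    show IsConj d ((v * z : ↥(Subgroup.centralizer ({d} : Set G))) : G) ∧ _
    rw [H.cz, ← hdv.eq]; exact ⟨hm, hne⟩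
  have := H.lift_unique hw hv (by rw [H.toCov.map_mul_z])
  exact H.toCov.mul_z_ne v this

theorem Full.pairNe {a b c : G} (ha : a ∈ 𝒩) (hb : b ∈ 𝒩) (hab : a ≠ b) (hc : Commute a b)
    (hcc : c ∈ 𝒩) : a * b ≠ c * d := by
  intro e
  obtain ⟨u, hu, rfl⟩ := H.lift_near ha
  obtain ⟨v, hv, rfl⟩ := H.lift_near hb
  obtain ⟨w, hw, rfl⟩ := H.lift_near hcc
  have e' : u * v = w * z := Subtype.ext (by rw [Subgroup.coe_mul, H.cz, e])
  have := congrArg p e'
  rw [map_mul, H.toCov.map_mul_z] at this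
  have hl2 : CList E [p u, p v] := by
    refine ⟨by simp [H.near_mem hu, H.near_mem hv], by simp [H.img_ne hu hv hab], ?_⟩
    intro x hx y hy
    simp only [List.mem_cons, List.not_mem_nil, or_false] at hx hy
    have hcp := (H.commute_iff hu hv).mp hc
    rcases hx with rfl | rfl <;> rcases hy with rfl | rfl
    exacts [Commute.refl _, hcp, hcp.symm, Commute.refl _]
  have hl1 : CList E [p w] := ⟨by simp [H.near_mem hw], by simp, by simp⟩
  simpa using ThreeTransM22Classes72.length_unique H.grp H.prim H.m22 hl1 hl2 (by simp) (by simp)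
    (by simp) (by simpa using this.symm)

theorem Full.tripNe {a b c r s : G} (ha : a ∈ 𝒩) (hb : b ∈ 𝒩) (hc : c ∈ 𝒩) (hr : r ∈ 𝒩)
    (hs : s ∈ 𝒩) (hab : a ≠ b) (hac : a ≠ c) (hbc : b ≠ c) (cab : Commute a b) (cac : Commute a c)
    (cbc : Commute b c) (hrs : r ≠ s) (crs : Commute r s) : a * b * c ≠ d * (r * s) := by
  intro e
  obtain ⟨u, hu, rfl⟩ := H.lift_near ha
  obtain ⟨v, hv, rfl⟩ := H.lift_near hb
  obtain ⟨w, hw, rfl⟩ := H.lift_near hc
  obtain ⟨x, hx, rfl⟩ := H.lift_near hr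
  obtain ⟨y, hy, rfl⟩ := H.lift_near hs
  have e' : u * v * w = z * (x * y) :=
    Subtype.ext (by simpa only [Subgroup.coe_mul, H.zd] using e)
  have := congrArg p e'
  rw [map_mul, map_mul, map_mul, H.map_z, one_mul, map_mul] at this
  have h3 : CList E [p u, p v, p w] := by
    refine ⟨by simp [H.near_mem hu, H.near_mem hv, H.near_mem hw],
      by simp [H.img_ne hu hv hab, H.img_ne hu hw hac, H.img_ne hv hw hbc], ?_⟩
    intro i hi j hj
    simp only [List.mem_cons, List.not_mem_nil, or_false] at hi hj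
    have k1 := (H.commute_iff hu hv).mp cab
    have k2 := (H.commute_iff hu hw).mp cac
    have k3 := (H.commute_iff hv hw).mp cbc
    rcases hi with rfl | rfl | rfl <;> rcases hj with rfl | rfl | rfl
    exacts [Commute.refl _, k1, k2, k1.symm, Commute.refl _, k3, k2.symm, k3.symm, Commute.refl _]
  have h2 : CList E [p x, p y] := by
    refine ⟨by simp [H.near_mem hx, H.near_mem hy], by simp [H.img_ne hx hy hrs], ?_⟩
    intro i hi j hj
    simp only [List.mem_cons, List.not_mem_nil, or_false] at hi hj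
    have k1 := (H.commute_iff hx hy).mp crs
    rcases hi with rfl | rfl <;> rcases hj with rfl | rfl
    exacts [Commute.refl _, k1, k1.symm, Commute.refl _]
  simpa using ThreeTransM22Classes72.length_unique H.grp H.prim H.m22 h2 h3 (by simp) (by simp)
    (by simp) (by simpa [mul_assoc] using this.symm)

theorem Full.pairUniq {a b g : G} (ha : a ∈ 𝒩) (hb : b ∈ 𝒩) (hab : a ≠ b) (hc : Commute a b)
    (hg : Commute g d) (hgab : Commute g (a * b)) : g * a * g⁻¹ = a ∨ g * a * g⁻¹ = b := by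
  obtain ⟨u, hu, rfl⟩ := H.lift_near ha
  obtain ⟨v, hv, rfl⟩ := H.lift_near hb
  set k : ↥(Subgroup.centralizer ({d} : Set G)) := ⟨g, mem_centralizer_singleton_iff.mpr hg.eq⟩
  have hk : Commute (p k) (p u * p v) := by
    rw [← map_mul]; exact Commute.map (show Commute k (u * v) from Subtype.ext hgab.eq) p
  rcases Fi23LocalQ94.pair_fix H.grp H.prim H.m22 (H.near_mem hu) (H.near_mem hv)
      (H.img_ne hu hv hab) ((H.commute_iff hu hv).mp hc) hk with e | e
  · exact Or.inl (congrArg Subtype.val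
      (H.lift_unique (nset_conj hu k) hu (by rw [map_mul, map_mul, map_inv, e])))
  · exact Or.inr (congrArg Subtype.val
      (H.lift_unique (nset_conj hu k) hv (by rw [map_mul, map_mul, map_inv, e])))

/-- Five pairwise commuting members near `d` have a product other than one and other than `d`'s
companion: their images satisfy no relation. -/
theorem Full.five_ne {l : List G} (hl : ∀ y ∈ l, y ∈ 𝒩) (hnd : l.Nodup) (hlen : l.length = 5)
    (hc : ∀ x ∈ l, ∀ y ∈ l, Commute x y) : d * l.prod ≠ 1 := by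
  intro he
  have he' : l.prod = d⁻¹ := eq_inv_of_mul_eq_one_right he
  choose f hf hfv using fun y : {y // y ∈ l} => H.lift_near (hl y.1 y.2)
  set L := l.attach.map f with hL
  have hval : L.map Subtype.val = l := by
    rw [hL, List.map_map]
    conv_rhs => rw [← List.attach_map_subtype_val (l := l)]
    exact List.map_congr_left fun y _ => hfv y
  have hprod : ((L.prod : ↥(Subgroup.centralizer ({d} : Set G))) : G) = d⁻¹ := by
    rw [Subgroup.val_list_prod, hval, he']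
  have hp1 : (L.map p).prod = 1 := by
    rw [← map_list_prod, show L.prod = z⁻¹ from Subtype.ext (by
      rw [hprod, Subgroup.coe_inv, H.zd]), map_inv, H.map_z, inv_one]
  have hcl : CList E (L.map p) := by
    refine ⟨?_, ?_, ?_⟩
    · simp only [hL, List.map_map, List.mem_map, Function.comp]
      rintro t ⟨y, -, rfl⟩
      exact H.near_mem (hf y)
    · rw [hL, List.map_map, List.nodup_map_iff_inj_on (List.nodup_attach.mpr hnd)]
      intro x _ y _ e
      exact Subtype.ext (by rw [← hfv x, ← hfv y, H.lift_unique (hf x) (hf y) e])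
    · simp only [hL, List.map_map, List.mem_map, Function.comp]
      rintro a ⟨x, -, rfl⟩ b ⟨y, -, rfl⟩
      exact (H.commute_iff (hf x) (hf y)).mp (by rw [hfv, hfv]; exact hc _ x.2 _ y.2)
  have hL1 := ThreeTransTypes.level1_of_m22 ThreeTransPairs.psu6Simple H.toCov.ts H.m22
  exact hL1.no_five ⟨hcl, hp1⟩ (fun a ha => ThreeTrans.ne_one H.grp.1 (hcl.mem a ha))
    (by simp [hL, hlen])

/-- The centre of the centralizer. -/
theorem Full.centre {c : G} (hc : Commute c d) (hcen : ∀ g : G, Commute g d → Commute c g) :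
    c = 1 ∨ c = d := by
  set k : ↥(Subgroup.centralizer ({d} : Set G)) := ⟨c, mem_centralizer_singleton_iff.mpr hc.eq⟩
  have hk : p k ∈ Subgroup.center Q := by
    refine mem_center_iff.mpr fun t => ?_
    obtain ⟨v, rfl⟩ := H.surj t
    have : Commute v k := Subtype.ext
      (hcen (v : G) (mem_centralizer_singleton_iff.mp v.2)).symm.eq
    exact (this.map p).eq
  rw [H.m22.1, mem_bot] at hk
  rcases H.ker k hk with e | e
  · exact Or.inl (congrArg Subtype.val e)
  · exact Or.inr ((congrArg Subtype.val e).trans H.zd)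

theorem Full.cls {a b : G} (ha : a ∈ 𝒩) (hb : b ∈ 𝒩) :
    ∃ g : G, Commute g d ∧ g * a * g⁻¹ = b := by
  obtain ⟨u, hu, rfl⟩ := H.lift_near ha
  obtain ⟨v, hv, rfl⟩ := H.lift_near hb
  obtain ⟨c, hc⟩ := H.near_isConj hu hv
  exact ⟨c, mem_centralizer_singleton_iff.mp c.2, congrArg Subtype.val hc⟩

theorem Full.gen {g : G} (hg : Commute g d) : g ∈ Subgroup.closure (𝒩) := by
  have h : (⟨g, mem_centralizer_singleton_iff.mpr hg.eq⟩ : ↥(Subgroup.centralizer ({d} : Set G))) ∈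
      closure (nset d) := by rw [H.closure_eq H.perf]; exact mem_top _
  have h2 : g ∈ (closure (nset d)).map (Subgroup.centralizer ({d} : Set G)).subtype := ⟨_, h, rfl⟩
  rw [MonoidHom.map_closure] at h2
  exact closure_mono (by rintro _ ⟨w, hw, rfl⟩; exact H.near_of hw) h2

theorem Full.four {b f : G} (hb : b ∈ 𝒩) (hf : f ∈ Fi23Graph98.common (conjugatesOf d) d b) :
    ∃ g ∈ Fi23Graph98.common (conjugatesOf d) d b, g ≠ f ∧ Commute f g := by
  obtain ⟨v, hv, rfl⟩ := H.lift_near hb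
  obtain ⟨w, hw, rfl⟩ := H.lift_near hf.1
  obtain ⟨B, hB, hsub⟩ := ThreeTransM22Block72.exists_block_through H.grp H.prim H.m22
    (T := {p v, p w}) (by rintro x (rfl | rfl); exacts [H.near_mem hv, H.near_mem hw]) (by
      have hc := (H.commute_iff hv hw).mp hf.2.2.2
      rintro x (rfl | rfl) y (rfl | rfl)
      exacts [Commute.refl _, hc, hc.symm, Commute.refl _])
  obtain ⟨t, ht, htv, htw⟩ := ThreeTransM22Block72.exists_other H.grp H.prim H.m22 hB (p v) (p w)
  obtain ⟨u, ⟨hu, rfl⟩, -⟩ := H.existsUnique_lift (hB.sub ht)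
  refine ⟨u, ⟨H.near_of hu, hu.1, fun e => htv (by rw [Subtype.ext e]),
    (H.commute_iff hv hu).mpr (hB.comm _ (hsub (Or.inl rfl)) _ ht)⟩,
    fun e => htw (by rw [Subtype.ext e]),
    (H.commute_iff hw hu).mpr (hB.comm _ (hsub (Or.inr rfl)) _ ht)⟩

theorem Full.oddLocal {b : G} (hb : b ∈ 𝒩) (O : Subgroup G) (hO : Odd (Nat.card O))
    (hc : ∀ o ∈ O, Commute o d ∧ Commute o b)
    (hn : ∀ f ∈ Fi23Graph98.common (conjugatesOf d) d b, ∀ o ∈ O, f * o * f⁻¹ ∈ O) : O = ⊥ := by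
  obtain ⟨v, hv, rfl⟩ := H.lift_near hb
  have hle : O ≤ Subgroup.centralizer ({d} : Set G) := fun o ho =>
    mem_centralizer_singleton_iff.mpr (hc o ho).1.eq
  set O' := O.subgroupOf (Subgroup.centralizer ({d} : Set G))
  have hcard : Nat.card ↥O' = Nat.card ↥O := Nat.card_congr (Subgroup.subgroupOfEquivOfLe hle).toEquiv
  have hodd : Odd (Nat.card ↥(O'.map p)) :=
    Odd.of_dvd_nat (hcard ▸ hO) (Subgroup.card_map_dvd (f := p) O')
  have hbot : O'.map p = ⊥ := by
    refine Fi23LocalQ94.odd_normal H.grp H.prim H.m22 (H.near_mem hv) hodd ?_ ?_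
    · rintro _ ⟨o, ho, rfl⟩
      exact Commute.map (show Commute o v from Subtype.ext (hc _ ho).2.eq) p
    · rintro t ht _ ⟨o, ho, rfl⟩
      obtain ⟨u, ⟨hu, rfl⟩, -⟩ := H.existsUnique_lift ht.1
      refine ⟨u * o * u⁻¹, hn _ ⟨H.near_of hu, hu.1, fun e => ht.2.1 (by rw [Subtype.ext e]),
        (H.commute_iff hv hu).mpr ht.2.2⟩ _ ho, by simp⟩
  refine (Subgroup.eq_bot_iff_forall O).mpr fun o ho => ?_
  rcases H.ker ⟨o, hle ho⟩ (mem_bot.mp (hbot ▸ ⟨⟨o, hle ho⟩, ho, rfl⟩)) with e | e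
  · exact congrArg Subtype.val e
  · exfalso
    have hod : o = d := (congrArg Subtype.val e).trans H.zd
    have h2 : orderOf d ∣ Nat.card ↥O := by
      have := orderOf_dvd_natCard (⟨o, ho⟩ : ↥O)
      rw [← orderOf_injective O.subtype Subtype.val_injective, Subgroup.subtype_apply] at this
      exact hod ▸ this
    rw [orderOf_eq_prime (p := 2) (by rw [pow_two]; exact H.d_sq) H.ne_one'] at h2
    exact (Nat.not_even_iff_odd.mpr hO) (even_iff_two_dvd.mpr h2)

theorem Full.mu {c y : G} (hc : c ∈ 𝒩) (hy : y ∈ 𝒩) (hcy : ¬ Commute c y) :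
    ∃ b ∈ 𝒩, Commute b c ∧ Commute b y := by
  obtain ⟨u, hu, rfl⟩ := H.lift_near hc
  obtain ⟨v, hv, rfl⟩ := H.lift_near hy
  have h := ThreeTransM22Order72.ncard_common H.grp H.prim H.m22 (H.near_mem hu) (H.near_mem hv)
    fun e => hcy ((H.commute_iff hu hv).mpr e)
  obtain ⟨t, ht1, ht2⟩ := Set.nonempty_of_ncard_ne_zero (s := near E (p u) ∩ near E (p v)) (by omega)
  obtain ⟨w, ⟨hw, rfl⟩, -⟩ := H.existsUnique_lift ht1.1
  exact ⟨w, H.near_of hw, ((H.commute_iff hu hw).mpr ht1.2.2).symm,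
    ((H.commute_iff hv hw).mpr ht2.2.2).symm⟩

end local_facts

/-- A relation of odd length through a commuting pair. -/
theorem Full.seven (H : Full p z E) {b : G} (hb : b ∈ Fi23Graph98.near (conjugatesOf d) d) :
    ∃ l : List G, Odd l.length ∧ (∀ f ∈ l, f ∈ Fi23Graph98.common (conjugatesOf d) d b) ∧
      d * b * l.prod = 1 := by
  obtain ⟨v, hv, rfl⟩ := H.lift_near hb
  obtain ⟨c, hc, hcv⟩ : ∃ c ∈ E, c ∈ near E (p v) := by
    have h := ThreeTransM22Order72.ncard_near H.grp H.prim H.m22 (H.near_mem hv)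
    obtain ⟨c, hc⟩ := Set.nonempty_of_ncard_ne_zero (s := near E (p v)) (by omega)
    exact ⟨c, hc.1, hc⟩
  obtain ⟨l, hnd, hlen, hnear, hcomm, hprod⟩ :=
    Fi23LocalQ94.exists_six H.grp H.prim H.m22 (H.near_mem hv) hcv
  choose f hf using fun t : {t // t ∈ l} => (H.existsUnique_lift (hnear t.1 t.2).1).exists
  set L := l.attach.map f with hL
  have hLp : L.map p = l := by
    rw [hL, List.map_map]
    conv_rhs => rw [← List.attach_map_subtype_val (l := l)]
    exact List.map_congr_left fun t _ => (hf t).2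
  have hcm : ∀ w ∈ L, w ∈ nset d ∧ p w ∈ l := by
    rw [hL]
    simp only [List.mem_map]
    rintro _ ⟨t, -, rfl⟩
    exact ⟨(hf t).1, (hf t).2 ▸ t.2⟩
  have hmem : ∀ y ∈ L.map Subtype.val, y ∈ Fi23Graph98.common (conjugatesOf d) d (v : G) := by
    simp only [List.mem_map]
    rintro _ ⟨w, hw, rfl⟩
    obtain ⟨hwn, hwl⟩ := hcm w hw
    exact ⟨H.near_of hwn, hwn.1, fun e => (hnear _ hwl).2.1 (by rw [Subtype.ext e]),
      (H.commute_iff hv hwn).mpr (hnear _ hwl).2.2⟩
  refine ⟨L.map Subtype.val, by simp [hL, hlen]; decide, hmem, ?_⟩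
  have hp : p (v * L.prod) = 1 := by rw [map_mul, map_list_prod, hLp, hprod]
  rcases H.ker _ hp with e | e
  · exfalso
    -- seen from the second member, five members would satisfy a relation
    obtain ⟨q, w, Hv⟩ := H.move hv.1
    refine Hv.five_ne (l := L.map Subtype.val) ?_ ?_ (by simp [hL, hlen]) ?_ ?_
    · intro y hy
      obtain ⟨h1, h2⟩ := hmem y hy
      rwa [IsConj.conjugatesOf_eq hv.1] at h2
    · refine List.Nodup.map Subtype.val_injective ?_
      exact List.Nodup.of_map p (by rw [hLp]; exact hnd)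
    · simp only [List.mem_map]
      rintro _ ⟨a, ha, rfl⟩ _ ⟨b, hb, rfl⟩
      exact (H.commute_iff (hcm a ha).1 (hcm b hb).1).mpr (hcomm _ (hcm a ha).2 _ (hcm b hb).2)
    · rw [← Subgroup.val_list_prod, ← Subgroup.coe_mul, e, Subgroup.coe_one]
  · rw [← Subgroup.val_list_prod, mul_assoc, ← Subgroup.coe_mul, e, H.zd, H.d_sq]

/-- A clique through `d`: at `d` it is the set of lifts of a maximal commuting set. -/
theorem Full.point (H : Full p z E) {K : Set G} (hd : d ∈ K) (hKD : K ⊆ conjugatesOf d)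
    (hK : K.ncard = 23) (hcomm : ∀ k ∈ K, ∀ k' ∈ K, Commute k k') :
    (∀ q ∈ Fi23Graph98.near (conjugatesOf d) d, q ∉ K → (∃ k ∈ K, k ≠ d ∧ Commute k q) →
      {k | k ∈ K ∧ k ≠ d ∧ Commute k q}.ncard = 6) ∧
    (∀ i ∈ K, ∀ j ∈ K, ∀ k ∈ K, i ≠ d → j ≠ d → k ≠ d → i ≠ j → i ≠ k → j ≠ k →
      ∃ q ∈ Fi23Graph98.near (conjugatesOf d) d, q ∉ K ∧ Commute i q ∧ Commute j q ∧ Commute k q ∧
        ∀ q' ∈ Fi23Graph98.near (conjugatesOf d) d, q' ∉ K → Commute i q' → Commute j q' →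
          Commute k q' → ∀ w ∈ K, Commute w q' ↔ Commute w q) ∧
    ∀ q ∈ Fi23Graph98.near (conjugatesOf d) d, q ∉ K → (∀ k ∈ K, k ≠ d → ¬ Commute k q) →
      ∀ i ∈ K, ∀ j ∈ K, i ≠ d → j ≠ d → i ≠ j →
        ∃ r ∈ Fi23Graph98.near (conjugatesOf d) d, Commute r q ∧ Commute r i ∧ Commute r j := by
  classical
  set K' : Set ↥(Subgroup.centralizer ({d} : Set G)) := {w | (w : G) ∈ K ∧ (w : G) ≠ d} with hK'
  have hn : ∀ w ∈ K', w ∈ nset d := fun w hw => ⟨hKD hw.1, hw.2⟩
  have hlift : ∀ y ∈ K, y ≠ d → ∃ w ∈ K', (w : G) = y := fun y hy hyd =>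
    ⟨⟨y, mem_centralizer_singleton_iff.mpr (hcomm y hy d hd).eq⟩, ⟨hy, hyd⟩, rfl⟩
  have hval : Subtype.val '' K' = K \ {d} := by
    ext y
    constructor
    · rintro ⟨w, hw, rfl⟩; exact ⟨hw.1, hw.2⟩
    · rintro ⟨hy, hyd⟩; exact hlift y hy hyd
  have h22 : K'.ncard = 22 := by
    rw [← Set.ncard_image_of_injective _ Subtype.val_injective, hval, Set.ncard_sdiff_singleton_of_mem hd, hK]
  obtain ⟨B, hB, hsub⟩ := ThreeTransM22Block72.exists_block_through H.grp H.prim H.m22 (T := p '' K')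
    (by rintro _ ⟨w, hw, rfl⟩; exact H.near_mem (hn w hw))
    (by rintro _ ⟨a, ha, rfl⟩ _ ⟨b, hb, rfl⟩
        exact (H.commute_iff (hn a ha) (hn b hb)).mp (hcomm _ ha.1 _ hb.1))
  have hinj : Set.InjOn p K' := fun a ha b hb e => H.lift_unique (hn a ha) (hn b hb) e
  have hBeq : p '' K' = B := Set.eq_of_subset_of_ncard_le hsub
    (by rw [hinj.ncard_image, h22, ThreeTransM22Base17.ncard_blk H.grp H.prim H.m22 hB]) (Set.toFinite _)
  have hout : ∀ u ∈ nset d, (u : G) ∉ K → p u ∉ B := fun u hu huK hB' => by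
    obtain ⟨w, hw, e⟩ := hBeq.symm.subset hB'
    exact huK (H.lift_unique (hn w hw) hu e ▸ hw.1)
  refine ⟨fun q hq hqK hex => ?_, fun i hi j hj k hk hid hjd hkd hij hik hjk => ?_,
    fun q hq hqK hnone i hi j hj hid hjd hij => ?_⟩
  · obtain ⟨u, hu, rfl⟩ := H.lift_near hq
    have hqB := hout u hu hqK
    have e : {k | k ∈ K ∧ k ≠ d ∧ Commute k (u : G)} =
        Subtype.val '' {w | w ∈ K' ∧ Commute (p u) (p w)} := by
      ext y
      constructor
      · rintro ⟨hy, hyd, hc⟩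
        obtain ⟨w, hw, rfl⟩ := hlift y hy hyd
        exact ⟨w, ⟨hw, (H.commute_iff hu (hn w hw)).mp hc.symm⟩, rfl⟩
      · rintro ⟨w, ⟨hw, hc⟩, rfl⟩
        exact ⟨hw.1, hw.2, ((H.commute_iff hu (hn w hw)).mpr hc).symm⟩
    have e2 : p '' {w | w ∈ K' ∧ Commute (p u) (p w)} = {b ∈ B | Commute (p u) b} := by
      ext t
      constructor
      · rintro ⟨w, ⟨hw, hc⟩, rfl⟩; exact ⟨hBeq ▸ ⟨w, hw, rfl⟩, hc⟩
      · rintro ⟨ht, hc⟩
        obtain ⟨w, hw, rfl⟩ := hBeq.symm.subset ht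
        exact ⟨w, ⟨hw, hc⟩, rfl⟩
    rw [e, Set.ncard_image_of_injective _ Subtype.val_injective,
      ← (hinj.mono fun w hw => hw.1).ncard_image, e2]
    obtain ⟨b, hb, hbc⟩ : ∃ b ∈ B, Commute (p u) b := by
      obtain ⟨y, hy, hyd, hyc⟩ := hex
      obtain ⟨w, hw, rfl⟩ := hlift y hy hyd
      exact ⟨_, hsub ⟨w, hw, rfl⟩, (H.commute_iff hu (hn w hw)).mp hyc.symm⟩
    exact ThreeTransM22Base17.ncard_meet H.grp H.prim H.m22 hB hb (H.near_mem hu) hqB hbc
  · obtain ⟨i, hi', rfl⟩ := hlift i hi hid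
    obtain ⟨j, hj', rfl⟩ := hlift j hj hjd
    obtain ⟨k, hk', rfl⟩ := hlift k hk hkd
    have hne : ∀ {a b : ↥(Subgroup.centralizer ({d} : Set G))}, a ∈ K' → b ∈ K' →
        (a : G) ≠ b → p a ≠ p b := fun ha hb h => H.img_ne (hn _ ha) (hn _ hb) h
    obtain ⟨t, ht, htB, c1, c2, c3, huniv⟩ := Fi23LocalQ94.hexad H.grp H.prim H.m22 hB
      (hsub ⟨i, hi', rfl⟩) (hsub ⟨j, hj', rfl⟩) (hsub ⟨k, hk', rfl⟩) (hne hi' hj' hij)
      (hne hi' hk' hik) (hne hj' hk' hjk)
    obtain ⟨u, ⟨hu, rfl⟩, -⟩ := H.existsUnique_lift ht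
    refine ⟨u, H.near_of hu, fun huK => htB (hsub ⟨u, ⟨huK, hu.2⟩, rfl⟩),
      (H.commute_iff (hn i hi') hu).mpr c1, (H.commute_iff (hn j hj') hu).mpr c2,
      (H.commute_iff (hn k hk') hu).mpr c3, fun q' hq' hq'K h1 h2 h3 w hw => ?_⟩
    obtain ⟨u', hu', rfl⟩ := H.lift_near hq'
    by_cases hwd : w = d
    · subst hwd
      exact ⟨fun _ => (H.near_of hu).2.2, fun _ => hq'.2.2⟩
    obtain ⟨w, hw', rfl⟩ := hlift w hw hwd
    rw [H.commute_iff (hn w hw') hu', H.commute_iff (hn w hw') hu]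
    exact huniv _ (H.near_mem hu') (hout u' hu' hq'K) ((H.commute_iff (hn i hi') hu').mp h1)
      ((H.commute_iff (hn j hj') hu').mp h2) ((H.commute_iff (hn k hk') hu').mp h3) _
      (hsub ⟨w, hw', rfl⟩)
  · obtain ⟨i, hi', rfl⟩ := hlift i hi hid
    obtain ⟨j, hj', rfl⟩ := hlift j hj hjd
    obtain ⟨u, hu, rfl⟩ := H.lift_near hq
    obtain ⟨t, ⟨ht1, ht2⟩, htj⟩ := Fi23LocalQ94.exists_common_three H.grp H.prim H.m22
      (H.near_mem (hn i hi')) (H.near_mem hu)
      (fun e => hnone _ hi hid ((H.commute_iff (hn i hi') hu).mpr e))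
      (y := p j) ⟨H.near_mem (hn j hj'), H.img_ne (hn j hj') (hn i hi') hij.symm,
        hB.comm _ (hsub ⟨i, hi', rfl⟩) _ (hsub ⟨j, hj', rfl⟩)⟩
    obtain ⟨w, ⟨hw, rfl⟩, -⟩ := H.existsUnique_lift ht1.1
    exact ⟨w, H.near_of hw, ((H.commute_iff hu hw).mpr ht2.2.2).symm,
      ((H.commute_iff (hn i hi') hw).mpr ht1.2.2).symm, (H.commute_iff hw (hn j hj')).mpr htj⟩

/-- The conjugates satisfy the hypotheses on the graph. -/
theorem Full.graph (H : Full p z E) : Fi23Graph98.Hyp (conjugatesOf d) where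
  nonempty := ⟨d, IsConj.refl d⟩
  sq x hx := by
    obtain ⟨g, rfl⟩ := isConj_iff.mp hx
    rw [show g * d * g⁻¹ * (g * d * g⁻¹) = g * (d * d) * g⁻¹ by group, H.d_sq]; group
  ne_one x hx e := H.ne_one' (isConj_one_left.mp (e ▸ hx))
  conj x hx g := IsConj.trans hx (isConj_iff.mpr ⟨g, rfl⟩)
  nearNe x hx := by
    obtain ⟨q, w, Hx⟩ := H.move hx
    rw [IsConj.conjugatesOf_eq hx]; exact Hx.nearNe
  braid x hx a ha b hb h := by
    obtain ⟨q, w, Hx⟩ := H.move hx
    rw [IsConj.conjugatesOf_eq hx] at ha hb; exact Hx.braid ha hb h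
  odd a ha b hb := by
    obtain ⟨q, w, Hx⟩ := H.move ha
    rw [IsConj.conjugatesOf_eq ha] at hb ⊢; exact Hx.odd hb
  prodNot a ha b hb := by
    obtain ⟨q, w, Hx⟩ := H.move ha
    rw [IsConj.conjugatesOf_eq ha] at hb ⊢; exact Hx.prodNot hb
  pairNe x hx a ha b hb hab hc c hcc := by
    obtain ⟨q, w, Hx⟩ := H.move hx
    rw [IsConj.conjugatesOf_eq hx] at ha hb hcc; exact Hx.pairNe ha hb hab hc hcc
  tripNe x hx a ha b hb c hc r hr s hs h1 h2 h3 h4 h5 h6 h7 h8 := by
    obtain ⟨q, w, Hx⟩ := H.move hx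
    rw [IsConj.conjugatesOf_eq hx] at ha hb hc hr hs
    exact Hx.tripNe ha hb hc hr hs h1 h2 h3 h4 h5 h6 h7 h8
  pairUniq f hf a ha b hb hab hc g hg hgab := by
    obtain ⟨q, w, Hx⟩ := H.move hf
    rw [IsConj.conjugatesOf_eq hf] at ha hb; exact Hx.pairUniq ha hb hab hc hg hgab
  seven a ha b hb := by
    obtain ⟨q, w, Hx⟩ := H.move ha
    rw [IsConj.conjugatesOf_eq ha] at hb ⊢; exact Hx.seven hb
  oddLocal a ha b hb O hO hc hn := by
    obtain ⟨q, w, Hx⟩ := H.move ha
    rw [IsConj.conjugatesOf_eq ha] at hb hn; exact Hx.oddLocal hb O hO hc hn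
  four a ha b hb f hf := by
    obtain ⟨q, w, Hx⟩ := H.move ha
    rw [IsConj.conjugatesOf_eq ha] at hb hf ⊢; exact Hx.four hb hf
  mu a ha c hc y hy hcy := by
    obtain ⟨q, w, Ha⟩ := H.move ha
    rw [IsConj.conjugatesOf_eq ha] at hc hy ⊢; exact Ha.mu hc hy hcy
  clique y hy a ha b hb c hc hab hac hbc := by
    classical
    obtain ⟨q, w, Hy⟩ := H.move hy
    rw [IsConj.conjugatesOf_eq hy] at ha hb hc ⊢
    obtain ⟨va, hva, rfl⟩ := Hy.lift_near ha
    obtain ⟨vb, hvb, rfl⟩ := Hy.lift_near hb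
    obtain ⟨vc, hvc, rfl⟩ := Hy.lift_near hc
    obtain ⟨B, hB, hsub⟩ := ThreeTransM22Block72.exists_block_through H.grp H.prim H.m22
      (T := {q va, q vb, q vc})
      (by rintro t (rfl | rfl | rfl); exacts [Hy.near_mem hva, Hy.near_mem hvb, Hy.near_mem hvc])
      (by
        have k1 := (Hy.commute_iff hva hvb).mp hab
        have k2 := (Hy.commute_iff hva hvc).mp hac
        have k3 := (Hy.commute_iff hvb hvc).mp hbc
        rintro t (rfl | rfl | rfl) t' (rfl | rfl | rfl)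
        exacts [Commute.refl _, k1, k2, k1.symm, Commute.refl _, k3, k2.symm, k3.symm,
          Commute.refl _])
    set L := {u : ↥(Subgroup.centralizer ({y} : Set G)) | u ∈ nset y ∧ q u ∈ B}
    have hLB : q '' L = B := by
      ext t
      constructor
      · rintro ⟨u, hu, rfl⟩; exact hu.2
      · intro ht
        obtain ⟨u, ⟨hu, rfl⟩, -⟩ := Hy.existsUnique_lift (hB.sub ht)
        exact ⟨u, ⟨hu, ht⟩, rfl⟩
    have hLcard : L.ncard = 22 := by
      rw [← Set.InjOn.ncard_image (f := q) (fun a ha b hb e => Hy.lift_unique ha.1 hb.1 e), hLB,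
        ThreeTransM22Base17.ncard_blk H.grp H.prim H.m22 hB]
    set K : Set G := insert y (Subtype.val '' L)
    have hyK : y ∈ K := Set.mem_insert _ _
    have hKD : K ⊆ conjugatesOf y := by
      rintro k (rfl | ⟨u, hu, rfl⟩)
      exacts [IsConj.refl _, hu.1.1]
    have hKcard : K.ncard = 23 := by
      rw [Set.ncard_insert_of_notMem (by rintro ⟨u, hu, e⟩; exact hu.1.2 e),
        Set.ncard_image_of_injective _ Subtype.val_injective, hLcard]
    have hKc : ∀ k ∈ K, ∀ k' ∈ K, Commute k k' := by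
      rintro k (rfl | ⟨u, hu, rfl⟩) k' (rfl | ⟨u', hu', rfl⟩)
      · exact Commute.refl _
      · exact (Hy.near_of hu'.1).2.2
      · exact (Hy.near_of hu.1).2.2.symm
      · exact (Hy.commute_iff hu.1 hu'.1).mpr (hB.comm _ hu.2 _ hu'.2)
    refine ⟨K, hyK, Or.inr ⟨va, ⟨hva, hsub (Or.inl rfl)⟩, rfl⟩,
      Or.inr ⟨vb, ⟨hvb, hsub (Or.inr (Or.inl rfl))⟩, rfl⟩,
      Or.inr ⟨vc, ⟨hvc, hsub (Or.inr (Or.inr rfl))⟩, rfl⟩, hKD, hKcard, hKc, fun x hx => ?_⟩
    obtain ⟨qx, wx, Hx⟩ := Hy.move (hKD hx)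
    have econj := IsConj.conjugatesOf_eq (hKD hx)
    rw [econj] at hKD ⊢
    exact Hx.point hx hKD hKcard hKc
  cls f hf a ha b hb := by
    obtain ⟨q, w, Hx⟩ := H.move hf
    rw [IsConj.conjugatesOf_eq hf] at ha hb; exact Hx.cls ha hb
  gen f hf g hg := by
    obtain ⟨q, w, Hx⟩ := H.move hf
    rw [IsConj.conjugatesOf_eq hf]; exact Hx.gen hg
  centre x hx c hc hcen := by
    obtain ⟨q, w, Hx⟩ := H.move hx
    exact Hx.centre hc hcen

end Cfsg.Agent.Fi23Local94
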