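import Cfsg.Agent.Lib.ThreeTransM22Exclude72

/-!
# The conjugates of a central involution inside a centralizer of type 2.M(22)

If the centralizer of an involution `d` is a double cover of a group of type M(22) and the preimage of a
maximal commuting set holds 23 conjugates of `d`, then the conjugates of `d` in the centralizer, other than
`d`, are one lift of each member; they form one class of 3-transpositions of the centralizer.
-/

set_option autoImplicit false
set_option linter.unusedSectionVars false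
set_option linter.style.haveILetI false

namespace Cfsg.Agent.Fi23Near94

open scoped commutatorElement
open Subgroup Cfsg.Agent.ThreeTransRel Cfsg.Agent.ThreeTransDescent Cfsg.Agent.ThreeTransM22Outer72
open Cfsg.Agent.ThreeTransM22Block72 Cfsg.Agent.ThreeTransM22Cover72 Cfsg.Agent.ThreeTransM22CoverCount72
open Cfsg.Agent.ThreeTransM22Fusion72 Cfsg.Agent.ThreeTransM22FusionCount72

variable {G : Type*} [Group G] [Finite G] {d : G}
variable {Q : Type*} [Group Q] [Finite Q]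

set_option quotPrecheck false in
local notation "C₀" => Subgroup.centralizer ({d} : Set G)

variable {p : ↥(Subgroup.centralizer ({d} : Set G)) →* Q} {z x₀ : ↥(Subgroup.centralizer ({d} : Set G))}
variable {E : Set Q}

/-- The hypotheses: a double cover of type M(22) and 23 conjugates in each preimage. -/
structure Hyp (p : ↥(Subgroup.centralizer ({d} : Set G)) →* Q)
    (z : ↥(Subgroup.centralizer ({d} : Set G))) (E : Set Q) : Prop extends Cov p z E where
  zd : (z : G) = d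
  count : ∀ B : Set Q, Blk E B → (fused p B).ncard = 23

/-- The conjugates of `d` commuting with it, other than `d`, inside the centralizer. -/
def nset (d : G) : Set ↥(Subgroup.centralizer ({d} : Set G)) := {y | IsConj d (y : G) ∧ (y : G) ≠ d}

theorem conj_d (c : ↥C₀) : (c : G) * d * (c : G)⁻¹ = d :=
  mul_inv_eq_iff_eq_mul.mpr (Subgroup.mem_centralizer_singleton_iff.mp c.2)

theorem nset_conj {y : ↥C₀} (hy : y ∈ nset d) (c : ↥C₀) : c * y * c⁻¹ ∈ nset d := by
  refine ⟨hy.1.trans (isConj_iff.mpr ⟨(c : G), rfl⟩), fun h => hy.2 ?_⟩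
  have h' : (c : G) * (y : G) * (c : G)⁻¹ = (c : G) * d * (c : G)⁻¹ := h.trans (conj_d c).symm
  exact mul_left_cancel (mul_right_cancel h')

theorem nset_sq (hd2 : d * d = 1) {y : ↥C₀} (hy : y ∈ nset d) : y * y = 1 := by
  obtain ⟨g, hg⟩ := isConj_iff.mp hy.1
  refine Subtype.ext ?_
  show (y : G) * y = 1
  rw [← hg, show g * d * g⁻¹ * (g * d * g⁻¹) = g * (d * d) * g⁻¹ by group, hd2]
  group

variable (H : Hyp p z E)
include H

theorem Hyp.d_sq : d * d = 1 := by rw [← H.zd]; exact congrArg Subtype.val H.zz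

theorem Hyp.cz {y : ↥C₀} : ((y * z : ↥C₀) : G) = (y : G) * d := by rw [Subgroup.coe_mul, H.zd]

/-- In a preimage the conjugates are `d` and one lift of each member. -/
theorem Hyp.block {B : Set Q} (hB : Blk E B) :
    (∀ y : ↥C₀, y ∈ nset d → p y ∈ closure B → p y ∈ B) ∧
      ∀ s ∈ B, ∃! y : ↥C₀, y ∈ nset d ∧ p y = s := by
  classical
  obtain ⟨s₀, hs₀⟩ := block_nonempty H.grp H.prim H.m22 hB
  obtain ⟨x₀, hx₀⟩ := H.surj s₀
  have hx : p x₀ ∈ E := hx₀ ▸ hB.sub hs₀
  obtain ⟨hinv, h1, h2, h3⟩ := H.toCov.orbits hx hB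
  obtain ⟨i1, i2, i3, hcov, d12, d13, d23, o1, o2, o3⟩ := images H.toCov hx hB
  set O : Set ↥C₀ := {y | (y : G) ∈ fused p B}
  have hOinv : ∀ k ∈ stab p B, ∀ y ∈ O, k * y * k⁻¹ ∈ O := fun k hk y hy =>
    fused_invariant H.toCov H.zd hB (Kd_of_stab H.toCov H.zd hB hk).1 hy
  have hsum : (fused p B).ncard = _ := ncard_fused H.toCov H.zd hx hB
  rw [H.count B hB] at hsum
  replace hsum : 23 = 1 + (O ∩ p ⁻¹' (p '' V1 p x₀ B)).ncard + (O ∩ p ⁻¹' (p '' V2 p x₀ B)).ncard +
      (O ∩ p ⁻¹' (p '' V3 p x₀ B)).ncard := hsum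
  have hP1 := piece H.toCov (fun k hk y hy => (hinv k hk y).1 hy) h1 hOinv
  have hP2 := piece H.toCov (fun k hk y hy => (hinv k hk y).2.1 hy) h2 hOinv
  have hP3 := piece H.toCov (fun k hk y hy => (hinv k hk y).2.2 hy) h3 hOinv
  rw [i1] at hP1
  rw [i2] at hP2
  rw [i3] at hP3
  have hb : O ∩ p ⁻¹' (p '' V2 p x₀ B) = ∅ := by
    rcases hP2 with h | ⟨-, h⟩ | ⟨h, -⟩
    · exact h
    all_goals omega
  have hc : O ∩ p ⁻¹' (p '' V3 p x₀ B) = ∅ := by
    rcases hP3 with h | ⟨-, h⟩ | ⟨h, -⟩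
    · exact h
    all_goals omega
  rw [hb, hc, Set.ncard_empty] at hsum
  obtain ⟨-, -, hno, hform⟩ : (O ∩ p ⁻¹' (p '' V1 p x₀ B)).ncard = 22 ∧
      (∀ y ∈ V1 p x₀ B, y * z ∉ V1 p x₀ B) ∧
      (∀ y, y ∈ O → y * z ∈ O → y ∉ p ⁻¹' (p '' V1 p x₀ B)) ∧
      ((O ∩ p ⁻¹' (p '' V1 p x₀ B) = V1 p x₀ B) ∨
        (O ∩ p ⁻¹' (p '' V1 p x₀ B) = (· * z) '' V1 p x₀ B)) := by
    rcases hP1 with h | ⟨-, h⟩ | h
    · rw [h, Set.ncard_empty] at hsum; omega
    · omega
    · exact h
  have hpV : p '' V1 p x₀ B = B := by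
    ext t
    constructor
    · rintro ⟨_, ⟨u, hu, rfl⟩, rfl⟩; rwa [(H.toCov.sig_spec hx (hB.sub hu)).2]
    · exact fun ht => ⟨_, ⟨t, ht, rfl⟩, (H.toCov.sig_spec hx (hB.sub ht)).2⟩
  rw [hpV] at hno hform
  have hmemO : ∀ y : ↥C₀, y ∈ nset d → p y ∈ closure B → y ∈ O := fun y hy hyB =>
    ⟨⟨y, hyB, rfl⟩, hy.1⟩
  refine ⟨fun y hy hyB => ?_, fun s hs => ?_⟩
  · have hyO := hmemO y hy hyB
    rcases hcov _ hyB with h | h | h | h
    · rcases H.ker _ h with e | e
      · exfalso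
        have h' := hy.1
        rw [e, Subgroup.coe_one] at h'
        exact d_ne_one H.toCov H.zd hx hB (isConj_one_left.mp h')
      · exact absurd ((congrArg Subtype.val e).trans H.zd) hy.2
    · rwa [hpV] at h
    · exact absurd (⟨hyO, h⟩ : y ∈ O ∩ p ⁻¹' (p '' V2 p x₀ B)) (fun hm => Set.notMem_empty y (hb.subset hm))
    · exact absurd (⟨hyO, h⟩ : y ∈ O ∩ p ⁻¹' (p '' V3 p x₀ B)) (fun hm => Set.notMem_empty y (hc.subset hm))
  · have hsp := H.toCov.sig_spec hx (hB.sub hs)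
    obtain ⟨y, hyO, hys⟩ : ∃ y, y ∈ O ∧ p y = s := by
      rcases hform with e | e
      · exact ⟨_, (e.symm.subset ⟨s, hs, rfl⟩).1, hsp.2⟩
      · exact ⟨_, (e.symm.subset ⟨_, ⟨s, hs, rfl⟩, rfl⟩).1, by rw [H.toCov.map_mul_z, hsp.2]⟩
    have hyn : y ∈ nset d := by
      refine ⟨hyO.2, fun h => ?_⟩
      have : y = z := Subtype.ext (h.trans H.zd.symm)
      rw [this, H.map_z] at hys
      exact o1 (by rw [hpV, hys]; exact hs)
    refine ⟨y, ⟨hyn, hys⟩, fun w hw => ?_⟩
    have hwO : w ∈ O := hmemO w hw.1 (by rw [hw.2]; exact subset_closure hs)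
    refine (H.toCov.fib (hw.2.trans hys.symm)).resolve_right fun e => hno y hyO (e ▸ hwO) ?_
    show p y ∈ B
    rwa [hys]

/-- A conjugate of `d` in the centralizer, other than `d`, lifts a member. -/
theorem Hyp.near_mem {y : ↥C₀} (hy : y ∈ nset d) : p y ∈ E := by
  obtain ⟨B, hB, -⟩ := exists_block_through H.grp H.prim H.m22 (T := (∅ : Set Q)) (by simp) (by simp)
  obtain ⟨k, hk⟩ := H.toCov.exists_into hB (nset_sq H.d_sq hy)
  have h := hB.sub ((H.block hB).1 _ (nset_conj hy k) hk)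
  rw [map_mul, map_mul, map_inv] at h
  have h2 := H.toCov.ts.conj (p k)⁻¹ _ h
  rwa [inv_inv, show (p k)⁻¹ * (p k * p y * (p k)⁻¹) * p k = p y by group] at h2

/-- Each member has exactly one lift conjugate to `d`. -/
theorem Hyp.existsUnique_lift {t : Q} (ht : t ∈ E) : ∃! y : ↥C₀, y ∈ nset d ∧ p y = t := by
  obtain ⟨B, hB, hsub⟩ := exists_block_through H.grp H.prim H.m22 (T := {t})
    (Set.singleton_subset_iff.mpr ht) (by rintro a ha b hb; rw [Set.mem_singleton_iff] at ha hb; subst ha hb; exact Commute.refl _)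
  exact (H.block hB).2 t (hsub rfl)

theorem Hyp.lift_unique {y w : ↥C₀} (hy : y ∈ nset d) (hw : w ∈ nset d) (h : p y = p w) : y = w :=
  (H.existsUnique_lift (H.near_mem hy)).unique ⟨hy, rfl⟩ ⟨hw, h.symm⟩

/-- They form one class of the centralizer. -/
theorem Hyp.near_isConj {y w : ↥C₀} (hy : y ∈ nset d) (hw : w ∈ nset d) :
    ∃ c : ↥C₀, c * y * c⁻¹ = w := by
  obtain ⟨k, hk⟩ := H.prim.1 _ (H.near_mem hy) _ (H.near_mem hw)
  obtain ⟨c, rfl⟩ := H.surj k
  exact ⟨c, H.lift_unique (nset_conj hy c) hw (by rw [map_mul, map_mul, map_inv, hk])⟩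

/-- Two of them commute exactly when their images do. -/
theorem Hyp.near_commute {y w : ↥C₀} (hy : y ∈ nset d) (hw : w ∈ nset d) :
    Commute y w ↔ Commute (p y) (p w) :=
  ⟨fun h => h.map p, fun h => H.toCov.comm (H.near_mem hy) (H.near_mem hw) h⟩

/-- Two of them that do not commute satisfy the braid relation. -/
theorem Hyp.near_braid {y w : ↥C₀} (hy : y ∈ nset d) (hw : w ∈ nset d) (h : ¬ Commute y w) :
    y * w * y = w * y * w := by
  have hb := H.toCov.ts.braid _ (H.near_mem hy) _ (H.near_mem hw)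
    (fun e => h ((H.near_commute hy hw).mpr e))
  have hy' : y⁻¹ = y := inv_eq_of_mul_eq_one_right (nset_sq H.d_sq hy)
  have hw' : w⁻¹ = w := inv_eq_of_mul_eq_one_right (nset_sq H.d_sq hw)
  have h1 := nset_conj hw y
  have h2 := nset_conj hy w
  rw [hy'] at h1
  rw [hw'] at h2
  exact H.lift_unique h1 h2 (by simpa only [map_mul] using hb)

/-- They generate the centralizer, if it is perfect. -/
theorem Hyp.closure_eq (hperf : commutator ↥C₀ = ⊤) : closure (nset d) = ⊤ := by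
  set N := closure (nset d)
  have hN : N.Normal := by
    refine ⟨fun n hn g => ?_⟩
    have hle : N.map (MulAut.conj g).toMonoidHom ≤ N := by
      rw [MonoidHom.map_closure]
      exact closure_mono (by rintro _ ⟨y, hy, rfl⟩; exact nset_conj hy g)
    exact hle ⟨n, hn, rfl⟩
  have hmap : N.map p = ⊤ := by
    rw [MonoidHom.map_closure]
    refine top_le_iff.mp (H.toCov.ts.gen ▸ closure_mono fun t ht => ?_)
    obtain ⟨y, ⟨hy, hyt⟩, -⟩ := H.existsUnique_lift ht
    exact ⟨y, hy, hyt⟩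
  have hz : ∀ c : ↥C₀, ∃ n ∈ N, c = n ∨ c = n * z := fun c => by
    obtain ⟨n, hn, e⟩ := hmap.symm.le (Subgroup.mem_top (p c))
    exact ⟨n, hn, H.toCov.fib e.symm⟩
  refine top_le_iff.mp (hperf ▸ ?_)
  rw [commutator_def, Subgroup.commutator_le]
  intro a _ b _
  obtain ⟨u, hu, hua⟩ := hz a
  obtain ⟨v, hv, hvb⟩ := hz b
  have e : ⁅a, b⁆ = ⁅u, v⁆ := by
    have hzu : ∀ u v : ↥C₀, ⁅u * z, v⁆ = ⁅u, v⁆ := fun u v => by
      rw [commutatorElement_def, commutatorElement_def, mul_inv_rev,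
        show u * z * v * (z⁻¹ * u⁻¹) * v⁻¹ = u * (z * v * z⁻¹) * u⁻¹ * v⁻¹ by group,
        (H.central v).eq, mul_inv_cancel_right]
    rcases hua with rfl | rfl <;> rcases hvb with rfl | rfl
    · rfl
    · rw [← commutatorElement_inv, hzu, commutatorElement_inv]
    · rw [hzu]
    · rw [hzu, ← commutatorElement_inv, hzu, commutatorElement_inv]
  rw [e, commutatorElement_def]
  exact mul_mem (mul_mem (mul_mem hu hv) (inv_mem hu)) (inv_mem hv)

end Cfsg.Agent.Fi23Near94
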