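import Cfsg.Agent.Lib.ThreeTransM22Frames51

/-!
# The finite facts about M(22) behind the tenth node of the diagram of M(23)

Stated for a set `D` of transpositions of any group, so that they can be proved in the presented group
and transported.
-/

set_option autoImplicit false

namespace Cfsg.Agent.Fi23NodeDefs98

open Cfsg.Agent.ThreeTransM22Frames51 (tree6)
open Cfsg.Agent.ThreeTransDescent (near)

variable {Q : Type*} [Group Q]

/-- The least set containing `S` closed under conjugation by its own members. -/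
inductive Cl (S : Set Q) : Q → Prop
  | base {y : Q} : y ∈ S → Cl S y
  | step {x y : Q} : Cl S x → Cl S y → Cl S (x * y * x⁻¹)

/-- A member completing `a` and a tree `E₆` (in the order `c, d, e, f, h, i`) to the diagram `Y₃₃₁`. -/
def GoodB (D : Set Q) (a : Q) (v : Fin 6 → Q) (b : Q) : Prop :=
  b ∈ D ∧ ¬ Commute b a ∧ ¬ Commute b (v 0) ∧ ∀ i : Fin 6, i ≠ 0 → Commute b (v i)

/-- Six members near `a` in the pattern of the tree. -/
def IsSix (D : Set Q) (a : Q) (v : Fin 6 → Q) : Prop :=
  (∀ i, v i ∈ near D a) ∧ ∀ i k, Commute (v i) (v k) ↔ tree6 i k = false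

/-- In one group: a far pair with a tree in common, one end of which has few common neighbours in it;
three pairwise non-conjugate trees near a member, for each of which, outside a small set, a far member
commuting with the first node generates with the seven either a completing member or everything. -/
structure Facts (D : Set Q) : Prop where
  pair : ∃ z ∈ D, ∃ x ∈ D, ¬ Commute z x ∧ ∃ v : Fin 6 → Q,
    (∀ i, v i ∈ near D z ∩ near D x) ∧ (∀ i k, Commute (v i) (v k) ↔ tree6 i k = false) ∧
    {p | p ∈ near D z ∩ near D x ∧ Commute p (v 0)}.ncard ≤ 48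
  refs : ∃ a ∈ D, ∃ v : Fin 3 → Fin 6 → Q, (∀ k, IsSix D a (v k)) ∧
    (∀ k l, k ≠ l → ∀ g : Q, Commute g a → ∃ i, g * v k i * g⁻¹ ≠ v l i) ∧
    ∀ k, ∃ bad : Set Q, bad.Finite ∧ bad.ncard ≤ 40 ∧
      ∀ r ∈ D, ¬ Commute r a → Commute r (v k 0) → r ∉ bad →
        (∃ b, Cl ({r, a} ∪ Set.range (v k)) b ∧ GoodB D a (v k) b) ∨
          Subgroup.closure {y | Cl ({r, a} ∪ Set.range (v k)) y} = ⊤

end Cfsg.Agent.Fi23NodeDefs98
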