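import Cfsg.Agent.Lib.Fi22RecogWebCount11

/-!
# Two plane lemmas on the common neighbours of two non-commuting members

In a totally isotropic plane of the chart through two commuting common neighbours the common neighbours
form a six-arc, parametrised here by a coordinate.  From such arcs we show that the missing node of a
path of six, and of a tree `E₆`, is itself a common neighbour.
-/

set_option autoImplicit false
set_option linter.unusedSectionVars false

namespace Cfsg.Agent.Fi23Plane79

open Cfsg.Agent.ThreeTransDescent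
open Cfsg.Agent.UnitaryF4Geo Cfsg.Agent.UnitaryF4Line
open Cfsg.Agent.Fi22RecogWebGeo11 Cfsg.Agent.Fi22RecogWebArc11 Cfsg.Agent.Fi22RecogWebCount11
open Cfsg.Agent.ThreeTransM22Frame72 (exists_duals)
open Cfsg.Agent.ThreeTransM22Frames51 (Gram path6 tree6)

variable {F : Type} [Field F] [Fintype F] [hF : FourField F]

theorem four_cases {k : F} (k0 : k ≠ 0) (k1 : k ≠ 1) (x : F) :
    x = 0 ∨ x = 1 ∨ x = k ∨ x = k + 1 := by
  by_cases h0 : x = 0
  · exact Or.inl h0
  by_cases h1 : x = 1
  · exact Or.inr (Or.inl h1)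
  by_cases h2 : x = k
  · exact Or.inr (Or.inr (Or.inl h2))
  exact Or.inr (Or.inr (Or.inr (third k0 one_ne_zero k1 h0 h2 h1)))

theorem trace_cases (y : F) : y + y ^ 2 = 0 ∨ y + y ^ 2 = 1 :=
  fixed_cases (by rw [sq_add, sq_sq, add_comm])

/-- Two commuting points and a non-degenerate plane orthogonal to them leave no further anisotropic one. -/
theorem no_aniso {p q w0 w1 y : Fin 6 → F} (hli : LinearIndependent F ![p, q])
    (hpp : h p p = 0) (hqq : h q q = 0) (hpq : h p q = 0) (h00 : h w0 w0 = 0) (h11 : h w1 w1 = 0)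
    (h01 : h w0 w1 = 1) (p0 : h p w0 = 0) (p1 : h p w1 = 0) (q0 : h q w0 = 0) (q1 : h q w1 = 0)
    (yp : h y p = 0) (yq : h y q = 0) (y0 : h y w0 = 0) (y1 : h y w1 = 0) (yy : h y y = 1) :
    False := by
  have hl5 : LinearIndependent F ![p, q, w0, w1, y] := by
    rw [Fintype.linearIndependent_iff]
    intro c hc
    have e0 := congrArg (fun z => h z w1) hc
    have e1 := congrArg (fun z => h z w0) hc
    have e2 := congrArg (fun z => h z y) hc
    simp [Fin.sum_univ_five, h_add_left, h_smul_left, h_zero_left, p0, p1, q0, q1, h00, h11, h01,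
      h_comm_one h01, y0, y1, yy, h_comm_zero y0, h_comm_zero y1, h_comm_zero yp, h_comm_zero yq]
      at e0 e1 e2
    simp [Fin.sum_univ_five, e0, e1, e2] at hc
    have := Fintype.linearIndependent_iff.mp hli ![c 0, c 1] (by simpa [Fin.sum_univ_two] using hc)
    intro i
    fin_cases i
    exacts [this 0, this 1, e0, e1, e2]
  obtain ⟨v, hv⟩ := exists_duals hl5
  have hl7 : LinearIndependent F ![p, q, w0, w1, y, v 0, v 1] := by
    rw [Fintype.linearIndependent_iff]
    intro c hc
    have hc' : c 0 • p + c 1 • q + c 2 • w0 + c 3 • w1 + c 4 • y + c 5 • v 0 + c 6 • v 1 = 0 := by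
      rw [← hc, Fin.sum_univ_seven]; rfl
    have f : ∀ i j, h (v i) (![p, q, w0, w1, y] j) = if i = j then 1 else 0 := hv
    have e5 := congrArg (fun z => h z p) hc'
    have e6 := congrArg (fun z => h z q) hc'
    have e2 := congrArg (fun z => h z w1) hc'
    have e3 := congrArg (fun z => h z w0) hc'
    have e4 := congrArg (fun z => h z y) hc'
    have fp : h (v 0) p = 1 ∧ h (v 1) p = 0 := ⟨f 0 0, f 1 0⟩
    have fq : h (v 0) q = 0 ∧ h (v 1) q = 1 := ⟨f 0 1, f 1 1⟩
    have fw : h (v 0) w0 = 0 ∧ h (v 1) w0 = 0 := ⟨f 0 2, f 1 2⟩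
    have fz : h (v 0) w1 = 0 ∧ h (v 1) w1 = 0 := ⟨f 0 3, f 1 3⟩
    have fy : h (v 0) y = 0 ∧ h (v 1) y = 0 := ⟨f 0 4, f 1 4⟩
    simp [h_add_left, h_smul_left, h_zero_left, p0, p1, q0, q1, h00, h11, h01, hpp, hqq, hpq,
      h_comm_one h01, h_comm_zero hpq, h_comm_zero p0, h_comm_zero p1, h_comm_zero q0, h_comm_zero q1,
      yp, yq, y0, y1, yy, h_comm_zero y0, h_comm_zero y1, h_comm_zero yp, h_comm_zero yq,
      fp, fq, fw, fz, fy] at e2 e3 e4 e5 e6
    simp [e2, e3, e4, e5, e6] at hc'
    have := Fintype.linearIndependent_iff.mp hli ![c 0, c 1] (by simpa [Fin.sum_univ_two] using hc')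
    intro i
    fin_cases i
    exacts [this 0, this 1, e2, e3, e4, e5, e6]
  simpa using hl7.fintype_card_le_finrank

variable {G : Type*} [Group G] {D : Set G} {d y : G}
variable (P : Pair D F d y) {L : (Fin 6 → F) → G} (Y : Pts D y L)
include P Y

theorem pair_li {p q : Fin 6 → F} (hp : Rep D d L p) (hq : Rep D d L q) (hne : L p ≠ L q) :
    LinearIndependent F ![p, q] := by
  rw [Fintype.linearIndependent_iff]
  intro c hc
  simp [Fin.sum_univ_two] at hc
  have e := vec_eq_of_add hc
  have e0 : c 0 = 0 := by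
    by_contra h0
    have h1 : c 1 ≠ 0 := fun e1 => by
      rw [e1, zero_smul] at e; exact smul_ne_zero h0 hp.2.1 e
    exact hne (by rw [← Y.smul hp.1 hp.2.1 h0, e, Y.smul hq.1 hq.2.1 h1])
  have e1 : c 1 = 0 := by
    rw [e0, zero_smul] at e
    exact (smul_eq_zero.mp e.symm).resolve_right hq.2.1
  intro i
  fin_cases i
  exacts [e0, e1]

/-- A plane through two commuting common neighbours: its third spanning point is any isotropic one. -/
structure Base (D : Set G) (d : G) (L : (Fin 6 → F) → G) (p q x : Fin 6 → F) : Prop where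
  li : LinearIndependent F ![p, q, x]
  hp : Rep D d L p
  hq : Rep D d L q
  pq : h p q = 0
  px : h p x = 0
  qx : h q x = 0
  xx : h x x = 0
  ne : L p ≠ L q

omit P Y in
theorem Base.swap {p q x : Fin 6 → F} (B : Base D d L p q x) : Base D d L q p x := by
  refine ⟨?_, B.hq, B.hp, h_comm_zero B.pq, B.qx, B.px, B.xx, B.ne.symm⟩
  have := B.li.comp ![1, 0, 2] (by decide)
  convert this using 1
  funext i
  fin_cases i <;> rfl

omit P Y in
theorem Base.coef {p q x : Fin 6 → F} (B : Base D d L p q x) {a b c a' b' c' : F}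
    (e : a • p + b • q + c • x = a' • p + b' • q + c' • x) : a = a' ∧ b = b' ∧ c = c' := by
  have := Fintype.linearIndependent_iff.mp B.li ![a + a', b + b', c + c'] (by
    simp only [Fin.sum_univ_three, Matrix.cons_val, add_smul]
    have h0 := vec_add_self (a' • p + b' • q + c' • x)
    nth_rw 1 [← e] at h0
    rw [← h0]
    abel)
  exact ⟨eq_of_add_eq_zero (this 0), eq_of_add_eq_zero (this 1), eq_of_add_eq_zero (this 2)⟩

/-- One of the three lines at `p` and `q` lies in the plane. -/
theorem Base.exists_line {p q x : Fin 6 → F} (B : Base D d L p q x) {l : Fin 3 → F → G}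
    (hl : Fan D d y (L p) (L q) l) :
    ∃ k, ∀ t, ∃ u, Rep D d L u ∧ L u = l k t ∧ h u p = 0 ∧ h u q = 0 ∧ h u x = 0 := by
  have hv : ∀ k t, ∃ u, Rep D d L u ∧ L u = l k t ∧ h u p = 0 ∧ h u q = 0 := by
    intro k t
    obtain ⟨u, hu, e⟩ := exists_rep P Y (hl.mem k t).1.1 (hl.mem k t).1.2
    refine ⟨u, hu, e, ?_, ?_⟩
    · rw [← rep_commute P Y hu B.hp, e]; exact (hl.mem k t).2.1.2.2.symm
    · rw [← rep_commute P Y hu B.hq, e]; exact (hl.mem k t).2.2.2.2.symm
  choose v hvR hve hvp hvq using hv
  have hpl : ∀ k t, LinearIndependent F ![p, q, v k t] := fun k t =>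
    rep_li P Y B.hp B.hq (hvR k t) B.pq B.ne (by rw [hve]; exact (hl.mem k t).2.1.2.1.symm)
      (by rw [hve]; exact (hl.mem k t).2.2.2.1.symm)
  suffices H : ∃ k t, h (v k t) x = 0 by
    obtain ⟨k, t, hx⟩ := H
    refine ⟨k, fun t' => ⟨_, hvR k t', hve k t', hvp k t', hvq k t', ?_⟩⟩
    obtain ⟨a, b, c, e⟩ := plane (hpl k t) B.hp.1 B.hq.1 (hvR k t).1 B.xx B.pq
      (h_comm_zero (hvp k t)) B.px (h_comm_zero (hvq k t)) B.qx hx
    have htt : h (v k t') (v k t) = 0 := by
      rw [← rep_commute P Y (hvR k t') (hvR k t), hve, hve]; exact (hl.comm k k t' t).mpr rfl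
    rw [e, h_add_right, h_add_right, h_smul_right, h_smul_right, h_smul_right, hvp, hvq, htt]
    simp
  by_contra hno
  push Not at hno
  have hk : ∀ i j t t', i ≠ j → h (v i t) (v j t') ≠ 0 := fun i j t t' hij e => hij <| by
    rw [← rep_commute P Y (hvR i t) (hvR j t'), hve, hve] at e
    exact (hl.comm i j t t').mp e
  set k01 := h (v 0 0) (v 1 0) with hk01
  have hk0 : k01 ≠ 0 := hk 0 1 0 0 (by decide)
  set w0 := v 0 0 with hw0
  set w1 := k01 • v 1 0 with hw1
  have h01 : h w0 w1 = 1 := by
    rw [hw1, h_smul_right, ← hk01, ← pow_succ, cube hk0]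
  have h00 : h w0 w0 = 0 := (hvR 0 0).1
  have h11 : h w1 w1 = 0 := by rw [hw1, h_smul_left, h_smul_right, (hvR 1 0).1, mul_zero, mul_zero]
  have p0 : h p w0 = 0 := h_comm_zero (hvp 0 0)
  have q0 : h q w0 = 0 := h_comm_zero (hvq 0 0)
  have p1 : h p w1 = 0 := by rw [hw1, h_smul_right, h_comm_zero (hvp 1 0), mul_zero]
  have q1 : h q w1 = 0 := by rw [hw1, h_smul_right, h_comm_zero (hvq 1 0), mul_zero]
  have h10 := h_comm_one h01
  -- every isotropic point orthogonal to the two is orthogonal to one of the lines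
  have proj : ∀ z : Fin 6 → F, h z z = 0 → h z p = 0 → h z q = 0 → h z w0 ≠ 0 → h z w1 ≠ 0 →
      ∃ A B : F, z = A • p + B • q + h z w1 • w0 + h z w1 • w1 ∧ h z w0 = h z w1 := by
    intro z hz zp zq z0 z1
    set a := h z w1 with ha
    set b := h z w0 with hb
    set u := z + a • w0 + b • w1 with hu
    have up : h u p = 0 := by
      simp [hu, h_add_left, h_smul_left, zp, h_comm_zero p0, h_comm_zero p1]
    have uq : h u q = 0 := by
      simp [hu, h_add_left, h_smul_left, zq, h_comm_zero q0, h_comm_zero q1]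
    have u0 : h u w0 = 0 := by
      simp [hu, h_add_left, h_smul_left, ← hb, h00, h10, add_self]
    have u1 : h u w1 = 0 := by
      simp [hu, h_add_left, h_smul_left, ← ha, h01, h11, add_self]
    have uu : h u u = a ^ 2 * b + a * b ^ 2 := by
      calc h u u = h u z := by
            nth_rw 2 [hu]
            simp [h_add_right, h_smul_right, u0, u1]
        _ = _ := by
            simp [hu, h_add_left, h_smul_left, hz, h_symm z w0, h_symm z w1, ← ha, ← hb]
            ring
    rcases h_self u with e | e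
    swap
    · exact absurd (no_aniso (pair_li P Y B.hp B.hq B.ne) B.hp.1 B.hq.1 B.pq h00 h11 h01 p0 p1 q0
        q1 up uq u0 u1 e) id
    obtain ⟨A, B', C, eu⟩ := plane (hpl 0 0) B.hp.1 B.hq.1 h00 e B.pq p0 (h_comm_zero up) q0
      (h_comm_zero uq) (h_comm_zero u0)
    rw [← hw0] at eu
    have hC : C = 0 := by
      have := congrArg (fun z => h z w1) eu
      simp [h_add_left, h_smul_left, u1, p1, q1, h01] at this
      exact this.symm
    have hab : b = a := by
      rw [uu] at e
      have e2 : a * b * (a + b) = 0 := by linear_combination e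
      rcases mul_eq_zero.mp e2 with e3 | e3
      · exact absurd e3 (mul_ne_zero z1 z0)
      · exact (eq_of_add_eq_zero e3).symm
    refine ⟨A, B', ?_, hab⟩
    rw [hC, zero_smul, add_zero] at eu
    rw [← eu, hu, hab]
    have e1 := vec_add_self (a • w0)
    have e2 := vec_add_self (a • w1)
    linear_combination (norm := module) -e1 - e2
  obtain ⟨A, B', e2, -⟩ := proj (v 2 0) (hvR 2 0).1 (hvp 2 0) (hvq 2 0) (hk 2 0 0 0 (by decide))
    (by rw [hw1, h_smul_right]; exact mul_ne_zero (pow_ne_zero _ hk0) (hk 2 1 0 0 (by decide)))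
  obtain ⟨A', B'', -, ex⟩ := proj x B.xx (h_comm_zero B.px) (h_comm_zero B.qx)
    (fun e => hno 0 0 (h_comm_zero e))
    (fun e => hno 1 0 (by
      rw [hw1, h_smul_right, mul_eq_zero] at e
      exact h_comm_zero (e.resolve_left (pow_ne_zero _ hk0))))
  refine hno 2 0 (h_comm_zero ?_)
  rw [e2]
  simp [h_add_right, h_smul_right, h_comm_zero B.px, h_comm_zero B.qx, ex, add_self]

/-- The members of the plane off the line through `p` and `q` are parametrised by the coordinate at `q`;
a member `b` commuting with neither of `p`, `q` commutes with one of them. -/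
theorem Base.param {p q x : Fin 6 → F} (B : Base D d L p q x) :
    (∀ u : F, ∃ ν : F, Rep D d L (ν • p + u • q + x)) ∧
      ∀ b, Rep D d L b → h b p ≠ 0 → h b q ≠ 0 →
        ∃ ν u : F, Rep D d L (ν • p + u • q + x) ∧ h b (ν • p + u • q + x) = 0 := by
  obtain ⟨l, hl⟩ := exists_fan P B.hp.2.2 (Y.mem B.hp.1 B.hp.2.1) B.hq.2.2 (Y.mem B.hq.1 B.hq.2.1)
    (rep_near P Y B.hp B.hq B.pq B.ne)
  obtain ⟨k, hk⟩ := B.exists_line P Y hl
  choose v hvR hve hvp hvq hvx using hk
  choose A C E hABC using fun t => plane B.li B.hp.1 B.hq.1 B.xx (hvR t).1 B.pq B.px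
    (h_comm_zero (hvp t)) B.qx (h_comm_zero (hvq t)) (h_comm_zero (hvx t))
  have hE : ∀ t, E t ≠ 0 := fun t e => by
    rcases line P Y B.hp B.hq (hvR t) B.pq (by rw [hABC t, e, zero_smul, add_zero]) with e' | e' <;>
      rw [hve t] at e'
    · exact (hl.mem k t).2.1.2.1 e'
    · exact (hl.mem k t).2.2.2.1 e'
  have hres : ∀ t, (E t)⁻¹ • v t = ((E t)⁻¹ * A t) • p + ((E t)⁻¹ * C t) • q + x := fun t => by
    conv_lhs => rw [hABC t]
    rw [smul_add, smul_add, smul_smul, smul_smul, smul_smul, inv_mul_cancel₀ (hE t), one_smul]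
  have hrep : ∀ t, Rep D d L (((E t)⁻¹ * A t) • p + ((E t)⁻¹ * C t) • q + x) := fun t =>
    hres t ▸ rep_smul P Y (hvR t) (inv_ne_zero (hE t))
  refine ⟨?_, fun b hb hbp hbq => ?_⟩
  · have hinj : Function.Injective fun t => (E t)⁻¹ * C t := by
      intro t t' e
      simp only at e
      have hvv : v t' = (E t' / E t) • v t + (A t' + E t' / E t * A t) • p := by
        have eC : C t' = E t' / E t * C t := by
          rw [div_eq_mul_inv, mul_assoc, e, ← mul_assoc, mul_inv_cancel₀ (hE t'), one_mul]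
        have eE : E t' = E t' / E t * E t := (div_mul_cancel₀ _ (hE t)).symm
        rw [hABC t, hABC t', eC, smul_add, smul_add, smul_smul, smul_smul, smul_smul, ← eE, add_smul]
        have := vec_add_self ((E t' / E t * A t) • p)
        linear_combination (norm := module) -this
      rcases line P Y (hvR t) B.hp (hvR t') (hvp t) hvv with e' | e' <;> rw [hve t'] at e'
      · rw [hve t] at e'; exact (hl.inj k k t' t e').2.symm
      · exact absurd e' (hl.mem k t').2.1.2.1
    intro u
    obtain ⟨t, rfl⟩ := Finite.injective_iff_surjective.mp hinj u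
    exact ⟨_, hrep t⟩
  · have hn : ∀ {z : Fin 6 → F}, Rep D d L z → h b z ≠ 0 → ¬ Commute (L b) (L z) :=
      fun hz hbz e => hbz ((rep_commute P Y hb hz).mp e)
    obtain ⟨t, ht⟩ := exists_on_line P B.hp.2.2 (Y.mem B.hp.1 B.hp.2.1) B.hq.2.2
      (Y.mem B.hq.1 B.hq.2.1) (rep_near P Y B.hp B.hq B.pq B.ne) hl hb.2.2 (Y.mem hb.1 hb.2.1)
      (hn B.hp hbp) (hn B.hq hbq) k
    refine ⟨_, _, hrep t, ?_⟩
    rw [← hres t, h_smul_right, (rep_commute P Y hb (hvR t)).mp (by rw [hve t]; exact ht), mul_zero]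

/-- Two members of the plane with the same coordinate at `q` agree. -/
theorem Base.uniq {p q x : Fin 6 → F} (B : Base D d L p q x) {ν ν' u : F}
    (h1 : Rep D d L (ν • p + u • q + x)) (h2 : Rep D d L (ν' • p + u • q + x)) : ν = ν' := by
  have h0 : h (ν • p + u • q + x) p = 0 := by
    simp [h_add_left, h_smul_left, B.hp.1, h_comm_zero B.pq, h_comm_zero B.px]
  rcases line P Y h1 B.hp h2 h0 (A := 1) (B := ν + ν') (by
      rw [one_smul, add_smul]
      have := vec_add_self (ν • p)
      linear_combination (norm := module) -this) with e | e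
  · obtain ⟨c, hc, e'⟩ := Y.inj h2.1 h2.2.1 h1.1 h1.2.1 e
    obtain ⟨a1, a2, a3⟩ := B.coef (a := ν') (b := u) (c := (1 : F)) (a' := c * ν) (b' := c * u)
      (c' := c) (by rw [one_smul, e', smul_add, smul_add, smul_smul, smul_smul])
    rw [← a3, one_mul] at a1
    exact a1.symm
  · obtain ⟨c, hc, e'⟩ := Y.inj h2.1 h2.2.1 B.hp.1 B.hp.2.1 e
    obtain ⟨-, -, a3⟩ := B.coef (a := ν') (b := u) (c := (1 : F)) (a' := c) (b' := 0) (c' := 0)
      (by rw [one_smul, e', zero_smul, zero_smul, add_zero, add_zero])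
    exact absurd a3 one_ne_zero

/-- No three members of the plane are on a line. -/
theorem Base.no_three {p q x : Fin 6 → F} (B : Base D d L p q x) {ν₀ u₀ ν₁ u₁ ν₂ u₂ a b : F}
    (h0 : Rep D d L (ν₀ • p + u₀ • q + x)) (h1 : Rep D d L (ν₁ • p + u₁ • q + x))
    (h2 : Rep D d L (ν₂ • p + u₂ • q + x)) (hab : a + b = 1) (hν : a * ν₀ + b * ν₁ = ν₂)
    (hu : a * u₀ + b * u₁ = u₂) : u₂ = u₀ ∨ u₂ = u₁ := by
  have hperp : h (ν₀ • p + u₀ • q + x) (ν₁ • p + u₁ • q + x) = 0 := by
    simp [h_add_left, h_add_right, h_smul_left, h_smul_right, B.hp.1, B.hq.1, B.pq, B.px, B.qx, B.xx,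
      h_comm_zero B.pq, h_comm_zero B.px, h_comm_zero B.qx]
  have he : ν₂ • p + u₂ • q + x =
      a • (ν₀ • p + u₀ • q + x) + b • (ν₁ • p + u₁ • q + x) := by
    rw [← hν, ← hu]
    nth_rw 1 [← one_smul F x]
    rw [← hab]
    module
  rcases line P Y h0 h1 h2 hperp he with e | e
  · left
    obtain ⟨c, hc, e'⟩ := Y.inj h2.1 h2.2.1 h0.1 h0.2.1 e
    obtain ⟨-, a2, a3⟩ := B.coef (a := ν₂) (b := u₂) (c := (1 : F)) (a' := c * ν₀) (b' := c * u₀)
      (c' := c) (by rw [one_smul, e', smul_add, smul_add, smul_smul, smul_smul])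
    rw [← a3, one_mul] at a2
    exact a2
  · right
    obtain ⟨c, hc, e'⟩ := Y.inj h2.1 h2.2.1 h1.1 h1.2.1 e
    obtain ⟨-, a2, a3⟩ := B.coef (a := ν₂) (b := u₂) (c := (1 : F)) (a' := c * ν₁) (b' := c * u₁)
      (c' := c) (by rw [one_smul, e', smul_add, smul_add, smul_smul, smul_smul])
    rw [← a3, one_mul] at a2
    exact a2

/-- A path of six `u` whose fifth node is the only one not yet known to be a common neighbour, the point
`u 1 + u 3 + u 5` being none: then the fifth node is one. -/
theorem path_fifth {u : Fin 6 → Fin 6 → F} (hg : Gram path6 u)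
    (hR : ∀ i, i ≠ 4 → Rep D d L (u i)) (hc : ¬ Rep D d L (u 1 + u 3 + u 5)) :
    Rep D d L (u 4) := by
  by_contra hj
  have hu : ∀ i j, h (u i) (u j) = if path6 i j then (1 : F) else 0 := hg
  set D' := u 0 with hD'
  set E' := u 1 with hE'
  set Fv := u 2 with hFv
  set G' := u 3 with hG'
  set J := u 4 with hJ
  set Z := u 5 with hZ
  have rd : Rep D d L D' := hR 0 (by decide)
  have re : Rep D d L E' := hR 1 (by decide)
  have rf : Rep D d L Fv := hR 2 (by decide)
  have rg : Rep D d L G' := hR 3 (by decide)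
  have rz : Rep D d L Z := hR 5 (by decide)
  have li := ThreeTransM22Frames51.path6_li hg
  have lne : ∀ i j, i ≠ j → i ≠ 4 → j ≠ 4 → L (u i) ≠ L (u j) := by
    intro i j hij hi hj' e
    obtain ⟨c, hc0, e'⟩ := Y.inj (hR i hi).1 (hR i hi).2.1 (hR j hj').1 (hR j hj').2.1 e
    have := Fintype.linearIndependent_iff.mp li (fun k => (if k = i then 1 else 0) + if k = j then c else 0) (by
      simp [add_smul, Finset.sum_add_distrib, e', vec_add_self]) i
    simp [hij] at this
  have li3 : ∀ a b c : Fin 6, a ≠ b → a ≠ c → b ≠ c → LinearIndependent F ![u a, u b, u c] := by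
    intro a b c h1 h2 h3
    have := li.comp ![a, b, c] (by
      intro i j e
      fin_cases i <;> fin_cases j <;> simp_all [Ne.symm])
    convert this using 1
    funext i
    fin_cases i <;> rfl
  have B1 : Base D d L D' Fv J := ⟨li3 0 2 4 (by decide) (by decide) (by decide), rd, rf,
    by simp [hD', hFv, hu, path6], by simp [hD', hJ, hu, path6], by simp [hFv, hJ, hu, path6],
    by simp [hJ, hu, path6], lne 0 2 (by decide) (by decide) (by decide)⟩
  have B2 : Base D d L Z G' E' := ⟨li3 5 3 1 (by decide) (by decide) (by decide), rz, rg,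
    by simp [hZ, hG', hu, path6], by simp [hZ, hE', hu, path6], by simp [hG', hE', hu, path6],
    by simp [hE', hu, path6], lne 5 3 (by decide) (by decide) (by decide)⟩
  obtain ⟨s1, hit1⟩ := B1.param P Y
  obtain ⟨s2, hit2⟩ := B2.param P Y
  choose σ hσ using s1
  choose ρ hρ using s2
  have σinj : Function.Injective σ := fun a b e =>
    B1.swap.uniq P Y (ν := a) (ν' := b) (u := σ a)
      (by rw [add_comm (a • Fv)]; exact hσ a)
      (by rw [add_comm (b • Fv), e]; exact hσ b)
  have ρinj : Function.Injective ρ := fun a b e =>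
    B2.swap.uniq P Y (ν := a) (ν' := b) (u := ρ a)
      (by rw [add_comm (a • G')]; exact hρ a)
      (by rw [add_comm (b • G'), e]; exact hρ b)
  have hρ0 : ρ 0 = 0 := B2.uniq P Y (hρ 0) (by simpa using re)
  set k := ρ 1 with hk
  have hk0 : k ≠ 0 := fun e => zero_ne_one (α := F) (ρinj (hρ0.trans e.symm))
  have hk1 : k ≠ 1 := fun e => hc (by
    have := hρ 1
    rw [← hk, e, one_smul, one_smul] at this
    convert this using 1
    abel)
  have hkk : k ^ 2 = k + 1 := rel hk0 hk1
  have k11 : k + 1 ≠ 0 := fun e => hk1 (eq_of_add_eq_zero e)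
  have hρk : ρ k = 1 := by
    rcases four_cases hk0 hk1 (ρ k) with e | e | e | e
    · exact absurd (ρinj (e.trans hρ0.symm)) hk0
    · exact e
    · exact absurd (ρinj (e.trans hk)) hk1
    · have h0 : Rep D d L ((0 : F) • Z + (0 : F) • G' + E') := by simpa using re
      rcases B2.no_three P Y h0 (hρ 1) (hρ k) (a := k + 1) (b := k)
        (by linear_combination add_self k) (by rw [e, ← hk, mul_zero, zero_add, ← sq, hkk])
        (by simp) with e' | e'
      · exact absurd e' hk0
      · exact absurd e' hk1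
  have hρk2 : ρ (k + 1) = k + 1 := by
    rcases four_cases hk0 hk1 (ρ (k + 1)) with e | e | e | e
    · exact absurd (ρinj (e.trans hρ0.symm)) k11
    · exact absurd (ρinj (e.trans hρk.symm)) (by simp)
    · exact absurd (ρinj (e.trans hk)) (by simpa using hk0)
    · exact e
  -- the hits of the first arc on the second
  have key : ∀ v, v ≠ 1 → ∃ s, σ v + v + (s ^ 2 * (v + 1) + ρ s ^ 2) = 0 := by
    intro v hv
    have xg : h (σ v • D' + v • Fv + J) G' = v + 1 := by
      simp [h_add_left, h_smul_left, hD', hFv, hJ, hG', hu, path6]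
    have xz : h (σ v • D' + v • Fv + J) Z = 1 := by
      simp [h_add_left, h_smul_left, hD', hFv, hJ, hZ, hu, path6]
    have xe : h (σ v • D' + v • Fv + J) E' = σ v + v := by
      simp [h_add_left, h_smul_left, hD', hFv, hJ, hE', hu, path6]
    obtain ⟨ν, s, hw, e⟩ := hit2 _ (hσ v) (by rw [xz]; exact one_ne_zero)
      (by rw [xg]; exact fun e => hv (eq_of_add_eq_zero e))
    have hν : ν = ρ s := B2.uniq P Y hw (hρ s)
    subst hν
    refine ⟨s, ?_⟩
    rw [h_add_right, h_add_right, h_smul_right, h_smul_right, xz, xg, xe] at e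
    linear_combination e
  have hσ0 : σ 0 ≠ 0 := fun e => hj (by
    have := hσ 0
    rwa [e, zero_smul, zero_smul, zero_add, zero_add] at this)
  have two := two_eq_zero (F := F)
  have hσ0k : σ 0 = k := by
    obtain ⟨s, e⟩ := key 0 zero_ne_one
    rcases four_cases hk0 hk1 s with rfl | rfl | rfl | rfl
    · exact absurd (by rw [hρ0] at e; simpa using e) hσ0
    · rw [← hk] at e; linear_combination e - hkk - two * (k + 1)
    · rw [hρk] at e; linear_combination e - hkk - two * (k + 1)
    · rw [hρk2] at e; exact absurd (by linear_combination e - two * (k + 1) ^ 2) hσ0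
  have hσk : σ k = 1 := by
    have hne : σ k ≠ k := fun e => hk0 (σinj (e.trans hσ0k.symm))
    obtain ⟨s, e⟩ := key k hk1
    rcases four_cases hk0 hk1 s with rfl | rfl | rfl | rfl
    · rw [hρ0] at e; exact absurd (eq_of_add_eq_zero (by linear_combination e)) hne
    · rw [← hk] at e
      exact absurd (eq_of_add_eq_zero (by linear_combination e - hkk - two * (k + 1))) hne
    · rw [hρk] at e
      linear_combination e - (k + 2) * hkk - two * (2 * k + 2)
    · rw [hρk2] at e
      linear_combination e - (k + 5) * hkk - two * (6 * k + 4)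
  -- the hit of `e` on the first arc
  obtain ⟨ν, v, hw, e⟩ := hit1 E' re (by simp [hE', hD', hu, path6]) (by simp [hE', hFv, hu, path6])
  have hν : ν = σ v := B1.uniq P Y hw (hσ v)
  subst hν
  have hfix : σ v = v := by
    simp [h_add_right, h_smul_right, hE', hD', hFv, hJ, hu, path6] at e
    have := eq_of_add_eq_zero e
    rw [← sq_sq (σ v), this, sq_sq]
  have hσ2 : σ (k + 1) = k + 1 := by
    rcases four_cases hk0 hk1 v with rfl | rfl | rfl | rfl
    · exact absurd hfix hσ0
    · exact absurd (σinj (hfix.trans hσk.symm)) hk1.symm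
    · exact absurd (hσk.symm.trans hfix) hk1.symm
    · exact hfix
  have hσ1 : σ 1 = 0 := by
    rcases four_cases hk0 hk1 (σ 1) with e | e | e | e
    · exact e
    · exact absurd (σinj (e.trans hσk.symm)) hk1.symm
    · exact absurd (σinj (e.trans hσ0k.symm)) one_ne_zero
    · exact absurd (σinj (e.trans hσ2.symm)) (by simpa using hk0)
  rcases B1.no_three P Y (hσ 0) (hσ 1) (hσ (k + 1)) (a := k) (b := k + 1)
    (by linear_combination add_self k)
    (by rw [hσ0k, hσ1, hσ2, mul_zero, add_zero, ← sq, hkk]) (by simp) with e' | e'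
  · exact k11 e'
  · exact hk0 (by simpa using e')

/-- A tree `E₆` whose node at the long arm is the only one not yet known to be a common neighbour, the
highest root `u 5 + u 1 + u 3` being one: then that node is one. -/
theorem tree_fifth {u : Fin 6 → Fin 6 → F} (hg : Gram tree6 u)
    (hR : ∀ i, i ≠ 4 → Rep D d L (u i)) (hr : Rep D d L (u 5 + u 1 + u 3)) :
    Rep D d L (u 4) := by
  by_contra hj
  have hu : ∀ i j, h (u i) (u j) = if tree6 i j then (1 : F) else 0 := hg
  set C' := u 0 with hC'
  set D' := u 1 with hD'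
  set E' := u 2 with hE'
  set Fv := u 3 with hFv
  set H' := u 4 with hH'
  set I' := u 5 with hI'
  have li := ThreeTransM22Frames51.tree6_li hg
  have lne : ∀ i j, i ≠ j → i ≠ 4 → j ≠ 4 → L (u i) ≠ L (u j) := by
    intro i j hij hi hj' e
    obtain ⟨c, hc0, e'⟩ := Y.inj (hR i hi).1 (hR i hi).2.1 (hR j hj').1 (hR j hj').2.1 e
    have := Fintype.linearIndependent_iff.mp li (fun k => (if k = i then 1 else 0) + if k = j then c else 0) (by
      simp [add_smul, Finset.sum_add_distrib, e', vec_add_self]) i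
    simp [hij] at this
  have li3 : ∀ a b c : Fin 6, a ≠ b → a ≠ c → b ≠ c → LinearIndependent F ![u a, u b, u c] := by
    intro a b c h1 h2 h3
    have := li.comp ![a, b, c] (by
      intro i j e
      fin_cases i <;> fin_cases j <;> simp_all [Ne.symm])
    convert this using 1
    funext i
    fin_cases i <;> rfl
  have B1 : Base D d L C' E' H' := ⟨li3 0 2 4 (by decide) (by decide) (by decide), hR 0 (by decide),
    hR 2 (by decide), by simp [hC', hE', hu, tree6], by simp [hC', hH', hu, tree6],
    by simp [hE', hH', hu, tree6], by simp [hH', hu, tree6],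
    lne 0 2 (by decide) (by decide) (by decide)⟩
  have B2 : Base D d L I' D' Fv := ⟨li3 5 1 3 (by decide) (by decide) (by decide), hR 5 (by decide),
    hR 1 (by decide), by simp [hI', hD', hu, tree6], by simp [hI', hFv, hu, tree6],
    by simp [hD', hFv, hu, tree6], by simp [hFv, hu, tree6],
    lne 5 1 (by decide) (by decide) (by decide)⟩
  obtain ⟨s1, -⟩ := B1.param P Y
  obtain ⟨s2, hit2⟩ := B2.param P Y
  choose σ hσ using s1
  choose ρ hρ using s2
  have σinj : Function.Injective σ := fun a b e =>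
    B1.swap.uniq P Y (ν := a) (ν' := b) (u := σ a)
      (by rw [add_comm (a • E')]; exact hσ a)
      (by rw [add_comm (b • E'), e]; exact hσ b)
  have ρinj : Function.Injective ρ := fun a b e =>
    B2.swap.uniq P Y (ν := a) (ν' := b) (u := ρ a)
      (by rw [add_comm (a • D')]; exact hρ a)
      (by rw [add_comm (b • D'), e]; exact hρ b)
  have hρ0 : ρ 0 = 0 := B2.uniq P Y (hρ 0) (by simpa using hR 3 (by decide))
  have hρ1 : ρ 1 = 1 := B2.uniq P Y (hρ 1) (by simpa using hr)
  obtain ⟨w, hw⟩ := exists_omega (F := F)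
  obtain ⟨w0, w1⟩ := omega_ne hw
  have two := two_eq_zero (F := F)
  have hρw : ∀ m : F, m ≠ 0 → m ≠ 1 → ρ m = m + 1 := by
    intro m m0 m1
    rcases four_cases m0 m1 (ρ m) with e | e | e | e
    · exact absurd (ρinj (e.trans hρ0.symm)) m0
    · exact absurd (ρinj (e.trans hρ1.symm)) m1
    · rcases B2.no_three P Y (hρ 0) (hρ 1) (hρ m) (a := m + 1) (b := m)
        (by linear_combination add_self m) (by rw [hρ0, hρ1, e]; simp) (by simp) with e' | e'
      · exact absurd e' m0
      · exact absurd e' m1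
    · exact e
  have hsq : ∀ s : F, ρ s = s ^ 2 := fun s => by
    rcases four_cases w0 w1 s with rfl | rfl | rfl | rfl
    · simp [hρ0]
    · simp [hρ1]
    · rw [hρw _ w0 w1, hw]
    · rw [hρw _ (fun e => w1 (eq_of_add_eq_zero e)) (by simpa using w0), sq_add, one_pow, hw]
  -- the two values at each coordinate
  have key : ∀ v, v ≠ 0 → σ v = v + 1 ∨ σ v = v ^ 2 + v + 1 := by
    intro v hv
    set M := σ v + v + 1 with hM
    by_cases hM0 : M = 0
    · exact Or.inl (by linear_combination hM0 - hM - two * (v + 1))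
    right
    have xd : h (σ v • C' + v • E' + H') D' = M := by
      simp [h_add_left, h_smul_left, hC', hE', hH', hD', hu, tree6, hM]
    have xi : h (σ v • C' + v • E' + H') I' = 1 := by
      simp [h_add_left, h_smul_left, hC', hE', hH', hI', hu, tree6]
    have xf : h (σ v • C' + v • E' + H') Fv = v := by
      simp [h_add_left, h_smul_left, hC', hE', hH', hFv, hu, tree6]
    obtain ⟨ν, s, hwR, e⟩ := hit2 _ (hσ v) (by rw [xi]; exact one_ne_zero) (by rw [xd]; exact hM0)
    have hν : ν = ρ s := B2.uniq P Y hwR (hρ s)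
    subst hν
    rw [h_add_right, h_add_right, h_smul_right, h_smul_right, xi, xd, xf, hsq, sq_sq] at e
    have hvM : v * M = 1 := by
      have h1 : v * M = s * M + (s * M) ^ 2 := by linear_combination M * e - two * (s * M + s ^ 2 * M ^ 2)
      rcases trace_cases (s * M) with e' | e' <;> rw [e'] at h1
      · exact absurd h1 (mul_ne_zero hv hM0)
      · exact h1
    have hM2 : M = v ^ 2 := mul_left_cancel₀ hv (by rw [hvM, ← pow_succ', cube hv])
    linear_combination hM2 - hM - two * (v + 1)
  have hσ0 : σ 0 ≠ 0 := fun e => hj (by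
    have := hσ 0
    rwa [e, zero_smul, zero_smul, zero_add, zero_add] at this)
  have surj : Function.Surjective σ := Finite.injective_iff_surjective.mp σinj
  have kval : ∀ m : F, m ≠ 0 → m ≠ 1 → σ m = m + 1 ∨ σ m = 0 := fun m m0 m1 =>
    (key m m0).imp id fun e => by rw [e, rel m0 m1]; linear_combination two * (m + 1)
  rcases (key 1 one_ne_zero) with e1 | e1
  · rw [add_self] at e1
    have hm : ∀ m : F, m ≠ 0 → m ≠ 1 → σ m = m + 1 := fun m m0 m1 =>
      (kval m m0 m1).resolve_right fun e => m1 (σinj (e.trans e1.symm))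
    have hw1 : σ 0 = 1 := by
      rcases four_cases w0 w1 (σ 0) with e | e | e | e
      · exact absurd e hσ0
      · exact e
      · exact absurd (σinj (e.trans (show w = σ (w + 1) by
          rw [hm _ (fun e => w1 (eq_of_add_eq_zero e)) (by simpa using w0)]
          linear_combination -two))) (fun e => w1 (eq_of_add_eq_zero e.symm))
      · exact absurd (σinj (e.trans (hm w w0 w1).symm)) (Ne.symm w0)
    rcases B1.no_three P Y (hσ 0) (hσ 1) (hσ w) (a := w + 1) (b := w)
      (by linear_combination add_self w) (by rw [hw1, e1, hm w w0 w1]; ring) (by simp) with e' | e'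
    · exact w0 e'
    · exact w1 e'
  · have e1' : σ 1 = 1 := by rw [e1]; linear_combination two
    obtain ⟨m, hm⟩ := surj 0
    have m0 : m ≠ 0 := fun e => hσ0 (e ▸ hm)
    have m1 : m ≠ 1 := fun e => by rw [e, e1'] at hm; exact one_ne_zero hm
    have n0 : m + 1 ≠ 0 := fun e => m1 (eq_of_add_eq_zero e)
    have n1 : m + 1 ≠ 1 := by simpa using m0
    have hn : σ (m + 1) = m := by
      rcases kval _ n0 n1 with e | e
      · rw [e]; linear_combination two
      · exact absurd (σinj (e.trans hm.symm)) (by simp)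
    rcases B1.no_three P Y (hσ 1) (hσ m) (hσ (m + 1)) (a := m) (b := m + 1)
      (by linear_combination add_self m) (by rw [e1', hm, hn]; ring)
      (by linear_combination rel m0 m1 + two * m) with e' | e'
    · exact n1 e'
    · simp at e'

end Cfsg.Agent.Fi23Plane79
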