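import Cfsg.Agent.Lib.CosetCertFi23Simple

/-!
A cheap identity test in the presented group Fi23: an element fixing ten points commutes with the ten
generators, hence is trivial.
-/

set_option autoImplicit false
set_option maxRecDepth 100000
set_option Elab.async false

namespace Cfsg.Agent.Fi23PointCheck78

open Cfsg.Agent.CosetCertCore Cfsg.Agent.CosetCertTable Cfsg.Agent.CosetCertPres
open Cfsg.Agent.CosetCertOrder Cfsg.Agent.CosetCertFi23Simple

/-- The table. -/
noncomputable abbrev DT : Table := CosetCertFi23FData.table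

/-- The word of the transposition attached to the point zero. -/
abbrev ZT : List Nat := (List.replicate 9 [1, 2, 3, 4, 5, 6, 8]).flatten

theorem ng : DT.NG = 10 := CosetCertFi23F.enumerated.ng

theorem rho_inv_apply (w : List Nat) (hw : ∀ x ∈ w, x < 10) (i : Fin DT.N) :
    ((rho CosetCertFi23F.enumerated (val P23.gg w)⁻¹ i : Fin DT.N) : Nat) = DT.run w i := by
  have hw' : ∀ x ∈ w, x < DT.NG := fun x hx => ng ▸ hw x hx
  rw [map_inv, rho_val CosetCertFi23F.enumerated hw']
  have h := act_perm CosetCertFi23F.enumerated.table w hw' i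
  rw [act_eq _ (perm_sq _)] at h
  exact h

theorem zt_comm {k : P23.Grp} (hk : k ∈ span P23.gg SIG) :
    val P23.gg ZT * k = k * val P23.gg ZT := by
  obtain ⟨ψ, he, hz, -, -⟩ := cover
  haveI := card_span.2
  have h2 := ker_cases ψ he
  have hmap : ZW.map (ren SIG) = ZT := by decide +kernel
  have hv : ((val (spanGen (Pres.gg P23) SIG (by simp)) ZW : span P23.gg SIG) : P23.Grp) =
      val P23.gg ZT := by rw [spanGen_val, hmap]
  set z := val (spanGen (Pres.gg P23) SIG (by simp)) ZW with hzdef
  by_cases h1 : z = 1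
  · rw [← hv, h1]
    simp
  · obtain ⟨y, -, hy⟩ := (Nat.card_eq_two_iff' (1 : ψ.ker)).mp h2
    have hc : (⟨k, hk⟩ : span P23.gg SIG) * z * (⟨k, hk⟩ : span P23.gg SIG)⁻¹ ∈ ψ.ker :=
      (MonoidHom.normal_ker ψ).conj_mem z hz _
    have hzy := hy ⟨z, hz⟩ fun e => h1 (congrArg Subtype.val e)
    have hcy := hy ⟨_, hc⟩ fun e => h1 (by
      have e' : (⟨k, hk⟩ : span P23.gg SIG) * z * (⟨k, hk⟩ : span P23.gg SIG)⁻¹ = 1 :=
        congrArg Subtype.val e
      exact conj_eq_one_iff.mp e')
    have he' := congrArg (fun t : ψ.ker => ((t : span P23.gg SIG) : P23.Grp)) (hcy.trans hzy.symm)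
    simp only [Subgroup.coe_mul, Subgroup.coe_inv, hv] at he'
    rw [mul_inv_eq_iff_eq_mul] at he'
    exact he'.symm

/-- Full check of one word. -/
noncomputable def wordOk (w : List Nat) (i : Nat) : Bool := relsOk [w] DT i

/-- The word `(z j)³`. -/
abbrev ZJ3 : List Nat := (List.replicate 3 (ZT ++ [7])).flatten

theorem zj0 : AllBelow (wordOk ZJ3) 0 := AllBelow.zero _

theorem zj1 : AllBelow (wordOk ZJ3) 4096 := AllBelow.step zj0 4096 (by decide +kernel)

theorem zj2 : AllBelow (wordOk ZJ3) 8192 := AllBelow.step zj1 4096 (by decide +kernel)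

theorem zj3 : AllBelow (wordOk ZJ3) 12288 := AllBelow.step zj2 4096 (by decide +kernel)

theorem zj4 : AllBelow (wordOk ZJ3) 16384 := AllBelow.step zj3 4096 (by decide +kernel)

theorem zj5 : AllBelow (wordOk ZJ3) 20480 := AllBelow.step zj4 4096 (by decide +kernel)

theorem zj6 : AllBelow (wordOk ZJ3) 24576 := AllBelow.step zj5 4096 (by decide +kernel)

theorem zj7 : AllBelow (wordOk ZJ3) 28672 := AllBelow.step zj6 4096 (by decide +kernel)

theorem zj8 : AllBelow (wordOk ZJ3) 31671 := AllBelow.step zj7 2999 (by decide +kernel)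

theorem val_eq_one_of_all {w : List Nat} (hw : ∀ x ∈ w, x < 10) (h : AllBelow (wordOk w) 31671) :
    val P23.gg w = 1 := by
  have hN : DT.N = 31671 := by decide +kernel
  have h1 : rho CosetCertFi23F.enumerated (val P23.gg w)⁻¹ = 1 := by
    ext i
    rw [rho_inv_apply w hw i]
    exact (relsOk_iff _ _ _).mp (h i (hN ▸ i.2)) w (List.mem_singleton.mpr rfl)
  exact inv_eq_one.mp (faithful (h1.trans (map_one _).symm))

theorem zj_cube : (val P23.gg ZT * P23.gg 7) ^ 3 = 1 := by
  have h := val_eq_one_of_all (w := ZJ3) (by decide +kernel) zj8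
  rwa [val_replicate, CosetCertPres.val_append, val_cons, val_nil, mul_one] at h

/-- Conjugating words of the ten generators from the transposition `z`. -/
abbrev K7 : List Nat := ZT ++ [7]
/-- word -/ abbrev K6 : List Nat := [7, 6] ++ K7
/-- word -/ abbrev K5 : List Nat := [6, 5] ++ K6
/-- word -/ abbrev K4 : List Nat := [5, 4] ++ K5
/-- word -/ abbrev K3 : List Nat := [4, 3] ++ K4
/-- word -/ abbrev K2 : List Nat := [3, 2] ++ K3
/-- word -/ abbrev K1 : List Nat := [2, 1] ++ K2
/-- word -/ abbrev K0 : List Nat := [1, 0] ++ K1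
/-- word -/ abbrev K8 : List Nat := [3, 8] ++ K3
/-- word -/ abbrev K9 : List Nat := [8, 9] ++ K8

/-- The word conjugating `z` to a generator. -/
def kw : Nat → List Nat
  | 0 => K0
  | 1 => K1
  | 2 => K2
  | 3 => K3
  | 4 => K4
  | 5 => K5
  | 6 => K6
  | 7 => K7
  | 8 => K8
  | _ => K9

theorem conj_step {G : Type*} [Group G] {x y : G} (hx : x * x = 1) (hy : y * y = 1)
    (h : (x * y) ^ 3 = 1) : x * y * x * (x * y)⁻¹ = y := by
  have hxi : x⁻¹ = x := (eq_inv_of_mul_eq_one_left hx).symm
  have hyi : y⁻¹ = y := (eq_inv_of_mul_eq_one_left hy).symm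
  rw [mul_inv_rev, hxi, hyi]
  calc x * y * x * (y * x) = (x * y) ^ 3 * y⁻¹ := by simp only [pow_succ, pow_zero]; group
    _ = y := by rw [h, one_mul, hyi]

theorem edge_cube {i j : Nat}
    (h : [i, j, i, j, i, j] ∈ P23.relWords ∨ [j, i, j, i, j, i] ∈ P23.relWords) :
    (P23.gg i * P23.gg j) ^ 3 = 1 := by
  rcases h with h | h
  · have := val_relWords good h
    simp only [val_cons, val_nil, mul_one] at this
    rw [← this]
    simp only [pow_succ, pow_zero]; group
  · have := val_relWords good h
    simp only [val_cons, val_nil, mul_one] at this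
    rw [show P23.gg i * P23.gg j = (P23.gg j * P23.gg i)⁻¹ by
      rw [mul_inv_rev, inv_of_sq _ invol, inv_of_sq _ invol], inv_pow, inv_eq_one, ← this]
    simp only [pow_succ, pow_zero]; group

theorem zt_sq : val P23.gg ZT * val P23.gg ZT = 1 := by
  obtain ⟨ψ, he, hz, -, -⟩ := cover
  haveI := card_span.2
  have hmap : ZW.map (ren SIG) = ZT := by decide +kernel
  have hv : ((val (spanGen (Pres.gg P23) SIG (by simp)) ZW : span P23.gg SIG) : P23.Grp) =
      val P23.gg ZT := by rw [spanGen_val, hmap]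
  have h2 : (⟨_, hz⟩ : ψ.ker) ^ Nat.card ψ.ker = 1 := pow_card_eq_one'
  rw [ker_cases ψ he, pow_two] at h2
  have := congrArg (fun t : ψ.ker => ((t : span P23.gg SIG) : P23.Grp)) h2
  simp only [Subgroup.coe_mul, Subgroup.coe_one, hv] at this
  exact this

theorem kw_conj : ∀ x, x < 10 →
    val P23.gg (kw x) * val P23.gg ZT * (val P23.gg (kw x))⁻¹ = P23.gg x := by
  have h7 : val P23.gg K7 * val P23.gg ZT * (val P23.gg K7)⁻¹ = P23.gg 7 := by
    rw [K7, CosetCertPres.val_append, val_cons, val_nil, mul_one]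
    exact conj_step zt_sq (invol 7) zj_cube
  have step : ∀ (i j : Nat) (K : List Nat),
      ([i, j, i, j, i, j] ∈ P23.relWords ∨ [j, i, j, i, j, i] ∈ P23.relWords) →
      val P23.gg K * val P23.gg ZT * (val P23.gg K)⁻¹ = P23.gg i →
      val P23.gg ([i, j] ++ K) * val P23.gg ZT * (val P23.gg ([i, j] ++ K))⁻¹ = P23.gg j := by
    intro i j K hm hK
    rw [CosetCertPres.val_append, val_cons, val_cons, val_nil, mul_one]
    refine Eq.trans ?_ (conj_step (invol i) (invol j) (edge_cube hm))
    rw [← hK]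
    group
  have h6 := step 7 6 K7 (by decide +kernel) h7
  have h5 := step 6 5 K6 (by decide +kernel) h6
  have h4 := step 5 4 K5 (by decide +kernel) h5
  have h3 := step 4 3 K4 (by decide +kernel) h4
  have h2 := step 3 2 K3 (by decide +kernel) h3
  have h1 := step 2 1 K2 (by decide +kernel) h2
  have h0 := step 1 0 K1 (by decide +kernel) h1
  have h8 := step 3 8 K3 (by decide +kernel) h3
  have h9 := step 8 9 K8 (by decide +kernel) h8
  intro x hx
  interval_cases x
  exacts [h0, h1, h2, h3, h4, h5, h6, h7, h8, h9]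

/-- The identity test. -/
noncomputable def chk (w : List Nat) : Bool :=
  (List.range 10).all fun x =>
    Nat.beq (DT.run w (DT.run (kw x).reverse 0)) (DT.run (kw x).reverse 0)

theorem center_bot : Subgroup.center P23.Grp = ⊥ := by
  haveI := simple
  refine (Subgroup.Normal.eq_bot_or_eq_top inferInstance).resolve_right fun h => ?_
  have hcomm : ∀ a b : P23.Grp, a * b = b * a := fun a b =>
    (Subgroup.mem_center_iff.mp (h ▸ Subgroup.mem_top b) a)
  haveI : Finite P23.Grp := Nat.finite_of_card_ne_zero (by rw [card_p]; decide)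
  letI : CommGroup P23.Grp := { (inferInstance : Group P23.Grp) with mul_comm := hcomm }
  have hp := IsSimpleGroup.prime_card (α := P23.Grp)
  rw [card_p] at hp
  exact absurd (hp.eq_one_or_self_of_dvd 2 (by norm_num)) (by norm_num)

theorem kw_lt : ∀ x, x < 10 → ∀ y ∈ kw x, y < 10 := by
  intro x hx
  interval_cases x <;> decide +kernel

theorem val_eq_one {w : List Nat} (hw : ∀ x ∈ w, x < 10) (h : chk w = true) :
    val P23.gg w = 1 := by
  simp only [chk, List.all_eq_true, List.mem_range, Nat.beq_eq] at h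
  obtain ⟨φ, hφ0, hφ⟩ := exists_coset_equiv CosetCertFi23F.enumerated
  have hfix : ∀ x, x < 10 → val P23.gg w * P23.gg x = P23.gg x * val P23.gg w := by
    intro x hx
    set k := val P23.gg (kw x) with hk
    set v := val P23.gg w with hv
    have hkx : ∀ y ∈ (kw x).reverse, y < 10 := fun y hy => kw_lt x hx y (List.mem_reverse.mp hy)
    have hp : ((rho CosetCertFi23F.enumerated k ⟨0, CosetCertFi23F.enumerated.table.npos⟩ :
        Fin DT.N) : Nat) = DT.run (kw x).reverse 0 := by
      have e : (val P23.gg (kw x).reverse)⁻¹ = k := by rw [val_reverse _ invol, inv_inv]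
      rw [← e]
      exact rho_inv_apply _ hkx _
    set p := rho CosetCertFi23F.enumerated k ⟨0, CosetCertFi23F.enumerated.table.npos⟩ with hpdef
    have hvp : rho CosetCertFi23F.enumerated v⁻¹ p = p := by
      apply Fin.ext
      rw [hv, rho_inv_apply w hw p, hp]
      exact h x hx
    have h1 : rho CosetCertFi23F.enumerated (k⁻¹ * v⁻¹ * k)
        ⟨0, CosetCertFi23F.enumerated.table.npos⟩ = ⟨0, CosetCertFi23F.enumerated.table.npos⟩ := by
      rw [map_mul, map_mul, Equiv.Perm.mul_apply, Equiv.Perm.mul_apply, ← hpdef, hvp, hpdef,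
        ← Equiv.Perm.mul_apply, ← map_mul, inv_mul_cancel, map_one, Equiv.Perm.one_apply]
    have h2 := hφ (k⁻¹ * v⁻¹ * k) ⟨0, CosetCertFi23F.enumerated.table.npos⟩
    rw [h1, hφ0] at h2
    have h3 : ((k⁻¹ * v⁻¹ * k * 1 : P23.Grp) : P23.Grp ⧸ P23.sub CosetCertFi23FData.subgens) =
        ((1 : P23.Grp) : P23.Grp ⧸ P23.sub CosetCertFi23FData.subgens) := h2.symm
    rw [mul_one, QuotientGroup.eq, mul_one, inv_mem_iff, sub_eq_span] at h3
    have h4 := zt_comm h3
    rw [← kw_conj x hx, ← hk]
    generalize val P23.gg ZT = z at h4 ⊢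
    have h5 : Commute z (k⁻¹ * v * k) := by
      have := (show Commute z (k⁻¹ * v⁻¹ * k) from h4).inv_right
      rwa [show (k⁻¹ * v⁻¹ * k)⁻¹ = k⁻¹ * v * k by group] at this
    calc v * (k * z * k⁻¹) = k * (k⁻¹ * v * k * z) * k⁻¹ := by group
      _ = k * (z * (k⁻¹ * v * k)) * k⁻¹ := by rw [h5.eq]
      _ = k * z * k⁻¹ * v := by group
  have hc : val P23.gg w ∈ Subgroup.center P23.Grp := by
    rw [Subgroup.mem_center_iff]
    intro g
    have hg : g ∈ Subgroup.closure {y | ∃ x, x < P23.gens.length ∧ y = P23.gg x} :=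
      (closure_gg good).symm ▸ Subgroup.mem_top g
    induction hg using Subgroup.closure_induction with
    | mem y hy => obtain ⟨x, hx, rfl⟩ := hy; exact (hfix x hx).symm
    | one => simp
    | mul a b _ _ ha hb => rw [mul_assoc, hb, ← mul_assoc, ha, mul_assoc]
    | inv a _ ha => exact (Commute.inv_left (show Commute a (val P23.gg w) from ha)).eq
  rw [center_bot, Subgroup.mem_bot] at hc
  exact hc

/-- Two words with the same images of the ten points are equal. -/
theorem val_eq {u v : List Nat} (hu : ∀ x ∈ u ++ v.reverse, x < 10)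
    (h : chk (u ++ v.reverse) = true) : val P23.gg u = val P23.gg v := by
  have := val_eq_one hu h
  rwa [CosetCertPres.val_append, val_reverse _ invol, mul_inv_eq_one] at this

end Cfsg.Agent.Fi23PointCheck78
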