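import Cfsg.Agent.Lib.Fi23SolvMaxDefs58

/-! Part of the checks for a solvable maximal subgroup of Fi23. -/

set_option autoImplicit false
set_option maxRecDepth 100000
set_option Elab.async false

namespace Cfsg.Agent.Fi23SolvMaxForest0x58

open Cfsg.Agent.CosetCertCore Cfsg.Agent.CosetCertTable Cfsg.Agent.ThreeTransAut41
open Cfsg.Agent.Fi23SolvMaxData58 Cfsg.Agent.Fi23SolvMaxDefs58

theorem forest0 : allFrom forestOk 2048 0 = true := by decide +kernel

theorem forest1 : allFrom forestOk 2048 2048 = true := by decide +kernel

theorem forest2 : allFrom forestOk 2048 4096 = true := by decide +kernel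

theorem forest3 : allFrom forestOk 2048 6144 = true := by decide +kernel

theorem forest4 : allFrom forestOk 2048 8192 = true := by decide +kernel

theorem forest5 : allFrom forestOk 2048 10240 = true := by decide +kernel

theorem forest6 : allFrom forestOk 2048 12288 = true := by decide +kernel

theorem forest7 : allFrom forestOk 2048 14336 = true := by decide +kernel

end Cfsg.Agent.Fi23SolvMaxForest0x58
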