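import Cfsg.Agent.Lib.Fi23SolvMaxDefs58

/-! Part of the checks for a solvable maximal subgroup of Fi23. -/

set_option autoImplicit false
set_option maxRecDepth 100000
set_option Elab.async false

namespace Cfsg.Agent.Fi23SolvMaxForest1x58

open Cfsg.Agent.CosetCertCore Cfsg.Agent.CosetCertTable Cfsg.Agent.ThreeTransAut41
open Cfsg.Agent.Fi23SolvMaxData58 Cfsg.Agent.Fi23SolvMaxDefs58

theorem forest0 : allFrom forestOk 2048 16384 = true := by decide +kernel

theorem forest1 : allFrom forestOk 2048 18432 = true := by decide +kernel

theorem forest2 : allFrom forestOk 2048 20480 = true := by decide +kernel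

theorem forest3 : allFrom forestOk 2048 22528 = true := by decide +kernel

theorem forest4 : allFrom forestOk 2048 24576 = true := by decide +kernel

theorem forest5 : allFrom forestOk 2048 26624 = true := by decide +kernel

theorem forest6 : allFrom forestOk 2048 28672 = true := by decide +kernel

theorem forest7 : allFrom forestOk 951 30720 = true := by decide +kernel

end Cfsg.Agent.Fi23SolvMaxForest1x58
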