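import Cfsg.Agent.Lib.Fi23SolvMaxDefs58

/-! Part of the checks for a solvable maximal subgroup of Fi23. -/

set_option autoImplicit false
set_option maxRecDepth 100000
set_option Elab.async false

namespace Cfsg.Agent.Fi23SolvMaxSmall58

open Cfsg.Agent.CosetCertCore Cfsg.Agent.CosetCertTable Cfsg.Agent.ThreeTransAut41
open Cfsg.Agent.Fi23SolvMaxData58 Cfsg.Agent.Fi23SolvMaxDefs58

theorem letters_ok : ∀ w ∈ SYW ++ BW ++ (ROOTS.map fun r => dw r.2.1 r.2.2), ∀ x ∈ w, x < 10 := by decide +kernel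

theorem tpa_ok : TPA.length = 12 ∧ TPT.length = 12 ∧ ∀ j < 12, (TPA.getD j (0, [])).1 < 10 ∧
    (∀ x ∈ (TPA.getD j (0, [])).2, x < 10) ∧ mk (TPT.getD j 0) = true ∧ TPT.getD j 0 < 31671 ∧
    T23.run (TPA.getD j (0, [])).2 (ee (TPA.getD j (0, [])).1) = TPT.getD j 0 := by decide +kernel

theorem bpa_ok : BPA.length = 10 ∧ BPT.length = 10 ∧ ∀ j < 10, (BPA.getD j (0, [])).1 < 10 ∧
    (∀ x ∈ (BPA.getD j (0, [])).2, x < 10) ∧ BPT.getD j 0 < 31671 ∧
    T23.run (BPA.getD j (0, [])).2 (ee (BPA.getD j (0, [])).1) = BPT.getD j 0 := by decide +kernel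

theorem base_mem : ∀ j < 8, mk (BPT.getD j 0) = true ∧ SL.elem (BPT.getD j 0) = true := by decide +kernel

theorem closed_ok : ∀ k < 12, (SL.all fun s => mk (T23.run (TW.getD k []) s)) = true := by decide +kernel

theorem hw_ok : (HW.all fun w => TPT.all fun t => mk (T23.run w t)) = true := by decide +kernel

theorem sl_ok : (SL.all fun s => Nat.blt s 31671 && mk s &&
    (BPT.getD 0 0 :: ORB.map Prod.fst).elem s) = true := by decide +kernel

theorem orb_ok : ∀ i < ORB.length, (ORB.getD i (0, 0, 0)).2.1 < 12 ∧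
    ((BPT.getD 0 0 :: (ORB.take i).map Prod.fst).elem (ORB.getD i (0, 0, 0)).2.2) = true ∧
    T23.run (TW.getD (ORB.getD i (0, 0, 0)).2.1 []) (ORB.getD i (0, 0, 0)).2.2 =
      (ORB.getD i (0, 0, 0)).1 := by decide +kernel

theorem roots_ok : ∀ r < ROOTS.length, (ROOTS.getD r (0, 0, [])).2.1 < 10 ∧
    (∀ x ∈ (ROOTS.getD r (0, 0, [])).2.2, x < 10) ∧ (ROOTS.getD r (0, 0, [])).1 < 31671 ∧
    T23.run (ROOTS.getD r (0, 0, [])).2.2 (ee (ROOTS.getD r (0, 0, [])).2.1) =
      (ROOTS.getD r (0, 0, [])).1 := by decide +kernel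

theorem rders_ok : ∀ r < ROOTS.length, ∀ x < 10,
    ((RDERS.getD r []).getD x (0, [])).1 < 13 ∧
    (∀ k ∈ ((RDERS.getD r []).getD x (0, [])).2, k < (rootSyms r).length) ∧
    T23.run (ex (rootSyms r) ((RDERS.getD r []).getD x (0, [])).2)
      ((rootStarts r).getD ((RDERS.getD r []).getD x (0, [])).1 0) = ee x := by decide +kernel

theorem move_ok : MV < 10 ∧ MVP < 31671 ∧ mk MVP = true ∧ mk (T23.img MV MVP) = false := by decide +kernel

theorem tests_ok : ∀ k < 10, ∀ t ∈ TESTS.getD k [], (∀ j ∈ t.1, j < k) ∧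
    (Nat.beq (T23.run (ex BW t.1) (BPT.getD k 0)) (BPT.getD k 0) == t.2) = true := by decide +kernel

theorem nodup_ok : ∀ j < 10, ∀ k < 10, BPT.getD j 0 = BPT.getD k 0 → j = k := by decide +kernel

theorem cand_sizes : (candList 0).length = 324 ∧ (candList 1).length = 27 ∧ (candList 2).length = 18 ∧
    (candList 3).length = 9 ∧ (candList 4).length = 8 ∧ (candList 5).length = 8 ∧
    (candList 6).length = 4 ∧ (candList 7).length = 3 := by decide +kernel

theorem cand_nodup : ∀ k < 8, (candList k).Nodup := by decide +kernel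

theorem gen_ok : ∀ x < 10, (GEN.getD x (0, [])).1 < 10 ∧ (∀ k ∈ (GEN.getD x (0, [])).2, k < 10) ∧
    T23.run (ex BW (GEN.getD x (0, [])).2) (BPT.getD (GEN.getD x (0, [])).1 0) = ee x := by decide +kernel

theorem wit_gens : ∀ k < 5, ∀ i < (WIT.getD k ([], [])).1.length,
    (∀ y ∈ (WIT.getD k ([], [])).1.getD i [], y < SYW.length) ∧
    ∀ j < k + 1, T23.run (witWord k i) (BPT.getD j 0) = BPT.getD j 0 := by decide +kernel

theorem wit_edges : ∀ k < 5, ∀ n < (WIT.getD k ([], [])).2.length,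
    ((WIT.getD k ([], [])).2.getD n (0, 0, 0)).2.1 < (WIT.getD k ([], [])).1.length ∧
    ((BPT.getD (k + 1) 0 :: ((WIT.getD k ([], [])).2.take n).map Prod.fst).elem
      ((WIT.getD k ([], [])).2.getD n (0, 0, 0)).2.2) = true ∧
    T23.run (witWord k ((WIT.getD k ([], [])).2.getD n (0, 0, 0)).2.1)
      ((WIT.getD k ([], [])).2.getD n (0, 0, 0)).2.2 = ((WIT.getD k ([], [])).2.getD n (0, 0, 0)).1 := by
  decide +kernel

theorem wit_cover : ∀ k < 5, ((candList (k + 1)).all fun p =>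
    (BPT.getD (k + 1) 0 :: (WIT.getD k ([], [])).2.map Prod.fst).elem p) = true := by decide +kernel

theorem lev_syms : ∀ k < 10, ∀ i < (LEVELS.getD k []).length,
    ∀ y ∈ ((LEVELS.getD k []).getD i ([], 0, 0)).1, y < SYW.length := by decide +kernel

theorem lev_idx : ∀ k < 9, ∀ i < (LEVELS.getD (k + 1) []).length,
    ((LEVELS.getD (k + 1) []).getD i ([], 0, 0)).2.1 < (LEVELS.getD k []).length ∧
    ((LEVELS.getD (k + 1) []).getD i ([], 0, 0)).2.2 < (LEVELS.getD k []).length := by decide +kernel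

theorem lev_ok : ∀ k < 9, ∀ i < (LEVELS.getD (k + 1) []).length, levOk k i = true := by decide +kernel

theorem lev_last : 0 < (LEVELS.getD 9 []).length ∧
    ∃ x < 10, T23.run (levWord 9 0) (ee x) ≠ ee x := by decide +kernel

end Cfsg.Agent.Fi23SolvMaxSmall58
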