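import Cfsg.Agent.Lib.Fi23SolvMaxScan58
import Cfsg.Agent.Lib.Fi23SolvMaxForest0x58
import Cfsg.Agent.Lib.Fi23SolvMaxForest1x58
import Cfsg.Agent.Lib.Fi23SolvMaxSmall58
import Cfsg.Agent.S0144

/-!
A solvable maximal subgroup of Fi23 of derived length ten: the stabiliser of 324 transpositions.
-/

set_option autoImplicit false
set_option maxRecDepth 100000

namespace Cfsg.Agent.Fi23SolvMax58

open Cfsg.Agent.CosetCertCore Cfsg.Agent.CosetCertTable Cfsg.Agent.CosetCertPres
open Cfsg.Agent.ThreeTransAut41 Cfsg.Agent.ThreeTransRecognise41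
open Cfsg.Agent.CosetCertFi23Simple (P23)
open Cfsg.Agent.Fi23SolvMaxData58 Cfsg.Agent.Fi23SolvMaxDefs58 Cfsg.Agent.Fi23SolvMaxSmall58
open Cfsg.Agent.ThreeTransFi23Out41 (E E_val)

open scoped commutatorElement

local notation "hh" => CosetCertFi23F.enumerated
local notation "G23" => Pres.Grp P23

theorem n_eq : T23.N = 31671 := by decide +kernel

theorem ng_eq : T23.NG = 10 := by decide +kernel

theorem invol (x : Nat) : P23.gg x * P23.gg x = 1 := CosetCertFi23Simple.invol x

/-- The point with a given number. -/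
noncomputable def pt (n : Nat) : Fin T23.N :=
  if hn : n < T23.N then ⟨n, hn⟩ else ⟨0, CosetCertFi23F.enumerated.table.npos⟩

theorem pt_val {n : Nat} (hn : n < 31671) : (pt n : Nat) = n := by
  rw [pt, dif_pos (n_eq ▸ hn)]

theorem pt_coe (i : Fin T23.N) : pt i = i := Fin.ext (pt_val (n_eq ▸ i.2))

theorem getD_mem {α : Type} {l : List α} {i : Nat} (hi : i < l.length) (d : α) : l.getD i d ∈ l := by
  rw [List.getD_eq_getElem _ _ hi]
  exact List.getElem_mem hi

theorem getD_map {α β : Type} {l : List α} (f : α → β) {i : Nat} (hi : i < l.length) (a : α) (b : β) :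
    (l.map f).getD i b = f (l.getD i a) := by
  rw [List.getD_eq_getElem _ _ (by simpa using hi), List.getD_eq_getElem _ _ hi, List.getElem_map]

/-! ### The chosen set -/

theorem listed_all : AllBelow listed 31671 :=
  ((((((((AllBelow.zero _).step 4096 Fi23SolvMaxScan58.listed0).step 4096 Fi23SolvMaxScan58.listed1).step 4096
    Fi23SolvMaxScan58.listed2).step 4096 Fi23SolvMaxScan58.listed3).step 4096 Fi23SolvMaxScan58.listed4).step 4096
    Fi23SolvMaxScan58.listed5).step 4096 Fi23SolvMaxScan58.listed6).step 2999 Fi23SolvMaxScan58.listed7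

open Fi23SolvMaxForest0x58 in
theorem forest_low : AllBelow forestOk 16384 :=
  ((((((((AllBelow.zero _).step 2048 forest0).step 2048 forest1).step 2048 forest2).step 2048 forest3).step 2048
    forest4).step 2048 forest5).step 2048 forest6).step 2048 forest7

open Fi23SolvMaxForest1x58 in
theorem forest_all : AllBelow forestOk 31671 :=
  ((((((((forest_low.step 2048 forest0).step 2048 forest1).step 2048 forest2).step 2048 forest3).step 2048
    forest4).step 2048 forest5).step 2048 forest6).step 951 forest7)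

theorem mem_sl {i : Nat} (hi : i < 31671) (hm : mk i = true) : i ∈ SL := by
  have h := listed_all i hi
  rw [listed, hm] at h
  simpa using h

theorem mem_orbit {i : Nat} (hi : i < 31671) (hm : mk i = true) :
    i = BPT.getD 0 0 ∨ i ∈ ORB.map Prod.fst := by
  have h := List.all_eq_true.mp sl_ok i (mem_sl hi hm)
  simp only [Bool.and_eq_true, List.elem_eq_mem, decide_eq_true_eq, List.mem_cons] at h
  exact h.2

/-- Elements mapping the chosen set into itself. -/
def Maps (g : G23) : Prop := ∀ i : Fin T23.N, mk i = true → mk ((rho hh g i : Fin T23.N) : Nat) = true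

theorem maps_one : Maps 1 := fun i hi => by rwa [map_one, Equiv.Perm.one_apply]

theorem maps_mul {a b : G23} (ha : Maps a) (hb : Maps b) : Maps (a * b) := fun i hi => by
  rw [map_mul, Equiv.Perm.mul_apply]
  exact ha _ (hb i hi)

theorem maps_inv {a : G23} (ha : Maps a) : Maps a⁻¹ := by
  haveI : Finite G23 := CosetCertFi23Simple.upper.1
  have hpow : ∀ n : ℕ, Maps (a ^ n) := by
    intro n
    induction n with
    | zero => rw [pow_zero]; exact maps_one
    | succ n ih => rw [pow_succ]; exact maps_mul ih ha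
  have h : a⁻¹ = a ^ (orderOf a - 1) := by
    refine inv_eq_of_mul_eq_one_right ?_
    rw [← pow_succ', Nat.sub_add_cancel (orderOf_pos a), pow_orderOf_eq_one]
  rw [h]
  exact hpow _

/-- The stabiliser of the chosen set. -/
def Hsub : Subgroup G23 where
  carrier := {g | Maps g}
  one_mem' := maps_one
  mul_mem' := maps_mul
  inv_mem' := maps_inv

theorem not_mk_apply {g : G23} (hg : g ∈ Hsub) {i : Fin T23.N} (hi : mk i = false) :
    mk ((rho hh g i : Fin T23.N) : Nat) = false := by
  by_contra h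
  rw [Bool.not_eq_false] at h
  have h2 := maps_inv (show Maps g from hg) _ h
  rw [← Equiv.Perm.mul_apply, ← map_mul, inv_mul_cancel, map_one, Equiv.Perm.one_apply, hi] at h2
  exact Bool.false_ne_true h2

/-! ### Words -/

theorem syw_letters {k : Nat} (hk : k < SYW.length) : ∀ x ∈ SYW.getD k [], x < T23.NG := fun x hx =>
  ng_eq.symm ▸ letters_ok _ (List.mem_append_left _ (List.mem_append_left _ (getD_mem hk _))) x hx

theorem bw_length : BW.length = 10 := by rw [BW, List.length_map, bpa_ok.1]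

theorem syw_length : 12 ≤ SYW.length := by
  rw [SYW, List.length_append, TW, List.length_map, tpa_ok.1]
  omega

theorem tw_eq {k : Nat} (hk : k < 12) :
    TW.getD k [] = dw (TPA.getD k (0, [])).1 (TPA.getD k (0, [])).2 := by
  rw [TW, getD_map _ (tpa_ok.1.symm ▸ hk) (0, [])]

theorem bw_eq {k : Nat} (hk : k < 10) :
    BW.getD k [] = dw (BPA.getD k (0, [])).1 (BPA.getD k (0, [])).2 := by
  rw [BW, getD_map _ (bpa_ok.1.symm ▸ hk) (0, [])]

theorem dw_letters {x : Nat} {p : List Nat} (hx : x < 10) (hp : ∀ y ∈ p, y < 10) :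
    ∀ y ∈ dw x p, y < T23.NG := by
  intro y hy
  rw [ng_eq]
  simp only [dw, List.mem_append, List.mem_reverse, List.mem_singleton] at hy
  rcases hy with (hy | rfl) | hy
  exacts [hp y hy, hx, hp y hy]

theorem tw_letters {k : Nat} (hk : k < 12) : ∀ x ∈ TW.getD k [], x < T23.NG := by
  obtain ⟨-, -, h⟩ := tpa_ok
  rw [tw_eq hk]
  exact dw_letters (h k hk).1 (h k hk).2.1

theorem bw_letters {k : Nat} (hk : k < 10) : ∀ x ∈ BW.getD k [], x < T23.NG := by
  obtain ⟨-, -, h⟩ := bpa_ok
  rw [bw_eq hk]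
  exact dw_letters (h k hk).1 (h k hk).2.1

theorem ex_letters (L : List (List Nat)) (M : List Nat)
    (h : ∀ k ∈ M, ∀ x ∈ L.getD k [], x < T23.NG) : ∀ x ∈ ex L M, x < T23.NG := by
  intro x hx
  simp only [ex, List.mem_flatMap] at hx
  obtain ⟨k, hk, hx⟩ := hx
  exact h k hk x hx

theorem val_ex_mem (L : List (List Nat)) (M : List Nat) (K : Subgroup G23)
    (h : ∀ k ∈ M, val P23.gg (L.getD k []) ∈ K) : val P23.gg (ex L M) ∈ K := by
  induction M with
  | nil => simpa [ex, val] using K.one_mem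
  | cons k M ih =>
    show val P23.gg (L.getD k [] ++ ex L M) ∈ K
    rw [val_append]
    exact K.mul_mem (h k List.mem_cons_self) (ih fun j hj => h j (List.mem_cons_of_mem _ hj))

section

variable {d : Fin T23.N → G23} (hd : Data hh d E)
include hd

theorem d_path {x : Nat} {p : List Nat} {n : Nat} (hx : x < 10) (hp : ∀ y ∈ p, y < 10) (hn : n < 31671)
    (hr : T23.run p (ee x) = n) : val P23.gg (dw x p) = d (pt n) := by
  refine d_word hh hd (ng_eq.symm ▸ hx) (fun y hy => ng_eq.symm ▸ hp y hy) ?_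
  rw [E_val x (ng_eq.symm ▸ hx), pt_val hn]
  exact hr

theorem tw_val {k : Nat} (hk : k < 12) : val P23.gg (TW.getD k []) = d (pt (TPT.getD k 0)) := by
  obtain ⟨-, -, h⟩ := tpa_ok
  obtain ⟨h1, h2, -, h4, h5⟩ := h k hk
  rw [tw_eq hk]
  exact d_path hd h1 h2 h4 h5

theorem bw_val {k : Nat} (hk : k < 10) : val P23.gg (BW.getD k []) = d (pt (BPT.getD k 0)) := by
  obtain ⟨-, -, h⟩ := bpa_ok
  obtain ⟨h1, h2, h3, h4⟩ := h k hk
  rw [bw_eq hk]
  exact d_path hd h1 h2 h3 h4

omit hd in
theorem tw_mem {k : Nat} (hk : k < 12) : val P23.gg (TW.getD k []) ∈ Hsub := by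
  rw [← inv_mem_iff]
  intro i hi
  rw [map_inv, inv_run hh (tw_letters hk)]
  exact List.all_eq_true.mp (closed_ok k hk) _ (mem_sl (n_eq ▸ i.2) hi)

theorem d_run (w : List Nat) (hw : ∀ x ∈ w, x < T23.NG) {i j : Fin T23.N} (h : T23.run w i = (j : Nat)) :
    d j = (val P23.gg w)⁻¹ * d i * val P23.gg w := by
  have h1 := apply_of_run hh hw h
  rw [← h1, hd.conj]
  group

/-- Induction along the orbit of the first base point. -/
theorem orbit_induction (Q : Nat → Prop) (h0 : Q (BPT.getD 0 0))
    (hs : ∀ k < 12, ∀ p, p < 31671 → mk p = true → Q p → Q (T23.run (TW.getD k []) p)) :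
    ∀ i < 31671, mk i = true → Q i := by
  intro i hi hm
  suffices hn : ∀ n, ∀ a ∈ (BPT.getD 0 0 :: (ORB.take n).map Prod.fst), a < 31671 ∧ mk a = true ∧ Q a by
    rcases mem_orbit hi hm with rfl | h
    · exact h0
    · exact (hn ORB.length i (List.mem_cons_of_mem _ (by rwa [List.take_length]))).2.2
  intro n
  induction n with
  | zero =>
    intro a ha
    simp only [List.take_zero, List.map_nil, List.mem_cons, List.not_mem_nil, or_false] at ha
    subst ha
    exact ⟨(bpa_ok.2.2 0 (by norm_num)).2.2.1, (base_mem 0 (by norm_num)).1, h0⟩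
  | succ n ih =>
    intro a ha
    by_cases hn : n < ORB.length
    · rw [List.take_succ_eq_append_getElem hn, List.map_append, List.map_singleton, ← List.cons_append,
        List.mem_append, List.mem_singleton] at ha
      rcases ha with ha | rfl
      · exact ih a ha
      · obtain ⟨hk, hp, hrun⟩ := orb_ok n hn
        rw [List.getD_eq_getElem _ _ hn] at hk hp hrun
        simp only [List.elem_eq_mem, decide_eq_true_eq] at hp
        obtain ⟨p1, p2, p3⟩ := ih _ hp
        rw [← hrun]
        refine ⟨n_eq ▸ run_lt hh (tw_letters hk) (n_eq.symm ▸ p1), ?_, hs _ hk _ p1 p2 p3⟩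
        exact List.all_eq_true.mp (closed_ok _ hk) _ (mem_sl p1 p2)
    · rw [List.take_of_length_le (by omega)] at ha
      exact ih a (by rwa [List.take_of_length_le (by omega)])

theorem d_mem (i : Fin T23.N) (hi : mk i = true) : d i ∈ Hsub := by
  have := orbit_induction hd (fun n => d (pt n) ∈ Hsub)
    (by
      obtain ⟨k, hk, hkt⟩ := (by decide +kernel : ∃ k < 12, TPT.getD k 0 = BPT.getD 0 0)
      show d (pt (BPT.getD 0 0)) ∈ Hsub
      rw [← hkt, ← tw_val hd hk]
      exact tw_mem hk)
    (fun k hk p hp _ hQ => by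
      have hl : T23.run (TW.getD k []) p < 31671 := n_eq ▸ run_lt hh (tw_letters hk) (n_eq.symm ▸ hp)
      show d (pt (T23.run (TW.getD k []) p)) ∈ Hsub
      rw [d_run hd _ (tw_letters hk) (i := pt p) (j := pt _) (by rw [pt_val hp, pt_val hl])]
      exact Hsub.mul_mem (Hsub.mul_mem (Hsub.inv_mem (tw_mem hk)) hQ) (tw_mem hk))
    i (n_eq ▸ i.2) hi
  rwa [pt_coe] at this

theorem mem_of_seeds (g : G23)
    (hg : ∀ k < 12, mk ((rho hh g (pt (TPT.getD k 0)) : Fin T23.N) : Nat) = true) : g ∈ Hsub := by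
  intro i hi
  have := orbit_induction hd (fun n => mk ((rho hh g (pt n) : Fin T23.N) : Nat) = true)
    (by
      obtain ⟨k, hk, hkt⟩ := (by decide +kernel : ∃ k < 12, TPT.getD k 0 = BPT.getD 0 0)
      have h := hg k hk
      rwa [hkt] at h)
    (fun k hk p hp _ hQ => by
      have hl : T23.run (TW.getD k []) p < 31671 := n_eq ▸ run_lt hh (tw_letters hk) (n_eq.symm ▸ hp)
      have h1 := apply_of_run hh (tw_letters hk) (i := pt p) (j := pt (T23.run (TW.getD k []) p))
        (by rw [pt_val hp, pt_val hl])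
      rw [tw_val hd hk] at h1
      have h2 : rho hh g (pt (T23.run (TW.getD k []) p)) =
          rho hh (d (rho hh g (pt (TPT.getD k 0))))⁻¹ (rho hh g (pt p)) := by
        rw [hd.conj, ← Equiv.Perm.mul_apply, ← map_mul, ← h1, ← Equiv.Perm.mul_apply, ← map_mul]
        congr 2
        group
      rw [h2]
      exact maps_inv (d_mem hd _ (hg k hk)) _ hQ)
    i (n_eq ▸ i.2) hi
  rwa [pt_coe] at this

theorem syw_mem {k : Nat} (hk : k < SYW.length) : val P23.gg (SYW.getD k []) ∈ Hsub := by
  have hlT : TW.length = 12 := by rw [TW, List.length_map, tpa_ok.1]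
  by_cases h : k < 12
  · rw [SYW, List.getD_append _ _ _ _ (by omega)]
    exact tw_mem h
  · rw [← inv_mem_iff]
    refine mem_of_seeds hd _ fun j hj => ?_
    have hsl := syw_letters hk
    have hk' : k - 12 < HW.length := by
      rw [SYW, List.length_append] at hk
      omega
    rw [map_inv, inv_run hh hsl, pt_val (tpa_ok.2.2 j hj).2.2.2.1, SYW, List.getD_append_right _ _ _ _ (by omega),
      hlT]
    exact List.all_eq_true.mp (List.all_eq_true.mp hw_ok _ (getD_mem hk' _)) _
      (getD_mem (tpa_ok.2.1.symm ▸ hj) _)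

theorem ex_syw_mem (M : List Nat) (h : ∀ k ∈ M, k < SYW.length) : val P23.gg (ex SYW M) ∈ Hsub :=
  val_ex_mem _ _ _ fun k hk => syw_mem hd (h k hk)

/-! ### Maximality -/

theorem root_of_outside : ∀ (K : Subgroup G23), Hsub ≤ K → ∀ (n : Nat) (i : Fin T23.N), rank i ≤ n →
    mk i = false → d i ∈ K → ∃ r < ROOTS.length, d (pt (ROOTS.getD r (0, 0, [])).1) ∈ K := by
  intro K hK n
  induction n using Nat.strong_induction_on with
  | _ n ih =>
    intro i hn hi hdi
    have h := forest_all i (n_eq ▸ i.2)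
    rw [forestOk, hi, cond_false] at h
    cases hr : Nat.beq (rank i) 0 with
    | true =>
      rw [hr, cond_true] at h
      simp only [List.elem_eq_mem, decide_eq_true_eq] at h
      obtain ⟨r, hr', hre⟩ := List.getElem_of_mem h
      rw [List.length_map] at hr'
      refine ⟨r, hr', ?_⟩
      rw [List.getD_eq_getElem _ _ hr']
      rw [List.getElem_map] at hre
      rwa [hre, pt_coe]
    | false =>
      rw [hr, cond_false, force_eq] at h
      simp only [Bool.and_eq_true, Nat.blt_eq, Bool.not_eq_true'] at h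
      obtain ⟨⟨hk, hj⟩, hlt⟩ := h
      have hl : T23.run (TW.getD (sym i) []) i < 31671 := n_eq ▸ run_lt hh (tw_letters hk) i.2
      refine ih _ (lt_of_lt_of_le hlt hn) (pt (T23.run (TW.getD (sym i) []) i)) (by rw [pt_val hl])
        (by rwa [pt_val hl]) ?_
      rw [d_run hd _ (tw_letters hk) (i := i) (pt_val hl).symm]
      exact K.mul_mem (K.mul_mem (K.inv_mem (hK (tw_mem hk))) hdi) (hK (tw_mem hk))

theorem top_of_root (K : Subgroup G23) (hK : Hsub ≤ K) {r : Nat} (hr : r < ROOTS.length)
    (hroot : d (pt (ROOTS.getD r (0, 0, [])).1) ∈ K) : K = ⊤ := by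
  obtain ⟨r1, r2, r3, r4⟩ := roots_ok r hr
  have hrw := d_path hd r1 r2 r3 r4
  have hrl := dw_letters r1 r2
  rw [eq_top_iff, ← closure_gg CosetCertFi23Simple.good, Subgroup.closure_le]
  rintro _ ⟨x, hx, rfl⟩
  have hx10 : x < 10 := ng_eq ▸ (CosetCertFi23F.enumerated.ng ▸ hx : x < T23.NG)
  obtain ⟨hj, hk, hrun⟩ := rders_ok r hr x hx10
  revert hj hk hrun
  generalize (RDERS.getD r []).getD x (0, []) = q
  intro hj hk hrun
  have hlen : (rootSyms r).length = SYW.length + 1 := by simp [rootSyms]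
  have hsym : ∀ k ∈ q.2, val P23.gg ((rootSyms r).getD k []) ∈ K ∧ ∀ y ∈ (rootSyms r).getD k [], y < T23.NG := by
    intro k hk'
    by_cases h : k < SYW.length
    · rw [rootSyms, List.getD_append _ _ _ _ h]
      exact ⟨hK (syw_mem hd h), syw_letters h⟩
    · have hk2 := hk k hk'
      obtain rfl : k = SYW.length := by omega
      rw [rootSyms, List.getD_append_right _ _ _ _ le_rfl, Nat.sub_self, List.getD_cons_zero]
      exact ⟨hrw ▸ hroot, hrl⟩
  have hstart : d (pt ((rootStarts r).getD q.1 0)) ∈ K ∧ (rootStarts r).getD q.1 0 < 31671 := by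
    have hlt : TPT.length = 12 := tpa_ok.2.1
    by_cases h : q.1 < 12
    · rw [rootStarts, List.getD_append _ _ _ _ (hlt.symm ▸ h)]
      exact ⟨by rw [← tw_val hd h]; exact hK (tw_mem h), (tpa_ok.2.2 _ h).2.2.2.1⟩
    · rw [rootStarts, List.getD_append_right _ _ _ _ (by omega), hlt, show q.1 - 12 = 0 by omega,
        List.getD_cons_zero]
      exact ⟨hroot, r3⟩
  have hwl := ex_letters (rootSyms r) q.2 fun k hk' => (hsym k hk').2
  rw [SetLike.mem_coe, ← hd.base x (ng_eq.symm ▸ hx10), d_run hd _ hwl (i := pt ((rootStarts r).getD q.1 0))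
    (j := E x) (by rw [pt_val hstart.2, E_val x (ng_eq.symm ▸ hx10)]; exact hrun)]
  have hv := val_ex_mem (rootSyms r) q.2 K fun k hk' => (hsym k hk').1
  exact K.mul_mem (K.mul_mem (K.inv_mem hv) hstart.1) hv

theorem isCoatom : IsCoatom Hsub := by
  constructor
  · intro htop
    obtain ⟨h1, h2, h3, h4⟩ := move_ok
    have hm : P23.gg MV ∈ Hsub := htop ▸ Subgroup.mem_top _
    have h5 := hm (pt MVP) (by rw [pt_val h2]; exact h3)
    rw [img_eq hh (ng_eq.symm ▸ h1), pt_val h2, h4] at h5
    exact Bool.false_ne_true h5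
  · intro K hK
    obtain ⟨g, hgK, hgH⟩ := SetLike.exists_of_lt hK
    obtain ⟨i, hi, hgi⟩ : ∃ i : Fin T23.N, mk i = true ∧ mk ((rho hh g i : Fin T23.N) : Nat) = false := by
      by_contra hne
      push Not at hne
      exact hgH fun i hi => by simpa using hne i hi
    have hdg : d (rho hh g i) ∈ K := by
      rw [hd.conj]
      exact K.mul_mem (K.mul_mem hgK (hK.le (d_mem hd i hi))) (K.inv_mem hgK)
    obtain ⟨r, hr, hroot⟩ := root_of_outside hd K hK.le _ _ le_rfl hgi hdg
    exact top_of_root hd K hK.le hr hroot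

/-! ### The order -/

omit hd in
/-- The subgroup fixing the first base points. -/
def fixB (k : Nat) : Subgroup G23 where
  carrier := {g | g ∈ Hsub ∧ ∀ j < k, rho hh g (pt (BPT.getD j 0)) = pt (BPT.getD j 0)}
  one_mem' := ⟨Hsub.one_mem, fun _ _ => by rw [map_one, Equiv.Perm.one_apply]⟩
  mul_mem' := fun {a b} ha hb => ⟨Hsub.mul_mem ha.1 hb.1, fun j hj => by
    rw [map_mul, Equiv.Perm.mul_apply, hb.2 j hj, ha.2 j hj]⟩
  inv_mem' := fun {a} ha => ⟨Hsub.inv_mem ha.1, fun j hj => by
    rw [map_inv, Equiv.Perm.inv_eq_iff_eq, ha.2 j hj]⟩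

theorem fixB_commute {k : Nat} (hk : k ≤ 10) {g : G23} (hg : g ∈ fixB k) (M : List Nat)
    (hM : ∀ j ∈ M, j < k) : g * val P23.gg (ex BW M) = val P23.gg (ex BW M) * g := by
  have h := val_ex_mem BW M (Subgroup.centralizer ({g} : Set G23)) fun j hj => by
    rw [Subgroup.mem_centralizer_singleton_iff, bw_val hd (lt_of_lt_of_le (hM j hj) hk)]
    exact ((fix_iff hh hd g _).mp (hg.2 j (hM j hj))).symm
  exact (Subgroup.mem_centralizer_singleton_iff.mp h).symm

theorem cand_of_mem {k : Nat} (hk : k < 10) {g : G23} (hg : g ∈ fixB k) :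
    candK k ((rho hh g (pt (BPT.getD k 0)) : Fin T23.N) : Nat) = true := by
  have hbk : BPT.getD k 0 < 31671 := (bpa_ok.2.2 k hk).2.2.1
  rw [candK, Bool.and_eq_true, List.all_eq_true]
  refine ⟨fun t ht => ?_, ?_⟩
  · obtain ⟨hlt, hv⟩ := tests_ok k hk t ht
    have hwl : ∀ x ∈ ex BW t.1, x < T23.NG :=
      ex_letters _ _ fun j hj => bw_letters (lt_trans (hlt j hj) hk)
    have hc := fixB_commute hd hk.le hg t.1 hlt
    rw [beq_iff_eq] at hv ⊢
    rw [← hv, Bool.eq_iff_iff, Nat.beq_eq, Nat.beq_eq]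
    constructor
    · intro h
      by_contra hne
      exact not_fixed hh hd hwl g hc (i := pt (BPT.getD k 0)) (by rwa [pt_val hbk]) h
    · intro h
      exact fixed_to_fixed hh hwl g hc (by rwa [pt_val hbk])
  · rw [Bool.not_eq_true']
    by_contra h
    simp only [Bool.not_eq_false, List.elem_eq_mem, decide_eq_true_eq] at h
    obtain ⟨j, hj, hje⟩ := List.getElem_of_mem h
    have hj' : j < k := by
      rw [List.length_take] at hj
      omega
    have hj10 : j < BPT.length := by
      rw [bpa_ok.2.1]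
      omega
    rw [List.getElem_take, ← List.getD_eq_getElem _ 0 hj10] at hje
    have h1 := hg.2 j hj'
    have h2 : rho hh g (pt (BPT.getD k 0)) = rho hh g (pt (BPT.getD j 0)) :=
      Fin.ext (by rw [h1, ← hje, pt_val (bpa_ok.2.2 j (lt_trans hj' hk)).2.2.1])
    have h3 := congrArg Fin.val ((rho hh g).injective h2)
    rw [pt_val hbk, pt_val (bpa_ok.2.2 j (lt_trans hj' hk)).2.2.1] at h3
    exact hj'.ne (nodup_ok k hk j (lt_trans hj' hk) h3).symm

omit hd in
theorem fixB_succ_le (k : Nat) : fixB (k + 1) ≤ fixB k := fun _ hg =>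
  ⟨hg.1, fun j hj => hg.2 j (by omega)⟩

omit hd in
theorem card_step (k : Nat) :
    Nat.card (fixB k) =
      Nat.card {p : Fin T23.N // ∃ g ∈ fixB k, rho hh g (pt (BPT.getD k 0)) = p} * Nat.card (fixB (k + 1)) := by
  haveI : Finite G23 := CosetCertFi23Simple.upper.1
  letI : MulAction (fixB k) (Fin T23.N) := MulAction.compHom _ ((rho hh).comp (fixB k).subtype)
  have hsmul : ∀ (g : fixB k) (p : Fin T23.N), g • p = rho hh (g : G23) p := fun _ _ => rfl
  set b := pt (BPT.getD k 0)
  have h1 : Nat.card (MulAction.stabilizer (fixB k) b) = Nat.card (fixB (k + 1)) := by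
    refine Nat.card_congr
      { toFun := fun g => ⟨g.1.1, g.1.2.1, fun j hj => ?_⟩
        invFun := fun g => ⟨⟨g.1, fixB_succ_le k g.2⟩, g.2.2 k (Nat.lt_succ_self k)⟩
        left_inv := fun _ => rfl
        right_inv := fun _ => rfl }
    rcases Nat.lt_succ_iff_lt_or_eq.mp hj with hj | rfl
    · exact g.1.2.2 j hj
    · exact g.2
  have h2 : Nat.card (MulAction.orbit (fixB k) b) =
      Nat.card {p : Fin T23.N // ∃ g ∈ fixB k, rho hh g b = p} :=
    Nat.card_congr (Equiv.subtypeEquivRight fun p => by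
      rw [MulAction.mem_orbit_iff]
      exact ⟨fun ⟨g, hg⟩ => ⟨g.1, g.2, hg⟩, fun ⟨g, hg, he⟩ => ⟨⟨g, hg⟩, he⟩⟩)
  rw [← h1, ← h2, ← Nat.card_prod]
  exact Nat.card_congr (MulAction.orbitProdStabilizerEquivGroup (fixB k) b).symm

theorem reach {k : Nat} (hk : k < 6) {p : Nat} (hp : p ∈ candList k) :
    ∃ g ∈ fixB k, ((rho hh g (pt (BPT.getD k 0)) : Fin T23.N) : Nat) = p := by
  obtain ⟨hps, -⟩ := List.mem_filter.mp hp
  have hsl := List.all_eq_true.mp sl_ok p hps
  simp only [Bool.and_eq_true, Nat.blt_eq] at hsl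
  match k with
  | 0 =>
    refine orbit_induction hd (fun n => ∃ g ∈ fixB 0, ((rho hh g (pt (BPT.getD 0 0)) : Fin T23.N) : Nat) = n)
      ⟨1, (fixB 0).one_mem, by rw [map_one, Equiv.Perm.one_apply, pt_val (bpa_ok.2.2 0 (by norm_num)).2.2.1]⟩
      ?_ p hsl.1.1 hsl.1.2
    rintro k hk q - - ⟨g, hg, rfl⟩
    refine ⟨(val P23.gg (TW.getD k []))⁻¹ * g,
      ⟨Hsub.mul_mem (Hsub.inv_mem (tw_mem hk)) hg.1, fun j hj => absurd hj (Nat.not_lt_zero j)⟩, ?_⟩
    rw [map_mul, Equiv.Perm.mul_apply, map_inv, inv_run hh (tw_letters hk)]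
  | k + 1 =>
    have hk5 : k < 5 := by omega
    suffices hn : ∀ n, ∀ a ∈ (BPT.getD (k + 1) 0 :: ((WIT.getD k ([], [])).2.take n).map Prod.fst),
        ∃ g ∈ fixB (k + 1), ((rho hh g (pt (BPT.getD (k + 1) 0)) : Fin T23.N) : Nat) = a by
      have hc := List.all_eq_true.mp (wit_cover k hk5) p hp
      simp only [List.elem_eq_mem, decide_eq_true_eq] at hc
      exact hn (WIT.getD k ([], [])).2.length p (by rwa [List.take_length])
    intro n
    induction n with
    | zero =>
      intro a ha
      simp only [List.take_zero, List.map_nil, List.mem_cons, List.not_mem_nil, or_false] at ha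
      subst ha
      exact ⟨1, (fixB _).one_mem, by
        rw [map_one, Equiv.Perm.one_apply, pt_val (bpa_ok.2.2 _ (by omega)).2.2.1]⟩
    | succ n ih =>
      intro a ha
      by_cases hn : n < (WIT.getD k ([], [])).2.length
      · rw [List.take_succ_eq_append_getElem hn, List.map_append, List.map_singleton, ← List.cons_append,
          List.mem_append, List.mem_singleton] at ha
        rcases ha with ha | rfl
        · exact ih a ha
        · obtain ⟨hi, hpa, hrun⟩ := wit_edges k hk5 n hn
          rw [List.getD_eq_getElem _ _ hn] at hi hpa hrun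
          simp only [List.elem_eq_mem, decide_eq_true_eq] at hpa
          obtain ⟨g, hg, hge⟩ := ih _ hpa
          obtain ⟨hy, hfix⟩ := wit_gens k hk5 _ hi
          have hwl : ∀ x ∈ witWord k ((WIT.getD k ([], [])).2[n]).2.1, x < T23.NG :=
            ex_letters _ _ fun j hj => syw_letters (hy j hj)
          refine ⟨(val P23.gg (witWord k ((WIT.getD k ([], [])).2[n]).2.1))⁻¹ * g,
            (fixB _).mul_mem ⟨Hsub.inv_mem (ex_syw_mem hd _ hy), fun j hj => ?_⟩ hg, ?_⟩
          · refine Fin.ext ?_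
            rw [map_inv, inv_run hh hwl, pt_val (bpa_ok.2.2 j (by omega)).2.2.1]
            exact hfix j hj
          · rw [map_mul, Equiv.Perm.mul_apply, map_inv, inv_run hh hwl, hge]
            exact hrun
      · rw [List.take_of_length_le (by omega)] at ha
        exact ih a (by rwa [List.take_of_length_le (by omega)])

omit hd in
theorem size_big : ∀ k < 6, (candList k).length ∣ 6 ^ 4 := by
  obtain ⟨s0, s1, s2, s3, s4, s5, -, -⟩ := cand_sizes
  intro k hk
  interval_cases k <;> simp only [s0, s1, s2, s3, s4, s5] <;> norm_num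

omit hd in
theorem size_small : ∀ k < 8, 6 ≤ k → (candList k).length ≤ 4 := by
  obtain ⟨-, -, -, -, -, -, s6, s7⟩ := cand_sizes
  intro k hk hk6
  interval_cases k <;> simp only [s6, s7] <;> norm_num

theorem index_dvd {k : Nat} (hk : k < 10) :
    Nat.card {p : Fin T23.N // ∃ g ∈ fixB k, rho hh g (pt (BPT.getD k 0)) = p} ∣ 6 ^ 4 := by
  classical
  set O := {p : Fin T23.N // ∃ g ∈ fixB k, rho hh g (pt (BPT.getD k 0)) = p}
  haveI : Nonempty O := ⟨⟨_, 1, (fixB k).one_mem, rfl⟩⟩
  have hpos : 0 < Nat.card O := Nat.card_pos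
  have small : Nat.card O ≤ 4 → Nat.card O ∣ 6 ^ 4 := by
    intro h4
    rcases (by omega : Nat.card O = 1 ∨ Nat.card O = 2 ∨ Nat.card O = 3 ∨ Nat.card O = 4) with h | h | h | h <;>
      rw [h] <;> norm_num
  by_cases h8 : k < 8
  · let f : O → {n // n ∈ (candList k).toFinset} := fun p => ⟨(p.1 : Nat), by
      obtain ⟨g, hg, he⟩ := p.2
      rw [List.mem_toFinset, candList, List.mem_filter]
      refine ⟨mem_sl (n_eq ▸ p.1.2) ?_, ?_⟩
      · rw [← he]
        exact hg.1 _ (by rw [pt_val (bpa_ok.2.2 k hk).2.2.1]; exact (base_mem k h8).1)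
      · rw [← he]
        exact cand_of_mem hd hk hg⟩
    have hinj : Function.Injective f := fun a b h => Subtype.ext (Fin.ext (congrArg Subtype.val h :))
    have hc : Nat.card {n // n ∈ (candList k).toFinset} = (candList k).length := by
      rw [Nat.card_eq_fintype_card, Fintype.card_coe, List.toFinset_card_of_nodup (cand_nodup k h8)]
    by_cases h6 : k < 6
    · have hsur : Function.Surjective f := by
        rintro ⟨n, hn⟩
        obtain ⟨g, hg, he⟩ := reach hd h6 (List.mem_toFinset.mp hn)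
        exact ⟨⟨_, g, hg, rfl⟩, Subtype.ext he⟩
      rw [Nat.card_eq_of_bijective f ⟨hinj, hsur⟩, hc]
      exact size_big k h6
    · refine small ((Nat.card_le_card_of_injective f hinj).trans ?_)
      rw [hc]
      exact size_small k h8 (not_lt.mp h6)
  · refine small ?_
    have hle : Nat.card O ≤ Nat.card {i : Fin T23.N // candK k i = true} :=
      Nat.card_le_card_of_injective
        (fun p => ⟨p.1, by obtain ⟨g, hg, he⟩ := p.2; rw [← he]; exact cand_of_mem hd hk hg⟩)
        fun a b h => Subtype.ext (congrArg Subtype.val h :)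
    refine hle.trans ((card_le_cnt (candK k) T23.N).trans ?_)
    rw [n_eq]
    interval_cases k
    · rw [Fi23SolvMaxScan58.cand8]; norm_num
    · rw [Fi23SolvMaxScan58.cand9]; norm_num

theorem fixB_last : fixB 10 = ⊥ := by
  rw [eq_bot_iff]
  intro g hg
  refine eq_one hh hd g fun x hx => ?_
  have hx10 : x < 10 := ng_eq ▸ hx
  obtain ⟨hj, hk, hrun⟩ := gen_ok x hx10
  revert hj hk hrun
  generalize GEN.getD x (0, []) = q
  intro hj hk hrun
  have hwl := ex_letters BW q.2 fun k h => bw_letters (hk k h)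
  have hc := fixB_commute hd le_rfl hg q.2 hk
  have h1 : rho hh (val P23.gg (ex BW q.2)) (E x) = pt (BPT.getD q.1 0) :=
    apply_of_run hh hwl (by rw [pt_val (bpa_ok.2.2 _ hj).2.2.1, E_val x hx]; exact hrun)
  apply (rho hh (val P23.gg (ex BW q.2))).injective
  rw [← Equiv.Perm.mul_apply, ← map_mul, ← hc, map_mul, Equiv.Perm.mul_apply, h1, hg.2 _ hj]

theorem card_dvd : Nat.card Hsub ∣ 6 ^ 40 := by
  have hchain : ∀ m ≤ 10, Nat.card (fixB (10 - m)) ∣ 6 ^ (4 * m) := by
    intro m hm
    induction m with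
    | zero => rw [Nat.sub_zero, fixB_last hd, Subgroup.card_bot]; exact one_dvd _
    | succ m ih =>
      rw [card_step, show 10 - (m + 1) + 1 = 10 - m by omega, show 4 * (m + 1) = 4 + 4 * m by ring, pow_add]
      exact Nat.mul_dvd_mul (index_dvd hd (by omega)) (ih (by omega))
  have h0 : fixB 0 = Hsub := le_antisymm (fun g h => h.1) fun g h => ⟨h, fun j hj => absurd hj (Nat.not_lt_zero j)⟩
  have := hchain 10 le_rfl
  rwa [Nat.sub_self, h0] at this

theorem isSolvable : Group.IsSolvable Hsub := by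
  haveI : Finite G23 := CosetCertFi23Simple.upper.1
  have h := card_dvd hd
  rw [show (6 : Nat) ^ 40 = 2 ^ 40 * 3 ^ 40 from mul_pow 2 3 40] at h
  obtain ⟨a, b, ha, hb, hab⟩ := exists_dvd_and_dvd_of_dvd_mul h
  obtain ⟨i, -, rfl⟩ := (Nat.dvd_prime_pow Nat.prime_two).mp ha
  obtain ⟨j, -, rfl⟩ := (Nat.dvd_prime_pow Nat.prime_three).mp hb
  exact Cfsg.Agent.S0144.result 2 3 i j Nat.prime_two Nat.prime_three hab

/-! ### The ninth derived subgroup -/

theorem lev_mem : ∀ k < 10, ∀ i < (LEVELS.getD k []).length,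
    val P23.gg (levWord k i) ∈ (derivedSeries Hsub k).map Hsub.subtype := by
  intro k
  induction k with
  | zero =>
    intro _ i hi
    exact ⟨⟨_, ex_syw_mem hd _ (lev_syms 0 (by norm_num) i hi)⟩, Subgroup.mem_top _, rfl⟩
  | succ k ih =>
    intro hk i hi
    obtain ⟨ha, hb⟩ := lev_idx k (by omega) i hi
    obtain ⟨A, hA, hAe⟩ := ih (by omega) _ ha
    obtain ⟨B, hB, hBe⟩ := ih (by omega) _ hb
    refine ⟨⁅A, B⁆, ?_, ?_⟩
    · rw [SetLike.mem_coe, derivedSeries_succ]
      exact Subgroup.commutator_mem_commutator hA hB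
    · have hl : ∀ m i, m < 10 → i < (LEVELS.getD m []).length → ∀ x ∈ levWord m i, x < T23.NG :=
        fun m i hm hi => ex_letters _ _ fun j hj => syw_letters (lev_syms m hm i hi j hj)
      have l1 := hl k _ (by omega) ha
      have l2 := hl k _ (by omega) hb
      have l3 := hl (k + 1) i hk hi
      have hone : val P23.gg (levRel k i) = 1 := by
        refine val_eq_one hh hd (fun x hx => ?_) fun x hx => ?_
        · simp only [levRel, List.mem_append, List.mem_reverse] at hx
          rcases hx with h | h | h | h | h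
          exacts [l1 x h, l2 x h, l1 x h, l2 x h, l3 x h]
        · rw [E_val x hx]
          have h := List.all_eq_true.mp (lev_ok k (by omega) i hi) x (List.mem_range.mpr (ng_eq ▸ hx))
          exact Nat.eq_of_beq_eq_true h
      simp only [levRel, val_append, val_reverse _ invol, ← mul_assoc] at hone
      rw [map_commutatorElement, hAe, hBe, commutatorElement_def]
      exact mul_inv_eq_one.mp hone

theorem derived_nine_ne_bot : derivedSeries Hsub 9 ≠ ⊥ := by
  intro h
  obtain ⟨hlen, x, hx, hne⟩ := lev_last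
  have h1 := lev_mem hd 9 (by norm_num) 0 hlen
  rw [h, Subgroup.map_bot, Subgroup.mem_bot] at h1
  apply hne
  have h2 := inv_run hh (w := levWord 9 0)
    (ex_letters _ _ fun j hj => syw_letters (lev_syms 9 (by norm_num) 0 hlen j hj)) (E x)
  rwa [h1, map_one, inv_one, Equiv.Perm.one_apply, E_val x (ng_eq.symm ▸ hx), eq_comm] at h2

theorem derived_ten_ne : derivedSeries Hsub 10 ≠ derivedSeries Hsub 9 := by
  intro h
  have hst : ∀ m, derivedSeries Hsub (9 + m) = derivedSeries Hsub 9 := by
    intro m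
    induction m with
    | zero => rfl
    | succ m ih => rw [← add_assoc, derivedSeries_succ, ih, ← derivedSeries_succ]; exact h
  obtain ⟨n, hn⟩ := (isSolvable hd).solvable
  apply derived_nine_ne_bot hd
  rw [← hst n, eq_bot_iff, ← hn]
  exact derivedSeries_antitone _ (Nat.le_add_left n 9)

end

/-- The witness for the statement on derived lengths of maximal subgroups. -/
theorem witness : ∃ (G : Type) (_ : Group G) (_ : Finite G) (S H : Subgroup G), S.Normal ∧ IsSimpleGroup S ∧
    ¬ IsMulCommutative S ∧ Subgroup.centralizer (S : Set G) = ⊥ ∧ IsCoatom H ∧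
    derivedSeries H 10 ≠ derivedSeries H 9 := by
  obtain ⟨d, hd⟩ := ThreeTransFi23Out41.exists_data
  haveI : Finite G23 := CosetCertFi23Simple.upper.1
  have hs : IsSimpleGroup G23 := CosetCertFi23Simple.simple
  haveI : Nontrivial G23 := hs.toNontrivial
  have hz : ∀ g : G23, (∀ k, g * k = k * g) → g = 1 := ThreeTransFi23Out41.center_trivial hd
  refine ⟨G23, inferInstance, inferInstance, ⊤, Hsub, inferInstance, ?_, ?_, ?_, isCoatom hd,
    derived_ten_ne hd⟩
  · exact IsSimpleGroup.isSimpleGroup_of_surjective (Subgroup.topEquiv (G := G23)).symm.toMonoidHom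
      (Subgroup.topEquiv (G := G23)).symm.surjective
  · intro hc
    obtain ⟨g, hg⟩ := exists_ne (1 : G23)
    refine hg (hz g fun k => ?_)
    exact congrArg Subtype.val (hc.is_comm.comm (⟨g, Subgroup.mem_top g⟩ : (⊤ : Subgroup G23)) ⟨k, Subgroup.mem_top k⟩)
  · rw [eq_bot_iff]
    intro g hg
    exact hz g fun k => (Subgroup.mem_centralizer_iff.mp hg k (Subgroup.mem_top k)).symm

end Cfsg.Agent.Fi23SolvMax58
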