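import Cfsg.Agent.Lib.ThreeTransFi23Out41
import Cfsg.Agent.Lib.Fi23SolvMaxData58

/-!
Checker functions for a solvable maximal subgroup of the presented Fi23.
-/

set_option autoImplicit false

namespace Cfsg.Agent.Fi23SolvMaxDefs58

open Cfsg.Agent.CosetCertCore Cfsg.Agent.CosetCertTable Cfsg.Agent.ThreeTransAut41
open Cfsg.Agent.Fi23SolvMaxData58

/-- The table of the 31671 points. -/
noncomputable abbrev T23 : Table := CosetCertFi23FData.table

/-- Point number of a generator. -/
noncomputable abbrev ee (x : Nat) : Nat := ThreeTransFi23Out41.e x

/-- Packed mark of a point. -/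
noncomputable def mark (i : Nat) : Nat := entry MARK 12 i

/-- The point lies in the chosen set. -/
noncomputable def mk (i : Nat) : Bool := Nat.beq (Nat.land (mark i) 1) 1

/-- Rank of a point in the forest. -/
noncomputable def rank (i : Nat) : Nat := Nat.shiftRight (mark i) 5

/-- Symbol of the parent edge. -/
noncomputable def sym (i : Nat) : Nat := Nat.land (Nat.shiftRight (mark i) 1) 15

/-- The words of the twelve seeds. -/
def TW : List (List Nat) := TPA.map fun a => dw a.1 a.2

/-- The words of all symbols. -/
def SYW : List (List Nat) := TW ++ HW

/-- The words of the base transpositions. -/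
def BW : List (List Nat) := BPA.map fun a => dw a.1 a.2

/-- A marked point is listed. -/
noncomputable def listed (i : Nat) : Bool := cond (mk i) (SL.elem i) true

/-- The forest of the outside points. -/
noncomputable def forestOk (i : Nat) : Bool :=
  cond (mk i) true
    (cond (Nat.beq (rank i) 0) ((ROOTS.map Prod.fst).elem i)
      (force (T23.run (TW.getD (sym i) []) i) fun j =>
        Nat.blt (sym i) 12 && !mk j && Nat.blt (rank j) (rank i)))

/-- The tests of a candidate. -/
noncomputable def candK (k p : Nat) : Bool :=
  ((TESTS.getD k []).all fun t => Nat.beq (T23.run (ex BW t.1) p) p == t.2) &&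
    !(BPT.take k).elem p

/-- The chosen candidates in the set. -/
noncomputable def candList (k : Nat) : List Nat := SL.filter (candK k)

/-- The word of a witness. -/
def witWord (k i : Nat) : List Nat := ex SYW ((WIT.getD k ([], [])).1.getD i [])

/-- The symbols used for the derivations from a root. -/
def rootSyms (r : Nat) : List (List Nat) :=
  SYW ++ [dw (ROOTS.getD r (0, 0, [])).2.1 (ROOTS.getD r (0, 0, [])).2.2]

/-- The starting points of the derivations from a root. -/
def rootStarts (r : Nat) : List Nat := TPT ++ [(ROOTS.getD r (0, 0, [])).1]

/-- The word of an entry of a level. -/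
def levWord (k i : Nat) : List Nat := ex SYW ((LEVELS.getD k []).getD i ([], 0, 0)).1

/-- The word comparing an entry with the commutator it names. -/
def levRel (k i : Nat) : List Nat :=
  levWord k ((LEVELS.getD (k + 1) []).getD i ([], 0, 0)).2.1 ++
    (levWord k ((LEVELS.getD (k + 1) []).getD i ([], 0, 0)).2.2 ++
      ((levWord k ((LEVELS.getD (k + 1) []).getD i ([], 0, 0)).2.1).reverse ++
        ((levWord k ((LEVELS.getD (k + 1) []).getD i ([], 0, 0)).2.2).reverse ++
          (levWord (k + 1) i).reverse)))

/-- An entry of a level is the commutator it names. -/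
noncomputable def levOk (k i : Nat) : Bool :=
  (List.range 10).all fun x => Nat.beq (T23.run (levRel k i) (ee x)) (ee x)

end Cfsg.Agent.Fi23SolvMaxDefs58
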