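import Cfsg.Agent.Lib.Fi23SolvMaxDefs58

/-! Part of the checks for a solvable maximal subgroup of Fi23. -/

set_option autoImplicit false
set_option maxRecDepth 100000
set_option Elab.async false

namespace Cfsg.Agent.Fi23SolvMaxScan58

open Cfsg.Agent.CosetCertCore Cfsg.Agent.CosetCertTable Cfsg.Agent.ThreeTransAut41
open Cfsg.Agent.Fi23SolvMaxData58 Cfsg.Agent.Fi23SolvMaxDefs58

theorem listed0 : allFrom listed 4096 0 = true := by decide +kernel

theorem listed1 : allFrom listed 4096 4096 = true := by decide +kernel

theorem listed2 : allFrom listed 4096 8192 = true := by decide +kernel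

theorem listed3 : allFrom listed 4096 12288 = true := by decide +kernel

theorem listed4 : allFrom listed 4096 16384 = true := by decide +kernel

theorem listed5 : allFrom listed 4096 20480 = true := by decide +kernel

theorem listed6 : allFrom listed 4096 24576 = true := by decide +kernel

theorem listed7 : allFrom listed 2999 28672 = true := by decide +kernel

theorem cand8 : cntFrom (candK 8) 31671 0 0 = 3 := by decide +kernel

theorem cand9 : cntFrom (candK 9) 31671 0 0 = 2 := by decide +kernel

end Cfsg.Agent.Fi23SolvMaxScan58
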