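import Cfsg.Agent.Lib.CosetCertFi23Simple
import Cfsg.Agent.Lib.Fi23SylowTwoData
import Cfsg.Prelude.Def_Transfer

/-!
The elementary abelian subgroup of order 2^11 of a Sylow 2-subgroup of Fi23: the group generated by a
clique of 23 commuting transpositions is the only normal elementary abelian subgroup of that order.
-/

set_option autoImplicit false
set_option maxRecDepth 100000
set_option maxHeartbeats 1600000
set_option linter.style.haveILetI false
set_option Elab.async false

namespace Cfsg.Agent.Fi23SylowTwo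

open Cfsg.Agent.CosetCertCore Cfsg.Agent.CosetCertTable Cfsg.Agent.CosetCertPres
open Cfsg.Agent.CosetCertRestrict Cfsg.Agent.CosetCertFi23Simple Cfsg.Agent.Fi23SylowTwoData

/-- The table of the action on the transpositions. -/
noncomputable abbrev D : Table := CosetCertFi23FData.table
/-- The presented group Fi23. -/
abbrev G : Type := Pres.Grp P23

/-- The action of a group element on a natural number (a point, or a number out of range). -/
noncomputable def act (g : G) (i : Nat) : Nat :=
  if h : i < D.N then (rho CosetCertFi23F.enumerated g ⟨i, h⟩ : Fin D.N).1 else i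

theorem act_lt (g : G) {i : Nat} (h : i < D.N) : act g i < D.N := by
  rw [act, dif_pos h]; exact Fin.isLt _

theorem act_mul (a b : G) (i : Nat) : act (a * b) i = act a (act b i) := by
  by_cases h : i < D.N
  · have hb : act b i = ((rho CosetCertFi23F.enumerated b ⟨i, h⟩ : Fin D.N) : Nat) := by rw [act, dif_pos h]
    rw [hb]
    simp only [act, dif_pos h, Fin.is_lt, dite_true, map_mul, Equiv.Perm.mul_apply, Fin.eta]
  · simp only [act, dif_neg h]

theorem act_one (i : Nat) : act 1 i = i := by
  unfold act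
  split
  · rw [map_one]; rfl
  · rfl

/-- The action as a `MulAction`. -/
@[reducible] noncomputable def action : MulAction G Nat where
  smul := act
  one_smul := act_one
  mul_smul := act_mul

attribute [local instance] action

theorem smul_eq (g : G) (i : Nat) : g • i = act g i := rfl

/-- The element of a word, acting by the letters from left to right. -/
noncomputable def el (w : List Nat) : G := (val P23.gg w)⁻¹

theorem el_nil : el [] = 1 := by simp [el, val]

theorem el_append (a b : List Nat) : el (a ++ b) = el b * el a := by simp [el, val, mul_inv_rev]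

theorem el_reverse (w : List Nat) : el w.reverse = (el w)⁻¹ := by
  induction w with
  | nil => simp [el_nil]
  | cons x w ih =>
    have hx : el [x] = (el [x])⁻¹ := by
      simp only [el, val_cons, val_nil, mul_one, inv_inv]
      exact inv_of_sq _ invol x
    rw [List.reverse_cons, el_append, ih, show x :: w = [x] ++ w from rfl, el_append, mul_inv_rev, ← hx]

/-- All letters of the word are generators. -/
def okW (w : List Nat) : Bool := w.all fun x => Nat.blt x 10

theorem run_el {w : List Nat} (hw : okW w = true) {i : Nat} (hi : i < D.N) :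
    act (el w) i = D.run w i := by
  have hl : ∀ x ∈ w, x < D.NG := fun x hx => Nat.blt_eq.mp (List.all_eq_true.mp hw x hx)
  rw [act, dif_pos hi, el, map_inv]
  exact rho_val_apply CosetCertFi23F.enumerated hl ⟨i, hi⟩

theorem orbit_stab {X : Type} [MulAction G X] (H : Subgroup G) (x : X) :
    Nat.card H = (MulAction.orbit H x).ncard * Nat.card (H ⊓ MulAction.stabilizer G x : Subgroup G) := by
  have h1 : MulAction.stabilizer H x = (H ⊓ MulAction.stabilizer G x).subgroupOf H := by
    rw [Subgroup.inf_subgroupOf_left]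
    ext h
    rfl
  rw [← MulAction.index_stabilizer, h1,
    ← Nat.card_congr (Subgroup.subgroupOfEquivOfLe (inf_le_left : H ⊓ MulAction.stabilizer G x ≤ H)).toEquiv,
    mul_comm, Subgroup.card_mul_index]

/-- The elements fixing every point of a list. -/
def fix (L : List Nat) : Subgroup G where
  carrier := {g | ∀ p ∈ L, act g p = p}
  one_mem' p _ := act_one p
  mul_mem' ha hb p hp := by rw [act_mul, hb p hp, ha p hp]
  inv_mem' {a} ha p hp := by
    conv_lhs => rw [← ha p hp]
    rw [← act_mul, inv_mul_cancel, act_one]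

theorem fix_cons (q : Nat) (L : List Nat) : fix (q :: L) = fix L ⊓ MulAction.stabilizer G q := by
  ext g
  rw [Subgroup.mem_inf, MulAction.mem_stabilizer_iff]
  simp only [fix, Subgroup.mem_mk, Set.mem_ofPred_eq, List.mem_cons, forall_eq_or_imp, smul_eq]
  exact ⟨fun h => ⟨h.2, h.1⟩, fun h => ⟨h.2, h.1⟩⟩

/-- Grow an orbit along tree edges. -/
noncomputable def chk (gens : List (List Nat)) (edges : List Nat) : Nat → Bool :=
  List.rec (motive := fun _ => Nat → Bool) (fun _ => true)
    (fun e _ ih seen => force (D.run (gens.getD (Nat.land e 63) []) (Nat.shiftRight e 6)) fun c =>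
      seen.testBit (Nat.shiftRight e 6) && Nat.blt (Nat.land e 63) gens.length && Nat.blt c D.N &&
        !(seen.testBit c) && force (seen ||| 2 ^ c) ih) edges

theorem chk_sound {gens : List (List Nat)} (hg : ∀ w ∈ gens, okW w = true) {H : Subgroup G}
    (hH : ∀ w ∈ gens, el w ∈ H) (q : Nat) (edges : List Nat) :
    ∀ (seen : Nat) (F : Finset Nat), chk gens edges seen = true → (∀ i, seen.testBit i = true ↔ i ∈ F) →
      (∀ i ∈ F, i < D.N ∧ i ∈ MulAction.orbit H q) →
      ∃ F' : Finset Nat, F'.card = F.card + edges.length ∧ (∀ i ∈ F', i ∈ MulAction.orbit H q) := by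
  induction edges with
  | nil => exact fun _ F _ _ h => ⟨F, rfl, fun i hi => (h i hi).2⟩
  | cons e r ih =>
    intro seen F h hseen hF
    simp only [chk, force_eq, Bool.and_eq_true, Nat.blt_eq, Bool.not_eq_true'] at h
    obtain ⟨⟨⟨⟨h1, h2⟩, h3⟩, h4⟩, h5⟩ := h
    set c := D.run (gens.getD (Nat.land e 63) []) (Nat.shiftRight e 6) with hc
    have hp := hF _ ((hseen _).mp h1)
    have hw : gens.getD (Nat.land e 63) [] ∈ gens := by
      rw [List.getD_eq_getElem _ _ h2]; exact List.getElem_mem h2
    have hcorb : c ∈ MulAction.orbit H q := by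
      obtain ⟨u, hu⟩ := hp.2
      refine ⟨⟨_, hH _ hw⟩ * u, ?_⟩
      show ((⟨_, hH _ hw⟩ : H) * u) • q = c
      rw [mul_smul, show u • q = Nat.shiftRight e 6 from hu]
      show act (el _) _ = c
      rw [run_el (hg _ hw) hp.1]
    have hcF : c ∉ F := fun hh => by rw [(hseen c).mpr hh] at h4; simp at h4
    obtain ⟨F', hF', ho⟩ := ih (seen ||| 2 ^ c) (insert c F) (by simp only [chk, force_eq]; exact h5) (fun i => by
      rw [Nat.testBit_or, Bool.or_eq_true, hseen, Nat.testBit_two_pow, decide_eq_true_eq, Finset.mem_insert]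
      tauto) (fun i hi => by
        rcases Finset.mem_insert.mp hi with rfl | hi
        · exact ⟨h3, hcorb⟩
        · exact hF i hi)
    exact ⟨F', by rw [hF', Finset.card_insert_of_notMem hcF, List.length_cons]; omega, ho⟩

/-- Check a stabiliser chain. -/
noncomputable def chainOk : List Lev → List Nat → Bool
  | [], _ => true
  | l :: r, pre =>
    (l.gens.all fun w => okW w && pre.all fun p => Nat.blt p D.N && Nat.beq (D.run w p) p) &&
      Nat.blt l.pt D.N && chk l.gens l.edges (2 ^ l.pt) && chainOk r (l.pt :: pre)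

/-- The product of the orbit lengths. -/
def size (lv : List Lev) : Nat := (lv.map fun l => l.edges.length + 1).prod

/-- The points of a chain, in front of the starting list. -/
def points : List Lev → List Nat → List Nat
  | [], pre => pre
  | l :: r, pre => points r (l.pt :: pre)

theorem chain_le [Finite G] (H : Subgroup G) : ∀ (lv : List Lev) (pre : List Nat), chainOk lv pre = true →
    (∀ l ∈ lv, ∀ w ∈ l.gens, el w ∈ H) →
    size lv * Nat.card (H ⊓ fix (points lv pre) : Subgroup G) ≤ Nat.card (H ⊓ fix pre : Subgroup G) := by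
  intro lv
  induction lv with
  | nil => intro pre _ _; simp [size, points]
  | cons l r ih =>
    intro pre h hH
    simp only [chainOk, Bool.and_eq_true, List.all_eq_true, Nat.blt_eq, Nat.beq_eq] at h
    obtain ⟨⟨⟨hg, hq⟩, hc⟩, hr⟩ := h
    have h2 := ih (l.pt :: pre) hr fun l' hl' => hH l' (List.mem_cons_of_mem _ hl')
    have h3 := orbit_stab (H ⊓ fix pre) l.pt
    rw [inf_assoc, ← fix_cons] at h3
    have hmem : ∀ w ∈ l.gens, el w ∈ H ⊓ fix pre := fun w hw =>
      ⟨hH l (List.mem_cons_self ..) w hw, fun p hp =>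
        (run_el (hg w hw).1 ((hg w hw).2 p hp).1).trans ((hg w hw).2 p hp).2⟩
    obtain ⟨F, hF, ho⟩ := chk_sound (fun w hw => (hg w hw).1) hmem l.pt l.edges (2 ^ l.pt) {l.pt} hc
      (fun i => by rw [Nat.testBit_two_pow, decide_eq_true_eq, Finset.mem_singleton, eq_comm])
      (fun i hi => by rw [Finset.mem_singleton] at hi; subst hi; exact ⟨hq, MulAction.mem_orbit_self _⟩)
    have h4 : l.edges.length + 1 ≤ (MulAction.orbit (H ⊓ fix pre : Subgroup G) l.pt).ncard := by
      have hfin : (MulAction.orbit (H ⊓ fix pre : Subgroup G) l.pt).Finite := Set.finite_range _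
      have h5 := Set.ncard_le_ncard (s := (F : Set Nat)) (fun i hi => ho i hi) hfin
      rw [Set.ncard_coe_finset, hF, Finset.card_singleton] at h5
      omega
    show ((l.edges.length + 1) :: r.map fun l => l.edges.length + 1).prod *
      Nat.card (H ⊓ fix (points r (l.pt :: pre)) : Subgroup G) ≤ _
    rw [List.prod_cons, mul_assoc, h3]
    exact Nat.mul_le_mul h4 h2

/-- The word of generator `n` of the elementary abelian subgroup. -/
def cWord (n : Nat) : List Nat := dw.getD (bas.getD n 0) []

/-- The word of a mask. -/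
def cw (k : Nat) : Nat → List Nat
  | 0 => []
  | n + 1 => cw k n ++ (if k.testBit n then cWord n else [])

/-- The elementary abelian group of order 2^11. -/
noncomputable def V : Subgroup G := Subgroup.closure {g | ∃ n < 11, el (cWord n) = g}

theorem cWord_mem {n : Nat} (hn : n < 11) : el (cWord n) ∈ V := Subgroup.subset_closure ⟨n, hn, rfl⟩

theorem cw_mem (k : Nat) : ∀ n ≤ 11, el (cw k n) ∈ V
  | 0, _ => by simp [cw, el_nil]
  | n + 1, h => by
    rw [cw, el_append]
    refine Subgroup.mul_mem _ ?_ (cw_mem k n (by omega))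
    split
    · exact cWord_mem (by omega)
    · simp [el_nil]

/-- The chain below the first point. -/
abbrev headPts : List Nat := points Fi23SylowTwoData.head [0]
/-- The chain inside the elementary abelian group. -/
def tailLev : List Lev := Fi23SylowTwoData.tail.map fun t => ⟨t.1, t.2.1.map fun m => cw m 11, t.2.2⟩
/-- A base. -/
abbrev pts : List Nat := points tailLev [] ++ headPts

theorem head_ok : chainOk Fi23SylowTwoData.head [0] = true := by decide +kernel
theorem tail_ok : chainOk tailLev [] = true := by decide +kernel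
theorem head_size : size Fi23SylowTwoData.head * 2048 = 129123503308800 := by decide +kernel
theorem tail_size : size tailLev = 2048 := by decide +kernel

instance finite : Finite G := Nat.finite_of_card_ne_zero (by rw [card_p]; decide)

theorem fix_zero_le : fix [0] ≤ P23.sub CosetCertFi23FData.subgens := by
  intro k hk
  obtain ⟨φ, hφ0, hφ⟩ := exists_coset_equiv CosetCertFi23F.enumerated
  have hk0 := hφ k ⟨0, CosetCertFi23F.enumerated.table.npos⟩
  have h0 : rho CosetCertFi23F.enumerated k ⟨0, CosetCertFi23F.enumerated.table.npos⟩ =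
      ⟨0, CosetCertFi23F.enumerated.table.npos⟩ := by
    have h := hk 0 (List.mem_singleton_self 0)
    rw [act, dif_pos CosetCertFi23F.enumerated.table.npos] at h
    exact Fin.ext h
  rw [h0, hφ0] at hk0
  have hk1 : ((k * 1 : Pres.Grp P23) : Pres.Grp P23 ⧸ P23.sub CosetCertFi23FData.subgens) =
      ((1 : Pres.Grp P23) : Pres.Grp P23 ⧸ P23.sub CosetCertFi23FData.subgens) := hk0.symm
  rw [mul_one, QuotientGroup.eq, mul_one, inv_mem_iff] at hk1
  exact hk1

theorem card_head : Nat.card (fix headPts) ≤ 2048 := by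
  have h := chain_le ⊤ Fi23SylowTwoData.head [0] head_ok (fun _ _ _ _ => Subgroup.mem_top _)
  rw [top_inf_eq, top_inf_eq] at h
  have h1 : Nat.card (fix [0]) ≤ 129123503308800 := by
    refine (Subgroup.card_le_of_le fix_zero_le).trans ?_
    rw [sub_eq_span, card_span.1]
  have h2 := h.trans h1
  rw [← head_size] at h2
  exact Nat.le_of_mul_le_mul_left h2 (Nat.pos_of_ne_zero (by decide +kernel))

theorem V_le_cl : V ≤ fix cl := by
  refine (Subgroup.closure_le _).mpr ?_
  rintro g ⟨n, hn, rfl⟩ p hp
  have h : ((List.range 11).all fun n => okW (cWord n) &&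
      cl.all fun p => Nat.blt p D.N && Nat.beq (D.run (cWord n) p) p) = true := by decide +kernel
  simp only [List.all_eq_true, Bool.and_eq_true, Nat.blt_eq, Nat.beq_eq, List.mem_range] at h
  rw [run_el (h n hn).1 ((h n hn).2 p hp).1, ((h n hn).2 p hp).2]

theorem cl_le_head : fix cl ≤ fix headPts := by
  intro g hg p hp
  exact hg p ((by decide +kernel : ∀ p ∈ headPts, p ∈ cl) p hp)

theorem card_V : Nat.card V = 2048 ∧ fix headPts = V ∧ Nat.card (V ⊓ fix (points tailLev []) : Subgroup G) = 1 := by
  have hgens : ∀ l ∈ tailLev, ∀ w ∈ l.gens, el w ∈ V := by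
    intro l hl w hw
    obtain ⟨t, -, rfl⟩ := List.mem_map.mp hl
    obtain ⟨m, -, rfl⟩ := List.mem_map.mp hw
    exact cw_mem m 11 le_rfl
  have h := chain_le V tailLev [] tail_ok hgens
  rw [tail_size] at h
  have hnil : fix [] = ⊤ := by ext g; simp [fix]
  rw [hnil, inf_top_eq] at h
  have h1 : Nat.card V ≤ Nat.card (fix headPts) := Subgroup.card_le_of_le (V_le_cl.trans cl_le_head)
  have h2 := card_head
  have h3 : 0 < Nat.card (V ⊓ fix (points tailLev []) : Subgroup G) := Nat.card_pos
  refine ⟨by omega, ?_, by omega⟩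
  exact (Subgroup.eq_of_le_of_card_ge (V_le_cl.trans cl_le_head) (by omega)).symm

theorem eq_V_cl : fix cl = V := le_antisymm (cl_le_head.trans card_V.2.1.le) V_le_cl

theorem base_trivial {g : G} (hg : ∀ p ∈ pts, act g p = p) : g = 1 := by
  have h1 : g ∈ V := card_V.2.1 ▸ fun p hp => hg p (List.mem_append_right _ hp)
  have h2 : g ∈ V ⊓ fix (points tailLev []) := ⟨h1, fun p hp => hg p (List.mem_append_left _ hp)⟩
  have h3 := Subgroup.eq_bot_of_card_eq _ card_V.2.2
  rw [h3] at h2
  exact Subgroup.mem_bot.mp h2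

/-- Two words agree on the base. -/
noncomputable def eqW (a b : List Nat) : Bool :=
  okW a && okW b && pts.all fun p => Nat.blt p D.N && Nat.beq (D.run a p) (D.run b p)

theorem el_eq {a b : List Nat} (h : eqW a b = true) : el a = el b := by
  simp only [eqW, Bool.and_eq_true, List.all_eq_true, Nat.blt_eq, Nat.beq_eq] at h
  obtain ⟨⟨ha, hb⟩, hp⟩ := h
  rw [← inv_mul_eq_one]
  refine base_trivial fun p hp' => ?_
  have h := hp p hp'
  rw [act_mul, run_el hb h.1, ← h.2, ← run_el ha h.1, ← act_mul, inv_mul_cancel, act_one]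

theorem comm_V : ∀ a ∈ V, ∀ b ∈ V, a * b = b * a := by
  have h : ((List.range 11).all fun m => (List.range 11).all fun n =>
      eqW (cWord m ++ cWord n) (cWord n ++ cWord m)) = true := by decide +kernel
  simp only [List.all_eq_true, List.mem_range] at h
  have hV : V ≤ Subgroup.centralizer (V : Set G) := by
    refine (Subgroup.closure_le _).mpr ?_
    rintro _ ⟨m, hm, rfl⟩
    rw [SetLike.mem_coe, Subgroup.mem_centralizer_iff]
    intro b hb
    refine Subgroup.closure_induction (p := fun b _ => b * el (cWord m) = el (cWord m) * b) ?_ (by simp)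
      (fun x y _ _ hx hy => (Commute.mul_left hx hy : Commute (x * y) (el (cWord m))))
      (fun x _ hx => (Commute.inv_left hx : Commute x⁻¹ (el (cWord m)))) hb
    rintro _ ⟨n, hn, rfl⟩
    have := el_eq (h m hm n hn)
    rwa [el_append, el_append] at this
  exact fun a ha b hb => (Subgroup.mem_centralizer_iff.mp (hV hb) a ha)

/-- The element of a mask. -/
noncomputable def e (k : Nat) : G := el (cw k 11)

theorem cw_xor (a b : Nat) : ∀ n ≤ 11, el (cw (a ^^^ b) n) = el (cw a n) * el (cw b n)
  | 0, _ => by simp [cw, el_nil]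
  | n + 1, hn => by
    have ha := cw_mem a n (by omega)
    have hb := cw_mem b n (by omega)
    have hc := cWord_mem (n := n) (by omega)
    have hsq : el (cWord n) * el (cWord n) = 1 := by
      have h : ((List.range 11).all fun n => eqW (cWord n ++ cWord n) []) = true := by decide +kernel
      simp only [List.all_eq_true, List.mem_range] at h
      rw [← el_append, el_eq (h n (by omega)), el_nil]
    simp only [cw, el_append, cw_xor a b n (by omega), Nat.testBit_xor]
    have hcomm := comm_V _ hc _ ha
    cases a.testBit n <;> cases b.testBit n <;>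
      simp only [Bool.false_bne, Bool.true_bne, Bool.not_true, Bool.not_false, if_true, if_false,
        Bool.false_eq_true, el_nil, one_mul]
    · rw [← mul_assoc, hcomm, mul_assoc]
    · rw [mul_assoc]
    · rw [mul_assoc, ← mul_assoc (el (cw a n)), ← hcomm, mul_assoc, ← mul_assoc (el (cWord n)) (el (cWord n)),
        hsq, one_mul]

theorem e_xor (a b : Nat) : e (a ^^^ b) = e a * e b := cw_xor a b 11 le_rfl

theorem e_zero : e 0 = 1 := by
  rw [e, show cw 0 11 = [] by decide +kernel, el_nil]

theorem e_sq (k : Nat) : e k * e k = 1 := by rw [← e_xor, Nat.xor_self, e_zero]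

theorem e_surj {g : G} (hg : g ∈ V) : ∃ k, k < 2048 ∧ e k = g := by
  induction hg using Subgroup.closure_induction with
  | mem g hg =>
    obtain ⟨n, hn, rfl⟩ := hg
    refine ⟨2 ^ n, Nat.pow_lt_pow_right (by omega) hn, ?_⟩
    have h : ((List.range 11).all fun n => eqW (cw (2 ^ n) 11) (cWord n)) = true := by decide +kernel
    simp only [List.all_eq_true, List.mem_range] at h
    exact el_eq (h n hn)
  | one => exact ⟨0, by norm_num, e_zero⟩
  | mul a b _ _ ha hb =>
    obtain ⟨i, hi, rfl⟩ := ha
    obtain ⟨j, hj, rfl⟩ := hb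
    exact ⟨i ^^^ j, Nat.xor_lt_two_pow (n := 11) hi hj, e_xor i j⟩
  | inv a _ ha =>
    obtain ⟨i, hi, rfl⟩ := ha
    exact ⟨i, hi, (inv_eq_of_mul_eq_one_right (e_sq i)).symm⟩

theorem e_inj {a b : Nat} (ha : a < 2048) (hb : b < 2048) (h : e a = e b) : a = b := by
  let f : Fin 2048 → V := fun i => ⟨e i, cw_mem i 11 le_rfl⟩
  have hs : Function.Surjective f := fun v => by
    obtain ⟨k, hk, hk'⟩ := e_surj v.2
    exact ⟨⟨k, hk⟩, Subtype.ext hk'⟩
  have hf := (Nat.bijective_iff_surjective_and_card f).mpr ⟨hs, by rw [Nat.card_fin, card_V.1]⟩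
  exact congrArg Fin.val (@hf.1 ⟨a, ha⟩ ⟨b, hb⟩ (Subtype.ext h))

/-- Point number `i` of the clique. -/
def pt (i : Nat) : Nat := cl.getD i 0
/-- Image of `i` under a listed permutation. -/
def ap (l : List Nat) (i : Nat) : Nat := l.getD i 0
/-- A listed permutation of the clique. -/
def S (k : Nat) : List Nat := sPerm.getD k []
/-- Composition of listed permutations. -/
def mulL (p q : List Nat) : List Nat := q.map (ap p)

/-- The element permutes the clique as listed. -/
def Rel (g : G) (l : List Nat) : Prop := ∀ i < 23, act g (pt i) = pt (ap l i)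
/-- The element permutes the transpositions of the clique as listed. -/
def ConjP (g : G) (l : List Nat) : Prop :=
  ∀ i < 23, g * el (dw.getD i []) * g⁻¹ = el (dw.getD (ap l i) [])

/-- A listed permutation of 23 letters. -/
def Good (l : List Nat) : Prop := l.length = 23 ∧ ∀ i < 23, ap l i < 23

theorem ap_mulL {p q : List Nat} (hq : Good q) {i : Nat} (hi : i < 23) : ap (mulL p q) i = ap p (ap q i) := by
  have h : i < q.length := by rw [hq.1]; exact hi
  simp [ap, mulL, List.getD_eq_getElem, h]

theorem good_mulL {p q : List Nat} (hp : Good p) (hq : Good q) : Good (mulL p q) :=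
  ⟨by simp [mulL, hq.1], fun i hi => by rw [ap_mulL hq hi]; exact hp.2 _ (hq.2 i hi)⟩

theorem rel_mul {a b : G} {p q : List Nat} (hq : Good q) (ha : Rel a p) (hb : Rel b q) :
    Rel (a * b) (mulL p q) := fun i hi => by
  rw [act_mul, hb i hi, ha _ (hq.2 i hi), ap_mulL hq hi]

theorem conj_mul {a b : G} {p q : List Nat} (hq : Good q) (ha : ConjP a p) (hb : ConjP b q) :
    ConjP (a * b) (mulL p q) := fun i hi => by
  rw [ap_mulL hq hi, ← ha _ (hq.2 i hi), ← hb i hi]
  group

theorem pt_inj : ∀ i < 23, ∀ j < 23, pt i = pt j → i = j := by decide +kernel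

theorem rel_unique {g : G} {p q : List Nat} (hp : Good p) (hq : Good q) (h1 : Rel g p) (h2 : Rel g q) :
    p = q := by
  refine List.ext_getElem (hp.1.trans hq.1.symm) fun i hi hi' => ?_
  have h23 : i < 23 := hp.1 ▸ hi
  have := pt_inj _ (hp.2 i h23) _ (hq.2 i h23) ((h1 i h23).symm.trans (h2 i h23))
  simpa [ap, List.getD_eq_getElem, hi, hi'] using this

theorem good_S : ∀ k < 128, Good (S k) := by
  have h : ∀ k < 128, (S k).length = 23 ∧ ∀ i < 23, ap (S k) i < 23 := by decide +kernel
  exact h

theorem S_inj : ∀ i < 128, ∀ j < 128, S i = S j → i = j := by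
  have h : sPerm.Nodup ∧ sPerm.length = 128 := by decide +kernel
  intro i hi j hj he
  have hi' : i < sPerm.length := h.2 ▸ hi
  have hj' : j < sPerm.length := h.2 ▸ hj
  simp only [S, List.getD_eq_getElem, hi', hj'] at he
  exact (List.Nodup.getElem_inj_iff h.1).mp he

/-- The lifts of the generators of the group of order 128. -/
def aWord (j : Nat) : List Nat := aw.getD j []

/-- A Sylow 2-subgroup. -/
noncomputable def T0 : Subgroup G :=
  Subgroup.closure ({g | ∃ n < 11, el (cWord n) = g} ∪ {g | ∃ j < aw.length, el (aWord j) = g})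

theorem V_le_T0 : V ≤ T0 := Subgroup.closure_mono Set.subset_union_left

/-- Check that a word permutes the clique and its transpositions as listed. -/
noncomputable def relW (w l : List Nat) : Bool :=
  okW w && Nat.beq l.length 23 && (List.range 23).all fun i =>
    Nat.blt (ap l i) 23 && Nat.blt (pt i) D.N && Nat.beq (D.run w (pt i)) (pt (ap l i)) &&
      eqW (w.reverse ++ dw.getD i [] ++ w) (dw.getD (ap l i) [])

theorem relW_sound {w l : List Nat} (h : relW w l = true) : Good l ∧ Rel (el w) l ∧ ConjP (el w) l := by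
  simp only [relW, Bool.and_eq_true, Nat.beq_eq, Nat.blt_eq, List.all_eq_true, List.mem_range] at h
  obtain ⟨⟨hw, hl⟩, h⟩ := h
  refine ⟨⟨hl, fun i hi => (h i hi).1.1.1⟩, fun i hi => ?_, fun i hi => ?_⟩
  · rw [run_el hw (h i hi).1.1.2, (h i hi).1.2]
  · rw [← el_eq (h i hi).2, el_append, el_append, el_reverse, mul_assoc]

/-- The element permutes the clique as a listed element of the group of order 128. -/
def Img (g : G) : Prop := ∃ k < 128, Rel g (S k) ∧ ConjP g (S k)

theorem S_zero_rel : Rel 1 (S 0) ∧ ConjP 1 (S 0) := by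
  have h : ∀ i < 23, ap (S 0) i = i := by decide +kernel
  exact ⟨fun i hi => by rw [act_one, h i hi], fun i hi => by rw [h i hi]; group⟩

theorem img_mul_left {a b : G} {p : List Nat} (hp : Good p) (ha : Rel a p) (ha' : ConjP a p)
    (hclosed : ∀ k < 128, mulL p (S k) ∈ sPerm) (hb : Img b) : Img (a * b) := by
  obtain ⟨k, hk, h1, h2⟩ := hb
  obtain ⟨m, hm, he⟩ := List.getElem_of_mem (hclosed k hk)
  have hm' : m < 128 := by
    have : sPerm.length = 128 := by decide +kernel
    omega
  have hS : S m = mulL p (S k) := by simp [S, List.getD_eq_getElem, hm, he]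
  exact ⟨m, hm', hS ▸ rel_mul (good_S k hk) ha h1, hS ▸ conj_mul (good_S k hk) ha' h2⟩

theorem gen_img {g : G}
    (hg : g ∈ ({g | ∃ n < 11, el (cWord n) = g} ∪ {g | ∃ j < aw.length, el (aWord j) = g} : Set G)) :
    ∃ p p', (∀ k < 128, mulL p (S k) ∈ sPerm) ∧ (∀ k < 128, mulL p' (S k) ∈ sPerm) ∧
      (Good p ∧ Rel g p ∧ ConjP g p) ∧ (Good p' ∧ Rel g⁻¹ p' ∧ ConjP g⁻¹ p') := by
  have hid : ∀ k < 128, mulL (List.range 23) (S k) ∈ sPerm := by decide +kernel
  rcases hg with ⟨n, hn, rfl⟩ | ⟨j, hj, rfl⟩
  · have h : ∀ n < 11, relW (cWord n) (List.range 23) = true ∧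
        relW (cWord n).reverse (List.range 23) = true := by decide +kernel
    refine ⟨_, _, hid, hid, relW_sound (h n hn).1, ?_⟩
    rw [← el_reverse]
    exact relW_sound (h n hn).2
  · have h : ∀ j < aw.length, relW (aWord j) (aPerm.getD j []) = true ∧
        relW (aWord j).reverse (aInv.getD j []) = true ∧
        (∀ k < 128, mulL (aPerm.getD j []) (S k) ∈ sPerm ∧ mulL (aInv.getD j []) (S k) ∈ sPerm) := by
      decide +kernel
    refine ⟨_, _, fun k hk => ((h j hj).2.2 k hk).1, fun k hk => ((h j hj).2.2 k hk).2,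
      relW_sound (h j hj).1, ?_⟩
    rw [← el_reverse]
    exact relW_sound (h j hj).2.1

theorem T0_img {g : G} (hg : g ∈ T0) : Img g := by
  induction hg using Subgroup.closure_induction_left with
  | one => exact ⟨0, by norm_num, S_zero_rel.1, S_zero_rel.2⟩
  | mul_left x hx y hy ih =>
    obtain ⟨p, -, hc, -, ⟨h1, h2, h3⟩, -⟩ := gen_img hx
    exact img_mul_left h1 h2 h3 hc ih
  | inv_mul_cancel x hx y hy ih =>
    obtain ⟨-, p, -, hc, -, ⟨h1, h2, h3⟩⟩ := gen_img hx
    exact img_mul_left h1 h2 h3 hc ih

theorem conjP_of_rel {g : G} (hg : g ∈ T0) {k : Nat} (hk : k < 128) (h : Rel g (S k)) : ConjP g (S k) := by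
  obtain ⟨m, hm, h1, h2⟩ := T0_img hg
  rwa [rel_unique (good_S k hk) (good_S m hm) h h1]

theorem tree_lift : ∀ k < 128, ∃ g ∈ T0, Rel g (S k) := by
  intro k
  induction k using Nat.strong_induction_on with
  | _ k ih =>
    intro hk
    rcases Nat.eq_zero_or_pos k with rfl | hpos
    · exact ⟨1, T0.one_mem, S_zero_rel.1⟩
    · have h : ∀ k < 127, sTree.getD k 0 / 4 ≤ k ∧ sTree.getD k 0 % 4 < aw.length ∧
          S (k + 1) = mulL (aPerm.getD (sTree.getD k 0 % 4) []) (S (sTree.getD k 0 / 4)) := by
        decide +kernel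
      have hgen : ∀ j < aw.length, relW (aWord j) (aPerm.getD j []) = true := by decide +kernel
      obtain ⟨k, rfl⟩ : ∃ k', k = k' + 1 := ⟨k - 1, by omega⟩
      obtain ⟨h1, h2, h4⟩ := h k (by omega)
      have h3 := hgen _ h2
      obtain ⟨g, hg, hr⟩ := ih (sTree.getD k 0 / 4) (by omega) (by omega)
      exact ⟨_, T0.mul_mem (Subgroup.subset_closure (Or.inr ⟨_, h2, rfl⟩)) hg,
        h4 ▸ rel_mul (good_S _ (by omega)) (relW_sound h3).2.1 hr⟩

/-- The clique as a tuple. -/
def tup : Fin 23 → Nat := fun i => pt i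

theorem stab_tup : MulAction.stabilizer G tup = fix cl := by
  ext g
  rw [MulAction.mem_stabilizer_iff, funext_iff]
  constructor
  · intro h p hp
    obtain ⟨i, hi, rfl⟩ := List.getElem_of_mem hp
    have hl : cl.length = 23 := by decide +kernel
    have := h ⟨i, hl ▸ hi⟩
    simpa [tup, pt, List.getD_eq_getElem, hi, smul_eq] using this
  · intro h i
    exact h _ ((by decide +kernel : ∀ i < 23, pt i ∈ cl) i i.2)

/-- The tuple of a listed permutation. -/
def imgTup (k : Nat) : Fin 23 → Nat := fun i => pt (ap (S k) i)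

theorem smul_tup {g : G} {k : Nat} (h : Rel g (S k)) : g • tup = imgTup k := funext fun i => h i i.2

theorem imgTup_inj {i j : Nat} (hi : i < 128) (hj : j < 128) (h : imgTup i = imgTup j) : i = j := by
  refine S_inj i hi j hj (List.ext_getElem ((good_S i hi).1.trans (good_S j hj).1.symm) fun n hn hn' => ?_)
  have h23 : n < 23 := (good_S i hi).1 ▸ hn
  have := pt_inj _ ((good_S i hi).2 n h23) _ ((good_S j hj).2 n h23) (congrFun h ⟨n, h23⟩)
  simpa [ap, List.getD_eq_getElem, hn, hn'] using this

theorem card_le_T0 (A : Subgroup G) (hA : A ≤ T0) :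
    Nat.card A = {k | k < 128 ∧ ∃ a ∈ A, Rel a (S k)}.ncard * Nat.card (A ⊓ V : Subgroup G) := by
  rw [orbit_stab A tup, stab_tup, eq_V_cl]
  congr 1
  rw [← Set.InjOn.ncard_image (f := imgTup) fun i hi j hj h => imgTup_inj hi.1 hj.1 h]
  congr 1
  ext x
  constructor
  · rintro ⟨⟨a, ha⟩, rfl⟩
    obtain ⟨k, hk, hr, -⟩ := T0_img (hA ha)
    exact ⟨k, ⟨hk, a, ha, hr⟩, (smul_tup hr).symm⟩
  · rintro ⟨k, ⟨hk, a, ha, hr⟩, rfl⟩
    exact ⟨⟨a, ha⟩, smul_tup hr⟩

theorem card_T0 : Nat.card T0 = 2 ^ 18 := by
  rw [card_le_T0 T0 le_rfl, inf_eq_right.mpr V_le_T0, card_V.1]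
  have : {k | k < 128 ∧ ∃ a ∈ T0, Rel a (S k)} = Set.Iio 128 :=
    Set.ext fun k => ⟨fun h => h.1, fun h => ⟨h, tree_lift k h⟩⟩
  rw [this, Set.ncard_Iio_nat]
  norm_num

theorem T0_normalizes {g : G} (hg : g ∈ T0) {v : G} (hv : v ∈ V) : g * v * g⁻¹ ∈ V := by
  rw [← eq_V_cl] at hv ⊢
  intro p hp
  obtain ⟨k, hk, hr, -⟩ := T0_img (T0.inv_mem hg)
  obtain ⟨i, hi, rfl⟩ : ∃ i < 23, pt i = p := (by decide +kernel : ∀ p ∈ cl, ∃ i < 23, pt i = p) p hp
  rw [act_mul, act_mul, hr i hi,
    hv _ ((by decide +kernel : ∀ i < 23, pt i ∈ cl) _ ((good_S k hk).2 i hi)), ← hr i hi, ← act_mul,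
    mul_inv_cancel, act_one]

/-- The action of a listed permutation on masks. -/
def mimg (l : List Nat) (k : Nat) : Nat → Nat
  | 0 => 0
  | n + 1 => (if k.testBit n then kj.getD (ap l (bas.getD n 0)) 0 else 0) ^^^ mimg l k n

theorem mimg_lt {l : List Nat} (hl : Good l) (k : Nat) : ∀ n, mimg l k n < 2048
  | 0 => by simp [mimg]
  | n + 1 => by
    have h : ∀ j < 23, kj.getD j 0 < 2 ^ 11 := by decide +kernel
    refine Nat.xor_lt_two_pow (n := 11) ?_ (mimg_lt hl k n)
    split
    · refine h _ (hl.2 _ ?_)
      by_cases hn : n < bas.length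
      · rw [List.getD_eq_getElem _ _ hn]
        exact (by decide +kernel : ∀ b ∈ bas, b < 23) _ (List.getElem_mem hn)
      · rw [List.getD_eq_default _ _ (by omega)]; norm_num
    · norm_num

theorem conj_e {g : G} {l : List Nat} (hl : Good l) (hg : ConjP g l) (k : Nat) :
    ∀ n ≤ 11, g * el (cw k n) * g⁻¹ = e (mimg l k n)
  | 0, _ => by simp [cw, mimg, el_nil, e_zero]
  | n + 1, hn => by
    rw [cw, el_append, mimg, e_xor, ← conj_e hl hg k n (by omega)]
    split
    · have hb : ∀ n < 11, bas.getD n 0 < 23 := by decide +kernel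
      have hd : ∀ j < 23, eqW (cw (kj.getD j 0) 11) (dw.getD j []) = true := by decide +kernel
      rw [e, el_eq (hd _ (hl.2 _ (hb n (by omega)))), ← hg _ (hb n (by omega)), cWord]
      group
    · simp [el_nil, e_zero]

/-- Subgroup number `i` of the group of order 128. -/
def sub (i : Nat) : List Nat := subs.getD i []

/-- Number of fixed masks. -/
def fixCount (gens : List Nat) : Nat :=
  (List.range 2048).countP fun k => gens.all fun x => Nat.beq (mimg (S x) k 11) k

/-- Check a derivation and return the derived list. -/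
def derive : List Op → List Nat → Option (List Nat)
  | [], known => some known
  | o :: r, known =>
    if o.i < known.length ∧ o.y < 128 ∧ (if o.isMul then
        o.j < known.length ∧ S o.y = mulL (S (known.getD o.i 0)) (S (known.getD o.j 0))
      else o.j < 128 ∧ mulL (S o.y) (S o.j) = mulL (S o.j) (S (known.getD o.i 0)))
    then derive r (known ++ [o.y]) else none

/-- Check one witness. -/
def witOk (i x : Nat) : Wit → Bool
  | .mem => decide (x ∈ sub i)
  | .sq => decide (mulL (S x) (S x) ≠ S 0)
  | .com l => decide (l ∈ sub i ∧ mulL (S x) (S l) ≠ mulL (S l) (S x))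
  | .conj t y => decide (t < 128 ∧ y < 128 ∧ mulL (S y) (S t) = mulL (S t) (S x) ∧
      mulL (S x) (S y) ≠ mulL (S y) (S x))
  | .grow k ops => decide (i < k ∧ k < 7) &&
      match derive ops (sub i ++ [x]) with
      | some known => (sub k).all fun y => known.contains y
      | none => false

theorem wit_all : ∀ i < 7, ∀ x < 128, witOk i x ((wits.getD i []).getD x .mem) = true := by
  have h : ((List.range 7).all fun i => (List.range 128).all fun x =>
      witOk i x ((wits.getD i []).getD x .mem)) = true := by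
    decide +kernel
  simpa [List.all_eq_true] using h

theorem bound_all : ∀ i < 7, 0 < i → (sub i).length * fixCount (subGens.getD i []) ≤ 1024 := by decide +kernel

theorem subGens_mem : ∀ i < 7, ∀ x ∈ subGens.getD i [], x ∈ sub i := by decide +kernel

theorem mem_S : ∀ t < 128, ∀ v < 23, v ∈ S t := by
  have h : ((List.range 128).all fun t => (List.range 23).all fun v => (S t).contains v) = true := by
    decide +kernel
  simpa [List.all_eq_true] using h

section Bound

variable (A : Subgroup G) (hA : A ≤ T0) (hN : ∀ t ∈ T0, ∀ a ∈ A, t * a * t⁻¹ ∈ A)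
  (hE : Cfsg.IsElementaryAbelian 2 A)

/-- The image contains the listed permutation. -/
def In (k : Nat) : Prop := k < 128 ∧ ∃ a ∈ A, Rel a (S k)

theorem in_zero : In A 0 := ⟨by norm_num, 1, A.one_mem, S_zero_rel.1⟩

theorem in_mul {i j y : Nat} (hy : y < 128) (h : S y = mulL (S i) (S j)) (hi : In A i) (hj : In A j) :
    In A y := by
  obtain ⟨-, a, ha, h1⟩ := hi
  obtain ⟨hj', b, hb, h2⟩ := hj
  exact ⟨hy, a * b, A.mul_mem ha hb, h ▸ rel_mul (good_S j hj') h1 h2⟩

include hN in
theorem in_conj {i t y : Nat} (ht : t < 128) (hy : y < 128) (h : mulL (S y) (S t) = mulL (S t) (S i))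
    (hi : In A i) : In A y := by
  obtain ⟨hi', a, ha, h1⟩ := hi
  obtain ⟨g, hg, h2⟩ := tree_lift t ht
  refine ⟨hy, g * a * g⁻¹, hN g hg a ha, fun v hv => ?_⟩
  obtain ⟨n, hn', rfl⟩ := List.getElem_of_mem (mem_S t ht v hv)
  have hn : n < 23 := (good_S t ht).1 ▸ hn'
  rw [show (S t)[n] = ap (S t) n by simp [ap, List.getD_eq_getElem, hn']] at hv ⊢
  rw [← ap_mulL (good_S t ht) hn, h, ← h2 n hn, ← act_mul, show g * a * g⁻¹ * g = g * a by group]
  exact rel_mul (good_S i hi') h2 h1 n hn

include hE in
theorem in_comm {i j : Nat} (hi : In A i) (hj : In A j) : mulL (S i) (S j) = mulL (S j) (S i) := by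
  obtain ⟨hi', a, ha, h1⟩ := hi
  obtain ⟨hj', b, hb, h2⟩ := hj
  have hab : a * b = b * a := congrArg Subtype.val (hE.1.is_comm.comm (⟨a, ha⟩ : A) ⟨b, hb⟩)
  exact rel_unique (good_mulL (good_S i hi') (good_S j hj')) (good_mulL (good_S j hj') (good_S i hi'))
    (rel_mul (good_S j hj') h1 h2) (hab ▸ rel_mul (good_S i hi') h2 h1)

include hE in
theorem in_sq {i : Nat} (hi : In A i) : mulL (S i) (S i) = S 0 := by
  obtain ⟨hi', a, ha, h1⟩ := hi
  have h2 := hE.2 a ha
  rw [pow_two] at h2
  exact rel_unique (good_mulL (good_S i hi') (good_S i hi')) (good_S 0 (by norm_num))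
    (rel_mul (good_S i hi') h1 h1) (h2 ▸ S_zero_rel.1)

include hN in
theorem derive_sound : ∀ (ops : List Op) (known out : List Nat), derive ops known = some out →
    (∀ y ∈ known, In A y) → ∀ y ∈ out, In A y := by
  intro ops
  induction ops with
  | nil =>
    intro known out h hk
    simp only [derive, Option.some.injEq] at h
    exact h ▸ hk
  | cons o r ih =>
    intro known out h hk
    cases hm : o.isMul <;> simp only [derive, hm, if_true, if_false, Bool.false_eq_true] at h <;>
      split at h <;> try (simp at h; done)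
    all_goals
      rename_i hc
      obtain ⟨h1, h2, h3⟩ := hc
      refine ih _ _ h fun y hy => ?_
      rcases List.mem_append.mp hy with hy | hy
      · exact hk y hy
      · rw [List.mem_singleton] at hy
        subst hy
        have hi : In A (known.getD o.i 0) := by
          rw [List.getD_eq_getElem _ _ h1]; exact hk _ (List.getElem_mem h1)
        first
        | exact in_conj A hN h3.1 h2 h3.2 hi
        | exact in_mul A h2 h3.2 hi (by rw [List.getD_eq_getElem _ _ h3.1]; exact hk _ (List.getElem_mem h3.1))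

include hN hE in
theorem classify : ∀ d i, i + d = 6 → (∀ y ∈ sub i, In A y) →
    ∃ m < 7, (∀ y ∈ sub m, In A y) ∧ ∀ x, In A x → x ∈ sub m := by
  intro d
  induction d using Nat.strong_induction_on with
  | _ d ih =>
    intro i hid hin
    by_cases hall : ∀ x, In A x → x ∈ sub i
    · exact ⟨i, by omega, hin, hall⟩
    push Not at hall
    obtain ⟨x, hx, hxi⟩ := hall
    have hw := wit_all i (by omega) x hx.1
    generalize (wits.getD i []).getD x .mem = w at hw
    cases w with
    | mem => simp only [witOk, decide_eq_true_eq] at hw; exact absurd hw hxi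
    | sq => simp only [witOk, decide_eq_true_eq] at hw; exact absurd (in_sq A hE hx) hw
    | com l =>
      simp only [witOk, decide_eq_true_eq] at hw
      exact absurd (in_comm A hE hx (hin l hw.1)) hw.2
    | conj t y =>
      simp only [witOk, decide_eq_true_eq] at hw
      obtain ⟨ht, hy, h1, h2⟩ := hw
      exact absurd (in_comm A hE hx (in_conj A hN ht hy h1 hx)) h2
    | grow k ops =>
      simp only [witOk, Bool.and_eq_true, decide_eq_true_eq] at hw
      obtain ⟨⟨hik, hk⟩, hw⟩ := hw
      split at hw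
      · rename_i known hd
        simp only [List.all_eq_true, List.contains_iff_mem] at hw
        refine ih (6 - k) (by omega) k (by omega) fun y hy => ?_
        refine derive_sound A hN ops _ _ hd ?_ y (hw y hy)
        intro z hz
        rcases List.mem_append.mp hz with hz | hz
        · exact hin z hz
        · rw [List.mem_singleton] at hz; exact hz ▸ hx
      · simp at hw

include hA hN hE in
/-- A normal elementary abelian subgroup has order at most 2^11, with equality only for `V`. -/
theorem bound : Nat.card A ≤ 2048 ∧ (Nat.card A = 2048 → A = V) := by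
  obtain ⟨m, hm, hin, hall⟩ := classify A hN hE 6 0 rfl (by
    have h : sub 0 = [0] := by decide +kernel
    intro y hy
    rw [h, List.mem_singleton] at hy
    exact hy ▸ in_zero A)
  have hcard := card_le_T0 A hA
  have hI : {k | k < 128 ∧ ∃ a ∈ A, Rel a (S k)}.ncard ≤ (sub m).length := by
    refine le_trans (Set.ncard_le_ncard (t := ((sub m).toFinset : Set Nat))
      (fun k hk => List.mem_toFinset.mpr (hall k hk))) ?_
    rw [Set.ncard_coe_finset]
    exact List.toFinset_card_le _
  rcases Nat.eq_zero_or_pos m with rfl | hm0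
  · have hle : A ≤ V := by
      intro a ha
      obtain ⟨k, hk, hr, -⟩ := T0_img (hA ha)
      have h0 : sub 0 = [0] := by decide +kernel
      have hk0 := hall k ⟨hk, a, ha, hr⟩
      rw [h0, List.mem_singleton] at hk0
      subst hk0
      rw [← eq_V_cl]
      intro p hp
      obtain ⟨i, hi, rfl⟩ : ∃ i < 23, pt i = p :=
        (by decide +kernel : ∀ p ∈ cl, ∃ i < 23, pt i = p) p hp
      rw [hr i hi, (by decide +kernel : ∀ i < 23, ap (S 0) i = i) i hi]
    have h1 := Subgroup.card_le_of_le hle
    rw [card_V.1] at h1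
    exact ⟨h1, fun h => Subgroup.eq_of_le_of_card_ge hle (by rw [h, card_V.1])⟩
  · have hV : Nat.card (A ⊓ V : Subgroup G) ≤ fixCount (subGens.getD m []) := by
      let F := (Finset.range 2048).filter fun k =>
        ((subGens.getD m []).all fun x => Nat.beq (mimg (S x) k 11) k) = true
      have hF : F.card = fixCount (subGens.getD m []) := by
        rw [fixCount, List.countP_eq_length_filter]
        rw [← List.toFinset_card_of_nodup (List.nodup_range.filter _)]
        congr 1
        ext k
        simp [F]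
      rw [← hF, ← Set.ncard_coe_finset,
        show Nat.card (A ⊓ V : Subgroup G) = ((A ⊓ V : Subgroup G) : Set G).ncard from Nat.card_coe_set_eq _]
      refine le_trans (Set.ncard_le_ncard (t := e '' (F : Set Nat)) ?_ ((Finset.finite_toSet F).image _))
        (Set.ncard_image_le (Finset.finite_toSet F))
      intro v hv
      obtain ⟨hvA, hvV⟩ := hv
      obtain ⟨k, hk, rfl⟩ := e_surj hvV
      refine ⟨k, ?_, rfl⟩
      simp only [F, Finset.coe_filter, Finset.mem_range, List.all_eq_true, Nat.beq_eq, Set.mem_ofPred_eq]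
      refine ⟨hk, fun x hx => ?_⟩
      obtain ⟨hx', a, ha, hr⟩ := hin x (subGens_mem m hm x hx)
      have hc := conj_e (good_S x hx') (conjP_of_rel (hA ha) hx' hr) k 11 le_rfl
      have hab : a * e k = e k * a := congrArg Subtype.val (hE.1.is_comm.comm (⟨a, ha⟩ : A) ⟨e k, hvA⟩)
      refine e_inj (mimg_lt (good_S x hx') k 11) hk ?_
      rw [← hc]
      show a * e k * a⁻¹ = e k
      rw [hab, mul_inv_cancel_right]
    have h1 : Nat.card A ≤ 1024 := by
      rw [hcard]
      exact le_trans (Nat.mul_le_mul hI hV) (bound_all m hm hm0)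
    exact ⟨by omega, fun h => by omega⟩

end Bound

theorem V_elementary : Cfsg.IsElementaryAbelian 2 V := by
  refine ⟨⟨⟨fun a b => Subtype.ext (comm_V a a.2 b b.2)⟩⟩, fun a ha => ?_⟩
  obtain ⟨k, -, rfl⟩ := e_surj ha
  rw [pow_two]
  exact e_sq k

theorem main (T : Sylow 2 G) :
    (∀ A : Subgroup G, A ≤ T → (A.subgroupOf T).Normal → Cfsg.IsElementaryAbelian 2 A →
        Nat.card A ≤ 2 ^ 11) ∧
    ∃! A : Subgroup G, A ≤ T ∧ (A.subgroupOf T).Normal ∧ Cfsg.IsElementaryAbelian 2 A ∧
        Nat.card A = 2 ^ 11 := by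
  haveI : Fact (Nat.Prime 2) := ⟨Nat.prime_two⟩
  obtain ⟨P, hP⟩ := (IsPGroup.of_card card_T0).exists_le_sylow
  have hPT : (P : Subgroup G) = T0 := by
    symm
    refine Subgroup.eq_of_le_of_card_ge hP ?_
    obtain ⟨n, hn⟩ := IsPGroup.iff_card.mp P.isPGroup'
    have hd := Subgroup.card_subgroup_dvd_card (P : Subgroup G)
    rw [hn, card_p] at hd
    rw [card_T0, hn]
    refine Nat.pow_le_pow_right (by norm_num) ?_
    by_contra hlt
    have h19 : (2 : Nat) ^ 19 ∣ 4089470473293004800 := (pow_dvd_pow 2 (by omega)).trans hd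
    norm_num at h19
  obtain ⟨g, hg⟩ := MulAction.exists_smul_eq G P T
  let f := MulAut.conj g
  have hT : (T : Subgroup G) = T0.map f.toMonoidHom := by rw [← hg, ← hPT]; rfl
  have hcomap : ∀ (A : Subgroup G), A ≤ T → (A.subgroupOf T).Normal →
      A.comap f.toMonoidHom ≤ T0 ∧
        ∀ t ∈ T0, ∀ a ∈ A.comap f.toMonoidHom, t * a * t⁻¹ ∈ A.comap f.toMonoidHom := by
    intro A hA hn
    refine ⟨fun x hx => ?_, fun t ht a ha => ?_⟩
    · have h := hA (show f x ∈ A from hx)
      rw [hT] at h
      obtain ⟨y, hy, he⟩ := h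
      exact f.injective he ▸ hy
    · show f (t * a * t⁻¹) ∈ A
      rw [map_mul, map_mul, map_inv]
      have htT : f t ∈ (T : Subgroup G) := by rw [hT]; exact ⟨t, ht, rfl⟩
      exact hn.conj_mem ⟨f a, hA ha⟩ ha ⟨f t, htT⟩
  have hcard : ∀ A : Subgroup G, Nat.card (A.comap f.toMonoidHom) = Nat.card A := fun A => by
    rw [Subgroup.comap_equiv_eq_map_symm']
    exact (Nat.card_congr (A.equivMapOfInjective _ f.symm.injective).toEquiv).symm
  have hea : ∀ A : Subgroup G, Cfsg.IsElementaryAbelian 2 A →
      Cfsg.IsElementaryAbelian 2 (A.comap f.toMonoidHom) := fun A hA => by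
    refine ⟨⟨⟨fun a b => Subtype.ext (f.injective ?_)⟩⟩, fun a ha => f.injective ?_⟩
    · show f (a.1 * b.1) = f (b.1 * a.1)
      rw [map_mul, map_mul]
      exact congrArg Subtype.val (hA.1.is_comm.comm (⟨f a.1, a.2⟩ : A) ⟨f b.1, b.2⟩)
    · rw [map_pow, map_one]; exact hA.2 _ ha
  refine ⟨fun A hA hn he => ?_, V.map f.toMonoidHom, ⟨?_, ?_, ?_, ?_⟩, ?_⟩
  · obtain ⟨h1, h2⟩ := hcomap A hA hn
    rw [← hcard A]
    exact (bound _ h1 h2 (hea A he)).1
  · rw [hT]; exact Subgroup.map_mono V_le_T0
  · refine ⟨fun v hv t => ?_⟩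
    obtain ⟨x, hx, he⟩ := hv
    have ht : (t : G) ∈ T0.map f.toMonoidHom := (SetLike.ext_iff.mp hT _).mp t.2
    obtain ⟨s, hs, hst⟩ := ht
    refine ⟨s * x * s⁻¹, T0_normalizes hs hx, ?_⟩
    show f (s * x * s⁻¹) = _
    rw [map_mul, map_mul, map_inv, show f x = _ from he, show f s = _ from hst]
    rfl
  · refine ⟨⟨⟨?_⟩⟩, ?_⟩
    · rintro ⟨_, a, ha, rfl⟩ ⟨_, b, hb, rfl⟩
      refine Subtype.ext ?_
      show f a * f b = f b * f a
      rw [← map_mul, ← map_mul, comm_V a ha b hb]
    · rintro _ ⟨a, ha, rfl⟩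
      rw [← map_pow, V_elementary.2 a ha, map_one]
  · rw [← Nat.card_congr (V.equivMapOfInjective _ f.injective).toEquiv, card_V.1]
    norm_num
  · rintro A ⟨hA, hn, he, hc⟩
    obtain ⟨h1, h2⟩ := hcomap A hA hn
    have h := (bound _ h1 h2 (hea A he)).2 (by rw [hcard A, hc]; norm_num)
    rw [← h, Subgroup.map_comap_eq_self_of_surjective f.surjective]

end Cfsg.Agent.Fi23SylowTwo
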