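import Mathlib
import Cfsg.Prelude.Def_KGroupFacts

/-!
Automorphisms of a group isomorphic to the automorphism group of a simple group with outer group of order two.
-/

set_option autoImplicit false
set_option linter.style.haveILetI false
set_option linter.unusedSectionVars false

namespace Cfsg.Agent.LargeFischerIndexTwo28Aut

open Subgroup

variable {S : Type*} [Group S] [Finite S] [IsSimpleGroup S]

theorem center_bot (hS : ¬ IsMulCommutative S) : center S = ⊥ :=
  (Subgroup.Normal.eq_bot_or_eq_top inferInstance).resolve_right fun h => hS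
    ⟨⟨fun a b => mem_center_iff.1 (h ▸ mem_top b : b ∈ center S) a⟩⟩

theorem conj_injective (hS : ¬ IsMulCommutative S) :
    Function.Injective (MulAut.conj : S →* MulAut S) := by
  rw [← MonoidHom.ker_eq_bot_iff, eq_bot_iff, ← center_bot hS]
  intro x hx
  rw [mem_center_iff]
  intro g
  have := DFunLike.congr_fun (MonoidHom.mem_ker.1 hx) g
  simp only [MulAut.conj_apply, MulAut.one_apply] at this
  exact (mul_inv_eq_iff_eq_mul.1 this).symm

theorem conj_comm (β : MulAut S) (s : S) : β * MulAut.conj s * β⁻¹ = MulAut.conj (β s) := by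
  ext x
  simp [MulAut.conj_apply]

/-- An element centralising the inner automorphisms is trivial. -/
theorem eq_one_of_comm (hS : ¬ IsMulCommutative S) {β : MulAut S}
    (h : ∀ s, β * MulAut.conj s = MulAut.conj s * β) : β = 1 := by
  ext s
  refine conj_injective hS ?_
  rw [← conj_comm, h s, mul_inv_cancel_right]
  rfl

theorem inn_le_of_index_two (hS : ¬ IsMulCommutative S) (h2 : Nat.card (Cfsg.Out S) = 2)
    (I : Subgroup (MulAut S)) (hI : I.index = 2) : I = Cfsg.Inn S := by
  haveI : I.Normal := Subgroup.normal_of_index_eq_two hI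
  have hle : Cfsg.Inn S ≤ I := by
    rintro _ ⟨s, rfl⟩
    have hN : (I.comap (MulAut.conj : S →* MulAut S)).Normal := inferInstance
    rcases hN.eq_bot_or_eq_top with h | h
    · exfalso
      have hdvd : (I.comap (MulAut.conj : S →* MulAut S)).index ∣ 2 := by
        rw [Subgroup.index_comap, ← hI]
        exact Subgroup.relIndex_dvd_index_of_normal I _
      rw [h, Subgroup.index_bot] at hdvd
      have : Nat.card S ≤ 2 := Nat.le_of_dvd (by norm_num) hdvd
      apply hS
      rcases Nat.eq_zero_or_pos (Nat.card S) with h0 | h0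
      · exact absurd h0 Nat.card_pos.ne'
      · obtain h1 | h1 : Nat.card S = 1 ∨ Nat.card S = 2 := by omega
        · haveI := (Nat.card_eq_one_iff_unique.1 h1).1
          exact ⟨⟨fun a b => Subsingleton.elim _ _⟩⟩
        · haveI := isCyclic_of_prime_card (p := 2) h1
          exact IsCyclic.isMulCommutative
    · exact (h ▸ mem_top s : s ∈ I.comap _)
  have hInn : (Cfsg.Inn S).index = 2 := by rw [Subgroup.index_eq_card]; exact h2
  refine (Subgroup.eq_of_le_of_card_ge hle (le_of_eq ?_)).symm
  have h3 := Subgroup.card_mul_index I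
  have h4 := Subgroup.card_mul_index (Cfsg.Inn S)
  rw [hI] at h3
  rw [hInn] at h4
  omega

theorem inn_le_comm (hS : ¬ IsMulCommutative S) : Cfsg.Inn S ≤ commutator (MulAut S) := by
  rintro _ ⟨s, rfl⟩
  have hc : commutator S = ⊤ :=
    (Subgroup.Normal.eq_bot_or_eq_top inferInstance).resolve_left fun h => hS
      ((commutator_eq_bot_iff S).1 h)
  have : MulAut.conj s ∈ (commutator S).map (MulAut.conj : S →* MulAut S) :=
    Subgroup.mem_map_of_mem _ (hc ▸ mem_top s)
  rw [commutator_def, Subgroup.map_commutator] at this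
  exact commutator_mono le_top le_top this

theorem comm_le_inn (h2 : Nat.card (Cfsg.Out S) = 2) : commutator (MulAut S) ≤ Cfsg.Inn S := by
  haveI := isCyclic_of_prime_card (p := 2) (α := Cfsg.Out S) h2
  exact (Subgroup.Normal.quotient_commutative_iff_commutator_le.mp IsCyclic.isMulCommutative)

/-- An automorphism acts on the inner automorphisms as some element does. -/
theorem exists_act (hS : ¬ IsMulCommutative S) (h2 : Nat.card (Cfsg.Out S) = 2)
    (γ : MulAut S →* MulAut S) (hγ : Function.Injective γ) :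
    ∃ β : MulAut S, ∀ i ∈ Cfsg.Inn S, γ i = β * i * β⁻¹ := by
  have hmem : ∀ s, γ (MulAut.conj s) ∈ Cfsg.Inn S := fun s => by
    refine comm_le_inn h2 ?_
    have h := Subgroup.mem_map_of_mem γ (inn_le_comm hS ⟨s, rfl⟩)
    rw [commutator_def, Subgroup.map_commutator] at h
    exact commutator_mono le_top le_top h
  choose f hf using hmem
  let F : S →* S := MonoidHom.mk' f fun a b => conj_injective hS (by
    rw [map_mul, hf, hf, hf, map_mul, map_mul])
  have hF : Function.Bijective F :=
    Finite.injective_iff_bijective.1 fun a b e => conj_injective hS (hγ (by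
      rw [← hf a, ← hf b]; exact congrArg _ e))
  refine ⟨MulEquiv.ofBijective F hF, ?_⟩
  rintro _ ⟨s, rfl⟩
  rw [← hf s, conj_comm]
  rfl

/-- A homomorphism measuring commutators with a central subgroup is trivial on a perfect group. -/
theorem comm_of_perfect {X : Type*} [Group X] (K : Subgroup X) (hK : commutator K = ⊤) (d t : X)
    (htK : ∀ k ∈ K, k * t = t * k) (h : ∀ k ∈ K, d * k * d⁻¹ * k⁻¹ ∈ zpowers t) :
    ∀ k ∈ K, d * k = k * d := by
  have hcen : ∀ c ∈ zpowers t, ∀ k ∈ K, k * c = c * k := by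
    rintro c ⟨n, rfl⟩ k hk
    exact Commute.zpow_right (htK k hk) n
  let F : K →* zpowers t := MonoidHom.mk' (fun k => ⟨d * k * d⁻¹ * (k : X)⁻¹, h k k.2⟩) fun a b =>
    Subtype.ext (by
      show d * ((a : X) * b) * d⁻¹ * ((a : X) * b)⁻¹ = d * a * d⁻¹ * (a : X)⁻¹ * (d * b * d⁻¹ * (b : X)⁻¹)
      calc d * ((a : X) * b) * d⁻¹ * ((a : X) * b)⁻¹
          = d * a * d⁻¹ * ((d * b * d⁻¹ * (b : X)⁻¹) * (a : X)⁻¹) := by group
        _ = d * a * d⁻¹ * ((a : X)⁻¹ * (d * b * d⁻¹ * (b : X)⁻¹)) := by
          rw [← hcen _ (h b b.2) _ (inv_mem a.2)]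
        _ = _ := by group)
  letI : CommGroup (zpowers t) :=
    { (zpowers t).toGroup with mul_comm := fun a b => Subtype.ext (by
        obtain ⟨n, hn⟩ := a.2
        obtain ⟨m, hm⟩ := b.2
        show (a : X) * b = b * a
        rw [← hn, ← hm]
        exact zpow_mul_comm t n m) }
  intro k hk
  have h1 : (⟨k, hk⟩ : K) ∈ F.ker := Abelianization.commutator_subset_ker F (hK ▸ mem_top _)
  have h2 : d * k * d⁻¹ * k⁻¹ = 1 := congrArg Subtype.val (MonoidHom.mem_ker.1 h1)
  exact mul_inv_eq_iff_eq_mul.1 (mul_inv_eq_one.1 h2)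

end Cfsg.Agent.LargeFischerIndexTwo28Aut
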