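import Mathlib
import Cfsg.Agent.Lib.Fi22TypeH94
import Cfsg.Agent.Lib.ComponentsBasic
import Cfsg.Agent.S5377
import Cfsg.Prelude.Def_CaseTheorems

/-!
Facts on the presented group Fi22 and their transport along an isomorphism.
-/

set_option autoImplicit false
set_option maxRecDepth 100000
set_option linter.style.haveILetI false

namespace Cfsg.Agent.LargeFischerIndexTwo28Fi22

open Cfsg.Agent.CosetCertPres
open Cfsg.Agent.CosetCertU62 (P22 T22 HH)

/-- An involution whose centralizer is a double cover of the unitary group, not weakly closed. -/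
def Pt (H : Type*) [Group H] : Prop :=
  ∃ d' : H, orderOf d' = 2 ∧ Cfsg.IsQuasisimple (Subgroup.centralizer ({d'} : Set H)) ∧
    (∃ (K : Type) (_ : Field K) (_ : Fintype K), Fintype.card K = 4 ∧
      ∃ _ : ((Subgroup.zpowers d').subgroupOf (Subgroup.centralizer ({d'} : Set H))).Normal,
        Nonempty ((Subgroup.centralizer ({d'} : Set H)) ⧸
          (Subgroup.zpowers d').subgroupOf (Subgroup.centralizer ({d'} : Set H)) ≃* Cfsg.PSU 6 K 2)) ∧
    ∃ g, g * d' * g⁻¹ ∈ Subgroup.centralizer ({d'} : Set H) ∧ g * d' * g⁻¹ ≠ d'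

/-- The property of the quotient used in the recognition of the group of type M(23). -/
def Good (H : Type*) [Group H] : Prop :=
  (∃ E : Set H, Cfsg.IsThreeTranspositionClass E ∧ Cfsg.IsOfTypeM22 H E) ∧ Pt H

theorem centralizer_map {H H' : Type*} [Group H] [Group H'] (e : H ≃* H') (d : H) :
    (Subgroup.centralizer ({d} : Set H)).map e.toMonoidHom = Subgroup.centralizer ({e d} : Set H') := by
  ext x
  simp only [Subgroup.mem_map, Subgroup.mem_centralizer_singleton_iff, MulEquiv.coe_toMonoidHom]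
  refine ⟨?_, fun h => ⟨e.symm x, e.injective ?_, e.apply_symm_apply x⟩⟩
  · rintro ⟨y, hy, rfl⟩
    rw [← map_mul, hy, map_mul]
  · rw [map_mul, map_mul, e.apply_symm_apply]
    exact h

theorem pt_map {H H' : Type*} [Group H] [Group H'] (e : H ≃* H') (h : Pt H) : Pt H' := by
  obtain ⟨d, hd, hq, ⟨K, iK, fK, hK, hn, ⟨ψ⟩⟩, g, hg1, hg2⟩ := h
  let e' : Subgroup.centralizer ({d} : Set H) ≃* Subgroup.centralizer ({e d} : Set H') :=
    ((Subgroup.centralizer ({d} : Set H)).equivMapOfInjective e.toMonoidHom e.injective).trans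
      (MulEquiv.subgroupCongr (centralizer_map e d))
  have hmap : ((Subgroup.zpowers d).subgroupOf (Subgroup.centralizer ({d} : Set H))).map e'.toMonoidHom =
      (Subgroup.zpowers (e d)).subgroupOf (Subgroup.centralizer ({e d} : Set H')) := by
    ext x
    constructor
    · rintro ⟨y, hy, rfl⟩
      obtain ⟨n, hn⟩ := Subgroup.mem_zpowers_iff.1 (Subgroup.mem_subgroupOf.1 hy)
      exact Subgroup.mem_subgroupOf.2 (Subgroup.mem_zpowers_iff.2 ⟨n, by
        show e d ^ n = e (y : H)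
        rw [← hn, map_zpow]⟩)
    · intro hx
      obtain ⟨n, hn⟩ := Subgroup.mem_zpowers_iff.1 (Subgroup.mem_subgroupOf.1 hx)
      exact ⟨⟨d, Subgroup.mem_centralizer_singleton_iff.2 rfl⟩ ^ n, Subgroup.mem_subgroupOf.2 (by
        rw [SubgroupClass.coe_zpow]; exact Subgroup.zpow_mem_zpowers d n), Subtype.ext (by
        show e ((⟨d, _⟩ : Subgroup.centralizer ({d} : Set H)) ^ n : Subgroup.centralizer ({d} : Set H)).1 = _
        rw [SubgroupClass.coe_zpow, map_zpow]
        exact hn)⟩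
  haveI := hn
  haveI hn' : ((Subgroup.zpowers (e d)).subgroupOf (Subgroup.centralizer ({e d} : Set H'))).Normal :=
    hmap ▸ Subgroup.Normal.map hn _ e'.surjective
  refine ⟨e d, by rw [MulEquiv.orderOf_eq, hd], (ComponentsBasic.isQuasisimple_congr e').1 hq,
    ⟨K, iK, fK, hK, hn', ⟨(QuotientGroup.congr _ _ e' hmap).symm.trans ψ⟩⟩, e g, ?_, ?_⟩
  · rw [← map_inv, ← map_mul, ← map_mul, ← centralizer_map e d]
    exact Subgroup.mem_map_of_mem _ hg1
  · rw [← map_inv, ← map_mul, ← map_mul]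
    exact fun h => hg2 (e.injective h)

theorem good_of_pt {H : Type*} [Group H] [Finite H] (h : Pt H) : Good H := by
  refine ⟨?_, h⟩
  obtain ⟨d, hd, hq, ⟨K, iK, fK, hK, hn, ⟨ψ⟩⟩, hg⟩ := h
  haveI := hn
  exact ⟨_, S5377.result d hd hq K hK ψ hg⟩

theorem pt_fi22 : Pt Cfsg.Spor.Fi22 := by
  haveI : Finite (Pres.Grp P22) := CosetCertFi22Simple.upper.1
  haveI := CosetCertFi22Simple.simple
  letI : Fintype (GaloisField 2 2) := Fintype.ofFinite _
  have h4 : Fintype.card (GaloisField 2 2) = 4 := by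
    rw [← Nat.card_eq_fintype_card, GaloisField.card 2 2 (by norm_num)]
    norm_num
  haveI : UnitaryF4Geo.FourField (GaloisField 2 2) := ⟨h4⟩
  obtain ⟨w, hw⟩ := UnitaryF4Geo.exists_omega (F := GaloisField 2 2)
  obtain ⟨hord, hC⟩ := S0471.z_facts hw
  obtain ⟨hZ2, ⟨e⟩, -⟩ := CosetCertU62.double_cover hw
  set z := P22.gg 0 with hz
  obtain ⟨y, ⟨hyc, hyne, hycomm⟩⟩ := Fi22TypeH94.near₀_nonempty hw
  obtain ⟨g, hg⟩ := isConj_iff.1 hyc
  refine ⟨z, hord, ?_, ⟨GaloisField 2 2, inferInstance, inferInstance, h4, ?_⟩, g, ?_, ?_⟩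
  · show Cfsg.IsQuasisimple ↥(Subgroup.centralizer ({P22.gg 0} : Set (Pres.Grp P22)))
    rw [hC]
    haveI := OrthUnitaryPSU.isSimpleGroup_PSU (F := GaloisField 2 2) (n := 6) CosetCertU62.cardF
      (by norm_num) (by norm_num)
    haveI : Nontrivial (HH ⧸ Subgroup.center HH) := e.toEquiv.nontrivial
    exact ⟨⟨CosetCertU62.perfect⟩,
      IsSimpleGroup.isSimpleGroup_of_surjective e.symm.toMonoidHom e.symm.surjective⟩
  · suffices key : ∀ H : Subgroup P22.Grp, H = HH → ∃ _ : ((Subgroup.zpowers z).subgroupOf H).Normal,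
        Nonempty (H ⧸ (Subgroup.zpowers z).subgroupOf H ≃* Cfsg.PSU 6 (GaloisField 2 2) 2) from
      key _ hC
    rintro H rfl
    have hzH : z ∈ HH := hC ▸ Subgroup.mem_centralizer_singleton_iff.2 rfl
    have hzc : ∀ x : HH, x * ⟨z, hzH⟩ = ⟨z, hzH⟩ * x := fun x =>
      Subtype.ext (Subgroup.mem_centralizer_singleton_iff.1 ((SetLike.ext_iff.1 hC (x : P22.Grp)).2 x.2))
    have hZ : (Subgroup.zpowers z).subgroupOf HH = Subgroup.center HH := by
      refine Subgroup.eq_of_le_of_card_ge ?_ ?_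
      · intro x hx
        obtain ⟨n, hn⟩ := Subgroup.mem_zpowers_iff.1 (Subgroup.mem_subgroupOf.1 hx)
        have : x = (⟨z, hzH⟩ : HH) ^ n := Subtype.ext (by rw [SubgroupClass.coe_zpow]; exact hn.symm)
        rw [this]
        exact Subgroup.zpow_mem _ (Subgroup.mem_center_iff.2 hzc) n
      · rw [hZ2, Nat.card_congr (Subgroup.subgroupOfEquivOfLe
          ((Subgroup.zpowers_le).2 hzH)).toEquiv, Nat.card_zpowers, hord]
    haveI hn : ((Subgroup.zpowers z).subgroupOf HH).Normal := by rw [hZ]; infer_instance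
    exact ⟨hn, ⟨(QuotientGroup.quotientMulEquivOfEq hZ).trans e⟩⟩
  · show g * z * g⁻¹ ∈ _
    rw [show g * z * g⁻¹ = y from hg]
    exact Subgroup.mem_centralizer_singleton_iff.2 hycomm.symm.eq
  · show g * z * g⁻¹ ≠ z
    rw [show g * z * g⁻¹ = y from hg]
    exact hyne

end Cfsg.Agent.LargeFischerIndexTwo28Fi22
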