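import Mathlib
import Cfsg.Prelude.Def_Classical
import Cfsg.Prelude.Def_LieClassical
import Cfsg.Agent.Lib.OrthUnitaryHerm

/-!
The centraliser and normaliser of a subgroup of order 7 in `PSU₄(3)`.
-/

set_option autoImplicit false

namespace Cfsg.Agent.PSUFourThree56

open Module Polynomial

section lin

variable {K : Type*} [Field K] [Fintype K] [CharP K 3] {V : Type*} [AddCommGroup V] [Module K V]
  [FiniteDimensional K V]

theorem seven_ne_zero : (7 : K) ≠ 0 := by
  intro h
  have : ((7 : ℕ) : K) = 0 := by exact_mod_cast h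
  rw [CharP.cast_eq_zero_iff K 3] at this
  omega

/-- In dimension at most two there are no elements of order 7. -/
theorem eq_one_of_finrank_le_two (hK : Fintype.card K = 9) (hV : finrank K V ≤ 2)
    {f : Module.End K V} (hf : f ^ 7 = 1) : f = 1 := by
  classical
  let b := Module.finBasis K V
  let e := LinearMap.toMatrixAlgEquiv b
  have he : (e f) ^ 7 = 1 := by rw [← map_pow, hf, map_one]
  let u : GL (Fin (finrank K V)) K :=
    ⟨e f, (e f) ^ 6, by rw [← pow_succ', he], by rw [← pow_succ, he]⟩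
  have hu : u ^ 7 = 1 := Units.ext (by rw [Units.val_pow_eq_pow_val]; exact he)
  have hcard : Nat.Coprime 7 (Nat.card (GL (Fin (finrank K V)) K)) := by
    rw [Matrix.card_GL_field, hK]
    have key : ∀ d : ℕ, d ≤ 2 → Nat.Coprime 7 (∏ i : Fin d, (9 ^ d - 9 ^ (i : ℕ))) := by
      intro d hd
      interval_cases d <;> decide
    exact key _ hV
  have hu1 : u = 1 := by
    rw [← orderOf_eq_one_iff]
    exact Nat.dvd_one.1 (hcard ▸ Nat.dvd_gcd (orderOf_dvd_of_pow_eq_one hu) (orderOf_dvd_natCard u))
  have h1 : e f = 1 := congrArg Units.val hu1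
  exact e.injective (h1.trans (map_one e).symm)

/-- An element of order 7 trivial on an invariant series of length two is trivial. -/
theorem eq_one_of_sq (x : Module.End K V) (h7 : x ^ 7 = 1) (h : (x - 1) * (x - 1) = 0) :
    x = 1 := by
  have hp : ∀ k : ℕ, x ^ k = 1 + (k : K) • (x - 1) := by
    intro k
    induction k with
    | zero => simp
    | succ k ih =>
      have hx : (x - 1) * x = x - 1 := by
        have : (x - 1) * x = (x - 1) * (x - 1) + (x - 1) := by noncomm_ring
        rw [this, h, zero_add]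
      rw [pow_succ, ih, add_mul, one_mul, smul_mul_assoc, hx, Nat.cast_succ, add_smul, one_smul]
      abel
  have h2 := hp 7
  rw [h7, left_eq_add, smul_eq_zero] at h2
  rcases h2 with h2 | h2
  · exact absurd (by exact_mod_cast h2) (seven_ne_zero (K := K))
  · exact sub_eq_zero.1 h2

/-- `x` is trivial on an invariant subspace of dimension at most two. -/
theorem apply_eq_of_mem (hK : Fintype.card K = 9) (x : Module.End K V) (h7 : x ^ 7 = 1)
    {W : Submodule K V} (hW : ∀ w ∈ W, x w ∈ W) (hd : finrank K W ≤ 2) {w : V} (hw : w ∈ W) :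
    x w = w := by
  have hk : ∀ (k : ℕ) (v : W), (((x.restrict hW) ^ k) v : V) = (x ^ k) v := by
    intro k
    induction k with
    | zero => intro v; rfl
    | succ k ih =>
      intro v
      rw [pow_succ, pow_succ, Module.End.mul_apply, Module.End.mul_apply, ih]
      rfl
  have := eq_one_of_finrank_le_two hK hd (f := x.restrict hW)
    (LinearMap.ext fun v => Subtype.ext (by rw [hk, h7]; rfl))
  exact congrArg Subtype.val (LinearMap.congr_fun this ⟨w, hw⟩)

/-- An involution of determinant one commuting with an element of order 7 of `GL₄(9)` is central. -/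
theorem invol_scalar (hK : Fintype.card K = 9) (hV : finrank K V = 4) (x : Module.End K V)
    (h7 : x ^ 7 = 1) (hx : x ≠ 1) (s : Module.End K V) (hs : s * s = 1) (hdet : LinearMap.det s = 1)
    (hc : Commute x s) : s = 1 ∨ s = -1 := by
  set Ep := LinearMap.ker (s - 1) with hEp
  set Em := LinearMap.ker (s + 1) with hEm
  have h2 : (2 : K) ≠ 0 := by
    intro h
    have : ((2 : ℕ) : K) = 0 := by exact_mod_cast h
    rw [CharP.cast_eq_zero_iff K 3] at this
    omega
  have memp : ∀ v, v ∈ Ep ↔ s v = v := fun v => by simp [hEp, sub_eq_zero]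
  have memm : ∀ v, v ∈ Em ↔ s v = -v := fun v => by simp [hEm, eq_neg_iff_add_eq_zero]
  have hss : ∀ v, s (s v) = v := fun v => LinearMap.congr_fun hs v
  have hcompl : IsCompl Ep Em := by
    refine ⟨Submodule.disjoint_def.2 fun v hp hm => ?_, codisjoint_iff.2 ((Submodule.eq_top_iff').2 fun v => ?_)⟩
    · rw [memp] at hp
      rw [memm, hp, eq_neg_iff_add_eq_zero, ← two_smul K, smul_eq_zero] at hm
      exact hm.resolve_left h2
    · refine Submodule.mem_sup.2 ⟨(2 : K)⁻¹ • (v + s v), (memp _).2 ?_, (2 : K)⁻¹ • (v - s v),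
        (memm _).2 ?_, ?_⟩
      · rw [map_smul, map_add, hss, add_comm]
      · rw [map_smul, map_sub, hss, ← smul_neg, neg_sub]
      · rw [← smul_add]
        have : v + s v + (v - s v) = (2 : K) • v := by rw [two_smul]; abel
        rw [this, smul_smul, inv_mul_cancel₀ h2, one_smul]
  have hinv : ∀ (t : Module.End K V), Commute x t → ∀ v ∈ LinearMap.ker t, x v ∈ LinearMap.ker t := by
    intro t ht v hv
    rw [LinearMap.mem_ker] at hv ⊢
    have := LinearMap.congr_fun ht.eq v
    simp only [Module.End.mul_apply] at this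
    rw [← this, hv, map_zero]
  have hip := hinv (s - 1) (hc.sub_right (Commute.one_right _))
  have him := hinv (s + 1) (hc.add_right (Commute.one_right _))
  have hsum : finrank K Ep + finrank K Em = 4 := by
    rw [← hV]; exact Submodule.finrank_add_eq_of_isCompl hcompl
  have hcases : finrank K Ep = 4 ∨ finrank K Em = 4 ∨ Odd (finrank K Em) := by
    by_contra! h
    obtain ⟨h1, h2, h3⟩ := h
    rw [Nat.not_odd_iff] at h3
    have hp : finrank K Ep ≤ 2 := by omega
    have hm : finrank K Em ≤ 2 := by omega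
    refine hx (LinearMap.ext fun v => ?_)
    obtain ⟨a, ha, b, hb, rfl⟩ := Submodule.mem_sup.1 (hcompl.sup_eq_top ▸ (Submodule.mem_top : v ∈ _))
    rw [map_add, apply_eq_of_mem hK x h7 hip hp ha, apply_eq_of_mem hK x h7 him hm hb]
    rfl
  rcases hcases with h | h | h
  · left
    have := Submodule.eq_top_of_finrank_eq (h.trans hV.symm)
    exact LinearMap.ext fun v => (memp v).1 (this ▸ Submodule.mem_top)
  · right
    have := Submodule.eq_top_of_finrank_eq (h.trans hV.symm)
    exact LinearMap.ext fun v => (memm v).1 (this ▸ Submodule.mem_top)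
  · exfalso
    let e := Submodule.prodEquivOfIsCompl Ep Em hcompl
    have hse : s = (e.toLinearMap ∘ₗ LinearMap.prodMap LinearMap.id (-LinearMap.id)) ∘ₗ
        e.symm.toLinearMap := by
      refine LinearMap.ext fun v => ?_
      obtain ⟨⟨a, b⟩, rfl⟩ := e.surjective v
      simp only [LinearMap.comp_apply, LinearEquiv.coe_coe, LinearEquiv.symm_apply_apply,
        LinearMap.prodMap_apply, LinearMap.id_coe, id_eq, LinearMap.neg_apply]
      simp only [e, Submodule.coe_prodEquivOfIsCompl', map_add, Submodule.coe_neg]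
      rw [(memp _).1 a.2, (memm _).1 b.2]
    rw [hse, LinearMap.comp_assoc, LinearMap.det_conj, LinearMap.det_prodMap, LinearMap.det_id, one_mul,
      show (-LinearMap.id : ↥Em →ₗ[K] ↥Em) = (-1 : K) • LinearMap.id from (neg_one_smul K _).symm,
      LinearMap.det_smul, LinearMap.det_id, mul_one, h.neg_one_pow] at hdet
    exact h2 (by linear_combination -hdet)

/-- An element of order 7 of `GL₄(9)` has a cyclic vector. -/
theorem exists_cyclic (hK : Fintype.card K = 9) (hV : finrank K V = 4) (x : Module.End K V)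
    (h7 : x ^ 7 = 1) (hx : x ≠ 1) : ∃ v : V, ∀ w : V, ∃ r : K[X], aeval x r v = w := by
  set R := LinearMap.range (x - 1) with hR
  set Fx := LinearMap.ker (x - 1) with hFx
  have memF : ∀ v, v ∈ Fx ↔ x v = v := fun v => by simp [hFx, sub_eq_zero]
  have hsub : ∀ v, (x - 1) v = x v - v := fun v => rfl
  have hinvR : ∀ w ∈ R, x w ∈ R := by
    rintro _ ⟨u, rfl⟩
    exact ⟨x u, by simp [map_sub]⟩
  have hdisj : ∀ v ∈ R, x v = v → v = 0 := by
    rintro _ ⟨u, rfl⟩ hxv
    have hk : ∀ k : ℕ, (x ^ k) u = u + (k : K) • (x - 1) u := by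
      intro k
      induction k with
      | zero => simp
      | succ k ih =>
        rw [pow_succ', Module.End.mul_apply, ih, map_add, map_smul, hxv, Nat.cast_succ, add_smul,
          one_smul, hsub]
        abel
    have h2 := hk 7
    rw [h7, Module.End.one_apply, left_eq_add, smul_eq_zero] at h2
    rcases h2 with h2 | h2
    · exact absurd (by exact_mod_cast h2) (seven_ne_zero (K := K))
    · exact h2
  have hsmall : ∀ W : Submodule K V, (∀ w ∈ W, x w ∈ W) → W ≤ R → W ≠ ⊥ → 3 ≤ finrank K W := by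
    intro W hW hWR hW0
    by_contra! h
    refine hW0 ((Submodule.eq_bot_iff W).2 fun w hw => hdisj w (hWR hw) ?_)
    exact apply_eq_of_mem hK x h7 hW (by omega) hw
  have hR3 : 3 ≤ finrank K R := by
    by_contra! h
    refine hx (eq_one_of_sq x h7 (LinearMap.ext fun v => ?_))
    rw [Module.End.mul_apply, hsub, LinearMap.zero_apply]
    rw [apply_eq_of_mem hK x h7 hinvR (by omega) (⟨v, rfl⟩ : (x - 1) v ∈ R), sub_self]
  let C : V → Submodule K V := fun v =>
    LinearMap.range ((LinearMap.applyₗ v).comp (aeval x : K[X] →ₐ[K] Module.End K V).toLinearMap)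
  have memC : ∀ v w, w ∈ C v ↔ ∃ r : K[X], aeval x r v = w := fun v w => Iff.rfl
  have hCv : ∀ v, v ∈ C v := fun v => (memC v v).2 ⟨1, by simp⟩
  have hCx : ∀ v, ∀ w ∈ C v, x w ∈ C v := by
    intro v w hw
    obtain ⟨r, rfl⟩ := (memC v w).1 hw
    exact (memC v _).2 ⟨X * r, by simp⟩
  suffices ∃ v, C v = ⊤ by
    obtain ⟨v, hv⟩ := this
    exact ⟨v, fun w => (memC v w).1 (hv ▸ Submodule.mem_top)⟩
  by_cases hRt : R = ⊤
  · haveI : Nontrivial V := Module.nontrivial_of_finrank_pos (R := K) (by omega)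
    obtain ⟨v, hv⟩ := exists_ne (0 : V)
    refine ⟨v, ?_⟩
    have h3 := hsmall (C v) (hCx v) (by rw [hRt]; exact le_top)
      (fun h => hv (by simpa [h] using hCv v))
    by_contra hne
    have hlt := Submodule.finrank_lt hne
    have hq : finrank K (V ⧸ C v) ≤ 2 := by
      have := Submodule.finrank_quotient_add_finrank (C v); omega
    have hmap : C v ≤ (C v).comap x := fun w hw => hCx v w hw
    have hk : ∀ (k : ℕ) (u : V), ((Submodule.mapQ _ _ x hmap) ^ k) (Submodule.Quotient.mk u) =
        Submodule.Quotient.mk ((x ^ k) u) := by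
      intro k
      induction k with
      | zero => intro u; rfl
      | succ k ih =>
        intro u
        rw [pow_succ, pow_succ, Module.End.mul_apply, Module.End.mul_apply,
          Submodule.mapQ_apply, ih]
    have h1 := eq_one_of_finrank_le_two hK hq (f := Submodule.mapQ _ _ x hmap) (LinearMap.ext fun u => by
      obtain ⟨u, rfl⟩ := Submodule.Quotient.mk_surjective _ u
      rw [hk, h7]; rfl)
    refine hne (top_le_iff.1 (hRt.symm.le.trans ?_))
    rintro _ ⟨u, rfl⟩
    have h2 := LinearMap.congr_fun h1 (Submodule.Quotient.mk u)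
    rw [Submodule.mapQ_apply, Module.End.one_apply, Submodule.Quotient.eq] at h2
    exact h2
  · have hlt := Submodule.finrank_lt hRt
    have hrn := LinearMap.finrank_range_add_finrank_ker (x - 1)
    obtain ⟨f, hf, hf0⟩ := Submodule.exists_mem_ne_zero_of_ne_bot (p := Fx) (fun h => by
      rw [← hR, ← hFx, h, finrank_bot] at hrn; omega)
    obtain ⟨u, hu, hu0⟩ := Submodule.exists_mem_ne_zero_of_ne_bot (p := R) (fun h => by
      rw [h, finrank_bot] at hR3; omega)
    rw [memF] at hf
    refine ⟨u + f, ?_⟩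
    have hle : R ≤ C (u + f) := by
      have h3 := hsmall (C (u + f) ⊓ R) (fun w hw => ⟨hCx _ w hw.1, hinvR w hw.2⟩) inf_le_right
        fun h => by
          have hm : x u - u ∈ C (u + f) ⊓ R := by
            refine ⟨?_, R.sub_mem (hinvR u hu) hu⟩
            have := (C (u + f)).sub_mem (hCx _ _ (hCv (u + f))) (hCv (u + f))
            rwa [map_add, hf, add_sub_add_right_eq_sub] at this
          rw [h, Submodule.mem_bot, sub_eq_zero] at hm
          exact hu0 (hdisj u hu hm)
      have heq : C (u + f) ⊓ R = R := Submodule.eq_of_le_of_finrank_le inf_le_right (by omega)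
      exact heq ▸ inf_le_left
    have hfC : f ∈ C (u + f) := by
      have := (C (u + f)).sub_mem (hCv (u + f)) (hle hu)
      rwa [add_sub_cancel_left] at this
    have hlt' : R < C (u + f) := lt_of_le_of_ne hle fun h => hf0 (hdisj f (h.symm ▸ hfC) hf)
    have := Submodule.finrank_lt_finrank_of_lt hlt'
    exact Submodule.eq_top_of_finrank_eq (by have := Submodule.finrank_le (C (u + f)); omega)

/-- The commutant of an element of order 7 consists of polynomials in it. -/
theorem exists_poly (hK : Fintype.card K = 9) (hV : finrank K V = 4) (x : Module.End K V)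
    (h7 : x ^ 7 = 1) (hx : x ≠ 1) (g : Module.End K V) (hc : Commute x g) :
    ∃ r : K[X], aeval x r = g := by
  obtain ⟨v, hv⟩ := exists_cyclic hK hV x h7 hx
  obtain ⟨r, hr⟩ := hv (g v)
  refine ⟨r, LinearMap.ext fun w => ?_⟩
  obtain ⟨s, rfl⟩ := hv w
  have hgs : Commute g (aeval x s) := Algebra.commute_of_mem_adjoin_of_forall_mem_commute
    (s := {x}) (aeval_mem_adjoin_singleton K x) (by rintro b rfl; exact hc.symm)
  rw [← Module.End.mul_apply g, hgs.eq, Module.End.mul_apply, ← hr, ← Module.End.mul_apply,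
    ← Module.End.mul_apply, ← map_mul, ← map_mul, mul_comm]

end lin

section mat

variable {K : Type*} [Field K]

theorem transpose_aeval {n : ℕ} (A : Matrix (Fin n) (Fin n) K) (r : K[X]) :
    (aeval A r).transpose = aeval A.transpose r := by
  induction r using Polynomial.induction_on' with
  | add a b ha hb => simp [ha, hb]
  | monomial k c =>
    simp [aeval_monomial, Matrix.transpose_mul, Matrix.transpose_pow, Algebra.algebraMap_eq_smul_one]

variable [Fintype K] [CharP K 3]

omit [Fintype K] [CharP K 3] in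
theorem gram_eq_one {M : Matrix (Fin 4) (Fin 4) K} (hM : OrthUnitaryHerm.IsU 3 M) :
    M.transpose * M.map (fun z => z ^ 3) = 1 := by
  ext i j
  have h := hM (Pi.single i 1) (Pi.single j 1)
  simp only [Cfsg.hermForm, Matrix.mulVec_single_one] at h
  rw [Matrix.mul_apply]
  refine h.trans ?_
  rw [Finset.sum_eq_single i (fun b _ hb => by simp [hb]) (by simp)]
  by_cases hij : i = j
  · subst hij; simp
  · simp [Pi.single_eq_of_ne hij, Matrix.one_apply_ne hij]

/-- The centraliser of an element of order 7 in `GU₄(3)` has exponent dividing 28. -/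
theorem pow_28 (hK : Fintype.card K = 9) {A M : Matrix (Fin 4) (Fin 4) K}
    (hA : OrthUnitaryHerm.IsU 3 A) (hM : OrthUnitaryHerm.IsU 3 M) (hA7 : A ^ 7 = 1) (hA1 : A ≠ 1)
    (hc : Commute A M) : M ^ 28 = 1 := by
  haveI : Fact (Nat.Prime 3) := ⟨Nat.prime_three⟩
  set σ : K →+* K := frobenius K 3 with hσdef
  have hσ : ∀ z, σ z = z ^ 3 := fun z => rfl
  let e : Matrix (Fin 4) (Fin 4) K ≃ₐ[K] Module.End K (Fin 4 → K) := Matrix.toLinAlgEquiv'
  obtain ⟨r, hr⟩ := exists_poly hK (by simp) (e A) (by rw [← map_pow, hA7, map_one])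
    (fun h => hA1 (e.injective (h.trans (map_one e).symm))) (e M) (hc.map e)
  have hr' : aeval A r = M := by
    apply e.injective
    rw [← hr]
    exact (Polynomial.aeval_algHom_apply e.toAlgHom A r).symm
  have hmap : M.map (fun z => z ^ 3) = σ.mapMatrix M := rfl
  have hA3 : A.map (fun z => z ^ 3) = σ.mapMatrix A := rfl
  have hmapA : σ.mapMatrix M = aeval (σ.mapMatrix A) (r.map σ) := by
    rw [← hr']
    refine Polynomial.map_aeval_eq_aeval_map (φ := σ) (ψ := σ.mapMatrix) ?_ r A
    ext z i j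
    rw [RingHom.comp_apply, RingHom.comp_apply, Matrix.algebraMap_eq_diagonal,
      Matrix.algebraMap_eq_diagonal]
    by_cases hij : i = j
    · subst hij; simp
    · simp [hij]
  have hgA : A.transpose * σ.mapMatrix A = 1 := hA3 ▸ gram_eq_one hA
  have hA6 : σ.mapMatrix A = (A ^ 6).transpose := by
    have h1 : (A ^ 6).transpose * A.transpose = 1 := by
      rw [← Matrix.transpose_mul, ← pow_succ', hA7, Matrix.transpose_one]
    calc σ.mapMatrix A = (A ^ 6).transpose * A.transpose * σ.mapMatrix A := by rw [h1, one_mul]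
      _ = (A ^ 6).transpose := by rw [mul_assoc, hgA, mul_one]
  have h27 : A ^ 6 = A ^ 27 := by
    rw [show 27 = 7 * 3 + 6 from rfl, pow_add, pow_mul, hA7, one_pow, one_mul]
  have hgM : M.transpose * σ.mapMatrix M = 1 := hmap ▸ gram_eq_one hM
  have hexp : expand K (3 ^ 3) (r.map σ) = r ^ (3 ^ 3) := by
    rw [← map_expand, ← map_iterateFrobenius_expand (p := 3) r 3]
    congr 1
    refine RingHom.ext fun z => ?_
    rw [iterateFrobenius_def, hσ]
    calc z ^ 3 = (z ^ 9) ^ 3 := by rw [← hK, FiniteField.pow_card]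
      _ = z ^ 3 ^ 3 := by rw [← pow_mul]; norm_num
  rw [hmapA, hA6, h27, ← transpose_aeval, ← expand_aeval,
    show (27 : ℕ) = 3 ^ 3 from rfl, hexp, map_pow, hr', ← Matrix.transpose_mul,
    ← pow_succ] at hgM
  exact Matrix.transpose_eq_one.1 hgM

end mat

section grp

open Cfsg

variable {K : Type*} [Field K] [Fintype K]

/-- The matrix of an element of `SU₄(3)`. -/
def toM : ↥(SU 4 K 3) →* Matrix (Fin 4) (Fin 4) K where
  toFun g := ((g : Matrix.SpecialLinearGroup (Fin 4) K) : Matrix (Fin 4) (Fin 4) K)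
  map_one' := rfl
  map_mul' _ _ := rfl

omit [Fintype K] in
theorem toM_injective : Function.Injective (toM (K := K)) := fun _ _ h =>
  Subtype.ext (Subtype.ext h)

theorem charP_three (hK : Fintype.card K = 9) : CharP K 3 := by
  obtain ⟨p, hp⟩ := CharP.exists K
  obtain ⟨n, hpp, hn⟩ := FiniteField.card K p
  have hd : p ∣ 9 := by rw [← hK, hn]; exact dvd_pow_self p n.pos.ne'
  have : p = 3 := by
    have := (Nat.prime_dvd_prime_iff_eq hpp Nat.prime_three).1 (hpp.dvd_of_dvd_pow (n := 2) hd)
    exact this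
  exact this ▸ hp

theorem card_PSU (hK : Fintype.card K = 9) : Nat.card (PSU 4 K 3) = 3265920 := by
  have h := OrthUnitaryHerm.card_PSU_mul (n := 4) (q := 3) (F := K) (by rw [hK]; rfl) (by norm_num)
  rw [OrthUnitaryHerm.card_GU (by rw [hK]; rfl) 4] at h
  rw [Finset.prod_range_succ, Finset.prod_range_succ, Finset.prod_range_succ,
    Finset.prod_range_succ, Finset.prod_range_zero, if_pos (by decide), if_neg (by decide),
    if_pos (by decide), if_neg (by decide)] at h
  rw [show Nat.gcd 4 (3 + 1) = 4 from rfl] at h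
  generalize Nat.card (PSU 4 K 3) = m at h ⊢
  norm_num at h
  omega

theorem card_center (hK : Fintype.card K = 9) :
    Nat.card (Subgroup.center ↥(SU 4 K 3)) = 4 := by
  rw [OrthUnitaryHerm.card_center_SU (by rw [hK]; rfl) (by norm_num)]
  rfl

/-- An element of `SU₄(3)` commuting with an element of order 7 and killed by 4 is central. -/
theorem mem_center_of_pow_four (hK : Fintype.card K = 9) {x g : ↥(SU 4 K 3)} (hx7 : x ^ 7 = 1)
    (hx : x ≠ 1) (hc : Commute x g) (hg : g ^ 4 = 1) : g ∈ Subgroup.center ↥(SU 4 K 3) := by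
  haveI := charP_three hK
  let e : Matrix (Fin 4) (Fin 4) K ≃ₐ[K] Module.End K (Fin 4 → K) := Matrix.toLinAlgEquiv'
  set M := toM g with hM
  have hx7' : e (toM x) ^ 7 = 1 := by rw [← map_pow, ← map_pow, hx7, map_one, map_one]
  have hx1' : e (toM x) ≠ 1 := fun h =>
    hx (toM_injective (e.injective (by rw [h, map_one, map_one])))
  have hcM : Commute (toM x) M := hc.map toM
  have hdet : ∀ N : Matrix (Fin 4) (Fin 4) K, LinearMap.det (e N) = N.det := fun N => by
    show LinearMap.det (Matrix.toLin' N) = N.det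
    exact LinearMap.det_toLin' N
  have key : ∀ N : Matrix (Fin 4) (Fin 4) K, N * N = 1 → N.det = 1 → Commute (toM x) N →
      N = 1 ∨ N = -1 := by
    intro N hN hd hcN
    rcases invol_scalar hK (by simp) _ hx7' hx1' (e N) (by rw [← map_mul, hN, map_one])
      (by rw [hdet, hd]) (hcN.map e) with h | h
    · exact Or.inl (e.injective (h.trans (map_one e).symm))
    · exact Or.inr (e.injective (h.trans (by rw [map_neg, map_one])))
  have hdM : M.det = 1 := g.1.2
  have hM4 : M * M * (M * M) = 1 := by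
    have := congrArg toM hg
    rw [map_pow, map_one, ← hM] at this
    rw [← this]; noncomm_ring
  obtain ⟨c, hc4, hcc⟩ : ∃ c : K, c ^ 4 = 1 ∧ M * M = (c * c) • (1 : Matrix (Fin 4) (Fin 4) K) := by
    rcases key (M * M) hM4 (by rw [Matrix.det_mul, hdM, one_mul]) (hcM.mul_right hcM) with h | h
    · exact ⟨1, one_pow _, by rw [h, one_mul, one_smul]⟩
    · obtain ⟨i, hi⟩ := (FiniteField.isSquare_neg_one_iff (F := K)).2 (by rw [hK]; norm_num)
      refine ⟨i, ?_, by rw [h, ← hi, neg_one_smul]⟩
      calc i ^ 4 = (i * i) * (i * i) := by ring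
        _ = 1 := by rw [← hi]; ring
  have hscal : ∃ d : K, M = d • (1 : Matrix (Fin 4) (Fin 4) K) := by
    have hc0 : c ≠ 0 := fun h => by simp [h] at hc4
    rcases key (c⁻¹ • M)
      (by rw [smul_mul_smul_comm, hcc, smul_smul, ← mul_inv, inv_mul_cancel₀ (mul_ne_zero hc0 hc0),
        one_smul])
      (by rw [Matrix.det_smul, hdM, Fintype.card_fin, inv_pow, hc4, inv_one, mul_one])
      (hcM.smul_right c⁻¹) with h | h
    · exact ⟨c, by rw [← h, smul_smul, mul_inv_cancel₀ hc0, one_smul]⟩
    · refine ⟨-c, ?_⟩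
      rw [← neg_neg (1 : Matrix (Fin 4) (Fin 4) K), ← h, smul_neg, neg_smul, neg_neg, smul_smul,
        mul_inv_cancel₀ hc0, one_smul]
  obtain ⟨d, hd⟩ := hscal
  rw [Subgroup.mem_center_iff]
  intro b
  apply toM_injective
  rw [map_mul, map_mul, ← hM, hd, mul_smul_comm, mul_one, smul_mul_assoc, one_mul]

/-- The centraliser in `SU₄(3)` of an element of order 7. -/
theorem centralizer_eq (hK : Fintype.card K = 9) {x g : ↥(SU 4 K 3)} (hx7 : x ^ 7 = 1) (hx : x ≠ 1)
    (hc : Commute x g) :
    ∃ k : ℕ, ∃ z ∈ Subgroup.center ↥(SU 4 K 3), g = x ^ k * z := by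
  haveI := charP_three hK
  haveI : Fact (Nat.Prime 7) := ⟨by norm_num⟩
  have hA1 : toM x ≠ 1 := fun h => hx (toM_injective (h.trans (map_one toM).symm))
  have h28 : g ^ 28 = 1 := toM_injective (by
    rw [map_pow, map_one]
    exact pow_28 hK (OrthUnitaryHerm.isU_of_mem_SU x) (OrthUnitaryHerm.isU_of_mem_SU g)
      (show toM x ^ 7 = 1 by rw [← map_pow, hx7, map_one]) hA1 (hc.map toM))
  have hcard : Nat.card ↥(SU 4 K 3) = 7 * 1866240 := by
    rw [Subgroup.card_eq_card_quotient_mul_card_subgroup (Subgroup.center ↥(SU 4 K 3)),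
      card_center hK]
    show Nat.card (PSU 4 K 3) * 4 = _
    rw [card_PSU hK]
  have ho : orderOf x = 7 := orderOf_eq_prime hx7 hx
  obtain ⟨k, hk⟩ : ∃ k : ℕ, x ^ k = g ^ 4 := by
    have hp : IsPGroup 7 (Subgroup.zpowers x) :=
      IsPGroup.of_card (n := 1) (by rw [Nat.card_zpowers, ho, pow_one])
    let P : Sylow 7 ↥(SU 4 K 3) := hp.toSylow (fun hd => by
      have hm := Subgroup.card_mul_index (Subgroup.zpowers x)
      rw [Nat.card_zpowers, ho, hcard] at hm
      have : (Subgroup.zpowers x).index = 1866240 := by omega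
      rw [this] at hd
      omega)
    have hq : IsPGroup 7 ↥(Subgroup.zpowers x ⊔ Subgroup.zpowers (g ^ 4)) := by
      have hy : IsPGroup 7 (Subgroup.zpowers (g ^ 4)) := by
        obtain ⟨m, -, hm⟩ := (Nat.dvd_prime_pow (Fact.out : Nat.Prime 7) (m := 1)).1
          (orderOf_dvd_of_pow_eq_one (x := g ^ 4) (n := 7 ^ 1) (by rw [← pow_mul]; exact h28))
        exact IsPGroup.of_card (n := m) (by rw [Nat.card_zpowers, hm])
      refine hy.to_sup_of_normal_left' hp ?_ |> fun h => by rwa [sup_comm] at h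
      refine Subgroup.zpowers_le.2 (Subgroup.centralizer_le_normalizer _ ?_)
      rw [Subgroup.mem_centralizer_iff]
      rintro _ ⟨i, rfl⟩
      exact ((hc.symm.pow_left 4).zpow_left i).eq
    have hle := P.3 hq (show Subgroup.zpowers x ≤ _ from le_sup_left)
    have hmem : g ^ 4 ∈ Subgroup.zpowers x := by
      have : g ^ 4 ∈ (P : Subgroup ↥(SU 4 K 3)) :=
        hle.le (Subgroup.mem_sup_right (Subgroup.mem_zpowers _))
      exact this
    exact (mem_powers_iff_mem_zpowers.2 hmem : g ^ 4 ∈ Submonoid.powers x)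
  refine ⟨k * 2, (g ^ 7) ^ 3, pow_mem (mem_center_of_pow_four hK hx7 hx (hc.pow_right 7)
    (by rw [← pow_mul]; exact h28)) 3, ?_⟩
  rw [pow_mul, hk, ← pow_mul, ← pow_mul, ← pow_add]
  rw [show 4 * 2 + 7 * 3 = 28 + 1 from rfl, pow_succ, h28, one_mul]

/-- The normaliser of a subgroup of order 7 of `PSU₄(3)`. -/
theorem normalizer_seven (hK : Fintype.card K = 9) (X : Subgroup (PSU 4 K 3))
    (hX : Nat.card X = 7) :
    Nat.card ↥(Subgroup.normalizer (X : Set (PSU 4 K 3))) = 21 ∧
      Subgroup.centralizer (X : Set (PSU 4 K 3)) = X := by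
  haveI : Fact (Nat.Prime 7) := ⟨by norm_num⟩
  set π := QuotientGroup.mk' (Subgroup.center ↥(SU 4 K 3)) with hπ
  have hcyc : IsCyclic X := isCyclic_of_prime_card hX
  obtain ⟨⟨a, ha⟩, hgen⟩ := hcyc.exists_generator
  have hXa : X = Subgroup.zpowers a := by
    refine le_antisymm (fun b hb => ?_) (Subgroup.zpowers_le.2 ha)
    obtain ⟨i, hi⟩ := Subgroup.mem_zpowers_iff.1 (hgen ⟨b, hb⟩)
    exact ⟨i, congrArg Subtype.val hi⟩
  have hoa : orderOf a = 7 := by rw [← Nat.card_zpowers, ← hXa, hX]
  have hZ4 : ∀ z ∈ Subgroup.center ↥(SU 4 K 3), z ^ 4 = 1 := fun z hz => by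
    have := congrArg Subtype.val (pow_card_eq_one' (x := (⟨z, hz⟩ : Subgroup.center ↥(SU 4 K 3))))
    rwa [card_center hK] at this
  obtain ⟨y, hy⟩ := QuotientGroup.mk'_surjective (Subgroup.center ↥(SU 4 K 3)) a
  set x := y ^ 8 with hxdef
  have hxa : π x = a := by
    rw [hxdef, map_pow, hπ, hy, show 8 = 7 + 1 from rfl, pow_succ,
      orderOf_dvd_iff_pow_eq_one.1 hoa.dvd, one_mul]
  have hx7 : x ^ 7 = 1 := by
    have hy7 : y ^ 7 ∈ Subgroup.center ↥(SU 4 K 3) := by
      rw [← QuotientGroup.eq_one_iff]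
      show π (y ^ 7) = 1
      rw [map_pow, hπ, hy]
      exact orderOf_dvd_iff_pow_eq_one.1 hoa.dvd
    rw [hxdef, ← pow_mul, show 8 * 7 = 7 * 4 * 2 from rfl, pow_mul, pow_mul, hZ4 _ hy7, one_pow]
  have hx1 : x ≠ 1 := fun h => by
    rw [h, map_one] at hxa
    rw [← hxa, orderOf_one] at hoa
    omega
  have hC : Subgroup.centralizer (X : Set (PSU 4 K 3)) = X := by
    refine le_antisymm (fun b hb => ?_) ?_
    · obtain ⟨B, rfl⟩ := QuotientGroup.mk'_surjective (Subgroup.center ↥(SU 4 K 3)) b
      have hab : a * π B = π B * a := (Subgroup.mem_centralizer_iff.1 hb) a ha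
      set w := B * x * B⁻¹ * x⁻¹ with hw
      have hwZ : w ∈ Subgroup.center ↥(SU 4 K 3) := by
        rw [← QuotientGroup.eq_one_iff]
        show π w = 1
        rw [hw, map_mul, map_mul, map_mul, map_inv, map_inv, hxa, ← hab, mul_inv_cancel_right,
          mul_inv_cancel]
      have hconj : B * x * B⁻¹ = w * x := by rw [hw, inv_mul_cancel_right]
      have hw7 : w ^ 7 = 1 := by
        have h1 := congrArg (· ^ 7) hconj
        simp only [conj_pow, hx7, mul_one, mul_inv_cancel] at h1
        rw [(show Commute w x from (Subgroup.mem_center_iff.1 hwZ x).symm).mul_pow, hx7,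
          mul_one] at h1
        exact h1.symm
      have hw1 : w = 1 := by
        rw [← orderOf_eq_one_iff]
        have h4 := orderOf_dvd_of_pow_eq_one (hZ4 w hwZ)
        have h7 := orderOf_dvd_of_pow_eq_one hw7
        exact Nat.dvd_one.1 ((Nat.dvd_gcd h4 h7).trans (by norm_num))
      have hcx : Commute x B := by
        rw [hw1, one_mul, mul_inv_eq_iff_eq_mul] at hconj
        exact hconj.symm
      obtain ⟨k, z, hz, rfl⟩ := centralizer_eq hK hx7 hx1 hcx
      rw [map_mul, map_pow, hxa, show π z = 1 from (QuotientGroup.eq_one_iff z).2 hz, mul_one]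
      exact X.pow_mem ha k
    · intro b hb
      rw [Subgroup.mem_centralizer_iff]
      intro c hc'
      haveI := hcyc
      exact congrArg Subtype.val (IsCyclic.commGroup.mul_comm (⟨c, hc'⟩ : X) ⟨b, hb⟩)
  refine ⟨?_, hC⟩
  set N := Subgroup.normalizer (X : Set (PSU 4 K 3)) with hN
  have hd : ∃ d, d ∣ 6 ∧ Nat.card N = 7 * d := by
    have hker := Subgroup.normalizerMonoidHom_ker X
    refine ⟨Nat.card (Subgroup.normalizerMonoidHom X).range, ?_, ?_⟩
    · have h := Subgroup.card_subgroup_dvd_card (Subgroup.normalizerMonoidHom X).range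
      haveI := hcyc
      rwa [IsCyclic.card_mulAut, hX, Nat.totient_prime (by norm_num : Nat.Prime 7)] at h
    · rw [← Subgroup.card_mul_index (Subgroup.normalizerMonoidHom X).ker, Subgroup.index_ker]
      congr 1
      rw [hker, hC, Nat.card_congr (Subgroup.subgroupOfEquivOfLe (Subgroup.le_normalizer)).toEquiv,
        hX]
  obtain ⟨d, hd6, hdN⟩ := hd
  have hp : IsPGroup 7 X := IsPGroup.of_card (n := 1) (by rw [hX, pow_one])
  have hidx : X.index = 466560 := by
    have hm := Subgroup.card_mul_index X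
    rw [hX, card_PSU hK] at hm
    omega
  let P : Sylow 7 (PSU 4 K 3) := hp.toSylow (by rw [hidx]; norm_num)
  have hmod : Nat.card (Sylow 7 (PSU 4 K 3)) ≡ 1 [MOD 7] := card_sylow_modEq_one 7 _
  rw [Sylow.card_eq_index_normalizer P] at hmod
  have hmul := Subgroup.card_mul_index N
  rw [hdN, card_PSU hK] at hmul
  change N.index ≡ 1 [MOD 7] at hmod
  have hd' : d = 1 ∨ d = 2 ∨ d = 3 ∨ d = 6 := by
    have := Nat.le_of_dvd (by norm_num) hd6
    interval_cases d <;> omega
  rw [hdN]
  unfold Nat.ModEq at hmod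
  rcases hd' with rfl | rfl | rfl | rfl <;> omega

end grp

end Cfsg.Agent.PSUFourThree56
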