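import Cfsg.Agent.Lib.U43Field51
import Cfsg.Agent.Lib.PSUFourThree56
import Cfsg.Agent.Lib.OrthUnitaryPSU

/-!
An elementary abelian subgroup of order 81 of `PSU₄(3)` with two elements of order five normalising it.
-/

set_option autoImplicit false
set_option maxRecDepth 100000

namespace Cfsg.Agent.FischerFrame18

open Cfsg Cfsg.Agent.OrthUnitaryHerm Cfsg.Agent.U43CoverOps51 Cfsg.Agent.U43Field51
open scoped Matrix

/-- codes of the four generators -/
def aT : List (List (List ℕ)) :=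
  [[[4, 3, 3, 0], [3, 4, 3, 0], [3, 3, 4, 0], [0, 0, 0, 1]], [[4, 6, 0, 3], [6, 4, 0, 6], [0, 0, 1, 0], [3, 6, 0, 4]], [[7, 7, 8, 1], [8, 4, 1, 7], [7, 2, 4, 4], [2, 8, 5, 7]], [[1, 0, 0, 0], [0, 7, 3, 6], [0, 3, 7, 3], [0, 6, 3, 7]]]

/-- code of the first element of order five -/
def bT : List (List ℕ) := [[8, 2, 4, 8], [7, 5, 1, 4], [5, 5, 5, 1], [1, 5, 8, 8]]

/-- code of the second element of order five -/
def cT : List (List ℕ) := [[5, 1, 7, 5], [5, 8, 1, 7], [8, 8, 8, 2], [1, 8, 4, 5]]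

/-- exponents of the conjugates under the first element -/
def Bm : Fin 4 → Fin 4 → ZMod 3 := ![![0, 1, 0, 0], ![0, 0, 1, 0], ![0, 0, 0, 1], ![2, 2, 2, 2]]

/-- exponents of the conjugates under the second element -/
def Cm : Fin 4 → Fin 4 → ZMod 3 := ![![0, 1, 0, 0], ![1, 1, 1, 1], ![2, 0, 0, 0], ![1, 2, 2, 1]]

/-- a product of powers -/
def prodA {G : Type*} [Monoid G] (a : Fin 4 → G) (x : Fin 4 → ZMod 3) : G :=
  a 0 ^ (x 0).val * a 1 ^ (x 1).val * a 2 ^ (x 2).val * a 3 ^ (x 3).val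

/-- an entry of a code matrix -/
def ent (L : List (List ℕ)) (i j : ℕ) : ℕ := (L.getD i []).getD j 0

/-- product of code matrices -/
def cmul (A B : List (List ℕ)) : List (List ℕ) :=
  (List.range 4).map fun i => (List.range 4).map fun j =>
    fadd (fadd (fadd (fmul (ent A i 0) (ent B 0 j)) (fmul (ent A i 1) (ent B 1 j)))
      (fmul (ent A i 2) (ent B 2 j))) (fmul (ent A i 3) (ent B 3 j))

/-- the identity code matrix -/
def cone : List (List ℕ) := [[1, 0, 0, 0], [0, 1, 0, 0], [0, 0, 1, 0], [0, 0, 0, 1]]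

/-- powers of a code matrix -/
def cpow (A : List (List ℕ)) : ℕ → List (List ℕ)
  | 0 => cone
  | k + 1 => cmul (cpow A k) A

/-- the Gram condition on code matrices -/
def gramOK (A : List (List ℕ)) : Bool :=
  (List.range 4).all fun i => (List.range 4).all fun j =>
    fadd (fadd (fadd (fmul (ent A 0 i) (fconj (ent A 0 j))) (fmul (ent A 1 i) (fconj (ent A 1 j))))
      (fmul (ent A 2 i) (fconj (ent A 2 j)))) (fmul (ent A 3 i) (fconj (ent A 3 j))) ==
      (bif i == j then 1 else 0)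

/-- product of powers of the four generators on codes -/
def cprod (x : Fin 4 → ZMod 3) : List (List ℕ) :=
  cmul (cmul (cmul (cpow (aT.getD 0 []) (x 0).val) (cpow (aT.getD 1 []) (x 1).val))
    (cpow (aT.getD 2 []) (x 2).val)) (cpow (aT.getD 3 []) (x 3).val)

/-- the checks -/
def codesOK : Bool :=
  (aT.all fun A => gramOK A && cpow A 3 == cone) && gramOK bT && cpow bT 5 == cone && gramOK cT &&
    cpow cT 5 == cone &&
    aT.all fun A => aT.all fun B => cmul A B == cmul B A

theorem codes_ok : codesOK = true := by decide +kernel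

theorem conj_ok : ∀ j : Fin 4, cmul bT (aT.getD j []) = cmul (cprod (Bm j)) bT ∧
    cmul cT (aT.getD j []) = cmul (cprod (Cm j)) cT := by decide +kernel

theorem indep_ok : ∀ x : Fin 4 → ZMod 3, x = 0 ∨ ∃ i j : Fin 4, ent (cprod x) i j ≠ ent cone i j ∧
    ent (cprod x) i j < 9 := by decide +kernel

universe u

variable {K : Type u} [Field K] [Fintype K]

/-- the matrix of a code -/
def mat (c : K) (L : List (List ℕ)) : Matrix (Fin 4) (Fin 4) K :=
  Matrix.of fun i j => ev c (ent L i j)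

omit [Fintype K] in
theorem ent_map (f : ℕ → ℕ → ℕ) (i j : Fin 4) :
    ent ((List.range 4).map fun a => (List.range 4).map fun b => f a b) i j = f i j := by
  fin_cases i <;> fin_cases j <;> rfl

theorem mat_mul (hK : Fintype.card K = 3 ^ 2) {c : K} (hc : c * c = -1) (A B : List (List ℕ)) :
    mat c (cmul A B) = mat c A * mat c B := by
  ext i j
  simp only [mat, Matrix.of_apply, Matrix.mul_apply, Fin.sum_univ_four, cmul, ent_map,
    ev_add hK, ev_mul hK hc]
  rfl

omit [Fintype K] in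
theorem mat_one (c : K) : mat c cone = 1 := by
  ext i j
  fin_cases i <;> fin_cases j <;> simp [mat, ent, cone, ev_one, ev_zero]

theorem isU_mat (hK : Fintype.card K = 3 ^ 2) {c : K} (hc : c * c = -1) {A : List (List ℕ)}
    (h : gramOK A = true) : IsU 3 (mat c A) := by
  simp only [gramOK, List.all_eq_true, List.mem_range, beq_iff_eq] at h
  have hij : ∀ i j : Fin 4, ∑ k : Fin 4, ev c (ent A k i) * ev c (ent A k j) ^ 3 =
      if i = j then 1 else 0 := by
    intro i j
    have := congrArg (ev c) (h i i.2 j j.2)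
    simp only [ev_add hK, ev_mul hK hc, ev_conj hK hc] at this
    rw [Fin.sum_univ_four]
    refine this.trans ?_
    by_cases e : i = j
    · subst e; simp [ev_one]
    · rw [beq_false_of_ne (Fin.val_inj.not.2 e), cond_false, if_neg e, ev_zero]
  intro u v
  simp only [Cfsg.hermForm, Matrix.mulVec, dotProduct, mat, Matrix.of_apply]
  calc ∑ k : Fin 4, (∑ i : Fin 4, ev c (ent A k i) * u i) * (∑ j : Fin 4, ev c (ent A k j) * v j) ^ 3
      = ∑ k : Fin 4, ∑ i : Fin 4, ∑ j : Fin 4, u i * v j ^ 3 * (ev c (ent A k i) * ev c (ent A k j) ^ 3) := by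
        refine Finset.sum_congr rfl fun k _ => ?_
        rw [OrthUnitaryHerm.sum_pow_q hK, Finset.sum_mul_sum]
        refine Finset.sum_congr rfl fun i _ => Finset.sum_congr rfl fun j _ => ?_
        ring
    _ = ∑ i : Fin 4, ∑ j : Fin 4, u i * v j ^ 3 * ∑ k : Fin 4, (ev c (ent A k i) * ev c (ent A k j) ^ 3) := by
        rw [Finset.sum_comm]
        refine Finset.sum_congr rfl fun i _ => ?_
        rw [Finset.sum_comm]
        exact Finset.sum_congr rfl fun j _ => (Finset.mul_sum _ _ _).symm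
    _ = ∑ i : Fin 4, u i * v i ^ 3 := by simp [hij]

theorem mat_pow (hK : Fintype.card K = 3 ^ 2) {c : K} (hc : c * c = -1) (A : List (List ℕ)) :
    ∀ k, mat c (cpow A k) = mat c A ^ k
  | 0 => by rw [cpow, mat_one, pow_zero]
  | k + 1 => by rw [cpow, mat_mul hK hc, mat_pow hK hc A k, pow_succ]

/-- A unitary matrix whose third or fifth power is one has determinant one. -/
theorem det_one (hK : Fintype.card K = 3 ^ 2) {M : Matrix (Fin 4) (Fin 4) K} {k : ℕ}
    (hk : k = 3 ∨ k = 5) (h : M ^ k = 1) : M.det = 1 := by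
  have h1 : M.det ^ k = 1 := by rw [← Matrix.det_pow, h, Matrix.det_one]
  have h0 : M.det ≠ 0 := fun e => by
    rw [e] at h1
    rcases hk with rfl | rfl <;> simp at h1
  have h8 : M.det ^ 8 = 1 := by
    have := FiniteField.pow_card_sub_one_eq_one M.det h0
    rwa [hK] at this
  rcases hk with rfl | rfl
  · calc M.det = M.det ^ (3 * 3) / M.det ^ 8 := by
          rw [h8, div_one, pow_succ, h8, one_mul]
      _ = 1 := by rw [pow_mul, h1, one_pow, h8, div_one]
  · calc M.det = (M.det ^ 8) ^ 2 * M.det := by rw [h8, one_pow, one_mul]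
      _ = (M.det ^ 5) ^ 3 * M.det ^ 2 := by ring
      _ = M.det ^ 2 := by rw [h1, one_pow, one_mul]
      _ = 1 := by
        have : M.det ^ 2 = M.det ^ (5 * 2) := by
          rw [show 5 * 2 = 8 + 2 from rfl, pow_add, h8, one_mul]
        rw [this, pow_mul, h1, one_pow]

theorem exists_gens (hK : Fintype.card K = 9) :
    ∃ (a : Fin 4 → PSU 4 K 3) (b c : PSU 4 K 3),
      (∀ i, a i ^ 3 = 1) ∧ (∀ i j, a i * a j = a j * a i) ∧
      (∀ x : Fin 4 → ZMod 3, prodA a x = 1 → x = 0) ∧ b ^ 5 = 1 ∧ c ^ 5 = 1 ∧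
      (∀ j, b * a j * b⁻¹ = prodA a (Bm j)) ∧ (∀ j, c * a j * c⁻¹ = prodA a (Cm j)) := by
  have hK' : Fintype.card K = 3 ^ 2 := by rw [hK]; norm_num
  obtain ⟨i₀, hi₀⟩ := (FiniteField.isSquare_neg_one_iff (F := K)).2 (by rw [hK]; norm_num)
  have hc : i₀ * i₀ = -1 := hi₀.symm
  have hok := codes_ok
  simp only [codesOK, Bool.and_eq_true, List.all_eq_true, beq_iff_eq] at hok
  obtain ⟨⟨⟨⟨⟨haT, hbU⟩, hb5⟩, hcU⟩, hc5⟩, hcomm⟩ := hok
  have hmem : ∀ i : Fin 4, aT.getD i [] ∈ aT := by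
    intro i; fin_cases i <;> simp [aT]
  have hp : ∀ (A : List (List ℕ)) (k : ℕ), cpow A k = cone → mat i₀ A ^ k = 1 := fun A k h => by
    rw [← mat_pow hK' hc, h, mat_one]
  let α : Fin 4 → ↥(SU 4 K 3) := fun i => mkSU (mat i₀ (aT.getD i []))
    (det_one hK' (Or.inl rfl) (hp _ 3 (haT _ (hmem i)).2)) (isU_mat hK' hc (haT _ (hmem i)).1)
  let β : ↥(SU 4 K 3) := mkSU (mat i₀ bT) (det_one hK' (Or.inr rfl) (hp _ 5 hb5)) (isU_mat hK' hc hbU)
  let γ : ↥(SU 4 K 3) := mkSU (mat i₀ cT) (det_one hK' (Or.inr rfl) (hp _ 5 hc5)) (isU_mat hK' hc hcU)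
  have hT : ∀ g h : ↥(SU 4 K 3), PSUFourThree56.toM g = PSUFourThree56.toM h → g = h :=
    fun g h e => PSUFourThree56.toM_injective e
  have hα : ∀ i, PSUFourThree56.toM (α i) = mat i₀ (aT.getD i []) := fun i => rfl
  have hprod : ∀ x, PSUFourThree56.toM (prodA α x) = mat i₀ (cprod x) := fun x => by
    simp only [prodA, cprod, map_mul, map_pow, hα, mat_mul hK' hc, mat_pow hK' hc]
    rfl
  set π := QuotientGroup.mk' (Subgroup.center ↥(SU 4 K 3))
  have hπ : ∀ x, prodA (fun i => π (α i)) x = π (prodA α x) := fun x => by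
    simp only [prodA, map_mul, map_pow]
  have ha3 : ∀ i, α i ^ 3 = 1 := fun i => hT _ _ (by
    rw [map_pow, map_one, hα, hp _ 3 (haT _ (hmem i)).2])
  have hcm : ∀ i j, α i * α j = α j * α i := fun i j => hT _ _ (by
    rw [map_mul, map_mul, hα, hα, ← mat_mul hK' hc, ← mat_mul hK' hc, hcomm _ (hmem i) _ (hmem j)])
  refine ⟨fun i => π (α i), π β, π γ, fun i => by rw [← map_pow, ha3, map_one],
    fun i j => by rw [← map_mul, ← map_mul, hcm], fun x hx => ?_, ?_, ?_, fun j => ?_, fun j => ?_⟩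
  · rw [hπ] at hx
    have hz : prodA α x ∈ Subgroup.center ↥(SU 4 K 3) := (QuotientGroup.eq_one_iff _).1 hx
    have h4 := congrArg Subtype.val
      (pow_card_eq_one' (x := (⟨_, hz⟩ : Subgroup.center ↥(SU 4 K 3))))
    rw [PSUFourThree56.card_center hK] at h4
    have h3 : prodA α x ^ 3 = 1 := by
      have cp : ∀ i j (m n : ℕ), Commute (α i ^ m) (α j ^ n) := fun i j m n =>
        (show Commute (α i) (α j) from hcm i j).pow_pow m n
      simp only [prodA]
      rw [(((cp 0 3 _ _).mul_left (cp 1 3 _ _)).mul_left (cp 2 3 _ _)).mul_pow,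
        ((cp 0 2 _ _).mul_left (cp 1 2 _ _)).mul_pow, (cp 0 1 _ _).mul_pow]
      simp only [← pow_mul, mul_comm _ 3]
      simp only [pow_mul, ha3, one_pow, one_mul]
    have h1 : prodA α x = 1 := by
      have : prodA α x ^ 4 = prodA α x := by rw [pow_succ, h3, one_mul]
      rw [← this]; simpa using h4
    rcases indep_ok x with rfl | ⟨i, j, hne, hlt⟩
    · rfl
    · exfalso
      have := congrFun (congrFun ((hprod x).symm.trans (by rw [h1, map_one, ← mat_one i₀])) i) j
      refine hne (ev_inj hK' hc hlt ?_ this)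
      fin_cases i <;> fin_cases j <;> decide
  · rw [← map_pow, show β ^ 5 = 1 from hT _ _ (by rw [map_pow, map_one]; exact hp _ 5 hb5), map_one]
  · rw [← map_pow, show γ ^ 5 = 1 from hT _ _ (by rw [map_pow, map_one]; exact hp _ 5 hc5), map_one]
  · rw [← map_inv, ← map_mul, ← map_mul, hπ]
    refine congrArg π (mul_inv_eq_iff_eq_mul.2 (hT _ _ ?_))
    rw [map_mul, map_mul, hprod, hα]
    show mat i₀ bT * _ = _ * mat i₀ bT
    rw [← mat_mul hK' hc, ← mat_mul hK' hc, (conj_ok j).1]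
  · rw [← map_inv, ← map_mul, ← map_mul, hπ]
    refine congrArg π (mul_inv_eq_iff_eq_mul.2 (hT _ _ ?_))
    rw [map_mul, map_mul, hprod, hα]
    show mat i₀ cT * _ = _ * mat i₀ cT
    rw [← mat_mul hK' hc, ← mat_mul hK' hc, (conj_ok j).2]

end Cfsg.Agent.FischerFrame18
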