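import Mathlib
import Cfsg.Agent.Lib.FischerFrameGens18

/-!
Orbits of two affine maps on the characters of an elementary abelian group of order 81, and the
four configurations of six characters.
-/

set_option autoImplicit false
set_option maxRecDepth 100000

namespace Cfsg.Agent.FischerFrame18

/-- the first map on characters -/
def fB (f : Fin 4 → ZMod 3) : Fin 4 → ZMod 3 := fun j => ∑ i, Bm j i * f i

/-- the second map on characters -/
def fC (x : Fin 4 → ZMod 3) (t : ZMod 3) (f : Fin 4 → ZMod 3) : Fin 4 → ZMod 3 :=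
  fun j => (∑ i, Cm j i * f i) + x j * t

/-- the code of a character -/
def enc (f : Fin 4 → ZMod 3) : ℕ := (f 0).val + 3 * (f 1).val + 9 * (f 2).val + 27 * (f 3).val

/-- the first map on codes -/
def nB (n : ℕ) : ℕ := n / 3 % 3 + 3 * (n / 9 % 3) + 9 * (n / 27 % 3) +
  27 * ((2 * (n % 3) + 2 * (n / 3 % 3) + 2 * (n / 9 % 3) + 2 * (n / 27 % 3)) % 3)

/-- the second map on codes -/
def nC (xn t n : ℕ) : ℕ :=
  (n / 3 % 3 + xn % 3 * t) % 3 +
    3 * ((n % 3 + n / 3 % 3 + n / 9 % 3 + n / 27 % 3 + xn / 3 % 3 * t) % 3) +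
    9 * ((2 * (n % 3) + xn / 9 % 3 * t) % 3) +
    27 * ((n % 3 + 2 * (n / 3 % 3) + 2 * (n / 9 % 3) + n / 27 % 3 + xn / 27 % 3 * t) % 3)

theorem enc_lt : ∀ f, enc f < 81 := by decide +kernel

theorem enc_inj : Function.Injective enc := by unfold Function.Injective; decide +kernel

theorem enc_fB : ∀ f, enc (fB f) = nB (enc f) := by decide +kernel

theorem enc_fC0 : ∀ f x, enc (fC x 0 f) = nC (enc x) 0 (enc f) := by decide +kernel

theorem enc_fC1 : ∀ f x, enc (fC x 1 f) = nC (enc x) 1 (enc f) := by decide +kernel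

theorem enc_zero : enc 0 = 0 := rfl

/-- a bounded orbit search -/
def grow (g h : ℕ → ℕ) (m : ℕ) : ℕ → List ℕ → List ℕ
  | 0, l => l
  | k + 1, l =>
    let l' := (l ++ l.map g ++ l.map h).dedup
    bif m < l'.length then l' else grow g h m k l'

theorem grow_sub {g h : ℕ → ℕ} {m : ℕ} (U : Finset ℕ) (hg : ∀ a ∈ U, g a ∈ U) (hh : ∀ a ∈ U, h a ∈ U) :
    ∀ (k : ℕ) (l : List ℕ), l.Nodup → (∀ a ∈ l, a ∈ U) →
      (grow g h m k l).Nodup ∧ ∀ a ∈ grow g h m k l, a ∈ U
  | 0, l, hn, hl => ⟨hn, hl⟩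
  | k + 1, l, hn, hl => by
    have hn' : (l ++ l.map g ++ l.map h).dedup.Nodup := List.nodup_dedup _
    have hl' : ∀ a ∈ (l ++ l.map g ++ l.map h).dedup, a ∈ U := by
      intro a ha
      simp only [List.mem_dedup, List.mem_append, List.mem_map] at ha
      rcases ha with (ha | ⟨b, hb, rfl⟩) | ⟨b, hb, rfl⟩
      exacts [hl a ha, hg b (hl b hb), hh b (hl b hb)]
    simp only [grow]
    cases decide (m < (l ++ l.map g ++ l.map h).dedup.length)
    · exact grow_sub U hg hh k _ hn' hl'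
    · exact ⟨hn', hl'⟩

theorem grow_le {g h : ℕ → ℕ} {m : ℕ} (U : Finset ℕ) (hg : ∀ a ∈ U, g a ∈ U) (hh : ∀ a ∈ U, h a ∈ U)
    (hU : U.card ≤ m) {a : ℕ} (ha : a ∈ U) (k : ℕ) : (grow g h m k [a]).length ≤ m := by
  obtain ⟨hn, hs⟩ := grow_sub (m := m) U hg hh k [a] (List.nodup_singleton a) (by simpa using ha)
  rw [← List.toFinset_card_of_nodup hn]
  exact (Finset.card_le_card fun b hb => hs b (List.mem_toFinset.1 hb)).trans hU

/-- whether the orbit is small -/
def small (xn f : ℕ) : Bool := decide ((grow nB (nC xn 1) 6 6 [f]).length ≤ 6)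

theorem lin_ok : ∀ f < 81, f ≠ 0 → 12 < (grow nB (nC 0 0) 12 12 [f]).length := by decide +kernel

/-- the configurations: the translation, and the six characters -/
def cX : Fin 4 → Fin 4 → ZMod 3 := ![![0, 1, 1, 0], ![0, 1, 1, 1], ![0, 2, 2, 0], ![0, 2, 2, 2]]

/-- the six characters of a configuration -/
def cS : Fin 4 → Fin 6 → Fin 4 → ZMod 3 :=
  ![![![0, 0, 0, 0], ![0, 1, 0, 1], ![0, 1, 1, 0], ![1, 0, 1, 0], ![1, 0, 1, 1], ![1, 1, 0, 1]],
    ![![0, 0, 0, 0], ![0, 0, 1, 1], ![0, 1, 1, 1], ![1, 0, 0, 1], ![1, 1, 0, 0], ![1, 1, 1, 0]],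
    ![![0, 0, 0, 0], ![0, 2, 0, 2], ![0, 2, 2, 0], ![2, 0, 2, 0], ![2, 0, 2, 2], ![2, 2, 0, 2]],
    ![![0, 0, 0, 0], ![0, 0, 2, 2], ![0, 2, 2, 2], ![2, 0, 0, 2], ![2, 2, 0, 0], ![2, 2, 2, 0]]]

/-- the first permutation, first kind -/
def pb0 : Equiv.Perm (Fin 6) := ⟨![0, 4, 5, 1, 2, 3], ![0, 3, 4, 5, 1, 2], by decide, by decide⟩

/-- the second permutation, first kind -/
def pc0 : Equiv.Perm (Fin 6) := ⟨![2, 3, 4, 0, 1, 5], ![3, 4, 0, 1, 2, 5], by decide, by decide⟩

/-- the first permutation, second kind -/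
def pb1 : Equiv.Perm (Fin 6) := ⟨![0, 2, 5, 1, 3, 4], ![0, 3, 1, 4, 5, 2], by decide, by decide⟩

/-- the second permutation, second kind -/
def pc1 : Equiv.Perm (Fin 6) := ⟨![2, 1, 5, 0, 3, 4], ![3, 1, 0, 4, 5, 2], by decide, by decide⟩

/-- the first permutation -/
def cB : Fin 4 → Equiv.Perm (Fin 6) := ![pb0, pb1, pb0, pb1]

/-- the second permutation -/
def cC : Fin 4 → Equiv.Perm (Fin 6) := ![pc0, pc1, pc0, pc1]

theorem cS_fB : ∀ k i, fB (cS k i) = cS k (cB k i) := by decide +kernel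

theorem cS_fC : ∀ k i, fC (cX k) 1 (cS k i) = cS k (cC k i) := by decide +kernel

theorem cS_inj : ∀ k, Function.Injective (cS k) := by unfold Function.Injective; decide +kernel

theorem cS_sum : ∀ k j, ∑ i, cS k i j = 0 := by decide +kernel

/-- A nonempty set of indices closed under both permutations is everything. -/
theorem closed_all : ∀ k (U : Finset (Fin 6)), U.Nonempty → (∀ i ∈ U, cB k i ∈ U ∧ cC k i ∈ U) →
    U = Finset.univ := by decide +kernel

/-- the small characters for one translation -/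
def smalls (xn : ℕ) : List ℕ := (List.range 81).filter (small xn)

theorem small_cases : ∀ xn < 81, (smalls xn).length ≤ 1 ∨
    ∃ k, xn = enc (cX k) ∧ ∀ f ∈ smalls xn, ∃ i, enc (cS k i) = f := by decide +kernel

end Cfsg.Agent.FischerFrame18
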