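import Mathlib

/-!
Simultaneous eigenspaces of commuting maps of order three on an elementary abelian two-group with
a fixed point free map of order three.
-/

set_option autoImplicit false

namespace Cfsg.Agent.FischerFrame18

/-- A fixed point free map of order three on an elementary abelian two-group, with a family of
commuting maps of order three commuting with it. -/
structure Fam {V : Type*} [AddCommGroup V] (o : V →+ V) {k : ℕ} (f : Fin k → V →+ V) : Prop where
  two : ∀ v : V, v + v = 0
  rel : ∀ v, o (o v) + o v + v = 0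
  cube : ∀ i v, f i (f i (f i v)) = v
  comm : ∀ i v, f i (o v) = o (f i v)
  commf : ∀ i j v, f i (f j v) = f j (f i v)

variable {V : Type*} [AddCommGroup V]

/-- a power of the fixed point free map -/
def ow (o : V →+ V) (j : ZMod 3) : V →+ V :=
  if j = 0 then AddMonoidHom.id V else if j = 1 then o else o.comp o

/-- a projection for one map -/
def proj (o g : V →+ V) (j : ZMod 3) : V →+ V :=
  AddMonoidHom.id V + (ow o (2 * j)).comp g + (ow o j).comp (g.comp g)

/-- the projection on the space of a character -/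
def Ep (o : V →+ V) {k : ℕ} (f : Fin k → V →+ V) (χ : Fin k → ZMod 3) : V →+ V :=
  (List.finRange k).foldr (fun i p => (proj o (f i) (χ i)).comp p) (AddMonoidHom.id V)

/-- the space of a character -/
def eig (o : V →+ V) {k : ℕ} (f : Fin k → V →+ V) (χ : Fin k → ZMod 3) : AddSubgroup V where
  carrier := {v | ∀ i, f i v = ow o (χ i) v}
  zero_mem' := fun i => by rw [map_zero, map_zero]
  add_mem' := fun {a b} ha hb i => by rw [map_add, map_add, ha i, hb i]
  neg_mem' := fun {a} ha i => by rw [map_neg, map_neg, ha i]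

theorem mem_eig {o : V →+ V} {k : ℕ} {f : Fin k → V →+ V} {χ : Fin k → ZMod 3} {v : V} :
    v ∈ eig o f χ ↔ ∀ i, f i v = ow o (χ i) v := Iff.rfl

theorem zmod3_cases (j : ZMod 3) : j = 0 ∨ j = 1 ∨ j = 2 := by revert j; decide

theorem ow_zero (o : V →+ V) (v : V) : ow o 0 v = v := rfl

theorem ow_one (o : V →+ V) (v : V) : ow o 1 v = o v := rfl

theorem ow_two (o : V →+ V) (v : V) : ow o 2 v = o (o v) := rfl

theorem map_ow (o g : V →+ V) (hg : ∀ v, g (o v) = o (g v)) (j : ZMod 3) (v : V) :
    g (ow o j v) = ow o j (g v) := by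
  rcases zmod3_cases j with rfl | rfl | rfl
  · rfl
  · exact hg v
  · rw [ow_two, ow_two, hg, hg]

namespace Fam

variable {o : V →+ V} {k : ℕ} {f : Fin k → V →+ V} (H : Fam o f)
include H

theorem neg_eq (v : V) : -v = v := neg_eq_of_add_eq_zero_left (H.two v)

theorem o_two (v : V) : o (o v) = o v + v := by
  have h := eq_neg_of_add_eq_zero_left (show o (o v) + (o v + v) = 0 by rw [← add_assoc]; exact H.rel v)
  rwa [H.neg_eq] at h

theorem o_three (v : V) : o (o (o v)) = v := by
  rw [H.o_two (o v), H.o_two v, add_comm (o v) v, add_assoc, H.two, add_zero]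

theorem ow_add (i j : ZMod 3) (v : V) : ow o (i + j) v = ow o i (ow o j v) := by
  rcases zmod3_cases i with rfl | rfl | rfl <;> rcases zmod3_cases j with rfl | rfl | rfl
  all_goals first
    | rfl
    | exact (H.o_three v).symm
    | exact congrArg o (H.o_three v).symm

theorem sum_ow (v : V) : ow o 0 v + ow o 1 v + ow o 2 v = 0 := by
  rw [ow_zero, ow_one, ow_two, add_comm v, add_comm (o v + v), ← add_assoc]
  exact H.rel v

theorem sum3 (l : ZMod 3) (v : V) :
    v + ow o l v + ow o (2 * l) v = if l = 0 then v else 0 := by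
  rcases zmod3_cases l with rfl | rfl | rfl
  · rw [if_pos rfl, mul_zero, ow_zero, H.two, zero_add]
  · rw [if_neg (by decide)]; exact H.sum_ow v
  · rw [if_neg (by decide), add_assoc, add_comm (ow o 2 v), ← add_assoc]; exact H.sum_ow v

theorem f_ow (i : Fin k) (j : ZMod 3) (v : V) : f i (ow o j v) = ow o j (f i v) :=
  map_ow o (f i) (H.comm i) j v

theorem proj_eig (i : Fin k) (j l : ZMod 3) {v : V} (hv : f i v = ow o l v) :
    proj o (f i) j v = if l = j then v else 0 := by
  simp only [proj, AddMonoidHom.add_apply, AddMonoidHom.id_apply, AddMonoidHom.comp_apply]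
  rw [hv, H.f_ow, hv, ← H.ow_add l l, ← H.ow_add, ← H.ow_add,
    show 2 * j + l = (l - j) by
      have h3 : (3 : ZMod 3) = 0 := rfl
      linear_combination j * h3,
    show j + (l + l) = 2 * (l - j) by
      have h3 : (3 : ZMod 3) = 0 := rfl
      linear_combination j * h3, H.sum3]
  simp [sub_eq_zero]

theorem foldr_eig (χ ψ : Fin k → ZMod 3) {v : V} (hv : v ∈ eig o f ψ) : ∀ l : List (Fin k),
    l.foldr (fun i p => (proj o (f i) (χ i)).comp p) (AddMonoidHom.id V) v =
      if ∀ i ∈ l, ψ i = χ i then v else 0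
  | [] => by simp
  | i :: l => by
    rw [List.foldr_cons, AddMonoidHom.comp_apply, foldr_eig χ ψ hv l]
    by_cases h : ∀ j ∈ l, ψ j = χ j
    · rw [if_pos h, H.proj_eig i _ _ (hv i)]
      by_cases e : ψ i = χ i
      · rw [if_pos e, if_pos fun j hj => (List.mem_cons.1 hj).elim (fun q => q ▸ e) (h j)]
      · rw [if_neg e, if_neg fun h' => e (h' i List.mem_cons_self)]
    · rw [if_neg h, map_zero, if_neg fun h' => h fun j hj => h' j (List.mem_cons_of_mem _ hj)]

theorem Ep_eig (χ ψ : Fin k → ZMod 3) {v : V} (hv : v ∈ eig o f ψ) :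
    Ep o f χ v = if ψ = χ then v else 0 := by
  rw [Ep, H.foldr_eig χ ψ hv]
  simp [funext_iff]

theorem f_proj (i : Fin k) (j : ZMod 3) (v : V) :
    f i (proj o (f i) j v) = ow o j (proj o (f i) j v) := by
  simp only [proj, AddMonoidHom.add_apply, AddMonoidHom.id_apply, AddMonoidHom.comp_apply, map_add,
    H.f_ow, H.cube, ← H.ow_add]
  rw [show j + 2 * j = (0 : ZMod 3) by
      have h3 : (3 : ZMod 3) = 0 := rfl
      linear_combination j * h3, ow_zero, show j + j = 2 * j by ring]
  abel

theorem f_proj_comm (i i' : Fin k) (j : ZMod 3) (v : V) :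
    f i' (proj o (f i) j v) = proj o (f i) j (f i' v) := by
  simp only [proj, AddMonoidHom.add_apply, AddMonoidHom.id_apply, AddMonoidHom.comp_apply, map_add,
    H.f_ow, H.commf i' i]

theorem sum_proj (i : Fin k) (v : V) :
    proj o (f i) 0 v + proj o (f i) 1 v + proj o (f i) 2 v = v := by
  simp only [proj, AddMonoidHom.add_apply, AddMonoidHom.id_apply, AddMonoidHom.comp_apply]
  have e : (2 : ZMod 3) * 2 = 1 := rfl
  rw [mul_zero, mul_one, e]
  have h1 := H.sum_ow (f i v)
  have h2 := H.sum_ow (f i (f i v))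
  calc _ = (v + v + v) + (ow o 0 (f i v) + ow o 1 (f i v) + ow o 2 (f i v)) +
        (ow o 0 (f i (f i v)) + ow o 1 (f i (f i v)) + ow o 2 (f i (f i v))) := by abel
    _ = v := by rw [h1, h2, H.two, zero_add, add_zero, add_zero]

theorem mem_iSup_partial (v : V) : ∀ l : List (Fin k), v ∈ AddSubgroup.closure
    {w : V | ∀ i ∈ l, ∃ j, f i w = ow o j w}
  | [] => AddSubgroup.subset_closure fun i hi => absurd hi List.not_mem_nil
  | i :: l => by
    have := mem_iSup_partial v l
    induction this using AddSubgroup.closure_induction with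
    | mem w hw =>
      rw [← H.sum_proj i w]
      refine add_mem (add_mem ?_ ?_) ?_
      all_goals
        refine AddSubgroup.subset_closure fun a ha => ?_
        rcases List.mem_cons.1 ha with rfl | ha
        · exact ⟨_, H.f_proj a _ w⟩
        · obtain ⟨j, hj⟩ := hw a ha
          refine ⟨j, ?_⟩
          rw [H.f_proj_comm, hj, ← map_ow o (proj o (f i) _) ?_ j w]
          intro u
          simp only [proj, AddMonoidHom.add_apply, AddMonoidHom.id_apply, AddMonoidHom.comp_apply,
            map_add, H.comm, map_ow o o (fun _ => rfl)]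
    | zero => exact zero_mem _
    | add x y _ _ hx hy => exact add_mem hx hy
    | neg x _ hx => exact neg_mem hx

theorem mem_closure_eig (v : V) :
    v ∈ AddSubgroup.closure {w : V | ∃ ψ, w ∈ eig o f ψ} := by
  refine AddSubgroup.closure_mono ?_ (H.mem_iSup_partial v (List.finRange k))
  intro w hw
  choose j hj using fun i => hw i (List.mem_finRange i)
  exact ⟨j, hj⟩

theorem Ep_mem (χ : Fin k → ZMod 3) (v : V) : Ep o f χ v ∈ eig o f χ := by
  induction H.mem_closure_eig v using AddSubgroup.closure_induction with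
  | mem w hw =>
    obtain ⟨ψ, hψ⟩ := hw
    rw [H.Ep_eig χ ψ hψ]
    split_ifs with e
    · exact e ▸ hψ
    · exact zero_mem _
  | zero => rw [map_zero]; exact zero_mem _
  | add x y _ _ hx hy => rw [map_add]; exact add_mem hx hy
  | neg x _ hx => rw [map_neg]; exact neg_mem hx

theorem sum_Ep (v : V) : ∑ χ : Fin k → ZMod 3, Ep o f χ v = v := by
  induction H.mem_closure_eig v using AddSubgroup.closure_induction with
  | mem w hw =>
    obtain ⟨ψ, hψ⟩ := hw
    simp only [H.Ep_eig _ ψ hψ]
    simp
  | zero => simp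
  | add x y _ _ hx hy => simp only [map_add, Finset.sum_add_distrib, hx, hy]
  | neg x _ hx => simp only [map_neg, Finset.sum_neg_distrib, hx]

/-- The group is the product of the spaces. -/
def decomp : V ≃ ((χ : Fin k → ZMod 3) → eig o f χ) where
  toFun v χ := ⟨Ep o f χ v, H.Ep_mem χ v⟩
  invFun u := ∑ χ, (u χ : V)
  left_inv v := H.sum_Ep v
  right_inv u := by
    funext χ
    apply Subtype.ext
    show Ep o f χ (∑ ψ, (u ψ : V)) = u χ
    rw [map_sum, Finset.sum_eq_single χ]
    · rw [H.Ep_eig χ χ (u χ).2, if_pos rfl]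
    · intro ψ _ hψ
      rw [H.Ep_eig χ ψ (u ψ).2, if_neg hψ]
    · simp

theorem card_eq_prod : Nat.card V = ∏ χ : Fin k → ZMod 3, Nat.card (eig o f χ) := by
  rw [Nat.card_congr H.decomp, Nat.card_pi]

theorem four_le [Finite V] (χ : Fin k → ZMod 3) {v : V} (hv : v ∈ eig o f χ) (h0 : v ≠ 0) :
    4 ≤ Nat.card (eig o f χ) := by
  have ho : o v ∈ eig o f χ := fun i => by
    rw [H.comm, hv i]; exact map_ow o o (fun _ => rfl) _ v
  have ho' : o (o v) ∈ eig o f χ := fun i => by
    rw [H.comm, ho i]; exact map_ow o o (fun _ => rfl) _ _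
  have hnf : ∀ u, o u = u → u = 0 := fun u hu => by
    have := H.rel u
    rwa [hu, hu, H.two, zero_add] at this
  have hinj : Function.Injective o := fun a b e => by
    have := congrArg (fun w => o (o w)) e
    simpa [H.o_three] using this
  let g : Fin 4 → eig o f χ := ![⟨0, zero_mem _⟩, ⟨v, hv⟩, ⟨o v, ho⟩, ⟨o (o v), ho'⟩]
  have hg : Function.Injective g := by
    have a1 : o v ≠ 0 := fun e => h0 (hinj (e.trans (map_zero o).symm))
    have a2 : o (o v) ≠ 0 := fun e => a1 (hinj (e.trans (map_zero o).symm))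
    have a3 : o v ≠ v := fun e => h0 (hnf v e)
    have a4 : o (o v) ≠ o v := fun e => a3 (hinj e)
    have a5 : o (o v) ≠ v := fun e => by
      have : o v = v := by
        have h := congrArg o e
        rwa [H.o_three, eq_comm] at h
      exact a3 this
    intro a b e
    have e' := congrArg Subtype.val e
    fin_cases a <;> fin_cases b <;>
      simp [g, h0, Ne.symm h0, a1, a1.symm, a2, a2.symm, a3, a3.symm, a4, a4.symm, a5, a5.symm] at e' ⊢
  simpa using Nat.card_le_card_of_injective g hg

theorem pow_card_le [Finite V] (T : Finset (Fin k → ZMod 3))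
    (hT : ∀ χ ∈ T, ∃ v ∈ eig o f χ, v ≠ 0) : 4 ^ T.card ≤ Nat.card V := by
  rw [H.card_eq_prod, ← Finset.prod_const]
  refine (Finset.prod_le_prod' fun χ hχ => ?_).trans
    (Finset.prod_le_prod_of_subset_of_one_le' (Finset.subset_univ T) fun χ _ _ => Nat.card_pos)
  obtain ⟨v, hv, h0⟩ := hT χ hχ
  exact H.four_le χ hv h0

end Fam

/-! ### doubling -/

/-- the fixed point free map on two copies -/
def dblO (V : Type*) [AddCommGroup V] : V × V →+ V × V :=
  (AddMonoidHom.snd V V).prod (AddMonoidHom.fst V V + AddMonoidHom.snd V V)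

/-- a map on two copies -/
def dbl (g : V →+ V) : V × V →+ V × V := g.prodMap g

theorem dblO_apply (u v : V) : dblO V (u, v) = (v, u + v) := rfl

theorem dbl_apply (g : V →+ V) (u v : V) : dbl g (u, v) = (g u, g v) := rfl

theorem fam_dbl {k : ℕ} {f : Fin k → V →+ V} (two : ∀ v : V, v + v = 0)
    (cube : ∀ i v, f i (f i (f i v)) = v) (commf : ∀ i j v, f i (f j v) = f j (f i v)) :
    Fam (dblO V) fun i => dbl (f i) where
  two := fun ⟨u, v⟩ => by simp [two]
  rel := fun ⟨u, v⟩ => by
    simp only [dblO_apply, Prod.mk_add_mk, Prod.mk_eq_zero]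
    constructor
    · rw [show u + v + v + u = (u + u) + (v + v) by abel, two, two, add_zero]
    · rw [show v + (u + v) + (u + v) + v = (u + u) + ((v + v) + (v + v)) by abel, two, two, add_zero]
  cube := fun i ⟨u, v⟩ => by simp [dbl_apply, cube]
  comm := fun i ⟨u, v⟩ => by simp [dbl_apply, dblO_apply]
  commf := fun i j ⟨u, v⟩ => by simp [dbl_apply, commf i j]

/-- Conjugation of the two copies sends the space of a character to that of its negative. -/
theorem dbl_neg {k : ℕ} {f : Fin k → V →+ V} (two : ∀ v : V, v + v = 0) {χ : Fin k → ZMod 3}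
    {w : V × V} (hw : w ∈ eig (dblO V) (fun i => dbl (f i)) χ) :
    (w.1 + w.2, w.2) ∈ eig (dblO V) (fun i => dbl (f i)) (fun i => -χ i) := by
  intro i
  obtain ⟨u, v⟩ := w
  have h := hw i
  have hneg : -(χ i) = 2 * χ i := by
    have h3 : (3 : ZMod 3) = 0 := rfl
    linear_combination -χ i * h3
  simp only [dbl_apply] at h ⊢
  rcases zmod3_cases (χ i) with e | e | e <;> rw [e] at h <;> rw [hneg, e]
  · simp only [mul_zero, ow_zero, Prod.mk.injEq] at h ⊢
    exact ⟨by rw [map_add, h.1, h.2], h.2⟩
  · simp only [mul_one, ow_two, ow_one, dblO_apply, Prod.mk.injEq] at h ⊢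
    refine ⟨?_, ?_⟩
    · rw [map_add, h.1, h.2, show u + v + v = u + (v + v) by abel, two, add_zero,
        show v + (u + v) = u + (v + v) by abel, two, add_zero]
    · rw [h.2, show v + (u + v + v) = u + v + (v + v) by abel, two, add_zero]
  · rw [show (2 : ZMod 3) * 2 = 1 from rfl]
    simp only [ow_two, ow_one, dblO_apply, Prod.mk.injEq] at h ⊢
    refine ⟨?_, ?_⟩
    · rw [map_add, h.1, h.2, show u + v + (v + (u + v)) = (u + u) + (v + v) + v by abel, two, two,
        add_zero, zero_add]
    · rw [h.2, show v + (u + v) = u + v + v by abel]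

end Cfsg.Agent.FischerFrame18
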