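import Mathlib
import Cfsg.Agent.Lib.FischerFrameEigen18
import Cfsg.Agent.Lib.FischerFrameComb18

/-!
The frame of six planes of a twelve-dimensional orthogonal module over two elements for a group
containing an elementary abelian subgroup of order 243 with two elements of order five.
-/

set_option autoImplicit false
set_option maxHeartbeats 1000000

namespace Cfsg.Agent.FischerFrame18

/-- The elements. -/
structure Frame (X : Type*) [Group X] where
  n : X
  a : Fin 4 → X
  b : X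
  c : X
  x : Fin 4 → ZMod 3

/-- The relations. -/
structure FrameOK {X : Type*} [Group X] (F : Frame X) : Prop where
  n3 : F.n ^ 3 = 1
  a3 : ∀ i, F.a i ^ 3 = 1
  acomm : ∀ i j, F.a i * F.a j = F.a j * F.a i
  an : ∀ i, F.a i * F.n = F.n * F.a i
  bn : F.b * F.n = F.n * F.b
  cn : F.c * F.n = F.n * F.c
  indep : ∀ (y : Fin 4 → ZMod 3) (i : ZMod 3), prodA F.a y * F.n ^ i.val = 1 → y = 0 ∧ i = 0
  b5 : F.b ^ 5 = 1
  c5 : F.c ^ 5 = 1
  bconj : ∀ j, F.b * F.a j * F.b⁻¹ = prodA F.a (Bm j)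
  cconj : ∀ j, F.c * F.a j * F.c⁻¹ = prodA F.a (Cm j) * F.n ^ (F.x j).val

/-- the polar form -/
def polarQ {V : Type*} [AddCommGroup V] (q : V → ZMod 2) (u v : V) : ZMod 2 := q (u + v) + q u + q v

/-- A faithful twelve-dimensional orthogonal module over two elements. -/
structure OrthMod {X V : Type*} [Group X] [AddCommGroup V] (ρ : X →* AddMonoid.End V)
    (q : V → ZMod 2) : Prop where
  two : ∀ v : V, v + v = 0
  card : Nat.card V = 4096
  faith : ∀ g, (∀ v, ρ g v = v) → g = 1
  addl : ∀ u v w, polarQ q (u + v) w = polarQ q u w + polarQ q v w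
  nondeg : ∀ v, (∀ w, polarQ q v w = 0) → v = 0
  inv : ∀ g v, q (ρ g v) = q v

/-- the operator of an element -/
def op {X V : Type*} [Group X] [AddCommGroup V] (ρ : X →* AddMonoid.End V) (g : X) : V →+ V := ρ g

section

variable {X V : Type*} [Group X] [AddCommGroup V] {ρ : X →* AddMonoid.End V} {q : V → ZMod 2}
  {F : Frame X}

theorem op_mul (g h : X) (v : V) : op ρ (g * h) v = op ρ g (op ρ h v) := by
  show ρ (g * h) v = ρ g (ρ h v)
  rw [map_mul]; rfl

theorem op_one (v : V) : op ρ (1 : X) v = v := by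
  show ρ 1 v = v
  rw [map_one]; rfl

theorem op_inv_self (g : X) (v : V) : op ρ g⁻¹ (op ρ g v) = v := by
  rw [← op_mul, inv_mul_cancel, op_one]

theorem op_self_inv (g : X) (v : V) : op ρ g (op ρ g⁻¹ v) = v := by
  rw [← op_mul, mul_inv_cancel, op_one]

theorem op_inj (g : X) : Function.Injective (op ρ g) := fun u v e => by
  rw [← op_inv_self (ρ := ρ) g u, e, op_inv_self]

theorem op_comm {g h : X} (e : g * h = h * g) (v : V) : op ρ g (op ρ h v) = op ρ h (op ρ g v) := by
  rw [← op_mul, e, op_mul]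

theorem op_cube {g : X} (e : g ^ 3 = 1) (v : V) : op ρ g (op ρ g (op ρ g v)) = v := by
  rw [← op_mul, ← op_mul, show g * g * g = g ^ 3 by rw [pow_succ, pow_two], e, op_one]

theorem cons_inj (t : ZMod 3) :
    Function.Injective fun φ : Fin 4 → ZMod 3 => (Fin.cons t φ : Fin 5 → ZMod 3) := fun a b e =>
  funext fun i => by simpa using congrFun e i.succ

/-- the five maps on two copies -/
def f5 (ρ : X →* AddMonoid.End V) (F : Frame X) : Fin 5 → V →+ V :=
  Fin.cons (op ρ F.n) fun i => op ρ (F.a i)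

/-- the four maps -/
def f4 (ρ : X →* AddMonoid.End V) (F : Frame X) : Fin 4 → V →+ V := fun i => op ρ (F.a i)

theorem f5_succ (i : Fin 4) : f5 ρ F i.succ = op ρ (F.a i) := Fin.cons_succ _ _ _

theorem f5_zero : f5 ρ F 0 = op ρ F.n := Fin.cons_zero _ _

variable (hF : FrameOK F) (hR : OrthMod ρ q)
include hF hR

theorem fam5 : Fam (dblO V) fun i => dbl (f5 ρ F i) := by
  refine fam_dbl hR.two ?_ ?_
  · intro i v
    refine Fin.cases ?_ (fun j => ?_) i
    · rw [f5_zero]; exact op_cube hF.n3 v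
    · rw [f5_succ]; exact op_cube (hF.a3 j) v
  · intro i j v
    refine Fin.cases ?_ (fun i' => ?_) i <;> refine Fin.cases ?_ (fun j' => ?_) j
    · rfl
    · rw [f5_zero, f5_succ]; exact op_comm (hF.an j').symm v
    · rw [f5_zero, f5_succ]; exact op_comm (hF.an i') v
    · rw [f5_succ, f5_succ]; exact op_comm (hF.acomm i' j') v

omit hF hR in
theorem prodA_eig {W : Type*} [AddCommGroup W] {o : W →+ W} {k : ℕ} {f : Fin k → W →+ W}
    (H : Fam o f) (O : X → W →+ W) (hO : ∀ g h w, O (g * h) w = O g (O h w)) (hO1 : ∀ w, O 1 w = w)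
    {w : W} {t : ZMod 3} {φ : Fin 4 → ZMod 3} (ha : ∀ i, O (F.a i) w = ow o (φ i) w)
    (hn : O F.n w = ow o t w) (hcm : ∀ g, (∀ u, O g (o u) = o (O g u)))
    (y : Fin 4 → ZMod 3) (m : ZMod 3) :
    O (prodA F.a y * F.n ^ m.val) w = ow o ((∑ i, y i * φ i) + m * t) w := by
  have hp : ∀ (g : X) (s : ZMod 3), O g w = ow o s w → ∀ k : ℕ, O (g ^ k) w = ow o (k * s) w := by
    intro g s hg k
    induction k with
    | zero => rw [pow_zero, hO1, Nat.cast_zero, zero_mul, ow_zero]
    | succ k ih =>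
      rw [pow_succ, hO, hg, map_ow o (O _) (hcm _), ih, ← H.ow_add, Nat.cast_succ]
      congr 1
      ring
  have hm : ∀ (g h : X) (s s' : ZMod 3), O g w = ow o s w → O h w = ow o s' w →
      O (g * h) w = ow o (s + s') w := by
    intro g h s s' hg hh
    rw [hO, hh, map_ow o (O g) (hcm g), hg, ← H.ow_add, add_comm]
  have key := hm _ _ _ _ (hm _ _ _ _ (hm _ _ _ _ (hm _ _ _ _ (hp _ _ (ha 0) (y 0).val)
    (hp _ _ (ha 1) (y 1).val)) (hp _ _ (ha 2) (y 2).val)) (hp _ _ (ha 3) (y 3).val)) (hp _ _ hn m.val)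
  rw [show prodA F.a y * F.n ^ m.val = F.a 0 ^ (y 0).val * F.a 1 ^ (y 1).val * F.a 2 ^ (y 2).val *
    F.a 3 ^ (y 3).val * F.n ^ m.val from rfl, key]
  congr 1
  simp only [ZMod.natCast_val, ZMod.cast_id', id_eq, Fin.sum_univ_four]

omit hR in
/-- Spaces go to spaces. -/
theorem move_eig {W : Type*} [AddCommGroup W] {o : W →+ W} {k : ℕ} {f : Fin k → W →+ W}
    (H : Fam o f) (O : X → W →+ W) (hO : ∀ g h w, O (g * h) w = O g (O h w)) (hO1 : ∀ w, O 1 w = w)
    {w : W} {t : ZMod 3} {φ : Fin 4 → ZMod 3} (ha : ∀ i, O (F.a i) w = ow o (φ i) w)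
    (hn : O F.n w = ow o t w) (hcm : ∀ g, (∀ u, O g (o u) = o (O g u))) :
    ((∀ i, O (F.a i) (O F.b⁻¹ w) = ow o (fB φ i) (O F.b⁻¹ w)) ∧
        O F.n (O F.b⁻¹ w) = ow o t (O F.b⁻¹ w)) ∧
      (∀ i, O (F.a i) (O F.c⁻¹ w) = ow o (fC F.x t φ i) (O F.c⁻¹ w)) ∧
        O F.n (O F.c⁻¹ w) = ow o t (O F.c⁻¹ w) := by
  have hsw : ∀ (g h : X), g * h = h * g → ∀ u, O g (O h u) = O h (O g u) := fun g h e u => by
    rw [← hO, e, hO]
  refine ⟨⟨fun i => ?_, ?_⟩, fun i => ?_, ?_⟩
  · have e : F.a i * F.b⁻¹ = F.b⁻¹ * (prodA F.a (Bm i) * F.n ^ (0 : ZMod 3).val) := by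
      rw [ZMod.val_zero, pow_zero, mul_one, ← hF.bconj]; group
    rw [← hO, e, hO, prodA_eig H O hO hO1 ha hn hcm, map_ow o (O _) (hcm _), zero_mul, add_zero]
    rfl
  · rw [← hO, show F.n * F.b⁻¹ = F.b⁻¹ * F.n from
      ((show Commute F.b F.n from hF.bn).inv_left).eq.symm, hO, hn, map_ow o (O _) (hcm _)]
  · have e : F.a i * F.c⁻¹ = F.c⁻¹ * (prodA F.a (Cm i) * F.n ^ (F.x i).val) := by
      rw [← hF.cconj]; group
    rw [← hO, e, hO, prodA_eig H O hO hO1 ha hn hcm, map_ow o (O _) (hcm _)]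
    rfl
  · rw [← hO, show F.n * F.c⁻¹ = F.c⁻¹ * F.n from
      ((show Commute F.c F.n from hF.cn).inv_left).eq.symm, hO, hn, map_ow o (O _) (hcm _)]

omit [AddCommGroup V] hF hR in
/-- A set of characters closed under the two affine maps with at most six elements. -/
theorem affine_small (U : Finset (Fin 4 → ZMod 3)) (hU : U.card ≤ 6)
    (hb : ∀ f ∈ U, fB f ∈ U) (hc : ∀ f ∈ U, fC F.x 1 f ∈ U) :
    U.card ≤ 1 ∨ ∃ k, F.x = cX k ∧ U = Finset.univ.image (cS k) := by
  have hsm : ∀ f ∈ U, enc f ∈ smalls (enc F.x) := by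
    intro f hf
    rw [smalls, List.mem_filter, List.mem_range]
    refine ⟨enc_lt f, decide_eq_true (grow_le (U.image enc) ?_ ?_
      (Finset.card_image_le.trans hU) (Finset.mem_image_of_mem _ hf) 6)⟩
    · intro a ha
      obtain ⟨g, hg, rfl⟩ := Finset.mem_image.1 ha
      exact enc_fB g ▸ Finset.mem_image_of_mem _ (hb g hg)
    · intro a ha
      obtain ⟨g, hg, rfl⟩ := Finset.mem_image.1 ha
      exact enc_fC1 g F.x ▸ Finset.mem_image_of_mem _ (hc g hg)
  rcases small_cases (enc F.x) (enc_lt _) with h | ⟨k, hk, h⟩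
  · left
    rw [← Finset.card_image_of_injective U enc_inj]
    refine le_trans (Finset.card_le_card fun a ha => ?_) ((List.toFinset_card_le _).trans h)
    obtain ⟨g, hg, rfl⟩ := Finset.mem_image.1 ha
    exact List.mem_toFinset.2 (hsm g hg)
  · by_cases hne : U.Nonempty
    · right
      have hx : F.x = cX k := enc_inj hk
      refine ⟨k, hx, ?_⟩
      let I : Finset (Fin 6) := Finset.univ.filter fun i => cS k i ∈ U
      have hI : I = Finset.univ := by
        refine closed_all k I ?_ fun i hi => ?_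
        · obtain ⟨f, hf⟩ := hne
          obtain ⟨i, hi⟩ := h _ (hsm f hf)
          exact ⟨i, Finset.mem_filter.2 ⟨Finset.mem_univ _, enc_inj hi ▸ hf⟩⟩
        · have hi' := (Finset.mem_filter.1 hi).2
          exact ⟨Finset.mem_filter.2 ⟨Finset.mem_univ _, cS_fB k i ▸ hb _ hi'⟩,
            Finset.mem_filter.2 ⟨Finset.mem_univ _, cS_fC k i ▸ hx ▸ hc _ hi'⟩⟩
      ext f
      constructor
      · intro hf
        obtain ⟨i, hi⟩ := h _ (hsm f hf)
        exact Finset.mem_image.2 ⟨i, Finset.mem_univ _, enc_inj hi⟩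
      · intro hf
        obtain ⟨i, -, rfl⟩ := Finset.mem_image.1 hf
        exact (Finset.mem_filter.1 (show i ∈ I by rw [hI]; exact Finset.mem_univ i)).2
    · left
      rw [Finset.not_nonempty_iff_eq_empty.1 hne]
      simp

/-- The central element is fixed point free. -/
theorem fpf (v : V) : op ρ F.n (op ρ F.n v) + op ρ F.n v + v = 0 := by
  classical
  haveI : Finite V := Nat.finite_of_card_ne_zero (by rw [hR.card]; norm_num)
  have H := fam5 hF hR
  set o := dblO V
  set g : Fin 5 → V × V →+ V × V := fun i => dbl (f5 ρ F i) with hg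
  let O : X → V × V →+ V × V := fun x => dbl (op ρ x)
  have hO : ∀ a b w, O (a * b) w = O a (O b w) := fun a b w => Prod.ext (op_mul a b _) (op_mul a b _)
  have hO1 : ∀ w, O 1 w = w := fun w => Prod.ext (op_one _) (op_one _)
  have hcm : ∀ (x : X) w, O x (o w) = o (O x w) := fun x ⟨u, v⟩ => by
    simp [O, o, dbl_apply, dblO_apply]
  have hga : ∀ {t φ} {w : V × V}, w ∈ eig o g (Fin.cons t φ) ↔
      O F.n w = ow o t w ∧ ∀ i, O (F.a i) w = ow o (φ i) w := by
    intro t φ w
    rw [mem_eig, Fin.forall_fin_succ]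
    simp only [hg, f5_zero, f5_succ, Fin.cons_zero, Fin.cons_succ, O]
  let T : Finset (Fin 5 → ZMod 3) := Finset.univ.filter fun χ => ∃ w ∈ eig o g χ, w ≠ 0
  have memT : ∀ {χ}, χ ∈ T ↔ ∃ w ∈ eig o g χ, w ≠ 0 := fun {χ} => by simp [T]
  have hT : T.card ≤ 12 := by
    have h := H.pow_card_le T fun χ hχ => memT.1 hχ
    rw [Nat.card_prod, hR.card, show 4096 * 4096 = 4 ^ 12 by norm_num] at h
    exact (Nat.pow_le_pow_iff_right (by norm_num)).1 h
  have hOinj : ∀ (x : X) {w : V × V}, w ≠ 0 → O x w ≠ 0 := fun x {w} hw e => hw (Prod.ext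
    (op_inj x ((congrArg Prod.fst e).trans (map_zero _).symm))
    (op_inj x ((congrArg Prod.snd e).trans (map_zero _).symm)))
  let U : ZMod 3 → Finset (Fin 4 → ZMod 3) := fun t => Finset.univ.filter fun φ => Fin.cons t φ ∈ T
  have memU : ∀ {t φ}, φ ∈ U t ↔ Fin.cons t φ ∈ T := fun {t φ} => by simp [U]
  have hmove : ∀ {t φ}, φ ∈ U t → fB φ ∈ U t ∧ fC F.x t φ ∈ U t := by
    intro t φ h
    obtain ⟨w, hw, hw0⟩ := memT.1 (memU.1 h)
    obtain ⟨hn, ha⟩ := hga.1 hw
    obtain ⟨⟨h1, h2⟩, h3, h4⟩ := move_eig hF H O hO hO1 ha hn hcm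
    exact ⟨memU.2 (memT.2 ⟨_, hga.2 ⟨h2, h1⟩, hOinj _ hw0⟩),
      memU.2 (memT.2 ⟨_, hga.2 ⟨h4, h3⟩, hOinj _ hw0⟩)⟩
  have hneg : ∀ χ ∈ T, (fun i => -χ i) ∈ T := by
    intro χ h
    obtain ⟨w, hw, hw0⟩ := memT.1 h
    refine memT.2 ⟨_, dbl_neg hR.two hw, fun e => hw0 ?_⟩
    simp only [Prod.mk_eq_zero] at e
    exact Prod.ext (by simpa [e.2] using e.1) e.2
  have hsub : ∀ t, (U t).card ≤ T.card := fun t => by
    refine Finset.card_le_card_of_injOn (fun φ => Fin.cons t φ) (fun φ hφ => memU.1 hφ) ?_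
    intro a _ b _ e
    exact cons_inj t e
  have h0 : ∀ φ ∈ U 0, φ = 0 := by
    intro φ hφ
    by_contra hne
    have h := grow_le (g := nB) (h := nC 0 0) (m := 12) ((U 0).image enc) ?_ ?_
      (Finset.card_image_le.trans ((hsub 0).trans hT)) (Finset.mem_image_of_mem _ hφ) 12
    · exact absurd h (not_le.2 (lin_ok _ (enc_lt _) fun e => hne (enc_inj (e.trans enc_zero.symm))))
    · intro a ha
      obtain ⟨ψ, hψ, rfl⟩ := Finset.mem_image.1 ha
      exact enc_fB ψ ▸ Finset.mem_image_of_mem _ (hmove hψ).1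
    · intro a ha
      obtain ⟨ψ, hψ, rfl⟩ := Finset.mem_image.1 ha
      have e : fC F.x 0 ψ = fC 0 0 ψ := by funext j; simp [fC]
      have := Finset.mem_image_of_mem enc (hmove hψ).2
      rwa [e, enc_fC0, enc_zero] at this
  have key : ∀ φ, Fin.cons 0 φ ∉ T := by
    intro φ hφ
    have hz : Fin.cons 0 (0 : Fin 4 → ZMod 3) ∈ T := h0 φ (memU.2 hφ) ▸ hφ
    let T1 := (U 1).image fun φ => (Fin.cons 1 φ : Fin 5 → ZMod 3)
    let T2 := (U 1).image fun φ => fun i => -(Fin.cons 1 φ : Fin 5 → ZMod 3) i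
    have c1 : T1.card = (U 1).card := Finset.card_image_of_injective _ (cons_inj _)
    have c2 : T2.card = (U 1).card := Finset.card_image_of_injective _ fun a b e =>
      cons_inj 1 (funext fun i => neg_inj.1 (congrFun e i))
    have hd : Disjoint T1 T2 := by
      rw [Finset.disjoint_left]
      intro χ h1 h2
      simp only [T1, T2, Finset.mem_image] at h1 h2
      obtain ⟨a, -, rfl⟩ := h1
      obtain ⟨b, -, e⟩ := h2
      exact absurd (congrFun e 0) (by simp only [Fin.cons_zero]; decide)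
    have hz' : Fin.cons 0 (0 : Fin 4 → ZMod 3) ∉ T1 ∪ T2 := by
      simp only [T1, T2, Finset.mem_union, Finset.mem_image, not_or, not_exists, not_and]
      constructor <;> intro a _ e <;>
        exact absurd (congrFun e 0) (by simp only [Fin.cons_zero]; decide)
    have hle : (insert (Fin.cons 0 (0 : Fin 4 → ZMod 3)) (T1 ∪ T2)).card ≤ T.card := by
      refine Finset.card_le_card fun χ hχ => ?_
      rcases Finset.mem_insert.1 hχ with rfl | hχ
      · exact hz
      rcases Finset.mem_union.1 hχ with hχ | hχ <;> obtain ⟨a, ha, rfl⟩ := Finset.mem_image.1 hχ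
      · exact memU.1 ha
      · exact hneg _ (memU.1 ha)
    rw [Finset.card_insert_of_notMem hz', Finset.card_union_of_disjoint hd, c1, c2] at hle
    rcases affine_small (U 1) (by omega) (fun f hf => (hmove hf).1) (fun f hf => (hmove hf).2)
      with h1 | ⟨k, -, hk⟩
    swap
    · have : (U 1).card = 6 := by
        rw [hk, Finset.card_image_of_injective _ (cS_inj k)]; simp
      omega
    obtain ⟨f0, hf0⟩ : ∃ f0, ∀ f ∈ U 1, f = f0 := by
      rcases Finset.eq_empty_or_nonempty (U 1) with h2 | ⟨f0, hf0⟩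
      · exact ⟨0, fun f hf => absurd (h2 ▸ hf) (Finset.notMem_empty f)⟩
      · exact ⟨f0, fun f hf => Finset.card_le_one.1 h1 f hf f0 hf0⟩
    set y : Fin 4 → ZMod 3 := Pi.single 0 1
    have hfix : ∀ w, O (prodA F.a y * F.n ^ (-f0 0).val) w = w := by
      intro w
      induction H.mem_closure_eig w using AddSubgroup.closure_induction with
      | mem u hu =>
        obtain ⟨χ, hχ⟩ := hu
        by_cases hu0 : u = 0
        · rw [hu0, map_zero]
        have hχT : χ ∈ T := memT.2 ⟨u, hχ, hu0⟩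
        have hs : χ = Fin.cons (χ 0) (Fin.tail χ) := (Fin.cons_self_tail χ).symm
        rw [hs] at hχ hχT
        obtain ⟨hn, ha⟩ := hga.1 hχ
        rw [prodA_eig H O hO hO1 ha hn hcm]
        convert ow_zero o u using 3
        simp only [y, Fin.sum_univ_four, Pi.single_eq_same, one_mul,
          Pi.single_eq_of_ne (show (1 : Fin 4) ≠ 0 by decide),
          Pi.single_eq_of_ne (show (2 : Fin 4) ≠ 0 by decide),
          Pi.single_eq_of_ne (show (3 : Fin 4) ≠ 0 by decide), zero_mul, add_zero]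
        rcases zmod3_cases (χ 0) with e | e | e <;> rw [e] at hχT ⊢
        · rw [h0 _ (memU.2 hχT)]; simp
        · rw [hf0 _ (memU.2 hχT)]; ring
        · have h' := hneg _ hχT
          have e' : (fun i => -(Fin.cons (2 : ZMod 3) (Fin.tail χ) : Fin 5 → ZMod 3) i) =
              Fin.cons 1 (fun i => -Fin.tail χ i) := by
            funext i
            refine Fin.cases ?_ (fun j => ?_) i
            · simp only [Fin.cons_zero]; rfl
            · simp only [Fin.cons_succ]
          rw [e'] at h'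
          have := congrFun (hf0 _ (memU.2 h')) 0
          have h3 : (3 : ZMod 3) = 0 := rfl
          linear_combination -this + (-f0 0) * h3
      | zero => exact map_zero _
      | add a b _ _ ha hb => rw [map_add, ha, hb]
      | neg a _ ha => rw [map_neg, ha]
    have h1' := hR.faith _ fun v => congrArg Prod.fst (hfix (v, 0))
    have := congrFun (hF.indep _ _ h1').1 0
    simp [y] at this
  have hfin : ∀ w : V × V, O F.n (O F.n w) + O F.n w + w = 0 := by
    intro w
    induction H.mem_closure_eig w using AddSubgroup.closure_induction with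
    | mem u hu =>
      obtain ⟨χ, hχ⟩ := hu
      by_cases hu0 : u = 0
      · simp [hu0]
      have hs : χ = Fin.cons (χ 0) (Fin.tail χ) := (Fin.cons_self_tail χ).symm
      have hχT : χ ∈ T := memT.2 ⟨u, hχ, hu0⟩
      rw [hs] at hχ hχT
      obtain ⟨hn, -⟩ := hga.1 hχ
      rw [hn, map_ow o (O F.n) (hcm _), hn, ← H.ow_add]
      have h3 := H.sum3 (χ 0) u
      rw [if_neg fun e => key _ (e ▸ hχT)] at h3
      rw [show χ 0 + χ 0 = 2 * χ 0 by ring, add_comm (ow o (2 * χ 0) u), add_right_comm,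
        add_comm (ow o (χ 0) u)]
      exact h3
    | zero => simp
    | add a b _ _ ha hb =>
      simp only [map_add]
      calc _ = (O F.n (O F.n a) + O F.n a + a) + (O F.n (O F.n b) + O F.n b + b) := by abel
        _ = 0 := by rw [ha, hb, add_zero]
    | neg a _ ha =>
      simp only [map_neg]
      calc _ = -(O F.n (O F.n a) + O F.n a + a) := by abel
        _ = 0 := by rw [ha, neg_zero]
  exact congrArg Prod.fst (hfin (v, 0))

theorem fam4 : Fam (op ρ F.n) (f4 ρ F) where
  two := hR.two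
  rel := fpf hF hR
  cube := fun i v => op_cube (hF.a3 i) v
  comm := fun i v => op_comm (hF.an i) v
  commf := fun i j v => op_comm (hF.acomm i j) v

/-- The six planes. -/
theorem exists_frame : ∃ k, F.x = cX k ∧
    (∀ i, Nat.card (eig (op ρ F.n) (f4 ρ F) (cS k i)) = 4) ∧
    ∀ χ, (∀ i, χ ≠ cS k i) → ∀ v ∈ eig (op ρ F.n) (f4 ρ F) χ, v = 0 := by
  classical
  haveI : Finite V := Nat.finite_of_card_ne_zero (by rw [hR.card]; norm_num)
  have H := fam4 hF hR
  set o := op ρ F.n
  set g := f4 ρ F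
  let T : Finset (Fin 4 → ZMod 3) := Finset.univ.filter fun χ => ∃ w ∈ eig o g χ, w ≠ 0
  have memT : ∀ {χ}, χ ∈ T ↔ ∃ w ∈ eig o g χ, w ≠ 0 := fun {χ} => by simp [T]
  have hT : T.card ≤ 6 := by
    have h := H.pow_card_le T fun χ hχ => memT.1 hχ
    rw [hR.card, show 4096 = 4 ^ 6 by norm_num] at h
    exact (Nat.pow_le_pow_iff_right (by norm_num)).1 h
  have hmove : ∀ φ ∈ T, fB φ ∈ T ∧ fC F.x 1 φ ∈ T := by
    intro φ hφ
    obtain ⟨w, hw, hw0⟩ := memT.1 hφ
    have hne : ∀ x : X, op ρ x⁻¹ w ≠ 0 := fun x e => hw0 (op_inj x⁻¹ (e.trans (map_zero _).symm))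
    have hb : ∀ (y : Fin 4 → ZMod 3) (m : ZMod 3), op ρ (prodA F.a y * F.n ^ m.val) w =
        ow o ((∑ i, y i * φ i) + m) w := by
      intro y m
      have hp : ∀ (x : X) (s : ZMod 3), (∀ u, op ρ x (o u) = o (op ρ x u)) → op ρ x w = ow o s w →
          ∀ k : ℕ, op ρ (x ^ k) w = ow o (k * s) w := by
        intro x s hx hg' k
        induction k with
        | zero => rw [pow_zero, op_one, Nat.cast_zero, zero_mul, ow_zero]
        | succ k ih =>
          rw [pow_succ', op_mul, ih, map_ow o _ hx, hg', ← H.ow_add, Nat.cast_succ]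
          congr 1
          ring
      have ha := fun i => hp (F.a i) (φ i) (fun u => op_comm (hF.an i) u) (hw i) (y i).val
      have hn := hp F.n 1 (fun u => rfl) rfl m.val
      have hx : ∀ (x : X) (j : ZMod 3), x * F.n = F.n * x → ∀ u, op ρ x (ow o j u) = ow o j (op ρ x u) :=
        fun x j e u => map_ow o _ (fun v => op_comm e v) j u
      have cp : ∀ i : Fin 4, F.a i ^ (y i).val * F.n = F.n * F.a i ^ (y i).val := fun i =>
        ((show Commute (F.a i) F.n from hF.an i).pow_left _).eq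
      simp only [prodA, op_mul, hn, ha, hx _ _ (cp 0), hx _ _ (cp 1), hx _ _ (cp 2), hx _ _ (cp 3),
        ← H.ow_add, ZMod.natCast_val, ZMod.cast_id', id_eq, Fin.sum_univ_four]
      congr 1
      ring
    have hcb : ∀ u, op ρ F.b⁻¹ (o u) = o (op ρ F.b⁻¹ u) := fun u =>
      op_comm ((show Commute F.b F.n from hF.bn).inv_left).eq u
    have hcc : ∀ u, op ρ F.c⁻¹ (o u) = o (op ρ F.c⁻¹ u) := fun u =>
      op_comm ((show Commute F.c F.n from hF.cn).inv_left).eq u
    refine ⟨memT.2 ⟨_, fun i => ?_, hne F.b⟩, memT.2 ⟨_, fun i => ?_, hne F.c⟩⟩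
    · have e : F.a i * F.b⁻¹ = F.b⁻¹ * (prodA F.a (Bm i) * F.n ^ (0 : ZMod 3).val) := by
        rw [ZMod.val_zero, pow_zero, mul_one, ← hF.bconj]; group
      show op ρ (F.a i) (op ρ F.b⁻¹ w) = _
      rw [← op_mul, e, op_mul, hb, map_ow o _ hcb, add_zero]
      rfl
    · have e : F.a i * F.c⁻¹ = F.c⁻¹ * (prodA F.a (Cm i) * F.n ^ (F.x i).val) := by
        rw [← hF.cconj]; group
      show op ρ (F.a i) (op ρ F.c⁻¹ w) = _
      rw [← op_mul, e, op_mul, hb, map_ow o _ hcc]
      simp only [fC, mul_one]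
  rcases affine_small T hT (fun f hf => (hmove f hf).1) (fun f hf => (hmove f hf).2)
    with h1 | ⟨k, hk, hTk⟩
  · exfalso
    obtain ⟨f0, hf0⟩ : ∃ f0, ∀ f ∈ T, f = f0 := by
      rcases Finset.eq_empty_or_nonempty T with h2 | ⟨f0, hf0⟩
      · exact ⟨0, fun f hf => absurd (h2 ▸ hf) (Finset.notMem_empty f)⟩
      · exact ⟨f0, fun f hf => Finset.card_le_one.1 h1 f hf f0 hf0⟩
    have hfix : ∀ w, op ρ (F.a 0 * F.n ^ (-f0 0).val) w = w := by
      intro w
      induction H.mem_closure_eig w using AddSubgroup.closure_induction with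
      | mem u hu =>
        obtain ⟨χ, hχ⟩ := hu
        by_cases hu0 : u = 0
        · rw [hu0, map_zero]
        have e0 := hf0 χ (memT.2 ⟨u, hχ, hu0⟩)
        have hn : ∀ k : ℕ, op ρ (F.n ^ k) u = ow o k u := by
          intro k
          induction k with
          | zero => rw [pow_zero, op_one, Nat.cast_zero, ow_zero]
          | succ k ih =>
            rw [pow_succ', op_mul, ih, Nat.cast_succ, add_comm (k : ZMod 3), H.ow_add]
            rfl
        rw [op_mul, hn, map_ow o _ (fun v => op_comm (hF.an 0) v), show op ρ (F.a 0) u = _ from hχ 0,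
          ← H.ow_add, e0, ZMod.natCast_val, ZMod.cast_id, neg_add_cancel, ow_zero]
      | zero => exact map_zero _
      | add a b _ _ ha hb => rw [map_add, ha, hb]
      | neg a _ ha => rw [map_neg, ha]
    have h1' := hR.faith _ hfix
    have he : prodA F.a (Pi.single 0 1) = F.a 0 := by
      simp [prodA, ZMod.val_one]
    rw [← he] at h1'
    have := congrFun (hF.indep _ _ h1').1 0
    simp at this
  · refine ⟨k, hk, ?_, fun χ hχ v hv => ?_⟩
    · have hpos : ∀ i, 4 ≤ Nat.card (eig o g (cS k i)) := by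
        intro i
        obtain ⟨v, hv, h0⟩ := memT.1 (hTk ▸ Finset.mem_image.2 ⟨i, Finset.mem_univ _, rfl⟩)
        exact H.four_le _ hv h0
      have hle : ∏ i, Nat.card (eig o g (cS k i)) ≤ 4 ^ 6 := by
        rw [show (4 : ℕ) ^ 6 = 4096 by norm_num, ← hR.card, H.card_eq_prod,
          ← Finset.prod_image (f := fun χ => Nat.card (eig o g χ)) ((cS_inj k).injOn)]
        exact Finset.prod_le_prod_of_subset_of_one_le' (Finset.subset_univ _) fun χ _ _ => Nat.card_pos
      intro i
      refine le_antisymm ?_ (hpos i)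
      by_contra! hlt
      have : ∏ _j : Fin 6, 4 < ∏ j, Nat.card (eig o g (cS k j)) :=
        Finset.prod_lt_prod (fun _ _ => by norm_num) (fun j _ => hpos j) ⟨i, Finset.mem_univ _, hlt⟩
      simp only [Finset.prod_const, Finset.card_univ, Fintype.card_fin] at this
      omega
    · by_contra hv0
      have : χ ∈ T := memT.2 ⟨v, hv, hv0⟩
      rw [hTk, Finset.mem_image] at this
      obtain ⟨i, -, rfl⟩ := this
      exact hχ i rfl

end

end Cfsg.Agent.FischerFrame18
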