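import Mathlib
import Cfsg.Prelude.Def_Classical
import Cfsg.Agent.Lib.FischerFrameRep18

/-!
Lifting the elementary abelian subgroup of order 81 of `PSU₄(3)` and its two elements of order five
through a normal subgroup of order three.
-/

set_option autoImplicit false
set_option maxHeartbeats 1000000

namespace Cfsg.Agent.FischerFrame18

open Cfsg

/-- Two elements commute up to a power of a third. -/
def Comm {X : Type*} [Group X] (n g h : X) (w : ZMod 3) : Prop := g * h = h * g * n ^ w.val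

section comm

variable {X : Type*} [Group X] {n : X} (hn : n ^ 3 = 1)
include hn

theorem npow_add (i j : ZMod 3) : n ^ (i + j).val = n ^ i.val * n ^ j.val := by
  rw [← pow_add, ZMod.val_add, pow_eq_pow_mod (i.val + j.val) hn]

theorem npow_natCast (k : ℕ) : n ^ (k : ZMod 3).val = n ^ k := by
  rw [ZMod.val_natCast, ← pow_eq_pow_mod k hn]

theorem comm_unique (ho : orderOf n = 3) {g h : X} {w w' : ZMod 3} (h1 : Comm n g h w)
    (h2 : Comm n g h w') : w = w' := by
  have e := mul_left_cancel (h1.symm.trans h2)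
  refine ZMod.val_injective 3 (pow_injOn_Iio_orderOf ?_ ?_ e) <;> rw [Set.mem_Iio, ho] <;>
    exact ZMod.val_lt _

theorem comm_mul {g h h' : X} {w w' : ZMod 3} (hh : h' * n = n * h') (h1 : Comm n g h w)
    (h2 : Comm n g h' w') : Comm n g (h * h') (w + w') := by
  have e : n ^ w.val * h' = h' * n ^ w.val := ((show Commute h' n from hh).pow_right _).eq.symm
  unfold Comm at *
  calc g * (h * h') = h * g * n ^ w.val * h' := by rw [← mul_assoc, h1]
    _ = h * (g * h') * n ^ w.val := by rw [mul_assoc (h * g), e, ← mul_assoc, mul_assoc h g h']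
    _ = h * h' * g * (n ^ w'.val * n ^ w.val) := by rw [h2]; simp only [mul_assoc]
    _ = h * h' * g * n ^ (w + w').val := by rw [← npow_add hn, add_comm]

theorem comm_one {g : X} : Comm n g 1 0 := by simp [Comm]

theorem comm_symm {g h : X} {w : ZMod 3} (h1 : Comm n g h w) : Comm n h g (-w) := by
  unfold Comm at *
  rw [h1, mul_assoc (h * g), ← npow_add hn, add_neg_cancel, ZMod.val_zero, pow_zero, mul_one]

theorem comm_pow {g h : X} {w : ZMod 3} (hh : h * n = n * h) (h1 : Comm n g h w) :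
    ∀ k : ℕ, Comm n g (h ^ k) ((k : ZMod 3) * w)
  | 0 => by rw [pow_zero, Nat.cast_zero, zero_mul]; exact comm_one hn
  | k + 1 => by
    rw [pow_succ, Nat.cast_succ, add_mul, one_mul]
    exact comm_mul hn hh (comm_pow hh h1 k) h1

theorem comm_prodA {g : X} {s : Fin 4 → X} (hs : ∀ i, s i * n = n * s i) {w : Fin 4 → ZMod 3}
    (h : ∀ i, Comm n g (s i) (w i)) (y : Fin 4 → ZMod 3) : Comm n g (prodA s y) (∑ i, y i * w i) := by
  have hp : ∀ i, Comm n g (s i ^ (y i).val) (y i * w i) := fun i => by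
    have := comm_pow hn (hs i) (h i) (y i).val
    rwa [ZMod.natCast_val, ZMod.cast_id', id_eq] at this
  have hc : ∀ i, s i ^ (y i).val * n = n * s i ^ (y i).val := fun i =>
    ((show Commute (s i) n from hs i).pow_left _).eq
  rw [Fin.sum_univ_four]
  exact comm_mul hn (hc 3) (comm_mul hn (hc 2) (comm_mul hn (hc 1) (hp 0) (hp 1)) (hp 2)) (hp 3)

theorem prodA_comm {s : Fin 4 → X} (hs : ∀ i, s i * n = n * s i) (y : Fin 4 → ZMod 3) :
    prodA s y * n = n * prodA s y := by
  have hc : ∀ i, Commute (s i ^ (y i).val) n := fun i => (show Commute (s i) n from hs i).pow_left _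
  exact ((((hc 0).mul_left (hc 1)).mul_left (hc 2)).mul_left (hc 3)).eq

/-- The pairing of two products. -/
theorem comm_prodA₂ {s : Fin 4 → X} (hs : ∀ i, s i * n = n * s i) {W : Fin 4 → Fin 4 → ZMod 3}
    (hW : ∀ i j, Comm n (s i) (s j) (W i j)) (y y' : Fin 4 → ZMod 3) (i j : ZMod 3) :
    Comm n (prodA s y * n ^ i.val) (prodA s y' * n ^ j.val) (∑ k, ∑ l, y k * (y' l * W k l)) := by
  have h1 : ∀ k, Comm n (prodA s y') (s k) (-∑ l, y' l * W k l) := fun k =>
    comm_symm hn (comm_prodA hn hs (hW k) y')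
  have h2 := comm_symm hn (comm_prodA hn hs h1 y)
  have e : -∑ k, y k * -∑ l, y' l * W k l = ∑ k, ∑ l, y k * (y' l * W k l) := by
    simp [Finset.mul_sum]
  rw [e] at h2
  have cn : ∀ (y : Fin 4 → ZMod 3) (i : ℕ), Commute (n ^ i) (prodA s y) := fun y i =>
    ((show Commute (prodA s y) n from prodA_comm hn hs y).symm).pow_left i
  unfold Comm at *
  calc prodA s y * n ^ i.val * (prodA s y' * n ^ j.val)
      = prodA s y * prodA s y' * (n ^ i.val * n ^ j.val) := by
        rw [mul_assoc, ← mul_assoc (n ^ i.val), (cn y' _).eq]; simp only [mul_assoc]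
    _ = prodA s y' * prodA s y * (n ^ j.val * n ^ i.val) *
          n ^ (∑ k, ∑ l, y k * (y' l * W k l)).val := by
        rw [h2, (pow_mul_comm n j.val i.val), mul_assoc (prodA s y' * prodA s y),
          ← (Commute.pow_pow_self n _ _).eq, mul_assoc (prodA s y' * prodA s y)]
        congr 1
        simp only [← pow_add, add_comm, add_left_comm]
    _ = _ := by
        rw [show prodA s y' * n ^ j.val * (prodA s y * n ^ i.val) =
          prodA s y' * prodA s y * (n ^ j.val * n ^ i.val) by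
            rw [mul_assoc, ← mul_assoc (n ^ j.val), (cn y _).eq]; simp only [mul_assoc]]

theorem cube_mul {g h : X} (hg : g * h = h * g) {u u' : ZMod 3} (h1 : g ^ 3 = n ^ u.val)
    (h2 : h ^ 3 = n ^ u'.val) : (g * h) ^ 3 = n ^ (u + u').val := by
  rw [(show Commute g h from hg).mul_pow, h1, h2, npow_add hn]

theorem cube_pow {g : X} {u : ZMod 3} (h1 : g ^ 3 = n ^ u.val) (k : ℕ) :
    (g ^ k) ^ 3 = n ^ ((k : ZMod 3) * u).val := by
  rw [pow_right_comm, h1, ← pow_mul, ← npow_natCast hn (u.val * k), Nat.cast_mul, ZMod.natCast_val,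
    ZMod.cast_id', id_eq, mul_comm]

theorem cube_prodA {s : Fin 4 → X} (hs : ∀ i j, s i * s j = s j * s i) {u : Fin 4 → ZMod 3}
    (h : ∀ i, s i ^ 3 = n ^ (u i).val) (y : Fin 4 → ZMod 3) :
    prodA s y ^ 3 = n ^ (∑ i, y i * u i).val := by
  have hp : ∀ i, (s i ^ (y i).val) ^ 3 = n ^ (y i * u i).val := fun i => by
    have := cube_pow hn (h i) (y i).val
    rwa [ZMod.natCast_val, ZMod.cast_id', id_eq] at this
  have hc : ∀ i j, Commute (s i ^ (y i).val) (s j ^ (y j).val) := fun i j =>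
    (show Commute (s i) (s j) from hs i j).pow_pow _ _
  rw [Fin.sum_univ_four]
  exact cube_mul hn (((hc 0 3).mul_left (hc 1 3)).mul_left (hc 2 3)).eq
    (cube_mul hn ((hc 0 2).mul_left (hc 1 2)).eq (cube_mul hn (hc 0 1).eq (hp 0) (hp 1)) (hp 2)) (hp 3)

end comm

/-- the form from six values -/
def Wof (p : Fin 6 → ZMod 3) : Fin 4 → Fin 4 → ZMod 3 :=
  ![![0, p 0, p 1, p 2], ![-p 0, 0, p 3, p 4], ![-p 1, -p 3, 0, p 5], ![-p 2, -p 4, -p 5, 0]]

theorem form_zero : ∀ p : Fin 6 → ZMod 3,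
    (∀ i j, ∑ k, ∑ l, Bm i k * (Bm j l * Wof p k l) = Wof p i j) →
    (∀ i j, ∑ k, ∑ l, Cm i k * (Cm j l * Wof p k l) = Wof p i j) → p = 0 := by decide +kernel

theorem cube_zero : ∀ u : Fin 4 → ZMod 3, (∀ i, ∑ k, Bm i k * u k = u i) →
    (∀ i, ∑ k, Cm i k * u k = u i) → u = 0 := by decide +kernel

/-- The subgroup and the two elements lifted through a central subgroup of order three. -/
theorem exists_frame_lift {X P : Type*} [Group X] [Group P] {K : Type} [Field K] [Fintype K]
    (hK : Fintype.card K = 9) (e : P ≃* PSU 4 K 3) (n : X) (ho : orderOf n = 3)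
    (rel : X → P → Prop) (rone : rel 1 1) (rmul : ∀ g h p q, rel g p → rel h q → rel (g * h) (p * q))
    (rex : ∀ p, ∃ g, rel g p) (rker : ∀ g, rel g 1 → ∃ i : ℕ, g = n ^ i) (rn : rel n 1)
    (rinv : ∀ g p, rel g p → rel g⁻¹ p⁻¹) (rcen : ∀ g p, rel g p → g * n = n * g)
    (rfun : ∀ p, rel 1 p → p = 1) :
    ∃ F : Frame X, F.n = n ∧ FrameOK F := by
  obtain ⟨a₀, b₀, c₀, ha3, hac, hai, hb5, hc5, hbc, hcc⟩ := exists_gens hK
  set a' : Fin 4 → P := fun i => e.symm (a₀ i) with ha'
  have hn : n ^ 3 = 1 := ho ▸ pow_orderOf_eq_one n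
  have rpow : ∀ g p, rel g p → ∀ k : ℕ, rel (g ^ k) (p ^ k) := by
    intro g p h k
    induction k with
    | zero => simpa using rone
    | succ k ih => rw [pow_succ, pow_succ]; exact rmul _ _ _ _ ih h
  have rsame : ∀ g h p, rel g p → rel h p → ∃ i : ZMod 3, g = h * n ^ i.val := by
    intro g h p h1 h2
    obtain ⟨i, hi⟩ := rker (h⁻¹ * g) (by simpa using rmul _ _ _ _ (rinv _ _ h2) h1)
    exact ⟨(i : ZMod 3), by rw [npow_natCast hn, ← hi, mul_inv_cancel_left]⟩
  have rprod : ∀ (s : Fin 4 → X), (∀ i, rel (s i) (a' i)) → ∀ y, rel (prodA s y) (prodA a' y) :=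
    fun s hs y => rmul _ _ _ _ (rmul _ _ _ _ (rmul _ _ _ _ (rpow _ _ (hs 0) _) (rpow _ _ (hs 1) _))
      (rpow _ _ (hs 2) _)) (rpow _ _ (hs 3) _)
  have eprod : ∀ y, e (prodA a' y) = prodA a₀ y := fun y => by simp [prodA, a']
  have hB : ∀ j, e.symm b₀ * a' j * (e.symm b₀)⁻¹ = prodA a' (Bm j) := fun j => e.injective (by
    rw [eprod, ← hbc, map_mul, map_mul, map_inv]; simp [a'])
  have hC : ∀ j, e.symm c₀ * a' j * (e.symm c₀)⁻¹ = prodA a' (Cm j) := fun j => e.injective (by
    rw [eprod, ← hcc, map_mul, map_mul, map_inv]; simp [a'])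
  have five : ∀ q : PSU 4 K 3, q ^ 5 = 1 → ∃ g, rel g (e.symm q) ∧ g ^ 5 = 1 := by
    intro q hq
    obtain ⟨g, hg⟩ := rex (e.symm q)
    have h5 := rpow _ _ hg 5
    rw [← map_pow, hq, map_one] at h5
    obtain ⟨i, hi⟩ := rker _ h5
    refine ⟨g ^ 6, ?_, ?_⟩
    · have := rpow _ _ hg 6
      rwa [show e.symm q ^ 6 = e.symm q by rw [← map_pow, pow_succ, hq, one_mul]] at this
    · rw [← pow_mul, show 6 * 5 = 5 * (3 * 2) from rfl, pow_mul, hi, ← pow_mul,
        mul_comm i (3 * 2), mul_assoc, pow_mul, hn, one_pow]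
  obtain ⟨b, hb, hb5'⟩ := five b₀ hb5
  obtain ⟨c, hc, hc5'⟩ := five c₀ hc5
  obtain ⟨s₀, hs₀⟩ := rex (a' 0)
  let s : Fin 4 → X := ![s₀, b * s₀ * b⁻¹, b * (b * s₀ * b⁻¹) * b⁻¹,
    b * (b * (b * s₀ * b⁻¹) * b⁻¹) * b⁻¹]
  have step : ∀ j j', Bm j = Pi.single j' 1 → ∀ g, rel g (a' j) → rel (b * g * b⁻¹) (a' j') := by
    intro j j' h g hg
    have := rmul _ _ _ _ (rmul _ _ _ _ hb hg) (rinv _ _ hb)
    rw [hB, h] at this
    fin_cases j' <;> simpa [prodA, ZMod.val_one] using this
  have hs : ∀ i, rel (s i) (a' i) := by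
    intro i
    fin_cases i
    · exact hs₀
    · exact step 0 1 (by decide) _ hs₀
    · exact step 1 2 (by decide) _ (step 0 1 (by decide) _ hs₀)
    · exact step 2 3 (by decide) _ (step 1 2 (by decide) _ (step 0 1 (by decide) _ hs₀))
  have hsn : ∀ i, s i * n = n * s i := fun i => rcen _ _ (hs i)
  -- the pairing
  have hWex : ∀ i j, ∃ w, Comm n (s i) (s j) w := by
    intro i j
    obtain ⟨w, hw⟩ := rsame (s i * s j) (s j * s i) (a' i * a' j) (rmul _ _ _ _ (hs i) (hs j)) (by
      rw [show a' i * a' j = a' j * a' i by simp only [a', ← map_mul, hac]]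
      exact rmul _ _ _ _ (hs j) (hs i))
    exact ⟨w, hw⟩
  choose W hW using hWex
  let p : Fin 6 → ZMod 3 := ![W 0 1, W 0 2, W 0 3, W 1 2, W 1 3, W 2 3]
  have hWp : W = Wof p := by
    have hd : ∀ i, W i i = 0 := fun i => comm_unique hn ho (hW i i) (by simp [Comm])
    have ha : ∀ i j, W j i = -W i j := fun i j => comm_unique hn ho (hW j i) (comm_symm hn (hW i j))
    funext i j
    fin_cases i <;> fin_cases j <;> simp [Wof, p, hd] <;> exact ha _ _
  have himg : ∀ (g : X) (q : P) (M : Fin 4 → Fin 4 → ZMod 3), rel g q →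
      (∀ j, q * a' j * q⁻¹ = prodA a' (M j)) →
      ∀ j, ∃ i : ZMod 3, g * s j * g⁻¹ = prodA s (M j) * n ^ i.val := by
    intro g q M hg hM j
    refine rsame _ _ (prodA a' (M j)) ?_ (rprod s hs _)
    rw [← hM]
    exact rmul _ _ _ _ (rmul _ _ _ _ hg (hs j)) (rinv _ _ hg)
  choose mb hmb using himg b _ Bm hb hB
  choose mc hmc using himg c _ Cm hc hC
  have hinv : ∀ (g : X) (M : Fin 4 → Fin 4 → ZMod 3) (m : Fin 4 → ZMod 3), g * n = n * g →
      (∀ j, g * s j * g⁻¹ = prodA s (M j) * n ^ (m j).val) →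
      ∀ i j, ∑ k, ∑ l, M i k * (M j l * W k l) = W i j := by
    intro g M m hgn hm i j
    have h1 := comm_prodA₂ hn hsn hW (M i) (M j) (m i) (m j)
    rw [← hm, ← hm] at h1
    refine comm_unique hn ho h1 ?_
    have h2 := hW i j
    unfold Comm at *
    calc g * s i * g⁻¹ * (g * s j * g⁻¹) = g * (s i * s j) * g⁻¹ := by group
      _ = g * (s j * s i) * g⁻¹ * n ^ (W i j).val := by
          rw [h2, mul_assoc (g * (s j * s i)),
            ← ((show Commute g n from hgn).inv_left.pow_right _).eq.symm]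
          simp only [mul_assoc]
      _ = g * s j * g⁻¹ * (g * s i * g⁻¹) * n ^ (W i j).val := by group
  have hp0 : p = 0 := form_zero p (hWp ▸ hinv b Bm mb (rcen _ _ hb) hmb)
    (hWp ▸ hinv c Cm mc (rcen _ _ hc) hmc)
  have hcomm : ∀ i j, s i * s j = s j * s i := by
    intro i j
    have := hW i j
    rw [hWp, hp0] at this
    have h0 : Wof 0 i j = 0 := by fin_cases i <;> fin_cases j <;> simp [Wof]
    rw [Comm, h0, ZMod.val_zero, pow_zero, mul_one] at this
    exact this
  have hUex : ∀ i, ∃ u : ZMod 3, s i ^ 3 = n ^ u.val := by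
    intro i
    have h := rpow _ _ (hs i) 3
    rw [show a' i ^ 3 = 1 by simp only [a', ← map_pow, ha3, map_one]] at h
    obtain ⟨k, hk⟩ := rker _ h
    exact ⟨(k : ZMod 3), by rw [npow_natCast hn, hk]⟩
  choose u hu using hUex
  have huinv : ∀ (g : X) (M : Fin 4 → Fin 4 → ZMod 3) (m : Fin 4 → ZMod 3), g * n = n * g →
      (∀ j, g * s j * g⁻¹ = prodA s (M j) * n ^ (m j).val) → ∀ i, ∑ k, M i k * u k = u i := by
    intro g M m hgn hm i
    have h1 : (g * s i * g⁻¹) ^ 3 = n ^ (u i).val := by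
      rw [conj_pow, hu, ((show Commute g n from hgn).pow_right _).eq, mul_inv_cancel_right]
    rw [hm, (show Commute (prodA s (M i)) (n ^ (m i).val) from
      (show Commute _ n from prodA_comm hn hsn _).pow_right _).mul_pow, cube_prodA hn hcomm hu,
      ← pow_mul, mul_comm _ 3, pow_mul, hn, one_pow, mul_one] at h1
    refine ZMod.val_injective 3 (pow_injOn_Iio_orderOf ?_ ?_ h1) <;> rw [Set.mem_Iio, ho] <;>
      exact ZMod.val_lt _
  have hu0 : u = 0 := cube_zero u (huinv b Bm mb (rcen _ _ hb) hmb) (huinv c Cm mc (rcen _ _ hc) hmc)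
  -- normalisation
  set r := mb 3 with hr
  let a : Fin 4 → X := fun i => s i * n ^ r.val
  have hr' : ∀ i, Commute (s i) (n ^ r.val) := fun i => (show Commute (s i) n from hsn i).pow_right _
  have hap : ∀ y : Fin 4 → ZMod 3, prodA a y = prodA s y * n ^ (r * ∑ i, y i).val := by
    intro y
    have hp : ∀ i, a i ^ (y i).val = s i ^ (y i).val * n ^ (r * y i).val := fun i => by
      simp only [a]
      rw [(hr' i).mul_pow, ← pow_mul, ← npow_natCast hn (r.val * (y i).val), Nat.cast_mul,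
        ZMod.natCast_val, ZMod.natCast_val, ZMod.cast_id', id_eq, id_eq]
    have hq : ∀ (z : ZMod 3) (i : Fin 4), Commute (n ^ z.val) (s i ^ (y i).val) := fun z i =>
      ((show Commute (s i) n from hsn i).symm).pow_pow _ _
    simp only [prodA, hp, mul_add, Fin.sum_univ_four, npow_add hn]
    simp only [mul_assoc]
    congr 1
    rw [(hq _ 1).left_comm]; congr 1
    rw [(hq _ 2).left_comm, (hq _ 2).left_comm]; congr 1
    rw [(hq _ 3).left_comm, (hq _ 3).left_comm, (hq _ 3).left_comm]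
  refine ⟨⟨n, a, b, c, fun j => mc j + r - r * ∑ i, Cm j i⟩, rfl, hn, fun i => ?_, fun i j => ?_,
    fun i => ?_, rcen _ _ hb, rcen _ _ hc, fun y i h => ?_, hb5', hc5', fun j => ?_, fun j => ?_⟩
  · show a i ^ 3 = 1
    simp only [a]
    rw [(hr' i).mul_pow, hu, hu0, Pi.zero_apply, ZMod.val_zero, pow_zero, ← pow_mul, mul_comm, pow_mul, hn,
      one_pow, one_mul]
  · show a i * a j = a j * a i
    have := hr' i; have := hr' j
    exact ((show Commute (s i) (s j) from hcomm i j).mul_left ((hr' j).symm) |>.mul_right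
      ((hr' i).mul_left (Commute.refl _))).eq
  · exact ((show Commute (s i) n from hsn i).mul_left ((Commute.refl n).pow_left _)).eq
  · change prodA a y * n ^ i.val = 1 at h
    rw [hap, mul_assoc, ← npow_add hn] at h
    have h1 := rmul _ _ _ _ (rprod s hs y) (rpow _ _ rn (r * ∑ i, y i + i).val)
    rw [h, one_pow, mul_one] at h1
    have h3 : y = 0 := hai y (by rw [← eprod, rfun _ h1, map_one])
    subst h3
    refine ⟨rfl, ?_⟩
    simp only [Pi.zero_apply, Finset.sum_const_zero, mul_zero, zero_add] at h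
    rw [show prodA s (0 : Fin 4 → ZMod 3) = 1 by simp [prodA], one_mul] at h
    refine ZMod.val_injective 3 (pow_injOn_Iio_orderOf ?_ ?_ (h.trans ?_)) <;>
      simp only [Set.mem_Iio, ho, ZMod.val_zero, pow_zero]
    · exact ZMod.val_lt _
    · norm_num
  · show b * a j * b⁻¹ = prodA a (Bm j)
    have hbn : Commute b (n ^ r.val) := (show Commute b n from rcen _ _ hb).pow_right _
    have e1 : b * a j * b⁻¹ = b * s j * b⁻¹ * n ^ r.val := by
      simp only [a]
      rw [mul_assoc b, mul_assoc (s j), ← hbn.inv_left.eq]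
      simp only [mul_assoc]
    rw [e1, hap]
    fin_cases j
    · show s 1 * n ^ r.val = _
      simp [prodA, Bm, Fin.sum_univ_four, ZMod.val_one]
    · show s 2 * n ^ r.val = _
      simp [prodA, Bm, Fin.sum_univ_four, ZMod.val_one]
    · show s 3 * n ^ r.val = _
      simp [prodA, Bm, Fin.sum_univ_four, ZMod.val_one]
    · show b * s 3 * b⁻¹ * n ^ r.val = _
      rw [hmb, mul_assoc, ← npow_add hn]
      congr 3
      show r + r = r * ∑ i, Bm 3 i
      have : ∑ i, Bm 3 i = 2 := by decide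
      rw [this]; ring
  · show c * a j * c⁻¹ = prodA a (Cm j) * n ^ (mc j + r - r * ∑ i, Cm j i).val
    have hcn : Commute c (n ^ r.val) := (show Commute c n from rcen _ _ hc).pow_right _
    have e1 : c * a j * c⁻¹ = c * s j * c⁻¹ * n ^ r.val := by
      simp only [a]
      rw [mul_assoc c, mul_assoc (s j), ← hcn.inv_left.eq]
      simp only [mul_assoc]
    rw [e1, hmc, hap, mul_assoc, mul_assoc, ← npow_add hn, ← npow_add hn]
    congr 3
    ring

end Cfsg.Agent.FischerFrame18
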