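import Mathlib
import Cfsg.Prelude.Def_MonsterType
import Cfsg.Agent.Lib.LargeExtraspecialSetting
import Cfsg.Agent.Lib.OrthUnitaryPSU
import Cfsg.Agent.Lib.FischerFrameLift18

/-!
The orthogonal module of the centralizer quotient of a group of large Fischer type, with its frame.
-/

set_option autoImplicit false
set_option maxHeartbeats 1000000

namespace Cfsg.Agent.FischerFrame18

open Subgroup Cfsg.Agent.LargeExtraspecial

universe u

attribute [local instance] Classical.propDecidable

/-- `π` presents `Q` modulo `⟨z⟩` as the orthogonal module. -/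
structure Link {H V : Type u} [Group H] [AddCommGroup V] (Q : Subgroup H) [Q.Normal] (z : H)
    (π : H → V) (ρ : H ⧸ Q →* AddMonoid.End V) (q : V → ZMod 2) : Prop where
  add : ∀ x ∈ Q, ∀ y ∈ Q, π (x * y) = π x + π y
  ker : ∀ x ∈ Q, π x = 0 ↔ x = 1 ∨ x = z
  surj : ∀ v, ∃ x ∈ Q, π x = v
  equiv : ∀ h, ∀ x ∈ Q, π (h * x * h⁻¹) = ρ (h : H ⧸ Q) (π x)
  qval : ∀ x ∈ Q, q (π x) = if x * x = 1 then 0 else 1
  polar : ∀ x ∈ Q, ∀ y ∈ Q, polarQ q (π x) (π y) = if x * y = y * x then 0 else 1

/-- characters with values modulo two -/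
theorem card_dual (V : Type u) [AddCommGroup V] [Finite V] (two : ∀ v : V, v + v = 0) :
    Nat.card (V →+ ZMod 2) = Nat.card V := by
  letI : Module (ZMod 2) V := AddCommGroup.zmodModule fun v => by rw [two_nsmul, two]
  haveI : Module.Finite (ZMod 2) V := Module.Finite.of_finite
  let e : (V →+ ZMod 2) ≃ Module.Dual (ZMod 2) V :=
    { toFun := fun f => f.toZModLinearMap 2
      invFun := fun f => f.toAddMonoidHom
      left_inv := fun f => by ext; rfl
      right_inv := fun f => by ext; rfl }
  rw [Nat.card_congr e, Module.natCard_eq_pow_finrank (K := ZMod 2),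
    Module.natCard_eq_pow_finrank (K := ZMod 2) (V := V), Subspace.dual_finrank_eq]

theorem exists_module {H : Type u} [Group H] [Finite H] (Q : Subgroup H) [Q.Normal] {z : H}
    (hext : Ext Q z) (hzc : ∀ h, h * z = z * h)
    (hcc : ∀ c : H, (∀ x ∈ Q, c * x = x * c) → c = 1 ∨ c = z) (hcard : Nat.card Q = 2 ^ 13) :
    ∃ (V : Type u) (_ : AddCommGroup V) (π : H → V) (ρ : H ⧸ Q →* AddMonoid.End V) (q : V → ZMod 2),
      OrthMod ρ q ∧ Link Q z π ρ q := by
  classical
  let Z : Subgroup Q := (zpowers z).subgroupOf Q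
  have memZ : ∀ {x : Q}, x ∈ Z ↔ (x : H) = 1 ∨ (x : H) = z := fun {x} => by
    show (x : H) ∈ zpowers z ↔ _
    refine ⟨fun h => hext.eq_of_mem_zpowers h, ?_⟩
    rintro (h | h) <;> rw [h]
    · exact one_mem _
    · exact mem_zpowers z
  haveI : Z.Normal := ⟨fun x hx g => by
    rcases memZ.1 hx with h | h <;> refine memZ.2 ?_
    · left; simp [h]
    · right; simp [h, hzc]⟩
  have hsqZ : ∀ x : Q, x * x ∈ Z := fun x => memZ.2 (hext.sq x x.2)
  have hcomm : ∀ a b : Q ⧸ Z, a * b = b * a := by
    intro a b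
    have h2 : ∀ c : Q ⧸ Z, c * c = 1 := fun c => by
      obtain ⟨x, rfl⟩ := QuotientGroup.mk_surjective c
      exact (QuotientGroup.eq_one_iff _).2 (hsqZ x)
    have hinv : ∀ c : Q ⧸ Z, c⁻¹ = c := fun c => inv_eq_of_mul_eq_one_right (h2 c)
    calc a * b = (a * b)⁻¹ := (hinv _).symm
      _ = b * a := by rw [mul_inv_rev, hinv, hinv]
  letI : CommGroup (Q ⧸ Z) := { (inferInstance : Group (Q ⧸ Z)) with mul_comm := hcomm }
  let V := Additive (Q ⧸ Z)
  let π : H → V := fun x => if h : x ∈ Q then Additive.ofMul (QuotientGroup.mk ⟨x, h⟩) else 0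
  have hπ : ∀ x (h : x ∈ Q), π x = Additive.ofMul (QuotientGroup.mk (⟨x, h⟩ : Q)) := fun x h => dif_pos h
  have hadd : ∀ x ∈ Q, ∀ y ∈ Q, π (x * y) = π x + π y := fun x hx y hy => by
    rw [hπ _ (mul_mem hx hy), hπ x hx, hπ y hy]; rfl
  have hker : ∀ x ∈ Q, π x = 0 ↔ x = 1 ∨ x = z := fun x hx => by
    rw [hπ x hx, ← ofMul_one, Additive.ofMul.injective.eq_iff, QuotientGroup.eq_one_iff]
    exact memZ
  have hsurj : ∀ v, ∃ x ∈ Q, π x = v := fun v => by
    obtain ⟨⟨x, hx⟩, e⟩ := QuotientGroup.mk_surjective (Additive.toMul v)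
    exact ⟨x, hx, by rw [hπ x hx, e]; rfl⟩
  have hπeq : ∀ x ∈ Q, ∀ y ∈ Q, π x = π y ↔ (x = y ∨ x = z * y) := by
    intro x hx y hy
    have hxy : x * y⁻¹ ∈ Q := mul_mem hx (inv_mem hy)
    have e := hadd _ hxy _ hy
    rw [inv_mul_cancel_right] at e
    constructor
    · intro h
      rcases (hker _ hxy).1 (by rwa [h, right_eq_add] at e) with h' | h'
      · exact Or.inl (mul_inv_eq_one.1 h')
      · exact Or.inr (mul_inv_eq_iff_eq_mul.1 h')
    · rintro (rfl | rfl)
      · rfl
      · rw [hadd _ hext.mem _ hy, (hker z hext.mem).2 (Or.inr rfl), zero_add]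
  have hcj : ∀ (h x : H), x ∈ Q → h * x * h⁻¹ ∈ Q := fun h x hx => Subgroup.Normal.conj_mem ‹Q.Normal› x hx h
  have hconjπ : ∀ h : H, ∀ x ∈ Q, ∀ y ∈ Q, π x = π y → π (h * x * h⁻¹) = π (h * y * h⁻¹) := by
    intro h x hx y hy e
    rw [hπeq _ (hcj h x hx) _ (hcj h y hy)]
    rcases (hπeq x hx y hy).1 e with rfl | rfl
    · exact Or.inl rfl
    · right; rw [← mul_assoc, hzc h]; simp only [mul_assoc]
  choose lift hlift hliftπ using hsurj
  let R : H → V → V := fun h v => π (h * lift v * h⁻¹)
  have hR : ∀ h, ∀ x ∈ Q, R h (π x) = π (h * x * h⁻¹) := fun h x hx =>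
    hconjπ h _ (hlift _) x hx (hliftπ _)
  have hRadd : ∀ h u v, R h (u + v) = R h u + R h v := by
    intro h u v
    show π (h * lift (u + v) * h⁻¹) = π (h * lift u * h⁻¹) + π (h * lift v * h⁻¹)
    rw [← hadd _ (hcj h _ (hlift u)) _ (hcj h _ (hlift v)),
      show h * lift u * h⁻¹ * (h * lift v * h⁻¹) = h * (lift u * lift v) * h⁻¹ by group]
    exact hconjπ h _ (hlift _) _ (mul_mem (hlift _) (hlift _))
      (by rw [hliftπ, hadd _ (hlift _) _ (hlift _), hliftπ, hliftπ])
  let E : H →* AddMonoid.End V :=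
    { toFun := fun h => (AddMonoidHom.mk' (R h) (hRadd h) : V →+ V)
      map_one' := AddMonoidHom.ext fun v => by
        show π (1 * lift v * 1⁻¹) = v
        simp [hliftπ]
      map_mul' := fun g h => AddMonoidHom.ext fun v => by
        show π (g * h * lift v * (g * h)⁻¹) = R g (R h v)
        rw [show R h v = π (h * lift v * h⁻¹) from rfl, hR g _ (hcj h _ (hlift v))]
        congr 1
        group }
  have hQker : Q ≤ E.ker := fun g hg => AddMonoidHom.ext fun v => by
    show π (g * lift v * g⁻¹) = v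
    conv_rhs => rw [← hliftπ v]
    exact (hπeq _ (hcj g _ (hlift v)) _ (hlift v)).2 (hext.conj g hg _ (hlift v))
  let ρ : H ⧸ Q →* AddMonoid.End V := QuotientGroup.lift Q E hQker
  have hequiv : ∀ h, ∀ x ∈ Q, π (h * x * h⁻¹) = ρ (h : H ⧸ Q) (π x) := fun h x hx => (hR h x hx).symm
  let q : V → ZMod 2 := fun v => if lift v * lift v = 1 then 0 else 1
  have sq_mul_z : ∀ x ∈ Q, z * x * (z * x) = x * x := by
    intro x hx
    calc z * x * (z * x) = z * (x * z) * x := by simp only [mul_assoc]
      _ = z * z * (x * x) := by rw [hzc x]; simp only [mul_assoc]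
      _ = x * x := by rw [hext.zz, one_mul]
  have hqval : ∀ x ∈ Q, q (π x) = if x * x = 1 then 0 else 1 := by
    intro x hx
    show (if lift (π x) * lift (π x) = 1 then (0 : ZMod 2) else 1) = _
    rcases (hπeq _ (hlift _) x hx).1 (hliftπ _) with e | e <;> rw [e]
    rw [sq_mul_z x hx]
  let c : H → H → ZMod 2 := fun x y => if x * y = y * x then 0 else 1
  have hzne : z ≠ 1 := hext.ne_one
  have hcm : ∀ x ∈ Q, ∀ y ∈ Q, x * y = y * x ∨ x * y = z * (y * x) := by
    intro x hx y hy
    rcases hext.conj x hx y hy with e | e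
    · exact Or.inl (mul_inv_eq_iff_eq_mul.1 e)
    · exact Or.inr ((mul_inv_eq_iff_eq_mul.1 e).trans (mul_assoc _ _ _))
  have hpol : ∀ x ∈ Q, ∀ y ∈ Q, polarQ q (π x) (π y) = c x y := by
    intro x hx y hy
    have hq2 : x * y * (x * y) = x * x * (y * y) * (if x * y = y * x then 1 else z) := by
      split_ifs with h
      · rw [mul_one]
        calc x * y * (x * y) = x * (y * x) * y := by simp only [mul_assoc]
          _ = _ := by rw [← h]; simp only [mul_assoc]
      · rcases hcm y hy x hx with e | e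
        · exact absurd e.symm h
        · calc x * y * (x * y) = x * (y * x) * y := by simp only [mul_assoc]
            _ = x * (z * (x * y)) * y := by rw [e]
            _ = z * (x * x * (y * y)) := by
                rw [← mul_assoc x z, hzc x]; simp only [mul_assoc]
            _ = _ := (hzc _).symm
    show q (π x + π y) + q (π x) + q (π y) = c x y
    rw [← hadd x hx y hy, hqval _ (mul_mem hx hy), hqval x hx, hqval y hy, hq2]
    simp only [c]
    by_cases h : x * y = y * x
    · simp only [if_pos h, mul_one]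
      rcases hext.sq x hx with a | a <;> rcases hext.sq y hy with b | b <;>
        simp [a, b, hext.zz, hzne] <;> decide
    · simp only [if_neg h]
      rcases hext.sq x hx with a | a <;> rcases hext.sq y hy with b | b <;>
        simp [a, b, hext.zz, hzne] <;> decide
  have two : ∀ v : V, v + v = 0 := fun v => by
    conv_lhs => rw [← hliftπ v]
    rw [← hadd _ (hlift _) _ (hlift _)]
    exact (hker _ (mul_mem (hlift _) (hlift _))).2 (hext.sq _ (hlift _))
  have haddl : ∀ u v w, polarQ q (u + v) w = polarQ q u w + polarQ q v w := by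
    intro u v w
    rw [← hliftπ u, ← hliftπ v, ← hliftπ w, ← hadd _ (hlift u) _ (hlift v),
      hpol _ (mul_mem (hlift _) (hlift _)) _ (hlift _), hpol _ (hlift _) _ (hlift _),
      hpol _ (hlift _) _ (hlift _)]
    generalize hgx : lift u = x
    generalize hgy : lift v = y
    generalize hgt : lift w = t
    have hx : x ∈ Q := hgx ▸ hlift u
    have hy : y ∈ Q := hgy ▸ hlift v
    have ht : t ∈ Q := hgt ▸ hlift w
    have key : x * y * t = t * (x * y) * (if x * t = t * x then 1 else z) *
        (if y * t = t * y then 1 else z) := by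
      have e1 : x * t = t * x * (if x * t = t * x then 1 else z) := by
        split_ifs with h
        · rw [mul_one, h]
        · exact ((hcm x hx t ht).resolve_left h).trans (hzc _).symm
      have e2 : y * t = t * y * (if y * t = t * y then 1 else z) := by
        split_ifs with h
        · rw [mul_one, h]
        · exact ((hcm y hy t ht).resolve_left h).trans (hzc _).symm
      have hs : ∀ (P : Prop) [Decidable P] (g : H), g * (if P then (1 : H) else z) =
          (if P then (1 : H) else z) * g := by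
        intro P _ g; split_ifs
        · simp
        · exact hzc g
      calc x * y * t = x * (y * t) := mul_assoc _ _ _
        _ = x * t * y * (if y * t = t * y then 1 else z) := by
            conv_lhs => rw [e2]
            simp only [mul_assoc]
        _ = t * x * (if x * t = t * x then 1 else z) * y * (if y * t = t * y then 1 else z) := by
            conv_lhs => rw [e1]
        _ = _ := by
            rw [mul_assoc (t * x) (if x * t = t * x then (1 : H) else z) y, ← hs]
            simp only [mul_assoc]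
    simp only [c]
    by_cases a : x * t = t * x <;> by_cases b : y * t = t * y <;>
      simp only [a, b, if_true, if_false, mul_one] at key ⊢
    · rw [if_pos key, add_zero]
    · rw [if_neg fun e => hzne ?_, zero_add]
      exact mul_eq_left.1 (key.symm.trans e)
    · rw [if_neg fun e => hzne ?_, add_zero]
      exact mul_eq_left.1 (key.symm.trans e)
    · rw [mul_assoc (t * (x * y)), hext.zz, mul_one] at key
      rw [if_pos key]; decide
  refine ⟨V, inferInstance, π, ρ, q, ⟨two, ?_, ?_, haddl, ?_, ?_⟩,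
    hadd, hker, fun v => ⟨_, hlift v, hliftπ v⟩, hequiv, hqval, hpol⟩
  · have h := Z.card_mul_index
    have hz : Nat.card Z = 2 := by
      rw [Nat.card_congr (Subgroup.subgroupOfEquivOfLe (zpowers_le.2 hext.mem)).toEquiv,
        Nat.card_zpowers, hext.orderOf_z]
    rw [hz, hcard] at h
    show Nat.card (Q ⧸ Z) = 4096
    rw [← Subgroup.index_eq_card]
    omega
  · intro g hg
    obtain ⟨h, rfl⟩ := QuotientGroup.mk_surjective g
    have hfix : ∀ x ∈ Q, h * x * h⁻¹ = x ∨ h * x * h⁻¹ = z * x := fun x hx =>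
      (hπeq _ (hcj h x hx) x hx).1 (by rw [hequiv h x hx, hg])
    -- the functional of the element
    let f : V → ZMod 2 := fun v => if h * lift v = lift v * h then 0 else 1
    have hfz : ∀ x ∈ Q, f (π x) = if h * x = x * h then 0 else 1 := by
      intro x hx
      show (if h * lift (π x) = lift (π x) * h then (0 : ZMod 2) else 1) = _
      rcases (hπeq _ (hlift _) x hx).1 (hliftπ _) with e | e <;> rw [e]
      congr 1
      rw [← mul_assoc, hzc h, mul_assoc, mul_assoc, mul_right_inj]
    have hfadd : ∀ u v, f (u + v) = f u + f v := by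
      intro u v
      rw [← hliftπ u, ← hliftπ v, ← hadd _ (hlift u) _ (hlift v), hfz _ (mul_mem (hlift u) (hlift v)),
        hfz _ (hlift u), hfz _ (hlift v)]
      have e : h * (lift u * lift v) * h⁻¹ = h * lift u * h⁻¹ * (h * lift v * h⁻¹) := by group
      have hiff : ∀ x, h * x = x * h ↔ h * x * h⁻¹ = x := fun x => mul_inv_eq_iff_eq_mul.symm
      simp only [hiff, e]
      have hne : ∀ x : H, z * x ≠ x := hext.z_mul_ne
      rcases hfix _ (hlift u) with a | a <;> rcases hfix _ (hlift v) with b | b <;> rw [a, b]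
      · simp
      · have e1 : lift u * (z * lift v) = z * (lift u * lift v) := by
          rw [← mul_assoc, hzc, mul_assoc]
        simp [e1, hne]
      · simp [mul_assoc, hne]
      · have e1 : z * lift u * (z * lift v) = lift u * lift v := by
          rw [← mul_assoc (z * lift u), mul_assoc z (lift u) z, hzc (lift u), ← mul_assoc z z, hext.zz,
            one_mul]
        simp only [e1, hne, if_true, if_false]
        decide
    -- every functional is a polar
    let pol : V → (V →+ ZMod 2) := fun u => AddMonoidHom.mk' (fun v => polarQ q u v) fun a b => by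
      have hsym : ∀ a b, polarQ q a b = polarQ q b a := fun a b => by
        simp only [polarQ, add_comm a b]; ring
      simp only [hsym u, haddl]
    have hpinj : Function.Injective pol := by
      intro a b e
      by_contra hne
      have hab : a + b ≠ 0 := fun h0 => hne (by
        have := congrArg (· + b) h0
        simpa [add_assoc, two] using this)
      obtain ⟨y, hy, e'⟩ := hext.partner _ (hlift (a + b))
        (fun h1 => hab (by rw [← hliftπ (a + b), (hker _ (hlift _)).2 (Or.inl h1)]))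
        (fun h1 => hab (by rw [← hliftπ (a + b), (hker _ (hlift _)).2 (Or.inr h1)]))
      have h1 : polarQ q (a + b) (π y) = 0 := by
        rw [haddl]
        have := congrArg (fun F : V →+ ZMod 2 => F (π y)) e
        simp only [pol, AddMonoidHom.mk'_apply] at this
        rw [this]; exact ZModModule.add_self _
      rw [← hliftπ (a + b), hpol _ (hlift _) _ hy] at h1
      simp only [c] at h1
      split_ifs at h1 with hc'
      · exact hext.z_mul_ne _ (by rw [← e', mul_inv_eq_iff_eq_mul, hc'])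
      · exact one_ne_zero h1
    haveI : Finite (V →+ ZMod 2) := Finite.of_injective (fun F => (F : V → ZMod 2)) DFunLike.coe_injective
    obtain ⟨u, hu⟩ := ((Nat.bijective_iff_injective_and_card pol).2
      ⟨hpinj, (card_dual V two).symm⟩).2 (AddMonoidHom.mk' f hfadd)
    have hcent : ∀ x ∈ Q, (lift u)⁻¹ * h * x = x * ((lift u)⁻¹ * h) := by
      intro x hx
      have e1 := congrArg (fun F : V →+ ZMod 2 => F (π x)) hu
      simp only [pol, AddMonoidHom.mk'_apply, hfz x hx] at e1
      rw [← hliftπ u, hpol _ (hlift u) x hx] at e1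
      simp only [c] at e1
      have hu' := hcm _ (hlift u) x hx
      have key : h * x * h⁻¹ = lift u * x * (lift u)⁻¹ := by
        split_ifs at e1 with a b b
        · rw [mul_inv_eq_iff_eq_mul.2 a, mul_inv_eq_iff_eq_mul.2 b]
        · simp at e1
        · simp at e1
        · rw [mul_inv_eq_iff_eq_mul.2 ((hu'.resolve_left a).trans (mul_assoc _ _ _).symm),
            (hfix x hx).resolve_left fun e2 => b (mul_inv_eq_iff_eq_mul.1 e2)]
      calc (lift u)⁻¹ * h * x = (lift u)⁻¹ * (h * x * h⁻¹) * h := by group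
        _ = x * ((lift u)⁻¹ * h) := by rw [key]; group
    refine (QuotientGroup.eq_one_iff h).2 ?_
    rw [← mul_inv_cancel_left (lift u) h]
    rcases hcc _ hcent with e | e <;> rw [e]
    · exact mul_mem (hlift u) (one_mem _)
    · exact mul_mem (hlift u) hext.mem
  · intro v hv
    by_contra h0
    obtain ⟨y, hy, e'⟩ := hext.partner _ (hlift v)
      (fun h1 => h0 (by rw [← hliftπ v, (hker _ (hlift _)).2 (Or.inl h1)]))
      (fun h1 => h0 (by rw [← hliftπ v, (hker _ (hlift _)).2 (Or.inr h1)]))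
    have h1 := hv (π y)
    rw [← hliftπ v, hpol _ (hlift v) _ hy] at h1
    simp only [c] at h1
    split_ifs at h1 with hc'
    · exact hext.z_mul_ne _ (by rw [← e', mul_inv_eq_iff_eq_mul, hc'])
    · exact one_ne_zero h1
  · intro g v
    obtain ⟨h, rfl⟩ := QuotientGroup.mk_surjective g
    conv_lhs => rw [← hliftπ v, ← hequiv h _ (hlift v)]
    rw [hqval _ (hcj h _ (hlift v))]
    conv_rhs => rw [← hliftπ v, hqval _ (hlift v)]
    congr 1
    rw [show h * lift v * h⁻¹ * (h * lift v * h⁻¹) = h * (lift v * lift v) * h⁻¹ by group]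
    exact propext conj_eq_one_iff

/-- The setting. -/
structure Setting {G : Type u} [Group G] (z : G) (Q : Subgroup (centralizer ({z} : Set G))) [Q.Normal]
    {V : Type u} [AddCommGroup V] (zc : centralizer ({z} : Set G))
    (π : centralizer ({z} : Set G) → V) (ρ : centralizer ({z} : Set G) ⧸ Q →* AddMonoid.End V)
    (q : V → ZMod 2) (F : Frame (centralizer ({z} : Set G) ⧸ Q)) : Prop where
  zc_val : (zc : G) = z
  ext : Ext Q zc
  link : Link Q zc π ρ q
  orth : OrthMod ρ q
  frame : FrameOK F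
  card : Nat.card (centralizer ({z} : Set G) ⧸ Q) = 19595520
  seven : ∀ g : centralizer ({z} : Set G) ⧸ Q, g ^ 7 = 1 → g * F.n = F.n * g

theorem exists_setting {G : Type u} [Group G] [Finite G] (z : G)
    (Q : Subgroup (centralizer ({z} : Set G))) [Q.Normal] (hF : Cfsg.IsOfLargeFischerTypeAt z Q) :
    ∃ (V : Type u) (_ : AddCommGroup V) (zc : centralizer ({z} : Set G))
      (π : centralizer ({z} : Set G) → V) (ρ : centralizer ({z} : Set G) ⧸ Q →* AddMonoid.End V)
      (q : V → ZMod 2) (F : Frame (centralizer ({z} : Set G) ⧸ Q)), Setting z Q zc π ρ q F := by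
  obtain ⟨⟨hz, hFit, hQ, hcard, -⟩, N, M, hNn, hMn, hQN, hNM, hNcard, ⟨K, _, _, hK, ⟨e⟩⟩, hMi⟩ := hF
  obtain ⟨z₁, hext, -, hbig⟩ := LargeExtraspecial.exists_ext hQ
  have hcc : ∀ c : centralizer ({z} : Set G), (∀ x ∈ Q, c * x = x * c) → c = 1 ∨ c = z₁ := by
    intro c hc
    have hmem : c ∈ Q := by
      rw [← hFit]
      refine ComponentsFitting.centralizer_gen_le (mem_centralizer_iff.mpr fun x hx => ?_)
      rw [hFit] at hx
      exact (hc x hx).symm
    exact hext.central hmem fun y hy => (hc y hy).symm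
  have hzC : z ∈ centralizer ({z} : Set G) := mem_centralizer_singleton_iff.mpr rfl
  have hz₁ : (⟨z, hzC⟩ : centralizer ({z} : Set G)) = z₁ := by
    rcases hcc ⟨z, hzC⟩ fun x _ => Subtype.ext (mem_centralizer_singleton_iff.mp x.2).symm with e | e
    · exfalso
      have : z = 1 := congrArg Subtype.val e
      rw [this] at hz
      simp at hz
    · exact e
  subst hz₁
  have hzc : ∀ h : centralizer ({z} : Set G), h * ⟨z, hzC⟩ = ⟨z, hzC⟩ * h := fun h =>
    Subtype.ext (mem_centralizer_singleton_iff.mp h.2)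
  obtain ⟨V, _, π, ρ, q, hR, hL⟩ := exists_module Q hext hzc hcc hcard
  haveI hsimple : IsSimpleGroup (Cfsg.PSU 4 K 3) :=
    OrthUnitaryPSU.isSimpleGroup_PSU (q := 3) (by rw [hK]; rfl) (by norm_num) (by norm_num)
  set mk := QuotientGroup.mk' Q with hmk
  -- the image of the group of order three
  have hN3 : Nat.card (N.map mk) = 3 := by
    have h := Subgroup.card_mul_index (Q.subgroupOf N)
    rw [Nat.card_congr (Subgroup.subgroupOfEquivOfLe hQN).toEquiv, hNcard, mul_comm 3] at h
    have hk : (N.map mk).index = N.index := Subgroup.index_map_eq _ (QuotientGroup.mk'_surjective Q)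
      (by rw [QuotientGroup.ker_mk']; exact hQN)
    have h1 := Subgroup.card_mul_index (N.map mk)
    have h2 := Subgroup.card_mul_index N
    rw [hk, ← Subgroup.index_eq_card] at h1
    rw [← Subgroup.card_mul_index Q, hNcard] at h2
    have hi : N.index ≠ 0 := Subgroup.index_ne_zero_of_finite
    have hq0 : 0 < Nat.card Q := Nat.card_pos
    apply Nat.eq_of_mul_eq_mul_left hq0
    apply Nat.eq_of_mul_eq_mul_right (Nat.pos_of_ne_zero hi)
    calc Nat.card Q * Nat.card (N.map mk) * N.index
        = Nat.card Q * Q.index := by rw [mul_assoc, h1]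
      _ = Nat.card Q * 3 * N.index := by rw [← h2]; ring
  haveI : Fact (Nat.Prime 3) := ⟨Nat.prime_three⟩
  haveI hcyc : IsCyclic (N.map mk) := isCyclic_of_prime_card hN3
  obtain ⟨⟨n, hnN⟩, hgen⟩ := hcyc.exists_generator
  have ho : orderOf n = 3 := by
    have h := orderOf_eq_card_of_forall_mem_zpowers hgen
    rw [hN3] at h
    rwa [Subgroup.orderOf_mk] at h
  have hnpow : ∀ g ∈ N.map mk, ∃ i : ℕ, g = n ^ i := by
    intro g hg
    obtain ⟨i, hi⟩ := (mem_powers_iff_mem_zpowers.2 (hgen ⟨g, hg⟩))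
    exact ⟨i, (congrArg Subtype.val hi).symm⟩
  let φ : M →* Cfsg.PSU 4 K 3 := e.toMonoidHom.comp (QuotientGroup.mk' (N.subgroupOf M))
  have φker : ∀ m : M, φ m = 1 ↔ (m : centralizer ({z} : Set G)) ∈ N := fun m => by
    show e (QuotientGroup.mk' _ m) = 1 ↔ _
    rw [map_eq_one_iff _ e.injective]
    exact (QuotientGroup.eq_one_iff m).trans Subgroup.mem_subgroupOf
  have φsurj : Function.Surjective φ := e.surjective.comp (QuotientGroup.mk'_surjective _)
  have hQM : Q ≤ M := hQN.trans hNM
  let rel : centralizer ({z} : Set G) ⧸ Q → Cfsg.PSU 4 K 3 → Prop := fun g p =>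
    ∃ m : M, mk (m : centralizer ({z} : Set G)) = g ∧ φ m = p
  have hconjn : ∀ g : centralizer ({z} : Set G) ⧸ Q, g * n * g⁻¹ = n ∨ g * n * g⁻¹ = n ^ 2 := by
    intro g
    haveI : (N.map mk).Normal := hNn.map _ (QuotientGroup.mk'_surjective Q)
    obtain ⟨i, hi⟩ := hnpow _ ((inferInstance : (N.map mk).Normal).conj_mem n hnN g)
    rw [hi, pow_eq_pow_mod i (ho ▸ pow_orderOf_eq_one n : n ^ 3 = 1)]
    have hlt : i % 3 < 3 := Nat.mod_lt _ (by norm_num)
    have hne : i % 3 ≠ 0 := fun h0 => by
      rw [pow_eq_pow_mod i (ho ▸ pow_orderOf_eq_one n : n ^ 3 = 1), h0, pow_zero,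
        conj_eq_one_iff] at hi
      rw [hi, orderOf_one] at ho
      omega
    interval_cases i % 3
    · exact absurd rfl hne
    · left; rw [pow_one]
    · right; rfl
  have hsqn : ∀ g : centralizer ({z} : Set G) ⧸ Q, g * g * n = n * (g * g) := by
    intro g
    rw [← mul_inv_eq_iff_eq_mul, show g * g * n * (g * g)⁻¹ = g * (g * n * g⁻¹) * g⁻¹ by group]
    rcases hconjn g with h | h
    · rw [h, h]
    · rw [h, ← conj_pow, h, ← pow_mul, pow_succ, ← ho, pow_orderOf_eq_one, one_mul]
  -- lifts centralising the group of order three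
  let S : Subgroup (Cfsg.PSU 4 K 3) := ((Subgroup.centralizer ({n} : Set _)).comap
    (mk.comp M.subtype)).map φ
  have hSsq : ∀ p : Cfsg.PSU 4 K 3, p * p ∈ S := by
    intro p
    obtain ⟨m, rfl⟩ := φsurj p
    refine ⟨m * m, ?_, map_mul φ m m⟩
    show mk ((m : centralizer ({z} : Set G)) * m) ∈ Subgroup.centralizer ({n} : Set _)
    rw [map_mul]
    exact mem_centralizer_singleton_iff.2 (hsqn _)
  obtain ⟨a₀, b₀, c₀, ha3, -, hai, -⟩ := exists_gens hK
  have hStop : S = ⊤ := by
    have hN : (Subgroup.normalClosure (Set.range fun p : Cfsg.PSU 4 K 3 => p * p)) ≤ S := by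
      refine Subgroup.closure_le _ |>.2 ?_
      intro x hx
      obtain ⟨y, ⟨p, rfl⟩, hconj⟩ := Group.mem_conjugatesOfSet_iff.1 hx
      obtain ⟨k, rfl⟩ := isConj_iff.1 hconj
      show k * (p * p) * k⁻¹ ∈ S
      rw [show k * (p * p) * k⁻¹ = k * p * k⁻¹ * (k * p * k⁻¹) by group]
      exact hSsq _
    rcases (Subgroup.normalClosure_normal (s := Set.range fun p : Cfsg.PSU 4 K 3 => p * p)).eq_bot_or_eq_top
      with h | h
    · exfalso
      have h1 : a₀ 0 * a₀ 0 = 1 := by
        have : a₀ 0 * a₀ 0 ∈ Subgroup.normalClosure (Set.range fun p : Cfsg.PSU 4 K 3 => p * p) :=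
          Subgroup.subset_normalClosure ⟨a₀ 0, rfl⟩
        rwa [h, Subgroup.mem_bot] at this
      have h3 := ha3 0
      rw [pow_succ, pow_two, h1, one_mul] at h3
      have := hai (Pi.single 0 1) (by simp [prodA, h3, ZMod.val_one])
      simpa using congrFun this 0
    · exact top_le_iff.1 (h ▸ hN)
  have hMn' : ∀ m : M, mk (m : centralizer ({z} : Set G)) * n = n * mk (m : centralizer ({z} : Set G)) := by
    intro m
    obtain ⟨m', hm', e'⟩ : φ m ∈ S := hStop ▸ Subgroup.mem_top _
    have hk : (m : centralizer ({z} : Set G)) * (m' : centralizer ({z} : Set G))⁻¹ ∈ N :=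
      (φker (m * m'⁻¹)).1 (by rw [map_mul, map_inv, e', mul_inv_cancel])
    obtain ⟨i, hi⟩ := hnpow _ (Subgroup.mem_map_of_mem mk hk)
    rw [map_mul, map_inv, mul_inv_eq_iff_eq_mul] at hi
    rw [hi]
    exact ((Commute.refl n).pow_left i |>.mul_left (mem_centralizer_singleton_iff.1 hm')).eq
  obtain ⟨m₀, hm₀N, hm₀⟩ := Subgroup.mem_map.1 hnN
  obtain ⟨F, hFn, hFr⟩ := exists_frame_lift hK (MulEquiv.refl _) n ho rel
    ⟨1, map_one mk, map_one φ⟩
    (fun g h p p' ⟨m, h1, h2⟩ ⟨m', h3, h4⟩ => ⟨m * m', by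
      rw [Subgroup.coe_mul, map_mul, h1, h3], by rw [map_mul, h2, h4]⟩)
    (fun p => by obtain ⟨m, hm⟩ := φsurj p; exact ⟨_, m, rfl, hm⟩)
    (fun g ⟨m, h1, h2⟩ => h1 ▸ hnpow _ (Subgroup.mem_map_of_mem mk ((φker m).1 h2)))
    ⟨⟨m₀, hNM hm₀N⟩, hm₀, (φker _).2 hm₀N⟩
    (fun g p ⟨m, h1, h2⟩ => ⟨m⁻¹, by rw [Subgroup.coe_inv, map_inv, h1], by rw [map_inv, h2]⟩)
    (fun g p ⟨m, h1, _⟩ => h1 ▸ hMn' m)
    (fun p ⟨m, h1, h2⟩ => h2 ▸ (φker m).2 (hQN ((QuotientGroup.eq_one_iff _).1 h1)))
  have hcardX : Nat.card (centralizer ({z} : Set G) ⧸ Q) = 19595520 := by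
    rw [← Subgroup.index_eq_card, ← Subgroup.relIndex_mul_index hQM, hMi,
      ← Subgroup.relIndex_mul_relIndex Q N M hQN hNM]
    have h1 : Q.relIndex N = 3 := by
      have h := Subgroup.card_mul_index (Q.subgroupOf N)
      rw [Nat.card_congr (Subgroup.subgroupOfEquivOfLe hQN).toEquiv, hNcard, mul_comm 3] at h
      exact Nat.eq_of_mul_eq_mul_left Nat.card_pos h
    have h2 : N.relIndex M = 3265920 := by
      rw [Subgroup.relIndex, Subgroup.index_eq_card, Nat.card_congr e.toEquiv,
        PSUFourThree56.card_PSU hK]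
    rw [h1, h2]
  refine ⟨V, inferInstance, ⟨z, hzC⟩, π, ρ, q, F, rfl, hext, hL, hR, hFr, hcardX, fun g hg => ?_⟩
  rw [hFn]
  obtain ⟨h, rfl⟩ := QuotientGroup.mk_surjective g
  have e4 : mk h = mk (h ^ 4 * h ^ 4) := by
    rw [← pow_add, map_pow, show (4 : ℕ) + 4 = 7 + 1 from rfl, pow_succ]
    show mk h = mk h ^ 7 * mk h
    rw [show mk h ^ 7 = 1 from hg, one_mul]
  show mk h * n = n * mk h
  rw [e4]
  exact hMn' ⟨_, Subgroup.mul_self_mem_of_index_two hMi (h ^ 4)⟩

end Cfsg.Agent.FischerFrame18
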