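import Cfsg.Agent.Lib.OrthUnitaryHerm
import Cfsg.Agent.Lib.UnitaryImageFields

/-!
Monomial elements of the special unitary group of dimension 6 over the field with four elements,
its diagonal subgroup and a Sylow 3-subgroup containing it.
-/

set_option autoImplicit false
set_option linter.style.haveILetI false
set_option linter.unusedSectionVars false

namespace Cfsg.Agent.U62Mon93

open Cfsg Cfsg.Agent.OrthUnitaryHerm
open scoped Matrix

variable {F : Type} [Field F] [Fintype F]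

/-- The field has four elements and `s` is a cube root of unity other than one. -/
structure S4 (s : F) : Prop where
  card : Fintype.card F = 4
  sq : s ^ 2 = s + 1

theorem exists_S4 (hF : Fintype.card F = 4) : ∃ s : F, S4 s := by
  obtain ⟨s, h1, -⟩ := UnitaryImageFields.gen_four hF
  exact ⟨s, hF, h1⟩

variable {s : F}

theorem S4.card' (h : S4 s) : Fintype.card F = 2 ^ 2 := by rw [h.card]; rfl

theorem S4.two (h : S4 s) : (2 : F) = 0 := by
  exact_mod_cast UnitaryImageFields.cast_char (k := 2) Nat.prime_two h.card'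

theorem S4.cube (h : S4 s) : s ^ 3 = 1 := by
  linear_combination (s + 1) * h.sq + s * h.two

/-- Powers of the cube root. -/
def ex (s : F) (a : ZMod 3) : F := s ^ a.val

theorem ex_zero : ex s 0 = 1 := pow_zero _

theorem ex_one : ex s 1 = s := pow_one _

theorem ex_two : ex s 2 = s ^ 2 := rfl

theorem ex_add (h : S4 s) (a b : ZMod 3) : ex s (a + b) = ex s a * ex s b := by
  rw [ex, ex, ex, ← pow_add, ZMod.val_add]
  exact (pow_eq_pow_mod (a.val + b.val) h.cube).symm

theorem ex_ne_zero (h : S4 s) (a : ZMod 3) : ex s a ≠ 0 := by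
  refine pow_ne_zero _ fun h0 => ?_
  have := h.cube
  rw [h0] at this
  simp at this

theorem S4.ne_zero (h : S4 s) : s ≠ 0 := fun h0 => by
  have := h.cube; rw [h0] at this; simp at this

theorem S4.ne_one (h : S4 s) : s ≠ 1 := fun h1 => by
  have := h.sq
  rw [h1] at this
  exact one_ne_zero (α := F) (by linear_combination this + h.two)

theorem ex_eq_one (h : S4 s) {a : ZMod 3} (ha : ex s a = 1) : a = 0 := by
  rcases (show a = 0 ∨ a = 1 ∨ a = 2 by clear ha; revert a; decide) with rfl | rfl | rfl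
  · rfl
  · exact absurd (ex_one.symm.trans ha) h.ne_one
  · rw [ex_two] at ha
    exact absurd (show s = 0 by linear_combination ha - h.sq) h.ne_zero

theorem ex_injective (h : S4 s) : Function.Injective (ex s) := fun a b hab => by
  refine sub_eq_zero.1 (ex_eq_one h (mul_right_cancel₀ (ex_ne_zero h b) ?_))
  rw [← ex_add h, sub_add_cancel, one_mul, hab]

theorem exists_ex (h : S4 s) {x : F} (hx : x ≠ 0) : ∃ a, x = ex s a := by
  have h3 : x ^ 3 = 1 := by
    have := FiniteField.pow_card_sub_one_eq_one x hx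
    rwa [h.card] at this
  have : (x - 1) * ((x - s) * (x - s ^ 2)) = 0 := by
    linear_combination h3 - x ^ 2 * h.sq + x * h.cube + x * h.sq - h.cube +
      (-(s + 1) * x ^ 2 + (s + 1) * x) * h.two
  rcases mul_eq_zero.1 this with h' | h'
  · exact ⟨0, by rw [ex_zero]; exact sub_eq_zero.1 h'⟩
  rcases mul_eq_zero.1 h' with h'' | h''
  · exact ⟨1, by rw [ex_one]; exact sub_eq_zero.1 h''⟩
  · exact ⟨2, by rw [ex_two]; exact sub_eq_zero.1 h''⟩

theorem ex_cube (h : S4 s) (a : ZMod 3) : ex s a ^ 3 = 1 := by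
  rw [ex, ← pow_mul, mul_comm, pow_mul, h.cube, one_pow]

theorem ex_sum (h : S4 s) {ι : Type*} (t : Finset ι) (d : ι → ZMod 3) :
    ∏ i ∈ t, ex s (d i) = ex s (∑ i ∈ t, d i) := by
  classical
  induction t using Finset.induction with
  | empty => simp [ex_zero]
  | insert a t ha ih => rw [Finset.prod_insert ha, Finset.sum_insert ha, ih, ex_add h]

/-- Three cube roots of unity add to zero only if the sum of their exponents vanishes. -/
theorem sum_three (h : S4 s) {a b c : ZMod 3} (he : ex s a + ex s b + ex s c = 0) :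
    a + b + c = 0 := by
  have hb : ex s a * ex s (b - a) = ex s b := by rw [← ex_add h, add_sub_cancel]
  have hc : ex s a * ex s (c - a) = ex s c := by rw [← ex_add h, add_sub_cancel]
  have h1 : 1 + ex s (b - a) + ex s (c - a) = 0 := mul_left_cancel₀ (ex_ne_zero h a) (by
    rw [mul_zero, ← he, ← hb, ← hc]; ring)
  rcases (show b - a = 0 ∨ b - a = 1 ∨ b - a = 2 by generalize b - a = x; revert x; decide)
    with hx | hx | hx <;> rw [hx] at h1
  · rw [ex_zero] at h1
    exact absurd (show ex s (c - a) = 0 by linear_combination h1 - h.two) (ex_ne_zero h _)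
  · rw [ex_one] at h1
    have := ex_injective h (show ex s (c - a) = ex s 2 by
      rw [ex_two]; linear_combination h1 - h.sq - (1 + s) * h.two)
    have e : a + b + c = 3 * a + ((b - a) + (c - a)) := by ring
    rw [e, hx, this]; generalize a = x; revert x; decide
  · rw [ex_two] at h1
    have := ex_injective h (show ex s (c - a) = ex s 1 by
      rw [ex_one]; linear_combination h1 - h.sq - (1 + s) * h.two)
    have e : a + b + c = 3 * a + ((b - a) + (c - a)) := by ring
    rw [e, hx, this]; generalize a = x; revert x; decide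

/-- An entry of a special unitary matrix. -/
def entry (g : SU 6 F 2) (i j : Fin 6) : F :=
  (g.1 : Matrix (Fin 6) (Fin 6) F) i j

theorem entry_ext {g g' : SU 6 F 2} (hgg : ∀ i j, entry g i j = entry g' i j) : g = g' :=
  Subtype.ext (Subtype.ext (Matrix.ext hgg))

theorem entry_mul (g g' : SU 6 F 2) (i j : Fin 6) :
    entry (g * g') i j = ∑ k, entry g i k * entry g' k j := by
  rw [entry, Subgroup.coe_mul, Matrix.SpecialLinearGroup.coe_mul, Matrix.mul_apply]; rfl

theorem entry_one (i j : Fin 6) : entry (1 : SU 6 F 2) i j = if i = j then 1 else 0 := by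
  rw [entry, Subgroup.coe_one, Matrix.SpecialLinearGroup.coe_one, Matrix.one_apply]

/-- `g` is monomial with permutation `π` and exponents `d`. -/
def IsM (s : F) (g : SU 6 F 2) (π : Equiv.Perm (Fin 6)) (d : Fin 6 → ZMod 3) : Prop :=
  ∀ i j, entry g i j = if i = π j then ex s (d j) else 0

theorem IsM.mul (h : S4 s) {g g' : SU 6 F 2} {π σ : Equiv.Perm (Fin 6)} {d e : Fin 6 → ZMod 3}
    (hg : IsM s g π d) (hg' : IsM s g' σ e) :
    IsM s (g * g') (π * σ) (fun j => d (σ j) + e j) := by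
  intro i j
  rw [entry_mul, Finset.sum_eq_single (σ j)]
  · rw [hg, hg', if_pos rfl, ex_add h, Equiv.Perm.mul_apply]
    split <;> ring
  · intro k _ hk
    rw [hg' k j, if_neg hk, mul_zero]
  · exact fun hh => absurd (Finset.mem_univ _) hh

theorem IsM.one : IsM s (1 : SU 6 F 2) 1 0 := by
  intro i j
  rw [entry_one, Equiv.Perm.one_apply, Pi.zero_apply, ex_zero]

theorem IsM.eq {g g' : SU 6 F 2} {π : Equiv.Perm (Fin 6)} {d : Fin 6 → ZMod 3}
    (hg : IsM s g π d) (hg' : IsM s g' π d) : g = g' :=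
  entry_ext fun i j => (hg i j).trans (hg' i j).symm

theorem IsM.perm_unique (h : S4 s) {g : SU 6 F 2} {π σ : Equiv.Perm (Fin 6)}
    {d e : Fin 6 → ZMod 3} (hg : IsM s g π d) (hg' : IsM s g σ e) : π = σ ∧ d = e := by
  have hp : ∀ j, π j = σ j := fun j => by
    by_contra hne
    have := (hg (π j) j).symm.trans (hg' (π j) j)
    rw [if_pos rfl, if_neg hne] at this
    exact ex_ne_zero h _ this
  refine ⟨Equiv.ext hp, funext fun j => ex_injective h ?_⟩
  have := (hg (π j) j).symm.trans (hg' (π j) j)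
  rwa [if_pos rfl, if_pos (hp j)] at this

theorem sign_cast (h : S4 s) (π : Equiv.Perm (Fin 6)) : ((Equiv.Perm.sign π : ℤˣ) : F) = 1 := by
  rcases Int.units_eq_one_or (Equiv.Perm.sign π) with hs | hs <;> rw [hs] <;> simp
  linear_combination -h.two

theorem IsM.matrix {g : SU 6 F 2} {π : Equiv.Perm (Fin 6)} {d : Fin 6 → ZMod 3}
    (hg : IsM s g π d) :
    (g.1 : Matrix (Fin 6) (Fin 6) F) = monMat π⁻¹ (fun j => ex s (d j)) := by
  ext i j
  have := hg i j
  rw [entry] at this
  rw [this, monMat, Matrix.mul_diagonal, Equiv.Perm.permMatrix, PEquiv.toMatrix_apply]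
  by_cases hc : i = π j
  · simp [hc]
  · have : π⁻¹ i ≠ j := fun e => hc (by rw [← e]; simp)
    simp [hc, this, Ne.symm this, Equiv.eq_symm_apply, Equiv.symm_apply_eq]

theorem IsM.sum_eq_zero (h : S4 s) {g : SU 6 F 2} {π : Equiv.Perm (Fin 6)} {d : Fin 6 → ZMod 3}
    (hg : IsM s g π d) : ∑ i, d i = 0 := by
  have hd : (g.1 : Matrix (Fin 6) (Fin 6) F).det = 1 := g.1.2
  rw [hg.matrix, det_monMat, sign_cast h, one_mul, ex_sum h, ← ex_zero (s := s)] at hd
  exact ex_injective h hd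

theorem exists_isM (h : S4 s) (π : Equiv.Perm (Fin 6)) {d : Fin 6 → ZMod 3} (hd : ∑ i, d i = 0) :
    ∃ g : SU 6 F 2, IsM s g π d := by
  have hdet : (monMat π⁻¹ (fun j => ex s (d j))).det = 1 := by
    rw [det_monMat, sign_cast h, one_mul, ex_sum h, hd, ex_zero]
  have hu : IsU 2 (monMat π⁻¹ (fun j => ex s (d j))) := isU_monMat _ fun j => ex_cube h _
  refine ⟨mkSU _ hdet hu, fun i j => ?_⟩
  show (monMat π⁻¹ fun j => ex s (d j)) i j = _
  rw [monMat, Matrix.mul_diagonal, Equiv.Perm.permMatrix, PEquiv.toMatrix_apply]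
  by_cases hc : i = π j
  · simp [hc]
  · have : π⁻¹ i ≠ j := fun e => hc (by rw [← e]; simp)
    simp [hc, this, Ne.symm this, Equiv.eq_symm_apply, Equiv.symm_apply_eq]

theorem IsM.inv (h : S4 s) {g : SU 6 F 2} {π : Equiv.Perm (Fin 6)} {d : Fin 6 → ZMod 3}
    (hg : IsM s g π d) : IsM s g⁻¹ π⁻¹ (fun j => -d (π⁻¹ j)) := by
  obtain ⟨g', hg'⟩ := exists_isM h π⁻¹ (d := fun j => -d (π⁻¹ j)) (by
    rw [Finset.sum_neg_distrib, Equiv.sum_comp π⁻¹ d, hg.sum_eq_zero h, neg_zero])
  have hm := hg.mul h hg'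
  have h1 : g * g' = 1 := IsM.eq (by simpa [← Pi.zero_def] using hm) IsM.one
  rwa [← mul_eq_one_iff_eq_inv'.1 h1]

theorem IsM.conj_eq (h : S4 s) {g e : SU 6 F 2} {π : Equiv.Perm (Fin 6)}
    {d c : Fin 6 → ZMod 3} (hg : IsM s g π d) (he : IsM s e 1 c) :
    IsM s (g * e * g⁻¹) 1 (fun j => c (π⁻¹ j)) := by
  have := (hg.mul h he).mul h (hg.inv h)
  convert this using 1
  · simp
  · funext j; simp

/-- The monomial subgroup. -/
def Mon (h : S4 s) : Subgroup (SU 6 F 2) where
  carrier := {g | ∃ π d, IsM s g π d}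
  one_mem' := ⟨1, 0, IsM.one⟩
  mul_mem' := fun ⟨_, _, ha⟩ ⟨_, _, hb⟩ => ⟨_, _, ha.mul h hb⟩
  inv_mem' := fun ⟨_, _, ha⟩ => ⟨_, _, ha.inv h⟩

/-- The diagonal subgroup. -/
def E (h : S4 s) : Subgroup (SU 6 F 2) where
  carrier := {g | ∃ d, IsM s g 1 d}
  one_mem' := ⟨0, IsM.one⟩
  mul_mem' := fun ⟨_, ha⟩ ⟨_, hb⟩ => ⟨_, by simpa using ha.mul h hb⟩
  inv_mem' := fun ⟨_, ha⟩ => ⟨_, by simpa using ha.inv h⟩

/-- The first three-cycle. -/
def ca : Equiv.Perm (Fin 6) := Equiv.swap 0 1 * Equiv.swap 1 2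

/-- The second three-cycle. -/
def cb : Equiv.Perm (Fin 6) := Equiv.swap 3 4 * Equiv.swap 4 5

/-- The group generated by the two three-cycles, as their centraliser. -/
def P9 : Subgroup (Equiv.Perm (Fin 6)) := Subgroup.centralizer {ca, cb}

theorem mem_P9 {π : Equiv.Perm (Fin 6)} : π ∈ P9 ↔ ca * π = π * ca ∧ cb * π = π * cb := by
  simp [P9, Subgroup.mem_centralizer_iff]

instance : DecidablePred (· ∈ P9) := fun _ => decidable_of_iff _ mem_P9.symm

/-- The Sylow 3-subgroup. -/
def T (h : S4 s) : Subgroup (SU 6 F 2) where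
  carrier := {g | ∃ π ∈ P9, ∃ d, IsM s g π d}
  one_mem' := ⟨1, one_mem _, 0, IsM.one⟩
  mul_mem' := fun ⟨_, hp, _, ha⟩ ⟨_, hq, _, hb⟩ => ⟨_, mul_mem hp hq, _, ha.mul h hb⟩
  inv_mem' := fun ⟨_, hp, _, ha⟩ => ⟨_, inv_mem hp, _, ha.inv h⟩

theorem E_le_T (h : S4 s) : E h ≤ T h := fun _ ⟨d, hd⟩ => ⟨1, one_mem _, d, hd⟩

theorem E_le_Mon (h : S4 s) : E h ≤ Mon h := fun _ ⟨d, hd⟩ => ⟨1, d, hd⟩

theorem T_le_Mon (h : S4 s) : T h ≤ Mon h := fun _ ⟨π, _, d, hd⟩ => ⟨π, d, hd⟩

theorem E_comm (h : S4 s) {a b : SU 6 F 2} (ha : a ∈ E h) (hb : b ∈ E h) : a * b = b * a := by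
  obtain ⟨d, hd⟩ := ha
  obtain ⟨e, he⟩ := hb
  refine IsM.eq (hd.mul h he) ?_
  convert he.mul h hd using 1
  funext j; simp [add_comm]

/-- Six exponents with vanishing sum from the first five. -/
def ext6 (c : Fin 5 → ZMod 3) : Fin 6 → ZMod 3 :=
  fun i => if hi : (i : ℕ) < 5 then c ⟨i, hi⟩ else -(∑ k, c k)

theorem sum_ext6 (c : Fin 5 → ZMod 3) : ∑ i, ext6 c i = 0 := by
  rw [Fin.sum_univ_castSucc]
  simp [ext6]

theorem ext6_injective : Function.Injective ext6 := fun c c' hc => funext fun k => by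
  have := congrFun hc k.castSucc
  simpa [ext6] using this

theorem exists_ext6 {d : Fin 6 → ZMod 3} (hd : ∑ i, d i = 0) : ∃ c, ext6 c = d := by
  refine ⟨fun k => d k.castSucc, funext fun i => ?_⟩
  unfold ext6
  split
  · rfl
  · rename_i hi
    have : i = Fin.last 5 := Fin.ext (by simp only [Fin.val_last]; omega)
    rw [Fin.sum_univ_castSucc, add_eq_zero_iff_eq_neg] at hd
    rw [this, hd, neg_neg]

theorem card_T (h : S4 s) : Nat.card (T h) = 2187 := by
  have hc : Fintype.card (P9 × (Fin 5 → ZMod 3)) = 2187 := by decide +kernel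
  rw [← hc, ← Nat.card_eq_fintype_card]
  symm
  have hex : ∀ p : P9 × (Fin 5 → ZMod 3), ∃ g : T h, IsM s g.1 p.1.1 (ext6 p.2) := fun p => by
    obtain ⟨g, hg⟩ := exists_isM h p.1.1 (sum_ext6 p.2)
    exact ⟨⟨g, _, p.1.2, _, hg⟩, hg⟩
  choose f hf using hex
  refine Nat.card_eq_of_bijective f ⟨fun p q hpq => ?_, fun g => ?_⟩
  · obtain ⟨h1, h2⟩ := (hf p).perm_unique h (by rw [hpq]; exact hf q)
    exact Prod.ext (Subtype.ext h1) (ext6_injective h2)
  · obtain ⟨g, π, hπ, d, hd⟩ := g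
    obtain ⟨c, hc'⟩ := exists_ext6 (hd.sum_eq_zero h)
    refine ⟨(⟨π, hπ⟩, c), Subtype.ext (IsM.eq (hf _) ?_)⟩
    exact hc' ▸ hd

theorem card_E (h : S4 s) : Nat.card (E h) = 243 := by
  have hc : Fintype.card (Fin 5 → ZMod 3) = 243 := by simp
  rw [← hc, ← Nat.card_eq_fintype_card]
  symm
  have hex : ∀ c : Fin 5 → ZMod 3, ∃ g : E h, IsM s g.1 1 (ext6 c) := fun c => by
    obtain ⟨g, hg⟩ := exists_isM h 1 (sum_ext6 c)
    exact ⟨⟨g, _, hg⟩, hg⟩
  choose f hf using hex
  refine Nat.card_eq_of_bijective f ⟨fun p q hpq => ?_, fun g => ?_⟩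
  · exact ext6_injective ((hf p).perm_unique h (by rw [hpq]; exact hf q)).2
  · obtain ⟨g, d, hd⟩ := g
    obtain ⟨c, hc'⟩ := exists_ext6 (hd.sum_eq_zero h)
    refine ⟨c, Subtype.ext (IsM.eq (hf _) ?_)⟩
    exact hc' ▸ hd

theorem card_G (h : S4 s) : Nat.card (SU 6 F 2) = 27590492160 := by
  have h1 := card_GU_eq_mul_card_SU (n := 6) h.card' (by norm_num)
  have h2 := card_PSU_mul (n := 6) h.card' (by norm_num)
  rw [UnitaryImageFields.card_PSU62 h.card] at h2
  norm_num at h1 h2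
  omega

theorem mem_center_of_const (h : S4 s) {g : SU 6 F 2} {c : ZMod 3}
    (hg : IsM s g 1 (fun _ => c)) : g ∈ Subgroup.center (SU 6 F 2) := by
  rw [Subgroup.mem_center_iff]
  intro x
  refine entry_ext fun i j => ?_
  rw [entry_mul, entry_mul, Finset.sum_eq_single j, Finset.sum_eq_single i]
  · rw [hg i i, hg j j, Equiv.Perm.one_apply, if_pos rfl, Equiv.Perm.one_apply, if_pos rfl,
      mul_comm]
  · intro k _ hk; rw [hg i k, Equiv.Perm.one_apply, if_neg (Ne.symm hk), zero_mul]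
  · exact fun hh => absurd (Finset.mem_univ _) hh
  · intro k _ hk; rw [hg k j, Equiv.Perm.one_apply, if_neg hk, mul_zero]
  · exact fun hh => absurd (Finset.mem_univ _) hh

theorem center_const (h : S4 s) {g : SU 6 F 2} (hg : g ∈ Subgroup.center (SU 6 F 2)) :
    ∃ c, IsM s g 1 (fun _ => c) := by
  have hs := center_SU_scalar (n := 6) h.card' (by norm_num) hg
  have h0 : entry g 0 0 ≠ 0 := fun h0 => by
    have hd : (g.1 : Matrix (Fin 6) (Fin 6) F).det = 1 := g.1.2
    rw [Matrix.det_eq_zero_of_row_eq_zero 0 (fun j => by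
      rw [hs 0 j]; split
      · exact h0
      · rfl)] at hd
    exact zero_ne_one hd
  obtain ⟨c, hc⟩ := exists_ex h h0
  refine ⟨c, fun i j => ?_⟩
  rw [entry, hs i j, Equiv.Perm.one_apply, ← hc]
  rfl

theorem center_le_E (h : S4 s) : Subgroup.center (SU 6 F 2) ≤ E h := fun _ hg => by
  obtain ⟨c, hc⟩ := center_const h hg
  exact ⟨_, hc⟩

theorem card_center (h : S4 s) : Nat.card (Subgroup.center (SU 6 F 2)) = 3 := by
  rw [card_center_SU (n := 6) h.card' (by norm_num)]; rfl

/-- The differences along `π` are constant. -/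
def CondU (π : Equiv.Perm (Fin 6)) (d : Fin 6 → ZMod 3) : Prop :=
  ∀ x, d (π x) - d x = d (π 0) - d 0

instance (π : Equiv.Perm (Fin 6)) (d : Fin 6 → ZMod 3) : Decidable (CondU π d) :=
  inferInstanceAs (Decidable (∀ _, _))

theorem condU_one : ∀ π : Equiv.Perm (Fin 6), π ∈ P9 → π ≠ 1 →
    (Finset.univ.filter fun c : Fin 5 → ZMod 3 => CondU π (ext6 c)).card ≤ 27 := by
  decide +kernel

theorem condU_both : (Finset.univ.filter fun c : Fin 5 → ZMod 3 =>
    CondU ca (ext6 c) ∧ CondU cb (ext6 c)).card ≤ 9 := by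
  decide +kernel

theorem card_P9 : Fintype.card P9 = 9 := by decide +kernel

/-- A subgroup of the Sylow subgroup of the size of `E` with central commutators is `E`. -/
theorem eq_E (h : S4 s) {A : Subgroup (SU 6 F 2)} (hA : A ≤ T h) (hcard : Nat.card A = 243)
    (hcomm : ∀ a ∈ A, ∀ b ∈ A, a * b * a⁻¹ * b⁻¹ ∈ Subgroup.center (SU 6 F 2)) : A = E h := by
  classical
  by_cases hle : A ≤ E h
  · exact Subgroup.eq_of_le_of_card_ge hle (by rw [card_E h, hcard])
  exfalso
  have hex : ∀ a : A, ∃ π : Equiv.Perm (Fin 6), π ∈ P9 ∧ ∃ d, IsM s a.1 π d := fun a => by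
    obtain ⟨π, hπ, d, hd⟩ := hA a.2
    exact ⟨π, hπ, d, hd⟩
  choose p hp dd hdd using hex
  let ψ : A →* P9 := MonoidHom.mk' (fun a => ⟨p a, hp a⟩) fun a b =>
    Subtype.ext ((hdd (a * b)).perm_unique h ((hdd a).mul h (hdd b))).1
  have hker : ∀ a : A, a ∈ ψ.ker ↔ p a = 1 := fun a => by
    rw [MonoidHom.mem_ker, Subtype.ext_iff]; rfl
  have hmul : Nat.card ψ.ker * Nat.card ψ.range = 243 := by
    rw [← Subgroup.index_ker ψ, Subgroup.card_mul_index, hcard]
  have hcond : ∀ (k : ψ.ker) (a : A), CondU (p a) (dd k.1) := fun k a => by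
    have hk : IsM s k.1.1 1 (dd k.1) := by
      have := hdd k.1
      rwa [(hker k.1).1 k.2] at this
    obtain ⟨c, hc⟩ := center_const h (hcomm _ (inv_mem a.2) _ k.1.2)
    have h1 := (((hdd a).inv h).conj_eq h hk).mul h (hk.inv h)
    obtain ⟨-, h2⟩ := h1.perm_unique h hc
    intro x
    have hx := congrFun h2 x
    have h0 := congrFun h2 0
    simp only [inv_inv, inv_one, Equiv.Perm.one_apply] at hx h0
    rw [sub_eq_add_neg, sub_eq_add_neg, hx, h0]
  have hkinj : ∀ k k' : ψ.ker, dd k.1 = dd k'.1 → k = k' := fun k k' he => by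
    refine Subtype.ext (Subtype.ext (IsM.eq (s := s) (π := 1) (d := dd k.1) ?_ ?_))
    · have := hdd k.1; rwa [(hker k.1).1 k.2] at this
    · have := hdd k'.1; rw [(hker k'.1).1 k'.2] at this; exact he ▸ this
  choose cc hcc using fun k : ψ.ker => exists_ext6 ((hdd k.1).sum_eq_zero h)
  have hbound : ∀ (Q : (Fin 5 → ZMod 3) → Prop) [DecidablePred Q], (∀ k, Q (cc k)) →
      Nat.card ψ.ker ≤ (Finset.univ.filter Q).card := fun Q _ hQ => by
    rw [← Nat.card_eq_finsetCard]
    refine Nat.card_le_card_of_injective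
      (fun k => (⟨cc k, by simp [hQ k]⟩ : ↥(Finset.univ.filter Q))) fun k k' he => hkinj k k' ?_
    rw [← hcc k, ← hcc k', show cc k = cc k' from congrArg Subtype.val he]
  obtain ⟨a, ha, hane⟩ := Set.not_subset.1 hle
  have hpa : p ⟨a, ha⟩ ≠ 1 := fun h1 => hane ⟨dd ⟨a, ha⟩, by
    have := hdd ⟨a, ha⟩; rwa [h1] at this⟩
  have h27 := (hbound _ fun k => by rw [hcc k]; exact hcond k ⟨a, ha⟩).trans
    (condU_one _ (hp ⟨a, ha⟩) hpa)
  have hP : Nat.card P9 = 9 := by rw [Nat.card_eq_fintype_card, card_P9]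
  have h9 : Nat.card ψ.range ≤ 9 := hP ▸ Subgroup.card_le_card_group _
  have htop : ψ.range = ⊤ := Subgroup.eq_top_of_card_eq _ (by
    rw [hP]
    refine le_antisymm h9 ?_
    by_contra hlt
    have := Nat.mul_le_mul h27 (show Nat.card ψ.range ≤ 8 by omega)
    omega)
  have hsur : ∀ π ∈ P9, ∃ a : A, p a = π := fun π hπ => by
    obtain ⟨a, ha⟩ := (htop ▸ Subgroup.mem_top (⟨π, hπ⟩ : P9) : (⟨π, hπ⟩ : P9) ∈ ψ.range)
    exact ⟨a, congrArg Subtype.val ha⟩
  obtain ⟨a1, h1⟩ := hsur ca (by decide)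
  obtain ⟨a2, h2⟩ := hsur cb (by decide)
  have h81 := (hbound _ fun k => by
    rw [hcc k]; exact ⟨h1 ▸ hcond k a1, h2 ▸ hcond k a2⟩).trans condU_both
  have := Nat.mul_le_mul h81 h9
  omega

/-- An element normalising the diagonal subgroup is monomial. -/
theorem mem_Mon_of_normalizes (h : S4 s) {g : SU 6 F 2}
    (hg : ∀ e ∈ E h, g * e * g⁻¹ ∈ E h) : g ∈ Mon h := by
  classical
  have hone : ∀ r j k, entry g r j ≠ 0 → entry g r k ≠ 0 → j = k := by
    intro r j k hj hk
    by_contra hjk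
    let d : Fin 6 → ZMod 3 := fun x => if x = j then 1 else if x = k then 2 else 0
    have hd : ∑ x, d x = 0 := by
      clear hj hk
      revert hjk
      simp only [d]
      clear d
      revert j k
      decide
    obtain ⟨e, he⟩ := exists_isM h 1 hd
    obtain ⟨d', hd'⟩ := hg e ⟨d, he⟩
    have key : ∀ x, entry g r x * ex s (d x) = ex s (d' r) * entry g r x := fun x => by
      have h1 : entry (g * e) r x = entry g r x * ex s (d x) := by
        rw [entry_mul, Finset.sum_eq_single x]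
        · rw [he x x, Equiv.Perm.one_apply, if_pos rfl]
        · intro y _ hy; rw [he y x, Equiv.Perm.one_apply, if_neg hy, mul_zero]
        · exact fun hh => absurd (Finset.mem_univ _) hh
      rw [← h1, show g * e = g * e * g⁻¹ * g by group, entry_mul, Finset.sum_eq_single r]
      · rw [hd' r r, Equiv.Perm.one_apply, if_pos rfl]
      · intro y _ hy; rw [hd' r y, Equiv.Perm.one_apply, if_neg (Ne.symm hy), zero_mul]
      · exact fun hh => absurd (Finset.mem_univ _) hh
    have e1 : d j = d' r := ex_injective h (mul_left_cancel₀ hj ((key j).trans (mul_comm _ _)))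
    have e2 : d k = d' r := ex_injective h (mul_left_cancel₀ hk ((key k).trans (mul_comm _ _)))
    rw [← e2] at e1
    simp only [d, if_true, if_neg (Ne.symm hjk)] at e1
    exact absurd e1 (by decide)
  have hdet : (g.1 : Matrix (Fin 6) (Fin 6) F).det ≠ 0 := by rw [g.1.2]; exact one_ne_zero
  have hrow : ∀ r, ∃ j, entry g r j ≠ 0 := fun r => by
    by_contra hh
    push_neg at hh
    exact hdet (Matrix.det_eq_zero_of_row_eq_zero r hh)
  choose col hcol using hrow
  have hsurj : Function.Surjective col := fun j => by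
    by_contra hh
    push_neg at hh
    refine hdet (Matrix.det_eq_zero_of_column_eq_zero j fun r => ?_)
    by_contra hne
    exact hh r (hone r _ _ (hcol r) hne)
  let ρ : Equiv.Perm (Fin 6) := Equiv.ofBijective col
    ⟨Finite.injective_iff_surjective.2 hsurj, hsurj⟩
  choose d hd using fun j => exists_ex h (show entry g (ρ⁻¹ j) j ≠ 0 by
    have h1 := hcol (ρ⁻¹ j)
    rwa [show col (ρ⁻¹ j) = j from ρ.apply_symm_apply j] at h1)
  refine ⟨ρ⁻¹, d, fun i j => ?_⟩
  by_cases hij : i = ρ⁻¹ j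
  · rw [if_pos hij, hij, hd]
  · rw [if_neg hij]
    by_contra hne
    exact hij (Equiv.Perm.eq_inv_iff_eq.2 (hone i (col i) j (hcol i) hne))

/-- A subgroup of half of the symmetric group contains all squares. -/
theorem sq_mem_of_360 {H : Subgroup (Equiv.Perm (Fin 6))} (hH : 360 ≤ Nat.card H)
    (π : Equiv.Perm (Fin 6)) : π ^ 2 ∈ H := by
  have h720 : Nat.card (Equiv.Perm (Fin 6)) = 720 := by
    rw [Nat.card_eq_fintype_card, Fintype.card_perm]; rfl
  have hm := H.index_mul_card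
  rw [h720] at hm
  have hle : H.index ≤ 2 := by nlinarith
  have hne : H.index ≠ 0 := Subgroup.index_ne_zero_of_finite
  rcases (show H.index = 1 ∨ H.index = 2 by omega) with h1 | h2
  · rw [Subgroup.index_eq_one.1 h1]; exact Subgroup.mem_top _
  · exact Subgroup.sq_mem_of_index_two h2 π

end Cfsg.Agent.U62Mon93
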