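import Mathlib
import Cfsg.Agent.Lib.U62Mon93

/-!
An orthogonal module over two elements with a fixed point free isometry of order three is the
six-dimensional unitary space over four elements, in an orthonormal basis.
-/

set_option autoImplicit false
set_option linter.unusedSectionVars false

namespace Cfsg.Agent.LFForm89

open Cfsg Cfsg.Agent.U62Mon93
open scoped Matrix

/-- The polar form. -/
def pol {V : Type*} [AddCommGroup V] (q : V → ZMod 2) (u v : V) : ZMod 2 := q (u + v) + q u + q v

/-- A twelve-dimensional orthogonal module with a fixed point free isometry of order three. -/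
structure Fx {V : Type*} [AddCommGroup V] (o : V →+ V) (q : V → ZMod 2) : Prop where
  two : ∀ v : V, v + v = 0
  card : Nat.card V = 4096
  rel : ∀ v, o (o v) + o v + v = 0
  addl : ∀ u v w, pol q (u + v) w = pol q u w + pol q v w
  nondeg : ∀ v, (∀ w, pol q v w = 0) → v = 0
  inv : ∀ v, q (o v) = q v

variable {V : Type*} [AddCommGroup V] {o : V →+ V} {q : V → ZMod 2}

theorem z2 (a : ZMod 2) : a + a = 0 := by revert a; decide

theorem pol_comm (u v : V) : pol q u v = pol q v u := by
  simp only [pol, add_comm u v]; ring

namespace Fx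

variable (H : Fx o q)
include H

theorem addr (u v w : V) : pol q w (u + v) = pol q w u + pol q w v := by
  rw [pol_comm, H.addl, pol_comm u, pol_comm v]

theorem pol_zero_left (w : V) : pol q 0 w = 0 := by
  have := H.addl 0 0 w
  rw [add_zero] at this
  exact add_eq_left.1 this.symm

theorem pol_zero_right (w : V) : pol q w 0 = 0 := by rw [pol_comm]; exact H.pol_zero_left w

theorem q_zero : q 0 = 0 := by
  have := H.pol_zero_left 0
  simp only [pol, add_zero] at this
  rwa [z2, zero_add] at this

theorem q_add (u v : V) : q (u + v) = q u + q v + pol q u v := by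
  simp only [pol]
  calc q (u + v) = q (u + v) + (q u + q u) + (q v + q v) := by rw [z2, z2, add_zero, add_zero]
    _ = _ := by ring

theorem pol_o (u v : V) : pol q (o u) (o v) = pol q u v := by
  simp only [pol, ← map_add, H.inv]

theorem o_two (v : V) : o (o v) = o v + v := by
  have h := eq_neg_of_add_eq_zero_left (show o (o v) + (o v + v) = 0 by rw [← add_assoc]; exact H.rel v)
  rwa [neg_eq_of_add_eq_zero_left (H.two (o v + v))] at h

theorem o_three (v : V) : o (o (o v)) = v := by
  rw [H.o_two (o v), H.o_two v, add_comm (o v) v, add_assoc, H.two, add_zero]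

theorem pol_self (v : V) : pol q v v = 0 := by
  simp only [pol, H.two v, H.q_zero, zero_add, z2]

theorem pol_o_self (v : V) : pol q (o v) v = q v := by
  simp only [pol, ← H.o_two, H.inv, z2, zero_add]

theorem exists_orth : ∀ k ≤ 6, ∃ e : Fin k → V, (∀ i, q (e i) = 1) ∧
    ∀ i j, i ≠ j → pol q (e i) (e j) = 0 ∧ pol q (o (e i)) (e j) = 0 := by
  haveI : Finite V := Nat.finite_of_card_ne_zero (by rw [H.card]; norm_num)
  intro k
  induction k with
  | zero => exact fun _ => ⟨Fin.elim0, fun i => i.elim0, fun i => i.elim0⟩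
  | succ k ih =>
    intro hk
    obtain ⟨e, h1, h2⟩ := ih (by omega)
    let L : V →+ (Fin k → ZMod 2 × ZMod 2) :=
      AddMonoidHom.mk' (fun w i => (pol q (e i) w, pol q (o (e i)) w)) fun a b => funext fun i =>
        Prod.ext (H.addr a b _) (H.addr a b _)
    have hnb : ∃ w, L w = 0 ∧ w ≠ 0 := by
      by_contra hno
      push Not at hno
      have hinj : Function.Injective L := (injective_iff_map_eq_zero L).2 fun w hw => hno w hw
      have := Nat.card_le_card_of_injective L hinj
      rw [H.card, Nat.card_fun, Nat.card_prod, Nat.card_zmod, Nat.card_fin] at this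
      have h4 : (2 * 2) ^ k ≤ (2 * 2) ^ 5 := Nat.pow_le_pow_right (by norm_num) (by omega)
      omega
    obtain ⟨w, hw, hq⟩ : ∃ w, L w = 0 ∧ q w = 1 := by
      by_contra hno
      push Not at hno
      have hq0 : ∀ w, L w = 0 → q w = 0 := fun w hw => by
        have := hno w hw
        generalize q w = a at this ⊢
        revert this; revert a; decide
      obtain ⟨w, hw, hw0⟩ := hnb
      refine hw0 (H.nondeg w fun x => ?_)
      have hself : ∀ i j, pol q (e i) (o (e j)) = if i = j then 1 else 0 := fun i j => by
        by_cases hij : i = j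
        · subst hij; rw [if_pos rfl, pol_comm, H.pol_o_self, h1]
        · rw [if_neg hij, pol_comm]; exact (h2 j i (Ne.symm hij)).2
      let term : Fin k → V := fun j =>
        (pol q (o (e j)) x).val • e j + (pol q (e j) x).val • o (e j)
      have hsum : ∀ (u : V) (t : Finset (Fin k)) (f : Fin k → V),
          pol q u (∑ j ∈ t, f j) = ∑ j ∈ t, pol q u (f j) := fun u t f => by
        classical
        induction t using Finset.induction_on with
        | empty => simp [H.pol_zero_right]
        | insert a t ha ih => rw [Finset.sum_insert ha, Finset.sum_insert ha, H.addr, ih]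
      have hnsmul : ∀ (u v : V) (a : ZMod 2), pol q u (a.val • v) = a * pol q u v := fun u v a => by
        rcases (show a = 0 ∨ a = 1 by revert a; decide) with rfl | rfl
        · simp [H.pol_zero_right]
        · simp [ZMod.val_one]
      have hx' : L (x + ∑ j, term j) = 0 := funext fun i => by
        refine Prod.ext ?_ ?_
        · show pol q (e i) _ = 0
          rw [H.addr, hsum, Finset.sum_eq_single i]
          · simp only [term, H.addr, hnsmul, H.pol_self, hself, if_pos, mul_zero, zero_add, mul_one,
              z2]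
          · intro j _ hji
            simp only [term, H.addr, hnsmul, hself, (h2 i j (Ne.symm hji)).1, mul_zero,
              if_neg (Ne.symm hji), add_zero]
          · exact fun hh => absurd (Finset.mem_univ i) hh
        · show pol q (o (e i)) _ = 0
          rw [H.addr, hsum, Finset.sum_eq_single i]
          · simp only [term, H.addr, hnsmul, H.pol_o_self, H.pol_self, h1, mul_zero, add_zero,
              mul_one, z2]
          · intro j _ hji
            simp only [term, H.addr, hnsmul, H.pol_o, (h2 i j (Ne.symm hji)).1,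
              (h2 i j (Ne.symm hji)).2, mul_zero, add_zero]
          · exact fun hh => absurd (Finset.mem_univ i) hh
      have hperp : ∀ v, L v = 0 → pol q w v = 0 := fun v hv => by
        have := hq0 (w + v) (by rw [map_add, hw, hv, add_zero])
        rw [H.q_add, hq0 w hw, hq0 v hv] at this
        simpa using this
      have h3 := hperp _ hx'
      rw [H.addr, hsum] at h3
      have hz : ∀ j, pol q w (term j) = 0 := fun j => by
        have hj := congrFun hw j
        rw [Prod.ext_iff] at hj
        simp only [term, H.addr, hnsmul, pol_comm w, show pol q (e j) w = 0 from hj.1,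
          show pol q (o (e j)) w = 0 from hj.2, mul_zero, add_zero]
      simpa [hz] using h3
    refine ⟨Fin.snoc e w, fun i => ?_, fun i j hij => ?_⟩
    · refine Fin.lastCases ?_ (fun i => ?_) i <;> simp [hq, h1]
    · have hj : ∀ j, pol q (e j) w = 0 ∧ pol q (o (e j)) w = 0 := fun j =>
        ⟨congrArg Prod.fst (congrFun hw j), congrArg Prod.snd (congrFun hw j)⟩
      revert hij
      refine Fin.lastCases ?_ (fun i => ?_) i <;> refine Fin.lastCases ?_ (fun j => ?_) j <;>
        intro hij <;> simp only [Fin.snoc_last, Fin.snoc_castSucc]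
      · exact absurd rfl hij
      · refine ⟨by rw [pol_comm]; exact (hj j).1, ?_⟩
        have h5 : pol q (o (o (e j))) w = 0 := by
          rw [H.o_two, H.addl, show pol q (o (e j)) w = 0 from (hj j).2,
            show pol q (e j) w = 0 from (hj j).1, add_zero]
        rw [← H.pol_o, ← H.pol_o, H.o_three, pol_comm]
        exact h5
      · exact ⟨(hj i).1, (hj i).2⟩
      · exact h2 i j fun hh => hij (by rw [hh])

end Fx

variable {F : Type} [Field F] [Fintype F] {s : F}

/-- A bit in the field. -/
def bit (a : ZMod 2) : F := if a = 0 then 0 else 1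

theorem bit_add (h : S4 s) (a b : ZMod 2) : bit (a + b) = (bit a + bit b : F) := by
  rcases (show (a = 0 ∨ a = 1) ∧ (b = 0 ∨ b = 1) by revert a b; decide) with ⟨rfl | rfl, rfl | rfl⟩ <;>
    simp [bit, show (1 : ZMod 2) + 1 = 0 from rfl, one_add_one_eq_two, h.two]

theorem bit_inj {a b : ZMod 2} (e : (bit a : F) = bit b) : a = b := by
  revert e
  rcases (show (a = 0 ∨ a = 1) ∧ (b = 0 ∨ b = 1) by revert a b; decide) with ⟨rfl | rfl, rfl | rfl⟩ <;>
    simp [bit]

/-- The trace to two elements. -/
def tr (x : F) : F := x + x ^ 2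

theorem tr_add (h : S4 s) (x y : F) : tr (x + y) = tr x + tr y := by
  simp only [tr]
  linear_combination x * y * h.two

theorem four (h : S4 s) (x : F) : x = 0 ∨ x = 1 ∨ s = x ∨ x = s + 1 := by
  by_cases h0 : x = 0
  · exact Or.inl h0
  obtain ⟨a, rfl⟩ := exists_ex h h0
  rcases (show a = 0 ∨ a = 1 ∨ a = 2 by clear h0; revert a; decide) with rfl | rfl | rfl
  · exact Or.inr (Or.inl ex_zero)
  · exact Or.inr (Or.inr (Or.inl ex_one.symm))
  · exact Or.inr (Or.inr (Or.inr (by rw [ex_two, h.sq])))

theorem tr_ext (h : S4 s) {a b : F} (h1 : tr a = tr b) (h2 : tr (s * a) = tr (s * b)) : a = b := by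
  have key : ∀ x : F, tr x = 0 → tr (s * x) = 0 → x = 0 := by
    intro x e1 e2
    simp only [tr] at e1 e2
    rcases four h x with rfl | rfl | rfl | rfl
    · rfl
    · exact absurd (show (1 : F) = 0 by linear_combination e2 - (h.sq) - s * h.two) one_ne_zero
    · exact absurd (show (1 : F) = 0 by linear_combination e1 - h.sq - s * h.two) one_ne_zero
    · exfalso
      refine one_ne_zero (α := F) ?_
      linear_combination e1 - h.sq - (2 * s + 1) * h.two
  have hz := key (a + b) (by rw [tr_add h, h1, ← two_mul, h.two, zero_mul])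
    (by rw [mul_add, tr_add h, h2, ← two_mul, h.two, zero_mul])
  linear_combination hz - b * h.two

open scoped Classical in
/-- A field element acting. -/
noncomputable def act (o : V →+ V) (s x : F) : V →+ V :=
  if x = 0 then 0 else if x = 1 then AddMonoidHom.id V else if x = s then o
    else o + AddMonoidHom.id V

theorem act_zero (o : V →+ V) (v : V) : act o s (0 : F) v = 0 := by simp [act]

theorem act_one (o : V →+ V) (v : V) : act o s (1 : F) v = v := by simp [act]

theorem act_s (h : S4 s) (o : V →+ V) (v : V) : act o s s v = o v := by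
  simp [act, h.ne_zero, h.ne_one]

theorem act_s1 (h : S4 s) (o : V →+ V) (v : V) : act o s (s + 1) v = o v + v := by
  have h0 : s + 1 ≠ 0 := fun e => h.ne_one (by linear_combination e - h.two)
  have h2 : s + 1 ≠ s := fun e => one_ne_zero (α := F) (by linear_combination e)
  simp [act, h0, h2, h.ne_zero]

theorem act_add (H : Fx o q) (h : S4 s) (x y : F) (v : V) :
    act o s (x + y) v = act o s x v + act o s y v := by
  have e11 : (1 : F) + 1 = 0 := by rw [one_add_one_eq_two]; exact h.two
  have ess : s + s = 0 := by rw [← two_mul, h.two, zero_mul]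
  have e1 : ∀ a b : V, a + (b + a) = b := fun a b => by rw [add_left_comm, H.two, add_zero]
  rcases four h x with rfl | rfl | rfl | rfl <;> rcases four h y with rfl | rfl | rfl | rfl
  all_goals
    simp only [zero_add, add_zero, act_zero, act_one, act_s h, act_s1 h, add_comm (1 : F) s,
      add_assoc, e11, ess, H.two, add_left_comm (1 : F) s, ← add_assoc s s]
  all_goals try simp only [e1, add_comm v (o v), add_left_comm v (o v), add_zero, zero_add, H.two]
  all_goals first
    | rfl
    | (rw [← add_assoc, H.two, zero_add])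
    | (abel_nf; simp [two_nsmul, two_zsmul, H.two])

theorem act_mul (H : Fx o q) (h : S4 s) (x y : F) (v : V) :
    act o s (x * y) v = act o s x (act o s y v) := by
  have e1 : s * s = s + 1 := by rw [← pow_two, h.sq]
  have e2 : s * (s + 1) = 1 := by linear_combination h.sq + s * h.two
  have e3 : (s + 1) * s = 1 := by linear_combination h.sq + s * h.two
  have e4 : (s + 1) * (s + 1) = s := by linear_combination h.sq + (s + 1) * h.two
  have e5 : ∀ w : V, 3 • w = w := fun w => by rw [succ_nsmul, two_nsmul, H.two, zero_add]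
  have e6 : ∀ w : V, (3 : ℤ) • w = w := fun w => by
    rw [show (3 : ℤ) = ((3 : ℕ) : ℤ) from rfl, natCast_zsmul, e5]
  rcases four h x with rfl | rfl | rfl | rfl <;> rcases four h y with rfl | rfl | rfl | rfl
  all_goals
    simp only [zero_mul, mul_zero, one_mul, mul_one, e1, e2, e3, e4, act_zero, act_one, act_s h,
      act_s1 h, map_zero, map_add, H.o_two, add_zero, zero_add]
  all_goals first
    | done
    | (abel_nf; simp [two_nsmul, two_zsmul, e5, e6, H.two])

theorem act_pol (H : Fx o q) (h : S4 s) {e : V} (he : q e = 1) (x y : F) :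
    (bit (pol q (act o s x e) (act o s y e)) : F) = tr (x * y ^ 2) := by
  have p1 : pol q e (o e) = 1 := by rw [pol_comm, H.pol_o_self, he]
  have p2 : pol q (o e) e = 1 := by rw [H.pol_o_self, he]
  have b1 : (bit (1 : ZMod 2) : F) = 1 := by simp [bit]
  have b0 : (bit (0 : ZMod 2) : F) = 0 := by simp [bit]
  have t0 : tr (0 : F) = 0 := by simp [tr]
  have t1 : tr (1 : F) = 0 := by rw [tr, one_pow, one_add_one_eq_two, h.two]
  have ts : tr s = 1 := by rw [tr, h.sq]; linear_combination s * h.two
  have tu : tr (s + 1) = 1 := by rw [tr]; linear_combination h.sq + (2 * s + 1) * h.two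
  have z0 : (0 : F) ^ 2 = 0 := zero_pow (by norm_num)
  have e1 : s * s = s + 1 := by rw [← pow_two, h.sq]
  have e2 : s * (s + 1) = 1 := by linear_combination h.sq + s * h.two
  have e3 : (s + 1) * s = 1 := by linear_combination h.sq + s * h.two
  have e4 : (s + 1) * (s + 1) = s := by linear_combination h.sq + (s + 1) * h.two
  have q4 : (s + 1) ^ 2 = s := by rw [pow_two, e4]
  rcases four h x with rfl | rfl | rfl | rfl <;> rcases four h y with rfl | rfl | rfl | rfl
  all_goals
    simp only [act_zero, act_one, act_s h, act_s1 h, H.pol_zero_left, H.pol_zero_right, H.addl,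
      H.addr, H.pol_self, p1, p2, add_zero, zero_add, z2, b0, b1, z0, one_pow, h.sq, q4, zero_mul,
      mul_zero, one_mul, mul_one, e1, e2, e3, e4, t0, t1, ts, tu]

theorem act_q (H : Fx o q) (h : S4 s) {e : V} (he : q e = 1) (x : F) :
    (bit (q (act o s x e)) : F) = x * x ^ 2 := by
  have b1 : (bit (1 : ZMod 2) : F) = 1 := by simp [bit]
  have b0 : (bit (0 : ZMod 2) : F) = 0 := by simp [bit]
  have hc : (s + 1) ^ 3 = 1 := by rw [← h.sq, ← pow_mul, mul_comm, pow_mul, h.cube, one_pow]
  rcases four h x with rfl | rfl | rfl | rfl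
  · rw [act_zero, H.q_zero, b0]; ring
  · rw [act_one, he, b1]; ring
  · rw [act_s h, H.inv, he, b1, ← pow_succ', h.cube]
  · rw [act_s1 h, ← H.o_two, H.inv, H.inv, he, b1, ← pow_succ', hc]

variable (o s) in
/-- The vector with given coordinates. -/
noncomputable def nu (e : Fin 6 → V) (v : Fin 6 → F) : V := ∑ i, act o s (v i) (e i)

/-- An orthonormal basis. -/
def Basis6 (o : V →+ V) (q : V → ZMod 2) (e : Fin 6 → V) : Prop :=
  (∀ i, q (e i) = 1) ∧ ∀ i j, i ≠ j → pol q (e i) (e j) = 0 ∧ pol q (o (e i)) (e j) = 0

variable (H : Fx o q) (h : S4 s) {e : Fin 6 → V} (he : Basis6 o q e)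
include H h

theorem nu_add (u v : Fin 6 → F) : nu o s e (u + v) = nu o s e u + nu o s e v := by
  simp only [nu, Pi.add_apply, act_add H h, Finset.sum_add_distrib]

theorem nu_smul (c : F) (v : Fin 6 → F) : nu o s e (c • v) = act o s c (nu o s e v) := by
  simp only [nu, Pi.smul_apply, smul_eq_mul, act_mul H h, map_sum]

theorem nu_single (j : Fin 6) : nu o s e (Pi.single j 1) = e j := by
  rw [nu, Finset.sum_eq_single j]
  · rw [Pi.single_eq_same, act_one]
  · intro i _ hij; rw [Pi.single_eq_of_ne hij, act_zero]
  · exact fun hh => absurd (Finset.mem_univ j) hh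

include he

theorem pol_act (x y : F) {i j : Fin 6} (hij : i ≠ j) :
    pol q (act o s x (e i)) (act o s y (e j)) = 0 := by
  obtain ⟨a, b⟩ := he.2 i j hij
  have c : pol q (e i) (o (e j)) = 0 := by rw [pol_comm]; exact (he.2 j i (Ne.symm hij)).2
  have d : pol q (o (e i)) (o (e j)) = 0 := by rw [H.pol_o]; exact a
  rcases four h x with rfl | rfl | rfl | rfl <;> rcases four h y with rfl | rfl | rfl | rfl <;>
    simp only [act_zero, act_one, act_s h, act_s1 h, H.pol_zero_left, H.pol_zero_right, H.addl,
      H.addr, a, b, c, d, add_zero]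

theorem pol_nu (u v : Fin 6 → F) :
    (bit (pol q (nu o s e u) (nu o s e v)) : F) = tr (hermForm 6 F 2 u v) := by
  classical
  let P : V →+ V →+ ZMod 2 := AddMonoidHom.mk' (fun a => AddMonoidHom.mk' (pol q a)
    fun b c => H.addr b c a) fun a b => AddMonoidHom.ext fun c => H.addl a b c
  have hP : pol q (nu o s e u) (nu o s e v) =
      ∑ i, pol q (act o s (u i) (e i)) (act o s (v i) (e i)) := by
    show P (nu o s e u) (nu o s e v) = _
    simp only [nu, map_sum, AddMonoidHom.finsetSum_apply]
    refine Finset.sum_congr rfl fun i _ => ?_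
    refine Finset.sum_eq_single i (fun j _ hji => ?_) fun hh => absurd (Finset.mem_univ i) hh
    exact pol_act H h he _ _ hji
  let β : ZMod 2 →+ F := AddMonoidHom.mk' bit (bit_add h)
  let τ : F →+ F := AddMonoidHom.mk' tr (tr_add h)
  rw [hP]
  show β (∑ i, _) = τ (∑ i, _)
  rw [map_sum, map_sum]
  exact Finset.sum_congr rfl fun i _ => act_pol H h (he.1 i) _ _

theorem q_nu (v : Fin 6 → F) : (bit (q (nu o s e v)) : F) = hermForm 6 F 2 v v := by
  classical
  have key : ∀ t : Finset (Fin 6), (∀ j ∉ t, pol q (∑ i ∈ t, act o s (v i) (e i))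
      (act o s (v j) (e j)) = 0) ∧
      (bit (q (∑ i ∈ t, act o s (v i) (e i))) : F) = ∑ i ∈ t, v i * v i ^ 2 := by
    intro t
    induction t using Finset.induction_on with
    | empty => exact ⟨fun j _ => by rw [Finset.sum_empty, H.pol_zero_left], by
        simp [H.q_zero, bit]⟩
    | insert a t ha ih =>
      refine ⟨fun j hj => ?_, ?_⟩
      · rw [Finset.mem_insert, not_or] at hj
        rw [Finset.sum_insert ha, H.addl, pol_act H h he _ _ (Ne.symm hj.1), ih.1 j hj.2, add_zero]
      · rw [Finset.sum_insert ha, H.q_add, pol_comm, ih.1 a ha, add_zero, bit_add h, ih.2,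
          act_q H h (he.1 a), Finset.sum_insert ha]
  exact (key Finset.univ).2

theorem nu_bijective : Function.Bijective (nu o s e) := by
  classical
  haveI : Finite V := Nat.finite_of_card_ne_zero (by rw [H.card]; norm_num)
  refine (Nat.bijective_iff_injective_and_card _).2 ⟨fun u v huv => ?_, ?_⟩
  · have hw : ∀ w, tr (hermForm 6 F 2 w u) = tr (hermForm 6 F 2 w v) := fun w => by
      rw [← pol_nu H h he, ← pol_nu H h he, huv]
    funext j
    have hj : ∀ c : F, ∀ x : Fin 6 → F, hermForm 6 F 2 (c • Pi.single j 1) x = c * x j ^ 2 := fun c x => by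
      rw [hermForm, Finset.sum_eq_single j] <;>
        simp +contextual [Pi.single_apply]
    have e1 := hw ((1 : F) • Pi.single j 1)
    have e2 := hw (s • Pi.single j 1)
    rw [hj, hj] at e1 e2
    rw [one_mul, one_mul] at e1
    have := tr_ext h e1 e2
    have hz : (u j + v j) ^ 2 = 0 := by linear_combination this + (u j * v j + v j ^ 2) * h.two
    have := pow_eq_zero_iff (n := 2) (by norm_num) |>.1 hz
    linear_combination this - v j * h.two
  · rw [H.card, Nat.card_fun, Nat.card_eq_fintype_card, h.card, Nat.card_fin]; norm_num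

/-- An isometry commuting with the fixed point free map is a unitary matrix. -/
theorem exists_matrix (g : V →+ V) (hg : ∀ v, q (g v) = q v) (hgo : ∀ v, g (o v) = o (g v)) :
    ∃ A : Matrix (Fin 6) (Fin 6) F, (∀ v, g (nu o s e v) = nu o s e (A *ᵥ v)) ∧
      ∀ u v, hermForm 6 F 2 (A *ᵥ u) (A *ᵥ v) = hermForm 6 F 2 u v := by
  classical
  choose c hc using fun j => (nu_bijective H h he).2 (g (e j))
  have hga : ∀ x v, g (act o s x v) = act o s x (g v) := fun x v => by
    rcases four h x with rfl | rfl | rfl | rfl <;>
      simp only [act_zero, act_one, act_s h, act_s1 h, map_zero, map_add, hgo]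
  let A : Matrix (Fin 6) (Fin 6) F := Matrix.of fun i j => c j i
  have hA : ∀ v, g (nu o s e v) = nu o s e (A *ᵥ v) := by
    intro v
    have e2 : A *ᵥ v = ∑ j, v j • c j := by
      funext i
      rw [Finset.sum_apply]
      show (∑ j, A i j * v j) = ∑ j, v j * c j i
      exact Finset.sum_congr rfl fun j _ => mul_comm (A i j) (v j)
    let N : (Fin 6 → F) →+ V := AddMonoidHom.mk' (nu o s e) (nu_add H h)
    rw [e2, show nu o s e (∑ j, v j • c j) = N (∑ j, v j • c j) from rfl, map_sum, nu, map_sum]
    refine Finset.sum_congr rfl fun j _ => ?_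
    show g (act o s (v j) (e j)) = nu o s e (v j • c j)
    rw [hga, nu_smul H h, hc]
  refine ⟨A, hA, fun u v => ?_⟩
  have hp : ∀ a b, tr (hermForm 6 F 2 (A *ᵥ a) (A *ᵥ b)) = tr (hermForm 6 F 2 a b) := fun a b => by
    rw [← pol_nu H h he, ← pol_nu H h he, ← hA, ← hA]
    simp only [pol, ← map_add, hg]
  have hs : ∀ a b : Fin 6 → F, hermForm 6 F 2 (s • a) b = s * hermForm 6 F 2 a b := fun a b => by
    simp only [hermForm, Pi.smul_apply, smul_eq_mul, Finset.mul_sum, mul_assoc]
  refine tr_ext h (hp u v) ?_
  rw [← hs, ← hs, ← Matrix.mulVec_smul]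
  exact hp _ _

end Cfsg.Agent.LFForm89
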