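import Mathlib

/-!
Field tables, subspaces and matrices for the U43 configuration.
-/

set_option autoImplicit false

namespace Cfsg.Agent.LeechUnitary43

/-- addition table -/
def addTable : ℕ := 0x41942011cc8000000000000000000000000000003290020990700000000000000000000000000000520c41020e6000000000000000000000000000001008e641065000000000000000000000000000000104c838ca40000000000000000000000000000020810731483000000000000000000000000000007320832840200000000000000000000000000000641c6520041000000000000000000000000000008398a418820

/-- multiplication table -/
def mulTable : ℕ := 0x609443391000000000000000000000000000000011a0c2214e00000000000000000000000000000054088708cc00000000000000000000000000000023106141ca000000000000000000000000000000311c262a080000000000000000000000000000007205051186000000000000000000000000000000428ce830440000000000000000000000000000008398a4188200000000000000000000000000000000000000000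

/-- conjugation table -/
def conjTable : ℕ := 0x520d0730820

/-- subspaces -/
def subspaces : List (List ℕ) := [
  [0x20000810000020001,
   0x20001010000028001,
   0x40020200000000081,
   0x4001c200000000081,
   0x20000e10000040001,
   0x2000c410000009801,
   0x20008210000018c01,
   0x20018610000010801,
   0x20004c10000008c01,
   0x20010010000001c01,
   0x20008c10000018401,
   0x20000a10000020001,
   0x20018210000018401,
   0x2000c210000018801,
   0x2000cc10000031801,
   0x40014200000000101,
   0x20008410000008801,
   0x20008610000030401,
   0x2001c010000001401,
   0x20018410000030401,
   0x2000c210000011801,
   0x20004c10000018801,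
   0x20018c10000019801,
   0x400202000000000a1,
   0x20000e10000038001,
   0x20014010000002001,
   0x20010010000001001,
   0x20004210000030c01,
   0x20004210000010401,
   0x20004610000030801,
   0x20014010000001401,
   0x20020010000001001],
  [0x400102000000000e1,
   0x20018c10000008801,
   0x2000c610000019801,
   0x20004410000018c01,
   0x20018410000011801,
   0x2000cc10000008401,
   0x20008610000008c01,
   0x20008c10000010c01,
   0x20018610000008401,
   0x2001c010000001c01,
   0x20020010000002001,
   0x2000c610000030c01,
   0x20008410000010401,
   0x2000c410000010c01,
   0x20018210000030801,
   0x400102000000000a1,
   0x20001010000038001,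
   0x20004410000010801,
   0x400142000000000e1,
   0x20004610000009801,
   0x20008210000031801,
   0x4001c200000000101,
   0x20000a10000040001,
   0x20000810000028001,
   0x20004610000010c01,
   0x40010200000000101,
   0x20000a10000028001,
   0x4001c2000000000e1,
   0x400142000000000a1,
   0x20000810000038001,
   0x20004410000008401,
   0x20001010000040001],
  [0x20008410000030c01,
   0x2001c010000002001,
   0x2000c610000010401,
   0x20008210000010801,
   0x2000c410000030801,
   0x20020010000001c01,
   0x20018610000031801,
   0x20018210000009801,
   0x20008610000011801,
   0x20014010000001001,
   0x20004210000019801,
   0x2000cc10000018c01,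
   0x20004410000031801,
   0x20008c10000030801,
   0x20018410000008c01,
   0x20020010000001401,
   0x2000c610000008801,
   0x20000810000040001,
   0x20018c10000010401,
   0x20008210000008401,
   0x20008c10000009801,
   0x20018410000018801,
   0x20018c10000030c01,
   0x20004c10000030401,
   0x400202000000000e1,
   0x20000e10000028001,
   0x20010010000002001,
   0x2000cc10000010801,
   0x2000c210000008c01,
   0x20018210000010c01,
   0x20010010000001401,
   0x20004210000008801],
  [0x20000a10000038001,
   0x20004610000018401,
   0x2000c210000030401,
   0x2001c010000001001,
   0x20008410000019801,
   0x20014010000001c01,
   0x2000c410000018401,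
   0x20000e10000020001,
   0x20001010000020001,
   0x4001c2000000000a1,
   0x20018610000018c01,
   0x20008610000018801,
   0x40010200000000081,
   0x40020200000000101,
   0x20004c10000011801,
   0x40014200000000081]]

/-- annihilators -/
def annihilators : List ℕ := [1280, 32776]

/-- matrices -/
def matrices : List ℕ := [0x29d0638c8510cc3200e0,
  0x1200639d0629cc538820]

end Cfsg.Agent.LeechUnitary43
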