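import Cfsg.Agent.Lib.UnitaryImage

/-!
Coded unitary matrices moving coded subspaces, and the resulting description of `PSU`.
-/

set_option autoImplicit false
set_option linter.style.haveILetI false

namespace Cfsg.Agent.UnitaryImage

open scoped Matrix
open Cfsg Cfsg.Agent.PermImageCert Cfsg.Agent.OrthUnitaryHerm

variable (c : Code)

/-- An entry of a packed square matrix. -/
def ent (n M i j : ℕ) : ℕ := fld c M (Nat.add (Nat.mul n i) j)

/-- A coded matrix is special unitary. -/
noncomputable def isSU (n M : ℕ) : Bool :=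
  Nat.beq (detN c n (ent c n M)) 1 &&
    allBelow (fun j => allBelow (fun l => Nat.beq
      (sumTo c (fun i => c.mul (ent c n M i j) (c.conj (ent c n M i l))) n)
      (bif Nat.beq j l then 1 else 0)) n) n

/-- The vector with coordinates given by a coded matrix and a coded vector. -/
noncomputable def mvec (n M v t : ℕ) : ℕ := sumTo c (fun j => c.mul (ent c n M t j) (fld c v j)) n

/-- A row of a coded subspace: its vector. -/
def rowVec (E i : ℕ) : ℕ := Nat.land (Nat.shiftRight E (Nat.mul 35 i)) 1073741823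

/-- A row of a coded subspace: the coordinate giving its coefficient. -/
def rowPiv (E i : ℕ) : ℕ := Nat.land (Nat.shiftRight E (Nat.add (Nat.mul 35 i) 30)) 31

/-- Pack a function of the coordinates. -/
noncomputable def packVec (f : ℕ → ℕ) (n : ℕ) : ℕ :=
  Nat.rec 0 (fun k ih => Nat.add ih (Nat.shiftLeft (f k) (Nat.mul 5 k))) n

/-- Hand over an evaluated number. -/
def force (n : ℕ) (k : ℕ → Bool) : Bool := Nat.casesOn n (k 0) (fun m => k (m + 1))

theorem force_eq (n : ℕ) (k : ℕ → Bool) : force n k = k n := by cases n <;> rfl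

/-- A matrix maps one coded subspace into another. -/
noncomputable def mapsOK (n r M E E' : ℕ) : Bool :=
  allBelow (fun i => force (packVec (mvec c n M (rowVec E i)) n) fun w =>
    allBelow (fun t => Nat.beq (fld c w t) (mvec c n M (rowVec E i) t) &&
      Nat.beq (fld c w t)
        (sumTo c (fun j => c.mul (fld c w (rowPiv E' j)) (fld c (rowVec E' j) t)) r)) n) r

/-- Entry of a two-level table. -/
def code (tab : List (List ℕ)) (k : ℕ) : ℕ := (tab.getD (Nat.div k 32) []).getD (Nat.mod k 32) 0

/-- A coded matrix is special unitary and moves the subspaces as its permutation does. -/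
noncomputable def imageOK (n r N : ℕ) (tab : List (List ℕ)) (q : ℕ × ℕ) : Bool :=
  isSU c n q.1 && allBelow (fun k => mapsOK c n r q.1 (code tab k) (code tab (get q.2 k))) N

/-- Pairing of a vector with a coded covector. -/
noncomputable def pair (n a v : ℕ) : ℕ := sumTo c (fun i => c.mul (fld c a i) (fld c v i)) n

/-- The first subspace differs from every other one. -/
noncomputable def distinctOK (n r N : ℕ) (tab : List (List ℕ)) (ann : List ℕ) : Bool :=
  ann.all (fun a => allBelow (fun i => Nat.beq (pair c n a (rowVec (code tab 0) i)) 0) r) &&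
    allBelow (fun k => Nat.beq k 0 ||
      ann.any (fun a => !allBelow (fun i => Nat.beq (pair c n a (rowVec (code tab k) i)) 0) r)) N

variable {c} {F : Type*} [Field F] {s : F}

/-- The vector with a given code. -/
def toVec (c : Code) (s : F) (n v : ℕ) : Fin n → F := fun i => iota c s (fld c v i)

/-- The matrix with a given code. -/
def toMat (c : Code) (s : F) (n M : ℕ) : Matrix (Fin n) (Fin n) F :=
  Matrix.of fun i j => iota c s (ent c n M i j)

/-- The subspace with a given code. -/
def toSub (c : Code) (s : F) (n r E : ℕ) : Submodule F (Fin n → F) :=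
  Submodule.span F (Set.range fun i : Fin r => toVec c s n (rowVec E i))

theorem allBelow_of_forall {f : ℕ → Bool} : ∀ {n : ℕ}, (∀ k < n, f k = true) → allBelow f n = true
  | 0, _ => rfl
  | n + 1, h => by
    change (f n && allBelow f n) = true
    rw [h n (by omega), allBelow_of_forall fun k hk => h k (by omega)]; rfl

theorem mulVec_toVec (h : GenOK c s) (n M v : ℕ) (t : Fin n) :
    (toMat c s n M *ᵥ toVec c s n v) t = iota c s (mvec c n M v t) ∧ mvec c n M v t < c.p * c.p := by
  obtain ⟨h1, h2⟩ := iota_sumTo h (n := n) (f := fun j => c.mul (ent c n M t j) (fld c v j))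
    (fun j _ => (iota_mul h (fld_lt h _ _) (fld_lt h _ _)).2)
  refine ⟨?_, h2⟩
  rw [mvec, h1, Matrix.mulVec, dotProduct]
  exact Finset.sum_congr rfl fun j _ => ((iota_mul h (fld_lt h _ _) (fld_lt h _ _)).1).symm

theorem map_le_of_mapsOK (h : GenOK c s) {n r M E E' : ℕ} (hm : mapsOK c n r M E E' = true) :
    (toSub c s n r E).map (Matrix.mulVecLin (toMat c s n M)) ≤ toSub c s n r E' := by
  rw [toSub, Submodule.map_span, Submodule.span_le]
  rintro _ ⟨_, ⟨i, rfl⟩, rfl⟩
  have hi := allBelow_spec hm i i.2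
  rw [force_eq] at hi
  set w := packVec (mvec c n M (rowVec E i)) n with hw
  have key : toMat c s n M *ᵥ toVec c s n (rowVec E i) =
      ∑ j : Fin r, iota c s (fld c w (rowPiv E' j)) • toVec c s n (rowVec E' j) := by
    funext t
    have ht := allBelow_spec hi t t.2
    simp only [Bool.and_eq_true, Nat.beq_eq] at ht
    rw [(mulVec_toVec h n M _ t).1, ← ht.1, ht.2,
      (iota_sumTo h (fun j _ => (iota_mul h (fld_lt h _ _) (fld_lt h _ _)).2)).1, Finset.sum_apply]
    exact Finset.sum_congr rfl fun j _ => (iota_mul h (fld_lt h _ _) (fld_lt h _ _)).1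
  show (Matrix.mulVecLin (toMat c s n M)) (toVec c s n (rowVec E i)) ∈ _
  rw [Matrix.mulVecLin_apply, key]
  exact Submodule.sum_mem _ fun j _ => Submodule.smul_mem _ _ (Submodule.subset_span ⟨j, rfl⟩)

theorem toSub_ne (h : GenOK c s) {n r N : ℕ} {tab : List (List ℕ)} {ann : List ℕ}
    (hd : distinctOK c n r N tab ann = true) {k : ℕ} (hk : k < N) (hk0 : k ≠ 0) :
    toSub c s n r (code tab k) ≠ toSub c s n r (code tab 0) := by
  simp only [distinctOK, Bool.and_eq_true, List.all_eq_true] at hd
  have hk' := allBelow_spec hd.2 k hk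
  simp only [Bool.or_eq_true, Nat.beq_eq, List.any_eq_true, Bool.not_eq_true'] at hk'
  obtain ⟨a, ha, hak⟩ := hk'.resolve_left hk0
  let f : (Fin n → F) →ₗ[F] F :=
    { toFun := fun v => toVec c s n a ⬝ᵥ v
      map_add' := fun u v => dotProduct_add _ u v
      map_smul' := fun x v => dotProduct_smul x _ v }
  have hf : ∀ v, f (toVec c s n v) = iota c s (pair c n a v) ∧ pair c n a v < c.p * c.p := fun v => by
    obtain ⟨h1, h2⟩ := iota_sumTo h (n := n) (f := fun i => c.mul (fld c a i) (fld c v i))
      (fun j _ => (iota_mul h (fld_lt h _ _) (fld_lt h _ _)).2)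
    refine ⟨?_, h2⟩
    rw [pair, h1]
    show ∑ j : Fin n, toVec c s n a j * toVec c s n v j = _
    exact Finset.sum_congr rfl fun j _ => ((iota_mul h (fld_lt h _ _) (fld_lt h _ _)).1).symm
  intro heq
  have hle : toSub c s n r (code tab 0) ≤ LinearMap.ker f := by
    rw [toSub, Submodule.span_le]
    rintro _ ⟨i, rfl⟩
    have := allBelow_spec (hd.1 a ha) i i.2
    rw [Nat.beq_eq] at this
    rw [SetLike.mem_coe, LinearMap.mem_ker, (hf _).1, this, iota_zero]
  have hall : allBelow (fun i => Nat.beq (pair c n a (rowVec (code tab k) i)) 0) r = true := by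
    refine allBelow_of_forall fun i hi => Nat.beq_eq.mpr ?_
    by_contra hne
    refine iota_ne_zero h (hf _).2 hne ((hf _).1.symm.trans (LinearMap.mem_ker.mp (hle ?_)))
    rw [← heq]
    exact Submodule.subset_span ⟨⟨i, hi⟩, rfl⟩
  rw [hall] at hak
  exact Bool.false_ne_true hak.symm

/-- The action of `SU` on subspaces. -/
def subPerm (n : ℕ) (q : ℕ) : SU n F q →* Equiv.Perm (Submodule F (Fin n → F)) :=
  MonoidHom.mk'
    (fun g =>
      { toFun := fun W => W.map (Matrix.mulVecLin (g.1 : Matrix (Fin n) (Fin n) F))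
        invFun := fun W => W.map (Matrix.mulVecLin ((g⁻¹).1 : Matrix (Fin n) (Fin n) F))
        left_inv := fun W => by
          dsimp only
          rw [← Submodule.map_comp, ← Matrix.mulVecLin_mul, ← Matrix.SpecialLinearGroup.coe_mul,
            ← Subgroup.coe_mul, inv_mul_cancel, Subgroup.coe_one, Matrix.SpecialLinearGroup.coe_one,
            Matrix.mulVecLin_one, Submodule.map_id]
        right_inv := fun W => by
          dsimp only
          rw [← Submodule.map_comp, ← Matrix.mulVecLin_mul, ← Matrix.SpecialLinearGroup.coe_mul,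
            ← Subgroup.coe_mul, mul_inv_cancel, Subgroup.coe_one, Matrix.SpecialLinearGroup.coe_one,
            Matrix.mulVecLin_one, Submodule.map_id] })
    (fun g h => Equiv.ext fun W => by
      change W.map (Matrix.mulVecLin ((g * h).1 : Matrix (Fin n) (Fin n) F)) = (W.map _).map _
      rw [← Submodule.map_comp, ← Matrix.mulVecLin_mul]
      rfl)

theorem subPerm_apply {n q : ℕ} (g : SU n F q) (W : Submodule F (Fin n → F)) :
    subPerm n q g W = W.map (Matrix.mulVecLin (g.1 : Matrix (Fin n) (Fin n) F)) := rfl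

theorem subPerm_center [Fintype F] {n q : ℕ} (hF : Fintype.card F = q ^ 2) (hn : 2 ≤ n) {z : SU n F q}
    (hz : z ∈ Subgroup.center (SU n F q)) (W : Submodule F (Fin n → F)) : subPerm n q z W = W := by
  have hs := center_SU_scalar hF hn hz
  set μ := (z.1 : Matrix (Fin n) (Fin n) F) ⟨0, by omega⟩ ⟨0, by omega⟩
  have hM : (z.1 : Matrix (Fin n) (Fin n) F) = μ • (1 : Matrix (Fin n) (Fin n) F) := by
    ext i j
    rw [hs i j, Matrix.smul_apply, Matrix.one_apply, smul_eq_mul, mul_ite, mul_one, mul_zero]
  have hμ : μ ≠ 0 := fun h0 => by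
    have hdet : (z.1 : Matrix (Fin n) (Fin n) F).det = 1 := z.1.2
    rw [hM, h0, zero_smul] at hdet
    haveI : Nonempty (Fin n) := ⟨⟨0, by omega⟩⟩
    rw [Matrix.det_zero] at hdet
    exact zero_ne_one hdet
  rw [subPerm_apply, hM,
    show Matrix.mulVecLin (μ • (1 : Matrix (Fin n) (Fin n) F)) = μ • (LinearMap.id : (Fin n → F) →ₗ[F] Fin n → F) from
      LinearMap.ext fun v => by simp,
    Submodule.map_smul _ _ _ hμ, Submodule.map_id]

/-- The element of `SU` with a given code. -/
theorem exists_SU [Fintype F] (h : GenOK c s) {n M : ℕ} (hM : isSU c n M = true) :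
    ∃ g : SU n F c.p, (g.1 : Matrix (Fin n) (Fin n) F) = toMat c s n M := by
  simp only [isSU, Bool.and_eq_true, Nat.beq_eq] at hM
  obtain ⟨h1, h2⟩ := iota_detN h n (ent c n M) (fun i j => fld_lt h _ _)
  rw [hM.1, iota_one h] at h1
  set A := toMat c s n M
  have hg : Aᵀ * A.map (fun x => x ^ c.p) = 1 := by
    ext j l
    have := allBelow_spec (allBelow_spec hM.2 j j.2) l l.2
    rw [Nat.beq_eq] at this
    have hs' := (iota_sumTo h (n := n) (f := fun i => c.mul (ent c n M i j) (c.conj (ent c n M i l)))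
      (fun i _ => (iota_mul h (fld_lt h _ _) (iota_conj h (fld_lt h _ _)).2).2)).1
    rw [this] at hs'
    rw [Matrix.mul_apply, Matrix.one_apply]
    calc ∑ i, Aᵀ j i * A.map (fun x => x ^ c.p) i l
        = ∑ i : Fin n, iota c s (c.mul (ent c n M i j) (c.conj (ent c n M i l))) :=
          Finset.sum_congr rfl fun i _ => by
            show iota c s (ent c n M i j) * iota c s (ent c n M i l) ^ c.p = _
            exact (Eq.trans (iota_mul h (fld_lt h _ _) (iota_conj h (fld_lt h _ _)).2).1
              (congrArg _ (iota_conj h (fld_lt h _ _)).1)).symm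
      _ = iota c s (bif Nat.beq j l then 1 else 0) := hs'.symm
      _ = if j = l then 1 else 0 := by
        by_cases hjl : j = l
        · rw [if_pos hjl, hjl, Nat.beq_eq.mpr rfl, cond_true, iota_one h]
        · rw [if_neg hjl, Bool.eq_false_iff.mpr (fun hb => hjl (Fin.ext (Nat.eq_of_beq_eq_true hb))),
            cond_false, iota_zero]
  haveI : Fact c.p.Prime := ⟨h.prime⟩
  haveI : CharP F c.p := by
    obtain ⟨q, hq⟩ := CharP.exists F
    rcases (Nat.dvd_prime h.prime).mp ((CharP.cast_eq_zero_iff F q c.p).mp h.char) with rfl | rfl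
    · exact absurd rfl (CharP.char_ne_one F 1)
    · exact hq
  haveI : ExpChar F c.p := ExpChar.prime h.prime
  refine ⟨mkSU A h1.symm fun u v => ?_, rfl⟩
  change (A *ᵥ u) ⬝ᵥ (fun i => (A *ᵥ v) i ^ c.p) = u ⬝ᵥ fun i => v i ^ c.p
  have e : (fun i => (A *ᵥ v) i ^ c.p) = A.map (fun x => x ^ c.p) *ᵥ fun i => v i ^ c.p := by
    funext i
    simp only [Matrix.mulVec, dotProduct, Matrix.map_apply, sum_pow_char, mul_pow]
  rw [e, Matrix.dotProduct_mulVec, ← Matrix.vecMul_transpose, Matrix.vecMul_vecMul, hg, Matrix.vecMul_one]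

/-- `PSU` as the group of the permutations. -/
theorem exists_iso [Fintype F] (h : GenOK c s) {n r N : ℕ} (hn : 2 ≤ n) (hF : Fintype.card F = c.p ^ 2)
    (tab : List (List ℕ)) (ann : List ℕ) (hd : distinctOK c n r N tab ann = true)
    (gens : List (ℕ × ℕ)) (hgens : gens.all (imageOK c n r N tab) = true)
    (htr : ∀ k : Fin N, ∃ σ ∈ genGroup N (gens.map Prod.snd), (σ k : ℕ) = 0) {M : ℕ}
    (hM : M ≤ Nat.card (genGroup N (gens.map Prod.snd))) (hcard : Nat.card (PSU n F c.p) = M) :
    Nonempty (PSU n F c.p ≃* genGroup N (gens.map Prod.snd)) := by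
  let e : Fin N → Submodule F (Fin n → F) := fun k => toSub c s n r (code tab k)
  haveI : Finite (SU n F c.p) := Subtype.finite
  have hgen : ∀ σ ∈ genSet N (gens.map Prod.snd), ∃ g, ∀ k, subPerm n c.p g (e k) = e (σ k) := by
    rintro σ ⟨P, hP, hσ⟩
    obtain ⟨q, hq, rfl⟩ := List.mem_map.mp hP
    have hq' := List.all_eq_true.mp hgens q hq
    simp only [imageOK, Bool.and_eq_true] at hq'
    obtain ⟨g, hg⟩ := exists_SU (F := F) h hq'.1
    refine ⟨g, fun k => ?_⟩
    have hle : ∀ k, subPerm n c.p g (e k) ≤ e (σ k) := fun k => by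
      rw [subPerm_apply, hg]
      change _ ≤ toSub c s n r (code tab (σ k : ℕ))
      rw [hσ k]
      exact map_le_of_mapsOK h (allBelow_spec hq'.2 k k.2)
    have hpow : ∀ (j : ℕ) (k : Fin N), subPerm n c.p (g ^ j) (e k) ≤ e ((σ ^ j) k) := by
      intro j
      induction j with
      | zero => intro k; simp
      | succ j ih =>
        intro k
        rw [pow_succ' g, map_mul, Equiv.Perm.mul_apply, pow_succ' σ, Equiv.Perm.mul_apply]
        exact (Submodule.map_mono (ih k)).trans (hle _)
    have hm : 0 < orderOf g * orderOf σ := Nat.mul_pos (orderOf_pos g) (orderOf_pos σ)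
    obtain ⟨m, hm'⟩ : ∃ m, orderOf g * orderOf σ = m + 1 := ⟨_, (Nat.succ_pred_eq_of_pos hm).symm⟩
    have hg1 : g ^ (m + 1) = 1 := by rw [← hm', pow_mul, pow_orderOf_eq_one, one_pow]
    have hs1 : σ ^ (m + 1) = 1 := by rw [← hm', mul_comm, pow_mul, pow_orderOf_eq_one, one_pow]
    refine le_antisymm (hle k) ?_
    have h1 : subPerm n c.p (g ^ m) (e (σ k)) ≤ e k := by
      refine (hpow m (σ k)).trans (le_of_eq (congrArg e ?_))
      rw [← Equiv.Perm.mul_apply, ← pow_succ, hs1, Equiv.Perm.one_apply]
    calc e (σ k) = subPerm n c.p g (subPerm n c.p (g ^ m) (e (σ k))) := by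
          rw [← Equiv.Perm.mul_apply, ← map_mul, ← pow_succ', hg1, map_one, Equiv.Perm.one_apply]
      _ ≤ subPerm n c.p g (e k) := Submodule.map_mono h1
  have hlift : ∀ σ ∈ genGroup N (gens.map Prod.snd), ∃ g, ∀ k, subPerm n c.p g (e k) = e (σ k) := by
    intro σ hσ
    induction hσ using Subgroup.closure_induction with
    | mem σ hσ => exact hgen σ hσ
    | one => exact ⟨1, fun k => by simp⟩
    | mul a b _ _ iha ihb =>
      obtain ⟨g, hg⟩ := iha
      obtain ⟨g', hg'⟩ := ihb
      exact ⟨g * g', fun k => by rw [map_mul, Equiv.Perm.mul_apply, hg' k, hg, Equiv.Perm.mul_apply]⟩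
    | inv a _ iha =>
      obtain ⟨g, hg⟩ := iha
      refine ⟨g⁻¹, fun k => ?_⟩
      rw [map_inv, Equiv.Perm.inv_eq_iff_eq, hg, ← Equiv.Perm.mul_apply, mul_inv_cancel, Equiv.Perm.one_apply]
  have he : Function.Injective e := by
    intro k l hkl
    obtain ⟨σ, hσ, hk0⟩ := htr k
    obtain ⟨g, hg⟩ := hlift σ hσ
    refine σ.injective (Fin.ext ?_)
    rw [hk0]
    by_contra hne
    refine toSub_ne (F := F) h hd (σ l).2 (Ne.symm hne) ?_
    have h2 := hg k
    rw [hkl, hg l] at h2
    change toSub c s n r (code tab (σ l : ℕ)) = toSub c s n r (code tab (σ k : ℕ)) at h2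
    rw [hk0] at h2
    exact h2
  exact nonempty_iso (subPerm n c.p) e he (gens.map Prod.snd) hgen (Subgroup.center _)
    (fun z hz k => subPerm_center hF hn hz _) M
    (by rw [← hcard, mul_comm]; exact Subgroup.card_eq_card_quotient_mul_card_subgroup _) hM

end Cfsg.Agent.UnitaryImage
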