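import Cfsg.Agent.Lib.U62Mon93
import Cfsg.Agent.Lib.U62Frames93Data
import Cfsg.Agent.Lib.UnitarySubspaceImage
import Cfsg.Agent.Lib.LeechUnitary43Spaces

/-!
A subgroup of SU(6,2) generated by the diagonal group, an alternating group of coordinate
permutations and one further element, with its action on 112 frames.
-/

set_option autoImplicit false
set_option linter.style.haveILetI false
set_option linter.unusedSectionVars false

namespace Cfsg.Agent.U62Existence93

open Cfsg Cfsg.Agent.OrthUnitaryHerm Cfsg.Agent.U62Mon93 Cfsg.Agent.PermImageCert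
open scoped Matrix
open Cfsg.Agent.U62Frames93 (points targets twisted perms slp chain lines mats9)

/-- The tables of the field with four elements. -/
def code4 : UnitaryImage.Code :=
  ⟨2, 1, 1, U62Frames93.addTable, U62Frames93.mulTable, U62Frames93.conjTable⟩

/-- The tables of the field with nine elements. -/
def code9 : UnitaryImage.Code :=
  ⟨3, 0, 2, LeechUnitary43.addTable, LeechUnitary43.mulTable,
    LeechUnitary43.conjTable⟩

/-- Code of a power of the cube root. -/
def exC (a : ZMod 3) : ℕ := a.val + 1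

/-- Code of a matrix. -/
def mcode (k : Fin 8) : ℕ := U62Frames93.mats.getD k 0

theorem tables4_ok : UnitaryImage.tablesOK code4 = true := by decide +kernel

theorem mats_su : ∀ k : Fin 8, UnitaryImage.isSU code4 6 (mcode k) = true := by decide +kernel

variable {F : Type} [Field F] [Fintype F] {s : F}

theorem genOK (h : S4 s) : UnitaryImage.GenOK code4 s where
  tables := tables4_ok
  char := by exact_mod_cast h.two
  sq := by simp [code4, h.sq]
  frob := by
    simp only [code4, Nat.cast_one]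
    linear_combination h.sq + s * h.two
  prime := Nat.prime_two

theorem iota_exC (h : S4 s) (a : ZMod 3) : UnitaryImage.iota code4 s (exC a) = ex s a := by
  rcases (show a = 0 ∨ a = 1 ∨ a = 2 by revert a; decide) with rfl | rfl | rfl
  · rw [ex_zero, show exC 0 = 1 from rfl]; exact UnitaryImage.iota_one (genOK h)
  · rw [ex_one, show exC 1 = 2 from rfl, UnitaryImage.iota]; simp [code4]
  · rw [ex_two, show exC 2 = 3 from rfl, UnitaryImage.iota]; simp [code4, h.sq, add_comm]

theorem exists_gmat (h : S4 s) (k : Fin 8) :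
    ∃ g : SU 6 F 2, (g.1 : Matrix (Fin 6) (Fin 6) F) = UnitaryImage.toMat code4 s 6 (mcode k) :=
  UnitaryImage.exists_SU (genOK h) (mats_su k)

/-- The generators. -/
noncomputable def gmat (h : S4 s) (k : Fin 8) : SU 6 F 2 := (exists_gmat h k).choose

theorem gmat_entry (h : S4 s) (k : Fin 8) (i j : Fin 6) :
    entry (gmat h k) i j = UnitaryImage.iota code4 s (UnitaryImage.ent code4 6 (mcode k) i j) :=
  congrFun (congrFun (exists_gmat h k).choose_spec i) j

/-- The five-cycle. -/
def c5 : Equiv.Perm (Fin 6) :=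
  Equiv.swap 1 2 * Equiv.swap 2 3 * Equiv.swap 3 4 * Equiv.swap 4 5

/-- Exponents of the diagonal generators. -/
def de (i : Fin 5) : Fin 6 → ZMod 3 :=
  fun j => if (j : ℕ) = i then 1 else if j = 5 then 2 else 0

/-- A coded matrix is monomial. -/
def monOK (M : ℕ) (π : Equiv.Perm (Fin 6)) (d : Fin 6 → ZMod 3) : Prop :=
  ∀ i j : Fin 6, UnitaryImage.ent code4 6 M i j = if i = π j then exC (d j) else 0

instance (M : ℕ) (π : Equiv.Perm (Fin 6)) (d : Fin 6 → ZMod 3) : Decidable (monOK M π d) :=
  inferInstanceAs (Decidable (∀ _ _, _))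

theorem isM_of_monOK (h : S4 s) {k : Fin 8} {π : Equiv.Perm (Fin 6)} {d : Fin 6 → ZMod 3}
    (hk : monOK (mcode k) π d) : IsM s (gmat h k) π d := by
  intro i j
  rw [gmat_entry, hk i j]
  split
  · exact iota_exC h _
  · exact UnitaryImage.iota_zero

theorem isM_de (h : S4 s) (i : Fin 5) : IsM s (gmat h (Fin.castLE (by norm_num) i)) 1 (de i) :=
  isM_of_monOK h (by revert i; decide +kernel)

theorem isM_ca (h : S4 s) : IsM s (gmat h 5) ca 0 := isM_of_monOK h (by decide +kernel)

theorem isM_c5 (h : S4 s) : IsM s (gmat h 6) c5 0 := isM_of_monOK h (by decide +kernel)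

/-- The subgroup. -/
noncomputable def K0 (h : S4 s) : Subgroup (SU 6 F 2) := Subgroup.closure (Set.range (gmat h))

theorem gmat_mem (h : S4 s) (k : Fin 8) : gmat h k ∈ K0 h := Subgroup.subset_closure ⟨k, rfl⟩

/-- Exponents of a product of powers of the diagonal generators. -/
def dexp (c : Fin 5 → ZMod 3) : Fin 6 → ZMod 3 := fun j => ∑ i, (c i).val • de i j

theorem dexp_eq : ∀ c : Fin 5 → ZMod 3, dexp c = ext6 c := by decide +kernel

theorem isM_pow (h : S4 s) {g : SU 6 F 2} {d : Fin 6 → ZMod 3} (hg : IsM s g 1 d) :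
    ∀ n : ℕ, IsM s (g ^ n) 1 (fun j => n • d j)
  | 0 => by simpa [← Pi.zero_def] using (IsM.one (s := s) (F := F))
  | n + 1 => by
    have := (isM_pow h hg n).mul h hg
    rw [pow_succ]
    simp only [succ_nsmul]
    simpa using this

/-- The product of powers of the diagonal generators. -/
noncomputable def eprod (h : S4 s) (c : Fin 5 → ZMod 3) : SU 6 F 2 :=
  gmat h 0 ^ (c 0).val * (gmat h 1 ^ (c 1).val * (gmat h 2 ^ (c 2).val *
    (gmat h 3 ^ (c 3).val * gmat h 4 ^ (c 4).val)))

theorem isM_eprod (h : S4 s) (c : Fin 5 → ZMod 3) : IsM s (eprod h c) 1 (ext6 c) := by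
  have := (isM_pow h (isM_de h 0) (c 0).val).mul h ((isM_pow h (isM_de h 1) (c 1).val).mul h
    ((isM_pow h (isM_de h 2) (c 2).val).mul h ((isM_pow h (isM_de h 3) (c 3).val).mul h
      (isM_pow h (isM_de h 4) (c 4).val))))
  rw [← dexp_eq]
  unfold eprod dexp
  simpa [Fin.sum_univ_five, add_assoc] using this

theorem eprod_mem (h : S4 s) (c : Fin 5 → ZMod 3) : eprod h c ∈ K0 h :=
  mul_mem (pow_mem (gmat_mem h _) _) (mul_mem (pow_mem (gmat_mem h _) _)
    (mul_mem (pow_mem (gmat_mem h _) _) (mul_mem (pow_mem (gmat_mem h _) _)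
      (pow_mem (gmat_mem h _) _))))

theorem E_eq_eprod (h : S4 s) {e : SU 6 F 2} (he : e ∈ E h) : ∃ c, e = eprod h c := by
  obtain ⟨d, hd⟩ := he
  obtain ⟨c, rfl⟩ := exists_ext6 (hd.sum_eq_zero h)
  exact ⟨c, hd.eq (isM_eprod h c)⟩

theorem E_le_K0 (h : S4 s) : E h ≤ K0 h := fun e he => by
  obtain ⟨c, rfl⟩ := E_eq_eprod h he
  exact eprod_mem h c

/-! ### The alternating group -/

/-- The two cycles and their inverses as codes. -/
def perms6 : List (ℕ × ℕ) := [(0x140400c0000801, 0x140400c0100002), (0x4050100300800, 0x10030080101400)]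

/-- Products of the cycles. -/
def slp6 : List (ℕ × ℕ × ℕ) := [(3, 0, 0x10030080000405),
  (1, 2, 0x4050100200003),
  (3, 4, 0xc020040001404),
  (1, 1, 0x8010140400c00),
  (3, 3, 0xc020040501000),
  (0, 1, 0x8050100300001),
  (1, 9, 0xc010140400002),
  (0, 10, 0xc020140400400),
  (2, 7, 0x4000140400c02),
  (3, 12, 0x14000100300801),
  (2, 13, 0x14020100300400),
  (3, 2, 0x10030080500001),
  (0, 15, 0x10030000500402),
  (3, 16, 0xc020000401401),
  (2, 17, 0xc010080401400),
  (1, 18, 0x100200c0500400),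
  (2, 1, 0x50100300402),
  (3, 20, 0x400c0201401),
  (2, 21, 0x80400c0101400),
  (1, 22, 0xc050100200400),
  (0, 3, 0x10030000201401),
  (1, 24, 0x14040000300402),
  (0, 25, 0x14040040300800),
  (3, 26, 0x10030140200400)]

/-- Trees for the cycles. -/
def chain6 : List (ℕ × List ℕ) := [(0, [1, 2097154, 4194309, 5242883, 6291460]), (1, [1049602, 3146757, 7341059, 8389636]), (2, [11536388, 14682115, 19924997]), (3, [24120324, 28314629])]

theorem perms6_ok : perms6.all (invOK 6) = true := by decide +kernel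

theorem slp6_ok : slpOK 6 (allCodes perms6) slp6 = true := by decide +kernel

theorem chain6_ok : chainOK 6 (allCodes perms6 ++ slp6.map (fun o => o.2.2)) [] chain6 = true := by
  decide +kernel

theorem chain6_size : chainSize chain6 = 360 := by decide +kernel

theorem card_closure_six : 360 ≤ Nat.card (Subgroup.closure ({ca, c5} : Set (Equiv.Perm (Fin 6)))) := by
  refine (chain6_size.symm.le.trans (le_card_genGroup perms6_ok slp6_ok chain6_ok)).trans
    (Subgroup.card_le_of_le ((Subgroup.closure_le _).2 ?_))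
  rintro σ ⟨P, hP, hσ⟩
  have h1 : Rep ca 0x140400c0000801 := fun k => by revert k; decide +kernel
  have h2 : Rep c5 0x4050100300800 := fun k => by revert k; decide +kernel
  simp only [perms6, List.map_cons, List.map_nil, List.mem_cons, List.not_mem_nil, or_false] at hP
  rcases hP with rfl | rfl
  · rw [hσ.unique h1]; exact Subgroup.subset_closure (Or.inl rfl)
  · rw [hσ.unique h2]; exact Subgroup.subset_closure (Or.inr rfl)

/-- Every square of a permutation is realised in the subgroup. -/
theorem sq_lift (h : S4 s) (π : Equiv.Perm (Fin 6)) : ∃ g ∈ K0 h, ∃ d, IsM s g (π ^ 2) d := by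
  have hA := sq_mem_of_360 card_closure_six π
  generalize π ^ 2 = σ at hA
  induction hA using Subgroup.closure_induction with
  | mem σ hσ =>
    rcases hσ with rfl | rfl
    · exact ⟨_, gmat_mem h 5, _, isM_ca h⟩
    · exact ⟨_, gmat_mem h 6, _, isM_c5 h⟩
  | one => exact ⟨1, one_mem _, _, IsM.one⟩
  | mul a b _ _ iha ihb =>
    obtain ⟨x, hx, d, hd⟩ := iha
    obtain ⟨y, hy, e, he⟩ := ihb
    exact ⟨_, mul_mem hx hy, _, hd.mul h he⟩
  | inv a _ iha =>
    obtain ⟨x, hx, d, hd⟩ := iha
    exact ⟨_, inv_mem hx, _, hd.inv h⟩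

theorem mem_K0_of_isM (h : S4 s) {g : SU 6 F 2} {π : Equiv.Perm (Fin 6)} {d : Fin 6 → ZMod 3}
    (hg : IsM s g (π ^ 2) d) : g ∈ K0 h := by
  obtain ⟨x, hx, e, he⟩ := sq_lift h π
  have h1 : x⁻¹ * g ∈ E h := ⟨_, by simpa using (he.inv h).mul h hg⟩
  simpa using mul_mem hx (E_le_K0 h h1)

theorem T_le_K0 (h : S4 s) : T h ≤ K0 h := by
  rintro g ⟨π, hπ, d, hd⟩
  have h4 : π = (π ^ 2) ^ 2 := by
    have : ∀ π : Equiv.Perm (Fin 6), π ∈ P9 → π = (π ^ 2) ^ 2 := by decide +kernel
    exact this π hπ
  exact mem_K0_of_isM h (π := π ^ 2) (by rwa [← h4])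

/-! ### The frames -/

/-- A point. -/
noncomputable def pt (s : F) (x : ℕ) : Submodule F (Fin 6 → F) :=
  UnitaryImage.toSub code4 s 6 1 (UnitaryImage.code points x)

/-- A frame. -/
def frame (s : F) (k : Fin 112) : Set (Submodule F (Fin 6 → F)) :=
  Set.range fun i : Fin 6 => pt s (6 * (k : ℕ) + i)

/-- The permutation code of a generator. -/
def pcode (k : ℕ) : ℕ := (perms.getD k (0, 0)).1

/-- Images of the points are as coded. -/
noncomputable def stepOK : Bool :=
  allBelow (fun m => allBelow (fun x =>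
    let y := get (targets.getD m 0) x
    Nat.beq (y / 6) (get (pcode m) (x / 6)) &&
      UnitaryImage.mapsOK code4 6 1 (U62Frames93.mats.getD m 0) (UnitaryImage.code points x)
        (UnitaryImage.code points y)) 672) 8

/-- The leading coordinate of a point is one. -/
noncomputable def pivOK : Bool :=
  allBelow (fun x => Nat.blt (UnitaryImage.rowPiv (UnitaryImage.code points x) 0) 6 &&
    Nat.beq (UnitaryImage.fld code4 (UnitaryImage.rowVec (UnitaryImage.code points x) 0)
      (UnitaryImage.rowPiv (UnitaryImage.code points x) 0)) 1) 672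

theorem stepOK_ok : stepOK = true := by decide +kernel

theorem pivOK_ok : pivOK = true := by decide +kernel

theorem perms_ok : perms.all (invOK 112) = true := by decide +kernel

theorem slp_ok : slpOK 112 (allCodes perms) slp = true := by decide +kernel

theorem chain_ok : chainOK 112 (allCodes perms ++ slp.map (fun o => o.2.2)) [] chain = true := by
  decide +kernel

theorem chain_size : chainSize chain = 3265920 := by decide +kernel

theorem tree_length : U62Frames93.tree0.length + 1 = 112 := by decide +kernel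

theorem perms_list : perms.map Prod.fst = List.ofFn fun k : Fin 8 => pcode k := by decide +kernel

/-- The group of permutations of the frames. -/
abbrev PG : Subgroup (Equiv.Perm (Fin 112)) := genGroup 112 (perms.map Prod.fst)

/-- The vector of a point. -/
def pvec (s : F) (x : ℕ) : Fin 6 → F :=
  UnitaryImage.toVec code4 s 6 (UnitaryImage.rowVec (UnitaryImage.code points x) 0)

theorem pt_eq_span (x : ℕ) : pt s x = Submodule.span F {pvec s x} := by
  rw [pt, UnitaryImage.toSub, Set.range_unique]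
  rfl

theorem pvec_ne_zero (h : S4 s) {x : ℕ} (hx : x < 672) : pvec s x ≠ 0 := by
  have := allBelow_spec pivOK_ok x hx
  simp only [Bool.and_eq_true, Nat.blt_eq, Nat.beq_eq] at this
  intro h0
  have h1 := congrFun h0 ⟨_, this.1⟩
  simp only [pvec, UnitaryImage.toVec, this.2, UnitaryImage.iota_one (genOK h),
    Pi.zero_apply, one_ne_zero] at h1

/-- The action on sets of subspaces. -/
def img (g : SU 6 F 2) (A : Set (Submodule F (Fin 6 → F))) : Set (Submodule F (Fin 6 → F)) :=
  UnitaryImage.subPerm 6 2 g '' A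

theorem img_mul (g g' : SU 6 F 2) (A : Set (Submodule F (Fin 6 → F))) :
    img (g * g') A = img g (img g' A) := by
  rw [img, img, img, Set.image_image, map_mul]; rfl

theorem img_one (A : Set (Submodule F (Fin 6 → F))) : img (1 : SU 6 F 2) A = A := by
  rw [img, map_one]; exact Set.image_id A

/-- `g` moves the frames as `σ` does. -/
def Moves (s : F) (g : SU 6 F 2) (σ : Equiv.Perm (Fin 112)) : Prop :=
  ∀ k, img g (frame s k) = frame s (σ k)

theorem Moves.mul {g g' : SU 6 F 2} {σ τ : Equiv.Perm (Fin 112)} (hg : Moves s g σ)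
    (hg' : Moves s g' τ) : Moves s (g * g') (σ * τ) := fun k => by
  rw [img_mul, hg' k, hg (τ k), Equiv.Perm.mul_apply]

theorem Moves.one : Moves s (1 : SU 6 F 2) 1 := fun k => by rw [img_one, Equiv.Perm.one_apply]

theorem Moves.pow {g : SU 6 F 2} {σ : Equiv.Perm (Fin 112)} (hg : Moves s g σ) :
    ∀ n : ℕ, Moves s (g ^ n) (σ ^ n)
  | 0 => by simpa using (Moves.one (s := s))
  | n + 1 => by rw [pow_succ, pow_succ]; exact (hg.pow n).mul hg

theorem Moves.inv {g : SU 6 F 2} {σ : Equiv.Perm (Fin 112)} (hg : Moves s g σ) :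
    Moves s g⁻¹ σ⁻¹ := fun k => by
  have h2 : frame s k = img g (frame s (σ⁻¹ k)) := by
    rw [hg]; exact congrArg _ (σ.apply_symm_apply k).symm
  rw [h2, ← img_mul, inv_mul_cancel, img_one]

theorem exists_rep_gen (k : Fin 8) : ∃ σ : Equiv.Perm (Fin 112), Rep σ (pcode k) := by
  have hk : (k : ℕ) < perms.length := k.2.trans_le (by decide)
  obtain ⟨σ, h1, -⟩ := exists_rep (List.all_eq_true.mp perms_ok _ (List.getElem_mem hk))
  refine ⟨σ, ?_⟩
  rwa [pcode, List.getD_eq_getElem _ _ hk]

/-- The permutation of a generator. -/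
noncomputable def gperm (k : Fin 8) : Equiv.Perm (Fin 112) := (exists_rep_gen k).choose

theorem gperm_rep (k : Fin 8) : Rep (gperm k) (pcode k) := (exists_rep_gen k).choose_spec

theorem moves_gmat (h : S4 s) (k : Fin 8) : Moves s (gmat h k) (gperm k) := by
  have hle : ∀ j, img (gmat h k) (frame s j) ⊆ frame s (gperm k j) := by
    rintro j _ ⟨_, ⟨i, rfl⟩, rfl⟩
    have hx : 6 * (j : ℕ) + i < 672 := by omega
    have hc := allBelow_spec (allBelow_spec stepOK_ok k k.2) _ hx
    simp only [Bool.and_eq_true, Nat.beq_eq] at hc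
    set y := get (targets.getD k 0) (6 * (j : ℕ) + i) with hy
    have hd : (6 * (j : ℕ) + i) / 6 = j := by omega
    rw [hd, ← gperm_rep k j] at hc
    refine ⟨⟨y % 6, Nat.mod_lt _ (by norm_num)⟩, ?_⟩
    have hy2 : 6 * ((gperm k j : Fin 112) : ℕ) + y % 6 = y := by omega
    show pt s (6 * ((gperm k j : Fin 112) : ℕ) + y % 6) = _
    rw [hy2]
    show pt s y = UnitaryImage.subPerm 6 2 (gmat h k) (pt s (6 * (j : ℕ) + i))
    symm
    have hmap : UnitaryImage.subPerm 6 2 (gmat h k) (pt s (6 * (j : ℕ) + i)) ≤ pt s y := by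
      rw [UnitaryImage.subPerm_apply, show ((gmat h k).1 : Matrix (Fin 6) (Fin 6) F) =
        UnitaryImage.toMat code4 s 6 (mcode k) from (exists_gmat h k).choose_spec]
      exact UnitaryImage.map_le_of_mapsOK (genOK h) hc.2
    rw [UnitaryImage.subPerm_apply, pt_eq_span, Submodule.map_span, Set.image_singleton,
      Matrix.mulVecLin_apply] at hmap ⊢
    rw [pt_eq_span] at hmap ⊢
    have hne : (gmat h k).1.1 *ᵥ pvec s (6 * (j : ℕ) + i) ≠ 0 := fun h0 => by
      refine pvec_ne_zero h hx ?_
      have := congrArg (fun v => ((gmat h k)⁻¹).1.1 *ᵥ v) h0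
      simp only [Matrix.mulVec_mulVec, Matrix.mulVec_zero,
        ← Matrix.SpecialLinearGroup.coe_mul, ← Subgroup.coe_mul, inv_mul_cancel, Subgroup.coe_one,
        Matrix.SpecialLinearGroup.coe_one, Matrix.one_mulVec] at this
      exact this
    obtain ⟨r, hr⟩ := Submodule.mem_span_singleton.1 (hmap (Submodule.mem_span_singleton_self _))
    rw [← hr]
    refine Submodule.span_singleton_smul_eq (IsUnit.mk0 r fun hr0 => hne ?_) _
    rw [← hr, hr0, zero_smul]
  have hpow : ∀ n j, img (gmat h k ^ n) (frame s j) ⊆ frame s ((gperm k ^ n) j) := by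
    intro n
    induction n with
    | zero => intro j; simp [img_one]
    | succ n ih =>
      intro j
      rw [pow_succ' (gmat h k), img_mul, pow_succ' (gperm k), Equiv.Perm.mul_apply]
      exact (Set.image_mono (ih j)).trans (hle _)
  intro j
  refine (hle j).antisymm ?_
  haveI : Finite (SU 6 F 2) := Subtype.finite
  have hm : 0 < orderOf (gmat h k) * orderOf (gperm k) :=
    Nat.mul_pos (orderOf_pos _) (orderOf_pos _)
  obtain ⟨m, hm'⟩ : ∃ m, orderOf (gmat h k) * orderOf (gperm k) = m + 1 :=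
    ⟨_, (Nat.succ_pred_eq_of_pos hm).symm⟩
  have hg1 : gmat h k ^ (m + 1) = 1 := by rw [← hm', pow_mul, pow_orderOf_eq_one, one_pow]
  have hs1 : gperm k ^ (m + 1) = 1 := by
    rw [← hm', mul_comm, pow_mul, pow_orderOf_eq_one, one_pow]
  have h1 := hpow m (gperm k j)
  rw [← Equiv.Perm.mul_apply, ← pow_succ, hs1, Equiv.Perm.one_apply] at h1
  have h2 := Set.image_mono (f := UnitaryImage.subPerm 6 2 (gmat h k)) h1
  change img (gmat h k) (img (gmat h k ^ m) _) ⊆ img (gmat h k) _ at h2
  rwa [← img_mul, ← pow_succ', hg1, img_one] at h2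

theorem gperm_mem (k : Fin 8) : gperm k ∈ PG :=
  Subgroup.subset_closure ⟨pcode k, by rw [perms_list]; exact List.mem_ofFn.2 ⟨k, rfl⟩, gperm_rep k⟩

/-- The first frame. -/
theorem frame_zero_OK : ∀ i : Fin 6, ∀ t : Fin 6,
    UnitaryImage.fld code4 (UnitaryImage.rowVec (UnitaryImage.code points i) 0) t =
      if t = i.rev then 1 else 0 := by decide +kernel

theorem pt_first (h : S4 s) (i : Fin 6) : pt s i = Submodule.span F {Pi.single i.rev 1} := by
  rw [pt_eq_span]
  congr 2
  funext t
  rw [pvec, UnitaryImage.toVec, frame_zero_OK i t, Pi.single_apply]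
  split
  · exact UnitaryImage.iota_one (genOK h)
  · exact UnitaryImage.iota_zero

theorem mem_frame_zero (h : S4 s) {W : Submodule F (Fin 6 → F)} :
    W ∈ frame s 0 ↔ ∃ j : Fin 6, W = Submodule.span F {Pi.single j 1} := by
  constructor
  · rintro ⟨i, rfl⟩
    exact ⟨i.rev, by simpa using pt_first h i⟩
  · rintro ⟨j, rfl⟩
    exact ⟨j.rev, by simpa using pt_first h j.rev⟩

/-- Every other frame has a point off the coordinate axes. -/
noncomputable def offOK : Bool :=
  allBelow (fun k => Nat.beq k 0 || !allBelow (fun i =>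
    allBelow (fun t => allBelow (fun u => Nat.beq t u ||
      Nat.beq (UnitaryImage.fld code4
        (UnitaryImage.rowVec (UnitaryImage.code points (6 * k + i)) 0) t) 0 ||
      Nat.beq (UnitaryImage.fld code4
        (UnitaryImage.rowVec (UnitaryImage.code points (6 * k + i)) 0) u) 0) 6) 6) 6) 112

theorem offOK_ok : offOK = true := by decide +kernel

theorem frame_eq_zero (h : S4 s) {k : Fin 112} (hk : frame s k = frame s 0) : k = 0 := by
  have hc := allBelow_spec offOK_ok k k.2
  rw [Bool.or_eq_true, Nat.beq_eq] at hc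
  rcases hc with hc | hc
  · exact Fin.ext hc
  exfalso
  rw [Bool.not_eq_true', ← Bool.not_eq_true] at hc
  refine hc (UnitaryImage.allBelow_of_forall fun i hi => UnitaryImage.allBelow_of_forall fun t ht =>
    UnitaryImage.allBelow_of_forall fun u hu => ?_)
  simp only [Bool.or_eq_true, Nat.beq_eq]
  by_contra hcon
  push_neg at hcon
  obtain ⟨⟨htu, hft⟩, hfu⟩ := hcon
  have hin : pt s (6 * (k : ℕ) + i) ∈ frame s k := ⟨⟨i, hi⟩, rfl⟩
  rw [hk] at hin
  obtain ⟨j, hj⟩ := (mem_frame_zero h).1 hin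
  have hmem : pvec s (6 * (k : ℕ) + i) ∈ pt s (6 * (k : ℕ) + i) := by
    rw [pt_eq_span]; exact Submodule.mem_span_singleton_self _
  rw [hj] at hmem
  obtain ⟨r, hr⟩ := Submodule.mem_span_singleton.1 hmem
  have key : ∀ v (hv : v < 6), UnitaryImage.fld code4
      (UnitaryImage.rowVec (UnitaryImage.code points (6 * (k : ℕ) + i)) 0) v ≠ 0 → v = j := by
    intro v hv hne
    by_contra hvj
    refine UnitaryImage.iota_ne_zero (genOK h) (UnitaryImage.fld_lt (genOK h) _ _) hne ?_
    have hv' := congrFun hr ⟨v, hv⟩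
    rw [Pi.smul_apply, Pi.single_apply, if_neg (fun e => hvj (congrArg Fin.val e)), smul_zero] at hv'
    exact hv'.symm
  exact htu ((key t ht hft).trans (key u hu hfu).symm)

theorem exists_lift (h : S4 s) {σ : Equiv.Perm (Fin 112)} (hσ : σ ∈ PG) :
    ∃ g ∈ K0 h, Moves s g σ := by
  induction hσ using Subgroup.closure_induction with
  | mem σ hσ =>
    obtain ⟨P, hP, hr⟩ := hσ
    rw [perms_list] at hP
    obtain ⟨k, rfl⟩ := List.mem_ofFn.1 hP
    exact ⟨_, gmat_mem h k, hr.unique (gperm_rep k) ▸ moves_gmat h k⟩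
  | one => exact ⟨1, one_mem _, Moves.one⟩
  | mul a b _ _ iha ihb =>
    obtain ⟨x, hx, hx'⟩ := iha
    obtain ⟨y, hy, hy'⟩ := ihb
    exact ⟨_, mul_mem hx hy, hx'.mul hy'⟩
  | inv a _ iha =>
    obtain ⟨x, hx, hx'⟩ := iha
    exact ⟨_, inv_mem hx, hx'.inv⟩

theorem transitive (k : Fin 112) : ∃ σ ∈ PG, (σ k : ℕ) = 0 :=
  transitive_of_tree perms_ok slp_ok chain_ok tree_length k

theorem frame_injective (h : S4 s) : Function.Injective (frame s) := by
  intro k l hkl
  obtain ⟨σ, hσ, hk⟩ := transitive k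
  obtain ⟨g, -, hg⟩ := exists_lift h hσ
  have h0 : σ k = 0 := Fin.ext hk
  refine σ.injective (h0.trans (frame_eq_zero h ?_).symm)
  rw [← hg l, ← hkl, hg k, h0]

theorem Moves.unique (h : S4 s) {g : SU 6 F 2} {σ τ : Equiv.Perm (Fin 112)} (hg : Moves s g σ)
    (hg' : Moves s g τ) : σ = τ :=
  Equiv.ext fun k => frame_injective h ((hg k).symm.trans (hg' k))

theorem exists_moves (h : S4 s) {g : SU 6 F 2} (hg : g ∈ K0 h) : ∃ σ ∈ PG, Moves s g σ := by
  induction hg using Subgroup.closure_induction with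
  | mem g hg => obtain ⟨k, rfl⟩ := hg; exact ⟨_, gperm_mem k, moves_gmat h k⟩
  | one => exact ⟨1, one_mem _, Moves.one⟩
  | mul a b _ _ iha ihb =>
    obtain ⟨x, hx, hx'⟩ := iha
    obtain ⟨y, hy, hy'⟩ := ihb
    exact ⟨_, mul_mem hx hy, hx'.mul hy'⟩
  | inv a _ iha =>
    obtain ⟨x, hx, hx'⟩ := iha
    exact ⟨_, inv_mem hx, hx'.inv⟩

/-- A frame moved by the product of powers of the diagonal generators. -/
def walk (c : Fin 5 → ZMod 3) (k : ℕ) : ℕ :=
  (get (pcode 0))^[(c 0).val] ((get (pcode 1))^[(c 1).val] ((get (pcode 2))^[(c 2).val]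
    ((get (pcode 3))^[(c 3).val] ((get (pcode 4))^[(c 4).val] k))))

theorem walk_moves : ∀ c : Fin 5 → ZMod 3,
    (∀ i, ext6 c i = ext6 c 0) ∨ ∃ k : Fin 112, walk c k ≠ k := by decide +kernel

theorem rep_pow {σ : Equiv.Perm (Fin 112)} {P : ℕ} (hσ : Rep σ P) :
    ∀ (n : ℕ) (k : Fin 112), ((σ ^ n) k : ℕ) = (get P)^[n] k
  | 0, k => rfl
  | n + 1, k => by
    rw [pow_succ', Equiv.Perm.mul_apply, Function.iterate_succ_apply', hσ, rep_pow hσ n k]

theorem fix_E (h : S4 s) {e : SU 6 F 2} (he : e ∈ E h) (hm : Moves s e 1) :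
    e ∈ Subgroup.center (SU 6 F 2) := by
  obtain ⟨c, rfl⟩ := E_eq_eprod h he
  rcases walk_moves c with hc | ⟨k, hk⟩
  · refine mem_center_of_const h (c := ext6 c 0) ?_
    have := isM_eprod h c
    rwa [show ext6 c = fun _ => ext6 c 0 from funext hc] at this
  · exfalso
    have hmv : Moves s (eprod h c) (gperm 0 ^ (c 0).val * (gperm 1 ^ (c 1).val *
        (gperm 2 ^ (c 2).val * (gperm 3 ^ (c 3).val * gperm 4 ^ (c 4).val)))) :=
      ((moves_gmat h 0).pow _).mul (((moves_gmat h 1).pow _).mul (((moves_gmat h 2).pow _).mul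
        (((moves_gmat h 3).pow _).mul ((moves_gmat h 4).pow _))))
    have h1 := congrArg Fin.val (Equiv.congr_fun (hmv.unique h hm) k)
    simp only [Equiv.Perm.mul_apply, Equiv.Perm.one_apply] at h1
    rw [rep_pow (gperm_rep 0), rep_pow (gperm_rep 1), rep_pow (gperm_rep 2),
      rep_pow (gperm_rep 3), rep_pow (gperm_rep 4)] at h1
    exact hk h1

/-- Exponents one and two at consecutive coordinates. -/
def e12 (k : Fin 6) : Fin 6 → ZMod 3 := fun x => if x = k then 1 else if x = k + 1 then 2 else 0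

theorem e12_fix : ∀ k a p q : Fin 6, ∀ c : ZMod 3, p ≠ q → e12 k a = e12 k k + c →
    e12 k p = e12 k (k + 2) + c → e12 k q = e12 k (k + 3) + c → a = k := by decide +kernel

theorem e12_sum : ∀ k, ∑ x, e12 k x = 0 := by decide +kernel

/-- A permutation shifting all these exponents by constants is trivial. -/
theorem perm_eq_one {ρ : Equiv.Perm (Fin 6)}
    (hρ : ∀ k, ∃ c, ∀ x, e12 k (ρ x) = e12 k x + c) : ρ = 1 := by
  refine Equiv.ext fun k => ?_
  obtain ⟨c, hc⟩ := hρ k
  refine e12_fix k (ρ k) (ρ (k + 2)) (ρ (k + 3)) c ?_ (hc _) (hc _) (hc _)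
  exact fun e => (by decide : ∀ k : Fin 6, k + 2 ≠ k + 3) k (ρ.injective e)

/-- The kernel of the action. -/
theorem fix_all (h : S4 s) {g : SU 6 F 2} (hgK : g ∈ K0 h) (hm : Moves s g 1) :
    g ∈ Subgroup.center (SU 6 F 2) := by
  have hfix : ∀ j : Fin 6, ∃ i : Fin 6, ∀ r, r ≠ i → entry g r j = 0 := fun j => by
    have hj : Submodule.span F {Pi.single j (1 : F)} ∈ frame s 0 := (mem_frame_zero h).2 ⟨j, rfl⟩
    have h1 : UnitaryImage.subPerm 6 2 g (Submodule.span F {Pi.single j (1 : F)}) ∈
        frame s 0 := by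
      have h0 := hm 0
      rw [Equiv.Perm.one_apply] at h0
      rw [← h0]; exact ⟨_, hj, rfl⟩
    obtain ⟨i, hi⟩ := (mem_frame_zero h).1 h1
    rw [UnitaryImage.subPerm_apply, Submodule.map_span, Set.image_singleton,
      Matrix.mulVecLin_apply, Matrix.mulVec_single_one] at hi
    obtain ⟨r, hr⟩ := Submodule.mem_span_singleton.1
      (hi ▸ Submodule.mem_span_singleton_self ((g.1 : Matrix (Fin 6) (Fin 6) F).col j))
    refine ⟨i, fun x hx => ?_⟩
    have := congrFun hr x
    rw [Pi.smul_apply, Pi.single_apply, if_neg hx, smul_zero] at this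
    exact this.symm
  choose row hrow using hfix
  have hdet : (g.1 : Matrix (Fin 6) (Fin 6) F).det ≠ 0 := by rw [g.1.2]; exact one_ne_zero
  have hsurj : Function.Surjective row := fun i => by
    by_contra hh
    push_neg at hh
    exact hdet (Matrix.det_eq_zero_of_row_eq_zero i fun j => hrow j i (Ne.symm (hh j)))
  let π : Equiv.Perm (Fin 6) := Equiv.ofBijective row
    ⟨Finite.injective_iff_surjective.2 hsurj, hsurj⟩
  have hne : ∀ j, entry g (π j) j ≠ 0 := fun j h0 =>
    hdet (Matrix.det_eq_zero_of_column_eq_zero j fun r => by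
      by_cases hr : r = π j
      · rw [hr]; exact h0
      · exact hrow j r hr)
  choose d hd using fun j => exists_ex h (hne j)
  have hg : IsM s g π d := fun i j => by
    split
    · rename_i hi; rw [hi, hd]
    · rename_i hi; exact hrow j i hi
  have hρ : π⁻¹ = 1 := perm_eq_one fun k => by
    obtain ⟨e, he⟩ := exists_isM h 1 (e12_sum k)
    have hcm : IsM s (g * e * g⁻¹ * e⁻¹) 1 (fun x => e12 k (π⁻¹ x) + -e12 k x) := by
      simpa using (hg.conj_eq h he).mul h (he.inv h)
    obtain ⟨σ, -, hσ⟩ := exists_moves h (E_le_K0 h ⟨_, he⟩)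
    have hm1 : Moves s (g * e * g⁻¹ * e⁻¹) 1 := by
      simpa using (((hm.mul hσ).mul hm.inv).mul hσ.inv)
    obtain ⟨c, hc⟩ := center_const h (fix_E h ⟨_, hcm⟩ hm1)
    obtain ⟨-, h2⟩ := hcm.perm_unique h hc
    exact ⟨c, fun x => by rw [← congrFun h2 x]; abel⟩
  rw [inv_eq_one] at hρ
  exact fix_E h ⟨d, hρ ▸ hg⟩ hm

theorem moves_center (h : S4 s) {z : SU 6 F 2} (hz : z ∈ Subgroup.center (SU 6 F 2)) :
    Moves s z 1 := fun k => by
  rw [img, Equiv.Perm.one_apply]
  conv_rhs => rw [← Set.image_id (frame s k)]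
  exact Set.image_congr fun W _ => UnitaryImage.subPerm_center h.card' (by norm_num) hz W

/-! ### The model in dimension four -/

theorem tables9_ok : UnitaryImage.tablesOK code9 = true := by decide +kernel

theorem distinct9_ok : UnitaryImage.distinctOK code9 4 2 112 lines [1280, 32776] = true := by
  decide +kernel

theorem mats9_ok : (mats9.zip (perms.map Prod.fst)).all
    (UnitaryImage.imageOK code9 4 2 112 lines) = true := by decide +kernel

theorem mats9_map : (mats9.zip (perms.map Prod.fst)).map Prod.snd = perms.map Prod.fst := by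
  decide +kernel

theorem le_card_PG : 3265920 ≤ Nat.card PG :=
  le_of_eq_of_le chain_size.symm (le_card_genGroup perms_ok slp_ok chain_ok)

theorem exists_iso9 (F9 : Type) [Field F9] [Fintype F9] (hF9 : Fintype.card F9 = 9) :
    Nonempty (PSU 4 F9 3 ≃* PG) := by
  obtain ⟨t, ht, htp⟩ := UnitaryImageFields.gen_nine hF9
  have hgen : UnitaryImage.GenOK code9 t :=
    { tables := tables9_ok
      char := UnitaryImageFields.cast_char (k := 2) Nat.prime_three (by rw [hF9]; rfl)
      sq := by simp [code9, ht]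
      frob := by simpa [code9] using htp
      prime := Nat.prime_three }
  obtain ⟨e⟩ := UnitaryImage.exists_iso hgen (n := 4) (r := 2) (N := 112) (by norm_num)
    (show Fintype.card F9 = 3 ^ 2 by rw [hF9]; rfl) lines [1280, 32776] distinct9_ok
    (mats9.zip (perms.map Prod.fst)) mats9_ok
    (by rw [mats9_map]; exact transitive) (M := 3265920) (by rw [mats9_map]; exact le_card_PG)
    (UnitaryImageFields.card_PSU43 hF9)
  exact ⟨e.trans (MulEquiv.subgroupCongr (congrArg (genGroup 112) mats9_map))⟩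

/-- The subgroup covers the simple group with the scalars as kernel. -/
theorem exists_hom (h : S4 s) (F9 : Type) [Field F9] [Fintype F9] (hF9 : Fintype.card F9 = 9) :
    ∃ f : K0 h →* PSU 4 F9 3, Function.Surjective f ∧
      ∀ x, f x = 1 ↔ (x : SU 6 F 2) ∈ Subgroup.center (SU 6 F 2) := by
  choose p hp hmv using fun x : K0 h => exists_moves h x.2
  let φ : K0 h →* PG := MonoidHom.mk' (fun x => ⟨p x, hp x⟩) fun a b =>
    Subtype.ext ((hmv (a * b)).unique h ((hmv a).mul (hmv b)))
  obtain ⟨e⟩ := exists_iso9 F9 hF9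
  refine ⟨e.symm.toMonoidHom.comp φ, e.symm.surjective.comp fun σ => ?_, fun x => ?_⟩
  · obtain ⟨g, hg, hgσ⟩ := exists_lift h σ.2
    exact ⟨⟨g, hg⟩, Subtype.ext ((hmv ⟨g, hg⟩).unique h hgσ)⟩
  · rw [MonoidHom.comp_apply, MulEquiv.coe_toMonoidHom, EmbeddingLike.map_eq_one_iff,
      Subtype.ext_iff]
    change p x = 1 ↔ _
    exact ⟨fun hx => fix_all h x.2 (hx ▸ hmv x), fun hx => (hmv x).unique h (moves_center h hx)⟩

/-- An element commuting with the subgroup is central. -/
theorem central_of_commutes (h : S4 s) {z : SU 6 F 2} (hz : ∀ x ∈ K0 h, x * z = z * x) :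
    z ∈ Subgroup.center (SU 6 F 2) := by
  obtain ⟨π, d, hd⟩ := mem_Mon_of_normalizes h (g := z) fun e he => by
    rw [← hz e (E_le_K0 h he), mul_inv_cancel_right]; exact he
  have hρ : π⁻¹ = 1 := perm_eq_one fun k => by
    obtain ⟨e, he⟩ := exists_isM h 1 (e12_sum k)
    have h1 := hd.conj_eq h he
    rw [← hz e (E_le_K0 h ⟨_, he⟩), mul_inv_cancel_right] at h1
    obtain ⟨-, h2⟩ := he.perm_unique h h1
    exact ⟨0, fun x => by rw [add_zero]; exact (congrFun h2 x).symm⟩
  rw [inv_eq_one] at hρ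
  subst hρ
  have hinv : ∀ {k : Fin 8} {σ : Equiv.Perm (Fin 6)}, IsM s (gmat h k) σ 0 →
      ∀ x, d (σ x) = d x := fun {k σ} hk x => by
    have h1 := hd.mul h hk
    have h2 := hk.mul h hd
    rw [hz _ (gmat_mem h k)] at h2
    simpa using congrFun (h1.perm_unique h h2).2 x
  have ha := hinv (isM_ca h)
  have hb := hinv (isM_c5 h)
  refine mem_center_of_const h (c := d 0) ?_
  have hd0 : d = fun _ => d 0 := by
    funext x
    have a0 := ha 0; have a1 := ha 1; have b1 := hb 1; have b2 := hb 2; have b3 := hb 3; have b4 := hb 4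
    simp only [show ca 0 = 1 by decide, show ca 1 = 2 by decide, show c5 1 = 2 by decide,
      show c5 2 = 3 by decide, show c5 3 = 4 by decide, show c5 4 = 5 by decide] at a0 a1 b1 b2 b3 b4
    fin_cases x
    · rfl
    · exact a0
    · exact a1.trans a0
    · exact b2.trans (a1.trans a0)
    · exact b3.trans (b2.trans (a1.trans a0))
    · exact b4.trans (b3.trans (b2.trans (a1.trans a0)))
  rwa [← hd0]

end Cfsg.Agent.U62Existence93
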