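import Mathlib
import Cfsg.Agent.Lib.LFCheck89
import Cfsg.Agent.Lib.U62Existence93

/-!
The coded vectors and linear maps as vectors and matrices over the field with four elements, and
the coded Sylow 2-subgroup inside the group generated by the eight generators.
-/

set_option autoImplicit false
set_option maxRecDepth 100000

namespace Cfsg.Agent.LFMat89

open Cfsg Cfsg.Agent.LFData89 Cfsg.Agent.LFCheck89 Cfsg.Agent.U62Mon93 Cfsg.Agent.U62Existence93
open scoped Matrix

theorem dig_lt (c i : ℕ) : dig c i < 4 := by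
  show (c >>> (2 * i)) &&& 3 < 4
  exact Nat.lt_succ_of_le Nat.and_le_right

theorem col_lt (g i : ℕ) : col g i < 4096 := by
  show (g >>> (12 * i)) &&& 4095 < 4096
  exact Nat.lt_succ_of_le Nat.and_le_right

theorem dig_xor (a b i : ℕ) : dig (Nat.xor a b) i = Nat.xor (dig a i) (dig b i) := by
  show ((a ^^^ b) >>> (2 * i)) &&& 3 = ((a >>> (2 * i)) &&& 3) ^^^ ((b >>> (2 * i)) &&& 3)
  rw [Nat.shiftRight_xor_distrib, Nat.and_xor_distrib_right]

theorem xor_lt {a b : ℕ} (ha : a < 4096) (hb : b < 4096) : Nat.xor a b < 4096 :=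
  Nat.xor_lt_two_pow (n := 12) ha hb

theorem scal_table : allBelow (fun c => Nat.blt (scal c) 4096 && allBelow (fun i =>
    Nat.beq (dig (scal c) i) ([0, 2, 3, 1].getD (dig c i) 0)) 6) 4096 = true := by decide +kernel

theorem scal_spec {c : ℕ} (hc : c < 4096) :
    scal c < 4096 ∧ ∀ i < 6, dig (scal c) i = [0, 2, 3, 1].getD (dig c i) 0 := by
  have h := allBelow_spec scal_table c hc
  simp only [Bool.and_eq_true, Nat.blt_eq] at h
  exact ⟨h.1, fun i hi => Nat.eq_of_beq_eq_true (allBelow_spec h.2 i hi)⟩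

theorem recon_table : allBelow (fun c => Nat.beq c (dig c 0 + 4 * dig c 1 + 16 * dig c 2 +
    64 * dig c 3 + 256 * dig c 4 + 1024 * dig c 5)) 4096 = true := by decide +kernel

theorem sel_lt (d : ℕ) {x : ℕ} (hx : x < 4096) : sel d x < 4096 := by
  rcases d with _ | _ | _ | d
  · exact Nat.succ_pos _
  · exact hx
  · exact (scal_spec hx).1
  · exact (scal_spec (scal_spec hx).1).1

theorem app_lt (g c : ℕ) : app g c < 4096 := by
  unfold app
  have h : ∀ i, sel (dig c i) (col g i) < 4096 := fun i => sel_lt _ (col_lt g i)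
  exact xor_lt (xor_lt (xor_lt (xor_lt (xor_lt (h 0) (h 1)) (h 2)) (h 3)) (h 4)) (h 5)

theorem col_eq (g i : ℕ) : col g i = g / 2 ^ (12 * i) % 4096 := by
  show (g >>> (12 * i)) &&& 4095 = _
  rw [Nat.shiftRight_eq_div_pow, show (4095 : ℕ) = 2 ^ 12 - 1 by norm_num,
    Nat.and_two_pow_sub_one_eq_mod]

theorem mulM_eq (g h : ℕ) : mulM g h =
    app g (col h 0) + app g (col h 1) * 2 ^ 12 + app g (col h 2) * 2 ^ 24 +
      app g (col h 3) * 2 ^ 36 + app g (col h 4) * 2 ^ 48 + app g (col h 5) * 2 ^ 60 := by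
  have hs : ∀ a k : ℕ, Nat.shiftLeft a k = a * 2 ^ k := fun a k => Nat.shiftLeft_eq a k
  unfold mulM
  rw [hs, hs, hs, hs, hs]

theorem mulM_lt (g h : ℕ) : mulM g h < 2 ^ 72 := by
  rw [mulM_eq]
  have := app_lt g (col h 0)
  have := app_lt g (col h 1)
  have := app_lt g (col h 2)
  have := app_lt g (col h 3)
  have := app_lt g (col h 4)
  have := app_lt g (col h 5)
  omega

theorem col_mulM (g h : ℕ) : ∀ j < 6, col (mulM g h) j = app g (col h j) := by
  intro j hj
  have := app_lt g (col h 0)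
  have := app_lt g (col h 1)
  have := app_lt g (col h 2)
  have := app_lt g (col h 3)
  have := app_lt g (col h 4)
  have := app_lt g (col h 5)
  rw [col_eq, mulM_eq]
  interval_cases j <;> omega

theorem eq_of_col {g h : ℕ} (hg : g < 2 ^ 72) (hh : h < 2 ^ 72) (e : ∀ j < 6, col g j = col h j) :
    g = h := by
  have h0 := e 0 (by norm_num)
  have h1 := e 1 (by norm_num)
  have h2 := e 2 (by norm_num)
  have h3 := e 3 (by norm_num)
  have h4 := e 4 (by norm_num)
  have h5 := e 5 (by norm_num)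
  rw [col_eq, col_eq] at h0 h1 h2 h3 h4 h5
  omega

variable {F : Type} [Field F] [Fintype F] {s : F}

theorem iota_xor (h : S4 s) {x y : ℕ} (hx : x < 4) (hy : y < 4) :
    UnitaryImage.iota code4 s (Nat.xor x y) =
      UnitaryImage.iota code4 s x + UnitaryImage.iota code4 s y := by
  rw [← (UnitaryImage.iota_add (genOK h) (x := x) (y := y) hx hy).1]
  congr 1
  revert hy; revert y; revert hx; revert x
  decide +kernel

theorem iota_scal (h : S4 s) {x : ℕ} (hx : x < 4) :
    UnitaryImage.iota code4 s ([0, 2, 3, 1].getD x 0) = s * UnitaryImage.iota code4 s x := by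
  have h2 : UnitaryImage.iota code4 s 2 = s := by simp [UnitaryImage.iota, code4]
  conv_rhs => arg 1; rw [← h2]
  rw [← (UnitaryImage.iota_mul (genOK h) (x := 2) (y := x) (by decide) hx).1]
  congr 1
  revert hx; revert x
  decide +kernel

theorem iota_inj (h : S4 s) {x y : ℕ} (hx : x < 4) (hy : y < 4)
    (e : UnitaryImage.iota code4 s x = UnitaryImage.iota code4 s y) : x = y := by
  have h0 : UnitaryImage.iota code4 s (Nat.xor x y) = 0 := by
    rw [iota_xor h hx hy, e, ← two_mul, h.two, zero_mul]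
  by_contra hne
  refine UnitaryImage.iota_ne_zero (genOK h) (x := Nat.xor x y) ?_ ?_ h0
  · exact Nat.xor_lt_two_pow (n := 2) hx hy
  · exact fun e' => hne (Nat.xor_eq_zero_iff.1 e')

/-- The vector of a code. -/
def vec (s : F) (c : ℕ) : Fin 6 → F := fun i => UnitaryImage.iota code4 s (dig c i)

/-- The matrix of six columns. -/
def matOf (s : F) (g : ℕ) : Matrix (Fin 6) (Fin 6) F := Matrix.of fun i j => vec s (col g j) i

theorem vec_xor (h : S4 s) (a b : ℕ) : vec s (Nat.xor a b) = vec s a + vec s b := funext fun i => by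
  show UnitaryImage.iota code4 s (dig _ i) = _
  rw [dig_xor, iota_xor h (dig_lt _ _) (dig_lt _ _)]
  rfl

theorem vec_zero : vec s 0 = 0 := funext fun i => by
  show UnitaryImage.iota code4 s (dig 0 i) = 0
  rw [show dig 0 i = 0 by show (0 >>> _) &&& 3 = 0; simp]
  exact UnitaryImage.iota_zero

theorem vec_scal (h : S4 s) {c : ℕ} (hc : c < 4096) : vec s (scal c) = s • vec s c := funext fun i => by
  show UnitaryImage.iota code4 s (dig (scal c) i) = s * _
  rw [(scal_spec hc).2 i i.2, iota_scal h (dig_lt _ _)]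
  rfl

theorem vec_sel (h : S4 s) {d x : ℕ} (hd : d < 4) (hx : x < 4096) :
    vec s (sel d x) = UnitaryImage.iota code4 s d • vec s x := by
  interval_cases d
  · rw [show sel 0 x = 0 from rfl, vec_zero, UnitaryImage.iota_zero, zero_smul]
  · rw [show sel 1 x = x from rfl, UnitaryImage.iota_one (genOK h), one_smul]
  · rw [show sel 2 x = scal x from rfl, vec_scal h hx]
    congr 1
    simp [UnitaryImage.iota, code4]
  · rw [show sel 3 x = scal (scal x) from rfl, vec_scal h (scal_spec hx).1, vec_scal h hx, smul_smul]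
    congr 1
    rw [← pow_two, h.sq]
    simp [UnitaryImage.iota, code4, add_comm]

theorem vec_inj (h : S4 s) {a b : ℕ} (ha : a < 4096) (hb : b < 4096) (e : vec s a = vec s b) :
    a = b := by
  have hd : ∀ i < 6, dig a i = dig b i := fun i hi =>
    iota_inj h (dig_lt _ _) (dig_lt _ _) (congrFun e ⟨i, hi⟩)
  rw [Nat.eq_of_beq_eq_true (allBelow_spec recon_table a ha),
    Nat.eq_of_beq_eq_true (allBelow_spec recon_table b hb), hd 0 (by norm_num), hd 1 (by norm_num),
    hd 2 (by norm_num), hd 3 (by norm_num), hd 4 (by norm_num), hd 5 (by norm_num)]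

/-- Codes and vectors correspond. -/
noncomputable def vecEquiv (h : S4 s) : Fin 4096 ≃ (Fin 6 → F) :=
  Equiv.ofBijective (fun c => vec s c) ((Fintype.bijective_iff_injective_and_card _).2
    ⟨fun a b e => Fin.ext (vec_inj h a.2 b.2 e), by rw [Fintype.card_fun, h.card]; rfl⟩)

theorem exists_vec (h : S4 s) (v : Fin 6 → F) : ∃ c < 4096, vec s c = v :=
  ⟨_, ((vecEquiv h).symm v).2, (vecEquiv h).apply_symm_apply v⟩

theorem vec_app (h : S4 s) (g c : ℕ) : vec s (app g c) = matOf s g *ᵥ vec s c := by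
  funext i
  simp only [app, vec_xor h, vec_sel h (dig_lt _ _) (col_lt _ _), Pi.add_apply, Pi.smul_apply,
    smul_eq_mul, Matrix.mulVec, dotProduct, Fin.sum_univ_six, matOf, Matrix.of_apply]
  simp only [vec, Fin.isValue, Fin.val_zero, Fin.val_one, Fin.val_two,
    show ((3 : Fin 6) : ℕ) = 3 from rfl, show ((4 : Fin 6) : ℕ) = 4 from rfl,
    show ((5 : Fin 6) : ℕ) = 5 from rfl]
  ring

theorem matOf_mul (h : S4 s) (g k : ℕ) : matOf s (mulM g k) = matOf s g * matOf s k := by
  ext i j
  show vec s (col (mulM g k) j) i = _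
  rw [col_mulM g k j j.2, vec_app h]
  rfl

theorem matOf_id (h : S4 s) : matOf s idM = 1 := by
  ext i j
  have e : ∀ i j : Fin 6, dig (col idM j) i = if i = j then 1 else 0 := by decide +kernel
  show UnitaryImage.iota code4 s (dig (col idM j) i) = _
  rw [e, Matrix.one_apply]
  split
  · exact UnitaryImage.iota_one (genOK h)
  · exact UnitaryImage.iota_zero

theorem matOf_inj (h : S4 s) {g k : ℕ} (hg : g < 2 ^ 72) (hk : k < 2 ^ 72)
    (e : matOf s g = matOf s k) : g = k :=
  eq_of_col hg hk fun j hj => vec_inj h (col_lt _ _) (col_lt _ _) (funext fun i =>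
    congrFun (congrFun e i) ⟨j, hj⟩)

theorem genC_ent : ∀ k : Fin 8, ∀ i j : Fin 6,
    dig (col (genC.getD k 0) j) i = UnitaryImage.ent code4 6 (mcode k) i j := by decide +kernel

theorem matOf_gen (h : S4 s) (k : Fin 8) : matOf s (genC.getD k 0) = (gmat h k).1 := by
  ext i j
  show UnitaryImage.iota code4 s (dig (col (genC.getD k 0) j) i) = _
  rw [genC_ent]
  exact (gmat_entry h k i j).symm

theorem word_mem (h : S4 s) : ∀ w : List ℕ, w.all (fun x => Nat.blt x 8) = true →
    ∃ g ∈ K0 h, (g.1 : Matrix (Fin 6) (Fin 6) F) = matOf s (word w)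
  | [], _ => ⟨1, one_mem _, by rw [word, List.foldr_nil, matOf_id h]; rfl⟩
  | k :: w, hw => by
    rw [List.all_cons, Bool.and_eq_true, Nat.blt_eq] at hw
    obtain ⟨g, hg, e⟩ := word_mem h w hw.2
    refine ⟨gmat h ⟨k, hw.1⟩ * g, mul_mem (gmat_mem h _) hg, ?_⟩
    show (gmat h ⟨k, hw.1⟩).1.1 * g.1.1 = matOf s (mulM (genC.getD k 0) (word w))
    rw [matOf_mul h, e]
    congr 1
    exact (matOf_gen h ⟨k, hw.1⟩).symm

theorem qpar_eq (h : S4 s) (c : ℕ) :
    hermForm 6 F 2 (vec s c) (vec s c) = if qpar c then 1 else 0 := by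
  have hx : ∀ x < 4, UnitaryImage.iota code4 s x * UnitaryImage.iota code4 s x ^ 2 =
      if (!Nat.beq x 0) then 1 else 0 := by
    intro x hx
    rw [← pow_succ', show 2 + 1 = 3 from rfl]
    by_cases h0 : x = 0
    · subst h0; simp [UnitaryImage.iota_zero]
    · obtain ⟨a, ha⟩ := exists_ex h (UnitaryImage.iota_ne_zero (genOK h) (x := x) hx h0)
      have hb : (!Nat.beq x 0) = true := by
        cases hb : Nat.beq x 0
        · rfl
        · exact absurd (Nat.eq_of_beq_eq_true hb) h0
      rw [ha, ex_cube h a, if_pos hb]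
  have h11 : (1 : F) + 1 = 0 := by rw [one_add_one_eq_two]; exact h.two
  have key : ∀ b0 b1 b2 b3 b4 b5 : Bool,
      (if b0 then (1 : F) else 0) + (if b1 then 1 else 0) + (if b2 then 1 else 0) +
          (if b3 then 1 else 0) + (if b4 then 1 else 0) + (if b5 then 1 else 0) =
        if (xor b0 (xor b1 (xor b2 (xor b3 (xor b4 (xor b5 false)))))) then 1 else 0 := by
    intro b0 b1 b2 b3 b4 b5
    cases b0 <;> cases b1 <;> cases b2 <;> cases b3 <;> cases b4 <;> cases b5 <;> simp [h11]
  simp only [hermForm, vec, Fin.sum_univ_six, hx _ (dig_lt _ _)]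
  exact key _ _ _ _ _ _

/-! ### The Sylow subgroup -/

theorem el_bound : ∀ i < 128, el i < 2 ^ 72 := by decide +kernel

theorem el_mul (h : S4 s) : ∀ j < 128, ∀ i < 128,
    tab i j < 128 ∧ matOf s (el i) * matOf s (el j) = matOf s (el (tab i j)) := by
  intro j
  induction j using Nat.strong_induction_on with
  | _ j ih =>
    intro hj i hi
    have ht : ∀ a b, tab a b < 128 := fun a b => by
      show (_ &&& 127) < 128
      exact Nat.lt_succ_of_le Nat.and_le_right
    refine ⟨ht _ _, ?_⟩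
    have hstep := allBelow_spec tabStep_ok i hi
    simp only [Bool.and_eq_true, Nat.beq_eq] at hstep
    rcases Nat.eq_zero_or_pos j with rfl | hpos
    · rw [hstep.1, el_zero, matOf_id h, mul_one]
    · obtain ⟨k, hk1, hk2⟩ : ∃ k, 2 ^ k ≤ j ∧ j < 2 ^ (k + 1) :=
        ⟨Nat.log 2 j, Nat.pow_log_le_self 2 hpos.ne', Nat.lt_pow_succ_log_self one_lt_two j⟩
      have hk : k < 7 := (Nat.pow_lt_pow_iff_right (by norm_num : 1 < 2)).1
        (lt_of_le_of_lt hk1 (show j < 2 ^ 7 from hj))
      obtain ⟨j', rfl⟩ := Nat.exists_eq_add_of_le hk1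
      have hj' : j' < 2 ^ k := by rw [pow_succ] at hk2; omega
      have e1 := allBelow_spec (allBelow_spec elStep_ok k hk) j' hj'
      have e2 := allBelow_spec hstep.2 k hk
      simp only [Bool.and_eq_true, Nat.beq_eq] at e1 e2
      have e3 := allBelow_spec e2.2 j' hj'
      simp only [Nat.beq_eq] at e3
      have hp : 0 < 2 ^ k := Nat.two_pow_pos k
      rw [e1, matOf_mul h, ← mul_assoc, ← matOf_mul h, e2.1, e3]
      exact (ih j' (by omega) (by omega) _ (ht _ _)).2

theorem el_mem (h : S4 s) : ∀ i < 128,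
    ∃ g ∈ K0 h, (g.1 : Matrix (Fin 6) (Fin 6) F) = matOf s (el i) := by
  intro i
  induction i using Nat.strong_induction_on with
  | _ i ih =>
    intro hi
    rcases Nat.eq_zero_or_pos i with rfl | hpos
    · exact ⟨1, one_mem _, by rw [el_zero, matOf_id h]; rfl⟩
    · obtain ⟨k, hk1, hk2⟩ : ∃ k, 2 ^ k ≤ i ∧ i < 2 ^ (k + 1) :=
        ⟨Nat.log 2 i, Nat.pow_log_le_self 2 hpos.ne', Nat.lt_pow_succ_log_self one_lt_two i⟩
      have hk : k < 7 := (Nat.pow_lt_pow_iff_right (by norm_num : 1 < 2)).1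
        (lt_of_le_of_lt hk1 (show i < 2 ^ 7 from hi))
      obtain ⟨j, rfl⟩ := Nat.exists_eq_add_of_le hk1
      have hj : j < 2 ^ k := by rw [pow_succ] at hk2; omega
      obtain ⟨a, ha, ea⟩ := ih j (by have := Nat.two_pow_pos k; omega) (by omega)
      obtain ⟨hw1, hw2⟩ := sylWord_ok k hk
      obtain ⟨b, hb, eb⟩ := word_mem h _ hw1
      refine ⟨b * a, mul_mem hb ha, ?_⟩
      rw [Nat.eq_of_beq_eq_true (allBelow_spec (allBelow_spec elStep_ok k hk) j hj), matOf_mul h,
        ← hw2, ← ea, ← eb]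
      rfl

theorem el_inj (h : S4 s) {i j : ℕ} (hi : i < 128) (hj : j < 128)
    (e : matOf s (el i) = matOf s (el j)) : i = j := by
  have he := matOf_inj h (el_bound i hi) (el_bound j hj) e
  by_contra hne
  rcases Nat.lt_or_gt_of_ne hne with hl | hl
  · have := allBelow_spec (allBelow_spec elDistinct_ok j hj) i hl
    simp [he] at this
  · have := allBelow_spec (allBelow_spec elDistinct_ok i hi) j hl
    simp [he] at this

end Cfsg.Agent.LFMat89
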