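import Cfsg.Agent.Lib.U62Twist93

/-!
Every subgroup of SU(6,2) containing the chosen Sylow 3-subgroup and covering PSU(4,3) with the
scalars as kernel is one of the three twists; two twists are conjugate only if they are equal.
-/

set_option autoImplicit false
set_option linter.style.haveILetI false
set_option linter.unusedSectionVars false
set_option maxHeartbeats 2000000

namespace Cfsg.Agent.U62Classify93

open Cfsg Cfsg.Agent.OrthUnitaryHerm Cfsg.Agent.U62Mon93 Cfsg.Agent.U62Existence93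
open Cfsg.Agent.U62Twist93
open scoped Matrix

/-- Subgroups of order `p ^ n` in a group with cofactor prime to `p` are conjugate. -/
theorem exists_conj {G : Type*} [Group G] [Finite G] {p n m : ℕ} [Fact p.Prime]
    (hG : Nat.card G = p ^ n * m) (hm : ¬ p ∣ m) {A B : Subgroup G}
    (hA : Nat.card A = p ^ n) (hB : Nat.card B = p ^ n) :
    ∃ g : G, A.map (MulAut.conj g).toMonoidHom = B := by
  have hfac : (Nat.card G).factorization p = n := by
    have hm0 : m ≠ 0 := fun e => hm (e ▸ dvd_zero p)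
    rw [hG, Nat.factorization_mul (pow_ne_zero _ (Fact.out : p.Prime).ne_zero) hm0,
      Finsupp.add_apply, (Fact.out : p.Prime).factorization_pow, Finsupp.single_eq_same,
      Nat.factorization_eq_zero_of_not_dvd hm, add_zero]
  let P : Sylow p G := Sylow.ofCard A (by rw [hA, hfac])
  let Q : Sylow p G := Sylow.ofCard B (by rw [hB, hfac])
  obtain ⟨g, hg⟩ := MulAction.exists_smul_eq G P Q
  refine ⟨g, ?_⟩
  have := congrArg (fun R : Sylow p G => (R : Subgroup G)) hg
  simp only [Sylow.coe_subgroup_smul, P, Q, Sylow.coe_ofCard] at this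
  exact this

variable {F : Type} [Field F] [Fintype F] {s : F}
variable {Q : Type*} [Group Q]

/-- A cover of `Q` with the scalars as kernel. -/
def Cover (K : Subgroup (SU 6 F 2)) (f : K →* Q) : Prop :=
  Function.Surjective f ∧ ∀ x, f x = 1 ↔ (x : SU 6 F 2) ∈ Subgroup.center (SU 6 F 2)

/-- The image of a subgroup. -/
def im {K : Subgroup (SU 6 F 2)} (f : K →* Q) (A : Subgroup (SU 6 F 2)) : Subgroup Q :=
  (A.subgroupOf K).map f

theorem mem_im {K : Subgroup (SU 6 F 2)} (f : K →* Q) {A : Subgroup (SU 6 F 2)} {x : K}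
    (hx : (x : SU 6 F 2) ∈ A) : f x ∈ im f A := Subgroup.mem_map_of_mem f hx

theorem im_mono {K : Subgroup (SU 6 F 2)} (f : K →* Q) {A B : Subgroup (SU 6 F 2)} (hAB : A ≤ B) :
    im f A ≤ im f B := Subgroup.map_mono fun _ hx => hAB hx

theorem mem_of_im {K : Subgroup (SU 6 F 2)} {f : K →* Q} (hf : Cover K f)
    {A : Subgroup (SU 6 F 2)} (hZ : Subgroup.center (SU 6 F 2) ≤ A) {x : K}
    (hx : f x ∈ im f A) : (x : SU 6 F 2) ∈ A := by
  obtain ⟨y, hy, hxy⟩ := hx
  have h1 : f (y⁻¹ * x) = 1 := by rw [map_mul, map_inv, hxy, inv_mul_cancel]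
  simpa using mul_mem (Subgroup.mem_subgroupOf.1 hy) (hZ ((hf.2 _).1 h1))

theorem card_im (h : S4 s) {K : Subgroup (SU 6 F 2)} {f : K →* Q} (hf : Cover K f)
    {A : Subgroup (SU 6 F 2)} (hZ : Subgroup.center (SU 6 F 2) ≤ A) (hA : A ≤ K) :
    Nat.card (im f A) * 3 = Nat.card A := by
  let ψ : A →* Q := f.comp (Subgroup.inclusion hA)
  have hr : ψ.range = im f A := by
    ext q
    constructor
    · rintro ⟨a, rfl⟩; exact mem_im f a.2
    · rintro ⟨y, hy, rfl⟩; exact ⟨⟨y.1, hy⟩, rfl⟩
  have hk : ψ.ker = (Subgroup.center (SU 6 F 2)).subgroupOf A := by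
    ext a; rw [MonoidHom.mem_ker, Subgroup.mem_subgroupOf]; exact hf.2 _
  rw [← hr, ← card_center h, ← Nat.card_congr (Subgroup.subgroupOfEquivOfLe hZ).toEquiv, ← hk,
    ← Subgroup.index_ker ψ]
  exact Subgroup.index_mul_card _

theorem card_cover (h : S4 s) {K : Subgroup (SU 6 F 2)} {f : K →* Q} (hf : Cover K f)
    (hZ : Subgroup.center (SU 6 F 2) ≤ K) : Nat.card K = Nat.card Q * 3 := by
  rw [← card_im h hf hZ le_rfl, im, Subgroup.subgroupOf_self,
    Subgroup.map_top_of_surjective f hf.1, Subgroup.card_top]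

theorem center_le_T (h : S4 s) : Subgroup.center (SU 6 F 2) ≤ T h :=
  (center_le_E h).trans (E_le_T h)

theorem cover_Kc (h : S4 s) (c : ZMod 3) (F9 : Type) [Field F9] [Fintype F9]
    (hF9 : Fintype.card F9 = 9) : ∃ f : Kc h c →* PSU 4 F9 3, Cover (Kc h c) f :=
  exists_hom_Kc h c F9 hF9

/-! ### Columns -/

/-- The first three coordinates. -/
def blk (i : Fin 6) : Bool := decide ((i : ℕ) < 3)

/-- The coordinates of a block. -/
def rw3 (β : Bool) (m : Fin 3) : Fin 6 :=
  ⟨(bif β then 0 else 3) + (m : ℕ), by cases β <;> simp only [cond_true, cond_false] <;> omega⟩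

theorem blk_rw3 : ∀ β m, blk (rw3 β m) = β := by decide

theorem exists_rw3 : ∀ i, ∃ m, rw3 (blk i) m = i := by decide

theorem sum_block {M : Type*} [AddCommMonoid M] (β : Bool) {f : Fin 6 → M}
    (hf : ∀ i, blk i ≠ β → f i = 0) :
    ∑ i, f i = f (rw3 β 0) + f (rw3 β 1) + f (rw3 β 2) := by
  rw [Fin.sum_univ_six]
  cases β
  · rw [hf 0 (by decide), hf 1 (by decide), hf 2 (by decide),
      show rw3 false 0 = 3 from rfl, show rw3 false 1 = 4 from rfl, show rw3 false 2 = 5 from rfl]
    simp [add_assoc]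
  · rw [hf 3 (by decide), hf 4 (by decide), hf 5 (by decide),
      show rw3 true 0 = 0 from rfl, show rw3 true 1 = 1 from rfl, show rw3 true 2 = 2 from rfl]
    simp

/-- The orthonormality of the columns. -/
theorem col_orth (h : S4 s) (g : SU 6 F 2) (k l : Fin 6) :
    ∑ i, entry g i k * entry g i l ^ 2 = if k = l then 1 else 0 := by
  have h1 := isU_of_mem_SU g (Pi.single k 1) (Pi.single l 1)
  rw [herm_single_right h.card'] at h1
  simp only [hermForm, Matrix.mulVec_single_one, Matrix.col_apply] at h1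
  rw [Pi.single_apply] at h1
  simp only [entry, h1, eq_comm (a := k) (b := l)]

/-- If every column of `j` is an eigenvector of `g` then the conjugate of `g` by `j` is diagonal. -/
theorem mem_E_of_eigen (h : S4 s) {g j : SU 6 F 2} (μ : Fin 6 → ZMod 3)
    (hg : ∀ r l, entry (g * j) r l = entry j r l * ex s (μ l)) : j⁻¹ * g * j ∈ E h := by
  refine ⟨μ, fun r l => ?_⟩
  rw [mul_assoc, entry_mul]
  simp only [hg, ← mul_assoc]
  rw [← Finset.sum_mul, ← entry_mul, inv_mul_cancel, entry_one, Equiv.Perm.one_apply]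
  split <;> simp

/-- The code of the last generator. -/
def uC (i l : Fin 6) : ℕ :=
  if blk i = blk l then (if blk i then (if i = l then 2 else 3) else (if i = l then 3 else 2)) else 0

theorem uC_ok : ∀ i l : Fin 6, UnitaryImage.ent code4 6 (mcode 7) i l = uC i l := by decide +kernel

theorem u_entry (h : S4 s) (i l : Fin 6) : entry (gmat h 7) i l =
    if blk i = blk l then ((if i = l then 1 else 0) + (if blk i then s ^ 2 else s)) else 0 := by
  rw [gmat_entry, uC_ok]
  unfold uC
  split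
  · cases blk i <;> simp only [Bool.false_eq_true, if_true, if_false] <;> split
    all_goals
      simp [UnitaryImage.iota, code4]
    all_goals first
      | linear_combination h.sq
      | linear_combination -h.sq
      | linear_combination h.sq - (1 + s) * h.two
      | linear_combination -h.sq - h.two
      | linear_combination -h.sq + h.two
      | linear_combination h.sq + h.two
      | linear_combination h.sq - h.two
  · exact UnitaryImage.iota_zero

theorem dich : ∀ a b c : ZMod 3, a + b + c = 0 →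
    (b = a ∧ c = a) ∨ (b = a + 1 ∧ c = a + 2) ∨ (b = a + 2 ∧ c = a + 1) := by decide

/-- The vectors with exponent sum zero are eigenvectors of a block. -/
theorem block_eigen (h : S4 s) (β : Bool) {a b c : ZMod 3} (habc : a + b + c = 0) :
    ∃ μ : ZMod 3, ∀ x : F, (x = ex s a ∨ x = ex s b ∨ x = ex s c) →
      x + (if β then s ^ 2 else s) * (ex s a + ex s b + ex s c) = x * ex s μ := by
  rcases dich a b c habc with ⟨rfl, rfl⟩ | ⟨rfl, rfl⟩ | ⟨rfl, rfl⟩
  · refine ⟨if β then 1 else 2, fun x hx => ?_⟩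
    obtain rfl : x = ex s c := by rcases hx with h1 | h1 | h1 <;> exact h1
    cases β
    · simp only [Bool.false_eq_true, if_false, ex_two]
      linear_combination (-ex s c) * h.sq + s * ex s c * h.two
    · simp only [if_true, ex_one]
      linear_combination ex s c * h.sq + (ex s c + s ^ 2 * ex s c) * h.two
  · refine ⟨0, fun x _ => ?_⟩
    rw [ex_add h, ex_add h, ex_one, ex_two, ex_zero]
    linear_combination ((if β then s ^ 2 else s) * ex s a) * h.sq +
      (1 + s) * ((if β then s ^ 2 else s) * ex s a) * h.two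
  · refine ⟨0, fun x _ => ?_⟩
    rw [ex_add h, ex_add h, ex_one, ex_two, ex_zero]
    linear_combination ((if β then s ^ 2 else s) * ex s a) * h.sq +
      (1 + s) * ((if β then s ^ 2 else s) * ex s a) * h.two

theorem condU_block : ∀ c : Fin 5 → ZMod 3, CondU ca (ext6 c) → CondU cb (ext6 c) →
    ∀ i l, blk i = blk l → ext6 c i = ext6 c l := by decide +kernel

theorem P9_block : ∀ π : Equiv.Perm (Fin 6), π ∈ P9 → ∀ i, blk (π i) = blk i := by decide +kernel

/-- The exponents separating the blocks. -/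
def b0 : Fin 6 → ZMod 3 := fun i => if blk i then 1 else 2

/-! ### The key step -/

/-- A cover compatible with the first one on the Sylow subgroup gives one of the twists. -/
theorem eq_Kc_of_compatible (h : S4 s) {K : Subgroup (SU 6 F 2)} {f : K →* Q}
    {f0 : K0 h →* Q} (hf : Cover K f) (hf0 : Cover (K0 h) f0) (hTK : T h ≤ K)
    (hT : im f (T h) = im f0 (T h)) : ∃ a, K = Kc h a := by
  classical
  haveI : Finite (SU 6 F 2) := Subtype.finite
  have hEK : E h ≤ K := (E_le_T h).trans hTK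
  have hZK : Subgroup.center (SU 6 F 2) ≤ K := (center_le_T h).trans hTK
  -- the diagonal subgroup corresponds to itself
  have hE : im f (E h) = im f0 (E h) := by
    set A : Subgroup (SU 6 F 2) := ((im f0 (E h)).comap f).map K.subtype with hA
    have hAK : A ≤ K := Subgroup.map_subtype_le _
    have hmem : ∀ x : K, (x : SU 6 F 2) ∈ A ↔ f x ∈ im f0 (E h) := fun x =>
      Subgroup.mem_map_iff_mem K.subtype_injective
    have hZA : Subgroup.center (SU 6 F 2) ≤ A := fun z hz => by
      rw [hmem ⟨z, hZK hz⟩, (hf.2 ⟨z, hZK hz⟩).2 hz]; exact one_mem _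
    have him : im f A = im f0 (E h) := by
      apply le_antisymm
      · rintro _ ⟨y, hy, rfl⟩; exact (hmem y).1 hy
      · intro q hq
        obtain ⟨x, rfl⟩ := hf.1 q
        exact mem_im f ((hmem x).2 hq)
    have hAT : A ≤ T h := fun g hg => by
      refine mem_of_im hf (center_le_T h) (x := ⟨g, hAK hg⟩) ?_
      rw [hT]
      exact im_mono f0 (E_le_T h) ((hmem ⟨g, hAK hg⟩).1 hg)
    have hcard : Nat.card A = 243 := by
      rw [← card_im h hf hZA hAK, him, card_im h hf0 (center_le_E h) (E_le_K0 h), card_E h]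
    have hAE := eq_E h hAT hcard fun a ha b hb => by
      obtain ⟨ya, hya, hya'⟩ := (hmem ⟨a, hAK ha⟩).1 ha
      obtain ⟨yb, hyb, hyb'⟩ := (hmem ⟨b, hAK hb⟩).1 hb
      suffices hs : f (⟨a, hAK ha⟩ * ⟨b, hAK hb⟩ * (⟨a, hAK ha⟩ : K)⁻¹ *
          (⟨b, hAK hb⟩ : K)⁻¹) = 1 by
        simpa only [Subgroup.coe_mul, Subgroup.coe_inv] using (hf.2 _).1 hs
      rw [map_mul, map_mul, map_mul, map_inv, map_inv, ← hya', ← hyb', ← map_mul,
        show ya * yb = yb * ya from Subtype.ext (by simpa only [Subgroup.coe_mul, Subgroup.coe_subtype] using E_comm h hya hyb), map_mul,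
        mul_inv_cancel_right, mul_inv_cancel]
    rw [← him, hAE]
  have hEiff : ∀ x : K, (x : SU 6 F 2) ∈ E h ↔ f x ∈ im f0 (E h) := fun x =>
    ⟨fun hx => hE ▸ mem_im f hx, fun hx => mem_of_im hf (center_le_E h) (hE.symm ▸ hx)⟩
  -- monomial elements correspond to monomial elements
  have hMon : ∀ (x : K) (y : K0 h), f x = f0 y → (y : SU 6 F 2) ∈ Mon h →
      (x : SU 6 F 2) ∈ Mon h := by
    rintro x y hxy ⟨π, d, hy⟩
    refine mem_Mon_of_normalizes h fun e he => ?_
    suffices hs : f (x * ⟨e, hEK he⟩ * x⁻¹) ∈ im f0 (E h) by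
      simpa only [Subgroup.coe_mul, Subgroup.coe_inv] using (hEiff _).2 hs
    obtain ⟨e', he', hfe⟩ := (hEiff ⟨e, hEK he⟩).1 he
    obtain ⟨d', hd'⟩ := Subgroup.mem_subgroupOf.1 he'
    rw [map_mul, map_mul, map_inv, hxy, ← hfe, ← map_inv, ← map_mul, ← map_mul]
    refine mem_im f0 ?_
    rw [Subgroup.coe_mul, Subgroup.coe_mul, Subgroup.coe_inv]
    exact ⟨_, hy.conj_eq h hd'⟩
  -- coordinate permutations
  let I : Subgroup (Equiv.Perm (Fin 6)) :=
    { carrier := {π | ∃ g ∈ K, ∃ d, IsM s g π d}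
      one_mem' := ⟨1, one_mem _, _, IsM.one⟩
      mul_mem' := fun ⟨a, ha, _, ha'⟩ ⟨b, hb, _, hb'⟩ => ⟨_, mul_mem ha hb, _, ha'.mul h hb'⟩
      inv_mem' := fun ⟨a, ha, _, ha'⟩ => ⟨_, inv_mem ha, _, ha'.inv h⟩ }
  have hI : 360 ≤ Nat.card I := by
    refine card_closure_six.trans ?_
    have hex : ∀ π : Subgroup.closure ({ca, c5} : Set (Equiv.Perm (Fin 6))),
        ∃ (y : K0 h) (x : K) (ρ : I) (d e : Fin 6 → ZMod 3),
          f x = f0 y ∧ IsM s y.1 π.1 d ∧ IsM s x.1 ρ.1 e := by
      intro π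
      have hsign : Equiv.Perm.sign π.1 = 1 :=
        Equiv.Perm.mem_alternatingGroup.1 (closure_eq_alternating.le π.2)
      obtain ⟨g, hg⟩ := exists_isM h π.1 (d := 0) (by simp)
      have hgK : g ∈ K0 h := Kc_zero h ▸ mem_Kc_of_even h 0 hsign hg
      obtain ⟨x, hx⟩ := hf.1 (f0 ⟨g, hgK⟩)
      obtain ⟨ρ, e, he⟩ := hMon x ⟨g, hgK⟩ hx ⟨_, _, hg⟩
      exact ⟨⟨g, hgK⟩, x, ⟨ρ, x.1, x.2, e, he⟩, 0, e, hx, hg, he⟩
    choose y x ρ d e hxy hy hx using hex
    refine Nat.card_le_card_of_injective ρ fun a b hab => ?_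
    have h1 : (((x a)⁻¹ * x b : K) : SU 6 F 2) ∈ E h := ⟨_, by
      have hm := ((hx a).inv h).mul h (hx b)
      rw [hab, inv_mul_cancel] at hm
      rw [Subgroup.coe_mul, Subgroup.coe_inv]
      exact hm⟩
    have h2 := (hEiff _).1 h1
    rw [map_mul, map_inv, hxy, hxy, ← map_inv, ← map_mul] at h2
    have h2b := mem_of_im hf0 (center_le_E h) h2
    rw [Subgroup.coe_mul, Subgroup.coe_inv] at h2b
    obtain ⟨d', hd'⟩ := h2b
    exact Subtype.ext (inv_mul_eq_one.1 ((((hy a).inv h).mul h (hy b)).perm_unique h hd').1)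
  have hsq : ∀ {g : SU 6 F 2} {π : Equiv.Perm (Fin 6)} {d : Fin 6 → ZMod 3},
      IsM s g (π ^ 2) d → g ∈ K := by
    intro g π d hg
    obtain ⟨x, hx, e, he⟩ := sq_mem_of_360 hI π
    have h1 : x⁻¹ * g ∈ E h := ⟨_, by
      have hm := (he.inv h).mul h hg
      rw [inv_mul_cancel] at hm
      exact hm⟩
    simpa using mul_mem hx (hEK h1)
  -- an element corresponding to the last generator
  obtain ⟨j, hj⟩ := hf.1 (f0 ⟨gmat h 7, gmat_mem h 7⟩)
  have hB : ∀ (x : SU 6 F 2) (d : Fin 6 → ZMod 3), IsM s x 1 d →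
      (j : SU 6 F 2)⁻¹ * x * j ∈ E h → ∀ i l, blk i = blk l → d i = d l := by
    intro x d hd hxj
    have hxE : x ∈ E h := ⟨d, hd⟩
    obtain ⟨b, hb, hfb⟩ := (hEiff ⟨x, hEK hxE⟩).1 hxE
    obtain ⟨db, hdb⟩ := Subgroup.mem_subgroupOf.1 hb
    have h2 := (hEiff (j⁻¹ * ⟨x, hEK hxE⟩ * j)).1
      (by simpa only [Subgroup.coe_mul, Subgroup.coe_inv] using hxj)
    rw [map_mul, map_mul, map_inv, hj, ← hfb, ← map_inv, ← map_mul, ← map_mul] at h2
    have h2b := mem_of_im hf0 (center_le_E h) h2
    rw [Subgroup.coe_mul, Subgroup.coe_mul, Subgroup.coe_inv] at h2b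
    obtain ⟨d2, hd2⟩ := h2b
    have hbk : ∀ i l, blk i = blk l → db i = db l := by
      have key : ∀ i l, entry ((b : SU 6 F 2) * gmat h 7) i l =
          entry (gmat h 7 * ((gmat h 7)⁻¹ * (b : SU 6 F 2) * gmat h 7)) i l := fun i l => by
        rw [← mul_assoc, ← mul_assoc, mul_inv_cancel, one_mul]
      have hne : ∀ i l, blk i = blk l → entry (gmat h 7) i l ≠ 0 := fun i l hil h0 => by
        rw [gmat_entry, uC_ok] at h0
        refine UnitaryImage.iota_ne_zero (genOK h) ?_ ?_ h0
        · exact (by decide : ∀ i l, uC i l < 4) i l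
        · exact (by decide : ∀ i l, blk i = blk l → uC i l ≠ 0) i l hil
      have hd2' : IsM s ((gmat h 7)⁻¹ * (b : SU 6 F 2) * gmat h 7) 1 d2 := hd2
      have hcol : ∀ i l, blk i = blk l → db i = d2 l := fun i l hil => by
        refine ex_injective h (mul_right_cancel₀ (hne i l hil) ?_)
        have := key i l
        rw [IsM.mul_entry hdb, IsM.entry_mul' hd2'] at this
        simp only [inv_one, Equiv.Perm.one_apply] at this
        rw [this, mul_comm]
      intro i l hil
      rw [hcol i l hil, hcol l l rfl]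
    -- commutators with the Sylow subgroup are scalar
    obtain ⟨c, rfl⟩ := exists_ext6 (hd.sum_eq_zero h)
    have hcondU : ∀ π ∈ P9, CondU π (ext6 c) := by
      intro π hπ
      obtain ⟨t, ht⟩ := exists_isM h π⁻¹ (d := 0) (by simp)
      have htT : t ∈ T h := ⟨_, inv_mem hπ, _, ht⟩
      obtain ⟨t', ht', hft⟩ : f ⟨t, hTK htT⟩ ∈ im f0 (T h) := hT ▸ mem_im f htT
      obtain ⟨π', hπ', dt, hdt⟩ := Subgroup.mem_subgroupOf.1 ht'
      have hcomm : t' * b = b * t' := by
        refine Subtype.ext ?_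
        rw [Subgroup.coe_mul, Subgroup.coe_mul]
        refine IsM.eq (hdt.mul h hdb) ?_
        convert hdb.mul h hdt using 1
        · simp
        · funext i
          rw [hbk (π' i) i (P9_block π' hπ' i)]
          simp [add_comm]
      have h3 : f (⟨t, hTK htT⟩ * ⟨x, hEK hxE⟩ * ⟨t, hTK htT⟩⁻¹ * ⟨x, hEK hxE⟩⁻¹) = 1 := by
        rw [map_mul, map_mul, map_mul, map_inv, map_inv, ← hft, ← hfb, ← map_mul, hcomm, map_mul,
          mul_inv_cancel_right, mul_inv_cancel]
      have h3b := (hf.2 _).1 h3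
      rw [Subgroup.coe_mul, Subgroup.coe_mul, Subgroup.coe_mul, Subgroup.coe_inv,
        Subgroup.coe_inv] at h3b
      obtain ⟨z, hz⟩ := center_const h h3b
      obtain ⟨-, h4⟩ := (((ht.conj_eq h hd)).mul h (hd.inv h)).perm_unique h hz
      intro y
      have hy := congrFun h4 y
      have h0 := congrFun h4 0
      simp only [inv_inv, inv_one, Equiv.Perm.one_apply] at hy h0
      rw [sub_eq_add_neg, sub_eq_add_neg, hy, h0]
    exact condU_block c (hcondU ca (by decide)) (hcondU cb (by decide))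
  -- some element separating the blocks is moved to a diagonal element
  obtain ⟨x0, d0, hd0, hx0j, hdne⟩ : ∃ (x : SU 6 F 2) (d : Fin 6 → ZMod 3), IsM s x 1 d ∧
      (j : SU 6 F 2)⁻¹ * x * j ∈ E h ∧ d 0 ≠ d 3 := by
    obtain ⟨b, hb⟩ := exists_isM h 1 (show ∑ i, b0 i = 0 by decide)
    have hbK : b ∈ K0 h := E_le_K0 h ⟨_, hb⟩
    obtain ⟨x, hx⟩ := hf.1 (f0 ⟨b, hbK⟩)
    have hxE : (x : SU 6 F 2) ∈ E h := (hEiff x).2 (hx ▸ mem_im f0 ⟨_, hb⟩)
    have hconj : (j : SU 6 F 2)⁻¹ * x * j ∈ E h := by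
      suffices hs : f (j⁻¹ * x * j) ∈ im f0 (E h) by
        simpa only [Subgroup.coe_mul, Subgroup.coe_inv] using (hEiff _).2 hs
      rw [map_mul, map_mul, map_inv, hj, hx, ← map_inv, ← map_mul, ← map_mul]
      refine mem_im f0 ?_
      rw [Subgroup.coe_mul, Subgroup.coe_mul, Subgroup.coe_inv]
      refine mem_E_of_eigen h b0 fun r l => ?_
      rw [IsM.mul_entry hb, inv_one, Equiv.Perm.one_apply, u_entry h]
      split
      · rename_i hrl; simp only [b0, hrl]; ring
      · simp
    obtain ⟨d, hd⟩ := hxE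
    refine ⟨x, d, hd, hconj, fun heq => ?_⟩
    have hconst : d = fun _ => d 0 := funext fun i => by
      rcases Bool.eq_false_or_eq_true (blk i) with hi | hi
      · exact hB _ d hd hconj i 0 (hi.trans (by decide))
      · exact (hB _ d hd hconj i 3 (hi.trans (by decide))).trans heq.symm
    have hz : (x : SU 6 F 2) ∈ Subgroup.center (SU 6 F 2) :=
      mem_center_of_const h (c := d 0) (hconst ▸ hd)
    obtain ⟨z, hz'⟩ := center_const h ((hf0.2 ⟨b, hbK⟩).1 (hx ▸ (hf.2 x).2 hz))
    have h5 := (hb.perm_unique h hz').2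
    exact absurd ((congrFun h5 0).trans (congrFun h5 3).symm) (by decide)
  have hd0blk := hB x0 d0 hd0 hx0j
  have hdet : (j.1.1 : Matrix (Fin 6) (Fin 6) F).det ≠ 0 := by rw [j.1.1.2]; exact one_ne_zero
  have hcolne : ∀ k, ∃ i, entry (j : SU 6 F 2) i k ≠ 0 := fun k => by
    by_contra hh
    push_neg at hh
    exact hdet (Matrix.det_eq_zero_of_column_eq_zero k hh)
  have hrowne : ∀ i, ∃ k, entry (j : SU 6 F 2) i k ≠ 0 := fun i => by
    by_contra hh
    push_neg at hh
    exact hdet (Matrix.det_eq_zero_of_row_eq_zero i hh)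
  choose piv hpiv using hcolne
  let B : Fin 6 → Bool := fun k => blk (piv k)
  have hsupp : ∀ i k, entry (j : SU 6 F 2) i k ≠ 0 → blk i = B k := by
    obtain ⟨d', hd'⟩ := hx0j
    intro i k hik
    have key : ∀ r, entry (j : SU 6 F 2) r k ≠ 0 → d0 r = d' k := fun r hr => by
      refine ex_injective h (mul_right_cancel₀ hr ?_)
      have h6 : entry (x0 * (j : SU 6 F 2)) r k =
          entry ((j : SU 6 F 2) * ((j : SU 6 F 2)⁻¹ * x0 * (j : SU 6 F 2))) r k := by
        rw [← mul_assoc, ← mul_assoc, mul_inv_cancel, one_mul]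
      rw [IsM.mul_entry hd0, IsM.entry_mul' hd'] at h6
      simp only [inv_one, Equiv.Perm.one_apply] at h6
      rw [h6, mul_comm]
    by_contra hne
    apply hdne
    have h7 := (key i hik).trans (key _ (hpiv k)).symm
    rcases Bool.eq_false_or_eq_true (blk i) with hi | hi <;>
      rcases Bool.eq_false_or_eq_true (blk (piv k)) with hk | hk
    · exact absurd (hi.trans hk.symm) hne
    · rwa [hd0blk i 0 (hi.trans (by decide)), hd0blk (piv k) 3 (hk.trans (by decide))] at h7
    · rw [hd0blk i 3 (hi.trans (by decide)), hd0blk (piv k) 0 (hk.trans (by decide))] at h7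
      exact h7.symm
    · exact absurd (hi.trans hk.symm) hne
  have hzero : ∀ i k, blk i ≠ B k → entry (j : SU 6 F 2) i k = 0 := fun i k hik => by
    by_contra hh; exact hik (hsupp i k hh)
  have hnorm : ∀ i k, entry (j : SU 6 F 2) i k ≠ 0 →
      entry (j : SU 6 F 2) i k * entry (j : SU 6 F 2) i k ^ 2 = 1 := fun i k hik => by
    obtain ⟨a, ha⟩ := exists_ex h hik
    rw [ha, ← pow_succ', ex_cube h]
  have horth3 : ∀ β k l, B k = β → B l = β →
      entry (j : SU 6 F 2) (rw3 β 0) k * entry (j : SU 6 F 2) (rw3 β 0) l ^ 2 +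
      entry (j : SU 6 F 2) (rw3 β 1) k * entry (j : SU 6 F 2) (rw3 β 1) l ^ 2 +
      entry (j : SU 6 F 2) (rw3 β 2) k * entry (j : SU 6 F 2) (rw3 β 2) l ^ 2 =
        if k = l then 1 else 0 := fun β k l hk hl => by
    rw [← col_orth h j.1 k l, sum_block β (f := fun i =>
      entry (j : SU 6 F 2) i k * entry (j : SU 6 F 2) i l ^ 2) fun i hi => by
        rw [hzero i k (hk ▸ hi), zero_mul]]
  -- no zero entries inside the blocks
  have hfull : ∀ i k, blk i = B k → entry (j : SU 6 F 2) i k ≠ 0 := by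
    intro i k hik hzk
    set β := blk i with hβ
    -- column `k` has a single nonzero entry
    have single : ∀ l, B l = β → ∀ r, blk r = β → entry (j : SU 6 F 2) r l = 0 →
        ∀ r' r'', blk r' = β → blk r'' = β → entry (j : SU 6 F 2) r' l ≠ 0 →
          entry (j : SU 6 F 2) r'' l ≠ 0 → r' = r'' := by
      intro l hl r hr hzr r' r'' hr' hr'' h' h''
      by_contra hne
      obtain ⟨m, rfl⟩ := hr ▸ exists_rw3 r
      obtain ⟨m', rfl⟩ := hr' ▸ exists_rw3 r'
      obtain ⟨m'', rfl⟩ := hr'' ▸ exists_rw3 r''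
      have hs := horth3 β l l hl hl
      rw [if_pos rfl] at hs
      have h01 : ∀ m, entry (j : SU 6 F 2) (rw3 β m) l * entry (j : SU 6 F 2) (rw3 β m) l ^ 2 =
          if m = m' ∨ m = m'' then 1 else 0 := by
        intro p
        split
        · rename_i hp
          rcases hp with rfl | rfl
          · exact hnorm _ _ h'
          · exact hnorm _ _ h''
        · rename_i hp
          have : p = m := by
            have key : ∀ m m' m'' p : Fin 3, m ≠ m' → m ≠ m'' → m' ≠ m'' →
                ¬(p = m' ∨ p = m'') → p = m := by decide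
            exact key m m' m'' p (fun e => h' (e ▸ hzr)) (fun e => h'' (e ▸ hzr))
              (fun e => hne (by rw [e])) hp
          rw [this, hzr, zero_mul]
      rw [h01, h01, h01] at hs
      have hm : m' ≠ m'' := fun e => hne (by rw [e])
      revert hs
      clear h01 h' h''
      fin_cases m' <;> fin_cases m'' <;> first
        | exact absurd rfl hm
        | (intro hs; simp at hs; exact one_ne_zero (α := F) (by linear_combination h.two - hs))
        | (intro hs; simp at hs)
    have hpk : blk (piv k) = β := hik.symm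
    have hkey : ∀ l, B l = β → ∀ r r', blk r = β → blk r' = β →
        entry (j : SU 6 F 2) r l ≠ 0 → entry (j : SU 6 F 2) r' l ≠ 0 → r = r' := by
      intro l hl r r' hr hr' h1 h2
      by_cases hlk : l = k
      · subst hlk; exact single l hl i rfl hzk r r' hr hr' h1 h2
      · have h8 : entry (j : SU 6 F 2) (piv k) l = 0 := by
          by_contra hne
          have hs := col_orth h j.1 k l
          rw [if_neg (fun e => hlk e.symm), Finset.sum_eq_single (piv k)] at hs
          · exact mul_ne_zero (hpiv k) (pow_ne_zero 2 hne) hs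
          · intro p _ hp
            by_cases hpb : blk p = β
            · by_cases hpz : entry (j : SU 6 F 2) p k = 0
              · rw [hpz, zero_mul]
              · exact absurd (single k hik.symm i rfl hzk p (piv k) hpb hpk hpz (hpiv k)) hp
            · rw [hzero p k (hik ▸ hpb), zero_mul]
          · exact fun hh => absurd (Finset.mem_univ _) hh
        exact single l hl _ hpk h8 r r' hr hr' h1 h2
    -- this contradicts the previous step
    let e : Fin 6 → ZMod 3 := fun r => if r = rw3 β 0 then 1 else if r = rw3 β 1 then 2 else 0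
    obtain ⟨g, hg⟩ := exists_isM h 1 (show ∑ r, e r = 0 by
      simp only [e]; generalize β = b; revert b; decide)
    have hgE : (j : SU 6 F 2)⁻¹ * g * j ∈ E h := by
      refine mem_E_of_eigen h (fun l => e (piv l)) fun r l => ?_
      rw [IsM.mul_entry hg, inv_one, Equiv.Perm.one_apply]
      by_cases hz : entry (j : SU 6 F 2) r l = 0
      · simp [hz]
      · rw [mul_comm]
        congr 2
        by_cases hl : B l = β
        · rw [hkey l hl r (piv l) ((hsupp r l hz).trans hl) hl hz (hpiv l)]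
        · have he0 : ∀ p, blk p ≠ β → e p = 0 := fun p hp => by
            simp only [e]
            rw [if_neg (fun e' => hp (by rw [e', blk_rw3])),
              if_neg (fun e' => hp (by rw [e', blk_rw3]))]
          rw [he0 r (hsupp r l hz ▸ hl), he0 (piv l) hl]
    have h9 := hB g e hg hgE (rw3 β 0) (rw3 β 1) (by rw [blk_rw3, blk_rw3])
    simp only [e] at h9
    revert h9
    generalize β = b
    revert b
    decide
  choose ja hja using fun (i : Fin 6) (k : Fin 6) => show ∃ a : ZMod 3,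
      blk i = B k → entry (j : SU 6 F 2) i k = ex s a by
    by_cases hik : blk i = B k
    · obtain ⟨a, ha⟩ := exists_ex h (hfull i k hik)
      exact ⟨a, fun _ => ha⟩
    · exact ⟨0, fun hh => absurd hh hik⟩
  let γ : Fin 6 → ZMod 3 := fun k =>
    ja (rw3 (B k) 0) k + ja (rw3 (B k) 1) k + ja (rw3 (B k) 2) k
  have hγ : ∀ k l, B k = B l → γ k = γ l := by
    intro k l hkl
    by_cases hkl' : k = l
    · rw [hkl']
    have hs := horth3 (B k) k l rfl hkl.symm
    rw [if_neg hkl', hja _ k (blk_rw3 _ _), hja _ k (blk_rw3 _ _), hja _ k (blk_rw3 _ _),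
      hja _ l ((blk_rw3 _ _).trans hkl), hja _ l ((blk_rw3 _ _).trans hkl),
      hja _ l ((blk_rw3 _ _).trans hkl)] at hs
    have h2 : ∀ a b : ZMod 3, ex s a * ex s b ^ 2 = ex s (a + 2 * b) := fun a b => by
      rw [sq, ← ex_add h, ← ex_add h, two_mul]
    rw [h2, h2, h2] at hs
    have h3 := sum_three h hs
    show γ k = γ l
    simp only [γ, ← hkl]
    have aux : ∀ x y : ZMod 3, x + 2 * y = 0 → x = y := by decide
    exact aux _ _ (by rw [← h3]; ring)
  obtain ⟨k1, hk1⟩ : ∃ k, B k = true := by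
    obtain ⟨k, hk⟩ := hrowne 0
    exact ⟨k, (hsupp 0 k hk).symm.trans (by decide)⟩
  obtain ⟨k2, hk2⟩ : ∃ k, B k = false := by
    obtain ⟨k, hk⟩ := hrowne 3
    exact ⟨k, (hsupp 3 k hk).symm.trans (by decide)⟩
  -- normalise the classes by a diagonal element
  set a := γ k1 + γ k2 with ha
  let ed : Fin 6 → ZMod 3 := fun r => if r = 0 then γ k2 else if r = 3 then -γ k2 else 0
  obtain ⟨w, hw⟩ := exists_isM h 1 (show ∑ r, ed r = 0 by
    simp [ed, Fin.sum_univ_six])
  have hwK : w ∈ K := hEK ⟨_, hw⟩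
  set j' : SU 6 F 2 := w * (j : SU 6 F 2) with hj'
  have hj'K : j' ∈ K := mul_mem hwK j.2
  have hj'e : ∀ r l, entry j' r l = ex s (ed r) * entry (j : SU 6 F 2) r l := fun r l => by
    rw [hj', IsM.mul_entry hw, inv_one, Equiv.Perm.one_apply]
  have hclass : ∀ l, (ja (rw3 (B l) 0) l + ed (rw3 (B l) 0) - dv a (rw3 (B l) 0)) +
      (ja (rw3 (B l) 1) l + ed (rw3 (B l) 1) - dv a (rw3 (B l) 1)) +
      (ja (rw3 (B l) 2) l + ed (rw3 (B l) 2) - dv a (rw3 (B l) 2)) = 0 := by
    intro l
    have hg1 : γ l = if B l then γ k1 else γ k2 := by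
      cases hb : B l
      · simpa using hγ l k2 (hb.trans hk2.symm)
      · simpa using hγ l k1 (hb.trans hk1.symm)
    simp only [γ] at hg1
    cases hb : B l <;> rw [hb] at hg1 <;>
      simp only [Bool.false_eq_true, if_true, if_false, show rw3 false 0 = 3 from rfl,
        show rw3 false 1 = 4 from rfl, show rw3 false 2 = 5 from rfl, show rw3 true 0 = 0 from rfl,
        show rw3 true 1 = 1 from rfl, show rw3 true 2 = 2 from rfl] at hg1 <;>
      simp only [ed, dv, show rw3 false 0 = 3 from rfl, show rw3 false 1 = 4 from rfl,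
        show rw3 false 2 = 5 from rfl, show rw3 true 0 = 0 from rfl, show rw3 true 1 = 1 from rfl,
        show rw3 true 2 = 2 from rfl, Fin.reduceEq, if_true, if_false]
    · linear_combination hg1
    · rw [ha]; linear_combination hg1
  choose μ hμ using fun l => block_eigen h (B l) (hclass l)
  have heig : j'⁻¹ * twF h a (gmat h 7) * j' ∈ E h := by
    refine mem_E_of_eigen h μ fun r l => ?_
    rw [entry_mul]
    simp only [twF_entry, hj'e, u_entry h]
    by_cases hr : blk r = B l
    · have hterm : ∀ m : Fin 3, ex s (dv a r - dv a (rw3 (B l) m)) *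
          ((if r = rw3 (B l) m then 1 else 0) + if B l then s ^ 2 else s) *
          (ex s (ed (rw3 (B l) m)) * entry (j : SU 6 F 2) (rw3 (B l) m) l) =
          ex s (dv a r) * (((if r = rw3 (B l) m then 1 else 0) + if B l then s ^ 2 else s) *
            ex s (ja (rw3 (B l) m) l + ed (rw3 (B l) m) - dv a (rw3 (B l) m))) := fun m => by
        rw [hja _ l (blk_rw3 _ _)]
        have e1 : ex s (dv a r - dv a (rw3 (B l) m)) *
            (ex s (ed (rw3 (B l) m)) * ex s (ja (rw3 (B l) m) l)) =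
            ex s (dv a r) * ex s (ja (rw3 (B l) m) l + ed (rw3 (B l) m) - dv a (rw3 (B l) m)) := by
          rw [← ex_add h, ← ex_add h, ← ex_add h]; congr 1; abel
        linear_combination ((if r = rw3 (B l) m then (1 : F) else 0) + if B l then s ^ 2 else s) * e1
      rw [sum_block (B l) (fun i hi => by rw [hzero i l hi, mul_zero, mul_zero])]
      simp only [blk_rw3, hr, if_true]
      rw [hterm, hterm, hterm]
      obtain ⟨m, hm⟩ := hr ▸ exists_rw3 r
      subst hm
      have hx := hμ l (ex s (ja (rw3 (B l) m) l + ed (rw3 (B l) m) - dv a (rw3 (B l) m))) (by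
        fin_cases m <;> simp)
      have e2 : ex s (ed (rw3 (B l) m)) * entry (j : SU 6 F 2) (rw3 (B l) m) l =
          ex s (dv a (rw3 (B l) m)) *
            ex s (ja (rw3 (B l) m) l + ed (rw3 (B l) m) - dv a (rw3 (B l) m)) := by
        rw [hja _ l (blk_rw3 _ _), ← ex_add h, ← ex_add h]; congr 1; abel
      rw [e2]
      have hinj : ∀ p q : Fin 3, rw3 (B l) p = rw3 (B l) q ↔ p = q := by
        generalize B l = b; revert b; decide
      simp only [hinj]
      fin_cases m <;> simp only [Fin.reduceEq, if_true, if_false, Fin.zero_eta, Fin.mk_one,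
        Fin.reduceFinMk] at hx ⊢ <;>
        linear_combination ex s (dv a (rw3 (B l) _)) * hx
    · rw [hzero r l hr]
      simp only [mul_zero, zero_mul]
      refine Finset.sum_eq_zero fun i _ => ?_
      by_cases hi : blk i = B l
      · rw [if_neg (fun e => hr (e.trans hi)), mul_zero, zero_mul]
      · rw [hzero i l hi, mul_zero, mul_zero]
  have hua : tw h a (gmat h 7) ∈ K := by
    have h1 := mul_mem (mul_mem hj'K (hEK heig)) (inv_mem hj'K)
    simpa [mul_assoc, tw] using h1
  refine ⟨a, (Subgroup.eq_of_le_of_card_ge ?_ ?_).symm⟩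
  · rw [Kc, Subgroup.map_le_iff_le_comap, K0, Subgroup.closure_le]
    rintro _ ⟨k, rfl⟩
    show tw h a (gmat h k) ∈ K
    rcases (show (∃ i : Fin 5, k = Fin.castLE (by norm_num) i) ∨ k = 5 ∨ k = 6 ∨ k = 7 by
      revert k; decide) with ⟨i, rfl⟩ | rfl | rfl | rfl
    · exact hEK ⟨_, isM_tw h a (isM_de h i)⟩
    · refine hsq (π := ca ^ 2) (d := fun j => dv a (ca j) - dv a j + (0 : Fin 6 → ZMod 3) j) ?_
      rw [show (ca ^ 2) ^ 2 = ca by decide +kernel]
      exact isM_tw h a (isM_ca h)
    · refine hsq (π := c5 ^ 3) (d := fun j => dv a (c5 j) - dv a j + (0 : Fin 6 → ZMod 3) j) ?_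
      rw [show (c5 ^ 3) ^ 2 = c5 by decide +kernel]
      exact isM_tw h a (isM_c5 h)
    · exact hua
  · rw [card_cover h hf hZK, ← card_cover h hf0 ((center_le_T h).trans (T_le_K0 h)), Kc,
      Subgroup.card_map_of_injective (tw h a).injective]

theorem sylow_card (h : S4 s) {K : Subgroup (SU 6 F 2)} (hK : Nat.card K = 9797760) :
    ∃ g : SU 6 F 2, T h ≤ K.map (MulAut.conj g).toMonoidHom := by
  haveI : Finite (SU 6 F 2) := Subtype.finite
  haveI : Fact (Nat.Prime 3) := ⟨Nat.prime_three⟩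
  obtain ⟨P, hP⟩ := Sylow.exists_subgroup_card_pow_prime (G := K) 3 (n := 7)
    (by rw [hK]; norm_num)
  obtain ⟨g, hg⟩ := exists_conj (p := 3) (n := 7) (m := 12615680)
    (A := P.map K.subtype) (B := T h) (by rw [card_G h]; norm_num) (by norm_num)
    (by rw [Subgroup.card_map_of_injective K.subtype_injective, hP]) (by rw [card_T h]; norm_num)
  exact ⟨g, hg ▸ Subgroup.map_mono (Subgroup.map_subtype_le P)⟩

/-- Every cover is conjugate to a twist. -/
theorem exists_conj_Kc (h : S4 s) (F9 : Type) [Field F9] [Fintype F9]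
    (hF9 : Fintype.card F9 = 9) {K : Subgroup (SU 6 F 2)}
    (hc : Nat.card (Subgroup.center K) = 3) (hi : Nonempty (K ⧸ Subgroup.center K ≃* PSU 4 F9 3)) :
    ∃ (g : SU 6 F 2) (a : ZMod 3), K.map (MulAut.conj g).toMonoidHom = Kc h a := by
  haveI : Finite (SU 6 F 2) := Subtype.finite
  haveI : Fact (Nat.Prime 3) := ⟨Nat.prime_three⟩
  obtain ⟨e⟩ := hi
  have hQ : Nat.card (PSU 4 F9 3) = 3265920 := UnitaryImageFields.card_PSU43 hF9
  have hK : Nat.card K = 9797760 := by
    rw [Subgroup.card_eq_card_quotient_mul_card_subgroup (Subgroup.center K), hc,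
      Nat.card_congr e.toEquiv, hQ]
  obtain ⟨g, hTK⟩ := sylow_card h hK
  set K' := K.map (MulAut.conj g).toMonoidHom with hK'
  let ι : K ≃* K' := (MulAut.conj g).subgroupMap K
  -- the centre of the conjugate
  have hcen : ∀ x : K, x ∈ Subgroup.center K ↔ ((ι x : K') : SU 6 F 2) ∈
      Subgroup.center (SU 6 F 2) := by
    have hle : Subgroup.center (SU 6 F 2) ≤ K := fun z hz => by
      obtain ⟨y, hy, hyz⟩ := hTK (center_le_T h hz)
      have : y = z := (MulAut.conj g).injective (by
        rw [show MulAut.conj g z = z by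
          rw [MulAut.conj_apply, Subgroup.mem_center_iff.1 hz g, mul_inv_cancel_right]]
        exact hyz)
      exact this ▸ hy
    have heq : (Subgroup.center (SU 6 F 2)).subgroupOf K = Subgroup.center K := by
      refine Subgroup.eq_of_le_of_card_ge (fun x hx => Subgroup.mem_center_iff.2 fun y =>
        Subtype.ext (Subgroup.mem_center_iff.1 hx y.1)) ?_
      rw [hc, Nat.card_congr (Subgroup.subgroupOfEquivOfLe hle).toEquiv, card_center h]
    intro x
    rw [← heq, Subgroup.mem_subgroupOf]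
    show _ ↔ g * (x : SU 6 F 2) * g⁻¹ ∈ _
    constructor
    · exact fun hx => (Subgroup.normal_of_characteristic _).conj_mem _ hx g
    · intro hx
      have := (Subgroup.normal_of_characteristic _).conj_mem _ hx g⁻¹
      simpa [mul_assoc] using this
  let f : K' →* PSU 4 F9 3 :=
    (e.toMonoidHom.comp (QuotientGroup.mk' (Subgroup.center K))).comp ι.symm.toMonoidHom
  have hf : Cover K' f := by
    refine ⟨(e.surjective.comp (QuotientGroup.mk'_surjective _)).comp ι.symm.surjective,
      fun x => ?_⟩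
    show e (QuotientGroup.mk' _ (ι.symm x)) = 1 ↔ _
    rw [EmbeddingLike.map_eq_one_iff, QuotientGroup.mk'_apply, QuotientGroup.eq_one_iff, hcen,
      MulEquiv.apply_symm_apply]
  obtain ⟨f0, hf0⟩ := exists_hom h F9 hF9
  have hf0' : Cover (K0 h) f0 := hf0
  have hcardT : ∀ {L : Subgroup (SU 6 F 2)} {φ : L →* PSU 4 F9 3}, Cover L φ → T h ≤ L →
      Nat.card (im φ (T h)) = 3 ^ 6 := fun {L φ} hφ hL => by
    have := card_im h hφ (center_le_T h) hL
    rw [card_T h] at this
    norm_num
    omega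
  obtain ⟨q, hq⟩ := exists_conj (p := 3) (n := 6) (m := 4480) (by rw [hQ]; norm_num) (by norm_num)
    (hcardT hf hTK) (hcardT hf0' (T_le_K0 h))
  have hf' : Cover K' ((MulAut.conj q).toMonoidHom.comp f) := by
    refine ⟨(MulAut.conj q).surjective.comp hf.1, fun x => ?_⟩
    rw [MonoidHom.comp_apply, MulEquiv.coe_toMonoidHom, EmbeddingLike.map_eq_one_iff, hf.2]
  obtain ⟨a, ha⟩ := eq_Kc_of_compatible h hf' hf0' hTK (by rw [← hq, im, im, Subgroup.map_map])
  exact ⟨g, a, ha⟩

/-- Conjugate twists are equal. -/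
theorem eq_of_conj (h : S4 s) (F9 : Type) [Field F9] [Fintype F9] (hF9 : Fintype.card F9 = 9)
    {a b : ZMod 3} {g : SU 6 F 2} (hg : (Kc h a).map (MulAut.conj g).toMonoidHom = Kc h b) :
    a = b := by
  haveI : Finite (SU 6 F 2) := Subtype.finite
  haveI : Fact (Nat.Prime 3) := ⟨Nat.prime_three⟩
  obtain ⟨f, hf⟩ := cover_Kc h b F9 hF9
  have hK : Nat.card (Kc h b) = 9797760 := by
    rw [card_cover h hf ((center_le_T h).trans (T_le_Kc h b)), UnitaryImageFields.card_PSU43 hF9]
  have hgT : (T h).map (MulAut.conj g).toMonoidHom ≤ Kc h b :=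
    hg ▸ Subgroup.map_mono (T_le_Kc h a)
  obtain ⟨k, hk⟩ := exists_conj (G := Kc h b) (p := 3) (n := 7) (m := 4480)
    (A := ((T h).map (MulAut.conj g).toMonoidHom).subgroupOf (Kc h b))
    (B := (T h).subgroupOf (Kc h b)) (by rw [hK]; norm_num) (by norm_num)
    (by
      rw [Nat.card_congr (Subgroup.subgroupOfEquivOfLe hgT).toEquiv,
        Subgroup.card_map_of_injective (MulAut.conj g).injective, card_T h]; norm_num)
    (by rw [Nat.card_congr (Subgroup.subgroupOfEquivOfLe (T_le_Kc h b)).toEquiv, card_T h]; norm_num)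
  set g' : SU 6 F 2 := (k : SU 6 F 2) * g with hg'
  have hT' : ∀ t ∈ T h, g' * t * g'⁻¹ ∈ T h := fun t ht => by
    have hm : g * t * g⁻¹ ∈ (T h).map (MulAut.conj g).toMonoidHom := ⟨t, ht, rfl⟩
    have h1 : k * ⟨_, hgT hm⟩ * k⁻¹ ∈ (T h).subgroupOf (Kc h b) := hk ▸ ⟨⟨_, hgT hm⟩, hm, rfl⟩
    rw [Subgroup.mem_subgroupOf] at h1
    simpa [hg', mul_assoc] using h1
  have hEE := eq_E h (A := (E h).map (MulAut.conj g').toMonoidHom)
    (by rintro _ ⟨e, he, rfl⟩; exact hT' e (E_le_T h he))
    (by rw [Subgroup.card_map_of_injective (MulAut.conj g').injective, card_E h])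
    (by
      rintro _ ⟨x, hx, rfl⟩ _ ⟨y, hy, rfl⟩
      rw [← map_mul, E_comm h hx hy, map_mul, mul_inv_cancel_right, mul_inv_cancel]
      exact one_mem _)
  obtain ⟨π, d, hπ⟩ := mem_Mon_of_normalizes h (g := g') fun e he =>
    hEE ▸ ⟨e, he, rfl⟩
  refine Kc_injective h (le_antisymm (fun x hx => ?_) (fun y hy => ?_))
  · have h1 : g * x * g⁻¹ ∈ Kc h b := hg ▸ ⟨x, hx, rfl⟩
    have h2 : g' * x * g'⁻¹ ∈ Kc h b := by
      simpa [hg', mul_assoc] using mul_mem (mul_mem k.2 h1) (inv_mem k.2)
    simpa [mul_assoc] using odd_normalizes h (hπ.inv h) h2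
  · have h1 : g' * y * g'⁻¹ ∈ Kc h b := odd_normalizes h hπ hy
    have h2 : g * y * g⁻¹ ∈ Kc h b := by
      simpa [hg', mul_assoc] using mul_mem (mul_mem (inv_mem k.2) h1) k.2
    rw [← hg] at h2
    obtain ⟨x, hx, hxy⟩ := h2
    exact (MulAut.conj g).injective hxy ▸ hx

/-- The centre and quotient of a twist. -/
theorem Kc_props (h : S4 s) (c : ZMod 3) (F9 : Type) [Field F9] [Fintype F9]
    (hF9 : Fintype.card F9 = 9) :
    Nat.card (Subgroup.center (Kc h c)) = 3 ∧
      Nonempty (Kc h c ⧸ Subgroup.center (Kc h c) ≃* PSU 4 F9 3) := by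
  obtain ⟨f, hf⟩ := cover_Kc h c F9 hF9
  have hle : Subgroup.center (SU 6 F 2) ≤ Kc h c := (center_le_T h).trans (T_le_Kc h c)
  have heq : Subgroup.center (Kc h c) = (Subgroup.center (SU 6 F 2)).subgroupOf (Kc h c) := by
    ext x
    rw [Subgroup.mem_subgroupOf, Subgroup.mem_center_iff]
    exact ⟨fun hx => central_of_commutes_Kc h c fun y hy => congrArg Subtype.val (hx ⟨y, hy⟩),
      fun hx y => Subtype.ext (Subgroup.mem_center_iff.1 hx y.1)⟩
  refine ⟨by rw [heq, Nat.card_congr (Subgroup.subgroupOfEquivOfLe hle).toEquiv, card_center h],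
    ⟨(QuotientGroup.quotientMulEquivOfEq ?_).trans
      (QuotientGroup.quotientKerEquivOfSurjective f hf.1)⟩⟩
  rw [heq]
  ext x
  rw [MonoidHom.mem_ker, hf.2, Subgroup.mem_subgroupOf]

end Cfsg.Agent.U62Classify93
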