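import Mathlib
import Cfsg.Agent.Lib.LFForm89
import Cfsg.Agent.Lib.LFMat89
import Cfsg.Agent.Lib.U62Classify93
import Cfsg.Agent.Lib.OrthUnitaryPSU

/-!
A group with a fixed point free element of order three and a subgroup of index two covering
`PSU₄(3)`, acting on twelve-dimensional orthogonal space: in suitable coordinates the subgroup is
the model `3.U₄(3)`, and an outer element centralising the fixed point free one gives the
coordinate transposition.
-/

set_option autoImplicit false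
set_option linter.unusedSectionVars false
set_option linter.style.haveILetI false
set_option maxHeartbeats 800000

namespace Cfsg.Agent.LFModel89

open Cfsg Cfsg.Agent.U62Mon93 Cfsg.Agent.U62Existence93 Cfsg.Agent.U62Twist93
open Cfsg.Agent.U62Classify93 Cfsg.Agent.OrthUnitaryHerm Cfsg.Agent.LFForm89 Cfsg.Agent.LFMat89
open Cfsg.Agent.LFData89 Cfsg.Agent.LFCheck89
open scoped Matrix

universe u v

variable {X : Type u} [Group X] [Finite X] {V : Type v} [AddCommGroup V]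

/-- The operator of an element. -/
def op (ρ : X →* AddMonoid.End V) (g : X) : V →+ V := ρ g

/-- The hypotheses on the group and the module. -/
structure Hyp (ρ : X →* AddMonoid.End V) (q : V → ZMod 2) (n : X) (Mb : Subgroup X) : Prop where
  fx : Fx (op ρ n) q
  faith : ∀ g, (∀ v, (op ρ g) v = v) → g = 1
  inv : ∀ g v, q ((op ρ g) v) = q v
  order_n : orderOf n = 3
  n_mem : n ∈ Mb
  index_two : Mb.index = 2
  comm_n : ∀ m ∈ Mb, m * n = n * m
  quot : ∃ (K : Type) (_ : Field K) (_ : Fintype K) (φ : Mb →* PSU 4 K 3),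
    Fintype.card K = 9 ∧ Function.Surjective φ ∧ ∀ m : Mb, φ m = 1 ↔ (m : X) ∈ Subgroup.zpowers n

variable {F : Type} [Field F] [Fintype F] {s : F}

/-- Coordinates in which the subgroup is the model. -/
structure Coord (h : S4 s) (ρ : X →* AddMonoid.End V) (q : V → ZMod 2) (n : X) (Mb : Subgroup X)
    (ν : (Fin 6 → F) → V) (Φ : K0 h →* X) : Prop where
  bij : Function.Bijective ν
  add : ∀ u v, ν (u + v) = ν u + ν v
  form : ∀ v, (bit (q (ν v)) : F) = hermForm 6 F 2 v v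
  scalar : ∀ v, (op ρ n) (ν v) = ν (s • v)
  inj : Function.Injective Φ
  range : Φ.range = Mb
  act : ∀ (g : K0 h) v, (op ρ (Φ g)) (ν v) = ν ((g.1.1 : Matrix (Fin 6) (Fin 6) F) *ᵥ v)
  outer : ∀ t, t ∉ Mb → t * n = n * t →
    ∃ x, x ∉ Mb ∧ ∀ v, (op ρ x) (ν v) = ν (matOf s piC *ᵥ v)

theorem rho_mul (ρ : X →* AddMonoid.End V) (g g' : X) (v : V) :
    (op ρ (g * g')) v = (op ρ g) ((op ρ g') v) := by
  show ρ (g * g') v = ρ g (ρ g' v)
  rw [map_mul]; rfl

theorem rho_one (ρ : X →* AddMonoid.End V) (v : V) : (op ρ 1) v = v := by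
  show ρ 1 v = v
  rw [map_one]; rfl

/-- The diagonal matrix of a twist. -/
def dMat (s : F) (c : ZMod 3) : Matrix (Fin 6) (Fin 6) F := monMat 1 fun i => ex s (dv c i)

theorem dMat_isU (h : S4 s) (c : ZMod 3) : IsU 2 (dMat s c) := isU_monMat _ fun i => ex_cube h _

theorem dMat_det (h : S4 s) (c : ZMod 3) : (dMat s c).det = ex s c := by
  have hs : ∑ i, dv c i = c := by
    simp only [dv, Finset.sum_ite_eq', Finset.mem_univ, if_true]
  rw [dMat, det_monMat, ex_sum h, hs, sign_cast h, one_mul]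

theorem dMat_mul (h : S4 s) (c : ZMod 3) (g : SU 6 F 2) :
    dMat s c * (g.1 : Matrix (Fin 6) (Fin 6) F) =
      ((twF h c g).1 : Matrix (Fin 6) (Fin 6) F) * dMat s c := by
  ext i j
  simp only [dMat, monMat_one, Matrix.diagonal_mul, Matrix.mul_diagonal]
  show _ = entry (twF h c g) i j * _
  rw [twF_entry, mul_comm (ex s (dv c i - dv c j) * entry g i j), ← mul_assoc, ← ex_add h,
    show dv c j + (dv c i - dv c j) = dv c i by abel]
  rfl

theorem det_cases (h : S4 s) {A : Matrix (Fin 6) (Fin 6) F} (hA : IsU 2 A) :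
    ∃ e : ZMod 3, A.det = ex s e := by
  refine exists_ex h fun h0 => ?_
  have := hA.det_pow (q := 2) h.card'
  rw [h0] at this
  simp at this

theorem bijective_mulVec (h : S4 s) {A : Matrix (Fin 6) (Fin 6) F} (hA : IsU 2 A) :
    Function.Bijective fun v => A *ᵥ v := by
  refine Finite.injective_iff_bijective.1 fun u w e => ?_
  refine sub_eq_zero.1 (eq_zero_of_herm_eq_zero (q := 2) h.card' fun y => ?_)
  rw [← hA, Matrix.mulVec_sub, show A *ᵥ u = A *ᵥ w from e, sub_self]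
  simp [hermForm]

theorem swap_entry : ∀ i j : Fin 6,
    dig (col piC j) i = if i = Equiv.swap 0 1 j then 1 else 0 := by decide +kernel

theorem matOf_pi (h : S4 s) {P : SU 6 F 2} (hP : IsM s P (Equiv.swap 0 1) 0) :
    matOf s piC = (P.1 : Matrix (Fin 6) (Fin 6) F) := by
  ext i j
  show UnitaryImage.iota code4 s (dig (col piC j) i) = entry P i j
  rw [swap_entry, hP i j]
  split_ifs
  · rw [UnitaryImage.iota_one (genOK h), Pi.zero_apply, ex_zero]
  · exact UnitaryImage.iota_zero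

/-- An element of the special unitary group normalising the model is monomial modulo it. -/
theorem exists_mon (h : S4 s) (F9 : Type) [Field F9] [Fintype F9] (hF9 : Fintype.card F9 = 9)
    {g : SU 6 F 2} (hg : ∀ x ∈ K0 h, g * x * g⁻¹ ∈ K0 h) :
    ∃ k ∈ K0 h, ∃ π d, IsM s (k * g) π d := by
  haveI : Finite (SU 6 F 2) := Subtype.finite
  haveI : Fact (Nat.Prime 3) := ⟨Nat.prime_three⟩
  obtain ⟨f, hf⟩ := exists_hom h F9 hF9
  have hK : Nat.card (K0 h) = 9797760 := by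
    rw [card_cover h hf ((center_le_T h).trans (T_le_K0 h)), UnitaryImageFields.card_PSU43 hF9]
  have hgT : (T h).map (MulAut.conj g).toMonoidHom ≤ K0 h := by
    rintro _ ⟨t, ht, rfl⟩
    exact hg t (T_le_K0 h ht)
  obtain ⟨k, hk⟩ := exists_conj (G := K0 h) (p := 3) (n := 7) (m := 4480)
    (A := ((T h).map (MulAut.conj g).toMonoidHom).subgroupOf (K0 h))
    (B := (T h).subgroupOf (K0 h)) (by rw [hK]; norm_num) (by norm_num)
    (by
      rw [Nat.card_congr (Subgroup.subgroupOfEquivOfLe hgT).toEquiv,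
        Subgroup.card_map_of_injective (MulAut.conj g).injective, card_T h]; norm_num)
    (by rw [Nat.card_congr (Subgroup.subgroupOfEquivOfLe (T_le_K0 h)).toEquiv, card_T h]; norm_num)
  set g' : SU 6 F 2 := (k : SU 6 F 2) * g with hg'
  have hT' : ∀ t ∈ T h, g' * t * g'⁻¹ ∈ T h := fun t ht => by
    have hm : g * t * g⁻¹ ∈ (T h).map (MulAut.conj g).toMonoidHom := ⟨t, ht, rfl⟩
    have h1 : k * ⟨_, hgT hm⟩ * k⁻¹ ∈ (T h).subgroupOf (K0 h) := hk ▸ ⟨⟨_, hgT hm⟩, hm, rfl⟩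
    rw [Subgroup.mem_subgroupOf] at h1
    simpa [hg', mul_assoc] using h1
  have hEE := eq_E h (A := (E h).map (MulAut.conj g').toMonoidHom)
    (by rintro _ ⟨e, he, rfl⟩; exact hT' e (E_le_T h he))
    (by rw [Subgroup.card_map_of_injective (MulAut.conj g').injective, card_E h])
    (by
      rintro _ ⟨x, hx, rfl⟩ _ ⟨y, hy, rfl⟩
      rw [← map_mul, E_comm h hx hy, map_mul, mul_inv_cancel_right, mul_inv_cancel]
      exact one_mem _)
  obtain ⟨π, d, hπ⟩ := mem_Mon_of_normalizes h (g := g') fun e he => hEE ▸ ⟨e, he, rfl⟩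
  exact ⟨k, k.2, π, d, hπ⟩

theorem exists_coord {ρ : X →* AddMonoid.End V} {q : V → ZMod 2} {n : X} {Mb : Subgroup X}
    (H : Hyp ρ q n Mb) (h : S4 s) :
    ∃ (ν : (Fin 6 → F) → V) (Φ : K0 h →* X), Coord h ρ q n Mb ν Φ := by
  classical
  haveI : Finite (SU 6 F 2) := Subtype.finite
  obtain ⟨F9, _, _, φ, hF9, φsurj, φker⟩ := H.quot
  haveI hsimple : IsSimpleGroup (PSU 4 F9 3) :=
    OrthUnitaryPSU.isSimpleGroup_PSU (q := 3) (by rw [hF9]; rfl) (by norm_num) (by norm_num)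
  obtain ⟨e, he1, he2⟩ := H.fx.exists_orth 6 le_rfl
  have he : Basis6 (op ρ n) q e := ⟨he1, he2⟩
  set ν₀ := nu (op ρ n) s e with hν₀
  have hbij₀ := nu_bijective H.fx h he
  have hsc₀ : ∀ v, (op ρ n) (ν₀ v) = ν₀ (s • v) := fun v => by
    rw [hν₀, nu_smul H.fx h, act_s h]
  have hex : ∀ g : X, g * n = n * g → ∃ A : Matrix (Fin 6) (Fin 6) F,
      (∀ v, (op ρ g) (ν₀ v) = ν₀ (A *ᵥ v)) ∧ IsU 2 A := fun g hg =>
    exists_matrix H.fx h he (op ρ g) (H.inv g) fun v => by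
      rw [← rho_mul, hg, rho_mul]
  have huniq : ∀ A B : Matrix (Fin 6) (Fin 6) F, (∀ v, ν₀ (A *ᵥ v) = ν₀ (B *ᵥ v)) → A = B :=
    fun A B e => Matrix.ext_of_mulVec_single fun i => hbij₀.1 (e _)
  choose Mat hMat hMatU using fun m : Mb => hex m (H.comm_n m m.2)
  have hmul : ∀ a b : Mb, Mat (a * b) = Mat a * Mat b := fun a b => huniq _ _ fun v => by
    rw [← hMat, Subgroup.coe_mul, rho_mul, hMat, hMat, Matrix.mulVec_mulVec]
  have hone : Mat 1 = 1 := huniq _ _ fun v => by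
    rw [← hMat, Subgroup.coe_one, rho_one, Matrix.one_mulVec]
  let detH : Mb →* F :=
    { toFun := fun m => (Mat m).det
      map_one' := by rw [hone, Matrix.det_one]
      map_mul' := fun a b => by rw [hmul, Matrix.det_mul] }
  have hMatn : Mat ⟨n, H.n_mem⟩ = s • (1 : Matrix (Fin 6) (Fin 6) F) := huniq _ _ fun v => by
    rw [← hMat, hsc₀, Matrix.smul_mulVec, Matrix.one_mulVec]
  have hperf : commutator (PSU 4 F9 3) = ⊤ := by
    rw [commutator_def, ← Subgroup.map_top_of_surjective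
      (QuotientGroup.mk' (Subgroup.center (SU 4 F9 3))) (QuotientGroup.mk'_surjective _),
      ← Subgroup.map_commutator, ← commutator_def,
      OrthUnitaryPSU.commutator_eq_top (q := 3) (by rw [hF9]; rfl) (by norm_num) (by norm_num)]
  have hdet : ∀ m : Mb, (Mat m).det = 1 := by
    intro m
    have hc : φ m ∈ Subgroup.map φ (commutator Mb) := by
      rw [commutator_def, Subgroup.map_commutator, Subgroup.map_top_of_surjective φ φsurj,
        ← commutator_def, hperf]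
      trivial
    obtain ⟨c, hc, hcm⟩ := hc
    have h1 : detH c = 1 := by
      have hle : commutator Mb ≤ detH.toHomUnits.ker := Abelianization.commutator_subset_ker _
      exact congrArg Units.val (MonoidHom.mem_ker.1 (hle hc))
    have h2 : ((c⁻¹ * m : Mb) : X) ∈ Subgroup.zpowers n :=
      (φker _).1 (by rw [map_mul, map_inv, hcm, inv_mul_cancel])
    obtain ⟨i, hi⟩ : ∃ i : ℕ, n ^ i = ((c⁻¹ * m : Mb) : X) := mem_powers_iff_mem_zpowers.2 h2
    have h3 : c⁻¹ * m = (⟨n, H.n_mem⟩ : Mb) ^ i := Subtype.ext (by rw [← hi, SubmonoidClass.coe_pow])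
    have h4 : detH m = 1 := by
      rw [← mul_inv_cancel_left c m, h3, map_mul, map_pow, h1, one_mul]
      show ((Mat ⟨n, H.n_mem⟩).det) ^ i = 1
      rw [hMatn, Matrix.det_smul, Matrix.det_one, mul_one, Fintype.card_fin,
        show s ^ 6 = 1 by rw [show 6 = 3 * 2 from rfl, pow_mul, h.cube, one_pow], one_pow]
    exact h4
  let Λ : Mb →* SU 6 F 2 := MonoidHom.mk' (fun m => mkSU (Mat m) (hdet m) (hMatU m))
    fun a b => Subtype.ext (Subtype.ext (hmul a b))
  have hΛv : ∀ m, ((Λ m).1 : Matrix (Fin 6) (Fin 6) F) = Mat m := fun m => rfl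
  have hΛinj : Function.Injective Λ := by
    refine (injective_iff_map_eq_one Λ).2 fun m hm => Subtype.ext (H.faith _ fun w => ?_)
    obtain ⟨v, rfl⟩ := hbij₀.2 w
    rw [hMat, ← hΛv, hm]
    exact congrArg ν₀ (Matrix.one_mulVec v)
  let eK : Mb ≃* Λ.range := MonoidHom.ofInjective hΛinj
  have hcenMb : Subgroup.center Mb = Subgroup.zpowers (⟨n, H.n_mem⟩ : Mb) := by
    refine le_antisymm (fun m hm => ?_)
      (Subgroup.zpowers_le.2 (Subgroup.mem_center_iff.2 fun x => Subtype.ext (H.comm_n x x.2)))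
    have hc1 : φ m ∈ Subgroup.center (PSU 4 F9 3) := Subgroup.mem_center_iff.2 fun p => by
      obtain ⟨x, rfl⟩ := φsurj p
      rw [← map_mul, ← map_mul, Subgroup.mem_center_iff.1 hm x]
    have hbot : Subgroup.center (PSU 4 F9 3) = ⊥ := by
      rcases (inferInstance : (Subgroup.center (PSU 4 F9 3)).Normal).eq_bot_or_eq_top with hb | ht
      · exact hb
      · have : commutator (PSU 4 F9 3) = ⊥ := (commutator_eq_bot_iff_center_eq_top _).2 ht
        rw [hperf] at this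
        exact absurd this top_ne_bot
    rw [hbot, Subgroup.mem_bot] at hc1
    obtain ⟨i, hi⟩ := (φker m).1 hc1
    exact ⟨i, Subtype.ext (by rw [← hi]; simp)⟩
  have hcard : Nat.card (Subgroup.center Λ.range) = 3 := by
    rw [← Nat.card_congr (Subgroup.centerCongr eK).toEquiv, hcenMb, Nat.card_zpowers,
      ← Subgroup.orderOf_coe]
    exact H.order_n
  have hiso : Nonempty (Λ.range ⧸ Subgroup.center Λ.range ≃* PSU 4 F9 3) := by
    have hk : (φ.comp eK.symm.toMonoidHom).ker = Subgroup.center Λ.range := by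
      ext x
      obtain ⟨m, rfl⟩ := eK.surjective x
      rw [MonoidHom.mem_ker, MonoidHom.comp_apply, MulEquiv.coe_toMonoidHom,
        MulEquiv.symm_apply_apply, φker]
      have : eK m ∈ Subgroup.center Λ.range ↔ m ∈ Subgroup.center Mb := by
        simp only [Subgroup.mem_center_iff]
        exact ⟨fun hh x => eK.injective (by rw [map_mul, map_mul]; exact hh _),
          fun hh x => by
            obtain ⟨y, rfl⟩ := eK.surjective x
            rw [← map_mul, ← map_mul, hh y]⟩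
      rw [this, hcenMb]
      constructor
      · rintro ⟨i, hi⟩; exact ⟨i, Subtype.ext (by rw [← hi]; simp)⟩
      · rintro ⟨i, hi⟩; exact ⟨i, by rw [← hi]; simp⟩
    exact ⟨(QuotientGroup.quotientMulEquivOfEq hk.symm).trans
      (QuotientGroup.quotientKerEquivOfSurjective _ (φsurj.comp eK.symm.surjective))⟩
  obtain ⟨g0, a, hga⟩ := exists_conj_Kc h F9 hF9 hcard hiso
  let back : K0 h → SU 6 F 2 := fun x => g0⁻¹ * tw h a x.1 * g0
  have hback : ∀ x, back x ∈ Λ.range := fun x => by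
    obtain ⟨y, hy, hye⟩ : tw h a x.1 ∈ Λ.range.map (MulAut.conj g0).toMonoidHom :=
      hga ▸ Subgroup.mem_map_of_mem (tw h a).toMonoidHom x.2
    have : g0 * y * g0⁻¹ = tw h a x.1 := hye
    have e2 : back x = y := by simp only [back, ← this]; group
    exact e2 ▸ hy
  have hback_mul : ∀ x y, back (x * y) = back x * back y := fun x y => by
    simp only [back, Subgroup.coe_mul, map_mul]; group
  let Φ : K0 h →* X := Mb.subtype.comp (eK.symm.toMonoidHom.comp
    (MonoidHom.mk' (fun x => (⟨back x, hback x⟩ : Λ.range)) fun x y => Subtype.ext (hback_mul x y)))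
  let B : Matrix (Fin 6) (Fin 6) F := ((g0⁻¹ : SU 6 F 2).1 : Matrix (Fin 6) (Fin 6) F) * dMat s a
  have hBU : IsU 2 B := (isU_of_mem_SU g0⁻¹).mul (dMat_isU h a)
  let ν : (Fin 6 → F) → V := fun v => ν₀ (B *ᵥ v)
  have hbij : Function.Bijective ν := hbij₀.comp (bijective_mulVec h hBU)
  have hscalar : ∀ v, (op ρ n) (ν v) = ν (s • v) := fun v => by
    show (op ρ n) (ν₀ _) = ν₀ _
    rw [hsc₀, Matrix.mulVec_smul]
  have hΦ : ∀ x, ∃ m : Mb, Φ x = m ∧ Λ m = back x := fun x =>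
    ⟨eK.symm ⟨back x, hback x⟩, rfl, congrArg Subtype.val (eK.apply_symm_apply ⟨back x, hback x⟩)⟩
  have hact : ∀ (g : K0 h) v,
      (op ρ (Φ g)) (ν v) = ν ((g.1.1 : Matrix (Fin 6) (Fin 6) F) *ᵥ v) := by
    intro g v
    obtain ⟨m, hm, hΛm⟩ := hΦ g
    show (op ρ (Φ g)) (ν₀ _) = ν₀ _
    rw [hm, hMat, ← hΛv, hΛm, Matrix.mulVec_mulVec, Matrix.mulVec_mulVec]
    congr 2
    show ((g0⁻¹ : SU 6 F 2).1.1 * ((twF h a g.1).1.1) * g0.1.1) *
      ((g0⁻¹ : SU 6 F 2).1.1 * dMat s a) = (g0⁻¹ : SU 6 F 2).1.1 * dMat s a * g.1.1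
    have e1 : g0.1.1 * (g0⁻¹ : SU 6 F 2).1.1 = 1 :=
      congrArg (fun x : SU 6 F 2 => x.1.1) (mul_inv_cancel g0)
    rw [mul_assoc _ (dMat s a) g.1.1, dMat_mul h a g.1]
    calc _ = (g0⁻¹ : SU 6 F 2).1.1 * ((twF h a g.1).1.1 *
          (g0.1.1 * (g0⁻¹ : SU 6 F 2).1.1) * dMat s a) := by simp only [mul_assoc]
      _ = _ := by rw [e1, mul_one]
  have hrange : Φ.range = Mb := by
    refine le_antisymm ?_ fun x hx => ?_
    · rintro _ ⟨x, rfl⟩
      exact (eK.symm _).2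
    · have h1 : g0 * Λ ⟨x, hx⟩ * g0⁻¹ ∈ Kc h a := hga ▸ ⟨Λ ⟨x, hx⟩, ⟨_, rfl⟩, rfl⟩
      obtain ⟨y, hy, hye⟩ := h1
      obtain ⟨m, hm, hΛm⟩ := hΦ ⟨y, hy⟩
      have em : m = ⟨x, hx⟩ := hΛinj (hΛm.trans ?_)
      · exact ⟨⟨y, hy⟩, hm.trans (congrArg Subtype.val em)⟩
      show g0⁻¹ * tw h a y * g0 = _
      rw [show tw h a y = _ from hye]; group
  have hΦinj : Function.Injective Φ := by
    intro x y e
    obtain ⟨m, hm, hΛm⟩ := hΦ x
    obtain ⟨m', hm', hΛm'⟩ := hΦ y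
    rw [hm, hm'] at e
    have h1 : back x = back y := by rw [← hΛm, ← hΛm', Subtype.ext e]
    exact Subtype.ext ((tw h a).injective (mul_left_cancel (mul_right_cancel h1)))
  refine ⟨ν, Φ, ⟨hbij, fun u v => by
      show ν₀ _ = ν₀ _ + ν₀ _
      rw [Matrix.mulVec_add, hν₀, nu_add H.fx h],
    fun v => (q_nu H.fx h he _).trans (hBU v v), hscalar, hΦinj, hrange, hact, ?_⟩⟩
  intro t htM htn
  have huniq' : ∀ A B : Matrix (Fin 6) (Fin 6) F, (∀ v, ν (A *ᵥ v) = ν (B *ᵥ v)) → A = B :=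
    fun A B e => Matrix.ext_of_mulVec_single fun i => hbij.1 (e _)
  obtain ⟨A₀, hA₀, hA₀U⟩ := hex t htn
  obtain ⟨A, hA, hAU⟩ : ∃ A, (∀ v, (op ρ t) (ν v) = ν (A *ᵥ v)) ∧ IsU 2 A := by
    choose w hw using fun j : Fin 6 => (bijective_mulVec h hBU).2 (A₀ *ᵥ (B *ᵥ Pi.single j 1))
    let A : Matrix (Fin 6) (Fin 6) F := Matrix.of fun i j => w j i
    have hBA : B * A = A₀ * B := Matrix.ext_of_mulVec_single fun j => by
      have hj : B *ᵥ w j = A₀ *ᵥ (B *ᵥ Pi.single j 1) := hw j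
      rw [← Matrix.mulVec_mulVec _ B A, ← Matrix.mulVec_mulVec _ A₀ B, Matrix.mulVec_single_one A j]
      exact hj
    refine ⟨A, fun v => ?_, fun u v => ?_⟩
    · show (op ρ t) (ν₀ _) = ν₀ _
      rw [hA₀, Matrix.mulVec_mulVec, ← hBA, ← Matrix.mulVec_mulVec]
    · rw [← hBU, Matrix.mulVec_mulVec, Matrix.mulVec_mulVec, hBA]
      exact ((hA₀U.mul hBU) u v)
  obtain ⟨ε, hε⟩ := det_cases h hAU
  obtain ⟨g, hgv⟩ : ∃ g : SU 6 F 2, (g.1 : Matrix (Fin 6) (Fin 6) F) = dMat s (-ε) * A :=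
    ⟨mkSU _ (by rw [Matrix.det_mul, dMat_det h, hε, ← ex_add h, neg_add_cancel, ex_zero])
      ((dMat_isU h _).mul hAU), rfl⟩
  have hMbn : Mb.Normal := Subgroup.normal_of_index_eq_two H.index_two
  have hconj : ∀ x ∈ K0 h, g * x * g⁻¹ ∈ Kc h (-ε) := by
    intro x hx
    have hm : t * Φ ⟨x, hx⟩ * t⁻¹ ∈ Mb := hMbn.conj_mem _ (hrange ▸ ⟨_, rfl⟩) t
    rw [← hrange] at hm
    obtain ⟨y, hy⟩ := hm
    have e1 : (y.1.1 : Matrix (Fin 6) (Fin 6) F) * A = A * x.1 := huniq' _ _ fun v => by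
      rw [← Matrix.mulVec_mulVec, ← Matrix.mulVec_mulVec, ← hact, ← hA, ← hA, ← rho_mul,
        show x.1 = (⟨x, hx⟩ : K0 h).1.1 from rfl, ← hact ⟨x, hx⟩, ← rho_mul, hy,
        inv_mul_cancel_right]
    have e2 : g * x = tw h (-ε) y.1 * g := by
      refine Subtype.ext (Subtype.ext ?_)
      show g.1.1 * x.1.1 = (twF h (-ε) y.1).1.1 * g.1.1
      rw [hgv, mul_assoc, ← e1, ← mul_assoc, dMat_mul h, mul_assoc]
    rw [e2, mul_inv_cancel_right]
    exact Subgroup.mem_map_of_mem _ y.2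
  have hε0 : ε = 0 := by
    have hmap : (Kc h 0).map (MulAut.conj g).toMonoidHom = Kc h (-ε) := by
      rw [Kc_zero]
      refine Subgroup.eq_of_le_of_card_ge (by rintro _ ⟨x, hx, rfl⟩; exact hconj x hx) ?_
      rw [Subgroup.card_map_of_injective (MulAut.conj g).injective, Kc,
        Subgroup.card_map_of_injective (tw h _).injective]
    have := eq_of_conj h F9 hF9 hmap
    exact neg_eq_zero.1 this.symm
  subst hε0
  have hgA : (g.1 : Matrix (Fin 6) (Fin 6) F) = A := by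
    rw [hgv, neg_zero, show dMat s (0 : ZMod 3) = 1 by
      ext i j; simp [dMat, monMat_one, dv, ex_zero], one_mul]
  rw [neg_zero, Kc_zero] at hconj
  have hgK : g ∉ K0 h := by
    intro hk
    refine htM ?_
    have e1 : t = Φ ⟨g, hk⟩ := by
      refine (mul_inv_eq_one.1 (H.faith (t * (Φ ⟨g, hk⟩)⁻¹) fun w => ?_))
      obtain ⟨v, rfl⟩ := hbij.2 w
      obtain ⟨u, hu⟩ := (bijective_mulVec h (isU_of_mem_SU g)).2 v
      rw [rho_mul, show ν v = (op ρ (Φ ⟨g, hk⟩)) (ν u) by rw [hact]; exact congrArg ν hu.symm,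
        ← rho_mul ρ (Φ ⟨g, hk⟩)⁻¹, inv_mul_cancel, rho_one, hA, hact, hgA]
    rw [e1]
    exact hrange ▸ ⟨_, rfl⟩
  obtain ⟨k, hk, π, d, hπ⟩ := exists_mon h F9 hF9 hconj
  obtain ⟨P, hP⟩ := exists_isM h (Equiv.swap 0 1 : Equiv.Perm (Fin 6)) (d := 0) (by simp)
  have hkg : P * (k * g) ∈ K0 h := by
    rcases Int.units_eq_one_or (Equiv.Perm.sign π) with hs | hs
    · exact absurd ((Subgroup.mul_mem_cancel_left _ hk).1
        (Kc_zero h ▸ mem_Kc_of_even h 0 hs hπ)) hgK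
    · rw [← Kc_zero h]
      refine mem_Kc_of_even h 0 ?_ (hP.mul h hπ)
      rw [Equiv.Perm.sign_mul, Equiv.Perm.sign_swap (by decide), hs]; rfl
  -- the transposition is `k g (P (k g))⁻¹`
  refine ⟨Φ ⟨k, hk⟩ * t * (Φ ⟨_, hkg⟩)⁻¹, fun hx => htM ?_, fun v => ?_⟩
  · have h1 : Φ ⟨k, hk⟩ * t ∈ Mb := by
      simpa using mul_mem hx (hrange ▸ ⟨_, rfl⟩ : Φ ⟨_, hkg⟩ ∈ Mb)
    exact (Subgroup.mul_mem_cancel_left _ (hrange ▸ ⟨_, rfl⟩)).1 h1
  · obtain ⟨u, hu⟩ := (bijective_mulVec h (isU_of_mem_SU (P * (k * g)))).2 v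
    have hu' : (P * (k * g)).1.1 *ᵥ u = v := hu
    have hPP : P * P = 1 := IsM.eq
      (by simpa [← Pi.zero_def] using hP.mul h hP) IsM.one
    rw [rho_mul, show ν v = (op ρ (Φ ⟨_, hkg⟩)) (ν u) by rw [hact]; exact congrArg ν hu'.symm,
      ← rho_mul ρ (Φ ⟨_, hkg⟩)⁻¹, inv_mul_cancel, rho_one, rho_mul, hA, hact, matOf_pi h hP, ← hu',
      Matrix.mulVec_mulVec, Matrix.mulVec_mulVec, ← hgA]
    congr 2
    show (k * g).1.1 = (P * (P * (k * g))).1.1
    rw [← mul_assoc P, hPP, one_mul]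

end Cfsg.Agent.LFModel89
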