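import Mathlib
import Cfsg.Agent.Lib.LFModel89
import Cfsg.Agent.Lib.FischerFrameSetting18

/-!
A Sylow 2-subgroup of the subgroup of index two, its elementary abelian subgroups, the sign of the
outer elements, and the bound for an elementary abelian subgroup with a fixed totally singular
subspace.
-/

set_option autoImplicit false
set_option linter.unusedSectionVars false
set_option linter.style.haveILetI false
set_option maxHeartbeats 800000
set_option maxRecDepth 100000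

namespace Cfsg.Agent.LFSylow89

open Cfsg Cfsg.Agent.U62Mon93 Cfsg.Agent.U62Existence93
open Cfsg.Agent.LFForm89 Cfsg.Agent.LFMat89 Cfsg.Agent.LFModel89
open Cfsg.Agent.LFData89 Cfsg.Agent.LFCheck89
open scoped Matrix

universe u v

theorem eOne_list : eOne.length = 16 ∧ eOne.Nodup ∧ (∀ i ∈ eOne, i < 128) := by decide +kernel

theorem eTwo_list : eTwo.length = 16 ∧ eTwo.Nodup ∧ (∀ i ∈ eTwo, i < 128) := by decide +kernel

theorem mem_iff {x : ℕ} {l : List ℕ} : mem x l = true ↔ x ∈ l := by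
  simp only [mem, List.any_eq_true, Nat.beq_eq]
  exact ⟨fun ⟨y, hy, e⟩ => e ▸ hy, fun hx => ⟨x, hx, rfl⟩⟩

theorem sylGen_el : ∀ k < 7, sylGen.getD k 0 = el (2 ^ k) ∧ mem (sylGen.getD k 0) sylEl = true := by
  decide +kernel

theorem sylEl_len : sylEl.length = 128 := by decide +kernel

theorem tv_len : tvC.length = 5 ∧ trC.length = 3 := by decide +kernel

theorem tvC_bound : ∀ k < 5, tvC.getD k 0 < 2 ^ 72 := by decide +kernel

theorem piC_bound : piC < 2 ^ 72 := by decide +kernel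

variable {X : Type u} [Group X] [Finite X] {V : Type v} [AddCommGroup V]
variable {F : Type} [Field F] [Fintype F] {s : F}
variable {h : S4 s} {ρ : X →* AddMonoid.End V} {q : V → ZMod 2} {n : X} {Mb : Subgroup X}
variable {ν : (Fin 6 → F) → V} {Φ : K0 h →* X}

/-- The vector of a code in the module. -/
def nc (s : F) (ν : (Fin 6 → F) → V) (c : ℕ) : V := ν (vec s c)

/-- The element with the given index of the Sylow subgroup. -/
noncomputable def tau (h : S4 s) (Φ : K0 h →* X) (i : ℕ) : X :=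
  if hi : i < 128 then Φ ⟨(el_mem h i hi).choose, (el_mem h i hi).choose_spec.1⟩ else 1

/-- The conjugate of a subgroup. -/
abbrev cj (g : X) (B : Subgroup X) : Subgroup X := B.map (MulAut.conj g).toMonoidHom

theorem mem_cj_of {g b : X} {B : Subgroup X} (hb : b ∈ B) : g * b * g⁻¹ ∈ cj g B :=
  ⟨b, hb, rfl⟩

theorem card_cj (g : X) (B : Subgroup X) : Nat.card (cj g B) = Nat.card B :=
  Subgroup.card_map_of_injective (MulAut.conj g).injective

section

variable (H : Hyp ρ q n Mb) (C : Coord h ρ q n Mb ν Φ)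
include H C

theorem nc_inj {a b : ℕ} (ha : a < 4096) (hb : b < 4096) (e : nc s ν a = nc s ν b) : a = b :=
  vec_inj h ha hb (C.bij.1 e)

theorem exists_nc (v : V) : ∃ c < 4096, nc s ν c = v := by
  obtain ⟨w, rfl⟩ := C.bij.2 v
  obtain ⟨c, hc, rfl⟩ := exists_vec h w
  exact ⟨c, hc, rfl⟩

theorem nc_zero : nc s ν 0 = 0 := by
  have e := C.add 0 0
  rw [add_zero] at e
  show ν (vec s 0) = 0
  rw [vec_zero]
  exact add_eq_left.1 e.symm

theorem q_nc (c : ℕ) : q (nc s ν c) = if qpar c then 1 else 0 := by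
  refine bit_inj (F := F) ?_
  rw [nc, C.form, qpar_eq h]
  cases qpar c <;> simp [bit]

theorem ext_op {x y : X} (e : ∀ v, op ρ x (ν v) = op ρ y (ν v)) : x = y := by
  refine (mul_inv_eq_one.1 (H.faith (x * y⁻¹) fun w => ?_))
  obtain ⟨v, hv⟩ := C.bij.2 (op ρ y⁻¹ w)
  rw [rho_mul, ← hv, e, hv, ← rho_mul, mul_inv_cancel, rho_one]

theorem op_tau {i : ℕ} (hi : i < 128) (v : Fin 6 → F) :
    op ρ (tau h Φ i) (ν v) = ν (matOf s (el i) *ᵥ v) := by
  rw [tau, dif_pos hi, C.act]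
  exact congrArg (fun M => ν (M *ᵥ v)) (el_mem h i hi).choose_spec.2

theorem op_tau_nc {i : ℕ} (hi : i < 128) (c : ℕ) :
    op ρ (tau h Φ i) (nc s ν c) = nc s ν (app (el i) c) := by
  rw [nc, op_tau H C hi, nc, vec_app h]

theorem tau_mem {i : ℕ} (hi : i < 128) : tau h Φ i ∈ Mb := by
  rw [tau, dif_pos hi, ← C.range]
  exact ⟨_, rfl⟩

theorem tau_mul {i j : ℕ} (hi : i < 128) (hj : j < 128) :
    tab i j < 128 ∧ tau h Φ i * tau h Φ j = tau h Φ (tab i j) := by
  obtain ⟨ht, e⟩ := el_mul h j hj i hi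
  refine ⟨ht, ext_op H C fun v => ?_⟩
  rw [rho_mul, op_tau H C hj, op_tau H C hi, op_tau H C ht, Matrix.mulVec_mulVec, e]

theorem tau_inj {i j : ℕ} (hi : i < 128) (hj : j < 128) (e : tau h Φ i = tau h Φ j) : i = j := by
  refine el_inj h hi hj (Matrix.ext_of_mulVec_single fun k => C.bij.1 ?_)
  rw [← op_tau H C hi, ← op_tau H C hj, e]

theorem tau_zero : tau h Φ 0 = 1 := ext_op H C fun v => by
  rw [op_tau H C (by norm_num), el_zero, matOf_id h, Matrix.one_mulVec, rho_one]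

theorem card_Mb : Nat.card Mb = 9797760 := by
  obtain ⟨K, _, _, φ, hK, φsurj, φker⟩ := H.quot
  have hk : φ.ker = (Subgroup.zpowers n).subgroupOf Mb := by
    ext m
    rw [MonoidHom.mem_ker, Subgroup.mem_subgroupOf]
    exact φker m
  rw [Subgroup.card_eq_card_quotient_mul_card_subgroup φ.ker,
    Nat.card_congr (QuotientGroup.quotientKerEquivOfSurjective φ φsurj).toEquiv,
    UnitaryImageFields.card_PSU43 hK, hk,
    Nat.card_congr (Subgroup.subgroupOfEquivOfLe (Subgroup.zpowers_le.2 H.n_mem)).toEquiv,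
    Nat.card_zpowers, H.order_n]

end

/-- The Sylow 2-subgroup of the model. -/
def T0 (H : Hyp ρ q n Mb) (C : Coord h ρ q n Mb ν Φ) : Subgroup X where
  carrier := {x | ∃ i < 128, x = tau h Φ i}
  one_mem' := ⟨0, by norm_num, (tau_zero H C).symm⟩
  mul_mem' := fun {a b} ⟨i, hi, ea⟩ ⟨j, hj, eb⟩ =>
    ⟨_, (tau_mul H C hi hj).1, by rw [ea, eb, (tau_mul H C hi hj).2]⟩
  inv_mem' := fun {a} ⟨i, hi, ea⟩ => by
    have hpow : ∀ k : ℕ, ∃ j < 128, a ^ k = tau h Φ j := by
      intro k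
      induction k with
      | zero => exact ⟨0, by norm_num, by rw [pow_zero, tau_zero H C]⟩
      | succ k ih =>
        obtain ⟨j, hj, e⟩ := ih
        exact ⟨_, (tau_mul H C hj hi).1, by rw [pow_succ, e, ea, (tau_mul H C hj hi).2]⟩
    have he : a⁻¹ = a ^ (orderOf a - 1) := by
      rw [inv_eq_iff_mul_eq_one, ← pow_succ', Nat.sub_add_cancel (orderOf_pos a), pow_orderOf_eq_one]
    obtain ⟨j, hj, e⟩ := hpow (orderOf a - 1)
    exact ⟨j, hj, by rw [he, e]⟩

section

variable (H : Hyp ρ q n Mb) (C : Coord h ρ q n Mb ν Φ)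
include H C

theorem T0_le : T0 H C ≤ Mb := by
  rintro _ ⟨i, hi, rfl⟩
  exact tau_mem H C hi

theorem card_T0 : Nat.card (T0 H C) = 128 := by
  let f : Fin 128 → T0 H C := fun i => ⟨tau h Φ i, i, i.2, rfl⟩
  rw [← Nat.card_congr (Equiv.ofBijective f ⟨fun a b e => Fin.ext (tau_inj H C a.2 b.2 (congrArg Subtype.val e)),
    fun x => by obtain ⟨i, hi, e⟩ := x.2; exact ⟨⟨i, hi⟩, Subtype.ext e.symm⟩⟩), Nat.card_fin]

/-- Every 2-subgroup of the subgroup of index two is conjugate into the Sylow subgroup. -/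
theorem exists_conj_T0 {P : Subgroup X} (hP : P ≤ Mb) (h2 : IsPGroup 2 P) :
    ∃ g ∈ Mb, cj g P ≤ T0 H C := by
  haveI : Fact (Nat.Prime 2) := ⟨Nat.prime_two⟩
  have hfac : (Nat.card Mb).factorization 2 = 7 := by
    rw [card_Mb H C, show (9797760 : ℕ) = 2 ^ 7 * 76545 by norm_num,
      Nat.factorization_mul (by norm_num) (by norm_num), Finsupp.add_apply,
      Nat.prime_two.factorization_pow, Finsupp.single_eq_same,
      Nat.factorization_eq_zero_of_not_dvd (by norm_num : ¬ 2 ∣ 76545), add_zero]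
  let T : Sylow 2 Mb := Sylow.ofCard ((T0 H C).subgroupOf Mb) (by
    rw [Nat.card_congr (Subgroup.subgroupOfEquivOfLe (T0_le H C)).toEquiv, card_T0 H C, hfac]; rfl)
  have hPp : IsPGroup 2 (P.subgroupOf Mb) :=
    h2.of_equiv (Subgroup.subgroupOfEquivOfLe hP).symm
  obtain ⟨S, hS⟩ := hPp.exists_le_sylow
  obtain ⟨g, hg⟩ := MulAction.exists_smul_eq Mb S T
  refine ⟨g, g.2, ?_⟩
  rintro _ ⟨x, hx, rfl⟩
  have h1 : g * ⟨x, hP hx⟩ * g⁻¹ ∈ (g • S : Sylow 2 Mb) :=
    ⟨⟨x, hP hx⟩, hS hx, rfl⟩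
  rw [hg] at h1
  exact h1

/-! ### Elementary abelian subgroups of order 16 in the Sylow subgroup -/

/-- Index sets of elementary abelian subgroups. -/
structure EI (IB : Finset ℕ) : Prop where
  bound : ∀ i ∈ IB, i < 128
  zero : 0 ∈ IB
  sq : ∀ i ∈ IB, tau h Φ i * tau h Φ i = 1
  comm : ∀ i ∈ IB, ∀ j ∈ IB, tau h Φ i * tau h Φ j = tau h Φ j * tau h Φ i
  tab_mem : ∀ i ∈ IB, ∀ j ∈ IB, tab i j ∈ IB

omit H C in
/-- A sublist closed under the table. -/
def Sub (IB : Finset ℕ) (l : List ℕ) : Prop :=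
  l.Nodup ∧ 0 ∈ l ∧ (∀ x ∈ l, x ∈ IB) ∧ ∀ x ∈ l, ∀ y ∈ l, tab x y ∈ l

theorem sub_grow {IB : Finset ℕ} (hI : EI (h := h) (Φ := Φ) IB) {l : List ℕ} (hl : Sub IB l) {d : ℕ}
    (hd : d ∈ IB) (hdl : d ∉ l) :
    Sub IB (span l d) ∧ (span l d).length = 2 * l.length ∧ d ∈ span l d := by
  obtain ⟨hnd, h0, hsub, hcl⟩ := hl
  have hb : ∀ x ∈ l, x < 128 := fun x hx => hI.bound x (hsub x hx)
  have hdb := hI.bound d hd
  have tm : ∀ {a b}, a < 128 → b < 128 → tau h Φ (tab a b) = tau h Φ a * tau h Φ b :=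
    fun ha hb => (tau_mul H C ha hb).2.symm
  have tl : ∀ {a b}, a < 128 → b < 128 → tab a b < 128 := fun ha hb => (tau_mul H C ha hb).1
  have hd0 : tab d 0 = d := tau_inj H C (tl hdb (by norm_num)) hdb
    (by rw [tm hdb (by norm_num), tau_zero H C, mul_one])
  refine ⟨⟨?_, List.mem_append_left _ h0, ?_, ?_⟩, by simp [span, two_mul], ?_⟩
  · rw [span, List.nodup_append]
    refine ⟨hnd, List.Nodup.map_on (fun x hx y hy e => ?_) hnd, fun a ha b hb' hab => ?_⟩
    · refine tau_inj H C (hb x hx) (hb y hy) (mul_left_cancel (a := tau h Φ d) ?_)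
      rw [← tm hdb (hb x hx), ← tm hdb (hb y hy), e]
    · obtain ⟨x, hx, rfl⟩ := List.mem_map.1 hb'
      subst hab
      refine hdl ?_
      have h1 := hcl _ ha x hx
      convert h1 using 1
      refine tau_inj H C hdb (tl (tl hdb (hb x hx)) (hb x hx)) ?_
      rw [tm (tl hdb (hb x hx)) (hb x hx), tm hdb (hb x hx), mul_assoc, hI.sq x (hsub x hx), mul_one]
  · intro x hx
    rcases List.mem_append.1 hx with hx | hx
    · exact hsub x hx
    · obtain ⟨y, hy, rfl⟩ := List.mem_map.1 hx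
      exact hI.tab_mem d hd y (hsub y hy)
  · have key : ∀ x ∈ l, ∀ y ∈ l, tab x (tab d y) = tab d (tab x y) ∧
        tab (tab d x) y = tab d (tab x y) ∧ tab (tab d x) (tab d y) = tab x y := by
      intro x hx y hy
      have hc := hI.comm x (hsub x hx) d hd
      have hx' := hb x hx
      have hy' := hb y hy
      refine ⟨tau_inj H C (tl hx' (tl hdb hy')) (tl hdb (tl hx' hy')) ?_,
        tau_inj H C (tl (tl hdb hx') hy') (tl hdb (tl hx' hy')) ?_,
        tau_inj H C (tl (tl hdb hx') (tl hdb hy')) (tl hx' hy') ?_⟩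
      · rw [tm hx' (tl hdb hy'), tm hdb hy', tm hdb (tl hx' hy'), tm hx' hy', ← mul_assoc, hc,
          mul_assoc]
      · rw [tm (tl hdb hx') hy', tm hdb hx', tm hdb (tl hx' hy'), tm hx' hy', mul_assoc]
      · rw [tm (tl hdb hx') (tl hdb hy'), tm hdb hx', tm hdb hy', tm hx' hy',
          show tau h Φ d * tau h Φ x * (tau h Φ d * tau h Φ y) =
            tau h Φ d * (tau h Φ x * tau h Φ d) * tau h Φ y by simp only [mul_assoc], hc, ← mul_assoc,
          hI.sq d hd, one_mul]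
    intro x hx y hy
    rcases List.mem_append.1 hx with hx | hx <;> rcases List.mem_append.1 hy with hy | hy
    · exact List.mem_append_left _ (hcl x hx y hy)
    · obtain ⟨y', hy', rfl⟩ := List.mem_map.1 hy
      rw [(key x hx y' hy').1]
      exact List.mem_append_right _ (List.mem_map_of_mem (hcl x hx y' hy'))
    · obtain ⟨x', hx', rfl⟩ := List.mem_map.1 hx
      rw [(key x' hx' y hy).2.1]
      exact List.mem_append_right _ (List.mem_map_of_mem (hcl x' hx' y hy))
    · obtain ⟨x', hx', rfl⟩ := List.mem_map.1 hx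
      obtain ⟨y', hy', rfl⟩ := List.mem_map.1 hy
      rw [(key x' hx' y' hy').2.2]
      exact List.mem_append_left _ (hcl x' hx' y' hy')
  · exact List.mem_append_right _ (List.mem_map.2 ⟨0, h0, hd0⟩)

theorem sub_zero' {IB : Finset ℕ} (hI : EI (h := h) (Φ := Φ) IB) : Sub IB [0] := by
  refine ⟨List.nodup_singleton 0, by simp, fun x hx => by simpa [List.mem_singleton.1 hx] using hI.zero,
    fun x hx y hy => ?_⟩
  rw [List.mem_singleton] at hx hy ⊢
  subst hx hy
  refine tau_inj H C (tau_mul H C (by norm_num) (by norm_num)).1 (by norm_num) ?_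
  rw [← (tau_mul H C (i := 0) (j := 0) (by norm_num) (by norm_num)).2, tau_zero H C, one_mul]

theorem sub_one {IB : Finset ℕ} (hI : EI (h := h) (Φ := Φ) IB) {a : ℕ} (ha : a ∈ IB) (ha0 : a ≠ 0) :
    Sub IB [0, a] := by
  have hab := hI.bound a ha
  have hs := sub_grow H C hI (sub_zero' H C hI) ha (by simpa using ha0)
  have : span [0] a = [0, a] := by
    simp only [span, List.map_cons, List.map_nil, List.singleton_append]
    congr 2
    exact tau_inj H C (tau_mul H C hab (by norm_num)).1 hab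
      (by rw [← (tau_mul H C hab (by norm_num)).2, tau_zero H C, mul_one])
  rw [this] at hs
  exact hs.1

omit H C in
theorem exists_min {IB : Finset ℕ} {l : List ℕ} (h : l.length < IB.card) :
    ∃ d ∈ IB, d ∉ l ∧ ∀ x ∈ IB, x ∉ l → d ≤ x := by
  classical
  have hne : (IB \ l.toFinset).Nonempty := by
    rw [← Finset.card_pos]
    have h1 := Finset.le_card_sdiff l.toFinset IB
    have h2 := l.toFinset_card_le
    omega
  refine ⟨(IB \ l.toFinset).min' hne, ?_, ?_, fun x hx hxl => Finset.min'_le _ x ?_⟩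
  · exact (Finset.mem_sdiff.1 (Finset.min'_mem _ hne)).1
  · simpa using (Finset.mem_sdiff.1 (Finset.min'_mem _ hne)).2
  · simp [hx, hxl]

theorem classify {IB : Finset ℕ} (hI : EI (h := h) (Φ := Φ) IB) (hcard : IB.card = 16) :
    IB = eOne.toFinset ∨ IB = eTwo.toFinset := by
  classical
  obtain ⟨a, ha, ha0, hamin⟩ := exists_min (IB := IB) (l := [0]) (by simp [hcard])
  simp only [List.mem_singleton] at ha0 hamin
  have s1 := sub_one H C hI ha ha0
  obtain ⟨b, hb, hbl, hbmin⟩ := exists_min (IB := IB) (l := [0, a]) (by simp [hcard])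
  obtain ⟨s2, l2, hb2⟩ := sub_grow H C hI s1 hb hbl
  obtain ⟨c, hc, hcl, hcmin⟩ := exists_min (IB := IB) (l := span [0, a] b) (by rw [l2, hcard]; simp)
  obtain ⟨s3, l3, hc3⟩ := sub_grow H C hI s2 hc hcl
  obtain ⟨d, hd, hdl, hdmin⟩ := exists_min (IB := IB) (l := span (span [0, a] b) c)
    (by rw [l3, l2, hcard]; simp)
  obtain ⟨s4, l4, -⟩ := sub_grow H C hI s3 hd hdl
  have hab : a < b := lt_of_le_of_ne (hamin b hb fun e => hbl (by simp [e])) fun e => hbl (by simp [e])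
  have hbc : b < c := lt_of_le_of_ne (hbmin c hc fun e => hcl (List.mem_append_left _ e)) fun e =>
    hcl (e ▸ hb2)
  have hcd : c < d := lt_of_le_of_ne (hcmin d hd fun e => hdl (List.mem_append_left _ e)) fun e =>
    hdl (e ▸ hc3)
  have hinv : ∀ {x}, x ∈ IB → x ≠ 0 → x ∈ invs := fun {x} hx hx0 => by
    have hxb := hI.bound x hx
    simp only [invs, List.mem_filter, List.mem_range, Bool.and_eq_true, Bool.not_eq_true']
    refine ⟨hxb, ?_, ?_⟩
    · cases hh : Nat.beq x 0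
      · rfl
      · exact absurd (Nat.eq_of_beq_eq_true hh) hx0
    · rw [Nat.beq_eq]
      exact tau_inj H C (tau_mul H C hxb hxb).1 (by norm_num)
        (by rw [← (tau_mul H C hxb hxb).2, hI.sq x hx, tau_zero H C])
  have hcm : ∀ {x y}, x ∈ IB → y ∈ IB → LFCheck89.comm x y = true := fun {x y} hx hy => by
    have hxb := hI.bound x hx
    have hyb := hI.bound y hy
    rw [LFCheck89.comm, Nat.beq_eq]
    exact tau_inj H C (tau_mul H C hxb hyb).1 (tau_mul H C hyb hxb).1
      (by rw [← (tau_mul H C hxb hyb).2, ← (tau_mul H C hyb hxb).2, hI.comm x hx y hy])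
  have hne0 : ∀ {x} {l : List ℕ}, 0 ∈ l → x ∉ l → x ≠ 0 := fun h0 hx e => hx (e ▸ h0)
  have hmem : ∀ {x} {l : List ℕ}, x ∉ l → mem x l = false := fun {x l} hx => by
    rw [Bool.eq_false_iff]; exact fun e => hx (mem_iff.1 e)
  have hblt : ∀ {x y : ℕ}, x < y → Nat.blt x y = true := fun hxy => by rw [Nat.blt_eq]; exact hxy
  have hA := sixteen_ok
  rw [sixteenOK, List.all_eq_true] at hA
  have h1 := hA a (hinv ha ha0)
  rw [List.all_eq_true] at h1
  have h2 := h1 b (hinv hb (hne0 (by simp) hbl))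
  simp only [hblt hab, hcm ha hb, Bool.and_self, Bool.not_true, Bool.false_or,
    List.all_eq_true] at h2
  have h3 := h2 c (hinv hc (hne0 s2.2.1 hcl))
  simp only [hblt hbc, hcm ha hc, hcm hb hc, hmem hcl, Bool.and_self, Bool.not_false,
    Bool.not_true, Bool.false_or, List.all_eq_true] at h3
  have h4 := h3 d (hinv hd (hne0 s3.2.1 hdl))
  simp only [hblt hcd, hcm ha hd, hcm hb hd, hcm hc hd, hmem hdl, Bool.and_self,
    Bool.not_false, Bool.not_true, Bool.false_or, Bool.or_eq_true, same, List.all_eq_true,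
    mem_iff] at h4
  have hK : (span (span (span [0, a] b) c) d).toFinset = IB := by
    refine Finset.eq_of_subset_of_card_le (fun x hx => s4.2.2.1 x (List.mem_toFinset.1 hx)) ?_
    rw [List.toFinset_card_of_nodup s4.1, l4, l3, l2, hcard]
    simp
  rcases h4 with h4 | h4
  · left
    refine Finset.eq_of_subset_of_card_le (fun x hx => ?_) ?_
    · rw [← hK, List.mem_toFinset] at hx
      exact List.mem_toFinset.2 (h4 x hx)
    · rw [hcard, List.toFinset_card_of_nodup eOne_list.2.1, eOne_list.1]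
  · right
    refine Finset.eq_of_subset_of_card_le (fun x hx => ?_) ?_
    · rw [← hK, List.mem_toFinset] at hx
      exact List.mem_toFinset.2 (h4 x hx)
    · rw [hcard, List.toFinset_card_of_nodup eTwo_list.2.1, eTwo_list.1]

theorem exists_index {B : Subgroup X} (hB : B ≤ T0 H C) (hsq : ∀ x ∈ B, x * x = 1)
    (hcomm : ∀ x ∈ B, ∀ y ∈ B, x * y = y * x) :
    ∃ IB : Finset ℕ, EI (h := h) (Φ := Φ) IB ∧ IB.card = Nat.card B ∧
      (∀ i ∈ IB, tau h Φ i ∈ B) ∧ ∀ x ∈ B, ∃ i ∈ IB, x = tau h Φ i := by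
  classical
  let IB := (Finset.range 128).filter fun i => tau h Φ i ∈ B
  have hm : ∀ i, i ∈ IB ↔ i < 128 ∧ tau h Φ i ∈ B := fun i => by simp [IB]
  refine ⟨IB, ⟨fun i hi => ((hm i).1 hi).1, (hm 0).2 ⟨by norm_num, by rw [tau_zero H C]; exact one_mem B⟩,
    fun i hi => hsq _ ((hm i).1 hi).2, fun i hi j hj => hcomm _ ((hm i).1 hi).2 _ ((hm j).1 hj).2,
    fun i hi j hj => ?_⟩, ?_, fun i hi => ((hm i).1 hi).2, fun x hx => ?_⟩
  · obtain ⟨hi1, hi2⟩ := (hm i).1 hi
    obtain ⟨hj1, hj2⟩ := (hm j).1 hj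
    exact (hm _).2 ⟨(tau_mul H C hi1 hj1).1, by rw [← (tau_mul H C hi1 hj1).2]; exact mul_mem hi2 hj2⟩
  · rw [← Nat.card_eq_finsetCard]
    refine Nat.card_congr (Equiv.ofBijective (fun i => (⟨tau h Φ i.1, ((hm i.1).1 i.2).2⟩ : B))
      ⟨fun a b e => Subtype.ext (tau_inj H C ((hm _).1 a.2).1 ((hm _).1 b.2).1 (congrArg Subtype.val e)),
        fun x => ?_⟩)
    obtain ⟨i, hi, e⟩ := hB x.2
    exact ⟨⟨i, (hm i).2 ⟨hi, e ▸ x.2⟩⟩, Subtype.ext e.symm⟩
  · obtain ⟨i, hi, e⟩ := hB hx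
    exact ⟨i, (hm i).2 ⟨hi, e ▸ hx⟩, e⟩

theorem mem_16 {B : Subgroup X} (hB : B ≤ T0 H C) (hsq : ∀ x ∈ B, x * x = 1)
    (hcomm : ∀ x ∈ B, ∀ y ∈ B, x * y = y * x) (hcard : Nat.card B = 16) :
    (∀ x, x ∈ B ↔ ∃ i ∈ eOne, x = tau h Φ i) ∨ ∀ x, x ∈ B ↔ ∃ i ∈ eTwo, x = tau h Φ i := by
  classical
  obtain ⟨IB, hI, hc, hin, hout⟩ := exists_index H C hB hsq hcomm
  rcases classify H C hI (hc.trans hcard) with e | e
  · left
    intro x
    exact ⟨fun hx => by obtain ⟨i, hi, hxi⟩ := hout x hx; exact ⟨i, by simpa [e] using hi, hxi⟩,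
      fun ⟨i, hi, hxi⟩ => hxi ▸ hin i (by simp [e, hi])⟩
  · right
    intro x
    exact ⟨fun hx => by obtain ⟨i, hi, hxi⟩ := hout x hx; exact ⟨i, by simpa [e] using hi, hxi⟩,
      fun ⟨i, hi, hxi⟩ => hxi ▸ hin i (by simp [e, hi])⟩

/-- There is no elementary abelian subgroup of order 32 in the subgroup of index two. -/
theorem card_le_sixteen {B : Subgroup X} (hB : B ≤ Mb) (hsq : ∀ x ∈ B, x * x = 1)
    (hcomm : ∀ x ∈ B, ∀ y ∈ B, x * y = y * x) : Nat.card B ≤ 16 := by
  classical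
  by_contra hlt
  push Not at hlt
  obtain ⟨g, -, hg⟩ := exists_conj_T0 H C hB fun x => ⟨1, by
    rw [pow_one, pow_two]; exact Subtype.ext (hsq _ x.2)⟩
  obtain ⟨IB, hI, hc, -, -⟩ := exists_index H C hg
    (by rintro _ ⟨x, hx, rfl⟩; rw [← map_mul, hsq x hx, map_one])
    (by rintro _ ⟨x, hx, rfl⟩ _ ⟨y, hy, rfl⟩; rw [← map_mul, hcomm x hx y hy, map_mul])
  rw [card_cj] at hc
  have hsub : IB ⊆ (eOne.toFinset ∪ eTwo.toFinset) := by
    intro x hx
    by_cases hx0 : x = 0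
    · subst hx0
      exact Finset.mem_union_left _ (by decide +kernel)
    have s1 := sub_one H C hI hx hx0
    obtain ⟨b, hb, hbl, -⟩ := exists_min (IB := IB) (l := [0, x]) (by simp; omega)
    obtain ⟨s2, l2, -⟩ := sub_grow H C hI s1 hb hbl
    obtain ⟨c, hc', hcl, -⟩ := exists_min (IB := IB) (l := span [0, x] b) (by rw [l2]; simp; omega)
    obtain ⟨s3, l3, -⟩ := sub_grow H C hI s2 hc' hcl
    obtain ⟨d, hd, hdl, -⟩ := exists_min (IB := IB) (l := span (span [0, x] b) c)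
      (by rw [l3, l2]; simp; omega)
    obtain ⟨s4, l4, -⟩ := sub_grow H C hI s3 hd hdl
    set L := span (span (span [0, x] b) c) d with hL
    have hI' : EI (h := h) (Φ := Φ) L.toFinset :=
      ⟨fun i hi => hI.bound i (s4.2.2.1 i (List.mem_toFinset.1 hi)), List.mem_toFinset.2 s4.2.1,
        fun i hi => hI.sq i (s4.2.2.1 i (List.mem_toFinset.1 hi)),
        fun i hi j hj => hI.comm i (s4.2.2.1 i (List.mem_toFinset.1 hi)) j
          (s4.2.2.1 j (List.mem_toFinset.1 hj)),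
        fun i hi j hj => List.mem_toFinset.2
          (s4.2.2.2 i (List.mem_toFinset.1 hi) j (List.mem_toFinset.1 hj))⟩
    have hxL : x ∈ L.toFinset := by simp [hL, span]
    rcases classify H C hI' (by rw [List.toFinset_card_of_nodup s4.1, l4, l3, l2]; simp) with e | e
    · exact Finset.mem_union_left _ (e ▸ hxL)
    · exact Finset.mem_union_right _ (e ▸ hxL)
  have hcu : (eOne.toFinset ∪ eTwo.toFinset).card < 32 := by decide +kernel
  have hpow : ∃ k, Nat.card B = 2 ^ k := by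
    haveI : Fact (Nat.Prime 2) := ⟨Nat.prime_two⟩
    exact IsPGroup.iff_card.1 fun x => ⟨1, by rw [pow_one, pow_two]; exact Subtype.ext (hsq _ x.2)⟩
  obtain ⟨k, hk⟩ := hpow
  have h5 : 5 ≤ k := by
    by_contra h5
    have := Nat.pow_le_pow_right (n := 2) (by norm_num) (show k ≤ 4 by omega)
    omega
  have := Nat.pow_le_pow_right (n := 2) (by norm_num) h5
  have := Finset.card_le_card hsub
  omega

/-! ### Fixed spaces -/

theorem fixes_of {E : List ℕ} (hb : ∀ i ∈ E, i < 128) {c : ℕ}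
    (hfix : ∀ i ∈ E, op ρ (tau h Φ i) (nc s ν c) = nc s ν c) (hc : c < 4096) : fixes E c = true := by
  rw [fixes, List.all_eq_true]
  intro i hi
  rw [Nat.beq_eq]
  exact nc_inj H C (app_lt _ _) hc (by rw [← op_tau_nc H C (hb i hi)]; exact hfix i hi)

theorem fix_eOne {v : V} (hv : ∀ i ∈ eOne, op ρ (tau h Φ i) v = v) :
    ∃ c ∈ uList, v = nc s ν c := by
  obtain ⟨c, hc, rfl⟩ := exists_nc H C v
  have hf := fix_ok
  simp only [fixOK, Bool.and_eq_true] at hf
  have := allBelow_spec hf.1.2 c hc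
  rw [fixes_of H C eOne_list.2.2 hv hc, Bool.not_true, Bool.false_or, mem_iff] at this
  exact ⟨c, this, rfl⟩

theorem uList_spec {c : ℕ} (hc : c ∈ uList) :
    c < 4096 ∧ q (nc s ν c) = 0 ∧ ∀ i ∈ eOne, op ρ (tau h Φ i) (nc s ν c) = nc s ν c := by
  have hf := fix_ok
  simp only [fixOK, Bool.and_eq_true, List.all_eq_true, Nat.blt_eq, Bool.not_eq_true'] at hf
  obtain ⟨⟨h1, h2⟩, h3⟩ := hf.1.1.2 c hc
  refine ⟨h1, by rw [q_nc H C, h3]; simp, fun i hi => ?_⟩
  rw [op_tau_nc H C (eOne_list.2.2 i hi)]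
  rw [fixes, List.all_eq_true] at h2
  rw [Nat.eq_of_beq_eq_true (h2 i hi)]

theorem fix_eTwo {W : Set V} (hW : ∀ v ∈ W, ∀ i ∈ eTwo, op ρ (tau h Φ i) v = v) : W.ncard ≤ 4 := by
  classical
  have hf := fix_ok
  simp only [fixOK, Bool.and_eq_true] at hf
  let l := (List.range 4096).filter (fixes eTwo)
  have hl : l.length ≤ 4 := Nat.le_of_ble_eq_true hf.2
  have hsub : W ⊆ nc s ν '' (l.toFinset : Set ℕ) := by
    intro v hv
    obtain ⟨c, hc, rfl⟩ := exists_nc H C v
    refine ⟨c, ?_, rfl⟩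
    simp only [l, Finset.mem_coe, List.mem_toFinset, List.mem_filter, List.mem_range]
    exact ⟨hc, fixes_of H C eTwo_list.2.2 (hW _ hv) hc⟩
  refine le_trans (Set.ncard_le_ncard hsub (Set.toFinite _)) ?_
  refine le_trans (Set.ncard_image_le (Set.toFinite _)) ?_
  rw [Set.ncard_coe_finset]
  exact (List.toFinset_card_le l).trans hl

end

end Cfsg.Agent.LFSylow89
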