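import Mathlib
import Cfsg.Agent.Lib.LFSylow89

/-!
The outer elements invert the fixed point free element; the bound for an elementary abelian
subgroup with a fixed totally singular subspace, and the subgroup attaining it.
-/

set_option autoImplicit false
set_option linter.unusedSectionVars false
set_option linter.style.haveILetI false
set_option maxHeartbeats 800000
set_option maxRecDepth 100000

namespace Cfsg.Agent.LFBound89

open Cfsg Cfsg.Agent.U62Mon93 Cfsg.Agent.U62Existence93
open Cfsg.Agent.LFForm89 Cfsg.Agent.LFMat89 Cfsg.Agent.LFModel89 Cfsg.Agent.LFSylow89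
open Cfsg.Agent.LFData89 Cfsg.Agent.LFCheck89
open scoped Matrix

universe u v

/-- Elementary abelian of exponent two. -/
def EA {X : Type*} [Group X] (B : Subgroup X) : Prop :=
  (∀ x ∈ B, x * x = 1) ∧ ∀ x ∈ B, ∀ y ∈ B, x * y = y * x

theorem eOne_closed : ∀ i ∈ eOne, tab i i = 0 ∧ ∀ j ∈ eOne, tab i j ∈ eOne ∧ tab i j = tab j i := by
  decide +kernel

theorem eTwo_closed : ∀ i ∈ eTwo, i < 128 := eTwo_list.2.2

theorem eOne_zero : 0 ∈ eOne ∧ eOne.getD 1 0 ∈ eOne ∧ eOne.getD 1 0 ≠ 0 := by decide +kernel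

variable {X : Type u} [Group X] [Finite X] {V : Type v} [AddCommGroup V]
variable {F : Type} [Field F] [Fintype F] {s : F}
variable {h : S4 s} {ρ : X →* AddMonoid.End V} {q : V → ZMod 2} {n : X} {Mb : Subgroup X}
variable {ν : (Fin 6 → F) → V} {Φ : K0 h →* X}

/-- The common fixed points of a subgroup. -/
def Fix (ρ : X →* AddMonoid.End V) (B : Subgroup X) : AddSubgroup V where
  carrier := {v | ∀ x ∈ B, op ρ x v = v}
  zero_mem' := fun x _ => map_zero _
  add_mem' := fun {a b} ha hb x hx => by rw [map_add, ha x hx, hb x hx]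
  neg_mem' := fun {a} ha x hx => by rw [map_neg, ha x hx]

theorem mem_Fix {B : Subgroup X} {v : V} : v ∈ Fix ρ B ↔ ∀ x ∈ B, op ρ x v = v := Iff.rfl

theorem Fix_cj {g : X} {B : Subgroup X} {v : V} (hv : v ∈ Fix ρ B) : op ρ g v ∈ Fix ρ (cj g B) := by
  rintro _ ⟨b, hb, rfl⟩
  show op ρ (g * b * g⁻¹) (op ρ g v) = op ρ g v
  rw [← rho_mul, inv_mul_cancel_right, rho_mul, hv b hb]

theorem EA.cj {B : Subgroup X} (hB : EA B) (g : X) : EA (cj g B) :=
  ⟨by rintro _ ⟨x, hx, rfl⟩; rw [← map_mul, hB.1 x hx, map_one],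
    by rintro _ ⟨x, hx, rfl⟩ _ ⟨y, hy, rfl⟩; rw [← map_mul, hB.2 x hx y hy, map_mul]⟩

theorem EA.le {A B : Subgroup X} (hB : EA B) (hAB : A ≤ B) : EA A :=
  ⟨fun x hx => hB.1 x (hAB hx), fun x hx y hy => hB.2 x (hAB hx) y (hAB hy)⟩

theorem EA.pGroup {B : Subgroup X} (hB : EA B) : IsPGroup 2 B :=
  fun x => ⟨1, by rw [pow_one, pow_two]; exact Subtype.ext (hB.1 _ x.2)⟩

/-- A totally isotropic subspace has at most 64 elements. -/
theorem card_iso {o : V →+ V} (H : Fx o q) (W : AddSubgroup V)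
    (hp : ∀ a ∈ W, ∀ b ∈ W, pol q a b = 0) : Nat.card W ≤ 64 := by
  haveI : Finite V := Nat.finite_of_card_ne_zero (by rw [H.card]; norm_num)
  let f : W → (V ⧸ W →+ ZMod 2) := fun a => QuotientAddGroup.lift W
    (AddMonoidHom.mk' (fun x => pol q a.1 x) fun x y => H.addr x y a.1)
    fun b hb => hp a.1 a.2 b hb
  have hinj : Function.Injective f := by
    intro a b e
    have hz : (a : V) + b = 0 := H.nondeg _ fun x => by
      have e' := congrArg (fun g : V ⧸ W →+ ZMod 2 => g (QuotientAddGroup.mk x)) e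
      rw [H.addl, show pol q (a : V) x = pol q (b : V) x from e', z2]
    refine Subtype.ext ?_
    rw [← add_zero (a : V), ← H.two (b : V), ← add_assoc, hz, zero_add]
  haveI : Finite (V ⧸ W →+ ZMod 2) := Finite.of_injective _ DFunLike.coe_injective
  have h1 := Nat.card_le_card_of_injective f hinj
  rw [FischerFrame18.card_dual (V ⧸ W) fun x => by
    induction x using QuotientAddGroup.induction_on with
    | H v => rw [← QuotientAddGroup.mk_add, H.two]; rfl] at h1
  have h2 := AddSubgroup.card_eq_card_quotient_mul_card_addSubgroup W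
  rw [H.card] at h2
  by_contra hlt
  push Not at hlt
  have := Nat.mul_le_mul (le_of_lt (lt_of_lt_of_le hlt h1)) (le_of_lt hlt)
  nlinarith

/-- A totally singular subspace has at most 64 elements. -/
theorem card_sing {o : V →+ V} (H : Fx o q) (W : AddSubgroup V) (hW : ∀ v ∈ W, q v = 0) :
    Nat.card W ≤ 64 :=
  card_iso H W fun a ha b hb => by simp [pol, hW a ha, hW b hb, hW _ (W.add_mem ha hb)]

section

variable (H : Hyp ρ q n Mb) (C : Coord h ρ q n Mb ν Φ)
include H C

theorem exists_word {w : List ℕ} (hw : w.all (fun x => Nat.blt x 8) = true) :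
    ∃ g ∈ Mb, ∀ v, op ρ g (ν v) = ν (matOf s (word w) *ᵥ v) := by
  obtain ⟨g, hg, e⟩ := word_mem h w hw
  exact ⟨Φ ⟨g, hg⟩, C.range ▸ ⟨_, rfl⟩, fun v => by rw [C.act, ← e]⟩

end

/-- The first elementary abelian subgroup of order 16. -/
def E1 (H : Hyp ρ q n Mb) (C : Coord h ρ q n Mb ν Φ) : Subgroup X where
  carrier := {x | ∃ i ∈ eOne, x = tau h Φ i}
  one_mem' := ⟨0, eOne_zero.1, (tau_zero H C).symm⟩
  mul_mem' := fun {a b} ⟨i, hi, ea⟩ ⟨j, hj, eb⟩ => ⟨_, ((eOne_closed i hi).2 j hj).1, by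
    rw [ea, eb, (tau_mul H C (eOne_list.2.2 i hi) (eOne_list.2.2 j hj)).2]⟩
  inv_mem' := fun {a} ⟨i, hi, ea⟩ => ⟨i, hi, by
    rw [ea]
    refine inv_eq_of_mul_eq_one_right ?_
    rw [(tau_mul H C (eOne_list.2.2 i hi) (eOne_list.2.2 i hi)).2, (eOne_closed i hi).1,
      tau_zero H C]⟩

section

variable (H : Hyp ρ q n Mb) (C : Coord h ρ q n Mb ν Φ)
include H C

theorem E1_le : E1 H C ≤ T0 H C := by
  rintro _ ⟨i, hi, rfl⟩
  exact ⟨i, eOne_list.2.2 i hi, rfl⟩

theorem E1_ea : EA (E1 H C) := by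
  refine ⟨?_, ?_⟩
  · rintro _ ⟨i, hi, rfl⟩
    rw [(tau_mul H C (eOne_list.2.2 i hi) (eOne_list.2.2 i hi)).2, (eOne_closed i hi).1, tau_zero H C]
  · rintro _ ⟨i, hi, rfl⟩ _ ⟨j, hj, rfl⟩
    rw [(tau_mul H C (eOne_list.2.2 i hi) (eOne_list.2.2 j hj)).2,
      (tau_mul H C (eOne_list.2.2 j hj) (eOne_list.2.2 i hi)).2, ((eOne_closed i hi).2 j hj).2]

theorem card_E1 : Nat.card (E1 H C) = 16 := by
  classical
  let f : eOne.toFinset → E1 H C := fun i => ⟨tau h Φ i.1, i.1, List.mem_toFinset.1 i.2, rfl⟩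
  rw [← Nat.card_congr (Equiv.ofBijective f ⟨fun a b e => Subtype.ext (tau_inj H C
      (eOne_list.2.2 _ (List.mem_toFinset.1 a.2)) (eOne_list.2.2 _ (List.mem_toFinset.1 b.2))
      (congrArg Subtype.val e)),
    fun x => by obtain ⟨i, hi, e⟩ := x.2; exact ⟨⟨i, List.mem_toFinset.2 hi⟩, Subtype.ext e.symm⟩⟩),
    Nat.card_eq_finsetCard, List.toFinset_card_of_nodup eOne_list.2.1, eOne_list.1]

theorem mem_Fix_E1 {v : V} : v ∈ Fix ρ (E1 H C) ↔ ∃ c ∈ uList, v = nc s ν c := by
  refine ⟨fun hv => fix_eOne H C fun i hi => hv _ ⟨i, hi, rfl⟩, ?_⟩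
  rintro ⟨c, hc, rfl⟩ _ ⟨i, hi, rfl⟩
  exact (uList_spec H C hc).2.2 i hi

theorem Fix_E1_sing : ∀ v ∈ Fix ρ (E1 H C), q v = 0 := fun v hv => by
  obtain ⟨c, hc, rfl⟩ := (mem_Fix_E1 H C).1 hv
  exact (uList_spec H C hc).2.1

theorem card_Fix_E1 : Nat.card (Fix ρ (E1 H C)) = 64 := by
  classical
  have hu : uList.Nodup ∧ uList.length = 64 := by decide +kernel
  let f : uList.toFinset → Fix ρ (E1 H C) := fun c =>
    ⟨nc s ν c.1, (mem_Fix_E1 H C).2 ⟨c.1, List.mem_toFinset.1 c.2, rfl⟩⟩
  rw [← Nat.card_congr (Equiv.ofBijective f ⟨fun a b e => Subtype.ext (nc_inj H C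
      (uList_spec H C (List.mem_toFinset.1 a.2)).1 (uList_spec H C (List.mem_toFinset.1 b.2)).1
      (congrArg Subtype.val e)),
    fun x => by
      obtain ⟨c, hc, e⟩ := (mem_Fix_E1 H C).1 x.2
      exact ⟨⟨c, List.mem_toFinset.2 hc⟩, Subtype.ext e.symm⟩⟩),
    Nat.card_eq_finsetCard, List.toFinset_card_of_nodup hu.1, hu.2]

/-- A subgroup of order 16 of the Sylow subgroup with more than four fixed points is the first. -/
theorem eq_E1 {B : Subgroup X} (hB : B ≤ T0 H C) (hea : EA B) (hcard : Nat.card B = 16)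
    (W : AddSubgroup V) (hW : W ≤ Fix ρ B) (h4 : 4 < Nat.card W) : B = E1 H C := by
  rcases mem_16 H C hB hea.1 hea.2 hcard with e | e
  · ext x; exact e x
  · exfalso
    have := fix_eTwo H C (W := (W : Set V)) fun v hv i hi => hW hv _ ((e _).2 ⟨i, hi, rfl⟩)
    rw [← Nat.card_coe_set_eq] at this
    exact absurd this (not_le.2 h4)

/-- The normaliser of the first subgroup is transitive on its involutions. -/
theorem E1_trans {i : ℕ} (hi : i ∈ eOne) (hi0 : i ≠ 0) :
    ∃ g ∈ Mb, (∀ x ∈ E1 H C, g * x * g⁻¹ ∈ E1 H C) ∧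
      g * tau h Φ (eOne.getD 1 0) * g⁻¹ = tau h Φ i := by
  classical
  set a := eOne.getD 1 0 with ha
  let P : ℕ → Prop := fun e => e ∈ eOne ∧ ∃ g ∈ Mb, (∀ x ∈ E1 H C, g * x * g⁻¹ ∈ E1 H C) ∧
    g * tau h Φ a * g⁻¹ = tau h Φ e
  have hall := trans_ok
  simp only [transOK, Bool.and_eq_true] at hall
  obtain ⟨hk, horb⟩ := hall
  let st : List ℕ → List ℕ := fun l => (l ++ eOne.filter fun e' => l.any fun e => (List.range 3).any
    fun k => Nat.beq (mulM (trC.getD k 0) (el e)) (mulM (el e') (trC.getD k 0))).dedup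
  have hel : ∀ {k e e'}, k < 3 → e ∈ eOne → e' ∈ eOne →
      mulM (trC.getD k 0) (el e) = mulM (el e') (trC.getD k 0) →
      ∀ g : X, (∀ v, op ρ g (ν v) = ν (matOf s (trC.getD k 0) *ᵥ v)) →
      g * tau h Φ e * g⁻¹ = tau h Φ e' := by
    intro k e e' _ he he' hm g hg
    rw [mul_inv_eq_iff_eq_mul]
    refine ext_op H C fun v => ?_
    rw [rho_mul, rho_mul, op_tau H C (eOne_list.2.2 e he), hg, hg,
      op_tau H C (eOne_list.2.2 e' he'), Matrix.mulVec_mulVec, Matrix.mulVec_mulVec,
      ← matOf_mul h, hm, matOf_mul h]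
  have hgk : ∀ k < 3, ∃ g ∈ Mb, (∀ v, op ρ g (ν v) = ν (matOf s (trC.getD k 0) *ᵥ v)) ∧
      ∀ x ∈ E1 H C, g * x * g⁻¹ ∈ E1 H C := by
    intro k hk3
    have h1 := allBelow_spec hk k hk3
    simp only [Bool.and_eq_true, Nat.beq_eq, List.all_eq_true, List.any_eq_true] at h1
    obtain ⟨g, hg, hgv⟩ := exists_word H C (w := trWord.getD k [])
      (by rw [List.all_eq_true]; exact h1.1.1)
    rw [h1.1.2] at hgv
    refine ⟨g, hg, hgv, ?_⟩
    rintro _ ⟨e, he, rfl⟩
    obtain ⟨e', he', hm⟩ := h1.2 e he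
    exact ⟨e', he', hel hk3 he he' hm g hgv⟩
  have hst : ∀ l : List ℕ, (∀ e ∈ l, P e) → ∀ e ∈ st l, P e := by
    intro l hl e he
    simp only [st, List.mem_dedup, List.mem_append, List.mem_filter, List.any_eq_true,
      List.mem_range, Nat.beq_eq] at he
    rcases he with he | ⟨he, e0, he0, k, hk3, hm⟩
    · exact hl e he
    · obtain ⟨he0', g, hg, hgn, hga⟩ := hl e0 he0
      obtain ⟨gk, hgkM, hgkv, hgkn⟩ := hgk k hk3
      refine ⟨he, gk * g, mul_mem hgkM hg, fun x hx => ?_, ?_⟩
      · have := hgkn _ (hgn x hx)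
        simpa [mul_assoc] using this
      · rw [← hel hk3 he0' he hm gk hgkv, ← hga]; group
  have h0 : ∀ e ∈ [a], P e := fun e he => by
    rw [List.mem_singleton] at he
    subst he
    exact ⟨eOne_zero.2.1, 1, one_mem _, fun x hx => by simpa using hx, by group⟩
  have hP := hst _ (hst _ (hst _ (hst _ (hst _ (hst _ h0)))))
  set L := st (st (st (st (st (st [a]))))) with hL
  have hlen : L.length = 15 := Nat.eq_of_beq_eq_true horb
  have hne : (0 : ℕ) ∉ L := fun h0' => by
    obtain ⟨-, g, -, -, hg⟩ := hP 0 h0'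
    rw [tau_zero H C, conj_eq_one_iff, ← tau_zero H C] at hg
    exact eOne_zero.2.2 (tau_inj H C (eOne_list.2.2 a eOne_zero.2.1) (by norm_num) hg)
  have hsub : L.toFinset = eOne.toFinset.erase 0 := by
    refine Finset.eq_of_subset_of_card_le (fun e he => ?_) ?_
    · rw [List.mem_toFinset] at he
      exact Finset.mem_erase.2 ⟨fun e0 => hne (e0 ▸ he), List.mem_toFinset.2 (hP e he).1⟩
    · rw [Finset.card_erase_of_mem (List.mem_toFinset.2 eOne_zero.1),
        List.toFinset_card_of_nodup eOne_list.2.1, eOne_list.1,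
        List.toFinset_card_of_nodup (List.nodup_dedup _), hlen]
  have : i ∈ L := by
    rw [← List.mem_toFinset, hsub]
    exact Finset.mem_erase.2 ⟨hi0, List.mem_toFinset.2 hi⟩
  exact (hP i this).2

/-! ### The outer elements -/

theorem not_linear {E : Subgroup X} (hE : EA E) (h32 : 32 ≤ Nat.card E) {v : V} (hv0 : v ≠ 0)
    (hfix : ∀ e ∈ E, op ρ e v = v)
    (hnorm : ∀ g, op ρ g v = v → ∀ e ∈ E, g * e * g⁻¹ ∈ E) :
    ∀ t, t ∉ Mb → t * n ≠ n * t := by
  classical
  intro t ht htn
  obtain ⟨x, hxM, hx⟩ := C.outer t ht htn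
  have hxx : x * x = 1 := ext_op H C fun w => by
    rw [rho_mul, hx, hx, Matrix.mulVec_mulVec, ← matOf_mul h, pi_ok.1, matOf_id h,
      Matrix.one_mulVec, rho_one]
  have hxinv : x⁻¹ = x := inv_eq_of_mul_eq_one_right hxx
  have hgen : ∀ k < 7, ∃ j < 128, x * tau h Φ (2 ^ k) * x = tau h Φ j := by
    intro k hk
    have h1 := allBelow_spec out_ok k hk
    simp only [mem_iff] at h1
    obtain ⟨j, hj, he⟩ := List.mem_iff_getElem.1 h1
    have hj' : j < 128 := sylEl_len ▸ hj
    have hej : el j = mulM piC (mulM (sylGen.getD k 0) piC) := by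
      rw [← he, el, List.getD_eq_getElem?_getD, List.getElem?_eq_getElem hj, Option.getD_some]
    refine ⟨j, hj', ext_op H C fun w => ?_⟩
    have hb : 2 ^ k < 128 := by
      calc 2 ^ k < 2 ^ 7 := Nat.pow_lt_pow_right (by norm_num) hk
        _ = 128 := rfl
    rw [rho_mul, hx, rho_mul, op_tau H C hb, hx, op_tau H C hj', hej, matOf_mul h,
      matOf_mul h, (sylGen_el k hk).1, Matrix.mulVec_mulVec, Matrix.mulVec_mulVec, mul_assoc]
  have hall : ∀ i < 128, ∃ j < 128, x * tau h Φ i * x = tau h Φ j := by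
    intro i
    induction i using Nat.strong_induction_on with
    | _ i ih =>
      intro hi
      rcases Nat.eq_zero_or_pos i with rfl | hpos
      · exact ⟨0, by norm_num, by rw [tau_zero H C, mul_one, hxx]⟩
      · obtain ⟨k, hk1, hk2⟩ : ∃ k, 2 ^ k ≤ i ∧ i < 2 ^ (k + 1) :=
          ⟨Nat.log 2 i, Nat.pow_log_le_self 2 hpos.ne', Nat.lt_pow_succ_log_self one_lt_two i⟩
        have hk : k < 7 := (Nat.pow_lt_pow_iff_right (by norm_num : 1 < 2)).1
          (lt_of_le_of_lt hk1 (show i < 2 ^ 7 from hi))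
        obtain ⟨i', rfl⟩ := Nat.exists_eq_add_of_le hk1
        have hi' : i' < 2 ^ k := by rw [pow_succ] at hk2; omega
        have hp : 2 ^ k < 128 := by omega
        have e1 := Nat.eq_of_beq_eq_true (allBelow_spec (allBelow_spec elStep_ok k hk) i' hi')
        have e2 : tau h Φ (2 ^ k + i') = tau h Φ (2 ^ k) * tau h Φ i' := ext_op H C fun w => by
          rw [rho_mul, op_tau H C hi, op_tau H C (by omega : i' < 128), op_tau H C hp, e1,
            matOf_mul h, (sylGen_el k hk).1, Matrix.mulVec_mulVec]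
        obtain ⟨a, ha, ea⟩ := hgen k hk
        obtain ⟨b, hb, eb⟩ := ih i' (by have := Nat.two_pow_pos k; omega) (by omega)
        refine ⟨_, (tau_mul H C ha hb).1, ?_⟩
        rw [← (tau_mul H C ha hb).2, ← ea, ← eb, e2,
          show x * tau h Φ (2 ^ k) * x * (x * tau h Φ i' * x) =
            x * tau h Φ (2 ^ k) * (x * x) * tau h Φ i' * x by simp only [mul_assoc], hxx, mul_one]
        simp only [mul_assoc]
  have hT0 : ∀ a ∈ T0 H C, x * a * x ∈ T0 H C := by
    rintro _ ⟨i, hi, rfl⟩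
    obtain ⟨j, hj, e⟩ := hall i hi
    exact ⟨j, hj, e⟩
  let T1 : Subgroup X :=
    { carrier := {y | y ∈ T0 H C ∨ y * x ∈ T0 H C}
      one_mem' := Or.inl (one_mem _)
      mul_mem' := fun {a b} ha hb => by
        rcases ha with ha | ha <;> rcases hb with hb | hb
        · exact Or.inl (mul_mem ha hb)
        · exact Or.inr (by rw [mul_assoc]; exact mul_mem ha hb)
        · refine Or.inr ?_
          have h1 := mul_mem ha (hT0 b hb)
          rwa [show a * x * (x * b * x) = a * (x * x) * b * x by simp only [mul_assoc], hxx, mul_one] at h1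
        · refine Or.inl ?_
          have h1 := mul_mem ha (hT0 _ hb)
          rwa [show a * x * (x * (b * x) * x) = a * (x * x) * b * (x * x) by simp only [mul_assoc], hxx,
            mul_one, mul_one] at h1
      inv_mem' := fun {a} ha => by
        rcases ha with ha | ha
        · exact Or.inl (inv_mem ha)
        · refine Or.inr ?_
          have h1 := hT0 _ (inv_mem ha)
          rwa [mul_inv_rev, hxinv, ← mul_assoc x x, hxx, one_mul] at h1 }
  have hT1card : Nat.card T1 = 256 := by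
    let f : T0 H C ⊕ T0 H C → T1 := fun a =>
      ⟨Sum.elim (fun b : T0 H C => (b : X)) (fun b : T0 H C => (b : X) * x) a, by
        rcases a with b | b
        · exact Or.inl b.2
        · exact Or.inr (by show (b : X) * x * x ∈ _; rw [mul_assoc, hxx, mul_one]; exact b.2)⟩
    rw [← Nat.card_congr (Equiv.ofBijective f ⟨?_, ?_⟩), Nat.card_sum, card_T0 H C]
    · rintro (a | a) (b | b) e <;> have e' := congrArg Subtype.val e <;> simp only [f, Sum.elim_inl,
        Sum.elim_inr] at e'
      · exact congrArg Sum.inl (Subtype.ext e')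
      · exfalso
        refine hxM ?_
        rw [show x = (b : X)⁻¹ * a by rw [e', inv_mul_cancel_left]]
        exact mul_mem (inv_mem (T0_le H C b.2)) (T0_le H C a.2)
      · exfalso
        refine hxM ?_
        rw [show x = (a : X)⁻¹ * b by rw [← e', inv_mul_cancel_left]]
        exact mul_mem (inv_mem (T0_le H C a.2)) (T0_le H C b.2)
      · exact congrArg Sum.inr (Subtype.ext (mul_right_cancel e'))
    · rintro ⟨y, hy | hy⟩
      · exact ⟨Sum.inl ⟨y, hy⟩, rfl⟩
      · exact ⟨Sum.inr ⟨_, hy⟩, Subtype.ext (show y * x * x = y by rw [mul_assoc, hxx, mul_one])⟩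
  haveI : Fact (Nat.Prime 2) := ⟨Nat.prime_two⟩
  have hXcard : (Nat.card X).factorization 2 = 8 := by
    rw [← Mb.card_mul_index, H.index_two, card_Mb H C,
      show (9797760 * 2 : ℕ) = 2 ^ 8 * 76545 by norm_num,
      Nat.factorization_mul (by norm_num) (by norm_num), Finsupp.add_apply,
      Nat.prime_two.factorization_pow, Finsupp.single_eq_same,
      Nat.factorization_eq_zero_of_not_dvd (by norm_num : ¬ 2 ∣ 76545), add_zero]
  let T : Sylow 2 X := Sylow.ofCard T1 (by rw [hT1card, hXcard]; rfl)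
  obtain ⟨S, hS⟩ := hE.pGroup.exists_le_sylow
  obtain ⟨g, hg⟩ := MulAction.exists_smul_eq X S T
  have hE' : cj g E ≤ T1 := by
    rintro _ ⟨y, hy, rfl⟩
    have h1 : g * y * g⁻¹ ∈ (g • S : Sylow 2 X) := ⟨y, hS hy, rfl⟩
    rw [hg] at h1
    exact h1
  set E' := cj g E with hE'def
  have hE'ea : EA E' := hE.cj g
  have hE'card : 32 ≤ Nat.card E' := by rwa [hE'def, card_cj]
  have hv' : op ρ g v ∈ Fix ρ E' := Fix_cj hfix
  have hv'0 : op ρ g v ≠ 0 := fun e => hv0 (by
    have := congrArg (op ρ g⁻¹) e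
    rwa [← rho_mul, inv_mul_cancel, rho_one, map_zero] at this)
  have hnorm' : ∀ y, op ρ y (op ρ g v) = op ρ g v → ∀ e ∈ E', y * e * y⁻¹ ∈ E' := by
    intro y hy e he
    obtain ⟨a, ha, rfl⟩ := he
    refine ⟨(g⁻¹ * y * g) * a * (g⁻¹ * y * g)⁻¹, hnorm _ ?_ a ha, ?_⟩
    · rw [rho_mul, rho_mul, hy, ← rho_mul, inv_mul_cancel, rho_one]
    · simp only [MulEquiv.coe_toMonoidHom, MulAut.conj_apply]; group
  set E0 := E' ⊓ T0 H C with hE0
  have hE0le : Nat.card E0 ≤ 16 :=
    card_le_sixteen H C (inf_le_right.trans (T0_le H C)) (hE'ea.le inf_le_left).1 (hE'ea.le inf_le_left).2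
  obtain ⟨y0, hy0, hy0T⟩ : ∃ y ∈ E', y ∉ T0 H C := by
    by_contra hno
    push Not at hno
    have : E0 = E' := inf_eq_left.2 hno
    rw [this] at hE0le
    omega
  have hcoset : ∀ y ∈ E', y ∉ T0 H C → y0 * y ∈ E0 := by
    intro y hy hyT
    refine ⟨mul_mem hy0 hy, ?_⟩
    have a0 := (hE' hy0).resolve_left hy0T
    have a1 := hT0 _ ((hE' hy).resolve_left hyT)
    have h2 := mul_mem a0 a1
    rwa [show y0 * x * (x * (y * x) * x) = y0 * (x * x) * y * (x * x) by simp only [mul_assoc], hxx,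
      mul_one, mul_one] at h2
  have hE016 : Nat.card E0 = 16 := by
    refine le_antisymm hE0le ?_
    let f : E' → E0 × Fin 2 := fun y => if hy : (y : X) ∈ T0 H C then (⟨y, y.2, hy⟩, 0)
      else (⟨y0 * y, hcoset y y.2 hy⟩, 1)
    have hf : Function.Injective f := by
      intro a b e
      simp only [f] at e
      split_ifs at e with ha hb hb <;> simp only [Prod.mk.injEq] at e
      · exact Subtype.ext (congrArg (fun z : E0 => (z : X)) e.1)
      · exact absurd e.2 (by decide)
      · exact absurd e.2 (by decide)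
      · exact Subtype.ext (mul_left_cancel (congrArg (fun z : E0 => (z : X)) e.1))
    have := Nat.card_le_card_of_injective f hf
    rw [Nat.card_prod, Nat.card_fin] at this
    omega
  obtain ⟨i, hi, hiy⟩ := (hE' hy0).resolve_left hy0T
  have hy0eq : y0 = tau h Φ i * x := by rw [← hiy, mul_assoc, hxx, mul_one]
  have hy0v : ∀ w, op ρ y0 (ν w) = ν (matOf s (out i) *ᵥ w) := fun w => by
    rw [hy0eq, rho_mul, hx, op_tau H C hi, out, matOf_mul h, Matrix.mulVec_mulVec]
  have hout := allBelow_spec outCent_ok i hi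
  simp only [Bool.and_eq_true, Bool.not_eq_true', Bool.or_eq_true] at hout
  have hcomm : ∀ e, (tau h Φ e ∈ E') → e < 128 → Nat.beq (mulM (out i) (el e)) (mulM (el e) (out i)) = true := by
    intro e he heb
    rw [Nat.beq_eq]
    refine matOf_inj h (mulM_lt _ _) (mulM_lt _ _) (Matrix.ext_of_mulVec_single fun k => C.bij.1 ?_)
    rw [matOf_mul h, matOf_mul h, ← Matrix.mulVec_mulVec, ← Matrix.mulVec_mulVec, ← hy0v,
      ← op_tau H C heb, ← op_tau H C heb, ← hy0v, ← rho_mul, ← rho_mul, hE'ea.2 _ hy0 _ he]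
  have hE0E : ∀ z, z ∈ E0 ↔ ∃ e ∈ eOne, z = tau h Φ e := by
    rcases mem_16 H C inf_le_right (hE'ea.le inf_le_left).1 (hE'ea.le inf_le_left).2 hE016 with e | e
    · exact e
    · exfalso
      have hne := hout.1
      rw [Bool.eq_false_iff] at hne
      refine hne (List.all_eq_true.2 fun j hj => hcomm j ?_ (eTwo_closed j hj))
      exact ((e _).2 ⟨j, hj, rfl⟩).1
  have hyfix : ∀ c ∈ uList, op ρ y0 (nc s ν c) = nc s ν c := by
    rcases hout.2 with h1 | h1
    · rw [Bool.eq_false_iff] at h1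
      exact absurd (List.all_eq_true.2 fun j hj => hcomm j ((hE0E _).2 ⟨j, hj, rfl⟩).1 (eOne_list.2.2 j hj)) h1
    · intro c hc
      rw [nc, hy0v, ← vec_app h, Nat.eq_of_beq_eq_true (List.all_eq_true.1 h1 c hc)]
  have hFix : ∀ w, w ∈ Fix ρ E' ↔ ∃ c ∈ uList, w = nc s ν c := by
    refine fun w => ⟨fun hw => fix_eOne H C fun j hj => hw _ ((hE0E _).2 ⟨j, hj, rfl⟩).1, ?_⟩
    rintro ⟨c, hc, rfl⟩ z hz
    by_cases hzT : z ∈ T0 H C
    · obtain ⟨j, hj, rfl⟩ := (hE0E z).1 ⟨hz, hzT⟩
      exact (uList_spec H C hc).2.2 j hj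
    · obtain ⟨j, hj, hje⟩ := (hE0E _).1 (hcoset z hz hzT)
      rw [show z = y0 * tau h Φ j by rw [← hje, ← mul_assoc, hE'ea.1 y0 hy0, one_mul], rho_mul,
        (uList_spec H C hc).2.2 j hj, hyfix c hc]
  obtain ⟨c, hc, hvc⟩ := (hFix _).1 hv'
  have hc0 : c ≠ 0 := by
    intro e
    rw [e, nc_zero H C] at hvc
    exact hv'0 hvc
  have htv := tv_ok
  simp only [tvOK, Bool.and_eq_true, List.all_eq_true] at htv
  have hcase := htv.2 c hc
  simp only [Bool.or_eq_true, Nat.beq_eq, List.any_eq_true, List.mem_range] at hcase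
  obtain ⟨k, hk, hkc⟩ := hcase.resolve_left hc0
  have hk' := allBelow_spec htv.1 k hk
  simp only [Bool.and_eq_true, Nat.beq_eq, List.any_eq_true, Bool.not_eq_true'] at hk'
  obtain ⟨⟨hw8, hwe⟩, d, hd, hdm⟩ := hk'
  obtain ⟨u, -, hu⟩ := exists_word H C hw8
  have hy : ∀ w, op ρ (u * x) (nc s ν w) = nc s ν (app (tvC.getD k 0) w) := fun w => by
    rw [nc, rho_mul, hx, hu, Matrix.mulVec_mulVec, ← matOf_mul h, ← hwe, nc, vec_app h]
  have hyv : op ρ (u * x) (op ρ g v) = op ρ g v := by rw [hvc, hy, hkc]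
  have hmove : op ρ (u * x) (nc s ν d) ∈ Fix ρ E' := by
    intro z hz
    have hz' := hnorm' (u * x)⁻¹ (by
      conv_lhs => rw [← hyv]
      rw [← rho_mul, inv_mul_cancel, rho_one]) z hz
    rw [inv_inv] at hz'
    have := ((hFix _).2 ⟨d, hd, rfl⟩) _ hz'
    calc op ρ z (op ρ (u * x) (nc s ν d))
        = op ρ (u * x) (op ρ ((u * x)⁻¹ * z * (u * x)) (nc s ν d)) := by
          rw [← rho_mul, ← rho_mul]; congr 2; group
      _ = _ := by rw [this]
  rw [hy] at hmove
  obtain ⟨c', hc', he⟩ := (hFix _).1 hmove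
  have := nc_inj H C (app_lt _ _) (uList_spec H C hc').1 he
  rw [Bool.eq_false_iff] at hdm
  exact hdm (mem_iff.2 (this ▸ hc'))

/-- The bound. -/
theorem bound (hsemi : ∀ t, t ∉ Mb → ∀ w, op ρ t (op ρ n w) = op ρ n (op ρ n (op ρ t w)))
    {B : Subgroup X} (hB : EA B) (W : AddSubgroup V) (hW : W ≤ Fix ρ B) (hq : ∀ w ∈ W, q w = 0)
    (hbig : 1024 ≤ Nat.card B * Nat.card W) :
    B ≤ Mb ∧ Nat.card B = 16 ∧ Nat.card W = 64 ∧
      ∃ g ∈ Mb, cj g B = E1 H C := by
  classical
  haveI : Finite V := Nat.finite_of_card_ne_zero (by rw [H.fx.card]; norm_num)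
  have hW64 := card_sing H.fx W hq
  have hle : B ≤ Mb := by
    by_contra hno
    obtain ⟨t, htB, htM⟩ := SetLike.not_le_iff_exists.1 hno
    have hB0 : Nat.card ↥(B ⊓ Mb) ≤ 16 :=
      card_le_sixteen H C inf_le_right (hB.le inf_le_left).1 (hB.le inf_le_left).2
    have hBcard : Nat.card B ≤ 2 * Nat.card ↥(B ⊓ Mb) := by
      have h2 := Subgroup.card_mul_index (Mb.subgroupOf B)
      have h4 : (B ⊓ Mb).subgroupOf B = Mb.subgroupOf B := by
        ext z; simp [Subgroup.mem_subgroupOf]
      rw [← Nat.card_congr (Subgroup.subgroupOfEquivOfLe (inf_le_left : B ⊓ Mb ≤ B)).toEquiv, h4,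
        ← h2, mul_comm]
      refine Nat.mul_le_mul_right _ ?_
      refine le_trans ?_ H.index_two.le
      show Mb.relIndex B ≤ Mb.index
      haveI := Subgroup.normal_of_index_eq_two H.index_two
      exact Nat.le_of_dvd (by rw [H.index_two]; norm_num) (Mb.relIndex_dvd_index_of_normal B)
    have hWn : ∀ a ∈ W, ∀ b ∈ W, a + op ρ n b = 0 → a = 0 ∧ b = 0 := by
      intro a ha b hb e
      have hab : op ρ n b = a := by
        have := congrArg (a + ·) e
        simpa [← add_assoc, H.fx.two] using this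
      have h1 := hsemi t htM b
      rw [hW hb t htB, hab, hW ha t htB] at h1
      have h2 : op ρ n a = a := h1.symm
      have h3 := H.fx.rel a
      rw [h2, h2, H.fx.two, zero_add] at h3
      refine ⟨h3, ?_⟩
      rw [← H.fx.o_three b, hab, h3, map_zero, map_zero]
    let f : W × W → V := fun p => p.1.1 + op ρ n p.2.1
    have hf : Function.Injective f := by
      intro p p' e
      have h0 : (p.1.1 + p'.1.1) + op ρ n (p.2.1 + p'.2.1) = 0 := by
        rw [map_add, add_add_add_comm]
        show f p + f p' = 0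
        rw [e, H.fx.two]
      obtain ⟨z1, z2'⟩ := hWn _ (W.add_mem p.1.2 p'.1.2) _ (W.add_mem p.2.2 p'.2.2) h0
      have cancel : ∀ a b : V, a + b = 0 → a = b := fun a b e => by
        rw [← add_zero a, ← H.fx.two b, ← add_assoc, e, zero_add]
      exact Prod.ext (Subtype.ext (cancel _ _ z1)) (Subtype.ext (cancel _ _ z2'))
    by_cases hB1 : B ⊓ Mb = ⊥
    · rw [hB1, Subgroup.card_bot] at hBcard
      have := Nat.mul_le_mul hBcard hW64
      omega
    · obtain ⟨b, hb1⟩ := Subgroup.ne_bot_iff_exists_ne_one.1 hB1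
      obtain ⟨gg, hgg, hgT⟩ := exists_conj_T0 H C (inf_le_right : B ⊓ Mb ≤ Mb) (hB.le inf_le_left).pGroup
      obtain ⟨i, hi, hib⟩ := hgT (mem_cj_of (g := gg) b.2)
      have hib0 : i ≠ 0 := fun e => hb1 (Subtype.ext (conj_eq_one_iff.1 (by
        rw [hib, e, tau_zero H C])))
      have hii : i ∈ invs := by
        have hsq : tau h Φ i * tau h Φ i = 1 := by
          rw [← hib, show gg * b * gg⁻¹ * (gg * b * gg⁻¹) = gg * ((b : X) * b) * gg⁻¹ by group,
            hB.1 _ b.2.1, mul_one, mul_inv_cancel]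
        simp only [invs, List.mem_filter, List.mem_range, Bool.and_eq_true, Bool.not_eq_true']
        refine ⟨hi, ?_, ?_⟩
        · cases hh : Nat.beq i 0
          · rfl
          · exact absurd (Nat.eq_of_beq_eq_true hh) hib0
        · rw [Nat.beq_eq]
          exact tau_inj H C (tau_mul H C hi hi).1 (by norm_num)
            (by rw [← (tau_mul H C hi hi).2, hsq, tau_zero H C])
      -- the image of the doubled space is fixed by the involution
      have hfx : ∀ p, op ρ (tau h Φ i) (op ρ gg (f p)) = op ρ gg (f p) := by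
        intro p
        rw [← rho_mul, ← hib, inv_mul_cancel_right, rho_mul]
        congr 1
        show op ρ b (p.1.1 + op ρ n p.2.1) = _
        rw [map_add, hW p.1.2 _ b.2.1, ← rho_mul, H.comm_n _ b.2.2, rho_mul, hW p.2.2 _ b.2.1]
      have h256 : Nat.card (W × W) ≤ 256 := by
        have hr := List.all_eq_true.1 rank_ok i hii
        simp only [List.any_eq_true, List.mem_range] at hr
        obtain ⟨a, ha, b', hb'', hr⟩ := hr
        let D : V →+ V := op ρ (tau h Φ i) + AddMonoidHom.id V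
        have hker : ∀ p, op ρ gg (f p) ∈ D.ker := fun p => by
          show op ρ (tau h Φ i) _ + _ = 0
          rw [hfx p, AddMonoidHom.id_apply, H.fx.two]
        have hin : Function.Injective fun p => (⟨_, hker p⟩ : D.ker) := fun p p' e => by
          refine hf ?_
          have h5 := congrArg (fun z : D.ker => op ρ gg⁻¹ z.1) e
          simpa [← rho_mul, rho_one] using h5
        refine (Nat.card_le_card_of_injective _ hin).trans ?_
        have h1 := AddSubgroup.card_mul_index D.ker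
        rw [AddSubgroup.index_ker, H.fx.card] at h1
        suffices h16 : 16 ≤ Nat.card D.range by nlinarith
        let ca := Nat.xor (col (el i) a) (col idM a)
        let cb := Nat.xor (col (el i) b') (col idM b')
        have hd : ∀ j < 6, nc s ν (Nat.xor (col (el i) j) (col idM j)) ∈ D.range := by
          intro j hj
          refine ⟨nc s ν (col idM j), ?_⟩
          show op ρ (tau h Φ i) _ + _ = _
          rw [op_tau_nc H C hi, AddMonoidHom.id_apply,
            show app (el i) (col idM j) = col (el i) j by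
              refine vec_inj h (app_lt _ _) (col_lt _ _) ?_
              rw [vec_app h]
              funext r
              show ∑ l, matOf s (el i) r l * vec s (col idM j) l = _
              have e : ∀ l : Fin 6, vec s (col idM j) l = if (l : ℕ) = j then 1 else 0 := fun l => by
                have := congrFun (congrFun (matOf_id (F := F) h) l) ⟨j, hj⟩
                rw [Matrix.one_apply] at this
                rw [show vec s (col idM j) l = _ from this]
                simp [Fin.ext_iff]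
              rw [Finset.sum_eq_single ⟨j, hj⟩]
              · rw [e, if_pos rfl, mul_one]; rfl
              · intro l _ hl; rw [e, if_neg (fun e' => hl (Fin.ext e')), mul_zero]
              · exact fun hh => absurd (Finset.mem_univ _) hh]
          rw [nc, nc, nc, vec_xor h, C.add]
        have hs : ∀ x < 4, ∀ {c}, c < 4096 → nc s ν c ∈ D.range → nc s ν (sel x c) ∈ D.range := by
          intro x hx4 c hc hmem
          have ho : ∀ w ∈ D.range, op ρ n w ∈ D.range := by
            rintro _ ⟨w, rfl⟩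
            refine ⟨op ρ n w, ?_⟩
            show op ρ (tau h Φ i) _ + _ = op ρ n (op ρ (tau h Φ i) w + w)
            rw [map_add, ← rho_mul, H.comm_n _ (tau_mem H C hi), rho_mul]
            rfl
          have e : ∀ c, c < 4096 → nc s ν (scal c) = op ρ n (nc s ν c) := fun c hc => by
            rw [nc, nc, vec_scal h hc, C.scalar]
          interval_cases x
          · rw [show sel 0 c = 0 from rfl, nc_zero H C]; exact D.range.zero_mem
          · exact hmem
          · rw [show sel 2 c = scal c from rfl, e c hc]; exact ho _ hmem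
          · rw [show sel 3 c = scal (scal c) from rfl, e _ (scal_spec hc).1, e c hc]
            exact ho _ (ho _ hmem)
        let g16 : Fin 4 × Fin 4 → D.range := fun p =>
          ⟨nc s ν (Nat.xor (sel p.1 ca) (sel p.2 cb)), by
            rw [nc, vec_xor h, C.add]
            exact D.range.add_mem (hs _ p.1.2 (xor_lt (col_lt _ _) (col_lt _ _)) (hd a ha))
              (hs _ p.2.2 (xor_lt (col_lt _ _) (col_lt _ _)) (hd b' hb''))⟩
        have hg16 : Function.Injective g16 := by
          intro p p' e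
          have hlt : ∀ x, sel x ca < 4096 ∧ sel x cb < 4096 := fun x =>
            ⟨sel_lt _ (xor_lt (col_lt _ _) (col_lt _ _)), sel_lt _ (xor_lt (col_lt _ _) (col_lt _ _))⟩
          have e' := nc_inj H C (xor_lt (hlt _).1 (hlt _).2) (xor_lt (hlt _).1 (hlt _).2)
            (congrArg Subtype.val e)
          have ev : vec s (sel p.1 ca) + vec s (sel p.2 cb) = vec s (sel p'.1 ca) + vec s (sel p'.2 cb) := by
            rw [← vec_xor h, ← vec_xor h, e']
          have hdx : ∀ x y : Fin 4, (Nat.xor (x : ℕ) y) < 4 ∧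
              (Nat.xor (x : ℕ) y = 0 → x = y) := by decide +kernel
          obtain ⟨hx4, hx0⟩ := hdx p.1 p'.1
          obtain ⟨hy4, hy0⟩ := hdx p.2 p'.2
          have h7 := allBelow_spec (allBelow_spec hr _ hx4) _ hy4
          simp only [Bool.or_eq_true, Bool.and_eq_true, Nat.beq_eq] at h7
          rcases h7 with ⟨hx, hy⟩ | h7
          · exact Prod.ext (hx0 hx) (hy0 hy)
          · exfalso
            have hz : vec s (Nat.xor (sel (Nat.xor p.1 p'.1) ca) (sel (Nat.xor p.2 p'.2) cb)) = vec s 0 := by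
              have hls : ∀ (x y : Fin 4) (c : ℕ), c < 4096 →
                  vec s (sel (Nat.xor x y) c) = vec s (sel x c) + vec s (sel y c) := fun x y c hc => by
                rw [vec_sel h (hdx x y).1 hc, vec_sel h x.2 hc, vec_sel h y.2 hc, iota_xor h x.2 y.2,
                  add_smul]
              rw [vec_xor h, hls _ _ _ (xor_lt (col_lt _ _) (col_lt _ _)),
                hls _ _ _ (xor_lt (col_lt _ _) (col_lt _ _)), vec_zero, add_add_add_comm, ev]
              funext r
              rw [Pi.add_apply, ← two_mul, h.two, zero_mul]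
              rfl
            have h8 := vec_inj h (xor_lt (sel_lt _ (xor_lt (col_lt _ _) (col_lt _ _)))
              (sel_lt _ (xor_lt (col_lt _ _) (col_lt _ _)))) (by norm_num) hz
            rw [Bool.not_eq_true', Bool.eq_false_iff] at h7
            exact h7 (by rw [Nat.beq_eq]; exact h8)
        have := Nat.card_le_card_of_injective g16 hg16
        rwa [Nat.card_prod, Nat.card_fin] at this
      rw [Nat.card_prod] at h256
      have h16 : Nat.card W ≤ 16 := by
        by_contra hlt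
        push Not at hlt
        nlinarith
      have := Nat.mul_le_mul (hBcard.trans (Nat.mul_le_mul_left 2 hB0)) h16
      omega
  have h16 := card_le_sixteen H C hle hB.1 hB.2
  have hb16 : Nat.card B = 16 ∧ Nat.card W = 64 := by constructor <;> nlinarith
  refine ⟨hle, hb16.1, hb16.2, ?_⟩
  obtain ⟨g, hg, hgT⟩ := exists_conj_T0 H C hle hB.pGroup
  refine ⟨g, hg, eq_E1 H C hgT (hB.cj g) (by rw [card_cj, hb16.1]) (W.map (op ρ g)) ?_ ?_⟩
  · rintro _ ⟨w, hw, rfl⟩
    exact Fix_cj (hW hw)
  · rw [Nat.card_congr (AddSubgroup.equivMapOfInjective W (op ρ g) fun a b e => by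
      simpa [← rho_mul, rho_one] using congrArg (op ρ g⁻¹) e).toEquiv.symm, hb16.2]
    norm_num

end

end Cfsg.Agent.LFBound89
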