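import Mathlib
import Cfsg.Agent.Lib.FischerFrameSetting18

/-!
The orthogonal module of the centralizer quotient of a group of large Fischer type together with
the subgroup of index two centralising the fixed point free element, and its map onto `PSU₄(3)`.
-/

set_option autoImplicit false
set_option maxHeartbeats 1000000
set_option linter.style.haveILetI false

namespace Cfsg.Agent.LFSetting89

open Subgroup Cfsg.Agent.LargeExtraspecial Cfsg.Agent.FischerFrame18

universe u

attribute [local instance] Classical.propDecidable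

/-- The data of the centralizer quotient. -/
structure Data {G : Type u} [Group G] (z : G) (Q : Subgroup (centralizer ({z} : Set G))) [Q.Normal]
    {V : Type u} [AddCommGroup V] (zc : centralizer ({z} : Set G))
    (π : centralizer ({z} : Set G) → V) (ρ : centralizer ({z} : Set G) ⧸ Q →* AddMonoid.End V)
    (q : V → ZMod 2) (n : centralizer ({z} : Set G) ⧸ Q)
    (Mb : Subgroup (centralizer ({z} : Set G) ⧸ Q)) : Prop where
  zc_val : (zc : G) = z
  zc_central : ∀ h, h * zc = zc * h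
  ext : Ext Q zc
  self_cent : ∀ c, (∀ x ∈ Q, c * x = x * c) → c = 1 ∨ c = zc
  card_Q : Nat.card Q = 2 ^ 13
  link : Link Q zc π ρ q
  orth : OrthMod ρ q
  card : Nat.card (centralizer ({z} : Set G) ⧸ Q) = 19595520
  order_n : orderOf n = 3
  fpf : ∀ v, op ρ n (op ρ n v) + op ρ n v + v = 0
  n_mem : n ∈ Mb
  index_two : Mb.index = 2
  comm_n : ∀ m ∈ Mb, m * n = n * m
  conj_n : ∀ g, g * n * g⁻¹ = n ∨ g * n * g⁻¹ = n ^ 2
  quot : ∃ (K : Type) (_ : Field K) (_ : Fintype K) (φ : Mb →* Cfsg.PSU 4 K 3),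
    Fintype.card K = 9 ∧ Function.Surjective φ ∧
      ∀ m : Mb, φ m = 1 ↔ (m : centralizer ({z} : Set G) ⧸ Q) ∈ zpowers n
  moved : ∃ g : G, (∃ hq : g * z * g⁻¹ ∈ centralizer ({z} : Set G),
    (⟨g * z * g⁻¹, hq⟩ : centralizer ({z} : Set G)) ∈ Q) ∧ g * z * g⁻¹ ≠ z

theorem exists_data {G : Type u} [Group G] [Finite G] (z : G)
    (Q : Subgroup (centralizer ({z} : Set G))) [Q.Normal] (hF : Cfsg.IsOfLargeFischerTypeAt z Q) :
    ∃ (V : Type u) (_ : AddCommGroup V) (zc : centralizer ({z} : Set G))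
      (π : centralizer ({z} : Set G) → V) (ρ : centralizer ({z} : Set G) ⧸ Q →* AddMonoid.End V)
      (q : V → ZMod 2) (n : centralizer ({z} : Set G) ⧸ Q)
      (Mb : Subgroup (centralizer ({z} : Set G) ⧸ Q)), Data z Q zc π ρ q n Mb := by

  obtain ⟨⟨hz, hFit, hQ, hcard, hconjz⟩, N, M, hNn, hMn, hQN, hNM, hNcard, ⟨K, _, _, hK, ⟨e⟩⟩, hMi⟩ := hF
  obtain ⟨z₁, hext, -, hbig⟩ := LargeExtraspecial.exists_ext hQ
  have hcc : ∀ c : centralizer ({z} : Set G), (∀ x ∈ Q, c * x = x * c) → c = 1 ∨ c = z₁ := by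
    intro c hc
    have hmem : c ∈ Q := by
      rw [← hFit]
      refine ComponentsFitting.centralizer_gen_le (mem_centralizer_iff.mpr fun x hx => ?_)
      rw [hFit] at hx
      exact (hc x hx).symm
    exact hext.central hmem fun y hy => (hc y hy).symm
  have hzC : z ∈ centralizer ({z} : Set G) := mem_centralizer_singleton_iff.mpr rfl
  have hz₁ : (⟨z, hzC⟩ : centralizer ({z} : Set G)) = z₁ := by
    rcases hcc ⟨z, hzC⟩ fun x _ => Subtype.ext (mem_centralizer_singleton_iff.mp x.2).symm with e | e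
    · exfalso
      have : z = 1 := congrArg Subtype.val e
      rw [this] at hz
      simp at hz
    · exact e
  subst hz₁
  have hzc : ∀ h : centralizer ({z} : Set G), h * ⟨z, hzC⟩ = ⟨z, hzC⟩ * h := fun h =>
    Subtype.ext (mem_centralizer_singleton_iff.mp h.2)
  obtain ⟨V, _, π, ρ, q, hR, hL⟩ := exists_module Q hext hzc hcc hcard
  haveI hsimple : IsSimpleGroup (Cfsg.PSU 4 K 3) :=
    OrthUnitaryPSU.isSimpleGroup_PSU (q := 3) (by rw [hK]; rfl) (by norm_num) (by norm_num)
  set mk := QuotientGroup.mk' Q with hmk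
  -- the image of the group of order three
  have hN3 : Nat.card (N.map mk) = 3 := by
    have h := Subgroup.card_mul_index (Q.subgroupOf N)
    rw [Nat.card_congr (Subgroup.subgroupOfEquivOfLe hQN).toEquiv, hNcard, mul_comm 3] at h
    have hk : (N.map mk).index = N.index := Subgroup.index_map_eq _ (QuotientGroup.mk'_surjective Q)
      (by rw [QuotientGroup.ker_mk']; exact hQN)
    have h1 := Subgroup.card_mul_index (N.map mk)
    have h2 := Subgroup.card_mul_index N
    rw [hk, ← Subgroup.index_eq_card] at h1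
    rw [← Subgroup.card_mul_index Q, hNcard] at h2
    have hi : N.index ≠ 0 := Subgroup.index_ne_zero_of_finite
    have hq0 : 0 < Nat.card Q := Nat.card_pos
    apply Nat.eq_of_mul_eq_mul_left hq0
    apply Nat.eq_of_mul_eq_mul_right (Nat.pos_of_ne_zero hi)
    calc Nat.card Q * Nat.card (N.map mk) * N.index
        = Nat.card Q * Q.index := by rw [mul_assoc, h1]
      _ = Nat.card Q * 3 * N.index := by rw [← h2]; ring
  haveI : Fact (Nat.Prime 3) := ⟨Nat.prime_three⟩
  haveI hcyc : IsCyclic (N.map mk) := isCyclic_of_prime_card hN3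
  obtain ⟨⟨n, hnN⟩, hgen⟩ := hcyc.exists_generator
  have ho : orderOf n = 3 := by
    have h := orderOf_eq_card_of_forall_mem_zpowers hgen
    rw [hN3] at h
    rwa [Subgroup.orderOf_mk] at h
  have hnpow : ∀ g ∈ N.map mk, ∃ i : ℕ, g = n ^ i := by
    intro g hg
    obtain ⟨i, hi⟩ := (mem_powers_iff_mem_zpowers.2 (hgen ⟨g, hg⟩))
    exact ⟨i, (congrArg Subtype.val hi).symm⟩
  let φ : M →* Cfsg.PSU 4 K 3 := e.toMonoidHom.comp (QuotientGroup.mk' (N.subgroupOf M))
  have φker : ∀ m : M, φ m = 1 ↔ (m : centralizer ({z} : Set G)) ∈ N := fun m => by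
    show e (QuotientGroup.mk' _ m) = 1 ↔ _
    rw [map_eq_one_iff _ e.injective]
    exact (QuotientGroup.eq_one_iff m).trans Subgroup.mem_subgroupOf
  have φsurj : Function.Surjective φ := e.surjective.comp (QuotientGroup.mk'_surjective _)
  have hQM : Q ≤ M := hQN.trans hNM
  let rel : centralizer ({z} : Set G) ⧸ Q → Cfsg.PSU 4 K 3 → Prop := fun g p =>
    ∃ m : M, mk (m : centralizer ({z} : Set G)) = g ∧ φ m = p
  have hconjn : ∀ g : centralizer ({z} : Set G) ⧸ Q, g * n * g⁻¹ = n ∨ g * n * g⁻¹ = n ^ 2 := by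
    intro g
    haveI : (N.map mk).Normal := hNn.map _ (QuotientGroup.mk'_surjective Q)
    obtain ⟨i, hi⟩ := hnpow _ ((inferInstance : (N.map mk).Normal).conj_mem n hnN g)
    rw [hi, pow_eq_pow_mod i (ho ▸ pow_orderOf_eq_one n : n ^ 3 = 1)]
    have hlt : i % 3 < 3 := Nat.mod_lt _ (by norm_num)
    have hne : i % 3 ≠ 0 := fun h0 => by
      rw [pow_eq_pow_mod i (ho ▸ pow_orderOf_eq_one n : n ^ 3 = 1), h0, pow_zero,
        conj_eq_one_iff] at hi
      rw [hi, orderOf_one] at ho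
      omega
    interval_cases i % 3
    · exact absurd rfl hne
    · left; rw [pow_one]
    · right; rfl
  have hsqn : ∀ g : centralizer ({z} : Set G) ⧸ Q, g * g * n = n * (g * g) := by
    intro g
    rw [← mul_inv_eq_iff_eq_mul, show g * g * n * (g * g)⁻¹ = g * (g * n * g⁻¹) * g⁻¹ by group]
    rcases hconjn g with h | h
    · rw [h, h]
    · rw [h, ← conj_pow, h, ← pow_mul, pow_succ, ← ho, pow_orderOf_eq_one, one_mul]
  -- lifts centralising the group of order three
  let S : Subgroup (Cfsg.PSU 4 K 3) := ((Subgroup.centralizer ({n} : Set _)).comap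
    (mk.comp M.subtype)).map φ
  have hSsq : ∀ p : Cfsg.PSU 4 K 3, p * p ∈ S := by
    intro p
    obtain ⟨m, rfl⟩ := φsurj p
    refine ⟨m * m, ?_, map_mul φ m m⟩
    show mk ((m : centralizer ({z} : Set G)) * m) ∈ Subgroup.centralizer ({n} : Set _)
    rw [map_mul]
    exact mem_centralizer_singleton_iff.2 (hsqn _)
  obtain ⟨a₀, b₀, c₀, ha3, -, hai, -⟩ := exists_gens hK
  have hStop : S = ⊤ := by
    have hN : (Subgroup.normalClosure (Set.range fun p : Cfsg.PSU 4 K 3 => p * p)) ≤ S := by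
      refine Subgroup.closure_le _ |>.2 ?_
      intro x hx
      obtain ⟨y, ⟨p, rfl⟩, hconj⟩ := Group.mem_conjugatesOfSet_iff.1 hx
      obtain ⟨k, rfl⟩ := isConj_iff.1 hconj
      show k * (p * p) * k⁻¹ ∈ S
      rw [show k * (p * p) * k⁻¹ = k * p * k⁻¹ * (k * p * k⁻¹) by group]
      exact hSsq _
    rcases (Subgroup.normalClosure_normal (s := Set.range fun p : Cfsg.PSU 4 K 3 => p * p)).eq_bot_or_eq_top
      with h | h
    · exfalso
      have h1 : a₀ 0 * a₀ 0 = 1 := by
        have : a₀ 0 * a₀ 0 ∈ Subgroup.normalClosure (Set.range fun p : Cfsg.PSU 4 K 3 => p * p) :=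
          Subgroup.subset_normalClosure ⟨a₀ 0, rfl⟩
        rwa [h, Subgroup.mem_bot] at this
      have h3 := ha3 0
      rw [pow_succ, pow_two, h1, one_mul] at h3
      have := hai (Pi.single 0 1) (by simp [prodA, h3, ZMod.val_one])
      simpa using congrFun this 0
    · exact top_le_iff.1 (h ▸ hN)
  have hMn' : ∀ m : M, mk (m : centralizer ({z} : Set G)) * n = n * mk (m : centralizer ({z} : Set G)) := by
    intro m
    obtain ⟨m', hm', e'⟩ : φ m ∈ S := hStop ▸ Subgroup.mem_top _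
    have hk : (m : centralizer ({z} : Set G)) * (m' : centralizer ({z} : Set G))⁻¹ ∈ N :=
      (φker (m * m'⁻¹)).1 (by rw [map_mul, map_inv, e', mul_inv_cancel])
    obtain ⟨i, hi⟩ := hnpow _ (Subgroup.mem_map_of_mem mk hk)
    rw [map_mul, map_inv, mul_inv_eq_iff_eq_mul] at hi
    rw [hi]
    exact ((Commute.refl n).pow_left i |>.mul_left (mem_centralizer_singleton_iff.1 hm')).eq
  obtain ⟨m₀, hm₀N, hm₀⟩ := Subgroup.mem_map.1 hnN
  obtain ⟨F, hFn, hFr⟩ := exists_frame_lift hK (MulEquiv.refl _) n ho rel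
    ⟨1, map_one mk, map_one φ⟩
    (fun g h p p' ⟨m, h1, h2⟩ ⟨m', h3, h4⟩ => ⟨m * m', by
      rw [Subgroup.coe_mul, map_mul, h1, h3], by rw [map_mul, h2, h4]⟩)
    (fun p => by obtain ⟨m, hm⟩ := φsurj p; exact ⟨_, m, rfl, hm⟩)
    (fun g ⟨m, h1, h2⟩ => h1 ▸ hnpow _ (Subgroup.mem_map_of_mem mk ((φker m).1 h2)))
    ⟨⟨m₀, hNM hm₀N⟩, hm₀, (φker _).2 hm₀N⟩
    (fun g p ⟨m, h1, h2⟩ => ⟨m⁻¹, by rw [Subgroup.coe_inv, map_inv, h1], by rw [map_inv, h2]⟩)
    (fun g p ⟨m, h1, _⟩ => h1 ▸ hMn' m)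
    (fun p ⟨m, h1, h2⟩ => h2 ▸ (φker m).2 (hQN ((QuotientGroup.eq_one_iff _).1 h1)))
  have hcardX : Nat.card (centralizer ({z} : Set G) ⧸ Q) = 19595520 := by
    rw [← Subgroup.index_eq_card, ← Subgroup.relIndex_mul_index hQM, hMi,
      ← Subgroup.relIndex_mul_relIndex Q N M hQN hNM]
    have h1 : Q.relIndex N = 3 := by
      have h := Subgroup.card_mul_index (Q.subgroupOf N)
      rw [Nat.card_congr (Subgroup.subgroupOfEquivOfLe hQN).toEquiv, hNcard, mul_comm 3] at h
      exact Nat.eq_of_mul_eq_mul_left Nat.card_pos h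
    have h2 : N.relIndex M = 3265920 := by
      rw [Subgroup.relIndex, Subgroup.index_eq_card, Nat.card_congr e.toEquiv,
        PSUFourThree56.card_PSU hK]
    rw [h1, h2]
  have hMb : ∀ g ∈ M.map mk, ∃ m : M, mk (m : centralizer ({z} : Set G)) = g := by
    rintro _ ⟨m, hm, rfl⟩; exact ⟨⟨m, hm⟩, rfl⟩
  have hindex : (M.map mk).index = 2 := by
    rw [Subgroup.index_map_eq _ (QuotientGroup.mk'_surjective Q) (by rw [QuotientGroup.ker_mk']; exact hQM), hMi]
  let τ : M →* (M.map mk : Subgroup _) := mk.subgroupMap M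
  have τsurj : Function.Surjective τ := mk.subgroupMap_surjective M
  have hτker : τ.ker ≤ φ.ker := fun m hm => by
    rw [MonoidHom.mem_ker] at hm ⊢
    exact (φker m).2 (hQN ((QuotientGroup.eq_one_iff _).1 (congrArg Subtype.val hm)))
  let ψ := τ.liftOfSurjective τsurj ⟨φ, hτker⟩
  have hψ : ∀ m, ψ (τ m) = φ m := fun m =>
    MonoidHom.liftOfRightInverse_comp_apply τ _ (Function.rightInverse_surjInv τsurj) ⟨φ, hτker⟩ m
  refine ⟨V, inferInstance, ⟨z, hzC⟩, π, ρ, q, n, M.map mk, rfl, hzc, hext, hcc, hcard, hL, hR,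
    hcardX, ho, fun v => hFn ▸ fpf hFr hR v, Subgroup.map_mono hNM hnN, hindex, ?_, hconjn,
    ⟨K, inferInstance, inferInstance, ψ, hK, ?_, ?_⟩, hconjz⟩
  · rintro _ ⟨m, hm, rfl⟩; exact hMn' ⟨m, hm⟩
  · intro p
    obtain ⟨m, rfl⟩ := φsurj p
    exact ⟨τ m, hψ m⟩
  · intro g
    obtain ⟨m, rfl⟩ := τsurj g
    rw [hψ, φker]
    constructor
    · intro hm
      obtain ⟨i, hi⟩ := hnpow _ (Subgroup.mem_map_of_mem mk hm)
      show mk (m : centralizer ({z} : Set G)) ∈ zpowers n
      rw [hi]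
      exact Subgroup.pow_mem _ (Subgroup.mem_zpowers n) i
    · intro hm
      obtain ⟨y, hy, hy'⟩ : (τ m : centralizer ({z} : Set G) ⧸ Q) ∈ N.map mk :=
        Subgroup.zpowers_le.2 hnN hm
      have h1 : (m : centralizer ({z} : Set G))⁻¹ * y ∈ Q := by
        rw [← QuotientGroup.eq]; exact hy'.symm
      have h2 := mul_mem hy (inv_mem (hQN h1))
      simpa [mul_assoc] using h2

end Cfsg.Agent.LFSetting89
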