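import Mathlib
import Cfsg.Agent.Lib.LFBound89
import Cfsg.Agent.Lib.LFOrbitData89

/-!
The orbits of the normaliser of the first elementary subgroup on its fixed space, and the invariant
separating them in the whole group.
-/

set_option autoImplicit false
set_option linter.unusedSectionVars false
set_option linter.style.haveILetI false
set_option maxHeartbeats 800000
set_option maxRecDepth 100000

namespace Cfsg.Agent.LFOrbitX89

open Cfsg Cfsg.Agent.U62Mon93 Cfsg.Agent.U62Existence93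
open Cfsg.Agent.LFForm89 Cfsg.Agent.LFMat89 Cfsg.Agent.LFModel89 Cfsg.Agent.LFSylow89
open Cfsg.Agent.LFBound89 Cfsg.Agent.LFData89 Cfsg.Agent.LFCheck89 Cfsg.Agent.LFOrbitData89
open scoped Matrix

universe u v

variable {X : Type u} [Group X] [Finite X] {V : Type v} [AddCommGroup V]
variable {F : Type} [Field F] [Fintype F] {s : F}
variable {h : S4 s} {ρ : X →* AddMonoid.End V} {q : V → ZMod 2} {n : X} {Mb : Subgroup X}
variable {ν : (Fin 6 → F) → V} {Φ : K0 h →* X}
variable (H : Hyp ρ q n Mb) (C : Coord h ρ q n Mb ν Φ)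

/-- A conjugate of the Sylow subgroup fixes the vector. -/
def Pt (H : Hyp ρ q n Mb) (C : Coord h ρ q n Mb ν Φ) (v : V) : Prop :=
  ∃ g ∈ Mb, ∀ y ∈ T0 H C, op ρ y (op ρ g v) = op ρ g v

theorem orb_facts : u18.Nodup ∧ u45.Nodup ∧ u18.length = 18 ∧ u45.length = 45 ∧
    (∀ c ∈ uList, c = 0 ∨ c ∈ u18 ∨ c ∈ u45) ∧ (∀ c ∈ u18, c ∈ uList ∧ c ≠ 0) ∧
    (∀ c ∈ u45, c ∈ uList ∧ c ≠ 0) := by
  have h := orb_ok
  simp only [orbOK, Bool.and_eq_true, List.all_eq_true, decide_eq_true_eq, Nat.beq_eq,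
    Bool.or_eq_true, mem_iff, Bool.not_eq_true'] at h
  obtain ⟨⟨⟨⟨⟨⟨⟨⟨⟨⟨-, -⟩, h3⟩, h4⟩, h5⟩, h6⟩, h7⟩, h8⟩, h9⟩, -⟩, -⟩ := h
  refine ⟨h3, h4, h5, h6, fun c hc => or_assoc.1 (h7 c hc), fun c hc => ⟨(h8 c hc).1, fun e => ?_⟩,
    fun c hc => ⟨(h9 c hc).1, fun e => ?_⟩⟩
  · have := (h8 c hc).2; rw [e] at this; exact Bool.noConfusion this
  · have := (h9 c hc).2; rw [e] at this; exact Bool.noConfusion this

include H C

theorem op_inv_op (g : X) (v : V) : op ρ g⁻¹ (op ρ g v) = v := by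
  rw [← rho_mul, inv_mul_cancel, rho_one]

theorem op_inj {g : X} {a b : V} (e : op ρ g a = op ρ g b) : a = b := by
  rw [← op_inv_op H C g a, e, op_inv_op H C g b]

theorem mem_normalizer {g : X} (hg : ∀ x ∈ E1 H C, g * x * g⁻¹ ∈ E1 H C) :
    g ∈ Subgroup.normalizer (E1 H C : Set X) :=
  Subgroup.mem_normalizer_fintype hg

theorem n_mem_normalizer : n ∈ Subgroup.normalizer (E1 H C : Set X) := by
  refine mem_normalizer H C fun x hx => ?_
  rw [← H.comm_n x ((E1_le H C).trans (T0_le H C) hx), mul_inv_cancel_right]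
  exact hx

theorem word_normalizer {m : ℕ} {g : X} (hg : ∀ v, op ρ g (ν v) = ν (matOf s m *ᵥ v))
    (hm : ∀ e ∈ eOne, ∃ e' ∈ eOne, mulM m (el e) = mulM (el e') m) :
    g ∈ Subgroup.normalizer (E1 H C : Set X) := by
  refine mem_normalizer H C ?_
  rintro _ ⟨e, he, rfl⟩
  obtain ⟨e', he', hee⟩ := hm e he
  refine ⟨e', he', ?_⟩
  rw [mul_inv_eq_iff_eq_mul]
  refine ext_op H C fun v => ?_
  rw [rho_mul, rho_mul, op_tau H C (eOne_list.2.2 e he), hg, hg,
    op_tau H C (eOne_list.2.2 e' he'), Matrix.mulVec_mulVec, Matrix.mulVec_mulVec,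
    ← matOf_mul h, hee, matOf_mul h]

theorem move_real {f : ℕ → ℕ} (hf : f ∈ move) {c : ℕ} (hc : c < 4096) :
    ∃ g ∈ Mb, g ∈ Subgroup.normalizer (E1 H C : Set X) ∧ op ρ g (nc s ν c) = nc s ν (f c) := by
  simp only [move, List.mem_append, List.mem_map, List.mem_singleton] at hf
  rcases hf with ⟨m, hm, rfl⟩ | rfl
  · have happ : ∀ {g : X}, (∀ v, op ρ g (ν v) = ν (matOf s m *ᵥ v)) →
        op ρ g (nc s ν c) = nc s ν (app m c) := fun hg => by rw [nc, hg, nc, vec_app h]
    rcases hm with hm | hm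
    · have h1 := trans_ok
      simp only [transOK, Bool.and_eq_true] at h1
      obtain ⟨k, hk, rfl⟩ := List.mem_iff_getElem.1 hm
      have hk3 : k < 3 := tv_len.2 ▸ hk
      have h2 := allBelow_spec h1.1 k hk3
      simp only [Bool.and_eq_true, Nat.beq_eq, List.all_eq_true, List.any_eq_true] at h2
      obtain ⟨g, hg, hgv⟩ := exists_word H C (w := trWord.getD k [])
        (by rw [List.all_eq_true]; exact h2.1.1)
      have he : trC[k] = trC.getD k 0 := by
        exact (List.getD_eq_getElem _ _ hk).symm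
      rw [h2.1.2, ← he] at hgv
      exact ⟨g, hg, word_normalizer H C hgv (by rw [he]; exact h2.2), happ hgv⟩
    · obtain ⟨k, hk, rfl⟩ := List.mem_iff_getElem.1 hm
      have hk7 : k < 7 := by
        have : sylGen.length = 7 := by decide +kernel
        omega
      have he : sylGen[k] = sylGen.getD k 0 := by
        exact (List.getD_eq_getElem _ _ hk).symm
      have hb : 2 ^ k < 128 := by
        calc 2 ^ k < 2 ^ 7 := Nat.pow_lt_pow_right (by norm_num) hk7
          _ = 128 := rfl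
      have hgv : ∀ v, op ρ (tau h Φ (2 ^ k)) (ν v) = ν (matOf s sylGen[k] *ᵥ v) := fun v => by
        rw [op_tau H C hb, he, (sylGen_el k hk7).1]
      have h2 := orb_ok
      simp only [orbOK, Bool.and_eq_true] at h2
      have h3 := allBelow_spec h2.1.2 k hk7
      simp only [List.all_eq_true, List.any_eq_true, Nat.beq_eq] at h3
      exact ⟨_, tau_mem H C hb, word_normalizer H C hgv (by rw [he]; exact h3), happ hgv⟩
  · exact ⟨n, H.n_mem, n_mem_normalizer H C, by rw [nc, C.scalar, nc, vec_scal h hc]⟩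

/-- The orbit of `r` under the normaliser of the first subgroup contains the closure. -/
theorem step_real {u : List ℕ} (hu : ∀ c ∈ u, c < 4096) {r : ℕ} {l : List ℕ}
    (hl : ∀ d ∈ l, d < 4096 ∧
      ∃ g ∈ Subgroup.normalizer (E1 H C : Set X), op ρ g (nc s ν r) = nc s ν d) :
    ∀ d ∈ step u l, d < 4096 ∧
      ∃ g ∈ Subgroup.normalizer (E1 H C : Set X), op ρ g (nc s ν r) = nc s ν d := by
  intro d hd
  simp only [step, List.mem_dedup, List.mem_append, List.mem_filter, List.any_eq_true,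
    Nat.beq_eq] at hd
  rcases hd with hd | ⟨hd, d0, hd0, f, hf, rfl⟩
  · exact hl d hd
  · obtain ⟨hlt, g, hg, hgd⟩ := hl d0 hd0
    obtain ⟨g', -, hg', hgd'⟩ := move_real H C hf hlt
    exact ⟨hu _ hd, g' * g, mul_mem hg' hg, by rw [rho_mul, hgd, hgd']⟩

theorem trans18 {c : ℕ} (hc : c ∈ u18) :
    ∃ g ∈ Subgroup.normalizer (E1 H C : Set X), op ρ g (nc s ν 5) = nc s ν c := by
  have hu : ∀ c ∈ u18, c < 4096 := fun c hc => (uList_spec H C (orb_facts.2.2.2.2.2.1 c hc).1).1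
  have h0 : ∀ d ∈ [5], d < 4096 ∧
      ∃ g ∈ Subgroup.normalizer (E1 H C : Set X), op ρ g (nc s ν 5) = nc s ν d := fun d hd => by
    rw [List.mem_singleton] at hd
    subst hd
    exact ⟨by norm_num, 1, one_mem _, rho_one ρ _⟩
  have h2 := orb_ok
  simp only [orbOK, Bool.and_eq_true, List.all_eq_true, mem_iff] at h2
  obtain ⟨⟨⟨⟨⟨⟨⟨⟨⟨⟨h5, -⟩, -⟩, -⟩, -⟩, -⟩, -⟩, -⟩, -⟩, -⟩, -⟩ := h2
  exact (step_real H C hu (step_real H C hu (step_real H C hu h0)) c (h5 c hc)).2

theorem trans45 {c : ℕ} (hc : c ∈ u45) :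
    ∃ g ∈ Subgroup.normalizer (E1 H C : Set X), op ρ g (nc s ν 85) = nc s ν c := by
  have hu : ∀ c ∈ u45, c < 4096 := fun c hc => (uList_spec H C (orb_facts.2.2.2.2.2.2 c hc).1).1
  have h0 : ∀ d ∈ [85], d < 4096 ∧
      ∃ g ∈ Subgroup.normalizer (E1 H C : Set X), op ρ g (nc s ν 85) = nc s ν d := fun d hd => by
    rw [List.mem_singleton] at hd
    subst hd
    exact ⟨by norm_num, 1, one_mem _, rho_one ρ _⟩
  have h2 := orb_ok
  simp only [orbOK, Bool.and_eq_true, List.all_eq_true, mem_iff] at h2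
  obtain ⟨⟨⟨⟨⟨⟨⟨⟨⟨⟨-, h85⟩, -⟩, -⟩, -⟩, -⟩, -⟩, -⟩, -⟩, -⟩, -⟩ := h2
  exact (step_real H C hu (step_real H C hu (step_real H C hu (step_real H C hu h0))) c (h85 c hc)).2

theorem Pt_op {v : V} (hv : Pt H C v) (t : X) : Pt H C (op ρ t v) := by
  obtain ⟨g, hg, hgv⟩ := hv
  haveI := Subgroup.normal_of_index_eq_two H.index_two
  have hle : cj (t * g⁻¹) (T0 H C) ≤ Mb := by
    rintro _ ⟨y, hy, rfl⟩
    exact (inferInstance : Mb.Normal).conj_mem y (T0_le H C hy) _
  have hp : IsPGroup 2 (T0 H C) := IsPGroup.of_card (n := 7) (by rw [card_T0 H C]; norm_num)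
  obtain ⟨g', hg', hgT⟩ := exists_conj_T0 H C hle (hp.map _)
  have heq : cj g' (cj (t * g⁻¹) (T0 H C)) = T0 H C :=
    Subgroup.eq_of_le_of_card_ge hgT (by rw [card_cj, card_cj])
  refine ⟨g', hg', fun y hy => ?_⟩
  rw [← heq] at hy
  obtain ⟨_, ⟨x, hx, rfl⟩, rfl⟩ := hy
  show op ρ (g' * (t * g⁻¹ * x * (t * g⁻¹)⁻¹) * g'⁻¹) (op ρ g' (op ρ t v)) = op ρ g' (op ρ t v)
  calc op ρ (g' * (t * g⁻¹ * x * (t * g⁻¹)⁻¹) * g'⁻¹) (op ρ g' (op ρ t v))
      = op ρ g' (op ρ t (op ρ g⁻¹ (op ρ x (op ρ g v)))) := by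
        simp only [← rho_mul]; congr 2; group
    _ = _ := by rw [hgv x hx, op_inv_op H C]

theorem Pt_85 : Pt H C (nc s ν 85) := by
  have h2 := pset_ok
  simp only [psetOK, Bool.and_eq_true, List.all_eq_true, Nat.beq_eq] at h2
  refine ⟨1, one_mem _, ?_⟩
  rw [rho_one]
  have hgen : ∀ k < 7, app (el (2 ^ k)) 85 = 85 := fun k hk => by
    rw [← (sylGen_el k hk).1]
    refine h2.2 _ ?_
    rw [List.getD_eq_getElem?_getD, List.getElem?_eq_getElem (show k < sylGen.length from hk),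
      Option.getD_some]
    exact List.getElem_mem _
  have hall : ∀ i < 128, op ρ (tau h Φ i) (nc s ν 85) = nc s ν 85 := by
    intro i
    induction i using Nat.strong_induction_on with
    | _ i ih =>
      intro hi
      rcases Nat.eq_zero_or_pos i with rfl | hpos
      · rw [tau_zero H C, rho_one]
      · obtain ⟨k, hk1, hk2⟩ : ∃ k, 2 ^ k ≤ i ∧ i < 2 ^ (k + 1) :=
          ⟨Nat.log 2 i, Nat.pow_log_le_self 2 hpos.ne', Nat.lt_pow_succ_log_self one_lt_two i⟩
        have hk : k < 7 := (Nat.pow_lt_pow_iff_right (by norm_num : 1 < 2)).1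
          (lt_of_le_of_lt hk1 (show i < 2 ^ 7 from hi))
        obtain ⟨i', rfl⟩ := Nat.exists_eq_add_of_le hk1
        have hi' : i' < 2 ^ k := by rw [pow_succ] at hk2; omega
        have e1 := Nat.eq_of_beq_eq_true (allBelow_spec (allBelow_spec elStep_ok k hk) i' hi')
        have hp : 0 < 2 ^ k := Nat.two_pow_pos k
        have hi'' := ih i' (by omega) (by omega)
        rw [op_tau_nc H C (by omega : i' < 128)] at hi''
        rw [op_tau_nc H C hi, e1, nc, vec_app h, matOf_mul h, ← Matrix.mulVec_mulVec, ← vec_app h,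
          show vec s (app (el i') 85) = vec s 85 from C.bij.1 hi'', ← vec_app h,
          (sylGen_el k hk).1, hgen k hk]
        rfl
  rintro _ ⟨i, hi, rfl⟩
  exact hall i hi

theorem inP_mul (g : K0 h) : ∀ c, c < 4096 → inP c = true → ∃ c', c' < 4096 ∧ inP c' = true ∧
    (g.1.1 : Matrix (Fin 6) (Fin 6) F) *ᵥ vec s c = vec s c' := by
  classical
  have h2 := pset_ok
  simp only [psetOK, Bool.and_eq_true, List.all_eq_true] at h2
  let S : Set (Fin 6 → F) := {w | ∃ c, c < 4096 ∧ inP c = true ∧ w = vec s c}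
  have hfin : S.Finite := Set.toFinite _
  have key : ∀ x (_ : x ∈ Subgroup.closure (Set.range (gmat h))),
      (fun w => (x.1 : Matrix (Fin 6) (Fin 6) F) *ᵥ w) '' S = S := by
    intro x hx
    induction hx using Subgroup.closure_induction with
    | mem x hx =>
      obtain ⟨k, rfl⟩ := hx
      refine Set.eq_of_subset_of_ncard_le ?_ ?_ hfin
      · rintro _ ⟨_, ⟨c, hc, hP, rfl⟩, rfl⟩
        have h3 := allBelow_spec h2.1.1.1 c hc
        simp only [hP, Bool.not_true, Bool.false_or, List.all_eq_true] at h3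
        refine ⟨app (genC.getD k 0) c, app_lt _ _, h3 _ ?_, by rw [vec_app h, matOf_gen h k]⟩
        rw [List.getD_eq_getElem?_getD, List.getElem?_eq_getElem (genC_lt.2.symm ▸ k.2), Option.getD_some]
        exact List.getElem_mem _
      · rw [Set.ncard_image_of_injective]
        intro a b e
        have hu : IsUnit (gmat h k).1.1.det := by rw [(gmat h k).1.2]; exact isUnit_one
        have := congrArg (fun w => ((gmat h k).1.1)⁻¹ *ᵥ w) e
        simpa [Matrix.mulVec_mulVec, Matrix.nonsing_inv_mul _ hu] using this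
    | one => simp
    | mul x y _ _ ex ey =>
      conv_rhs => rw [← ex, ← ey]
      rw [Set.image_image]
      refine Set.image_congr' fun w => ?_
      rw [Matrix.mulVec_mulVec]; rfl
    | inv x _ ex =>
      conv_lhs => rw [← ex]
      rw [Set.image_image]
      refine Eq.trans (Set.image_congr' fun w => ?_) (Set.image_id S)
      rw [Matrix.mulVec_mulVec]
      have e : ((x⁻¹ * x : SU 6 F 2).1 : Matrix (Fin 6) (Fin 6) F) *ᵥ w = w := by
        rw [inv_mul_cancel]; exact Matrix.one_mulVec w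
      exact e
  intro c hc hP
  obtain ⟨c', h1, h2', h3⟩ : (g.1.1 : Matrix (Fin 6) (Fin 6) F) *ᵥ vec s c ∈ S := by
    rw [← key g.1 g.2]
    exact ⟨_, ⟨c, hc, hP, rfl⟩, rfl⟩
  exact ⟨c', h1, h2', h3⟩

theorem not_Pt_5 : ¬ Pt H C (nc s ν 5) := by
  rintro ⟨g, hg, hgv⟩
  have h2 := pset_ok
  simp only [psetOK, Bool.and_eq_true, Bool.not_eq_true'] at h2
  obtain ⟨c, hc, hce⟩ := exists_nc H C (op ρ g (nc s ν 5))
  have hc0 : c ≠ 0 := by
    rintro rfl
    rw [nc_zero H C] at hce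
    have e := congrArg (op ρ g⁻¹) hce
    rw [map_zero, op_inv_op H C, ← nc_zero H C (Φ := Φ)] at e
    exact absurd (nc_inj H C (by norm_num) (by norm_num) e) (by norm_num)
  have hfix : (sylGen.all fun m => Nat.beq (app m c) c) = true := by
    rw [List.all_eq_true]
    intro m hm
    obtain ⟨k, hk, rfl⟩ := List.mem_iff_getElem.1 hm
    have hk7 : k < 7 := by
      have : sylGen.length = 7 := by decide +kernel
      omega
    have hb : 2 ^ k < 128 := by
      calc 2 ^ k < 2 ^ 7 := Nat.pow_lt_pow_right (by norm_num) hk7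
        _ = 128 := rfl
    have e := hgv _ ⟨2 ^ k, hb, rfl⟩
    rw [← hce, op_tau_nc H C hb] at e
    rw [Nat.beq_eq,
      show sylGen[k] = sylGen.getD k 0 by
        exact (List.getD_eq_getElem _ _ hk).symm,
      (sylGen_el k hk7).1]
    exact nc_inj H C (app_lt _ _) hc e
  have hP := allBelow_spec h2.1.1.2 c hc
  rw [hfix] at hP
  simp only [Bool.not_true, Bool.false_or, Bool.or_eq_true, Nat.beq_eq] at hP
  have hPc := hP.resolve_left hc0
  obtain ⟨γ, hγ⟩ : g⁻¹ ∈ Φ.range := by rw [C.range]; exact inv_mem hg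
  obtain ⟨c', hc', hP', e⟩ := inP_mul H C γ c hc hPc
  have e2 : nc s ν 5 = nc s ν c' := by
    rw [← op_inv_op H C g (nc s ν 5), ← hce, ← hγ, nc, C.act, e]
    rfl
  rw [← nc_inj H C (by norm_num) hc' e2, h2.1.2] at hP'
  exact Bool.noConfusion hP'

end Cfsg.Agent.LFOrbitX89
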