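import Mathlib
import Cfsg.Agent.Lib.FischerFrameRep18

/-!
An element of order seven commuting with the fixed point free element of order three fixes only zero.
-/

set_option autoImplicit false
set_option maxHeartbeats 1000000

namespace Cfsg.Agent.FischerFrame18

section

variable {X V : Type*} [Group X] [AddCommGroup V] {ρ : X →* AddMonoid.End V} {q : V → ZMod 2}
  {F : Frame X}

/-- sum over the powers -/
def p7 (ρ : X →* AddMonoid.End V) (g : X) : V →+ V :=
  op ρ (g ^ 0) + op ρ (g ^ 1) + op ρ (g ^ 2) + op ρ (g ^ 3) + op ρ (g ^ 4) + op ρ (g ^ 5) + op ρ (g ^ 6)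

/-- sum over the quadratic residues and all powers -/
def e7 (ρ : X →* AddMonoid.End V) (g : X) : V →+ V :=
  op ρ (g ^ 1) + op ρ (g ^ 2) + op ρ (g ^ 4) + p7 ρ g

variable (hF : FrameOK F) (hR : OrthMod ρ q)
include hF hR

theorem polar_map (g : X) (u v : V) : polarQ q (op ρ g u) (op ρ g v) = polarQ q u v := by
  simp only [polarQ, ← map_add]
  rw [show ∀ w, q (op ρ g w) = q w from hR.inv g, show ∀ w, q (op ρ g w) = q w from hR.inv g,
    show ∀ w, q (op ρ g w) = q w from hR.inv g]

omit hF in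
theorem polar_comm (u v : V) : polarQ q u v = polarQ q v u := by
  simp only [polarQ, add_comm u v]; ring

omit hF in
theorem polar_add_right (u v w : V) : polarQ q u (v + w) = polarQ q u v + polarQ q u w := by
  rw [polar_comm hR, hR.addl, polar_comm hR v, polar_comm hR w]

omit hF in
theorem polar_zero_left (w : V) : polarQ q 0 w = 0 := by
  have h := hR.addl 0 0 w
  rwa [add_zero, left_eq_add] at h

theorem seven_fix {g : X} (hg7 : g ^ 7 = 1) (hgn : g * F.n = F.n * g) {v : V} (hv0 : v ≠ 0)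
    (hv : op ρ g v = v) : g = 1 := by
  classical
  haveI : Finite V := Nat.finite_of_card_ne_zero (by rw [hR.card]; norm_num)
  have H := fam4 hF hR
  have t2 : ∀ u : V, u + u = 0 := hR.two
  have hpow : ∀ (k : ℕ) (u : V), op ρ (g ^ k) u = op ρ (g ^ (k % 7)) u := fun k u => by
    rw [← pow_eq_pow_mod k hg7]
  have hmm : ∀ (i j : ℕ) (u : V), op ρ (g ^ i) (op ρ (g ^ j) u) = op ρ (g ^ ((i + j) % 7)) u :=
    fun i j u => by rw [← op_mul, ← pow_add, hpow]
  let E1 := e7 ρ g
  let E2 := e7 ρ g⁻¹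
  have hinv : ∀ k, k < 7 → g⁻¹ ^ k = g ^ ((7 - k) % 7) := by
    intro k hk
    rw [← pow_eq_pow_mod _ hg7, inv_pow, inv_eq_iff_mul_eq_one, ← pow_add, show k + (7 - k) = 7 by omega,
      hg7]
  have hE2 : ∀ u, e7 ρ g⁻¹ u = op ρ (g ^ 6) u + op ρ (g ^ 5) u + op ρ (g ^ 3) u + p7 ρ g u := by
    intro u
    simp only [e7, p7, AddMonoidHom.add_apply, hinv 0 (by norm_num), hinv 1 (by norm_num),
      hinv 2 (by norm_num), hinv 3 (by norm_num), hinv 4 (by norm_num), hinv 5 (by norm_num),
      hinv 6 (by norm_num)]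
    norm_num
    abel
  have z2 : ∀ u : V, (2 : ℤ) • u = 0 := fun u => by rw [two_zsmul, t2]
  have z2n : ∀ u : V, (2 : ℕ) • u = 0 := fun u => by rw [two_nsmul, t2]
  have evz : ∀ (m : ℤ) (u : V), (2 * m) • u = 0 := fun m u => by rw [mul_zsmul', z2, zsmul_zero]
  have evn : ∀ (m : ℕ) (u : V), (2 * m) • u = 0 := fun m u => by rw [mul_nsmul, z2n, nsmul_zero]
  have k2z : ∀ u : V, (2 : ℤ) • u = 0 := fun u => evz 1 u
  have k3z : ∀ u : V, (3 : ℤ) • u = u := fun u => by
    rw [show (3 : ℤ) = 2 * 1 + 1 from rfl, add_zsmul, evz, one_zsmul, zero_add]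
  have k4z : ∀ u : V, (4 : ℤ) • u = 0 := fun u => evz 2 u
  have k5z : ∀ u : V, (5 : ℤ) • u = u := fun u => by
    rw [show (5 : ℤ) = 2 * 2 + 1 from rfl, add_zsmul, evz, one_zsmul, zero_add]
  have k6z : ∀ u : V, (6 : ℤ) • u = 0 := fun u => evz 3 u
  have k7z : ∀ u : V, (7 : ℤ) • u = u := fun u => by
    rw [show (7 : ℤ) = 2 * 3 + 1 from rfl, add_zsmul, evz, one_zsmul, zero_add]
  have k8z : ∀ u : V, (8 : ℤ) • u = 0 := fun u => evz 4 u
  have k9z : ∀ u : V, (9 : ℤ) • u = u := fun u => by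
    rw [show (9 : ℤ) = 2 * 4 + 1 from rfl, add_zsmul, evz, one_zsmul, zero_add]
  have k10z : ∀ u : V, (10 : ℤ) • u = 0 := fun u => evz 5 u
  have k11z : ∀ u : V, (11 : ℤ) • u = u := fun u => by
    rw [show (11 : ℤ) = 2 * 5 + 1 from rfl, add_zsmul, evz, one_zsmul, zero_add]
  have k12z : ∀ u : V, (12 : ℤ) • u = 0 := fun u => evz 6 u
  have k13z : ∀ u : V, (13 : ℤ) • u = u := fun u => by
    rw [show (13 : ℤ) = 2 * 6 + 1 from rfl, add_zsmul, evz, one_zsmul, zero_add]
  have k2n : ∀ u : V, (2 : ℕ) • u = 0 := fun u => evn 1 u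
  have k3n : ∀ u : V, (3 : ℕ) • u = u := fun u => by
    rw [show (3 : ℕ) = 2 * 1 + 1 from rfl, add_nsmul, evn, one_nsmul, zero_add]
  have k4n : ∀ u : V, (4 : ℕ) • u = 0 := fun u => evn 2 u
  have k5n : ∀ u : V, (5 : ℕ) • u = u := fun u => by
    rw [show (5 : ℕ) = 2 * 2 + 1 from rfl, add_nsmul, evn, one_nsmul, zero_add]
  have k6n : ∀ u : V, (6 : ℕ) • u = 0 := fun u => evn 3 u
  have k7n : ∀ u : V, (7 : ℕ) • u = u := fun u => by
    rw [show (7 : ℕ) = 2 * 3 + 1 from rfl, add_nsmul, evn, one_nsmul, zero_add]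
  have k8n : ∀ u : V, (8 : ℕ) • u = 0 := fun u => evn 4 u
  have k9n : ∀ u : V, (9 : ℕ) • u = u := fun u => by
    rw [show (9 : ℕ) = 2 * 4 + 1 from rfl, add_nsmul, evn, one_nsmul, zero_add]
  have k10n : ∀ u : V, (10 : ℕ) • u = 0 := fun u => evn 5 u
  have k11n : ∀ u : V, (11 : ℕ) • u = u := fun u => by
    rw [show (11 : ℕ) = 2 * 5 + 1 from rfl, add_nsmul, evn, one_nsmul, zero_add]
  have k12n : ∀ u : V, (12 : ℕ) • u = 0 := fun u => evn 6 u
  have k13n : ∀ u : V, (13 : ℕ) • u = u := fun u => by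
    rw [show (13 : ℕ) = 2 * 6 + 1 from rfl, add_nsmul, evn, one_nsmul, zero_add]
  have k14n : ∀ u : V, (14 : ℕ) • u = 0 := fun u => evn 7 u
  have k15n : ∀ u : V, (15 : ℕ) • u = u := fun u => by
    rw [show (15 : ℕ) = 2 * 7 + 1 from rfl, add_nsmul, evn, one_nsmul, zero_add]
  have k16n : ∀ u : V, (16 : ℕ) • u = 0 := fun u => evn 8 u
  have k17n : ∀ u : V, (17 : ℕ) • u = u := fun u => by
    rw [show (17 : ℕ) = 2 * 8 + 1 from rfl, add_nsmul, evn, one_nsmul, zero_add]
  have k14z : ∀ u : V, (14 : ℤ) • u = 0 := fun u => evz 7 u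
  have k15z : ∀ u : V, (15 : ℤ) • u = u := fun u => by
    rw [show (15 : ℤ) = 2 * 7 + 1 from rfl, add_zsmul, evz, one_zsmul, zero_add]
  have k16z : ∀ u : V, (16 : ℤ) • u = 0 := fun u => evz 8 u
  have k17z : ∀ u : V, (17 : ℤ) • u = u := fun u => by
    rw [show (17 : ℤ) = 2 * 8 + 1 from rfl, add_zsmul, evz, one_zsmul, zero_add]
  -- adjoint
  have padj : ∀ (k : ℕ), k < 7 → ∀ a b, polarQ q (op ρ (g ^ k) a) b =
      polarQ q a (op ρ (g ^ ((7 - k) % 7)) b) := by
    intro k hk a b
    rw [← hinv k hk, ← polar_map hF hR (g ^ k) a, ← op_mul, inv_pow, mul_inv_cancel, op_one]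
  have adj : ∀ a b, polarQ q (E1 a) b = polarQ q a (E2 b) := by
    intro a b
    simp only [E1, E2]; simp only [hE2]; simp only [e7, p7, AddMonoidHom.add_apply, hR.addl, polar_add_right hR,
      padj 0 (by norm_num), padj 1 (by norm_num), padj 2 (by norm_num), padj 3 (by norm_num),
      padj 4 (by norm_num), padj 5 (by norm_num), padj 6 (by norm_num)]
    norm_num
    ring
  have cases_zero : (∀ u, E2 u = 0) → ∀ u, E1 u = 0 := fun h u => hR.nondeg _ fun w => by
    rw [adj, h, polar_comm hR, polar_zero_left hR]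
  have cases_zero' : (∀ u, E1 u = 0) → ∀ u, E2 u = 0 := fun h u => hR.nondeg _ fun w => by
    rw [polar_comm hR, ← adj, h, polar_zero_left hR]
  have split : ∀ u, p7 ρ g u + E1 u + E2 u = u := by
    intro u
    simp only [E1, E2]; simp only [hE2]; simp only [e7, p7, AddMonoidHom.add_apply, pow_zero, op_one]
    abel_nf
    try simp only [k2z, k3z, k4z, k5z, k6z, k7z, k8z, k9z, k10z, k11z, k12z, k13z, k2n, k3n, k4n, k5n, k6n, k7n, k8n, k9n, k10n, k11n, k12n, k13n, k14n, k15n, k16n, k17n, k14z, k15z, k16z, k17z, one_zsmul, one_nsmul, add_zero, zero_add]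
    try norm_num
    all_goals abel
  have PE1 : ∀ u, p7 ρ g (E1 u) = 0 := by
    intro u
    simp only [E1, e7, p7, AddMonoidHom.add_apply, map_add, hmm]
    norm_num
    abel_nf
    try simp only [k2z, k3z, k4z, k5z, k6z, k7z, k8z, k9z, k10z, k11z, k12z, k13z, k2n, k3n, k4n, k5n, k6n, k7n, k8n, k9n, k10n, k11n, k12n, k13n, k14n, k15n, k16n, k17n, k14z, k15z, k16z, k17z, one_zsmul, one_nsmul, add_zero, zero_add]
    try norm_num
    all_goals abel
  have E12 : ∀ u, E1 (E2 u) = 0 := by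
    intro u
    simp only [E1, E2]; simp only [hE2]; simp only [e7, p7, AddMonoidHom.add_apply, map_add, hmm]
    norm_num
    abel_nf
    try simp only [k2z, k3z, k4z, k5z, k6z, k7z, k8z, k9z, k10z, k11z, k12z, k13z, k2n, k3n, k4n, k5n, k6n, k7n, k8n, k9n, k10n, k11n, k12n, k13n, k14n, k15n, k16n, k17n, k14z, k15z, k16z, k17z, one_zsmul, one_nsmul, add_zero, zero_add]
    try norm_num
    all_goals abel
  have E11 : ∀ u, E1 (E1 u) = E1 u := by
    intro u
    simp only [E1, e7, p7, AddMonoidHom.add_apply, map_add, hmm]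
    norm_num
    abel_nf
    try simp only [k2z, k3z, k4z, k5z, k6z, k7z, k8z, k9z, k10z, k11z, k12z, k13z, k2n, k3n, k4n, k5n, k6n, k7n, k8n, k9n, k10n, k11n, k12n, k13n, k14n, k15n, k16n, k17n, k14z, k15z, k16z, k17z, one_zsmul, one_nsmul, add_zero, zero_add]
    try norm_num
    all_goals abel
  have E22 : ∀ u, E2 (E2 u) = E2 u := by
    intro u
    simp only [E2]; simp only [hE2]; simp only [p7, AddMonoidHom.add_apply, map_add, hmm]
    norm_num
    abel_nf
    try simp only [k2z, k3z, k4z, k5z, k6z, k7z, k8z, k9z, k10z, k11z, k12z, k13z, k2n, k3n, k4n, k5n, k6n, k7n, k8n, k9n, k10n, k11n, k12n, k13n, k14n, k15n, k16n, k17n, k14z, k15z, k16z, k17z, one_zsmul, one_nsmul, add_zero, zero_add]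
    try norm_num
    all_goals abel
  have PE2 : ∀ u, p7 ρ g (E2 u) = 0 := by
    intro u
    simp only [E2]; simp only [hE2]; simp only [p7, AddMonoidHom.add_apply, map_add, hmm]
    norm_num
    abel_nf
    try simp only [k2z, k3z, k4z, k5z, k6z, k7z, k8z, k9z, k10z, k11z, k12z, k13z, k2n, k3n, k4n, k5n, k6n, k7n, k8n, k9n, k10n, k11n, k12n, k13n, k14n, k15n, k16n, k17n, k14z, k15z, k16z, k17z, one_zsmul, one_nsmul, add_zero, zero_add]
    try norm_num
    all_goals abel
  -- the three summands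
  have hfix : ∀ u, op ρ g u = u → p7 ρ g u = u := by
    intro u hu
    have hk : ∀ k, op ρ (g ^ k) u = u := by
      intro k
      induction k with
      | zero => rw [pow_zero, op_one]
      | succ k ih => rw [pow_succ, op_mul, hu, ih]
    simp only [p7, AddMonoidHom.add_apply, hk]
    rw [t2, zero_add, t2, zero_add, t2, zero_add]
  have hgE : ∀ (E : V →+ V), (∀ u, op ρ g (E u) = E (op ρ g u)) → (∀ u, op ρ F.n (E u) = E (op ρ F.n u)) →
      (∀ u, p7 ρ g (E u) = 0) → (∃ u, E u ≠ 0) → 64 ≤ Nat.card E.range := by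
    intro E hcg hcn hPE hne
    haveI : Fintype E.range := Fintype.ofFinite _
    have hgn' : ∀ u, op ρ g (op ρ F.n u) = op ρ F.n (op ρ g u) := op_comm hgn
    let f3 : Function.End E.range := fun w => ⟨op ρ F.n w, by
      obtain ⟨u, hu⟩ := w.2; exact ⟨op ρ F.n u, by rw [← hcn, hu]⟩⟩
    let f7 : Function.End E.range := fun w => ⟨op ρ g w, by
      obtain ⟨u, hu⟩ := w.2; exact ⟨op ρ g u, by rw [← hcg, hu]⟩⟩
    have e3 : f3 ^ 3 ^ 1 = 1 := funext fun w => Subtype.ext (H.o_three (w : V))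
    have e7' : f7 ^ 7 ^ 1 = 1 := funext fun w => Subtype.ext (by
      show op ρ g (op ρ g (op ρ g (op ρ g (op ρ g (op ρ g (op ρ g (w : V))))))) = (w : V)
      simp only [← op_mul]
      rw [show g * (g * (g * (g * (g * (g * g))))) = g ^ 7 by simp only [pow_succ', pow_zero, mul_one], hg7, op_one])
    haveI := Fact.mk Nat.prime_three
    haveI : Fact (Nat.Prime 7) := ⟨by norm_num⟩
    have h3 := Equiv.Perm.card_fixedPoints_modEq e3
    have h7 := Equiv.Perm.card_fixedPoints_modEq e7'
    have c3 : Fintype.card (Function.fixedPoints f3) = 1 := by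
      rw [Fintype.card_eq_one_iff]
      refine ⟨⟨0, Subtype.ext (map_zero (op ρ F.n))⟩, fun w => Subtype.ext (Subtype.ext ?_)⟩
      have hw : op ρ F.n (w : E.range) = ((w : E.range) : V) := congrArg Subtype.val w.2
      have := H.rel ((w : E.range) : V)
      rw [hw, hw, t2, zero_add] at this
      exact this
    have c7 : Fintype.card (Function.fixedPoints f7) = 1 := by
      rw [Fintype.card_eq_one_iff]
      refine ⟨⟨0, Subtype.ext (map_zero (op ρ g))⟩, fun w => Subtype.ext (Subtype.ext ?_)⟩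
      have hw : op ρ g (w : E.range) = ((w : E.range) : V) := congrArg Subtype.val w.2
      obtain ⟨u, hu⟩ := (w : E.range).2
      show ((w : E.range) : V) = 0
      rw [← hfix _ hw, ← hu, hPE]
    rw [c3] at h3
    rw [c7] at h7
    rw [← Nat.card_eq_fintype_card] at h3 h7
    have hdvd : Nat.card E.range ∣ 2 ^ 12 := by
      have := AddSubgroup.card_addSubgroup_dvd_card E.range
      rwa [hR.card] at this
    obtain ⟨k, hk, hkc⟩ := (Nat.dvd_prime_pow Nat.prime_two).1 hdvd
    have h1 : 1 < Nat.card E.range := by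
      obtain ⟨u, hu⟩ := hne
      exact Finite.one_lt_card_iff_nontrivial.2 ⟨⟨⟨E u, u, rfl⟩, 0, fun h => hu (congrArg Subtype.val h)⟩⟩
    rw [hkc] at h3 h7 h1 ⊢
    unfold Nat.ModEq at h3 h7
    interval_cases k <;> simp_all
  have hcg : ∀ (k : ℕ) u, op ρ g (op ρ (g ^ k) u) = op ρ (g ^ k) (op ρ g u) := fun k u =>
    op_comm (Commute.self_pow g k).eq u
  have hcn : ∀ (k : ℕ) u, op ρ F.n (op ρ (g ^ k) u) = op ρ (g ^ k) (op ρ F.n u) := fun k u =>
    op_comm ((show Commute F.n g from hgn.symm).pow_right k).eq u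
  by_cases hne : ∃ u, E1 u ≠ 0
  · exfalso
    have hne2 : ∃ u, E2 u ≠ 0 := by
      by_contra! h
      obtain ⟨u, hu⟩ := hne
      exact hu (cases_zero h u)
    have b1 := hgE E1 (fun u => by simp only [E1, e7, p7, AddMonoidHom.add_apply, map_add, hcg])
      (fun u => by simp only [E1, e7, p7, AddMonoidHom.add_apply, map_add, hcn]) PE1 hne
    have b2 := hgE E2 (fun u => by simp only [E2]; simp only [hE2]; simp only [p7, AddMonoidHom.add_apply, map_add, hcg])
      (fun u => by simp only [E2]; simp only [hE2]; simp only [p7, AddMonoidHom.add_apply, map_add, hcn]) PE2 hne2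
    -- the fixed line and the two summands
    let T : Bool × E1.range × E2.range → V := fun x =>
      (bif x.1 then v else 0) + (x.2.1 : V) + (x.2.2 : V)
    have hvE : E1 v = 0 := by
      rw [← hfix v hv]
      have hp : ∀ u, E1 (p7 ρ g u) = p7 ρ g (E1 u) := fun u => by
        simp only [E1, e7, p7, AddMonoidHom.add_apply, map_add, hmm]
        norm_num
        abel
      rw [hp, PE1]
    have hT : Function.Injective T := by
      rintro ⟨i, ⟨a, a', rfl⟩, ⟨b, b', rfl⟩⟩ ⟨j, ⟨c, c', rfl⟩, ⟨d, d', rfl⟩⟩ e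
      simp only [T] at e
      have e1 : E1 a' = E1 c' := by
        have := congrArg E1 e
        simp only [map_add, E11, E12, add_zero] at this
        cases i <;> cases j <;> simpa [hvE] using this
      have e2 : (bif i then v else 0) = (bif j then v else 0) := by
        have := congrArg (p7 ρ g) e
        simp only [map_add, PE1, PE2, add_zero] at this
        cases i <;> cases j <;> simpa [hfix v hv] using this
      rw [e1, e2, add_left_cancel_iff] at e
      have : i = j := by cases i <;> cases j <;> simp_all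
      exact Prod.ext this (Prod.ext (Subtype.ext e1) (Subtype.ext e))
    have := Nat.card_le_card_of_injective T hT
    rw [Nat.card_prod, Nat.card_prod, hR.card, Nat.card_eq_fintype_card (α := Bool), Fintype.card_bool] at this
    nlinarith
  · push Not at hne
    have h2 := cases_zero' hne
    refine hR.faith g fun u => ?_
    show op ρ g u = u
    have e := split u
    rw [hne, h2, add_zero, add_zero] at e
    conv_lhs => rw [← e]
    conv_rhs => rw [← e]
    simp only [p7, AddMonoidHom.add_apply, map_add]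
    simp only [← op_mul, ← pow_succ', zero_add, Nat.reduceAdd, hg7, pow_zero, pow_one, mul_one]
    rw [← pow_two g]
    abel

end

end Cfsg.Agent.FischerFrame18
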