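import Mathlib
import Cfsg.Agent.Lib.FischerFrameSeven18

/-!
Coordinates for the six planes: vectors, the quadratic form, and the action of the monomial elements.
-/

set_option autoImplicit false
set_option maxHeartbeats 1000000

namespace Cfsg.Agent.FischerFrame18

/-- coordinates -/
abbrev Co := Fin 6 → Option (ZMod 3)

/-- the support -/
def supp (d : Co) : Finset (Fin 6) := Finset.univ.filter fun i => (d i).isSome

/-- the sum of the exponents -/
def cls (d : Co) : ZMod 3 := ∑ i, (d i).getD 0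

/-- coordinates moved by a monomial element -/
def moved (π : Equiv.Perm (Fin 6)) (β : Fin 6 → ZMod 3) (d : Co) : Co := fun j =>
  (d (π.symm j)).map (· + β (π.symm j))

theorem supp_moved (π : Equiv.Perm (Fin 6)) (β : Fin 6 → ZMod 3) (d : Co) :
    supp (moved π β d) = (supp d).image π := by
  ext j
  simp only [supp, moved, Finset.mem_filter, Finset.mem_univ, true_and, Option.isSome_map,
    Finset.mem_image]
  constructor
  · intro h; exact ⟨_, h, π.apply_symm_apply j⟩
  · rintro ⟨i, h, rfl⟩; rwa [π.symm_apply_apply]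

theorem cls_moved (π : Equiv.Perm (Fin 6)) (β : Fin 6 → ZMod 3) {d : Co} (hd : ∀ i, (d i).isSome) :
    cls (moved π β d) = cls d + ∑ i, β i := by
  rw [cls, cls, ← Finset.sum_add_distrib, ← Equiv.sum_comp π]
  refine Finset.sum_congr rfl fun i _ => ?_
  obtain ⟨t, ht⟩ := Option.isSome_iff_exists.1 (hd i)
  simp [moved, ht]

/-- the inverse of the matrix of the six characters -/
def cInv : Fin 4 → Fin 4 → Fin 4 → ZMod 3 :=
  ![![![1, 1, 2, 0], ![2, 0, 1, 0], ![2, 1, 2, 2], ![2, 2, 1, 1]],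
    ![![1, 2, 2, 2], ![2, 1, 2, 1], ![0, 0, 2, 1], ![1, 0, 1, 2]],
    ![![2, 2, 1, 0], ![1, 0, 2, 0], ![1, 2, 1, 1], ![1, 1, 2, 2]],
    ![![2, 1, 1, 1], ![1, 2, 1, 2], ![0, 0, 1, 2], ![2, 0, 2, 1]]]

/-- exponents on the six planes of an element of the elementary group -/
def lineExp (k : Fin 4) (y : Fin 4 → ZMod 3) (m : ZMod 3) : Fin 6 → ZMod 3 :=
  fun i => (∑ j, y j * cS k i j) + m

/-- the element with given exponents -/
def solveY (k : Fin 4) (β : Fin 6 → ZMod 3) : Fin 4 → ZMod 3 := fun j =>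
  (β 1 - β 0) * cInv k 0 j + (β 2 - β 0) * cInv k 1 j + (β 3 - β 0) * cInv k 2 j + (β 4 - β 0) * cInv k 3 j

theorem solve_spec : ∀ k (β : Fin 6 → ZMod 3), ∑ i, β i = 0 →
    lineExp k (solveY k β) (β 0) = β := by decide +kernel

section

variable {X V : Type*} [Group X] [AddCommGroup V] {ρ : X →* AddMonoid.End V} {q : V → ZMod 2}
  {F : Frame X}

/-- Nonzero vectors on the six planes. -/
structure Basis (ρ : X →* AddMonoid.End V) (q : V → ZMod 2) (F : Frame X) (k : Fin 4) (e : Fin 6 → V) :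
    Prop where
  hF : FrameOK F
  hR : OrthMod ρ q
  hx : F.x = cX k
  mem : ∀ i, e i ∈ eig (op ρ F.n) (f4 ρ F) (cS k i)
  ne : ∀ i, e i ≠ 0
  four : ∀ i, Nat.card (eig (op ρ F.n) (f4 ρ F) (cS k i)) = 4
  other : ∀ χ, (∀ i, χ ≠ cS k i) → ∀ v ∈ eig (op ρ F.n) (f4 ρ F) χ, v = 0

theorem exists_basis (hF : FrameOK F) (hR : OrthMod ρ q) : ∃ k e, Basis ρ q F k e := by
  haveI : Finite V := Nat.finite_of_card_ne_zero (by rw [hR.card]; norm_num)
  obtain ⟨k, hx, h4, ho⟩ := exists_frame hF hR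
  have : ∀ i, ∃ v ∈ eig (op ρ F.n) (f4 ρ F) (cS k i), v ≠ 0 := by
    intro i
    haveI : Nontrivial (eig (op ρ F.n) (f4 ρ F) (cS k i)) :=
      Finite.one_lt_card_iff_nontrivial.1 (by rw [h4]; norm_num)
    obtain ⟨⟨v, hv⟩, hne⟩ := exists_ne (0 : eig (op ρ F.n) (f4 ρ F) (cS k i))
    exact ⟨v, hv, fun e => hne (Subtype.ext e)⟩
  choose e he hne using this
  exact ⟨k, e, hF, hR, hx, he, hne, h4, ho⟩

/-- the multiple of a basis vector -/
def part (o : V →+ V) (v : V) : Option (ZMod 3) → V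
  | none => 0
  | some t => ow o t v

/-- the vector with given coordinates -/
def pt (F : Frame X) (ρ : X →* AddMonoid.End V) (e : Fin 6 → V) (d : Co) : V :=
  ∑ i, part (op ρ F.n) (e i) (d i)

namespace Basis

variable {k : Fin 4} {e : Fin 6 → V} (B : Basis ρ q F k e)
include B

theorem fam : Fam (op ρ F.n) (f4 ρ F) := fam4 B.hF B.hR

theorem ow_mem (i : Fin 6) (t : ZMod 3) : ow (op ρ F.n) t (e i) ∈ eig (op ρ F.n) (f4 ρ F) (cS k i) :=
  fun j => by
    rw [B.fam.f_ow, B.mem i j, ← B.fam.ow_add, ← B.fam.ow_add, add_comm]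

theorem part_mem (i : Fin 6) : ∀ o : Option (ZMod 3),
    part (op ρ F.n) (e i) o ∈ eig (op ρ F.n) (f4 ρ F) (cS k i)
  | none => zero_mem _
  | some t => B.ow_mem i t

theorem ow_inj {s t : ZMod 3} {v : V} (hv : v ≠ 0) (h : ow (op ρ F.n) s v = ow (op ρ F.n) t v) : s = t := by
  by_contra hst
  have h0 : ow (op ρ F.n) (t - s) v = v := by
    have := congrArg (ow (op ρ F.n) (-s)) h
    rw [← B.fam.ow_add, ← B.fam.ow_add, neg_add_cancel, ow_zero, neg_add_eq_sub] at this
    exact this.symm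
  have h3 := B.fam.sum3 (t - s) v
  rw [if_neg (sub_ne_zero.2 (Ne.symm hst)), h0, two_mul, B.fam.ow_add, h0, h0, B.hR.two, zero_add] at h3
  exact hv h3

theorem ow_ne_zero {t : ZMod 3} {v : V} (hv : v ≠ 0) : ow (op ρ F.n) t v ≠ 0 := fun h => hv (by
  have := congrArg (ow (op ρ F.n) (-t)) h
  rwa [← B.fam.ow_add, neg_add_cancel, ow_zero, map_zero] at this)

theorem mem_cases (i : Fin 6) {v : V} (hv : v ∈ eig (op ρ F.n) (f4 ρ F) (cS k i)) :
    ∃ o, part (op ρ F.n) (e i) o = v := by
  haveI : Finite V := Nat.finite_of_card_ne_zero (by rw [B.hR.card]; norm_num)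
  let g : Option (ZMod 3) → eig (op ρ F.n) (f4 ρ F) (cS k i) := fun o => ⟨_, B.part_mem i o⟩
  have hg : Function.Injective g := by
    rintro (_ | s) (_ | t) h <;> have h' := congrArg Subtype.val h
    · rfl
    · exact absurd h'.symm (B.ow_ne_zero (B.ne i))
    · exact absurd h' (B.ow_ne_zero (B.ne i))
    · exact congrArg some (B.ow_inj (B.ne i) h')
  have hb := (Nat.bijective_iff_injective_and_card g).2 ⟨hg, by
    rw [B.four, Nat.card_eq_fintype_card, Fintype.card_option, ZMod.card]⟩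
  obtain ⟨o, ho⟩ := hb.2 ⟨v, hv⟩
  exact ⟨o, congrArg Subtype.val ho⟩

theorem pt_bijective : Function.Bijective (pt F ρ e) := by
  classical
  haveI : Finite V := Nat.finite_of_card_ne_zero (by rw [B.hR.card]; norm_num)
  refine (Nat.bijective_iff_surjective_and_card _).2 ⟨fun v => ?_, by
    rw [B.hR.card, Nat.card_eq_fintype_card, Fintype.card_fun, Fintype.card_option, ZMod.card,
      Fintype.card_fin]; norm_num⟩
  choose o ho using fun i => B.mem_cases i (B.fam.Ep_mem (cS k i) v)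
  refine ⟨o, ?_⟩
  conv_rhs => rw [← B.fam.sum_Ep v]
  rw [pt, Finset.sum_congr rfl fun i _ => ho i,
    ← Finset.sum_image (f := fun χ => Ep (op ρ F.n) (f4 ρ F) χ v) ((cS_inj k).injOn)]
  refine Finset.sum_subset (Finset.subset_univ _) fun χ _ hχ => ?_
  exact B.other χ (fun i h => hχ (Finset.mem_image.2 ⟨i, Finset.mem_univ _, h.symm⟩)) _ (B.fam.Ep_mem χ v)

theorem polar_cross {i j : Fin 6} (hij : i ≠ j) {v w : V} (hv : v ∈ eig (op ρ F.n) (f4 ρ F) (cS k i))
    (hw : w ∈ eig (op ρ F.n) (f4 ρ F) (cS k j)) : polarQ q v w = 0 := by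
  obtain ⟨a, ha⟩ : ∃ a, cS k i a ≠ cS k j a := Function.ne_iff.1 fun h => hij (cS_inj k h)
  have owp : ∀ (t : ZMod 3) (x y : V),
      polarQ q (ow (op ρ F.n) t x) (ow (op ρ F.n) t y) = polarQ q x y := by
    intro t x y
    rcases zmod3_cases t with rfl | rfl | rfl
    · rfl
    · exact polar_map B.hF B.hR F.n x y
    · rw [ow_two, ow_two, polar_map B.hF B.hR, polar_map B.hF B.hR]
  set d := cS k j a - cS k i a with hd
  have key : ∀ u ∈ eig (op ρ F.n) (f4 ρ F) (cS k j),
      polarQ q v u = polarQ q v (ow (op ρ F.n) d u) := by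
    intro u hu
    rw [← polar_map B.hF B.hR (F.a a) v u, show op ρ (F.a a) v = _ from hv a,
      show op ρ (F.a a) u = _ from hu a, ← owp (cS k i a) v (ow (op ρ F.n) d u), ← B.fam.ow_add, hd,
      add_sub_cancel]
  have hw' : ow (op ρ F.n) d w ∈ eig (op ρ F.n) (f4 ρ F) (cS k j) := fun b => by
    rw [B.fam.f_ow, hw b, ← B.fam.ow_add, ← B.fam.ow_add, add_comm]
  have e1 := key _ hw'
  have e0 := key _ hw
  rw [← B.fam.ow_add] at e1
  have h3 := B.fam.sum3 d w
  rw [if_neg (sub_ne_zero.2 (Ne.symm ha))] at h3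
  have h4 := congrArg (polarQ q v) h3
  rw [polar_add_right B.hR, polar_add_right B.hR, ← e0, two_mul, ← e1, ← e0,
    polar_comm B.hR v 0, polar_zero_left B.hR] at h4
  rwa [ZModModule.add_self, zero_add] at h4

theorem q_zero : q 0 = 0 := by
  have h := polar_zero_left B.hR (0 : V)
  rw [polarQ, add_zero, ZModModule.add_self, zero_add] at h
  exact h

theorem q_part (i : Fin 6) : ∀ o : Option (ZMod 3),
    q (part (op ρ F.n) (e i) o) = if o.isSome then 1 else 0
  | none => by simp [part, B.q_zero]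
  | some t => by
    have qo : ∀ v, q (op ρ F.n v) = q v := B.hR.inv F.n
    have qt : ∀ (t : ZMod 3) v, q (ow (op ρ F.n) t v) = q v := by
      intro t v
      rcases zmod3_cases t with rfl | rfl | rfl
      · rfl
      · exact qo v
      · rw [ow_two, qo, qo]
    rw [part, qt]
    simp only [Option.isSome_some, if_true]
    by_contra h1
    have h0 : q (e i) = 0 := by
      revert h1
      generalize q (e i) = x
      revert x
      decide
    have hself : polarQ q (e i) (e i) = 0 := by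
      simp [polarQ, B.hR.two, B.q_zero, ZModModule.add_self]
    have hn : polarQ q (e i) (op ρ F.n (e i)) = 0 := by
      rw [polarQ, add_comm (e i), ← B.fam.o_two, qo, qo, h0]
      decide
    refine B.ne i (B.hR.nondeg _ fun w => ?_)
    obtain ⟨d, rfl⟩ := B.pt_bijective.2 w
    rw [pt]
    refine Finset.sum_induction _ (fun u => polarQ q (e i) u = 0)
      (fun a b ha hb => by rw [polar_add_right B.hR, ha, hb, add_zero])
      (by rw [polar_comm B.hR, polar_zero_left B.hR]) fun j _ => ?_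
    by_cases hij : i = j
    · subst hij
      rcases d i with _ | s
      · rw [part, polar_comm B.hR, polar_zero_left B.hR]
      · rcases zmod3_cases s with rfl | rfl | rfl
        · exact hself
        · exact hn
        · show polarQ q (e i) (ow (op ρ F.n) 2 (e i)) = 0
          rw [ow_two, B.fam.o_two, polar_add_right B.hR, hn, hself, add_zero]
    · exact B.polar_cross hij (B.mem i) (B.part_mem j _)

theorem q_pt (d : Co) : q (pt F ρ e d) = ((supp d).card : ZMod 2) := by
  classical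
  have key : ∀ s : Finset (Fin 6), q (∑ i ∈ s, part (op ρ F.n) (e i) (d i)) =
      ∑ i ∈ s, (if (d i).isSome then 1 else 0 : ZMod 2) := by
    intro s
    induction s using Finset.induction_on with
    | empty => simp [B.q_zero]
    | insert a s ha ih =>
      have hp : polarQ q (part (op ρ F.n) (e a) (d a)) (∑ i ∈ s, part (op ρ F.n) (e i) (d i)) = 0 :=
        Finset.sum_induction _ (fun u => polarQ q (part (op ρ F.n) (e a) (d a)) u = 0)
          (fun x y hx hy => by rw [polar_add_right B.hR, hx, hy, add_zero])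
          (by rw [polar_comm B.hR, polar_zero_left B.hR])
          fun j hj => B.polar_cross (fun h => ha (by rw [h]; exact hj)) (B.part_mem a _) (B.part_mem j _)
      rw [Finset.sum_insert ha, Finset.sum_insert ha, ← ih, ← B.q_part a]
      rw [polarQ] at hp
      generalize q (part (op ρ F.n) (e a) (d a) + ∑ i ∈ s, part (op ρ F.n) (e i) (d i)) = x at hp ⊢
      generalize q (part (op ρ F.n) (e a) (d a)) = y at hp ⊢
      generalize q (∑ i ∈ s, part (op ρ F.n) (e i) (d i)) = z at hp ⊢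
      revert x y z
      decide
  rw [pt, key, Finset.sum_boole]
  rfl

/-- An element moves the six lines monomially. -/
def Mono (F : Frame X) (ρ : X →* AddMonoid.End V) (e : Fin 6 → V) (g : X) (π : Equiv.Perm (Fin 6))
    (β : Fin 6 → ZMod 3) : Prop :=
  g * F.n = F.n * g ∧ ∀ i, op ρ g (e i) = ow (op ρ F.n) (β i) (e (π i))

theorem mono_pt {g : X} {π : Equiv.Perm (Fin 6)} {β : Fin 6 → ZMod 3} (hm : Mono F ρ e g π β) (d : Co) :
    op ρ g (pt F ρ e d) = pt F ρ e (moved π β d) := by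
  rw [pt, map_sum, pt, ← Equiv.sum_comp π (fun j => part (op ρ F.n) (e j) (moved π β d j))]
  refine Finset.sum_congr rfl fun i _ => ?_
  simp only [moved, Equiv.symm_apply_apply]
  rcases d i with _ | t
  · exact map_zero _
  · simp only [Option.map_some, part]
    rw [map_ow _ _ (fun v => op_comm hm.1 v), hm.2 i, ← B.fam.ow_add]

theorem mono_line (y : Fin 4 → ZMod 3) (m : ZMod 3) :
    Mono F ρ e (prodA F.a y * F.n ^ m.val) 1 (lineExp k y m) := by
  have hc : ∀ i, Commute (F.a i) F.n := B.hF.an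
  refine ⟨?_, fun i => ?_⟩
  · exact (((((hc 0).pow_left _).mul_left ((hc 1).pow_left _)).mul_left ((hc 2).pow_left _)).mul_left
      ((hc 3).pow_left _) |>.mul_left ((Commute.refl F.n).pow_left _)).eq
  · rw [Equiv.Perm.one_apply]
    have hp : ∀ (x : X) (s : ZMod 3), x * F.n = F.n * x → op ρ x (e i) = ow (op ρ F.n) s (e i) →
        ∀ l : ℕ, op ρ (x ^ l) (e i) = ow (op ρ F.n) (l * s) (e i) := by
      intro x s hx hxe l
      induction l with
      | zero => rw [pow_zero, op_one, Nat.cast_zero, zero_mul, ow_zero]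
      | succ l ih =>
        rw [pow_succ, op_mul, hxe, map_ow _ _ (fun v => op_comm ((show Commute x F.n from hx).pow_left l).eq v),
          ih, ← B.fam.ow_add, Nat.cast_succ]
        congr 1
        ring
    have ha := fun j => hp (F.a j) (cS k i j) (B.hF.an j) (B.mem i j) (y j).val
    have hn := hp F.n 1 rfl rfl m.val
    have hx : ∀ (j : Fin 4) (s : ZMod 3) (u : V), op ρ (F.a j ^ (y j).val) (ow (op ρ F.n) s u) =
        ow (op ρ F.n) s (op ρ (F.a j ^ (y j).val) u) := fun j s u =>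
      map_ow _ _ (fun v => op_comm ((hc j).pow_left _).eq v) s u
    simp only [prodA, op_mul, hn, ha, hx, ← B.fam.ow_add, ZMod.natCast_val, ZMod.cast_id', id_eq,
      lineExp, Fin.sum_univ_four]
    congr 1
    ring

theorem exists_mono_b : (∃ β, Mono F ρ e F.b⁻¹ (cB k) β) ∧ ∃ β, Mono F ρ e F.c⁻¹ (cC k) β := by
  have hb : F.b⁻¹ * F.n = F.n * F.b⁻¹ := ((show Commute F.b F.n from B.hF.bn).inv_left).eq
  have hc : F.c⁻¹ * F.n = F.n * F.c⁻¹ := ((show Commute F.c F.n from B.hF.cn).inv_left).eq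
  have hop : ∀ (g : X), g * F.n = F.n * g → ∀ (t : ZMod 3) (u : V),
      op ρ g (ow (op ρ F.n) t u) = ow (op ρ F.n) t (op ρ g u) := fun g h t u =>
    map_ow _ _ (fun v => op_comm h v) t u
  have hexp : ∀ (y : Fin 4 → ZMod 3) (m : ZMod 3) (i : Fin 6),
      op ρ (prodA F.a y * F.n ^ m.val) (e i) = ow (op ρ F.n) (lineExp k y m i) (e i) :=
    fun y m i => (B.mono_line y m).2 i
  have hmem : ∀ i, (op ρ F.b⁻¹ (e i) ∈ eig (op ρ F.n) (f4 ρ F) (cS k (cB k i))) ∧
      op ρ F.c⁻¹ (e i) ∈ eig (op ρ F.n) (f4 ρ F) (cS k (cC k i)) := by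
    intro i
    refine ⟨fun j => ?_, fun j => ?_⟩
    · show op ρ (F.a j) (op ρ F.b⁻¹ (e i)) = _
      rw [← op_mul, show F.a j * F.b⁻¹ = F.b⁻¹ * (prodA F.a (Bm j) * F.n ^ (0 : ZMod 3).val) by
        rw [ZMod.val_zero, pow_zero, mul_one, ← B.hF.bconj]; group, op_mul, hexp, hop _ hb]
      congr 2
      rw [← cS_fB]; simp [lineExp, fB]
    · show op ρ (F.a j) (op ρ F.c⁻¹ (e i)) = _
      rw [← op_mul, show F.a j * F.c⁻¹ = F.c⁻¹ * (prodA F.a (Cm j) * F.n ^ (F.x j).val) by
        rw [← B.hF.cconj]; group, op_mul, hexp, hop _ hc]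
      congr 2
      rw [← cS_fC, B.hx]; simp [lineExp, fC]
  constructor
  · have : ∀ i, ∃ t, op ρ F.b⁻¹ (e i) = ow (op ρ F.n) t (e (cB k i)) := by
      intro i
      obtain ⟨o, ho⟩ := B.mem_cases _ (hmem i).1
      rcases o with _ | t
      · exact absurd (op_inj _ (ho.symm.trans (map_zero _).symm)) (B.ne i)
      · exact ⟨t, ho.symm⟩
    choose β hβ using this
    exact ⟨β, hb, hβ⟩
  · have : ∀ i, ∃ t, op ρ F.c⁻¹ (e i) = ow (op ρ F.n) t (e (cC k i)) := by
      intro i
      obtain ⟨o, ho⟩ := B.mem_cases _ (hmem i).2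
      rcases o with _ | t
      · exact absurd (op_inj _ (ho.symm.trans (map_zero _).symm)) (B.ne i)
      · exact ⟨t, ho.symm⟩
    choose β hβ using this
    exact ⟨β, hc, hβ⟩

end Basis

end

end Cfsg.Agent.FischerFrame18
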