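import Mathlib
import Cfsg.Agent.Lib.FischerFrameCoords18

/-!
The two orbits on nonzero singular vectors: 378 and 1701.
-/

set_option autoImplicit false
set_option maxHeartbeats 1000000
set_option maxRecDepth 100000

namespace Cfsg.Agent.FischerFrame18

/-- the kind of a coordinate vector with even nonempty support -/
def kind (d : Co) : Fin 5 :=
  if (supp d).card = 2 then 0 else if (supp d).card = 4 then 1 else
    if cls d = 0 then 2 else if cls d = 1 then 3 else 4

/-- whether the vector is nonzero singular -/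
def Sing2 (d : Co) : Prop := (supp d).card = 2 ∨ (supp d).card = 4 ∨ (supp d).card = 6

instance (d : Co) : Decidable (Sing2 d) := by unfold Sing2; infer_instance

/-- the sizes of the kinds -/
def ksize : Fin 5 → ℕ := ![135, 1215, 243, 243, 243]

theorem card_kind : ∀ j : Fin 5,
    (Finset.univ.filter fun d : Co => Sing2 d ∧ kind d = j).card = ksize j := by decide +kernel

theorem kind_sets : ∀ K : Finset (Fin 5), K.Nonempty → 7 ∣ (∑ j ∈ K, ksize j) →
    ∑ j ∈ K, ksize j ≠ 2079 →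
      (∃ j ∈ ({2, 3, 4} : Finset (Fin 5)), K = {0, j}) ∨
        ∃ j ∈ ({2, 3, 4} : Finset (Fin 5)), K = ({1, 2, 3, 4} : Finset (Fin 5)).erase j := by
  decide +kernel

theorem erase_mem : ∀ i j : Fin 5, i ∈ ({2, 3, 4} : Finset (Fin 5)) → j ∈ ({2, 3, 4} : Finset (Fin 5)) →
    i ≠ j → j ∈ ({1, 2, 3, 4} : Finset (Fin 5)).erase i := by decide

theorem out_mem : ∀ j t : Fin 5, j ∈ ({2, 3, 4} : Finset (Fin 5)) → t ∉ ({0, j} : Finset (Fin 5)) →
    t ∈ ({1, 2, 3, 4} : Finset (Fin 5)).erase j := by decide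

/-- the mask of a set of indices -/
def mask (s : Finset (Fin 6)) : ℕ := ∑ i ∈ s, 2 ^ (i : ℕ)

/-- the set of indices of a mask -/
def unmask (m : ℕ) : Finset (Fin 6) := Finset.univ.filter fun i => m / 2 ^ (i : ℕ) % 2 = 1

/-- the image of a mask -/
def imask (π : Equiv.Perm (Fin 6)) (m : ℕ) : ℕ := mask ((unmask m).image π)

theorem unmask_mask : ∀ s, unmask (mask s) = s := by decide +kernel

/-- the search for all sets of the same size -/
def reach (k : Fin 4) (c : ℕ) : List ℕ :=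
  grow (imask (cB k)) (imask (cC k)) 14 8 [bif c == 2 then 3 else 15]

theorem reach_all : ∀ k, ∀ s : Finset (Fin 6), (s.card = 2 ∨ s.card = 4) → mask s ∈ reach k s.card := by
  decide +kernel

theorem grow_pred {g h : ℕ → ℕ} {m : ℕ} (P : ℕ → Prop) (hg : ∀ a, P a → P (g a)) (hh : ∀ a, P a → P (h a)) :
    ∀ (k : ℕ) (l : List ℕ), (∀ a ∈ l, P a) → ∀ a ∈ grow g h m k l, P a
  | 0, l, hl => hl
  | k + 1, l, hl => by
    have hl' : ∀ a ∈ (l ++ l.map g ++ l.map h).dedup, P a := by
      intro a ha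
      simp only [List.mem_dedup, List.mem_append, List.mem_map] at ha
      rcases ha with (ha | ⟨b, hb, rfl⟩) | ⟨b, hb, rfl⟩
      exacts [hl a ha, hg b (hl b hb), hh b (hl b hb)]
    simp only [grow]
    cases decide (m < (l ++ l.map g ++ l.map h).dedup.length)
    · exact grow_pred P hg hh k _ hl'
    · exact hl'

section

variable {X V : Type*} [Group X] [AddCommGroup V] {ρ : X →* AddMonoid.End V} {q : V → ZMod 2}
  {F : Frame X}

/-- conjugate vectors -/
def Rel (ρ : X →* AddMonoid.End V) (u v : V) : Prop := ∃ g : X, op ρ g u = v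

theorem Rel.refl (u : V) : Rel ρ u u := ⟨1, op_one u⟩

theorem Rel.symm {u v : V} (h : Rel ρ u v) : Rel ρ v u := by
  obtain ⟨g, rfl⟩ := h
  exact ⟨g⁻¹, op_inv_self g u⟩

theorem Rel.trans {u v w : V} (h : Rel ρ u v) (h' : Rel ρ v w) : Rel ρ u w := by
  obtain ⟨g, rfl⟩ := h
  obtain ⟨g', rfl⟩ := h'
  exact ⟨g' * g, op_mul _ _ _⟩

namespace Basis

variable {k : Fin 4} {e : Fin 6 → V} (B : Basis ρ q F k e)
include B

theorem rel_phase {d d' : Co} (hs : supp d = supp d') (hc : supp d = Finset.univ → cls d = cls d') :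
    Rel ρ (pt F ρ e d) (pt F ρ e d') := by
  classical
  let δ : Fin 6 → ZMod 3 := fun i => (d' i).getD 0 - (d i).getD 0
  obtain ⟨β, hβ, hsum⟩ : ∃ β : Fin 6 → ZMod 3, (∀ i ∈ supp d, β i = δ i) ∧ ∑ i, β i = 0 := by
    by_cases hu : supp d = Finset.univ
    · refine ⟨δ, fun i _ => rfl, ?_⟩
      simp only [δ, Finset.sum_sub_distrib]
      exact sub_eq_zero.2 (hc hu).symm
    · obtain ⟨j, hj⟩ : ∃ j, j ∉ supp d := by
        by_contra! h
        exact hu (Finset.eq_univ_of_forall h)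
      refine ⟨Function.update δ j (δ j - ∑ i, δ i), fun i hi => ?_, ?_⟩
      · rw [Function.update_of_ne]
        rintro rfl
        exact hj hi
      · have hse := Finset.sum_erase_add _ δ (Finset.mem_univ j)
        rw [Finset.sum_update_of_mem (Finset.mem_univ j), Finset.sdiff_singleton_eq_erase]
        linear_combination hse
  refine ⟨prodA F.a (solveY k β) * F.n ^ (β 0).val, ?_⟩
  rw [B.mono_pt (B.mono_line _ _), solve_spec k β hsum]
  congr 1
  funext i
  have hi : (d i).isSome = (d' i).isSome := by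
    have := congrArg (fun s : Finset (Fin 6) => decide (i ∈ s)) hs
    simpa [supp] using this
  simp only [moved]
  rw [show (1 : Equiv.Perm (Fin 6)).symm i = i from rfl]
  cases hd : d i with
  | none => rw [hd] at hi; simp_all
  | some t =>
    rw [hd] at hi
    obtain ⟨t', ht'⟩ := Option.isSome_iff_exists.1 hi.symm
    rw [ht', hβ i (by simp [supp, hd])]
    simp [δ, hd, ht']

theorem rel_supp {d : Co} (s : Finset (Fin 6)) (hs : (supp d).card = 2 ∨ (supp d).card = 4)
    (hsz : s.card = (supp d).card) : ∃ d', supp d' = s ∧ Rel ρ (pt F ρ e d) (pt F ρ e d') := by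
  obtain ⟨⟨β, hβ⟩, ⟨γ, hγ⟩⟩ := B.exists_mono_b
  set base : ℕ := bif (supp d).card == 2 then 3 else 15
  -- reachable from the base set
  let P : ℕ → Prop := fun m => ∀ d₀, supp d₀ = unmask base →
    ∃ d', supp d' = unmask m ∧ Rel ρ (pt F ρ e d₀) (pt F ρ e d')
  have step : ∀ {g : X} {π : Equiv.Perm (Fin 6)} {b : Fin 6 → ZMod 3}, Mono F ρ e g π b →
      ∀ m, P m → P (imask π m) := by
    intro g π b hm m hP d₀ hd₀
    obtain ⟨d', hd', hr⟩ := hP d₀ hd₀
    refine ⟨moved π b d', by rw [supp_moved, hd', imask, unmask_mask], hr.trans ⟨g, B.mono_pt hm d'⟩⟩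
  have hP : ∀ t : Finset (Fin 6), t.card = (supp d).card → P (mask t) := fun t ht =>
    grow_pred P (step hβ) (step hγ) 8 _ (by
      intro a ha
      rw [List.mem_singleton] at ha
      subst ha
      exact fun d₀ hd₀ => ⟨d₀, hd₀, Rel.refl _⟩) _ (by
        have := reach_all k t (by rw [ht]; exact hs)
        rwa [reach, ht] at this)
  let d₀ : Co := fun i => if i ∈ unmask base then some 0 else none
  have hd₀ : supp d₀ = unmask base := by ext i; simp [supp, d₀]
  obtain ⟨d₁, h1, r1⟩ := hP (supp d) rfl d₀ hd₀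
  obtain ⟨d₂, h2, r2⟩ := hP s hsz d₀ hd₀
  rw [unmask_mask] at h1 h2
  refine ⟨d₂, h2, Rel.trans (Rel.trans ?_ r1.symm) r2⟩
  exact B.rel_phase h1.symm fun hu => by
    rw [hu] at hs
    simp at hs

theorem rel_of_kind {d d' : Co} (hd : Sing2 d) (hd' : Sing2 d') (h : kind d = kind d') :
    Rel ρ (pt F ρ e d) (pt F ρ e d') := by
  have hk : (supp d).card = (supp d').card ∧ ((supp d).card = 6 → cls d = cls d') := by
    have kk : ∀ d : Co, Sing2 d → ((supp d).card = 2 ∧ (kind d : ℕ) = 0) ∨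
        ((supp d).card = 4 ∧ (kind d : ℕ) = 1) ∨
        ((supp d).card = 6 ∧ (kind d : ℕ) = 2 + (cls d).val) := by
      rintro d (a | a | a) <;> simp only [kind, a] <;> norm_num
      generalize cls d = x
      revert x
      decide
    have hv : (kind d : ℕ) = kind d' := congrArg Fin.val h
    have lt1 := ZMod.val_lt (cls d)
    have lt2 := ZMod.val_lt (cls d')
    rcases kk d hd with ⟨a, a'⟩ | ⟨a, a'⟩ | ⟨a, a'⟩ <;>
      rcases kk d' hd' with ⟨b, b'⟩ | ⟨b, b'⟩ | ⟨b, b'⟩ <;> refine ⟨by omega, fun h6 => ?_⟩ <;>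
      first | omega | exact ZMod.val_injective 3 (by omega)
  by_cases h6 : (supp d).card = 6
  · exact B.rel_phase ((Finset.card_eq_iff_eq_univ _).1 h6 |>.trans
      ((Finset.card_eq_iff_eq_univ _).1 (hk.1 ▸ h6 : (supp d').card = Fintype.card (Fin 6))).symm)
      fun _ => hk.2 h6
  · have hs : (supp d).card = 2 ∨ (supp d).card = 4 := by
      rcases hd with a | a | a <;> omega
    obtain ⟨d₁, h1, r⟩ := B.rel_supp (supp d') hs hk.1.symm
    refine r.trans (B.rel_phase h1 fun hu => ?_)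
    rw [hu] at h1
    rw [← h1] at hk
    exact absurd (hk.1.trans (by simp)) h6

theorem sing_iff (d : Co) : (pt F ρ e d ≠ 0 ∧ q (pt F ρ e d) = 0) ↔ Sing2 d := by
  have h0 : pt F ρ e d = 0 ↔ (supp d).card = 0 := by
    have hz : pt F ρ e (fun _ => none) = 0 := Finset.sum_eq_zero fun i _ => rfl
    rw [Finset.card_eq_zero, ← hz, B.pt_bijective.1.eq_iff]
    constructor
    · rintro rfl; ext i; simp [supp]
    · intro h; funext i
      by_contra hne
      have : i ∈ supp d := by simp [supp, Option.isSome_iff_ne_none, hne]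
      rw [h] at this
      simp at this
  have hle : (supp d).card ≤ 6 := (Finset.card_le_univ _).trans (by simp)
  rw [Ne, h0, B.q_pt, Sing2]
  generalize (supp d).card = c at hle ⊢
  interval_cases c <;> decide

/-- the orbit of a vector, in coordinates -/
theorem card_orbit [Finite X] (hseven : ∀ g : X, g ^ 7 = 1 → g * F.n = F.n * g)
    (hcard : Nat.card X = 19595520) (d₀ : Co) (hd₀ : Sing2 d₀) (O : Finset Co)
    (hO : ∀ d, d ∈ O ↔ Rel ρ (pt F ρ e d₀) (pt F ρ e d)) : 7 ∣ O.card ∧ O.card ∣ 19595520 := by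
  classical
  haveI : Finite V := Nat.finite_of_card_ne_zero (by rw [B.hR.card]; norm_num)
  obtain ⟨hv0, -⟩ := (B.sing_iff d₀).2 hd₀
  letI : MulAction X V :=
    { smul := fun g v => op ρ g v
      one_smul := fun v => op_one v
      mul_smul := fun g h v => op_mul g h v }
  have hcardO : Nat.card (MulAction.orbit X (pt F ρ e d₀)) = O.card := by
    rw [← Nat.card_eq_finsetCard O]
    refine (Nat.card_congr (Equiv.ofBijective (fun d : O => (⟨pt F ρ e d, (hO d).1 d.2⟩ :
      MulAction.orbit X (pt F ρ e d₀))) ⟨fun a b h => ?_, ?_⟩)).symm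
    · exact Subtype.ext (B.pt_bijective.1 (congrArg Subtype.val h))
    · rintro ⟨v, hv⟩
      obtain ⟨d, rfl⟩ := B.pt_bijective.2 v
      exact ⟨⟨d, (hO d).2 hv⟩, rfl⟩
  refine ⟨?_, ?_⟩
  · haveI : Fact (Nat.Prime 7) := ⟨by norm_num⟩
    obtain ⟨g, hg⟩ := exists_prime_orderOf_dvd_card' (G := X) 7 (by rw [hcard]; norm_num)
    haveI : Fintype (MulAction.orbit X (pt F ρ e d₀)) := Fintype.ofFinite _
    let f : Function.End (MulAction.orbit X (pt F ρ e d₀)) := fun w => g • w
    have hf : f ^ 7 ^ 1 = 1 := funext fun w => by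
      show g • g • g • g • g • g • g • w = w
      simp only [smul_smul]
      rw [show g * (g * (g * (g * (g * (g * g))))) = g ^ 7 by simp only [pow_succ', pow_zero, mul_one],
        ← hg, pow_orderOf_eq_one, one_smul]
    have hm := Equiv.Perm.card_fixedPoints_modEq hf
    have h0 : Fintype.card (Function.fixedPoints f) = 0 := by
      rw [Fintype.card_eq_zero_iff]
      refine ⟨fun ⟨⟨w, hw⟩, hfix⟩ => ?_⟩
      have hfix' : op ρ g w = w := congrArg Subtype.val hfix
      obtain ⟨x, rfl⟩ := hw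
      have hne : op ρ x (pt F ρ e d₀) ≠ 0 := fun h => hv0 (op_inj x (h.trans (map_zero _).symm))
      have h7 : g ^ 7 = 1 := hg ▸ pow_orderOf_eq_one g
      rw [seven_fix B.hF B.hR h7 (hseven g h7) hne hfix', orderOf_one] at hg
      norm_num at hg
    rw [h0, ← Nat.card_eq_fintype_card, hcardO] at hm
    exact (Nat.modEq_zero_iff_dvd).1 hm
  · rw [← hcardO, ← hcard, Nat.card_congr (MulAction.orbitEquivQuotientStabilizer X (pt F ρ e d₀))]
    exact Subgroup.card_quotient_dvd_card _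

/-- The two orbits. -/
theorem two_orbits [Finite X] (hseven : ∀ g : X, g ^ 7 = 1 → g * F.n = F.n * g)
    (hcard : Nat.card X = 19595520) :
    ∃ j ∈ ({2, 3, 4} : Finset (Fin 5)), ∀ d d' : Co, Sing2 d → Sing2 d' →
      (Rel ρ (pt F ρ e d) (pt F ρ e d') ↔
        (kind d ∈ ({0, j} : Finset (Fin 5)) ↔ kind d' ∈ ({0, j} : Finset (Fin 5)))) := by
  classical
  let O : Co → Finset Co := fun d₀ => Finset.univ.filter fun d => Rel ρ (pt F ρ e d₀) (pt F ρ e d)
  have memO : ∀ {d₀ d}, d ∈ O d₀ ↔ Rel ρ (pt F ρ e d₀) (pt F ρ e d) := fun {d₀ d} => by simp [O]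
  have hsing : ∀ {d₀ d}, Sing2 d₀ → d ∈ O d₀ → Sing2 d := by
    intro d₀ d h hd
    obtain ⟨g, hg⟩ := memO.1 hd
    obtain ⟨h1, h2⟩ := (B.sing_iff d₀).2 h
    refine (B.sing_iff d).1 ⟨fun e0 => h1 (op_inj g ((hg.trans e0).trans (map_zero _).symm)), ?_⟩
    rw [← hg]
    exact (B.hR.inv g _).trans h2
  let Kd : Co → Finset (Fin 5) := fun d₀ => (O d₀).image kind
  have hOeq : ∀ d₀, Sing2 d₀ → O d₀ = (Finset.univ.filter fun d => Sing2 d ∧ kind d ∈ Kd d₀) := by
    intro d₀ h
    ext d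
    simp only [Kd, Finset.mem_filter, Finset.mem_univ, true_and, Finset.mem_image]
    constructor
    · exact fun hd => ⟨hsing h hd, d, hd, rfl⟩
    · rintro ⟨hd, d', hd', hk⟩
      exact memO.2 ((memO.1 hd').trans (B.rel_of_kind (hsing h hd') hd hk))
  have hsum : ∀ d₀, Sing2 d₀ → (O d₀).card = ∑ j ∈ Kd d₀, ksize j := by
    intro d₀ h
    conv_lhs => rw [hOeq d₀ h]
    rw [Finset.card_eq_sum_card_fiberwise (f := kind) (t := Kd d₀) (fun d hd => (Finset.mem_filter.1 hd).2.2)]
    refine Finset.sum_congr rfl fun j hj => ?_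
    rw [← card_kind j, Finset.filter_filter]
    congr 1
    ext d
    simp only [Finset.mem_filter, Finset.mem_univ, true_and]
    exact ⟨fun ⟨⟨a, _⟩, c⟩ => ⟨a, c⟩, fun ⟨a, c⟩ => ⟨⟨a, c ▸ hj⟩, c⟩⟩
  have hpart : ∀ d₀, Sing2 d₀ → (∃ j ∈ ({2, 3, 4} : Finset (Fin 5)), Kd d₀ = {0, j}) ∨
      ∃ j ∈ ({2, 3, 4} : Finset (Fin 5)), Kd d₀ = ({1, 2, 3, 4} : Finset (Fin 5)).erase j := by
    intro d₀ h
    obtain ⟨h7, hdvd⟩ := B.card_orbit hseven hcard d₀ h (O d₀) fun d => memO
    rw [hsum d₀ h] at h7 hdvd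
    refine kind_sets _ ⟨kind d₀, Finset.mem_image_of_mem _ (memO.2 (Rel.refl _))⟩ h7 fun e9 => ?_
    rw [e9] at hdvd
    norm_num at hdvd
  let dA : Co := ![some 0, some 0, none, none, none, none]
  have hA : Sing2 dA := by decide
  have hA0 : (0 : Fin 5) ∈ Kd dA :=
    Finset.mem_image.2 ⟨dA, memO.2 (Rel.refl _), by decide⟩
  obtain ⟨j, hj, hKA⟩ : ∃ j ∈ ({2, 3, 4} : Finset (Fin 5)), Kd dA = {0, j} := by
    rcases hpart dA hA with h | ⟨i, -, hi⟩
    · exact h
    · rw [hi] at hA0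
      simp at hA0
  refine ⟨j, hj, fun d d' hd hd' => ?_⟩
  have inA : ∀ d, Sing2 d → (kind d ∈ ({0, j} : Finset (Fin 5)) ↔ d ∈ O dA) := fun d hd => by
    rw [hOeq dA hA, Finset.mem_filter, ← hKA]; simp [hd]
  constructor
  · intro hr
    rw [inA d hd, inA d' hd', memO, memO]
    exact ⟨fun h => h.trans hr, fun h => h.trans hr.symm⟩
  · intro hiff
    by_cases h : kind d ∈ ({0, j} : Finset (Fin 5))
    · exact (memO.1 ((inA d hd).1 h)).symm.trans (memO.1 ((inA d' hd').1 (hiff.1 h)))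
    · have key : ∀ d, Sing2 d → kind d ∉ ({0, j} : Finset (Fin 5)) →
          Kd d = ({1, 2, 3, 4} : Finset (Fin 5)).erase j := by
        intro d hd hn
        have hdisj : ∀ i ∈ Kd d, i ∉ ({0, j} : Finset (Fin 5)) := by
          intro i hi hi'
          obtain ⟨d₁, hd₁, rfl⟩ := Finset.mem_image.1 hi
          exact hn ((inA d hd).2 (memO.2 ((memO.1 ((inA d₁ (hsing hd hd₁)).1 hi')).trans (memO.1 hd₁).symm)))
        rcases hpart d hd with ⟨i, hi, he⟩ | ⟨i, hi, he⟩
        · exact absurd (hdisj 0 (by rw [he]; simp)) (by simp)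
        · rw [he]
          have hj' : i = j := by
            by_contra hne
            exact hdisj j (by rw [he]; exact erase_mem i j hi hj hne) (by simp)
          rw [hj']
      have hk' : kind d' ∈ Kd d := by
        rw [key d hd h]
        exact out_mem j _ hj fun e' => h (hiff.2 e')
      obtain ⟨d₁, hd₁, hk⟩ := Finset.mem_image.1 hk'
      exact (memO.1 hd₁).trans (B.rel_of_kind (hsing hd hd₁) hd' hk)

end Basis

end

end Cfsg.Agent.FischerFrame18
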