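import Mathlib
import Cfsg.Agent.Lib.LargeExtraspecialPair
import Cfsg.Agent.Lib.FischerFrameSetting18
import Cfsg.Agent.Lib.FischerFrameOrbits18

/-!
Involutions of `Q` in a group of large Fischer type: the two classes under the centraliser, and the
conjugates of `z` among them.
-/

set_option autoImplicit false
set_option maxHeartbeats 1000000

namespace Cfsg.Agent.FischerFrame18

open Subgroup Cfsg.Agent.LargeExtraspecial Cfsg.Agent.LargeExtraspecialPair

/-- addition of coordinates -/
def addO : Option (ZMod 3) → Option (ZMod 3) → Option (ZMod 3)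
  | none, x => x
  | some s, none => some s
  | some s, some t => if s = t then none else some (-(s + t))

theorem addO_eq : ∀ x y : Option (ZMod 3), addO x y = none ↔ x = y := by decide

theorem addO_shift : ∀ (x : Option (ZMod 3)) (u : ZMod 3), u ≠ 0 →
    (addO x (x.map (· + u))).isSome = x.isSome := by decide

theorem isSome_addO_same : ∀ (x : Option (ZMod 3)), (addO x (x.map (· + (0 : ZMod 3)))).isSome = false := by
  decide

theorem card_two_sub : ∀ s : Finset (Fin 6), s.card % 2 = 0 → ∀ k l : Fin 6, k ∈ s → s ⊆ {k, l} →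
    l ∈ s := by decide +kernel

theorem exists_other : ∀ a b k : Fin 6, ∃ l l', l ≠ a ∧ l ≠ b ∧ l ≠ k ∧ l' ≠ a ∧ l' ≠ b ∧ l' ≠ k ∧ l' ≠ l := by
  decide +kernel

/-- the exponents moving only two indices, in opposite senses -/
def dlt (k l : Fin 6) : Fin 6 → ZMod 3 := fun i => if i = k then 1 else if i = l then 2 else 0

theorem dlt_sum : ∀ k l, k ≠ l → ∑ i, dlt k l i = 0 := by decide +kernel

namespace Basis

variable {X V : Type*} [Group X] [AddCommGroup V] {ρ : X →* AddMonoid.End V} {q : V → ZMod 2}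
  {F : Frame X} {k : Fin 4} {e : Fin 6 → V} (B : Basis ρ q F k e)
include B

theorem part_add (i : Fin 6) : ∀ x y : Option (ZMod 3), part (op ρ F.n) (e i) (addO x y) =
    part (op ρ F.n) (e i) x + part (op ρ F.n) (e i) y
  | none, y => by cases y <;> simp [addO, part]
  | some s, none => by simp [addO, part]
  | some s, some t => by
    by_cases hst : s = t
    · subst hst; simp [addO, part, B.hR.two]
    · rw [addO, if_neg hst, part, part, part]
      have h3 := B.fam.sum3 (t - s) (ow (op ρ F.n) s (e i))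
      rw [if_neg (sub_ne_zero.2 (Ne.symm hst)), ← B.fam.ow_add, ← B.fam.ow_add, sub_add_cancel,
        show 2 * (t - s) + s = -(s + t) by
          have h3 : (3 : ZMod 3) = 0 := rfl
          linear_combination t * h3] at h3
      exact ((eq_neg_of_add_eq_zero_left h3).trans (B.fam.neg_eq _)).symm

theorem pt_add (d d' : Co) : pt F ρ e d + pt F ρ e d' = pt F ρ e (fun i => addO (d i) (d' i)) := by
  simp only [pt, ← Finset.sum_add_distrib, B.part_add]

/-- A totally singular set of coordinates closed under addition and the elements fixing a vector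
supported on two planes. -/
theorem small_set {a b : Fin 6} (hab : a ≠ b) (T : Set Co)
    (hadd : ∀ d ∈ T, ∀ d' ∈ T, (fun i => addO (d i) (d' i)) ∈ T)
    (hmov : ∀ β : Fin 6 → ZMod 3, β a = 0 → β b = 0 → ∑ i, β i = 0 → ∀ d ∈ T, moved 1 β d ∈ T)
    (heven : ∀ d ∈ T, (supp d).card % 2 = 0) : Nat.card T ≤ 4 := by
  classical
  have key : ∀ d ∈ T, ∀ i, i ≠ a → i ≠ b → d i = none := by
    intro d hd i hia hib
    by_contra hne
    have mem : ∀ {d : Co} {j}, j ∈ supp d ↔ (d j).isSome := fun {d j} => by simp [supp]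
    have step : ∀ d ∈ T, ∀ l, l ≠ a → l ≠ b → l ≠ i → i ∈ supp d →
        ∃ d' ∈ T, i ∈ supp d' ∧ supp d' ⊆ {i, l} ∧ l ∈ supp d := by
      intro d hd l hla hlb hli hid
      have hm := hmov (dlt i l) (by simp [dlt, Ne.symm hia, Ne.symm hla])
        (by simp [dlt, Ne.symm hib, Ne.symm hlb]) (dlt_sum i l (Ne.symm hli)) d hd
      have h' := hadd _ hd _ hm
      refine ⟨_, h', mem.2 ?_, ?_, ?_⟩
      · show (addO (d i) ((d i).map (· + dlt i l i))).isSome
        rw [addO_shift _ _ (by simp [dlt]), ← mem]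
        exact hid
      · intro j hj
        rw [Finset.mem_insert, Finset.mem_singleton]
        by_contra! hj'
        have := mem.1 hj
        simp only [moved, show ∀ j : Fin 6, (1 : Equiv.Perm (Fin 6)).symm j = j from fun j => rfl, dlt,
          if_neg hj'.1, if_neg hj'.2, isSome_addO_same] at this
        simp at this
      · have hcard := heven _ h'
        have hl : l ∈ supp fun j => addO (d j) (moved 1 (dlt i l) d j) := by
          refine card_two_sub _ hcard i l (mem.2 ?_) ?_
          · show (addO (d i) ((d i).map (· + dlt i l i))).isSome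
            rw [addO_shift _ _ (by simp [dlt]), ← mem]
            exact hid
          · intro j hj
            rw [Finset.mem_insert, Finset.mem_singleton]
            by_contra! hj'
            have := mem.1 hj
            simp only [moved, show ∀ j : Fin 6, (1 : Equiv.Perm (Fin 6)).symm j = j from fun j => rfl, dlt,
              if_neg hj'.1, if_neg hj'.2, isSome_addO_same] at this
            simp at this
        rw [mem] at hl ⊢
        simp only [moved, show (1 : Equiv.Perm (Fin 6)).symm l = l from rfl] at hl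
        cases hdl : d l with
        | none => rw [hdl] at hl; simp [addO] at hl
        | some t => rfl
    obtain ⟨l, l', hla, hlb, hli, hl'a, hl'b, hl'i, hll'⟩ := exists_other a b i
    obtain ⟨d', hd', hid', hsub, -⟩ := step d hd l hla hlb hli
      (mem.2 (Option.isSome_iff_ne_none.2 hne))
    obtain ⟨-, -, -, -, hl'⟩ := step d' hd' l' hl'a hl'b hl'i hid'
    have := hsub hl'
    simp [hl'i, hll'] at this
  let f : T → Option (ZMod 3) := fun d => d.1 a
  have hf : Function.Injective f := by
    rintro ⟨d, hd⟩ ⟨d', hd'⟩ h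
    apply Subtype.ext
    funext i
    by_cases hia : i = a
    · subst hia; exact h
    by_cases hib : i = b
    · subst hib
      have hs := heven _ (hadd d hd d' hd')
      rw [← addO_eq]
      by_contra hne
      have hsub : supp (fun j => addO (d j) (d' j)) = {i} := by
        ext j
        simp only [supp, Finset.mem_filter, Finset.mem_univ, true_and, Finset.mem_singleton,
          Option.isSome_iff_ne_none]
        constructor
        · intro hj
          by_contra hji
          apply hj
          rw [addO_eq]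
          by_cases hja : j = a
          · subst hja; exact h
          · rw [key d hd j hja hji, key d' hd' j hja hji]
        · rintro rfl; exact hne
      rw [hsub] at hs
      simp at hs
    · show d i = d' i
      rw [key d hd i hia hib, key d' hd' i hia hib]
  refine (Nat.card_le_card_of_injective f hf).trans ?_
  simp [Nat.card_eq_fintype_card, Fintype.card_option]

end Basis

universe u

section

variable {G : Type u} [Group G] [Finite G] {z : G} {Q : Subgroup (centralizer ({z} : Set G))} [Q.Normal]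
  {V : Type u} [AddCommGroup V] {zc : centralizer ({z} : Set G)}
  {π : centralizer ({z} : Set G) → V} {ρ : centralizer ({z} : Set G) ⧸ Q →* AddMonoid.End V}
  {q : V → ZMod 2} {F : Frame (centralizer ({z} : Set G) ⧸ Q)}

namespace Setting

variable (S : Setting z Q zc π ρ q F) {k : Fin 4} {e : Fin 6 → V} (B : Basis ρ q F k e)
include S

theorem zc_comm (h : centralizer ({z} : Set G)) : h * zc = zc * h :=
  Subtype.ext (by
    show (h : G) * zc = zc * h
    rw [S.zc_val]; exact mem_centralizer_singleton_iff.mp h.2)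

theorem pi_eq {x y : centralizer ({z} : Set G)} (hx : x ∈ Q) (hy : y ∈ Q) :
    π x = π y ↔ x = y ∨ x = zc * y := by
  have hxy : x * y⁻¹ ∈ Q := mul_mem hx (inv_mem hy)
  have e1 := S.link.add _ hxy _ hy
  rw [inv_mul_cancel_right] at e1
  constructor
  · intro h
    rcases (S.link.ker _ hxy).1 (by rwa [h, right_eq_add] at e1) with h' | h'
    · exact Or.inl (mul_inv_eq_one.1 h')
    · exact Or.inr (mul_inv_eq_iff_eq_mul.1 h')
  · rintro (rfl | rfl)
    · rfl
    · rw [S.link.add _ S.ext.mem _ hy, (S.link.ker zc S.ext.mem).2 (Or.inr rfl), zero_add]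

theorem pi_one : π 1 = 0 := (S.link.ker 1 (one_mem Q)).2 (Or.inl rfl)

theorem conj_of_rel {x y : centralizer ({z} : Set G)} (hx : x ∈ Q) (hy : y ∈ Q) (hy0 : π y ≠ 0)
    (h : Rel ρ (π x) (π y)) : ∃ c, c * x * c⁻¹ = y := by
  obtain ⟨g, hg⟩ := h
  obtain ⟨c, rfl⟩ := QuotientGroup.mk_surjective g
  have hc : c * x * c⁻¹ ∈ Q := Subgroup.Normal.conj_mem ‹Q.Normal› x hx c
  rcases (S.pi_eq hc hy).1 ((S.link.equiv c x hx).trans hg) with h | h
  · exact ⟨c, h⟩
  · obtain ⟨p, -, ep⟩ := S.ext.partner y hy (fun e1 => hy0 (by rw [e1, S.pi_one]))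
      (fun e1 => hy0 ((S.link.ker y hy).2 (Or.inr e1)))
    refine ⟨p * c, ?_⟩
    calc p * c * x * (p * c)⁻¹ = p * (c * x * c⁻¹) * p⁻¹ := by group
      _ = p * (zc * y) * p⁻¹ := by rw [h]
      _ = zc * (p * y * p⁻¹) := by rw [← mul_assoc p, S.zc_comm p]; simp only [mul_assoc]
      _ = y := by rw [ep, S.ext.z_mul_z_mul]

theorem rel_of_conj {x y c : centralizer ({z} : Set G)} (hx : x ∈ Q) (h : c * x * c⁻¹ = y) :
    Rel ρ (π x) (π y) :=
  ⟨(c : centralizer ({z} : Set G) ⧸ Q), by rw [← h]; exact (S.link.equiv c x hx).symm⟩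

omit S in
theorem coe_ne {x : centralizer ({z} : Set G)} (S : Setting z Q zc π ρ q F) : (x : G) ≠ z ↔ x ≠ zc :=
  ⟨fun h e => h (by rw [e, S.zc_val]), fun h e => h (Subtype.ext (e.trans S.zc_val.symm))⟩

include B

theorem exists_lift (d : Co) (hd : Sing2 d) : ∃ x ∈ Q, π x = pt F ρ e d ∧ orderOf x = 2 ∧ (x : G) ≠ z := by
  obtain ⟨h0, hq⟩ := (B.sing_iff d).2 hd
  obtain ⟨x, hx, hxe⟩ := S.link.surj (pt F ρ e d)
  refine ⟨x, hx, hxe, orderOf_eq_prime ?_ (fun e1 => h0 (by rw [← hxe, e1, S.pi_one])),
    (coe_ne S).2 fun e1 => h0 (by rw [← hxe, (S.link.ker x hx).2 (Or.inr e1)])⟩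
  rw [← hxe, S.link.qval x hx] at hq
  by_contra hne
  rw [← pow_two, if_neg hne] at hq
  exact one_ne_zero hq

theorem exists_co {x : centralizer ({z} : Set G)} (hx : x ∈ Q) (h2 : x * x = 1) (h1 : x ≠ 1)
    (hz : (x : G) ≠ z) : ∃ d, Sing2 d ∧ pt F ρ e d = π x := by
  obtain ⟨d, hd⟩ := B.pt_bijective.2 (π x)
  refine ⟨d, (B.sing_iff d).1 ⟨fun h0 => ?_, ?_⟩, hd⟩
  · rcases (S.link.ker x hx).1 (hd ▸ h0) with h | h
    · exact h1 h
    · exact (coe_ne S).1 hz h
  · rw [hd, S.link.qval x hx, if_pos h2]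

omit B in
theorem card_two_part {K : Subgroup (centralizer ({z} : Set G) ⧸ Q)} {n : ℕ} (h : Nat.card K = 2 ^ n) :
    Nat.card K ≤ 256 := by
  have hd := Subgroup.card_subgroup_dvd_card K
  rw [h, S.card] at hd
  rw [h]
  by_contra hlt
  have h9 : 9 ≤ n := by
    by_contra h9
    exact hlt ((Nat.pow_le_pow_right (by norm_num : 0 < 2) (show n ≤ 8 by omega)).trans le_rfl)
  have := (Nat.pow_dvd_pow 2 h9).trans hd
  norm_num at this

omit B in
theorem lhyp : LHyp (Q.map (centralizer ({z} : Set G)).subtype) z := by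
  refine ⟨?_, ?_, ?_, ?_⟩
  · have := LargeExtraspecialSetting.ext_map (centralizer ({z} : Set G)).subtype
      (centralizer ({z} : Set G)).subtype_injective S.ext
    rwa [Subgroup.coe_subtype, S.zc_val] at this
  · intro g hg
    have hzmem : z ∈ Q.map (centralizer ({z} : Set G)).subtype := ⟨zc, S.ext.mem, S.zc_val⟩
    let c : centralizer ({z} : Set G) := ⟨g, mem_centralizer_singleton_iff.mpr (hg z hzmem)⟩
    have hc : ∀ x ∈ Q, c * x = x * c := fun x hx => Subtype.ext (hg x ⟨x, hx, rfl⟩)
    have h1 : (c : centralizer ({z} : Set G) ⧸ Q) = 1 := S.orth.faith _ fun v => by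
      obtain ⟨x, hx, rfl⟩ := S.link.surj v
      rw [← S.link.equiv c x hx, hc x hx, mul_inv_cancel_right]
    rcases S.ext.central ((QuotientGroup.eq_one_iff c).1 h1) (fun y hy => (hc y hy).symm) with h | h
    · exact Or.inl (congrArg Subtype.val h)
    · exact Or.inr ((congrArg Subtype.val h).trans S.zc_val)
  · rintro g hg _ ⟨x, hx, rfl⟩
    exact ⟨_, Subgroup.Normal.conj_mem ‹Q.Normal› x hx ⟨g, mem_centralizer_singleton_iff.mpr hg⟩, rfl⟩
  · haveI : Finite V := Nat.finite_of_card_ne_zero (by rw [S.orth.card]; norm_num)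
    obtain ⟨v, hv⟩ := (Finite.one_lt_card_iff_nontrivial.1 (show 1 < Nat.card V by
      rw [S.orth.card]; norm_num)).exists_pair_ne
    obtain ⟨w, hw⟩ := hv
    obtain ⟨u, hu⟩ : ∃ u : V, u ≠ 0 := by
      by_cases hv0 : v = 0
      · exact ⟨w, fun h => hw (hv0.trans h.symm)⟩
      · exact ⟨v, hv0⟩
    obtain ⟨x, hx, rfl⟩ := S.link.surj u
    refine ⟨x, ⟨x, hx, rfl⟩, fun h => hu ?_, fun h => hu ?_⟩
    · rw [show x = 1 from Subtype.ext h, S.pi_one]
    · exact (S.link.ker x hx).2 (Or.inr (Subtype.ext (h.trans S.zc_val.symm)))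

omit B in
theorem card_Q : Nat.card Q = 8192 := by
  haveI : Finite V := Nat.finite_of_card_ne_zero (by rw [S.orth.card]; norm_num)
  let f : Q →* Multiplicative V :=
    { toFun := fun x => Multiplicative.ofAdd (π x)
      map_one' := by simp [S.pi_one]
      map_mul' := fun x y => by rw [Subgroup.coe_mul, S.link.add x x.2 y y.2]; rfl }
  have hs : Function.Surjective f := fun v => by
    obtain ⟨x, hx, hxe⟩ := S.link.surj v.toAdd
    exact ⟨⟨x, hx⟩, by show Multiplicative.ofAdd (π x) = v; rw [hxe]; rfl⟩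
  have hk : f.ker = zpowers (⟨zc, S.ext.mem⟩ : Q) := by
    ext x
    rw [MonoidHom.mem_ker]
    constructor
    · intro h
      rcases (S.link.ker x x.2).1 (congrArg Multiplicative.toAdd h) with h | h
      · rw [show x = 1 from Subtype.ext h]; exact one_mem _
      · rw [show x = ⟨zc, S.ext.mem⟩ from Subtype.ext h]; exact mem_zpowers _
    · intro h
      obtain ⟨i, rfl⟩ := h
      show f _ = 1
      rw [map_zpow, show f ⟨zc, S.ext.mem⟩ = 1 from congrArg Multiplicative.ofAdd
        ((S.link.ker zc S.ext.mem).2 (Or.inr rfl)), one_zpow]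
  have h1 := f.ker.card_mul_index
  rw [Subgroup.index_ker, MonoidHom.range_eq_top.2 hs, Subgroup.card_top, hk, Nat.card_zpowers,
    Nat.card_congr Multiplicative.toAdd, S.orth.card] at h1
  rw [← h1, ← Subgroup.orderOf_coe, S.ext.orderOf_z]

omit B in
theorem pair {g : G} {y : centralizer ({z} : Set G)} (hy : y ∈ Q) (hy0 : π y ≠ 0)
    (hg : g * z * g⁻¹ = (y : G)) :
    Pair (Q.map (centralizer ({z} : Set G)).subtype)
      ((Q.map (centralizer ({z} : Set G)).subtype).map (MulAut.conj g).toMonoidHom) z (g * z * g⁻¹) := by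
  refine pair_of_conj S.lhyp ?_ ?_ ?_
  · rw [hg]; exact ⟨y, hy, rfl⟩
  · rw [hg]
    exact (coe_ne S).2 fun h => hy0 ((S.link.ker y hy).2 (Or.inr h))
  · rw [Subgroup.card_map_of_injective (Subgroup.subtype_injective _), S.card_Q]
    norm_num

omit B in
/-- the conjugate extraspecial group meets the centraliser in a subgroup of index two -/
theorem card_C' {g : G} {y : centralizer ({z} : Set G)} (hy : y ∈ Q) (hy0 : π y ≠ 0)
    (hg : g * z * g⁻¹ = (y : G)) : Nat.card (S.pair hy hy0 hg).C' = 4096 := by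
  set P := S.pair hy hy0 hg
  have hQ' : Nat.card ↥((Q.map (centralizer ({z} : Set G)).subtype).map (MulAut.conj g).toMonoidHom) = 8192 := by
    rw [Subgroup.card_map_of_injective (MulAut.conj g).injective,
      Subgroup.card_map_of_injective (Subgroup.subtype_injective _), S.card_Q]
  set Q' := (Q.map (centralizer ({z} : Set G)).subtype).map (MulAut.conj g).toMonoidHom
  obtain ⟨-, q', hq', eq'⟩ := P.exists_q
  have h2 : Nat.card (Q' : Set G) ≤ 2 * Nat.card P.C' := by
    let f : P.C' × Bool → G := fun x => bif x.2 then q'⁻¹ * x.1 else x.1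
    have hsub : (Q' : Set G) ⊆ Set.range f := by
      intro x hx
      rcases P.C'_index hq' eq' hx with h | h
      · exact ⟨(⟨x, h⟩, false), rfl⟩
      · exact ⟨(⟨_, h⟩, true), by show q'⁻¹ * (q' * x) = x; group⟩
    rw [Nat.card_coe_set_eq]
    refine (Set.ncard_le_ncard hsub (Set.toFinite _)).trans ?_
    rw [← Nat.card_coe_set_eq]
    refine (Finite.card_range_le f).trans (le_of_eq ?_)
    rw [Nat.card_prod, Nat.card_eq_fintype_card (α := Bool), Fintype.card_bool, mul_comm]
  rw [SetLike.coe_sort_coe, hQ'] at h2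
  have hle : P.C' ≤ Q' := inf_le_left
  have hne : P.C' ≠ Q' := fun h => by
    have hq'C : q' ∈ P.C' := by rw [h]; exact hq'
    rw [mul_inv_eq_iff_eq_mul.2 (P.mem_C'.1 hq'C).2] at eq'
    exact P.h'.ne_one (left_eq_mul.1 eq')
  have hd := Subgroup.card_dvd_of_le hle
  rw [hQ', show 8192 = 2 ^ 13 by norm_num] at hd
  obtain ⟨m, hm, hmc⟩ := (Nat.dvd_prime_pow Nat.prime_two).1 hd
  have hm' : m ≠ 13 := fun h => hne (Subgroup.eq_of_le_of_card_ge hle (by rw [hQ', hmc, h]; norm_num))
  rw [hmc] at h2 ⊢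
  interval_cases m <;> simp_all

end Setting

/-- the intersection with the conjugate group, inside the centraliser -/
def interH (z g : G) (Q : Subgroup (centralizer ({z} : Set G))) : Subgroup (centralizer ({z} : Set G)) :=
  Q ⊓ ((Q.map (centralizer ({z} : Set G)).subtype).map (MulAut.conj g).toMonoidHom).subgroupOf
    (centralizer ({z} : Set G))

/-- the image of the conjugate group in the quotient -/
def imgE (z g : G) (Q : Subgroup (centralizer ({z} : Set G))) [Q.Normal] :
    Subgroup (centralizer ({z} : Set G) ⧸ Q) :=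
  ((((Q.map (centralizer ({z} : Set G)).subtype)).map (MulAut.conj g).toMonoidHom ⊓
    centralizer ({z} : Set G)).subgroupOf (centralizer ({z} : Set G))).map (QuotientGroup.mk' Q)

namespace Setting

variable (S : Setting z Q zc π ρ q F)
include S

theorem count_C' {g : G} {y : centralizer ({z} : Set G)} (hy : y ∈ Q) (hy0 : π y ≠ 0)
    (hg : g * z * g⁻¹ = (y : G)) : Nat.card (interH z g Q) * Nat.card (imgE z g Q) = 4096 := by
  set A := ((Q.map (centralizer ({z} : Set G)).subtype).map (MulAut.conj g).toMonoidHom ⊓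
    centralizer ({z} : Set G)).subgroupOf (centralizer ({z} : Set G)) with hA
  have hAc : Nat.card A = 4096 :=
    (Nat.card_congr (Subgroup.subgroupOfEquivOfLe inf_le_right).toEquiv).trans (S.card_C' hy hy0 hg)
  let f : A →* centralizer ({z} : Set G) ⧸ Q := (QuotientGroup.mk' Q).comp A.subtype
  have h1 := f.ker.card_mul_index
  rw [Subgroup.index_ker, hAc] at h1
  have hr : f.range = imgE z g Q := by
    rw [MonoidHom.range_comp, Subgroup.range_subtype]; rfl
  have hk : Nat.card f.ker = Nat.card (interH z g Q) := by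
    refine Nat.card_congr
      { toFun := fun x => ⟨(x : A), (QuotientGroup.eq_one_iff _).1 x.2, ((x : A).2 : _ ∧ _).1⟩
        invFun := fun x => ⟨⟨x, ⟨x.2.2, (x : centralizer ({z} : Set G)).2⟩⟩,
          (QuotientGroup.eq_one_iff _).2 x.2.1⟩
        left_inv := fun _ => rfl
        right_inv := fun _ => rfl }
  rwa [hr, hk] at h1

theorem imgE_two {g : G} {y : centralizer ({z} : Set G)} (hy : y ∈ Q) (hy0 : π y ≠ 0)
    (hg : g * z * g⁻¹ = (y : G)) : ∃ m, Nat.card (imgE z g Q) = 2 ^ m := by
  have h : Nat.card (imgE z g Q) ∣ 2 ^ 12 := ⟨Nat.card (interH z g Q), by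
    rw [mul_comm, S.count_C' hy hy0 hg]; norm_num⟩
  obtain ⟨m, -, hm⟩ := (Nat.dvd_prime_pow Nat.prime_two).1 h
  exact ⟨m, hm⟩

theorem inter_sq {g : G} {y : centralizer ({z} : Set G)} (hy : y ∈ Q) (hy0 : π y ≠ 0)
    (hg : g * z * g⁻¹ = (y : G)) {x : centralizer ({z} : Set G)} (hx : x ∈ interH z g Q) : x * x = 1 :=
  Subtype.ext ((S.pair hy hy0 hg).E_sq ⟨⟨x, hx.1, rfl⟩, hx.2⟩)

theorem inter_conj {g : G} {y : centralizer ({z} : Set G)} (hy : y ∈ Q) (hy0 : π y ≠ 0)
    (hg : g * z * g⁻¹ = (y : G)) {c x : centralizer ({z} : Set G)} (hc : c * y * c⁻¹ = y)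
    (hx : x ∈ interH z g Q) : c * x * c⁻¹ ∈ interH z g Q := by
  refine ⟨Subgroup.Normal.conj_mem ‹Q.Normal› x hx.1 c, ?_⟩
  show ((c * x * c⁻¹ : centralizer ({z} : Set G)) : G) ∈
    (Q.map (centralizer ({z} : Set G)).subtype).map (MulAut.conj g).toMonoidHom
  refine (S.pair hy hy0 hg).h'.norm (c : G) ?_ x hx.2
  rw [hg]
  exact congrArg Subtype.val (mul_inv_eq_iff_eq_mul.1 hc)

theorem not_conj_pair {k : Fin 4} {e : Fin 6 → V} (B : Basis ρ q F k e) {d : Co}
    (hd : (supp d).card = 2) {y : centralizer ({z} : Set G)} (hy : y ∈ Q)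
    (hyd : π y = pt F ρ e d) : ¬ IsConj z (y : G) := by
  intro hconj
  obtain ⟨g, hg⟩ := isConj_iff.1 hconj
  have hy0 : π y ≠ 0 := by
    rw [hyd]; exact ((B.sing_iff d).2 (Or.inl hd)).1
  obtain ⟨a, b, hab, hs⟩ := Finset.card_eq_two.1 hd
  let T : Set Co := {d' | ∃ x ∈ interH z g Q, π x = pt F ρ e d'}
  have hT : Nat.card T ≤ 4 := by
    refine B.small_set hab T ?_ ?_ ?_
    · rintro d₁ ⟨x₁, h1, e1⟩ d₂ ⟨x₂, h2, e2⟩
      exact ⟨x₁ * x₂, mul_mem h1 h2, by rw [S.link.add _ h1.1 _ h2.1, e1, e2, B.pt_add]⟩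
    · intro β ha hb hsum d' ⟨x, hx, hxe⟩
      set gg := prodA F.a (solveY k β) * F.n ^ (β 0).val
      have hmov : ∀ d'', op ρ gg (pt F ρ e d'') = pt F ρ e (moved 1 β d'') := fun d'' => by
        rw [B.mono_pt (B.mono_line _ _), solve_spec k β hsum]
      obtain ⟨c, hc⟩ := QuotientGroup.mk_surjective gg
      have hfix : moved 1 β d = d := by
        funext i
        simp only [moved, show (1 : Equiv.Perm (Fin 6)).symm i = i from rfl]
        by_cases hi : i ∈ supp d
        · rw [hs, Finset.mem_insert, Finset.mem_singleton] at hi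
          rcases hi with rfl | rfl
          · rw [ha]; cases d i <;> simp
          · rw [hb]; cases d i <;> simp
        · have : d i = none := by simpa [supp] using hi
          rw [this]; rfl
      have hcy : c * y * c⁻¹ ∈ Q := Subgroup.Normal.conj_mem ‹Q.Normal› y hy c
      have hce : π (c * y * c⁻¹) = π y := by
        rw [S.link.equiv c y hy, hyd, hc]
        exact (hmov d).trans (congrArg _ hfix)
      obtain ⟨c', hc'y, hc'⟩ : ∃ c', c' * y * c'⁻¹ = y ∧
          (c' : centralizer ({z} : Set G) ⧸ Q) = gg := by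
        rcases (S.pi_eq hcy hy).1 hce with h | h
        · exact ⟨c, h, hc⟩
        · obtain ⟨p, hp, ep⟩ := S.ext.partner y hy (fun e1 => hy0 (by rw [e1, S.pi_one]))
            (fun e1 => hy0 ((S.link.ker y hy).2 (Or.inr e1)))
          refine ⟨p * c, ?_, ?_⟩
          · calc p * c * y * (p * c)⁻¹ = p * (c * y * c⁻¹) * p⁻¹ := by group
              _ = p * (zc * y) * p⁻¹ := by rw [h]
              _ = zc * (p * y * p⁻¹) := by rw [← mul_assoc p, S.zc_comm p]; simp only [mul_assoc]
              _ = y := by rw [ep, S.ext.z_mul_z_mul]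
          · rw [QuotientGroup.mk_mul, (QuotientGroup.eq_one_iff p).2 hp, one_mul, hc]
      exact ⟨_, S.inter_conj hy hy0 hg hc'y hx, by
        rw [S.link.equiv c' x hx.1, hxe, hc']; exact hmov d'⟩
    · intro d' ⟨x, hx, hxe⟩
      have h1 := B.q_pt d'
      rw [← hxe, S.link.qval x hx.1, if_pos (S.inter_sq hy hy0 hg hx)] at h1
      exact Nat.mod_eq_zero_of_dvd ((ZMod.natCast_eq_zero_iff _ 2).1 h1.symm)
  have hI : Nat.card (interH z g Q) ≤ 8 := by
    classical
    choose co hco using fun v => B.pt_bijective.2 v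
    choose rep hrep hrepπ using S.link.surj
    let f : interH z g Q → T × Bool := fun x =>
      (⟨co (π (x : centralizer ({z} : Set G))), x, x.2, (hco _).symm⟩,
        decide ((x : centralizer ({z} : Set G)) = rep (π (x : centralizer ({z} : Set G)))))
    have hf : Function.Injective f := by
      intro x x' h
      simp only [f, Prod.mk.injEq, Subtype.mk.injEq, decide_eq_decide] at h
      have hπ : π (x : centralizer ({z} : Set G)) = π (x' : centralizer ({z} : Set G)) := by
        rw [← hco (π (x : centralizer ({z} : Set G))), h.1, hco]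
      apply Subtype.ext
      rcases (S.pi_eq x.2.1 x'.2.1).1 hπ with h' | h'
      · exact h'
      · exfalso
        have h2 := h.2
        rw [← hπ] at h2
        rcases (S.pi_eq (hrep (π (x : centralizer ({z} : Set G)))) x.2.1).1 (hrepπ _) with e1 | e1
        · exact S.ext.z_mul_ne (x' : centralizer ({z} : Set G))
            (h'.symm.trans ((h2.1 e1.symm).trans e1).symm)
        · have h'' : (x' : centralizer ({z} : Set G)) = rep (π (x : centralizer ({z} : Set G))) := by
            rw [e1, h', S.ext.z_mul_z_mul]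
          exact S.ext.z_mul_ne (x' : centralizer ({z} : Set G)) (h'.symm.trans ((h2.2 h'').trans h''.symm))
    have := Nat.card_le_card_of_injective f hf
    rw [Nat.card_prod, Nat.card_eq_fintype_card (α := Bool), Fintype.card_bool] at this
    omega
  obtain ⟨m, hm⟩ := S.imgE_two hy hy0 hg
  have hE := S.card_two_part hm
  have hc := S.count_C' hy hy0 hg
  have := Nat.mul_le_mul hI hE
  omega

/-- The two classes, and only one of them can contain conjugates of `z`. -/
theorem classes {k : Fin 4} {e : Fin 6 → V} (B : Basis ρ q F k e) :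
    ∃ j ∈ ({2, 3, 4} : Finset (Fin 5)), (∀ d d' : Co, Sing2 d → Sing2 d' →
      (Rel ρ (pt F ρ e d) (pt F ρ e d') ↔
        (kind d ∈ ({0, j} : Finset (Fin 5)) ↔ kind d' ∈ ({0, j} : Finset (Fin 5))))) ∧
      ∀ x ∈ Q, ∀ d, Sing2 d → π x = pt F ρ e d → IsConj z (x : G) → kind d ∉ ({0, j} : Finset (Fin 5)) := by
  obtain ⟨j, hj, hrel⟩ := B.two_orbits S.seven S.card
  refine ⟨j, hj, hrel, fun x hx d hd hxd hconj hk => ?_⟩
  let dA : Co := ![some 0, some 0, none, none, none, none]
  have hA : Sing2 dA := by decide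
  have hA0 : kind dA ∈ ({0, j} : Finset (Fin 5)) := by simp [show kind dA = 0 by decide]
  obtain ⟨y, hy, hye, -, -⟩ := S.exists_lift B dA hA
  have hy0 : π y ≠ 0 := by rw [hye]; exact ((B.sing_iff dA).2 hA).1
  obtain ⟨c, hc⟩ := S.conj_of_rel hx hy hy0 (by
    rw [hxd, hye]; exact (hrel d dA hd hA).2 (iff_of_true hk hA0))
  refine S.not_conj_pair B (by decide) hy hye (hconj.trans (isConj_iff.2 ⟨c, ?_⟩))
  exact congrArg Subtype.val hc

end Setting

end

end Cfsg.Agent.FischerFrame18
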