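import Mathlib
import Cfsg.Agent.Lib.LFOrbitA89
import Cfsg.Agent.S5440
import Cfsg.Agent.S5441
import Cfsg.Agent.S5444
import Cfsg.Agent.S5306

/-!
The normaliser of the Thompson subgroup of a Sylow 2-subgroup of a group of large Fischer type: the
subgroup is elementary abelian of order `2 ^ 11`, the normaliser controls fusion in it, has `1771`
conjugates of the involution in it and is transitive on the others.
-/

set_option autoImplicit false
set_option linter.unusedSectionVars false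
set_option linter.style.haveILetI false
set_option maxHeartbeats 800000

namespace Cfsg.Agent.LFFusion89

open Subgroup Cfsg.Agent.U62Mon93 Cfsg.Agent.U62Existence93 Cfsg.Agent.LFForm89
  Cfsg.Agent.LFModel89 Cfsg.Agent.LFSylow89 Cfsg.Agent.LFBound89 Cfsg.Agent.LFSetting89
  Cfsg.Agent.LFElem89 Cfsg.Agent.LFOrbitA89

universe u

attribute [local instance] Classical.propDecidable

/-! ### Conjugation by one element on a set -/

theorem card_modEq_fixed {G : Type*} [Group G] [Finite G] {p : ℕ} [Fact p.Prime] {m : G}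
    (hm : orderOf m = p) {S : Set G} (hS : ∀ x ∈ S, m * x * m⁻¹ ∈ S) :
    S.ncard ≡ {x | x ∈ S ∧ m * x * m⁻¹ = x}.ncard [MOD p] := by
  classical
  haveI : Fintype S := Fintype.ofFinite _
  let f : Function.End S := fun x => ⟨m * x * m⁻¹, hS x x.2⟩
  have hpow : ∀ k : ℕ, ∀ x : S, (((f ^ k : Function.End S) x : S) : G) = m ^ k * x * (m ^ k)⁻¹ := by
    intro k
    induction k with
    | zero => intro x; simp [Function.End.one_def]
    | succ k ih =>
      intro x
      rw [pow_succ' f k, pow_succ' m k]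
      show m * ((f ^ k : Function.End S) x : G) * m⁻¹ = _
      rw [ih]; group
  have h1 : f ^ p ^ 1 = 1 := by
    funext x
    refine Subtype.ext ?_
    rw [hpow, pow_one, ← hm, pow_orderOf_eq_one]
    simp [Function.End.one_def]
  have h := Equiv.Perm.card_fixedPoints_modEq h1
  rw [← Nat.card_eq_fintype_card, Nat.card_coe_set_eq] at h
  refine h.trans ?_
  refine (fun e => (e : _ = _) ▸ Nat.ModEq.refl _ :
    Fintype.card (Function.fixedPoints f) = {x | x ∈ S ∧ m * x * m⁻¹ = x}.ncard →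
      Fintype.card (Function.fixedPoints f) ≡ {x | x ∈ S ∧ m * x * m⁻¹ = x}.ncard [MOD p]) ?_
  rw [← Nat.card_eq_fintype_card, ← Nat.card_coe_set_eq]
  refine Nat.card_congr
    { toFun := fun x => ⟨x.1.1, x.1.2, congrArg Subtype.val x.2⟩
      invFun := fun x => ⟨⟨x.1, x.2.1⟩, Subtype.ext x.2.2⟩
      left_inv := fun x => rfl
      right_inv := fun x => rfl }

theorem orbit_dvd {G : Type*} [Group G] [Finite G] (M : Subgroup G) (x : G) :
    {b | ∃ m ∈ M, m * x * m⁻¹ = b}.ncard ∣ Nat.card M := by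
  letI : MulAction M G := MulAction.compHom G ((MulAut.conj (G := G)).comp M.subtype)
  have e : {b | ∃ m ∈ M, m * x * m⁻¹ = b} = MulAction.orbit M x := by
    ext b
    exact ⟨fun ⟨m, hm, e⟩ => ⟨⟨m, hm⟩, e⟩, fun ⟨⟨m, hm⟩, e⟩ => ⟨m, hm, e⟩⟩
  rw [e, ← MulAction.index_stabilizer]
  exact Subgroup.index_dvd_card _

/-! ### Sylow subgroups and the Thompson subgroup -/

variable {G : Type u} [Group G] [Finite G] {z : G} {Q : Subgroup (centralizer ({z} : Set G))} [Q.Normal]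
variable {V : Type u} [AddCommGroup V] {zc : centralizer ({z} : Set G)}
  {π : centralizer ({z} : Set G) → V} {ρ : centralizer ({z} : Set G) ⧸ Q →* AddMonoid.End V}
  {q : V → ZMod 2} {n : centralizer ({z} : Set G) ⧸ Q}
  {Mb : Subgroup (centralizer ({z} : Set G) ⧸ Q)}
variable (D : Data z Q zc π ρ q n Mb)
variable {F : Type} [Field F] [Fintype F] {s : F} {h : S4 s} {ν : (Fin 6 → F) → V}
  {Φ : K0 h →* centralizer ({z} : Set G) ⧸ Q} (C : Coord h ρ q n Mb ν Φ)

/-- The subgroup inside the group. -/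
def AG (D : Data z Q zc π ρ q n Mb) (C : Coord h ρ q n Mb ν Φ) : Subgroup G :=
  (AA D C).map (centralizer ({z} : Set G)).subtype

section Thompson

include D C

theorem card_H : Nat.card (centralizer ({z} : Set G)) = 2 ^ 13 * 19595520 := by
  rw [Subgroup.card_eq_card_quotient_mul_card_subgroup Q, D.card, D.card_Q, mul_comm]

theorem AG_facts : EA (AG D C) ∧ Nat.card (AG D C) = 2 ^ 11 ∧ z ∈ AG D C := by
  obtain ⟨hea, hcard, -, -⟩ := AA_facts D C
  refine ⟨ea_of_sq ?_, ?_, ⟨zc, zc_mem D C, D.zc_val⟩⟩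
  · rintro _ ⟨x, hx, rfl⟩
    rw [← map_mul, hea.1 x hx, map_one]
  · rw [AG, Subgroup.card_map_of_injective (Subgroup.subtype_injective _), hcard]

variable (hF : Cfsg.IsOfLargeFischerTypeAt z Q)
include hF

/-- A Sylow subgroup of the whole group inside the centralizer with the subgroup as Thompson subgroup. -/
theorem exists_sylow : ∃ S : Sylow 2 G, (S : Subgroup G) ≤ centralizer ({z} : Set G) ∧
    Cfsg.thompsonSubgroupOf 2 (S : Subgroup G) = AG D C ∧
    ∀ B : Subgroup G, B ≤ (S : Subgroup G) → EA B → 2 ^ 11 ≤ Nat.card B → B = AG D C := by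
  haveI : Fact (Nat.Prime 2) := ⟨Nat.prime_two⟩
  obtain ⟨hea, hcard, -, -⟩ := AA_facts D C
  obtain ⟨P, hP⟩ := hea.pGroup.exists_le_sylow
  have hQ2 : IsPGroup 2 Q := IsPGroup.of_card (n := 13) D.card_Q
  have hQP : Q ≤ (P : Subgroup (centralizer ({z} : Set G))) :=
    (P.is_maximal' (P.isPGroup'.to_sup_of_normal_right hQ2) le_sup_left).le.trans' le_sup_right
  set PG := (P : Subgroup (centralizer ({z} : Set G))).map (centralizer ({z} : Set G)).subtype with hPG
  have hPGH : PG ≤ centralizer ({z} : Set G) := Subgroup.map_subtype_le _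
  obtain ⟨S, hS⟩ := (P.isPGroup'.map (centralizer ({z} : Set G)).subtype).exists_le_sylow
  have hcap : (S : Subgroup G) ⊓ centralizer ({z} : Set G) = PG := by
    refine le_antisymm ?_ (le_inf hS hPGH)
    have h1 : IsPGroup 2 (((S : Subgroup G)).subgroupOf (centralizer ({z} : Set G))) :=
      S.isPGroup'.comap_subtype
    have h2 := P.is_maximal' h1 fun x hx => hS ⟨x, hx, rfl⟩
    rintro x ⟨hx1, hx2⟩
    exact ⟨⟨x, hx2⟩, h2.le (show (⟨x, hx2⟩ : centralizer ({z} : Set G)) ∈ _ from hx1), rfl⟩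
  have hSPG : (S : Subgroup G) = PG := by
    by_contra hne
    have hlt : PG < (S : Subgroup G) := lt_of_le_of_ne hS (Ne.symm hne)
    haveI : Group.IsNilpotent S := S.isPGroup'.isNilpotent
    have hlt' : PG.subgroupOf S < ⊤ := by
      refine lt_of_le_of_ne le_top fun e => ?_
      rw [Subgroup.subgroupOf_eq_top] at e
      exact absurd e (not_le_of_gt hlt)
    obtain ⟨g, hgn, hgP⟩ := SetLike.exists_of_lt (Group.normalizerCondition_of_isNilpotent _ hlt')
    have hconj : ∀ x ∈ PG, (g : G) * x * (g : G)⁻¹ ∈ PG := fun x hx =>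
      (Subgroup.mem_normalizer_iff.1 hgn ⟨x, hS hx⟩).1 hx
    -- the conjugate of `z` centralises `Q`
    have hzPG : z ∈ PG := ⟨zc, hQP D.ext.mem, D.zc_val⟩
    have hcent : ∀ x ∈ Q.map (centralizer ({z} : Set G)).subtype,
        (g : G) * z * (g : G)⁻¹ * x = x * ((g : G) * z * (g : G)⁻¹) := by
      rintro _ ⟨y, hy, rfl⟩
      have hm : (g : G)⁻¹ * y * g ∈ PG := by
        have hg' : g⁻¹ ∈ Subgroup.normalizer (PG.subgroupOf S : Set S) := inv_mem hgn
        have := (Subgroup.mem_normalizer_iff.1 hg' ⟨y, hS ⟨y, hQP hy, rfl⟩⟩).1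
          (show (⟨(y : G), _⟩ : S) ∈ PG.subgroupOf S from ⟨y, hQP hy, rfl⟩)
        rw [Subgroup.mem_subgroupOf] at this
        simpa using this
      have hc := Subgroup.mem_centralizer_singleton_iff.1 (hPGH hm)
      calc (g : G) * z * (g : G)⁻¹ * y = (g : G) * (z * ((g : G)⁻¹ * y * g)) * (g : G)⁻¹ := by group
        _ = (g : G) * ((g : G)⁻¹ * y * g * z) * (g : G)⁻¹ := by rw [hc]
        _ = _ := by simp [mul_assoc]
    have hgH : (g : G) ∈ centralizer ({z} : Set G) := by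
      refine Subgroup.mem_centralizer_singleton_iff.2 ?_
      rcases (lhyp D).cent _ hcent with e | e
      · exact absurd (conj_eq_one_iff.1 e) (lhyp D).ne_one
      · exact mul_inv_eq_iff_eq_mul.1 e
    exact hgP (show g ∈ PG.subgroupOf S from Subgroup.mem_subgroupOf.2 (hcap ▸ ⟨g.2, hgH⟩))
  have huniq : ∀ B : Subgroup G, B ≤ (S : Subgroup G) → EA B → 2 ^ 11 ≤ Nat.card B → B = AG D C := by
    intro B hB hBea hbig
    obtain ⟨A', hset, hA', -, -⟩ := Cfsg.Agent.S5444.result z Q hF P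
    let f : ↥(P : Subgroup (centralizer ({z} : Set G))) →* G :=
      (centralizer ({z} : Set G)).subtype.comp (P : Subgroup (centralizer ({z} : Set G))).subtype
    have hfinj : Function.Injective f := Subtype.val_injective.comp Subtype.val_injective
    have hrange : f.range = PG := by
      rw [hPG, MonoidHom.range_comp, Subgroup.range_subtype]
    have hmem : ∀ B : Subgroup G, B ≤ PG → EA B → 2 ^ 11 ≤ Nat.card B → B.comap f = A' := by
      intro B hB hBea hbig
      have hBm : (B.comap f).map f = B := Subgroup.map_comap_eq_self (hrange ▸ hB)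
      have hBc : Nat.card (B.comap f) = Nat.card B := by
        conv_rhs => rw [← hBm]
        rw [Subgroup.card_map_of_injective hfinj]
      have hA'max : A' ∈ Cfsg.maxElementaryAbelianSubgroups 2 _ := hset ▸ rfl
      have hBe : EA (B.comap f) := ea_of_sq fun x hx => hfinj (by
        rw [map_mul, hBea.1 _ hx, map_one])
      have : B.comap f ∈ Cfsg.maxElementaryAbelianSubgroups 2 _ :=
        ⟨(Cfsg.Agent.S5444.ea_iff _).2 hBe, fun B' hB' => (hA'max.2 B' hB').trans (by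
          rw [hA', hBc]; exact hbig)⟩
      rwa [hset, Set.mem_singleton_iff] at this
    have hAGP : AG D C ≤ PG := Subgroup.map_mono hP
    obtain ⟨hAea, hAc, -⟩ := AG_facts D C
    have e1 := hmem B (hSPG ▸ hB) hBea hbig
    rw [← hmem (AG D C) hAGP hAea hAc.ge] at e1
    rw [← Subgroup.map_comap_eq_self (show B ≤ f.range from hrange ▸ hSPG ▸ hB), e1,
      Subgroup.map_comap_eq_self (show AG D C ≤ f.range from hrange ▸ hAGP)]
  refine ⟨S, hSPG ▸ hPGH, ?_, huniq⟩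
  obtain ⟨hAea, hAc, -⟩ := AG_facts D C
  have hAS : AG D C ≤ (S : Subgroup G) := hSPG ▸ Subgroup.map_mono hP
  have hmax : Cfsg.maxElementaryAbelianSubgroups 2 ↥(S : Subgroup G) =
      {(AG D C).subgroupOf S} := by
    have hmap : ((AG D C).subgroupOf (S : Subgroup G)).map (S : Subgroup G).subtype = AG D C := by
      rw [Subgroup.subgroupOf_map_subtype, inf_eq_left.2 hAS]
    have hcmap : ∀ B : Subgroup (S : Subgroup G),
        Nat.card (B.map (S : Subgroup G).subtype) = Nat.card B := fun B =>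
      Subgroup.card_map_of_injective (S : Subgroup G).subtype_injective
    have hAe' := (Cfsg.Agent.S5444.ea_iff _).2
      ((Cfsg.Agent.S5444.ea_map _).1 (hmap.symm ▸ hAea))
    have key : ∀ B : Subgroup (S : Subgroup G), Cfsg.IsElementaryAbelian 2 B → 2 ^ 11 ≤ Nat.card B →
        B = (AG D C).subgroupOf S := fun B hB hbig => Subgroup.map_injective (S : Subgroup G).subtype_injective
      (hmap.symm ▸ huniq _ (Subgroup.map_subtype_le B)
        ((Cfsg.Agent.S5444.ea_map B).2 ((Cfsg.Agent.S5444.ea_iff B).1 hB)) (hcmap B ▸ hbig))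
    have hc : Nat.card ((AG D C).subgroupOf (S : Subgroup G)) = 2 ^ 11 := by
      rw [← hcmap, hmap, hAc]
    refine Set.ext fun B => ⟨fun hB => key B hB.1 (hc ▸ hB.2 _ hAe'), fun hB => ?_⟩
    rw [Set.mem_singleton_iff] at hB
    subst hB
    refine ⟨hAe', fun B hB => ?_⟩
    by_contra hlt
    push Not at hlt
    rw [key B hB (hc ▸ hlt.le)] at hlt
    exact lt_irrefl _ hlt
  rw [Cfsg.thompsonSubgroupOf, Cfsg.thompsonSubgroup, hmax, sSup_singleton,
    Subgroup.subgroupOf_map_subtype, inf_eq_left.2 hAS]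

/-- The Thompson subgroup of any Sylow subgroup is a conjugate of the subgroup. -/
theorem thompson_eq (T : Sylow 2 G) :
    ∃ g : G, Cfsg.thompsonSubgroupOf 2 (T : Subgroup G) = cj g (AG D C) := by
  haveI : Fact (Nat.Prime 2) := ⟨Nat.prime_two⟩
  obtain ⟨hAea, hAc, -⟩ := AG_facts D C
  obtain ⟨S, hSH, hSJ, huniq⟩ := exists_sylow D C hF
  have hAS : AG D C ≤ (S : Subgroup G) := by
    rw [← hSJ]; exact Subgroup.map_subtype_le _
  obtain ⟨g, hg⟩ := MulAction.exists_smul_eq G S T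
  refine ⟨g, ?_⟩
  have hTe : (T : Subgroup G) = cj g (S : Subgroup G) := by
    rw [← hg]; rfl
  have hAT : cj g (AG D C) ≤ (T : Subgroup G) := hTe ▸ Subgroup.map_mono hAS
  have hu : ∀ B : Subgroup G, B ≤ (T : Subgroup G) → EA B → 2 ^ 11 ≤ Nat.card B →
      B = cj g (AG D C) := by
    intro B hB hBea hbig
    have h1 : cj g⁻¹ B ≤ (S : Subgroup G) := by
      rintro _ ⟨x, hx, rfl⟩
      obtain ⟨y, hy, rfl⟩ := (hTe ▸ hB) hx
      show g⁻¹ * (g * y * g⁻¹) * g⁻¹⁻¹ ∈ (S : Subgroup G)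
      rwa [show g⁻¹ * (g * y * g⁻¹) * g⁻¹⁻¹ = y by group]
    rw [← huniq _ h1 (hBea.cj g⁻¹) (by rwa [card_cj]), cj, cj, Subgroup.map_map]
    refine (Subgroup.map_id B).symm.trans ?_
    congr 1
    refine MonoidHom.ext fun x => ?_
    simp [mul_assoc]
  have hcmap : ∀ B : Subgroup (T : Subgroup G),
      Nat.card (B.map (T : Subgroup G).subtype) = Nat.card B := fun B =>
    Subgroup.card_map_of_injective (T : Subgroup G).subtype_injective
  have hmap : ((cj g (AG D C)).subgroupOf (T : Subgroup G)).map (T : Subgroup G).subtype =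
      cj g (AG D C) := by
    rw [Subgroup.subgroupOf_map_subtype, inf_eq_left.2 hAT]
  have hAe' := (Cfsg.Agent.S5444.ea_iff _).2
    ((Cfsg.Agent.S5444.ea_map _).1 (hmap.symm ▸ hAea.cj g))
  have hc : Nat.card ((cj g (AG D C)).subgroupOf (T : Subgroup G)) = 2 ^ 11 := by
    rw [← hcmap, hmap, card_cj, hAc]
  have key : ∀ B : Subgroup (T : Subgroup G), Cfsg.IsElementaryAbelian 2 B → 2 ^ 11 ≤ Nat.card B →
      B = (cj g (AG D C)).subgroupOf T := fun B hB hbig =>
    Subgroup.map_injective (T : Subgroup G).subtype_injective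
      (hmap.symm ▸ hu _ (Subgroup.map_subtype_le B)
        ((Cfsg.Agent.S5444.ea_map B).2 ((Cfsg.Agent.S5444.ea_iff B).1 hB)) (hcmap B ▸ hbig))
  have hmax : Cfsg.maxElementaryAbelianSubgroups 2 ↥(T : Subgroup G) =
      {(cj g (AG D C)).subgroupOf T} := by
    refine Set.ext fun B => ⟨fun hB => key B hB.1 (hc ▸ hB.2 _ hAe'), fun hB => ?_⟩
    rw [Set.mem_singleton_iff] at hB
    subst hB
    refine ⟨hAe', fun B hB => ?_⟩
    by_contra hlt
    push Not at hlt
    rw [key B hB (hc ▸ hlt.le)] at hlt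
    exact lt_irrefl _ hlt
  rw [Cfsg.thompsonSubgroupOf, Cfsg.thompsonSubgroup, hmax, sSup_singleton, hmap]

/-- The normaliser controls fusion. -/
theorem fusion {a g : G} (ha : a ∈ AG D C) (hga : g * a * g⁻¹ ∈ AG D C) :
    ∃ m ∈ Subgroup.normalizer (AG D C : Set G), m * a * m⁻¹ = g * a * g⁻¹ := by
  haveI : Fact (Nat.Prime 2) := ⟨Nat.prime_two⟩
  obtain ⟨hAea, -, -⟩ := AG_facts D C
  obtain ⟨S, -, hSJ, -⟩ := exists_sylow D C hF
  exact Cfsg.Agent.S5306.result 2 S (AG D C) hSJ.symm a _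
    ⟨ha, fun j hj => hAea.2 j hj a ha⟩ ⟨hga, fun j hj => hAea.2 j hj _ hga⟩ g rfl

end Thompson

/-! ### Counting -/

section Count

include D C

theorem AG_normal {m x : G} (hm : m ∈ Subgroup.normalizer (AG D C : Set G)) (hx : x ∈ AG D C) :
    m * x * m⁻¹ ∈ AG D C :=
  (Subgroup.mem_normalizer_iff.1 hm x).1 hx

theorem NA_normalizer {g : centralizer ({z} : Set G)} (hg : g ∈ NA D C) :
    (g : G) ∈ Subgroup.normalizer (AG D C : Set G) := by
  refine Subgroup.mem_normalizer_fintype ?_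
  rintro _ ⟨x, hx, rfl⟩
  exact ⟨g * x * g⁻¹, NA_conj D C hg hx, rfl⟩

/-- An element of prime order normalising the subgroup, not dividing the order of the centralizer,
centralises a power of two elements, congruent to the order of the subgroup and smaller. -/
theorem prime_fix {p : ℕ} [Fact p.Prime] (hp : ¬ p ∣ 2 ^ 13 * 19595520) {m : G}
    (hm : orderOf m = p) (hmN : m ∈ Subgroup.normalizer (AG D C : Set G)) :
    ∃ k < 11, {x | x ∈ AG D C ∧ m * x * m⁻¹ = x}.ncard = 2 ^ k ∧ 2 ^ k % p = 2 ^ 11 % p := by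
  obtain ⟨-, hAc, hzA⟩ := AG_facts D C
  set B := AG D C ⊓ centralizer ({m} : Set G) with hB
  have hset : {x | x ∈ AG D C ∧ m * x * m⁻¹ = x} = (B : Set G) := by
    ext x
    simp only [hB, Subgroup.coe_inf, Set.mem_inter_iff, SetLike.mem_coe, Set.mem_setOf_eq,
      Subgroup.mem_centralizer_singleton_iff, mul_inv_eq_iff_eq_mul]
    exact and_congr_right fun _ => eq_comm
  have hdvd : Nat.card B ∣ 2 ^ 11 := hAc ▸ Subgroup.card_dvd_of_le inf_le_left
  obtain ⟨k, hk, hBk⟩ := (Nat.dvd_prime_pow Nat.prime_two).1 hdvd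
  have hmod := card_modEq_fixed hm (S := (AG D C : Set G)) fun x hx => AG_normal D C hmN hx
  simp only [SetLike.mem_coe] at hmod
  rw [hset, ← Nat.card_coe_set_eq, ← Nat.card_coe_set_eq, SetLike.coe_sort_coe, SetLike.coe_sort_coe,
    hAc, hBk] at hmod
  refine ⟨k, lt_of_le_of_ne hk fun e => hp ?_, ?_, hmod.symm⟩
  · subst e
    have hBA : B = AG D C := Subgroup.eq_of_le_of_card_ge inf_le_left (by rw [hAc, hBk])
    have hmz : m ∈ centralizer ({z} : Set G) := by
      have hzm : z * m = m * z := Subgroup.mem_centralizer_singleton_iff.1 (hBA.ge hzA).2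
      exact Subgroup.mem_centralizer_singleton_iff.2 hzm.symm
    rw [← card_H D C, ← hm, ← Subgroup.orderOf_mk m hmz]
    exact orderOf_dvd_natCard _
  · rw [hset, ← Nat.card_coe_set_eq, SetLike.coe_sort_coe, hBk]

variable (hF : Cfsg.IsOfLargeFischerTypeAt z Q)
include hF

theorem orbit_z : {b | b ∈ AG D C ∧ IsConj z b} =
    {b | ∃ m ∈ Subgroup.normalizer (AG D C : Set G), m * z * m⁻¹ = b} := by
  obtain ⟨-, -, hzA⟩ := AG_facts D C
  ext b
  constructor
  · rintro ⟨hb, hc⟩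
    obtain ⟨g, rfl⟩ := isConj_iff.1 hc
    exact fusion D C hF hzA hb
  · rintro ⟨m, hm, rfl⟩
    exact ⟨AG_normal D C hm hzA, isConj_iff.2 ⟨m, rfl⟩⟩

theorem count_not_prime {N p : ℕ} (hN : {b | b ∈ AG D C ∧ IsConj z b}.ncard = N) (hpN : p ∣ N)
    [Fact p.Prime] (hp : ¬ p ∣ 2 ^ 13 * 19595520) (hpow : ∀ k < 11, 2 ^ k % p ≠ 2 ^ 11 % p) : False := by
  rw [orbit_z D C hF] at hN
  have hdvd : p ∣ Nat.card (Subgroup.normalizer (AG D C : Set G)) :=
    hpN.trans (hN ▸ orbit_dvd _ z)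
  obtain ⟨m, hm⟩ := exists_prime_orderOf_dvd_card' p hdvd
  obtain ⟨k, hk, -, hk'⟩ := prime_fix D C hp ((Subgroup.orderOf_coe m).trans hm) m.2
  exact hpow k hk hk'

/-- The classes of the normaliser inside the centralizer and which of them fuse to `z`. -/
theorem classes : ∃ x5 x85 a b0 : centralizer ({z} : Set G),
    (x5 ∈ AA D C ∧ x5 ∈ Q ∧ x5 ≠ 1 ∧ x85 ∈ AA D C ∧ x85 ∈ Q ∧ a ∈ AA D C ∧ a ∉ Q ∧ b0 ∈ AA D C) ∧
    (¬ IsConj z (x5 : G) ∧ IsConj z (x85 : G) ∧ ¬ IsConj z (a : G) ∧ IsConj z ((a * zc : centralizer ({z} : Set G)) : G) ∧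
      IsConj z (b0 : G)) ∧
    (∀ x ∈ AA D C, x ∈ Q → x ≠ 1 → x ≠ zc → Rel D C x5 x ∨ Rel D C x85 x) ∧
    (∀ b ∈ AA D C, b ∉ Q → Rel D C a b ∨ Rel D C (a * zc) b ∨ Rel D C b0 b) ∧
    {x | x ∈ AA D C ∧ x ∈ Q ∧ ¬ IsConj z (x : G) ∧ x ≠ 1}.ncard = 36 ∧
    {x | x ∈ AA D C ∧ x ∉ Q ∧ ¬ IsConj z (x : G)}.ncard = 240 ∧
    {b | b ∈ AG D C ∧ IsConj z b}.ncard = 1771 := by
  classical
  obtain ⟨x5, x85, hx5, hx85, hx5A, hx85A, h51, h5z, h851, h85z, hnot, hin, hcin⟩ := inside D C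
  obtain ⟨a, b0, haA, hb0A, haQ, hb0Q, hout, hcout⟩ := outside D C
  let P : centralizer ({z} : Set G) → Prop := fun w => IsConj z (w : G)
  have hP : ∀ x y, Rel D C x y → (P x ↔ P y) := by
    rintro x _ ⟨g, -, rfl⟩
    have hc : IsConj (x : G) ((g * x * g⁻¹ : centralizer ({z} : Set G)) : G) := isConj_iff.2 ⟨g, rfl⟩
    exact ⟨fun e => IsConj.trans e hc, fun e => IsConj.trans e hc.symm⟩
  have hz1 : z ≠ 1 := (lhyp D).ne_one
  have hP1 : ¬ P 1 := fun e => hz1 (isConj_one_left.1 e)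
  have hPzc : P zc := by
    show IsConj z (zc : G)
    rw [D.zc_val]
  -- exactly one of the two classes inside `Q`
  have ho2 : ∀ x ∈ Q, x ≠ (1 : centralizer ({z} : Set G)) → x ∈ AA D C → orderOf x = 2 := fun x _ h1 hA => by
    refine orderOf_eq_prime ?_ h1
    rw [pow_two]; exact AA_sq D C hA
  have hne : ∀ x : centralizer ({z} : Set G), x ≠ zc → (x : G) ≠ z := fun x hx e =>
    hx (Subtype.ext (e.trans D.zc_val.symm))
  have hboth : ¬ (P x5 ∧ P x85) := by
    rintro ⟨e5, e85⟩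
    obtain ⟨t, ht, he⟩ := Cfsg.Agent.S5441.result z Q hF (x5 : G) (x85 : G) ⟨x5.2, hx5⟩ ⟨x85.2, hx85⟩
      e5 e85 (hne _ h5z) (hne _ h85z)
    exact hnot ⟨⟨t, ht⟩, Subtype.ext he⟩
  have hsome : P x5 ∨ P x85 := by
    obtain ⟨s0, t0, hs0, ht0, -, -, -, -, -, hall⟩ := Cfsg.Agent.S5440.result z Q hF
    obtain ⟨g, ⟨hq, hgQ⟩, hgz⟩ := D.moved
    set w : centralizer ({z} : Set G) := ⟨g * z * g⁻¹, hq⟩ with hw
    have hwP : P w := isConj_iff.2 ⟨g, rfl⟩
    have hw2 : orderOf w = 2 := by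
      refine orderOf_eq_prime (Subtype.ext ?_) fun e => hz1 (conj_eq_one_iff.1 (congrArg Subtype.val e))
      show (g * z * g⁻¹) ^ 2 = 1
      rw [conj_pow, pow_two, (lhyp D).zz, mul_one, mul_inv_cancel]
    have key : ∀ r x y : centralizer ({z} : Set G), (∃ t, t * r * t⁻¹ = x) → (∃ t, t * r * t⁻¹ = y) →
        ∃ t, t * x * t⁻¹ = y := by
      rintro r x y ⟨t, rfl⟩ ⟨t', rfl⟩
      exact ⟨t' * t⁻¹, by group⟩
    have hfin : ∀ r x, (∃ t, t * r * t⁻¹ = x) → (∃ t, t * r * t⁻¹ = w) → P x := by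
      intro r x hx hw'
      obtain ⟨t, e⟩ := key r w x hw' hx
      exact IsConj.trans hwP (isConj_iff.2 ⟨t, congrArg Subtype.val e⟩)
    rcases hall x5 hx5 (ho2 _ hx5 h51 hx5A) (hne _ h5z) with h5 | h5 <;>
      rcases hall x85 hx85 (ho2 _ hx85 h851 hx85A) (hne _ h85z) with h8 | h8 <;>
        rcases hall w hgQ hw2 hgz with hw' | hw' <;>
        first
          | exact absurd (key _ _ _ h5 h8) hnot
          | exact Or.inl (hfin _ _ h5 hw')
          | exact Or.inr (hfin _ _ h8 hw')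
  -- the size of the class
  have hO : {b | b ∈ AG D C ∧ IsConj z b}.ncard =
      {b | b ∈ AA D C ∧ b ∈ Q ∧ P b}.ncard + {b | b ∈ AA D C ∧ b ∉ Q ∧ P b}.ncard := by
    rw [← Set.ncard_union_eq (Set.disjoint_left.2 fun b hb hb' => hb'.2.1 hb.2.1) (Set.toFinite _)
      (Set.toFinite _), ← Set.ncard_image_of_injective _ (Subtype.val_injective (p := fun x => x ∈ centralizer ({z} : Set G)))]
    congr 1
    ext b
    constructor
    · rintro ⟨⟨x, hx, rfl⟩, hc⟩
      by_cases hxQ : x ∈ Q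
      · exact ⟨x, Or.inl ⟨hx, hxQ, hc⟩, rfl⟩
      · exact ⟨x, Or.inr ⟨hx, hxQ, hc⟩, rfl⟩
    · rintro ⟨x, (⟨hx, -, hc⟩ | ⟨hx, -, hc⟩), rfl⟩ <;> exact ⟨⟨x, hx, rfl⟩, hc⟩
  rw [hcin P hP hP1, hcout P hP, if_pos hPzc] at hO
  have bad : ∀ p : ℕ, p.Prime → p ∣ {b | b ∈ AG D C ∧ IsConj z b}.ncard → ¬ p ∣ 2 ^ 13 * 19595520 →
      (∀ k < 11, 2 ^ k % p ≠ 2 ^ 11 % p) → False := fun p hp h1 h2 h3 =>
    haveI := Fact.mk hp
    count_not_prime D C hF rfl h1 h2 h3
  have badN : ∀ N, {b | b ∈ AG D C ∧ IsConj z b}.ncard = N →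
      (∃ p ∈ [37, 47, 101, 277, 211, 19, 13, 331, 571, 1531, 2011], N % p = 0) → False := by
    intro N hN ⟨p, hp, hmod⟩
    have hd : p ∣ {b | b ∈ AG D C ∧ IsConj z b}.ncard := hN ▸ Nat.dvd_of_mod_eq_zero hmod
    have hall : ∀ p ∈ [37, 47, 101, 277, 211, 19, 13, 331, 571, 1531, 2011],
        ¬ p ∣ 2 ^ 13 * 19595520 ∧ ∀ k < 11, 2 ^ k % p ≠ 2 ^ 11 % p := by decide +kernel
    obtain ⟨h2, h3⟩ := hall p hp
    refine bad p ?_ hd h2 h3
    simp only [List.mem_cons, List.not_mem_nil, or_false] at hp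
    rcases hp with rfl | rfl | rfl | rfl | rfl | rfl | rfl | rfl | rfl | rfl | rfl <;> norm_num
  have hfinal : ¬ P x5 ∧ P x85 ∧ P b0 ∧ (P a ↔ ¬ P (a * zc)) := by
    by_cases e5 : P x5 <;> by_cases e85 : P x85
    · exact absurd ⟨e5, e85⟩ hboth
    · exfalso
      rw [if_pos e5, if_neg e85] at hO
      by_cases ea : P a <;> by_cases eaz : P (a * zc) <;> by_cases eb : P b0 <;>
        simp only [ea, eaz, eb, if_true, if_false, Nat.reduceAdd, Nat.reduceMul] at hO <;>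
        exact badN _ hO (by decide)
    · rw [if_neg e5, if_pos e85] at hO
      by_cases ea : P a <;> by_cases eaz : P (a * zc) <;> by_cases eb : P b0 <;>
        simp only [ea, eaz, eb, if_true, if_false, Nat.reduceAdd, Nat.reduceMul] at hO <;>
        first
          | exact ⟨e5, e85, eb, fun _ => eaz, fun _ => ea⟩
          | exact ⟨e5, e85, eb, fun e => absurd e ea, fun e => absurd eaz e⟩
          | exact (badN _ hO (by decide)).elim
    · exact absurd hsome (by tauto)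
  obtain ⟨n5, p85, pb, hpa⟩ := hfinal
  have hzz : a * zc * zc = a := by rw [mul_assoc, D.ext.zz, mul_one]
  obtain ⟨a', ha'A, ha'Q, hna, hpaz, hout'⟩ : ∃ a', a' ∈ AA D C ∧ a' ∉ Q ∧ ¬ P a' ∧ P (a' * zc) ∧
      ∀ b ∈ AA D C, b ∉ Q → Rel D C a' b ∨ Rel D C (a' * zc) b ∨ Rel D C b0 b := by
    by_cases ea : P a
    · refine ⟨a * zc, mul_mem haA (zc_mem D C), fun hQ => haQ ?_, hpa.1 ea, hzz.symm ▸ ea, fun b hb hbQ => ?_⟩
      · exact hzz ▸ mul_mem hQ D.ext.mem
      · rw [hzz]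
        rcases hout b hb hbQ with e | e | e
        · exact Or.inr (Or.inl e)
        · exact Or.inl e
        · exact Or.inr (Or.inr e)
    · exact ⟨a, haA, haQ, ea, not_not.1 fun e => ea (hpa.2 e), hout⟩
  let R : centralizer ({z} : Set G) → Prop := fun w => ¬ IsConj z (w : G)
  have hR : ∀ x y, Rel D C x y → (R x ↔ R y) := fun x y e => not_congr (hP x y e)
  have hin36 : {x | x ∈ AA D C ∧ x ∈ Q ∧ ¬ IsConj z (x : G) ∧ x ≠ 1}.ncard = 36 := by
    have := hcin (fun w => R w ∧ w ≠ 1) (fun x y e => and_congr (hR x y e) (by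
      obtain ⟨g, -, rfl⟩ := e
      simp [conj_eq_one_iff])) fun e => e.2 rfl
    simp only [R] at this
    rw [if_neg fun e => e.1 hPzc, if_pos ⟨n5, h51⟩, if_neg fun e => e.1 p85] at this
    exact this
  have hout240 : {x | x ∈ AA D C ∧ x ∉ Q ∧ ¬ IsConj z (x : G)}.ncard = 240 := by
    have := hcout R hR
    simp only [R] at this
    rw [this, if_neg (not_not.2 pb)]
    by_cases ea : P a
    · rw [if_neg (not_not.2 ea), if_pos (hpa.1 ea)]
    · rw [if_pos ea, if_neg (not_not.2 (not_not.1 fun e => ea (hpa.2 e)))]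
  refine ⟨x5, x85, a', b0, ⟨hx5A, hx5, h51, hx85A, hx85, ha'A, ha'Q, hb0A⟩, ⟨n5, p85, hna, hpaz, pb⟩,
    hin, hout', hin36, hout240, ?_⟩
  rw [hO, if_neg n5, if_pos p85, if_pos pb]
  by_cases ea : P a
  · rw [if_pos ea, if_neg (hpa.1 ea)]
  · rw [if_neg ea, if_pos (not_not.1 fun e => ea (hpa.2 e))]

/-- The normaliser is transitive on the other involutions. -/
theorem trans_R : ∀ a ∈ AG D C, ∀ b ∈ AG D C, a ≠ 1 → b ≠ 1 → ¬ IsConj z a → ¬ IsConj z b →
    ∃ m ∈ Subgroup.normalizer (AG D C : Set G), m * a * m⁻¹ = b := by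
  classical
  obtain ⟨x5, x85, a', b0, ⟨h5A, h5Q, h51, -, -, -, ha'Q, -⟩, ⟨n5, p85, -, pa'z, pb⟩, hin, hout, h36, -, h1771⟩ :=
    classes D C hF
  obtain ⟨-, -, hzA⟩ := AG_facts D C
  haveI : Fact (Nat.Prime 23) := ⟨by norm_num⟩
  obtain ⟨m, hm⟩ := exists_prime_orderOf_dvd_card' 23 (G := Subgroup.normalizer (AG D C : Set G))
    (dvd_trans (by norm_num : (23 : ℕ) ∣ 1771)
      (h1771 ▸ (orbit_z D C hF).symm ▸ orbit_dvd _ z))
  have hm' : orderOf (m : G) = 23 := (Subgroup.orderOf_coe m).trans hm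
  obtain ⟨k, hk, hkc, hkm⟩ := prime_fix D C (by norm_num) hm' m.2
  have hk0 : k = 0 := by
    have : ∀ k < 11, 2 ^ k % 23 = 2 ^ 11 % 23 → k = 0 := by decide
    exact this k hk hkm
  subst hk0
  have hfix1 : ∀ x ∈ AG D C, (m : G) * x * (m : G)⁻¹ = x → x = 1 := by
    intro x hx e
    have h1 : ({x, 1} : Set G) ⊆ {x | x ∈ AG D C ∧ (m : G) * x * (m : G)⁻¹ = x} := by
      rintro y (rfl | rfl)
      · exact ⟨hx, e⟩
      · exact ⟨one_mem _, by group⟩
    have h2 := Set.ncard_le_ncard h1 (Set.toFinite _)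
    rw [hkc] at h2
    by_contra hne
    rw [Set.ncard_pair hne] at h2
    omega
  set Or5 : Set G := {b | ∃ m ∈ Subgroup.normalizer (AG D C : Set G), m * (x5 : G) * m⁻¹ = b} with hOr
  have hx5AG : (x5 : G) ∈ AG D C := ⟨x5, h5A, rfl⟩
  have hOrA : ∀ b ∈ Or5, b ∈ AG D C ∧ ¬ IsConj z b ∧ b ≠ 1 := by
    rintro b ⟨m', hm', rfl⟩
    refine ⟨AG_normal D C hm' hx5AG, fun e => n5 ?_, fun e => h51 (Subtype.ext (conj_eq_one_iff.1 e))⟩
    exact IsConj.trans e (isConj_iff.2 ⟨m', rfl⟩ : IsConj (x5 : G) (m' * x5 * m'⁻¹)).symm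
  have hclosed : ∀ {x y : centralizer ({z} : Set G)}, Rel D C x y → (x : G) ∈ Or5 → (y : G) ∈ Or5 := by
    rintro x y ⟨g, hg, rfl⟩ ⟨m', hm', e⟩
    refine ⟨(g : G) * m', mul_mem (NA_normalizer D C hg) hm', ?_⟩
    simp only [Subgroup.coe_mul, Subgroup.coe_inv, ← e]
    group
  have hx5Or : (x5 : G) ∈ Or5 := ⟨1, one_mem _, by group⟩
  have hQmem : ∀ x ∈ AA D C, x ∈ Q → ¬ IsConj z (x : G) → x ≠ 1 → (x : G) ∈ Or5 := by
    intro x hx hxQ hnc h1
    have hxz : x ≠ zc := fun e => hnc (by rw [e, D.zc_val])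
    rcases hin x hx hxQ h1 hxz with e | e
    · exact hclosed e hx5Or
    · obtain ⟨g, -, rfl⟩ := e
      exact absurd (IsConj.trans p85 (isConj_iff.2 ⟨(g : G), rfl⟩)) hnc
  have haOr : (a' : G) ∈ Or5 := by
    by_contra hno
    have hsub : Or5 = Subtype.val '' {x | x ∈ AA D C ∧ x ∈ Q ∧ ¬ IsConj z (x : G) ∧ x ≠ 1} := by
      refine Set.Subset.antisymm (fun b hb => ?_) ?_
      · obtain ⟨hbA, hnc, hb1⟩ := hOrA b hb
        obtain ⟨x, hx, rfl⟩ := hbA
        refine ⟨x, ⟨hx, ?_, hnc, fun e => hb1 (congrArg Subtype.val e)⟩, rfl⟩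
        by_contra hxQ
        rcases hout x hx hxQ with e | e | e
        · exact hno (hclosed (e.symm D C) hb)
        · obtain ⟨g, -, rfl⟩ := e
          exact hnc (IsConj.trans pa'z (isConj_iff.2 ⟨(g : G), rfl⟩))
        · obtain ⟨g, -, rfl⟩ := e
          exact hnc (IsConj.trans pb (isConj_iff.2 ⟨(g : G), rfl⟩))
      · rintro _ ⟨x, ⟨hx, hxQ, hnc, h1⟩, rfl⟩
        exact hQmem x hx hxQ hnc h1
    have h36' : Or5.ncard = 36 := by
      rw [hsub, Set.ncard_image_of_injective _ Subtype.val_injective, h36]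
    have hmod := card_modEq_fixed hm' (S := Or5) (by
      rintro b ⟨m', hm'', rfl⟩
      exact ⟨(m : G) * m', mul_mem m.2 hm'', by group⟩)
    rw [h36', Set.eq_empty_of_forall_notMem (s := {x | x ∈ Or5 ∧ (m : G) * x * (m : G)⁻¹ = x})
      fun b hb => (hOrA b hb.1).2.2 (hfix1 b (hOrA b hb.1).1 hb.2), Set.ncard_empty] at hmod
    exact absurd hmod (by decide)
  have hall : ∀ b ∈ AG D C, b ≠ 1 → ¬ IsConj z b → b ∈ Or5 := by
    rintro _ ⟨x, hx, rfl⟩ h1 hnc
    by_cases hxQ : x ∈ Q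
    · exact hQmem x hx hxQ hnc fun e => h1 (congrArg Subtype.val e)
    · rcases hout x hx hxQ with e | e | e
      · exact hclosed e haOr
      · obtain ⟨g, -, rfl⟩ := e
        exact absurd (IsConj.trans pa'z (isConj_iff.2 ⟨(g : G), rfl⟩)) hnc
      · obtain ⟨g, -, rfl⟩ := e
        exact absurd (IsConj.trans pb (isConj_iff.2 ⟨(g : G), rfl⟩)) hnc
  intro a ha b hb ha1 hb1 hna hnb
  obtain ⟨m1, hm1, e1⟩ := hall a ha ha1 hna
  obtain ⟨m2, hm2, e2⟩ := hall b hb hb1 hnb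
  exact ⟨m2 * m1⁻¹, mul_mem hm2 (inv_mem hm1), by rw [← e1, ← e2]; group⟩

end Count

end Cfsg.Agent.LFFusion89
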