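import Mathlib
import Cfsg.Agent.Lib.LFFusion89
import Cfsg.Agent.Lib.LFCoordCheck89

/-!
Coordinates of the large elementary abelian subgroup in which the involutions not conjugate to the
central one form an explicit set of 276 codes.
-/

set_option autoImplicit false
set_option linter.unusedSectionVars false
set_option linter.style.haveILetI false
set_option maxHeartbeats 800000
set_option maxRecDepth 100000

namespace Cfsg.Agent.LFCoord89

open Subgroup Cfsg.Agent.U62Mon93 Cfsg.Agent.U62Existence93 Cfsg.Agent.LFForm89 Cfsg.Agent.LFMat89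
  Cfsg.Agent.LFModel89 Cfsg.Agent.LFSylow89 Cfsg.Agent.LFBound89 Cfsg.Agent.LFSetting89
  Cfsg.Agent.LFElem89 Cfsg.Agent.LFOrbitA89 Cfsg.Agent.LFOrbitX89 Cfsg.Agent.LFFusion89
  Cfsg.Agent.LFData89 Cfsg.Agent.LFCheck89 Cfsg.Agent.LFOrbitData89 Cfsg.Agent.LFCoordData89
  Cfsg.Agent.LFCoordCheck89
open scoped Matrix

universe u

attribute [local instance] Classical.propDecidable

variable {G : Type u} [Group G] [Finite G] {z : G} {Q : Subgroup (centralizer ({z} : Set G))} [Q.Normal]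
variable {V : Type u} [AddCommGroup V] {zc : centralizer ({z} : Set G)}
  {π : centralizer ({z} : Set G) → V} {ρ : centralizer ({z} : Set G) ⧸ Q →* AddMonoid.End V}
  {q : V → ZMod 2} {n : centralizer ({z} : Set G) ⧸ Q}
  {Mb : Subgroup (centralizer ({z} : Set G) ⧸ Q)}
variable (D : Data z Q zc π ρ q n Mb)
variable {F : Type} [Field F] [Fintype F] {s : F} {h : S4 s} {ν : (Fin 6 → F) → V}
  {Φ : K0 h →* centralizer ({z} : Set G) ⧸ Q} (C : Coord h ρ q n Mb ν Φ)

/-- A lift of order three of the fixed point free element. -/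
structure XN (Q : Subgroup (centralizer ({z} : Set G))) [Q.Normal]
    (n : centralizer ({z} : Set G) ⧸ Q) (zc xn : centralizer ({z} : Set G)) : Prop where
  img : QuotientGroup.mk' Q xn = n
  cube : xn * xn * xn = 1
  cent : ∀ y ∈ Q, xn * y * xn⁻¹ = y → y = 1 ∨ y = zc

/-- Not conjugate to the central involution. -/
def RR (w : centralizer ({z} : Set G)) : Prop := ¬ IsConj z (w : G)

/-- The sign as an element. -/
noncomputable def zb (zc : centralizer ({z} : Set G)) (p : ZMod 2) : centralizer ({z} : Set G) :=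
  if p = 0 then 1 else zc

/-- The norm under the element of order three. -/
def nm (xn x : centralizer ({z} : Set G)) : centralizer ({z} : Set G) :=
  x * (xn * x * xn⁻¹) * (xn * (xn * x * xn⁻¹) * xn⁻¹)

section Lifts

include D C

theorem exists_xn : ∃ xn, XN Q n zc xn := by
  obtain ⟨y, hy⟩ := QuotientGroup.mk'_surjective Q n
  have hn3 : n ^ 3 = 1 := D.order_n ▸ pow_orderOf_eq_one n
  have hmk : QuotientGroup.mk' Q (y ^ 4) = n := by
    rw [map_pow, hy, pow_succ, hn3, one_mul]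
  have hyQ : y ^ 3 ∈ Q := by
    rw [← QuotientGroup.eq_one_iff]
    show QuotientGroup.mk' Q (y ^ 3) = 1
    rw [map_pow, hy, hn3]
  refine ⟨y ^ 4, hmk, ?_, fun w hw e => (D.link.ker w hw).1 ?_⟩
  · rw [← pow_add, ← pow_add, show 4 + 4 + 4 = 3 * 4 by norm_num, pow_mul, D.ext.pow_four hyQ]
  · have e1 := act D (y ^ 4) hw
    rw [e, hmk] at e1
    have h3 := (hyp D).fx.rel (π w)
    rw [← e1, ← e1, (hyp D).fx.two, zero_add] at h3
    exact h3

theorem zb_zero : zb zc 0 = 1 := if_pos rfl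

theorem zb_one : zb zc 1 = zc := if_neg one_ne_zero

theorem zb_add (a b : ZMod 2) : zb zc (a + b) = zb zc a * zb zc b := by
  have hd : ∀ a : ZMod 2, a = 0 ∨ a = 1 := by decide
  rcases hd a with rfl | rfl <;> rcases hd b with rfl | rfl
  · rw [add_zero, zb_zero D C, one_mul]
  · rw [zero_add, zb_zero D C, one_mul]
  · rw [add_zero, zb_zero D C, mul_one]
  · rw [show (1 : ZMod 2) + 1 = 0 by decide, zb_zero D C, zb_one D C, D.ext.zz]

theorem zb_central (p : ZMod 2) (x : centralizer ({z} : Set G)) : x * zb zc p = zb zc p * x := by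
  unfold zb
  split_ifs
  · rw [one_mul, mul_one]
  · exact D.zc_central x

theorem zb_mem (p : ZMod 2) : zb zc p ∈ Q ∧ π (zb zc p) = 0 := by
  unfold zb
  split_ifs
  · exact ⟨Q.one_mem, pi_one D⟩
  · exact ⟨D.ext.mem, pi_zc D C⟩

theorem conj_zb {x y : centralizer ({z} : Set G)} (hx : x ∈ Q) (hy : y ∈ Q) :
    y * x * y⁻¹ = zb zc (pol q (π y) (π x)) * x := by
  by_cases hc : pol q (π y) (π x) = 0
  · rw [hc, zb_zero D C, one_mul, mul_inv_eq_iff_eq_mul]
    exact (comm_iff D hy hx).2 hc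
  · have h1 : pol q (π y) (π x) = 1 := by
      have : ∀ a : ZMod 2, a ≠ 0 → a = 1 := by decide
      exact this _ hc
    rw [h1, zb_one D C]
    exact (D.ext.conj y hy x hx).resolve_left fun e => hc ((comm_iff D hy hx).1 (mul_inv_eq_iff_eq_mul.1 e))

variable {xn : centralizer ({z} : Set G)} (hX : XN Q n zc xn)
include hX

theorem xn_NA : xn ∈ NA D C := n_NA D C hX.img

/-- A lift of an element commuting with `n` can be chosen centralising the lift of `n`. -/
theorem centralizing {g : centralizer ({z} : Set G)}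
    (hg : QuotientGroup.mk' Q g * n = n * QuotientGroup.mk' Q g) :
    ∃ y ∈ Q, y * g * xn * (y * g)⁻¹ = xn := by
  classical
  haveI := finiteV D
  let S := {w : centralizer ({z} : Set G) // QuotientGroup.mk' Q w = n ∧ w * w * w = 1}
  choose r hr hrπ using D.link.surj
  have hQ1 : ∀ {y}, y ∈ Q → QuotientGroup.mk' Q y = 1 := fun hy => mk_Q D C hy
  let f1 : V → S := fun v => ⟨r v * xn * (r v)⁻¹, by
    rw [map_mul, map_mul, map_inv, hQ1 (hr v), one_mul, inv_one, mul_one, hX.img],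
    by rw [show r v * xn * (r v)⁻¹ * (r v * xn * (r v)⁻¹) * (r v * xn * (r v)⁻¹) =
      r v * (xn * xn * xn) * (r v)⁻¹ by group, hX.cube, mul_one, mul_inv_cancel]⟩
  have h1 : Function.Injective f1 := by
    intro v w e
    have e1 : r v * xn * (r v)⁻¹ = r w * xn * (r w)⁻¹ := congrArg Subtype.val e
    have hmem : (r w)⁻¹ * r v ∈ Q := mul_mem (inv_mem (hr w)) (hr v)
    have e3 : (r w)⁻¹ * r v * xn * ((r w)⁻¹ * r v)⁻¹ = xn := by
      rw [show (r w)⁻¹ * r v * xn * ((r w)⁻¹ * r v)⁻¹ = (r w)⁻¹ * (r v * xn * (r v)⁻¹) * r w by group, e1]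
      group
    have e2 : xn * ((r w)⁻¹ * r v) * xn⁻¹ = (r w)⁻¹ * r v := by
      have e4 := mul_inv_eq_iff_eq_mul.1 e3
      rw [mul_inv_eq_iff_eq_mul]
      exact e4.symm
    have h0 := (D.link.ker _ hmem).2 (hX.cent _ hmem e2)
    rw [D.link.add _ (inv_mem (hr w)) _ (hr v), pi_inv D (hr w), hrπ, hrπ] at h0
    rw [← add_zero v, ← (hyp D).fx.two w, ← add_assoc, add_comm v w, h0, zero_add]
  have hdiv : ∀ w : S, xn⁻¹ * w.1 ∈ Q := fun w => by
    rw [← QuotientGroup.eq_one_iff]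
    show QuotientGroup.mk' Q (xn⁻¹ * w.1) = 1
    rw [map_mul, map_inv, hX.img, w.2.1, inv_mul_cancel]
  have h2 : Function.Injective fun w : S => π (xn⁻¹ * w.1) := by
    intro w w' e
    rcases pi_eq D (hdiv w) (hdiv w') e with e1 | e1
    · exact Subtype.ext (mul_left_cancel e1).symm
    · exfalso
      rw [mul_assoc] at e1
      have e2 := mul_left_cancel e1
      have h3 := w'.2.2
      rw [e2, show w.1 * zc * (w.1 * zc) * (w.1 * zc) = w.1 * (zc * w.1) * (zc * w.1) * zc by group,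
        ← D.zc_central w.1,
        show w.1 * (w.1 * zc) * (w.1 * zc) * zc = w.1 * w.1 * (zc * w.1) * (zc * zc) by group,
        ← D.zc_central w.1, D.ext.zz, mul_one, ← mul_assoc, w.2.2, one_mul] at h3
      exact D.ext.ne_one h3
  have hbij := (Nat.bijective_iff_injective_and_card f1).2
    ⟨h1, le_antisymm (Nat.card_le_card_of_injective _ h1) (Nat.card_le_card_of_injective _ h2)⟩
  obtain ⟨v, hv⟩ := hbij.2 ⟨g * xn * g⁻¹, by
    rw [map_mul, map_mul, map_inv, hX.img, hg, mul_inv_cancel_right],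
    by rw [show g * xn * g⁻¹ * (g * xn * g⁻¹) * (g * xn * g⁻¹) = g * (xn * xn * xn) * g⁻¹ by group,
      hX.cube, mul_one, mul_inv_cancel]⟩
  have e : r v * xn * (r v)⁻¹ = g * xn * g⁻¹ := congrArg Subtype.val hv
  refine ⟨(r v)⁻¹, inv_mem (hr v), ?_⟩
  rw [show (r v)⁻¹ * g * xn * ((r v)⁻¹ * g)⁻¹ = (r v)⁻¹ * (g * xn * g⁻¹) * r v by group, ← e]
  group

theorem RR_rel {x y : centralizer ({z} : Set G)} (e : Rel D C x y) : RR x ↔ RR y := by
  obtain ⟨g, -, rfl⟩ := e
  have hc : IsConj (x : G) ((g * x * g⁻¹ : centralizer ({z} : Set G)) : G) := isConj_iff.2 ⟨g, rfl⟩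
  exact ⟨fun hn e => hn (e.trans hc.symm), fun hn e => hn (e.trans hc)⟩

variable (hF : Cfsg.IsOfLargeFischerTypeAt z Q)
include hF

theorem base_lift : ∃ a ∈ AA D C, xn * a * xn⁻¹ = a ∧
    QuotientGroup.mk' Q a = tau h Φ (eOne.getD 1 0) ∧ RR a ∧ ¬ RR (a * zc) := by
  classical
  obtain ⟨a, b0, haA, -, -, -, ⟨hae, hax⟩, -, hcount⟩ := outside_base D C hX.img
  obtain ⟨-, -, -, -, -, -, -, -, -, h240, -⟩ := classes D C hF
  have hfix : xn * a * xn⁻¹ = a := by
    refine hax.resolve_right fun e => D.ext.ne_one ?_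
    have e2 : xn * (a * zc) * xn⁻¹ = xn * a * xn⁻¹ * zc := by
      rw [show xn * (a * zc) * xn⁻¹ = xn * a * (zc * xn⁻¹) by group, ← D.zc_central xn⁻¹]
      group
    have e3 : xn * (xn * (xn * a * xn⁻¹) * xn⁻¹) * xn⁻¹ = a := by
      rw [show xn * (xn * (xn * a * xn⁻¹) * xn⁻¹) * xn⁻¹ = xn * xn * xn * a * (xn * xn * xn)⁻¹ by group,
        hX.cube, one_mul, inv_one, mul_one]
    rw [e, e2, e, mul_assoc a zc zc, D.ext.zz, mul_one, e] at e3
    exact mul_eq_left.1 e3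
  have hzz : a * zc * zc = a := by rw [mul_assoc, D.ext.zz, mul_one]
  have h1 := hcount (fun w => RR w) fun x y e => RR_rel D C hX e
  have h2 : {x | x ∈ AA D C ∧ x ∉ Q ∧ RR x}.ncard = 240 := h240
  rw [h2] at h1
  by_cases ha : RR a <;> by_cases haz : RR (a * zc)
  · rw [if_pos ha, if_pos haz] at h1; split_ifs at h1 <;> omega
  · exact ⟨a, haA, hfix, hae, ha, haz⟩
  · refine ⟨a * zc, mul_mem haA (zc_mem D C), ?_, ?_, haz, by rwa [hzz]⟩
    · rw [show xn * (a * zc) * xn⁻¹ = xn * a * (zc * xn⁻¹) by group, ← D.zc_central xn⁻¹,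
        ← mul_assoc, hfix]
    · rw [map_mul, mk_Q D C D.ext.mem, mul_one, hae]
  · rw [if_neg ha, if_neg haz] at h1; split_ifs at h1 <;> omega

theorem rlift {e : ℕ} (he : e ∈ eOne) (he0 : e ≠ 0) : ∃ a ∈ AA D C, xn * a * xn⁻¹ = a ∧
    QuotientGroup.mk' Q a = tau h Φ e ∧ RR a ∧ ¬ RR (a * zc) := by
  obtain ⟨a, ha, hfix, hae, hR, hR'⟩ := base_lift D C hX hF
  obtain ⟨g, hgM, hgn, hge⟩ := E1_trans (hyp D) C he he0
  obtain ⟨g, rfl⟩ := QuotientGroup.mk'_surjective Q g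
  obtain ⟨y, hy, hyx⟩ := centralizing D C hX (g := g) (D.comm_n _ hgM)
  set t := y * g with ht
  have hmk : QuotientGroup.mk' Q t = QuotientGroup.mk' Q g := by
    rw [ht, map_mul, mk_Q D C hy, one_mul]
  have htNA : t ∈ NA D C := by
    rw [NA, Subgroup.mem_comap, hmk]
    exact mem_normalizer (hyp D) C hgn
  refine ⟨t * a * t⁻¹, NA_conj D C htNA ha, ?_, ?_, (RR_rel D C hX ⟨t, htNA, rfl⟩).1 hR, fun e1 => hR' ?_⟩
  · calc xn * (t * a * t⁻¹) * xn⁻¹ = t * xn * t⁻¹ * (t * a * t⁻¹) * (t * xn * t⁻¹)⁻¹ := by rw [hyx]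
      _ = t * (xn * a * xn⁻¹) * t⁻¹ := by group
      _ = _ := by rw [hfix]
  · rw [map_mul, map_mul, map_inv, hmk, hae, hge]
  · refine (RR_rel D C hX ⟨t, htNA, ?_⟩).2 e1
    rw [show t * (a * zc) * t⁻¹ = t * a * (zc * t⁻¹) by group, ← D.zc_central t⁻¹, ← mul_assoc]

/-- Two fixed lifts in the same class agree. -/
theorem rlift_unique {e : ℕ} (he : e ∈ eOne) (he0 : e ≠ 0) {a b : centralizer ({z} : Set G)}
    (hfa : xn * a * xn⁻¹ = a) (hfb : xn * b * xn⁻¹ = b)
    (hae : QuotientGroup.mk' Q a = tau h Φ e) (hbe : QuotientGroup.mk' Q b = tau h Φ e)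
    (hRa : RR a) (hRb : RR b) : a = b := by
  obtain ⟨c, -, hfc, hce, -, hRc'⟩ := rlift D C hX hF he he0
  have key : ∀ w, xn * w * xn⁻¹ = w → QuotientGroup.mk' Q w = tau h Φ e → RR w → w = c := by
    intro w hfw hwe hRw
    have hQ : c⁻¹ * w ∈ Q := QuotientGroup.eq.1 (hce.trans hwe.symm)
    have hfix : xn * (c⁻¹ * w) * xn⁻¹ = c⁻¹ * w := by
      calc xn * (c⁻¹ * w) * xn⁻¹ = (xn * c * xn⁻¹)⁻¹ * (xn * w * xn⁻¹) := by group
        _ = _ := by rw [hfc, hfw]
    rcases hX.cent _ hQ hfix with e1 | e1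
    · exact (inv_mul_eq_one.1 e1).symm
    · exact absurd (eq_mul_of_inv_mul_eq e1 ▸ hRw) hRc'
  rw [key a hfa hae hRa, key b hfb hbe hRb]

end Lifts

section Norms

include D C

variable {xn : centralizer ({z} : Set G)} (hX : XN Q n zc xn)
include hX

theorem nm_cases {x : centralizer ({z} : Set G)} (hx : x ∈ Qf D (UU D C)) :
    (nm xn x = 1 ∨ nm xn x = zc) := by
  have h1 : xn * x * xn⁻¹ ∈ Q := (inferInstance : Q.Normal).conj_mem x hx.1 xn
  have h2 : xn * (xn * x * xn⁻¹) * xn⁻¹ ∈ Q := (inferInstance : Q.Normal).conj_mem _ h1 xn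
  refine (D.link.ker _ (mul_mem (mul_mem hx.1 h1) h2)).1 ?_
  rw [D.link.add _ (mul_mem hx.1 h1) _ h2, D.link.add _ hx.1 _ h1, act D xn h1, act D xn hx.1, hX.img]
  have h3 := (hyp D).fx.rel (π x)
  rw [← h3]; abel

theorem Qf_AA {x : centralizer ({z} : Set G)} (hx : x ∈ Qf D (UU D C)) : x ∈ AA D C :=
  (mem_AA_Q D C hx.1).2 hx.2

theorem nm_mul {x y : centralizer ({z} : Set G)} (hx : x ∈ AA D C) (hy : y ∈ AA D C) :
    nm xn (x * y) = nm xn x * nm xn y := by
  obtain ⟨hea, -, -, -⟩ := AA_facts D C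
  have hn := xn_NA D C hX
  set x1 := xn * x * xn⁻¹ with hx1
  set y1 := xn * y * xn⁻¹ with hy1
  set x2 := xn * x1 * xn⁻¹ with hx2
  set y2 := xn * y1 * xn⁻¹ with hy2
  have m1 : x1 ∈ AA D C := NA_conj D C hn hx
  have m1' : y1 ∈ AA D C := NA_conj D C hn hy
  have m2 : x2 ∈ AA D C := NA_conj D C hn m1
  have e1 : xn * (x * y) * xn⁻¹ = x1 * y1 := by rw [hx1, hy1]; group
  have e2 : xn * (x1 * y1) * xn⁻¹ = x2 * y2 := by rw [hx2, hy2]; group
  show x * y * (xn * (x * y) * xn⁻¹) * (xn * (xn * (x * y) * xn⁻¹) * xn⁻¹) = x * x1 * x2 * (y * y1 * y2)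
  rw [e1, e2]
  calc x * y * (x1 * y1) * (x2 * y2) = x * (y * x1) * (y1 * x2) * y2 := by group
    _ = x * (x1 * y) * (x2 * y1) * y2 := by rw [hea.2 y hy x1 m1, hea.2 y1 m1' x2 m2]
    _ = x * x1 * (y * x2) * y1 * y2 := by group
    _ = x * x1 * (x2 * y) * y1 * y2 := by rw [hea.2 y hy x2 m2]
    _ = _ := by group

theorem nm_zb (p : ZMod 2) : nm xn (zb zc p) = zb zc p := by
  have hc : ∀ g : centralizer ({z} : Set G), g * zb zc p * g⁻¹ = zb zc p := fun g => by
    rw [zb_central D C p g, mul_inv_cancel_right]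
  rw [nm, hc, hc, ← zb_add D C, ← zb_add D C, show p + p + p = p by rw [z2, zero_add]]

theorem zb_AA (p : ZMod 2) : zb zc p ∈ AA D C :=
  Qf_AA D C hX ⟨(zb_mem D C p).1, (zb_mem D C p).2 ▸ AddSubgroup.zero_mem _⟩

/-- The norm of the commutator of a fixed element. -/
theorem comm_norm {a y : centralizer ({z} : Set G)} (ha : a ∈ AA D C) (hfix : xn * a * xn⁻¹ = a)
    (hy : y ∈ Q) : nm xn (a * (y * a * y⁻¹)) =
      zb zc (pol q (op ρ n (π y)) (op ρ (QuotientGroup.mk' Q a) (π y) + π y)) := by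
  obtain ⟨hea, -, -, -⟩ := AA_facts D C
  have hainv : a⁻¹ = a := inv_eq_of_mul_eq_one_right (AA_sq D C ha)
  let c : centralizer ({z} : Set G) → centralizer ({z} : Set G) := fun w => a * (w * a * w⁻¹)
  have hc : ∀ u w, c (u * w) = c u * (u * c w * u⁻¹) := by
    intro u w
    show a * (u * w * a * (u * w)⁻¹) = a * (u * a * u⁻¹) * (u * (a * (w * a * w⁻¹)) * u⁻¹)
    calc a * (u * w * a * (u * w)⁻¹) = a * (u * (w * a * w⁻¹) * u⁻¹) := by group
      _ = a * (u * (a * a * (w * a * w⁻¹)) * u⁻¹) := by rw [AA_sq D C ha, one_mul]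
      _ = _ := by group
  have hcx : ∀ w, xn * c w * xn⁻¹ = c (xn * w * xn⁻¹) := by
    intro w
    show xn * (a * (w * a * w⁻¹)) * xn⁻¹ = a * (xn * w * xn⁻¹ * a * (xn * w * xn⁻¹)⁻¹)
    calc xn * (a * (w * a * w⁻¹)) * xn⁻¹
        = (xn * a * xn⁻¹) * (xn * w * xn⁻¹ * (xn * a * xn⁻¹) * (xn * w * xn⁻¹)⁻¹) := by group
      _ = _ := by rw [hfix]
  set w := π y with hw
  set v := op ρ (QuotientGroup.mk' Q a) w + w with hv
  set y1 := xn * y * xn⁻¹ with hy1
  set y2 := xn * y1 * xn⁻¹ with hy2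
  have hy1Q : y1 ∈ Q := (inferInstance : Q.Normal).conj_mem y hy xn
  have hy2Q : y2 ∈ Q := (inferInstance : Q.Normal).conj_mem y1 hy1Q xn
  have hw1 : π y1 = op ρ n w := by rw [hy1, act D xn hy, hX.img]
  have hw2 : π y2 = op ρ n (op ρ n w) := by rw [hy2, act D xn hy1Q, hX.img, hw1]
  obtain ⟨c0A, c0Q, c0π⟩ := comm_pi D C ha hy
  obtain ⟨c1A, c1Q, c1π⟩ := comm_pi D C ha hy1Q
  obtain ⟨c2A, c2Q, c2π⟩ := comm_pi D C ha hy2Q
  change c y ∈ _ at c0A c0Q
  change π (c y) = _ at c0π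
  change c y1 ∈ _ at c1A c1Q
  change π (c y1) = _ at c1π
  change c y2 ∈ _ at c2A c2Q
  have fx := (hyp D).fx
  have hcom := commute_n D C ha
  have hnv : π (c y1) = op ρ n v := by rw [c1π, hw1, hcom, hv, map_add]
  have hP : π (y2 * y1 * y) = 0 := by
    rw [D.link.add _ (mul_mem hy2Q hy1Q) _ hy, D.link.add _ hy2Q _ hy1Q, hw1, hw2]
    exact fx.rel w
  have hcP : c (y2 * (y1 * y)) = 1 := by
    rw [← mul_assoc]
    show a * (y2 * y1 * y * a * (y2 * y1 * y)⁻¹) = 1
    rcases (D.link.ker _ (mul_mem (mul_mem hy2Q hy1Q) hy)).1 hP with e | e <;> rw [e]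
    · rw [one_mul, inv_one, mul_one, AA_sq D C ha]
    · rw [← D.zc_central a, mul_inv_cancel_right, AA_sq D C ha]
  have hq1 : pol q w (op ρ (QuotientGroup.mk' Q a) w) = 0 := by
    have hvU := range_le_U D C ha w
    have h0 := Fix_E1_sing (hyp D) C _ hvU
    rw [fx.q_add, (hyp D).inv, z2, zero_add, pol_comm] at h0
    exact h0
  have hpol2 : pol q (op ρ n (op ρ n w)) (op ρ n v + v) = 0 := by
    rw [← fx.o_two v, fx.pol_o, fx.pol_o, hv, fx.addr, hq1, fx.pol_self, add_zero]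
  rw [hc y2 (y1 * y), hc y1 y, conj_zb D C c0Q hy1Q, hw1, c0π,
    conj_zb D C (mul_mem c1Q (mul_mem (zb_mem D C _).1 c0Q)) hy2Q, hw2,
    D.link.add _ c1Q _ (mul_mem (zb_mem D C _).1 c0Q), D.link.add _ (zb_mem D C _).1 _ c0Q,
    (zb_mem D C _).2, zero_add, hnv, c0π, hpol2, zb_zero D C, one_mul] at hcP
  have hn : nm xn (c y) = c y * c y1 * c y2 := by
    show c y * (xn * c y * xn⁻¹) * (xn * (xn * c y * xn⁻¹) * xn⁻¹) = _
    rw [hcx, hcx]
  show nm xn (c y) = zb zc (pol q (op ρ n w) v)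
  rw [hn]
  set p := zb zc (pol q (op ρ n w) v) with hp
  have hpA : p ∈ AA D C := zb_AA D C hX _
  calc c y * c y1 * c y2 = c y2 * (c y * c y1) := hea.2 _ (mul_mem c0A c1A) _ c2A
    _ = c y2 * (c y1 * c y) := by rw [hea.2 _ c0A _ c1A]
    _ = p * (c y2 * (c y1 * (p * c y))) := by
      calc c y2 * (c y1 * c y) = p * p * (c y2 * (c y1 * c y)) := by rw [AA_sq D C hpA, one_mul]
        _ = p * (p * c y2 * (c y1 * c y)) := by group
        _ = p * (c y2 * (p * c y1) * c y) := by rw [hea.2 p hpA _ c2A]; group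
        _ = _ := by rw [hea.2 p hpA _ c1A]; group
    _ = p := by rw [hcP, mul_one]

theorem exists_wlift {v : V} (hv : v ∈ UU D C) :
    ∃ x ∈ Qf D (UU D C), π x = v ∧ nm xn x = 1 := by
  obtain ⟨x, hx, rfl⟩ := D.link.surj v
  rcases nm_cases D C hX (x := x) ⟨hx, hv⟩ with e | e
  · exact ⟨x, ⟨hx, hv⟩, rfl, e⟩
  · refine ⟨x * zc, ⟨mul_mem hx D.ext.mem, by rw [pi_mul_zc D C hx]; exact hv⟩, pi_mul_zc D C hx, ?_⟩
    rw [← zb_one D C, nm_mul D C hX (Qf_AA D C hX ⟨hx, hv⟩) (zb_AA D C hX 1), nm_zb D C hX, e,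
      zb_one D C, D.ext.zz]

theorem eq_of_norm {x y : centralizer ({z} : Set G)} (hx : x ∈ Qf D (UU D C)) (hy : y ∈ Qf D (UU D C))
    (hπ : π x = π y) (hn : nm xn x = nm xn y) : x = y := by
  rcases pi_eq D hx.1 hy.1 hπ with e | e
  · exact e.symm
  · exfalso
    rw [e, ← zb_one D C, nm_mul D C hX (Qf_AA D C hX hx) (zb_AA D C hX 1), nm_zb D C hX, zb_one D C] at hn
    exact D.ext.ne_one (left_eq_mul.1 hn)

end Norms

/-- The product of the generators at the bits of a code. -/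
noncomputable def psi (g : ℕ → centralizer ({z} : Set G)) (i : ℕ) : centralizer ({z} : Set G) :=
  ((List.range 11).map fun j => if Nat.testBit i j then g j else 1).prod

theorem psi_zero (g : ℕ → centralizer ({z} : Set G)) : psi g 0 = 1 :=
  List.prod_eq_one fun x hx => by
    obtain ⟨j, -, rfl⟩ := List.mem_map.1 hx
    rw [if_neg (by simp)]

theorem psi_mem {g : ℕ → centralizer ({z} : Set G)} {B : Subgroup (centralizer ({z} : Set G))}
    (hg : ∀ j, g j ∈ B) (i : ℕ) : psi g i ∈ B :=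
  list_prod_mem fun x hx => by
    obtain ⟨j, -, rfl⟩ := List.mem_map.1 hx
    split_ifs
    · exact hg j
    · exact one_mem _

theorem psi_xor {g : ℕ → centralizer ({z} : Set G)} {B : Subgroup (centralizer ({z} : Set G))}
    (hB : EA B) (hg : ∀ j, g j ∈ B) (a b : ℕ) : psi g (Nat.xor a b) = psi g a * psi g b := by
  unfold psi
  have hmem : ∀ (i : ℕ) (j : ℕ), (if Nat.testBit i j then g j else 1) ∈ B := fun i j => by
    split_ifs
    · exact hg j
    · exact one_mem _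
  induction List.range 11 with
  | nil => simp
  | cons j l ih =>
    have hp : ∀ i, (l.map fun j => if Nat.testBit i j then g j else 1).prod ∈ B := fun i =>
      list_prod_mem fun x hx => by
        obtain ⟨k, -, rfl⟩ := List.mem_map.1 hx
        exact hmem i k
    rw [List.map_cons, List.map_cons, List.map_cons, List.prod_cons, List.prod_cons, List.prod_cons, ih]
    have e : (if Nat.testBit (Nat.xor a b) j then g j else 1) =
        (if Nat.testBit a j then g j else 1) * (if Nat.testBit b j then g j else 1) := by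
      rw [show Nat.xor a b = a ^^^ b from rfl, Nat.testBit_xor]
      cases Nat.testBit a j <;> cases Nat.testBit b j <;> simp [hB.1 _ (hg j)]
    rw [e, mul_assoc, ← mul_assoc _ (List.prod _) (List.prod _), hB.2 _ (hmem b j) _ (hp a)]
    group

theorem psi_pow (g : ℕ → centralizer ({z} : Set G)) : ∀ j < 11, psi g (2 ^ j) = g j := by
  intro j hj
  have e : ∀ k, (if Nat.testBit (2 ^ j) k then g k else 1) = if k = j then g j else 1 := fun k => by
    rw [Nat.testBit_two_pow]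
    by_cases hkj : k = j
    · subst hkj; simp
    · simp [hkj, Ne.symm hkj]
  unfold psi
  simp only [e]
  interval_cases j <;> simp [List.range_succ]

/-- A code and its parts. -/
theorem code_bits : ∀ b : Bool, ∀ u < 64, ∀ i < 16, code b u i < 2048 := by decide +kernel

theorem code_add : ∀ b c : Bool, ∀ i < 16, ∀ j < 16,
    Nat.xor (code b 0 i) (code c 0 j) = code (xor b c) 0 (Nat.xor i j) ∧ Nat.xor i j < 16 := by
  decide +kernel

theorem bits_six : ∀ u < 64, u ≠ 0 → Nat.xor (2 ^ Nat.log2 u) (Nat.xor u (2 ^ Nat.log2 u)) = u ∧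
    Nat.xor (2 * 2 ^ Nat.log2 u) (2 * Nat.xor u (2 ^ Nat.log2 u)) = 2 * u ∧
    Nat.xor u (2 ^ Nat.log2 u) < u ∧ 2 ^ Nat.log2 u < 64 ∧ Nat.log2 u < 6 := by decide +kernel

theorem bits_four : ∀ i < 16, i ≠ 0 → Nat.xor (2 ^ Nat.log2 i) (Nat.xor i (2 ^ Nat.log2 i)) = i ∧
    Nat.xor (128 * 2 ^ Nat.log2 i) (128 * Nat.xor i (2 ^ Nat.log2 i)) = 128 * i ∧
    Nat.xor i (2 ^ Nat.log2 i) < i ∧ 2 ^ Nat.log2 i < 16 ∧ Nat.log2 i < 4 ∧
    Nat.shiftLeft 1 (Nat.log2 i) = 2 ^ Nat.log2 i := by decide +kernel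

theorem eidx_zero : eIdx 0 = 0 ∧ uCode 0 = 0 := by decide +kernel

theorem base_facts : (∀ i < 16, eIdx i ∈ eOne ∧ ∀ j < 16, eIdx (Nat.xor i j) = tab (eIdx i) (eIdx j) ∧
      (eIdx i = eIdx j → i = j)) ∧
    (∀ e ∈ eOne, ∃ i < 16, eIdx i = e) ∧
    (∀ u < 64, uIdx (uCode u) = u ∧ uCode u ∈ uList ∧
      ∀ w < 64, uCode (Nat.xor u w) = Nat.xor (uCode u) (uCode w)) ∧
    (∀ c ∈ uList, uIdx c < 64 ∧ uCode (uIdx c) = c) ∧
    (∀ j < 6, uCode (2 ^ j) = ub.getD j 0) ∧ (∀ j < 4, eIdx (2 ^ j) = eb.getD j 0) := by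
  have h := base_ok
  simp only [baseOK, Bool.and_eq_true] at h
  obtain ⟨⟨⟨⟨⟨h1, h2⟩, h3⟩, h4⟩, h5⟩, h6⟩ := h
  have hs : ∀ j, Nat.shiftLeft 1 j = 2 ^ j := fun j => Nat.one_shiftLeft j
  refine ⟨fun i hi => ?_, fun e he => ?_, fun u hu => ?_, fun c hc => ?_, fun j hj => ?_, fun j hj => ?_⟩
  · have a := allBelow_spec h1 i hi
    simp only [Bool.and_eq_true, mem_iff] at a
    refine ⟨a.1, fun j hj => ?_⟩
    have b := allBelow_spec a.2 j hj
    simp only [Bool.and_eq_true, Nat.beq_eq, Bool.or_eq_true, Bool.not_eq_true'] at b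
    refine ⟨b.1, fun e => ?_⟩
    rcases b.2 with b2 | b2
    · rw [Bool.eq_false_iff] at b2; exact absurd (by rw [Nat.beq_eq]; exact e) b2
    · exact b2
  · simp only [List.all_eq_true, List.any_eq_true, List.mem_range, Nat.beq_eq] at h2
    exact h2 e he
  · have a := allBelow_spec h3 u hu
    simp only [Bool.and_eq_true, Nat.beq_eq, mem_iff] at a
    exact ⟨a.1.1, a.1.2, fun w hw => Nat.eq_of_beq_eq_true (allBelow_spec a.2 w hw)⟩
  · simp only [List.all_eq_true, Bool.and_eq_true, Nat.blt_eq, Nat.beq_eq] at h4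
    exact h4 c hc
  · rw [← hs]; exact Nat.eq_of_beq_eq_true (allBelow_spec h5 j hj)
  · rw [← hs]; exact Nat.eq_of_beq_eq_true (allBelow_spec h6 j hj)

/-- Generators of the subgroup adapted to the coordinates. -/
structure Gens (D : Data z Q zc π ρ q n Mb) (C : Coord h ρ q n Mb ν Φ) (xn : centralizer ({z} : Set G))
    (g : ℕ → centralizer ({z} : Set G)) : Prop where
  mem : ∀ j, g j ∈ AA D C
  g0 : g 0 = zc
  gu : ∀ j < 6, g (1 + j) ∈ Qf D (UU D C) ∧ π (g (1 + j)) = nc s ν (ub.getD j 0) ∧ nm xn (g (1 + j)) = 1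
  ge : ∀ j < 4, xn * g (7 + j) * xn⁻¹ = g (7 + j) ∧
    QuotientGroup.mk' Q (g (7 + j)) = tau h Φ (eb.getD j 0) ∧ RR (g (7 + j))

section Parts

include D C

variable {xn : centralizer ({z} : Set G)} (hX : XN Q n zc xn)
include hX

theorem exists_gens (hF : Cfsg.IsOfLargeFischerTypeAt z Q) : ∃ g, Gens D C xn g := by
  classical
  obtain ⟨-, he, hu, -, hub, heb⟩ := base_facts
  have h1 : ∀ j : Fin 6, ∃ x ∈ Qf D (UU D C), π x = nc s ν (ub.getD j 0) ∧ nm xn x = 1 := fun j => by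
    refine exists_wlift D C hX ((mem_Fix_E1 (hyp D) C).2 ⟨_, ?_, rfl⟩)
    rw [← hub j j.2]
    exact (hu _ (by
      calc 2 ^ (j : ℕ) < 2 ^ 6 := Nat.pow_lt_pow_right (by norm_num) j.2
        _ = 64 := by norm_num)).2.1
  have h2 : ∀ j : Fin 4, ∃ x ∈ AA D C, xn * x * xn⁻¹ = x ∧
      QuotientGroup.mk' Q x = tau h Φ (eb.getD j 0) ∧ RR x := fun j => by
    have hj : (2 : ℕ) ^ (j : ℕ) < 16 := by
      calc 2 ^ (j : ℕ) < 2 ^ 4 := Nat.pow_lt_pow_right (by norm_num) j.2
        _ = 16 := by norm_num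
    have hne : eb.getD j 0 ≠ 0 := by
      rw [← heb j j.2]
      intro e
      have := ((base_facts.1 _ hj).2 0 (by norm_num)).2 (e.trans eidx_zero.1.symm)
      exact (Nat.two_pow_pos (j : ℕ)).ne' this
    obtain ⟨x, hx, a1, a2, a3, -⟩ := rlift D C hX hF (heb j j.2 ▸ (base_facts.1 _ hj).1) hne
    exact ⟨x, hx, a1, a2, a3⟩
  choose f1 hf1 using h1
  choose f2 hf2 using h2
  refine ⟨fun j => if j = 0 then zc else if h1 : j - 1 < 6 then f1 ⟨j - 1, h1⟩
    else if h2 : j - 7 < 4 then f2 ⟨j - 7, h2⟩ else 1, fun j => ?_, rfl, fun j hj => ?_, fun j hj => ?_⟩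
  · split_ifs
    · exact zc_mem D C
    · exact Qf_AA D C hX (hf1 _).1
    · exact (hf2 _).1
    · exact one_mem _
  · rw [if_neg (by omega), dif_pos (show 1 + j - 1 < 6 by omega)]
    have : (⟨1 + j - 1, show 1 + j - 1 < 6 by omega⟩ : Fin 6) = ⟨j, hj⟩ := Fin.ext (by simp)
    rw [this]
    exact hf1 _
  · rw [if_neg (by omega), dif_neg (show ¬ 7 + j - 1 < 6 by omega), dif_pos (show 7 + j - 7 < 4 by omega)]
    have : (⟨7 + j - 7, show 7 + j - 7 < 4 by omega⟩ : Fin 4) = ⟨j, hj⟩ := Fin.ext (by simp)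
    rw [this]
    exact (hf2 _).2

variable {g : ℕ → centralizer ({z} : Set G)} (hg : Gens D C xn g)
include hg

theorem psiA (i : ℕ) : psi g i ∈ AA D C := psi_mem hg.mem i

theorem psiX (a b : ℕ) : psi g (Nat.xor a b) = psi g a * psi g b :=
  psi_xor (AA_facts D C).1 hg.mem a b

theorem psi_u : ∀ u < 64, psi g (2 * u) ∈ Qf D (UU D C) ∧ π (psi g (2 * u)) = nc s ν (uCode u) ∧
    nm xn (psi g (2 * u)) = 1 := by
  intro u
  induction u using Nat.strong_induction_on with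
  | _ u ih =>
    intro hu
    rcases eq_or_ne u 0 with rfl | h0
    · rw [mul_zero, psi_zero]
      refine ⟨one_mem _, by rw [pi_one D, eidx_zero.2, nc_zero (hyp D) C], ?_⟩
      simp [nm]
    · obtain ⟨e1, e2, hlt, hb, hl⟩ := bits_six u hu h0
      obtain ⟨a1, a2, a3⟩ := ih _ hlt (hlt.trans hu)
      have hp : psi g (2 * 2 ^ Nat.log2 u) = g (1 + Nat.log2 u) := by
        rw [← pow_succ', psi_pow g _ (by omega), add_comm]
      obtain ⟨b1, b2, b3⟩ := hg.gu _ hl
      rw [← e2, psiX D C hX hg, hp]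
      refine ⟨mul_mem b1 a1, ?_, ?_⟩
      · rw [D.link.add _ b1.1 _ a1.1, b2, a2, ← base_facts.2.2.2.2.1 _ hl]
        conv_rhs => rw [← e1, (base_facts.2.2.1 _ hb).2.2 _ (hlt.trans hu)]
        rw [nc, nc, nc, vec_xor h, C.add]
      · rw [nm_mul D C hX (Qf_AA D C hX b1) (Qf_AA D C hX a1), b3, a3, one_mul]

theorem psi_e : ∀ i < 16, xn * psi g (128 * i) * xn⁻¹ = psi g (128 * i) ∧
    QuotientGroup.mk' Q (psi g (128 * i)) = tau h Φ (eIdx i) := by
  intro i
  induction i using Nat.strong_induction_on with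
  | _ i ih =>
    intro hi
    rcases eq_or_ne i 0 with rfl | h0
    · rw [mul_zero, psi_zero, eidx_zero.1, tau_zero (hyp D) C, map_one]
      exact ⟨by group, rfl⟩
    · obtain ⟨e1, e2, hlt, hb, hl, -⟩ := bits_four i hi h0
      obtain ⟨a1, a2⟩ := ih _ hlt (hlt.trans hi)
      have hp : psi g (128 * 2 ^ Nat.log2 i) = g (7 + Nat.log2 i) := by
        rw [show 128 * 2 ^ Nat.log2 i = 2 ^ (7 + Nat.log2 i) by rw [pow_add]; norm_num,
          psi_pow g _ (by omega)]
      obtain ⟨b1, b2, -⟩ := hg.ge _ hl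
      rw [← e2, psiX D C hX hg, hp]
      refine ⟨?_, ?_⟩
      · conv_rhs => rw [← b1, ← a1]
        group
      · obtain ⟨hm, ht⟩ := base_facts.1 _ hb
        have hmk := base_facts.1 _ (hlt.trans hi)
        rw [map_mul, b2, a2, ← base_facts.2.2.2.2.2 _ hl,
          (tau_mul (hyp D) C (eOne_list.2.2 _ hm) (eOne_list.2.2 _ hmk.1)).2, ← (ht _ (hlt.trans hi)).1, e1]

theorem psi_code (b : Bool) (u i : ℕ) :
    psi g (code b u i) = zb zc (bn b : ℕ) * psi g (2 * u) * psi g (128 * i) := by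
  show psi g (Nat.xor (Nat.xor (bn b) (2 * u)) (128 * i)) = _
  rw [psiX D C hX hg, psiX D C hX hg]
  congr 2
  cases b
  · rw [show bn false = 0 from rfl, psi_zero, Nat.cast_zero, zb_zero D C]
  · rw [show bn true = 2 ^ 0 from rfl, psi_pow g 0 (by norm_num), hg.g0, pow_zero, Nat.cast_one, zb_one D C]

theorem psi_code0 (b : Bool) (i : ℕ) :
    psi g (code b 0 i) = zb zc (bn b : ℕ) * psi g (128 * i) := by
  rw [psi_code D C hX hg, mul_zero, psi_zero, mul_one]

/-- The lifts with the given image which are fixed by the element of order three. -/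
theorem code0_spec {b : Bool} {i : ℕ} (hi : i < 16) :
    xn * psi g (code b 0 i) * xn⁻¹ = psi g (code b 0 i) ∧
      QuotientGroup.mk' Q (psi g (code b 0 i)) = tau h Φ (eIdx i) := by
  obtain ⟨a1, a2⟩ := psi_e D C hX hg i hi
  rw [psi_code0 D C hX hg]
  refine ⟨?_, by rw [map_mul, mk_Q D C (zb_mem D C _).1, one_mul, a2]⟩
  rw [← mul_assoc, zb_central D C _ xn, mul_assoc, mul_assoc, ← mul_assoc xn, a1]

end Parts

/-- The sign making the fixed lift not conjugate to the central involution. -/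
noncomputable def sigT (g : ℕ → centralizer ({z} : Set G)) (i : ℕ) : Bool :=
  if RR (psi g (code false 0 i)) then false else true

section Signs

include D C

variable {xn : centralizer ({z} : Set G)} (hX : XN Q n zc xn)
  {g : ℕ → centralizer ({z} : Set G)} (hg : Gens D C xn g)
  (hF : Cfsg.IsOfLargeFischerTypeAt z Q)
include hX hg hF

theorem RR_sig {i : ℕ} (hi : i < 16) : RR (psi g (code (sigT g i) 0 i)) := by
  by_cases h0 : RR (psi g (code false 0 i))
  · rwa [sigT, if_pos h0]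
  · rw [sigT, if_neg h0]
    rcases eq_or_ne i 0 with rfl | hne
    · exfalso
      refine h0 ?_
      rw [show code false 0 0 = 0 from rfl, psi_zero]
      exact fun e => (lhyp D).ne_one (isConj_one_left.1 e)
    · obtain ⟨hm, ht⟩ := base_facts.1 i hi
      have hne' : eIdx i ≠ 0 := fun e => hne ((ht 0 (by norm_num)).2 (e.trans eidx_zero.1.symm))
      obtain ⟨a, -, hfa, hae, hRa, -⟩ := rlift D C hX hF hm hne'
      obtain ⟨f1, f2⟩ := code0_spec D C hX hg (b := false) hi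
      have hQ : (psi g (code false 0 i))⁻¹ * a ∈ Q := QuotientGroup.eq.1 (f2.trans hae.symm)
      have hfix : xn * ((psi g (code false 0 i))⁻¹ * a) * xn⁻¹ = (psi g (code false 0 i))⁻¹ * a := by
        calc xn * ((psi g (code false 0 i))⁻¹ * a) * xn⁻¹
            = (xn * psi g (code false 0 i) * xn⁻¹)⁻¹ * (xn * a * xn⁻¹) := by group
          _ = _ := by rw [f1, hfa]
      rcases hX.cent _ hQ hfix with e | e
      · exact absurd ((inv_mul_eq_one.1 e).symm ▸ hRa) h0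
      · have e1 := eq_mul_of_inv_mul_eq e
        rw [psi_code0 D C hX hg, show (bn true : ℕ) = 1 from rfl, Nat.cast_one, zb_one D C,
          ← D.zc_central]
        rw [psi_code0 D C hX hg, show (bn false : ℕ) = 0 from rfl, Nat.cast_zero, zb_zero D C, one_mul] at e1
        exact e1 ▸ hRa

theorem sig_basis {j : ℕ} (hj : j < 4) : sigT g (2 ^ j) = false := by
  have e : psi g (code false 0 (2 ^ j)) = g (7 + j) := by
    rw [psi_code0 D C hX hg, show (bn false : ℕ) = 0 from rfl, Nat.cast_zero, zb_zero D C, one_mul,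
      show 128 * 2 ^ j = 2 ^ (7 + j) by rw [pow_add]; norm_num, psi_pow g _ (by omega)]
  rw [sigT, if_pos (e ▸ (hg.ge j hj).2.2)]

theorem mats_real {k : ℕ} (hk : k < 10) :
    ∃ m ∈ Mb, ∀ v, op ρ m (ν v) = ν (matOf s (mats.getD k 0) *ᵥ v) := by
  have hlen : trC.length = 3 := tv_len.2
  rcases Nat.lt_or_ge k 3 with hk3 | hk3
  · have h1 := trans_ok
    simp only [transOK, Bool.and_eq_true] at h1
    have h2 := allBelow_spec h1.1 k hk3
    simp only [Bool.and_eq_true, Nat.beq_eq, List.all_eq_true, List.any_eq_true] at h2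
    obtain ⟨m, hm, hmv⟩ := exists_word (hyp D) C (w := trWord.getD k [])
      (by rw [List.all_eq_true]; exact h2.1.1)
    rw [h2.1.2] at hmv
    refine ⟨m, hm, fun v => ?_⟩
    rw [hmv, mats, List.getD_append _ _ _ _ (hlen.symm ▸ hk3)]
  · have hb : 2 ^ (k - 3) < 128 := by
      calc 2 ^ (k - 3) < 2 ^ 7 := Nat.pow_lt_pow_right (by norm_num) (by omega)
        _ = 128 := rfl
    refine ⟨_, tau_mem (hyp D) C hb, fun v => ?_⟩
    rw [op_tau (hyp D) C hb, mats, List.getD_append_right _ _ _ _ (hlen.symm ▸ hk3), hlen,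
      (sylGen_el (k - 3) (by omega)).1]

theorem perm_spec {k : ℕ} (hk : k < 10) {i : ℕ} (hi : i < 16) :
    (perms.getD k []).getD i 0 < 16 ∧
      mulM (mats.getD k 0) (el (eIdx i)) = mulM (el (eIdx ((perms.getD k []).getD i 0))) (mats.getD k 0) ∧
      ∀ j < 16, (perms.getD k []).getD (Nat.xor i j) 0 =
        Nat.xor ((perms.getD k []).getD i 0) ((perms.getD k []).getD j 0) := by
  have h0 := perm_ok
  simp only [permOK, Bool.and_eq_true] at h0
  have h1 := allBelow_spec (allBelow_spec h0.1 k hk) i hi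
  simp only [Bool.and_eq_true, Nat.blt_eq, Nat.beq_eq] at h1
  exact ⟨h1.1.1, h1.1.2, fun j hj => Nat.eq_of_beq_eq_true (allBelow_spec h1.2 j hj)⟩

/-- The plane signs are invariant. -/
theorem tt_inv {k : ℕ} (hk : k < 10) {a b : ℕ} (ha : a < 16) (hb : b < 16) :
    let p := fun i => (perms.getD k []).getD i 0
    xor (sigT g (p a)) (xor (sigT g (p b)) (sigT g (Nat.xor (p a) (p b)))) =
      xor (sigT g a) (xor (sigT g b) (sigT g (Nat.xor a b))) := by
  intro p
  obtain ⟨m, hm, hmv⟩ := mats_real D C hX hg hF hk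
  obtain ⟨m, rfl⟩ := QuotientGroup.mk'_surjective Q m
  obtain ⟨y, hy, hyx⟩ := centralizing D C hX (g := m) (D.comm_n _ hm)
  set t := y * m with ht
  have hmk : QuotientGroup.mk' Q t = QuotientGroup.mk' Q m := by
    rw [ht, map_mul, mk_Q D C hy, one_mul]
  have htNA : t ∈ NA D C := by
    rw [NA, Subgroup.mem_comap, hmk]
    refine word_normalizer (hyp D) C hmv fun e he => ?_
    obtain ⟨i, hi, rfl⟩ := base_facts.2.1 e he
    obtain ⟨h1, h2, -⟩ := perm_spec D C hX hg hF hk hi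
    exact ⟨_, (base_facts.1 _ h1).1, h2⟩
  have hconjE : ∀ i < 16, QuotientGroup.mk' Q t * tau h Φ (eIdx i) * (QuotientGroup.mk' Q t)⁻¹ =
      tau h Φ (eIdx (p i)) := by
    intro i hi
    obtain ⟨hp, hpe, -⟩ := perm_spec D C hX hg hF hk hi
    rw [hmk, mul_inv_eq_iff_eq_mul]
    refine ext_op (hyp D) C fun v => ?_
    rw [rho_mul, rho_mul, op_tau (hyp D) C (eOne_list.2.2 _ (base_facts.1 i hi).1), hmv, hmv,
      op_tau (hyp D) C (eOne_list.2.2 _ (base_facts.1 _ hp).1), Matrix.mulVec_mulVec,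
      Matrix.mulVec_mulVec, ← matOf_mul h, hpe, matOf_mul h]
  have hone : ∀ i < 16, tau h Φ (eIdx i) = 1 → i = 0 := by
    intro i hi e
    refine ((base_facts.1 i hi).2 0 (by norm_num)).2 ((tau_inj (hyp D) C
      (eOne_list.2.2 _ (base_facts.1 i hi).1) (by norm_num)
      (e.trans (tau_zero (hyp D) C).symm)).trans eidx_zero.1.symm)
  have hsig0 : psi g (code (sigT g 0) 0 0) = 1 := by
    have : sigT g 0 = false := by
      rw [sigT, if_pos]
      rw [show code false 0 0 = 0 from rfl, psi_zero]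
      exact fun e => (lhyp D).ne_one (isConj_one_left.1 e)
    rw [this, show code false 0 0 = 0 from rfl, psi_zero]
  have hmove : ∀ i < 16, t * psi g (code (sigT g i) 0 i) * t⁻¹ = psi g (code (sigT g (p i)) 0 (p i)) := by
    intro i hi
    have hp := (perm_spec D C hX hg hF hk hi).1
    rcases eq_or_ne i 0 with rfl | hne
    · have h1 := hconjE 0 (by norm_num)
      rw [eidx_zero.1, tau_zero (hyp D) C, mul_one, mul_inv_cancel] at h1
      rw [show p 0 = 0 from hone _ hp h1.symm, hsig0]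
      group
    · obtain ⟨f1, f2⟩ := code0_spec D C hX hg (b := sigT g i) hi
      obtain ⟨g1, g2⟩ := code0_spec D C hX hg (b := sigT g (p i)) hp
      have hne' : eIdx (p i) ≠ 0 := fun e => hne (hone i hi (by
        have h1 := hconjE i hi
        rw [e, tau_zero (hyp D) C, conj_eq_one_iff] at h1
        exact h1))
      refine rlift_unique D C hX hF (base_facts.1 _ hp).1 hne' ?_ g1 ?_ g2
        ((RR_rel D C hX ⟨t, htNA, rfl⟩).1 (RR_sig D C hX hg hF hi)) (RR_sig D C hX hg hF hp)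
      · calc xn * (t * psi g (code (sigT g i) 0 i) * t⁻¹) * xn⁻¹
            = t * xn * t⁻¹ * (t * psi g (code (sigT g i) 0 i) * t⁻¹) * (t * xn * t⁻¹)⁻¹ := by rw [hyx]
          _ = t * (xn * psi g (code (sigT g i) 0 i) * xn⁻¹) * t⁻¹ := by group
          _ = _ := by rw [f1]
      · rw [map_mul, map_mul, map_inv, f2, hconjE i hi]
  obtain ⟨hpa, -, hpal⟩ := perm_spec D C hX hg hF hk ha
  obtain ⟨hpb, -, -⟩ := perm_spec D C hX hg hF hk hb
  have hab := (code_add false false a ha b hb).2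
  have key : ∀ x < 16, ∀ y < 16, psi g (code (sigT g x) 0 x) * psi g (code (sigT g y) 0 y) *
      psi g (code (sigT g (Nat.xor x y)) 0 (Nat.xor x y)) =
        zb zc ((bn (xor (sigT g x) (xor (sigT g y) (sigT g (Nat.xor x y)))) : ℕ)) := by
    intro x hx y hy
    obtain ⟨c1, c1'⟩ := code_add (sigT g x) (sigT g y) x hx y hy
    obtain ⟨c2, -⟩ := code_add (xor (sigT g x) (sigT g y)) (sigT g (Nat.xor x y)) _ c1' _ c1'
    rw [← psiX D C hX hg, c1, ← psiX D C hX hg, c2,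
      show Nat.xor (Nat.xor x y) (Nat.xor x y) = 0 from Nat.xor_self _, psi_code0 D C hX hg,
      mul_zero, psi_zero, mul_one, Bool.xor_assoc]
  have e1 := key a ha b hb
  have e2 := congrArg (fun w => t * w * t⁻¹) e1
  rw [show ∀ X Y W : centralizer ({z} : Set G), t * (X * Y * W) * t⁻¹ =
      t * X * t⁻¹ * (t * Y * t⁻¹) * (t * W * t⁻¹) from fun X Y W => by group,
    hmove a ha, hmove b hb, hmove _ hab, show p (Nat.xor a b) = Nat.xor (p a) (p b) from hpal b hb,
    key _ hpa _ hpb, zb_central D C _ t, mul_inv_cancel_right] at e2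
  have hbool : ∀ u v : Bool, zb zc ((bn u : ℕ)) = zb zc ((bn v : ℕ)) → u = v := by
    intro u v e
    cases u <;> cases v <;> simp only [bn, cond_true, cond_false, Nat.cast_zero, Nat.cast_one,
      zb_zero D C, zb_one D C] at e ⊢
    · exact absurd e.symm D.ext.ne_one
    · exact absurd e D.ext.ne_one
  exact hbool _ _ e2

theorem tt_const {l : List (ℕ × ℕ × ℕ × ℕ)} (hl : LFCoordCheck89.stepOK l = true)
    (hlt : ∀ p ∈ l, p.1 < 16 ∧ p.2.1 < 16) : ∀ p ∈ l,
    xor (sigT g p.1) (xor (sigT g p.2.1) (sigT g (Nat.xor p.1 p.2.1))) =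
      (let p0 := l.getD 0 (0, 0, 0, 0)
       xor (sigT g p0.1) (xor (sigT g p0.2.1) (sigT g (Nat.xor p0.1 p0.2.1)))) := by
  have key : ∀ m, m < l.length →
      xor (sigT g (l.getD m (0, 0, 0, 0)).1) (xor (sigT g (l.getD m (0, 0, 0, 0)).2.1)
        (sigT g (Nat.xor (l.getD m (0, 0, 0, 0)).1 (l.getD m (0, 0, 0, 0)).2.1))) =
      xor (sigT g (l.getD 0 (0, 0, 0, 0)).1) (xor (sigT g (l.getD 0 (0, 0, 0, 0)).2.1)
        (sigT g (Nat.xor (l.getD 0 (0, 0, 0, 0)).1 (l.getD 0 (0, 0, 0, 0)).2.1))) := by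
    intro m
    induction m using Nat.strong_induction_on with
    | _ m ih =>
      intro hm
      rcases eq_or_ne m 0 with rfl | h0
      · rfl
      · rw [LFCoordCheck89.stepOK] at hl
        have h1 := allBelow_spec hl m hm
        rcases e : l.getD m (0, 0, 0, 0) with ⟨a, b, gi, p⟩
        rw [e, Bool.or_eq_true, Nat.beq_eq] at h1
        have h1' := h1.resolve_left h0
        dsimp only at h1'
        rcases e' : l.getD p (0, 0, 0, 0) with ⟨a', b', g', p'⟩
        rw [e'] at h1'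
        dsimp only at h1'
        simp only [Nat.beq_eq, Bool.and_eq_true, Nat.blt_eq] at h1'
        obtain ⟨⟨hpm, hgi⟩, ⟨⟨h2, h3⟩, h4⟩, h5⟩ := h1'
        have := ih p hpm (hpm.trans hm)
        rw [e'] at this
        rw [h2, h3, tt_inv D C hX hg hF hgi h4 h5]
        exact this
  intro p hp
  obtain ⟨m, hm, rfl⟩ := List.mem_iff_getElem.1 hp
  have := key m hm
  rwa [List.getD_eq_getElem _ _ hm] at this

/-- The sign function is one of the four candidates. -/
theorem exists_sig : ∃ k < 4, ∀ i < 16, sigT g i = sig k i := by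
  have hlt0 : ∀ p ∈ orb0, p.1 < 16 ∧ p.2.1 < 16 := by decide +kernel
  have hlt1 : ∀ p ∈ orb1, p.1 < 16 ∧ p.2.1 < 16 := by decide +kernel
  set t0 := (let p0 := orb0.getD 0 (0, 0, 0, 0)
    xor (sigT g p0.1) (xor (sigT g p0.2.1) (sigT g (Nat.xor p0.1 p0.2.1)))) with ht0
  set t1 := (let p0 := orb1.getD 0 (0, 0, 0, 0)
    xor (sigT g p0.1) (xor (sigT g p0.2.1) (sigT g (Nat.xor p0.1 p0.2.1)))) with ht1
  have hbits : ∀ a b : Bool, 2 * bn a + bn b < 4 ∧ Nat.testBit (2 * bn a + bn b) 0 = b ∧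
      Nat.testBit (2 * bn a + bn b) 1 = a := by decide +kernel
  obtain ⟨hk4, hk0, hk1⟩ := hbits t0 t1
  set k := 2 * bn t0 + bn t1
  refine ⟨k, hk4, ?_⟩
  have hc := cls_ok
  simp only [clsOK, Bool.and_eq_true] at hc
  have hk := allBelow_spec hc.2 k hk4
  simp only [Bool.and_eq_true, Bool.not_eq_true'] at hk
  intro i
  induction i using Nat.strong_induction_on with
  | _ i ih =>
    intro hi
    rcases eq_or_ne i 0 with rfl | h0
    · rw [hk.1, sigT, if_pos]
      rw [show code false 0 0 = 0 from rfl, psi_zero]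
      exact fun e => (lhyp D).ne_one (isConj_one_left.1 e)
    · obtain ⟨e1, -, hlt, hb, hl, hsh⟩ := bits_four i hi h0
      have h2 := allBelow_spec hk.2 i hi
      rw [hsh] at h2
      have h3 := allBelow_spec hc.1 i hi
      rw [hsh] at h3
      by_cases hi2 : 2 ^ Nat.log2 i = i
      · rw [show Nat.beq (2 ^ Nat.log2 i) i = true by rw [Nat.beq_eq]; exact hi2, cond_true,
          Bool.or_eq_true, Nat.beq_eq] at h2
        have hs := h2.resolve_left h0
        rw [Bool.not_eq_true'] at hs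
        rw [hs, ← hi2, sig_basis D C hX hg hF hl]
      · have hbf : Nat.beq (2 ^ Nat.log2 i) i = false := by
          rw [Bool.eq_false_iff]
          intro e
          exact hi2 (Nat.eq_of_beq_eq_true e)
        rw [hbf, cond_false, Bool.or_eq_true, Nat.beq_eq] at h2
        have hs := h2.resolve_left h0
        rw [Bool.or_eq_true, Bool.or_eq_true, Nat.beq_eq, hbf, List.any_eq_true] at h3
        obtain ⟨p, hp, hpe⟩ := (h3.resolve_left (by simp [h0]))
        rw [Bool.and_eq_true, Nat.beq_eq, Nat.beq_eq] at hpe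
        have hbase : sigT g (2 ^ Nat.log2 i) = sig k (2 ^ Nat.log2 i) :=
          ih _ (lt_of_le_of_ne (Nat.log2_self_le h0) hi2) (lt_of_le_of_lt (Nat.log2_self_le h0) hi)
        have hrest := ih _ hlt (hlt.trans hi)
        cases hcl : cls.getD i false <;> rw [hcl] at hp hs <;>
          simp only [cond_true, cond_false] at hp hs
        · have ht := tt_const D C hX hg hF step0_ok hlt0 p hp
          rw [hpe.1, hpe.2, e1, ← ht0, hbase, hrest] at ht
          rw [hk1, ← ht] at hs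
          revert hs
          cases sigT g i <;> cases sig k i <;> cases sig k (2 ^ Nat.log2 i) <;>
            cases sig k (Nat.xor i (2 ^ Nat.log2 i)) <;> decide
        · have ht := tt_const D C hX hg hF step1_ok hlt1 p hp
          rw [hpe.1, hpe.2, e1, ← ht1, hbase, hrest] at ht
          rw [hk0, ← ht] at hs
          revert hs
          cases sigT g i <;> cases sig k i <;> cases sig k (2 ^ Nat.log2 i) <;>
            cases sig k (Nat.xor i (2 ^ Nat.log2 i)) <;> decide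

theorem polB_nc (a b : ℕ) : pol q (nc s ν a) (nc s ν b) = ((bn (polB a b) : ℕ) : ZMod 2) := by
  have hadd : nc s ν a + nc s ν b = nc s ν (Nat.xor a b) := by rw [nc, nc, nc, vec_xor h, C.add]
  unfold pol polB
  rw [hadd, q_nc (hyp D) C, q_nc (hyp D) C, q_nc (hyp D) C]
  cases qpar (Nat.xor a b) <;> cases qpar a <;> cases qpar b <;> simp [bn] <;> decide

theorem u18_RR {x : centralizer ({z} : Set G)} (hx : x ∈ Q) (hc : ∃ c ∈ u18, π x = nc s ν c) : RR x := by
  classical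
  obtain ⟨-, -, -, -, -, -, -, -, h36, -⟩ := classes D C hF
  obtain ⟨hn18, hn45, hl18, hl45, hcases, h18, h45⟩ := orb_facts
  have h5 : (5 : ℕ) ∈ u18 := by decide +kernel
  have h85 : (85 : ℕ) ∈ u45 := by decide +kernel
  obtain ⟨x5, hx5, e5⟩ := D.link.surj (nc s ν 5)
  obtain ⟨x85, hx85, e85⟩ := D.link.surj (nc s ν 85)
  have r18 : ∀ y ∈ Q, (∃ c ∈ u18, π y = nc s ν c) → (RR y ↔ RR x5) := fun y hy ⟨c, hc, e⟩ =>
    (RR_rel D C hX (rel_list D C h18 (fun _ hc' => trans18 (hyp D) C hc') hx5 hy e5 hc e)).symm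
  have r45 : ∀ y ∈ Q, (∃ c ∈ u45, π y = nc s ν c) → (RR y ↔ RR x85) := fun y hy ⟨c, hc, e⟩ =>
    (RR_rel D C hX (rel_list D C h45 (fun _ hc' => trans45 (hyp D) C hc') hx85 hy e85 hc e)).symm
  by_contra hno
  have h5R : ¬ RR x5 := fun e => hno ((r18 x hx hc).2 e)
  set T := {w | w ∈ AA D C ∧ w ∈ Q ∧ ¬ IsConj z (w : G) ∧ w ≠ 1} with hT
  have hT45 : ∀ w ∈ T, ∃ c ∈ u45, π w = nc s ν c := by
    rintro w ⟨hwA, hwQ, hwR, hw1⟩
    obtain ⟨c, hc', e⟩ := (mem_Fix_E1 (hyp D) C).1 ((mem_AA_Q D C hwQ).1 hwA)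
    rcases hcases c hc' with rfl | hc'' | hc''
    · rw [nc_zero (hyp D) C] at e
      rcases (D.link.ker w hwQ).1 e with e1 | e1
      · exact absurd e1 hw1
      · exact absurd (by rw [e1, D.zc_val] : IsConj z (w : G)) hwR
    · exact absurd ((r18 w hwQ ⟨c, hc'', e⟩).1 hwR) h5R
    · exact ⟨c, hc'', e⟩
  obtain ⟨w, hw⟩ : T.Nonempty := Set.nonempty_of_ncard_ne_zero (by rw [h36]; norm_num)
  have h85R : RR x85 := (r45 w hw.2.1 (hT45 w hw)).1 hw.2.2.1
  have hsub : {y | y ∈ Q ∧ ∃ c ∈ u45, π y = nc s ν c} ⊆ T := by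
    rintro y ⟨hy, c, hc', e⟩
    refine ⟨(mem_AA_Q D C hy).2 (e ▸ (mem_Fix_E1 (hyp D) C).2 ⟨c, (h45 c hc').1, rfl⟩), hy,
      (r45 y hy ⟨c, hc', e⟩).2 h85R, fun e1 => ?_⟩
    rw [e1, pi_one D, ← nc_zero (hyp D) C] at e
    exact (h45 c hc').2 (nc_inj (hyp D) C (uList_spec (hyp D) C (h45 c hc').1).1 (by norm_num) e.symm)
  have := Set.ncard_le_ncard hsub (Set.toFinite _)
  rw [card_lifts D C hn45 (fun c hc' => (uList_spec (hyp D) C (h45 c hc').1).1), hl45, h36] at this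
  omega

/-- All codes of the candidate give involutions not conjugate to the central one. -/
theorem rlist_RR {k : ℕ} (hk : ∀ i < 16, sigT g i = sig k i) {x : ℕ} (hx : x ∈ rlist k) :
    RR (psi g x) := by
  obtain ⟨-, -, hu, hul, -, -⟩ := base_facts
  obtain ⟨-, -, -, -, -, h18, -⟩ := orb_facts
  have h18x : ∀ b : Bool, ∀ c ∈ u18, RR (psi g (code b (uIdx c) 0)) := by
    intro b c hc
    obtain ⟨hlt, heq⟩ := hul c (h18 c hc).1
    obtain ⟨a1, a2, -⟩ := psi_u D C hX hg (uIdx c) hlt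
    rw [psi_code D C hX hg, mul_zero, psi_zero, mul_one]
    refine u18_RR D C hX hg hF (mul_mem (zb_mem D C _).1 a1.1) ⟨c, hc, ?_⟩
    rw [D.link.add _ (zb_mem D C _).1 _ a1.1, (zb_mem D C _).2, zero_add, a2, heq]
  simp only [rlist, List.mem_append, List.mem_map, List.mem_flatMap, List.mem_range] at hx
  rcases hx with (⟨c, hc, rfl⟩ | ⟨c, hc, rfl⟩) | ⟨i, hi, y, hy, rfl⟩
  · exact h18x false c hc
  · exact h18x true c hc
  · have hy0 := ys_ok
    simp only [ysOK, Bool.and_eq_true] at hy0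
    have hy1 := allBelow_spec hy0.1 i hi
    simp only [List.all_eq_true, Bool.and_eq_true, Nat.blt_eq, mem_iff] at hy1
    obtain ⟨hy4, hv⟩ := hy1 y hy
    obtain ⟨f1, f2⟩ := code0_spec D C hX hg (b := sigT g i) hi
    have haA := psiA D C hX hg (code (sigT g i) 0 i)
    obtain ⟨yq, hyq, hyπ⟩ := D.link.surj (nc s ν y)
    set a := psi g (code (sigT g i) 0 i) with ha
    have hb : RR (yq * a * yq⁻¹) :=
      (RR_rel D C hX ⟨yq, Q_le_NA D C hyq, rfl⟩).1 (RR_sig D C hX hg hF hi)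
    obtain ⟨cA, cQ, cπ⟩ := comm_pi D C haA hyq
    have hnorm := comm_norm D C hX haA f1 hyq
    have hvec : op ρ (QuotientGroup.mk' Q a) (π yq) + π yq = nc s ν (pvec i y) := by
      rw [hyπ, f2, op_tau_nc (hyp D) C (eOne_list.2.2 _ (base_facts.1 i hi).1)]
      show _ = nc s ν (Nat.xor (app (el (eIdx i)) y) y)
      rw [nc, nc, nc, vec_xor h, C.add]
    rw [hvec] at cπ
    rw [hvec, hyπ] at hnorm
    have hscal : op ρ n (nc s ν y) = nc s ν (scal y) := by rw [nc, nc, vec_scal h hy4, C.scalar]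
    rw [hscal, polB_nc D C hX hg hF] at hnorm
    obtain ⟨hlt, heq⟩ := hul _ hv
    obtain ⟨a1, a2, a3⟩ := psi_u D C hX hg _ hlt
    have hd : zb zc ((bn (fbit i y) : ℕ)) * psi g (2 * uIdx (pvec i y)) = a * (yq * a * yq⁻¹) := by
      refine eq_of_norm D C hX ⟨mul_mem (zb_mem D C _).1 a1.1, ?_⟩ ⟨cQ, ?_⟩ ?_ ?_
      · rw [D.link.add _ (zb_mem D C _).1 _ a1.1, (zb_mem D C _).2, zero_add, a2]
        exact (mem_Fix_E1 (hyp D) C).2 ⟨_, (hu _ hlt).2.1, rfl⟩
      · rw [cπ]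
        exact (mem_Fix_E1 (hyp D) C).2 ⟨_, hv, rfl⟩
      · rw [D.link.add _ (zb_mem D C _).1 _ a1.1, (zb_mem D C _).2, zero_add, a2, heq, cπ]
      · rw [nm_mul D C hX (zb_AA D C hX _) (Qf_AA D C hX a1), nm_zb D C hX, a3, mul_one, hnorm]
        rfl
    have hcode : Nat.xor (code (sigT g i) 0 i) (code (fbit i y) (uIdx (pvec i y)) 0) =
        code (xor (fbit i y) (sig k i)) (uIdx (pvec i y)) i := by
      have : ∀ b c : Bool, ∀ u < 64, ∀ i < 16,
          Nat.xor (code b 0 i) (code c u 0) = code (xor c b) u i := by decide +kernel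
      rw [this _ _ _ hlt i hi, hk i hi]
    rw [← hcode, psiX D C hX hg, psi_code D C hX hg (fbit i y), mul_zero, psi_zero, mul_one, hd,
      ← mul_assoc, ← ha, AA_sq D C haA, one_mul]
    exact hb

end Signs

/-! ### The coordinates -/

section Main

include D C

theorem rlist_facts : ∀ k < 4, (rlist k).length = 276 ∧ (rlist k).Nodup ∧
    ∀ x ∈ rlist k, x < 2048 ∧ x ≠ 0 := by
  intro k hk
  have h0 := allBelow_spec list_ok k hk
  simp only [Bool.and_eq_true, Nat.beq_eq, decide_eq_true_eq, List.all_eq_true, Nat.blt_eq,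
    Bool.not_eq_true'] at h0
  refine ⟨h0.1.1, h0.1.2, fun x hx => ⟨(h0.2 x hx).1, fun e => ?_⟩⟩
  have := (h0.2 x hx).2
  rw [e] at this
  exact Bool.noConfusion this

theorem inR_iff {k x : ℕ} : inR k x = true ↔ x ∈ rlist k := by
  unfold inR
  induction rlist k with
  | nil => simp
  | cons a l ih =>
    rw [List.foldr_cons, List.mem_cons]
    rw [show ∀ m : ℕ, Nat.lor (Nat.shiftLeft 1 a) m = (1 <<< a) ||| m from fun m => rfl,
      Nat.testBit_lor, Bool.or_eq_true, ih, Nat.one_shiftLeft, Nat.testBit_two_pow, decide_eq_true_eq]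
    exact or_congr_left ⟨fun e => e.symm, fun e => e.symm⟩

/-- The subgroup has coordinates of eleven bits in which the involutions not conjugate to the central
one are the 276 listed codes. -/
theorem model (hF : Cfsg.IsOfLargeFischerTypeAt z Q) :
    ∃ Ψ : ℕ → G, (∀ a b, Ψ (Nat.xor a b) = Ψ a * Ψ b) ∧ (∀ i, Ψ i ∈ AG D C) ∧
      (∀ i < 2048, ∀ j < 2048, Ψ i = Ψ j → i = j) ∧ (∀ x ∈ AG D C, ∃ i < 2048, Ψ i = x) ∧
      ∀ x : G, (x ∈ AG D C ∧ x ≠ 1 ∧ ¬ IsConj z x) ↔ ∃ r ∈ rlist 1, Ψ r = x := by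
  classical
  obtain ⟨xn, hX⟩ := exists_xn D C
  obtain ⟨g, hg⟩ := exists_gens D C hX hF
  obtain ⟨hea, hcardA, hmap, -⟩ := AA_facts D C
  have hsurj : ∀ a ∈ AA D C, ∃ x < 2048, psi g x = a := by
    intro a ha
    obtain ⟨e, he, hea'⟩ : QuotientGroup.mk' Q a ∈ E1 (hyp D) C := hmap ▸ Subgroup.mem_map_of_mem _ ha
    obtain ⟨i, hi, rfl⟩ := base_facts.2.1 e he
    obtain ⟨-, e2⟩ := psi_e D C hX hg i hi
    set w := a * psi g (128 * i) with hw
    have hwA : w ∈ AA D C := mul_mem ha (psiA D C hX hg _)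
    have hwQ : w ∈ Q := by
      rw [← QuotientGroup.eq_one_iff]
      show QuotientGroup.mk' Q w = 1
      rw [hw, map_mul, e2, hea']
      exact (E1_ea (hyp D) C).1 _ ⟨_, he, rfl⟩
    obtain ⟨c, hc, hcw⟩ := (mem_Fix_E1 (hyp D) C).1 ((mem_AA_Q D C hwQ).1 hwA)
    obtain ⟨hlt, heq⟩ := base_facts.2.2.2.1 c hc
    obtain ⟨a1, a2, -⟩ := psi_u D C hX hg _ hlt
    have hfin : ∀ b : Bool, w = zb zc ((bn b : ℕ)) * psi g (2 * uIdx c) →
        ∃ x < 2048, psi g x = a := by
      intro b hb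
      refine ⟨code b (uIdx c) i, code_bits b _ hlt i hi, ?_⟩
      rw [psi_code D C hX hg, ← hb, hw, mul_assoc, AA_sq D C (psiA D C hX hg _), mul_one]
    rcases pi_eq D a1.1 hwQ (by rw [a2, heq, hcw]) with e | e
    · exact hfin false (by rw [e, show (bn false : ℕ) = 0 from rfl, Nat.cast_zero, zb_zero D C, one_mul])
    · exact hfin true (by rw [e, show (bn true : ℕ) = 1 from rfl, Nat.cast_one, zb_one D C, D.zc_central])
  have hinj : ∀ i < 2048, ∀ j < 2048, psi g i = psi g j → i = j := by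
    let f : Fin 2048 → AA D C := fun i => ⟨psi g i, psiA D C hX hg i⟩
    have hf : Function.Surjective f := fun a => by
      obtain ⟨x, hx, e⟩ := hsurj a a.2
      exact ⟨⟨x, hx⟩, Subtype.ext e⟩
    have hbij := (Nat.bijective_iff_surjective_and_card f).2 ⟨hf, by rw [hcardA, Nat.card_fin]; norm_num⟩
    intro i hi j hj e
    exact congrArg Fin.val (hbij.1 (show f ⟨i, hi⟩ = f ⟨j, hj⟩ from Subtype.ext e))
  let Ψ : ℕ → G := fun i => (psi g i : G)
  have hΨinj : ∀ i < 2048, ∀ j < 2048, Ψ i = Ψ j → i = j := fun i hi j hj e =>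
    hinj i hi j hj (Subtype.ext e)
  have hΨA : ∀ i, Ψ i ∈ AG D C := fun i => ⟨_, psiA D C hX hg i, rfl⟩
  have hΨx : ∀ a b, Ψ (Nat.xor a b) = Ψ a * Ψ b := fun a b =>
    congrArg (Subtype.val) (psiX D C hX hg a b)
  obtain ⟨k, hk4, hk⟩ := exists_sig D C hX hg hF
  obtain ⟨hlen, hnd, hbd⟩ := rlist_facts D C k hk4
  set R := {x : G | x ∈ AG D C ∧ x ≠ 1 ∧ ¬ IsConj z x} with hR
  have hsub : ∀ r ∈ rlist k, Ψ r ∈ R := fun r hr => by
    refine ⟨hΨA r, fun e => (hbd r hr).2 ?_, rlist_RR D C hX hg hF hk hr⟩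
    exact hΨinj r (hbd r hr).1 0 (by norm_num)
      (e.trans (show (1 : G) = Ψ 0 by simp only [Ψ, psi_zero]; rfl))
  have hRcard : R.ncard = 276 := by
    obtain ⟨-, -, -, -, -, -, -, -, h36, h240, -⟩ := classes D C hF
    have : R = Subtype.val '' ({x | x ∈ AA D C ∧ x ∈ Q ∧ ¬ IsConj z (x : G) ∧ x ≠ 1} ∪
        {x | x ∈ AA D C ∧ x ∉ Q ∧ ¬ IsConj z (x : G)}) := by
      ext x
      constructor
      · rintro ⟨⟨w, hw, rfl⟩, h1, hn⟩
        refine ⟨w, ?_, rfl⟩
        by_cases hwQ : w ∈ Q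
        · exact Or.inl ⟨hw, hwQ, hn, fun e => h1 (congrArg Subtype.val e)⟩
        · exact Or.inr ⟨hw, hwQ, hn⟩
      · rintro ⟨w, hw | hw, rfl⟩
        · exact ⟨⟨w, hw.1, rfl⟩, fun e => hw.2.2.2 (Subtype.ext e : w = (1 : centralizer ({z} : Set G))), hw.2.2.1⟩
        · exact ⟨⟨w, hw.1, rfl⟩, fun e => hw.2.1 ((Subtype.ext e : w = (1 : centralizer ({z} : Set G))) ▸ Q.one_mem), hw.2.2⟩
    rw [this, Set.ncard_image_of_injective _ Subtype.val_injective,
      Set.ncard_union_eq (Set.disjoint_left.2 fun w hw hw' => hw'.2.1 hw.2.1) (Set.toFinite _) (Set.toFinite _),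
      h36, h240]
  have himg : ∀ l : List ℕ, l.Nodup → (∀ r ∈ l, r < 2048) → (Ψ '' {r | r ∈ l}).ncard = l.length := by
    intro l hl hlb
    rw [show {r | r ∈ l} = (l.toFinset : Set ℕ) by ext; simp,
      Set.InjOn.ncard_image (fun i hi j hj e => hΨinj i (hlb i (List.mem_toFinset.1 hi)) j
        (hlb j (List.mem_toFinset.1 hj)) e), Set.ncard_coe_finset,
      List.toFinset_card_of_nodup hl]
  have hReq : R = Ψ '' {r | r ∈ rlist k} := by
    refine (Set.eq_of_subset_of_ncard_le ?_ ?_ (Set.toFinite _)).symm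
    · rintro _ ⟨r, hr, rfl⟩; exact hsub r hr
    · rw [himg _ hnd (fun r hr => (hbd r hr).1), hlen, hRcard]
  -- the valency is constant
  have hval : ∀ r < 2048, {b | b ∈ R ∧ Ψ r * b ∈ R}.ncard = lam k r := by
    intro r hr
    have e : {b | b ∈ R ∧ Ψ r * b ∈ R} =
        Ψ '' {b | b ∈ (rlist k).filter fun b => inR k (Nat.xor r b)} := by
      ext x
      constructor
      · rintro ⟨hx, hrx⟩
        rw [hReq] at hx hrx
        obtain ⟨b, hb, rfl⟩ := hx
        refine ⟨b, List.mem_filter.2 ⟨hb, ?_⟩, rfl⟩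
        obtain ⟨c, hc, hce⟩ := hrx
        rw [← hΨx] at hce
        have := hΨinj c (hbd c hc).1 _ (Nat.xor_lt_two_pow (n := 11) hr (hbd b hb).1) hce
        rw [this] at hc
        exact (inR_iff D C).2 hc
      · rintro ⟨b, hb, rfl⟩
        obtain ⟨hb1, hb2⟩ := List.mem_filter.1 hb
        exact ⟨hsub b hb1, (hΨx r b) ▸ hsub _ ((inR_iff D C).1 hb2)⟩
    rw [e, himg _ (hnd.filter _) (fun b hb => (hbd b (List.mem_of_mem_filter hb)).1)]
    rfl
  have hl0 := lam_ok
  simp only [lamOK, Bool.and_eq_true] at hl0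
  have hin := allBelow_spec hl0.2 k hk4
  simp only [Bool.and_eq_true] at hin
  have hr1 := (inR_iff D C).1 hin.1
  have hr2 := (inR_iff D C).1 hin.2
  obtain ⟨a1A, a11, a1n⟩ := hsub _ hr1
  obtain ⟨a2A, a21, a2n⟩ := hsub _ hr2
  obtain ⟨m, hm, hme⟩ := trans_R D C hF _ a1A _ a2A a11 a21 a1n a2n
  have hmR : ∀ m ∈ Subgroup.normalizer (AG D C : Set G), ∀ x ∈ R, m * x * m⁻¹ ∈ R := by
    rintro m hm x ⟨hx, h1, hn⟩
    exact ⟨AG_normal D C hm hx, fun e => h1 (conj_eq_one_iff.1 e),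
      fun e => hn (e.trans (isConj_iff.2 ⟨m⁻¹, by group⟩))⟩
  have hlam : lam k (code false (uIdx 5) 0) = lam k (code false 0 1) := by
    rw [← hval _ (hbd _ hr1).1, ← hval _ (hbd _ hr2).1,
      ← Set.ncard_image_of_injective {b | b ∈ R ∧ Ψ (code false (uIdx 5) 0) * b ∈ R}
        (MulAut.conj m).injective]
    congr 1
    ext x
    constructor
    · rintro ⟨b, ⟨hb, hb'⟩, rfl⟩
      refine ⟨hmR m hm b hb, ?_⟩
      have := hmR m hm _ hb'
      rwa [show m * (Ψ (code false (uIdx 5) 0) * b) * m⁻¹ =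
        m * Ψ (code false (uIdx 5) 0) * m⁻¹ * (m * b * m⁻¹) by group, hme] at this
    · rintro ⟨hx, hx'⟩
      refine ⟨m⁻¹ * x * m, ⟨by simpa using hmR m⁻¹ (inv_mem hm) x hx, ?_⟩, by simp [mul_assoc]⟩
      have := hmR m⁻¹ (inv_mem hm) _ hx'
      rwa [← hme, show m⁻¹ * (m * Ψ (code false (uIdx 5) 0) * m⁻¹ * x) * m⁻¹⁻¹ =
        Ψ (code false (uIdx 5) 0) * (m⁻¹ * x * m) by group] at this
  have hk1 : k = 1 := by
    have h1 := allBelow_spec hl0.1 k hk4
    rw [Bool.or_eq_true, Nat.beq_eq] at h1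
    refine h1.resolve_right fun e => ?_
    rw [Bool.not_eq_true', Bool.eq_false_iff] at e
    exact e (by rw [Nat.beq_eq]; exact hlam)
  subst hk1
  refine ⟨Ψ, hΨx, hΨA, hΨinj, fun x hx => ?_, fun x => Set.ext_iff.1 hReq x⟩
  obtain ⟨w, hw, rfl⟩ := hx
  obtain ⟨i, hi, e⟩ := hsurj w hw
  exact ⟨i, hi, congrArg Subtype.val e⟩

end Main

end Cfsg.Agent.LFCoord89
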