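import Mathlib
import Cfsg.Agent.Lib.LFCoord89
import Cfsg.Agent.Lib.LFCocode89

/-!
The normaliser of the large elementary abelian subgroup induces the Mathieu group of degree 24 on the
duads.
-/

set_option autoImplicit false
set_option linter.unusedSectionVars false
set_option linter.style.haveILetI false
set_option maxRecDepth 100000
set_option maxHeartbeats 800000

namespace Cfsg.Agent.LFMathieu89

open Subgroup Cfsg.Agent.U62Mon93 Cfsg.Agent.U62Existence93 Cfsg.Agent.LFForm89 Cfsg.Agent.LFMat89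
  Cfsg.Agent.LFModel89 Cfsg.Agent.LFSylow89 Cfsg.Agent.LFBound89 Cfsg.Agent.LFSetting89
  Cfsg.Agent.LFElem89 Cfsg.Agent.LFData89 Cfsg.Agent.LFCheck89 Cfsg.Agent.LFOrbitData89
  Cfsg.Agent.LFOrbitX89 Cfsg.Agent.LFOrbitA89 Cfsg.Agent.LFFusion89 Cfsg.Agent.LFCoordData89
  Cfsg.Agent.LFCoordCheck89 Cfsg.Agent.LFCoord89 Cfsg.Agent.GolayDuadRigid13
open scoped Matrix Pointwise

universe u

theorem moved_pt : ∃ c ∈ [1, 4, 16, 64, 256, 1024], app threeM c ≠ c ∧ app threeM c < 4096 ∧ c < 4096 := by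
  decide +kernel

variable {G : Type u} [Group G] [Finite G] {z : G} {Q : Subgroup (centralizer ({z} : Set G))} [Q.Normal]
variable {V : Type u} [AddCommGroup V] {zc : centralizer ({z} : Set G)}
  {π : centralizer ({z} : Set G) → V} {ρ : centralizer ({z} : Set G) ⧸ Q →* AddMonoid.End V}
  {q : V → ZMod 2} {n : centralizer ({z} : Set G) ⧸ Q}
  {Mb : Subgroup (centralizer ({z} : Set G) ⧸ Q)}
variable (D : Data z Q zc π ρ q n Mb)
variable {F : Type} [Field F] [Fintype F] {s : F} {h : S4 s} {ν : (Fin 6 → F) → V}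
  {Φ : K0 h →* centralizer ({z} : Set G) ⧸ Q} (C : Coord h ρ q n Mb ν Φ)

include D C

/-- The subgroup is its own centralizer. -/
theorem cent_AG {g : G} (hg : ∀ x ∈ AG D C, g * x = x * g) : g ∈ AG D C := by
  classical
  haveI := finiteV D
  obtain ⟨-, -, hzA⟩ := AG_facts D C
  have hgH : g ∈ centralizer ({z} : Set G) :=
    Subgroup.mem_centralizer_singleton_iff.2 (by rw [hg z hzA])
  set gH : centralizer ({z} : Set G) := ⟨g, hgH⟩ with hgdef
  have hcomm : ∀ x ∈ AA D C, gH * x = x * gH := fun x hx => Subtype.ext (hg _ ⟨x, hx, rfl⟩)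
  set e := QuotientGroup.mk' Q gH with hedef
  have hfix : ∀ u ∈ UU D C, op ρ e u = u := by
    intro u hu
    obtain ⟨x, hx, rfl⟩ := D.link.surj u
    rw [hedef, ← act D gH hx, hcomm x ((mem_AA_Q D C hx).2 hu), mul_inv_cancel_right]
  have hnU : ∀ u ∈ UU D C, op ρ n u ∈ UU D C := fun u hu y hy => by
    rw [← rho_mul, D.comm_n y ((E1_le (hyp D) C).trans (T0_le (hyp D) C) hy), rho_mul, hu y hy]
  have heM : e ∈ Mb := by
    by_contra hout
    have h0 : ∀ u ∈ UU D C, u = 0 := by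
      intro u hu
      have h1 := semilinear D C e hout u
      rw [hfix u hu, hfix _ (hnU u hu)] at h1
      have h2 : u = op ρ n u := LFOrbitX89.op_inj (hyp D) C h1
      have h3 : op ρ n (op ρ n u) + op ρ n u + u = 0 := (hyp D).fx.rel u
      rw [← h2, ← h2, (hyp D).fx.two, zero_add] at h3
      exact h3
    have h64 : Nat.card (UU D C) = 64 := card_Fix_E1 (hyp D) C
    haveI : Subsingleton (UU D C) :=
      ⟨fun a b => Subtype.ext ((h0 a a.2).trans (h0 b b.2).symm)⟩
    rw [Nat.card_unique] at h64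
    omega
  have hiso : ∀ a ∈ UU D C, ∀ b ∈ UU D C, pol q a b = 0 := sing_iso D (Fix_E1_sing (hyp D) C)
  have hd : ∀ x : centralizer ({z} : Set G) ⧸ Q, (∀ u ∈ UU D C, op ρ x u = u) →
      ∀ v, op ρ x v + v ∈ UU D C := fun x hx v => by
    refine sing_perp D hiso (card_Fix_E1 (hyp D) C) fun u hu => ?_
    have h1 : pol q (op ρ x v) (op ρ x u) = pol q v u := by
      simp only [pol, ← map_add, (hyp D).inv]
    rw [hx u hu] at h1
    rw [(hyp D).fx.addl, h1]
    exact (by decide : ∀ a : ZMod 2, a + a = 0) _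
  let K : Subgroup (centralizer ({z} : Set G) ⧸ Q) :=
    { carrier := {x | x ∈ Mb ∧ ∀ u ∈ UU D C, op ρ x u = u}
      one_mem' := ⟨one_mem _, fun u _ => rho_one ρ u⟩
      mul_mem' := fun {a b} ha hb => ⟨mul_mem ha.1 hb.1, fun u hu => by
        rw [rho_mul, hb.2 u hu, ha.2 u hu]⟩
      inv_mem' := fun {a} ha => ⟨inv_mem ha.1, fun u hu => by
        conv_lhs => rw [← ha.2 u hu]
        rw [← rho_mul, inv_mul_cancel, rho_one]⟩ }
  have hprod : ∀ x ∈ K, ∀ y ∈ K, ∀ v, op ρ (x * y) v = op ρ x v + (op ρ y v + v) := fun x hx y hy v => by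
    have e0 : op ρ y v = v + (op ρ y v + v) := by
      rw [add_comm (op ρ y v) v, ← add_assoc, D.orth.two, zero_add]
    rw [rho_mul]
    conv_lhs => rw [e0]
    rw [map_add, hx.2 _ (hd y hy.2 v)]
  have hsq : ∀ x ∈ K, x * x = 1 := fun x hx => ext_op (hyp D) C fun w => by
    rw [hprod x hx x hx, rho_one, ← add_assoc, D.orth.two, zero_add]
  have hcomm' : ∀ x ∈ K, ∀ y ∈ K, x * y = y * x := fun x hx y hy => ext_op (hyp D) C fun w => by
    rw [hprod x hx y hy, hprod y hy x hx]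
    abel
  have hE1K : E1 (hyp D) C ≤ K := fun x hx =>
    ⟨(E1_le (hyp D) C).trans (T0_le (hyp D) C) hx, fun u hu => hu x hx⟩
  have hKE : K = E1 (hyp D) C := (Subgroup.eq_of_le_of_card_ge hE1K
    ((card_le_sixteen (hyp D) C (show K ≤ Mb from fun x hx => (show x ∈ Mb ∧ _ from hx).1) hsq hcomm').trans (card_E1 (hyp D) C).ge)).symm
  refine ⟨gH, (mem_AE D).2 ⟨hKE.le ⟨heM, hfix⟩, fun x hx => ?_⟩, rfl⟩
  exact (hcomm x ((mem_AA_Q D C hx.1).2 hx.2)).symm

/-- The orbit of a transvection point and an element of order three fixing it. -/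
theorem dvd_normalizer (hF : Cfsg.IsOfLargeFischerTypeAt z Q) :
    135 ∣ Nat.card (Subgroup.normalizer (E1 (hyp D) C : Set (centralizer ({z} : Set G) ⧸ Q))) := by
  classical
  set N := Subgroup.normalizer (E1 (hyp D) C : Set (centralizer ({z} : Set G) ⧸ Q)) with hNdef
  letI : MulAction N V :=
    { smul := fun g v => op ρ g.1 v
      one_smul := fun v => rho_one ρ v
      mul_smul := fun a b v => rho_mul ρ a.1 b.1 v }
  set w := nc s ν 85 with hwdef
  obtain ⟨-, hn45, -, hl45, hcases, h18, h45⟩ := orb_facts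
  have hlt : ∀ c ∈ uList, c < 4096 := fun c hc => (uList_spec (hyp D) C hc).1
  have horb : MulAction.orbit N w = ((u45.toFinset.image (nc s ν) : Finset V) : Set V) := by
    ext v
    rw [Finset.coe_image, Set.mem_image]
    constructor
    · rintro ⟨g, rfl⟩
      show ∃ c, c ∈ (u45.toFinset : Set ℕ) ∧ nc s ν c = op ρ g.1 w
      have hwU : w ∈ Fix ρ (E1 (hyp D) C) :=
        (mem_Fix_E1 (hyp D) C).2 ⟨85, (h45 85 (by decide +kernel)).1, rfl⟩
      have hgU : op ρ g.1 w ∈ Fix ρ (E1 (hyp D) C) := fun y hy => by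
        have h1 : g.1⁻¹ * y * g.1 ∈ E1 (hyp D) C := by
          refine (Subgroup.mem_normalizer_iff.1 g.2 _).2 ?_
          rw [show g.1 * (g.1⁻¹ * y * g.1) * g.1⁻¹ = y by group]
          exact hy
        calc op ρ y (op ρ g.1 w) = op ρ g.1 (op ρ (g.1⁻¹ * y * g.1) w) := by
              simp only [← rho_mul]; congr 2; group
          _ = _ := by rw [hwU _ h1]
      obtain ⟨c, hc, hgc⟩ := (mem_Fix_E1 (hyp D) C).1 hgU
      refine ⟨c, ?_, hgc.symm⟩
      rw [Finset.mem_coe, List.mem_toFinset]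
      rcases hcases c hc with rfl | h | h
      · exfalso
        rw [nc_zero (hyp D) C, ← map_zero (op ρ g.1)] at hgc
        have h0 := LFOrbitX89.op_inj (hyp D) C hgc
        rw [← nc_zero (hyp D) C] at h0
        exact absurd (nc_inj (hyp D) C (by norm_num) (by norm_num) h0) (by norm_num)
      · exfalso
        obtain ⟨g', -, hg'⟩ := trans18 (hyp D) C h
        have hP : Pt (hyp D) C (nc s ν c) := hgc ▸ Pt_op (hyp D) C (Pt_85 (hyp D) C) g.1
        rw [← hg'] at hP
        have h5 := Pt_op (hyp D) C hP g'⁻¹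
        rw [LFOrbitX89.op_inv_op (hyp D) C] at h5
        exact not_Pt_5 (hyp D) C h5
      · exact h
    · rintro ⟨c, hc, rfl⟩
      rw [Finset.mem_coe, List.mem_toFinset] at hc
      obtain ⟨g, hg, e⟩ := trans45 (hyp D) C hc
      exact ⟨⟨g, hg⟩, e⟩
  have h1 : (MulAction.stabilizer N w).index = 45 := by
    rw [MulAction.index_stabilizer, horb, Set.ncard_coe_finset, Finset.card_image_of_injOn,
      List.toFinset_card_of_nodup hn45, hl45]
    intro a ha b hb e
    rw [Finset.mem_coe, List.mem_toFinset] at ha hb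
    exact nc_inj (hyp D) C (hlt a (h45 a ha).1) (hlt b (h45 b hb).1) e
  -- the element of order three
  obtain ⟨xn, hX⟩ := exists_xn D C
  obtain ⟨gg, hgg⟩ := exists_gens D C hX hF
  have hreal : ∀ l : List ℕ, (∀ k ∈ l, k < 10) → ∃ g ∈ N, ∀ v,
      op ρ g (ν v) = ν (matOf s (l.foldr (fun k r => mulM (mats.getD k 0) r) idM) *ᵥ v) := by
    intro l
    induction l with
    | nil => exact fun _ => ⟨1, one_mem _, fun v => by
        rw [rho_one, List.foldr_nil, matOf_id h, Matrix.one_mulVec]⟩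
    | cons a l ih =>
      intro hl
      obtain ⟨g, hgN, hg⟩ := ih fun k hk => hl k (List.mem_cons_of_mem _ hk)
      obtain ⟨m, -, hm⟩ := mats_real D C hX hgg hF (hl a List.mem_cons_self)
      refine ⟨m * g, mul_mem (word_normalizer (hyp D) C hm fun e he => ?_) hgN, fun v => ?_⟩
      · obtain ⟨i, hi, rfl⟩ := base_facts.2.1 e he
        obtain ⟨h2, h3, -⟩ := perm_spec D C hX hgg hF (hl a List.mem_cons_self) hi
        exact ⟨_, (base_facts.1 _ h2).1, h3⟩
      · rw [rho_mul, hg, hm, List.foldr_cons, matOf_mul h, Matrix.mulVec_mulVec]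
  have h3 := three_ok
  simp only [threeOK, Bool.and_eq_true, Nat.beq_eq, List.all_eq_true, Nat.blt_eq] at h3
  obtain ⟨⟨⟨hcube, -⟩, hfix85⟩, hlt10⟩ := h3
  obtain ⟨g, hgN, hg⟩ := hreal threeWord hlt10
  change ∀ v, op ρ g (ν v) = ν (matOf s threeM *ᵥ v) at hg
  have hnc : ∀ c, op ρ g (nc s ν c) = nc s ν (app threeM c) := fun c => by
    rw [nc, nc, hg, vec_app h]
  have hg3 : g ^ 3 = 1 := ext_op (hyp D) C fun v => by
    rw [pow_succ, pow_two, rho_mul, rho_mul, hg, hg, hg, rho_one, Matrix.mulVec_mulVec,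
      Matrix.mulVec_mulVec, ← matOf_mul h, ← matOf_mul h]
    rw [show mulM (mulM threeM threeM) threeM = idM by decide +kernel, matOf_id h, Matrix.one_mulVec]
  have hg1 : g ≠ 1 := fun e => by
    obtain ⟨c, -, hne, h4, h5⟩ := moved_pt
    have := hnc c
    rw [e, rho_one] at this
    exact hne (nc_inj (hyp D) C h5 h4 this).symm
  have hgw : (⟨g, hgN⟩ : N) ∈ MulAction.stabilizer N w := by
    rw [MulAction.mem_stabilizer_iff]
    show op ρ g w = w
    rw [hwdef, hnc, hfix85]
  haveI : Fact (Nat.Prime 3) := ⟨Nat.prime_three⟩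
  have ho : orderOf (⟨⟨g, hgN⟩, hgw⟩ : MulAction.stabilizer N w) = 3 :=
    orderOf_eq_prime (Subtype.ext (Subtype.ext (by simpa using hg3))) fun e =>
      hg1 (congrArg (fun x : MulAction.stabilizer N w => (x.1.1)) e)
  have h6 : 3 ∣ Nat.card (MulAction.stabilizer N w) := ho ▸ orderOf_dvd_natCard _
  have h7 := Subgroup.card_mul_index (MulAction.stabilizer N w)
  rw [h1] at h7
  obtain ⟨j, hj⟩ := h6
  exact ⟨j, by rw [← h7, hj]; ring⟩

variable (hF : Cfsg.IsOfLargeFischerTypeAt z Q)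
include hF

/-- The order of the normaliser. -/
theorem dvd_M : 501397585920 ∣ Nat.card (Subgroup.normalizer (AG D C : Set G)) := by
  classical
  haveI : Fact (Nat.Prime 2) := ⟨Nat.prime_two⟩
  set M := Subgroup.normalizer (AG D C : Set G) with hMdef
  obtain ⟨hAea, hAc, -⟩ := AG_facts D C
  obtain ⟨S, hSH, hSJ, huniq⟩ := exists_sylow D C hF
  have hAS : AG D C ≤ (S : Subgroup G) := by rw [← hSJ]; exact Subgroup.map_subtype_le _
  have hSM : (S : Subgroup G) ≤ M := fun s0 hs => by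
    refine Subgroup.mem_normalizer_fintype fun x hx => ?_
    have hle : cj s0 (AG D C) ≤ (S : Subgroup G) := by
      rintro _ ⟨y, hy, rfl⟩
      exact mul_mem (mul_mem hs (hAS hy)) (inv_mem hs)
    rw [← huniq _ hle (hAea.cj s0) (by rw [card_cj, hAc])]
    exact ⟨x, hx, rfl⟩
  have h21 : 2 ^ 21 ∣ Nat.card M := by
    refine (S.pow_dvd_card_of_pow_dvd_card ?_).trans (Subgroup.card_dvd_of_le hSM)
    refine Dvd.dvd.trans ?_ (Subgroup.card_subgroup_dvd_card (centralizer ({z} : Set G)))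
    rw [card_H D C]
    norm_num
  have h1771 : 1771 ∣ Nat.card M := by
    obtain ⟨x5, x85, a, b0, -, -, -, -, -, -, h⟩ := classes D C hF
    rw [orbit_z D C hF] at h
    exact h ▸ orbit_dvd M z
  have h135 : 135 ∣ Nat.card M := by
    have hle : (NA D C).map (centralizer ({z} : Set G)).subtype ≤ M := by
      rintro _ ⟨g, hg, rfl⟩
      exact NA_normalizer D C hg
    refine Dvd.dvd.trans ?_ (Subgroup.card_dvd_of_le hle)
    rw [Subgroup.card_map_of_injective (centralizer ({z} : Set G)).subtype_injective,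
      card_eq_mul Q (NA D C)]
    refine Dvd.dvd.mul_left ?_ _
    rw [NA, Subgroup.map_comap_eq_self_of_surjective (QuotientGroup.mk'_surjective Q)]
    exact dvd_normalizer D C hF
  have hc1 : Nat.Coprime (2 ^ 21) 1771 := by norm_num
  have hc2 : Nat.Coprime (2 ^ 21 * 1771) 135 := by norm_num
  have h := hc2.mul_dvd_of_dvd_of_dvd (hc1.mul_dvd_of_dvd_of_dvd h21 h1771) h135
  rwa [show 501397585920 = 2 ^ 21 * 1771 * 135 by norm_num]

/-- The Mathieu group on the duads. -/
theorem mathieu : ∃ (φ : ↥(Subgroup.normalizer (AG D C : Set G)) →* ↥Cfsg.M24) (d : G),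
    Function.Surjective φ ∧ (∀ m, φ m = 1 ↔ (m : G) ∈ AG D C) ∧
    (∀ t ∈ AG D C, t ≠ 1 → ¬ IsConj z t →
      ∃ m ∈ Subgroup.normalizer (AG D C : Set G), m * d * m⁻¹ = t) ∧
    ∀ m, ((φ m : Equiv.Perm Cfsg.GolayPt) ∈
        MulAction.stabilizer (Equiv.Perm Cfsg.GolayPt) ({none, some 0} : Set Cfsg.GolayPt)) ↔
      (m : G) * d * (m : G)⁻¹ = d := by
  classical
  obtain ⟨Ψ, hmul, hA, hinj, hsurj, hR⟩ := model D C hF
  obtain ⟨hAea, hAc, -⟩ := AG_facts D C
  letI : CommGroup (AG D C) :=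
    { (AG D C).toGroup with mul_comm := fun a b => Subtype.ext (hAea.2 a a.2 b b.2) }
  let M := Subgroup.normalizer (AG D C : Set G)
  let ψ : ℕ → Additive (AG D C) := fun i => Additive.ofMul ⟨Ψ i, hA i⟩
  have hx : ∀ a b, ψ (Nat.xor a b) = ψ a + ψ b := fun a b =>
    congrArg Additive.ofMul (Subtype.ext (hmul a b) :
      (⟨Ψ (Nat.xor a b), hA _⟩ : AG D C) = ⟨Ψ a, hA a⟩ * ⟨Ψ b, hA b⟩)
  have hinj' : ∀ i < 2048, ∀ j < 2048, ψ i = ψ j → i = j := fun i hi j hj e =>
    hinj i hi j hj (congrArg (fun v : Additive (AG D C) => (Additive.toMul v).1) e)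
  have hsurj' : ∀ v, ∃ i < 2048, ψ i = v := fun v => by
    obtain ⟨i, hi, e⟩ := hsurj _ (Additive.toMul v).2
    exact ⟨i, hi, congrArg Additive.ofMul (Subtype.ext e : (⟨Ψ i, hA i⟩ : AG D C) = Additive.toMul v)⟩
  obtain ⟨hL, hspan, hduads⟩ := LFCocode89.cocode hx hinj' hsurj'
  set L := LFCocode89.Lc ψ hx with hLdef
  have hdiff : ∀ v, v ∈ duads L ↔ (Additive.toMul v).1 ≠ 1 ∧ ¬ IsConj z (Additive.toMul v).1 := by
    intro v
    rw [hduads]
    constructor
    · rintro ⟨r, hr, rfl⟩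
      exact ((hR _).2 ⟨r, hr, rfl⟩).2
    · intro hv
      obtain ⟨r, hr, e⟩ := (hR _).1 ⟨(Additive.toMul v).2, hv.1, hv.2⟩
      exact ⟨r, hr, congrArg Additive.ofMul (Subtype.ext e : (⟨Ψ r, hA r⟩ : AG D C) = Additive.toMul v)⟩
  let c : M →* AddMonoid.End (Additive (AG D C)) :=
    { toFun := fun m =>
        { toFun := fun v => Additive.ofMul
            ⟨(m : G) * (Additive.toMul v).1 * (m : G)⁻¹, AG_normal D C m.2 (Additive.toMul v).2⟩
          map_zero' := congrArg Additive.ofMul (Subtype.ext (by simp) :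
            (⟨(m : G) * (1 : AG D C).1 * (m : G)⁻¹, AG_normal D C m.2 (one_mem _)⟩ : AG D C) = 1)
          map_add' := fun a b => congrArg Additive.ofMul (Subtype.ext (by simp [mul_assoc]) :
            (⟨(m : G) * (Additive.toMul a * Additive.toMul b).1 * (m : G)⁻¹, AG_normal D C m.2
              (Additive.toMul a * Additive.toMul b).2⟩ : AG D C) =
              ⟨_, AG_normal D C m.2 (Additive.toMul a).2⟩ * ⟨_, AG_normal D C m.2 (Additive.toMul b).2⟩) }
      map_one' := AddMonoidHom.ext fun v => congrArg Additive.ofMul (Subtype.ext (by simp) :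
        (⟨((1 : M) : G) * (Additive.toMul v).1 * ((1 : M) : G)⁻¹,
          AG_normal D C (1 : M).2 (Additive.toMul v).2⟩ : AG D C) = Additive.toMul v)
      map_mul' := fun a b => AddMonoidHom.ext fun v => congrArg Additive.ofMul (Subtype.ext
        (show ((a * b : M) : G) * (Additive.toMul v).1 * ((a * b : M) : G)⁻¹ =
          (a : G) * ((b : G) * (Additive.toMul v).1 * (b : G)⁻¹) * (a : G)⁻¹ by simp [mul_assoc])) }
  have hcval : ∀ (m : M) v, (Additive.toMul (c m v)).1 = (m : G) * (Additive.toMul v).1 * (m : G)⁻¹ :=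
    fun m v => rfl
  have hRG : ∀ m : M, ∀ p q, p ≠ q → ∃ r t, r ≠ t ∧ c m (duad L p q) = duad L r t := by
    intro m p q hpq
    have h1 := (hdiff _).1 ⟨p, q, hpq, rfl⟩
    obtain ⟨r, t, hrt, e⟩ := (hdiff (c m (duad L p q))).2 ⟨fun e => h1.1 (by
        rw [hcval, mul_inv_eq_one] at e
        exact mul_eq_left.1 e), fun e => h1.2 (by
        rw [hcval] at e
        exact IsConj.trans e (isConj_iff.2 ⟨(m : G)⁻¹, by group⟩))⟩
    exact ⟨r, t, hrt, e.symm⟩
  obtain ⟨φ, hφ, hker, hsur⟩ := GolayDuadRigid13.exists_hom hL hspan c hRG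
  have hkerc : c.ker = (AG D C).subgroupOf M := by
    ext m
    rw [MonoidHom.mem_ker, Subgroup.mem_subgroupOf]
    constructor
    · intro e
      refine cent_AG D C fun x hx => ?_
      have e1 := congrArg (fun f : AddMonoid.End (Additive (AG D C)) =>
        (Additive.toMul (f (Additive.ofMul ⟨x, hx⟩))).1) e
      simp only [hcval] at e1
      exact mul_inv_eq_iff_eq_mul.1 e1
    · intro hm
      refine AddMonoidHom.ext fun v => congrArg Additive.ofMul (Subtype.ext ?_)
      show (m : G) * (Additive.toMul v).1 * (m : G)⁻¹ = (Additive.toMul v).1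
      rw [hAea.2 _ hm _ (Additive.toMul v).2, mul_inv_cancel_right]
  have hidx : 244823040 ∣ c.ker.index := by
    have h1 := Subgroup.card_mul_index ((AG D C).subgroupOf M)
    rw [Nat.card_congr (Subgroup.subgroupOfEquivOfLe (show AG D C ≤ M from Subgroup.le_normalizer)).toEquiv,
      hAc] at h1
    rw [hkerc]
    refine Nat.dvd_of_mul_dvd_mul_left (show 0 < 2 ^ 11 by norm_num) ?_
    rw [h1]
    exact (by norm_num : (2 ^ 11 * 244823040 : ℕ) = 501397585920) ▸ dvd_M D C hF
  have hs := hsur hidx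
  obtain ⟨htr, hst⟩ := duad_trans hL c φ hφ hs
  refine ⟨φ, (Additive.toMul (duad L none (some 0))).1, hs, fun m => ?_, fun t ht h1 h2 => ?_, fun m => ?_⟩
  · rw [← MonoidHom.mem_ker, hker, hkerc, Subgroup.mem_subgroupOf]
  · obtain ⟨m, hm⟩ := htr _ ⟨none, some 0, by simp, rfl⟩ (Additive.ofMul ⟨t, ht⟩) ((hdiff _).2 ⟨h1, h2⟩)
    exact ⟨m.1, m.2, by rw [← hcval m, hm]; rfl⟩
  · have e := Set.ext_iff.1 hst m
    simp only [SetLike.mem_coe, Subgroup.mem_comap, Subgroup.mem_inf, Set.mem_setOf_eq,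
      MonoidHom.coe_comp, Function.comp_apply, Subgroup.coe_subtype, SetLike.coe_mem, true_and] at e
    rw [e, ← hcval]
    exact ⟨fun e => by rw [e], fun e => Additive.toMul.injective (Subtype.ext e)⟩

end Cfsg.Agent.LFMathieu89
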