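import Mathlib
import Cfsg.Agent.Lib.GolayDuadRigid13

/-!
Vectors of the even cocode fixed by the squares of the pointwise stabiliser of two or three points.
-/

set_option autoImplicit false

namespace Cfsg.Agent.LargeFischerIndexTwo28Golay

open Cfsg Cfsg.Agent.GolayBasic Cfsg.Agent.GolayModule Cfsg.Agent.GolayDuadRigid13
open Cfsg.Agent.GolayPerm Cfsg.Agent.GolaySteiner
open scoped Pointwise symmDiff

theorem exists_notMem {s : Finset GolayPt} (h : s.card < 24) : ∃ c, c ∉ s := by
  by_contra hc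
  push Not at hc
  have h1 := Finset.card_le_card (show (Finset.univ : Finset GolayPt) ⊆ s from fun x _ => hc x)
  rw [Finset.card_univ, show Fintype.card GolayPt = 24 from Fintype.card_congr idxEquiv] at h1
  omega

/-- The squares of a pointwise stabiliser of three points are transitive on the others. -/
theorem sq_trans {R : Finset GolayPt} (hR : R.card ≤ 3) {a b : GolayPt} (ha : a ∉ R) (hb : b ∉ R)
    (hab : a ≠ b) : ∃ τ ∈ M24, (∀ r ∈ R, τ r = r) ∧ (τ * τ) a = b := by
  classical
  obtain ⟨c, hc⟩ := exists_notMem (s := R ∪ {a, b}) (by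
    have := Finset.card_union_le R {a, b}
    have := Finset.card_le_two (a := a) (b := b)
    omega)
  simp only [Finset.mem_union, Finset.mem_insert, Finset.mem_singleton, not_or] at hc
  obtain ⟨R', hRR', hR'u, hR'⟩ := Finset.exists_subsuperset_card_eq
    (s := R) (t := ({a, b, c} : Finset GolayPt)ᶜ) (n := 3) (fun x hx => by
      simp only [Finset.mem_compl, Finset.mem_insert, Finset.mem_singleton]
      rintro (rfl | rfl | rfl)
      exacts [ha hx, hb hx, hc.1 hx]) hR (by
      rw [Finset.card_compl, show Fintype.card GolayPt = 24 from Fintype.card_congr idxEquiv]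
      have := Finset.card_le_three (a := a) (b := b) (c := c)
      omega)
  obtain ⟨r, s, t, hrs, hrt, hst, rfl⟩ := Finset.card_eq_three.1 hR'
  have hm : ∀ x ∈ ({r, s, t} : Finset GolayPt), x ≠ a ∧ x ≠ b ∧ x ≠ c := by
    intro x hx
    have := hR'u hx
    simpa only [Finset.mem_compl, Finset.mem_insert, Finset.mem_singleton, not_or] using this
  obtain ⟨ra, rb, rc⟩ := hm r (by simp)
  obtain ⟨sa, sb, sc⟩ := hm s (by simp)
  obtain ⟨ta, tb, tc⟩ := hm t (by simp)
  have hac : a ≠ c := fun e => hc.2.1 e.symm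
  have hcb : c ≠ b := hc.2.2
  obtain ⟨τ, hτ, h⟩ := GolayM24.exists_map_five_five ![r, s, t, a, c] ![r, s, t, c, b]
    (by
      intro i j e
      fin_cases i <;> fin_cases j <;> simp at e <;> first
        | rfl
        | exact absurd e (by assumption)
        | exact absurd e.symm (by assumption))
    (by
      intro i j e
      fin_cases i <;> fin_cases j <;> simp at e <;> first
        | rfl
        | exact absurd e (by assumption)
        | exact absurd e.symm (by assumption))
  have h0 := h 0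
  have h1 := h 1
  have h2 := h 2
  have h3 := h 3
  have h4 := h 4
  simp at h0 h1 h2 h3 h4
  refine ⟨τ, hτ, fun x hx => ?_, by rw [Equiv.Perm.mul_apply, h3, h4]⟩
  have := hRR' hx
  simp only [Finset.mem_insert, Finset.mem_singleton] at this
  rcases this with rfl | rfl | rfl
  exacts [h0, h1, h2]

theorem card_symmDiff_two {s t : Finset GolayPt} :
    (s ∆ t).card + 2 * (s ∩ t).card = s.card + t.card := by
  have h1 : s ∆ t = (s \ t) ∪ (t \ s) := rfl
  rw [h1, Finset.card_union_of_disjoint disjoint_sdiff_sdiff]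
  have h2 := Finset.card_sdiff_add_card_inter s t
  have h3 := Finset.card_sdiff_add_card_inter t s
  rw [Finset.inter_comm t] at h3
  omega

variable {V : Type*} [AddCommGroup V] {L : (GolayPt → ZMod 2) →+ V}

theorem L_octad (hL : IsCocode L) {o : Finset GolayPt} (ho : o ∈ octads) : L (ind o) = 0 := by
  obtain ⟨h1, h2⟩ := mem_octads.1 ho
  exact (hL o (by rw [h2]; norm_num)).2 (ind_mem_iff.2 h1)

theorem L_symm_octad (hL : IsCocode L) {o s : Finset GolayPt} (ho : o ∈ octads) :
    L (ind (s ∆ o)) = L (ind s) := by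
  rw [ind_symmDiff, map_add, L_octad hL ho, add_zero]

theorem eq_of_symm (hL : IsCocode L) {S T : Finset GolayPt} (hS : 2 ∣ S.card) (hT : 2 ∣ T.card)
    (h8 : (S ∆ T).card < 8) (h : L (ind S) = L (ind T)) : S = T := by
  have he : 2 ∣ (S ∆ T).card := by
    have := card_symmDiff_two (s := S) (t := T)
    omega
  have hz : L (ind (S ∆ T)) = 0 := by
    rw [ind_symmDiff, map_add, h, ← map_add, show ind T + ind T = 0 from ?_, map_zero]
    funext p
    exact (by decide : ∀ a : ZMod 2, a + a = 0) _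
  exact symmDiff_eq_bot.1 (eq_empty_of_card_lt (ind_mem_iff.1 ((hL _ he).1 hz)) h8)

theorem exists_short (hL : IsCocode L) (n : ℕ) : ∀ S : Finset GolayPt, S.card = n → 2 ∣ n →
    ∃ T : Finset GolayPt, 2 ∣ T.card ∧ T.card ≤ 4 ∧ L (ind T) = L (ind S) := by
  induction n using Nat.strong_induction_on with
  | _ n ih =>
    intro S hS hn
    by_cases h4 : n ≤ 4
    · exact ⟨S, hS ▸ hn, hS ▸ h4, rfl⟩
    obtain ⟨F, hFS, hF⟩ := Finset.exists_subset_card_eq (s := S) (n := 5) (by omega)
    obtain ⟨o, ho, hFo⟩ := exists_octad_five hF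
    have h8 := (mem_octads.1 ho).2
    have h5 : 5 ≤ (S ∩ o).card := hF ▸ Finset.card_le_card (Finset.subset_inter hFS hFo)
    have hc := card_symmDiff_two (s := S) (t := o)
    obtain ⟨T, h1, h2, h3⟩ := ih (S ∆ o).card (by omega) (S ∆ o) rfl (by omega)
    exact ⟨T, h1, h2, h3.trans (L_symm_octad hL ho)⟩

theorem exists_short_mem (hL : IsCocode L) {S : Finset GolayPt} (hn : 2 ∣ S.card) (p : GolayPt) :
    ∃ T : Finset GolayPt, 2 ∣ T.card ∧ T.card ≤ 4 ∧ (T.card = 4 → p ∈ T) ∧ L (ind T) = L (ind S) := by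
  classical
  obtain ⟨T, h1, h2, h3⟩ := exists_short hL _ S rfl hn
  by_cases h4 : T.card = 4 → p ∈ T
  · exact ⟨T, h1, h2, h4, h3⟩
  rw [Classical.not_imp] at h4
  obtain ⟨h4, hp⟩ := h4
  obtain ⟨o, ho, hTo⟩ := exists_octad_five (s := insert p T) (by rw [Finset.card_insert_of_notMem hp, h4])
  have h8 := (mem_octads.1 ho).2
  have hTi : T ∩ o = T := Finset.inter_eq_left.2 fun x hx => hTo (Finset.mem_insert_of_mem hx)
  have hc := card_symmDiff_two (s := T) (t := o)
  rw [hTi] at hc
  refine ⟨T ∆ o, by omega, by omega, fun _ => ?_, (L_symm_octad hL ho).trans h3⟩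
  rw [Finset.mem_symmDiff]
  exact Or.inr ⟨hTo (Finset.mem_insert_self _ _), hp⟩

/-- A vector fixed by the squares of the stabiliser of two or three points is spanned by them. -/
theorem fix_set (hL : IsCocode L)
    (hspan : ∀ v : V, ∃ s : Finset GolayPt, 2 ∣ s.card ∧ L (ind s) = v)
    {R : Finset GolayPt} {p : GolayPt} (hp : p ∈ R) (hR : R.card ≤ 3) (v : V)
    (hv : ∀ σ ∈ M24, (∀ r ∈ R, σ r = r) → ∀ S : Finset GolayPt, 2 ∣ S.card → L (ind S) = v →
      L (ind ((σ * σ) • S)) = v) :
    ∃ S, S ⊆ R ∧ 2 ∣ S.card ∧ v = L (ind S) := by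
  classical
  obtain ⟨S₀, hS₀, rfl⟩ := hspan v
  obtain ⟨T, h1, h2, h3, h4⟩ := exists_short_mem hL hS₀ p
  have hinv : ∀ σ ∈ M24, (∀ r ∈ R, σ r = r) → (σ * σ) • T = T := by
    intro σ hσ hfix
    have hc : ((σ * σ) • T).card = T.card := Finset.card_smul_finset _ _
    refine eq_of_symm hL (hc ▸ h1) h1 ?_ ((hv σ hσ hfix T h1 h4).trans h4.symm)
    have hd := card_symmDiff_two (s := (σ * σ) • T) (t := T)
    by_cases h : T.card = 4
    · have hpT := h3 h
      have : 0 < (((σ * σ) • T) ∩ T).card := Finset.card_pos.2 ⟨p, Finset.mem_inter.2 ⟨by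
        rw [Finset.mem_smul_finset]
        exact ⟨p, hpT, by rw [Equiv.Perm.smul_def, Equiv.Perm.mul_apply, hfix p hp, hfix p hp]⟩, hpT⟩⟩
      omega
    · omega
  refine ⟨T, fun a ha => ?_, h1, h4.symm⟩
  by_contra haR
  have hall : ∀ b, b ∉ R → b ∈ T := by
    intro b hb
    rcases eq_or_ne a b with rfl | hab
    · exact ha
    obtain ⟨τ, hτ, hfix, e⟩ := sq_trans hR haR hb hab
    rw [← hinv τ hτ hfix, Finset.mem_smul_finset]
    exact ⟨a, ha, e⟩
  have h5 := Finset.card_le_card (show Rᶜ ⊆ T from fun b hb => hall b (Finset.mem_compl.1 hb))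
  rw [Finset.card_compl, show Fintype.card GolayPt = 24 from Fintype.card_congr idxEquiv] at h5
  omega

end Cfsg.Agent.LargeFischerIndexTwo28Golay
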