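import Mathlib
import Cfsg.Agent.Lib.LFMathieu89
import Cfsg.Agent.Lib.LargeFischerIndexTwo28Golay

/-!
The normaliser of the large elementary abelian subgroup with the duads as a family of elements.
-/

set_option autoImplicit false
set_option linter.style.haveILetI false
set_option linter.unusedSectionVars false
set_option maxHeartbeats 1000000

namespace Cfsg.Agent.LargeFischerIndexTwo28Frame

open Subgroup Cfsg Cfsg.Agent.U62Mon93 Cfsg.Agent.LFSetting89 Cfsg.Agent.LFElem89 Cfsg.Agent.LFFusion89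
  Cfsg.Agent.LFBound89 Cfsg.Agent.LFSylow89 Cfsg.Agent.GolayModule Cfsg.Agent.GolayBasic
  Cfsg.Agent.GolayDuadRigid13 Cfsg.Agent.LargeFischerIndexTwo28Golay Cfsg.Agent.LFModel89
  Cfsg.Agent.LFOrbitA89
open scoped Pointwise symmDiff

universe u

variable {G : Type u} [Group G]

/-- The duads of `A` with the action of its normaliser. -/
structure Frame (z : G) (A : Subgroup G) (dd : GolayPt → GolayPt → G)
    (φ : ↥(Subgroup.normalizer (A : Set G)) →* ↥Cfsg.M24) : Prop where
  ea : EA A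
  card : Nat.card A = 2 ^ 11
  z_mem : z ∈ A
  unique : ∀ B : Subgroup G, EA B → Nat.card B = 2 ^ 11 → ∃ g : G, B = cj g A
  cent : ∀ g : G, (∀ x ∈ A, g * x = x * g) → g ∈ A
  surj : Function.Surjective φ
  ker : ∀ m, φ m = 1 ↔ (m : G) ∈ A
  mem : ∀ p q, dd p q ∈ A
  symm : ∀ p q, dd p q = dd q p
  mul : ∀ p q r, dd p q * dd q r = dd p r
  ne_one : ∀ p q, p ≠ q → dd p q ≠ 1
  inj : ∀ p q r s, p ≠ q → r ≠ s → dd p q = dd r s → ({p, q} : Finset GolayPt) = {r, s}
  conj : ∀ (m : ↥(Subgroup.normalizer (A : Set G))) p q,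
    (m : G) * dd p q * (m : G)⁻¹ = dd ((φ m).1 p) ((φ m).1 q)
  gen : ∀ H : Subgroup G, (∀ p q, dd p q ∈ H) → A ≤ H
  nonz : ∀ a ∈ A, a ≠ 1 → ¬ IsConj z a → ∃ p q, p ≠ q ∧ a = dd p q
  fix_two : ∀ p q, p ≠ q → ∀ v ∈ A, (∀ m : ↥(Subgroup.normalizer (A : Set G)),
    (φ m).1 p = p → (φ m).1 q = q → (m : G) * m * v = v * ((m : G) * m)) → v = 1 ∨ v = dd p q
  fix_three : ∀ p q r, p ≠ q → p ≠ r → q ≠ r → ∀ v ∈ A, (∀ m : ↥(Subgroup.normalizer (A : Set G)),
    (φ m).1 p = p → (φ m).1 q = q → (φ m).1 r = r → (m : G) * m * v = v * ((m : G) * m)) →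
    v = 1 ∨ v = dd p q ∨ v = dd p r ∨ v = dd q r
  grow : ∀ p q, p ≠ q → ∀ H : Subgroup G, dd p q ∈ H →
    (∀ a b, a ≠ p → a ≠ q → b ≠ p → b ≠ q → dd a b ∈ H) → ∀ a b, dd a b ∈ H

theorem ind_pair {p q : GolayPt} (hpq : p ≠ q) :
    ind ({p, q} : Finset GolayPt) = ind {p} + ind {q} := by
  rw [← ind_symmDiff]
  congr 1
  ext z
  simp only [Finset.mem_symmDiff, Finset.mem_insert, Finset.mem_singleton]
  by_cases h2 : z = p
  · subst h2; simp [hpq]
  · simp [h2]

theorem two_ind (s : Finset GolayPt) : ind s + ind s = 0 :=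
  funext fun _ => (by decide : ∀ a : ZMod 2, a + a = 0) _

theorem ind_sum (s : Finset GolayPt) : ind s = ∑ p ∈ s, ind {p} := by
  funext z
  simp [ind, Finset.sum_apply]

theorem subset_pair {S : Finset GolayPt} {p q r : GolayPt} (hS : S ⊆ {p, q, r}) (he : 2 ∣ S.card)
    (hpq : p ≠ q) (hpr : p ≠ r) (hqr : q ≠ r) :
    S = ∅ ∨ S = {p, q} ∨ S = {p, r} ∨ S = {q, r} := by
  have h3 := Finset.card_le_card hS
  have h3' := Finset.card_le_three (a := p) (b := q) (c := r)
  obtain h | h : S.card = 0 ∨ S.card = 2 := by omega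
  · exact Or.inl (Finset.card_eq_zero.1 h)
  obtain ⟨a, b, hab, rfl⟩ := Finset.card_eq_two.1 h
  have ha := hS (Finset.mem_insert_self a _)
  have hb := hS (Finset.mem_insert_of_mem (Finset.mem_singleton_self b))
  simp only [Finset.mem_insert, Finset.mem_singleton] at ha hb
  rcases ha with rfl | rfl | rfl <;> rcases hb with rfl | rfl | rfl <;>
    first
    | exact absurd rfl hab
    | exact Or.inr (Or.inl rfl)
    | exact Or.inr (Or.inl (Finset.pair_comm _ _))
    | exact Or.inr (Or.inr (Or.inl rfl))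
    | exact Or.inr (Or.inr (Or.inl (Finset.pair_comm _ _)))
    | exact Or.inr (Or.inr (Or.inr rfl))
    | exact Or.inr (Or.inr (Or.inr (Finset.pair_comm _ _)))

variable [Finite G]

theorem exists_frame {z : G} (Q : Subgroup (centralizer ({z} : Set G))) [Q.Normal]
    (hF : Cfsg.IsOfLargeFischerTypeAt z Q) :
    ∃ (A : Subgroup G) (dd : GolayPt → GolayPt → G)
      (φ : ↥(Subgroup.normalizer (A : Set G)) →* ↥Cfsg.M24) (t : G),
      Frame z A dd φ ∧ t ∈ A ∧ t ≠ 1 ∧ ¬ IsConj z t ∧
        ∃ htc : t ∈ centralizer ({z} : Set G), (⟨t, htc⟩ : centralizer ({z} : Set G)) ∈ Q := by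
  classical
  obtain ⟨V, _, zc, π, ρ, q, n, Mb, D⟩ := LFSetting89.exists_data z Q hF
  haveI : Fintype (GaloisField 2 2) := Fintype.ofFinite _
  have hF4 : Fintype.card (GaloisField 2 2) = 4 := by
    rw [← Nat.card_eq_fintype_card, GaloisField.card 2 2 two_ne_zero]; norm_num
  obtain ⟨s, hs⟩ := exists_S4 hF4
  obtain ⟨ν, Φ, C⟩ := LFModel89.exists_coord (hyp D) hs
  obtain ⟨x5, -, -, -, ⟨h5A, h5Q, h51, -⟩, ⟨n5, -⟩, -⟩ := classes D C hF
  obtain ⟨Ψ, hmul, hA, hinj, hsurj, hR⟩ := LFCoord89.model D C hF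
  obtain ⟨hAea, hAc, hzA⟩ := AG_facts D C
  letI : CommGroup (AG D C) :=
    { (AG D C).toGroup with mul_comm := fun a b => Subtype.ext (hAea.2 a a.2 b b.2) }
  let M := Subgroup.normalizer (AG D C : Set G)
  let ψ : ℕ → Additive (AG D C) := fun i => Additive.ofMul ⟨Ψ i, hA i⟩
  have hx : ∀ a b, ψ (Nat.xor a b) = ψ a + ψ b := fun a b =>
    congrArg Additive.ofMul (Subtype.ext (hmul a b) :
      (⟨Ψ (Nat.xor a b), hA _⟩ : AG D C) = ⟨Ψ a, hA a⟩ * ⟨Ψ b, hA b⟩)
  have hinj' : ∀ i < 2048, ∀ j < 2048, ψ i = ψ j → i = j := fun i hi j hj e =>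
    hinj i hi j hj (congrArg (fun v : Additive (AG D C) => (Additive.toMul v).1) e)
  have hsurj' : ∀ v, ∃ i < 2048, ψ i = v := fun v => by
    obtain ⟨i, hi, e⟩ := hsurj _ (Additive.toMul v).2
    exact ⟨i, hi, congrArg Additive.ofMul (Subtype.ext e : (⟨Ψ i, hA i⟩ : AG D C) = Additive.toMul v)⟩
  obtain ⟨hL, hspan, hduads⟩ := LFCocode89.cocode hx hinj' hsurj'
  set L := LFCocode89.Lc ψ hx with hLdef
  have hdiff : ∀ v, v ∈ duads L ↔ (Additive.toMul v).1 ≠ 1 ∧ ¬ IsConj z (Additive.toMul v).1 := by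
    intro v
    rw [hduads]
    constructor
    · rintro ⟨r, hr, rfl⟩
      exact ((hR _).2 ⟨r, hr, rfl⟩).2
    · intro hv
      obtain ⟨r, hr, e⟩ := (hR _).1 ⟨(Additive.toMul v).2, hv.1, hv.2⟩
      exact ⟨r, hr, congrArg Additive.ofMul (Subtype.ext e : (⟨Ψ r, hA r⟩ : AG D C) = Additive.toMul v)⟩
  let c : M →* AddMonoid.End (Additive (AG D C)) :=
    { toFun := fun m =>
        { toFun := fun v => Additive.ofMul
            ⟨(m : G) * (Additive.toMul v).1 * (m : G)⁻¹, AG_normal D C m.2 (Additive.toMul v).2⟩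
          map_zero' := congrArg Additive.ofMul (Subtype.ext (by simp) :
            (⟨(m : G) * (1 : AG D C).1 * (m : G)⁻¹, AG_normal D C m.2 (one_mem _)⟩ : AG D C) = 1)
          map_add' := fun a b => congrArg Additive.ofMul (Subtype.ext (by simp [mul_assoc]) :
            (⟨(m : G) * (Additive.toMul a * Additive.toMul b).1 * (m : G)⁻¹, AG_normal D C m.2
              (Additive.toMul a * Additive.toMul b).2⟩ : AG D C) =
              ⟨_, AG_normal D C m.2 (Additive.toMul a).2⟩ * ⟨_, AG_normal D C m.2 (Additive.toMul b).2⟩) }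
      map_one' := AddMonoidHom.ext fun v => congrArg Additive.ofMul (Subtype.ext (by simp) :
        (⟨((1 : M) : G) * (Additive.toMul v).1 * ((1 : M) : G)⁻¹,
          AG_normal D C (1 : M).2 (Additive.toMul v).2⟩ : AG D C) = Additive.toMul v)
      map_mul' := fun a b => AddMonoidHom.ext fun v => congrArg Additive.ofMul (Subtype.ext
        (show ((a * b : M) : G) * (Additive.toMul v).1 * ((a * b : M) : G)⁻¹ =
          (a : G) * ((b : G) * (Additive.toMul v).1 * (b : G)⁻¹) * (a : G)⁻¹ by simp [mul_assoc])) }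
  have hcval : ∀ (m : M) v, (Additive.toMul (c m v)).1 = (m : G) * (Additive.toMul v).1 * (m : G)⁻¹ :=
    fun m v => rfl
  have hRG : ∀ m : M, ∀ p q, p ≠ q → ∃ r t, r ≠ t ∧ c m (duad L p q) = duad L r t := by
    intro m p q hpq
    have h1 := (hdiff _).1 ⟨p, q, hpq, rfl⟩
    obtain ⟨r, t, hrt, e⟩ := (hdiff (c m (duad L p q))).2 ⟨fun e => h1.1 (by
        rw [hcval, mul_inv_eq_one] at e
        exact mul_eq_left.1 e), fun e => h1.2 (by
        rw [hcval] at e
        exact IsConj.trans e (isConj_iff.2 ⟨(m : G)⁻¹, by group⟩))⟩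
    exact ⟨r, t, hrt, e.symm⟩
  obtain ⟨φ, hφ, hker, hsur⟩ := GolayDuadRigid13.exists_hom hL hspan c hRG
  have hkerc : c.ker = (AG D C).subgroupOf M := by
    ext m
    rw [MonoidHom.mem_ker, Subgroup.mem_subgroupOf]
    constructor
    · intro e
      refine LFMathieu89.cent_AG D C fun x hx => ?_
      have e1 := congrArg (fun f : AddMonoid.End (Additive (AG D C)) =>
        (Additive.toMul (f (Additive.ofMul ⟨x, hx⟩))).1) e
      simp only [hcval] at e1
      exact mul_inv_eq_iff_eq_mul.1 e1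
    · intro hm
      refine AddMonoidHom.ext fun v => congrArg Additive.ofMul (Subtype.ext ?_)
      show (m : G) * (Additive.toMul v).1 * (m : G)⁻¹ = (Additive.toMul v).1
      rw [hAea.2 _ hm _ (Additive.toMul v).2, mul_inv_cancel_right]
  have hidx : 244823040 ∣ c.ker.index := by
    have h1 := Subgroup.card_mul_index ((AG D C).subgroupOf M)
    rw [Nat.card_congr (Subgroup.subgroupOfEquivOfLe (show AG D C ≤ M from Subgroup.le_normalizer)).toEquiv,
      hAc] at h1
    rw [hkerc]
    refine Nat.dvd_of_mul_dvd_mul_left (show 0 < 2 ^ 11 by norm_num) ?_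
    rw [h1]
    exact (by norm_num : (2 ^ 11 * 244823040 : ℕ) = 501397585920) ▸ LFMathieu89.dvd_M D C hF
  have hs' := hsur hidx
  -- the elements attached to pairs of points
  let W : GolayPt → GolayPt → Additive (AG D C) := fun p r => L (ind {p} + ind {r})
  have hWd : ∀ p r, p ≠ r → W p r = duad L p r := fun p r h => by
    show L _ = L _
    rw [ind_pair h]
  have hW0 : ∀ p, W p p = 0 := fun p => by
    show L _ = 0
    rw [two_ind, map_zero]
  let dd : GolayPt → GolayPt → G := fun p r => (Additive.toMul (W p r)).1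
  have hconj : ∀ (m : M) p r, (m : G) * dd p r * (m : G)⁻¹ = dd ((φ m).1 p) ((φ m).1 r) := by
    intro m p r
    show _ = (Additive.toMul (W _ _)).1
    rw [← hcval]
    rcases eq_or_ne p r with rfl | hpr
    · rw [hW0, hW0, map_zero]
    · rw [hWd _ _ hpr, hWd _ _ ((φ m).1.injective.ne hpr), hφ m p r hpr]
  have hind : ∀ (m : M) (S : Finset GolayPt), 2 ∣ S.card →
      c m (L (ind S)) = L (ind ((φ m).1 • S)) := by
    intro m S hS
    have e1 : ∀ T : Finset GolayPt, 2 ∣ T.card → ind T = ∑ p ∈ T, (ind {none} + ind {p}) := by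
      intro T hT
      obtain ⟨k, hk⟩ := hT
      rw [Finset.sum_add_distrib, Finset.sum_const, hk, mul_comm, mul_nsmul', two_nsmul, two_ind,
        nsmul_zero, zero_add, ← ind_sum]
    have e2 : ∀ T : Finset GolayPt, 2 ∣ T.card → ∀ x : GolayPt,
        ind T = ∑ p ∈ T, (ind {x} + ind {p}) := by
      intro T hT x
      obtain ⟨k, hk⟩ := hT
      rw [Finset.sum_add_distrib, Finset.sum_const, hk, mul_comm, mul_nsmul', two_nsmul, two_ind,
        nsmul_zero, zero_add, ← ind_sum]
    rw [e1 S hS, map_sum, map_sum, e2 ((φ m).1 • S) (by rwa [Finset.card_smul_finset]) ((φ m).1 none), map_sum,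
      Finset.smul_finset_def, Finset.sum_image fun a _ b _ h => by simpa using h]
    refine Finset.sum_congr rfl fun p _ => ?_
    apply Additive.toMul.injective
    apply Subtype.ext
    rw [hcval]
    exact hconj m none p
  have hfix : ∀ (R : Finset GolayPt) (p : GolayPt), p ∈ R → R.card ≤ 3 → ∀ (v : G) (hv : v ∈ AG D C),
      (∀ m : M, (∀ r ∈ R, (φ m).1 r = r) → (m : G) * m * v = v * ((m : G) * m)) →
      ∃ S, S ⊆ R ∧ 2 ∣ S.card ∧ v = (Additive.toMul (L (ind S))).1 := by
    intro R p hp hR v hv h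
    obtain ⟨S, h1, h2, h3⟩ := fix_set hL hspan hp hR (Additive.ofMul ⟨v, hv⟩) (fun σ hσ hfx S hS e => by
      obtain ⟨m, hm⟩ := hs' ⟨σ, hσ⟩
      have e1 : c (m * m) (L (ind S)) = L (ind ((σ * σ) • S)) := by
        rw [hind _ _ hS, map_mul, hm]
        rfl
      rw [← e1, e]
      apply Additive.toMul.injective
      apply Subtype.ext
      rw [hcval]
      show ((m * m : M) : G) * v * ((m * m : M) : G)⁻¹ = v
      have h4 := h m (fun r hr => by rw [hm]; exact hfx r hr)
      rw [Subgroup.coe_mul, h4, mul_inv_cancel_right])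
    exact ⟨S, h1, h2, congrArg (fun w : Additive (AG D C) => (Additive.toMul w).1) h3⟩
  refine ⟨AG D C, dd, φ, (x5 : G), ?_, ⟨x5, h5A, rfl⟩, fun e => h51 (Subtype.ext e), n5, x5.2, h5Q⟩
  refine ⟨hAea, hAc, hzA, ?_, fun g => LFMathieu89.cent_AG D C, hs', ?_, fun p r => (Additive.toMul (W p r)).2,
    ?_, ?_, ?_, ?_, hconj, ?_, ?_, ?_, ?_, ?_⟩
  · intro B hB hBc
    haveI : Fact (Nat.Prime 2) := ⟨Nat.prime_two⟩
    obtain ⟨T, hT⟩ := (IsPGroup.of_card (p := 2) (n := 11) hBc).exists_le_sylow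
    obtain ⟨S, -, -, huniq⟩ := exists_sylow D C hF
    obtain ⟨g, hg⟩ := MulAction.exists_smul_eq G S T
    have hTe : (T : Subgroup G) = cj g (S : Subgroup G) := by rw [← hg]; rfl
    refine ⟨g, ?_⟩
    have h1 : cj g⁻¹ B ≤ (S : Subgroup G) := by
      rintro _ ⟨x, hx, rfl⟩
      obtain ⟨y, hy, rfl⟩ := (hTe ▸ hT) hx
      show g⁻¹ * (g * y * g⁻¹) * g⁻¹⁻¹ ∈ (S : Subgroup G)
      rwa [show g⁻¹ * (g * y * g⁻¹) * g⁻¹⁻¹ = y by group]
    rw [← huniq _ h1 (hB.cj g⁻¹) (by rw [card_cj, hBc]), cj, cj, Subgroup.map_map]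
    refine (Subgroup.map_id B).symm.trans ?_
    congr 1
    refine MonoidHom.ext fun x => ?_
    simp [mul_assoc]
  · intro m
    rw [← MonoidHom.mem_ker, hker, hkerc, Subgroup.mem_subgroupOf]
  · intro p r
    show (Additive.toMul (L _)).1 = (Additive.toMul (L _)).1
    rw [add_comm]
  · intro p r t
    show (Additive.toMul (W p r + W r t)).1 = (Additive.toMul (W p t)).1
    congr 2
    show L _ + L _ = L _
    rw [← map_add, add_assoc, ← add_assoc (ind {r}) (ind {r}), two_ind, zero_add]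
  · intro p r hpr e
    exact ((hdiff _).1 ⟨p, r, hpr, (hWd p r hpr).symm⟩).1 e
  · intro p r a b hpr hab e
    have e' : W p r = W a b := Additive.toMul.injective (Subtype.ext e)
    rw [hWd p r hpr, hWd a b hab] at e'
    exact (duad_eq_iff hL hpr hab).1 e'
  · intro H hH v hv
    obtain ⟨S, hS, e⟩ := hspan (Additive.ofMul ⟨v, hv⟩)
    have e1 : ind S = ∑ p ∈ S, (ind {none} + ind {p}) := by
      obtain ⟨k, hk⟩ := hS
      rw [Finset.sum_add_distrib, Finset.sum_const, hk, mul_comm, mul_nsmul', two_nsmul, two_ind,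
        nsmul_zero, zero_add, ← ind_sum]
    rw [e1, map_sum] at e
    have hv' : Additive.ofMul (⟨v, hv⟩ : AG D C) ∈ (H.subgroupOf (AG D C)).toAddSubgroup := by
      rw [← e]
      exact sum_mem fun p _ => hH none p
    exact hv'
  · intro a ha ha1 haz
    obtain ⟨p, r, hpr, e⟩ := (hdiff (Additive.ofMul ⟨a, ha⟩)).2 ⟨ha1, haz⟩
    exact ⟨p, r, hpr, (congrArg (fun w : Additive (AG D C) => (Additive.toMul w).1) ((hWd p r hpr).trans e)).symm⟩
  · intro p r hpr v hv h
    obtain ⟨S, hS, hev, rfl⟩ := hfix {p, r} p (Finset.mem_insert_self _ _)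
      (Finset.card_le_two.trans (by norm_num)) v hv
      (fun m hm => h m (hm p (by simp)) (hm r (by simp)))
    obtain h | h : S.card = 0 ∨ S.card = 2 := by
      have := (Finset.card_le_card hS).trans Finset.card_le_two
      omega
    · left
      rw [Finset.card_eq_zero.1 h, ind_empty, map_zero]
      rfl
    · right
      rw [Finset.eq_of_subset_of_card_le hS (by rw [h]; exact Finset.card_le_two), ind_pair hpr]
  · intro p r t hpr hpt hrt v hv h
    obtain ⟨S, hS, hev, rfl⟩ := hfix {p, r, t} p (Finset.mem_insert_self _ _) Finset.card_le_three v hv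
      (fun m hm => h m (hm p (by simp)) (hm r (by simp)) (hm t (by simp)))
    rcases subset_pair hS hev hpr hpt hrt with e | e | e | e <;> rw [e]
    · exact Or.inl (by rw [ind_empty, map_zero]; rfl)
    · exact Or.inr (Or.inl (by rw [ind_pair hpr]))
    · exact Or.inr (Or.inr (Or.inl (by rw [ind_pair hpt])))
    · exact Or.inr (Or.inr (Or.inr (by rw [ind_pair hrt])))
  · intro p r hpr H hprH hout
    let K := (H.subgroupOf (AG D C)).toAddSubgroup
    obtain ⟨a1, h1⟩ := exists_notMem (s := {p, r}) (Finset.card_le_two.trans_lt (by norm_num))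
    obtain ⟨a2, h2⟩ := exists_notMem (s := {p, r, a1}) (Finset.card_le_three.trans_lt (by norm_num))
    obtain ⟨a3, h3⟩ := exists_notMem (s := {p, r, a1, a2}) (Finset.card_le_four.trans_lt (by norm_num))
    simp only [Finset.mem_insert, Finset.mem_singleton, not_or] at h1 h2 h3
    have h5 : ({p, r, a1, a2, a3} : Finset GolayPt).card = 5 := by
      rw [Finset.card_insert_of_notMem, Finset.card_insert_of_notMem, Finset.card_insert_of_notMem,
        Finset.card_pair (Ne.symm h3.2.2.2)] <;> simp [hpr, Ne.symm h1.1, Ne.symm h1.2, Ne.symm h2.1,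
          Ne.symm h2.2.1, Ne.symm h2.2.2, Ne.symm h3.1, Ne.symm h3.2.1, Ne.symm h3.2.2.1,
          Ne.symm h3.2.2.2]
    obtain ⟨o0, ho0, hs0⟩ := GolaySteiner.exists_octad_five h5
    obtain ⟨a4, h4⟩ := exists_notMem (s := o0) (by rw [(mem_octads.1 ho0).2]; norm_num)
    have hin : ∀ x ∈ ({p, r, a1, a2, a3} : Finset GolayPt), x ≠ a4 := fun x hx e => h4 (e ▸ hs0 hx)
    have h5' : ({p, a1, a2, a3, a4} : Finset GolayPt).card = 5 := by
      rw [Finset.card_insert_of_notMem, Finset.card_insert_of_notMem, Finset.card_insert_of_notMem,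
        Finset.card_pair (hin a3 (by simp))] <;> simp [Ne.symm h1.1, Ne.symm h2.1,
          Ne.symm h2.2.2, Ne.symm h3.1, Ne.symm h3.2.2.1, Ne.symm h3.2.2.2, hin p (by simp),
          hin a1 (by simp), hin a2 (by simp)]
    obtain ⟨o, ho, hso⟩ := GolaySteiner.exists_octad_five h5'
    have hr : r ∉ o := by
      intro hr
      have : o = o0 := GolaySteiner.octad_eq_of_five ho ho0 (s := {p, r, a1, a2, a3}) h5.ge
        (by
          intro x hx
          simp only [Finset.mem_insert, Finset.mem_singleton] at hx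
          rcases hx with rfl | rfl | rfl | rfl | rfl <;>
            first
              | exact hr
              | exact hso (by simp)) hs0
      exact h4 (this ▸ hso (by simp))
    have hp : p ∈ o := hso (Finset.mem_insert_self _ _)
    have e1 : ind o = ∑ x ∈ o, (ind {a1} + ind {x}) := by
      rw [Finset.sum_add_distrib, Finset.sum_const, (mem_octads.1 ho).2,
        show (8 : ℕ) = 4 * 2 from rfl, mul_nsmul', two_nsmul, two_ind, nsmul_zero, zero_add, ← ind_sum]
    have e2 := L_octad hL ho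
    rw [e1, map_sum, ← Finset.add_sum_erase o _ hp] at e2
    have hmem : W a1 p ∈ K := by
      rw [show W a1 p = -∑ x ∈ o.erase p, W a1 x from eq_neg_of_add_eq_zero_left e2]
      refine neg_mem (sum_mem fun x hx => ?_)
      rw [Finset.mem_erase] at hx
      exact hout a1 x h1.1 h1.2 hx.1 fun e => hr (e ▸ hx.2)
    have key : ∀ x, W a1 x ∈ K := by
      intro x
      by_cases hxp : x = p
      · exact hxp ▸ hmem
      by_cases hxr : x = r
      · have : W a1 x = W a1 p + W p x := by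
          show L _ = L _ + L _
          rw [← map_add, add_assoc, ← add_assoc (ind {p}) (ind {p}), two_ind, zero_add]
        rw [this]
        exact add_mem hmem (hxr ▸ hprH)
      exact hout a1 x h1.1 h1.2 hxp hxr
    intro a b
    have : W a b = W a1 a + W a1 b := by
      show L _ = L _ + L _
      rw [← map_add, add_comm (ind {a1}) (ind {a}), add_assoc, ← add_assoc (ind {a1}) (ind {a1}),
        two_ind, zero_add]
    show W a b ∈ K
    rw [this]
    exact add_mem (key a) (key b)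

end Cfsg.Agent.LargeFischerIndexTwo28Frame
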