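import Mathlib
import Cfsg.Agent.Lib.GolayOutM24
import Cfsg.Agent.Lib.LargeFischerIndexTwo28Frame

/-!
An outer involution centralising the large elementary abelian subgroup.
-/

set_option autoImplicit false
set_option linter.style.haveILetI false
set_option linter.unusedSectionVars false

namespace Cfsg.Agent.LargeFischerIndexTwo28Outer

open Subgroup Cfsg.Agent.LargeFischerIndexTwo28Frame Cfsg.Agent.LFSylow89 Cfsg.Agent.LFBound89

universe u

variable {X : Type u} [Group X] [Finite X] (G₀ : Subgroup X)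
  {A : Subgroup G₀} {dd : Cfsg.GolayPt → Cfsg.GolayPt → G₀}
  {φ : ↥(Subgroup.normalizer (A : Set G₀)) →* ↥Cfsg.M24} {z : G₀}

theorem map_normalizer (f : MulAut G₀) (hf : ∀ a ∈ A, f a ∈ A) {m : G₀}
    (hm : m ∈ Subgroup.normalizer (A : Set G₀)) : f m ∈ Subgroup.normalizer (A : Set G₀) := by
  refine Subgroup.mem_normalizer_fintype fun a ha => ?_
  obtain ⟨b, hb, rfl⟩ : ∃ b ∈ A, f b = a := by
    have he : A.map f.toMonoidHom = A := Subgroup.eq_of_le_of_card_ge
      (Subgroup.map_le_iff_le_comap.2 hf)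
      (Subgroup.card_map_of_injective (f := f.toMonoidHom) f.injective).ge
    exact (SetLike.ext_iff.1 he a).2 ha
  rw [← map_inv, ← map_mul, ← map_mul]
  exact hf _ ((Subgroup.mem_normalizer_iff.1 hm b).1 hb)

theorem exists_outer (hidx : G₀.index = 2) (F : Frame z A dd φ) :
    ∃ y : X, y ∉ G₀ ∧ y * y = 1 ∧ (∀ a ∈ A, y * (a : X) = (a : X) * y) ∧
      ∀ m ∈ Subgroup.normalizer (A : Set G₀), ∃ a ∈ A, (m : X) * y * (m : X)⁻¹ = y * (a : X) := by
  classical
  haveI : G₀.Normal := Subgroup.normal_of_index_eq_two hidx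
  let σ : X →* MulAut G₀ := MulAut.conjNormal
  have hσ : ∀ x (g : G₀), (σ x g : X) = x * g * x⁻¹ := fun x g => MulAut.conjNormal_apply x g
  obtain ⟨x, hx⟩ : ∃ x : X, x ∉ G₀ := by
    by_contra h
    push Not at h
    rw [(Subgroup.eq_top_iff' G₀).2 h, Subgroup.index_top] at hidx
    exact absurd hidx (by norm_num)
  -- an element normalising the subgroup
  have hB : EA (A.map (σ x).toMonoidHom) := by
    refine ⟨?_, ?_⟩
    · rintro _ ⟨a, ha, rfl⟩
      rw [← map_mul, F.ea.1 a ha, map_one]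
    · rintro _ ⟨a, ha, rfl⟩ _ ⟨b, hb, rfl⟩
      rw [← map_mul, ← map_mul, F.ea.2 a ha b hb]
  obtain ⟨g, hg⟩ := F.unique _ hB
    (by rw [Subgroup.card_map_of_injective (f := (σ x).toMonoidHom) (σ x).injective, F.card])
  set y0 : X := (g : X)⁻¹ * x with hy0
  have hy0A : ∀ a ∈ A, σ y0 a ∈ A := by
    intro a ha
    obtain ⟨b, hb, e⟩ : σ x a ∈ cj g A := hg ▸ Subgroup.mem_map_of_mem _ ha
    have : σ y0 a = b := Subtype.ext (by
      have e' : (g : X) * b * (g : X)⁻¹ = x * a * x⁻¹ := by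
        rw [← hσ x a, ← e]; rfl
      rw [hσ, hy0, show (g : X)⁻¹ * x * a * ((g : X)⁻¹ * x)⁻¹ = (g : X)⁻¹ * (x * a * x⁻¹) * g by group,
        ← e']
      group)
    rwa [this]
  have hy0o : y0 ∉ G₀ := fun h => hx (by
    have := G₀.mul_mem g.2 h
    rwa [hy0, mul_inv_cancel_left] at this)
  -- its action on the quotient by the subgroup
  let ψ : ↥(Subgroup.normalizer (A : Set G₀)) →* ↥Cfsg.M24 :=
    φ.comp (MonoidHom.mk' (fun m => ⟨σ y0 m, map_normalizer G₀ _ hy0A m.2⟩)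
      fun a b => Subtype.ext (map_mul (σ y0) (a : G₀) (b : G₀)))
  have hle : φ.ker ≤ ψ.ker := fun m hm => by
    rw [MonoidHom.mem_ker] at hm ⊢
    exact (F.ker _).2 (hy0A _ ((F.ker m).1 hm))
  let β : ↥Cfsg.M24 →* ↥Cfsg.M24 := φ.liftOfSurjective F.surj ⟨ψ, hle⟩
  have hβ : ∀ m, β (φ m) = ψ m := fun m =>
    MonoidHom.liftOfRightInverse_comp_apply φ _ _ ⟨ψ, hle⟩ m
  have hψs : Function.Surjective ψ := by
    have he : Function.Injective (fun m : ↥(Subgroup.normalizer (A : Set G₀)) =>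
        (⟨σ y0 m, map_normalizer G₀ _ hy0A m.2⟩ : ↥(Subgroup.normalizer (A : Set G₀)))) := fun a b e =>
      Subtype.ext ((σ y0).injective (congrArg Subtype.val e))
    intro s
    obtain ⟨m, rfl⟩ := F.surj s
    obtain ⟨m', hm'⟩ := (Finite.injective_iff_surjective.1 he) m
    exact ⟨m', congrArg φ hm'⟩
  have hβs : Function.Surjective β := fun s => by
    obtain ⟨m, rfl⟩ := hψs s
    exact ⟨φ m, hβ m⟩
  obtain ⟨τ, hτ⟩ : MulEquiv.ofBijective β (Finite.surjective_iff_bijective.1 hβs) ∈ Cfsg.Inn ↥Cfsg.M24 := by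
    haveI := (Nat.card_eq_one_iff_unique.1 GolayOutM24.card_out).1
    exact (QuotientGroup.eq_one_iff _).1 (Subsingleton.elim _ _)
  have hψ : ∀ m, ψ m = τ * φ m * τ⁻¹ := fun m => by
    rw [← hβ, ← MulAut.conj_apply]
    exact (DFunLike.congr_fun hτ (φ m)).symm
  obtain ⟨m0, hm0⟩ := F.surj τ
  set y : X := ((m0 : G₀) : X)⁻¹ * y0 with hy
  have hyv : ∀ h : G₀, σ y h = (m0 : G₀)⁻¹ * σ y0 h * (m0 : G₀) := fun h => Subtype.ext (by
    simp only [Subgroup.coe_mul, Subgroup.coe_inv, hσ, hy]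
    group)
  have hyA : ∀ a ∈ A, σ y a ∈ A := fun a ha => by
    rw [hyv]
    exact (Subgroup.mem_normalizer_iff''.1 m0.2 _).1 (hy0A a ha)
  have hyM : ∀ (m : G₀) (hm : m ∈ Subgroup.normalizer (A : Set G₀)),
      φ ⟨σ y m, map_normalizer G₀ _ hyA hm⟩ = φ ⟨m, hm⟩ := fun m hm => by
    have e : (⟨σ y m, map_normalizer G₀ _ hyA hm⟩ : ↥(Subgroup.normalizer (A : Set G₀))) =
        m0⁻¹ * ⟨σ y0 m, map_normalizer G₀ _ hy0A hm⟩ * m0 := Subtype.ext (hyv m)
    rw [e, map_mul, map_mul, map_inv, hm0, show φ ⟨σ y0 m, map_normalizer G₀ _ hy0A hm⟩ = ψ ⟨m, hm⟩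
      from rfl, hψ]
    group
  have hyo : y ∉ G₀ := fun h => hy0o (by
    have := G₀.mul_mem (m0 : G₀).2 h
    rwa [hy, mul_inv_cancel_left] at this)
  have hyi : ∀ h : G₀, σ y (σ y⁻¹ h) = h := fun h => Subtype.ext (by rw [hσ, hσ]; group)
  have hyA' : ∀ a ∈ A, σ y⁻¹ a ∈ A := by
    intro a ha
    have he : A.map (σ y).toMonoidHom = A := Subgroup.eq_of_le_of_card_ge
      (Subgroup.map_le_iff_le_comap.2 hyA)
      (Subgroup.card_map_of_injective (f := (σ y).toMonoidHom) (σ y).injective).ge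
    obtain ⟨b, hb, e⟩ := (SetLike.ext_iff.1 he a).2 ha
    rw [show σ y⁻¹ a = b from (σ y).injective ((hyi a).trans e.symm)]
    exact hb
  have hyM' : ∀ (m : G₀) (hm : m ∈ Subgroup.normalizer (A : Set G₀)),
      φ ⟨σ y⁻¹ m, map_normalizer G₀ _ hyA' hm⟩ = φ ⟨m, hm⟩ := fun m hm => by
    rw [← hyM _ (map_normalizer G₀ _ hyA' hm)]
    exact congrArg φ (Subtype.ext (hyi m))
  -- it centralises the subgroup
  have hdd : ∀ p q, σ y (dd p q) = dd p q := by
    intro p q
    rcases eq_or_ne p q with rfl | hpq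
    · have h1 : dd p p = 1 := mul_eq_left.1 (F.mul p p p)
      rw [h1, map_one]
    refine (F.fix_two p q hpq _ (hyA _ (F.mem p q)) fun m hp hq => ?_).resolve_left fun e => ?_
    · have h := F.conj ⟨σ y⁻¹ m, map_normalizer G₀ _ hyA' m.2⟩ p q
      rw [hyM' _ m.2, show (⟨(m : G₀), m.2⟩ : ↥(Subgroup.normalizer (A : Set G₀))) = m from rfl, hp, hq] at h
      have h1 := congrArg (σ y) h
      rw [map_mul, map_mul, map_inv (σ y), hyi] at h1
      have h2 : Commute (m : G₀) (σ y (dd p q)) := mul_inv_eq_iff_eq_mul.1 h1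
      exact (h2.mul_left h2).eq
    · exact F.ne_one p q hpq ((σ y).injective (e.trans (map_one _).symm))
  have hcA : ∀ a ∈ A, y * (a : X) = (a : X) * y := by
    intro a ha
    have h1 : a ∈ MonoidHom.eqLocus (σ y).toMonoidHom (MonoidHom.id G₀) :=
      F.gen _ (fun p q => hdd p q) ha
    have h2 := congrArg Subtype.val (show σ y a = a from h1)
    rw [hσ] at h2
    exact mul_inv_eq_iff_eq_mul.1 h2
  have hco : ∀ m ∈ Subgroup.normalizer (A : Set G₀), ∃ a ∈ A, (m : X) * y * (m : X)⁻¹ = y * (a : X) := by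
    intro m hm
    refine ⟨σ y⁻¹ m * m⁻¹, ?_, ?_⟩
    · have h1 : φ (⟨σ y⁻¹ m, map_normalizer G₀ _ hyA' hm⟩ * ⟨m, hm⟩⁻¹) = 1 := by
        rw [map_mul, map_inv φ, hyM' m hm, mul_inv_cancel]
      exact (F.ker _).1 h1
    · simp only [Subgroup.coe_mul, Subgroup.coe_inv, hσ]
      group
  have hyy : (⟨y * y, Subgroup.mul_self_mem_of_index_two hidx y⟩ : G₀) ∈ A :=
    F.cent _ fun a ha => Subtype.ext (show y * y * (a : X) = a * (y * y) from
      ((show Commute y (a : X) from hcA a ha).mul_left (hcA a ha)).eq)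
  refine ⟨y, hyo, ?_, hcA, hco⟩
  set w : G₀ := ⟨y * y, Subgroup.mul_self_mem_of_index_two hidx y⟩ with hw
  have hfix : ∀ m : ↥(Subgroup.normalizer (A : Set G₀)), (m : G₀) * m * w = w * ((m : G₀) * m) := by
    intro m
    obtain ⟨a, ha, e⟩ := hco m m.2
    have ha2 : (a : X) * a = 1 := congrArg Subtype.val (F.ea.1 a ha)
    have h1 : ((m : G₀) : X) * (y * y) * ((m : G₀) : X)⁻¹ = y * y := by
      rw [show ((m : G₀) : X) * (y * y) * ((m : G₀) : X)⁻¹ =
        ((m : G₀) : X) * y * ((m : G₀) : X)⁻¹ * (((m : G₀) : X) * y * ((m : G₀) : X)⁻¹) by group, e,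
        show y * (a : X) * (y * a) = y * ((a : X) * y) * a by group, ← hcA a ha,
        show y * (y * (a : X)) * a = y * y * ((a : X) * a) by group, ha2, mul_one]
    have h2 : Commute ((m : G₀) : X) (y * y) := mul_inv_eq_iff_eq_mul.1 h1
    exact Subtype.ext (h2.mul_left h2).eq
  have h01 : (none : Cfsg.GolayPt) ≠ some 0 := by decide
  have h02 : (none : Cfsg.GolayPt) ≠ some 1 := by decide
  rcases F.fix_two none (some 0) h01 w hyy fun m _ _ => hfix m with e | e
  · exact congrArg Subtype.val e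
  rcases F.fix_two none (some 1) h02 w hyy fun m _ _ => hfix m with e' | e'
  · exact congrArg Subtype.val e'
  exact absurd (F.inj none (some 0) none (some 1) h01 h02 (e.symm.trans e')) (by decide)

end Cfsg.Agent.LargeFischerIndexTwo28Outer
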