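import Mathlib
import Cfsg.Agent.S5402
import Cfsg.Agent.Lib.LargeExtraspecialSetting
import Cfsg.Agent.Lib.LargeFischerIndexTwo28Aut
import Cfsg.Agent.Lib.LargeFischerIndexTwo28Fi22
import Cfsg.Agent.Lib.LargeFischerIndexTwo28Outer

/-!
An overgroup of index two of a group of large Fischer type has an outer involution whose centralizer is of
type M(23), given the structure of the centralizer of an involution not conjugate to the central one.
-/

set_option autoImplicit false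
set_option linter.style.haveILetI false
set_option linter.unusedSectionVars false
set_option maxHeartbeats 1000000

namespace Cfsg.Agent.LargeFischerIndexTwo28Main

open Subgroup Cfsg.Agent.LargeFischerIndexTwo28Frame Cfsg.Agent.LargeExtraspecial
  Cfsg.Agent.LargeFischerIndexTwo28Aut

universe u

/-- The centralizer of an involution of `Q` not conjugate to `z` is a double cover of the automorphism
group of Fi22. -/
def Aut22 (G : Type u) [Group G] : Prop :=
  ∀ (z : G) (Q : Subgroup (centralizer ({z} : Set G))) [Q.Normal], Cfsg.IsOfLargeFischerTypeAt z Q →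
    ∀ t : G, (∃ htc : t ∈ centralizer ({z} : Set G), (⟨t, htc⟩ : centralizer ({z} : Set G)) ∈ Q) →
    orderOf t = 2 → ¬ IsConj z t → ∃ K : Subgroup ↥(centralizer ({t} : Set G)),
      Cfsg.IsQuasisimple ↥K ∧ K.index = 2 ∧
      (∃ htc : t ∈ centralizer ({t} : Set G), (⟨t, htc⟩ : ↥(centralizer ({t} : Set G))) ∈ K) ∧
      ∀ [((zpowers t).subgroupOf (centralizer ({t} : Set G))).Normal],
        Nonempty (↥(centralizer ({t} : Set G)) ⧸ (zpowers t).subgroupOf (centralizer ({t} : Set G)) ≃*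
          MulAut Cfsg.Spor.Fi22)

variable {X : Type u} [Group X] [Finite X] (G₀ : Subgroup X)

/-- `main` together with the action on the outer involution of the centralizer of `t` in `G₀`. -/
theorem main_data (hidx : G₀.index = 2) (z : ↥G₀) (Q : Subgroup (centralizer ({z} : Set ↥G₀))) [Q.Normal]
    (hF : Cfsg.IsOfLargeFischerTypeAt z Q)
    (hFX : (Cfsg.generalizedFittingSubgroup ↥(centralizer ({(z : X)} : Set X))).map (Subgroup.subtype _) =
      ((Q.map (Subgroup.subtype _)).map G₀.subtype))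
    (h50 : Aut22 ↥G₀) :
    ∃ d : X, orderOf d = 2 ∧ d ∉ G₀ ∧ Commute d (z : X) ∧ ∃ t : ↥(G₀ ⊓ Subgroup.centralizer ({d} : Set X)), orderOf t = 2 ∧ Cfsg.IsQuasisimple ↥(Subgroup.centralizer ({t} : Set ↥(G₀ ⊓ Subgroup.centralizer ({d} : Set X)))) ∧ (∃ (_ : ((Subgroup.zpowers t).subgroupOf (Subgroup.centralizer ({t} : Set ↥(G₀ ⊓ Subgroup.centralizer ({d} : Set X))))).Normal), (∃ E : Set (↥(Subgroup.centralizer ({t} : Set ↥(G₀ ⊓ Subgroup.centralizer ({d} : Set X)))) ⧸ (Subgroup.zpowers t).subgroupOf (Subgroup.centralizer ({t} : Set ↥(G₀ ⊓ Subgroup.centralizer ({d} : Set X))))), Cfsg.IsThreeTranspositionClass E ∧ Cfsg.IsOfTypeM22 _ E) ∧ ∃ d' : ↥(Subgroup.centralizer ({t} : Set ↥(G₀ ⊓ Subgroup.centralizer ({d} : Set X)))) ⧸ (Subgroup.zpowers t).subgroupOf (Subgroup.centralizer ({t} : Set ↥(G₀ ⊓ Subgroup.centralizer ({d} : Set X)))), orderOf d' = 2 ∧ Cfsg.IsQuasisimple ↥(Subgroup.centralizer ({d'} : Set _)) ∧ (∃ (K : Type) (_ : Field K) (_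 : Fintype K), Fintype.card K = 4 ∧ ∃ _ : ((Subgroup.zpowers d').subgroupOf (Subgroup.centralizer ({d'} : Set _))).Normal, Nonempty (↥(Subgroup.centralizer ({d'} : Set _)) ⧸ (Subgroup.zpowers d').subgroupOf (Subgroup.centralizer ({d'} : Set _)) ≃* Cfsg.PSU 6 K 2)) ∧ ∃ g, g * d' * g⁻¹ ∈ Subgroup.centralizer ({d'} : Set _) ∧ g * d' * g⁻¹ ≠ d') ∧ (∃ g : ↥(G₀ ⊓ Subgroup.centralizer ({d} : Set X)), g * t * g⁻¹ ∈ Subgroup.centralizer ({t} : Set ↥(G₀ ⊓ Subgroup.centralizer ({d} : Set X))) ∧ g * t * g⁻¹ ≠ t) ∧ Cfsg.IsThreeTranspositionClass (conjugatesOf t) ∧ Cfsg.IsOfTypeM23 ↥(G₀ ⊓ Subgroup.centralizer ({d} : Set X)) (conjugatesOf t) ∧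
      (∃ j ∈ G₀, Commute j ((t : X)) ∧ j * d * j⁻¹ = d * (t : X)) ∧
      (∀ c ∈ G₀, Commute c (t : X) → c * d * c⁻¹ = d ∨ c * d * c⁻¹ = d * (t : X)) ∧
      (∀ c ∈ G₀, Commute c (t : X) → (∀ y ∈ G₀, Commute y (t : X) → Commute y d → Commute c y) →
        c = 1 ∨ c = (t : X)) := by
  classical
  haveI : G₀.Normal := Subgroup.normal_of_index_eq_two hidx
  obtain ⟨A, dd, φ, t, F, htA, ht1, htz, htQ⟩ := exists_frame Q hF
  obtain ⟨p, q, hpq, htpq⟩ := F.nonz t htA ht1 htz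
  have ht2 : orderOf t = 2 := orderOf_eq_prime (by rw [pow_two]; exact F.ea.1 t htA) ht1
  have htt : (t : X) * t = 1 := congrArg Subtype.val (F.ea.1 t htA)
  set C := centralizer ({t} : Set ↥G₀) with hCdef
  obtain ⟨K, hKq, hKi, ⟨htC, htK⟩, hiso⟩ := h50 z Q hF t htQ ht2 htz
  haveI hKn : K.Normal := Subgroup.normal_of_index_eq_two hKi
  have hmemC : ∀ c : ↥G₀, c ∈ C ↔ c * t = t * c := fun c => mem_centralizer_singleton_iff
  have hAC : ∀ a ∈ A, a ∈ C := fun a ha => (hmemC a).2 (F.ea.2 a ha t htA)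
  haveI hZn : ((zpowers t).subgroupOf C).Normal := by
    refine ⟨fun n hn g => ?_⟩
    obtain ⟨k, hk⟩ := mem_zpowers_iff.1 (mem_subgroupOf.1 hn)
    have hc : Commute (g : ↥G₀) (n : ↥G₀) := hk ▸ Commute.zpow_right ((hmemC _).1 g.2) k
    rw [mem_subgroupOf, coe_mul, coe_mul, coe_inv, hc.eq, mul_inv_cancel_right, ← hk]
    exact zpow_mem_zpowers t k
  obtain ⟨e⟩ := hiso
  haveI hS : IsSimpleGroup Cfsg.Spor.Fi22 := CosetCertFi22Simple.simple
  haveI hfin : Finite Cfsg.Spor.Fi22 := CosetCertFi22Simple.upper.1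
  have hS' : ¬ IsMulCommutative Cfsg.Spor.Fi22 := by
    intro h
    obtain ⟨d', -, -, -, g, -, hg⟩ := LargeFischerIndexTwo28Fi22.pt_fi22
    exact hg (by rw [h.is_comm.comm g d', mul_inv_cancel_right])
  have hOut : Nat.card (Cfsg.Out Cfsg.Spor.Fi22) = 2 := ThreeTransFi22Out41.card_out
  let χ : C →* MulAut Cfsg.Spor.Fi22 :=
    e.toMonoidHom.comp (QuotientGroup.mk' ((zpowers t).subgroupOf C))
  have hχs : Function.Surjective χ := e.surjective.comp (QuotientGroup.mk'_surjective _)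
  have hχk : ∀ c, χ c = 1 ↔ (c : ↥G₀) ∈ zpowers t := fun c => by
    rw [show χ c = e (QuotientGroup.mk c) from rfl, map_eq_one_iff _ e.injective,
      QuotientGroup.eq_one_iff, mem_subgroupOf]
  have hχkK : χ.ker ≤ K := fun c hc => by
    obtain ⟨k, hk⟩ := mem_zpowers_iff.1 ((hχk c).1 (MonoidHom.mem_ker.1 hc))
    have : c = (⟨t, htC⟩ : C) ^ k := Subtype.ext (by rw [SubgroupClass.coe_zpow]; exact hk.symm)
    rw [this]
    exact Subgroup.zpow_mem _ htK k
  have hKInn : K.map χ = Cfsg.Inn Cfsg.Spor.Fi22 :=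
    inn_le_of_index_two hS' hOut _ (by rw [Subgroup.index_map_eq _ hχs hχkK, hKi])
  have hKmem : ∀ c : C, c ∈ K ↔ χ c ∈ Cfsg.Inn Cfsg.Spor.Fi22 := fun c => by
    constructor
    · exact fun h => hKInn ▸ mem_map_of_mem χ h
    · intro h
      rw [← hKInn] at h
      have h' : c ∈ (K.map χ).comap χ := h
      rwa [comap_map_eq_self hχkK] at h'
  -- the subgroup lies in the quasisimple subgroup
  have hsq : ∀ c : C, c * c ∈ K := fun c => Subgroup.mul_self_mem_of_index_two hKi c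
  let H : Subgroup ↥G₀ := K.map C.subtype
  have hAH : A ≤ H := by
    refine F.gen H (F.grow p q hpq H (htpq ▸ ⟨_, htK, rfl⟩) fun a b hap haq hbp hbq => ?_)
    rcases eq_or_ne a b with rfl | hab
    · rw [mul_eq_left.1 (F.mul a a a)]
      exact one_mem _
    obtain ⟨τ, hτ, hfix, hτab⟩ := LargeFischerIndexTwo28Golay.sq_trans (R := {p, q})
      (Finset.card_le_two.trans (by norm_num)) (a := a) (b := b) (by simp [hap, haq]) (by simp [hbp, hbq]) hab
    obtain ⟨m, hm⟩ := F.surj ⟨τ, hτ⟩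
    have hmp : (φ m).1 p = p := by rw [hm]; exact hfix p (by simp)
    have hmq : (φ m).1 q = q := by rw [hm]; exact hfix q (by simp)
    have hmC : (m : ↥G₀) ∈ C := by
      have h := F.conj m p q
      rw [hmp, hmq, ← htpq] at h
      exact (hmemC _).2 (mul_inv_eq_iff_eq_mul.1 h)
    let u : C := ⟨dd p a, hAC _ (F.mem p a)⟩
    let k : C := ⟨m, hmC⟩ * ⟨m, hmC⟩
    have hk : k ∈ K := hsq _
    have h1 : u * k * u⁻¹ * k⁻¹ ∈ K := mul_mem (hKn.conj_mem k hk u) (inv_mem hk)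
    refine ⟨_, h1, ?_⟩
    show dd p a * ((m : ↥G₀) * m) * (dd p a)⁻¹ * ((m : ↥G₀) * m)⁻¹ = dd a b
    have hu : (dd p a)⁻¹ = dd p a := inv_eq_of_mul_eq_one_left (F.ea.1 _ (F.mem p a))
    have e1 : (m : ↥G₀) * m * dd p a * ((m : ↥G₀) * m)⁻¹ = dd p b := by
      have h := F.conj (m * m) p a
      rw [map_mul, hm] at h
      simp only [Subgroup.coe_mul, Equiv.Perm.mul_apply, hfix p (show p ∈ ({p, q} : Finset _) by simp)] at h
      rw [Equiv.Perm.mul_apply] at hτab
      rwa [hτab] at h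
    rw [hu, mul_assoc (dd p a), mul_assoc (dd p a), e1, F.symm p a, F.mul]
  -- the outer element
  obtain ⟨y, hyo, hyy, hyA, hyco⟩ := LargeFischerIndexTwo28Outer.exists_outer G₀ hidx F
  let σ : X →* MulAut G₀ := MulAut.conjNormal
  have hσ : ∀ x (g : G₀), (σ x g : X) = x * g * x⁻¹ := fun x g => MulAut.conjNormal_apply x g
  have hyt : σ y t = t := Subtype.ext (by rw [hσ, hyA t htA, mul_inv_cancel_right])
  have hyC : ∀ c : C, σ y c ∈ C := fun c => (hmemC _).2 (by
    conv_lhs => rw [← hyt, ← map_mul, (hmemC _).1 c.2, map_mul, hyt])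
  let ψ : C →* MulAut Cfsg.Spor.Fi22 :=
    χ.comp (MonoidHom.mk' (fun c => ⟨σ y c, hyC c⟩) fun a b => Subtype.ext (map_mul (σ y) (a : ↥G₀) b))
  have hψk : ∀ c, ψ c = 1 ↔ (c : ↥G₀) ∈ zpowers t := fun c => by
    rw [show ψ c = χ ⟨σ y c, hyC c⟩ from rfl, hχk]
    constructor
    · rintro ⟨k, hk⟩
      exact ⟨k, (σ y).injective (by rw [map_zpow, hyt]; exact hk)⟩
    · rintro ⟨k, hk⟩
      refine ⟨k, ?_⟩
      show t ^ k = σ y c
      rw [← hk, map_zpow, hyt]
  have hle : χ.ker ≤ ψ.ker := fun c hc => by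
    rw [MonoidHom.mem_ker] at hc ⊢
    exact (hψk c).2 ((hχk c).1 hc)
  let γ : MulAut Cfsg.Spor.Fi22 →* MulAut Cfsg.Spor.Fi22 := χ.liftOfSurjective hχs ⟨ψ, hle⟩
  have hγ : ∀ c, γ (χ c) = ψ c := fun c => MonoidHom.liftOfRightInverse_comp_apply χ _ _ ⟨ψ, hle⟩ c
  have hγi : Function.Injective γ := by
    rw [← MonoidHom.ker_eq_bot_iff, eq_bot_iff]
    intro a ha
    obtain ⟨c, rfl⟩ := hχs a
    rw [MonoidHom.mem_ker, hγ, hψk, ← hχk] at ha
    exact mem_bot.2 ha
  obtain ⟨β, hβ⟩ := exists_act hS' hOut γ hγi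
  obtain ⟨l, hl⟩ := hχs β
  set d : X := ((l : ↥G₀) : X)⁻¹ * y with hd
  let f : C →* X := G₀.subtype.comp C.subtype
  have hf : Function.Injective f := Subtype.val_injective.comp Subtype.val_injective
  let eK : K ≃* K.map f := K.equivMapOfInjective f hf
  have hKd : ∀ k ∈ K.map f, d * k = k * d := by
    refine comm_of_perfect (K.map f) ((ComponentsBasic.isQuasisimple_congr eK).1 hKq).1.commutator_eq_top
      d (t : X) ?_ ?_
    · rintro _ ⟨c, -, rfl⟩
      exact congrArg Subtype.val ((hmemC _).1 c.2)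
    · rintro _ ⟨k, hk, rfl⟩
      have h1 : χ (l⁻¹ * ⟨σ y k, hyC k⟩ * l * k⁻¹) = 1 := by
        rw [map_mul, map_mul, map_mul, map_inv, map_inv, show χ ⟨σ y k, hyC k⟩ = ψ k from rfl, ← hγ,
          hβ _ ((hKmem k).1 hk), hl]
        group
      obtain ⟨n, hn⟩ := (hχk _).1 h1
      refine ⟨n, ?_⟩
      have hn' := congrArg Subtype.val hn
      show (t : X) ^ n = d * ((k : ↥G₀) : X) * d⁻¹ * ((k : ↥G₀) : X)⁻¹
      simp only [SubgroupClass.coe_zpow, Subgroup.coe_mul, Subgroup.coe_inv, hσ] at hn'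
      rw [hn', hd]
      group
  have hdK : ∀ k : C, k ∈ K → Commute d ((k : ↥G₀) : X) := fun k hk => hKd _ ⟨k, hk, rfl⟩
  have hdA : ∀ a ∈ A, Commute d (a : X) := by
    intro a ha
    obtain ⟨k, hk, rfl⟩ := hAH ha
    exact hdK k hk
  have hlA : (l : ↥G₀) ∈ A := F.cent _ fun a ha => Subtype.ext (by
    show ((l : ↥G₀) : X) * a = a * ((l : ↥G₀) : X)
    have h1 : Commute (y * d⁻¹) (a : X) :=
      (show Commute y (a : X) from hyA a ha).mul_left (hdA a ha).inv_left
    rw [hd, mul_inv_rev, inv_inv, mul_inv_cancel_left] at h1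
    exact h1.eq)
  have hll : ((l : ↥G₀) : X) * (l : ↥G₀) = 1 := congrArg Subtype.val (F.ea.1 _ hlA)
  have hdl : d = ((l : ↥G₀) : X) * y := by rw [hd, inv_eq_of_mul_eq_one_left hll]
  have hdd : d * d = 1 := by
    rw [hdl, show ((l : ↥G₀) : X) * y * ((l : ↥G₀) * y) = ((l : ↥G₀) : X) * (y * (l : ↥G₀)) * y by group,
      hyA _ hlA, show ((l : ↥G₀) : X) * ((l : ↥G₀) * y) * y = ((l : ↥G₀) : X) * (l : ↥G₀) * (y * y) by group,
      hll, hyy, mul_one]
  have hdo : d ∉ G₀ := fun h => hyo (by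
    have := G₀.mul_mem (l : ↥G₀).2 h
    rwa [hd, mul_inv_cancel_left] at this)
  have hdz : Commute d (z : X) := hdA z F.z_mem
  have hdt : Commute d (t : X) := hdA t htA
  have hd1 : d ≠ 1 := fun h => hdo (h ▸ G₀.one_mem)
  -- the outer element does not centralise the whole centralizer of `t`
  obtain ⟨j, hj⟩ : ∃ j : C, ¬ Commute d ((j : ↥G₀) : X) := by
    by_contra hall
    push Not at hall
    obtain ⟨hz, hFit, hQe, -, -⟩ := hF.1
    obtain ⟨hL, hzC, hzQ⟩ := LargeExtraspecialSetting.lhyp_of_fitting hz Q hFit hQe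
    set QX := (Q.map (centralizer ({z} : Set ↥G₀)).subtype).map G₀.subtype with hQX
    have E : Ext QX (z : X) := LargeExtraspecialSetting.ext_map G₀.subtype G₀.subtype_injective hL.toExt
    have hcent : ∀ g : X, (∀ x ∈ QX, g * x = x * g) → g ∈ G₀ := by
      intro g hg
      have hgz : g ∈ centralizer ({(z : X)} : Set X) :=
        mem_centralizer_singleton_iff.2 (hg _ E.mem)
      have h1 : (⟨g, hgz⟩ : centralizer ({(z : X)} : Set X)) ∈
          Cfsg.generalizedFittingSubgroup ↥(centralizer ({(z : X)} : Set X)) :=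
        ComponentsFitting.centralizer_gen_le (mem_centralizer_iff.2 fun x hx =>
          Subtype.ext (hg x (hFX ▸ mem_map_of_mem _ hx)).symm)
      have h2 : g ∈ QX := hFX ▸ mem_map_of_mem _ h1
      exact map_subtype_le _ h2
    have hnorm : ∀ g : X, g * z = z * g → ∀ x ∈ QX, g * x * g⁻¹ ∈ QX := by
      intro g hg x hx
      rw [← hFX] at hx ⊢
      obtain ⟨w, hw, rfl⟩ := hx
      exact ⟨_, Normal.conj_mem inferInstance w hw ⟨g, mem_centralizer_singleton_iff.2 hg⟩, rfl⟩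
    have htQX : (t : X) ∈ QX := by
      obtain ⟨htc, h⟩ := htQ
      exact mem_map_of_mem _ (show t ∈ Q.map _ from ⟨_, h, rfl⟩)
    obtain ⟨q0, hq0, hq0t⟩ := E.partner _ htQX (fun h => ht1 (Subtype.ext h))
      (fun h => htz (by rw [show t = z from Subtype.ext h]))
    have hcl : ∀ x ∈ QX, x * t = t * x → Commute d x := by
      intro x hx hxt
      have hxG : x ∈ G₀ := map_subtype_le _ hx
      exact hall ⟨⟨x, hxG⟩, (hmemC _).2 (Subtype.ext hxt)⟩
    set zX : X := (z : X) with hzX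
    have hzt : (t : X) * zX = zX * t := E.comm _ htQX
    have hqz : q0 * zX = zX * q0 := E.comm _ hq0
    have hgen : ∀ g : X, (∀ x ∈ QX, x * t = t * x → g * x = x * g) → g * q0 = q0 * g →
        ∀ x ∈ QX, g * x = x * g := by
      intro g h1 h2 x hx
      rcases E.conj x hx _ htQX with e | e
      · exact h1 x hx (mul_inv_eq_iff_eq_mul.1 e)
      · have h3 := h1 (q0⁻¹ * x) (QX.mul_mem (QX.inv_mem hq0) hx) (by
          have h4 : x * (t : X) * x⁻¹ = q0 * t * q0⁻¹ := e.trans hq0t.symm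
          calc q0⁻¹ * x * t = q0⁻¹ * (x * (t : X) * x⁻¹) * x := by group
            _ = q0⁻¹ * (q0 * t * q0⁻¹) * x := by rw [h4]
            _ = t * (q0⁻¹ * x) := by group)
        have h5 := (show Commute g q0 from h2).mul_right h3
        rwa [mul_inv_cancel_left] at h5
    set w := q0⁻¹ * (d * q0 * d⁻¹) with hw
    have hwQ : w ∈ QX := QX.mul_mem (QX.inv_mem hq0) (hnorm d hdz.eq _ hq0)
    have hdq : d * q0 * d⁻¹ = q0 * w := by rw [hw, mul_inv_cancel_left]
    have hwc : ∀ x ∈ QX, x * t = t * x → w * x = x * w := by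
      intro x hx hxt
      have hdx := hcl x hx hxt
      have hqx : q0 * x * q0⁻¹ ∈ QX := QX.mul_mem (QX.mul_mem hq0 hx) (QX.inv_mem hq0)
      have h2 : d * (q0 * x * q0⁻¹) = q0 * x * q0⁻¹ * d := by
        rcases E.conj q0 hq0 x hx with e | e <;> rw [e]
        · exact hdx.eq
        · exact (hdz.mul_right hdx).eq
      have h1 : q0 * w * x * (q0 * w)⁻¹ = q0 * x * q0⁻¹ := by
        rw [← hdq]
        calc d * q0 * d⁻¹ * x * (d * q0 * d⁻¹)⁻¹
            = d * q0 * (d⁻¹ * x * d) * (d * q0)⁻¹ := by group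
          _ = d * q0 * (d⁻¹ * (d * x)) * (d * q0)⁻¹ := by rw [hdx.eq]; group
          _ = d * (q0 * x * q0⁻¹) * d⁻¹ := by group
          _ = _ := by rw [h2, mul_inv_cancel_right]
      have h3 : w * x * w⁻¹ = x := by
        calc w * x * w⁻¹ = q0⁻¹ * (q0 * w * x * (q0 * w)⁻¹) * q0 := by group
          _ = x := by rw [h1]; group
      exact mul_inv_eq_iff_eq_mul.1 h3
    have hcen : ∀ g ∈ QX, (∀ x ∈ QX, g * x = x * g) → g = 1 ∨ g = zX := by
      intro g hg hc
      by_contra hne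
      push Not at hne
      obtain ⟨x, hx, e⟩ := E.partner g hg hne.1 hne.2
      rw [← hc x hx, mul_inv_cancel_right] at e
      exact E.ne_one (right_eq_mul.1 e)
    have hfin : ∀ g : X, g ∉ G₀ → (∀ x ∈ QX, x * t = t * x → g * x = x * g) → g * q0 = q0 * g →
        False := fun g hg h1 h2 => hg (hcent g (hgen g h1 h2))
    have htc : ∀ x ∈ QX, x * t = t * x → d * t * x = x * (d * t) := fun x hx hxt =>
      ((hcl x hx hxt).mul_left (show Commute (t : X) x from hxt.symm)).eq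
    rcases E.conj w hwQ q0 hq0 with e | e
    · rcases hcen w hwQ (hgen w hwc (mul_inv_eq_iff_eq_mul.1 e)) with hw1 | hw1
      · rw [hw1, mul_one] at hdq
        exact hfin d hdo (fun x hx hxt => (hcl x hx hxt).eq) (mul_inv_eq_iff_eq_mul.1 hdq)
      · refine hfin (d * t) (fun h => hdo ?_) htc (mul_inv_eq_iff_eq_mul.1 ?_)
        · have := G₀.mul_mem h t.2
          rwa [mul_assoc, htt, mul_one] at this
        · have h4 : (t : X) * q0 * (t : X)⁻¹ = q0 * zX := by
            rw [inv_eq_of_mul_eq_one_left htt]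
            have h5 : q0 * t = zX * t * q0 := mul_inv_eq_iff_eq_mul.1 hq0t
            calc (t : X) * q0 * t = (t : X) * (zX * t * q0) := by rw [mul_assoc, h5]
              _ = ((t : X) * zX) * t * q0 := by group
              _ = zX * ((t : X) * t) * q0 := by rw [hzt]; group
              _ = _ := by rw [htt, mul_one, hqz]
          calc d * t * q0 * (d * t)⁻¹ = d * ((t : X) * q0 * (t : X)⁻¹) * d⁻¹ := by group
            _ = d * q0 * (zX * d⁻¹) := by rw [h4]; group
            _ = d * q0 * (d⁻¹ * zX) := by rw [(hdz.inv_left).eq]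
            _ = q0 * (zX * zX) := by rw [← mul_assoc, hdq, hw1, mul_assoc]
            _ = q0 := by rw [E.zz, mul_one]
    · have hwt : (w * t) * q0 * (w * t)⁻¹ = q0 := by
        have h4 : (t : X) * q0 * (t : X)⁻¹ = zX * q0 := by
          rw [inv_eq_of_mul_eq_one_left htt]
          have h5 : q0 * t = zX * t * q0 := mul_inv_eq_iff_eq_mul.1 hq0t
          calc (t : X) * q0 * t = (t : X) * (zX * t * q0) := by rw [mul_assoc, h5]
            _ = ((t : X) * zX) * t * q0 := by group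
            _ = zX * ((t : X) * t) * q0 := by rw [hzt]; group
            _ = _ := by rw [htt, mul_one]
        calc w * t * q0 * (w * t)⁻¹ = w * ((t : X) * q0 * (t : X)⁻¹) * w⁻¹ := by group
          _ = w * zX * (q0 * w⁻¹) := by rw [h4]; group
          _ = zX * (w * q0 * w⁻¹) := by rw [E.comm w hwQ]; group
          _ = _ := by rw [e, ← mul_assoc, E.zz, one_mul]
      have hww : w * w = 1 := by
        rcases hcen (w * t) (QX.mul_mem hwQ htQX) (hgen _ (fun x hx hxt =>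
            ((show Commute w x from hwc x hx hxt).mul_left (show Commute (t : X) x from hxt.symm)).eq)
            (mul_inv_eq_iff_eq_mul.1 hwt)) with h | h
        · rw [eq_inv_of_mul_eq_one_left h, ← mul_inv_rev, htt, inv_one]
        · have h' : w = zX * t := by rw [← h, mul_assoc, htt, mul_one]
          rw [h', mul_assoc, ← mul_assoc (t : X), hzt, mul_assoc zX, htt, mul_one, E.zz]
      have h6 : (q0 * w) * (q0 * w) = q0 * q0 := by
        rw [← hdq]
        have hdqq : Commute d (q0 * q0) := by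
          rcases E.sq q0 hq0 with e' | e' <;> rw [e']
          exacts [Commute.one_right d, hdz]
        calc d * q0 * d⁻¹ * (d * q0 * d⁻¹) = d * (q0 * q0) * d⁻¹ := by group
          _ = _ := by rw [hdqq.eq, mul_inv_cancel_right]
      have h7 : w * q0 * w = q0 := by
        have : q0 * (w * q0 * w) = q0 * q0 := by rw [← h6]; group
        exact mul_left_cancel this
      rw [inv_eq_of_mul_eq_one_left hww, h7] at e
      exact E.ne_one (right_eq_mul.1 e)
  have hjK : j ∉ K := fun h => hj (hdK j h)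
  have hiff : ∀ c : C, Commute d ((c : ↥G₀) : X) ↔ c ∈ K := by
    refine fun c => ⟨fun hc => ?_, hdK c⟩
    by_contra hcK
    apply hj
    have h1 : c⁻¹ * j ∈ K :=
      (Subgroup.mul_mem_iff_of_index_two hKi).2 (by rw [K.inv_mem_iff]; simp [hcK, hjK])
    have h2 := hc.mul_right (hdK _ h1)
    simpa using h2
  have hswap : ∀ c : C, c ∉ K → ((c : ↥G₀) : X) * d * ((c : ↥G₀) : X)⁻¹ = d * t := by
    intro c hcK
    set cX : X := ((c : ↥G₀) : X) with hcX
    have hct : Commute cX (t : X) := congrArg Subtype.val ((hmemC _).1 c.2)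
    let u : ↥G₀ := ⟨d⁻¹ * (cX * d * cX⁻¹), (Subgroup.mul_mem_iff_of_index_two hidx).2 (by
      rw [G₀.inv_mem_iff, Subgroup.mul_mem_cancel_right _ (G₀.inv_mem (c : ↥G₀).2),
        Subgroup.mul_mem_cancel_left _ (c : ↥G₀).2])⟩
    have hcom : ∀ k : C, k ∈ K → Commute (u : X) ((k : ↥G₀) : X) := by
      intro k hk
      have h1 := hdK _ (hKn.conj_mem k hk c⁻¹)
      have h2 : Commute (cX * d * cX⁻¹) ((k : ↥G₀) : X) := by
        have h3 := (Commute.conj_iff cX).2 h1
        simpa [mul_assoc, hcX] using h3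
      exact (hdK k hk).inv_left.mul_left h2
    have huC : u ∈ C := (hmemC _).2 (Subtype.ext (hcom ⟨t, htC⟩ htK).eq)
    have h1 : χ ⟨u, huC⟩ = 1 := eq_one_of_comm hS' fun s => by
      obtain ⟨k, hk, e⟩ : MulAut.conj s ∈ K.map χ := hKInn ▸ ⟨s, rfl⟩
      rw [← e, ← map_mul, ← map_mul]
      exact congrArg χ (Subtype.ext (Subtype.ext (hcom k hk).eq))
    obtain ⟨n, hn⟩ := (hχk _).1 h1
    have hn' : (t : X) ^ n = d⁻¹ * (cX * d * cX⁻¹) := congrArg Subtype.val hn
    have htp : (t : X) ^ n = 1 ∨ (t : X) ^ n = t := by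
      have h2 : (t : X) ^ (2 : ℤ) = 1 := by rw [zpow_two]; exact htt
      rcases Int.even_or_odd' n with ⟨k, rfl | rfl⟩
      · left; rw [zpow_mul, h2, one_zpow]
      · right; rw [zpow_add, zpow_mul, h2, one_zpow, one_mul, zpow_one]
    rcases htp with h | h <;> rw [h] at hn'
    · exfalso
      apply hcK
      rw [← hiff]
      have h2 : cX * d * cX⁻¹ = d := by
        have := eq_inv_of_mul_eq_one_left hn'.symm
        exact (inv_mul_eq_one.1 hn'.symm).symm
      exact (mul_inv_eq_iff_eq_mul.1 h2).symm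
    · rw [hn', mul_inv_cancel_left]
  -- the conjugate of `t` in the centralizer of `d`
  obtain ⟨r, hr⟩ := LargeFischerIndexTwo28Golay.exists_notMem (s := {p, q})
    (Finset.card_le_two.trans_lt (by norm_num))
  simp only [Finset.mem_insert, Finset.mem_singleton, not_or] at hr
  obtain ⟨g, hgd, hgt, hgne⟩ : ∃ g : ↥G₀, (g : X) * d * (g : X)⁻¹ = d ∧
      Commute (g * t * g⁻¹) t ∧ g * t * g⁻¹ ≠ t := by
    obtain ⟨r', hr'⟩ := LargeFischerIndexTwo28Golay.exists_notMem (s := {p, q, r})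
      (Finset.card_le_three.trans_lt (by norm_num))
    obtain ⟨r'', hr''⟩ := LargeFischerIndexTwo28Golay.exists_notMem (s := {p, q, r, r'})
      (Finset.card_le_four.trans_lt (by norm_num))
    simp only [Finset.mem_insert, Finset.mem_singleton, not_or] at hr' hr''
    obtain ⟨hr1, hr2⟩ := hr
    obtain ⟨hr3, hr4, hr5⟩ := hr'
    obtain ⟨hr6, hr7, hr8, hr9⟩ := hr''
    obtain ⟨τ, hτ, hτm⟩ := GolayM24.exists_map_five_five ![p, q, r, r', r''] ![p, r, q, r', r'']
      (by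
        intro i k e
        fin_cases i <;> fin_cases k <;> simp at e <;> first
          | rfl
          | exact absurd e (by assumption)
          | exact absurd e.symm (by assumption))
      (by
        intro i k e
        fin_cases i <;> fin_cases k <;> simp at e <;> first
          | rfl
          | exact absurd e (by assumption)
          | exact absurd e.symm (by assumption))
    have hτp : τ p = p := by simpa using hτm 0
    have hτq : τ q = r := by simpa using hτm 1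
    obtain ⟨m, hm⟩ := F.surj ⟨τ, hτ⟩
    set mX : X := ((m : ↥G₀) : X) with hmX
    have hmt : (m : ↥G₀) * t * (m : ↥G₀)⁻¹ = dd p r := by
      rw [htpq, F.conj m p q, hm, hτp, hτq]
    have hne : dd p r ≠ t := fun e => by
      have h := F.inj p r p q (Ne.symm hr1) hpq (e.trans htpq)
      have hmem : r ∈ ({p, q} : Finset Cfsg.GolayPt) := h ▸ Finset.mem_insert_of_mem (Finset.mem_singleton_self r)
      simp [hr1, hr2] at hmem
    obtain ⟨a₁, ha₁, hma⟩ := hyco (m : ↥G₀) m.2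
    have hla : (m : ↥G₀) * (l : ↥G₀) * (m : ↥G₀)⁻¹ ∈ A :=
      (Subgroup.mem_normalizer_iff.1 m.2 _).1 hlA
    set u : ↥G₀ := (l : ↥G₀) * ((m : ↥G₀) * (l : ↥G₀) * (m : ↥G₀)⁻¹) * a₁ with hu
    have huA : u ∈ A := A.mul_mem (A.mul_mem hlA hla) ha₁
    have hdu : mX * d * mX⁻¹ = d * (u : X) := by
      rw [hu]
      simp only [Subgroup.coe_mul, Subgroup.coe_inv, ← hmX]
      set L : X := ((l : ↥G₀) : X)
      set L' : X := mX * L * mX⁻¹ with hL'
      have hyL : y * L = L * y := hyA _ hlA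
      have hyL' : y * L' = L' * y := by
        have := hyA _ hla
        simpa [hL', mul_assoc] using this
      calc mX * d * mX⁻¹ = L' * (mX * y * mX⁻¹) := by rw [hdl, hL']; group
        _ = L' * (y * a₁) := by rw [hma]
        _ = (L * L) * (L' * y) * a₁ := by rw [hll]; group
        _ = L * (L * (y * L')) * a₁ := by rw [hyL']; group
        _ = L * (y * L) * L' * a₁ * 1 := by rw [hyL]; group
        _ = d * (L * L' * a₁) := by rw [hdl]; group
    have hfix : ∀ n : ↥(Subgroup.normalizer (A : Set ↥G₀)), (φ n).1 p = p → (φ n).1 q = q → (φ n).1 r = r →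
        (n : ↥G₀) * n * u = u * ((n : ↥G₀) * n) := by
      intro n hnp hnq hnr
      have hn1 := F.conj n p q
      rw [hnp, hnq, ← htpq] at hn1
      have hnC : (n : ↥G₀) ∈ C := (hmemC _).2 (mul_inv_eq_iff_eq_mul.1 hn1)
      have hd1' : Commute d (((n : ↥G₀) : X) * (n : ↥G₀)) := hdK _ (hsq ⟨n, hnC⟩)
      have hn2 := F.conj n p r
      rw [hnp, hnr, ← hmt] at hn2
      have hnC' : (m : ↥G₀)⁻¹ * n * m ∈ C := (hmemC _).2 (by
        have h3 := mul_inv_eq_iff_eq_mul.1 hn2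
        calc (m : ↥G₀)⁻¹ * n * m * t = (m : ↥G₀)⁻¹ * ((n : ↥G₀) * (m * t * (m : ↥G₀)⁻¹)) * m := by group
          _ = (m : ↥G₀)⁻¹ * ((m * t * (m : ↥G₀)⁻¹) * n) * m := by rw [h3]
          _ = _ := by group)
      have hd2 := hdK _ (hsq ⟨_, hnC'⟩)
      have hd3 : Commute (d * (u : X)) (((n : ↥G₀) : X) * (n : ↥G₀)) := by
        rw [← hdu]
        have h3 := (Commute.conj_iff mX).2 hd2
        simpa [mul_assoc, hmX] using h3
      have h4 := hd1'.inv_left.mul_left hd3
      rw [inv_mul_cancel_left] at h4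
      exact Subtype.ext h4.symm.eq
    have hjG := hswap j hjK
    set jX : X := ((j : ↥G₀) : X) with hjX
    have hjt : jX * t = t * jX := congrArg Subtype.val ((hmemC _).1 j.2)
    have hjd' : jX * (d * t) * jX⁻¹ = d := by
      calc jX * (d * t) * jX⁻¹ = jX * d * (t * jX⁻¹) := by group
        _ = jX * d * (jX⁻¹ * t) := by rw [(Commute.inv_left (show Commute jX (t : X) from hjt)).eq]
        _ = d * t * t := by rw [← mul_assoc, hjG]
        _ = d := by rw [mul_assoc, htt, mul_one]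
    have hmtX : mX * t * mX⁻¹ = (dd p r : X) := congrArg Subtype.val hmt
    have hprt : Commute (dd p r) t := F.ea.2 _ (F.mem p r) t htA
    have hjc : ∀ x : ↥G₀, Commute x t → Commute ((j : ↥G₀) * x * (j : ↥G₀)⁻¹) t ∧
        ((j : ↥G₀) * x * (j : ↥G₀)⁻¹ = t → x = t) := by
      intro x hx
      have hjt' : (j : ↥G₀) * t * (j : ↥G₀)⁻¹ = t :=
        mul_inv_eq_iff_eq_mul.2 ((hmemC _).1 j.2)
      refine ⟨?_, fun e => ?_⟩
      · have h := (Commute.conj_iff (j : ↥G₀)).2 hx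
        rwa [hjt'] at h
      · exact mul_left_cancel (mul_right_cancel (e.trans hjt'.symm))
    rcases F.fix_three p q r hpq (Ne.symm hr1) (Ne.symm hr2) u huA hfix with e | e | e | e
    · refine ⟨m, ?_, hmt ▸ hprt, hmt ▸ hne⟩
      show mX * d * mX⁻¹ = d
      rw [hdu, e]
      exact mul_one d
    · obtain ⟨h1, h2⟩ := hjc _ hprt
      refine ⟨(j : ↥G₀) * m, ?_, ?_, ?_⟩
      · show jX * mX * d * (jX * mX)⁻¹ = d
        rw [show jX * mX * d * (jX * mX)⁻¹ = jX * (mX * d * mX⁻¹) * jX⁻¹ by group, hdu, e, ← htpq, hjd']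
      · rw [show (j : ↥G₀) * m * t * ((j : ↥G₀) * m)⁻¹ =
          (j : ↥G₀) * ((m : ↥G₀) * t * (m : ↥G₀)⁻¹) * (j : ↥G₀)⁻¹ by group, hmt]
        exact h1
      · rw [show (j : ↥G₀) * m * t * ((j : ↥G₀) * m)⁻¹ =
          (j : ↥G₀) * ((m : ↥G₀) * t * (m : ↥G₀)⁻¹) * (j : ↥G₀)⁻¹ by group, hmt]
        exact fun h => hne (h2 h)
    · refine ⟨(m : ↥G₀) * j, ?_, ?_, ?_⟩
      · show mX * jX * d * (mX * jX)⁻¹ = d
        rw [show mX * jX * d * (mX * jX)⁻¹ = mX * (jX * d * jX⁻¹) * mX⁻¹ by group, hjG,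
          show mX * (d * t) * mX⁻¹ = mX * d * mX⁻¹ * (mX * t * mX⁻¹) by group, hdu, hmtX, e, mul_assoc]
        exact (congrArg (d * ·) (congrArg Subtype.val (F.ea.1 _ (F.mem p r)))).trans (mul_one d)
      all_goals rw [show (m : ↥G₀) * j * t * ((m : ↥G₀) * j)⁻¹ =
          (m : ↥G₀) * ((j : ↥G₀) * t * (j : ↥G₀)⁻¹) * (m : ↥G₀)⁻¹ by group,
          mul_inv_eq_iff_eq_mul.2 ((hmemC _).1 j.2), hmt]
      exacts [hprt, hne]
    · have hqr : dd q r = t * dd p r := by rw [htpq, F.symm p q, F.mul]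
      refine ⟨(j : ↥G₀) * m * j, ?_, ?_, ?_⟩
      · show jX * mX * jX * d * (jX * mX * jX)⁻¹ = d
        rw [show jX * mX * jX * d * (jX * mX * jX)⁻¹ = jX * (mX * (jX * d * jX⁻¹) * mX⁻¹) * jX⁻¹ by group,
          hjG, show mX * (d * t) * mX⁻¹ = mX * d * mX⁻¹ * (mX * t * mX⁻¹) by group, hdu, hmtX, e, hqr,
          Subgroup.coe_mul, show d * ((t : X) * (dd p r : X)) * (dd p r : X) =
            d * t * ((dd p r : X) * (dd p r : X)) by group]
        have h5 : (dd p r : X) * (dd p r : X) = 1 := congrArg Subtype.val (F.ea.1 _ (F.mem p r))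
        rw [h5, mul_one, hjd']
      all_goals rw [show (j : ↥G₀) * m * j * t * ((j : ↥G₀) * m * j)⁻¹ =
          (j : ↥G₀) * ((m : ↥G₀) * ((j : ↥G₀) * t * (j : ↥G₀)⁻¹) * (m : ↥G₀)⁻¹) * (j : ↥G₀)⁻¹ by group,
          mul_inv_eq_iff_eq_mul.2 ((hmemC _).1 j.2), hmt]
      exacts [(hjc _ hprt).1, fun h => hne ((hjc _ hprt).2 h)]
  -- assembly
  set Y := G₀ ⊓ Subgroup.centralizer ({d} : Set X) with hY
  have hYmem : ∀ x : ↥G₀, Commute d (x : X) → (x : X) ∈ Y := fun x h =>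
    ⟨x.2, mem_centralizer_singleton_iff.2 h.eq.symm⟩
  let tY : Y := ⟨t, hYmem t hdt⟩
  have htY2 : orderOf tY = 2 := by
    rw [← Subgroup.orderOf_coe tY, ← ht2, ← Subgroup.orderOf_coe t]
  let P := Subgroup.centralizer ({tY} : Set Y)
  let toC : P →* C := MonoidHom.mk' (fun c => ⟨⟨((c : Y) : X), (c : Y).2.1⟩, (hmemC _).2 (Subtype.ext (by
      have h := congrArg Subtype.val (mem_centralizer_singleton_iff.1 c.2)
      exact h))⟩) fun a b => rfl
  have htoK : ∀ c : P, toC c ∈ K := fun c =>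
    (hiff _).1 (show d * ((c : Y) : X) = ((c : Y) : X) * d from
      (mem_centralizer_singleton_iff.1 (c : Y).2.2).symm)
  let ε : P ≃* K := MulEquiv.ofBijective (toC.codRestrict K htoK)
    ⟨fun a b e => Subtype.ext (Subtype.ext (congrArg (fun k : K => (((k : C) : ↥G₀) : X)) e)),
      fun k => ⟨⟨⟨((k : C) : ↥G₀), hYmem _ (hdK _ k.2)⟩, mem_centralizer_singleton_iff.2
        (Subtype.ext (congrArg (fun v : ↥G₀ => (v : X)) ((hmemC _).1 (k : C).2)))⟩, rfl⟩⟩
  have hqP : Cfsg.IsQuasisimple P := (ComponentsBasic.isQuasisimple_congr ε).2 hKq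
  let inn := MonoidHom.ofInjective (conj_injective hS')
  let χY : P →* Cfsg.Spor.Fi22 :=
    inn.symm.toMonoidHom.comp ((χ.comp toC).codRestrict _ fun c => (hKmem _).1 (htoK c))
  have hχYs : Function.Surjective χY := by
    intro s
    obtain ⟨k, hk, e⟩ : MulAut.conj s ∈ K.map χ := hKInn ▸ ⟨s, rfl⟩
    obtain ⟨c, hc⟩ := ε.surjective ⟨k, hk⟩
    refine ⟨c, inn.injective ?_⟩
    show inn (inn.symm _) = _
    rw [MulEquiv.apply_symm_apply]
    have hc' : toC c = k := congrArg Subtype.val hc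
    exact Subtype.ext (by show χ (toC c) = MulAut.conj s; rw [hc', e])
  have hker : (zpowers tY).subgroupOf P = χY.ker := by
    ext c
    rw [mem_subgroupOf, MonoidHom.mem_ker, show χY c = inn.symm ⟨χ (toC c), (hKmem _).1 (htoK c)⟩ from rfl,
      map_eq_one_iff _ inn.symm.injective, ← Subtype.coe_injective.eq_iff]
    show _ ↔ χ (toC c) = 1
    rw [hχk]
    constructor
    · rintro ⟨n, hn⟩
      exact ⟨n, Subtype.ext (by
        have h := congrArg Subtype.val hn
        simp only [SubgroupClass.coe_zpow] at h ⊢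
        exact h)⟩
    · rintro ⟨n, hn⟩
      exact ⟨n, Subtype.ext (by
        have h := congrArg Subtype.val hn
        simp only [SubgroupClass.coe_zpow] at h ⊢
        exact h)⟩
  haveI hn : ((zpowers tY).subgroupOf P).Normal := hker ▸ MonoidHom.normal_ker χY
  let eq22 : P ⧸ (zpowers tY).subgroupOf P ≃* Cfsg.Spor.Fi22 :=
    (QuotientGroup.quotientMulEquivOfEq hker).trans (QuotientGroup.quotientKerEquivOfSurjective χY hχYs)
  haveI : Finite (P ⧸ (zpowers tY).subgroupOf P) := inferInstance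
  obtain ⟨hE, hpt⟩ := LargeFischerIndexTwo28Fi22.good_of_pt
    (LargeFischerIndexTwo28Fi22.pt_map eq22.symm LargeFischerIndexTwo28Fi22.pt_fi22)
  let gY : Y := ⟨g, hYmem g (show d * (g : X) = (g : X) * d from (mul_inv_eq_iff_eq_mul.1 hgd).symm)⟩
  have hnwc : ∃ g : Y, g * tY * g⁻¹ ∈ P ∧ g * tY * g⁻¹ ≠ tY :=
    ⟨gY, mem_centralizer_singleton_iff.2 (Subtype.ext (congrArg (fun v : ↥G₀ => (v : X)) hgt.eq)),
      fun e => hgne (Subtype.ext (by
        have h := congrArg Subtype.val e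
        exact h))⟩
  have hcls := S5402.result tY htY2 hqP hE hpt hnwc
  refine ⟨d, orderOf_eq_prime (by rw [pow_two]; exact hdd) hd1, hdo, hdz, tY, htY2, hqP, ⟨hn, hE, hpt⟩,
    hnwc, hcls.1, hcls.2, ⟨((j : ↥G₀) : X), (j : ↥G₀).2, congrArg Subtype.val ((hmemC _).1 j.2), hswap j hjK⟩,
    fun c hc hct => ?_, fun c hc hct hy => ?_⟩
  · by_cases hcK : (⟨⟨c, hc⟩, (hmemC _).2 (Subtype.ext hct.eq)⟩ : C) ∈ K
    · exact Or.inl (mul_inv_eq_iff_eq_mul.2 (hdK _ hcK).eq.symm)
    · exact Or.inr (hswap _ hcK)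
  · have h1 : χ (⟨⟨c, hc⟩, (hmemC _).2 (Subtype.ext hct.eq)⟩ : C) = 1 := eq_one_of_comm hS' fun s => by
      obtain ⟨k, hk, e⟩ : MulAut.conj s ∈ K.map χ := hKInn ▸ ⟨s, rfl⟩
      rw [← e, ← map_mul, ← map_mul]
      exact congrArg χ (Subtype.ext (Subtype.ext (hy _ (k : ↥G₀).2
        (congrArg Subtype.val ((hmemC _).1 k.2)) (hdK k hk).symm).eq))
    obtain ⟨n, hn⟩ := (hχk _).1 h1
    have hn' : (t : X) ^ n = c := congrArg Subtype.val hn
    have h2 : (t : X) ^ (2 : ℤ) = 1 := by rw [zpow_two]; exact htt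
    rcases Int.even_or_odd' n with ⟨k, rfl | rfl⟩
    · left; rw [← hn', zpow_mul, h2, one_zpow]
    · right; rw [← hn', zpow_add, zpow_mul, h2, one_zpow, one_mul, zpow_one]

theorem main (hidx : G₀.index = 2) (z : ↥G₀) (Q : Subgroup (centralizer ({z} : Set ↥G₀))) [Q.Normal]
    (hF : Cfsg.IsOfLargeFischerTypeAt z Q)
    (hFX : (Cfsg.generalizedFittingSubgroup ↥(centralizer ({(z : X)} : Set X))).map (Subgroup.subtype _) =
      ((Q.map (Subgroup.subtype _)).map G₀.subtype))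
    (h50 : Aut22 ↥G₀) :
    ∃ d : X, orderOf d = 2 ∧ d ∉ G₀ ∧ Commute d (z : X) ∧ ∃ t : ↥(G₀ ⊓ Subgroup.centralizer ({d} : Set X)), orderOf t = 2 ∧ Cfsg.IsQuasisimple ↥(Subgroup.centralizer ({t} : Set ↥(G₀ ⊓ Subgroup.centralizer ({d} : Set X)))) ∧ (∃ (_ : ((Subgroup.zpowers t).subgroupOf (Subgroup.centralizer ({t} : Set ↥(G₀ ⊓ Subgroup.centralizer ({d} : Set X))))).Normal), (∃ E : Set (↥(Subgroup.centralizer ({t} : Set ↥(G₀ ⊓ Subgroup.centralizer ({d} : Set X)))) ⧸ (Subgroup.zpowers t).subgroupOf (Subgroup.centralizer ({t} : Set ↥(G₀ ⊓ Subgroup.centralizer ({d} : Set X))))), Cfsg.IsThreeTranspositionClass E ∧ Cfsg.IsOfTypeM22 _ E) ∧ ∃ d' : ↥(Subgroup.centralizer ({t} : Set ↥(G₀ ⊓ Subgroup.centralizer ({d} : Set X)))) ⧸ (Subgroup.zpowers t).subgroupOf (Subgroup.centralizer ({t} : Set ↥(G₀ ⊓ Subgroup.centralizer ({d} : Set X)))), orderOf d' = 2 ∧ Cfsg.IsQuasisimple ↥(Subgroup.centralizer ({d'} : Set _)) ∧ (∃ (K : Type) (_ : Field K) (_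 : Fintype K), Fintype.card K = 4 ∧ ∃ _ : ((Subgroup.zpowers d').subgroupOf (Subgroup.centralizer ({d'} : Set _))).Normal, Nonempty (↥(Subgroup.centralizer ({d'} : Set _)) ⧸ (Subgroup.zpowers d').subgroupOf (Subgroup.centralizer ({d'} : Set _)) ≃* Cfsg.PSU 6 K 2)) ∧ ∃ g, g * d' * g⁻¹ ∈ Subgroup.centralizer ({d'} : Set _) ∧ g * d' * g⁻¹ ≠ d') ∧ (∃ g : ↥(G₀ ⊓ Subgroup.centralizer ({d} : Set X)), g * t * g⁻¹ ∈ Subgroup.centralizer ({t} : Set ↥(G₀ ⊓ Subgroup.centralizer ({d} : Set X))) ∧ g * t * g⁻¹ ≠ t) ∧ Cfsg.IsThreeTranspositionClass (conjugatesOf t) ∧ Cfsg.IsOfTypeM23 ↥(G₀ ⊓ Subgroup.centralizer ({d} : Set X)) (conjugatesOf t) := by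
  obtain ⟨d, h1, h2, h3, t, h4, h5, h6, h7, h8, h9, -, -, -⟩ := main_data G₀ hidx z Q hF hFX h50
  exact ⟨d, h1, h2, h3, t, h4, h5, h6, h7, h8, h9⟩

end Cfsg.Agent.LargeFischerIndexTwo28Main
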