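import Cfsg.Agent.Lib.Fi24Main65
import Cfsg.Agent.Lib.LargeFischerIndexTwo28Main
import Cfsg.Agent.Lib.Fi23Iso95

/-!
An overgroup of index two of a group of large Fischer type is of type M(24), given the centralisers of the
involutions not conjugate to the central one.
-/

set_option autoImplicit false
set_option linter.unusedSectionVars false
set_option linter.style.haveILetI false

namespace Cfsg.Agent.Fi24Apply65

open Subgroup

universe u

theorem type_m24 {X : Type u} [Group X] [Finite X] (G₀ : Subgroup X) (hidx : G₀.index = 2) (z : ↥G₀)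
    (Q : Subgroup (centralizer ({z} : Set ↥G₀))) [Q.Normal] (hF : Cfsg.IsOfLargeFischerTypeAt z Q)
    (hFX : (Cfsg.generalizedFittingSubgroup ↥(centralizer ({(z : X)} : Set X))).map (Subgroup.subtype _) =
      ((Q.map (Subgroup.subtype _)).map G₀.subtype))
    (h50 : LargeFischerIndexTwo28Main.Aut22 ↥G₀) :
    ∃ E : Set X, Cfsg.IsThreeTranspositionClass E ∧ Cfsg.IsOfTypeM24 X E := by
  obtain ⟨d, hd2, hd0, -, ⟨t, htY⟩, ht2, hq, ⟨hn, ⟨E, hEc, hE22⟩, -⟩, hnwc, hcls, h23, hswap, hperm, hcent⟩ :=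
    LargeFischerIndexTwo28Main.main_data G₀ hidx z Q hF hFX h50
  haveI := hn
  have hprim := Fi23Iso95.primitive (Fi23Setup94.full_of_quotient ht2 hq hEc hE22 hnwc)
  have hgrp : Cfsg.IsThreeTranspositionGroup (conjugatesOf (⟨t, htY⟩ : ↥(G₀ ⊓ centralizer ({d} : Set X)))) :=
    ⟨hcls.1, fun g x hx => IsConj.trans hx (isConj_iff.mpr ⟨g, rfl⟩), hcls.2.2⟩
  exact Fi24Base65.Set24.type_m24 (G₀ := G₀) (d := d) (t := t)
    { index2 := hidx
      dnot := hd0
      dsq := by rw [← pow_two, ← hd2, pow_orderOf_eq_one]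
      tY := htY
      ctx := ThreeTransM23Cent59.ctx_all hgrp hprim h23
      swap := hswap
      perm := hperm
      cent := hcent }

end Cfsg.Agent.Fi24Apply65
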