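import Cfsg.Agent.Lib.ThreeTransM22Base17
import Cfsg.Agent.Lib.ThreeTransM22Order72

/-!
# Automorphisms of order two of a group of type M(22) fix a member
-/

set_option autoImplicit false

namespace Cfsg.Agent.ThreeTransM22Fix17

open Cfsg.Agent.ThreeTransRel Cfsg.Agent.ThreeTransDescent

/-- An automorphism squaring to one fixes a member. -/
theorem exists_fixed {G : Type*} [Group G] [Finite G] {D : Set G}
    (hD : Cfsg.IsThreeTranspositionGroup D) (hprim : Cfsg.IsPrimitiveUnderConj D)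
    (h22 : Cfsg.IsOfTypeM22 G D) (φ : MulAut G) (hφ : φ * φ = 1) : ∃ d ∈ D, φ d = d := by
  refine ThreeTransM22Base17.exists_fixed hD hprim h22
    (ThreeTransM22Order72.card_D hD hprim h22) (fun d hd b hb hnc => ?_) φ hφ
  rw [← ThreeTransM22Order72.ncard_common hD hprim h22 hd hb hnc]
  congr 1
  ext y
  constructor
  · rintro ⟨hy, hc⟩
    exact ⟨hy, hy.1, fun e => hnc (e ▸ hy.2.2), hc.symm⟩
  · rintro ⟨hy, -, -, hc⟩
    exact ⟨hy, hc.symm⟩

end Cfsg.Agent.ThreeTransM22Fix17
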