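import Cfsg.Agent.Lib.Fi24Cover87Def

/-! Kernel checks of the voltages of the triple cover, part 0. -/

set_option autoImplicit false
set_option Elab.async false

namespace Cfsg.Agent.Fi24Cover87

open Cfsg.Agent.CosetCertTable

theorem cover0_0 : allFrom coverOk 256 0 = true := by decide +kernel

theorem cover0_1 : allFrom coverOk 256 256 = true := by decide +kernel

theorem cover0_2 : allFrom coverOk 256 512 = true := by decide +kernel

theorem cover0_3 : allFrom coverOk 256 768 = true := by decide +kernel

theorem cover0_4 : allFrom coverOk 256 1024 = true := by decide +kernel

theorem cover0_5 : allFrom coverOk 256 1280 = true := by decide +kernel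

theorem cover0_6 : allFrom coverOk 256 1536 = true := by decide +kernel

theorem cover0_7 : allFrom coverOk 256 1792 = true := by decide +kernel

theorem cover0_8 : allFrom coverOk 256 2048 = true := by decide +kernel

theorem cover0_9 : allFrom coverOk 256 2304 = true := by decide +kernel

theorem cover0_10 : allFrom coverOk 256 2560 = true := by decide +kernel

theorem cover0_11 : allFrom coverOk 256 2816 = true := by decide +kernel

theorem cover0_12 : allFrom coverOk 256 3072 = true := by decide +kernel

theorem cover0_13 : allFrom coverOk 256 3328 = true := by decide +kernel

theorem cover0_14 : allFrom coverOk 256 3584 = true := by decide +kernel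

theorem cover0_15 : allFrom coverOk 256 3840 = true := by decide +kernel

theorem cover0_16 : allFrom coverOk 256 4096 = true := by decide +kernel

theorem cover0_17 : allFrom coverOk 256 4352 = true := by decide +kernel

theorem cover0_18 : allFrom coverOk 256 4608 = true := by decide +kernel

theorem cover0_19 : allFrom coverOk 256 4864 = true := by decide +kernel

theorem cover0_20 : allFrom coverOk 256 5120 = true := by decide +kernel

theorem cover0_21 : allFrom coverOk 256 5376 = true := by decide +kernel

theorem cover0_22 : allFrom coverOk 256 5632 = true := by decide +kernel

theorem cover0_23 : allFrom coverOk 256 5888 = true := by decide +kernel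

theorem cover0_24 : allFrom coverOk 256 6144 = true := by decide +kernel

theorem cover0_25 : allFrom coverOk 256 6400 = true := by decide +kernel

theorem cover0_26 : allFrom coverOk 256 6656 = true := by decide +kernel

theorem cover0_27 : allFrom coverOk 256 6912 = true := by decide +kernel

theorem cover0_28 : allFrom coverOk 256 7168 = true := by decide +kernel

theorem cover0_29 : allFrom coverOk 256 7424 = true := by decide +kernel

theorem cover0_30 : allFrom coverOk 256 7680 = true := by decide +kernel

theorem cover0_31 : allFrom coverOk 256 7936 = true := by decide +kernel

theorem cover0_32 : allFrom coverOk 256 8192 = true := by decide +kernel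

theorem cover0_33 : allFrom coverOk 256 8448 = true := by decide +kernel

theorem cover0_34 : allFrom coverOk 256 8704 = true := by decide +kernel

theorem cover0_35 : allFrom coverOk 256 8960 = true := by decide +kernel

theorem cover0_36 : allFrom coverOk 256 9216 = true := by decide +kernel

theorem cover0_37 : allFrom coverOk 256 9472 = true := by decide +kernel

theorem cover0_38 : allFrom coverOk 256 9728 = true := by decide +kernel

theorem cover0_39 : allFrom coverOk 256 9984 = true := by decide +kernel

attribute [local irreducible] coverOk

/-- The tests pass below 10240 if they pass below 0. -/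
theorem cover0 (h : AllBelow coverOk 0) : AllBelow coverOk 10240 := by
  have h : AllBelow coverOk 256 := h.step 256 cover0_0
  have h : AllBelow coverOk 512 := h.step 256 cover0_1
  have h : AllBelow coverOk 768 := h.step 256 cover0_2
  have h : AllBelow coverOk 1024 := h.step 256 cover0_3
  have h : AllBelow coverOk 1280 := h.step 256 cover0_4
  have h : AllBelow coverOk 1536 := h.step 256 cover0_5
  have h : AllBelow coverOk 1792 := h.step 256 cover0_6
  have h : AllBelow coverOk 2048 := h.step 256 cover0_7
  have h : AllBelow coverOk 2304 := h.step 256 cover0_8
  have h : AllBelow coverOk 2560 := h.step 256 cover0_9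
  have h : AllBelow coverOk 2816 := h.step 256 cover0_10
  have h : AllBelow coverOk 3072 := h.step 256 cover0_11
  have h : AllBelow coverOk 3328 := h.step 256 cover0_12
  have h : AllBelow coverOk 3584 := h.step 256 cover0_13
  have h : AllBelow coverOk 3840 := h.step 256 cover0_14
  have h : AllBelow coverOk 4096 := h.step 256 cover0_15
  have h : AllBelow coverOk 4352 := h.step 256 cover0_16
  have h : AllBelow coverOk 4608 := h.step 256 cover0_17
  have h : AllBelow coverOk 4864 := h.step 256 cover0_18
  have h : AllBelow coverOk 5120 := h.step 256 cover0_19
  have h : AllBelow coverOk 5376 := h.step 256 cover0_20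
  have h : AllBelow coverOk 5632 := h.step 256 cover0_21
  have h : AllBelow coverOk 5888 := h.step 256 cover0_22
  have h : AllBelow coverOk 6144 := h.step 256 cover0_23
  have h : AllBelow coverOk 6400 := h.step 256 cover0_24
  have h : AllBelow coverOk 6656 := h.step 256 cover0_25
  have h : AllBelow coverOk 6912 := h.step 256 cover0_26
  have h : AllBelow coverOk 7168 := h.step 256 cover0_27
  have h : AllBelow coverOk 7424 := h.step 256 cover0_28
  have h : AllBelow coverOk 7680 := h.step 256 cover0_29
  have h : AllBelow coverOk 7936 := h.step 256 cover0_30
  have h : AllBelow coverOk 8192 := h.step 256 cover0_31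
  have h : AllBelow coverOk 8448 := h.step 256 cover0_32
  have h : AllBelow coverOk 8704 := h.step 256 cover0_33
  have h : AllBelow coverOk 8960 := h.step 256 cover0_34
  have h : AllBelow coverOk 9216 := h.step 256 cover0_35
  have h : AllBelow coverOk 9472 := h.step 256 cover0_36
  have h : AllBelow coverOk 9728 := h.step 256 cover0_37
  have h : AllBelow coverOk 9984 := h.step 256 cover0_38
  have h : AllBelow coverOk 10240 := h.step 256 cover0_39
  exact h

end Cfsg.Agent.Fi24Cover87
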