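import Cfsg.Agent.Lib.Fi24Cover87Def

/-! Kernel checks of the voltages of the triple cover, part 1. -/

set_option autoImplicit false
set_option Elab.async false

namespace Cfsg.Agent.Fi24Cover87

open Cfsg.Agent.CosetCertTable

theorem cover1_0 : allFrom coverOk 256 10240 = true := by decide +kernel

theorem cover1_1 : allFrom coverOk 256 10496 = true := by decide +kernel

theorem cover1_2 : allFrom coverOk 256 10752 = true := by decide +kernel

theorem cover1_3 : allFrom coverOk 256 11008 = true := by decide +kernel

theorem cover1_4 : allFrom coverOk 256 11264 = true := by decide +kernel

theorem cover1_5 : allFrom coverOk 256 11520 = true := by decide +kernel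

theorem cover1_6 : allFrom coverOk 256 11776 = true := by decide +kernel

theorem cover1_7 : allFrom coverOk 256 12032 = true := by decide +kernel

theorem cover1_8 : allFrom coverOk 256 12288 = true := by decide +kernel

theorem cover1_9 : allFrom coverOk 256 12544 = true := by decide +kernel

theorem cover1_10 : allFrom coverOk 256 12800 = true := by decide +kernel

theorem cover1_11 : allFrom coverOk 256 13056 = true := by decide +kernel

theorem cover1_12 : allFrom coverOk 256 13312 = true := by decide +kernel

theorem cover1_13 : allFrom coverOk 256 13568 = true := by decide +kernel

theorem cover1_14 : allFrom coverOk 256 13824 = true := by decide +kernel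

theorem cover1_15 : allFrom coverOk 256 14080 = true := by decide +kernel

theorem cover1_16 : allFrom coverOk 256 14336 = true := by decide +kernel

theorem cover1_17 : allFrom coverOk 256 14592 = true := by decide +kernel

theorem cover1_18 : allFrom coverOk 256 14848 = true := by decide +kernel

theorem cover1_19 : allFrom coverOk 256 15104 = true := by decide +kernel

theorem cover1_20 : allFrom coverOk 256 15360 = true := by decide +kernel

theorem cover1_21 : allFrom coverOk 256 15616 = true := by decide +kernel

theorem cover1_22 : allFrom coverOk 256 15872 = true := by decide +kernel

theorem cover1_23 : allFrom coverOk 256 16128 = true := by decide +kernel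

theorem cover1_24 : allFrom coverOk 256 16384 = true := by decide +kernel

theorem cover1_25 : allFrom coverOk 256 16640 = true := by decide +kernel

theorem cover1_26 : allFrom coverOk 256 16896 = true := by decide +kernel

theorem cover1_27 : allFrom coverOk 256 17152 = true := by decide +kernel

theorem cover1_28 : allFrom coverOk 256 17408 = true := by decide +kernel

theorem cover1_29 : allFrom coverOk 256 17664 = true := by decide +kernel

theorem cover1_30 : allFrom coverOk 256 17920 = true := by decide +kernel

theorem cover1_31 : allFrom coverOk 256 18176 = true := by decide +kernel

theorem cover1_32 : allFrom coverOk 256 18432 = true := by decide +kernel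

theorem cover1_33 : allFrom coverOk 256 18688 = true := by decide +kernel

theorem cover1_34 : allFrom coverOk 256 18944 = true := by decide +kernel

theorem cover1_35 : allFrom coverOk 256 19200 = true := by decide +kernel

theorem cover1_36 : allFrom coverOk 256 19456 = true := by decide +kernel

theorem cover1_37 : allFrom coverOk 256 19712 = true := by decide +kernel

theorem cover1_38 : allFrom coverOk 256 19968 = true := by decide +kernel

theorem cover1_39 : allFrom coverOk 256 20224 = true := by decide +kernel

attribute [local irreducible] coverOk

/-- The tests pass below 20480 if they pass below 10240. -/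
theorem cover1 (h : AllBelow coverOk 10240) : AllBelow coverOk 20480 := by
  have h : AllBelow coverOk 10496 := h.step 256 cover1_0
  have h : AllBelow coverOk 10752 := h.step 256 cover1_1
  have h : AllBelow coverOk 11008 := h.step 256 cover1_2
  have h : AllBelow coverOk 11264 := h.step 256 cover1_3
  have h : AllBelow coverOk 11520 := h.step 256 cover1_4
  have h : AllBelow coverOk 11776 := h.step 256 cover1_5
  have h : AllBelow coverOk 12032 := h.step 256 cover1_6
  have h : AllBelow coverOk 12288 := h.step 256 cover1_7
  have h : AllBelow coverOk 12544 := h.step 256 cover1_8
  have h : AllBelow coverOk 12800 := h.step 256 cover1_9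
  have h : AllBelow coverOk 13056 := h.step 256 cover1_10
  have h : AllBelow coverOk 13312 := h.step 256 cover1_11
  have h : AllBelow coverOk 13568 := h.step 256 cover1_12
  have h : AllBelow coverOk 13824 := h.step 256 cover1_13
  have h : AllBelow coverOk 14080 := h.step 256 cover1_14
  have h : AllBelow coverOk 14336 := h.step 256 cover1_15
  have h : AllBelow coverOk 14592 := h.step 256 cover1_16
  have h : AllBelow coverOk 14848 := h.step 256 cover1_17
  have h : AllBelow coverOk 15104 := h.step 256 cover1_18
  have h : AllBelow coverOk 15360 := h.step 256 cover1_19
  have h : AllBelow coverOk 15616 := h.step 256 cover1_20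
  have h : AllBelow coverOk 15872 := h.step 256 cover1_21
  have h : AllBelow coverOk 16128 := h.step 256 cover1_22
  have h : AllBelow coverOk 16384 := h.step 256 cover1_23
  have h : AllBelow coverOk 16640 := h.step 256 cover1_24
  have h : AllBelow coverOk 16896 := h.step 256 cover1_25
  have h : AllBelow coverOk 17152 := h.step 256 cover1_26
  have h : AllBelow coverOk 17408 := h.step 256 cover1_27
  have h : AllBelow coverOk 17664 := h.step 256 cover1_28
  have h : AllBelow coverOk 17920 := h.step 256 cover1_29
  have h : AllBelow coverOk 18176 := h.step 256 cover1_30
  have h : AllBelow coverOk 18432 := h.step 256 cover1_31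
  have h : AllBelow coverOk 18688 := h.step 256 cover1_32
  have h : AllBelow coverOk 18944 := h.step 256 cover1_33
  have h : AllBelow coverOk 19200 := h.step 256 cover1_34
  have h : AllBelow coverOk 19456 := h.step 256 cover1_35
  have h : AllBelow coverOk 19712 := h.step 256 cover1_36
  have h : AllBelow coverOk 19968 := h.step 256 cover1_37
  have h : AllBelow coverOk 20224 := h.step 256 cover1_38
  have h : AllBelow coverOk 20480 := h.step 256 cover1_39
  exact h

end Cfsg.Agent.Fi24Cover87
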