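import Cfsg.Agent.Lib.Fi24Cover87Def

/-! Kernel checks of the voltages of the triple cover, part 11. -/

set_option autoImplicit false
set_option Elab.async false

namespace Cfsg.Agent.Fi24Cover87

open Cfsg.Agent.CosetCertTable

theorem cover11_0 : allFrom coverOk 256 112640 = true := by decide +kernel

theorem cover11_1 : allFrom coverOk 256 112896 = true := by decide +kernel

theorem cover11_2 : allFrom coverOk 256 113152 = true := by decide +kernel

theorem cover11_3 : allFrom coverOk 256 113408 = true := by decide +kernel

theorem cover11_4 : allFrom coverOk 256 113664 = true := by decide +kernel

theorem cover11_5 : allFrom coverOk 256 113920 = true := by decide +kernel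

theorem cover11_6 : allFrom coverOk 256 114176 = true := by decide +kernel

theorem cover11_7 : allFrom coverOk 256 114432 = true := by decide +kernel

theorem cover11_8 : allFrom coverOk 256 114688 = true := by decide +kernel

theorem cover11_9 : allFrom coverOk 256 114944 = true := by decide +kernel

theorem cover11_10 : allFrom coverOk 256 115200 = true := by decide +kernel

theorem cover11_11 : allFrom coverOk 256 115456 = true := by decide +kernel

theorem cover11_12 : allFrom coverOk 256 115712 = true := by decide +kernel

theorem cover11_13 : allFrom coverOk 256 115968 = true := by decide +kernel

theorem cover11_14 : allFrom coverOk 256 116224 = true := by decide +kernel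

theorem cover11_15 : allFrom coverOk 256 116480 = true := by decide +kernel

theorem cover11_16 : allFrom coverOk 256 116736 = true := by decide +kernel

theorem cover11_17 : allFrom coverOk 256 116992 = true := by decide +kernel

theorem cover11_18 : allFrom coverOk 256 117248 = true := by decide +kernel

theorem cover11_19 : allFrom coverOk 256 117504 = true := by decide +kernel

theorem cover11_20 : allFrom coverOk 256 117760 = true := by decide +kernel

theorem cover11_21 : allFrom coverOk 256 118016 = true := by decide +kernel

theorem cover11_22 : allFrom coverOk 256 118272 = true := by decide +kernel

theorem cover11_23 : allFrom coverOk 256 118528 = true := by decide +kernel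

theorem cover11_24 : allFrom coverOk 256 118784 = true := by decide +kernel

theorem cover11_25 : allFrom coverOk 256 119040 = true := by decide +kernel

theorem cover11_26 : allFrom coverOk 256 119296 = true := by decide +kernel

theorem cover11_27 : allFrom coverOk 256 119552 = true := by decide +kernel

theorem cover11_28 : allFrom coverOk 256 119808 = true := by decide +kernel

theorem cover11_29 : allFrom coverOk 256 120064 = true := by decide +kernel

theorem cover11_30 : allFrom coverOk 256 120320 = true := by decide +kernel

theorem cover11_31 : allFrom coverOk 256 120576 = true := by decide +kernel

theorem cover11_32 : allFrom coverOk 256 120832 = true := by decide +kernel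

theorem cover11_33 : allFrom coverOk 256 121088 = true := by decide +kernel

theorem cover11_34 : allFrom coverOk 256 121344 = true := by decide +kernel

theorem cover11_35 : allFrom coverOk 256 121600 = true := by decide +kernel

theorem cover11_36 : allFrom coverOk 256 121856 = true := by decide +kernel

theorem cover11_37 : allFrom coverOk 256 122112 = true := by decide +kernel

theorem cover11_38 : allFrom coverOk 256 122368 = true := by decide +kernel

theorem cover11_39 : allFrom coverOk 256 122624 = true := by decide +kernel

attribute [local irreducible] coverOk

/-- The tests pass below 122880 if they pass below 112640. -/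
theorem cover11 (h : AllBelow coverOk 112640) : AllBelow coverOk 122880 := by
  have h : AllBelow coverOk 112896 := h.step 256 cover11_0
  have h : AllBelow coverOk 113152 := h.step 256 cover11_1
  have h : AllBelow coverOk 113408 := h.step 256 cover11_2
  have h : AllBelow coverOk 113664 := h.step 256 cover11_3
  have h : AllBelow coverOk 113920 := h.step 256 cover11_4
  have h : AllBelow coverOk 114176 := h.step 256 cover11_5
  have h : AllBelow coverOk 114432 := h.step 256 cover11_6
  have h : AllBelow coverOk 114688 := h.step 256 cover11_7
  have h : AllBelow coverOk 114944 := h.step 256 cover11_8
  have h : AllBelow coverOk 115200 := h.step 256 cover11_9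
  have h : AllBelow coverOk 115456 := h.step 256 cover11_10
  have h : AllBelow coverOk 115712 := h.step 256 cover11_11
  have h : AllBelow coverOk 115968 := h.step 256 cover11_12
  have h : AllBelow coverOk 116224 := h.step 256 cover11_13
  have h : AllBelow coverOk 116480 := h.step 256 cover11_14
  have h : AllBelow coverOk 116736 := h.step 256 cover11_15
  have h : AllBelow coverOk 116992 := h.step 256 cover11_16
  have h : AllBelow coverOk 117248 := h.step 256 cover11_17
  have h : AllBelow coverOk 117504 := h.step 256 cover11_18
  have h : AllBelow coverOk 117760 := h.step 256 cover11_19
  have h : AllBelow coverOk 118016 := h.step 256 cover11_20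
  have h : AllBelow coverOk 118272 := h.step 256 cover11_21
  have h : AllBelow coverOk 118528 := h.step 256 cover11_22
  have h : AllBelow coverOk 118784 := h.step 256 cover11_23
  have h : AllBelow coverOk 119040 := h.step 256 cover11_24
  have h : AllBelow coverOk 119296 := h.step 256 cover11_25
  have h : AllBelow coverOk 119552 := h.step 256 cover11_26
  have h : AllBelow coverOk 119808 := h.step 256 cover11_27
  have h : AllBelow coverOk 120064 := h.step 256 cover11_28
  have h : AllBelow coverOk 120320 := h.step 256 cover11_29
  have h : AllBelow coverOk 120576 := h.step 256 cover11_30
  have h : AllBelow coverOk 120832 := h.step 256 cover11_31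
  have h : AllBelow coverOk 121088 := h.step 256 cover11_32
  have h : AllBelow coverOk 121344 := h.step 256 cover11_33
  have h : AllBelow coverOk 121600 := h.step 256 cover11_34
  have h : AllBelow coverOk 121856 := h.step 256 cover11_35
  have h : AllBelow coverOk 122112 := h.step 256 cover11_36
  have h : AllBelow coverOk 122368 := h.step 256 cover11_37
  have h : AllBelow coverOk 122624 := h.step 256 cover11_38
  have h : AllBelow coverOk 122880 := h.step 256 cover11_39
  exact h

end Cfsg.Agent.Fi24Cover87
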