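import Cfsg.Agent.Lib.Fi24Cover87Def

/-! Kernel checks of the voltages of the triple cover, part 12. -/

set_option autoImplicit false
set_option Elab.async false

namespace Cfsg.Agent.Fi24Cover87

open Cfsg.Agent.CosetCertTable

theorem cover12_0 : allFrom coverOk 256 122880 = true := by decide +kernel

theorem cover12_1 : allFrom coverOk 256 123136 = true := by decide +kernel

theorem cover12_2 : allFrom coverOk 256 123392 = true := by decide +kernel

theorem cover12_3 : allFrom coverOk 256 123648 = true := by decide +kernel

theorem cover12_4 : allFrom coverOk 256 123904 = true := by decide +kernel

theorem cover12_5 : allFrom coverOk 256 124160 = true := by decide +kernel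

theorem cover12_6 : allFrom coverOk 256 124416 = true := by decide +kernel

theorem cover12_7 : allFrom coverOk 256 124672 = true := by decide +kernel

theorem cover12_8 : allFrom coverOk 256 124928 = true := by decide +kernel

theorem cover12_9 : allFrom coverOk 256 125184 = true := by decide +kernel

theorem cover12_10 : allFrom coverOk 256 125440 = true := by decide +kernel

theorem cover12_11 : allFrom coverOk 256 125696 = true := by decide +kernel

theorem cover12_12 : allFrom coverOk 256 125952 = true := by decide +kernel

theorem cover12_13 : allFrom coverOk 256 126208 = true := by decide +kernel

theorem cover12_14 : allFrom coverOk 256 126464 = true := by decide +kernel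

theorem cover12_15 : allFrom coverOk 256 126720 = true := by decide +kernel

theorem cover12_16 : allFrom coverOk 256 126976 = true := by decide +kernel

theorem cover12_17 : allFrom coverOk 256 127232 = true := by decide +kernel

theorem cover12_18 : allFrom coverOk 256 127488 = true := by decide +kernel

theorem cover12_19 : allFrom coverOk 256 127744 = true := by decide +kernel

theorem cover12_20 : allFrom coverOk 256 128000 = true := by decide +kernel

theorem cover12_21 : allFrom coverOk 256 128256 = true := by decide +kernel

theorem cover12_22 : allFrom coverOk 256 128512 = true := by decide +kernel

theorem cover12_23 : allFrom coverOk 256 128768 = true := by decide +kernel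

theorem cover12_24 : allFrom coverOk 256 129024 = true := by decide +kernel

theorem cover12_25 : allFrom coverOk 256 129280 = true := by decide +kernel

theorem cover12_26 : allFrom coverOk 256 129536 = true := by decide +kernel

theorem cover12_27 : allFrom coverOk 256 129792 = true := by decide +kernel

theorem cover12_28 : allFrom coverOk 256 130048 = true := by decide +kernel

theorem cover12_29 : allFrom coverOk 256 130304 = true := by decide +kernel

theorem cover12_30 : allFrom coverOk 256 130560 = true := by decide +kernel

theorem cover12_31 : allFrom coverOk 256 130816 = true := by decide +kernel

theorem cover12_32 : allFrom coverOk 256 131072 = true := by decide +kernel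

theorem cover12_33 : allFrom coverOk 256 131328 = true := by decide +kernel

theorem cover12_34 : allFrom coverOk 256 131584 = true := by decide +kernel

theorem cover12_35 : allFrom coverOk 256 131840 = true := by decide +kernel

theorem cover12_36 : allFrom coverOk 256 132096 = true := by decide +kernel

theorem cover12_37 : allFrom coverOk 256 132352 = true := by decide +kernel

theorem cover12_38 : allFrom coverOk 256 132608 = true := by decide +kernel

theorem cover12_39 : allFrom coverOk 256 132864 = true := by decide +kernel

attribute [local irreducible] coverOk

/-- The tests pass below 133120 if they pass below 122880. -/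
theorem cover12 (h : AllBelow coverOk 122880) : AllBelow coverOk 133120 := by
  have h : AllBelow coverOk 123136 := h.step 256 cover12_0
  have h : AllBelow coverOk 123392 := h.step 256 cover12_1
  have h : AllBelow coverOk 123648 := h.step 256 cover12_2
  have h : AllBelow coverOk 123904 := h.step 256 cover12_3
  have h : AllBelow coverOk 124160 := h.step 256 cover12_4
  have h : AllBelow coverOk 124416 := h.step 256 cover12_5
  have h : AllBelow coverOk 124672 := h.step 256 cover12_6
  have h : AllBelow coverOk 124928 := h.step 256 cover12_7
  have h : AllBelow coverOk 125184 := h.step 256 cover12_8
  have h : AllBelow coverOk 125440 := h.step 256 cover12_9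
  have h : AllBelow coverOk 125696 := h.step 256 cover12_10
  have h : AllBelow coverOk 125952 := h.step 256 cover12_11
  have h : AllBelow coverOk 126208 := h.step 256 cover12_12
  have h : AllBelow coverOk 126464 := h.step 256 cover12_13
  have h : AllBelow coverOk 126720 := h.step 256 cover12_14
  have h : AllBelow coverOk 126976 := h.step 256 cover12_15
  have h : AllBelow coverOk 127232 := h.step 256 cover12_16
  have h : AllBelow coverOk 127488 := h.step 256 cover12_17
  have h : AllBelow coverOk 127744 := h.step 256 cover12_18
  have h : AllBelow coverOk 128000 := h.step 256 cover12_19
  have h : AllBelow coverOk 128256 := h.step 256 cover12_20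
  have h : AllBelow coverOk 128512 := h.step 256 cover12_21
  have h : AllBelow coverOk 128768 := h.step 256 cover12_22
  have h : AllBelow coverOk 129024 := h.step 256 cover12_23
  have h : AllBelow coverOk 129280 := h.step 256 cover12_24
  have h : AllBelow coverOk 129536 := h.step 256 cover12_25
  have h : AllBelow coverOk 129792 := h.step 256 cover12_26
  have h : AllBelow coverOk 130048 := h.step 256 cover12_27
  have h : AllBelow coverOk 130304 := h.step 256 cover12_28
  have h : AllBelow coverOk 130560 := h.step 256 cover12_29
  have h : AllBelow coverOk 130816 := h.step 256 cover12_30
  have h : AllBelow coverOk 131072 := h.step 256 cover12_31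
  have h : AllBelow coverOk 131328 := h.step 256 cover12_32
  have h : AllBelow coverOk 131584 := h.step 256 cover12_33
  have h : AllBelow coverOk 131840 := h.step 256 cover12_34
  have h : AllBelow coverOk 132096 := h.step 256 cover12_35
  have h : AllBelow coverOk 132352 := h.step 256 cover12_36
  have h : AllBelow coverOk 132608 := h.step 256 cover12_37
  have h : AllBelow coverOk 132864 := h.step 256 cover12_38
  have h : AllBelow coverOk 133120 := h.step 256 cover12_39
  exact h

end Cfsg.Agent.Fi24Cover87
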