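import Cfsg.Agent.Lib.Fi24Cover87Def

/-! Kernel checks of the voltages of the triple cover, part 13. -/

set_option autoImplicit false
set_option Elab.async false

namespace Cfsg.Agent.Fi24Cover87

open Cfsg.Agent.CosetCertTable

theorem cover13_0 : allFrom coverOk 256 133120 = true := by decide +kernel

theorem cover13_1 : allFrom coverOk 256 133376 = true := by decide +kernel

theorem cover13_2 : allFrom coverOk 256 133632 = true := by decide +kernel

theorem cover13_3 : allFrom coverOk 256 133888 = true := by decide +kernel

theorem cover13_4 : allFrom coverOk 256 134144 = true := by decide +kernel

theorem cover13_5 : allFrom coverOk 256 134400 = true := by decide +kernel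

theorem cover13_6 : allFrom coverOk 256 134656 = true := by decide +kernel

theorem cover13_7 : allFrom coverOk 256 134912 = true := by decide +kernel

theorem cover13_8 : allFrom coverOk 256 135168 = true := by decide +kernel

theorem cover13_9 : allFrom coverOk 256 135424 = true := by decide +kernel

theorem cover13_10 : allFrom coverOk 256 135680 = true := by decide +kernel

theorem cover13_11 : allFrom coverOk 256 135936 = true := by decide +kernel

theorem cover13_12 : allFrom coverOk 256 136192 = true := by decide +kernel

theorem cover13_13 : allFrom coverOk 256 136448 = true := by decide +kernel

theorem cover13_14 : allFrom coverOk 256 136704 = true := by decide +kernel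

theorem cover13_15 : allFrom coverOk 256 136960 = true := by decide +kernel

theorem cover13_16 : allFrom coverOk 256 137216 = true := by decide +kernel

theorem cover13_17 : allFrom coverOk 256 137472 = true := by decide +kernel

theorem cover13_18 : allFrom coverOk 256 137728 = true := by decide +kernel

theorem cover13_19 : allFrom coverOk 256 137984 = true := by decide +kernel

theorem cover13_20 : allFrom coverOk 256 138240 = true := by decide +kernel

theorem cover13_21 : allFrom coverOk 256 138496 = true := by decide +kernel

theorem cover13_22 : allFrom coverOk 256 138752 = true := by decide +kernel

theorem cover13_23 : allFrom coverOk 256 139008 = true := by decide +kernel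

theorem cover13_24 : allFrom coverOk 256 139264 = true := by decide +kernel

theorem cover13_25 : allFrom coverOk 256 139520 = true := by decide +kernel

theorem cover13_26 : allFrom coverOk 256 139776 = true := by decide +kernel

theorem cover13_27 : allFrom coverOk 256 140032 = true := by decide +kernel

theorem cover13_28 : allFrom coverOk 256 140288 = true := by decide +kernel

theorem cover13_29 : allFrom coverOk 256 140544 = true := by decide +kernel

theorem cover13_30 : allFrom coverOk 256 140800 = true := by decide +kernel

theorem cover13_31 : allFrom coverOk 256 141056 = true := by decide +kernel

theorem cover13_32 : allFrom coverOk 256 141312 = true := by decide +kernel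

theorem cover13_33 : allFrom coverOk 256 141568 = true := by decide +kernel

theorem cover13_34 : allFrom coverOk 256 141824 = true := by decide +kernel

theorem cover13_35 : allFrom coverOk 256 142080 = true := by decide +kernel

theorem cover13_36 : allFrom coverOk 256 142336 = true := by decide +kernel

theorem cover13_37 : allFrom coverOk 256 142592 = true := by decide +kernel

theorem cover13_38 : allFrom coverOk 256 142848 = true := by decide +kernel

theorem cover13_39 : allFrom coverOk 256 143104 = true := by decide +kernel

attribute [local irreducible] coverOk

/-- The tests pass below 143360 if they pass below 133120. -/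
theorem cover13 (h : AllBelow coverOk 133120) : AllBelow coverOk 143360 := by
  have h : AllBelow coverOk 133376 := h.step 256 cover13_0
  have h : AllBelow coverOk 133632 := h.step 256 cover13_1
  have h : AllBelow coverOk 133888 := h.step 256 cover13_2
  have h : AllBelow coverOk 134144 := h.step 256 cover13_3
  have h : AllBelow coverOk 134400 := h.step 256 cover13_4
  have h : AllBelow coverOk 134656 := h.step 256 cover13_5
  have h : AllBelow coverOk 134912 := h.step 256 cover13_6
  have h : AllBelow coverOk 135168 := h.step 256 cover13_7
  have h : AllBelow coverOk 135424 := h.step 256 cover13_8
  have h : AllBelow coverOk 135680 := h.step 256 cover13_9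
  have h : AllBelow coverOk 135936 := h.step 256 cover13_10
  have h : AllBelow coverOk 136192 := h.step 256 cover13_11
  have h : AllBelow coverOk 136448 := h.step 256 cover13_12
  have h : AllBelow coverOk 136704 := h.step 256 cover13_13
  have h : AllBelow coverOk 136960 := h.step 256 cover13_14
  have h : AllBelow coverOk 137216 := h.step 256 cover13_15
  have h : AllBelow coverOk 137472 := h.step 256 cover13_16
  have h : AllBelow coverOk 137728 := h.step 256 cover13_17
  have h : AllBelow coverOk 137984 := h.step 256 cover13_18
  have h : AllBelow coverOk 138240 := h.step 256 cover13_19
  have h : AllBelow coverOk 138496 := h.step 256 cover13_20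
  have h : AllBelow coverOk 138752 := h.step 256 cover13_21
  have h : AllBelow coverOk 139008 := h.step 256 cover13_22
  have h : AllBelow coverOk 139264 := h.step 256 cover13_23
  have h : AllBelow coverOk 139520 := h.step 256 cover13_24
  have h : AllBelow coverOk 139776 := h.step 256 cover13_25
  have h : AllBelow coverOk 140032 := h.step 256 cover13_26
  have h : AllBelow coverOk 140288 := h.step 256 cover13_27
  have h : AllBelow coverOk 140544 := h.step 256 cover13_28
  have h : AllBelow coverOk 140800 := h.step 256 cover13_29
  have h : AllBelow coverOk 141056 := h.step 256 cover13_30
  have h : AllBelow coverOk 141312 := h.step 256 cover13_31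
  have h : AllBelow coverOk 141568 := h.step 256 cover13_32
  have h : AllBelow coverOk 141824 := h.step 256 cover13_33
  have h : AllBelow coverOk 142080 := h.step 256 cover13_34
  have h : AllBelow coverOk 142336 := h.step 256 cover13_35
  have h : AllBelow coverOk 142592 := h.step 256 cover13_36
  have h : AllBelow coverOk 142848 := h.step 256 cover13_37
  have h : AllBelow coverOk 143104 := h.step 256 cover13_38
  have h : AllBelow coverOk 143360 := h.step 256 cover13_39
  exact h

end Cfsg.Agent.Fi24Cover87
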