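import Cfsg.Agent.Lib.Fi24Cover87Def

/-! Kernel checks of the voltages of the triple cover, part 14. -/

set_option autoImplicit false
set_option Elab.async false

namespace Cfsg.Agent.Fi24Cover87

open Cfsg.Agent.CosetCertTable

theorem cover14_0 : allFrom coverOk 256 143360 = true := by decide +kernel

theorem cover14_1 : allFrom coverOk 256 143616 = true := by decide +kernel

theorem cover14_2 : allFrom coverOk 256 143872 = true := by decide +kernel

theorem cover14_3 : allFrom coverOk 256 144128 = true := by decide +kernel

theorem cover14_4 : allFrom coverOk 256 144384 = true := by decide +kernel

theorem cover14_5 : allFrom coverOk 256 144640 = true := by decide +kernel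

theorem cover14_6 : allFrom coverOk 256 144896 = true := by decide +kernel

theorem cover14_7 : allFrom coverOk 256 145152 = true := by decide +kernel

theorem cover14_8 : allFrom coverOk 256 145408 = true := by decide +kernel

theorem cover14_9 : allFrom coverOk 256 145664 = true := by decide +kernel

theorem cover14_10 : allFrom coverOk 256 145920 = true := by decide +kernel

theorem cover14_11 : allFrom coverOk 256 146176 = true := by decide +kernel

theorem cover14_12 : allFrom coverOk 256 146432 = true := by decide +kernel

theorem cover14_13 : allFrom coverOk 256 146688 = true := by decide +kernel

theorem cover14_14 : allFrom coverOk 256 146944 = true := by decide +kernel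

theorem cover14_15 : allFrom coverOk 256 147200 = true := by decide +kernel

theorem cover14_16 : allFrom coverOk 256 147456 = true := by decide +kernel

theorem cover14_17 : allFrom coverOk 256 147712 = true := by decide +kernel

theorem cover14_18 : allFrom coverOk 256 147968 = true := by decide +kernel

theorem cover14_19 : allFrom coverOk 256 148224 = true := by decide +kernel

theorem cover14_20 : allFrom coverOk 256 148480 = true := by decide +kernel

theorem cover14_21 : allFrom coverOk 256 148736 = true := by decide +kernel

theorem cover14_22 : allFrom coverOk 256 148992 = true := by decide +kernel

theorem cover14_23 : allFrom coverOk 256 149248 = true := by decide +kernel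

theorem cover14_24 : allFrom coverOk 256 149504 = true := by decide +kernel

theorem cover14_25 : allFrom coverOk 256 149760 = true := by decide +kernel

theorem cover14_26 : allFrom coverOk 256 150016 = true := by decide +kernel

theorem cover14_27 : allFrom coverOk 256 150272 = true := by decide +kernel

theorem cover14_28 : allFrom coverOk 256 150528 = true := by decide +kernel

theorem cover14_29 : allFrom coverOk 256 150784 = true := by decide +kernel

theorem cover14_30 : allFrom coverOk 256 151040 = true := by decide +kernel

theorem cover14_31 : allFrom coverOk 256 151296 = true := by decide +kernel

theorem cover14_32 : allFrom coverOk 256 151552 = true := by decide +kernel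

theorem cover14_33 : allFrom coverOk 256 151808 = true := by decide +kernel

theorem cover14_34 : allFrom coverOk 256 152064 = true := by decide +kernel

theorem cover14_35 : allFrom coverOk 256 152320 = true := by decide +kernel

theorem cover14_36 : allFrom coverOk 256 152576 = true := by decide +kernel

theorem cover14_37 : allFrom coverOk 256 152832 = true := by decide +kernel

theorem cover14_38 : allFrom coverOk 256 153088 = true := by decide +kernel

theorem cover14_39 : allFrom coverOk 256 153344 = true := by decide +kernel

attribute [local irreducible] coverOk

/-- The tests pass below 153600 if they pass below 143360. -/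
theorem cover14 (h : AllBelow coverOk 143360) : AllBelow coverOk 153600 := by
  have h : AllBelow coverOk 143616 := h.step 256 cover14_0
  have h : AllBelow coverOk 143872 := h.step 256 cover14_1
  have h : AllBelow coverOk 144128 := h.step 256 cover14_2
  have h : AllBelow coverOk 144384 := h.step 256 cover14_3
  have h : AllBelow coverOk 144640 := h.step 256 cover14_4
  have h : AllBelow coverOk 144896 := h.step 256 cover14_5
  have h : AllBelow coverOk 145152 := h.step 256 cover14_6
  have h : AllBelow coverOk 145408 := h.step 256 cover14_7
  have h : AllBelow coverOk 145664 := h.step 256 cover14_8
  have h : AllBelow coverOk 145920 := h.step 256 cover14_9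
  have h : AllBelow coverOk 146176 := h.step 256 cover14_10
  have h : AllBelow coverOk 146432 := h.step 256 cover14_11
  have h : AllBelow coverOk 146688 := h.step 256 cover14_12
  have h : AllBelow coverOk 146944 := h.step 256 cover14_13
  have h : AllBelow coverOk 147200 := h.step 256 cover14_14
  have h : AllBelow coverOk 147456 := h.step 256 cover14_15
  have h : AllBelow coverOk 147712 := h.step 256 cover14_16
  have h : AllBelow coverOk 147968 := h.step 256 cover14_17
  have h : AllBelow coverOk 148224 := h.step 256 cover14_18
  have h : AllBelow coverOk 148480 := h.step 256 cover14_19
  have h : AllBelow coverOk 148736 := h.step 256 cover14_20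
  have h : AllBelow coverOk 148992 := h.step 256 cover14_21
  have h : AllBelow coverOk 149248 := h.step 256 cover14_22
  have h : AllBelow coverOk 149504 := h.step 256 cover14_23
  have h : AllBelow coverOk 149760 := h.step 256 cover14_24
  have h : AllBelow coverOk 150016 := h.step 256 cover14_25
  have h : AllBelow coverOk 150272 := h.step 256 cover14_26
  have h : AllBelow coverOk 150528 := h.step 256 cover14_27
  have h : AllBelow coverOk 150784 := h.step 256 cover14_28
  have h : AllBelow coverOk 151040 := h.step 256 cover14_29
  have h : AllBelow coverOk 151296 := h.step 256 cover14_30
  have h : AllBelow coverOk 151552 := h.step 256 cover14_31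
  have h : AllBelow coverOk 151808 := h.step 256 cover14_32
  have h : AllBelow coverOk 152064 := h.step 256 cover14_33
  have h : AllBelow coverOk 152320 := h.step 256 cover14_34
  have h : AllBelow coverOk 152576 := h.step 256 cover14_35
  have h : AllBelow coverOk 152832 := h.step 256 cover14_36
  have h : AllBelow coverOk 153088 := h.step 256 cover14_37
  have h : AllBelow coverOk 153344 := h.step 256 cover14_38
  have h : AllBelow coverOk 153600 := h.step 256 cover14_39
  exact h

end Cfsg.Agent.Fi24Cover87
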