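import Cfsg.Agent.Lib.Fi24Cover87Def

/-! Kernel checks of the voltages of the triple cover, part 15. -/

set_option autoImplicit false
set_option Elab.async false

namespace Cfsg.Agent.Fi24Cover87

open Cfsg.Agent.CosetCertTable

theorem cover15_0 : allFrom coverOk 256 153600 = true := by decide +kernel

theorem cover15_1 : allFrom coverOk 256 153856 = true := by decide +kernel

theorem cover15_2 : allFrom coverOk 256 154112 = true := by decide +kernel

theorem cover15_3 : allFrom coverOk 256 154368 = true := by decide +kernel

theorem cover15_4 : allFrom coverOk 256 154624 = true := by decide +kernel

theorem cover15_5 : allFrom coverOk 256 154880 = true := by decide +kernel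

theorem cover15_6 : allFrom coverOk 256 155136 = true := by decide +kernel

theorem cover15_7 : allFrom coverOk 256 155392 = true := by decide +kernel

theorem cover15_8 : allFrom coverOk 256 155648 = true := by decide +kernel

theorem cover15_9 : allFrom coverOk 256 155904 = true := by decide +kernel

theorem cover15_10 : allFrom coverOk 256 156160 = true := by decide +kernel

theorem cover15_11 : allFrom coverOk 256 156416 = true := by decide +kernel

theorem cover15_12 : allFrom coverOk 256 156672 = true := by decide +kernel

theorem cover15_13 : allFrom coverOk 256 156928 = true := by decide +kernel

theorem cover15_14 : allFrom coverOk 256 157184 = true := by decide +kernel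

theorem cover15_15 : allFrom coverOk 256 157440 = true := by decide +kernel

theorem cover15_16 : allFrom coverOk 256 157696 = true := by decide +kernel

theorem cover15_17 : allFrom coverOk 256 157952 = true := by decide +kernel

theorem cover15_18 : allFrom coverOk 256 158208 = true := by decide +kernel

theorem cover15_19 : allFrom coverOk 256 158464 = true := by decide +kernel

theorem cover15_20 : allFrom coverOk 256 158720 = true := by decide +kernel

theorem cover15_21 : allFrom coverOk 256 158976 = true := by decide +kernel

theorem cover15_22 : allFrom coverOk 256 159232 = true := by decide +kernel

theorem cover15_23 : allFrom coverOk 256 159488 = true := by decide +kernel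

theorem cover15_24 : allFrom coverOk 256 159744 = true := by decide +kernel

theorem cover15_25 : allFrom coverOk 256 160000 = true := by decide +kernel

theorem cover15_26 : allFrom coverOk 256 160256 = true := by decide +kernel

theorem cover15_27 : allFrom coverOk 256 160512 = true := by decide +kernel

theorem cover15_28 : allFrom coverOk 256 160768 = true := by decide +kernel

theorem cover15_29 : allFrom coverOk 256 161024 = true := by decide +kernel

theorem cover15_30 : allFrom coverOk 256 161280 = true := by decide +kernel

theorem cover15_31 : allFrom coverOk 256 161536 = true := by decide +kernel

theorem cover15_32 : allFrom coverOk 256 161792 = true := by decide +kernel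

theorem cover15_33 : allFrom coverOk 256 162048 = true := by decide +kernel

theorem cover15_34 : allFrom coverOk 256 162304 = true := by decide +kernel

theorem cover15_35 : allFrom coverOk 256 162560 = true := by decide +kernel

theorem cover15_36 : allFrom coverOk 256 162816 = true := by decide +kernel

theorem cover15_37 : allFrom coverOk 256 163072 = true := by decide +kernel

theorem cover15_38 : allFrom coverOk 256 163328 = true := by decide +kernel

theorem cover15_39 : allFrom coverOk 256 163584 = true := by decide +kernel

attribute [local irreducible] coverOk

/-- The tests pass below 163840 if they pass below 153600. -/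
theorem cover15 (h : AllBelow coverOk 153600) : AllBelow coverOk 163840 := by
  have h : AllBelow coverOk 153856 := h.step 256 cover15_0
  have h : AllBelow coverOk 154112 := h.step 256 cover15_1
  have h : AllBelow coverOk 154368 := h.step 256 cover15_2
  have h : AllBelow coverOk 154624 := h.step 256 cover15_3
  have h : AllBelow coverOk 154880 := h.step 256 cover15_4
  have h : AllBelow coverOk 155136 := h.step 256 cover15_5
  have h : AllBelow coverOk 155392 := h.step 256 cover15_6
  have h : AllBelow coverOk 155648 := h.step 256 cover15_7
  have h : AllBelow coverOk 155904 := h.step 256 cover15_8
  have h : AllBelow coverOk 156160 := h.step 256 cover15_9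
  have h : AllBelow coverOk 156416 := h.step 256 cover15_10
  have h : AllBelow coverOk 156672 := h.step 256 cover15_11
  have h : AllBelow coverOk 156928 := h.step 256 cover15_12
  have h : AllBelow coverOk 157184 := h.step 256 cover15_13
  have h : AllBelow coverOk 157440 := h.step 256 cover15_14
  have h : AllBelow coverOk 157696 := h.step 256 cover15_15
  have h : AllBelow coverOk 157952 := h.step 256 cover15_16
  have h : AllBelow coverOk 158208 := h.step 256 cover15_17
  have h : AllBelow coverOk 158464 := h.step 256 cover15_18
  have h : AllBelow coverOk 158720 := h.step 256 cover15_19
  have h : AllBelow coverOk 158976 := h.step 256 cover15_20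
  have h : AllBelow coverOk 159232 := h.step 256 cover15_21
  have h : AllBelow coverOk 159488 := h.step 256 cover15_22
  have h : AllBelow coverOk 159744 := h.step 256 cover15_23
  have h : AllBelow coverOk 160000 := h.step 256 cover15_24
  have h : AllBelow coverOk 160256 := h.step 256 cover15_25
  have h : AllBelow coverOk 160512 := h.step 256 cover15_26
  have h : AllBelow coverOk 160768 := h.step 256 cover15_27
  have h : AllBelow coverOk 161024 := h.step 256 cover15_28
  have h : AllBelow coverOk 161280 := h.step 256 cover15_29
  have h : AllBelow coverOk 161536 := h.step 256 cover15_30
  have h : AllBelow coverOk 161792 := h.step 256 cover15_31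
  have h : AllBelow coverOk 162048 := h.step 256 cover15_32
  have h : AllBelow coverOk 162304 := h.step 256 cover15_33
  have h : AllBelow coverOk 162560 := h.step 256 cover15_34
  have h : AllBelow coverOk 162816 := h.step 256 cover15_35
  have h : AllBelow coverOk 163072 := h.step 256 cover15_36
  have h : AllBelow coverOk 163328 := h.step 256 cover15_37
  have h : AllBelow coverOk 163584 := h.step 256 cover15_38
  have h : AllBelow coverOk 163840 := h.step 256 cover15_39
  exact h

end Cfsg.Agent.Fi24Cover87
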