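import Cfsg.Agent.Lib.Fi24Cover87Def

/-! Kernel checks of the voltages of the triple cover, part 16. -/

set_option autoImplicit false
set_option Elab.async false

namespace Cfsg.Agent.Fi24Cover87

open Cfsg.Agent.CosetCertTable

theorem cover16_0 : allFrom coverOk 256 163840 = true := by decide +kernel

theorem cover16_1 : allFrom coverOk 256 164096 = true := by decide +kernel

theorem cover16_2 : allFrom coverOk 256 164352 = true := by decide +kernel

theorem cover16_3 : allFrom coverOk 256 164608 = true := by decide +kernel

theorem cover16_4 : allFrom coverOk 256 164864 = true := by decide +kernel

theorem cover16_5 : allFrom coverOk 256 165120 = true := by decide +kernel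

theorem cover16_6 : allFrom coverOk 256 165376 = true := by decide +kernel

theorem cover16_7 : allFrom coverOk 256 165632 = true := by decide +kernel

theorem cover16_8 : allFrom coverOk 256 165888 = true := by decide +kernel

theorem cover16_9 : allFrom coverOk 256 166144 = true := by decide +kernel

theorem cover16_10 : allFrom coverOk 256 166400 = true := by decide +kernel

theorem cover16_11 : allFrom coverOk 256 166656 = true := by decide +kernel

theorem cover16_12 : allFrom coverOk 256 166912 = true := by decide +kernel

theorem cover16_13 : allFrom coverOk 256 167168 = true := by decide +kernel

theorem cover16_14 : allFrom coverOk 256 167424 = true := by decide +kernel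

theorem cover16_15 : allFrom coverOk 256 167680 = true := by decide +kernel

theorem cover16_16 : allFrom coverOk 256 167936 = true := by decide +kernel

theorem cover16_17 : allFrom coverOk 256 168192 = true := by decide +kernel

theorem cover16_18 : allFrom coverOk 256 168448 = true := by decide +kernel

theorem cover16_19 : allFrom coverOk 256 168704 = true := by decide +kernel

theorem cover16_20 : allFrom coverOk 256 168960 = true := by decide +kernel

theorem cover16_21 : allFrom coverOk 256 169216 = true := by decide +kernel

theorem cover16_22 : allFrom coverOk 256 169472 = true := by decide +kernel

theorem cover16_23 : allFrom coverOk 256 169728 = true := by decide +kernel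

theorem cover16_24 : allFrom coverOk 256 169984 = true := by decide +kernel

theorem cover16_25 : allFrom coverOk 256 170240 = true := by decide +kernel

theorem cover16_26 : allFrom coverOk 256 170496 = true := by decide +kernel

theorem cover16_27 : allFrom coverOk 256 170752 = true := by decide +kernel

theorem cover16_28 : allFrom coverOk 256 171008 = true := by decide +kernel

theorem cover16_29 : allFrom coverOk 256 171264 = true := by decide +kernel

theorem cover16_30 : allFrom coverOk 256 171520 = true := by decide +kernel

theorem cover16_31 : allFrom coverOk 256 171776 = true := by decide +kernel

theorem cover16_32 : allFrom coverOk 256 172032 = true := by decide +kernel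

theorem cover16_33 : allFrom coverOk 256 172288 = true := by decide +kernel

theorem cover16_34 : allFrom coverOk 256 172544 = true := by decide +kernel

theorem cover16_35 : allFrom coverOk 256 172800 = true := by decide +kernel

theorem cover16_36 : allFrom coverOk 256 173056 = true := by decide +kernel

theorem cover16_37 : allFrom coverOk 256 173312 = true := by decide +kernel

theorem cover16_38 : allFrom coverOk 256 173568 = true := by decide +kernel

theorem cover16_39 : allFrom coverOk 256 173824 = true := by decide +kernel

attribute [local irreducible] coverOk

/-- The tests pass below 174080 if they pass below 163840. -/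
theorem cover16 (h : AllBelow coverOk 163840) : AllBelow coverOk 174080 := by
  have h : AllBelow coverOk 164096 := h.step 256 cover16_0
  have h : AllBelow coverOk 164352 := h.step 256 cover16_1
  have h : AllBelow coverOk 164608 := h.step 256 cover16_2
  have h : AllBelow coverOk 164864 := h.step 256 cover16_3
  have h : AllBelow coverOk 165120 := h.step 256 cover16_4
  have h : AllBelow coverOk 165376 := h.step 256 cover16_5
  have h : AllBelow coverOk 165632 := h.step 256 cover16_6
  have h : AllBelow coverOk 165888 := h.step 256 cover16_7
  have h : AllBelow coverOk 166144 := h.step 256 cover16_8
  have h : AllBelow coverOk 166400 := h.step 256 cover16_9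
  have h : AllBelow coverOk 166656 := h.step 256 cover16_10
  have h : AllBelow coverOk 166912 := h.step 256 cover16_11
  have h : AllBelow coverOk 167168 := h.step 256 cover16_12
  have h : AllBelow coverOk 167424 := h.step 256 cover16_13
  have h : AllBelow coverOk 167680 := h.step 256 cover16_14
  have h : AllBelow coverOk 167936 := h.step 256 cover16_15
  have h : AllBelow coverOk 168192 := h.step 256 cover16_16
  have h : AllBelow coverOk 168448 := h.step 256 cover16_17
  have h : AllBelow coverOk 168704 := h.step 256 cover16_18
  have h : AllBelow coverOk 168960 := h.step 256 cover16_19
  have h : AllBelow coverOk 169216 := h.step 256 cover16_20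
  have h : AllBelow coverOk 169472 := h.step 256 cover16_21
  have h : AllBelow coverOk 169728 := h.step 256 cover16_22
  have h : AllBelow coverOk 169984 := h.step 256 cover16_23
  have h : AllBelow coverOk 170240 := h.step 256 cover16_24
  have h : AllBelow coverOk 170496 := h.step 256 cover16_25
  have h : AllBelow coverOk 170752 := h.step 256 cover16_26
  have h : AllBelow coverOk 171008 := h.step 256 cover16_27
  have h : AllBelow coverOk 171264 := h.step 256 cover16_28
  have h : AllBelow coverOk 171520 := h.step 256 cover16_29
  have h : AllBelow coverOk 171776 := h.step 256 cover16_30
  have h : AllBelow coverOk 172032 := h.step 256 cover16_31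
  have h : AllBelow coverOk 172288 := h.step 256 cover16_32
  have h : AllBelow coverOk 172544 := h.step 256 cover16_33
  have h : AllBelow coverOk 172800 := h.step 256 cover16_34
  have h : AllBelow coverOk 173056 := h.step 256 cover16_35
  have h : AllBelow coverOk 173312 := h.step 256 cover16_36
  have h : AllBelow coverOk 173568 := h.step 256 cover16_37
  have h : AllBelow coverOk 173824 := h.step 256 cover16_38
  have h : AllBelow coverOk 174080 := h.step 256 cover16_39
  exact h

end Cfsg.Agent.Fi24Cover87
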