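import Cfsg.Agent.Lib.Fi24Cover87Def

/-! Kernel checks of the voltages of the triple cover, part 17. -/

set_option autoImplicit false
set_option Elab.async false

namespace Cfsg.Agent.Fi24Cover87

open Cfsg.Agent.CosetCertTable

theorem cover17_0 : allFrom coverOk 256 174080 = true := by decide +kernel

theorem cover17_1 : allFrom coverOk 256 174336 = true := by decide +kernel

theorem cover17_2 : allFrom coverOk 256 174592 = true := by decide +kernel

theorem cover17_3 : allFrom coverOk 256 174848 = true := by decide +kernel

theorem cover17_4 : allFrom coverOk 256 175104 = true := by decide +kernel

theorem cover17_5 : allFrom coverOk 256 175360 = true := by decide +kernel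

theorem cover17_6 : allFrom coverOk 256 175616 = true := by decide +kernel

theorem cover17_7 : allFrom coverOk 256 175872 = true := by decide +kernel

theorem cover17_8 : allFrom coverOk 256 176128 = true := by decide +kernel

theorem cover17_9 : allFrom coverOk 256 176384 = true := by decide +kernel

theorem cover17_10 : allFrom coverOk 256 176640 = true := by decide +kernel

theorem cover17_11 : allFrom coverOk 256 176896 = true := by decide +kernel

theorem cover17_12 : allFrom coverOk 256 177152 = true := by decide +kernel

theorem cover17_13 : allFrom coverOk 256 177408 = true := by decide +kernel

theorem cover17_14 : allFrom coverOk 256 177664 = true := by decide +kernel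

theorem cover17_15 : allFrom coverOk 256 177920 = true := by decide +kernel

theorem cover17_16 : allFrom coverOk 256 178176 = true := by decide +kernel

theorem cover17_17 : allFrom coverOk 256 178432 = true := by decide +kernel

theorem cover17_18 : allFrom coverOk 256 178688 = true := by decide +kernel

theorem cover17_19 : allFrom coverOk 256 178944 = true := by decide +kernel

theorem cover17_20 : allFrom coverOk 256 179200 = true := by decide +kernel

theorem cover17_21 : allFrom coverOk 256 179456 = true := by decide +kernel

theorem cover17_22 : allFrom coverOk 256 179712 = true := by decide +kernel

theorem cover17_23 : allFrom coverOk 256 179968 = true := by decide +kernel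

theorem cover17_24 : allFrom coverOk 256 180224 = true := by decide +kernel

theorem cover17_25 : allFrom coverOk 256 180480 = true := by decide +kernel

theorem cover17_26 : allFrom coverOk 256 180736 = true := by decide +kernel

theorem cover17_27 : allFrom coverOk 256 180992 = true := by decide +kernel

theorem cover17_28 : allFrom coverOk 256 181248 = true := by decide +kernel

theorem cover17_29 : allFrom coverOk 256 181504 = true := by decide +kernel

theorem cover17_30 : allFrom coverOk 256 181760 = true := by decide +kernel

theorem cover17_31 : allFrom coverOk 256 182016 = true := by decide +kernel

theorem cover17_32 : allFrom coverOk 256 182272 = true := by decide +kernel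

theorem cover17_33 : allFrom coverOk 256 182528 = true := by decide +kernel

theorem cover17_34 : allFrom coverOk 256 182784 = true := by decide +kernel

theorem cover17_35 : allFrom coverOk 256 183040 = true := by decide +kernel

theorem cover17_36 : allFrom coverOk 256 183296 = true := by decide +kernel

theorem cover17_37 : allFrom coverOk 256 183552 = true := by decide +kernel

theorem cover17_38 : allFrom coverOk 256 183808 = true := by decide +kernel

theorem cover17_39 : allFrom coverOk 256 184064 = true := by decide +kernel

attribute [local irreducible] coverOk

/-- The tests pass below 184320 if they pass below 174080. -/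
theorem cover17 (h : AllBelow coverOk 174080) : AllBelow coverOk 184320 := by
  have h : AllBelow coverOk 174336 := h.step 256 cover17_0
  have h : AllBelow coverOk 174592 := h.step 256 cover17_1
  have h : AllBelow coverOk 174848 := h.step 256 cover17_2
  have h : AllBelow coverOk 175104 := h.step 256 cover17_3
  have h : AllBelow coverOk 175360 := h.step 256 cover17_4
  have h : AllBelow coverOk 175616 := h.step 256 cover17_5
  have h : AllBelow coverOk 175872 := h.step 256 cover17_6
  have h : AllBelow coverOk 176128 := h.step 256 cover17_7
  have h : AllBelow coverOk 176384 := h.step 256 cover17_8
  have h : AllBelow coverOk 176640 := h.step 256 cover17_9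
  have h : AllBelow coverOk 176896 := h.step 256 cover17_10
  have h : AllBelow coverOk 177152 := h.step 256 cover17_11
  have h : AllBelow coverOk 177408 := h.step 256 cover17_12
  have h : AllBelow coverOk 177664 := h.step 256 cover17_13
  have h : AllBelow coverOk 177920 := h.step 256 cover17_14
  have h : AllBelow coverOk 178176 := h.step 256 cover17_15
  have h : AllBelow coverOk 178432 := h.step 256 cover17_16
  have h : AllBelow coverOk 178688 := h.step 256 cover17_17
  have h : AllBelow coverOk 178944 := h.step 256 cover17_18
  have h : AllBelow coverOk 179200 := h.step 256 cover17_19
  have h : AllBelow coverOk 179456 := h.step 256 cover17_20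
  have h : AllBelow coverOk 179712 := h.step 256 cover17_21
  have h : AllBelow coverOk 179968 := h.step 256 cover17_22
  have h : AllBelow coverOk 180224 := h.step 256 cover17_23
  have h : AllBelow coverOk 180480 := h.step 256 cover17_24
  have h : AllBelow coverOk 180736 := h.step 256 cover17_25
  have h : AllBelow coverOk 180992 := h.step 256 cover17_26
  have h : AllBelow coverOk 181248 := h.step 256 cover17_27
  have h : AllBelow coverOk 181504 := h.step 256 cover17_28
  have h : AllBelow coverOk 181760 := h.step 256 cover17_29
  have h : AllBelow coverOk 182016 := h.step 256 cover17_30
  have h : AllBelow coverOk 182272 := h.step 256 cover17_31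
  have h : AllBelow coverOk 182528 := h.step 256 cover17_32
  have h : AllBelow coverOk 182784 := h.step 256 cover17_33
  have h : AllBelow coverOk 183040 := h.step 256 cover17_34
  have h : AllBelow coverOk 183296 := h.step 256 cover17_35
  have h : AllBelow coverOk 183552 := h.step 256 cover17_36
  have h : AllBelow coverOk 183808 := h.step 256 cover17_37
  have h : AllBelow coverOk 184064 := h.step 256 cover17_38
  have h : AllBelow coverOk 184320 := h.step 256 cover17_39
  exact h

end Cfsg.Agent.Fi24Cover87
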