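import Cfsg.Agent.Lib.Fi24Cover87Def

/-! Kernel checks of the voltages of the triple cover, part 18. -/

set_option autoImplicit false
set_option Elab.async false

namespace Cfsg.Agent.Fi24Cover87

open Cfsg.Agent.CosetCertTable

theorem cover18_0 : allFrom coverOk 256 184320 = true := by decide +kernel

theorem cover18_1 : allFrom coverOk 256 184576 = true := by decide +kernel

theorem cover18_2 : allFrom coverOk 256 184832 = true := by decide +kernel

theorem cover18_3 : allFrom coverOk 256 185088 = true := by decide +kernel

theorem cover18_4 : allFrom coverOk 256 185344 = true := by decide +kernel

theorem cover18_5 : allFrom coverOk 256 185600 = true := by decide +kernel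

theorem cover18_6 : allFrom coverOk 256 185856 = true := by decide +kernel

theorem cover18_7 : allFrom coverOk 256 186112 = true := by decide +kernel

theorem cover18_8 : allFrom coverOk 256 186368 = true := by decide +kernel

theorem cover18_9 : allFrom coverOk 256 186624 = true := by decide +kernel

theorem cover18_10 : allFrom coverOk 256 186880 = true := by decide +kernel

theorem cover18_11 : allFrom coverOk 256 187136 = true := by decide +kernel

theorem cover18_12 : allFrom coverOk 256 187392 = true := by decide +kernel

theorem cover18_13 : allFrom coverOk 256 187648 = true := by decide +kernel

theorem cover18_14 : allFrom coverOk 256 187904 = true := by decide +kernel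

theorem cover18_15 : allFrom coverOk 256 188160 = true := by decide +kernel

theorem cover18_16 : allFrom coverOk 256 188416 = true := by decide +kernel

theorem cover18_17 : allFrom coverOk 256 188672 = true := by decide +kernel

theorem cover18_18 : allFrom coverOk 256 188928 = true := by decide +kernel

theorem cover18_19 : allFrom coverOk 256 189184 = true := by decide +kernel

theorem cover18_20 : allFrom coverOk 256 189440 = true := by decide +kernel

theorem cover18_21 : allFrom coverOk 256 189696 = true := by decide +kernel

theorem cover18_22 : allFrom coverOk 256 189952 = true := by decide +kernel

theorem cover18_23 : allFrom coverOk 256 190208 = true := by decide +kernel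

theorem cover18_24 : allFrom coverOk 256 190464 = true := by decide +kernel

theorem cover18_25 : allFrom coverOk 256 190720 = true := by decide +kernel

theorem cover18_26 : allFrom coverOk 256 190976 = true := by decide +kernel

theorem cover18_27 : allFrom coverOk 256 191232 = true := by decide +kernel

theorem cover18_28 : allFrom coverOk 256 191488 = true := by decide +kernel

theorem cover18_29 : allFrom coverOk 256 191744 = true := by decide +kernel

theorem cover18_30 : allFrom coverOk 256 192000 = true := by decide +kernel

theorem cover18_31 : allFrom coverOk 256 192256 = true := by decide +kernel

theorem cover18_32 : allFrom coverOk 256 192512 = true := by decide +kernel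

theorem cover18_33 : allFrom coverOk 256 192768 = true := by decide +kernel

theorem cover18_34 : allFrom coverOk 256 193024 = true := by decide +kernel

theorem cover18_35 : allFrom coverOk 256 193280 = true := by decide +kernel

theorem cover18_36 : allFrom coverOk 256 193536 = true := by decide +kernel

theorem cover18_37 : allFrom coverOk 256 193792 = true := by decide +kernel

theorem cover18_38 : allFrom coverOk 256 194048 = true := by decide +kernel

theorem cover18_39 : allFrom coverOk 256 194304 = true := by decide +kernel

attribute [local irreducible] coverOk

/-- The tests pass below 194560 if they pass below 184320. -/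
theorem cover18 (h : AllBelow coverOk 184320) : AllBelow coverOk 194560 := by
  have h : AllBelow coverOk 184576 := h.step 256 cover18_0
  have h : AllBelow coverOk 184832 := h.step 256 cover18_1
  have h : AllBelow coverOk 185088 := h.step 256 cover18_2
  have h : AllBelow coverOk 185344 := h.step 256 cover18_3
  have h : AllBelow coverOk 185600 := h.step 256 cover18_4
  have h : AllBelow coverOk 185856 := h.step 256 cover18_5
  have h : AllBelow coverOk 186112 := h.step 256 cover18_6
  have h : AllBelow coverOk 186368 := h.step 256 cover18_7
  have h : AllBelow coverOk 186624 := h.step 256 cover18_8
  have h : AllBelow coverOk 186880 := h.step 256 cover18_9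
  have h : AllBelow coverOk 187136 := h.step 256 cover18_10
  have h : AllBelow coverOk 187392 := h.step 256 cover18_11
  have h : AllBelow coverOk 187648 := h.step 256 cover18_12
  have h : AllBelow coverOk 187904 := h.step 256 cover18_13
  have h : AllBelow coverOk 188160 := h.step 256 cover18_14
  have h : AllBelow coverOk 188416 := h.step 256 cover18_15
  have h : AllBelow coverOk 188672 := h.step 256 cover18_16
  have h : AllBelow coverOk 188928 := h.step 256 cover18_17
  have h : AllBelow coverOk 189184 := h.step 256 cover18_18
  have h : AllBelow coverOk 189440 := h.step 256 cover18_19
  have h : AllBelow coverOk 189696 := h.step 256 cover18_20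
  have h : AllBelow coverOk 189952 := h.step 256 cover18_21
  have h : AllBelow coverOk 190208 := h.step 256 cover18_22
  have h : AllBelow coverOk 190464 := h.step 256 cover18_23
  have h : AllBelow coverOk 190720 := h.step 256 cover18_24
  have h : AllBelow coverOk 190976 := h.step 256 cover18_25
  have h : AllBelow coverOk 191232 := h.step 256 cover18_26
  have h : AllBelow coverOk 191488 := h.step 256 cover18_27
  have h : AllBelow coverOk 191744 := h.step 256 cover18_28
  have h : AllBelow coverOk 192000 := h.step 256 cover18_29
  have h : AllBelow coverOk 192256 := h.step 256 cover18_30
  have h : AllBelow coverOk 192512 := h.step 256 cover18_31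
  have h : AllBelow coverOk 192768 := h.step 256 cover18_32
  have h : AllBelow coverOk 193024 := h.step 256 cover18_33
  have h : AllBelow coverOk 193280 := h.step 256 cover18_34
  have h : AllBelow coverOk 193536 := h.step 256 cover18_35
  have h : AllBelow coverOk 193792 := h.step 256 cover18_36
  have h : AllBelow coverOk 194048 := h.step 256 cover18_37
  have h : AllBelow coverOk 194304 := h.step 256 cover18_38
  have h : AllBelow coverOk 194560 := h.step 256 cover18_39
  exact h

end Cfsg.Agent.Fi24Cover87
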