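import Cfsg.Agent.Lib.Fi24Cover87Def

/-! Kernel checks of the voltages of the triple cover, part 19. -/

set_option autoImplicit false
set_option Elab.async false

namespace Cfsg.Agent.Fi24Cover87

open Cfsg.Agent.CosetCertTable

theorem cover19_0 : allFrom coverOk 256 194560 = true := by decide +kernel

theorem cover19_1 : allFrom coverOk 256 194816 = true := by decide +kernel

theorem cover19_2 : allFrom coverOk 256 195072 = true := by decide +kernel

theorem cover19_3 : allFrom coverOk 256 195328 = true := by decide +kernel

theorem cover19_4 : allFrom coverOk 256 195584 = true := by decide +kernel

theorem cover19_5 : allFrom coverOk 256 195840 = true := by decide +kernel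

theorem cover19_6 : allFrom coverOk 256 196096 = true := by decide +kernel

theorem cover19_7 : allFrom coverOk 256 196352 = true := by decide +kernel

theorem cover19_8 : allFrom coverOk 256 196608 = true := by decide +kernel

theorem cover19_9 : allFrom coverOk 256 196864 = true := by decide +kernel

theorem cover19_10 : allFrom coverOk 256 197120 = true := by decide +kernel

theorem cover19_11 : allFrom coverOk 256 197376 = true := by decide +kernel

theorem cover19_12 : allFrom coverOk 256 197632 = true := by decide +kernel

theorem cover19_13 : allFrom coverOk 256 197888 = true := by decide +kernel

theorem cover19_14 : allFrom coverOk 256 198144 = true := by decide +kernel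

theorem cover19_15 : allFrom coverOk 256 198400 = true := by decide +kernel

theorem cover19_16 : allFrom coverOk 256 198656 = true := by decide +kernel

theorem cover19_17 : allFrom coverOk 256 198912 = true := by decide +kernel

theorem cover19_18 : allFrom coverOk 256 199168 = true := by decide +kernel

theorem cover19_19 : allFrom coverOk 256 199424 = true := by decide +kernel

theorem cover19_20 : allFrom coverOk 256 199680 = true := by decide +kernel

theorem cover19_21 : allFrom coverOk 256 199936 = true := by decide +kernel

theorem cover19_22 : allFrom coverOk 256 200192 = true := by decide +kernel

theorem cover19_23 : allFrom coverOk 256 200448 = true := by decide +kernel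

theorem cover19_24 : allFrom coverOk 256 200704 = true := by decide +kernel

theorem cover19_25 : allFrom coverOk 256 200960 = true := by decide +kernel

theorem cover19_26 : allFrom coverOk 256 201216 = true := by decide +kernel

theorem cover19_27 : allFrom coverOk 256 201472 = true := by decide +kernel

theorem cover19_28 : allFrom coverOk 256 201728 = true := by decide +kernel

theorem cover19_29 : allFrom coverOk 256 201984 = true := by decide +kernel

theorem cover19_30 : allFrom coverOk 256 202240 = true := by decide +kernel

theorem cover19_31 : allFrom coverOk 256 202496 = true := by decide +kernel

theorem cover19_32 : allFrom coverOk 256 202752 = true := by decide +kernel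

theorem cover19_33 : allFrom coverOk 256 203008 = true := by decide +kernel

theorem cover19_34 : allFrom coverOk 256 203264 = true := by decide +kernel

theorem cover19_35 : allFrom coverOk 256 203520 = true := by decide +kernel

theorem cover19_36 : allFrom coverOk 256 203776 = true := by decide +kernel

theorem cover19_37 : allFrom coverOk 256 204032 = true := by decide +kernel

theorem cover19_38 : allFrom coverOk 256 204288 = true := by decide +kernel

theorem cover19_39 : allFrom coverOk 256 204544 = true := by decide +kernel

attribute [local irreducible] coverOk

/-- The tests pass below 204800 if they pass below 194560. -/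
theorem cover19 (h : AllBelow coverOk 194560) : AllBelow coverOk 204800 := by
  have h : AllBelow coverOk 194816 := h.step 256 cover19_0
  have h : AllBelow coverOk 195072 := h.step 256 cover19_1
  have h : AllBelow coverOk 195328 := h.step 256 cover19_2
  have h : AllBelow coverOk 195584 := h.step 256 cover19_3
  have h : AllBelow coverOk 195840 := h.step 256 cover19_4
  have h : AllBelow coverOk 196096 := h.step 256 cover19_5
  have h : AllBelow coverOk 196352 := h.step 256 cover19_6
  have h : AllBelow coverOk 196608 := h.step 256 cover19_7
  have h : AllBelow coverOk 196864 := h.step 256 cover19_8
  have h : AllBelow coverOk 197120 := h.step 256 cover19_9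
  have h : AllBelow coverOk 197376 := h.step 256 cover19_10
  have h : AllBelow coverOk 197632 := h.step 256 cover19_11
  have h : AllBelow coverOk 197888 := h.step 256 cover19_12
  have h : AllBelow coverOk 198144 := h.step 256 cover19_13
  have h : AllBelow coverOk 198400 := h.step 256 cover19_14
  have h : AllBelow coverOk 198656 := h.step 256 cover19_15
  have h : AllBelow coverOk 198912 := h.step 256 cover19_16
  have h : AllBelow coverOk 199168 := h.step 256 cover19_17
  have h : AllBelow coverOk 199424 := h.step 256 cover19_18
  have h : AllBelow coverOk 199680 := h.step 256 cover19_19
  have h : AllBelow coverOk 199936 := h.step 256 cover19_20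
  have h : AllBelow coverOk 200192 := h.step 256 cover19_21
  have h : AllBelow coverOk 200448 := h.step 256 cover19_22
  have h : AllBelow coverOk 200704 := h.step 256 cover19_23
  have h : AllBelow coverOk 200960 := h.step 256 cover19_24
  have h : AllBelow coverOk 201216 := h.step 256 cover19_25
  have h : AllBelow coverOk 201472 := h.step 256 cover19_26
  have h : AllBelow coverOk 201728 := h.step 256 cover19_27
  have h : AllBelow coverOk 201984 := h.step 256 cover19_28
  have h : AllBelow coverOk 202240 := h.step 256 cover19_29
  have h : AllBelow coverOk 202496 := h.step 256 cover19_30
  have h : AllBelow coverOk 202752 := h.step 256 cover19_31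
  have h : AllBelow coverOk 203008 := h.step 256 cover19_32
  have h : AllBelow coverOk 203264 := h.step 256 cover19_33
  have h : AllBelow coverOk 203520 := h.step 256 cover19_34
  have h : AllBelow coverOk 203776 := h.step 256 cover19_35
  have h : AllBelow coverOk 204032 := h.step 256 cover19_36
  have h : AllBelow coverOk 204288 := h.step 256 cover19_37
  have h : AllBelow coverOk 204544 := h.step 256 cover19_38
  have h : AllBelow coverOk 204800 := h.step 256 cover19_39
  exact h

end Cfsg.Agent.Fi24Cover87
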