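import Cfsg.Agent.Lib.Fi24Cover87Def

/-! Kernel checks of the voltages of the triple cover, part 2. -/

set_option autoImplicit false
set_option Elab.async false

namespace Cfsg.Agent.Fi24Cover87

open Cfsg.Agent.CosetCertTable

theorem cover2_0 : allFrom coverOk 256 20480 = true := by decide +kernel

theorem cover2_1 : allFrom coverOk 256 20736 = true := by decide +kernel

theorem cover2_2 : allFrom coverOk 256 20992 = true := by decide +kernel

theorem cover2_3 : allFrom coverOk 256 21248 = true := by decide +kernel

theorem cover2_4 : allFrom coverOk 256 21504 = true := by decide +kernel

theorem cover2_5 : allFrom coverOk 256 21760 = true := by decide +kernel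

theorem cover2_6 : allFrom coverOk 256 22016 = true := by decide +kernel

theorem cover2_7 : allFrom coverOk 256 22272 = true := by decide +kernel

theorem cover2_8 : allFrom coverOk 256 22528 = true := by decide +kernel

theorem cover2_9 : allFrom coverOk 256 22784 = true := by decide +kernel

theorem cover2_10 : allFrom coverOk 256 23040 = true := by decide +kernel

theorem cover2_11 : allFrom coverOk 256 23296 = true := by decide +kernel

theorem cover2_12 : allFrom coverOk 256 23552 = true := by decide +kernel

theorem cover2_13 : allFrom coverOk 256 23808 = true := by decide +kernel

theorem cover2_14 : allFrom coverOk 256 24064 = true := by decide +kernel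

theorem cover2_15 : allFrom coverOk 256 24320 = true := by decide +kernel

theorem cover2_16 : allFrom coverOk 256 24576 = true := by decide +kernel

theorem cover2_17 : allFrom coverOk 256 24832 = true := by decide +kernel

theorem cover2_18 : allFrom coverOk 256 25088 = true := by decide +kernel

theorem cover2_19 : allFrom coverOk 256 25344 = true := by decide +kernel

theorem cover2_20 : allFrom coverOk 256 25600 = true := by decide +kernel

theorem cover2_21 : allFrom coverOk 256 25856 = true := by decide +kernel

theorem cover2_22 : allFrom coverOk 256 26112 = true := by decide +kernel

theorem cover2_23 : allFrom coverOk 256 26368 = true := by decide +kernel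

theorem cover2_24 : allFrom coverOk 256 26624 = true := by decide +kernel

theorem cover2_25 : allFrom coverOk 256 26880 = true := by decide +kernel

theorem cover2_26 : allFrom coverOk 256 27136 = true := by decide +kernel

theorem cover2_27 : allFrom coverOk 256 27392 = true := by decide +kernel

theorem cover2_28 : allFrom coverOk 256 27648 = true := by decide +kernel

theorem cover2_29 : allFrom coverOk 256 27904 = true := by decide +kernel

theorem cover2_30 : allFrom coverOk 256 28160 = true := by decide +kernel

theorem cover2_31 : allFrom coverOk 256 28416 = true := by decide +kernel

theorem cover2_32 : allFrom coverOk 256 28672 = true := by decide +kernel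

theorem cover2_33 : allFrom coverOk 256 28928 = true := by decide +kernel

theorem cover2_34 : allFrom coverOk 256 29184 = true := by decide +kernel

theorem cover2_35 : allFrom coverOk 256 29440 = true := by decide +kernel

theorem cover2_36 : allFrom coverOk 256 29696 = true := by decide +kernel

theorem cover2_37 : allFrom coverOk 256 29952 = true := by decide +kernel

theorem cover2_38 : allFrom coverOk 256 30208 = true := by decide +kernel

theorem cover2_39 : allFrom coverOk 256 30464 = true := by decide +kernel

attribute [local irreducible] coverOk

/-- The tests pass below 30720 if they pass below 20480. -/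
theorem cover2 (h : AllBelow coverOk 20480) : AllBelow coverOk 30720 := by
  have h : AllBelow coverOk 20736 := h.step 256 cover2_0
  have h : AllBelow coverOk 20992 := h.step 256 cover2_1
  have h : AllBelow coverOk 21248 := h.step 256 cover2_2
  have h : AllBelow coverOk 21504 := h.step 256 cover2_3
  have h : AllBelow coverOk 21760 := h.step 256 cover2_4
  have h : AllBelow coverOk 22016 := h.step 256 cover2_5
  have h : AllBelow coverOk 22272 := h.step 256 cover2_6
  have h : AllBelow coverOk 22528 := h.step 256 cover2_7
  have h : AllBelow coverOk 22784 := h.step 256 cover2_8
  have h : AllBelow coverOk 23040 := h.step 256 cover2_9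
  have h : AllBelow coverOk 23296 := h.step 256 cover2_10
  have h : AllBelow coverOk 23552 := h.step 256 cover2_11
  have h : AllBelow coverOk 23808 := h.step 256 cover2_12
  have h : AllBelow coverOk 24064 := h.step 256 cover2_13
  have h : AllBelow coverOk 24320 := h.step 256 cover2_14
  have h : AllBelow coverOk 24576 := h.step 256 cover2_15
  have h : AllBelow coverOk 24832 := h.step 256 cover2_16
  have h : AllBelow coverOk 25088 := h.step 256 cover2_17
  have h : AllBelow coverOk 25344 := h.step 256 cover2_18
  have h : AllBelow coverOk 25600 := h.step 256 cover2_19
  have h : AllBelow coverOk 25856 := h.step 256 cover2_20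
  have h : AllBelow coverOk 26112 := h.step 256 cover2_21
  have h : AllBelow coverOk 26368 := h.step 256 cover2_22
  have h : AllBelow coverOk 26624 := h.step 256 cover2_23
  have h : AllBelow coverOk 26880 := h.step 256 cover2_24
  have h : AllBelow coverOk 27136 := h.step 256 cover2_25
  have h : AllBelow coverOk 27392 := h.step 256 cover2_26
  have h : AllBelow coverOk 27648 := h.step 256 cover2_27
  have h : AllBelow coverOk 27904 := h.step 256 cover2_28
  have h : AllBelow coverOk 28160 := h.step 256 cover2_29
  have h : AllBelow coverOk 28416 := h.step 256 cover2_30
  have h : AllBelow coverOk 28672 := h.step 256 cover2_31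
  have h : AllBelow coverOk 28928 := h.step 256 cover2_32
  have h : AllBelow coverOk 29184 := h.step 256 cover2_33
  have h : AllBelow coverOk 29440 := h.step 256 cover2_34
  have h : AllBelow coverOk 29696 := h.step 256 cover2_35
  have h : AllBelow coverOk 29952 := h.step 256 cover2_36
  have h : AllBelow coverOk 30208 := h.step 256 cover2_37
  have h : AllBelow coverOk 30464 := h.step 256 cover2_38
  have h : AllBelow coverOk 30720 := h.step 256 cover2_39
  exact h

end Cfsg.Agent.Fi24Cover87
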