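import Cfsg.Agent.Lib.Fi24Cover87Def

/-! Kernel checks of the voltages of the triple cover, part 20. -/

set_option autoImplicit false
set_option Elab.async false

namespace Cfsg.Agent.Fi24Cover87

open Cfsg.Agent.CosetCertTable

theorem cover20_0 : allFrom coverOk 256 204800 = true := by decide +kernel

theorem cover20_1 : allFrom coverOk 256 205056 = true := by decide +kernel

theorem cover20_2 : allFrom coverOk 256 205312 = true := by decide +kernel

theorem cover20_3 : allFrom coverOk 256 205568 = true := by decide +kernel

theorem cover20_4 : allFrom coverOk 256 205824 = true := by decide +kernel

theorem cover20_5 : allFrom coverOk 256 206080 = true := by decide +kernel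

theorem cover20_6 : allFrom coverOk 256 206336 = true := by decide +kernel

theorem cover20_7 : allFrom coverOk 256 206592 = true := by decide +kernel

theorem cover20_8 : allFrom coverOk 256 206848 = true := by decide +kernel

theorem cover20_9 : allFrom coverOk 256 207104 = true := by decide +kernel

theorem cover20_10 : allFrom coverOk 256 207360 = true := by decide +kernel

theorem cover20_11 : allFrom coverOk 256 207616 = true := by decide +kernel

theorem cover20_12 : allFrom coverOk 256 207872 = true := by decide +kernel

theorem cover20_13 : allFrom coverOk 256 208128 = true := by decide +kernel

theorem cover20_14 : allFrom coverOk 256 208384 = true := by decide +kernel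

theorem cover20_15 : allFrom coverOk 256 208640 = true := by decide +kernel

theorem cover20_16 : allFrom coverOk 256 208896 = true := by decide +kernel

theorem cover20_17 : allFrom coverOk 256 209152 = true := by decide +kernel

theorem cover20_18 : allFrom coverOk 256 209408 = true := by decide +kernel

theorem cover20_19 : allFrom coverOk 256 209664 = true := by decide +kernel

theorem cover20_20 : allFrom coverOk 256 209920 = true := by decide +kernel

theorem cover20_21 : allFrom coverOk 256 210176 = true := by decide +kernel

theorem cover20_22 : allFrom coverOk 256 210432 = true := by decide +kernel

theorem cover20_23 : allFrom coverOk 256 210688 = true := by decide +kernel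

theorem cover20_24 : allFrom coverOk 256 210944 = true := by decide +kernel

theorem cover20_25 : allFrom coverOk 256 211200 = true := by decide +kernel

theorem cover20_26 : allFrom coverOk 256 211456 = true := by decide +kernel

theorem cover20_27 : allFrom coverOk 256 211712 = true := by decide +kernel

theorem cover20_28 : allFrom coverOk 256 211968 = true := by decide +kernel

theorem cover20_29 : allFrom coverOk 256 212224 = true := by decide +kernel

theorem cover20_30 : allFrom coverOk 256 212480 = true := by decide +kernel

theorem cover20_31 : allFrom coverOk 256 212736 = true := by decide +kernel

theorem cover20_32 : allFrom coverOk 256 212992 = true := by decide +kernel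

theorem cover20_33 : allFrom coverOk 256 213248 = true := by decide +kernel

theorem cover20_34 : allFrom coverOk 256 213504 = true := by decide +kernel

theorem cover20_35 : allFrom coverOk 256 213760 = true := by decide +kernel

theorem cover20_36 : allFrom coverOk 256 214016 = true := by decide +kernel

theorem cover20_37 : allFrom coverOk 256 214272 = true := by decide +kernel

theorem cover20_38 : allFrom coverOk 256 214528 = true := by decide +kernel

theorem cover20_39 : allFrom coverOk 256 214784 = true := by decide +kernel

attribute [local irreducible] coverOk

/-- The tests pass below 215040 if they pass below 204800. -/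
theorem cover20 (h : AllBelow coverOk 204800) : AllBelow coverOk 215040 := by
  have h : AllBelow coverOk 205056 := h.step 256 cover20_0
  have h : AllBelow coverOk 205312 := h.step 256 cover20_1
  have h : AllBelow coverOk 205568 := h.step 256 cover20_2
  have h : AllBelow coverOk 205824 := h.step 256 cover20_3
  have h : AllBelow coverOk 206080 := h.step 256 cover20_4
  have h : AllBelow coverOk 206336 := h.step 256 cover20_5
  have h : AllBelow coverOk 206592 := h.step 256 cover20_6
  have h : AllBelow coverOk 206848 := h.step 256 cover20_7
  have h : AllBelow coverOk 207104 := h.step 256 cover20_8
  have h : AllBelow coverOk 207360 := h.step 256 cover20_9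
  have h : AllBelow coverOk 207616 := h.step 256 cover20_10
  have h : AllBelow coverOk 207872 := h.step 256 cover20_11
  have h : AllBelow coverOk 208128 := h.step 256 cover20_12
  have h : AllBelow coverOk 208384 := h.step 256 cover20_13
  have h : AllBelow coverOk 208640 := h.step 256 cover20_14
  have h : AllBelow coverOk 208896 := h.step 256 cover20_15
  have h : AllBelow coverOk 209152 := h.step 256 cover20_16
  have h : AllBelow coverOk 209408 := h.step 256 cover20_17
  have h : AllBelow coverOk 209664 := h.step 256 cover20_18
  have h : AllBelow coverOk 209920 := h.step 256 cover20_19
  have h : AllBelow coverOk 210176 := h.step 256 cover20_20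
  have h : AllBelow coverOk 210432 := h.step 256 cover20_21
  have h : AllBelow coverOk 210688 := h.step 256 cover20_22
  have h : AllBelow coverOk 210944 := h.step 256 cover20_23
  have h : AllBelow coverOk 211200 := h.step 256 cover20_24
  have h : AllBelow coverOk 211456 := h.step 256 cover20_25
  have h : AllBelow coverOk 211712 := h.step 256 cover20_26
  have h : AllBelow coverOk 211968 := h.step 256 cover20_27
  have h : AllBelow coverOk 212224 := h.step 256 cover20_28
  have h : AllBelow coverOk 212480 := h.step 256 cover20_29
  have h : AllBelow coverOk 212736 := h.step 256 cover20_30
  have h : AllBelow coverOk 212992 := h.step 256 cover20_31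
  have h : AllBelow coverOk 213248 := h.step 256 cover20_32
  have h : AllBelow coverOk 213504 := h.step 256 cover20_33
  have h : AllBelow coverOk 213760 := h.step 256 cover20_34
  have h : AllBelow coverOk 214016 := h.step 256 cover20_35
  have h : AllBelow coverOk 214272 := h.step 256 cover20_36
  have h : AllBelow coverOk 214528 := h.step 256 cover20_37
  have h : AllBelow coverOk 214784 := h.step 256 cover20_38
  have h : AllBelow coverOk 215040 := h.step 256 cover20_39
  exact h

end Cfsg.Agent.Fi24Cover87
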