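import Cfsg.Agent.Lib.Fi24Cover87Def

/-! Kernel checks of the voltages of the triple cover, part 21. -/

set_option autoImplicit false
set_option Elab.async false

namespace Cfsg.Agent.Fi24Cover87

open Cfsg.Agent.CosetCertTable

theorem cover21_0 : allFrom coverOk 256 215040 = true := by decide +kernel

theorem cover21_1 : allFrom coverOk 256 215296 = true := by decide +kernel

theorem cover21_2 : allFrom coverOk 256 215552 = true := by decide +kernel

theorem cover21_3 : allFrom coverOk 256 215808 = true := by decide +kernel

theorem cover21_4 : allFrom coverOk 256 216064 = true := by decide +kernel

theorem cover21_5 : allFrom coverOk 256 216320 = true := by decide +kernel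

theorem cover21_6 : allFrom coverOk 256 216576 = true := by decide +kernel

theorem cover21_7 : allFrom coverOk 256 216832 = true := by decide +kernel

theorem cover21_8 : allFrom coverOk 256 217088 = true := by decide +kernel

theorem cover21_9 : allFrom coverOk 256 217344 = true := by decide +kernel

theorem cover21_10 : allFrom coverOk 256 217600 = true := by decide +kernel

theorem cover21_11 : allFrom coverOk 256 217856 = true := by decide +kernel

theorem cover21_12 : allFrom coverOk 256 218112 = true := by decide +kernel

theorem cover21_13 : allFrom coverOk 256 218368 = true := by decide +kernel

theorem cover21_14 : allFrom coverOk 256 218624 = true := by decide +kernel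

theorem cover21_15 : allFrom coverOk 256 218880 = true := by decide +kernel

theorem cover21_16 : allFrom coverOk 256 219136 = true := by decide +kernel

theorem cover21_17 : allFrom coverOk 256 219392 = true := by decide +kernel

theorem cover21_18 : allFrom coverOk 256 219648 = true := by decide +kernel

theorem cover21_19 : allFrom coverOk 256 219904 = true := by decide +kernel

theorem cover21_20 : allFrom coverOk 256 220160 = true := by decide +kernel

theorem cover21_21 : allFrom coverOk 256 220416 = true := by decide +kernel

theorem cover21_22 : allFrom coverOk 256 220672 = true := by decide +kernel

theorem cover21_23 : allFrom coverOk 256 220928 = true := by decide +kernel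

theorem cover21_24 : allFrom coverOk 256 221184 = true := by decide +kernel

theorem cover21_25 : allFrom coverOk 256 221440 = true := by decide +kernel

theorem cover21_26 : allFrom coverOk 256 221696 = true := by decide +kernel

theorem cover21_27 : allFrom coverOk 256 221952 = true := by decide +kernel

theorem cover21_28 : allFrom coverOk 256 222208 = true := by decide +kernel

theorem cover21_29 : allFrom coverOk 256 222464 = true := by decide +kernel

theorem cover21_30 : allFrom coverOk 256 222720 = true := by decide +kernel

theorem cover21_31 : allFrom coverOk 256 222976 = true := by decide +kernel

theorem cover21_32 : allFrom coverOk 256 223232 = true := by decide +kernel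

theorem cover21_33 : allFrom coverOk 256 223488 = true := by decide +kernel

theorem cover21_34 : allFrom coverOk 256 223744 = true := by decide +kernel

theorem cover21_35 : allFrom coverOk 256 224000 = true := by decide +kernel

theorem cover21_36 : allFrom coverOk 256 224256 = true := by decide +kernel

theorem cover21_37 : allFrom coverOk 256 224512 = true := by decide +kernel

theorem cover21_38 : allFrom coverOk 256 224768 = true := by decide +kernel

theorem cover21_39 : allFrom coverOk 256 225024 = true := by decide +kernel

attribute [local irreducible] coverOk

/-- The tests pass below 225280 if they pass below 215040. -/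
theorem cover21 (h : AllBelow coverOk 215040) : AllBelow coverOk 225280 := by
  have h : AllBelow coverOk 215296 := h.step 256 cover21_0
  have h : AllBelow coverOk 215552 := h.step 256 cover21_1
  have h : AllBelow coverOk 215808 := h.step 256 cover21_2
  have h : AllBelow coverOk 216064 := h.step 256 cover21_3
  have h : AllBelow coverOk 216320 := h.step 256 cover21_4
  have h : AllBelow coverOk 216576 := h.step 256 cover21_5
  have h : AllBelow coverOk 216832 := h.step 256 cover21_6
  have h : AllBelow coverOk 217088 := h.step 256 cover21_7
  have h : AllBelow coverOk 217344 := h.step 256 cover21_8
  have h : AllBelow coverOk 217600 := h.step 256 cover21_9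
  have h : AllBelow coverOk 217856 := h.step 256 cover21_10
  have h : AllBelow coverOk 218112 := h.step 256 cover21_11
  have h : AllBelow coverOk 218368 := h.step 256 cover21_12
  have h : AllBelow coverOk 218624 := h.step 256 cover21_13
  have h : AllBelow coverOk 218880 := h.step 256 cover21_14
  have h : AllBelow coverOk 219136 := h.step 256 cover21_15
  have h : AllBelow coverOk 219392 := h.step 256 cover21_16
  have h : AllBelow coverOk 219648 := h.step 256 cover21_17
  have h : AllBelow coverOk 219904 := h.step 256 cover21_18
  have h : AllBelow coverOk 220160 := h.step 256 cover21_19
  have h : AllBelow coverOk 220416 := h.step 256 cover21_20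
  have h : AllBelow coverOk 220672 := h.step 256 cover21_21
  have h : AllBelow coverOk 220928 := h.step 256 cover21_22
  have h : AllBelow coverOk 221184 := h.step 256 cover21_23
  have h : AllBelow coverOk 221440 := h.step 256 cover21_24
  have h : AllBelow coverOk 221696 := h.step 256 cover21_25
  have h : AllBelow coverOk 221952 := h.step 256 cover21_26
  have h : AllBelow coverOk 222208 := h.step 256 cover21_27
  have h : AllBelow coverOk 222464 := h.step 256 cover21_28
  have h : AllBelow coverOk 222720 := h.step 256 cover21_29
  have h : AllBelow coverOk 222976 := h.step 256 cover21_30
  have h : AllBelow coverOk 223232 := h.step 256 cover21_31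
  have h : AllBelow coverOk 223488 := h.step 256 cover21_32
  have h : AllBelow coverOk 223744 := h.step 256 cover21_33
  have h : AllBelow coverOk 224000 := h.step 256 cover21_34
  have h : AllBelow coverOk 224256 := h.step 256 cover21_35
  have h : AllBelow coverOk 224512 := h.step 256 cover21_36
  have h : AllBelow coverOk 224768 := h.step 256 cover21_37
  have h : AllBelow coverOk 225024 := h.step 256 cover21_38
  have h : AllBelow coverOk 225280 := h.step 256 cover21_39
  exact h

end Cfsg.Agent.Fi24Cover87
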