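import Cfsg.Agent.Lib.Fi24Cover87Def

/-! Kernel checks of the voltages of the triple cover, part 22. -/

set_option autoImplicit false
set_option Elab.async false

namespace Cfsg.Agent.Fi24Cover87

open Cfsg.Agent.CosetCertTable

theorem cover22_0 : allFrom coverOk 256 225280 = true := by decide +kernel

theorem cover22_1 : allFrom coverOk 256 225536 = true := by decide +kernel

theorem cover22_2 : allFrom coverOk 256 225792 = true := by decide +kernel

theorem cover22_3 : allFrom coverOk 256 226048 = true := by decide +kernel

theorem cover22_4 : allFrom coverOk 256 226304 = true := by decide +kernel

theorem cover22_5 : allFrom coverOk 256 226560 = true := by decide +kernel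

theorem cover22_6 : allFrom coverOk 256 226816 = true := by decide +kernel

theorem cover22_7 : allFrom coverOk 256 227072 = true := by decide +kernel

theorem cover22_8 : allFrom coverOk 256 227328 = true := by decide +kernel

theorem cover22_9 : allFrom coverOk 256 227584 = true := by decide +kernel

theorem cover22_10 : allFrom coverOk 256 227840 = true := by decide +kernel

theorem cover22_11 : allFrom coverOk 256 228096 = true := by decide +kernel

theorem cover22_12 : allFrom coverOk 256 228352 = true := by decide +kernel

theorem cover22_13 : allFrom coverOk 256 228608 = true := by decide +kernel

theorem cover22_14 : allFrom coverOk 256 228864 = true := by decide +kernel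

theorem cover22_15 : allFrom coverOk 256 229120 = true := by decide +kernel

theorem cover22_16 : allFrom coverOk 256 229376 = true := by decide +kernel

theorem cover22_17 : allFrom coverOk 256 229632 = true := by decide +kernel

theorem cover22_18 : allFrom coverOk 256 229888 = true := by decide +kernel

theorem cover22_19 : allFrom coverOk 256 230144 = true := by decide +kernel

theorem cover22_20 : allFrom coverOk 256 230400 = true := by decide +kernel

theorem cover22_21 : allFrom coverOk 256 230656 = true := by decide +kernel

theorem cover22_22 : allFrom coverOk 256 230912 = true := by decide +kernel

theorem cover22_23 : allFrom coverOk 256 231168 = true := by decide +kernel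

theorem cover22_24 : allFrom coverOk 256 231424 = true := by decide +kernel

theorem cover22_25 : allFrom coverOk 256 231680 = true := by decide +kernel

theorem cover22_26 : allFrom coverOk 256 231936 = true := by decide +kernel

theorem cover22_27 : allFrom coverOk 256 232192 = true := by decide +kernel

theorem cover22_28 : allFrom coverOk 256 232448 = true := by decide +kernel

theorem cover22_29 : allFrom coverOk 256 232704 = true := by decide +kernel

theorem cover22_30 : allFrom coverOk 256 232960 = true := by decide +kernel

theorem cover22_31 : allFrom coverOk 256 233216 = true := by decide +kernel

theorem cover22_32 : allFrom coverOk 256 233472 = true := by decide +kernel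

theorem cover22_33 : allFrom coverOk 256 233728 = true := by decide +kernel

theorem cover22_34 : allFrom coverOk 256 233984 = true := by decide +kernel

theorem cover22_35 : allFrom coverOk 256 234240 = true := by decide +kernel

theorem cover22_36 : allFrom coverOk 256 234496 = true := by decide +kernel

theorem cover22_37 : allFrom coverOk 256 234752 = true := by decide +kernel

theorem cover22_38 : allFrom coverOk 256 235008 = true := by decide +kernel

theorem cover22_39 : allFrom coverOk 256 235264 = true := by decide +kernel

attribute [local irreducible] coverOk

/-- The tests pass below 235520 if they pass below 225280. -/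
theorem cover22 (h : AllBelow coverOk 225280) : AllBelow coverOk 235520 := by
  have h : AllBelow coverOk 225536 := h.step 256 cover22_0
  have h : AllBelow coverOk 225792 := h.step 256 cover22_1
  have h : AllBelow coverOk 226048 := h.step 256 cover22_2
  have h : AllBelow coverOk 226304 := h.step 256 cover22_3
  have h : AllBelow coverOk 226560 := h.step 256 cover22_4
  have h : AllBelow coverOk 226816 := h.step 256 cover22_5
  have h : AllBelow coverOk 227072 := h.step 256 cover22_6
  have h : AllBelow coverOk 227328 := h.step 256 cover22_7
  have h : AllBelow coverOk 227584 := h.step 256 cover22_8
  have h : AllBelow coverOk 227840 := h.step 256 cover22_9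
  have h : AllBelow coverOk 228096 := h.step 256 cover22_10
  have h : AllBelow coverOk 228352 := h.step 256 cover22_11
  have h : AllBelow coverOk 228608 := h.step 256 cover22_12
  have h : AllBelow coverOk 228864 := h.step 256 cover22_13
  have h : AllBelow coverOk 229120 := h.step 256 cover22_14
  have h : AllBelow coverOk 229376 := h.step 256 cover22_15
  have h : AllBelow coverOk 229632 := h.step 256 cover22_16
  have h : AllBelow coverOk 229888 := h.step 256 cover22_17
  have h : AllBelow coverOk 230144 := h.step 256 cover22_18
  have h : AllBelow coverOk 230400 := h.step 256 cover22_19
  have h : AllBelow coverOk 230656 := h.step 256 cover22_20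
  have h : AllBelow coverOk 230912 := h.step 256 cover22_21
  have h : AllBelow coverOk 231168 := h.step 256 cover22_22
  have h : AllBelow coverOk 231424 := h.step 256 cover22_23
  have h : AllBelow coverOk 231680 := h.step 256 cover22_24
  have h : AllBelow coverOk 231936 := h.step 256 cover22_25
  have h : AllBelow coverOk 232192 := h.step 256 cover22_26
  have h : AllBelow coverOk 232448 := h.step 256 cover22_27
  have h : AllBelow coverOk 232704 := h.step 256 cover22_28
  have h : AllBelow coverOk 232960 := h.step 256 cover22_29
  have h : AllBelow coverOk 233216 := h.step 256 cover22_30
  have h : AllBelow coverOk 233472 := h.step 256 cover22_31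
  have h : AllBelow coverOk 233728 := h.step 256 cover22_32
  have h : AllBelow coverOk 233984 := h.step 256 cover22_33
  have h : AllBelow coverOk 234240 := h.step 256 cover22_34
  have h : AllBelow coverOk 234496 := h.step 256 cover22_35
  have h : AllBelow coverOk 234752 := h.step 256 cover22_36
  have h : AllBelow coverOk 235008 := h.step 256 cover22_37
  have h : AllBelow coverOk 235264 := h.step 256 cover22_38
  have h : AllBelow coverOk 235520 := h.step 256 cover22_39
  exact h

end Cfsg.Agent.Fi24Cover87
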