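import Cfsg.Agent.Lib.Fi24Cover87Def

/-! Kernel checks of the voltages of the triple cover, part 23. -/

set_option autoImplicit false
set_option Elab.async false

namespace Cfsg.Agent.Fi24Cover87

open Cfsg.Agent.CosetCertTable

theorem cover23_0 : allFrom coverOk 256 235520 = true := by decide +kernel

theorem cover23_1 : allFrom coverOk 256 235776 = true := by decide +kernel

theorem cover23_2 : allFrom coverOk 256 236032 = true := by decide +kernel

theorem cover23_3 : allFrom coverOk 256 236288 = true := by decide +kernel

theorem cover23_4 : allFrom coverOk 256 236544 = true := by decide +kernel

theorem cover23_5 : allFrom coverOk 256 236800 = true := by decide +kernel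

theorem cover23_6 : allFrom coverOk 256 237056 = true := by decide +kernel

theorem cover23_7 : allFrom coverOk 256 237312 = true := by decide +kernel

theorem cover23_8 : allFrom coverOk 256 237568 = true := by decide +kernel

theorem cover23_9 : allFrom coverOk 256 237824 = true := by decide +kernel

theorem cover23_10 : allFrom coverOk 256 238080 = true := by decide +kernel

theorem cover23_11 : allFrom coverOk 256 238336 = true := by decide +kernel

theorem cover23_12 : allFrom coverOk 256 238592 = true := by decide +kernel

theorem cover23_13 : allFrom coverOk 256 238848 = true := by decide +kernel

theorem cover23_14 : allFrom coverOk 256 239104 = true := by decide +kernel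

theorem cover23_15 : allFrom coverOk 256 239360 = true := by decide +kernel

theorem cover23_16 : allFrom coverOk 256 239616 = true := by decide +kernel

theorem cover23_17 : allFrom coverOk 256 239872 = true := by decide +kernel

theorem cover23_18 : allFrom coverOk 256 240128 = true := by decide +kernel

theorem cover23_19 : allFrom coverOk 256 240384 = true := by decide +kernel

theorem cover23_20 : allFrom coverOk 256 240640 = true := by decide +kernel

theorem cover23_21 : allFrom coverOk 256 240896 = true := by decide +kernel

theorem cover23_22 : allFrom coverOk 256 241152 = true := by decide +kernel

theorem cover23_23 : allFrom coverOk 256 241408 = true := by decide +kernel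

theorem cover23_24 : allFrom coverOk 256 241664 = true := by decide +kernel

theorem cover23_25 : allFrom coverOk 256 241920 = true := by decide +kernel

theorem cover23_26 : allFrom coverOk 256 242176 = true := by decide +kernel

theorem cover23_27 : allFrom coverOk 256 242432 = true := by decide +kernel

theorem cover23_28 : allFrom coverOk 256 242688 = true := by decide +kernel

theorem cover23_29 : allFrom coverOk 256 242944 = true := by decide +kernel

theorem cover23_30 : allFrom coverOk 256 243200 = true := by decide +kernel

theorem cover23_31 : allFrom coverOk 256 243456 = true := by decide +kernel

theorem cover23_32 : allFrom coverOk 256 243712 = true := by decide +kernel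

theorem cover23_33 : allFrom coverOk 256 243968 = true := by decide +kernel

theorem cover23_34 : allFrom coverOk 256 244224 = true := by decide +kernel

theorem cover23_35 : allFrom coverOk 256 244480 = true := by decide +kernel

theorem cover23_36 : allFrom coverOk 256 244736 = true := by decide +kernel

theorem cover23_37 : allFrom coverOk 256 244992 = true := by decide +kernel

theorem cover23_38 : allFrom coverOk 256 245248 = true := by decide +kernel

theorem cover23_39 : allFrom coverOk 256 245504 = true := by decide +kernel

attribute [local irreducible] coverOk

/-- The tests pass below 245760 if they pass below 235520. -/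
theorem cover23 (h : AllBelow coverOk 235520) : AllBelow coverOk 245760 := by
  have h : AllBelow coverOk 235776 := h.step 256 cover23_0
  have h : AllBelow coverOk 236032 := h.step 256 cover23_1
  have h : AllBelow coverOk 236288 := h.step 256 cover23_2
  have h : AllBelow coverOk 236544 := h.step 256 cover23_3
  have h : AllBelow coverOk 236800 := h.step 256 cover23_4
  have h : AllBelow coverOk 237056 := h.step 256 cover23_5
  have h : AllBelow coverOk 237312 := h.step 256 cover23_6
  have h : AllBelow coverOk 237568 := h.step 256 cover23_7
  have h : AllBelow coverOk 237824 := h.step 256 cover23_8
  have h : AllBelow coverOk 238080 := h.step 256 cover23_9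
  have h : AllBelow coverOk 238336 := h.step 256 cover23_10
  have h : AllBelow coverOk 238592 := h.step 256 cover23_11
  have h : AllBelow coverOk 238848 := h.step 256 cover23_12
  have h : AllBelow coverOk 239104 := h.step 256 cover23_13
  have h : AllBelow coverOk 239360 := h.step 256 cover23_14
  have h : AllBelow coverOk 239616 := h.step 256 cover23_15
  have h : AllBelow coverOk 239872 := h.step 256 cover23_16
  have h : AllBelow coverOk 240128 := h.step 256 cover23_17
  have h : AllBelow coverOk 240384 := h.step 256 cover23_18
  have h : AllBelow coverOk 240640 := h.step 256 cover23_19
  have h : AllBelow coverOk 240896 := h.step 256 cover23_20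
  have h : AllBelow coverOk 241152 := h.step 256 cover23_21
  have h : AllBelow coverOk 241408 := h.step 256 cover23_22
  have h : AllBelow coverOk 241664 := h.step 256 cover23_23
  have h : AllBelow coverOk 241920 := h.step 256 cover23_24
  have h : AllBelow coverOk 242176 := h.step 256 cover23_25
  have h : AllBelow coverOk 242432 := h.step 256 cover23_26
  have h : AllBelow coverOk 242688 := h.step 256 cover23_27
  have h : AllBelow coverOk 242944 := h.step 256 cover23_28
  have h : AllBelow coverOk 243200 := h.step 256 cover23_29
  have h : AllBelow coverOk 243456 := h.step 256 cover23_30
  have h : AllBelow coverOk 243712 := h.step 256 cover23_31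
  have h : AllBelow coverOk 243968 := h.step 256 cover23_32
  have h : AllBelow coverOk 244224 := h.step 256 cover23_33
  have h : AllBelow coverOk 244480 := h.step 256 cover23_34
  have h : AllBelow coverOk 244736 := h.step 256 cover23_35
  have h : AllBelow coverOk 244992 := h.step 256 cover23_36
  have h : AllBelow coverOk 245248 := h.step 256 cover23_37
  have h : AllBelow coverOk 245504 := h.step 256 cover23_38
  have h : AllBelow coverOk 245760 := h.step 256 cover23_39
  exact h

end Cfsg.Agent.Fi24Cover87
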