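import Cfsg.Agent.Lib.Fi24Cover87Def

/-! Kernel checks of the voltages of the triple cover, part 25. -/

set_option autoImplicit false
set_option Elab.async false

namespace Cfsg.Agent.Fi24Cover87

open Cfsg.Agent.CosetCertTable

theorem cover25_0 : allFrom coverOk 256 256000 = true := by decide +kernel

theorem cover25_1 : allFrom coverOk 256 256256 = true := by decide +kernel

theorem cover25_2 : allFrom coverOk 256 256512 = true := by decide +kernel

theorem cover25_3 : allFrom coverOk 256 256768 = true := by decide +kernel

theorem cover25_4 : allFrom coverOk 256 257024 = true := by decide +kernel

theorem cover25_5 : allFrom coverOk 256 257280 = true := by decide +kernel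

theorem cover25_6 : allFrom coverOk 256 257536 = true := by decide +kernel

theorem cover25_7 : allFrom coverOk 256 257792 = true := by decide +kernel

theorem cover25_8 : allFrom coverOk 256 258048 = true := by decide +kernel

theorem cover25_9 : allFrom coverOk 256 258304 = true := by decide +kernel

theorem cover25_10 : allFrom coverOk 256 258560 = true := by decide +kernel

theorem cover25_11 : allFrom coverOk 256 258816 = true := by decide +kernel

theorem cover25_12 : allFrom coverOk 256 259072 = true := by decide +kernel

theorem cover25_13 : allFrom coverOk 256 259328 = true := by decide +kernel

theorem cover25_14 : allFrom coverOk 256 259584 = true := by decide +kernel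

theorem cover25_15 : allFrom coverOk 256 259840 = true := by decide +kernel

theorem cover25_16 : allFrom coverOk 256 260096 = true := by decide +kernel

theorem cover25_17 : allFrom coverOk 256 260352 = true := by decide +kernel

theorem cover25_18 : allFrom coverOk 256 260608 = true := by decide +kernel

theorem cover25_19 : allFrom coverOk 256 260864 = true := by decide +kernel

theorem cover25_20 : allFrom coverOk 256 261120 = true := by decide +kernel

theorem cover25_21 : allFrom coverOk 256 261376 = true := by decide +kernel

theorem cover25_22 : allFrom coverOk 256 261632 = true := by decide +kernel

theorem cover25_23 : allFrom coverOk 256 261888 = true := by decide +kernel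

theorem cover25_24 : allFrom coverOk 256 262144 = true := by decide +kernel

theorem cover25_25 : allFrom coverOk 256 262400 = true := by decide +kernel

theorem cover25_26 : allFrom coverOk 256 262656 = true := by decide +kernel

theorem cover25_27 : allFrom coverOk 256 262912 = true := by decide +kernel

theorem cover25_28 : allFrom coverOk 256 263168 = true := by decide +kernel

theorem cover25_29 : allFrom coverOk 256 263424 = true := by decide +kernel

theorem cover25_30 : allFrom coverOk 256 263680 = true := by decide +kernel

theorem cover25_31 : allFrom coverOk 256 263936 = true := by decide +kernel

theorem cover25_32 : allFrom coverOk 256 264192 = true := by decide +kernel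

theorem cover25_33 : allFrom coverOk 256 264448 = true := by decide +kernel

theorem cover25_34 : allFrom coverOk 256 264704 = true := by decide +kernel

theorem cover25_35 : allFrom coverOk 256 264960 = true := by decide +kernel

theorem cover25_36 : allFrom coverOk 256 265216 = true := by decide +kernel

theorem cover25_37 : allFrom coverOk 256 265472 = true := by decide +kernel

theorem cover25_38 : allFrom coverOk 256 265728 = true := by decide +kernel

theorem cover25_39 : allFrom coverOk 256 265984 = true := by decide +kernel

attribute [local irreducible] coverOk

/-- The tests pass below 266240 if they pass below 256000. -/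
theorem cover25 (h : AllBelow coverOk 256000) : AllBelow coverOk 266240 := by
  have h : AllBelow coverOk 256256 := h.step 256 cover25_0
  have h : AllBelow coverOk 256512 := h.step 256 cover25_1
  have h : AllBelow coverOk 256768 := h.step 256 cover25_2
  have h : AllBelow coverOk 257024 := h.step 256 cover25_3
  have h : AllBelow coverOk 257280 := h.step 256 cover25_4
  have h : AllBelow coverOk 257536 := h.step 256 cover25_5
  have h : AllBelow coverOk 257792 := h.step 256 cover25_6
  have h : AllBelow coverOk 258048 := h.step 256 cover25_7
  have h : AllBelow coverOk 258304 := h.step 256 cover25_8
  have h : AllBelow coverOk 258560 := h.step 256 cover25_9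
  have h : AllBelow coverOk 258816 := h.step 256 cover25_10
  have h : AllBelow coverOk 259072 := h.step 256 cover25_11
  have h : AllBelow coverOk 259328 := h.step 256 cover25_12
  have h : AllBelow coverOk 259584 := h.step 256 cover25_13
  have h : AllBelow coverOk 259840 := h.step 256 cover25_14
  have h : AllBelow coverOk 260096 := h.step 256 cover25_15
  have h : AllBelow coverOk 260352 := h.step 256 cover25_16
  have h : AllBelow coverOk 260608 := h.step 256 cover25_17
  have h : AllBelow coverOk 260864 := h.step 256 cover25_18
  have h : AllBelow coverOk 261120 := h.step 256 cover25_19
  have h : AllBelow coverOk 261376 := h.step 256 cover25_20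
  have h : AllBelow coverOk 261632 := h.step 256 cover25_21
  have h : AllBelow coverOk 261888 := h.step 256 cover25_22
  have h : AllBelow coverOk 262144 := h.step 256 cover25_23
  have h : AllBelow coverOk 262400 := h.step 256 cover25_24
  have h : AllBelow coverOk 262656 := h.step 256 cover25_25
  have h : AllBelow coverOk 262912 := h.step 256 cover25_26
  have h : AllBelow coverOk 263168 := h.step 256 cover25_27
  have h : AllBelow coverOk 263424 := h.step 256 cover25_28
  have h : AllBelow coverOk 263680 := h.step 256 cover25_29
  have h : AllBelow coverOk 263936 := h.step 256 cover25_30
  have h : AllBelow coverOk 264192 := h.step 256 cover25_31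
  have h : AllBelow coverOk 264448 := h.step 256 cover25_32
  have h : AllBelow coverOk 264704 := h.step 256 cover25_33
  have h : AllBelow coverOk 264960 := h.step 256 cover25_34
  have h : AllBelow coverOk 265216 := h.step 256 cover25_35
  have h : AllBelow coverOk 265472 := h.step 256 cover25_36
  have h : AllBelow coverOk 265728 := h.step 256 cover25_37
  have h : AllBelow coverOk 265984 := h.step 256 cover25_38
  have h : AllBelow coverOk 266240 := h.step 256 cover25_39
  exact h

end Cfsg.Agent.Fi24Cover87
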