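import Cfsg.Agent.Lib.Fi24Cover87Def

/-! Kernel checks of the voltages of the triple cover, part 26. -/

set_option autoImplicit false
set_option Elab.async false

namespace Cfsg.Agent.Fi24Cover87

open Cfsg.Agent.CosetCertTable

theorem cover26_0 : allFrom coverOk 256 266240 = true := by decide +kernel

theorem cover26_1 : allFrom coverOk 256 266496 = true := by decide +kernel

theorem cover26_2 : allFrom coverOk 256 266752 = true := by decide +kernel

theorem cover26_3 : allFrom coverOk 256 267008 = true := by decide +kernel

theorem cover26_4 : allFrom coverOk 256 267264 = true := by decide +kernel

theorem cover26_5 : allFrom coverOk 256 267520 = true := by decide +kernel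

theorem cover26_6 : allFrom coverOk 256 267776 = true := by decide +kernel

theorem cover26_7 : allFrom coverOk 256 268032 = true := by decide +kernel

theorem cover26_8 : allFrom coverOk 256 268288 = true := by decide +kernel

theorem cover26_9 : allFrom coverOk 256 268544 = true := by decide +kernel

theorem cover26_10 : allFrom coverOk 256 268800 = true := by decide +kernel

theorem cover26_11 : allFrom coverOk 256 269056 = true := by decide +kernel

theorem cover26_12 : allFrom coverOk 256 269312 = true := by decide +kernel

theorem cover26_13 : allFrom coverOk 256 269568 = true := by decide +kernel

theorem cover26_14 : allFrom coverOk 256 269824 = true := by decide +kernel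

theorem cover26_15 : allFrom coverOk 256 270080 = true := by decide +kernel

theorem cover26_16 : allFrom coverOk 256 270336 = true := by decide +kernel

theorem cover26_17 : allFrom coverOk 256 270592 = true := by decide +kernel

theorem cover26_18 : allFrom coverOk 256 270848 = true := by decide +kernel

theorem cover26_19 : allFrom coverOk 256 271104 = true := by decide +kernel

theorem cover26_20 : allFrom coverOk 256 271360 = true := by decide +kernel

theorem cover26_21 : allFrom coverOk 256 271616 = true := by decide +kernel

theorem cover26_22 : allFrom coverOk 256 271872 = true := by decide +kernel

theorem cover26_23 : allFrom coverOk 256 272128 = true := by decide +kernel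

theorem cover26_24 : allFrom coverOk 256 272384 = true := by decide +kernel

theorem cover26_25 : allFrom coverOk 256 272640 = true := by decide +kernel

theorem cover26_26 : allFrom coverOk 256 272896 = true := by decide +kernel

theorem cover26_27 : allFrom coverOk 256 273152 = true := by decide +kernel

theorem cover26_28 : allFrom coverOk 256 273408 = true := by decide +kernel

theorem cover26_29 : allFrom coverOk 256 273664 = true := by decide +kernel

theorem cover26_30 : allFrom coverOk 256 273920 = true := by decide +kernel

theorem cover26_31 : allFrom coverOk 256 274176 = true := by decide +kernel

theorem cover26_32 : allFrom coverOk 256 274432 = true := by decide +kernel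

theorem cover26_33 : allFrom coverOk 256 274688 = true := by decide +kernel

theorem cover26_34 : allFrom coverOk 256 274944 = true := by decide +kernel

theorem cover26_35 : allFrom coverOk 256 275200 = true := by decide +kernel

theorem cover26_36 : allFrom coverOk 256 275456 = true := by decide +kernel

theorem cover26_37 : allFrom coverOk 256 275712 = true := by decide +kernel

theorem cover26_38 : allFrom coverOk 256 275968 = true := by decide +kernel

theorem cover26_39 : allFrom coverOk 256 276224 = true := by decide +kernel

attribute [local irreducible] coverOk

/-- The tests pass below 276480 if they pass below 266240. -/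
theorem cover26 (h : AllBelow coverOk 266240) : AllBelow coverOk 276480 := by
  have h : AllBelow coverOk 266496 := h.step 256 cover26_0
  have h : AllBelow coverOk 266752 := h.step 256 cover26_1
  have h : AllBelow coverOk 267008 := h.step 256 cover26_2
  have h : AllBelow coverOk 267264 := h.step 256 cover26_3
  have h : AllBelow coverOk 267520 := h.step 256 cover26_4
  have h : AllBelow coverOk 267776 := h.step 256 cover26_5
  have h : AllBelow coverOk 268032 := h.step 256 cover26_6
  have h : AllBelow coverOk 268288 := h.step 256 cover26_7
  have h : AllBelow coverOk 268544 := h.step 256 cover26_8
  have h : AllBelow coverOk 268800 := h.step 256 cover26_9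
  have h : AllBelow coverOk 269056 := h.step 256 cover26_10
  have h : AllBelow coverOk 269312 := h.step 256 cover26_11
  have h : AllBelow coverOk 269568 := h.step 256 cover26_12
  have h : AllBelow coverOk 269824 := h.step 256 cover26_13
  have h : AllBelow coverOk 270080 := h.step 256 cover26_14
  have h : AllBelow coverOk 270336 := h.step 256 cover26_15
  have h : AllBelow coverOk 270592 := h.step 256 cover26_16
  have h : AllBelow coverOk 270848 := h.step 256 cover26_17
  have h : AllBelow coverOk 271104 := h.step 256 cover26_18
  have h : AllBelow coverOk 271360 := h.step 256 cover26_19
  have h : AllBelow coverOk 271616 := h.step 256 cover26_20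
  have h : AllBelow coverOk 271872 := h.step 256 cover26_21
  have h : AllBelow coverOk 272128 := h.step 256 cover26_22
  have h : AllBelow coverOk 272384 := h.step 256 cover26_23
  have h : AllBelow coverOk 272640 := h.step 256 cover26_24
  have h : AllBelow coverOk 272896 := h.step 256 cover26_25
  have h : AllBelow coverOk 273152 := h.step 256 cover26_26
  have h : AllBelow coverOk 273408 := h.step 256 cover26_27
  have h : AllBelow coverOk 273664 := h.step 256 cover26_28
  have h : AllBelow coverOk 273920 := h.step 256 cover26_29
  have h : AllBelow coverOk 274176 := h.step 256 cover26_30
  have h : AllBelow coverOk 274432 := h.step 256 cover26_31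
  have h : AllBelow coverOk 274688 := h.step 256 cover26_32
  have h : AllBelow coverOk 274944 := h.step 256 cover26_33
  have h : AllBelow coverOk 275200 := h.step 256 cover26_34
  have h : AllBelow coverOk 275456 := h.step 256 cover26_35
  have h : AllBelow coverOk 275712 := h.step 256 cover26_36
  have h : AllBelow coverOk 275968 := h.step 256 cover26_37
  have h : AllBelow coverOk 276224 := h.step 256 cover26_38
  have h : AllBelow coverOk 276480 := h.step 256 cover26_39
  exact h

end Cfsg.Agent.Fi24Cover87
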