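import Cfsg.Agent.Lib.Fi24Cover87Def

/-! Kernel checks of the voltages of the triple cover, part 27. -/

set_option autoImplicit false
set_option Elab.async false

namespace Cfsg.Agent.Fi24Cover87

open Cfsg.Agent.CosetCertTable

theorem cover27_0 : allFrom coverOk 256 276480 = true := by decide +kernel

theorem cover27_1 : allFrom coverOk 256 276736 = true := by decide +kernel

theorem cover27_2 : allFrom coverOk 256 276992 = true := by decide +kernel

theorem cover27_3 : allFrom coverOk 256 277248 = true := by decide +kernel

theorem cover27_4 : allFrom coverOk 256 277504 = true := by decide +kernel

theorem cover27_5 : allFrom coverOk 256 277760 = true := by decide +kernel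

theorem cover27_6 : allFrom coverOk 256 278016 = true := by decide +kernel

theorem cover27_7 : allFrom coverOk 256 278272 = true := by decide +kernel

theorem cover27_8 : allFrom coverOk 256 278528 = true := by decide +kernel

theorem cover27_9 : allFrom coverOk 256 278784 = true := by decide +kernel

theorem cover27_10 : allFrom coverOk 256 279040 = true := by decide +kernel

theorem cover27_11 : allFrom coverOk 256 279296 = true := by decide +kernel

theorem cover27_12 : allFrom coverOk 256 279552 = true := by decide +kernel

theorem cover27_13 : allFrom coverOk 256 279808 = true := by decide +kernel

theorem cover27_14 : allFrom coverOk 256 280064 = true := by decide +kernel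

theorem cover27_15 : allFrom coverOk 256 280320 = true := by decide +kernel

theorem cover27_16 : allFrom coverOk 256 280576 = true := by decide +kernel

theorem cover27_17 : allFrom coverOk 256 280832 = true := by decide +kernel

theorem cover27_18 : allFrom coverOk 256 281088 = true := by decide +kernel

theorem cover27_19 : allFrom coverOk 256 281344 = true := by decide +kernel

theorem cover27_20 : allFrom coverOk 256 281600 = true := by decide +kernel

theorem cover27_21 : allFrom coverOk 256 281856 = true := by decide +kernel

theorem cover27_22 : allFrom coverOk 256 282112 = true := by decide +kernel

theorem cover27_23 : allFrom coverOk 256 282368 = true := by decide +kernel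

theorem cover27_24 : allFrom coverOk 256 282624 = true := by decide +kernel

theorem cover27_25 : allFrom coverOk 256 282880 = true := by decide +kernel

theorem cover27_26 : allFrom coverOk 256 283136 = true := by decide +kernel

theorem cover27_27 : allFrom coverOk 256 283392 = true := by decide +kernel

theorem cover27_28 : allFrom coverOk 256 283648 = true := by decide +kernel

theorem cover27_29 : allFrom coverOk 256 283904 = true := by decide +kernel

theorem cover27_30 : allFrom coverOk 256 284160 = true := by decide +kernel

theorem cover27_31 : allFrom coverOk 256 284416 = true := by decide +kernel

theorem cover27_32 : allFrom coverOk 256 284672 = true := by decide +kernel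

theorem cover27_33 : allFrom coverOk 256 284928 = true := by decide +kernel

theorem cover27_34 : allFrom coverOk 256 285184 = true := by decide +kernel

theorem cover27_35 : allFrom coverOk 256 285440 = true := by decide +kernel

theorem cover27_36 : allFrom coverOk 256 285696 = true := by decide +kernel

theorem cover27_37 : allFrom coverOk 256 285952 = true := by decide +kernel

theorem cover27_38 : allFrom coverOk 256 286208 = true := by decide +kernel

theorem cover27_39 : allFrom coverOk 256 286464 = true := by decide +kernel

attribute [local irreducible] coverOk

/-- The tests pass below 286720 if they pass below 276480. -/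
theorem cover27 (h : AllBelow coverOk 276480) : AllBelow coverOk 286720 := by
  have h : AllBelow coverOk 276736 := h.step 256 cover27_0
  have h : AllBelow coverOk 276992 := h.step 256 cover27_1
  have h : AllBelow coverOk 277248 := h.step 256 cover27_2
  have h : AllBelow coverOk 277504 := h.step 256 cover27_3
  have h : AllBelow coverOk 277760 := h.step 256 cover27_4
  have h : AllBelow coverOk 278016 := h.step 256 cover27_5
  have h : AllBelow coverOk 278272 := h.step 256 cover27_6
  have h : AllBelow coverOk 278528 := h.step 256 cover27_7
  have h : AllBelow coverOk 278784 := h.step 256 cover27_8
  have h : AllBelow coverOk 279040 := h.step 256 cover27_9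
  have h : AllBelow coverOk 279296 := h.step 256 cover27_10
  have h : AllBelow coverOk 279552 := h.step 256 cover27_11
  have h : AllBelow coverOk 279808 := h.step 256 cover27_12
  have h : AllBelow coverOk 280064 := h.step 256 cover27_13
  have h : AllBelow coverOk 280320 := h.step 256 cover27_14
  have h : AllBelow coverOk 280576 := h.step 256 cover27_15
  have h : AllBelow coverOk 280832 := h.step 256 cover27_16
  have h : AllBelow coverOk 281088 := h.step 256 cover27_17
  have h : AllBelow coverOk 281344 := h.step 256 cover27_18
  have h : AllBelow coverOk 281600 := h.step 256 cover27_19
  have h : AllBelow coverOk 281856 := h.step 256 cover27_20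
  have h : AllBelow coverOk 282112 := h.step 256 cover27_21
  have h : AllBelow coverOk 282368 := h.step 256 cover27_22
  have h : AllBelow coverOk 282624 := h.step 256 cover27_23
  have h : AllBelow coverOk 282880 := h.step 256 cover27_24
  have h : AllBelow coverOk 283136 := h.step 256 cover27_25
  have h : AllBelow coverOk 283392 := h.step 256 cover27_26
  have h : AllBelow coverOk 283648 := h.step 256 cover27_27
  have h : AllBelow coverOk 283904 := h.step 256 cover27_28
  have h : AllBelow coverOk 284160 := h.step 256 cover27_29
  have h : AllBelow coverOk 284416 := h.step 256 cover27_30
  have h : AllBelow coverOk 284672 := h.step 256 cover27_31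
  have h : AllBelow coverOk 284928 := h.step 256 cover27_32
  have h : AllBelow coverOk 285184 := h.step 256 cover27_33
  have h : AllBelow coverOk 285440 := h.step 256 cover27_34
  have h : AllBelow coverOk 285696 := h.step 256 cover27_35
  have h : AllBelow coverOk 285952 := h.step 256 cover27_36
  have h : AllBelow coverOk 286208 := h.step 256 cover27_37
  have h : AllBelow coverOk 286464 := h.step 256 cover27_38
  have h : AllBelow coverOk 286720 := h.step 256 cover27_39
  exact h

end Cfsg.Agent.Fi24Cover87
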