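import Cfsg.Agent.Lib.Fi24Cover87Def

/-! Kernel checks of the voltages of the triple cover, part 28. -/

set_option autoImplicit false
set_option Elab.async false

namespace Cfsg.Agent.Fi24Cover87

open Cfsg.Agent.CosetCertTable

theorem cover28_0 : allFrom coverOk 256 286720 = true := by decide +kernel

theorem cover28_1 : allFrom coverOk 256 286976 = true := by decide +kernel

theorem cover28_2 : allFrom coverOk 256 287232 = true := by decide +kernel

theorem cover28_3 : allFrom coverOk 256 287488 = true := by decide +kernel

theorem cover28_4 : allFrom coverOk 256 287744 = true := by decide +kernel

theorem cover28_5 : allFrom coverOk 256 288000 = true := by decide +kernel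

theorem cover28_6 : allFrom coverOk 256 288256 = true := by decide +kernel

theorem cover28_7 : allFrom coverOk 256 288512 = true := by decide +kernel

theorem cover28_8 : allFrom coverOk 256 288768 = true := by decide +kernel

theorem cover28_9 : allFrom coverOk 256 289024 = true := by decide +kernel

theorem cover28_10 : allFrom coverOk 256 289280 = true := by decide +kernel

theorem cover28_11 : allFrom coverOk 256 289536 = true := by decide +kernel

theorem cover28_12 : allFrom coverOk 256 289792 = true := by decide +kernel

theorem cover28_13 : allFrom coverOk 256 290048 = true := by decide +kernel

theorem cover28_14 : allFrom coverOk 256 290304 = true := by decide +kernel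

theorem cover28_15 : allFrom coverOk 256 290560 = true := by decide +kernel

theorem cover28_16 : allFrom coverOk 256 290816 = true := by decide +kernel

theorem cover28_17 : allFrom coverOk 256 291072 = true := by decide +kernel

theorem cover28_18 : allFrom coverOk 256 291328 = true := by decide +kernel

theorem cover28_19 : allFrom coverOk 256 291584 = true := by decide +kernel

theorem cover28_20 : allFrom coverOk 256 291840 = true := by decide +kernel

theorem cover28_21 : allFrom coverOk 256 292096 = true := by decide +kernel

theorem cover28_22 : allFrom coverOk 256 292352 = true := by decide +kernel

theorem cover28_23 : allFrom coverOk 256 292608 = true := by decide +kernel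

theorem cover28_24 : allFrom coverOk 256 292864 = true := by decide +kernel

theorem cover28_25 : allFrom coverOk 256 293120 = true := by decide +kernel

theorem cover28_26 : allFrom coverOk 256 293376 = true := by decide +kernel

theorem cover28_27 : allFrom coverOk 256 293632 = true := by decide +kernel

theorem cover28_28 : allFrom coverOk 256 293888 = true := by decide +kernel

theorem cover28_29 : allFrom coverOk 256 294144 = true := by decide +kernel

theorem cover28_30 : allFrom coverOk 256 294400 = true := by decide +kernel

theorem cover28_31 : allFrom coverOk 256 294656 = true := by decide +kernel

theorem cover28_32 : allFrom coverOk 256 294912 = true := by decide +kernel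

theorem cover28_33 : allFrom coverOk 256 295168 = true := by decide +kernel

theorem cover28_34 : allFrom coverOk 256 295424 = true := by decide +kernel

theorem cover28_35 : allFrom coverOk 256 295680 = true := by decide +kernel

theorem cover28_36 : allFrom coverOk 256 295936 = true := by decide +kernel

theorem cover28_37 : allFrom coverOk 256 296192 = true := by decide +kernel

theorem cover28_38 : allFrom coverOk 256 296448 = true := by decide +kernel

theorem cover28_39 : allFrom coverOk 256 296704 = true := by decide +kernel

attribute [local irreducible] coverOk

/-- The tests pass below 296960 if they pass below 286720. -/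
theorem cover28 (h : AllBelow coverOk 286720) : AllBelow coverOk 296960 := by
  have h : AllBelow coverOk 286976 := h.step 256 cover28_0
  have h : AllBelow coverOk 287232 := h.step 256 cover28_1
  have h : AllBelow coverOk 287488 := h.step 256 cover28_2
  have h : AllBelow coverOk 287744 := h.step 256 cover28_3
  have h : AllBelow coverOk 288000 := h.step 256 cover28_4
  have h : AllBelow coverOk 288256 := h.step 256 cover28_5
  have h : AllBelow coverOk 288512 := h.step 256 cover28_6
  have h : AllBelow coverOk 288768 := h.step 256 cover28_7
  have h : AllBelow coverOk 289024 := h.step 256 cover28_8
  have h : AllBelow coverOk 289280 := h.step 256 cover28_9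
  have h : AllBelow coverOk 289536 := h.step 256 cover28_10
  have h : AllBelow coverOk 289792 := h.step 256 cover28_11
  have h : AllBelow coverOk 290048 := h.step 256 cover28_12
  have h : AllBelow coverOk 290304 := h.step 256 cover28_13
  have h : AllBelow coverOk 290560 := h.step 256 cover28_14
  have h : AllBelow coverOk 290816 := h.step 256 cover28_15
  have h : AllBelow coverOk 291072 := h.step 256 cover28_16
  have h : AllBelow coverOk 291328 := h.step 256 cover28_17
  have h : AllBelow coverOk 291584 := h.step 256 cover28_18
  have h : AllBelow coverOk 291840 := h.step 256 cover28_19
  have h : AllBelow coverOk 292096 := h.step 256 cover28_20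
  have h : AllBelow coverOk 292352 := h.step 256 cover28_21
  have h : AllBelow coverOk 292608 := h.step 256 cover28_22
  have h : AllBelow coverOk 292864 := h.step 256 cover28_23
  have h : AllBelow coverOk 293120 := h.step 256 cover28_24
  have h : AllBelow coverOk 293376 := h.step 256 cover28_25
  have h : AllBelow coverOk 293632 := h.step 256 cover28_26
  have h : AllBelow coverOk 293888 := h.step 256 cover28_27
  have h : AllBelow coverOk 294144 := h.step 256 cover28_28
  have h : AllBelow coverOk 294400 := h.step 256 cover28_29
  have h : AllBelow coverOk 294656 := h.step 256 cover28_30
  have h : AllBelow coverOk 294912 := h.step 256 cover28_31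
  have h : AllBelow coverOk 295168 := h.step 256 cover28_32
  have h : AllBelow coverOk 295424 := h.step 256 cover28_33
  have h : AllBelow coverOk 295680 := h.step 256 cover28_34
  have h : AllBelow coverOk 295936 := h.step 256 cover28_35
  have h : AllBelow coverOk 296192 := h.step 256 cover28_36
  have h : AllBelow coverOk 296448 := h.step 256 cover28_37
  have h : AllBelow coverOk 296704 := h.step 256 cover28_38
  have h : AllBelow coverOk 296960 := h.step 256 cover28_39
  exact h

end Cfsg.Agent.Fi24Cover87
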