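import Cfsg.Agent.Lib.Fi24Cover87Def

/-! Kernel checks of the voltages of the triple cover, part 29. -/

set_option autoImplicit false
set_option Elab.async false

namespace Cfsg.Agent.Fi24Cover87

open Cfsg.Agent.CosetCertTable

theorem cover29_0 : allFrom coverOk 256 296960 = true := by decide +kernel

theorem cover29_1 : allFrom coverOk 256 297216 = true := by decide +kernel

theorem cover29_2 : allFrom coverOk 256 297472 = true := by decide +kernel

theorem cover29_3 : allFrom coverOk 256 297728 = true := by decide +kernel

theorem cover29_4 : allFrom coverOk 256 297984 = true := by decide +kernel

theorem cover29_5 : allFrom coverOk 256 298240 = true := by decide +kernel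

theorem cover29_6 : allFrom coverOk 256 298496 = true := by decide +kernel

theorem cover29_7 : allFrom coverOk 256 298752 = true := by decide +kernel

theorem cover29_8 : allFrom coverOk 256 299008 = true := by decide +kernel

theorem cover29_9 : allFrom coverOk 256 299264 = true := by decide +kernel

theorem cover29_10 : allFrom coverOk 256 299520 = true := by decide +kernel

theorem cover29_11 : allFrom coverOk 256 299776 = true := by decide +kernel

theorem cover29_12 : allFrom coverOk 256 300032 = true := by decide +kernel

theorem cover29_13 : allFrom coverOk 256 300288 = true := by decide +kernel

theorem cover29_14 : allFrom coverOk 256 300544 = true := by decide +kernel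

theorem cover29_15 : allFrom coverOk 256 300800 = true := by decide +kernel

theorem cover29_16 : allFrom coverOk 256 301056 = true := by decide +kernel

theorem cover29_17 : allFrom coverOk 256 301312 = true := by decide +kernel

theorem cover29_18 : allFrom coverOk 256 301568 = true := by decide +kernel

theorem cover29_19 : allFrom coverOk 256 301824 = true := by decide +kernel

theorem cover29_20 : allFrom coverOk 256 302080 = true := by decide +kernel

theorem cover29_21 : allFrom coverOk 256 302336 = true := by decide +kernel

theorem cover29_22 : allFrom coverOk 256 302592 = true := by decide +kernel

theorem cover29_23 : allFrom coverOk 256 302848 = true := by decide +kernel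

theorem cover29_24 : allFrom coverOk 256 303104 = true := by decide +kernel

theorem cover29_25 : allFrom coverOk 256 303360 = true := by decide +kernel

theorem cover29_26 : allFrom coverOk 256 303616 = true := by decide +kernel

theorem cover29_27 : allFrom coverOk 256 303872 = true := by decide +kernel

theorem cover29_28 : allFrom coverOk 256 304128 = true := by decide +kernel

theorem cover29_29 : allFrom coverOk 256 304384 = true := by decide +kernel

theorem cover29_30 : allFrom coverOk 256 304640 = true := by decide +kernel

theorem cover29_31 : allFrom coverOk 256 304896 = true := by decide +kernel

theorem cover29_32 : allFrom coverOk 256 305152 = true := by decide +kernel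

theorem cover29_33 : allFrom coverOk 256 305408 = true := by decide +kernel

theorem cover29_34 : allFrom coverOk 256 305664 = true := by decide +kernel

theorem cover29_35 : allFrom coverOk 256 305920 = true := by decide +kernel

theorem cover29_36 : allFrom coverOk 256 306176 = true := by decide +kernel

theorem cover29_37 : allFrom coverOk 256 306432 = true := by decide +kernel

theorem cover29_38 : allFrom coverOk 248 306688 = true := by decide +kernel

attribute [local irreducible] coverOk

/-- The tests pass below 306936 if they pass below 296960. -/
theorem cover29 (h : AllBelow coverOk 296960) : AllBelow coverOk 306936 := by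
  have h : AllBelow coverOk 297216 := h.step 256 cover29_0
  have h : AllBelow coverOk 297472 := h.step 256 cover29_1
  have h : AllBelow coverOk 297728 := h.step 256 cover29_2
  have h : AllBelow coverOk 297984 := h.step 256 cover29_3
  have h : AllBelow coverOk 298240 := h.step 256 cover29_4
  have h : AllBelow coverOk 298496 := h.step 256 cover29_5
  have h : AllBelow coverOk 298752 := h.step 256 cover29_6
  have h : AllBelow coverOk 299008 := h.step 256 cover29_7
  have h : AllBelow coverOk 299264 := h.step 256 cover29_8
  have h : AllBelow coverOk 299520 := h.step 256 cover29_9
  have h : AllBelow coverOk 299776 := h.step 256 cover29_10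
  have h : AllBelow coverOk 300032 := h.step 256 cover29_11
  have h : AllBelow coverOk 300288 := h.step 256 cover29_12
  have h : AllBelow coverOk 300544 := h.step 256 cover29_13
  have h : AllBelow coverOk 300800 := h.step 256 cover29_14
  have h : AllBelow coverOk 301056 := h.step 256 cover29_15
  have h : AllBelow coverOk 301312 := h.step 256 cover29_16
  have h : AllBelow coverOk 301568 := h.step 256 cover29_17
  have h : AllBelow coverOk 301824 := h.step 256 cover29_18
  have h : AllBelow coverOk 302080 := h.step 256 cover29_19
  have h : AllBelow coverOk 302336 := h.step 256 cover29_20
  have h : AllBelow coverOk 302592 := h.step 256 cover29_21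
  have h : AllBelow coverOk 302848 := h.step 256 cover29_22
  have h : AllBelow coverOk 303104 := h.step 256 cover29_23
  have h : AllBelow coverOk 303360 := h.step 256 cover29_24
  have h : AllBelow coverOk 303616 := h.step 256 cover29_25
  have h : AllBelow coverOk 303872 := h.step 256 cover29_26
  have h : AllBelow coverOk 304128 := h.step 256 cover29_27
  have h : AllBelow coverOk 304384 := h.step 256 cover29_28
  have h : AllBelow coverOk 304640 := h.step 256 cover29_29
  have h : AllBelow coverOk 304896 := h.step 256 cover29_30
  have h : AllBelow coverOk 305152 := h.step 256 cover29_31
  have h : AllBelow coverOk 305408 := h.step 256 cover29_32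
  have h : AllBelow coverOk 305664 := h.step 256 cover29_33
  have h : AllBelow coverOk 305920 := h.step 256 cover29_34
  have h : AllBelow coverOk 306176 := h.step 256 cover29_35
  have h : AllBelow coverOk 306432 := h.step 256 cover29_36
  have h : AllBelow coverOk 306688 := h.step 256 cover29_37
  have h : AllBelow coverOk 306936 := h.step 248 cover29_38
  exact h

end Cfsg.Agent.Fi24Cover87
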