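import Cfsg.Agent.Lib.Fi24Cover87Def

/-! Kernel checks of the voltages of the triple cover, part 3. -/

set_option autoImplicit false
set_option Elab.async false

namespace Cfsg.Agent.Fi24Cover87

open Cfsg.Agent.CosetCertTable

theorem cover3_0 : allFrom coverOk 256 30720 = true := by decide +kernel

theorem cover3_1 : allFrom coverOk 256 30976 = true := by decide +kernel

theorem cover3_2 : allFrom coverOk 256 31232 = true := by decide +kernel

theorem cover3_3 : allFrom coverOk 256 31488 = true := by decide +kernel

theorem cover3_4 : allFrom coverOk 256 31744 = true := by decide +kernel

theorem cover3_5 : allFrom coverOk 256 32000 = true := by decide +kernel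

theorem cover3_6 : allFrom coverOk 256 32256 = true := by decide +kernel

theorem cover3_7 : allFrom coverOk 256 32512 = true := by decide +kernel

theorem cover3_8 : allFrom coverOk 256 32768 = true := by decide +kernel

theorem cover3_9 : allFrom coverOk 256 33024 = true := by decide +kernel

theorem cover3_10 : allFrom coverOk 256 33280 = true := by decide +kernel

theorem cover3_11 : allFrom coverOk 256 33536 = true := by decide +kernel

theorem cover3_12 : allFrom coverOk 256 33792 = true := by decide +kernel

theorem cover3_13 : allFrom coverOk 256 34048 = true := by decide +kernel

theorem cover3_14 : allFrom coverOk 256 34304 = true := by decide +kernel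

theorem cover3_15 : allFrom coverOk 256 34560 = true := by decide +kernel

theorem cover3_16 : allFrom coverOk 256 34816 = true := by decide +kernel

theorem cover3_17 : allFrom coverOk 256 35072 = true := by decide +kernel

theorem cover3_18 : allFrom coverOk 256 35328 = true := by decide +kernel

theorem cover3_19 : allFrom coverOk 256 35584 = true := by decide +kernel

theorem cover3_20 : allFrom coverOk 256 35840 = true := by decide +kernel

theorem cover3_21 : allFrom coverOk 256 36096 = true := by decide +kernel

theorem cover3_22 : allFrom coverOk 256 36352 = true := by decide +kernel

theorem cover3_23 : allFrom coverOk 256 36608 = true := by decide +kernel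

theorem cover3_24 : allFrom coverOk 256 36864 = true := by decide +kernel

theorem cover3_25 : allFrom coverOk 256 37120 = true := by decide +kernel

theorem cover3_26 : allFrom coverOk 256 37376 = true := by decide +kernel

theorem cover3_27 : allFrom coverOk 256 37632 = true := by decide +kernel

theorem cover3_28 : allFrom coverOk 256 37888 = true := by decide +kernel

theorem cover3_29 : allFrom coverOk 256 38144 = true := by decide +kernel

theorem cover3_30 : allFrom coverOk 256 38400 = true := by decide +kernel

theorem cover3_31 : allFrom coverOk 256 38656 = true := by decide +kernel

theorem cover3_32 : allFrom coverOk 256 38912 = true := by decide +kernel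

theorem cover3_33 : allFrom coverOk 256 39168 = true := by decide +kernel

theorem cover3_34 : allFrom coverOk 256 39424 = true := by decide +kernel

theorem cover3_35 : allFrom coverOk 256 39680 = true := by decide +kernel

theorem cover3_36 : allFrom coverOk 256 39936 = true := by decide +kernel

theorem cover3_37 : allFrom coverOk 256 40192 = true := by decide +kernel

theorem cover3_38 : allFrom coverOk 256 40448 = true := by decide +kernel

theorem cover3_39 : allFrom coverOk 256 40704 = true := by decide +kernel

attribute [local irreducible] coverOk

/-- The tests pass below 40960 if they pass below 30720. -/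
theorem cover3 (h : AllBelow coverOk 30720) : AllBelow coverOk 40960 := by
  have h : AllBelow coverOk 30976 := h.step 256 cover3_0
  have h : AllBelow coverOk 31232 := h.step 256 cover3_1
  have h : AllBelow coverOk 31488 := h.step 256 cover3_2
  have h : AllBelow coverOk 31744 := h.step 256 cover3_3
  have h : AllBelow coverOk 32000 := h.step 256 cover3_4
  have h : AllBelow coverOk 32256 := h.step 256 cover3_5
  have h : AllBelow coverOk 32512 := h.step 256 cover3_6
  have h : AllBelow coverOk 32768 := h.step 256 cover3_7
  have h : AllBelow coverOk 33024 := h.step 256 cover3_8
  have h : AllBelow coverOk 33280 := h.step 256 cover3_9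
  have h : AllBelow coverOk 33536 := h.step 256 cover3_10
  have h : AllBelow coverOk 33792 := h.step 256 cover3_11
  have h : AllBelow coverOk 34048 := h.step 256 cover3_12
  have h : AllBelow coverOk 34304 := h.step 256 cover3_13
  have h : AllBelow coverOk 34560 := h.step 256 cover3_14
  have h : AllBelow coverOk 34816 := h.step 256 cover3_15
  have h : AllBelow coverOk 35072 := h.step 256 cover3_16
  have h : AllBelow coverOk 35328 := h.step 256 cover3_17
  have h : AllBelow coverOk 35584 := h.step 256 cover3_18
  have h : AllBelow coverOk 35840 := h.step 256 cover3_19
  have h : AllBelow coverOk 36096 := h.step 256 cover3_20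
  have h : AllBelow coverOk 36352 := h.step 256 cover3_21
  have h : AllBelow coverOk 36608 := h.step 256 cover3_22
  have h : AllBelow coverOk 36864 := h.step 256 cover3_23
  have h : AllBelow coverOk 37120 := h.step 256 cover3_24
  have h : AllBelow coverOk 37376 := h.step 256 cover3_25
  have h : AllBelow coverOk 37632 := h.step 256 cover3_26
  have h : AllBelow coverOk 37888 := h.step 256 cover3_27
  have h : AllBelow coverOk 38144 := h.step 256 cover3_28
  have h : AllBelow coverOk 38400 := h.step 256 cover3_29
  have h : AllBelow coverOk 38656 := h.step 256 cover3_30
  have h : AllBelow coverOk 38912 := h.step 256 cover3_31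
  have h : AllBelow coverOk 39168 := h.step 256 cover3_32
  have h : AllBelow coverOk 39424 := h.step 256 cover3_33
  have h : AllBelow coverOk 39680 := h.step 256 cover3_34
  have h : AllBelow coverOk 39936 := h.step 256 cover3_35
  have h : AllBelow coverOk 40192 := h.step 256 cover3_36
  have h : AllBelow coverOk 40448 := h.step 256 cover3_37
  have h : AllBelow coverOk 40704 := h.step 256 cover3_38
  have h : AllBelow coverOk 40960 := h.step 256 cover3_39
  exact h

end Cfsg.Agent.Fi24Cover87
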