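import Cfsg.Agent.Lib.Fi24Cover87Def

/-! Kernel checks of the voltages of the triple cover, part 4. -/

set_option autoImplicit false
set_option Elab.async false

namespace Cfsg.Agent.Fi24Cover87

open Cfsg.Agent.CosetCertTable

theorem cover4_0 : allFrom coverOk 256 40960 = true := by decide +kernel

theorem cover4_1 : allFrom coverOk 256 41216 = true := by decide +kernel

theorem cover4_2 : allFrom coverOk 256 41472 = true := by decide +kernel

theorem cover4_3 : allFrom coverOk 256 41728 = true := by decide +kernel

theorem cover4_4 : allFrom coverOk 256 41984 = true := by decide +kernel

theorem cover4_5 : allFrom coverOk 256 42240 = true := by decide +kernel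

theorem cover4_6 : allFrom coverOk 256 42496 = true := by decide +kernel

theorem cover4_7 : allFrom coverOk 256 42752 = true := by decide +kernel

theorem cover4_8 : allFrom coverOk 256 43008 = true := by decide +kernel

theorem cover4_9 : allFrom coverOk 256 43264 = true := by decide +kernel

theorem cover4_10 : allFrom coverOk 256 43520 = true := by decide +kernel

theorem cover4_11 : allFrom coverOk 256 43776 = true := by decide +kernel

theorem cover4_12 : allFrom coverOk 256 44032 = true := by decide +kernel

theorem cover4_13 : allFrom coverOk 256 44288 = true := by decide +kernel

theorem cover4_14 : allFrom coverOk 256 44544 = true := by decide +kernel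

theorem cover4_15 : allFrom coverOk 256 44800 = true := by decide +kernel

theorem cover4_16 : allFrom coverOk 256 45056 = true := by decide +kernel

theorem cover4_17 : allFrom coverOk 256 45312 = true := by decide +kernel

theorem cover4_18 : allFrom coverOk 256 45568 = true := by decide +kernel

theorem cover4_19 : allFrom coverOk 256 45824 = true := by decide +kernel

theorem cover4_20 : allFrom coverOk 256 46080 = true := by decide +kernel

theorem cover4_21 : allFrom coverOk 256 46336 = true := by decide +kernel

theorem cover4_22 : allFrom coverOk 256 46592 = true := by decide +kernel

theorem cover4_23 : allFrom coverOk 256 46848 = true := by decide +kernel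

theorem cover4_24 : allFrom coverOk 256 47104 = true := by decide +kernel

theorem cover4_25 : allFrom coverOk 256 47360 = true := by decide +kernel

theorem cover4_26 : allFrom coverOk 256 47616 = true := by decide +kernel

theorem cover4_27 : allFrom coverOk 256 47872 = true := by decide +kernel

theorem cover4_28 : allFrom coverOk 256 48128 = true := by decide +kernel

theorem cover4_29 : allFrom coverOk 256 48384 = true := by decide +kernel

theorem cover4_30 : allFrom coverOk 256 48640 = true := by decide +kernel

theorem cover4_31 : allFrom coverOk 256 48896 = true := by decide +kernel

theorem cover4_32 : allFrom coverOk 256 49152 = true := by decide +kernel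

theorem cover4_33 : allFrom coverOk 256 49408 = true := by decide +kernel

theorem cover4_34 : allFrom coverOk 256 49664 = true := by decide +kernel

theorem cover4_35 : allFrom coverOk 256 49920 = true := by decide +kernel

theorem cover4_36 : allFrom coverOk 256 50176 = true := by decide +kernel

theorem cover4_37 : allFrom coverOk 256 50432 = true := by decide +kernel

theorem cover4_38 : allFrom coverOk 256 50688 = true := by decide +kernel

theorem cover4_39 : allFrom coverOk 256 50944 = true := by decide +kernel

attribute [local irreducible] coverOk

/-- The tests pass below 51200 if they pass below 40960. -/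
theorem cover4 (h : AllBelow coverOk 40960) : AllBelow coverOk 51200 := by
  have h : AllBelow coverOk 41216 := h.step 256 cover4_0
  have h : AllBelow coverOk 41472 := h.step 256 cover4_1
  have h : AllBelow coverOk 41728 := h.step 256 cover4_2
  have h : AllBelow coverOk 41984 := h.step 256 cover4_3
  have h : AllBelow coverOk 42240 := h.step 256 cover4_4
  have h : AllBelow coverOk 42496 := h.step 256 cover4_5
  have h : AllBelow coverOk 42752 := h.step 256 cover4_6
  have h : AllBelow coverOk 43008 := h.step 256 cover4_7
  have h : AllBelow coverOk 43264 := h.step 256 cover4_8
  have h : AllBelow coverOk 43520 := h.step 256 cover4_9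
  have h : AllBelow coverOk 43776 := h.step 256 cover4_10
  have h : AllBelow coverOk 44032 := h.step 256 cover4_11
  have h : AllBelow coverOk 44288 := h.step 256 cover4_12
  have h : AllBelow coverOk 44544 := h.step 256 cover4_13
  have h : AllBelow coverOk 44800 := h.step 256 cover4_14
  have h : AllBelow coverOk 45056 := h.step 256 cover4_15
  have h : AllBelow coverOk 45312 := h.step 256 cover4_16
  have h : AllBelow coverOk 45568 := h.step 256 cover4_17
  have h : AllBelow coverOk 45824 := h.step 256 cover4_18
  have h : AllBelow coverOk 46080 := h.step 256 cover4_19
  have h : AllBelow coverOk 46336 := h.step 256 cover4_20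
  have h : AllBelow coverOk 46592 := h.step 256 cover4_21
  have h : AllBelow coverOk 46848 := h.step 256 cover4_22
  have h : AllBelow coverOk 47104 := h.step 256 cover4_23
  have h : AllBelow coverOk 47360 := h.step 256 cover4_24
  have h : AllBelow coverOk 47616 := h.step 256 cover4_25
  have h : AllBelow coverOk 47872 := h.step 256 cover4_26
  have h : AllBelow coverOk 48128 := h.step 256 cover4_27
  have h : AllBelow coverOk 48384 := h.step 256 cover4_28
  have h : AllBelow coverOk 48640 := h.step 256 cover4_29
  have h : AllBelow coverOk 48896 := h.step 256 cover4_30
  have h : AllBelow coverOk 49152 := h.step 256 cover4_31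
  have h : AllBelow coverOk 49408 := h.step 256 cover4_32
  have h : AllBelow coverOk 49664 := h.step 256 cover4_33
  have h : AllBelow coverOk 49920 := h.step 256 cover4_34
  have h : AllBelow coverOk 50176 := h.step 256 cover4_35
  have h : AllBelow coverOk 50432 := h.step 256 cover4_36
  have h : AllBelow coverOk 50688 := h.step 256 cover4_37
  have h : AllBelow coverOk 50944 := h.step 256 cover4_38
  have h : AllBelow coverOk 51200 := h.step 256 cover4_39
  exact h

end Cfsg.Agent.Fi24Cover87
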