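import Cfsg.Agent.Lib.Fi24Cover87Def

/-! Kernel checks of the voltages of the triple cover, part 5. -/

set_option autoImplicit false
set_option Elab.async false

namespace Cfsg.Agent.Fi24Cover87

open Cfsg.Agent.CosetCertTable

theorem cover5_0 : allFrom coverOk 256 51200 = true := by decide +kernel

theorem cover5_1 : allFrom coverOk 256 51456 = true := by decide +kernel

theorem cover5_2 : allFrom coverOk 256 51712 = true := by decide +kernel

theorem cover5_3 : allFrom coverOk 256 51968 = true := by decide +kernel

theorem cover5_4 : allFrom coverOk 256 52224 = true := by decide +kernel

theorem cover5_5 : allFrom coverOk 256 52480 = true := by decide +kernel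

theorem cover5_6 : allFrom coverOk 256 52736 = true := by decide +kernel

theorem cover5_7 : allFrom coverOk 256 52992 = true := by decide +kernel

theorem cover5_8 : allFrom coverOk 256 53248 = true := by decide +kernel

theorem cover5_9 : allFrom coverOk 256 53504 = true := by decide +kernel

theorem cover5_10 : allFrom coverOk 256 53760 = true := by decide +kernel

theorem cover5_11 : allFrom coverOk 256 54016 = true := by decide +kernel

theorem cover5_12 : allFrom coverOk 256 54272 = true := by decide +kernel

theorem cover5_13 : allFrom coverOk 256 54528 = true := by decide +kernel

theorem cover5_14 : allFrom coverOk 256 54784 = true := by decide +kernel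

theorem cover5_15 : allFrom coverOk 256 55040 = true := by decide +kernel

theorem cover5_16 : allFrom coverOk 256 55296 = true := by decide +kernel

theorem cover5_17 : allFrom coverOk 256 55552 = true := by decide +kernel

theorem cover5_18 : allFrom coverOk 256 55808 = true := by decide +kernel

theorem cover5_19 : allFrom coverOk 256 56064 = true := by decide +kernel

theorem cover5_20 : allFrom coverOk 256 56320 = true := by decide +kernel

theorem cover5_21 : allFrom coverOk 256 56576 = true := by decide +kernel

theorem cover5_22 : allFrom coverOk 256 56832 = true := by decide +kernel

theorem cover5_23 : allFrom coverOk 256 57088 = true := by decide +kernel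

theorem cover5_24 : allFrom coverOk 256 57344 = true := by decide +kernel

theorem cover5_25 : allFrom coverOk 256 57600 = true := by decide +kernel

theorem cover5_26 : allFrom coverOk 256 57856 = true := by decide +kernel

theorem cover5_27 : allFrom coverOk 256 58112 = true := by decide +kernel

theorem cover5_28 : allFrom coverOk 256 58368 = true := by decide +kernel

theorem cover5_29 : allFrom coverOk 256 58624 = true := by decide +kernel

theorem cover5_30 : allFrom coverOk 256 58880 = true := by decide +kernel

theorem cover5_31 : allFrom coverOk 256 59136 = true := by decide +kernel

theorem cover5_32 : allFrom coverOk 256 59392 = true := by decide +kernel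

theorem cover5_33 : allFrom coverOk 256 59648 = true := by decide +kernel

theorem cover5_34 : allFrom coverOk 256 59904 = true := by decide +kernel

theorem cover5_35 : allFrom coverOk 256 60160 = true := by decide +kernel

theorem cover5_36 : allFrom coverOk 256 60416 = true := by decide +kernel

theorem cover5_37 : allFrom coverOk 256 60672 = true := by decide +kernel

theorem cover5_38 : allFrom coverOk 256 60928 = true := by decide +kernel

theorem cover5_39 : allFrom coverOk 256 61184 = true := by decide +kernel

attribute [local irreducible] coverOk

/-- The tests pass below 61440 if they pass below 51200. -/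
theorem cover5 (h : AllBelow coverOk 51200) : AllBelow coverOk 61440 := by
  have h : AllBelow coverOk 51456 := h.step 256 cover5_0
  have h : AllBelow coverOk 51712 := h.step 256 cover5_1
  have h : AllBelow coverOk 51968 := h.step 256 cover5_2
  have h : AllBelow coverOk 52224 := h.step 256 cover5_3
  have h : AllBelow coverOk 52480 := h.step 256 cover5_4
  have h : AllBelow coverOk 52736 := h.step 256 cover5_5
  have h : AllBelow coverOk 52992 := h.step 256 cover5_6
  have h : AllBelow coverOk 53248 := h.step 256 cover5_7
  have h : AllBelow coverOk 53504 := h.step 256 cover5_8
  have h : AllBelow coverOk 53760 := h.step 256 cover5_9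
  have h : AllBelow coverOk 54016 := h.step 256 cover5_10
  have h : AllBelow coverOk 54272 := h.step 256 cover5_11
  have h : AllBelow coverOk 54528 := h.step 256 cover5_12
  have h : AllBelow coverOk 54784 := h.step 256 cover5_13
  have h : AllBelow coverOk 55040 := h.step 256 cover5_14
  have h : AllBelow coverOk 55296 := h.step 256 cover5_15
  have h : AllBelow coverOk 55552 := h.step 256 cover5_16
  have h : AllBelow coverOk 55808 := h.step 256 cover5_17
  have h : AllBelow coverOk 56064 := h.step 256 cover5_18
  have h : AllBelow coverOk 56320 := h.step 256 cover5_19
  have h : AllBelow coverOk 56576 := h.step 256 cover5_20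
  have h : AllBelow coverOk 56832 := h.step 256 cover5_21
  have h : AllBelow coverOk 57088 := h.step 256 cover5_22
  have h : AllBelow coverOk 57344 := h.step 256 cover5_23
  have h : AllBelow coverOk 57600 := h.step 256 cover5_24
  have h : AllBelow coverOk 57856 := h.step 256 cover5_25
  have h : AllBelow coverOk 58112 := h.step 256 cover5_26
  have h : AllBelow coverOk 58368 := h.step 256 cover5_27
  have h : AllBelow coverOk 58624 := h.step 256 cover5_28
  have h : AllBelow coverOk 58880 := h.step 256 cover5_29
  have h : AllBelow coverOk 59136 := h.step 256 cover5_30
  have h : AllBelow coverOk 59392 := h.step 256 cover5_31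
  have h : AllBelow coverOk 59648 := h.step 256 cover5_32
  have h : AllBelow coverOk 59904 := h.step 256 cover5_33
  have h : AllBelow coverOk 60160 := h.step 256 cover5_34
  have h : AllBelow coverOk 60416 := h.step 256 cover5_35
  have h : AllBelow coverOk 60672 := h.step 256 cover5_36
  have h : AllBelow coverOk 60928 := h.step 256 cover5_37
  have h : AllBelow coverOk 61184 := h.step 256 cover5_38
  have h : AllBelow coverOk 61440 := h.step 256 cover5_39
  exact h

end Cfsg.Agent.Fi24Cover87
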