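import Cfsg.Agent.Lib.Fi24Cover87Def

/-! Kernel checks of the voltages of the triple cover, part 6. -/

set_option autoImplicit false
set_option Elab.async false

namespace Cfsg.Agent.Fi24Cover87

open Cfsg.Agent.CosetCertTable

theorem cover6_0 : allFrom coverOk 256 61440 = true := by decide +kernel

theorem cover6_1 : allFrom coverOk 256 61696 = true := by decide +kernel

theorem cover6_2 : allFrom coverOk 256 61952 = true := by decide +kernel

theorem cover6_3 : allFrom coverOk 256 62208 = true := by decide +kernel

theorem cover6_4 : allFrom coverOk 256 62464 = true := by decide +kernel

theorem cover6_5 : allFrom coverOk 256 62720 = true := by decide +kernel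

theorem cover6_6 : allFrom coverOk 256 62976 = true := by decide +kernel

theorem cover6_7 : allFrom coverOk 256 63232 = true := by decide +kernel

theorem cover6_8 : allFrom coverOk 256 63488 = true := by decide +kernel

theorem cover6_9 : allFrom coverOk 256 63744 = true := by decide +kernel

theorem cover6_10 : allFrom coverOk 256 64000 = true := by decide +kernel

theorem cover6_11 : allFrom coverOk 256 64256 = true := by decide +kernel

theorem cover6_12 : allFrom coverOk 256 64512 = true := by decide +kernel

theorem cover6_13 : allFrom coverOk 256 64768 = true := by decide +kernel

theorem cover6_14 : allFrom coverOk 256 65024 = true := by decide +kernel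

theorem cover6_15 : allFrom coverOk 256 65280 = true := by decide +kernel

theorem cover6_16 : allFrom coverOk 256 65536 = true := by decide +kernel

theorem cover6_17 : allFrom coverOk 256 65792 = true := by decide +kernel

theorem cover6_18 : allFrom coverOk 256 66048 = true := by decide +kernel

theorem cover6_19 : allFrom coverOk 256 66304 = true := by decide +kernel

theorem cover6_20 : allFrom coverOk 256 66560 = true := by decide +kernel

theorem cover6_21 : allFrom coverOk 256 66816 = true := by decide +kernel

theorem cover6_22 : allFrom coverOk 256 67072 = true := by decide +kernel

theorem cover6_23 : allFrom coverOk 256 67328 = true := by decide +kernel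

theorem cover6_24 : allFrom coverOk 256 67584 = true := by decide +kernel

theorem cover6_25 : allFrom coverOk 256 67840 = true := by decide +kernel

theorem cover6_26 : allFrom coverOk 256 68096 = true := by decide +kernel

theorem cover6_27 : allFrom coverOk 256 68352 = true := by decide +kernel

theorem cover6_28 : allFrom coverOk 256 68608 = true := by decide +kernel

theorem cover6_29 : allFrom coverOk 256 68864 = true := by decide +kernel

theorem cover6_30 : allFrom coverOk 256 69120 = true := by decide +kernel

theorem cover6_31 : allFrom coverOk 256 69376 = true := by decide +kernel

theorem cover6_32 : allFrom coverOk 256 69632 = true := by decide +kernel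

theorem cover6_33 : allFrom coverOk 256 69888 = true := by decide +kernel

theorem cover6_34 : allFrom coverOk 256 70144 = true := by decide +kernel

theorem cover6_35 : allFrom coverOk 256 70400 = true := by decide +kernel

theorem cover6_36 : allFrom coverOk 256 70656 = true := by decide +kernel

theorem cover6_37 : allFrom coverOk 256 70912 = true := by decide +kernel

theorem cover6_38 : allFrom coverOk 256 71168 = true := by decide +kernel

theorem cover6_39 : allFrom coverOk 256 71424 = true := by decide +kernel

attribute [local irreducible] coverOk

/-- The tests pass below 71680 if they pass below 61440. -/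
theorem cover6 (h : AllBelow coverOk 61440) : AllBelow coverOk 71680 := by
  have h : AllBelow coverOk 61696 := h.step 256 cover6_0
  have h : AllBelow coverOk 61952 := h.step 256 cover6_1
  have h : AllBelow coverOk 62208 := h.step 256 cover6_2
  have h : AllBelow coverOk 62464 := h.step 256 cover6_3
  have h : AllBelow coverOk 62720 := h.step 256 cover6_4
  have h : AllBelow coverOk 62976 := h.step 256 cover6_5
  have h : AllBelow coverOk 63232 := h.step 256 cover6_6
  have h : AllBelow coverOk 63488 := h.step 256 cover6_7
  have h : AllBelow coverOk 63744 := h.step 256 cover6_8
  have h : AllBelow coverOk 64000 := h.step 256 cover6_9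
  have h : AllBelow coverOk 64256 := h.step 256 cover6_10
  have h : AllBelow coverOk 64512 := h.step 256 cover6_11
  have h : AllBelow coverOk 64768 := h.step 256 cover6_12
  have h : AllBelow coverOk 65024 := h.step 256 cover6_13
  have h : AllBelow coverOk 65280 := h.step 256 cover6_14
  have h : AllBelow coverOk 65536 := h.step 256 cover6_15
  have h : AllBelow coverOk 65792 := h.step 256 cover6_16
  have h : AllBelow coverOk 66048 := h.step 256 cover6_17
  have h : AllBelow coverOk 66304 := h.step 256 cover6_18
  have h : AllBelow coverOk 66560 := h.step 256 cover6_19
  have h : AllBelow coverOk 66816 := h.step 256 cover6_20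
  have h : AllBelow coverOk 67072 := h.step 256 cover6_21
  have h : AllBelow coverOk 67328 := h.step 256 cover6_22
  have h : AllBelow coverOk 67584 := h.step 256 cover6_23
  have h : AllBelow coverOk 67840 := h.step 256 cover6_24
  have h : AllBelow coverOk 68096 := h.step 256 cover6_25
  have h : AllBelow coverOk 68352 := h.step 256 cover6_26
  have h : AllBelow coverOk 68608 := h.step 256 cover6_27
  have h : AllBelow coverOk 68864 := h.step 256 cover6_28
  have h : AllBelow coverOk 69120 := h.step 256 cover6_29
  have h : AllBelow coverOk 69376 := h.step 256 cover6_30
  have h : AllBelow coverOk 69632 := h.step 256 cover6_31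
  have h : AllBelow coverOk 69888 := h.step 256 cover6_32
  have h : AllBelow coverOk 70144 := h.step 256 cover6_33
  have h : AllBelow coverOk 70400 := h.step 256 cover6_34
  have h : AllBelow coverOk 70656 := h.step 256 cover6_35
  have h : AllBelow coverOk 70912 := h.step 256 cover6_36
  have h : AllBelow coverOk 71168 := h.step 256 cover6_37
  have h : AllBelow coverOk 71424 := h.step 256 cover6_38
  have h : AllBelow coverOk 71680 := h.step 256 cover6_39
  exact h

end Cfsg.Agent.Fi24Cover87
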