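import Cfsg.Agent.Lib.Fi24Cover87Def

/-! Kernel checks of the voltages of the triple cover, part 7. -/

set_option autoImplicit false
set_option Elab.async false

namespace Cfsg.Agent.Fi24Cover87

open Cfsg.Agent.CosetCertTable

theorem cover7_0 : allFrom coverOk 256 71680 = true := by decide +kernel

theorem cover7_1 : allFrom coverOk 256 71936 = true := by decide +kernel

theorem cover7_2 : allFrom coverOk 256 72192 = true := by decide +kernel

theorem cover7_3 : allFrom coverOk 256 72448 = true := by decide +kernel

theorem cover7_4 : allFrom coverOk 256 72704 = true := by decide +kernel

theorem cover7_5 : allFrom coverOk 256 72960 = true := by decide +kernel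

theorem cover7_6 : allFrom coverOk 256 73216 = true := by decide +kernel

theorem cover7_7 : allFrom coverOk 256 73472 = true := by decide +kernel

theorem cover7_8 : allFrom coverOk 256 73728 = true := by decide +kernel

theorem cover7_9 : allFrom coverOk 256 73984 = true := by decide +kernel

theorem cover7_10 : allFrom coverOk 256 74240 = true := by decide +kernel

theorem cover7_11 : allFrom coverOk 256 74496 = true := by decide +kernel

theorem cover7_12 : allFrom coverOk 256 74752 = true := by decide +kernel

theorem cover7_13 : allFrom coverOk 256 75008 = true := by decide +kernel

theorem cover7_14 : allFrom coverOk 256 75264 = true := by decide +kernel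

theorem cover7_15 : allFrom coverOk 256 75520 = true := by decide +kernel

theorem cover7_16 : allFrom coverOk 256 75776 = true := by decide +kernel

theorem cover7_17 : allFrom coverOk 256 76032 = true := by decide +kernel

theorem cover7_18 : allFrom coverOk 256 76288 = true := by decide +kernel

theorem cover7_19 : allFrom coverOk 256 76544 = true := by decide +kernel

theorem cover7_20 : allFrom coverOk 256 76800 = true := by decide +kernel

theorem cover7_21 : allFrom coverOk 256 77056 = true := by decide +kernel

theorem cover7_22 : allFrom coverOk 256 77312 = true := by decide +kernel

theorem cover7_23 : allFrom coverOk 256 77568 = true := by decide +kernel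

theorem cover7_24 : allFrom coverOk 256 77824 = true := by decide +kernel

theorem cover7_25 : allFrom coverOk 256 78080 = true := by decide +kernel

theorem cover7_26 : allFrom coverOk 256 78336 = true := by decide +kernel

theorem cover7_27 : allFrom coverOk 256 78592 = true := by decide +kernel

theorem cover7_28 : allFrom coverOk 256 78848 = true := by decide +kernel

theorem cover7_29 : allFrom coverOk 256 79104 = true := by decide +kernel

theorem cover7_30 : allFrom coverOk 256 79360 = true := by decide +kernel

theorem cover7_31 : allFrom coverOk 256 79616 = true := by decide +kernel

theorem cover7_32 : allFrom coverOk 256 79872 = true := by decide +kernel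

theorem cover7_33 : allFrom coverOk 256 80128 = true := by decide +kernel

theorem cover7_34 : allFrom coverOk 256 80384 = true := by decide +kernel

theorem cover7_35 : allFrom coverOk 256 80640 = true := by decide +kernel

theorem cover7_36 : allFrom coverOk 256 80896 = true := by decide +kernel

theorem cover7_37 : allFrom coverOk 256 81152 = true := by decide +kernel

theorem cover7_38 : allFrom coverOk 256 81408 = true := by decide +kernel

theorem cover7_39 : allFrom coverOk 256 81664 = true := by decide +kernel

attribute [local irreducible] coverOk

/-- The tests pass below 81920 if they pass below 71680. -/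
theorem cover7 (h : AllBelow coverOk 71680) : AllBelow coverOk 81920 := by
  have h : AllBelow coverOk 71936 := h.step 256 cover7_0
  have h : AllBelow coverOk 72192 := h.step 256 cover7_1
  have h : AllBelow coverOk 72448 := h.step 256 cover7_2
  have h : AllBelow coverOk 72704 := h.step 256 cover7_3
  have h : AllBelow coverOk 72960 := h.step 256 cover7_4
  have h : AllBelow coverOk 73216 := h.step 256 cover7_5
  have h : AllBelow coverOk 73472 := h.step 256 cover7_6
  have h : AllBelow coverOk 73728 := h.step 256 cover7_7
  have h : AllBelow coverOk 73984 := h.step 256 cover7_8
  have h : AllBelow coverOk 74240 := h.step 256 cover7_9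
  have h : AllBelow coverOk 74496 := h.step 256 cover7_10
  have h : AllBelow coverOk 74752 := h.step 256 cover7_11
  have h : AllBelow coverOk 75008 := h.step 256 cover7_12
  have h : AllBelow coverOk 75264 := h.step 256 cover7_13
  have h : AllBelow coverOk 75520 := h.step 256 cover7_14
  have h : AllBelow coverOk 75776 := h.step 256 cover7_15
  have h : AllBelow coverOk 76032 := h.step 256 cover7_16
  have h : AllBelow coverOk 76288 := h.step 256 cover7_17
  have h : AllBelow coverOk 76544 := h.step 256 cover7_18
  have h : AllBelow coverOk 76800 := h.step 256 cover7_19
  have h : AllBelow coverOk 77056 := h.step 256 cover7_20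
  have h : AllBelow coverOk 77312 := h.step 256 cover7_21
  have h : AllBelow coverOk 77568 := h.step 256 cover7_22
  have h : AllBelow coverOk 77824 := h.step 256 cover7_23
  have h : AllBelow coverOk 78080 := h.step 256 cover7_24
  have h : AllBelow coverOk 78336 := h.step 256 cover7_25
  have h : AllBelow coverOk 78592 := h.step 256 cover7_26
  have h : AllBelow coverOk 78848 := h.step 256 cover7_27
  have h : AllBelow coverOk 79104 := h.step 256 cover7_28
  have h : AllBelow coverOk 79360 := h.step 256 cover7_29
  have h : AllBelow coverOk 79616 := h.step 256 cover7_30
  have h : AllBelow coverOk 79872 := h.step 256 cover7_31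
  have h : AllBelow coverOk 80128 := h.step 256 cover7_32
  have h : AllBelow coverOk 80384 := h.step 256 cover7_33
  have h : AllBelow coverOk 80640 := h.step 256 cover7_34
  have h : AllBelow coverOk 80896 := h.step 256 cover7_35
  have h : AllBelow coverOk 81152 := h.step 256 cover7_36
  have h : AllBelow coverOk 81408 := h.step 256 cover7_37
  have h : AllBelow coverOk 81664 := h.step 256 cover7_38
  have h : AllBelow coverOk 81920 := h.step 256 cover7_39
  exact h

end Cfsg.Agent.Fi24Cover87
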