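import Cfsg.Agent.Lib.Fi24Cover87Def

/-! Kernel checks of the voltages of the triple cover, part 8. -/

set_option autoImplicit false
set_option Elab.async false

namespace Cfsg.Agent.Fi24Cover87

open Cfsg.Agent.CosetCertTable

theorem cover8_0 : allFrom coverOk 256 81920 = true := by decide +kernel

theorem cover8_1 : allFrom coverOk 256 82176 = true := by decide +kernel

theorem cover8_2 : allFrom coverOk 256 82432 = true := by decide +kernel

theorem cover8_3 : allFrom coverOk 256 82688 = true := by decide +kernel

theorem cover8_4 : allFrom coverOk 256 82944 = true := by decide +kernel

theorem cover8_5 : allFrom coverOk 256 83200 = true := by decide +kernel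

theorem cover8_6 : allFrom coverOk 256 83456 = true := by decide +kernel

theorem cover8_7 : allFrom coverOk 256 83712 = true := by decide +kernel

theorem cover8_8 : allFrom coverOk 256 83968 = true := by decide +kernel

theorem cover8_9 : allFrom coverOk 256 84224 = true := by decide +kernel

theorem cover8_10 : allFrom coverOk 256 84480 = true := by decide +kernel

theorem cover8_11 : allFrom coverOk 256 84736 = true := by decide +kernel

theorem cover8_12 : allFrom coverOk 256 84992 = true := by decide +kernel

theorem cover8_13 : allFrom coverOk 256 85248 = true := by decide +kernel

theorem cover8_14 : allFrom coverOk 256 85504 = true := by decide +kernel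

theorem cover8_15 : allFrom coverOk 256 85760 = true := by decide +kernel

theorem cover8_16 : allFrom coverOk 256 86016 = true := by decide +kernel

theorem cover8_17 : allFrom coverOk 256 86272 = true := by decide +kernel

theorem cover8_18 : allFrom coverOk 256 86528 = true := by decide +kernel

theorem cover8_19 : allFrom coverOk 256 86784 = true := by decide +kernel

theorem cover8_20 : allFrom coverOk 256 87040 = true := by decide +kernel

theorem cover8_21 : allFrom coverOk 256 87296 = true := by decide +kernel

theorem cover8_22 : allFrom coverOk 256 87552 = true := by decide +kernel

theorem cover8_23 : allFrom coverOk 256 87808 = true := by decide +kernel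

theorem cover8_24 : allFrom coverOk 256 88064 = true := by decide +kernel

theorem cover8_25 : allFrom coverOk 256 88320 = true := by decide +kernel

theorem cover8_26 : allFrom coverOk 256 88576 = true := by decide +kernel

theorem cover8_27 : allFrom coverOk 256 88832 = true := by decide +kernel

theorem cover8_28 : allFrom coverOk 256 89088 = true := by decide +kernel

theorem cover8_29 : allFrom coverOk 256 89344 = true := by decide +kernel

theorem cover8_30 : allFrom coverOk 256 89600 = true := by decide +kernel

theorem cover8_31 : allFrom coverOk 256 89856 = true := by decide +kernel

theorem cover8_32 : allFrom coverOk 256 90112 = true := by decide +kernel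

theorem cover8_33 : allFrom coverOk 256 90368 = true := by decide +kernel

theorem cover8_34 : allFrom coverOk 256 90624 = true := by decide +kernel

theorem cover8_35 : allFrom coverOk 256 90880 = true := by decide +kernel

theorem cover8_36 : allFrom coverOk 256 91136 = true := by decide +kernel

theorem cover8_37 : allFrom coverOk 256 91392 = true := by decide +kernel

theorem cover8_38 : allFrom coverOk 256 91648 = true := by decide +kernel

theorem cover8_39 : allFrom coverOk 256 91904 = true := by decide +kernel

attribute [local irreducible] coverOk

/-- The tests pass below 92160 if they pass below 81920. -/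
theorem cover8 (h : AllBelow coverOk 81920) : AllBelow coverOk 92160 := by
  have h : AllBelow coverOk 82176 := h.step 256 cover8_0
  have h : AllBelow coverOk 82432 := h.step 256 cover8_1
  have h : AllBelow coverOk 82688 := h.step 256 cover8_2
  have h : AllBelow coverOk 82944 := h.step 256 cover8_3
  have h : AllBelow coverOk 83200 := h.step 256 cover8_4
  have h : AllBelow coverOk 83456 := h.step 256 cover8_5
  have h : AllBelow coverOk 83712 := h.step 256 cover8_6
  have h : AllBelow coverOk 83968 := h.step 256 cover8_7
  have h : AllBelow coverOk 84224 := h.step 256 cover8_8
  have h : AllBelow coverOk 84480 := h.step 256 cover8_9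
  have h : AllBelow coverOk 84736 := h.step 256 cover8_10
  have h : AllBelow coverOk 84992 := h.step 256 cover8_11
  have h : AllBelow coverOk 85248 := h.step 256 cover8_12
  have h : AllBelow coverOk 85504 := h.step 256 cover8_13
  have h : AllBelow coverOk 85760 := h.step 256 cover8_14
  have h : AllBelow coverOk 86016 := h.step 256 cover8_15
  have h : AllBelow coverOk 86272 := h.step 256 cover8_16
  have h : AllBelow coverOk 86528 := h.step 256 cover8_17
  have h : AllBelow coverOk 86784 := h.step 256 cover8_18
  have h : AllBelow coverOk 87040 := h.step 256 cover8_19
  have h : AllBelow coverOk 87296 := h.step 256 cover8_20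
  have h : AllBelow coverOk 87552 := h.step 256 cover8_21
  have h : AllBelow coverOk 87808 := h.step 256 cover8_22
  have h : AllBelow coverOk 88064 := h.step 256 cover8_23
  have h : AllBelow coverOk 88320 := h.step 256 cover8_24
  have h : AllBelow coverOk 88576 := h.step 256 cover8_25
  have h : AllBelow coverOk 88832 := h.step 256 cover8_26
  have h : AllBelow coverOk 89088 := h.step 256 cover8_27
  have h : AllBelow coverOk 89344 := h.step 256 cover8_28
  have h : AllBelow coverOk 89600 := h.step 256 cover8_29
  have h : AllBelow coverOk 89856 := h.step 256 cover8_30
  have h : AllBelow coverOk 90112 := h.step 256 cover8_31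
  have h : AllBelow coverOk 90368 := h.step 256 cover8_32
  have h : AllBelow coverOk 90624 := h.step 256 cover8_33
  have h : AllBelow coverOk 90880 := h.step 256 cover8_34
  have h : AllBelow coverOk 91136 := h.step 256 cover8_35
  have h : AllBelow coverOk 91392 := h.step 256 cover8_36
  have h : AllBelow coverOk 91648 := h.step 256 cover8_37
  have h : AllBelow coverOk 91904 := h.step 256 cover8_38
  have h : AllBelow coverOk 92160 := h.step 256 cover8_39
  exact h

end Cfsg.Agent.Fi24Cover87
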