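import Cfsg.Agent.Lib.Fi24Cover87Def

/-! Kernel checks of the voltages of the triple cover, part 9. -/

set_option autoImplicit false
set_option Elab.async false

namespace Cfsg.Agent.Fi24Cover87

open Cfsg.Agent.CosetCertTable

theorem cover9_0 : allFrom coverOk 256 92160 = true := by decide +kernel

theorem cover9_1 : allFrom coverOk 256 92416 = true := by decide +kernel

theorem cover9_2 : allFrom coverOk 256 92672 = true := by decide +kernel

theorem cover9_3 : allFrom coverOk 256 92928 = true := by decide +kernel

theorem cover9_4 : allFrom coverOk 256 93184 = true := by decide +kernel

theorem cover9_5 : allFrom coverOk 256 93440 = true := by decide +kernel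

theorem cover9_6 : allFrom coverOk 256 93696 = true := by decide +kernel

theorem cover9_7 : allFrom coverOk 256 93952 = true := by decide +kernel

theorem cover9_8 : allFrom coverOk 256 94208 = true := by decide +kernel

theorem cover9_9 : allFrom coverOk 256 94464 = true := by decide +kernel

theorem cover9_10 : allFrom coverOk 256 94720 = true := by decide +kernel

theorem cover9_11 : allFrom coverOk 256 94976 = true := by decide +kernel

theorem cover9_12 : allFrom coverOk 256 95232 = true := by decide +kernel

theorem cover9_13 : allFrom coverOk 256 95488 = true := by decide +kernel

theorem cover9_14 : allFrom coverOk 256 95744 = true := by decide +kernel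

theorem cover9_15 : allFrom coverOk 256 96000 = true := by decide +kernel

theorem cover9_16 : allFrom coverOk 256 96256 = true := by decide +kernel

theorem cover9_17 : allFrom coverOk 256 96512 = true := by decide +kernel

theorem cover9_18 : allFrom coverOk 256 96768 = true := by decide +kernel

theorem cover9_19 : allFrom coverOk 256 97024 = true := by decide +kernel

theorem cover9_20 : allFrom coverOk 256 97280 = true := by decide +kernel

theorem cover9_21 : allFrom coverOk 256 97536 = true := by decide +kernel

theorem cover9_22 : allFrom coverOk 256 97792 = true := by decide +kernel

theorem cover9_23 : allFrom coverOk 256 98048 = true := by decide +kernel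

theorem cover9_24 : allFrom coverOk 256 98304 = true := by decide +kernel

theorem cover9_25 : allFrom coverOk 256 98560 = true := by decide +kernel

theorem cover9_26 : allFrom coverOk 256 98816 = true := by decide +kernel

theorem cover9_27 : allFrom coverOk 256 99072 = true := by decide +kernel

theorem cover9_28 : allFrom coverOk 256 99328 = true := by decide +kernel

theorem cover9_29 : allFrom coverOk 256 99584 = true := by decide +kernel

theorem cover9_30 : allFrom coverOk 256 99840 = true := by decide +kernel

theorem cover9_31 : allFrom coverOk 256 100096 = true := by decide +kernel

theorem cover9_32 : allFrom coverOk 256 100352 = true := by decide +kernel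

theorem cover9_33 : allFrom coverOk 256 100608 = true := by decide +kernel

theorem cover9_34 : allFrom coverOk 256 100864 = true := by decide +kernel

theorem cover9_35 : allFrom coverOk 256 101120 = true := by decide +kernel

theorem cover9_36 : allFrom coverOk 256 101376 = true := by decide +kernel

theorem cover9_37 : allFrom coverOk 256 101632 = true := by decide +kernel

theorem cover9_38 : allFrom coverOk 256 101888 = true := by decide +kernel

theorem cover9_39 : allFrom coverOk 256 102144 = true := by decide +kernel

attribute [local irreducible] coverOk

/-- The tests pass below 102400 if they pass below 92160. -/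
theorem cover9 (h : AllBelow coverOk 92160) : AllBelow coverOk 102400 := by
  have h : AllBelow coverOk 92416 := h.step 256 cover9_0
  have h : AllBelow coverOk 92672 := h.step 256 cover9_1
  have h : AllBelow coverOk 92928 := h.step 256 cover9_2
  have h : AllBelow coverOk 93184 := h.step 256 cover9_3
  have h : AllBelow coverOk 93440 := h.step 256 cover9_4
  have h : AllBelow coverOk 93696 := h.step 256 cover9_5
  have h : AllBelow coverOk 93952 := h.step 256 cover9_6
  have h : AllBelow coverOk 94208 := h.step 256 cover9_7
  have h : AllBelow coverOk 94464 := h.step 256 cover9_8
  have h : AllBelow coverOk 94720 := h.step 256 cover9_9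
  have h : AllBelow coverOk 94976 := h.step 256 cover9_10
  have h : AllBelow coverOk 95232 := h.step 256 cover9_11
  have h : AllBelow coverOk 95488 := h.step 256 cover9_12
  have h : AllBelow coverOk 95744 := h.step 256 cover9_13
  have h : AllBelow coverOk 96000 := h.step 256 cover9_14
  have h : AllBelow coverOk 96256 := h.step 256 cover9_15
  have h : AllBelow coverOk 96512 := h.step 256 cover9_16
  have h : AllBelow coverOk 96768 := h.step 256 cover9_17
  have h : AllBelow coverOk 97024 := h.step 256 cover9_18
  have h : AllBelow coverOk 97280 := h.step 256 cover9_19
  have h : AllBelow coverOk 97536 := h.step 256 cover9_20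
  have h : AllBelow coverOk 97792 := h.step 256 cover9_21
  have h : AllBelow coverOk 98048 := h.step 256 cover9_22
  have h : AllBelow coverOk 98304 := h.step 256 cover9_23
  have h : AllBelow coverOk 98560 := h.step 256 cover9_24
  have h : AllBelow coverOk 98816 := h.step 256 cover9_25
  have h : AllBelow coverOk 99072 := h.step 256 cover9_26
  have h : AllBelow coverOk 99328 := h.step 256 cover9_27
  have h : AllBelow coverOk 99584 := h.step 256 cover9_28
  have h : AllBelow coverOk 99840 := h.step 256 cover9_29
  have h : AllBelow coverOk 100096 := h.step 256 cover9_30
  have h : AllBelow coverOk 100352 := h.step 256 cover9_31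
  have h : AllBelow coverOk 100608 := h.step 256 cover9_32
  have h : AllBelow coverOk 100864 := h.step 256 cover9_33
  have h : AllBelow coverOk 101120 := h.step 256 cover9_34
  have h : AllBelow coverOk 101376 := h.step 256 cover9_35
  have h : AllBelow coverOk 101632 := h.step 256 cover9_36
  have h : AllBelow coverOk 101888 := h.step 256 cover9_37
  have h : AllBelow coverOk 102144 := h.step 256 cover9_38
  have h : AllBelow coverOk 102400 := h.step 256 cover9_39
  exact h

end Cfsg.Agent.Fi24Cover87
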