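import Cfsg.Agent.Lib.Fi24Cover87Group
import Cfsg.Agent.Lib.Fi24Table88Rho
import Cfsg.Agent.Lib.Fi24Index64
import Cfsg.Agent.Lib.Fi24Cover87Ck0
import Cfsg.Agent.Lib.Fi24Cover87Ck1
import Cfsg.Agent.Lib.Fi24Cover87Ck2
import Cfsg.Agent.Lib.Fi24Cover87Ck3
import Cfsg.Agent.Lib.Fi24Cover87Ck4
import Cfsg.Agent.Lib.Fi24Cover87Ck5
import Cfsg.Agent.Lib.Fi24Cover87Ck6
import Cfsg.Agent.Lib.Fi24Cover87Ck7
import Cfsg.Agent.Lib.Fi24Cover87Ck8
import Cfsg.Agent.Lib.Fi24Cover87Ck9
import Cfsg.Agent.Lib.Fi24Cover87Ck10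
import Cfsg.Agent.Lib.Fi24Cover87Ck11
import Cfsg.Agent.Lib.Fi24Cover87Ck12
import Cfsg.Agent.Lib.Fi24Cover87Ck13
import Cfsg.Agent.Lib.Fi24Cover87Ck14
import Cfsg.Agent.Lib.Fi24Cover87Ck15
import Cfsg.Agent.Lib.Fi24Cover87Ck16
import Cfsg.Agent.Lib.Fi24Cover87Ck17
import Cfsg.Agent.Lib.Fi24Cover87Ck18
import Cfsg.Agent.Lib.Fi24Cover87Ck19
import Cfsg.Agent.Lib.Fi24Cover87Ck20
import Cfsg.Agent.Lib.Fi24Cover87Ck21
import Cfsg.Agent.Lib.Fi24Cover87Ck22
import Cfsg.Agent.Lib.Fi24Cover87Ck23
import Cfsg.Agent.Lib.Fi24Cover87Ck24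
import Cfsg.Agent.Lib.Fi24Cover87Ck25
import Cfsg.Agent.Lib.Fi24Cover87Ck26
import Cfsg.Agent.Lib.Fi24Cover87Ck27
import Cfsg.Agent.Lib.Fi24Cover87Ck28
import Cfsg.Agent.Lib.Fi24Cover87Ck29

/-! The triple cover of Fi24' given by voltages on the table of Fi24. -/

set_option autoImplicit false

namespace Cfsg.Agent.Fi24Cover87

open Cfsg.Agent.CosetCertTable

attribute [local irreducible] coverOk

theorem passed : Passed := by
  have h : AllBelow coverOk 0 := AllBelow.zero _
  have h : AllBelow coverOk 10240 := cover0 h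
  have h : AllBelow coverOk 20480 := cover1 h
  have h : AllBelow coverOk 30720 := cover2 h
  have h : AllBelow coverOk 40960 := cover3 h
  have h : AllBelow coverOk 51200 := cover4 h
  have h : AllBelow coverOk 61440 := cover5 h
  have h : AllBelow coverOk 71680 := cover6 h
  have h : AllBelow coverOk 81920 := cover7 h
  have h : AllBelow coverOk 92160 := cover8 h
  have h : AllBelow coverOk 102400 := cover9 h
  have h : AllBelow coverOk 112640 := cover10 h
  have h : AllBelow coverOk 122880 := cover11 h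
  have h : AllBelow coverOk 133120 := cover12 h
  have h : AllBelow coverOk 143360 := cover13 h
  have h : AllBelow coverOk 153600 := cover14 h
  have h : AllBelow coverOk 163840 := cover15 h
  have h : AllBelow coverOk 174080 := cover16 h
  have h : AllBelow coverOk 184320 := cover17 h
  have h : AllBelow coverOk 194560 := cover18 h
  have h : AllBelow coverOk 204800 := cover19 h
  have h : AllBelow coverOk 215040 := cover20 h
  have h : AllBelow coverOk 225280 := cover21 h
  have h : AllBelow coverOk 235520 := cover22 h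
  have h : AllBelow coverOk 245760 := cover23 h
  have h : AllBelow coverOk 256000 := cover24 h
  have h : AllBelow coverOk 266240 := cover25 h
  have h : AllBelow coverOk 276480 := cover26 h
  have h : AllBelow coverOk 286720 := cover27 h
  have h : AllBelow coverOk 296960 := cover28 h
  have h : AllBelow coverOk 306936 := cover29 h
  exact h

/-- A stem extension of Fi24' with kernel of order three. -/
theorem exists_stem : ∃ (Γ : Type) (_ : Group Γ) (_ : Finite Γ) (σ : Γ →* Cfsg.Spor.Fi24'),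
    Cfsg.IsStemExtension σ ∧ Nat.card σ.ker = 3 :=
  exists_stem_of ⟨Fi24Table88.passed, passed⟩ (Fi24Index64.finite_of_rho Fi24Table88.rho Fi24Table88.rho_gg)

end Cfsg.Agent.Fi24Cover87
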