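import Cfsg.Agent.Lib.Fi24Cover87Def

/-! Kernel checks of the voltages of the triple cover, part 10. -/

set_option autoImplicit false
set_option Elab.async false

namespace Cfsg.Agent.Fi24Cover87

open Cfsg.Agent.CosetCertTable

theorem cover10_0 : allFrom coverOk 256 102400 = true := by decide +kernel

theorem cover10_1 : allFrom coverOk 256 102656 = true := by decide +kernel

theorem cover10_2 : allFrom coverOk 256 102912 = true := by decide +kernel

theorem cover10_3 : allFrom coverOk 256 103168 = true := by decide +kernel

theorem cover10_4 : allFrom coverOk 256 103424 = true := by decide +kernel

theorem cover10_5 : allFrom coverOk 256 103680 = true := by decide +kernel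

theorem cover10_6 : allFrom coverOk 256 103936 = true := by decide +kernel

theorem cover10_7 : allFrom coverOk 256 104192 = true := by decide +kernel

theorem cover10_8 : allFrom coverOk 256 104448 = true := by decide +kernel

theorem cover10_9 : allFrom coverOk 256 104704 = true := by decide +kernel

theorem cover10_10 : allFrom coverOk 256 104960 = true := by decide +kernel

theorem cover10_11 : allFrom coverOk 256 105216 = true := by decide +kernel

theorem cover10_12 : allFrom coverOk 256 105472 = true := by decide +kernel

theorem cover10_13 : allFrom coverOk 256 105728 = true := by decide +kernel

theorem cover10_14 : allFrom coverOk 256 105984 = true := by decide +kernel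

theorem cover10_15 : allFrom coverOk 256 106240 = true := by decide +kernel

theorem cover10_16 : allFrom coverOk 256 106496 = true := by decide +kernel

theorem cover10_17 : allFrom coverOk 256 106752 = true := by decide +kernel

theorem cover10_18 : allFrom coverOk 256 107008 = true := by decide +kernel

theorem cover10_19 : allFrom coverOk 256 107264 = true := by decide +kernel

theorem cover10_20 : allFrom coverOk 256 107520 = true := by decide +kernel

theorem cover10_21 : allFrom coverOk 256 107776 = true := by decide +kernel

theorem cover10_22 : allFrom coverOk 256 108032 = true := by decide +kernel

theorem cover10_23 : allFrom coverOk 256 108288 = true := by decide +kernel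

theorem cover10_24 : allFrom coverOk 256 108544 = true := by decide +kernel

theorem cover10_25 : allFrom coverOk 256 108800 = true := by decide +kernel

theorem cover10_26 : allFrom coverOk 256 109056 = true := by decide +kernel

theorem cover10_27 : allFrom coverOk 256 109312 = true := by decide +kernel

theorem cover10_28 : allFrom coverOk 256 109568 = true := by decide +kernel

theorem cover10_29 : allFrom coverOk 256 109824 = true := by decide +kernel

theorem cover10_30 : allFrom coverOk 256 110080 = true := by decide +kernel

theorem cover10_31 : allFrom coverOk 256 110336 = true := by decide +kernel

theorem cover10_32 : allFrom coverOk 256 110592 = true := by decide +kernel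

theorem cover10_33 : allFrom coverOk 256 110848 = true := by decide +kernel

theorem cover10_34 : allFrom coverOk 256 111104 = true := by decide +kernel

theorem cover10_35 : allFrom coverOk 256 111360 = true := by decide +kernel

theorem cover10_36 : allFrom coverOk 256 111616 = true := by decide +kernel

theorem cover10_37 : allFrom coverOk 256 111872 = true := by decide +kernel

theorem cover10_38 : allFrom coverOk 256 112128 = true := by decide +kernel

theorem cover10_39 : allFrom coverOk 256 112384 = true := by decide +kernel

attribute [local irreducible] coverOk

/-- The tests pass below 112640 if they pass below 102400. -/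
theorem cover10 (h : AllBelow coverOk 102400) : AllBelow coverOk 112640 := by
  have h : AllBelow coverOk 102656 := h.step 256 cover10_0
  have h : AllBelow coverOk 102912 := h.step 256 cover10_1
  have h : AllBelow coverOk 103168 := h.step 256 cover10_2
  have h : AllBelow coverOk 103424 := h.step 256 cover10_3
  have h : AllBelow coverOk 103680 := h.step 256 cover10_4
  have h : AllBelow coverOk 103936 := h.step 256 cover10_5
  have h : AllBelow coverOk 104192 := h.step 256 cover10_6
  have h : AllBelow coverOk 104448 := h.step 256 cover10_7
  have h : AllBelow coverOk 104704 := h.step 256 cover10_8
  have h : AllBelow coverOk 104960 := h.step 256 cover10_9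
  have h : AllBelow coverOk 105216 := h.step 256 cover10_10
  have h : AllBelow coverOk 105472 := h.step 256 cover10_11
  have h : AllBelow coverOk 105728 := h.step 256 cover10_12
  have h : AllBelow coverOk 105984 := h.step 256 cover10_13
  have h : AllBelow coverOk 106240 := h.step 256 cover10_14
  have h : AllBelow coverOk 106496 := h.step 256 cover10_15
  have h : AllBelow coverOk 106752 := h.step 256 cover10_16
  have h : AllBelow coverOk 107008 := h.step 256 cover10_17
  have h : AllBelow coverOk 107264 := h.step 256 cover10_18
  have h : AllBelow coverOk 107520 := h.step 256 cover10_19
  have h : AllBelow coverOk 107776 := h.step 256 cover10_20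
  have h : AllBelow coverOk 108032 := h.step 256 cover10_21
  have h : AllBelow coverOk 108288 := h.step 256 cover10_22
  have h : AllBelow coverOk 108544 := h.step 256 cover10_23
  have h : AllBelow coverOk 108800 := h.step 256 cover10_24
  have h : AllBelow coverOk 109056 := h.step 256 cover10_25
  have h : AllBelow coverOk 109312 := h.step 256 cover10_26
  have h : AllBelow coverOk 109568 := h.step 256 cover10_27
  have h : AllBelow coverOk 109824 := h.step 256 cover10_28
  have h : AllBelow coverOk 110080 := h.step 256 cover10_29
  have h : AllBelow coverOk 110336 := h.step 256 cover10_30
  have h : AllBelow coverOk 110592 := h.step 256 cover10_31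
  have h : AllBelow coverOk 110848 := h.step 256 cover10_32
  have h : AllBelow coverOk 111104 := h.step 256 cover10_33
  have h : AllBelow coverOk 111360 := h.step 256 cover10_34
  have h : AllBelow coverOk 111616 := h.step 256 cover10_35
  have h : AllBelow coverOk 111872 := h.step 256 cover10_36
  have h : AllBelow coverOk 112128 := h.step 256 cover10_37
  have h : AllBelow coverOk 112384 := h.step 256 cover10_38
  have h : AllBelow coverOk 112640 := h.step 256 cover10_39
  exact h

end Cfsg.Agent.Fi24Cover87
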