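import Cfsg.Agent.Lib.Fi24Cover87Def

/-! Kernel checks of the voltages of the triple cover, part 24. -/

set_option autoImplicit false
set_option Elab.async false

namespace Cfsg.Agent.Fi24Cover87

open Cfsg.Agent.CosetCertTable

theorem cover24_0 : allFrom coverOk 256 245760 = true := by decide +kernel

theorem cover24_1 : allFrom coverOk 256 246016 = true := by decide +kernel

theorem cover24_2 : allFrom coverOk 256 246272 = true := by decide +kernel

theorem cover24_3 : allFrom coverOk 256 246528 = true := by decide +kernel

theorem cover24_4 : allFrom coverOk 256 246784 = true := by decide +kernel

theorem cover24_5 : allFrom coverOk 256 247040 = true := by decide +kernel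

theorem cover24_6 : allFrom coverOk 256 247296 = true := by decide +kernel

theorem cover24_7 : allFrom coverOk 256 247552 = true := by decide +kernel

theorem cover24_8 : allFrom coverOk 256 247808 = true := by decide +kernel

theorem cover24_9 : allFrom coverOk 256 248064 = true := by decide +kernel

theorem cover24_10 : allFrom coverOk 256 248320 = true := by decide +kernel

theorem cover24_11 : allFrom coverOk 256 248576 = true := by decide +kernel

theorem cover24_12 : allFrom coverOk 256 248832 = true := by decide +kernel

theorem cover24_13 : allFrom coverOk 256 249088 = true := by decide +kernel

theorem cover24_14 : allFrom coverOk 256 249344 = true := by decide +kernel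

theorem cover24_15 : allFrom coverOk 256 249600 = true := by decide +kernel

theorem cover24_16 : allFrom coverOk 256 249856 = true := by decide +kernel

theorem cover24_17 : allFrom coverOk 256 250112 = true := by decide +kernel

theorem cover24_18 : allFrom coverOk 256 250368 = true := by decide +kernel

theorem cover24_19 : allFrom coverOk 256 250624 = true := by decide +kernel

theorem cover24_20 : allFrom coverOk 256 250880 = true := by decide +kernel

theorem cover24_21 : allFrom coverOk 256 251136 = true := by decide +kernel

theorem cover24_22 : allFrom coverOk 256 251392 = true := by decide +kernel

theorem cover24_23 : allFrom coverOk 256 251648 = true := by decide +kernel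

theorem cover24_24 : allFrom coverOk 256 251904 = true := by decide +kernel

theorem cover24_25 : allFrom coverOk 256 252160 = true := by decide +kernel

theorem cover24_26 : allFrom coverOk 256 252416 = true := by decide +kernel

theorem cover24_27 : allFrom coverOk 256 252672 = true := by decide +kernel

theorem cover24_28 : allFrom coverOk 256 252928 = true := by decide +kernel

theorem cover24_29 : allFrom coverOk 256 253184 = true := by decide +kernel

theorem cover24_30 : allFrom coverOk 256 253440 = true := by decide +kernel

theorem cover24_31 : allFrom coverOk 256 253696 = true := by decide +kernel

theorem cover24_32 : allFrom coverOk 256 253952 = true := by decide +kernel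

theorem cover24_33 : allFrom coverOk 256 254208 = true := by decide +kernel

theorem cover24_34 : allFrom coverOk 256 254464 = true := by decide +kernel

theorem cover24_35 : allFrom coverOk 256 254720 = true := by decide +kernel

theorem cover24_36 : allFrom coverOk 256 254976 = true := by decide +kernel

theorem cover24_37 : allFrom coverOk 256 255232 = true := by decide +kernel

theorem cover24_38 : allFrom coverOk 256 255488 = true := by decide +kernel

theorem cover24_39 : allFrom coverOk 256 255744 = true := by decide +kernel

attribute [local irreducible] coverOk

/-- The tests pass below 256000 if they pass below 245760. -/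
theorem cover24 (h : AllBelow coverOk 245760) : AllBelow coverOk 256000 := by
  have h : AllBelow coverOk 246016 := h.step 256 cover24_0
  have h : AllBelow coverOk 246272 := h.step 256 cover24_1
  have h : AllBelow coverOk 246528 := h.step 256 cover24_2
  have h : AllBelow coverOk 246784 := h.step 256 cover24_3
  have h : AllBelow coverOk 247040 := h.step 256 cover24_4
  have h : AllBelow coverOk 247296 := h.step 256 cover24_5
  have h : AllBelow coverOk 247552 := h.step 256 cover24_6
  have h : AllBelow coverOk 247808 := h.step 256 cover24_7
  have h : AllBelow coverOk 248064 := h.step 256 cover24_8
  have h : AllBelow coverOk 248320 := h.step 256 cover24_9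
  have h : AllBelow coverOk 248576 := h.step 256 cover24_10
  have h : AllBelow coverOk 248832 := h.step 256 cover24_11
  have h : AllBelow coverOk 249088 := h.step 256 cover24_12
  have h : AllBelow coverOk 249344 := h.step 256 cover24_13
  have h : AllBelow coverOk 249600 := h.step 256 cover24_14
  have h : AllBelow coverOk 249856 := h.step 256 cover24_15
  have h : AllBelow coverOk 250112 := h.step 256 cover24_16
  have h : AllBelow coverOk 250368 := h.step 256 cover24_17
  have h : AllBelow coverOk 250624 := h.step 256 cover24_18
  have h : AllBelow coverOk 250880 := h.step 256 cover24_19
  have h : AllBelow coverOk 251136 := h.step 256 cover24_20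
  have h : AllBelow coverOk 251392 := h.step 256 cover24_21
  have h : AllBelow coverOk 251648 := h.step 256 cover24_22
  have h : AllBelow coverOk 251904 := h.step 256 cover24_23
  have h : AllBelow coverOk 252160 := h.step 256 cover24_24
  have h : AllBelow coverOk 252416 := h.step 256 cover24_25
  have h : AllBelow coverOk 252672 := h.step 256 cover24_26
  have h : AllBelow coverOk 252928 := h.step 256 cover24_27
  have h : AllBelow coverOk 253184 := h.step 256 cover24_28
  have h : AllBelow coverOk 253440 := h.step 256 cover24_29
  have h : AllBelow coverOk 253696 := h.step 256 cover24_30
  have h : AllBelow coverOk 253952 := h.step 256 cover24_31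
  have h : AllBelow coverOk 254208 := h.step 256 cover24_32
  have h : AllBelow coverOk 254464 := h.step 256 cover24_33
  have h : AllBelow coverOk 254720 := h.step 256 cover24_34
  have h : AllBelow coverOk 254976 := h.step 256 cover24_35
  have h : AllBelow coverOk 255232 := h.step 256 cover24_36
  have h : AllBelow coverOk 255488 := h.step 256 cover24_37
  have h : AllBelow coverOk 255744 := h.step 256 cover24_38
  have h : AllBelow coverOk 256000 := h.step 256 cover24_39
  exact h

end Cfsg.Agent.Fi24Cover87
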