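import Cfsg.Agent.Lib.Fi24Table88Sound
import Cfsg.Agent.Lib.Fi24Cover87Data0
import Cfsg.Agent.Lib.Fi24Cover87Data1
import Cfsg.Agent.Lib.Fi24Cover87Data2
import Cfsg.Agent.Lib.Fi24Cover87Data3

/-!
Voltages of a triple cover of the table of Fi24 and the tests made on them at each point. The lift of
generator `x` sends `(i, v)` to `(img x i, vol x i - v)`; the tests say that the lifts satisfy the Coxeter
relators and the E7 relator while the relator z lifts to the translation by one.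
-/

set_option autoImplicit false

namespace Cfsg.Agent.Fi24Cover87

open Cfsg.Agent.CosetCertCore
open Cfsg.Agent.Fi24Table88 (img row both whenHigh whenZero lowMask powE powZ powZ4)

/-- The voltage table. -/
noncomputable def vtbl : Tbl := .node (.node vpart0 vpart2) (.node vpart1 vpart3)

/-- The packed voltages of a point. -/
noncomputable def vrow (i : Nat) : Nat :=
  Nat.shiftRight (force (Nat.shiftRight i 8) (Fi24Table88.pick vtbl 1)) (Nat.mul (Nat.land i 255) 42)

/-- Field number `x` of packed voltages: the twelve generators, then the two long paths and a fourth power. -/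
def vf (x r : Nat) : Nat := Nat.land (Nat.shiftRight r (Nat.mul 3 x)) 7

/-- The voltage of generator `x` at point `i`. -/
noncomputable def vol (x i : Nat) : Nat := vf x (vrow i)

/-- Equality mod three of two sums. -/
noncomputable def eq3 (a b : Nat) : Bool := Nat.beq (Nat.mod a 3) (Nat.mod b 3)

-- Below, the images of a point have their voltages packed in R, 36 bits each.
/-- Generator 0 against the later generators commuting with it. -/
noncomputable def vcomm0 (D R ri : Nat) : Bool :=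
    both (whenZero (Nat.land D 4) (Nat.beq (Nat.mod (Nat.add (Nat.land (Nat.shiftRight R 6) 7) (Nat.land (Nat.shiftRight ri 6) 7)) 3) (Nat.mod (Nat.add (Nat.land (Nat.shiftRight R 72) 7) (Nat.land (Nat.shiftRight ri 0) 7)) 3))) <|
    both (whenZero (Nat.land D 8) (Nat.beq (Nat.mod (Nat.add (Nat.land (Nat.shiftRight R 9) 7) (Nat.land (Nat.shiftRight ri 9) 7)) 3) (Nat.mod (Nat.add (Nat.land (Nat.shiftRight R 108) 7) (Nat.land (Nat.shiftRight ri 0) 7)) 3))) <|
    both (whenZero (Nat.land D 16) (Nat.beq (Nat.mod (Nat.add (Nat.land (Nat.shiftRight R 12) 7) (Nat.land (Nat.shiftRight ri 12) 7)) 3) (Nat.mod (Nat.add (Nat.land (Nat.shiftRight R 144) 7) (Nat.land (Nat.shiftRight ri 0) 7)) 3))) <|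
    both (whenZero (Nat.land D 32) (Nat.beq (Nat.mod (Nat.add (Nat.land (Nat.shiftRight R 15) 7) (Nat.land (Nat.shiftRight ri 15) 7)) 3) (Nat.mod (Nat.add (Nat.land (Nat.shiftRight R 180) 7) (Nat.land (Nat.shiftRight ri 0) 7)) 3))) <|
    both (whenZero (Nat.land D 64) (Nat.beq (Nat.mod (Nat.add (Nat.land (Nat.shiftRight R 18) 7) (Nat.land (Nat.shiftRight ri 18) 7)) 3) (Nat.mod (Nat.add (Nat.land (Nat.shiftRight R 216) 7) (Nat.land (Nat.shiftRight ri 0) 7)) 3))) <|
    both (whenZero (Nat.land D 128) (Nat.beq (Nat.mod (Nat.add (Nat.land (Nat.shiftRight R 21) 7) (Nat.land (Nat.shiftRight ri 21) 7)) 3) (Nat.mod (Nat.add (Nat.land (Nat.shiftRight R 252) 7) (Nat.land (Nat.shiftRight ri 0) 7)) 3))) <|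
    both (whenZero (Nat.land D 256) (Nat.beq (Nat.mod (Nat.add (Nat.land (Nat.shiftRight R 24) 7) (Nat.land (Nat.shiftRight ri 24) 7)) 3) (Nat.mod (Nat.add (Nat.land (Nat.shiftRight R 288) 7) (Nat.land (Nat.shiftRight ri 0) 7)) 3))) <|
    both (whenZero (Nat.land D 512) (Nat.beq (Nat.mod (Nat.add (Nat.land (Nat.shiftRight R 27) 7) (Nat.land (Nat.shiftRight ri 27) 7)) 3) (Nat.mod (Nat.add (Nat.land (Nat.shiftRight R 324) 7) (Nat.land (Nat.shiftRight ri 0) 7)) 3))) <|
    both (whenZero (Nat.land D 1024) (Nat.beq (Nat.mod (Nat.add (Nat.land (Nat.shiftRight R 30) 7) (Nat.land (Nat.shiftRight ri 30) 7)) 3) (Nat.mod (Nat.add (Nat.land (Nat.shiftRight R 360) 7) (Nat.land (Nat.shiftRight ri 0) 7)) 3))) <|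
    (whenZero (Nat.land D 2048) (Nat.beq (Nat.mod (Nat.add (Nat.land (Nat.shiftRight R 33) 7) (Nat.land (Nat.shiftRight ri 33) 7)) 3) (Nat.mod (Nat.add (Nat.land (Nat.shiftRight R 396) 7) (Nat.land (Nat.shiftRight ri 0) 7)) 3)))

/-- Generator 1 against the later generators commuting with it. -/
noncomputable def vcomm1 (D R ri : Nat) : Bool :=
    both (whenZero (Nat.land D 8) (Nat.beq (Nat.mod (Nat.add (Nat.land (Nat.shiftRight R 45) 7) (Nat.land (Nat.shiftRight ri 9) 7)) 3) (Nat.mod (Nat.add (Nat.land (Nat.shiftRight R 111) 7) (Nat.land (Nat.shiftRight ri 3) 7)) 3))) <|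
    both (whenZero (Nat.land D 16) (Nat.beq (Nat.mod (Nat.add (Nat.land (Nat.shiftRight R 48) 7) (Nat.land (Nat.shiftRight ri 12) 7)) 3) (Nat.mod (Nat.add (Nat.land (Nat.shiftRight R 147) 7) (Nat.land (Nat.shiftRight ri 3) 7)) 3))) <|
    both (whenZero (Nat.land D 32) (Nat.beq (Nat.mod (Nat.add (Nat.land (Nat.shiftRight R 51) 7) (Nat.land (Nat.shiftRight ri 15) 7)) 3) (Nat.mod (Nat.add (Nat.land (Nat.shiftRight R 183) 7) (Nat.land (Nat.shiftRight ri 3) 7)) 3))) <|
    both (whenZero (Nat.land D 64) (Nat.beq (Nat.mod (Nat.add (Nat.land (Nat.shiftRight R 54) 7) (Nat.land (Nat.shiftRight ri 18) 7)) 3) (Nat.mod (Nat.add (Nat.land (Nat.shiftRight R 219) 7) (Nat.land (Nat.shiftRight ri 3) 7)) 3))) <|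
    both (whenZero (Nat.land D 128) (Nat.beq (Nat.mod (Nat.add (Nat.land (Nat.shiftRight R 57) 7) (Nat.land (Nat.shiftRight ri 21) 7)) 3) (Nat.mod (Nat.add (Nat.land (Nat.shiftRight R 255) 7) (Nat.land (Nat.shiftRight ri 3) 7)) 3))) <|
    both (whenZero (Nat.land D 256) (Nat.beq (Nat.mod (Nat.add (Nat.land (Nat.shiftRight R 60) 7) (Nat.land (Nat.shiftRight ri 24) 7)) 3) (Nat.mod (Nat.add (Nat.land (Nat.shiftRight R 291) 7) (Nat.land (Nat.shiftRight ri 3) 7)) 3))) <|
    both (whenZero (Nat.land D 512) (Nat.beq (Nat.mod (Nat.add (Nat.land (Nat.shiftRight R 63) 7) (Nat.land (Nat.shiftRight ri 27) 7)) 3) (Nat.mod (Nat.add (Nat.land (Nat.shiftRight R 327) 7) (Nat.land (Nat.shiftRight ri 3) 7)) 3))) <|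
    both (whenZero (Nat.land D 1024) (Nat.beq (Nat.mod (Nat.add (Nat.land (Nat.shiftRight R 66) 7) (Nat.land (Nat.shiftRight ri 30) 7)) 3) (Nat.mod (Nat.add (Nat.land (Nat.shiftRight R 363) 7) (Nat.land (Nat.shiftRight ri 3) 7)) 3))) <|
    (whenZero (Nat.land D 2048) (Nat.beq (Nat.mod (Nat.add (Nat.land (Nat.shiftRight R 69) 7) (Nat.land (Nat.shiftRight ri 33) 7)) 3) (Nat.mod (Nat.add (Nat.land (Nat.shiftRight R 399) 7) (Nat.land (Nat.shiftRight ri 3) 7)) 3)))

/-- Generator 2 against the later generators commuting with it. -/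
noncomputable def vcomm2 (D R ri : Nat) : Bool :=
    both (whenZero (Nat.land D 16) (Nat.beq (Nat.mod (Nat.add (Nat.land (Nat.shiftRight R 84) 7) (Nat.land (Nat.shiftRight ri 12) 7)) 3) (Nat.mod (Nat.add (Nat.land (Nat.shiftRight R 150) 7) (Nat.land (Nat.shiftRight ri 6) 7)) 3))) <|
    both (whenZero (Nat.land D 32) (Nat.beq (Nat.mod (Nat.add (Nat.land (Nat.shiftRight R 87) 7) (Nat.land (Nat.shiftRight ri 15) 7)) 3) (Nat.mod (Nat.add (Nat.land (Nat.shiftRight R 186) 7) (Nat.land (Nat.shiftRight ri 6) 7)) 3))) <|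
    both (whenZero (Nat.land D 64) (Nat.beq (Nat.mod (Nat.add (Nat.land (Nat.shiftRight R 90) 7) (Nat.land (Nat.shiftRight ri 18) 7)) 3) (Nat.mod (Nat.add (Nat.land (Nat.shiftRight R 222) 7) (Nat.land (Nat.shiftRight ri 6) 7)) 3))) <|
    both (whenZero (Nat.land D 128) (Nat.beq (Nat.mod (Nat.add (Nat.land (Nat.shiftRight R 93) 7) (Nat.land (Nat.shiftRight ri 21) 7)) 3) (Nat.mod (Nat.add (Nat.land (Nat.shiftRight R 258) 7) (Nat.land (Nat.shiftRight ri 6) 7)) 3))) <|
    both (whenZero (Nat.land D 256) (Nat.beq (Nat.mod (Nat.add (Nat.land (Nat.shiftRight R 96) 7) (Nat.land (Nat.shiftRight ri 24) 7)) 3) (Nat.mod (Nat.add (Nat.land (Nat.shiftRight R 294) 7) (Nat.land (Nat.shiftRight ri 6) 7)) 3))) <|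
    both (whenZero (Nat.land D 512) (Nat.beq (Nat.mod (Nat.add (Nat.land (Nat.shiftRight R 99) 7) (Nat.land (Nat.shiftRight ri 27) 7)) 3) (Nat.mod (Nat.add (Nat.land (Nat.shiftRight R 330) 7) (Nat.land (Nat.shiftRight ri 6) 7)) 3))) <|
    both (whenZero (Nat.land D 1024) (Nat.beq (Nat.mod (Nat.add (Nat.land (Nat.shiftRight R 102) 7) (Nat.land (Nat.shiftRight ri 30) 7)) 3) (Nat.mod (Nat.add (Nat.land (Nat.shiftRight R 366) 7) (Nat.land (Nat.shiftRight ri 6) 7)) 3))) <|
    (whenZero (Nat.land D 2048) (Nat.beq (Nat.mod (Nat.add (Nat.land (Nat.shiftRight R 105) 7) (Nat.land (Nat.shiftRight ri 33) 7)) 3) (Nat.mod (Nat.add (Nat.land (Nat.shiftRight R 402) 7) (Nat.land (Nat.shiftRight ri 6) 7)) 3)))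

/-- Generator 3 against the later generators commuting with it. -/
noncomputable def vcomm3 (D R ri : Nat) : Bool :=
    both (whenZero (Nat.land D 32) (Nat.beq (Nat.mod (Nat.add (Nat.land (Nat.shiftRight R 123) 7) (Nat.land (Nat.shiftRight ri 15) 7)) 3) (Nat.mod (Nat.add (Nat.land (Nat.shiftRight R 189) 7) (Nat.land (Nat.shiftRight ri 9) 7)) 3))) <|
    both (whenZero (Nat.land D 64) (Nat.beq (Nat.mod (Nat.add (Nat.land (Nat.shiftRight R 126) 7) (Nat.land (Nat.shiftRight ri 18) 7)) 3) (Nat.mod (Nat.add (Nat.land (Nat.shiftRight R 225) 7) (Nat.land (Nat.shiftRight ri 9) 7)) 3))) <|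
    both (whenZero (Nat.land D 128) (Nat.beq (Nat.mod (Nat.add (Nat.land (Nat.shiftRight R 129) 7) (Nat.land (Nat.shiftRight ri 21) 7)) 3) (Nat.mod (Nat.add (Nat.land (Nat.shiftRight R 261) 7) (Nat.land (Nat.shiftRight ri 9) 7)) 3))) <|
    both (whenZero (Nat.land D 256) (Nat.beq (Nat.mod (Nat.add (Nat.land (Nat.shiftRight R 132) 7) (Nat.land (Nat.shiftRight ri 24) 7)) 3) (Nat.mod (Nat.add (Nat.land (Nat.shiftRight R 297) 7) (Nat.land (Nat.shiftRight ri 9) 7)) 3))) <|
    both (whenZero (Nat.land D 512) (Nat.beq (Nat.mod (Nat.add (Nat.land (Nat.shiftRight R 135) 7) (Nat.land (Nat.shiftRight ri 27) 7)) 3) (Nat.mod (Nat.add (Nat.land (Nat.shiftRight R 333) 7) (Nat.land (Nat.shiftRight ri 9) 7)) 3))) <|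
    both (whenZero (Nat.land D 1024) (Nat.beq (Nat.mod (Nat.add (Nat.land (Nat.shiftRight R 138) 7) (Nat.land (Nat.shiftRight ri 30) 7)) 3) (Nat.mod (Nat.add (Nat.land (Nat.shiftRight R 369) 7) (Nat.land (Nat.shiftRight ri 9) 7)) 3))) <|
    (whenZero (Nat.land D 2048) (Nat.beq (Nat.mod (Nat.add (Nat.land (Nat.shiftRight R 141) 7) (Nat.land (Nat.shiftRight ri 33) 7)) 3) (Nat.mod (Nat.add (Nat.land (Nat.shiftRight R 405) 7) (Nat.land (Nat.shiftRight ri 9) 7)) 3)))

/-- Generator 4 against the later generators commuting with it. -/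
noncomputable def vcomm4 (D R ri : Nat) : Bool :=
    both (whenZero (Nat.land D 64) (Nat.beq (Nat.mod (Nat.add (Nat.land (Nat.shiftRight R 162) 7) (Nat.land (Nat.shiftRight ri 18) 7)) 3) (Nat.mod (Nat.add (Nat.land (Nat.shiftRight R 228) 7) (Nat.land (Nat.shiftRight ri 12) 7)) 3))) <|
    both (whenZero (Nat.land D 128) (Nat.beq (Nat.mod (Nat.add (Nat.land (Nat.shiftRight R 165) 7) (Nat.land (Nat.shiftRight ri 21) 7)) 3) (Nat.mod (Nat.add (Nat.land (Nat.shiftRight R 264) 7) (Nat.land (Nat.shiftRight ri 12) 7)) 3))) <|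
    both (whenZero (Nat.land D 256) (Nat.beq (Nat.mod (Nat.add (Nat.land (Nat.shiftRight R 168) 7) (Nat.land (Nat.shiftRight ri 24) 7)) 3) (Nat.mod (Nat.add (Nat.land (Nat.shiftRight R 300) 7) (Nat.land (Nat.shiftRight ri 12) 7)) 3))) <|
    both (whenZero (Nat.land D 512) (Nat.beq (Nat.mod (Nat.add (Nat.land (Nat.shiftRight R 171) 7) (Nat.land (Nat.shiftRight ri 27) 7)) 3) (Nat.mod (Nat.add (Nat.land (Nat.shiftRight R 336) 7) (Nat.land (Nat.shiftRight ri 12) 7)) 3))) <|
    both (whenZero (Nat.land D 1024) (Nat.beq (Nat.mod (Nat.add (Nat.land (Nat.shiftRight R 174) 7) (Nat.land (Nat.shiftRight ri 30) 7)) 3) (Nat.mod (Nat.add (Nat.land (Nat.shiftRight R 372) 7) (Nat.land (Nat.shiftRight ri 12) 7)) 3))) <|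
    (whenZero (Nat.land D 2048) (Nat.beq (Nat.mod (Nat.add (Nat.land (Nat.shiftRight R 177) 7) (Nat.land (Nat.shiftRight ri 33) 7)) 3) (Nat.mod (Nat.add (Nat.land (Nat.shiftRight R 408) 7) (Nat.land (Nat.shiftRight ri 12) 7)) 3)))

/-- Generator 5 against the later generators commuting with it. -/
noncomputable def vcomm5 (D R ri : Nat) : Bool :=
    both (whenZero (Nat.land D 128) (Nat.beq (Nat.mod (Nat.add (Nat.land (Nat.shiftRight R 201) 7) (Nat.land (Nat.shiftRight ri 21) 7)) 3) (Nat.mod (Nat.add (Nat.land (Nat.shiftRight R 267) 7) (Nat.land (Nat.shiftRight ri 15) 7)) 3))) <|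
    both (whenZero (Nat.land D 256) (Nat.beq (Nat.mod (Nat.add (Nat.land (Nat.shiftRight R 204) 7) (Nat.land (Nat.shiftRight ri 24) 7)) 3) (Nat.mod (Nat.add (Nat.land (Nat.shiftRight R 303) 7) (Nat.land (Nat.shiftRight ri 15) 7)) 3))) <|
    both (whenZero (Nat.land D 512) (Nat.beq (Nat.mod (Nat.add (Nat.land (Nat.shiftRight R 207) 7) (Nat.land (Nat.shiftRight ri 27) 7)) 3) (Nat.mod (Nat.add (Nat.land (Nat.shiftRight R 339) 7) (Nat.land (Nat.shiftRight ri 15) 7)) 3))) <|
    (whenZero (Nat.land D 2048) (Nat.beq (Nat.mod (Nat.add (Nat.land (Nat.shiftRight R 213) 7) (Nat.land (Nat.shiftRight ri 33) 7)) 3) (Nat.mod (Nat.add (Nat.land (Nat.shiftRight R 411) 7) (Nat.land (Nat.shiftRight ri 15) 7)) 3)))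

/-- Generator 6 against the later generators commuting with it. -/
noncomputable def vcomm6 (D R ri : Nat) : Bool :=
    both (whenZero (Nat.land D 256) (Nat.beq (Nat.mod (Nat.add (Nat.land (Nat.shiftRight R 240) 7) (Nat.land (Nat.shiftRight ri 24) 7)) 3) (Nat.mod (Nat.add (Nat.land (Nat.shiftRight R 306) 7) (Nat.land (Nat.shiftRight ri 18) 7)) 3))) <|
    both (whenZero (Nat.land D 512) (Nat.beq (Nat.mod (Nat.add (Nat.land (Nat.shiftRight R 243) 7) (Nat.land (Nat.shiftRight ri 27) 7)) 3) (Nat.mod (Nat.add (Nat.land (Nat.shiftRight R 342) 7) (Nat.land (Nat.shiftRight ri 18) 7)) 3))) <|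
    both (whenZero (Nat.land D 1024) (Nat.beq (Nat.mod (Nat.add (Nat.land (Nat.shiftRight R 246) 7) (Nat.land (Nat.shiftRight ri 30) 7)) 3) (Nat.mod (Nat.add (Nat.land (Nat.shiftRight R 378) 7) (Nat.land (Nat.shiftRight ri 18) 7)) 3))) <|
    (whenZero (Nat.land D 2048) (Nat.beq (Nat.mod (Nat.add (Nat.land (Nat.shiftRight R 249) 7) (Nat.land (Nat.shiftRight ri 33) 7)) 3) (Nat.mod (Nat.add (Nat.land (Nat.shiftRight R 414) 7) (Nat.land (Nat.shiftRight ri 18) 7)) 3)))

/-- Generator 7 against the later generators commuting with it. -/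
noncomputable def vcomm7 (D R ri : Nat) : Bool :=
    both (whenZero (Nat.land D 512) (Nat.beq (Nat.mod (Nat.add (Nat.land (Nat.shiftRight R 279) 7) (Nat.land (Nat.shiftRight ri 27) 7)) 3) (Nat.mod (Nat.add (Nat.land (Nat.shiftRight R 345) 7) (Nat.land (Nat.shiftRight ri 21) 7)) 3))) <|
    both (whenZero (Nat.land D 1024) (Nat.beq (Nat.mod (Nat.add (Nat.land (Nat.shiftRight R 282) 7) (Nat.land (Nat.shiftRight ri 30) 7)) 3) (Nat.mod (Nat.add (Nat.land (Nat.shiftRight R 381) 7) (Nat.land (Nat.shiftRight ri 21) 7)) 3))) <|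
    (whenZero (Nat.land D 2048) (Nat.beq (Nat.mod (Nat.add (Nat.land (Nat.shiftRight R 285) 7) (Nat.land (Nat.shiftRight ri 33) 7)) 3) (Nat.mod (Nat.add (Nat.land (Nat.shiftRight R 417) 7) (Nat.land (Nat.shiftRight ri 21) 7)) 3)))

/-- Generator 8 against the later generators commuting with it. -/
noncomputable def vcomm8 (D R ri : Nat) : Bool :=
    both (whenZero (Nat.land D 1024) (Nat.beq (Nat.mod (Nat.add (Nat.land (Nat.shiftRight R 318) 7) (Nat.land (Nat.shiftRight ri 30) 7)) 3) (Nat.mod (Nat.add (Nat.land (Nat.shiftRight R 384) 7) (Nat.land (Nat.shiftRight ri 24) 7)) 3))) <|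
    (whenZero (Nat.land D 2048) (Nat.beq (Nat.mod (Nat.add (Nat.land (Nat.shiftRight R 321) 7) (Nat.land (Nat.shiftRight ri 33) 7)) 3) (Nat.mod (Nat.add (Nat.land (Nat.shiftRight R 420) 7) (Nat.land (Nat.shiftRight ri 24) 7)) 3)))

/-- Generator 9 against the later generators commuting with it. -/
noncomputable def vcomm9 (D R ri : Nat) : Bool :=
    both (whenZero (Nat.land D 1024) (Nat.beq (Nat.mod (Nat.add (Nat.land (Nat.shiftRight R 354) 7) (Nat.land (Nat.shiftRight ri 30) 7)) 3) (Nat.mod (Nat.add (Nat.land (Nat.shiftRight R 387) 7) (Nat.land (Nat.shiftRight ri 27) 7)) 3))) <|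
    (whenZero (Nat.land D 2048) (Nat.beq (Nat.mod (Nat.add (Nat.land (Nat.shiftRight R 357) 7) (Nat.land (Nat.shiftRight ri 33) 7)) 3) (Nat.mod (Nat.add (Nat.land (Nat.shiftRight R 423) 7) (Nat.land (Nat.shiftRight ri 27) 7)) 3)))

/-- All tests on the voltages at the twelve images of a point. -/
noncomputable def vpairTests (D R ri : Nat) : Bool :=
    both (Nat.beq (Nat.land (Nat.shiftRight R 0) 7) (Nat.land (Nat.shiftRight ri 0) 7)) <|
    both (Nat.beq (Nat.land (Nat.shiftRight R 39) 7) (Nat.land (Nat.shiftRight ri 3) 7)) <|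
    both (Nat.beq (Nat.land (Nat.shiftRight R 78) 7) (Nat.land (Nat.shiftRight ri 6) 7)) <|
    both (Nat.beq (Nat.land (Nat.shiftRight R 117) 7) (Nat.land (Nat.shiftRight ri 9) 7)) <|
    both (Nat.beq (Nat.land (Nat.shiftRight R 156) 7) (Nat.land (Nat.shiftRight ri 12) 7)) <|
    both (Nat.beq (Nat.land (Nat.shiftRight R 195) 7) (Nat.land (Nat.shiftRight ri 15) 7)) <|
    both (Nat.beq (Nat.land (Nat.shiftRight R 234) 7) (Nat.land (Nat.shiftRight ri 18) 7)) <|
    both (Nat.beq (Nat.land (Nat.shiftRight R 273) 7) (Nat.land (Nat.shiftRight ri 21) 7)) <|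
    both (Nat.beq (Nat.land (Nat.shiftRight R 312) 7) (Nat.land (Nat.shiftRight ri 24) 7)) <|
    both (Nat.beq (Nat.land (Nat.shiftRight R 351) 7) (Nat.land (Nat.shiftRight ri 27) 7)) <|
    both (Nat.beq (Nat.land (Nat.shiftRight R 390) 7) (Nat.land (Nat.shiftRight ri 30) 7)) <|
    both (Nat.beq (Nat.land (Nat.shiftRight R 429) 7) (Nat.land (Nat.shiftRight ri 33) 7)) <|
    both (whenZero (Nat.land D 1) (vcomm0 D R ri)) <|
    both (whenZero (Nat.land D 2) (vcomm1 D R ri)) <|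
    both (whenZero (Nat.land D 4) (vcomm2 D R ri)) <|
    both (whenZero (Nat.land D 8) (vcomm3 D R ri)) <|
    both (whenZero (Nat.land D 16) (vcomm4 D R ri)) <|
    both (whenZero (Nat.land D 32) (vcomm5 D R ri)) <|
    both (whenZero (Nat.land D 64) (vcomm6 D R ri)) <|
    both (whenZero (Nat.land D 128) (vcomm7 D R ri)) <|
    both (whenZero (Nat.land D 256) (vcomm8 D R ri)) <|
    (whenZero (Nat.land D 512) (vcomm9 D R ri))

/-- The packed voltages of the image at bit `k` of the row `r`. -/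
noncomputable def vimg (k r : Nat) : Nat :=
  Nat.land (vrow (Nat.land (Nat.shiftRight r k) 524287)) 68719476735

/-- The packed voltages of the twelve images in a row. -/
noncomputable def vimgs (r : Nat) : Nat :=
  Nat.add (vimg 0 r)
  (Nat.mul 68719476736 (Nat.add (vimg 19 r)
  (Nat.mul 68719476736 (Nat.add (vimg 38 r)
  (Nat.mul 68719476736 (Nat.add (vimg 57 r)
  (Nat.mul 68719476736 (Nat.add (vimg 76 r)
  (Nat.mul 68719476736 (Nat.add (vimg 95 r)
  (Nat.mul 68719476736 (Nat.add (vimg 114 r)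
  (Nat.mul 68719476736 (Nat.add (vimg 133 r)
  (Nat.mul 68719476736 (Nat.add (vimg 152 r)
  (Nat.mul 68719476736 (Nat.add (vimg 171 r)
  (Nat.mul 68719476736 (Nat.add (vimg 190 r)
  (Nat.mul 68719476736 (vimg 209 r))))))))))))))))))))))

/-- Involutions and commuting pairs at a point. -/
noncomputable def vpairOk (i : Nat) : Bool :=
  force (row i) fun r => force (vrow i) fun ri => force (vimgs r) fun R => force (lowMask i r) fun D =>
    vpairTests D R ri

/-- One braid relation at a point. -/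
noncomputable def vbraidOk (x y i : Nat) : Bool :=
  force (img x i) fun a => force (img y i) fun b =>
    eq3 (Nat.add (vol x (img y a)) (Nat.add (Nat.mul 2 (vol y a)) (vol x i)))
      (Nat.add (vol y (img x b)) (Nat.add (Nat.mul 2 (vol x b)) (vol y i)))

/-- The braid relations needing a test, given the mask of lowering generators. -/
noncomputable def vbraidTests (i D : Nat) : Bool :=
    both (whenZero (Nat.land D 4091) (vbraidOk 0 1 i)) <|
    both (whenZero (Nat.land D 4086) (vbraidOk 1 2 i)) <|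
    both (whenZero (Nat.land D 4077) (vbraidOk 2 3 i)) <|
    both (whenZero (Nat.land D 4059) (vbraidOk 3 4 i)) <|
    both (whenZero (Nat.land D 2999) (vbraidOk 4 5 i)) <|
    both (whenZero (Nat.land D 2927) (vbraidOk 5 6 i)) <|
    both (whenZero (Nat.land D 1967) (vbraidOk 5 10 i)) <|
    both (whenZero (Nat.land D 3807) (vbraidOk 6 7 i)) <|
    both (whenZero (Nat.land D 3519) (vbraidOk 7 8 i)) <|
    both (whenZero (Nat.land D 3967) (vbraidOk 8 9 i)) <|
    (whenZero (Nat.land D 4063) (vbraidOk 10 11 i))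

/-- All braid relations at a point. -/
noncomputable def vbraidsOk (i : Nat) : Bool :=
  force (row i) fun r => force (lowMask i r) (vbraidTests i)

/-- The voltage of the path `cwPath` at a point. -/
noncomputable def cwVolOk (i : Nat) : Bool :=
  force (img 10 i) fun p1 =>
  force (img 7 p1) fun p2 =>
  force (img 6 p2) fun p3 =>
  force (img 5 p3) fun p4 =>
  force (img 4 p4) fun p5 =>
  force (img 3 p5) fun p6 =>
    eq3 (Nat.add (vol 10 i) (Nat.add (Nat.mul 2 (vol 7 p1)) (Nat.add (vol 6 p2) (Nat.add (Nat.mul 2 (vol 5 p3)) (Nat.add (vol 4 p4) (Nat.add (Nat.mul 2 (vol 3 p5)) (vol 2 p6))))))) (vol 12 i)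

/-- The voltage of the path `zwPath` at a point. -/
noncomputable def zwVolOk (i : Nat) : Bool :=
  force (img 5 i) fun p1 =>
  force (img 4 p1) fun p2 =>
  force (img 3 p2) fun p3 =>
  force (img 2 p3) fun p4 =>
  force (img 1 p4) fun p5 =>
  force (img 0 p5) fun p6 =>
  force (img 5 p6) fun p7 =>
  force (img 6 p7) fun p8 =>
  force (img 7 p8) fun p9 =>
  force (img 8 p9) fun p10 =>
  force (img 9 p10) fun p11 =>
  force (img 5 p11) fun p12 =>
  force (img 10 p12) fun p13 =>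
    eq3 (Nat.add (Nat.mul 2 (vol 5 i)) (Nat.add (vol 4 p1) (Nat.add (Nat.mul 2 (vol 3 p2)) (Nat.add (vol 2 p3) (Nat.add (Nat.mul 2 (vol 1 p4)) (Nat.add (vol 0 p5) (Nat.add (Nat.mul 2 (vol 5 p6)) (Nat.add (vol 6 p7) (Nat.add (Nat.mul 2 (vol 7 p8)) (Nat.add (vol 8 p9) (Nat.add (Nat.mul 2 (vol 9 p10)) (Nat.add (vol 5 p11) (Nat.add (Nat.mul 2 (vol 10 p12)) (vol 11 p13)))))))))))))) (vol 13 i)

/-- The E7 relator at a point. -/
noncomputable def e7VolOk (i : Nat) : Bool :=
  force (powE i) fun u1 => whenHigh i u1 <| force (powE u1) fun u2 => whenHigh i u2 <|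
  force (powE u2) fun u3 => whenHigh i u3 <| force (powE u3) fun u4 => whenHigh i u4 <|
  force (powE u4) fun u5 => force (powE u5) fun u6 => force (powE u6) fun u7 => force (powE u7) fun u8 =>
    eq3 (Nat.add (Nat.add (Nat.add (Nat.add (vol 12 i) (vol 12 u2)) (vol 12 u4)) (Nat.add (vol 12 u6) (vol 12 u8)))
      (Nat.mul 2 (Nat.add (Nat.add (vol 12 u1) (vol 12 u3)) (Nat.add (vol 12 u5) (vol 12 u7))))) (vol 0 i)

/-- The relator z at a point. -/
noncomputable def zVolOk (i : Nat) : Bool :=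
  force (powZ i) fun u1 => whenHigh i u1 <| force (powZ u1) fun u2 => whenHigh i u2 <|
  force (powZ u2) fun u3 => whenHigh i u3 <| force (powZ u3) fun u4 => whenHigh i u4 <|
  force (powZ u4) fun u5 =>
  force (powZ u5) fun u6 =>
  force (powZ u6) fun u7 =>
  force (powZ u7) fun u8 =>
  force (powZ u8) fun u9 =>
  force (powZ u9) fun u10 =>
  force (powZ u10) fun u11 =>
  force (powZ u11) fun u12 =>
  force (powZ u12) fun u13 =>
  force (powZ u13) fun u14 =>
  force (powZ u14) fun u15 =>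
  force (powZ u15) fun u16 =>
    eq3 (Nat.add (vol 13 i)
      (Nat.add (vol 13 u1)
      (Nat.add (vol 13 u2)
      (Nat.add (vol 13 u3)
      (Nat.add (vol 13 u4)
      (Nat.add (vol 13 u5)
      (Nat.add (vol 13 u6)
      (Nat.add (vol 13 u7)
      (Nat.add (vol 13 u8)
      (Nat.add (vol 13 u9)
      (Nat.add (vol 13 u10)
      (Nat.add (vol 13 u11)
      (Nat.add (vol 13 u12)
      (Nat.add (vol 13 u13)
      (Nat.add (vol 13 u14)
      (Nat.add (vol 13 u15)
      (vol 13 u16))))))))))))))))) 1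

/-- All tests at a point. -/
noncomputable def coverOk (i : Nat) : Bool :=
  both (vpairOk i) <| both (vbraidsOk i) <| both (cwVolOk i) <| both (zwVolOk i) <| both (e7VolOk i) (zVolOk i)

end Cfsg.Agent.Fi24Cover87
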