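import Cfsg.Agent.Lib.Fi24Cover87Sound
import Cfsg.Prelude.Def_KGroupFacts

/-!
The group generated by the pairs of a generator of Fi24 and its lift is an extension of Fi24 by a group of
order three which every generator inverts; its derived subgroup is a stem extension of Fi24' with that kernel.
-/

set_option autoImplicit false
set_option linter.constructorNameAsVariable false
set_option linter.style.haveILetI false

namespace Cfsg.Agent.Fi24Cover87

open Cfsg.Agent.CosetCertCore Cfsg.Agent.CosetCertTable Cfsg.Agent.CosetCertPres Fi24Core64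
open Cfsg.Agent.Fi24Table88 (img edgeList commList CommPair)
open scoped commutatorElement

attribute [local irreducible] vrow img Fi24Table88.row

/-- Twelve involutions satisfying all relators give a map from Fi24. -/
theorem exists_lift {Q : Type} [Group Q] (f : Nat → Q) (hsq : ∀ x, f x * f x = 1)
    (hrel : ∀ w ∈ P24.relWords, val f w = 1) : ∃ φ : G24 →* Q, ∀ x < 12, φ (gg x) = f x := by
  have hidx : ∀ x < 12, P24.gens.idxOf (P24.gen x) = x := by decide
  have hr : ∀ r ∈ Cfsg.Spor.coxRelators P24.edges ∪ {r | r ∈ P24.extraRels},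
      FreeGroup.lift (fun a => f (P24.gens.idxOf a)) r = 1 := by
    rintro r (⟨a, -, b, -, rfl⟩ | hr)
    · rw [map_pow, map_mul, FreeGroup.lift_apply_of, FreeGroup.lift_apply_of]
      have hb := List.idxOf_lt_length_of_mem (good.complete b)
      have ha := List.idxOf_lt_length_of_mem (good.complete a)
      have main : ∀ a b : P24.α, P24.gens.idxOf a ≤ P24.gens.idxOf b → P24.gens.idxOf b < P24.gens.length →
          (f (P24.gens.idxOf a) * f (P24.gens.idxOf b)) ^ Cfsg.Spor.coxLabel P24.edges a b = 1 := by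
        intro a b hab hb
        have hm := hrel _ (pairWord_mem hab hb)
        unfold Pres.pairWord at hm
        split at hm
        · rename_i he
          rw [he, hsq, one_pow]
        · rw [val_replicate] at hm
          simp only [val_cons, val_nil, mul_one, gen_idxOf good] at hm
          exact hm
      rcases le_total (P24.gens.idxOf a) (P24.gens.idxOf b) with hab | hab
      · exact main a b hab hb
      · have := main b a hab ha
        rw [good.symm b a] at this
        rw [← inv_eq_one, ← inv_pow, mul_inv_rev, inv_of_sq _ hsq, inv_of_sq _ hsq]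
        exact this
    · obtain ⟨e, he, rfl⟩ := List.mem_map.mp hr
      rw [map_eval]
      have hl : val f e.letters = 1 :=
        hrel _ (List.mem_append_right _ (List.mem_map.mpr ⟨e, he, rfl⟩))
      rw [val_letters _ hsq] at hl
      refine Eq.trans ?_ hl
      have hgens : ∀ e ∈ P24.extra, ∀ x ∈ e.letters, x < 12 := by decide +kernel
      rw [← val_letters _ (fun x => by simp [hsq]) e, ← val_letters _ hsq e]
      refine val_congr _ _ fun x hx => ?_
      rw [FreeGroup.lift_apply_of, hidx x (hgens e he x hx)]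
  refine ⟨PresentedGroup.toGroup hr, fun x hx => ?_⟩
  show PresentedGroup.toGroup hr (PresentedGroup.of (P24.gen x)) = f x
  rw [PresentedGroup.toGroup.of, hidx x hx]

theorem val_map {A B : Type} [Group A] [Group B] (f : A →* B) (g : Nat → A) (w : List Nat) :
    f (val g w) = val (fun x => f (g x)) w := by
  rw [val, val, map_list_prod, List.map_map]
  rfl

theorem val_const {A : Type} [Group A] (g : Nat → A) (a : A) (w : List Nat) (h : ∀ x ∈ w, g x = a) :
    val g w = a ^ w.length := by
  induction w with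
  | nil => rw [val_nil, List.length_nil, pow_zero]
  | cons x w ih =>
    rw [val_cons, h x List.mem_cons_self, ih fun y hy => h y (List.mem_cons_of_mem _ hy), List.length_cons,
      pow_succ']

theorem all_eq_zero {A : Type} (f : Nat → A) (h : ∀ e ∈ edgeList, f e.1 = f e.2.1) :
    ∀ x < 12, f x = f 0 := by
  simp only [edgeList, List.forall_mem_cons, List.not_mem_nil, IsEmpty.forall_iff, implies_true,
    and_true] at h
  obtain ⟨h1, h2, h3, h4, h5, h6, h7, h8, h9, h10, h11⟩ := h
  have e1 := h1.symm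
  have e2 := h2.symm.trans e1
  have e3 := h3.symm.trans e2
  have e4 := h4.symm.trans e3
  have e5 := h5.symm.trans e4
  have e6 := h6.symm.trans e5
  have e10 := h7.symm.trans e5
  have e7 := h8.symm.trans e6
  have e8 := h9.symm.trans e7
  have e9 := h10.symm.trans e8
  have e11 := h11.symm.trans e10
  intro x hx
  interval_cases x <;> first | rfl | assumption

/-- The points of the cover. -/
abbrev Pt : Type := Fin 306936 × ZMod 3

/-- A point as a pair of a number and a residue. -/
def toN (p : Pt) : Nat × ZMod 3 := (p.1.val, p.2)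

theorem toN_inj {p q : Pt} (h : toN p = toN q) : p = q :=
  Prod.ext (Fin.ext (congrArg Prod.fst h :)) (congrArg Prod.snd h :)

variable (hv : Valid)
include hv

/-- The lift of generator `x` as a permutation. -/
noncomputable def cperm (x : Nat) : Equiv.Perm Pt :=
  if hx : x < 12 then
    { toFun := fun p => (⟨(cimg x (toN p)).1, hv.lt hx p.1.isLt⟩, (cimg x (toN p)).2)
      invFun := fun p => (⟨(cimg x (toN p)).1, hv.lt hx p.1.isLt⟩, (cimg x (toN p)).2)
      left_inv := fun p => toN_inj (hv.sq hx p.1.isLt)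
      right_inv := fun p => toN_inj (hv.sq hx p.1.isLt) }
  else 1

theorem toN_cperm {x : Nat} (hx : x < 12) (p : Pt) : toN (cperm hv x p) = cimg x (toN p) := by
  rw [cperm, dif_pos hx]
  rfl

theorem cperm_sq (x : Nat) : cperm hv x * cperm hv x = 1 := by
  by_cases hx : x < 12
  · refine Equiv.ext fun p => toN_inj ?_
    rw [Equiv.Perm.mul_apply, toN_cperm hv hx, toN_cperm hv hx, Equiv.Perm.one_apply]
    exact hv.sq hx p.1.isLt
  · rw [cperm, dif_neg hx, mul_one]

theorem toN_act (w : List Nat) (hw : ∀ x ∈ w, x < 12) (p : Pt) :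
    toN ((val (cperm hv) w)⁻¹ p) = cimgs w (toN p) := by
  rw [← Equiv.Perm.smul_def, ← act_eq _ (cperm_sq hv)]
  induction w generalizing p with
  | nil => rfl
  | cons x w ih =>
    rw [act_cons, ih (fun y hy => hw y (List.mem_cons_of_mem _ hy)), Equiv.Perm.smul_def,
      toN_cperm hv (hw x List.mem_cons_self)]
    rfl

theorem val_cperm_one {w : List Nat} (hw : w ∈ coxWords ∨ w = e7Word) : val (cperm hv) w = 1 := by
  have hlt : ∀ w ∈ P24.relWords, ∀ x ∈ w, x < 12 := by decide +kernel
  have hmem : w ∈ P24.relWords := by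
    rw [relWords_eq]
    rcases hw with hw | rfl
    · exact List.mem_append_left _ hw
    · exact List.mem_append_right _ List.mem_cons_self
  rw [← inv_eq_one]
  refine Equiv.ext fun p => toN_inj ?_
  rw [toN_act hv w (hlt w hmem), Equiv.Perm.one_apply]
  rcases hw with hw | rfl
  · exact hv.cimgs_cox hw p.1.isLt
  · exact hv.cimgs_e7 p.1.isLt

/-- The lift of the relator z. -/
noncomputable def tau : Equiv.Perm Pt := val (cperm hv) zWord

theorem toN_tau_inv (p : Pt) : toN ((tau hv)⁻¹ p) = tr (toN p) :=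
  (toN_act hv zWord (by decide +kernel) p).trans (hv.cimgs_z p.1.isLt)

theorem tau_apply (p : Pt) : tau hv p = (p.1, p.2 - 1) := by
  have h : (tau hv)⁻¹ (p.1, p.2 - 1) = p :=
    toN_inj ((toN_tau_inv hv _).trans (Prod.ext rfl (sub_add_cancel p.2 1)))
  conv_lhs => rw [← h]
  rw [Equiv.Perm.coe_inv, Equiv.apply_symm_apply]

theorem tau_cube : tau hv ^ 3 = 1 := by
  refine Equiv.ext fun p => ?_
  rw [pow_succ, pow_two, Equiv.Perm.mul_apply, Equiv.Perm.mul_apply, tau_apply, tau_apply, tau_apply,
    Equiv.Perm.one_apply]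
  refine Prod.ext rfl ?_
  show p.2 - 1 - 1 - 1 = p.2
  rw [sub_sub, sub_sub, show (1 : ZMod 3) + (1 + 1) = 0 by decide, sub_zero]

theorem tau_ne : tau hv ≠ 1 := by
  intro h
  have h2 := congrArg Prod.snd ((tau_apply hv (⟨0, by decide⟩, 0)).symm.trans (by rw [h, Equiv.Perm.one_apply]))
  exact absurd h2 (by decide)

theorem cperm_tau {x : Nat} (hx : x < 12) : cperm hv x * tau hv * cperm hv x = (tau hv)⁻¹ := by
  refine Equiv.ext fun p => toN_inj ?_
  rw [Equiv.Perm.mul_apply, Equiv.Perm.mul_apply, toN_cperm hv hx, tau_apply, toN_tau_inv]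
  have hq := toN_cperm hv hx p
  have h1 : (cimg x (cimg x (toN p))) = toN p := hv.sq hx p.1.isLt
  rw [← hq] at h1
  generalize cperm hv x p = q at h1 ⊢
  rw [← h1]
  refine Prod.ext rfl ?_
  show vv x q.1 - (q.2 - 1) = vv x q.1 - q.2 + 1
  ring

/-- A generator of Fi24 with its lift. -/
noncomputable def pairGen (x : Nat) : G24 × Equiv.Perm Pt := (gg x, cperm hv x)

theorem val_pairGen (w : List Nat) : val (pairGen hv) w = (val gg w, val (cperm hv) w) := by
  induction w with
  | nil => rfl
  | cons x w ih => rw [val_cons, ih, val_cons, val_cons]; rfl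

/-- The group generated by the pairs. -/
noncomputable def K : Subgroup (G24 × Equiv.Perm Pt) :=
  Subgroup.closure {y | ∃ x, x < 12 ∧ y = pairGen hv x}

/-- The generators of the extension. -/
noncomputable def gk (x : Nat) : K hv :=
  if hx : x < 12 then ⟨pairGen hv x, Subgroup.subset_closure ⟨x, hx, rfl⟩⟩ else 1

theorem gk_coe {x : Nat} (hx : x < 12) : (gk hv x : G24 × Equiv.Perm Pt) = pairGen hv x := by
  rw [gk, dif_pos hx]

theorem gk_sq (x : Nat) : gk hv x * gk hv x = 1 := by
  by_cases hx : x < 12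
  · refine Subtype.ext ?_
    rw [Subgroup.coe_mul, gk_coe hv hx, Subgroup.coe_one]
    exact Prod.ext (invol x) (cperm_sq hv x)
  · rw [gk, dif_neg hx, mul_one]

theorem coe_val_gk (w : List Nat) (hw : ∀ x ∈ w, x < 12) :
    ((val (gk hv) w : K hv) : G24 × Equiv.Perm Pt) = (val gg w, val (cperm hv) w) := by
  rw [← val_pairGen hv]
  exact (val_map (K hv).subtype (gk hv) w).trans (val_congr _ _ fun x hx => gk_coe hv (hw x hx))

theorem closure_gk : Subgroup.closure {y | ∃ x, x < 12 ∧ y = gk hv x} = ⊤ := by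
  apply Subgroup.map_injective (K hv).subtype_injective
  rw [MonoidHom.map_closure, ← MonoidHom.range_eq_map, Subgroup.range_subtype]
  show _ = Subgroup.closure _
  congr 1
  ext y
  constructor
  · rintro ⟨_, ⟨x, hx, rfl⟩, rfl⟩
    exact ⟨x, hx, gk_coe hv hx⟩
  · rintro ⟨x, hx, rfl⟩
    exact ⟨gk hv x, ⟨x, hx, rfl⟩, gk_coe hv hx⟩

/-- The projection to Fi24. -/
noncomputable def proj : K hv →* G24 := (MonoidHom.fst _ _).comp (K hv).subtype

theorem proj_gk {x : Nat} (hx : x < 12) : proj hv (gk hv x) = gg x := by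
  show (gk hv x : G24 × Equiv.Perm Pt).1 = _
  rw [gk_coe hv hx]
  rfl

theorem proj_surj : Function.Surjective (proj hv) := by
  rw [← MonoidHom.range_eq_top, eq_top_iff, ← closure_gg good]
  refine (Subgroup.closure_le _).mpr ?_
  rintro _ ⟨x, hx, rfl⟩
  exact ⟨gk hv x, proj_gk hv hx⟩

/-- The generator of the kernel. -/
noncomputable def tK : K hv := val (gk hv) zWord

theorem tK_coe : (tK hv : G24 × Equiv.Perm Pt) = (1, tau hv) := by
  rw [tK, coe_val_gk hv zWord (by decide +kernel), val_z]
  rfl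

attribute [local irreducible] tK tau zWord

theorem orderOf_tK : orderOf (tK hv) = 3 := by
  haveI : Fact (Nat.Prime 3) := ⟨by norm_num⟩
  refine orderOf_eq_prime (Subtype.ext ?_) fun h => tau_ne hv ?_
  · rw [SubgroupClass.coe_pow, tK_coe, Subgroup.coe_one]
    exact Prod.ext (one_pow 3) (tau_cube hv)
  · have h2 := congrArg (fun y : K hv => (y : G24 × Equiv.Perm Pt).2) h
    simpa only [tK_coe, Subgroup.coe_one, Prod.snd_one] using h2

theorem conj_tK (y : K hv) : y * tK hv * y⁻¹ = tK hv ∨ y * tK hv * y⁻¹ = (tK hv)⁻¹ := by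
  have hy : y ∈ Subgroup.closure {y | ∃ x, x < 12 ∧ y = gk hv x} := by
    rw [closure_gk hv]; exact Subgroup.mem_top y
  induction hy using Subgroup.closure_induction with
  | mem y hy =>
    obtain ⟨x, hx, rfl⟩ := hy
    right
    refine Subtype.ext ?_
    rw [inv_of_sq _ (gk_sq hv) x, Subgroup.coe_mul, Subgroup.coe_mul, Subgroup.coe_inv, tK_coe,
      gk_coe hv hx]
    exact Prod.ext (show gg x * 1 * gg x = 1⁻¹ by rw [mul_one, invol, inv_one]) (cperm_tau hv hx)
  | one => left; simp
  | mul u w _ _ hu hw =>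
    have e : ∀ s, u * w * s * (u * w)⁻¹ = u * (w * s * w⁻¹) * u⁻¹ := fun s => by group
    have e' : u * (tK hv)⁻¹ * u⁻¹ = (u * tK hv * u⁻¹)⁻¹ := by group
    rw [e]
    rcases hw with hw | hw <;> rw [hw]
    · exact hu
    · rw [e']
      rcases hu with hu | hu <;> rw [hu]
      · exact Or.inr rfl
      · exact Or.inl (inv_inv _)
  | inv u _ hu =>
    rcases hu with hu | hu
    · left
      conv_lhs => rw [← hu]
      group
    · right
      have h : u⁻¹ * (u * tK hv * u⁻¹)⁻¹ * u⁻¹⁻¹ = (tK hv)⁻¹ := by group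
      rw [hu, inv_inv] at h
      exact h

theorem normal_zpowers : (Subgroup.zpowers (tK hv)).Normal := by
  refine ⟨fun n hn y => ?_⟩
  obtain ⟨k, rfl⟩ := Subgroup.mem_zpowers_iff.mp hn
  rw [← conj_zpow]
  rcases conj_tK hv y with h | h <;> rw [h]
  · exact Subgroup.zpow_mem _ (Subgroup.mem_zpowers _) k
  · exact Subgroup.zpow_mem _ (Subgroup.inv_mem _ (Subgroup.mem_zpowers _)) k

theorem ker_proj : (proj hv).ker = Subgroup.zpowers (tK hv) := by
  refine le_antisymm ?_ ((Subgroup.zpowers_le).mpr ?_)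
  · haveI := normal_zpowers hv
    let q := QuotientGroup.mk' (Subgroup.zpowers (tK hv))
    have hlt : ∀ w ∈ P24.relWords, ∀ x ∈ w, x < 12 := by decide +kernel
    have hrel : ∀ w ∈ P24.relWords, val (fun x => q (gk hv x)) w = 1 := by
      intro w hw
      rw [← val_map q]
      have hl := hlt w hw
      rw [relWords_eq, List.mem_append, List.mem_cons, List.mem_singleton] at hw
      rcases hw with hw | hw | hw
      · rw [show val (gk hv) w = 1 from Subtype.ext (by
          rw [coe_val_gk hv w hl, val_cox hw, val_cperm_one hv (Or.inl hw)]; rfl), map_one]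
      · rw [show val (gk hv) w = 1 from Subtype.ext (by
          rw [coe_val_gk hv w hl, hw, val_e7, val_cperm_one hv (Or.inr rfl)]; rfl), map_one]
      · subst hw
        rw [show val (gk hv) zWord = tK hv by rw [tK]]
        exact (QuotientGroup.eq_one_iff _).mpr (Subgroup.mem_zpowers _)
    obtain ⟨φ, hφ⟩ := exists_lift (fun x => q (gk hv x)) (fun x => by rw [← map_mul, gk_sq, map_one]) hrel
    have heq : φ.comp (proj hv) = q := by
      refine MonoidHom.eq_of_eqOn_dense (closure_gk hv) ?_
      rintro _ ⟨x, hx, rfl⟩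
      rw [MonoidHom.comp_apply, proj_gk hv hx, hφ x hx]
    intro y hy
    rw [← QuotientGroup.eq_one_iff]
    show q y = 1
    rw [← heq, MonoidHom.comp_apply, MonoidHom.mem_ker.mp hy, map_one]
  · show (tK hv : G24 × Equiv.Perm Pt).1 = 1
    rw [tK_coe]

theorem val_gk_cox {w : List Nat} (hw : w ∈ coxWords) : val (gk hv) w = 1 := by
  have hlt : ∀ w ∈ coxWords, ∀ x ∈ w, x < 12 := by decide +kernel
  refine Subtype.ext ?_
  rw [coe_val_gk hv w (hlt w hw), val_cox hw, val_cperm_one hv (Or.inl hw)]
  rfl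

theorem gk_braid {e : Nat × Nat × Nat} (he : e ∈ edgeList) : (gk hv e.1 * gk hv e.2.1) ^ 3 = 1 := by
  have h : ∀ e ∈ edgeList, (List.replicate 3 [e.1, e.2.1]).flatten ∈ coxWords := by decide +kernel
  have h2 := val_gk_cox hv (h e he)
  rwa [val_replicate, val_cons, val_cons, val_nil, mul_one] at h2

theorem gk_comm {p : Nat × Nat} (hp : p ∈ commList) : Commute (gk hv p.1) (gk hv p.2) := by
  have h : ∀ p ∈ commList, (List.replicate 2 [p.1, p.2]).flatten ∈ coxWords := by decide +kernel
  have h2 := val_gk_cox hv (h p hp)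
  rw [val_replicate, val_cons, val_cons, val_nil, mul_one, pow_two] at h2
  have h3 := eq_inv_of_mul_eq_one_left h2
  rw [mul_inv_rev, inv_of_sq _ (gk_sq hv), inv_of_sq _ (gk_sq hv)] at h3
  exact h3

theorem gk_commPair {z x : Nat} (h : CommPair z x) : Commute (gk hv z) (gk hv x) := by
  rcases h with h | h
  · exact gk_comm hv h
  · exact (gk_comm hv h).symm

theorem gk_mul_mem {x y : Nat} (hx : x < 12) (hy : y < 12) : gk hv x * gk hv y ∈ commutator (K hv) := by
  have h : ∀ e ∈ edgeList, Abelianization.of (gk hv e.1) = Abelianization.of (gk hv e.2.1) := by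
    intro e he
    have s1 : Abelianization.of (gk hv e.1) ^ 2 = 1 := by rw [pow_two, ← map_mul, gk_sq, map_one]
    have s2 : Abelianization.of (gk hv e.2.1) ^ 2 = 1 := by rw [pow_two, ← map_mul, gk_sq, map_one]
    have h3 := congrArg Abelianization.of (gk_braid hv he)
    rw [map_pow, map_mul, map_one, mul_pow, pow_succ _ 2, pow_succ _ 2, s1, s2, one_mul, one_mul] at h3
    rw [eq_inv_of_mul_eq_one_left h3, ← map_inv, inv_of_sq _ (gk_sq hv)]
  have hall := all_eq_zero (fun x => Abelianization.of (gk hv x)) h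
  rw [← Abelianization.ker_of, MonoidHom.mem_ker, map_mul, hall x hx, hall y hy, ← map_mul, gk_sq, map_one]

theorem tK_mem_derived : tK hv ∈ ⁅commutator (K hv), commutator (K hv)⁆ := by
  let q := QuotientGroup.mk' ⁅commutator (K hv), commutator (K hv)⁆
  have hc : ∀ u ∈ commutator (K hv), ∀ w ∈ commutator (K hv), Commute (q u) (q w) := by
    intro u hu w hw
    rw [← commutatorElement_eq_one_iff_commute, ← map_commutatorElement]
    exact (QuotientGroup.eq_one_iff _).mpr (Subgroup.commutator_mem_commutator hu hw)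
  have third : ∀ e ∈ edgeList, e.1 < 12 ∧ e.2.1 < 12 ∧ ∃ z ∈ [0, 3, 4], z < 12 ∧
      ((z, e.1) ∈ commList ∨ (e.1, z) ∈ commList) ∧ ((z, e.2.1) ∈ commList ∨ (e.2.1, z) ∈ commList) := by
    decide +kernel
  have h : ∀ e ∈ edgeList, q (gk hv e.1) = q (gk hv e.2.1) := by
    intro e he
    obtain ⟨hx, hy, z, -, hz, cx, cy⟩ := third e he
    have cxy := hc _ (gk_mul_mem hv hx hz) _ (gk_mul_mem hv hy hz)
    have sx : (gk hv e.1 * gk hv z) * (gk hv e.1 * gk hv z) = 1 := by
      rw [(gk_commPair hv cx).mul_mul_mul_comm, gk_sq, gk_sq, one_mul]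
    have sy : (gk hv e.2.1 * gk hv z) * (gk hv e.2.1 * gk hv z) = 1 := by
      rw [(gk_commPair hv cy).mul_mul_mul_comm, gk_sq, gk_sq, one_mul]
    have exy : (gk hv e.1 * gk hv z) * (gk hv e.2.1 * gk hv z) = gk hv e.1 * gk hv e.2.1 := by
      rw [(gk_commPair hv cy).symm.eq, mul_assoc, ← mul_assoc (gk hv z),
        gk_sq, one_mul]
    have h2 : q (gk hv e.1 * gk hv e.2.1) ^ 2 = 1 := by
      rw [← exy, map_mul, cxy.mul_pow, pow_two, pow_two, ← map_mul q, ← map_mul q, sx, sy, map_one, one_mul]
    have h3 : q (gk hv e.1 * gk hv e.2.1) ^ 3 = 1 := by rw [← map_pow, gk_braid hv he, map_one]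
    rw [pow_succ, h2, one_mul, map_mul] at h3
    rw [eq_inv_of_mul_eq_one_left h3, ← map_inv, inv_of_sq _ (gk_sq hv)]
  have hall := all_eq_zero (fun x => q (gk hv x)) h
  rw [← QuotientGroup.eq_one_iff]
  show q (tK hv) = 1
  rw [tK]
  rw [val_map q, val_const _ (q (gk hv 0)) zWord fun x hx =>
    hall x ((show ∀ x ∈ zWord, x < 12 by decide +kernel) x hx)]
  rw [show zWord.length = 2 * 119 by decide +kernel, pow_mul, pow_two, ← map_mul, gk_sq, map_one, one_pow]

theorem commute_tK {y : K hv} (hy : y ∈ commutator (K hv)) : Commute y (tK hv) := by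
  have h : commutator (K hv) ≤ Subgroup.centralizer {tK hv} := by
    rw [commutator_def, Subgroup.commutator_le]
    intro u _ w _
    rw [Subgroup.mem_centralizer_singleton_iff]
    have key : ⁅u, w⁆ * tK hv * ⁅u, w⁆⁻¹ = tK hv := by
      have e : ⁅u, w⁆ * tK hv * ⁅u, w⁆⁻¹ =
          u * (w * (u⁻¹ * (w⁻¹ * tK hv * w) * u) * w⁻¹) * u⁻¹ := by
        rw [commutatorElement_def]; group
      rw [e]
      have inv_conj : ∀ u : K hv, u⁻¹ * tK hv * u = u * tK hv * u⁻¹ := by
        intro u
        rcases conj_tK hv u with h | h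
        · rw [h]; conv_lhs => rw [← h]
          group
        · rw [h]
          have h' : u⁻¹ * (u * tK hv * u⁻¹)⁻¹ * u = (tK hv)⁻¹ := by group
          rw [h, inv_inv] at h'
          exact h'
      have conj_inv : ∀ u : K hv, u * (tK hv)⁻¹ * u⁻¹ = (u * tK hv * u⁻¹)⁻¹ := fun u => by group
      have conj_inv' : ∀ u : K hv, u⁻¹ * (tK hv)⁻¹ * u = (u⁻¹ * tK hv * u)⁻¹ := fun u => by group
      rw [inv_conj w]
      rcases conj_tK hv w with hw | hw <;> rcases conj_tK hv u with hu | hu <;>
        simp only [hw, hu, conj_inv, conj_inv', inv_conj, inv_inv]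
    rw [← mul_inv_eq_iff_eq_mul]
    exact key
  exact (Subgroup.mem_centralizer_singleton_iff.mp (h hy))

theorem exists_stem_of (hfin : Finite G24) :
    ∃ (Γ : Type) (_ : Group Γ) (_ : Finite Γ) (σ : Γ →* Cfsg.Spor.Fi24'),
      Cfsg.IsStemExtension σ ∧ Nat.card σ.ker = 3 := by
  have hmap : (commutator (K hv)).map (proj hv) = commutator G24 := by
    rw [commutator_def, commutator_def, Subgroup.map_commutator, ← MonoidHom.range_eq_map,
      MonoidHom.range_eq_top.mpr (proj_surj hv)]
  let σ : ↥(commutator (K hv)) →* Cfsg.Spor.Fi24' :=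
    ((proj hv).comp (commutator (K hv)).subtype).codRestrict (commutator G24)
      fun y => hmap ▸ Subgroup.mem_map_of_mem _ y.2
  have ht : tK hv ∈ commutator (K hv) :=
    Subgroup.commutator_le_self _ (tK_mem_derived hv)
  have hker : σ.ker = Subgroup.zpowers (⟨tK hv, ht⟩ : ↥(commutator (K hv))) := by
    ext y
    rw [MonoidHom.mem_ker, Subgroup.mem_zpowers_iff]
    have h : σ y = 1 ↔ (y : K hv) ∈ Subgroup.zpowers (tK hv) := by
      rw [← ker_proj hv, MonoidHom.mem_ker]
      exact Subtype.ext_iff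
    rw [h, Subgroup.mem_zpowers_iff]
    simp only [Subtype.ext_iff, SubgroupClass.coe_zpow]
  refine ⟨↥(commutator (K hv)), inferInstance, ?_, σ, ⟨?_, ?_, ?_⟩, ?_⟩
  · haveI := hfin
    infer_instance
  · rintro ⟨b, hb⟩
    obtain ⟨a, ha, rfl⟩ : b ∈ (commutator (K hv)).map (proj hv) := by rw [hmap]; exact hb
    exact ⟨⟨a, ha⟩, Subtype.ext rfl⟩
  · rw [hker, Subgroup.zpowers_le, Subgroup.mem_center_iff]
    exact fun y => Subtype.ext (commute_tK hv y.2).eq
  · rw [hker, Subgroup.zpowers_le]
    have h := tK_mem_derived hv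
    rw [← Subgroup.map_subtype_commutator] at h
    obtain ⟨s, hs, e⟩ := h
    rwa [show (⟨tK hv, ht⟩ : ↥(commutator (K hv))) = s from Subtype.ext e.symm]
  · rw [hker, Nat.card_zpowers, Subgroup.orderOf_mk, orderOf_tK]

end Cfsg.Agent.Fi24Cover87
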