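import Cfsg.Agent.Lib.Fi24Cover87Spec

/-!
If the table and the voltages pass all tests then the twelve lifts satisfy the Coxeter relators and the E7
relator, and the word of the relator z is the translation by one in each fibre.
-/

set_option autoImplicit false

namespace Cfsg.Agent.Fi24Cover87

open Cfsg.Agent.CosetCertCore Cfsg.Agent.CosetCertTable Cfsg.Agent.CosetCertPres Fi24Core64
open Cfsg.Agent.Fi24Table88 (img row powE powZ edgeList commList cwPath zwPath edge_mask CommPair allOk_spec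
  longOk_spec imgs)

attribute [local irreducible] vrow img row powE powZ coverOk Fi24Table88.allOk

/-- All tests on the voltages pass. -/
def Passed : Prop := AllBelow coverOk 306936

/-- The table and its voltages pass all tests. -/
structure Valid : Prop where
  tbl : Fi24Table88.Passed
  cov : Passed

/-- The translation by one in each fibre. -/
def tr (p : Nat × ZMod 3) : Nat × ZMod 3 := (p.1, p.2 + 1)

theorem CW_iterate_fst (n : Nat) (p : Nat × ZMod 3) : (CW^[n] p).1 = powE^[n] p.1 := by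
  induction n generalizing p with
  | zero => rfl
  | succ n ih => rw [Function.iterate_succ_apply, ih, Function.iterate_succ_apply, CW]

theorem ZW_iterate_fst (n : Nat) (p : Nat × ZMod 3) : (ZW^[n] p).1 = powZ^[n] p.1 := by
  induction n generalizing p with
  | zero => rfl
  | succ n ih => rw [Function.iterate_succ_apply, ih, Function.iterate_succ_apply, ZW]

theorem cimgs_fst (w : List Nat) (p : Nat × ZMod 3) : (cimgs w p).1 = imgs w p.1 := by
  induction w generalizing p with
  | nil => rfl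
  | cons x w ih => exact ih (cimg x p)

theorem cimgs_append (w w' : List Nat) (p : Nat × ZMod 3) : cimgs (w ++ w') p = cimgs w' (cimgs w p) :=
  List.foldl_append

theorem cimgs_flatten_replicate (w : List Nat) (n : Nat) (p : Nat × ZMod 3) :
    cimgs (List.replicate n w).flatten p = (cimgs w)^[n] p := by
  induction n generalizing p with
  | zero => rfl
  | succ n ih => rw [List.replicate_succ, List.flatten_cons, cimgs_append, ih, Function.iterate_succ_apply]

theorem iterate_congr_lt {f g : Nat × ZMod 3 → Nat × ZMod 3} (hfg : ∀ p, p.1 < 306936 → f p = g p)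
    (hg : ∀ p, p.1 < 306936 → (g p).1 < 306936) : ∀ (n : Nat) p, p.1 < 306936 →
      f^[n] p = g^[n] p ∧ (g^[n] p).1 < 306936 := by
  intro n
  induction n with
  | zero => exact fun p hp => ⟨rfl, hp⟩
  | succ n ih =>
    intro p hp
    rw [Function.iterate_succ_apply, Function.iterate_succ_apply, hfg p hp]
    exact ih _ (hg p hp)

variable (hv : Valid)
include hv

theorem Valid.spec {i : Nat} (hi : i < 306936) : vpairOk i = true ∧ vbraidsOk i = true ∧ cwVolOk i = true ∧
    zwVolOk i = true ∧ e7VolOk i = true ∧ zVolOk i = true := coverOk_spec i (hv.cov i hi)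

theorem Valid.lt {x : Nat} (hx : x < 12) {p : Nat × ZMod 3} (hp : p.1 < 306936) :
    (cimg x p).1 < 306936 := hv.tbl.lt hx hp

theorem Valid.sq {x : Nat} (hx : x < 12) {p : Nat × ZMod 3} (hp : p.1 < 306936) :
    cimg x (cimg x p) = p := by
  obtain ⟨i, v⟩ := p
  refine Prod.ext (hv.tbl.sq hx hp) ?_
  have h := (vpairOk_spec i (hv.spec hp).1).1 x hx
  show vv x (img x i) - (vv x i - v) = v
  rw [vv, vv, h, sub_sub_cancel]

theorem Valid.inj {x : Nat} (hx : x < 12) {p q : Nat × ZMod 3} (hp : p.1 < 306936) (hq : q.1 < 306936)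
    (h : cimg x p = cimg x q) : p = q := by
  rw [← hv.sq hx hp, h, hv.sq hx hq]

theorem Valid.comm : ∀ i < 306936, ∀ p ∈ commList, ∀ v : ZMod 3,
    cimg p.2 (cimg p.1 (i, v)) = cimg p.1 (cimg p.2 (i, v)) := by
  intro i
  induction i using Nat.strong_induction_on with
  | _ i ih =>
    intro hi p hp v
    have hlt : p.1 < 12 ∧ p.2 < 12 := by
      have : ∀ q ∈ commList, q.1 < 12 ∧ q.2 < 12 := by decide
      exact this p hp
    obtain ⟨x, y⟩ := p
    obtain ⟨hx, hy⟩ := hlt
    dsimp only at hx hy ⊢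
    have hi' : ((i, v) : Nat × ZMod 3).1 < 306936 := hi
    by_cases ha : img x i < i
    · have h := ih _ ha (hv.lt hx hi') _ hp (cimg x (i, v)).2
      dsimp only at h
      rw [show (img x i, (cimg x (i, v)).2) = cimg x (i, v) from rfl, hv.sq hx hi'] at h
      have h2 := congrArg (cimg x) h
      rw [hv.sq hx (hv.lt hy (hv.lt hx hi'))] at h2
      exact h2.symm
    by_cases hb : img y i < i
    · have h := ih _ hb (hv.lt hy hi') _ hp (cimg y (i, v)).2
      dsimp only at h
      rw [show (img y i, (cimg y (i, v)).2) = cimg y (i, v) from rfl, hv.sq hy hi'] at h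
      have h2 := congrArg (cimg y) h
      rw [hv.sq hy (hv.lt hx (hv.lt hy hi'))] at h2
      exact h2.symm
    have h := (vpairOk_spec i (hv.spec hi).1).2 _ hp (Nat.le_of_not_lt ha) (Nat.le_of_not_lt hb)
    refine Prod.ext (hv.tbl.comm i hi _ hp) ?_
    show vv y (img x i) - (vv x i - v) = vv x (img y i) - (vv y i - v)
    dsimp only [vv] at h ⊢
    linear_combination h

theorem Valid.commPair {z x : Nat} (h : CommPair z x) {p : Nat × ZMod 3} (hp : p.1 < 306936) :
    cimg z (cimg x p) = cimg x (cimg z p) := by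
  rcases h with h | h
  · exact (hv.comm p.1 hp _ h p.2).symm
  · exact hv.comm p.1 hp _ h p.2

theorem Valid.braid : ∀ i < 306936, ∀ e ∈ edgeList, ∀ v : ZMod 3,
    cimg e.1 (cimg e.2.1 (cimg e.1 (i, v))) = cimg e.2.1 (cimg e.1 (cimg e.2.1 (i, v))) := by
  intro i
  induction i using Nat.strong_induction_on with
  | _ i ih =>
    intro hi e he v
    obtain ⟨hx, hy, hm⟩ := edge_mask e he
    have hi' : ((i, v) : Nat × ZMod 3).1 < 306936 := hi
    by_cases hz : ∀ z < 12, Nat.testBit e.2.2 z = true → i ≤ img z i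
    · have h := vbraidsOk_spec i (hv.spec hi).2.1 e he hz
      refine Prod.ext (hv.tbl.braid i hi e he) ?_
      show vv e.1 (img e.2.1 (img e.1 i)) - (vv e.2.1 (img e.1 i) - (vv e.1 i - v)) =
        vv e.2.1 (img e.1 (img e.2.1 i)) - (vv e.1 (img e.2.1 i) - (vv e.2.1 i - v))
      linear_combination h
    push Not at hz
    obtain ⟨z, hz12, hzm, hzi⟩ := hz
    have h := ih _ hzi (hv.lt hz12 hi') e he (cimg z (i, v)).2
    rw [show (img z i, (cimg z (i, v)).2) = cimg z (i, v) from rfl] at h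
    rcases hm z hz12 hzm with rfl | rfl | ⟨hc1, hc2⟩
    · rw [hv.sq hx hi'] at h
      have h2 := congrArg (cimg e.2.1) h
      rw [hv.sq hy (hv.lt hx (hv.lt hy (hv.lt hx hi')))] at h2
      exact h2.symm
    · rw [hv.sq hy hi'] at h
      have h2 := congrArg (cimg e.1) h
      rw [hv.sq hx (hv.lt hy (hv.lt hx (hv.lt hy hi')))] at h2
      exact h2.symm
    · have l1 := hv.lt hx hi'
      have l2 := hv.lt hy hi'
      rw [← hv.commPair hc1 hi', ← hv.commPair hc2 l1, ← hv.commPair hc1 (hv.lt hy l1),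
        ← hv.commPair hc2 hi', ← hv.commPair hc1 l2, ← hv.commPair hc2 (hv.lt hx l2)] at h
      exact hv.inj hz12 (hv.lt hx (hv.lt hy l1)) (hv.lt hy (hv.lt hx l2)) h

theorem Valid.cimgs_lt {w : List Nat} (hw : ∀ x ∈ w, x < 12) {p : Nat × ZMod 3} (hp : p.1 < 306936) :
    (cimgs w p).1 < 306936 := by
  induction w generalizing p with
  | nil => exact hp
  | cons x w ih =>
    exact ih (fun y hy => hw y (List.mem_cons_of_mem _ hy)) (hv.lt (hw x List.mem_cons_self) hp)

theorem Valid.cimgs_inj {w : List Nat} (hw : ∀ x ∈ w, x < 12) {p q : Nat × ZMod 3} (hp : p.1 < 306936)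
    (hq : q.1 < 306936) (h : cimgs w p = cimgs w q) : p = q := by
  induction w generalizing p q with
  | nil => exact h
  | cons x w ih =>
    have hx := hw x List.mem_cons_self
    exact hv.inj hx hp hq (ih (fun y hy => hw y (List.mem_cons_of_mem _ hy)) (hv.lt hx hp) (hv.lt hx hq) h)

theorem Valid.cimg_cimgs {z : Nat} {w : List Nat} (hz : z < 12) (hw : ∀ x ∈ w, x < 12 ∧ CommPair z x)
    {p : Nat × ZMod 3} (hp : p.1 < 306936) : cimg z (cimgs w p) = cimgs w (cimg z p) := by
  induction w generalizing p with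
  | nil => rfl
  | cons x w ih =>
    obtain ⟨hx, hc⟩ := hw x List.mem_cons_self
    show cimg z (cimgs w (cimg x p)) = cimgs w (cimg x (cimg z p))
    rw [ih (fun y hy => hw y (List.mem_cons_of_mem _ hy)) (hv.lt hx hp), hv.commPair hc hp]

theorem Valid.cw_step {p : Nat × ZMod 3} (hp : p.1 < 306936) :
    cimgs cwPath p = CW p ∧ (CW p).1 < 306936 := by
  have h : cimgs cwPath p = CW p := (cwVolOk_spec p.1 (hv.spec hp).2.2.1 p.2).trans <| by
    rw [CW, (longOk_spec p.1 (allOk_spec p.1 (hv.tbl p.1 hp)).2.2).1]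
  exact ⟨h, h ▸ hv.cimgs_lt (by decide) hp⟩

theorem Valid.zw_step {p : Nat × ZMod 3} (hp : p.1 < 306936) :
    cimgs zwPath p = ZW p ∧ (ZW p).1 < 306936 := by
  have h : cimgs zwPath p = ZW p := (zwVolOk_spec p.1 (hv.spec hp).2.2.2.1 p.2).trans <| by
    rw [ZW, (longOk_spec p.1 (allOk_spec p.1 (hv.tbl p.1 hp)).2.2).2.2.1]
  exact ⟨h, h ▸ hv.cimgs_lt (by decide) hp⟩

theorem Valid.cw_iterate (n : Nat) {p : Nat × ZMod 3} (hp : p.1 < 306936) :
    (cimgs cwPath)^[n] p = CW^[n] p ∧ (CW^[n] p).1 < 306936 :=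
  iterate_congr_lt (fun _ h => (hv.cw_step h).1) (fun _ h => (hv.cw_step h).2) n p hp

theorem Valid.zw_iterate (n : Nat) {p : Nat × ZMod 3} (hp : p.1 < 306936) :
    (cimgs zwPath)^[n] p = ZW^[n] p ∧ (ZW^[n] p).1 < 306936 :=
  iterate_congr_lt (fun _ h => (hv.zw_step h).1) (fun _ h => (hv.zw_step h).2) n p hp

theorem Valid.CW_iterate_inj (n : Nat) : ∀ {p q : Nat × ZMod 3}, p.1 < 306936 → q.1 < 306936 →
    CW^[n] p = CW^[n] q → p = q := by
  induction n with
  | zero => exact fun _ _ h => h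
  | succ n ih =>
    intro p q hp hq h
    rw [Function.iterate_succ_apply, Function.iterate_succ_apply] at h
    have h' := ih (hv.cw_step hp).2 (hv.cw_step hq).2 h
    rw [← (hv.cw_step hp).1, ← (hv.cw_step hq).1] at h'
    exact hv.cimgs_inj (by decide) hp hq h'

theorem Valid.ZW_iterate_inj (n : Nat) : ∀ {p q : Nat × ZMod 3}, p.1 < 306936 → q.1 < 306936 →
    ZW^[n] p = ZW^[n] q → p = q := by
  induction n with
  | zero => exact fun _ _ h => h
  | succ n ih =>
    intro p q hp hq h
    rw [Function.iterate_succ_apply, Function.iterate_succ_apply] at h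
    have h' := ih (hv.zw_step hp).2 (hv.zw_step hq).2 h
    rw [← (hv.zw_step hp).1, ← (hv.zw_step hq).1] at h'
    exact hv.cimgs_inj (by decide) hp hq h'

theorem Valid.CW_zero (n : Nat) {p : Nat × ZMod 3} (hp : p.1 < 306936) :
    cimg 0 (CW^[n] p) = CW^[n] (cimg 0 p) := by
  induction n generalizing p with
  | zero => rfl
  | succ n ih =>
    have h0 : (0 : Nat) < 12 := by decide
    rw [Function.iterate_succ_apply, Function.iterate_succ_apply, ih (hv.cw_step hp).2,
      ← (hv.cw_step hp).1, ← (hv.cw_step (hv.lt h0 hp)).1,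
      hv.cimg_cimgs h0 (by unfold CommPair; decide) hp]

omit hv in
theorem ZW_tr (n : Nat) (p : Nat × ZMod 3) : ZW^[n] (tr p) = tr (ZW^[n] p) := by
  induction n generalizing p with
  | zero => rfl
  | succ n ih =>
    rw [Function.iterate_succ_apply, Function.iterate_succ_apply, ← ih]
    congr 1
    exact Prod.ext rfl (add_assoc _ _ _).symm

theorem Valid.CW_nine : ∀ i < 306936, ∀ v : ZMod 3, CW^[9] (i, v) = cimg 0 (i, v) := by
  intro i
  induction i using Nat.strong_induction_on with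
  | _ i ih =>
    intro hi v
    have hi' : ((i, v) : Nat × ZMod 3).1 < 306936 := hi
    by_cases hmin : ∀ k : Nat, 1 ≤ k → k ≤ 4 → i ≤ powE^[k] i
    · refine Prod.ext ?_ (e7VolOk_spec i (hv.spec hi).2.2.2.2.1 hmin v)
      rw [CW_iterate_fst]
      exact (longOk_spec i (allOk_spec i (hv.tbl i hi)).2.2).2.1
    push Not at hmin
    obtain ⟨k, -, -, hlow⟩ := hmin
    have hk := (hv.cw_iterate k hi').2
    rw [← CW_iterate_fst k (i, v)] at hlow
    have h : CW^[9] (CW^[k] (i, v)) = cimg 0 (CW^[k] (i, v)) := ih _ hlow hk (CW^[k] (i, v)).2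
    refine hv.CW_iterate_inj k (hv.cw_iterate 9 hi').2 (hv.lt (by decide) hi') ?_
    rw [← hv.CW_zero k hi', ← h, ← Function.iterate_add_apply, ← Function.iterate_add_apply, add_comm]

theorem Valid.ZW_seventeen : ∀ i < 306936, ∀ v : ZMod 3, ZW^[17] (i, v) = tr (i, v) := by
  intro i
  induction i using Nat.strong_induction_on with
  | _ i ih =>
    intro hi v
    have hi' : ((i, v) : Nat × ZMod 3).1 < 306936 := hi
    by_cases hmin : ∀ k : Nat, 1 ≤ k → k ≤ 4 → i ≤ powZ^[k] i
    · refine Prod.ext ?_ (zVolOk_spec i (hv.spec hi).2.2.2.2.2 hmin v)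
      rw [← (hv.zw_iterate 17 hi').1, ← cimgs_flatten_replicate, cimgs_fst]
      exact hv.tbl.imgs_z hi
    push Not at hmin
    obtain ⟨k, -, -, hlow⟩ := hmin
    have hk := (hv.zw_iterate k hi').2
    rw [← ZW_iterate_fst k (i, v)] at hlow
    have h : ZW^[17] (ZW^[k] (i, v)) = tr (ZW^[k] (i, v)) := ih _ hlow hk (ZW^[k] (i, v)).2
    refine hv.ZW_iterate_inj k (hv.zw_iterate 17 hi').2 (show i < 306936 from hi) ?_
    rw [ZW_tr, ← h, ← Function.iterate_add_apply, ← Function.iterate_add_apply, add_comm]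

theorem Valid.cimgs_z {p : Nat × ZMod 3} (hp : p.1 < 306936) : cimgs zWord p = tr p := by
  rw [show zWord = (List.replicate 17 zwPath).flatten from rfl, cimgs_flatten_replicate,
    (hv.zw_iterate 17 hp).1]
  exact hv.ZW_seventeen p.1 hp p.2

theorem Valid.cimgs_e7 {p : Nat × ZMod 3} (hp : p.1 < 306936) : cimgs e7Word p = p := by
  have h0 : (0 : Nat) < 12 := by decide
  rw [show e7Word = [0] ++ (List.replicate 9 cwPath).flatten from rfl, cimgs_append, cimgs_flatten_replicate]
  show (cimgs cwPath)^[9] (cimg 0 p) = p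
  have hl := hv.lt h0 hp
  rw [(hv.cw_iterate 9 hl).1]
  exact (hv.CW_nine _ hl _).trans (hv.sq h0 hp)

theorem Valid.cimgs_cox {w : List Nat} (hw : w ∈ coxWords) {p : Nat × ZMod 3} (hp : p.1 < 306936) :
    cimgs w p = p := by
  have hcases : ∀ w ∈ coxWords, (∃ x ∈ List.range 12, w = [x, x]) ∨
      (∃ e ∈ edgeList, w = [e.1, e.2.1, e.1, e.2.1, e.1, e.2.1]) ∨
      (∃ q ∈ commList, w = [q.1, q.2, q.1, q.2]) := by decide +kernel
  rcases hcases w hw with ⟨x, hx, rfl⟩ | ⟨e, he, rfl⟩ | ⟨q, hq, rfl⟩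
  · exact hv.sq (List.mem_range.mp hx) hp
  · obtain ⟨hx, hy, -⟩ := edge_mask e he
    show cimg e.2.1 (cimg e.1 (cimg e.2.1 (cimg e.1 (cimg e.2.1 (cimg e.1 p))))) = p
    rw [hv.braid p.1 hp e he p.2, hv.sq hy (hv.lt hx (hv.lt hy hp)), hv.sq hx (hv.lt hy hp), hv.sq hy hp]
  · have hpl : q.1 < 12 ∧ q.2 < 12 := (by decide : ∀ q ∈ commList, q.1 < 12 ∧ q.2 < 12) q hq
    show cimg q.2 (cimg q.1 (cimg q.2 (cimg q.1 p))) = p
    rw [hv.comm p.1 hp q hq p.2, hv.sq hpl.1 (hv.lt hpl.2 hp), hv.sq hpl.2 hp]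

end Cfsg.Agent.Fi24Cover87
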