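import Cfsg.Agent.Lib.Fi24Cover87Def

/-! What the tests on the voltages say, and the lifts of the twelve maps. -/

set_option autoImplicit false

namespace Cfsg.Agent.Fi24Cover87

open Cfsg.Agent.CosetCertCore
open Cfsg.Agent.Fi24Table88 (img row both whenHigh whenZero lowMask powE powZ powZ4 both_iff whenHigh_iff
  whenZero_iff lowMask_eq flds commList edgeList cwPath zwPath braidsOk_spec)

/-- The voltage as an integer mod three. -/
noncomputable def vv (x i : Nat) : ZMod 3 := (vol x i : ZMod 3)

/-- The lift of generator `x`. -/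
noncomputable def cimg (x : Nat) (p : Nat × ZMod 3) : Nat × ZMod 3 := (img x p.1, vv x p.1 - p.2)

/-- The lift of a word, letters applied from left to right. -/
noncomputable def cimgs (w : List Nat) (p : Nat × ZMod 3) : Nat × ZMod 3 :=
  w.foldl (fun p x => cimg x p) p

theorem eq3_iff (a b : Nat) : eq3 a b = true ↔ (a : ZMod 3) = (b : ZMod 3) := by
  rw [eq3, Nat.beq_eq, ZMod.natCast_eq_natCast_iff']
  rfl

theorem beq_mod_iff (a b : Nat) :
    Nat.beq (Nat.mod a 3) (Nat.mod b 3) = true ↔ (a : ZMod 3) = (b : ZMod 3) := eq3_iff a b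

theorem land_low (D m z : Nat) (hz : Nat.testBit m z = true) (h : Nat.land D m = 0) :
    Nat.testBit D z = false := by
  have := congrArg (fun t => Nat.testBit t z) h
  rw [Nat.zero_testBit] at this
  change Nat.testBit (D &&& m) z = false at this
  rwa [Nat.testBit_and, hz, Bool.and_true] at this

theorem lowMask_land (i m : Nat) (h : ∀ z < 12, Nat.testBit m z = true → i ≤ img z i) :
    Nat.land (lowMask i (row i)) m = 0 := by
  apply Nat.eq_of_testBit_eq
  intro z
  rw [Nat.zero_testBit, lowMask_eq, show Nat.land (Nat.ofBits _) m = (Nat.ofBits _ &&& m) from rfl,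
    Nat.testBit_and]
  by_cases hm : z < 12
  · rw [Nat.testBit_ofBits_lt _ _ hm]
    cases ht : Nat.testBit m z with
    | false => simp
    | true => simp [Nat.not_lt.mpr (h z hm ht)]
  · simp [Nat.testBit_ofBits_ge _ _ (Nat.le_of_not_lt hm)]

theorem shift_land36 (v s : Nat) (hs : s + 3 ≤ 36) :
    Nat.land (Nat.shiftRight (Nat.land v 68719476735) s) 7 = Nat.land (Nat.shiftRight v s) 7 := by
  show ((v &&& (2 ^ 36 - 1)) >>> s) &&& (2 ^ 3 - 1) = (v >>> s) &&& (2 ^ 3 - 1)
  apply Nat.eq_of_testBit_eq
  intro j
  simp only [Nat.testBit_and, Nat.testBit_two_pow_sub_one, Nat.testBit_shiftRight]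
  by_cases hj : j < 3
  · simp [hj, show s + j < 36 by omega]
  · simp [hj]

theorem field_head (a R s : Nat) (ha : a < 68719476736) (hs : s + 3 ≤ 36) :
    Nat.land (Nat.shiftRight (Nat.add a (Nat.mul 68719476736 R)) s) 7 = Nat.land (Nat.shiftRight a s) 7 := by
  have h := shift_land36 (a + 68719476736 * R) s hs
  have h2 : Nat.land (a + 68719476736 * R) 68719476735 = a := by
    show (a + 68719476736 * R) &&& (2 ^ 36 - 1) = a
    rw [Nat.and_two_pow_sub_one_eq_mod]
    norm_num
    omega
  rw [h2] at h
  exact h.symm

theorem field_tail (a R s : Nat) (ha : a < 68719476736) :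
    Nat.shiftRight (Nat.add a (Nat.mul 68719476736 R)) (s + 36) = Nat.shiftRight R s := by
  show (a + 68719476736 * R) >>> (s + 36) = R >>> s
  rw [add_comm s, Nat.shiftRight_add]
  congr 1
  rw [Nat.shiftRight_eq_div_pow]
  norm_num
  omega

theorem vimg_lt (k r : Nat) : vimg k r < 68719476736 :=
  Nat.lt_succ_of_le Nat.and_le_right

theorem vimg_field (x y j : Nat) (hy : y < 12) :
    Nat.land (Nat.shiftRight (vimg (19 * x) (row j)) (3 * y)) 7 = vol y (img x j) := by
  rw [vimg, shift_land36 _ _ (by omega)]
  show _ = vf y _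
  rw [← Fi24Table88.fld_row]
  rfl

attribute [local irreducible] vrow vimg img row powE powZ powZ4

/-- Words of 36 bits in one number. -/
def pack (f : Nat → Nat) : Nat → Nat → Nat
  | 0, s => f s
  | n + 1, s => Nat.add (f s) (Nat.mul 68719476736 (pack f n (s + 1)))

theorem pack_field (f : Nat → Nat) (hf : ∀ x, f x < 68719476736) (t : Nat) (ht : t + 3 ≤ 36) :
    ∀ k n s, k ≤ n → Nat.land (Nat.shiftRight (pack f n s) (t + 36 * k)) 7 =
      Nat.land (Nat.shiftRight (f (s + k)) t) 7 := by
  intro k
  induction k with
  | zero =>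
    intro n s _
    cases n with
    | zero => rfl
    | succ n =>
      rw [pack, Nat.mul_zero, Nat.add_zero, Nat.add_zero]
      exact field_head _ _ _ (hf _) ht
  | succ k ih =>
    intro n s h
    obtain ⟨m, rfl⟩ : ∃ m, n = m + 1 := ⟨n - 1, by omega⟩
    rw [pack, show t + 36 * (k + 1) = t + 36 * k + 36 by omega, field_tail _ _ _ (hf _),
      ih m (s + 1) (by omega), show s + 1 + k = s + (k + 1) by omega]

theorem vimgs_eq (r : Nat) : vimgs r = pack (fun x => vimg (19 * x) r) 11 0 := by
  unfold vimgs
  simp only [pack]

theorem vimgs_field (i : Nat) : ∀ x < 12, ∀ y < 12,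
    Nat.land (Nat.shiftRight (vimgs (row i)) (3 * (12 * x + y))) 7 = vol y (img x i) := by
  intro x hx y hy
  rw [show 3 * (12 * x + y) = 3 * y + 36 * x by omega, vimgs_eq,
    pack_field _ (fun z => vimg_lt _ _) _ (by omega) x 11 0 (by omega)]
  simp only [Nat.zero_add]
  exact vimg_field x y i hy


theorem vpairOk_spec (i : Nat) (h : vpairOk i = true) :
    (∀ x < 12, vol x (img x i) = vol x i) ∧
    ∀ p ∈ commList, i ≤ img p.1 i → i ≤ img p.2 i →
      (vol p.2 (img p.1 i) : ZMod 3) + vv p.2 i = vv p.1 (img p.2 i) + vv p.1 i := by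
  have hR := vimgs_field i
  have hri : ∀ x, Nat.land (Nat.shiftRight (vrow i) (3 * x)) 7 = vol x i := fun x => rfl
  simp only [vpairOk, force_eq, vpairTests, both_iff, whenZero_iff, Nat.beq_eq] at h
  obtain ⟨i0, i1, i2, i3, i4, i5, i6, i7, i8, i9, i10, i11, c0, c1, c2, c3, c4, c5, c6, c7, c8, c9⟩ := h
  refine ⟨?_, ?_⟩
  · intro x hx
    interval_cases x
    · exact (hR 0 hx 0 hx).symm.trans (i0.trans (hri 0))
    · exact (hR 1 hx 1 hx).symm.trans (i1.trans (hri 1))
    · exact (hR 2 hx 2 hx).symm.trans (i2.trans (hri 2))
    · exact (hR 3 hx 3 hx).symm.trans (i3.trans (hri 3))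
    · exact (hR 4 hx 4 hx).symm.trans (i4.trans (hri 4))
    · exact (hR 5 hx 5 hx).symm.trans (i5.trans (hri 5))
    · exact (hR 6 hx 6 hx).symm.trans (i6.trans (hri 6))
    · exact (hR 7 hx 7 hx).symm.trans (i7.trans (hri 7))
    · exact (hR 8 hx 8 hx).symm.trans (i8.trans (hri 8))
    · exact (hR 9 hx 9 hx).symm.trans (i9.trans (hri 9))
    · exact (hR 10 hx 10 hx).symm.trans (i10.trans (hri 10))
    · exact (hR 11 hx 11 hx).symm.trans (i11.trans (hri 11))
  · intro p hp h1 h2
    have hz : ∀ m, (∀ z < 12, Nat.testBit m z = true → z = p.1 ∨ z = p.2) →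
        Nat.land (lowMask i (row i)) m = 0 := fun m hm => lowMask_land i m fun z hz ht => by
      rcases hm z hz ht with rfl | rfl <;> assumption
    have single : ∀ q, q < 12 → (q = p.1 ∨ q = p.2) → Nat.land (lowMask i (row i)) (2 ^ q) = 0 :=
      fun q _ hq => hz _ fun z _ ht => by rw [Nat.testBit_two_pow] at ht; simp at ht; omega
    simp only [commList, List.mem_cons, List.not_mem_nil, or_false] at hp
    rcases hp with rfl | rfl | rfl | rfl | rfl | rfl | rfl | rfl | rfl | rfl | rfl | rfl | rfl | rfl | rfl | rfl | rfl | rfl | rfl | rfl | rfl | rfl | rfl | rfl | rfl | rfl | rfl | rfl | rfl | rfl | rfl | rfl | rfl | rfl | rfl | rfl | rfl | rfl | rfl | rfl | rfl | rfl | rfl | rfl | rfl | rfl | rfl | rfl | rfl | rfl | rfl | rfl | rfl | rfl | rfl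
    · have t := c0 (single 0 (by omega) (Or.inl rfl))
      simp only [vcomm0, both_iff, whenZero_iff, beq_mod_iff] at t
      have u := t.1 (single 2 (by omega) (Or.inr rfl))
      rw [Nat.add_eq, Nat.add_eq, Nat.cast_add, Nat.cast_add] at u
      have e1 := hR 0 (by omega) 2 (by omega)
      have e2 := hR 2 (by omega) 0 (by omega)
      norm_num only at e1 e2
      rw [e1, e2] at u
      exact u
    · have t := c0 (single 0 (by omega) (Or.inl rfl))
      simp only [vcomm0, both_iff, whenZero_iff, beq_mod_iff] at t
      have u := t.2.1 (single 3 (by omega) (Or.inr rfl))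
      rw [Nat.add_eq, Nat.add_eq, Nat.cast_add, Nat.cast_add] at u
      have e1 := hR 0 (by omega) 3 (by omega)
      have e2 := hR 3 (by omega) 0 (by omega)
      norm_num only at e1 e2
      rw [e1, e2] at u
      exact u
    · have t := c0 (single 0 (by omega) (Or.inl rfl))
      simp only [vcomm0, both_iff, whenZero_iff, beq_mod_iff] at t
      have u := t.2.2.1 (single 4 (by omega) (Or.inr rfl))
      rw [Nat.add_eq, Nat.add_eq, Nat.cast_add, Nat.cast_add] at u
      have e1 := hR 0 (by omega) 4 (by omega)
      have e2 := hR 4 (by omega) 0 (by omega)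
      norm_num only at e1 e2
      rw [e1, e2] at u
      exact u
    · have t := c0 (single 0 (by omega) (Or.inl rfl))
      simp only [vcomm0, both_iff, whenZero_iff, beq_mod_iff] at t
      have u := t.2.2.2.1 (single 5 (by omega) (Or.inr rfl))
      rw [Nat.add_eq, Nat.add_eq, Nat.cast_add, Nat.cast_add] at u
      have e1 := hR 0 (by omega) 5 (by omega)
      have e2 := hR 5 (by omega) 0 (by omega)
      norm_num only at e1 e2
      rw [e1, e2] at u
      exact u
    · have t := c0 (single 0 (by omega) (Or.inl rfl))
      simp only [vcomm0, both_iff, whenZero_iff, beq_mod_iff] at t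
      have u := t.2.2.2.2.1 (single 6 (by omega) (Or.inr rfl))
      rw [Nat.add_eq, Nat.add_eq, Nat.cast_add, Nat.cast_add] at u
      have e1 := hR 0 (by omega) 6 (by omega)
      have e2 := hR 6 (by omega) 0 (by omega)
      norm_num only at e1 e2
      rw [e1, e2] at u
      exact u
    · have t := c0 (single 0 (by omega) (Or.inl rfl))
      simp only [vcomm0, both_iff, whenZero_iff, beq_mod_iff] at t
      have u := t.2.2.2.2.2.1 (single 7 (by omega) (Or.inr rfl))
      rw [Nat.add_eq, Nat.add_eq, Nat.cast_add, Nat.cast_add] at u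
      have e1 := hR 0 (by omega) 7 (by omega)
      have e2 := hR 7 (by omega) 0 (by omega)
      norm_num only at e1 e2
      rw [e1, e2] at u
      exact u
    · have t := c0 (single 0 (by omega) (Or.inl rfl))
      simp only [vcomm0, both_iff, whenZero_iff, beq_mod_iff] at t
      have u := t.2.2.2.2.2.2.1 (single 8 (by omega) (Or.inr rfl))
      rw [Nat.add_eq, Nat.add_eq, Nat.cast_add, Nat.cast_add] at u
      have e1 := hR 0 (by omega) 8 (by omega)
      have e2 := hR 8 (by omega) 0 (by omega)
      norm_num only at e1 e2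
      rw [e1, e2] at u
      exact u
    · have t := c0 (single 0 (by omega) (Or.inl rfl))
      simp only [vcomm0, both_iff, whenZero_iff, beq_mod_iff] at t
      have u := t.2.2.2.2.2.2.2.1 (single 9 (by omega) (Or.inr rfl))
      rw [Nat.add_eq, Nat.add_eq, Nat.cast_add, Nat.cast_add] at u
      have e1 := hR 0 (by omega) 9 (by omega)
      have e2 := hR 9 (by omega) 0 (by omega)
      norm_num only at e1 e2
      rw [e1, e2] at u
      exact u
    · have t := c0 (single 0 (by omega) (Or.inl rfl))
      simp only [vcomm0, both_iff, whenZero_iff, beq_mod_iff] at t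
      have u := t.2.2.2.2.2.2.2.2.1 (single 10 (by omega) (Or.inr rfl))
      rw [Nat.add_eq, Nat.add_eq, Nat.cast_add, Nat.cast_add] at u
      have e1 := hR 0 (by omega) 10 (by omega)
      have e2 := hR 10 (by omega) 0 (by omega)
      norm_num only at e1 e2
      rw [e1, e2] at u
      exact u
    · have t := c0 (single 0 (by omega) (Or.inl rfl))
      simp only [vcomm0, both_iff, whenZero_iff, beq_mod_iff] at t
      have u := t.2.2.2.2.2.2.2.2.2 (single 11 (by omega) (Or.inr rfl))
      rw [Nat.add_eq, Nat.add_eq, Nat.cast_add, Nat.cast_add] at u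
      have e1 := hR 0 (by omega) 11 (by omega)
      have e2 := hR 11 (by omega) 0 (by omega)
      norm_num only at e1 e2
      rw [e1, e2] at u
      exact u
    · have t := c1 (single 1 (by omega) (Or.inl rfl))
      simp only [vcomm1, both_iff, whenZero_iff, beq_mod_iff] at t
      have u := t.1 (single 3 (by omega) (Or.inr rfl))
      rw [Nat.add_eq, Nat.add_eq, Nat.cast_add, Nat.cast_add] at u
      have e1 := hR 1 (by omega) 3 (by omega)
      have e2 := hR 3 (by omega) 1 (by omega)
      norm_num only at e1 e2
      rw [e1, e2] at u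
      exact u
    · have t := c1 (single 1 (by omega) (Or.inl rfl))
      simp only [vcomm1, both_iff, whenZero_iff, beq_mod_iff] at t
      have u := t.2.1 (single 4 (by omega) (Or.inr rfl))
      rw [Nat.add_eq, Nat.add_eq, Nat.cast_add, Nat.cast_add] at u
      have e1 := hR 1 (by omega) 4 (by omega)
      have e2 := hR 4 (by omega) 1 (by omega)
      norm_num only at e1 e2
      rw [e1, e2] at u
      exact u
    · have t := c1 (single 1 (by omega) (Or.inl rfl))
      simp only [vcomm1, both_iff, whenZero_iff, beq_mod_iff] at t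
      have u := t.2.2.1 (single 5 (by omega) (Or.inr rfl))
      rw [Nat.add_eq, Nat.add_eq, Nat.cast_add, Nat.cast_add] at u
      have e1 := hR 1 (by omega) 5 (by omega)
      have e2 := hR 5 (by omega) 1 (by omega)
      norm_num only at e1 e2
      rw [e1, e2] at u
      exact u
    · have t := c1 (single 1 (by omega) (Or.inl rfl))
      simp only [vcomm1, both_iff, whenZero_iff, beq_mod_iff] at t
      have u := t.2.2.2.1 (single 6 (by omega) (Or.inr rfl))
      rw [Nat.add_eq, Nat.add_eq, Nat.cast_add, Nat.cast_add] at u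
      have e1 := hR 1 (by omega) 6 (by omega)
      have e2 := hR 6 (by omega) 1 (by omega)
      norm_num only at e1 e2
      rw [e1, e2] at u
      exact u
    · have t := c1 (single 1 (by omega) (Or.inl rfl))
      simp only [vcomm1, both_iff, whenZero_iff, beq_mod_iff] at t
      have u := t.2.2.2.2.1 (single 7 (by omega) (Or.inr rfl))
      rw [Nat.add_eq, Nat.add_eq, Nat.cast_add, Nat.cast_add] at u
      have e1 := hR 1 (by omega) 7 (by omega)
      have e2 := hR 7 (by omega) 1 (by omega)
      norm_num only at e1 e2
      rw [e1, e2] at u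
      exact u
    · have t := c1 (single 1 (by omega) (Or.inl rfl))
      simp only [vcomm1, both_iff, whenZero_iff, beq_mod_iff] at t
      have u := t.2.2.2.2.2.1 (single 8 (by omega) (Or.inr rfl))
      rw [Nat.add_eq, Nat.add_eq, Nat.cast_add, Nat.cast_add] at u
      have e1 := hR 1 (by omega) 8 (by omega)
      have e2 := hR 8 (by omega) 1 (by omega)
      norm_num only at e1 e2
      rw [e1, e2] at u
      exact u
    · have t := c1 (single 1 (by omega) (Or.inl rfl))
      simp only [vcomm1, both_iff, whenZero_iff, beq_mod_iff] at t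
      have u := t.2.2.2.2.2.2.1 (single 9 (by omega) (Or.inr rfl))
      rw [Nat.add_eq, Nat.add_eq, Nat.cast_add, Nat.cast_add] at u
      have e1 := hR 1 (by omega) 9 (by omega)
      have e2 := hR 9 (by omega) 1 (by omega)
      norm_num only at e1 e2
      rw [e1, e2] at u
      exact u
    · have t := c1 (single 1 (by omega) (Or.inl rfl))
      simp only [vcomm1, both_iff, whenZero_iff, beq_mod_iff] at t
      have u := t.2.2.2.2.2.2.2.1 (single 10 (by omega) (Or.inr rfl))
      rw [Nat.add_eq, Nat.add_eq, Nat.cast_add, Nat.cast_add] at u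
      have e1 := hR 1 (by omega) 10 (by omega)
      have e2 := hR 10 (by omega) 1 (by omega)
      norm_num only at e1 e2
      rw [e1, e2] at u
      exact u
    · have t := c1 (single 1 (by omega) (Or.inl rfl))
      simp only [vcomm1, both_iff, whenZero_iff, beq_mod_iff] at t
      have u := t.2.2.2.2.2.2.2.2 (single 11 (by omega) (Or.inr rfl))
      rw [Nat.add_eq, Nat.add_eq, Nat.cast_add, Nat.cast_add] at u
      have e1 := hR 1 (by omega) 11 (by omega)
      have e2 := hR 11 (by omega) 1 (by omega)
      norm_num only at e1 e2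
      rw [e1, e2] at u
      exact u
    · have t := c2 (single 2 (by omega) (Or.inl rfl))
      simp only [vcomm2, both_iff, whenZero_iff, beq_mod_iff] at t
      have u := t.1 (single 4 (by omega) (Or.inr rfl))
      rw [Nat.add_eq, Nat.add_eq, Nat.cast_add, Nat.cast_add] at u
      have e1 := hR 2 (by omega) 4 (by omega)
      have e2 := hR 4 (by omega) 2 (by omega)
      norm_num only at e1 e2
      rw [e1, e2] at u
      exact u
    · have t := c2 (single 2 (by omega) (Or.inl rfl))
      simp only [vcomm2, both_iff, whenZero_iff, beq_mod_iff] at t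
      have u := t.2.1 (single 5 (by omega) (Or.inr rfl))
      rw [Nat.add_eq, Nat.add_eq, Nat.cast_add, Nat.cast_add] at u
      have e1 := hR 2 (by omega) 5 (by omega)
      have e2 := hR 5 (by omega) 2 (by omega)
      norm_num only at e1 e2
      rw [e1, e2] at u
      exact u
    · have t := c2 (single 2 (by omega) (Or.inl rfl))
      simp only [vcomm2, both_iff, whenZero_iff, beq_mod_iff] at t
      have u := t.2.2.1 (single 6 (by omega) (Or.inr rfl))
      rw [Nat.add_eq, Nat.add_eq, Nat.cast_add, Nat.cast_add] at u
      have e1 := hR 2 (by omega) 6 (by omega)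
      have e2 := hR 6 (by omega) 2 (by omega)
      norm_num only at e1 e2
      rw [e1, e2] at u
      exact u
    · have t := c2 (single 2 (by omega) (Or.inl rfl))
      simp only [vcomm2, both_iff, whenZero_iff, beq_mod_iff] at t
      have u := t.2.2.2.1 (single 7 (by omega) (Or.inr rfl))
      rw [Nat.add_eq, Nat.add_eq, Nat.cast_add, Nat.cast_add] at u
      have e1 := hR 2 (by omega) 7 (by omega)
      have e2 := hR 7 (by omega) 2 (by omega)
      norm_num only at e1 e2
      rw [e1, e2] at u
      exact u
    · have t := c2 (single 2 (by omega) (Or.inl rfl))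
      simp only [vcomm2, both_iff, whenZero_iff, beq_mod_iff] at t
      have u := t.2.2.2.2.1 (single 8 (by omega) (Or.inr rfl))
      rw [Nat.add_eq, Nat.add_eq, Nat.cast_add, Nat.cast_add] at u
      have e1 := hR 2 (by omega) 8 (by omega)
      have e2 := hR 8 (by omega) 2 (by omega)
      norm_num only at e1 e2
      rw [e1, e2] at u
      exact u
    · have t := c2 (single 2 (by omega) (Or.inl rfl))
      simp only [vcomm2, both_iff, whenZero_iff, beq_mod_iff] at t
      have u := t.2.2.2.2.2.1 (single 9 (by omega) (Or.inr rfl))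
      rw [Nat.add_eq, Nat.add_eq, Nat.cast_add, Nat.cast_add] at u
      have e1 := hR 2 (by omega) 9 (by omega)
      have e2 := hR 9 (by omega) 2 (by omega)
      norm_num only at e1 e2
      rw [e1, e2] at u
      exact u
    · have t := c2 (single 2 (by omega) (Or.inl rfl))
      simp only [vcomm2, both_iff, whenZero_iff, beq_mod_iff] at t
      have u := t.2.2.2.2.2.2.1 (single 10 (by omega) (Or.inr rfl))
      rw [Nat.add_eq, Nat.add_eq, Nat.cast_add, Nat.cast_add] at u
      have e1 := hR 2 (by omega) 10 (by omega)
      have e2 := hR 10 (by omega) 2 (by omega)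
      norm_num only at e1 e2
      rw [e1, e2] at u
      exact u
    · have t := c2 (single 2 (by omega) (Or.inl rfl))
      simp only [vcomm2, both_iff, whenZero_iff, beq_mod_iff] at t
      have u := t.2.2.2.2.2.2.2 (single 11 (by omega) (Or.inr rfl))
      rw [Nat.add_eq, Nat.add_eq, Nat.cast_add, Nat.cast_add] at u
      have e1 := hR 2 (by omega) 11 (by omega)
      have e2 := hR 11 (by omega) 2 (by omega)
      norm_num only at e1 e2
      rw [e1, e2] at u
      exact u
    · have t := c3 (single 3 (by omega) (Or.inl rfl))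
      simp only [vcomm3, both_iff, whenZero_iff, beq_mod_iff] at t
      have u := t.1 (single 5 (by omega) (Or.inr rfl))
      rw [Nat.add_eq, Nat.add_eq, Nat.cast_add, Nat.cast_add] at u
      have e1 := hR 3 (by omega) 5 (by omega)
      have e2 := hR 5 (by omega) 3 (by omega)
      norm_num only at e1 e2
      rw [e1, e2] at u
      exact u
    · have t := c3 (single 3 (by omega) (Or.inl rfl))
      simp only [vcomm3, both_iff, whenZero_iff, beq_mod_iff] at t
      have u := t.2.1 (single 6 (by omega) (Or.inr rfl))
      rw [Nat.add_eq, Nat.add_eq, Nat.cast_add, Nat.cast_add] at u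
      have e1 := hR 3 (by omega) 6 (by omega)
      have e2 := hR 6 (by omega) 3 (by omega)
      norm_num only at e1 e2
      rw [e1, e2] at u
      exact u
    · have t := c3 (single 3 (by omega) (Or.inl rfl))
      simp only [vcomm3, both_iff, whenZero_iff, beq_mod_iff] at t
      have u := t.2.2.1 (single 7 (by omega) (Or.inr rfl))
      rw [Nat.add_eq, Nat.add_eq, Nat.cast_add, Nat.cast_add] at u
      have e1 := hR 3 (by omega) 7 (by omega)
      have e2 := hR 7 (by omega) 3 (by omega)
      norm_num only at e1 e2
      rw [e1, e2] at u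
      exact u
    · have t := c3 (single 3 (by omega) (Or.inl rfl))
      simp only [vcomm3, both_iff, whenZero_iff, beq_mod_iff] at t
      have u := t.2.2.2.1 (single 8 (by omega) (Or.inr rfl))
      rw [Nat.add_eq, Nat.add_eq, Nat.cast_add, Nat.cast_add] at u
      have e1 := hR 3 (by omega) 8 (by omega)
      have e2 := hR 8 (by omega) 3 (by omega)
      norm_num only at e1 e2
      rw [e1, e2] at u
      exact u
    · have t := c3 (single 3 (by omega) (Or.inl rfl))
      simp only [vcomm3, both_iff, whenZero_iff, beq_mod_iff] at t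
      have u := t.2.2.2.2.1 (single 9 (by omega) (Or.inr rfl))
      rw [Nat.add_eq, Nat.add_eq, Nat.cast_add, Nat.cast_add] at u
      have e1 := hR 3 (by omega) 9 (by omega)
      have e2 := hR 9 (by omega) 3 (by omega)
      norm_num only at e1 e2
      rw [e1, e2] at u
      exact u
    · have t := c3 (single 3 (by omega) (Or.inl rfl))
      simp only [vcomm3, both_iff, whenZero_iff, beq_mod_iff] at t
      have u := t.2.2.2.2.2.1 (single 10 (by omega) (Or.inr rfl))
      rw [Nat.add_eq, Nat.add_eq, Nat.cast_add, Nat.cast_add] at u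
      have e1 := hR 3 (by omega) 10 (by omega)
      have e2 := hR 10 (by omega) 3 (by omega)
      norm_num only at e1 e2
      rw [e1, e2] at u
      exact u
    · have t := c3 (single 3 (by omega) (Or.inl rfl))
      simp only [vcomm3, both_iff, whenZero_iff, beq_mod_iff] at t
      have u := t.2.2.2.2.2.2 (single 11 (by omega) (Or.inr rfl))
      rw [Nat.add_eq, Nat.add_eq, Nat.cast_add, Nat.cast_add] at u
      have e1 := hR 3 (by omega) 11 (by omega)
      have e2 := hR 11 (by omega) 3 (by omega)
      norm_num only at e1 e2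
      rw [e1, e2] at u
      exact u
    · have t := c4 (single 4 (by omega) (Or.inl rfl))
      simp only [vcomm4, both_iff, whenZero_iff, beq_mod_iff] at t
      have u := t.1 (single 6 (by omega) (Or.inr rfl))
      rw [Nat.add_eq, Nat.add_eq, Nat.cast_add, Nat.cast_add] at u
      have e1 := hR 4 (by omega) 6 (by omega)
      have e2 := hR 6 (by omega) 4 (by omega)
      norm_num only at e1 e2
      rw [e1, e2] at u
      exact u
    · have t := c4 (single 4 (by omega) (Or.inl rfl))
      simp only [vcomm4, both_iff, whenZero_iff, beq_mod_iff] at t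
      have u := t.2.1 (single 7 (by omega) (Or.inr rfl))
      rw [Nat.add_eq, Nat.add_eq, Nat.cast_add, Nat.cast_add] at u
      have e1 := hR 4 (by omega) 7 (by omega)
      have e2 := hR 7 (by omega) 4 (by omega)
      norm_num only at e1 e2
      rw [e1, e2] at u
      exact u
    · have t := c4 (single 4 (by omega) (Or.inl rfl))
      simp only [vcomm4, both_iff, whenZero_iff, beq_mod_iff] at t
      have u := t.2.2.1 (single 8 (by omega) (Or.inr rfl))
      rw [Nat.add_eq, Nat.add_eq, Nat.cast_add, Nat.cast_add] at u
      have e1 := hR 4 (by omega) 8 (by omega)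
      have e2 := hR 8 (by omega) 4 (by omega)
      norm_num only at e1 e2
      rw [e1, e2] at u
      exact u
    · have t := c4 (single 4 (by omega) (Or.inl rfl))
      simp only [vcomm4, both_iff, whenZero_iff, beq_mod_iff] at t
      have u := t.2.2.2.1 (single 9 (by omega) (Or.inr rfl))
      rw [Nat.add_eq, Nat.add_eq, Nat.cast_add, Nat.cast_add] at u
      have e1 := hR 4 (by omega) 9 (by omega)
      have e2 := hR 9 (by omega) 4 (by omega)
      norm_num only at e1 e2
      rw [e1, e2] at u
      exact u
    · have t := c4 (single 4 (by omega) (Or.inl rfl))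
      simp only [vcomm4, both_iff, whenZero_iff, beq_mod_iff] at t
      have u := t.2.2.2.2.1 (single 10 (by omega) (Or.inr rfl))
      rw [Nat.add_eq, Nat.add_eq, Nat.cast_add, Nat.cast_add] at u
      have e1 := hR 4 (by omega) 10 (by omega)
      have e2 := hR 10 (by omega) 4 (by omega)
      norm_num only at e1 e2
      rw [e1, e2] at u
      exact u
    · have t := c4 (single 4 (by omega) (Or.inl rfl))
      simp only [vcomm4, both_iff, whenZero_iff, beq_mod_iff] at t
      have u := t.2.2.2.2.2 (single 11 (by omega) (Or.inr rfl))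
      rw [Nat.add_eq, Nat.add_eq, Nat.cast_add, Nat.cast_add] at u
      have e1 := hR 4 (by omega) 11 (by omega)
      have e2 := hR 11 (by omega) 4 (by omega)
      norm_num only at e1 e2
      rw [e1, e2] at u
      exact u
    · have t := c5 (single 5 (by omega) (Or.inl rfl))
      simp only [vcomm5, both_iff, whenZero_iff, beq_mod_iff] at t
      have u := t.1 (single 7 (by omega) (Or.inr rfl))
      rw [Nat.add_eq, Nat.add_eq, Nat.cast_add, Nat.cast_add] at u
      have e1 := hR 5 (by omega) 7 (by omega)
      have e2 := hR 7 (by omega) 5 (by omega)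
      norm_num only at e1 e2
      rw [e1, e2] at u
      exact u
    · have t := c5 (single 5 (by omega) (Or.inl rfl))
      simp only [vcomm5, both_iff, whenZero_iff, beq_mod_iff] at t
      have u := t.2.1 (single 8 (by omega) (Or.inr rfl))
      rw [Nat.add_eq, Nat.add_eq, Nat.cast_add, Nat.cast_add] at u
      have e1 := hR 5 (by omega) 8 (by omega)
      have e2 := hR 8 (by omega) 5 (by omega)
      norm_num only at e1 e2
      rw [e1, e2] at u
      exact u
    · have t := c5 (single 5 (by omega) (Or.inl rfl))
      simp only [vcomm5, both_iff, whenZero_iff, beq_mod_iff] at t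
      have u := t.2.2.1 (single 9 (by omega) (Or.inr rfl))
      rw [Nat.add_eq, Nat.add_eq, Nat.cast_add, Nat.cast_add] at u
      have e1 := hR 5 (by omega) 9 (by omega)
      have e2 := hR 9 (by omega) 5 (by omega)
      norm_num only at e1 e2
      rw [e1, e2] at u
      exact u
    · have t := c5 (single 5 (by omega) (Or.inl rfl))
      simp only [vcomm5, both_iff, whenZero_iff, beq_mod_iff] at t
      have u := t.2.2.2 (single 11 (by omega) (Or.inr rfl))
      rw [Nat.add_eq, Nat.add_eq, Nat.cast_add, Nat.cast_add] at u
      have e1 := hR 5 (by omega) 11 (by omega)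
      have e2 := hR 11 (by omega) 5 (by omega)
      norm_num only at e1 e2
      rw [e1, e2] at u
      exact u
    · have t := c6 (single 6 (by omega) (Or.inl rfl))
      simp only [vcomm6, both_iff, whenZero_iff, beq_mod_iff] at t
      have u := t.1 (single 8 (by omega) (Or.inr rfl))
      rw [Nat.add_eq, Nat.add_eq, Nat.cast_add, Nat.cast_add] at u
      have e1 := hR 6 (by omega) 8 (by omega)
      have e2 := hR 8 (by omega) 6 (by omega)
      norm_num only at e1 e2
      rw [e1, e2] at u
      exact u
    · have t := c6 (single 6 (by omega) (Or.inl rfl))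
      simp only [vcomm6, both_iff, whenZero_iff, beq_mod_iff] at t
      have u := t.2.1 (single 9 (by omega) (Or.inr rfl))
      rw [Nat.add_eq, Nat.add_eq, Nat.cast_add, Nat.cast_add] at u
      have e1 := hR 6 (by omega) 9 (by omega)
      have e2 := hR 9 (by omega) 6 (by omega)
      norm_num only at e1 e2
      rw [e1, e2] at u
      exact u
    · have t := c6 (single 6 (by omega) (Or.inl rfl))
      simp only [vcomm6, both_iff, whenZero_iff, beq_mod_iff] at t
      have u := t.2.2.1 (single 10 (by omega) (Or.inr rfl))
      rw [Nat.add_eq, Nat.add_eq, Nat.cast_add, Nat.cast_add] at u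
      have e1 := hR 6 (by omega) 10 (by omega)
      have e2 := hR 10 (by omega) 6 (by omega)
      norm_num only at e1 e2
      rw [e1, e2] at u
      exact u
    · have t := c6 (single 6 (by omega) (Or.inl rfl))
      simp only [vcomm6, both_iff, whenZero_iff, beq_mod_iff] at t
      have u := t.2.2.2 (single 11 (by omega) (Or.inr rfl))
      rw [Nat.add_eq, Nat.add_eq, Nat.cast_add, Nat.cast_add] at u
      have e1 := hR 6 (by omega) 11 (by omega)
      have e2 := hR 11 (by omega) 6 (by omega)
      norm_num only at e1 e2
      rw [e1, e2] at u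
      exact u
    · have t := c7 (single 7 (by omega) (Or.inl rfl))
      simp only [vcomm7, both_iff, whenZero_iff, beq_mod_iff] at t
      have u := t.1 (single 9 (by omega) (Or.inr rfl))
      rw [Nat.add_eq, Nat.add_eq, Nat.cast_add, Nat.cast_add] at u
      have e1 := hR 7 (by omega) 9 (by omega)
      have e2 := hR 9 (by omega) 7 (by omega)
      norm_num only at e1 e2
      rw [e1, e2] at u
      exact u
    · have t := c7 (single 7 (by omega) (Or.inl rfl))
      simp only [vcomm7, both_iff, whenZero_iff, beq_mod_iff] at t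
      have u := t.2.1 (single 10 (by omega) (Or.inr rfl))
      rw [Nat.add_eq, Nat.add_eq, Nat.cast_add, Nat.cast_add] at u
      have e1 := hR 7 (by omega) 10 (by omega)
      have e2 := hR 10 (by omega) 7 (by omega)
      norm_num only at e1 e2
      rw [e1, e2] at u
      exact u
    · have t := c7 (single 7 (by omega) (Or.inl rfl))
      simp only [vcomm7, both_iff, whenZero_iff, beq_mod_iff] at t
      have u := t.2.2 (single 11 (by omega) (Or.inr rfl))
      rw [Nat.add_eq, Nat.add_eq, Nat.cast_add, Nat.cast_add] at u
      have e1 := hR 7 (by omega) 11 (by omega)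
      have e2 := hR 11 (by omega) 7 (by omega)
      norm_num only at e1 e2
      rw [e1, e2] at u
      exact u
    · have t := c8 (single 8 (by omega) (Or.inl rfl))
      simp only [vcomm8, both_iff, whenZero_iff, beq_mod_iff] at t
      have u := t.1 (single 10 (by omega) (Or.inr rfl))
      rw [Nat.add_eq, Nat.add_eq, Nat.cast_add, Nat.cast_add] at u
      have e1 := hR 8 (by omega) 10 (by omega)
      have e2 := hR 10 (by omega) 8 (by omega)
      norm_num only at e1 e2
      rw [e1, e2] at u
      exact u
    · have t := c8 (single 8 (by omega) (Or.inl rfl))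
      simp only [vcomm8, both_iff, whenZero_iff, beq_mod_iff] at t
      have u := t.2 (single 11 (by omega) (Or.inr rfl))
      rw [Nat.add_eq, Nat.add_eq, Nat.cast_add, Nat.cast_add] at u
      have e1 := hR 8 (by omega) 11 (by omega)
      have e2 := hR 11 (by omega) 8 (by omega)
      norm_num only at e1 e2
      rw [e1, e2] at u
      exact u
    · have t := c9 (single 9 (by omega) (Or.inl rfl))
      simp only [vcomm9, both_iff, whenZero_iff, beq_mod_iff] at t
      have u := t.1 (single 10 (by omega) (Or.inr rfl))
      rw [Nat.add_eq, Nat.add_eq, Nat.cast_add, Nat.cast_add] at u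
      have e1 := hR 9 (by omega) 10 (by omega)
      have e2 := hR 10 (by omega) 9 (by omega)
      norm_num only at e1 e2
      rw [e1, e2] at u
      exact u
    · have t := c9 (single 9 (by omega) (Or.inl rfl))
      simp only [vcomm9, both_iff, whenZero_iff, beq_mod_iff] at t
      have u := t.2 (single 11 (by omega) (Or.inr rfl))
      rw [Nat.add_eq, Nat.add_eq, Nat.cast_add, Nat.cast_add] at u
      have e1 := hR 9 (by omega) 11 (by omega)
      have e2 := hR 11 (by omega) 9 (by omega)
      norm_num only at e1 e2
      rw [e1, e2] at u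
      exact u

theorem vbraidsOk_spec (i : Nat) (h : vbraidsOk i = true) :
    ∀ e ∈ edgeList, (∀ z < 12, Nat.testBit e.2.2 z = true → i ≤ img z i) →
      vv e.1 (img e.2.1 (img e.1 i)) - vv e.2.1 (img e.1 i) + vv e.1 i =
        vv e.2.1 (img e.1 (img e.2.1 i)) - vv e.1 (img e.2.1 i) + vv e.2.1 i := by
  have h2 : (2 : ZMod 3) = -1 := by decide
  intro e he hz
  have h0 := lowMask_land i e.2.2 hz
  simp only [vbraidsOk, force_eq, vbraidTests, both_iff, whenZero_iff] at h
  have key : ∀ x y, vbraidOk x y i = true → vv x (img y (img x i)) - vv y (img x i) + vv x i =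
      vv y (img x (img y i)) - vv x (img y i) + vv y i := by
    intro x y hxy
    simp only [vbraidOk, force_eq, eq3_iff, Nat.add_eq, Nat.mul_eq] at hxy
    push_cast [h2] at hxy
    simp only [vv]
    linear_combination hxy
  simp only [edgeList, List.mem_cons, List.not_mem_nil, or_false] at he
  rcases he with rfl | rfl | rfl | rfl | rfl | rfl | rfl | rfl | rfl | rfl | rfl <;>
    simp only [h0, forall_const] at h <;> apply key <;> simp only [h]

theorem cwVolOk_spec (i : Nat) (h : cwVolOk i = true) (v : ZMod 3) :
    cimgs cwPath (i, v) = (Fi24Table88.cwRun i, vv 12 i - v) := by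
  have h2 : (2 : ZMod 3) = -1 := by decide
  simp only [cwVolOk, force_eq, eq3_iff, Nat.add_eq, Nat.mul_eq] at h
  push_cast [h2] at h
  simp only [cimgs, cwPath, List.foldl_cons, List.foldl_nil, cimg, Fi24Table88.cwRun, vv]
  refine Prod.ext rfl ?_
  linear_combination h

theorem zwVolOk_spec (i : Nat) (h : zwVolOk i = true) (v : ZMod 3) :
    cimgs zwPath (i, v) = (Fi24Table88.zwRun i, vv 13 i + v) := by
  have h2 : (2 : ZMod 3) = -1 := by decide
  simp only [zwVolOk, force_eq, eq3_iff, Nat.add_eq, Nat.mul_eq] at h
  push_cast [h2] at h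
  simp only [cimgs, zwPath, List.foldl_cons, List.foldl_nil, cimg, Fi24Table88.zwRun, vv]
  refine Prod.ext rfl ?_
  linear_combination h

/-- The step along the E7 path. -/
noncomputable def CW (p : Nat × ZMod 3) : Nat × ZMod 3 := (powE p.1, vv 12 p.1 - p.2)

/-- The step along the root of z. -/
noncomputable def ZW (p : Nat × ZMod 3) : Nat × ZMod 3 := (powZ p.1, vv 13 p.1 + p.2)

theorem e7VolOk_spec (i : Nat) (h : e7VolOk i = true)
    (hmin : ∀ k : Nat, 1 ≤ k → k ≤ 4 → i ≤ powE^[k] i) (v : ZMod 3) :
    (CW^[9] (i, v)).2 = vv 0 i - v := by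
  have h2 : (2 : ZMod 3) = -1 := by decide
  simp only [e7VolOk, force_eq, whenHigh_iff, eq3_iff, Nat.add_eq, Nat.mul_eq] at h
  have h' := h (hmin 1 le_rfl (by omega)) (hmin 2 (by omega) (by omega)) (hmin 3 (by omega) (by omega))
    (hmin 4 (by omega) le_rfl)
  push_cast [h2] at h'
  simp only [Function.iterate_succ_apply', Function.iterate_zero_apply, CW, vv]
  linear_combination h'

theorem zVolOk_spec (i : Nat) (h : zVolOk i = true)
    (hmin : ∀ k : Nat, 1 ≤ k → k ≤ 4 → i ≤ powZ^[k] i) (v : ZMod 3) :
    (ZW^[17] (i, v)).2 = v + 1 := by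
  simp only [zVolOk, force_eq, whenHigh_iff, eq3_iff, Nat.add_eq] at h
  have h' := h (hmin 1 le_rfl (by omega)) (hmin 2 (by omega) (by omega)) (hmin 3 (by omega) (by omega))
    (hmin 4 (by omega) le_rfl)
  push_cast at h'
  simp only [Function.iterate_succ_apply', Function.iterate_zero_apply, ZW, vv]
  linear_combination h'

theorem coverOk_spec (i : Nat) (h : coverOk i = true) :
    vpairOk i = true ∧ vbraidsOk i = true ∧ cwVolOk i = true ∧ zwVolOk i = true ∧ e7VolOk i = true ∧
      zVolOk i = true := by
  simpa only [coverOk, both_iff] using h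

end Cfsg.Agent.Fi24Cover87
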