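import Cfsg.Agent.Lib.FischerPolarSize99
import Cfsg.Agent.Lib.SymplecticAlt
import Cfsg.Agent.Lib.SymplecticTransv

/-!
With lines of three points the transpositions are the nonzero vectors of a symplectic space over
the field with two elements.
-/

set_option autoImplicit false
set_option linter.style.haveILetI false
set_option linter.unusedSectionVars false

namespace Cfsg.Agent.FischerPolarSp99

open Subgroup
open Cfsg.Agent.ThreeTransp
open Cfsg.Agent.FischerPolar99
open Cfsg.Agent.FischerPolarSize99
open Cfsg.Agent.SymplecticBasic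

variable {G : Type*} [Group G] [Finite G] {D : Set G}

open scoped Classical in
/-- The row of a transposition in the non-commuting graph. -/
noncomputable def row (D : Set G) (d : G) : G → ZMod 2 :=
  fun e => if e ∈ D ∧ ¬ Commute d e then 1 else 0

omit [Finite G] in
theorem row_one {d e : G} (he : e ∈ D) (hn : ¬ Commute d e) : row D d e = 1 := by
  unfold row; exact if_pos ⟨he, hn⟩

omit [Finite G] in
theorem row_zero {d e : G} (h : Commute d e) : row D d e = 0 := by
  unfold row; exact if_neg fun h' => h'.2 h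

omit [Finite G] in
theorem row_out {d e : G} (he : e ∉ D) : row D d e = 0 := by
  unfold row; exact if_neg fun h' => he h'.1

variable (C : PCtx D) (hs : ∀ x ∈ D, ∀ y ∈ Dx D x, (Cls D x y).ncard = 2)
include C hs

theorem cls_pair {x y c : G} (hx : x ∈ D) (hy : y ∈ Dx D x) (hc : c ∈ Cls D x y) (hne : c ≠ y) :
    Cls D x y = {y, c} :=
  (Set.eq_of_subset_of_ncard_le (Set.pair_subset (cls_self C hy) hc)
    (by rw [hs x hx y hy, Set.ncard_pair hne.symm]) (Set.toFinite _)).symm

/-- A transposition missing two non-commuting ones commutes with their third. -/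
theorem third_commute {x z d : G} (hx : x ∈ D) (hz : z ∈ D) (hd : d ∈ D) (hxz : ¬ Commute x z)
    (hdx : ¬ Commute d x) (hdz : ¬ Commute d z) : Commute (x * z * x) d := by
  have hzx : ¬ Commute z x := fun e => hxz e.symm
  -- a common perpendicular of the three
  obtain ⟨a, ha, hza, hda⟩ : ∃ a ∈ Dx D x, Commute z a ∧ Commute d a := by
    by_contra hall
    push Not at hall
    obtain ⟨y, hy, -⟩ := dx_nonempty C hx
    obtain ⟨a, ha', hza⟩ := exists_foot C hx hy hz hzx
    have ha := ha'.1
    obtain ⟨b0, hb0, hab0⟩ := exists_far C hx ha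
    obtain ⟨b, hb', hzb⟩ := exists_foot C hx hb0 hz hzx
    have hb := hb'.1
    have hab : ¬ Commute a b := fun e =>
      cls_not_comm C hx hb0 hb' ha (fun e' => hab0 e'.symm) e.symm
    obtain ⟨a1, ha1, hda1⟩ := exists_foot C hx ha hd hdx
    obtain ⟨b1, hb1, hdb1⟩ := exists_foot C hx hb hd hdx
    have na : a1 ≠ a := fun e => hall a ha hza (e ▸ hda1)
    have nb : b1 ≠ b := fun e => hall b hb hzb (e ▸ hdb1)
    set c := a * b * a with hc
    have hcx : c ∈ Dx D x := refl_dx C ha hb
    have hzc : Commute z c := (hza.mul_right hzb).mul_right hza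
    refine hall c hcx hzc ?_
    have e : a1 * b1 * a1 = c := by
      have m1 : a1 * b * a1 ∈ Cls D x c := third_class C hx ha ha1 hb
      have n1 : a1 * b * a1 ≠ c := fun e' => na
        (third_inj C ha1.1.1 ha.1 hb.1 (cls_not_comm C hx ha ha1 hb hab) hab e')
      have m2 : a1 * b1 * a1 ∈ Cls D x c := by
        have h := cls_refl C ha1.1 hb1
        rwa [cls_eq_of_mem C hx hcx m1] at h
      rw [cls_pair C hs hx hcx m1 n1] at m2
      rcases m2 with e' | e'
      · exact e'
      · exact absurd (mul_left_cancel (mul_right_cancel e')) nb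
    rw [← e]
    exact (hda1.mul_right hdb1).mul_right hda1
  by_contra hn
  have hxa : x ∈ Dx D a := dx_symm C hx ha
  have hza' : z ∈ Dx D a := ⟨hz, fun e => hzx (e ▸ ha.2.2.symm), hza.symm⟩
  have hda' : d ∈ Dx D a := ⟨hd, fun e => hdx (e ▸ ha.2.2.symm), hda.symm⟩
  have hxd : ¬ Commute x d := fun e => hdx e.symm
  have hzd : ¬ Commute z d := fun e => hdz e.symm
  obtain ⟨r, hr, hne⟩ := exists_other C ha.1 hxa
  have hT := translate_mem C ha.1 hxa hr hda'
  have hTd := translate_ne C ha.1 hxa hr hne hda' hxd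
  have hF := translate_mem C ha.1 hza' (translate_mem C ha.1 hxa hr hza') hda'
  have hFd := translate_ne C ha.1 hza' (translate_mem C ha.1 hxa hr hza')
    (translate_ne C ha.1 hxa hr hne hza' hxz) hda' hzd
  rw [cls_pair C hs ha.1 hda' hT hTd] at hF
  rcases hF with e | e
  · exact hFd e
  · exact derange C ha.1 hxa hza' hda' hxz hn hzd hr hne e

theorem row_line {x y c : G} (hx : x ∈ D) (hy : y ∈ Dx D x) (hc : c ∈ Cls D x y) (hne : c ≠ y) :
    row D c = row D x + row D y := by
  funext e
  rw [Pi.add_apply]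
  by_cases he : e ∈ D
  swap
  · rw [row_out he, row_out he, row_out he, add_zero]
  by_cases hxe : Commute x e <;> by_cases hye : Commute y e
  · rw [row_zero hxe, row_zero hye, row_zero (hc.2 e he hxe hye), add_zero]
  · rw [row_zero hxe, row_one he hye,
      row_one he fun h => hye (rule2 C hx hy hc he hxe h), zero_add]
  · rw [row_one he hxe, row_zero hye,
      row_one he fun h => hxe (rule3 C hx hy hc hne he hye h), add_zero]
  · obtain ⟨f, hf, hef⟩ := exists_foot C hx hy he fun h => hxe h.symm
    rw [cls_pair C hs hx hy hc hne] at hf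
    rcases hf with rfl | rfl
    · exact absurd hef.symm hye
    · rw [row_one he hxe, row_one he hye, row_zero hef.symm]; decide

theorem row_third {x z : G} (hx : x ∈ D) (hz : z ∈ D) (hxz : ¬ Commute x z) :
    row D (x * z * x) = row D x + row D z := by
  funext e
  rw [Pi.add_apply]
  by_cases he : e ∈ D
  swap
  · rw [row_out he, row_out he, row_out he, add_zero]
  by_cases hxe : Commute x e <;> by_cases hze : Commute z e
  · rw [row_zero hxe, row_zero hze, row_zero ((hxe.mul_left hze).mul_left hxe), add_zero]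
  · rw [row_zero hxe, row_one he hze, row_one he ?_, zero_add]
    intro h
    have := (refl_comm C hx).mpr h
    rw [C.tc.refl_refl hx, C.tc.fix hx hxe] at this
    exact hze this
  · rw [row_one he hxe, row_zero hze, row_one he ?_, add_zero]
    intro h
    rw [third_eq C hx hz hxz] at h
    have := (refl_comm C hz).mpr h
    rw [C.tc.refl_refl hz, C.tc.fix hz hze] at this
    exact hxe this
  · rw [row_one he hxe, row_one he hze,
      row_zero (third_commute C hs hx hz he hxz (fun h => hxe h.symm) fun h => hze h.symm)]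
    decide

theorem row_apply_comm {d e : G} (hd : d ∈ D) (he : e ∈ D) : row D d e = row D e d := by
  by_cases h : Commute d e
  · rw [row_zero h, row_zero h.symm]
  · rw [row_one he h, row_one hd fun h' => h h'.symm]

theorem row_self (d : G) : row D d d = 0 := row_zero (Commute.refl d)

theorem row_ne {d : G} (hd : d ∈ D) : row D d ≠ 0 := by
  intro h
  obtain ⟨y, hy, -⟩ := dx_nonempty C hd
  obtain ⟨z, hz, hn⟩ := exists_far C hy.1 (dx_symm C hd hy)
  have := congrFun h z
  rw [row_one hz.1 hn] at this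
  exact one_ne_zero this

theorem row_inj {d d' : G} (hd : d ∈ D) (hd' : d' ∈ D) (h : row D d = row D d') : d = d' := by
  by_contra hne
  have hc : Commute d d' := by
    by_contra hn
    have := congrFun h d'
    rw [row_one hd' hn, row_zero (Commute.refl d')] at this
    exact one_ne_zero this
  have hy : d' ∈ Dx D d := ⟨hd', fun e => hne e.symm, hc⟩
  obtain ⟨c, hcm, hcne⟩ := exists_other C hd hy
  refine row_ne C hs hcm.1.1 ?_
  rw [row_line C hs hd hy hcm hcne, h]
  funext e
  exact CharTwo.add_self_eq_zero _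

/-- The theorem for lines of three points. -/
theorem exists_equiv_image (hne : D.Nonempty) :
    ∃ (n : ℕ) (e : G ≃* Matrix.symplecticGroup (Fin n) (ZMod 2)),
      e '' D = {g : Matrix.symplecticGroup (Fin n) (ZMod 2) |
        ((g : Matrix (Fin n ⊕ Fin n) (Fin n ⊕ Fin n) (ZMod 2)) - 1).rank = 1} := by
  classical
  haveI := Fintype.ofFinite G
  -- the space of rows
  let V : Submodule (ZMod 2) (G → ZMod 2) :=
    { carrier := {u | u = 0 ∨ ∃ d ∈ D, u = row D d}
      zero_mem' := Or.inl rfl
      add_mem' := by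
        rintro u v (rfl | ⟨d, hd, rfl⟩) (rfl | ⟨e, he, rfl⟩)
        · exact Or.inl (add_zero _)
        · exact Or.inr ⟨e, he, zero_add _⟩
        · exact Or.inr ⟨d, hd, add_zero _⟩
        by_cases hde : d = e
        · exact Or.inl (hde ▸ funext fun _ => CharTwo.add_self_eq_zero _)
        by_cases hc : Commute d e
        · have hy : e ∈ Dx D d := ⟨he, fun h => hde h.symm, hc⟩
          obtain ⟨c, hcm, hcne⟩ := exists_other C hd hy
          exact Or.inr ⟨c, hcm.1.1, (row_line C hs hd hy hcm hcne).symm⟩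
        · exact Or.inr ⟨_, C.tc.refl_mem hd he, (row_third C hs hd he hc).symm⟩
      smul_mem' := by
        intro a u hu
        fin_cases a
        · exact Or.inl (zero_smul _ _)
        · convert hu using 1; exact one_smul _ _ }
  let r : {d // d ∈ D} → V := fun d => ⟨row D d, Or.inr ⟨d, d.2, rfl⟩⟩
  have hcases : ∀ v : V, v = 0 ∨ ∃ d, v = r d := by
    rintro ⟨v, rfl | ⟨d, hd, rfl⟩⟩
    · exact Or.inl rfl
    · exact Or.inr ⟨⟨d, hd⟩, rfl⟩
  have hev : ∀ u : V, ∀ v : V, ∀ d e : {d // d ∈ D}, u = r d → v = r e →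
      u.1 e = v.1 d := by
    rintro u v d e rfl rfl
    exact row_apply_comm C hs d.2 e.2
  -- the form
  let ev : V → V → ZMod 2 := fun u v => if h : ∃ d, v = r d then u.1 h.choose.1 else 0
  have hev1 : ∀ (u : V) (e : {d // d ∈ D}), ev u (r e) = u.1 e := by
    intro u e
    have h : ∃ d, r e = r d := ⟨e, rfl⟩
    simp only [ev, dif_pos h]
    have := h.choose_spec
    rw [show h.choose = e from Subtype.ext (row_inj C hs h.choose.2 e.2
      (congrArg Subtype.val this).symm)]
  have hne0 : ∀ d, r d ≠ 0 := fun d h => row_ne C hs d.2 (congrArg Subtype.val h)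
  have hev0 : ∀ u : V, ev u 0 = 0 := by
    intro u
    have h : ¬ ∃ d, (0 : V) = r d := fun ⟨d, hd⟩ => hne0 d hd.symm
    simp only [ev, dif_neg h]
  have hsymm : ∀ u v, ev u v = ev v u := by
    intro u v
    rcases hcases v with rfl | ⟨e, rfl⟩ <;> rcases hcases u with rfl | ⟨d, rfl⟩
    · rfl
    · rw [hev0, hev1]; rfl
    · rw [hev0, hev1]; rfl
    · rw [hev1, hev1]; exact hev _ _ d e rfl rfl
  have haddl : ∀ u u' v, ev (u + u') v = ev u v + ev u' v := by
    intro u u' v
    rcases hcases v with rfl | ⟨e, rfl⟩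
    · rw [hev0, hev0, hev0, add_zero]
    · rw [hev1, hev1, hev1]; rfl
  have hsmul : ∀ (a : ZMod 2) u v, ev (a • u) v = a * ev u v := by
    intro a u v
    rcases hcases v with rfl | ⟨e, rfl⟩
    · rw [hev0, hev0, mul_zero]
    · rw [hev1, hev1]; rfl
  let B : V →ₗ[ZMod 2] V →ₗ[ZMod 2] ZMod 2 := LinearMap.mk₂ (ZMod 2) ev haddl hsmul
    (fun u v v' => by rw [hsymm, haddl, hsymm v, hsymm v'])
    (fun a u v => by rw [hsymm, hsmul, hsymm v, smul_eq_mul])
  have halt : ∀ v, B v v = 0 := by
    intro v
    show ev v v = 0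
    rcases hcases v with rfl | ⟨e, rfl⟩
    · exact hev0 0
    · rw [hev1]; exact row_self C hs _
  have hnd : ∀ u, (∀ v, B u v = 0) → u = 0 := by
    intro u hu
    rcases hcases u with rfl | ⟨d, rfl⟩
    · rfl
    exfalso
    refine row_ne C hs d.2 (funext fun e => ?_)
    by_cases he : e ∈ D
    · have := hu (r ⟨e, he⟩)
      rwa [LinearMap.mk₂_apply, hev1] at this
    · exact row_out he
  obtain ⟨k, hk, b, -, hb⟩ := SymplecticAlt.exists_symp_basis B halt _ ⊤ rfl
    (fun u _ h => hnd u fun v => h v Submodule.mem_top)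
  rw [finrank_top] at hk
  let L : (Fin k ⊕ Fin k → ZMod 2) →ₗ[ZMod 2] V := Fintype.linearCombination (ZMod 2) b
  have hLs : ∀ s, L (Pi.single s 1) = b s := fun s => by
    simp [L, Fintype.linearCombination_apply_single]
  let J : (Fin k ⊕ Fin k → ZMod 2) →ₗ[ZMod 2] (Fin k ⊕ Fin k → ZMod 2) →ₗ[ZMod 2] ZMod 2 :=
    Matrix.toBilin' (Matrix.J (Fin k) (ZMod 2))
  have hJ : ∀ u v, J u v = Cfsg.sympForm k (ZMod 2) u v := fun u v => by
    show Matrix.toBilin' (Matrix.J (Fin k) (ZMod 2)) u v = _
    rw [Matrix.toBilin'_apply']; rfl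
  have hLB : ∀ u v, B (L u) (L v) = Cfsg.sympForm k (ZMod 2) u v := by
    intro u v
    have : B.compl₁₂ L L = J := (Pi.basisFun (ZMod 2) _).ext fun s =>
      (Pi.basisFun (ZMod 2) _).ext fun t => by simp [Pi.basisFun_apply, hLs, hb, hJ]
    rw [← hJ]
    exact LinearMap.congr_fun (LinearMap.congr_fun this u) v
  have hLinj : Function.Injective L := by
    rw [← LinearMap.ker_eq_bot, LinearMap.ker_eq_bot']
    intro u hu
    refine form_nondeg fun v => ?_
    rw [← hLB, hu, map_zero, LinearMap.zero_apply]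
  have hLsurj : Function.Surjective L :=
    (LinearMap.injective_iff_surjective_of_finrank_eq_finrank (by
      rw [Module.finrank_pi, hk, Fintype.card_sum, Fintype.card_fin, two_mul])).1 hLinj
  choose vc hvc using fun d => hLsurj (r d)
  have hform : ∀ d e, Cfsg.sympForm k (ZMod 2) (vc d) (vc e) = row D d.1 e.1 := fun d e => by
    rw [← hLB, hvc, hvc, LinearMap.mk₂_apply, hev1]
  -- every element acts linearly
  let cj : G → {d // d ∈ D} → {d // d ∈ D} := fun g d => ⟨g * d.1 * g⁻¹, C.tc.conj g d.1 d.2⟩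
  let P : G → Matrix.symplecticGroup (Fin k) (ZMod 2) → Prop :=
    fun g M => ∀ d, M • vc d = vc (cj g d)
  have hext : ∀ M N : Matrix.symplecticGroup (Fin k) (ZMod 2),
      (∀ d, M • vc d = N • vc d) → M = N := by
    intro M N h
    refine ext_smul fun v => ?_
    rcases hcases (L v) with h0 | ⟨d, hd⟩
    · rw [show v = 0 from hLinj (h0.trans (map_zero L).symm)]
      simp [SymplecticBasic.smul_def]
    · rw [show v = vc d from hLinj (hd.trans (hvc d).symm)]
      exact h d
  have hgen : ∀ d : {d // d ∈ D}, P d.1 (transv (vc d) 1) := by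
    intro d e
    apply hLinj
    rw [transv_smul, one_mul, map_add, map_smul, hform, hvc, hvc, hvc]
    apply Subtype.ext
    show row D e.1 + row D e.1 d.1 • row D d.1 = row D (d.1 * e.1 * d.1⁻¹)
    rw [C.tc.inv_eq d.2]
    by_cases hc : Commute d.1 e.1
    · rw [C.tc.fix d.2 hc]
      rw [row_zero hc.symm, zero_smul, add_zero]
    · rw [row_third C hs d.2 e.2 hc, add_comm (row D d.1)]
      have : row D e.1 d.1 = 1 := row_one d.2 fun h => hc h.symm
      rw [this, one_smul]
  have hone : P 1 1 := fun d => by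
    rw [one_smul]; congr 1; exact Subtype.ext (by simp [cj])
  have hmul : ∀ {g g' M M'}, P g M → P g' M' → P (g * g') (M * M') := fun {g g' M M'} h h' d => by
    rw [mul_smul, h', h]; congr 1; exact Subtype.ext (by simp only [cj]; group)
  have hex : ∀ g, ∃ M, P g M := by
    intro g
    have hg : g ∈ Subgroup.closure D := C.tc.gen ▸ Subgroup.mem_top g
    induction hg using Subgroup.closure_induction with
    | mem d hd => exact ⟨_, hgen ⟨d, hd⟩⟩
    | one => exact ⟨1, hone⟩
    | mul a b _ _ ha hb => exact ⟨_, hmul ha.choose_spec hb.choose_spec⟩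
    | inv a _ ha =>
      obtain ⟨M, hM⟩ := ha
      refine ⟨M⁻¹, fun d => ?_⟩
      rw [inv_smul_eq_iff, hM]
      congr 1
      exact Subtype.ext (by simp only [cj]; group)
  choose ρ hρ using hex
  let φ : G →* Matrix.symplecticGroup (Fin k) (ZMod 2) :=
    { toFun := ρ
      map_one' := hext _ _ fun d => (hρ 1 d).trans (hone d).symm
      map_mul' := fun g g' => hext _ _ fun d => (hρ _ d).trans (hmul (hρ g) (hρ g') d).symm }
  have hinj : Function.Injective φ := by
    rw [← MonoidHom.ker_eq_bot_iff, eq_bot_iff]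
    intro g hg
    have hfix : ∀ d : {d // d ∈ D}, g * d.1 * g⁻¹ = d.1 := by
      intro d
      have h1 := hρ g d
      rw [show ρ g = 1 from hg, one_smul] at h1
      have h2 : r d = r (cj g d) := by rw [← hvc, h1, hvc]
      exact (row_inj C hs d.2 (cj g d).2 (congrArg Subtype.val h2)).symm
    have htop : (⊤ : Subgroup G) ≤ centralizer ({g} : Set G) := by
      rw [← C.tc.gen, Subgroup.closure_le]
      exact fun d hd => mem_centralizer_singleton_iff.mpr
        (FischerTwins54.commute_of_conj (hfix ⟨d, hd⟩)).symm.eq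
    have hc : g ∈ center G := mem_center_iff.mpr fun x =>
      mem_centralizer_singleton_iff.mp (htop (mem_top x))
    rwa [center_eq_bot C] at hc
  have hsurj : Function.Surjective φ := by
    rw [← MonoidHom.range_eq_top]
    refine eq_top_of_transv fun v c => ?_
    fin_cases c
    · show transv v 0 ∈ _
      rw [transv_zero]; exact one_mem _
    · show transv v 1 ∈ _
      rcases hcases (L v) with h0 | ⟨d, hd⟩
      · rw [show v = 0 from hLinj (h0.trans (map_zero L).symm), transv_vec_zero]
        exact one_mem _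
      · rw [show v = vc d from hLinj (hd.trans (hvc d).symm)]
        exact ⟨d.1, hext _ _ fun e => (hρ _ e).trans (hgen d e).symm⟩
  have hφ : ∀ d : {d // d ∈ D}, φ d.1 = transv (vc d) 1 :=
    fun d => hext _ _ fun e => (hρ _ e).trans (hgen d e).symm
  refine ⟨k, MulEquiv.ofBijective φ ⟨hinj, hsurj⟩, Set.ext fun g => ⟨?_, fun hg => ?_⟩⟩
  · rintro ⟨d, hd, rfl⟩
    show ((φ d : Matrix (Fin k ⊕ Fin k) (Fin k ⊕ Fin k) (ZMod 2)) - 1).rank = 1
    rw [hφ ⟨d, hd⟩]
    refine SymplecticTransv.rank_transv_sub_one (fun h0 => hne0 ⟨d, hd⟩ ?_) one_ne_zero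
    rw [← hvc, h0, map_zero]
  · obtain ⟨v, c, hv, hc, rfl⟩ := SymplecticTransv.exists_transv_of_rank hg
    have hc1 : c = 1 := by fin_cases c; exacts [absurd rfl hc, rfl]
    subst hc1
    rcases hcases (L v) with h0 | ⟨d, hd⟩
    · exact absurd (hLinj (h0.trans (map_zero L).symm)) hv
    · refine ⟨d.1, d.2, ?_⟩
      show φ d.1 = _
      rw [hφ, show v = vc d from hLinj (hd.trans (hvc d).symm)]

/-- The theorem for lines of three points, forgetting the transpositions. -/
theorem exists_equiv (hne : D.Nonempty) :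
    ∃ n : ℕ, Nonempty (G ≃* Matrix.symplecticGroup (Fin n) (ZMod 2)) :=
  let ⟨n, e, _⟩ := exists_equiv_image C hs hne
  ⟨n, ⟨e⟩⟩

end Cfsg.Agent.FischerPolarSp99
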