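import Cfsg.Agent.Lib.FusionPSUBasic

/-!
Centralizers of the Eichler group at a point and of the unipotent radical at an isotropic line,
and a torus joining the two, in `SU n q`.
-/

set_option autoImplicit false

namespace Cfsg.Agent.FusionPSUTools

open Cfsg Matrix
open Cfsg.Agent.OrthUnitaryHerm Cfsg.Agent.OrthUnitaryTransvection Cfsg.Agent.FusionPSUBasic

variable {F : Type*} [Field F] [Fintype F] {q n : ℕ}

theorem mem_normalizer_of_conj {G : Type*} [Group G] [Finite G] {H : Subgroup G} {g : G}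
    (h : ∀ x ∈ H, g * x * g⁻¹ ∈ H) : g ∈ Subgroup.normalizer (H : Set G) := by
  refine Subgroup.mem_normalizer_iff.2 fun x => ⟨h x, fun hx => ?_⟩
  have hle : H.map (MulAut.conj g).toMonoidHom ≤ H := by
    rintro _ ⟨y, hy, rfl⟩
    exact h y hy
  have he := Subgroup.eq_of_le_of_card_ge hle
    (le_of_eq (Nat.card_congr (H.equivMapOfInjective _ (MulAut.conj g).injective).toEquiv))
  have hx' : g * x * g⁻¹ ∈ H.map (MulAut.conj g).toMonoidHom := by rw [he]; exact hx
  obtain ⟨y, hy, hyx⟩ := hx'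
  have : y = x := by simpa using hyx
  exact this ▸ hy

theorem exists_scalar (hF : Fintype.card F = q ^ 2) (hn : 2 ≤ n) {g : SU n F q}
    (hg : g ∈ Subgroup.center (SU n F q)) : ∃ a : F, ∀ x, act g x = a • x := by
  refine ⟨((g : SpecialLinearGroup (Fin n) F) : Matrix (Fin n) (Fin n) F) ⟨0, by omega⟩ ⟨0, by omega⟩,
    fun x => funext fun i => ?_⟩
  rw [act, Matrix.mulVec, dotProduct, Finset.sum_eq_single i]
  · rw [center_SU_scalar hF hn hg i i, if_pos rfl, Pi.smul_apply, smul_eq_mul]
  · intro j _ hji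
    rw [center_SU_scalar hF hn hg i j, if_neg hji.symm, zero_mul]
  · simp

omit [Fintype F] in
theorem mem_center_of_scalar {g : SU n F q} {a : F} (h : ∀ x, act g x = a • x) :
    g ∈ Subgroup.center (SU n F q) :=
  Subgroup.mem_center_iff.2 fun k => su_ext fun x => by rw [act_mul, act_mul, h, h, act_smul]

section Quot

variable {G : Type*} [Group G] (ψ : SU n F q →* G)
  (hψ : ∀ x, ψ x = 1 ↔ x ∈ Subgroup.center (SU n F q))
include hψ

theorem eq_of_scalar {s t : SU n F q} {a : F} (h : ∀ x, act s x = a • act t x) : ψ s = ψ t := by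
  have hz : s * t⁻¹ ∈ Subgroup.center (SU n F q) := mem_center_of_scalar (a := a) fun x => by
    rw [act_mul, h, act_act_inv]
  have := (hψ _).2 hz
  rwa [map_mul, map_inv, mul_inv_eq_one] at this

variable {p : ℕ} [Fact p.Prime] [CharP F p]

theorem exact (hF : Fintype.card F = q ^ 2) (hn : 2 ≤ n) {a b : SU n F q} {i j : ℕ}
    (ha : a ^ p ^ i = 1) (hb : b ^ p ^ j = 1) (h : ψ a = ψ b) : a = b := by
  have hz : a * b⁻¹ ∈ Subgroup.center (SU n F q) :=
    (hψ _).1 (by rw [map_mul, map_inv, h, mul_inv_cancel])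
  obtain ⟨z, hzdef⟩ : ∃ z, z = a * b⁻¹ := ⟨_, rfl⟩
  rw [← hzdef] at hz
  obtain ⟨c, hc⟩ := exists_scalar hF hn hz
  have hcom : Commute z b := (Subgroup.mem_center_iff.1 hz b).symm
  have hN : z ^ p ^ (i + j) = 1 := by
    have e : a = z * b := by rw [hzdef, inv_mul_cancel_right]
    have h1 := hcom.mul_pow (p ^ (i + j))
    rw [← e, pow_add, pow_mul, ha, one_pow, mul_comm (p ^ i), pow_mul b, hb, one_pow, mul_one] at h1
    rw [pow_add, mul_comm]
    exact h1.symm
  have hpow : ∀ (N : ℕ) (x : Fin n → F), act (z ^ N) x = c ^ N • x := by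
    intro N
    induction N with
    | zero => intro x; rw [pow_zero, act_one, pow_zero, one_smul]
    | succ N ih => intro x; rw [pow_succ, act_mul, hc, act_smul, ih, smul_smul, pow_succ']
  have hc1 : c = 1 := by
    refine PSLUnipotent.scalar_eq_one p (k := i + j) ?_
    have := congrFun (hpow (p ^ (i + j)) (Pi.single ⟨0, by omega⟩ 1)) ⟨0, by omega⟩
    rw [hN, act_one] at this
    simpa using this.symm
  refine mul_inv_eq_one.1 (su_ext fun x => ?_)
  rw [← hzdef, hc, hc1, one_smul, act_one]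

theorem exact_comm (hF : Fintype.card F = q ^ 2) (hn : 2 ≤ n) {g x : SU n F q} {i : ℕ}
    (hx : x ^ p ^ i = 1) (h : Commute (ψ g) (ψ x)) : Commute g x := by
  refine mul_inv_eq_iff_eq_mul.1 (exact ψ hψ (p := p) hF hn (i := i) (j := i) ?_ hx ?_)
  · rw [conj_pow, hx, mul_one, mul_inv_cancel]
  · rw [map_mul, map_mul, map_inv, h.eq, mul_inv_cancel_right]

end Quot

/-- An element commuting with a transvection at `v` fixes the line of `v`. -/
theorem smul_of_tv_comm (hF : Fintype.card F = q ^ 2) {A : SU n F q} {v : Fin n → F} {c : F}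
    (hv0 : v ≠ 0) (hv : hermForm n F q v v = 0) (hc : c + c ^ q = 0) (hc0 : c ≠ 0)
    (h : Commute A (tv hF v c hv hc)) : ∃ a : F, a ^ q * a = 1 ∧ act A v = a • v := by
  have hA : tv hF (act A v) c (by rw [herm_act, hv]) hc = tv hF v c hv hc := by
    rw [← OrthUnitaryPSU.tv_conj hF A hv hc, h.eq, mul_inv_cancel_right]
  obtain ⟨z, hz⟩ := exists_herm_eq hF (OrthUnitaryPSU.act_smul_right_inj A hv0) 1
  have h1 := congrArg (fun g => act g z) hA
  simp only [tv_act, hz, mul_one, add_right_inj] at h1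
  rw [← smul_smul] at h1
  have h2 := smul_right_injective _ hc0 h1
  refine ⟨hermForm n F q z v, ?_, h2⟩
  rw [h2, herm_smul_right] at hz
  exact hz

/-- The further consequence of commuting with an Eichler element. -/
theorem smul_add_of_eich_comm (hF : Fintype.card F = q ^ 2) {A : SU n F q} {v w : Fin n → F}
    {μ a : F} (hv0 : v ≠ 0) (ha : a ^ q * a = 1) (hAv : act A v = a • v)
    (hv : hermForm n F q v v = 0) (hw : hermForm n F q w v = 0)
    (hμ : μ + μ ^ q + hermForm n F q w w = 0) (h : Commute A (eich hF v w μ hv hw hμ)) :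
    ∃ b : F, act A w = a • w + b • v := by
  obtain ⟨z, hz⟩ := exists_herm_eq hF hv0 1
  have hA := congrArg (fun g => act g (act A z)) (show A * eich hF v w μ hv hw hμ * A⁻¹ =
    eich hF v w μ hv hw hμ by rw [h.eq, mul_inv_cancel_right])
  simp only [eich_conj hF A hv hw hμ, eich_act, herm_act, hAv, add_assoc, add_right_inj] at hA
  have hb : hermForm n F q (act A z) v = a := by
    have h1 : hermForm n F q (act A z) (a • v) = 1 := by rw [← hAv, herm_act, hz]
    rw [herm_smul_right] at h1
    linear_combination a * h1 - hermForm n F q (act A z) v * ha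
  refine ⟨(μ * a - hermForm n F q (act A z) w) - (μ * 1 - hermForm n F q z w) * a, ?_⟩
  have h1 : hermForm n F q (act A z) (a • v) = 1 := by rw [← hAv, herm_act, hz]
  rw [hb, h1, one_smul] at hA
  linear_combination (norm := module) hA

theorem eich_move_mu (hF : Fintype.card F = q ^ 2) {v v' : Fin n → F}
    (hv : hermForm n F q v v = 0) (hv' : hermForm n F q v' v' = 0) :
    hermForm n F q v v' + hermForm n F q v v' ^ q + hermForm n F q (v' - v) (v' - v) = 0 := by
  simp only [herm_sub_left, herm_sub_right hF, hv, hv', ← herm_conj hF]; ring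

/-- The Eichler element moving one partner to another, with explicit parameters. -/
theorem eich_move (hF : Fintype.card F = q ^ 2) {e v v' : Fin n → F}
    (he : hermForm n F q e e = 0) (hv : hermForm n F q v v = 0) (hve : hermForm n F q v e = 1)
    (hw : hermForm n F q (v' - v) e = 0)
    (hμ : hermForm n F q v v' + hermForm n F q v v' ^ q + hermForm n F q (v' - v) (v' - v) = 0) :
    act (eich hF e (v' - v) (hermForm n F q v v') he hw hμ) v = v' := by
  rw [eich_act, hve, herm_sub_right hF, hv, one_smul, mul_one, sub_zero, sub_self, zero_smul,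
    add_zero, add_sub_cancel]

/-- The centralizer of the Eichler group at a point. -/
theorem comm_QE (hF : Fintype.card F = q ^ 2) {e f : Fin n → F} (he0 : e ≠ 0)
    (he : hermForm n F q e e = 0) (hff : hermForm n F q f f = 0)
    (hfe : hermForm n F q f e = 1) (hef : hermForm n F q e f = 1) {A : SU n F q}
    (h : ∀ x ∈ QE hF e he, Commute A x) :
    ∃ E ∈ QE hF e he, ∃ a : F, ∀ x, act A x = a • act E x := by
  obtain ⟨c, hc0, hc⟩ := exists_skew hF
  obtain ⟨a, ha, hAe⟩ := smul_of_tv_comm hF he0 he hc hc0 (h _ (tv_mem_QE hF he hc))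
  have ha0 : a ≠ 0 := fun h0 => zero_ne_one (by rw [← ha, h0, mul_zero])
  have haf : hermForm n F q (act A f) e = a := by
    have h1 : hermForm n F q (act A f) (a • e) = 1 := by rw [← hAe, herm_act, hfe]
    rw [herm_smul_right] at h1
    linear_combination a * h1 - hermForm n F q (act A f) e * ha
  obtain ⟨w1, μ1, hw1, hμ1, hmv⟩ := exists_eich_move hF he (u := a⁻¹ • act A f) (v := f)
    (by rw [herm_smul_left, herm_smul_right, herm_act, hff]; ring) hff
    (by rw [herm_smul_left, haf, inv_mul_cancel₀ ha0]) hfe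
  set E := eich hF e w1 μ1 he hw1 hμ1 with hE

  have hBf : act (E * A) f = a • f := by
    rw [act_mul]
    rw [act_smul, inv_smul_eq_iff₀ ha0] at hmv
    exact hmv
  have hBe : act (E * A) e = a • e := by rw [act_mul, hAe, act_smul, hE, eich_self]
  have hBw : ∀ w, hermForm n F q w e = 0 → hermForm n F q w f = 0 → act (E * A) w = a • w := by
    intro w hwe hwf
    obtain ⟨μ, hμ⟩ := exists_mu hF w
    obtain ⟨b, hb⟩ := smul_add_of_eich_comm hF he0 ha hAe he hwe hμ (h _ (eich_mem_QE hF he hwe hμ))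
    obtain ⟨b', hb'⟩ : ∃ b', act (E * A) w = a • w + b' • e := by
      refine ⟨b - a * hermForm n F q w w1, ?_⟩
      rw [act_mul, hb, act_add, act_smul, act_smul, hE, eich_self, eich_act, hwe]
      module
    have h1 := herm_act (E * A) w f
    rw [hb', hBf, hwf] at h1
    simp only [herm_add_left, herm_smul_left, herm_smul_right, hwf, hef, mul_zero, zero_add,
      mul_one, mul_eq_zero, pow_eq_zero_iff (q_ne_zero hF)] at h1
    rw [hb', h1.resolve_left ha0, zero_smul, add_zero]
  refine ⟨E⁻¹, inv_mem (eich_mem_QE hF he hw1 hμ1), a, fun x => ?_⟩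
  obtain ⟨h1, h2⟩ := proj2_perp he hff hef hfe x
  have hx : act (E * A) x = a • x := by
    conv_lhs => rw [show x = proj2 q e f x + hermForm n F q x f • e + hermForm n F q x e • f by
      rw [proj2_apply]; abel]
    rw [act_add, act_add, act_smul, act_smul, hBw _ h1 h2, hBe, hBf, proj2_apply]
    module
  rw [← act_smul, ← hx, act_mul, act_inv_act]

/-- The centre of the Eichler group consists of transvections. -/
theorem central_QE (hF : Fintype.card F = q ^ 2) {e : Fin n → F} (he0 : e ≠ 0)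
    (he : hermForm n F q e e = 0) {E : SU n F q} (hE : E ∈ QE hF e he)
    (h : ∀ x ∈ QE hF e he, Commute E x) :
    ∃ (c : F) (hc : c + c ^ q = 0), E = tv hF e c he hc := by
  obtain ⟨w, μ, _he, hw, hμ, rfl⟩ := hE
  obtain ⟨z, hz⟩ := exists_herm_eq hF he0 1
  have hsym : ∀ w', hermForm n F q w' e = 0 → hermForm n F q w' w = hermForm n F q w w' := by
    intro w' hw'
    obtain ⟨μ', hμ'⟩ := exists_mu hF w'
    have h1 := congrArg (fun g => act g z) (h _ (eich_mem_QE hF he hw' hμ')).eq
    simp only [eich_mul, eich_act, hz] at h1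
    have h2 : (hermForm n F q w w' - hermForm n F q w' w) • e = 0 := by
      rw [herm_add_right hF, herm_add_right hF] at h1
      linear_combination (norm := module) h1
    rcases smul_eq_zero.1 h2 with h3 | h3
    · exact (sub_eq_zero.1 h3).symm
    · exact absurd h3 he0
  obtain ⟨a, rfl⟩ : ∃ a : F, w = a • e := by
    by_contra hno
    push Not at hno
    obtain ⟨t, ht⟩ := exists_pow_q_ne hF
    obtain ⟨w', hw'e, hw'w⟩ := exists_herm_pair hF he0 hno 0 t
    have := hsym w' hw'e
    rw [hw'w, herm_conj hF w' w, hw'w] at this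
    exact ht this.symm
  rw [herm_smul_left, herm_smul_right, he, mul_zero, mul_zero, add_zero] at hμ
  refine ⟨a + μ - a ^ q, by rw [sub_pow_q hF, add_pow_q hF, pow_q_q hF]; linear_combination hμ,
    su_ext fun x => ?_⟩
  rw [eich_act, tv_act, herm_smul_right]
  module

/-- An Eichler element at a multiple of `e` lies in the group at `e`. -/
theorem eich_smul_mem_QE (hF : Fintype.card F = q ^ 2) {e w : Fin n → F} {μ lam : F}
    (he : hermForm n F q e e = 0) (he' : hermForm n F q (lam • e) (lam • e) = 0)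
    (hw : hermForm n F q w (lam • e) = 0) (hμ : μ + μ ^ q + hermForm n F q w w = 0) :
    eich hF (lam • e) w μ he' hw hμ ∈ QE hF e he := by
  have hw2 : hermForm n F q (lam ^ q • w) e = 0 := by
    rw [herm_smul_left, ← hw, herm_smul_right]
  have hμ2 : lam ^ (q + 1) * μ + (lam ^ (q + 1) * μ) ^ q +
      hermForm n F q (lam ^ q • w) (lam ^ q • w) = 0 := by
    rw [herm_smul_left, herm_smul_right, pow_q_q hF, mul_pow, pow_succ, mul_pow, pow_q_q hF]
    linear_combination (lam * lam ^ q) * hμ
  rw [eich_scale hF he he' hw hw2 hμ hμ2]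
  exact eich_mem_QE hF he hw2 hμ2

/-- Two orthogonal hyperbolic pairs. -/
structure Frame (q : ℕ) (e f u g : Fin n → F) : Prop where
  ee : hermForm n F q e e = 0
  ff : hermForm n F q f f = 0
  uu : hermForm n F q u u = 0
  gg : hermForm n F q g g = 0
  fe : hermForm n F q f e = 1
  ef : hermForm n F q e f = 1
  gu : hermForm n F q g u = 1
  ug : hermForm n F q u g = 1
  eu : hermForm n F q e u = 0
  eg : hermForm n F q e g = 0
  fu : hermForm n F q f u = 0
  fg : hermForm n F q f g = 0
  ue : hermForm n F q u e = 0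
  ge : hermForm n F q g e = 0
  uf : hermForm n F q u f = 0
  gf : hermForm n F q g f = 0

section Line

variable {e f u g : Fin n → F}

theorem Frame.e_ne (fr : Frame q e f u g) : e ≠ 0 := fun h => by
  have := fr.ef; rw [h, herm_zero_left] at this; exact zero_ne_one this

theorem Frame.u_ne (fr : Frame q e f u g) : u ≠ 0 := fun h => by
  have := fr.ug; rw [h, herm_zero_left] at this; exact zero_ne_one this

theorem Frame.perp (fr : Frame q e f u g) {x w : Fin n → F}
    (hwd : w = x - hermForm n F q x f • e - hermForm n F q x e • f -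
      hermForm n F q x g • u - hermForm n F q x u • g) :
    hermForm n F q w e = 0 ∧ hermForm n F q w f = 0 ∧ hermForm n F q w u = 0 ∧
      hermForm n F q w g = 0 := by
  refine ⟨?_, ?_, ?_, ?_⟩ <;>
    · rw [hwd]
      simp only [herm_sub_left, herm_smul_left, fr.ee, fr.fe, fr.ue, fr.ge, fr.ef, fr.ff, fr.uf,
        fr.gf, fr.eu, fr.fu, fr.uu, fr.gu, fr.eg, fr.fg, fr.ug, fr.gg]
      ring

theorem Frame.ext (fr : Frame q e f u g) (hF : Fintype.card F = q ^ 2) {A B : SU n F q}
    (he : act A e = act B e) (hf : act A f = act B f) (hu : act A u = act B u)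
    (hg : act A g = act B g)
    (hw : ∀ w, hermForm n F q w e = 0 → hermForm n F q w f = 0 → hermForm n F q w u = 0 →
      hermForm n F q w g = 0 → act A w = act B w) : A = B := by
  apply su_ext
  intro x
  obtain ⟨w, hwd⟩ : ∃ w, w = x - hermForm n F q x f • e - hermForm n F q x e • f -
      hermForm n F q x g • u - hermForm n F q x u • g := ⟨_, rfl⟩
  have hx : x = w + hermForm n F q x f • e + hermForm n F q x e • f +
      hermForm n F q x g • u + hermForm n F q x u • g := by rw [hwd]; abel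
  obtain ⟨h1, h2, h3, h4⟩ := fr.perp hwd
  have := hw w h1 h2 h3 h4
  rw [hx]
  simp only [act_add, act_smul, he, hf, hu, hg, this]

/-- The stabilizer of the line through `e` and `u`. -/
def lineStab (hF : Fintype.card F = q ^ 2) (e u : Fin n → F) : Subgroup (SU n F q) :=
  let M : Submonoid (SU n F q) :=
    { carrier := {k | (∃ a b : F, act k e = a • e + b • u) ∧ ∃ a b : F, act k u = a • e + b • u}
      one_mem' := ⟨⟨1, 0, by rw [act_one, one_smul, zero_smul, add_zero]⟩,
        ⟨0, 1, by rw [act_one, one_smul, zero_smul, zero_add]⟩⟩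
      mul_mem' := by
        rintro k l ⟨⟨a, b, h1⟩, ⟨c, d, h2⟩⟩ ⟨⟨a', b', h3⟩, ⟨c', d', h4⟩⟩
        refine ⟨⟨a' * a + b' * c, a' * b + b' * d, ?_⟩, ⟨c' * a + d' * c, c' * b + d' * d, ?_⟩⟩
        · rw [act_mul, h3, act_add, act_smul, act_smul, h1, h2]; module
        · rw [act_mul, h4, act_add, act_smul, act_smul, h1, h2]; module }
  { M with
    inv_mem' := fun {x} hx => by
      obtain ⟨k, hk, hk1⟩ := (isOfFinOrder_of_finite x).exists_pow_eq_one
      have : x⁻¹ = x ^ (k - 1) := by
        rw [inv_eq_iff_mul_eq_one, ← pow_succ', Nat.sub_add_cancel hk, hk1]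
      rw [this]
      exact M.pow_mem hx _ }

/-- The unipotent radical at the line through `e` and `u`. -/
def lineRad (q : ℕ) (e u : Fin n → F) : Subgroup (SU n F q) where
  carrier := {k | act k e = e ∧ act k u = u ∧ ∀ x, hermForm n F q x e = 0 →
    hermForm n F q x u = 0 → ∃ a b : F, act k x = x + a • e + b • u}
  one_mem' := ⟨act_one _, act_one _, fun x _ _ =>
    ⟨0, 0, by rw [act_one, zero_smul, zero_smul, add_zero, add_zero]⟩⟩
  mul_mem' := by
    rintro k l ⟨k1, k2, k3⟩ ⟨l1, l2, l3⟩
    refine ⟨by rw [act_mul, l1, k1], by rw [act_mul, l2, k2], fun x hxe hxu => ?_⟩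
    obtain ⟨a, b, hl⟩ := l3 x hxe hxu
    obtain ⟨a', b', hk⟩ := k3 x hxe hxu
    exact ⟨a + a', b + b', by rw [act_mul, hl, act_add, act_add, act_smul, act_smul, k1, k2, hk]; module⟩
  inv_mem' := by
    rintro k ⟨k1, k2, k3⟩
    refine ⟨act_inv_of k k1, act_inv_of k k2, fun x hxe hxu => ?_⟩
    obtain ⟨a, b, hk⟩ := k3 x hxe hxu
    refine ⟨-a, -b, act_inv_of k ?_⟩
    rw [act_add, act_add, act_smul, act_smul, k1, k2, hk]; module

theorem lineStab_le_normalizer (hF : Fintype.card F = q ^ 2) (e u : Fin n → F) :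
    lineStab hF e u ≤ Subgroup.normalizer (lineRad q e u : Set (SU n F q)) := by
  have key : ∀ k ∈ lineStab hF e u, ∀ r ∈ lineRad q e u, k * r * k⁻¹ ∈ lineRad q e u := by
    intro k hk r ⟨r1, r2, r3⟩
    obtain ⟨⟨a', b', hke'⟩, ⟨c', d', hku'⟩⟩ := inv_mem hk
    obtain ⟨⟨a, b, hke⟩, ⟨c, d, hku⟩⟩ := hk
    refine ⟨?_, ?_, fun x hxe hxu => ?_⟩
    · rw [act_mul, act_mul, hke', act_add r, act_smul r, act_smul r, r1, r2, ← hke', act_act_inv]
    · rw [act_mul, act_mul, hku', act_add r, act_smul r, act_smul r, r1, r2, ← hku', act_act_inv]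
    · obtain ⟨s, t, hs⟩ := r3 (act k⁻¹ x)
        (by rw [← herm_act k, act_act_inv, hke, herm_add_right hF, herm_smul_right, herm_smul_right,
          hxe, hxu, mul_zero, mul_zero, add_zero])
        (by rw [← herm_act k, act_act_inv, hku, herm_add_right hF, herm_smul_right, herm_smul_right,
          hxe, hxu, mul_zero, mul_zero, add_zero])
      refine ⟨s * a + t * c, s * b + t * d, ?_⟩
      rw [act_mul, act_mul, hs, act_add, act_add, act_smul, act_smul, act_act_inv, hke, hku]
      module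
  exact fun k hk => mem_normalizer_of_conj (key k hk)

theorem isPGroup_lineRad (fr : Frame q e f u g) (hF : Fintype.card F = q ^ 2)
    {p : ℕ} [Fact p.Prime] [CharP F p] : IsPGroup p (lineRad q e u) := by
  rintro ⟨r, r1, r2, r3⟩
  refine ⟨2, Subtype.ext (pow_eq_one_of_cube r fun x => ?_)⟩
  have he : hermForm n F q (act r x - x) e = 0 := by
    rw [herm_sub_left]; conv_lhs => arg 1; rw [← r1, herm_act]
    rw [sub_self]
  have hu : hermForm n F q (act r x - x) u = 0 := by
    rw [herm_sub_left]; conv_lhs => arg 1; rw [← r2, herm_act]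
    rw [sub_self]
  obtain ⟨a, b, h⟩ := r3 _ he hu
  rw [h, add_assoc, add_sub_cancel_left, act_add, act_smul, act_smul, r1, r2, sub_self]

theorem eich_mem_lineRad (fr : Frame q e f u g) (hF : Fintype.card F = q ^ 2)
    {v w : Fin n → F} {μ a b : F} (hvab : v = a • e + b • u)
    (hv : hermForm n F q v v = 0) (hw : hermForm n F q w v = 0)
    (hμ : μ + μ ^ q + hermForm n F q w w = 0)
    (hwe : hermForm n F q w e = 0) (hwu : hermForm n F q w u = 0) :
    eich hF v w μ hv hw hμ ∈ lineRad q e u := by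
  have hev : ∀ x, hermForm n F q x e = 0 → hermForm n F q x u = 0 → hermForm n F q x v = 0 := by
    intro x h1 h2
    rw [hvab, herm_add_right hF, herm_smul_right, herm_smul_right, h1, h2]; ring
  refine ⟨?_, ?_, fun x hxe hxu => ?_⟩
  · rw [eich_act, hev e fr.ee fr.eu, herm_skew_zero hF hwe]; simp
  · rw [eich_act, hev u fr.ue fr.uu, herm_skew_zero hF hwu]; simp
  · refine ⟨-(hermForm n F q x w) * a, -(hermForm n F q x w) * b, ?_⟩
    rw [eich_act, hev x hxe hxu, zero_smul, add_zero, mul_zero, zero_sub, hvab]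
    module

theorem tv_mem_lineRad (fr : Frame q e f u g) (hF : Fintype.card F = q ^ 2)
    {v : Fin n → F} {c a b : F} (hvab : v = a • e + b • u)
    (hv : hermForm n F q v v = 0) (hc : c + c ^ q = 0) :
    tv hF v c hv hc ∈ lineRad q e u := by
  have hμ : c + c ^ q + hermForm n F q (0 : Fin n → F) 0 = 0 := by rw [herm_zero_left, add_zero, hc]
  rw [← eich_eq_tv hF hv (herm_zero_left _) hμ]
  exact eich_mem_lineRad fr hF hvab hv _ hμ (herm_zero_left _) (herm_zero_left _)

/-- The centralizer of the radical at the line. -/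
theorem comm_lineRad (fr : Frame q e f u g) (hF : Fintype.card F = q ^ 2) {A : SU n F q}
    (h : ∀ x ∈ lineRad q e u, Commute A x) :
    ∃ R ∈ lineRad q e u, ∃ a : F, ∀ x, act A x = a • act R x := by
  obtain ⟨c, hc0, hc⟩ := exists_skew hF
  have hline : ∀ v : Fin n → F, v ≠ 0 → ∀ a b : F, v = a • e + b • u →
      ∀ hv : hermForm n F q v v = 0, ∃ l : F, l ^ q * l = 1 ∧ act A v = l • v :=
    fun v hv0 a b hab hv => smul_of_tv_comm hF hv0 hv hc hc0 (h _ (tv_mem_lineRad fr hF hab hv hc))
  obtain ⟨a, ha, hAe⟩ := hline e fr.e_ne 1 0 (by module) fr.ee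
  obtain ⟨a', ha', hAu⟩ := hline u fr.u_ne 0 1 (by module) fr.uu
  obtain ⟨l, -, hAeu⟩ := hline (e + u)
    (fun h0 => by
      have := congrArg (fun v => hermForm n F q v f) h0
      simp [herm_add_left, fr.ef, fr.uf, herm_zero_left] at this)
    1 1 (by module)
    (by simp only [herm_add_left, herm_add_right hF, fr.ee, fr.eu, fr.ue, fr.uu]; ring)
  have haa : a' = a := by
    rw [act_add, hAe, hAu] at hAeu
    have h1 := congrArg (fun v => hermForm n F q v f) hAeu
    have h2 := congrArg (fun v => hermForm n F q v g) hAeu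
    simp only [herm_add_left, herm_smul_left, fr.ef, fr.uf, fr.eg, fr.ug] at h1 h2
    linear_combination h2 - h1
  rw [haa] at hAu
  have ha0 : a ≠ 0 := fun h0 => zero_ne_one (by rw [← ha, h0, mul_zero])
  have hperp : ∀ w, hermForm n F q w e = 0 → hermForm n F q w u = 0 → act A w = a • w := by
    intro w hwe hwu
    obtain ⟨μ, hμ⟩ := exists_mu hF w
    obtain ⟨b, hb⟩ := smul_add_of_eich_comm hF fr.e_ne ha hAe fr.ee hwe hμ
      (h _ (eich_mem_lineRad fr hF (a := 1) (b := 0) (by module) fr.ee hwe hμ hwe hwu))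
    obtain ⟨b', hb'⟩ := smul_add_of_eich_comm hF fr.u_ne ha hAu fr.uu hwu hμ
      (h _ (eich_mem_lineRad fr hF (a := 0) (b := 1) (by module) fr.uu hwu hμ hwe hwu))
    have h1 := congrArg (fun v => hermForm n F q v f) (hb.symm.trans hb')
    simp only [herm_add_left, herm_smul_left, fr.ef, fr.uf, mul_one, mul_zero, add_zero,
      add_eq_left] at h1
    rw [hb, h1, zero_smul, add_zero]
  have hAf1 : hermForm n F q (act A f) e = a := by
    have h1 : hermForm n F q (act A f) (a • e) = 1 := by rw [← hAe, herm_act, fr.fe]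
    rw [herm_smul_right] at h1
    linear_combination a * h1 - hermForm n F q (act A f) e * ha
  have hAf2 : hermForm n F q (act A f) u = 0 := by
    have h1 : hermForm n F q (act A f) (a • u) = 0 := by rw [← hAu, herm_act, fr.fu]
    rw [herm_smul_right] at h1
    linear_combination a * h1 - hermForm n F q (act A f) u * ha
  obtain ⟨v, hv⟩ : ∃ v, v = a⁻¹ • act A f := ⟨_, rfl⟩
  have hvv : hermForm n F q v v = 0 := by
    rw [hv, herm_smul_left, herm_smul_right, herm_act, fr.ff]; ring
  have hve : hermForm n F q v e = 1 := by rw [hv, herm_smul_left, hAf1, inv_mul_cancel₀ ha0]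
  have hvu : hermForm n F q v u = 0 := by rw [hv, herm_smul_left, hAf2, mul_zero]
  have hw1 : hermForm n F q (f - v) e = 0 := by rw [herm_sub_left, hve, fr.fe, sub_self]
  have hw1u : hermForm n F q (f - v) u = 0 := by rw [herm_sub_left, hvu, fr.fu, sub_self]
  have hμ1 := eich_move_mu hF hvv fr.ff
  set E1 := eich hF e (f - v) (hermForm n F q v f) fr.ee hw1 hμ1 with hE1
  have hE1v : act E1 v = f := eich_move hF fr.ee hvv hve hw1 hμ1
  have hR1 : E1 ∈ lineRad q e u :=
    eich_mem_lineRad fr hF (a := 1) (b := 0) (by module) fr.ee hw1 hμ1 hw1 hw1u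
  obtain ⟨B, hB⟩ : ∃ B, B = E1 * A := ⟨_, rfl⟩
  have hBe : act B e = a • e := by rw [hB, act_mul, hAe, act_smul, hR1.1]
  have hBu : act B u = a • u := by rw [hB, act_mul, hAu, act_smul, hR1.2.1]
  have hBf : act B f = a • f := by
    rw [hB, act_mul]
    conv_rhs => rw [← hE1v, ← act_smul, hv, smul_inv_smul₀ ha0]
  have hBw : ∀ w, hermForm n F q w e = 0 → hermForm n F q w u = 0 → hermForm n F q w f = 0 →
      act B w = a • w := by
    intro w hwe hwu hwf
    obtain ⟨b, hb⟩ : ∃ b, act B w = a • w + b • e := by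
      refine ⟨-(a * hermForm n F q w (f - v)), ?_⟩
      rw [hB, act_mul, hperp w hwe hwu, act_smul, hE1, eich_act, hwe]
      module
    have h1 := herm_act B w f
    rw [hb, hBf, hwf] at h1
    simp only [herm_add_left, herm_smul_left, herm_smul_right, hwf, fr.ef, mul_zero, zero_add,
      mul_one, mul_eq_zero, pow_eq_zero_iff (q_ne_zero hF)] at h1
    rw [hb, h1.resolve_left ha0, zero_smul, add_zero]
  have hBg1 : hermForm n F q (act B g) u = a := by
    have h1 : hermForm n F q (act B g) (a • u) = 1 := by rw [← hBu, herm_act, fr.gu]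
    rw [herm_smul_right] at h1
    linear_combination a * h1 - hermForm n F q (act B g) u * ha
  have hBg2 : hermForm n F q (act B g) e = 0 := by
    have h1 : hermForm n F q (act B g) (a • e) = 0 := by rw [← hBe, herm_act, fr.ge]
    rw [herm_smul_right] at h1
    linear_combination a * h1 - hermForm n F q (act B g) e * ha
  have hBg3 : hermForm n F q (act B g) f = 0 := by
    have h1 : hermForm n F q (act B g) (a • f) = 0 := by rw [← hBf, herm_act, fr.gf]
    rw [herm_smul_right] at h1
    linear_combination a * h1 - hermForm n F q (act B g) f * ha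
  obtain ⟨y, hy⟩ : ∃ y, y = a⁻¹ • act B g := ⟨_, rfl⟩
  have hyy : hermForm n F q y y = 0 := by
    rw [hy, herm_smul_left, herm_smul_right, herm_act, fr.gg]; ring
  have hyu : hermForm n F q y u = 1 := by rw [hy, herm_smul_left, hBg1, inv_mul_cancel₀ ha0]
  have hye : hermForm n F q y e = 0 := by rw [hy, herm_smul_left, hBg2, mul_zero]
  have hyf : hermForm n F q y f = 0 := by rw [hy, herm_smul_left, hBg3, mul_zero]
  have hw2 : hermForm n F q (g - y) u = 0 := by rw [herm_sub_left, hyu, fr.gu, sub_self]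
  have hw2e : hermForm n F q (g - y) e = 0 := by rw [herm_sub_left, hye, fr.ge, sub_self]
  have hw2f : hermForm n F q (g - y) f = 0 := by rw [herm_sub_left, hyf, fr.gf, sub_self]
  have hμ2 := eich_move_mu hF hyy fr.gg
  set E2 := eich hF u (g - y) (hermForm n F q y g) fr.uu hw2 hμ2 with hE2
  have hE2y : act E2 y = g := eich_move hF fr.uu hyy hyu hw2 hμ2
  have hR2 : E2 ∈ lineRad q e u :=
    eich_mem_lineRad fr hF (a := 0) (b := 1) (by module) fr.uu hw2 hμ2 hw2e hw2
  have hE2f : act E2 f = f := by rw [hE2, eich_act, fr.fu, herm_skew_zero hF hw2f]; simp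
  have hmem : E1⁻¹ * E2⁻¹ ∈ lineRad q e u := mul_mem (inv_mem hR1) (inv_mem hR2)
  refine ⟨E1⁻¹ * E2⁻¹, hmem, a, fun x => ?_⟩
  have hC : ∀ x, act (E2 * B) x = a • x := by
    intro x
    obtain ⟨w, hwd⟩ : ∃ w, w = x - hermForm n F q x f • e - hermForm n F q x e • f -
        hermForm n F q x g • u - hermForm n F q x u • g := ⟨_, rfl⟩
    have hx : x = w + hermForm n F q x f • e + hermForm n F q x e • f +
        hermForm n F q x g • u + hermForm n F q x u • g := by rw [hwd]; abel
    obtain ⟨hwe, hwf, hwu, hwg⟩ := fr.perp (x := x) hwd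
    have hCe : act (E2 * B) e = a • e := by rw [act_mul, hBe, act_smul, hR2.1]
    have hCu : act (E2 * B) u = a • u := by rw [act_mul, hBu, act_smul, hR2.2.1]
    have hCf : act (E2 * B) f = a • f := by rw [act_mul, hBf, act_smul, hE2f]
    have hCg : act (E2 * B) g = a • g := by
      rw [act_mul]
      conv_rhs => rw [← hE2y, ← act_smul, hy, smul_inv_smul₀ ha0]
    have hCw : act (E2 * B) w = a • w := by
      obtain ⟨b, hb⟩ : ∃ b, act (E2 * B) w = a • w + b • u := by
        refine ⟨-(a * hermForm n F q w (g - y)), ?_⟩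
        rw [act_mul, hBw w hwe hwu hwf, act_smul, hE2, eich_act, hwu]
        module
      have h1 := herm_act (E2 * B) w g
      rw [hb, hCg, hwg] at h1
      simp only [herm_add_left, herm_smul_left, herm_smul_right, hwg, fr.ug, mul_zero, zero_add,
        mul_one, mul_eq_zero, pow_eq_zero_iff (q_ne_zero hF)] at h1
      rw [hb, h1.resolve_left ha0, zero_smul, add_zero]
    conv_lhs => rw [hx]
    conv_rhs => rw [hx]
    simp only [act_add, act_smul, hCe, hCu, hCf, hCg, hCw]
    module
  rw [← act_smul, ← hC, hB, act_mul E1⁻¹, act_mul E2, act_inv_act, act_mul E1, act_inv_act]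


end Line

section Torus

variable {e f u g : Fin n → F}

theorem xp_hyp (fr : Frame q e f u g) (hF : Fintype.card F = q ^ 2) (b : F) :
    hermForm n F q (-(b ^ q) • g) e = 0 ∧
      (0 : F) + 0 ^ q + hermForm n F q (-(b ^ q) • g) (-(b ^ q) • g) = 0 := by
  refine ⟨by rw [herm_smul_left, fr.ge, mul_zero], ?_⟩
  rw [herm_smul_left, herm_smul_right, fr.gg, zero_pow_q hF]; ring

theorem xm_hyp (fr : Frame q e f u g) (hF : Fintype.card F = q ^ 2) (b : F) :
    hermForm n F q (-(b ^ q) • f) u = 0 ∧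
      (0 : F) + 0 ^ q + hermForm n F q (-(b ^ q) • f) (-(b ^ q) • f) = 0 := by
  refine ⟨by rw [herm_smul_left, fr.fu, mul_zero], ?_⟩
  rw [herm_smul_left, herm_smul_right, fr.ff, zero_pow_q hF]; ring

/-- Elements in the stabilizer of the line scaling `e` arbitrarily, made of unipotent ones. -/
theorem exists_torus (fr : Frame q e f u g) (hF : Fintype.card F = q ^ 2)
    {p : ℕ} [Fact p.Prime] [CharP F p] {l : F} (hl : l ≠ 0) :
    ∃ t : SU n F q, act t e = l • e ∧ act t u = l⁻¹ • u ∧ act t f = (l ^ q)⁻¹ • f ∧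
      act t g = l ^ q • g ∧
      (∀ x, hermForm n F q x e = 0 → hermForm n F q x f = 0 → hermForm n F q x u = 0 →
        hermForm n F q x g = 0 → act t x = x) ∧
      t ∈ lineStab hF e u ∧
      t ∈ Subgroup.closure
        {a : SU n F q | a ∈ lineStab hF e u ∧ ∃ k : ℕ, orderOf a = p ^ k} := by
  obtain ⟨X, hX⟩ : ∃ X : F → SU n F q, X = fun b =>
      eich hF e (-(b ^ q) • g) 0 fr.ee (xp_hyp fr hF b).1 (xp_hyp fr hF b).2 := ⟨_, rfl⟩
  obtain ⟨Y, hY⟩ : ∃ Y : F → SU n F q, Y = fun b =>
      eich hF u (-(b ^ q) • f) 0 fr.uu (xm_hyp fr hF b).1 (xm_hyp fr hF b).2 := ⟨_, rfl⟩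
  have hXact : ∀ b x, act (X b) x =
      x - (b ^ q * hermForm n F q x e) • g + (b * hermForm n F q x g) • e := fun b x => by
    rw [hX, eich_act, herm_smul_right, neg_pow_q hF, pow_q_q hF]; module
  have hYact : ∀ b x, act (Y b) x =
      x - (b ^ q * hermForm n F q x u) • f + (b * hermForm n F q x f) • u := fun b x => by
    rw [hY, eich_act, herm_smul_right, neg_pow_q hF, pow_q_q hF]; module
  have hXmem : ∀ b, X b ∈ {a : SU n F q | a ∈ lineStab hF e u ∧ ∃ k : ℕ, orderOf a = p ^ k} := by
    refine fun b => ⟨⟨⟨1, 0, ?_⟩, ⟨b, 1, ?_⟩⟩,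
      by rw [hX]; exact exists_orderOf_eq (eich_pow (p := p) hF fr.ee _ _)⟩
    · rw [hXact, fr.ee, fr.eg]; module
    · rw [hXact, fr.ue, fr.ug]; module
  have hYmem : ∀ b, Y b ∈ {a : SU n F q | a ∈ lineStab hF e u ∧ ∃ k : ℕ, orderOf a = p ^ k} := by
    refine fun b => ⟨⟨⟨1, b, ?_⟩, ⟨0, 1, ?_⟩⟩,
      by rw [hY]; exact exists_orderOf_eq (eich_pow (p := p) hF fr.uu _ _)⟩
    · rw [hYact, fr.eu, fr.ef]; module
    · rw [hYact, fr.uu, fr.uf]; module
  obtain ⟨W, hW⟩ : ∃ W : F → SU n F q, W = fun b => X b * Y (-b⁻¹) * X b := ⟨_, rfl⟩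
  have hWact : ∀ b, b ≠ 0 → act (W b) e = -b⁻¹ • u ∧ act (W b) u = b • e ∧
      act (W b) f = -(b ^ q) • g ∧ act (W b) g = (b ^ q)⁻¹ • f := by
    intro b hb
    have hbq : (-b⁻¹) ^ q = -(b ^ q)⁻¹ := by rw [neg_pow_q hF, inv_pow]
    have hq0 : b ^ q ≠ 0 := pow_ne_zero _ hb
    refine ⟨?_, ?_, ?_, ?_⟩ <;>
      · simp only [hW, act_mul, hXact, hYact, herm_add_left, herm_sub_left, herm_smul_left, fr.ee,
          fr.fe, fr.ue, fr.ge, fr.ef, fr.ff, fr.uf, fr.gf, fr.eu, fr.fu, fr.uu, fr.gu, fr.eg,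
          fr.fg, fr.ug, fr.gg, hbq]
        match_scalars <;> field_simp <;> ring
  have hfix : ∀ b x, hermForm n F q x e = 0 → hermForm n F q x f = 0 → hermForm n F q x u = 0 →
      hermForm n F q x g = 0 → act (W b) x = x := by
    intro b x h1 h2 h3 h4
    simp only [hW, act_mul, hXact, hYact, herm_add_left, herm_sub_left, herm_smul_left,
      h1, h2, h3, h4, mul_zero, zero_smul, sub_zero, add_zero]
  have h1' : (-1 : F) ^ q = -1 := by rw [neg_pow_q hF, one_pow]
  obtain ⟨a1, a2, a3, a4⟩ := hWact l hl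
  obtain ⟨b1, b2, b3, b4⟩ := hWact (-1) (neg_ne_zero.2 one_ne_zero)
  rw [h1'] at b3 b4
  refine ⟨W l * W (-1), ?_, ?_, ?_, ?_, fun x x1 x2 x3 x4 => ?_, ?_, ?_⟩
  · rw [act_mul, b1, act_smul, a2]; norm_num
  · rw [act_mul, b2, act_smul, a1]; module
  · rw [act_mul, b3, act_smul, a4]; module
  · rw [act_mul, b4, act_smul, a3]; match_scalars; ring
  · rw [act_mul, hfix _ x x1 x2 x3 x4, hfix _ x x1 x2 x3 x4]
  · have hW' : ∀ b, W b ∈ lineStab hF e u := fun b => by
      rw [hW]; exact mul_mem (mul_mem (hXmem _).1 (hYmem _).1) (hXmem _).1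
    exact mul_mem (hW' _) (hW' _)
  · have hW' : ∀ b, W b ∈ Subgroup.closure
        {a : SU n F q | a ∈ lineStab hF e u ∧ ∃ k : ℕ, orderOf a = p ^ k} := fun b => by
      rw [hW]
      exact mul_mem (mul_mem (Subgroup.subset_closure (hXmem _)) (Subgroup.subset_closure (hYmem _)))
        (Subgroup.subset_closure (hXmem _))
    exact mul_mem (hW' _) (hW' _)

end Torus

end Cfsg.Agent.FusionPSUTools
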