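import Cfsg.Agent.Lib.FischerUnCoord99
import Cfsg.Agent.Lib.FusionPSUTools

/-!
The transpositions act as unitary transvections on their vectors.
-/

set_option autoImplicit false
set_option linter.style.haveILetI false
set_option linter.unusedSectionVars false

namespace Cfsg.Agent.FischerUnEquiv99

open Cfsg.Agent.ThreeTransp
open Cfsg.Agent.FischerPolar99
open Cfsg.Agent.FischerUnLabel99
open Cfsg.Agent.FischerUnFeet99
open Cfsg.Agent.FischerUnCoord99
open Cfsg.Agent.OrthUnitaryHerm Cfsg.Agent.OrthUnitaryTransvection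
open Cfsg.Agent.UnitaryF4Geo (FourField)

variable {G : Type*} [Group G] {D : Set G} {x z : G}
variable {F : Type} [Field F] [Fintype F] [FourField F]
variable {Γ : Gauge D x z F} (K : Coord Γ)

theorem card_sq : Fintype.card F = 2 ^ 2 := by rw [FourField.card_eq]; norm_num

theorem one_skew : (1 : F) + (1 : F) ^ 2 = 0 := by rw [one_pow]; exact UnitaryF4Geo.add_self 1

open scoped Classical in
/-- The vector of a transposition. -/
noncomputable def Vec (d : G) : Fin K.n → F :=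
  if d = x then K.emb 1 0 0
  else if h : ∃ q : T D x z × F, Γ.mem q.1 q.2 = d then K.emb h.choose.2 (r Γ h.choose.1) 0
  else K.emb (α Γ d) (v Γ d) 1

/-- Equality up to a non-zero scalar. -/
def Sim (X Y : Fin K.n → F) : Prop := ∃ c : F, c ≠ 0 ∧ X = c • Y

/-- An isometry acting as the conjugation by `g`. -/
def Acts (g : G) (S : SU K.n F 2) : Prop :=
  ∀ e ∈ D, Sim K (act S (Vec K e)) (Vec K (g * e * g⁻¹))

variable [Finite G] (P : Frame D x z)
include P

theorem emb_sim {a b c d k : F} {u w : T D x z → F} (hk : k ≠ 0) (h1 : a = k * b) (h2 : u = k • w)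
    (h3 : c = k * d) : Sim K (K.emb a u c) (K.emb b w d) :=
  ⟨k, hk, by rw [h1, h2, h3, K.smul]⟩

theorem emb_eq_sim {a b c d : F} {u w : T D x z → F} (h1 : a = b) (h2 : u = w) (h3 : c = d) :
    Sim K (K.emb a u c) (K.emb b w d) :=
  emb_sim K P one_ne_zero (by rw [h1, one_mul]) (by rw [h2, one_smul]) (by rw [h3, one_mul])

theorem Vec_x : Vec K x = K.emb 1 0 0 := if_pos rfl

theorem Vec_mem (a : T D x z) (l : F) : Vec K (Γ.mem a l) = K.emb l (r Γ a) 0 := by
  classical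
  have hne : Γ.mem a l ≠ x := (mem_dx Γ P a l).2.1
  have h : ∃ q : T D x z × F, Γ.mem q.1 q.2 = Γ.mem a l := ⟨(a, l), rfl⟩
  rw [Vec, if_neg hne, dif_pos h]
  have e := h.choose_spec
  have ha : h.choose.1 = a := by
    refine P.T_eq ?_
    rw [← cls_eq_of_mem P.C P.hx h.choose.1.2.1 (Γ.mem_cls _ h.choose.2), e,
      cls_eq_of_mem P.C P.hx a.2.1 (Γ.mem_cls a l)]
    exact cls_self P.C a.2.1
  have hl : h.choose.2 = l := Γ.mem_inj a (by rw [ha] at e; exact e)
  rw [ha, hl]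

theorem Vec_A {p : G} (hp : p ∈ A D x) : Vec K p = K.emb (α Γ p) (v Γ p) 1 := by
  classical
  have hne : p ≠ x := fun e => hp.2 (by rw [e])
  have h : ¬ ∃ q : T D x z × F, Γ.mem q.1 q.2 = p := by
    rintro ⟨q, rfl⟩
    exact hp.2 (mem_dx Γ P q.1 q.2).2.2.symm
  rw [Vec, if_neg hne, dif_neg h]

theorem cases_D {d : G} (hd : d ∈ D) :
    d = x ∨ (∃ (a : T D x z) (l : F), d = Γ.mem a l) ∨ d ∈ A D x := by
  by_cases h1 : d = x
  · exact Or.inl h1
  by_cases h2 : Commute d x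
  · obtain ⟨a, ha⟩ := P.mem_T (m := d) ⟨hd, h1, h2.symm⟩
    obtain ⟨l, hl⟩ := Γ.mem_surj a d ha
    exact Or.inr (Or.inl ⟨a, l, hl.symm⟩)
  · exact Or.inr (Or.inr ⟨hd, h2⟩)

theorem tv_emb {a b c d : F} {u w : T D x z → F} (hu : u ∈ E Γ) (hw : w ∈ E Γ)
    (h : Cfsg.hermForm K.n F 2 (K.emb b w d) (K.emb b w d) = 0) :
    act (tv card_sq (K.emb b w d) 1 h one_skew) (K.emb a u c) =
      K.emb (a + (a * d ^ 2 + c * b ^ 2 + pair Γ w u) * b)
        (u + (a * d ^ 2 + c * b ^ 2 + pair Γ w u) • w)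
        (c + (a * d ^ 2 + c * b ^ 2 + pair Γ w u) * d) := by
  rw [tv_act, one_mul, K.herm _ _ _ _ u hu w hw, ← K.smul, ← K.add]

theorem iso_x : Cfsg.hermForm K.n F 2 (K.emb 1 0 0) (K.emb 1 0 0) = 0 := by
  rw [K.herm _ _ _ _ 0 (zero_mem _) 0 (zero_mem _), map_zero]; ring

theorem iso_z : Cfsg.hermForm K.n F 2 (K.emb 0 0 1) (K.emb 0 0 1) = 0 := by
  rw [K.herm _ _ _ _ 0 (zero_mem _) 0 (zero_mem _), map_zero]; ring

theorem iso_mem (a : T D x z) (l : F) :
    Cfsg.hermForm K.n F 2 (K.emb l (r Γ a) 0) (K.emb l (r Γ a) 0) = 0 := by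
  rw [K.herm _ _ _ _ _ (row_mem Γ P a) _ (row_mem Γ P a), pair_at_row Γ P a (row_mem Γ P a),
    row_self Γ P]
  ring

theorem Vec_z : Vec K z = K.emb 0 0 1 := by rw [Vec_A K P (z_mem P), α_z Γ P, v_z Γ P]

theorem Vec_iso {d : G} (hd : d ∈ D) :
    Cfsg.hermForm K.n F 2 (Vec K d) (Vec K d) = 0 := by
  rcases cases_D P hd (Γ := Γ) with rfl | ⟨a, l, rfl⟩ | hp
  · rw [Vec_x K P]; exact iso_x K P
  · rw [Vec_mem K P]; exact iso_mem K P a l
  · have hv := v_mem_E Γ P hp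
    rw [Vec_A K P hp, K.herm _ _ _ _ _ hv _ hv,
      trace_eq Γ P hp (pair Γ (v Γ d)) (pair_row Γ P hv)]
    linear_combination (α Γ d + α Γ d ^ 2) * (UnitaryF4Geo.two_eq_zero (F := F))

theorem Vec_ne {d : G} (hd : d ∈ D) : Vec K d ≠ 0 := by
  intro h
  have h0 : K.emb 0 0 0 = (0 : Fin K.n → F) := by
    have := K.smul 0 0 0 0
    rwa [mul_zero, zero_smul, zero_smul] at this
  rcases cases_D P hd (Γ := Γ) with rfl | ⟨a, l, rfl⟩ | hp
  · rw [Vec_x K P, ← h0] at h
    exact one_ne_zero (K.inj _ _ _ _ _ (zero_mem _) _ (zero_mem _) h).1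
  · rw [Vec_mem K P, ← h0] at h
    exact row_ne Γ P a (K.inj _ _ _ _ _ (row_mem Γ P a) _ (zero_mem _) h).2.1
  · rw [Vec_A K P hp, ← h0] at h
    exact one_ne_zero (K.inj _ _ _ _ _ (v_mem_E Γ P hp) _ (zero_mem _) h).2.2

theorem pair_zero {u : T D x z → F} (hu : u ∈ E Γ) : pair Γ 0 u = 0 :=
  (pair_congr Γ P (zero_mem _) (Φ := 0) (fun e => by simp) hu).trans rfl

/-- The vertex. -/
theorem acts_x : Acts K x (tv card_sq (K.emb 1 0 0) 1 (iso_x K P) one_skew) := by
  intro e he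
  rw [P.C.tc.inv_eq P.hx]
  rcases cases_D P he (Γ := Γ) with rfl | ⟨a, l, rfl⟩ | hp
  · rw [P.C.tc.fix P.hx (Commute.refl e), Vec_x K P, tv_emb K P (zero_mem _) (zero_mem _)]
    exact emb_eq_sim K P (by simp) (by simp) (by simp)
  · rw [P.C.tc.fix P.hx (mem_dx Γ P a l).2.2, Vec_mem K P,
      tv_emb K P (row_mem Γ P a) (zero_mem _)]
    exact emb_eq_sim K P (by rw [pair_zero P (row_mem Γ P a)]; simp) (by simp) (by simp)
  · have hv := v_mem_E Γ P hp
    rw [Vec_A K P hp, Vec_A K P (xconj_mem P hp), tv_emb K P hv (zero_mem _)]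
    refine emb_eq_sim K P ?_ (by rw [v_x Γ P hp, smul_zero, add_zero]) (by simp)
    rw [α_x Γ P hp, pair_zero P hv]
    simp

theorem refl_Y {b c d : T D x z} (hbd : ¬ Commute d.1 b.1) (hc : c.1 = d.1 * b.1 * d.1) (k : F) :
    d.1 * Y Γ b k * d.1 = Y Γ c (k * Γ.φ c b) := by
  have hdd := P.C.tc.sq d.1 d.2.1.1
  have hs : d.1 * s Γ b k * d.1 = s Γ c (k * Γ.φ c b) := by
    by_cases hk : k = 0
    · rw [hk, zero_mul, s_zero Γ P, s_zero Γ P, mul_one, hdd]
    have hcb : ¬ Commute b.1 c.1 := hc ▸ third_not_comm' P.C d.2.1.1 b.2.1.1 hbd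
    rw [s_ne Γ P b hk, s_ne Γ P c (mul_ne_zero hk (φ_ne Γ P fun e => hcb e.symm)), Gauge.t,
      Gauge.t, ← refl_mem_eq P Γ hbd hc k, hc]
    calc d.1 * (x * (b.1 * Γ.mem b k)) * d.1
        = (d.1 * x) * b.1 * 1 * Γ.mem b k * d.1 := by group
      _ = (x * d.1) * b.1 * (d.1 * d.1) * Γ.mem b k * d.1 := by rw [d.2.1.2.2.symm.eq, hdd]
      _ = _ := by group
  rw [Y, Y, ← hs]
  calc d.1 * (s Γ b k * z * s Γ b k) * d.1
      = d.1 * s Γ b k * 1 * z * 1 * s Γ b k * d.1 := by group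
    _ = d.1 * s Γ b k * (d.1 * d.1) * z * (d.1 * d.1) * s Γ b k * d.1 := by rw [hdd]
    _ = d.1 * s Γ b k * d.1 * (d.1 * z * d.1) * (d.1 * s Γ b k * d.1) := by group
    _ = _ := by rw [P.C.tc.fix d.2.1.1 d.2.2.symm]

theorem fix_mem {a c : T D x z} (hac : Commute a.1 c.1) (l : F) :
    a.1 * Γ.mem c l * a.1 = Γ.mem c l :=
  P.C.tc.fix a.2.1.1 ((Γ.mem_cls c l).2 a.1 a.2.1.1 a.2.1.2.2 hac.symm).symm

theorem fix_Y {a c : T D x z} (hac : Commute a.1 c.1) (k : F) : a.1 * Y Γ c k * a.1 = Y Γ c k :=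
  P.C.tc.fix a.2.1.1 ((Y_cls Γ P c k).2 a.1 a.2.1.1 hac.symm a.2.2).symm

theorem exists_refl (a c : T D x z) : ∃ b : T D x z, b.1 = a.1 * c.1 * a.1 :=
  ⟨⟨_, refl_dx P.C a.2.1 c.2.1, (a.2.2.mul_right c.2.2).mul_right a.2.2⟩, rfl⟩

theorem refl_mem_A (a : T D x z) {p : G} (hp : p ∈ A D x) : a.1 * p * a.1 ∈ A D x := by
  refine ⟨P.C.tc.refl_mem a.2.1.1 hp.1, fun h => hp.2 ?_⟩
  have := (refl_comm P.C a.2.1.1).mpr h
  rwa [P.C.tc.refl_refl a.2.1.1, P.C.tc.fix a.2.1.1 a.2.1.2.2.symm] at this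

theorem v_refl (a : T D x z) {p : G} (hp : p ∈ A D x) :
    v Γ (a.1 * p * a.1) = v Γ p + v Γ p a • r Γ a := by
  funext c
  rw [Pi.add_apply, Pi.smul_apply, smul_eq_mul]
  show lab Γ (a.1 * p * a.1) c ^ 2 = _ + v Γ p a * Γ.φ a c
  by_cases hac : Commute a.1 c.1
  · rw [(Γ.φ_zero c a).mpr hac.symm, mul_zero, add_zero,
      lab_eq Γ P (refl_mem_A P a hp) (l := lab Γ p c) ?_]
    · rfl
    · have := (refl_comm P.C a.2.1.1).mpr (lab_spec Γ P hp c)
      rwa [fix_mem P hac] at this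
  · obtain ⟨b, hb⟩ := exists_refl P a c
    have hab : ¬ Commute a.1 b.1 := hb ▸ third_not_comm P.C a.2.1.1 hac
    have hc : c.1 = a.1 * b.1 * a.1 := by rw [hb, P.C.tc.refl_refl a.2.1.1]
    rw [lab_eq Γ P (refl_mem_A P a hp) (l := lab Γ p b * Γ.φ c b) (by
      have := (refl_comm P.C a.2.1.1).mpr (lab_spec Γ P hp b)
      rwa [refl_mem_eq P Γ hab hc] at this)]
    have h1 := E_third Γ P (v_mem_E Γ P hp) hab hc
    have h2 := φ_third P Γ hab hc a
    rw [(Γ.φ_zero a a).mpr (Commute.refl _), zero_mul, add_zero] at h2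
    have hne : Γ.φ c b ≠ 0 := φ_ne Γ P fun e => by
      rw [hc] at e; exact third_not_comm' P.C a.2.1.1 b.2.1.1 hab e.symm
    have h3 := UnitaryF4Geo.cube hne
    rw [mul_pow]
    apply mul_right_cancel₀ hne
    have hvb : lab Γ p b ^ 2 = v Γ p b := rfl
    rw [hvb]
    linear_combination (v Γ p b) * h3 - h1 - (v Γ p a) * h2 -
      (v Γ p a * Γ.φ a b) * (UnitaryF4Geo.two_eq_zero (F := F))

theorem α_refl (a : T D x z) {p : G} (hp : p ∈ A D x) : α Γ (a.1 * p * a.1) = α Γ p := by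
  by_cases h0 : v Γ p = 0
  · rcases fibre_zero Γ P hp h0 with rfl | rfl
    · rw [P.C.tc.fix a.2.1.1 a.2.2.symm]
    · rw [P.C.tc.fix a.2.1.1 ((a.2.1.2.2.symm.mul_right a.2.2.symm).mul_right a.2.1.2.2.symm)]
  obtain ⟨b, hb⟩ := Function.ne_iff.mp h0
  replace hb : v Γ p b ≠ 0 := hb
  obtain ⟨k, hk⟩ := exists_kappa Γ P hp hb
  have h := (refl_comm P.C a.2.1.1).mpr hk
  rw [α_eq Γ P hp hb hk]
  by_cases hab : Commute a.1 b.1
  · rw [fix_Y P hab, comm_Y Γ P (refl_mem_A P a hp)] at h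
    rw [h, v_refl P a hp, Pi.add_apply, Pi.smul_apply, smul_eq_mul]
    show _ = k * v Γ p b
    rw [show r Γ a b = 0 from (Γ.φ_zero b a).mpr hab.symm, mul_zero, add_zero]
  · obtain ⟨c, hc⟩ := exists_refl P a b
    rw [refl_Y P hab hc, comm_Y Γ P (refl_mem_A P a hp)] at h
    have h1 := E_third Γ P (v_mem_E Γ P hp) hab hc
    have h2 := φ_third P Γ hab hc a
    rw [(Γ.φ_zero a a).mpr (Commute.refl _), zero_mul, add_zero] at h2
    rw [h, v_refl P a hp, Pi.add_apply, Pi.smul_apply, smul_eq_mul]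
    show _ * (_ + _ * Γ.φ a c) = _
    linear_combination k * h1 + k * v Γ p a * h2 +
      k * v Γ p a * Γ.φ a b * (UnitaryF4Geo.two_eq_zero (F := F))

/-- The members commuting with the vertex. -/
theorem acts_mem (a : T D x z) (μ : F) :
    Acts K (Γ.mem a μ) (tv card_sq (K.emb μ (r Γ a) 0) 1 (iso_mem K P a μ) one_skew) := by
  intro e he
  set d := Γ.mem a μ with hd
  have hdx := mem_dx Γ P a μ
  rw [P.C.tc.inv_eq hdx.1]
  have hdt : d = a.1 * Γ.t a μ := by
    rw [Gauge.t, ← mul_assoc, P.C.tc.sq a.1 a.2.1.1, one_mul]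
  have hconj : ∀ q : G, d * q * d = a.1 * (Γ.t a μ * q * Γ.t a μ) * a.1 := by
    intro q
    have : d = Γ.t a μ * a.1 := by
      rw [Gauge.t, t_comm P Γ a μ, mul_assoc, P.C.tc.sq a.1 a.2.1.1, mul_one]
    nth_rewrite 1 [hdt]
    rw [this]
    group
  rcases cases_D P he (Γ := Γ) with rfl | ⟨b, ν, rfl⟩ | hp
  · rw [P.C.tc.fix hdx.1 hdx.2.2.symm, Vec_x K P, tv_emb K P (zero_mem _) (row_mem Γ P a)]
    exact emb_eq_sim K P (by simp) (by simp) (by simp)
  · rw [Vec_mem K P, tv_emb K P (row_mem Γ P b) (row_mem Γ P a), hconj, t_mem P Γ,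
      pair_at_row Γ P a (row_mem Γ P b)]
    show Sim K (K.emb (ν + (ν * 0 ^ 2 + 0 * μ ^ 2 + Γ.φ b a) * μ)
      (r Γ b + (ν * 0 ^ 2 + 0 * μ ^ 2 + Γ.φ b a) • r Γ a)
      (0 + (ν * 0 ^ 2 + 0 * μ ^ 2 + Γ.φ b a) * 0)) _
    by_cases hab : Commute a.1 b.1
    · rw [fix_mem P hab, (Γ.φ_zero a b).mpr hab, Vec_mem K P]
      exact emb_eq_sim K P (by simp) (by simp) (by simp)
    obtain ⟨c, hc⟩ := exists_refl P a b
    rw [refl_mem_eq P Γ hab hc, Vec_mem K P]
    have hcb : ¬ Commute b.1 c.1 := hc ▸ third_not_comm' P.C a.2.1.1 b.2.1.1 hab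
    have hφ := φ_ne Γ P hcb
    have hcube : Γ.φ b c * Γ.φ c b = 1 := by
      rw [Γ.φ_symm c b, ← pow_succ', UnitaryF4Geo.cube hφ]
    refine emb_sim K P hφ ?_ ?_ (by simp)
    · linear_combination (-(ν + μ * Γ.φ b a)) * hcube
    · funext f
      simp only [Pi.add_apply, Pi.smul_apply, smul_eq_mul, r]
      have h := congrArg (· ^ 2) (φ_third P Γ hab hc f)
      simp only [UnitaryF4Geo.sq_add, mul_pow, ← Γ.φ_symm] at h
      linear_combination -h
  · have hv := v_mem_E Γ P hp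
    have htA := tconj_mem Γ P a μ hp
    rw [hconj, Vec_A K P (refl_mem_A P a htA), Vec_A K P hp,
      tv_emb K P hv (row_mem Γ P a), α_refl P a htA, v_refl P a htA, v_t Γ P a μ hp,
      pair_at_row Γ P a hv]
    refine emb_eq_sim K P ?_ ?_ (by simp)
    · by_cases hμ : μ = 0
      · rw [hμ, t_zero P Γ, one_mul, mul_one]; simp
      · have e : Γ.t a μ * e * Γ.t a μ = x * (s Γ a μ * e * s Γ a μ) * x := by
          rw [sconj_ne Γ P a hμ, xconj_eq P]
        rw [e, α_x Γ P (sconj_mem Γ P a μ hp), α_s Γ P hp]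
        linear_combination UnitaryF4Geo.cube hμ
    · funext f
      simp only [Pi.add_apply, Pi.smul_apply, smul_eq_mul, row_self Γ P]
      ring

theorem z_conj_mem (b : T D x z) {l : F} (hl : l ≠ 0) :
    z * Γ.mem b l * z = x * Y Γ b l * x := by
  have hzn : ¬ Commute z (Γ.mem b l) := fun h => hl <| Γ.mem_inj b <|
    foot_unique P.C P.hx b.2.1 P.hz P.hzx (Γ.mem_cls b l) (Γ.mem_cls b 0) h
      (by rw [Γ.mem_zero]; exact b.2.2)
  rw [Y, sconj_ne Γ P b hl, xconj_eq P, P.C.tc.braid P.hz (mem_dx Γ P b l).1 hzn, Gauge.t]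
  calc Γ.mem b l * z * Γ.mem b l = Γ.mem b l * (b.1 * z * b.1) * Γ.mem b l := by
        rw [P.C.tc.fix b.2.1.1 b.2.2.symm]
    _ = (Γ.mem b l * b.1) * z * (b.1 * Γ.mem b l) := by group
    _ = _ := by rw [t_comm P Γ b l]

/-- The transposition missing the vertex. -/
theorem acts_z : Acts K z (tv card_sq (K.emb 0 0 1) 1 (iso_z K P) one_skew) := by
  intro e he
  rw [P.C.tc.inv_eq P.hz]
  have h0 : ∀ {u : T D x z → F}, u ∈ E Γ → pair Γ 0 u = 0 := fun hu =>
    (pair_congr Γ P (zero_mem _) (Φ := 0) (fun e => by simp) hu).trans rfl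
  rcases cases_D P he (Γ := Γ) with rfl | ⟨b, l, rfl⟩ | hp
  · rw [P.C.tc.braid P.hz P.hx P.hzx, Vec_x K P, Vec_A K P (xconj_mem P (z_mem P)),
      tv_emb K P (zero_mem _) (zero_mem _), α_x Γ P (z_mem P), α_z Γ P, v_x Γ P (z_mem P),
      v_z Γ P, h0 (zero_mem _)]
    exact emb_eq_sim K P (by simp) (by simp) (by simp)
  · rw [Vec_mem K P, tv_emb K P (row_mem Γ P b) (zero_mem _), h0 (row_mem Γ P b)]
    by_cases hl : l = 0
    · rw [hl, Γ.mem_zero, P.C.tc.fix P.hz b.2.2, ← Γ.mem_zero b, Vec_mem K P]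
      exact emb_eq_sim K P (by simp) (by simp) (by simp)
    rw [z_conj_mem P b hl, Vec_A K P (xconj_mem P (Y_mem Γ P b l)), α_x Γ P (Y_mem Γ P b l),
      (α_zero_iff Γ P (Y_mem Γ P b l)).mpr (Y_comm_z Γ P b l).symm, v_x Γ P (Y_mem Γ P b l),
      v_Y Γ P]
    refine emb_sim K P hl (by simp) ?_ (by simp)
    rw [smul_zero, add_zero, smul_smul, ← pow_succ', UnitaryF4Geo.cube hl, one_smul]
  · have hv := v_mem_E Γ P hp
    rw [Vec_A K P hp, tv_emb K P hv (zero_mem _), h0 hv]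
    by_cases ha0 : α Γ e = 0
    · rw [P.C.tc.fix P.hz ((α_zero_iff Γ P hp).mp ha0).symm, Vec_A K P hp]
      exact emb_eq_sim K P (by simp) (by simp) (by simp [ha0])
    by_cases ha1 : α Γ e = 1
    · have hxe := xconj_mem P hp
      have hz' : Commute (x * e * x) z := (α_zero_iff Γ P hxe).mp (by
        rw [α_x Γ P hp, ha1, UnitaryF4Geo.add_self])
      obtain ⟨b, l, hbl⟩ := perp_z Γ P hxe hz'
      have hve : v Γ e = l ^ 2 • r Γ b := by rw [← v_x Γ P hp, hbl, v_Y Γ P]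
      have hee : e = x * Y Γ b l * x := by rw [← hbl, xconj_eq P]
      by_cases hl : l = 0
      · have hex : z * e * z = x := by
          rw [hee, hl, Y_zero Γ P, ← P.C.tc.braid P.hz P.hx P.hzx, P.C.tc.refl_refl P.hz]
        rw [hex, Vec_x K P, ha1, hve, hl, zero_pow two_ne_zero, zero_smul]
        exact emb_eq_sim K P (by simp) (by simp) (by simp [UnitaryF4Geo.add_self])
      · have hzm : z * e * z = Γ.mem b l := by
          rw [hee, ← z_conj_mem P b hl, P.C.tc.refl_refl P.hz]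
        rw [hzm, Vec_mem K P, ha1, hve]
        refine emb_sim K P (pow_ne_zero 2 hl) ?_ (by simp) (by simp [UnitaryF4Geo.add_self])
        rw [← pow_succ, UnitaryF4Geo.cube hl]; simp
    -- the generic case
    have ha2 := UnitaryF4Geo.rel ha0 ha1
    set β := α Γ e with hβ
    have hxe : ¬ Commute (x * e * x) z := fun h => by
      have := (α_zero_iff Γ P (xconj_mem P hp)).mpr h
      rw [α_x Γ P hp, ← hβ] at this
      exact ha1 (UnitaryF4Geo.eq_of_add_eq_zero this)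
    set q := z * e * z with hq
    have hqA : q ∈ A D x := by
      refine ⟨P.C.tc.refl_mem P.hz hp.1, fun h => hxe ?_⟩
      have h1 := (refl_comm P.C P.hz).mpr h
      rw [hq, P.C.tc.refl_refl P.hz, P.C.tc.braid P.hz P.hx P.hzx] at h1
      have h2 := (refl_comm P.C P.hx).mpr h1
      rwa [xconj_eq P] at h2
    have hvq : v Γ q = β • v Γ e := by
      funext b
      rw [Pi.smul_apply, smul_eq_mul]
      show lab Γ q b ^ 2 = _
      by_cases hb : v Γ e b = 0
      · rw [hb, mul_zero]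
        have := (refl_comm P.C P.hz).mpr ((v_zero_iff Γ P hp b).mp hb)
        rw [P.C.tc.fix P.hz b.2.2] at this
        exact (v_zero_iff Γ P hqA b).mpr this
      · have hν : (β + 1) * v Γ e b ^ 2 ≠ 0 := mul_ne_zero
          (fun h => ha1 (UnitaryF4Geo.eq_of_add_eq_zero h)) (pow_ne_zero 2 hb)
        rw [lab_eq Γ P hqA (l := (β + 1) * v Γ e b ^ 2) ?_]
        · rw [mul_pow, UnitaryF4Geo.sq_sq, UnitaryF4Geo.sq_add, one_pow, ha2]
          linear_combination v Γ e b * (UnitaryF4Geo.two_eq_zero (F := F))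
        · have h1 : Commute (x * e * x) (Y Γ b ((β + 1) * v Γ e b ^ 2)) := by
            rw [comm_Y Γ P (xconj_mem P hp), α_x Γ P hp, v_x Γ P hp, mul_assoc, ← pow_succ,
              UnitaryF4Geo.cube hb, mul_one]
          have h2 := (refl_comm P.C P.hx).mpr h1
          rw [xconj_eq P, ← z_conj_mem P b hν] at h2
          have h3 := (refl_comm P.C P.hz).mpr h2
          rwa [P.C.tc.refl_refl P.hz] at h3
    have hαq : α Γ q = β ^ 2 := by
      obtain ⟨b, hb⟩ : ∃ b, v Γ e b ≠ 0 := by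
        by_contra hall
        push Not at hall
        rcases fibre_zero Γ P hp (funext hall) with h | h
        · exact ha0 (by rw [hβ, h, α_z Γ P])
        · exact ha1 (by rw [hβ, h, α_x Γ P (z_mem P), α_z Γ P, zero_add])
      obtain ⟨k, hk⟩ := exists_kappa Γ P hp hb
      have h1 := (refl_comm P.C P.hz).mpr hk
      rw [P.C.tc.fix P.hz (Y_comm_z Γ P b k), comm_Y Γ P hqA, hvq, Pi.smul_apply, smul_eq_mul] at h1
      rw [h1, hβ, α_eq Γ P hp hb hk]
      ring
    rw [Vec_A K P hqA, hvq, hαq]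
    refine emb_sim K P (pow_ne_zero 2 ha0) ?_ ?_ ?_
    · linear_combination -UnitaryF4Geo.pow_four β
    · rw [smul_smul, ← pow_succ, UnitaryF4Geo.cube ha0, one_smul]; simp
    · linear_combination -ha2

theorem act_mul_sim {S : SU K.n F 2} {X Y : Fin K.n → F} (h : Sim K X Y) :
    Sim K (act S X) (act S Y) := by
  obtain ⟨c, hc, rfl⟩ := h
  exact ⟨c, hc, act_smul S c Y⟩

omit [Finite G] P in
theorem Sim.trans' {X Y Z : Fin K.n → F} (h : Sim K X Y) (h' : Sim K Y Z) : Sim K X Z := by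
  obtain ⟨c, hc, rfl⟩ := h
  obtain ⟨d, hd, rfl⟩ := h'
  exact ⟨c * d, mul_ne_zero hc hd, smul_smul c d Z⟩

omit [Finite G] P in
theorem acts_one : Acts K (1 : G) 1 := fun e _ =>
  ⟨1, one_ne_zero, by rw [act_one, one_smul, one_mul, inv_one, mul_one]⟩

theorem acts_mul {g g' : G} {S S' : SU K.n F 2} (h : Acts K g S) (h' : Acts K g' S') :
    Acts K (g * g') (S * S') := by
  intro e he
  rw [act_mul, show g * g' * e * (g * g')⁻¹ = g * (g' * e * g'⁻¹) * g⁻¹ by group]
  exact (act_mul_sim K P (h' e he)).trans' K (h _ (P.C.tc.conj g' e he))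

theorem acts_inv {g : G} {S : SU K.n F 2} (h : Acts K g S) : Acts K g⁻¹ S⁻¹ := by
  intro e he
  obtain ⟨c, hc, e1⟩ := h _ (by simpa using P.C.tc.conj g⁻¹ e he : g⁻¹ * e * g ∈ D)
  refine ⟨c⁻¹, inv_ne_zero hc, ?_⟩
  have e2 := congrArg (act S⁻¹) e1
  rw [act_inv_act, act_smul, show g * (g⁻¹ * e * g) * g⁻¹ = e by group] at e2
  rw [inv_inv, e2, smul_smul, inv_mul_cancel₀ hc, one_smul]

theorem exists_acts (g : G) : ∃ S : SU K.n F 2, Acts K g S := by
  let H : Subgroup G :=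
    { carrier := {g | ∃ S, Acts K g S}
      one_mem' := ⟨1, acts_one K⟩
      mul_mem' := fun ⟨S, hS⟩ ⟨S', hS'⟩ => ⟨S * S', acts_mul K P hS hS'⟩
      inv_mem' := fun ⟨S, hS⟩ => ⟨S⁻¹, acts_inv K P hS⟩ }
  have htop : H = ⊤ := eq_top_of_mem P.C P.hx P.hz P.hzx H ⟨_, acts_x K P⟩ ⟨_, acts_z K P⟩
    fun m hm => by
      obtain ⟨a, ha⟩ := P.mem_T hm
      obtain ⟨l, rfl⟩ := Γ.mem_surj a m ha
      exact ⟨_, acts_mem K P a l⟩
  have : g ∈ H := htop ▸ Subgroup.mem_top g
  exact this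

theorem acts_member {d : G} (hd : d ∈ D) :
    Acts K d (tv card_sq (Vec K d) 1 (Vec_iso K P hd) one_skew) := by
  obtain ⟨g, hg⟩ := P.C.tc.trans x P.hx d hd
  obtain ⟨S, hS⟩ := exists_acts K P g
  have h := acts_mul K P (acts_mul K P hS (acts_x K P)) (acts_inv K P hS)
  rw [hg] at h
  obtain ⟨c, hc, ec⟩ := hS x P.hx
  rw [Vec_x K P, hg] at ec
  convert h using 1
  refine su_ext fun X => ?_
  rw [act_mul, act_mul, tv_act, tv_act, one_mul, one_mul, act_add, act_act_inv, act_smul, ec,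
    smul_smul]
  congr 2
  have h1 : Cfsg.hermForm K.n F 2 (act S⁻¹ X) (K.emb 1 0 0) =
      Cfsg.hermForm K.n F 2 X (act S (K.emb 1 0 0)) := by
    rw [← herm_act S (act S⁻¹ X), act_act_inv]
  rw [h1, ec, herm_smul_right]
  linear_combination (-(Cfsg.hermForm K.n F 2 X (Vec K d))) * UnitaryF4Geo.cube hc

/-- An isometry fixing every point is a scalar. -/
theorem scalar_of_fix {S : SU K.n F 2} (h : ∀ e ∈ D, Sim K (act S (Vec K e)) (Vec K e)) :
    ∃ c : F, ∀ X, act S X = c • X := by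
  obtain ⟨cx, -, ex⟩ := h x P.hx
  obtain ⟨cz, -, ez⟩ := h z P.hz
  rw [Vec_x K P] at ex
  rw [Vec_z K P] at ez
  have hadd : ∀ a c : F, ∀ u : T D x z → F,
      K.emb a u c = a • K.emb 1 0 0 + c • K.emb 0 0 1 + K.emb 0 u 0 := by
    intro a c u
    rw [← K.smul, ← K.smul, ← K.add, ← K.add]
    simp
  -- the scalars agree
  have hxz : cz = cx := by
    obtain ⟨c, -, ew⟩ := h _ (xconj_mem P (z_mem P)).1
    rw [Vec_A K P (xconj_mem P (z_mem P)), α_x Γ P (z_mem P), α_z Γ P, v_x Γ P (z_mem P),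
      v_z Γ P, zero_add] at ew
    have e1 : K.emb 1 0 1 = K.emb 1 0 0 + K.emb 0 0 (1 : F) := by rw [← K.add]; simp
    rw [e1, act_add, ex, ez, ← K.smul, ← K.smul, ← K.add, smul_add, ← K.smul, ← K.smul, ← K.add]
      at ew
    simp only [mul_one, mul_zero, smul_zero, add_zero, zero_add] at ew
    obtain ⟨h1, -, h3⟩ := K.inj _ _ _ _ _ (zero_mem _) _ (zero_mem _) ew
    exact h3.trans h1.symm
  have hrow : ∀ a : T D x z, act S (K.emb 0 (r Γ a) 0) = cx • K.emb 0 (r Γ a) 0 := by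
    intro a
    obtain ⟨c, -, e1⟩ := h a.1 a.2.1.1
    rw [← Γ.mem_zero a, Vec_mem K P] at e1
    obtain ⟨d, -, e2⟩ := h _ (Y_mem Γ P a 1).1
    rw [Vec_A K P (Y_mem Γ P a 1), (α_zero_iff Γ P (Y_mem Γ P a 1)).mpr (Y_comm_z Γ P a 1).symm,
      v_Y Γ P, one_pow, one_smul] at e2
    have e3 : K.emb 0 (r Γ a) 1 = K.emb 0 (r Γ a) 0 + K.emb 0 0 (1 : F) := by rw [← K.add]; simp
    rw [e3, act_add, e1, ez, hxz, smul_add, ← K.smul, ← K.smul, ← K.add, ← K.smul, ← K.smul,
      ← K.add] at e2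
    simp only [mul_one, mul_zero, smul_zero, add_zero, zero_add] at e2
    obtain ⟨-, h2, h3⟩ := K.inj _ _ _ _ _ (Submodule.smul_mem _ _ (row_mem Γ P a)) _
      (Submodule.smul_mem _ _ (row_mem Γ P a)) e2
    have h4 : c = d := smul_left_injective F (row_ne Γ P a) h2
    rw [e1, h4, ← h3]
  refine ⟨cx, fun X => ?_⟩
  obtain ⟨a, c, u, hu, rfl⟩ := K.surj X
  have hu' : act S (K.emb 0 u 0) = cx • K.emb 0 u 0 := by
    induction hu using Submodule.span_induction with
    | mem u hu => obtain ⟨e, rfl⟩ := hu; exact hrow e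
    | zero =>
      have h0 : K.emb 0 0 0 = (0 : Fin K.n → F) := by
        have := K.smul 0 0 0 0
        rwa [mul_zero, zero_smul, zero_smul] at this
      rw [h0, smul_zero]
      exact Matrix.mulVec_zero _
    | add u u' _ _ h h' =>
      have e : K.emb 0 (u + u') 0 = K.emb 0 u 0 + K.emb 0 u' 0 := by rw [← K.add, add_zero]
      rw [e, act_add, h, h', smul_add]
    | smul k u _ h =>
      have e : K.emb 0 (k • u) 0 = k • K.emb 0 u 0 := by rw [← K.smul, mul_zero]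
      rw [e, act_smul, h, smul_comm]
  rw [hadd, act_add, act_add, act_smul, act_smul, ex, ez, hxz, hu', smul_add, smul_add,
    smul_comm cx, smul_comm cx]

theorem Vec_inj {d e : G} (hd : d ∈ D) (he : e ∈ D) (h : Sim K (Vec K d) (Vec K e)) : d = e := by
  obtain ⟨c, hc, h⟩ := h
  rcases cases_D P hd (Γ := Γ) with rfl | ⟨a, l, rfl⟩ | hp <;>
    rcases cases_D P he (Γ := Γ) with h' | ⟨b, m, h'⟩ | hq
  · exact h'.symm
  · subst h'
    rw [Vec_x K P, Vec_mem K P, ← K.smul] at h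
    obtain ⟨-, h2, -⟩ := K.inj _ _ _ _ _ (zero_mem _) _ (Submodule.smul_mem _ _ (row_mem Γ P b)) h
    exact absurd ((smul_eq_zero.mp h2.symm).resolve_left hc) (row_ne Γ P b)
  · rw [Vec_x K P, Vec_A K P hq, ← K.smul] at h
    obtain ⟨-, -, h3⟩ := K.inj _ _ _ _ _ (zero_mem _) _ (Submodule.smul_mem _ _ (v_mem_E Γ P hq)) h
    exact absurd (by simpa using h3.symm) hc
  · subst h'
    rw [Vec_x K P, Vec_mem K P, ← K.smul] at h
    obtain ⟨-, h2, -⟩ := K.inj _ _ _ _ _ (row_mem Γ P a) _ (Submodule.smul_mem _ _ (zero_mem _)) h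
    exact absurd (h2.trans (smul_zero c)) (row_ne Γ P a)
  · subst h'
    rw [Vec_mem K P, Vec_mem K P, ← K.smul] at h
    obtain ⟨h1, h2, -⟩ := K.inj _ _ _ _ _ (row_mem Γ P a) _
      (Submodule.smul_mem _ _ (row_mem Γ P b)) h
    have hab : a = b := row_eq Γ P h2
    subst hab
    have h4 : (1 : F) = c := smul_left_injective F (row_ne Γ P a)
      (show (1 : F) • r Γ a = c • r Γ a by rw [one_smul]; exact h2)
    rw [h1, ← h4, one_mul]
  · rw [Vec_mem K P, Vec_A K P hq, ← K.smul] at h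
    obtain ⟨-, -, h3⟩ := K.inj _ _ _ _ _ (row_mem Γ P a) _
      (Submodule.smul_mem _ _ (v_mem_E Γ P hq)) h
    exact absurd (by simpa using h3.symm) hc
  · subst h'
    rw [Vec_A K P hp, Vec_x K P, ← K.smul] at h
    obtain ⟨-, -, h3⟩ := K.inj _ _ _ _ _ (v_mem_E Γ P hp) _ (Submodule.smul_mem _ _ (zero_mem _)) h
    exact absurd (h3.trans (mul_zero c)) one_ne_zero
  · subst h'
    rw [Vec_A K P hp, Vec_mem K P, ← K.smul] at h
    obtain ⟨-, -, h3⟩ := K.inj _ _ _ _ _ (v_mem_E Γ P hp) _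
      (Submodule.smul_mem _ _ (row_mem Γ P b)) h
    exact absurd (h3.trans (mul_zero c)) one_ne_zero
  · rw [Vec_A K P hp, Vec_A K P hq, ← K.smul] at h
    obtain ⟨h1, h2, h3⟩ := K.inj _ _ _ _ _ (v_mem_E Γ P hp) _
      (Submodule.smul_mem _ _ (v_mem_E Γ P hq)) h
    rw [mul_one] at h3
    rw [← h3, one_mul] at h1
    rw [← h3, one_smul] at h2
    rcases v_inj Γ P hq hp h2 with e1 | e1
    · exact e1
    · rw [e1, α_x Γ P hq] at h1
      exact absurd (by linear_combination h1) (one_ne_zero (α := F))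

/-- Every isotropic vector is a multiple of the vector of a transposition. -/
theorem exists_Vec {X : Fin K.n → F} (hX : Cfsg.hermForm K.n F 2 X X = 0) (h0 : X ≠ 0) :
    ∃ d ∈ D, Sim K X (Vec K d) := by
  obtain ⟨a, c, u, hu, rfl⟩ := K.surj X
  rw [K.herm _ _ _ _ u hu u hu] at hX
  have hzero : K.emb 0 0 0 = (0 : Fin K.n → F) := by
    have := K.smul 0 0 0 0
    rwa [mul_zero, zero_smul, zero_smul] at this
  by_cases hc : c = 0
  swap
  · have hu' : c⁻¹ • u ∈ E Γ := Submodule.smul_mem _ _ hu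
    obtain ⟨p, hp, hv, hα⟩ := exists_point Γ P hu' (Φ := pair Γ (c⁻¹ • u)) (pair_row Γ P hu')
      (β := c⁻¹ * a) (by
        rw [pair_smul Γ P _ hu hu', map_smul, smul_eq_mul]
        have h1 : pair Γ u u = a * c ^ 2 + c * a ^ 2 := by
          apply UnitaryF4Geo.eq_of_add_eq_zero
          linear_combination hX
        have h3 := UnitaryF4Geo.cube hc
        have hi : c⁻¹ * c = 1 := inv_mul_cancel₀ hc
        rw [h1]
        linear_combination (c⁻¹ * a * (c⁻¹ * c + 1) + c⁻¹ ^ 2 * a ^ 2) * hi)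
    refine ⟨p, hp.1, ?_⟩
    rw [Vec_A K P hp, hv, hα]
    exact emb_sim K P hc (by rw [← mul_assoc, mul_inv_cancel₀ hc, one_mul])
      (by rw [smul_smul, mul_inv_cancel₀ hc, one_smul]) (mul_one c).symm
  subst hc
  have hpu : pair Γ u u = 0 := by linear_combination hX
  obtain ⟨p, hp, hv, hα⟩ := exists_point Γ P hu (Φ := pair Γ u) (pair_row Γ P hu)
    (β := 0) (by rw [hpu]; ring)
  obtain ⟨b, l, rfl⟩ := perp_z Γ P hp ((α_zero_iff Γ P hp).mp hα)
  rw [v_Y Γ P] at hv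
  by_cases hl : l = 0
  · refine ⟨x, P.hx, ?_⟩
    rw [hl, zero_pow two_ne_zero, zero_smul] at hv
    subst hv
    rw [Vec_x K P]
    refine emb_sim K P ?_ (mul_one a).symm (smul_zero a).symm (mul_zero a).symm
    rintro rfl
    exact h0 hzero
  · refine ⟨Γ.mem b ((l ^ 2)⁻¹ * a), (mem_dx Γ P b _).1, ?_⟩
    rw [Vec_mem K P]
    exact emb_sim K P (pow_ne_zero 2 hl)
      (by rw [← mul_assoc, mul_inv_cancel₀ (pow_ne_zero 2 hl), one_mul]) hv.symm (mul_zero _).symm

omit [Finite G] P in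
theorem rank_tv {n : ℕ} {X : Fin n → F} (hX : Cfsg.hermForm n F 2 X X = 0) (h0 : X ≠ 0) :
    ((((tv card_sq X 1 hX one_skew : SU n F 2) : Matrix.SpecialLinearGroup (Fin n) F) :
      Matrix (Fin n) (Fin n) F) - 1).rank = 1 := by
  set A : SU n F 2 := tv card_sq X 1 hX one_skew
  set M := ((A : Matrix.SpecialLinearGroup (Fin n) F) : Matrix (Fin n) (Fin n) F) - 1 with hM
  have hmul : ∀ Y, M.mulVec Y = Cfsg.hermForm n F 2 Y X • X := by
    intro Y
    rw [hM, Matrix.sub_mulVec, Matrix.one_mulVec]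
    show act A Y - Y = _
    rw [tv_act, one_mul, add_sub_cancel_left]
  obtain ⟨Y, hY⟩ := exists_herm_eq card_sq h0 1
  rw [Matrix.rank]
  have hr : LinearMap.range M.mulVecLin = Submodule.span F {X} := by
    refine le_antisymm ?_ ?_
    · rintro _ ⟨W, rfl⟩
      rw [Matrix.mulVecLin_apply, hmul]
      exact Submodule.smul_mem _ _ (Submodule.mem_span_singleton_self X)
    · rw [Submodule.span_singleton_le_iff_mem]
      exact ⟨Y, by rw [Matrix.mulVecLin_apply, hmul, hY, one_smul]⟩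
  rw [hr, finrank_span_singleton h0]

omit [Finite G] P in
theorem exists_tv_of_rank {n : ℕ} {A : SU n F 2}
    (h : (((A : Matrix.SpecialLinearGroup (Fin n) F) : Matrix (Fin n) (Fin n) F) - 1).rank = 1) :
    ∃ (X : Fin n → F) (hX : Cfsg.hermForm n F 2 X X = 0), X ≠ 0 ∧
      A = tv card_sq X 1 hX one_skew := by
  set M := ((A : Matrix.SpecialLinearGroup (Fin n) F) : Matrix (Fin n) (Fin n) F) - 1 with hM
  rw [Matrix.rank] at h
  obtain ⟨⟨u, hu⟩, hu0, hall⟩ := finrank_eq_one_iff'.mp h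
  have hu' : u ≠ 0 := fun e => hu0 (Subtype.ext e)
  have hx : ∀ Y, ∃ k : F, act A Y = Y + k • u := by
    intro Y
    obtain ⟨k, hk⟩ := hall ⟨M.mulVecLin Y, ⟨Y, rfl⟩⟩
    refine ⟨k, ?_⟩
    have h1 : k • u = M.mulVec Y := congrArg Subtype.val hk
    rw [h1, hM, Matrix.sub_mulVec, Matrix.one_mulVec]
    show act A Y = Y + (act A Y - Y)
    abel
  choose a ha using hx
  have key : ∀ Y Z, a Y * Cfsg.hermForm n F 2 u Z + a Z ^ 2 * Cfsg.hermForm n F 2 Y u +
      a Y * a Z ^ 2 * Cfsg.hermForm n F 2 u u = 0 := by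
    intro Y Z
    have h1 := herm_act A Y Z
    rw [ha, ha, herm_add_left, herm_add_right card_sq, herm_add_right card_sq, herm_smul_left,
      herm_smul_left, herm_smul_right, herm_smul_right] at h1
    linear_combination h1
  have hA1 : A ≠ 1 := by
    intro e
    rw [e] at hM
    have h0 : M = 0 := by rw [hM]; exact sub_self _
    rw [h0, ← Matrix.rank, Matrix.rank_zero] at h
    exact zero_ne_one h
  have hmat : ∀ d : F, (∀ Y, a Y = d * Cfsg.hermForm n F 2 Y u) →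
      ((A : Matrix.SpecialLinearGroup (Fin n) F) : Matrix (Fin n) (Fin n) F) =
        unitaryTransvection n 2 u d := by
    intro d hd
    refine Matrix.ext_of_mulVec_single fun i => ?_
    show act A _ = _
    rw [ha, transvection_mulVec, hd]
  have hu1 : Cfsg.hermForm n F 2 u u = 0 := by
    rcases UnitaryF4Geo.fixed_cases (herm_self_pow card_sq u) with e | e
    · exact e
    exfalso
    have hd : ∀ Y, a Y = a u * Cfsg.hermForm n F 2 Y u := by
      intro Y
      have h1 := key Y u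
      have h2 := key u u
      rw [e] at h1 h2
      have hk : a u + 1 ≠ 0 := by
        intro h0
        have h3 : act A u = 0 := by
          rw [ha, UnitaryF4Geo.eq_of_add_eq_zero h0, one_smul]
          exact funext fun i => UnitaryF4Geo.add_self (u i)
        apply hu'
        rw [← act_inv_act A u, h3]
        exact Matrix.mulVec_zero _
      have h4 : (a Y - a u * Cfsg.hermForm n F 2 Y u) * (a u + 1) ^ 2 = 0 := by
        linear_combination h1 - Cfsg.hermForm n F 2 Y u * h2 +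
          (a Y * a u - a u ^ 2 * Cfsg.hermForm n F 2 Y u) *
          (UnitaryF4Geo.two_eq_zero (F := F))
      exact sub_eq_zero.mp ((mul_eq_zero.mp h4).resolve_right (pow_ne_zero 2 hk))
    have h5 := (A : Matrix.SpecialLinearGroup (Fin n) F).2
    rw [hmat _ hd, det_transvection card_sq, e, mul_one, add_eq_left] at h5
    exact hA1 (su_ext fun Y => by rw [ha, hd, h5, zero_mul, zero_smul, add_zero, act_one])
  obtain ⟨Z, hZ⟩ := exists_herm_eq card_sq hu' 1
  have hd : ∀ Y, a Y = a Z ^ 2 * Cfsg.hermForm n F 2 Y u := by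
    intro Y
    have h1 := key Y Z
    rw [hu1, herm_conj card_sq Z u, hZ, one_pow, mul_one, mul_zero, add_zero] at h1
    exact UnitaryF4Geo.eq_of_add_eq_zero h1
  rcases eq_tv_or_one card_sq hu1 (hmat _ hd) with e | ⟨hc, e, -⟩
  · exact absurd e hA1
  refine ⟨u, hu1, hu', ?_⟩
  rcases UnitaryF4Geo.fixed_cases (UnitaryF4Geo.eq_of_add_eq_zero hc).symm with h0 | h1
  · exact absurd (su_ext fun Y => by rw [e, tv_act, h0, zero_mul, zero_smul, add_zero, act_one]) hA1
  · refine e.trans (su_ext fun Y => ?_)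
    rw [tv_act, tv_act, h1]

/-- The recognition, carrying the transpositions onto the transvections. -/
theorem exists_equiv_image : ∃ e : G ≃* Cfsg.PSU K.n F 2,
    e '' D = (QuotientGroup.mk : ↥(Cfsg.SU K.n F 2) → Cfsg.PSU K.n F 2) ''
      {g : ↥(Cfsg.SU K.n F 2) | (((g : Matrix.SpecialLinearGroup (Fin K.n) F) :
        Matrix (Fin K.n) (Fin K.n) F) - 1).rank = 1} := by
  choose S hS using exists_acts K P
  set π := QuotientGroup.mk' (Subgroup.center (SU K.n F 2))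
  have huniq : ∀ {g : G} {S₁ S₂ : SU K.n F 2}, Acts K g S₁ → Acts K g S₂ → π S₁ = π S₂ := by
    intro g S₁ S₂ h1 h2
    obtain ⟨c, hc⟩ := scalar_of_fix K P (S := S₁⁻¹ * S₂) fun e he => by
      have h := acts_mul K P (acts_inv K P h1) h2 e he
      rwa [inv_mul_cancel, one_mul, inv_one, mul_one] at h
    rw [QuotientGroup.mk'_eq_mk']
    exact ⟨S₁⁻¹ * S₂, FusionPSUTools.mem_center_of_scalar hc, mul_inv_cancel_left _ _⟩
  let f : G →* Cfsg.PSU K.n F 2 :=
    { toFun := fun g => π (S g)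
      map_one' := (huniq (hS 1) (acts_one K)).trans (map_one π)
      map_mul' := fun g g' => (huniq (hS _) (acts_mul K P (hS g) (hS g'))).trans (map_mul π _ _) }
  have hn : 2 ≤ K.n := le_trans (by norm_num) K.four_le
  have hinj : Function.Injective f := by
    rw [← MonoidHom.ker_eq_bot_iff, eq_bot_iff]
    intro g hg
    have h1 : S g ∈ Subgroup.center (SU K.n F 2) := (QuotientGroup.eq_one_iff _).mp hg
    obtain ⟨c, hc⟩ := FusionPSUTools.exists_scalar card_sq hn h1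
    have hfix : ∀ d ∈ D, g * d * g⁻¹ = d := by
      intro d hd
      refine (Vec_inj K P hd (P.C.tc.conj g d hd) ?_).symm
      obtain ⟨k, hk, ek⟩ := hS g d hd
      rw [hc] at ek
      have hc0 : c ≠ 0 := by
        rintro rfl
        rw [zero_smul] at ek
        exact Vec_ne K P (P.C.tc.conj g d hd) ((smul_eq_zero.mp ek.symm).resolve_left hk)
      exact ⟨c⁻¹ * k, mul_ne_zero (inv_ne_zero hc0) hk, by
        rw [← smul_smul, ← ek, smul_smul, inv_mul_cancel₀ hc0, one_smul]⟩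
    have htop : (⊤ : Subgroup G) ≤ Subgroup.centralizer ({g} : Set G) := by
      rw [← P.C.tc.gen, Subgroup.closure_le]
      exact fun d hd => Subgroup.mem_centralizer_singleton_iff.mpr
        (FischerTwins54.commute_of_conj (hfix d hd)).symm.eq
    have hgc : g ∈ Subgroup.center G := Subgroup.mem_center_iff.mpr fun y =>
      Subgroup.mem_centralizer_singleton_iff.mp (htop (Subgroup.mem_top y))
    rwa [center_eq_bot P.C] at hgc
  have hsurj : Function.Surjective f := by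
    rw [← MonoidHom.range_eq_top]
    have hπ : Function.Surjective π := QuotientGroup.mk'_surjective _
    rw [← (MonoidHom.range_eq_top.mpr hπ), MonoidHom.range_eq_map π,
      ← tGroup_eq_top card_sq (show 1 ≤ K.n by omega)
        (fun h => by have := K.four_le; omega)]
    refine le_antisymm ?_ ?_
    · rw [tGroup_eq_top card_sq (show 1 ≤ K.n by omega) (fun h => by have := K.four_le; omega),
        ← MonoidHom.range_eq_map, MonoidHom.range_eq_top.mpr hπ]
      exact le_top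
    rw [tGroup, MonoidHom.map_closure, Subgroup.closure_le]
    rintro _ ⟨A, ⟨X, c, hX, hA⟩, rfl⟩
    rcases eq_tv_or_one card_sq hX hA with rfl | ⟨hc, rfl, hX0⟩
    · rw [map_one]; exact one_mem _
    have hc' : c = 0 ∨ c = 1 :=
      UnitaryF4Geo.fixed_cases (UnitaryF4Geo.eq_of_add_eq_zero hc).symm
    rcases hc' with rfl | rfl
    · have : tv card_sq X 0 hX hc = 1 := su_ext fun Y => by
        rw [tv_act, zero_mul, zero_smul, add_zero, act_one]
      rw [this, map_one]; exact one_mem _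
    obtain ⟨d, hd, k, hk, rfl⟩ := exists_Vec K P hX hX0
    refine ⟨d, ?_⟩
    show π (S d) = _
    rw [huniq (hS d) (acts_member K P hd)]
    congr 1
    refine su_ext fun Y => ?_
    rw [tv_act, tv_act, one_mul, one_mul, herm_smul_right, smul_smul]
    congr 2
    linear_combination (-(Cfsg.hermForm K.n F 2 Y (Vec K d))) * UnitaryF4Geo.cube hk
  have hf : ∀ {d : G} (hd : d ∈ D), f d = π (tv card_sq (Vec K d) 1 (Vec_iso K P hd) one_skew) :=
    fun hd => huniq (hS _) (acts_member K P hd)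
  refine ⟨MulEquiv.ofBijective f ⟨hinj, hsurj⟩, Set.ext fun y => ⟨?_, ?_⟩⟩
  · rintro ⟨d, hd, rfl⟩
    exact ⟨_, rank_tv (Vec_iso K P hd) (Vec_ne K P hd), (hf hd).symm⟩
  · rintro ⟨A, hA, rfl⟩
    obtain ⟨X, hX, hX0, rfl⟩ := exists_tv_of_rank hA
    obtain ⟨d, hd, k, hk, rfl⟩ := exists_Vec K P hX hX0
    refine ⟨d, hd, (hf hd).trans ?_⟩
    show π _ = π _
    congr 1
    refine su_ext fun Y => ?_
    rw [tv_act, tv_act, one_mul, one_mul, herm_smul_right, smul_smul]
    congr 2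
    linear_combination (-(Cfsg.hermForm K.n F 2 Y (Vec K d))) * UnitaryF4Geo.cube hk

/-- The recognition. -/
theorem exists_equiv : Nonempty (G ≃* Cfsg.PSU K.n F 2) :=
  ⟨(exists_equiv_image K P).choose⟩

end Cfsg.Agent.FischerUnEquiv99
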