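import Cfsg.Prelude.Def_FischerSpaces
import Cfsg.Prelude.Def_Solvable
import Cfsg.Agent.Lib.FischerPolarSp99
import Cfsg.Agent.Lib.FischerUnEquiv99

/-!
The degenerate case of Fischer's theorem in which `O₂` of the local group is not central, with the
transpositions carried onto the transvections.
-/

set_option autoImplicit false
open Cfsg

namespace Cfsg.Agent.FischerDegen99

/-- `O₂` of a local group not central: symplectic or unitary transvections. -/
theorem o2_case {G : Type*} [Group G] [Finite G] (hsol : ∀ N : Subgroup G, N.Normal → Group.IsSolvable ↥N → N = ⊥) (hperf : ⁅commutator G, commutator G⁆ = commutator G) {D : Set G} (hD : Cfsg.IsThreeTranspositionClass D) (x : G) (hx : x ∈ D) (h : ¬ Cfsg.pCore 2 ↥(Subgroup.closure {y : G | y ∈ D ∧ y ≠ x ∧ Commute x y}) ≤ Subgroup.center ↥(Subgroup.closure {y : G | y ∈ D ∧ y ≠ x ∧ Commute x y})) :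
    (∃ m : ℕ, ∃ e : G ≃* Matrix.symplecticGroup (Fin m) (ZMod 2), e '' D = {g : Matrix.symplecticGroup (Fin m) (ZMod 2) | ((g : Matrix (Fin m ⊕ Fin m) (Fin m ⊕ Fin m) (ZMod 2)) - 1).rank = 1}) ∨
    (∃ (n : ℕ) (F : Type) (_ : Field F) (_ : Fintype F), 4 ≤ n ∧ Fintype.card F = 4 ∧ ∃ e : G ≃* Cfsg.PSU n F 2, e '' D = (QuotientGroup.mk : ↥(Cfsg.SU n F 2) → Cfsg.PSU n F 2) '' {g : ↥(Cfsg.SU n F 2) | (((g : Matrix.SpecialLinearGroup (Fin n) F) : Matrix (Fin n) (Fin n) F) - 1).rank = 1}) := by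
  classical
  have tc := ThreeTransp.tc_of_class hD
  have hcore : ∀ y ∈ D, ¬ Cfsg.pCore 2 ↥(FischerSolvClasses99.Hx D y) ≤
      Subgroup.center ↥(FischerSolvClasses99.Hx D y) := by
    intro y hy hle
    obtain ⟨g, rfl⟩ := tc.trans x hx y hy
    change ¬ Cfsg.pCore 2 ↥(FischerSolvClasses99.Hx D x) ≤ Subgroup.center ↥(FischerSolvClasses99.Hx D x) at h
    apply h
    set e := MulAut.conj g
    have hmap : (FischerSolvClasses99.Hx D x).map e.toMonoidHom =
        FischerSolvClasses99.Hx D (g * x * g⁻¹) := by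
      rw [FischerSolvClasses99.Hx, MonoidHom.map_closure, FischerSolvClasses99.Hx, tc.dx_conj]
      rfl
    let φ : ↥(FischerSolvClasses99.Hx D x) ≃* ↥(FischerSolvClasses99.Hx D (g * x * g⁻¹)) :=
      ((FischerSolvClasses99.Hx D x).equivMapOfInjective e.toMonoidHom e.injective).trans
        (MulEquiv.subgroupCongr hmap)
    intro q hq
    rw [Subgroup.mem_center_iff]
    intro w
    refine φ.injective ?_
    rw [map_mul, map_mul]
    refine Subgroup.mem_center_iff.mp (hle ?_) (φ w)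
    haveI : ((Cfsg.pCore 2 ↥(FischerSolvClasses99.Hx D x)).map φ.toMonoidHom).Normal :=
      (HallCore.pCore_normal 2 ↥(FischerSolvClasses99.Hx D x)).map _ φ.surjective
    have hp : IsPGroup 2 ↥((Cfsg.pCore 2 ↥(FischerSolvClasses99.Hx D x)).map φ.toMonoidHom) := by
      haveI : Fact (Nat.Prime 2) := ⟨Nat.prime_two⟩
      exact (HallCore.isPGroup_pCore 2 _).map _
    exact (le_sSup (show _ ∈ {N : Subgroup ↥(FischerSolvClasses99.Hx D (g * x * g⁻¹)) |
      N.Normal ∧ IsPGroup 2 N} from ⟨inferInstance, hp⟩)) ⟨q, hq, rfl⟩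
  have hne : ∀ a ∈ D, a ≠ 1 := by
    obtain ⟨⟨ho, -⟩, -⟩ := hD
    intro a ha e
    have h2 := ho a ha
    rw [e, orderOf_one] at h2
    exact absurd h2 (by norm_num)
  have C : FischerPolar99.PCtx D := ⟨tc, hne, hsol, hperf, hcore⟩
  obtain ⟨y, hy, -⟩ := FischerPolar99.dx_nonempty C hx
  rcases FischerPolarSize99.size_two_or_four C hx hy with h2 | h4
  · exact Or.inl (FischerPolarSp99.exists_equiv_image C
      (fun u hu v hv => (FischerPolar99.ncard_cls C hu hv hx hy).trans h2) ⟨x, hx⟩)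
  refine Or.inr ?_
  obtain ⟨z, hz, hn⟩ := FischerPolar99.exists_far C hy.1 (FischerPolar99.dx_symm C hx hy)
  have P : FischerUnLabel99.Frame D x z :=
    ⟨C, fun u hu v hv => (FischerPolar99.ncard_cls C hu hv hx hy).trans h4, hx, hz.1,
      fun e => hn e.symm⟩
  let F := GaloisField 2 2
  haveI : Fintype F := Fintype.ofFinite F
  have hF : Fintype.card F = 4 := by
    rw [← Nat.card_eq_fintype_card, GaloisField.card 2 2 (by norm_num)]
    norm_num
  haveI : UnitaryF4Geo.FourField F := ⟨hF⟩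
  obtain ⟨Γ⟩ := P.exists_gauge (F := F)
  obtain ⟨K⟩ := FischerUnCoord99.exists_space Γ P
  exact ⟨K.n, F, inferInstance, inferInstance, K.four_le, hF, FischerUnEquiv99.exists_equiv_image K P⟩

end Cfsg.Agent.FischerDegen99
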