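import Mathlib
import Cfsg.Prelude.Def_FischerSpaces
import Cfsg.Agent.Lib.OrthUnitarySimple
import Cfsg.Agent.Lib.OrthUnitaryPrelude

/-!
# The projective reflection group is not a nonabelian simple group

For a non-degenerate quadratic form in dimension 6 over `ZMod 3` the central elements of a group
generated by the reflections of one norm have determinant one, so the determinant survives in the
quotient by the centre.
-/

set_option autoImplicit false
set_option linter.unusedSectionVars false
set_option linter.style.haveILetI false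

namespace Cfsg.Agent.ThreeTransReflection

open QuadraticMap Cfsg.Agent.OrthUnitaryQuad Cfsg.Agent.OrthUnitaryRefl Cfsg.Agent.OrthUnitaryOmega Cfsg.Agent.OrthUnitaryPrelude Cfsg.Agent.OrthUnitarySimple
open scoped Matrix

section

variable {F V : Type*} [Field F] [Fintype F] [AddCommGroup V] [Module F V] [FiniteDimensional F V]
  {Q : QuadraticForm F V}

/-- In dimension at least three every value is represented. -/
theorem exists_value (hQ : IsReg Q) (hn : 3 ≤ Module.finrank F V) (a : F) : ∃ x, Q x = a := by
  obtain ⟨e, he, he0⟩ := exists_singular hQ hn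
  obtain ⟨z, hz⟩ := exists_polar_ne_zero hQ he he0
  refine ⟨((a - Q z) / polar Q e z) • e + z, ?_⟩
  have : Q (((a - Q z) / polar Q e z) • e + z)
      = ((a - Q z) / polar Q e z) * polar Q e z + Q z := by
    rw [QuadraticMap.map_add Q, QuadraticMap.map_smul, he, polar_smul_left]
    simp only [smul_eq_mul]; ring
  rw [this, div_mul_cancel₀ _ hz, sub_add_cancel]

/-- The vectors orthogonal to two given ones. -/
def perpTwo (Q : QuadraticForm F V) (u v : V) : Submodule F V :=
  LinearMap.ker ((polarBilin Q u).prod (polarBilin Q v))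

theorem mem_perpTwo {u v x : V} : x ∈ perpTwo Q u v ↔ polar Q u x = 0 ∧ polar Q v x = 0 := by
  simp [perpTwo]

/-- The space orthogonal to two orthogonal non-singular vectors represents every value. -/
theorem exists_value_perpTwo (h2 : (2 : F) ≠ 0) (hQ : IsReg Q) (hn : 5 ≤ Module.finrank F V)
    {u v : V} (hu : Q u ≠ 0) (hv : Q v ≠ 0) (huv : polar Q u v = 0) (a : F) :
    ∃ t, Q t = a ∧ polar Q u t = 0 ∧ polar Q v t = 0 := by
  have hfr : 3 ≤ Module.finrank F (perpTwo Q u v) := by
    have h1 := LinearMap.finrank_range_add_finrank_ker ((polarBilin Q u).prod (polarBilin Q v))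
    have h2 := Submodule.finrank_le (LinearMap.range ((polarBilin Q u).prod (polarBilin Q v)))
    rw [Module.finrank_prod, Module.finrank_self] at h2
    unfold perpTwo
    omega
  have hreg : IsReg (Q.restrict (perpTwo Q u v)) := by
    intro x hx hx0
    have huu : polar Q u u ≠ 0 := by rw [polar_self_mul]; exact mul_ne_zero h2 hu
    have hvv : polar Q v v ≠ 0 := by rw [polar_self_mul]; exact mul_ne_zero h2 hv
    refine Subtype.ext (hQ (x : V) (fun y => ?_) hx0)
    obtain ⟨hxu, hxv⟩ := mem_perpTwo.mp x.2
    have hy' : y - (polar Q u y / polar Q u u) • u - (polar Q v y / polar Q v v) • v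
        ∈ perpTwo Q u v := by
      rw [mem_perpTwo]
      constructor
      · rw [polar_sub_right, polar_sub_right, polar_smul_right, polar_smul_right, huv]
        simp only [smul_eq_mul, div_mul_cancel₀ _ huu, mul_zero, sub_zero, sub_self]
      · rw [polar_sub_right, polar_sub_right, polar_smul_right, polar_smul_right,
          polar_comm (f := ⇑Q) v u, huv]
        simp only [smul_eq_mul, div_mul_cancel₀ _ hvv, mul_zero, sub_zero, sub_self]
    have h3 : polar Q (x : V)
        (y - (polar Q u y / polar Q u u) • u - (polar Q v y / polar Q v v) • v) = 0 := hx ⟨_, hy'⟩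
    rw [polar_sub_right, polar_sub_right, polar_smul_right, polar_smul_right,
      polar_comm (f := ⇑Q) (x : V) u, hxu, polar_comm (f := ⇑Q) (x : V) v, hxv] at h3
    simpa using h3
  obtain ⟨t, ht⟩ := exists_value hreg hfr a
  exact ⟨t, ht, mem_perpTwo.mp t.2⟩

end

variable {V : Type*} [AddCommGroup V] [Module (ZMod 3) V] [FiniteDimensional (ZMod 3) V]
  {Q : QuadraticForm (ZMod 3) V}

theorem zmod3_two_ne_zero : (2 : ZMod 3) ≠ 0 := by decide

/-- A linear map sending each vector of one norm to itself or its negative is `1` or `-1`. -/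
theorem scalar_of_signs (hQ : IsReg Q) (hn : 5 ≤ Module.finrank (ZMod 3) V) {c : ZMod 3}
    (hc : c ≠ 0) (M : V →ₗ[ZMod 3] V) (hM : ∀ x y, polar Q (M x) (M y) = polar Q x y)
    (hs : ∀ v, Q v = c → M v = v ∨ M v = -v) :
    (∀ x, M x = x) ∨ (∀ x, M x = -x) := by
  -- the sign is the same for all vectors of norm c
  have hsame : ∀ u v, Q u = c → Q v = c → M u = u → M v = -v → False := by
    intro u v hu hv h1 h2
    have huv : polar Q u v = 0 := by
      have := hM u v
      rw [h1, h2, polar_neg_right] at this
      revert this; generalize polar Q u v = t; revert t; decide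
    obtain ⟨t, ht, htu, htv⟩ :=
      exists_value_perpTwo zmod3_two_ne_zero hQ hn (hu ▸ hc) (hv ▸ hc) huv (-c)
    have huu : polar Q u u = 2 * c := by rw [polar_self_mul, hu]
    have hvv : polar Q v v = 2 * c := by rw [polar_self_mul, hv]
    have hw : Q (u + v + t) = c := by
      rw [QuadraticMap.map_add Q, QuadraticMap.map_add Q, hu, hv, huv, polar_add_left, htu, htv, ht]
      ring
    have hwu : polar Q (u + v + t) u = 2 * c := by
      rw [polar_add_left, polar_add_left, huu, polar_comm (f := ⇑Q) v u, huv,
        polar_comm (f := ⇑Q) t u, htu]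
      ring
    have hwv : polar Q (u + v + t) v = 2 * c := by
      rw [polar_add_left, polar_add_left, hvv, huv, polar_comm (f := ⇑Q) t v, htv]
      ring
    have e1 := hM (u + v + t) u
    have e2 := hM (u + v + t) v
    have key : ∀ c : ZMod 3, c ≠ 0 → -(2 * c) = 2 * c → False := by decide
    rcases hs _ hw with h3 | h3
    · rw [h3, h2, polar_neg_right, hwv] at e2
      exact key c hc e2
    · rw [h3, h1, polar_neg_left, hwu] at e1
      exact key c hc e1
  -- vectors of norm c span
  have hspan : ∀ s : ZMod 3, (∀ v, Q v = c → M v = s • v) → ∀ x, M x = s • x := by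
    intro s hsv
    have hne : ∀ x, Q x ≠ 0 → M x = s • x := by
      intro x hx
      by_cases hxc : Q x = c
      · exact hsv x hxc
      obtain ⟨v₀, hv₀, hxv₀, -⟩ : ∃ v, Q v = c - Q x ∧ polar Q x v = 0 ∧ True := by
        obtain ⟨u, hu, hxu, -⟩ : ∃ u, Q u = c ∧ polar Q x u = 0 ∧ True := by
          have hfr : 3 ≤ Module.finrank (ZMod 3) (LinearMap.ker (polarBilin Q x)) := by
            have h1 := LinearMap.finrank_range_add_finrank_ker (polarBilin Q x)
            have h2 := Submodule.finrank_le (LinearMap.range (polarBilin Q x))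
            rw [Module.finrank_self] at h2
            omega
          have hreg : IsReg (Q.restrict (LinearMap.ker (polarBilin Q x))) := by
            intro z hz hz0
            have hxx : polar Q x x ≠ 0 := by
              rw [polar_self_mul]; exact mul_ne_zero zmod3_two_ne_zero hx
            refine Subtype.ext (hQ (z : V) (fun y => ?_) hz0)
            have hxz : polar Q x (z : V) = 0 := z.2
            have hy' : y - (polar Q x y / polar Q x x) • x ∈ LinearMap.ker (polarBilin Q x) := by
              rw [LinearMap.mem_ker, polarBilin_apply_apply, polar_sub_right, polar_smul_right]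
              simp only [smul_eq_mul, div_mul_cancel₀ _ hxx, sub_self]
            have h3 : polar Q (z : V) (y - (polar Q x y / polar Q x x) • x) = 0 := hz ⟨_, hy'⟩
            rw [polar_sub_right, polar_smul_right, polar_comm (f := ⇑Q) (z : V) x, hxz] at h3
            simpa using h3
          obtain ⟨u, hu⟩ := exists_value hreg hfr c
          exact ⟨u, hu, u.2, trivial⟩
        obtain ⟨t, ht, hxt, -⟩ :=
          exists_value_perpTwo zmod3_two_ne_zero hQ hn hx (hu ▸ hc) hxu (c - Q x)
        exact ⟨t, ht, hxt, trivial⟩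
      have h1 : Q (x + v₀) = c := by rw [QuadraticMap.map_add Q, hv₀, hxv₀]; ring
      have h2 : Q (x - v₀) = c := by
        rw [sub_eq_add_neg, QuadraticMap.map_add Q, QuadraticMap.map_neg, hv₀, polar_neg_right, hxv₀]
        ring
      have e : (x + v₀) + (x - v₀) = (2 : ZMod 3) • x := by rw [two_smul]; abel
      have := congrArg M e
      rw [map_add, hsv _ h1, hsv _ h2, map_smul, ← smul_add, e] at this
      rw [smul_comm] at this
      exact (smul_right_injective V zmod3_two_ne_zero this).symm
    intro x
    by_cases hx : Q x = 0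
    · by_cases hx0 : x = 0
      · simp [hx0]
      obtain ⟨y, hy⟩ := exists_polar_ne_zero hQ hx hx0
      have hp : Q (x + y) = polar Q x y + Q y := by rw [QuadraticMap.map_add Q, hx]; ring
      have hm : Q (x - y) = -polar Q x y + Q y := by
        rw [sub_eq_add_neg, QuadraticMap.map_add Q, QuadraticMap.map_neg, hx, polar_neg_right]; ring
      by_cases hy0 : Q y = 0
      · have h1 := hne (x + y) (by rw [hp, hy0, add_zero]; exact hy)
        have h2 := hne (x - y) (by rw [hm, hy0, add_zero]; exact neg_ne_zero.mpr hy)
        have e : (x + y) + (x - y) = (2 : ZMod 3) • x := by rw [two_smul]; abel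
        have := congrArg M e
        rw [map_add, h1, h2, map_smul, ← smul_add, e] at this
        rw [smul_comm] at this
        exact (smul_right_injective V zmod3_two_ne_zero this).symm
      · rcases eq_or_ne (Q (x + y)) 0 with h | h
        · have h2 : Q (x - y) ≠ 0 := by
            rw [hm]; rw [hp] at h
            revert h hy hy0
            generalize polar Q x y = p; generalize Q y = q
            revert p q; decide
          have e : (x - y) + y = x := sub_add_cancel x y
          rw [← e, map_add, hne _ h2, hne _ hy0, smul_add]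
        · have e : (x + y) - y = x := add_sub_cancel_right x y
          rw [← e, map_sub, hne _ h, hne _ hy0, smul_sub]
    · exact hne x hx
  by_cases h : ∀ v, Q v = c → M v = v
  · left
    intro x
    simpa using hspan 1 (fun v hv => by simpa using h v hv) x
  · right
    push Not at h
    obtain ⟨v₀, hv₀, hne⟩ := h
    have h0 : M v₀ = -v₀ := (hs v₀ hv₀).resolve_left hne
    intro x
    simpa using hspan (-1) (fun v hv => by
      rcases hs v hv with h1 | h1
      · exact (hsame v v₀ hv hv₀ h1 h0).elim
      · simpa using h1) x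

/-- An isometry commuting with a reflection fixes or negates its centre. -/
theorem sign_of_commute_refl {c : ZMod 3} (hc : c ≠ 0) (g : orth Q) {v : V} (hv : Q v = c)
    (hv0 : Q v ≠ 0) (h1 : refl Q v hv0 * g = g * refl Q v hv0) : g.1 v = v ∨ g.1 v = -v := by
  have h2 : (refl Q v hv0 * g).1 v = (g * refl Q v hv0).1 v := by rw [h1]
  rw [orth_mul_apply, orth_mul_apply, refl_apply, refl_apply, polar_self_mul] at h2
  have hk : ((Q v)⁻¹ * (2 * Q v)) = 2 := by field_simp
  rw [hk] at h2
  set p := (Q v)⁻¹ * polar Q v (g.1 v) with hp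
  have h3 : g.1 v - p • v = -(g.1 v) := by
    rw [h2, ← map_neg]; congr 1; rw [two_smul]; abel
  have h5 : (2 : ZMod 3) • g.1 v = p • v := by
    rw [two_smul, ← sub_eq_zero]
    rw [← sub_eq_zero] at h3
    rw [← h3]; abel
  have h4 : g.1 v = (p * 2) • v := by
    calc g.1 v = ((2 : ZMod 3) * 2) • g.1 v := by
          rw [show ((2 : ZMod 3) * 2) = 1 from by decide, one_smul]
      _ = _ := by rw [mul_smul, h5, smul_smul, mul_comm]
  have h6 : (p * 2) * (p * 2) = 1 := by
    have := map_orth g v
    rw [h4, QuadraticMap.map_smul, smul_eq_mul, hv] at this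
    exact mul_right_cancel₀ hc (by rw [this, one_mul])
  rcases mul_self_eq_one_iff.mp h6 with h7 | h7 <;> rw [h7] at h4
  · exact Or.inl (by simpa using h4)
  · exact Or.inr (by simpa using h4)

/-- An isometry commuting with every reflection of norm `c` has determinant one. -/
theorem det_of_commute_refl (hQ : IsReg Q) (hfr : Module.finrank (ZMod 3) V = 6) {c : ZMod 3}
    (hc : c ≠ 0) (g : orth Q)
    (hg : ∀ v, Q v = c → ∀ hv0 : Q v ≠ 0, refl Q v hv0 * g = g * refl Q v hv0) :
    detHom Q g = 1 := by
  apply Units.ext
  show ((LinearEquiv.det g.1 : (ZMod 3)ˣ) : ZMod 3) = 1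
  rw [LinearEquiv.coe_det]
  rcases scalar_of_signs hQ (by omega) hc (g.1 : V →ₗ[ZMod 3] V) (fun x y => polar_orth g x y)
      (fun v hv => sign_of_commute_refl hc g hv (hv ▸ hc) (hg v hv _)) with h | h
  · rw [show (g.1 : V →ₗ[ZMod 3] V) = LinearMap.id from LinearMap.ext h]
    exact LinearMap.det_id
  · rw [show (g.1 : V →ₗ[ZMod 3] V) = (-1 : ZMod 3) • LinearMap.id from
        LinearMap.ext fun x => by simpa using h x, LinearMap.det_smul, LinearMap.det_id, hfr]
    decide

set_option maxHeartbeats 1000000 in
/-- The projective reflection group in dimension six is not nonabelian simple. -/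
theorem not_simple_proj {X : Type*} [Group X] {μ c : ZMod 3} (hc : c ≠ 0)
    (hX : Cfsg.IsProjReflectionGroupModThree X 6 μ c) (hs : IsSimpleGroup X)
    (hna : ∃ a b : X, ¬ Commute a b) : False := by
  obtain ⟨Q, hQn, -, ⟨e⟩⟩ := hX
  have hQ : IsReg Q := isReg_of_nondegenerate hQn
  set R := reflectionSubgroup (⇑Q) c with hR
  have hfr : Module.finrank (ZMod 3) (Fin 6 → ZMod 3) = 6 := by simp
  have hnaq : ∃ a b : R ⧸ Subgroup.center R, ¬ Commute a b := by
    obtain ⟨a, b, hab⟩ := hna
    exact ⟨e a, e b, fun h => hab (by simpa using h.map e.symm.toMonoidHom)⟩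
  let δ : R →* (ZMod 3)ˣ := ((detHom Q).comp (iso Q).toMonoidHom).comp R.subtype
  have hδrefl : ∀ r : R, (r : isometryGroup (ZMod 3) ⇑Q) ∈ reflectionsOfNorm (⇑Q) c → δ r = -1 := by
    rintro r ⟨v, hv, hr⟩
    have hv0 : Q v ≠ 0 := hv ▸ hc
    show detHom Q (iso Q r.1) = -1
    rw [(mat_eq_reflectionMatrix_iff r.1 hv0).mp hr, detHom_refl]
  -- central elements have determinant one
  have hcen : ∀ z ∈ Subgroup.center R, δ z = 1 := by
    intro z hz
    show detHom Q (iso Q z.1) = 1
    refine det_of_commute_refl hQ hfr hc _ fun v hv hv0 => ?_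
    obtain ⟨r, hr⟩ := (iso Q).surjective (refl Q v hv0)
    have hrR : r ∈ reflectionsOfNorm (⇑Q) c :=
      ⟨v, hv, (mat_eq_reflectionMatrix_iff r hv0).mpr hr⟩
    have hcomm : r * z.1 = z.1 * r :=
      congrArg Subtype.val (Subgroup.mem_center_iff.mp hz ⟨r, Subgroup.subset_closure hrR⟩)
    rw [← hr, ← map_mul, ← map_mul, hcomm]
  haveI : IsSimpleGroup (R ⧸ Subgroup.center R) := by
    haveI := hs
    haveI : Nontrivial (R ⧸ Subgroup.center R) := e.symm.toEquiv.nontrivial
    exact IsSimpleGroup.isSimpleGroup_of_surjective e.toMonoidHom e.surjective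
  let δ' : R ⧸ Subgroup.center R →* (ZMod 3)ˣ :=
    QuotientGroup.lift _ δ fun z hz => hcen z hz
  rcases Subgroup.Normal.eq_bot_or_eq_top (H := δ'.ker) inferInstance with h | h
  · obtain ⟨a, b, hab⟩ := hnaq
    apply hab
    have hinj := (MonoidHom.ker_eq_bot_iff δ').mp h
    exact hinj (by rw [map_mul, map_mul, mul_comm])
  · have hone : ∀ r : R, δ r = 1 := fun r => by
      have : (QuotientGroup.mk r : R ⧸ Subgroup.center R) ∈ δ'.ker := h ▸ Subgroup.mem_top _
      exact this
    obtain ⟨v, hv⟩ := exists_value hQ (by omega) c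
    have hv0 : Q v ≠ 0 := hv ▸ hc
    set r : isometryGroup (ZMod 3) ⇑Q := (iso Q).symm (refl Q v hv0) with hr
    have hrR : r ∈ reflectionsOfNorm (⇑Q) c :=
      ⟨v, hv, (mat_eq_reflectionMatrix_iff r hv0).mpr ((iso Q).apply_symm_apply _)⟩
    have h1 := hδrefl ⟨r, Subgroup.subset_closure hrR⟩ hrR
    rw [hone] at h1
    exact absurd h1 (by decide)

end Cfsg.Agent.ThreeTransReflection
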