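import Cfsg.Agent.Lib.ThreeTransDescent
import Cfsg.Agent.Lib.ThreeTransReflection
import Cfsg.Agent.Lib.HallCore

/-!
# The types M(22) and M(23) give the levels of the descent

The hypothesis on `PSU 6 F 2` is supplied by the users of this file.
-/

set_option autoImplicit false
set_option linter.unusedSectionVars false
set_option linter.style.haveILetI false

namespace Cfsg.Agent.ThreeTransTypes

open Subgroup Cfsg.Agent.ThreeTransRel Cfsg.Agent.ThreeTransDescent

/-- What is needed about the unitary group. -/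
def NASimple (X : Type*) [Group X] : Prop := IsSimpleGroup X ∧ ∃ a b : X, ¬ Commute a b

theorem NASimple.congr {X Y : Type*} [Group X] [Group Y] (e : X ≃* Y) (h : NASimple X) :
    NASimple Y := by
  obtain ⟨hs, a, b, hab⟩ := h
  haveI := hs
  haveI : Nontrivial Y := e.symm.toEquiv.nontrivial
  exact ⟨IsSimpleGroup.isSimpleGroup_of_surjective e.toMonoidHom e.surjective, e a, e b,
    fun h => hab (by simpa using h.map e.symm.toMonoidHom)⟩

theorem NASimple.center {X : Type*} [Group X] (h : NASimple X) : Subgroup.center X = ⊥ := by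
  obtain ⟨hs, a, b, hab⟩ := h
  haveI := hs
  rcases Subgroup.Normal.eq_bot_or_eq_top (H := Subgroup.center X) inferInstance with h | h
  · exact h
  · exact absurd (((mem_center_iff.mp (h ▸ mem_top a : a ∈ Subgroup.center X)) b).symm) hab

theorem NASimple.pCore {X : Type*} [Group X] [Finite X] (h : NASimple X) :
    Cfsg.pCore 2 X = ⊥ := by
  have hc := h.center
  haveI := h.1
  haveI hn : (Cfsg.pCore 2 X).Normal := HallCore.pCore_normal 2 X
  rcases Subgroup.Normal.eq_bot_or_eq_top (H := Cfsg.pCore 2 X) hn with e | e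
  · exact e
  · exfalso
    haveI : Fact (Nat.Prime 2) := ⟨Nat.prime_two⟩
    have hp : IsPGroup 2 X := by
      have := HallCore.isPGroup_pCore 2 X
      rw [e] at this
      exact this.of_equiv Subgroup.topEquiv
    haveI := hp.center_nontrivial
    exact (Subgroup.nontrivial_iff_ne_bot _).mp this hc

variable {G : Type*} [Group G] [Finite G] {E : Set G}

/-- With simple local quotient and reflection group every nontrivial member is conjugate to `d`. -/
theorem one_class (ht : TSys E) (hZ : Subgroup.center G = ⊥) {d c : G} (hd : d ∈ E) (hc : c ∈ E)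
    (hdc : ¬ Commute d c)
    (hH : NASimple (↥(loc E d) ⧸ Subgroup.center ↥(loc E d)))
    {c₃ : ZMod 3} (hc₃ : c₃ ≠ 0)
    (hL : Cfsg.IsProjReflectionGroupModThree
      (↥(Subgroup.closure (near E d ∩ near E c)) ⧸
        Subgroup.center ↥(Subgroup.closure (near E d ∩ near E c))) 6 1 c₃) :
    ∀ y ∈ E, y ≠ 1 → IsConj d y := by
  have hcd : IsConj d c := isConj_of_not_commute ht hd hc hdc
  by_contra hno
  push Not at hno
  obtain ⟨y₀, hy₀E, hy₀1, hy₀⟩ := hno
  set C₂ : Set G := {y | y ∈ E ∧ y ≠ 1 ∧ ¬ IsConj d y} with hC₂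
  -- the two classes commute
  have hcomm : ∀ a ∈ E, IsConj d a → ∀ y ∈ C₂, Commute a y := by
    intro a ha hda y hy
    by_contra hn
    exact hy.2.2 (hda.trans (isConj_of_not_commute ht ha hy.1 hn))
  have hsub : ∀ y ∈ C₂, y ∈ near E d ∩ near E c := fun y hy =>
    ⟨⟨hy.1, fun e => hy.2.2 (e ▸ IsConj.refl y), hcomm d hd (IsConj.refl d) y hy⟩,
      ⟨hy.1, fun e => hy.2.2 (e ▸ hcd), hcomm c hc hcd y hy⟩⟩
  set H := loc E d
  set K := Subgroup.closure C₂ with hK
  set Ls := Subgroup.closure (near E d ∩ near E c) with hLs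
  have hKH : K ≤ H := (closure_le _).mpr fun y hy => subset_closure (hsub y hy).1
  have hKL : K ≤ Ls := (closure_le _).mpr fun y hy => subset_closure (hsub y hy)
  have hLH : Ls ≤ H := (closure_le _).mpr fun y hy => subset_closure hy.1
  set π := QuotientGroup.mk' (Subgroup.center ↥H) with hπ
  haveI hKn : (K.subgroupOf H).Normal := by
    refine ⟨fun x hx g => ?_⟩
    rw [mem_subgroupOf] at hx ⊢
    have : ∀ z : G, z ∈ K → (g : G) * z * (g : G)⁻¹ ∈ K := by
      intro z hz
      induction hz using Subgroup.closure_induction with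
      | mem y hy =>
        refine subset_closure ⟨ht.conj g y hy.1, fun e => hy.2.1 (conj_eq_one_iff.mp e), fun e => ?_⟩
        exact hy.2.2 (e.trans (isConj_iff.mpr ⟨(g : G)⁻¹, by group⟩))
      | one => simp
      | mul a b _ _ ha hb =>
        have e : (g : G) * (a * b) * (g : G)⁻¹ = (g * a * (g : G)⁻¹) * (g * b * (g : G)⁻¹) := by group
        rw [e]; exact mul_mem ha hb
      | inv a _ ha =>
        have e : (g : G) * a⁻¹ * (g : G)⁻¹ = (g * a * (g : G)⁻¹)⁻¹ := by group
        rw [e]; exact inv_mem ha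
    exact this x hx
  haveI := hH.1
  haveI hMn : ((K.subgroupOf H).map π).Normal :=
    hKn.map π (QuotientGroup.mk'_surjective _)
  rcases Subgroup.Normal.eq_bot_or_eq_top (H := (K.subgroupOf H).map π) hMn with h | h
  · -- the second class would be central
    apply hy₀1
    refine eq_one_of_central ht hZ fun u hu => ?_
    have hy₀' : y₀ ∈ C₂ := ⟨hy₀E, hy₀1, hy₀⟩
    by_cases hdu : IsConj d u
    · exact hcomm u hu hdu y₀ hy₀'
    by_cases hu1 : u = 1
    · subst hu1; exact Commute.one_left _
    have hun := (hsub u ⟨hu, hu1, hdu⟩).1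
    have hyn := (hsub y₀ hy₀').1
    have hy₀H : y₀ ∈ H := near_le_loc hyn
    have h1 : π ⟨y₀, hy₀H⟩ = 1 := by
      rw [← mem_bot, ← h]
      exact mem_map_of_mem π (mem_subgroupOf.mpr (subset_closure hy₀'))
    exact (mk_eq_one_iff _).mp h1 u hun
  · -- the local quotient would be a quotient of the small group
    let f : ↥Ls →* ↥H ⧸ Subgroup.center ↥H := π.comp (Subgroup.inclusion hLH)
    have hf : Function.Surjective f := by
      intro q
      obtain ⟨x, hx, rfl⟩ := (mem_map.mp (h ▸ mem_top q : q ∈ (K.subgroupOf H).map π))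
      exact ⟨⟨x, hKL (mem_subgroupOf.mp hx)⟩, rfl⟩
    have hker : f.ker = Subgroup.center ↥Ls := by
      apply le_antisymm
      · intro x hx
        have hxZ : Subgroup.inclusion hLH x ∈ Subgroup.center ↥H := by
          rw [← QuotientGroup.ker_mk' (Subgroup.center ↥H)]; exact hx
        rw [mem_center_iff]
        intro g
        have := congrArg Subtype.val (mem_center_iff.mp hxZ (Subgroup.inclusion hLH g))
        exact Subtype.ext this
      · intro x hx
        rw [MonoidHom.mem_ker, ← mem_bot, ← hH.center, mem_center_iff]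
        intro q
        obtain ⟨g, rfl⟩ := hf q
        rw [← map_mul, ← map_mul, mem_center_iff.mp hx g]
    have e : ↥Ls ⧸ Subgroup.center ↥Ls ≃* ↥H ⧸ Subgroup.center ↥H :=
      (QuotientGroup.quotientMulEquivOfEq hker.symm).trans
        (QuotientGroup.quotientKerEquivOfSurjective f hf)
    have hX := hH.congr e.symm
    exact ThreeTransReflection.not_simple_proj hc₃ hL hX.1 hX.2

/-- The unitary hypothesis. -/
def PSU6Simple : Prop :=
  ∀ (F : Type) [Field F] [Fintype F], Fintype.card F = 4 → NASimple (Cfsg.PSU 6 F 2)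

theorem level1_of_m22 (hU : PSU6Simple) (ht : TSys E) (h : Cfsg.IsOfTypeM22 G E) : Level1 E := by
  obtain ⟨hZ, d, hd, c, hc, hdc, ⟨F, _, _, hF, ⟨e⟩⟩, c₃, hc₃, hL⟩ := h
  have hH : NASimple (↥(loc E d) ⧸ Subgroup.center ↥(loc E d)) := (hU F hF).congr e.symm
  haveI := hH.1
  exact ⟨ht, hZ, d, hd, one_class ht hZ hd hc hdc hH hc₃ hL, hH.center, hH.pCore, inferInstance⟩

theorem level2_of_m23 (hU : PSU6Simple) (ht : TSys E) (h : Cfsg.IsOfTypeM23 G E) : Level2 E := by
  obtain ⟨hZ, d, hd, -, -, -, h22, -⟩ := h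
  exact ⟨ht, hZ, d, hd, level1_of_m22 hU (tsys_img ht d) h22⟩

end Cfsg.Agent.ThreeTransTypes
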