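import Cfsg.Agent.Lib.ThreeTransM23Parity34
import Cfsg.Agent.Lib.ThreeTransPrimitive
import Cfsg.Agent.Lib.ThreeTransTypes
import Cfsg.Agent.S5352
import Cfsg.Agent.S5360

/-!
# Primitivity of the local quotient in type M(23)

A class of type M(22) in a group without normal 2- or 3-subgroups is primitive: otherwise the simple
normal subgroup together with a member would again be of type M(22), hence simple.
-/

set_option autoImplicit false
set_option linter.unusedSectionVars false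
set_option linter.style.haveILetI false

namespace Cfsg.Agent.ThreeTransM23Quot59

open Subgroup Cfsg.Agent.ThreeTransRel Cfsg.Agent.ThreeTransDescent
open Cfsg.Agent.ThreeTransM23Parity34

/-- Central quotient by the centre has trivial `p`-core when the `p`-core is central. -/
theorem pCore_quot_center {H : Type*} [Group H] [Finite H] {p : ℕ} [hp : Fact p.Prime]
    (h : Cfsg.pCore p H ≤ Subgroup.center H) : Cfsg.pCore p (H ⧸ Subgroup.center H) = ⊥ := by
  classical
  set π := QuotientGroup.mk' (Subgroup.center H) with hπ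
  set M := Cfsg.pCore p (H ⧸ Subgroup.center H)
  haveI := HallCore.pCore_normal p (H ⧸ Subgroup.center H)
  set P := M.comap π with hP
  have hZP : Subgroup.center H ≤ P := fun z hz => by
    rw [hP, mem_comap, show π z = 1 from (QuotientGroup.eq_one_iff z).mpr hz]; exact one_mem _
  set f := (π.comp P.subtype).codRestrict M fun x => x.2 with hf
  haveI : Group.IsNilpotent ↥M := (HallCore.isPGroup_pCore p _).isNilpotent
  haveI : Group.IsNilpotent ↥P := by
    refine _root_.isNilpotent_of_ker_le_center f (fun x hx => ?_)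
    have hx' : (x : H) ∈ Subgroup.center H :=
      (QuotientGroup.eq_one_iff (x : H)).mp (congrArg Subtype.val (MonoidHom.mem_ker.mp hx))
    exact mem_center_iff.mpr fun y => Subtype.ext (mem_center_iff.mp hx' y)
  obtain ⟨S⟩ := (inferInstance : Nonempty (Sylow p ↥P))
  have hn : (S : Subgroup ↥P).Normal := (Group.isNilpotent_of_finite_tfae (G := ↥P) |>.out 0 3 rfl rfl).mp inferInstance p hp S
  haveI := hn
  haveI := Sylow.characteristic_of_normal S hn
  have hle : (S : Subgroup ↥P).map P.subtype ≤ Subgroup.center H := by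
    refine le_trans ?_ h
    exact HallCore.le_pCore (S.isPGroup'.map _)
  have hsurj : Function.Surjective f := by
    rintro ⟨m, hm⟩
    obtain ⟨x, rfl⟩ := QuotientGroup.mk'_surjective _ m
    exact ⟨⟨x, hm⟩, rfl⟩
  have htop : (S.mapSurjective hsurj : Subgroup ↥M) = ⊤ := by
    obtain ⟨n, hn'⟩ := IsPGroup.iff_card.mp (HallCore.isPGroup_pCore p (H ⧸ Subgroup.center H))
    refine eq_top_iff.mpr ?_
    refine ((S.mapSurjective hsurj).3 ((HallCore.isPGroup_pCore p _).to_subgroup ⊤) le_top).le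
  rw [eq_bot_iff]
  intro m hm
  obtain ⟨x, hx, hxm⟩ := mem_map.mp (htop.ge (mem_top (⟨m, hm⟩ : ↥M)))
  rw [mem_bot, show m = π x from (congrArg Subtype.val hxm).symm]
  exact (QuotientGroup.eq_one_iff _).mpr (hle (mem_map_of_mem _ hx))

/-- Quotients by the centres of isomorphic groups. -/
noncomputable def centerQuot {A B : Type*} [Group A] [Group B] (e : A ≃* B) :
    A ⧸ Subgroup.center A ≃* B ⧸ Subgroup.center B :=
  QuotientGroup.congr _ _ e (by
    ext y
    simp only [mem_map, MonoidHom.coe_coe, mem_center_iff]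
    refine ⟨?_, fun hy => ⟨e.symm y, fun z => e.injective ?_, e.apply_symm_apply y⟩⟩
    · rintro ⟨x, hx, rfl⟩ z
      obtain ⟨z, rfl⟩ := e.surjective z
      rw [← map_mul, ← map_mul, hx]
    · rw [map_mul, map_mul, e.apply_symm_apply, hy])

/-- A subgroup generated inside a subgroup. -/
noncomputable def closureEquiv {X : Type*} [Group X] {K : Subgroup X} {S : Set X} (hS : S ⊆ K)
    (T : Set ↥K) (hT : Subtype.val '' T = S) : ↥(Subgroup.closure T) ≃* ↥(Subgroup.closure S) :=
  ((Subgroup.closure T).equivMapOfInjective K.subtype K.subtype_injective).trans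
    (MulEquiv.subgroupCongr (by rw [MonoidHom.map_closure]; exact congrArg Subgroup.closure hT))

/-- Type M(22) without normal 2- or 3-subgroups is primitive. -/
theorem primitive_of_m22 {X : Type*} [Group X] [Finite X] {E : Set X} (ht : TSys E)
    (h1 : ∀ y ∈ E, y ≠ 1) (h22 : Cfsg.IsOfTypeM22 X E) (h2 : Cfsg.pCore 2 X = ⊥)
    (h3 : Cfsg.pCore 3 X = ⊥) : Cfsg.IsPrimitiveUnderConj E := by
  classical
  obtain ⟨-, hcl, -⟩ := m22_even ht h1 h22
  obtain ⟨hZ, d, hd, c, hc, hdc, ⟨F, _, _, hF, ⟨eU⟩⟩, c₃, hc₃, hL⟩ := h22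
  have hdcne : d ≠ c := fun e => hdc (e ▸ Commute.refl d)
  have hD2 : ∃ a ∈ E, ∃ b ∈ E, a ≠ b := ⟨d, hd, c, hc, hdcne⟩
  have h2' : Cfsg.pCore 2 X ≤ Subgroup.center X := h2 ▸ bot_le
  have h3' : Cfsg.pCore 3 X ≤ Subgroup.center X := h3 ▸ bot_le
  obtain ⟨L, hn, hq, hFit, hor⟩ := S5352.result hcl hD2 h2' h3'
  haveI := hn
  have hdich := ThreeTransPrimitive.dichotomy_of_gen hcl h2' h3' L hq hFit
  have hCL : ∀ x : X, (∀ l ∈ L, Commute x l) → x = 1 := by
    intro x hx
    rcases hdich (centralizer (L : Set X)) inferInstance with h | h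
    · exfalso
      refine ComponentsBasic.isQuasisimple_not_commutative hq ⟨⟨fun a b => Subtype.ext ?_⟩⟩
      exact mem_centralizer_iff.mp (h b.2) a a.2
    · exact mem_bot.mp (hZ ▸ h (mem_centralizer_iff.mpr fun l hl => (hx l hl).eq.symm))
  by_cases hin : ∃ y ∈ E, y ∈ L
  · -- every member lies in `L`
    obtain ⟨y, hy, hyL⟩ := hin
    refine ThreeTransPrimitive.primitive_of_dichotomy hcl hD2 L ?_ hdich
    have htop : L = ⊤ := by
      rw [eq_top_iff, ← ht.gen, closure_le]
      intro z hz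
      obtain ⟨d₀, -, hE⟩ := hcl.2.1
      obtain ⟨g, rfl⟩ := isConj_iff.mp ((show IsConj d₀ y from (Set.ext_iff.mp hE y).mp hy).symm.trans
        (show IsConj d₀ z from (Set.ext_iff.mp hE z).mp hz))
      exact hn.conj_mem y hyL g
    rw [htop, index_top]; norm_num
  push Not at hin
  exfalso
  have hcong : ∀ a ∈ E, ∀ b ∈ E, Commute a b → a⁻¹ * b ∈ L := by
    rcases hor with h | h
    · exact absurd (h ▸ mem_top d) (hin d hd)
    · intro a ha b hb hab
      refine h a ha b hb ?_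
      rw [show a * b * a⁻¹ * b⁻¹ = 1 by rw [hab.eq]; group]
      exact one_mem L
  -- the group `K = L⟨d⟩`
  set K := L ⊔ zpowers d with hK
  have hLK : L ≤ K := le_sup_left
  have hdK : d ∈ K := mem_sup_right (mem_zpowers d)
  have hcongK : ∀ a ∈ E, a ∈ K → ∀ b ∈ E, Commute a b → b ∈ K := fun a ha haK b hb hab => by
    rw [show b = a * (a⁻¹ * b) by group]; exact mul_mem haK (hLK (hcong a ha b hb hab))
  have hnearK : near E d ⊆ K := fun y hy => hcongK d hd hdK y hy.1 hy.2.2
  have hcK : c ∈ K := by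
    obtain ⟨y, hy, hy'⟩ : ∃ y, y ∈ near E d ∧ y ∈ near E c := by
      by_contra hno
      push Not at hno
      obtain ⟨Q, hQ, -, ⟨eR⟩⟩ := hL
      have hLs : Subgroup.closure (near E d ∩ near E c) = ⊥ :=
        eq_bot_iff.mpr ((closure_le _).mpr fun z hz => absurd hz.2 (hno z hz.1))
      haveI hsub : Subsingleton ↥(Subgroup.closure (near E d ∩ near E c)) :=
        ⟨fun a b => Subtype.ext ((mem_bot.mp (hLs.le a.2)).trans (mem_bot.mp (hLs.le b.2)).symm)⟩
      obtain ⟨hqs, -⟩ := S5360.result 6 (by norm_num) Q hQ c₃ hc₃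
      haveI : Subsingleton (↥(Cfsg.reflectionSubgroup (⇑Q) c₃) ⧸
          Subgroup.center ↥(Cfsg.reflectionSubgroup (⇑Q) c₃)) := eR.symm.injective.subsingleton
      refine ComponentsBasic.isQuasisimple_not_commutative hqs ⟨⟨fun a b => Subtype.ext ?_⟩⟩
      exact mem_center_iff.mp ((QuotientGroup.eq_one_iff _).mp (Subsingleton.elim _ _)) _
    exact hcongK y hy.1 (hnearK hy) c hc hy'.2.2.symm
  set EK : Set ↥K := {x | (x : X) ∈ E} with hEK
  set dK : ↥K := ⟨d, hdK⟩
  set cK : ↥K := ⟨c, hcK⟩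
  have hLmem : ∀ k ∈ K, k ∈ L ∨ k * d ∈ L := by
    intro k hk
    obtain ⟨l, hl, z, hz, rfl⟩ := mem_sup_of_normal_left.mp hk
    rcases ThreeTransM22Cent72.mem_zpowers_two (hcl.1.1 d hd) hz with e | e <;> rw [e]
    · exact Or.inl (by rwa [mul_one])
    · exact Or.inr (by rwa [mul_assoc, ht.sq d hd, mul_one])
  haveI hLs : IsSimpleGroup ↥L := by
    have hZL : Subgroup.center ↥L = ⊥ := eq_bot_iff.mpr fun z hz => mem_bot.mpr (Subtype.ext
      (hCL z fun l hl => (congrArg Subtype.val (mem_center_iff.mp hz ⟨l, hl⟩)).symm))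
    haveI : Nontrivial ↥L := by
      by_contra h
      rw [not_nontrivial_iff_subsingleton] at h
      exact ComponentsBasic.isQuasisimple_not_commutative hq ⟨⟨fun a b => Subsingleton.elim _ _⟩⟩
    refine ⟨fun N hN => ?_⟩
    haveI := hN
    exact (ComponentsBasic.normal_le_center_or_eq_top hq N).imp (fun h => le_bot_iff.mp (hZL ▸ h)) id
  -- subgroups of `X` normalised by `K`
  have hdichK : ∀ M : Subgroup X, M ≤ K → (∀ k ∈ K, ∀ m ∈ M, k * m * k⁻¹ ∈ M) →
      M = ⊥ ∨ L ≤ M := by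
    intro M hMK hM
    have hnorm : (M.subgroupOf L).Normal :=
      ⟨fun m hm l => mem_subgroupOf.mpr (hM l (hLK l.2) m (mem_subgroupOf.mp hm))⟩
    rcases hnorm.eq_bot_or_eq_top with h | h
    · left
      refine eq_bot_iff.mpr fun m hm => mem_bot.mpr (hCL m fun l hl => ?_)
      have hL' : m * l * m⁻¹ * l⁻¹ ∈ L := mul_mem (hn.conj_mem l hl m) (inv_mem hl)
      have hM' : m * l * m⁻¹ * l⁻¹ ∈ M := by
        rw [show m * l * m⁻¹ * l⁻¹ = m * (l * m⁻¹ * l⁻¹) by group]
        exact mul_mem hm (hM l (hLK hl) _ (inv_mem hm))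
      have h0 : (⟨_, hL'⟩ : ↥L) = 1 := mem_bot.mp (h ▸ mem_subgroupOf.mpr hM')
      exact commutatorElement_eq_one_iff_commute.mp (congrArg Subtype.val h0)
    · exact Or.inr (subgroupOf_eq_top.mp h)
  have hconjK : ∀ (g : ↥K), ∀ x ∈ EK, g * x * g⁻¹ ∈ EK := fun g x hx => ht.conj g x hx
  have hgen : Subgroup.closure EK = ⊤ := by
    have hnormal : (Subgroup.closure EK).Normal := ⟨fun m hm g => by
      have := mem_map_of_mem (MulAut.conj g).toMonoidHom hm
      rw [MonoidHom.map_closure] at this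
      exact (closure_mono (Set.image_subset_iff.mpr fun x hx => hconjK g x hx) :
        Subgroup.closure ((MulAut.conj g).toMonoidHom '' EK) ≤ Subgroup.closure EK) this⟩
    have hMK : (Subgroup.closure EK).map K.subtype ≤ K := Subgroup.map_subtype_le _
    rcases hdichK _ hMK (fun k hk m hm => by
      obtain ⟨m, hm', rfl⟩ := mem_map.mp hm
      exact mem_map.mpr ⟨_, hnormal.conj_mem m hm' ⟨k, hk⟩, rfl⟩) with h | h
    · exfalso
      have : d ∈ (Subgroup.closure EK).map K.subtype :=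
        mem_map.mpr ⟨dK, subset_closure hd, rfl⟩
      rw [h, mem_bot] at this
      exact h1 d hd this
    · refine eq_top_iff.mpr fun k _ => ?_
      have hKM : K ≤ (Subgroup.closure EK).map K.subtype :=
        sup_le h (zpowers_le.mpr (mem_map.mpr ⟨dK, subset_closure hd, rfl⟩))
      obtain ⟨m, hm, e⟩ := mem_map.mp (hKM k.2)
      rwa [← show m = k from Subtype.ext e]
  have htK : TSys EK :=
    ⟨fun e he => Subtype.ext (ht.sq _ he),
      fun a ha b hb hn => Subtype.ext (ht.braid _ ha _ hb fun e => hn (Subtype.ext e.eq)),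
      hconjK, hgen⟩
  have hcK' : ∀ a b : ↥K, Commute a b ↔ Commute (a : X) b := fun a b =>
    ⟨fun e => congrArg Subtype.val e.eq, fun e => Subtype.ext e.eq⟩
  have hnearEq : Subtype.val '' near EK dK = near E d := by
    ext y
    constructor
    · rintro ⟨x, hx, rfl⟩
      exact ⟨hx.1, fun e => hx.2.1 (Subtype.ext e), (hcK' _ _).mp hx.2.2⟩
    · intro hy
      exact ⟨⟨y, hnearK hy⟩, ⟨hy.1, fun e => hy.2.1 (congrArg Subtype.val e), (hcK' _ _).mpr hy.2.2⟩, rfl⟩
  have hcomEq : Subtype.val '' (near EK dK ∩ near EK cK) = near E d ∩ near E c := by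
    ext y
    constructor
    · rintro ⟨x, hx, rfl⟩
      exact ⟨⟨hx.1.1, fun e => hx.1.2.1 (Subtype.ext e), (hcK' _ _).mp hx.1.2.2⟩,
        hx.2.1, fun e => hx.2.2.1 (Subtype.ext e), (hcK' _ _).mp hx.2.2.2⟩
    · intro hy
      exact ⟨⟨y, hnearK hy.1⟩, ⟨⟨hy.1.1, fun e => hy.1.2.1 (congrArg Subtype.val e),
        (hcK' _ _).mpr hy.1.2.2⟩, hy.1.1, fun e => hy.2.2.1 (congrArg Subtype.val e),
        (hcK' _ _).mpr hy.2.2.2⟩, rfl⟩
  have hZK : Subgroup.center ↥K = ⊥ := eq_bot_iff.mpr fun z hz => mem_bot.mpr (Subtype.ext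
    (hCL z fun l hl => (congrArg Subtype.val (mem_center_iff.mp hz ⟨l, hLK hl⟩)).symm))
  have eloc := centerQuot (closureEquiv hnearK _ hnearEq)
  have ecom := centerQuot (closureEquiv (Set.inter_subset_left.trans hnearK) _ hcomEq)
  obtain ⟨Q, hQ, hμ, ⟨eR⟩⟩ := hL
  have h22K : Cfsg.IsOfTypeM22 ↥K EK :=
    ⟨hZK, dK, hd, cK, hc, fun e => hdc ((hcK' _ _).mp e), ⟨F, _, _, hF, ⟨eloc.trans eU⟩⟩, c₃, hc₃,
      Q, hQ, hμ, ⟨ecom.trans eR⟩⟩
  have hne1 : ∀ y ∈ EK, y ≠ 1 := fun y hy e => h1 _ hy (congrArg Subtype.val e)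
  obtain ⟨-, hclK, -⟩ := m22_even htK hne1 h22K
  have hidx : (L.subgroupOf K).index ≤ 2 := by
    refine le_of_eq (Subgroup.index_eq_two_iff.mpr ⟨dK, fun b => ?_⟩)
    rcases hLmem b b.2 with h | h
    · refine Or.inr ⟨h, fun h' => hin d hd ?_⟩
      exact (L.mul_mem_cancel_left h).mp (mem_subgroupOf.mp h')
    · refine Or.inl ⟨h, fun h' => hin d hd ?_⟩
      exact (L.mul_mem_cancel_left h').mp h
  haveI : (L.subgroupOf K).Normal := hn.subgroupOf K
  have hprimK : Cfsg.IsPrimitiveUnderConj EK := by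
    refine ThreeTransPrimitive.primitive_of_dichotomy hclK
      ⟨dK, hd, cK, hc, fun e => hdcne (congrArg Subtype.val e)⟩ (L.subgroupOf K) hidx fun N hN => ?_
    rcases hdichK (N.map K.subtype) (Subgroup.map_subtype_le _) (fun k hk m hm => by
      obtain ⟨m, hm', rfl⟩ := mem_map.mp hm
      exact mem_map.mpr ⟨_, hN.conj_mem m hm' ⟨k, hk⟩, rfl⟩) with h | h
    · exact Or.inr ((Subgroup.map_eq_bot_iff_of_injective _ K.subtype_injective).mp h ▸ bot_le)
    · refine Or.inl fun x hx => ?_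
      obtain ⟨m, hm, e⟩ := mem_map.mp (h (mem_subgroupOf.mp hx))
      rwa [← show m = x from Subtype.ext e]
  haveI := (ThreeTransM22Local72.main (D := EK) ⟨hclK.1, hconjK, hgen⟩ hprimK h22K).1
  rcases (inferInstance : (L.subgroupOf K).Normal).eq_bot_or_eq_top with h | h
  · obtain ⟨l, hl⟩ := exists_ne (1 : ↥L)
    have h0 : (⟨l, hLK l.2⟩ : ↥K) = 1 := mem_bot.mp (h ▸ mem_subgroupOf.mpr l.2)
    exact hl (Subtype.ext (congrArg (fun x : ↥K => (x : X)) h0))
  · exact hin d hd (subgroupOf_eq_top.mp h hdK)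

end Cfsg.Agent.ThreeTransM23Quot59
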