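import Cfsg.Agent.Lib.ThreeTransTypes
import Cfsg.Agent.Lib.OrthUnitaryPSU

/-!
# Commuting pairs in primitive 3-transposition groups, and the unitary input

A product of two commuting members of a primitive class determines the pair.  `psu6Simple` discharges
the hypothesis of `ThreeTransTypes`.
-/

set_option autoImplicit false
set_option linter.unusedSectionVars false
set_option linter.style.haveILetI false

namespace Cfsg.Agent.ThreeTransPairs

open Subgroup Cfsg.Agent.ThreeTransRel Cfsg.Agent.ThreeTransDescent Cfsg.Agent.ThreeTransTypes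

theorem psu6Simple : PSU6Simple := by
  intro F _ _ hF
  have hF' : Fintype.card F = 2 ^ 2 := by rw [hF]; norm_num
  haveI hs : IsSimpleGroup (Cfsg.PSU 6 F 2) :=
    OrthUnitaryPSU.isSimpleGroup_PSU hF' (by norm_num) (by norm_num)
  refine ⟨hs, ?_⟩
  by_contra hno
  push Not at hno
  have hperf : commutator (Cfsg.SU 6 F 2) = ⊤ :=
    OrthUnitaryPSU.commutator_eq_top hF' (by norm_num) (by norm_num)
  have h1 : commutator (Cfsg.PSU 6 F 2) = ⊤ := by
    rw [← top_le_iff]
    have hsur : Function.Surjective (QuotientGroup.mk' (Subgroup.center (Cfsg.SU 6 F 2))) :=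
      QuotientGroup.mk'_surjective _
    have := congrArg (Subgroup.map (QuotientGroup.mk' (Subgroup.center (Cfsg.SU 6 F 2)))) hperf
    rw [commutator_def, Subgroup.map_commutator, Subgroup.map_top_of_surjective _ hsur] at this
    rw [commutator_def]
    exact this.ge
  have h2 : commutator (Cfsg.PSU 6 F 2) = ⊥ := by
    rw [commutator_def, Subgroup.commutator_eq_bot_iff_le_centralizer]
    intro x _
    exact Subgroup.mem_centralizer_iff.mpr fun y _ => (hno y x).eq
  exact (bot_ne_top (h2.symm.trans h1)).elim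

variable {G : Type*} [Group G] [Finite G] {D : Set G}

/-- Members with the same commuting sets are equal. -/
theorem eq_of_same (ht : TSys D) (hprim : Cfsg.IsPrimitiveUnderConj D) {a b : G} (ha : a ∈ D)
    (hb : b ∈ D) (h : ∀ u ∈ D, Commute u a ↔ Commute u b) : a = b := by
  set B : Set G := {x | x ∈ D ∧ ∀ u ∈ D, Commute u x ↔ Commute u a} with hB
  have hblock : ∀ g : G, (fun x => g * x * g⁻¹) '' B = B ∨
      Disjoint ((fun x => g * x * g⁻¹) '' B) B := by
    intro g
    by_cases hd : Disjoint ((fun x => g * x * g⁻¹) '' B) B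
    · exact Or.inr hd
    left
    obtain ⟨z, ⟨x, hx, rfl⟩, hz⟩ := Set.not_disjoint_iff.mp hd
    -- the translate of a member of `B` with the same commuting set as `a`
    have key : ∀ y ∈ D, (∀ u ∈ D, Commute u y ↔ Commute u a) →
        ∀ u ∈ D, Commute u (g * y * g⁻¹) ↔ Commute u a := by
      intro y hy hys u hu
      rw [← hz.2 u hu, ← Commute.conj_iff g⁻¹, ← Commute.conj_iff g⁻¹ (b := g * x * g⁻¹)]
      have e : ∀ w : G, g⁻¹ * (g * w * g⁻¹) * g⁻¹⁻¹ = w := fun w => by group
      rw [e, e, hys _ (ht.conj g⁻¹ u hu), hx.2 _ (ht.conj g⁻¹ u hu)]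
    apply Set.Subset.antisymm
    · rintro _ ⟨y, hy, rfl⟩
      exact ⟨ht.conj g y hy.1, key y hy.1 hy.2⟩
    · intro w hw
      refine ⟨g⁻¹ * w * g⁻¹⁻¹, ⟨ht.conj g⁻¹ w hw.1, fun u hu => ?_⟩, by group⟩
      have h1 := hw.2 (g * u * g⁻¹) (ht.conj g u hu)
      have h2 := hz.2 (g * u * g⁻¹) (ht.conj g u hu)
      rw [Commute.conj_iff g, hx.2 u hu] at h2
      rw [← h2, ← Commute.conj_iff g⁻¹] at h1
      have e : g⁻¹ * (g * u * g⁻¹) * g⁻¹⁻¹ = u := by group
      rwa [e] at h1
  rcases hprim.2.2 B (fun x hx => hx.1) hblock with hs | hall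
  · exact hs ⟨ha, fun _ _ => Iff.rfl⟩ ⟨hb, fun u hu => (h u hu).symm⟩
  · have hac : ∀ x ∈ D, Commute x a := fun x hx =>
      ((hall.ge hx).2 x hx).mp (Commute.refl x)
    have hcomm : ∀ x ∈ D, ∀ y ∈ D, Commute y x := fun x hx y hy =>
      ((hall.ge hx).2 y hy).mpr (hac y hy)
    obtain ⟨g, hg⟩ := hprim.1 a ha b hb
    have hcg : Commute g a := by
      have hle : Subgroup.closure D ≤ centralizer ({a} : Set G) := (closure_le _).mpr fun y hy =>
        mem_centralizer_singleton_iff.mpr (hcomm a ha y hy).eq
      exact mem_centralizer_singleton_iff.mp (hle (ht.gen.symm ▸ mem_top g))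
    rw [hcg.eq, mul_inv_cancel_right] at hg
    exact hg

/-- A product of two commuting members determines them. -/
theorem pair_unique (ht : TSys D) (hprim : Cfsg.IsPrimitiveUnderConj D) {l l' : List G}
    (hl : CList D l) (hlen : l.length = 2) (hl' : CList D l') (hlen' : l'.length = 2)
    (he : l.prod = l'.prod) : ∀ x, x ∈ l ↔ x ∈ l' := by
  obtain ⟨a, b, rfl⟩ : ∃ a b, l = [a, b] := List.length_eq_two.mp hlen
  obtain ⟨a', b', rfl⟩ : ∃ a b, l' = [a, b] := List.length_eq_two.mp hlen'
  have hab : a ≠ b := by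
    have := hl.nodup
    simpa using this
  have hab' : a' ≠ b' := by
    have := hl'.nodup
    simpa using this
  have hp : a * b = a' * b' := by simpa using he
  have hca : Commute a b := hl.comm a (by simp) b (by simp)
  have hca' : Commute a' b' := hl'.comm a' (by simp) b' (by simp)
  by_cases h1 : a = a'
  · subst h1; rw [mul_left_cancel hp]; simp
  by_cases h2 : a = b'
  · subst h2
    rw [hca'.eq] at hp
    rw [mul_left_cancel hp]
    intro x; simp [or_comm]
  by_cases h3 : b = b'
  · subst h3; exact absurd (mul_right_cancel hp) h1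
  by_cases h4 : b = a'
  · subst h4
    rw [hca.eq] at hp
    exact absurd (mul_left_cancel hp) h2
  exfalso
  -- the two pairs commute
  have hcr : ∀ u ∈ [a', b'], ∀ x ∈ [a, b], Commute u x := by
    intro u hu
    have hju : Commute u [a, b].prod := by
      rw [he]
      exact Commute.list_prod_right _ _ fun y hy => hl'.comm u hu y hy
    exact cnt_eq_zero.mp ((key ht (hl'.mem u hu) hl (by simp)).1.mp hju)
  have hR : Rel D [a, b, a', b'] := by
    refine ⟨⟨?_, ?_, ?_⟩, ?_⟩
    · intro x hx
      simp only [List.mem_cons, List.not_mem_nil, or_false] at hx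
      rcases hx with rfl | rfl | rfl | rfl
      · exact hl.mem _ (by simp)
      · exact hl.mem _ (by simp)
      · exact hl'.mem _ (by simp)
      · exact hl'.mem _ (by simp)
    · simp [hab, hab', h1, h2, h3, h4]
    · have hsplit : ∀ x ∈ [a, b, a', b'], x ∈ [a, b] ∨ x ∈ [a', b'] := fun x hx => by
        simp only [List.mem_cons, List.not_mem_nil, or_false] at hx ⊢
        tauto
      intro x hx y hy
      rcases hsplit x hx with h | h <;> rcases hsplit y hy with h' | h'
      · exact hl.comm x h y h'
      · exact (hcr y h' x h).symm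
      · exact hcr x h y h'
      · exact hl'.comm x h y h'
    · have h5 := hl.prod_sq ht
      have h6 : [a, b, a', b'].prod = (a * b) * (a' * b') := by simp [mul_assoc]
      rw [h6, ← hp]
      simpa using h5
  apply hab
  refine eq_of_same ht hprim (hl.mem a (by simp)) (hl.mem b (by simp)) fun u hu => ?_
  rcases hR.pattern ht hu (Or.inl rfl) with k | k
  · have := cnt_eq_zero.mp k
    exact iff_of_true (this a (by simp)) (this b (by simp))
  · have hall : ∀ x ∈ [a, b, a', b'], ¬ Commute u x := by
      intro x hx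
      simpa using (List.countP_eq_length.mp (k.trans (rfl : 4 = [a, b, a', b'].length))) x hx
    exact iff_of_false (hall a (by simp)) (hall b (by simp))

end Cfsg.Agent.ThreeTransPairs
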