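import Cfsg.Agent.Lib.ThreeTransM22Classes72
import Cfsg.Agent.Lib.ThreeTransM22Aut59
import Cfsg.Agent.Lib.ThreeTransM23Quot59
import Cfsg.Agent.S5463
import Cfsg.Agent.S5464
import Cfsg.Agent.Lib.TransferThompson

/-!
# The local groups in type M(23)

For a primitive class of type M(23) with central 2- and 3-cores in the local group: the local group at a
member `d` contains `d`, only `1` and `d` centralize it inside the centralizer of `d`, it is transitive
on the members near `d` and on their commuting pairs, and it is the whole centralizer of `d`.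
-/

set_option autoImplicit false
set_option linter.unusedSectionVars false
set_option linter.style.haveILetI false

namespace Cfsg.Agent.ThreeTransM23Local59

open Subgroup Cfsg.Agent.ThreeTransRel Cfsg.Agent.ThreeTransDescent
open Cfsg.Agent.ThreeTransM23Parity34

variable {G : Type*} [Group G] [Finite G] {D : Set G}

/-- Conjugation carries the members near `s` to those near its image. -/
theorem near_map (ht : TSys D) {g s t : G} (h : g * s * g⁻¹ = t) :
    (MulAut.conj g) '' near D s = near D t := by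
  subst h
  refine Set.ext fun y => ⟨?_, fun hy => ⟨g⁻¹ * y * g, ?_, by simp [mul_assoc]⟩⟩
  · rintro ⟨x, hx, rfl⟩
    exact ⟨ht.conj g x hx.1, fun e => hx.2.1 (mul_left_cancel (mul_right_cancel e)),
      (Commute.conj_iff g).mpr hx.2.2⟩
  · have := ht.conj g⁻¹ y hy.1
    rw [inv_inv] at this
    refine ⟨this, fun e => hy.2.1 (by rw [← e]; group), (Commute.conj_iff g).mp ?_⟩
    rw [show g * (g⁻¹ * y * g) * g⁻¹ = y by group]; exact hy.2.2

theorem loc_map (ht : TSys D) {g s t : G} (h : g * s * g⁻¹ = t) :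
    (loc D s).map (MulAut.conj g).toMonoidHom = loc D t := by
  show (Subgroup.closure (near D s)).map _ = Subgroup.closure (near D t)
  rw [MonoidHom.map_closure]
  exact congrArg _ (near_map ht h)

theorem conj_mem_loc (ht : TSys D) {g s t : G} (h : g * s * g⁻¹ = t) {x : G} (hx : x ∈ loc D s) :
    g * x * g⁻¹ ∈ loc D t := loc_map ht h ▸ mem_map_of_mem _ hx

/-- Conjugation between two local groups. -/
noncomputable def locEquiv (ht : TSys D) (g : G) {s t : G} (h : g * s * g⁻¹ = t) :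
    ↥(loc D s) ≃* ↥(loc D t) :=
  ((loc D s).equivMapOfInjective (MulAut.conj g).toMonoidHom (MulAut.conj g).injective).trans
    (MulEquiv.subgroupCongr (loc_map ht h))

theorem coe_locEquiv (ht : TSys D) (g : G) {s t : G} (h : g * s * g⁻¹ = t) (x : ↥(loc D s)) :
    (locEquiv ht g h x : G) = g * x * g⁻¹ := rfl

/-- What is used about a member `d`. -/
structure Ctx (D : Set G) (d : G) : Prop where
  grp : Cfsg.IsThreeTranspositionGroup D
  prim : Cfsg.IsPrimitiveUnderConj D
  centre : Subgroup.center G = ⊥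
  mem : d ∈ D
  m23 : Cfsg.IsOfTypeM23 G D
  qgrp : Cfsg.IsThreeTranspositionGroup (imgSet D d)
  qprim : Cfsg.IsPrimitiveUnderConj (imgSet D d)
  q22 : Cfsg.IsOfTypeM22 (↥(loc D d) ⧸ Subgroup.center ↥(loc D d)) (imgSet D d)

/-- A context exists. -/
theorem exists_ctx (hD : Cfsg.IsThreeTranspositionGroup D) (hprim : Cfsg.IsPrimitiveUnderConj D)
    {d₀ : G} (hd₀ : d₀ ∈ D)
    (h3 : Cfsg.pCore 3 ↥(loc D d₀) ≤ Subgroup.center ↥(loc D d₀))
    (h2 : Cfsg.pCore 2 ↥(loc D d₀) ≤ Subgroup.center ↥(loc D d₀))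
    (h23 : Cfsg.IsOfTypeM23 G D) : ∃ d, Ctx D d := by
  have ht := tsys_of_group hD
  obtain ⟨hZ, d, hd, -, -, -, h22, -⟩ := id h23
  obtain ⟨g, hg⟩ := hprim.1 d₀ hd₀ d hd
  have hcore : ∀ {p : ℕ}, Cfsg.pCore p ↥(loc D d₀) ≤ Subgroup.center ↥(loc D d₀) →
      Cfsg.pCore p ↥(loc D d) ≤ Subgroup.center ↥(loc D d) := by
    intro p hp x hx
    rw [← HallCore.map_equiv_pCore (p := p) (locEquiv ht g hg)] at hx
    obtain ⟨y, hy, rfl⟩ := mem_map.mp hx
    refine mem_center_iff.mpr fun z => ?_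
    obtain ⟨z, rfl⟩ := (locEquiv ht g hg).surjective z
    show locEquiv ht g hg z * locEquiv ht g hg y = locEquiv ht g hg y * locEquiv ht g hg z
    rw [← map_mul, ← map_mul, mem_center_iff.mp (hp hy) z]
  have htq := tsys_img ht d
  have h1 : ∀ y ∈ imgSet D d, y ≠ 1 := by
    rintro _ ⟨x, hx, rfl⟩ e
    exact no_trivial ht hprim hd _ hx ((mk_eq_one_iff x).mp e)
  obtain ⟨-, hcl, -⟩ := m22_even htq h1 h22
  haveI : Fact (Nat.Prime 2) := ⟨Nat.prime_two⟩
  haveI : Fact (Nat.Prime 3) := ⟨Nat.prime_three⟩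
  exact ⟨d, hD, hprim, hZ, hd, h23, ⟨hcl.1, htq.conj, htq.gen⟩,
    ThreeTransM23Quot59.primitive_of_m22 htq h1 h22
      (ThreeTransM23Quot59.pCore_quot_center (hcore h2))
      (ThreeTransM23Quot59.pCore_quot_center (hcore h3)), h22⟩

variable {d : G}

/-- The automorphism of the local quotient induced by an element commuting with `d`. -/
noncomputable def quotAut (ht : TSys D) {x : G} (hx : Commute x d) :
    MulAut (↥(loc D d) ⧸ Subgroup.center ↥(loc D d)) :=
  ThreeTransM23Quot59.centerQuot (locEquiv ht x (mul_inv_eq_iff_eq_mul.mpr hx.eq))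

theorem quotAut_im (ht : TSys D) {x : G} (hx : Commute x d) {y : G} (hy : y ∈ loc D d) :
    quotAut ht hx (im D d y) = im D d (x * y * x⁻¹) := by
  rw [im_eq hy, im_eq (conj_mem_loc ht (mul_inv_eq_iff_eq_mul.mpr hx.eq) hy)]
  rfl

variable (X : Ctx D d)
include X

theorem Ctx.ts : TSys D := tsys_of_group X.grp

theorem Ctx.qts : TSys (imgSet D d) := tsys_img X.ts d

theorem Ctx.im_mem {p : G} (hp : p ∈ near D d) : im D d p ∈ imgSet D d :=
  ⟨⟨p, near_le_loc hp⟩, hp, (im_eq (near_le_loc hp)).symm⟩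

theorem Ctx.surj_img {y : ↥(loc D d) ⧸ Subgroup.center ↥(loc D d)} (hy : y ∈ imgSet D d) :
    ∃ p ∈ near D d, im D d p = y := by
  obtain ⟨x, hx, rfl⟩ := hy
  exact ⟨x, hx, by rw [im_eq x.2]⟩

theorem Ctx.inj {p q : G} (hp : p ∈ near D d) (hq : q ∈ near D d) (h : im D d p = im D d q) :
    p = q := by
  rw [im_eq (near_le_loc hp), im_eq (near_le_loc hq)] at h
  exact congrArg Subtype.val (img_inj X.ts (no_trivial X.ts X.prim X.mem) (p := ⟨p, _⟩)
    (q := ⟨q, _⟩) hp hq h)

theorem Ctx.comm_iff {p q : G} (hp : p ∈ near D d) (hq : q ∈ near D d) :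
    Commute (im D d p) (im D d q) ↔ Commute p q := by
  rw [im_eq (near_le_loc hp), im_eq (near_le_loc hq)]
  exact ⟨fun h => img_refl X.ts (p := ⟨p, _⟩) (q := ⟨q, _⟩) hp hq h, fun h =>
    (show Commute (⟨p, near_le_loc hp⟩ : ↥(loc D d)) ⟨q, near_le_loc hq⟩ from Subtype.ext h).map
      (QuotientGroup.mk' (Subgroup.center ↥(loc D d)))⟩

theorem Ctx.im_conj {k y : G} (hk : k ∈ loc D d) (hy : y ∈ loc D d) :
    im D d (k * y * k⁻¹) = im D d k * im D d y * (im D d k)⁻¹ := by
  rw [im_eq hk, im_eq hy, im_eq (mul_mem (mul_mem hk hy) (inv_mem hk))]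
  rfl

theorem Ctx.im_mul {x y : G} (hx : x ∈ loc D d) (hy : y ∈ loc D d) :
    im D d (x * y) = im D d x * im D d y := by
  rw [im_eq hx, im_eq hy, im_eq (mul_mem hx hy)]
  rfl

theorem Ctx.surj_quot (y : ↥(loc D d) ⧸ Subgroup.center ↥(loc D d)) :
    ∃ k ∈ loc D d, im D d k = y := by
  obtain ⟨x, rfl⟩ := QuotientGroup.mk'_surjective _ y
  exact ⟨x, x.2, by rw [im_eq x.2]; rfl⟩

theorem Ctx.conj_near {x p : G} (hx : Commute x d) (hp : p ∈ near D d) :
    x * p * x⁻¹ ∈ near D d := near_conj X.ts hx hp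

/-- The local group is transitive on the members near `d`. -/
theorem Ctx.transitive {p q : G} (hp : p ∈ near D d) (hq : q ∈ near D d) :
    ∃ k ∈ loc D d, k * p * k⁻¹ = q := by
  obtain ⟨g, hg⟩ := X.qprim.1 _ (X.im_mem hp) _ (X.im_mem hq)
  obtain ⟨k, hk, rfl⟩ := X.surj_quot g
  refine ⟨k, hk, X.inj (X.conj_near (commute_d_of_mem_loc hk).symm hp) hq ?_⟩
  rw [X.im_conj hk (near_le_loc hp), hg]

/-- The local group is transitive on commuting pairs near `d`. -/
theorem Ctx.pair_transitive {b c b' c' : G} (hb : b ∈ near D d) (hc : c ∈ near D d)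
    (hbc : Commute b c) (hne : b ≠ c) (hb' : b' ∈ near D d) (hc' : c' ∈ near D d)
    (hbc' : Commute b' c') (hne' : b' ≠ c') :
    ∃ k ∈ loc D d, k * b * k⁻¹ = b' ∧ k * c * k⁻¹ = c' := by
  obtain ⟨k, hk, rfl⟩ := X.transitive hb hb'
  have hkc : k * c * k⁻¹ ∈ near D d := X.conj_near (commute_d_of_mem_loc hk).symm hc
  have hline := ThreeTransLine.lineAt_all X.qts X.qprim X.q22 _ (X.im_mem hb')
  have hnear : ∀ {r : G}, r ∈ near D d → Commute (k * b * k⁻¹) r → k * b * k⁻¹ ≠ r →
      im D d r ∈ near (imgSet D d) (im D d (k * b * k⁻¹)) := fun hr hcr hn =>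
    ⟨X.im_mem hr, fun e => hn (X.inj hr hb' e).symm, (X.comm_iff hb' hr).mpr hcr⟩
  obtain ⟨g, hg, hgc⟩ := hline.2 _
    (hnear hkc ((Commute.conj_iff k).mpr hbc) fun e => hne (mul_left_cancel (mul_right_cancel e))) _
    (hnear hc' hbc' hne')
  have hgb : g * im D d (k * b * k⁻¹) * g⁻¹ = im D d (k * b * k⁻¹) :=
    mul_inv_eq_iff_eq_mul.mpr (commute_d_of_mem_loc hg).symm.eq
  obtain ⟨j, hj, rfl⟩ := X.surj_quot g
  refine ⟨j * k, mul_mem hj hk, ?_, ?_⟩ <;>
    rw [show ∀ r : G, j * k * r * (j * k)⁻¹ = j * (k * r * k⁻¹) * j⁻¹ from fun r => by group]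
  · exact X.inj (X.conj_near (commute_d_of_mem_loc hj).symm hb') hb'
      (by rw [X.im_conj hj (near_le_loc hb'), hgb])
  · exact X.inj (X.conj_near (commute_d_of_mem_loc hj).symm hkc) hc'
      (by rw [X.im_conj hj (near_le_loc hkc), hgc])

/-- Only `1` and `d` centralize the members near `d` inside the centralizer of `d`. -/
theorem Ctx.only {z : G} (hz : Commute z d) (hzn : ∀ y ∈ near D d, Commute y z) : z = 1 ∨ z = d := by
  obtain ⟨-, hnearne⟩ := m23_odd X.ts X.prim X.m23
  obtain ⟨e, he⟩ := hnearne d X.mem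
  obtain ⟨g, hg⟩ := X.prim.1 e he.1 d X.mem
  -- now at `d`, seen from a member `a` near it
  suffices key : ∀ a ∈ near D d, ∀ w : G, Commute w d → Commute w a →
      (∀ y ∈ near D a, Commute y w) → w = 1 ∨ w = a by
    have hnm : ∀ y, y ∈ near D d → g * y * g⁻¹ ∈ near D (g * d * g⁻¹) := fun y hy =>
      (near_map X.ts (rfl : g * d * g⁻¹ = g * d * g⁻¹)) ▸ ⟨y, hy, rfl⟩
    rcases key (g * d * g⁻¹)
        ⟨X.ts.conj g d X.mem, fun h => he.2.1 (mul_left_cancel (mul_right_cancel (hg.trans h.symm))),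
          (by have := (Commute.conj_iff g).mpr he.2.2; rw [hg] at this; exact this.symm)⟩
        (g * z * g⁻¹) (hg ▸ (Commute.conj_iff g).mpr (hzn e he).symm)
        ((Commute.conj_iff g).mpr hz)
        (fun y hy => by
          rw [← near_map X.ts (rfl : g * d * g⁻¹ = g * d * g⁻¹)] at hy
          obtain ⟨x, hx, rfl⟩ := hy
          exact (Commute.conj_iff g).mpr (hzn x hx)) with h | h
    · exact Or.inl (conj_eq_one_iff.mp h)
    · exact Or.inr (mul_left_cancel (mul_right_cancel h))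
  intro a ha w hwd hwa hwn
  set σ := quotAut X.ts hwd with hσ
  have hσim : ∀ p ∈ near D d, σ (im D d p) = im D d (w * p * w⁻¹) := fun p hp =>
    quotAut_im X.ts hwd (near_le_loc hp)
  have hσD : ∀ y ∈ imgSet D d, σ y ∈ imgSet D d := fun y hy => by
    obtain ⟨p, hp, rfl⟩ := X.surj_img hy
    rw [hσim p hp]; exact X.im_mem (X.conj_near hwd hp)
  have hfix := ThreeTransM22Aut59.fix_member X.qgrp X.qprim X.q22 (X.im_mem ha) hσD
    (by rw [hσim a ha, mul_inv_eq_iff_eq_mul.mpr hwa.eq])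
    (fun y hy => by
      obtain ⟨p, hp, rfl⟩ := X.surj_img hy.1
      rw [hσim p hp, mul_inv_eq_iff_eq_mul.mpr (hwn p ⟨hp.1, fun h => hy.2.1 (by rw [h]),
        (X.comm_iff ha hp).mp hy.2.2⟩).symm.eq])
  obtain ⟨v, hv, hvn, hve⟩ : ∃ v : G, Commute v d ∧ (∀ p ∈ near D d, Commute p v) ∧
      (v = w ∨ v = a * w) := by
    rcases hfix with h | h
    · refine ⟨w, hwd, fun p hp => (mul_inv_eq_iff_eq_mul.mp ?_).symm, Or.inl rfl⟩
      refine X.inj (X.conj_near hwd hp) hp ?_
      rw [← hσim p hp, h]; rfl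
    · have haw : Commute (a * w) d := ha.2.2.symm.mul_left hwd
      refine ⟨a * w, haw, fun p hp => (mul_inv_eq_iff_eq_mul.mp ?_).symm, Or.inr rfl⟩
      refine X.inj (X.conj_near haw hp) hp ?_
      rw [show a * w * p * (a * w)⁻¹ = a * (w * p * w⁻¹) * a⁻¹ by group,
        X.im_conj (near_le_loc ha) (near_le_loc (X.conj_near hwd hp)), ← hσim p hp, h,
        show MulAut.conj (im D d a) (im D d p) = im D d a * im D d p * (im D d a)⁻¹ from rfl,
        ← X.im_conj (near_le_loc ha) (near_le_loc hp),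
        ← X.im_conj (near_le_loc ha) (near_le_loc (X.conj_near ha.2.2.symm hp))]
      congr 1
      rw [X.ts.inv_self ha.1, X.ts.conj_conj ha.1]
  have hvna : ∀ y ∈ near D a, Commute y v := fun y hy => by
    rcases hve with rfl | rfl
    · exact hwn y hy
    · exact hy.2.2.symm.mul_right (hwn y hy)
  obtain ⟨-, -, hmax⟩ := S5354.result X.grp X.prim
    ⟨d, X.mem, a, ha.1, ha.2.1.symm, ha.2.2⟩
  set K := Subgroup.closure {y : G | y ∈ D ∧ Commute d y} with hK
  have hKd : K ≤ Subgroup.centralizer ({d} : Set G) := (closure_le _).mpr fun y hy =>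
    mem_centralizer_singleton_iff.mpr hy.2.symm.eq
  obtain ⟨y, hy, hyd⟩ : ∃ y ∈ near D a, ¬ Commute d y := by
    by_contra hno
    push Not at hno
    have hA : ∀ p ∈ near D d, Commute p a := by
      obtain ⟨k, hk⟩ := X.prim.1 d X.mem a ha.1
      set A : G → Set G := fun x => {y | y ∈ D ∧ Commute x y}
      have hsub : A a ⊆ A d := fun u hu => by
        refine ⟨hu.1, ?_⟩
        by_cases e : u = a
        · exact e ▸ ha.2.2
        · exact hno u ⟨hu.1, e, hu.2⟩
      have hcard : (A d).ncard ≤ (A a).ncard := by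
        refine Set.ncard_le_ncard_of_injOn (fun y => k * y * k⁻¹) ?_
          (fun x _ y _ e => mul_left_cancel (mul_right_cancel e)) (Set.toFinite _)
        intro y hy
        refine ⟨X.ts.conj k y hy.1, ?_⟩
        have := (Commute.conj_iff k).mpr hy.2
        rwa [hk] at this
      have heq : A a = A d := Set.eq_of_subset_of_ncard_le hsub hcard (Set.toFinite _)
      exact fun p hp => ((Set.ext_iff.mp heq p).mpr ⟨hp.1, hp.2.2⟩).2.symm
    have : im D d a = 1 := by
      refine eq_one_of_central X.qts X.q22.1 fun y hy => ?_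
      obtain ⟨p, hp, rfl⟩ := X.surj_img hy
      exact (X.comm_iff hp ha).mpr (hA p hp)
    rw [im_eq (near_le_loc ha)] at this
    exact no_trivial X.ts X.prim X.mem a ha ((mk_eq_one_iff _).mp this)
  set H' := Subgroup.closure (insert y {y : G | y ∈ D ∧ Commute d y}) with hH'
  have hsub : Cfsg.IsDSubgroup D H' := by
    refine le_antisymm ((closure_le _).mpr fun u hu => hu.2) ((closure_le _).mpr fun u hu => ?_)
    refine subset_closure ⟨?_, subset_closure hu⟩
    rcases hu with rfl | hu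
    · exact hy.1
    · exact hu.1
  rcases (hmax d X.mem).2 H' hsub (closure_mono (Set.subset_insert _ _)) with e | e
  · refine absurd (mem_centralizer_singleton_iff.mp
      (hKd (e.le (subset_closure (Set.mem_insert _ _))))) fun h => hyd ?_
    exact Commute.symm h
  have hle : H' ≤ Subgroup.centralizer ({v} : Set G) := by
    refine (closure_le _).mpr fun u hu => mem_centralizer_singleton_iff.mpr ?_
    rcases hu with rfl | hu
    · exact (hvna u hy).eq
    by_cases hud : u = d
    · exact hud ▸ hv.symm.eq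
    · exact (hvn u ⟨hu.1, hud, hu.2⟩).eq
  have hv1 : v = 1 := by
    rw [← mem_bot, ← X.centre, mem_center_iff]
    exact fun g => mem_centralizer_singleton_iff.mp (hle (e ▸ mem_top g))
  rcases hve with rfl | rfl
  · exact Or.inl hv1
  · exact Or.inr (by rw [eq_inv_of_mul_eq_one_right hv1, X.ts.inv_self ha.1])

/-- The kernel of the local map. -/
theorem Ctx.ker {x : G} (hx : x ∈ loc D d) (h : im D d x = 1) : x = 1 ∨ x = d := by
  rw [im_eq hx] at h
  exact X.only (commute_d_of_mem_loc hx).symm ((mk_eq_one_iff _).mp h)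

/-- Lists in the quotient lift. -/
theorem Ctx.lift_list {L : List (↥(loc D d) ⧸ Subgroup.center ↥(loc D d))}
    (hL : CList (imgSet D d) L) :
    ∃ l : List G, CList D l ∧ (∀ p ∈ l, p ∈ near D d) ∧ l.map (im D d) = L := by
  classical
  choose φ hφ hφ' using fun y (hy : y ∈ imgSet D d) => X.surj_img hy
  set ψ : ↥(loc D d) ⧸ Subgroup.center ↥(loc D d) → G :=
    fun y => if hy : y ∈ imgSet D d then φ y hy else 1 with hψ
  have h1 : ∀ y ∈ L, ψ y ∈ near D d ∧ im D d (ψ y) = y := fun y hy => by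
    rw [hψ]; simp only [dif_pos (hL.mem y hy)]; exact ⟨hφ _ _, hφ' _ _⟩
  refine ⟨L.map ψ, ⟨fun p hp => ?_, ?_, fun p hp q hq => ?_⟩, fun p hp => ?_, ?_⟩
  · obtain ⟨y, hy, rfl⟩ := List.mem_map.mp hp; exact (h1 y hy).1.1
  · refine List.Nodup.map_on (fun y hy y' hy' e => ?_) hL.nodup
    rw [← (h1 y hy).2, ← (h1 y' hy').2, e]
  · obtain ⟨y, hy, rfl⟩ := List.mem_map.mp hp
    obtain ⟨y', hy', rfl⟩ := List.mem_map.mp hq
    rw [← X.comm_iff (h1 y hy).1 (h1 y' hy').1, (h1 y hy).2, (h1 y' hy').2]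
    exact hL.comm y hy y' hy'
  · obtain ⟨y, hy, rfl⟩ := List.mem_map.mp hp; exact (h1 y hy).1
  · rw [List.map_map]
    exact (List.map_congr_left (g := id) fun y hy => (h1 y hy).2).trans (List.map_id L)

/-- Images of lists near `d`. -/
theorem Ctx.img_list {l : List G} (hl : CList D l) (hn : ∀ p ∈ l, p ∈ near D d) :
    CList (imgSet D d) (l.map (im D d)) := by
  refine ⟨fun y hy => ?_, List.Nodup.map_on (fun p hp q hq e => X.inj (hn p hp) (hn q hq) e) hl.nodup,
    fun y hy y' hy' => ?_⟩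
  · obtain ⟨p, hp, rfl⟩ := List.mem_map.mp hy; exact X.im_mem (hn p hp)
  · obtain ⟨p, hp, rfl⟩ := List.mem_map.mp hy
    obtain ⟨q, hq, rfl⟩ := List.mem_map.mp hy'
    exact (X.comm_iff (hn p hp) (hn q hq)).mpr (hl.comm p hp q hq)

theorem Ctx.prod_im {l : List G} (hn : ∀ p ∈ l, p ∈ near D d) :
    (l.map (im D d)).prod = im D d l.prod := by
  rw [im_prod fun p hp => near_le_loc (hn p hp), im_eq]

/-- Two lists near `d` with equal images differ by `1` or `d`. -/
theorem Ctx.prod_cases {l l' : List G} (hl : CList D l) (hn : ∀ p ∈ l, p ∈ near D d)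
    {x : G} (hx : x ∈ loc D d) (h : im D d x = (l.map (im D d)).prod) :
    x = l.prod ∨ x = d * l.prod := by
  have hl' : l.prod ∈ loc D d := list_prod_mem fun p hp => near_le_loc (hn p hp)
  have h' : im D d (x * l.prod) = 1 := by
    rw [X.im_mul hx hl', h, X.prod_im hn, ← X.im_mul hl' hl', hl.prod_sq X.ts]
    exact im_eq (one_mem _)
  have e : x = x * l.prod * l.prod := by rw [mul_assoc, hl.prod_sq X.ts, mul_one]
  rcases X.ker (mul_mem hx hl') h' with e' | e' <;> rw [e'] at e
  · exact Or.inl (by rwa [one_mul] at e)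
  · exact Or.inr e

/-- The product of three members near `d` times `d` is another such product. -/
theorem Ctx.flip {l : List G} (hl : CList D l) (hn : ∀ p ∈ l, p ∈ near D d) (hlen : l.length = 3) :
    ∃ l' : List G, CList D l' ∧ (∀ p ∈ l', p ∈ near D d) ∧ l'.length = 3 ∧ l'.prod = d * l.prod := by
  have hline := ThreeTransLine.lineAt_all X.qts X.qprim X.q22
  obtain ⟨L, hL, hLlen, hLp, hLne, -⟩ := S5463.two_triples X.qts X.qprim X.q22.1 hline
    (X.img_list hl hn) (by rw [List.length_map, hlen])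
  obtain ⟨l', hl', hn', rfl⟩ := X.lift_list hL
  rw [List.length_map] at hLlen
  refine ⟨l', hl', hn', hLlen, ?_⟩
  have hp : l'.prod ∈ loc D d := list_prod_mem fun p hp => near_le_loc (hn' p hp)
  refine (X.prod_cases (l' := l) hl hn hp (by rw [← X.prod_im hn', hLp])).resolve_left fun e => ?_
  obtain ⟨hZ, d', hd', -, -, -, h22', -⟩ := X.m23
  have hsame := S5464.unique_three X.ts X.prim hd' (fun r h1 h2 =>
    (ThreeTransTypes.level1_of_m22 ThreeTransPairs.psu6Simple (tsys_img X.ts d') h22').no_five h1 h2)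
    hl hlen hl' hLlen e.symm
  refine hLne fun y => ?_
  simp only [List.mem_map]
  exact ⟨fun ⟨p, hp, e⟩ => ⟨p, (hsame p).mp hp, e⟩, fun ⟨p, hp, e⟩ => ⟨p, (hsame p).mpr hp, e⟩⟩

/-- Three commuting members near `d`. -/
theorem Ctx.exists_triple : ∃ l : List G, CList D l ∧ (∀ p ∈ l, p ∈ near D d) ∧ l.length = 3 := by
  obtain ⟨s, hs, a, ha, b, hb, hab, hne⟩ :=
    ThreeTransM22Cent72.exists_near_pair X.qts X.qprim X.q22
  have hC : CList (imgSet D d) [s, a, b] := by
    refine ⟨fun x hx => ?_, by simp [ha.2.1.symm, hb.2.1.symm, hne], fun x hx y hy => ?_⟩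
    · simp at hx; rcases hx with rfl | rfl | rfl
      exacts [hs, ha.1, hb.1]
    · have h1 := ha.2.2
      have h2 := hb.2.2
      simp at hx hy
      rcases hx with rfl | rfl | rfl <;> rcases hy with rfl | rfl | rfl <;>
        first | exact Commute.refl _ | exact h1 | exact h1.symm | exact h2 | exact h2.symm |
          exact hab | exact hab.symm
  obtain ⟨l, hl, hn, he⟩ := X.lift_list hC
  exact ⟨l, hl, hn, by simpa using congrArg List.length he⟩

/-- The member lies in its local group. -/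
theorem Ctx.self : d ∈ loc D d := by
  obtain ⟨l, hl, hn, hlen⟩ := X.exists_triple
  obtain ⟨l', -, hn', -, hp⟩ := X.flip hl hn hlen
  have he : d = l'.prod * l.prod⁻¹ := eq_mul_inv_of_mul_eq hp.symm
  have : l'.prod * l.prod⁻¹ ∈ loc D d := mul_mem (list_prod_mem fun p hp => near_le_loc (hn' p hp))
    (inv_mem (list_prod_mem fun p hp => near_le_loc (hn p hp)))
  rwa [← he] at this

/-- An involution of the local group is a product of at most three commuting members commuting
with `d`. -/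
theorem Ctx.local_product {x : G} (hx : x ∈ loc D d) (hx2 : x * x = 1) (hx1 : x ≠ 1) :
    ∃ l : List G, CList D l ∧ 1 ≤ l.length ∧ l.length ≤ 3 ∧ l.prod = x := by
  have hd1 : CList D [d] := ⟨by simp [X.mem], by simp, by simp⟩
  by_cases h0 : im D d x = 1
  · exact ⟨[d], hd1, le_rfl, by simp, by simpa using ((X.ker hx h0).resolve_left hx1).symm⟩
  have ho : orderOf (im D d x) = 2 := orderOf_eq_prime
    (by rw [pow_two, ← X.im_mul hx hx, hx2]; exact im_eq (one_mem _)) h0
  obtain ⟨L, hL, h1, h3, hp⟩ := ThreeTransM22Classes72.exists_product X.qgrp X.qprim X.q22 ho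
  obtain ⟨l, hl, hn, rfl⟩ := X.lift_list hL
  rw [List.length_map] at h1 h3
  rcases X.prod_cases (l' := l) hl hn hx hp.symm with e | e
  · exact ⟨l, hl, h1, h3, e.symm⟩
  rcases Nat.lt_or_ge l.length 3 with hlt | hge
  · refine ⟨d :: l, ⟨fun p hp => ?_, List.nodup_cons.mpr ⟨fun h => (hn d h).2.1 rfl, hl.nodup⟩,
      fun p hp q hq => ?_⟩, by simp, by simp only [List.length_cons]; omega, by simp [e]⟩
    · rcases List.mem_cons.mp hp with rfl | hp
      exacts [X.mem, hl.mem p hp]
    · rcases List.mem_cons.mp hp with e₁ | hp' <;> rcases List.mem_cons.mp hq with e₂ | hq'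
      · rw [e₁, e₂]
      · rw [e₁]; exact (hn q hq').2.2
      · rw [e₂]; exact (hn p hp').2.2.symm
      · exact hl.comm p hp' q hq'
  · obtain ⟨l', hl', -, hlen', hp'⟩ := X.flip hl hn (by omega)
    exact ⟨l', hl', by omega, by omega, hp'.trans e.symm⟩

/-- Two elements of the centralizer outside the local group multiply into it. -/
theorem Ctx.index_two {x₁ x₂ : G} (hx₁ : Commute x₁ d) (hx₂ : Commute x₂ d) (h₁ : x₁ ∉ loc D d)
    (h₂ : x₂ ∉ loc D d) : x₁ * x₂ ∈ loc D d := by
  obtain ⟨-, hnearne⟩ := m23_odd X.ts X.prim X.m23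
  obtain ⟨e, he⟩ := hnearne d X.mem
  have hadj : ∀ x : G, Commute x d → ∃ k ∈ loc D d, Commute (k * x) d ∧ Commute (k * x) e := by
    intro x hx
    obtain ⟨k, hk, hke⟩ := X.transitive (X.conj_near hx he) he
    refine ⟨k, hk, (commute_d_of_mem_loc hk).symm.mul_left hx, mul_inv_eq_iff_eq_mul.mp ?_⟩
    rw [show k * x * e * (k * x)⁻¹ = k * (x * e * x⁻¹) * k⁻¹ by group, hke]
  obtain ⟨k₁, hk₁, hyd₁, hye₁⟩ := hadj x₁ hx₁
  obtain ⟨k₂, hk₂, hyd₂, hye₂⟩ := hadj x₂ hx₂
  have hpres : ∀ {y : G} (hy : Commute y d), ∀ u ∈ imgSet D d, quotAut X.ts hy u ∈ imgSet D d := by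
    intro y hy u hu
    obtain ⟨p, hp, rfl⟩ := X.surj_img hu
    rw [quotAut_im X.ts hy (near_le_loc hp)]; exact X.im_mem (X.conj_near hy hp)
  have hfe : ∀ {y : G} (hy : Commute y d), Commute y e →
      quotAut X.ts hy (im D d e) = im D d e := fun {y} hy hye => by
    rw [quotAut_im X.ts hy (near_le_loc he), mul_inv_eq_iff_eq_mul.mpr hye.eq]
  have hinner : ∀ {y : G} (_ : Commute y d) (k : ↥(loc D d) ⧸ Subgroup.center ↥(loc D d)),
      (∀ p ∈ near D d, im D d (y * p * y⁻¹) = k * im D d p * k⁻¹) → y ∈ loc D d := by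
    intro y hy k hall
    obtain ⟨j, hj, rfl⟩ := X.surj_quot k
    have hjy : Commute (j⁻¹ * y) d := (commute_d_of_mem_loc hj).symm.inv_left.mul_left hy
    have hmem : j⁻¹ * y ∈ loc D d := by
      have hfix : ∀ p ∈ near D d, j⁻¹ * y * p * (j⁻¹ * y)⁻¹ = p := fun p hp => by
        refine X.inj (X.conj_near hjy hp) hp ?_
        rw [show j⁻¹ * y * p * (j⁻¹ * y)⁻¹ = j⁻¹ * (y * p * y⁻¹) * j⁻¹⁻¹ by group,
          X.im_conj (inv_mem hj) (near_le_loc (X.conj_near hy hp)), hall p hp,
          ← X.im_conj hj (near_le_loc hp),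
          ← X.im_conj (inv_mem hj) (near_le_loc (X.conj_near (commute_d_of_mem_loc hj).symm hp))]
        congr 1; group
      rcases X.only hjy (fun p hp => (mul_inv_eq_iff_eq_mul.mp (hfix p hp)).symm) with h | h
      · rw [h]; exact one_mem _
      · rw [h]; exact X.self
    simpa using mul_mem hj hmem
  have hout : ∀ {k x : G}, k ∈ loc D d → x ∉ loc D d → k * x ∉ loc D d :=
    fun hk hx h => hx ((mul_mem_cancel_left hk).mp h)
  rcases ThreeTransM22Aut59.outer_index X.qgrp X.qprim X.q22 (X.im_mem he) (hpres hyd₁)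
    (hfe hyd₁ hye₁) (hpres hyd₂) (hfe hyd₂ hye₂) with ⟨k, hk⟩ | ⟨k, hk⟩ | ⟨k, hk⟩
  · exact absurd (hinner hyd₁ k fun p hp => by
      rw [← quotAut_im X.ts hyd₁ (near_le_loc hp), hk]; rfl) (hout hk₁ h₁)
  · exact absurd (hinner hyd₂ k fun p hp => by
      rw [← quotAut_im X.ts hyd₂ (near_le_loc hp), hk]; rfl) (hout hk₂ h₂)
  have hy : k₁ * x₁ * (k₂ * x₂) ∈ loc D d := hinner (hyd₁.mul_left hyd₂) k fun p hp => by
    rw [show k₁ * x₁ * (k₂ * x₂) * p * (k₁ * x₁ * (k₂ * x₂))⁻¹ =
        k₁ * x₁ * ((k₂ * x₂) * p * (k₂ * x₂)⁻¹) * (k₁ * x₁)⁻¹ by group,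
      ← quotAut_im X.ts hyd₁ (near_le_loc (X.conj_near hyd₂ hp)),
      ← quotAut_im X.ts hyd₂ (near_le_loc hp), ← MulAut.mul_apply, hk]
    rfl
  have hk₂' : x₁ * k₂ * x₁⁻¹ ∈ loc D d :=
    conj_mem_loc X.ts (mul_inv_eq_iff_eq_mul.mpr hx₁.eq) hk₂
  have := mul_mem (inv_mem (mul_mem hk₁ hk₂')) hy
  rwa [show (k₁ * (x₁ * k₂ * x₁⁻¹))⁻¹ * (k₁ * x₁ * (k₂ * x₂)) = x₁ * x₂ by group] at this

open Classical in
/-- An involution commuting with `d` lies in the local group. -/
theorem Ctx.involution_mem {x : G} (hxd : Commute x d) (hx2 : x * x = 1) : x ∈ loc D d := by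
  have hcd : ∀ x : ↥(Subgroup.centralizer ({d} : Set G)), Commute (x : G) d := fun x =>
    mem_centralizer_singleton_iff.mp x.2
  let χ : ↥(Subgroup.centralizer ({d} : Set G)) →* ℤˣ :=
    { toFun := fun x => if (x : G) ∈ loc D d then 1 else -1
      map_one' := if_pos (one_mem _)
      map_mul' := fun x y => by
        by_cases hx : (x : G) ∈ loc D d <;> by_cases hy : (y : G) ∈ loc D d <;>
          simp only [Subgroup.coe_mul, if_pos, if_neg, hx, hy, not_false_eq_true]
        · rw [if_pos (mul_mem hx hy), mul_one]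
        · rw [if_neg fun h => hy ((mul_mem_cancel_left hx).mp h), one_mul]
        · rw [if_neg fun h => hx ((mul_mem_cancel_right hy).mp h), mul_one]
        · rw [if_pos (X.index_two (hcd x) (hcd y) hx hy)]; rfl }
  have hodd := (m23_odd X.ts X.prim X.m23).1
  have hidx : (Subgroup.centralizer ({d} : Set G)).index = D.ncard := by
    have he : (Subgroup.centralizer ({d} : Set G)).index =
        (MulAction.stabilizer (ConjAct G) d).index := by
      rw [Subgroup.centralizer_eq_comap_stabilizer]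
      exact Subgroup.index_comap_of_surjective _ ConjAct.toConjAct.surjective
    rw [he, MulAction.index_stabilizer]
    congr 1
    ext y
    refine ⟨?_, fun hy => ?_⟩
    · rintro ⟨g, rfl⟩
      simpa [ConjAct.smul_def] using X.ts.conj (ConjAct.ofConjAct g) d X.mem
    · obtain ⟨g, hg⟩ := X.prim.1 d X.mem y hy
      exact ⟨ConjAct.toConjAct g, by simpa [ConjAct.smul_def] using hg⟩
  haveI : Fact (Nat.Prime 2) := ⟨Nat.prime_two⟩
  -- a member has trivial transfer
  have hV : MonoidHom.transfer χ = 1 := by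
    refine MonoidHom.eq_of_eqOn_top fun x _ => ?_
    refine MonoidHom.eqOn_closure (f := MonoidHom.transfer χ) (g := 1) (fun y hy => ?_)
      (X.ts.gen.symm ▸ mem_top x)
    have ho : orderOf y = 2 ^ 1 := X.grp.1.1 y hy
    obtain ⟨n, -, hn⟩ := TransferThompson.transfer_eq_pow_fixed χ ho 1
      (fun t k hk h => by
        obtain ⟨r, rfl⟩ := hk
        rw [show (⟨_, h⟩ : ↥(Subgroup.centralizer ({d} : Set G))) = 1 from Subtype.ext (by
          simp [pow_mul, pow_two, X.ts.sq y hy]), map_one])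
      (fun t h => if_pos (by
        have hm : t⁻¹ * y * t ∈ D := by simpa using X.ts.conj t⁻¹ y hy
        by_cases e : t⁻¹ * y * t = d
        · show t⁻¹ * y * t ∈ loc D d
          rw [e]; exact X.self
        · exact near_le_loc ⟨hm, e, (hcd ⟨_, h⟩).symm⟩))
    rw [hn, one_pow]; rfl
  by_contra hxn
  have hx1 : x ≠ 1 := fun h => hxn (h ▸ one_mem _)
  have ho : orderOf x = 2 ^ 1 := (orderOf_eq_prime (by rw [pow_two, hx2]) hx1).trans (pow_one 2).symm
  obtain ⟨n, hn, hVn⟩ := TransferThompson.transfer_eq_pow_fixed χ ho (-1)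
    (fun t k hk h => by
      obtain ⟨r, rfl⟩ := hk
      rw [show (⟨_, h⟩ : ↥(Subgroup.centralizer ({d} : Set G))) = 1 from Subtype.ext (by
        simp [pow_mul, pow_two, hx2]), map_one])
    (fun t h => if_neg fun hmem => hxn (by
      change t⁻¹ * x * t ∈ loc D d at hmem
      obtain ⟨l, hl, -, hlen, hp⟩ := X.local_product hmem
        (by rw [show t⁻¹ * x * t * (t⁻¹ * x * t) = t⁻¹ * (x * x) * t by group, hx2]; group)
        fun h1 => hx1 (by
          have := congrArg (fun z => t * z * t⁻¹) h1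
          simpa [mul_assoc] using this)
      have hl' : CList D (l.map (MulAut.conj t)) := by
        refine ⟨fun p hp => ?_, hl.nodup.map (MulAut.conj t).injective, fun p hp q hq => ?_⟩
        · obtain ⟨r, hr, rfl⟩ := List.mem_map.mp hp; exact X.ts.conj t r (hl.mem r hr)
        · obtain ⟨r, hr, rfl⟩ := List.mem_map.mp hp
          obtain ⟨r', hr', rfl⟩ := List.mem_map.mp hq
          exact (Commute.conj_iff t).mpr (hl.comm r hr r' hr')
      have hp' : (l.map (MulAut.conj t)).prod = x := by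
        rw [← map_list_prod, hp, MulAut.conj_apply]; group
      rw [← hp']
      refine list_prod_mem fun z hz => ?_
      by_cases e : z = d
      · exact e ▸ X.self
      · exact near_le_loc ⟨hl'.mem z hz, e,
          (ThreeTransM22Count72.commute_prod_iff X.ts X.mem hl' (by rw [List.length_map]; exact hlen)).mp
            (hp'.symm ▸ hxd.symm) z hz⟩))
  rw [hV, hidx] at *
  have hn2 : n % 2 = 1 := by
    rw [Nat.ModEq] at hn; omega
  rw [← Nat.div_add_mod n 2, hn2, pow_add, pow_mul, neg_one_sq, one_pow, one_mul, pow_one,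
    MonoidHom.one_apply] at hVn
  exact absurd hVn (by decide)

end Cfsg.Agent.ThreeTransM23Local59
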