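import Mathlib
import Cfsg.Agent.Lib.ThreeTranspRank3
import Cfsg.Agent.Lib.BaerSuzuki
import Cfsg.Agent.Lib.PGroupsBasic

/-!
Twins among the transpositions commuting with a transposition `a`: `u`, `v` in `Dx a` are twins
when the same members of `Dx a` commute with both.  The products of twins generate a `3`-group
normal in the centraliser of `a`.  In a 3-transposition group with a rank three action, if twins
exist then for non-commuting `u`, `t` exactly one `e` makes them twins and the common neighbours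
of `u`, `t` are `e` together with those of `u`, `e`.
-/

set_option autoImplicit false

namespace Cfsg.Agent.FischerTwins54

open Subgroup
open scoped commutatorElement
open Cfsg.Agent.ThreeTransp

variable {G : Type*} [Group G] {D : Set G}

/-- The members of `D` commuting with both `a` and `u`. -/
def Loc (D : Set G) (a u : G) : Set G := Dx D a ∩ Dx D u

/-- Twins at `a`. -/
def Tw (D : Set G) (a u v : G) : Prop :=
  u ∈ Dx D a ∧ v ∈ Dx D a ∧ Loc D a u = Loc D a v

/-- The class of twins of `u` at `a`. -/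
def tcls (D : Set G) (a u : G) : Set G := {v | Tw D a u v}

theorem loc_comm (D : Set G) (a u : G) : Loc D a u = Loc D u a := Set.inter_comm _ _

theorem Tw.symm {a u v : G} (t : Tw D a u v) : Tw D a v u := ⟨t.2.1, t.1, t.2.2.symm⟩

theorem Tw.trans {a u v w : G} (t : Tw D a u v) (s : Tw D a v w) : Tw D a u w :=
  ⟨t.1, s.2.1, t.2.2.trans s.2.2⟩

theorem tw_refl {a u : G} (hu : u ∈ Dx D a) : Tw D a u u := ⟨hu, hu, rfl⟩

theorem dx_symm {a u : G} (ha : a ∈ D) (hu : u ∈ Dx D a) : a ∈ Dx D u :=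
  ⟨ha, hu.2.1.symm, hu.2.2.symm⟩

theorem Tw.not_commute {a u v : G} (t : Tw D a u v) (hne : u ≠ v) : ¬ Commute u v := by
  intro hc
  have h1 : v ∈ Loc D a u := ⟨t.2.1, t.2.1.1, hne.symm, hc⟩
  rw [t.2.2] at h1
  exact h1.2.2.1 rfl

/-- A member of `Dx a` commuting with a member of a class of twins commutes with all of it. -/
theorem Tw.module {a u v d : G} (t : Tw D a u v) (hd : d ∈ Dx D a) (hne : d ≠ u)
    (hc : Commute d u) : Commute d v ∧ d ≠ v := by
  have h1 : d ∈ Loc D a u := ⟨hd, hd.1, hne, hc.symm⟩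
  rw [t.2.2] at h1
  exact ⟨h1.2.2.2.symm, h1.2.2.1⟩

theorem loc_conj (h : TC D) (g a u : G) :
    Loc D (g * a * g⁻¹) (g * u * g⁻¹) = (fun x => g * x * g⁻¹) '' Loc D a u := by
  rw [Loc, Loc, h.dx_conj, h.dx_conj, Set.image_inter fun _ _ e => conj_inj e]

theorem mem_dx_conj (h : TC D) (g : G) {a y : G} (hy : y ∈ Dx D a) :
    g * y * g⁻¹ ∈ Dx D (g * a * g⁻¹) := by
  rw [h.dx_conj]; exact ⟨y, hy, rfl⟩

theorem Tw.conj (h : TC D) (g : G) {a u v : G} (t : Tw D a u v) :
    Tw D (g * a * g⁻¹) (g * u * g⁻¹) (g * v * g⁻¹) :=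
  ⟨mem_dx_conj h g t.1, mem_dx_conj h g t.2.1, by rw [loc_conj h, loc_conj h, t.2.2]⟩

theorem conj_of_commute {g a : G} (hc : Commute g a) : g * a * g⁻¹ = a := by
  rw [hc.eq, mul_inv_cancel_right]

theorem commute_of_conj {g a : G} (e : g * a * g⁻¹ = a) : Commute g a :=
  mul_inv_eq_iff_eq_mul.mp e

theorem Tw.refl_conj (h : TC D) {a s u v : G} (hs : s ∈ Dx D a) (t : Tw D a u v) :
    Tw D a (s * u * s) (s * v * s) := by
  have := t.conj h s
  rwa [conj_of_commute hs.2.2.symm, h.inv_eq hs.1] at this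

theorem refl_dx (h : TC D) {a s u : G} (hs : s ∈ Dx D a) (hu : u ∈ Dx D a) :
    s * u * s ∈ Dx D a := by
  have := (tw_refl hu).refl_conj h hs
  exact this.1

/-- Twins of non-commuting transpositions do not commute. -/
theorem cross_not_commute {a w w' z z' : G} (hn : ¬ Commute w w') (t : Tw D a w z)
    (t' : Tw D a w' z') (hne : z ≠ z') : ¬ Commute z z' := by
  intro hc
  have h1 : z' ∈ Loc D a z := ⟨t'.2.1, t'.2.1.1, hne.symm, hc⟩
  rw [← t.2.2] at h1
  have h2 : w ∈ Loc D a z' := ⟨t.1, t.1.1, h1.2.2.1.symm, h1.2.2.2.symm⟩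
  rw [← t'.2.2] at h2
  exact hn h2.2.2.2.symm

/-- Reflection respects the twins of two non-commuting transpositions. -/
theorem cross_third (h : TC D) {a w w' z z' : G} (hn : ¬ Commute w w') (t : Tw D a w z)
    (t' : Tw D a w' z') : Tw D a (w * w' * w) (z * z' * z) := by
  refine Tw.trans ?_ (t'.refl_conj h t.2.1)
  by_cases e : w' = z
  · subst e
    have h1 := t.refl_conj h t.1
    rw [h.sq w t.1.1, one_mul] at h1
    rw [h.sq w' t'.1.1, one_mul]
    exact h1.symm.trans t
  · have hn' : ¬ Commute w' z := fun hc =>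
      hn (t.symm.module t'.1 e hc).1.symm
    rw [h.braid t.1.1 t'.1.1 hn, ← h.braid t'.1.1 t.2.1.1 hn']
    exact t.refl_conj h t'.1

/-- Something commuting with a product of non-commuting transpositions commutes with both. -/
theorem commute_both (h : TC D) {d w w' : G} (hd : d ∈ D) (hw : w ∈ D) (hw' : w' ∈ D)
    (hn : ¬ Commute w w') (hc : Commute d (w * w')) : Commute d w ∧ Commute d w' := by
  by_cases hdw : Commute d w
  · refine ⟨hdw, ?_⟩
    have := hdw.mul_right hc
    rwa [← mul_assoc, h.sq w hw, one_mul] at this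
  exfalso
  have h3 := (h.or3 d hd w hw).resolve_left hdw
  have hq3 := (h.or3 w hw w' hw').resolve_left hn
  set q := w * w' with hq
  set s := d * w with hs
  have hqi : q⁻¹ = w' * w := by rw [hq, mul_inv_rev, h.inv_eq hw, h.inv_eq hw']
  have hsq : s * q * s⁻¹ = q⁻¹ := by
    calc s * q * s⁻¹ = d * (w * (w * w') * w⁻¹) * d⁻¹ := by rw [hs, hq]; group
      _ = d * q⁻¹ * d⁻¹ := by rw [hqi, h.inv_eq hw, ← mul_assoc w w w', h.sq w hw, one_mul]
      _ = q⁻¹ := conj_of_commute hc.inv_right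
  have hsq' : s * q⁻¹ * s⁻¹ = q := by
    have := congrArg (·⁻¹) hsq
    simpa [mul_assoc] using this
  have h4 : s ^ 3 * q * (s ^ 3)⁻¹ = q⁻¹ := by
    calc s ^ 3 * q * (s ^ 3)⁻¹ = s * (s * (s * q * s⁻¹) * s⁻¹) * s⁻¹ := by
          rw [pow_succ, pow_two, hs]; group
      _ = q⁻¹ := by rw [hsq, hsq', hsq]
  rw [h3, one_mul, inv_one, mul_one] at h4
  have h5 : q = 1 := by
    have h6 : q * q = 1 := by nth_rewrite 1 [h4]; exact inv_mul_cancel q
    rw [pow_succ, pow_two, h6, one_mul] at hq3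
    exact hq3
  apply hn
  have : w' = w := by rw [← h.inv_eq hw]; exact (inv_eq_of_mul_eq_one_right h5).symm
  rw [this]

/-! ### The group generated by products of twins -/

/-- The subgroup generated by the products of twins at `a`. -/
def twin (D : Set G) (a : G) : Subgroup G :=
  Subgroup.closure {y | ∃ u v, Tw D a u v ∧ y = u * v}

theorem prod_mem {a u v : G} (t : Tw D a u v) : u * v ∈ twin D a :=
  Subgroup.subset_closure ⟨u, v, t, rfl⟩

theorem twin_conj (h : TC D) {a g y : G} (hg : g * a * g⁻¹ = a) (hy : y ∈ twin D a) :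
    g * y * g⁻¹ ∈ twin D a := by
  have hle : twin D a ≤ (twin D a).comap (MulAut.conj g).toMonoidHom := by
    rw [twin, Subgroup.closure_le]
    rintro _ ⟨u, v, t, rfl⟩
    have := t.conj h g
    rw [hg] at this
    exact Subgroup.subset_closure ⟨_, _, this, by simp [MulAut.conj_apply, mul_assoc]⟩
  exact hle hy

theorem twin_le_centralizer (D : Set G) (a : G) : twin D a ≤ centralizer ({a} : Set G) := by
  rw [twin, Subgroup.closure_le]
  rintro _ ⟨u, v, t, rfl⟩
  exact mem_centralizer_singleton_iff.mpr (t.1.2.2.symm.mul_left t.2.1.2.2.symm).eq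

theorem twin_fix {a y : G} (hy : y ∈ twin D a) : y * a * y⁻¹ = a :=
  conj_of_commute (mem_centralizer_singleton_iff.mp (twin_le_centralizer D a hy))

/-- The products of twins fix every class of twins. -/
theorem twin_fixes (h : TC D) {a y : G} (hy : y ∈ twin D a) :
    ∀ d ∈ Dx D a, Tw D a d (y * d * y⁻¹) := by
  have step : ∀ {u v d : G}, Tw D a u v → d ∈ Dx D a → Tw D a d (u * v * d * (u * v)⁻¹) := by
    intro u v d t hd
    have hs : Tw D a (u * d * u) (v * d * v) := by
      by_cases hc : Commute d u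
      · by_cases e : d = u
        · subst e
          have h1 := t.refl_conj h t.2.1
          rw [h.sq v t.2.1.1, one_mul] at h1
          rw [h.sq d hd.1, one_mul]
          exact t.trans h1.symm
        · obtain ⟨hcv, -⟩ := t.module hd e hc
          rw [h.fix t.1.1 hc.symm, h.fix t.2.1.1 hcv.symm]
          exact tw_refl hd
      · exact cross_third h (fun e => hc e.symm) t (tw_refl hd)
    have := hs.refl_conj h t.1
    rw [h.refl_refl t.1.1] at this
    convert this using 1
    rw [mul_inv_rev, h.inv_eq t.1.1, h.inv_eq t.2.1.1]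
    group
  unfold twin at hy
  induction hy using Subgroup.closure_induction'' with
  | mem x hx => obtain ⟨u, v, t, rfl⟩ := hx; exact fun d hd => step t hd
  | inv_mem x hx =>
    obtain ⟨u, v, t, rfl⟩ := hx
    rw [show (u * v)⁻¹ = v * u by rw [mul_inv_rev, h.inv_eq t.1.1, h.inv_eq t.2.1.1]]
    exact fun d hd => step t.symm hd
  | one => intro d hd; simpa using tw_refl hd
  | mul p q _ _ hp hq =>
    intro d hd
    have h1 := hq d hd
    refine h1.trans ?_
    convert hp _ h1.2.1 using 1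
    group

variable [Finite G]

/-- Two pairs of twins give a 3-group. -/
theorem pair_three (h : TC D) {a u v u' v' : G} (t : Tw D a u v) (t' : Tw D a u' v') :
    IsPGroup 3 ↥(zpowers (u * v) ⊔ zpowers (u' * v')) := by
  haveI : Fact (Nat.Prime 3) := ⟨Nat.prime_three⟩
  have hz : ∀ {u v : G}, Tw D a u v → IsPGroup 3 ↥(zpowers (u * v)) := by
    intro u v t
    have hp : (u * v) ^ 3 = 1 := by
      by_cases e : u = v
      · subst e; rw [h.sq u t.1.1, one_pow]
      · exact (h.or3 u t.1.1 v t.2.1.1).resolve_left (t.not_commute e)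
    obtain ⟨k, -, hk⟩ := (Nat.dvd_prime_pow Nat.prime_three).mp
      (show orderOf (u * v) ∣ 3 ^ 1 by rw [pow_one]; exact orderOf_dvd_of_pow_eq_one hp)
    exact IsPGroup.of_card (n := k) ((Nat.card_zpowers _).trans hk)
  by_cases hadj : u ≠ u' ∧ Commute u u'
  · obtain ⟨hne, hc⟩ := hadj
    obtain ⟨c2, n2⟩ := t.symm.symm.module t'.1 hne.symm hc.symm
    obtain ⟨c3, n3⟩ := t'.module t.1 hne hc
    obtain ⟨c4, -⟩ := t'.module t.2.1 n2.symm c2.symm
    have hcq : Commute (u * v) (u' * v') :=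
      (hc.mul_right c3).mul_left (c2.symm.mul_right c4)
    refine (hz t).to_sup_of_normal_right' (hz t') ?_
    rw [zpowers_le]
    refine Subgroup.centralizer_le_normalizer _ (mem_centralizer_iff.mpr ?_)
    intro z hz'
    obtain ⟨i, rfl⟩ := mem_zpowers_iff.mp hz'
    exact ((hcq.zpow_right i).symm).eq
  have hb : u = u' ∨ ¬ Commute u u' := by tauto
  set T : Set G := {u, u', u * u' * u} with hT
  have hTdx : ∀ w ∈ T, w ∈ Dx D a := by
    rintro w (rfl | rfl | rfl)
    · exact t.1
    · exact t'.1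
    · exact refl_dx h t.1 t'.1
  have hu3 : u = u' → u * u' * u = u := by
    rintro rfl
    rw [h.sq u t.1.1, one_mul]
  have hTn : ∀ w ∈ T, ∀ w' ∈ T, w = w' ∨ (¬ Commute w w' ∧ w * w' * w ∈ T) := by
    rcases hb with e | hn
    · intro w hw w' hw'
      left
      have hall : ∀ z ∈ T, z = u := by
        rintro z (rfl | rfl | rfl)
        · rfl
        · exact e.symm
        · exact hu3 e
      rw [hall w hw, hall w' hw']
    have hb1 : u * u' * u = u' * u * u' := h.braid t.1.1 t'.1.1 hn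
    have n1 : ¬ Commute u (u * u' * u) := h.not_commute_third t.1.1 hn
    have n2 : ¬ Commute u' (u * u' * u) := by
      rw [hb1]; exact h.not_commute_third t'.1.1 fun e => hn e.symm
    have huu := h.sq u t.1.1
    have huu' := h.sq u' t'.1.1
    have e1 : u * (u * u' * u) * u = u' := h.refl_refl t.1.1 u'
    have e2 : u' * (u * u' * u) * u' = u := by rw [hb1]; exact h.refl_refl t'.1.1 u
    have e3 : (u * u' * u) * u * (u * u' * u) = u' := by
      calc (u * u' * u) * u * (u * u' * u) = u * u' * (u * u) * (u * u' * u) := by group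
        _ = u * u' * (u' * u * u') := by rw [huu, mul_one, hb1]
        _ = u * (u' * u') * u * u' := by group
        _ = u' := by rw [huu', mul_one, huu, one_mul]
    rintro w (rfl | rfl | rfl) w' (rfl | rfl | rfl)
    · exact Or.inl rfl
    · exact Or.inr ⟨hn, Or.inr (Or.inr rfl)⟩
    · exact Or.inr ⟨n1, Or.inr (Or.inl e1)⟩
    · exact Or.inr ⟨fun e => hn e.symm, Or.inr (Or.inr hb1.symm)⟩
    · exact Or.inl rfl
    · exact Or.inr ⟨n2, Or.inl e2⟩
    · exact Or.inr ⟨fun e => n1 e.symm, Or.inr (Or.inl e3)⟩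
    · refine Or.inr ⟨fun e => n2 e.symm, Or.inl ?_⟩
      rw [← h.braid t'.1.1 (refl_dx h t.1 t'.1).1 n2]
      exact e2
    · exact Or.inl rfl
  set S : Set G := {z | ∃ w ∈ T, Tw D a w z} with hS
  have hyp : WidthOne.Hyp S := by
    refine ⟨?_, ?_, ?_⟩
    · rintro z ⟨w, -, tw⟩
      exact h.sq z tw.2.1.1
    · rintro z ⟨w, hw, tw⟩ z' ⟨w', hw', tw'⟩
      by_cases e : z = z'
      · subst e; rw [h.sq z tw.2.1.1, one_pow]
      refine (h.or3 z tw.2.1.1 z' tw'.2.1.1).resolve_left ?_
      rcases hTn w hw w' hw' with rfl | ⟨hn, -⟩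
      · exact (tw.symm.trans tw').not_commute e
      · exact cross_not_commute hn tw tw' e
    · rintro z ⟨w, hw, tw⟩ z' ⟨w', hw', tw'⟩
      rcases hTn w hw w' hw' with rfl | ⟨hn, hm⟩
      · refine ⟨w, hw, tw.trans ?_⟩
        have h1 := (tw.symm.trans tw').refl_conj h tw.2.1
        rwa [h.sq z tw.2.1.1, one_mul] at h1
      · exact ⟨_, hm, cross_third h hn tw tw'⟩
  set x : Fin 4 → G := ![u, v, u', v'] with hxdef
  have hx : ∀ i, x i ∈ S := by
    intro i
    fin_cases i
    · exact ⟨u, Or.inl rfl, tw_refl t.1⟩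
    · exact ⟨u, Or.inl rfl, t⟩
    · exact ⟨u', Or.inr (Or.inl rfl), tw_refl t'.1⟩
    · exact ⟨u', Or.inr (Or.inl rfl), t'⟩
  refine (WidthOne.four_isPGroup hyp x hx).to_le (sup_le ?_ ?_)
  · rw [zpowers_le]; exact Subgroup.subset_closure ⟨1, rfl⟩
  · rw [zpowers_le]
    have hc : u' * v' = (x 0 * x 2)⁻¹ * (x 0 * x 3) := by
      simp [hxdef, h.inv_eq t'.1.1, mul_assoc]
    rw [hc]
    exact mul_mem (inv_mem (Subgroup.subset_closure ⟨2, rfl⟩)) (Subgroup.subset_closure ⟨3, rfl⟩)

theorem twin_isPGroup (h : TC D) (a : G) : IsPGroup 3 ↥(twin D a) := by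
  haveI : Fact (Nat.Prime 3) := ⟨Nat.prime_three⟩
  set C := centralizer ({a} : Set G)
  obtain ⟨Q⟩ : Nonempty (Sylow 3 C) := inferInstance
  refine (Q.isPGroup'.map C.subtype).to_le ((Subgroup.closure_le _).mpr ?_)
  rintro _ ⟨u, v, t, rfl⟩
  have hqC : u * v ∈ C := twin_le_centralizer D a (prod_mem t)
  set X : Subgroup C := zpowers ⟨u * v, hqC⟩
  have hmap : X.map C.subtype = zpowers (u * v) := by
    rw [MonoidHom.map_zpowers]; rfl
  have hpair : ∀ g : C, IsPGroup 3 ↥(X ⊔ X.map (MulAut.conj g).toMonoidHom) := by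
    intro g
    have hg : (g : G) * a * (g : G)⁻¹ = a :=
      conj_of_commute (mem_centralizer_singleton_iff.mp g.2)
    have t' := t.conj h (g : G)
    rw [hg] at t'
    have hmap2 : (X ⊔ X.map (MulAut.conj g).toMonoidHom).map C.subtype =
        zpowers (u * v) ⊔ zpowers ((g : G) * u * (g : G)⁻¹ * ((g : G) * v * (g : G)⁻¹)) := by
      rw [Subgroup.map_sup, hmap, MonoidHom.map_zpowers, MonoidHom.map_zpowers]
      congr 2
      simp [MulAut.conj_apply, mul_assoc]
    have h3 := pair_three h t t'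
    rw [← hmap2] at h3
    exact h3.of_equiv (Subgroup.equivMapOfInjective _ _ C.subtype_injective).symm
  have hX : IsPGroup 3 ↥X := (hpair 1).to_le le_sup_left
  obtain ⟨N, hN, hNp, hXN⟩ := BaerSuzuki.exists_normal_pGroup_of_pairs X hX hpair
  haveI := hN
  exact ⟨⟨u * v, hqC⟩, IsPGroup.le_sylow_of_normal hNp Q (hXN (mem_zpowers _)), rfl⟩

/-! ### Orbits -/

/-- The orbit of `w` under a subgroup. -/
def orb (P : Subgroup G) (w : G) : Set G := (fun y => y * w * y⁻¹) '' (P : Set G)

theorem orb_ncard (P : Subgroup G) (w : G) :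
    (orb P w).ncard = (centralizer ({w} : Set G)).relIndex P := by
  set C := (centralizer ({w} : Set G)).subgroupOf P
  let f : ↥P → G := fun y => (y : G) * w * (y : G)⁻¹
  have hiff : ∀ x y : ↥P, f x = f y ↔ x⁻¹ * y ∈ C := by
    intro x y
    rw [mem_subgroupOf, mem_centralizer_singleton_iff, Subgroup.coe_mul, Subgroup.coe_inv]
    constructor
    · intro e
      have e' : (x : G) * w * (x : G)⁻¹ = (y : G) * w * (y : G)⁻¹ := e
      calc (x : G)⁻¹ * y * w = (x : G)⁻¹ * ((y : G) * w * (y : G)⁻¹) * y := by group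
        _ = (x : G)⁻¹ * ((x : G) * w * (x : G)⁻¹) * y := by rw [e']
        _ = w * ((x : G)⁻¹ * y) := by group
    · intro e
      show (x : G) * w * (x : G)⁻¹ = (y : G) * w * (y : G)⁻¹
      calc (x : G) * w * (x : G)⁻¹ = x * (w * ((x : G)⁻¹ * y)) * (y : G)⁻¹ := by group
        _ = x * ((x : G)⁻¹ * y * w) * (y : G)⁻¹ := by rw [e]
        _ = _ := by group
  let F : ↥P ⧸ C → G := fun q => f (Quotient.out q)
  have hF : Function.Injective F := by
    intro p q e
    rw [← QuotientGroup.out_eq' p, ← QuotientGroup.out_eq' q, QuotientGroup.eq]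
    exact (hiff _ _).mp e
  have hr : orb P w = Set.range F := by
    ext d
    constructor
    · rintro ⟨y, hy, rfl⟩
      refine ⟨((⟨y, hy⟩ : ↥P) : ↥P ⧸ C), ?_⟩
      show f _ = f ⟨y, hy⟩
      rw [hiff]
      exact QuotientGroup.eq.mp (QuotientGroup.out_eq' _)
    · rintro ⟨q, rfl⟩
      exact ⟨_, (Quotient.out q).2, rfl⟩
  rw [← Nat.card_coe_set_eq, hr, Nat.card_range_of_injective hF]
  rfl

theorem self_mem_orb (P : Subgroup G) (w : G) : w ∈ orb P w := ⟨1, one_mem P, by simp⟩

/-- The orbit of `twin a` on a point is its class of twins. -/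
theorem orb_twin (h : TC D) {a u : G} (hu : u ∈ Dx D a) : orb (twin D a) u = tcls D a u := by
  ext z
  constructor
  · rintro ⟨y, hy, rfl⟩
    exact twin_fixes h hy u hu
  · intro t
    by_cases e : u = z
    · exact e ▸ self_mem_orb _ _
    refine ⟨u * z, prod_mem t, ?_⟩
    have hb := h.braid t.1.1 t.2.1.1 (Tw.not_commute t e)
    show u * z * u * (u * z)⁻¹ = z
    rw [mul_inv_rev, h.inv_eq t.1.1, h.inv_eq t.2.1.1]
    calc u * z * u * (z * u) = z * u * z * (z * u) := by rw [hb]
      _ = z * u * (z * z) * u := by group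
      _ = z := by rw [h.sq z t.2.1.1, mul_one, mul_assoc, h.sq u t.1.1, mul_one]

variable (h : TC D)
  (hsol : ∀ N : Subgroup G, N.Normal → Group.IsSolvable ↥N → N ≤ commutator G → N = ⊥)

include h hsol

/-- All classes of twins have the same size. -/
theorem ncard_tcls {a u a' u' : G} (ha : a ∈ D) (hu : u ∈ Dx D a) (ha' : a' ∈ D)
    (hu' : u' ∈ Dx D a') : (tcls D a u).ncard = (tcls D a' u').ncard := by
  obtain ⟨g, hg⟩ := h.trans a ha a' ha'
  obtain ⟨k, hk, hku⟩ := dx_transitive h hsol ha' (hg ▸ mem_dx_conj h g hu) hu'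
  have hkc : Subgroup.closure (Dx D a') ≤ centralizer ({a'} : Set G) :=
    (Subgroup.closure_le _).mpr fun z hz => mem_centralizer_singleton_iff.mpr hz.2.2.symm.eq
  have hka : k * a' * k⁻¹ = a' := conj_of_commute (mem_centralizer_singleton_iff.mp (hkc hk))
  have e : ∀ x, k * g * x * (k * g)⁻¹ = k * (g * x * g⁻¹) * k⁻¹ := fun x => by group
  have himg : tcls D a' u' = (fun x => k * g * x * (k * g)⁻¹) '' tcls D a u := by
    have hga : k * g * a * (k * g)⁻¹ = a' := by rw [e, hg, hka]
    have hgu : k * g * u * (k * g)⁻¹ = u' := by rw [e, hku]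
    ext z
    constructor
    · intro t
      refine ⟨(k * g)⁻¹ * z * (k * g), ?_, by group⟩
      have := t.conj h (k * g)⁻¹
      rw [← hga, ← hgu, inv_inv] at this
      show Tw D a u _
      convert this using 1 <;> group
    · rintro ⟨x, t, rfl⟩
      have := Tw.conj h (k * g) t
      rw [hga, hgu] at this
      exact this
  rw [himg, Set.ncard_image_of_injective _ fun _ _ e => conj_inj e]

variable (hT : ∀ a ∈ D, ∀ u ∈ Dx D a, ∃ v, v ≠ u ∧ Tw D a u v)
include hT

theorem card_tcls_three {a u : G} (ha : a ∈ D) (hu : u ∈ Dx D a) :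
    ∃ p, 0 < p ∧ (tcls D a u).ncard = 3 ^ p := by
  haveI : Fact (Nat.Prime 3) := ⟨Nat.prime_three⟩
  obtain ⟨p, hp⟩ := (twin_isPGroup h a).index ((centralizer ({u} : Set G)).subgroupOf (twin D a))
  refine ⟨p, Nat.pos_of_ne_zero fun e => ?_, ?_⟩
  · subst e
    obtain ⟨v, hv, t⟩ := hT a ha u hu
    have h1 : (tcls D a u).ncard ≤ 1 := by
      rw [← orb_twin h hu, orb_ncard, Subgroup.relIndex, hp, pow_zero]
    exact hv ((Set.ncard_le_one (Set.toFinite _)).mp h1 v t u (tw_refl hu))
  · rw [← orb_twin h hu, orb_ncard, Subgroup.relIndex, hp]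

/-- The central step: some twin `b` of `u` at `a` has no other common neighbours with `u`. -/
theorem exists_twin_loc {u a : G} (hu : u ∈ D) (ha : a ∈ Dx D u) :
    ∃ b, b ≠ u ∧ Tw D a u b ∧ Loc D u b = insert a (Loc D u a) ∧ ∀ e ∈ D, Tw D e u b → e = a := by
  classical
  haveI : Fact (Nat.Prime 3) := ⟨Nat.prime_three⟩
  have hua : u ∈ Dx D a := dx_symm hu ha
  set M := twin D u with hMdef
  set Ma := centralizer ({a} : Set G) ⊓ M with hMa
  have hMp : IsPGroup 3 ↥M := twin_isPGroup h u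
  have hMap : IsPGroup 3 ↥Ma := hMp.to_le inf_le_right
  -- a twin of `u` at `a` fixed by the stabiliser of `a`
  obtain ⟨b, hbu, tb, hMb⟩ : ∃ b, b ≠ u ∧ Tw D a u b ∧ Ma ≤ centralizer ({b} : Set G) := by
    let X : Set G := tcls D a u \ {u}
    have hmem : ∀ y ∈ Ma, ∀ z ∈ X, y * z * y⁻¹ ∈ X := by
      rintro y hy z ⟨hz, hzu⟩
      have := Tw.conj h y hz
      rw [conj_of_commute (mem_centralizer_singleton_iff.mp hy.1), twin_fix hy.2] at this
      refine ⟨this, fun e => hzu ?_⟩
      have h2 : y * z * y⁻¹ = y * u * y⁻¹ := by rw [twin_fix hy.2]; exact e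
      exact conj_inj h2
    letI : MulAction ↥Ma ↥X :=
      { smul := fun y z => ⟨(y : G) * z * (y : G)⁻¹, hmem y y.2 z z.2⟩
        one_smul := fun z => Subtype.ext (by show (1 : G) * z * (1 : G)⁻¹ = z; simp)
        mul_smul := fun y y' z => Subtype.ext (by
          show (y * y' : G) * z * (y * y' : G)⁻¹ = y * (y' * z * (y' : G)⁻¹) * (y : G)⁻¹
          group) }
    have hnd : ¬ 3 ∣ Nat.card ↥X := by
      obtain ⟨p, hp, hc⟩ := card_tcls_three h hsol hT ha.1 hua
      rw [Nat.card_coe_set_eq, Set.ncard_diff_singleton_of_mem (show u ∈ tcls D a u from tw_refl hua), hc]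
      obtain ⟨p', rfl⟩ := Nat.exists_eq_succ_of_ne_zero hp.ne'
      have : 0 < 3 ^ p' := pow_pos (by norm_num) _
      rw [pow_succ]
      omega
    obtain ⟨⟨b, hb, hbu⟩, hfix⟩ := hMap.nonempty_fixed_point_of_prime_not_dvd_card ↥X hnd
    refine ⟨b, hbu, hb, fun y hy => mem_centralizer_singleton_iff.mpr
      (commute_of_conj (congrArg Subtype.val (hfix ⟨y, hy⟩))).eq⟩
  have hbD : b ∈ D := tb.2.1.1
  have hnub : ¬ Commute u b := tb.not_commute hbu.symm
  have hSb : ∀ d ∈ Loc D u a, d ∈ Dx D b := by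
    intro d hd
    rw [← loc_comm, tb.2.2] at hd
    exact hd.2
  have hab : a ∈ Loc D u b := ⟨ha, dx_symm ha.1 tb.2.1⟩
  set B := centralizer ({b} : Set G) ⊓ M with hBdef
  have hMaB : Ma ≤ B := le_inf hMb inf_le_right
  -- a pair of twins at `u` gives an element of `B` when both commute with `b`
  have hpairB : ∀ {w w' : G}, Tw D u w w' → Commute b w → Commute b w' → w * w' ∈ B :=
    fun t c c' => ⟨mem_centralizer_singleton_iff.mpr (c.mul_right c').symm.eq, prod_mem t⟩
  have hBpair : ∀ {w w' : G}, Tw D u w w' → w ≠ w' → w * w' ∈ B → Commute b w ∧ Commute b w' :=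
    fun t hne hm => commute_both h hbD t.1.1 t.2.1.1 (t.not_commute hne)
      (mem_centralizer_singleton_iff.mp hm.1).symm
  have hne_b : ∀ {w : G}, w ∈ Dx D u → w ≠ b := fun hw e => hnub (e ▸ hw.2.2)
  have hin : ∀ {w : G}, w ∈ Dx D u → Commute b w → w ∈ Loc D u b :=
    fun hw hc => ⟨hw, hw.1, hne_b hw, hc⟩
  set H := Subgroup.closure (Dx D u) with hHdef
  have hHfix : ∀ k ∈ H, k * u * k⁻¹ = u := by
    intro k hk
    refine conj_of_commute (mem_centralizer_singleton_iff.mp ?_)
    exact (Subgroup.closure_le _).mpr (fun z hz => mem_centralizer_singleton_iff.mpr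
      hz.2.2.symm.eq) hk
  by_cases hBM : B = Ma
  · -- only `a` and its common neighbours with `u`
    have hsingle : ∀ {g g' : G}, Tw D u g g' → g ≠ g' → g ∈ Loc D u b → g' ∈ Loc D u b →
        Commute a g ∧ Commute a g' := by
      intro g g' t hne hg hg'
      have h1 := hpairB t hg.2.2.2 hg'.2.2.2
      rw [hBM] at h1
      exact commute_both h ha.1 t.1.1 t.2.1.1 (t.not_commute hne)
        (mem_centralizer_singleton_iff.mp h1.1).symm
    have hclaim : Loc D u b = insert a (Loc D u a) := by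
      refine Set.Subset.antisymm ?_ (Set.insert_subset hab fun d hd => ⟨hd.1, hSb d hd⟩)
      intro g hg
      by_contra hgn
      simp only [Set.mem_insert_iff, not_or] at hgn
      obtain ⟨hga, hgS⟩ := hgn
      have hnc : ¬ Commute a g := fun c => hgS ⟨hg.1, hg.1.1, hga, c⟩
      by_cases hta : Tw D u a g
      · exact hta.not_commute (fun e => hga e.symm)
          (hsingle hta (fun e => hga e.symm) hab hg).2
      -- the stabiliser of `a` fixes `g`
      have hle : Ma ≤ centralizer ({g} : Set G) ⊓ M := by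
        intro y hy
        refine ⟨mem_centralizer_singleton_iff.mpr (commute_of_conj ?_).eq, hy.2⟩
        by_contra hne
        have t := twin_fixes h hy.2 g hg.1
        have hy' : y * g * y⁻¹ ∈ Loc D u b := by
          have := mem_dx_conj h y hg.2
          rw [conj_of_commute (mem_centralizer_singleton_iff.mp (hMb hy))] at this
          exact ⟨t.2.1, this⟩
        exact hnc (hsingle t (Ne.symm hne) hg hy').1
      have hidx : (centralizer ({g} : Set G) ⊓ M).relIndex M = Ma.relIndex M := by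
        rw [hMa, inf_relIndex_right, inf_relIndex_right, ← orb_ncard, ← orb_ncard, orb_twin h hg.1,
          orb_twin h ha]
        exact ncard_tcls h hsol hu hg.1 hu ha
      have heq : Ma = centralizer ({g} : Set G) ⊓ M := by
        refine le_antisymm hle ?_
        have h1 := relIndex_mul_relIndex Ma _ M hle inf_le_right
        rw [hidx] at h1
        rw [← relIndex_eq_one]
        exact Nat.eq_of_mul_eq_mul_right (Nat.pos_of_ne_zero Subgroup.index_ne_zero_of_finite)
          (h1.trans (one_mul _).symm)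
      have hnag : ∀ {p q : G}, p ∈ Dx D u → q ∈ Dx D u → ¬ Commute p q →
          centralizer ({p} : Set G) ⊓ M = centralizer ({q} : Set G) ⊓ M →
          Loc D u p ⊆ Loc D u q := by
        intro p q hp hq hpq he w hw
        obtain ⟨w', hw'ne, tw⟩ := hT u hu w hw.1
        obtain ⟨hc', -⟩ := tw.module hp hw.2.2.1.symm hw.2.2.2
        have hm : w * w' ∈ centralizer ({p} : Set G) ⊓ M :=
          ⟨mem_centralizer_singleton_iff.mpr (hw.2.2.2.mul_right hc').symm.eq, prod_mem tw⟩
        rw [he] at hm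
        have hcq := (commute_both h hq.1 tw.1.1 tw.2.1.1 (tw.not_commute (Ne.symm hw'ne))
          (mem_centralizer_singleton_iff.mp hm.1).symm).1
        exact ⟨hw.1, hw.1.1, fun e => hpq (e ▸ hw.2.2.2), hcq⟩
      exact hta ⟨ha, hg.1, Set.Subset.antisymm (hnag ha hg.1 hnc heq)
        (hnag hg.1 ha (fun c => hnc c.symm) heq.symm)⟩
    refine ⟨b, hbu, tb, hclaim, fun e heD te => ?_⟩
    by_contra hea
    obtain ⟨a', ha'ne, ta⟩ := hT u hu a ha
    have heN : e ∈ Loc D u b := ⟨dx_symm heD te.1, dx_symm heD te.2.1⟩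
    rw [hclaim] at heN
    rcases heN with rfl | heS
    · exact hea rfl
    obtain ⟨hce, hne⟩ := ta.module heS.1 heS.2.2.1 heS.2.2.2.symm
    have h1 : a' ∈ Loc D e u := ⟨⟨ta.2.1.1, hne.symm, hce⟩, ta.2.1⟩
    rw [te.2.2] at h1
    have h2 : a' ∈ Loc D u b := ⟨ta.2.1, h1.2⟩
    rw [hclaim] at h2
    rcases h2 with rfl | h2
    · exact ha'ne rfl
    · exact ta.not_commute (Ne.symm ha'ne) h2.2.2.2
  -- otherwise the normal closure of `B` gives `Dx u ⊆ Dx b`
  exfalso
  have hMaB' : Ma < B := lt_of_le_of_ne hMaB (Ne.symm hBM)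
  let PS : Set (Subgroup G) := {P | B ≤ P ∧ P ≤ M ∧ ∀ k ∈ H, ∀ y ∈ P, k * y * k⁻¹ ∈ P}
  have hne : PS.Nonempty :=
    ⟨M, inf_le_right, le_rfl, fun k hk y hy => twin_conj h (hHfix k hk) hy⟩
  obtain ⟨P, ⟨hBP, hPM, hPn⟩, hmin⟩ :=
    (Set.toFinite PS).exists_minimal hne
  have horb : ∀ w ∈ Dx D u, (orb P w).ncard = (orb P a).ncard := by
    intro w hw
    obtain ⟨k, hk, hkw⟩ := dx_transitive h hsol hu ha hw
    have : orb P w = (fun x => k * x * k⁻¹) '' orb P a := by
      ext z
      constructor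
      · rintro ⟨y, hy, rfl⟩
        refine ⟨_, ⟨k⁻¹ * y * k⁻¹⁻¹, hPn _ (inv_mem hk) y hy, rfl⟩, ?_⟩
        show _ = y * w * y⁻¹
        rw [← hkw]; group
      · rintro ⟨_, ⟨y, hy, rfl⟩, rfl⟩
        refine ⟨k * y * k⁻¹, hPn k hk y hy, ?_⟩
        show _ = k * (y * a * y⁻¹) * k⁻¹
        rw [← hkw]; group
    rw [this, Set.ncard_image_of_injective _ fun _ _ e => conj_inj e]
  have hPa : (orb P a).ncard = Ma.relIndex P := by
    rw [orb_ncard, ← inf_relIndex_right]
    congr 1
    exact le_antisymm (le_inf inf_le_left (inf_le_right.trans hPM) |> fun x => x.trans_eq hMa.symm)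
      (le_inf (hMa.trans_le inf_le_left) (hMaB.trans hBP))
  have hlt : B.relIndex P < Ma.relIndex P := by
    rw [← relIndex_mul_relIndex Ma B P hMaB hBP]
    refine lt_mul_of_one_lt_left (Nat.pos_of_ne_zero Subgroup.index_ne_zero_of_finite) ?_
    refine (Nat.two_le_iff _).mpr ⟨Subgroup.index_ne_zero_of_finite, fun e => ?_⟩
    exact hMaB'.not_ge (relIndex_eq_one.mp e)
  -- every `P`-orbit contains two members of `Loc u b`
  have hmeet : ∀ w ∈ Dx D u, ∃ g ∈ Loc D u b, ∃ y ∈ P, y * g * y⁻¹ = w := by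
    intro w hw
    have hwP : ∀ z ∈ orb P w, w * z ∈ P := by
      rintro _ ⟨y, hy, rfl⟩
      have h1 := hPn w (Subgroup.subset_closure hw) y hy
      have e : w * (y * w * y⁻¹) = w * y * w⁻¹ * y⁻¹ := by
        rw [h.inv_eq hw.1]; group
      rw [e]
      exact mul_mem h1 (inv_mem hy)
    let f : ↥(orb P w) → ↥P ⧸ B.subgroupOf P := fun z => ((⟨w * z, hwP z z.2⟩ : ↥P) : _)
    have hnot : ¬ Function.Injective f := by
      intro hf
      have h1 := Nat.card_le_card_of_injective f hf
      rw [Nat.card_coe_set_eq, horb w hw, hPa] at h1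
      exact absurd hlt (not_lt.mpr h1)
    simp only [Function.Injective, not_forall] at hnot
    obtain ⟨⟨z, hz⟩, ⟨z', hz'⟩, he, hne⟩ := hnot
    replace hne : z ≠ z' := fun e => hne (Subtype.ext e)
    have hzz : z * z' ∈ B := by
      have := QuotientGroup.eq.mp he
      rw [mem_subgroupOf] at this
      simp only [Subgroup.coe_mul, Subgroup.coe_inv] at this
      obtain ⟨y, hy, hyz⟩ := hz
      have hzD : z ∈ D := hyz ▸ h.conj y w hw.1
      convert this using 1
      rw [mul_inv_rev, h.inv_eq hzD, h.inv_eq hw.1, mul_assoc, ← mul_assoc w w z', h.sq w hw.1,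
        one_mul]
    obtain ⟨y, hy, hyz⟩ := hz
    obtain ⟨y', hy', hyz'⟩ := hz'
    have tz : Tw D u w z := hyz ▸ twin_fixes h (hPM hy) w hw
    have tz' : Tw D u w z' := hyz' ▸ twin_fixes h (hPM hy') w hw
    refine ⟨z, hin tz.2.1 (hBpair (tz.symm.trans tz') hne hzz).1, y⁻¹, inv_mem hy, ?_⟩
    rw [← hyz]; group
  set K := Subgroup.closure (Loc D u b)
  -- `B` with the derived group of `P` is invariant under `H`
  set P₂ := B ⊔ ⁅P, P⁆ with hP2
  have hP2le : P₂ ≤ P := sup_le hBP (commutator_le_self P)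
  have hPP2 : P ≤ normalizer (P₂ : Set G) := by
    intro y hy
    rw [mem_normalizer_iff]
    intro x
    have hc : ∀ y ∈ P, ∀ x ∈ P₂, y * x * y⁻¹ ∈ P₂ := fun y hy x hx => by
      have e : y * x * y⁻¹ = ⁅y, x⁆ * x := by rw [commutatorElement_def]; group
      rw [e]
      exact mul_mem (mem_sup_right (commutator_mem_commutator hy (hP2le hx))) hx
    refine ⟨hc y hy x, fun hx => ?_⟩
    have := hc y⁻¹ (inv_mem hy) _ hx
    convert this using 1
    group
  have hgP2 : Loc D u b ⊆ (normalizer (P₂ : Set G) : Set G) := by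
    intro g hg
    have hgu : g * u * g⁻¹ = u := conj_of_commute hg.1.2.2.symm
    have hgb : g * b * g⁻¹ = b := conj_of_commute hg.2.2.2.symm
    have hc : P₂ ≤ P₂.comap (MulAut.conj g).toMonoidHom := by
      refine sup_le (fun x hx => ?_) (commutator_le.mpr fun x hx y hy => ?_)
      · refine mem_sup_left ⟨mem_centralizer_singleton_iff.mpr (commute_of_conj ?_).eq,
          twin_conj h hgu hx.2⟩
        show g * x * g⁻¹ * b * (g * x * g⁻¹)⁻¹ = b
        calc g * x * g⁻¹ * b * (g * x * g⁻¹)⁻¹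
            = g * (x * (g⁻¹ * (g * b * g⁻¹) * g) * x⁻¹) * g⁻¹ := by rw [hgb]; group
          _ = g * (x * b * x⁻¹) * g⁻¹ := by group
          _ = b := by rw [conj_of_commute (mem_centralizer_singleton_iff.mp hx.1), hgb]
      · show g * ⁅x, y⁆ * g⁻¹ ∈ P₂
        have e : g * ⁅x, y⁆ * g⁻¹ = ⁅g * x * g⁻¹, g * y * g⁻¹⁆ := by
          rw [commutatorElement_def, commutatorElement_def]; group
        rw [e]
        exact mem_sup_right (commutator_mem_commutator
          (hPn g (Subgroup.subset_closure hg.1) x hx) (hPn g (Subgroup.subset_closure hg.1) y hy))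
    rw [SetLike.mem_coe, mem_normalizer_iff]
    refine fun x => ⟨fun hx => hc hx, fun hx => ?_⟩
    have h2 : g * (g * x * g⁻¹) * g⁻¹ ∈ P₂ := hc hx
    have e : g * (g * x * g⁻¹) * g⁻¹ = x := by
      rw [h.inv_eq hg.1.1, h.refl_refl hg.1.1]
    rwa [e] at h2
  have hH2 : H ≤ normalizer (P₂ : Set G) := by
    rw [hHdef, Subgroup.closure_le]
    intro w hw
    obtain ⟨g, hg, y, hy, rfl⟩ := hmeet w hw
    exact mul_mem (mul_mem (hPP2 hy) (hgP2 hg)) (inv_mem (hPP2 hy))
  have hP2mem : P₂ ∈ PS :=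
    ⟨le_sup_left, hP2le.trans hPM, fun k hk y hy => (mem_normalizer_iff.mp (hH2 hk) y).mp hy⟩
  have hPeq : P₂ = P := le_antisymm hP2le (hmin hP2mem hP2le)
  -- so `B = P`, as `P` is a 3-group
  have hPB : B = P := by
    haveI : Group.IsNilpotent ↥P := (hMp.to_le hPM).isNilpotent
    refine le_antisymm hBP ?_
    rw [← subgroupOf_eq_top]
    by_contra hne
    obtain ⟨Mx, hMx, hle⟩ := (eq_top_or_exists_le_coatom (B.subgroupOf P)).resolve_left hne
    haveI hMxn : Mx.Normal := NormalizerCondition.normal_of_coatom Mx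
      Group.normalizerCondition_of_isNilpotent hMx
    have hidx : Mx.index = 3 := PGroupsBasic.index_of_isCoatom (hMp.to_le hPM) hMx
    have hcomm : _root_.commutator ↥P ≤ Mx := by
      haveI : IsCyclic (↥P ⧸ Mx) := isCyclic_of_prime_card (p := 3) hidx
      letI : CommGroup (↥P ⧸ Mx) := IsCyclic.commGroup
      exact (Abelianization.commutator_subset_ker (QuotientGroup.mk' Mx)).trans
        (QuotientGroup.ker_mk' Mx).le
    apply hMx.1
    rw [eq_top_iff]
    intro y _
    have hy : (y : G) ∈ P₂ := hPeq.symm ▸ y.2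
    have hle' : P₂ ≤ Mx.map P.subtype := by
      refine sup_le ?_ ?_
      · intro x hx
        exact ⟨⟨x, hBP hx⟩, hle hx, rfl⟩
      · rw [← map_subtype_commutator]
        exact map_mono hcomm
    obtain ⟨y', hy', e⟩ := hle' hy
    exact Subtype.ext e ▸ hy'
  -- then `b` commutes with all of `Dx u`
  subst hPB
  have hsub : Dx D u ⊆ Dx D b := by
    intro w hw
    obtain ⟨z, hz, hzw⟩ : ∃ z ∈ orb B w, z ≠ w := by
      refine Set.exists_ne_of_one_lt_ncard ?_ w
      rw [horb w hw, hPa]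
      exact lt_of_le_of_lt (Nat.pos_of_ne_zero Subgroup.index_ne_zero_of_finite) hlt
    obtain ⟨y, hy, rfl⟩ := hz
    have t := twin_fixes h hy.2 w hw
    have h1 := hPn w (Subgroup.subset_closure hw) y hy
    have hm : w * (y * w * y⁻¹) ∈ B := by
      have e : w * (y * w * y⁻¹) = w * y * w⁻¹ * y⁻¹ := by rw [h.inv_eq hw.1]; group
      rw [e]
      exact mul_mem h1 (inv_mem hy)
    exact (hin hw (hBpair t (Ne.symm hzw) hm).1).2
  have := eq_of_dx_eq h hsol hu hbD
    (Set.eq_of_subset_of_ncard_le hsub (h.ncard_dx hbD hu).le (Set.toFinite _))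
  exact hbu this.symm

end Cfsg.Agent.FischerTwins54
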