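import Mathlib
import Cfsg.Prelude.Def_Local
import Cfsg.Agent.Lib.FischerTwins54
import Cfsg.Agent.Lib.CoxeterTypeA
import Cfsg.Agent.Lib.HallCore

/-!
A 3-transposition group with perfect derived group, no solvable normal subgroup and twins among
the transpositions commuting with a transposition is the symmetric group of degree five: the
graph of commuting transpositions has parameters `(1 + k m, k, λ, λ + 1)` with `k = m (λ + 1)`
and `m` a power of `3` dividing `λ`, and the integrality of the eigenvalues leaves the Petersen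
graph.
-/

set_option autoImplicit false

namespace Cfsg.Agent.FischerTwins54

open Subgroup
open Cfsg.Agent.ThreeTransp

/-! ### Integrality -/

theorem trace_idem_real {V : Type*} [Fintype V] [DecidableEq V] (E : Matrix V V ℝ)
    (h : E * E = E) : ∃ f : ℕ, Matrix.trace E = f := by
  have hi : IsIdempotentElem (Matrix.toLin' E) := by
    rw [IsIdempotentElem, Module.End.mul_eq_comp, ← Matrix.toLin'_mul, h]
  obtain ⟨p, hp⟩ := (LinearMap.isProj_iff_isIdempotentElem _).mpr hi
  exact ⟨Module.finrank ℝ p, by rw [← Matrix.trace_toLin'_eq, hp.trace]⟩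

/-- The integrality condition for a strongly regular matrix with `μ = λ + 1`. -/
theorem srg_integral {V : Type*} [Fintype V] [DecidableEq V] (A : Matrix V V ℝ) (n k c μ : ℕ)
    (hn : Fintype.card V = n) (hn0 : 0 < n) (htr : Matrix.trace A = 0)
    (hA2 : A * A = (c : ℝ) • (1 : Matrix V V ℝ) - A + (μ : ℝ) • Matrix.of fun _ _ => (1 : ℝ))
    (hAJ : A * (Matrix.of fun _ _ => (1 : ℝ)) = (k : ℝ) • Matrix.of fun _ _ => (1 : ℝ))
    (hJA : (Matrix.of fun _ _ => (1 : ℝ)) * A = (k : ℝ) • Matrix.of fun _ _ => (1 : ℝ))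
    (hsq : (2 * k + 1) * (2 * k + 1) = 4 * c + 1 + 4 * μ * n)
    (hne : n ≠ 2 * k + 1) :
    ∃ w : ℤ, w * w = 4 * (c : ℤ) + 1 ∧ w ∣ (n : ℤ) - (2 * k + 1) := by
  set J : Matrix V V ℝ := Matrix.of fun _ _ => (1 : ℝ) with hJ
  have hJJ : J * J = (n : ℝ) • J := by
    ext i j
    simp [hJ, Matrix.mul_apply, hn]
  set y : ℝ := Real.sqrt (4 * c + 1) with hy
  have hy2 : y * y = 4 * c + 1 := Real.mul_self_sqrt (by positivity)
  have hy0 : y ≠ 0 := fun e => by
    rw [e, mul_zero] at hy2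
    have : (0 : ℝ) ≤ c := Nat.cast_nonneg c
    linarith
  have hnR : (n : ℝ) ≠ 0 := Nat.cast_ne_zero.mpr hn0.ne'
  set P : Matrix V V ℝ :=
    (2 : ℝ) • A + (1 : Matrix V V ℝ) + (-((2 * k + 1) / n) : ℝ) • J with hP
  set Q : Matrix V V ℝ := (1 : Matrix V V ℝ) + (-(1 / n) : ℝ) • J with hQ
  have hsqR : (2 * (k : ℝ) + 1) * (2 * k + 1) = 4 * c + 1 + 4 * μ * n := by exact_mod_cast hsq
  have hQQ : Q * Q = Q := by
    simp only [hQ, mul_add, add_mul, one_mul, mul_one, smul_mul_assoc, mul_smul_comm, hJJ]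
    match_scalars <;> field_simp <;> ring
  have hPQ : P * Q = P := by
    simp only [hP, hQ, mul_add, add_mul, one_mul, mul_one, smul_mul_assoc, mul_smul_comm, hJJ, hAJ]
    match_scalars <;> field_simp <;> ring
  have hQP : Q * P = P := by
    simp only [hP, hQ, mul_add, add_mul, one_mul, mul_one, smul_mul_assoc, mul_smul_comm, hJJ, hJA]
    match_scalars <;> field_simp <;> ring
  have hPP : P * P = (4 * c + 1 : ℝ) • Q := by
    simp only [hP, hQ, mul_add, add_mul, one_mul, mul_one, smul_mul_assoc, mul_smul_comm, hJJ, hAJ,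
      hJA, hA2]
    match_scalars
    all_goals field_simp
    all_goals first
      | ring1
      | linear_combination hsqR
      | linear_combination -hsqR
      | linear_combination 2 * hsqR
      | linear_combination -2 * hsqR
  set E : Matrix V V ℝ := (1 / (2 * y)) • P + (1 / 2 : ℝ) • Q with hE
  have hEE : E * E = E := by
    simp only [hE, mul_add, add_mul, smul_mul_assoc, mul_smul_comm, hPP, hPQ, hQP, hQQ]
    match_scalars
    all_goals field_simp
    all_goals first
      | ring1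
      | linear_combination -hy2
      | linear_combination hy2
      | linear_combination (-1 : ℝ) * hy2 * n
  obtain ⟨f, hf⟩ := trace_idem_real E hEE
  have htJ : Matrix.trace J = (n : ℝ) := by simp [hJ, Matrix.trace, hn]
  have htP : Matrix.trace P = (n : ℝ) - (2 * k + 1) := by
    rw [hP, Matrix.trace_add, Matrix.trace_add, Matrix.trace_smul, Matrix.trace_smul, htr, htJ,
      Matrix.trace_one, hn]
    simp only [smul_eq_mul, mul_zero, zero_add]
    field_simp
    ring
  have htQ : Matrix.trace Q = (n : ℝ) - 1 := by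
    rw [hQ, Matrix.trace_add, Matrix.trace_smul, htJ, Matrix.trace_one, hn, smul_eq_mul]
    field_simp
    ring
  rw [hE, Matrix.trace_add, Matrix.trace_smul, Matrix.trace_smul, htP, htQ, smul_eq_mul,
    smul_eq_mul] at hf
  set τ : ℤ := (n : ℤ) - (2 * k + 1) with hτ
  set z : ℤ := 2 * f + 1 - n with hz
  have hτz : (τ : ℝ) = y * z := by
    rw [hτ, hz]
    push_cast
    field_simp at hf
    linarith
  have hτ0 : τ ≠ 0 := by omega
  have hzy : τ ^ 2 = (4 * (c : ℤ) + 1) * z ^ 2 := by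
    have h1 : (τ : ℝ) ^ 2 = (4 * c + 1) * (z : ℝ) ^ 2 := by rw [hτz, mul_pow, pow_two y, hy2]
    exact_mod_cast h1
  have hz0 : z ≠ 0 := fun e => hτ0 (by rw [e] at hzy; simpa using hzy)
  obtain ⟨w, hw⟩ : z ∣ τ := (Int.pow_dvd_pow_iff two_ne_zero).mp ⟨4 * (c : ℤ) + 1, by rw [hzy]; ring⟩
  refine ⟨w, ?_, ⟨z, by rw [hw]; ring⟩⟩
  rw [hw, mul_pow] at hzy
  exact mul_left_cancel₀ (pow_ne_zero 2 hz0) (by linear_combination hzy)

/-- The only solution of the arithmetic conditions. -/
theorem params {p lam : ℕ} (hp : 0 < p) (hdvd : 3 ^ p ∣ lam) {w : ℤ}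
    (hw : w * w = 4 * (((lam + 1) * (3 ^ p - 1) : ℕ) : ℤ) + 1)
    (hdiv : w ∣ ((3 ^ p * (lam + 1) * (3 ^ p - 2) : ℕ) : ℤ)) : p = 1 ∧ lam = 0 := by
  obtain rfl | hp2 := (show p = 1 ∨ 2 ≤ p by omega)
  · refine ⟨rfl, ?_⟩
    norm_num at hw hdiv
    have hcop : IsCoprime w ((lam : ℤ) + 1) :=
      ⟨w, -8, by linear_combination hw⟩
    have hdiv' : w ∣ ((lam : ℤ) + 1) * 3 := by
      convert hdiv using 1 <;> ring
    have h3 : w ∣ 3 := hcop.dvd_of_dvd_mul_left hdiv'
    have habs : |w| ≤ 3 := Int.le_of_dvd (by norm_num) ((abs_dvd w 3).mpr h3)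
    have h9 : w * w ≤ 9 := by
      rw [← abs_mul_abs_self w]
      exact le_trans (mul_le_mul habs habs (abs_nonneg w) (by norm_num)) (by norm_num)
    omega
  · exfalso
    obtain ⟨q, rfl⟩ : ∃ q, p = q + 2 := ⟨p - 2, by omega⟩
    obtain ⟨r, rfl⟩ := hdvd
    have h1 : 1 ≤ 3 ^ (q + 2) := Nat.one_le_pow _ _ (by norm_num)
    push_cast [Nat.cast_sub h1] at hw
    have h9 : (3 : ZMod 9) ^ (q + 2) = 0 := by
      rw [pow_add, show (3 : ZMod 9) ^ 2 = 0 by decide, mul_zero]
    have key := congrArg (Int.cast : ℤ → ZMod 9) hw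
    push_cast at key
    rw [h9] at key
    have hno : ∀ x : ZMod 9, x * x ≠ 4 * ((0 * (r : ZMod 9) + 1) * (0 - 1)) + 1 := by
      simp only [zero_mul, zero_add, zero_sub, mul_neg, mul_one]
      decide
    exact hno _ key

/-! ### The graph -/

variable {G : Type*} [Group G] [Finite G] {D : Set G}

/-- The transpositions not commuting with `u`. -/
def Ax (D : Set G) (u : G) : Set G := {t | t ∈ D ∧ ¬ Commute u t}

variable (h : TC D)
  (hsol : ∀ N : Subgroup G, N.Normal → Group.IsSolvable ↥N → N ≤ commutator G → N = ⊥)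
  (hperf : ⁅commutator G, commutator G⁆ = commutator G)
  (hT : ∀ a ∈ D, ∀ u ∈ Dx D a, ∃ v, v ≠ u ∧ Tw D a u v)

include h hsol hperf hT in
theorem exists_centre {u t : G} (hu : u ∈ D) (ht : t ∈ D) (hn : ¬ Commute u t) :
    ∃ e ∈ Dx D u, Tw D e u t ∧ Loc D u t = insert e (Loc D u e) ∧
      ∀ e' ∈ D, Tw D e' u t → e' = e := by
  obtain ⟨d, hd, hdu, hdt⟩ := near_all h hperf hu ht
  have hda : d ∈ Dx D u := ⟨hd, fun e => hn (e ▸ hdt), hdu.symm⟩
  obtain ⟨b, hbu, tb, hloc, huniq⟩ := exists_twin_loc h hsol hT hu hda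
  obtain ⟨g, hgu, hgb⟩ := ax_transitive h hsol hperf hu tb.2.1.1 ht (tb.not_commute hbu.symm) hn
  have t1 := tb.conj h g
  have e1 := mem_dx_conj h g hda
  rw [hgu, hgb] at t1
  rw [hgu] at e1
  refine ⟨g * d * g⁻¹, e1, t1, ?_, fun e' he' te => ?_⟩
  · have := loc_conj (D := D) h g u b
    rw [hgu, hgb, hloc, Set.image_insert_eq] at this
    rw [this]
    congr 1
    have h2 := loc_conj (D := D) h g u d
    rw [hgu] at h2
    exact h2.symm
  · have t2 := te.conj h g⁻¹
    have eu : g⁻¹ * u * g⁻¹⁻¹ = u := by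
      calc g⁻¹ * u * g⁻¹⁻¹ = g⁻¹ * (g * u * g⁻¹) * g⁻¹⁻¹ := by rw [hgu]
        _ = u := by group
    have eb : g⁻¹ * t * g⁻¹⁻¹ = b := by rw [← hgb]; group
    rw [eu, eb] at t2
    rw [← huniq _ (h.conj g⁻¹ e' he') t2]
    group

include h hsol in
theorem ncard_loc {a u a' u' : G} (ha : a ∈ D) (hu : u ∈ Dx D a) (ha' : a' ∈ D)
    (hu' : u' ∈ Dx D a') : (Loc D a u).ncard = (Loc D a' u').ncard := by
  obtain ⟨g, hg⟩ := h.trans a ha a' ha'
  obtain ⟨k, hk, hku⟩ := dx_transitive h hsol ha' (hg ▸ mem_dx_conj h g hu) hu'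
  have hkc : Subgroup.closure (Dx D a') ≤ centralizer ({a'} : Set G) :=
    (Subgroup.closure_le _).mpr fun z hz => mem_centralizer_singleton_iff.mpr hz.2.2.symm.eq
  have hka : k * a' * k⁻¹ = a' := conj_of_commute (mem_centralizer_singleton_iff.mp (hkc hk))
  rw [← hka, ← hku, ← hg, loc_conj h k, loc_conj h g,
    Set.ncard_image_of_injective _ fun _ _ e => conj_inj e,
    Set.ncard_image_of_injective _ fun _ _ e => conj_inj e]

omit [Finite G] in
/-- `D` is `u`, the members of `Dx u` and those not commuting with `u`. -/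
theorem eq_insert {u : G} (hu : u ∈ D) : D = insert u (Dx D u ∪ Ax D u) := by
  ext z
  simp only [Set.mem_insert_iff, Set.mem_union, Dx, Ax, Set.mem_setOf_eq]
  refine ⟨fun hz => ?_, ?_⟩
  · by_cases e : z = u
    · exact Or.inl e
    by_cases c : Commute u z
    · exact Or.inr (Or.inl ⟨hz, e, c⟩)
    · exact Or.inr (Or.inr ⟨hz, c⟩)
  · rintro (rfl | ⟨hz, -⟩ | ⟨hz, -⟩) <;> assumption

include h hsol hperf hT in
/-- The parameters of the commuting graph are those of the Petersen graph. -/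
theorem parameters {x₀ a₀ : G} (hx₀ : x₀ ∈ D) (ha₀ : a₀ ∈ Dx D x₀) :
    (Dx D x₀).ncard = 3 ∧ ∀ a ∈ D, ∀ u ∈ Dx D a, Loc D a u = ∅ := by
  classical
  haveI := Fintype.ofFinite G
  obtain ⟨p, hp, hm⟩ := card_tcls_three h hsol hT hx₀ ha₀
  set m := 3 ^ p with hmdef
  set k := (Dx D x₀).ncard with hkdef
  set lam := (Loc D x₀ a₀).ncard with hlamdef
  have hK : ∀ {u : G}, u ∈ D → (Dx D u).ncard = k := fun hu => h.ncard_dx hu hx₀
  have hM : ∀ {a u : G}, a ∈ D → u ∈ Dx D a → (tcls D a u).ncard = m := fun ha hu =>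
    (ncard_tcls h hsol ha hu hx₀ ha₀).trans hm
  have hL : ∀ {a u : G}, a ∈ D → u ∈ Dx D a → (Loc D a u).ncard = lam := fun ha hu =>
    ncard_loc h hsol ha hu hx₀ ha₀
  have hMu : ∀ {u t : G}, u ∈ D → t ∈ D → ¬ Commute u t → (Loc D u t).ncard = lam + 1 := by
    intro u t hu ht hn
    obtain ⟨e, he, -, hloc, -⟩ := exists_centre h hsol hperf hT hu ht hn
    rw [hloc, Set.ncard_insert_of_notMem (fun hin => hin.2.2.1 rfl) (Set.toFinite _), hL hu he]
  set DF : G → Finset G := fun u => (Dx D u).toFinset with hDF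
  set AF : Finset G := (Ax D x₀).toFinset with hAF
  have hl : AF.card = k * (m - 1) := by
    have hU : AF = (DF x₀).biUnion fun a => (tcls D a x₀ \ {x₀}).toFinset := by
      ext t
      simp only [hAF, hDF, Set.mem_toFinset, Finset.mem_biUnion]
      constructor
      · rintro ⟨ht, hn⟩
        obtain ⟨e, he, te, -, -⟩ := exists_centre h hsol hperf hT hx₀ ht hn
        exact ⟨e, he, te, fun e' => hn (e' ▸ Commute.refl x₀)⟩
      · rintro ⟨a, -, te, hne⟩
        exact ⟨te.2.1.1, te.not_commute (Ne.symm hne)⟩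
    rw [hU, Finset.card_biUnion, Finset.sum_eq_card_nsmul (b := m - 1), smul_eq_mul]
    · simp [hDF, hkdef, Set.ncard_eq_toFinset_card']
    · intro a ha
      simp only [hDF, Set.mem_toFinset] at ha
      rw [← Set.ncard_eq_toFinset_card',
        Set.ncard_diff_singleton_of_mem (show x₀ ∈ tcls D a x₀ from tw_refl (dx_symm hx₀ ha)),
        hM ha.1 (dx_symm hx₀ ha)]
    · intro a ha a' ha' hne
      simp only [hDF, Finset.mem_coe, Set.mem_toFinset] at ha ha'
      simp only [Function.onFun, Finset.disjoint_left, Set.mem_toFinset]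
      rintro t ⟨te, htx⟩ ⟨te', -⟩
      obtain ⟨e, -, -, -, huniq⟩ := exists_centre h hsol hperf hT hx₀ te.2.1.1
        (te.not_commute (Ne.symm htx))
      exact hne ((huniq a ha.1 te).trans (huniq a' ha'.1 te').symm)
  have hedge : k + (m - 1) * (k * (lam + 1)) + k * lam = k * k := by
    have hrow : ∀ a ∈ DF x₀, 1 + lam + (AF.filter (fun t => t ∈ Dx D a)).card = k := by
      intro a ha
      simp only [hDF, Set.mem_toFinset] at ha
      have hsplit : DF a = insert x₀ ((Loc D x₀ a).toFinset ∪ AF.filter (fun t => t ∈ Dx D a)) := by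
        ext z
        simp only [hDF, hAF, Set.mem_toFinset, Finset.mem_insert, Finset.mem_union, Finset.mem_filter]
        constructor
        · intro hz
          by_cases e : z = x₀
          · exact Or.inl e
          by_cases c : Commute x₀ z
          · exact Or.inr (Or.inl ⟨⟨hz.1, e, c⟩, hz⟩)
          · exact Or.inr (Or.inr ⟨⟨hz.1, c⟩, hz⟩)
        · rintro (rfl | h' | h')
          · exact dx_symm hx₀ ha
          · exact h'.2
          · exact h'.2
      have := congrArg Finset.card hsplit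
      rw [Finset.card_insert_of_notMem, Finset.card_union_of_disjoint] at this
      · simp only [hDF, ← Set.ncard_eq_toFinset_card', hK ha.1, hL hx₀ ha] at this
        omega
      · simp only [hAF, Finset.disjoint_left, Set.mem_toFinset, Finset.mem_filter]
        exact fun z hz hz' => hz'.1.2 hz.1.2.2
      · simp only [hAF, Set.mem_toFinset, Finset.mem_union, Finset.mem_filter, not_or]
        exact ⟨fun hz => hz.1.2.1 rfl, fun hz => hz.1.2 (Commute.refl x₀)⟩
    have hdc := Finset.sum_card_bipartiteAbove_eq_sum_card_bipartiteBelow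
      (fun a t => t ∈ Dx D a) (s := DF x₀) (t := AF)
    have hcol : ∀ t ∈ AF, ((DF x₀).filter (fun a => t ∈ Dx D a)).card = lam + 1 := by
      intro t ht
      simp only [hAF, Set.mem_toFinset] at ht
      rw [← hMu hx₀ ht.1 ht.2, Set.ncard_eq_toFinset_card']
      congr 1
      ext a
      simp only [hDF, Finset.mem_filter, Set.mem_toFinset]
      exact ⟨fun h' => ⟨h'.1, dx_symm h'.1.1 h'.2⟩, fun h' => ⟨h'.1, dx_symm ht.1 h'.2⟩⟩
    have h2 : ∑ t ∈ AF, ((DF x₀).filter (fun a => t ∈ Dx D a)).card = AF.card * (lam + 1) := by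
      rw [Finset.sum_congr rfl hcol, Finset.sum_const, smul_eq_mul]
    have h3 : ∑ a ∈ DF x₀, (1 + lam + (AF.filter (fun t => t ∈ Dx D a)).card) = k * k := by
      rw [Finset.sum_congr rfl hrow, Finset.sum_const, smul_eq_mul]
      simp [hDF, hkdef, Set.ncard_eq_toFinset_card']
    have hk' : (DF x₀).card = k := by simp [hDF, hkdef, Set.ncard_eq_toFinset_card']
    simp only [Finset.bipartiteAbove, Finset.bipartiteBelow] at hdc
    rw [Finset.sum_add_distrib, Finset.sum_const, smul_eq_mul, hdc, h2, hl, hk'] at h3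
    rw [← h3]
    ring
  have hkm : k = m * (lam + 1) := by
    have hk0 : 0 < k := (Set.ncard_pos (Set.toFinite _)).mpr ⟨a₀, ha₀⟩
    have hm0 : 1 ≤ m := Nat.one_le_pow _ _ (by norm_num)
    have h2 : k * k = k * ((m - 1 + 1) * (lam + 1)) := by
      rw [← hedge]; ring
    rw [Nat.sub_add_cancel hm0] at h2
    exact Nat.eq_of_mul_eq_mul_left hk0 h2
  have hdvd : m ∣ lam := by
    set L := (Loc D x₀ a₀).toFinset with hLdef
    have hfib : ∀ y ∈ L.image (tcls D x₀), (L.filter fun w => tcls D x₀ w = y).card = m := by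
      intro y hy
      simp only [hLdef, Finset.mem_image, Set.mem_toFinset] at hy
      obtain ⟨w, hw, rfl⟩ := hy
      rw [← hM hx₀ hw.1, Set.ncard_eq_toFinset_card']
      congr 1
      ext z
      simp only [hLdef, Finset.mem_filter, Set.mem_toFinset]
      constructor
      · rintro ⟨hz, e⟩
        have : z ∈ tcls D x₀ z := tw_refl hz.1
        rw [show tcls D x₀ z = tcls D x₀ w from e] at this
        exact this
      · intro t
        replace t : Tw D x₀ w z := t
        obtain ⟨c, hne⟩ := t.module ha₀ hw.2.2.1.symm hw.2.2.2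
        exact ⟨⟨t.2.1, t.2.1.1, hne.symm, c⟩,
          Set.ext fun _ => ⟨fun s => t.trans s, fun s => t.symm.trans s⟩⟩
    refine ⟨(L.image (tcls D x₀)).card, ?_⟩
    rw [hlamdef, Set.ncard_eq_toFinset_card', Finset.card_eq_sum_card_image (tcls D x₀),
      Finset.sum_congr rfl hfib, Finset.sum_const, smul_eq_mul, mul_comm]
  -- the adjacency matrix
  let A : Matrix ↥D ↥D ℝ := Matrix.of fun i j => if (j : G) ∈ Dx D i then 1 else 0
  have hDn : Fintype.card ↥D = 1 + k + k * (m - 1) := by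
    rw [← Nat.card_eq_fintype_card, Nat.card_coe_set_eq]
    conv_lhs => rw [eq_insert hx₀]
    rw [Set.ncard_insert_of_notMem ?_ (Set.toFinite _), Set.ncard_union_eq ?_ (Set.toFinite _)
      (Set.toFinite _), ← hkdef, Set.ncard_eq_toFinset_card' (Ax D x₀), ← hAF, hl]
    · omega
    · exact Set.disjoint_left.mpr fun z hz hz' => hz'.2 hz.2.2
    · rintro (hz | hz)
      · exact hz.2.1 rfl
      · exact hz.2 (Commute.refl x₀)
  have hcount : ∀ (S : Set G), S ⊆ D →
      (∑ l : ↥D, if (l : G) ∈ S then (1 : ℝ) else 0) = (S.ncard : ℝ) := by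
    intro S hS
    rw [Finset.sum_boole, Set.ncard_eq_toFinset_card']
    congr 1
    refine Finset.card_bij (fun l _ => (l : G)) (fun l hl => ?_) (fun l _ l' _ e => Subtype.ext e) ?_
    · simpa using hl
    · intro z hz
      simp only [Set.mem_toFinset] at hz
      exact ⟨⟨z, hS hz⟩, by simpa using hz, rfl⟩
  have hsym : ∀ i j : ↥D, (j : G) ∈ Dx D i ↔ (i : G) ∈ Dx D j := fun i j =>
    ⟨dx_symm i.2, dx_symm j.2⟩
  have hA2 : A * A = (((lam + 1) * (m - 1) : ℕ) : ℝ) • (1 : Matrix ↥D ↥D ℝ) - A +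
      ((lam + 1 : ℕ) : ℝ) • Matrix.of fun _ _ => (1 : ℝ) := by
    ext i j
    have hij : (A * A) i j = ((Loc D i j).ncard : ℝ) := by
      rw [Matrix.mul_apply, ← hcount (Loc D i j) fun z hz => hz.1.1]
      refine Finset.sum_congr rfl fun l _ => ?_
      simp only [A, Matrix.of_apply, Loc, Set.mem_inter_iff, hsym l j]
      by_cases e1 : (l : G) ∈ Dx D (i : G) <;> by_cases e2 : (l : G) ∈ Dx D (j : G) <;> simp [e1, e2]
    rw [hij]
    simp only [A, Matrix.add_apply, Matrix.sub_apply, Matrix.smul_apply, Matrix.one_apply,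
      Matrix.of_apply, smul_eq_mul]
    by_cases e : i = j
    · subst e
      have hm1 : 1 ≤ m := Nat.one_le_pow _ _ (by norm_num)
      rw [if_pos rfl, if_neg (fun hh => hh.2.1 rfl), Loc, Set.inter_self, hK i.2, hkm]
      push_cast [Nat.cast_sub hm1]
      ring
    · have e' : (i : G) ≠ j := fun h' => e (Subtype.ext h')
      rw [if_neg e]
      by_cases c : (j : G) ∈ Dx D i
      · rw [if_pos c, hL i.2 c]
        push_cast; ring
      · rw [if_neg c, hMu i.2 j.2 (fun hc => c ⟨j.2, e'.symm, hc⟩)]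
        push_cast; ring
  have hAJ : A * (Matrix.of fun _ _ => (1 : ℝ)) = (k : ℝ) • Matrix.of fun _ _ => (1 : ℝ) := by
    ext i j
    simp only [Matrix.mul_apply, A, Matrix.of_apply, mul_one, Matrix.smul_apply, smul_eq_mul]
    rw [hcount (Dx D i) fun z hz => hz.1, hK i.2]
  have hJA : (Matrix.of fun _ _ => (1 : ℝ)) * A = (k : ℝ) • Matrix.of fun _ _ => (1 : ℝ) := by
    ext i j
    simp only [Matrix.mul_apply, A, Matrix.of_apply, one_mul, Matrix.smul_apply, smul_eq_mul,
      mul_one, hsym]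
    rw [hcount (Dx D j) fun z hz => hz.1, hK j.2]
  have htr : Matrix.trace A = 0 := by
    refine Finset.sum_eq_zero fun i _ => ?_
    simp only [A, Matrix.diag, Matrix.of_apply]
    exact if_neg fun hh => hh.2.1 rfl
  have hm3 : 3 ≤ m := by
    rw [hmdef]
    calc 3 = 3 ^ 1 := rfl
      _ ≤ 3 ^ p := Nat.pow_le_pow_right (by norm_num) hp
  obtain ⟨q, hq⟩ : ∃ q, m = q + 3 := ⟨m - 3, by omega⟩
  obtain ⟨w, hw, hwd⟩ := srg_integral A _ k ((lam + 1) * (m - 1)) (lam + 1) hDn (by omega) htr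
    hA2 hAJ hJA (by rw [hkm, hq, show q + 3 - 1 = q + 2 by omega]; ring)
    (by
      have : k * 2 ≤ k * (m - 1) := Nat.mul_le_mul_left k (by omega)
      have hk0 : 0 < k := (Set.ncard_pos (Set.toFinite _)).mpr ⟨a₀, ha₀⟩
      intro e
      have h2 : k * (m - 1) = k := by omega
      omega)
  have hwd' : w ∣ ((m * (lam + 1) * (m - 2) : ℕ) : ℤ) := by
    convert hwd using 1
    rw [hkm, hq, show q + 3 - 1 = q + 2 by omega, show q + 3 - 2 = q + 1 by omega]
    push_cast
    ring
  obtain ⟨rfl, hlam0⟩ := params hp hdvd hw hwd'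
  refine ⟨by rw [hkm, hlam0, hmdef]; norm_num, fun a ha u hu => ?_⟩
  rw [← Set.ncard_eq_zero (Set.toFinite _), hL ha hu, hlam0]

/-! ### The symmetric group of degree five -/

theorem eq_one_of_commute_cycles : ∀ k : Equiv.Perm (Fin 5),
    Commute k (Equiv.swap 0 1 * Equiv.swap 1 2) →
      Commute k (Equiv.swap 2 3 * Equiv.swap 3 4) → k = 1 := by
  unfold Commute SemiconjBy
  decide +kernel

include h hsol hperf hT in
theorem equiv_perm_five (hsol' : ∀ N : Subgroup G, N.Normal → Group.IsSolvable ↥N → N = ⊥)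
    {u a : G} (hu : u ∈ D) (ha : a ∈ Dx D u) : Nonempty (G ≃* Equiv.Perm (Fin 5)) := by
  classical
  obtain ⟨hk, hl0⟩ := parameters h hsol hperf hT hu ha
  -- every `Dx` is one class of twins
  have hall : ∀ v ∈ D, ∀ s ∈ Dx D v, ∀ s' ∈ Dx D v, s ≠ s' → ¬ Commute s s' := by
    intro v hv s hs s' hs' hne hc
    have hmem : s' ∈ Loc D v s := ⟨hs', hs'.1, hne.symm, hc⟩
    rw [hl0 v hv s hs] at hmem
    exact hmem
  have hua : u ∈ Dx D a := dx_symm hu ha
  obtain ⟨b, hbu, tb⟩ := hT a ha.1 u hua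
  have hab : a ∈ Dx D b := dx_symm ha.1 tb.2.1
  have hbD := tb.2.1.1
  obtain ⟨c, hca, tc⟩ := hT b hbD a hab
  have hcD := tc.2.1.1
  have nac : ¬ Commute a c := hall b hbD a hab c tc.2.1 hca.symm
  have nub : ¬ Commute u b := tb.not_commute hbu.symm
  have ncu : ¬ Commute c u := by
    intro hc
    obtain ⟨e, he, -, hloc, -⟩ := exists_centre h hsol hperf hT hu hbD nub
    have h1 : a ∈ Loc D u b := ⟨ha, hab⟩
    have h2 : c ∈ Loc D u b := ⟨⟨hcD, fun e' => nub (e' ▸ tc.2.1.2.2.symm), hc.symm⟩, tc.2.1⟩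
    rw [hloc, hl0 u hu e he] at h1 h2
    simp only [insert_empty_eq, Set.mem_singleton_iff] at h1 h2
    exact hca (h2.trans h1.symm)
  let f : Fin 4 → G := ![a, c, u, b]
  have hlift : CoxeterMatrix.IsLiftable (CoxeterMatrix.A 4) f := by
    have c1 : ∀ s ∈ D, (s * s) ^ 1 = 1 := fun s hs => by rw [pow_one, h.sq s hs]
    have c2 : ∀ {s t : G}, s ∈ D → t ∈ D → Commute s t → (s * t) ^ 2 = 1 := fun hs ht hc => by
      rw [hc.mul_pow, pow_two, pow_two, h.sq _ hs, h.sq _ ht, one_mul]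
    have c3 : ∀ {s t : G}, s ∈ D → t ∈ D → ¬ Commute s t → (s * t) ^ 3 = 1 := fun hs ht hc =>
      (h.or3 _ hs _ ht).resolve_left hc
    intro i j
    fin_cases i <;> fin_cases j <;> simp [f, CoxeterMatrix.A]
    all_goals first
      | exact h.sq _ ha.1
      | exact h.sq _ hcD
      | exact h.sq _ hu
      | exact h.sq _ hbD
      | exact c3 ha.1 hcD nac
      | exact c3 hcD ha.1 fun e => nac e.symm
      | exact c3 hcD hu ncu
      | exact c3 hu hcD fun e => ncu e.symm
      | exact c3 hu hbD nub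
      | exact c3 hbD hu fun e => nub e.symm
      | exact c2 ha.1 hu ha.2.2.symm
      | exact c2 hu ha.1 ha.2.2
      | exact c2 ha.1 hbD hab.2.2.symm
      | exact c2 hbD ha.1 hab.2.2
      | exact c2 hcD hbD tc.2.1.2.2.symm
      | exact c2 hbD hcD tc.2.1.2.2
  obtain ⟨cs, -⟩ := CoxeterTypeA.exists_coxeterSystem 4
  let φ : Equiv.Perm (Fin 5) →* G := cs.lift ⟨f, hlift⟩
  have hf : ∀ i, f i ∈ φ.range := fun i => ⟨cs.simple i, cs.lift_apply_simple hlift i⟩
  set X := φ.range with hX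
  have haX : a ∈ X := hf 0
  have hcX : c ∈ X := hf 1
  have huX : u ∈ X := hf 2
  have hbX : b ∈ X := hf 3
  -- the three members of `Dx a` lie in `X`
  have hDa : Dx D a ⊆ (X : Set G) := by
    have h3 : (u * b * u) ∈ Dx D a := refl_dx h hua tb.2.1
    have hne1 : u * b * u ≠ u := by
      intro e
      have h4 := congrArg (fun z => u * z * u) e
      simp only [h.refl_refl hu, h.sq u hu, one_mul] at h4
      exact hbu h4
    have hne2 : u * b * u ≠ b := fun e => h.not_commute_third hu nub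
      (by
        have : u * b = b * u := by
          conv_rhs => rw [← e]
          rw [mul_assoc, mul_assoc, h.sq u hu, mul_one]
        exact absurd this nub)
    have hsub : ({u, b, u * b * u} : Set G) ⊆ Dx D a := by
      rintro z (rfl | rfl | rfl)
      exacts [hua, tb.2.1, h3]
    have hcard : ({u, b, u * b * u} : Set G).ncard = 3 := by
      rw [Set.ncard_eq_three]
      exact ⟨_, _, _, hbu.symm, hne1.symm, hne2.symm, rfl⟩
    have heq := Set.eq_of_subset_of_ncard_le hsub
      (by rw [hcard, h.ncard_dx ha.1 hu, hk]) (Set.toFinite _)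
    rw [← heq]
    rintro z (rfl | rfl | rfl)
    exacts [huX, hbX, X.mul_mem (X.mul_mem huX hbX) huX]
  -- each of them is conjugate to `a` inside `X`
  have hswap : ∀ {s t : G}, s ∈ D → t ∈ D → ¬ Commute s t → s ∈ X → t ∈ X →
      ∃ g ∈ X, g * s * g⁻¹ = t := by
    intro s t hs ht hn hsX htX
    refine ⟨s * t * s, X.mul_mem (X.mul_mem hsX htX) hsX, ?_⟩
    rw [h.inv_eq (h.refl_mem hs ht)]
    calc s * t * s * s * (s * t * s) = s * t * (s * s) * (s * t * s) := by group
      _ = s * (t * s * t) * s := by rw [h.sq s hs]; group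
      _ = t := by rw [← h.braid hs ht hn, h.refl_refl hs]
  have hconj : ∀ d ∈ Dx D a, ∃ g ∈ X, g * a * g⁻¹ = d := by
    intro d hd
    obtain ⟨g1, hg1, e1⟩ := hswap ha.1 hcD nac haX hcX
    obtain ⟨g2, hg2, e2⟩ := hswap hcD hu ncu hcX huX
    have hau' : g2 * g1 * a * (g2 * g1)⁻¹ = u := by
      calc g2 * g1 * a * (g2 * g1)⁻¹ = g2 * (g1 * a * g1⁻¹) * g2⁻¹ := by group
        _ = u := by rw [e1, e2]
    by_cases e : d = u
    · exact ⟨g2 * g1, X.mul_mem hg2 hg1, e ▸ hau'⟩
    obtain ⟨g3, hg3, e3⟩ := hswap hu hd.1 (hall a ha.1 u hua d hd (Ne.symm e)) huX (hDa hd)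
    refine ⟨g3 * (g2 * g1), X.mul_mem hg3 (X.mul_mem hg2 hg1), ?_⟩
    calc g3 * (g2 * g1) * a * (g3 * (g2 * g1))⁻¹
        = g3 * (g2 * g1 * a * (g2 * g1)⁻¹) * g3⁻¹ := by group
      _ = d := by rw [hau', e3]
  have hsurj : X = ⊤ := by
    rw [eq_top_iff, ← h.gen, Subgroup.closure_le]
    intro z hz
    obtain ⟨d, hd, hda, hdz⟩ := near_all h hperf ha.1 hz
    by_cases e : z = a
    · exact e ▸ haX
    by_cases e' : d = a
    · subst e'
      exact hDa ⟨hz, e, hdz⟩
    by_cases e'' : z = d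
    · subst e''
      exact hDa ⟨hz, e, hda.symm⟩
    obtain ⟨g, hg, hgd⟩ := hconj d ⟨hd, e', hda.symm⟩
    have hzd : z ∈ Dx D d := ⟨hz, e'', hdz⟩
    rw [← hgd, h.dx_conj] at hzd
    obtain ⟨z', hz', rfl⟩ := hzd
    exact X.mul_mem (X.mul_mem hg (hDa hz')) (X.inv_mem hg)
  have hs : Function.Surjective φ := MonoidHom.range_eq_top.mp hsurj
  refine ⟨(MulEquiv.ofBijective φ ⟨?_, hs⟩).symm⟩
  rw [← MonoidHom.ker_eq_bot_iff]
  set K := φ.ker
  haveI : IsSimpleGroup (alternatingGroup (Fin 5)) := alternatingGroup.isSimpleGroup_five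
  rcases (inferInstance : (K.subgroupOf (alternatingGroup (Fin 5))).Normal).eq_bot_or_eq_top with
    hK | hK
  · -- `K` meets the alternating group trivially, so is central
    rw [eq_bot_iff]
    intro k hk
    have hcomm : ∀ x ∈ alternatingGroup (Fin 5), Commute k x := by
      intro x hx
      have h1 : k * x * k⁻¹ * x⁻¹ ∈ alternatingGroup (Fin 5) :=
        mul_mem ((inferInstance : (alternatingGroup (Fin 5)).Normal).conj_mem x hx k) (inv_mem hx)
      have h2 : k * x * k⁻¹ * x⁻¹ ∈ K := by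
        rw [show k * x * k⁻¹ * x⁻¹ = k * (x * k⁻¹ * x⁻¹) by group]
        exact mul_mem hk ((inferInstance : K.Normal).conj_mem _ (inv_mem hk) x)
      have h3 : (⟨_, h1⟩ : alternatingGroup (Fin 5)) ∈ K.subgroupOf _ := mem_subgroupOf.mpr h2
      rw [hK, mem_bot] at h3
      have h4 := congrArg Subtype.val h3
      simp only [Subgroup.coe_one] at h4
      exact mul_inv_eq_iff_eq_mul.mp (mul_inv_eq_one.mp h4)
    rw [mem_bot]
    refine eq_one_of_commute_cycles k (hcomm _ ?_) (hcomm _ ?_) <;> rw [Equiv.Perm.mem_alternatingGroup] <;> decide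
  · exfalso
    have hA : alternatingGroup (Fin 5) ≤ K := subgroupOf_eq_top.mp hK
    haveI : Group.IsSolvable G := by
      have hcG : ∀ x y : G, x * y = y * x := by
        intro x y
        obtain ⟨p, rfl⟩ := hs x
        obtain ⟨q, rfl⟩ := hs y
        have hpq : p * q * p⁻¹ * q⁻¹ ∈ K := hA (by
          rw [Equiv.Perm.mem_alternatingGroup, map_mul, map_mul, map_mul, map_inv, map_inv]
          rw [mul_comm (Equiv.Perm.sign p) (Equiv.Perm.sign q)]
          group)
        rw [MonoidHom.mem_ker, map_mul, map_mul, map_mul, map_inv, map_inv] at hpq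
        exact mul_inv_eq_iff_eq_mul.mp (mul_inv_eq_one.mp hpq)
      exact Group.isSolvable_of_comm hcG
    have h1 := hsol' ⊤ inferInstance inferInstance
    have h2 : a ∈ (⊥ : Subgroup G) := h1 ▸ mem_top a
    rw [mem_bot] at h2
    exact nac (h2 ▸ Commute.one_left c)

omit [Finite G] in
/-- The transpositions commuting with `x` and generating a subgroup with non-central odd core
contain twins. -/
theorem exists_twin_of_oddCore (h : TC D) {x : G} (hx : x ∈ D)
    (hO : ¬ Cfsg.oddCore ↥(Subgroup.closure (Dx D x)) ≤ center ↥(Subgroup.closure (Dx D x)))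
    [Finite G] : ∃ y y', y' ≠ y ∧ Tw D x y y' := by
  classical
  haveI : Fact (Nat.Prime 2) := ⟨Nat.prime_two⟩
  set H := Subgroup.closure (Dx D x) with hH
  haveI : (Cfsg.oddCore ↥H).Normal := HallCore.pPrimeCore_normal 2 ↥H
  have hodd : Odd (Nat.card (Cfsg.oddCore ↥H)) :=
    Nat.coprime_two_right.1 (HallCore.coprime_card_pPrimeCore 2 ↥H)
  obtain ⟨n, hn, hnc⟩ := SetLike.not_le_iff_exists.mp hO
  obtain ⟨y, hy, hny⟩ : ∃ y ∈ Dx D x, ¬ Commute (n : G) y := by
    by_contra hall
    push Not at hall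
    apply hnc
    rw [mem_center_iff]
    intro z
    have hle : H ≤ centralizer ({(n : G)} : Set G) := (Subgroup.closure_le _).mpr fun y hy =>
      mem_centralizer_singleton_iff.mpr (hall y hy).symm.eq
    exact Subtype.ext (mem_centralizer_singleton_iff.mp (hle z.2))
  have hnx : (n : G) * x * (n : G)⁻¹ = x := by
    refine conj_of_commute (mem_centralizer_singleton_iff.mp ?_)
    exact (Subgroup.closure_le _).mpr (fun z hz => mem_centralizer_singleton_iff.mpr
      hz.2.2.symm.eq) n.2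
  set y' := (n : G) * y * (n : G)⁻¹ with hy'
  have hy'x : y' ∈ Dx D x := by
    have := mem_dx_conj h (n : G) hy
    rwa [hnx] at this
  have hne : y' ≠ y := fun e => hny (commute_of_conj e)
  let ι : ∀ {z : G}, z ∈ Dx D x → ↥H := fun {z} hz => ⟨z, Subgroup.subset_closure hz⟩
  have hp : ι hy * ι hy'x ∈ Cfsg.oddCore ↥H := by
    have e : ι hy * ι hy'x = (ι hy * n * (ι hy)⁻¹) * n⁻¹ := by
      refine Subtype.ext ?_
      show y * y' = y * (n : G) * y⁻¹ * (n : G)⁻¹
      rw [hy', h.inv_eq hy.1]; group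
    rw [e]
    exact mul_mem ((inferInstance : (Cfsg.oddCore ↥H).Normal).conj_mem _ hn _) (inv_mem hn)
  have hp' : ι hy'x * ι hy ∈ Cfsg.oddCore ↥H := by
    have := inv_mem hp
    convert this using 1
    refine Subtype.ext ?_
    show y' * y = (y * y')⁻¹
    rw [mul_inv_rev, h.inv_eq hy.1, h.inv_eq hy'x.1]
  -- an element of odd core squaring to one is trivial
  have hkey : ∀ q : ↥H, q ∈ Cfsg.oddCore ↥H → q ^ 2 = 1 → q = 1 := by
    intro q hq hq2
    by_contra hq1
    have h1 : orderOf (⟨q, hq⟩ : Cfsg.oddCore ↥H) = 2 :=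
      orderOf_eq_prime (Subtype.ext hq2) (fun e => hq1 (congrArg Subtype.val e))
    have h2 := h1 ▸ orderOf_dvd_natCard (⟨q, hq⟩ : Cfsg.oddCore ↥H)
    exact absurd hodd (Nat.not_odd_iff_even.mpr (even_iff_two_dvd.mpr h2))
  have incl : ∀ {y y' : G} (hy : y ∈ Dx D x) (hy' : y' ∈ Dx D x),
      ι hy * ι hy' ∈ Cfsg.oddCore ↥H → y' ≠ y → Loc D x y ⊆ Loc D x y' := by
    intro y y' hy hy' hm hne d hd
    obtain ⟨hdx, hdy⟩ := hd
    have hdy' : d ≠ y' := by
      intro e
      subst e
      apply hne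
      have h2 : (ι hy * ι hy') ^ 2 = 1 := Subtype.ext (by
        show (y * d) ^ 2 = 1
        rw [hdy.2.2.mul_pow, pow_two, pow_two, h.sq y hy.1, h.sq d hdy.1, one_mul])
      have h3 : y * d = 1 := congrArg Subtype.val (hkey _ hm h2)
      rw [← inv_eq_of_mul_eq_one_right h3, h.inv_eq hy.1]
    refine ⟨hdx, hdx.1, hdy', ?_⟩
    by_contra hn'
    have h3 := (h.or3 d hdx.1 y' hy'.1).resolve_left fun c => hn' c.symm
    set w : ↥H := ι hdx * ι hy
    have hw2 : w ^ 2 = 1 := Subtype.ext (by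
      show (d * y) ^ 2 = 1
      rw [hdy.2.2.symm.mul_pow, pow_two, pow_two, h.sq d hdx.1, h.sq y hy.1, one_mul])
    have hw3 : w ^ 3 ∈ Cfsg.oddCore ↥H := by
      rw [← QuotientGroup.eq_one_iff]
      have e : ι hdx * ι hy' = w * (ι hy * ι hy') := Subtype.ext (by
        show d * y' = d * y * (y * y')
        rw [mul_assoc d y, ← mul_assoc y y, h.sq y hy.1, one_mul])
      have h4 : (ι hdx * ι hy') ^ 3 = 1 := Subtype.ext h3
      rw [e] at h4
      have h5 := congrArg (QuotientGroup.mk' (Cfsg.oddCore ↥H)) h4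
      rw [map_pow, map_mul, map_one, QuotientGroup.mk'_apply, QuotientGroup.mk'_apply,
        (QuotientGroup.eq_one_iff _).mpr hm, mul_one] at h5
      rw [QuotientGroup.mk_pow]
      exact h5
    have hw : w ∈ Cfsg.oddCore ↥H := by
      have : w ^ 3 = w := by rw [pow_succ, hw2, one_mul]
      rwa [this] at hw3
    have h6 : d * y = 1 := congrArg Subtype.val (hkey w hw hw2)
    apply hdy.2.1
    rw [← h.inv_eq hdx.1]
    exact (inv_eq_of_mul_eq_one_right h6)
  exact ⟨y, y', hne, hy, hy'x, Set.Subset.antisymm (incl hy hy'x hp hne) (incl hy'x hy hp' hne.symm)⟩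

end Cfsg.Agent.FischerTwins54
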