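import Mathlib
import Cfsg.Agent.Lib.ZStarTheorem

/-!
# Conjugates of an involution whose pairwise products have `p`-power order, `p` odd
-/

set_option autoImplicit false

open scoped Pointwise

namespace Cfsg.Agent.ZStarOddP

open Cfsg

universe u

variable {G : Type u} [Group G] [Finite G]

theorem mul_mem_pCore {p : ℕ} (hp : p.Prime) (hp2 : p ≠ 2) {d : G} (hd : orderOf d = 2)
    (hprod : ∀ a ∈ conjugatesOf d, ∀ b ∈ conjugatesOf d, ∃ k : ℕ, orderOf (a * b) = p ^ k)
    {a b : G} (ha : a ∈ conjugatesOf d) (hb : b ∈ conjugatesOf d) : a * b ∈ pCore p G := by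
  classical
  have : Fact p.Prime := ⟨hp⟩
  have hd2 : d * d = 1 := IsolatedInv.sq_of_orderOf_two hd
  have hdi : d⁻¹ = d := IsolatedInv.inv_eq_self_of_sq hd2
  have hcd : ∀ g : G, g * d * g⁻¹ ∈ conjugatesOf d := fun g => isConj_iff.2 ⟨g, rfl⟩
  have hz : IsIsolatedInvolution d := by
    refine ⟨hd, fun g hg => ?_⟩
    obtain ⟨k, hk⟩ := hprod _ (hcd g) _ (mem_conjugatesOf_self)
    have h2 : orderOf (g * d * g⁻¹ * d) ∣ 2 := orderOf_dvd_iff_pow_eq_one.2 (by
      rw [pow_two, hg.mul_mul_mul_comm, IsolatedInv.conj_sq hd g, hd2, one_mul])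
    rw [hk] at h2
    have h1 : p ^ k = 1 :=
      (((Nat.coprime_primes hp Nat.prime_two).2 hp2).pow_left k).eq_one_of_dvd h2
    rw [h1, orderOf_eq_one_iff, mul_eq_one_iff_eq_inv, hdi] at hk
    exact hk
  set O := pPrimeCore 2 G with hO
  have : O.Normal := HallCore.pPrimeCore_normal 2 G
  let ψ : MulAut O := MulAut.conjNormal d
  have hψ : ∀ x : O, ((ψ x : O) : G) = d * x * d⁻¹ := fun x => MulAut.conjNormal_apply d x
  have hψψ : ψ * ψ = 1 := by rw [← map_mul, hd2, map_one]
  have hfix : ∀ r : ℕ, r.Prime → ∃ R : Sylow r O, ∀ x ∈ R, ψ x ∈ R := by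
    intro r hr
    have : Fact r.Prime := ⟨hr⟩
    have : Fact (Nat.Prime 2) := ⟨Nat.prime_two⟩
    have := Fintype.ofFinite (Sylow r O)
    have hndvd : ¬ 2 ∣ Fintype.card (Sylow r O) := fun h => by
      obtain ⟨R⟩ : Nonempty (Sylow r O) := inferInstance
      rw [← Nat.card_eq_fintype_card] at h
      have h3 : 2 ∣ Nat.card O := h.trans (R.card_dvd_index.trans
        (Subgroup.index_dvd_card (R : Subgroup O)))
      exact (Nat.not_even_iff_odd.2 ZStarTheorem.odd_card_pPrimeCore) (even_iff_two_dvd.2 h3)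
    let σ : Equiv.Perm (Sylow r O) := MulAction.toPermHom (MulAut O) (Sylow r O) ψ
    have hσ : σ ^ 2 ^ 1 = 1 := by
      show (MulAction.toPermHom (MulAut O) (Sylow r O) ψ) ^ 2 ^ 1 = 1
      rw [pow_one, pow_two, ← map_mul, hψψ, map_one]
    obtain ⟨R, hR⟩ := Equiv.Perm.exists_fixed_point_of_prime hndvd hσ
    refine ⟨R, fun x hx => ?_⟩
    have h1 : ((ψ • R : Sylow r O) : Subgroup O) = R := congrArg _ hR
    rw [Sylow.pointwise_smul_def] at h1
    have h2 : ψ • x ∈ ψ • (R : Subgroup O) := Subgroup.smul_mem_pointwise_smul x ψ _ hx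
    rw [h1] at h2
    exact h2
  set C := MonoidHom.eqLocus ψ.toMonoidHom (MonoidHom.id O) with hC
  obtain ⟨P, hP⟩ := hfix p hp
  have hindex : ∀ r : ℕ, r.Prime → r ∣ C.index → r = p := by
    intro r hr hrC
    by_contra hne
    have : Fact r.Prime := ⟨hr⟩
    obtain ⟨R, hR⟩ := hfix r hr
    have hle : (R : Subgroup O) ≤ C := by
      intro x hx
      show ψ x = x
      have hy : ψ x * x⁻¹ ∈ R := mul_mem (hR x hx) (inv_mem hx)
      obtain ⟨k, hk⟩ := hprod d mem_conjugatesOf_self _ (hcd (x : G))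
      obtain ⟨j, hj⟩ := (IsPGroup.iff_orderOf.1 R.isPGroup') ⟨_, hy⟩
      rw [Subgroup.orderOf_mk] at hj
      have e : ((ψ x * x⁻¹ : O) : G) = d * ((x : G) * d * (x : G)⁻¹) := by
        rw [Subgroup.coe_mul, hψ, Subgroup.coe_inv, hdi]
        group
      have h1 : orderOf (ψ x * x⁻¹) = 1 := by
        refine Nat.eq_one_of_dvd_coprimes
          (((Nat.coprime_primes hr hp).2 hne).pow j k) ?_ ?_
        · rw [hj]
        · rw [← Subgroup.orderOf_coe, e, hk]
      rwa [orderOf_eq_one_iff, mul_inv_eq_one] at h1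
    exact R.not_dvd_index (hrC.trans (Subgroup.index_dvd_of_le hle))
  have hPC : ∀ c : O, ∃ y ∈ P, y⁻¹ * c ∈ C := by
    set D := C.subgroupOf (P : Subgroup O) with hD
    let f : (P : Subgroup O) ⧸ D → O ⧸ C := Quotient.map' (fun y => (y : O)) (fun y y' h => by
      rw [QuotientGroup.leftRel_apply] at h ⊢
      exact h)
    have hf : Function.Injective f := by
      intro y y'
      refine Quotient.inductionOn₂' y y' fun y y' h => ?_
      have h' : (QuotientGroup.mk (y : O) : O ⧸ C) = QuotientGroup.mk (y' : O) := h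
      rw [QuotientGroup.eq] at h'
      exact QuotientGroup.eq.2 h'
    have hle : C.index ≤ D.index := by
      have hdvdC : Nat.card D ∣ Nat.card C :=
        Subgroup.card_dvd_of_injective
          ((P : Subgroup O).subtype.comp D.subtype |>.codRestrict C fun x => x.2)
          (fun x y h => Subtype.ext (Subtype.ext (congrArg Subtype.val h :)))
      have hCi : C.index = p ^ C.index.primeFactorsList.length :=
        Nat.eq_prime_pow_of_unique_prime_dvd Subgroup.index_ne_zero_of_finite (hindex _)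
      obtain ⟨j, hj⟩ := (IsPGroup.iff_card.1 (P.isPGroup'.to_subgroup D))
      have hdvd : C.index * Nat.card D ∣ Nat.card O := by
        rw [← C.index_mul_card]
        exact mul_dvd_mul_left _ hdvdC
      rw [hCi, hj, ← pow_add, hp.pow_dvd_iff_le_factorization Nat.card_pos.ne'] at hdvd
      have h3 : C.index * Nat.card D ∣ D.index * Nat.card D := by
        rw [D.index_mul_card, P.card_eq_multiplicity, hCi, hj, ← pow_add]
        exact pow_dvd_pow p hdvd
      exact Nat.le_of_dvd (Nat.pos_of_ne_zero Subgroup.index_ne_zero_of_finite)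
        ((Nat.mul_dvd_mul_iff_right Nat.card_pos).1 h3)
    have hsurj : Function.Surjective f := by
      refine (hf.bijective_of_nat_card_le hle).2
    intro c
    obtain ⟨y, hy⟩ := hsurj (QuotientGroup.mk c)
    induction y using Quotient.inductionOn' with
    | h y => exact ⟨y, y.2, QuotientGroup.eq.1 hy⟩
  set P' := (P : Subgroup O).map O.subtype with hP'
  have hconj : ∀ a ∈ conjugatesOf d, d * a ∈ P' := by
    intro a ha
    obtain ⟨g, rfl⟩ := isConj_iff.1 ha
    have hmem : d * (g * d * g⁻¹) ∈ O := by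
      have := ZStarTheorem.commutator_mem hz g
      rwa [hdi, mul_assoc d g d, mul_assoc d (g * d) g⁻¹] at this
    have hodd : Odd (orderOf (d * (g * d * g⁻¹))) :=
      ZStarTheorem.odd_card_pPrimeCore.of_dvd_nat (Subgroup.orderOf_dvd_natCard _ hmem)
    obtain ⟨c, hc, hceq⟩ := IsolatedInv.exists_conj_of_odd hd2 (IsolatedInv.conj_sq hd g) hodd
    obtain ⟨y, hy, hyc⟩ := hPC ⟨c, (Subgroup.zpowers_le.2 hmem) hc⟩
    have h1 := congrArg Subtype.val (show ψ _ = _ from hyc)
    rw [hψ] at h1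
    simp only [MonoidHom.id_apply, Subgroup.coe_mul, Subgroup.coe_inv] at h1
    have h2 : (y : G) * d * (y : G)⁻¹ = g * d * g⁻¹ := by
      rw [← hceq]
      have h4 : d * ((y : G)⁻¹ * c) = ((y : G)⁻¹ * c) * d := mul_inv_eq_iff_eq_mul.1 h1
      calc (y : G) * d * (y : G)⁻¹ = y * (d * ((y : G)⁻¹ * c)) * c⁻¹ := by group
        _ = y * (((y : G)⁻¹ * c) * d) * c⁻¹ := by rw [h4]
        _ = c * d * c⁻¹ := by group
    refine ⟨ψ y * y⁻¹, mul_mem (hP y hy) (inv_mem hy), ?_⟩
    rw [← h2, Subgroup.coe_subtype, Subgroup.coe_mul, hψ, Subgroup.coe_inv, hdi]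
    group
  set S : Set G := {x | ∃ a ∈ conjugatesOf d, ∃ b ∈ conjugatesOf d, x = a * b} with hS
  have hSP : Subgroup.normalClosure S ≤ P' := by
    rw [Subgroup.normalClosure, Subgroup.closure_le]
    intro x hx
    obtain ⟨_, ⟨a, ha, b, hb, rfl⟩, hx⟩ := Group.mem_conjugatesOfSet_iff.1 hx
    obtain ⟨g, rfl⟩ := isConj_iff.1 hx
    have hga : g * a * g⁻¹ ∈ conjugatesOf d := ha.trans (isConj_iff.2 ⟨g, rfl⟩)
    have hgb : g * b * g⁻¹ ∈ conjugatesOf d := hb.trans (isConj_iff.2 ⟨g, rfl⟩)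
    obtain ⟨g', hg'⟩ := isConj_iff.1 hga
    have hai : (g * a * g⁻¹)⁻¹ = g * a * g⁻¹ := by
      rw [← hg']; exact IsolatedInv.inv_eq_self_of_sq (IsolatedInv.conj_sq hd g')
    have h5 := mul_mem (inv_mem (hconj _ hga)) (hconj _ hgb)
    rw [mul_inv_rev, hdi, hai, mul_assoc (g * a * g⁻¹), ← mul_assoc d d, hd2, one_mul] at h5
    rwa [show g * (a * b) * g⁻¹ = g * a * g⁻¹ * (g * b * g⁻¹) by group]
  exact HallCore.le_pCore ((P.isPGroup'.map O.subtype).to_le hSP)
    (Subgroup.subset_normalClosure ⟨a, ha, b, hb, rfl⟩)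

end Cfsg.Agent.ZStarOddP
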