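import Cfsg.Prelude.Def_FischerSpaces
import Cfsg.Prelude.Def_Solvable
import Cfsg.Agent.Lib.FischerDegen99
import Cfsg.Agent.Lib.FischerGlue6
import Cfsg.Agent.S1615
import Cfsg.Agent.S1618
import Cfsg.Agent.S5361

/-!
# From the central-core classification to Fischer's theorem

A class of 3-transpositions with trivial centre and simple derived group either has no commuting
pair, and is then the symmetric group of degree three, or is primitive; when a core of the local
group is not central it is the symmetric group of degree five, a symplectic or a unitary group.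
-/

set_option autoImplicit false

open Cfsg

namespace Cfsg.Agent.FischerTop99

open Subgroup
open scoped commutatorElement

universe u

/-- The conclusions of the central-core classification. -/
def CentralCases (G : Type u) [Group G] (D : Set G) : Prop :=
  (∃ n : ℕ, 7 ≤ n ∧ ∃ e : G ≃* Equiv.Perm (Fin n), e '' D = {σ : Equiv.Perm (Fin n) | σ.IsSwap}) ∨ ((∃ m : ℕ, 3 ≤ m ∧ ∃ e : G ≃* ↥(Cfsg.isometryGroup (ZMod 2) (Cfsg.quadFormPlus m (ZMod 2))), e '' D = {g : ↥(Cfsg.isometryGroup (ZMod 2) (Cfsg.quadFormPlus m (ZMod 2))) | (((g : GL (Fin m ⊕ Fin m) (ZMod 2)) : Matrix (Fin m ⊕ Fin m) (Fin m ⊕ Fin m) (ZMod 2)) - 1).rank = 1}) ∨ (∃ m : ℕ, 2 ≤ m ∧ ∃ e : G ≃* ↥(Cfsg.isometryGroup (ZMod 2) (Cfsg.quadFormMinus m (ZMod 2) 1 1)), e '' D = {g : ↥(Cfsg.isometryGroup (ZMod 2) (Cfsg.quadFormMinus m (ZMod 2) 1 1)) | (((g : GL ((Fin m ⊕ Fin m) ⊕ Fin 2) (ZMod 2)) : Matrix ((Fin m ⊕ Fin m) ⊕ Fin 2) ((Fin m ⊕ Fin m) ⊕ Fin 2) (ZMod 2)) - 1).rank = 1})) ∨ (∃ n : ℕ, 5 ≤ n ∧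 ∃ Q : QuadraticForm (ZMod 3) (Fin n → ZMod 3), (QuadraticMap.polarBilin Q).Nondegenerate ∧ ∃ c : ZMod 3, c ≠ 0 ∧ ∃ e : G ≃* ↥(Cfsg.reflectionSubgroup (⇑Q) c) ⧸ Subgroup.center ↥(Cfsg.reflectionSubgroup (⇑Q) c), e '' D = (QuotientGroup.mk : ↥(Cfsg.reflectionSubgroup (⇑Q) c) → _) '' {g : ↥(Cfsg.reflectionSubgroup (⇑Q) c) | (g : ↥(Cfsg.isometryGroup (ZMod 3) (⇑Q))) ∈ Cfsg.reflectionsOfNorm (⇑Q) c}) ∨ (Cfsg.IsOfTypeM22 G D ∨ Cfsg.IsOfTypeM23 G D ∨ Cfsg.IsOfTypeM24 G D)

/-- The central-core classification at one group. -/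
def CentralClassification (G : Type u) [Group G] (D : Set G) : Prop :=
  Cfsg.IsPrimitiveUnderConj D → ∀ d ∈ D, (∃ b ∈ D, b ≠ d ∧ Commute d b) →
    Cfsg.pCore 3 ↥(Subgroup.closure {y : G | y ∈ D ∧ y ≠ d ∧ Commute d y}) ≤ Subgroup.center ↥(Subgroup.closure {y : G | y ∈ D ∧ y ≠ d ∧ Commute d y}) →
    Cfsg.pCore 2 ↥(Subgroup.closure {y : G | y ∈ D ∧ y ≠ d ∧ Commute d y}) ≤ Subgroup.center ↥(Subgroup.closure {y : G | y ∈ D ∧ y ≠ d ∧ Commute d y}) →
    CentralCases G D

variable {G : Type u} [Group G] {D : Set G}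

theorem isGroup_of_class (hD : Cfsg.IsThreeTranspositionClass D) :
    Cfsg.IsThreeTranspositionGroup D :=
  ⟨hD.1, (ThreeTransp.tc_of_class hD).conj, hD.2.2⟩

/-- In a symmetric group of degree at most five, a generating class of involutions is the class of
transpositions. -/
theorem swaps_of_small {n : ℕ} (hn : n ≤ 5) (e : G ≃* Equiv.Perm (Fin n))
    (hD : Cfsg.IsThreeTranspositionClass D) (hn2 : 2 ≤ n) :
    e '' D = {σ : Equiv.Perm (Fin n) | σ.IsSwap} := by
  obtain ⟨d, hd, hcls⟩ := hD.2.1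
  have hgen : Subgroup.closure (e '' D) = ⊤ := by
    rw [show e '' D = e.toMonoidHom '' D from rfl, ← MonoidHom.map_closure, hD.2.2,
      Subgroup.map_top_of_surjective _ e.surjective]
  have hsign : Equiv.Perm.sign (e d) = -1 := by
    rcases Int.units_eq_one_or (Equiv.Perm.sign (e d)) with h | h
    · exfalso
      have hle : Subgroup.closure (e '' D) ≤ (Equiv.Perm.sign (α := Fin n)).ker := by
        rw [closure_le]
        rintro _ ⟨x, hx, rfl⟩
        rw [hcls] at hx
        obtain ⟨g, rfl⟩ := isConj_iff.mp hx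
        show Equiv.Perm.sign (e (g * d * g⁻¹)) = 1
        simp [h]
      have hs : Equiv.swap (⟨0, by omega⟩ : Fin n) ⟨1, by omega⟩ ∈
          (Equiv.Perm.sign (α := Fin n)).ker := hle (hgen ▸ mem_top _)
      rw [MonoidHom.mem_ker, Equiv.Perm.sign_swap (by simp)] at hs
      exact absurd hs (by decide)
    · exact h
  have hord : orderOf (e d) = 2 := by rw [MulEquiv.orderOf_eq, hD.1.1 d hd]
  obtain ⟨k, hk⟩ := Equiv.Perm.cycleType_prime_order (hord ▸ Nat.prime_two)
  rw [hord] at hk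
  have hsum : (e d).cycleType.sum ≤ n := by
    rw [Equiv.Perm.sum_cycleType]
    exact le_trans (Finset.card_le_univ _) (by simp)
  rw [hk, Multiset.sum_replicate, smul_eq_mul] at hsum
  have hk1 : k = 0 := by
    by_contra hne
    obtain rfl : k = 1 := by omega
    rw [Equiv.Perm.sign_of_cycleType, hk] at hsign
    revert hsign
    decide
  subst hk1
  have hswap : (e d).IsSwap := Equiv.Perm.card_support_eq_two.mp (by
    rw [← Equiv.Perm.sum_cycleType, hk]; rfl)
  ext σ
  constructor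
  · rintro ⟨x, hx, rfl⟩
    rw [hcls] at hx
    obtain ⟨g, rfl⟩ := isConj_iff.mp hx
    rw [map_mul, map_mul, map_inv]
    refine Equiv.Perm.card_support_eq_two.mp ?_
    rw [Equiv.Perm.card_support_conj]
    exact Equiv.Perm.card_support_eq_two.mpr hswap
  · intro hσ
    obtain ⟨a, b, hab, he⟩ := hswap
    obtain ⟨x, y, hxy, rfl⟩ := hσ
    obtain ⟨g, hg⟩ := isConj_iff.mp (Equiv.Perm.isConj_swap hab hxy)
    obtain ⟨g, rfl⟩ := e.surjective g
    refine ⟨g * d * g⁻¹, ?_, ?_⟩
    · rw [hcls]; exact isConj_iff.mpr ⟨g, rfl⟩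
    · rw [map_mul, map_mul, map_inv, he, hg]

/-- Without commuting pairs the group is the symmetric group of degree three. -/
theorem perm_three [Finite G] (hD : Cfsg.IsThreeTranspositionClass D)
    (hZ : Subgroup.center G = ⊥) (hsimple : IsSimpleGroup (commutator G))
    (hno : ∀ a ∈ D, ∀ b ∈ D, a ≠ b → ¬ Commute a b) :
    ∃ e : G ≃* Equiv.Perm (Fin 3), e '' D = {σ : Equiv.Perm (Fin 3) | σ.IsSwap} := by
  classical
  have tc := ThreeTransp.tc_of_class hD
  have h3 : ∀ a ∈ D, ∀ b ∈ D, a ≠ b → orderOf (a * b) = 3 := by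
    intro a ha b hb hne
    refine orderOf_eq_prime ((tc.or3 a ha b hb).resolve_left (hno a ha b hb hne)) fun h => ?_
    exact hne (by rw [← tc.inv_eq hb, eq_inv_of_mul_eq_one_left h])
  haveI hnil : Group.IsNilpotent ↥(commutator G) := S1618.result 3 Nat.prime_three (by norm_num)
    hD.1.1 hD.2.1 hD.2.2 fun x hx y hy hne => ⟨1, by rw [h3 x hx y hy hne, pow_one]⟩
  haveI := hsimple
  have hcomm : ∀ x y : ↥(commutator G), x * y = y * x :=
    IsSimpleGroup.comm_iff_isSolvable.mpr inferInstance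
  letI : CommGroup ↥(commutator G) :=
    { (inferInstance : Group ↥(commutator G)) with mul_comm := hcomm }
  have hp : (Nat.card ↥(commutator G)).Prime := IsSimpleGroup.prime_card
  have hprod : ∀ a ∈ D, ∀ b ∈ D, a * b ∈ commutator G := by
    intro a ha b hb
    obtain ⟨g, rfl⟩ := tc.trans a ha b hb
    have : ⁅a, g⁆ ∈ commutator G := commutator_mem_commutator (mem_top a) (mem_top g)
    rwa [commutatorElement_def, tc.inv_eq ha, mul_assoc, mul_assoc, ← mul_assoc g] at this
  obtain ⟨a, ha⟩ := tc.nonempty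
  obtain ⟨b, hb, hab⟩ : ∃ b ∈ D, b ≠ a := by
    by_contra h
    push Not at h
    have hle : Subgroup.closure D ≤ centralizer ({a} : Set G) := (closure_le _).mpr fun x hx => by
      rw [h x hx]; exact mem_centralizer_singleton_iff.mpr rfl
    have hac : a ∈ Subgroup.center G := mem_center_iff.mpr fun g =>
      mem_centralizer_singleton_iff.mp (hle (hD.2.2 ▸ mem_top g))
    rw [hZ, mem_bot] at hac
    have := hD.1.1 a ha
    rw [hac, orderOf_one] at this
    exact absurd this (by norm_num)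
  have hp3 : Nat.card ↥(commutator G) = 3 := by
    have hdvd : 3 ∣ Nat.card ↥(commutator G) := by
      rw [← h3 a ha b hb hab.symm, ← Subgroup.orderOf_mk (a * b) (hprod a ha b hb)]
      exact orderOf_dvd_natCard _
    exact ((Nat.prime_dvd_prime_iff_eq Nat.prime_three hp).mp hdvd).symm
  -- three members
  let φ : G →* Equiv.Perm ↥D :=
    { toFun := fun g => (MulAut.conj g).toEquiv.subtypeEquiv fun x =>
        ⟨fun hx => tc.conj g x hx, fun hx => by
          simpa [mul_assoc] using tc.conj g⁻¹ _ hx⟩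
      map_one' := Equiv.ext fun x => Subtype.ext (by simp)
      map_mul' := fun g h => Equiv.ext fun x => Subtype.ext (by simp [mul_assoc]) }
  have hinj : Function.Injective φ := by
    rw [injective_iff_map_eq_one]
    intro g hg
    have hle : Subgroup.closure D ≤ centralizer ({g} : Set G) := (closure_le _).mpr fun x hx => by
      have hx' : g * x * g⁻¹ = x := congrArg Subtype.val (DFunLike.congr_fun hg ⟨x, hx⟩ :)
      exact mem_centralizer_singleton_iff.mpr (mul_inv_eq_iff_eq_mul.mp hx').symm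
    have hgc : g ∈ Subgroup.center G := mem_center_iff.mpr fun k =>
      mem_centralizer_singleton_iff.mp (hle (hD.2.2 ▸ mem_top k))
    rwa [hZ, mem_bot] at hgc
  have hcardD : Nat.card ↥D = 3 := by
    refine le_antisymm ?_ ?_
    · rw [← hp3]
      refine Nat.card_le_card_of_injective (fun x => ⟨a * x.1, hprod a ha x.1 x.2⟩) fun x y h => ?_
      exact Subtype.ext (mul_left_cancel (congrArg Subtype.val h :))
    · have hbr : a * b * a ∈ D := by simpa [tc.inv_eq ha] using tc.conj a b hb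
      have hne1 : a * b * a ≠ b := fun h => hno a ha b hb hab.symm (by
        show a * b = b * a
        calc a * b = a * b * a * a := by rw [mul_assoc (a * b), tc.sq a ha, mul_one]
          _ = b * a := by rw [h])
      have hne2 : a * b * a ≠ a := fun h => hab (by
        calc b = a * (a * b * a) * a := by
              rw [← mul_assoc, ← mul_assoc, tc.sq a ha, one_mul, mul_assoc, tc.sq a ha, mul_one]
          _ = a := by rw [h, tc.sq a ha, one_mul])
      rw [Nat.card_coe_set_eq]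
      calc 3 = ({a, b, a * b * a} : Set G).ncard := by
            rw [Set.ncard_eq_three.mpr ⟨a, b, a * b * a, hab.symm, hne2.symm, hne1.symm, rfl⟩]
        _ ≤ D.ncard := Set.ncard_le_ncard (by
            rintro x (rfl | rfl | rfl) <;> assumption) (Set.toFinite D)
  have hcardG : 6 ∣ Nat.card G := by
    have h2 : 2 ∣ Nat.card G := hD.1.1 a ha ▸ orderOf_dvd_natCard a
    have h3' : 3 ∣ Nat.card G := hp3 ▸ card_subgroup_dvd_card (commutator G)
    omega
  obtain ⟨ψ⟩ : Nonempty (↥D ≃ Fin 3) := ⟨Finite.equivFinOfCardEq hcardD⟩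
  let f : G →* Equiv.Perm (Fin 3) := (ψ.permCongrHom).toMonoidHom.comp φ
  have hfinj : Function.Injective f := ψ.permCongrHom.injective.comp hinj
  have hbij : Function.Bijective f := (Nat.bijective_iff_injective_and_card f).mpr ⟨hfinj, by
    have hle := Nat.card_le_card_of_injective f hfinj
    have hpos : 0 < Nat.card G := Nat.card_pos
    rw [Nat.card_eq_fintype_card (α := Equiv.Perm (Fin 3)), Fintype.card_perm,
      Fintype.card_fin] at hle ⊢
    norm_num [Nat.factorial] at hle ⊢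
    omega⟩
  exact ⟨MulEquiv.ofBijective f hbij,
    swaps_of_small (by norm_num) _ hD (by norm_num)⟩

theorem pCore_three_le_oddCore (H : Type u) [Group H] [Finite H] :
    Cfsg.pCore 3 H ≤ Cfsg.oddCore H := by
  haveI : Fact (Nat.Prime 3) := ⟨Nat.prime_three⟩
  refine sSup_le_sSup fun N hN => ⟨hN.1, ?_⟩
  obtain ⟨n, hn⟩ := IsPGroup.iff_card.mp hN.2
  rw [hn]
  exact Nat.Coprime.pow_left n (by norm_num)

/-- Fischer's theorem from the central-core classification. -/
theorem main [Finite G] (hD : Cfsg.IsThreeTranspositionClass D) (hZ : Subgroup.center G = ⊥)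
    (hsimple : IsSimpleGroup (commutator G)) (H : CentralClassification G D) :
    (∃ n : ℕ, ∃ e : G ≃* Equiv.Perm (Fin n), e '' D = {σ : Equiv.Perm (Fin n) | σ.IsSwap}) ∨
    (∃ m : ℕ, ∃ e : G ≃* Matrix.symplecticGroup (Fin m) (ZMod 2), e '' D = {g : Matrix.symplecticGroup (Fin m) (ZMod 2) | ((g : Matrix (Fin m ⊕ Fin m) (Fin m ⊕ Fin m) (ZMod 2)) - 1).rank = 1}) ∨
    (∃ (n : ℕ) (F : Type) (_ : Field F) (_ : Fintype F), Fintype.card F = 4 ∧ ∃ e : G ≃* Cfsg.PSU n F 2, e '' D = (QuotientGroup.mk : ↥(Cfsg.SU n F 2) → Cfsg.PSU n F 2) '' {g : ↥(Cfsg.SU n F 2) | (((g : Matrix.SpecialLinearGroup (Fin n) F) : Matrix (Fin n) (Fin n) F) - 1).rank = 1}) ∨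
    CentralCases G D := by
  by_cases hw : ∃ a ∈ D, ∃ b ∈ D, a ≠ b ∧ Commute a b
  swap
  · push Not at hw
    exact Or.inl ⟨3, perm_three hD hZ hsimple hw⟩
  have hprim : Cfsg.IsPrimitiveUnderConj D := ((S5361.result hD hZ hw).1).mp hsimple
  obtain ⟨hsol, -, hperf⟩ := FischerGlue6.class_hyps (isGroup_of_class hD) hprim hZ hw
  obtain ⟨a, ha, b, hb, hab, hc⟩ := hw
  by_cases h3 : Cfsg.pCore 3 ↥(Subgroup.closure {y : G | y ∈ D ∧ y ≠ a ∧ Commute a y}) ≤
      Subgroup.center ↥(Subgroup.closure {y : G | y ∈ D ∧ y ≠ a ∧ Commute a y})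
  swap
  · obtain ⟨e⟩ := S1615.result hsol hperf hD a ha fun h =>
      h3 ((pCore_three_le_oddCore _).trans h)
    exact Or.inl ⟨5, e, swaps_of_small le_rfl e hD (by norm_num)⟩
  by_cases h2 : Cfsg.pCore 2 ↥(Subgroup.closure {y : G | y ∈ D ∧ y ≠ a ∧ Commute a y}) ≤
      Subgroup.center ↥(Subgroup.closure {y : G | y ∈ D ∧ y ≠ a ∧ Commute a y})
  · exact Or.inr (Or.inr (Or.inr (H hprim a ha ⟨b, hb, hab.symm, hc⟩ h3 h2)))
  rcases FischerDegen99.o2_case hsol hperf hD a ha h2 with h | ⟨n, F, iF, iF', -, hF, he⟩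
  · exact Or.inr (Or.inl h)
  · exact Or.inr (Or.inr (Or.inl ⟨n, F, iF, iF', hF, he⟩))

end Cfsg.Agent.FischerTop99
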