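import Cfsg.Agent.Lib.ThreeTransM23Prim34

/-!
# The cores of the local group in type M(24)

In a group of type M(23) whose class consists of non-trivial members a twin of a member would give a
twin inside a local quotient of type M(22), whose 2- and 3-cores are trivial. Hence in type M(24) the
2- and 3-cores of the local group are central and the local quotient has one class.
-/

set_option autoImplicit false
set_option linter.unusedSectionVars false
set_option linter.style.haveILetI false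

namespace Cfsg.Agent.ThreeTransM24Prim59

open Subgroup Cfsg.Agent.ThreeTransRel Cfsg.Agent.ThreeTransDescent
open Cfsg.Agent.ThreeTransM23Parity34
open scoped commutatorElement

section typeM22

variable {X : Type*} [Group X] [Finite X] {E : Set X}

theorem quot_congr {H K : Subgroup X} (h : H = K) {Q : Type*} [Group Q]
    (e : ↥H ⧸ Subgroup.center ↥H ≃* Q) : Nonempty (↥K ⧸ Subgroup.center ↥K ≃* Q) := by
  subst h; exact ⟨e⟩

theorem proj_congr {H K : Subgroup X} (h : H = K) {n : ℕ} {a b : ZMod 3}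
    (e : Cfsg.IsProjReflectionGroupModThree (↥H ⧸ Subgroup.center ↥H) n a b) :
    Cfsg.IsProjReflectionGroupModThree (↥K ⧸ Subgroup.center ↥K) n a b := by
  subst h; exact e

/-- Removing the trivial element keeps type M(22). -/
theorem m22_erase (ht : TSys E) (h22 : Cfsg.IsOfTypeM22 X E) :
    TSys (E \ {1}) ∧ Cfsg.IsOfTypeM22 X (E \ {1}) := by
  classical
  obtain ⟨hZ, d, hd, c, hc, hdc, hH, hL⟩ := h22
  have hd1 : d ≠ 1 := fun e => hdc (e ▸ Commute.one_left c)
  have hc1 : c ≠ 1 := fun e => hdc (e ▸ Commute.one_right d)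
  have hcl : ∀ S : Set X, closure (S \ {1}) = closure S := fun S => le_antisymm
    (closure_mono Set.diff_subset) ((closure_le _).mpr fun x hx => by
      by_cases e : x = 1
      · rw [e]; exact one_mem _
      · exact subset_closure ⟨hx, e⟩)
  have hgen : closure (E \ {1}) = (⊤ : Subgroup X) := by rw [hcl]; exact ht.gen
  have ht' : TSys (E \ {1}) := ⟨fun e he => ht.sq e he.1, fun a ha b hb h => ht.braid a ha.1 b hb.1 h,
    fun g e he => ⟨ht.conj g e he.1, fun h => he.2 (by simpa using conj_eq_one_iff.mp h)⟩, hgen⟩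
  have h1 : ∀ w : X, {y : X | y ∈ E \ {1} ∧ y ≠ w ∧ Commute w y} =
      {y : X | y ∈ E ∧ y ≠ w ∧ Commute w y} \ {1} := fun w => Set.ext fun y =>
    ⟨fun h => ⟨⟨h.1.1, h.2⟩, h.1.2⟩, fun h => ⟨⟨h.1.1, h.2⟩, h.1.2⟩⟩
  have e1 : closure {y : X | y ∈ E \ {1} ∧ y ≠ d ∧ Commute d y} =
      closure {y : X | y ∈ E ∧ y ≠ d ∧ Commute d y} := by rw [h1, hcl]
  have e2 : closure ({y : X | y ∈ E \ {1} ∧ y ≠ d ∧ Commute d y} ∩
      {y : X | y ∈ E \ {1} ∧ y ≠ c ∧ Commute c y}) =
      closure ({y : X | y ∈ E ∧ y ≠ d ∧ Commute d y} ∩ {y : X | y ∈ E ∧ y ≠ c ∧ Commute c y}) := by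
    rw [h1, h1, show ∀ A B : Set X, (A \ {1}) ∩ (B \ {1}) = (A ∩ B) \ {1} from fun A B =>
      Set.ext fun y => ⟨fun h => ⟨⟨h.1.1, h.2.1⟩, h.1.2⟩, fun h => ⟨⟨h.1.1, h.2⟩, h.1.2, h.2⟩⟩, hcl]
  refine ⟨ht', hZ, d, ⟨hd, hd1⟩, c, ⟨hc, hc1⟩, hdc, ?_, ?_⟩
  · obtain ⟨F, i1, i2, hF, ⟨e⟩⟩ := hH
    exact ⟨F, i1, i2, hF, quot_congr e1.symm e⟩
  · obtain ⟨c₃, hc₃, hP⟩ := hL
    exact ⟨c₃, hc₃, proj_congr e2.symm hP⟩

/-- The cores of type M(22), trivial members allowed, and a non-commuting pair. -/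
theorem m22_data (ht : TSys E) (h22 : Cfsg.IsOfTypeM22 X E) :
    Cfsg.pCore 2 X = ⊥ ∧ Cfsg.pCore 3 X = ⊥ ∧ ∃ a ∈ E, ∃ b ∈ E, ¬ Commute a b := by
  obtain ⟨ht', h22'⟩ := m22_erase ht h22
  obtain ⟨h2, h3⟩ := ThreeTransM23Prim34.m22_cores ht' (fun y hy => hy.2) h22'
  obtain ⟨-, d, hd, c, hc, hdc, -⟩ := h22
  exact ⟨h2, h3, d, hd, c, hc, hdc⟩

end typeM22

section typeM23

variable {Y : Type*} [Group Y] [Finite Y] {E : Set Y}

/-- Type M(23) with one class: no normal 2- or 3-subgroup. -/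
theorem m23_cores (ht : TSys E) (hcl : Cfsg.IsThreeTranspositionClass E)
    (h23 : Cfsg.IsOfTypeM23 Y E) : Cfsg.pCore 2 Y = ⊥ ∧ Cfsg.pCore 3 Y = ⊥ := by
  classical
  obtain ⟨hZ, d, hd, -, -, -, h22, -⟩ := h23
  obtain ⟨hO2, hO3, a, ⟨x, hx, ea⟩, b, ⟨z, hz, eb⟩, hab⟩ := m22_data (tsys_img ht d) h22
  subst a b
  have hxz : ¬ Commute (x : Y) z := fun h => hab
    ((show Commute x z from Subtype.ext h.eq).map (QuotientGroup.mk' (Subgroup.center ↥(loc E d))))
  haveI : Fact (Nat.Prime 2) := ⟨Nat.prime_two⟩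
  haveI : Fact (Nat.Prime 3) := ⟨Nat.prime_three⟩
  have hconj := ThreeTrans.conjInv hcl
  have htrans : ∀ a ∈ E, ∀ b ∈ E, ∃ g : Y, g * a * g⁻¹ = b := by
    obtain ⟨d₀, -, hE⟩ := hcl.2.1
    intro a ha b hb
    exact isConj_iff.mp ((show IsConj d₀ a from Set.ext_iff.mp hE a |>.mp ha).symm.trans
      (show IsConj d₀ b from Set.ext_iff.mp hE b |>.mp hb))
  have hD2 : ∃ p ∈ E, ∃ q ∈ E, p ≠ q := ⟨x, hx.1, d, hd, hx.2.1⟩
  have hfix : ∀ (n : ℕ), (∀ g ∈ Cfsg.pCore n Y, g * d * g⁻¹ = d) → Cfsg.pCore n Y = ⊥ := by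
    intro n hn
    refine le_bot_iff.mp (hZ ▸ ThreeTransPrimitive.le_center_of_fix hcl fun e he g hg => ?_)
    obtain ⟨k, rfl⟩ := htrans d hd e he
    have := hn _ ((HallCore.pCore_normal n Y).conj_mem g hg k⁻¹)
    calc g * (k * d * k⁻¹) * g⁻¹ = k * (k⁻¹ * g * k⁻¹⁻¹ * d * (k⁻¹ * g * k⁻¹⁻¹)⁻¹) * k⁻¹ := by group
      _ = k * d * k⁻¹ := by rw [this]
  obtain ⟨k, hk⟩ := htrans d hd x hx.1
  constructor
  · refine hfix 2 fun g hg => ?_
    by_contra hne
    have hp := (Set.ext_iff.mp (S5349.result hcl hD2 hd).2 (g * d * g⁻¹)).mpr ⟨g, hg, rfl⟩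
    have htw : ThreeTrans.SameV E (x : Y) (k * (g * d * g⁻¹) * k⁻¹) := hk ▸
      ThreeTrans.SameV.conj hconj (show ThreeTrans.SameV E d (g * d * g⁻¹) from hp) k
    have hne' : k * (g * d * g⁻¹) * k⁻¹ ≠ x := fun e => hne
      (mul_left_cancel (mul_right_cancel (e.trans hk.symm)))
    set x' := k * (g * d * g⁻¹) * k⁻¹ with hx'
    have hud : x' ≠ d := fun e => hxz ((htw.2 z hz.1).mp (by rw [e]; exact hz.2.2))
    have hx'n : x' ∈ near E d := ⟨htw.1, hud, ((htw.2 d hd).mpr hx.2.2.symm).symm⟩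
    haveI := HallCore.pCore_normal 2 Y
    have hcen := ThreeTransM23Prim34.local_central (HallCore.isPGroup_pCore 2 Y) hO2 hx hx'n
      (ThreeTrans.sameV_mul_mem_pCore hcl.1 hconj hx.1 htw) z hz
    have hl : CList E [(x : Y), x'] := ⟨by simp [hx.1, htw.1], by simp [hne'.symm],
      by simp [htw.commute, htw.commute.symm]⟩
    exact hxz (cnt_eq_zero.mp ((key ht hz.1 hl (by simp)).1.mp (by simpa using hcen)) x (by simp)).symm
  · refine hfix 3 fun g hg => ?_
    by_contra hne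
    have hp := (Set.ext_iff.mp (S5350.result hcl hD2 hd).2 (g * d * g⁻¹)).mpr ⟨g, hg, rfl⟩
    have htw : ThreeTransPerp.SameW E (x : Y) (k * (g * d * g⁻¹) * k⁻¹) := hk ▸
      ThreeTransPerp.SameW.conj hconj (show ThreeTransPerp.SameW E d (g * d * g⁻¹) from hp) k
    have hne' : k * (g * d * g⁻¹) * k⁻¹ ≠ x := fun e => hne
      (mul_left_cancel (mul_right_cancel (e.trans hk.symm)))
    set x' := k * (g * d * g⁻¹) * k⁻¹ with hx'
    have h2 := (htw.mem_iff hd).mp ⟨hx.2.1.symm, hx.2.2.symm⟩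
    have hx'n : x' ∈ near E d := ⟨htw.1, h2.1.symm, h2.2.symm⟩
    haveI := HallCore.pCore_normal 3 Y
    have hcen := ThreeTransM23Prim34.local_central (HallCore.isPGroup_pCore 3 Y) hO3 hx hx'n
      (ThreeTransPerp.sameW_mul_mem_pCore hcl.1 hconj hx.1 htw) x hx
    exact hne' (htw.eq_of_commute (by
      have := (Commute.refl (x : Y)).inv_right.mul_right hcen
      rwa [inv_mul_cancel_left] at this))

end typeM23

/-- All pairs of commutators commute. -/
def CommComm (H : Type*) [Group H] : Prop := ∀ a b c e : H, Commute ⁅a, b⁆ ⁅c, e⁆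

theorem CommComm.sub {H : Type*} [Group H] (h : CommComm H) (K : Subgroup H) : CommComm ↥K :=
  fun a b c e => Subtype.ext (h a b c e).eq

theorem CommComm.surj {H K : Type*} [Group H] [Group K] (h : CommComm H) {f : H →* K}
    (hf : Function.Surjective f) : CommComm K := by
  intro a b c e
  obtain ⟨a, rfl⟩ := hf a; obtain ⟨b, rfl⟩ := hf b; obtain ⟨c, rfl⟩ := hf c; obtain ⟨e, rfl⟩ := hf e
  rw [← map_commutatorElement, ← map_commutatorElement]
  exact (h a b c e).map f

theorem CommComm.not_naSimple {H : Type*} [Group H] (h : CommComm H)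
    (hH : ThreeTransTypes.NASimple H) : False := by
  obtain ⟨hs, a, b, hab⟩ := hH
  haveI := hs
  rcases Subgroup.Normal.eq_bot_or_eq_top (H := commutator H) inferInstance with e | e
  · rw [commutator_eq_bot_iff] at e
    exact hab (e.is_comm.comm a b)
  · have hle : ∀ c d : H, Commute c d := by
      intro c d
      have hc : c ∈ closure (commutatorSet H) := by rw [← commutator_eq_closure, e]; trivial
      have hd : d ∈ closure (commutatorSet H) := by rw [← commutator_eq_closure, e]; trivial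
      haveI := Subgroup.isMulCommutative_closure (k := commutatorSet H) (by
        rintro _ ⟨p, q, rfl⟩ _ ⟨r, s, rfl⟩; exact (h p q r s).eq)
      exact congrArg Subtype.val (IsMulCommutative.is_comm.comm
        (⟨c, hc⟩ : ↥(closure (commutatorSet H))) ⟨d, hd⟩)
    exact hab (hle a b)

variable {G : Type*} [Group G] [Finite G] {D : Set G}

/-- Type M(24): the derived group has no solvable normal subgroup. -/
theorem sol (hD : Cfsg.IsThreeTranspositionGroup D) (hprim : Cfsg.IsPrimitiveUnderConj D)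
    (h24 : Cfsg.IsOfTypeM24 G D) :
    ∀ N : Subgroup G, N.Normal → Group.IsSolvable ↥N → N ≤ commutator G → N = ⊥ := by
  have ht := tsys_of_group hD
  have hcl := ThreeTransM23Prim34.class_of_prim hD hprim
  obtain ⟨hZ, d, hd, c, hc, hdc, ⟨-, d', hd', -, -, -, h22, -⟩, -⟩ := h24
  obtain ⟨-, d'', -, -, -, -, ⟨F, _, _, hF, ⟨e⟩⟩, -⟩ := h22
  obtain ⟨y, hy, -⟩ := hd'
  have hw : ∃ a ∈ D, ∃ b ∈ D, a ≠ b ∧ Commute a b :=
    ⟨d, hd, y, hy.1, hy.2.1.symm, hy.2.2⟩
  haveI hs : IsSimpleGroup ↥(commutator G) := (S5361.result hcl hZ hw).1.mpr hprim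
  have hbr : commutator ↥(commutator G) = ⊤ := by
    rcases Subgroup.Normal.eq_bot_or_eq_top (H := commutator ↥(commutator G)) inferInstance with h | h
    · exfalso
      rw [commutator_eq_bot_iff] at h
      have hG : CommComm G := fun a b c e => congrArg Subtype.val (h.is_comm.comm
        (⟨⁅a, b⁆, commutator_mem_commutator (mem_top _) (mem_top _)⟩ : ↥(commutator G))
        ⟨⁅c, e⁆, commutator_mem_commutator (mem_top _) (mem_top _)⟩)
      have hY := (hG.sub (loc D d)).surj (QuotientGroup.mk'_surjective (Subgroup.center ↥(loc D d)))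
      have hX := (hY.sub (loc (imgSet D d) d')).surj
        (QuotientGroup.mk'_surjective (Subgroup.center ↥(loc (imgSet D d) d')))
      exact ((hX.sub (loc _ d'')).surj (QuotientGroup.mk'_surjective _)).not_naSimple
        ((ThreeTransPairs.psu6Simple F hF).congr e.symm)
    · exact h
  intro N hN hsol hle
  rcases Subgroup.Normal.eq_bot_or_eq_top (H := N.subgroupOf (commutator G)) inferInstance with h | h
  · rw [Subgroup.subgroupOf_eq_bot, disjoint_iff, inf_eq_left.mpr hle] at h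
    exact h
  · exfalso
    have hle' : commutator G ≤ N := Subgroup.subgroupOf_eq_top.mp h
    haveI := hsol
    haveI : Group.IsSolvable ↥(commutator G) := Group.isSolvable_of_isSolvable_injective
      (f := Subgroup.inclusion hle') (Subgroup.inclusion_injective hle')
    haveI := hs.toNontrivial
    haveI : Group.IsPerfect ↥(commutator G) := ⟨hbr⟩
    exact Group.IsPerfect.not_isSolvable ↥(commutator G) inferInstance

/-- In type M(24) the local quotient at each member is generated by one class of 3-transpositions. -/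
theorem img_class (hD : Cfsg.IsThreeTranspositionGroup D) (hprim : Cfsg.IsPrimitiveUnderConj D)
    (h24 : Cfsg.IsOfTypeM24 G D) {d : G} (hd : d ∈ D) (hne : (near D d).Nonempty) :
    Cfsg.IsThreeTranspositionClass (imgSet D d) := by
  have ht := tsys_of_group hD
  have hno := no_trivial ht hprim hd
  have htc := ThreeTransp.tc_of_class (ThreeTransM23Prim34.class_of_prim hD hprim)
  obtain ⟨y, hy⟩ := hne
  refine class_of_types (tsys_img ht d) ?_ (d := QuotientGroup.mk ⟨y, near_le_loc hy⟩)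
    ⟨_, hy, rfl⟩ ?_
  · rintro _ ⟨x, hx, rfl⟩ e
    exact hno _ hx ((mk_eq_one_iff x).mp e)
  rintro _ ⟨x, hx, rfl⟩
  obtain ⟨g, hg, hgx⟩ := ThreeTransp.dx_transitive htc (sol hD hprim h24) hd (y := y) (y' := x) hy hx
  refine isConj_iff.mpr ⟨QuotientGroup.mk (⟨g, hg⟩ : ↥(loc D d)), ?_⟩
  rw [← QuotientGroup.mk_inv, ← QuotientGroup.mk_mul, ← QuotientGroup.mk_mul]
  exact congrArg _ (Subtype.ext hgx)

/-- In type M(24) some member has a local group with central 2- and 3-cores, of type M(23) modulo the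
centre. -/
theorem m24_cores (hD : Cfsg.IsThreeTranspositionGroup D) (hprim : Cfsg.IsPrimitiveUnderConj D)
    (h24 : Cfsg.IsOfTypeM24 G D) : ∃ d ∈ D,
      Cfsg.IsThreeTranspositionClass (imgSet D d) ∧
      Cfsg.IsOfTypeM23 (↥(loc D d) ⧸ Subgroup.center ↥(loc D d)) (imgSet D d) ∧
      Cfsg.pCore 3 ↥(Subgroup.closure {y : G | y ∈ D ∧ y ≠ d ∧ Commute d y}) ≤
        Subgroup.center ↥(Subgroup.closure {y : G | y ∈ D ∧ y ≠ d ∧ Commute d y}) ∧
      Cfsg.pCore 2 ↥(Subgroup.closure {y : G | y ∈ D ∧ y ≠ d ∧ Commute d y}) ≤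
        Subgroup.center ↥(Subgroup.closure {y : G | y ∈ D ∧ y ≠ d ∧ Commute d y}) := by
  have ht := tsys_of_group hD
  obtain ⟨-, d, hd, -, -, -, h23, -⟩ := id h24
  have hne : (near D d).Nonempty := by
    obtain ⟨-, d', ⟨y, hy, -⟩, -⟩ := id h23
    exact ⟨y, hy⟩
  have hcl := img_class hD hprim h24 hd hne
  obtain ⟨hc2, hc3⟩ := m23_cores (tsys_img ht d) hcl h23
  have hcore : ∀ {p : ℕ}, p.Prime → Cfsg.pCore p (↥(loc D d) ⧸ Subgroup.center ↥(loc D d)) = ⊥ →
      Cfsg.pCore p ↥(loc D d) ≤ Subgroup.center ↥(loc D d) := by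
    intro p hp h x hx
    haveI : Fact p.Prime := ⟨hp⟩
    haveI := HallCore.pCore_normal p ↥(loc D d)
    have hle : (Cfsg.pCore p ↥(loc D d)).map (QuotientGroup.mk' (Subgroup.center ↥(loc D d))) ≤
        Cfsg.pCore p _ :=
      le_sSup ⟨(inferInstance : (Cfsg.pCore p ↥(loc D d)).Normal).map _
        (QuotientGroup.mk'_surjective _), (HallCore.isPGroup_pCore p _).map _⟩
    rw [h, le_bot_iff, Subgroup.map_eq_bot_iff, QuotientGroup.ker_mk'] at hle
    exact hle hx
  exact ⟨d, hd, hcl, h23, hcore Nat.prime_three hc3, hcore Nat.prime_two hc2⟩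

end Cfsg.Agent.ThreeTransM24Prim59
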