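import Cfsg.Agent.Lib.ThreeTransM23Cent59
import Cfsg.Agent.Lib.ThreeTransM23Order34

/-!
# The parameters of type M(24)

At a member `d` with centralizer the local group, whose quotient by a centre of order two is of type
M(23): the common neighbourhood of two non-commuting members has 3240 members, `|D| = 306936`. Only the
divisibility of `|C(d)|` by the orbit length and the trace congruences at 7, 13, 19, 61, 71, 307 enter.
-/

set_option autoImplicit false
set_option linter.unusedSectionVars false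
set_option linter.style.haveILetI false

namespace Cfsg.Agent.ThreeTransM24Order59

open Subgroup Cfsg.Agent.ThreeTransRel Cfsg.Agent.ThreeTransDescent
open Cfsg.Agent.ThreeTransM23Local59 (near_map locEquiv loc_map)
open Cfsg.Agent.ThreeTransM23Parity34
open scoped commutatorElement

variable {G : Type*} [Group G] [Finite G] {D : Set G} {d : G}

/-- What the count uses about a member. -/
structure Hyp (D : Set G) (d : G) : Prop where
  grp : Cfsg.IsThreeTranspositionGroup D
  prim : Cfsg.IsPrimitiveUnderConj D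
  centre : Subgroup.center G = ⊥
  mem : d ∈ D
  qgrp : Cfsg.IsThreeTranspositionGroup (imgSet D d)
  qprim : Cfsg.IsPrimitiveUnderConj (imgSet D d)
  q23 : Cfsg.IsOfTypeM23 (↥(loc D d) ⧸ Subgroup.center ↥(loc D d)) (imgSet D d)
  cent : Subgroup.centralizer ({d} : Set G) = loc D d
  card_centre : Nat.card ↥(Subgroup.center ↥(loc D d)) = 2

variable (H : Hyp D d)
include H

theorem Hyp.ts : TSys D := tsys_of_group H.grp

theorem Hyp.quot_ctx : ∃ s, ThreeTransM23Local59.Ctx (imgSet D d) s :=
  ThreeTransM23Order34.exists_ctx H.qgrp H.qprim H.q23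

theorem Hyp.inj {p q : G} (hp : p ∈ near D d) (hq : q ∈ near D d) (h : im D d p = im D d q) :
    p = q := by
  rw [im_eq (near_le_loc hp), im_eq (near_le_loc hq)] at h
  exact congrArg Subtype.val (img_inj H.ts (no_trivial H.ts H.prim H.mem) (p := ⟨p, _⟩)
    (q := ⟨q, _⟩) hp hq h)

theorem Hyp.comm_iff {p q : G} (hp : p ∈ near D d) (hq : q ∈ near D d) :
    Commute (im D d p) (im D d q) ↔ Commute p q := by
  rw [im_eq (near_le_loc hp), im_eq (near_le_loc hq)]
  exact ⟨fun h => img_refl H.ts (p := ⟨p, _⟩) (q := ⟨q, _⟩) hp hq h, fun h =>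
    (show Commute (⟨p, near_le_loc hp⟩ : ↥(loc D d)) ⟨q, near_le_loc hq⟩ from Subtype.ext h).map
      (QuotientGroup.mk' (Subgroup.center ↥(loc D d)))⟩

theorem Hyp.im_mem {p : G} (hp : p ∈ near D d) : im D d p ∈ imgSet D d :=
  ⟨⟨p, near_le_loc hp⟩, hp, (im_eq (near_le_loc hp)).symm⟩

theorem Hyp.surj_img {y : ↥(loc D d) ⧸ Subgroup.center ↥(loc D d)} (hy : y ∈ imgSet D d) :
    ∃ p ∈ near D d, im D d p = y := by
  obtain ⟨x, hx, rfl⟩ := hy
  exact ⟨x, hx, by rw [im_eq x.2]⟩

theorem ncard_near : (near D d).ncard = 31671 := by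
  obtain ⟨s, X⟩ := H.quot_ctx
  rw [← ncard_img H.ts (no_trivial H.ts H.prim H.mem)]
  exact ThreeTransM23Order34.card_D X (ThreeTransM23Cent59.centralizer_eq X)

theorem card_centralizer : Nat.card ↥(Subgroup.centralizer ({d} : Set G)) =
    2 ^ 19 * 3 ^ 13 * 5 ^ 2 * 7 * 11 * 13 * 17 * 23 := by
  obtain ⟨s, X⟩ := H.quot_ctx
  rw [H.cent, card_eq_card_quotient_mul_card_subgroup (Subgroup.center ↥(loc D d)),
    ThreeTransM23Order34.card_G X (ThreeTransM23Cent59.centralizer_eq X), H.card_centre]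
  norm_num

theorem ncard_adjacent {b : G} (hb : b ∈ near D d) : (near D d ∩ near D b).ncard = 3510 := by
  obtain ⟨s, X⟩ := H.quot_ctx
  rw [← ThreeTransM23Order34.ncard_near_all X (H.im_mem hb),
    ← Set.ncard_image_of_injOn (f := im D d) (s := near D d ∩ near D b)
      fun p hp q hq e => H.inj hp.1 hq.1 e]
  congr 1
  ext y
  constructor
  · rintro ⟨p, hp, rfl⟩
    exact ⟨H.im_mem hp.1, fun e => hp.2.2.1 (H.inj hp.1 hb e),
      (H.comm_iff hb hp.1).mpr hp.2.2.2⟩
  · intro hy
    obtain ⟨p, hp, rfl⟩ := H.surj_img hy.1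
    exact ⟨p, ⟨hp, hp.1, fun e => hy.2.1 (by rw [e]), (H.comm_iff hb hp).mp hy.2.2⟩, rfl⟩

theorem ncard_near_all {a : G} (ha : a ∈ D) : (near D a).ncard = 31671 := by
  obtain ⟨g, hg⟩ := H.prim.1 d H.mem a ha
  rw [ThreeTransM23Order34.ncard_near_conj H.ts hg, ncard_near H]

theorem ncard_adjacent_all {a b : G} (ha : a ∈ D) (hb : b ∈ near D a) :
    (near D a ∩ near D b).ncard = 3510 := by
  obtain ⟨g, hg⟩ := H.prim.1 a ha d H.mem
  rw [← ThreeTransM23Order34.ncard_inter_conj H.ts (g := g) (a := a) (b := b), hg]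
  refine ncard_adjacent H ?_
  rw [← near_map H.ts hg]
  exact ⟨b, hb, rfl⟩

/-- The derived group is simple and perfect. -/
theorem derived :
    IsSimpleGroup ↥(commutator G) ∧
      (∀ N : Subgroup G, N.Normal → Group.IsSolvable ↥N → N ≤ commutator G → N = ⊥) ∧
      ⁅commutator G, commutator G⁆ = commutator G := by
  have hcl := ThreeTransM23Prim34.class_of_prim H.grp H.prim
  have hn := ncard_near H
  obtain ⟨y, hy⟩ := Set.nonempty_of_ncard_ne_zero (show (near D d).ncard ≠ 0 by omega)
  have hw : ∃ a ∈ D, ∃ b ∈ D, a ≠ b ∧ Commute a b :=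
    ⟨d, H.mem, y, hy.1, hy.2.1.symm, hy.2.2⟩
  haveI hs : IsSimpleGroup ↥(commutator G) := (S5361.result hcl H.centre hw).1.mpr H.prim
  have hidx : (commutator G).index ≤ 2 := by
    refine ThreeTransPrimitive.index_le_two hcl _
      (ThreeTransPrimitive.connected_of_primitive hcl H.prim hw) fun a ha b hb _ => ?_
    obtain ⟨g, rfl⟩ := H.prim.1 a ha b hb
    rw [show a⁻¹ * (g * a * g⁻¹) = ⁅a⁻¹, g⁆ by rw [commutatorElement_def]; group]
    exact Subgroup.commutator_mem_commutator (mem_top _) (mem_top _)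
  have hnc : ¬ IsMulCommutative ↥(commutator G) := by
    intro hco
    letI : CommGroup ↥(commutator G) :=
      { (inferInstance : Group ↥(commutator G)) with mul_comm := hco.is_comm.comm }
    have hp : (Nat.card ↥(commutator G)).Prime := IsSimpleGroup.prime_card
    have h2 := (commutator G).card_mul_index
    have hi : 0 < (commutator G).index := Nat.pos_of_ne_zero FiniteIndex.index_ne_zero
    have h4 : 2 ^ 19 ∣ Nat.card G :=
      (show 2 ^ 19 ∣ Nat.card ↥(Subgroup.centralizer ({d} : Set G)) by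
        rw [card_centralizer H]; norm_num).trans (Subgroup.card_subgroup_dvd_card _)
    rw [← h2] at h4
    have hle := Nat.le_of_dvd (Nat.mul_pos hp.pos hi) h4
    rcases hp.eq_two_or_odd with h | h
    · rw [h] at hle; omega
    · rcases (show (commutator G).index = 1 ∨ (commutator G).index = 2 by omega) with h' | h' <;>
        rw [h'] at h4 <;> omega
  have hbr : commutator ↥(commutator G) = ⊤ := by
    rcases Subgroup.Normal.eq_bot_or_eq_top (H := commutator ↥(commutator G)) inferInstance with h | h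
    · exfalso
      rw [commutator_eq_bot_iff] at h
      exact hnc h
    · exact h
  refine ⟨hs, fun N hN hsol hle => ?_, ?_⟩
  · rcases Subgroup.Normal.eq_bot_or_eq_top (H := N.subgroupOf (commutator G)) inferInstance with h | h
    · rw [Subgroup.subgroupOf_eq_bot, disjoint_iff, inf_eq_left.mpr hle] at h
      exact h
    · exfalso
      have hle' : commutator G ≤ N := Subgroup.subgroupOf_eq_top.mp h
      haveI := hsol
      haveI : Group.IsSolvable ↥(commutator G) := Group.isSolvable_of_isSolvable_injective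
        (f := Subgroup.inclusion hle') (Subgroup.inclusion_injective hle')
      haveI := hs.toNontrivial
      haveI : Group.IsPerfect ↥(commutator G) := ⟨hbr⟩
      exact Group.IsPerfect.not_isSolvable ↥(commutator G) inferInstance
  · have h := congrArg (Subgroup.map (commutator G).subtype) hbr
    rwa [Subgroup.map_subtype_commutator, ← MonoidHom.range_eq_map, Subgroup.range_subtype] at h

/-- The centralizer of a member is transitive on the members not commuting with it. -/
theorem far_trans {a c e : G} (ha : a ∈ D) (hc : c ∈ D) (he : e ∈ D) (hac : ¬ Commute a c)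
    (hae : ¬ Commute a e) : ∃ g : G, g * a * g⁻¹ = a ∧ g * c * g⁻¹ = e := by
  obtain ⟨-, hsol, hperf⟩ := derived H
  exact ThreeTransp.ax_transitive
    (ThreeTransp.tc_of_class (ThreeTransM23Prim34.class_of_prim H.grp H.prim)) hsol hperf ha hc he
    hac hae

theorem ncard_common_const {a c a' c' : G} (ha : a ∈ D) (hc : c ∈ D) (hac : ¬ Commute a c)
    (ha' : a' ∈ D) (hc' : c' ∈ D) (hac' : ¬ Commute a' c') :
    (near D a ∩ near D c).ncard = (near D a' ∩ near D c').ncard := by
  obtain ⟨g, hg⟩ := H.prim.1 a ha a' ha'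
  have hn : ¬ Commute a' (g * c * g⁻¹) := fun e => hac ((Commute.conj_iff g).mp (hg ▸ e))
  obtain ⟨k, hk, hkc⟩ := far_trans H ha' (H.ts.conj g c hc) hc' hn hac'
  have hka : k * g * a * (k * g)⁻¹ = a' := by
    rw [show k * g * a * (k * g)⁻¹ = k * (g * a * g⁻¹) * k⁻¹ by group, hg, hk]
  have hkc' : k * g * c * (k * g)⁻¹ = c' := by
    rw [show k * g * c * (k * g)⁻¹ = k * (g * c * g⁻¹) * k⁻¹ by group, hkc]
  rw [← ThreeTransM23Order34.ncard_inter_conj H.ts (g := k * g) (a := a) (b := c), hka, hkc']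

omit H

set_option maxRecDepth 10000 in
/-- The arithmetic: with the orbit length dividing the centralizer, one value survives. -/
theorem mu_eq {f mu : ℕ} (hf : f ∣ 2 ^ 19 * 3 ^ 13 * 5 ^ 2 * 7 * 11 * 13 * 17 * 23)
    (hmu : mu ≤ 31671) (hcount : f * mu = 891855360)
    (htr : ∀ p ∈ [7, 13, 19, 61, 71, 307], ((1 + 31671 + f : ℕ) : ZMod p) *
      ((RankThreeCount34.coef p 31671 3510 mu (p - 1)).2.1 +
        (RankThreeCount34.coef p 31671 3510 mu (p - 1)).2.2) = 0) :
    f = 275264 ∧ mu = 3240 := by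
  have hdvd : mu ∣ 2 ^ 9 * 3 ^ 4 * (5 * 11 * 17 * 23) := ⟨f, by rw [mul_comm mu f, hcount]; norm_num⟩
  have h0 : 0 < mu := Nat.pos_of_ne_zero fun e => by simp [e] at hcount
  have hfe : f = 891855360 / mu := by rw [← hcount, Nat.mul_div_cancel _ h0]
  obtain ⟨ab, c, hab, hc, hmu_eq⟩ := Nat.dvd_mul.mp hdvd
  obtain ⟨a, b, ha, hb, rfl⟩ := Nat.dvd_mul.mp hab
  obtain ⟨i, hi, rfl⟩ := (Nat.dvd_prime_pow Nat.prime_two).mp ha
  obtain ⟨j, hj, rfl⟩ := (Nat.dvd_prime_pow Nat.prime_three).mp hb
  have hc' : c ∈ Nat.divisors 21505 := Nat.mem_divisors.mpr ⟨hc, by norm_num⟩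
  rw [show Nat.divisors 21505 = {1, 5, 11, 17, 23, 55, 85, 115, 187, 253, 391, 935, 1265, 1955, 4301,
    21505} by decide +kernel] at hc'
  have key : ∀ i : Fin 10, ∀ j : Fin 5,
      ∀ c ∈ [1, 5, 11, 17, 23, 55, 85, 115, 187, 253, 391, 935, 1265, 1955, 4301, 21505],
      31671 < 2 ^ i.val * 3 ^ j.val * c ∨ 2 ^ i.val * 3 ^ j.val * c = 3240 ∨
      ¬ 891855360 / (2 ^ i.val * 3 ^ j.val * c) ∣ 2 ^ 19 * 3 ^ 13 * 5 ^ 2 * 7 * 11 * 13 * 17 * 23 ∨
      ∃ p ∈ [7, 13, 19, 61, 71, 307],
        ((1 + 31671 + 891855360 / (2 ^ i.val * 3 ^ j.val * c) : ℕ) : ZMod p) *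
        ((RankThreeCount34.coef p 31671 3510 (2 ^ i.val * 3 ^ j.val * c) (p - 1)).2.1 +
          (RankThreeCount34.coef p 31671 3510 (2 ^ i.val * 3 ^ j.val * c) (p - 1)).2.2) ≠ 0 := by
    decide +kernel
  subst hmu_eq
  rcases key ⟨i, by omega⟩ ⟨j, by omega⟩ c (by simpa using hc') with h | h | h | ⟨p, hp, h⟩
  · exact absurd hmu (Nat.not_le.mpr h)
  · exact ⟨by rw [hfe, h], h⟩
  · exact absurd (hfe ▸ hf) h
  · exact absurd (hfe ▸ htr p hp) h

include H

/-- The members not commuting with `d`, and the common neighbours of two such. -/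
theorem ncard_far {c : G} (hc : c ∈ D) (hdc : ¬ Commute d c) :
    (RankThreeCount34.far D d).ncard = 275264 ∧ (near D d ∩ near D c).ncard = 3240 := by
  classical
  have ht := H.ts
  set mu := (near D d ∩ near D c).ncard with hmu
  have hdvd : (RankThreeCount34.far D d).ncard * Nat.card ↥(⊥ : Subgroup G) ∣
      Nat.card ↥(centralizer ({d} : Set G)) := by
    refine RankThreeCount34.orbit_dvd (a := d) (c := c) ⟨hc, hdc⟩ (fun h hh y hy => ⟨ht.conj h y hy.1,
      fun e => hy.2 ?_⟩) (fun y hy => ?_) bot_le fun h hh => by rw [mem_bot.mp hh]; group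
    · have hgd : h * d * h⁻¹ = d := mul_inv_eq_iff_eq_mul.mpr (mem_centralizer_singleton_iff.mp hh)
      rw [← hgd] at e
      exact (Commute.conj_iff h).mp e
    · obtain ⟨h, hh, hhc⟩ := far_trans H H.mem hc hy.1 hdc hy.2
      exact ⟨h, mem_centralizer_singleton_iff.mpr (mul_inv_eq_iff_eq_mul.mp hh), hhc⟩
  rw [Subgroup.card_bot, mul_one, card_centralizer H] at hdvd
  have hcount : (RankThreeCount34.far D d).ncard * mu = 891855360 := by
    rw [RankThreeCount34.count (k := 31671) (l := 3510) H.mem (fun b hb => ncard_near_all H hb)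
      (fun b hb => ncard_adjacent H hb)
      fun x hx => ncard_common_const H H.mem hx.1 hx.2 H.mem hc hdc]
  have hmu_le : mu ≤ 31671 :=
    (Set.ncard_le_ncard Set.inter_subset_left).trans_eq (ncard_near H)
  refine mu_eq hdvd hmu_le hcount fun p hp => ?_
  haveI : Fact p.Prime := ⟨by fin_cases hp <;> norm_num⟩
  have := RankThreeCount34.commute_trace D 31671 3510 mu (fun b hb => ncard_near_all H hb)
    (fun b hb b' hb' => ncard_adjacent_all H hb hb')
    (fun b hb b' hb' hn => ncard_common_const H hb hb' hn H.mem hc hdc) p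
  rwa [RankThreeCount34.ncard_eq H.mem, ThreeTransM23Order34.near_eq_nb, ncard_near H] at this

/-- The class has 306936 members. -/
theorem card_D : D.ncard = 306936 := by
  obtain ⟨c, hc, hdc⟩ : ∃ c ∈ D, ¬ Commute d c := by
    by_contra hno
    push Not at hno
    have := eq_one_of_central H.ts H.centre fun y hy => (hno y hy).symm
    exact ThreeTrans.ne_one H.grp.1 H.mem this
  rw [RankThreeCount34.ncard_eq H.mem, ThreeTransM23Order34.near_eq_nb, ncard_near H,
    (ncard_far H hc hdc).1]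

/-- The common neighbours of two members not commuting. -/
theorem ncard_common {a c : G} (ha : a ∈ D) (hc : c ∈ D) (hac : ¬ Commute a c) :
    (near D a ∩ near D c).ncard = 3240 := by
  obtain ⟨g, hg⟩ := H.prim.1 a ha d H.mem
  have hn : ¬ Commute d (g * c * g⁻¹) := fun e => hac ((Commute.conj_iff g).mp (hg.symm ▸ e))
  rw [ncard_common_const H ha hc hac H.mem (H.ts.conj g c hc) hn,
    (ncard_far H (H.ts.conj g c hc) hn).2]

/-- The order of the group. -/
theorem card_G : Nat.card G = 2 ^ 22 * 3 ^ 16 * 5 ^ 2 * 7 ^ 3 * 11 * 13 * 17 * 23 * 29 := by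
  have h := ThreeTransM22Triples17.card_eq_mul (⊤ : Subgroup G) D H.mem
    (fun k _ => H.ts.conj k d H.mem)
    fun y hy => (H.prim.1 d H.mem y hy).imp fun g hg => ⟨mem_top g, hg⟩
  rw [Subgroup.card_top, top_inf_eq, card_centralizer H, card_D H] at h
  rw [h]
  norm_num

end Cfsg.Agent.ThreeTransM24Order59
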