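import Cfsg.Prelude.Def_KGroupFacts
import Cfsg.Agent.Lib.ThreeTransDescent

/-!
# Extending a sign from the centralizer of a member

In a centreless group generated by one class `D` of 3-transpositions, a homomorphism to the signs of the
centralizer of a member `a` that is `-1` on the members it contains extends to the whole group with
value `-1` on all members: the loops through triangles and quadrilaterals of non-commuting members
evaluate to `1`.
-/

set_option autoImplicit false
set_option linter.unusedSectionVars false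

namespace Cfsg.Agent.ThreeTransSign39

open Subgroup Cfsg.Agent.ThreeTransRel Cfsg.Agent.ThreeTransDescent
open scoped commutatorElement

variable {G : Type*} [Group G] {D : Set G}

/-- Conjugation as a map of members. -/
def cj (g x : G) : G := g * x * g⁻¹

theorem cj_mul (g h x : G) : cj (g * h) x = cj g (cj h x) := by simp [cj, mul_assoc]

section Local

variable (ht : TSys D)
include ht

/-- The edge from a member to a non-commuting one. -/
theorem edge {x y : G} (hx : x ∈ D) (hy : y ∈ D) (h : ¬ Commute x y) : cj (x * y) x = y := by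
  calc cj (x * y) x = (x * y * x) * y * x := by
        simp [cj, ht.inv_self hx, ht.inv_self hy, mul_assoc]
    _ = (y * x * y) * y * x := by rw [ht.braid x hx y hy h]
    _ = y * (x * (y * y) * x) := by group
    _ = y := by rw [ht.sq y hy, mul_one, ht.sq x hx, mul_one]

theorem path {a b c : G} (ha : a ∈ D) (hb : b ∈ D) (hc : c ∈ D) (hac : ¬ Commute a c)
    (hcb : ¬ Commute c b) : cj (c * b * (a * c)) a = b := by
  rw [cj_mul, edge ht ha hc hac, edge ht hc hb hcb]

theorem cube {x y : G} (hx : x ∈ D) (hy : y ∈ D) (h : ¬ Commute x y) : (x * y) ^ 3 = 1 := by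
  calc (x * y) ^ 3 = (x * y * x) * (y * x * y) := by simp [pow_succ, mul_assoc]
    _ = (y * x * y) * (y * x * y) := by rw [ht.braid x hx y hy h]
    _ = 1 := ht.sq _ (ht.conj_mem hy hx)

theorem commute_conj_of_two {u y z : G} (hy : y ∈ D) (h1 : Commute u y) (h2 : Commute u (y * z * y)) :
    Commute u z := by
  have h := (h1.mul_right h2).mul_right h1
  rwa [show y * (y * z * y) * y = z by
    calc y * (y * z * y) * y = (y * y) * z * (y * y) := by group
      _ = z := by rw [ht.sq y hy, one_mul, mul_one]] at h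

/-- Commuting members have a member failing to commute with both. -/
theorem exists_common (hone : ∀ x ∈ D, ∀ y ∈ D, ∃ g : G, cj g x = y) (hZ : Subgroup.center G = ⊥)
    {a b : G} (ha : a ∈ D) (hb : b ∈ D) (hne : a ≠ b) :
    ∃ c ∈ D, ¬ Commute a c ∧ ¬ Commute c b := by
  by_contra hno
  push Not at hno
  have hU : ∀ x ∈ D, x ≠ 1 → ∃ u ∈ D, ¬ Commute x u := by
    intro x _ hx1
    by_contra h
    push Not at h
    exact hx1 (eq_one_of_central ht hZ fun y hy => (h y hy).symm)
  have hne1 : a ≠ 1 ∧ b ≠ 1 := by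
    constructor <;> intro e
    · obtain ⟨g, hg⟩ := hone a ha b hb
      exact hne (by rw [← hg, e]; simp [cj])
    · obtain ⟨g, hg⟩ := hone b hb a ha
      exact hne (by rw [← hg, e]; simp [cj])
  obtain ⟨y, hy, hby⟩ := hU b hb hne1.2
  obtain ⟨u₀, hu₀, hau₀⟩ := hU a ha hne1.1
  have hay : Commute a y := by
    by_contra h
    exact hby (hno y hy h).symm
  have hall : ∀ u ∈ D, ¬ Commute a u → Commute u y := by
    intro u hu hau
    by_contra huy
    have h1 : Commute u b := hno u hu hau
    have h2 : Commute (y * u * y) b := hno _ (ht.conj_mem hy hu) fun h =>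
      hau (by
        have h' := ht.commute_conj hy h
        rwa [ht.conj_conj hy, show y * a * y = a by
          rw [← hay.eq, mul_assoc, ht.sq y hy, mul_one]] at h')
    have h3 : Commute u (y * b * y) := by
      have h' := ht.commute_conj hy h2
      rwa [ht.conj_conj hy] at h'
    rw [ht.braid y hy b hb fun e => hby e.symm] at h3
    exact huy (commute_conj_of_two ht hb h1 h3)
  set K := Subgroup.closure {u : G | u ∈ D ∧ ¬ Commute a u} with hK
  have hKn : K.Normal := by
    refine normalizer_eq_top_iff.mp (top_le_iff.mp ?_)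
    rw [← ht.gen]
    refine (closure_le _).mpr fun x hx => ?_
    by_cases hax : Commute a x
    · have hcl : ∀ v ∈ K, x * v * x ∈ K := by
        intro v hv
        have hle : K ≤ K.comap (MulAut.conj x).toMonoidHom := (closure_le _).mpr fun w hw => by
          show x * w * x⁻¹ ∈ K
          rw [ht.inv_self hx]
          refine subset_closure ⟨ht.conj_mem hx hw.1, fun h => hw.2 ?_⟩
          have h' := ht.commute_conj hx h
          rwa [ht.conj_conj hx, show x * a * x = a by
            rw [← hax.eq, mul_assoc, ht.sq x hx, mul_one]] at h'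
        have h' : x * v * x⁻¹ ∈ K := hle hv
        rwa [ht.inv_self hx] at h'
      refine mem_normalizer_iff.mpr fun v => ?_
      rw [ht.inv_self hx]
      refine ⟨hcl v, fun h => ?_⟩
      have h' := hcl _ h
      rwa [ht.conj_conj hx] at h'
    · exact le_normalizer (subset_closure ⟨hx, hax⟩)
  have hD : D ⊆ (centralizer ({y} : Set G) : Set G) := by
    intro x hx
    have hle : K ≤ centralizer ({y} : Set G) := (closure_le _).mpr fun v hv =>
      mem_centralizer_singleton_iff.mpr (hall v hv.1 hv.2).eq
    obtain ⟨g, rfl⟩ := hone u₀ hu₀ x hx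
    exact hle (hKn.conj_mem u₀ (subset_closure ⟨hu₀, hau₀⟩) g)
  exact hby (mem_centralizer_singleton_iff.mp (hD hb))

end Local

/-! ### The loop values -/

open Classical in
/-- The sign on the centralizer, continued by `1`. -/
noncomputable def val (a : G) (χ : ↥(centralizer ({a} : Set G)) →* ℤˣ) (g : G) : ℤˣ :=
  if h : g ∈ centralizer ({a} : Set G) then χ ⟨g, h⟩ else 1

variable {a : G} {χ : ↥(centralizer ({a} : Set G)) →* ℤˣ}

theorem mem_fix {g : G} : g ∈ centralizer ({a} : Set G) ↔ cj g a = a :=
  mem_centralizer_singleton_iff.trans mul_inv_eq_iff_eq_mul.symm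

theorem val_mul {g h : G} (hg : g ∈ centralizer ({a} : Set G)) (hh : h ∈ centralizer ({a} : Set G)) :
    val a χ (g * h) = val a χ g * val a χ h := by
  rw [val, val, val, dif_pos hg, dif_pos hh, dif_pos (mul_mem hg hh), ← map_mul]
  rfl

theorem val_one : val a χ 1 = 1 := by
  rw [val, dif_pos (one_mem _)]
  exact map_one χ

theorem val_cube {g : G} (hg : g ∈ centralizer ({a} : Set G)) (h : g ^ 3 = 1) : val a χ g = 1 := by
  have e : val a χ g * val a χ g * val a χ g = 1 := by
    rw [← val_mul hg hg, ← val_mul (mul_mem hg hg) hg, ← pow_two, ← pow_succ, h, val_one]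
  rwa [Int.units_mul_self, one_mul] at e

/-- Two routes from `a` to the same member with the same value. -/
def Eqv (a : G) (χ : ↥(centralizer ({a} : Set G)) →* ℤˣ) (P Q : G) : Prop :=
  Q⁻¹ * P ∈ centralizer ({a} : Set G) ∧ val a χ (Q⁻¹ * P) = 1

theorem Eqv.refl (P : G) : Eqv a χ P P := by
  rw [Eqv, inv_mul_cancel]
  exact ⟨one_mem _, val_one⟩

theorem Eqv.trans {P Q R : G} (h1 : Eqv a χ P Q) (h2 : Eqv a χ Q R) : Eqv a χ P R := by
  have e : R⁻¹ * P = (R⁻¹ * Q) * (Q⁻¹ * P) := by group
  rw [Eqv, e, val_mul h2.1 h1.1, h1.2, h2.2, one_mul]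
  exact ⟨mul_mem h2.1 h1.1, rfl⟩

theorem Eqv.symm {P Q : G} (h : Eqv a χ P Q) : Eqv a χ Q P := by
  have e : P⁻¹ * Q = (Q⁻¹ * P)⁻¹ := by group
  refine ⟨e ▸ inv_mem h.1, ?_⟩
  have h' := val_mul (χ := χ) h.1 (inv_mem h.1)
  rw [mul_inv_cancel, val_one, h.2, one_mul] at h'
  rw [e, ← h']

theorem Eqv.left (X : G) {P Q : G} (h : Eqv a χ P Q) : Eqv a χ (X * P) (X * Q) := by
  rwa [Eqv, show (X * Q)⁻¹ * (X * P) = Q⁻¹ * P by group]

section Loops

variable (ht : TSys D) (ha : a ∈ D)
  (hχ : ∀ y ∈ D, y ∈ centralizer ({a} : Set G) → val a χ y = -1)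
include ht ha hχ

theorem val_pair {x y : G} (hx : x ∈ D) (hy : y ∈ D) (hxa : x ∈ centralizer ({a} : Set G))
    (hya : y ∈ centralizer ({a} : Set G)) : val a χ (x * y) = 1 := by
  rw [val_mul hxa hya, hχ x hx hxa, hχ y hy hya]; norm_num

theorem route {X p q r : G} (hX : cj X a = p) (hp : p ∈ D) (hq : q ∈ D) (hr : r ∈ D)
    (hpq : ¬ Commute p q) (hqr : ¬ Commute q r) (hpr : ¬ Commute p r) :
    Eqv a χ (q * r * (p * q) * X) (p * r * X) := by
  set L := (p * r)⁻¹ * (q * r) * (p * q) with hL
  have hLp : cj L p = p := by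
    rw [hL, cj_mul, cj_mul, edge ht hp hq hpq, edge ht hq hr hqr]
    calc cj (p * r)⁻¹ r = cj (p * r)⁻¹ (cj (p * r) p) := by rw [edge ht hp hr hpr]
      _ = p := by rw [← cj_mul, inv_mul_cancel]; simp [cj]
  have hpull : ∀ g, cj g p = p → X⁻¹ * g * X ∈ centralizer ({a} : Set G) := fun g hg => by
    rw [mem_fix, cj_mul, cj_mul, hX, hg, ← hX, ← cj_mul, inv_mul_cancel]; simp [cj]
  show _ ∧ _
  rw [show (p * r * X)⁻¹ * (q * r * (p * q) * X) = X⁻¹ * L * X by rw [hL]; group]
  refine ⟨hpull L hLp, ?_⟩
  set u := p * q * p with hu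
  have huD : u ∈ D := ht.conj_mem hp hq
  have hup : u * p = p * q := by rw [hu, mul_assoc, ht.sq p hp, mul_one]
  have hL2 : L = (r * u * p) * (r * u * p) := by
    have h1 : r * u * p = r * (p * q) := by rw [mul_assoc, hup]
    rw [h1, hL, mul_inv_rev, ht.inv_self hp, ht.inv_self hr]
    group
  have hup2 : Commute L p := mul_inv_eq_iff_eq_mul.mp hLp
  by_cases hru : Commute r u
  · set w := p * r * u with hw
    have hm : p * L = w * p * w⁻¹ := by
      have hwi : w⁻¹ = u * r * p := inv_eq_of_mul_eq_one_right (by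
        rw [hw, show p * r * u * (u * r * p) = p * (r * (u * u) * r) * p by group, ht.sq u huD,
          mul_one, ht.sq r hr, mul_one, ht.sq p hp])
      rw [hwi, hw, hL2]
      calc p * (r * u * p * (r * u * p)) = p * r * u * p * ((r * u) * p) := by group
        _ = p * r * u * p * ((u * r) * p) := by rw [hru.eq]
    have e : L = p * (p * L) := by rw [← mul_assoc, ht.sq p hp, one_mul]
    rw [e, show X⁻¹ * (p * (p * L)) * X = (X⁻¹ * p * X) * (X⁻¹ * (p * L) * X) by group]
    have hconj : ∀ z ∈ D, X⁻¹ * z * X ∈ D := fun z hz => by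
      have := ht.conj X⁻¹ z hz
      rwa [inv_inv] at this
    exact val_pair ht ha hχ (hconj p hp) (hconj _ (hm ▸ ht.conj w p hp))
      (hpull p (by simp [cj])) (hpull _ (mul_inv_eq_iff_eq_mul.mpr ((Commute.refl p).mul_left hup2).eq))
  · refine val_cube (hpull L hLp) ?_
    have hcube : L ^ 3 = 1 := by
      set x := r * u with hx
      set y := p * (r * u) * p with hy
      have hxy : L = x * y := by rw [hL2, hx, hy]; group
      have hx3 : x ^ 3 = 1 := cube ht hr huD hru
      have hy3 : y ^ 3 = 1 := by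
        rw [hy]
        nth_rewrite 2 [← ht.inv_self hp]
        rw [conj_pow, hx3, mul_one, mul_inv_cancel]
      have hcm : Commute x y := by
        show x * y = y * x
        have h' : p * L * p = L := by rw [← hup2.eq, mul_assoc, ht.sq p hp, mul_one]
        rw [← hxy]
        nth_rewrite 1 [← h']
        rw [hxy, hy, hx]
        calc p * (r * u * (p * (r * u) * p)) * p = p * (r * u) * p * (r * u) * (p * p) := by group
          _ = p * (r * u) * p * (r * u) := by rw [ht.sq p hp, mul_one]
      rw [hxy, hcm.mul_pow, hx3, hy3, one_mul]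
    rw [show X⁻¹ * L * X = X⁻¹ * L * X⁻¹⁻¹ by rw [inv_inv], conj_pow, hcube, mul_one, mul_inv_cancel]

/-- Changing the middle member of a route of length two. -/
theorem quad {b c d : G} (hb : b ∈ D) (hc : c ∈ D) (hd : d ∈ D) (hab : Commute a b)
    (hac : ¬ Commute a c) (hcb : ¬ Commute c b) (had : ¬ Commute a d) (hdb : ¬ Commute d b) :
    Eqv a χ (c * b * (a * c)) (d * b * (a * d)) := by
  by_cases hcd : Commute c d
  swap
  · have h1 := route ht ha hχ (X := a * c) (edge ht ha hc hac) hc hd hb hcd hdb hcb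
    have h2 := route ht ha hχ (X := 1) (a := a) (χ := χ) (by simp [cj]) ha hc hd hac hcd had
    rw [mul_one, mul_one] at h2
    refine h1.symm.trans ?_
    have h3 := h2.left (d * b)
    rwa [← mul_assoc (d * b) (c * d)] at h3
  set g := (d * b * (a * d))⁻¹ * (c * b * (a * c)) with hg
  have hQ : cj (d * b * (a * d)) a = b := path ht ha hb hd had hdb
  have hga : g ∈ centralizer ({a} : Set G) := by
    rw [mem_fix, hg, cj_mul, path ht ha hb hc hac hcb]
    calc cj (d * b * (a * d))⁻¹ b = cj (d * b * (a * d))⁻¹ (cj (d * b * (a * d)) a) := by rw [hQ]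
      _ = a := by rw [← cj_mul, inv_mul_cancel]; simp [cj]
  refine ⟨hga, ?_⟩
  show val a χ g = 1
  have hgb : Commute g b := by
    have hQ' : cj (d * a * (b * d)) b = a :=
      path ht hb ha hd (fun e => hdb e.symm) (fun e => had e.symm)
    have hP' : cj (c * a * (b * c)) b = a :=
      path ht hb ha hc (fun e => hcb e.symm) (fun e => hac e.symm)
    have hfix : cj ((d * a * (b * d))⁻¹ * (c * a * (b * c))) b = b := by
      rw [cj_mul, hP']
      calc cj (d * a * (b * d))⁻¹ a = cj (d * a * (b * d))⁻¹ (cj (d * a * (b * d)) b) := by rw [hQ']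
        _ = b := by rw [← cj_mul, inv_mul_cancel]; simp [cj]
    have e : (d * a * (b * d))⁻¹ * (c * a * (b * c)) = g := by
      simp only [hg, mul_inv_rev, ht.inv_self hd, ht.inv_self ha, ht.inv_self hb]
      calc d * b * (a * d) * (c * a * (b * c)) = d * (b * a) * (d * c) * (a * b) * c := by group
        _ = d * (a * b) * (d * c) * (b * a) * c := by rw [hab.eq]
        _ = d * a * (b * d) * (c * b * (a * c)) := by group
    rw [e] at hfix
    exact mul_inv_eq_iff_eq_mul.mp hfix
  set P := a * b with hP
  set r := P * c * P with hr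
  set m := P * d * P with hm
  have hPP : P * P = 1 := by
    rw [hP]; nth_rewrite 2 [hab.eq]
    rw [mul_assoc, ← mul_assoc b, ht.sq b hb, one_mul, ht.sq a ha]
  have hPi : P⁻¹ = P := inv_eq_of_mul_eq_one_right hPP
  have hkey : ∀ c ∈ D, ¬ Commute a c → ¬ Commute c b →
      P * c * P = b * c * a * c * b ∧ Commute (P * c * P) c := by
    intro c hc hac hcb
    have e1 : P * c * P = b * c * a * c * b := by
      rw [hP]
      calc a * b * c * (a * b) = (a * b) * c * (a * b) := by group
        _ = (b * a) * c * (a * b) := by rw [hab.eq]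
        _ = b * (a * c * a) * b := by group
        _ = b * (c * a * c) * b := by rw [ht.braid a ha c hc hac]
        _ = b * c * a * c * b := by group
    refine ⟨e1, ?_⟩
    rw [e1]
    have e2 : c * (b * c * a * c * b) * c = b * c * a * c * b := by
      calc c * (b * c * a * c * b) * c = (c * b * c) * a * (c * b * c) := by group
        _ = (b * c * b) * a * (b * c * b) := by rw [ht.braid c hc b hb hcb]
        _ = b * c * ((b * a) * b) * c * b := by group
        _ = b * c * ((a * b) * b) * c * b := by rw [hab.eq]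
        _ = b * c * a * c * b := by rw [mul_assoc a b b, ht.sq b hb, mul_one]
    show _ * c = c * _
    nth_rewrite 1 [← e2]
    rw [mul_assoc _ c c, ht.sq c hc, mul_one]
  obtain ⟨hre, hrc⟩ := hkey c hc hac hcb
  obtain ⟨-, hmd⟩ := hkey d hd had hdb
  have hrm : Commute r m := by
    have h := (Commute.conj_iff P).mpr hcd
    rw [hPi] at h
    exact h
  have hgform : g = d * (r * m * c * d) * d := by
    rw [hg, hr, hm, mul_inv_rev, mul_inv_rev, mul_inv_rev, ht.inv_self hd, ht.inv_self ha,
      ht.inv_self hb]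
    calc d * a * (b * d) * (c * b * (a * c)) = d * P * (d * c) * (b * a) * c := by rw [hP]; group
      _ = d * P * (c * d) * P * c := by rw [hcd.symm.eq, ← hab.eq, hP]
      _ = d * (P * c * (P * P) * d * P * c * d) * d * 1 := by
        rw [hPP, mul_one, mul_one, show d * (P * c * d * P * c * d) * d =
          d * P * c * d * P * c * (d * d) by group, ht.sq d hd, mul_one]
        group
      _ = d * (P * c * P * (P * d * P) * c * d) * d := by group
  by_cases hrd : Commute r d
  · have hmc : Commute m c := by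
      have h := (Commute.conj_iff P).mpr hrd
      rw [hPi, hr, show P * (P * c * P) * P = P * P * c * (P * P) by group, hPP, one_mul, mul_one] at h
      exact h.symm
    have hall : Commute d (r * m * c * d) :=
      ((hrd.symm.mul_right hmd.symm).mul_right hcd.symm).mul_right (Commute.refl d)
    have hg4 : g = r * m * c * d := by
      rw [hgform, hall.eq, mul_assoc, ht.sq d hd, mul_one]
    set u := b * c * b with hu
    have huD : u ∈ D := ht.conj_mem hb hc
    have hgc : Commute g c := by
      rw [hg4]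
      exact ((hrc.mul_left hmc).mul_left (Commute.refl c)).mul_left hcd.symm
    have hgu : Commute g u := (hgb.mul_right hgc).mul_right hgb
    have hug : g = (u * r * u) * (u * m * u) * (u * c * u) * (u * d * u) := by
      calc g = u * g * u := by rw [← hgu.eq, mul_assoc, ht.sq u huD, mul_one]
        _ = u * r * (u * u) * m * (u * u) * c * (u * u) * d * u := by
          rw [hg4, ht.sq u huD]; group
        _ = (u * r * u) * (u * m * u) * (u * c * u) * (u * d * u) := by group
    have hua : u * r * u = a := by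
      rw [hu, hr, hre]
      calc b * c * b * (b * c * a * c * b) * (b * c * b)
          = b * c * (b * b) * c * a * c * (b * b) * c * b := by group
        _ = b * (c * c) * a * (c * c) * b := by rw [ht.sq b hb]; group
        _ = (b * a) * b := by rw [ht.sq c hc]; group
        _ = a := by rw [← hab.eq, mul_assoc, ht.sq b hb, mul_one]
    have hub : u * c * u = b := by
      rw [hu, ← ht.braid c hc b hb hcb]
      calc c * b * c * c * (c * b * c) = c * b * (c * c) * c * b * c := by group
        _ = c * (b * c * b) * c := by rw [ht.sq c hc]; group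
        _ = c * (c * b * c) * c := by rw [ht.braid c hc b hb hcb]
        _ = (c * c) * b * (c * c) := by group
        _ = b := by rw [ht.sq c hc, one_mul, mul_one]
    have hin : ∀ z, Commute r z → u * z * u ∈ centralizer ({a} : Set G) := fun z hz => by
      have h := ht.commute_conj huD hz
      rw [hua] at h
      exact mem_centralizer_singleton_iff.mpr h.symm.eq
    have hrD : r ∈ D := by rw [hr]; nth_rewrite 2 [← hPi]; exact ht.conj P c hc
    have hmD : m ∈ D := by rw [hm]; nth_rewrite 2 [← hPi]; exact ht.conj P d hd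
    have k1 := hin r (Commute.refl r)
    have k2 := hin m hrm
    have k3 := hin c hrc
    have k4 := hin d hrd
    rw [hug, val_mul (mul_mem (mul_mem k1 k2) k3) k4, val_mul (mul_mem k1 k2) k3, val_mul k1 k2,
      hχ _ (ht.conj_mem huD hrD) k1, hχ _ (ht.conj_mem huD hmD) k2, hχ _ (ht.conj_mem huD hc) k3,
      hχ _ (ht.conj_mem huD hd) k4]
    norm_num
  · refine val_cube hga ?_
    set x := r * d with hx
    set y := m * c with hy
    have hrD : r ∈ D := by rw [hr]; nth_rewrite 2 [← hPi]; exact ht.conj P c hc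
    have hx3 : x ^ 3 = 1 := cube ht hrD hd hrd
    have hy3 : y ^ 3 = 1 := by
      have e : y = P * x⁻¹ * P⁻¹ := by
        rw [hx, hy, mul_inv_rev, ht.inv_self hd, ht.inv_self hrD, hPi, hr, hm]
        calc P * d * P * c = P * d * P * c * (P * P) := by rw [hPP, mul_one]
          _ = P * (d * (P * c * P)) * P := by group
      rw [e, conj_pow, inv_pow, hx3, inv_one, mul_one, mul_inv_cancel]
    have hxy : Commute x y :=
      (hrm.mul_right hrc).mul_left ((hmd.symm).mul_right hcd.symm)
    have e : r * m * c * d = y * x := by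
      rw [hx, hy]
      calc r * m * c * d = (r * m) * c * d := by group
        _ = (m * r) * c * d := by rw [hrm.eq]
        _ = m * (r * c) * d := by group
        _ = m * (c * r) * d := by rw [hrc.eq]
        _ = m * c * (r * d) := by group
    rw [hgform, e]
    nth_rewrite 2 [← ht.inv_self hd]
    rw [conj_pow, hxy.symm.mul_pow, hx3, hy3, one_mul, mul_one, mul_inv_cancel]

end Loops

/-! ### The sign -/

/-- A sign on the centralizer of a member extends to the group. -/
theorem exists_sign (ht : TSys D) (hone : ∀ x ∈ D, ∀ y ∈ D, ∃ g : G, g * x * g⁻¹ = y)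
    (hZ : Subgroup.center G = ⊥) (ha : a ∈ D) (χ : ↥(centralizer ({a} : Set G)) →* ℤˣ)
    (hχ' : ∀ (y : G) (hy : y ∈ centralizer ({a} : Set G)), y ∈ D → χ ⟨y, hy⟩ = -1) :
    ∃ ε : G →* ℤˣ, ∀ x ∈ D, ε x = -1 := by
  classical
  have hχ : ∀ y ∈ D, y ∈ centralizer ({a} : Set G) → val a χ y = -1 := fun y hy hc => by
    rw [val, dif_pos hc]; exact hχ' y hc hy
  have hcomm : ∀ b ∈ D, b ≠ a → ∃ c ∈ D, ¬ Commute a c ∧ ¬ Commute c b := fun b hb hne =>
    exists_common ht hone hZ ha hb (Ne.symm hne)
  choose mid hmid using hcomm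
  let τ : G → G := fun b => if h : b ∈ D ∧ b ≠ a then
      (if Commute a b then mid b h.1 h.2 * b * (a * mid b h.1 h.2) else a * b) else 1
  have τ_self : τ a = 1 := dif_neg fun h => h.2 rfl
  have τ_far : ∀ b ∈ D, ¬ Commute a b → τ b = a * b := fun b hb hab => by
    have hne : b ≠ a := fun e => hab (by rw [e])
    simp only [τ, dif_pos (⟨hb, hne⟩ : b ∈ D ∧ b ≠ a), if_neg hab]
  have τ_near : ∀ b ∈ D, b ≠ a → Commute a b → ∀ c ∈ D, ¬ Commute a c → ¬ Commute c b →
      Eqv a χ (c * b * (a * c)) (τ b) := fun b hb hne hab c hc hac hcb => by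
    simp only [τ, dif_pos (⟨hb, hne⟩ : b ∈ D ∧ b ≠ a), if_pos hab]
    obtain ⟨h1, h2, h3⟩ := hmid b hb hne
    exact quad ht ha hχ hb hc h1 hab hac hcb h2 h3
  have τ_map : ∀ b ∈ D, cj (τ b) a = b := by
    intro b hb
    by_cases hne : b = a
    · rw [hne, τ_self]; simp [cj]
    by_cases hab : Commute a b
    · simp only [τ, dif_pos (⟨hb, hne⟩ : b ∈ D ∧ b ≠ a), if_pos hab]
      obtain ⟨h1, h2, h3⟩ := hmid b hb hne
      exact path ht ha hb h1 h2 h3
    · rw [τ_far b hb hab]; exact edge ht ha hb hab
  -- every edge is compatible with the chosen routes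
  have hedge : ∀ b ∈ D, ∀ b' ∈ D, ¬ Commute b b' → Eqv a χ (b * b' * τ b) (τ b') := by
    intro b hb b' hb' hn
    by_cases hba : b = a
    · subst hba
      rw [τ_self, mul_one, τ_far b' hb' hn]
      exact Eqv.refl _
    by_cases hba' : b' = a
    · subst hba'
      rw [τ_self, τ_far b hb fun e => hn e.symm,
        show b * b' * (b' * b) = 1 by
          rw [mul_assoc, ← mul_assoc b' b', ht.sq b' hb', one_mul, ht.sq b hb]]
      exact Eqv.refl _
    by_cases hab : Commute a b <;> by_cases hab' : Commute a b'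
    · -- a common middle member
      obtain ⟨c, hc, hac, hcb, hcb'⟩ : ∃ c ∈ D, ¬ Commute a c ∧ ¬ Commute c b ∧ ¬ Commute c b' := by
        obtain ⟨h1, h2, h3⟩ := hmid b hb hba
        by_cases h4 : Commute (mid b hb hba) b'
        swap
        · exact ⟨_, h1, h2, h3, h4⟩
        set c := mid b hb hba
        refine ⟨b * c * b, ht.conj_mem hb h1, fun h => h2 ?_, fun h => h3 ?_, fun h => h3 ?_⟩
        · have h' := ht.commute_conj hb h
          rwa [ht.conj_conj hb, show b * a * b = a by
            rw [← hab.eq, mul_assoc, ht.sq b hb, mul_one]] at h'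
        · have h' := ht.commute_conj hb h
          rwa [ht.conj_conj hb, ht.sq b hb, one_mul] at h'
        · have h' := ht.commute_conj hb h
          rw [ht.conj_conj hb, ht.braid b hb b' hb' hn] at h'
          exact commute_conj_of_two ht hb' h4 h'
      refine (((τ_near b hb hba hab c hc hac hcb).symm).left (b * b')).trans ?_
      refine Eqv.trans ?_ (τ_near b' hb' hba' hab' c hc hac hcb')
      rw [← mul_assoc (b * b')]
      exact route ht ha hχ (edge ht ha hc hac) hc hb hb' hcb hn hcb'
    · rw [τ_far b' hb' hab']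
      refine (((τ_near b hb hba hab b' hb' hab' fun e => hn e.symm).symm).left (b * b')).trans ?_
      rw [show b * b' * (b' * b * (a * b')) = b * (b' * b') * b * (a * b') by group,
        ht.sq b' hb', mul_one, ht.sq b hb, one_mul]
      exact Eqv.refl _
    · rw [τ_far b hb hab]
      exact τ_near b' hb' hba' hab' b hb hab hn
    · rw [τ_far b hb hab, τ_far b' hb' hab']
      have h := route ht ha hχ (X := 1) (a := a) (χ := χ) (by simp [cj]) ha hb hb' hab hn hab'
      rwa [mul_one, mul_one] at h
  -- the value of a group element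
  let e : G → ℤˣ := fun g => val a χ ((τ (cj g a))⁻¹ * g)
  have hback : ∀ b ∈ D, cj (τ b)⁻¹ b = a := fun b hb => by
    calc cj (τ b)⁻¹ b = cj (τ b)⁻¹ (cj (τ b) a) := by rw [τ_map b hb]
      _ = a := by rw [← cj_mul, inv_mul_cancel]; simp [cj]
  have hmem : ∀ g, (τ (cj g a))⁻¹ * g ∈ centralizer ({a} : Set G) := fun g => by
    rw [mem_fix, cj_mul]
    exact hback _ (ht.conj g a ha)
  have hstep : ∀ x ∈ D, ∀ h, e (x * h) = -1 * e h := by
    intro x hx h
    set b := cj h a with hb'
    have hb : b ∈ D := ht.conj h a ha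
    have hnext : cj (x * h) a = cj x b := cj_mul x h a
    show val a χ ((τ (cj (x * h) a))⁻¹ * (x * h)) = -1 * val a χ ((τ b)⁻¹ * h)
    rw [hnext, show (τ (cj x b))⁻¹ * (x * h) = ((τ (cj x b))⁻¹ * x * τ b) * ((τ b)⁻¹ * h) by group]
    have hmemx : (τ (cj x b))⁻¹ * x * τ b ∈ centralizer ({a} : Set G) := by
      rw [mem_fix, cj_mul, cj_mul, τ_map b hb]
      exact hback _ (ht.conj x b hb)
    rw [val_mul hmemx (hb' ▸ hmem h)]
    congr 1
    by_cases hxb : Commute x b
    · have e1 : cj x b = b := mul_inv_eq_iff_eq_mul.mpr hxb.eq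
      rw [e1] at hmemx ⊢
      have hD' := ht.conj (τ b)⁻¹ x hx
      rw [inv_inv] at hD'
      exact hχ _ hD' hmemx
    · set b' := cj x b with hb''
      have hb'D : b' ∈ D := ht.conj x b hb
      have e1 : b' = b * x * b := by
        rw [hb'', cj, ht.inv_self hx]; exact ht.braid x hx b hb hxb
      have e2 : x = b * b' * b := by
        rw [e1]
        calc x = (b * b) * x * (b * b) := by rw [ht.sq b hb, one_mul, mul_one]
          _ = b * (b * x * b) * b := by group
      have hbb' : ¬ Commute b b' := fun h' => hxb (by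
        rw [e1] at h'
        have := ht.commute_conj hb h'
        rw [ht.conj_conj hb, ht.sq b hb, one_mul] at this
        exact this.symm)
      obtain ⟨hl1, hl2⟩ := hedge b hb b' hb'D hbb'
      have ha' : (τ b)⁻¹ * b * τ b = a := by
        have := hback b hb
        rwa [cj, inv_inv] at this
      rw [show (τ b')⁻¹ * x * τ b = ((τ b')⁻¹ * (b * b' * τ b)) * ((τ b)⁻¹ * b * τ b) by
          rw [e2]; group, ha', val_mul hl1 (mem_centralizer_singleton_iff.mpr rfl), hl2, one_mul]
      exact hχ a ha (mem_centralizer_singleton_iff.mpr rfl)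
  have he1 : e 1 = 1 := by
    show val a χ ((τ (cj 1 a))⁻¹ * 1) = 1
    rw [show cj 1 a = a by simp [cj], τ_self, inv_one, one_mul, val_one]
  have hmul : ∀ g h, e (g * h) = e g * e h := by
    intro g
    suffices hs : ∃ s : ℤˣ, ∀ h, e (g * h) = s * e h by
      obtain ⟨s, hs⟩ := hs
      have := hs 1
      rw [mul_one, he1, mul_one] at this
      rw [this]; exact hs
    have hg : g ∈ Subgroup.closure D := by rw [ht.gen]; exact mem_top g
    induction hg using Subgroup.closure_induction with
    | mem x hx => exact ⟨-1, hstep x hx⟩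
    | one => exact ⟨1, fun h => by rw [one_mul, one_mul]⟩
    | mul u v _ _ hu hv =>
      obtain ⟨s, hs⟩ := hu
      obtain ⟨t, ht'⟩ := hv
      exact ⟨s * t, fun h => by rw [mul_assoc, hs, ht', mul_assoc]⟩
    | inv u _ hu =>
      obtain ⟨s, hs⟩ := hu
      refine ⟨s, fun h => ?_⟩
      have := hs (u⁻¹ * h)
      rw [mul_inv_cancel_left] at this
      rw [this, ← mul_assoc, Int.units_mul_self, one_mul]
  refine ⟨⟨⟨e, he1⟩, hmul⟩, fun x hx => ?_⟩
  have := hstep x hx 1
  rwa [mul_one, he1, mul_one] at this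

/-- A group without proper finite stem extensions: a central element above it lies outside the derived
subgroup. -/
theorem eq_one_of_mult {H : Type*} [Group H] [Finite H] {Y : Type} [Group Y]
    (hY : Cfsg.HasCyclicSchurMultiplier Y 1) (π : H →* Y) (hπ : Function.Surjective π) {z : H}
    (hker : π.ker ≤ zpowers z) (hzk : π z = 1) (hzc : ∀ h, h * z = z * h) (hz : z ∈ commutator H) :
    z = 1 := by
  let ι : H →* Equiv.Perm (Fin (Nat.card H)) :=
    (Finite.equivFin H).permCongrHom.toMonoidHom.comp (MulAction.toPermHom H H)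
  have hι : Function.Injective ι :=
    (Finite.equivFin H).permCongrHom.injective.comp MulAction.toPerm_injective
  let φ : ↥ι.range ≃* H := (MonoidHom.ofInjective hι).symm
  set σ : ↥ι.range →* Y := π.comp φ.toMonoidHom with hσ
  have hstem : Cfsg.IsStemExtension σ := by
    refine ⟨hπ.comp φ.surjective, fun x hx => ?_, fun x hx => ?_⟩
    · refine mem_center_iff.mpr fun y => φ.injective ?_
      obtain ⟨i, hi⟩ := mem_zpowers_iff.mp (hker (show φ x ∈ π.ker from hx))
      rw [map_mul, map_mul, ← hi]
      exact (Commute.zpow_right (show Commute (φ y) z from hzc _) i).eq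
    · have h1 : φ x ∈ commutator H :=
        (zpowers_le.mpr hz) (hker (show φ x ∈ π.ker from hx))
      have h2 : (commutator H).map φ.symm.toMonoidHom ≤ commutator _ := by
        rw [commutator_def, commutator_def, map_commutator]
        exact commutator_mono le_top le_top
      simpa using h2 ⟨φ x, h1, rfl⟩
  obtain ⟨g, hg⟩ := hY.2 _ σ hstem
  obtain ⟨t, ht⟩ := hg ⟨φ.symm z, by simpa [hσ] using hzk⟩
  rw [Subsingleton.elim t 1, map_one] at ht
  simpa using congrArg φ (congrArg Subtype.val ht.symm)

/-- A central involution outside the derived subgroup of a group generated by one class of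
involutions gives a sign. -/
theorem exists_local_sign {H : Type*} [Group H] [Finite H] {S : Set H} (hgen : Subgroup.closure S = ⊤)
    (hsq : ∀ x ∈ S, x * x = 1) {z : H} (hz : z ∉ commutator H) (hz2 : z * z = 1)
    (hone : ∀ x ∈ S, ∀ y ∈ S, ∃ g : H, g * x * g⁻¹ = y) :
    ∃ χ : H →* ℤˣ, χ z = -1 ∧ ∀ x ∈ S, χ x = -1 := by
  classical
  obtain ⟨M, ⟨hM, hzM⟩, hmax⟩ := Set.Finite.exists_maximal
    (s := {M : Subgroup H | commutator H ≤ M ∧ z ∉ M}) (Set.toFinite _) ⟨_, le_rfl, hz⟩
  have hcm : ∀ g h : H, g * h * g⁻¹ * h⁻¹ ∈ M := fun g h => hM (by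
    rw [← commutatorElement_def]; exact commutator_mem_commutator (mem_top g) (mem_top h))
  have hsq' : ∀ g : H, g * g ∈ M := by
    intro g
    induction (hgen ▸ mem_top g : g ∈ Subgroup.closure S) using Subgroup.closure_induction with
    | mem x hx => rw [hsq x hx]; exact one_mem _
    | one => rw [mul_one]; exact one_mem _
    | mul u v _ _ hu hv =>
      rw [show u * v * (u * v) = (u * v * u⁻¹ * v⁻¹) * (v * (u * u) * v⁻¹ * (u * u)⁻¹) * (u * u) *
        (v * v) by group]
      exact mul_mem (mul_mem (mul_mem (hcm u v) (hcm v (u * u))) hu) hv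
    | inv u _ hu => rw [← mul_inv_rev]; exact inv_mem hu
  have hout : ∀ g, g ∉ M → g * z ∈ M := by
    intro g hg
    have hle : M ⊔ zpowers g ≤ M ⊔ zpowers g := le_rfl
    have hz' : z ∈ M ⊔ zpowers g := by
      by_contra h
      exact hg ((hmax ⟨hM.trans le_sup_left, h⟩ le_sup_left) (mem_sup_right (mem_zpowers g)))
    haveI : M.Normal := ⟨fun n hn g => by
      simpa [mul_assoc] using mul_mem (hcm g n) hn⟩
    obtain ⟨m, hm, y, hy, e⟩ := mem_sup_of_normal_left.mp hz'
    obtain ⟨i, rfl⟩ := mem_zpowers_iff.mp hy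
    rcases Int.even_or_odd i with ⟨k, rfl⟩ | ⟨k, rfl⟩
    · refine absurd ?_ hzM
      rw [← e, zpow_add, ← (Commute.refl g).mul_zpow]
      exact mul_mem hm (zpow_mem (hsq' g) k)
    · rw [← e, show g * (m * g ^ (2 * k + 1)) =
        (g * m * g⁻¹ * m⁻¹) * m * (g * g) ^ (k + 1) by
          rw [← pow_two, ← zpow_natCast, ← zpow_mul]; group]
      exact mul_mem (mul_mem (hcm g m) hm) (zpow_mem (hsq' g) _)
  have hidx : ∀ g h, (g * h ∈ M ↔ (g ∈ M ↔ h ∈ M)) := by
    intro g h
    by_cases hg : g ∈ M
    · rw [M.mul_mem_cancel_left hg]; simp [hg]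
    by_cases hh : h ∈ M
    · rw [M.mul_mem_cancel_right hh]; simp [hg, hh]
    simp only [hg, hh, iff_self, iff_true]
    haveI : M.Normal := ⟨fun n hn g => by simpa [mul_assoc] using mul_mem (hcm g n) hn⟩
    have h1 := hout h hh
    have h3 : z * (h * z) * z⁻¹ ∈ M := (inferInstance : M.Normal).conj_mem _ h1 z
    rw [show z * (h * z) * z⁻¹ = z * h by group] at h3
    have := mul_mem (hout g hg) h3
    rwa [show g * z * (z * h) = g * (z * z) * h by group, hz2, mul_one] at this
  let χ : H →* ℤˣ :=
    { toFun := fun g => if g ∈ M then 1 else -1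
      map_one' := if_pos (one_mem _)
      map_mul' := fun g h => by
        have := hidx g h
        by_cases hg : g ∈ M <;> by_cases hh : h ∈ M <;> simp_all }
  have hχz : χ z = -1 := if_neg hzM
  refine ⟨χ, hχz, fun x hx => ?_⟩
  rcases Int.units_eq_one_or (χ x) with h | h
  swap
  · exact h
  exfalso
  have hall : ∀ y ∈ S, χ y = 1 := fun y hy => by
    obtain ⟨g, rfl⟩ := hone x hx y hy
    rw [map_mul, map_mul, h, mul_one, ← map_mul, mul_inv_cancel, map_one]
  have htop : Subgroup.closure S ≤ χ.ker := (closure_le _).mpr hall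
  rw [hgen] at htop
  have : χ z = 1 := htop (mem_top z)
  rw [hχz] at this
  exact absurd this (by decide)

/-- The derived subgroup has index two and contains no member. -/
theorem layer (ht : TSys D) (hone : ∀ x ∈ D, ∀ y ∈ D, ∃ g : G, g * x * g⁻¹ = y) (hd : a ∈ D)
    (ε : G →* ℤˣ) (hε : ∀ x ∈ D, ε x = -1) :
    commutator G = ε.ker ∧ (commutator G).index = 2 ∧ ∀ x ∈ D, x ∉ commutator G := by
  have hker : commutator G ≤ ε.ker := Abelianization.commutator_subset_ker ε
  have hmem : ∀ g : G, (ε g = 1 ∧ g ∈ commutator G) ∨ (ε g = -1 ∧ g * a ∈ commutator G) := by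
    intro g
    have hstep : ∀ x ∈ D, x * a ∈ commutator G := fun x hx => by
      obtain ⟨k, rfl⟩ := hone a hd x hx
      have : ⁅k, a⁆ ∈ commutator G := commutator_mem_commutator (mem_top k) (mem_top a)
      rwa [commutatorElement_def, ht.inv_self hd] at this
    induction (ht.gen ▸ mem_top g : g ∈ Subgroup.closure D) using Subgroup.closure_induction with
    | mem x hx => exact Or.inr ⟨hε x hx, hstep x hx⟩
    | one => exact Or.inl ⟨map_one ε, one_mem _⟩
    | mul u v _ _ hu hv =>
      rcases hu with ⟨e1, h1⟩ | ⟨e1, h1⟩ <;> rcases hv with ⟨e2, h2⟩ | ⟨e2, h2⟩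
      · exact Or.inl ⟨by rw [map_mul, e1, e2, one_mul], mul_mem h1 h2⟩
      · exact Or.inr ⟨by rw [map_mul, e1, e2, one_mul], by rw [mul_assoc]; exact mul_mem h1 h2⟩
      · refine Or.inr ⟨by rw [map_mul, e1, e2, mul_one], ?_⟩
        rw [show u * v * a = (u * a) * (a⁻¹ * v * a⁻¹⁻¹) by group]
        exact mul_mem h1 ((inferInstance : (commutator G).Normal).conj_mem v h2 a⁻¹)
      · refine Or.inl ⟨by rw [map_mul, e1, e2]; norm_num, ?_⟩
        have h2' : a * v ∈ commutator G := by
          have := (inferInstance : (commutator G).Normal).conj_mem _ h2 a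
          rwa [mul_assoc, mul_assoc v, mul_inv_cancel, mul_one] at this
        have := mul_mem h1 h2'
        rwa [mul_assoc, ← mul_assoc a, ht.sq a hd, one_mul] at this
    | inv u _ hu =>
      rcases hu with ⟨e1, h1⟩ | ⟨e1, h1⟩
      · exact Or.inl ⟨by rw [map_inv, e1, inv_one], inv_mem h1⟩
      · refine Or.inr ⟨by rw [map_inv, e1]; rfl, ?_⟩
        have h' := (inferInstance : (commutator G).Normal).conj_mem _ (inv_mem h1) a⁻¹
        rwa [mul_inv_rev, inv_inv, show a⁻¹ * (a⁻¹ * u⁻¹) * a = (a⁻¹ * a⁻¹) * u⁻¹ * a by group,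
          ht.inv_self hd, ht.sq a hd, one_mul] at h'
  have heq : commutator G = ε.ker := le_antisymm hker fun g hg => by
    rcases hmem g with ⟨-, h⟩ | ⟨h, -⟩
    · exact h
    · rw [MonoidHom.mem_ker.mp hg] at h; exact absurd h (by decide)
  refine ⟨heq, ?_, fun x hx h => ?_⟩
  · rw [heq, Subgroup.index_ker, show ε.range = ⊤ from MonoidHom.range_eq_top.mpr fun u => ?_]
    · rw [card_top, Nat.card_eq_fintype_card]; rfl
    · rcases Int.units_eq_one_or u with rfl | rfl
      · exact ⟨1, map_one ε⟩
      · exact ⟨a, hε a hd⟩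
  · rw [heq, MonoidHom.mem_ker, hε x hx] at h
    exact absurd h (by decide)

end Cfsg.Agent.ThreeTransSign39
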