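import Cfsg.Agent.Lib.Fi22Lift58
import Cfsg.Agent.Lib.ThreeTransM22Pres51
import Cfsg.Agent.Lib.ThreeTransM24Order59
import Cfsg.Agent.Lib.ThreeTransSign39

/-!
In type M(24) no member lies in the derived subgroup, and that subgroup has index two.

At commuting members `d`, `e` the common centralizer modulo `⟨d, e⟩` is the presented Fi22; as the spider
lifts to one, not both of `d`, `e` lie in its derived subgroup, and by symmetry neither does. The index
31671 of it in the centralizer of `d` being odd, the transfer gives a sign on that centralizer, which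
extends to the group.
-/

set_option autoImplicit false
set_option linter.unusedSectionVars false
set_option linter.style.haveILetI false

namespace Cfsg.Agent.ThreeTransM24Layer58

open Subgroup Cfsg.Agent.ThreeTransRel Cfsg.Agent.ThreeTransDescent Cfsg.Agent.CosetCertPres
open Cfsg.Agent.CosetCertCore
open Cfsg.Agent.ThreeTransM24Order59 (Hyp)
open Cfsg.Agent.Fi22Lift58 (P22)
open scoped commutatorElement

variable {G : Type*} [Group G] [Finite G] {D : Set G} {d : G}

/-- The common centralizer of `d` and `e`. -/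
def K (D : Set G) (d e : G) : Subgroup G := loc D d ⊓ centralizer ({e} : Set G)

variable (H : Hyp D d)
include H

theorem self : d ∈ loc D d := by
  rw [← H.cent]; exact mem_centralizer_singleton_iff.mpr rfl

theorem im_mul {x y : G} (hx : x ∈ loc D d) (hy : y ∈ loc D d) :
    im D d (x * y) = im D d x * im D d y := by
  rw [im_eq hx, im_eq hy, im_eq (mul_mem hx hy)]
  rfl

theorem center_cases (x : ↥(loc D d)) (hx : x ∈ Subgroup.center ↥(loc D d)) :
    (x : G) = 1 ∨ (x : G) = d := by
  obtain ⟨a, b, hab, huniv⟩ := Nat.card_eq_two_iff.mp H.card_centre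
  have hdc : (⟨d, self H⟩ : ↥(loc D d)) ∈ Subgroup.center ↥(loc D d) :=
    Subgroup.mem_center_iff.mpr fun g => Subtype.ext (commute_d_of_mem_loc g.2).symm.eq
  have hd1 := ThreeTrans.ne_one H.grp.1 H.mem
  have key : ∀ z : ↥(Subgroup.center ↥(loc D d)), z = a ∨ z = b := fun z => by
    have : z ∈ ({a, b} : Set _) := huniv ▸ Set.mem_univ z
    exact this
  rcases key ⟨x, hx⟩ with h1 | h1 <;> rcases key 1 with h2 | h2 <;>
    rcases key ⟨⟨d, self H⟩, hdc⟩ with h3 | h3
  all_goals
    first
      | exact Or.inl (congrArg (fun z : ↥(Subgroup.center ↥(loc D d)) => ((z : ↥(loc D d)) : G))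
          (h1.trans h2.symm))
      | exact Or.inr (congrArg (fun z : ↥(Subgroup.center ↥(loc D d)) => ((z : ↥(loc D d)) : G))
          (h1.trans h3.symm))
      | exact absurd (congrArg (fun z : ↥(Subgroup.center ↥(loc D d)) => ((z : ↥(loc D d)) : G))
          (h2.trans h3.symm)).symm hd1

theorem im_ker {x : G} (hx : x ∈ loc D d) (h : im D d x = 1) : x = 1 ∨ x = d := by
  rw [im_eq hx] at h
  exact center_cases H _ ((QuotientGroup.eq_one_iff _).mp h)

/-- The map to the presented group, its kernel, and lifts of the generators. -/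
theorem exists_map {e : G} (he : e ∈ near D d) :
    ∃ (π : ↥(K D d e) →* P22.Grp) (u : ℕ → ↥(K D d e)),
      Function.Surjective π ∧ Fi22Lift58.Lifts π u ∧
      (∀ x : ↥(K D d e), π x = 1 ↔ ((x : G) = 1 ∨ (x : G) = d ∨ (x : G) = e ∨ (x : G) = d * e)) := by
  classical
  set E := imgSet D d with hE
  set eY := im D d e with heY
  have X := ThreeTransM23Cent59.ctx_all H.qgrp H.qprim H.q23 eY (H.im_mem he)
  obtain ⟨φ, hφ⟩ := ThreeTransM22Pres51.exists_equiv X.qgrp X.qprim X.q22
  have hcent : ∀ x : ↥(K D d e), im D d x ∈ loc E eY := fun x => by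
    rw [← ThreeTransM23Cent59.centralizer_eq X, mem_centralizer_singleton_iff, heY,
      ← im_mul H x.2.1 (near_le_loc he), ← im_mul H (near_le_loc he) x.2.1,
      mem_centralizer_singleton_iff.mp x.2.2]
  let f : ↥(K D d e) →* ↥(loc E eY) :=
    { toFun := fun x => ⟨im D d x, hcent x⟩
      map_one' := Subtype.ext ((im_eq (one_mem (loc D d))).trans rfl)
      map_mul' := fun x y => Subtype.ext (im_mul H x.2.1 y.2.1) }
  let π : ↥(K D d e) →* P22.Grp :=
    (φ.symm.toMonoidHom.comp (QuotientGroup.mk' (Subgroup.center ↥(loc E eY)))).comp f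
  have hπ : ∀ x, φ (π x) = im E eY (im D d x) := fun x => by
    rw [im_eq (hcent x)]
    exact φ.apply_symm_apply _
  have hgen : ∀ i, ∃ p ∈ near D d, p ≠ e ∧ Commute p e ∧
      im E eY (im D d p) = φ (P22.gg i) := by
    intro i
    obtain ⟨y, hy, hy'⟩ := X.surj_img (hφ (P22.gen i))
    obtain ⟨p, hp, rfl⟩ := H.surj_img hy.1
    exact ⟨p, hp, fun h => hy.2.1 (by rw [h]), ((H.comm_iff he hp).mp hy.2.2).symm, hy'⟩
  choose p hp hpe hpc hpim using hgen
  have hpK : ∀ i, p i ∈ K D d e := fun i =>
    ⟨near_le_loc (hp i), mem_centralizer_singleton_iff.mpr (hpc i).eq⟩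
  have hpY : ∀ i, im D d (p i) ∈ near E eY := fun i =>
    ⟨H.im_mem (hp i), fun h => hpe i (H.inj (hp i) he h), (H.comm_iff he (hp i)).mpr (hpc i).symm⟩
  let u : ℕ → ↥(K D d e) := fun i => ⟨p i, hpK i⟩
  have hmap : ∀ i, π (u i) = P22.gg i := fun i => φ.injective (by rw [hπ]; exact hpim i)
  have hinj : ∀ i j, P22.gg i = P22.gg j → u i = u j := fun i j h => by
    refine Subtype.ext (H.inj (hp i) (hp j) (X.inj (hpY i) (hpY j) ?_))
    rw [hpim, hpim, h]
  have hcomm : ∀ i j, Commute (P22.gg i) (P22.gg j) → Commute (u i) (u j) := fun i j h => by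
    refine Subtype.ext ((H.comm_iff (hp i) (hp j)).mp ((X.comm_iff (hpY i) (hpY j)).mp ?_)).eq
    rw [hpim, hpim]
    exact h.map φ.toMonoidHom
  have hsq : ∀ i, u i * u i = 1 := fun i => Subtype.ext (H.ts.sq _ (hp i).1)
  refine ⟨π, u, ?_, ⟨hmap, hsq, ?_⟩, ?_⟩
  · refine MonoidHom.range_eq_top.mp (top_le_iff.mp ?_)
    rw [← closure_gg Fi22Lift58.good]
    refine (closure_le _).mpr ?_
    rintro _ ⟨i, -, rfl⟩
    exact ⟨u i, hmap i⟩
  · intro w hw
    simp only [List.mem_flatMap, List.mem_map, List.mem_range] at hw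
    obtain ⟨i, hi, k, hk, rfl⟩ := hw
    have hrel : val P22.gg (P22.pairWord i (i + k)) = 1 := by
      refine val_relWords Fi22Lift58.good (List.mem_append_left _ ?_)
      simp only [List.mem_flatMap, List.mem_map, List.mem_range]
      exact ⟨i, hi, k, hk, rfl⟩
    unfold Pres.pairWord at hrel ⊢
    split at hrel
    · rename_i h
      rw [if_pos h]
      simp [val, hsq]
    · rename_i h
      rw [if_neg h]
      rw [val_replicate] at hrel ⊢
      simp only [val_cons, val_nil, mul_one] at hrel ⊢
      rcases (show ∀ a < 9, ∀ b < 9, a ≠ b →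
          Cfsg.Spor.coxLabel P22.edges (P22.gen a) (P22.gen b) = 2 ∨
          Cfsg.Spor.coxLabel P22.edges (P22.gen a) (P22.gen b) = 3 from by decide +kernel)
          i hi (i + k) (by omega) h with e2 | e2 <;> rw [e2] at hrel ⊢
      · have hc : Commute (P22.gg i) (P22.gg (i + k)) := by
          rw [pow_two] at hrel
          have := inv_eq_of_mul_eq_one_right hrel
          rw [mul_inv_rev, inv_of_sq _ (gg_sq Fi22Lift58.good), inv_of_sq _ (gg_sq Fi22Lift58.good)]
            at this
          exact this.symm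
        rw [(hcomm _ _ hc).mul_pow, pow_two, pow_two, hsq, hsq, one_mul]
      · by_cases hc : Commute (p i) (p (i + k))
        · have hu : Commute (u i) (u (i + k)) := Subtype.ext hc.eq
          have hg := hu.map π
          rw [hmap, hmap] at hg
          rw [hg.mul_pow, pow_succ, pow_two, gg_sq Fi22Lift58.good, one_mul, pow_succ, pow_two,
            gg_sq Fi22Lift58.good, one_mul] at hrel
          have heq : P22.gg i = P22.gg (i + k) := by
            rw [← mul_one (P22.gg i), ← gg_sq Fi22Lift58.good (i + k), ← mul_assoc, hrel, one_mul]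
          rw [hinj _ _ heq, hsq, one_pow]
        · refine Subtype.ext ?_
          exact ThreeTransSign39.cube H.ts (hp i).1 (hp (i + k)).1 hc
  · intro x
    have hxl : (x : G) ∈ loc D d := x.2.1
    constructor
    · intro h
      have h1 : im E eY (im D d x) = 1 := by rw [← hπ, h]; exact map_one φ
      rcases X.ker (hcent x) h1 with h2 | h2
      · exact (im_ker H hxl h2).imp id Or.inl
      · have h3 : im D d ((x : G) * e) = 1 := by
          rw [im_mul H hxl (near_le_loc he), h2, heY, ← im_mul H (near_le_loc he) (near_le_loc he),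
            H.ts.sq e he.1, im_eq (one_mem (loc D d))]
          rfl
        rcases im_ker H (mul_mem hxl (near_le_loc he)) h3 with h4 | h4
        · refine Or.inr (Or.inr (Or.inl ?_))
          exact (eq_inv_of_mul_eq_one_left h4).trans (H.ts.inv_self he.1)
        · refine Or.inr (Or.inr (Or.inr ?_))
          calc (x : G) = (x : G) * (e * e) := by rw [H.ts.sq e he.1, mul_one]
            _ = d * e := by rw [← mul_assoc, h4]
    · intro h
      refine φ.injective (Eq.trans ?_ (map_one φ).symm)
      rw [hπ]
      have he1 : im E eY eY = 1 := by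
        rw [im_eq X.self]
        exact (mk_eq_one_iff _).mpr fun y hy => hy.2.2.symm
      have hd1 : im D d d = 1 := by
        rw [im_eq (self H)]
        exact (mk_eq_one_iff _).mpr fun y hy => hy.2.2.symm
      have h1 : im D d (1 : G) = 1 := by rw [im_eq (one_mem (loc D d))]; rfl
      have h0 : im E eY (1 : _) = 1 := by rw [im_eq (one_mem (loc E eY))]; rfl
      rcases h with h | h | h | h <;> rw [h]
      · rw [h1, h0]
      · rw [hd1, h0]
      · rw [← heY, he1]
      · rw [im_mul H (self H) (near_le_loc he), hd1, one_mul, ← heY, he1]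

theorem mem_K_self {e : G} (he : e ∈ near D d) : d ∈ K D d e :=
  ⟨self H, mem_centralizer_singleton_iff.mpr he.2.2.eq⟩

theorem mem_K_other {e : G} (he : e ∈ near D d) : e ∈ K D d e :=
  ⟨near_le_loc he, mem_centralizer_singleton_iff.mpr rfl⟩

/-- No member of a commuting pair is derived in the common centralizer. -/
theorem not_derived {e : G} (he : e ∈ near D d) :
    (⟨d, mem_K_self H he⟩ : ↥(K D d e)) ∉ commutator ↥(K D d e) := by
  intro hd'
  obtain ⟨π, u, -, hu, hker⟩ := exists_map H he
  obtain ⟨ρ, hρ⟩ := Fi22Lift58.derived_ker' π (u := u) (fun z hz => by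
    have hcd : Commute d e := he.2.2
    have hz' : ∀ g : ↥(K D d e), Commute (g : G) (z : G) := fun g => by
      have h1 : Commute (g : G) d := (commute_d_of_mem_loc g.2.1).symm
      have h2 : Commute (g : G) e := mem_centralizer_singleton_iff.mp g.2.2
      rcases (hker z).mp hz with h | h | h | h <;> rw [h]
      · exact Commute.one_right _
      · exact h1
      · exact h2
      · exact h1.mul_right h2
    refine ⟨fun g => Subtype.ext (hz' g).eq, Subtype.ext ?_⟩
    show (z : G) * z = 1
    rcases (hker z).mp hz with h | h | h | h <;> rw [h]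
    · exact one_mul _
    · exact H.ts.sq d H.mem
    · exact H.ts.sq e he.1
    · rw [mul_assoc, ← mul_assoc e, ← hcd.eq, mul_assoc d e, H.ts.sq e he.1, mul_one,
        H.ts.sq d H.mem]) hu
  obtain ⟨c, hc, hdc, hce⟩ := ThreeTransSign39.exists_common H.ts H.prim.1 H.centre H.mem he.1
    he.2.1.symm
  set g := c * d * e * c with hg
  have hde : d * e * d = e := by rw [he.2.2.eq, mul_assoc, H.ts.sq d H.mem, mul_one]
  have hed : e * d * e = d := by rw [← he.2.2.eq, mul_assoc, H.ts.sq e he.1, mul_one]
  have hginv : g⁻¹ = c * e * d * c := by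
    rw [hg, mul_inv_rev, mul_inv_rev, mul_inv_rev, H.ts.inv_self hc, H.ts.inv_self H.mem,
      H.ts.inv_self he.1]
    group
  have hgd : g * d * g⁻¹ = e := by
    rw [hginv, hg]
    calc c * d * e * c * d * (c * e * d * c) = c * d * e * (c * d * c) * e * d * c := by group
      _ = c * d * e * (d * c * d) * e * d * c := by
          rw [H.ts.braid c hc d H.mem fun h => hdc h.symm]
      _ = c * (d * e * d) * c * (d * e * d) * c := by group
      _ = c * e * c * e * c := by rw [hde]
      _ = (c * e * c) * e * c := by group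
      _ = (e * c * e) * e * c := by rw [H.ts.braid c hc e he.1 hce]
      _ = e * c * (e * e) * c := by group
      _ = e := by rw [H.ts.sq e he.1, mul_one, mul_assoc, H.ts.sq c hc, mul_one]
  have hge : g * e * g⁻¹ = d := by
    have hg' : g = c * e * d * c := by rw [hg, mul_assoc c d e, he.2.2.eq, ← mul_assoc]
    have hgi : g⁻¹ = c * d * e * c := by rw [hginv, mul_assoc c e d, ← he.2.2.eq, ← mul_assoc]
    rw [hgi, hg']
    calc c * e * d * c * e * (c * d * e * c) = c * e * d * (c * e * c) * d * e * c := by group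
      _ = c * e * d * (e * c * e) * d * e * c := by rw [H.ts.braid c hc e he.1 hce]
      _ = c * (e * d * e) * c * (e * d * e) * c := by group
      _ = c * d * c * d * c := by rw [hed]
      _ = (c * d * c) * d * c := by group
      _ = (d * c * d) * d * c := by rw [H.ts.braid c hc d H.mem fun h => hdc h.symm]
      _ = d * c * (d * d) * c := by group
      _ = d := by rw [H.ts.sq d H.mem, mul_one, mul_assoc, H.ts.sq c hc, mul_one]
  have hK : ∀ x ∈ K D d e, g * x * g⁻¹ ∈ K D d e := by
    intro x hx
    have h1 : Commute (g * x * g⁻¹) e := by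
      rw [← hgd]; exact (Commute.conj_iff g).mpr (commute_d_of_mem_loc hx.1).symm
    have h2 : Commute (g * x * g⁻¹) d := by
      rw [← hge]; exact (Commute.conj_iff g).mpr (mem_centralizer_singleton_iff.mp hx.2)
    refine ⟨?_, mem_centralizer_singleton_iff.mpr h1.eq⟩
    rw [← H.cent]
    exact mem_centralizer_singleton_iff.mpr h2.eq
  have hd2 : d ∈ ⁅K D d e, K D d e⁆ := by
    rw [← Subgroup.map_subtype_commutator]; exact ⟨_, hd', rfl⟩
  have he2 : e ∈ ⁅K D d e, K D d e⁆ := by
    have h := Subgroup.mem_map_of_mem (MulAut.conj g).toMonoidHom hd2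
    rw [Subgroup.map_commutator] at h
    have hle : (K D d e).map (MulAut.conj g).toMonoidHom ≤ K D d e := by
      rintro _ ⟨x, hx, rfl⟩
      exact hK x hx
    have h' := Subgroup.commutator_mono hle hle h
    change g * d * g⁻¹ ∈ _ at h'
    rwa [hgd] at h'
  rw [← Subgroup.map_subtype_commutator] at he2
  obtain ⟨y, hy, hye⟩ := he2
  have hd1 : d ≠ 1 := ThreeTrans.ne_one H.grp.1 H.mem
  have he1 : e ≠ 1 := ThreeTrans.ne_one H.grp.1 he.1
  have h1 := (hρ _ hd' ((hker _).mpr (Or.inr (Or.inl rfl)))).resolve_left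
    fun h => hd1 (congrArg Subtype.val h)
  have h2 := (hρ y hy ((hker _).mpr (Or.inr (Or.inr (Or.inl hye))))).resolve_left
    fun h => he1 (by rw [← hye, h]; rfl)
  refine he.2.1 ?_
  rw [← hye, h2, ← h1]
  rfl

/-- A member is not derived in its local group. -/
theorem not_derived_loc : (⟨d, self H⟩ : ↥(loc D d)) ∉ commutator ↥(loc D d) := by
  obtain ⟨e, he⟩ := Set.nonempty_of_ncard_ne_zero
    (show (near D d).ncard ≠ 0 by rw [ThreeTransM24Order59.ncard_near H]; norm_num)
  intro hd'
  have hle : K D d e ≤ loc D d := inf_le_left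
  obtain ⟨π, -, hs, -, hker⟩ := exists_map H he
  have hd1 : d ≠ 1 := ThreeTrans.ne_one H.grp.1 H.mem
  have he1 : e ≠ 1 := ThreeTrans.ne_one H.grp.1 he.1
  have hde1 : d * e ≠ 1 := fun h => he.2.1 (by
    rw [← one_mul e, ← H.ts.sq d H.mem, mul_assoc, h, mul_one])
  have hcard4 : Nat.card ↥π.ker = 4 := by
    classical
    rw [Nat.card_congr (show ↥π.ker ≃ ({1, d, e, d * e} : Finset G) from
      { toFun := fun x => ⟨((x : ↥(K D d e)) : G), by
          rcases (hker x).mp x.2 with h | h | h | h <;> simp [h]⟩
        invFun := fun x => ⟨⟨x, by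
            have := x.2
            simp only [Finset.mem_insert, Finset.mem_singleton] at this
            rcases this with h | h | h | h <;> rw [h]
            exacts [one_mem _, mem_K_self H he, mem_K_other H he,
              mul_mem (mem_K_self H he) (mem_K_other H he)]⟩, (hker _).mpr (by
            have := x.2
            simp only [Finset.mem_insert, Finset.mem_singleton] at this
            exact this)⟩
        left_inv := fun x => rfl
        right_inv := fun x => rfl }), Nat.card_eq_fintype_card, Fintype.card_coe]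
    rw [Finset.card_insert_of_notMem, Finset.card_insert_of_notMem,
      Finset.card_insert_of_notMem, Finset.card_singleton]
    · simp only [Finset.mem_singleton]
      exact fun h => hd1 (mul_eq_right.mp h.symm)
    · simp only [Finset.mem_insert, Finset.mem_singleton, not_or]
      exact ⟨he.2.1.symm, fun h => he1 (left_eq_mul.mp h)⟩
    · simp only [Finset.mem_insert, Finset.mem_singleton, not_or]
      exact ⟨hd1.symm, he1.symm, hde1.symm⟩
  have hKcard : Nat.card ↥(K D d e) = 4 * 64561751654400 := by
    rw [← Subgroup.card_mul_index π.ker, Subgroup.index_ker, hcard4,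
      MonoidHom.range_eq_top.mpr hs, Subgroup.card_top, CosetCertFi22Simple.card_and_faithful.1]
  have hidx : ((K D d e).subgroupOf (loc D d)).index = 31671 := by
    have h := Subgroup.card_mul_index ((K D d e).subgroupOf (loc D d))
    rw [Nat.card_congr (Subgroup.subgroupOfEquivOfLe hle).toEquiv, hKcard, ← H.cent,
      ThreeTransM24Order59.card_centralizer H] at h
    norm_num at h
    rw [H.cent] at h
    omega
  let ψ : ↥((K D d e).subgroupOf (loc D d)) →* Abelianization ↥(K D d e) :=
    Abelianization.of.comp (Subgroup.subgroupOfEquivOfLe hle).toMonoidHom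
  have hcen : ∀ g : ↥(loc D d), Commute g ⟨d, self H⟩ := fun g =>
    Subtype.ext (commute_d_of_mem_loc g.2).symm.eq
  have ht := MonoidHom.transfer_eq_pow ψ (⟨d, self H⟩ : ↥(loc D d)) fun k g₀ _ => by
    rw [mul_assoc, ← ((hcen g₀).pow_right k).eq, inv_mul_cancel_left]
  have h1 : MonoidHom.transfer ψ (⟨d, self H⟩ : ↥(loc D d)) = 1 :=
    Abelianization.commutator_subset_ker (MonoidHom.transfer ψ) hd'
  rw [h1] at ht
  have hpow : (⟨d, self H⟩ : ↥(loc D d)) ^ ((K D d e).subgroupOf (loc D d)).index = ⟨d, self H⟩ := by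
    rw [hidx, show 31671 = 2 * 15835 + 1 from rfl, pow_succ, pow_mul, pow_two,
      show (⟨d, self H⟩ : ↥(loc D d)) * ⟨d, self H⟩ = 1 from Subtype.ext (H.ts.sq d H.mem),
      one_pow, one_mul]
  refine not_derived H he ?_
  rw [← Abelianization.ker_of, MonoidHom.mem_ker]
  refine Eq.trans ?_ ht.symm
  show Abelianization.of _ = Abelianization.of _
  exact congrArg _ (Subtype.ext (congrArg Subtype.val hpow).symm)

/-- A sign on the whole group. -/
theorem exists_sign : ∃ ε : G →* ℤˣ, ∀ x ∈ D, ε x = -1 := by
  have hgen : Subgroup.closure {x : ↥(loc D d) | (x : G) ∈ near D d} = ⊤ := by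
    refine Subgroup.map_injective (loc D d).subtype_injective ?_
    rw [MonoidHom.map_closure, ← MonoidHom.range_eq_map, Subgroup.range_subtype]
    exact congrArg Subgroup.closure (Set.ext fun y => ⟨fun ⟨x, hx, hxy⟩ => hxy ▸ hx,
      fun hy => ⟨⟨y, near_le_loc hy⟩, hy, rfl⟩⟩)
  obtain ⟨χ, hχd, hχ⟩ := ThreeTransSign39.exists_local_sign hgen
    (fun x hx => Subtype.ext (H.ts.sq _ hx.1)) (not_derived_loc H)
    (Subtype.ext (H.ts.sq d H.mem)) fun x hx y hy => by
      obtain ⟨q, hq⟩ := H.qprim.1 _ (H.im_mem hx) _ (H.im_mem hy)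
      obtain ⟨g, rfl⟩ := QuotientGroup.mk_surjective q
      refine ⟨g, Subtype.ext ?_⟩
      refine H.inj (near_conj H.ts (commute_d_of_mem_loc g.2).symm hx) hy ?_
      show im D d ((g : G) * x * (g : G)⁻¹) = _
      rw [← hq, im_eq (near_le_loc (near_conj H.ts (commute_d_of_mem_loc g.2).symm hx)),
        im_eq (near_le_loc hx)]
      rfl
  refine ThreeTransSign39.exists_sign H.ts H.prim.1 H.centre H.mem
    (χ.comp (MulEquiv.subgroupCongr H.cent).toMonoidHom) fun y hy hyD => ?_
  by_cases hyd : y = d
  · subst hyd; exact hχd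
  · refine hχ _ ⟨hyD, hyd, ?_⟩
    exact (mem_centralizer_singleton_iff.mp hy).symm

/-- The derived subgroup has index two and contains no member. -/
theorem layer : (commutator G).index = 2 ∧ ∀ x ∈ D, x ∉ commutator G := by
  obtain ⟨ε, hε⟩ := exists_sign H
  exact (ThreeTransSign39.layer H.ts H.prim.1 H.mem ε hε).2

end Cfsg.Agent.ThreeTransM24Layer58
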