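import Cfsg.Agent.S5361
import Cfsg.Agent.S5372
import Cfsg.Agent.Lib.FischerTop99
import Cfsg.Agent.Lib.ThreeTransM24Prim59

/-!
The derived group of a group with a primitive class of 3-transpositions of type M(24) is simple, of index
at most 2, and isomorphic to that of any other such group.
-/

set_option autoImplicit false
set_option linter.style.haveILetI false

open scoped commutatorElement

namespace Cfsg.Agent.Fi24Derived17

open Subgroup Cfsg.Agent.ThreeTransRel Cfsg.Agent.ThreeTransDescent

variable {X : Type*} [Group X] [Finite X] {D : Set X}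

theorem simple (hD : Cfsg.IsThreeTranspositionClass D) (hprim : Cfsg.IsPrimitiveUnderConj D)
    (h24 : Cfsg.IsOfTypeM24 X D) : IsSimpleGroup ↥(commutator X) := by
  obtain ⟨hZ, d, hd, -, -, -, ⟨-, d', ⟨y, hy, -⟩, -⟩, -⟩ := id h24
  refine (S5361.result hD hZ ⟨d, hd, y, hy.1, hy.2.1.symm, hy.2.2⟩).1.mpr hprim

theorem index_le_two (hD : Cfsg.IsThreeTranspositionClass D) : (commutator X).index ≤ 2 := by
  classical
  obtain ⟨⟨hord, -⟩, ⟨d, hd, hDd⟩, hgen⟩ := hD
  let q := QuotientGroup.mk' (commutator X)
  have himg : ∀ x ∈ D, q x = q d := by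
    intro x hx
    rw [hDd] at hx
    obtain ⟨g, rfl⟩ := isConj_iff.mp hx
    rw [QuotientGroup.mk'_apply, QuotientGroup.mk'_apply, QuotientGroup.eq]
    have e : (g * d * g⁻¹)⁻¹ * d = ⁅g, d⁻¹⁆ := by rw [commutatorElement_def]; group
    rw [e]
    exact commutator_mem_commutator (mem_top _) (mem_top _)
  have htop : (⊤ : Subgroup (X ⧸ commutator X)) ≤ zpowers (q d) := by
    rw [← MonoidHom.range_eq_top.mpr (QuotientGroup.mk'_surjective (commutator X)),
      MonoidHom.range_eq_map, ← hgen, MonoidHom.map_closure, closure_le]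
    rintro _ ⟨x, hx, rfl⟩
    exact (himg x hx) ▸ mem_zpowers _
  have h2 : q d ^ 2 = 1 := by rw [← map_pow, ← hord d hd, pow_orderOf_eq_one, map_one]
  calc (commutator X).index = Nat.card (⊤ : Subgroup (X ⧸ commutator X)) := by
        rw [Subgroup.card_top]; rfl
    _ ≤ Nat.card (zpowers (q d)) := card_le_of_le htop
    _ ≤ 2 := by rw [Nat.card_zpowers]; exact orderOf_le_of_pow_eq_one (by norm_num) h2

/-- A subgroup of index 2 is the derived group. -/
theorem eq_commutator (hD : Cfsg.IsThreeTranspositionClass D) {H : Subgroup X} (hH : H.index = 2) :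
    H = commutator X := by
  haveI : H.Normal := normal_of_index_eq_two hH
  haveI : Fact (Nat.Prime 2) := ⟨Nat.prime_two⟩
  haveI : IsCyclic (X ⧸ H) := isCyclic_of_prime_card (p := 2) hH
  letI : CommGroup (X ⧸ H) := IsCyclic.commGroup
  have hle : commutator X ≤ H := by
    have h := Abelianization.commutator_subset_ker (QuotientGroup.mk' H)
    rwa [QuotientGroup.ker_mk'] at h
  refine le_antisymm ?_ hle
  have h1 := relIndex_mul_index hle
  rw [hH] at h1
  have h2 := index_le_two hD
  have hr : (commutator X).relIndex H = 1 := by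
    have h0 : (commutator X).index ≠ 0 := index_ne_zero_of_finite
    rcases Nat.eq_zero_or_pos ((commutator X).relIndex H) with h | h
    · rw [h, zero_mul] at h1; exact absurd h1.symm h0
    · omega
  exact relIndex_eq_one.mp hr

/-- Two such groups have isomorphic derived groups. -/
theorem iso_commutator {Y : Type*} [Group Y] [Finite Y] {E : Set Y}
    (hD : Cfsg.IsThreeTranspositionClass D) (hp : Cfsg.IsPrimitiveUnderConj D)
    (h24 : Cfsg.IsOfTypeM24 X D) (hE : Cfsg.IsThreeTranspositionClass E)
    (hp' : Cfsg.IsPrimitiveUnderConj E) (h24' : Cfsg.IsOfTypeM24 Y E) :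
    Nonempty (↥(commutator X) ≃* ↥(commutator Y)) := by
  have g1 := FischerTop99.isGroup_of_class hD
  have g2 := FischerTop99.isGroup_of_class hE
  obtain ⟨d, hd, -, -, a3, a2⟩ := ThreeTransM24Prim59.m24_cores g1 hp h24
  obtain ⟨d', hd', -, -, b3, b2⟩ := ThreeTransM24Prim59.m24_cores g2 hp' h24'
  obtain ⟨e, -⟩ := S5372.result g1 hp h24.1 d hd a3 a2 g2 hp' h24'.1 d' hd' b3 b2 h24 h24'
  exact ⟨(MulEquiv.subgroupMap e (commutator X)).trans (MulEquiv.subgroupCongr
    (show (commutator X).map (e : X →* Y) = commutator Y by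
      rw [commutator_def, commutator_def, map_commutator, map_top_of_surjective (e : X →* Y) e.surjective]))⟩

end Cfsg.Agent.Fi24Derived17
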