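import Cfsg.Agent.Lib.ThreeTransM22Swap59

/-!
# Outer automorphisms of type M(22) move a conic over a fixed base

An outer automorphism fixing a member, adjusted, fixes three base members and moves a conic whose product
is the product of the base or that times the member.
-/

set_option autoImplicit false
set_option linter.unusedSectionVars false
set_option linter.style.haveILetI false

namespace Cfsg.Agent.ThreeTransM22Conic88

open Subgroup Cfsg.Agent.ThreeTransRel Cfsg.Agent.ThreeTransDescent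
open Cfsg.Agent.UnitaryF4Geo Cfsg.Agent.UnitaryF4Line
open Cfsg.Agent.ThreeTransM22Local72 Cfsg.Agent.ThreeTransM22Frame72 Cfsg.Agent.ThreeTransM22Lift72
open Cfsg.Agent.ThreeTransM22Std72 (comb_ne comb_mem perp_swap first_ne second_ne smul_three)
open Cfsg.Agent.ThreeTransM22Aut59

variable {G : Type*} [Group G] [Finite G] {D : Set G}
variable {F : Type} [Field F] [Fintype F] [hF : FourField F]
variable {d : G} {φ : ↥(loc D d) →* Cfsg.PSU 6 F 2}
variable (X : Ctx D d φ)

local notation "L" => ThreeTransM22Lift72.Chart.L X.chart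

include X

/-- The adjusted automorphism. -/
theorem outer_conic_ctx (hD : Cfsg.IsThreeTranspositionGroup D) {g : MulAut G} (hg : IsAut X g) :
    (∃ k, g = MulAut.conj k) ∨ ∃ k ∈ loc D d, ∃ M B : List G,
      CList D M ∧ M.length = 3 ∧ (∀ p ∈ M, p ∈ near D d) ∧
      CList D B ∧ (∀ p ∈ B, p ∈ near D d) ∧ (∀ p ∈ B, (MulAut.conj k * g) p = p) ∧
      (∃ p ∈ M, (MulAut.conj k * g) p ∉ M) ∧ (M.prod = B.prod ∨ M.prod = B.prod * d) := by
  obtain ⟨w, hw⟩ := exists_omega (F := F)
  obtain ⟨hw0, hw1⟩ := omega_ne hw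
  obtain ⟨S, hS, hdS⟩ : ∃ S : Set G, ThreeTransM22Outer72.Blk D S ∧ {d} ⊆ S := by
    by_contra hno
    push Not at hno
    have := ThreeTransM22Outer72.odd_blocks X.ts (T := {d}) (Set.singleton_subset_iff.mpr X.mem)
      (by simp)
    rw [show {B : Set G | ThreeTransM22Outer72.Blk D B ∧ {d} ⊆ B} = ∅ from
      Set.eq_empty_iff_forall_notMem.mpr fun B hB => hno B hB.1 hB.2, Set.ncard_empty] at this
    omega
  obtain ⟨e, f, hfr, hgood, -, -⟩ := ThreeTransM22Outer72.exists_plane X hS (hdS rfl) hw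
  obtain ⟨k, hk, hfix, hp⟩ := normalise X hfr hw hgood hg
  rcases std_cases X hfr hfix hp with h | ⟨he, -⟩
  · refine Or.inl ?_
    rcases fix_near X hD X.mem hfix.1.1 hfix.1.2 h with h' | h'
    · exact ⟨k⁻¹, eq_inv_of_mul_eq_one_right h' |>.trans (map_inv _ k).symm⟩
    · exact ⟨k⁻¹ * d, by rw [map_mul, ← h', map_inv, inv_mul_cancel_left]⟩
  refine Or.inr ⟨k, hk, conic X e w w, base X e, clist_conic X hfr hw, by simp [conic], ?_,
    clist_base X hfr, ?_, ?_, ?_, conic_cases X hfr hw0 hw⟩
  · intro p hp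
    simp only [conic, List.mem_cons, List.not_mem_nil, or_false] at hp
    rcases hp with rfl | rfl | rfl <;> exact L_mem X (hfr.h_ee _ _) (q_comb_ne X hfr _ _)
  · intro p hp
    simp only [base, List.mem_cons, List.not_mem_nil, or_false] at hp
    rcases hp with rfl | rfl | rfl <;> exact L_mem X (hfr.ee _ _) (hfr.ne_zero _)
  · have key : ∀ i : Fin 3, (MulAut.conj k * g) (L (e i)) = L (e i) := fun i => by
      have hne : (Pi.single i 1 : Fin 3 → F) ≠ 0 := fun h => by
        have := congrFun h i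
        simp at this
      have h1 : (MulAut.conj k * g) (L (comb e (Pi.single i 1))) =
          L (comb e (fun j => (Pi.single i 1 : Fin 3 → F) j ^ 2)) := he _ hne
      rw [show (fun j => (Pi.single i 1 : Fin 3 → F) j ^ 2) = Pi.single i 1 from funext fun j => by
        by_cases hj : j = i
        · subst hj; simp
        · simp [hj], comb_single] at h1
      exact h1
    intro p hp
    simp only [base, List.mem_cons, List.not_mem_nil, or_false] at hp
    rcases hp with rfl | rfl | rfl <;> exact key _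
  · have hsq : (fun i => q w 1 i ^ 2) = q (w + 1) 1 := by
      funext i; fin_cases i <;> simp [q, hw]
    refine ⟨L (comb e (q w 1)), by simp [conic], ?_⟩
    rw [show (MulAut.conj k * g) (L (comb e (q w 1))) = L (comb e (fun i => q w 1 i ^ 2)) from
      he _ (q_ne_zero w 1), hsq]
    exact conic_disjoint X hfr hw fun h => one_ne_zero (add_eq_left.mp h)

omit X

/-- Type M(22): an outer automorphism fixing a member, adjusted. -/
theorem outer_conic (hD : Cfsg.IsThreeTranspositionGroup D) (hprim : Cfsg.IsPrimitiveUnderConj D)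
    (h22 : Cfsg.IsOfTypeM22 G D) {s : G} (hs : s ∈ D) {g : MulAut G} (h₁ : ∀ y ∈ D, g y ∈ D)
    (h₁s : g s = s) :
    (∃ k, g = MulAut.conj k) ∨ ∃ k ∈ loc D s, ∃ M B : List G,
      CList D M ∧ M.length = 3 ∧ (∀ p ∈ M, p ∈ near D s) ∧
      CList D B ∧ (∀ p ∈ B, p ∈ near D s) ∧ (∀ p ∈ B, (MulAut.conj k * g) p = p) ∧
      (∃ p ∈ M, (MulAut.conj k * g) p ∉ M) ∧ (M.prod = B.prod ∨ M.prod = B.prod * s) := by
  obtain ⟨F, _, _, _, hctx⟩ := exists_ctx hD hprim h22
  obtain ⟨φ, X⟩ := hctx s hs
  exact outer_conic_ctx X hD ⟨h₁, h₁s⟩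

end Cfsg.Agent.ThreeTransM22Conic88
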