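import Cfsg.Agent.Lib.ThreeTransM23Local59

/-!
# The classes of involutions in type M(23)
-/

set_option autoImplicit false
set_option linter.unusedSectionVars false
set_option linter.style.haveILetI false

namespace Cfsg.Agent.ThreeTransM23Classes59

open Subgroup Cfsg.Agent.ThreeTransRel Cfsg.Agent.ThreeTransDescent
open Cfsg.Agent.ThreeTransM23Parity34 Cfsg.Agent.ThreeTransM23Local59

variable {G : Type*} [Group G] [Finite G] {D : Set G}

theorem clist_map (ht : TSys D) {l : List G} (hl : CList D l) (g : G) :
    CList D (l.map (MulAut.conj g)) := by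
  refine ⟨fun p hp => ?_, hl.nodup.map (MulAut.conj g).injective, fun p hp q hq => ?_⟩
  · obtain ⟨r, hr, rfl⟩ := List.mem_map.mp hp; exact ht.conj g r (hl.mem r hr)
  · obtain ⟨r, hr, rfl⟩ := List.mem_map.mp hp
    obtain ⟨r', hr', rfl⟩ := List.mem_map.mp hq
    exact (Commute.conj_iff g).mpr (hl.comm r hr r' hr')

variable {d : G} (X : Ctx D d)
include X

/-- Every involution is a product of at most three commuting members. -/
theorem exists_product {x : G} (hx : orderOf x = 2) :
    ∃ l : List G, CList D l ∧ 1 ≤ l.length ∧ l.length ≤ 3 ∧ l.prod = x := by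
  have h2 : x * x = 1 := by rw [← pow_two, ← hx]; exact pow_orderOf_eq_one x
  obtain ⟨y, hy, hxy⟩ := exists_commute_odd (m23_odd X.ts X.prim X.m23).1 h2
    fun y hy => X.ts.conj x y hy
  obtain ⟨g, hg⟩ := X.prim.1 y hy d X.mem
  have hx' : Commute (g * x * g⁻¹) d := hg ▸ (Commute.conj_iff g).mpr hxy
  have h2' : g * x * g⁻¹ * (g * x * g⁻¹) = 1 := by
    rw [show g * x * g⁻¹ * (g * x * g⁻¹) = g * (x * x) * g⁻¹ by group, h2]; group
  obtain ⟨l, hl, h1, h3, hp⟩ := X.local_product (X.involution_mem hx' h2') h2'
    fun h => by simp [conj_eq_one_iff.mp h] at hx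
  refine ⟨l.map (MulAut.conj g⁻¹), clist_map X.ts hl _, by simpa using h1, by simpa using h3, ?_⟩
  rw [← map_list_prod, hp, MulAut.conj_apply]; group

/-- No relation of at most five members. -/
theorem no_relation {r : List G} (hr : Rel D r) (hlen : r.length ≤ 5) : r = [] := by
  have ht := X.ts
  have hne : ∀ a ∈ r, a ≠ 1 := fun a ha => ThreeTrans.ne_one X.grp.1 (hr.mem a ha)
  rcases (show r.length ≤ 3 ∨ r.length = 4 ∨ r.length = 5 by omega) with h | h | h
  · exact no_short ht X.centre hr hne h
  · have hcl : Cfsg.IsThreeTranspositionClass D := class_of_types ht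
      (fun y hy => ThreeTrans.ne_one X.grp.1 hy) X.mem fun y hy => by
        obtain ⟨g, hg⟩ := X.prim.1 d X.mem y hy; exact isConj_iff.mpr ⟨g, hg⟩
    exact absurd h (no_four ht (le_bot_iff.mp
      (X.centre ▸ ThreeTransPrimitive.pCore_two_le_center hcl X.prim)) hr hne)
  · exact absurd h ((ThreeTransTypes.level2_of_m23 ThreeTransPairs.psu6Simple ht X.m23).no_five hr hne)

/-- Products of the same number of members are conjugate. -/
theorem isConj_products {l l' : List G} (hl : CList D l) (hl' : CList D l')
    (hlen : l.length = l'.length) (h1 : 1 ≤ l.length) (h3 : l.length ≤ 3) :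
    IsConj l.prod l'.prod := by
  -- a list moved so that it begins with `d`
  have hmove : ∀ {a : G} {t : List G}, CList D (a :: t) → ∃ t' : List G, t'.length = t.length ∧
      (∀ p ∈ t', p ∈ near D d) ∧ CList D t' ∧ IsConj (a :: t).prod (d * t'.prod) := by
    intro a t hat
    obtain ⟨g, hg⟩ := X.prim.1 a (hat.mem a (by simp)) d X.mem
    refine ⟨t.map (MulAut.conj g), by simp, fun p hp => ?_,
      clist_map X.ts (hat.sublist (List.sublist_cons_self a t)) g, isConj_iff.mpr ⟨g, ?_⟩⟩
    · obtain ⟨r, hr, rfl⟩ := List.mem_map.mp hp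
      refine ⟨X.ts.conj g r (hat.mem r (by simp [hr])), fun e => ?_,
        hg ▸ (Commute.conj_iff g).mpr (hat.comm a (by simp) r (by simp [hr]))⟩
      have hra : r = a := mul_left_cancel (mul_right_cancel (e.trans hg.symm))
      exact (List.nodup_cons.mp hat.nodup).1 (hra ▸ hr)
    · rw [← map_list_prod, MulAut.conj_apply, List.prod_cons, ← hg]; group
  obtain ⟨a, t, rfl⟩ := List.exists_cons_of_length_pos (l := l) (by omega)
  obtain ⟨a', u, rfl⟩ := List.exists_cons_of_length_pos (l := l') (by omega)
  obtain ⟨t', ht1, ht2, ht3, hc⟩ := hmove hl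
  obtain ⟨u', hu1, hu2, hu3, hc'⟩ := hmove hl'
  refine hc.trans (IsConj.trans ?_ hc'.symm)
  simp only [List.length_cons] at hlen h3
  suffices h : ∃ k ∈ loc D d, k * t'.prod * k⁻¹ = u'.prod by
    obtain ⟨k, hk, e⟩ := h
    refine isConj_iff.mpr ⟨k, ?_⟩
    rw [show k * (d * t'.prod) * k⁻¹ = k * d * k⁻¹ * (k * t'.prod * k⁻¹) by group, e,
      mul_inv_eq_iff_eq_mul.mpr (commute_d_of_mem_loc hk).symm.eq]
  match t', u', (show t'.length = u'.length by omega), (show t'.length ≤ 2 by omega) with
  | [], [], _, _ => exact ⟨1, one_mem _, by simp⟩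
  | [b], [b'], _, _ =>
    obtain ⟨k, hk, e⟩ := X.transitive (ht2 b (by simp)) (hu2 b' (by simp))
    exact ⟨k, hk, by simpa using e⟩
  | [b, c], [b', c'], _, _ =>
    obtain ⟨k, hk, e, e'⟩ := X.pair_transitive (ht2 b (by simp)) (ht2 c (by simp))
      (ht3.comm b (by simp) c (by simp)) (by have := ht3.nodup; simpa using this)
      (hu2 b' (by simp)) (hu2 c' (by simp)) (hu3.comm b' (by simp) c' (by simp))
      (by have := hu3.nodup; simpa using this)
    refine ⟨k, hk, ?_⟩
    simp only [List.prod_cons, List.prod_nil, mul_one]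
    rw [show k * (b * c) * k⁻¹ = (k * b * k⁻¹) * (k * c * k⁻¹) by group, e, e']

/-- Three pairwise commuting members. -/
theorem exists_chain : ∃ l : List G, CList D l ∧ l.length = 3 := by
  obtain ⟨l, hl, -, hlen⟩ := X.exists_triple
  exact ⟨l, hl, hlen⟩

/-- The product of a short list is an involution. -/
theorem order_product {l : List G} (hl : CList D l) (h1 : 1 ≤ l.length) (h3 : l.length ≤ 3) :
    orderOf l.prod = 2 := by
  refine orderOf_eq_prime (by rw [pow_two]; exact hl.prod_sq X.ts) fun h => ?_
  have := no_relation X ⟨hl, h⟩ (by omega)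
  rw [this] at h1
  simp at h1

/-- A product of at most three commuting members determines their number. -/
theorem length_unique : ∀ {n : ℕ} {l l' : List G}, l.length + l'.length ≤ n → CList D l → CList D l' →
    (∀ x ∈ l, ∀ y ∈ l', Commute x y) → l.length ≤ 3 → l'.length ≤ 3 → l.prod = l'.prod →
    l.length = l'.length := by
  classical
  intro n
  induction n with
  | zero => intro l l' h _ _ _ _ _ _; omega
  | succ n ih =>
    intro l l' hn hl hl' hcr h3 h3' he
    by_cases hcom : ∃ x ∈ l, x ∈ l'
    · obtain ⟨x, hx, hx'⟩ := hcom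
      have p1 := List.perm_cons_erase hx
      have p2 := List.perm_cons_erase hx'
      rw [hl.prod_perm p1, hl'.prod_perm p2, List.prod_cons, List.prod_cons] at he
      have n1 := List.length_erase_of_mem hx
      have n2 := List.length_erase_of_mem hx'
      have := List.length_pos_of_mem hx
      have := List.length_pos_of_mem hx'
      have := ih (l := l.erase x) (l' := l'.erase x) (by omega) (hl.sublist List.erase_sublist)
        (hl'.sublist List.erase_sublist)
        (fun a ha b hb => hcr a (List.mem_of_mem_erase ha) b (List.mem_of_mem_erase hb))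
        (by omega) (by omega) (mul_left_cancel he)
      omega
    push Not at hcom
    by_contra hne
    have hR : Rel D (l ++ l') := by
      refine ⟨⟨fun a ha => ?_, List.nodup_append.mpr ⟨hl.nodup, hl'.nodup, fun a ha b hb e =>
        hcom a ha (e ▸ hb)⟩, fun a ha b hb => ?_⟩, ?_⟩
      · rcases List.mem_append.mp ha with h | h
        exacts [hl.mem a h, hl'.mem a h]
      · rcases List.mem_append.mp ha with h | h <;> rcases List.mem_append.mp hb with h' | h'
        exacts [hl.comm a h b h', hcr a h b h', (hcr b h' a h).symm, hl'.comm a h b h']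
      · rw [List.prod_append, ← he, hl.prod_sq X.ts]
    have := congrArg List.length (no_relation X hR (by rw [List.length_append]; omega))
    rw [List.length_append, List.length_nil] at this
    omega

/-- The number of factors of an involution. -/
theorem length_eq {l l' : List G} (hl : CList D l) (hl' : CList D l') (h3 : l.length ≤ 3)
    (h3' : l'.length ≤ 3) (he : l.prod = l'.prod) : l.length = l'.length :=
  length_unique X le_rfl hl hl' (fun x hx =>
    (ThreeTransM22Count72.commute_prod_iff X.ts (hl.mem x hx) hl' h3').mp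
      (he ▸ Commute.list_prod_right _ _ fun y hy => hl.comm x hx y hy)) h3 h3' he

end Cfsg.Agent.ThreeTransM23Classes59
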