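import Cfsg.Agent.Lib.ThreeTransM24Pair88
import Cfsg.Agent.Lib.ThreeTransM22Conic88
import Cfsg.Agent.Lib.ThreeTransM24Order59
import Cfsg.Agent.Lib.ThreeTransM23Classes59

/-!
# The local groups in type M(24)

The centralizer of a member is its local group and the centre of that has order two: an element fixing
`d`, `e`, `p` cannot act as an outer automorphism on the M(22) quotient of `d`, `e`, because it would move
a conic while fixing its product.
-/

set_option autoImplicit false
set_option linter.unusedSectionVars false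
set_option linter.style.haveILetI false

namespace Cfsg.Agent.ThreeTransM24Local88

open Subgroup Cfsg.Agent.ThreeTransRel Cfsg.Agent.ThreeTransDescent
open Cfsg.Agent.ThreeTransM23Parity34 Cfsg.Agent.ThreeTransM24Base88 Cfsg.Agent.ThreeTransM24Pair88

variable {G : Type*} [Group G] [Finite G] {D : Set G}

theorem near_symm {d e : G} (hd : d ∈ D) (he : e ∈ near D d) : d ∈ near D e :=
  ⟨hd, he.2.1.symm, he.2.2.symm⟩

theorem fixes {y x : G} (h : Commute y x) : y * x * y⁻¹ = x := mul_inv_eq_iff_eq_mul.mpr h.eq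

variable {d : G} (X : Ctx D d)
include X

theorem n2_perm {e y : G} (hyd : Commute y d) (hye : Commute y e) :
    ∀ p ∈ N2 D d e, y * p * y⁻¹ ∈ N2 D d e := fun _ hp =>
  ⟨near_conj (ts X) hyd hp.1, near_conj (ts X) hye hp.2⟩

/-- Factorisations with three factors are unique. -/
theorem unique3 {l l' : List G} (hl : CList D l) (h : l.length = 3) (hl' : CList D l')
    (h' : l'.length = 3) (he : l.prod = l'.prod) : ∀ x, x ∈ l ↔ x ∈ l' :=
  S5464.unique_three (ts X) X.prim X.mem (fun _ h1 h2 =>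
    (ThreeTransTypes.level2_of_m23 ThreeTransPairs.psu6Simple (qts X) X.q23).no_five h1 h2)
    hl h hl' h' he

theorem exists_near : ∃ e, e ∈ near D d := by
  obtain ⟨-, u, hu, -⟩ := id X.q23
  obtain ⟨p, hp, -⟩ := surj_img X hu
  exact ⟨p, hp⟩

/-- Lists in the quotient lift. -/
theorem lift2 {e : G} (he : e ∈ near D d) {L : List (Wq D d e)} (hL : CList (E2 D d e) L) :
    ∃ l : List G, CList D l ∧ (∀ p ∈ l, p ∈ N2 D d e) ∧ l.map (im2 D d e) = L := by
  classical
  choose f hf hf' using fun y (hy : y ∈ E2 D d e) => im2_surj_img X he hy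
  set g : Wq D d e → G := fun y => if hy : y ∈ E2 D d e then f y hy else 1 with hg
  have h1 : ∀ y ∈ L, g y ∈ N2 D d e ∧ im2 D d e (g y) = y := fun y hy => by
    rw [hg]; simp only [dif_pos (hL.mem y hy)]; exact ⟨hf _ _, hf' _ _⟩
  refine ⟨L.map g, ⟨fun p hp => ?_, ?_, fun p hp q hq => ?_⟩, fun p hp => ?_, ?_⟩
  · obtain ⟨y, hy, rfl⟩ := List.mem_map.mp hp; exact (h1 y hy).1.1.1
  · refine List.Nodup.map_on (fun y hy y' hy' e => ?_) hL.nodup
    rw [← (h1 y hy).2, ← (h1 y' hy').2, e]
  · obtain ⟨y, hy, rfl⟩ := List.mem_map.mp hp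
    obtain ⟨y', hy', rfl⟩ := List.mem_map.mp hq
    rw [← im2_comm_iff X he (h1 y hy).1 (h1 y' hy').1, (h1 y hy).2, (h1 y' hy').2]
    exact hL.comm y hy y' hy'
  · obtain ⟨y, hy, rfl⟩ := List.mem_map.mp hp; exact (h1 y hy).1
  · rw [List.map_map]
    exact (List.map_congr_left (g := id) fun y hy => (h1 y hy).2).trans (List.map_id L)

theorem im2_list {e : G} (he : e ∈ near D d) : ∀ {l : List G}, (∀ p ∈ l, p ∈ N2 D d e) →
    im2 D d e l.prod = (l.map (im2 D d e)).prod
  | [], _ => im2_one X he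
  | a :: l, h => by
    rw [List.prod_cons, List.map_cons, List.prod_cons,
      im2_mul X he (subset_closure (h a (List.mem_cons_self ..)))
        (list_prod_mem fun p hp => subset_closure (h p (List.mem_cons_of_mem _ hp))),
      im2_list he fun p hp => h p (List.mem_cons_of_mem _ hp)]

theorem exists_triple {e : G} (he : e ∈ near D d) :
    ∃ l : List G, CList D l ∧ (∀ p ∈ l, p ∈ N2 D d e) ∧ l.length = 3 := by
  have Q := qc X he
  obtain ⟨s, hs, a, ha, b, hb, hab, hne⟩ :=
    ThreeTransM22Cent72.exists_near_pair Q.qts Q.qprim Q.q22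
  have hC : CList (E2 D d e) [s, a, b] := by
    refine ⟨fun x hx => ?_, by simp [ha.2.1.symm, hb.2.1.symm, hne], fun x hx y hy => ?_⟩
    · simp at hx; rcases hx with rfl | rfl | rfl
      exacts [hs, ha.1, hb.1]
    · have h1 := ha.2.2
      have h2 := hb.2.2
      simp at hx hy
      rcases hx with rfl | rfl | rfl <;> rcases hy with rfl | rfl | rfl <;>
        first | exact Commute.refl _ | exact h1 | exact h1.symm | exact h2 | exact h2.symm |
          exact hab | exact hab.symm
  obtain ⟨l, hl, hn, hmap⟩ := lift2 X he hC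
  exact ⟨l, hl, hn, by simpa using congrArg List.length hmap⟩

/-- An element fixing the members near two commuting members, adjusted, fixes those near the first. -/
theorem half {e y : G} (he : e ∈ near D d) (hyd : Commute y d) (hye : Commute y e)
    (hyn : ∀ q ∈ N2 D d e, Commute y q) :
    ∃ z, (z = y ∨ z = e * y) ∧ ∀ q ∈ near D d, Commute z q := by
  obtain ⟨l, hl, hln, hlen⟩ := exists_triple X he
  obtain ⟨p, hp⟩ := List.exists_mem_of_length_pos (l := l) (by omega)
  have hpn : p ∈ N2 D d e := hln p hp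
  have hpd : p ∈ near D d := hpn.1
  have hep : e ∈ N2 D d p := ⟨he, near_symm he.1 hpn.2⟩
  have hperm := n2_perm X hyd (hyn p hpn)
  obtain ⟨σ, hσ, hσE⟩ := exists_quot2 X hpd hperm
  have Q := qc X hpd
  have hfe : σ (im2 D d p e) = im2 D d p e := by
    rw [hσ e (subset_closure hep), fixes hye]
  have hnear : ∀ q ∈ N2 D d p, q ≠ e → Commute e q → q ∈ N2 D d e := fun q hq hne hc =>
    ⟨hq.1, hq.1.1, hne, hc⟩
  have hfix := ThreeTransM22Aut59.fix_member Q.qgrp Q.qprim Q.q22 (im2_mem X hpd hep) hσE hfe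
    (fun u hu => by
      obtain ⟨q, hq, rfl⟩ := im2_surj_img X hpd hu.1
      rw [hσ q (subset_closure hq), fixes (hyn q (hnear q hq (fun h => hu.2.1 (h ▸ rfl))
        ((im2_comm_iff X hpd hep hq).mp hu.2.2)))])
  obtain ⟨z, hz, hzd, hze, hzp⟩ : ∃ z, (z = y ∨ z = e * y) ∧ Commute z d ∧ Commute z e ∧
      ∀ q ∈ N2 D d p, Commute z q := by
    rcases hfix with h | h
    · refine ⟨y, Or.inl rfl, hyd, hye, fun q hq => mul_inv_eq_iff_eq_mul.mp
        (im2_inj X hpd (hperm q hq) hq ?_)⟩
      rw [← hσ q (subset_closure hq), h]; rfl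
    · have hzd : Commute (e * y) d := he.2.2.symm.mul_left hyd
      have hzp : Commute (e * y) p := hpn.2.2.2.mul_left (hyn p hpn)
      refine ⟨e * y, Or.inr rfl, hzd, (Commute.refl e).mul_left hye, fun q hq =>
        mul_inv_eq_iff_eq_mul.mp (im2_inj X hpd (n2_perm X hzd hzp q hq) hq ?_)⟩
      have hq' : y * q * y⁻¹ ∈ N2 D d p := hperm q hq
      rw [show e * y * q * (e * y)⁻¹ = e * (y * q * y⁻¹) * e⁻¹ by group,
        im2_conj X hpd (subset_closure hep) (subset_closure hq'), ← hσ q (subset_closure hq), h,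
        MulAut.conj_apply, ← im2_conj X hpd (subset_closure hep) (subset_closure hq),
        ← im2_conj X hpd (subset_closure hep)
          (subset_closure (l2_conj X hpd (subset_closure hep) hq))]
      congr 1
      rw [(ts X).inv_self he.1, (ts X).conj_conj he.1]
  refine ⟨z, hz, ?_⟩
  -- a member near `d` and `p` moved by `e`
  obtain ⟨c, hc, hce⟩ : ∃ c ∈ N2 D d p, ¬ Commute e c := by
    by_contra hno
    push Not at hno
    refine ThreeTrans.ne_one Q.qgrp.1 (im2_mem X hpd hep) (eq_one_of_central Q.qts Q.q22.1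
      fun u hu => ?_)
    obtain ⟨q, hq, rfl⟩ := im2_surj_img X hpd hu
    exact ((im2_comm_iff X hpd hep hq).mpr (hno q hq)).symm.eq
  set A : Set G := insert c {u | u ∈ near D d ∧ Commute e u} with hA
  have hAn : A ⊆ near D d := Set.insert_subset hc.1 fun u hu => hu.1
  have hAloc : Subgroup.closure A ≤ loc D d := closure_mono hAn
  have hAz : ∀ u ∈ A, Commute z u := by
    rintro u (rfl | hu)
    · exact hzp u hc
    by_cases hue : u = e
    · exact hue ▸ hze
    have hu2 : u ∈ N2 D d e := ⟨hu.1, hu.1.1, hue, hu.2⟩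
    rcases hz with rfl | rfl
    · exact hyn u hu2
    · exact hu.2.mul_left (hyn u hu2)
  have hAcl : ∀ x ∈ Subgroup.closure A, Commute z x := fun x hx => by
    have hle : Subgroup.closure A ≤ Subgroup.centralizer ({z} : Set G) := (closure_le _).mpr
      fun u hu => mem_centralizer_singleton_iff.mpr (hAz u hu).symm.eq
    exact (mem_centralizer_singleton_iff.mp (hle hx)).symm
  have Qe := qc X he
  have htop : ∀ w : ↥(loc D d) ⧸ Subgroup.center ↥(loc D d),
      ∃ x ∈ Subgroup.closure A, im D d x = w := by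
    set eb := im D d e
    obtain ⟨v, hv, hve⟩ : ∃ v ∈ imgSet D d, v ∈ near (imgSet D d) eb :=
      ⟨im D d p, im_mem X hpd, n2_img X he hpn⟩
    obtain ⟨-, -, hmax⟩ := S5354.result Qe.grp Qe.prim
      ⟨eb, Qe.mem, v, hv, hve.2.1.symm, hve.2.2⟩
    set K := Subgroup.closure {y | y ∈ imgSet D d ∧ Commute eb y} with hK
    have hKe : K ≤ Subgroup.centralizer {eb} := (closure_le _).mpr fun y hy =>
      mem_centralizer_singleton_iff.mpr hy.2.symm.eq
    set H := Subgroup.closure (insert (im D d c) {y | y ∈ imgSet D d ∧ Commute eb y}) with hH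
    have hsub : Cfsg.IsDSubgroup (imgSet D d) H := by
      refine le_antisymm ((closure_le _).mpr fun u hu => hu.2) ((closure_le _).mpr fun u hu => ?_)
      refine subset_closure ⟨?_, subset_closure hu⟩
      rcases hu with rfl | hu
      · exact im_mem X hc.1
      · exact hu.1
    rcases (hmax eb Qe.mem).2 H hsub (closure_mono (Set.subset_insert _ _)) with h | h
    · exact absurd ((comm_iff X he hc.1).mp (Commute.symm (mem_centralizer_singleton_iff.mp
        (hKe (h.le (subset_closure (Set.mem_insert _ _))))))) hce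
    intro w
    have hw : w ∈ H := h ▸ mem_top w
    clear h hsub
    induction hw using Subgroup.closure_induction with
    | mem u hu =>
      rcases hu with rfl | hu
      · exact ⟨c, subset_closure (Set.mem_insert _ _), rfl⟩
      obtain ⟨q, hq, rfl⟩ := surj_img X hu.1
      exact ⟨q, subset_closure (Or.inr ⟨hq, (comm_iff X he hq).mp hu.2⟩), rfl⟩
    | one => exact ⟨1, one_mem _, im_eq (one_mem _)⟩
    | mul a b _ _ iha ihb =>
      obtain ⟨x, hx, rfl⟩ := iha
      obtain ⟨x', hx', rfl⟩ := ihb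
      exact ⟨x * x', mul_mem hx hx', im_mul X (hAloc hx) (hAloc hx')⟩
    | inv a _ iha =>
      obtain ⟨x, hx, rfl⟩ := iha
      refine ⟨x⁻¹, inv_mem hx, eq_inv_of_mul_eq_one_left ?_⟩
      rw [← im_mul X (inv_mem (hAloc hx)) (hAloc hx), inv_mul_cancel]
      exact im_eq (one_mem _)
  intro q hq
  obtain ⟨x, hx, hxq⟩ := htop (im D d q)
  have hxl := hAloc hx
  set k := x⁻¹ * q with hk
  have hkl : k ∈ loc D d := mul_mem (inv_mem hxl) (near_le_loc hq)
  have hk1 : im D d k = 1 := by
    have h' : im D d x⁻¹ * im D d x = 1 := by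
      rw [← im_mul X (inv_mem hxl) hxl, inv_mul_cancel]
      exact im_eq (one_mem _)
    rw [hk, im_mul X (inv_mem hxl) (near_le_loc hq), ← hxq, h']
  have hk2 : z * k * z⁻¹ ∈ loc D d :=
    ThreeTransM23Local59.conj_mem_loc (ts X) (fixes hzd) hkl
  have hk3 : im D d (z * k * z⁻¹) = 1 := (im_eq_one X hk2).mpr fun u hu => by
    have h4 := (im_eq_one X hkl).mp hk1 (z⁻¹ * u * z) (by
      simpa using near_conj (ts X) hzd.inv_left hu)
    have := (Commute.conj_iff z).mpr h4
    rwa [show z * (z⁻¹ * u * z) * z⁻¹ = u by group] at this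
  refine mul_inv_eq_iff_eq_mul.mp (inj X (near_conj (ts X) hzd hq) hq ?_)
  rw [show z * q * z⁻¹ = (z * x * z⁻¹) * (z * k * z⁻¹) by rw [hk]; group, fixes (hAcl x hx),
    im_mul X hxl hk2, hk3, mul_one, hxq]

/-- Only `1` and `d` fix the members near `d` inside the centralizer. -/
theorem only {z : G} (hzd : Commute z d) (hzn : ∀ q ∈ near D d, Commute z q) : z = 1 ∨ z = d := by
  obtain ⟨a, ha⟩ := exists_near X
  obtain ⟨g, hg⟩ := X.prim.1 a ha.1 d X.mem
  set d' := g * d * g⁻¹ with hd'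
  have had : d' ∈ near D d := ⟨(ts X).conj g d X.mem,
    fun h => ha.2.1 (mul_left_cancel (mul_right_cancel (hg.trans h.symm))),
    hg ▸ (Commute.conj_iff g).mpr ha.2.2.symm⟩
  have hmap : ∀ u, u ∈ near D d' → ∃ q ∈ near D d, g * q * g⁻¹ = u := fun u hu => by
    rw [hd', ← ThreeTransM23Local59.near_map (ts X) (rfl : g * d * g⁻¹ = g * d * g⁻¹)] at hu
    exact hu
  set z' := g * z * g⁻¹ with hz'
  have h1 : Commute z' d := hg ▸ (Commute.conj_iff g).mpr (hzn a ha)
  have h2 : Commute z' d' := (Commute.conj_iff g).mpr hzd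
  have h3 : ∀ u ∈ near D d', Commute z' u := fun u hu => by
    obtain ⟨q, hq, rfl⟩ := hmap u hu
    exact (Commute.conj_iff g).mpr (hzn q hq)
  obtain ⟨v, hv, hvn⟩ := half X had h1 h2 fun q hq => h3 q hq.2
  have hv' : ∀ u ∈ near D d', Commute v u := fun u hu => by
    rcases hv with rfl | rfl
    · exact h3 u hu
    · exact hu.2.2.mul_left (h3 u hu)
  have hvd : Commute v d := by
    rcases hv with rfl | rfl
    · exact h1
    · exact had.2.2.symm.mul_left h1
  obtain ⟨c, hc, hcd⟩ : ∃ c ∈ near D d', ¬ Commute d c := by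
    by_contra hno
    push Not at hno
    obtain ⟨k, hk⟩ := X.prim.1 d X.mem d' had.1
    set A : G → Set G := fun x => {y | y ∈ D ∧ Commute x y}
    have hsub : A d' ⊆ A d := fun u hu => by
      refine ⟨hu.1, ?_⟩
      by_cases h : u = d'
      · exact h ▸ had.2.2
      · exact hno u ⟨hu.1, h, hu.2⟩
    have hcard : (A d).ncard ≤ (A d').ncard := by
      refine Set.ncard_le_ncard_of_injOn (fun y => k * y * k⁻¹) ?_
        (fun x _ y _ e => mul_left_cancel (mul_right_cancel e)) (Set.toFinite _)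
      intro y hy
      refine ⟨(ts X).conj k y hy.1, ?_⟩
      have := (Commute.conj_iff k).mpr hy.2
      rwa [hk] at this
    have heq : A d' = A d := Set.eq_of_subset_of_ncard_le hsub hcard (Set.toFinite _)
    refine had.2.1 (ThreeTransPairs.eq_of_same (ts X) X.prim had.1 X.mem fun u hu => ?_)
    have := Set.ext_iff.mp heq u
    exact ⟨fun e => (this.mp ⟨hu, e.symm⟩).2.symm, fun e => (this.mpr ⟨hu, e.symm⟩).2.symm⟩
  obtain ⟨-, -, hmax⟩ := S5354.result X.grp X.prim ⟨d, X.mem, a, ha.1, ha.2.1.symm, ha.2.2⟩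
  set K := Subgroup.closure {y : G | y ∈ D ∧ Commute d y} with hK
  have hKd : K ≤ Subgroup.centralizer ({d} : Set G) := (closure_le _).mpr fun y hy =>
    mem_centralizer_singleton_iff.mpr hy.2.symm.eq
  set H := Subgroup.closure (insert c {y : G | y ∈ D ∧ Commute d y}) with hH
  have hsubD : Cfsg.IsDSubgroup D H := by
    refine le_antisymm ((closure_le _).mpr fun u hu => hu.2) ((closure_le _).mpr fun u hu => ?_)
    refine subset_closure ⟨?_, subset_closure hu⟩
    rcases hu with rfl | hu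
    · exact hc.1
    · exact hu.1
  rcases (hmax d X.mem).2 H hsubD (closure_mono (Set.subset_insert _ _)) with h | h
  · exact absurd (Commute.symm (mem_centralizer_singleton_iff.mp
      (hKd (h.le (subset_closure (Set.mem_insert _ _)))))) hcd
  have hle : H ≤ Subgroup.centralizer ({v} : Set G) := by
    refine (closure_le _).mpr fun u hu => mem_centralizer_singleton_iff.mpr ?_
    rcases hu with rfl | hu
    · exact (hv' u hc).symm.eq
    by_cases hud : u = d
    · exact hud ▸ hvd.symm.eq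
    · exact (hvn u ⟨hu.1, hud, hu.2⟩).symm.eq
  have hv1 : v = 1 := by
    rw [← mem_bot, ← X.centre, mem_center_iff]
    exact fun w => mem_centralizer_singleton_iff.mp (hle (h ▸ mem_top w))
  rcases hv with rfl | rfl
  · exact Or.inl (conj_eq_one_iff.mp hv1)
  · refine Or.inr (mul_left_cancel (mul_right_cancel (b := g⁻¹) ?_ : g * z = g * d))
    show z' = d'
    rw [eq_inv_of_mul_eq_one_right hv1, (ts X).inv_self had.1]

/-- The kernel of a pair. -/
theorem pair_fix {e y : G} (he : e ∈ near D d) (hyd : Commute y d) (hye : Commute y e)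
    (hyn : ∀ q ∈ N2 D d e, Commute y q) : y = 1 ∨ y = d ∨ y = e ∨ y = e * d := by
  obtain ⟨z, hz, hzn⟩ := half X he hyd hye hyn
  have hzd : Commute z d := by
    rcases hz with rfl | rfl
    exacts [hyd, he.2.2.symm.mul_left hyd]
  have hy : y = z ∨ y = e * z := hz.imp Eq.symm fun h => by
    rw [h, ← mul_assoc, (ts X).sq e he.1, one_mul]
  rcases only X hzd hzn with e' | e' <;> subst e'
  · rcases hy with h | h
    · exact Or.inl h
    · exact Or.inr (Or.inr (Or.inl (by rw [h, mul_one])))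
  · rcases hy with h | h
    · exact Or.inr (Or.inl h)
    · exact Or.inr (Or.inr (Or.inr h))

/-- The member lies in its local group. -/
theorem self : d ∈ loc D d := by
  obtain ⟨e, he⟩ := exists_near X
  have Q := qc X he
  obtain ⟨l, hl, hln, hlen⟩ := exists_triple X he
  have hQl : CList (E2 D d e) (l.map (im2 D d e)) := by
    refine ⟨fun y hy => ?_, List.Nodup.map_on (fun p hp q hq h =>
      im2_inj X he (hln p hp) (hln q hq) h) hl.nodup, fun y hy y' hy' => ?_⟩
    · obtain ⟨p, hp, rfl⟩ := List.mem_map.mp hy; exact im2_mem X he (hln p hp)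
    · obtain ⟨p, hp, rfl⟩ := List.mem_map.mp hy
      obtain ⟨q, hq, rfl⟩ := List.mem_map.mp hy'
      exact (im2_comm_iff X he (hln p hp) (hln q hq)).mpr (hl.comm p hp q hq)
  obtain ⟨M, hM, hMlen, hMp, hMne, -⟩ := S5463.two_triples Q.qts Q.qprim Q.q22.1
    (ThreeTransLine.lineAt_all Q.qts Q.qprim Q.q22) hQl (by rw [List.length_map, hlen])
  obtain ⟨m, hm, hmn, rfl⟩ := lift2 X he hM
  rw [List.length_map] at hMlen
  have hmm : m.prod ∈ L2 D d e := list_prod_mem fun p hp => subset_closure (hmn p hp)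
  have hll : l.prod ∈ L2 D d e := list_prod_mem fun p hp => subset_closure (hln p hp)
  set δ := m.prod * l.prod with hδ
  have hδL : δ ∈ L2 D d e := mul_mem hmm hll
  have hδ1 : im2 D d e δ = 1 := by
    rw [hδ, im2_mul X he hmm hll, im2_list X he hmn, hMp, ← im2_list X he hln,
      ← im2_mul X he hll hll, hl.prod_sq (ts X), im2_one X he]
  have hne : δ ≠ 1 := by
    intro h
    have hsame := unique3 X hm hMlen hl hlen (by
      rw [eq_inv_of_mul_eq_one_left (show m.prod * l.prod = 1 from h),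
        inv_eq_of_mul_eq_one_right (hl.prod_sq (ts X))])
    refine hMne fun y => ?_
    simp only [List.mem_map]
    exact ⟨fun ⟨p, hp, h'⟩ => ⟨p, (hsame p).mpr hp, h'⟩,
      fun ⟨p, hp, h'⟩ => ⟨p, (hsame p).mp hp, h'⟩⟩
  rcases pair_fix X he (commute_d_of_mem_loc (l2_loc X he hδL)).symm
    (commute_d_of_mem_loc (closure_mono Set.inter_subset_right hδL)).symm
    ((im2_eq_one X he hδL).mp hδ1) with h | h | h | h
  · exact absurd h hne
  · exact h ▸ l2_loc X he hδL
  · -- exchange the two members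
    obtain ⟨g₁, hg₁⟩ := X.prim.1 e he.1 d X.mem
    have hd1 : g₁ * d * g₁⁻¹ ∈ near D d := ⟨(ts X).conj g₁ d X.mem,
      fun h' => he.2.1 (mul_left_cancel (mul_right_cancel (hg₁.trans h'.symm))),
      by have h' := (Commute.conj_iff g₁).mpr he.2.2.symm
         rwa [hg₁] at h'⟩
    obtain ⟨k, hk, hke⟩ := transitive X hd1 he
    set g := k * g₁ with hg
    have hgd : g * d * g⁻¹ = e := by
      rw [hg, show k * g₁ * d * (k * g₁)⁻¹ = k * (g₁ * d * g₁⁻¹) * k⁻¹ by group, hke]
    have hge : g * e * g⁻¹ = d := by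
      rw [hg, show k * g₁ * e * (k * g₁)⁻¹ = k * (g₁ * e * g₁⁻¹) * k⁻¹ by group, hg₁,
        fixes (commute_d_of_mem_loc hk).symm]
    have hmap : ∀ q ∈ N2 D d e, g * q * g⁻¹ ∈ N2 D d e := fun q hq =>
      ⟨ThreeTransM23Local59.near_map (ts X) hge ▸ ⟨q, hq.2, rfl⟩,
        ThreeTransM23Local59.near_map (ts X) hgd ▸ ⟨q, hq.1, rfl⟩⟩
    have := conj_L2 hmap hδL
    rw [h, hge] at this
    exact l2_loc X he this
  · have := l2_loc X he hδL
    rw [h] at this
    exact (mul_mem_cancel_left (near_le_loc he)).mp this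

/-- The centralizer of `d` is its local group. -/
theorem centralizer_eq : Subgroup.centralizer ({d} : Set G) = loc D d := by
  refine le_antisymm (fun y₀ hy₀ => ?_) fun x hx =>
    mem_centralizer_singleton_iff.mpr (commute_d_of_mem_loc hx).symm.eq
  have hy₀d : Commute y₀ d := mem_centralizer_singleton_iff.mp hy₀
  obtain ⟨e, he⟩ := exists_near X
  obtain ⟨k, hk, hke⟩ := transitive X (near_conj (ts X) hy₀d he) he
  set y₁ := k * y₀ with hy₁
  have hy₁d : Commute y₁ d := (commute_d_of_mem_loc hk).symm.mul_left hy₀d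
  have hy₁e : Commute y₁ e := mul_inv_eq_iff_eq_mul.mp (by
    rw [hy₁, show k * y₀ * e * (k * y₀)⁻¹ = k * (y₀ * e * y₀⁻¹) * k⁻¹ by group, hke])
  obtain ⟨l, hl, hln, hlen⟩ := exists_triple X he
  obtain ⟨p, hp⟩ := List.exists_mem_of_length_pos (l := l) (by omega)
  have hpn : p ∈ N2 D d e := hln p hp
  have Q := qc X he
  have hp1 : y₁ * p * y₁⁻¹ ∈ N2 D d e := n2_perm X hy₁d hy₁e p hpn
  obtain ⟨g, hg⟩ := Q.qprim.1 _ (im2_mem X he hp1) _ (im2_mem X he hpn)
  obtain ⟨x, hx, rfl⟩ := im2_surj X he g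
  have hxd : Commute x d := (commute_d_of_mem_loc (l2_loc X he hx)).symm
  have hxe : Commute x e := (commute_d_of_mem_loc (closure_mono Set.inter_subset_right hx)).symm
  set y := x * y₁ with hy
  have hyd : Commute y d := hxd.mul_left hy₁d
  have hye : Commute y e := hxe.mul_left hy₁e
  have hperm := n2_perm X hyd hye
  have hyp : Commute y p := by
    refine mul_inv_eq_iff_eq_mul.mp (im2_inj X he (hperm p hpn) hpn ?_)
    rw [hy, show x * y₁ * p * (x * y₁)⁻¹ = x * (y₁ * p * y₁⁻¹) * x⁻¹ by group,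
      im2_conj X he hx (subset_closure hp1), hg]
  suffices hyloc : y ∈ loc D d by
    refine (mul_mem_cancel_left hk).mp ?_
    exact (mul_mem_cancel_left (l2_loc X he hx)).mp hyloc
  obtain ⟨σ, hσ, hσE⟩ := exists_quot2 X he hperm
  have hσp : σ (im2 D d e p) = im2 D d e p := by rw [hσ p (subset_closure hpn), fixes hyp]
  rcases ThreeTransM22Conic88.outer_conic Q.qgrp Q.qprim Q.q22 (im2_mem X he hpn) hσE hσp with
    ⟨w, hw⟩ | ⟨w, hw, M, B, hM, hMlen, hMn, hB, hBn, hBfix, ⟨r, hr, hrM⟩, hprod⟩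
  · obtain ⟨x', hx', rfl⟩ := im2_surj X he w
    have hxd' : Commute x' d := (commute_d_of_mem_loc (l2_loc X he hx')).symm
    have hxe' : Commute x' e := (commute_d_of_mem_loc (closure_mono Set.inter_subset_right hx')).symm
    have hzd : Commute (x'⁻¹ * y) d := hxd'.inv_left.mul_left hyd
    have hze : Commute (x'⁻¹ * y) e := hxe'.inv_left.mul_left hye
    have hz : ∀ q ∈ N2 D d e, Commute (x'⁻¹ * y) q := fun q hq => by
      refine mul_inv_eq_iff_eq_mul.mp (im2_inj X he (n2_perm X hzd hze q hq) hq ?_)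
      rw [show x'⁻¹ * y * q * (x'⁻¹ * y)⁻¹ = x'⁻¹ * (y * q * y⁻¹) * x'⁻¹⁻¹ by group,
        im2_conj X he (inv_mem hx') (subset_closure (hperm q hq)), ← hσ q (subset_closure hq), hw,
        MulAut.conj_apply, im2_inv X he hx']
      group
    rw [show y = x' * (x'⁻¹ * y) by group]
    refine mul_mem (l2_loc X he hx') ?_
    rcases pair_fix X he hzd hze hz with h | h | h | h <;> rw [h]
    exacts [one_mem _, self X, near_le_loc he, mul_mem (near_le_loc he) (self X)]
  exfalso
  obtain ⟨j, hj, rfl⟩ := im2_surj X he w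
  have hjd : Commute j d := (commute_d_of_mem_loc (l2_loc X he hj)).symm
  have hje : Commute j e := (commute_d_of_mem_loc (closure_mono Set.inter_subset_right hj)).symm
  have hjp : Commute j p := mul_inv_eq_iff_eq_mul.mp (im2_inj X he (l2_conj X he hj hpn) hpn (by
    rw [im2_conj X he hj (subset_closure hpn), fixes (commute_d_of_mem_loc hw).symm]))
  set u := j * y with hu
  have hud : Commute u d := hjd.mul_left hyd
  have hue : Commute u e := hje.mul_left hye
  have hup : Commute u p := hjp.mul_left hyp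
  have hσ' : ∀ q ∈ N2 D d e, im2 D d e (u * q * u⁻¹) =
      (MulAut.conj (im2 D d e j) * σ) (im2 D d e q) := fun q hq => by
    rw [hu, show j * y * q * (j * y)⁻¹ = j * (y * q * y⁻¹) * j⁻¹ by group,
      im2_conj X he hj (subset_closure (hperm q hq)), ← hσ q (subset_closure hq)]
    rfl
  obtain ⟨m, hm, hmn, rfl⟩ := lift2 X he hM
  obtain ⟨b, hb, hbn, rfl⟩ := lift2 X he hB
  rw [List.length_map] at hMlen
  have hfixb : ∀ q ∈ b, Commute u q := fun q hq => by
    refine mul_inv_eq_iff_eq_mul.mp (im2_inj X he (n2_perm X hud hue q (hbn q hq)) (hbn q hq) ?_)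
    rw [hσ' q (hbn q hq), hBfix _ (List.mem_map_of_mem hq)]
  have hmm : m.prod ∈ L2 D d e := list_prod_mem fun q hq => subset_closure (hmn q hq)
  have hbb : b.prod ∈ L2 D d e := list_prod_mem fun q hq => subset_closure (hbn q hq)
  obtain ⟨T, hT, huT, hTp⟩ : ∃ T ∈ L2 D d e, Commute u T ∧ im2 D d e T = im2 D d e m.prod := by
    have hub : Commute u b.prod := Commute.list_prod_right _ _ hfixb
    rcases hprod with h | h
    · exact ⟨b.prod, hbb, hub, by rw [im2_list X he hbn, im2_list X he hmn, h]⟩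
    · refine ⟨b.prod * p, mul_mem hbb (subset_closure hpn), hub.mul_right hup, ?_⟩
      rw [im2_mul X he hbb (subset_closure hpn), im2_list X he hbn, im2_list X he hmn, h]
  set c := m.prod * T⁻¹ with hc
  have hcL : c ∈ L2 D d e := mul_mem hmm (inv_mem hT)
  have hc1 : im2 D d e c = 1 := by
    rw [hc, im2_mul X he hmm (inv_mem hT), im2_inv X he hT, hTp, mul_inv_cancel]
  have huc : Commute u c := by
    rcases pair_fix X he (commute_d_of_mem_loc (l2_loc X he hcL)).symm
      (commute_d_of_mem_loc (closure_mono Set.inter_subset_right hcL)).symm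
      ((im2_eq_one X he hcL).mp hc1) with h | h | h | h <;> rw [h]
    exacts [Commute.one_right u, hud, hue, hue.mul_right hud]
  have hum : Commute u m.prod := by
    rw [show m.prod = c * T by rw [hc]; group]
    exact huc.mul_right huT
  have hm' : CList D (m.map (MulAut.conj u)) := ThreeTransM23Classes59.clist_map (ts X) hm u
  have hsame := unique3 X hm' (by rw [List.length_map, hMlen]) hm hMlen (by
    rw [← map_list_prod, MulAut.conj_apply, fixes hum])
  obtain ⟨q, hq, rfl⟩ := List.mem_map.mp hr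
  refine hrM (List.mem_map.mpr ⟨_, (hsame _).mp (List.mem_map_of_mem hq), ?_⟩)
  exact hσ' q (hmn q hq)

/-- The kernel of the local map. -/
theorem ker {x : G} (hx : x ∈ loc D d) (h : im D d x = 1) : x = 1 ∨ x = d :=
  only X (commute_d_of_mem_loc hx).symm fun q hq => ((im_eq_one X hx).mp h q hq).symm

/-- The centre of the local group. -/
theorem mem_center_loc (z : ↥(loc D d)) :
    z ∈ Subgroup.center ↥(loc D d) ↔ ((z : G) = 1 ∨ (z : G) = d) := by
  refine ⟨fun hz => only X (commute_d_of_mem_loc z.2).symm fun q hq =>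
    (congrArg Subtype.val (mem_center_iff.mp hz ⟨q, near_le_loc hq⟩)).symm, fun hz => ?_⟩
  refine mem_center_iff.mpr fun x => Subtype.ext ?_
  show (x : G) * z = z * x
  rcases hz with h | h <;> rw [h]
  · simp
  · exact (commute_d_of_mem_loc x.2).symm.eq

theorem card_center_loc : Nat.card ↥(Subgroup.center ↥(loc D d)) = 2 := by
  rw [Nat.card_eq_two_iff]
  have hd1 : d ≠ 1 := ThreeTrans.ne_one X.grp.1 X.mem
  refine ⟨1, ⟨⟨d, self X⟩, (mem_center_loc X _).mpr (Or.inr rfl)⟩,
    fun h => hd1 (congrArg (fun x : ↥(Subgroup.center ↥(loc D d)) => ((x : ↥(loc D d)) : G)) h).symm,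
    Set.eq_univ_of_forall fun z => ?_⟩
  rcases (mem_center_loc X _).mp z.2 with h | h
  · exact Or.inl (Subtype.ext (Subtype.ext h))
  · exact Or.inr (Set.mem_singleton_iff.mpr (Subtype.ext (Subtype.ext h)))

theorem hyp : ThreeTransM24Order59.Hyp D d := by
  obtain ⟨-, u, hu, -⟩ := id X.q23
  exact ⟨X.grp, X.prim, X.centre, X.mem, (X.qctx u hu).grp, (X.qctx u hu).prim, X.q23,
    centralizer_eq X, card_center_loc X⟩

omit X

/-- Type M(23) is carried along an isomorphism. -/
theorem m23_map {A B : Type*} [Group A] [Group B] {E : Set A} {E' : Set B} (e : A ≃* B)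
    (hE : e '' E = E') (h : Cfsg.IsOfTypeM23 A E) : Cfsg.IsOfTypeM23 B E' := by
  subst hE
  obtain ⟨hZ, d, hd, c, hc, hdc, h22, c₃, hc₃, Q, hQ, hμ, ⟨iso'⟩⟩ := h
  have hnear : ∀ s : A, e '' {y : A | y ∈ E ∧ y ≠ s ∧ Commute s y} =
      {y : B | y ∈ e '' E ∧ y ≠ e s ∧ Commute (e s) y} := by
    intro s
    ext y
    obtain ⟨x, rfl⟩ := e.surjective y
    simp only [Set.mem_image, EmbeddingLike.apply_eq_iff_eq, exists_eq_right, Set.mem_ofPred_eq]
    exact and_congr_right fun _ => and_congr e.injective.ne_iff.symm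
      ⟨fun h => h.map e.toMonoidHom, fun h => by simpa using h.map e.symm.toMonoidHom⟩
  set E₁ : ↥(loc E d) ≃* ↥(loc (e '' E) (e d)) :=
    ((loc E d).equivMapOfInjective e.toMonoidHom e.injective).trans
      (MulEquiv.subgroupCongr (by rw [MonoidHom.map_closure]; exact congrArg _ (hnear d))) with hE₁
  set E₂ : ↥(Subgroup.closure (near E d ∩ near E c)) ≃*
      ↥(Subgroup.closure (near (e '' E) (e d) ∩ near (e '' E) (e c))) :=
    ((Subgroup.closure (near E d ∩ near E c)).equivMapOfInjective e.toMonoidHom e.injective).trans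
      (MulEquiv.subgroupCongr (by
        rw [MonoidHom.map_closure]
        exact congrArg _ ((Set.image_inter e.injective).trans
          (congrArg₂ (· ∩ ·) (hnear d) (hnear c)))))
  have himg : ThreeTransM23Quot59.centerQuot E₁ '' imgSet E d = imgSet (e '' E) (e d) := by
    ext v
    constructor
    · rintro ⟨_, ⟨x, hx, rfl⟩, rfl⟩
      exact ⟨E₁ x, (hnear d).subset ⟨x, hx, rfl⟩, rfl⟩
    · rintro ⟨y, hy, rfl⟩
      obtain ⟨x, rfl⟩ := E₁.surjective y
      refine ⟨_, ⟨x, ?_, rfl⟩, rfl⟩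
      have hy' : e (x : A) ∈ near (e '' E) (e d) := hy
      obtain ⟨w, hw, hew⟩ := (hnear d).symm.subset hy'
      show (x : A) ∈ near E d
      rw [← e.injective hew]; exact hw
  refine ⟨eq_bot_iff.mpr fun z hz => ?_, e d, ⟨d, hd, rfl⟩, e c, ⟨c, hc, rfl⟩,
    fun h => hdc (by simpa using h.map e.symm.toMonoidHom),
    ThreeTransM23Cent59.m22_map _ himg h22,
    c₃, hc₃, Q, hQ, hμ, ⟨(ThreeTransM23Quot59.centerQuot E₂).symm.trans iso'⟩⟩
  have h0 : e.symm z = 1 := by
    rw [← mem_bot, ← hZ, mem_center_iff]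
    intro g
    refine e.injective ?_
    rw [map_mul, map_mul, e.apply_symm_apply]
    exact mem_center_iff.mp hz (e g)
  rw [mem_bot, ← e.apply_symm_apply z, h0, map_one]

/-- Primitivity is carried along an isomorphism. -/
theorem prim_map {A B : Type*} [Group A] [Group B] {E : Set A} (e : A ≃* B)
    (h : Cfsg.IsPrimitiveUnderConj E) : Cfsg.IsPrimitiveUnderConj (e '' E) := by
  obtain ⟨htr, ⟨a, ha, b, hb, hab⟩, hblk⟩ := h
  refine ⟨?_, ⟨e a, ⟨a, ha, rfl⟩, e b, ⟨b, hb, rfl⟩, e.injective.ne hab⟩, fun S hS hSb => ?_⟩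
  · rintro _ ⟨x, hx, rfl⟩ _ ⟨y, hy, rfl⟩
    obtain ⟨g, rfl⟩ := htr x hx y hy
    exact ⟨e g, by simp⟩
  have hS' : e '' (e ⁻¹' S) = S := Set.image_preimage_eq S e.surjective
  have hcj : ∀ g : A, e '' ((fun x => g * x * g⁻¹) '' (e ⁻¹' S)) =
      (fun x => e g * x * (e g)⁻¹) '' S := fun g => by
    conv_rhs => rw [← hS']
    rw [Set.image_image, Set.image_image]
    simp
  rcases hblk (e ⁻¹' S) (fun x hx => by
      obtain ⟨y, hy, hyx⟩ := hS hx
      exact e.injective hyx ▸ hy) (fun g => by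
      rcases hSb (e g) with h | h
      · exact Or.inl (e.injective.image_injective (by rw [hcj, h, hS']))
      · refine Or.inr (Set.disjoint_left.mpr fun x hx hx' => ?_)
        exact Set.disjoint_left.mp h (hcj g ▸ Set.mem_image_of_mem e hx) hx') with h | h
  · exact Or.inl (hS' ▸ h.image e)
  · exact Or.inr (by rw [← hS', h])

/-- A context at one member gives one at every member. -/
theorem ctx_move {d : G} (X : Ctx D d) {g s : G} (hg : g * d * g⁻¹ = s) : Ctx D s := by
  have hs : s ∈ D := hg ▸ (ts X).conj g d X.mem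
  set E := ThreeTransM23Local59.locEquiv (ts X) g hg with hE
  have himg : ThreeTransM23Quot59.centerQuot E '' imgSet D d = imgSet D s := by
    ext u
    constructor
    · rintro ⟨_, ⟨x, hx, rfl⟩, rfl⟩
      refine ⟨E x, ?_, rfl⟩
      show g * (x : G) * g⁻¹ ∈ near D s
      rw [← ThreeTransM23Local59.near_map (ts X) hg]; exact ⟨x, hx, rfl⟩
    · rintro ⟨y, hy, rfl⟩
      obtain ⟨x, rfl⟩ := E.surjective y
      refine ⟨_, ⟨x, ?_, rfl⟩, rfl⟩
      have hy' : g * (x : G) * g⁻¹ ∈ near D s := hy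
      rw [← ThreeTransM23Local59.near_map (ts X) hg] at hy'
      obtain ⟨w, hw, h⟩ := hy'
      show (x : G) ∈ near D d
      rwa [← mul_left_cancel (mul_right_cancel (h : g * w * g⁻¹ = g * (x : G) * g⁻¹))]
  set C := ThreeTransM23Quot59.centerQuot E
  have h23 := m23_map C himg X.q23
  obtain ⟨-, u, hu, -⟩ := id X.q23
  have hgrpd := (X.qctx u hu).grp
  have hprimd := (X.qctx u hu).prim
  have htq := tsys_img (ts X) s
  have hset : Cfsg.IsThreeTranspositionSet (imgSet D s) := by
    refine ⟨fun y hy => ?_, fun y hy y' hy' => ?_⟩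
    · obtain ⟨x, hx, rfl⟩ := himg.symm.subset hy
      rw [MulEquiv.orderOf_eq]; exact hgrpd.1.1 x hx
    · obtain ⟨x, hx, rfl⟩ := himg.symm.subset hy
      obtain ⟨x', hx', rfl⟩ := himg.symm.subset hy'
      exact (hgrpd.1.2 x hx x' hx').imp (fun h => by rw [← map_mul, ← map_pow, h, map_one])
        fun h => by rw [← map_mul, ← map_pow, h, map_one]
  have hgrps : Cfsg.IsThreeTranspositionGroup (imgSet D s) := ⟨hset, htq.conj, htq.gen⟩
  refine ⟨X.grp, X.prim, X.centre, hs, X.sol, X.perf, h23,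
    ThreeTransM23Cent59.ctx_all hgrps ?_ h23⟩
  rw [← himg]
  exact prim_map C hprimd

/-- Every member has a context. -/
theorem ctx_all (hD : Cfsg.IsThreeTranspositionGroup D) (hprim : Cfsg.IsPrimitiveUnderConj D)
    {d₀ : G} (hd₀ : d₀ ∈ D)
    (h3 : Cfsg.pCore 3 ↥(loc D d₀) ≤ Subgroup.center ↥(loc D d₀))
    (h2 : Cfsg.pCore 2 ↥(loc D d₀) ≤ Subgroup.center ↥(loc D d₀))
    (h24 : Cfsg.IsOfTypeM24 G D) : ∀ s ∈ D, Ctx D s := by
  intro s hs
  obtain ⟨d, X⟩ := exists_ctx hD hprim hd₀ h3 h2 h24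
  obtain ⟨g, hg⟩ := hprim.1 d X.mem s hs
  exact ctx_move X hg

/-- The hypotheses of the counting at some member. -/
theorem exists_hyp (hD : Cfsg.IsThreeTranspositionGroup D) (hprim : Cfsg.IsPrimitiveUnderConj D)
    {d₀ : G} (hd₀ : d₀ ∈ D)
    (h3 : Cfsg.pCore 3 ↥(loc D d₀) ≤ Subgroup.center ↥(loc D d₀))
    (h2 : Cfsg.pCore 2 ↥(loc D d₀) ≤ Subgroup.center ↥(loc D d₀))
    (h24 : Cfsg.IsOfTypeM24 G D) : ∃ d, ThreeTransM24Order59.Hyp D d :=
  ⟨d₀, hyp (ctx_all hD hprim hd₀ h3 h2 h24 d₀ hd₀)⟩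

/-- The hypotheses of the counting at every member. -/
theorem hyp_all (hD : Cfsg.IsThreeTranspositionGroup D) (hprim : Cfsg.IsPrimitiveUnderConj D)
    {d₀ : G} (hd₀ : d₀ ∈ D)
    (h3 : Cfsg.pCore 3 ↥(loc D d₀) ≤ Subgroup.center ↥(loc D d₀))
    (h2 : Cfsg.pCore 2 ↥(loc D d₀) ≤ Subgroup.center ↥(loc D d₀))
    (h24 : Cfsg.IsOfTypeM24 G D) : ∀ s ∈ D, ThreeTransM24Order59.Hyp D s :=
  fun s hs => hyp (ctx_all hD hprim hd₀ h3 h2 h24 s hs)

end Cfsg.Agent.ThreeTransM24Local88
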