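import Cfsg.Agent.Lib.Fi24Out65
import Cfsg.Agent.Lib.Fi24Inst65
import Cfsg.Agent.Lib.ThreeTransM24Prim59

/-!
The outer automorphism group of the derived group of the presented Fi24 from its coset data.
-/

set_option autoImplicit false
set_option linter.unusedSectionVars false

namespace Cfsg.Agent.Fi24OutInst65

/-- Every member has a context, and the inner automorphisms of the derived group have index two. -/
theorem index_inn_of_class {G : Type*} [Group G] [Finite G] {D : Set G}
    (hcl : Cfsg.IsThreeTranspositionClass D) (hprim : Cfsg.IsPrimitiveUnderConj D)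
    (h24 : Cfsg.IsOfTypeM24 G D) : (Cfsg.Inn ↥(commutator G)).index = 2 := by
  obtain ⟨hset, ⟨d₀, -, hD₀⟩, hgen⟩ := hcl
  have hD : Cfsg.IsThreeTranspositionGroup D := ⟨hset, fun g x hx => by
    rw [hD₀] at hx ⊢
    exact IsConj.trans hx (isConj_iff.mpr ⟨g, rfl⟩), hgen⟩
  obtain ⟨d, hd, -, -, h3, h2⟩ := ThreeTransM24Prim59.m24_cores hD hprim h24
  exact Fi24Out65.index_inn (ThreeTransM24Local88.ctx_all hD hprim hd h3 h2 h24) hd

open Cfsg.Agent.CosetCertFi23Simple (P23)
open Cfsg.Agent.Fi24Core64 (G24 gg H24 base)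

theorem card_out (hfin : Finite G24) (hindex : H24.index = 306936) (ψ : P23.Grp →* G24)
    (hψ : ∀ x < 10, ψ (P23.gg x) = gg (x + 2) * gg 0)
    (horb : ∀ x : G24, ∃ h ∈ H24, (h * x) • base = base ∨ (h * x) • base = gg 1 • base ∨
      (h * x) • base = Fi24Inst65.aMove • base) :
    Nat.card (Cfsg.Out Cfsg.Spor.Fi24') = 2 := by
  obtain ⟨h1, h2, h3⟩ := Fi24Inst65.class_m24 hfin hindex ψ hψ horb
  haveI : Finite Cfsg.Spor.Fi24 := hfin
  exact index_inn_of_class h1 h2 h3

end Cfsg.Agent.Fi24OutInst65
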