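import Cfsg.Agent.Lib.Fi24Index64
import Cfsg.Agent.Lib.Fi24OutInst65

/-!
The type M(24) example and the outer automorphism group from the table representation of Fi24.
-/

set_option autoImplicit false

namespace Cfsg.Agent.Fi24Final65

open Cfsg.Agent.Fi24Core64 (G24 gg)
open Cfsg.Agent.Fi24Table88 (img)

variable (rho : G24 →* Equiv.Perm (Fin 306936))
  (hrho : ∀ x < 12, ∀ i : Fin 306936, ((rho (gg x) i : Fin 306936) : Nat) = img x i)
include hrho

theorem exists_m24 : ∃ (X : Type) (_ : Group X) (_ : Finite X) (E : Set X),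
    Cfsg.IsThreeTranspositionClass E ∧ Cfsg.IsPrimitiveUnderConj E ∧ Cfsg.IsOfTypeM24 X E := by
  obtain ⟨ψ, hψ⟩ := Fi24Index64.exists_psi_of_rho rho hrho
  exact Fi24Inst65.exists_m24 (Fi24Index64.finite_of_rho rho hrho) (Fi24Index64.index_of_rho rho hrho)
    ψ hψ (Fi24Index64.orbits_of_rho rho hrho)

theorem card_out : Nat.card (Cfsg.Out Cfsg.Spor.Fi24') = 2 := by
  obtain ⟨ψ, hψ⟩ := Fi24Index64.exists_psi_of_rho rho hrho
  exact Fi24OutInst65.card_out (Fi24Index64.finite_of_rho rho hrho) (Fi24Index64.index_of_rho rho hrho)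
    ψ hψ (Fi24Index64.orbits_of_rho rho hrho)

end Cfsg.Agent.Fi24Final65
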