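import Cfsg.Agent.Lib.Fi24Cosets64
import Cfsg.Agent.Lib.Fi24Y522x54

/-!
Coset equations over an arbitrary group on twelve involutions satisfying the relators of Fi24 other than z,
mapped to Fi24 so that the subgroup on the generators other than k is carried faithfully. The walk along z
then shows that z lies in H k w k H for one explicit word w.
-/

set_option autoImplicit false
set_option maxRecDepth 100000
set_option Elab.async false
set_option linter.style.haveILetI false

namespace Cfsg.Agent.Fi24Lift64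

open Cfsg.Agent.CosetCertCore Cfsg.Agent.CosetCertTable Cfsg.Agent.CosetCertPres Cfsg.Agent.CosetCertOrder
open Cfsg.Agent.Fi24Core64 Cfsg.Agent.Fi24Words64 Cfsg.Agent.Fi24Data64
open Cfsg.Agent.Fi24Cosets64 (P23 T23 E inH inC pre Inputs sameB walk rule runX pw Cs Ks kWords hE stabX x1 x5)
open Cfsg.Agent.Fi24Facts23x60 (inO)
open Cfsg.Agent.Fi24Table88 (img)

variable {G : Type} [Group G]

/-- The subgroup on all generators but k. -/
abbrev HS (g : Nat → G) : Subgroup G := span g hgens

/-- The coset of the identity. -/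
noncomputable abbrev bs (g : Nat → G) : G ⧸ HS g := ((1 : G) : G ⧸ HS g)

/-- The element moving cosets along a word. -/
def EG (g : Nat → G) (w : List Nat) : G := (val g w)⁻¹

/-- The right coset of a word. -/
noncomputable def cG (g : Nat → G) (w : List Nat) : G ⧸ HS g := EG g w • bs g

theorem EG_nil (g : Nat → G) : EG g [] = 1 := by simp [EG, val]

theorem EG_append (g : Nat → G) (a b : List Nat) : EG g (a ++ b) = EG g b * EG g a := by
  simp [EG, val_append, mul_inv_rev]

theorem cG_append (g : Nat → G) (a b : List Nat) : cG g (a ++ b) = EG g b • cG g a := by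
  rw [cG, cG, EG_append, mul_smul]

/-- The hypotheses: the relators and a map to Fi24. -/
structure Over (g : Nat → G) (π : G →* G24) : Prop where
  invol : ∀ x, g x * g x = 1
  cox : ∀ w ∈ coxWords, val g w = 1
  e7 : val g e7Word = 1
  map : ∀ x < 12, π (g x) = gg x
  inj : ∀ u ∈ HS g, π u = 1 → u = 1

variable {g : Nat → G} {π : G →* G24} (O : Over g π)
include O

theorem EG_single (x : Nat) : EG g [x] = g x := by
  simp only [EG, val_cons, val_nil, mul_one]
  exact inv_of_sq g O.invol x

theorem EG_reverse (w : List Nat) : EG g w.reverse = (EG g w)⁻¹ := by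
  simp [EG, val_reverse g O.invol]

omit O in
theorem EG_mem {w : List Nat} (hw : inH w = true) : EG g w ∈ HS g := by
  refine inv_mem (Subgroup.list_prod_mem _ ?_)
  intro y hy
  obtain ⟨x, hx, rfl⟩ := List.mem_map.mp hy
  exact Subgroup.subset_closure ⟨x, Fi24Cosets64.inH_iff.mp hw x hx, rfl⟩

theorem map_EG {w : List Nat} (hw : ∀ x ∈ w, x < 12) : π (EG g w) = E w := by
  rw [EG, map_inv, E, val, map_list_prod, List.map_map]
  congr 2
  exact List.map_congr_left fun x hx => O.map x (hw x hx)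

theorem map_EG_H {w : List Nat} (hw : inH w = true) : π (EG g w) = E w :=
  map_EG O fun x hx => (Fi24Hom64.mem_hgens.mp (Fi24Cosets64.inH_iff.mp hw x hx)).1

theorem eq_of_map {u v : G} (hu : u ∈ HS g) (hv : v ∈ HS g) (h : π u = π v) : u = v := by
  have := O.inj (u⁻¹ * v) (mul_mem (inv_mem hu) hv) (by rw [map_mul, map_inv, h, inv_mul_cancel])
  exact inv_mul_eq_one.mp this

omit O in
theorem smul_bs {u : G} (hu : u ∈ HS g) : u • bs g = bs g := by
  show ((u * 1 : G) : G ⧸ HS g) = _
  rw [mul_one, QuotientGroup.eq, mul_one, inv_mem_iff]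
  exact hu

omit O in
theorem cG_inH {w : List Nat} (hw : inH w = true) : cG g w = bs g := smul_bs (EG_mem hw)

theorem comm_pair {x y : Nat} (hx : x < 12) (hy : y < 12) (hxy : x ≤ y)
    (hp : P24.pairWord x y = [x, y, x, y]) : Commute (g x) (g y) := by
  have hm : P24.pairWord x y ∈ coxWords := by
    rw [coxWords, List.mem_flatMap]
    refine ⟨x, List.mem_range.mpr hx, List.mem_map.mpr ⟨y - x, List.mem_range.mpr (by omega), ?_⟩⟩
    rw [Nat.add_sub_cancel' hxy]
  have h := O.cox _ hm
  rw [hp] at h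
  simp only [val_cons, val_nil, mul_one] at h
  have h' : g x * g y = (g x * g y)⁻¹ := eq_inv_of_mul_eq_one_left (by rw [mul_assoc]; exact h)
  rw [mul_inv_rev, inv_of_sq _ O.invol, inv_of_sq _ O.invol] at h'
  exact h'

theorem EG_comm_k {c : List Nat} (hc : inC c = true) : Commute (g 1) (EG g c) := by
  refine Commute.inv_right ?_
  refine Commute.list_prod_right _ _ ?_
  intro z hz
  obtain ⟨x, hx, rfl⟩ := List.mem_map.mp hz
  obtain ⟨h3, h11⟩ := Fi24Cosets64.inC_iff.mp hc x hx
  exact comm_pair O (by omega) (by omega) (by omega)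
    ((show ∀ x < 12, 3 ≤ x → P24.pairWord 1 x = [1, x, 1, x] from by decide +kernel) x (by omega) h3)

/-- An element of H lying over C commutes with k. -/
theorem comm_of_Cs {u : G} (hu : u ∈ HS g) {h : ↥H24} (hh : h ∈ Cs) (he : π u = (h : G24)) :
    Commute (g 1) u := by
  have key : ∀ h : ↥H24, h ∈ Cs → ∃ v ∈ HS g, π v = (h : G24) ∧ Commute (g 1) v := by
    intro h hh
    induction hh using Subgroup.closure_induction with
    | mem h hh =>
      obtain ⟨x, h3, h11, hx⟩ := hh
      refine ⟨g x, Subgroup.subset_closure ⟨x, Fi24Hom64.mem_hgens.mpr (by omega), rfl⟩, ?_, ?_⟩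
      · rw [O.map x (by omega), hx]
      · exact comm_pair O (by omega) (by omega) (by omega)
          ((show ∀ x < 12, 3 ≤ x → P24.pairWord 1 x = [1, x, 1, x] from by decide +kernel) x
            (by omega) h3)
    | one => exact ⟨1, one_mem _, by simp, Commute.one_right _⟩
    | mul a b _ _ ha hb =>
      obtain ⟨v, hv, ev, cv⟩ := ha
      obtain ⟨w, hw, ew, cw⟩ := hb
      exact ⟨v * w, mul_mem hv hw, by rw [map_mul, ev, ew]; rfl, cv.mul_right cw⟩
    | inv a _ ha =>
      obtain ⟨v, hv, ev, cv⟩ := ha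
      exact ⟨v⁻¹, inv_mem hv, by rw [map_inv, ev]; rfl, cv.inv_right⟩
  obtain ⟨v, hv, ev, cv⟩ := key h hh
  rwa [eq_of_map O hu hv (he.trans ev.symm)]

/-- The Y522 equations. -/
theorem y522G : ∀ p ∈ y522Pairs, cG g p.1 = cG g p.2 := by
  intro p hp
  have hknown : ∀ w ∈ Fi24Ren54.known, val g w = 1 := by
    intro w hw
    simp only [Fi24Ren54.known, List.mem_append, List.mem_map, List.mem_singleton] at hw
    rcases hw with (hw | ⟨v, hv, rfl⟩) | rfl
    · exact O.cox w hw
    · rw [val_reverse g O.invol, O.cox v hv, inv_one]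
    · exact O.e7
  let r : Nat → G := fun x => g (ren Fi24Y522x54.sig x)
  have hval : ∀ w, val r w = val g (w.map (ren Fi24Y522x54.sig)) := by
    intro w; simp only [val, List.map_map]; rfl
  have hact : ∀ (w : List Nat), act r w (bs g) = cG g (w.map (ren Fi24Y522x54.sig)) := by
    intro w
    rw [act_eq r (fun x => O.invol _), hval]
    rfl
  have hctx : Ctx r (bs g) Fi24Y522x54Data.cert := by
    refine ⟨fun x => O.invol _, ?_, ?_⟩
    · intro w hw
      rw [hval]
      refine hknown _ ?_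
      have h : (Fi24Y522x54Data.cert.rels.all fun w =>
          decide (w.map (ren Fi24Y522x54.sig) ∈ Fi24Ren54.known)) = true := by decide +kernel
      simp only [List.all_eq_true, decide_eq_true_eq] at h
      exact h w hw
    · intro w hw
      have h : (Fi24Y522x54Data.cert.sgens.all fun w => inH (w.map (ren Fi24Y522x54.sig))) = true := by
        decide +kernel
      simp only [List.all_eq_true] at h
      rw [hact]
      exact cG_inH (h w hw)
  have walk_base : ∀ {u : List Nat} {n pu t : Nat},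
      optAll (CosetCertCore.walk Fi24Y522x54Data.cert.fact Fi24Y522x54Data.size n pu 0 u)
        (fun a => Nat.beq a t) = true →
      cG g (u.map (ren Fi24Y522x54.sig)) = nodeVal r (bs g) Fi24Y522x54Data.cert t := by
    intro u n pu t h
    obtain ⟨a, ha, hr⟩ := optAll_eq_true h
    have := CosetCertCore.walk_sound r (nodeVal r (bs g) Fi24Y522x54Data.cert) (fun x => O.invol _)
      Fi24Y522x54Data.cert.fact Fi24Y522x54Data.size
      (Fi24Y522x54Data.valid r (bs g) hctx) _ _ _ _ _ ha
    rwa [Nat.beq_eq.mp hr, nodeVal_zero, hact] at this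
  rw [← Fi24Y522x54.paths_words] at hp
  obtain ⟨⟨⟨u, n, pu⟩, ⟨w, m, pw⟩, t⟩, hq, rfl⟩ := List.mem_map.mp hp
  have h := List.all_eq_true.mp Fi24Y522x54.paths_ok _ hq
  simp only [Fi24Y522x54.pairOk, Bool.and_eq_true] at h
  exact (walk_base h.1).trans (walk_base h.2).symm

theorem y522' {a b : List Nat} (h : (a, b) ∈ y522Pairs) : cG g a = cG g b := y522G O (a, b) h

theorem smul_cancel {u u' : List Nat} {q : G ⧸ HS g} (h : EG g (u ++ u'.reverse) • q = q) :
    EG g u • q = EG g u' • q := by
  rw [EG_append, EG_reverse O, mul_smul, inv_smul_eq_iff] at h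
  exact h

variable {rho : G24 →* Equiv.Perm (Fin 306936)} {p : ↥H24 →* P23.Grp} (I : Inputs rho p)
include I

theorem same_one {u u' : List Nat} (hu : inH (u ++ u'.reverse) = true)
    (hx : runX (u ++ u'.reverse) 1 = 1) (ho : inO (T23.run (pw (u ++ u'.reverse)) 0) = true) :
    cG g (pre 1 ++ u) = cG g (pre 1 ++ u') := by
  have hm : hE _ hu ∈ Cs := Fi24Cosets64.mem_Cs I _
    (Fi24Cosets64.mem_stabX.mpr (Fin.ext ((Fi24Cosets64.rho_H I hu x1).trans hx)))
    ((Fi24Cosets64.flag_hE I _ hu).trans ho)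
  have hc := comm_of_Cs O (EG_mem (g := g) hu) hm (map_EG_H O hu)
  rw [cG_append, cG_append]
  refine smul_cancel O ?_
  show EG g (u ++ u'.reverse) • cG g [1] = cG g [1]
  rw [cG, EG_single O, smul_smul, ← hc.eq, mul_smul, smul_bs (EG_mem hu)]

theorem kWord_fix {w : List Nat} (hw : w ∈ kWords) :
    inH w = true ∧ EG g w • cG g (pre 2) = cG g (pre 2) := by
  rcases Fi24Cosets64.kWords_facts w hw with ⟨h, -, hy⟩ | ⟨h, -, hlen, hgj⟩ | ⟨h, -, hc, h1, ho⟩
  · exact ⟨h, by rw [← cG_append]; exact y522' O hy⟩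
  · refine ⟨h, ?_⟩
    obtain ⟨x, rfl⟩ : ∃ x, w = [x] := List.length_eq_one_iff.mp hlen
    have hx' : x = 8 ∨ x = 9 := by simpa using hgj
    have hc : Commute (EG g [x]) (EG g (pre 2)) := by
      rw [EG_single O]
      refine Commute.inv_right (Commute.list_prod_right _ _ ?_)
      intro z hz
      obtain ⟨y, hy, rfl⟩ := List.mem_map.mp hz
      have hp : ∀ y ∈ ([1, 0, 2, 1] : List Nat), ∀ x ∈ ([8, 9] : List Nat),
          y < 12 ∧ x < 12 ∧ y ≤ x ∧ P24.pairWord y x = [y, x, y, x] := by decide +kernel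
      obtain ⟨h1, h2, h3, h4⟩ := hp y hy x (by simpa using hx')
      exact (comm_pair O h1 h2 h3 h4).symm
    rw [cG, smul_smul, hc.eq, mul_smul, smul_bs (EG_mem h)]
  · refine ⟨h, ?_⟩
    have h4 : cG g (pre 1 ++ ([0, 2] ++ w)) = cG g (pre 1 ++ [0, 2]) :=
      same_one O I (Fi24Cosets64.inH_append.mpr
        ⟨Fi24Cosets64.inH_append.mpr ⟨by decide, h⟩, by decide⟩) h1 ho
    have h5 : cG g (pre 2) = EG g [1] • cG g (pre 1 ++ [0, 2]) := cG_append g (pre 1 ++ [0, 2]) [1]
    rw [h5, smul_smul, EG_single O, ← (EG_comm_k O hc).eq, mul_smul, ← cG_append, List.append_assoc, h4]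

theorem stab5G {u : List Nat} (hu : inH u = true) (hx : runX u 5 = 5) :
    EG g u • cG g (pre 2) = cG g (pre 2) := by
  haveI := Fi24Cosets64.finH I
  have hle : Ks ≤ stabX rho x5 := fun v hv =>
    Fi24Cosets64.mem_stabX.mpr (Fi24Cosets64.Ks_fix I v hv).1
  have hb := Fi24Cosets64.stab_bound I x5 Fi24Cosets64.S2 (Fi24Cosets64.orbit2 I)
  have h2 : Nat.card (stabX rho x5) * 31671 ≤ Nat.card (stabX rho x5) * Fi24Cosets64.S2.card :=
    Nat.mul_le_mul_left _ Fi24Forest87.count2
  have h3 := Fi24Cosets64.card_Ks I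
  have he : Ks = stabX rho x5 := Subgroup.eq_of_le_of_card_ge hle (by omega)
  have hm : hE u hu ∈ Ks :=
    he ▸ Fi24Cosets64.mem_stabX.mpr (Fin.ext ((Fi24Cosets64.rho_H I hu x5).trans hx))
  have key : ∀ v : ↥H24, v ∈ Ks → ∃ w ∈ HS g, π w = (v : G24) ∧ w • cG g (pre 2) = cG g (pre 2) := by
    intro v hv
    induction hv using Subgroup.closure_induction with
    | mem v hv =>
      obtain ⟨w, hw, hH, rfl⟩ := hv
      exact ⟨EG g w, EG_mem hH, map_EG_H O hH, (kWord_fix O I hw).2⟩
    | one => exact ⟨1, one_mem _, by simp, one_smul _ _⟩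
    | mul a b _ _ ha hb =>
      obtain ⟨x, hx, ex, fx⟩ := ha
      obtain ⟨y, hy, ey, fy⟩ := hb
      exact ⟨x * y, mul_mem hx hy, by rw [map_mul, ex, ey]; rfl, by rw [mul_smul, fy, fx]⟩
    | inv a _ ha =>
      obtain ⟨x, hx, ex, fx⟩ := ha
      exact ⟨x⁻¹, inv_mem hx, by rw [map_inv, ex]; rfl, by rw [inv_smul_eq_iff, fx]⟩
  obtain ⟨w, hw, ew, fw⟩ := key _ hm
  rwa [eq_of_map O (EG_mem hu) hw ((map_EG_H O hu).trans ew.symm)]

theorem same_sound {k : Nat} {u u' : List Nat} (h : sameB k u u' = true) :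
    cG g (pre k ++ u) = cG g (pre k ++ u') := by
  simp only [sameB, Bool.and_eq_true, Bool.or_eq_true, Nat.beq_eq] at h
  obtain ⟨⟨hu, hu'⟩, (hk | ⟨⟨hk, hx⟩, ho⟩) | ⟨hk, hx⟩⟩ := h
  · subst hk
    show cG g u = cG g u'
    rw [cG_inH hu, cG_inH hu']
  · subst hk
    exact same_one O I (Fi24Cosets64.inH_append.mpr ⟨hu, Fi24Cosets64.inH_reverse.trans hu'⟩) hx ho
  · subst hk
    rw [cG_append, cG_append]
    exact smul_cancel O (stab5G O I
      (Fi24Cosets64.inH_append.mpr ⟨hu, Fi24Cosets64.inH_reverse.trans hu'⟩) hx)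

omit I in
theorem rule_sound {i : Nat} (hi : i < 8) :
    cG g (pre (rule i).1.1 ++ (rule i).1.2 ++ [1]) = cG g (pre (rule i).2.1 ++ (rule i).2.2) := by
  obtain ⟨-, -, -, -, -, -, h | h | h⟩ := Fi24Cosets64.rule_facts i hi
  · rw [h]
  · rw [h, cG_append, show ([1, 1] : List Nat) = [1] ++ [1] from rfl, EG_append, EG_single O,
      O.invol, one_smul]
  · exact y522' O h

theorem step_k {i : Nat} (hi : i < 8) {c u : List Nat} (hc : inC c = true)
    (h : sameB (rule i).1.1 u ((rule i).1.2 ++ c) = true) :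
    cG g (pre (rule i).1.1 ++ u ++ [1]) = cG g (pre (rule i).2.1 ++ ((rule i).2.2 ++ c)) := by
  rw [cG_append, same_sound O I h, ← List.append_assoc, ← List.append_assoc, cG_append,
    cG_append g (_ ++ _) c, smul_smul, EG_single O, (EG_comm_k O hc).eq, mul_smul,
    ← rule_sound O hi, cG_append g (pre (rule i).1.1 ++ (rule i).1.2) [1], EG_single O]

theorem walk_sound : ∀ (t : List Nat) (k : Nat) (u : List Nat) (ws : List (Nat × List Nat))
    (k' : Nat) (u' : List Nat), Fi24Cosets64.walk t k u ws = some (k', u') →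
    cG g (pre k ++ u ++ t) = cG g (pre k' ++ u') := by
  intro t
  induction t with
  | nil =>
    intro k u ws k' u' h
    simp only [Fi24Cosets64.walk, Option.some.injEq, Prod.mk.injEq] at h
    rw [h.1, h.2, List.append_nil]
  | cons x t ih =>
    intro k u ws k' u' h
    rw [List.append_cons, cG_append]
    simp only [Fi24Cosets64.walk] at h
    cases hx : Nat.beq x 1
    · rw [hx, cond_false] at h
      cases hm : decide (x ∈ hgens)
      · rw [hm, cond_false] at h
        simp at h
      · rw [hm, cond_true] at h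
        have := ih _ _ _ _ _ h
        rw [cG_append, ← List.append_assoc] at this
        exact this
    · rw [hx, cond_true] at h
      have hx' : x = 1 := Nat.beq_eq.mp hx
      subst hx'
      cases ws with
      | nil => simp at h
      | cons w ws =>
        obtain ⟨i, c⟩ := w
        simp only at h
        cases hb : Nat.blt i 8 && Nat.beq (rule i).1.1 k && inC c && sameB k u ((rule i).1.2 ++ c)
        · rw [hb, cond_false] at h
          simp at h
        · rw [hb, cond_true] at h
          simp only [Bool.and_eq_true, Nat.blt_eq, Nat.beq_eq] at hb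
          obtain ⟨⟨⟨hi, rfl⟩, hc⟩, hs⟩ := hb
          rw [step_k O I hi hc hs, ← cG_append]
          exact ih _ _ _ _ _ h

/-- z has the form a⁻¹ k w k b. -/
theorem z_form : ∃ a ∈ HS g, ∃ b ∈ HS g, EG g zWord = a⁻¹ * (g 1 * EG g coW1 * g 1) * b := by
  have key : ∀ (T e : List Nat) (ws : List (Nat × List Nat)),
      Fi24Cosets64.walk T 0 [] ws = some (1, e) → ∃ h ∈ HS g, EG g T = EG g e * g 1 * h := by
    intro T e ws hw
    have h := walk_sound O I _ _ _ _ _ _ hw
    rw [show pre 0 ++ [] ++ T = T from rfl, cG, cG,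
      show pre 1 ++ e = [1] ++ e from rfl, EG_append, EG_single O] at h
    refine ⟨(EG g e * g 1)⁻¹ * EG g T, ?_, by rw [mul_inv_cancel_left]⟩
    have h' : (((EG g T) * 1 : G) : G ⧸ HS g) = ((EG g e * g 1 * 1 : G) : G ⧸ HS g) := h
    rw [mul_one, mul_one] at h'
    exact QuotientGroup.eq.mp h'.symm
  obtain ⟨ha, hha, eA⟩ := key _ _ _ Fi24Cosets64.walks_ok.1
  obtain ⟨hb, hhb, eB⟩ := key _ _ _ Fi24Cosets64.walks_ok.2
  refine ⟨hb, hhb, ha, hha, ?_⟩
  conv_lhs => rw [← List.take_append_drop zCut zWord, EG_append,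
    ← List.reverse_reverse (zWord.drop zCut), EG_reverse O]
  rw [eA, eB, ← Fi24Cosets64.meet_facts.1, EG_append, EG_reverse O]
  simp only [mul_inv_rev, inv_of_sq g O.invol, mul_assoc]

end Cfsg.Agent.Fi24Lift64
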