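import Cfsg.Agent.Lib.MultiplierDivisible41
import Cfsg.Agent.Lib.CosetCertSpanLower41
import Cfsg.Agent.Lib.CosetCertFi23Simple
import Cfsg.Agent.Lib.CosetCertFi23W8Sgs
import Cfsg.Agent.Lib.CosetCertFi23W6Sgs
import Cfsg.Agent.Lib.CosetCertFi23W8
import Cfsg.Agent.Lib.CosetCertFi23W6
import Cfsg.Agent.Lib.CosetCertFi23W8Emb
import Cfsg.Agent.Lib.CosetCertFi23W6Emb
import Cfsg.Agent.Lib.CosetCertFi23M0
import Cfsg.Agent.Lib.CosetCertFi23M1
import Cfsg.Agent.Lib.CosetCertFi23M2
import Cfsg.Agent.Lib.CosetCertFi23M3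
import Cfsg.Agent.Lib.CosetCertFi23M4
import Cfsg.Agent.Lib.CosetCertFi23MA
import Cfsg.Agent.Lib.CosetCertFi23MB

/-!
The Schur multiplier of the presented group Fi23 is trivial. In a central extension with kernel
closed under square roots the generators lift to involutions satisfying the Coxeter relations; the
generator j kills the commutator values, and two small certificates kill the spider value.
-/

set_option autoImplicit false
set_option maxRecDepth 100000
set_option synthInstance.maxSize 2000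
set_option linter.style.haveILetI false

namespace Cfsg.Agent.MultiplierFi23x41

open Cfsg.Agent.CosetCertCore Cfsg.Agent.CosetCertTable Cfsg.Agent.CosetCertPres
open Cfsg.Agent.CosetCertOrder Cfsg.Agent.CosetCertSpanLower41
open Cfsg.Agent.CosetCertFi23Simple (P23 good)

/-! ### Lower bounds for two subgroups -/

theorem lowW8_6 : 2 ≤ Nat.card (fixing (rho CosetCertFi23W8.enumerated).range [5, 4, 1, 3, 2, 0]) :=
  le_of_eq_of_le (by decide +kernel) (stage_le CosetCertFi23W8.enumerated (E := CosetCertFi23W8SgsData.elts) CosetCertFi23W8Sgs.words_ok CosetCertFi23W8Sgs.elts_ok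
    (b := 6) (n := 2) (by decide +kernel) CosetCertFi23W8Sgs.fix6 CosetCertFi23W8Sgs.stage6_ok CosetCertFi23W8Sgs.stage6_count (Nat.succ_le_of_lt Nat.card_pos))

theorem lowW8_5 : 12 ≤ Nat.card (fixing (rho CosetCertFi23W8.enumerated).range [4, 1, 3, 2, 0]) :=
  le_of_eq_of_le (by decide +kernel) (stage_le CosetCertFi23W8.enumerated (E := CosetCertFi23W8SgsData.elts) CosetCertFi23W8Sgs.words_ok CosetCertFi23W8Sgs.elts_ok
    (b := 5) (n := 6) (by decide +kernel) CosetCertFi23W8Sgs.fix5 CosetCertFi23W8Sgs.stage5_ok CosetCertFi23W8Sgs.stage5_count lowW8_6)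

theorem lowW8_4 : 120 ≤ Nat.card (fixing (rho CosetCertFi23W8.enumerated).range [1, 3, 2, 0]) :=
  le_of_eq_of_le (by decide +kernel) (stage_le CosetCertFi23W8.enumerated (E := CosetCertFi23W8SgsData.elts) CosetCertFi23W8Sgs.words_ok CosetCertFi23W8Sgs.elts_ok
    (b := 4) (n := 10) (by decide +kernel) CosetCertFi23W8Sgs.fix4 CosetCertFi23W8Sgs.stage4_ok CosetCertFi23W8Sgs.stage4_count lowW8_5)

theorem lowW8_3 : 1920 ≤ Nat.card (fixing (rho CosetCertFi23W8.enumerated).range [3, 2, 0]) :=
  le_of_eq_of_le (by decide +kernel) (stage_le CosetCertFi23W8.enumerated (E := CosetCertFi23W8SgsData.elts) CosetCertFi23W8Sgs.words_ok CosetCertFi23W8Sgs.elts_ok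
    (b := 1) (n := 16) (by decide +kernel) CosetCertFi23W8Sgs.fix3 CosetCertFi23W8Sgs.stage3_ok CosetCertFi23W8Sgs.stage3_count lowW8_4)

theorem lowW8_2 : 51840 ≤ Nat.card (fixing (rho CosetCertFi23W8.enumerated).range [2, 0]) :=
  le_of_eq_of_le (by decide +kernel) (stage_le CosetCertFi23W8.enumerated (E := CosetCertFi23W8SgsData.elts) CosetCertFi23W8Sgs.words_ok CosetCertFi23W8Sgs.elts_ok
    (b := 3) (n := 27) (by decide +kernel) CosetCertFi23W8Sgs.fix2 CosetCertFi23W8Sgs.stage2_ok CosetCertFi23W8Sgs.stage2_count lowW8_3)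

theorem lowW8_1 : 2903040 ≤ Nat.card (fixing (rho CosetCertFi23W8.enumerated).range [0]) :=
  le_of_eq_of_le (by decide +kernel) (stage_le CosetCertFi23W8.enumerated (E := CosetCertFi23W8SgsData.elts) CosetCertFi23W8Sgs.words_ok CosetCertFi23W8Sgs.elts_ok
    (b := 2) (n := 56) (by decide +kernel) CosetCertFi23W8Sgs.fix1 CosetCertFi23W8Sgs.stage1_ok CosetCertFi23W8Sgs.stage1_count lowW8_2)

theorem lowW8_0 : 348364800 ≤ Nat.card (fixing (rho CosetCertFi23W8.enumerated).range []) :=
  le_of_eq_of_le (by decide +kernel) (stage_le CosetCertFi23W8.enumerated (E := CosetCertFi23W8SgsData.elts) CosetCertFi23W8Sgs.words_ok CosetCertFi23W8Sgs.elts_ok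
    (b := 0) (n := 120) (by decide +kernel) CosetCertFi23W8Sgs.fix0 CosetCertFi23W8Sgs.stage0_ok CosetCertFi23W8Sgs.stage0_count lowW8_1)

theorem lowerW8 : 348364800 ≤ Nat.card (span P23.gg [1, 2, 3, 4, 5, 6, 7, 8]) := by
  haveI := CosetCertFi23Simple.upper.1
  refine le_trans lowW8_0 ?_
  show Nat.card (rho CosetCertFi23W8.enumerated).range ≤ _
  exact card_range_le CosetCertFi23F.enumerated CosetCertFi23W8.enumerated (by decide +kernel) (e := CosetCertFi23W8Emb.emb)
    (by decide +kernel) (by decide +kernel) (by decide +kernel)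

theorem lowW6_4 : 2 ≤ Nat.card (fixing (rho CosetCertFi23W6.enumerated).range [3, 2, 1, 0]) :=
  le_of_eq_of_le (by decide +kernel) (stage_le CosetCertFi23W6.enumerated (E := CosetCertFi23W6SgsData.elts) CosetCertFi23W6Sgs.words_ok CosetCertFi23W6Sgs.elts_ok
    (b := 4) (n := 2) (by decide +kernel) CosetCertFi23W6Sgs.fix4 CosetCertFi23W6Sgs.stage4_ok CosetCertFi23W6Sgs.stage4_count (Nat.succ_le_of_lt Nat.card_pos))

theorem lowW6_3 : 12 ≤ Nat.card (fixing (rho CosetCertFi23W6.enumerated).range [2, 1, 0]) :=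
  le_of_eq_of_le (by decide +kernel) (stage_le CosetCertFi23W6.enumerated (E := CosetCertFi23W6SgsData.elts) CosetCertFi23W6Sgs.words_ok CosetCertFi23W6Sgs.elts_ok
    (b := 3) (n := 6) (by decide +kernel) CosetCertFi23W6Sgs.fix3 CosetCertFi23W6Sgs.stage3_ok CosetCertFi23W6Sgs.stage3_count lowW6_4)

theorem lowW6_2 : 120 ≤ Nat.card (fixing (rho CosetCertFi23W6.enumerated).range [1, 0]) :=
  le_of_eq_of_le (by decide +kernel) (stage_le CosetCertFi23W6.enumerated (E := CosetCertFi23W6SgsData.elts) CosetCertFi23W6Sgs.words_ok CosetCertFi23W6Sgs.elts_ok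
    (b := 2) (n := 10) (by decide +kernel) CosetCertFi23W6Sgs.fix2 CosetCertFi23W6Sgs.stage2_ok CosetCertFi23W6Sgs.stage2_count lowW6_3)

theorem lowW6_1 : 1920 ≤ Nat.card (fixing (rho CosetCertFi23W6.enumerated).range [0]) :=
  le_of_eq_of_le (by decide +kernel) (stage_le CosetCertFi23W6.enumerated (E := CosetCertFi23W6SgsData.elts) CosetCertFi23W6Sgs.words_ok CosetCertFi23W6Sgs.elts_ok
    (b := 1) (n := 16) (by decide +kernel) CosetCertFi23W6Sgs.fix1 CosetCertFi23W6Sgs.stage1_ok CosetCertFi23W6Sgs.stage1_count lowW6_2)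

theorem lowW6_0 : 51840 ≤ Nat.card (fixing (rho CosetCertFi23W6.enumerated).range []) :=
  le_of_eq_of_le (by decide +kernel) (stage_le CosetCertFi23W6.enumerated (E := CosetCertFi23W6SgsData.elts) CosetCertFi23W6Sgs.words_ok CosetCertFi23W6Sgs.elts_ok
    (b := 0) (n := 27) (by decide +kernel) CosetCertFi23W6Sgs.fix0 CosetCertFi23W6Sgs.stage0_ok CosetCertFi23W6Sgs.stage0_count lowW6_1)

theorem lowerW6 : 51840 ≤ Nat.card (span P23.gg [1, 2, 3, 4, 5, 8]) := by
  haveI := CosetCertFi23Simple.upper.1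
  refine le_trans lowW6_0 ?_
  show Nat.card (rho CosetCertFi23W6.enumerated).range ≤ _
  exact card_range_le CosetCertFi23F.enumerated CosetCertFi23W6.enumerated (by decide +kernel) (e := CosetCertFi23W6Emb.emb)
    (by decide +kernel) (by decide +kernel) (by decide +kernel)

/-! ### Conditions on indices -/

/-- Adjacent generators. -/
def adj (x y : Nat) : Bool := decide (x ≠ y) && decide (Cfsg.Spor.coxLabel P23.edges (P23.gen x) (P23.gen y) = 3)

/-- Commuting generators. -/
def orth (x y : Nat) : Bool := decide (x ≠ y) && decide (Cfsg.Spor.coxLabel P23.edges (P23.gen x) (P23.gen y) = 2)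

theorem gg_adj {x y : Nat} (h : adj x y = true) : (P23.gg x * P23.gg y) ^ 3 = 1 := by
  simp only [adj, Bool.and_eq_true, decide_eq_true_eq] at h
  have := rel_one good (P23.gen x) (P23.gen y)
  rwa [h.2] at this

theorem gg_orth {x y : Nat} (h : orth x y = true) : (P23.gg x * P23.gg y) ^ 2 = 1 := by
  simp only [orth, Bool.and_eq_true, decide_eq_true_eq] at h
  have := rel_one good (P23.gen x) (P23.gen y)
  rwa [h.2] at this

/-- A step moving a pair of commuting generators. -/
def moveOk (known : List (Nat × Nat)) (x x' y : Nat) : Bool :=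
  known.contains (x, y) && adj x x' && orth x y && orth x' y

/-- The pairs reached. -/
noncomputable def reach (known : List (Nat × Nat)) : List (Nat × Nat × Nat) → List (Nat × Nat)
  | [] => known
  | (x, x', y) :: r =>
    if moveOk known x x' y then reach ((x', y) :: (y, x') :: known) r else reach known r

/-- The Coxeter word and its reverse. -/
def cw : List Nat := [0, 1, 2, 3, 4, 5, 8]

/-- Move a letter from the front to the end, up to commutation. -/
def shift (x : Nat) (w : List Nat) : List Nat :=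
  if (w.takeWhile (· != x)).all (orth x) && w.contains x then w.erase x ++ [x] else w

/-- Equality up to commutations. -/
def same : List Nat → List Nat → Bool
  | [], w => w.isEmpty
  | x :: t, w => (w.takeWhile (· != x)).all (orth x) && w.contains x && same t (w.erase x)

theorem gg_default {x : Nat} (hx : 10 ≤ x) : P23.gg x = P23.gg 0 := by
  unfold Pres.gg Pres.gen
  rw [List.getD_eq_default P23.gens P23.dflt hx]
  rfl

theorem comm_of_sq {G : Type*} [Group G] {a b : G} (ha : a * a = 1) (hb : b * b = 1)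
    (h : (a * b) ^ 2 = 1) : a * b = b * a := by
  rw [pow_two] at h
  rw [← inv_eq_of_mul_eq_one_right h, mul_inv_rev, inv_eq_of_mul_eq_one_right ha,
    inv_eq_of_mul_eq_one_right hb]

/-! ### A central extension -/

section

variable {P : Type} [Group P] {π : P →* P23.Grp}

/-- Lifts of the generators satisfying the Coxeter relations of the tree. -/
structure Lifts (π : P →* P23.Grp) (u : Nat → P) : Prop where
  map : ∀ x, π (u x) = P23.gg x
  sq : ∀ x, u x * u x = 1
  braid : ∀ x < 10, ∀ y < 10, adj x y = true → (u x * u y) ^ 3 = 1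

variable (hs : Function.Surjective π) (hc : π.ker ≤ Subgroup.center P)
  (hr : ∀ z ∈ π.ker, ∃ w ∈ π.ker, w * w = z)

include hc in
theorem cen {z : P} (hz : π z = 1) (g : P) : g * z = z * g := Subgroup.mem_center_iff.1 (hc hz) g

include hs hc hr in
theorem exists_root : ∃ t, π t = P23.gg 0 ∧ t * t = 1 := by
  obtain ⟨v, hv⟩ := hs (P23.gg 0)
  obtain ⟨l, hl, hll⟩ := hr (v * v)⁻¹ (by
    rw [MonoidHom.mem_ker, map_inv, map_mul, hv, gg_sq good, inv_one])
  refine ⟨v * l, by rw [map_mul, hv, MonoidHom.mem_ker.1 hl, mul_one], ?_⟩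
  calc v * l * (v * l) = v * (l * v) * l := by group
    _ = v * v * (l * l) := by rw [← cen hc hl v]; group
    _ = 1 := by rw [hll, mul_inv_cancel]

include hs hc in
theorem exists_next {u : P} {x y : Nat} (hu : π u = P23.gg x) (hu2 : u * u = 1)
    (h : adj x y = true) : ∃ u', π u' = P23.gg y ∧ u' * u' = 1 ∧ (u * u') ^ 3 = 1 := by
  obtain ⟨v, hv⟩ := hs (P23.gg y)
  have hu' : u⁻¹ = u := inv_eq_of_mul_eq_one_right hu2
  set u' := u * v * u * (u * v)⁻¹ with hdef
  have hπ : π u' = P23.gg y := by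
    have hb := gg_adj h
    have h1 := gg_sq good x
    have h2 := gg_sq good y
    simp only [hdef, map_mul, map_inv, hu, hv, mul_inv_rev, inv_of_sq _ (gg_sq good)]
    generalize P23.gg x = a at *
    generalize P23.gg y = b at *
    calc a * b * a * (b * a) = (a * b) ^ 3 * b⁻¹ := by simp [pow_succ, mul_assoc]
      _ = b := by rw [hb, one_mul, inv_eq_of_mul_eq_one_right h2]
  have hsq : u' * u' = 1 := by
    calc u' * u' = u * v * (u * u) * (u * v)⁻¹ := by rw [hdef]; group
      _ = 1 := by rw [hu2]; group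
  refine ⟨u', hπ, hsq, ?_⟩
  have hu'' : u'⁻¹ = u' := inv_eq_of_mul_eq_one_right hsq
  obtain ⟨z, hz, hvz⟩ : ∃ z, π z = 1 ∧ v = u' * z :=
    ⟨u'⁻¹ * v, by rw [map_mul, map_inv, hπ, hv, inv_mul_cancel], by group⟩
  have key : u' = u * u' * u * u' * u := by
    conv_lhs => rw [hdef, hvz]
    calc u * (u' * z) * u * (u * (u' * z))⁻¹ = u * u' * (z * u) * z⁻¹ * u'⁻¹ * u⁻¹ := by group
      _ = u * u' * u * u'⁻¹ * u⁻¹ := by rw [← cen hc hz u]; group
      _ = _ := by rw [hu'', hu']
  calc (u * u') ^ 3 = u * u' * u * u' * u * u' := by simp [pow_succ, mul_assoc]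
    _ = 1 := by rw [← key, hsq]

include hs hc hr in
theorem exists_lifts : ∃ u, Lifts π u := by
  obtain ⟨a, ha, ha2⟩ := exists_root hs hc hr
  obtain ⟨b, hb, hb2, hab⟩ := exists_next hs hc ha ha2 (y := 1) (by decide +kernel)
  obtain ⟨c, hc', hc2, hbc⟩ := exists_next hs hc hb hb2 (y := 2) (by decide +kernel)
  obtain ⟨d, hd, hd2, hcd⟩ := exists_next hs hc hc' hc2 (y := 3) (by decide +kernel)
  obtain ⟨e, he, he2, hde⟩ := exists_next hs hc hd hd2 (y := 4) (by decide +kernel)
  obtain ⟨f, hf, hf2, hef⟩ := exists_next hs hc he he2 (y := 5) (by decide +kernel)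
  obtain ⟨g, hg, hg2, hfg⟩ := exists_next hs hc hf hf2 (y := 6) (by decide +kernel)
  obtain ⟨j, hj, hj2, hgj⟩ := exists_next hs hc hg hg2 (y := 7) (by decide +kernel)
  obtain ⟨h, hh, hh2, hdh⟩ := exists_next hs hc hd hd2 (y := 8) (by decide +kernel)
  obtain ⟨i, hi, hi2, hhi⟩ := exists_next hs hc hh hh2 (y := 9) (by decide +kernel)
  refine ⟨fun x => [a, b, c, d, e, f, g, j, h, i].getD x a, fun x => ?_, fun x => ?_, ?_⟩
  · rcases lt_or_ge x 10 with hx | hx
    · interval_cases x <;> assumption
    · simp only [List.getD_eq_default _ _ (show [a, b, c, d, e, f, g, j, h, i].length ≤ x by simpa)]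
      rw [ha, gg_default hx]
  · rcases lt_or_ge x 10 with hx | hx
    · interval_cases x <;> assumption
    · simp only [List.getD_eq_default _ _ (show [a, b, c, d, e, f, g, j, h, i].length ≤ x by simpa)]
      exact ha2
  · have key : ∀ {p q : P}, p * p = 1 → q * q = 1 → (p * q) ^ 3 = 1 → (q * p) ^ 3 = 1 := by
      intro p q hp hq hpq
      rw [← inv_eq_one, ← inv_pow, mul_inv_rev, inv_eq_of_mul_eq_one_right hp,
        inv_eq_of_mul_eq_one_right hq, hpq]
    intro x hx y hy hxy
    have : (x, y) ∈ [(0, 1), (1, 2), (2, 3), (3, 4), (4, 5), (5, 6), (6, 7), (3, 8), (8, 9)] ∨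
        (y, x) ∈ [(0, 1), (1, 2), (2, 3), (3, 4), (4, 5), (5, 6), (6, 7), (3, 8), (8, 9)] :=
      (show ∀ a < 10, ∀ b < 10, adj a b = true →
        (a, b) ∈ [(0, 1), (1, 2), (2, 3), (3, 4), (4, 5), (5, 6), (6, 7), (3, 8), (8, 9)] ∨
        (b, a) ∈ [(0, 1), (1, 2), (2, 3), (3, 4), (4, 5), (5, 6), (6, 7), (3, 8), (8, 9)]
        from by decide +kernel) x hx y hy hxy
    simp only [List.mem_cons, Prod.mk.injEq, List.not_mem_nil, or_false] at this
    rcases this with h | h <;> rcases h with h | h | h | h | h | h | h | h | h <;>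
      obtain ⟨rfl, rfl⟩ := h <;>
      first
        | assumption
        | exact key ‹_› ‹_› ‹_›

variable {u : Nat → P} (hu : Lifts π u)
include hu

theorem map_val (w : List Nat) : π (val u w) = val P23.gg w := by
  unfold val
  rw [map_list_prod, List.map_map]
  exact congrArg List.prod (List.map_congr_left fun x _ => hu.map x)

theorem cv_ker {x y : Nat} (h : orth x y = true) : π ((u x * u y) ^ 2) = 1 := by
  rw [map_pow, map_mul, hu.map, hu.map, gg_orth h]

include hc

theorem cv_symm {x y : Nat} (h : orth x y = true) : (u y * u x) ^ 2 = (u x * u y) ^ 2 := by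
  calc (u y * u x) ^ 2 = u y * (u x * u y) ^ 2 * (u y)⁻¹ := by simp [pow_two, mul_assoc]
    _ = (u x * u y) ^ 2 := by rw [cen hc (cv_ker hu h) (u y), mul_inv_cancel_right]

theorem cv_move {x x' y : Nat} (hx : x < 10) (hx' : x' < 10) (ha : adj x x' = true)
    (ho : orth x y = true) (ho' : orth x' y = true) :
    (u x' * u y) ^ 2 = (u x * u y) ^ 2 := by
  set g := u x * u x' with hg
  have hinv : ∀ z, (u z)⁻¹ = u z := inv_of_sq u hu.sq
  have hx1 : g * u x * g⁻¹ = u x' := by
    calc g * u x * g⁻¹ = (u x * u x') ^ 3 * (u x')⁻¹ := by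
          rw [hg, mul_inv_rev, hinv, hinv]; simp only [pow_succ, pow_zero, one_mul, mul_assoc, hu.sq, mul_inv_cancel, mul_one]
      _ = u x' := by rw [hu.braid x hx x' hx' ha, one_mul, hinv]
  have hy : π (g * u y * g⁻¹) = P23.gg y := by
    have hA := comm_of_sq (gg_sq good x) (gg_sq good y) (gg_orth ho)
    have hB := comm_of_sq (gg_sq good x') (gg_sq good y) (gg_orth ho')
    simp only [hg, map_mul, map_inv, hu.map]
    calc P23.gg x * P23.gg x' * P23.gg y * (P23.gg x * P23.gg x')⁻¹
        = P23.gg x * (P23.gg x' * P23.gg y) * (P23.gg x * P23.gg x')⁻¹ := by group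
      _ = P23.gg x * P23.gg y * (P23.gg x)⁻¹ := by rw [hB]; group
      _ = P23.gg y := by rw [hA]; group
  obtain ⟨z, hz, hyz⟩ : ∃ z, π z = 1 ∧ g * u y * g⁻¹ = u y * z :=
    ⟨(u y)⁻¹ * (g * u y * g⁻¹), by rw [map_mul, map_inv, hu.map, hy, inv_mul_cancel], by group⟩
  have hz2 : z * z = 1 := by
    have e : u y * z * (u y * z) = 1 := by
      rw [← hyz, show g * u y * g⁻¹ * (g * u y * g⁻¹) = g * (u y * u y) * g⁻¹ by group, hu.sq]
      group
    calc z * z = u y * (u y * z) * z := by rw [← mul_assoc (u y), hu.sq, one_mul]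
      _ = u y * (z * u y) * z := by rw [cen hc hz (u y)]
      _ = 1 := by rw [← mul_assoc, mul_assoc, e]
  calc (u x' * u y) ^ 2 = (u x' * u y) ^ 2 * (z * z) := by rw [hz2, mul_one]
    _ = (u x' * (u y * z)) ^ 2 := by
        rw [pow_two, pow_two, ← mul_assoc (u x') (u y) z]
        generalize u x' * u y = A
        calc A * A * (z * z) = A * (A * z) * z := by group
          _ = A * (z * A) * z := by rw [cen hc hz A]
          _ = A * z * (A * z) := by group
    _ = g * (u x * u y) ^ 2 * g⁻¹ := by rw [← hyz, ← hx1, pow_two, pow_two]; group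
    _ = (u x * u y) ^ 2 := by rw [cen hc (cv_ker hu ho) g, mul_inv_cancel_right]

theorem cv_reach {ζ : P} : ∀ (r : List (Nat × Nat × Nat)) (known : List (Nat × Nat)),
    (∀ p ∈ known, p.1 < 10 ∧ (u p.1 * u p.2) ^ 2 = ζ) → (∀ s ∈ r, s.2.1 < 10 ∧ s.2.2 < 10) →
    ∀ p ∈ reach known r, p.1 < 10 ∧ (u p.1 * u p.2) ^ 2 = ζ
  | [], known, h, _, p, hp => h p hp
  | (x, x', y) :: r, known, h, hr, p, hp => by
    obtain ⟨hx', hy⟩ := hr _ (List.mem_cons_self ..)
    have hr' := fun s hs => hr s (List.mem_cons_of_mem _ hs)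
    rw [reach] at hp
    split at hp
    · rename_i hm
      simp only [moveOk, Bool.and_eq_true, List.contains_eq_mem, decide_eq_true_eq] at hm
      obtain ⟨⟨⟨hk, ha⟩, ho⟩, ho'⟩ := hm
      obtain ⟨hx, hv⟩ := h _ hk
      have h1 : (u x' * u y) ^ 2 = ζ := (cv_move hc hu hx hx' ha ho ho').trans hv
      refine cv_reach r _ (fun q hq => ?_) hr' p hp
      rcases List.mem_cons.mp hq with rfl | hq
      · exact ⟨hx', h1⟩
      rcases List.mem_cons.mp hq with rfl | hq
      · exact ⟨hy, by rw [cv_symm hc hu ho']; exact h1⟩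
      · exact h q hq
    · exact cv_reach r known h hr' p hp

omit hc in
theorem pow_sq_one {z : P} (hz : z * z = 1) (n : Nat) : z ^ (2 * n + 1) = z := by
  rw [pow_succ, pow_mul, pow_two, hz, one_pow, one_mul]

theorem cv_sq {x y : Nat} (h : orth x y = true) :
    (u x * u y) ^ 2 * (u x * u y) ^ 2 = 1 := by
  have hinv : ∀ z, (u z)⁻¹ = u z := inv_of_sq u hu.sq
  have : ((u x * u y) ^ 2)⁻¹ = (u x * u y) ^ 2 := by
    rw [← inv_pow, mul_inv_rev, hinv, hinv, cv_symm hc hu h]
  exact mul_eq_one_iff_eq_inv.2 this.symm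

omit hc in
theorem conj_val {ζ : P} (hζ : ∀ g, g * ζ = ζ * g) {j : Nat} :
    ∀ w : List Nat, (∀ x ∈ w, u j * u x * u j = ζ * u x) →
      u j * val u w * u j = ζ ^ w.length * val u w
  | [], _ => by simp [val, hu.sq]
  | x :: w, h => by
    have ih := conj_val hζ w (fun y hy => h y (List.mem_cons_of_mem _ hy))
    have hx := h x (List.mem_cons_self ..)
    rw [val_cons, List.length_cons, pow_succ']
    calc u j * (u x * val u w) * u j = u j * u x * (u j * u j) * val u w * u j := by
          rw [hu.sq]; group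
      _ = (u j * u x * u j) * (u j * val u w * u j) := by group
      _ = ζ * (u x * ζ ^ w.length) * val u w := by rw [hx, ih]; group
      _ = ζ * (ζ ^ w.length * u x) * val u w := by
          rw [(Commute.pow_right (hζ (u x) : Commute (u x) ζ) w.length).eq]
      _ = ζ * ζ ^ w.length * (u x * val u w) := by group

/-- The steps reaching all commuting pairs. -/
abbrev moves : List (Nat × Nat × Nat) := [(0, 1, 7), (7, 6, 0), (1, 2, 7), (7, 6, 1), (6, 5, 0),
  (2, 3, 7), (7, 6, 2), (6, 5, 1), (5, 4, 0), (3, 4, 7), (3, 8, 7), (7, 6, 3), (6, 5, 2), (5, 4, 1),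
  (4, 3, 0), (4, 5, 7), (7, 6, 4), (8, 9, 7), (7, 6, 8), (6, 5, 3), (5, 4, 2), (4, 3, 1), (3, 2, 0),
  (3, 8, 0), (7, 6, 9), (6, 5, 8), (3, 8, 1), (8, 9, 0), (6, 5, 9), (5, 4, 8), (8, 9, 1), (1, 2, 8),
  (5, 4, 9), (1, 2, 9), (4, 3, 9)]

theorem orth_one {x y : Nat} (hx : x < 10) (hy : y < 10) (h : orth x y = true) :
    (u x * u y) ^ 2 = 1 := by
  set ζ := (u 7 * u 0) ^ 2 with hdef
  have h70 : orth 7 0 = true := by decide +kernel
  have hall : ∀ a < 10, ∀ b < 10, orth a b = true → (u a * u b) ^ 2 = ζ := by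
    intro a ha b hb hab
    have hm := (show ∀ a < 10, ∀ b < 10, orth a b = true → (a, b) ∈ reach [(7, 0), (0, 7)] moves
      from by decide +kernel) a ha b hb hab
    exact (cv_reach hc hu moves [(7, 0), (0, 7)] (fun q hq => by
      simp only [List.mem_cons, List.not_mem_nil, or_false] at hq
      rcases hq with rfl | rfl
      · exact ⟨by norm_num, rfl⟩
      · exact ⟨by norm_num, cv_symm hc hu h70⟩) (by decide +kernel) (a, b) hm).2
  have hπζ : π ζ = 1 := cv_ker hu h70
  have hζ2 : ζ * ζ = 1 := cv_sq hc hu h70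
  have hc7 : ∀ a ∈ ((List.replicate 9 cw).flatten), u 7 * u a * u 7 = ζ * u a := by
    intro a ha
    obtain ⟨hlt, ho⟩ := (show ∀ a ∈ ((List.replicate 9 cw).flatten), a < 10 ∧ orth 7 a = true
      from by decide +kernel) a ha
    rw [← hall 7 (by norm_num) a hlt ho, pow_two]
    calc u 7 * u a * u 7 = u 7 * u a * u 7 * (u a * u a) := by rw [hu.sq, mul_one]
      _ = _ := by group
  have hk : π (val u (List.replicate 9 cw).flatten) = 1 := by
    rw [map_val hu]
    exact val_relWords good (by decide +kernel)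
  have h1 := conj_val hu (fun g => cen hc hπζ g) (j := 7) _ hc7
  rw [cen hc hk (u 7), mul_assoc, hu.sq, mul_one] at h1
  replace h1 : (1 : P) = _ := mul_right_cancel ((one_mul _).trans h1)
  rw [hall x hx y hy h]
  rw [show ((List.replicate 9 cw).flatten).length = 2 * 31 + 1 by decide +kernel,
    pow_sq_one hu hζ2] at h1
  exact h1.symm

theorem pair_one {w : List Nat} (hw : w ∈ (List.range 10).flatMap fun i =>
    (List.range (10 - i)).map fun d => P23.pairWord i (i + d)) : val u w = 1 := by
  simp only [List.mem_flatMap, List.mem_map, List.mem_range] at hw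
  obtain ⟨i, hi, d, hd, rfl⟩ := hw
  unfold Pres.pairWord
  split
  · rename_i h
    simp [val, hu.sq]
  · rename_i h
    rw [val_replicate]
    simp only [val_cons, val_nil, mul_one]
    have hcase : Cfsg.Spor.coxLabel P23.edges (P23.gen i) (P23.gen (i + d)) = 2 ∨
        Cfsg.Spor.coxLabel P23.edges (P23.gen i) (P23.gen (i + d)) = 3 :=
      (show ∀ a < 10, ∀ b < 10, a ≠ b → Cfsg.Spor.coxLabel P23.edges (P23.gen a) (P23.gen b) = 2 ∨
        Cfsg.Spor.coxLabel P23.edges (P23.gen a) (P23.gen b) = 3 from by decide +kernel)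
        i hi (i + d) (by omega) h
    rcases hcase with e | e <;> rw [e]
    · exact orth_one hc hu hi (by omega) (by simp [orth, (show d ≠ 0 by omega), e])
    · exact hu.braid i hi (i + d) (by omega) (by simp [adj, (show d ≠ 0 by omega), e])

omit hc in
theorem val_pull {x : Nat} : ∀ (w : List Nat), (w.takeWhile (· != x)).all (orth x) = true →
    w.contains x = true → (∀ a ∈ w, orth x a = true → (u x * u a) ^ 2 = 1) →
      val u w = u x * val u (w.erase x)
  | [], _, hm, _ => by simp at hm
  | a :: w, hall, hm, hcm => by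
    by_cases he : a = x
    · subst he
      rw [List.erase_cons_head, val_cons]
    · have hne : (a != x) = true := by simpa using he
      simp only [List.takeWhile_cons, hne, if_true, List.all_cons, Bool.and_eq_true] at hall
      have hm' : w.contains x = true := by
        simpa [List.contains_cons, Ne.symm he] using hm
      have ih := val_pull w hall.2 hm' (fun b hb => hcm b (List.mem_cons_of_mem _ hb))
      rw [List.erase_cons_tail (by simpa using he), val_cons, val_cons, ih, ← mul_assoc,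
        ← mul_assoc, comm_of_sq (hu.sq x) (hu.sq a) (hcm a (List.mem_cons_self ..) hall.1)]

omit hc in
theorem val_shift {x : Nat} {w : List Nat}
    (hcm : ∀ a ∈ w, orth x a = true → (u x * u a) ^ 2 = 1) :
    ∃ h, val u (shift x w) = h * val u w * h⁻¹ := by
  unfold shift
  split
  · rename_i hif
    simp only [Bool.and_eq_true] at hif
    refine ⟨u x, ?_⟩
    rw [val_pull hu w hif.1 hif.2 hcm, val_append, inv_of_sq u hu.sq]
    simp only [val_cons, val_nil, mul_one]
    rw [← mul_assoc (u x) (u x), hu.sq, one_mul]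
  · exact ⟨1, by simp⟩

omit hc hu in
theorem mem_shift {x a : Nat} {w : List Nat} (h : a ∈ shift x w) : a ∈ w ∨ a = x := by
  unfold shift at h
  split at h
  · rcases List.mem_append.mp h with h | h
    · exact Or.inl (List.mem_of_mem_erase h)
    · exact Or.inr (by simpa using h)
  · exact Or.inl h

omit hc in
theorem val_shifts : ∀ (xs : List Nat) (w : List Nat), (∀ x ∈ xs, x < 10) → (∀ a ∈ w, a < 10) →
    (∀ x < 10, ∀ y < 10, orth x y = true → (u x * u y) ^ 2 = 1) →
    ∃ h, val u (xs.foldl (fun w x => shift x w) w) = h * val u w * h⁻¹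
  | [], w, _, _, _ => ⟨1, by simp⟩
  | x :: xs, w, hxs, hw, ho => by
    have hx := hxs x (List.mem_cons_self ..)
    obtain ⟨h1, e1⟩ := val_shift hu (x := x) (w := w) (fun a ha => ho x hx a (hw a ha))
    obtain ⟨h2, e2⟩ := val_shifts xs (shift x w) (fun y hy => hxs y (List.mem_cons_of_mem _ hy))
      (fun a ha => (mem_shift ha).elim (hw a) (fun e => e ▸ hx)) ho
    refine ⟨h2 * h1, ?_⟩
    rw [List.foldl_cons, e2, e1]
    group

omit hc in
theorem val_same : ∀ (t w : List Nat), same t w = true → (∀ a ∈ t, a < 10) → (∀ a ∈ w, a < 10) →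
    (∀ x < 10, ∀ y < 10, orth x y = true → (u x * u y) ^ 2 = 1) → val u t = val u w
  | [], w, h, _, _, _ => by
    simp only [same, List.isEmpty_iff] at h
    rw [h]
  | x :: t, w, h, ht, hw, ho => by
    simp only [same, Bool.and_eq_true] at h
    have hx := ht x (List.mem_cons_self ..)
    rw [val_pull hu w h.1.1 h.1.2 (fun a ha => ho x hx a (hw a ha)), val_cons,
      val_same t _ h.2 (fun a ha => ht a (List.mem_cons_of_mem _ ha))
        (fun a ha => hw a (List.mem_of_mem_erase ha)) ho]

theorem k_sq :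
    val u (List.replicate 9 cw).flatten * val u (List.replicate 9 cw).flatten = 1 := by
  have ho : ∀ x < 10, ∀ y < 10, orth x y = true → (u x * u y) ^ 2 = 1 :=
    fun x hx y hy h => orth_one hc hu hx hy h
  obtain ⟨h, e⟩ := val_shifts hu [0, 1, 2, 3, 4, 8, 0, 1, 2, 3, 0, 1, 2, 0, 1, 0] cw
    (by decide +kernel) (by decide +kernel) ho
  have e2 : val u cw.reverse = h * val u cw * h⁻¹ := by
    rw [← e]
    exact val_same hu _ _ (by decide +kernel) (by decide +kernel) (by decide +kernel) ho
  have hk : π (val u (List.replicate 9 cw).flatten) = 1 := by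
    rw [map_val hu]
    exact val_relWords good (by decide +kernel)
  rw [val_replicate] at hk ⊢
  have h3 : (val u cw ^ 9)⁻¹ = val u cw ^ 9 := by
    rw [← inv_pow, ← val_reverse u hu.sq, e2, conj_pow, cen hc hk h, mul_inv_cancel_right]
  exact mul_eq_one_iff_eq_inv.2 h3.symm

omit hc in
theorem val_twist {κ : P} (hκ : ∀ g, g * κ = κ * g) :
    ∀ w : List Nat, val (fun x => u x * κ) w = val u w * κ ^ w.length
  | [] => by simp [val]
  | x :: w => by
    rw [val_cons, val_cons, val_twist hκ w, List.length_cons, pow_succ']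
    calc u x * κ * (val u w * κ ^ w.length) = u x * (κ * val u w) * κ ^ w.length := by group
      _ = u x * (val u w * κ) * κ ^ w.length := by rw [← hκ]
      _ = _ := by group

end

theorem exists_exact {P : Type} [Group P] {π : P →* P23.Grp} (hs : Function.Surjective π)
    (hc : π.ker ≤ Subgroup.center P) (hr : ∀ z ∈ π.ker, ∃ w ∈ π.ker, w * w = z) :
    ∃ u, Lifts π u ∧ val u (List.replicate 9 cw).flatten = 1 := by
  obtain ⟨u, hu⟩ := exists_lifts hs hc hr
  set κ := val u (List.replicate 9 cw).flatten with hκdef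
  have hk : π κ = 1 := by
    rw [hκdef, map_val hu]
    exact val_relWords good (by decide +kernel)
  have hk2 : κ * κ = 1 := k_sq hc hu
  have hκ := fun g => cen hc hk g
  refine ⟨fun x => u x * κ, ⟨fun x => ?_, fun x => ?_, fun x hx y hy h => ?_⟩, ?_⟩
  · rw [map_mul, hu.map, hk, mul_one]
  · calc u x * κ * (u x * κ) = u x * (κ * u x) * κ := by group
      _ = u x * u x * (κ * κ) := by rw [← hκ]; group
      _ = 1 := by rw [hu.sq, hk2, one_mul]
  · rw [show u x * κ * (u y * κ) = u x * u y by
      calc u x * κ * (u y * κ) = u x * (κ * u y) * κ := by group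
        _ = u x * u y * (κ * κ) := by rw [← hκ]; group
        _ = _ := by rw [hk2, mul_one]]
    exact hu.braid x hx y hy h
  · rw [val_twist hu hκ, ← hκdef,
      show ((List.replicate 9 cw).flatten).length = 2 * 31 + 1 by decide +kernel, pow_sq_one hu hk2, hk2]

/-! ### The spider -/

/-- The spider word. -/
abbrev sw : List Nat := (List.replicate 10 [3, 2, 1, 3, 4, 5, 3, 8, 9]).flatten

section

variable {P : Type} [Group P] {π : P →* P23.Grp} (hc : π.ker ≤ Subgroup.center P)
  {u : Nat → P} (hu : Lifts π u)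
include hc hu

/-- The relator words of the Coxeter graph. -/
abbrev coxWords : List (List Nat) :=
  (List.range 10).flatMap fun i => (List.range (10 - i)).map fun d => P23.pairWord i (i + d)

omit hc hu in
theorem pow_mem_of_cert {C : Cert} {σ : List Nat} {w : List Nat} {n : Nat}
    (hfix : ∀ {G X : Type} [Group G] [MulAction G X] (g : Nat → G) (base : X),
      Ctx g base C → act g w base = base)
    (hw : w.map (ren σ) = (List.replicate n sw).flatten)
    (hg : C.rels.all (fun r => coxWords.contains (r.map (ren σ)) ||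
      (r.map (ren σ) == sw ++ [ren σ (r.getD (r.length - 1) 0)] ++ sw.reverse ++
        [ren σ (r.getD (r.length - 1) 0)])) = true)
    {τ : List Nat} (hs : C.sgens.map (List.map (ren σ)) = τ.map fun i => [i])
    {P : Type} [Group P] {π : P →* P23.Grp} (hc : π.ker ≤ Subgroup.center P) {u : Nat → P}
    (hu : Lifts π u) : (val u sw) ^ n ∈ span u τ := by
  let g : Nat → P := fun x => u (ren σ x)
  have hv : ∀ r : List Nat, val g r = val u (r.map (ren σ)) := fun r => by
    unfold val; rw [List.map_map]; rfl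
  have hzker : π (val u sw) = 1 := by rw [map_val hu]; exact val_relWords good (by decide +kernel)
  have hsg : ∀ r ∈ C.sgens, val g r ∈ span u τ := by
    intro r hr
    have h1 : r.map (ren σ) ∈ τ.map fun i => [i] := hs ▸ List.mem_map_of_mem hr
    obtain ⟨i, hi, hiw⟩ := List.mem_map.mp h1
    rw [hv, ← hiw, val_cons, val_nil, mul_one]
    exact Subgroup.subset_closure ⟨i, hi, rfl⟩
  have hrels : ∀ r ∈ C.rels, val g r = 1 := by
    intro r hr
    have := List.all_eq_true.mp hg r hr
    simp only [Bool.or_eq_true, List.contains_eq_mem, decide_eq_true_eq, beq_iff_eq] at this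
    rw [hv]
    rcases this with h | h
    · exact pair_one hc hu h
    · rw [h, val_append, val_append, val_append, val_reverse u hu.sq]
      simp only [val_cons, val_nil, mul_one]
      calc val u sw * u _ * (val u sw)⁻¹ * u _
          = u _ * val u sw * (val u sw)⁻¹ * u _ := by rw [← cen hc hzker]
        _ = 1 := by rw [mul_inv_cancel_right, hu.sq]
  have hctx : Ctx g ((1 : P) : P ⧸ span u τ) C := ctx_of g _ (fun x => hu.sq _) hrels hsg
  have h := hfix g ((1 : P) : P ⧸ span u τ) hctx
  rw [act_eq _ (fun x => hu.sq _)] at h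
  change (((val g w)⁻¹ * 1 : P) : P ⧸ span u τ) = _ at h
  rw [mul_one, eq_comm, QuotientGroup.eq, inv_one, one_mul, inv_mem_iff, hv, hw, val_replicate] at h
  exact h

omit hc in
theorem map_span (τ : List Nat) : (span u τ).map π = span P23.gg τ := by
  rw [span, MonoidHom.map_closure, span]
  congr 1
  ext y
  constructor
  · rintro ⟨_, ⟨i, hi, rfl⟩, rfl⟩; exact ⟨i, hi, hu.map i⟩
  · rintro ⟨i, hi, rfl⟩; exact ⟨u i, ⟨i, hi, rfl⟩, hu.map i⟩

omit hc in
theorem ker_bound {τ : List Nat} {n : Nat} (hK : Finite (span u τ) ∧ Nat.card (span u τ) ≤ n)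
    {z : P} (hz : z ∈ span u τ) (hzk : π z = 1) :
    orderOf z * Nat.card (span P23.gg τ) ≤ n := by
  haveI := hK.1
  let f : span u τ →* P23.Grp := π.comp (span u τ).subtype
  have hrange : f.range = span P23.gg τ := by
    rw [MonoidHom.range_comp, Subgroup.range_subtype, map_span hu]
  refine le_trans ?_ hK.2
  rw [← Subgroup.card_mul_index f.ker, Subgroup.index_ker, hrange]
  refine Nat.mul_le_mul_right _ ?_
  rw [show orderOf z = orderOf (⟨⟨z, hz⟩, hzk⟩ : f.ker) by
    rw [← Subgroup.orderOf_coe, ← Subgroup.orderOf_coe]]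
  exact Nat.le_of_dvd Nat.card_pos (orderOf_dvd_natCard _)

theorem cert_rels {C : Cert} {σ : List Nat}
    (h : (C.rels.all fun w => coxWords.contains (w.map (ren σ))) = true) :
    ∀ w ∈ C.rels, val u (w.map (ren σ)) = 1 := by
  intro w hw
  have := List.all_eq_true.mp h w hw
  simp only [List.contains_eq_mem, decide_eq_true_eq] at this
  exact pair_one hc hu this

omit hc hu in
theorem sgens_of {C : Cert} {σ τ : List Nat}
    (h : C.sgens.map (List.map (ren σ)) = τ.map fun i => [i]) :
    ∀ w ∈ C.sgens, val u (w.map (ren σ)) ∈ span u τ := by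
  intro w hw
  have h1 : w.map (ren σ) ∈ τ.map fun i => [i] := h ▸ List.mem_map_of_mem hw
  obtain ⟨i, hi, hiw⟩ := List.mem_map.mp h1
  rw [← hiw, val_cons, val_nil, mul_one]
  exact Subgroup.subset_closure ⟨i, hi, rfl⟩

theorem bound6 : Finite (span u [1, 2, 3, 4, 5, 8]) ∧ Nat.card (span u [1, 2, 3, 4, 5, 8]) ≤ 51840 := by
  have h4 := span_card_le u hu.sq CosetCertFi23M4.closed (σ := [1, 2, 3, 4]) (by decide +kernel) (by simp)
    (cert_rels hc hu (by decide +kernel)) (τ := []) (by decide +kernel) (sgens_of (by decide +kernel))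
    (span_nil_card _)
  have h3 := span_card_le u hu.sq CosetCertFi23M3.closed (σ := [1, 2, 3, 4, 8]) (by decide +kernel) (by simp)
    (cert_rels hc hu (by decide +kernel)) (τ := [1, 2, 3, 4]) (by decide +kernel) (sgens_of (by decide +kernel)) h4
  have h2 := span_card_le u hu.sq CosetCertFi23M2.closed (σ := [1, 2, 3, 4, 5, 8]) (by decide +kernel) (by simp)
    (cert_rels hc hu (by decide +kernel)) (τ := [1, 2, 3, 4, 8]) (by decide +kernel) (sgens_of (by decide +kernel)) h3
  exact ⟨h2.1, h2.2.trans_eq (by decide +kernel)⟩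

theorem bound8 : Finite (span u [1, 2, 3, 4, 5, 6, 7, 8]) ∧
    Nat.card (span u [1, 2, 3, 4, 5, 6, 7, 8]) ≤ 696729600 := by
  have h1 := span_card_le u hu.sq CosetCertFi23M1.closed (σ := [1, 2, 3, 4, 5, 6, 8]) (by decide +kernel) (by simp)
    (cert_rels hc hu (by decide +kernel)) (τ := [1, 2, 3, 4, 5, 8]) (by decide +kernel) (sgens_of (by decide +kernel))
    (bound6 hc hu)
  have h0 := span_card_le u hu.sq CosetCertFi23M0.closed (σ := [1, 2, 3, 4, 5, 6, 7, 8]) (by decide +kernel) (by simp)
    (cert_rels hc hu (by decide +kernel)) (τ := [1, 2, 3, 4, 5, 6, 8]) (by decide +kernel) (sgens_of (by decide +kernel)) h1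
  exact ⟨h0.1, h0.2.trans_eq (by decide +kernel)⟩

theorem spider_one : val u sw = 1 := by
  have hzk : π (val u sw) = 1 := by rw [map_val hu]; exact val_relWords good (by decide +kernel)
  have h3 := pow_mem_of_cert (n := 3) (σ := [1, 2, 3, 4, 5, 8, 9]) CosetCertFi23MA.word_fixes
    (by decide +kernel) (by decide +kernel) (τ := [1, 2, 3, 4, 5, 8]) (by decide +kernel) hc hu
  have h8 := pow_mem_of_cert (n := 1) (σ := [1, 2, 3, 4, 5, 6, 7, 8, 9]) CosetCertFi23MB.word_fixes
    (by decide +kernel) (by decide +kernel) (τ := [1, 2, 3, 4, 5, 6, 7, 8]) (by decide +kernel) hc hu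
  rw [pow_one] at h8
  have hb3 := ker_bound hu (bound6 hc hu) h3 (by rw [map_pow, hzk, one_pow])
  have hcube : val u sw ^ 3 = 1 := by
    rw [← orderOf_eq_one_iff]
    have := (bound6 hc hu).1
    have hpos : 0 < orderOf (val u sw ^ 3) := by
      exact (orderOf_pos (⟨_, h3⟩ : span u [1, 2, 3, 4, 5, 8])).trans_eq (Subgroup.orderOf_coe _).symm
    have h51 := lowerW6
    nlinarith
  have hd : orderOf (val u sw) ∣ 3 := orderOf_dvd_of_pow_eq_one hcube
  rcases (Nat.prime_three.eq_one_or_self_of_dvd _ hd) with h | h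
  · exact orderOf_eq_one_iff.mp h
  · have hb8 := ker_bound hu (bound8 hc hu) h8 hzk
    rw [h] at hb8
    have := lowerW8
    omega

theorem relWords_one (hk : val u (List.replicate 9 cw).flatten = 1) :
    ∀ w ∈ P23.relWords, val u w = 1 := by
  intro w hw
  have := (show ∀ w ∈ P23.relWords, w ∈ coxWords ∨ w = sw ∨ w = (List.replicate 9 cw).flatten
    from by decide +kernel) w hw
  rcases this with h | rfl | rfl
  exacts [pair_one hc hu h, spider_one hc hu, hk]

end

/-- Every such extension has a section. -/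
theorem exists_section (P : Type) [Group P] (π : P →* P23.Grp) (hs : Function.Surjective π)
    (hc : π.ker ≤ Subgroup.center P) (hr : ∀ z ∈ π.ker, ∃ w ∈ π.ker, w * w = z) :
    ∃ φ : P23.Grp →* P, ∀ k, π (φ k) = k := by
  obtain ⟨u, hu, hk⟩ := exists_exact hs hc hr
  let φ : P23.Grp →* P := PresentedGroup.toGroup
    (CosetCertRestrict.lift_rels good (by decide +kernel) u hu.sq (relWords_one hc hu hk) (by decide +kernel))
  refine ⟨φ, fun k => DFunLike.congr_fun (f := π.comp φ) (g := MonoidHom.id _) ?_ k⟩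
  refine PresentedGroup.ext fun a => ?_
  show π (φ (PresentedGroup.of a)) = PresentedGroup.of a
  rw [show φ (PresentedGroup.of a) = u (P23.gens.idxOf a) from PresentedGroup.toGroup.of _, hu.map,
    Pres.gg, gen_idxOf good]

/-- The multiplier of the presented Fi23 is trivial. -/
theorem multiplier : Cfsg.HasCyclicSchurMultiplier P23.Grp 1 := by
  haveI := CosetCertFi23Simple.upper.1
  exact MultiplierDivisible41.trivial_of_sections exists_section

end Cfsg.Agent.MultiplierFi23x41
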