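import Cfsg.Agent.Lib.Fi24Hom64
import Cfsg.Agent.Lib.MultiplierFi23x41
import Cfsg.Agent.Lib.SchurMultiplierBasic

/-!
Lifts of the generators to a central stem cover of the derived group of Fi24.

Any such cover splits over the image of Fi23, and a lift `u` of `k l` can be normalised to have order 3
and to be inverted by the lifts of b, ..., i.
-/

set_option autoImplicit false
set_option maxRecDepth 100000
set_option linter.style.haveILetI false

namespace Cfsg.Agent.Fi24Lifts14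

open Cfsg.Agent.CosetCertCore Cfsg.Agent.CosetCertTable Cfsg.Agent.CosetCertPres Cfsg.Agent.CosetCertOrder
open Cfsg.Agent.Fi24Core64 Cfsg.Agent.Fi24Hom64
open scoped commutatorElement

theorem perfect23 (hsp : val gg spiderWord = 1) : commutator P23.Grp = ⊤ := by
  haveI := CosetCertFi23Simple.simple
  refine (Subgroup.Normal.eq_bot_or_eq_top inferInstance).resolve_left fun h => ?_
  rw [commutator_eq_bot_iff_center_eq_top, center23 hsp] at h
  exact bot_ne_top h

theorem psi_comm (hsp : val gg spiderWord = 1) (p : P23.Grp) :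
    psi hsp p ∈ commutator G24 := by
  have h : (commutator P23.Grp).map (psi hsp) ≤ commutator G24 := by
    rw [commutator_def, commutator_def, Subgroup.map_commutator]
    exact Subgroup.commutator_mono le_top le_top
  exact h (Subgroup.mem_map_of_mem _ (perfect23 hsp ▸ Subgroup.mem_top p))

theorem kl_cube : (gg 1 * gg 0) ^ 3 = 1 := by
  have h := rel_one good (P24.gen 1) (P24.gen 0)
  rwa [(show Cfsg.Spor.coxLabel P24.edges (P24.gen 1) (P24.gen 0) = 3 by decide +kernel)] at h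

theorem ak_cube : (gg 2 * gg 1) ^ 3 = 1 := by
  have h := rel_one good (P24.gen 2) (P24.gen 1)
  rwa [(show Cfsg.Spor.coxLabel P24.edges (P24.gen 2) (P24.gen 1) = 3 by decide +kernel)] at h

theorem xk_sq (x : Nat) (h1 : 1 ≤ x) (hx : x < 10) : (gg (x + 2) * gg 1) ^ 2 = 1 := by
  have h := rel_one good (P24.gen (x + 2)) (P24.gen 1)
  have he : ∀ i < 10, 1 ≤ i → Cfsg.Spor.coxLabel P24.edges (P24.gen (i + 2)) (P24.gen 1) = 2 := by
    decide +kernel
  rwa [he x hx h1] at h

theorem kl_comm : gg 1 * gg 0 ∈ commutator G24 := by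
  have h1 : ⁅gg 1, gg 0⁆ = (gg 1 * gg 0) ^ 2 := by
    rw [commutatorElement_def, inv_of_sq _ invol, inv_of_sq _ invol, pow_two, mul_assoc (gg 1 * gg 0)]
  have h2 : gg 1 * gg 0 = ((gg 1 * gg 0) ^ 2) ^ 2 := by
    rw [← pow_mul, show 2 * 2 = 3 + 1 from rfl, pow_succ, kl_cube, one_mul]
  rw [h2, ← h1]
  exact pow_mem (Subgroup.commutator_mem_commutator (Subgroup.mem_top _) (Subgroup.mem_top _)) 2

/-- A central extension of Fi24' splits over Fi23. -/
theorem exists_section {Γ : Type} [Group Γ] [Finite Γ] (σ : Γ →* G24) (hr : σ.range = commutator G24)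
    (hc : σ.ker ≤ Subgroup.center Γ) (hsp : val gg spiderWord = 1) (ha : gg 2 ≠ gg 0) :
    ∃ s : P23.Grp →* Γ, ∀ p, σ (s p) = psi hsp p := by
  let X : Subgroup Γ := (psi hsp).range.comap σ
  let e := MonoidHom.ofInjective (psi_injective hsp ha)
  let π : ↥X →* P23.Grp :=
    e.symm.toMonoidHom.comp ((σ.comp X.subtype).codRestrict (psi hsp).range fun x => x.2)
  have hπ : ∀ x : ↥X, psi hsp (π x) = σ x := fun x => by
    show psi hsp (e.symm _) = _
    rw [← MonoidHom.ofInjective_apply (psi_injective hsp ha)]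
    show (e (e.symm _) : G24) = _
    rw [e.apply_symm_apply]
    rfl
  have hs : Function.Surjective π := fun p => by
    obtain ⟨g, hg⟩ : psi hsp p ∈ σ.range := hr ▸ psi_comm hsp p
    refine ⟨⟨g, ⟨p, hg.symm⟩⟩, psi_injective hsp ha ?_⟩
    rw [hπ]
    exact hg
  have hcen : ∀ x : ↥X, π x = 1 → x ∈ Subgroup.center ↥X := fun x hx => by
    have h1 : σ x = 1 := by rw [← hπ, hx, map_one]
    rw [Subgroup.mem_center_iff]
    intro y
    exact Subtype.ext (Subgroup.mem_center_iff.mp (hc h1) y)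
  let D : Subgroup ↥X := commutator ↥X
  let π' : ↥D →* P23.Grp := π.comp D.subtype
  have hDmap : D.map π = ⊤ := by
    show (commutator ↥X).map π = ⊤
    rw [commutator_def, Subgroup.map_commutator, Subgroup.map_top_of_surjective _ hs, ← commutator_def]
    exact perfect23 hsp
  have hs' : Function.Surjective π' := fun p => by
    obtain ⟨d, hd, hdp⟩ : p ∈ D.map π := hDmap ▸ Subgroup.mem_top p
    exact ⟨⟨d, hd⟩, hdp⟩
  have hperf : commutator ↥D = ⊤ := by
    let E : Subgroup ↥X := (commutator ↥D).map D.subtype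
    have hE : E.map π = ⊤ := by
      show ((commutator ↥D).map D.subtype).map π = ⊤
      rw [Subgroup.map_map, commutator_def, Subgroup.map_commutator,
        Subgroup.map_top_of_surjective (π.comp D.subtype) hs', ← commutator_def]
      exact perfect23 hsp
    have hsup : E ⊔ π.ker = ⊤ := by rw [← Subgroup.comap_map_eq, hE, Subgroup.comap_top]
    have hle : D ≤ E :=
      SchurMultiplierBasic.commutator_le_of_sup_center E π.ker (fun x hx => hcen x hx) hsup
    rw [eq_top_iff]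
    intro d _
    obtain ⟨d', hd', he⟩ := hle d.2
    rwa [← Subtype.ext he]
  have hstem : Cfsg.IsStemExtension π' := by
    refine ⟨hs', fun d hd => ?_, by rw [hperf]; exact le_top⟩
    rw [Subgroup.mem_center_iff]
    intro d'
    exact Subtype.ext (Subgroup.mem_center_iff.mp (hcen d hd) d')
  have hker := SchurMultiplierBasic.ker_eq_bot_of_hasCyclicSchurMultiplier_one
    MultiplierFi23x41.multiplier ↥D π' hstem
  let e' : ↥D ≃* P23.Grp := MulEquiv.ofBijective π' ⟨(MonoidHom.ker_eq_bot_iff π').mp hker, hs'⟩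
  refine ⟨(X.subtype.comp D.subtype).comp e'.symm.toMonoidHom, fun p => ?_⟩
  show σ ((e'.symm p : ↥X) : Γ) = _
  rw [← hπ]
  exact congrArg _ (e'.apply_symm_apply p)

/-- The pairs of adjacent generators of Fi23 other than the first, each with a generator commuting with both. -/
def chain : List (Nat × Nat × Nat) :=
  [(1, 2, 4), (2, 3, 5), (3, 4, 1), (4, 5, 1), (5, 6, 1), (6, 7, 1), (3, 8, 1), (8, 9, 1)]

theorem conj_pow_invol {G : Type*} [Group G] {s : G} (hs : s * s = 1) (u : G) (n : Nat) :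
    (s * u * s) ^ n = s * u ^ n * s := by
  have h : s⁻¹ = s := inv_eq_of_mul_eq_one_right hs
  have := conj_pow (i := n) (a := s) (b := u)
  rwa [h] at this

theorem conj_iterate {G : Type*} [Group G] {t u c : G} (hc : ∀ g, g * c = c * g)
    (h : t * u = c * u * t) (n : Nat) : t ^ n * u = c ^ n * u * t ^ n := by
  induction n with
  | zero => simp
  | succ n ih =>
    calc t ^ (n + 1) * u = t ^ n * (t * u) := by rw [pow_succ, mul_assoc]
      _ = t ^ n * c * u * t := by rw [h]; group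
      _ = c * (t ^ n * u) * t := by rw [hc]; group
      _ = c * (c ^ n * u * t ^ n) * t := by rw [ih]
      _ = c ^ (n + 1) * u * t ^ (n + 1) := by rw [pow_succ', pow_succ]; group

variable {Γ : Type} [Group Γ]

/-- The lift of `k l` can be normalised. -/
theorem normalise (σ : Γ →* G24) (hc : σ.ker ≤ Subgroup.center Γ) (hsp : val gg spiderWord = 1)
    (s : P23.Grp →* Γ) (hs : ∀ p, σ (s p) = psi hsp p) (u0 : Γ) (hu0 : σ u0 = gg 1 * gg 0) :
    ∃ u : Γ, σ u = gg 1 * gg 0 ∧ u ^ 3 = 1 ∧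
      (∀ x, 1 ≤ x → x < 10 → (s (P23.gg x) * u⁻¹) ^ 2 = 1) := by
  have cen : ∀ z, σ z = 1 → ∀ g, g * z = z * g := fun z hz g => Subgroup.mem_center_iff.mp (hc hz) g
  let S : Nat → Γ := fun x => s (P23.gg x)
  have hS : ∀ x, S x * S x = 1 := fun x => by
    show s _ * s _ = 1
    rw [← map_mul, gg_sq CosetCertFi23Simple.good, map_one]
  let m : Nat → Γ := fun x => (S x * u0⁻¹) ^ 2
  have hm : ∀ x, 1 ≤ x → x < 10 → ∀ g, g * m x = m x * g := fun x h1 hx => cen _ (by
    show σ ((S x * u0⁻¹) ^ 2) = 1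
    rw [map_pow, map_mul, map_inv, hu0]
    show (σ (s _) * _) ^ 2 = 1
    rw [hs, psi_gg hsp x hx, mul_inv_rev, inv_of_sq _ invol, inv_of_sq _ invol,
      mul_assoc, ← mul_assoc (gg 0), invol, one_mul]
    exact xk_sq x h1 hx)
  have hA : ∀ x, S x * u0⁻¹ * S x = m x * u0 := fun x => by
    show _ = (S x * u0⁻¹) ^ 2 * u0
    rw [pow_two]
    group
  have hB : ∀ x, 1 ≤ x → x < 10 → S x * u0 * S x = (m x)⁻¹ * u0⁻¹ := fun x h1 hx => by
    have h := congrArg (·⁻¹) (hA x)
    simp only [mul_inv_rev, inv_inv] at h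
    rw [inv_eq_of_mul_eq_one_right (hS x), ← mul_assoc] at h
    rw [h, (Commute.inv_right (show Commute u0⁻¹ (m x) from hm x h1 hx _)).eq]
  have hratio : ∀ x y, 1 ≤ x → x < 10 → 1 ≤ y → y < 10 → ∀ n : Nat,
      (P23.gg x * P23.gg y) ^ n = 1 → ((m y)⁻¹ * m x) ^ n = 1 := by
    intro x y x1 x10 y1 y10 n hn
    have hcyi : Commute (S x) (m y)⁻¹ := Commute.inv_right (show Commute (S x) (m y) from hm y y1 y10 _)
    have hcc : ∀ g, g * ((m y)⁻¹ * m x) = (m y)⁻¹ * m x * g := fun g =>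
      ((Commute.inv_right (show Commute g (m y) from hm y y1 y10 g)).mul_right
        (show Commute g (m x) from hm x x1 x10 g)).eq
    have h1 : S x * (S y * u0 * S y) * S x = (m y)⁻¹ * m x * u0 := by
      rw [hB y y1 y10, ← mul_assoc (S x), hcyi.eq, mul_assoc ((m y)⁻¹), mul_assoc ((m y)⁻¹), hA x,
        ← mul_assoc]
    have h2 : S x * S y * u0 = (m y)⁻¹ * m x * u0 * (S x * S y) := by
      rw [← h1]
      calc S x * S y * u0 = S x * S y * u0 * (S y * S y) := by rw [hS, mul_one]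
        _ = S x * (S y * u0 * S y) * (S x * S x) * S y := by rw [hS x, mul_one]; group
        _ = _ := by group
    have h3 := conj_iterate hcc h2 n
    have ht : (S x * S y) ^ n = 1 := by
      show (s _ * s _) ^ n = 1
      rw [← map_mul, ← map_pow, hn, map_one]
    rw [ht, one_mul, mul_one] at h3
    exact mul_eq_right.mp h3.symm
  have hlab : ∀ p ∈ chain, (1 ≤ p.1 ∧ p.1 < 10) ∧ (1 ≤ p.2.1 ∧ p.2.1 < 10) ∧ (1 ≤ p.2.2 ∧ p.2.2 < 10) ∧
      Cfsg.Spor.coxLabel P23.edges (P23.gen p.1) (P23.gen p.2.1) = 3 ∧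
      Cfsg.Spor.coxLabel P23.edges (P23.gen p.1) (P23.gen p.2.2) = 2 ∧
      Cfsg.Spor.coxLabel P23.edges (P23.gen p.2.2) (P23.gen p.2.1) = 2 := by decide +kernel
  have hstep : ∀ p ∈ chain, m p.2.1 = m p.1 := by
    rintro ⟨x, y, z⟩ hp
    obtain ⟨hx, hy, hz, l3, l2, l2'⟩ := hlab _ hp
    have r3 := rel_one CosetCertFi23Simple.good (P23.gen x) (P23.gen y)
    have r2 := rel_one CosetCertFi23Simple.good (P23.gen x) (P23.gen z)
    have r2' := rel_one CosetCertFi23Simple.good (P23.gen z) (P23.gen y)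
    rw [l3] at r3
    rw [l2] at r2
    rw [l2'] at r2'
    have c3 := hratio x y hx.1 hx.2 hy.1 hy.2 3 r3
    have c2 := hratio x z hx.1 hx.2 hz.1 hz.2 2 r2
    have c2' := hratio z y hz.1 hz.2 hy.1 hy.2 2 r2'
    have hcc : Commute ((m y)⁻¹ * m z) ((m z)⁻¹ * m x) :=
      ((Commute.inv_right (show Commute _ (m z) from hm z hz.1 hz.2 _)).mul_right
        (show Commute _ (m x) from hm x hx.1 hx.2 _))
    have c22 : ((m y)⁻¹ * m x) ^ 2 = 1 := by
      rw [show (m y)⁻¹ * m x = (m y)⁻¹ * m z * ((m z)⁻¹ * m x) by group, hcc.mul_pow, c2', c2, one_mul]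
    have h1 : (m y)⁻¹ * m x = 1 := by
      rw [pow_succ, c22, one_mul] at c3
      exact c3
    exact inv_mul_eq_one.mp h1
  have hconst : ∀ x, 1 ≤ x → x < 10 → m x = m 1 := by
    have e2 : m 2 = m 1 := hstep (1, 2, 4) (by decide)
    have e3 : m 3 = m 1 := (hstep (2, 3, 5) (by decide)).trans e2
    have e4 : m 4 = m 1 := (hstep (3, 4, 1) (by decide)).trans e3
    have e5 : m 5 = m 1 := (hstep (4, 5, 1) (by decide)).trans e4
    have e6 : m 6 = m 1 := (hstep (5, 6, 1) (by decide)).trans e5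
    have e7 : m 7 = m 1 := (hstep (6, 7, 1) (by decide)).trans e6
    have e8 : m 8 = m 1 := (hstep (3, 8, 1) (by decide)).trans e3
    have e9 : m 9 = m 1 := (hstep (8, 9, 1) (by decide)).trans e8
    intro x h1 hx
    interval_cases x <;> first | assumption | rfl
  have hmu1 : σ (u0 ^ 3) = 1 := by rw [map_pow, hu0, kl_cube]
  have hmu : ∀ g, g * u0 ^ 3 = u0 ^ 3 * g := cen _ hmu1
  have hm1 := hm 1 le_rfl (by omega)
  have hsm1 : σ (m 1) = 1 := by
    show σ ((S 1 * u0⁻¹) ^ 2) = 1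
    rw [map_pow, map_mul, map_inv, hu0]
    show (σ (s _) * _) ^ 2 = 1
    rw [hs, psi_gg hsp 1 (by omega), mul_inv_rev, inv_of_sq _ invol, inv_of_sq _ invol,
      mul_assoc, ← mul_assoc (gg 0), invol, one_mul]
    exact xk_sq 1 le_rfl (by omega)
  have hrel : (u0 ^ 3) ^ 2 = (m 1 ^ 3)⁻¹ := by
    have h : (S 1 * u0 * S 1) ^ 3 = ((m 1)⁻¹ * u0⁻¹) ^ 3 := by rw [hB 1 le_rfl (by omega)]
    rw [conj_pow_invol (hS 1), hmu, mul_assoc, hS, mul_one,
      (Commute.inv_left (show Commute (m 1) u0⁻¹ from (hm1 _).symm)).mul_pow, inv_pow, inv_pow] at h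
    calc (u0 ^ 3) ^ 2 = u0 ^ 3 * u0 ^ 3 := pow_two _
      _ = (m 1 ^ 3)⁻¹ * (u0 ^ 3)⁻¹ * u0 ^ 3 := by rw [← h]
      _ = _ := inv_mul_cancel_right _ _
  obtain ⟨c, hcdef⟩ : ∃ c, c = (u0 ^ 3)⁻¹ * (m 1)⁻¹ := ⟨_, rfl⟩
  have hcm : Commute (u0 ^ 3)⁻¹ (m 1)⁻¹ :=
    Commute.inv_inv (show Commute (u0 ^ 3) (m 1) from hm1 _)
  have hc2 : c ^ 2 = m 1 := by
    rw [hcdef, hcm.mul_pow, inv_pow, hrel, inv_inv, inv_pow]
    group
  have hc3 : c ^ 3 = (u0 ^ 3)⁻¹ := by
    rw [hcdef, hcm.mul_pow, inv_pow (m 1), ← hrel]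
    group
  have hσc : σ c = 1 := by rw [hcdef, map_mul, map_inv, map_inv, hsm1, hmu1, inv_one, one_mul]
  have hccen := cen c hσc
  refine ⟨u0 * c, by rw [map_mul, hu0, hσc, mul_one], ?_, fun x h1 hx => ?_⟩
  · rw [(show Commute u0 c from hccen u0).mul_pow, hc3, mul_inv_cancel]
  · show (S x * (u0 * c)⁻¹) ^ 2 = 1
    rw [mul_inv_rev, (Commute.inv_inv (show Commute c u0 from (hccen u0).symm)).eq, ← mul_assoc,
      (Commute.inv_right (show Commute (S x * u0⁻¹) c from hccen _)).mul_pow, inv_pow, hc2]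
    show m x * (m 1)⁻¹ = 1
    rw [hconst x h1 hx, mul_inv_cancel]

/-- The image of Fi23 together with `k l` generates the derived group. -/
theorem commutator_le (hsp : val gg spiderWord = 1) :
    commutator G24 ≤ Subgroup.closure
      ({y | ∃ x < 10, y = psi hsp (P23.gg x)} ∪ {gg 1 * gg 0}) := by
  set K : Subgroup G24 := Subgroup.closure
    ({y | ∃ x < 10, y = psi hsp (P23.gg x)} ∪ {gg 1 * gg 0}) with hK
  have hg : gg 1 * gg 0 ∈ K := Subgroup.subset_closure (Or.inr rfl)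
  have hx : ∀ x < 10, gg (x + 2) * gg 0 ∈ K := fun x hx =>
    Subgroup.subset_closure (Or.inl ⟨x, hx, (psi_gg hsp x hx).symm⟩)
  have hl : ∀ k ∈ K, gg 0 * k * gg 0 ∈ K := by
    intro k hk
    induction hk using Subgroup.closure_induction with
    | mem y hy =>
      rcases hy with ⟨x, hx', rfl⟩ | rfl
      · rw [← l_central _ (psi_mem hsp _), mul_assoc, invol, mul_one]
        exact Subgroup.subset_closure (Or.inl ⟨x, hx', rfl⟩)
      · rw [← mul_assoc, mul_assoc, invol, mul_one]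
        have := inv_mem hg
        rwa [mul_inv_rev, inv_of_sq _ invol, inv_of_sq _ invol] at this
    | one => rw [mul_one, invol]; exact one_mem _
    | mul a b _ _ ha hb =>
      have : gg 0 * (a * b) * gg 0 = gg 0 * a * gg 0 * (gg 0 * b * gg 0) := by
        calc gg 0 * (a * b) * gg 0 = gg 0 * a * 1 * b * gg 0 := by group
          _ = _ := by rw [← invol 0]; group
      rw [this]; exact mul_mem ha hb
    | inv a _ ha =>
      have := inv_mem ha
      rwa [mul_inv_rev, mul_inv_rev, inv_of_sq _ invol, ← mul_assoc] at this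
  let W : Subgroup G24 :=
    { carrier := {g | g ∈ K ∨ g * gg 0 ∈ K}
      one_mem' := Or.inl (one_mem _)
      mul_mem' := by
        rintro a b (ha | ha) (hb | hb)
        · exact Or.inl (mul_mem ha hb)
        · exact Or.inr (by rw [mul_assoc]; exact mul_mem ha hb)
        · refine Or.inr ?_
          have h := mul_mem ha (hl b hb)
          convert h using 1
          calc a * b * gg 0 = a * 1 * b * gg 0 := by group
            _ = a * gg 0 * (gg 0 * b * gg 0) := by rw [← invol 0]; group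
        · refine Or.inl ?_
          have h := mul_mem ha (hl _ hb)
          convert h using 1
          calc a * b = a * 1 * b * 1 := by group
            _ = a * gg 0 * (gg 0 * (b * gg 0) * gg 0) := by rw [← invol 0]; group
      inv_mem' := by
        rintro a (ha | ha)
        · exact Or.inl (inv_mem ha)
        · refine Or.inr ?_
          have h := hl _ (inv_mem ha)
          rw [mul_inv_rev, inv_of_sq _ invol, ← mul_assoc, invol, one_mul] at h
          exact h }
  have hW : ∀ g, g ∈ K ∨ g * gg 0 ∈ K := by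
    intro g
    have h : Subgroup.closure {y | ∃ x, x < P24.gens.length ∧ y = P24.gg x} ≤ W := by
      rw [Subgroup.closure_le]
      rintro y ⟨x, hx12, rfl⟩
      have hx12' : x < 12 := hx12
      rcases Nat.lt_or_ge x 2 with h2 | h2
      · interval_cases x
        · exact Or.inr (by show gg 0 * gg 0 ∈ K; rw [invol]; exact one_mem _)
        · exact Or.inr hg
      · obtain ⟨z, rfl⟩ : ∃ z, x = z + 2 := ⟨x - 2, by omega⟩
        exact Or.inr (hx z (by omega))
    rw [closure_gg good] at h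
    exact h (Subgroup.mem_top g)
  rw [commutator_def, Subgroup.commutator_le]
  intro a _ b _
  have hconj : ∀ g, ∀ k ∈ K, g * k * g⁻¹ ∈ K := by
    intro g k hk
    rcases hW g with h | h
    · exact mul_mem (mul_mem h hk) (inv_mem h)
    · have h' := mul_mem (mul_mem h (hl k hk)) (inv_mem h)
      convert h' using 1
      calc g * k * g⁻¹ = g * 1 * k * 1 * g⁻¹ := by group
        _ = g * (gg 0 * gg 0) * k * (gg 0 * (gg 0)⁻¹) * g⁻¹ := by rw [invol, mul_inv_cancel]
        _ = _ := by group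
  haveI hn : K.Normal := ⟨fun k hk g => hconj g k hk⟩
  have hq : ∀ g : G24, (g : G24 ⧸ K) = 1 ∨ (g : G24 ⧸ K) = ((gg 0 : G24) : G24 ⧸ K) := by
    intro g
    rcases hW g with h | h
    · exact Or.inl ((QuotientGroup.eq_one_iff g).mpr h)
    · right
      have h' := (QuotientGroup.eq_one_iff _).mpr h
      rw [QuotientGroup.mk_mul] at h'
      rw [eq_inv_of_mul_eq_one_left h', ← QuotientGroup.mk_inv, inv_of_sq _ invol]
  rw [← QuotientGroup.eq_one_iff]
  show (QuotientGroup.mk' K) ⁅a, b⁆ = 1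
  rw [map_commutatorElement, commutatorElement_eq_one_iff_commute]
  show Commute (a : G24 ⧸ K) (b : G24 ⧸ K)
  rcases hq a with h | h <;> rcases hq b with h' | h' <;> rw [h, h']
  all_goals first | exact Commute.refl _ | exact Commute.one_left _ | exact Commute.one_right _

/-- The lifts. -/
theorem exists_lifts {Γ : Type} [Group Γ] [Finite Γ] (σ : Γ →* G24) (hr : σ.range = commutator G24)
    (hc : σ.ker ≤ Subgroup.center Γ) (hd : σ.ker ≤ commutator Γ) (hsp : val gg spiderWord = 1)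
    (ha : gg 2 ≠ gg 0) :
    ∃ (s : P23.Grp →* Γ) (u : Γ), (∀ p, σ (s p) = Fi24Hom64.psi hsp p) ∧ σ u = gg 1 * gg 0 ∧
      u ^ 3 = 1 ∧ (∀ x, 1 ≤ x → x < 10 → (s (P23.gg x) * u⁻¹) ^ 2 = 1) ∧
      ((s (P23.gg 0) * u⁻¹) ^ 3) * ((s (P23.gg 0) * u⁻¹) ^ 3) = 1 ∧
      (s (P23.gg 0) * u) ^ 3 = (s (P23.gg 0) * u⁻¹) ^ 3 ∧
      Subgroup.closure ({y | ∃ x < 10, y = s (P23.gg x)} ∪ {u}) = ⊤ := by
  obtain ⟨s, hs⟩ := exists_section σ hr hc hsp ha
  obtain ⟨u0, hu0⟩ : gg 1 * gg 0 ∈ σ.range := hr ▸ kl_comm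
  obtain ⟨u, hu, hu3, hu2⟩ := normalise σ hc hsp s hs u0 hu0
  have cen : ∀ z, σ z = 1 → ∀ g, g * z = z * g := fun z hz g => Subgroup.mem_center_iff.mp (hc hz) g
  have hsq : ∀ x, s (P23.gg x) * s (P23.gg x) = 1 := fun x => by
    rw [← map_mul, gg_sq CosetCertFi23Simple.good, map_one]
  have hma : ∀ g, g * (s (P23.gg 0) * u⁻¹) ^ 3 = (s (P23.gg 0) * u⁻¹) ^ 3 * g := cen _ (by
    rw [map_pow, map_mul, map_inv, hu, hs, psi_gg hsp 0 (by omega), mul_inv_rev, inv_of_sq _ invol,
      inv_of_sq _ invol, mul_assoc, ← mul_assoc (gg 0), invol, one_mul]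
    exact ak_cube)
  have h2 : s (P23.gg 2) * u⁻¹ * s (P23.gg 2) = u := by
    have h := hu2 2 (by omega) (by omega)
    rw [pow_two] at h
    calc s (P23.gg 2) * u⁻¹ * s (P23.gg 2)
        = s (P23.gg 2) * u⁻¹ * (s (P23.gg 2) * u⁻¹) * u := by group
      _ = u := by rw [h, one_mul]
  have h02 : s (P23.gg 2) * s (P23.gg 0) * s (P23.gg 2) = s (P23.gg 0) := by
    have r := rel_one CosetCertFi23Simple.good (P23.gen 2) (P23.gen 0)
    rw [(show Cfsg.Spor.coxLabel P23.edges (P23.gen 2) (P23.gen 0) = 2 by decide +kernel)] at r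
    have r' := congrArg s r
    rw [map_pow, map_one, map_mul, pow_two] at r'
    show s (P23.gg 2) * s (P23.gg 0) * s (P23.gg 2) = _
    calc s (P23.gg 2) * s (P23.gg 0) * s (P23.gg 2)
        = s (P23.gg 2) * s (P23.gg 0) * s (P23.gg 2) * (s (P23.gg 0) * s (P23.gg 0)) := by
          rw [hsq, mul_one]
      _ = s (P23.gg 2) * s (P23.gg 0) * (s (P23.gg 2) * s (P23.gg 0)) * s (P23.gg 0) := by group
      _ = _ := by
          show (s (P23.gg 2) * s (P23.gg 0)) * (s (P23.gg 2) * s (P23.gg 0)) * s (P23.gg 0) = _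
          rw [show s (P23.gg 2) * s (P23.gg 0) * (s (P23.gg 2) * s (P23.gg 0)) = 1 from r', one_mul]
  have hflip : (s (P23.gg 0) * u) ^ 3 = (s (P23.gg 0) * u⁻¹) ^ 3 := by
    have e : s (P23.gg 0) * u = s (P23.gg 2) * (s (P23.gg 0) * u⁻¹) * s (P23.gg 2) := by
      calc s (P23.gg 0) * u
          = s (P23.gg 2) * s (P23.gg 0) * s (P23.gg 2) * (s (P23.gg 2) * u⁻¹ * s (P23.gg 2)) := by
            rw [h02, h2]
        _ = s (P23.gg 2) * s (P23.gg 0) * (s (P23.gg 2) * s (P23.gg 2)) * u⁻¹ * s (P23.gg 2) := by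
            group
        _ = _ := by rw [hsq, mul_one]; group
    rw [e, conj_pow_invol (hsq 2), hma, mul_assoc, hsq, mul_one]
  refine ⟨s, u, hs, hu, hu3, hu2, ?_, hflip, ?_⟩
  · have e : s (P23.gg 0) * u =
        s (P23.gg 0) * (s (P23.gg 0) * u⁻¹)⁻¹ * s (P23.gg 0) := by
      rw [mul_inv_rev, inv_inv, inv_eq_of_mul_eq_one_right (hsq 0), ← mul_assoc, mul_assoc _ _ (s (P23.gg 0)),
        hsq, mul_one]
    have h := hflip
    rw [e, conj_pow_invol (hsq 0), inv_pow,
      (Commute.inv_right (show Commute (s (P23.gg 0)) ((s (P23.gg 0) * u⁻¹) ^ 3) from hma _)).eq,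
      mul_assoc, hsq, mul_one] at h
    exact inv_eq_iff_mul_eq_one.mp h
  · set L : Subgroup Γ := Subgroup.closure ({y | ∃ x < 10, y = s (P23.gg x)} ∪ {u}) with hL
    have hmap : L.map σ = σ.range := by
      refine le_antisymm ?_ ?_
      · rintro _ ⟨g, -, rfl⟩
        exact ⟨g, rfl⟩
      · rw [hr]
        refine (commutator_le hsp).trans ?_
        rw [Subgroup.closure_le]
        rintro y (⟨x, hx, rfl⟩ | rfl)
        · exact ⟨s (P23.gg x), Subgroup.subset_closure (Or.inl ⟨x, hx, rfl⟩), hs _⟩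
        · exact ⟨u, Subgroup.subset_closure (Or.inr rfl), hu⟩
    have h1 : L ⊔ σ.ker = ⊤ := by
      rw [← Subgroup.comap_map_eq, hmap, eq_top_iff]
      exact fun g _ => ⟨g, rfl⟩
    have h2 : σ.ker ≤ L :=
      hd.trans (SchurMultiplierBasic.commutator_le_of_sup_center L _ hc h1)
    rwa [sup_eq_left.2 h2] at h1

end Cfsg.Agent.Fi24Lifts14
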