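import Cfsg.Agent.Lib.Fi24Core64
import Cfsg.Agent.Lib.Fi24Mu54Data

/-!
In Y542 without j and i, with the relation between k and a weakened to `(k a)^3 M = 1` for an extra
involution M that commutes with everything, M lies in the subgroup on the other generators.
-/

set_option autoImplicit false
set_option maxRecDepth 100000

namespace Cfsg.Agent.Fi24Mu54

open Cfsg.Agent.CosetCertCore Cfsg.Agent.CosetCertPres Cfsg.Agent.CosetCertOrder Cfsg.Agent.Fi24Core64

/-- The letters l, k, a, b, c, d, e, f, g, h. -/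
abbrev base10 : List Nat := [0, 1, 2, 3, 4, 5, 6, 7, 8, 10]

/-- The relators. -/
def muRels : List (List Nat) :=
  (base10.flatMap fun x => (base10.filter fun y => x < y && !(x == 1 && y == 2)).map fun y => P24.pairWord x y)
    ++ [[1, 2, 1, 2, 1, 2, 12], e7Word, [12, 12]] ++ base10.map fun x => [x, 12, x, 12]

/-- The letters of the certificate. -/
abbrev sig : List Nat := [0, 1, 2, 3, 4, 5, 6, 7, 8, 10, 12]

/-- The extra involution lies in the subgroup on l, a, b, c, d, e, f, g, h. -/
theorem mu_mem {G : Type} [Group G] (g : Nat → G) (hinv : ∀ x, g x * g x = 1)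
    (hrel : ∀ w ∈ muRels, val g w = 1) : g 12 ∈ span g [0, 2, 3, 4, 5, 6, 7, 8, 10] := by
  let g' : Nat → G := fun x => g (ren sig x)
  let H : Subgroup G := span g [0, 2, 3, 4, 5, 6, 7, 8, 10]
  have hg' : ∀ x, g' x * g' x = 1 := fun x => hinv _
  have hval : ∀ w, val g' w = val g (w.map (ren sig)) := fun w => by
    simp only [val, List.map_map]
    rfl
  have hsg : ∀ w ∈ Fi24Mu54Data.cert.sgens, val g' w ∈ H := by
    intro w hw
    have h : (Fi24Mu54Data.cert.sgens.all fun w =>
        decide (w.map (ren sig) ∈ [0, 2, 3, 4, 5, 6, 7, 8, 10].map fun i => [i])) = true := by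
      decide +kernel
    simp only [List.all_eq_true, decide_eq_true_eq] at h
    obtain ⟨i, hi, he⟩ := List.mem_map.mp (h w hw)
    rw [hval, ← he, val_cons, val_nil, mul_one]
    exact Subgroup.subset_closure ⟨i, hi, rfl⟩
  have hctx : Ctx g' ((1 : G) : G ⧸ H) Fi24Mu54Data.cert := by
    refine ⟨hg', fun w hw => ?_, fun w hw => ?_⟩
    · have h : (Fi24Mu54Data.cert.rels.all fun w =>
          decide (w.map (ren sig) ∈ muRels ++ sig.map fun x => [x, x])) = true := by
        decide +kernel
      simp only [List.all_eq_true, decide_eq_true_eq] at h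
      rw [hval]
      rcases List.mem_append.mp (h w hw) with hm | hm
      · exact hrel _ hm
      · obtain ⟨x, -, hx⟩ := List.mem_map.mp hm
        rw [← hx, val_cons, val_cons, val_nil, mul_one]
        exact hinv x
    · rw [act_eq _ hg']
      show (((val g' w)⁻¹ * 1 : G) : G ⧸ H) = _
      rw [mul_one, eq_comm, QuotientGroup.eq, inv_one, one_mul, inv_mem_iff]
      exact hsg w hw
  have hw : (optAll (walk Fi24Mu54Data.cert.fact Fi24Mu54Data.size Fi24Mu54Data.len
      Fi24Mu54Data.path 0 [10]) fun a => Nat.beq a 0) = true := by decide +kernel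
  obtain ⟨a, ha, hr⟩ := optAll_eq_true hw
  have h := walk_sound g' (nodeVal g' _ Fi24Mu54Data.cert) hg' Fi24Mu54Data.cert.fact
    Fi24Mu54Data.size (Fi24Mu54Data.valid g' _ hctx) _ _ _ _ _ ha
  rw [Nat.beq_eq.mp hr, nodeVal_zero, act_eq _ hg', val_cons, val_nil, mul_one] at h
  change (((g' 10)⁻¹ * 1 : G) : G ⧸ H) = _ at h
  rwa [mul_one, eq_comm, QuotientGroup.eq, inv_one, one_mul, inv_mem_iff] at h

end Cfsg.Agent.Fi24Mu54
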