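import Cfsg.Agent.Lib.Fi24Upper64
import Cfsg.Agent.Lib.Fi24Lifts14
import Cfsg.Agent.Lib.Fi24Table88Rho
import Cfsg.Agent.Lib.SchurMultiplierBasic
import Cfsg.Prelude.Def_KGroupFacts

/-! The Schur multiplier of Fi24' is cyclic of order 3, given one stem extension with a kernel of order 3. -/

set_option autoImplicit false

namespace Cfsg.Agent.Fi24Multiplier64

open Cfsg.Agent.Fi24Core64

theorem upper (Γ : Type) [Group Γ] [Finite Γ] (σ : Γ →* Cfsg.Spor.Fi24')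
    (hσ : Cfsg.IsStemExtension σ) :
    ∃ π : Multiplicative (ZMod 3) →* σ.ker, Function.Surjective π := by
  let σ' : Γ →* G24 := (commutator G24).subtype.comp σ
  have hker : ∀ γ, γ ∈ σ'.ker ↔ γ ∈ σ.ker := fun γ => by
    rw [MonoidHom.mem_ker, MonoidHom.mem_ker]
    exact ⟨fun h => Subtype.ext h, fun h => congrArg Subtype.val h⟩
  have hr : σ'.range = commutator G24 := by
    ext x
    constructor
    · rintro ⟨γ, rfl⟩
      exact (σ γ).2
    · intro hx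
      obtain ⟨γ, hγ⟩ := hσ.1 ⟨x, hx⟩
      exact ⟨γ, congrArg Subtype.val hγ⟩
  have hc : σ'.ker ≤ Subgroup.center Γ := fun γ h => hσ.2.1 ((hker γ).mp h)
  have hd : σ'.ker ≤ commutator Γ := fun γ h => hσ.2.2 ((hker γ).mp h)
  have hsp := Fi24Index64.spider Fi24Table88.rho Fi24Table88.rho_gg
  obtain ⟨s, u, hs, hu, u3, inv, ma2, ma', gen⟩ := Fi24Lifts14.exists_lifts σ' hr hc hd hsp
    (Fi24Index64.a_ne_l Fi24Table88.rho Fi24Table88.rho_gg)
  obtain ⟨n, hn, hle⟩ := Fi24Upper64.ker_le_zpowers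
    (⟨hc, fun p _ => hs p, hu, u3, inv, ma2, ma', hr, gen⟩ : Fi24Upper64.Lifts σ' s u)
    Fi24Table88.rho Fi24Table88.rho_gg
  by_cases htriv : σ.ker = ⊥
  · refine ⟨1, fun y => ⟨1, ?_⟩⟩
    have : (y : Γ) = 1 := Subgroup.mem_bot.mp (htriv ▸ y.2)
    exact Subtype.ext this.symm
  · obtain ⟨y, hy, hy1⟩ := (Subgroup.ne_bot_iff_exists_ne_one.mp htriv : ∃ y : σ.ker, y ≠ 1) |>
      fun ⟨y, h⟩ => (⟨(y : Γ), y.2, fun e => h (Subtype.ext e)⟩ : ∃ y, y ∈ σ.ker ∧ y ≠ 1)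
    obtain ⟨i, hi⟩ := Subgroup.mem_zpowers_iff.mp (hle y ((hker y).mpr hy))
    have hmem : n ∈ σ.ker := by
      have h3 : n ^ (3 : ℤ) = 1 := by exact_mod_cast hn
      have hi3 : i % 3 = 1 ∨ i % 3 = 2 := by
        rcases (by omega : i % 3 = 0 ∨ i % 3 = 1 ∨ i % 3 = 2) with h | h
        · exact absurd (by rw [← hi, ← Int.mul_ediv_add_emod i 3, h, add_zero, zpow_mul, h3, one_zpow]) hy1
        · exact h
      have hred : n ^ i = n ^ (i % 3) := by
        conv_lhs => rw [← Int.mul_ediv_add_emod i 3, zpow_add, zpow_mul, h3, one_zpow, one_mul]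
      rw [← hi, hred] at hy
      rcases hi3 with h | h <;> rw [h] at hy
      · simpa using hy
      · have : n = n ^ (2 : ℤ) * n ^ (2 : ℤ) := by
          rw [← zpow_add, show (2 : ℤ) + 2 = 3 + 1 from rfl, zpow_add_one, h3, one_mul]
        rw [this]
        exact mul_mem hy hy
    refine SchurMultiplierBasic.exists_surjective_zmod 3 (⟨n, hmem⟩ : σ.ker) (Subtype.ext hn) fun y => ?_
    obtain ⟨j, hj⟩ := Subgroup.mem_zpowers_iff.mp (hle y ((hker y).mpr y.2))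
    exact Subgroup.mem_zpowers_iff.mpr ⟨j, Subtype.ext hj⟩

theorem multiplier_of_cover
    (h : ∃ (Γ : Type) (_ : Group Γ) (_ : Finite Γ) (σ : Γ →* Cfsg.Spor.Fi24'),
      Cfsg.IsStemExtension σ ∧ Nat.card σ.ker = 3) :
    Cfsg.HasCyclicSchurMultiplier Cfsg.Spor.Fi24' 3 := by
  obtain ⟨Γ, _, _, σ, hσ, hc⟩ := h
  refine ⟨⟨Γ, inferInstance, inferInstance, σ, hσ, ?_⟩, fun Γ _ _ σ hσ => upper Γ σ hσ⟩
  haveI : Fact (Nat.Prime 3) := ⟨Nat.prime_three⟩
  haveI : IsCyclic σ.ker := isCyclic_of_prime_card hc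
  exact ⟨mulEquivOfCyclicCardEq (by rw [hc, Nat.card_congr Multiplicative.toAdd, Nat.card_zmod])⟩

end Cfsg.Agent.Fi24Multiplier64
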