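/-! Data for the automorphisms of the presented group Fi23; it only feeds checks. -/

set_option autoImplicit false
set_option maxRecDepth 100000

namespace Cfsg.Agent.ThreeTransFi23Data41

/-- Points of the generators. -/
abbrev EL : List Nat := [11589, 8004, 8003, 8000, 8001, 8002, 8005, 8006, 7999, 8007]

/-- An element of order 13 centralising `a` and `b`. -/
abbrev W : List Nat := [5, 3, 2, 3, 8, 9, 1, 2, 3, 8, 4, 0, 1, 2, 3, 2, 1, 0, 4, 8, 3, 2, 1, 9, 8, 3, 2, 6, 9, 8, 4, 7]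

/-- The points fixed by the chosen element. -/
abbrev FX : List Nat := [11589, 8004, 9592]

/-- A path from the base point to the point of `d`. -/
abbrev ZPATH : List Nat := [7, 6, 5, 4, 3, 2, 1, 8, 3, 2, 4, 3, 5, 4, 6, 5, 7, 6, 8, 3, 2, 1, 4, 3, 2, 5, 4, 8]

/-- Paths to the representatives; the first is the chosen point, the second is exceptional. -/
abbrev REPS : List (List Nat) := [[2, 1, 0, 4, 5, 6, 7, 8, 3, 2, 1, 4, 3, 2, 5, 4], [2, 1, 0, 4, 5, 6, 7, 8, 3, 2, 1, 4, 3, 2, 5, 8, 3, 9, 8, 3], [2, 1, 0, 4, 5, 6, 7, 8, 3, 2, 1, 4, 3, 2, 5, 8], [2, 1, 0, 4, 5, 6, 7, 8, 3, 2, 1, 4, 3, 2, 5, 6], [2, 1, 0, 4, 5, 6, 7, 8, 3, 2, 1, 4, 3, 2, 8, 9], [2, 1, 0, 4, 5, 6, 7, 8, 3, 2, 1, 4, 3, 2, 5, 6, 8], [2, 1, 0, 4, 5, 6, 7, 8, 3, 2, 1, 4, 3, 2, 5, 8, 9], [2, 1, 0, 4, 5, 6, 7, 8, 3, 2, 1, 4, 3,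 2, 5, 4, 6, 5], [2, 1, 0, 4, 5, 6, 7, 8, 3, 2, 1, 4, 3, 2, 5, 6, 8, 9], [2, 1, 0, 4, 5, 6, 7, 8, 3, 2, 1, 4, 3, 2, 5, 4, 8, 9], [2, 1, 0, 4, 5, 6, 7, 8, 3, 2, 1, 4, 3, 2, 5, 4, 3, 6], [2, 1, 0, 4, 5, 6, 7, 8, 3, 2, 1, 4, 3, 2, 5, 4, 6, 9], [2, 1, 0, 4, 5, 6, 7, 8, 3, 2, 1, 4, 3, 2, 5, 4, 6, 5, 8], [2, 1, 0, 4, 5, 6, 7, 8, 3, 2, 1, 4, 3, 2, 5, 4, 3, 6, 5], [2, 1, 0, 4, 5, 6, 7, 8, 3, 2, 1, 4, 3, 2, 5, 4, 6, 5, 9], [2, 1, 0, 4, 5, 6, 7, 8, 3, 2, 1, 4, 3, 2, 5, 6, 8, 3, 9], [2, 1, 0, 4, 5, 6, 7, 8, 3, 2, 1, 4, 3, 2, 5, 4, 6, 8, 9, 8], [2, 1, 0, 4, 5, 6, 7, 8, 3, 2, 1, 4, 3, 2, 5, 4, 3, 6, 5, 9], [2, 4, 5, 6, 7, 8, 3, 4, 5, 6, 9, 8, 3, 2, 4, 3, 5, 4, 8, 3, 2], [2, 1, 0, 4, 5, 6, 7, 8, 3, 2, 1, 4, 3, 2, 5, 4, 3, 6, 5, 9, 8], [2, 1, 0, 4, 5, 6, 7, 8, 3, 2, 1, 4, 3, 2, 5, 6, 8, 9, 8, 3, 4], [2,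 1, 4, 5, 6, 7, 8, 3, 2, 4, 3, 5, 4, 6, 5, 8, 3, 2, 1, 4, 3, 2], [2, 1, 4, 5, 6, 7, 8, 3, 2, 4, 3, 5, 4, 6, 5, 8, 3, 2, 1, 4, 3, 2, 8], [2, 1, 4, 5, 6, 7, 8, 3, 2, 4, 3, 5, 4, 6, 5, 8, 3, 2, 1, 4, 3, 2, 8, 3], [2, 1, 0, 4, 5, 6, 7, 8, 3, 2, 1, 4, 3, 5, 4, 6, 5, 8, 3, 4, 9, 8, 3, 2, 4, 5, 6], [2, 1, 4, 5, 6, 7, 8, 3, 2, 4, 3, 5, 4, 6, 5, 8, 3, 2, 1, 4, 3, 2, 8, 3, 4, 5, 6, 7], [2, 1, 0, 4, 5, 6, 7, 8, 3, 2, 1, 4, 3, 5, 4, 6, 5, 8, 3, 4, 9, 8, 3, 2, 4, 3, 5, 4]]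

/-- Separating tests for the other representatives. -/
abbrev TESTS : List (List Nat) := [[1, 1, 0, 1, 1, 1, 1, 1, 1, 1, 1, 1, 1, 1], [1, 1, 1, 0, 1, 1, 0, 1, 1, 0, 1, 1, 1], [1, 1, 1, 0, 1, 1, 0, 1, 1, 0, 1, 1, 1], [1, 1, 1, 1, 0, 1, 1, 1, 1, 1, 1, 1, 1, 1], [1, 1, 0, 1, 1, 1, 1, 1, 1, 1, 1, 1, 1, 1], [1, 1, 0, 1, 1, 1, 1, 1, 1, 1, 1, 1, 1, 1], [1, 0, 1, 1, 1, 1, 1, 1, 1, 1, 1, 1, 1, 1], [1, 1, 1, 0, 1, 1, 1, 1, 1, 1, 1, 1, 1, 1], [1, 1, 1, 1, 0, 1, 1, 1, 1, 1, 1, 1, 1, 1], [1, 0, 1, 1, 1, 1, 1, 1, 1, 1, 1, 1, 1, 1], [1, 1, 1, 1, 0, 1, 1, 1, 1, 1, 1, 1, 1, 1], [1, 1, 1, 0, 1, 1, 1, 1, 1, 1, 1, 1, 1, 1], [1, 1, 0, 1, 1, 1, 1, 1, 1, 1, 1, 1, 1, 1], [1, 1, 1, 0, 1, 1, 0, 1, 1, 0, 1, 1, 1], [1, 0, 1, 1, 1, 1, 1, 1, 1, 1, 1, 1, 1, 1], [1, 0, 1, 1, 1, 1, 1, 1, 1, 1, 1, 1, 1, 1], [1, 1, 0, 1,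 1, 0, 1, 1, 1, 0, 1, 1, 1], [1, 1, 1, 0, 1, 1, 1, 1, 1, 1, 1, 1, 1, 1], [1, 0, 1, 0, 1, 0, 1, 1, 1, 1, 1], [1, 0, 1, 1, 1, 1, 1, 1, 1, 1, 1, 1, 1, 1], [1, 0, 1, 1, 1, 1, 1, 1, 1, 1, 1, 1, 1, 1], [1, 1, 0, 1, 1, 1, 1, 1, 1, 1, 1, 1, 1, 1], [1, 0, 1, 1, 1, 1, 1, 1, 1, 1, 1, 1, 1, 1], [1, 1, 1, 1, 0, 1, 1, 1, 1, 1, 1, 1, 1, 1], [1, 0, 1, 1, 1, 1, 0, 1, 1, 0, 1, 1]]

/-- Orbit positions of the other points fixed by `a` and `b`. -/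
abbrev TRI : List (Nat × Nat × Nat) := [(351, 0, 0), (1404, 0, 1), (1930, 0, 2), (1041, 0, 3), (2133, 0, 4), (4315, 0, 5), (1895, 0, 6), (2528, 0, 7), (5358, 0, 8), (2568, 0, 9), (2134, 0, 10), (1556, 0, 11), (1386, 0, 12), (1384, 1, 0), (2580, 1, 1), (3346, 1, 2), (2136, 1, 3), (3418, 1, 4), (1409, 1, 5), (2529, 1, 6), (1876, 1, 7), (4279, 1, 8), (3323, 1, 9), (3180, 1, 10), (5349, 1, 11), (1878, 1, 12), (347, 2, 0), (1892, 2, 1), (4150, 2, 2), (6539, 2, 3), (5257, 2, 4), (4282, 2, 5), (3387, 2, 6), (1554, 2, 7), (3374, 2, 8), (6633, 2, 9), (5287, 2, 10), (5689, 2, 11), (2526, 2, 12), (348, 3, 0), (718, 3, 1), (1880, 3, 2), (6547, 3, 3), (5312, 3, 4), (4309, 3, 5), (4238, 3, 6), (6563, 3, 7), (3370, 3, 8), (6551, 3, 9), (2531, 3, 10), (2542, 3, 11), (720, 3, 12), (719, 4, 0), (3347, 4,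 1), (3167, 4, 2), (4241, 4, 3), (6556, 4, 4), (1000, 4, 5), (1388, 4, 6), (1896, 4, 7), (1030, 4, 8), (1432, 4, 9), (1117, 4, 10), (2137, 4, 11), (735, 4, 12), (239, 5, 0), (1392, 5, 1), (8001, 5, 2), (3322, 5, 3), (504, 5, 4), (725, 5, 5), (2536, 5, 6), (6626, 5, 7), (1379, 5, 8), (3326, 5, 9), (2523, 5, 10), (2551, 5, 11), (2577, 5, 12), (506, 6, 0), (1381, 6, 1), (5726, 6, 2), (3328, 6, 3), (1013, 6, 4), (2544, 6, 5), (2364, 6, 6), (6542, 6, 7), (8005, 6, 8), (8006, 6, 9), (5268, 6, 10), (5300, 6, 11), (1378, 6, 12), (166, 7, 0), (242, 7, 1), (511, 7, 2), (1390, 7, 3), (501, 7, 4), (1019, 7, 5), (167, 7, 6), (733, 7, 7), (2588, 7, 8), (1914, 7, 9), (1005, 7, 10), (1922, 7, 11), (2533, 7, 12), (349, 8, 0), (1002, 8, 1), (5289, 8, 2), (5305, 8, 3), (1911, 8, 4), (2130, 8, 5), (3381, 8,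 6), (3325, 8, 7), (4243, 8, 8), (1393, 8, 9), (1015, 8, 10), (1412, 8, 11), (1406, 8, 12), (352, 9, 0), (726, 9, 1), (508, 9, 2), (1009, 9, 3), (2543, 9, 4), (5265, 9, 5), (3533, 9, 6), (4235, 9, 7), (3320, 9, 8), (3354, 9, 9), (3443, 9, 10), (521, 9, 11), (515, 9, 12), (353, 10, 0), (1010, 10, 1), (1380, 10, 2), (4287, 10, 3), (2605, 10, 4), (1439, 10, 5), (1555, 10, 6), (1120, 10, 7), (4263, 10, 8), (2548, 10, 9), (1890, 10, 10), (714, 10, 11), (358, 10, 12), (354, 11, 0), (729, 11, 1), (1881, 11, 2), (6639, 11, 3), (4302, 11, 4), (4298, 11, 5), (5468, 11, 6), (3406, 11, 7), (2541, 11, 8), (1553, 11, 9), (798, 11, 10), (383, 11, 11), (356, 11, 12), (115, 12, 0), (514, 12, 1), (1382, 12, 2), (4276, 12, 3), (1012, 12, 4), (507, 12, 5), (713, 12, 6), (3349, 12, 7), (1383, 12, 8), (245, 12,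 9), (165, 12, 10), (240, 12, 11), (350, 12, 12), (243, 13, 0), (796, 13, 1), (3339, 13, 2), (8059, 13, 3), (3321, 13, 4), (6524, 13, 5), (4527, 13, 6), (1879, 13, 7), (1006, 13, 8), (1011, 13, 9), (346, 13, 10), (730, 13, 11), (510, 13, 12), (244, 14, 0), (516, 14, 1), (2559, 14, 2), (5354, 14, 3), (2527, 14, 4), (6523, 14, 5), (6537, 14, 6), (8007, 14, 7), (6522, 14, 8), (4236, 14, 9), (4143, 14, 10), (3357, 14, 11), (2553, 14, 12), (502, 15, 0), (1021, 15, 1), (1891, 15, 2), (505, 15, 3), (1007, 15, 4), (715, 15, 5), (1403, 15, 6), (724, 15, 7), (1893, 15, 8), (5256, 15, 9), (8000, 15, 10), (1877, 15, 11), (721, 15, 12), (355, 16, 0), (731, 16, 1), (3365, 16, 2), (3362, 16, 3), (1919, 16, 4), (717, 16, 5), (722, 16, 6), (1001, 16, 7), (5365, 16, 8), (4356, 16, 9), (1935, 16, 10), (3474,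 16, 11), (1033, 16, 12), (357, 17, 0), (384, 17, 1), (795, 17, 2), (3425, 17, 3), (5319, 17, 4), (3351, 17, 5), (723, 17, 6), (1389, 17, 7), (1014, 17, 8), (3334, 17, 9), (4291, 17, 10), (1900, 17, 11), (727, 17, 12), (10, 18, 0), (1036, 18, 1), (1552, 18, 2), (797, 18, 3), (517, 18, 4), (1025, 18, 5), (1903, 18, 6), (5703, 18, 7), (6531, 18, 8), (6529, 18, 9), (3331, 18, 10), (1898, 18, 11), (737, 18, 12), (518, 19, 0), (1121, 19, 1), (1927, 19, 2), (1024, 19, 3), (1008, 19, 4), (1395, 19, 5), (1917, 19, 6), (1942, 19, 7), (739, 19, 8), (732, 19, 9), (1391, 19, 10), (1387, 19, 11), (1003, 19, 12), (1017, 20, 0), (1407, 20, 1), (2556, 20, 2), (5297, 20, 3), (5725, 20, 4), (2524, 20, 5), (4131, 20, 6), (5292, 20, 7), (4251, 20, 8), (1397, 20, 9), (1912, 20, 10), (1402, 20, 11), (1551, 20,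 12), (7, 21, 0), (1945, 21, 1), (1950, 21, 2), (2891, 21, 3), (4381, 21, 4), (4363, 21, 5), (4256, 21, 6), (5371, 21, 7), (5388, 21, 8), (2546, 21, 9), (1004, 21, 10), (728, 21, 11), (359, 21, 12), (5, 22, 0), (742, 22, 1), (2893, 22, 2), (1399, 22, 3), (512, 22, 4), (1018, 22, 5), (716, 22, 6), (513, 22, 7), (1020, 22, 8), (1906, 22, 9), (2892, 22, 10), (557, 22, 11), (1031, 22, 12), (4, 23, 0), (178, 23, 1), (736, 23, 2), (241, 23, 3), (1022, 23, 4), (3401, 23, 5), (2612, 23, 6), (1424, 23, 7), (556, 23, 8), (2593, 23, 9), (1885, 23, 10), (509, 23, 11), (519, 23, 12), (558, 24, 0), (1119, 24, 1), (1027, 24, 2), (1882, 24, 3), (4233, 24, 4), (7999, 24, 5), (5286, 24, 6), (2525, 24, 7), (1883, 24, 8), (1417, 24, 9), (2628, 24, 10), (2635, 24, 11), (1118, 24, 12), (0, 25, 0), (3, 25, 1),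 (1427, 25, 2), (2131, 25, 3), (1414, 25, 4), (503, 25, 5), (1889, 25, 6), (1394, 25, 7), (1888, 25, 8), (2132, 25, 9), (261, 25, 10), (2, 25, 11), (1, 25, 12), (794, 26, 0), (1557, 26, 1), (2600, 26, 2), (3413, 26, 3), (2585, 26, 4), (1422, 26, 5), (1957, 26, 6), (2890, 26, 7), (2564, 26, 8), (4542, 26, 9), (8002, 26, 10), (4246, 26, 11), (2575, 26, 12)]

/-- Derivations of the points of the generators. -/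
abbrev DERS : List (Nat × Option Nat × List Nat) := [(0, some 0, []), (1, some 1, []), (3, none, [1, 1, 1, 0, 1, 1, 1, 1, 1, 0, 1, 0]), (4, none, [1, 0, 1, 1, 1, 1, 1, 0, 1, 0, 1, 1, 1]), (5, none, [1, 0, 1, 1, 1, 1, 1, 1, 1, 0, 1, 1, 1, 1]), (6, none, [1, 1, 1, 0, 1, 0, 1]), (7, none, [1, 1, 1, 0, 1, 0]), (8, none, [1, 0, 1, 1, 1, 0, 1, 0, 1, 1, 0, 1, 0, 1, 1, 1, 0, 1]), (9, none, [1, 1, 0, 1, 1, 0, 1, 1, 1, 1])]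

/-- Paths to images. -/
abbrev QP0 : List (Nat × List Nat) := [(3, []), (4, [4, 3]), (8, [8, 3]), (1, [2, 1, 3, 2]), (5, [4, 3, 5, 4]), (9, [8, 3, 9, 8]), (0, [2, 1, 0, 3, 2, 1]), (6, [4, 3, 5, 4, 6, 5]), (7, [4, 3, 5, 4, 6, 5, 7, 6])]

/-- Paths to images. -/
abbrev QP1 : List (Nat × List Nat) := [(1, [2, 1, 3, 2]), (0, [2, 1, 0, 3, 2, 1]), (6, [2, 1, 0, 4, 5, 6, 8, 3, 2, 1, 4, 3, 2, 8, 3, 4]), (7, [2, 1, 0, 4, 5, 6, 7, 8, 3, 2, 1, 4, 3, 2, 5, 8, 9]), (4, [2, 1, 0, 4, 5, 6, 8, 3, 2, 1, 9, 8, 3, 2, 4, 3, 5, 8]), (3, [2, 1, 0, 4, 5, 6, 7, 8, 3, 2, 1, 4, 3, 2, 5, 4, 3, 9, 8]), (8, [2, 1, 0, 4, 5, 6, 7, 8, 3, 2, 1, 4, 3, 2, 5, 6, 9, 8, 3, 4]), (9, [2, 1, 0, 4, 5, 6, 8, 3, 2, 1, 4, 3, 2, 5, 4, 3, 9, 8, 3, 4, 5]), (5, [2, 1, 0, 4, 5, 6, 7, 8, 3, 2, 1, 4, 3, 5, 4, 6, 5, 8, 3, 4, 9, 8, 3, 2,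 4, 3, 5, 6, 8, 9])]

end Cfsg.Agent.ThreeTransFi23Data41
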