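import Cfsg.Agent.Lib.CosetCertFi23FData
import Cfsg.Agent.Lib.ThreeTransFi23Data41

/-! Part 1 of the check that the fourth generator is the transposition of its point. -/

set_option autoImplicit false
set_option maxRecDepth 100000

namespace Cfsg.Agent.ThreeTransFi23Root1x41

open Cfsg.Agent.CosetCertCore Cfsg.Agent.CosetCertTable Cfsg.Agent.ThreeTransFi23Data41

theorem agree : allFrom (fun i => Nat.beq (CosetCertFi23FData.table.run
    (ZPATH.reverse ++ (List.replicate 9 [1, 2, 3, 4, 5, 6, 8]).flatten ++ ZPATH) i)
    (CosetCertFi23FData.table.img 3 i)) 10557 10557 = true := by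
  decide +kernel

end Cfsg.Agent.ThreeTransFi23Root1x41
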