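import Cfsg.Agent.S0472
import Cfsg.Agent.Lib.ThreeTransRecognise41
import Cfsg.Agent.Lib.ThreeTransFi23Data41
import Cfsg.Agent.Lib.ThreeTransFi23Root0x41
import Cfsg.Agent.Lib.ThreeTransFi23Root1x41
import Cfsg.Agent.Lib.ThreeTransFi23Root2x41

/-!
Automorphisms of the presented group Fi23: there are no more than elements, so all are inner.
-/

set_option autoImplicit false
set_option maxRecDepth 100000
set_option Elab.async false

namespace Cfsg.Agent.ThreeTransFi23Out41

open Cfsg.Agent.CosetCertCore Cfsg.Agent.CosetCertTable Cfsg.Agent.CosetCertPres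
open Cfsg.Agent.CosetCertOrder Cfsg.Agent.CosetCertRestrict
open Cfsg.Agent.ThreeTransAut41 Cfsg.Agent.ThreeTransRecognise41 Cfsg.Agent.ThreeTransFi23Data41
open Cfsg.Agent.CosetCertFi23Simple (P23)

/-- The table of the 31671 points. -/
noncomputable abbrev T23 : Table := CosetCertFi23FData.table

local notation "hh" => CosetCertFi23F.enumerated

/-- Point number of a generator. -/
def e (x : Nat) : Nat := EL.getD x 0

/-- Point of a generator. -/
noncomputable def E (x : Nat) : Fin T23.N :=
  if hx : e x < T23.N then ⟨e x, hx⟩ else ⟨0, CosetCertFi23F.enumerated.table.npos⟩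

theorem e_lt : ∀ x < T23.NG, e x < T23.N := by decide +kernel

theorem E_val : ∀ x < T23.NG, (E x : Nat) = e x := fun x hx => by rw [E, dif_pos (e_lt x hx)]

theorem E_inj : Function.Injective (fun x : {x // x < T23.NG} => E x.1) := by
  intro x y hxy
  have h := congrArg Fin.val hxy
  simp only [E_val _ x.2, E_val _ y.2] at h
  exact Subtype.ext ((by decide +kernel : ∀ x < T23.NG, ∀ y < T23.NG, e x = e y → x = y) _ x.2 _ y.2 h)

theorem root_agree (i : Fin T23.N) :
    T23.run (ZPATH.reverse ++ S0472.ZZ ++ ZPATH) i = T23.img 3 i := by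
  have hz : (S0472.ZZ : List Nat) = (List.replicate 9 [1, 2, 3, 4, 5, 6, 8]).flatten := by decide +kernel
  have hi : (i : Nat) < 31671 := Nat.lt_of_lt_of_eq i.2 (by decide +kernel)
  rw [hz]
  rcases (by omega : (i : Nat) < 0 + 10557 ∨ (10557 ≤ (i : Nat) ∧ (i : Nat) < 10557 + 10557) ∨
      (21114 ≤ (i : Nat) ∧ (i : Nat) < 21114 + 10557)) with h | h | h
  · exact Nat.eq_of_beq_eq_true ((allFrom_iff _ _ _).mp ThreeTransFi23Root0x41.agree i (Nat.zero_le _) h)
  · exact Nat.eq_of_beq_eq_true ((allFrom_iff _ _ _).mp ThreeTransFi23Root1x41.agree i h.1 h.2)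
  · exact Nat.eq_of_beq_eq_true ((allFrom_iff _ _ _).mp ThreeTransFi23Root2x41.agree i h.1 h.2)

theorem root_word : val P23.gg (ZPATH.reverse ++ S0472.ZZ ++ ZPATH) = P23.gg 3 := by
  have hinv : ∀ y, (P23.gg y)⁻¹ = P23.gg y := fun y => inv_of_sq _ CosetCertFi23Simple.invol y
  rw [← inv_inj, hinv]
  apply CosetCertFi23Simple.faithful
  refine Equiv.ext fun i => Fin.ext ?_
  rw [map_inv, inv_run hh (by decide +kernel), img_eq hh (by decide +kernel), root_agree]

theorem exists_data : ∃ d : Fin T23.N → P23.Grp, Data hh d E := by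
  obtain ⟨d, hc, hi, h0⟩ := exists_map hh S0472.z_facts.2
  have hfa := CosetCertFi23Simple.faithful
  have hinv : ∀ y, (P23.gg y)⁻¹ = P23.gg y := fun y => inv_of_sq _ CosetCertFi23Simple.invol y
  have h3 : (3 : Nat) < T23.NG := by decide +kernel
  have hzl : ∀ x ∈ ZPATH, x < T23.NG := by decide +kernel
  have hwl : ∀ x ∈ ZPATH.reverse ++ S0472.ZZ ++ ZPATH, x < T23.NG := by decide +kernel
  have hW := root_word
  have b3 : d (E 3) = P23.gg 3 := by
    have h1 := apply_of_run hh hzl (i := ⟨0, CosetCertFi23F.enumerated.table.npos⟩) (j := E 3)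
      (by rw [E_val 3 h3]; decide +kernel)
    have h2 := hc (val P23.gg ZPATH) (E 3)
    rw [h1, h0] at h2
    rw [← hW, val_append, val_append, val_reverse _ CosetCertFi23Simple.invol, h2]
    group
  have hd0 : ∀ c p : Nat, c < T23.NG → p < T23.NG → d (E p) = P23.gg p →
      val P23.gg [p, c, p, c, p, c] = 1 → T23.run [p, c] (e c) = e p → d (E c) = P23.gg c := by
    intro c p hcl hpl hp h3 hrun
    have h1 := apply_of_run hh (w := [p, c]) (by simp [hpl, hcl]) (i := E c) (j := E p)
      (by rw [E_val c hcl, E_val p hpl]; exact hrun)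
    have h2 := hc (val P23.gg [p, c]) (E p)
    rw [h1, hp] at h2
    rw [h2]
    simp only [val_cons, val_nil, mul_one] at h3 ⊢
    have hsq := CosetCertFi23Simple.invol
    calc P23.gg p * P23.gg c * P23.gg p * (P23.gg p * P23.gg c)⁻¹
        = P23.gg p * P23.gg c * P23.gg p * P23.gg c * P23.gg p := by rw [mul_inv_rev, hinv, hinv]; simp [mul_assoc]
      _ = (P23.gg p * (P23.gg c * (P23.gg p * (P23.gg c * (P23.gg p * P23.gg c))))) * P23.gg c := by
          simp [mul_assoc, hsq]
      _ = P23.gg c := by rw [h3, one_mul]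
  have up : ∀ c p : Nat, [p, c, p, c, p, c] ∈ P23.relWords → val P23.gg [p, c, p, c, p, c] = 1 :=
    fun c p h => val_relWords CosetCertFi23Simple.good h
  have down : ∀ c p : Nat, [c, p, c, p, c, p] ∈ P23.relWords → val P23.gg [p, c, p, c, p, c] = 1 := by
    intro c p h
    rw [show ([p, c, p, c, p, c] : List Nat) = [c, p, c, p, c, p].reverse from rfl,
      val_reverse _ CosetCertFi23Simple.invol, val_relWords CosetCertFi23Simple.good h, inv_one]
  have b2 := hd0 2 3 (by decide +kernel) h3 b3 (down _ _ (by decide +kernel)) (by decide +kernel)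
  have b1 := hd0 1 2 (by decide +kernel) (by decide +kernel) b2 (down _ _ (by decide +kernel)) (by decide +kernel)
  have b0 := hd0 0 1 (by decide +kernel) (by decide +kernel) b1 (down _ _ (by decide +kernel)) (by decide +kernel)
  have b4 := hd0 4 3 (by decide +kernel) h3 b3 (up _ _ (by decide +kernel)) (by decide +kernel)
  have b5 := hd0 5 4 (by decide +kernel) (by decide +kernel) b4 (up _ _ (by decide +kernel)) (by decide +kernel)
  have b6 := hd0 6 5 (by decide +kernel) (by decide +kernel) b5 (up _ _ (by decide +kernel)) (by decide +kernel)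
  have b7 := hd0 7 6 (by decide +kernel) (by decide +kernel) b6 (up _ _ (by decide +kernel)) (by decide +kernel)
  have b8 := hd0 8 3 (by decide +kernel) h3 b3 (up _ _ (by decide +kernel)) (by decide +kernel)
  have b9 := hd0 9 8 (by decide +kernel) (by decide +kernel) b8 (up _ _ (by decide +kernel)) (by decide +kernel)
  refine ⟨d, ⟨hc, hi, hfa, fun x hx => ?_⟩⟩
  have hx10 : x < 10 := hx
  interval_cases x
  exacts [b0, b1, b2, b3, b4, b5, b6, b7, b8, b9]

theorem fixed_points : allFrom (fun i => !Nat.beq (T23.run W i) i || FX.elem i) T23.N 0 = true := by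
  decide +kernel

theorem cover_ok : allFrom (fun i => !(Nat.beq (T23.img 0 i) i && Nat.beq (T23.img 1 i) i) ||
    (TRI.map Prod.fst).elem i) T23.N 0 = true := by
  decide +kernel

theorem tri_ok : (TRI.all fun t => Nat.blt t.2.1 REPS.length && Nat.blt t.2.2 13 &&
    Nat.beq (T23.run (List.replicate t.2.2 W).flatten t.1) (T23.run (REPS.getD t.2.1 []) (e 3))) = true := by
  decide +kernel

theorem tests_ok : ∀ j < TESTS.length,
    (Nat.beq (derived T23 e 3 W [0, 1] (REPS.getD 0 []) none (TESTS.getD j []))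
        (T23.run (REPS.getD 0 []) (e 3)) ==
      Nat.beq (derived T23 e 3 W [0, 1] (REPS.getD (j + 2) []) none (TESTS.getD j []))
        (T23.run (REPS.getD (j + 2) []) (e 3))) = false := by
  decide +kernel

theorem ders_ok : ∀ t ∈ DERS, t.1 < T23.NG ∧ e t.1 ≠ e 2 ∧ (∀ y ∈ t.2.1.toList, y ∈ [0, 1]) ∧
    derived T23 e 3 W [0, 1] (REPS.getD 0 []) t.2.1 t.2.2 = e t.1 := by
  decide +kernel

theorem qp_ok : ∀ c ∈ [(0, QP0), (1, QP1)], ∀ yq ∈ (c : Nat × List (Nat × List Nat)).2,
    (∀ z ∈ yq.2, z < T23.NG) ∧ ∃ t ∈ DERS, t.1 = yq.1 ∧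
      derived T23 e 3 W [0, 1] (REPS.getD c.1 []) t.2.1 t.2.2 = T23.run yq.2 (e 3) := by
  decide +kernel

theorem pat0 : allFrom (fun p => !patOk T23 3 (e 3) (e 2) QP0 p || [e 2].elem p) T23.N 0 = true := by
  decide +kernel

theorem pat1 : allFrom (fun p => !patOk T23 3 (e 3) (e 2) QP1 p || ([] : List Nat).elem p) T23.N 0 = true := by
  decide +kernel

/-- The elements of the symmetric group on the first two generators. -/
abbrev SS : List (List Nat) := [[], [0], [1], [0, 1], [1, 0], [0, 1, 0]]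

theorem normal_ok : ∀ p ∈ FX, ∀ q ∈ FX, p ≠ q →
    ∃ s ∈ SS, T23.run s p = e 0 ∧ T23.run s q = e 1 := by
  decide +kernel

theorem count : prodCnt T23 e [] [4, 8, 2, 6, 5, 9, 0, 7, 1, 3] = 4089470473293004800 := by
  decide +kernel

section

variable {d : Fin T23.N → P23.Grp} (hd : Data hh d E)
include hd

theorem center_trivial (g : P23.Grp) (hg : ∀ k, g * k = k * g) : g = 1 :=
  eq_one hh hd g fun x _ => (fix_iff hh hd g _).mpr (hg _)

theorem word_one (w : List Nat) (hl : ∀ x ∈ w, x < T23.NG)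
    (hw : ∀ x < T23.NG, T23.run w (e x) = e x) : val P23.gg w = 1 :=
  val_eq_one hh hd hl fun x hx => by rw [E_val x hx]; exact hw x hx

/-- The chosen element has order 13. -/
theorem order_w : orderOf (val P23.gg W) = 13 := by
  haveI : Fact (Nat.Prime 13) := ⟨by norm_num⟩
  refine orderOf_eq_prime ?_ ?_
  · rw [← val_replicate]
    exact word_one hd _ (by decide +kernel) (by decide +kernel)
  · intro h1
    have h2 := inv_run hh (w := W) (by decide +kernel) (E 2)
    rw [h1, map_one, inv_one, Equiv.Perm.one_apply, E_val 2 (by decide +kernel)] at h2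
    exact absurd h2 (by decide +kernel)

/-- An involution commuting with the chosen element lies in the class. -/
theorem invol_mem (t : P23.Grp) (ht : orderOf t = 2) (hc : t * val P23.gg W = val P23.gg W * t) :
    ∃ p, t = d p := by
  have h0 : (0 : Nat) < T23.NG := by decide +kernel
  have h1 : (1 : Nat) < T23.NG := by decide +kernel
  have h3 : (3 : Nat) < T23.NG := by decide +kernel
  have hA : ∀ y ∈ [0, 1], y < T23.NG := by decide +kernel
  have hW : ∀ x ∈ W, x < T23.NG := by decide +kernel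
  have hWfix : ∀ y ∈ [0, 1], T23.run W (e y) = e y := by decide +kernel
  have hwA : ∀ y ∈ [0, 1], rho hh (val P23.gg W) (E y) = E y := fun y hy =>
    apply_of_run hh hW (by rw [E_val y (hA y hy)]; exact hWfix y hy)
  have hmem : ∀ y ∈ [0, 1], ((rho hh t (E y) : Fin T23.N) : Nat) ∈ FX := by
    intro y hy
    have hf := fixed_to_fixed hh hW t hc (i := E y) (by rw [E_val y (hA y hy)]; exact hWfix y hy)
    have h2 := (allFrom_iff _ _ _).mp fixed_points _ (Nat.zero_le _)
      (Nat.lt_of_lt_of_eq (rho hh t (E y)).2 (Nat.zero_add _).symm)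
    simp only [hf, Bool.or_eq_true, Bool.not_eq_true', List.elem_eq_mem, decide_eq_true_eq] at h2
    rcases h2 with h2 | h2
    · exact absurd h2 (by rw [show Nat.beq _ _ = true from Nat.beq_refl _]; simp)
    · exact h2
  obtain ⟨s, hs, hs0, hs1⟩ := normal_ok _ (hmem 0 (by simp)) _ (hmem 1 (by simp)) (fun hh' => by
    have := congrArg Fin.val ((rho hh t).injective (Fin.ext hh'))
    rw [E_val 0 h0, E_val 1 h1] at this
    exact absurd this (by decide +kernel))
  have hsl : ∀ x ∈ s, x ∈ [0, 1] :=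
    (by decide +kernel : ∀ s ∈ SS, ∀ x ∈ s, x ∈ [0, 1]) s hs
  have hsw : val P23.gg W * val P23.gg s = val P23.gg s * val P23.gg W :=
    comm_letters hh hd _ s (fun x hx => hA x (hsl x hx)) fun x hx => hwA x (hsl x hx)
  obtain ⟨g0, hg0⟩ : ∃ g0, g0 = (val P23.gg s)⁻¹ * t := ⟨_, rfl⟩
  have hg0c : g0 * val P23.gg W = val P23.gg W * g0 := by
    rw [hg0]
    exact ((show Commute (val P23.gg s) (val P23.gg W) from hsw.symm).inv_left.mul_left hc).eq
  have hg0A : ∀ y ∈ [0, 1], rho hh g0 (E y) = E y := by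
    intro y hy
    refine Fin.ext ?_
    rw [hg0, map_mul, Equiv.Perm.mul_apply, map_inv, inv_run hh (fun x hx => hA x (hsl x hx)),
      E_val y (hA y hy)]
    simp only [List.mem_cons, List.not_mem_nil, or_false] at hy
    rcases hy with rfl | rfl
    exacts [hs0, hs1]
  -- the chosen point and its image
  have hp0 : ∀ x ∈ REPS.getD 0 [], x < T23.NG := by decide +kernel
  obtain ⟨i0, hi0⟩ : ∃ i0 : Fin T23.N, T23.run (REPS.getD 0 []) (e 3) = (i0 : Nat) :=
    ⟨⟨_, run_lt hh hp0 (e_lt 3 h3)⟩, rfl⟩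
  have hq : ∀ y ∈ [0, 1], T23.img y (rho hh g0 i0 : Fin T23.N) = ((rho hh g0 i0 : Fin T23.N) : Nat) := by
    intro y hy
    have hiy : T23.img y i0 = (i0 : Nat) := by
      rw [← hi0]
      exact (by decide +kernel : ∀ y ∈ [0, 1], T23.img y (T23.run (REPS.getD 0 []) (e 3)) =
        T23.run (REPS.getD 0 []) (e 3)) y hy
    have hgy : g0 * P23.gg y = P23.gg y * g0 := by
      rw [← hd.base y (hA y hy)]
      exact (fix_iff hh hd g0 _).mp (hg0A y hy)
    rw [← img_eq hh (hA y hy), Fin.val_inj] at hiy ⊢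
    rw [← Equiv.Perm.mul_apply, ← map_mul, ← hgy, map_mul, Equiv.Perm.mul_apply, hiy]
  have hcov := (allFrom_iff _ _ _).mp cover_ok _ (Nat.zero_le _)
    (Nat.lt_of_lt_of_eq (rho hh g0 i0).2 (Nat.zero_add _).symm)
  simp only [hq 0 (by simp), hq 1 (by simp), Bool.or_eq_true, Bool.not_eq_true', List.elem_eq_mem,
    decide_eq_true_eq] at hcov
  rcases hcov with hcov | hcov
  · exact absurd hcov (by rw [show Nat.beq _ _ = true from Nat.beq_refl _]; simp)
  obtain ⟨⟨i, idx, k⟩, htri, hik⟩ := List.mem_map.mp hcov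
  have hT := List.all_eq_true.mp tri_ok _ htri
  simp only [Bool.and_eq_true, Nat.blt_eq, Nat.beq_eq] at hT
  obtain ⟨⟨hidx, hk⟩, hrun⟩ := hT
  have hwk : ∀ x ∈ (List.replicate k W).flatten, x < T23.NG := by
    intro x hx
    obtain ⟨u, hu, hxu⟩ := List.mem_flatten.mp hx
    rw [List.eq_of_mem_replicate hu] at hxu
    exact hW x hxu
  obtain ⟨g, hgdef⟩ : ∃ g, g = (val P23.gg (List.replicate k W).flatten)⁻¹ * g0 := ⟨_, rfl⟩
  have hgc : g * val P23.gg W = val P23.gg W * g := by
    rw [hgdef, val_replicate]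
    exact (((Commute.refl (val P23.gg W)).pow_left k).inv_left.mul_left hg0c).eq
  have hgA : ∀ y ∈ [0, 1], rho hh g (E y) = E y := by
    intro y hy
    rw [hgdef, map_mul, Equiv.Perm.mul_apply, hg0A y hy, map_inv]
    refine Fin.ext ((inv_run hh hwk _).trans ?_)
    rw [E_val y (hA y hy)]
    exact (by decide +kernel :
      ∀ k < 13, ∀ y ∈ [0, 1], T23.run (List.replicate k W).flatten (e y) = e y) k hk y hy
  have hgi : ((rho hh g i0 : Fin T23.N) : Nat) = T23.run (REPS.getD idx []) (e 3) := by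
    rw [hgdef, map_mul, Equiv.Perm.mul_apply, map_inv, inv_run hh hwk, ← hrun]
    exact congrArg _ hik.symm
  have hpb : ∀ x ∈ REPS.getD idx [], x < T23.NG :=
    (by decide +kernel : ∀ j < REPS.length, ∀ x ∈ REPS.getD j [], x < T23.NG) idx hidx
  have hm : 2 < T23.NG := by decide +kernel
  have hders : ∀ t ∈ DERS, t.1 < T23.NG ∧ e t.1 ≠ e 2 ∧ (∀ y ∈ t.2.1, y ∈ [0, 1]) ∧
      derived T23 e 3 W [0, 1] (REPS.getD 0 []) t.2.1 t.2.2 = e t.1 := by
    intro u hu
    obtain ⟨a, b, c, f⟩ := ders_ok u hu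
    exact ⟨a, b, fun y hy => c y (by simpa using hy), f⟩
  rcases (by omega : idx = 0 ∨ idx = 1 ∨ 2 ≤ idx) with rfl | rfl | h2
  · obtain ⟨k1, k2⟩ := images hh hd e E_val h3 W [0, 1] hW hA g hgc hgA hp0 hpb hi0 hgi DERS 2 hm
      hders QP0 (fun yq hyq => qp_ok (0, QP0) (by simp) yq hyq) [e 2] pat0
    have hall : ∀ x < T23.NG, x = 2 ∨ ∃ u ∈ DERS, u.1 = x := by decide +kernel
    have hone : g = 1 := by
      refine eq_one hh hd g fun x hx => ?_
      rcases hall x hx with rfl | ⟨u, hum, rfl⟩
      · exact Fin.ext ((List.mem_singleton.mp k2).trans (E_val 2 hm).symm)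
      · exact Fin.ext ((k1 u hum).trans (((hders u hum).2.2.2).trans (E_val _ hx).symm))
    have hg0' : g0 = val P23.gg W ^ k := by
      rw [← val_replicate]
      exact (inv_mul_eq_one.mp (hgdef.symm.trans hone)).symm
    have htw : t = val P23.gg s * val P23.gg W ^ k := by rw [← hg0', hg0, mul_inv_cancel_left]
    have hw13 : (val P23.gg W) ^ 13 = 1 := by
      have := pow_orderOf_eq_one (val P23.gg W)
      rwa [order_w hd] at this
    have ht2 : t * t = 1 := by rw [← pow_two, ← ht]; exact pow_orderOf_eq_one t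
    have hs12 : val P23.gg s ^ 12 = 1 := by
      rw [← val_replicate]
      exact word_one hd _ ((by decide +kernel :
          ∀ s ∈ SS, ∀ x ∈ (List.replicate 12 s).flatten, x < T23.NG) s hs)
        ((by decide +kernel :
          ∀ s ∈ SS, ∀ x < T23.NG, T23.run (List.replicate 12 s).flatten (e x) = e x) s hs)
    have hts : t = val P23.gg s := by
      calc t = t ^ 13 := by rw [show 13 = 2 * 6 + 1 from rfl, pow_succ, pow_mul, pow_two, ht2, one_pow, one_mul]
        _ = val P23.gg s ^ 13 * (val P23.gg W ^ k) ^ 13 := by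
          rw [htw]
          exact Commute.mul_pow ((show Commute (val P23.gg s) (val P23.gg W) from hsw.symm).pow_right k) 13
        _ = val P23.gg s := by
          rw [← pow_mul, mul_comm k, pow_mul, hw13, one_pow, mul_one, pow_succ, hs12, one_mul]
    have hne : s ≠ [] := fun hn => by
      rw [hts, hn, val_nil, orderOf_one] at ht
      omega
    have hsq : T23.run (s ++ s) (e 2) = e 2 := by
      have hss : val P23.gg (s ++ s) = 1 := by rw [val_append, ← hts, ht2]
      have hl : ∀ x ∈ s ++ s, x < T23.NG := fun x hx => hA x (hsl x (by simpa using hx))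
      have := inv_run hh hl (E 2)
      rw [hss, map_one, inv_one, Equiv.Perm.one_apply, E_val 2 hm] at this
      exact this.symm
    have hs' : s = [0] ∨ s = [1] ∨ s = [0, 1, 0] :=
      (by decide +kernel : ∀ s ∈ SS, s ≠ [] → T23.run (s ++ s) (e 2) = e 2 →
        s = [0] ∨ s = [1] ∨ s = [0, 1, 0]) s hs hne hsq
    rcases hs' with rfl | rfl | rfl
    · exact ⟨E 0, by rw [hts, hd.base 0 h0, val_cons, val_nil, mul_one]⟩
    · exact ⟨E 1, by rw [hts, hd.base 1 h1, val_cons, val_nil, mul_one]⟩
    · refine ⟨rho hh (P23.gg 0) (E 1), ?_⟩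
      rw [hts, hd.conj, hd.base 1 h1, inv_of_sq _ CosetCertFi23Simple.invol]
      simp [val_cons, val_nil, mul_assoc]
  · exact absurd (images hh hd e E_val h3 W [0, 1] hW hA g hgc hgA hp0 hpb hi0 hgi DERS 2 hm
      hders QP1 (fun yq hyq => qp_ok (1, QP1) (by simp) yq hyq) [] pat1).2 (by simp)
  · exfalso
    obtain ⟨j, rfl⟩ : ∃ j, idx = j + 2 := ⟨idx - 2, by omega⟩
    have hj : j < TESTS.length := by
      have hlen : REPS.length = TESTS.length + 2 := by decide +kernel
      omega
    exact test_contra hh hd e E_val h3 W [0, 1] hW hA g hgc hgA hp0 hpb hi0 hgi _ (tests_ok j hj)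

theorem closed (α : MulAut P23.Grp) : ∀ x < T23.NG, ∃ p, α (P23.gg x) = d p := by
  haveI : Finite P23.Grp := CosetCertFi23Simple.upper.1
  have h0 : (0 : Nat) < T23.NG := by decide +kernel
  obtain ⟨hord, hC⟩ := S0472.z_facts
  have hH : Nat.card (P23.sub CosetCertFi23FData.subgens) = 129123503308800 := by
    have := Subgroup.card_mul_index (P23.sub CosetCertFi23FData.subgens)
    rw [index_sub hh, CosetCertFi23Simple.card_p,
      show CosetCertFi23FData.table.N = 31671 from by decide +kernel] at this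
    omega
  obtain ⟨m, hm⟩ := exists_move hh (E 3) (E 0)
  have ha : P23.gg 0 ∈ conjugatesOf (val P23.gg S0472.ZZ) := by
    show IsConj _ _
    rw [isConj_iff]
    refine ⟨m * (val P23.gg ZPATH)⁻¹, ?_⟩
    rw [← hd.base 0 h0, ← hm, hd.conj, hd.base 3 (by decide +kernel), ← root_word, val_append,
      val_append, val_reverse _ CosetCertFi23Simple.invol]
    group
  obtain ⟨iso⟩ := CosetCertThreeTrans.centralizer_iso ha
  obtain ⟨g, hg⟩ := exists_commuting_conj (G := P23.Grp) (p := 13) (by norm_num)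
    (by rw [CosetCertFi23Simple.card_p]; decide +kernel) (order_w hd) (t := α (P23.gg 0))
    (by rw [card_centralizer_map, ← Nat.card_congr iso.toEquiv, hC, hH]; decide +kernel)
  have hord0 : orderOf (P23.gg 0) = 2 := by
    haveI : Fact (Nat.Prime 2) := ⟨Nat.prime_two⟩
    refine orderOf_eq_prime (by rw [pow_two]; exact CosetCertFi23Simple.invol 0) fun h => ?_
    have h2 := img_eq hh (x := 0) h0 (E 1)
    rw [h, map_one, Equiv.Perm.one_apply, E_val 1 (by decide +kernel)] at h2
    exact absurd h2 (by decide +kernel)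
  obtain ⟨p, hp⟩ := invol_mem hd _ (by
    rw [← MulAut.conj_apply, MulEquiv.orderOf_eq, MulEquiv.orderOf_eq, hord0]) hg
  intro x hx
  obtain ⟨c, hc⟩ := exists_move hh (E 0) (E x)
  refine ⟨rho hh (α c * g⁻¹) p, ?_⟩
  rw [← hd.base x hx, ← hc, hd.conj, hd.base 0 h0, map_mul, map_mul, map_inv, hd.conj, ← hp]
  group

/-- The outer automorphism group is trivial. -/
theorem card_out_of : Nat.card (Cfsg.Out P23.Grp) = 1 := by
  haveI : Finite P23.Grp := CosetCertFi23Simple.upper.1
  haveI : Finite (MulAut P23.Grp) :=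
    Finite.of_injective (fun a : MulAut P23.Grp => (a : P23.Grp → P23.Grp)) DFunLike.coe_injective
  have hle := card_aut hh hd (closed hd) e E_val [4, 8, 2, 6, 5, 9, 0, 7, 1, 3] (by decide +kernel)
    (by decide +kernel) (by decide +kernel) E_inj
  rw [count] at hle
  have hmul := Subgroup.card_mul_index (Cfsg.Inn P23.Grp)
  rw [card_inn (center_trivial hd), CosetCertFi23Simple.card_p] at hmul
  have h2 : (Cfsg.Inn P23.Grp).index ≠ 0 := Subgroup.index_ne_zero_of_finite
  rw [← hmul] at hle
  have h3 : (Cfsg.Inn P23.Grp).index ≤ 1 := Nat.le_of_mul_le_mul_left (by rwa [mul_one]) (by norm_num)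
  show (Cfsg.Inn P23.Grp).index = 1
  omega

end

/-- The outer automorphism group of the presented Fi23 is trivial. -/
theorem card_out : Nat.card (Cfsg.Out P23.Grp) = 1 := by
  obtain ⟨d, hd⟩ := exists_data
  exact card_out_of hd

end Cfsg.Agent.ThreeTransFi23Out41
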