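import Cfsg.Agent.Lib.ThreeTransFixed58

/-!
# The normaliser of a subgroup of order 13 in type M(23)

Given the number of members, the centralisers of members and the normaliser of a subgroup of order 13
in a group of type M(22).
-/

set_option autoImplicit false
set_option linter.unusedSectionVars false
set_option linter.style.haveILetI false

namespace Cfsg.Agent.ThreeTransM23Thirteen58

open Subgroup Cfsg.Agent.ThreeTransDescent Cfsg.Agent.ThreeTransFixed58

variable {G : Type*} [Group G] [Finite G] {D : Set G}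

/-- A subgroup of odd prime order below a double cover. -/
theorem lift {L : Subgroup G} {Y : Type*} [Group Y] (π : ↥L →* Y) (hsurj : Function.Surjective π)
    {d : G} (hdL : d ∈ L) (hd2 : d * d = 1) (hd1 : d ≠ 1)
    (hker : ∀ x : ↥L, π x = 1 ↔ (x : G) = 1 ∨ (x : G) = d) (hdc : ∀ x ∈ L, Commute d x)
    {X : Subgroup G} (hXL : X ≤ L) {p n : ℕ} (hp : p.Prime) (hp2 : p ≠ 2) (hX : Nat.card ↥X = p)
    (hY : ∀ Z : Subgroup Y, Nat.card ↥Z = p →
      Nat.card ↥(normalizer ((Z : Subgroup Y) : Set Y)) = n ∧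
        centralizer ((Z : Subgroup Y) : Set Y) = Z) :
    (∀ c ∈ L, (∀ x ∈ X, Commute x c) → c ∈ X ∨ c * d ∈ X) ∧
      Nat.card ↥(L ⊓ normalizer ((X : Subgroup G) : Set G)) = 2 * n := by
  have hodd : Odd p := hp.odd_of_ne_two hp2
  have hpow : ∀ x ∈ X, x ^ p = 1 := fun x hx => by
    have := congrArg Subtype.val (pow_card_eq_one' (x := (⟨x, hx⟩ : ↥X)))
    rw [hX] at this
    simpa using this
  have hdp : d ^ p = d := by
    obtain ⟨k, rfl⟩ := hodd
    rw [pow_succ, pow_mul, pow_two, hd2, one_pow, one_mul]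
  have hfib : ∀ x y : ↥L, π x = π y → (x : G) = y ∨ (x : G) = d * y := by
    intro x y h
    have h1 : π (x * y⁻¹) = 1 := by rw [map_mul, map_inv, h, mul_inv_cancel]
    rcases (hker _).mp h1 with k | k
    · exact Or.inl (mul_inv_eq_one.mp (by simpa using k))
    · exact Or.inr (mul_inv_eq_iff_eq_mul.mp (by simpa using k))
  set Z := (X.subgroupOf L).map π with hZ
  have hinj : ∀ x : ↥L, (x : G) ∈ X → π x = 1 → x = 1 := by
    intro x hx h
    rcases (hker x).mp h with k | k
    · exact Subtype.ext k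
    · have := hpow _ hx
      rw [k, hdp] at this
      exact absurd this hd1
  have hZcard : Nat.card ↥Z = p := by
    rw [hZ, ← hX, ← Nat.card_congr (subgroupOfEquivOfLe hXL).toEquiv]
    refine (Nat.card_congr (Equiv.ofBijective (fun x : ↥(X.subgroupOf L) =>
      (⟨π x, mem_map_of_mem _ x.2⟩ : ↥((X.subgroupOf L).map π))) ⟨fun x y h => ?_, ?_⟩)).symm
    · have h1 : π ((x : ↥L) * (y : ↥L)⁻¹) = 1 := by
        rw [map_mul, map_inv, mul_inv_eq_one]; exact congrArg Subtype.val h
      exact Subtype.ext (mul_inv_eq_one.mp (hinj _ (mul_mem x.2 (inv_mem y.2)) h1))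
    · rintro ⟨_, x, hx, rfl⟩
      exact ⟨⟨x, hx⟩, rfl⟩
  obtain ⟨hn, hc⟩ := hY Z hZcard
  constructor
  · intro c hcL hcX
    have h1 : π ⟨c, hcL⟩ ∈ centralizer (Z : Set Y) := mem_centralizer_iff.mpr fun z hz => by
      obtain ⟨x, hx, rfl⟩ := hz
      rw [← map_mul, ← map_mul]
      exact congrArg π (Subtype.ext (hcX x hx).eq)
    rw [hc] at h1
    obtain ⟨x, hx, hxc⟩ := h1
    rcases hfib _ _ hxc.symm with k | k
    · refine Or.inl ?_
      rw [show c = (x : G) from k]
      exact hx
    · right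
      rw [show c = d * x from k, mul_assoc, ← (hdc x x.2).eq, ← mul_assoc, hd2, one_mul]
      exact hx
  · have heq : (L ⊓ normalizer ((X : Subgroup G) : Set G)).subgroupOf L =
        (normalizer ((Z : Subgroup Y) : Set Y)).comap π := by
      ext g
      rw [mem_subgroupOf, mem_inf, mem_comap, mem_normalizer_iff, mem_normalizer_iff]
      simp only [SetLike.coe_mem, true_and]
      constructor
      · intro h z
        constructor
        · rintro ⟨x, hx, rfl⟩
          exact ⟨g * x * g⁻¹, (h _).mp hx, by simp⟩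
        · rintro ⟨x, hx, e⟩
          refine ⟨g⁻¹ * x * g, (h _).mpr ?_, ?_⟩
          · show (g : G) * ((g : G)⁻¹ * (x : G) * g) * (g : G)⁻¹ ∈ X
            rw [show (g : G) * ((g : G)⁻¹ * (x : G) * g) * (g : G)⁻¹ = x by group]
            exact hx
          · rw [map_mul, map_mul, map_inv, e]; group
      · intro h
        have hmem : ∀ x ∈ X, (g : G) * x * (g : G)⁻¹ ∈ X := by
          intro x hx
          obtain ⟨y, hy, e⟩ := (h _).mp ⟨⟨x, hXL hx⟩, hx, rfl⟩
          rw [← map_inv, ← map_mul, ← map_mul] at e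
          rcases hfib _ _ e.symm with k | k
          · exact (show (g : G) * x * (g : G)⁻¹ = y from k) ▸ hy
          · exfalso
            have k' : (g : G) * x * (g : G)⁻¹ = d * y := k
            have h1 := congrArg (· ^ p) k'
            simp only [conj_pow, hpow x hx, mul_one, mul_inv_cancel] at h1
            rw [(hdc y y.2).mul_pow, hdp, hpow _ (show (y : G) ∈ X from hy), mul_one] at h1
            exact hd1 h1.symm
        intro x
        refine ⟨hmem x, fun hx => ?_⟩
        have hg : g * g⁻¹ = 1 := mul_inv_cancel g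
        have h' : ∀ z, z ∈ Z ↔ (π g)⁻¹ * z * π g ∈ Z := fun z => by
          rw [h ((π g)⁻¹ * z * π g)]
          group
        have hmem' : ∀ x ∈ X, (g : G)⁻¹ * x * g ∈ X := by
          intro x hx
          obtain ⟨y, hy, e⟩ := (h' _).mp ⟨⟨x, hXL hx⟩, hx, rfl⟩
          rw [← map_inv, ← map_mul, ← map_mul] at e
          rcases hfib _ _ e.symm with k | k
          · exact (show (g : G)⁻¹ * x * g = y from k) ▸ hy
          · exfalso
            have k' : (g : G)⁻¹ * x * ((g : G)⁻¹)⁻¹ = d * y := by rw [inv_inv]; exact k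
            have h1 := congrArg (· ^ p) k'
            simp only [conj_pow, hpow x hx, mul_one, mul_inv_cancel] at h1
            rw [(hdc y y.2).mul_pow, hdp, hpow _ (show (y : G) ∈ X from hy), mul_one] at h1
            exact hd1 h1.symm
        simpa [mul_assoc] using hmem' _ hx
    have hk : Nat.card ↥π.ker = 2 := by
      rw [show 2 = Set.ncard ({1, ⟨d, hdL⟩} : Set ↥L) from
        (Set.ncard_pair fun e => hd1 (congrArg Subtype.val e).symm).symm, ← Nat.card_coe_set_eq]
      refine Nat.card_congr (Equiv.setCongr (Set.ext fun x => ?_))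
      show π x = 1 ↔ x = 1 ∨ x = ⟨d, hdL⟩
      rw [hker, Subtype.ext_iff, Subtype.ext_iff]
      rfl
    rw [← Nat.card_congr (subgroupOfEquivOfLe inf_le_left).toEquiv, heq, ← hk, ← hn]
    set N := normalizer ((Z : Subgroup Y) : Set Y)
    let f : ↥(N.comap π) →* ↥N := π.subgroupComap N
    have hfs : Function.Surjective f := fun y => by
      obtain ⟨x, hx⟩ := hsurj y
      exact ⟨⟨x, by rw [mem_comap, hx]; exact y.2⟩, Subtype.ext hx⟩
    rw [f.ker.card_eq_card_quotient_mul_card_subgroup,
      Nat.card_congr (QuotientGroup.quotientKerEquivOfSurjective f hfs).toEquiv, mul_comm]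
    congr 1
    refine Nat.card_congr ⟨fun x => ⟨x.1.1, congrArg Subtype.val x.2⟩,
      fun x => ⟨⟨x.1, by rw [mem_comap, show π x = 1 from x.2]; exact one_mem _⟩, Subtype.ext x.2⟩,
      fun x => rfl, fun x => rfl⟩

/-- The number of fixed members modulo the prime. -/
theorem modEq_fixed {X : Subgroup G} {p : ℕ} [Fact p.Prime] (hX : Nat.card ↥X = p)
    (hconj : ∀ g : G, ∀ d ∈ D, g * d * g⁻¹ ∈ D) :
    D.ncard ≡ (fixSet D X).ncard [MOD p] := by
  letI : MulAction ↥X ↥D :=
    { smul := fun x d => ⟨(x : G) * d * (x : G)⁻¹, hconj x d d.2⟩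
      one_smul := fun d => Subtype.ext (by show (1 : G) * d * (1 : G)⁻¹ = d; simp)
      mul_smul := fun x y d => Subtype.ext (by
        show ((x * y : ↥X) : G) * d * ((x * y : ↥X) : G)⁻¹ = x * (y * d * (y : G)⁻¹) * (x : G)⁻¹
        push_cast; group) }
  have h := (IsPGroup.of_card (p := p) (n := 1) (by rw [hX, pow_one]) :
    IsPGroup p ↥X).card_modEq_card_fixedPoints ↥D
  rw [Nat.card_coe_set_eq] at h
  refine h.trans ?_
  refine (?_ : Nat.card (MulAction.fixedPoints ↥X ↥D) = (fixSet D X).ncard) ▸ Nat.ModEq.refl _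
  rw [← Nat.card_coe_set_eq]
  have key : ∀ d : ↥D, d ∈ MulAction.fixedPoints ↥X ↥D ↔ (d : G) ∈ fixSet D X := fun d => by
    rw [MulAction.mem_fixedPoints, mem_fixSet]
    refine ⟨fun h => ⟨d.2, fun x hx => mul_inv_eq_iff_eq_mul.mp (congrArg Subtype.val (h ⟨x, hx⟩))⟩,
      fun h x => Subtype.ext (mul_inv_eq_iff_eq_mul.mpr (h.2 x x.2).eq)⟩
  exact Nat.card_congr
    { toFun := fun d => ⟨d.1, (key d.1).mp d.2⟩
      invFun := fun d => ⟨⟨d.1, d.2.1⟩, (key _).mpr d.2⟩
      left_inv := fun d => rfl
      right_inv := fun d => rfl }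

/-- The closure of two non-commuting members. -/
theorem card_closure_pair (ht : ThreeTransRel.TSys D) {a b : G} (ha : a ∈ D) (hb : b ∈ D)
    (hn : ¬ Commute a b) : Nat.card ↥(closure ({a, b} : Set G)) ≤ 6 := by
  classical
  have hbr := ht.braid a ha b hb hn
  have haa := ht.sq a ha
  have hbb := ht.sq b hb
  let S : Finset G := {1, a, b, a * b * a, a * b, b * a}
  have hstep : ∀ g ∈ ({a, b} : Set G), ∀ y ∈ S, g * y ∈ S := by
    intro g hg y hy
    simp only [S, Finset.mem_insert, Finset.mem_singleton] at hy ⊢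
    simp only [Set.mem_insert_iff, Set.mem_singleton_iff] at hg
    rcases hg with e | e <;> subst e
    · rcases hy with e | e | e | e | e | e <;> rw [e]
      · simp
      · simp [haa]
      · simp
      · simp [← mul_assoc, haa]
      · simp [← mul_assoc, haa]
      · simp [← mul_assoc]
    · rcases hy with e | e | e | e | e | e <;> rw [e]
      · simp
      · simp
      · simp [hbb]
      · rw [hbr]; simp [← mul_assoc, hbb]
      · rw [hbr]; simp [← mul_assoc]
      · simp [← mul_assoc, hbb]
  have hsub : (closure ({a, b} : Set G) : Set G) ⊆ S := by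
    intro x hx
    induction hx using Subgroup.closure_induction_left with
    | one => simp [S]
    | mul_left g hg y _ ih => exact hstep g hg y ih
    | inv_mul_cancel g hg y _ ih =>
      have : g⁻¹ = g := by
        simp only [Set.mem_insert_iff, Set.mem_singleton_iff] at hg
        rcases hg with e | e <;> subst e
        · exact ht.inv_self ha
        · exact ht.inv_self hb
      rw [this]; exact hstep g hg y ih
  calc Nat.card ↥(closure ({a, b} : Set G)) ≤ (S : Set G).ncard := by
        rw [← Nat.card_coe_set_eq]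
        exact Nat.card_mono (Set.toFinite _) hsub
    _ ≤ 6 := by rw [Set.ncard_coe_finset]; exact Finset.card_le_six

/-- Type M(23): the conclusion, given the local data. -/
theorem thirteen (hD : Cfsg.IsThreeTranspositionGroup D) (hv : D.ncard = 31671)
    (hsyl : ¬ 13 ^ 2 ∣ Nat.card G)
    (hloc : ∀ d ∈ D, centralizer ({d} : Set G) = loc D d)
    (hlift : ∀ d ∈ D, ∀ X : Subgroup G, X ≤ loc D d → Nat.card ↥X = 13 →
      (∀ c ∈ loc D d, (∀ x ∈ X, Commute x c) → c ∈ X ∨ c * d ∈ X) ∧
        Nat.card ↥(loc D d ⊓ normalizer ((X : Subgroup G) : Set G)) = 156)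
    (hcommon : ∀ d ∈ D, ∀ e ∈ D, ¬ Commute d e → ∃ f ∈ D, Commute f d ∧ Commute f e)
    (hnear : ∀ f ∈ D, (near D f).ncard = 3510 ∧
      (∀ x ∈ near D f, {v | v ∈ near D f ∧ v ≠ x ∧ Commute x v}.ncard = 693) ∧
      ∀ x ∈ near D f, ∀ y ∈ near D f, ¬ Commute x y →
        {v | v ∈ near D f ∧ (v ≠ x ∧ Commute x v) ∧ v ≠ y ∧ Commute y v}.ncard = 126) :
    (∀ X Y : Subgroup G, Nat.card X = 13 → Nat.card Y = 13 →
      ∃ g : G, X.map (MulAut.conj g).toMonoidHom = Y) ∧
    ∀ X : Subgroup G, Nat.card X = 13 → ∃ F : Subgroup G, Nat.card ↥F = 78 ∧ X ≤ F ∧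
      F ⊓ centralizer ((X : Subgroup G) : Set G) = X ∧
      F ⊓ closure (D ∩ (centralizer ((X : Subgroup G) : Set G) : Set G)) = ⊥ ∧
      (∀ x ∈ F, ∀ y ∈ closure (D ∩ (centralizer ((X : Subgroup G) : Set G) : Set G)),
        x * y = y * x) ∧
      F ⊔ closure (D ∩ (centralizer ((X : Subgroup G) : Set G) : Set G)) =
        normalizer ((X : Subgroup G) : Set G) ∧
      Nonempty (↥(closure (D ∩ (centralizer ((X : Subgroup G) : Set G) : Set G))) ≃*
        Equiv.Perm (Fin 3)) := by
  classical
  haveI : Fact (Nat.Prime 13) := ⟨by norm_num⟩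
  have ht := ThreeTransRel.tsys_of_group hD
  constructor
  · intro X Y hX hY
    have hexp : (Nat.card G).factorization 13 = 1 := by
      have h0 : Nat.card G ≠ 0 := Nat.card_pos.ne'
      have h1 : 13 ∣ Nat.card G := hX ▸ Subgroup.card_subgroup_dvd_card X
      have hp : Nat.Prime 13 := by norm_num
      have a := (hp.dvd_iff_one_le_factorization h0).mp h1
      have b : ¬ 2 ≤ (Nat.card G).factorization 13 := fun h =>
        hsyl ((hp.pow_dvd_iff_le_factorization h0).mpr h)
      omega
    let P : Sylow 13 G := Sylow.ofCard X (by rw [hexp, pow_one, hX])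
    let Q : Sylow 13 G := Sylow.ofCard Y (by rw [hexp, pow_one, hY])
    obtain ⟨g, hg⟩ := MulAction.exists_smul_eq G P Q
    exact ⟨g, congrArg (fun S : Sylow 13 G => (S : Subgroup G)) hg⟩
  intro X hX
  have hXc : ∀ d ∈ fixSet D X, X ≤ loc D d := fun d hd x hx => by
    rw [← hloc d hd.1, mem_centralizer_singleton_iff]; exact ((mem_fixSet.mp hd).2 x hx).eq
  have hcl : ∀ d ∈ D, ∀ c : G, Commute c d → c ∈ loc D d := fun d hd c hc => by
    rw [← hloc d hd, mem_centralizer_singleton_iff]; exact hc.eq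
  have H : Hyp D X 13 := ⟨hD, hX, by norm_num, by norm_num, fun d hd c hc hcd =>
    (hlift d hd.1 X (hXc d hd) hX).1 c (hcl d hd.1 c hcd) hc⟩
  set K := fixSet D X with hK
  have hmod : D.ncard ≡ K.ncard [MOD 13] := modEq_fixed (D := D) hX hD.2.1
  rw [hv] at hmod
  have hle : K.ncard ≤ 31671 := hv ▸ Set.ncard_le_ncard Set.inter_subset_left (Set.toFinite _)
  have hKne : K.Nonempty := by
    by_contra h
    rw [Set.not_nonempty_iff_eq_empty.mp h, Set.ncard_empty] at hmod
    exact absurd hmod (by decide)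
  obtain ⟨d, hd⟩ := hKne
  obtain ⟨⟨a, ha⟩, hcom⟩ := H.main hd
  -- exactly three fixed members
  have hk3 : K.ncard = 3 := by
    by_contra hne
    have h81 : 81 ≤ K.ncard := by
      rw [ha] at hmod hle hne ⊢
      have : a < 10 := by
        by_contra h
        have := Nat.pow_le_pow_right (show 0 < 3 by norm_num) (Nat.le_of_not_lt h)
        norm_num at this
        omega
      interval_cases a <;> first | omega | exact absurd hmod (by decide)
    obtain ⟨e, he, hde⟩ := Set.exists_ne_of_one_lt_ncard (by omega : 1 < K.ncard) d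
    obtain ⟨f, hf, hfd, hfe⟩ := hcommon d hd.1 e he.1 (H.not_commute hd he hde.symm)
    have hall := hcom f hf d hd e he hde.symm hfd hfe
    have hfK : ∀ w ∈ K, w ≠ f := fun w hw h => by
      subst h
      by_cases h1 : w = d
      · exact H.not_commute hw he (h1 ▸ hde.symm) hfe
      · exact H.not_commute hw hd h1 hfd
    obtain ⟨K', hK', hK'c⟩ := Set.exists_subset_card_eq h81
    obtain ⟨hV, hdeg, hmu⟩ := hnear f hf
    have hsub : K' ⊆ near D f := fun w hw =>
      ⟨(hK' hw).1, hfK w (hK' hw), hall w (hK' hw)⟩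
    have := coclique_bound (V := near D f) (K := K') (fun x hx => hdeg x (hsub hx))
      (fun x hx y hy hxy => hmu x (hsub hx) y (hsub hy) (H.not_commute (hK' hx) (hK' hy) hxy)) hK'c
    rw [hV] at this
    norm_num at this
  obtain ⟨b, hb, hbd⟩ := Set.exists_ne_of_one_lt_ncard (by omega : 1 < K.ncard) d
  set N := normalizer ((X : Subgroup G) : Set G) with hN
  have hcenN : centralizer (X : Set G) ≤ N := Subgroup.centralizer_le_normalizer (X : Set G)
  have hNK : ∀ g ∈ N, ∀ w ∈ K, g * w * g⁻¹ ∈ K := by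
    intro g hg w hw
    refine mem_fixSet.mpr ⟨hD.2.1 g w hw.1, fun x hx => ?_⟩
    have hx' : g⁻¹ * x * g ∈ X := by
      have := (mem_normalizer_iff.mp (inv_mem hg) x).mp hx
      rwa [inv_inv] at this
    have := (Commute.conj_iff g).mpr ((mem_fixSet.mp hw).2 _ hx')
    rwa [show g * (g⁻¹ * x * g) * g⁻¹ = x by group] at this
  have hNcard : Nat.card ↥N = 3 * 156 := by
    rw [ThreeTransM22Triples17.card_eq_mul N K hd (fun g hg => hNK g hg d hd) (fun e he => by
      obtain ⟨g, hg, hge⟩ := H.transitive hd he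
      exact ⟨g, hcenN hg, hge⟩), hk3, hloc d hd.1, inf_comm,
      (hlift d hd.1 X (hXc d hd) hX).2]
  set F := N ⊓ centralizer K with hF
  set E := closure (D ∩ (centralizer ((X : Subgroup G) : Set G) : Set G)) with hE
  have hKE : K ⊆ E := fun w hw => subset_closure hw
  have hEC : E ≤ centralizer (X : Set G) := (closure_le _).mpr fun w hw => hw.2
  have hXK : X ≤ F := fun x hx => ⟨le_normalizer hx,
    mem_centralizer_iff.mpr fun w hw => ((mem_fixSet.mp hw).2 x hx).symm.eq⟩
  have hFC : F ⊓ centralizer (X : Set G) = X := by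
    refine le_antisymm (fun z hz => ?_) (le_inf hXK fun x hx => ?_)
    · have hzX := mem_centralizer_iff.mp hz.2
      have hzd : Commute z d := (mem_centralizer_iff.mp hz.1.2 d hd).symm
      have hzb : Commute z b := (mem_centralizer_iff.mp hz.1.2 b hb).symm
      rcases H.cent d hd z hzX hzd with k | k
      · exact k
      rcases H.cent b hb z hzX hzb with k' | k'
      · exact k'
      exfalso
      have h1 : d * b ∈ X := by
        have h2 := mul_mem (inv_mem k) k'
        rwa [mul_inv_rev, ht.inv_self hd.1, mul_assoc, inv_mul_cancel_left] at h2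
      have h2 := H.eq_one_three h1 (ThreeTrans.cube_of_not_commute hD.1 hd.1 hb.1
        (H.not_commute hd hb hbd.symm))
      exact hbd (by rw [eq_inv_of_mul_eq_one_right h2, ht.inv_self hd.1])
    · haveI := isCyclic_of_prime_card hX
      exact mem_centralizer_iff.mpr fun y hy =>
        congrArg Subtype.val (IsMulCommutative.is_comm.comm (⟨y, hy⟩ : ↥X) ⟨x, hx⟩)
  -- the three members
  set c := d * b * d with hc
  have hcK : c ∈ K := by
    have := H.conj_fix hb hd.2
    rwa [ht.inv_self hd.1] at this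
  have hcd : c ≠ d := fun e => hbd (by
    have := congrArg (fun t => d * t * d) e
    simp only [hc, ht.conj_conj hd.1, ht.sq d hd.1, one_mul] at this
    exact this)
  have hcb : c ≠ b := fun e => H.not_commute hd hb hbd.symm (by
    show d * b = b * d
    conv_rhs => rw [← e, hc, mul_assoc, ht.sq d hd.1, mul_one])
  have hK3 : K = {d, b, c} := by
    refine (Set.eq_of_subset_of_ncard_le ?_ ?_ (Set.toFinite _)).symm
    · intro w hw
      simp only [Set.mem_insert_iff, Set.mem_singleton_iff] at hw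
      rcases hw with e | e | e <;> rw [e] <;> assumption
    · rw [hk3, Set.ncard_eq_three.mpr ⟨d, b, c, hbd.symm, hcd.symm, hcb.symm, rfl⟩]
  have hEpair : E = closure ({d, b} : Set G) := by
    refine le_antisymm ((closure_le _).mpr fun w hw => ?_) (closure_mono ?_)
    · have hw' : w ∈ K := hw
      rw [hK3] at hw'
      simp only [Set.mem_insert_iff, Set.mem_singleton_iff] at hw'
      have h1 : d ∈ closure ({d, b} : Set G) := subset_closure (by simp)
      have h2 : b ∈ closure ({d, b} : Set G) := subset_closure (by simp)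
      rcases hw' with e | e | e <;> rw [e]
      · exact h1
      · exact h2
      · exact mul_mem (mul_mem h1 h2) h1
    · intro w hw
      simp only [Set.mem_insert_iff, Set.mem_singleton_iff] at hw
      rcases hw with e | e <;> rw [e]
      · exact hd
      · exact hb
  have hE6 : Nat.card ↥E ≤ 6 := by
    rw [hEpair]; exact card_closure_pair ht hd.1 hb.1 (H.not_commute hd hb hbd.symm)
  have hFE : F ⊓ E = ⊥ := by
    refine eq_bot_iff.mpr fun z hz => mem_bot.mpr ?_
    have hzX : z ∈ X := hFC.le ⟨hz.1, hEC hz.2⟩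
    have h2 : orderOf z ∣ Nat.card ↥E := by
      have := orderOf_dvd_natCard (⟨z, hz.2⟩ : ↥E)
      rwa [Subgroup.orderOf_mk] at this
    refine H.eq_one hzX (orderOf_dvd_iff_pow_eq_one.mp h2) (Nat.Coprime.symm ?_)
    exact (Nat.Prime.coprime_iff_not_dvd (by norm_num)).mpr fun h =>
      absurd (Nat.le_of_dvd Nat.card_pos h) (by omega)
  have hcomm : ∀ x ∈ F, ∀ y ∈ E, x * y = y * x := by
    intro x hx y hy
    have hle : E ≤ centralizer ({x} : Set G) := (closure_le _).mpr fun w hw =>
      mem_centralizer_singleton_iff.mpr (mem_centralizer_iff.mp hx.2 w hw)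
    exact (mem_centralizer_singleton_iff.mp (hle hy)).symm
  -- the action on the three members
  letI : MulAction ↥N ↥K :=
    { smul := fun g w => ⟨(g : G) * w * (g : G)⁻¹, hNK g g.2 w w.2⟩
      one_smul := fun w => Subtype.ext (by show (1 : G) * w * (1 : G)⁻¹ = w; simp)
      mul_smul := fun g k w => Subtype.ext (by
        show ((g * k : ↥N) : G) * w * ((g * k : ↥N) : G)⁻¹ = g * (k * w * (k : G)⁻¹) * (g : G)⁻¹
        push_cast; group) }
  let ψ := MulAction.toPermHom ↥N ↥K
  have hψ : ψ.ker = F.subgroupOf N := by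
    ext g
    rw [MonoidHom.mem_ker, mem_subgroupOf, hF, mem_inf, mem_centralizer_iff]
    constructor
    · intro h
      refine ⟨g.2, fun w hw => ?_⟩
      exact (mul_inv_eq_iff_eq_mul.mp (congrArg Subtype.val (Equiv.ext_iff.mp h ⟨w, hw⟩))).symm
    · intro h
      refine Equiv.ext fun w => Subtype.ext ?_
      show (g : G) * w * (g : G)⁻¹ = w
      rw [mul_inv_eq_iff_eq_mul]; exact (h.2 w w.2).symm
  have hEN : E ≤ N := hEC.trans hcenN
  let χ : ↥E →* Equiv.Perm ↥K := ψ.comp (Subgroup.inclusion hEN)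
  have hχ : Function.Injective χ := by
    refine (injective_iff_map_eq_one χ).mpr fun z hz => Subtype.ext (mem_bot.mp (hFE.le ⟨?_, z.2⟩))
    have h : Subgroup.inclusion hEN z ∈ ψ.ker := hz
    rw [hψ] at h
    exact h
  have hP : Nat.card (Equiv.Perm ↥K) = 6 := by
    rw [Nat.card_perm, Nat.card_coe_set_eq, hk3]; rfl
  have hE6' : Nat.card ↥E = 6 := by
    refine le_antisymm hE6 (Nat.le_of_dvd Nat.card_pos ?_)
    have h2 : 2 ∣ Nat.card ↥E := by
      have := orderOf_dvd_natCard (⟨d, hKE hd⟩ : ↥E)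
      rwa [Subgroup.orderOf_mk, hD.1.1 d hd.1] at this
    have h3 : 3 ∣ Nat.card ↥E := by
      have := orderOf_dvd_natCard (⟨d * b, mul_mem (hKE hd) (hKE hb)⟩ : ↥E)
      rwa [Subgroup.orderOf_mk, orderOf_eq_prime (ThreeTrans.cube_of_not_commute hD.1 hd.1 hb.1
        (H.not_commute hd hb hbd.symm)) fun h => hbd (by
          rw [eq_inv_of_mul_eq_one_right h, ht.inv_self hd.1])] at this
    exact (show Nat.Coprime 2 3 by norm_num).mul_dvd_of_dvd_of_dvd h2 h3
  have hbij : Function.Bijective χ :=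
    (Nat.bijective_iff_injective_and_card χ).mpr ⟨hχ, by rw [hE6', hP]⟩
  have hFcard : Nat.card ↥F = 78 := by
    have hψs : Function.Surjective ψ := fun σ => by
      obtain ⟨z, hz⟩ := hbij.2 σ
      exact ⟨_, hz⟩
    have h := ψ.ker.card_eq_card_quotient_mul_card_subgroup
    rw [Nat.card_congr (QuotientGroup.quotientKerEquivOfSurjective ψ hψs).toEquiv, hP, hNcard, hψ,
      Nat.card_congr (subgroupOfEquivOfLe (inf_le_left : F ≤ N)).toEquiv] at h
    change 3 * 156 = 6 * Nat.card ↥F at h
    omega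
  refine ⟨F, hFcard, hXK, hFC, hFE, hcomm, le_antisymm (sup_le inf_le_left hEN) fun g hg => ?_,
    ⟨(MulEquiv.ofBijective χ hbij).trans
      (Finite.equivFinOfCardEq (by rw [Nat.card_coe_set_eq, hk3])).permCongrHom⟩⟩
  obtain ⟨z, hz⟩ := hbij.2 (ψ ⟨g, hg⟩)
  have hmem : ⟨g, hg⟩ * (Subgroup.inclusion hEN z)⁻¹ ∈ ψ.ker := by
    rw [MonoidHom.mem_ker, map_mul, map_inv, ← hz]
    exact mul_inv_cancel (χ z)
  rw [hψ, mem_subgroupOf] at hmem
  have : g = g * (z : G)⁻¹ * z := by rw [inv_mul_cancel_right]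
  rw [this]
  exact mul_mem (mem_sup_left hmem) (mem_sup_right z.2)

end Cfsg.Agent.ThreeTransM23Thirteen58
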