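import Cfsg.Agent.Lib.ThreeTransDescent
import Cfsg.Agent.Lib.ThreeTransM23Thirteen58

/-!
# Subgroups of odd prime order in the centralizer of a member

Fixed members, centralizers and conjugacy are read off in the quotient of the local group.
-/

set_option autoImplicit false
set_option linter.unusedSectionVars false
set_option linter.style.haveILetI false

namespace Cfsg.Agent.ThreeTransLocLift65

open Subgroup Cfsg.Agent.ThreeTransRel Cfsg.Agent.ThreeTransDescent

variable {G : Type*} [Group G]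

/-- What is used about the local group at `d`. -/
structure Loc (D : Set G) (d : G) : Prop where
  cent : Subgroup.centralizer ({d} : Set G) = loc D d
  ker : ∀ x ∈ loc D d, im D d x = 1 → x = 1 ∨ x = d
  inj : ∀ a ∈ near D d, ∀ b ∈ near D d, im D d a = im D d b → a = b

variable {D : Set G} {d : G}

theorem im_one : im D d 1 = 1 := im_eq (one_mem _)

theorem im_mul {x y : G} (hx : x ∈ loc D d) (hy : y ∈ loc D d) :
    im D d (x * y) = im D d x * im D d y := by
  rw [im_eq hx, im_eq hy, im_eq (mul_mem hx hy)]; rfl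

theorem im_inv {x : G} (hx : x ∈ loc D d) : im D d x⁻¹ = (im D d x)⁻¹ := by
  rw [im_eq hx, im_eq (inv_mem hx)]; rfl

theorem im_conj {k y : G} (hk : k ∈ loc D d) (hy : y ∈ loc D d) :
    im D d (k * y * k⁻¹) = im D d k * im D d y * (im D d k)⁻¹ := by
  rw [im_mul (mul_mem hk hy) (inv_mem hk), im_mul hk hy, im_inv hk]

theorem im_surj (y : ↥(loc D d) ⧸ Subgroup.center ↥(loc D d)) :
    ∃ k ∈ loc D d, im D d k = y := by
  obtain ⟨k, rfl⟩ := QuotientGroup.mk'_surjective _ y
  exact ⟨k, k.2, im_eq k.2⟩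

theorem im_pow {x : G} (hx : x ∈ loc D d) (n : ℕ) : im D d (x ^ n) = im D d x ^ n := by
  induction n with
  | zero => rw [pow_zero, pow_zero, im_one]
  | succ n ih => rw [pow_succ, pow_succ, im_mul (pow_mem hx n) hx, ih]

theorem im_mem_img {a : G} (ha : a ∈ near D d) : im D d a ∈ imgSet D d :=
  ⟨⟨a, near_le_loc ha⟩, ha, (im_eq (near_le_loc ha)).symm⟩

theorem img_exists {y : ↥(loc D d) ⧸ Subgroup.center ↥(loc D d)} (hy : y ∈ imgSet D d) :
    ∃ a ∈ near D d, im D d a = y := by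
  obtain ⟨x, hx, rfl⟩ := hy
  exact ⟨x, hx, im_eq x.2⟩

namespace Loc

variable (L : Loc D d)
include L

theorem self : d ∈ loc D d := L.cent ▸ mem_centralizer_singleton_iff.mpr rfl

theorem mem {x : G} (hx : Commute x d) : x ∈ loc D d :=
  L.cent ▸ mem_centralizer_singleton_iff.mpr hx.eq

theorem im_d : im D d d = 1 := by
  rw [im_eq L.self]
  exact (mk_eq_one_iff _).mpr fun y hy => hy.2.2.symm

theorem im_eq_iff {x y : G} (hx : x ∈ loc D d) (hy : y ∈ loc D d) (h : im D d x = im D d y) :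
    x = y ∨ x = y * d := by
  rcases L.ker (y⁻¹ * x) (mul_mem (inv_mem hy) hx)
      (by rw [im_mul (inv_mem hy) hx, im_inv hy, h, inv_mul_cancel]) with e | e
  · exact Or.inl (by rw [inv_mul_eq_one] at e; exact e.symm)
  · exact Or.inr (by rw [← e]; group)

theorem comm_iff (ht : TSys D) {a b : G} (ha : a ∈ near D d) (hb : b ∈ near D d) :
    Commute (im D d a) (im D d b) ↔ Commute a b := by
  constructor
  · intro h
    refine mul_inv_eq_iff_eq_mul.mp
      (L.inj _ (near_conj ht (commute_d_of_mem_loc (near_le_loc ha)).symm hb) _ hb ?_)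
    rw [im_conj (near_le_loc ha) (near_le_loc hb), mul_inv_eq_iff_eq_mul]
    exact h.eq
  · intro h
    rw [commute_iff_eq, ← im_mul (near_le_loc ha) (near_le_loc hb),
      ← im_mul (near_le_loc hb) (near_le_loc ha), h.eq]

end Loc

/-- The image of a subgroup. -/
abbrev bar (D : Set G) (d : G) (X : Subgroup G) :
    Subgroup (↥(loc D d) ⧸ Subgroup.center ↥(loc D d)) :=
  (X.subgroupOf (loc D d)).map (QuotientGroup.mk' (Subgroup.center ↥(loc D d)))

theorem mem_bar {X : Subgroup G} (hX : X ≤ loc D d)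
    {y : ↥(loc D d) ⧸ Subgroup.center ↥(loc D d)} : y ∈ bar D d X ↔ ∃ x ∈ X, im D d x = y := by
  constructor
  · rintro ⟨x, hx, rfl⟩
    exact ⟨x, hx, im_eq x.2⟩
  · rintro ⟨x, hx, rfl⟩
    exact ⟨⟨x, hX hx⟩, hx, (im_eq (hX hx)).symm⟩

/-- The lifting data for a subgroup of order `p` commuting with `d`. -/
structure Odd (D : Set G) (d : G) (X : Subgroup G) (p : ℕ) : Prop where
  loc : Loc D d
  ts : TSys D
  mem : d ∈ D
  ne_one : d ≠ 1
  comm : ∀ x ∈ X, Commute x d
  prime : p.Prime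
  odd : p ≠ 2
  card : Nat.card ↥X = p

theorem mem_normalizer_of_maps [Finite G] {X : Subgroup G} {g : G}
    (h : ∀ x ∈ X, g * x * g⁻¹ ∈ X) : g ∈ normalizer (X : Set G) := by
  have e : X.map (MulAut.conj g).toMonoidHom = X := by
    refine Subgroup.eq_of_le_of_card_ge ?_ ?_
    · rintro _ ⟨x, hx, rfl⟩
      exact h x hx
    · rw [← Nat.card_congr (Subgroup.equivMapOfInjective X _ (MulAut.conj g).injective).toEquiv]
  refine mem_normalizer_iff.mpr fun x => ⟨h x, fun hx => ?_⟩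
  rw [← e] at hx
  obtain ⟨y, hy, e'⟩ := hx
  have : y = x := mul_left_cancel (mul_right_cancel e')
  exact this ▸ hy

namespace Odd

variable [Finite G] {X : Subgroup G} {p : ℕ} (O : Odd D d X p)
include O

theorem le_loc : X ≤ ThreeTransDescent.loc D d := fun x hx => O.loc.mem (O.comm x hx)

theorem pow_eq {x : G} (hx : x ∈ X) : x ^ p = 1 := by
  have := congrArg Subtype.val (pow_card_eq_one' (x := (⟨x, hx⟩ : ↥X)))
  rw [O.card] at this
  simpa using this

theorem d_pow : d ^ p = d := by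
  obtain ⟨k, rfl⟩ := O.prime.odd_of_ne_two O.odd
  rw [pow_succ, pow_mul, pow_two, O.ts.sq d O.mem, one_pow, one_mul]

theorem d_not_mem : d ∉ X := fun h => O.ne_one (by rw [← O.d_pow, O.pow_eq h])

theorem card_bar : Nat.card ↥(bar D d X) = p := by
  have hdvd : Nat.card ↥(bar D d X) ∣ p := by
    have h := Subgroup.card_map_dvd (X.subgroupOf (ThreeTransDescent.loc D d))
      (QuotientGroup.mk' (Subgroup.center ↥(ThreeTransDescent.loc D d)))
    rwa [Nat.card_congr (Subgroup.subgroupOfEquivOfLe O.le_loc).toEquiv, O.card] at h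
  refine ((Nat.dvd_prime O.prime).mp hdvd).resolve_left fun h1 => ?_
  have hsub : ∀ x ∈ X, x = 1 := fun x hx => by
    have hb : im D d x = 1 := by
      rw [← Subgroup.mem_bot, ← Subgroup.eq_bot_of_card_eq _ h1]
      exact (mem_bar O.le_loc).mpr ⟨x, hx, rfl⟩
    rcases O.loc.ker x (O.le_loc hx) hb with e | e
    · exact e
    · exact absurd (e ▸ hx) O.d_not_mem
  have : X = ⊥ := (Subgroup.eq_bot_iff_forall X).mpr hsub
  have hc := O.card
  rw [this, Subgroup.card_bot] at hc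
  exact O.prime.ne_one hc.symm

/-- An element of exponent `p` over the image of `X` lies in `X`. -/
theorem pull {x : G} (hx : x ∈ ThreeTransDescent.loc D d) (hxp : x ^ p = 1)
    (h : im D d x ∈ bar D d X) : x ∈ X := by
  obtain ⟨y, hy, e⟩ := (mem_bar O.le_loc).mp h
  rcases O.loc.im_eq_iff hx (O.le_loc hy) e.symm with h' | h'
  · exact h' ▸ hy
  · exfalso
    have hd : (y * d) ^ p = d := by rw [(O.comm y hy).mul_pow, O.pow_eq hy, one_mul, O.d_pow]
    rw [← h', hxp] at hd
    exact O.ne_one hd.symm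

theorem mem_normalizer_iff {k : G} (hk : k ∈ ThreeTransDescent.loc D d) :
    k ∈ normalizer (X : Set G) ↔ im D d k ∈ normalizer (bar D d X : Set _) := by
  constructor
  · intro h
    refine mem_normalizer_of_maps fun y hy => ?_
    obtain ⟨x, hx, rfl⟩ := (mem_bar O.le_loc).mp hy
    rw [← im_conj hk (O.le_loc hx)]
    exact (mem_bar O.le_loc).mpr ⟨_, (Subgroup.mem_normalizer_iff.mp h x).mp hx, rfl⟩
  · intro h
    refine mem_normalizer_of_maps fun x hx => O.pull (mul_mem (mul_mem hk (O.le_loc hx)) (inv_mem hk))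
      (by rw [conj_pow, O.pow_eq hx, mul_one, mul_inv_cancel]) ?_
    rw [im_conj hk (O.le_loc hx)]
    exact (Subgroup.mem_normalizer_iff.mp h _).mp ((mem_bar O.le_loc).mpr ⟨x, hx, rfl⟩)

theorem near_comm_iff {a : G} (ha : a ∈ near D d) :
    a ∈ centralizer (X : Set G) ↔
      im D d a ∈ centralizer (bar D d X : Set _) := by
  rw [Subgroup.mem_centralizer_iff, Subgroup.mem_centralizer_iff]
  constructor
  · intro h y hy
    obtain ⟨x, hx, rfl⟩ := (mem_bar O.le_loc).mp hy
    rw [← im_mul (O.le_loc hx) (near_le_loc ha), ← im_mul (near_le_loc ha) (O.le_loc hx), h x hx]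
  · intro h x hx
    refine mul_inv_eq_iff_eq_mul.mp
      (O.loc.inj _ (near_conj O.ts (O.comm x hx) ha) _ ha ?_)
    rw [im_conj (O.le_loc hx) (near_le_loc ha), mul_inv_eq_iff_eq_mul]
    exact h _ ((mem_bar O.le_loc).mpr ⟨x, hx, rfl⟩)

theorem im_mem_centralizer {k : G} (hk : k ∈ ThreeTransDescent.loc D d)
    (h : k ∈ centralizer (X : Set G)) : im D d k ∈ centralizer (bar D d X : Set _) := by
  rw [Subgroup.mem_centralizer_iff] at h ⊢
  intro y hy
  obtain ⟨x, hx, rfl⟩ := (mem_bar O.le_loc).mp hy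
  rw [← im_mul (O.le_loc hx) hk, ← im_mul hk (O.le_loc hx), h x hx]

theorem conj_of_bar {Y : Subgroup G} (O' : Odd D d Y p)
    {k : ↥(ThreeTransDescent.loc D d) ⧸ Subgroup.center ↥(ThreeTransDescent.loc D d)}
    (h : (bar D d X).map (MulAut.conj k).toMonoidHom = bar D d Y) :
    ∃ g : G, X.map (MulAut.conj g).toMonoidHom = Y := by
  obtain ⟨g, hg, rfl⟩ := im_surj k
  refine ⟨g, Subgroup.eq_of_le_of_card_ge ?_ ?_⟩
  · rintro _ ⟨x, hx, rfl⟩
    refine O'.pull (mul_mem (mul_mem hg (O.le_loc hx)) (inv_mem hg))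
      (show (g * x * g⁻¹) ^ p = 1 by rw [conj_pow, O.pow_eq hx, mul_one, mul_inv_cancel]) ?_
    show im D d (g * x * g⁻¹) ∈ bar D d Y
    rw [im_conj hg (O.le_loc hx), ← h]
    exact ⟨_, (mem_bar O.le_loc).mpr ⟨x, hx, rfl⟩, rfl⟩
  · rw [← Nat.card_congr (Subgroup.equivMapOfInjective X _ (MulAut.conj g).injective).toEquiv,
      O.card, O'.card]

end Odd

/-- The members centralizing `X`, near `d`, in the quotient. -/
abbrev fixedBar (D : Set G) (d : G) (X : Subgroup G) :
    Set (↥(loc D d) ⧸ Subgroup.center ↥(loc D d)) :=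
  imgSet D d ∩ ↑(centralizer
    ((bar D d X : Subgroup _) : Set (↥(loc D d) ⧸ Subgroup.center ↥(loc D d))))

/-- Conjugacy reduces to subgroups centralizing the same member. -/
theorem conj_fixed [Finite G] {p : ℕ} (hprim : ∀ a ∈ D, ∀ b ∈ D, ∃ g : G, g * a * g⁻¹ = b)
    (hloc : ∀ d ∈ D, ∀ X Y : Subgroup G, Nat.card ↥X = p → Nat.card ↥Y = p →
      (∀ x ∈ X, Commute x d) → (∀ y ∈ Y, Commute y d) →
        ∃ g : G, X.map (MulAut.conj g).toMonoidHom = Y)
    {X Y : Subgroup G} (hX : Nat.card ↥X = p) (hY : Nat.card ↥Y = p)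
    (hfX : ∃ d ∈ D, ∀ x ∈ X, Commute x d) (hfY : ∃ d ∈ D, ∀ y ∈ Y, Commute y d) :
    ∃ g : G, X.map (MulAut.conj g).toMonoidHom = Y := by
  obtain ⟨a, ha, hXa⟩ := hfX
  obtain ⟨b, hb, hYb⟩ := hfY
  obtain ⟨h, hh⟩ := hprim a ha b hb
  set X' := X.map (MulAut.conj h).toMonoidHom with hX'
  obtain ⟨g, hg⟩ := hloc b hb X' Y
    (by rw [hX', ← Nat.card_congr (Subgroup.equivMapOfInjective X _ (MulAut.conj h).injective).toEquiv, hX])
    hY (by
      rintro _ ⟨x, hx, rfl⟩
      show Commute (h * x * h⁻¹) b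
      rw [← hh]
      exact (Commute.conj_iff h).mpr (hXa x hx)) hYb
  refine ⟨g * h, ?_⟩
  rw [← hg, hX', Subgroup.map_map]
  congr 1
  ext x
  simp [mul_assoc]

/-- Conjugacy when every subgroup has a fixed member. -/
theorem conj_reduce [Finite G] {p : ℕ} (hprim : ∀ a ∈ D, ∀ b ∈ D, ∃ g : G, g * a * g⁻¹ = b)
    (hfix : ∀ X : Subgroup G, Nat.card ↥X = p → ∃ d ∈ D, ∀ x ∈ X, Commute x d)
    (hloc : ∀ d ∈ D, ∀ X Y : Subgroup G, Nat.card ↥X = p → Nat.card ↥Y = p →
      (∀ x ∈ X, Commute x d) → (∀ y ∈ Y, Commute y d) →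
        ∃ g : G, X.map (MulAut.conj g).toMonoidHom = Y)
    {X Y : Subgroup G} (hX : Nat.card ↥X = p) (hY : Nat.card ↥Y = p) :
    ∃ g : G, X.map (MulAut.conj g).toMonoidHom = Y :=
  conj_fixed hprim hloc hX hY (hfix X hX) (hfix Y hY)

/-- A fixed member exists when the number of members is not divisible by `p`. -/
theorem exists_fixed [Finite G] (ht : TSys D) {p : ℕ} (hp : p.Prime) (hn : ¬ p ∣ D.ncard)
    {X : Subgroup G} (hX : Nat.card ↥X = p) : ∃ d ∈ D, ∀ x ∈ X, Commute x d := by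
  haveI : Fact p.Prime := ⟨hp⟩
  have h := ThreeTransM23Thirteen58.modEq_fixed (D := D) hX ht.conj
  obtain ⟨d, hd⟩ : (ThreeTransFixed58.fixSet D X).Nonempty := by
    by_contra he
    rw [Set.not_nonempty_iff_eq_empty.mp he, Set.ncard_empty] at h
    exact hn (Nat.modEq_zero_iff_dvd.mp h)
  exact ⟨d, hd.1, fun x hx => ((ThreeTransFixed58.mem_fixSet.mp hd).2 x hx)⟩

end Cfsg.Agent.ThreeTransLocLift65
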