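import Cfsg.Agent.Lib.ThreeTransM23Pres78

/-!
# A group of type M(23) is the sporadic group Fi23 as presented in the prelude
-/

set_option autoImplicit false

namespace Cfsg.Agent.ThreeTransM23Iso78

open Cfsg.Agent.CosetCertFi23Simple (P23)

theorem grp_eq : P23.Grp = Cfsg.Spor.Fi23 := rfl

/-- Bridge to the prelude's presented group. -/
def presEquiv : P23.Grp ≃* Cfsg.Spor.Fi23 := MulEquiv.refl _

/-- A group of type M(23) is `Fi23`. -/
theorem nonempty_fi23 {G : Type*} [Group G] [Finite G] {D : Set G}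
    (hD : Cfsg.IsThreeTranspositionGroup D) (hprim : Cfsg.IsPrimitiveUnderConj D)
    (h23 : Cfsg.IsOfTypeM23 G D) : Nonempty (G ≃* Cfsg.Spor.Fi23) := by
  obtain ⟨e, -⟩ := ThreeTransM23Pres78.exists_iso hD hprim h23
  exact ⟨e.symm.trans presEquiv⟩

/-- The isomorphism from `Fi23` carries the generator `a` to a member. -/
theorem exists_fi23 {G : Type*} [Group G] [Finite G] {D : Set G}
    (hD : Cfsg.IsThreeTranspositionGroup D) (hprim : Cfsg.IsPrimitiveUnderConj D)
    (h23 : Cfsg.IsOfTypeM23 G D) :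
    ∃ e : Cfsg.Spor.Fi23 ≃* G, e (PresentedGroup.of Cfsg.Spor.Fi23.Gen.a) ∈ D := by
  obtain ⟨e, he⟩ := ThreeTransM23Pres78.exists_iso hD hprim h23
  exact ⟨e, he⟩

end Cfsg.Agent.ThreeTransM23Iso78
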