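import Cfsg.Agent.Lib.ThreeTransM24Sign39
import Cfsg.Agent.Lib.ComponentsFitting
import Cfsg.Agent.Lib.ThreeTransSwap

/-!
# Centralizers of members inside the derived group in type M(24)

Inside the derived group (index two, no member), the centralizer of a member is the local quotient.
Also: the generalized Fitting subgroup when a normal quasisimple subgroup contains its centralizer.
-/

set_option autoImplicit false
set_option linter.unusedSectionVars false

namespace Cfsg.Agent.ThreeTransM24Inner39

open Subgroup Cfsg.Agent.ThreeTransRel Cfsg.Agent.ThreeTransDescent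
open Cfsg.Agent.ThreeTransM24Order59 (Hyp)

/-- A normal quasisimple subgroup containing its centralizer is the generalized Fitting subgroup. -/
theorem gen_eq_of_quasisimple {H : Type*} [Group H] [Finite H] {K : Subgroup H} (hn : K.Normal)
    (hq : Cfsg.IsQuasisimple ↥K) (hc : centralizer (K : Set H) ≤ K) :
    Cfsg.generalizedFittingSubgroup H = K := by
  have hK : Cfsg.IsComponent K := ⟨hn.isSubnormal, hq⟩
  refine le_antisymm (sup_le (sSup_le fun L hL => ?_) ?_) (ComponentsFitting.component_le_gen hK)
  · by_cases h : L = K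
    · exact h.le
    · have h' := ComponentsBasic.components_commute hL hK h
      exact (commutator_eq_bot_iff_le_centralizer.mp h').trans hc
  · have h := ComponentsFitting.component_commute_fitting hK
    rw [commutator_comm] at h
    exact (commutator_eq_bot_iff_le_centralizer.mp h).trans hc

variable {G : Type*} [Group G] [Finite G] {D : Set G} {a : G}

/-- The derived group has index two and no member. -/
structure Even (D : Set G) : Prop where
  idx : (commutator G).index = 2
  out : ∀ x ∈ D, x ∉ commutator G

variable (H : Hyp D a) (hL : Even D)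
include H hL

omit H in
theorem mul_mem_derived {x y : G} (hx : x ∈ D) (hy : y ∈ D) : x * y ∈ commutator G :=
  (mul_mem_iff_of_index_two hL.idx).mpr (iff_of_false (hL.out x hx) (hL.out y hy))

theorem mul_self_mem {x : G} (hx : x ∉ commutator G) : x * a ∈ commutator G :=
  (mul_mem_iff_of_index_two hL.idx).mpr (iff_of_false hx (hL.out a H.mem))

omit hL in
theorem mem_loc {x : G} (hx : Commute x a) : x ∈ loc D a := by
  rw [← H.cent]; exact mem_centralizer_singleton_iff.mpr hx.eq

/-- The centralizer of the member in the derived group, mapped to the local quotient. -/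
noncomputable def θ : ↥(commutator G ⊓ centralizer ({a} : Set G)) →*
    ↥(loc D a) ⧸ Subgroup.center ↥(loc D a) :=
  (QuotientGroup.mk' _).comp (Subgroup.inclusion (inf_le_right.trans H.cent.le))

omit hL in
theorem θ_apply (x : ↥(commutator G ⊓ centralizer ({a} : Set G))) : θ H x = im D a (x : G) := by
  rw [im_eq (H.cent.le x.2.2)]; rfl

omit hL in
theorem im_self : im D a a = 1 := by
  rw [im_eq (ThreeTransM24Sign39.self_mem H), QuotientGroup.eq_one_iff,
    ThreeTransM24Sign39.center_le H]
  exact mem_zpowers _

omit hL in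
theorem im_mul {x y : G} (hx : x ∈ loc D a) (hy : y ∈ loc D a) :
    im D a (x * y) = im D a x * im D a y := by
  rw [im_eq hx, im_eq hy, im_eq (mul_mem hx hy)]; rfl

theorem θ_injective : Function.Injective (θ H) := by
  rw [injective_iff_map_eq_one]
  intro x hx
  rw [θ_apply H, im_eq (H.cent.le x.2.2), QuotientGroup.eq_one_iff,
    ThreeTransM24Sign39.center_le H] at hx
  obtain ⟨i, hi⟩ := mem_zpowers_iff.mp hx
  have hi' : a ^ i = (x : G) := congrArg Subtype.val hi
  have h2 : a * a = 1 := H.ts.sq a H.mem
  refine Subtype.ext ?_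
  show (x : G) = 1
  rcases Int.even_or_odd i with ⟨k, rfl⟩ | ⟨k, rfl⟩
  · rw [← hi', zpow_add, ← (Commute.refl a).mul_zpow, h2, one_zpow]
  · exfalso
    have hx' : (x : G) = a := by
      rw [← hi', zpow_add, zpow_mul, zpow_two, h2, one_zpow, one_mul, zpow_one]
    exact hL.out a H.mem (hx' ▸ x.2.1)

/-- Every element of the local quotient comes from the derived group. -/
theorem lift (y : ↥(loc D a) ⧸ Subgroup.center ↥(loc D a)) :
    ∃ x : ↥(commutator G ⊓ centralizer ({a} : Set G)), θ H x = y := by
  obtain ⟨k, rfl⟩ := QuotientGroup.mk'_surjective _ y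
  have hk : (k : G) ∈ centralizer ({a} : Set G) := H.cent.ge k.2
  by_cases hkL : (k : G) ∈ commutator G
  · exact ⟨⟨k, hkL, hk⟩, rfl⟩
  · refine ⟨⟨k * a, mul_self_mem H hL hkL, mul_mem hk (mem_centralizer_singleton_iff.mpr rfl)⟩, ?_⟩
    rw [θ_apply H]
    rw [im_mul H k.2 (ThreeTransM24Sign39.self_mem H), im_self H, mul_one, im_eq k.2]
    rfl

omit hL in
/-- Commuting with a near member is seen in the quotient. -/
theorem commute_iff {x p : G} (hx : Commute x a) (hp : p ∈ near D a) :
    Commute (im D a x) (im D a p) ↔ Commute x p := by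
  have hx' := mem_loc H hx
  have hp' := near_le_loc hp
  refine ⟨fun h => mul_inv_eq_iff_eq_mul.mp (H.inj (near_conj H.ts hx hp) hp ?_), fun h => ?_⟩
  · have hc := near_le_loc (near_conj H.ts hx hp)
    have e : im D a (x * p * x⁻¹) * im D a x = im D a x * im D a p := by
      rw [← im_mul H hc hx', ← im_mul H hx' hp', inv_mul_cancel_right]
    rw [h.eq] at e
    exact mul_right_cancel e
  · show _ * _ = _ * _
    rw [← im_mul H hx' hp', ← im_mul H hp' hx', h.eq]

/-- Two members near `a` have a neighbour of `a` failing to commute with both. -/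
theorem exists_common_near {b c : G} (hb : b ∈ near D a) (hc : c ∈ near D a) (hne : b ≠ c) :
    ∃ u ∈ near D a, ¬ Commute b u ∧ ¬ Commute u c := by
  obtain ⟨w, hw, h1, h2⟩ := ThreeTransSign39.exists_common (tsys_img H.ts a) H.qprim.1 H.q23.1
    (H.im_mem hb) (H.im_mem hc) (fun e => hne (H.inj hb hc e))
  obtain ⟨u, hu, rfl⟩ := H.surj_img hw
  exact ⟨u, hu, fun e => h1 ((H.comm_iff hb hu).mpr e), fun e => h2 ((H.comm_iff hu hc).mpr e)⟩

/-- Two members near `a` are exchanged in the derived group fixing `a`. -/
theorem exists_swap {b c : G} (hb : b ∈ near D a) (hc : c ∈ near D a) (hne : b ≠ c)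
    (hbc : Commute b c) : ∃ g ∈ commutator G,
      g * b * g⁻¹ = c ∧ g * c * g⁻¹ = b ∧ g * a * g⁻¹ = a := by
  obtain ⟨u, hu, h1, h2⟩ := exists_common_near H hL hb hc hne
  obtain ⟨e1, e2⟩ := ThreeTransSwap.exchange H.ts hb.1 hc.1 hu.1 hbc h1 (fun e => h2 e.symm)
  refine ⟨u * b * c * u, ?_, e1, e2, mul_inv_eq_iff_eq_mul.mpr
    (((hu.2.2.symm.mul_left hb.2.2.symm).mul_left hc.2.2.symm).mul_left hu.2.2.symm).eq⟩
  rw [show u * b * c * u = (u * b) * (c * u) by group]
  exact mul_mem (mul_mem_derived hL hu.1 hb.1) (mul_mem_derived hL hc.1 hu.1)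

end Cfsg.Agent.ThreeTransM24Inner39
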