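import Cfsg.Agent.Lib.ThreeTransM24Classes88
import Cfsg.Agent.Lib.ThreeTransM24Inner39
import Cfsg.Agent.Lib.FischerElevenM24x60
import Cfsg.Agent.Lib.ThreeTransM23Iso78
import Cfsg.Agent.Lib.ThreeTransFi23Out41
import Cfsg.Agent.Lib.ThreeTransLocLift65

/-!
# Automorphisms of the derived group in type M(24)

The products of two commuting members are the involutions of the derived group centralized by a
subgroup of order 11, and two of them share a member exactly when such a subgroup centralizes both.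
So an automorphism permutes the members; made to fix one, it is inner on the centralizer of that
member, and the derived group is generated by the centralizers of two commuting members.
-/

set_option autoImplicit false
set_option linter.unusedSectionVars false
set_option linter.style.haveILetI false

namespace Cfsg.Agent.Fi24Out65

open Subgroup Cfsg.Agent.ThreeTransRel Cfsg.Agent.ThreeTransDescent
open Cfsg.Agent.ThreeTransM24Base88 Cfsg.Agent.ThreeTransM24Pair88
open Cfsg.Agent.ThreeTransM24Local88 (hyp near_symm fixes)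
open Cfsg.Agent.ThreeTransM24Inner39 (Even θ θ_injective lift mul_mem_derived)

/-- A property closed under commuting holds on a connected class. -/
theorem spread {Y : Type*} [Group Y] {E : Set Y} (hc : (Cfsg.commutingGraph E).Connected) {S : Set Y}
    {x : Y} (hx : x ∈ E) (hxS : x ∈ S)
    (hclo : ∀ u ∈ E, u ∈ S → ∀ v ∈ E, u ≠ v → Commute u v → v ∈ S) {y : Y} (hy : y ∈ E) : y ∈ S := by
  obtain ⟨w⟩ := hc.preconnected ⟨x, hx⟩ ⟨y, hy⟩
  have : ∀ {u v : ↥E}, (Cfsg.commutingGraph E).Walk u v → (u : Y) ∈ S → (v : Y) ∈ S := by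
    intro u v w
    induction w with
    | nil => exact id
    | cons h _ ih =>
      intro hu
      refine ih ?_
      obtain ⟨hne, hr⟩ := h
      exact hclo _ (Subtype.prop _) hu _ (Subtype.prop _) (fun e => hne (Subtype.ext e))
        (hr.elim id Commute.symm)
  exact this w hxS

variable {G : Type*} [Group G] [Finite G] {D : Set G}

/-- A product of two commuting members. -/
def IsPair (D : Set G) (x : G) : Prop := ∃ a ∈ D, ∃ b ∈ near D a, a * b = x

/-- The members of such a product. -/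
def sup' (D : Set G) (x : G) : Set G := {p | p ∈ D ∧ ∃ q ∈ near D p, p * q = x}

/-- Two elements centralized by one subgroup of order 11. -/
def Adj (x y : G) : Prop :=
  x ≠ y ∧ ∃ B : Subgroup G, Nat.card ↥B = 11 ∧ ∀ g ∈ B, Commute g x ∧ Commute g y

variable (hX : ∀ s ∈ D, Ctx D s)
include hX

theorem tsys {d : G} (hd : d ∈ D) : TSys D := ts (hX d hd)

theorem even {d : G} (hd : d ∈ D) : Even D := by
  have H := hyp (hX d hd)
  obtain ⟨h1, h2⟩ := ThreeTransM24Sign39.layer H
    (ThreeTransM23Iso78.nonempty_fi23 H.qgrp H.qprim H.q23)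
  exact ⟨h1, h2⟩

theorem prod_mem_iff {d : G} (hd : d ∈ D) : ∀ {l : List G}, (∀ a ∈ l, a ∈ D) →
    (l.prod ∈ commutator G ↔ l.length % 2 = 0)
  | [], _ => by simp
  | a :: l, h => by
    have hL := even hX hd
    rw [List.prod_cons, mul_mem_iff_of_index_two hL.idx, List.length_cons,
      prod_mem_iff hd fun b hb => h b (List.mem_cons_of_mem _ hb)]
    have ha := hL.out a (h a List.mem_cons_self)
    constructor
    · intro h'
      by_contra hne
      exact ha (h'.mpr (by omega))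
    · intro h'
      exact iff_of_false ha (by omega)

theorem fixed_three {d : G} (hd : d ∈ D) {B : Subgroup G} (hB : Nat.card ↥B = 11) :
    (D ∩ (centralizer (B : Set G) : Set G)).ncard = 3 ∧
      ∀ x ∈ D ∩ (centralizer (B : Set G) : Set G), ∀ y ∈ D ∩ (centralizer (B : Set G) : Set G),
        Commute x y := by
  obtain ⟨K, iK, iT, hK, hG⟩ := FischerEleven60.good_m24_hyp (hyp (hX d hd))
  obtain ⟨h1, h2, -⟩ := (FischerEleven60.conclude_three (tsys hX hd).sq hK hG).2 B hB
  exact ⟨h1, h2⟩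

omit hX in
/-- A small invariant set is fixed pointwise by a subgroup of order 11. -/
theorem cent_of_small {B : Subgroup G} (hB : Nat.card ↥B = 11) {S : Set G}
    (hinv : ∀ g ∈ B, ∀ y ∈ S, g * y * g⁻¹ ∈ S) (hlt : S.ncard < 11) :
    ∀ y ∈ S, y ∈ centralizer (B : Set G) := by
  have h := FischerEleven60.ncard_fixed_mod hB hinv
  have hle : (S ∩ (centralizer (B : Set G) : Set G)).ncard ≤ S.ncard :=
    Set.ncard_le_ncard Set.inter_subset_left (Set.toFinite _)
  have he : S ∩ (centralizer (B : Set G) : Set G) = S :=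
    Set.eq_of_subset_of_ncard_le Set.inter_subset_left (by omega) (Set.toFinite _)
  exact fun y hy => (he.symm.subset hy).2

theorem pair_eq {a b a' b' : G} (ha : a ∈ D) (hb : b ∈ near D a) (ha' : a' ∈ D)
    (hb' : b' ∈ near D a') (e : a * b = a' * b') : (a' = a ∧ b' = b) ∨ (a' = b ∧ b' = a) := by
  have X := hX a ha
  have mk : ∀ {u v : G}, u ∈ D → v ∈ near D u → CList D [u, v] := fun {u v} hu hv =>
    ⟨by simp [hu, hv.1], by simp [hv.2.1.symm], by simp [hv.2.2, hv.2.2.symm]⟩
  have h := ThreeTransPairs.pair_unique (ts X) X.prim (mk ha hb) rfl (mk ha' hb') rfl (by simpa using e)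
  have h1 : a' = a ∨ a' = b := by simpa using (h a').mpr (by simp)
  have h2 : b' = a ∨ b' = b := by simpa using (h b').mpr (by simp)
  rcases h1 with h1 | h1 <;> rcases h2 with h2 | h2
  · exact absurd (h2.trans h1.symm) hb'.2.1
  · exact Or.inl ⟨h1, h2⟩
  · exact Or.inr ⟨h1, h2⟩
  · exact absurd (h2.trans h1.symm) hb'.2.1

theorem mem_sup {a b p : G} (ha : a ∈ D) (hb : b ∈ near D a) (hp : p ∈ sup' D (a * b)) :
    p = a ∨ p = b := by
  obtain ⟨hpD, q, hq, e⟩ := hp
  exact (pair_eq hX ha hb hpD hq e.symm).imp (fun h => h.1) fun h => h.1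

omit hX in
theorem left_mem_sup {a b : G} (ha : a ∈ D) (hb : b ∈ near D a) : a ∈ sup' D (a * b) :=
  ⟨ha, b, hb, rfl⟩

omit hX in
theorem right_mem_sup {a b : G} (ha : a ∈ D) (hb : b ∈ near D a) : b ∈ sup' D (a * b) :=
  ⟨hb.1, a, near_symm ha hb, hb.2.2.symm.eq⟩

theorem eq_of_two_mem {x a a' : G} (h : a ∈ sup' D x) (h' : a' ∈ sup' D x) (hne : a ≠ a') :
    x = a * a' := by
  obtain ⟨ha, q, hq, rfl⟩ := h
  rcases mem_sup hX ha hq h' with e | e
  · exact absurd e.symm hne
  · rw [e]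

/-- A subgroup centralizing a pair centralizes its members. -/
theorem cent_pair {a b : G} (ha : a ∈ D) (hb : b ∈ near D a) {B : Subgroup G} (hB : Nat.card ↥B = 11)
    (hc : ∀ g ∈ B, Commute g (a * b)) :
    a ∈ centralizer (B : Set G) ∧ b ∈ centralizer (B : Set G) := by
  have ht := tsys hX ha
  have hinv : ∀ g ∈ B, ∀ y ∈ ({a, b} : Set G), g * y * g⁻¹ ∈ ({a, b} : Set G) := by
    intro g hg y hy
    have e : g * a * g⁻¹ * (g * b * g⁻¹) = a * b := by
      rw [show g * a * g⁻¹ * (g * b * g⁻¹) = g * (a * b) * g⁻¹ by group, (hc g hg).eq, mul_inv_cancel_right]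
    have hn : g * b * g⁻¹ ∈ near D (g * a * g⁻¹) :=
      ⟨ht.conj g b hb.1, fun h => hb.2.1 (mul_left_cancel (mul_right_cancel h)),
        (Commute.conj_iff g).mpr hb.2.2⟩
    have hh := pair_eq hX ha hb (ht.conj g a ha) hn e.symm
    simp only [Set.mem_insert_iff, Set.mem_singleton_iff] at hy ⊢
    rcases hy with rfl | rfl <;> rcases hh with ⟨h1, h2⟩ | ⟨h1, h2⟩
    · exact Or.inl h1
    · exact Or.inr h1
    · exact Or.inr h2
    · exact Or.inl h2
  have h := cent_of_small hB hinv (by rw [Set.ncard_pair hb.2.1.symm]; omega)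
  exact ⟨h a (by simp), h b (by simp)⟩

/-- An involution of the derived group centralized by order 11 is a pair. -/
theorem pair_of_cent {d : G} (hd : d ∈ D) {x : G} (hxN : x ∈ commutator G) (hx : orderOf x = 2)
    {B : Subgroup G} (hB : Nat.card ↥B = 11) (hc : ∀ g ∈ B, Commute g x) : IsPair D x := by
  classical
  have ht := tsys hX hd
  have hL := even hX hd
  have hxx : x * x = 1 := by rw [← pow_two, ← hx]; exact pow_orderOf_eq_one x
  obtain ⟨h3, -⟩ := fixed_three hX hd hB
  have hperm : ∀ y ∈ D ∩ (centralizer (B : Set G) : Set G),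
      x * y * x⁻¹ ∈ D ∩ (centralizer (B : Set G) : Set G) := fun y hy =>
    ⟨ht.conj x y hy.1, mem_centralizer_iff.mpr fun g hg => by
      have h1 : Commute g y := mem_centralizer_iff.mp hy.2 g hg
      exact ((hc g hg).mul_right h1).mul_right (hc g hg).inv_right |>.eq⟩
  obtain ⟨p, q, r, hpq, hpr, hqr, hS⟩ := Set.ncard_eq_three.mp h3
  have hsq : ∀ u v : G, x * u * x⁻¹ = v → x * v * x⁻¹ = u := fun u v h => by
    rw [← h, show x * (x * u * x⁻¹) * x⁻¹ = (x * x) * u * (x * x)⁻¹ by group, hxx]; group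
  obtain ⟨e, he, hxe⟩ : ∃ e ∈ D ∩ (centralizer (B : Set G) : Set G), x * e * x⁻¹ = e := by
    have hp := hperm p (hS ▸ by simp)
    have hq := hperm q (hS ▸ by simp)
    have hr := hperm r (hS ▸ by simp)
    rw [hS] at hp hq hr ⊢
    simp only [Set.mem_insert_iff, Set.mem_singleton_iff] at hp hq hr
    have inj : ∀ {u v : G}, x * u * x⁻¹ = x * v * x⁻¹ → u = v := fun h =>
      mul_left_cancel (mul_right_cancel h)
    rcases hp with hp | hp | hp
    · exact ⟨p, by simp, hp⟩
    · refine ⟨r, by simp, ?_⟩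
      rcases hr with hr | hr | hr
      · exact absurd ((hsq _ _ hr).symm.trans hp) (fun h => hqr h.symm)
      · exact absurd (inj (hp.trans hr.symm)) hpr
      · exact hr
    · refine ⟨q, by simp, ?_⟩
      rcases hq with hq | hq | hq
      · exact absurd ((hsq _ _ hq).symm.trans hp) hqr
      · exact hq
      · exact absurd (inj (hp.trans hq.symm)) hpq
  have hce : Commute x e := mul_inv_eq_iff_eq_mul.mp hxe
  have hee : e * e = 1 := ht.sq e he.1
  have hxne : x * e ≠ 1 := fun h => hL.out e he.1 (by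
    rwa [← eq_inv_of_mul_eq_one_left h |>.trans (ht.inv_self he.1)])
  have ho : orderOf (x * e) = 2 := by
    refine orderOf_eq_prime ?_ hxne
    rw [pow_two, show x * e * (x * e) = x * (e * x) * e by group, ← hce.eq,
      show x * (x * e) * e = (x * x) * (e * e) by group, hxx, hee, one_mul]
  obtain ⟨l, hl, h1, h4, hp'⟩ := ThreeTransM24Classes88.exists_product hX ⟨d, hd⟩ ho
  have hodd : l.length % 2 ≠ 0 := fun h => by
    have h' := (prod_mem_iff hX hd hl.mem).mpr h
    rw [hp'] at h'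
    exact hL.out e he.1 ((Subgroup.mul_mem_cancel_left _ hxN).mp h')
  have hx' : x = l.prod * e := by rw [hp', mul_assoc, hee, mul_one]
  rcases (show l.length = 1 ∨ l.length = 3 by omega) with hlen | hlen
  · obtain ⟨f, rfl⟩ := List.length_eq_one_iff.mp hlen
    rw [List.prod_singleton] at hp' hx'
    have hf := hl.mem f (by simp)
    refine ⟨f, hf, e, ⟨he.1, fun h => ?_, ?_⟩, hx'.symm⟩
    · rw [h, ht.sq f hf] at hx'
      rw [hx', orderOf_one] at hx
      omega
    · show Commute f e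
      rw [hp']
      exact hce.mul_left (Commute.refl e)
  · obtain ⟨u, v, w, rfl⟩ := List.length_eq_three.mp hlen
    have hinv : ∀ g ∈ B, ∀ y ∈ ({u, v, w} : Set G), g * y * g⁻¹ ∈ ({u, v, w} : Set G) := by
      intro g hg y hy
      have hge : Commute g e := mem_centralizer_iff.mp he.2 g hg
      have h := ThreeTransM24Local88.unique3 (hX d hd) hl rfl
        (ThreeTransM23Classes59.clist_map ht hl g) (by simp) (by
          rw [hp', ← map_list_prod, MulAut.conj_apply, hp', ((hc g hg).mul_right hge).eq,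
            mul_inv_cancel_right])
      have := (h (g * y * g⁻¹)).mpr (List.mem_map.mpr ⟨y, by simpa using hy, rfl⟩)
      simpa using this
    have hnd := hl.nodup
    simp only [List.nodup_cons, List.mem_cons, List.not_mem_nil, or_false, not_or, not_false_eq_true,
      List.nodup_nil, and_true] at hnd
    have hn3 : ({u, v, w} : Set G).ncard = 3 :=
      Set.ncard_eq_three.mpr ⟨u, v, w, hnd.1.1, hnd.1.2, hnd.2, rfl⟩
    have hcent := cent_of_small hB hinv (by omega)
    have heq : ({u, v, w} : Set G) = D ∩ (centralizer (B : Set G) : Set G) :=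
      Set.eq_of_subset_of_ncard_le (fun y hy => ⟨hl.mem y (by simpa using hy), hcent y hy⟩)
        (by omega) (Set.toFinite _)
    have hmem : e ∈ [u, v, w] := by
      have := heq.symm.subset he
      simpa using this
    have huv : Commute u v := hl.comm u (by simp) v (by simp)
    have huw : Commute u w := hl.comm u (by simp) w (by simp)
    have hvw : Commute v w := hl.comm v (by simp) w (by simp)
    have su := ht.sq u (hl.mem u (by simp))
    have sv := ht.sq v (hl.mem v (by simp))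
    have sw := ht.sq w (hl.mem w (by simp))
    simp only [List.prod_cons, List.prod_nil, mul_one] at hx'
    simp only [List.mem_cons, List.not_mem_nil, or_false] at hmem
    rcases hmem with rfl | rfl | rfl
    · refine ⟨v, hl.mem v (by simp), w, ⟨hl.mem w (by simp), fun h => hnd.2 h.symm, hvw⟩, ?_⟩
      rw [hx', show e * (v * w) * e = e * ((v * w) * e) by group, ← (huv.mul_right huw).eq,
        ← mul_assoc, su, one_mul]
    · refine ⟨u, hl.mem u (by simp), w, ⟨hl.mem w (by simp), fun h => hnd.1.2 h.symm, huw⟩, ?_⟩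
      rw [hx', show u * (e * w) * e = u * (e * (w * e)) by group, ← hvw.eq, ← mul_assoc e, sv, one_mul]
    · refine ⟨u, hl.mem u (by simp), v, ⟨hl.mem v (by simp), fun h => hnd.1.1 h.symm, huv⟩, ?_⟩
      rw [hx', show u * (v * e) * e = u * v * (e * e) by group, sw, mul_one]

theorem exists_nbr {a b : G} (ha : a ∈ D) (hb : b ∈ near D a) : ∃ c, c ∈ N2 D a b := by
  obtain ⟨l, -, hn, hlen⟩ := ThreeTransM24Local88.exists_triple (hX a ha) hb
  obtain ⟨c, hc⟩ := List.exists_mem_of_length_pos (l := l) (by omega)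
  exact ⟨c, hn c hc⟩

/-- Three commuting members are centralized by a subgroup of order 11. -/
theorem exists_eleven {a b c : G} (ha : a ∈ D) (hb : b ∈ near D a) (hc : c ∈ N2 D a b) :
    ∃ B : Subgroup G, Nat.card ↥B = 11 ∧ ∀ g ∈ B, Commute g a ∧ Commute g b ∧ Commute g c := by
  have H := hyp (hX a ha)
  have ht := tsys hX ha
  haveI : Fact (Nat.Prime 11) := ⟨by norm_num⟩
  obtain ⟨z, hz⟩ := exists_prime_orderOf_dvd_card' (G := G) 11 (by
    rw [ThreeTransM24Order59.card_G H]; norm_num)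
  set B₀ := zpowers z
  have hB₀ : Nat.card ↥B₀ = 11 := by rw [Nat.card_zpowers, hz]
  obtain ⟨h3, hcm⟩ := fixed_three hX ha hB₀
  obtain ⟨p, q, r, hpq, hpr, hqr, hS⟩ := Set.ncard_eq_three.mp h3
  have hp : p ∈ D ∩ (centralizer (B₀ : Set G) : Set G) := hS ▸ by simp
  have hq : q ∈ D ∩ (centralizer (B₀ : Set G) : Set G) := hS ▸ by simp
  have hr : r ∈ D ∩ (centralizer (B₀ : Set G) : Set G) := hS ▸ by simp
  obtain ⟨g₁, hg₁⟩ := H.prim.1 p hp.1 a ha
  have mv : ∀ {s : G}, s ∈ D ∩ (centralizer (B₀ : Set G) : Set G) → s ≠ p →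
      g₁ * s * g₁⁻¹ ∈ near D a := fun {s} hs hne =>
    ⟨ht.conj g₁ s hs.1, fun e => hne (mul_left_cancel (mul_right_cancel (e.trans hg₁.symm))),
      hg₁ ▸ (Commute.conj_iff g₁).mpr (hcm p hp s hs)⟩
  obtain ⟨k, hk, hk1, hk2⟩ := ThreeTransM24Classes88.pair_transitive (hX a ha)
    (mv hq hpq.symm) (mv hr hpr.symm) ((Commute.conj_iff g₁).mpr (hcm q hq r hr))
    (fun e => hqr (mul_left_cancel (mul_right_cancel e))) hb hc.1 hc.2.2.2 hc.2.2.1.symm
  have hka : k * a * k⁻¹ = a := fixes (commute_d_of_mem_loc hk).symm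
  refine ⟨B₀.map (MulAut.conj (k * g₁)).toMonoidHom, ?_, ?_⟩
  · rw [card_map_of_injective (MulAut.conj (k * g₁)).injective, hB₀]
  · rintro _ ⟨y, hy, rfl⟩
    show Commute (k * g₁ * y * (k * g₁)⁻¹) a ∧ Commute (k * g₁ * y * (k * g₁)⁻¹) b ∧
      Commute (k * g₁ * y * (k * g₁)⁻¹) c
    have mk : ∀ {s t : G}, s ∈ D ∩ (centralizer (B₀ : Set G) : Set G) → k * (g₁ * s * g₁⁻¹) * k⁻¹ = t →
        Commute (k * g₁ * y * (k * g₁)⁻¹) t := fun {s t} hs e => by
      rw [← e, show k * (g₁ * s * g₁⁻¹) * k⁻¹ = k * g₁ * s * (k * g₁)⁻¹ by group]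
      exact (Commute.conj_iff _).mpr (mem_centralizer_iff.mp hs.2 y hy)
    exact ⟨mk hp (by rw [hg₁, hka]), mk hq hk1, mk hr hk2⟩

theorem adj_mk {a b c : G} (ha : a ∈ D) (hb : b ∈ near D a) (hc : c ∈ N2 D a b) :
    Adj (a * b) (a * c) := by
  obtain ⟨B, hB, h⟩ := exists_eleven hX ha hb hc
  exact ⟨fun e => hc.2.2.1 (mul_left_cancel e).symm, B, hB, fun g hg =>
    ⟨(h g hg).1.mul_right (h g hg).2.1, (h g hg).1.mul_right (h g hg).2.2⟩⟩

/-- Pairs centralized by one subgroup of order 11 share a member. -/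
theorem share {x y : G} (hx : IsPair D x) (hy : IsPair D y) (h : Adj x y) :
    ∃ a, a ∈ sup' D x ∧ a ∈ sup' D y := by
  obtain ⟨hne, B, hB, hc⟩ := h
  obtain ⟨a, ha, b, hb, rfl⟩ := hx
  obtain ⟨a', ha', b', hb', rfl⟩ := hy
  obtain ⟨h1, h2⟩ := cent_pair hX ha hb hB fun g hg => (hc g hg).1
  obtain ⟨h1', h2'⟩ := cent_pair hX ha' hb' hB fun g hg => (hc g hg).2
  obtain ⟨h3, -⟩ := fixed_three hX ha hB
  by_contra hno
  push Not at hno
  have n1 : a' ≠ a := fun e => hno a (left_mem_sup ha hb) (e ▸ left_mem_sup ha' hb')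
  have n2 : b' ≠ a := fun e => hno a (left_mem_sup ha hb) (e ▸ right_mem_sup ha' hb')
  have n3 : a' ≠ b := fun e => hno b (right_mem_sup ha hb) (e ▸ left_mem_sup ha' hb')
  have n4 : b' ≠ b := fun e => hno b (right_mem_sup ha hb) (e ▸ right_mem_sup ha' hb')
  have hle : ({a, b, a', b'} : Set G).ncard ≤ 3 := h3 ▸ Set.ncard_le_ncard (by
    intro z hz
    simp only [Set.mem_insert_iff, Set.mem_singleton_iff] at hz
    rcases hz with rfl | rfl | rfl | rfl
    exacts [⟨ha, h1⟩, ⟨hb.1, h2⟩, ⟨ha', h1'⟩, ⟨hb'.1, h2'⟩]) (Set.toFinite _)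
  rw [Set.ncard_insert_of_notMem (by simp [hb.2.1.symm, n1.symm, n2.symm]),
    Set.ncard_insert_of_notMem (by simp [n3.symm, n4.symm]), Set.ncard_pair hb'.2.1.symm] at hle
  omega

omit hX in
/-- An element of order 11 lies in the derived group. -/
theorem eleven_le (hL : Even D) {B : Subgroup G} (hB : Nat.card ↥B = 11) : B ≤ commutator G := by
  intro g hg
  have h11 : g ^ 11 = 1 := congrArg Subtype.val
    (show (⟨g, hg⟩ : ↥B) ^ 11 = 1 by rw [← hB]; exact pow_card_eq_one')
  rw [show g = (g ^ 2) ^ 6 by rw [← pow_mul, show 2 * 6 = 11 + 1 from rfl, pow_succ, h11, one_mul]]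
  exact pow_mem (sq_mem_of_index_two hL.idx g) 6

section Aut

variable (α : MulAut ↥(commutator G))

omit hX in
open Classical in
/-- The automorphism as a map on the group. -/
noncomputable def ap (x : G) : G := if h : x ∈ commutator G then (α ⟨x, h⟩ : G) else 1

omit hX in
theorem ap_eq {x : G} (h : x ∈ commutator G) : ap α x = (α ⟨x, h⟩ : G) := dif_pos h

omit hX in
theorem ap_mem {x : G} (h : x ∈ commutator G) : ap α x ∈ commutator G := by
  rw [ap_eq α h]; exact (α ⟨x, h⟩).2

omit hX in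
theorem ap_mul {x y : G} (hx : x ∈ commutator G) (hy : y ∈ commutator G) :
    ap α (x * y) = ap α x * ap α y := by
  rw [ap_eq α hx, ap_eq α hy, ap_eq α (mul_mem hx hy), ← Subgroup.coe_mul, ← map_mul]
  rfl

omit hX in
theorem ap_inj {x y : G} (hx : x ∈ commutator G) (hy : y ∈ commutator G) (h : ap α x = ap α y) :
    x = y := by
  rw [ap_eq α hx, ap_eq α hy] at h
  exact congrArg Subtype.val (α.injective (Subtype.ext h))

omit hX in
theorem ap_commute {x y : G} (hx : x ∈ commutator G) (hy : y ∈ commutator G) (h : Commute x y) :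
    Commute (ap α x) (ap α y) := by
  show _ = _
  rw [← ap_mul α hx hy, ← ap_mul α hy hx, h.eq]

omit hX in
theorem image_eleven (hL : Even D) {B : Subgroup G} (hB : Nat.card ↥B = 11) :
    ∃ B' : Subgroup G, Nat.card ↥B' = 11 ∧ ∀ g ∈ B', ∃ y ∈ B, g = ap α y := by
  have hle := eleven_le hL hB
  refine ⟨((B.subgroupOf (commutator G)).map α.toMonoidHom).map (commutator G).subtype, ?_, ?_⟩
  · rw [card_map_of_injective (commutator G).subtype_injective, card_map_of_injective α.injective,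
      Nat.card_congr (subgroupOfEquivOfLe hle).toEquiv, hB]
  · rintro _ ⟨_, ⟨y, hy, rfl⟩, rfl⟩
    exact ⟨y, hy, (ap_eq α y.2).symm⟩

theorem pair_map {a b : G} (ha : a ∈ D) (hb : b ∈ near D a) : IsPair D (ap α (a * b)) := by
  have hL := even hX ha
  have hN := mul_mem_derived hL ha hb.1
  obtain ⟨c, hc⟩ := exists_nbr hX ha hb
  obtain ⟨B, hB, h⟩ := exists_eleven hX ha hb hc
  obtain ⟨B', hB', h'⟩ := image_eleven α hL hB
  refine pair_of_cent hX ha (ap_mem α hN) ?_ hB' fun g hg => ?_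
  · rw [ap_eq α hN, Subgroup.orderOf_coe, MulEquiv.orderOf_eq, ← Subgroup.orderOf_coe]
    have hl : CList D [a, b] := ⟨by simp [ha, hb.1], by simp [hb.2.1.symm],
      by simp [hb.2.2, hb.2.2.symm]⟩
    have := ThreeTransM24Classes88.order_product (hX a ha) hl (by simp) (by simp)
    simpa using this
  · obtain ⟨y, hy, rfl⟩ := h' g hg
    exact ap_commute α (eleven_le hL hB hy) hN ((h y hy).1.mul_right (h y hy).2.1)

theorem adj_map {d : G} (hd : d ∈ D) {x y : G} (hx : x ∈ commutator G) (hy : y ∈ commutator G)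
    (h : Adj x y) : Adj (ap α x) (ap α y) := by
  obtain ⟨hne, B, hB, hc⟩ := h
  have hL := even hX hd
  obtain ⟨B', hB', h'⟩ := image_eleven α hL hB
  refine ⟨fun e => hne (ap_inj α hx hy e), B', hB', fun g hg => ?_⟩
  obtain ⟨z, hz, rfl⟩ := h' g hg
  exact ⟨ap_commute α (eleven_le hL hB hz) hx (hc z hz).1, ap_commute α (eleven_le hL hB hz) hy (hc z hz).2⟩

/-- The common member of the images of a star spreads along commuting members. -/
theorem step {d a b c e : G} (hd : d ∈ D) (hb : b ∈ near D d) (hc : c ∈ N2 D d b)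
    (he : e ∈ N2 D d b) (hce : Commute c e) (hab : a ∈ sup' D (ap α (d * b)))
    (hac : a ∈ sup' D (ap α (d * c))) : a ∈ sup' D (ap α (d * e)) := by
  by_cases hne : e = c
  · exact hne ▸ hac
  have hL := even hX hd
  have ht := tsys hX hd
  have hcn : c ∈ near D d := hc.1
  have nb := mul_mem_derived hL hd hb.1
  have nc := mul_mem_derived hL hd hcn.1
  have ne' := mul_mem_derived hL hd he.1.1
  have hec : e ∈ N2 D d c := ⟨he.1, he.1.1, hne, hce⟩
  have a1 := adj_map hX α hd nb ne' (adj_mk hX hd hb he)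
  have a2 := adj_map hX α hd nc ne' (adj_mk hX hd hcn hec)
  have pb := pair_map hX α hd hb
  have pc := pair_map hX α hd hcn
  have pe := pair_map hX α hd he.1
  obtain ⟨u, hu, hu'⟩ := share hX pb pe a1
  obtain ⟨v, hv, hv'⟩ := share hX pc pe a2
  by_contra hno
  have hau : a ≠ u := fun h => hno (h ▸ hu')
  have hav : a ≠ v := fun h => hno (h ▸ hv')
  have eb := eq_of_two_mem hX hab hu hau
  have ec := eq_of_two_mem hX hac hv hav
  have huv : u ≠ v := fun h => hc.2.2.1 (mul_left_cancel (ap_inj α nb nc (by rw [eb, ec, h]))).symm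
  have ee := eq_of_two_mem hX hu' hv' huv
  obtain ⟨-, q, hq, eq'⟩ := hab
  have hau' : Commute a u := by
    rw [eb] at eq'
    rw [← mul_left_cancel eq']
    exact hq.2.2
  have hbc : d * b * (d * c) = b * c := by
    rw [show d * b * (d * c) = d * (b * d) * c by group, ← hb.2.2.eq, ← mul_assoc d, ht.sq d hd, one_mul]
  have key : ap α (d * e) = ap α (b * c) := by
    rw [← hbc, ap_mul α nb nc, eb, ec, ee, show a * u * (a * v) = a * (u * a) * v by group, ← hau'.eq,
      ← mul_assoc a, ht.sq a (by exact hac.1), one_mul]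
  have h := ap_inj α ne' (mul_mem_derived hL hb.1 hcn.1) key
  rcases pair_eq hX hb.1 hc.2 hd he.1 h.symm with ⟨h1, -⟩ | ⟨h1, -⟩
  · exact hb.2.1 h1.symm
  · exact hcn.2.1 h1.symm

/-- The images of a star have one common member. -/
theorem exists_centre {d : G} (hd : d ∈ D) :
    ∃ a ∈ D, ∀ b ∈ near D d, a ∈ sup' D (ap α (d * b)) := by
  have X := hX d hd
  have H := hyp X
  have hL := even hX hd
  obtain ⟨b₀, hb₀⟩ := ThreeTransM24Local88.exists_near X
  obtain ⟨c₀, hc₀⟩ := exists_nbr hX hd hb₀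
  obtain ⟨a, hab, hac⟩ := share hX (pair_map hX α hd hb₀) (pair_map hX α hd hc₀.1)
    (adj_map hX α hd (mul_mem_derived hL hd hb₀.1) (mul_mem_derived hL hd hc₀.1.1)
      (adj_mk hX hd hb₀ hc₀))
  refine ⟨a, hab.1, ?_⟩
  -- full stars
  have full : ∀ b ∈ near D d, a ∈ sup' D (ap α (d * b)) → ∀ c ∈ N2 D d b,
      a ∈ sup' D (ap α (d * c)) → ∀ e ∈ N2 D d b, a ∈ sup' D (ap α (d * e)) := by
    intro b hb hb' c hc hc' e he
    have Q := qc X hb
    obtain ⟨l, hl, hln, hlen⟩ := ThreeTransM24Local88.exists_triple X hb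
    obtain ⟨u, v, w, rfl⟩ := List.length_eq_three.mp hlen
    have hconn := ThreeTransPrimitive.connected_of_primitive
      (ThreeTransM23Prim34.class_of_prim Q.qgrp Q.qprim) Q.qprim
      ⟨_, im2_mem X hb (hln u (by simp)), _, im2_mem X hb (hln v (by simp)),
        fun h => by
          have := hl.nodup
          simp only [List.nodup_cons, List.mem_cons, not_or] at this
          exact this.1.1 (im2_inj X hb (hln u (by simp)) (hln v (by simp)) h),
        (im2_comm_iff X hb (hln u (by simp)) (hln v (by simp))).mpr (hl.comm u (by simp) v (by simp))⟩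
    obtain ⟨f, ⟨hf, hf'⟩, hfe⟩ := spread hconn
      (S := im2 D d b '' {p | p ∈ N2 D d b ∧ a ∈ sup' D (ap α (d * p))})
      (im2_mem X hb hc) ⟨c, ⟨hc, hc'⟩, rfl⟩ (fun u _ hu v hv _ huv => by
        obtain ⟨p, ⟨hp, hp'⟩, rfl⟩ := hu
        obtain ⟨q, hq, rfl⟩ := im2_surj_img X hb hv
        exact ⟨q, ⟨hq, step hX α hd hb hp hq ((im2_comm_iff X hb hp hq).mp huv) hb' hp'⟩, rfl⟩)
      (im2_mem X hb he)
    exact im2_inj X hb hf he hfe ▸ hf'
  intro b hb
  have hconn := ThreeTransPrimitive.connected_of_primitive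
    (ThreeTransM23Prim34.class_of_prim H.qgrp H.qprim) H.qprim
    ⟨_, H.im_mem hb₀, _, H.im_mem hc₀.1, fun h => hc₀.2.2.1 (H.inj hb₀ hc₀.1 h).symm,
      (H.comm_iff hb₀ hc₀.1).mpr hc₀.2.2.2⟩
  obtain ⟨f, ⟨hf, hf', -⟩, hfe⟩ := spread hconn
    (S := im D d '' {p | p ∈ near D d ∧ a ∈ sup' D (ap α (d * p)) ∧
      ∀ q ∈ N2 D d p, a ∈ sup' D (ap α (d * q))})
    (H.im_mem hb₀) ⟨b₀, ⟨hb₀, hab, full b₀ hb₀ hab c₀ hc₀ hac⟩, rfl⟩ (fun u _ hu v hv huv hcv => by
      obtain ⟨p, ⟨hp, hp', hall⟩, rfl⟩ := hu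
      obtain ⟨q, hq, rfl⟩ := H.surj_img hv
      have hne : q ≠ p := fun e => huv (by rw [e])
      have hpq := (H.comm_iff hp hq).mp hcv
      have hq2 : q ∈ N2 D d p := ⟨hq, hq.1, hne, hpq⟩
      have hq' := hall q hq2
      exact ⟨q, ⟨hq, hq', full q hq hq' p ⟨hp, hp.1, hne.symm, hpq.symm⟩ hp'⟩, rfl⟩)
    (H.im_mem hb)
  exact H.inj hf hb hfe ▸ hf'

theorem centre_unique {d a a' : G} (hd : d ∈ D) (ha : ∀ b ∈ near D d, a ∈ sup' D (ap α (d * b)))
    (ha' : ∀ b ∈ near D d, a' ∈ sup' D (ap α (d * b))) : a = a' := by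
  by_contra hne
  obtain ⟨b, hb⟩ := ThreeTransM24Local88.exists_near (hX d hd)
  obtain ⟨c, hc⟩ := exists_nbr hX hd hb
  have hL := even hX hd
  have h1 := eq_of_two_mem hX (ha b hb) (ha' b hb) hne
  have h2 := eq_of_two_mem hX (ha c hc.1) (ha' c hc.1) hne
  exact hc.2.2.1 (mul_left_cancel (ap_inj α (mul_mem_derived hL hd hb.1)
    (mul_mem_derived hL hd hc.1.1) (h1.trans h2.symm))).symm

/-- The map on members. -/
theorem exists_sigma : ∃ σ : G → G, (∀ d ∈ D, σ d ∈ D) ∧
    (∀ d ∈ D, ∀ b ∈ near D d, ap α (d * b) = σ d * σ b ∧ σ b ∈ near D (σ d)) ∧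
    (∀ d ∈ D, ∀ e ∈ D, σ d = σ e → d = e) ∧
    ∀ d ∈ D, ∀ n ∈ commutator G, σ (n * d * n⁻¹) = ap α n * σ d * (ap α n)⁻¹ := by
  classical
  refine ⟨fun d => if hd : d ∈ D then (exists_centre hX α hd).choose else 1, ?_⟩
  set σ := fun d => if hd : d ∈ D then (exists_centre hX α hd).choose else (1 : G) with hσ
  have hσs : ∀ d ∈ D, σ d ∈ D ∧ ∀ b ∈ near D d, σ d ∈ sup' D (ap α (d * b)) := fun d hd => by
    rw [hσ]; simp only [dif_pos hd]; exact (exists_centre hX α hd).choose_spec
  have hboth : ∀ d ∈ D, ∀ b ∈ near D d,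
      σ d ∈ sup' D (ap α (d * b)) ∧ σ b ∈ sup' D (ap α (d * b)) := fun d hd b hb =>
    ⟨(hσs d hd).2 b hb, hb.2.2.eq ▸ (hσs b hb.1).2 d (near_symm hd hb)⟩
  -- the images of a star fill the star of its centre
  have honto : ∀ d ∈ D, ∀ q ∈ near D (σ d), ∃ b ∈ near D d, ap α (d * b) = σ d * q := by
    intro d hd q hq
    have hL := even hX hd
    have hsub : (fun b => ap α (d * b)) '' near D d ⊆ (fun p => σ d * p) '' near D (σ d) := by
      rintro _ ⟨b, hb, rfl⟩
      obtain ⟨-, p, hp, e⟩ := (hσs d hd).2 b hb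
      exact ⟨p, hp, e⟩
    have hcard : ((fun b => ap α (d * b)) '' near D d).ncard = 31671 := by
      rw [Set.ncard_image_of_injOn fun b hb b' hb' e => mul_left_cancel
        (ap_inj α (mul_mem_derived hL hd hb.1) (mul_mem_derived hL hd hb'.1) e)]
      exact ThreeTransM24Order59.ncard_near (hyp (hX d hd))
    have hcard' : ((fun p => σ d * p) '' near D (σ d)).ncard = 31671 := by
      rw [Set.ncard_image_of_injective _ (mul_right_injective (σ d))]
      exact ThreeTransM24Order59.ncard_near (hyp (hX _ (hσs d hd).1))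
    obtain ⟨b, hb, e⟩ := (Set.eq_of_subset_of_ncard_le hsub (by omega) (Set.toFinite _)).symm.subset
      ⟨q, hq, rfl⟩
    exact ⟨b, hb, e⟩
  have hne : ∀ d ∈ D, ∀ b ∈ near D d, σ d ≠ σ b := by
    intro d hd b hb e
    obtain ⟨c, hc⟩ := exists_nbr hX hd hb
    have hL := even hX hd
    obtain ⟨-, p, hp, he⟩ := (hσs b hb.1).2 c hc.2
    rw [← e] at hp he
    obtain ⟨f, hf, hef⟩ := honto d hd p hp
    have h := ap_inj α (mul_mem_derived hL hd hf.1) (mul_mem_derived hL hb.1 hc.1.1) (hef.trans he)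
    rcases pair_eq hX hb.1 hc.2 hd hf h.symm with ⟨h1, -⟩ | ⟨h1, -⟩
    · exact hb.2.1 h1.symm
    · exact hc.1.2.1 h1.symm
  have hprod : ∀ d ∈ D, ∀ b ∈ near D d, ap α (d * b) = σ d * σ b ∧ σ b ∈ near D (σ d) := by
    intro d hd b hb
    obtain ⟨h1, h2⟩ := hboth d hd b hb
    have e := eq_of_two_mem hX h1 h2 (hne d hd b hb)
    obtain ⟨-, q, hq, e'⟩ := h1
    rw [e] at e'
    exact ⟨e, mul_left_cancel e' ▸ hq⟩
  refine ⟨fun d hd => (hσs d hd).1, hprod, fun d hd e he h => ?_, fun d hd n hn => ?_⟩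
  · by_contra hde
    obtain ⟨b, hb⟩ := ThreeTransM24Local88.exists_near (hX d hd)
    obtain ⟨c, hc⟩ := exists_nbr hX hd hb
    have hL := even hX hd
    have key : ∀ f ∈ near D e, d ∈ ({e, f} : Set G) := by
      intro f hf
      obtain ⟨h1, h2⟩ := hprod e he f hf
      rw [← h] at h2 h1
      obtain ⟨g, hg, hg'⟩ := honto d hd _ h2
      have h3 := ap_inj α (mul_mem_derived hL hd hg.1) (mul_mem_derived hL he hf.1) (hg'.trans h1.symm)
      rcases pair_eq hX he hf hd hg h3.symm with ⟨h4, -⟩ | ⟨h4, -⟩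
      · exact Or.inl h4
      · exact Or.inr h4
    obtain ⟨f, hf⟩ := ThreeTransM24Local88.exists_near (hX e he)
    obtain ⟨f', hf'⟩ := exists_nbr hX he hf
    have k1 : d = f := (key f hf).resolve_left hde
    have k2 : d = f' := (key f' hf'.1).resolve_left hde
    exact hf'.2.2.1 (k2 ▸ k1)
  · have ht := tsys hX hd
    have hd' := ht.conj n d hd
    have hL := even hX hd
    refine centre_unique hX α hd' (hσs _ hd').2 fun b hb => ?_
    have hb' : n⁻¹ * b * n ∈ near D d := by
      refine ⟨by simpa using ht.conj n⁻¹ b hb.1, fun e => hb.2.1 (by rw [← e]; group), ?_⟩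
      have := (Commute.conj_iff n⁻¹).mpr hb.2.2
      simpa [mul_assoc] using this
    obtain ⟨h1, h2⟩ := hprod d hd _ hb'
    have hN := mul_mem_derived hL hd hb'.1
    have e : n * d * n⁻¹ * b = n * (d * (n⁻¹ * b * n)) * n⁻¹ := by group
    have hinv : ap α n⁻¹ = (ap α n)⁻¹ := by
      rw [ap_eq α hn, ap_eq α (inv_mem hn), ← Subgroup.coe_inv, ← map_inv]; rfl
    rw [e, ap_mul α (mul_mem hn hN) (inv_mem hn), ap_mul α hn hN, hinv, h1,
      show ap α n * (σ d * σ (n⁻¹ * b * n)) * (ap α n)⁻¹ =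
        ap α n * σ d * (ap α n)⁻¹ * (ap α n * σ (n⁻¹ * b * n) * (ap α n)⁻¹) by group]
    refine left_mem_sup (ht.conj _ _ (hσs d hd).1) ⟨ht.conj _ _ h2.1,
      fun h => h2.2.1 (mul_left_cancel (mul_right_cancel h)), (Commute.conj_iff _).mpr h2.2.2⟩

end Aut

/-- The centralizer of a member in the derived group. -/
abbrev Yc (d : G) : Subgroup G := commutator G ⊓ centralizer ({d} : Set G)

theorem inner_fi23 {d : G} (hd : d ∈ D) (r : MulAut ↥(Yc d)) :
    ∃ y : ↥(Yc d), r = MulAut.conj y := by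
  have H := hyp (hX d hd)
  obtain ⟨f⟩ := ThreeTransM23Iso78.nonempty_fi23 H.qgrp H.qprim H.q23
  let e : ↥(Yc d) ≃* Cfsg.Spor.Fi23 :=
    (MulEquiv.ofBijective (θ H) ⟨θ_injective H (even hX hd), lift H (even hX hd)⟩).trans f
  obtain ⟨h1, -⟩ := Nat.card_eq_one_iff_unique.mp
    (ThreeTransFi23Out41.card_out : Nat.card (Cfsg.Out Cfsg.Spor.Fi23) = 1)
  obtain ⟨w, hw⟩ : (e.symm.trans r).trans e ∈ Cfsg.Inn Cfsg.Spor.Fi23 :=
    (QuotientGroup.eq_one_iff _).mp (h1.elim _ 1)
  refine ⟨e.symm w, MulEquiv.ext fun x => e.injective ?_⟩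
  have h2 : MulAut.conj w (e x) = e (r (e.symm (e x))) := DFunLike.congr_fun hw (e x)
  rw [e.symm_apply_apply] at h2
  simp only [MulAut.conj_apply] at h2 ⊢
  rw [map_mul, map_mul, map_inv, e.apply_symm_apply, h2]

/-- An automorphism fixing a member agrees with an inner one on its centralizer. -/
theorem inner_on {d : G} (hd : d ∈ D) (α : MulAut ↥(commutator G))
    (h : ∀ n : ↥(commutator G), Commute (n : G) d ↔ Commute (α n : G) d) :
    ∃ y ∈ Yc d, ∀ n : ↥(commutator G), Commute (n : G) d → (α n : G) = y * n * y⁻¹ := by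
  have hmem : ∀ {n : ↥(commutator G)}, Commute (n : G) d → (n : G) ∈ Yc d := fun {n} hn =>
    ⟨n.2, mem_centralizer_singleton_iff.mpr hn.eq⟩
  have hcom : ∀ x : ↥(Yc d), Commute (x : G) d := fun x => mem_centralizer_singleton_iff.mp x.2.2
  have hback : ∀ x : ↥(Yc d), Commute ((α.symm ⟨x, x.2.1⟩ : ↥(commutator G)) : G) d := fun x => by
    rw [h, α.apply_symm_apply]; exact hcom x
  let r : MulAut ↥(Yc d) :=
    { toFun := fun x => ⟨α ⟨x, x.2.1⟩, hmem ((h ⟨x, x.2.1⟩).mp (hcom x))⟩
      invFun := fun x => ⟨α.symm ⟨x, x.2.1⟩, hmem (hback x)⟩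
      left_inv := fun x => Subtype.ext (congrArg Subtype.val (α.symm_apply_apply ⟨x, x.2.1⟩) :)
      right_inv := fun x => Subtype.ext (congrArg Subtype.val (α.apply_symm_apply ⟨x, x.2.1⟩) :)
      map_mul' := fun x y => Subtype.ext (congrArg Subtype.val (map_mul α ⟨x, x.2.1⟩ ⟨y, y.2.1⟩) :) }
  obtain ⟨y, hy⟩ := inner_fi23 hX hd r
  exact ⟨y, y.2, fun n hn => congrArg Subtype.val (DFunLike.congr_fun hy ⟨n, hmem hn⟩)⟩

/-- The derived group is generated by two centralizers. -/
theorem generate {d b : G} (hd : d ∈ D) (hb : b ∈ near D d) : commutator G ≤ Yc d ⊔ Yc b := by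
  have ht := tsys hX hd
  have H := hyp (hX d hd)
  have hL := even hX hd
  set K := Yc d ⊔ Yc b with hK
  have hdn : zpowers d ≤ normalizer (K : Set G) := by
    rw [zpowers_le]
    have hY : ∀ {s : G}, Commute d s → ∀ x ∈ Yc s, d * x * d⁻¹ ∈ Yc s := fun {s} hs x hx => by
      refine ⟨(inferInstance : (commutator G).Normal).conj_mem x hx.1 d, mem_centralizer_singleton_iff.mpr ?_⟩
      have h1 : Commute x s := mem_centralizer_singleton_iff.mp hx.2
      exact ((hs.mul_left h1).mul_left hs.inv_left).eq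
    refine ThreeTransLocLift65.mem_normalizer_of_maps fun x hx => ?_
    have hle : K ≤ K.comap (MulAut.conj d).toMonoidHom := by
      refine sup_le (fun z hz => ?_) fun z hz => ?_
      · exact mem_sup_left (hY (Commute.refl d) z hz)
      · exact mem_sup_right (hY hb.2.2 z hz)
    exact hle hx
  set M := K ⊔ zpowers d with hM
  have hdM : d ∈ M := mem_sup_right (mem_zpowers d)
  have hcent : ∀ {s : G}, Yc s ≤ K → Commute d s → centralizer ({s} : Set G) ≤ M := fun {s} hs hds x hx => by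
    by_cases hxN : x ∈ commutator G
    · exact mem_sup_left (hs ⟨hxN, hx⟩)
    · have h1 : x * d ∈ Yc s := ⟨(mul_mem_iff_of_index_two hL.idx).mpr (iff_of_false hxN (hL.out d hd)),
        mul_mem hx (mem_centralizer_singleton_iff.mpr hds.eq)⟩
      rw [show x = x * d * d⁻¹ by group]
      exact mul_mem (mem_sup_left (hs h1)) (inv_mem hdM)
  have hCd : centralizer ({d} : Set G) ≤ M := hcent le_sup_left (Commute.refl d)
  have hCb : centralizer ({b} : Set G) ≤ M := hcent le_sup_right hb.2.2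
  have hCe : ∀ e ∈ near D d, centralizer ({e} : Set G) ≤ M := by
    intro e he x hx
    obtain ⟨k, hk, hke⟩ := transitive (hX d hd) hb he
    have hkM : k ∈ M := hCd (mem_centralizer_singleton_iff.mpr (commute_d_of_mem_loc hk).symm.eq)
    have h1 : k⁻¹ * x * k ∈ centralizer ({b} : Set G) := by
      refine mem_centralizer_singleton_iff.mpr ?_
      have h2 : Commute x e := mem_centralizer_singleton_iff.mp hx
      rw [← hke] at h2
      have := (Commute.conj_iff k⁻¹).mpr h2
      simpa [mul_assoc] using this.eq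
    rw [show x = k * (k⁻¹ * x * k) * k⁻¹ by group]
    exact mul_mem (mul_mem hkM (hCb h1)) (inv_mem hkM)
  have htop : M = ⊤ := by
    rw [eq_top_iff, ← ht.gen, closure_le]
    intro c hc
    by_cases hdc : Commute d c
    · exact hCd (mem_centralizer_singleton_iff.mpr hdc.symm.eq)
    obtain ⟨e, he⟩ := Set.nonempty_of_ncard_ne_zero
      (show (near D d ∩ near D c).ncard ≠ 0 by rw [(ThreeTransM24Order59.ncard_far H hc hdc).2]; omega)
    exact hCe e he.1 (mem_centralizer_singleton_iff.mpr he.2.2.2.eq)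
  intro x hx
  have hxM : x ∈ ((M : Subgroup G) : Set G) := htop ▸ mem_top x
  rw [hM, coe_mul_of_right_le_normalizer_left K (zpowers d) hdn] at hxM
  obtain ⟨k, hk, z, hz, rfl⟩ := hxM
  have hkN : k ∈ commutator G := (sup_le inf_le_left inf_le_left : K ≤ commutator G) hk
  obtain ⟨i, rfl⟩ := mem_zpowers_iff.mp hz
  have h2 : d ^ i = 1 ∨ d ^ i = d := by
    have hd2 : d * d = 1 := ht.sq d hd
    rcases Int.even_or_odd i with ⟨j, rfl⟩ | ⟨j, rfl⟩
    · left; rw [zpow_add, ← (Commute.refl d).mul_zpow, hd2, one_zpow]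
    · right; rw [zpow_add, zpow_mul, zpow_two, hd2, one_zpow, one_mul, zpow_one]
  rcases h2 with h2 | h2 <;> simp only [h2] at hx ⊢
  · simpa using hk
  · exact absurd ((Subgroup.mul_mem_cancel_left _ hkN).mp hx) (hL.out d hd)

/-- Every automorphism of the derived group comes from the group. -/
theorem surjective {d : G} (hd : d ∈ D) :
    Function.Surjective (MulAut.conjNormal : G →* MulAut ↥(commutator G)) := by
  intro α₀
  set c : G →* MulAut ↥(commutator G) := MulAut.conjNormal with hc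
  have X := hX d hd
  have ht := tsys hX hd
  have hL := even hX hd
  suffices h : ∃ g, c g * α₀ = 1 by
    obtain ⟨g, hg⟩ := h
    exact ⟨g⁻¹, by rw [map_inv]; exact inv_eq_of_mul_eq_one_right hg⟩
  have hap : ∀ (g : G) (β : MulAut ↥(commutator G)) {x : G}, x ∈ commutator G →
      ap (c g * β) x = g * ap β x * g⁻¹ := fun g β x hx => by
    rw [ap_eq _ hx, ap_eq _ hx, hc, MulAut.mul_apply, MulAut.conjNormal_apply]
  -- move the centre back
  obtain ⟨a, ha, ha'⟩ := exists_centre hX α₀ hd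
  obtain ⟨g, hg⟩ := X.prim.1 a ha d hd
  set α := c g * α₀ with hα
  obtain ⟨σ, hσD, hσ, hσi, hσe⟩ := exists_sigma hX α
  have hσd : σ d = d := by
    refine centre_unique hX α hd (fun b hb => ?_) fun b hb => ?_
    · obtain ⟨h1, h2⟩ := hσ d hd b hb
      rw [h1]; exact left_mem_sup (hσD d hd) h2
    · rw [hα, hap g α₀ (mul_mem_derived hL hd hb.1)]
      obtain ⟨-, q, hq, e⟩ := ha' b hb
      rw [← e, show g * (a * q) * g⁻¹ = g * a * g⁻¹ * (g * q * g⁻¹) by group, hg]
      refine left_mem_sup hd ⟨ht.conj g q hq.1, fun h => hq.2.1 (mul_left_cancel (mul_right_cancel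
        (h.trans hg.symm))), ?_⟩
      rw [← hg]
      exact (Commute.conj_iff g).mpr hq.2.2
  have hiff : ∀ {β : MulAut ↥(commutator G)} {τ : G → G},
      (∀ u ∈ D, ∀ v ∈ D, τ u = τ v → u = v) →
      (∀ u ∈ D, ∀ n ∈ commutator G, τ (n * u * n⁻¹) = ap β n * τ u * (ap β n)⁻¹) →
      ∀ {s : G}, s ∈ D → τ s = s → ∀ n : ↥(commutator G), Commute (n : G) s ↔ Commute (β n : G) s := by
    intro β τ hi he s hs hτ n
    have h1 := he s hs n n.2
    rw [ap_eq β n.2, hτ, Subtype.coe_eta] at h1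
    constructor
    · intro h
      rw [fixes h, hτ] at h1
      exact mul_inv_eq_iff_eq_mul.mp h1.symm
    · intro h
      rw [fixes h] at h1
      exact mul_inv_eq_iff_eq_mul.mp (hi _ (ht.conj _ s hs) s hs (h1.trans hτ.symm))
  obtain ⟨y, hy, hyα⟩ := inner_on hX hd α (hiff hσi hσe hd hσd)
  set α₂ := c y⁻¹ * α with hα₂
  have hyd : Commute y d := mem_centralizer_singleton_iff.mp hy.2
  have hfix : ∀ x ∈ Yc d, ap α₂ x = x := fun x hx => by
    rw [hα₂, hap _ _ hx.1, ap_eq α hx.1, hyα ⟨x, hx.1⟩ (mem_centralizer_singleton_iff.mp hx.2)]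
    show y⁻¹ * (y * x * y⁻¹) * y⁻¹⁻¹ = x
    group
  obtain ⟨τ, hτD, hτ, hτi, hτe⟩ := exists_sigma hX α₂
  have hdb : ∀ p ∈ near D d, d * p ∈ Yc d := fun p hp =>
    ⟨mul_mem_derived hL hd hp.1, mem_centralizer_singleton_iff.mpr
      ((Commute.refl d).mul_left hp.2.2.symm).eq⟩
  have hτd : τ d = d := by
    refine centre_unique hX α₂ hd (fun b hb => ?_) fun b hb => ?_
    · obtain ⟨h1, h2⟩ := hτ d hd b hb
      rw [h1]; exact left_mem_sup (hτD d hd) h2
    · rw [hfix _ (hdb b hb)]; exact left_mem_sup hd hb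
  obtain ⟨b, hb⟩ := ThreeTransM24Local88.exists_near X
  have hτb : τ b = b := by
    have h := (hτ d hd b hb).1
    rw [hfix _ (hdb b hb), hτd] at h
    exact (mul_left_cancel h).symm
  obtain ⟨w, hw, hwα⟩ := inner_on hX hb.1 α₂ (hiff hτi hτe hb.1 hτb)
  have hwb : Commute w b := mem_centralizer_singleton_iff.mp hw.2
  have hwq : ∀ q ∈ near D d, Commute q b → Commute w (d * q) := fun q hq hqb => by
    have hm := hdb q hq
    have h := hwα ⟨d * q, hm.1⟩ (hb.2.2.mul_left hqb)
    rw [← ap_eq α₂ hm.1, hfix _ hm] at h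
    exact mul_inv_eq_iff_eq_mul.mp h.symm
  have hwd : Commute w d := by
    have h := (hwq b hb (Commute.refl b)).mul_right hwb
    rwa [mul_assoc, ht.sq b hb.1, mul_one] at h
  have hwn : ∀ q ∈ N2 D d b, Commute w q := fun q hq => by
    have h := hwd.mul_right (hwq q hq.1 hq.2.2.2.symm)
    rwa [← mul_assoc, ht.sq d hd, one_mul] at h
  have hw2 : w = 1 ∨ w = b * d := by
    obtain ⟨z, hz, hzn⟩ := ThreeTransM24Local88.half X hb hwd hwb hwn
    have hzd : Commute z d := by
      rcases hz with rfl | rfl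
      exacts [hwd, hb.2.2.symm.mul_left hwd]
    rcases ThreeTransM24Local88.only X hzd hzn with h1 | h1 <;> rcases hz with rfl | rfl
    · exact Or.inl h1
    · exfalso
      refine hL.out b hb.1 ?_
      rw [← ht.inv_self hb.1, inv_eq_of_mul_eq_one_right h1]
      exact hw.1
    · exact absurd hw.1 (h1 ▸ hL.out d hd)
    · exact Or.inr (by rw [← h1, ← mul_assoc, ht.sq b hb.1, one_mul])
  -- a suitable correction fixes both centralizers
  obtain ⟨u, hud, hub⟩ : ∃ u : G, (∀ x ∈ Yc d, ap (c u * α₂) x = x) ∧ ∀ x ∈ Yc b, ap (c u * α₂) x = x := by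
    have hb' : ∀ x ∈ Yc b, ap α₂ x = w * x * w⁻¹ := fun x hx => by
      rw [ap_eq α₂ hx.1]; exact hwα ⟨x, hx.1⟩ (mem_centralizer_singleton_iff.mp hx.2)
    rcases hw2 with rfl | rfl
    · refine ⟨1, fun x hx => ?_, fun x hx => ?_⟩
      · rw [hap _ _ hx.1, hfix x hx]; group
      · rw [hap _ _ hx.1, hb' x hx]; group
    · refine ⟨d, fun x hx => ?_, fun x hx => ?_⟩
      · rw [hap _ _ hx.1, hfix x hx]
        exact fixes (mem_centralizer_singleton_iff.mp hx.2 : Commute x d).symm
      · rw [hap _ _ hx.1, hb' x hx,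
          show d * (b * d * x * (b * d)⁻¹) * d⁻¹ = d * (b * d) * x * (d * (b * d))⁻¹ by group,
          show d * (b * d) = b by rw [← hb.2.2.eq, ← mul_assoc, ht.sq d hd, one_mul]]
        exact fixes (mem_centralizer_singleton_iff.mp hx.2 : Commute x b).symm
  refine ⟨u * y⁻¹ * g, MulEquiv.ext fun n => ?_⟩
  have e : c (u * y⁻¹ * g) * α₀ = c u * α₂ := by
    rw [hα₂, hα, map_mul, map_mul]; group
  rw [e]
  set F : Subgroup G :=
    { carrier := {x | x ∈ commutator G ∧ ap (c u * α₂) x = x}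
      one_mem' := ⟨one_mem _, by rw [ap_eq _ (one_mem _)]; exact congrArg Subtype.val (map_one (c u * α₂))⟩
      mul_mem' := fun {p q} hp hq => ⟨mul_mem hp.1 hq.1, by rw [ap_mul _ hp.1 hq.1, hp.2, hq.2]⟩
      inv_mem' := fun {p} hp => ⟨inv_mem hp.1, by
        have h := ap_mul (c u * α₂) (inv_mem hp.1) hp.1
        rw [inv_mul_cancel, hp.2, ap_eq _ (one_mem _)] at h
        exact eq_inv_of_mul_eq_one_left (h.symm.trans (congrArg Subtype.val (map_one (c u * α₂))))⟩ }
  have hle : Yc d ⊔ Yc b ≤ F :=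
    sup_le (fun x hx => ⟨hx.1, hud x hx⟩) fun x hx => ⟨hx.1, hub x hx⟩
  have h := (hle (generate hX hd hb n.2)).2
  rw [ap_eq _ n.2] at h
  exact Subtype.ext h

/-- The inner automorphisms of the derived group have index two. -/
theorem index_inn {d : G} (hd : d ∈ D) : (Cfsg.Inn ↥(commutator G)).index = 2 := by
  have ht := tsys hX hd
  have hL := even hX hd
  have hinj : Function.Injective (MulAut.conjNormal : G →* MulAut ↥(commutator G)) := by
    rw [injective_iff_map_eq_one]
    intro g hg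
    have hfix : ∀ x ∈ commutator G, g * x * g⁻¹ = x := fun x hx =>
      (MulAut.conjNormal_apply g ⟨x, hx⟩).symm.trans
        (congrArg Subtype.val (DFunLike.congr_fun hg ⟨x, hx⟩))
    have hc : ∀ s ∈ D, Commute g s := fun s hs => by
      obtain ⟨b, hb⟩ := ThreeTransM24Local88.exists_near (hX s hs)
      obtain ⟨b', hb'⟩ := exists_nbr hX hs hb
      have key : ∀ q ∈ near D s, g * s * g⁻¹ = s ∨ g * s * g⁻¹ = q := fun q hq =>
        mem_sup hX hs hq (by
          have e : g * s * g⁻¹ * (g * q * g⁻¹) = s * q := by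
            rw [show g * s * g⁻¹ * (g * q * g⁻¹) = g * (s * q) * g⁻¹ by group,
              hfix _ (mul_mem_derived hL hs hq.1)]
          exact ⟨ht.conj g s hs, g * q * g⁻¹, ⟨ht.conj g q hq.1,
            fun h => hq.2.1 (mul_left_cancel (mul_right_cancel h)), (Commute.conj_iff g).mpr hq.2.2⟩, e⟩)
      refine mul_inv_eq_iff_eq_mul.mp ?_
      rcases key b hb with h | h
      · exact h
      · exact (key b' hb'.1).resolve_right fun h' => hb'.2.2.1 (h'.symm.trans h)
    refine mem_bot.mp ((hX d hd).centre ▸ mem_center_iff.mpr fun x => ?_)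
    have hx : x ∈ centralizer ({g} : Set G) := by
      have : Subgroup.closure D ≤ centralizer ({g} : Set G) :=
        (closure_le _).mpr fun s hs => mem_centralizer_singleton_iff.mpr (hc s hs).symm.eq
      exact this (ht.gen ▸ mem_top x)
    exact mem_centralizer_singleton_iff.mp hx
  let e : G ≃* MulAut ↥(commutator G) := MulEquiv.ofBijective _ ⟨hinj, surjective hX hd⟩
  have hInn : (commutator G).map (e : G →* MulAut ↥(commutator G)) = Cfsg.Inn ↥(commutator G) := by
    ext φ
    constructor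
    · rintro ⟨x, hx, rfl⟩
      exact ⟨⟨x, hx⟩, MulEquiv.ext fun n => Subtype.ext (MulAut.conjNormal_apply x n).symm⟩
    · rintro ⟨x, rfl⟩
      exact ⟨x, x.2, MulEquiv.ext fun n => Subtype.ext (MulAut.conjNormal_apply (x : G) n)⟩
  rw [← hInn, index_map_equiv, hL.idx]

end Cfsg.Agent.Fi24Out65
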