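import Cfsg.Agent.Lib.Fi24Lift64
import Cfsg.Agent.Lib.Fi24Index64
import Cfsg.Agent.Lib.Fi24Mu54
import Cfsg.Agent.Lib.Fi24Base90
import Cfsg.Agent.Lib.CosetCertRestrict

/-!
An upper bound on central covers of Fi24'. Lifts of the generators of Fi23 and of k l give permutations of
Γ × Bool satisfying every relator of Fi24 except z; the walk along z then shows that the kernel is generated
by one element of order dividing three.
-/

set_option autoImplicit false
set_option maxRecDepth 100000
set_option Elab.async false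
set_option linter.style.haveILetI false

namespace Cfsg.Agent.Fi24Upper64

open Cfsg.Agent.CosetCertCore Cfsg.Agent.CosetCertTable Cfsg.Agent.CosetCertPres Cfsg.Agent.CosetCertOrder
open Cfsg.Agent.Fi24Core64 Cfsg.Agent.Fi24Data64
open Cfsg.Agent.Fi24Cosets64 (P23 E inH inC pw Inputs hE Cs pre)
open Cfsg.Agent.Fi24Table88 (img)

/-- The parity of an element of Fi24. -/
noncomputable abbrev par : G24 →* Multiplicative (ZMod 2) := Fi24Base90.par

theorem par_gg (x : Nat) : par (gg x) = Multiplicative.ofAdd 1 := Fi24Base90.par_gn _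

/-- l or 1. -/
noncomputable def L (e : Bool) : G24 := if e then gg 0 else 1

theorem L_not (e : Bool) : L (!e) = L e * gg 0 := by
  cases e
  · simp [L]
  · simp [L, invol 0]

theorem L_sq (e : Bool) : L e * L e = 1 := by cases e <;> simp [L, invol 0]

theorem par_L (e : Bool) : par (L e) = if e then Multiplicative.ofAdd 1 else 1 := by
  cases e
  · simp [L]
  · simp only [L, if_true]; exact par_gg 0

theorem L_inj {a b : Bool} (h : par (L a) = par (L b)) : a = b := by
  rw [par_L, par_L] at h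
  cases a <;> cases b <;> first | rfl | exact absurd h (by decide)

variable {Γ : Type} [Group Γ] (σ : Γ →* G24) (s : P23.Grp →* Γ) (u : Γ)

/-- The value of the braid relator of a and k. -/
def ma : Γ := (s (P23.gg 0) * u⁻¹) ^ 3

/-- The factor by which a letter multiplies. -/
noncomputable def coef (x : Nat) (e : Bool) : Γ :=
  if x = 1 then (if e then u⁻¹ else u)
  else if 2 ≤ x ∧ x < 12 then s (P23.gg (x - 2))
  else if x = 12 then ma s u
  else 1

/-- Whether a letter is odd. -/
def flip (x : Nat) (e : Bool) : Bool := if x < 12 then !e else e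

/-- The action of a letter. -/
noncomputable def twf (x : Nat) (q : Γ × Bool) : Γ × Bool := (q.1 * coef s u x q.2, flip x q.2)

/-- The assumed properties of the lifts. -/
structure Lifts : Prop where
  hker : σ.ker ≤ Subgroup.center Γ
  hs : ∀ p, ∀ hsp : val gg spiderWord = 1, σ (s p) = Fi24Hom64.psi hsp p
  hu : σ u = gg 1 * gg 0
  u3 : u ^ 3 = 1
  inv : ∀ x, 1 ≤ x → x < 10 → (s (P23.gg x) * u⁻¹) ^ 2 = 1
  ma2 : ma s u * ma s u = 1
  ma' : (s (P23.gg 0) * u) ^ 3 = ma s u
  range : σ.range = commutator G24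
  gen : Subgroup.closure ({y | ∃ x < 10, y = s (P23.gg x)} ∪ {u}) = ⊤

variable {σ s u} (T : Lifts σ s u)
variable (rho : G24 →* Equiv.Perm (Fin 306936))
  (hrho : ∀ x < 12, ∀ i : Fin 306936, ((rho (gg x) i : Fin 306936) : Nat) = img x i)

theorem s_sq (x : Nat) : s (P23.gg x) * s (P23.gg x) = 1 := by
  rw [← map_mul, gg_sq CosetCertFi23Simple.good, map_one]

include T

theorem coef_flip (x : Nat) (e : Bool) : coef s u x e * coef s u x (flip x e) = 1 := by
  unfold coef flip
  by_cases h1 : x = 1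
  · subst h1; cases e <;> simp
  · by_cases h2 : 2 ≤ x ∧ x < 12
    · simp only [h1, h2, if_false, and_self, if_true, s_sq]
    · by_cases h3 : x = 12
      · subst h3; simp [T.ma2]
      · simp [h1, h2, h3]

omit T in
theorem flip_flip (x : Nat) (e : Bool) : flip x (flip x e) = e := by
  unfold flip; by_cases h : x < 12 <;> simp [h]

theorem twf_twf (x : Nat) : Function.Involutive (twf s u x) := by
  rintro ⟨γ, e⟩
  simp only [twf]
  rw [mul_assoc, coef_flip T, mul_one, flip_flip]

/-- The permutation of a letter. -/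
noncomputable def tw (x : Nat) : Equiv.Perm (Γ × Bool) := (twf_twf T x).toPerm

theorem tw_apply (x : Nat) (q : Γ × Bool) : tw T x q = twf s u x q := rfl

theorem tw_sq (x : Nat) : tw T x * tw T x = 1 := Equiv.ext (twf_twf T x)

theorem val_tw (w : List Nat) (q : Γ × Bool) :
    val (tw T) w q = w.foldr (fun x q => twf s u x q) q := by
  induction w with
  | nil => rfl
  | cons x w ih => rw [val_cons, Equiv.Perm.mul_apply, ih, List.foldr_cons, tw_apply]

theorem sigma_ma (hsp : val gg spiderWord = 1) : σ (ma s u) = 1 := by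
  rw [ma, map_pow, map_mul, map_inv, T.hs _ hsp, Fi24Hom64.psi_gg hsp 0 (by omega), T.hu,
    mul_inv_rev, inv_of_sq _ invol, inv_of_sq _ invol, mul_assoc, ← mul_assoc (gg 0) (gg 0), invol,
    one_mul]
  exact (rel_one good .a .k : (PresentedGroup.of _ * PresentedGroup.of _ : G24) ^ _ = 1)

omit T in
theorem bool_not_xor (a b : Bool) : (!(a ^^ b)) = (a ^^ !b) := by cases a <;> cases b <;> rfl

theorem foldr_inH (w : List Nat) (hw : inH w = true) (γ : Γ) (e : Bool) :
    w.foldr (fun x q => twf s u x q) (γ, e) =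
      (γ * s (val P23.gg (pw w))⁻¹, e ^^ w.length.bodd) := by
  induction w with
  | nil => simp [pw, val]
  | cons x w ih =>
    have hw' : inH w = true :=
      Fi24Cosets64.inH_iff.mpr fun y hy => Fi24Cosets64.inH_iff.mp hw y (List.mem_cons_of_mem _ hy)
    obtain ⟨hx, hx1⟩ := Fi24Hom64.mem_hgens.mp (Fi24Cosets64.inH_iff.mp hw x (List.mem_cons_self ..))
    rw [List.foldr_cons, ih hw', twf]
    refine Prod.ext ?_ ?_
    · show γ * s (val P23.gg (pw w))⁻¹ * coef s u x _ = γ * s (val P23.gg (pw (x :: w)))⁻¹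
      by_cases h0 : x = 0
      · subst h0
        simp [coef, pw]
      · have e1 : pw (x :: w) = (x - 2) :: pw w := by simp [pw, h0]
        rw [e1, val_cons, mul_inv_rev, map_mul, inv_of_sq _ (gg_sq CosetCertFi23Simple.good),
          ← mul_assoc]
        simp [coef, hx1, hx, show 2 ≤ x by omega]
    · show flip x (e ^^ w.length.bodd) = (e ^^ (x :: w).length.bodd)
      rw [flip, if_pos hx, List.length_cons, Nat.bodd_succ, bool_not_xor]

include hrho

theorem spiderH : val gg spiderWord = 1 := Fi24Index64.spider rho hrho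

theorem pw_one (w : List Nat) (hw : inH w = true) (h : val gg w = 1) : val P23.gg (pw w) = 1 := by
  obtain ⟨p, I⟩ := Fi24Index64.exists_inputs rho hrho
  have h1 := Fi24Cosets64.p_hE I w hw
  rw [show hE w hw = 1 from Subtype.ext (by show (val gg w)⁻¹ = 1; rw [h, inv_one]), map_one] at h1
  exact inv_eq_one.mp h1.symm

theorem val_inH (w : List Nat) (hw : inH w = true) (hl : w.length.bodd = false) (h : val gg w = 1) :
    val (tw T) w = 1 := by
  refine Equiv.ext fun q => ?_
  obtain ⟨γ, e⟩ := q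
  rw [val_tw T, foldr_inH T w hw, pw_one T rho hrho w hw h, inv_one, map_one, mul_one, hl,
    Bool.xor_false]
  rfl

omit hrho T in
theorem pairs_classified : ∀ w ∈ coxWords,
    (inH w = true ∧ w.length.bodd = false) ∨ w = [1, 1] ∨ w = [0, 1, 0, 1, 0, 1] ∨
      w = [1, 2, 1, 2, 1, 2] ∨ (∃ x ∈ [3, 4, 5, 6, 7, 8, 9, 10, 11], w = [1, x, 1, x]) := by
  decide +kernel

omit hrho in
theorem val_braid_lk : val (tw T) [0, 1, 0, 1, 0, 1] = 1 := by
  refine Equiv.ext fun q => ?_
  obtain ⟨γ, e⟩ := q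
  rw [val_tw T]
  have h3 : u * (u * u) = 1 := by rw [← T.u3]; simp [pow_succ, mul_assoc]
  cases e <;> simp [twf, coef, flip, mul_assoc, h3]
  rw [← mul_inv_rev, ← mul_inv_rev, inv_eq_one, mul_assoc, h3]

omit hrho in
theorem val_comm_k (x : Nat) (h3 : 3 ≤ x) (h11 : x ≤ 11) : val (tw T) [1, x, 1, x] = 1 := by
  refine Equiv.ext fun q => ?_
  obtain ⟨γ, e⟩ := q
  rw [val_tw T]
  have hi := T.inv (x - 2) (by omega) (by omega)
  rw [pow_two] at hi
  have hs := s_sq (s := s) (x - 2)
  generalize hS : s (P23.gg (x - 2)) = S at hi hs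
  have h1 : S * (u⁻¹ * (S * u⁻¹)) = 1 := by rw [← hi]; simp [mul_assoc]
  have h2 : S * (u * (S * u)) = 1 := by
    have := congrArg (fun z => z⁻¹) h1
    simp only [mul_inv_rev, inv_inv, inv_one, inv_eq_of_mul_eq_one_right hs] at this
    calc S * (u * (S * u)) = S * (u * S * u * S) * S := by
          simp only [mul_assoc, hs, mul_one]
      _ = 1 := by rw [this, mul_one, hs]
  cases e
  · simp [twf, coef, flip, mul_assoc, show x ≠ 1 by omega, show 2 ≤ x by omega, show x < 12 by omega,
      hS, h1]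
  · simp [twf, coef, flip, mul_assoc, show x ≠ 1 by omega, show 2 ≤ x by omega, show x < 12 by omega,
      hS, h2]

omit hrho in
theorem val_braid_ka (m : List Nat) (hm : ∀ q, m.foldr (fun x q => twf s u x q) q = (q.1 * ma s u, q.2)) : val (tw T) ([1, 2, 1, 2, 1, 2] ++ m) = 1 := by
  refine Equiv.ext fun q => ?_
  obtain ⟨γ, e⟩ := q
  rw [val_tw T, List.foldr_append, hm]
  have h1 := T.ma'
  have h2 : (s (P23.gg 0) * u⁻¹) ^ 3 = ma s u := rfl
  have hS := s_sq (s := s) 0
  cases e
  · simp [twf, coef, flip, mul_assoc]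
    simp only [pow_succ, pow_zero, one_mul, mul_assoc] at h2
    rw [h2, T.ma2]
  · simp [twf, coef, flip, mul_assoc]
    simp only [pow_succ, pow_zero, one_mul, mul_assoc] at h1
    rw [h1, T.ma2]

theorem mu_rels : ∀ w ∈ Fi24Mu54.muRels, val (tw T) w = 1 := by
  have hcl : ∀ w ∈ Fi24Mu54.muRels, (inH w = true ∧ w.length.bodd = false ∧ w ∈ coxWords ++ [e7Word]) ∨
      w = [0, 1, 0, 1, 0, 1] ∨ w = [1, 2, 1, 2, 1, 2] ++ [12] ∨
      (∃ x ∈ [3, 4, 5, 6, 7, 8, 9, 10, 11], w = [1, x, 1, x]) ∨ w = [12, 12] ∨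
      (∃ x ∈ [0, 1, 2, 3, 4, 5, 6, 7, 8, 10], w = [x, 12, x, 12]) := by decide +kernel
  intro w hw
  rcases hcl w hw with ⟨h1, h2, h3⟩ | rfl | rfl | ⟨x, hx, rfl⟩ | rfl | ⟨x, hx, rfl⟩
  · refine val_inH T rho hrho w h1 h2 ?_
    rcases List.mem_append.mp h3 with h3 | h3
    · exact val_cox h3
    · rw [List.mem_singleton.mp h3]; exact val_e7
  · exact val_braid_lk T
  · exact val_braid_ka T [12] fun q => by simp [twf, coef, flip]
  · simp only [List.mem_cons, List.not_mem_nil, or_false] at hx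
    exact val_comm_k T x (by omega) (by omega)
  · simp only [val_cons, val_nil, mul_one, tw_sq T]
  · refine Equiv.ext fun q => ?_
    obtain ⟨γ, e⟩ := q
    have hm : ∀ z : Γ, ma s u * z = z * ma s u := by
      intro z
      refine (Subgroup.mem_center_iff.mp (T.hker ?_) z).symm
      exact sigma_ma T (spiderH T rho hrho)
    have hc := coef_flip T x e
    simp only [List.mem_cons, List.not_mem_nil, or_false] at hx
    have hx12 : x ≠ 12 := by omega
    rw [val_tw T]
    simp only [List.foldr_cons, List.foldr_nil, twf]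
    simp only [show flip 12 = fun e => e from funext fun e => by simp [flip], show coef s u 12 =
      fun _ => ma s u from funext fun e => by simp [coef]]
    refine Prod.ext ?_ (by simp [flip_flip])
    show γ * ma s u * coef s u x e * ma s u * coef s u x (flip x e) = γ
    calc _ = γ * ma s u * (coef s u x e * ma s u) * coef s u x (flip x e) := by group
      _ = γ * ma s u * (ma s u * coef s u x e) * coef s u x (flip x e) := by rw [hm]
      _ = γ * (ma s u * ma s u) * (coef s u x e * coef s u x (flip x e)) := by group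
      _ = γ := by rw [T.ma2, hc, mul_one, mul_one]

theorem ma_eq_one : ma s u = 1 := by
  have hm := Fi24Mu54.mu_mem (tw T) (tw_sq T) (mu_rels T rho hrho)
  have key : ∀ q ∈ span (tw T) [0, 2, 3, 4, 5, 6, 7, 8, 10],
      ∃ p : P23.Grp, ∃ e0 : Bool, ∀ γ e, q (γ, e) = (γ * s p, e ^^ e0) := by
    intro q hq
    induction hq using Subgroup.closure_induction with
    | mem q hq =>
      obtain ⟨x, hx, rfl⟩ := hq
      simp only [List.mem_cons, List.not_mem_nil, or_false] at hx
      have hH : inH [x] = true := by simp [inH]; omega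
      refine ⟨(val P23.gg (pw [x]))⁻¹, true, fun γ e => ?_⟩
      rw [tw_apply T]
      simpa using foldr_inH T [x] hH γ e
    | one => exact ⟨1, false, fun γ e => by simp⟩
    | mul a b _ _ ha hb =>
      obtain ⟨pa, ea, ha⟩ := ha
      obtain ⟨pb, eb, hb⟩ := hb
      refine ⟨pb * pa, eb ^^ ea, fun γ e => ?_⟩
      rw [Equiv.Perm.mul_apply, hb, ha, map_mul, mul_assoc, Bool.xor_assoc]
    | inv a _ ha =>
      obtain ⟨pa, ea, ha⟩ := ha
      refine ⟨pa⁻¹, ea, fun γ e => ?_⟩
      rw [Equiv.Perm.inv_eq_iff_eq, ha, map_inv, inv_mul_cancel_right, Bool.xor_assoc]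
      simp
  obtain ⟨p, e0, hp⟩ := key _ hm
  have h := hp 1 false
  rw [tw_apply T] at h
  simp only [twf, coef, flip, Prod.mk.injEq, one_mul] at h
  norm_num at h
  have hsp := spiderH T rho hrho
  have hσ : σ (ma s u) = 1 := sigma_ma T hsp
  rw [h.1, T.hs p hsp] at hσ
  have hp1 : p = 1 := Fi24Hom64.psi_injective hsp (Fi24Index64.a_ne_l rho hrho) (hσ.trans (map_one _).symm)
  rw [h.1, hp1, map_one]

omit hrho T in
/-- Two words of H lying overG C. -/
theorem word_facts :
    (inH (coW1 ++ coW1) = true ∧ (Nat.beq (Fi24Cosets64.runX (coW1 ++ coW1) 1) 1 &&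
      Fi24Facts23x60.inO (Fi24Cosets64.T23.run (pw (coW1 ++ coW1)) 0)) = true) ∧
    (inH (List.replicate 3 ([3] ++ coW1)).flatten = true ∧
      (Nat.beq (Fi24Cosets64.runX (List.replicate 3 ([3] ++ coW1)).flatten 1) 1 &&
        Fi24Facts23x60.inO (Fi24Cosets64.T23.run (pw (List.replicate 3 ([3] ++ coW1)).flatten) 0)) = true) := by
  decide +kernel

/-! ### The combined group -/

/-- The pairs of a permutation and an element of Fi24. -/
noncomputable def g (x : Nat) : Equiv.Perm (Γ × Bool) × G24 :=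
  if x < 12 then (tw T x, gg x) else 1

omit hrho in
theorem g_sq (x : Nat) : g T x * g T x = 1 := by
  unfold g
  by_cases hx : x < 12
  · rw [if_pos hx, Prod.mk_mul_mk, tw_sq T, invol]; rfl
  · simp [hx]

omit hrho in
theorem val_g (w : List Nat) (hw : ∀ x ∈ w, x < 12) :
    val (g T) w = (val (tw T) w, val gg w) := by
  induction w with
  | nil => rfl
  | cons x w ih =>
    rw [val_cons, ih fun y hy => hw y (List.mem_cons_of_mem _ hy), val_cons, val_cons, g,
      if_pos (hw x (List.mem_cons_self ..)), Prod.mk_mul_mk]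

/-- The compatibility of a pair. -/
def Good (σ : Γ →* G24) (q : Equiv.Perm (Γ × Bool) × G24) : Prop :=
  (∀ γ e, q.1 (γ, e) = (γ * (q.1 (1, e)).1, (q.1 (1, e)).2)) ∧
    ∀ e, σ (q.1 (1, e)).1 * L (q.1 (1, e)).2 = L e * q.2⁻¹

theorem good_g (x : Nat) : Good σ (g T x) := by
  have hsp := spiderH T rho hrho
  by_cases hx : x < 12
  · rw [g, if_pos hx]
    refine ⟨fun γ e => ?_, fun e => ?_⟩
    · simp [tw_apply T, twf]
    · simp only [tw_apply T, twf, one_mul, flip, if_pos hx, inv_of_sq _ invol, L_not]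
      by_cases h1 : x = 1
      · subst h1
        cases e
        · simp [coef, L, T.hu, mul_assoc, invol 0]
        · simp [coef, L, T.hu, mul_assoc, invol 0, inv_of_sq gg invol]
      · by_cases h0 : x = 0
        · subst h0; simp [coef]
        · have hc : Commute (gg x) (L e) := by
            cases e
            · exact Commute.one_right _
            · exact Fi24Hom64.l_comm hx h1
          rw [show coef s u x e = s (P23.gg (x - 2)) by simp [coef, h1, show 2 ≤ x by omega, hx],
            T.hs _ hsp, Fi24Hom64.psi_gg hsp _ (by omega), show x - 2 + 2 = x by omega,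
            ← hc.eq, mul_assoc, ← mul_assoc (gg 0) (L e)]
          cases e <;> simp [L, invol 0]
  · rw [g, if_neg hx]
    exact ⟨fun γ e => by simp, fun e => by simp⟩

omit hrho T in
theorem good_mul {a b : Equiv.Perm (Γ × Bool) × G24} (ha : Good σ a) (hb : Good σ b) : Good σ (a * b) := by
  have e1 : ∀ γ e, (a * b).1 (γ, e) =
      (γ * ((b.1 (1, e)).1 * (a.1 (1, (b.1 (1, e)).2)).1), (a.1 (1, (b.1 (1, e)).2)).2) := fun γ e => by
    show a.1 (b.1 (γ, e)) = _
    rw [hb.1, ha.1, mul_assoc]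
  refine ⟨fun γ e => ?_, fun e => ?_⟩
  · rw [e1, e1 1 e, one_mul]
  · rw [e1 1 e, one_mul, map_mul, mul_assoc, ha.2, ← mul_assoc, hb.2, mul_assoc, Prod.snd_mul,
      mul_inv_rev]

omit hrho T in
theorem good_inv {a : Equiv.Perm (Γ × Bool) × G24} (ha : Good σ a) : Good σ a⁻¹ := by
  have key : ∀ e, ∃ e', (a.1 (1, e')).2 = e ∧ ∀ γ, a⁻¹.1 (γ, e) = (γ * ((a.1 (1, e')).1)⁻¹, e') := by
    intro e
    obtain ⟨⟨γ', e'⟩, hq⟩ := a.1.surjective (1, e)
    rw [ha.1] at hq
    simp only [Prod.mk.injEq] at hq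
    refine ⟨e', hq.2, fun γ => ?_⟩
    show a.1⁻¹ (γ, e) = _
    rw [Equiv.Perm.inv_eq_iff_eq, ha.1, inv_mul_cancel_right, hq.2]
  refine ⟨fun γ e => ?_, fun e => ?_⟩
  · obtain ⟨e', -, h⟩ := key e
    rw [h, h 1, one_mul]
  · obtain ⟨e', he, h⟩ := key e
    have := ha.2 e'
    rw [he] at this
    rw [h 1, one_mul, map_inv, Prod.snd_inv, inv_inv]
    show (σ (a.1 (1, e')).1)⁻¹ * L e' = L e * a.2
    rw [inv_mul_eq_iff_eq_mul, ← mul_assoc, this, inv_mul_cancel_right]

theorem good_of_mem {q : Equiv.Perm (Γ × Bool) × G24}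
    (hq : q ∈ Subgroup.closure (Set.range (g T))) : Good σ q := by
  induction hq using Subgroup.closure_induction with
  | mem q hq =>
    obtain ⟨x, rfl⟩ := hq
    exact good_g T rho hrho x
  | one => exact ⟨fun γ e => by simp, fun e => by simp⟩
  | mul a b _ _ ha hb => exact good_mul ha hb
  | inv a _ ha => exact good_inv ha

theorem good_parity {q : Equiv.Perm (Γ × Bool) × G24} (hq : Good σ q) (e : Bool) :
    ((q.1 (1, e)).2 = e ↔ par q.2 = 1) := by
  have h := congrArg par (hq.2 e)
  have hc : par (σ (q.1 (1, e)).1) = 1 := by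
    have hm : σ (q.1 (1, e)).1 ∈ commutator G24 := T.range ▸ ⟨_, rfl⟩
    exact (Abelianization.commutator_subset_ker par hm : _ ∈ par.ker)
  rw [map_mul, map_mul, hc, one_mul, map_inv] at h
  constructor
  · intro he
    rw [he] at h
    exact inv_eq_one.mp (mul_left_cancel (h.symm.trans (mul_one _).symm))
  · intro hp
    rw [hp, inv_one, mul_one] at h
    exact L_inj h

theorem good_one {q : Equiv.Perm (Γ × Bool) × G24} (hq : Good σ q) (h1 : q.2 = 1) (e : Bool) :
    (q.1 (1, e)).2 = e ∧ σ (q.1 (1, e)).1 = 1 := by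
  have he : (q.1 (1, e)).2 = e := (good_parity T rho hrho hq e).mpr (by rw [h1, map_one])
  refine ⟨he, ?_⟩
  have := hq.2 e
  rw [he, h1, inv_one, mul_one] at this
  exact mul_right_cancel (this.trans (one_mul _).symm)

theorem overG : Fi24Lift64.Over (g T) (MonoidHom.snd _ _) where
  invol := g_sq T
  cox := by
    intro w hw
    rw [val_g T w ((show ∀ w ∈ coxWords, ∀ x ∈ w, x < 12 from by decide +kernel) w hw), val_cox hw]
    refine Prod.ext ?_ rfl
    show val (tw T) w = 1
    rcases pairs_classified w hw with ⟨h1, h2⟩ | rfl | rfl | rfl | ⟨x, hx, rfl⟩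
    · exact val_inH T rho hrho w h1 h2 (val_cox hw)
    · simp only [val_cons, val_nil, mul_one, tw_sq T]
    · exact val_braid_lk T
    · have := val_braid_ka T [] fun q => by rw [ma_eq_one T rho hrho, mul_one]; rfl
      rwa [List.append_nil] at this
    · simp only [List.mem_cons, List.not_mem_nil, or_false] at hx
      exact val_comm_k T x (by omega) (by omega)
  e7 := by
    rw [val_g T _ (by decide +kernel), val_e7]
    exact Prod.ext (val_inH T rho hrho _ (by decide +kernel) (by decide +kernel) val_e7) rfl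
  map := fun x hx => by simp [g, hx]
  inj := by
    intro q hq h1
    have hsp := spiderH T rho hrho
    have key : ∀ q ∈ Fi24Lift64.HS (g T), ∃ p : P23.Grp, ∃ e0 : Bool,
        (∀ γ e, q.1 (γ, e) = (γ * s p, e ^^ e0)) ∧ q.2 = (Fi24Hom64.psi hsp p)⁻¹ * L e0 := by
      intro q hq
      induction hq using Subgroup.closure_induction with
      | mem q hq =>
        obtain ⟨x, hx, rfl⟩ := hq
        obtain ⟨hx12, hx1⟩ := Fi24Hom64.mem_hgens.mp hx
        have hH : inH [x] = true := Fi24Cosets64.inH_iff.mpr (by simpa using hx)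
        refine ⟨(val P23.gg (pw [x]))⁻¹, true, fun γ e => ?_, ?_⟩
        · rw [g, if_pos hx12]
          show tw T x (γ, e) = _
          rw [tw_apply T]
          simpa using foldr_inH T [x] hH γ e
        · rw [g, if_pos hx12]
          show gg x = _
          by_cases h0 : x = 0
          · subst h0; simp [pw, val, L]
          · have e1 : pw [x] = [x - 2] := by simp [pw, h0]
            rw [e1, map_inv, inv_inv, val_cons, val_nil, mul_one,
              Fi24Hom64.psi_gg hsp _ (by omega), show x - 2 + 2 = x by omega, mul_assoc, L, if_pos rfl,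
              invol, mul_one]
      | one => exact ⟨1, false, fun γ e => by simp, by simp [L]⟩
      | mul a b _ _ ha hb =>
        obtain ⟨pa, ea, ha, ha'⟩ := ha
        obtain ⟨pb, eb, hb, hb'⟩ := hb
        refine ⟨pb * pa, eb ^^ ea, fun γ e => ?_, ?_⟩
        · show a.1 (b.1 (γ, e)) = _
          rw [hb, ha, map_mul, mul_assoc, Bool.xor_assoc]
        · rw [Prod.snd_mul, ha', hb', map_mul, mul_inv_rev]
          have hc : Commute (L ea) (Fi24Hom64.psi hsp pb)⁻¹ := by
            cases ea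
            · exact Commute.one_left _
            · exact (Fi24Hom64.l_central _ (inv_mem (Fi24Hom64.psi_mem hsp pb))).symm
          have hL : L ea * L eb = L (eb ^^ ea) := by cases ea <;> cases eb <;> simp [L, invol 0]
          rw [← hL]
          calc _ = (Fi24Hom64.psi hsp pa)⁻¹ * (L ea * (Fi24Hom64.psi hsp pb)⁻¹) * L eb := by group
            _ = _ := by rw [hc.eq]; group
      | inv a _ ha =>
        obtain ⟨pa, ea, ha, ha'⟩ := ha
        refine ⟨pa⁻¹, ea, fun γ e => ?_, ?_⟩
        · show a.1⁻¹ (γ, e) = _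
          rw [Equiv.Perm.inv_eq_iff_eq, ha, map_inv, inv_mul_cancel_right, Bool.xor_assoc]
          simp
        · rw [Prod.snd_inv, ha', map_inv, mul_inv_rev, inv_inv, inv_eq_of_mul_eq_one_right (L_sq ea)]
          cases ea
          · simp [L]
          · exact (Fi24Hom64.l_central _ (Fi24Hom64.psi_mem hsp pa)).symm
    obtain ⟨p, e0, hp, hp'⟩ := key q hq
    have h2 : q.2 = 1 := h1
    rw [h2] at hp'
    cases e0
    · rw [show L false = 1 from rfl, mul_one] at hp'
      have hp1 : p = 1 := Fi24Hom64.psi_injective hsp (Fi24Index64.a_ne_l rho hrho)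
        ((inv_eq_one.mp hp'.symm).trans (map_one _).symm)
      exact Prod.ext (Equiv.ext fun ⟨γ, e⟩ => by rw [hp, hp1]; simp) h2
    · exact absurd (inv_mul_eq_one.mp hp'.symm : Fi24Hom64.psi hsp p = gg 0)
        (Fi24Hom64.psi_ne_l hsp (Fi24Index64.a_ne_l rho hrho) (Fi24Index64.l_ne rho hrho) p)

/-! ### The translation from z -/

omit hrho in
theorem trans_ext {d : Equiv.Perm (Γ × Bool) × G24} {n : Bool → Γ}
    (hd : ∀ γ e, d.1 (γ, e) = (γ * n e, e)) (h2 : d.2 = 1) (hn : ∀ e, n e = 1) : d = 1 :=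
  Prod.ext (Equiv.ext fun ⟨γ, e⟩ => by rw [hd, hn, mul_one]; rfl) h2

theorem exists_delta : ∃ (d : Equiv.Perm (Γ × Bool) × G24) (n : Bool → Γ),
    d ∈ Subgroup.closure (Set.range (g T)) ∧ d.2 = 1 ∧ (∀ γ e, d.1 (γ, e) = (γ * n e, e)) ∧
    (∀ e, σ (n e) = 1) ∧ n true = (n false)⁻¹ ∧ n false ^ 3 = 1 ∧
    ∃ a ∈ Subgroup.closure (Set.range (g T)), Fi24Lift64.EG (g T) zWord = a⁻¹ * d * a := by
  obtain ⟨p, I⟩ := Fi24Index64.exists_inputs rho hrho
  have O := overG T rho hrho
  set K := Subgroup.closure (Set.range (g T)) with hK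
  have hHK : Fi24Lift64.HS (g T) ≤ K := Subgroup.closure_mono (by rintro _ ⟨x, -, rfl⟩; exact ⟨x, rfl⟩)
  have hgK : ∀ x, g T x ∈ K := fun x => Subgroup.subset_closure ⟨x, rfl⟩
  obtain ⟨f1, f2, -⟩ := Fi24Cosets64.co_facts
  -- k w k lies in H
  have hb : E [1] • Fi24Cosets64.cst (pre 1) = base := by
    rw [Fi24Cosets64.cst, smul_smul, show pre 1 = [1] from rfl, Fi24Cosets64.E_single, invol, one_smul]
  have hkTk : gg 1 * E coW1 * gg 1 ∈ H24 := by
    have : (gg 1 * E coW1 * gg 1) • base = base := by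
      rw [mul_smul, mul_smul,
        show gg 1 • base = Fi24Cosets64.cst (pre 1) by
          rw [Fi24Cosets64.cst, show pre 1 = [1] from rfl, Fi24Cosets64.E_single],
        Fi24Cosets64.meet I, ← Fi24Cosets64.E_single, hb]
    rw [show (gg 1 * E coW1 * gg 1) • base = ((gg 1 * E coW1 * gg 1 * 1 : G24) : G24 ⧸ H24) from rfl,
      mul_one, QuotientGroup.eq, mul_one, inv_mem_iff] at this
    exact this
  have surj : ∀ y ∈ H24, ∃ v ∈ Fi24Lift64.HS (g T), v.2 = y := by
    intro y hy
    induction hy using Subgroup.closure_induction with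
    | mem y hy =>
      obtain ⟨x, hx, rfl⟩ := hy
      exact ⟨g T x, Subgroup.subset_closure ⟨x, hx, rfl⟩, by
        rw [g, if_pos (Fi24Hom64.mem_hgens.mp hx).1]⟩
    | one => exact ⟨1, one_mem _, rfl⟩
    | mul a b _ _ ha hb =>
      obtain ⟨v, hv, ev⟩ := ha
      obtain ⟨w, hw, ew⟩ := hb
      exact ⟨v * w, mul_mem hv hw, by rw [Prod.snd_mul, ev, ew]⟩
    | inv a _ ha =>
      obtain ⟨v, hv, ev⟩ := ha
      exact ⟨v⁻¹, inv_mem hv, by rw [Prod.snd_inv, ev]⟩
  obtain ⟨hk, hkm, ek⟩ := surj _ hkTk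
  set h1 := Fi24Lift64.EG (g T) coW1 with hh1
  have h1m : h1 ∈ Fi24Lift64.HS (g T) := Fi24Lift64.EG_mem f1
  have h1π : h1.2 = E coW1 := Fi24Lift64.map_EG_H O f1
  set d := g T 1 * h1 * g T 1 * hk⁻¹ with hd_def
  have hg1 : (g T 1).2 = gg 1 := by simp [g]
  have hd2 : d.2 = 1 := by
    rw [hd_def, Prod.snd_mul, Prod.snd_inv, Prod.snd_mul, Prod.snd_mul, hg1, h1π, ek, mul_inv_cancel]
  have hdK : d ∈ K := mul_mem (mul_mem (mul_mem (hgK 1) (hHK h1m)) (hgK 1)) (inv_mem (hHK hkm))
  have hdG := good_of_mem T rho hrho hdK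
  let n : Bool → Γ := fun e => (d.1 (1, e)).1
  have hdt : ∀ γ e, d.1 (γ, e) = (γ * n e, e) := fun γ e => by
    rw [hdG.1 γ e, (good_one T rho hrho hdG hd2 e).1]
  have hns : ∀ e, σ (n e) = 1 := fun e => (good_one T rho hrho hdG hd2 e).2
  have hcen : ∀ e z, z * n e = n e * z := fun e z => Subgroup.mem_center_iff.mp (T.hker (hns e)) z
  have hkG := good_of_mem T rho hrho (hHK hkm)
  -- elements of C commute with k
  have hCs : ∀ w, inH w = true →
      (Nat.beq (Fi24Cosets64.runX w 1) 1 && Fi24Facts23x60.inO (Fi24Cosets64.T23.run (pw w) 0)) = true →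
      Commute (g T 1) (Fi24Lift64.EG (g T) w) := by
    intro w hw hr
    simp only [Bool.and_eq_true, Nat.beq_eq] at hr
    refine Fi24Lift64.comm_of_Cs O (Fi24Lift64.EG_mem hw) (h := hE w hw) ?_ (Fi24Lift64.map_EG_H O hw)
    exact Fi24Cosets64.mem_Cs I _
      (Fi24Cosets64.mem_stabX.mpr (Fin.ext ((Fi24Cosets64.rho_H I hw Fi24Cosets64.x1).trans hr.1)))
      ((Fi24Cosets64.flag_hE I _ hw).trans hr.2)
  obtain ⟨w2, w3⟩ := word_facts
  have kk : g T 1 * g T 1 = 1 := g_sq T 1
  -- the square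
  have sq1 : (d * hk) * (d * hk) = hk * hk := by
    have e1 : d * hk = g T 1 * h1 * g T 1 := by rw [hd_def, inv_mul_cancel_right]
    have c2 : Commute (g T 1) (h1 * h1) := by
      have := hCs _ w2.1 w2.2
      rwa [Fi24Lift64.EG_append] at this
    have e2 : (d * hk) * (d * hk) = h1 * h1 := by
      rw [e1]
      calc _ = g T 1 * h1 * (g T 1 * g T 1) * h1 * g T 1 := by group
        _ = g T 1 * (h1 * h1) * g T 1 := by rw [kk]; group
        _ = h1 * h1 := by rw [c2.eq, mul_assoc, kk, mul_one]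
    rw [e2]
    refine Fi24Lift64.eq_of_map O (mul_mem h1m h1m) (mul_mem hkm hkm) ?_
    have h' := congrArg (MonoidHom.snd (Equiv.Perm (Γ × Bool)) G24) e2
    simp only [map_mul, MonoidHom.coe_snd, hd2, one_mul] at h' ⊢
    exact h'.symm
  have hodd : par hk.2 = Multiplicative.ofAdd 1 := by
    rw [ek, map_mul, map_mul, E, map_inv, val, map_list_prod, List.map_map, par_gg]
    rw [List.map_congr_left (f := (⇑par ∘ gg)) (g := fun _ => Multiplicative.ofAdd (1 : ZMod 2)) (fun x _ => par_gg x)]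
    simp only [List.map_const', List.prod_replicate]
    decide +kernel
  have hflipk : ∀ e, (hk.1 (1, e)).2 = !e := fun e => by
    have h : (hk.1 (1, e)).2 ≠ e := fun he => by
      have := (good_parity T rho hrho hkG e).mp he
      rw [hodd] at this
      exact absurd this (by decide)
    cases e <;> simpa using h
  have hn1 : n true = (n false)⁻¹ := by
    have h2 : d * hk * d = hk := by
      apply mul_right_cancel (b := hk)
      rw [← sq1]; group
    have hev := congrArg (fun q : Equiv.Perm (Γ × Bool) × G24 => (q.1 (1, false)).1) h2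
    simp only [Prod.fst_mul, Equiv.Perm.mul_apply, hdt, one_mul] at hev
    rw [hkG.1 (n false) false, hflipk] at hev
    simp only [hdt] at hev
    simp only [Bool.not_false] at hev
    rw [← hcen, mul_assoc, mul_eq_left] at hev
    exact eq_inv_of_mul_eq_one_right hev
  -- the cube
  have hn3 : n false ^ 3 = 1 := by
    have e1 : d * hk = g T 1 * h1 * g T 1 := by rw [hd_def, inv_mul_cancel_right]
    set c := g T 3 with hc
    have cc : Commute (g T 1) c := Fi24Lift64.comm_pair O (by omega) (by omega) (by omega) (by decide +kernel)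
    have c3 : Commute (g T 1) ((h1 * c) ^ 3) := by
      have := hCs _ w3.1 w3.2
      rwa [Fi24Lift64.EG, val_replicate, ← inv_pow, ← Fi24Lift64.EG,
        Fi24Lift64.EG_append, Fi24Lift64.EG_single O] at this
    have e2 : (d * hk * c) ^ 3 = (h1 * c) ^ 3 := by
      have e3 : d * hk * c = g T 1 * (h1 * c) * (g T 1)⁻¹ := by
        rw [e1, inv_of_sq _ (g_sq T), mul_assoc, cc.eq]
        group
      rw [e3, conj_pow, c3.eq, mul_inv_cancel_right]
    have hcm : c ∈ Fi24Lift64.HS (g T) := Subgroup.subset_closure ⟨3, by decide, rfl⟩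
    have e4 : (hk * c) ^ 3 = (h1 * c) ^ 3 := by
      refine Fi24Lift64.eq_of_map O (pow_mem (mul_mem hkm hcm) 3) (pow_mem (mul_mem h1m hcm) 3) ?_
      have h' := congrArg (MonoidHom.snd (Equiv.Perm (Γ × Bool)) G24) e2
      simp only [map_pow, map_mul, MonoidHom.coe_snd, hd2, one_mul] at h' ⊢
      exact h'
    have hX : par (hk * c).2 = 1 := by
      rw [Prod.snd_mul, map_mul, hodd, hc, g, if_pos (by omega : 3 < 12), par_gg]
      decide
    have hXG := good_of_mem T rho hrho (mul_mem (hHK hkm) (hHK hcm))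
    have hcomm : Commute d (hk * c) := by
      refine Prod.ext (Equiv.ext fun ⟨γ, e⟩ => ?_) ?_
      · show d.1 ((hk * c).1 (γ, e)) = (hk * c).1 (d.1 (γ, e))
        rw [hXG.1, hdt, hdt, hXG.1 (γ * n e), (good_parity T rho hrho hXG e).mpr hX, mul_assoc, mul_assoc,
          hcen]
      · show d.2 * (hk * c).2 = (hk * c).2 * d.2
        rw [hd2, one_mul, mul_one]
    rw [mul_assoc, hcomm.mul_pow, e4, mul_eq_right] at e2
    have := congrArg (fun q : Equiv.Perm (Γ × Bool) × G24 => (q.1 (1, false)).1) e2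
    simp only [pow_succ, pow_zero, one_mul, Prod.fst_mul, Equiv.Perm.mul_apply, hdt, Prod.fst_one,
      Equiv.Perm.coe_one, id_eq] at this
    rw [← this]
    simp [pow_succ, mul_assoc]
  refine ⟨d, n, hdK, hd2, hdt, hns, hn1, hn3, ?_⟩
  obtain ⟨a, ha, b, hb', ez⟩ := Fi24Lift64.z_form O I
  refine ⟨a, hHK ha, ?_⟩
  have e1 : g T 1 * h1 * g T 1 = d * hk := by rw [hd_def, inv_mul_cancel_right]
  rw [← hh1, e1] at ez
  have hin : a⁻¹ * hk * b ∈ Fi24Lift64.HS (g T) := mul_mem (mul_mem (inv_mem ha) hkm) hb'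
  have hone : a⁻¹ * hk * b = 1 := O.inj _ hin (by
    have h' := congrArg (MonoidHom.snd (Equiv.Perm (Γ × Bool)) G24) ez
    simp only [MonoidHom.coe_snd, Prod.snd_mul, Prod.snd_inv, hd2, one_mul] at h' ⊢
    rw [← h']
    have := Fi24Lift64.map_EG O (w := zWord) (by decide +kernel)
    simp only [MonoidHom.coe_snd] at this
    rw [this, E, val_z, inv_one])
  rw [ez]
  have hb2 : hk * b = a := by
    rw [mul_assoc] at hone
    exact (inv_mul_eq_one.mp hone).symm
  rw [show a⁻¹ * (d * hk) * b = a⁻¹ * d * (hk * b) by group, hb2]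

theorem ker_le_zpowers : ∃ n : Γ, n ^ 3 = 1 ∧ ∀ γ ∈ σ.ker, γ ∈ Subgroup.zpowers n := by
  obtain ⟨d, n, hdK, hd2, hdt, hns, hn1, hn3, a, haK, hz⟩ := exists_delta T rho hrho
  refine ⟨n false, hn3, ?_⟩
  set K := Subgroup.closure (Set.range (g T)) with hK
  have hcen : ∀ e z, z * n e = n e * z := fun e z => Subgroup.mem_center_iff.mp (T.hker (hns e)) z
  let d' : K := ⟨d, hdK⟩
  have hconj : ∀ q : K, q * d' * q⁻¹ = d' ∨ q * d' * q⁻¹ = d'⁻¹ := by
    intro q
    have hq := good_of_mem T rho hrho q.2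
    have hcalc : ∀ γ e, ((q : Equiv.Perm (Γ × Bool) × G24) * d).1 (γ, e) =
        (γ * n e * (q.1.1 (1, e)).1, (q.1.1 (1, e)).2) := fun γ e => by
      show q.1.1 (d.1 (γ, e)) = _
      rw [hdt, hq.1]
    have hinv : ∀ γ e, d⁻¹.1 (γ, e) = (γ * (n e)⁻¹, e) := fun γ e => by
      show d.1⁻¹ (γ, e) = _
      rw [Equiv.Perm.inv_eq_iff_eq, hdt, inv_mul_cancel_right]
    by_cases hp : par q.1.2 = 1
    · left
      rw [mul_inv_eq_iff_eq_mul]
      refine Subtype.ext (Prod.ext (Equiv.ext fun ⟨γ, e⟩ => ?_) ?_)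
      · show ((q : Equiv.Perm (Γ × Bool) × G24) * d).1 (γ, e) = d.1 (q.1.1 (γ, e))
        rw [hcalc, hq.1 γ e, hdt, (good_parity T rho hrho hq e).mpr hp, mul_assoc, mul_assoc, hcen]
      · show q.1.2 * d.2 = d.2 * q.1.2
        rw [hd2, one_mul, mul_one]
    · right
      rw [mul_inv_eq_iff_eq_mul]
      have hne : ∀ e, (q.1.1 (1, e)).2 = !e := fun e => by
        have h : (q.1.1 (1, e)).2 ≠ e := fun he => hp ((good_parity T rho hrho hq e).mp he)
        cases e <;> simpa using h
      have hn : ∀ e, (n (!e))⁻¹ = n e := fun e => by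
        cases e
        · rw [Bool.not_false, hn1, inv_inv]
        · rw [Bool.not_true, hn1]
      refine Subtype.ext (Prod.ext (Equiv.ext fun ⟨γ, e⟩ => ?_) ?_)
      · show ((q : Equiv.Perm (Γ × Bool) × G24) * d).1 (γ, e) = d⁻¹.1 (q.1.1 (γ, e))
        rw [hcalc, hq.1 γ e, hinv, hne, hn, mul_assoc, mul_assoc, hcen]
      · show q.1.2 * d.2 = d⁻¹.2 * q.1.2
        rw [Prod.snd_inv, hd2, inv_one, one_mul, mul_one]
  let N : Subgroup K := Subgroup.zpowers d'
  haveI hN : N.Normal := ⟨fun x hx q => by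
    obtain ⟨i, rfl⟩ := Subgroup.mem_zpowers_iff.mp hx
    rw [← conj_zpow]
    rcases hconj q with h | h <;> rw [h]
    · exact zpow_mem (Subgroup.mem_zpowers _) _
    · exact zpow_mem (inv_mem (Subgroup.mem_zpowers _)) _⟩
  let gK : Nat → K := fun x => ⟨g T x, Subgroup.subset_closure ⟨x, rfl⟩⟩
  let f : Nat → K ⧸ N := fun x => QuotientGroup.mk' N (gK x)
  have hfval : ∀ w, val f w = QuotientGroup.mk' N (val gK w) := fun w => by
    rw [val, val, map_list_prod, List.map_map]; rfl
  have hgKval : ∀ w, ((val gK w : K) : Equiv.Perm (Γ × Bool) × G24) = val (g T) w := fun w => by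
    show K.subtype (val gK w) = _
    rw [val, val, map_list_prod, List.map_map]; rfl
  have hf : ∀ x, f x * f x = 1 := fun x => by
    show QuotientGroup.mk' N (gK x) * QuotientGroup.mk' N (gK x) = 1
    rw [← map_mul, show gK x * gK x = 1 from Subtype.ext (g_sq T x), map_one]
  have O := overG T rho hrho
  have hrels : ∀ w ∈ P24.relWords, val f w = 1 := by
    intro w hw
    rw [hfval]
    rw [relWords_eq] at hw
    simp only [List.mem_append, List.mem_cons, List.not_mem_nil, or_false] at hw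
    rcases hw with hw | rfl | rfl
    · rw [show val gK w = 1 from Subtype.ext ((hgKval w).trans (O.cox w hw)), map_one]
    · rw [show val gK e7Word = 1 from Subtype.ext ((hgKval _).trans O.e7), map_one]
    · rw [QuotientGroup.mk'_apply, QuotientGroup.eq_one_iff]
      have e1 : val gK zWord = (⟨a, haK⟩ : K)⁻¹ * d'⁻¹ * ⟨a, haK⟩ := Subtype.ext (by
        rw [hgKval]
        show val (g T) zWord = a⁻¹ * d⁻¹ * a
        have := congrArg (fun q => q⁻¹) hz
        simp only [Fi24Lift64.EG, inv_inv, mul_inv_rev] at this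
        rw [this, mul_assoc])
      rw [e1]
      simpa using hN.conj_mem _ (inv_mem (Subgroup.mem_zpowers d')) (⟨a, haK⟩ : K)⁻¹
  let θ : G24 →* K ⧸ N := PresentedGroup.toGroup
    (CosetCertRestrict.lift_rels good (by decide +kernel) f hf hrels (by decide +kernel))
  have hidx : ∀ x < 12, θ (gg x) = f x := fun x hx => by
    show θ (PresentedGroup.of (P24.gen x)) = _
    rw [PresentedGroup.toGroup.of, (show ∀ x < 12, P24.gens.idxOf (P24.gen x) = x by decide +kernel) x hx]
  have hθ : ∀ q ∈ K, ∀ hq : q ∈ K, θ q.2 = QuotientGroup.mk' N ⟨q, hq⟩ := by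
    intro q hq
    induction hq using Subgroup.closure_induction with
    | mem q hq =>
      obtain ⟨x, rfl⟩ := hq
      intro hq
      by_cases hx : x < 12
      · rw [show (g T x).2 = gg x by simp [g, hx], hidx x hx]
      · rw [show (g T x).2 = 1 by simp [g, hx], map_one,
          show (⟨g T x, hq⟩ : K) = 1 from Subtype.ext (by simp [g, hx]), map_one]
    | one => intro hq; rw [show (⟨1, hq⟩ : K) = 1 from rfl, map_one, Prod.snd_one, map_one]
    | mul x y hx hy ihx ihy =>
      intro hxy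
      rw [Prod.snd_mul, map_mul, ihx hx, ihy hy, ← map_mul]; rfl
    | inv x hx ihx =>
      intro hx'
      rw [Prod.snd_inv, map_inv, ihx hx, ← map_inv]; rfl
  -- the values of K at the base point
  let B : Subgroup Γ :=
    { carrier := {γ | ∃ q ∈ K, q.1 (1, false) = (γ, false)}
      one_mem' := ⟨1, one_mem _, rfl⟩
      mul_mem' := by
        rintro x y ⟨q, hq, ex⟩ ⟨r, hr, ey⟩
        refine ⟨r * q, mul_mem hr hq, ?_⟩
        show r.1 (q.1 (1, false)) = _
        rw [ex, (good_of_mem T rho hrho hr).1 x, ey]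
      inv_mem' := by
        rintro x ⟨q, hq, ex⟩
        refine ⟨q⁻¹, inv_mem hq, ?_⟩
        show q.1⁻¹ (1, false) = _
        rw [Equiv.Perm.inv_eq_iff_eq, (good_of_mem T rho hrho hq).1, ex, inv_mul_cancel] }
  have hB : B = ⊤ := by
    rw [eq_top_iff, ← T.gen, Subgroup.closure_le]
    rintro y (⟨x, hx, rfl⟩ | rfl)
    · refine ⟨g T 0 * g T (x + 2),
        mul_mem (Subgroup.subset_closure ⟨0, rfl⟩) (Subgroup.subset_closure ⟨x + 2, rfl⟩), ?_⟩
      simp [g, show x + 2 < 12 by omega, tw_apply T, twf, coef, flip]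
    · refine ⟨g T 0 * g T 1,
        mul_mem (Subgroup.subset_closure ⟨0, rfl⟩) (Subgroup.subset_closure ⟨1, rfl⟩), ?_⟩
      simp [g, tw_apply T, twf, coef, flip]
  intro γ hγ
  obtain ⟨q, hq, eq⟩ := (hB ▸ Subgroup.mem_top γ : γ ∈ B)
  have h2 : q.2 = 1 := by
    have := (good_of_mem T rho hrho hq).2 false
    rw [eq, MonoidHom.mem_ker.mp hγ] at this
    simpa [L] using this.symm
  have := hθ q hq hq
  rw [h2, map_one] at this
  have hm : (⟨q, hq⟩ : K) ∈ N := (QuotientGroup.eq_one_iff _).mp this.symm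
  obtain ⟨i, hi⟩ := Subgroup.mem_zpowers_iff.mp hm
  have key : ∀ j : ℤ, (d ^ j).1 (1, false) = (n false ^ j, false) := by
    intro j
    induction j using Int.induction_on with
    | zero => simp
    | succ j ih =>
      rw [zpow_add_one, Prod.fst_mul, Equiv.Perm.mul_apply, hdt, one_mul]
      have hj := good_of_mem T rho hrho (zpow_mem hdK (j : ℤ))
      rw [hj.1, ih, zpow_add_one]
      refine Prod.ext ?_ rfl
      exact ((Commute.refl (n false)).zpow_right _).eq
    | pred j ih =>
      rw [zpow_sub_one, Prod.fst_mul, Equiv.Perm.mul_apply]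
      have hd' : d⁻¹.1 ((1 : Γ), false) = ((n false)⁻¹, false) := by
        show d.1⁻¹ (1, false) = _
        rw [Equiv.Perm.inv_eq_iff_eq, hdt, inv_mul_cancel]
      have hj := good_of_mem T rho hrho (zpow_mem hdK (-(j : ℤ)))
      rw [hd', hj.1, ih, zpow_sub_one]
      refine Prod.ext ?_ rfl
      exact ((Commute.refl (n false)).inv_left.zpow_right _).eq
  refine Subgroup.mem_zpowers_iff.mpr ⟨i, ?_⟩
  have := key i
  rw [show d ^ i = q from congrArg Subtype.val hi, eq] at this
  exact (congrArg Prod.fst this).symm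

end Cfsg.Agent.Fi24Upper64
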