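import Mathlib

/-!
A field with four elements given by tables, suitable for evaluation by `decide`.
-/

set_option autoImplicit false

namespace Cfsg.Agent.FieldFour15

/-- The elements `0`, `1`, `a`, `a + 1` with `a ^ 2 = a + 1`. -/
inductive K4
  | o | l | a | b
  deriving DecidableEq

instance : Fintype K4 := ⟨⟨↑[K4.o, K4.l, K4.a, K4.b], by simp⟩, fun x => by cases x <;> simp⟩

namespace K4

/-- Addition. -/
def add : K4 → K4 → K4
  | .o, y => y
  | .l, .o => .l
  | .l, .l => .o
  | .l, .a => .b
  | .l, .b => .a
  | .a, .o => .a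
  | .a, .l => .b
  | .a, .a => .o
  | .a, .b => .l
  | .b, .o => .b
  | .b, .l => .a
  | .b, .a => .l
  | .b, .b => .o

/-- Multiplication. -/
def mul : K4 → K4 → K4
  | .o, _ => .o
  | .l, y => y
  | .a, .o => .o
  | .a, .l => .a
  | .a, .a => .b
  | .a, .b => .l
  | .b, .o => .o
  | .b, .l => .b
  | .b, .a => .l
  | .b, .b => .a

/-- Inverse. -/
def inv : K4 → K4
  | .o => .o
  | .l => .l
  | .a => .b
  | .b => .a

/-- Image of a natural number. -/
def natK (n : ℕ) : K4 := if n % 2 = 0 then .o else .l

/-- Image of an integer. -/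
def intK : ℤ → K4
  | .ofNat n => natK n
  | .negSucc n => natK (n + 1)

instance : Zero K4 := ⟨.o⟩
instance : One K4 := ⟨.l⟩
instance : Add K4 := ⟨add⟩
instance : Mul K4 := ⟨mul⟩
instance : Neg K4 := ⟨fun x => x⟩
instance : Inv K4 := ⟨inv⟩

instance : CommRing K4 where
  add_assoc := by decide
  zero_add := by decide
  add_zero := by decide
  add_comm := by decide
  left_distrib := by decide
  right_distrib := by decide
  zero_mul := by decide
  mul_zero := by decide
  mul_assoc := by decide
  one_mul := by decide
  mul_one := by decide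
  mul_comm := by decide
  neg_add_cancel := by decide
  natCast := natK
  natCast_zero := rfl
  natCast_succ n := by
    show natK (n + 1) = natK n + 1
    rcases Nat.mod_two_eq_zero_or_one n with h | h <;> simp [natK, Nat.add_mod, h] <;> rfl
  intCast := intK
  intCast_ofNat _ := rfl
  intCast_negSucc _ := rfl
  nsmul := nsmulRec
  zsmul := zsmulRec

instance : Field K4 where
  inv := inv
  exists_pair_ne := ⟨.o, .l, by decide⟩
  mul_inv_cancel := by decide
  inv_zero := rfl
  nnqsmul := _
  qsmul := _

instance : CharP K4 2 := by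
  have h : (2 : K4) = 0 := by decide
  exact CharTwo.of_one_ne_zero_of_two_eq_zero (by decide) h

theorem card_eq : Fintype.card K4 = 4 := rfl

end K4

end Cfsg.Agent.FieldFour15
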