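import Cfsg.Agent.Lib.FieldFour15

/-!
A field with sixteen elements as pairs over the field with four elements, for use with `decide`.
-/

set_option autoImplicit false

namespace Cfsg.Agent.FieldSixteen15

open Cfsg.Agent.FieldFour15

/-- Elements `lo + hi * x` with `x ^ 2 = x + a`. -/
structure K16 where
  lo : K4
  hi : K4
  deriving DecidableEq

/-- All elements, numbered by `lo + 4 * hi`. -/
def elems : List K16 :=
  [⟨.o, .o⟩, ⟨.l, .o⟩, ⟨.a, .o⟩, ⟨.b, .o⟩, ⟨.o, .l⟩, ⟨.l, .l⟩, ⟨.a, .l⟩, ⟨.b, .l⟩,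
    ⟨.o, .a⟩, ⟨.l, .a⟩, ⟨.a, .a⟩, ⟨.b, .a⟩, ⟨.o, .b⟩, ⟨.l, .b⟩, ⟨.a, .b⟩, ⟨.b, .b⟩]

instance : Fintype K16 :=
  ⟨⟨↑elems, by decide⟩, fun x => by rcases x with ⟨a, b⟩; cases a <;> cases b <;> decide⟩

namespace K16

/-- Addition. -/
def add (u v : K16) : K16 := ⟨K4.add u.lo v.lo, K4.add u.hi v.hi⟩

/-- Multiplication. -/
def mul (u v : K16) : K16 :=
  ⟨K4.add (K4.mul u.lo v.lo) (K4.mul (K4.mul u.hi v.hi) .a),
    K4.add (K4.add (K4.mul u.lo v.hi) (K4.mul u.hi v.lo)) (K4.mul u.hi v.hi)⟩

/-- The fourth power, which is the involutory automorphism. -/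
def frob (u : K16) : K16 := mul (mul u u) (mul u u)

/-- Inverse: the fourteenth power. -/
def inv (u : K16) : K16 :=
  let w := mul u u
  let x := mul w w
  let y := mul x x
  mul (mul y x) w

/-- Image of a natural number. -/
def natK (n : ℕ) : K16 := ⟨K4.natK n, .o⟩

/-- Image of an integer. -/
def intK (n : ℤ) : K16 := ⟨K4.intK n, .o⟩

instance : Zero K16 := ⟨⟨.o, .o⟩⟩
instance : One K16 := ⟨⟨.l, .o⟩⟩
instance : Add K16 := ⟨add⟩
instance : Mul K16 := ⟨mul⟩
instance : Neg K16 := ⟨fun x => x⟩
instance : Inv K16 := ⟨inv⟩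

instance : CommRing K16 where
  add_assoc := by decide +kernel
  zero_add := by decide +kernel
  add_zero := by decide +kernel
  add_comm := by decide +kernel
  left_distrib := by decide +kernel
  right_distrib := by decide +kernel
  zero_mul := by decide +kernel
  mul_zero := by decide +kernel
  mul_assoc := by decide +kernel
  one_mul := by decide +kernel
  mul_one := by decide +kernel
  mul_comm := by decide +kernel
  neg_add_cancel := by decide +kernel
  natCast := natK
  natCast_zero := rfl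
  natCast_succ n := by
    show natK (n + 1) = natK n + 1
    rcases Nat.mod_two_eq_zero_or_one n with h | h <;> simp [natK, K4.natK, Nat.add_mod, h] <;> rfl
  intCast := intK
  intCast_ofNat _ := rfl
  intCast_negSucc _ := rfl
  nsmul := nsmulRec
  zsmul := zsmulRec

instance : Field K16 where
  inv := inv
  exists_pair_ne := ⟨0, 1, by decide +kernel⟩
  mul_inv_cancel := by decide +kernel
  inv_zero := by decide +kernel
  nnqsmul := _
  qsmul := _

theorem card_eq : Fintype.card K16 = 16 := by decide +kernel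

theorem frob_eq (u : K16) : u ^ 4 = frob u := by
  show u ^ 4 = u * u * (u * u)
  ring

end K16

end Cfsg.Agent.FieldSixteen15
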