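import Mathlib
import Cfsg.Prelude.Def_FischerSpaces
import Cfsg.Prelude.Def_Solvable
import Cfsg.Agent.Lib.ThreeTrans

/-!
# Relations among pairwise commuting 3-transpositions

A relation is a duplicate-free list of pairwise commuting transpositions with product `1`.  An
element `u` of the system fails to commute with `0` or `4` members of a relation of length `4` or
`5`; relations descend to the centralizer of a member modulo its centre.
-/

set_option autoImplicit false
set_option linter.unusedSectionVars false
set_option linter.style.haveILetI false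

namespace Cfsg.Agent.ThreeTransRel

open Subgroup

variable {G : Type*} [Group G] {E : Set G}

/-- A generating invariant set of 3-transpositions; `1` is allowed as a member. -/
structure TSys (E : Set G) : Prop where
  sq : ∀ e ∈ E, e * e = 1
  braid : ∀ a ∈ E, ∀ b ∈ E, ¬ Commute a b → a * b * a = b * a * b
  conj : ∀ g : G, ∀ e ∈ E, g * e * g⁻¹ ∈ E
  gen : Subgroup.closure E = ⊤

theorem tsys_of_group (hD : Cfsg.IsThreeTranspositionGroup E) : TSys E :=
  ⟨fun _ he => ThreeTrans.mul_self hD.1 he, fun _ ha _ hb h => ThreeTrans.braid hD.1 ha hb h,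
    hD.2.1, hD.2.2⟩

namespace TSys

variable (h : TSys E)
include h

theorem inv_self {e : G} (he : e ∈ E) : e⁻¹ = e := inv_eq_of_mul_eq_one_right (h.sq e he)

theorem conj_mem {a b : G} (ha : a ∈ E) (hb : b ∈ E) : a * b * a ∈ E := by
  have := h.conj a b hb
  rwa [h.inv_self ha] at this

theorem commute_conj {a x y : G} (ha : a ∈ E) (hxy : Commute x y) :
    Commute (a * x * a) (a * y * a) := by
  have := (Commute.conj_iff a).mpr hxy
  rwa [h.inv_self ha] at this

theorem conj_conj {a : G} (ha : a ∈ E) (x : G) : a * (a * x * a) * a = x := by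
  calc a * (a * x * a) * a = (a * a) * x * (a * a) := by group
    _ = x := by rw [h.sq a ha, one_mul, mul_one]

theorem ne_of_not_commute {a b : G} (h' : ¬ Commute a b) : a ≠ b := by
  rintro rfl
  exact h' (Commute.refl a)

/-- One non-commuting factor. -/
theorem f1 {u a : G} (hu : u ∈ E) (ha : a ∈ E) (hn : ¬ Commute u a) :
    a * u * a ≠ u ∧ ¬ Commute u (a * u * a) := by
  have hb := h.braid a ha u hu fun e => hn e.symm
  have hnc : ¬ Commute u (a * u * a) := by
    intro e
    rw [hb] at e
    have := h.commute_conj hu e
    rw [h.conj_conj hu, h.sq u hu, one_mul] at this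
    exact hn this
  exact ⟨fun e => hnc (by rw [e]), hnc⟩

/-- Two commuting non-commuting factors. -/
theorem f2 {u a b : G} (hu : u ∈ E) (ha : a ∈ E) (hb : b ∈ E) (hna : ¬ Commute u a)
    (hnb : ¬ Commute u b) (hab : Commute a b) (hne : a ≠ b) :
    a * b * u * b * a ≠ u ∧ Commute u (a * b * u * b * a) := by
  have e1 := h.braid a ha u hu fun e => hna e.symm
  have e2 := h.braid b hb u hu fun e => hnb e.symm
  constructor
  · intro e
    apply hne
    have h3 : b * u * b = a * u * a := by
      calc b * u * b = a * (a * (b * u * b) * a) * a := (h.conj_conj ha _).symm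
        _ = a * (a * b * u * b * a) * a := by group
        _ = a * u * a := by rw [e]
    rw [e1, e2] at h3
    exact mul_left_cancel (mul_right_cancel h3.symm)
  · have h3 : Commute (a * u * a) (b * u * b) := by
      rw [e1, e2]; exact h.commute_conj hu hab
    have h4 := h.commute_conj ha h3
    rw [h.conj_conj ha] at h4
    have e3 : a * (b * u * b) * a = a * b * u * b * a := by group
    rwa [e3] at h4

/-- Three commuting non-commuting factors. -/
theorem f3 {u a b c : G} (hu : u ∈ E) (ha : a ∈ E) (hb : b ∈ E) (hc : c ∈ E)
    (hna : ¬ Commute u a) (hnb : ¬ Commute u b) (hnc : ¬ Commute u c) (hab : Commute a b)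
    (hac : Commute a c) (hbc : Commute b c) (hne : b ≠ c) :
    a * b * c * u * c * b * a ≠ u ∧ ¬ Commute u (a * b * c * u * c * b * a) := by
  obtain ⟨hx1, hxc⟩ := h.f2 hu hb hc hnb hnc hbc hne
  set x := b * c * u * c * b with hx
  have hxE : x ∈ E := by
    have e : x = b * (c * u * c) * b := by rw [hx]; group
    rw [e]; exact h.conj_mem hb (h.conj_mem hc hu)
  have hax : ¬ Commute a x := by
    intro e
    apply hna
    have h1 := h.commute_conj hb e
    have e1 : b * a * b = a := by rw [hab.symm.eq, mul_assoc, h.sq b hb, mul_one]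
    have e2 : b * x * b = c * u * c := by
      rw [hx]
      calc b * (b * c * u * c * b) * b = b * (b * (c * u * c) * b) * b := by group
        _ = _ := h.conj_conj hb _
    rw [e1, e2] at h1
    have h2 := h.commute_conj hc h1
    have e3 : c * a * c = a := by rw [hac.symm.eq, mul_assoc, h.sq c hc, mul_one]
    rw [e3, h.conj_conj hc] at h2
    exact h2.symm
  have e0 : a * b * c * u * c * b * a = a * x * a := by rw [hx]; group
  rw [e0]
  have hnc' : ¬ Commute u (a * x * a) := by
    intro e
    have h1 := h.commute_conj ha e
    rw [h.conj_conj ha, h.braid a ha u hu fun e => hna e.symm] at h1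
    have h2 := h.commute_conj hu h1
    rw [h.conj_conj hu, hxc.eq, mul_assoc, h.sq u hu, mul_one] at h2
    exact hax h2
  exact ⟨fun e => hnc' (by rw [e]), hnc'⟩

end TSys

open Classical in
/-- The number of members of a list not commuting with `u`. -/
noncomputable def cnt (u : G) (l : List G) : ℕ := l.countP fun a => ¬ Commute u a

theorem cnt_append (u : G) (A B : List G) : cnt u (A ++ B) = cnt u A + cnt u B := by
  simp [cnt, List.countP_append]

theorem cnt_perm (u : G) {A B : List G} (hp : A.Perm B) : cnt u A = cnt u B := by
  classical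
  unfold cnt
  exact hp.countP_eq _

theorem cnt_eq_zero {u : G} {l : List G} : cnt u l = 0 ↔ ∀ a ∈ l, Commute u a := by
  classical
  simp [cnt, List.countP_eq_zero]

/-- Pairwise commuting members of `E` without repetition. -/
structure CList (E : Set G) (l : List G) : Prop where
  mem : ∀ a ∈ l, a ∈ E
  nodup : l.Nodup
  comm : ∀ a ∈ l, ∀ b ∈ l, Commute a b

theorem CList.perm {l l' : List G} (h : CList E l) (hp : l.Perm l') : CList E l' :=
  ⟨fun a ha => h.mem a (hp.mem_iff.mpr ha), hp.nodup_iff.mp h.nodup,
    fun a ha b hb => h.comm a (hp.mem_iff.mpr ha) b (hp.mem_iff.mpr hb)⟩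

theorem CList.sublist {l l' : List G} (h : CList E l) (hs : l'.Sublist l) : CList E l' :=
  ⟨fun a ha => h.mem a (hs.subset ha), h.nodup.sublist hs,
    fun a ha b hb => h.comm a (hs.subset ha) b (hs.subset hb)⟩

theorem CList.prod_perm {l l' : List G} (h : CList E l) (hp : l.Perm l') : l.prod = l'.prod := by
  refine hp.prod_eq' ?_
  exact List.pairwise_of_forall_mem_list fun a ha b hb => h.comm a ha b hb

theorem CList.prod_sq (ht : TSys E) : ∀ {l : List G}, CList E l → l.prod * l.prod = 1
  | [], _ => by simp
  | a :: l, h => by
    have hl := h.sublist (List.sublist_cons_self a l)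
    have hc : Commute a l.prod :=
      Commute.list_prod_right _ _ fun b hb => h.comm a (List.mem_cons_self ..) b
        (List.mem_cons_of_mem _ hb)
    rw [List.prod_cons, hc.symm.mul_mul_mul_comm, ht.sq a (h.mem a (List.mem_cons_self ..)),
      CList.prod_sq ht hl, one_mul]

/-- How a transposition meets a product of at most three commuting transpositions. -/
theorem key (ht : TSys E) {u : G} (hu : u ∈ E) {l : List G} (hl : CList E l)
    (hlen : l.length ≤ 3) :
    (Commute u l.prod ↔ cnt u l = 0) ∧
      (Commute u (l.prod * u * l.prod⁻¹) ↔ (cnt u l = 0 ∨ cnt u l = 2)) := by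
  classical
  set p : G → Bool := fun a => decide (¬ Commute u a) with hp
  set N := l.filter p
  set C := l.filter fun a => !p a
  have hperm : (N ++ C).Perm l := List.filter_append_perm p l
  have hNC := hl.perm hperm.symm
  have hN : CList E N := hNC.sublist (List.sublist_append_left N C)
  have hNn : ∀ a ∈ N, ¬ Commute u a := fun a ha => by simpa [p] using (List.mem_filter.mp ha).2
  have hcC : Commute u C.prod := Commute.list_prod_right _ _ fun a ha => by
    simpa [p] using (List.mem_filter.mp ha).2
  have hprod : l.prod = N.prod * C.prod := by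
    rw [hl.prod_perm hperm.symm, List.prod_append]
  have hNinv : N.prod⁻¹ = N.prod := inv_eq_of_mul_eq_one_right (hN.prod_sq ht)
  have hw : l.prod * u * l.prod⁻¹ = N.prod * u * N.prod := by
    rw [hprod]
    calc N.prod * C.prod * u * (N.prod * C.prod)⁻¹
        = N.prod * (C.prod * u * C.prod⁻¹) * N.prod⁻¹ := by group
      _ = _ := by rw [hcC.symm.eq, mul_inv_cancel_right, hNinv]
  have hcnt : cnt u l = N.length := by
    simp only [cnt, List.countP_eq_length_filter]
    rfl
  have hcomm : Commute u l.prod ↔ N.prod * u * N.prod = u := by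
    rw [← hw, mul_inv_eq_iff_eq_mul]
    exact ⟨fun e => e.symm.eq, fun e => (show Commute l.prod u from e).symm⟩
  rw [hcomm, hw, hcnt]
  have hlenN : N.length ≤ 3 := (List.length_filter_le _ _).trans hlen
  match hmatch : N with
  | [] => simp
  | [a] =>
    obtain ⟨h1, h2⟩ := ht.f1 hu (hN.mem a (by simp)) (hNn a (by simp))
    simp [h1, h2]
  | [a, b] =>
    have hab := hN.comm a (by simp) b (by simp)
    have hne : a ≠ b := by
      have := hN.nodup
      simp at this
      exact this
    obtain ⟨h1, h2⟩ := ht.f2 hu (hN.mem a (by simp)) (hN.mem b (by simp)) (hNn a (by simp))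
      (hNn b (by simp)) hab hne
    have e : [a, b].prod * u * [a, b].prod = a * b * u * b * a := by
      have e' : [a, b].prod = a * b := by simp
      rw [e']
      conv_lhs => arg 2; rw [hab.eq]
      group
    rw [e]
    simp [h1, h2]
  | [a, b, c] =>
    have hab := hN.comm a (by simp) b (by simp)
    have hac := hN.comm a (by simp) c (by simp)
    have hbc := hN.comm b (by simp) c (by simp)
    have hne : b ≠ c := by
      have := hN.nodup
      simp at this
      exact this.2
    obtain ⟨h1, h2⟩ := ht.f3 hu (hN.mem a (by simp)) (hN.mem b (by simp)) (hN.mem c (by simp))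
      (hNn a (by simp)) (hNn b (by simp)) (hNn c (by simp)) hab hac hbc hne
    have e : [a, b, c].prod * u * [a, b, c].prod = a * b * c * u * c * b * a := by
      have e' : [a, b, c].prod = a * b * c := by simp [mul_assoc]
      have e'' : a * b * c = c * b * a := by
        calc a * b * c = a * (c * b) := by rw [mul_assoc, hbc.eq]
          _ = c * (b * a) := by rw [← mul_assoc, hac.eq, mul_assoc, hab.eq]
          _ = _ := by group
      rw [e']
      conv_lhs => arg 2; rw [e'']
      group
    rw [e]
    simp [h1, h2]
  | _ :: _ :: _ :: _ :: _ => exact absurd hlenN (by simp only [List.length_cons]; omega)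

/-- A relation: a `CList` of product `1`. -/
structure Rel (E : Set G) (l : List G) : Prop extends CList E l where
  prod : l.prod = 1

theorem Rel.perm {l l' : List G} (h : Rel E l) (hp : l.Perm l') : Rel E l' :=
  ⟨h.toCList.perm hp, (h.prod_perm hp).symm.trans h.prod⟩

theorem Rel.map_conj (ht : TSys E) {l : List G} (h : Rel E l) (g : G) :
    Rel E (l.map (MulAut.conj g)) := by
  refine ⟨⟨?_, h.nodup.map (MulAut.conj g).injective, ?_⟩, ?_⟩
  · intro a ha
    obtain ⟨b, hb, rfl⟩ := List.mem_map.mp ha
    exact ht.conj g b (h.mem b hb)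
  · intro a ha b hb
    obtain ⟨a', ha', rfl⟩ := List.mem_map.mp ha
    obtain ⟨b', hb', rfl⟩ := List.mem_map.mp hb
    exact (h.comm a' ha' b' hb').map (MulAut.conj g).toMonoidHom
  · rw [← map_list_prod, h.prod, map_one]

theorem Rel.split (ht : TSys E) {u : G} (hu : u ∈ E) {A B : List G} (h : Rel E (A ++ B))
    (hA : A.length ≤ 3) (hB : B.length ≤ 3) :
    (cnt u A = 0 ↔ cnt u B = 0) ∧
      ((cnt u A = 0 ∨ cnt u A = 2) ↔ (cnt u B = 0 ∨ cnt u B = 2)) := by
  have hA' := h.toCList.sublist (List.sublist_append_left A B)
  have hB' := h.toCList.sublist (List.sublist_append_right A B)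
  have e : A.prod = B.prod := by
    have h1 := h.prod
    rw [List.prod_append] at h1
    rw [eq_inv_of_mul_eq_one_left h1, inv_eq_of_mul_eq_one_right (hB'.prod_sq ht)]
  obtain ⟨k1, k2⟩ := key ht hu hA' hA
  obtain ⟨k3, k4⟩ := key ht hu hB' hB
  rw [e] at k1 k2
  exact ⟨k1.symm.trans k3, k2.symm.trans k4⟩

/-- In relations of length 4 or 5 an element fails to commute with 0 or 4 members. -/
theorem Rel.pattern (ht : TSys E) {u : G} (hu : u ∈ E) {l : List G} (h : Rel E l)
    (hlen : l.length = 4 ∨ l.length = 5) : cnt u l = 0 ∨ cnt u l = 4 := by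
  classical
  set p : G → Bool := fun a => decide (¬ Commute u a) with hp
  set N := l.filter p with hN
  set C := l.filter fun a => !p a with hC
  have hperm : (N ++ C).Perm l := List.filter_append_perm p l
  have hcntN : cnt u N = N.length := by
    unfold cnt
    rw [List.countP_eq_length]
    intro a ha
    simpa [p] using (List.mem_filter.mp ha).2
  have hcntC : cnt u C = 0 := cnt_eq_zero.mpr fun a ha => by
    simpa [p] using (List.mem_filter.mp ha).2
  have hk : cnt u l = N.length := by rw [← cnt_perm u hperm, cnt_append, hcntN, hcntC, add_zero]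
  have hsum : N.length + C.length = l.length := by rw [← List.length_append, hperm.length_eq]
  set A := (N ++ C).take 2 with hA
  set B := (N ++ C).drop 2 with hB
  have hrel : Rel E (A ++ B) := (h.perm hperm.symm).perm (by rw [hA, hB, List.take_append_drop])
  have hcA : cnt u A = min 2 N.length := by
    rw [hA, List.take_append, cnt_append]
    have h1 : cnt u (N.take 2) = min 2 N.length := by
      unfold cnt
      rw [(List.countP_eq_length).mpr, List.length_take]
      intro a ha
      simpa [p] using (List.mem_filter.mp ((List.take_sublist 2 N).subset ha)).2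
    have h2 : cnt u (C.take (2 - N.length)) = 0 :=
      cnt_eq_zero.mpr fun a ha => cnt_eq_zero.mp hcntC a ((List.take_sublist _ C).subset ha)
    rw [h1, h2, add_zero]
  have hcB : cnt u B = N.length - min 2 N.length := by
    have : cnt u A + cnt u B = N.length := by
      rw [← cnt_append, hA, hB, List.take_append_drop, cnt_append, hcntN, hcntC, add_zero]
    omega
  obtain ⟨h1, h2⟩ := hrel.split ht hu
    (by rw [hA, List.length_take]; omega) (by rw [hB, List.length_drop, List.length_append]; omega)
  rw [hcA, hcB] at h1 h2
  rw [hk]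
  omega

end Cfsg.Agent.ThreeTransRel
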