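import Mathlib
import Cfsg.Agent.Lib.FischerFrameComb18

/-!
Both pairs of permutations of the six planes generate the alternating group.
-/

set_option autoImplicit false
set_option maxRecDepth 100000

namespace Cfsg.Agent.FischerFrame18

/-- words for the pair 0 -/
def altWords0 : List ℕ := [
  464, 10, 910, 279, 52, 1475, 1103, 115, 38, 125, 867, 178, 13, 304, 199, 283, 75, 58, 3205, 40, 244, 217, 1083, 499,
  807, 3337, 51, 76, 61, 355, 250, 398, 208, 20, 1079, 232, 116, 1157, 751, 243, 89, 1415, 369, 71, 5, 529, 26, 152,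
  80, 122, 142, 104, 500, 1167, 1289, 19, 295, 29, 566, 455, 303, 389, 432, 1423, 537, 931, 359, 23, 33, 145, 79, 56,
  335, 184, 14, 66, 1218, 242, 161, 87, 801, 1615, 54, 966, 1602, 264, 1679, 112, 69, 206, 27, 91, 423, 718, 368, 315,
  108, 483, 644, 1862, 1555, 275, 285, 28, 92, 609, 132, 311, 141, 182, 121, 46, 1007, 570, 399, 322, 216, 103, 497, 7,
  390, 463, 248, 1586, 835, 83, 93, 140, 611, 225, 36, 119, 909, 135, 9, 209, 111, 1263, 153, 371, 793, 487, 49, 31,
  62, 535, 826, 179, 246, 70, 450, 18, 1422, 929, 306, 195, 139, 539, 101, 72, 1652, 372, 21, 974, 327, 123, 779, 475,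
  551, 403, 35, 711, 45, 1743, 186, 270, 144, 780, 413, 124, 43, 155, 503, 24, 1926, 1999, 133, 176, 334, 571, 419, 908,
  541, 44, 227, 739, 237, 201, 838, 1806, 531, 567, 1949, 12, 57, 2447, 903, 39, 241, 3, 559, 645, 495, 143, 88, 273,
  433, 6, 370, 151, 289, 963, 591, 454, 22, 105, 1478, 114, 485, 655, 578, 11, 167, 777, 310, 185, 269, 48, 1863, 78,
  706, 34, 3471, 55, 97, 871, 207, 120, 134, 323, 901, 562, 37, 1486, 583, 59, 267, 219, 1742, 136, 628, 240, 187, 462,
  995, 1668, 147, 268, 157, 60, 646, 719, 388, 68, 183, 353, 175, 249, 397, 911, 281, 834, 231, 15, 17, 81, 47, 743,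
  272, 314, 30, 194, 1292, 498, 417, 67, 1063, 77, 118, 1223, 1859, 211, 137, 396, 1135, 163, 100, 247, 481, 902, 975, 8,
  1559, 177, 2, 41, 2957, 50, 1059, 451, 367, 435, 502, 198, 737, 229, 375, 16, 839, 1487, 251, 265, 1803, 200, 291, 652,
  623, 99, 707, 326, 400, 782, 305, 4, 925, 1735, 109, 73, 1933, 391, 25, 465, 239, 547, 357, 631, 1817, 999, 113, 1]

/-- words for the pair 1 -/
def altWords1 : List ℕ := [
  10, 248, 335, 369, 249, 334, 780, 353, 631, 368, 11, 367, 9, 303, 304, 270, 273, 305, 27, 289, 628, 26, 8, 272,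
  370, 250, 120, 269, 251, 306, 867, 1859, 121, 268, 371, 275, 1063, 291, 123, 834, 285, 1806, 1559, 56, 122, 835, 57, 355,
  782, 322, 567, 25, 323, 566, 801, 59, 1652, 24, 58, 535, 13, 135, 432, 398, 134, 433, 779, 417, 652, 399, 12, 400,
  14, 464, 463, 497, 465, 462, 20, 481, 655, 21, 15, 495, 397, 133, 71, 498, 132, 435, 739, 1218, 70, 499, 396, 403,
  1817, 413, 68, 707, 419, 1289, 1263, 39, 69, 706, 38, 483, 777, 451, 718, 22, 450, 719, 737, 36, 1167, 23, 37, 751,
  390, 184, 910, 929, 185, 1803, 28, 531, 911, 29, 391, 562, 389, 199, 909, 609, 198, 1292, 19, 623, 908, 18, 388, 591,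
  925, 186, 88, 547, 187, 103, 611, 995, 89, 541, 931, 3337, 963, 1742, 91, 578, 1079, 100, 55, 40, 101, 54, 41, 1743,
  30, 529, 975, 17, 559, 974, 52, 43, 1679, 16, 31, 1007, 176, 5, 175, 143, 4, 144, 142, 177, 145, 267, 372, 161,
  207, 6, 208, 240, 7, 239, 241, 206, 209, 500, 375, 225, 265, 195, 310, 502, 194, 311, 539, 871, 3205, 503, 264, 279,
  141, 178, 211, 242, 179, 237, 243, 140, 147, 1735, 1478, 1223, 793, 1862, 157, 551, 1083, 163, 537, 807, 227, 743, 999, 1863,
  183, 357, 124, 136, 423, 151, 137, 182, 125, 826, 1926, 283, 200, 475, 67, 247, 485, 232, 246, 201, 66, 583, 1157, 359,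
  838, 281, 92, 571, 295, 99, 1668, 1415, 93, 570, 839, 487, 79, 80, 2, 112, 111, 3, 244, 139, 97, 113, 78, 81,
  76, 83, 2447, 115, 108, 3471, 711, 966, 2957, 114, 77, 109, 1059, 315, 167, 902, 314, 152, 1555, 60, 153, 903, 61, 1586,
  1949, 326, 216, 645, 327, 231, 1135, 35, 217, 644, 34, 1103, 901, 455, 1933, 646, 454, 1422, 51, 44, 1423, 50, 45, 1615,
  72, 87, 219, 119, 104, 229, 1602, 1475, 155, 118, 73, 105, 75, 62, 1999, 116, 33, 1486, 49, 46, 1487, 48, 47, 1]

/-- the permutation of a word -/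
def wordPerm (pb pc : Equiv.Perm (Fin 6)) : ℕ → ℕ → Equiv.Perm (Fin 6)
  | 0, _ => 1
  | f + 1, m => if m ≤ 1 then 1 else wordPerm pb pc f (m / 2) * if m % 2 = 1 then pb else pc

/-- the code of a permutation -/
def permCode (σ : Equiv.Perm (Fin 6)) : ℕ := ∑ i, (σ i : ℕ) * 6 ^ (i : ℕ)

theorem words_incr : ∀ i : Fin 359,
    permCode (wordPerm pb0 pc0 40 (altWords0.getD i 0)) < permCode (wordPerm pb0 pc0 40 (altWords0.getD (i + 1) 0)) ∧
      permCode (wordPerm pb1 pc1 40 (altWords1.getD i 0)) <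
        permCode (wordPerm pb1 pc1 40 (altWords1.getD (i + 1) 0)) := by decide +kernel

theorem signs : Equiv.Perm.sign pb0 = 1 ∧ Equiv.Perm.sign pc0 = 1 ∧ Equiv.Perm.sign pb1 = 1 ∧
    Equiv.Perm.sign pc1 = 1 := by decide +kernel

theorem wordPerm_mem (pb pc : Equiv.Perm (Fin 6)) : ∀ f m, wordPerm pb pc f m ∈ Subgroup.closure {pb, pc}
  | 0, m => one_mem _
  | f + 1, m => by
    rw [wordPerm]
    split_ifs
    · exact one_mem _
    · exact mul_mem (wordPerm_mem pb pc f _) (Subgroup.subset_closure (by simp))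
    · exact mul_mem (wordPerm_mem pb pc f _) (Subgroup.subset_closure (by simp))

theorem closure_eq_alt (pb pc : Equiv.Perm (Fin 6)) (w : List ℕ) (hb : Equiv.Perm.sign pb = 1)
    (hc : Equiv.Perm.sign pc = 1)
    (h : ∀ i : Fin 359, permCode (wordPerm pb pc 40 (w.getD i 0)) <
      permCode (wordPerm pb pc 40 (w.getD (i + 1) 0))) :
    Subgroup.closure {pb, pc} = alternatingGroup (Fin 6) := by
  have hle : Subgroup.closure {pb, pc} ≤ alternatingGroup (Fin 6) := by
    rw [Subgroup.closure_le]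
    rintro x (rfl | rfl) <;> simpa [Equiv.Perm.mem_alternatingGroup]
  refine Subgroup.eq_of_le_of_card_ge hle ?_
  have hcard : Nat.card (alternatingGroup (Fin 6)) = 360 := by
    rw [nat_card_alternatingGroup, Nat.card_fin]; rfl
  have hmono : StrictMono fun i : Fin 360 => permCode (wordPerm pb pc 40 (w.getD i 0)) :=
    Fin.strictMono_iff_lt_succ.2 fun i => by simpa using h i
  rw [hcard]
  simpa using Nat.card_le_card_of_injective
    (fun i : Fin 360 => (⟨_, wordPerm_mem pb pc 40 (w.getD i 0)⟩ : Subgroup.closure {pb, pc}))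
    fun i i' e => hmono.injective (congrArg (fun x => permCode (Subtype.val x)) e)

theorem closure_cases (k : Fin 4) :
    Subgroup.closure {cB k, cC k} = alternatingGroup (Fin 6) := by
  fin_cases k
  exacts [closure_eq_alt _ _ altWords0 signs.1 signs.2.1 fun i => (words_incr i).1,
    closure_eq_alt _ _ altWords1 signs.2.2.1 signs.2.2.2 fun i => (words_incr i).2,
    closure_eq_alt _ _ altWords0 signs.1 signs.2.1 fun i => (words_incr i).1,
    closure_eq_alt _ _ altWords1 signs.2.2.1 signs.2.2.2 fun i => (words_incr i).2]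

end Cfsg.Agent.FischerFrame18
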