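import Mathlib
import Cfsg.Agent.Lib.FischerFrameAlt18
import Cfsg.Agent.Lib.FischerFrameLocal18

/-!
The stabiliser of a conjugate of `z` in `Q`: an elementary group of order 32 by the alternating group
of degree six, and `Q` meets the conjugate group in order 128.
-/

set_option autoImplicit false
set_option maxHeartbeats 1000000
set_option maxRecDepth 100000

namespace Cfsg.Agent.FischerFrame18

open Subgroup

theorem pow_five_perms : ∀ k : Fin 4, cB k ^ 5 = 1 ∧ cC k ^ 5 = 1 := by decide +kernel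

theorem big_sizes : ∀ j : Fin 5, j ∈ ({2, 3, 4} : Finset (Fin 5)) →
    ∑ i ∈ ({1, 2, 3, 4} : Finset (Fin 5)).erase j, ksize i = 1701 := by decide +kernel

theorem not_mem_erase : ∀ j t : Fin 5, t ∈ ({1, 2, 3, 4} : Finset (Fin 5)).erase j →
    t ∉ ({0, j} : Finset (Fin 5)) := by decide

theorem exists_full : ∀ j : Fin 5, j ∈ ({2, 3, 4} : Finset (Fin 5)) → ∃ t : ZMod 3,
    kind (fun i => if i = 0 then some t else some 0) ∉ ({0, j} : Finset (Fin 5)) := by decide +kernel

namespace Basis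

variable {X V : Type*} [Group X] [AddCommGroup V] {ρ : X →* AddMonoid.End V} {q : V → ZMod 2}
  {F : Frame X} {k : Fin 4} {e : Fin 6 → V} (B : Basis ρ q F k e)
include B

theorem mono_one : Mono F ρ e (1 : X) 1 0 :=
  ⟨by rw [one_mul, mul_one], fun i => by rw [op_one]; rfl⟩

theorem mono_mul {g h : X} {π π' : Equiv.Perm (Fin 6)} {β β' : Fin 6 → ZMod 3}
    (hg : Mono F ρ e g π β) (hh : Mono F ρ e h π' β') :
    Mono F ρ e (g * h) (π * π') (fun i => β' i + β (π' i)) := by
  refine ⟨((show Commute g F.n from hg.1).mul_left hh.1).eq, fun i => ?_⟩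
  rw [op_mul, hh.2, map_ow _ _ (fun v => op_comm hg.1 v), hg.2, ← B.fam.ow_add, Equiv.Perm.mul_apply]

theorem mono_sum {g : X} {π : Equiv.Perm (Fin 6)} {β : Fin 6 → ZMod 3} (hg : Mono F ρ e g π β)
    (h5 : g ^ 5 = 1) : ∑ i, β i = 0 := by
  let d0 : Co := fun _ => some 0
  have hfull : ∀ (π : Equiv.Perm (Fin 6)) (β : Fin 6 → ZMod 3) (d : Co), (∀ i, (d i).isSome) →
      ∀ i, (moved π β d i).isSome := fun π β d hd i => by
    simp only [moved, Option.isSome_map]; exact hd _
  have key : ∀ l : ℕ, ∃ d : Co, (∀ i, (d i).isSome) ∧ op ρ (g ^ l) (pt F ρ e d0) = pt F ρ e d ∧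
      cls d = cls d0 + (l : ZMod 3) * ∑ i, β i := by
    intro l
    induction l with
    | zero => exact ⟨d0, fun _ => rfl, by rw [pow_zero, op_one], by simp⟩
    | succ l ih =>
      obtain ⟨d, hd, he, hc⟩ := ih
      refine ⟨moved π β d, hfull π β d hd, by rw [pow_succ', op_mul, he, B.mono_pt hg], ?_⟩
      rw [cls_moved π β hd, hc, Nat.cast_succ, add_mul, one_mul, add_assoc]
  obtain ⟨d, -, he, hc⟩ := key 5
  rw [h5, op_one, B.pt_bijective.1.eq_iff] at he
  rw [← he, left_eq_add] at hc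
  have h5 : ((5 : ℕ) : ZMod 3) = 2 := rfl
  rw [h5] at hc
  have h3 : (3 : ZMod 3) = 0 := rfl
  linear_combination 2 * hc - (∑ i, β i) * h3

/-- monomial elements of shift zero -/
def Good (F : Frame X) (ρ : X →* AddMonoid.End V) (e : Fin 6 → V) (k : Fin 4) (g : X)
    (π : Equiv.Perm (Fin 6)) : Prop :=
  π ∈ Subgroup.closure {cB k, cC k} ∧ ∃ β, Mono F ρ e g π β ∧ ∑ i, β i = 0

theorem good_one : Good F ρ e k (1 : X) 1 := ⟨one_mem _, 0, B.mono_one, by simp⟩

theorem good_mul {g h : X} {π π' : Equiv.Perm (Fin 6)} (hg : Good F ρ e k g π) (hh : Good F ρ e k h π') :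
    Good F ρ e k (g * h) (π * π') := by
  obtain ⟨hπ, β, hm, hs⟩ := hg
  obtain ⟨hπ', β', hm', hs'⟩ := hh
  refine ⟨mul_mem hπ hπ', _, B.mono_mul hm hm', ?_⟩
  rw [Finset.sum_add_distrib, hs', Equiv.sum_comp π' β, hs, add_zero]

theorem good_perm [Finite X] {π : Equiv.Perm (Fin 6)} (hπ : π ∈ Subgroup.closure {cB k, cC k}) :
    ∃ g, Good F ρ e k g π := by
  obtain ⟨⟨β, hβ⟩, ⟨γ, hγ⟩⟩ := B.exists_mono_b
  rw [← Subgroup.mem_toSubmonoid, Subgroup.closure_toSubmonoid_of_finite] at hπ
  induction hπ using Submonoid.closure_induction with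
  | one => exact ⟨1, B.good_one⟩
  | mul a b _ _ ha hb =>
    obtain ⟨g, hg⟩ := ha
    obtain ⟨h, hh⟩ := hb
    exact ⟨g * h, B.good_mul hg hh⟩
  | mem a ha =>
    rcases ha with rfl | rfl
    · exact ⟨_, Subgroup.subset_closure (by simp), β, hβ,
        B.mono_sum hβ (by rw [inv_pow, B.hF.b5, inv_one])⟩
    · exact ⟨_, Subgroup.subset_closure (by simp), γ, hγ,
        B.mono_sum hγ (by rw [inv_pow, B.hF.c5, inv_one])⟩

theorem perm_unique {g : X} {π π' : Equiv.Perm (Fin 6)} {β β' : Fin 6 → ZMod 3}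
    (h : Mono F ρ e g π β) (h' : Mono F ρ e g π' β') : π = π' ∧ β = β' := by
  have hp : ∀ i, π i = π' i := by
    intro i
    by_contra hne
    have he := (h.2 i).symm.trans (h'.2 i)
    have h1 := B.fam.Ep_eig (cS k (π i)) _ (B.ow_mem (π i) (β i))
    rw [if_pos rfl, he, B.fam.Ep_eig (cS k (π i)) _ (B.ow_mem (π' i) (β' i)),
      if_neg fun e1 => hne (cS_inj k e1).symm] at h1
    exact B.ow_ne_zero (B.ne _) h1.symm
  refine ⟨Equiv.ext hp, funext fun i => ?_⟩
  have he := (h.2 i).symm.trans (h'.2 i)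
  rw [hp] at he
  exact B.ow_inj (B.ne _) he

theorem mono_fix {g : X} {d : Co} (hd : ∀ i, (d i).isSome) {β : Fin 6 → ZMod 3}
    (h : Mono F ρ e g 1 β) (hfix : op ρ g (pt F ρ e d) = pt F ρ e d) : g = 1 := by
  rw [B.mono_pt h, B.pt_bijective.1.eq_iff] at hfix
  have hβ : β = 0 := funext fun i => by
    have := congrFun hfix i
    rw [moved, show (1 : Equiv.Perm (Fin 6)).symm i = i from rfl] at this
    obtain ⟨t, ht⟩ := Option.isSome_iff_exists.1 (hd i)
    simpa [ht] using this
  refine B.hR.faith g fun v => ?_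
  obtain ⟨d', rfl⟩ := B.pt_bijective.2 v
  show op ρ g _ = _
  rw [B.mono_pt h, hβ]
  congr 1
  funext i
  rw [moved, show (1 : Equiv.Perm (Fin 6)).symm i = i from rfl]
  cases hdi : d' i <;> simp [hdi]

/-- A copy of the alternating group in the stabiliser of a full vector. -/
theorem exists_alt [Finite X] {d : Co} (hd : ∀ i, (d i).isSome) :
    ∃ R : Subgroup X, (∀ g ∈ R, op ρ g (pt F ρ e d) = pt F ρ e d) ∧
      Nonempty (R ≃* alternatingGroup (Fin 6)) := by
  classical
  let A := Subgroup.closure {cB k, cC k}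
  have hex : ∀ π : A, ∃ g, (∃ β, Mono F ρ e g π β) ∧ op ρ g (pt F ρ e d) = pt F ρ e d := by
    intro π
    obtain ⟨g, -, β, hm, hs⟩ := B.good_perm π.2
    -- correct by a phase
    have hsupp : supp (moved π β d) = Finset.univ :=
      Finset.eq_univ_of_forall fun i => by simp [supp, moved, Option.isSome_map, hd]
    let δ : Fin 6 → ZMod 3 := fun i => (d i).getD 0 - (moved π β d i).getD 0
    have hδ : ∑ i, δ i = 0 := by
      have := cls_moved (π : Equiv.Perm (Fin 6)) β hd
      simp only [cls] at this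
      simp only [δ, Finset.sum_sub_distrib, this, hs, add_zero, sub_self]
    have hline := B.mono_line (solveY k δ) (δ 0)
    rw [solve_spec k δ hδ] at hline
    refine ⟨_, ⟨_, by simpa using B.mono_mul hline hm⟩, ?_⟩
    rw [op_mul, B.mono_pt hm, B.mono_pt hline]
    congr 1
    funext i
    have hi : (moved π β d i).isSome := by simp [moved, Option.isSome_map, hd]
    obtain ⟨t, ht⟩ := Option.isSome_iff_exists.1 hi
    obtain ⟨s, hs'⟩ := Option.isSome_iff_exists.1 (hd i)
    rw [moved, show (1 : Equiv.Perm (Fin 6)).symm i = i from rfl, ht]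
    simp [δ, ht, hs']
  choose f hf hfix using hex
  have huniq : ∀ (g : X) (π : A) β, Mono F ρ e g π β → op ρ g (pt F ρ e d) = pt F ρ e d → g = f π := by
    intro g π β hm hg
    obtain ⟨β', hm'⟩ := hf π
    obtain ⟨β'', hm''⟩ := hf π⁻¹
    have h1 : g * f π⁻¹ = 1 := B.mono_fix hd (β := _) (by simpa using B.mono_mul hm hm'')
      (by rw [op_mul, hfix, hg])
    have h2 : f π * f π⁻¹ = 1 := B.mono_fix hd (β := _) (by simpa using B.mono_mul hm' hm'')
      (by rw [op_mul, hfix, hfix])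
    exact mul_right_cancel (h1.trans h2.symm)
  have fmul : ∀ a b : A, f (a * b) = f a * f b := fun a b => by
    obtain ⟨β, hm⟩ := hf a
    obtain ⟨β', hm'⟩ := hf b
    exact (huniq _ (a * b) _ (by simpa using B.mono_mul hm hm') (by rw [op_mul, hfix, hfix])).symm
  let φ : A →* X := MonoidHom.mk' f fmul
  have hinj : Function.Injective φ := by
    intro a b h
    obtain ⟨β, hm⟩ := hf a
    obtain ⟨β', hm'⟩ := hf b
    have hab : f a = f b := h
    rw [hab] at hm
    exact Subtype.ext (B.perm_unique hm hm').1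
  refine ⟨φ.range, ?_, ⟨(MonoidHom.ofInjective hinj).symm.trans
    (MulEquiv.subgroupCongr (closure_cases k))⟩⟩
  rintro _ ⟨π, rfl⟩
  exact hfix π

/-- The stabiliser of a vector of the large orbit has order 11520. -/
theorem card_stab [Finite X] (hcard : Nat.card X = 19595520) {j : Fin 5}
    (hj : j ∈ ({2, 3, 4} : Finset (Fin 5)))
    (hrel : ∀ d d' : Co, Sing2 d → Sing2 d' →
      (Rel ρ (pt F ρ e d) (pt F ρ e d') ↔
        (kind d ∈ ({0, j} : Finset (Fin 5)) ↔ kind d' ∈ ({0, j} : Finset (Fin 5)))))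
    {d : Co} (hd : Sing2 d) (hk : kind d ∉ ({0, j} : Finset (Fin 5)))
    (S : Subgroup X) (hS : ∀ g, g ∈ S ↔ op ρ g (pt F ρ e d) = pt F ρ e d) : Nat.card S = 11520 := by
  classical
  haveI : Finite V := Nat.finite_of_card_ne_zero (by rw [B.hR.card]; norm_num)
  obtain ⟨hv0, hq0⟩ := (B.sing_iff d).2 hd
  letI : MulAction X V :=
    { smul := fun g v => op ρ g v
      one_smul := fun v => op_one v
      mul_smul := fun g h v => op_mul g h v }
  let O : Finset Co := Finset.univ.filter fun d' => Sing2 d' ∧ kind d' ∈ ({1, 2, 3, 4} : Finset (Fin 5)).erase j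
  have hO : O.card = 1701 := by
    rw [← big_sizes j hj, Finset.card_eq_sum_card_fiberwise (f := kind)
      (t := ({1, 2, 3, 4} : Finset (Fin 5)).erase j) (fun d' hd' => (Finset.mem_filter.1 hd').2.2)]
    refine Finset.sum_congr rfl fun i hi => ?_
    rw [← card_kind i, Finset.filter_filter]
    congr 1
    ext d'
    simp only [Finset.mem_filter, Finset.mem_univ, true_and]
    exact ⟨fun ⟨⟨a, _⟩, c⟩ => ⟨a, c⟩, fun ⟨a, c⟩ => ⟨⟨a, c ▸ hi⟩, c⟩⟩
  have hmem : ∀ d', d' ∈ O ↔ pt F ρ e d' ∈ MulAction.orbit X (pt F ρ e d) := by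
    intro d'
    simp only [O, Finset.mem_filter, Finset.mem_univ, true_and]
    constructor
    · rintro ⟨hd', hk'⟩
      exact (hrel d d' hd hd').2 (iff_of_false hk (not_mem_erase j _ hk'))
    · rintro ⟨g, hg⟩
      have hd' : Sing2 d' := (B.sing_iff d').1 ⟨fun e1 => hv0
        (op_inj g ((hg.trans e1).trans (map_zero _).symm)), by
          rw [← hg]; exact (B.hR.inv g _).trans hq0⟩
      exact ⟨hd', out_mem j _ hj fun e1 => hk (((hrel d d' hd hd').1 ⟨g, hg⟩).2 e1)⟩
  have horb : Nat.card (MulAction.orbit X (pt F ρ e d)) = 1701 := by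
    rw [← hO, ← Nat.card_eq_finsetCard O]
    refine (Nat.card_congr (Equiv.ofBijective (fun d' : O => (⟨pt F ρ e d', (hmem d').1 d'.2⟩ :
      MulAction.orbit X (pt F ρ e d))) ⟨fun a b h => ?_, ?_⟩)).symm
    · exact Subtype.ext (B.pt_bijective.1 (congrArg Subtype.val h))
    · rintro ⟨v, hv⟩
      obtain ⟨d', rfl⟩ := B.pt_bijective.2 v
      exact ⟨⟨d', (hmem d').2 hv⟩, rfl⟩
  have hSe : S = MulAction.stabilizer X (pt F ρ e d) := Subgroup.ext fun g => hS g
  have h := (MulAction.stabilizer X (pt F ρ e d)).card_mul_index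
  rw [Subgroup.index_eq_card, ← Nat.card_congr (MulAction.orbitEquivQuotientStabilizer X (pt F ρ e d)),
    horb, hcard] at h
  rw [hSe]
  omega

end Basis

universe u

section

variable {G : Type u} [Group G] [Finite G] {z : G} {Q : Subgroup (centralizer ({z} : Set G))} [Q.Normal]
  {V : Type u} [AddCommGroup V] {zc : centralizer ({z} : Set G)}
  {π : centralizer ({z} : Set G) → V} {ρ : centralizer ({z} : Set G) ⧸ Q →* AddMonoid.End V}
  {q : V → ZMod 2} {F : Frame (centralizer ({z} : Set G) ⧸ Q)}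

namespace Setting

variable (S : Setting z Q zc π ρ q F)
include S

theorem card_inter_le {g : G} {y : centralizer ({z} : Set G)} (hy : y ∈ Q) (hy0 : π y ≠ 0)
    (hg : g * z * g⁻¹ = (y : G)) : Nat.card (interH z g Q) ≤ 128 := by
  classical
  haveI : Finite V := Nat.finite_of_card_ne_zero (by rw [S.orth.card]; norm_num)
  let W : AddSubgroup V :=
    { carrier := {v | ∃ x ∈ interH z g Q, π x = v}
      zero_mem' := ⟨1, one_mem _, S.pi_one⟩
      add_mem' := fun {a b} ⟨x, hx, ha⟩ ⟨x', hx', hb⟩ =>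
        ⟨x * x', mul_mem hx hx', by rw [S.link.add _ hx.1 _ hx'.1, ha, hb]⟩
      neg_mem' := fun {a} ⟨x, hx, ha⟩ => ⟨x, hx, by
        rw [ha, eq_neg_iff_add_eq_zero, S.orth.two]⟩ }
  have hW0 : ∀ v ∈ W, ∀ w ∈ W, polarQ q v w = 0 := by
    intro v hv w hw
    have hq : ∀ v ∈ W, q v = 0 := fun v ⟨x, hx, hxe⟩ => by
      rw [← hxe, S.link.qval x hx.1, if_pos (S.inter_sq hy hy0 hg hx)]
    rw [polarQ, hq _ (W.add_mem hv hw), hq _ hv, hq _ hw]; rfl
  let Ψ : W → (V ⧸ W →+ ZMod 2) := fun w => QuotientAddGroup.lift W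
    (AddMonoidHom.mk' (fun u => polarQ q (w : V) u) fun a b => polar_add_right S.orth _ a b)
    (fun u hu => hW0 _ w.2 u hu)
  have hinj : Function.Injective Ψ := by
    intro a b h
    apply Subtype.ext
    by_contra hne
    have hab : (a : V) + b ≠ 0 := fun h0 => hne (by
      have := congrArg (· + (b : V)) h0
      simpa [add_assoc, S.orth.two] using this)
    refine hab (S.orth.nondeg _ fun u => ?_)
    have := congrArg (fun f : V ⧸ W →+ ZMod 2 => f (QuotientAddGroup.mk u)) h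
    simp only [Ψ, QuotientAddGroup.lift_mk, AddMonoidHom.mk'_apply] at this
    rw [S.orth.addl, show polarQ q (a : V) u = polarQ q (b : V) u from this, ZModModule.add_self]
  haveI : Finite (V ⧸ W →+ ZMod 2) := Finite.of_injective (fun f => (f : V ⧸ W → ZMod 2)) DFunLike.coe_injective
  have h1 := Nat.card_le_card_of_injective Ψ hinj
  rw [card_dual (V ⧸ W) fun v => by
    obtain ⟨u, rfl⟩ := QuotientAddGroup.mk_surjective v
    rw [← QuotientAddGroup.mk_add, S.orth.two, QuotientAddGroup.mk_zero]] at h1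
  have h2 := AddSubgroup.card_eq_card_quotient_mul_card_addSubgroup W
  rw [S.orth.card] at h2
  have hW : Nat.card W ≤ 64 := by
    by_contra hlt
    have := Nat.mul_le_mul (show 65 ≤ Nat.card (V ⧸ W) by omega) (show 65 ≤ Nat.card W by omega)
    omega
  let f : interH z g Q → W × Bool := fun x =>
    (⟨π (x : centralizer ({z} : Set G)), x, x.2, rfl⟩,
      decide ((x : centralizer ({z} : Set G)) = (S.link.surj (π (x : centralizer ({z} : Set G)))).choose))
  have hf : Function.Injective f := by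
    intro x x' h
    simp only [f, Prod.mk.injEq, Subtype.mk.injEq, decide_eq_decide] at h
    apply Subtype.ext
    rcases (S.pi_eq x.2.1 x'.2.1).1 h.1 with h' | h'
    · exact h'
    · exfalso
      obtain ⟨hπ, h2⟩ := h
      simp only [← hπ] at h2
      generalize hr : (S.link.surj (π (x : centralizer ({z} : Set G)))).choose = r at h2
      obtain ⟨hr1, hr2⟩ := (S.link.surj (π (x : centralizer ({z} : Set G)))).choose_spec
      rw [hr] at hr1 hr2
      rcases (S.pi_eq hr1 x.2.1).1 hr2 with e1 | e1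
      · exact S.ext.z_mul_ne (x' : centralizer ({z} : Set G))
          (h'.symm.trans ((h2.1 e1.symm).trans e1).symm)
      · have h'' : (x' : centralizer ({z} : Set G)) = r := by rw [e1, h', S.ext.z_mul_z_mul]
        exact S.ext.z_mul_ne (x' : centralizer ({z} : Set G)) (h'.symm.trans ((h2.2 h'').trans h''.symm))
  have := Nat.card_le_card_of_injective f hf
  rw [Nat.card_prod, Nat.card_eq_fintype_card (α := Bool), Fintype.card_bool] at this
  omega

/-- The local structure. -/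
theorem local_structure {g : G} {y : centralizer ({z} : Set G)} (hy : y ∈ Q) (hyz : (y : G) ≠ z)
    (hg : g * z * g⁻¹ = (y : G)) (T : Subgroup (centralizer ({z} : Set G) ⧸ Q))
    (hT : T = ((centralizer ({z} : Set G) ⊓ centralizer ({(y : G)} : Set G)).subgroupOf
      (centralizer ({z} : Set G))).map (QuotientGroup.mk' Q)) :
    Nat.card (interH z g Q) = 128 ∧ imgE z g Q ≤ T ∧
      (∀ x ∈ T, ∀ u ∈ imgE z g Q, x * u * x⁻¹ ∈ imgE z g Q) ∧ Cfsg.IsElementaryAbelian 2 (imgE z g Q) ∧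
      Nat.card (imgE z g Q) = 32 ∧ ∃ _ : ((imgE z g Q).subgroupOf T).Normal,
        Nonempty (T ⧸ (imgE z g Q).subgroupOf T ≃* alternatingGroup (Fin 6)) := by
  classical
  haveI : Finite V := Nat.finite_of_card_ne_zero (by rw [S.orth.card]; norm_num)
  obtain ⟨k, e, B⟩ := exists_basis S.frame S.orth
  obtain ⟨j, hj, hrel, hno⟩ := S.classes B
  have hy2 : y * y = 1 := Subtype.ext (by
    rw [Subgroup.coe_mul, ← hg, Subgroup.coe_one]
    have hz : z * z = 1 := by rw [← S.zc_val]; exact congrArg Subtype.val S.ext.zz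
    rw [show g * z * g⁻¹ * (g * z * g⁻¹) = g * (z * z) * g⁻¹ by group, hz]; group)
  have hy1 : y ≠ 1 := fun e1 => by
    rw [e1, Subgroup.coe_one, conj_eq_one_iff, ← S.zc_val] at hg
    exact S.ext.ne_one (Subtype.ext hg)
  obtain ⟨d, hd, hdπ⟩ := S.exists_co B hy hy2 hy1 hyz
  have hy0 : π y ≠ 0 := hdπ ▸ ((B.sing_iff d).2 hd).1
  have hk := hno y hy d hd hdπ.symm (isConj_iff.2 ⟨g, hg⟩)
  -- the stabiliser
  let St : Subgroup (centralizer ({z} : Set G) ⧸ Q) :=
    { carrier := {x | op ρ x (π y) = π y}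
      one_mem' := op_one _
      mul_mem' := fun {a b} ha hb => by
        show op ρ (a * b) (π y) = π y
        rw [op_mul, hb, ha]
      inv_mem' := fun {a} ha => by
        show op ρ a⁻¹ (π y) = π y
        conv_lhs => rw [← ha]
        exact op_inv_self a _ }
  have hTS : T = St := by
    ext x
    rw [hT]
    constructor
    · rintro ⟨c, hc, rfl⟩
      have hcy : c * y * c⁻¹ = y := Subtype.ext (mul_inv_eq_iff_eq_mul.2
        (mem_centralizer_singleton_iff.1 (Subgroup.mem_subgroupOf.1 hc).2))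
      show ρ (c : centralizer ({z} : Set G) ⧸ Q) (π y) = π y
      rw [← S.link.equiv c y hy, hcy]
    · intro hx
      obtain ⟨c, rfl⟩ := QuotientGroup.mk_surjective x
      have hcy : c * y * c⁻¹ ∈ Q := Subgroup.Normal.conj_mem ‹Q.Normal› y hy c
      have hce : π (c * y * c⁻¹) = π y := (S.link.equiv c y hy).trans hx
      obtain ⟨c', hc'y, hc'⟩ : ∃ c' : centralizer ({z} : Set G), c' * y * c'⁻¹ = y ∧
          (c' : centralizer ({z} : Set G) ⧸ Q) = (c : centralizer ({z} : Set G) ⧸ Q) := by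
        rcases (S.pi_eq hcy hy).1 hce with h | h
        · exact ⟨c, h, rfl⟩
        · obtain ⟨p, hp, ep⟩ := S.ext.partner y hy hy1 (fun e1 => hy0 ((S.link.ker y hy).2 (Or.inr e1)))
          refine ⟨p * c, ?_, ?_⟩
          · calc p * c * y * (p * c)⁻¹ = p * (c * y * c⁻¹) * p⁻¹ := by group
              _ = p * (zc * y) * p⁻¹ := by rw [h]
              _ = zc * (p * y * p⁻¹) := by rw [← mul_assoc p, S.zc_comm p]; simp only [mul_assoc]
              _ = y := by rw [ep, S.ext.z_mul_z_mul]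
          · rw [QuotientGroup.mk_mul, (QuotientGroup.eq_one_iff p).2 hp, one_mul]
      refine ⟨c', Subgroup.mem_subgroupOf.2 ⟨c'.2, mem_centralizer_singleton_iff.2 ?_⟩, hc'⟩
      exact congrArg Subtype.val (mul_inv_eq_iff_eq_mul.1 hc'y)
  have hTc : Nat.card T = 11520 := by
    rw [hTS]
    exact B.card_stab S.card hj hrel hd hk St fun x => by rw [hdπ]; rfl
  -- the complement
  obtain ⟨t, ht⟩ := exists_full j hj
  set d₀ : Co := fun i => if i = 0 then some t else some 0
  have hd₀ : ∀ i, (d₀ i).isSome := fun i => by simp only [d₀]; split_ifs <;> rfl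
  have hd₀' : Sing2 d₀ := Or.inr (Or.inr (by
    rw [supp, Finset.filter_true_of_mem fun i _ => hd₀ i]; simp))
  obtain ⟨x₀, hx₀⟩ := (hrel d₀ d hd₀' hd).2 (iff_of_false ht hk)
  obtain ⟨R₀, hR₀, ⟨eR⟩⟩ := B.exists_alt hd₀
  let R := R₀.map (MulAut.conj x₀).toMonoidHom
  have eR' : R ≃* alternatingGroup (Fin 6) :=
    (R₀.equivMapOfInjective _ (MulAut.conj x₀).injective).symm.trans eR
  have hRT : R ≤ T := by
    rw [hTS]
    rintro _ ⟨r, hr, rfl⟩
    show op ρ (x₀ * r * x₀⁻¹) (π y) = π y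
    rw [← hdπ, ← hx₀, op_mul, op_inv_self, op_mul, hR₀ r hr]
  -- the image of the conjugate group
  set E := imgE z g Q with hEdef
  set P := S.pair hy hy0 hg
  have hE_sq : ∀ u ∈ E, u * u = 1 := by
    rintro _ ⟨c, hc, rfl⟩
    have hc' := (Subgroup.mem_subgroupOf.1 hc).1
    rw [← map_mul, QuotientGroup.mk'_apply, QuotientGroup.eq_one_iff]
    rcases P.h'.sq (c : G) hc' with h | h
    · rw [show c * c = 1 from Subtype.ext h]; exact one_mem Q
    · rw [show c * c = y from Subtype.ext (h.trans hg)]; exact hy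
  have hET : E ≤ T := by
    rw [hT]
    refine Subgroup.map_mono fun c hc => ?_
    rw [Subgroup.mem_subgroupOf] at hc ⊢
    refine ⟨c.2, mem_centralizer_singleton_iff.2 ?_⟩
    rw [← hg]
    exact P.h'.comm _ hc.1
  have hnorm : ∀ x ∈ T, ∀ u ∈ E, x * u * x⁻¹ ∈ E := by
    rw [hT]
    rintro _ ⟨c, hc, rfl⟩ _ ⟨w, hw, rfl⟩
    refine ⟨c * w * c⁻¹, ?_, by simp [map_mul, map_inv]⟩
    have hw := Subgroup.mem_subgroupOf.1 hw
    refine Subgroup.mem_subgroupOf.2 ⟨?_, (c * w * c⁻¹).2⟩
    have hcy : (c : G) * (g * z * g⁻¹) = g * z * g⁻¹ * c := by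
      rw [hg]; exact mem_centralizer_singleton_iff.1 (Subgroup.mem_subgroupOf.1 hc).2
    exact P.h'.norm (c : G) hcy w hw.1
  haveI hEn : (E.subgroupOf T).Normal := ⟨fun u hu x => Subgroup.mem_subgroupOf.2
    (hnorm x x.2 u (Subgroup.mem_subgroupOf.1 hu))⟩
  -- the complement meets it trivially
  haveI : IsSimpleGroup R := by
    haveI : IsSimpleGroup (alternatingGroup (Fin 6)) := alternatingGroup.isSimpleGroup (by simp)
    haveI : Nontrivial R := eR'.toEquiv.nontrivial
    exact IsSimpleGroup.isSimpleGroup_of_surjective eR'.symm.toMonoidHom eR'.symm.surjective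
  have hRc : Nat.card R = 360 := by
    rw [Nat.card_congr eR'.toEquiv, nat_card_alternatingGroup, Nat.card_fin]; rfl
  obtain ⟨m, hm⟩ := S.imgE_two hy hy0 hg
  have hdisj : E ⊓ R = ⊥ := by
    haveI hn : ((E ⊓ R).subgroupOf R).Normal := ⟨fun u hu x => Subgroup.mem_subgroupOf.2
      ⟨hnorm x (hRT x.2) u (Subgroup.mem_subgroupOf.1 hu).1, (x * u * x⁻¹).2⟩⟩
    rcases hn.eq_bot_or_eq_top with h | h
    · rwa [Subgroup.subgroupOf_eq_bot, disjoint_iff, inf_assoc, inf_idem] at h
    · exfalso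
      rw [Subgroup.subgroupOf_eq_top] at h
      have hd := Subgroup.card_dvd_of_le (h.trans inf_le_left : R ≤ E)
      rw [hRc, hm, show 360 = 3 * 120 by norm_num] at hd
      have h3 : 3 ∣ 2 ^ m := (dvd_mul_right 3 120).trans hd
      have := Nat.Prime.dvd_of_dvd_pow Nat.prime_three h3
      norm_num at this
  let ψ : E × R → T := fun p => ⟨(p.1 : centralizer ({z} : Set G) ⧸ Q) * p.2, mul_mem (hET p.1.2) (hRT p.2.2)⟩
  have hψ : Function.Injective ψ := by
    rintro ⟨⟨a, ha⟩, ⟨b, hb⟩⟩ ⟨⟨a', ha'⟩, ⟨b', hb'⟩⟩ h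
    have h' : a * b = a' * b' := congrArg Subtype.val h
    have hmem : a'⁻¹ * a ∈ E ⊓ R := Subgroup.mem_inf.2 ⟨E.mul_mem (E.inv_mem ha') ha, by
      rw [show a'⁻¹ * a = b' * b⁻¹ by
        rw [eq_mul_inv_iff_mul_eq, mul_assoc, h', inv_mul_cancel_left]]
      exact R.mul_mem hb' (R.inv_mem hb)⟩
    rw [hdisj, Subgroup.mem_bot, inv_mul_eq_one] at hmem
    subst hmem
    have := mul_left_cancel h'
    subst this
    rfl
  have hle := Nat.card_le_card_of_injective ψ hψ
  rw [Nat.card_prod, hRc, hTc] at hle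
  have hI := S.card_inter_le hy hy0 hg
  have hc := S.count_C' hy hy0 hg
  have hE32 : Nat.card E = 32 := by
    have h1 : Nat.card E ≤ 32 := by omega
    by_contra hne
    have := Nat.mul_le_mul hI (show Nat.card E ≤ 31 by omega)
    rw [← hEdef] at hc
    omega
  refine ⟨?_, hET, hnorm, ⟨⟨⟨fun a b => ?_⟩⟩, fun u hu => ?_⟩, hE32, hEn, ⟨?_⟩⟩
  · rw [← hEdef, hE32] at hc; omega
  · have hinv : ∀ u : E, u⁻¹ = u := fun u =>
      inv_eq_of_mul_eq_one_right (Subtype.ext (hE_sq _ u.2))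
    calc a * b = (a * b)⁻¹ := (hinv _).symm
      _ = b * a := by rw [mul_inv_rev, hinv, hinv]
  · rw [pow_two]; exact hE_sq _ hu
  · let χ : R →* T ⧸ E.subgroupOf T :=
      (QuotientGroup.mk' (E.subgroupOf T)).comp (Subgroup.inclusion hRT)
    have hχ : Function.Injective χ := by
      refine (injective_iff_map_eq_one χ).2 fun r hr => ?_
      have h1 : (r : centralizer ({z} : Set G) ⧸ Q) ∈ E ⊓ R :=
        ⟨Subgroup.mem_subgroupOf.1 ((QuotientGroup.eq_one_iff (Subgroup.inclusion hRT r)).1 hr), r.2⟩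
      rw [hdisj, Subgroup.mem_bot] at h1
      exact Subtype.ext h1
    have hq : Nat.card (T ⧸ E.subgroupOf T) = 360 := by
      have h := Subgroup.card_eq_card_quotient_mul_card_subgroup (E.subgroupOf T)
      rw [hTc, Nat.card_congr (Subgroup.subgroupOfEquivOfLe hET).toEquiv, hE32] at h
      omega
    exact (MulEquiv.ofBijective χ ((Nat.bijective_iff_injective_and_card _).2
      ⟨hχ, hRc.trans hq.symm⟩)).symm.trans eR'

end Setting

end

end Cfsg.Agent.FischerFrame18
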