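import Mathlib
import Cfsg.Agent.Lib.FischerFrameStab18

/-!
The involutions of `Q` other than `z` in the two classes: conjugacy and the orders of the images of
their stabilisers in the quotient.
-/

set_option autoImplicit false
set_option maxHeartbeats 1000000
set_option maxRecDepth 100000
set_option linter.style.haveILetI false

namespace Cfsg.Agent.FischerFrame18

open Subgroup

theorem small_sizes : ∀ j : Fin 5, j ∈ ({2, 3, 4} : Finset (Fin 5)) →
    ∑ i ∈ ({0, j} : Finset (Fin 5)), ksize i = 378 := by decide +kernel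

namespace Basis

variable {X V : Type*} [Group X] [AddCommGroup V] {ρ : X →* AddMonoid.End V} {q : V → ZMod 2}
  {F : Frame X} {k : Fin 4} {e : Fin 6 → V} (B : Basis ρ q F k e)
include B

/-- The stabiliser of a vector of the small orbit has order 51840. -/
theorem card_stab_small [Finite X] (hcard : Nat.card X = 19595520) {j : Fin 5}
    (hj : j ∈ ({2, 3, 4} : Finset (Fin 5)))
    (hrel : ∀ d d' : Co, Sing2 d → Sing2 d' →
      (Rel ρ (pt F ρ e d) (pt F ρ e d') ↔
        (kind d ∈ ({0, j} : Finset (Fin 5)) ↔ kind d' ∈ ({0, j} : Finset (Fin 5)))))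
    {d : Co} (hd : Sing2 d) (hk : kind d ∈ ({0, j} : Finset (Fin 5)))
    (S : Subgroup X) (hS : ∀ g, g ∈ S ↔ op ρ g (pt F ρ e d) = pt F ρ e d) : Nat.card S = 51840 := by
  classical
  haveI : Finite V := Nat.finite_of_card_ne_zero (by rw [B.hR.card]; norm_num)
  obtain ⟨hv0, hq0⟩ := (B.sing_iff d).2 hd
  letI : MulAction X V :=
    { smul := fun g v => op ρ g v
      one_smul := fun v => op_one v
      mul_smul := fun g h v => op_mul g h v }
  let O : Finset Co := Finset.univ.filter fun d' => Sing2 d' ∧ kind d' ∈ ({0, j} : Finset (Fin 5))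
  have hO : O.card = 378 := by
    rw [← small_sizes j hj, Finset.card_eq_sum_card_fiberwise (f := kind)
      (t := ({0, j} : Finset (Fin 5))) (fun d' hd' => (Finset.mem_filter.1 hd').2.2)]
    refine Finset.sum_congr rfl fun i hi => ?_
    rw [← card_kind i, Finset.filter_filter]
    congr 1
    ext d'
    simp only [Finset.mem_filter, Finset.mem_univ, true_and]
    exact ⟨fun ⟨⟨a, _⟩, c⟩ => ⟨a, c⟩, fun ⟨a, c⟩ => ⟨⟨a, c ▸ hi⟩, c⟩⟩
  have hmem : ∀ d', d' ∈ O ↔ pt F ρ e d' ∈ MulAction.orbit X (pt F ρ e d) := by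
    intro d'
    simp only [O, Finset.mem_filter, Finset.mem_univ, true_and]
    constructor
    · rintro ⟨hd', hk'⟩
      exact (hrel d d' hd hd').2 (iff_of_true hk hk')
    · rintro ⟨g, hg⟩
      have hd' : Sing2 d' := (B.sing_iff d').1 ⟨fun e1 => hv0
        (op_inj g ((hg.trans e1).trans (map_zero _).symm)), by
          rw [← hg]; exact (B.hR.inv g _).trans hq0⟩
      exact ⟨hd', ((hrel d d' hd hd').1 ⟨g, hg⟩).1 hk⟩
  have horb : Nat.card (MulAction.orbit X (pt F ρ e d)) = 378 := by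
    rw [← hO, ← Nat.card_eq_finsetCard O]
    refine (Nat.card_congr (Equiv.ofBijective (fun d' : O => (⟨pt F ρ e d', (hmem d').1 d'.2⟩ :
      MulAction.orbit X (pt F ρ e d))) ⟨fun a b h => ?_, ?_⟩)).symm
    · exact Subtype.ext (B.pt_bijective.1 (congrArg Subtype.val h))
    · rintro ⟨v, hv⟩
      obtain ⟨d', rfl⟩ := B.pt_bijective.2 v
      exact ⟨⟨d', (hmem d').2 hv⟩, rfl⟩
  have hSe : S = MulAction.stabilizer X (pt F ρ e d) := Subgroup.ext fun g => hS g
  have h := (MulAction.stabilizer X (pt F ρ e d)).card_mul_index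
  rw [Subgroup.index_eq_card, ← Nat.card_congr (MulAction.orbitEquivQuotientStabilizer X (pt F ρ e d)),
    horb, hcard] at h
  rw [hSe]
  omega

end Basis

universe u

section

variable {G : Type u} [Group G] [Finite G] {z : G} {Q : Subgroup (centralizer ({z} : Set G))} [Q.Normal]

/-- An element of `Q` that is an involution other than `z`. -/
structure InvQ (z : G) (Q : Subgroup (centralizer ({z} : Set G)))
    (x : centralizer ({z} : Set G)) : Prop where
  mem : x ∈ Q
  sq : x * x = 1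
  ne_one : x ≠ 1
  ne_z : (x : G) ≠ z

/-- The elements sending `x` to `x` or `x z`, modulo `Q`. -/
def imgStab (z : G) (Q : Subgroup (centralizer ({z} : Set G))) [Q.Normal]
    (x : centralizer ({z} : Set G)) : Set (centralizer ({z} : Set G) ⧸ Q) :=
  QuotientGroup.mk' Q '' {h | h * x * h⁻¹ = x ∨ ((h * x * h⁻¹ : centralizer ({z} : Set G)) : G) = x * z}

namespace Setting

variable {V : Type u} [AddCommGroup V] {zc : centralizer ({z} : Set G)}
  {π : centralizer ({z} : Set G) → V} {ρ : centralizer ({z} : Set G) ⧸ Q →* AddMonoid.End V}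
  {q : V → ZMod 2} {F : Frame (centralizer ({z} : Set G) ⧸ Q)} (S : Setting z Q zc π ρ q F)
include S

theorem imgStab_iff {x : centralizer ({z} : Set G)} (hx : x ∈ Q)
    (g : centralizer ({z} : Set G) ⧸ Q) : g ∈ imgStab z Q x ↔ op ρ g (π x) = π x := by
  constructor
  · rintro ⟨c, hc, rfl⟩
    show ρ (c : centralizer ({z} : Set G) ⧸ Q) (π x) = π x
    have hcQ : c * x * c⁻¹ ∈ Q := Subgroup.Normal.conj_mem ‹Q.Normal› x hx c
    rw [← S.link.equiv c x hx, S.pi_eq hcQ hx]
    rcases hc with h | h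
    · exact Or.inl h
    · refine Or.inr (Subtype.ext ?_)
      rw [h, Subgroup.coe_mul, S.zc_val]
      exact mem_centralizer_singleton_iff.1 x.2
  · intro hg
    obtain ⟨c, rfl⟩ := QuotientGroup.mk_surjective g
    have hcQ : c * x * c⁻¹ ∈ Q := Subgroup.Normal.conj_mem ‹Q.Normal› x hx c
    refine ⟨c, ?_, rfl⟩
    rcases (S.pi_eq hcQ hx).1 ((S.link.equiv c x hx).trans hg) with h | h
    · exact Or.inl h
    · refine Or.inr ?_
      rw [h, Subgroup.coe_mul, S.zc_val]
      exact (mem_centralizer_singleton_iff.1 x.2).symm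

end Setting

/-- The order of the stabiliser in the two classes. -/
theorem card_imgStab (hF : Cfsg.IsOfLargeFischerTypeAt z Q) {x : centralizer ({z} : Set G)}
    (hx : InvQ z Q x) :
    (IsConj z (x : G) → Nat.card (imgStab z Q x) = 11520) ∧
      (¬ IsConj z (x : G) → Nat.card (imgStab z Q x) = 51840) := by
  obtain ⟨V, _, zc, π, ρ, q, F, S⟩ := exists_setting z Q hF
  obtain ⟨k, e, B⟩ := exists_basis S.frame S.orth
  obtain ⟨j, hj, hrel, hno⟩ := S.classes B
  obtain ⟨d, hd, hdπ⟩ := S.exists_co B hx.mem hx.sq hx.ne_one hx.ne_z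
  let St : Subgroup (centralizer ({z} : Set G) ⧸ Q) :=
    { carrier := {g | op ρ g (π x) = π x}
      one_mem' := op_one _
      mul_mem' := fun {a b} ha hb => by
        show op ρ (a * b) (π x) = π x
        rw [op_mul, hb, ha]
      inv_mem' := fun {a} ha => by
        show op ρ a⁻¹ (π x) = π x
        conv_lhs => rw [← ha]
        exact op_inv_self a _ }
  have hset : imgStab z Q x = (St : Set _) := Set.ext fun g => S.imgStab_iff hx.mem g
  have hSt : ∀ g, g ∈ St ↔ op ρ g (pt F ρ e d) = pt F ρ e d := fun g => by rw [hdπ]; rfl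
  rw [hset]
  constructor
  · intro hc
    exact B.card_stab S.card hj hrel hd (hno x hx.mem d hd hdπ.symm hc) St hSt
  · intro hc
    refine B.card_stab_small S.card hj hrel hd ?_ St hSt
    by_contra hk
    obtain ⟨g, ⟨hq, hgQ⟩, hgz⟩ := hF.1.2.2.2.2
    have hconj : IsConj z (g * z * g⁻¹) := isConj_iff.2 ⟨g, rfl⟩
    have hzz : z * z = 1 := by rw [← S.zc_val]; exact congrArg Subtype.val S.ext.zz
    obtain ⟨d', hd', hdπ'⟩ := S.exists_co B hgQ (Subtype.ext (by
        show g * z * g⁻¹ * (g * z * g⁻¹) = 1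
        rw [show g * z * g⁻¹ * (g * z * g⁻¹) = g * (z * z) * g⁻¹ by group, hzz]; group))
      (fun e1 => S.ext.ne_one (Subtype.ext (by
        rw [S.zc_val]; exact conj_eq_one_iff.1 (congrArg Subtype.val e1)))) hgz
    obtain ⟨c, hc'⟩ := S.conj_of_rel hgQ hx.mem (hdπ ▸ ((B.sing_iff d).2 hd).1) (by
      rw [← hdπ, ← hdπ']
      exact (hrel d' d hd' hd).2 (iff_of_false (hno _ hgQ d' hd' hdπ'.symm hconj) hk))
    exact hc (hconj.trans (isConj_iff.2 ⟨c, congrArg Subtype.val hc'⟩))

/-- The involutions in `Q` outside the class of `z` are conjugate in the centraliser. -/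
theorem conj_noncentral (hF : Cfsg.IsOfLargeFischerTypeAt z Q) {x y : centralizer ({z} : Set G)}
    (hx : InvQ z Q x) (hy : InvQ z Q y) (hxz : ¬ IsConj z (x : G)) (hyz : ¬ IsConj z (y : G)) :
    ∃ c : centralizer ({z} : Set G), c * x * c⁻¹ = y := by
  obtain ⟨V, _, zc, π, ρ, q, F, S⟩ := exists_setting z Q hF
  obtain ⟨k, e, B⟩ := exists_basis S.frame S.orth
  obtain ⟨j, hj, hrel, hno⟩ := S.classes B
  obtain ⟨d, hd, hdπ⟩ := S.exists_co B hx.mem hx.sq hx.ne_one hx.ne_z
  obtain ⟨d', hd', hdπ'⟩ := S.exists_co B hy.mem hy.sq hy.ne_one hy.ne_z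
  obtain ⟨g, ⟨hq, hgQ⟩, hgz⟩ := hF.1.2.2.2.2
  have hzz : z * z = 1 := by rw [← S.zc_val]; exact congrArg Subtype.val S.ext.zz
  obtain ⟨d₀, hd₀, hdπ₀⟩ := S.exists_co B hgQ (Subtype.ext (by
      show g * z * g⁻¹ * (g * z * g⁻¹) = 1
      rw [show g * z * g⁻¹ * (g * z * g⁻¹) = g * (z * z) * g⁻¹ by group, hzz]; group))
    (fun e1 => S.ext.ne_one (Subtype.ext (by
      rw [S.zc_val]; exact conj_eq_one_iff.1 (congrArg Subtype.val e1)))) hgz
  have hk : ∀ {w : centralizer ({z} : Set G)} {dw : Co}, w ∈ Q → Sing2 dw → pt F ρ e dw = π w →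
      ¬ IsConj z (w : G) → kind dw ∈ ({0, j} : Finset (Fin 5)) := by
    intro w dw hw hdw hdwπ hwz
    by_contra hkw
    have hconj : IsConj z (g * z * g⁻¹) := isConj_iff.2 ⟨g, rfl⟩
    obtain ⟨c, hc⟩ := S.conj_of_rel hgQ hw (hdwπ ▸ ((B.sing_iff dw).2 hdw).1) (by
      rw [← hdwπ, ← hdπ₀]
      exact (hrel d₀ dw hd₀ hdw).2 (iff_of_false (hno _ hgQ d₀ hd₀ hdπ₀.symm hconj) hkw))
    exact hwz (hconj.trans (isConj_iff.2 ⟨c, congrArg Subtype.val hc⟩))
  exact S.conj_of_rel hx.mem hy.mem (hdπ' ▸ ((B.sing_iff d').2 hd').1) (by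
    rw [← hdπ, ← hdπ']
    exact (hrel d d' hd hd').2 (iff_of_true (hk hx.mem hd hdπ hxz) (hk hy.mem hd' hdπ' hyz)))

end

end Cfsg.Agent.FischerFrame18
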