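import Cfsg.Agent.Lib.FischerSymplecticMain88

/-!
Counting in the configurations of symplectic type: a closed subset missing a line is small, and
the resulting parameters of a strongly regular graph are impossible.
-/

set_option autoImplicit false

namespace Cfsg.Agent.FischerLocalCount88

open FischerSymplecticFrame88

universe u

variable {V : Type u} [AddCommGroup V] [Module (ZMod 2) V] [Finite V]
variable {B : V →ₗ[ZMod 2] V →ₗ[ZMod 2] ZMod 2} {Δ M : Set V}

/-- A closed subset of the members with a line that none of its members is orthogonal to. -/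
structure Blocked (B : V →ₗ[ZMod 2] V →ₗ[ZMod 2] ZMod 2) (Δ M : Set V) (x y : V) : Prop where
  sub : M ⊆ Δ
  closed : ∀ a ∈ M, ∀ b ∈ M, B a b = 1 → a + b ∈ M
  left : x ∈ Δ
  right : y ∈ Δ
  pair : B x y = 1
  miss : ∀ v ∈ M, ¬ (B v x = 0 ∧ B v y = 0)
  notMem : x ∉ M ∧ y ∉ M ∧ x + y ∉ M

/-- The number of members orthogonal to `a` other than `a`. -/
noncomputable def lam (B : V →ₗ[ZMod 2] V →ₗ[ZMod 2] ZMod 2) (Δ : Set V) (a : V) : ℕ :=
  {v ∈ Δ | v ≠ a ∧ B a v = 0}.ncard

theorem bound_orth (h : Cot B Δ) {x y : V} (hb : Blocked B Δ M x y) {m : ℕ}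
    (hV : Nat.card V = 2 ^ (2 * m)) : M.ncard ≤ 3 * 2 ^ (m - 1) := by
  classical
  have := Fintype.ofFinite V
  have : FiniteDimensional (ZMod 2) V := Module.Finite.of_finite
  let pr : V → V := fun v => B v y • x + B v x • y
  have hyx : B y x = 1 := by rw [h.symm, hb.pair]
  have hperp : ∀ v, B (v + pr v) x = 0 ∧ B (v + pr v) y = 0 := by
    intro v
    simp only [pr, map_add, map_smul, LinearMap.add_apply, LinearMap.smul_apply, h.alt, hb.pair,
      hyx, smul_eq_mul, mul_zero, mul_one, zero_add, add_zero]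
    exact ⟨CharTwo.add_self_eq_zero _, CharTwo.add_self_eq_zero _⟩
  have hxy : x + y ≠ 0 := fun e => by
    have := hb.pair
    rw [show x = y by rw [← add_zero x, ← ZModModule.add_self y, ← add_assoc, e, zero_add],
      h.alt] at this
    exact zero_ne_one this
  -- each fibre is totally isotropic
  have key : ∀ l, {v ∈ M | pr v = l}.ncard ≤ 2 ^ (m - 1) := by
    intro l
    set F := {v ∈ M | pr v = l} with hF
    let U : Set V := (fun v => v + l) '' F
    have hU : ∀ u ∈ U, ∀ u' ∈ U, B u u' = 0 := by
      rintro _ ⟨v, ⟨hv, hvl⟩, rfl⟩ _ ⟨v', ⟨hv', hvl'⟩, rfl⟩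
      have e1 : B (v + l) (v' + l) = B v v' := by
        have hp := hperp v
        have hp' := hperp v'
        rw [hvl] at hp; rw [hvl'] at hp'
        have hl : l = B v y • x + B v x • y := hvl.symm
        have z1 : B (v + l) l = 0 := by
          conv_lhs => arg 2; rw [hl]
          rw [map_add, map_smul, map_smul, hp.1, hp.2, smul_zero, smul_zero, add_zero]
        have z2 : B l (v' + l) = 0 := by
          rw [h.symm]
          conv_lhs => arg 2; rw [hl]
          rw [map_add, map_smul, map_smul, hp'.1, hp'.2, smul_zero, smul_zero, add_zero]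
        calc B (v + l) (v' + l) = B (v + l) v' + B (v + l) l := map_add _ _ _
          _ = B v v' + B l v' := by rw [z1, add_zero, LinearMap.map_add₂]
          _ = B v v' + B l (v' + l) := by rw [map_add (B l), h.alt, add_zero]
          _ = B v v' := by rw [z2, add_zero]
      rw [e1]
      by_contra hc
      have h1 := hb.closed v hv v' hv' ((zm _).resolve_left hc)
      refine hb.miss _ h1 ?_
      have hp := hperp v
      have hp' := hperp v'
      rw [hvl] at hp; rw [hvl'] at hp'
      have e : v + v' = (v + l) + (v' + l) := by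
        rw [add_add_add_comm, ZModModule.add_self, add_zero]
      rw [e, LinearMap.map_add₂ B (v + l) (v' + l) x, LinearMap.map_add₂ B (v + l) (v' + l) y, hp.1,
        hp.2, hp'.1, hp'.2, add_zero]
      exact ⟨rfl, rfl⟩
    let S := Submodule.span (ZMod 2) (insert x U)
    have hUx : ∀ u ∈ U, B u x = 0 := by
      rintro _ ⟨v, ⟨-, hvl⟩, rfl⟩
      rw [← hvl]; exact (hperp v).1
    have hS : ∀ u ∈ S, ∀ u' ∈ S, B u u' = 0 := by
      have h0 : ∀ u ∈ insert x U, ∀ u' ∈ insert x U, B u u' = 0 := by
        rintro u (rfl | hu) u' (rfl | hu')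
        · exact h.alt _
        · rw [h.symm]; exact hUx _ hu'
        · exact hUx _ hu
        · exact hU _ hu _ hu'
      intro u hu u' hu'
      induction hu using Submodule.span_induction with
      | mem w hw =>
        induction hu' using Submodule.span_induction with
        | mem w' hw' => exact h0 _ hw _ hw'
        | zero => simp
        | add a b _ _ ha hb => simp [ha, hb]
        | smul c a _ ha => simp [ha]
      | zero => simp
      | add a b _ _ ha hb => simp [ha, hb]
      | smul c a _ ha => simp [ha]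
    -- isotropic subspaces have at most half the dimension
    let L : V →ₗ[ZMod 2] Module.Dual (ZMod 2) S := (LinearMap.lcomp (ZMod 2) (ZMod 2) S.subtype).comp B
    have hinj : Function.Injective B := by
      intro a b e
      rw [← sub_eq_zero]
      refine h.nondeg _ fun v => ?_
      rw [map_sub, LinearMap.sub_apply, e, sub_self]
    have hsurj : Function.Surjective L := by
      have hB : Function.Surjective B :=
        (LinearMap.injective_iff_surjective_of_finrank_eq_finrank
          (Subspace.dual_finrank_eq).symm).1 hinj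
      intro g
      obtain ⟨g', hg'⟩ := LinearMap.exists_extend g
      obtain ⟨a, rfl⟩ := hB g'
      exact ⟨a, hg'⟩
    have hker : S ≤ LinearMap.ker L := fun u hu => LinearMap.mem_ker.2
      (LinearMap.ext fun w => hS u hu w w.2)
    have h1 := L.finrank_range_add_finrank_ker
    rw [LinearMap.range_eq_top.2 hsurj, finrank_top, Subspace.dual_finrank_eq] at h1
    have h2 := Submodule.finrank_mono hker
    have hdim : Module.finrank (ZMod 2) V = 2 * m := by
      have := Module.card_eq_pow_finrank (K := ZMod 2) (V := V)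
      rw [← Nat.card_eq_fintype_card, hV, ZMod.card] at this
      exact (Nat.pow_right_injective le_rfl this).symm
    have hScard : Nat.card S ≤ 2 ^ m := by
      rw [Module.natCard_eq_pow_finrank (K := ZMod 2), Nat.card_zmod]
      exact Nat.pow_le_pow_right (by omega) (by omega)
    -- `U` and its translate by `x` are disjoint inside `S`
    have hdisj : Disjoint U ((fun u => x + u) '' U) := by
      rw [Set.disjoint_left]
      rintro u hu ⟨u', hu', e⟩
      have p1 : B u y = 0 := by
        obtain ⟨v, ⟨-, hvl⟩, rfl⟩ := hu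
        rw [← hvl]; exact (hperp v).2
      have p2 : B u' y = 0 := by
        obtain ⟨v, ⟨-, hvl⟩, rfl⟩ := hu'
        rw [← hvl]; exact (hperp v).2
      rw [← e, LinearMap.map_add₂, hb.pair, p2, add_zero] at p1
      exact one_ne_zero p1
    have hsub : U ∪ (fun u => x + u) '' U ⊆ S := by
      rintro u (hu | ⟨u', hu', rfl⟩)
      · exact Submodule.subset_span (Or.inr hu)
      · exact add_mem (Submodule.subset_span (Or.inl rfl)) (Submodule.subset_span (Or.inr hu'))
    have h3 := Set.ncard_le_ncard hsub (Set.toFinite _)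
    rw [Set.ncard_union_eq hdisj (Set.toFinite _) (Set.toFinite _),
      Set.ncard_image_of_injective _ (add_right_injective x),
      Set.ncard_image_of_injective _ (add_left_injective l)] at h3
    have h4 : F.ncard + F.ncard ≤ 2 ^ m :=
      h3.trans (le_of_eq_of_le (Nat.card_coe_set_eq (S : Set V)).symm hScard)
    rcases m with - | m
    · show F.ncard ≤ 2 ^ (0 - 1)
      rw [pow_zero] at h4
      rw [Nat.zero_sub, pow_zero]
      omega
    · show F.ncard ≤ 2 ^ (m + 1 - 1)
      rw [pow_succ] at h4
      rw [Nat.add_sub_cancel]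
      omega
  have hcover : M ⊆ {v ∈ M | pr v = x} ∪ {v ∈ M | pr v = y} ∪ {v ∈ M | pr v = x + y} := by
    intro v hv
    have := hb.miss v hv
    rcases zm (B v x) with a | a <;> rcases zm (B v y) with b | b
    · exact absurd ⟨a, b⟩ this
    · exact Or.inl (Or.inl ⟨hv, by simp [pr, a, b]⟩)
    · exact Or.inl (Or.inr ⟨hv, by simp [pr, a, b]⟩)
    · exact Or.inr ⟨hv, by simp [pr, a, b]⟩
  have h1 := Set.ncard_le_ncard hcover (Set.toFinite _)
  have h2 := Set.ncard_union_le ({v ∈ M | pr v = x} ∪ {v ∈ M | pr v = y}) {v ∈ M | pr v = x + y}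
  have h3 := Set.ncard_union_le {v ∈ M | pr v = x} {v ∈ M | pr v = y}
  have := key x
  have := key y
  have := key (x + y)
  omega

theorem sum_pair_eq {k : ℕ} (f : Fin k → V) {i j : Fin k} (h : i ≠ j) :
    ∑ t ∈ ({i, j} : Finset (Fin k)), f t = f i + f j := Finset.sum_pair h

/-- The symmetric configuration. -/
theorem sym_counts {k : ℕ} {f : Fin k → V} (hk : 3 ≤ k) (hf : Frame B Δ k f) (hΔ : Δ = pairSet f)
    (hfi : ∀ i j p q, i ≠ j → p ≠ q → f i + f j = f p + f q → (i = p ∧ j = q) ∨ (i = q ∧ j = p)) :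
    Δ.ncard = k.choose 2 ∧ ∀ i j, i ≠ j → lam B Δ (f i + f j) = (k - 2).choose 2 := by
  classical
  let g : Finset (Fin k) → V := fun S => ∑ t ∈ S, f t
  have hg : ∀ S ∈ (Finset.univ : Finset (Fin k)).powersetCard 2,
      ∀ T ∈ (Finset.univ : Finset (Fin k)).powersetCard 2, g S = g T → S = T := by
    intro S hS T hT e
    obtain ⟨a, b, hab, rfl⟩ := Finset.card_eq_two.1 (Finset.mem_powersetCard.1 hS).2
    obtain ⟨c, d, hcd, rfl⟩ := Finset.card_eq_two.1 (Finset.mem_powersetCard.1 hT).2
    simp only [g, Finset.sum_pair hab, Finset.sum_pair hcd] at e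
    rcases hfi a b c d hab hcd e with ⟨rfl, rfl⟩ | ⟨rfl, rfl⟩
    · rfl
    · exact Finset.pair_comm _ _
  have himg : ∀ (T : Finset (Fin k)), ((T.powersetCard 2).image g).card = T.card.choose 2 := by
    intro T
    rw [Finset.card_image_of_injOn, Finset.card_powersetCard]
    exact fun a ha b hb => hg a (Finset.powersetCard_mono (Finset.subset_univ T) ha) b
      (Finset.powersetCard_mono (Finset.subset_univ T) hb)
  refine ⟨?_, fun i j hij => ?_⟩
  · have e : Δ = ↑(((Finset.univ : Finset (Fin k)).powersetCard 2).image g) := by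
      rw [hΔ]
      ext v
      simp only [pairSet, Finset.coe_image, Set.mem_image, Finset.mem_coe,
        Finset.mem_powersetCard, Finset.card_eq_two, Set.mem_setOf_eq]
      constructor
      · rintro ⟨a, b, hab, rfl⟩
        exact ⟨{a, b}, ⟨Finset.subset_univ _, a, b, hab, rfl⟩, Finset.sum_pair hab⟩
      · rintro ⟨S, ⟨-, a, b, hab, rfl⟩, rfl⟩
        exact ⟨a, b, hab, Finset.sum_pair hab⟩
    rw [e, Set.ncard_coe_finset, himg, Finset.card_univ, Fintype.card_fin]
  · have e : {v ∈ Δ | v ≠ f i + f j ∧ B (f i + f j) v = 0} =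
        ↑(((Finset.univ \ {i, j} : Finset (Fin k)).powersetCard 2).image g) := by
      ext v
      simp only [Finset.coe_image, Set.mem_image, Finset.mem_coe, Finset.mem_powersetCard,
        Finset.card_eq_two, Set.mem_setOf_eq]
      constructor
      · rintro ⟨hv, hne, hB⟩
        obtain ⟨a, b, hab, rfl⟩ := (hΔ ▸ hv : v ∈ pairSet f)
        refine ⟨{a, b}, ⟨?_, a, b, hab, rfl⟩, Finset.sum_pair hab⟩
        rw [hf.gram] at hB
        have key : a ≠ i ∧ a ≠ j ∧ b ≠ i ∧ b ≠ j := by
          refine ⟨?_, ?_, ?_, ?_⟩ <;> intro e <;> subst e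
          · by_cases e2 : b = j
            · subst e2; exact hne rfl
            · simp [dl, hab, hij, Ne.symm hij, Ne.symm e2] at hB
          · by_cases e2 : b = i
            · subst e2; exact hne (add_comm _ _)
            · simp [dl, hab, hij, Ne.symm hij, Ne.symm e2] at hB
          · by_cases e2 : a = j
            · subst e2; exact hne (add_comm _ _)
            · simp [dl, Ne.symm hab, hij, Ne.symm hij, Ne.symm e2] at hB
          · by_cases e2 : a = i
            · subst e2; exact hne rfl
            · simp [dl, Ne.symm hab, hij, Ne.symm hij, Ne.symm e2] at hB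
        intro t ht
        simp only [Finset.mem_insert, Finset.mem_singleton] at ht
        simp only [Finset.mem_sdiff, Finset.mem_univ, true_and, Finset.mem_insert,
          Finset.mem_singleton, not_or]
        rcases ht with rfl | rfl
        · exact ⟨key.1, key.2.1⟩
        · exact ⟨key.2.2.1, key.2.2.2⟩
      · rintro ⟨S, ⟨hS, a, b, hab, rfl⟩, rfl⟩
        have ha := hS (Finset.mem_insert_self a _)
        have hb := hS (Finset.mem_insert_of_mem (Finset.mem_singleton_self b))
        simp only [Finset.mem_sdiff, Finset.mem_univ, true_and, Finset.mem_insert,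
          Finset.mem_singleton, not_or] at ha hb
        refine ⟨?_, ?_, ?_⟩
        · simp only [g, Finset.sum_pair hab]; exact hf.mem a b hab
        · simp only [g, Finset.sum_pair hab]
          intro e
          rcases hfi a b i j hab hij e with ⟨e1, -⟩ | ⟨e1, -⟩
          · exact ha.1 e1
          · exact ha.2 e1
        · simp only [g, Finset.sum_pair hab, hf.gram]
          simp [dl, Ne.symm ha.1, Ne.symm ha.2, Ne.symm hb.1, Ne.symm hb.2]
    rw [lam, e, Set.ncard_coe_finset, himg, Finset.card_sdiff_of_subset (Finset.subset_univ _),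
      Finset.card_univ, Fintype.card_fin, Finset.card_pair hij]

theorem sym_bound {k : ℕ} {f : Fin k → V} (hf : Frame B Δ k f) (hΔ : Δ = pairSet f)
    (hfi : ∀ i j p q, i ≠ j → p ≠ q → f i + f j = f p + f q → (i = p ∧ j = q) ∨ (i = q ∧ j = p))
    {x y : V} (hb : Blocked B Δ M x y) : M.ncard ≤ 3 := by
  classical
  obtain ⟨a, b, c, hab, hbc, hac, hx, hy⟩ : ∃ a b c, a ≠ b ∧ b ≠ c ∧ a ≠ c ∧
      x = f a + f b ∧ y = f b + f c := by
    obtain ⟨a, b, hab, rfl⟩ := (hΔ ▸ hb.left : x ∈ pairSet f)
    obtain ⟨p, q, hpq, rfl⟩ := (hΔ ▸ hb.right : y ∈ pairSet f)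
    have h1 := hb.pair
    rw [hf.gram] at h1
    by_cases c1 : b = p
    · subst c1
      exact ⟨a, b, q, hab, hpq, fun e => by subst e; simp [dl, hab, hpq, Ne.symm hab] at h1,
        rfl, rfl⟩
    · by_cases c2 : b = q
      · subst c2
        exact ⟨a, b, p, hab, Ne.symm hpq,
          fun e => by subst e; simp [dl, hab, hpq, Ne.symm hab, Ne.symm hpq] at h1, rfl,
          add_comm _ _⟩
      · by_cases c3 : a = p
        · subst c3
          exact ⟨b, a, q, Ne.symm hab, hpq, c2, add_comm _ _, rfl⟩
        · by_cases c4 : a = q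
          · subst c4
            exact ⟨b, a, p, Ne.symm hab, Ne.symm hpq, c1, add_comm _ _, add_comm _ _⟩
          · simp [dl, c1, c2, c3, c4] at h1
  -- an edge of `M` has exactly one end in the triangle
  have hedge : ∀ v ∈ M, ∃ s ∈ ({a, b, c} : Finset (Fin k)), ∃ t ∉ ({a, b, c} : Finset (Fin k)),
      v = f s + f t := by
    intro v hv
    obtain ⟨p, q, hpq, e⟩ := (hΔ ▸ hb.sub hv : v ∈ pairSet f)
    have hmiss := hb.miss v hv
    rw [e, hx, hy, hf.gram, hf.gram] at hmiss
    by_cases hp : p ∈ ({a, b, c} : Finset (Fin k))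
    · by_cases hq : q ∈ ({a, b, c} : Finset (Fin k))
      · exfalso
        have h1 := hb.notMem
        rw [hx, hy, show f a + f b + (f b + f c) = f a + f c by
          rw [add_assoc, ← add_assoc (f b), ZModModule.add_self, zero_add]] at h1
        simp only [Finset.mem_insert, Finset.mem_singleton] at hp hq
        rcases hp with rfl | rfl | rfl <;> rcases hq with rfl | rfl | rfl <;>
          first
          | exact hpq rfl
          | exact h1.1 (e ▸ hv)
          | exact h1.2.1 (e ▸ hv)
          | exact h1.2.2 (e ▸ hv)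
          | exact h1.1 ((e.trans (add_comm _ _)) ▸ hv)
          | exact h1.2.1 ((e.trans (add_comm _ _)) ▸ hv)
          | exact h1.2.2 ((e.trans (add_comm _ _)) ▸ hv)
      · exact ⟨p, hp, q, hq, e⟩
    · by_cases hq : q ∈ ({a, b, c} : Finset (Fin k))
      · exact ⟨q, hq, p, hp, e.trans (add_comm _ _)⟩
      · exfalso
        simp only [Finset.mem_insert, Finset.mem_singleton, not_or] at hp hq
        refine hmiss ⟨?_, ?_⟩ <;> simp [dl, hp, hq]
  have : Nonempty (Fin k) := ⟨a⟩
  choose! S hS T hT hST using hedge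
  have hinj : Set.InjOn S M := by
    intro v hv w hw e
    by_contra hne
    have hTne : T v ≠ T w := fun e' => hne (by rw [hST v hv, hST w hw, e, e'])
    have hsT : ∀ z ∈ M, S z ≠ T z := fun z hz e' => hT z hz (e' ▸ hS z hz)
    have hB : B v w = 1 := by
      conv_lhs => rw [hST v hv, hST w hw]
      have q1 : S w ≠ T v := e ▸ hsT v hv
      rw [hf.gram]
      simp [dl, hTne, e, hsT w hw, Ne.symm q1]
    have h1 := hb.closed v hv w hw hB
    have h2 : v + w = f (T v) + f (T w) := by
      conv_lhs => rw [hST v hv, hST w hw]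
      rw [e, add_add_add_comm, ZModModule.add_self, zero_add]
    have h3 := hb.miss _ h1
    refine h3 ?_
    have a1 := hT v hv
    have a2 := hT w hw
    simp only [Finset.mem_insert, Finset.mem_singleton, not_or] at a1 a2
    rw [h2, hx, hy, hf.gram, hf.gram]
    constructor <;> simp [dl, a1, a2]
  calc M.ncard ≤ ((({a, b, c} : Finset (Fin k))) : Set (Fin k)).ncard :=
        Set.ncard_le_ncard_of_injOn S (fun v hv => hS v hv) hinj (Set.toFinite _)
    _ ≤ 3 := by rw [Set.ncard_coe_finset]; exact Finset.card_le_three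

theorem half_orth (h : Cot B Δ) {a : V} (ha : a ∈ Δ) :
    {v : V | B a v = 0}.ncard * 2 = Nat.card V ∧
      ∀ w, B a w = 1 → (fun v => v + w) '' {v | B a v = 0} = {v | B a v = 1} := by
  have key : ∀ w, B a w = 1 → (fun v => v + w) '' {v | B a v = 0} = {v | B a v = 1} := by
    intro w hw
    ext v
    simp only [Set.mem_image, Set.mem_setOf_eq]
    constructor
    · rintro ⟨z, hz, rfl⟩; rw [map_add, hz, hw, zero_add]
    · intro hv
      exact ⟨v + w, by rw [map_add, hv, hw]; rfl,
        by rw [add_assoc, ZModModule.add_self, add_zero]⟩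
  refine ⟨?_, key⟩
  obtain ⟨w, hw⟩ : ∃ w, B a w = 1 := by
    by_contra hc
    push Not at hc
    exact h.ne_zero ha (h.nondeg a fun v => (zm _).resolve_right (hc v))
  have h1 := Set.ncard_add_ncard_compl {v : V | B a v = 0}
  have h2 : {v : V | B a v = 0}ᶜ = {v | B a v = 1} := by
    ext v
    simp only [Set.mem_compl_iff, Set.mem_setOf_eq]
    generalize B a v = t
    revert t; decide
  rw [h2, ← key w hw, Set.ncard_image_of_injective _ (add_left_injective w)] at h1
  omega

theorem sp_counts (h : Cot B Δ) (hΔ : Δ = {v | v ≠ 0}) {a : V} (ha : a ∈ Δ) :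
    Δ.ncard + 1 = Nat.card V ∧ (lam B Δ a + 2) * 2 = Nat.card V := by
  refine ⟨?_, ?_⟩
  · have h1 := Set.ncard_add_ncard_compl ({0} : Set V)
    rw [Set.ncard_singleton] at h1
    have h2 : Δ = ({0} : Set V)ᶜ := by rw [hΔ]; rfl
    rw [h2]; omega
  · have h1 := (half_orth h ha).1
    have h2 : {v : V | B a v = 0} =
        insert 0 (insert a {v ∈ Δ | v ≠ a ∧ B a v = 0}) := by
      ext v
      simp only [Set.mem_insert_iff, Set.mem_setOf_eq, hΔ]
      constructor
      · intro hv
        by_cases h0 : v = 0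
        · exact Or.inl h0
        · by_cases h3 : v = a
          · exact Or.inr (Or.inl h3)
          · exact Or.inr (Or.inr ⟨h0, h3, hv⟩)
      · rintro (rfl | rfl | ⟨-, -, hv⟩)
        · exact map_zero _
        · exact h.alt _
        · exact hv
    rw [h2, Set.ncard_insert_of_notMem (by
      simp only [Set.mem_insert_iff, Set.mem_setOf_eq, not_or, not_and]
      exact ⟨(h.ne_zero ha).symm, fun e => absurd e h.zero_notMem⟩),
      Set.ncard_insert_of_notMem (by simp)] at h1
    exact h1

theorem orth_lam (h : Cot B Δ) {Q : V → ZMod 2} (hQ : ∀ u v, Q (u + v) = Q u + Q v + B u v)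
    (hΔ : Δ = {v | Q v = 1}) {a : V} (ha : a ∈ Δ) : (lam B Δ a + 1) * 4 = Nat.card V := by
  have ha1 : Q a = 1 := by rw [hΔ] at ha; exact ha
  have h1 := (half_orth h ha).1
  have e : {v : V | B a v = 0} = {v | B a v = 0 ∧ Q v = 1} ∪ {v | B a v = 0 ∧ Q v = 0} := by
    ext v
    simp only [Set.mem_union, Set.mem_setOf_eq]
    generalize B a v = s
    generalize Q v = t
    revert s t; decide
  have e1 : (fun v => v + a) '' {v | B a v = 0 ∧ Q v = 1} = {v | B a v = 0 ∧ Q v = 0} := by
    ext v
    simp only [Set.mem_image, Set.mem_setOf_eq]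
    constructor
    · rintro ⟨z, ⟨hz, hz1⟩, rfl⟩
      rw [map_add, hz, h.alt, hQ, hz1, ha1, h.symm z a, hz]
      exact ⟨rfl, rfl⟩
    · rintro ⟨hv, hv0⟩
      refine ⟨v + a, ⟨?_, ?_⟩, by rw [add_assoc, ZModModule.add_self, add_zero]⟩
      · rw [map_add, hv, h.alt, add_zero]
      · rw [hQ, hv0, ha1, h.symm v a, hv]; rfl
  have hd : Disjoint {v | B a v = 0 ∧ Q v = 1} {v | B a v = 0 ∧ Q v = 0} := by
    rw [Set.disjoint_left]
    rintro v ⟨-, h2⟩ ⟨-, h3⟩
    rw [h2] at h3
    exact one_ne_zero h3
  rw [e, Set.ncard_union_eq hd (Set.toFinite _) (Set.toFinite _), ← e1,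
    Set.ncard_image_of_injective _ (add_left_injective a)] at h1
  have e2 : {v | B a v = 0 ∧ Q v = 1} = insert a {v ∈ Δ | v ≠ a ∧ B a v = 0} := by
    ext v
    simp only [Set.mem_insert_iff, Set.mem_setOf_eq, hΔ]
    constructor
    · rintro ⟨hv, hq⟩
      by_cases h3 : v = a
      · exact Or.inl h3
      · exact Or.inr ⟨hq, h3, hv⟩
    · rintro (rfl | ⟨hq, -, hv⟩)
      · exact ⟨h.alt _, ha1⟩
      · exact ⟨hv, hq⟩
  rw [e2, Set.ncard_insert_of_notMem (by simp)] at h1
  rw [lam]; omega

open QuadFormF2 in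
theorem orth_card (h : Cot B Δ) {Q : V → ZMod 2} (hQ : ∀ u v, Q (u + v) = Q u + Q v + B u v)
    (hΔ : Δ = {v | Q v = 1}) {m : ℕ} (hV : Nat.card V = 2 ^ (2 * m)) :
    2 * Δ.ncard + 2 ^ m = 2 ^ (2 * m) ∨ 2 * Δ.ncard = 2 ^ (2 * m) + 2 ^ m := by
  classical
  obtain ⟨m', ψ, hψ⟩ := FischerSymplecticMain88.exists_coords h
  have hm : m' = m := by
    have h1 : Nat.card V = 2 ^ (2 * m') := by
      rw [← Nat.card_congr ψ.toEquiv, Nat.card_eq_fintype_card]
      simp [two_mul]
    rw [hV] at h1
    have := Nat.pow_right_injective le_rfl h1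
    omega
  subst hm
  have hff : ∀ x y : QuadFormF2.V m', Cfsg.sympForm m' (ZMod 2) x y = QuadFormF2.f x y := by
    intro x y
    rw [SymplecticBasic.form_eq_sum, QuadFormF2.f]
    exact Finset.sum_congr rfl fun i _ => by simp [CharTwo.sub_eq_add, CharTwo.neg_eq, add_comm]
  obtain ⟨w, hw⟩ := exists_qw (fun x : QuadFormF2.V m' => Q (ψ x)) fun x y => by
    show Q (ψ (x + y)) = _
    rw [map_add, hQ, hψ, hff]
  have hk : Δ.ncard = (Finset.univ.filter fun x : QuadFormF2.V m' => qw w x = 1).card := by
    rw [← Set.ncard_coe_finset]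
    have : Δ = ψ '' ↑(Finset.univ.filter fun x : QuadFormF2.V m' => qw w x = 1) := by
      ext v
      simp only [Finset.coe_filter, Finset.mem_univ, true_and, Set.mem_image, Set.mem_setOf_eq,
        hΔ]
      constructor
      · intro hv
        exact ⟨ψ.symm v, by rw [← congrFun hw]; simpa using hv, ψ.apply_symm_apply v⟩
      · rintro ⟨x, hx, rfl⟩
        rw [← congrFun hw] at hx; exact hx
    rw [this, Set.ncard_image_of_injective _ ψ.injective]
  have hg := gauss_qw w
  have hsum : ∑ v : QuadFormF2.V m', chi (qw w v) =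
      ((Finset.univ : Finset (QuadFormF2.V m')).card : ℤ) -
        2 * (Finset.univ.filter fun x : QuadFormF2.V m' => qw w x = 1).card := by
    have : ∀ v : QuadFormF2.V m', chi (qw w v) = 1 - 2 * (if qw w v = 1 then 1 else 0) := by
      intro v
      rcases FischerSymplecticFrame88.zm (qw w v) with e | e <;> simp [chi, e]
    simp_rw [this, Finset.sum_sub_distrib, ← Finset.mul_sum, Finset.sum_boole]
    simp
  rw [hsum, Finset.card_univ, show Fintype.card (QuadFormF2.V m') = 2 ^ (2 * m') by
    simp [two_mul], ← hk] at hg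
  push_cast at hg
  unfold chi at hg
  have e1 : ((2 ^ (2 * m') : ℕ) : ℤ) = (2 : ℤ) ^ (2 * m') := by push_cast; rfl
  have e2 : ((2 ^ m' : ℕ) : ℤ) = (2 : ℤ) ^ m' := by push_cast; rfl
  split_ifs at hg <;> omega

/-- Impossible parameters. -/
theorem excluded (h : Cot B Δ) {x y a : V} (hb : Blocked B Δ M x y) (ha : a ∈ Δ) {r s : ℕ}
    (hl : ∀ b ∈ Δ, lam B Δ b = lam B Δ a)
    (hs : 1 ≤ s) (hk : Δ.ncard = M.ncard + r * s) (hlam : lam B Δ a + s = M.ncard + r)
    (hdvd : r + s ∣ Δ.ncard * (s - 1)) (hne : 1 ≤ M.ncard) (hl0 : 1 ≤ lam B Δ a) :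
    Δ.ncard = 36 ∧ lam B Δ a = 15 := by
  obtain ⟨t, rfl⟩ : ∃ t, s = t + 1 := ⟨s - 1, by omega⟩
  rw [Nat.add_sub_cancel] at hdvd
  have hrt : (r + 1) * t + lam B Δ a + 1 = Δ.ncard := by
    have : (r + 1) * t + lam B Δ a + 1 + M.ncard + r = M.ncard + r * (t + 1) + (lam B Δ a + (t + 1)) := by
      ring
    omega
  rcases dichotomy h ⟨x, hb.left⟩ with ⟨n, f, hn, hf, hΔ, hfi⟩ | ⟨z, hz⟩
  · obtain ⟨hcard, hlam'⟩ := sym_counts hn hf hΔ hfi
    have hmu := sym_bound hf hΔ hfi hb
    have h01 : (⟨0, by omega⟩ : Fin n) ≠ ⟨1, by omega⟩ := by simp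
    have hl2 : lam B Δ a = (n - 2).choose 2 := by
      have hmem : f ⟨0, by omega⟩ + f ⟨1, by omega⟩ ∈ Δ := by
        rw [hΔ]; exact ⟨_, _, h01, rfl⟩
      rw [← hl _ hmem]
      exact hlam' _ _ h01
    exfalso
    have hn5 : 5 ≤ n := by
      by_contra hc
      obtain rfl | rfl : n = 3 ∨ n = 4 := by omega
      · rw [show Nat.choose (3 - 2) 2 = 0 by decide] at hl2
        omega
      · have hr0 := sum_eq_zero_of_even h (f := f) (by
          intro v hv
          obtain ⟨p, q, hpq, rfl⟩ := (hΔ ▸ hv : v ∈ pairSet f)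
          rw [hf.gram, hf.gram]
          clear hv
          revert hpq; revert p q
          unfold dl; decide)
        have e : f 0 + f 1 = f 2 + f 3 := by
          rw [← add_zero (f 0 + f 1), ← ZModModule.add_self (f 2 + f 3), ← add_assoc, hr0, zero_add]
        rcases hfi 0 1 2 3 (by decide) (by decide) e with ⟨h5, -⟩ | ⟨h5, -⟩ <;>
          exact absurd h5 (by decide)
    rcases Nat.eq_zero_or_pos t with ht0 | htpos'
    · subst ht0
      obtain ⟨q, rfl⟩ : ∃ q, n = q + 2 := ⟨n - 2, by omega⟩
      rw [Nat.add_sub_cancel] at hl2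
      have c1 : (q + 2).choose 2 = q.choose 2 + (2 * q + 1) := by
        rw [show q + 2 = (q + 1) + 1 from rfl, Nat.choose_succ_succ (q + 1) 1,
          Nat.choose_succ_succ q 1]
        simp
        omega
      omega
    by_cases hn6 : n ≤ 6
    · obtain rfl | rfl : n = 5 ∨ n = 6 := by omega
      · rw [show Nat.choose 5 2 = 10 by decide] at hcard
        rw [show Nat.choose (5 - 2) 2 = 3 by decide] at hl2
        rw [hcard, hl2] at hrt
        rw [hl2] at hlam
        have h6 : (r + 1) * t = 6 := by omega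
        have ht6 : t ≤ 6 := h6 ▸ Nat.le_mul_of_pos_left _ (by omega)
        interval_cases t <;> omega
      · rw [show Nat.choose 6 2 = 15 by decide] at hcard
        rw [show Nat.choose (6 - 2) 2 = 6 by decide] at hl2
        rw [hcard, hl2] at hrt
        rw [hcard] at hdvd
        rw [hl2] at hlam
        have h6 : (r + 1) * t = 8 := by omega
        have ht8 : t ≤ 8 := h6 ▸ Nat.le_mul_of_pos_left _ (by omega)
        interval_cases t <;> first
          | omega
          | (obtain rfl : r = 7 := by omega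
             norm_num at hdvd)
    obtain ⟨q, rfl⟩ : ∃ q, n = q + 2 := ⟨n - 2, by omega⟩
    rw [Nat.add_sub_cancel] at hl2
    have c1 : (q + 2).choose 2 = q.choose 2 + (2 * q + 1) := by
      rw [show q + 2 = (q + 1) + 1 from rfl, Nat.choose_succ_succ (q + 1) 1,
        Nat.choose_succ_succ q 1]
      simp
      omega
    rcases Nat.eq_zero_or_pos t with rfl | htpos
    · simp at hrt
      omega
    by_cases hq5 : q = 5
    · subst hq5
      rw [hcard, show Nat.choose 7 2 = 21 from rfl] at hdvd hk hrt
      rw [show Nat.choose 5 2 = 10 from rfl] at hl2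
      have ht : t = 1 := by nlinarith
      subst ht
      obtain rfl : r = 9 := by omega
      omega
    · have hq6 : 6 ≤ q := by omega
      have c2 : 2 * q < q.choose 2 := by
        have : q.choose 2 * 2 = q * (q - 1) := by
          rw [Nat.choose_two_right, Nat.div_mul_cancel (Nat.even_mul_pred_self q).two_dvd]
        obtain ⟨j, rfl⟩ : ∃ j, q = j + 1 := ⟨q - 1, by omega⟩
        rw [Nat.add_sub_cancel] at this
        nlinarith
      have : r + 1 ≤ (r + 1) * t := Nat.le_mul_of_pos_right _ htpos
      omega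
  -- the orthogonal configurations
  obtain ⟨m, ψ, -⟩ := FischerSymplecticMain88.exists_coords h
  have hV : Nat.card V = 2 ^ (2 * m) := by
    rw [← Nat.card_congr ψ.toEquiv, Nat.card_eq_fintype_card]
    simp [two_mul]
  have h6 : 2 ^ 6 ≤ 2 ^ (2 * m) := by
    rw [← hV]
    have := Nat.card_le_card_of_injective _ (FischerSymplecticSplit88.phi_injective hz)
    rw [Nat.card_eq_fintype_card] at this
    simpa using this
  have hm : 3 ≤ m := by
    have := (Nat.pow_le_pow_iff_right (by norm_num)).1 h6
    omega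
  have hmu := bound_orth h hb hV
  set P := 2 ^ (m - 1) with hP
  have hP4 : 4 ≤ P := by
    calc 4 = 2 ^ 2 := rfl
      _ ≤ P := Nat.pow_le_pow_right (by norm_num) (by omega)
  have hV' : Nat.card V = 4 * (P * P) := by
    rw [hV, hP, ← pow_add, show (4 : ℕ) = 2 ^ 2 from rfl, ← pow_add]
    congr 1; omega
  rcases FischerSymplecticSplit88.main h hz with hΔ | ⟨Q, hQ, hΔ⟩
  · exfalso
    obtain ⟨hcard, hl2⟩ := sp_counts h hΔ ha
    rw [hV'] at hcard hl2
    have hPP : 4 * P ≤ P * P := Nat.mul_le_mul_right P hP4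
    rcases Nat.eq_zero_or_pos t with rfl | htpos
    · rw [mul_zero] at hrt; omega
    have hr : P * P < r + 1 := by omega
    have ht1 : t = 1 := by
      by_contra hne
      have := Nat.mul_le_mul_left (r + 1) (show 2 ≤ t by omega)
      omega
    subst ht1
    rw [mul_one] at hdvd
    have hr2 : r + 1 = 2 * (P * P) := by omega
    have hdvd2 : r + (1 + 1) ∣ 2 * (r + (1 + 1)) := dvd_mul_left _ _
    have e : 2 * (r + (1 + 1)) = Δ.ncard + 3 := by omega
    rw [e, ← Nat.dvd_add_iff_right hdvd] at hdvd2
    have := Nat.le_of_dvd (by norm_num) hdvd2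
    omega
  · have hl2 := orth_lam h hQ hΔ ha
    rw [hV'] at hl2
    have hl3 : lam B Δ a + 1 = P * P := by omega
    have hk2 := orth_card h hQ hΔ hV
    rw [← hV, hV', show 2 ^ m = 2 * P by rw [hP, ← pow_succ']; congr 1; omega] at hk2
    by_cases hm3 : m = 3
    · subst hm3
      have hP' : P = 4 := rfl
      rw [hP'] at hk2 hl3
      refine ⟨?_, by omega⟩
      have h36 : 36 ≤ Δ.ncard := by
        have hsub : FischerSymplecticSplit88.phi z '' {c | FischerSymplecticSplit88.q6 c = 1} ⊆ Δ := by
          rintro _ ⟨c, hc, rfl⟩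
          exact FischerSymplecticSplit88.phi_mem h hz c hc
        have h1 := Set.ncard_le_ncard hsub (Set.toFinite _)
        rw [Set.ncard_image_of_injective _ (FischerSymplecticSplit88.phi_injective hz),
          Set.ncard_eq_toFinset_card'] at h1
        refine le_trans ?_ h1
        decide +kernel
      omega
    exfalso
    have hP8 : 8 ≤ P := by
      calc 8 = 2 ^ 3 := rfl
        _ ≤ P := Nat.pow_le_pow_right (by norm_num) (by omega)
    have hPP : 8 * P ≤ P * P := Nat.mul_le_mul_right P hP8
    rcases Nat.eq_zero_or_pos t with rfl | htpos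
    · rw [mul_zero] at hrt
      rcases hk2 with h1 | h1 <;> omega
    have ht1 : t = 1 := by
      by_contra hne
      have := Nat.mul_le_mul_left (r + 1) (show 2 ≤ t by omega)
      rcases hk2 with h1 | h1 <;> omega
    subst ht1
    rw [mul_one] at hdvd
    rcases hk2 with h1 | h1
    · have hr2 : r + 1 + P = P * P := by omega
      have hdvd2 : r + (1 + 1) ∣ 2 * (r + (1 + 1)) := dvd_mul_left _ _
      have e : Δ.ncard = 2 * (r + (1 + 1)) + (P - 2) := by omega
      rw [e, ← Nat.dvd_add_iff_right hdvd2] at hdvd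
      have h2 := Nat.le_of_dvd (by omega) hdvd
      omega
    · omega

end Cfsg.Agent.FischerLocalCount88
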