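import Cfsg.Agent.Lib.FischerLocalSymp88

/-!
The symmetric, symplectic and orthogonal transposition classes have no affine planes, and neither
has a local class with such a quotient.
-/

set_option autoImplicit false

namespace Cfsg.Agent.FischerLocalPlanes88

open ThreeTransDescent
open ThreeTransRel (TSys tsys_of_group)
open FischerSymplecticFrame88

/-- No affine plane in a set of transpositions. -/
def NoPlanes {K : Type*} [Group K] (C : Set K) : Prop :=
  ∀ a ∈ C, ∀ b ∈ C, ∀ w ∈ C, ¬ Commute a b →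
    Commute w a ∨ Commute w b ∨ Commute w (a * b * a⁻¹)

theorem noPlanes_swaps (n : ℕ) : NoPlanes {σ : Equiv.Perm (Fin n) | σ.IsSwap} := by
  classical
  have hcomm : ∀ i j p q : Fin n, i ≠ j → p ≠ q →
      (Commute (Equiv.swap i j) (Equiv.swap p q) ↔ dl i p + dl i q + dl j p + dl j q = 0) := by
    intro i j p q hij hpq
    have hconj := Equiv.swap_apply_apply (Equiv.swap i j) p q
    have hiff : Commute (Equiv.swap i j) (Equiv.swap p q) ↔
        Equiv.swap (Equiv.swap i j p) (Equiv.swap i j q) = Equiv.swap p q := by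
      rw [hconj, mul_inv_eq_iff_eq_mul]
      exact Iff.rfl
    rw [hiff]
    by_cases a : p = i
    · subst a
      have hqp : q ≠ p := Ne.symm hpq
      by_cases b : q = j
      · subst b
        simp [dl, hpq, hqp, Equiv.swap_comm q p]; rfl
      · rw [Equiv.swap_apply_left, Equiv.swap_apply_of_ne_of_ne hqp b]
        refine iff_of_false (fun e => ?_) ?_
        · have h1 := congrArg (fun s : Equiv.Perm (Fin n) => s p) e
          simp only [Equiv.swap_apply_left, Equiv.swap_apply_of_ne_of_ne hij hpq] at h1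
          exact hpq h1
        · simp [dl, hij, hpq, Ne.symm hij, Ne.symm b]
    · by_cases b : p = j
      · subst b
        have hqp : q ≠ p := Ne.symm hpq
        by_cases c : q = i
        · subst c
          simp [dl, hpq, hqp, Equiv.swap_comm q p]; rfl
        · rw [Equiv.swap_apply_right, Equiv.swap_apply_of_ne_of_ne c hqp]
          refine iff_of_false (fun e => ?_) ?_
          · have h1 := congrArg (fun s : Equiv.Perm (Fin n) => s p) e
            simp only [Equiv.swap_apply_left, Equiv.swap_apply_of_ne_of_ne a hpq] at h1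
            exact hpq h1
          · simp [dl, hij, hpq, Ne.symm hij, Ne.symm c]
      · rw [Equiv.swap_apply_of_ne_of_ne a b]
        by_cases c : q = i
        · subst c
          rw [Equiv.swap_apply_left]
          refine iff_of_false (fun e => ?_) ?_
          · have h1 := congrArg (fun s : Equiv.Perm (Fin n) => s p) e
            simp only [Equiv.swap_apply_left] at h1
            exact hij h1.symm
          · simp [dl, hij, hpq, Ne.symm hij, Ne.symm hpq, Ne.symm b]
        · by_cases d : q = j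
          · subst d
            rw [Equiv.swap_apply_right]
            refine iff_of_false (fun e => ?_) ?_
            · have h1 := congrArg (fun s : Equiv.Perm (Fin n) => s p) e
              simp only [Equiv.swap_apply_left] at h1
              exact hij h1
            · simp [dl, hij, hpq, Ne.symm hij, Ne.symm hpq, Ne.symm a]
          · rw [Equiv.swap_apply_of_ne_of_ne c d]
            simp [dl, Ne.symm a, Ne.symm b, Ne.symm c, Ne.symm d]
  rintro a ⟨i, j, hij, rfl⟩ b ⟨p, q, hpq, rfl⟩ w ⟨s, t, hst, rfl⟩ hab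
  rw [← Equiv.swap_apply_apply]
  have hne : Equiv.swap i j p ≠ Equiv.swap i j q := fun e => hpq ((Equiv.swap i j).injective e)
  rw [hcomm s t i j hst hij, hcomm s t p q hst hpq, hcomm s t _ _ hst hne]
  rw [hcomm i j p q hij hpq] at hab
  have key : ∀ r : Fin n, ∀ x, dl r (Equiv.swap i j x) =
      dl r x + (dl x i + dl x j) * (dl r i + dl r j) := by
    intro r x
    by_cases a : x = i
    · subst a
      simp [dl, hij]
      by_cases b : r = x <;> by_cases c : r = j <;> simp_all <;> rfl
    · by_cases b : x = j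
      · subst b
        simp [dl, a]
        by_cases b : r = x <;> by_cases c : r = i <;> simp_all <;> rfl
      · simp [dl, a, b, Equiv.swap_apply_of_ne_of_ne a b]
  rw [key, key, key, key]
  rw [FischerSymplecticFrame88.dl_comm p i, FischerSymplecticFrame88.dl_comm p j,
    FischerSymplecticFrame88.dl_comm q i, FischerSymplecticFrame88.dl_comm q j]
  revert hab
  generalize dl i p = a₁
  generalize dl i q = a₂
  generalize dl j p = a₃
  generalize dl j q = a₄
  generalize dl s i = b₁
  generalize dl s j = b₂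
  generalize dl t i = b₃
  generalize dl t j = b₄
  generalize dl s p = c₁
  generalize dl s q = c₂
  generalize dl t p = c₃
  generalize dl t q = c₄
  intro hab
  rcases FischerSymplecticFrame88.zm (b₁ + b₂ + b₃ + b₄) with u | u
  · exact Or.inl u
  rcases FischerSymplecticFrame88.zm (c₁ + c₂ + c₃ + c₄) with v | v
  · exact Or.inr (Or.inl v)
  refine Or.inr (Or.inr ?_)
  have hA := (FischerSymplecticFrame88.zm (a₁ + a₂ + a₃ + a₄)).resolve_left hab
  calc c₁ + (a₁ + a₃) * (b₁ + b₂) + (c₂ + (a₂ + a₄) * (b₁ + b₂)) +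
        (c₃ + (a₁ + a₃) * (b₃ + b₄)) + (c₄ + (a₂ + a₄) * (b₃ + b₄)) =
      (c₁ + c₂ + c₃ + c₄) + (a₁ + a₂ + a₃ + a₄) * (b₁ + b₂ + b₃ + b₄) := by ring
    _ = 0 := by rw [v, hA, u]; rfl

theorem noPlanes_symplectic (m : ℕ) :
    NoPlanes {g : Matrix.symplecticGroup (Fin m) (ZMod 2) |
      ((g : Matrix (Fin m ⊕ Fin m) (Fin m ⊕ Fin m) (ZMod 2)) - 1).rank = 1} := by
  have hex : ∀ g : Matrix.symplecticGroup (Fin m) (ZMod 2),
      ((g : Matrix (Fin m ⊕ Fin m) (Fin m ⊕ Fin m) (ZMod 2)) - 1).rank = 1 →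
        ∃ v, v ≠ 0 ∧ g = SymplecticBasic.transv v 1 := by
    intro g hg
    obtain ⟨v, c, hv, hc, rfl⟩ := SymplecticTransv.exists_transv_of_rank hg
    exact ⟨v, hv, by rw [(zm c).resolve_left hc]⟩
  intro a ha b hb w hw hab
  obtain ⟨u, hu, rfl⟩ := hex a ha
  obtain ⟨v, hv, rfl⟩ := hex b hb
  obtain ⟨z, hz, rfl⟩ := hex w hw
  rw [FischerLocalSymp88.commute_transv hu hv] at hab
  have e := (zm _).resolve_left hab
  rw [SymplecticBasic.transv_conj, SymplecticBasic.transv_smul, one_mul, e, one_smul,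
    FischerLocalSymp88.commute_transv hz hu, FischerLocalSymp88.commute_transv hz hv,
    FischerLocalSymp88.commute_transv hz (fun h => by
      have : v = u := by rw [← add_zero v, ← ZModModule.add_self u, ← add_assoc, h, zero_add]
      rw [this, SymplecticBasic.form_self] at e
      exact zero_ne_one e),
    SymplecticBasic.form_add_left]
  generalize Cfsg.sympForm m (ZMod 2) u z = s
  generalize Cfsg.sympForm m (ZMod 2) v z = t
  revert s t; decide

open OrthUnitaryPrelude OrthUnitaryQuad OrthUnitaryRefl OrthUnitaryTranspositions in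
theorem noPlanes_orth {ι : Type} [Fintype ι] [DecidableEq ι] (f : (ι → ZMod 2) → ZMod 2)
    (P : QuadraticForm (ZMod 2) (ι → ZMod 2)) (hf : ∀ v, f v = P v)
    (hP : (QuadraticMap.polarBilin P).Nondegenerate) :
    NoPlanes {g : ↥(Cfsg.isometryGroup (ZMod 2) f) |
      (((g : Matrix.GeneralLinearGroup ι (ZMod 2)) : Matrix ι ι (ZMod 2)) - 1).rank = 1} := by
  obtain rfl : f = ⇑P := funext hf
  have hrefl : ∀ u v (hu : P u ≠ 0) (hv : P v ≠ 0), refl P u hu = refl P v hv → u = v := by
    intro u v hu hv e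
    have hu0 : u ≠ 0 := fun e0 => hu (by rw [e0, QuadraticMap.map_zero])
    obtain ⟨x, hx⟩ : ∃ x, QuadraticMap.polar P u x ≠ 0 := by
      by_contra hc
      push Not at hc
      exact hu0 (hP.1 u hc)
    have h1 := congrArg (fun t : orth P => t.1 x) e
    simp only [refl_apply_two, add_right_inj, (zm _).resolve_left hx, one_smul] at h1
    rcases zm (QuadraticMap.polar P v x) with h2 | h2 <;> rw [h2] at h1
    · rw [zero_smul] at h1; exact absurd h1 hu0
    · rwa [one_smul] at h1
  have hcomm : ∀ u v (hu : P u ≠ 0) (hv : P v ≠ 0),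
      (Commute (refl P u hu) (refl P v hv) ↔ QuadraticMap.polar P u v = 0) := by
    intro u v hu hv
    have h1 := conj_refl (refl P u hu) v hv
    constructor
    · intro h
      rw [h.eq, mul_inv_cancel_right] at h1
      have h2 := hrefl _ _ _ _ h1
      rw [refl_apply_two, left_eq_add, smul_eq_zero] at h2
      exact h2.resolve_right fun e0 => hu (by rw [e0, QuadraticMap.map_zero])
    · intro h
      have e : (refl P u hu).1 v = v := by rw [refl_apply_two, h, zero_smul, add_zero]
      rw [refl_congr _ hv e, mul_inv_eq_iff_eq_mul] at h1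
      exact h1
  have hgc : ∀ g k : ↥(Cfsg.isometryGroup (ZMod 2) ⇑P), Commute g k ↔ Commute (iso P g) (iso P k) :=
    fun g k => ⟨fun h => h.map _, fun h => by simpa using h.map (iso P).symm⟩
  intro a ha b hb w hw hab
  obtain ⟨u, hu, ea⟩ := (rank_one_iff hP a).1 ha
  obtain ⟨v, hv, eb⟩ := (rank_one_iff hP b).1 hb
  obtain ⟨z, hz, ew⟩ := (rank_one_iff hP w).1 hw
  rw [hgc, ea, eb, hcomm] at hab
  rw [hgc, hgc, hgc w (a * b * a⁻¹), map_mul, map_mul, map_inv, ea, eb, ew, conj_refl, hcomm,
    hcomm, hcomm, refl_apply_two, QuadraticMap.polar_add_right, QuadraticMap.polar_smul_right,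
    (zm _).resolve_left hab, one_smul]
  generalize QuadraticMap.polar P z u = s
  generalize QuadraticMap.polar P z v = t
  revert s t; decide

theorem noPlanes_plus (m : ℕ) :
    NoPlanes {g : ↥(Cfsg.isometryGroup (ZMod 2) (Cfsg.quadFormPlus m (ZMod 2))) |
      (((g : GL (Fin m ⊕ Fin m) (ZMod 2)) : Matrix (Fin m ⊕ Fin m) (Fin m ⊕ Fin m) (ZMod 2)) - 1).rank = 1} :=
  noPlanes_orth (Cfsg.quadFormPlus m (ZMod 2)) _
    (OrthUnitaryStd.comp_symm_apply _ _ (OrthUnitaryForms.eqPlus m) (OrthUnitaryForms.eqPlus_isometry m))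
    (OrthUnitaryStd.nondegenerate_congr (OrthUnitaryForms.eqPlus m) (fun x => by simp)
      (OrthUnitaryStd.nondegenerate_withBase OrthUnitaryStd.nondegenerate_qfNil m))

theorem noPlanes_minus (m : ℕ) :
    NoPlanes {g : ↥(Cfsg.isometryGroup (ZMod 2) (Cfsg.quadFormMinus m (ZMod 2) 1 1)) |
      (((g : GL ((Fin m ⊕ Fin m) ⊕ Fin 2) (ZMod 2)) :
        Matrix ((Fin m ⊕ Fin m) ⊕ Fin 2) ((Fin m ⊕ Fin m) ⊕ Fin 2) (ZMod 2)) - 1).rank = 1} :=
  noPlanes_orth (Cfsg.quadFormMinus m (ZMod 2) (1 : ZMod 2) 1) _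
    (OrthUnitaryStd.comp_symm_apply _ (Cfsg.quadFormMinus m (ZMod 2) (1 : ZMod 2) 1)
      (OrthUnitaryForms.eqMinus m) (OrthUnitaryForms.eqMinus_isometry (F := ZMod 2) m 1 1))
    (OrthUnitaryStd.nondegenerate_congr (OrthUnitaryForms.eqMinus m) (fun x => by simp)
      (OrthUnitaryStd.nondegenerate_withBase (OrthUnitaryStd.nondegenerate_qfBin
        (show OrthUnitaryForms.IsAniso (1 : ZMod 2) 1 by
          unfold OrthUnitaryForms.IsAniso; decide)) m))

variable {G : Type*} [Group G] [Finite G] {D : Set G}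

/-- Pulling back to the members near `d`. -/
theorem hloc_of_equiv (hD : Cfsg.IsThreeTranspositionGroup D) {d : G} {K : Type*} [Group K]
    {C : Set K} (hC : NoPlanes C)
    (e : ↥(loc D d) ⧸ Subgroup.center ↥(loc D d) ≃* K) (he : e '' imgSet D d = C) :
    ∀ a ∈ near D d, ∀ b ∈ near D d, ∀ w ∈ near D d, ¬ Commute a b →
      Commute w a ∨ Commute w b ∨ Commute w (a * b * a⁻¹) := by
  have ht := tsys_of_group hD
  intro a ha b hb w hw hab
  let im' : ∀ x, x ∈ near D d → K := fun x hx =>
    e (QuotientGroup.mk (⟨x, near_le_loc hx⟩ : ↥(loc D d)))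
  have hin : ∀ x (hx : x ∈ near D d), im' x hx ∈ C := fun x hx =>
    he ▸ ⟨_, ⟨_, hx, rfl⟩, rfl⟩
  have hrefl : ∀ x (hx : x ∈ near D d) y (hy : y ∈ near D d),
      Commute (im' x hx) (im' y hy) → Commute x y := fun x hx y hy h =>
    ThreeTransM23Parity34.img_refl ht (p := ⟨x, near_le_loc hx⟩) (q := ⟨y, near_le_loc hy⟩) hx hy
      (by simpa [im'] using h.map e.symm)
  have h3 : a * b * a⁻¹ ∈ near D d := near_conj ht ha.2.2.symm hb
  have e3 : im' (a * b * a⁻¹) h3 = im' a ha * im' b hb * (im' a ha)⁻¹ := by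
    simp only [im', ← map_mul, ← map_inv, ← QuotientGroup.mk_mul, ← QuotientGroup.mk_inv]
    rfl
  rcases hC _ (hin a ha) _ (hin b hb) _ (hin w hw) (fun h => hab (hrefl a ha b hb h)) with h | h | h
  · exact Or.inl (hrefl w hw a ha h)
  · exact Or.inr (Or.inl (hrefl w hw b hb h))
  · exact Or.inr (Or.inr (hrefl w hw _ h3 (e3 ▸ h)))

end Cfsg.Agent.FischerLocalPlanes88
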