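import Cfsg.Agent.Lib.ThreeTransM22Cent72
import Cfsg.Agent.S5349

/-!
# Parity of the classes of types M(22) and M(23)

A class of type M(22) has evenly many members and a primitive class of type M(23) oddly many, so in
type M(23) every involution centralizes a member.
-/

set_option autoImplicit false
set_option linter.unusedSectionVars false
set_option linter.style.haveILetI false

namespace Cfsg.Agent.ThreeTransM23Parity34

open Subgroup Cfsg.Agent.ThreeTransRel Cfsg.Agent.ThreeTransDescent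
open Cfsg.Agent.ThreeTransM22Count72

variable {G : Type*} [Group G] [Finite G] {D : Set G}

/-- The members not commuting with an involution fall into pairs. -/
theorem even_noncomm {S : Set G} {x : G} (hx : x * x = 1) (hinv : ∀ y ∈ S, cg x y ∈ S) :
    2 ∣ {y | y ∈ S ∧ ¬ Commute x y}.ncard := by
  refine dvd_of_partition 2 (fun y => {y, cg x y}) fun y hy => ⟨by simp, ?_, ?_, ?_⟩
  · exact Set.insert_subset hy (Set.singleton_subset_iff.mpr
      ⟨hinv y hy.1, fun h => hy.2 ((commute_cg (Commute.refl x)).mp h)⟩)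
  · rw [Set.ncard_pair fun h => hy.2 (cg_eq.mp h.symm).symm]
  · intro b hb
    rcases hb with rfl | rfl
    · rfl
    · rw [cg_cg hx]; exact Set.pair_comm _ _

theorem ncard_commute_add {S : Set G} {x : G} :
    S.ncard = {y | y ∈ S ∧ Commute x y}.ncard + {y | y ∈ S ∧ ¬ Commute x y}.ncard := by
  rw [← Set.ncard_union_eq (Set.disjoint_left.mpr fun y h1 h2 => h2.2 h1.2)]
  congr 1
  ext y
  simp only [Set.mem_union, Set.mem_setOf_eq]
  tauto

/-- A set invariant under one of its involutions. -/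
theorem ncard_split {S : Set G} {s : G} (hs : s ∈ S) (hss : s * s = 1)
    (hinv : ∀ y ∈ S, cg s y ∈ S) :
    ∃ k, S.ncard = {y | y ∈ S ∧ y ≠ s ∧ Commute s y}.ncard + 2 * k + 1 := by
  obtain ⟨k, hk⟩ := even_noncomm hss hinv
  have e : {y | y ∈ S ∧ Commute s y} = insert s {y | y ∈ S ∧ y ≠ s ∧ Commute s y} := by
    ext y
    simp only [Set.mem_setOf_eq, Set.mem_insert_iff]
    refine ⟨fun h => (em (y = s)).imp id fun h' => ⟨h.1, h', h.2⟩, ?_⟩
    rintro (rfl | h)
    · exact ⟨hs, Commute.refl _⟩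
    · exact ⟨h.1, h.2.2⟩
  refine ⟨k, ?_⟩
  rw [ncard_commute_add (x := s), hk, e, Set.ncard_insert_of_notMem (by simp)]
  omega

/-- Commutation of two members near `d` is seen in the local quotient. -/
theorem img_refl (ht : TSys D) {d : G} {p q : ↥(loc D d)} (hp : (p : G) ∈ near D d)
    (hq : (q : G) ∈ near D d)
    (hpq : Commute (QuotientGroup.mk p : ↥(loc D d) ⧸ Subgroup.center ↥(loc D d))
      (QuotientGroup.mk q)) : Commute (p : G) (q : G) := by
  by_contra hn
  set π := QuotientGroup.mk' (Subgroup.center ↥(loc D d)) with hπ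
  replace hpq : Commute (π p) (π q) := hpq
  have e1 : π (p * q * p) = π q := by
    rw [map_mul, map_mul, hpq.eq, mul_assoc, ← map_mul π p p,
      show p * p = 1 from Subtype.ext (ht.sq _ hp.1), map_one, mul_one]
  rw [show p * q * p = q * p * q from Subtype.ext (ht.braid _ hp.1 _ hq.1 hn), map_mul] at e1
  have e2 : π (q * p) = 1 := mul_eq_right.mp e1
  have e3 := (mk_eq_one_iff _).mp e2 p hp
  apply hn
  have e4 : (p : G) * ((q : G) * p) * (p : G)⁻¹ = (q : G) * p := mul_inv_eq_iff_eq_mul.mpr e3.eq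
  show (p : G) * q = q * p
  rw [← e4]; group

/-- Without trivial images the members near `d` map injectively. -/
theorem img_inj (ht : TSys D) {d : G} (hno : ∀ p ∈ near D d, ¬ ∀ y ∈ near D d, Commute y p)
    {p q : ↥(loc D d)} (hp : (p : G) ∈ near D d) (hq : (q : G) ∈ near D d)
    (hpq : (QuotientGroup.mk p : ↥(loc D d) ⧸ Subgroup.center ↥(loc D d)) = QuotientGroup.mk q) :
    p = q := by
  by_contra hne
  exact hno _ hp (fibre ht hp hq (fun h => hne (Subtype.ext h))
    (img_refl ht hp hq (by rw [hpq])) hpq)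

theorem ncard_img (ht : TSys D) {d : G} (hno : ∀ p ∈ near D d, ¬ ∀ y ∈ near D d, Commute y p) :
    (imgSet D d).ncard = (near D d).ncard := by
  refine (Set.ncard_congr (s := near D d) (t := imgSet D d)
    (fun y hy => QuotientGroup.mk (⟨y, near_le_loc hy⟩ : ↥(loc D d)))
    (fun y hy => ⟨⟨y, near_le_loc hy⟩, hy, rfl⟩) (fun a b ha hb h =>
      congrArg Subtype.val (img_inj ht hno (p := ⟨a, near_le_loc ha⟩) (q := ⟨b, near_le_loc hb⟩)
        ha hb h)) ?_).symm
  rintro _ ⟨x, hx, rfl⟩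
  exact ⟨x, hx, rfl⟩

theorem class_of_types {E : Set G} (ht : TSys E) (h1 : ∀ y ∈ E, y ≠ 1) {d : G} (hd : d ∈ E)
    (hall : ∀ y ∈ E, IsConj d y) : Cfsg.IsThreeTranspositionClass E := by
  refine ⟨⟨fun x hx => orderOf_eq_prime (by rw [pow_two]; exact ht.sq x hx) (h1 x hx), ?_⟩,
    ⟨d, hd, Set.ext fun y => ⟨fun hy => hall y hy, fun hy => ?_⟩⟩, ht.gen⟩
  · intro x hx y hy
    by_cases hxy : Commute x y
    · left; rw [hxy.mul_pow, pow_two, pow_two, ht.sq x hx, ht.sq y hy, one_mul]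
    · right
      calc (x * y) ^ 3 = (x * y * x) * (y * x * y) := by simp [pow_succ, mul_assoc]
        _ = (x * y * x) * (x * y * x) := by rw [ht.braid x hx y hy hxy]
        _ = x * y * (x * x) * y * x := by group
        _ = 1 := by rw [ht.sq x hx, mul_one, mul_assoc x y y, ht.sq y hy, mul_one, ht.sq x hx]
  · obtain ⟨g, rfl⟩ := isConj_iff.mp (show IsConj d y from hy)
    exact ht.conj g d hd

/-- A twin pair makes the class even. -/
theorem even_of_twin {E : Set G} (hcl : Cfsg.IsThreeTranspositionClass E) {d p : G} (hd : d ∈ E)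
    (hp : p ∈ E) (hne : p ≠ d) (htw : ∀ e ∈ E, Commute p e ↔ Commute d e) : 2 ∣ E.ncard := by
  classical
  have hconj := ThreeTrans.conjInv hcl
  set V : G → Set G := fun a => {v | v ∈ E ∧ ∀ e ∈ E, Commute v e ↔ Commute a e} with hV
  have hV' := (S5349.result hcl ⟨d, hd, p, hp, hne.symm⟩ hd).2
  have heven : 2 ∣ (V d).ncard := by
    haveI : Fact (Nat.Prime 2) := ⟨Nat.prime_two⟩
    set P := (Cfsg.pCore 2 G).map (ConjAct.toConjAct : G ≃* ConjAct G).toMonoidHom
    have hP : IsPGroup 2 P := (HallCore.isPGroup_pCore 2 G).map _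
    have horb : MulAction.orbit P d = V d := by
      rw [show V d = {v : G | ∃ g ∈ Cfsg.pCore 2 G, v = g * d * g⁻¹} from hV']
      ext v
      constructor
      · rintro ⟨⟨q, g, hg, rfl⟩, rfl⟩
        exact ⟨g, hg, ConjAct.toConjAct_smul g d⟩
      · rintro ⟨g, hg, rfl⟩
        exact ⟨⟨_, g, hg, rfl⟩, ConjAct.toConjAct_smul g d⟩
    obtain ⟨n, hn⟩ := hP.card_orbit d
    rw [Nat.card_coe_set_eq, horb] at hn
    have h2 : ({d, p} : Set G).ncard ≤ (V d).ncard := Set.ncard_le_ncard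
      (Set.insert_subset ⟨hd, fun _ _ => Iff.rfl⟩ (Set.singleton_subset_iff.mpr ⟨hp, htw⟩))
      (Set.toFinite _)
    rw [Set.ncard_pair hne.symm, hn] at h2
    rw [hn]
    rcases n with _ | n
    · simp at h2
    · exact ⟨2 ^ n, by ring⟩
  refine dvd_of_partition 2 V fun a ha => ⟨⟨ha, fun _ _ => Iff.rfl⟩, fun v hv => hv.1, ?_,
    fun b hb => Set.ext fun v => ⟨fun h => ⟨h.1, fun e he => (h.2 e he).trans (hb.2 e he)⟩,
      fun h => ⟨h.1, fun e he => (h.2 e he).trans (hb.2 e he).symm⟩⟩⟩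
  obtain ⟨d₀, -, hE⟩ := hcl.2.1
  obtain ⟨g, hg⟩ := isConj_iff.mp
    ((show IsConj d₀ d from Set.ext_iff.mp hE d |>.mp hd).symm.trans
      (show IsConj d₀ a from Set.ext_iff.mp hE a |>.mp ha))
  have himg : (fun v => g * v * g⁻¹) '' V d = V a := by
    ext w
    constructor
    · rintro ⟨v, hv, rfl⟩
      have := ThreeTrans.SameV.conj hconj (show ThreeTrans.SameV E d v from hv) g
      rw [hg] at this
      exact this
    · intro hw
      have := ThreeTrans.SameV.conj hconj (show ThreeTrans.SameV E a w from hw) g⁻¹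
      rw [← hg, show g⁻¹ * (g * d * g⁻¹) * g⁻¹⁻¹ = d by group] at this
      exact ⟨g⁻¹ * w * g⁻¹⁻¹, this, by group⟩
  rw [← himg, Set.ncard_image_of_injective _ fun x y h => mul_left_cancel (mul_right_cancel h)]
  exact heven

/-- Type M(22): evenly many members, some member near another. -/
theorem m22_even {X : Type*} [Group X] [Finite X] {E : Set X} (ht : TSys E)
    (h1 : ∀ y ∈ E, y ≠ 1) (h22 : Cfsg.IsOfTypeM22 X E) :
    2 ∣ E.ncard ∧ Cfsg.IsThreeTranspositionClass E ∧
      ∃ d ∈ E, ∃ a ∈ near E d, ∃ b ∈ near E d, ¬ Commute a b := by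
  classical
  obtain ⟨hZ, d, hd, c, hc, hdc, ⟨F, _, _, hF, ⟨iso⟩⟩, c₃, hc₃, hL⟩ := h22
  haveI : UnitaryF4Geo.FourField F := ⟨hF⟩
  have hU := ThreeTransPairs.psu6Simple F hF
  have hH : ThreeTransTypes.NASimple (↥(loc E d) ⧸ Subgroup.center ↥(loc E d)) := hU.congr iso.symm
  have hall := fun y hy => ThreeTransTypes.one_class ht hZ hd hc hdc hH hc₃ hL y hy (h1 y hy)
  have hcl := class_of_types ht h1 hd hall
  have hpair : ∃ a ∈ near E d, ∃ b ∈ near E d, ¬ Commute a b := by
    by_contra hno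
    push Not at hno
    obtain ⟨-, x, y, hxy⟩ := hH
    obtain ⟨x, rfl⟩ := QuotientGroup.mk'_surjective _ x
    obtain ⟨y, rfl⟩ := QuotientGroup.mk'_surjective _ y
    have : (QuotientGroup.mk' (Subgroup.center ↥(loc E d))) x = 1 := by
      refine (mk_eq_one_iff x).mpr fun z hz => ?_
      have hle : loc E d ≤ Subgroup.centralizer ({z} : Set X) := (closure_le _).mpr fun w hw =>
        mem_centralizer_singleton_iff.mpr (hno w hw z hz).eq
      exact (mem_centralizer_singleton_iff.mp (hle x.2) : (x : X) * z = z * x).symm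
    exact hxy (by rw [this]; exact Commute.one_left _)
  refine ⟨?_, hcl, d, hd, hpair⟩
  by_cases hex : ∃ p ∈ near E d, ∀ y ∈ near E d, Commute y p
  · obtain ⟨p, hp, hpc⟩ := hex
    set A : X → Set X := fun x => {y | y ∈ E ∧ Commute x y}
    have hsub : A d ⊆ A p := by
      intro y hy
      refine ⟨hy.1, ?_⟩
      by_cases e : y = d
      · exact e ▸ hp.2.2.symm
      · exact (hpc y ⟨hy.1, e, hy.2⟩).symm
    have hcard : (A p).ncard ≤ (A d).ncard := by
      obtain ⟨k, hk⟩ := isConj_iff.mp (hall p hp.1).symm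
      refine Set.ncard_le_ncard_of_injOn (fun y => k * y * k⁻¹) ?_
        (fun x _ y _ e => mul_left_cancel (mul_right_cancel e)) (Set.toFinite _)
      intro y hy
      refine ⟨ht.conj k y hy.1, ?_⟩
      have := (Commute.conj_iff k).mpr hy.2
      rwa [hk] at this
    have heq : A d = A p := Set.eq_of_subset_of_ncard_le hsub hcard (Set.toFinite _)
    exact even_of_twin hcl hd hp.1 hp.2.1 fun u hu =>
      ⟨fun e => ((Set.ext_iff.mp heq u).mpr ⟨hu, e⟩).2,
        fun e => ((Set.ext_iff.mp heq u).mp ⟨hu, e⟩).2⟩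
  push Not at hex
  have hno : ∀ p ∈ near E d, ¬ ∀ y ∈ near E d, Commute y p := fun p hp h => by
    obtain ⟨y, hy, hy'⟩ := hex p hp; exact hy' (h y hy)
  set π := QuotientGroup.mk' (Subgroup.center ↥(loc E d)) with hπ
  set φ : ↥(loc E d) →* Cfsg.PSU 6 F 2 := iso.toMonoidHom.comp π with hφ
  have hsurj : Function.Surjective φ := iso.surjective.comp (QuotientGroup.mk'_surjective _)
  set N : Set ↥(loc E d) := {x | (x : X) ∈ near E d} with hN
  have hinj : Set.InjOn φ N := fun p hp q hq h => img_inj ht hno hp hq (iso.injective h)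
  obtain ⟨a₀, ha₀, -⟩ := hpair
  have hthree : UnitaryF4Line.IsThree (φ '' N) := by
    refine ⟨?_, ?_, ?_, ?_, ⟨_, ⟨a₀, near_le_loc ha₀⟩, ha₀, rfl⟩⟩
    · rintro _ ⟨x, hx, rfl⟩
      rw [← map_mul, show x * x = 1 from Subtype.ext (ht.sq _ hx.1), map_one]
    · rintro _ ⟨x, hx, rfl⟩ e1
      exact hno _ hx ((mk_eq_one_iff x).mp ((map_eq_one_iff iso iso.injective).mp e1))
    · rintro _ ⟨x, hx, rfl⟩ _ ⟨y, hy, rfl⟩ hn
      rw [← map_mul, ← map_mul, ← map_mul, ← map_mul]
      exact congrArg φ (Subtype.ext (ht.braid _ hx.1 _ hy.1 fun h =>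
        hn ((show Commute x y from Subtype.ext h).map φ)))
    · intro g x hx
      obtain ⟨g, rfl⟩ := hsurj g
      obtain ⟨x, hx, rfl⟩ := hx
      exact ⟨g * x * g⁻¹, near_conj ht (commute_d_of_mem_loc g.2).symm hx, by simp⟩
  have hnear : (φ '' N).ncard = (near E d).ncard := by
    rw [Set.InjOn.ncard_image hinj]
    exact Set.ncard_subtype _ _ |>.trans (congrArg Set.ncard (Set.inter_eq_left.mpr fun y hy =>
      near_le_loc hy))
  have hs : φ ⟨a₀, near_le_loc ha₀⟩ ∈ φ '' N := ⟨_, ha₀, rfl⟩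
  have h4 : 4 ∣ {q | q ∈ φ '' N ∧ q ≠ φ ⟨a₀, near_le_loc ha₀⟩ ∧
      Commute (φ ⟨a₀, near_le_loc ha₀⟩) q}.ncard := by
    refine four_dvd_perp (fun b hb c hc hbc hne => ?_) hs
    obtain ⟨L, g1, g2, g3, g4, g5, g6, -, g8, g9⟩ := UnitaryF4Line.line le_rfl hthree hb hc hbc hne
    exact ⟨L, g1, g2, g3, g4, g5, g6, g8, g9⟩
  obtain ⟨k, hk⟩ := ncard_split hs (by
      rw [← map_mul, show (⟨a₀, near_le_loc ha₀⟩ : ↥(loc E d)) * ⟨a₀, near_le_loc ha₀⟩ = 1 from
        Subtype.ext (ht.sq _ ha₀.1), map_one])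
    (fun y hy => by
      obtain ⟨x, hx, rfl⟩ := hy
      exact ⟨⟨a₀, near_le_loc ha₀⟩ * x * ⟨a₀, near_le_loc ha₀⟩⁻¹,
        near_conj ht ha₀.2.2.symm hx, by simp [cg]⟩)
  obtain ⟨m, hm⟩ := ncard_split hd (ht.sq d hd) (fun y hy => ht.conj d y hy)
  rw [hnear] at hk
  obtain ⟨j, hj⟩ := h4
  refine ⟨2 * j + k + m + 1, ?_⟩
  change E.ncard = (near E d).ncard + 2 * m + 1 at hm
  omega

/-- Members of a primitive class have no trivial local image. -/
theorem no_trivial (ht : TSys D) (hprim : Cfsg.IsPrimitiveUnderConj D) {d : G} (hd : d ∈ D) :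
    ∀ p ∈ near D d, ¬ ∀ y ∈ near D d, Commute y p :=
  fun _ hp h => ThreeTransLine.no_central ht hprim hd hp h

/-- Type M(23): oddly many members, each with a member near it. -/
theorem m23_odd (ht : TSys D) (hprim : Cfsg.IsPrimitiveUnderConj D)
    (h23 : Cfsg.IsOfTypeM23 G D) :
    ¬ 2 ∣ D.ncard ∧ ∀ s ∈ D, (near D s).Nonempty := by
  obtain ⟨-, d, hd, c, -, -, h22, -⟩ := h23
  have hno := no_trivial ht hprim hd
  have h1 : ∀ y ∈ imgSet D d, y ≠ 1 := by
    rintro _ ⟨x, hx, rfl⟩ e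
    exact hno _ hx ((mk_eq_one_iff x).mp e)
  obtain ⟨h2, -, a, ⟨x, hx, -⟩, -⟩ := m22_even (tsys_img ht d) h1 h22
  refine ⟨?_, fun s hs => ?_⟩
  · obtain ⟨k, hk⟩ := ncard_split hd (ht.sq d hd) (fun y hy => ht.conj d y hy)
    change D.ncard = (near D d).ncard + 2 * k + 1 at hk
    rw [← ncard_img ht hno] at hk
    change 2 ∣ (imgSet D d).ncard at h2
    omega
  · obtain ⟨g, rfl⟩ := hprim.1 d hd s hs
    exact ⟨g * x * g⁻¹, ht.conj g _ hx.1, fun h => hx.2.1 (mul_left_cancel (mul_right_cancel h)),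
      (Commute.conj_iff g).mpr hx.2.2⟩

/-- Every involution centralizes a member of an odd invariant set. -/
theorem exists_commute_odd {S : Set G} (hS : ¬ 2 ∣ S.ncard) {x : G} (hx : x * x = 1)
    (hinv : ∀ y ∈ S, cg x y ∈ S) : ∃ y ∈ S, Commute x y := by
  by_contra hno
  push Not at hno
  apply hS
  have e : {y | y ∈ S ∧ ¬ Commute x y} = S :=
    Set.ext fun y => ⟨fun h => h.1, fun h => ⟨h, hno y h⟩⟩
  simpa [e] using even_noncomm hx hinv

end Cfsg.Agent.ThreeTransM23Parity34
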