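import Cfsg.Agent.Lib.FischerLocalCount88
import Cfsg.Agent.Lib.FischerGlue6
import Cfsg.Agent.Lib.FischerLocalConn6
import Cfsg.Agent.Lib.RankThreeSpectrum33
import Cfsg.Agent.Lib.ThreeTransM23Parity34

/-!
A primitive class whose local class has no affine plane has no affine plane, apart from one
case: local classes of 36 members (the local group `O5(3)`).
-/

set_option autoImplicit false
set_option linter.unusedSectionVars false

namespace Cfsg.Agent.FischerLocalSymp88

open ThreeTransDescent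
open ThreeTransRel (TSys tsys_of_group)
open FischerSymplecticFrame88 FischerSymplecticSpace88

universe u

variable {G : Type u} [Group G] {D : Set G}

theorem near_conj_image (ht : TSys D) (g x : G) :
    (fun z => g * z * g⁻¹) '' near D x = near D (g * x * g⁻¹) := by
  ext z
  simp only [Set.mem_image, Set.mem_setOf_eq]
  constructor
  · rintro ⟨y, ⟨hy, hne, hc⟩, rfl⟩
    exact ⟨ht.conj g y hy, fun e => hne (mul_left_cancel (mul_right_cancel e)),
      (Commute.conj_iff g).2 hc⟩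
  · rintro ⟨hz, hne, hc⟩
    have e : g * (g⁻¹ * z * g) * g⁻¹ = z := by group
    refine ⟨g⁻¹ * z * g, ⟨?_, ?_, ?_⟩, e⟩
    · simpa using ht.conj g⁻¹ z hz
    · intro h1; exact hne (by rw [← e, h1])
    · rw [← Commute.conj_iff g, e]; exact hc

theorem conj_injective (g : G) : Function.Injective fun z : G => g * z * g⁻¹ :=
  fun _ _ e => mul_left_cancel (mul_right_cancel e)

theorem ncard_common (ht : TSys D) (g x y : G) :
    (near D (g * x * g⁻¹) ∩ near D (g * y * g⁻¹)).ncard = (near D x ∩ near D y).ncard := by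
  rw [← near_conj_image ht, ← near_conj_image ht, ← Set.image_inter (conj_injective g),
    Set.ncard_image_of_injective _ (conj_injective g)]

variable [Finite G]

/-- The members near `d` form a set without planes closed under its own conjugation. -/
theorem loc_of_planes (hD : Cfsg.IsThreeTranspositionGroup D)
    (hprim : Cfsg.IsPrimitiveUnderConj D) (hZ : Subgroup.center G = ⊥) {d : G} (hd : d ∈ D)
    (hw : (near D d).Nonempty)
    (h3 : Cfsg.pCore 3 ↥(loc D d) ≤ Subgroup.center ↥(loc D d))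
    (h2 : Cfsg.pCore 2 ↥(loc D d) ≤ Subgroup.center ↥(loc D d))
    (hloc : ∀ a ∈ near D d, ∀ b ∈ near D d, ∀ w ∈ near D d, ¬ Commute a b →
      Commute w a ∨ Commute w b ∨ Commute w (a * b * a⁻¹)) : Loc (near D d) := by
  classical
  have ht := tsys_of_group hD
  have htc := FischerGlue6.tc ht hprim
  obtain ⟨p₀, hp₀⟩ := hw
  obtain ⟨hsol, -, -⟩ := FischerGlue6.class_hyps hD hprim hZ
    ⟨d, hd, p₀, hp₀.1, hp₀.2.1.symm, hp₀.2.2⟩
  have hsol' : ∀ N : Subgroup G, N.Normal → Group.IsSolvable ↥N → N ≤ commutator G → N = ⊥ :=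
    fun N hN hs _ => hsol N hN hs
  have hno := ThreeTransM23Parity34.no_trivial ht hprim hd
  obtain ⟨hgrp, -, hcen, -⟩ := FischerGlue6.local_hyps hD hprim hZ hd ⟨p₀, hp₀⟩ h3 h2
  refine ⟨fun a ha => hD.1.1 a ha.1, fun a ha b hb => hD.1.2 a ha.1 b hb.1,
    fun a ha b hb => near_conj ht ha.2.2.symm hb, ?_, ?_, ?_, hloc⟩
  · intro a ha b hb
    obtain ⟨g, hg, e⟩ := ThreeTransp.dx_transitive htc hsol' hd
      (ha : a ∈ ThreeTransp.Dx D d) (hb : b ∈ ThreeTransp.Dx D d)
    exact ⟨g, hg, e⟩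
  · intro a ha b hb hab
    have himg : (QuotientGroup.mk ⟨a, near_le_loc ha⟩ :
        ↥(loc D d) ⧸ Subgroup.center ↥(loc D d)) = QuotientGroup.mk ⟨b, near_le_loc hb⟩ := by
      refine red_of_primitive hgrp
        (FischerLocalConn6.local_primitive hD hprim hZ hd ⟨p₀, hp₀⟩ h3 h2).2.1 hcen _
        ⟨_, ha, rfl⟩ _ ⟨_, hb, rfl⟩ ?_
      rintro _ ⟨e, he, rfl⟩
      constructor
      · intro h
        have h1 := (hab e he).1 (ThreeTransM23Parity34.img_refl ht
          (p := ⟨a, near_le_loc ha⟩) (q := e) ha he h)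
        exact (show Commute (⟨b, near_le_loc hb⟩ : ↥(loc D d)) e from Subtype.ext h1).map
          (QuotientGroup.mk' _)
      · intro h
        have h1 := (hab e he).2 (ThreeTransM23Parity34.img_refl ht
          (p := ⟨b, near_le_loc hb⟩) (q := e) hb he h)
        exact (show Commute (⟨a, near_le_loc ha⟩ : ↥(loc D d)) e from Subtype.ext h1).map
          (QuotientGroup.mk' _)
    exact congrArg Subtype.val (ThreeTransM23Parity34.img_inj ht hno
      (p := ⟨a, near_le_loc ha⟩) (q := ⟨b, near_le_loc hb⟩) ha hb himg)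
  · intro a ha
    have h1 := hno a ha
    push Not at h1
    obtain ⟨y, hy, hy'⟩ := h1
    exact ⟨y, hy, fun e => hy' e.symm⟩

/-- A local class without planes has at least ten members. -/
theorem ten_le_near (hD : Cfsg.IsThreeTranspositionGroup D)
    (hprim : Cfsg.IsPrimitiveUnderConj D) (hZ : Subgroup.center G = ⊥) {d : G} (hd : d ∈ D)
    (hw : (near D d).Nonempty)
    (h3 : Cfsg.pCore 3 ↥(loc D d) ≤ Subgroup.center ↥(loc D d))
    (h2 : Cfsg.pCore 2 ↥(loc D d) ≤ Subgroup.center ↥(loc D d))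
    (hloc : ∀ a ∈ near D d, ∀ b ∈ near D d, ∀ w ∈ near D d, ¬ Commute a b →
      Commute w a ∨ Commute w b ∨ Commute w (a * b * a⁻¹)) : 10 ≤ (near D d).ncard := by
  have ht := tsys_of_group hD
  have hL := loc_of_planes hD hprim hZ hd hw h3 h2 hloc
  obtain ⟨W, iA, iM, iF, B, r, hC, hinj, hr⟩ := exists_space_of_loc hL
  obtain ⟨-, -, x, hx, y, hy, hxy, hcxy⟩ :=
    FischerLocalConn6.local_primitive hD hprim hZ hd hw h3 h2
  obtain ⟨u, hu, rfl⟩ := hx
  obtain ⟨v, hv, rfl⟩ := hy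
  have h1 := ThreeTransM23Parity34.img_refl ht hu hv hcxy
  have hne : r (u : G) ≠ r v := fun e => hxy (congrArg _ (Subtype.ext (hinj hu hv e)))
  have h0 : B (r (u : G)) (r v) = 0 := by
    rcases zm (B (r (u : G)) (r v)) with e | e
    · exact e
    · exfalso
      have h2' := hr _ hu _ hv
      rw [h1.eq, mul_inv_cancel_right, e, one_smul, left_eq_add] at h2'
      exact hC.ne_zero ⟨u, hu, rfl⟩ h2'
  rw [← hinj.ncard_image]
  rcases dichotomy hC ⟨_, Set.mem_image_of_mem r hu⟩ with ⟨n, f, hn, hf, hΔ, hfi⟩ | ⟨z, hz⟩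
  · obtain ⟨hcard, -⟩ := FischerLocalCount88.sym_counts hn hf hΔ hfi
    rw [hcard]
    have hn5 : 5 ≤ n := by
      by_contra hc
      obtain ⟨a, b, hab, ea⟩ := (hΔ ▸ ⟨u, hu, rfl⟩ : r (u : G) ∈ pairSet f)
      obtain ⟨a', b', hab', eb⟩ := (hΔ ▸ ⟨v, hv, rfl⟩ : r (v : G) ∈ pairSet f)
      rw [ea, eb, hf.gram] at h0
      obtain rfl | rfl : n = 3 ∨ n = 4 := by omega
      · have key : ∀ a b a' b' : Fin 3, a ≠ b → a' ≠ b' →
            dl a a' + dl a b' + dl b a' + dl b b' = 0 → (a = a' ∧ b = b') ∨ (a = b' ∧ b = a') := by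
          unfold dl; decide
        rcases key a b a' b' hab hab' h0 with ⟨rfl, rfl⟩ | ⟨rfl, rfl⟩
        · exact hne (ea.trans eb.symm)
        · exact hne (ea.trans ((add_comm _ _).trans eb.symm))
      · have hr0 := sum_eq_zero_of_even hC (f := f) (by
          intro w hw
          obtain ⟨p, q, hpq, rfl⟩ := (hΔ ▸ hw : w ∈ pairSet f)
          rw [hf.gram, hf.gram]
          clear hw
          revert hpq; revert p q
          unfold dl; decide)
        have e : f 0 + f 1 = f 2 + f 3 := by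
          rw [← add_zero (f 0 + f 1), ← ZModModule.add_self (f 2 + f 3), ← add_assoc, hr0, zero_add]
        rcases hfi 0 1 2 3 (by decide) (by decide) e with ⟨h5, -⟩ | ⟨h5, -⟩ <;>
          exact absurd h5 (by decide)
    calc 10 = Nat.choose 5 2 := by decide
      _ ≤ n.choose 2 := Nat.choose_le_choose 2 hn5
  · have hsub : FischerSymplecticSplit88.phi z '' {c | FischerSymplecticSplit88.q6 c = 1} ⊆
        r '' near D d := by
      rintro _ ⟨c, hc, rfl⟩
      exact FischerSymplecticSplit88.phi_mem hC hz c hc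
    have h4 := Set.ncard_le_ncard hsub (Set.toFinite _)
    rw [Set.ncard_image_of_injective _ (FischerSymplecticSplit88.phi_injective hz),
      Set.ncard_eq_toFinset_card'] at h4
    refine le_trans ?_ h4
    decide +kernel

/-- Primitive classes without planes near each member have no planes, up to one case. -/
theorem planes_or_small (hD : Cfsg.IsThreeTranspositionGroup D)
    (hprim : Cfsg.IsPrimitiveUnderConj D) (hZ : Subgroup.center G = ⊥) {d : G} (hd : d ∈ D)
    (hw : (near D d).Nonempty)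
    (h3 : Cfsg.pCore 3 ↥(loc D d) ≤ Subgroup.center ↥(loc D d))
    (h2 : Cfsg.pCore 2 ↥(loc D d) ≤ Subgroup.center ↥(loc D d))
    (hloc : ∀ a ∈ near D d, ∀ b ∈ near D d, ∀ w ∈ near D d, ¬ Commute a b →
      Commute w a ∨ Commute w b ∨ Commute w (a * b * a⁻¹)) :
    (∀ a ∈ D, ∀ b ∈ D, ∀ w ∈ D, ¬ Commute a b →
      Commute w a ∨ Commute w b ∨ Commute w (a * b * a⁻¹)) ∨
    ((near D d).ncard = 36 ∧ ∃ p ∈ near D d, (near D d ∩ near D p).ncard = 15) := by
  classical
  have ht := tsys_of_group hD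
  have htc := FischerGlue6.tc ht hprim
  obtain ⟨p₀, hp₀⟩ := hw
  obtain ⟨hsol, -, hperf⟩ := FischerGlue6.class_hyps hD hprim hZ
    ⟨d, hd, p₀, hp₀.1, hp₀.2.1.symm, hp₀.2.2⟩
  have hsol' : ∀ N : Subgroup G, N.Normal → Group.IsSolvable ↥N → N ≤ commutator G → N = ⊥ :=
    fun N hN hs _ => hsol N hN hs
  have hno := ThreeTransM23Parity34.no_trivial ht hprim hd
  have hL := loc_of_planes hD hprim hZ hd ⟨p₀, hp₀⟩ h3 h2 hloc
  -- planes inside any local class
  have hlocAll : ∀ e ∈ D, ∀ a ∈ near D e, ∀ b ∈ near D e, ∀ w ∈ near D e, ¬ Commute a b →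
      Commute w a ∨ Commute w b ∨ Commute w (a * b * a⁻¹) := by
    intro e he a ha b hb w hw' hab
    obtain ⟨g, hg⟩ := hprim.1 e he d hd
    have hm : ∀ z ∈ near D e, g * z * g⁻¹ ∈ near D d := fun z hz => by
      rw [← hg, ← near_conj_image ht]; exact ⟨z, hz, rfl⟩
    have h1 := hloc _ (hm a ha) _ (hm b hb) _ (hm w hw') (by rwa [Commute.conj_iff])
    rw [show g * a * g⁻¹ * (g * b * g⁻¹) * (g * a * g⁻¹)⁻¹ = g * (a * b * a⁻¹) * g⁻¹ by group,
      Commute.conj_iff, Commute.conj_iff, Commute.conj_iff] at h1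
    exact h1
  refine or_iff_not_imp_left.2 fun hplane => ?_
  push Not at hplane
  obtain ⟨a, ha, b, hb, w, hwD, hab, hwa, hwb, hwc⟩ := hplane
  -- a member commuting with the whole line
  obtain ⟨e, hea, heb⟩ : ∃ e, e ∈ near D a ∧ e ∈ near D b := by
    obtain ⟨q, hq, hq'⟩ := hL.noniso p₀ hp₀
    obtain ⟨g, hg⟩ := hprim.1 p₀ hp₀.1 a ha
    have hgq : ¬ Commute a (g * q * g⁻¹) := by rw [← hg, Commute.conj_iff]; exact hq'
    obtain ⟨k, hk, hkq⟩ := ThreeTransp.ax_transitive htc hsol' hperf ha (ht.conj g q hq.1) hb hgq hab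
    have h1 : d ∈ near D p₀ ∩ near D q :=
      ⟨⟨hd, hp₀.2.1.symm, hp₀.2.2.symm⟩, ⟨hd, hq.2.1.symm, hq.2.2.symm⟩⟩
    have hka : k * a * k⁻¹ = a := hk
    have h2' : k * (g * d * g⁻¹) * k⁻¹ ∈ near D a ∩ near D b := by
      rw [← hkq, ← hka, ← hg, ← near_conj_image ht k, ← near_conj_image ht k,
        ← near_conj_image ht g, ← near_conj_image ht g]
      exact ⟨⟨_, ⟨_, h1.1, rfl⟩, rfl⟩, ⟨_, ⟨_, h1.2, rfl⟩, rfl⟩⟩
    exact ⟨_, h2'.1, h2'.2⟩
  have heD := hea.1
  have hec : Commute (a * b * a⁻¹) e := (hea.2.2.mul_left heb.2.2).mul_left hea.2.2.inv_left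
  have hcD : a * b * a⁻¹ ∈ D := ht.conj a b hb
  have hewn : ¬ Commute w e := by
    intro hwe
    have hwne : w ≠ e := by
      rintro rfl
      exact hwa hea.2.2.symm
    rcases hlocAll e heD a ⟨ha, hea.2.1.symm, hea.2.2.symm⟩ b ⟨hb, heb.2.1.symm, heb.2.2.symm⟩ w
      ⟨hwD, hwne, hwe.symm⟩ hab with h | h | h
    · exact hwa h
    · exact hwb h
    · exact hwc h
  -- move to `d`
  obtain ⟨p, hp, q, hq, c, hcD, hpq, hcd, hcp, hcq, hcr⟩ : ∃ p ∈ near D d, ∃ q ∈ near D d, ∃ c ∈ D,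
      ¬ Commute p q ∧ ¬ Commute c d ∧ ¬ Commute c p ∧ ¬ Commute c q ∧
        ¬ Commute c (p * q * p⁻¹) := by
    obtain ⟨g, hg⟩ := hprim.1 e heD d hd
    refine ⟨g * a * g⁻¹, ?_, g * b * g⁻¹, ?_, g * w * g⁻¹, ht.conj g w hwD, ?_, ?_, ?_, ?_, ?_⟩
    · rw [← hg, ← near_conj_image ht]
      exact ⟨a, ⟨ha, hea.2.1.symm, hea.2.2.symm⟩, rfl⟩
    · rw [← hg, ← near_conj_image ht]
      exact ⟨b, ⟨hb, heb.2.1.symm, heb.2.2.symm⟩, rfl⟩
    · rwa [Commute.conj_iff]
    · rwa [← hg, Commute.conj_iff]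
    · rwa [Commute.conj_iff]
    · rwa [Commute.conj_iff]
    · rwa [show g * a * g⁻¹ * (g * b * g⁻¹) * (g * a * g⁻¹)⁻¹ = g * (a * b * a⁻¹) * g⁻¹ by group,
        Commute.conj_iff]
  obtain ⟨W, iA, iM, iF, B, r, hC, hinj, hr⟩ := exists_space_of_loc hL
  have hcomm : ∀ u ∈ near D d, ∀ v ∈ near D d, (Commute u v ↔ B (r u) (r v) = 0) := by
    intro u hu v hv
    constructor
    · intro h
      rcases zm (B (r u) (r v)) with e | e
      · exact e
      · exfalso
        have h1 := hr u hu v hv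
        rw [h.eq, mul_inv_cancel_right, e, one_smul, left_eq_add] at h1
        exact hC.ne_zero ⟨u, hu, rfl⟩ h1
    · intro h
      have h1 := hr u hu v hv
      rw [h, zero_smul, add_zero] at h1
      have h2 := hinj (near_conj ht hu.2.2.symm hv) hv h1
      rw [mul_inv_eq_iff_eq_mul] at h2
      exact h2
  set M := near D d ∩ near D c with hM
  have hpM : p ∉ M := fun h => hcp h.2.2.2
  have hqM : q ∉ M := fun h => hcq h.2.2.2
  have hr3 : r (p * q * p⁻¹) = r p + r q := by
    have h1 : B (r p) (r q) = 1 :=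
      (zm _).resolve_left fun e => hpq ((hcomm p hp q hq).2 e)
    rw [hr p hp q hq, h1, one_smul, add_comm]
  have hmem : ∀ u ∈ near D d, r u ∈ r '' M → u ∈ M := by
    rintro u hu ⟨v, hv, e⟩
    rwa [← hinj hv.1 hu e]
  have hblock : FischerLocalCount88.Blocked B (r '' near D d) (r '' M) (r p) (r q) := by
    refine ⟨Set.image_mono Set.inter_subset_left, ?_, ⟨p, hp, rfl⟩, ⟨q, hq, rfl⟩,
      (zm _).resolve_left fun e => hpq ((hcomm p hp q hq).2 e), ?_, ?_⟩
    · rintro _ ⟨u, hu, rfl⟩ _ ⟨v, hv, rfl⟩ huv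
      refine ⟨u * v * u⁻¹, ⟨near_conj ht hu.1.2.2.symm hv.1, near_conj ht hu.2.2.2.symm hv.2⟩, ?_⟩
      rw [hr u hu.1 v hv.1, huv, one_smul, add_comm]
    · rintro _ ⟨u, hu, rfl⟩ ⟨h1, h2⟩
      have hup := (hcomm u hu.1 p hp).2 h1
      have huq := (hcomm u hu.1 q hq).2 h2
      have hpu : p ≠ u := fun e => hpM (e.symm ▸ hu)
      have hqu : q ≠ u := fun e => hqM (e.symm ▸ hu)
      rcases hlocAll u hu.1.1 p ⟨hp.1, hpu, hup⟩ q ⟨hq.1, hqu, huq⟩ c
        ⟨hcD, hu.2.2.1.symm, hu.2.2.2.symm⟩ hpq with h | h | h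
      · exact hcp h
      · exact hcq h
      · exact hcr h
    · refine ⟨fun h => hpM (hmem p hp h), fun h => hqM (hmem q hq h), fun h => ?_⟩
      rw [← hr3] at h
      exact hcr (hmem _ (near_conj ht hp.2.2.symm hq) h).2.2.2
  -- the graph
  let X := {x : G // x ∈ D}
  have : Fintype X := Fintype.ofFinite _
  let R : X → X → Prop := fun x y => (y : G) ≠ x ∧ Commute (x : G) y
  have hcount : ∀ (S : Set G), S ⊆ D → (Finset.univ.filter fun x : X => (x : G) ∈ S).card = S.ncard := by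
    intro S hS
    rw [← Set.ncard_coe_finset, ← Set.ncard_image_of_injective _ Subtype.val_injective]
    congr 1
    ext z
    simp only [Finset.coe_filter, Finset.mem_univ, true_and, Set.mem_image, Set.mem_setOf_eq]
    exact ⟨by rintro ⟨x, hx, rfl⟩; exact hx, fun hz => ⟨⟨z, hS hz⟩, hz, rfl⟩⟩
  have hdeg : ∀ x ∈ D, (near D x).ncard = (near D d).ncard := by
    intro x hx
    obtain ⟨g, hg⟩ := hprim.1 x hx d hd
    rw [← hg, ← near_conj_image ht, Set.ncard_image_of_injective _ (conj_injective g)]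
  have hadj : ∀ x ∈ D, ∀ y ∈ near D x,
      (near D x ∩ near D y).ncard = (near D d ∩ near D p).ncard := by
    intro x hx y hy
    obtain ⟨g, hg⟩ := hprim.1 x hx d hd
    have hgy : g * y * g⁻¹ ∈ near D d := by
      rw [← hg, ← near_conj_image ht]; exact ⟨y, hy, rfl⟩
    obtain ⟨k, hk, hky⟩ := ThreeTransp.dx_transitive htc hsol' hd
      (hgy : g * y * g⁻¹ ∈ ThreeTransp.Dx D d) (hp : p ∈ ThreeTransp.Dx D d)
    have hkd : k * d * k⁻¹ = d := by
      rw [mul_inv_eq_iff_eq_mul]; exact (commute_d_of_mem_loc hk).symm.eq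
    rw [← ncard_common ht g x y, hg, ← ncard_common ht k d, hkd, hky]
  have hnon : ∀ x ∈ D, ∀ y ∈ D, ¬ Commute x y → (near D x ∩ near D y).ncard = M.ncard := by
    intro x hx y hy hxy
    obtain ⟨g, hg⟩ := hprim.1 x hx d hd
    have hgy : ¬ Commute d (g * y * g⁻¹) := by rwa [← hg, Commute.conj_iff]
    obtain ⟨k, hk, hky⟩ := ThreeTransp.ax_transitive htc hsol' hperf hd (ht.conj g y hy) hcD hgy
      (fun h => hcd h.symm)
    have hkd : k * d * k⁻¹ = d := hk
    rw [← ncard_common ht g x y, hg, ← ncard_common ht k d, hkd, hky]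
  have hsrg : RankThreeSpectrum33.Srg R (near D d).ncard (near D d ∩ near D p).ncard M.ncard := by
    have hcap : ∀ x y : X, (Finset.univ.filter fun z => R x z ∧ R z y).card =
        (near D (x : G) ∩ near D y).ncard := by
      intro x y
      rw [← hcount _ (fun z hz => hz.1.1)]
      congr 1
      ext z
      simp only [Finset.mem_filter, Finset.mem_univ, true_and, Set.mem_inter_iff,
        Set.mem_setOf_eq, R]
      exact ⟨fun h => ⟨⟨z.2, h.1.1, h.1.2⟩, z.2, h.2.1.symm, h.2.2.symm⟩,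
        fun h => ⟨⟨h.1.2.1, h.1.2.2⟩, h.2.2.1.symm, h.2.2.2.symm⟩⟩
    refine ⟨fun x h => h.1 rfl, fun x y h => ⟨h.1.symm, h.2.symm⟩, fun x => ?_, ?_, ?_⟩
    · rw [← hdeg x x.2, ← hcount _ (fun z hz => hz.1)]
      congr 1
      ext z
      simp only [Finset.mem_filter, Finset.mem_univ, true_and, Set.mem_setOf_eq, R]
      exact ⟨fun h => ⟨z.2, h⟩, fun h => h.2⟩
    · intro x y hxy
      rw [hcap]
      exact hadj x x.2 y ⟨y.2, hxy.1, hxy.2⟩
    · intro x y hne hxy
      rw [hcap]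
      exact hnon x x.2 y y.2 fun h => hxy ⟨fun e => hne (Subtype.ext e).symm, h⟩
  let σ : Equiv.Perm X :=
    { toFun := fun x => ⟨d * x * d⁻¹, ht.conj d x x.2⟩
      invFun := fun x => ⟨d * x * d⁻¹, ht.conj d x x.2⟩
      left_inv := fun x => Subtype.ext (by
        show d * (d * (x : G) * d⁻¹) * d⁻¹ = x
        rw [ht.inv_self hd, show d * (d * (x : G) * d) * d = (d * d) * x * (d * d) by group,
          ht.sq d hd, one_mul, mul_one])
      right_inv := fun x => Subtype.ext (by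
        show d * (d * (x : G) * d⁻¹) * d⁻¹ = x
        rw [ht.inv_self hd, show d * (d * (x : G) * d) * d = (d * d) * x * (d * d) by group,
          ht.sq d hd, one_mul, mul_one]) }
  have hfix : ∀ x : X, σ x = x ↔ Commute d (x : G) := by
    intro x
    rw [Subtype.ext_iff]
    show d * (x : G) * d⁻¹ = x ↔ _
    rw [mul_inv_eq_iff_eq_mul]
    exact Iff.rfl
  have : Nonempty X := ⟨⟨d, hd⟩⟩
  have hmu : M.ncard < (near D d).ncard :=
    Set.ncard_lt_ncard ⟨Set.inter_subset_left, fun h => hpM (h hp)⟩ (Set.toFinite _)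
  have hdn : d ∉ near D d := fun h => h.2.1 rfl
  have hk1 : (near D d).ncard + 1 < Fintype.card X := by
    have hsub : insert c (insert d (near D d)) ⊆ D := by
      rintro z (rfl | rfl | hz)
      · exact hcD
      · exact hd
      · exact hz.1
    have hcn : c ∉ insert d (near D d) := by
      rintro (rfl | h)
      · exact hcd (Commute.refl _)
      · exact hcd h.2.2.symm
    have h1 := Set.ncard_le_ncard hsub (Set.toFinite _)
    rw [Set.ncard_insert_of_notMem hcn, Set.ncard_insert_of_notMem hdn] at h1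
    rw [← Nat.card_eq_fintype_card, show Nat.card X = D.ncard from Nat.card_coe_set_eq D]
    omega
  obtain ⟨r', s, -, hs1, hkrs, hlrs, hdvd⟩ := RankThreeSpectrum33.integral hsrg hmu hk1 σ
    (fun x => σ.left_inv x)
    (fun x y => and_congr
      (not_congr ⟨fun e => mul_left_cancel (mul_right_cancel e), fun e => by
        show d * (y : G) * d⁻¹ = d * (x : G) * d⁻¹; rw [e]⟩)
      (Commute.conj_iff d))
    (by
      rw [← Set.ncard_insert_of_notMem hdn, ← hcount _ (by
        rintro z (rfl | hz)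
        · exact hd
        · exact hz.1)]
      congr 1
      ext x
      simp only [Finset.mem_filter, Finset.mem_univ, true_and, Set.mem_insert_iff,
        Set.mem_setOf_eq, hfix]
      constructor
      · intro h
        by_cases e : (x : G) = d
        · exact Or.inl e
        · exact Or.inr ⟨x.2, e, h⟩
      · rintro (e | h)
        · rw [e]
        · exact h.2.2)
    (fun x h => by
      obtain ⟨h1, h2⟩ := h
      replace h1 : d * (x : G) * d⁻¹ ≠ x := h1
      replace h2 : Commute (x : G) (d * x * d⁻¹) := h2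
      have hdx : ¬ Commute d (x : G) := fun h => h1 (by rw [h.eq, mul_inv_cancel_right])
      rw [ht.inv_self hd, ht.braid d hd x x.2 hdx] at h2
      exact htc.not_commute_third x.2 (fun h => hdx h.symm) h2)
  -- translate
  have hΔ : (r '' near D d).ncard = (near D d).ncard := hinj.ncard_image
  have hM' : (r '' M).ncard = M.ncard := (hinj.mono Set.inter_subset_left).ncard_image
  have hlam : ∀ u ∈ near D d,
      FischerLocalCount88.lam B (r '' near D d) (r u) = (near D d ∩ near D p).ncard := by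
    intro u hu
    have e : {v ∈ r '' near D d | v ≠ r u ∧ B (r u) v = 0} = r '' (near D d ∩ near D u) := by
      ext v
      simp only [Set.mem_setOf_eq, Set.mem_image, Set.mem_inter_iff]
      constructor
      · rintro ⟨⟨z, hz, rfl⟩, hne, h0⟩
        exact ⟨z, ⟨hz, hz.1, fun e => hne (by rw [e]), (hcomm u hu z hz).2 h0⟩, rfl⟩
      · rintro ⟨z, ⟨hz, hzu⟩, rfl⟩
        exact ⟨⟨z, hz, rfl⟩, fun e => hzu.2.1 (hinj hz hu e), (hcomm u hu z hz).1 hzu.2.2⟩
    rw [FischerLocalCount88.lam, e, (hinj.mono Set.inter_subset_left).ncard_image, hadj d hd u hu]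
  have hMpos : 1 ≤ M.ncard := by
    rw [← hnon p hp.1 q hq.1 hpq]
    exact (Set.ncard_pos (Set.toFinite _)).2
      ⟨d, ⟨hd, hp.2.1.symm, hp.2.2.symm⟩, hd, hq.2.1.symm, hq.2.2.symm⟩
  have hl0 : 1 ≤ (near D d ∩ near D p).ncard := by
    obtain ⟨-, -, x, hx, y, hy, hxy, hcxy⟩ :=
      FischerLocalConn6.local_primitive hD hprim hZ hd ⟨p₀, hp₀⟩ h3 h2
    obtain ⟨u, hu, rfl⟩ := hx
    obtain ⟨v, hv, rfl⟩ := hy
    have h1 := ThreeTransM23Parity34.img_refl ht hu hv hcxy
    have hvu : (v : G) ∈ near D (u : G) :=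
      ⟨hv.1, fun e => hxy (by rw [Subtype.ext e]), h1⟩
    rw [← hadj d hd (u : G) hu]
    exact (Set.ncard_pos (Set.toFinite _)).2 ⟨(v : G), hv, hvu⟩
  have hex := FischerLocalCount88.excluded hC hblock ⟨p, hp, rfl⟩ (r := r') (s := s)
    (by rintro _ ⟨u, hu, rfl⟩; rw [hlam u hu, hlam p hp]) hs1
    (by rw [hΔ, hM']; exact hkrs) (by rw [hlam p hp, hM']; exact hlrs) (by rw [hΔ]; exact hdvd)
    (by rw [hM']; exact hMpos) (by rw [hlam p hp]; exact hl0)
  rw [hΔ, hlam p hp] at hex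
  exact ⟨hex.1, p, hp, hex.2⟩

/-- Transvections commute exactly for orthogonal vectors. -/
theorem commute_transv {m : ℕ} {v w : Fin m ⊕ Fin m → ZMod 2} (hv : v ≠ 0) (hw : w ≠ 0) :
    Commute (SymplecticBasic.transv v (1 : ZMod 2)) (SymplecticBasic.transv w 1) ↔
      Cfsg.sympForm m (ZMod 2) w v = 0 := by
  have h1 := SymplecticBasic.transv_conj (SymplecticBasic.transv v (1 : ZMod 2)) w 1
  rw [SymplecticBasic.transv_smul, one_mul] at h1
  constructor
  · intro h
    rw [h.eq, mul_inv_cancel_right] at h1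
    rcases FischerSymplecticFrame88.zm (Cfsg.sympForm m (ZMod 2) w v) with e | e
    · exact e
    · exfalso
      rw [e, one_smul] at h1
      rcases SymplecticTransv.transv_eq_transv hw one_ne_zero h1.symm with h2 | h2
      · exact hv (add_eq_left.1 h2)
      · rw [ZModModule.neg_eq_self] at h2; exact hv (add_eq_left.1 h2)
  · intro h
    rw [h, zero_smul, add_zero, mul_inv_eq_iff_eq_mul] at h1
    exact h1

/-- In the symplectic class the members near one member have twins. -/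
theorem symplectic_twins {m : ℕ} (hm : 2 ≤ m)
    {e : G ≃* Matrix.symplecticGroup (Fin m) (ZMod 2)}
    (he : e '' D = {g : Matrix.symplecticGroup (Fin m) (ZMod 2) |
      ((g : Matrix (Fin m ⊕ Fin m) (Fin m ⊕ Fin m) (ZMod 2)) - 1).rank = 1})
    {d : G} (hd : d ∈ D) :
    ∃ p ∈ near D d, ∃ q ∈ near D d, p ≠ q ∧ ∀ x ∈ near D d, Commute p x ↔ Commute q x := by
  have hin : ∀ v : Fin m ⊕ Fin m → ZMod 2, v ≠ 0 → e.symm (SymplecticBasic.transv v 1) ∈ D := by
    intro v hv
    have h1 : SymplecticBasic.transv v 1 ∈ e '' D :=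
      he ▸ SymplecticTransv.rank_transv_sub_one hv one_ne_zero
    obtain ⟨x, hx, hxe⟩ := h1
    rw [← hxe, e.symm_apply_apply]; exact hx
  have hout : ∀ x ∈ D, ∃ v, v ≠ 0 ∧ e x = SymplecticBasic.transv v (1 : ZMod 2) := by
    intro x hx
    have hr : ((e x : Matrix (Fin m ⊕ Fin m) (Fin m ⊕ Fin m) (ZMod 2)) - 1).rank = 1 := by
      have : e x ∈ e '' D := ⟨x, hx, rfl⟩
      rwa [he] at this
    obtain ⟨v, c, hv, hc, h1⟩ := SymplecticTransv.exists_transv_of_rank hr
    exact ⟨v, hv, by rw [h1, (FischerSymplecticFrame88.zm c).resolve_left hc]⟩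
  obtain ⟨u, hu, hde⟩ := hout d hd
  obtain ⟨w, hw, hwu, hw0⟩ : ∃ w : Fin m ⊕ Fin m → ZMod 2,
      w ≠ 0 ∧ w ≠ u ∧ Cfsg.sympForm m (ZMod 2) w u = 0 := by
    classical
    by_contra hc
    push Not at hc
    have hsub : (Finset.univ.filter fun w : Fin m ⊕ Fin m → ZMod 2 =>
        Cfsg.sympForm m (ZMod 2) w u = 0) ⊆ {0, u} := by
      intro w hw
      simp only [Finset.mem_filter, Finset.mem_univ, true_and] at hw
      simp only [Finset.mem_insert, Finset.mem_singleton]
      by_contra hn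
      push Not at hn
      exact hc w hn.1 hn.2 hw
    obtain ⟨z, hz⟩ : ∃ z, Cfsg.sympForm m (ZMod 2) z u = 1 := by
      by_contra hn
      push Not at hn
      refine hu (SymplecticBasic.form_nondeg fun v => ?_)
      rw [SymplecticBasic.form_swap v u, (FischerSymplecticFrame88.zm _).resolve_right (hn v),
        neg_zero]
    have hcover : (Finset.univ : Finset (Fin m ⊕ Fin m → ZMod 2)) ⊆
        ({0, u} : Finset _) ∪ ({0, u} : Finset _).image (· + z) := by
      intro w _
      rcases FischerSymplecticFrame88.zm (Cfsg.sympForm m (ZMod 2) w u) with e | e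
      · exact Finset.mem_union_left _ (hsub (by simp [e]))
      · refine Finset.mem_union_right _ (Finset.mem_image.2 ⟨w + z, hsub ?_, ?_⟩)
        · simp only [Finset.mem_filter, Finset.mem_univ, true_and]
          rw [SymplecticBasic.form_add_left, e, hz]; rfl
        · rw [add_assoc, ZModModule.add_self, add_zero]
    have h1 := (Finset.card_le_card hcover).trans ((Finset.card_union_le _ _).trans
      (Nat.add_le_add Finset.card_le_two (Finset.card_image_le.trans Finset.card_le_two)))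
    rw [Finset.card_univ, show Fintype.card (Fin m ⊕ Fin m → ZMod 2) = 2 ^ (m + m) by simp] at h1
    have : 2 ^ 4 ≤ 2 ^ (m + m) := Nat.pow_le_pow_right (by norm_num) (by omega)
    omega
  have hwu0 : w + u ≠ 0 := fun h => hwu (by
    rw [← add_zero w, ← ZModModule.add_self u, ← add_assoc, h, zero_add])
  have hcomm : ∀ v (hv : v ≠ 0) (x : G) (s), s ≠ 0 → e x = SymplecticBasic.transv s 1 →
      (Commute (e.symm (SymplecticBasic.transv v (1 : ZMod 2))) x ↔
        Cfsg.sympForm m (ZMod 2) s v = 0) := by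
    intro v hv x s hs hx
    rw [← commute_transv hv hs, ← hx]
    exact ⟨fun h => by simpa using h.map e, fun h => by simpa using h.map e.symm⟩
  have hnear : ∀ v, v ≠ 0 → v ≠ u → Cfsg.sympForm m (ZMod 2) u v = 0 →
      e.symm (SymplecticBasic.transv v 1) ∈ near D d := by
    intro v hv hvu h0
    refine ⟨hin v hv, fun h => hvu ?_, ((hcomm v hv d u hu hde).2 h0).symm⟩
    rw [← h, e.apply_symm_apply] at hde
    rcases SymplecticTransv.transv_eq_transv hu one_ne_zero hde with h2 | h2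
    · exact h2
    · rwa [ZModModule.neg_eq_self] at h2
  have huw : Cfsg.sympForm m (ZMod 2) u w = 0 := by
    rw [SymplecticBasic.form_swap w u, hw0, neg_zero]
  refine ⟨_, hnear w hw hwu huw, _, hnear (w + u) hwu0 (fun h => hw (add_eq_right.1 h))
    (by rw [SymplecticBasic.form_add_right, huw, SymplecticBasic.form_self, add_zero]), ?_, ?_⟩
  · intro h
    rcases SymplecticTransv.transv_eq_transv hwu0 one_ne_zero (e.symm.injective h) with h2 | h2
    · exact hu (left_eq_add.1 h2)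
    · rw [ZModModule.neg_eq_self] at h2; exact hu (left_eq_add.1 h2)
  · intro x hx
    obtain ⟨s, hs, hxe⟩ := hout x hx.1
    have hsu : Cfsg.sympForm m (ZMod 2) s u = 0 := by
      rw [← commute_transv hu hs, ← hde, ← hxe]
      exact hx.2.2.map e
    rw [hcomm w hw x s hs hxe, hcomm (w + u) hwu0 x s hs hxe, SymplecticBasic.form_add_right, hsu,
      add_zero]

theorem swaps_card_le {n : ℕ} (hn : n ≤ 6) {τ : Equiv.Perm (Fin n)} (hτ : τ.IsSwap) :
    {σ : Equiv.Perm (Fin n) | σ.IsSwap ∧ σ ≠ τ ∧ Commute τ σ}.ncard ≤ 6 := by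
  classical
  obtain ⟨i, j, hij, rfl⟩ := hτ
  let P : Finset (Fin n × Fin n) := Finset.univ.filter fun q =>
    q.1 < q.2 ∧ Equiv.swap q.1 q.2 ≠ Equiv.swap i j ∧
      Equiv.swap i j * Equiv.swap q.1 q.2 = Equiv.swap q.1 q.2 * Equiv.swap i j
  have hsub : {σ : Equiv.Perm (Fin n) | σ.IsSwap ∧ σ ≠ Equiv.swap i j ∧
      Commute (Equiv.swap i j) σ} ⊆ ↑(P.image fun q => Equiv.swap q.1 q.2) := by
    rintro σ ⟨⟨a, b, hab, rfl⟩, hne, hc⟩
    simp only [Finset.coe_image, Set.mem_image, Finset.mem_coe, P, Finset.mem_filter,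
      Finset.mem_univ, true_and]
    rcases lt_or_gt_of_ne hab with h | h
    · exact ⟨(a, b), ⟨h, hne, hc.eq⟩, rfl⟩
    · rw [Equiv.swap_comm a b] at hne hc
      exact ⟨(b, a), ⟨h, hne, hc.eq⟩, Equiv.swap_comm _ _⟩
  have h1 := Set.ncard_le_ncard hsub (Set.toFinite _)
  rw [Set.ncard_coe_finset] at h1
  refine h1.trans (Finset.card_image_le.trans ?_)
  have key : ∀ m : Fin 7, ∀ i j : Fin m.val, i ≠ j →
      (Finset.univ.filter fun q : Fin m.val × Fin m.val =>
        q.1 < q.2 ∧ Equiv.swap q.1 q.2 ≠ Equiv.swap i j ∧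
          Equiv.swap i j * Equiv.swap q.1 q.2 = Equiv.swap q.1 q.2 * Equiv.swap i j).card ≤ 6 := by
    decide +kernel
  exact key ⟨n, by omega⟩ i j hij

/-- Recognition from a local class without planes, apart from local classes of 36 members. -/
theorem recognise (hD : Cfsg.IsThreeTranspositionGroup D)
    (hprim : Cfsg.IsPrimitiveUnderConj D) (hZ : Subgroup.center G = ⊥) {d : G} (hd : d ∈ D)
    (hw : (near D d).Nonempty)
    (h3 : Cfsg.pCore 3 ↥(loc D d) ≤ Subgroup.center ↥(loc D d))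
    (h2 : Cfsg.pCore 2 ↥(loc D d) ≤ Subgroup.center ↥(loc D d))
    (hloc : ∀ a ∈ near D d, ∀ b ∈ near D d, ∀ w ∈ near D d, ¬ Commute a b →
      Commute w a ∨ Commute w b ∨ Commute w (a * b * a⁻¹)) :
    ((∃ n : ℕ, 7 ≤ n ∧ ∃ e : G ≃* Equiv.Perm (Fin n), e '' D = {σ : Equiv.Perm (Fin n) | σ.IsSwap}) ∨
    ((∃ m : ℕ, 3 ≤ m ∧ ∃ e : G ≃* ↥(Cfsg.isometryGroup (ZMod 2) (Cfsg.quadFormPlus m (ZMod 2))),
      e '' D = {g : ↥(Cfsg.isometryGroup (ZMod 2) (Cfsg.quadFormPlus m (ZMod 2))) |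
        (((g : GL (Fin m ⊕ Fin m) (ZMod 2)) : Matrix (Fin m ⊕ Fin m) (Fin m ⊕ Fin m) (ZMod 2)) - 1).rank = 1}) ∨
    (∃ m : ℕ, 2 ≤ m ∧ ∃ e : G ≃* ↥(Cfsg.isometryGroup (ZMod 2) (Cfsg.quadFormMinus m (ZMod 2) 1 1)),
      e '' D = {g : ↥(Cfsg.isometryGroup (ZMod 2) (Cfsg.quadFormMinus m (ZMod 2) 1 1)) |
        (((g : GL ((Fin m ⊕ Fin m) ⊕ Fin 2) (ZMod 2)) :
          Matrix ((Fin m ⊕ Fin m) ⊕ Fin 2) ((Fin m ⊕ Fin m) ⊕ Fin 2) (ZMod 2)) - 1).rank = 1}))) ∨
    ((near D d).ncard = 36 ∧ ∃ p ∈ near D d, (near D d ∩ near D p).ncard = 15) := by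
  rcases planes_or_small hD hprim hZ hd hw h3 h2 hloc with hpl | hsmall
  · rcases FischerSymplecticMain88.main_of_primitive hD hprim hZ hpl with
      ⟨n, hn, e, he⟩ | ⟨m, hm, e, he⟩ | h
    · by_cases h7 : 7 ≤ n
      · exact Or.inl (Or.inl ⟨n, h7, e, he⟩)
      · exfalso
        have hτ : e d ∈ e '' D := ⟨d, hd, rfl⟩
        rw [he] at hτ
        have hsub : e '' near D d ⊆
            {σ : Equiv.Perm (Fin n) | σ.IsSwap ∧ σ ≠ e d ∧ Commute (e d) σ} := by
          rintro _ ⟨x, hx, rfl⟩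
          exact ⟨(Set.ext_iff.1 he _).1 (Set.mem_image_of_mem e hx.1),
            fun h => hx.2.1 (e.injective h), hx.2.2.map e⟩
        have h1 := (Set.ncard_le_ncard hsub (Set.toFinite _)).trans (swaps_card_le (by omega) hτ)
        rw [Set.ncard_image_of_injective _ e.injective] at h1
        have := ten_le_near hD hprim hZ hd hw h3 h2 hloc
        omega
    · exfalso
      obtain ⟨p, hp, q, hq, hpq, hall⟩ := symplectic_twins (le_trans (by norm_num) hm) he hd
      have ht := tsys_of_group hD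
      have hno := ThreeTransM23Parity34.no_trivial ht hprim hd
      obtain ⟨hgrp, -, hcen, -⟩ := FischerGlue6.local_hyps hD hprim hZ hd hw h3 h2
      refine hpq (congrArg Subtype.val (ThreeTransM23Parity34.img_inj ht hno
        (p := ⟨p, near_le_loc hp⟩) (q := ⟨q, near_le_loc hq⟩) hp hq
        (red_of_primitive hgrp
          (FischerLocalConn6.local_primitive hD hprim hZ hd hw h3 h2).2.1 hcen _
          ⟨_, hp, rfl⟩ _ ⟨_, hq, rfl⟩ ?_)))
      rintro _ ⟨x, hx, rfl⟩
      constructor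
      · intro h
        have h1 := (hall x hx).1 (ThreeTransM23Parity34.img_refl ht
          (p := ⟨p, near_le_loc hp⟩) (q := x) hp hx h)
        exact (show Commute (⟨q, near_le_loc hq⟩ : ↥(loc D d)) x from Subtype.ext h1).map
          (QuotientGroup.mk' _)
      · intro h
        have h1 := (hall x hx).2 (ThreeTransM23Parity34.img_refl ht
          (p := ⟨q, near_le_loc hq⟩) (q := x) hq hx h)
        exact (show Commute (⟨p, near_le_loc hp⟩ : ↥(loc D d)) x from Subtype.ext h1).map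
          (QuotientGroup.mk' _)
    · exact Or.inl (Or.inr h)
  · exact Or.inr hsmall

end Cfsg.Agent.FischerLocalSymp88
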