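import Cfsg.Agent.Lib.FischerUSixMu61
import Cfsg.Agent.Lib.ThreeTransM22Outer72
import Cfsg.Agent.Lib.ThreeTransM22Pres51
import Cfsg.Agent.Lib.Fi22Refl55

/-!
A primitive class of 3-transpositions with trivial centre and local group `PSU(n,2)`, `5 ≤ n`, modulo
the centre, is of type M(22).

The lemmas up to `centralizer_eq_loc` repeat those of `ThreeTransLine`, `ThreeTransM22Local72`,
`ThreeTransM22Lift72` and `ThreeTransM22Outer72` under the weaker hypothesis `Local22`.
-/

set_option autoImplicit false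
set_option linter.unusedSectionVars false
set_option linter.style.haveILetI false

namespace Cfsg.Agent.FischerM22Rung61

open Subgroup Cfsg.Agent.ThreeTransRel Cfsg.Agent.ThreeTransDescent
open Cfsg.Agent.UnitaryF4Geo Cfsg.Agent.UnitaryF4Line Matrix
open Cfsg.Agent.ThreeTransLine (LineAt Five lineAt_of_iso)
open Cfsg.Agent.ThreeTransM22Local72 (chart_of_iso centre_gen centre_eq)
open Cfsg.Agent.ThreeTransM22Lift72 Cfsg.Agent.ThreeTransM22Frame72
open Cfsg.Agent.ThreeTransM22Std72 Cfsg.Agent.ThreeTransM22Outer72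
open Cfsg.Agent.ThreeTransM22Count72 (dvd_of_partition)

/-- Trivial centre and a member with local group `PSU(6,2)`. -/
def Local22 (G : Type*) [Group G] (D : Set G) : Prop :=
  Subgroup.center G = ⊥ ∧ ∃ d ∈ D, ∃ (F : Type) (_ : Field F) (_ : Fintype F), Fintype.card F = 4 ∧
    Nonempty (↥(loc D d) ⧸ Subgroup.center ↥(loc D d) ≃* Cfsg.PSU 6 F 2)

variable {G : Type*} [Group G] [Finite G] {D : Set G}

/-- Lines at every member. -/
theorem lineAt_all (ht : TSys D) (hprim : Cfsg.IsPrimitiveUnderConj D)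
    (h22 : Local22 G D) : ∀ s ∈ D, LineAt D s := by
  obtain ⟨-, d, hd, F, _, _, hF, ⟨e⟩⟩ := h22
  intro s hs
  obtain ⟨g, hg⟩ := hprim.1 s hs d hd
  have hnear : ∀ y, y ∈ near D s ↔ g * y * g⁻¹ ∈ near D d := by
    intro y
    have e1 : g⁻¹ * (g * y * g⁻¹) * g⁻¹⁻¹ = y := by group
    constructor
    · intro hy
      exact ⟨ht.conj g y hy.1, fun h => hy.2.1 (mul_left_cancel (mul_right_cancel (h.trans hg.symm))),
        hg ▸ (Commute.conj_iff g).mpr hy.2.2⟩
    · intro hy
      refine ⟨e1 ▸ ht.conj g⁻¹ _ hy.1, fun h => hy.2.1 (by rw [h, hg]), ?_⟩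
      exact (Commute.conj_iff g).mp (hg.symm ▸ hy.2.2)
  refine ⟨?_, ?_⟩
  swap
  · intro y hy z hz
    obtain ⟨k, hk, hkz⟩ := (lineAt_of_iso ht hprim hd hF e).2 _ ((hnear y).mp hy) _ ((hnear z).mp hz)
    refine ⟨g⁻¹ * k * g, ?_, ?_⟩
    · clear hkz
      induction hk using Subgroup.closure_induction with
      | mem w hw =>
        refine subset_closure ((hnear _).mpr ?_)
        rwa [show g * (g⁻¹ * w * g) * g⁻¹ = w by group]
      | one => simp
      | mul p q _ _ hp hq =>
        rw [show g⁻¹ * (p * q) * g = (g⁻¹ * p * g) * (g⁻¹ * q * g) by group]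
        exact mul_mem hp hq
      | inv p _ hp =>
        rw [show g⁻¹ * p⁻¹ * g = (g⁻¹ * p * g)⁻¹ by group]
        exact inv_mem hp
    · rw [show g⁻¹ * k * g * y * (g⁻¹ * k * g)⁻¹ = g⁻¹ * (k * (g * y * g⁻¹) * k⁻¹) * g by group, hkz]
      group
  intro b hb c hc hbc hne
  obtain ⟨l, hl⟩ := (lineAt_of_iso ht hprim hd hF e).1 _ ((hnear b).mp hb) _ ((hnear c).mp hc)
    ((Commute.conj_iff g).mpr hbc) (fun h => hne (mul_left_cancel (mul_right_cancel h)))
  have hinvol : ∀ y : G, g⁻¹ * (g * y * g⁻¹) * g⁻¹⁻¹ = y := fun y => by group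
  have hinvol' : ∀ y : G, g * (g⁻¹ * y * g⁻¹⁻¹) * g⁻¹ = y := fun y => by group
  have hmem : ∀ p, g * p * g⁻¹ ∈ l ↔ p ∈ l.map (MulAut.conj g⁻¹) := by
    intro p
    constructor
    · intro hp; exact List.mem_map.mpr ⟨_, hp, hinvol p⟩
    · intro hp
      obtain ⟨q, hq, rfl⟩ := List.mem_map.mp hp
      rw [MulAut.conj_apply, hinvol']; exact hq
  refine ⟨l.map (MulAut.conj g⁻¹), ⟨hl.nodup.map (MulAut.conj g⁻¹).injective, by
    rw [List.length_map, hl.len], fun p hp => (hnear p).mpr (hl.near_mem _ ((hmem p).mpr hp)),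
    (hmem b).mp hl.left_mem, (hmem c).mp hl.right_mem, ?_, ?_, ?_, ?_⟩⟩
  · intro p hp q hq
    exact (Commute.conj_iff g).mp (hl.comm _ ((hmem p).mpr hp) _ ((hmem q).mpr hq))
  · intro y hy
    rw [← map_list_prod, MulAut.conj_apply, ← Commute.conj_iff g, hinvol']
    exact hl.central _ ((hnear y).mp hy)
  · intro y hy hyb hyc p hp
    exact (Commute.conj_iff g).mp (hl.closed _ ((hnear y).mp hy) ((Commute.conj_iff g).mpr hyb)
      ((Commute.conj_iff g).mpr hyc) _ ((hmem p).mpr hp))
  · intro q hq hall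
    refine (hmem q).mp (hl.maximal _ ((hnear q).mp hq) fun y hy h1 h2 => ?_)
    rw [← hinvol' y] at h1 h2 hy ⊢
    exact (Commute.conj_iff g).mpr (hall _ ((hnear _).mpr hy) ((Commute.conj_iff g).mp h1)
      ((Commute.conj_iff g).mp h2))


/-- Type M(22): the local groups are quasisimple with centre generated by the member, and the group is
simple. -/
theorem main (hD : Cfsg.IsThreeTranspositionGroup D) (hprim : Cfsg.IsPrimitiveUnderConj D)
    (h22 : Local22 G D) :
    IsSimpleGroup G ∧ ∀ s ∈ D, s ∈ loc D s ∧ Cfsg.IsQuasisimple ↥(loc D s) ∧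
      Subgroup.center ↥(loc D s) = (Subgroup.zpowers s).subgroupOf (loc D s) := by
  classical
  have ht : TSys D := tsys_of_group hD
  have hline := lineAt_all ht hprim h22
  obtain ⟨hZ, d, hd, F, _, _, hF, ⟨e⟩⟩ := h22
  haveI : FourField F := ⟨hF⟩
  obtain ⟨φ, C⟩ := chart_of_iso ht hprim hd e
  have hU := ThreeTransPairs.psu6Simple F hF
  haveI := hU.1
  -- transport along conjugation
  have hnearmap : ∀ g s : G, (MulAut.conj g) '' near D s = near D (g * s * g⁻¹) := by
    intro g s
    refine Set.ext fun y => ⟨?_, fun hy => ⟨g⁻¹ * y * g, ?_, by simp [mul_assoc]⟩⟩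
    · rintro ⟨x, hx, rfl⟩
      exact ⟨ht.conj g x hx.1, fun e => hx.2.1 (mul_left_cancel (mul_right_cancel e)),
        (Commute.conj_iff g).mpr hx.2.2⟩
    · have := ht.conj g⁻¹ y hy.1
      rw [inv_inv] at this
      refine ⟨this, fun e => hy.2.1 (by rw [← e]; group), (Commute.conj_iff g).mp ?_⟩
      rw [show g * (g⁻¹ * y * g) * g⁻¹ = y by group]; exact hy.2.2
  obtain ⟨a, ha, hca⟩ := centre_eq hD hprim hZ hd C
  have hcentre : ∀ s ∈ D, ∀ z ∈ loc D s, (∀ y ∈ near D s, Commute y z) → z = 1 ∨ z = s := by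
    intro s hs z hz hzc
    obtain ⟨g, hg⟩ := hprim.1 s hs a ha
    have hz' : g * z * g⁻¹ ∈ loc D a := by
      have := mem_map_of_mem (MulAut.conj g).toMonoidHom hz
      rw [loc, MonoidHom.map_closure] at this
      rw [← hg, loc, ← hnearmap]
      exact this
    rcases hca _ hz' (fun y hy => by
      rw [← hg, ← hnearmap] at hy
      obtain ⟨x, hx, rfl⟩ := hy
      exact (Commute.conj_iff g).mpr (hzc x hx)) with e | e
    · exact Or.inl (conj_eq_one_iff.mp e)
    · rw [← hg] at e; exact Or.inr (mul_left_cancel (mul_right_cancel e))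
  -- three points and their completions
  obtain ⟨-, -, S, b, -, hblen, hSlen, horth, hpw, hnz, hprod, p₁, hp₁, hp₁'⟩ :=
    ThreeTransM22Hyperoval72.exists_ovals (F := F)
  have hlift : ∀ p : {u : Fin 6 → F // h u u = 0}, ∃ x : G, p.1 ≠ 0 →
      ∃ hx : x ∈ near D d, φ ⟨x, near_le_loc hx⟩ = QuotientGroup.mk' _ (T p.1 p.2) := by
    intro p
    by_cases hp : p.1 = 0
    · exact ⟨1, fun h => (h hp).elim⟩
    · obtain ⟨x, hx, ex⟩ := C.lift p.2 hp; exact ⟨x, fun _ => ⟨hx, ex⟩⟩
  choose L hL using hlift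
  have hne : ∀ k, ∀ p ∈ b ++ S k, ∀ q ∈ b ++ S k, (∀ c : F, p.1 ≠ c • q.1) → L p ≠ L q := by
    intro k p hp q hq hc e
    obtain ⟨hx, ex⟩ := hL p (hnz k p hp)
    obtain ⟨hy, ey⟩ := hL q (hnz k q hq)
    obtain ⟨c, hc'⟩ := C.eq_iff hx hy p.2 q.2 (hnz k p hp) ex ey e
    exact hc c hc'
  have hCL : ∀ k, CList D ((b ++ S k).map L) := by
    intro k
    refine ⟨fun x hx => ?_, ?_, fun x hx y hy => ?_⟩
    · obtain ⟨p, hp, rfl⟩ := List.mem_map.mp hx; exact (hL p (hnz k p hp)).1.1
    · exact List.pairwise_map.mpr ((hpw k).imp_of_mem fun hp hq hpq => hne k _ hp _ hq hpq)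
    · obtain ⟨p, hp, rfl⟩ := List.mem_map.mp hx
      obtain ⟨q, hq, rfl⟩ := List.mem_map.mp hy
      exact (C.orth (hL p (hnz k p hp)).1 (hL q (hnz k q hq)).1 p.2 q.2 (hnz k p hp)
        (hL p (hnz k p hp)).2 (hL q (hnz k q hq)).2).mpr (horth k p hp q hq)
  -- every member lies in its local group
  have hpair : ∀ s ∈ D, ∃ p ∈ near D s, ∃ q ∈ near D s, p ≠ q ∧ Commute p q := by
    intro s hs
    obtain ⟨g, hg⟩ := hprim.1 d hd s hs
    obtain ⟨x, y, z, hxyz⟩ := List.length_eq_three.mp hblen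
    have hmx : x ∈ b ++ S true := by simp [hxyz]
    have hmy : y ∈ b ++ S true := by simp [hxyz]
    have hxy : ∀ c : F, x.1 ≠ c • y.1 := by
      have := hpw true
      rw [hxyz, List.cons_append] at this
      exact (List.pairwise_cons.mp this).1 y (by simp)
    refine ⟨g * L x * g⁻¹, ?_, g * L y * g⁻¹, ?_,
      fun e => hne true x hmx y hmy hxy (mul_left_cancel (mul_right_cancel e)),
      (Commute.conj_iff g).mpr ((hCL true).comm _ (List.mem_map_of_mem hmx) _
        (List.mem_map_of_mem hmy))⟩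
    · rw [← hg, ← hnearmap]; exact ⟨L x, (hL x (hnz true x hmx)).1, rfl⟩
    · rw [← hg, ← hnearmap]; exact ⟨L y, (hL y (hnz true y hmy)).1, rfl⟩
  have hmem : ∀ s ∈ D, s ∈ loc D s := by
    intro s hs
    obtain ⟨p, hp, q, hq, hpq, hc⟩ := hpair s hs
    obtain ⟨l, hl⟩ := (hline s hs).1 p hp q hq hc hpq
    have h6 := ThreeTransLine.six ht hprim hZ hline hs hl hp hq hc hpq
    have hin : l.prod⁻¹ ∈ loc D s :=
      inv_mem (list_prod_mem fun x hx => near_le_loc (hl.near_mem x hx))
    rwa [← eq_inv_of_mul_eq_one_left h6] at hin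
  have hcen : ∀ s ∈ D, Subgroup.center ↥(loc D s) = (Subgroup.zpowers s).subgroupOf (loc D s) := by
    intro s hs
    refine le_antisymm (fun z hz => ?_) (fun z hz => ?_)
    · rw [mem_subgroupOf]
      rcases hcentre s hs z z.2 (fun y hy =>
        congrArg Subtype.val (mem_center_iff.mp hz ⟨y, near_le_loc hy⟩)) with e | e
      · rw [e]; exact one_mem _
      · rw [e]; exact mem_zpowers s
    · obtain ⟨k, hk⟩ := mem_zpowers_iff.mp (mem_subgroupOf.mp hz)
      refine mem_center_iff.mpr fun x => Subtype.ext ?_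
      show (x : G) * z = z * x
      rw [← hk]
      exact ((commute_d_of_mem_loc x.2).symm.zpow_right k).eq
  -- the local group at `d` is perfect
  have hperf : commutator ↥(loc D d) = ⊤ := by
    by_contra hM
    set M := commutator ↥(loc D d) with hMdef
    set χ := QuotientGroup.mk' M with hχ
    set dd : ↥(loc D d) := ⟨d, hmem d hd⟩ with hdd
    have hχcomm : ∀ g x, χ (g * x * g⁻¹) = χ x := fun g x => by
      refine (QuotientGroup.mk'_eq_mk' _).mpr ⟨g * x⁻¹ * g⁻¹ * x, ?_, by group⟩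
      rw [hMdef, _root_.commutator_def]
      have := commutator_mem_commutator (mem_top g) (mem_top x⁻¹)
      simpa [commutatorElement_def] using this
    have hker : ∀ x, φ x = 1 → x = 1 ∨ x = dd := by
      intro x hx
      rcases hcentre d hd x x.2 ((C.one x).mp hx) with e | e
      · exact Or.inl (Subtype.ext e)
      · exact Or.inr (Subtype.ext e)
    have hφM : M.map φ = ⊤ := by
      rw [hMdef, _root_.commutator_def, Subgroup.map_commutator, map_top_of_surjective _ C.surj,
        ← _root_.commutator_def]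
      rcases Subgroup.Normal.eq_bot_or_eq_top (H := commutator (Cfsg.PSU 6 F 2)) inferInstance with
        h0 | h0
      · exfalso
        obtain ⟨x, y, hxy⟩ := hU.2
        rw [_root_.commutator_def, Subgroup.commutator_eq_bot_iff_le_centralizer] at h0
        exact hxy ((mem_centralizer_iff.mp (h0 (mem_top y))) x (mem_top x))
      · exact h0
    have hcase : ∀ x, χ x = 1 ∨ χ x = χ dd := by
      intro x
      obtain ⟨m, hm, hme⟩ := mem_map.mp (hφM ▸ mem_top (φ x) : φ x ∈ M.map φ)
      rcases hker (x * m⁻¹) (by rw [map_mul, map_inv, hme, mul_inv_cancel]) with e | e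
      · left; rw [mul_inv_eq_one.mp e]; exact (QuotientGroup.eq_one_iff m).mpr hm
      · right
        rw [← e, map_mul, map_inv, show χ m = 1 from (QuotientGroup.eq_one_iff m).mpr hm, inv_one,
          mul_one]
    have hdd1 : χ dd ≠ 1 := by
      intro e
      apply hM
      rw [← top_le_iff]
      intro x _
      refine (QuotientGroup.eq_one_iff x).mp ?_
      rcases hcase x with k | k
      · exact k
      · exact k.trans e
    have hy : ∀ y (hy : y ∈ near D d), χ ⟨y, near_le_loc hy⟩ = χ dd := by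
      intro y hy
      refine (hcase _).resolve_left fun e1 => hdd1 ?_
      have hall : loc D d ≤ M.map (loc D d).subtype := (closure_le _).mpr fun x hx => by
        obtain ⟨g, hg, hgx⟩ := (hline d hd).2 y hy x hx
        refine mem_map.mpr ⟨⟨g, hg⟩ * ⟨y, near_le_loc hy⟩ * ⟨g, hg⟩⁻¹, ?_, hgx⟩
        exact (QuotientGroup.eq_one_iff _).mp ((hχcomm _ _).trans e1)
      obtain ⟨m, hm, e⟩ := mem_map.mp (hall dd.2)
      rw [← show m = dd from Subtype.ext e]
      exact (QuotientGroup.eq_one_iff m).mpr hm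
    have hsix : ∀ k, ((b ++ S k).map L).prod = 1 := by
      intro k
      set Lk : List ↥(loc D d) := (b ++ S k).attach.map fun p =>
        (⟨L p.1, near_le_loc (hL p.1 (hnz k p.1 p.2)).1⟩ : ↥(loc D d)) with hLk
      have e0 : (Lk.prod : G) = ((b ++ S k).map L).prod := by
        rw [Subgroup.val_list_prod, hLk, List.map_map]
        exact congrArg List.prod (List.attach_map_val (l := b ++ S k) (f := L))
      have e1 : φ Lk.prod = 1 := by
        rw [map_list_prod, hLk, List.map_map]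
        have : ((b ++ S k).attach.map (φ ∘ fun p =>
            (⟨L p.1, near_le_loc (hL p.1 (hnz k p.1 p.2)).1⟩ : ↥(loc D d)))) =
            ((b ++ S k).map fun p => T p.1 p.2).map (QuotientGroup.mk' _) := by
          rw [List.map_map, ← List.attach_map_val (l := b ++ S k)]
          exact List.map_congr_left fun p _ => (hL p.1 (hnz k p.1 p.2)).2
        rw [this, ← map_list_prod, hprod k, map_one]
      have e2 : χ Lk.prod = χ dd ^ 6 := by
        rw [map_list_prod, hLk, List.map_map, List.prod_eq_pow_card _ (χ dd) (fun x hx => ?_)]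
        · congr 1; simp [hblen, hSlen k]
        · obtain ⟨p, -, rfl⟩ := List.mem_map.mp hx
          exact hy _ (hL p.1 (hnz k p.1 p.2)).1
      have e3 : χ Lk.prod = 1 := by
        rw [e2, show 6 = 2 * 3 from rfl, pow_mul, pow_two, ← map_mul,
          show dd * dd = 1 from Subtype.ext (ht.sq d hd), map_one, one_pow]
      rcases hker _ e1 with e | e
      · rw [← e0, e]; rfl
      · exact absurd (e ▸ e3) hdd1
    -- three triples with one product
    have hlen3 : ∀ k, ((S k).map L).length = 3 := fun k => by rw [List.length_map, hSlen k]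
    have hsub : ∀ k, CList D ((S k).map L) := fun k =>
      (hCL k).sublist (by rw [List.map_append]; exact List.sublist_append_right ..)
    have hbC : CList D (b.map L) :=
      (hCL true).sublist (by rw [List.map_append]; exact List.sublist_append_left ..)
    have hpr : ∀ k, ((S k).map L).prod = (b.map L).prod := by
      intro k
      have := hsix k
      rw [List.map_append, List.prod_append] at this
      rw [eq_inv_of_mul_eq_one_right this, inv_eq_of_mul_eq_one_right (hbC.prod_sq ht)]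
    obtain ⟨l₂, -, -, -, -, hall⟩ :=
      S5463.two_triples ht hprim hZ hline hbC (by rw [List.length_map, hblen])
    have hout : ∀ k, ∀ p ∈ S k, L p ∉ b.map L := by
      intro k p hp hmem'
      have hnd := (hCL k).nodup
      rw [List.map_append, List.nodup_append] at hnd
      exact hnd.2.2 _ hmem' _ (List.mem_map_of_mem hp) rfl
    have hl2 : ∀ k, ∀ x, x ∈ (S k).map L ↔ x ∈ l₂ := by
      intro k
      refine (hall _ (hsub k) (hlen3 k) (hpr k)).resolve_left fun h => ?_
      obtain ⟨p, hp⟩ := List.exists_mem_of_length_pos (l := S k) (by rw [hSlen k]; norm_num)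
      exact hout k p hp ((h _).mp (List.mem_map_of_mem hp))
    obtain ⟨q, hq, hqe⟩ := List.mem_map.mp
      ((hl2 false _).mpr ((hl2 true _).mp (List.mem_map_of_mem (f := L) hp₁)))
    have hn1 := hnz true p₁ (List.mem_append_right _ hp₁)
    have hn2 := hnz false q (List.mem_append_right _ hq)
    obtain ⟨c, hc⟩ := C.eq_iff (hL p₁ hn1).1 (hL q hn2).1 p₁.2 q.2 hn1 (hL p₁ hn1).2 (hL q hn2).2
      hqe.symm
    exact hp₁' q hq c hc
  haveI : Nontrivial (↥(loc D d) ⧸ Subgroup.center ↥(loc D d)) := e.toEquiv.nontrivial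
  have hqs : Cfsg.IsQuasisimple ↥(loc D d) :=
    ⟨⟨hperf⟩, IsSimpleGroup.isSimpleGroup_of_surjective (H := ↥(loc D d) ⧸ Subgroup.center ↥(loc D d))
      e.symm.toMonoidHom e.symm.surjective⟩
  have hqall : ∀ s ∈ D, Cfsg.IsQuasisimple ↥(loc D s) := by
    intro s hs
    obtain ⟨g, hg⟩ := hprim.1 d hd s hs
    have hm : (loc D d).map (MulAut.conj g).toMonoidHom = loc D s := by
      rw [loc, loc, MonoidHom.map_closure, ← hg, ← hnearmap]; rfl
    exact ComponentsBasic.isQuasisimple_of_mulEquiv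
      (((loc D d).equivMapOfInjective _ (MulAut.conj g).injective).trans (MulEquiv.subgroupCongr hm)) hqs
  refine ⟨?_, fun s hs => ⟨hmem s hs, hqall s hs, hcen s hs⟩⟩
  obtain ⟨p, hp, q, hq, hpq, hc⟩ := hpair d hd
  obtain ⟨L', hn, hLq, hidx, -⟩ := (S5354.result hD hprim ⟨p, hp.1, q, hq.1, hpq, hc⟩).1
  haveI := hn
  have hHL : ∀ s ∈ D, loc D s ≤ L' := by
    intro s hs x hx
    have hsub : commutator G ≤ L' := by
      rcases (show L'.index = 1 ∨ L'.index = 2 by
        have : L'.index ≠ 0 := Subgroup.index_ne_zero_of_finite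
        omega) with k | k
      · rw [Subgroup.index_eq_one.mp k]; exact le_top
      · have hc2 : Nat.card (G ⧸ L') = 2 := k
        haveI : Fact (Nat.Prime 2) := ⟨Nat.prime_two⟩
        haveI : IsCyclic (G ⧸ L') := isCyclic_of_prime_card hc2
        exact (Subgroup.Normal.quotient_commutative_iff_commutator_le).mp
          ⟨⟨fun a b => IsCyclic.commGroup.mul_comm a b⟩⟩
    refine hsub ?_
    have := (hqall s hs).1.commutator_eq_top
    have hx' : (⟨x, hx⟩ : ↥(loc D s)) ∈ commutator ↥(loc D s) := this ▸ mem_top _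
    have := mem_map_of_mem (loc D s).subtype hx'
    rw [_root_.commutator_def, Subgroup.map_commutator] at this
    exact Subgroup.commutator_mono le_top le_top this
  have hLtop : L' = ⊤ := by
    rw [← top_le_iff, ← hD.2.2]
    exact (closure_le _).mpr fun s hs => hHL s hs (hmem s hs)
  subst hLtop
  haveI := (ComponentsBasic.isQuasisimple_of_mulEquiv Subgroup.topEquiv hLq).2
  obtain ⟨a₁, -, b₁, -, hab₁⟩ := hprim.2.1
  haveI : Nontrivial G := ⟨a₁, b₁, hab₁⟩
  exact IsSimpleGroup.isSimpleGroup_of_surjective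
    (((QuotientGroup.quotientMulEquivOfEq hZ).trans QuotientGroup.quotientBot) :
      G ⧸ Subgroup.center G ≃* G).toMonoidHom (MulEquiv.surjective _)


/-- Every member has a context, over one field. -/
theorem exists_ctx (hD : Cfsg.IsThreeTranspositionGroup D) (hprim : Cfsg.IsPrimitiveUnderConj D)
    (h22 : Local22 G D) :
    ∃ (F : Type) (_ : Field F) (_ : Fintype F) (_ : FourField F), ∀ s ∈ D,
      ∃ φ : ↥(loc D s) →* Cfsg.PSU 6 F 2, Ctx D s φ := by
  have ht := tsys_of_group hD
  have hmain := main hD hprim h22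
  have hline := lineAt_all ht hprim h22
  obtain ⟨hZ, d, hd, F, _, _, hF, ⟨e⟩⟩ := h22
  haveI : FourField F := ⟨hF⟩
  obtain ⟨φ, C⟩ := chart_of_iso ht hprim hd e
  obtain ⟨a, ha, hgen⟩ := centre_gen hD hprim hZ hd C
  refine ⟨F, inferInstance, inferInstance, inferInstance, fun s hs => ?_⟩
  have hnear : ∀ g x : G, ∀ y, y ∈ near D x → g * y * g⁻¹ ∈ near D (g * x * g⁻¹) := fun g x y hy =>
    ⟨ht.conj g y hy.1, fun h => hy.2.1 (mul_left_cancel (mul_right_cancel h)),
      (Commute.conj_iff g).mpr hy.2.2⟩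
  have honly : ∀ z : G, Commute s z → (∀ y ∈ near D s, Commute y z) → z = 1 ∨ z = s := by
    intro z hz hzc
    obtain ⟨g, hg⟩ := hprim.1 s hs a ha
    rcases hgen (g * z * g⁻¹) (hg ▸ (Commute.conj_iff g).mpr hz) (fun y hy => by
      have hy' := hnear g⁻¹ a y hy
      rw [show g⁻¹ * a * g⁻¹⁻¹ = s by rw [← hg]; group] at hy'
      have := (Commute.conj_iff g).mpr (hzc _ hy')
      rwa [show g * (g⁻¹ * y * g⁻¹⁻¹) * g⁻¹ = y by group] at this) with h | h
    · exact Or.inl (conj_eq_one_iff.mp h)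
    · rw [← hg] at h; exact Or.inr (mul_left_cancel (mul_right_cancel h))
  obtain ⟨g, hg⟩ := hprim.1 s hs d hd
  have hm : (loc D s).map (MulAut.conj g).toMonoidHom = loc D d := by
    rw [loc, loc, MonoidHom.map_closure]
    refine congrArg _ (Set.ext fun y => ⟨?_, fun hy => ⟨g⁻¹ * y * g, ?_, by simp [mul_assoc]⟩⟩)
    · rintro ⟨x, hx, rfl⟩
      exact hg ▸ hnear g s x hx
    · have := hnear g⁻¹ d y hy
      rw [inv_inv, show g⁻¹ * d * g = s by rw [← hg]; group] at this
      exact this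
  let E : ↥(loc D s) ≃* ↥(loc D d) :=
    ((loc D s).equivMapOfInjective _ (MulAut.conj g).injective).trans (MulEquiv.subgroupCongr hm)
  have hc : (Subgroup.center ↥(loc D s)).map (E : ↥(loc D s) →* ↥(loc D d)) =
      Subgroup.center ↥(loc D d) := by
    ext y
    simp only [mem_map, MonoidHom.coe_coe, mem_center_iff]
    refine ⟨?_, fun hy => ⟨E.symm y, fun z => E.injective ?_, E.apply_symm_apply y⟩⟩
    · rintro ⟨x, hx, rfl⟩ z
      obtain ⟨z, rfl⟩ := E.surjective z
      rw [← map_mul, ← map_mul, hx]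
    · rw [map_mul, map_mul, E.apply_symm_apply, hy]
  obtain ⟨ψ, Cs⟩ := chart_of_iso ht hprim hs ((QuotientGroup.congr _ _ E hc).trans e)
  exact ⟨ψ, ht, hprim, hZ, hline, fun x hx => (hmain.2 x hx).1, honly, hs, Cs⟩


/-- Type M(22): the centralizer of a member is its local group. -/
theorem centralizer_eq_loc (hD : Cfsg.IsThreeTranspositionGroup D)
    (hprim : Cfsg.IsPrimitiveUnderConj D) (h22 : Local22 G D) :
    ∀ s ∈ D, Subgroup.centralizer ({s} : Set G) = loc D s := by
  classical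
  have ht := tsys_of_group hD
  have hsimple := (main hD hprim h22).1
  obtain ⟨F, _, _, _, hctx⟩ := exists_ctx hD hprim h22
  intro s₀ hs₀
  refine le_antisymm (fun g₀ hg₀ => ?_) fun x hx =>
    mem_centralizer_singleton_iff.mpr (commute_d_of_mem_loc hx).symm.eq
  have hg₀' : Commute s₀ g₀ := (mem_centralizer_singleton_iff.mp hg₀ : Commute g₀ s₀).symm
  by_contra hg₀n
  have hloc : ∀ g s x : G, x ∈ loc D s → g * x * g⁻¹ ∈ loc D (g * s * g⁻¹) := by
    intro g s x hx
    have := mem_map_of_mem (MulAut.conj g).toMonoidHom hx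
    rw [loc, MonoidHom.map_closure] at this
    refine closure_mono ?_ this
    rintro _ ⟨y, hy, rfl⟩
    exact ⟨ht.conj g y hy.1, fun h => hy.2.1 (mul_left_cancel (mul_right_cancel h)),
      (Commute.conj_iff g).mpr hy.2.2⟩
  -- a maximal set with an odd number of conjugates
  letI : MulAction G {B : Set G // Blk D B} :=
    { smul := fun g B => ⟨MulAut.conj g '' B.1, B.2.conj ht g⟩
      one_smul := fun B => Subtype.ext (show MulAut.conj (1 : G) '' B.1 = B.1 by simp)
      mul_smul := fun g k B => Subtype.ext (show MulAut.conj (g * k) '' B.1 =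
        MulAut.conj g '' (MulAut.conj k '' B.1) by rw [Set.image_image]; simp [mul_assoc]) }
  obtain ⟨B, hodd⟩ : ∃ B : {B : Set G // Blk D B}, (MulAction.orbit G B).ncard % 2 = 1 := by
    by_contra hno
    push Not at hno
    have h1 : 2 ∣ (Set.univ : Set {B : Set G // Blk D B}).ncard :=
      dvd_of_partition 2 (fun B => MulAction.orbit G B) fun B _ =>
        ⟨MulAction.mem_orbit_self B, Set.subset_univ _, by have := hno B; omega,
          fun C hC => MulAction.orbit_eq_iff.mpr hC⟩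
    have h2 := odd_blocks ht (T := ∅) (Set.empty_subset D) (by simp)
    rw [Set.ncard_univ] at h1
    simp only [Set.empty_subset, and_true] at h2
    rw [← Nat.card_coe_set_eq] at h2
    change 2 ∣ Nat.card {B : Set G | Blk D B} at h1
    omega
  set N := MulAction.stabilizer G B with hN
  have hidx : N.index % 2 = 1 := by rw [hN, MulAction.index_stabilizer]; exact hodd
  have hmemN : ∀ g, g ∈ N ↔ ∀ x ∈ B.1, g * x * g⁻¹ ∈ B.1 := by
    intro g
    rw [hN, MulAction.mem_stabilizer_iff]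
    constructor
    · intro h x hx
      have := congrArg Subtype.val h
      exact this ▸ ⟨x, hx, rfl⟩
    · intro h
      refine Subtype.ext (Set.eq_of_subset_of_ncard_le ?_ ?_ (Set.toFinite _))
      · rintro _ ⟨x, hx, rfl⟩; exact h x hx
      · rw [show ((g • B : {B : Set G // Blk D B}) : Set G) = MulAut.conj g '' B.1 from rfl,
          Set.ncard_image_of_injective _ (MulAut.conj g).injective]
  letI : MulAction N B.1 :=
    { smul := fun g x => ⟨(g : G) * x * (g : G)⁻¹, (hmemN g).mp g.2 x x.2⟩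
      one_smul := fun x => Subtype.ext (by show (1 : G) * x * (1 : G)⁻¹ = x; group)
      mul_smul := fun g k x => Subtype.ext (by
        show (g * k : G) * x * (g * k : G)⁻¹ = g * (k * x * (k : G)⁻¹) * (g : G)⁻¹; group) }
  haveI : Fintype B.1 := Fintype.ofFinite _
  let χ : N →* ℤˣ := Equiv.Perm.sign.comp (MulAction.toPermHom N B.1)
  -- the three facts at each member of the set
  have hact : ∀ e ∈ B.1, Fintype.card B.1 = 22 ∧
      (∀ g ∈ loc D e, ∀ ρ : Equiv.Perm B.1, (∀ x, (ρ x : G) = g * x * g⁻¹) → Equiv.Perm.sign ρ = 1) ∧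
      ∀ g : G, Commute e g → g ∉ loc D e → ∃ k ∈ loc D e,
        ((k * g) * (k * g) = 1 ∨ (k * g) * (k * g) = e) ∧
        (∀ x ∈ B.1, (k * g) * x * (k * g)⁻¹ ∈ B.1) ∧
        ∀ ρ : Equiv.Perm B.1, (∀ x, (ρ x : G) = (k * g) * x * (k * g)⁻¹) → Equiv.Perm.sign ρ = -1 := by
    intro e he
    obtain ⟨φ, X⟩ := hctx e (B.2.sub he)
    exact plane_action X B.2 he
  have houtodd : ∀ e ∈ B.1, ∀ v : N, Commute e (v : G) → (v : G) ∉ loc D e → χ v = -1 := by
    intro e he v hc hv
    obtain ⟨-, hin, hout⟩ := hact e he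
    obtain ⟨k, hk, -, hkB, hs⟩ := hout v hc hv
    have hkN : k ∈ N := by
      have h1 : k * (v : G) ∈ N := (hmemN _).mpr hkB
      exact (mul_mem_cancel_right v.2).mp h1
    have h1 : χ (⟨k, hkN⟩ * v) = -1 := hs _ fun x => rfl
    rw [map_mul, show χ ⟨k, hkN⟩ = 1 from hin k hk _ fun x => rfl, one_mul] at h1
    exact h1
  -- an element outside the local group at a member of the set
  obtain ⟨e, he⟩ : B.1.Nonempty := by
    by_contra hne
    exact hne ⟨s₀, B.2.max s₀ hs₀ fun x hx => absurd ⟨x, hx⟩ hne⟩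
  obtain ⟨g, hg, hgn⟩ : ∃ g, Commute e g ∧ g ∉ loc D e := by
    obtain ⟨k, hk⟩ := hprim.1 s₀ hs₀ e (B.2.sub he)
    refine ⟨k * g₀ * k⁻¹, hk ▸ (Commute.conj_iff k).mpr hg₀', fun h => hg₀n ?_⟩
    have := hloc k⁻¹ _ _ h
    rwa [show k⁻¹ * (k * g₀ * k⁻¹) * k⁻¹⁻¹ = g₀ by group,
      show k⁻¹ * e * k⁻¹⁻¹ = s₀ by rw [← hk]; group] at this
  obtain ⟨k, hk, hsq, hkB, -⟩ := (hact e he).2.2 g hg hgn
  set u := k * g with hu
  have hun : u ∉ loc D e := fun h => hgn ((mul_mem_cancel_left hk).mp h)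
  have hue : Commute e u := (commute_d_of_mem_loc hk).mul_right hg
  have huN : u ∈ N := (hmemN _).mpr hkB
  have hu4 : u ^ 2 ^ 2 = 1 := by
    rw [show 2 ^ 2 = 2 * 2 from rfl, pow_mul, pow_two u, pow_two]
    rcases hsq with h | h <;> rw [h]
    · rw [one_mul]
    · exact ht.sq e (B.2.sub he)
  haveI : Fact (Nat.Prime 2) := ⟨Nat.prime_two⟩
  obtain ⟨j, -, hj⟩ := (Nat.dvd_prime_pow Nat.prime_two).mp (orderOf_dvd_of_pow_eq_one hu4)
  suffices hboth : (∀ (t : G) (m : ℕ), 2 ∣ m → ∀ hh : t⁻¹ * u ^ m * t ∈ N, χ ⟨_, hh⟩ = 1) ∧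
      ∀ (t : G) (hh : t⁻¹ * u * t ∈ N), χ ⟨_, hh⟩ = -1 by
    obtain ⟨n, hn, hV⟩ := TransferThompson.transfer_eq_pow_fixed χ hj (-1) hboth.1 hboth.2
    -- the transfer is trivial
    have hn2 : n % 2 = 1 := by
      have := hn; rw [Nat.ModEq] at this; omega
    haveI := hsimple
    rcases (inferInstance : (MonoidHom.transfer χ).ker.Normal).eq_bot_or_eq_top with h | h
    · have hcomm : ∀ a b : G, a * b = b * a := fun a b =>
        (MonoidHom.ker_eq_bot_iff _).mp h (by rw [map_mul, map_mul, mul_comm])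
      have htop : Subgroup.center G = ⊤ := eq_top_iff.mpr fun x _ => mem_center_iff.mpr fun y => hcomm y x
      rw [h22.1] at htop
      exact bot_ne_top htop
    · have h1 : MonoidHom.transfer χ u = 1 := MonoidHom.mem_ker.mp (h ▸ mem_top u)
      rw [hV, ← Nat.div_add_mod n 2, hn2, pow_add, pow_mul, neg_one_sq, one_pow, one_mul, pow_one] at h1
      exact absurd h1 (by decide)
  refine ⟨?_, ?_⟩
  · -- even powers
    intro t m hm hh
    obtain ⟨r, rfl⟩ := hm
    have hpow : u ^ (2 * r) = 1 ∨ u ^ (2 * r) = e := by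
      rw [pow_mul, pow_two]
      rcases hsq with h | h <;> rw [h]
      · exact Or.inl (one_pow r)
      · rcases Nat.even_or_odd r with ⟨i, rfl⟩ | ⟨i, rfl⟩
        · left; rw [← two_mul, pow_mul, pow_two, ht.sq e (B.2.sub he), one_pow]
        · right; rw [pow_add, pow_mul, pow_two, ht.sq e (B.2.sub he), one_pow, one_mul, pow_one]
    rcases hpow with h | h
    · rw [show (⟨_, hh⟩ : N) = 1 from Subtype.ext (by simp [h])]; exact map_one χ
    · set y := t⁻¹ * u ^ (2 * r) * t with hy
      have hyD : y ∈ D := by rw [hy, h]; simpa using ht.conj t⁻¹ e (B.2.sub he)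
      have hyB : y ∈ B.1 := B.2.mem_of_stable ht hyD ((hmemN y).mp hh)
      show Equiv.Perm.sign _ = 1
      rw [show MulAction.toPermHom N B.1 ⟨y, hh⟩ = 1 from Equiv.ext fun x => Subtype.ext
        (mul_inv_eq_iff_eq_mul.mpr (B.2.comm y hyB x x.2).eq), map_one]
  · -- fixed cosets
    intro t hh
    set v := t⁻¹ * u * t with hv
    set e' := t⁻¹ * e * t with he'
    have he'D : e' ∈ D := by rw [he']; simpa using ht.conj t⁻¹ e (B.2.sub he)
    have hvn : v ∉ loc D e' := fun h => hun (by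
      have := hloc t _ _ h
      rwa [show t * v * t⁻¹ = u by rw [hv]; group, show t * e' * t⁻¹ = e by rw [he']; group] at this)
    have hve' : Commute e' v := by
      have := (Commute.conj_iff t⁻¹).mpr hue
      simpa [he', hv] using this
    rcases Int.units_eq_one_or (χ ⟨v, hh⟩) with hχ | hχ
    swap
    · exact hχ
    exfalso
    rcases hsq with h | h
    · have hv2 : v * v = 1 := by
        rw [hv, show t⁻¹ * u * t * (t⁻¹ * u * t) = t⁻¹ * (u * u) * t by group, h]; group
      set ρ := MulAction.toPermHom N B.1 ⟨v, hh⟩ with hρ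
      have hρ2 : ρ * ρ = 1 := by
        rw [hρ, ← map_mul, show (⟨v, hh⟩ : N) * ⟨v, hh⟩ = 1 from Subtype.ext hv2, map_one]
      obtain ⟨i, hi, his⟩ := sign_involution ρ hρ2
      have hs1 : Equiv.Perm.sign ρ = 1 := hχ
      rw [hs1] at his
      obtain ⟨x, hx⟩ : ∃ x, ρ x = x := by
        by_contra hno
        push Not at hno
        rw [show {x | ρ x = x} = (∅ : Set B.1) from Set.eq_empty_iff_forall_notMem.mpr hno,
          Set.ncard_empty, (hact e he).1] at hi
        rw [show i = 11 by omega] at his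
        exact absurd his (by decide)
      have hxv : Commute (x : G) v := by
        have := congrArg Subtype.val hx
        exact (mul_inv_eq_iff_eq_mul.mp (show v * (x : G) * v⁻¹ = x from this)).symm
      have hvx : v ∈ loc D x := by
        by_contra hn
        exact absurd ((houtodd x x.2 ⟨v, hh⟩ hxv hn).symm.trans hχ) (by decide)
      obtain ⟨φ, X⟩ := hctx x (B.2.sub x.2)
      have hv1 : v ≠ 1 := fun h1 => hvn (h1 ▸ one_mem _)
      obtain ⟨l, hl, -, hlen, hlp⟩ := involution_product X hvx hv2 hv1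
      exact hvn (hlp ▸ product_inner ht X.self hl hlen he'D (hlp ▸ hve'))
    · have hv2 : v * v = e' := by
        rw [hv, he', show t⁻¹ * u * t * (t⁻¹ * u * t) = t⁻¹ * (u * u) * t by group, h]
      have he'N : e' ∈ N := hv2 ▸ mul_mem hh hh
      have he'B : e' ∈ B.1 := B.2.mem_of_stable ht he'D ((hmemN e').mp he'N)
      exact absurd ((houtodd e' he'B ⟨v, hh⟩ hve' hvn).symm.trans hχ) (by decide)


/-- The hypotheses of the diagram argument. -/
theorem hyp_of_local (hD : Cfsg.IsThreeTranspositionGroup D) (hprim : Cfsg.IsPrimitiveUnderConj D)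
    (h22 : Local22 G D) : ThreeTransM22Pat51.Hyp D := by
  have ht := tsys_of_group hD
  refine ⟨ht, hprim, exists_ctx hD hprim h22, ?_, centralizer_eq_loc hD hprim h22⟩
  obtain ⟨-, d, hd, F, _, _, hF, ⟨e⟩⟩ := h22
  haveI : FourField F := ⟨hF⟩
  obtain ⟨C⟩ := FischerUnChart61.chart_of_iso (by norm_num) ht hprim hd e
  have hch : ∀ t ∈ D, Nonempty (FischerNoUnLocal61.Chart F 6 D t) := fun t ht' => by
    obtain ⟨g, rfl⟩ := hprim.1 d hd t ht'
    exact FischerUnChart61.chart_conj ht C g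
  intro a ha b hb hn
  rw [← FischerUSixMu61.ncard_common hch (fun g x hx => ht.conj g x hx) hprim ha hb hn]
  congr 1
  ext g
  constructor
  · exact fun h => ⟨h.1.1, h.1.2.1, h.1.2.2, h.2.2.2⟩
  · rintro ⟨hg, hgd, hdg, hbg⟩
    exact ⟨⟨hg, hgd, hdg⟩, hg, fun e0 => hn (e0 ▸ hdg), hbg⟩

/-- A primitive 3-transposition group with trivial centre and local group `PSU(n,2)`, `5 ≤ n`, is of
type M(22). -/
theorem isOfTypeM22 {F : Type} [Field F] [Fintype F] (hF : Fintype.card F = 4) {n : ℕ} (hn : 5 ≤ n)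
    (hD : Cfsg.IsThreeTranspositionGroup D) (hprim : Cfsg.IsPrimitiveUnderConj D)
    (hZ : Subgroup.center G = ⊥) {d : G} (hd : d ∈ D)
    (e : ↥(Subgroup.closure {y : G | y ∈ D ∧ y ≠ d ∧ Commute d y}) ⧸
      Subgroup.center ↥(Subgroup.closure {y : G | y ∈ D ∧ y ≠ d ∧ Commute d y}) ≃*
        Cfsg.PSU n F 2) : Cfsg.IsOfTypeM22 G D := by
  obtain rfl := FischerUnChart61.eq_six_of_group hF hn hD hprim hd e
  have ht := tsys_of_group hD
  have h22 : Local22 G D := ⟨hZ, d, hd, F, inferInstance, inferInstance, hF, ⟨e⟩⟩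
  obtain ⟨φ, hφ⟩ := ThreeTransM22Pres51.exists_equiv_of_hyp (hyp_of_local hD hprim h22)
  obtain ⟨d', c', hd'eq, hc', hncc, hclause⟩ := Fi22Refl55.exists_clause φ
  have hd' : d' ∈ D := hd'eq ▸ hφ _
  have hconj : conjugatesOf d' = D := by
    ext y
    constructor
    · intro hy
      obtain ⟨g, hg⟩ := isConj_iff.mp (show IsConj d' y from hy)
      exact hg ▸ ht.conj g d' hd'
    · intro hy
      obtain ⟨g, hg⟩ := hprim.1 d' hd' y hy
      exact (show IsConj d' y from isConj_iff.mpr ⟨g, hg⟩)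
  rw [hconj] at hc' hclause
  refine ⟨hZ, d', hd', c', hc', hncc, ?_, 1, one_ne_zero, hclause⟩
  haveI : FourField F := ⟨hF⟩
  obtain ⟨g, rfl⟩ := hprim.1 d hd d' hd'
  have hm : (loc D d).map (MulAut.conj g).toMonoidHom = loc D (g * d * g⁻¹) := by
    rw [loc, loc, MonoidHom.map_closure]
    refine congrArg _ (Set.ext fun y => ⟨?_, fun hy => ⟨g⁻¹ * y * g, ?_, by simp [mul_assoc]⟩⟩)
    · rintro ⟨x, hx, rfl⟩
      exact ⟨ht.conj g x hx.1, fun e0 => hx.2.1 (mul_left_cancel (mul_right_cancel e0)),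
        (Commute.conj_iff g).mpr hx.2.2⟩
    · have := ht.conj g⁻¹ y hy.1
      rw [inv_inv] at this
      refine ⟨this, fun e0 => hy.2.1 (by rw [← e0]; group), (Commute.conj_iff g).mp ?_⟩
      rw [show g * (g⁻¹ * y * g) * g⁻¹ = y by group]; exact hy.2.2
  let E : ↥(loc D d) ≃* ↥(loc D (g * d * g⁻¹)) :=
    ((loc D d).equivMapOfInjective _ (MulAut.conj g).injective).trans (MulEquiv.subgroupCongr hm)
  have hc : (Subgroup.center ↥(loc D d)).map (E : ↥(loc D d) →* ↥(loc D (g * d * g⁻¹))) =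
      Subgroup.center ↥(loc D (g * d * g⁻¹)) := by
    ext y
    simp only [mem_map, MonoidHom.coe_coe, mem_center_iff]
    refine ⟨?_, fun hy => ⟨E.symm y, fun z => E.injective ?_, E.apply_symm_apply y⟩⟩
    · rintro ⟨x, hx, rfl⟩ z
      obtain ⟨z, rfl⟩ := E.surjective z
      rw [← map_mul, ← map_mul, hx]
    · rw [map_mul, map_mul, E.apply_symm_apply, hy]
  exact ⟨F, inferInstance, inferInstance, hF, ⟨(QuotientGroup.congr _ _ E hc).symm.trans e⟩⟩

end Cfsg.Agent.FischerM22Rung61
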