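import Cfsg.Agent.Lib.FischerLocalConn6
import Cfsg.Agent.Lib.ThreeTransM24Local88
import Cfsg.Agent.Lib.ThreeTransM24Prim59

/-!
# No local quotient of type M(24)

A primitive class of 3-transpositions with trivial centre and central 2- and 3-cores in a local group
cannot have a local quotient of type M(24): its commutation graph would be strongly regular of valency
306936 with 31671 common neighbours of two adjacent members, and every number of common neighbours of two
non-adjacent ones that divides `306936 * 275264` breaks the trace congruence at one of the primes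
5, 13, 19, 31, 37, 41, 43, 47.
-/

set_option autoImplicit false
set_option linter.unusedSectionVars false
set_option linter.style.haveILetI false

namespace Cfsg.Agent.FischerNoM24Local95

open Subgroup Cfsg.Agent.ThreeTransRel Cfsg.Agent.ThreeTransDescent
open Cfsg.Agent.ThreeTransM23Parity34

/-- The congruence at `p`. -/
def bad (p mu : ℕ) : Prop :=
  ((1 + 306936 + 84488431104 / mu : ℕ) : ZMod p) *
    ((RankThreeCount34.coef p 306936 31671 mu (p - 1)).2.1 +
      (RankThreeCount34.coef p 306936 31671 mu (p - 1)).2.2) ≠ 0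

instance (p mu : ℕ) : Decidable (bad p mu) := by unfold bad; infer_instance

/-- No value of the third parameter survives. -/
theorem no_mu {f mu : ℕ} (hmu : mu ≤ 306936) (hcount : f * mu = 84488431104)
    (htr : ∀ p ∈ [5, 13, 19, 31, 37, 41, 43, 47], ((1 + 306936 + f : ℕ) : ZMod p) *
      ((RankThreeCount34.coef p 306936 31671 mu (p - 1)).2.1 +
        (RankThreeCount34.coef p 306936 31671 mu (p - 1)).2.2) = 0) : False := by
  have hdvd : mu ∣ 2 ^ 9 * 3 ^ 3 * 7 ^ 2 * 124729 :=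
    ⟨f, by rw [mul_comm mu f, hcount]; norm_num⟩
  have h0 : 0 < mu := Nat.pos_of_ne_zero fun e => by simp [e] at hcount
  have hfe : f = 84488431104 / mu := by rw [← hcount, Nat.mul_div_cancel _ h0]
  obtain ⟨abc, c, habc, hc, hmu_eq⟩ := Nat.dvd_mul.mp hdvd
  obtain ⟨ab, g, hab, hg, rfl⟩ := Nat.dvd_mul.mp habc
  obtain ⟨a, b, ha, hb, rfl⟩ := Nat.dvd_mul.mp hab
  obtain ⟨i, hi, rfl⟩ := (Nat.dvd_prime_pow Nat.prime_two).mp ha
  obtain ⟨j, hj, rfl⟩ := (Nat.dvd_prime_pow Nat.prime_three).mp hb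
  obtain ⟨k, hk, rfl⟩ := (Nat.dvd_prime_pow (by norm_num : Nat.Prime 7)).mp hg
  obtain ⟨u, v, hu, hv, rfl⟩ := Nat.dvd_mul.mp (show c ∣ (11 * 17) * (23 * 29) by norm_num; exact hc)
  obtain ⟨u1, u2, hu1, hu2, rfl⟩ := Nat.dvd_mul.mp hu
  obtain ⟨v1, v2, hv1, hv2, rfl⟩ := Nat.dvd_mul.mp hv
  rw [Nat.dvd_prime (by norm_num)] at hu1 hu2 hv1 hv2
  have key : ∀ i : Fin 10, ∀ j : Fin 4, ∀ k : Fin 3, ∀ u1 ∈ [1, 11], ∀ u2 ∈ [1, 17],
      ∀ v1 ∈ [1, 23], ∀ v2 ∈ [1, 29],
      306936 < 2 ^ i.val * 3 ^ j.val * 7 ^ k.val * (u1 * u2 * (v1 * v2)) ∨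
      ∃ p ∈ [5, 13, 19, 31, 37, 41, 43, 47],
        bad p (2 ^ i.val * 3 ^ j.val * 7 ^ k.val * (u1 * u2 * (v1 * v2))) := by
    decide +kernel
  subst hmu_eq
  rcases key ⟨i, by omega⟩ ⟨j, by omega⟩ ⟨k, by omega⟩ u1 (by simpa using hu1) u2
    (by simpa using hu2) v1 (by simpa using hv1) v2 (by simpa using hv2) with h | ⟨p, hp, h⟩
  · exact absurd hmu (Nat.not_le.mpr h)
  · exact h (hfe ▸ htr p hp)

variable {G : Type*} [Group G] [Finite G] {D : Set G}

/-- No local quotient at a member is of type M(24). -/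
theorem false_of_local (hD : Cfsg.IsThreeTranspositionGroup D)
    (hprim : Cfsg.IsPrimitiveUnderConj D) (hZ : Subgroup.center G = ⊥) {d : G} (hd : d ∈ D)
    (h3 : Cfsg.pCore 3 ↥(loc D d) ≤ Subgroup.center ↥(loc D d))
    (h2 : Cfsg.pCore 2 ↥(loc D d) ≤ Subgroup.center ↥(loc D d))
    (h24 : Cfsg.IsOfTypeM24 (↥(loc D d) ⧸ Subgroup.center ↥(loc D d)) (imgSet D d)) : False := by
  classical
  have ht := tsys_of_group hD
  have hne : (near D d).Nonempty := by
    obtain ⟨-, u, ⟨x, hx, -⟩, -⟩ := id h24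
    exact ⟨x, hx⟩
  obtain ⟨hqgrp, -⟩ := FischerGlue6.local_hyps hD hprim hZ hd hne h3 h2
  obtain ⟨-, hqprim, -⟩ := FischerLocalConn6.local_primitive hD hprim hZ hd hne h3 h2
  obtain ⟨u₀, hu₀, -, -, c3, c2⟩ := ThreeTransM24Prim59.m24_cores hqgrp hqprim h24
  have hyp := ThreeTransM24Local88.hyp_all hqgrp hqprim hu₀ c3 c2 h24
  have hno := no_trivial ht hprim hd
  -- valency
  have hk : ∀ a ∈ D, (RankThreeCount34.nb D a).ncard = 306936 := by
    intro a ha
    obtain ⟨g, hg⟩ := hprim.1 d hd a ha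
    rw [ThreeTransM23Order34.near_eq_nb, ThreeTransM23Order34.ncard_near_conj ht hg,
      ← ncard_img ht hno, ThreeTransM24Order59.card_D (hyp u₀ hu₀)]
  -- common neighbours of commuting members
  have himg : ∀ {p : G}, p ∈ near D d → im D d p ∈ imgSet D d := fun hp =>
    ⟨⟨_, near_le_loc hp⟩, hp, (im_eq (near_le_loc hp)).symm⟩
  have hinj : ∀ {p q : G}, p ∈ near D d → q ∈ near D d → im D d p = im D d q → p = q := by
    intro p q hp hq h
    rw [im_eq (near_le_loc hp), im_eq (near_le_loc hq)] at h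
    exact congrArg Subtype.val (img_inj ht hno (p := ⟨p, _⟩) (q := ⟨q, _⟩) hp hq h)
  have hcomm : ∀ {p q : G}, p ∈ near D d → q ∈ near D d →
      (Commute (im D d p) (im D d q) ↔ Commute p q) := by
    intro p q hp hq
    rw [im_eq (near_le_loc hp), im_eq (near_le_loc hq)]
    exact ⟨fun h => img_refl ht (p := ⟨p, _⟩) (q := ⟨q, _⟩) hp hq h, fun h =>
      (show Commute (⟨p, near_le_loc hp⟩ : ↥(loc D d)) ⟨q, near_le_loc hq⟩ from Subtype.ext h).map
        (QuotientGroup.mk' (Subgroup.center ↥(loc D d)))⟩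
  have hl : ∀ a ∈ D, ∀ b ∈ RankThreeCount34.nb D a,
      (RankThreeCount34.nb D a ∩ RankThreeCount34.nb D b).ncard = 31671 := by
    intro a ha b hb
    obtain ⟨g, hg⟩ := hprim.1 a ha d hd
    have hb' : g * b * g⁻¹ ∈ near D d := by
      rw [← ThreeTransM23Local59.near_map ht hg]
      exact ⟨b, hb, rfl⟩
    rw [ThreeTransM23Order34.near_eq_nb, ThreeTransM23Order34.near_eq_nb,
      ← ThreeTransM23Order34.ncard_inter_conj ht (g := g) (a := a) (b := b), hg]
    generalize g * b * g⁻¹ = b' at hb'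
    rw [← ThreeTransM24Order59.ncard_near (hyp _ (himg hb')),
      ← Set.ncard_image_of_injOn (f := im D d) (s := near D d ∩ near D b')
        fun p hp q hq e => hinj hp.1 hq.1 e]
    congr 1
    ext y
    constructor
    · rintro ⟨p, hp, rfl⟩
      exact ⟨himg hp.1, fun e => hp.2.2.1 (hinj hp.1 hb' e), (hcomm hb' hp.1).mpr hp.2.2.2⟩
    · rintro ⟨⟨z, hz, rfl⟩, hne', hc⟩
      have e : im D d (z : G) = QuotientGroup.mk z := im_eq z.2
      refine ⟨z, ⟨hz, hz.1, fun h => hne' ?_, (hcomm hb' hz).mp (e.symm ▸ hc)⟩, e⟩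
      rw [← e, h]
  -- common neighbours of non-commuting members
  have htc := FischerGlue6.tc ht hprim
  obtain ⟨p₀, hp₀⟩ := id hne
  have hw : ∃ a ∈ D, ∃ b ∈ D, a ≠ b ∧ Commute a b :=
    ⟨d, hd, p₀, hp₀.1, hp₀.2.1.symm, hp₀.2.2⟩
  obtain ⟨hsol, -, hperf⟩ := FischerGlue6.class_hyps hD hprim hZ hw
  obtain ⟨c, hc, hdc⟩ : ∃ c ∈ D, ¬ Commute d c := by
    by_contra hall
    push Not at hall
    have := eq_one_of_central ht hZ fun y hy => (hall y hy).symm
    exact ThreeTrans.ne_one hD.1 hd this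
  set mu := (near D d ∩ near D c).ncard with hmu
  have hmu_const : ∀ a ∈ D, ∀ e ∈ D, ¬ Commute a e →
      (RankThreeCount34.nb D a ∩ RankThreeCount34.nb D e).ncard = mu := by
    intro a ha e he hae
    obtain ⟨g, hg⟩ := hprim.1 a ha d hd
    have hn : ¬ Commute d (g * e * g⁻¹) := fun h => hae ((Commute.conj_iff g).mp (hg.symm ▸ h))
    obtain ⟨m, hm1, hm2⟩ := ThreeTransp.ax_transitive htc (fun N hN hs _ => hsol N hN hs) hperf hd
      (ht.conj g e he) hc hn hdc
    rw [ThreeTransM23Order34.near_eq_nb, ThreeTransM23Order34.near_eq_nb,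
      ← ThreeTransM23Order34.ncard_inter_conj ht (g := m * g) (a := a) (b := e), hmu]
    have h1 : m * g * a * (m * g)⁻¹ = d := by
      rw [show m * g * a * (m * g)⁻¹ = m * (g * a * g⁻¹) * m⁻¹ by group, hg, hm1]
    have h2 : m * g * e * (m * g)⁻¹ = c := by
      rw [show m * g * e * (m * g)⁻¹ = m * (g * e * g⁻¹) * m⁻¹ by group, hm2]
    rw [h1, h2]
  have hmu_le : mu ≤ 306936 :=
    (Set.ncard_le_ncard Set.inter_subset_left).trans_eq (hk d hd)
  have hcount : (RankThreeCount34.far D d).ncard * mu = 84488431104 := by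
    rw [RankThreeCount34.count (k := 306936) (l := 31671) hd hk (fun b hb => hl d hd b hb)
      fun x hx => hmu_const d hd x hx.1 hx.2]
  refine no_mu hmu_le hcount fun p hp => ?_
  haveI : Fact p.Prime := ⟨by fin_cases hp <;> norm_num⟩
  have := RankThreeCount34.commute_trace D 306936 31671 mu hk hl hmu_const p
  rwa [RankThreeCount34.ncard_eq hd, hk d hd] at this

end Cfsg.Agent.FischerNoM24Local95
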