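import Cfsg.Agent.Lib.UnitaryF4Geo

/-!
No set of 3-transpositions has, at each of its members, the geometry of the isotropic points of
the unitary space of dimension `n` over the field with four elements, `5 ≤ n`, `n ≠ 6`.

For commuting `x`, `d` the members commuting with `x`, `d` and a fixed `c` (not commuting with `d`)
meet every class of the cone at `x` of the geometry at `d` exactly once; the height of this
lifting is additive on hyperbolic pairs. For `n ≥ 7` it is then additive on some orthogonal pair,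
giving twins in the geometry at a further member. For `n = 5` it is linear, so a product of four
transvections fixes the lifting, and moves the corresponding lifting at a further member.
-/

set_option autoImplicit false
set_option linter.unusedSectionVars false

namespace Cfsg.Agent.FischerNoUnLocal61

open Cfsg.Agent.UnitaryF4Geo

variable {F : Type*} [Field F] [Fintype F] [FourField F] {n : ℕ}

/-- A non-zero isotropic vector. -/
def Iso (v : Fin n → F) : Prop := v ≠ 0 ∧ h v v = 0

theorem Iso.smul {v : Fin n → F} (hv : Iso v) {c : F} (hc : c ≠ 0) : Iso (c • v) :=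
  ⟨smul_ne_zero hc hv.1, by rw [h_smul_left, h_smul_right, hv.2, mul_zero, mul_zero]⟩

theorem Iso.tv {u v : Fin n → F} (hu : Iso u) (hv : Iso v) : Iso (tv u v) := by
  refine ⟨fun e => hv.1 ?_, by rw [tv_isom hu.2, hv.2]⟩
  have := tv_tv hu.2 v
  rw [e, map_zero] at this
  exact this.symm

theorem h_add_add {u v : Fin n → F} (huv : h u v = 0) :
    h (u + v) (u + v) = h u u + h v v := by
  rw [h_add_left, h_add_right, h_add_right, huv, h_comm_zero huv, add_zero, zero_add]

theorem h_proj (p q v z : Fin n → F) :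
    h (proj p q v) z = h v z + h v q * h p z + h v p * h q z := by
  simp only [proj, h_add_left, h_smul_left]

theorem exists_hyp_in {u w p : Fin n → F} (H : Hyp u w) (hp : p ≠ 0) (hpp : h p p = 0)
    (hpu : h p u = 0) (hpw : h p w = 0) : ∃ r, Hyp p r ∧ h r u = 0 ∧ h r w = 0 := by
  obtain ⟨r, hr, hr'⟩ := exists_h_eq_one hp
  set s := proj u w r with hs
  have hps : h p s = 1 := by
    simp only [hs, proj, h_add_right, h_smul_right, hpu, hpw, hr', mul_zero, add_zero]
  have h1 := H.proj_p r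
  have h2 := H.proj_q r
  rw [← hs] at h1 h2
  rcases h_self s with e | e
  · exact ⟨s, ⟨hpp, e, hps⟩, h1, h2⟩
  · obtain ⟨o, ho⟩ := exists_omega (F := F)
    refine ⟨s + o • p, ⟨hpp, ?_, ?_⟩, ?_, ?_⟩
    · simp only [h_add_left, h_add_right, h_smul_left, h_smul_right, e, hpp, hps, h_comm_one hps]
      linear_combination ho + (o + 1) * (two_eq_zero (F := F))
    · rw [h_add_right, h_smul_right, hpp, hps, mul_zero, add_zero]
    · rw [h_add_left, h_smul_left, h1, hpu, mul_zero, add_zero]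
    · rw [h_add_left, h_smul_left, h2, hpw, mul_zero, add_zero]

/-- In the cone at an isotropic `u`, twins differ by a scalar and a multiple of `u`. -/
theorem twin_vec {u w p p' : Fin n → F} (H : Hyp u w) (hp : Iso p) (hp' : Iso p')
    (hpu : h p u = 0) (hp'u : h p' u = 0) (hnp : ∀ a : F, p ≠ a • u)
    (hnp' : ∀ a : F, p' ≠ a • u)
    (tw : ∀ q, Iso q → h q u = 0 → (∀ a : F, q ≠ a • u) → h q p = 0 → h q p' = 0) :
    ∃ c a : F, c ≠ 0 ∧ p' = c • p + a • u := by
  have hpp' : h p p' = 0 := tw p hp hpu hnp hp.2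
  set p₀ := p + h p w • u with hp₀
  have h0u : h p₀ u = 0 := by rw [hp₀, h_add_left, h_smul_left, hpu, H.pp, mul_zero, add_zero]
  have h0w : h p₀ w = 0 := by rw [hp₀, h_add_left, h_smul_left, H.pq, mul_one, add_self]
  have h00 : h p₀ p₀ = 0 := by
    rw [hp₀, h_add_add (by rw [h_smul_right, hpu, mul_zero]), hp.2, h_smul_left, h_smul_right,
      H.pp, mul_zero, mul_zero, add_zero]
  have h0ne : p₀ ≠ 0 := fun e => hnp _ (vec_eq_of_add e)
  obtain ⟨r, Hr, hru, hrw⟩ := exists_hyp_in H h0ne h00 h0u h0w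
  have h0p' : h p₀ p' = 0 := by
    rw [hp₀, h_add_left, h_smul_left, hpp', h_comm_zero hp'u, mul_zero, add_zero]
  set p'' := p' + h p' w • u + h p' r • p₀ with hp''
  by_cases hz : p'' = 0
  · have e : p' = h p' r • p + (h p' r * h p w + h p' w) • u := by
      apply vec_eq_of_add
      rw [← hz, hp'', hp₀]
      module
    refine ⟨h p' r, _, fun e0 => hnp' (h p' r * h p w + h p' w) ?_, e⟩
    conv_lhs => rw [e]
    rw [e0, zero_smul, zero_add]
  · exfalso
    have a1 : h p'' u = 0 := by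
      simp only [hp'', h_add_left, h_smul_left, hp'u, H.pp, h0u, mul_zero, add_zero]
    have a2 : h p'' w = 0 := by
      simp only [hp'', h_add_left, h_smul_left, H.pq, h0w, mul_zero, add_zero, mul_one, add_self]
    have a3 : h p'' p₀ = 0 := by
      simp only [hp'', h_add_left, h_smul_left, h_comm_zero h0p', h_comm_zero h0u, h00, mul_zero,
        add_zero]
    have a4 : h p'' r = 0 := by
      simp only [hp'', h_add_left, h_smul_left, h_comm_zero hru, Hr.pq, mul_zero, add_zero, mul_one,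
        add_self]
    have a5 : h p'' p'' = 0 := by
      have e2 : h p'' p' = 0 := by
        simp only [hp'', h_add_left, h_smul_left, hp'.2, h_comm_zero hp'u, h0p', mul_zero, add_zero]
      conv_lhs => arg 2; rw [hp'']
      rw [h_add_right, h_add_right, h_smul_right, h_smul_right, e2, a1, a3, mul_zero, mul_zero,
        add_zero, add_zero]
    obtain ⟨s, hs, hs'⟩ := exists_h_eq_one hz
    set t := proj p₀ r (proj u w s) with ht
    have b1 : h t p₀ = 0 := Hr.proj_p _
    have bu : h t u = 0 := by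
      rw [ht, h_proj, H.proj_p, h0u, hru, mul_zero, mul_zero, add_zero, add_zero]
    have bw : h t w = 0 := by
      rw [ht, h_proj, H.proj_q, h0w, hrw, mul_zero, mul_zero, add_zero, add_zero]
    have b2 : h t p'' = 1 := by
      simp only [ht, proj, h_add_left, h_smul_left, h_comm_zero a1, h_comm_zero a2, h_comm_zero a3,
        h_comm_zero a4, hs, mul_zero, add_zero]
    obtain ⟨o, ho⟩ := exists_omega (F := F)
    obtain ⟨q, hqq, hqu, hq0, hqp⟩ : ∃ q, h q q = 0 ∧ h q u = 0 ∧ h q p₀ = 0 ∧ h q p'' = 1 := by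
      rcases h_self t with e | e
      · exact ⟨t, e, bu, b1, b2⟩
      · refine ⟨t + o • p'', ?_, ?_, ?_, ?_⟩
        · simp only [h_add_left, h_add_right, h_smul_left, h_smul_right, e, a5, b2, h_comm_one b2]
          linear_combination ho + (o + 1) * (two_eq_zero (F := F))
        · rw [h_add_left, h_smul_left, bu, a1, mul_zero, add_zero]
        · rw [h_add_left, h_smul_left, b1, a3, mul_zero, add_zero]
        · rw [h_add_left, h_smul_left, b2, a5, mul_zero, add_zero]
    have hqne : ∀ a : F, q ≠ a • u := fun a e => by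
      rw [e, h_smul_left, h_comm_zero a1, mul_zero] at hqp
      exact zero_ne_one hqp
    have hqp0 : h q p = 0 := by
      rw [hp₀, h_add_right, h_smul_right, hqu, mul_zero, add_zero] at hq0
      exact hq0
    have := tw q ⟨fun e => hqne 0 (by rw [zero_smul]; exact e), hqq⟩ hqu hqne hqp0
    rw [hp'', h_add_right, h_add_right, h_smul_right, h_smul_right, this, hqu, hq0, mul_zero,
      mul_zero, add_zero, add_zero] at hqp
    exact zero_ne_one hqp

variable {G : Type*} [Group G]

/-- The members of `D` other than `d` commuting with `d`, as the isotropic points of a unitary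
space, conjugation being by transvections. -/
structure Chart (F : Type*) [Field F] [Fintype F] [FourField F] (n : ℕ) (D : Set G) (d : G) where
  pt : (Fin n → F) → G
  mem : ∀ {v}, Iso v → pt v ∈ D ∧ pt v ≠ d ∧ Commute d (pt v)
  surj : ∀ {g}, g ∈ D → g ≠ d → Commute d g → ∃ v, Iso v ∧ pt v = g
  eq_iff : ∀ {v w}, Iso v → Iso w → (pt v = pt w ↔ ∃ c : F, c ≠ 0 ∧ w = c • v)
  comm : ∀ {v w}, Iso v → Iso w → (Commute (pt v) (pt w) ↔ h v w = 0)
  conj : ∀ {v w}, Iso v → Iso w → pt v * pt w * (pt v)⁻¹ = pt (UnitaryF4Geo.tv v w)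

variable {D : Set G}

theorem Chart.pt_smul {d : G} (Y : Chart F n D d) {v : Fin n → F} (hv : Iso v) {c : F}
    (hc : c ≠ 0) : Y.pt (c • v) = Y.pt v :=
  ((Y.eq_iff hv (hv.smul hc)).2 ⟨c, hc, rfl⟩).symm

/-- Common neighbours of `t` and `a`. -/
def Cone (D : Set G) (t a g : G) : Prop :=
  g ∈ D ∧ g ≠ t ∧ g ≠ a ∧ Commute t g ∧ Commute a g

/-- Two members have the same neighbours in a cone. -/
def Twin (D : Set G) (t a g g' : G) : Prop :=
  ∀ k, Cone D t a k → Commute g k → Commute g' k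

/-- The lifting: the cone, cut by `b`. -/
def Sec (D : Set G) (t a b g : G) : Prop := Cone D t a g ∧ Commute b g

variable {t a b : G} (Y : Chart F n D t)

theorem exists_coords (ha : a ∈ D) (hat : a ≠ t) (hta : Commute t a) (hb : b ∈ D) (hbt : b ≠ t)
    (htb : Commute t b) (hab : ¬ Commute a b) :
    ∃ u w, Hyp u w ∧ Iso u ∧ Iso w ∧ Y.pt u = a ∧ Y.pt w = b := by
  obtain ⟨u, hu, rfl⟩ := Y.surj ha hat hta
  obtain ⟨w, hw, rfl⟩ := Y.surj hb hbt htb
  have hne : h u w ≠ 0 := fun e => hab ((Y.comm hu hw).2 e)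
  refine ⟨(h u w) ^ 2 • u, w, ⟨(hu.smul (pow_ne_zero 2 hne)).2, hw.2, ?_⟩,
    hu.smul (pow_ne_zero 2 hne), hw, Y.pt_smul hu (pow_ne_zero 2 hne), rfl⟩
  rw [h_smul_left, ← pow_succ, cube hne]

include Y

/-- Every member of a cone has a twin in the lifting. -/
theorem exists_sec (ha : a ∈ D) (hat : a ≠ t) (hta : Commute t a) (hb : b ∈ D) (hbt : b ≠ t)
    (htb : Commute t b) (hab : ¬ Commute a b) {g : G} (hg : Cone D t a g) :
    ∃ g', Sec D t a b g' ∧ Twin D t a g g' := by
  obtain ⟨u, w, H, hu, hw, rfl, rfl⟩ := exists_coords Y ha hat hta hb hbt htb hab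
  obtain ⟨hgD, hgt, hga, htg, hag⟩ := hg
  obtain ⟨p, hp, rfl⟩ := Y.surj hgD hgt htg
  have hpu : h p u = 0 := (Y.comm hp hu).1 hag.symm
  set p' := p + h p w • u with hp'
  have hq : h p' p' = 0 := by
    rw [hp', h_add_add (by rw [h_smul_right, hpu, mul_zero]), hp.2, h_smul_left, h_smul_right,
      hu.2, mul_zero, mul_zero, add_zero]
  have hne : ∀ c : F, p' ≠ c • u := by
    intro c e
    have e2 : p = (c + h p w) • u := by
      apply vec_eq_of_add
      rw [← vec_add_self (c • u)]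
      nth_rewrite 1 [← e]
      rw [hp']
      module
    by_cases hc : c + h p w = 0
    · exact hp.1 (by rw [e2, hc, zero_smul])
    · exact hga (by rw [e2, Y.pt_smul hu hc])
  have hI : Iso p' := ⟨fun e => hne 0 (by rw [zero_smul]; exact e), hq⟩
  have hp'u : h p' u = 0 := by
    rw [hp', h_add_left, h_smul_left, hpu, hu.2, mul_zero, add_zero]
  have hp'w : h p' w = 0 := by rw [hp', h_add_left, h_smul_left, H.pq, mul_one, add_self]
  refine ⟨Y.pt p', ⟨⟨(Y.mem hI).1, (Y.mem hI).2.1, ?_, (Y.mem hI).2.2,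
    (Y.comm hu hI).2 (h_comm_zero hp'u)⟩, (Y.comm hw hI).2 (h_comm_zero hp'w)⟩, ?_⟩
  · intro e
    obtain ⟨c, -, hc⟩ := (Y.eq_iff hu hI).1 e.symm
    exact hne c hc
  · rintro k ⟨hkD, hkt, hka, htk, hak⟩ hgk
    obtain ⟨q, hq', rfl⟩ := Y.surj hkD hkt htk
    have e1 := (Y.comm hu hq').1 hak
    have e2 := (Y.comm hp hq').1 hgk
    refine (Y.comm hI hq').2 ?_
    rw [hp', h_add_left, h_smul_left, e1, e2, mul_zero, add_zero]

/-- Twins in the lifting are equal. -/
theorem sec_unique (ha : a ∈ D) (hat : a ≠ t) (hta : Commute t a) (hb : b ∈ D) (hbt : b ≠ t)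
    (htb : Commute t b) (hab : ¬ Commute a b) {g g' : G} (hg : Sec D t a b g)
    (hg' : Sec D t a b g') (tw : Twin D t a g g') : g' = g := by
  obtain ⟨u, w, H, hu, hw, rfl, rfl⟩ := exists_coords Y ha hat hta hb hbt htb hab
  obtain ⟨⟨hgD, hgt, hga, htg, hag⟩, hbg⟩ := hg
  obtain ⟨⟨hgD', hgt', hga', htg', hag'⟩, hbg'⟩ := hg'
  obtain ⟨p, hp, rfl⟩ := Y.surj hgD hgt htg
  obtain ⟨p', hp', rfl⟩ := Y.surj hgD' hgt' htg'
  have hpu : h p u = 0 := (Y.comm hp hu).1 hag.symm
  have hp'u : h p' u = 0 := (Y.comm hp' hu).1 hag'.symm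
  have hn : ∀ {v : Fin n → F}, Iso v → Y.pt v ≠ Y.pt u → ∀ c : F, v ≠ c • u := by
    intro v hv hvu c e
    by_cases hc : c = 0
    · exact hv.1 (by rw [e, hc, zero_smul])
    · exact hvu (by rw [e, Y.pt_smul hu hc])
  obtain ⟨c, d, hc, e⟩ := twin_vec H hp hp' hpu hp'u (hn hp hga) (hn hp' hga') fun q hq hqu hqn hqp => by
    have hne : Y.pt q ≠ Y.pt u := fun e => by
      obtain ⟨k, -, hk⟩ := (Y.eq_iff hu hq).1 e.symm
      exact hqn k hk
    have := tw _ ⟨(Y.mem hq).1, (Y.mem hq).2.1, hne, (Y.mem hq).2.2,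
      (Y.comm hu hq).2 (h_comm_zero hqu)⟩ ((Y.comm hp hq).2 (h_comm_zero hqp))
    exact h_comm_zero ((Y.comm hp' hq).1 this)
  have hpw : h p w = 0 := (Y.comm hp hw).1 hbg.symm
  have hp'w : h p' w = 0 := (Y.comm hp' hw).1 hbg'.symm
  rw [e, h_add_left, h_smul_left, h_smul_left, hpw, H.pq, mul_zero, zero_add, mul_one] at hp'w
  rw [e, hp'w, zero_smul, add_zero, Y.pt_smul hp hc]

/-- Only `b` and its third point with `a` commute with the whole lifting. -/
theorem sec_perp (hn : 4 ≤ n) (ha : a ∈ D) (hat : a ≠ t) (hta : Commute t a) (hb : b ∈ D)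
    (hbt : b ≠ t) (htb : Commute t b) (hab : ¬ Commute a b) {g : G} (hg : g ∈ D) (hgt : g ≠ t)
    (htg : Commute t g) (hga : ¬ Commute a g) (hs : ∀ k, Sec D t a b k → Commute g k) :
    g = b ∨ g = a * b * a⁻¹ := by
  obtain ⟨u, w, H, hu, hw, rfl, rfl⟩ := exists_coords Y ha hat hta hb hbt htb hab
  obtain ⟨p, hp, rfl⟩ := Y.surj hg hgt htg
  have hz : proj u w p = 0 := by
    apply eq_zero_of_h
    intro r
    apply h_comm_zero
    have key : ∀ v, h v u = 0 → h v w = 0 → h v (proj u w p) = 0 := by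
      intro v hvu hvw
      refine Hyp.induction (P := fun v => h v (proj u w p) = 0) H hn ?_ ?_ hvu hvw
      · intro z hzu hzw hzz
        by_cases hz0 : z = 0
        · rw [hz0, h_zero_left]
        have hI : Iso z := ⟨hz0, hzz⟩
        have hne : Y.pt z ≠ Y.pt u := fun e => by
          obtain ⟨c, -, hc⟩ := (Y.eq_iff hu hI).1 e.symm
          rw [hc, h_smul_left, H.pq, mul_one] at hzw
          exact hz0 (by rw [hc, hzw, zero_smul])
        have := (Y.comm hp hI).1 (hs _ ⟨⟨(Y.mem hI).1, (Y.mem hI).2.1, hne, (Y.mem hI).2.2,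
          (Y.comm hu hI).2 (h_comm_zero hzu)⟩, (Y.comm hw hI).2 (h_comm_zero hzw)⟩)
        simp only [proj, h_add_right, h_smul_right, hzu, hzw, h_comm_zero this, mul_zero, add_zero]
      · intro z z' _ _ _ _ e e'
        rw [h_add_left, e, e', add_zero]
    have e1 := key (proj u w r) (H.proj_p r) (H.proj_q r)
    have f1 := h_comm_zero (H.proj_p p)
    have f2 := h_comm_zero (H.proj_q p)
    have e2 : h r (proj u w p) = h (proj u w r) (proj u w p) := by
      conv_lhs => rw [proj_decomp u w r]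
      rw [h_add_left, h_add_left, h_smul_left, h_smul_left, f1, f2, mul_zero, mul_zero, add_zero,
        zero_add]
    rw [e2, e1]
  have e := proj_decomp u w p
  rw [hz, add_zero] at e
  set β := h p u with hβ
  set α := h p w with hα
  have hβ0 : β ≠ 0 := fun e0 => hga ((Y.comm hu hp).2 (h_comm_zero e0))
  have hiso := hp.2
  rw [e] at hiso
  simp only [h_add_left, h_add_right, h_smul_left, h_smul_right, H.pp, H.qq, H.pq, H.qp] at hiso
  have hb2 : β ^ 2 * β ^ 2 = β := by rw [← pow_add]; exact pow_four β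
  rcases fixed_cases (x := α * β ^ 2) (by linear_combination hiso +
      α ^ 2 * hb2 - α * β ^ 2 * (two_eq_zero (F := F))) with h0 | h1
  · left
    rw [e, (mul_eq_zero.mp h0).resolve_right (pow_ne_zero 2 hβ0), zero_smul, zero_add,
      Y.pt_smul hw hβ0]
  · right
    rw [Y.conj hu hw, tv_apply, H.qp, one_smul]
    have hab' : α = β := by linear_combination β * h1 - α * cube hβ0
    rw [e, hab', ← smul_add, add_comm w u]
    refine Y.pt_smul ⟨fun e0 => ?_, ?_⟩ hβ0
    · have := H.pq
      rw [vec_eq_of_add e0, H.qq] at this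
      exact zero_ne_one this
    · rw [h_add_left, h_add_right, h_add_right, H.pp, H.qq, H.pq, H.qp, add_zero, zero_add,
        add_self]

omit Y

/-- Two commuting members `x`, `d`, a third one `c` and coordinates at `x` for them. -/
structure Ctx (F : Type*) [Field F] [Fintype F] [FourField F] (n : ℕ) (D : Set G) (x d c : G) where
  X : Chart F n D x
  Y : Chart F n D d
  xh : Fin n → F
  wh : Fin n → F
  hyp : Hyp xh wh
  ixh : Iso xh
  ptx : Y.pt xh = x
  hx : x ∈ D
  hd : d ∈ D
  hc : c ∈ D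
  dx : d ≠ x
  cx : c ≠ x
  cd : Commute x d
  cc : Commute x c
  ncd : ¬ Commute d c

variable {x d c : G} (K : Ctx F n D x d c)

/-- A vector of the cone at `x`. -/
def Val (v : Fin n → F) : Prop :=
  Iso v ∧ h v K.xh = 0 ∧ ∀ a : F, v ≠ a • K.xh

theorem val_of (e : Fin n → F) {v : Fin n → F} (hv : h v v = 0) (hvx : h v K.xh = 0)
    (hxe : h K.xh e = 0) (hve : h v e ≠ 0) : Val K v :=
  ⟨⟨fun e0 => hve (by rw [e0, h_zero_left]), hv⟩, hvx, fun a e0 => hve (by
    rw [e0, h_smul_left, hxe, mul_zero])⟩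

theorem Val.add_smul {K : Ctx F n D x d c} {v : Fin n → F} (hv : Val K v) (a : F) :
    Val K (v + a • K.xh) := by
  obtain ⟨⟨hne, hvv⟩, hvx, hn⟩ := hv
  have hn' : ∀ b : F, v + a • K.xh ≠ b • K.xh := fun b e => hn (b + a) (by
    apply vec_eq_of_add
    rw [← vec_add_self (b • K.xh)]
    nth_rewrite 2 [← e]
    module)
  refine ⟨⟨fun e => hn' 0 (by rw [zero_smul]; exact e), ?_⟩, ?_, hn'⟩
  · rw [h_add_add (by rw [h_smul_right, hvx, mul_zero]), hvv, h_smul_left, h_smul_right,
      K.hyp.pp, mul_zero, mul_zero, add_zero]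
  · rw [h_add_left, h_smul_left, hvx, K.hyp.pp, mul_zero, add_zero]

theorem Val.smul {K : Ctx F n D x d c} {v : Fin n → F} (hv : Val K v) {k : F} (hk : k ≠ 0) :
    Val K (k • v) :=
  ⟨hv.1.smul hk, by rw [h_smul_left, hv.2.1, mul_zero], fun a e => hv.2.2 (k⁻¹ * a) (by
    rw [mul_smul, ← e, smul_smul, inv_mul_cancel₀ hk, one_smul])⟩

theorem cone_pt {v : Fin n → F} (hv : Val K v) : Cone D x d (K.Y.pt v) := by
  refine ⟨(K.Y.mem hv.1).1, ?_, (K.Y.mem hv.1).2.1, ?_, (K.Y.mem hv.1).2.2⟩
  · intro e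
    obtain ⟨a, ha, e'⟩ := (K.Y.eq_iff K.ixh hv.1).1 (e.trans K.ptx.symm).symm
    exact hv.2.2 a e'
  · have := (K.Y.comm K.ixh hv.1).2 (h_comm_zero hv.2.1)
    rwa [K.ptx] at this

theorem val_of_cone {g : G} (hg : Cone D x d g) : ∃ v, Val K v ∧ K.Y.pt v = g := by
  obtain ⟨hgD, hgx, hgd, hxg, hdg⟩ := hg
  obtain ⟨v, hv, rfl⟩ := K.Y.surj hgD hgd hdg
  refine ⟨v, ⟨hv, ?_, fun a e => ?_⟩, rfl⟩
  · refine h_comm_zero ((K.Y.comm K.ixh hv).1 ?_)
    rw [K.ptx]
    exact hxg
  · by_cases ha : a = 0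
    · exact hv.1 (by rw [e, ha, zero_smul])
    · exact hgx (by rw [e, K.Y.pt_smul K.ixh ha, K.ptx])

theorem exists_height {v : Fin n → F} (hv : Val K v) :
    ∃ a : F, Sec D x d c (K.Y.pt (v + a • K.xh)) := by
  obtain ⟨g, hg, tw⟩ := exists_sec K.X K.hd K.dx K.cd K.hc K.cx K.cc K.ncd (cone_pt K hv)
  obtain ⟨v', hv', rfl⟩ := val_of_cone K hg.1
  obtain ⟨k, a, hk, e⟩ := twin_vec K.hyp hv.1 hv'.1 hv.2.1 hv'.2.1 hv.2.2 hv'.2.2
    fun q hq hqx hqn hqv => by
      have := tw _ (cone_pt K ⟨hq, hqx, hqn⟩) ((K.Y.comm hv.1 hq).2 (h_comm_zero hqv))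
      exact h_comm_zero ((K.Y.comm hv'.1 hq).1 this)
  refine ⟨k⁻¹ * a, ?_⟩
  have e2 : v + (k⁻¹ * a) • K.xh = k⁻¹ • v' := by
    rw [e, smul_add, smul_smul, smul_smul, inv_mul_cancel₀ hk, one_smul]
  rw [e2, K.Y.pt_smul hv'.1 (inv_ne_zero hk)]
  exact hg

open scoped Classical in
/-- The height of the lifting over a vector of the cone. -/
noncomputable def ht (v : Fin n → F) : F :=
  if hv : Val K v then (exists_height K hv).choose else 0

theorem ht_spec {v : Fin n → F} (hv : Val K v) : Sec D x d c (K.Y.pt (v + ht K v • K.xh)) := by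
  rw [ht, dif_pos hv]
  exact (exists_height K hv).choose_spec

theorem ht_eq {v : Fin n → F} (hv : Val K v) {a : F}
    (ha : Sec D x d c (K.Y.pt (v + a • K.xh))) : ht K v = a := by
  have h1 := hv.add_smul (ht K v)
  have h2 := hv.add_smul a
  have e := sec_unique K.X K.hd K.dx K.cd K.hc K.cx K.cc K.ncd (ht_spec K hv) ha
    fun k hk hgk => by
      obtain ⟨q, hq, rfl⟩ := val_of_cone K hk
      have := (K.Y.comm h1.1 hq.1).1 hgk
      refine (K.Y.comm h2.1 hq.1).2 ?_
      rw [h_add_left, h_smul_left, h_comm_zero hq.2.1, mul_zero, add_zero] at this ⊢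
      exact this
  obtain ⟨k, -, e'⟩ := (K.Y.eq_iff h1.1 h2.1).1 e.symm
  by_cases hk1 : k = 1
  · rw [hk1, one_smul, add_right_inj] at e'
    have : (a + ht K v) • K.xh = 0 := by rw [add_smul, e', vec_add_self]
    exact (eq_of_add_eq_zero ((smul_eq_zero.mp this).resolve_right K.ixh.1)).symm
  · exfalso
    have hk' : 1 + k ≠ 0 := fun e0 => hk1 (eq_of_add_eq_zero e0).symm
    have e3 : (1 + k) • v = (a + k * ht K v) • K.xh := by
      apply vec_eq_of_add
      rw [← vec_add_self (v + a • K.xh)]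
      nth_rewrite 2 [e']
      module
    exact hv.2.2 ((1 + k)⁻¹ * (a + k * ht K v)) (by
      rw [mul_smul, ← e3, smul_smul, inv_mul_cancel₀ hk', one_smul])

theorem ht_smul {v : Fin n → F} (hv : Val K v) {k : F} (hk : k ≠ 0) :
    ht K (k • v) = k * ht K v := by
  refine ht_eq K (hv.smul hk) ?_
  rw [mul_smul, ← smul_add, K.Y.pt_smul (hv.add_smul _).1 hk]
  exact ht_spec K hv

theorem val_add {v v' : Fin n → F} (hv : Val K v) (hv' : Val K v') (e : h v v' = 1) :
    Val K (v + v') := by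
  have hx : h (v + v') K.xh = 0 := by rw [h_add_left, hv.2.1, hv'.2.1, add_zero]
  refine val_of K v ?_ hx (h_comm_zero hv.2.1) ?_
  · rw [h_add_left, h_add_right, h_add_right, hv.1.2, hv'.1.2, e, h_comm_one e, add_zero,
      zero_add, add_self]
  · rw [h_add_left, hv.1.2, h_comm_one e, zero_add]
    exact one_ne_zero

/-- The height is additive on hyperbolic pairs. -/
theorem ht_add {v v' : Fin n → F} (hv : Val K v) (hv' : Val K v') (e : h v v' = 1) :
    ht K (v + v') = ht K v + ht K v' := by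
  refine ht_eq K (val_add K hv hv' e) ?_
  set s := v + ht K v • K.xh with hs
  set s' := v' + ht K v' • K.xh with hs'
  have h1 := hv.add_smul (ht K v)
  have h2 := hv'.add_smul (ht K v')
  rw [← hs] at h1
  rw [← hs'] at h2
  have est : v + v' + (ht K v + ht K v') • K.xh = tv s s' := by
    have : h s' s = 1 := by
      simp only [hs, hs', h_add_left, h_add_right, h_smul_left, h_smul_right, hv'.2.1,
        h_comm_zero hv.2.1, h_comm_one e, K.hyp.pp, mul_zero, add_zero]
    rw [tv_apply, this, one_smul, hs, hs']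
    module
  have hval : Val K (tv s s') := by rw [← est]; exact (val_add K hv hv' e).add_smul _
  rw [est]
  refine ⟨cone_pt K hval, ?_⟩
  rw [← K.Y.conj h1.1 h2.1]
  obtain ⟨-, t1⟩ := ht_spec K hv
  obtain ⟨-, t2⟩ := ht_spec K hv'
  rw [← hs] at t1
  rw [← hs'] at t2
  exact (t1.mul_right t2).mul_right t1.inv_right

/-- The defect of additivity. -/
noncomputable def dev (y z : Fin n → F) : F := ht K (y + z) + ht K y + ht K z

theorem dev_comm (y z : Fin n → F) : dev K y z = dev K z y := by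
  rw [dev, dev, add_comm y z]; ring

theorem dev_smul {y z : Fin n → F} (hy : Val K y) (hz : Val K z) (hyz : Val K (y + z)) {k : F}
    (hk : k ≠ 0) : dev K (k • y) (k • z) = k * dev K y z := by
  rw [dev, dev, ← smul_add, ht_smul K hyz hk, ht_smul K hy hk, ht_smul K hz hk]
  ring

/-- The defect is constant along hyperbolic pairs. -/
theorem dev_step {y q z : Fin n → F} (hy : Val K y) (hq : Val K q) (hz : Val K z)
    (e : h y q = 1) (hzy : h z y = 0) (hzq : h z q = 0) : dev K y z = dev K q z := by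
  set p := y + q with hp
  have hpv : Val K p := val_add K hy hq e
  have hpq : h p q = 1 := by rw [hp, h_add_left, e, hq.1.2, add_zero]
  have hpz : h p z = 0 := by rw [hp, h_add_left, h_comm_zero hzy, h_comm_zero hzq, add_zero]
  have hpqz : h p (q + z) = 1 := by rw [h_add_right, hpq, hpz, add_zero]
  have hqz : Val K (q + z) := by
    refine val_of K p ?_ (by rw [h_add_left, hq.2.1, hz.2.1, add_zero]) (h_comm_zero hpv.2.1) ?_
    · rw [h_add_add (h_comm_zero hzq), hq.1.2, hz.1.2, add_zero]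
    · rw [h_comm_one hpqz]; exact one_ne_zero
  have e1 : ht K y = ht K p + ht K q := by
    rw [← ht_add K hpv hq hpq, hp, add_assoc, vec_add_self, add_zero]
  have e2 : ht K (y + z) = ht K p + ht K (q + z) := by
    rw [← ht_add K hpv hqz hpqz]
    congr 1
    rw [hp, add_assoc, ← add_assoc q q z, vec_add_self, zero_add]
  rw [dev, dev, e1, e2]
  linear_combination ht K p * (two_eq_zero (F := F))

/-- Vectors `e i + k • e j`. -/
def pr {m : ℕ} (e : Fin m → Fin n → F) (i j : Fin m) (a b : F) : Fin n → F := a • e i + b • e j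

theorem h_pr {m : ℕ} {e : Fin m → Fin n → F} (he : ON e) (i j k l : Fin m) (a b a' b' : F) :
    h (pr e i j a b) (pr e k l a' b') =
      a * a' ^ 2 * (if i = k then 1 else 0) + a * b' ^ 2 * (if i = l then 1 else 0) +
        (b * a' ^ 2 * (if j = k then 1 else 0) + b * b' ^ 2 * (if j = l then 1 else 0)) := by
  simp only [pr, h_add_left, h_add_right, h_smul_left, h_smul_right, he _ _]
  ring

theorem val_pr {m : ℕ} {e : Fin m → Fin n → F} (he : ON e) (hex : ∀ i, h (e i) K.xh = 0)
    {i j : Fin m} (hij : i ≠ j) {a b : F} (ha : a ≠ 0) (hb : b ≠ 0) :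
    Val K (pr e i j a b) := by
  refine val_of K (e i) ?_ ?_ (h_comm_zero (hex i)) ?_
  · rw [h_pr he, if_pos rfl, if_neg hij, if_neg hij.symm, if_pos rfl]
    linear_combination cube ha + cube hb + (two_eq_zero (F := F))
  · simp only [pr, h_add_left, h_smul_left, hex, mul_zero, add_zero]
  · simp only [pr, h_add_left, h_smul_left, he _ _, if_pos, if_neg hij.symm, mul_one, mul_zero,
      add_zero]
    exact ha

theorem Chart.cone_of {t : G} (Y : Chart F n D t) {u v : Fin n → F} (hu : Iso u) (hv : Iso v)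
    (e : h v u = 0) (hne : ∀ a : F, v ≠ a • u) : Cone D (Y.pt u) t (Y.pt v) := by
  refine ⟨(Y.mem hv).1, ?_, (Y.mem hv).2.1, (Y.comm hu hv).2 (h_comm_zero e), (Y.mem hv).2.2⟩
  intro e'
  obtain ⟨a, -, ha⟩ := (Y.eq_iff hu hv).1 e'.symm
  exact hne a ha

theorem Chart.of_cone {t : G} (Y : Chart F n D t) {u : Fin n → F} (hu : Iso u) {g : G}
    (hg : Cone D (Y.pt u) t g) : ∃ v, Iso v ∧ h v u = 0 ∧ Y.pt v = g := by
  obtain ⟨hgD, -, hgt, hug, htg⟩ := hg
  obtain ⟨v, hv, rfl⟩ := Y.surj hgD hgt htg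
  exact ⟨v, hv, h_comm_zero ((Y.comm hu hv).1 hug), rfl⟩

/-- An orthonormal basis of the complement of a hyperbolic pair. -/
theorem exists_perp_frame {m : ℕ} {p q : Fin n → F} (H : Hyp p q) (hm : m + 2 = n) :
    ∃ e : Fin m → Fin n → F, ON e ∧ (∀ i, h (e i) p = 0) ∧
      ∀ v, h v p = 0 → (∀ i, h v (e i) = 0) → ∃ a : F, v = a • p := by
  obtain ⟨o, ho⟩ := exists_omega (F := F)
  have e1 : h (q + o • p) (q + o • p) = 1 := by
    simp only [h_add_left, h_add_right, h_smul_left, h_smul_right, H.pp, H.qq, H.pq, H.qp]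
    linear_combination ho + o * (two_eq_zero (F := F))
  have e2 : h (q + o • p + p) (q + o • p + p) = 1 := by
    simp only [h_add_left, h_add_right, h_smul_left, h_smul_right, H.pp, H.qq, H.pq, H.qp]
    linear_combination ho + (o + 1) * (two_eq_zero (F := F))
  have e3 : h (q + o • p) (q + o • p + p) = 0 := by
    simp only [h_add_left, h_add_right, h_smul_left, h_smul_right, H.pp, H.qq, H.pq, H.qp]
    linear_combination ho + (o + 1) * (two_eq_zero (F := F))
  obtain ⟨b, hb, hbf⟩ := exists_frame m 2 _ (ON_two e1 e2 e3) (by omega)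
  have b0 : b ⟨0, by omega⟩ = q + o • p := by simpa using hbf 0 (by simp; omega)
  have b1 : b ⟨1, by omega⟩ = q + o • p + p := by simpa using hbf 1 (by simp; omega)
  refine ⟨fun i => b ⟨i + 2, by omega⟩, fun i j => ?_, fun i => ?_, fun v hvp hve => ?_⟩
  · rw [hb]
    simp [Fin.ext_iff]
  · have a0 := hb ⟨i + 2, by omega⟩ ⟨0, by omega⟩
    have a1 := hb ⟨i + 2, by omega⟩ ⟨1, by omega⟩
    rw [if_neg (by simp [Fin.ext_iff])] at a0 a1
    rw [b0] at a0
    rw [b1, h_add_right, a0, zero_add] at a1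
    exact a1
  · refine ⟨h v q, vec_eq_of_add ?_⟩
    set w := v + h v q • p with hw
    have wp : h w p = 0 := by rw [hw, h_add_left, h_smul_left, hvp, H.pp, mul_zero, add_zero]
    have wq : h w q = 0 := by rw [hw, h_add_left, h_smul_left, H.pq, mul_one, add_self]
    rw [hb.expand w]
    refine Finset.sum_eq_zero fun i _ => ?_
    suffices h w (b i) = 0 by rw [this, zero_smul]
    rcases i with ⟨i, hi⟩
    rcases i with _ | _ | i
    · rw [b0, h_add_right, h_smul_right, wp, wq, mul_zero, add_zero]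
    · rw [b1, h_add_right, h_add_right, h_smul_right, wp, wq, mul_zero, add_zero, add_zero]
    · have a0 := hb ⟨i + 2, hi⟩ ⟨0, by omega⟩
      have a1 := hb ⟨i + 2, hi⟩ ⟨1, by omega⟩
      rw [if_neg (by simp [Fin.ext_iff])] at a0 a1
      rw [b0] at a0
      rw [b1, h_add_right, a0, zero_add] at a1
      rw [hw, h_add_left, h_smul_left, hve ⟨i, by omega⟩, h_comm_zero a1, mul_zero, add_zero]

theorem exists_ctx (hn : 5 ≤ n) (hch : ∀ t ∈ D, Nonempty (Chart F n D t)) {x : G} (hx : x ∈ D) :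
    ∃ (d c : G), Nonempty (Ctx F n D x d c) := by
  obtain ⟨X⟩ := hch x hx
  obtain ⟨b, hb, -⟩ := exists_frame (F := F) (n := n) n 0 (fun i => i.elim0) (fun i => i.elim0) (by omega)
  set u := b ⟨0, by omega⟩ + b ⟨1, by omega⟩ with hu
  have huu : h u u = 0 := by
    rw [hu, h_add_add (by rw [hb, if_neg (by simp [Fin.ext_iff])]), hb, hb, if_pos rfl, if_pos rfl,
      add_self]
  have hu0 : u ≠ 0 := fun e => by
    have := hb ⟨0, by omega⟩ ⟨0, by omega⟩
    rw [if_pos rfl] at this
    have h1 : h u (b ⟨0, by omega⟩) = 0 := by rw [e, h_zero_left]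
    rw [hu, h_add_left, this, hb, if_neg (by simp [Fin.ext_iff]), add_zero] at h1
    exact one_ne_zero h1
  obtain ⟨w, H⟩ := exists_hyp hu0 huu
  have hI : Iso u := ⟨hu0, huu⟩
  have hJ : Iso w := ⟨fun e => by simpa [e, h_zero_right] using H.pq, H.qq⟩
  have ncd : ¬ Commute (X.pt u) (X.pt w) := fun e => one_ne_zero (H.pq.symm.trans ((X.comm hI hJ).1 e))
  obtain ⟨Y⟩ := hch _ (X.mem hI).1
  obtain ⟨xh, hxh, hptx⟩ := Y.surj hx (X.mem hI).2.1.symm (X.mem hI).2.2.symm
  obtain ⟨wh, Hx⟩ := exists_hyp hxh.1 hxh.2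
  exact ⟨X.pt u, X.pt w, ⟨⟨X, Y, xh, wh, Hx, hxh, hptx, hx, (X.mem hI).1, (X.mem hJ).1,
    (X.mem hI).2.1, (X.mem hJ).2.1, (X.mem hI).2.2, (X.mem hJ).2.2, ncd⟩⟩⟩

/-- The height is additive on no orthogonal pair. -/
theorem dev_ne_zero (hch : ∀ t ∈ D, Nonempty (Chart F n D t)) {y z e0 : Fin n → F} (vy : Val K y)
    (vz : Val K z) (vyz : Val K (y + z)) (hyz : h y z = 0) (k0 : h K.xh e0 = 0)
    (ey : h y e0 = 1) (ez : h z e0 = 0) : dev K y z ≠ 0 := by
  intro h0
  have h1 : (1 : F) ≠ 0 := one_ne_zero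
  set sy := y + ht K y • K.xh with hsy
  set sz := z + ht K z • K.xh with hsz
  have esw : y + z + ht K (y + z) • K.xh = sy + sz := by
    have : ht K (y + z) = ht K y + ht K z :=
      eq_of_add_eq_zero (by rw [← h0, dev]; ring)
    rw [this, hsy, hsz]
    module
  have t0 := ht_spec K vy
  have t1 := ht_spec K vz
  have t2 := ht_spec K vyz
  rw [esw] at t2
  rw [← hsy] at t0
  rw [← hsz] at t1
  have Vy : Val K sy := vy.add_smul _
  have Vz : Val K sz := vz.add_smul _
  have Vw : Val K (sy + sz) := by rw [← esw]; exact vyz.add_smul _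
  have fy : h sy e0 = 1 := by rw [hsy, h_add_left, h_smul_left, k0, ey, mul_zero, add_zero]
  have fz : h sz e0 = 0 := by rw [hsz, h_add_left, h_smul_left, k0, ez, mul_zero, add_zero]
  have hsyz : h sz sy = 0 := by
    rw [hsy, hsz]
    simp only [h_add_left, h_add_right, h_smul_left, h_smul_right, h_comm_zero hyz, vz.2.1,
      h_comm_zero vy.2.1, K.hyp.pp, mul_zero, add_zero]
  have nz : ∀ a : F, sz ≠ a • sy := by
    intro a ea
    have : a = 0 := by rw [ea, h_smul_left, fy, mul_one] at fz; exact fz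
    exact Vz.1.1 (by rw [ea, this, zero_smul])
  have nw : ∀ a : F, sy + sz ≠ a • sy := fun a ea => nz (a + 1) (by
    apply vec_eq_of_add
    rw [← vec_add_self (a • sy)]
    nth_rewrite 2 [← ea]
    module)
  have e2 : h (sy + sz) sy = 0 := by rw [h_add_left, hsyz, Vy.1.2, add_zero]
  obtain ⟨T⟩ := hch _ (K.Y.mem Vy.1).1
  have key := sec_unique T K.hd (K.Y.mem Vy.1).2.1.symm (K.Y.mem Vy.1).2.2.symm K.hc
    (fun e => K.ncd (by rw [e]; exact (K.Y.mem Vy.1).2.2)) t0.2.symm K.ncd
    ⟨K.Y.cone_of Vy.1 Vz.1 hsyz nz, t1.2⟩ ⟨K.Y.cone_of Vy.1 Vw.1 e2 nw, t2.2⟩ ?_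
  · obtain ⟨k, -, hk⟩ := (K.Y.eq_iff Vw.1 Vz.1).1 key
    have := congrArg (fun v => h v e0) hk
    simp only [h_smul_left, h_add_left, fy, fz, add_zero, mul_one] at this
    have e3 := hk
    rw [← this, zero_smul] at e3
    exact Vz.1.1 e3
  · intro k hk hgk
    obtain ⟨q, hq, hqy, rfl⟩ := K.Y.of_cone Vy.1 hk
    refine (K.Y.comm Vw.1 hq).2 ?_
    rw [h_add_left, h_comm_zero hqy, (K.Y.comm Vz.1 hq).1 hgk, add_zero]

/-- Dimension at least seven. -/
theorem large_empty (hn : 7 ≤ n) (hch : ∀ t ∈ D, Nonempty (Chart F n D t)) : D = ∅ := by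
  rcases D.eq_empty_or_nonempty with e | ⟨x, hx⟩
  · exact e
  exfalso
  obtain ⟨d, c, ⟨K⟩⟩ := exists_ctx (by omega) hch hx
  obtain ⟨e₀, he₀, hex₀, -⟩ := exists_perp_frame (m := n - 2) K.hyp (by omega)
  set e : Fin 5 → Fin n → F := fun i => e₀ ⟨i, by omega⟩ with he'
  have he : ON e := fun i j => by rw [he', he₀]; simp [Fin.ext_iff]
  have hex : ∀ i, h (e i) K.xh = 0 := fun i => hex₀ _
  obtain ⟨o, ho⟩ := exists_omega (F := F)
  have ho0 : o ≠ 0 := (omega_ne ho).1
  have h1 : (1 : F) ≠ 0 := one_ne_zero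
  set y := pr e 0 1 1 1 with hy
  set z := pr e 3 4 1 1 with hz
  have vy : Val K y := val_pr K he hex (by decide) h1 h1
  have vz : Val K z := val_pr K he hex (by decide) h1 h1
  have hyz : h y z = 0 := by simp [hy, hz, h_pr he]
  have oy : o • y = pr e 0 1 o o := by rw [hy]; simp only [pr, smul_add, smul_smul, mul_one]
  have oz : o • z = pr e 3 4 o o := by rw [hz]; simp only [pr, smul_add, smul_smul, mul_one]
  have c3 := cube ho0
  have s1 : dev K y z = dev K (o • y) z := by
    rw [oy, dev_step K vy (val_pr K he hex (i := 0) (j := 2) (by decide) h1 h1) vz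
        (by simp [hy, h_pr he]) (h_comm_zero hyz) (by simp [hz, h_pr he]),
      dev_step K (val_pr K he hex (i := 0) (j := 2) (by decide) h1 h1)
        (val_pr K he hex (i := 1) (j := 2) (by decide) ho0 h1) vz
        (by simp [h_pr he]) (by simp [hz, h_pr he]) (by simp [hz, h_pr he]),
      dev_step K (val_pr K he hex (i := 1) (j := 2) (by decide) ho0 h1)
        (val_pr K he hex (i := 0) (j := 1) (by decide) ho0 ho0) vz
        (by simp [h_pr he]; linear_combination c3) (by simp [hz, h_pr he]) (by simp [hz, h_pr he])]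
  have s2 : dev K z (o • y) = dev K (o • z) (o • y) := by
    have vw := vy.smul ho0
    rw [oz, dev_step K vz (val_pr K he hex (i := 3) (j := 2) (by decide) h1 h1) vw
        (by simp [hz, h_pr he]) (by simp [oy, hz, h_pr he]) (by simp [oy, h_pr he]),
      dev_step K (val_pr K he hex (i := 3) (j := 2) (by decide) h1 h1)
        (val_pr K he hex (i := 4) (j := 2) (by decide) ho0 h1) vw
        (by simp [h_pr he]) (by simp [oy, h_pr he]) (by simp [oy, h_pr he]),
      dev_step K (val_pr K he hex (i := 4) (j := 2) (by decide) ho0 h1)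
        (val_pr K he hex (i := 3) (j := 4) (by decide) ho0 ho0) vw
        (by simp [h_pr he]; linear_combination c3) (by simp [oy, h_pr he]) (by simp [oy, h_pr he])]
  have ey : h y (e 0) = 1 := by simp [hy, pr, h_add_left, h_smul_left, he _ _]
  have ez : h z (e 0) = 0 := by simp [hz, pr, h_add_left, h_smul_left, he _ _]
  have vyz : Val K (y + z) := val_of K (e 0) (by rw [h_add_add hyz, vy.1.2, vz.1.2, add_zero])
    (by rw [h_add_left, vy.2.1, vz.2.1, add_zero]) (h_comm_zero (hex 0))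
    (by rw [h_add_left, ey, ez, add_zero]; exact h1)
  have h0 : dev K y z = 0 := by
    have e1 : dev K y z = o * dev K y z := by
      calc dev K y z = dev K (o • y) z := s1
        _ = dev K z (o • y) := dev_comm K _ _
        _ = dev K (o • z) (o • y) := s2
        _ = dev K (o • y) (o • z) := dev_comm K _ _
        _ = o * dev K y z := dev_smul K vy vz vyz ho0
    have : (1 + o) * dev K y z = 0 := by
      linear_combination e1 + o * dev K y z * (two_eq_zero (F := F))
    exact (mul_eq_zero.mp this).resolve_left fun e0 => (omega_ne ho).2 (eq_of_add_eq_zero e0).symm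
  exact dev_ne_zero K hch vy vz vyz hyz (h_comm_zero (hex 0)) ey ez h0

/-- Linearity of the height in dimension three. -/
theorem exists_linear {e : Fin 3 → Fin n → F} (he : ON e) (hex : ∀ i, h (e i) K.xh = 0) :
    ∃ A : Fin 3 → F, ∀ i j : Fin 3, i < j → ∀ a b : F, a ≠ 0 → b ≠ 0 →
      ht K (pr e i j a b) = a * A i + b * A j := by
  obtain ⟨o, ho⟩ := exists_omega (F := F)
  have ho0 : o ≠ 0 := (omega_ne ho).1
  have h1 : (1 : F) ≠ 0 := one_ne_zero
  have R : ∀ k m : F, k ≠ 0 → m ≠ 0 →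
      k * ht K (pr e 1 2 1 m) = ht K (pr e 0 1 1 k) + ht K (pr e 0 2 1 (k * m)) := by
    intro k m hk hm
    rw [← ht_smul K (val_pr K he hex (by decide) h1 hm) hk,
      ← ht_add K (val_pr K he hex (by decide) h1 hk)
        (val_pr K he hex (by decide) h1 (mul_ne_zero hk hm)) (by simp [h_pr he])]
    congr 1
    simp only [pr, one_smul, smul_add, smul_smul, mul_one]
    apply vec_eq_of_add
    rw [show k • e 1 + (k * m) • e 2 + (e 0 + k • e 1 + (e 0 + (k * m) • e 2)) =
      (k • e 1 + k • e 1) + ((k * m) • e 2 + (k * m) • e 2) + (e 0 + e 0) by abel]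
    simp only [vec_add_self, add_zero]
  set H : F → F := fun m => ht K (pr e 1 2 1 m) with hH
  set P : F → F := fun k => ht K (pr e 0 1 1 k) with hP
  set Q : F → F := fun k => ht K (pr e 0 2 1 k) with hQ
  set a2 : F := o * (H 1 + H o) with ha2
  set a1 : F := H 1 + a2 with ha1
  set a0 : F := P 1 + a1 with ha0
  have two := two_eq_zero (F := F)
  have R1 : ∀ m, m ≠ 0 → H m = P 1 + Q m := fun m hm => by
    have := R 1 m h1 hm
    rwa [one_mul, one_mul] at this
  have Ro1 : o * H 1 = P o + Q o := by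
    have := R o 1 ho0 h1
    rwa [mul_one] at this
  have Roo : o * H o = P o + Q (o * o) := R o o ho0 ho0
  have hHo2 : H (o * o) = H o + o * H o + o * H 1 := by
    linear_combination R1 (o * o) (mul_ne_zero ho0 ho0) - Roo + Ro1 - R1 o ho0 -
      o * H 1 * two
  have hcases : ∀ m : F, m ≠ 0 → m = 1 ∨ m = o ∨ m = o * o := by
    intro m hm
    by_cases hm1 : m = 1
    · exact Or.inl hm1
    have e1 := rel hm hm1
    have : (m + o) * (m + o * o) = 0 := by
      linear_combination e1 + (m + o + 1) * ho + (m * o + m + o + 1) * two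
    rcases mul_eq_zero.mp this with e | e
    · exact Or.inr (Or.inl (eq_of_add_eq_zero e))
    · exact Or.inr (Or.inr (eq_of_add_eq_zero e))
  have hHm : ∀ m, m ≠ 0 → H m = a1 + m * a2 := by
    intro m hm
    rcases hcases m hm with e1 | e1 | e1 <;> rw [e1]
    · linear_combination -ha1 - a2 * two
    · linear_combination -ha1 - (1 + o) * ha2 - (H 1 + H o) * ho -
        ((1 + o) * H 1 + o * H o) * two
    · linear_combination hHo2 - ha1 - (1 + o * o) * ha2 - (o * H 1 + o * H o) * ho -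
        ((1 + o) * H 1 + o * H 1 + o * H o) * two - (H o + H 1) * ho + o * H 1 * two
  have hQm : ∀ m, m ≠ 0 → Q m = a0 + m * a2 := by
    intro m hm
    linear_combination hHm m hm - R1 m hm - ha0 - P 1 * two
  have hPm : ∀ k, k ≠ 0 → P k = a0 + k * a1 := by
    intro k hk
    have := R k 1 hk h1
    rw [mul_one] at this
    linear_combination k * hHm 1 h1 - this - hQm k hk - a0 * two
  refine ⟨![a0, a1, a2], fun i j hij a b ha hb => ?_⟩
  have key : ht K (pr e i j a b) = a * ht K (pr e i j 1 (a⁻¹ * b)) := by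
    rw [← ht_smul K (val_pr K he hex hij.ne h1 (mul_ne_zero (inv_ne_zero ha) hb)) ha]
    simp only [pr, one_smul, smul_add, smul_smul]
    rw [← mul_assoc, mul_inv_cancel₀ ha, one_mul]
  have hm := mul_ne_zero (inv_ne_zero ha) hb
  have hab : a * (a⁻¹ * b) = b := by rw [← mul_assoc, mul_inv_cancel₀ ha, one_mul]
  rw [key]
  fin_cases i <;> fin_cases j <;> simp at hij ⊢
  · rw [show ht K (pr e 0 1 1 (a⁻¹ * b)) = _ from hPm _ hm]
    linear_combination a1 * hab
  · rw [show ht K (pr e 0 2 1 (a⁻¹ * b)) = _ from hQm _ hm]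
    linear_combination a2 * hab
  · rw [show ht K (pr e 1 2 1 (a⁻¹ * b)) = _ from hHm _ hm]
    linear_combination a2 * hab

/-- In dimension five the lifting is the set of isotropic points of a three-space. -/
theorem exists_space (hn : n = 5) :
    ∃ e : Fin 3 → Fin n → F, ON e ∧ (∀ i, h (e i) K.xh = 0) ∧
      (∀ a : Fin 3 → F, Iso (∑ i, a i • e i) → Sec D x d c (K.Y.pt (∑ i, a i • e i))) ∧
      ∀ g, Sec D x d c g → ∃ a : Fin 3 → F, Iso (∑ i, a i • e i) ∧
        K.Y.pt (∑ i, a i • e i) = g := by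
  obtain ⟨e, he, hex, hcomp⟩ := exists_perp_frame (m := 3) K.hyp (by omega)
  obtain ⟨A, hA⟩ := exists_linear K he hex
  set e' : Fin 3 → Fin n → F := fun i => e i + A i • K.xh with he'
  have hxe : ∀ i, h K.xh (e i) = 0 := fun i => h_comm_zero (hex i)
  have he'on : ON e' := fun i j => by
    simp only [he', h_add_left, h_add_right, h_smul_left, h_smul_right, hex, hxe, K.hyp.pp,
      mul_zero, add_zero]
    exact he i j
  have he'x : ∀ i, h (e' i) K.xh = 0 := fun i => by
    simp only [he', h_add_left, h_smul_left, hex, K.hyp.pp, mul_zero, add_zero]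
  have hsum : ∀ a : Fin 3 → F, ∑ i, a i • e' i =
      (∑ i, a i • e i) + (∑ i, a i * A i) • K.xh := fun a => by
    simp only [he', smul_add, smul_smul, Finset.sum_add_distrib, Finset.sum_smul]
  have hiso : ∀ a : Fin 3 → F, Iso (∑ i, a i • e' i) → Val K (∑ i, a i • e i) ∧
      ht K (∑ i, a i • e i) = ∑ i, a i * A i := by
    intro a ha
    have hn0 : a 0 ^ 3 + a 1 ^ 3 + a 2 ^ 3 = 0 := by
      have := ha.2
      rw [h_sum_left] at this
      have hr : ∀ i, h (e' i) (∑ j, a j • e' j) = a i ^ 2 := fun i => by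
        rw [h_symm, he'on.h_sum]
      simp only [hr] at this
      rw [Fin.sum_univ_three] at this
      linear_combination this
    have hx0 : ∀ i, a i = 0 → a i ^ 3 = 0 := fun i e0 => by rw [e0]; ring
    have hnz : ¬ (a 0 = 0 ∧ a 1 = 0 ∧ a 2 = 0) := fun ⟨e0, e1, e2⟩ =>
      ha.1 (by simp [Fin.sum_univ_three, e0, e1, e2])
    rw [Fin.sum_univ_three, Fin.sum_univ_three]
    by_cases e0 : a 0 = 0
    · by_cases e1 : a 1 = 0
      · rw [e0, e1] at hn0
        exact absurd ⟨e0, e1, pow_eq_zero_iff (three_ne_zero) |>.1 (by linear_combination hn0)⟩ hnz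
      · by_cases e2 : a 2 = 0
        · rw [e0, e2] at hn0
          exact absurd (pow_eq_zero_iff three_ne_zero |>.1 (by linear_combination hn0)) e1
        · have := hA 1 2 (by decide) _ _ e1 e2
          have v := val_pr K he hex (i := 1) (j := 2) (by decide) e1 e2
          simp only [pr] at this v
          rw [e0]
          simp only [zero_smul, zero_mul, zero_add]
          exact ⟨v, this⟩
    · by_cases e1 : a 1 = 0
      · by_cases e2 : a 2 = 0
        · rw [e1, e2] at hn0
          exact absurd (pow_eq_zero_iff three_ne_zero |>.1 (by linear_combination hn0)) e0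
        · have := hA 0 2 (by decide) _ _ e0 e2
          have v := val_pr K he hex (i := 0) (j := 2) (by decide) e0 e2
          simp only [pr] at this v
          rw [e1]
          simp only [zero_smul, zero_mul, add_zero]
          exact ⟨v, this⟩
      · by_cases e2 : a 2 = 0
        · have := hA 0 1 (by decide) _ _ e0 e1
          have v := val_pr K he hex (i := 0) (j := 1) (by decide) e0 e1
          simp only [pr] at this v
          rw [e2]
          simp only [zero_smul, zero_mul, add_zero]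
          exact ⟨v, this⟩
        · rw [cube e0, cube e1, cube e2] at hn0
          exact absurd (by linear_combination hn0 - two_eq_zero (F := F)) (one_ne_zero (α := F))
  refine ⟨e', he'on, he'x, fun a ha => ?_, fun g hg => ?_⟩
  · obtain ⟨v, hv⟩ := hiso a ha
    rw [hsum, ← hv]
    exact ht_spec K v
  · obtain ⟨v, hv, rfl⟩ := val_of_cone K hg.1
    refine ⟨fun i => h v (e i), ?_⟩
    set w := ∑ i, h v (e i) • e i with hw
    obtain ⟨r, hr⟩ : ∃ r : F, v + w = r • K.xh := by
      refine hcomp _ ?_ fun i => ?_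
      · simp only [h_add_left, hw, h_sum_left, hex, mul_zero, Finset.sum_const_zero, hv.2.1,
          add_zero]
      · rw [h_add_left, hw, he.h_sum, add_self]
    have hvw : v = w + r • K.xh := by
      rw [← hr, ← add_assoc, add_comm w v, add_assoc, vec_add_self, add_zero]
    have hwv : Val K w := by
      have := hv.add_smul r
      rwa [hvw, add_assoc, vec_add_self, add_zero] at this
    have hr' : ht K w = r := by
      refine ht_eq K hwv ?_
      rw [← hvw]
      exact hg
    have hI : Iso (∑ i, h v (e i) • e' i) := by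
      rw [hsum, ← hw]
      exact (hwv.add_smul _).1
    have := (hiso _ hI).2
    rw [← hw, hr'] at this
    rw [hsum, ← hw, ← this, ← hvw]
    exact ⟨hv.1, rfl⟩

theorem siegel {z y : Fin n → F} (hzy : h z y = 0) (v : Fin n → F) :
    tv z (tv (z + y) v) = v + h v (z + y) • (z + y) + (h v z + h v (z + y) * h z z +
      h v (z + y) * h y z) • z := by
  simp only [tv_apply, h_add_left, h_smul_left, h_add_right, hzy]
  module

/-- Dimension five. -/
theorem five_empty (hn : n = 5) (hsq : ∀ a ∈ D, a * a = 1)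
    (hconj : ∀ a ∈ D, ∀ b ∈ D, a * b * a⁻¹ ∈ D) (hch : ∀ t ∈ D, Nonempty (Chart F n D t)) :
    D = ∅ := by
  rcases D.eq_empty_or_nonempty with e | ⟨x, hx⟩
  · exact e
  exfalso
  obtain ⟨d, c, ⟨K⟩⟩ := exists_ctx (by omega) hch hx
  obtain ⟨e, he, hex, hin, hout⟩ := exists_space K hn
  obtain ⟨l, hl, hle⟩ := exists_one he (by omega)
  obtain ⟨o, ho⟩ := exists_omega (F := F)
  have two := two_eq_zero (F := F)
  have ho0 : o ≠ 0 := (omega_ne ho).1
  have c3 := cube ho0
  set y := e 0 + e 1 with hy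
  set z := o • e 2 + l with hz
  set z' := (o * o) • e 2 + l with hz'
  have el : ∀ i, h (e i) l = 0 := fun i => (hle i).2
  have le' : ∀ i, h l (e i) = 0 := fun i => (hle i).1
  have hyy : h y y = 0 := by
    rw [hy, h_add_add (by simp [he _ _]), he, he, if_pos rfl, if_pos rfl, add_self]
  have e2y : h (e 2) y = 0 := by simp [hy, h_add_right, he _ _]
  have ly : h l y = 0 := by simp [hy, h_add_right, le']
  have hzz : h z z = 0 := by
    simp [hz, h_add_left, h_add_right, h_smul_left, h_smul_right, he _ _, el, le', hl]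
    linear_combination c3 + two
  have hzz' : h z' z' = 0 := by
    simp [hz', h_add_left, h_add_right, h_smul_left, h_smul_right, he _ _, el, le', hl]
    linear_combination (o ^ 3 + 1) * c3 + two
  have hzy : h z y = 0 := by rw [hz, h_add_left, h_smul_left, e2y, ly, mul_zero, add_zero]
  have hzy' : h z' y = 0 := by rw [hz', h_add_left, h_smul_left, e2y, ly, mul_zero, add_zero]
  have y0 : h y (e 0) = 1 := by simp [hy, h_add_left, he _ _]
  have zl : h z l = 1 := by simp [hz, h_add_left, h_smul_left, el, hl]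
  have zl' : h z' l = 1 := by simp [hz', h_add_left, h_smul_left, el, hl]
  have yl : h y l = 0 := h_comm_zero ly
  have Iy : Iso y := ⟨fun e0 => by rw [e0, h_zero_left] at y0; exact zero_ne_one y0, hyy⟩
  have Iz : Iso z := ⟨fun e0 => by rw [e0, h_zero_left] at zl; exact zero_ne_one zl, hzz⟩
  have Iz' : Iso z' := ⟨fun e0 => by rw [e0, h_zero_left] at zl'; exact zero_ne_one zl', hzz'⟩
  have Izy : Iso (z + y) := ⟨fun e0 => by
      have : h (z + y) l = 1 := by rw [h_add_left, zl, yl, add_zero]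
      rw [e0, h_zero_left] at this
      exact zero_ne_one this, by rw [h_add_add hzy, hzz, hyy, add_zero]⟩
  have Izy' : Iso (z' + y) := ⟨fun e0 => by
      have : h (z' + y) l = 1 := by rw [h_add_left, zl', yl, add_zero]
      rw [e0, h_zero_left] at this
      exact zero_ne_one this, by rw [h_add_add hzy', hzz', hyy, add_zero]⟩
  set Γ : (Fin n → F) → (Fin n → F) :=
    fun v => tv z (tv (z + y) (tv z' (tv (z' + y) v))) with hΓ
  have hκ : ∀ v, Γ v = v + (h v (e 2) + h v y * h z' z) • y + h v y • e 2 := by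
    intro v
    have ee : z + z' = e 2 := by
      apply vec_eq_of_add
      rw [hz, hz', show o • e 2 + l + ((o * o) • e 2 + l) + e 2 = (o + o * o + 1) • e 2 + (l + l) by
        module, vec_add_self, show o + o * o + 1 = 0 by linear_combination ho + (o + 1) * two,
        zero_smul, add_zero]
    have e3 : h v (e 2) = h v z + h v z' := by rw [← h_add_right, ee]
    have yz := h_comm_zero hzy
    have yz' := h_comm_zero hzy'
    simp only [hΓ]
    rw [siegel hzy', siegel hzy, e3, ← ee]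
    simp only [h_add_left, h_add_right, h_smul_left, h_smul_right, hzz, hzz', hyy, hzy, hzy', yz,
      yz', mul_zero, add_zero, zero_add]
    funext i
    simp only [Pi.add_apply, Pi.smul_apply, smul_eq_mul]
    linear_combination (h v z * z i + h v z' * z' i + h v y * (h z' z * z i) + h v y * z i +
      h v y * z' i + h v y * y i) * two + (h v z' * y i * h z' z + 2 * (h v z' * h z' z * z i) -
      h v y * z' i - h v y * z i) * two
  set g := K.Y.pt z * K.Y.pt (z + y) * K.Y.pt z' * K.Y.pt (z' + y) with hg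
  have hΓi : ∀ {v}, Iso v → Iso (Γ v) := fun hv => Iz.tv (Izy.tv (Iz'.tv (Izy'.tv hv)))
  have hΓh : ∀ v w, h (Γ v) (Γ w) = h v w := fun v w => by
    simp only [hΓ, tv_isom hzz, tv_isom Izy.2, tv_isom hzz', tv_isom Izy'.2]
  have hgc : ∀ {v}, Iso v → g * K.Y.pt v * g⁻¹ = K.Y.pt (Γ v) := by
    intro v hv
    rw [show g * K.Y.pt v * g⁻¹ = K.Y.pt z * (K.Y.pt (z + y) * (K.Y.pt z' *
      (K.Y.pt (z' + y) * K.Y.pt v * (K.Y.pt (z' + y))⁻¹) * (K.Y.pt z')⁻¹) *
      (K.Y.pt (z + y))⁻¹) * (K.Y.pt z)⁻¹ by rw [hg]; group]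
    rw [K.Y.conj Izy' hv, K.Y.conj Iz' (Izy'.tv hv), K.Y.conj Izy (Iz'.tv (Izy'.tv hv)),
      K.Y.conj Iz (Izy.tv (Iz'.tv (Izy'.tv hv)))]
  have hgd : Commute d g :=
    ((((K.Y.mem Iz).2.2.mul_right (K.Y.mem Izy).2.2)).mul_right (K.Y.mem Iz').2.2).mul_right
      (K.Y.mem Izy').2.2
  have hΓx : Γ K.xh = K.xh := by
    rw [hκ, h_comm_zero (hex 2), hy, h_add_right, h_comm_zero (hex 0), h_comm_zero (hex 1)]
    simp
  have hgx : g * x * g⁻¹ = x := by rw [← K.ptx, hgc K.ixh, hΓx]
  have hinv : ∀ a ∈ D, ∀ b ∈ D, a⁻¹ * b * a ∈ D := by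
    intro a ha b hb
    have := hconj a ha b hb
    rwa [inv_eq_of_mul_eq_one_right (hsq a ha)] at this ⊢
  have hc' : g⁻¹ * c * g ∈ D := by
    rw [show g⁻¹ * c * g = (K.Y.pt (z' + y))⁻¹ * ((K.Y.pt z')⁻¹ * ((K.Y.pt (z + y))⁻¹ *
      ((K.Y.pt z)⁻¹ * c * K.Y.pt z) * K.Y.pt (z + y)) * K.Y.pt z') * K.Y.pt (z' + y) by
      rw [hg]; group]
    exact hinv _ (K.Y.mem Izy').1 _ (hinv _ (K.Y.mem Iz').1 _ (hinv _ (K.Y.mem Izy).1 _
      (hinv _ (K.Y.mem Iz).1 _ K.hc)))
  have up : ∀ {a b : G}, Commute a b → Commute (g * a * g⁻¹) (g * b * g⁻¹) := fun {a b} hab =>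
    hab.map (MulAut.conj g).toMonoidHom
  have down : ∀ {a b : G}, Commute (g * a * g⁻¹) (g * b * g⁻¹) → Commute a b := fun {a b} hab => by
    have := hab.map (MulAut.conj g⁻¹).toMonoidHom
    simpa [MulAut.conj_apply, mul_assoc] using this
  have ecc : g * (g⁻¹ * c * g) * g⁻¹ = c := by group
  have egd : g * d * g⁻¹ = d := by rw [← hgd.eq, mul_inv_cancel_right]
  have hclass : g⁻¹ * c * g = c ∨ g⁻¹ * c * g = d * c * d⁻¹ := by
    refine sec_perp K.X (by omega) K.hd K.dx K.cd K.hc K.cx K.cc K.ncd hc' ?_ ?_ ?_ ?_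
    · intro e0
      rw [e0, hgx] at ecc
      exact K.cx ecc.symm
    · refine down ?_
      rw [ecc, hgx]
      exact K.cc
    · intro e0
      have := up e0
      rw [ecc, egd] at this
      exact K.ncd this
    · intro k hk
      refine down ?_
      rw [ecc]
      obtain ⟨a, ha, rfl⟩ := hout k hk
      rw [hgc ha]
      set u := ∑ i, a i • e i with hu
      set β := h u y
      set α := h u (e 2) + β * h z' z
      obtain ⟨b, hb⟩ : ∃ b : Fin 3 → F, Γ u = ∑ i, b i • e i := by
        refine ⟨![a 0 + α, a 1 + α, a 2 + β], ?_⟩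
        rw [hκ, hu, hy, Fin.sum_univ_three, Fin.sum_univ_three]
        simp only [β, α, hu, hy, Fin.sum_univ_three, Matrix.cons_val_zero, Matrix.cons_val_one,
          Matrix.cons_val_two, Matrix.tail_cons, Matrix.head_cons]
        module
      rw [hb]
      refine (hin b ?_).2
      rw [← hb]
      exact hΓi ha
  have invar : ∀ {k}, Commute d k → Commute c k → Commute c (g * k * g⁻¹) := by
    intro k hdk hck
    have : Commute (g⁻¹ * c * g) k := by
      rcases hclass with e0 | e0 <;> rw [e0]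
      · exact hck
      · exact (hdk.mul_left hck).mul_left hdk.inv_left
    have := up this
    rwa [ecc] at this
  -- the lifting at the member of `y`
  have ysum : ∑ i, (![1, 1, 0] : Fin 3 → F) i • e i = y := by
    simp [Fin.sum_univ_three, hy]
  obtain ⟨-, hcy⟩ := hin ![1, 1, 0] (by rw [ysum]; exact Iy)
  rw [ysum] at hcy
  set v := e 2 + l with hv
  have hvl : h v l = 1 := by rw [hv, h_add_left, el, hl, zero_add]
  have Iv : Iso v := ⟨fun e0 => by rw [e0, h_zero_left] at hvl; exact zero_ne_one hvl,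
    by rw [hv, h_add_add (el 2), he, if_pos rfl, hl, add_self]⟩
  have hvy : h v y = 0 := by rw [hv, h_add_left, e2y, ly, add_zero]
  have nv : ∀ a : F, v ≠ a • y := fun a e0 => by
    rw [e0, h_smul_left, yl, mul_zero] at hvl
    exact zero_ne_one hvl
  obtain ⟨T⟩ := hch _ (K.Y.mem Iy).1
  have hdt : d ≠ K.Y.pt y := (K.Y.mem Iy).2.1.symm
  have htd : Commute (K.Y.pt y) d := (K.Y.mem Iy).2.2.symm
  have hct : c ≠ K.Y.pt y := fun e0 => K.ncd (by rw [e0]; exact (K.Y.mem Iy).2.2)
  obtain ⟨g1, hg1, tw⟩ := exists_sec T K.hd hdt htd K.hc hct hcy.symm K.ncd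
    (K.Y.cone_of Iy Iv hvy nv)
  obtain ⟨q, hq, hqy, rfl⟩ := K.Y.of_cone Iy hg1.1
  obtain ⟨r, Hr⟩ := exists_hyp Iy.1 hyy
  have nq : ∀ a : F, q ≠ a • y := fun a e0 => by
    by_cases ha : a = 0
    · exact hq.1 (by rw [e0, ha, zero_smul])
    · exact hg1.1.2.1 (by rw [e0, K.Y.pt_smul Iy ha])
  obtain ⟨k, a, hk, eq⟩ := twin_vec Hr Iv hq hvy hqy nv nq fun s hs hsy hsn hsv => by
    have := tw _ (K.Y.cone_of Iy hs hsy hsn) ((K.Y.comm Iv hs).2 (h_comm_zero hsv))
    exact h_comm_zero ((K.Y.comm hq hs).1 this)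
  have hv2 : h v (e 2) = 1 := by rw [hv, h_add_left, le', he, if_pos rfl, add_zero]
  have hΓq : Γ q = q + k • y := by
    rw [hκ, hqy, eq, h_add_left, h_smul_left, h_smul_left, hv2,
      show h y (e 2) = 0 from h_comm_zero e2y]
    simp
  have hql : h q l = k := by rw [eq, h_add_left, h_smul_left, h_smul_left, hvl, yl]; ring
  have hΓql : h (Γ q) l = k := by rw [hΓq, h_add_left, h_smul_left, hql, yl]; ring
  have hΓqy : h (Γ q) y = 0 := by rw [hΓq, h_add_left, h_smul_left, hqy, hyy]; ring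
  have nΓ : ∀ a : F, Γ q ≠ a • y := fun a e0 => by
    rw [e0, h_smul_left, yl, mul_zero] at hΓql
    exact hk hΓql.symm
  have hsec : Sec D (K.Y.pt y) d c (K.Y.pt (Γ q)) := by
    refine ⟨K.Y.cone_of Iy (hΓi hq) hΓqy nΓ, ?_⟩
    rw [← hgc hq]
    exact invar hg1.1.2.2.2.2 hg1.2
  have key := sec_unique T K.hd hdt htd K.hc hct hcy.symm K.ncd hg1 hsec fun s hs hqs => by
    obtain ⟨s, hs', hsy, rfl⟩ := K.Y.of_cone Iy hs
    refine (K.Y.comm (hΓi hq) hs').2 ?_
    rw [hΓq, h_add_left, h_smul_left, h_comm_zero hsy, (K.Y.comm hq hs').1 hqs]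
    ring
  obtain ⟨j, -, hj⟩ := (K.Y.eq_iff (hΓi hq) hq).1 key
  have hj1 : j = 1 := by
    have h2 : h q l = j * h (Γ q) l := by rw [← h_smul_left, ← hj]
    rw [hql, hΓql] at h2
    exact (mul_left_eq_self₀.mp h2.symm).resolve_right hk
  rw [hj1, one_smul, hΓq] at hj
  exact hk ((smul_eq_zero.mp (left_eq_add.mp hj)).resolve_right Iy.1)

/-- There is no set of 3-transpositions all of whose local geometries are those of `U(n,2)`,
`5 ≤ n`, `n ≠ 6`. -/
theorem no_unitary_local (hn : 5 ≤ n) (h6 : n ≠ 6) (hsq : ∀ a ∈ D, a * a = 1)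
    (hconj : ∀ a ∈ D, ∀ b ∈ D, a * b * a⁻¹ ∈ D) (hch : ∀ t ∈ D, Nonempty (Chart F n D t)) :
    D = ∅ := by
  rcases (show n = 5 ∨ 7 ≤ n by omega) with e | e
  · exact five_empty e hsq hconj hch
  · exact large_empty e hch

end Cfsg.Agent.FischerNoUnLocal61
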