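import Cfsg.Agent.Lib.FischerOrthRigid94
import Cfsg.Agent.Lib.ThreeTrans

/-!
# Orthogonal charts at the members of a class of 3-transpositions

A chart at `d` identifies the members commuting with `d` with the points of a quadratic space over
the field with three elements.  Two charts at commuting members are compared linearly.
-/

set_option autoImplicit false
set_option linter.unusedSectionVars false

namespace Cfsg.Agent.FischerOrth94

open QuadraticMap Cfsg.Agent

variable {G : Type*} [Group G] {D : Set G} {m : ℕ} {Q : QuadraticForm (ZMod 3) (Vec m)}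

/-- The members other than `d` commuting with `d`. -/
def Dd (D : Set G) (d : G) : Set G := {y | y ∈ D ∧ y ≠ d ∧ Commute d y}

theorem Dd_symm {d w : G} (hd : d ∈ D) (hw : w ∈ Dd D d) : d ∈ Dd D w :=
  ⟨hd, Ne.symm hw.2.1, hw.2.2.symm⟩

theorem conj_mem_Dd (hD : Cfsg.IsThreeTranspositionGroup D) {d x y : G} (hx : x ∈ Dd D d)
    (hy : y ∈ Dd D d) : x * y * x ∈ Dd D d := by
  refine ⟨ThreeTrans.conj_mem hD.1 hD.2.1 hx.1 hy.1, fun h => hy.2.1 ?_,
    (hx.2.2.mul_right hy.2.2).mul_right hx.2.2⟩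
  have h2 : x * (x * y * x) * x = x * d * x := by rw [h]
  rw [show x * (x * y * x) * x = (x * x) * y * (x * x) by simp only [mul_assoc],
    ThreeTrans.mul_self hD.1 hx.1, one_mul, mul_one, ← hx.2.2.eq, mul_assoc,
    ThreeTrans.mul_self hD.1 hx.1, mul_one] at h2
  exact h2

/-- A chart at `d`: the members commuting with `d` as the points of an orthogonal space. -/
structure Chart (D : Set G) (d : G) (Q : QuadraticForm (ZMod 3) (Vec m)) where
  f : G → Vec m
  norm : ∀ x ∈ Dd D d, Q (f x) = 1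
  inj : ∀ x ∈ Dd D d, ∀ x' ∈ Dd D d, PM (f x) (f x') → x = x'
  surj : ∀ v, Q v = 1 → ∃ x ∈ Dd D d, PM (f x) v
  comm : ∀ x ∈ Dd D d, ∀ x' ∈ Dd D d, x ≠ x' → (Commute x x' ↔ polar Q (f x) (f x') = 0)
  conj : ∀ x ∈ Dd D d, ∀ x' ∈ Dd D d, PM (f (x * x' * x)) (f x' - polar Q (f x) (f x') • f x)

theorem Chart.polar_self {d : G} (c : Chart D d Q) {x : G} (hx : x ∈ Dd D d) :
    polar Q (c.f x) (c.f x) = 2 := by
  rw [pol_self, c.norm x hx, mul_one]

/-- The common commuting members of `d` and `w`. -/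
def Common (D : Set G) (d w : G) : Set G := Dd D d ∩ Dd D w

/-- Switching signs between two charts on their common members. -/
structure Link {d w : G} (cd : Chart D d Q) (cw : Chart D w Q) where
  η : G → ZMod 3
  sgn : ∀ x, η x * η x = 1
  gram : ∀ x ∈ Common D d w, ∀ y ∈ Common D d w,
    polar Q (cw.f x) (cw.f y) = η x * η y * polar Q (cd.f x) (cd.f y)

theorem chart_point {d w : G} (hd : d ∈ D) (hw : w ∈ Dd D d) (cw : Chart D w Q) {v : Vec m}
    (hv : Q v = 1) (hperp : polar Q (cw.f d) v = 0) : ∃ x ∈ Common D d w, PM (cw.f x) v := by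
  obtain ⟨x, hx, hxv⟩ := cw.surj v hv
  have hdw := Dd_symm hd hw
  have h0 : polar Q (cw.f d) (cw.f x) = 0 := (hxv.polar_eq_zero' _).mpr hperp
  have hne : d ≠ x := by
    rintro rfl
    rw [cw.polar_self hdw] at h0
    exact absurd h0 (by decide)
  exact ⟨x, ⟨⟨hx.1, hne.symm, (cw.comm d hdw x hx hne).mpr h0⟩, hx⟩, hxv⟩

theorem chart_perp {d w : G} (hd : d ∈ D) (hw : w ∈ Dd D d) (cw : Chart D w Q) {x : G}
    (hx : x ∈ Common D d w) : polar Q (cw.f d) (cw.f x) = 0 :=
  (cw.comm d (Dd_symm hd hw) x hx.2 (Ne.symm hx.1.2.1)).mp hx.1.2.2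

theorem chart_perp' {d w : G} (hw : w ∈ Dd D d) (cd : Chart D d Q) {x : G}
    (hx : x ∈ Common D d w) : polar Q (cd.f w) (cd.f x) = 0 :=
  (cd.comm w hw x hx.1 (Ne.symm hx.2.2.1)).mp hx.2.2.2

theorem chart_point' {d w : G} (hw : w ∈ Dd D d) (cd : Chart D d Q) {v : Vec m}
    (hv : Q v = 1) (hperp : polar Q (cd.f w) v = 0) : ∃ x ∈ Common D d w, PM (cd.f x) v := by
  obtain ⟨x, hx, hxv⟩ := cd.surj v hv
  have h0 : polar Q (cd.f w) (cd.f x) = 0 := (hxv.polar_eq_zero' _).mpr hperp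
  have hne : w ≠ x := by
    rintro rfl
    rw [cd.polar_self hw] at h0
    exact absurd h0 (by decide)
  exact ⟨x, ⟨hx, ⟨hx.1, hne.symm, (cd.comm w hw x hx hne).mpr h0⟩⟩, hxv⟩

theorem exists_link (hD : Cfsg.IsThreeTranspositionGroup D) (hQ : (polarBilin Q).Nondegenerate)
    (hm : 6 ≤ m) {d w : G} (hd : d ∈ D) (hw : w ∈ Dd D d) (cd : Chart D d Q) (cw : Chart D w Q) :
    Nonempty (Link cd cw) := by
  obtain ⟨v, hv, hvw⟩ := exists_point_one hQ (by omega) (cd.f w)
  obtain ⟨b, hb, hbv⟩ := chart_point' hw cd hv hvw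
  obtain ⟨η, h1, h2⟩ := gram_switch cd.f cw.f (Common D d w) (fun x y => x * y * x)
    (fun x hx => cd.norm x hx.1) (fun x hx => cw.norm x hx.2)
    (fun x hx y hy => by
      by_cases hxy : x = y
      · subst hxy
        rw [cd.polar_self hx.1, cw.polar_self hx.2]
      · exact (cd.comm x hx.1 y hy.1 hxy).symm.trans (cw.comm x hx.2 y hy.2 hxy))
    (fun x hx y hy _ => ⟨⟨conj_mem_Dd hD hx.1 hy.1, conj_mem_Dd hD hx.2 hy.2⟩,
      cd.conj x hx.1 y hy.1, cw.conj x hx.2 y hy.2⟩) hb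
    (fun x hx h0 => by
      obtain ⟨z, hz, hzw, hzb, hzx⟩ := exists_join hQ (by omega) (cd.norm w hw) (cd.norm b hb.1)
        (cd.norm x hx.1) (chart_perp' hw cd hb) (chart_perp' hw cd hx) h0
      obtain ⟨y, hy, hyz⟩ := chart_point' hw cd hz hzw
      exact ⟨y, hy, fun h => hzb ((hyz.polar_eq_zero' _).mp h),
        fun h => hzx ((hyz.polar_eq_zero' _).mp h)⟩)
  exact ⟨⟨η, h1, h2⟩⟩

/-- Corresponding vectors of the two charts. -/
def Corr {d w : G} {cd : Chart D d Q} {cw : Chart D w Q} (L : Link cd cw) (v v' : Vec m) : Prop :=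
  polar Q (cd.f w) v = 0 ∧ polar Q (cw.f d) v' = 0 ∧
    ∀ x ∈ Common D d w, polar Q v' (cw.f x) = L.η x * polar Q v (cd.f x)

variable {d w : G} {cd : Chart D d Q} {cw : Chart D w Q}

theorem Corr.add {L : Link cd cw} {a a' b b' : Vec m} (h : Corr L a a') (h' : Corr L b b') :
    Corr L (a + b) (a' + b') := by
  refine ⟨by rw [polar_add_right, h.1, h'.1, add_zero], by rw [polar_add_right, h.2.1, h'.2.1, add_zero],
    fun x hx => ?_⟩
  rw [polar_add_left, polar_add_left, h.2.2 x hx, h'.2.2 x hx, mul_add]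

theorem Corr.smul {L : Link cd cw} {a a' : Vec m} (h : Corr L a a') (k : ZMod 3) :
    Corr L (k • a) (k • a') := by
  refine ⟨by rw [polar_smul_right, h.1, smul_zero], by rw [polar_smul_right, h.2.1, smul_zero],
    fun x hx => ?_⟩
  rw [polar_smul_left, polar_smul_left, h.2.2 x hx, smul_eq_mul, smul_eq_mul]
  ring

theorem Corr.sub {L : Link cd cw} {a a' b b' : Vec m} (h : Corr L a a') (h' : Corr L b b') :
    Corr L (a - b) (a' - b') := by
  simpa [sub_eq_add_neg] using h.add (h'.smul (-1))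

theorem Corr.zero {L : Link cd cw} : Corr L 0 0 :=
  ⟨by simp, by simp, fun x _ => by simp⟩

section

variable (hQ : (polarBilin Q).Nondegenerate) (hm : 6 ≤ m) (hd : d ∈ D) (hw : w ∈ Dd D d)

include hQ hm hd hw

theorem Corr.point {L : Link cd cw} {x : G} (hx : x ∈ Common D d w) :
    Corr L (cd.f x) (L.η x • cw.f x) := by
  refine ⟨chart_perp' hw cd hx, by rw [polar_smul_right, chart_perp hd hw cw hx, smul_zero],
    fun z hz => ?_⟩
  rw [polar_smul_left, L.gram x hx z hz, smul_eq_mul, ← mul_assoc, ← mul_assoc, L.sgn, one_mul]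

theorem Corr.zero_left {L : Link cd cw} {v' : Vec m} (h : Corr L 0 v') : v' = 0 := by
  by_contra h0
  obtain ⟨z, hz, hzd, hzv⟩ := exists_point_not_perp hQ (by omega) (cw.norm d (Dd_symm hd hw)) h.2.1 h0
  obtain ⟨x, hx, hxz⟩ := chart_point hd hw cw hz hzd
  apply hzv
  rw [← hxz.polar_eq_zero', h.2.2 x hx, polar_zero_left, mul_zero]

theorem Corr.zero_right {L : Link cd cw} {v : Vec m} (h : Corr L v 0) : v = 0 := by
  by_contra h0
  obtain ⟨z, hz, hzd, hzv⟩ := exists_point_not_perp hQ (by omega) (cd.norm w hw) h.1 h0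
  obtain ⟨x, hx, hxz⟩ := chart_point' hw cd hz hzd
  apply hzv
  have := h.2.2 x hx
  rw [polar_zero_left, eq_comm, mul_eq_zero] at this
  rw [← hxz.polar_eq_zero']
  exact this.resolve_left (sign_ne_zero (L.sgn x))

theorem Corr.exists_right {L : Link cd cw} {t : Vec m} (ht : polar Q (cd.f w) t = 0) :
    ∃ t', Corr L t t' ∧ ∀ v v', Corr L v v' → polar Q v' t' = polar Q v t := by
  have hmem := mem_span_points hQ (by omega) (cd.norm w hw) ht
  clear ht
  induction hmem using Submodule.span_induction with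
  | mem z hz =>
    obtain ⟨x, hx, hxz⟩ := chart_point' hw cd hz.1 hz.2
    obtain ⟨e, he, rfl⟩ := hxz.symm
    refine ⟨e • (L.η x • cw.f x), (Corr.point hQ hm hd hw hx).smul e, fun v v' hv => ?_⟩
    rw [polar_smul_right, polar_smul_right, polar_smul_right, hv.2.2 x hx, smul_eq_mul, smul_eq_mul,
      smul_eq_mul, ← mul_assoc (L.η x), L.sgn, one_mul]
  | zero => exact ⟨0, Corr.zero, fun v v' _ => by simp⟩
  | add a b _ _ ha hb =>
    obtain ⟨a', ha1, ha2⟩ := ha
    obtain ⟨b', hb1, hb2⟩ := hb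
    exact ⟨a' + b', ha1.add hb1, fun v v' hv => by
      rw [polar_add_right, polar_add_right, ha2 v v' hv, hb2 v v' hv]⟩
  | smul k a _ ha =>
    obtain ⟨a', ha1, ha2⟩ := ha
    exact ⟨k • a', ha1.smul k, fun v v' hv => by
      rw [polar_smul_right, polar_smul_right, ha2 v v' hv]⟩

theorem Corr.exists_left (L : Link cd cw) {t' : Vec m} (ht : polar Q (cw.f d) t' = 0) :
    ∃ t, Corr L t t' := by
  have hmem := mem_span_points hQ (by omega) (cw.norm d (Dd_symm hd hw)) ht
  clear ht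
  induction hmem using Submodule.span_induction with
  | mem z hz =>
    obtain ⟨x, hx, hxz⟩ := chart_point hd hw cw hz.1 hz.2
    obtain ⟨e, he, rfl⟩ := hxz.symm
    refine ⟨(e * L.η x) • cd.f x, ?_⟩
    have := (Corr.point hQ hm hd hw (L := L) hx).smul (e * L.η x)
    rwa [smul_smul, mul_assoc, L.sgn, mul_one] at this
  | zero => exact ⟨0, Corr.zero⟩
  | add a b _ _ ha hb =>
    obtain ⟨a', ha1⟩ := ha
    obtain ⟨b', hb1⟩ := hb
    exact ⟨a' + b', ha1.add hb1⟩
  | smul k a _ ha =>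
    obtain ⟨a', ha1⟩ := ha
    exact ⟨k • a', ha1.smul k⟩

theorem Corr.polar_eq {L : Link cd cw} {v v' t t' : Vec m} (hv : Corr L v v') (ht : Corr L t t') :
    polar Q v' t' = polar Q v t := by
  obtain ⟨t'', h1, h2⟩ := Corr.exists_right hQ hm hd hw (L := L) ht.1
  have h0 := h1.sub ht
  rw [sub_self] at h0
  rw [← sub_eq_zero.mp (Corr.zero_left hQ hm hd hw h0)]
  exact h2 v v' hv

theorem Corr.norm_eq {L : Link cd cw} {v v' : Vec m} (hv : Corr L v v') : Q v' = Q v := by
  have := Corr.polar_eq hQ hm hd hw hv hv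
  rw [pol_self, pol_self] at this
  exact mul_left_cancel₀ (by decide) this

end

/-- The member `a` has coordinates `(k, v)` in the linked charts. -/
def Rep {d w : G} {cd : Chart D d Q} {cw : Chart D w Q} (L : Link cd cw) (a : G) (k : ZMod 3)
    (v : Vec m) : Prop :=
  a ∈ Dd D w ∧ ∃ v', Corr L v v' ∧ PM (cw.f a) (k • cw.f d + v')

section

variable (hQ : (polarBilin Q).Nondegenerate) (hm : 6 ≤ m) (hd : d ∈ D) (hw : w ∈ Dd D d)

include hQ hm hd hw

theorem Rep.base {L : Link cd cw} : Rep L d 1 0 :=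
  ⟨Dd_symm hd hw, 0, Corr.zero, by rw [one_smul, add_zero]; exact PM.refl _⟩

theorem Rep.point {L : Link cd cw} {x : G} (hx : x ∈ Common D d w) : Rep L x 0 (cd.f x) :=
  ⟨hx.2, _, Corr.point hQ hm hd hw hx, by
    rw [zero_smul, zero_add]; exact (PM.smul (L.sgn x) _).symm⟩

theorem Rep.polar_coord {L : Link cd cw} {k l : ZMod 3} {v v' t t' : Vec m} (hv : Corr L v v')
    (ht : Corr L t t') :
    polar Q (k • cw.f d + v') (l • cw.f d + t') = 2 * k * l + polar Q v t := by
  rw [polar_add_left, polar_add_right, polar_add_right, polar_smul_left, polar_smul_left,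
    polar_smul_right, polar_smul_right, cw.polar_self (Dd_symm hd hw), ht.2.1, pol_comm v' (cw.f d),
    hv.2.1, Corr.polar_eq hQ hm hd hw hv ht]
  simp only [smul_eq_mul]
  ring

theorem Rep.norm_eq {L : Link cd cw} {a : G} {k : ZMod 3} {v : Vec m} (h : Rep L a k v) :
    k * k + Q v = 1 := by
  obtain ⟨ha, v', hv, hp⟩ := h
  have h1 := cw.norm a ha
  rw [hp.eq_one] at h1
  rw [← h1, map_add', map_smul', cw.norm d (Dd_symm hd hw), polar_smul_left, hv.2.1,
    Corr.norm_eq hQ hm hd hw hv]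
  simp

theorem Rep.perp_w {L : Link cd cw} {a : G} {k : ZMod 3} {v : Vec m} (h : Rep L a k v) :
    polar Q (cd.f w) v = 0 := by
  obtain ⟨-, v', hv, -⟩ := h
  exact hv.1

theorem Rep.commute_iff {L : Link cd cw} {a b : G} {k l : ZMod 3} {v t : Vec m} (ha : Rep L a k v)
    (hb : Rep L b l t) (hab : a ≠ b) : Commute a b ↔ 2 * k * l + polar Q v t = 0 := by
  obtain ⟨ha, v', hv, hpa⟩ := ha
  obtain ⟨hb, t', ht, hpb⟩ := hb
  rw [cw.comm a ha b hb hab, hpa.polar_eq_zero, hpb.polar_eq_zero',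
    Rep.polar_coord hQ hm hd hw hv ht]

theorem Rep.conj (hD : Cfsg.IsThreeTranspositionGroup D) {L : Link cd cw} {a b : G} {k l : ZMod 3}
    {v t : Vec m} (ha : Rep L a k v) (hb : Rep L b l t) :
    Rep L (a * b * a) (l - (2 * k * l + polar Q v t) * k) (t - (2 * k * l + polar Q v t) • v) := by
  obtain ⟨ha, v', hv, hpa⟩ := ha
  obtain ⟨hb, t', ht, hpb⟩ := hb
  refine ⟨conj_mem_Dd hD ha hb, _, ht.sub (hv.smul _), ?_⟩
  obtain ⟨e, he, hea⟩ := hpa
  obtain ⟨e', he', heb⟩ := hpb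
  have h1 := cw.conj a ha b hb
  rw [hea, heb, polar_smul_left, polar_smul_right, Rep.polar_coord hQ hm hd hw hv ht] at h1
  refine h1.trans ⟨e', he', ?_⟩
  funext i
  simp only [Pi.sub_apply, Pi.add_apply, Pi.smul_apply, smul_eq_mul]
  linear_combination (-(e' * (2 * k * l + polar Q v t) * (k * cw.f d i + v' i))) * he

theorem Rep.inj {L : Link cd cw} {a b : G} {k l e : ZMod 3} {v t : Vec m} (ha : Rep L a k v)
    (hb : Rep L b l t) (he : e * e = 1) (hk : k = e * l) (hv : v = e • t) : a = b := by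
  obtain ⟨ha, v', hv', hpa⟩ := ha
  obtain ⟨hb, t', ht', hpb⟩ := hb
  subst hv hk
  have h0 := hv'.sub (ht'.smul e)
  rw [sub_self] at h0
  rw [sub_eq_zero.mp (Corr.zero_left hQ hm hd hw h0), ← smul_smul, ← smul_add] at hpa
  exact cw.inj a ha b hb ((hpa.trans (PM.smul he _)).trans hpb.symm)

theorem Rep.unique {L : Link cd cw} {a : G} {k l : ZMod 3} {v t : Vec m} (ha : Rep L a k v)
    (hb : Rep L a l t) : ∃ e : ZMod 3, e * e = 1 ∧ k = e * l ∧ v = e • t := by
  obtain ⟨-, v', hv', hpa⟩ := ha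
  obtain ⟨-, t', ht', hpb⟩ := hb
  obtain ⟨e, he, hev⟩ := hpa.symm.trans hpb
  rw [smul_add, smul_smul] at hev
  have h1 := congrArg (fun x => polar Q (cw.f d) x) hev
  simp only [polar_add_right, polar_smul_right, cw.polar_self (Dd_symm hd hw), hv'.2.1, ht'.2.1,
    smul_eq_mul, mul_zero, add_zero] at h1
  have hk : k = e * l := mul_right_cancel₀ (show (2 : ZMod 3) ≠ 0 by decide) h1
  refine ⟨e, he, hk, ?_⟩
  rw [hk] at hev
  have h2 := hv'.sub (ht'.smul e)
  rw [add_left_cancel hev, sub_self] at h2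
  exact sub_eq_zero.mp (Corr.zero_right hQ hm hd hw h2)

theorem Rep.exists_member {L : Link cd cw} {k : ZMod 3} {v : Vec m} (hv : polar Q (cd.f w) v = 0)
    (hn : k * k + Q v = 1) : ∃ a, Rep L a k v := by
  obtain ⟨v', h1, -⟩ := Corr.exists_right hQ hm hd hw (L := L) hv
  have hQ1 : Q (k • cw.f d + v') = 1 := by
    rw [map_add', map_smul', cw.norm d (Dd_symm hd hw), polar_smul_left, h1.2.1,
      Corr.norm_eq hQ hm hd hw h1]
    simpa using hn
  obtain ⟨a, ha, hp⟩ := cw.surj _ hQ1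
  exact ⟨a, ha, v', h1, hp⟩

/-- A member commuting with `w` but not with `d` has coordinates `(1, u)`. -/
theorem Rep.exists_coord (L : Link cd cw) {y : G} (hy : y ∈ D) (hwy : Commute w y)
    (hdy : ¬ Commute d y) : ∃ u, Rep L y 1 u := by
  have hyw : y ∈ Dd D w := ⟨hy, fun h => hdy (h ▸ hw.2.2), hwy⟩
  have hne : d ≠ y := fun h => hdy (h ▸ Commute.refl d)
  have ht : polar Q (cw.f d) (cw.f y) ≠ 0 := fun h =>
    hdy ((cw.comm d (Dd_symm hd hw) y hyw hne).mpr h)
  set s := polar Q (cw.f d) (cw.f y)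
  have hperp : polar Q (cw.f d) (-s • cw.f y - cw.f d) = 0 := by
    rw [polar_sub_right, polar_smul_right, cw.polar_self (Dd_symm hd hw), smul_eq_mul]
    have key : ∀ r : ZMod 3, r ≠ 0 → -r * r - 2 = 0 := by decide
    exact key s ht
  obtain ⟨u, hu⟩ := Corr.exists_left hQ hm hd hw L hperp
  refine ⟨u, hyw, _, hu, ?_⟩
  rw [one_smul, add_sub_cancel]
  refine (PM.smul ?_ _).symm
  have key : ∀ r : ZMod 3, r ≠ 0 → -r * -r = 1 := by decide
  exact key s ht

end

end Cfsg.Agent.FischerOrth94
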