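import Cfsg.Agent.Lib.FischerOrthIso94

/-!
# From the local quotient to an orthogonal chart

If the group generated by the members commuting with `d`, modulo its centre, is a projective
reflection group with those members going to the reflections, there is a chart at `d`.
-/

set_option autoImplicit false
set_option linter.unusedSectionVars false

namespace Cfsg.Agent.FischerOrth94

open QuadraticMap Cfsg.Agent Matrix

variable {m : ℕ} {Q : QuadraticForm (ZMod 3) (Vec m)} {c : ZMod 3}

theorem smul_polar (v w : Vec m) : polar (c • Q : QuadraticForm (ZMod 3) (Vec m)) v w = c * polar Q v w := by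
  simp only [QuadraticMap.polar, _root_.smul_eq_mul, _root_.smul_apply]
  ring

theorem smul_nondegenerate (hQ : (polarBilin Q).Nondegenerate) (hc : c ≠ 0) :
    (polarBilin (c • Q : QuadraticForm (ZMod 3) (Vec m))).Nondegenerate := by
  have hl : ∀ x : Vec m, (∀ y, polar (c • Q : QuadraticForm (ZMod 3) (Vec m)) x y = 0) → x = 0 :=
    fun x hx => sep hQ fun y => by
      have := hx y
      rw [smul_polar] at this
      exact (mul_eq_zero.mp this).resolve_left hc
  exact ⟨hl, fun y hy => hl y fun x =>
    (polar_comm (⇑(c • Q : QuadraticForm (ZMod 3) (Vec m))) y x).trans (hy x)⟩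

theorem smul_one_iff (hc : c ≠ 0) (v : Vec m) :
    (c • Q : QuadraticForm (ZMod 3) (Vec m)) v = 1 ↔ Q v = c := by
  rw [_root_.smul_apply, smul_eq_mul]
  revert hc
  generalize Q v = a
  revert c a
  decide

theorem reflection_scaled (hc : c ≠ 0) {v : Vec m} (hv : Q v = c) (x : Vec m) :
    Cfsg.reflectionMatrix (⇑Q) v *ᵥ x =
      x - polar (c • Q : QuadraticForm (ZMod 3) (Vec m)) v x • v := by
  rw [ReflectionThree.mulVec_reflection, hv, smul_polar, ReflectionThree.inv_eq_self']

/-- The image of a norm-`c` vector under such a reflection has norm `c`. -/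
theorem reflection_norm (hc : c ≠ 0) {v w : Vec m} (hv : Q v = c) (hw : Q w = c) :
    Q (w - polar (c • Q : QuadraticForm (ZMod 3) (Vec m)) v w • v) = c := by
  rw [← reflection_scaled hc hv, ReflectionThree.Q_reflection Q (hv ▸ hc), hw]

/-- A reflection as an element of the reflection group. -/
noncomputable def reflMem (hc : c ≠ 0) {v : Vec m} (hv : Q v = c) :
    ↥(Cfsg.reflectionSubgroup (⇑Q) c) :=
  ⟨⟨⟨Cfsg.reflectionMatrix (⇑Q) v, Cfsg.reflectionMatrix (⇑Q) v,
      ReflectionThree.reflection_sq Q (hv ▸ hc), ReflectionThree.reflection_sq Q (hv ▸ hc)⟩,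
    fun u _ => ReflectionThree.Q_reflection Q (hv ▸ hc) u⟩,
    Subgroup.subset_closure ⟨v, hv, rfl⟩⟩

theorem reflMem_mat (hc : c ≠ 0) {v : Vec m} (hv : Q v = c) :
    isoMat Q (reflMem hc hv : ↥(Cfsg.isometryGroup (ZMod 3) (⇑Q))) = Cfsg.reflectionMatrix (⇑Q) v :=
  rfl

theorem reflMem_pm (hc : c ≠ 0) {v w : Vec m} (hv : Q v = c) (hw : Q w = c) (h : PM v w) :
    reflMem hc hv = reflMem hc hw :=
  Subtype.ext (isoMat_inj Q (reflection_pm Q h))

theorem reflMem_conj (hc : c ≠ 0) {v w : Vec m} (hv : Q v = c) (hw : Q w = c) :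
    reflMem hc hv * reflMem hc hw * reflMem hc hv = reflMem hc (reflection_norm hc hv hw) := by
  refine Subtype.ext (isoMat_inj Q ?_)
  simp only [Subgroup.coe_mul, isoMat_mul, reflMem_mat, ← reflection_scaled hc hv]
  exact ReflectionThree.reflection_conj Q (hv ▸ hc) w

theorem reflMem_sq (hc : c ≠ 0) {v : Vec m} (hv : Q v = c) : reflMem hc hv * reflMem hc hv = 1 := by
  refine Subtype.ext (isoMat_inj Q ?_)
  simp only [Subgroup.coe_mul, isoMat_mul, reflMem_mat, Subgroup.coe_one, isoMat_one]
  exact ReflectionThree.reflection_sq Q (hv ▸ hc)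

theorem reflection_eq_pm (hc : c ≠ 0) {v w : Vec m} (hv : Q v = c) (hw : Q w = c)
    (h : Cfsg.reflectionMatrix (⇑Q) v = Cfsg.reflectionMatrix (⇑Q) w) : PM v w := by
  have h1 := congrArg (fun M => M *ᵥ w) h
  simp only [ReflectionThree.reflection_self Q (hw ▸ hc : Q w ≠ 0)] at h1
  rw [reflection_scaled hc hv] at h1
  set t := polar (c • Q : QuadraticForm (ZMod 3) (Vec m)) v w
  have h2 : t • v = (2 : ZMod 3) • w := by
    funext i
    have := congrFun h1 i
    simp only [Pi.sub_apply, Pi.neg_apply, Pi.smul_apply, smul_eq_mul] at this ⊢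
    linear_combination -this
  have ht : t ≠ 0 := by
    intro h0
    rw [h0, zero_smul] at h2
    exact (ReflectionThree.ne_zero_of_norm Q (hw ▸ hc : Q w ≠ 0))
      ((smul_eq_zero.mp h2.symm).resolve_left (by decide))
  refine ⟨2 * t, by revert ht; generalize t = a; revert a; decide, ?_⟩
  have h3 := congrArg (t • ·) h2
  simp only [smul_smul] at h3
  rwa [show t * t = 1 by revert ht; generalize t = a; revert a; decide, one_smul, mul_comm] at h3

/-- Reflections congruent modulo the centre are equal. -/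
theorem pm_of_mk_eq (hQ : (polarBilin Q).Nondegenerate) (hm : 4 ≤ m) (hc : c ≠ 0) {v w : Vec m}
    (hv : Q v = c) (hw : Q w = c)
    (h : (QuotientGroup.mk (reflMem hc hv) : _ ⧸ Subgroup.center ↥(Cfsg.reflectionSubgroup (⇑Q) c))
      = QuotientGroup.mk (reflMem hc hw)) : PM v w := by
  set Q' : QuadraticForm (ZMod 3) (Vec m) := c • Q with hQ'
  have hv1 : Q' v = 1 := (smul_one_iff hc v).mpr hv
  have hw1 : Q' w = 1 := (smul_one_iff hc w).mpr hw
  set z := (reflMem hc hv)⁻¹ * reflMem hc hw with hz
  have hzc : z ∈ Subgroup.center _ := QuotientGroup.eq.mp h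
  have hwv : reflMem hc hw = reflMem hc hv * z := by rw [hz, mul_inv_cancel_left]
  have hconj : ∀ t : Vec m, ∀ ht : Q t = c,
      PM (t - polar Q' w t • w) (t - polar Q' v t • v) := by
    intro t ht
    refine reflection_eq_pm hc (reflection_norm hc hw ht) (reflection_norm hc hv ht) ?_
    have hzr : ∀ g, z * g = g * z := fun g => (Subgroup.mem_center_iff.mp hzc g).symm
    have h1 : reflMem hc hw * reflMem hc ht * reflMem hc hw =
        reflMem hc hv * reflMem hc ht * reflMem hc hv := by
      have hzz : z * z = 1 := by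
        have h2 := reflMem_sq hc hw
        rwa [hwv, mul_assoc, ← mul_assoc z, hzr, mul_assoc (reflMem hc hv) z z, ← mul_assoc,
          reflMem_sq hc hv, one_mul] at h2
      calc reflMem hc hw * reflMem hc ht * reflMem hc hw
          = reflMem hc hv * (z * reflMem hc ht) * (reflMem hc hv * z) := by
            rw [hwv]; simp only [mul_assoc]
        _ = reflMem hc hv * reflMem hc ht * (z * reflMem hc hv) * z := by
            rw [hzr]; simp only [mul_assoc]
        _ = reflMem hc hv * reflMem hc ht * reflMem hc hv := by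
            rw [hzr]; simp only [mul_assoc]; rw [hzz, mul_one]
    rw [reflMem_conj, reflMem_conj] at h1
    exact congrArg (fun g : ↥(Cfsg.reflectionSubgroup (⇑Q) c) => isoMat Q (g : ↥(Cfsg.isometryGroup _ _))) h1
  by_cases hvw : polar Q' v w = 0
  · exfalso
    obtain ⟨s, hs, hsa, -⟩ := exists_norm_perp (smul_nondegenerate hQ hc) (k := 0) ![v, w]
      (fun i => by fin_cases i <;> simp [← hQ', hv1, hw1]) (orth2 hvw) ![] (by omega)
      (show (2 : ZMod 3) ≠ 0 by decide)
    have h1 : polar Q' v s = 0 := hsa 0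
    have h2 : polar Q' w s = 0 := hsa 1
    have hs' : Q' s = 2 := hs
    have hQt : Q' (v + w + s) = 1 := by
      rw [map_add', map_add', hv1, hw1, hs', hvw, polar_add_left, h1, h2]; decide
    obtain ⟨e, he, heq⟩ := hconj (v + w + s) ((smul_one_iff hc _).mp hQt)
    have e1 := congrArg (fun x => polar Q' s x) heq
    have e2 := congrArg (fun x => polar Q' v x) heq
    simp only [polar_add_right, polar_sub_right, polar_smul_right, pol_comm s v, pol_comm s w,
      pol_comm w v, h1, h2, hvw, pol_self, hv1, hw1, hs', smul_eq_mul] at e1 e2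
    clear heq
    revert e
    decide
  · obtain ⟨e, he, heq⟩ := hconj v hv
    have e0 : polar Q' v v = 2 := by rw [pol_self, hv1, mul_one]
    rw [e0, pol_comm w v] at heq
    have hb : polar Q' v w * polar Q' v w = 1 := by
      revert hvw; generalize polar Q' v w = a; revert a; decide
    have h4 : polar Q' v w • w = (1 + e) • v := by
      funext i
      have := congrFun heq i
      simp only [Pi.sub_apply, Pi.smul_apply, smul_eq_mul] at this ⊢
      linear_combination -this
    have h5 := congrArg (polar Q' v w • ·) h4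
    simp only [smul_smul, hb, one_smul] at h5
    have hne : polar Q' v w * (1 + e) ≠ 0 := fun h0 => by
      rw [h0, zero_smul] at h5
      rw [h5, QuadraticMap.map_zero] at hw
      exact hc hw.symm
    refine (PM.symm ⟨_, ?_, h5⟩)
    revert hne; generalize polar Q' v w * (1 + e) = a; revert a; decide

variable {G : Type*} [Group G] {D : Set G}

/-- A chart from the local quotient. -/
theorem exists_chart (hD : Cfsg.IsThreeTranspositionGroup D) (hQ : (polarBilin Q).Nondegenerate)
    (hm : 5 ≤ m) (hc : c ≠ 0) {d : G}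
    (e : ↥(Subgroup.closure (Dd D d)) ⧸ Subgroup.center ↥(Subgroup.closure (Dd D d)) ≃*
      ↥(Cfsg.reflectionSubgroup (⇑Q) c) ⧸ Subgroup.center ↥(Cfsg.reflectionSubgroup (⇑Q) c))
    (he : e '' ((QuotientGroup.mk : ↥(Subgroup.closure (Dd D d)) → _) ''
        {x : ↥(Subgroup.closure (Dd D d)) | (x : G) ∈ Dd D d}) =
      (QuotientGroup.mk : ↥(Cfsg.reflectionSubgroup (⇑Q) c) → _) ''
        {g : ↥(Cfsg.reflectionSubgroup (⇑Q) c) |
          (g : ↥(Cfsg.isometryGroup (ZMod 3) (⇑Q))) ∈ Cfsg.reflectionsOfNorm (⇑Q) c}) :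
    Nonempty (Chart D d (c • Q : QuadraticForm (ZMod 3) (Vec m))) := by
  classical
  set Q' : QuadraticForm (ZMod 3) (Vec m) := c • Q with hQ'
  let el : ∀ x ∈ Dd D d, ↥(Subgroup.closure (Dd D d)) := fun x hx => ⟨x, Subgroup.subset_closure hx⟩
  have hval : ∀ x, ∀ hx : x ∈ Dd D d, ∃ v, ∃ hv : Q v = c,
      e (QuotientGroup.mk (el x hx)) = QuotientGroup.mk (reflMem hc hv) := by
    intro x hx
    have h1 := Set.mem_image_of_mem e
      (Set.mem_image_of_mem (QuotientGroup.mk : ↥(Subgroup.closure (Dd D d)) → ↥(Subgroup.closure (Dd D d)) ⧸ Subgroup.center ↥(Subgroup.closure (Dd D d)))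
        (show el x hx ∈ {x : ↥(Subgroup.closure (Dd D d)) | (x : G) ∈ Dd D d} from hx))
    rw [he] at h1
    obtain ⟨g, ⟨v, hv, hg⟩, hge⟩ := h1
    refine ⟨v, hv, ?_⟩
    rw [← hge]
    congr 1
    exact Subtype.ext (isoMat_inj Q hg)
  choose f hf hfe using hval
  set F : G → Vec m := fun x => if h : x ∈ Dd D d then f x h else 0 with hF
  have Feq : ∀ x, ∀ hx : x ∈ Dd D d, F x = f x hx := fun x hx => dif_pos hx
  have hnorm : ∀ x ∈ Dd D d, Q' (F x) = 1 := fun x hx => by
    rw [Feq x hx]; exact (smul_one_iff hc _).mpr (hf x hx)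
  -- commuting modulo the centre is commuting
  have hcomm : ∀ x, ∀ hx : x ∈ Dd D d, ∀ y, ∀ hy : y ∈ Dd D d,
      Commute (QuotientGroup.mk (el x hx) : ↥(Subgroup.closure (Dd D d)) ⧸ Subgroup.center ↥(Subgroup.closure (Dd D d))) (QuotientGroup.mk (el y hy)) →
      Commute x y := by
    intro x hx y hy h
    by_contra hxy
    have hxx := ThreeTrans.mul_self hD.1 hx.1
    have hyy := ThreeTrans.mul_self hD.1 hy.1
    have hz : (el x hx * el y hy)⁻¹ * (el y hy * el x hx) ∈ Subgroup.center ↥(Subgroup.closure (Dd D d)) :=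
      QuotientGroup.eq.mp h
    have h3 := ThreeTrans.cube_of_not_commute hD.1 hx.1 hy.1 hxy
    have hv : (((el x hx * el y hy)⁻¹ * (el y hy * el x hx) : ↥(Subgroup.closure (Dd D d))) : G) = x * y := by
      have h5 : (y * x) ^ 2 = x * y := by
        have h6 : (y * x) * (x * y) = 1 := by
          rw [show y * x * (x * y) = y * (x * x) * y by simp only [mul_assoc], hxx, mul_one, hyy]
        calc (y * x) ^ 2 = (y * x) ^ 2 * ((x * y) ^ 3) := by rw [h3, mul_one]
          _ = (y * x) * ((y * x) * (x * y)) * (x * y) * (x * y) := by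
            simp only [pow_succ, pow_zero, one_mul, mul_assoc]
          _ = x * y := by rw [h6, mul_one, h6, one_mul]
      rw [← h5]
      simp only [Subgroup.coe_mul, Subgroup.coe_inv, el, _root_.mul_inv_rev, ThreeTrans.inv_self hD.1 hx.1,
        ThreeTrans.inv_self hD.1 hy.1, pow_two, mul_assoc]
    have h7 := congrArg Subtype.val (Subgroup.mem_center_iff.mp hz (el x hx))
    simp only [Subgroup.coe_mul] at h7 hv
    rw [hv] at h7
    have h8 : x * (x * y) = x * y * x := h7
    rw [← mul_assoc, hxx, one_mul] at h8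
    apply hxy
    show x * y = y * x
    calc x * y = x * y * x * x := by rw [mul_assoc, hxx, mul_one]
      _ = y * x := by rw [← h8]
  have hPMiff : ∀ x, ∀ hx : x ∈ Dd D d, ∀ y, ∀ hy : y ∈ Dd D d, PM (F x) (F y) →
      (QuotientGroup.mk (el x hx) : ↥(Subgroup.closure (Dd D d)) ⧸ Subgroup.center ↥(Subgroup.closure (Dd D d))) = QuotientGroup.mk (el y hy) := by
    intro x hx y hy h
    rw [Feq x hx, Feq y hy] at h
    apply e.injective
    rw [hfe x hx, hfe y hy]
    exact congrArg _ (reflMem_pm hc (hf x hx) (hf y hy) h)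
  have hQ'n := smul_nondegenerate hQ hc
  have hperp : ∀ x, ∀ hx : x ∈ Dd D d, ∀ y, ∀ hy : y ∈ Dd D d,
      polar Q' (F x) (F y) = 0 → Commute x y := by
    intro x hx y hy h
    apply hcomm x hx y hy
    apply Commute.of_map (f := e) e.injective
    rw [hfe x hx, hfe y hy]
    rw [Feq x hx, Feq y hy] at h
    have h2 := reflMem_conj hc (hf x hx) (hf y hy)
    have h4 : PM (f y hy - polar Q' (f x hx) (f y hy) • f x hx) (f y hy) := by
      rw [h, zero_smul, sub_zero]; exact PM.refl _
    replace h2 := h2.trans (reflMem_pm hc (reflection_norm hc (hf x hx) (hf y hy)) (hf y hy) h4)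
    have h3 : Commute (reflMem hc (hf x hx)) (reflMem hc (hf y hy)) := by
      show _ * _ = _ * _
      calc _ = reflMem hc (hf x hx) * reflMem hc (hf y hy) *
            (reflMem hc (hf x hx) * reflMem hc (hf x hx)) := by rw [reflMem_sq, mul_one]
        _ = _ := by rw [← mul_assoc, h2]
    exact h3.map (QuotientGroup.mk' _)
  have hsurj : ∀ v, Q' v = 1 → ∃ x ∈ Dd D d, PM (F x) v := by
    intro v hv
    have hv' : Q v = c := (smul_one_iff hc v).mp hv
    have h1 : (QuotientGroup.mk (reflMem hc hv') : _ ⧸ Subgroup.center _) ∈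
        e '' ((QuotientGroup.mk : ↥(Subgroup.closure (Dd D d)) → _) ''
          {x : ↥(Subgroup.closure (Dd D d)) | (x : G) ∈ Dd D d}) := by
      rw [he]
      exact ⟨reflMem hc hv', ⟨v, hv', rfl⟩, rfl⟩
    obtain ⟨-, ⟨x, hx, rfl⟩, hxe⟩ := h1
    refine ⟨x, hx, ?_⟩
    rw [Feq _ hx]
    apply pm_of_mk_eq hQ (by omega) hc (hf _ hx) hv'
    rw [← hfe, ← hxe]
  have hrev : ∀ x, ∀ hx : x ∈ Dd D d, ∀ y, ∀ hy : y ∈ Dd D d, Commute x y →
      polar Q' (F x) (F y) = 0 ∨ PM (F x) (F y) := by
    intro x hx y hy h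
    have h1 : Commute (el x hx) (el y hy) := Subtype.ext h.eq
    have h2 : Commute (e (QuotientGroup.mk (el x hx))) (e (QuotientGroup.mk (el y hy))) :=
      (h1.map (QuotientGroup.mk' _)).map e
    rw [hfe x hx, hfe y hy] at h2
    have h3 : (QuotientGroup.mk (reflMem hc (hf x hx) * reflMem hc (hf y hy) * reflMem hc (hf x hx)) :
        _ ⧸ Subgroup.center ↥(Cfsg.reflectionSubgroup (⇑Q) c)) = QuotientGroup.mk (reflMem hc (hf y hy)) := by
      rw [QuotientGroup.mk_mul, QuotientGroup.mk_mul, h2.eq, mul_assoc, ← QuotientGroup.mk_mul,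
        reflMem_sq, QuotientGroup.mk_one, mul_one]
    rw [reflMem_conj] at h3
    obtain ⟨r, hr, hre⟩ := pm_of_mk_eq hQ (by omega) hc _ _ h3
    rw [Feq x hx, Feq y hy]
    rcases (show ∀ r : ZMod 3, r * r = 1 → r = 1 ∨ r = -1 by decide) r hr with rfl | rfl
    · left
      rw [one_smul, sub_eq_self, smul_eq_zero] at hre
      exact hre.resolve_right (ReflectionThree.ne_zero_of_norm Q (by rw [hf]; exact hc))
    · right
      have hB : polar Q' (f x hx) (f y hy) • f x hx = (2 : ZMod 3) • f y hy := by
        funext i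
        have := congrFun hre i
        simp only [← hQ', Pi.sub_apply, Pi.smul_apply, smul_eq_mul] at this ⊢
        linear_combination -this
      have hB0 : polar Q' (f x hx) (f y hy) ≠ 0 := fun h0 => by
        rw [h0, zero_smul] at hB
        exact ReflectionThree.ne_zero_of_norm Q (v := f y hy) (by rw [hf]; exact hc)
          ((smul_eq_zero.mp hB.symm).resolve_left (by decide))
      revert hB hB0
      generalize polar Q' (f x hx) (f y hy) = b
      intro hB hB0
      refine (PM.symm ⟨2 * b, ?_, ?_⟩)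
      · have key : ∀ b : ZMod 3, b ≠ 0 → 2 * b * (2 * b) = 1 := by decide
        exact key b hB0
      · have h4 := congrArg ((2 : ZMod 3) • ·) hB
        simp only [smul_smul] at h4
        rw [show (2 : ZMod 3) * 2 = 1 by decide, one_smul] at h4
        exact h4.symm
  have hinj : ∀ x, x ∈ Dd D d → ∀ y, y ∈ Dd D d → PM (F x) (F y) → x = y := by
    intro x hx y hy h
    obtain ⟨p, hp, hpx, -⟩ := exists_norm_perp hQ'n (k := 0) ![F x]
      (fun i => by fin_cases i; exact ne_zero_of_one (hnorm x hx)) (orth1 _) ![] (by omega) (one_ne_zero (α := ZMod 3))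
    have hxp : polar Q' (F x) p = 0 := hpx 0
    obtain ⟨s, hs, hsa, -⟩ := exists_norm_perp hQ'n (k := 0) ![F x, p]
      (fun i => by fin_cases i <;> first | exact ne_zero_of_one (hnorm x hx) | exact ne_zero_of_one hp) (orth2 hxp) ![] (by omega)
      (show (2 : ZMod 3) ≠ 0 by decide)
    have hxs : polar Q' (F x) s = 0 := hsa 0
    have hps : polar Q' p s = 0 := hsa 1
    obtain ⟨z, hz, hzt⟩ := hsurj (F x + p + s) (by
      rw [map_add', map_add', hnorm x hx, hp, hs, hxp, polar_add_left, hxs, hps]; decide)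
    have hxz : polar Q' (F x) (F z) ≠ 0 := fun h0 => by
      have := (hzt.polar_eq_zero' (Q := Q') (F x)).mp h0
      rw [polar_add_right, polar_add_right, pol_self, hnorm x hx, hxp, hxs] at this
      exact absurd this (by decide)
    have hpz : polar Q' p (F z) ≠ 0 := fun h0 => by
      have := (hzt.polar_eq_zero' (Q := Q') p).mp h0
      rw [polar_add_right, polar_add_right, pol_self, hp, pol_comm, hxp, hps] at this
      exact absurd this (by decide)
    have key : ∀ w, ∀ hw : w ∈ Dd D d, PM (F x) (F w) → ¬ Commute w z := by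
      intro w hw hxw hcz
      rcases hrev w hw z hz hcz with h0 | h0
      · exact hxz ((hxw.polar_eq_zero _).mpr h0)
      · exact hpz (((hxw.trans h0).symm.polar_eq_zero' (Q := Q') p).mpr (by rw [pol_comm]; exact hxp))
    have hc1 : z * (x * y) = x * y * z := by
      have h1 := QuotientGroup.eq.mp (hPMiff x hx y hy h)
      have h2 := congrArg Subtype.val (Subgroup.mem_center_iff.mp h1 (el z hz))
      simpa [el, ThreeTrans.inv_self hD.1 hx.1] using h2
    have bx := ThreeTrans.braid hD.1 hx.1 hz.1 (key x hx (PM.refl _))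
    have by' := ThreeTrans.braid hD.1 hy.1 hz.1 (key y hy h)
    have hzz := ThreeTrans.mul_self hD.1 hz.1
    have hxx := ThreeTrans.mul_self hD.1 hx.1
    have hyy := ThreeTrans.mul_self hD.1 hy.1
    have hxy : x * y = 1 := by
      have h1 : (z * x * z) * (z * y * z) = x * y := by
        calc (z * x * z) * (z * y * z) = z * x * (z * z) * y * z := by simp only [mul_assoc]
          _ = z * (x * y) * z := by rw [hzz, mul_one]; simp only [mul_assoc]
          _ = x * y := by rw [hc1, mul_assoc, hzz, mul_one]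
      rw [← bx, ← by'] at h1
      have h2 : z * (x * y) * z = 1 := by
        calc z * (x * y) * z = x * ((x * z * x) * (y * z * y)) * y := by
              simp only [mul_assoc]; rw [← mul_assoc x x, hxx, one_mul, hyy, mul_one]
          _ = 1 := by rw [h1, ← mul_assoc x x, hxx, one_mul, hyy]
      rw [hc1, mul_assoc, hzz, mul_one] at h2
      exact h2
    calc x = x * (y * y) := by rw [hyy, mul_one]
      _ = y := by rw [← mul_assoc, hxy, one_mul]
  refine ⟨⟨F, hnorm, hinj, hsurj, fun x hx y hy hne => ⟨fun h => ?_, hperp x hx y hy⟩,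
    fun x hx y hy => ?_⟩⟩
  · exact (hrev x hx y hy h).resolve_right fun h0 => hne (hinj x hx y hy h0)
  · have hxy := conj_mem_Dd hD hx hy
    rw [Feq x hx, Feq y hy, Feq _ hxy]
    refine pm_of_mk_eq hQ (by omega) hc (hf _ hxy) (reflection_norm hc (hf x hx) (hf y hy)) ?_
    rw [← hfe _ hxy, ← reflMem_conj hc (hf x hx) (hf y hy), QuotientGroup.mk_mul, QuotientGroup.mk_mul, ← hfe x hx, ← hfe y hy, ← map_mul,
      ← map_mul]
    rfl

end Cfsg.Agent.FischerOrth94
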