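import Mathlib

/-!
Tables for `PO(5,3)` on its norm-one points: the isotropic points of the unitary space of dimension four
over the field with four elements, and the points of norm one of the elliptic quadric of dimension six
over the field with two elements.
-/

set_option autoImplicit false

namespace Cfsg.Agent.FischerOrthFiveData47

/-- The field with four elements, as `a + b ω`. -/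
abbrev M := ZMod 2 × ZMod 2

/-- Norm-one points of `x₁² + … + x₅²`. -/
def ptsU : Fin 45 → Fin 5 → ZMod 3 := ![
  ![0, 0, 0, 0, 1], ![0, 0, 0, 1, 0], ![0, 0, 1, 0, 0], ![0, 1, 0, 0, 0],
  ![0, 1, 1, 1, 1], ![0, 1, 1, 1, 2], ![0, 1, 1, 2, 1], ![0, 1, 1, 2, 2],
  ![0, 1, 2, 1, 1], ![0, 1, 2, 1, 2], ![0, 1, 2, 2, 1], ![0, 1, 2, 2, 2],
  ![1, 0, 0, 0, 0], ![1, 0, 1, 1, 1], ![1, 0, 1, 1, 2], ![1, 0, 1, 2, 1],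
  ![1, 0, 1, 2, 2], ![1, 0, 2, 1, 1], ![1, 0, 2, 1, 2], ![1, 0, 2, 2, 1],
  ![1, 0, 2, 2, 2], ![1, 1, 0, 1, 1], ![1, 1, 0, 1, 2], ![1, 1, 0, 2, 1],
  ![1, 1, 0, 2, 2], ![1, 1, 1, 0, 1], ![1, 1, 1, 0, 2], ![1, 1, 1, 1, 0],
  ![1, 1, 1, 2, 0], ![1, 1, 2, 0, 1], ![1, 1, 2, 0, 2], ![1, 1, 2, 1, 0],
  ![1, 1, 2, 2, 0], ![1, 2, 0, 1, 1], ![1, 2, 0, 1, 2], ![1, 2, 0, 2, 1],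
  ![1, 2, 0, 2, 2], ![1, 2, 1, 0, 1], ![1, 2, 1, 0, 2], ![1, 2, 1, 1, 0],
  ![1, 2, 1, 2, 0], ![1, 2, 2, 0, 1], ![1, 2, 2, 0, 2], ![1, 2, 2, 1, 0],
  ![1, 2, 2, 2, 0]]

/-- Their images. -/
def imgU : Fin 45 → Fin 4 → M := ![
  ![(0, 0), (0, 0), (1, 0), (1, 0)], ![(1, 0), (1, 0), (0, 0), (0, 0)], ![(1, 0), (1, 0), (1, 0), (1, 0)], ![(1, 0), (1, 0), (0, 1), (0, 1)],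
  ![(0, 0), (1, 0), (0, 0), (1, 1)], ![(0, 0), (1, 0), (1, 1), (0, 0)], ![(1, 0), (0, 0), (0, 0), (1, 1)], ![(1, 0), (0, 0), (1, 1), (0, 0)],
  ![(1, 0), (0, 1), (1, 0), (1, 1)], ![(1, 0), (0, 1), (1, 1), (1, 0)], ![(1, 0), (1, 1), (1, 1), (0, 1)], ![(1, 0), (1, 1), (0, 1), (1, 1)],
  ![(1, 0), (1, 0), (1, 1), (1, 1)], ![(1, 0), (0, 0), (0, 1), (0, 0)], ![(1, 0), (0, 0), (0, 0), (0, 1)], ![(0, 0), (1, 0), (0, 1), (0, 0)],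
  ![(0, 0), (1, 0), (0, 0), (0, 1)], ![(1, 0), (0, 1), (1, 1), (0, 1)], ![(1, 0), (0, 1), (0, 1), (1, 1)], ![(1, 0), (1, 1), (0, 1), (1, 0)],
  ![(1, 0), (1, 1), (1, 0), (0, 1)], ![(1, 0), (0, 1), (0, 1), (1, 0)], ![(1, 0), (0, 1), (1, 0), (0, 1)], ![(1, 0), (1, 1), (1, 0), (1, 1)],
  ![(1, 0), (1, 1), (1, 1), (1, 0)], ![(1, 0), (1, 0), (0, 1), (1, 1)], ![(1, 0), (1, 0), (1, 1), (0, 1)], ![(1, 0), (1, 1), (0, 1), (0, 1)],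
  ![(1, 0), (0, 1), (1, 1), (1, 1)], ![(0, 0), (0, 0), (1, 0), (1, 1)], ![(0, 0), (0, 0), (1, 0), (0, 1)], ![(1, 0), (0, 1), (0, 0), (0, 0)],
  ![(1, 0), (1, 1), (0, 0), (0, 0)], ![(0, 0), (1, 0), (0, 0), (1, 0)], ![(0, 0), (1, 0), (1, 0), (0, 0)], ![(1, 0), (0, 0), (0, 0), (1, 0)],
  ![(1, 0), (0, 0), (1, 0), (0, 0)], ![(1, 0), (1, 0), (0, 1), (1, 0)], ![(1, 0), (1, 0), (1, 0), (0, 1)], ![(1, 0), (0, 1), (0, 1), (0, 1)],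
  ![(1, 0), (1, 1), (1, 0), (1, 0)], ![(1, 0), (1, 0), (1, 1), (1, 0)], ![(1, 0), (1, 0), (1, 0), (1, 1)], ![(1, 0), (1, 1), (1, 1), (1, 1)],
  ![(1, 0), (0, 1), (1, 0), (1, 0)]]

/-- The index of a point, by code. -/
def ixU : List (Fin 45) := [0, 12, 12, 3, 0, 0, 3, 0, 0, 2, 0, 0, 0, 0, 0, 0, 0, 0, 2, 0, 0, 0, 0, 0, 0, 0, 0, 1, 0, 0, 0, 0, 0, 0, 0, 0, 0, 0, 0, 0, 27, 44, 0, 39, 32, 0, 0, 0, 0, 31, 40, 0, 43, 28, 1, 0, 0, 0, 0, 0, 0, 0, 0, 0, 0, 0, 0, 28, 43, 0, 40, 31, 0, 0, 0, 0, 32, 39, 0, 44, 27, 0, 0, 0, 0, 0, 0, 0, 0, 0, 0, 0, 0, 0, 25, 42, 0, 37, 30, 0, 0, 0, 0, 29, 38, 0, 41, 26, 0, 0, 0, 0, 21, 36, 0, 33, 24, 0, 13, 20, 4, 0, 0, 11, 0, 0, 0, 17, 16, 8, 0, 0, 7, 0, 0, 0, 0, 0, 0, 23, 34, 0, 35, 22, 0, 15, 18, 6, 0,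 0, 9, 0, 0, 0, 19, 14, 10, 0, 0, 5, 0, 0, 0, 0, 0, 0, 0, 0, 0, 0, 0, 0, 0, 0, 0, 26, 41, 0, 38, 29, 0, 0, 0, 0, 30, 37, 0, 42, 25, 0, 0, 0, 0, 22, 35, 0, 34, 23, 0, 14, 19, 5, 0, 0, 10, 0, 0, 0, 18, 15, 9, 0, 0, 6, 0, 0, 0, 0, 0, 0, 24, 33, 0, 36, 21, 0, 16, 17, 7, 0, 0, 8, 0, 0, 0, 20, 13, 11, 0, 0, 4, 0, 0]

/-- Norm-one points of `x₁² + … + x₄² - x₅²`. -/
def ptsO : Fin 36 → Fin 5 → ZMod 3 := ![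
  ![0, 0, 0, 1, 0], ![0, 0, 1, 0, 0], ![0, 0, 1, 1, 1], ![0, 0, 1, 1, 2],
  ![0, 0, 1, 2, 1], ![0, 0, 1, 2, 2], ![0, 1, 0, 0, 0], ![0, 1, 0, 1, 1],
  ![0, 1, 0, 1, 2], ![0, 1, 0, 2, 1], ![0, 1, 0, 2, 2], ![0, 1, 1, 0, 1],
  ![0, 1, 1, 0, 2], ![0, 1, 2, 0, 1], ![0, 1, 2, 0, 2], ![1, 0, 0, 0, 0],
  ![1, 0, 0, 1, 1], ![1, 0, 0, 1, 2], ![1, 0, 0, 2, 1], ![1, 0, 0, 2, 2],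
  ![1, 0, 1, 0, 1], ![1, 0, 1, 0, 2], ![1, 0, 2, 0, 1], ![1, 0, 2, 0, 2],
  ![1, 1, 0, 0, 1], ![1, 1, 0, 0, 2], ![1, 1, 1, 1, 0], ![1, 1, 1, 2, 0],
  ![1, 1, 2, 1, 0], ![1, 1, 2, 2, 0], ![1, 2, 0, 0, 1], ![1, 2, 0, 0, 2],
  ![1, 2, 1, 1, 0], ![1, 2, 1, 2, 0], ![1, 2, 2, 1, 0], ![1, 2, 2, 2, 0]]

/-- Their images, as a table of coordinates `a₀ a₁ c₀ c₁ z₀ z₁`. -/
def imgO : Fin 36 → Fin 6 → ZMod 2 := ![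
  ![0, 0, 0, 0, 0, 1], ![0, 0, 0, 1, 0, 1], ![1, 0, 0, 0, 1, 0], ![1, 0, 0, 1, 1, 0],
  ![1, 0, 0, 0, 1, 1], ![1, 0, 0, 1, 1, 1], ![0, 0, 1, 0, 0, 1], ![0, 1, 0, 0, 1, 0],
  ![0, 1, 1, 0, 1, 0], ![0, 1, 0, 0, 1, 1], ![0, 1, 1, 0, 1, 1], ![1, 1, 1, 1, 0, 1],
  ![1, 1, 0, 0, 0, 1], ![1, 1, 1, 0, 0, 0], ![1, 1, 0, 1, 0, 0], ![0, 0, 1, 1, 0, 1],
  ![1, 1, 0, 0, 1, 0], ![1, 1, 1, 1, 1, 0], ![1, 1, 0, 0, 1, 1], ![1, 1, 1, 1, 1, 1],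
  ![0, 1, 1, 0, 0, 1], ![0, 1, 0, 0, 0, 1], ![0, 1, 1, 1, 0, 0], ![0, 1, 0, 1, 0, 0],
  ![1, 0, 0, 1, 0, 1], ![1, 0, 0, 0, 0, 1], ![0, 0, 0, 0, 1, 1], ![0, 0, 0, 0, 1, 0],
  ![0, 0, 0, 1, 1, 0], ![0, 0, 0, 1, 1, 1], ![1, 0, 1, 1, 0, 0], ![1, 0, 1, 0, 0, 0],
  ![0, 0, 1, 0, 1, 0], ![0, 0, 1, 0, 1, 1], ![0, 0, 1, 1, 1, 1], ![0, 0, 1, 1, 1, 0]]

/-- The index of a point, by code. -/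
def ixO : List (Fin 36) := [0, 15, 15, 6, 0, 0, 6, 0, 0, 1, 0, 0, 0, 0, 0, 0, 0, 0, 1, 0, 0, 0, 0, 0, 0, 0, 0, 0, 0, 0, 0, 0, 0, 0, 0, 0, 0, 0, 0, 0, 26, 35, 0, 32, 29, 0, 0, 0, 0, 28, 33, 0, 34, 27, 0, 0, 0, 0, 0, 0, 0, 0, 0, 0, 0, 0, 0, 27, 34, 0, 33, 28, 0, 0, 0, 0, 29, 32, 0, 35, 26, 0, 0, 0, 0, 24, 31, 0, 30, 25, 0, 20, 23, 11, 0, 0, 14, 0, 0, 0, 22, 21, 13, 0, 0, 12, 0, 0, 0, 16, 19, 7, 0, 0, 10, 0, 0, 2, 0, 0, 0, 0, 0, 0, 0, 0, 5, 0, 0, 0, 0, 0, 0, 0, 0, 0, 18, 17, 9, 0, 0, 8, 0, 0, 4, 0, 0, 0, 0, 0, 0, 0, 0, 3, 0, 0, 0, 0, 0, 0, 0, 0, 0, 0, 0, 0, 25, 30, 0, 31, 24, 0, 21, 22, 12, 0, 0, 13, 0, 0, 0, 23, 20, 14, 0, 0, 11, 0, 0, 0, 17, 18, 8, 0, 0, 9, 0, 0, 3, 0, 0, 0, 0, 0, 0, 0, 0, 4, 0, 0, 0, 0, 0, 0, 0, 0, 0, 19, 16,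 10, 0, 0, 7, 0, 0, 5, 0, 0, 0, 0, 0, 0, 0, 0, 2, 0, 0, 0, 0, 0, 0, 0, 0]

end Cfsg.Agent.FischerOrthFiveData47
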