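import Cfsg.Agent.Lib.FischerOrthPerp47
import Cfsg.Agent.Lib.FischerOrthFiveData47

/-!
Finite checks on the tables, and the passage from a table to a chart.
-/

set_option autoImplicit false

namespace Cfsg.Agent.FischerOrthFiveTable47

open QuadraticMap Cfsg.Agent.FischerOrthFiveData47
open Cfsg.Agent.FischerOrthPerp47 (LChart)

local notation "K" => ZMod 3

/-- The code of a vector. -/
def code (v : Fin 5 → K) : ℕ :=
  (v 0).val + 3 * (v 1).val + 9 * (v 2).val + 27 * (v 3).val + 81 * (v 4).val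

/-- The form with weights `1, 1, 1, 1, w`. -/
def form (w : K) : QuadraticForm K (Fin 5 → K) :=
  QuadraticMap.weightedSumSquares K ![1, 1, 1, 1, w]

/-- The form, spelled out. -/
def qv (w : K) (v : Fin 5 → K) : K :=
  v 0 * v 0 + v 1 * v 1 + v 2 * v 2 + v 3 * v 3 + w * (v 4 * v 4)

/-- Its polar, spelled out. -/
def pv (w : K) (u v : Fin 5 → K) : K :=
  -(u 0 * v 0 + u 1 * v 1 + u 2 * v 2 + u 3 * v 3 + w * (u 4 * v 4))

theorem form_apply (w : K) (v : Fin 5 → K) : form w v = qv w v := by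
  simp [form, qv, QuadraticMap.weightedSumSquares_apply, Fin.sum_univ_five]

theorem polar_form (w : K) (u v : Fin 5 → K) : polar (form w) u v = pv w u v := by
  simp only [polar, form_apply, qv, pv, Pi.add_apply]
  have h3 : (3 : K) = 0 := by decide
  linear_combination (u 0 * v 0 + u 1 * v 1 + u 2 * v 2 + u 3 * v 3 + w * (u 4 * v 4)) * h3

theorem nondeg (w : K) (hw : w ≠ 0) : (polarBilin (form w)).Nondegenerate := by
  have h : ∀ u : Fin 5 → K, (∀ v, polar (form w) u v = 0) → u = 0 := by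
    intro u hu
    funext i
    have := hu (Pi.single i 1)
    rw [polar_form] at this
    fin_cases i <;> simp [pv, hw] at this ⊢ <;> exact this
  exact ⟨fun u hu => h u hu, fun v hv => h v fun u => (polar_comm _ _ _).trans (hv u)⟩

/-- The reflection of `u` in `v`. -/
def rf (w : K) (u v : Fin 5 → K) : Fin 5 → K := fun i => u i - pv w v u * v i

theorem rf_eq (w : K) (u v : Fin 5 → K) : u - polar (form w) v u • v = rf w u v := by
  funext i; simp [rf, polar_form]

section General

variable {G : Type*} [Group G] {D : Set G} {d : G} {N : ℕ} {w : K}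

/-- A table gives a chart. -/
theorem lchart_of_table (pts : Fin N → Fin 5 → K) (ix : (Fin 5 → K) → Fin N)
    (hq : ∀ i, qv w (pts i) = 1 ∧ ix (pts i) = i ∧ ix (-pts i) = i)
    (hall : ∀ v, qv w v = 1 → v = pts (ix v) ∨ v = -pts (ix v))
    (hd : d ∈ D) (r : Fin N → G) (mem : ∀ i, r i ∈ D ∧ r i ≠ d ∧ Commute d (r i))
    (surj : ∀ y ∈ D, y ≠ d → Commute d y → ∃ i, r i = y) (inj : Function.Injective r)
    (comm : ∀ i j, i ≠ j → (Commute (r i) (r j) ↔ pv w (pts i) (pts j) = 0))
    (conj : ∀ i j, r j * r i * r j = r (ix (rf w (pts i) (pts j)))) :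
    LChart D d (form w) fun v => r (ix v) := by
  have hneg : ∀ v, qv w v = 1 → ix (-v) = ix v := by
    intro v hv
    obtain ⟨-, h1, h2⟩ := hq (ix v)
    rcases hall v hv with h | h
    · conv_lhs => rw [h]
      exact h2
    · conv_lhs => rw [h, neg_neg]
      exact h1
  refine ⟨hd, fun v _ => mem _, fun y hy hyd hdy => ?_, fun u v hu hv e => ?_, fun v hv => ?_,
    fun u v hu hv h1 h2 => ?_, fun u v hu hv => ?_⟩
  · obtain ⟨i, hi⟩ := surj y hy hyd hdy
    exact ⟨pts i, by rw [form_apply]; exact (hq i).1, by simp only [(hq i).2.1, hi]⟩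
  · rw [form_apply] at hu hv
    have e' := inj e
    rcases hall u hu with a | a <;> rcases hall v hv with b | b <;> rw [← e'] at b
    · exact Or.inl (b.trans a.symm)
    · exact Or.inr (b.trans (congrArg Neg.neg a.symm))
    · exact Or.inr (b.trans (by conv_rhs => rw [a, neg_neg]))
    · exact Or.inl (b.trans a.symm)
  · simp only [hneg v (by rwa [← form_apply])]
  · rw [form_apply] at hu hv
    have hne : ix u ≠ ix v := by
      intro e
      rcases hall u hu with a | a <;> rcases hall v hv with b | b <;> rw [← e] at b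
      · exact h1 (b.trans a.symm)
      · exact h2 (b.trans (congrArg Neg.neg a.symm))
      · exact h2 (b.trans (by conv_rhs => rw [a, neg_neg]))
      · exact h1 (b.trans a.symm)
    rw [comm _ _ hne, ← polar_form]
    rcases hall u hu with a | a <;> rcases hall v hv with b | b <;>
      conv_rhs => rw [a, b]
    all_goals simp only [polar_neg_left, polar_neg_right, neg_neg, neg_eq_zero]
  · rw [form_apply] at hu hv
    have key : ∀ i j, ∀ s t : K, (s = 1 ∨ s = -1) → (t = 1 ∨ t = -1) →
        r (ix ((s • pts i) - polar (form w) (t • pts j) (s • pts i) • (t • pts j))) =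
          r j * r i * r j := by
      intro i j s t hs ht
      have e : (s • pts i) - polar (form w) (t • pts j) (s • pts i) • (t • pts j) =
          s • rf w (pts i) (pts j) := by
        rw [← rf_eq]
        rcases ht with rfl | rfl <;>
          simp [polar_smul_left, polar_smul_right, smul_sub, smul_smul]
      have hn : qv w (rf w (pts i) (pts j)) = 1 := by
        rw [← form_apply, ← rf_eq, FischerOrthGeom47.q_sub, FischerOrthGeom47.q_smul, form_apply,
          form_apply, (hq i).1, (hq j).1, polar_smul_right, smul_eq_mul,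
          polar_comm (⇑(form w)) (pts i) (pts j)]
        ring
      rw [e, conj]
      rcases hs with rfl | rfl
      · rw [one_smul]
      · rw [neg_one_smul, hneg _ hn]
    have sg : ∀ x, qv w x = 1 → ∃ s : K, (s = 1 ∨ s = -1) ∧ x = s • pts (ix x) := fun x hx =>
      (hall x hx).elim (fun h => ⟨1, Or.inl rfl, by rwa [one_smul]⟩)
        fun h => ⟨-1, Or.inr rfl, by rwa [neg_one_smul]⟩
    obtain ⟨s, hs, a⟩ := sg u hu
    obtain ⟨t, ht, b⟩ := sg v hv
    have := key (ix u) (ix v) s t hs ht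
    rw [← a, ← b] at this
    exact this.symm

end General

theorem forall_vec {P : (Fin 5 → K) → Prop}
    (h : ∀ a b c d e : K, P ![a, b, c, d, e]) (v : Fin 5 → K) : P v := by
  convert h (v 0) (v 1) (v 2) (v 3) (v 4) using 1
  funext i; fin_cases i <;> rfl

/-- The index of a norm-one vector, all weights one. -/
def idU (v : Fin 5 → K) : Fin 45 := ixU.getD (code v) 0

/-- The index of a norm-one vector, last weight minus one. -/
def idO (v : Fin 5 → K) : Fin 36 := ixO.getD (code v) 0

theorem hqU : ∀ i, qv 1 (ptsU i) = 1 ∧ idU (ptsU i) = i ∧ idU (-ptsU i) = i := by decide +kernel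

theorem hallU (v : Fin 5 → K) : qv 1 v = 1 → v = ptsU (idU v) ∨ v = -ptsU (idU v) := by
  revert v
  refine forall_vec ?_
  decide +kernel

theorem hqO : ∀ i, qv 2 (ptsO i) = 1 ∧ idO (ptsO i) = i ∧ idO (-ptsO i) = i := by decide +kernel

theorem hallO (v : Fin 5 → K) : qv 2 v = 1 → v = ptsO (idO v) ∨ v = -ptsO (idO v) := by
  revert v
  refine forall_vec ?_
  decide +kernel

/-! The unitary side. -/

/-- Multiplication. -/
def mM (x y : M) : M := (x.1 * y.1 + x.2 * y.2, x.1 * y.2 + x.2 * y.1 + x.2 * y.2)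

/-- The square. -/
def sM (x : M) : M := (x.1 + x.2, x.2)

/-- The Hermitian form. -/
def hM (u v : Fin 4 → M) : M :=
  mM (u 0) (sM (v 0)) + mM (u 1) (sM (v 1)) + mM (u 2) (sM (v 2)) + mM (u 3) (sM (v 3))

theorem isoU : ∀ i, hM (imgU i) (imgU i) = 0 ∧ ∃ k : Fin 4, imgU i k ≠ 0 := by decide +kernel

theorem distU : ∀ i j, i ≠ j → ∀ c : M, ¬ ∀ k : Fin 4, imgU j k = mM c (imgU i k) := by
  decide +kernel

theorem commU : ∀ i j, i ≠ j → (hM (imgU i) (imgU j) = 0 ↔ pv 1 (ptsU i) (ptsU j) = 0) := by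
  decide +kernel

theorem conjU : ∀ i j, ∃ c : M, c ≠ 0 ∧ ∀ k : Fin 4,
    imgU i k + mM (hM (imgU i) (imgU j)) (imgU j k) =
      mM c (imgU (idU (rf 1 (ptsU i) (ptsU j))) k) := by decide +kernel

set_option synthInstance.maxSize 2000 in
set_option synthInstance.maxHeartbeats 200000 in
theorem surjU : ∀ a b c d : M, (a ≠ 0 ∨ b ≠ 0 ∨ c ≠ 0 ∨ d ≠ 0) →
    hM ![a, b, c, d] ![a, b, c, d] = 0 → ∃ i : Fin 45, ∃ x : M, x ≠ 0 ∧
      a = mM x (imgU i 0) ∧ b = mM x (imgU i 1) ∧ c = mM x (imgU i 2) ∧ d = mM x (imgU i 3) := by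
  decide +kernel

/-! The side of the quadric. -/

/-- The vector with given coordinates. -/
def vO (a : Fin 6 → ZMod 2) : (Fin 2 ⊕ Fin 2) ⊕ Fin 2 → ZMod 2 :=
  Sum.elim (Sum.elim ![a 0, a 1] ![a 2, a 3]) ![a 4, a 5]

/-- The quadric. -/
def qO (a : Fin 6 → ZMod 2) : ZMod 2 := a 0 * a 2 + a 1 * a 3 + a 4 + a 4 * a 5 + a 5

/-- Its polar. -/
def bO (a b : Fin 6 → ZMod 2) : ZMod 2 :=
  a 0 * b 2 + a 2 * b 0 + a 1 * b 3 + a 3 * b 1 + a 4 * b 5 + a 5 * b 4

theorem qimgO : ∀ i, qO (imgO i) = 1 := by decide +kernel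

theorem distO : ∀ i j, imgO i = imgO j → i = j := by decide +kernel

theorem surjO : ∀ a b c d e f : ZMod 2, qO ![a, b, c, d, e, f] = 1 →
    ∃ i, imgO i = ![a, b, c, d, e, f] := by decide +kernel

theorem commO : ∀ i j, i ≠ j → (bO (imgO j) (imgO i) = 0 ↔ pv 2 (ptsO i) (ptsO j) = 0) := by
  decide +kernel

theorem conjO : ∀ i j, ∀ k : Fin 6,
    imgO i k + bO (imgO j) (imgO i) * imgO j k = imgO (idO (rf 2 (ptsO i) (ptsO j))) k := by
  decide +kernel

end Cfsg.Agent.FischerOrthFiveTable47
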