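import Cfsg.Agent.Lib.ThreeTransReflSeven78

/-!
# Singular and norm-one vectors of an orthogonal space over `ZMod 3`

Auxiliary facts for the recognition of the reflection classes: partners, mediators and spanning.
-/

set_option autoImplicit false
set_option linter.unusedSectionVars false

namespace Cfsg.Agent.FischerOrthGeom47

open QuadraticMap Cfsg.Agent.OrthUnitaryQuad Cfsg.Agent.ThreeTransReflSeven78

local notation "K" => ZMod 3

variable {V : Type*} [AddCommGroup V] [Module K V] [FiniteDimensional K V]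

/-- A non-zero singular vector. -/
def Sing (Q : QuadraticForm K V) (w : V) : Prop := w ≠ 0 ∧ Q w = 0

variable {Q : QuadraticForm K V}

theorem q_add (x y : V) : Q (x + y) = Q x + Q y + polar Q x y := QuadraticMap.map_add (⇑Q) x y

theorem q_smul (a : K) (x : V) : Q (a • x) = a * a * Q x := by
  rw [QuadraticMap.map_smul, smul_eq_mul]

theorem q_sub (x y : V) : Q (x - y) = Q x + Q y - polar Q x y := by
  rw [sub_eq_add_neg, q_add, QuadraticMap.map_neg, polar_neg_right]; ring

theorem polar_self' (x : V) : polar Q x x = 2 * Q x := polar_self_mul Q x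

theorem mul_self_one {a : K} (h : a ≠ 0) : a * a = 1 := sq_one a h

theorem one_or_neg {a : K} (h : a ≠ 0) : a = 1 ∨ a = -1 := by revert a; decide

theorem three_smul_zero (x : V) : (3 : K) • x = 0 := by
  rw [show (3 : K) = 0 from by decide, zero_smul]

theorem Sing.neg {w : V} (h : Sing Q w) : Sing Q (-w) :=
  ⟨neg_ne_zero.mpr h.1, by rw [QuadraticMap.map_neg, h.2]⟩

theorem Sing.smul {w : V} (h : Sing Q w) {a : K} (ha : a ≠ 0) : Sing Q (a • w) :=
  ⟨smul_ne_zero ha h.1, by rw [q_smul, h.2, mul_zero]⟩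

theorem sing_of_polar {w x : V} (hw : Q w = 0) (h : polar Q x w ≠ 0) : Sing Q w :=
  ⟨fun e => h (by rw [e]; simp), hw⟩

theorem ne_zero_of_q {v : V} (hv : Q v ≠ 0) : v ≠ 0 := fun e => hv (by rw [e, QuadraticMap.map_zero])

variable (hQ : IsReg Q)
include hQ

/-- A singular partner. -/
theorem partner {w : V} (hw : Sing Q w) {t : K} (ht : t ≠ 0) :
    ∃ z, Sing Q z ∧ polar Q w z = t := by
  obtain ⟨z, hz⟩ := exists_polar_ne_zero hQ hw.2 hw.1
  obtain ⟨z1, hb⟩ : ∃ z1, polar Q w z1 = t := ⟨(t * (polar Q w z)⁻¹) • z, by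
    rw [polar_smul_right, smul_eq_mul, mul_assoc, inv_mul_cancel₀ hz, mul_one]⟩
  have hb' : polar Q w (z1 + (-(Q z1) * t⁻¹) • w) = t := by
    rw [polar_add_right, polar_smul_right, polar_self', hw.2, mul_zero, smul_zero, add_zero, hb]
  refine ⟨z1 + (-(Q z1) * t⁻¹) • w, sing_of_polar ?_ (hb'.symm ▸ ht), hb'⟩
  rw [q_add, q_smul, hw.2, polar_smul_right, polar_comm (⇑Q) z1 w, hb, smul_eq_mul]
  field_simp
  ring

/-- The perpendicular of a hyperbolic pair inside a regular subspace. -/
theorem hyp_perp_in {S : Submodule K V} (hS : RegOn Q S) {w z : V} (hwS : w ∈ S) (hzS : z ∈ S)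
    (hw : Q w = 0) (hz : Q z = 0) (h : polar Q w z ≠ 0) :
    ∃ P : Submodule K V, (∀ x, x ∈ P ↔ x ∈ S ∧ polar Q w x = 0 ∧ polar Q z x = 0) ∧ RegOn Q P ∧
      Module.finrank K P + 2 = Module.finrank K S := by
  have ha : Q (w + z) ≠ 0 := by rw [q_add, hw, hz]; simpa using h
  have hb : Q (w - z) ≠ 0 := by rw [q_sub, hw, hz]; simpa using h
  have hab : w - z ∈ perp Q S (w + z) := by
    refine mem_perp.mpr ⟨S.sub_mem hwS hzS, ?_⟩
    simp only [polar_add_left, polar_sub_right, polar_self', hw, hz, polar_comm (⇑Q) z w]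
    ring
  refine ⟨perp Q (perp Q S (w + z)) (w - z), fun x => ?_,
    regOn_perp (regOn_perp hS (S.add_mem hwS hzS) ha) hab hb, ?_⟩
  · simp only [mem_perp, polar_add_left, polar_sub_left, and_assoc]
    have key : ∀ a b : K, (a + b = 0 ∧ a - b = 0) ↔ (a = 0 ∧ b = 0) := by decide
    rw [key]
  · have h1 := finrank_perp (Q := Q) (u := w + z) (S.add_mem hwS hzS) ha
    have h2 := finrank_perp (Q := Q) hab hb
    omega

/-- The perpendicular of a hyperbolic pair. -/
theorem hyp_perp {w z : V} (hw : Q w = 0) (hz : Q z = 0) (h : polar Q w z ≠ 0) :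
    ∃ P : Submodule K V, (∀ x, x ∈ P ↔ polar Q w x = 0 ∧ polar Q z x = 0) ∧ RegOn Q P ∧
      Module.finrank K P + 2 = Module.finrank K V := by
  obtain ⟨P, h1, h2, h3⟩ := hyp_perp_in hQ (regOn_top hQ) trivial trivial hw hz h
  exact ⟨P, fun x => by simp [h1], h2, by rwa [finrank_top] at h3⟩

/-- A vector of given norm meeting a singular vector in one. -/
theorem norm_meet {a : V} (ha : Sing Q a) (t : K) : ∃ y, Q y = t ∧ polar Q a y = 1 := by
  obtain ⟨z, hz, hb⟩ := partner hQ ha (t := 1) one_ne_zero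
  refine ⟨z + t • a, ?_, ?_⟩
  · rw [q_add, q_smul, hz.2, ha.2, polar_smul_right, polar_comm (⇑Q) z a, hb, smul_eq_mul]
    ring
  · rw [polar_add_right, polar_smul_right, polar_self', ha.2, hb, smul_eq_mul]
    ring

/-- A singular vector meeting two perpendicular ones in given values. -/
theorem mediator {w w' : V} (hw : Sing Q w) (hw' : Sing Q w') (h : polar Q w w' = 0)
    (hne : w' ≠ w) (hne' : w' ≠ -w) {α β : K} (hα : α ≠ 0) (_hβ : β ≠ 0) :
    ∃ s, Sing Q s ∧ polar Q w s = α ∧ polar Q w' s = β := by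
  -- a vector with the two values
  obtain ⟨x, hx, hx'⟩ : ∃ x, polar Q w x = α ∧ polar Q w' x = β := by
    obtain ⟨z, hz, hzw⟩ := partner hQ hw (t := 1) one_ne_zero
    set u := w' - polar Q z w' • w with hu
    have huz : polar Q z u = 0 := by
      rw [hu, polar_sub_right, polar_smul_right, polar_comm (⇑Q) z w, hzw, smul_eq_mul, mul_one,
        sub_self]
    have hu0 : u ≠ 0 := by
      intro e
      rw [hu, sub_eq_zero] at e
      rcases eq_or_ne (polar Q z w') 0 with hz0 | hz0
      · exact hw'.1 (by rw [e, hz0, zero_smul])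
      · rcases one_or_neg hz0 with h1 | h1
        · exact hne (by rw [e, h1, one_smul])
        · exact hne' (by rw [e, h1, neg_one_smul])
    have huQ : Q u = 0 := by
      rw [hu, q_sub, q_smul, hw'.2, hw.2, polar_smul_right, polar_comm (⇑Q) w' w, h, smul_zero]
      ring
    obtain ⟨y, hy⟩ := exists_polar_ne_zero hQ huQ hu0
    set y' := y - polar Q w y • z with hy'
    have h1 : polar Q w y' = 0 := by
      rw [hy', polar_sub_right, polar_smul_right, hzw, smul_eq_mul, mul_one, sub_self]
    have h2 : polar Q u y' = polar Q u y := by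
      rw [hy', polar_sub_right, polar_smul_right, polar_comm (⇑Q) u z, huz, smul_zero, sub_zero]
    have h3 : polar Q w' y' = polar Q u y := by
      rw [← h2, hu, polar_sub_left, polar_smul_left, h1, smul_zero, sub_zero]
    refine ⟨α • z + ((β - α * polar Q w' z) * (polar Q u y)⁻¹) • y', ?_, ?_⟩
    · rw [polar_add_right, polar_smul_right, polar_smul_right, hzw, h1]
      simp
    · rw [polar_add_right, polar_smul_right, polar_smul_right, h3, smul_eq_mul, smul_eq_mul,
        mul_assoc, inv_mul_cancel₀ hy]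
      ring
  refine ⟨x + (-(Q x) * α⁻¹) • w, sing_of_polar ?_ (x := w) ?_, ?_, ?_⟩
  · rw [q_add, q_smul, hw.2, polar_smul_right, polar_comm (⇑Q) x w, hx, smul_eq_mul]
    field_simp
    ring
  · rw [polar_add_right, polar_smul_right, polar_self', hw.2, hx]
    simpa using hα
  · rw [polar_add_right, polar_smul_right, polar_self', hw.2, hx]
    simp
  · rw [polar_add_right, polar_smul_right, polar_comm (⇑Q) w' w, h, hx']
    simp

variable (hn : 5 ≤ Module.finrank K V)
include hn

/-- Something meets two singular vectors. -/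
theorem mediator_exists {w w' : V} (hw : Sing Q w) (hw' : Sing Q w') :
    ∃ s, Sing Q s ∧ polar Q w s ≠ 0 ∧ polar Q w' s ≠ 0 := by
  by_cases h : polar Q w w' = 0
  · obtain ⟨s, hs, h1⟩ := partner hQ hw (t := 1) one_ne_zero
    by_cases e : w' = w
    · exact ⟨s, hs, by rw [h1]; exact one_ne_zero, by rw [e, h1]; exact one_ne_zero⟩
    by_cases e' : w' = -w
    · exact ⟨s, hs, by rw [h1]; exact one_ne_zero,
        by rw [e', polar_neg_left, h1]; exact neg_ne_zero.mpr one_ne_zero⟩
    obtain ⟨s, hs, h1, h2⟩ := mediator hQ hw hw' h e e' (α := 1) (β := 1) one_ne_zero one_ne_zero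
    exact ⟨s, hs, by rw [h1]; exact one_ne_zero, by rw [h2]; exact one_ne_zero⟩
  · obtain ⟨P, hP, hPr, hPn⟩ := hyp_perp hQ hw.2 hw'.2 h
    obtain ⟨y, hy, hqy⟩ := exists_norm hPr (by omega) (c := -polar Q w w') (neg_ne_zero.mpr h)
    obtain ⟨hy1, hy2⟩ := (hP y).mp hy
    have h1 : polar Q w (w + w' + y) = polar Q w w' := by
      rw [polar_add_right, polar_add_right, polar_self', hw.2, hy1]; ring
    refine ⟨w + w' + y, sing_of_polar ?_ (x := w) (h1.symm ▸ h), h1.symm ▸ h, ?_⟩
    · rw [q_add, q_add, hw.2, hw'.2, hqy, polar_add_left, hy1, hy2]; ring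
    · rw [polar_add_right, polar_add_right, polar_self', hw'.2, hy2, polar_comm (⇑Q) w' w]
      simpa using h

/-- Something meets a singular vector and a hyperbolic pair. -/
theorem mediator_three {a w w' : V} (ha : Sing Q a) (hw : Sing Q w) (hw' : Sing Q w')
    (h : polar Q w w' ≠ 0) :
    ∃ m, Sing Q m ∧ polar Q a m ≠ 0 ∧ polar Q w m ≠ 0 ∧ polar Q w' m ≠ 0 := by
  obtain ⟨P, hP, hPr, hPn⟩ := hyp_perp hQ hw.2 hw'.2 h
  have build : ∀ (ε : K) (y : V), ε ≠ 0 → y ∈ P → Q y = -(ε * polar Q w w') →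
      polar Q a w + ε * polar Q a w' + polar Q a y ≠ 0 →
      ∃ m, Sing Q m ∧ polar Q a m ≠ 0 ∧ polar Q w m ≠ 0 ∧ polar Q w' m ≠ 0 := by
    intro ε y hε hy hqy hav
    obtain ⟨hy1, hy2⟩ := (hP y).mp hy
    have h1 : polar Q a (w + ε • w' + y) ≠ 0 := by
      rw [polar_add_right, polar_add_right, polar_smul_right, smul_eq_mul]; exact hav
    refine ⟨w + ε • w' + y, sing_of_polar ?_ (x := a) h1, h1, ?_, ?_⟩
    · rw [q_add, q_add, q_smul, hw.2, hw'.2, hqy, polar_add_left, polar_smul_left, polar_smul_right,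
        hy1, hy2]
      simp
    · rw [polar_add_right, polar_add_right, polar_smul_right, polar_self', hw.2, hy1]
      simpa using ⟨hε, h⟩
    · rw [polar_add_right, polar_add_right, polar_smul_right, polar_self', hw'.2, hy2,
        polar_comm (⇑Q) w' w]
      simpa using h
  by_cases hs : polar Q a w = 0 ∧ polar Q a w' = 0
  · have haP : a ∈ P := (hP a).mpr ⟨by rw [polar_comm]; exact hs.1, by rw [polar_comm]; exact hs.2⟩
    have hreg : IsReg (Q.restrict P) := fun x hx _ =>
      Subtype.ext (hPr x.1 x.2 fun y hy => hx ⟨y, hy⟩)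
    obtain ⟨y, hqy, hay⟩ := norm_meet (Q := Q.restrict P) hreg (a := ⟨a, haP⟩)
      ⟨fun e => ha.1 (congrArg Subtype.val e), ha.2⟩ (-(polar Q w w'))
    have hqy' : Q (y : V) = -(polar Q w w') := hqy
    have hay' : polar Q a (y : V) = 1 := hay
    refine build 1 y one_ne_zero y.2 (by rw [one_mul]; exact hqy') ?_
    rw [hs.1, hs.2, hay']
    simp
  · obtain ⟨ε, hε, hs⟩ : ∃ ε : K, ε ≠ 0 ∧ polar Q a w + ε * polar Q a w' ≠ 0 := by
      revert hs
      generalize polar Q a w = A
      generalize polar Q a w' = C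
      revert A C
      decide
    obtain ⟨y, hy, hqy⟩ := exists_norm hPr (by omega) (c := -(ε * polar Q w w'))
      (neg_ne_zero.mpr (mul_ne_zero hε h))
    by_cases hay : polar Q a w + ε * polar Q a w' + polar Q a y = 0
    · refine build ε (-y) hε (P.neg_mem hy) (by rw [QuadraticMap.map_neg, hqy]) fun e => hs ?_
      rw [polar_neg_right] at e
      revert hay e
      generalize polar Q a w + ε * polar Q a w' = A
      generalize polar Q a y = C
      revert A C
      decide
    · exact build ε y hε hy hqy hay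

/-- Something meets four singular vectors, two perpendicular and both meeting the other two. -/
theorem mediator_four {a b s s' : V} (hs : Sing Q s) (hs' : Sing Q s')
    (h : polar Q s s' = 0) (hne : s' ≠ s) (hne' : s' ≠ -s) (has : polar Q a s ≠ 0)
    (has' : polar Q a s' ≠ 0) (hbs : polar Q b s ≠ 0) :
    ∃ m, Sing Q m ∧ polar Q a m ≠ 0 ∧ polar Q b m ≠ 0 ∧ polar Q s m ≠ 0 ∧ polar Q s' m ≠ 0 := by
  obtain ⟨τ, hτ, hslope⟩ : ∃ τ : K, τ ≠ 0 ∧ polar Q a s - τ * polar Q a s' ≠ 0 := by
    revert has has'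
    generalize polar Q a s = A
    generalize polar Q a s' = C
    revert A C
    decide
  have build : ∀ x : V, Q x = 0 → polar Q s x = 1 → polar Q s' x = τ →
      (polar Q b s - τ * polar Q b s' ≠ 0 ∨ polar Q b x ≠ 0) →
      ∃ m, Sing Q m ∧ polar Q a m ≠ 0 ∧ polar Q b m ≠ 0 ∧ polar Q s m ≠ 0 ∧ polar Q s' m ≠ 0 := by
    intro x hx hsx hs'x hb
    obtain ⟨t, ht1, ht2⟩ : ∃ t : K,
        polar Q a x + t * (polar Q a s - τ * polar Q a s') ≠ 0 ∧
        polar Q b x + t * (polar Q b s - τ * polar Q b s') ≠ 0 := by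
      revert hslope hb
      generalize polar Q a s - τ * polar Q a s' = A
      generalize polar Q b s - τ * polar Q b s' = B
      generalize polar Q a x = C
      generalize polar Q b x = E
      revert A B C E
      decide
    have e1 : ∀ c : V, polar Q c (x + (t • s - (τ * t) • s')) =
        polar Q c x + t * (polar Q c s - τ * polar Q c s') := fun c => by
      rw [polar_add_right, polar_sub_right, polar_smul_right, polar_smul_right, smul_eq_mul,
        smul_eq_mul]
      ring
    refine ⟨x + (t • s - (τ * t) • s'), sing_of_polar ?_ (x := a) (by rw [e1]; exact ht1),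
      by rw [e1]; exact ht1, by rw [e1]; exact ht2, ?_, ?_⟩
    · have hττ := mul_self_one hτ
      rw [q_add, q_sub, q_smul, q_smul, hs.2, hs'.2, hx, polar_sub_right, polar_smul_right,
        polar_smul_right, polar_smul_left, polar_smul_right, h, polar_comm (⇑Q) x s, hsx,
        polar_comm (⇑Q) x s', hs'x]
      simp only [smul_eq_mul]
      linear_combination (-t) * hττ
    · rw [e1, polar_self', hs.2, h, hsx]; simp
    · rw [e1, polar_self', hs'.2, polar_comm (⇑Q) s' s, h, hs'x]; simpa using hτ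
  obtain ⟨x, hx, hsx, hs'x⟩ := mediator hQ hs hs' h hne hne' (α := 1) one_ne_zero hτ
  by_cases hb : polar Q b s - τ * polar Q b s' ≠ 0 ∨ polar Q b x ≠ 0
  · exact build x hx.2 hsx hs'x hb
  push Not at hb
  -- move along a non-singular vector perpendicular to both
  obtain ⟨y, hsy, hs'y, hqy⟩ : ∃ y, polar Q s y = 0 ∧ polar Q s' y = 0 ∧ Q y ≠ 0 := by
    obtain ⟨x', hx', hsx', hs'x'⟩ :=
      mediator hQ hs hs' h hne hne' (α := 1) one_ne_zero (neg_ne_zero.mpr hτ)
    set z := -(x + x') with hz
    have hsz : polar Q s z = 1 := by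
      rw [hz, polar_neg_right, polar_add_right, hsx, hsx']; decide
    have hs'z : polar Q s' z = 0 := by
      rw [hz, polar_neg_right, polar_add_right, hs'x, hs'x']; ring
    set z0 := z + (-(Q z)) • s with hz0
    have e1 : polar Q s z0 = 1 := by
      rw [hz0, polar_add_right, polar_smul_right, polar_self', hs.2, hsz]; simp
    have e2 : polar Q s' z0 = 0 := by
      rw [hz0, polar_add_right, polar_smul_right, polar_comm (⇑Q) s' s, h, hs'z]; simp
    have e3 : Q z0 = 0 := by
      rw [hz0, q_add, q_smul, hs.2, polar_smul_right, polar_comm (⇑Q) z s, hsz]; simp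
    obtain ⟨P, hP, hPr, hPn⟩ := hyp_perp hQ hs.2 e3 (by rw [e1]; exact one_ne_zero)
    have hs'P : s' ∈ P := (hP s').mpr ⟨h, by rw [polar_comm, e2]⟩
    obtain ⟨z', hz'⟩ : ∃ z' ∈ P, polar Q s' z' ≠ 0 := by
      by_contra hno
      push Not at hno
      exact hs'.1 (hPr s' hs'P hno)
    obtain ⟨hz'P, hz'n⟩ := hz'
    set z1 := z' + (-(Q z') * (polar Q s' z')⁻¹) • s' with hz1
    have e4 : Q z1 = 0 := by
      rw [hz1, q_add, q_smul, hs'.2, polar_smul_right, polar_comm (⇑Q) z' s', smul_eq_mul]
      field_simp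
      ring
    have e5 : polar Q s' z1 ≠ 0 := by
      rw [hz1, polar_add_right, polar_smul_right, polar_self', hs'.2]; simpa using hz'n
    obtain ⟨R, hR, hRr, hRn⟩ := hyp_perp_in hQ hPr hs'P (P.add_mem hz'P (P.smul_mem _ hs'P))
      hs'.2 e4 e5
    obtain ⟨y, hy, hqy⟩ := exists_aniso hRr (by omega)
    obtain ⟨hyP, hy1, -⟩ := (hR y).mp hy
    exact ⟨y, ((hP y).mp hyP).1, hy1, hqy⟩
  obtain ⟨ε, hε, hgood⟩ : ∃ ε : K, ε ≠ 0 ∧
      polar Q b x + ε * polar Q b y - (Q y + ε * polar Q x y) * polar Q b s ≠ 0 := by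
    rw [hb.2]
    revert hqy hbs
    generalize Q y = A
    generalize polar Q b s = B
    generalize polar Q b y = C
    generalize polar Q x y = E
    revert A B C E
    decide
  refine build (x + ε • y + (-(Q y + ε * polar Q x y)) • s) ?_ ?_ ?_ (Or.inr ?_)
  · rw [q_add, q_add, q_smul, q_smul, hx.2, hs.2, polar_smul_right, polar_smul_right,
      polar_add_left, polar_smul_left, polar_comm (⇑Q) x s, hsx, polar_comm (⇑Q) y s, hsy,
      mul_self_one hε]
    simp only [smul_eq_mul]
    ring
  · rw [polar_add_right, polar_add_right, polar_smul_right, polar_smul_right, polar_self', hs.2,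
      hsx, hsy]
    simp
  · rw [polar_add_right, polar_add_right, polar_smul_right, polar_smul_right,
      polar_comm (⇑Q) s' s, h, hs'x, hs'y]
    simp
  · rw [polar_add_right, polar_add_right, polar_smul_right, polar_smul_right]
    simp only [smul_eq_mul]
    intro e
    exact hgood (by linear_combination e)

omit hQ hn

/-- Norm-one vectors span a regular subspace of dimension at least three. -/
theorem span_norm_one {P : Submodule K V} (hP : RegOn Q P) (h3 : 3 ≤ Module.finrank K P) {u : V}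
    (hu : ∀ v ∈ P, Q v = 1 → polar Q u v = 0) : ∀ x ∈ P, polar Q u x = 0 := by
  have hneg : ∀ x ∈ P, Q x = -1 → polar Q u x = 0 := by
    intro x hx h
    have hx0 : Q x ≠ 0 := by rw [h]; decide
    have hd := finrank_perp (Q := Q) hx hx0
    obtain ⟨y, hy, hqy⟩ :=
      exists_norm (regOn_perp hP hx hx0) (by omega) (c := -1) (by decide)
    obtain ⟨hyP, hxy⟩ := mem_perp.mp hy
    have e1 := hu _ (P.add_mem hx hyP) (by rw [q_add, h, hqy, hxy]; decide)
    have e2 := hu _ (P.sub_mem hx hyP) (by rw [q_sub, h, hqy, hxy]; decide)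
    rw [polar_add_right] at e1
    rw [polar_sub_right] at e2
    revert e1 e2
    generalize polar Q u x = A
    generalize polar Q u y = B
    revert A B
    decide
  have hne : ∀ x ∈ P, Q x ≠ 0 → polar Q u x = 0 := fun x hx h =>
    (one_or_neg h).elim (hu x hx) (hneg x hx)
  intro x hx
  by_cases h : Q x = 0
  · obtain ⟨v, hv, hqv⟩ := exists_norm hP (by omega) (c := 1) one_ne_zero
    obtain ⟨ε, he⟩ : ∃ ε : K, 0 + ε * ε * 1 + ε * polar Q x v ≠ 0 := by
      generalize polar Q x v = B
      revert B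
      decide
    have := hne _ (P.add_mem hx (P.smul_mem ε hv))
      (by rw [q_add, q_smul, h, hqv, polar_smul_right, smul_eq_mul]; exact he)
    rwa [polar_add_right, polar_smul_right, hu v hv hqv, smul_zero, add_zero] at this
  · exact hne x hx h

include hQ

/-- A vector perpendicular to the norm-one vectors perpendicular to a singular vector is a multiple
of it. -/
theorem eq_smul_of_perp {S : Submodule K V} (hS : RegOn Q S) (h5 : 5 ≤ Module.finrank K S)
    {w u : V} (hwS : w ∈ S) (huS : u ∈ S) (hw : Sing Q w)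
    (hu : ∀ v ∈ S, Q v = 1 → polar Q w v = 0 → polar Q u v = 0) : ∃ a : K, u = a • w := by
  obtain ⟨z', hz'S, hz'n⟩ : ∃ z' ∈ S, polar Q w z' ≠ 0 := by
    by_contra hno
    push Not at hno
    exact hw.1 (hS w hwS hno)
  set z1 := z' + (-(Q z') * (polar Q w z')⁻¹) • w with hz1
  set z := (polar Q w z')⁻¹ • z1 with hz
  have hzS : z ∈ S := S.smul_mem _ (S.add_mem hz'S (S.smul_mem _ hwS))
  have e1 : polar Q w z = 1 := by
    rw [hz, polar_smul_right, hz1, polar_add_right, polar_smul_right, polar_self', hw.2]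
    simp [inv_mul_cancel₀ hz'n]
  have e2 : Q z = 0 := by
    rw [hz, q_smul, hz1, q_add, q_smul, hw.2, polar_smul_right, polar_comm (⇑Q) z' w, smul_eq_mul]
    field_simp
    ring
  obtain ⟨P, hP, hPr, hPn⟩ := hyp_perp_in hQ hS hwS hzS hw.2 e2 (by rw [e1]; exact one_ne_zero)
  have huP : ∀ x ∈ P, polar Q u x = 0 :=
    span_norm_one hPr (by omega) fun v hv h => hu v ((hP v).mp hv).1 h ((hP v).mp hv).2.1
  obtain ⟨v, hv, hqv⟩ := exists_norm hPr (by omega) (c := 1) one_ne_zero
  obtain ⟨hvS, hwv, -⟩ := (hP v).mp hv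
  have huw : polar Q u w = 0 := by
    have h1 := hu (v + w) (S.add_mem hvS hwS)
      (by rw [q_add, hqv, hw.2, polar_comm (⇑Q) v w, hwv]; ring)
      (by rw [polar_add_right, hwv, polar_self', hw.2]; ring)
    rwa [polar_add_right, huP v hv, zero_add] at h1
  refine ⟨polar Q z u, sub_eq_zero.mp (hS _ (S.sub_mem huS (S.smul_mem _ hwS)) fun y hy => ?_)⟩
  have hyP : y - polar Q z y • w - polar Q w y • z ∈ P := by
    refine (hP _).mpr ⟨S.sub_mem (S.sub_mem hy (S.smul_mem _ hwS)) (S.smul_mem _ hzS), ?_, ?_⟩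
    · simp only [polar_sub_right, polar_smul_right, polar_self', hw.2, e1, smul_eq_mul]; ring
    · simp only [polar_sub_right, polar_smul_right, polar_self', e2, polar_comm (⇑Q) z w, e1,
        smul_eq_mul]
      ring
  have h1 := huP _ hyP
  have h2 : polar Q w (y - polar Q z y • w - polar Q w y • z) = 0 := ((hP _).mp hyP).2.1
  rw [polar_sub_left, polar_smul_left, smul_eq_mul]
  simp only [polar_sub_right, polar_smul_right, huw, polar_comm (⇑Q) u z, smul_eq_mul] at h1
  linear_combination h1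

end Cfsg.Agent.FischerOrthGeom47
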