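import Cfsg.Agent.Lib.FischerOrthMap94
import Cfsg.Agent.Lib.ReflectionThree
import Cfsg.Prelude.Def_FischerSpaces

/-!
# Recognition of the orthogonal 3-transposition groups over the field with three elements

A centre-free group with charts at all members and connected commuting graph is the projective
reflection group in one dimension more.
-/

set_option autoImplicit false
set_option linter.unusedSectionVars false

namespace Cfsg.Agent.FischerOrth94

open QuadraticMap Cfsg.Agent Matrix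

variable {n : ℕ} (Q : QuadraticForm (ZMod 3) (Vec n))

/-- The matrix of an isometry. -/
abbrev isoMat (g : Cfsg.isometryGroup (ZMod 3) (⇑Q)) : Matrix (Fin n) (Fin n) (ZMod 3) :=
  ((g : GL (Fin n) (ZMod 3)) : Matrix (Fin n) (Fin n) (ZMod 3))

theorem isoMat_mul (g h : Cfsg.isometryGroup (ZMod 3) (⇑Q)) :
    isoMat Q (g * h) = isoMat Q g * isoMat Q h := rfl

theorem isoMat_one : isoMat Q 1 = 1 := rfl

theorem isoMat_norm (g : Cfsg.isometryGroup (ZMod 3) (⇑Q)) (x : Vec n) : Q (isoMat Q g *ᵥ x) = Q x :=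
  g.2 x x

theorem isoMat_inj {g h : Cfsg.isometryGroup (ZMod 3) (⇑Q)} (e : isoMat Q g = isoMat Q h) : g = h :=
  Subtype.ext (Units.ext e)

/-- The reflection in a vector of norm one. -/
noncomputable def reflElt {v : Vec n} (hv : Q v = 1) : Cfsg.isometryGroup (ZMod 3) (⇑Q) :=
  ⟨⟨Cfsg.reflectionMatrix (⇑Q) v, Cfsg.reflectionMatrix (⇑Q) v,
    ReflectionThree.reflection_sq Q (ne_zero_of_one hv),
    ReflectionThree.reflection_sq Q (ne_zero_of_one hv)⟩,
    fun u _ => ReflectionThree.Q_reflection Q (ne_zero_of_one hv) u⟩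

theorem reflElt_mem {v : Vec n} (hv : Q v = 1) :
    reflElt Q hv ∈ Cfsg.reflectionsOfNorm (⇑Q) 1 := ⟨v, hv, rfl⟩

theorem reflection_apply {v : Vec n} (hv : Q v = 1) (x : Vec n) :
    Cfsg.reflectionMatrix (⇑Q) v *ᵥ x = x - polar Q v x • v := by
  rw [ReflectionThree.mulVec_reflection, hv, inv_one, one_mul]

theorem reflection_pm {v w : Vec n} (h : PM v w) :
    Cfsg.reflectionMatrix (⇑Q) v = Cfsg.reflectionMatrix (⇑Q) w := by
  obtain ⟨e, he, rfl⟩ := h
  rcases (show ∀ e : ZMod 3, e * e = 1 → e = 1 ∨ e = -1 by decide) e he with rfl | rfl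
  · rw [one_smul]
  · rw [neg_one_smul, ReflectionThree.reflection_neg]

variable {Q}

/-- A centre-free group with charts everywhere is the projective reflection group. -/
theorem iso_of_map {G : Type*} [Group G] {D : Set G} (hD : Cfsg.IsThreeTranspositionGroup D)
    (hZ : Subgroup.center G = ⊥) {Φ : G → Vec n} (h1 : ∀ a ∈ D, Q (Φ a) = 1)
    (hinj : ∀ a ∈ D, ∀ b ∈ D, PM (Φ a) (Φ b) → a = b)
    (hsurj : ∀ p, Q p = 1 → ∃ a ∈ D, PM (Φ a) p)
    (hconj : ∀ a ∈ D, ∀ b ∈ D, PM (Φ (a * b * a)) (Φ b - polar Q (Φ a) (Φ b) • Φ a)) :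
    ∃ e : G ≃* ↥(Cfsg.reflectionSubgroup (⇑Q) 1) ⧸
        Subgroup.center ↥(Cfsg.reflectionSubgroup (⇑Q) 1),
      e '' D = (QuotientGroup.mk : ↥(Cfsg.reflectionSubgroup (⇑Q) 1) → _) ''
        {g : ↥(Cfsg.reflectionSubgroup (⇑Q) 1) |
          (g : ↥(Cfsg.isometryGroup (ZMod 3) (⇑Q))) ∈ Cfsg.reflectionsOfNorm (⇑Q) 1} := by
  classical
  set R := Cfsg.reflectionSubgroup (⇑Q) 1 with hR
  -- the action of `G`
  let ρ : G →* Equiv.Perm ↥D :=
    { toFun := fun g =>
        ⟨fun x => ⟨g * x * g⁻¹, hD.2.1 g x x.2⟩, fun x => ⟨g⁻¹ * x * g, by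
          simpa using hD.2.1 g⁻¹ x x.2⟩, fun x => Subtype.ext (by simp [mul_assoc]),
          fun x => Subtype.ext (by simp [mul_assoc])⟩
      map_one' := Equiv.ext fun x => Subtype.ext (by simp)
      map_mul' := fun g h => Equiv.ext fun x => Subtype.ext (by simp [mul_assoc]) }
  have hρ : Function.Injective ρ := by
    rw [← MonoidHom.ker_eq_bot_iff, eq_bot_iff, ← hZ]
    intro g hg
    rw [Subgroup.mem_center_iff]
    intro x
    have hle : Subgroup.closure D ≤ Subgroup.centralizer {g} := by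
      rw [Subgroup.closure_le]
      intro d hd
      rw [SetLike.mem_coe, Subgroup.mem_centralizer_singleton_iff]
      have : g * d * g⁻¹ = d := congrArg (fun p : Equiv.Perm ↥D => ((p ⟨d, hd⟩ : ↥D) : G)) hg
      exact (mul_inv_eq_iff_eq_mul.mp this).symm
    exact Subgroup.mem_centralizer_singleton_iff.mp (hle (hD.2.2 ▸ Subgroup.mem_top x))
  -- the action of the reflection group
  have himg : ∀ (g : ↥R) (x : ↥D), ∃ y : ↥D, PM (Φ y) (isoMat Q g *ᵥ Φ x) := by
    intro g x
    obtain ⟨a, ha, hp⟩ := hsurj _ ((isoMat_norm Q g (Φ x)).trans (h1 x x.2))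
    exact ⟨⟨a, ha⟩, hp⟩
  choose act hact using himg
  have huniq : ∀ (g : ↥R) (x y : ↥D), PM (Φ y) (isoMat Q g *ᵥ Φ x) → act g x = y := fun g x y h =>
    Subtype.ext (hinj _ (act g x).2 _ y.2 ((hact g x).trans h.symm))
  have hmul : ∀ g h x, act (g * h) x = act g (act h x) := by
    intro g h x
    refine huniq _ _ _ ((hact g (act h x)).trans ?_)
    obtain ⟨e, he, heq⟩ := hact h x
    refine ⟨e, he, ?_⟩
    rw [heq, mulVec_smul, Subgroup.coe_mul, isoMat_mul, ← mulVec_mulVec]
  have hone : ∀ x, act 1 x = x := fun x => huniq _ _ _ (by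
    rw [Subgroup.coe_one, isoMat_one, one_mulVec]; exact PM.refl _)
  let π : ↥R →* Equiv.Perm ↥D :=
    { toFun := fun g => ⟨act g, act g⁻¹, fun x => by rw [← hmul, inv_mul_cancel, hone],
        fun x => by rw [← hmul, mul_inv_cancel, hone]⟩
      map_one' := Equiv.ext hone
      map_mul' := fun g h => Equiv.ext (hmul g h) }
  let rA : ↥D → ↥R := fun a =>
    ⟨reflElt Q (h1 a a.2), Subgroup.subset_closure (reflElt_mem Q (h1 a a.2))⟩
  have hgen : ∀ a : ↥D, π (rA a) = ρ a := by
    intro a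
    refine Equiv.ext fun x => huniq _ _ _ ?_
    show PM (Φ ((a : G) * x * (a : G)⁻¹)) (Cfsg.reflectionMatrix (⇑Q) (Φ a) *ᵥ Φ x)
    rw [ThreeTrans.inv_self hD.1 a.2, reflection_apply Q (h1 a a.2)]
    exact hconj a a.2 x x.2
  set T : Set ↥R := {g | (g : ↥(Cfsg.isometryGroup (ZMod 3) (⇑Q))) ∈ Cfsg.reflectionsOfNorm (⇑Q) 1}
  have hT : ∀ g, g ∈ T ↔ ∃ a, rA a = g := by
    intro g
    constructor
    · rintro ⟨v, hv, hg⟩
      obtain ⟨a, ha, hp⟩ := hsurj v hv
      exact ⟨⟨a, ha⟩, Subtype.ext (isoMat_inj Q ((reflection_pm Q hp).trans hg.symm))⟩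
    · rintro ⟨a, rfl⟩
      exact reflElt_mem Q (h1 a a.2)
  have hTtop : Subgroup.closure T = ⊤ := by
    rw [eq_top_iff]
    rintro ⟨g, hg⟩ -
    induction hg using Subgroup.closure_induction with
    | mem x hx => exact Subgroup.subset_closure hx
    | one => exact one_mem _
    | mul x y hx hy h1 h2 => exact mul_mem h1 h2
    | inv x hx h1 => exact inv_mem h1
  have hrange : ρ.range = π.range := by
    rw [MonoidHom.range_eq_map, MonoidHom.range_eq_map, ← hTtop, ← hD.2.2, MonoidHom.map_closure,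
      MonoidHom.map_closure]
    congr 1
    ext p
    constructor
    · rintro ⟨a, ha, rfl⟩
      exact ⟨rA ⟨a, ha⟩, (hT _).mpr ⟨_, rfl⟩, hgen ⟨a, ha⟩⟩
    · rintro ⟨g, hg, rfl⟩
      obtain ⟨a, rfl⟩ := (hT g).mp hg
      exact ⟨a, a.2, (hgen a).symm⟩
  have hker : π.ker = Subgroup.center ↥R := by
    ext g
    rw [MonoidHom.mem_ker]
    constructor
    · intro hg
      rw [← Subgroup.centralizer_univ, ← Subgroup.coe_top, ← hTtop, Subgroup.centralizer_closure]
      refine Subgroup.mem_centralizer_iff.mpr fun t ht => ?_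
      obtain ⟨a, rfl⟩ := (hT t).mp ht
      have hfix : act g a = a := congrArg (fun p : Equiv.Perm ↥D => p a) hg
      refine Subtype.ext (isoMat_inj Q ?_)
      rw [Subgroup.coe_mul, Subgroup.coe_mul, isoMat_mul, isoMat_mul]
      show Cfsg.reflectionMatrix (⇑Q) (Φ a) * _ = _ * Cfsg.reflectionMatrix (⇑Q) (Φ a)
      rw [ReflectionThree.mul_reflection Q (isoMat_norm Q g)]
      have := hact g a
      rw [hfix] at this
      rw [reflection_pm Q this]
    · intro hg
      refine Equiv.ext fun x => huniq _ _ _ ?_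
      have hc := congrArg (fun r : ↥R => isoMat Q r) (Subgroup.mem_center_iff.mp hg (rA x))
      simp only [Subgroup.coe_mul, isoMat_mul] at hc
      have hv := h1 x x.2
      have h2 : isoMat Q (rA x : ↥(Cfsg.isometryGroup (ZMod 3) (⇑Q))) = Cfsg.reflectionMatrix (⇑Q) (Φ x) := rfl
      rw [h2] at hc
      have h3 := congrArg (fun M => M *ᵥ Φ x) hc
      simp only [← mulVec_mulVec, ReflectionThree.reflection_self Q (ne_zero_of_one hv), mulVec_neg]
        at h3
      set u := isoMat Q (g : ↥(Cfsg.isometryGroup (ZMod 3) (⇑Q))) *ᵥ Φ x with hu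
      rw [reflection_apply Q hv] at h3
      have key : polar Q (Φ x) u • Φ x = (2 : ZMod 3) • u := by
        funext i
        have := congrFun h3 i
        simp only [Pi.sub_apply, Pi.neg_apply, Pi.smul_apply, smul_eq_mul] at this ⊢
        linear_combination -this
      have ht : polar Q (Φ x) u ≠ 0 := by
        intro h0
        rw [h0, zero_smul] at key
        rcases smul_eq_zero.mp key.symm with h | h
        · exact absurd h (by decide)
        · have := isoMat_norm Q (g : ↥(Cfsg.isometryGroup (ZMod 3) (⇑Q))) (Φ x)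
          rw [← hu, h, QuadraticMap.map_zero, hv] at this
          exact zero_ne_one this
      refine ⟨2 * polar Q (Φ x) u, ?_, ?_⟩
      · revert ht
        generalize polar Q (Φ x) u = t
        revert t; decide
      · show Φ x = (2 * polar Q (Φ x) u) • u
        have h5 := congrArg (polar Q (Φ x) u • ·) key
        simp only [smul_smul] at h5
        have h6 : polar Q (Φ x) u * polar Q (Φ x) u = 1 := by
          revert ht
          generalize polar Q (Φ x) u = t
          revert t; decide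
        rw [h6, one_smul, mul_comm] at h5
        exact h5
  let e : G ≃* ↥R ⧸ Subgroup.center ↥R :=
    (MonoidHom.ofInjective hρ).trans ((MulEquiv.subgroupCongr hrange).trans
      ((QuotientGroup.quotientKerEquivRange π).symm.trans (QuotientGroup.quotientMulEquivOfEq hker)))
  have he : ∀ a : ↥D, e a = QuotientGroup.mk (rA a) := by
    intro a
    simp only [e, MulEquiv.trans_apply]
    rw [show (MulEquiv.subgroupCongr hrange) (MonoidHom.ofInjective hρ (a : G)) =
      QuotientGroup.quotientKerEquivRange π (QuotientGroup.mk (rA a)) from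
      Subtype.ext (hgen a).symm, MulEquiv.symm_apply_apply]
    rfl
  refine ⟨e, ?_⟩
  ext p
  constructor
  · rintro ⟨a, ha, rfl⟩
    exact ⟨rA ⟨a, ha⟩, (hT _).mpr ⟨_, rfl⟩, (he ⟨a, ha⟩).symm⟩
  · rintro ⟨g, hg, rfl⟩
    obtain ⟨a, rfl⟩ := (hT g).mp hg
    exact ⟨a, a.2, he a⟩

/-- Recognition from charts at all members. -/
theorem orth_of_setting {G : Type*} [Group G] {D : Set G} {m : ℕ}
    {Q : QuadraticForm (ZMod 3) (Vec m)} (S : Setting D Q) (hne : D.Nonempty)
    (hconn : (Cfsg.commutingGraph D).Connected) (hZ : Subgroup.center G = ⊥) :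
    ∃ Q' : QuadraticForm (ZMod 3) (Fin (m + 1) → ZMod 3),
      (QuadraticMap.polarBilin Q').Nondegenerate ∧ ∃ c : ZMod 3, c ≠ 0 ∧
        ∃ e : G ≃* ↥(Cfsg.reflectionSubgroup (⇑Q') c) ⧸
            Subgroup.center ↥(Cfsg.reflectionSubgroup (⇑Q') c),
          e '' D = (QuotientGroup.mk : ↥(Cfsg.reflectionSubgroup (⇑Q') c) → _) ''
            {g : ↥(Cfsg.reflectionSubgroup (⇑Q') c) |
              (g : ↥(Cfsg.isometryGroup (ZMod 3) (⇑Q'))) ∈ Cfsg.reflectionsOfNorm (⇑Q') c} := by
  obtain ⟨d, hd⟩ := hne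
  obtain ⟨Φ, h1, h2, h3, h4⟩ := S.exists_map hconn hd
  exact ⟨extForm Q, extForm_nondegenerate S.hQ, 1, one_ne_zero,
    iso_of_map S.hD hZ h1 h2 h3 h4⟩

end Cfsg.Agent.FischerOrth94
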