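import Cfsg.Agent.Lib.FischerOrthDescend94
import Cfsg.Agent.Lib.ThreeTransPrimitive

/-!
# The orthogonal case of Fischer's theorem from one local quotient
-/

set_option autoImplicit false
set_option linter.unusedSectionVars false

namespace Cfsg.Agent.FischerOrth94

open QuadraticMap Cfsg.Agent

variable {G : Type*} [Group G] {D : Set G} {m : ℕ} {Q : QuadraticForm (ZMod 3) (Vec m)}

theorem conj_mem_iff (hD : Cfsg.IsThreeTranspositionGroup D) (g d x : G) :
    x ∈ Dd D (g * d * g⁻¹) ↔ g⁻¹ * x * g ∈ Dd D d := by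
  have hx : x = g * (g⁻¹ * x * g) * g⁻¹ := by group
  constructor
  · rintro ⟨h1, h2, h3⟩
    refine ⟨by simpa using hD.2.1 g⁻¹ x h1, fun h => h2 (by rw [hx, h]), ?_⟩
    rw [← Commute.conj_iff g, ← hx]
    exact h3
  · rintro ⟨h1, h2, h3⟩
    refine ⟨hx ▸ hD.2.1 g _ h1, fun h => h2 (by rw [h]; group), ?_⟩
    rw [hx]
    exact (Commute.conj_iff g).mpr h3

/-- A chart moved by conjugation. -/
def Chart.translate (hD : Cfsg.IsThreeTranspositionGroup D) {d : G} (c : Chart D d Q) (g : G) :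
    Chart D (g * d * g⁻¹) Q where
  f x := c.f (g⁻¹ * x * g)
  norm x hx := c.norm _ ((conj_mem_iff hD g d x).mp hx)
  inj x hx x' hx' h := by
    have := c.inj _ ((conj_mem_iff hD g d x).mp hx) _ ((conj_mem_iff hD g d x').mp hx') h
    exact mul_left_cancel (mul_right_cancel this)
  surj v hv := by
    obtain ⟨x, hx, hp⟩ := c.surj v hv
    refine ⟨g * x * g⁻¹, (conj_mem_iff hD g d _).mpr ?_, ?_⟩
    · simpa [mul_assoc] using hx
    · simpa [mul_assoc] using hp
  comm x hx x' hx' hne := by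
    rw [← c.comm _ ((conj_mem_iff hD g d x).mp hx) _ ((conj_mem_iff hD g d x').mp hx')
      fun h => hne (mul_left_cancel (mul_right_cancel h))]
    have := Commute.conj_iff (a := x) (b := x') g⁻¹
    rw [inv_inv] at this
    exact this.symm
  conj x hx x' hx' := by
    have := c.conj _ ((conj_mem_iff hD g d x).mp hx) _ ((conj_mem_iff hD g d x').mp hx')
    rwa [show g⁻¹ * x * g * (g⁻¹ * x' * g) * (g⁻¹ * x * g) = g⁻¹ * (x * x' * x) * g by group] at this

/-- The orthogonal case: the local quotient at one member is a projective reflection group in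
dimension at least seven. -/
theorem orth_of_local {G : Type*} [Group G] {D : Set G} (hD : Cfsg.IsThreeTranspositionGroup D)
    (htrans : ∀ a ∈ D, ∀ b ∈ D, ∃ g : G, g * a * g⁻¹ = b)
    (hconn : (Cfsg.commutingGraph D).Connected) (hZ : Subgroup.center G = ⊥) {d : G} (hd : d ∈ D)
    {m : ℕ} (hm : 7 ≤ m) (Q : QuadraticForm (ZMod 3) (Fin m → ZMod 3))
    (hQ : (QuadraticMap.polarBilin Q).Nondegenerate) {c : ZMod 3} (hc : c ≠ 0)
    (e : ↥(Subgroup.closure {y : G | y ∈ D ∧ y ≠ d ∧ Commute d y}) ⧸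
        Subgroup.center ↥(Subgroup.closure {y : G | y ∈ D ∧ y ≠ d ∧ Commute d y}) ≃*
      ↥(Cfsg.reflectionSubgroup (⇑Q) c) ⧸ Subgroup.center ↥(Cfsg.reflectionSubgroup (⇑Q) c))
    (he : e '' ((QuotientGroup.mk :
          ↥(Subgroup.closure {y : G | y ∈ D ∧ y ≠ d ∧ Commute d y}) → _) ''
        {x : ↥(Subgroup.closure {y : G | y ∈ D ∧ y ≠ d ∧ Commute d y}) |
          (x : G) ∈ {y : G | y ∈ D ∧ y ≠ d ∧ Commute d y}}) =
      (QuotientGroup.mk : ↥(Cfsg.reflectionSubgroup (⇑Q) c) → _) ''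
        {g : ↥(Cfsg.reflectionSubgroup (⇑Q) c) |
          (g : ↥(Cfsg.isometryGroup (ZMod 3) (⇑Q))) ∈ Cfsg.reflectionsOfNorm (⇑Q) c}) :
    ∃ Q' : QuadraticForm (ZMod 3) (Fin (m + 1) → ZMod 3),
      (QuadraticMap.polarBilin Q').Nondegenerate ∧ ∃ c' : ZMod 3, c' ≠ 0 ∧
        ∃ e' : G ≃* ↥(Cfsg.reflectionSubgroup (⇑Q') c') ⧸
            Subgroup.center ↥(Cfsg.reflectionSubgroup (⇑Q') c'),
          e' '' D = (QuotientGroup.mk : ↥(Cfsg.reflectionSubgroup (⇑Q') c') → _) ''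
            {g : ↥(Cfsg.reflectionSubgroup (⇑Q') c') |
              (g : ↥(Cfsg.isometryGroup (ZMod 3) (⇑Q'))) ∈ Cfsg.reflectionsOfNorm (⇑Q') c'} := by
  obtain ⟨c0⟩ := exists_chart (Q := Q) hD hQ (by omega) hc e he
  refine orth_of_setting (Q := (c • Q : QuadraticForm (ZMod 3) (Vec m)))
    ⟨hD, smul_nondegenerate hQ hc, by omega, linked_of_seven (smul_nondegenerate hQ hc) hm,
      fun x hx => (htrans d hd x hx).choose_spec ▸ c0.translate hD (htrans d hd x hx).choose⟩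
    ⟨d, hd⟩ hconn hZ

end Cfsg.Agent.FischerOrth94
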