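import Cfsg.Agent.Lib.FischerOrthLift47
import Cfsg.Agent.Lib.ThreeTransDescent
import Cfsg.Agent.Lib.ReflectionThreeGroup

/-!
# The reflection class over a local orthogonal space

A group with a chart at `d` is the projective reflection group of the space with one more dimension.
-/

set_option autoImplicit false
set_option linter.unusedSectionVars false
set_option linter.style.haveILetI false

namespace Cfsg.Agent.FischerOrthModel47

open QuadraticMap Cfsg.Agent.ThreeTransRel Cfsg.Agent.ThreeTransDescent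
open Cfsg.Agent.FischerOrthGeom47 Cfsg.Agent.FischerOrthLift47
open Cfsg.Agent.OrthUnitaryQuad Cfsg.Agent.OrthUnitaryRefl Cfsg.Agent.ReflectionThreeGroup
open Cfsg.Agent.OrthUnitaryOmega Cfsg.Agent.OrthUnitaryCentre Cfsg.Agent.OrthUnitarySimple
open Cfsg.Agent.ThreeTransReflSeven78 (RegOn regOn_top regOn_perp perp mem_perp finrank_perp)

local notation "K" => ZMod 3

section

variable {G₁ G₂ : Type*} [Group G₁] [Finite G₁] [Group G₂] [Finite G₂] {D₁ : Set G₁} {D₂ : Set G₂}

theorem exists_act {G : Type*} [Group G] [Finite G] {D : Set G} (ht : TSys D)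
    (hZ : Subgroup.center G = ⊥) :
    ∃ A : G →* Equiv.Perm ↥D, Function.Injective A ∧
      ∀ g : G, ∀ x : ↥D, (A g x : G) = g * x * g⁻¹ := by
  let A : G →* Equiv.Perm ↥D :=
    { toFun := fun g =>
        { toFun := fun x => ⟨g * x * g⁻¹, ht.conj g x x.2⟩
          invFun := fun x => ⟨g⁻¹ * x * g⁻¹⁻¹, ht.conj g⁻¹ x x.2⟩
          left_inv := fun x => Subtype.ext (by simp [mul_assoc])
          right_inv := fun x => Subtype.ext (by simp [mul_assoc]) }
      map_one' := Equiv.ext fun x => Subtype.ext (by simp)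
      map_mul' := fun g h => Equiv.ext fun x => Subtype.ext (by simp [mul_assoc]) }
  refine ⟨A, (injective_iff_map_eq_one A).mpr fun g hg => ?_, fun g x => rfl⟩
  refine eq_one_of_central ht hZ fun y hy => ?_
  have := congrArg Subtype.val (Equiv.ext_iff.mp hg ⟨y, hy⟩)
  exact (mul_inv_eq_iff_eq_mul.mp this).symm

/-- A bijection of classes preserving conjugation comes from an isomorphism. -/
theorem iso_of_conj (ht₁ : TSys D₁) (ht₂ : TSys D₂) (hZ₁ : Subgroup.center G₁ = ⊥)
    (hZ₂ : Subgroup.center G₂ = ⊥) {ψ : G₁ → G₂} (hψ : Set.BijOn ψ D₁ D₂)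
    (hconj : ∀ p ∈ D₁, ∀ q ∈ D₁, ψ (p * q * p) = ψ p * ψ q * ψ p) :
    ∃ e : G₁ ≃* G₂, e '' D₁ = D₂ := by
  classical
  obtain ⟨A₁, hA₁, a₁⟩ := exists_act ht₁ hZ₁
  obtain ⟨A₂, hA₂, a₂⟩ := exists_act ht₂ hZ₂
  let eD : ↥D₁ ≃ ↥D₂ := hψ.equiv ψ
  have heD : ∀ x : ↥D₁, (eD x : G₂) = ψ x := fun x => rfl
  let f : G₁ →* Equiv.Perm ↥D₂ := eD.permCongrHom.toMonoidHom.comp A₁
  have hf : Function.Injective f := eD.permCongrHom.injective.comp hA₁
  have hgen : ∀ p ∈ D₁, f p = A₂ (ψ p) := by
    intro p hp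
    refine Equiv.ext fun y => Subtype.ext ?_
    obtain ⟨x, rfl⟩ := eD.surjective y
    show (eD ((A₁ p) (eD.symm (eD x))) : G₂) = _
    rw [eD.symm_apply_apply, heD, a₁, a₂, heD, ht₁.inv_self hp, hconj p hp x x.2,
      ht₂.inv_self (hψ.mapsTo hp)]
  have hrange : f.range = A₂.range := by
    rw [MonoidHom.range_eq_map, MonoidHom.range_eq_map, ← ht₁.gen, ← ht₂.gen, MonoidHom.map_closure,
      MonoidHom.map_closure]
    congr 1
    refine ((Set.image_congr hgen).trans (Set.image_image _ _ _).symm).trans ?_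
    rw [hψ.image_eq]
  let e : G₁ ≃* G₂ :=
    ((MonoidHom.ofInjective hf).trans (MulEquiv.subgroupCongr hrange)).trans (MonoidHom.ofInjective hA₂).symm
  have he : ∀ p ∈ D₁, e p = ψ p := by
    intro p hp
    apply hA₂
    rw [← hgen p hp]
    show A₂ ((MonoidHom.ofInjective hA₂).symm ⟨f p, _⟩) = f p
    exact MonoidHom.apply_ofInjective_symm hA₂ _
  exact ⟨e, (Set.image_congr he).trans hψ.image_eq⟩

end

/-! ### The projective reflection group -/

variable {n : ℕ} {Q : QuadraticForm K (Fin n → K)}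

/-- The projective reflection group of norm one. -/
abbrev PR (Q : QuadraticForm K (Fin n → K)) : Type :=
  ↥(tGroup Q 1) ⧸ Subgroup.center ↥(tGroup Q 1)

open scoped Classical in
/-- The class of a reflection. -/
noncomputable def pt (Q : QuadraticForm K (Fin n → K)) (v : Fin n → K) : PR Q :=
  if h : Q v = 1 then
    QuotientGroup.mk ⟨refl Q v (h ▸ one_ne_zero), refl_mem_tGroup _ h⟩
  else 1

theorem pt_def {v : Fin n → K} (h : Q v = 1) :
    pt Q v = QuotientGroup.mk ⟨refl Q v (h ▸ one_ne_zero), refl_mem_tGroup _ h⟩ := dif_pos h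

theorem refl_apply_one {v : Fin n → K} (h : Q v = 1) (h0 : Q v ≠ 0) (x : Fin n → K) :
    (refl Q v h0).1 x = x - polar Q v x • v := by
  rw [refl_apply, h, inv_one, one_mul]

variable (hQ : IsReg Q) (hn : 5 ≤ n)
include hQ hn

theorem dim_le : 5 ≤ Module.finrank K (Fin n → K) := by rwa [Module.finrank_fin_fun]

theorem scalar_of_fix {g : orth Q} (h : ∀ v, Q v = 1 → g.1 v = v ∨ g.1 v = -v) :
    ∀ x : orth Q, x * g = g * x := by
  rcases ThreeTransReflection.scalar_of_signs hQ (dim_le hQ hn) (c := 1) one_ne_zero g.1.toLinearMap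
    (fun x y => polar_orth g x y) h with e | e
  · intro x; refine orth_ext fun z => ?_
    rw [orth_mul_apply, orth_mul_apply]
    exact (congrArg x.1 (e z)).trans (e (x.1 z)).symm
  · intro x; refine orth_ext fun z => ?_
    rw [orth_mul_apply, orth_mul_apply]
    exact ((congrArg x.1 (e z)).trans (map_neg x.1 z)).trans (e (x.1 z)).symm

omit hQ hn in
theorem refl_inj {u v : Fin n → K} (hu : Q u = 1) (hv : Q v = 1)
    (h : refl Q u (hu ▸ one_ne_zero) = refl Q v (hv ▸ one_ne_zero)) : v = u ∨ v = -u := by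
  have h1 := congrArg (fun g : orth Q => g.1 v) h
  simp only [refl_apply_one hu, refl_apply_one hv, polar_self', hv] at h1
  have h2 : polar Q u v • u = (2 * 1 : K) • v := sub_right_injective h1
  have h3 : v = (-polar Q u v) • u := by
    rw [neg_smul, h2, ← neg_smul, show (-(2 * 1) : K) = 1 from by decide, one_smul]
  have h4 : polar Q u v ≠ 0 := fun e => by
    rw [e, neg_zero, zero_smul] at h3
    rw [h3, QuadraticMap.map_zero] at hv
    exact zero_ne_one hv
  rcases one_or_neg h4 with e | e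
  · exact Or.inr (by rw [h3, e, neg_one_smul])
  · exact Or.inl (by rw [h3, e, neg_neg, one_smul])

/-- An element central modulo the centre is central. -/
theorem central_of_pts {g : orth Q}
    (h : ∀ v, Q v = 1 → ∃ z : orth Q, (∀ x, x * z = z * x) ∧
      ∀ y, (g * refl Q v y * g⁻¹) = refl Q v y * z) : ∀ x : orth Q, x * g = g * x := by
  refine scalar_of_fix hQ hn fun v hv => ?_
  obtain ⟨z, hz, hy⟩ := h v hv
  have h0 : Q v ≠ 0 := hv ▸ one_ne_zero
  have he := hy h0
  rw [conj_refl] at he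
  set u := g.1 v with hu
  have huq : Q u = 1 := by rw [hu, map_orth g, hv]
  -- `z` is a sign
  have hzc : z = 1 ∨ z = negOne Q := by
    refine eq_one_or_neg (nondegenerate_of_isReg two_ne hQ) hn fun k _ => (hz k).symm
  rcases hzc with rfl | rfl
  · rw [mul_one] at he
    exact refl_inj hv huq he.symm
  · exfalso
    have hne : ThreeTransReflection.perpTwo Q u v ≠ ⊥ := by
      intro e
      have h1 := LinearMap.finrank_range_add_finrank_ker ((polarBilin Q u).prod (polarBilin Q v))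
      have h2 := Submodule.finrank_le (LinearMap.range ((polarBilin Q u).prod (polarBilin Q v)))
      rw [Module.finrank_prod, Module.finrank_self] at h2
      unfold ThreeTransReflection.perpTwo at e
      rw [e, finrank_bot] at h1
      have := dim_le hQ hn
      omega
    obtain ⟨t, htm, ht0⟩ := Submodule.exists_mem_ne_zero_of_ne_bot hne
    obtain ⟨htu, htv⟩ := ThreeTransReflection.mem_perpTwo.mp htm
    have h1 := congrArg (fun k : orth Q => k.1 t) he
    have huq' : Q (g.1 v) = 1 := huq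
    have htu' : polar Q (g.1 v) t = 0 := htu
    simp only [orth_mul_apply, negOne_apply, refl_apply, huq', hv, inv_one, one_mul, polar_neg_right,
      htu', htv, neg_zero, zero_smul, sub_zero] at h1
    have h2 : (2 : K) • t = 0 := by rw [two_smul]; exact eq_neg_iff_add_eq_zero.mp h1
    exact ht0 ((smul_eq_zero.mp h2).resolve_left (by decide))

theorem pt_inj {u v : Fin n → K} (hu : Q u = 1) (hv : Q v = 1) (h : pt Q u = pt Q v) :
    v = u ∨ v = -u := by
  rw [pt_def hu, pt_def hv, QuotientGroup.eq] at h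
  set r := refl Q u (hu ▸ one_ne_zero)
  set r' := refl Q v (hv ▸ one_ne_zero)
  have hri : r⁻¹ = r := inv_eq_of_mul_eq_one_right (refl_sq u _)
  have hc : ∀ x : orth Q, x * (r⁻¹ * r') = (r⁻¹ * r') * x := by
    refine central_of_pts hQ hn fun w hw => ⟨1, fun x => by simp, fun y => ?_⟩
    have := congrArg Subtype.val
      (Subgroup.mem_center_iff.mp h ⟨refl Q w y, refl_mem_tGroup _ hw⟩)
    simp only [Subgroup.coe_mul, Subgroup.coe_inv] at this
    rw [mul_one, mul_inv_eq_iff_eq_mul]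
    exact this.symm
  rcases eq_one_or_neg (nondegenerate_of_isReg two_ne hQ) hn (g := r⁻¹ * r') (fun k _ => (hc k).symm)
    with e | e
  · exact refl_inj hu hv (inv_mul_eq_one.mp e)
  · exfalso
    have hne : ThreeTransReflection.perpTwo Q u v ≠ ⊥ := by
      intro e
      have h1 := LinearMap.finrank_range_add_finrank_ker ((polarBilin Q u).prod (polarBilin Q v))
      have h2 := Submodule.finrank_le (LinearMap.range ((polarBilin Q u).prod (polarBilin Q v)))
      rw [Module.finrank_prod, Module.finrank_self] at h2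
      unfold ThreeTransReflection.perpTwo at e
      rw [e, finrank_bot] at h1
      have := dim_le hQ hn
      omega
    obtain ⟨t, htm, ht0⟩ := Submodule.exists_mem_ne_zero_of_ne_bot hne
    obtain ⟨htu, htv⟩ := ThreeTransReflection.mem_perpTwo.mp htm
    have h1 := congrArg (fun k : orth Q => k.1 t) e
    rw [hri] at h1
    simp only [r, r', orth_mul_apply, negOne_apply, refl_apply_one hv, htv, zero_smul, sub_zero,
      refl_apply_one hu, htu] at h1
    have h2 : (2 : K) • t = 0 := by rw [two_smul]; exact eq_neg_iff_add_eq_zero.mp h1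
    exact ht0 ((smul_eq_zero.mp h2).resolve_left (by decide))

omit hQ hn in
theorem pt_neg {v : Fin n → K} (hv : Q v = 1) : pt Q (-v) = pt Q v := by
  have hv' : Q (-v) = 1 := by rw [QuadraticMap.map_neg, hv]
  rw [pt_def hv, pt_def hv']
  congr 1
  refine Subtype.ext (orth_ext fun x => ?_)
  simp [refl_apply_one hv, refl_apply_one hv']

omit hQ hn in
theorem pt_conj {u v : Fin n → K} (hu : Q u = 1) (hv : Q v = 1) :
    pt Q v * pt Q u * pt Q v = pt Q (u - polar Q v u • v) := by
  have h0 : Q v ≠ 0 := hv ▸ one_ne_zero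
  have hq : Q (u - polar Q v u • v) = 1 := by
    rw [← refl_apply_one hv h0, map_orth, hu]
  rw [pt_def hu, pt_def hv, pt_def hq, ← QuotientGroup.mk_mul, ← QuotientGroup.mk_mul]
  congr 1
  refine Subtype.ext ?_
  show refl Q v h0 * refl Q u (hu ▸ one_ne_zero) * refl Q v h0 = _
  conv_lhs => rw [show refl Q v h0 * refl Q u (hu ▸ one_ne_zero) * refl Q v h0 =
    refl Q v h0 * refl Q u (hu ▸ one_ne_zero) * (refl Q v h0)⁻¹ by
      rw [inv_eq_of_mul_eq_one_right (refl_sq v h0)]]
  rw [conj_refl]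
  refine orth_ext fun x => ?_
  simp [refl_apply_one hq, refl_apply, hv, map_orth, hu]

omit hQ hn in
/-- The image of the reflections. -/
theorem tsys_pts : TSys (pt Q '' {v | Q v = 1}) := by
  refine ⟨?_, ?_, ?_, ?_⟩
  · rintro _ ⟨v, hv, rfl⟩
    rw [pt_def hv, ← QuotientGroup.mk_mul]
    exact (congrArg _ (Subtype.ext (refl_sq v (by simp_all)))).trans (QuotientGroup.mk_one _)
  · rintro _ ⟨u, hu, rfl⟩ _ ⟨v, hv, rfl⟩ hn'
    have hu' : Q u = 1 := hu
    have hv' : Q v = 1 := hv
    rw [pt_conj hv hu, pt_conj hu hv]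
    have hB : polar Q u v ≠ 0 := by
      intro e
      apply hn'
      have h1 := pt_conj hu hv
      rw [polar_comm (⇑Q) v u, e, zero_smul, sub_zero] at h1
      have hs : pt Q v * pt Q v = 1 := by
        rw [pt_def hv, ← QuotientGroup.mk_mul]
        exact (congrArg _ (Subtype.ext (refl_sq v (by simp_all)))).trans (QuotientGroup.mk_one _)
      have h2 := congrArg (fun z => z * pt Q v) h1
      simp only [mul_assoc, hs, mul_one] at h2
      exact h2.symm
    have hq : Q (v - polar Q u v • u) = 1 := by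
      rw [q_sub, q_smul, hu', hv', polar_smul_right, polar_comm (⇑Q) v u, smul_eq_mul]; ring
    rw [polar_comm (⇑Q) v u]
    rcases one_or_neg hB with e | e
    · rw [e, one_smul, one_smul, ← pt_neg (Q := Q) (v := v - u) (by rwa [e, one_smul] at hq), neg_sub]
    · rw [e, neg_one_smul, neg_one_smul, sub_neg_eq_add, sub_neg_eq_add, add_comm]
  · rintro g _ ⟨v, hv, rfl⟩
    obtain ⟨g, rfl⟩ := QuotientGroup.mk_surjective g
    have hgv : Q (g.1.1 v) = 1 := by rw [map_orth]; exact hv
    refine ⟨g.1.1 v, hgv, ?_⟩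
    rw [pt_def hv, pt_def hgv, ← QuotientGroup.mk_inv, ← QuotientGroup.mk_mul,
      ← QuotientGroup.mk_mul]
    congr 1
    exact Subtype.ext (conj_refl g.1 v (by simp_all)).symm
  · rw [eq_top_iff]
    rintro x -
    obtain ⟨⟨g, hg⟩, rfl⟩ := QuotientGroup.mk_surjective x
    induction hg using Subgroup.closure_induction with
    | mem y hy =>
      obtain ⟨v, h0, hv, rfl⟩ := hy
      exact Subgroup.subset_closure ⟨v, hv, pt_def hv⟩
    | one => exact Subgroup.one_mem _
    | mul a b _ _ ha hb => exact Subgroup.mul_mem _ ha hb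
    | inv a _ ha => exact Subgroup.inv_mem _ ha

theorem center_PR : Subgroup.center (PR Q) = ⊥ := by
  rw [Subgroup.eq_bot_iff_forall]
  intro x hx
  obtain ⟨g, rfl⟩ := QuotientGroup.mk_surjective x
  refine (QuotientGroup.eq_one_iff g).mpr (Subgroup.mem_center_iff.mpr fun y => Subtype.ext ?_)
  refine central_of_pts hQ hn (g := g.1) (fun v hv => ?_) y.1
  have h := Subgroup.mem_center_iff.mp hx
    (QuotientGroup.mk ⟨refl Q v (hv ▸ one_ne_zero), refl_mem_tGroup _ hv⟩)
  rw [← QuotientGroup.mk_mul, ← QuotientGroup.mk_mul, QuotientGroup.eq] at h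
  set r : ↥(tGroup Q 1) := ⟨refl Q v (hv ▸ one_ne_zero), refl_mem_tGroup _ hv⟩
  set z := r⁻¹ * g * r * g⁻¹ with hz
  have hzc : z ∈ Subgroup.center ↥(tGroup Q 1) := by
    have := Subgroup.inv_mem _ h
    have e : z = g * ((r * g)⁻¹ * (g * r)) * g⁻¹ := by rw [hz]; group
    rw [e]; exact Subgroup.Normal.conj_mem inferInstance _ h g
  have hzO : ∀ x : orth Q, x * z.1 = z.1 * x := by
    refine central_of_commute (nondegenerate_of_isReg two_ne hQ) hn (g := z.1) fun k hk => ?_
    exact (congrArg Subtype.val (Subgroup.mem_center_iff.mp hzc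
      ⟨k, sGroup_le_tGroup (nondegenerate_of_isReg two_ne hQ) hn one_ne_zero hk⟩)).symm
  refine ⟨z.1, hzO, fun y' => ?_⟩
  have e : g.1 * r.1 * g.1⁻¹ = r.1 * z.1 := by
    have : g * r * g⁻¹ = r * z := by rw [hz]; group
    exact congrArg Subtype.val this
  exact e

omit hQ hn

/-! ### The bijection -/

section

variable {G : Type*} [Group G] {V : Type*} [AddCommGroup V] [Module K V] [FiniteDimensional K V]
  {D : Set G} {d : G} {Q₀ : QuadraticForm K V} {ρ : V → G}

/-- A vector for a member. -/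
def Rep (d : G) (Q₀ : QuadraticForm K V) (ρ : V → G) (w₀ : V) (c₀ : G) (y : G) (x : V × K) : Prop :=
  (y = d ∧ x = (0, 1)) ∨ (∃ v, Q₀ v = 1 ∧ ρ v = y ∧ x = (v, 0)) ∨
    ∃ w, Sing Q₀ w ∧ L d Q₀ ρ w₀ c₀ w = y ∧ x = (w, 1)

/-- The form with one more dimension. -/
noncomputable def ext (Q₀ : QuadraticForm K V) : QuadraticForm K (V × K) :=
  Q₀.prod QuadraticMap.sq

theorem ext_apply (x : V × K) : ext Q₀ x = Q₀ x.1 + x.2 * x.2 := by
  simp [ext, QuadraticMap.prod_apply, QuadraticMap.sq_apply]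

theorem ext_polar (x y : V × K) :
    polar (ext Q₀) x y = polar Q₀ x.1 y.1 + 2 * (x.2 * y.2) := by
  simp only [polar, ext_apply, Prod.fst_add, Prod.snd_add]
  ring

theorem ext_reg (hQ : IsReg Q₀) : IsReg (ext Q₀) := by
  intro x hx hx0
  have h1 : x.2 = 0 := by
    have := hx (0, 1)
    simp [ext_polar] at this
    exact this.resolve_left (by decide)
  rw [ext_apply, h1, mul_zero, add_zero] at hx0
  exact Prod.ext (hQ x.1 (fun y => by simpa [ext_polar] using hx (y, 0)) hx0) h1

variable [Finite G] (C : Chart D d Q₀ ρ) (hd1 : ∃ c ∈ D, ¬ Commute d c)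
  {w₀ : V} {c₀ : G} (h₀ : Vec D d Q₀ ρ w₀ c₀)
include C h₀

theorem rep_norm {y : G} {x : V × K} (h : Rep d Q₀ ρ w₀ c₀ y x) : y ∈ D ∧ ext Q₀ x = 1 := by
  rcases h with ⟨rfl, rfl⟩ | ⟨v, hv, rfl, rfl⟩ | ⟨w, hw, rfl, rfl⟩
  · exact ⟨C.hd, by simp [ext_apply]⟩
  · exact ⟨(C.mem v hv).1, by simp [ext_apply, hv]⟩
  · exact ⟨(L_vec C h₀ hw).1, by simp [ext_apply, hw.2]⟩

theorem exists_rep {y : G} (hy : y ∈ D) : ∃ x, Rep d Q₀ ρ w₀ c₀ y x := by
  rcases cover C h₀ hy with h | ⟨v, hv, h⟩ | ⟨w, hw, h⟩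
  exacts [⟨_, Or.inl ⟨h, rfl⟩⟩, ⟨_, Or.inr (Or.inl ⟨v, hv, h, rfl⟩)⟩,
    ⟨_, Or.inr (Or.inr ⟨w, hw, h, rfl⟩)⟩]

open scoped Classical in
theorem rep_of_norm {x : V × K} (h : ext Q₀ x = 1) :
    ∃ y ε, (ε = 1 ∨ ε = -1) ∧ Rep d Q₀ ρ w₀ c₀ y ((ε : K) • x) := by
  obtain ⟨v, a⟩ := x
  rw [ext_apply] at h
  by_cases ha : a = 0
  · exact ⟨ρ v, 1, Or.inl rfl, Or.inr (Or.inl ⟨v, by simpa [ha] using h, rfl, by simp [ha]⟩)⟩
  · have hv : Q₀ v = 0 := by simpa [mul_self_one ha] using h
    refine ⟨if v = 0 then d else L d Q₀ ρ w₀ c₀ (a • v), a, one_or_neg ha, ?_⟩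
    by_cases h0 : v = 0
    · rw [if_pos h0]
      exact Or.inl ⟨rfl, Prod.ext (by simp [h0]) (mul_self_one ha)⟩
    · rw [if_neg h0]
      exact Or.inr (Or.inr ⟨_, Sing.smul ⟨h0, hv⟩ ha, rfl, Prod.ext rfl (mul_self_one ha)⟩)

theorem rep_eq {p q : G} {a b : V × K} (hp : Rep d Q₀ ρ w₀ c₀ p a) (hq : Rep d Q₀ ρ w₀ c₀ q b) :
    p = q ↔ b = a ∨ b = -a := by
  have key : (1 : K) ≠ -1 := by decide
  rcases hp with ⟨rfl, rfl⟩ | ⟨v, hv, rfl, rfl⟩ | ⟨w, hw, rfl, rfl⟩ <;>
    rcases hq with ⟨rfl, rfl⟩ | ⟨v', hv', rfl, rfl⟩ | ⟨w', hw', rfl, rfl⟩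
  · simp
  · refine iff_of_false (C.mem v' hv').2.1.symm ?_
    simp [Prod.ext_iff]
  · refine iff_of_false (fun e => (L_vec C h₀ hw').2.1 (by rw [← e])) ?_
    simp [Prod.ext_iff, hw'.1]
  · refine iff_of_false (C.mem v hv).2.1 ?_
    simp [Prod.ext_iff]
  · refine ⟨fun e => ?_, ?_⟩
    · rcases C.inj _ _ hv hv' e with rfl | rfl
      · exact Or.inl rfl
      · exact Or.inr (by simp [Prod.ext_iff])
    · rintro (e | e)
      · exact congrArg ρ (Prod.ext_iff.mp e).1.symm
      · have := (Prod.ext_iff.mp e).1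
        simp only [Prod.fst_neg] at this
        rw [this, C.neg v hv]
  · refine iff_of_false (fun e => (L_vec C h₀ hw').2.1 (by rw [← e]; exact (C.mem v hv).2.2)) ?_
    simp [Prod.ext_iff]
  · refine iff_of_false (fun e => (L_vec C h₀ hw).2.1 (by rw [e])) ?_
    rintro (e | e) <;> simp [Prod.ext_iff, eq_comm (a := (0 : V)), hw.1] at e
  · refine iff_of_false (fun e => (L_vec C h₀ hw).2.1 (by rw [e]; exact (C.mem v' hv').2.2)) ?_
    simp [Prod.ext_iff]
  · refine ⟨fun e => Or.inl (by rw [L_inj C h₀ hw hw' e]), ?_⟩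
    rintro (e | e)
    · exact congrArg _ (Prod.ext_iff.mp e).1.symm
    · exact absurd (Prod.ext_iff.mp e).2 (by simpa using key)

theorem rep_commute {p q : G} {a b : V × K} (hp : Rep d Q₀ ρ w₀ c₀ p a)
    (hq : Rep d Q₀ ρ w₀ c₀ q b) (hne : p ≠ q) : Commute p q ↔ polar (ext Q₀) a b = 0 := by
  rw [ext_polar]
  rcases hp with ⟨rfl, rfl⟩ | ⟨v, hv, rfl, rfl⟩ | ⟨w, hw, rfl, rfl⟩ <;>
    rcases hq with ⟨rfl, rfl⟩ | ⟨v', hv', rfl, rfl⟩ | ⟨w', hw', rfl, rfl⟩
  · exact absurd rfl hne
  · simpa using (C.mem v' hv').2.2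
  · refine iff_of_false (L_vec C h₀ hw').2.1 ?_
    simp only [polar_zero_left]; decide
  · simpa using (C.mem v hv).2.2.symm
  · rw [C.comm v v' hv hv' (fun e => hne (by rw [e])) (fun e => hne (by rw [e, C.neg v hv]))]
    simp
  · rw [show Commute (ρ v) (L d Q₀ ρ w₀ c₀ w') ↔ Commute (L d Q₀ ρ w₀ c₀ w') (ρ v) from
      ⟨fun e => e.symm, fun e => e.symm⟩, (L_vec C h₀ hw').2.2.2 v hv, polar_comm]
    simp
  · refine iff_of_false (fun e => (L_vec C h₀ hw).2.1 e.symm) ?_
    simp only [polar_zero_right]; decide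
  · rw [(L_vec C h₀ hw).2.2.2 v' hv']
    simp
  · rw [commute_L C h₀ hw hw' (fun e => hne (by rw [e]))]
    have : ∀ t : K, t = 1 ↔ t + 2 * (1 * 1) = 0 := by decide
    exact this _

theorem rep_third {p q : G} {a b u : V × K} (hp : Rep d Q₀ ρ w₀ c₀ p a)
    (hq : Rep d Q₀ ρ w₀ c₀ q b) (hu : Rep d Q₀ ρ w₀ c₀ (p * q * p) u) (hne : ¬ Commute p q) :
    u = b - polar (ext Q₀) a b • a ∨ u = -(b - polar (ext Q₀) a b • a) := by
  obtain ⟨hpD, ha⟩ := rep_norm C h₀ hp
  obtain ⟨hqD, hb⟩ := rep_norm C h₀ hq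
  obtain ⟨hzD, hu1⟩ := rep_norm C h₀ hu
  obtain ⟨hzp, hpz⟩ := C.ts.f1 hqD hpD (fun e => hne e.symm)
  -- `p * q * p` is neither `p` nor `q`
  have hzne : p * q * p ≠ p := fun e => hne (by
    have h := congrArg (fun z => p * z * p) e
    simp only [C.ts.conj_conj hpD, C.ts.sq p hpD, one_mul] at h
    rw [h])
  set R := ext Q₀
  set β := polar R a b with hβ
  have hpq : p ≠ q := fun e => hne (by rw [e])
  have hβ0 : β ≠ 0 := fun e => hne ((rep_commute C h₀ hp hq hpq).mpr e)
  set γ := polar R a u with hγ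
  set r := a + β • b with hr
  have hQr : R r = 0 := by
    rw [hr, q_add, q_smul, polar_smul_right, ← hβ, smul_eq_mul, ha, hb, mul_self_one hβ0]
    decide
  have har : polar R a r = 0 := by
    rw [hr, polar_add_right, polar_smul_right, polar_self', ha, ← hβ, smul_eq_mul, mul_self_one hβ0]
    decide
  have hr0 : r ≠ 0 := fun e => hpq ((rep_eq C h₀ hp hq).mpr (by
    have h1 := congrArg (fun z => β • z) e
    simp only [hr, smul_add, smul_smul, mul_self_one hβ0, one_smul, smul_zero] at h1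
    have h2 : b = -(β • a) := eq_neg_of_add_eq_zero_right h1
    rcases one_or_neg hβ0 with e' | e'
    · exact Or.inr (by rw [h2, e', one_smul])
    · exact Or.inl (by rw [h2, e', neg_one_smul, neg_neg])))
  have hreg : IsReg R := ext_reg C.reg
  have hS := regOn_perp (regOn_top hreg) (u := a) trivial (ha ▸ one_ne_zero)
  have hd := finrank_perp (Q := R) (S := ⊤) (u := a) trivial (ha ▸ one_ne_zero)
  rw [finrank_top, Module.finrank_prod, Module.finrank_self] at hd
  have hu'S : u + γ • a ∈ perp R ⊤ a := mem_perp.mpr ⟨trivial, by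
    rw [polar_add_right, polar_smul_right, polar_self', ha, ← hγ, smul_eq_mul]
    generalize γ = C; revert C; decide⟩
  obtain ⟨t, ht⟩ := eq_smul_of_perp hreg hS (by have := C.dim; omega) (mem_perp.mpr ⟨trivial, har⟩)
    hu'S ⟨hr0, hQr⟩ (fun x hx hqx hrx => by
      have hax : polar R a x = 0 := (mem_perp.mp hx).2
      have hbx : polar R b x = 0 := by
        rw [hr, polar_add_left, polar_smul_left, hax, zero_add, smul_eq_mul] at hrx
        exact (mul_eq_zero.mp hrx).resolve_left hβ0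
      obtain ⟨y, ε, hε, hy⟩ := rep_of_norm C h₀ hqx
      have hε0 : ε ≠ 0 := by rcases hε with e | e <;> rw [e] <;> decide
      have hcom : ∀ z c, Rep d Q₀ ρ w₀ c₀ z c → polar R c x = 0 → Commute z y := fun z c hz hc => by
        by_cases e : z = y
        · rw [e]
        · exact (rep_commute C h₀ hz hy e).mpr (by rw [polar_smul_right, hc, smul_zero])
      have hpy := hcom p a hp hax
      have hqy := hcom q b hq hbx
      have hzy : Commute (p * q * p) y := (hpy.mul_left hqy).mul_left hpy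
      have hux : polar R u x = 0 := by
        by_cases e : p * q * p = y
        · exact absurd hpy (fun h => hne (by
            rw [← e] at h
            have := C.ts.commute_conj hpD h
            rwa [C.ts.conj_conj hpD, C.ts.sq p hpD, one_mul] at this))
        · have := (rep_commute C h₀ hu hy e).mp hzy
          rw [polar_smul_right, smul_eq_mul] at this
          exact (mul_eq_zero.mp this).resolve_left hε0
      rw [polar_add_left, polar_smul_left, hux, hax, smul_zero, add_zero])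
  have hu2 : u = (t - γ) • a + (t * β) • b := by
    rw [eq_sub_of_add_eq ht, hr, smul_add, smul_smul, sub_smul]; abel
  by_cases ht0 : t = 0
  · exfalso
    apply hzne
    refine ((rep_eq C h₀ hp hu).mpr ?_).symm
    rw [hu2, ht0, zero_mul, zero_smul, add_zero, zero_sub]
    have h1 : γ ≠ 0 := fun e => by
      rw [hu2, ht0, e] at hu1
      simp at hu1
    rcases one_or_neg h1 with e | e
    · exact Or.inr (by rw [e, neg_one_smul])
    · exact Or.inl (by rw [e, neg_neg, one_smul])
  by_cases htγ : t = γ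
  · exfalso
    apply hzp
    refine ((rep_eq C h₀ hq hu).mpr ?_).symm
    rw [hu2, htγ, sub_self, zero_smul, zero_add]
    rcases one_or_neg (mul_ne_zero (htγ ▸ ht0 : γ ≠ 0) hβ0) with e | e
    · exact Or.inl (by rw [e, one_smul])
    · exact Or.inr (by rw [e, neg_one_smul])
  · have key : t - γ = -(t * β) * β := by
      have hq1 : (t - γ) * (t - γ) * 1 + t * β * (t * β) * 1 + (t - γ) * (t * β * β) = 1 := by
        rw [hu2, q_add, q_smul, q_smul, ha, hb, polar_smul_left, polar_smul_right, ← hβ] at hu1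
        simpa [smul_eq_mul] using hu1
      clear hu2 ht
      revert hq1 hβ0 ht0 htγ
      generalize β = B
      generalize γ = C
      revert t B C
      decide
    rcases one_or_neg (mul_ne_zero ht0 hβ0) with e | e
    · exact Or.inl (by rw [hu2, key, e, one_smul, neg_one_mul, neg_smul]; abel)
    · exact Or.inr (by rw [hu2, key, e, neg_neg, one_mul, neg_one_smul]; abel)

end

/-- From linear maps to matrices. -/
theorem transport {G : Type*} [Group G] {D : Set G} {n : ℕ} {Q : QuadraticForm K (Fin n → K)}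
    (e : G ≃* PR Q) (he : e '' D = pt Q '' {v | Q v = 1}) :
    ∃ e : G ≃* ↥(Cfsg.reflectionSubgroup (⇑Q) 1) ⧸ Subgroup.center ↥(Cfsg.reflectionSubgroup (⇑Q) 1),
      e '' D = (QuotientGroup.mk : ↥(Cfsg.reflectionSubgroup (⇑Q) 1) → _) ''
        {g : ↥(Cfsg.reflectionSubgroup (⇑Q) 1) |
          (g : ↥(Cfsg.isometryGroup (ZMod 3) (⇑Q))) ∈ Cfsg.reflectionsOfNorm (⇑Q) 1} := by
  set E := ReflectionThreeGroup.equiv (Q := Q) (c := (1 : K)) one_ne_zero
  have hcen : (Subgroup.center ↥(Cfsg.reflectionSubgroup (⇑Q) (1 : K))).map E.toMonoidHom =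
      Subgroup.center ↥(tGroup Q 1) := by
    ext x
    simp only [Subgroup.mem_map, MulEquiv.coe_toMonoidHom, Subgroup.mem_center_iff]
    constructor
    · rintro ⟨y, hy, rfl⟩ z
      obtain ⟨z, rfl⟩ := E.surjective z
      rw [← map_mul, ← map_mul, hy z]
    · intro hx
      exact ⟨E.symm x, fun z => E.injective (by simp [hx]), by simp⟩
  set F := QuotientGroup.congr _ _ E hcen
  refine ⟨e.trans F.symm, ?_⟩
  rw [show (⇑(e.trans F.symm) : G → _) = F.symm ∘ e from rfl, Set.image_comp, he]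
  have hF : ∀ g, F (QuotientGroup.mk g) = QuotientGroup.mk (E g) := fun g => rfl
  have hE : ∀ g : ↥(Cfsg.reflectionSubgroup (⇑Q) (1 : K)),
      ((E g : ↥(tGroup Q 1)) : orth Q) = OrthUnitaryPrelude.iso Q g := fun g => rfl
  ext x
  constructor
  · rintro ⟨_, ⟨v, hv, rfl⟩, rfl⟩
    have h0 : Q v ≠ 0 := (show Q v = 1 from hv) ▸ one_ne_zero
    set g := E.symm ⟨refl Q v h0, refl_mem_tGroup h0 hv⟩ with hg
    refine ⟨g, ⟨v, hv, ?_⟩, ?_⟩
    · refine (OrthUnitaryPrelude.mat_eq_reflectionMatrix_iff g.1 h0).mpr ?_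
      rw [← hE, hg, E.apply_symm_apply]
    · rw [pt_def hv, eq_comm, MulEquiv.symm_apply_eq, hF, hg, E.apply_symm_apply]
  · rintro ⟨g, ⟨v, hv, hm'⟩, rfl⟩
    have h0 : Q v ≠ 0 := hv ▸ one_ne_zero
    refine ⟨pt Q v, ⟨v, hv, rfl⟩, ?_⟩
    rw [MulEquiv.symm_apply_eq, hF, pt_def hv]
    congr 1
    refine Subtype.ext ?_
    rw [hE]
    exact ((OrthUnitaryPrelude.mat_eq_reflectionMatrix_iff g.1 h0).mp hm').symm


/-- A group with a chart at one of its members is a projective reflection group. -/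
theorem exists_equiv {G : Type*} [Group G] [Finite G] {V : Type*} [AddCommGroup V] [Module K V]
    [FiniteDimensional K V] {D : Set G} {d : G} {Q₀ : QuadraticForm K V} {ρ : V → G}
    (C : Chart D d Q₀ ρ) (hZ : Subgroup.center G = ⊥) (hd : d ≠ 1) :
    ∃ Q : QuadraticForm K (Fin (Module.finrank K V + 1) → K), (polarBilin Q).Nondegenerate ∧
      ∃ e : G ≃* ↥(Cfsg.reflectionSubgroup (⇑Q) 1) ⧸ Subgroup.center ↥(Cfsg.reflectionSubgroup (⇑Q) 1),
        e '' D = (QuotientGroup.mk : ↥(Cfsg.reflectionSubgroup (⇑Q) 1) → _) ''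
          {g : ↥(Cfsg.reflectionSubgroup (⇑Q) 1) |
            (g : ↥(Cfsg.isometryGroup (ZMod 3) (⇑Q))) ∈ Cfsg.reflectionsOfNorm (⇑Q) 1} := by
  classical
  obtain ⟨c₀, hc₀, hn₀⟩ : ∃ c ∈ D, ¬ Commute d c := by
    by_contra hno
    push Not at hno
    exact hd (eq_one_of_central C.ts hZ fun y hy => (hno y hy).symm)
  obtain ⟨w₀, h₀⟩ := exists_vec C hc₀ hn₀
  set m := Module.finrank K V + 1 with hm
  let φ : (V × K) ≃ₗ[K] (Fin m → K) := (Module.finBasisOfFinrankEq K (V × K)
    (by rw [Module.finrank_prod, Module.finrank_self])).equivFun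
  set Q : QuadraticForm K (Fin m → K) := (ext Q₀).comp φ.symm.toLinearMap
  have hQe : ∀ x, Q (φ x) = ext Q₀ x := fun x => by simp [Q]
  have hpol : ∀ x y, polar Q (φ x) (φ y) = polar (ext Q₀) x y := fun x y => by
    simp only [polar, ← map_add, hQe]
  have hreg : IsReg Q := fun x hx hx0 => by
    obtain ⟨x, rfl⟩ := φ.surjective x
    rw [ext_reg C.reg x (fun y => by rw [← hpol]; exact hx (φ y)) (by rw [← hQe]; exact hx0), map_zero]
  have hm5 : 5 ≤ m := by have := C.dim; omega
  haveI : Finite (orth Q) := finite_orth Q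
  choose! vec hvec using fun y (hy : y ∈ D) => exists_rep C h₀ hy
  let ψ : G → PR Q := fun y => pt Q (φ (vec y))
  have hnorm : ∀ y ∈ D, Q (φ (vec y)) = 1 := fun y hy => by
    rw [hQe]; exact (rep_norm C h₀ (hvec y hy)).2
  have hψ : Set.BijOn ψ D (pt Q '' {v | Q v = 1}) := by
    refine ⟨fun y hy => ⟨_, hnorm y hy, rfl⟩, fun p hp q hq e => ?_, ?_⟩
    · refine (rep_eq C h₀ (hvec p hp) (hvec q hq)).mpr ?_
      rcases pt_inj hreg hm5 (hnorm p hp) (hnorm q hq) e with h | h
      · exact Or.inl (φ.injective h)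
      · exact Or.inr (φ.injective (by rw [h, map_neg]))
    · rintro _ ⟨x, hx, rfl⟩
      obtain ⟨x, rfl⟩ := φ.surjective x
      obtain ⟨y, ε, hε, hy⟩ := rep_of_norm C h₀ (by rw [← hQe]; exact hx)
      have hyD := (rep_norm C h₀ hy).1
      refine ⟨y, hyD, ?_⟩
      have h1 := (rep_eq C h₀ hy (hvec y hyD)).mp rfl
      have h2 : vec y = x ∨ vec y = -x := by
        rcases hε with rfl | rfl <;> rcases h1 with e | e <;> rw [e] <;> simp
      show pt Q (φ (vec y)) = _
      rcases h2 with e | e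
      · rw [e]
      · rw [e, map_neg, pt_neg hx]
  have hconj : ∀ p ∈ D, ∀ q ∈ D, ψ (p * q * p) = ψ p * ψ q * ψ p := by
    intro p hp q hq
    show pt Q _ = pt Q _ * pt Q _ * pt Q _
    rw [pt_conj (hnorm q hq) (hnorm p hp), hpol, ← map_smul, ← map_sub]
    have hz := C.ts.conj_mem hp hq
    by_cases hc : Commute p q
    · have e : p * q * p = q := by rw [hc.eq, mul_assoc, C.ts.sq p hp, mul_one]
      rw [e]
      by_cases hpq : p = q
      · subst hpq
        have h2 : polar (ext Q₀) (vec p) (vec p) = 2 * 1 := by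
          rw [polar_self', (rep_norm C h₀ (hvec p hp)).2]
        rw [h2, show vec p - ((2 : K) * 1) • vec p = -vec p by
          rw [show ((2 : K) * 1) = -1 from by decide, neg_one_smul, sub_neg_eq_add]
          have := three_smul_zero (vec p)
          rw [show (3 : K) = 1 + 1 + 1 from by decide, add_smul, add_smul, one_smul] at this
          exact eq_neg_of_add_eq_zero_left this, map_neg, pt_neg (hnorm p hp)]
      · rw [(rep_commute C h₀ (hvec p hp) (hvec q hq) hpq).mp hc, zero_smul, sub_zero]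
    · rcases rep_third C h₀ (hvec p hp) (hvec q hq) (hvec _ hz) hc with e | e
      · rw [e]
      · have hn1 : Q (φ (vec q - polar (ext Q₀) (vec p) (vec q) • vec p)) = 1 := by
          have := hnorm _ hz
          rwa [e, map_neg, QuadraticMap.map_neg] at this
        rw [e, map_neg, pt_neg hn1]
  obtain ⟨e, he⟩ := iso_of_conj C.ts tsys_pts hZ (center_PR hreg hm5) hψ hconj
  exact ⟨Q, nondegenerate_of_isReg two_ne hreg, transport e he⟩

end Cfsg.Agent.FischerOrthModel47
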