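import Cfsg.Agent.Lib.FischerOrthPerp47
import Cfsg.Agent.Lib.FischerOrthModel47

/-!
# The step `O(m,3) -> O(m+1,3)`

If every member sees the norm-one points of one orthogonal space of dimension at least five over
`ZMod 3`, the group is the projective reflection group in one more dimension.
-/

set_option autoImplicit false
set_option linter.unusedSectionVars false

namespace Cfsg.Agent.FischerOrthStep47

open QuadraticMap Cfsg.Agent.ThreeTransRel
open Cfsg.Agent.OrthUnitaryQuad (IsReg)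
open Cfsg.Agent.FischerOrthLift47 (Chart)
open Cfsg.Agent.FischerOrthPerp47 (LChart)

local notation "K" => ZMod 3

variable {G : Type*} [Group G] [Finite G] {V : Type*} [AddCommGroup V] [Module K V]
  [FiniteDimensional K V] {D : Set G} {d : G} {Q₀ : QuadraticForm K V} {ρ : V → G}

/-- The reflection group in one more dimension. -/
theorem exists_equiv_of_locals (ht : TSys D) (hQ : IsReg Q₀) (hn : 5 ≤ Module.finrank K V)
    (hloc : ∀ x ∈ D, ∃ τ, LChart D x Q₀ τ) (hZ : Subgroup.center G = ⊥) (hd : d ∈ D) (hd1 : d ≠ 1)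
    (hgen : ∀ c ∈ D, ¬ Commute d c → Subgroup.closure (insert c {y | y ∈ D ∧ Commute d y}) = ⊤)
    (hcommon : ∀ c ∈ D, ¬ Commute d c → ∃ y ∈ D, y ≠ d ∧ Commute d y ∧ Commute c y) :
    ∃ Q : QuadraticForm K (Fin (Module.finrank K V + 1) → K), (polarBilin Q).Nondegenerate ∧
      ∃ e : G ≃* ↥(Cfsg.reflectionSubgroup (⇑Q) 1) ⧸ Subgroup.center ↥(Cfsg.reflectionSubgroup (⇑Q) 1),
        e '' D = (QuotientGroup.mk : ↥(Cfsg.reflectionSubgroup (⇑Q) 1) → _) ''
          {g : ↥(Cfsg.reflectionSubgroup (⇑Q) 1) |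
            (g : ↥(Cfsg.isometryGroup (ZMod 3) (⇑Q))) ∈ Cfsg.reflectionsOfNorm (⇑Q) 1} := by
  obtain ⟨ρ, L⟩ := hloc d hd
  refine FischerOrthModel47.exists_equiv (ρ := ρ) ⟨ht, hQ, by omega, hd, L.mem, L.surj, L.inj,
    L.neg, L.comm, L.conj, fun c hc hdc => ?_, hgen⟩ hZ hd1
  obtain ⟨y, hy, hyd, hdy, hcy⟩ := hcommon c hc hdc
  obtain ⟨ξ, hξ, rfl⟩ := L.surj y hy hyd hdy
  exact FischerOrthPerp47.exists_perp ht hQ hn hloc L hc hdc ⟨ξ, hξ, hcy⟩

end Cfsg.Agent.FischerOrthStep47
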