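import Cfsg.Agent.S5354
import Cfsg.Agent.Lib.FischerGlue6
import Cfsg.Agent.Lib.FischerOrthLocal94
import Cfsg.Agent.Lib.FischerOrthStep47

/-!
# The orthogonal family from the local quotient, dimension at least five
-/

set_option autoImplicit false
set_option linter.unusedSectionVars false

namespace Cfsg.Agent.FischerOrthSix47

open QuadraticMap Cfsg.Agent Cfsg.Agent.ThreeTransRel
open Cfsg.Agent.FischerOrth94 (Dd PM)
open Cfsg.Agent.FischerOrthPerp47 (LChart)

local notation "K" => ZMod 3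

variable {G : Type*} [Group G] {D : Set G} {m : ℕ} {Q : QuadraticForm K (Fin m → K)}

open scoped Classical in
/-- A chart read backwards. -/
theorem exists_lchart (hD : Cfsg.IsThreeTranspositionGroup D) {d : G} (hd : d ∈ D)
    (c : FischerOrth94.Chart D d Q) : ∃ τ, LChart D d Q τ := by
  have hs : ∀ v : Fin m → K, ∃ x, Q v = 1 → x ∈ Dd D d ∧ PM (c.f x) v := fun v => by
    by_cases h : Q v = 1
    · exact (c.surj v h).imp fun x hx _ => hx
    · exact ⟨1, fun h' => absurd h' h⟩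
  choose τ hτ using hs
  have pm : ∀ {u v : Fin m → K}, PM u v → v = u ∨ v = -u := by
    intro u v h
    obtain ⟨k, hk, e⟩ := h.symm
    rcases FischerOrthGeom47.one_or_neg (FischerOrth94.sign_ne_zero hk) with g | g
    · exact Or.inl (by rw [e, g, one_smul])
    · exact Or.inr (by rw [e, g, neg_one_smul])
  have mkpm : ∀ {u v : Fin m → K}, (v = u ∨ v = -u) → PM v u := by
    rintro u v (e | e)
    · exact e ▸ PM.refl u
    · exact ⟨-1, by decide, by rw [e, neg_one_smul]⟩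
  have uniq : ∀ v x, Q v = 1 → x ∈ Dd D d → (v = c.f x ∨ v = -c.f x) → τ v = x := by
    intro v x hv hx h
    exact c.inj _ (hτ v hv).1 x hx ((hτ v hv).2.trans (mkpm h))
  refine ⟨τ, hd, fun v hv => (hτ v hv).1, fun y hy hne hc => ?_, fun u v hu hv e => ?_,
    fun v hv => ?_, fun u v hu hv h1 h2 => ?_, fun u v hu hv => ?_⟩
  · have hn := c.norm y ⟨hy, hne, hc⟩
    exact ⟨_, hn, uniq _ y hn ⟨hy, hne, hc⟩ (Or.inl rfl)⟩
  · refine pm ?_
    exact (hτ u hu).2.symm.trans ((congrArg c.f e).symm ▸ (hτ v hv).2)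
  · exact uniq _ _ (by rw [QuadraticMap.map_neg, hv]) (hτ v hv).1
      (pm ((hτ v hv).2.trans ⟨-1, by decide, by rw [neg_one_smul, neg_neg]⟩))
  · obtain ⟨hx, px⟩ := hτ u hu
    obtain ⟨hy, py⟩ := hτ v hv
    have hne : τ u ≠ τ v := fun e =>
      (pm (px.symm.trans ((congrArg c.f e).symm ▸ py))).elim h1 h2
    rw [c.comm _ hx _ hy hne, py.polar_eq_zero' _, polar_comm (⇑Q), px.polar_eq_zero' _,
      polar_comm (⇑Q)]
  · obtain ⟨hx, ⟨k, hk, ek⟩⟩ := hτ u hu
    obtain ⟨hy, ⟨l, hl, el⟩⟩ := hτ v hv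
    refine (uniq _ _ ?_ (FischerOrth94.conj_mem_Dd hD hy hx) ?_).symm
    · rw [FischerOrthGeom47.q_sub, FischerOrthGeom47.q_smul, hu, hv, polar_smul_right, smul_eq_mul,
        polar_comm (⇑Q) u v]
      ring
    · refine pm ((c.conj _ hy _ hx).trans ⟨k, hk, ?_⟩)
      rw [ek, el]
      simp only [polar_smul_left, polar_smul_right, smul_sub, smul_smul, smul_eq_mul]
      congr 2
      linear_combination (k * polar Q v u) * hl

/-- Charts move with conjugation. -/
theorem lchart_conj (hD : Cfsg.IsThreeTranspositionGroup D) {d : G} {τ : (Fin m → K) → G}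
    (L : LChart D d Q τ) (g : G) : LChart D (g * d * g⁻¹) Q fun v => g * τ v * g⁻¹ := by
  have ht := tsys_of_group hD
  have hi : ∀ {x y : G}, g * x * g⁻¹ = g * y * g⁻¹ → x = y :=
    fun e => mul_left_cancel (mul_right_cancel e)
  refine ⟨ht.conj g _ L.hd, fun v hv => ?_, fun y hy hyd hdy => ?_,
    fun u v hu hv e => L.inj u v hu hv (hi e), fun v hv => by simp only [L.neg v hv],
    fun u v hu hv h1 h2 => by rw [Commute.conj_iff, L.comm u v hu hv h1 h2], fun u v hu hv => ?_⟩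
  · obtain ⟨h1, h2, h3⟩ := L.mem v hv
    exact ⟨ht.conj g _ h1, fun e => h2 (hi e), (Commute.conj_iff g).mpr h3⟩
  · have e : g * (g⁻¹ * y * g) * g⁻¹ = y := by group
    obtain ⟨v, hv, ev⟩ := L.surj (g⁻¹ * y * g) (by simpa using ht.conj g⁻¹ y hy)
      (fun h => hyd (by rw [← e, h])) (by rw [← Commute.conj_iff g, e]; exact hdy)
    exact ⟨v, hv, by simp only [ev, e]⟩
  · show g * τ v * g⁻¹ * (g * τ u * g⁻¹) * (g * τ v * g⁻¹) = _
    rw [← L.conj u v hu hv]; group

/-- The orthogonal step from one chart. -/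
theorem orth_of_lchart [Finite G] (hD : Cfsg.IsThreeTranspositionGroup D)
    (hprim : Cfsg.IsPrimitiveUnderConj D) (hZ : Subgroup.center G = ⊥) {d : G} (hd : d ∈ D)
    (hm : 5 ≤ m) (hQ : (polarBilin Q).Nondegenerate) {τ : (Fin m → K) → G}
    (L : LChart D d Q τ) :
    ∃ Q' : QuadraticForm K (Fin (m + 1) → K), (polarBilin Q').Nondegenerate ∧ ∃ c' : K, c' ≠ 0 ∧
      ∃ e' : G ≃* ↥(Cfsg.reflectionSubgroup (⇑Q') c') ⧸
          Subgroup.center ↥(Cfsg.reflectionSubgroup (⇑Q') c'),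
        e' '' D = (QuotientGroup.mk : ↥(Cfsg.reflectionSubgroup (⇑Q') c') → _) ''
          {g : ↥(Cfsg.reflectionSubgroup (⇑Q') c') |
            (g : ↥(Cfsg.isometryGroup (ZMod 3) (⇑Q'))) ∈ Cfsg.reflectionsOfNorm (⇑Q') c'} := by
  have ht := tsys_of_group hD
  have hloc : ∀ x ∈ D, ∃ σ, LChart D x Q σ := by
    intro x hx
    obtain ⟨g, rfl⟩ := hprim.1 d hd x hx
    exact ⟨_, lchart_conj hD L g⟩
  obtain ⟨v, hv⟩ := ThreeTransReflection.exists_value (OrthUnitaryOmega.isReg_of_nondegenerate hQ)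
    (by rw [Module.finrank_fin_fun]; omega) 1
  obtain ⟨hvD, hvd, hdv⟩ := L.mem v hv
  have hw : ∃ a ∈ D, ∃ b ∈ D, a ≠ b ∧ Commute a b := ⟨d, hd, _, hvD, Ne.symm hvd, hdv⟩
  have hmax := (S5354.result hD hprim hw).2.2 d hd
  obtain ⟨hsol, hconn, hperf⟩ := FischerGlue6.class_hyps hD hprim hZ hw
  have htc := FischerGlue6.tc ht hprim
  have hgen : ∀ y ∈ D, ¬ Commute d y →
      Subgroup.closure (insert y {z | z ∈ D ∧ Commute d z}) = ⊤ := by
    intro y hy hdy
    refine (hmax.2 _ ?_ (Subgroup.closure_mono (Set.subset_insert _ _))).resolve_left fun h => hdy ?_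
    · refine le_antisymm ((Subgroup.closure_le _).mpr fun z hz => hz.2) ?_
      refine (Subgroup.closure_le _).mpr fun z hz => Subgroup.subset_closure ⟨?_, ?_⟩
      · rcases hz with rfl | hz
        exacts [hy, hz.1]
      · exact Subgroup.subset_closure hz
    · have h1 : y ∈ Subgroup.closure {z | z ∈ D ∧ Commute d z} :=
        h ▸ Subgroup.subset_closure (Set.mem_insert _ _)
      have hle : Subgroup.closure {z | z ∈ D ∧ Commute d z} ≤ Subgroup.centralizer ({d} : Set G) :=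
        (Subgroup.closure_le _).mpr fun z hz =>
          Subgroup.mem_centralizer_singleton_iff.mpr hz.2.symm.eq
      exact (Subgroup.mem_centralizer_singleton_iff.mp (hle h1)).symm
  have hd1 : d ≠ 1 := by
    rintro rfl
    obtain ⟨g, hg⟩ := hprim.1 1 hd _ hvD
    exact hvd (by simpa using hg.symm)
  have hcommon : ∀ y ∈ D, ¬ Commute d y → ∃ z ∈ D, z ≠ d ∧ Commute d z ∧ Commute y z := by
    -- some member at distance two
    obtain ⟨p, hp, q, hq, hdp, hpd, hpq, hdq⟩ : ∃ p, p ∈ D ∧ ∃ q, q ∈ D ∧ Commute d p ∧ p ≠ d ∧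
        Commute p q ∧ ¬ Commute d q := by
      by_contra hno
      push Not at hno
      apply hd1
      refine ThreeTransDescent.eq_one_of_central ht hZ fun z hz => ?_
      suffices h : ∀ z, Relation.ReflTransGen (fun a b => a ∈ D ∧ b ∈ D ∧ Commute a b) d z →
          Commute d z from (h z (hconn d hd z hz)).symm
      intro z h
      induction h with
      | refl => exact Commute.refl d
      | @tail b a _ h2 ih =>
        by_cases e : b = d
        · exact e ▸ h2.2.2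
        · exact hno b h2.1 a h2.2.1 ih e h2.2.2
    intro y hy hdy
    obtain ⟨g, hgd, hgq⟩ := ThreeTransp.ax_transitive htc (fun N hN hs _ => hsol N hN hs) hperf hd
      hq hy hdq hdy
    refine ⟨g * p * g⁻¹, ht.conj g p hp, fun e => hpd ?_, ?_, ?_⟩
    · rw [← hgd] at e; exact mul_left_cancel (mul_right_cancel e)
    · have := (Commute.conj_iff g).mpr hdp; rwa [hgd] at this
    · have := (Commute.conj_iff g).mpr hpq.symm; rwa [hgq] at this
  obtain ⟨Q', hQ', e', he'⟩ := FischerOrthStep47.exists_equiv_of_locals ht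
    (OrthUnitaryOmega.isReg_of_nondegenerate hQ) (by rw [Module.finrank_fin_fun]; exact hm) hloc hZ
    hd hd1 hgen hcommon
  obtain ⟨N, hN⟩ : ∃ N, Module.finrank K (Fin m → K) + 1 = N := ⟨_, rfl⟩
  rw [Module.finrank_fin_fun] at hN
  have key : ∀ (N : ℕ) (_ : N = m + 1) (Q' : QuadraticForm K (Fin N → K)),
      (polarBilin Q').Nondegenerate →
      (∃ e' : G ≃* ↥(Cfsg.reflectionSubgroup (⇑Q') 1) ⧸
          Subgroup.center ↥(Cfsg.reflectionSubgroup (⇑Q') 1),
        e' '' D = (QuotientGroup.mk : ↥(Cfsg.reflectionSubgroup (⇑Q') 1) → _) ''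
          {g : ↥(Cfsg.reflectionSubgroup (⇑Q') 1) |
            (g : ↥(Cfsg.isometryGroup (ZMod 3) (⇑Q'))) ∈ Cfsg.reflectionsOfNorm (⇑Q') 1}) →
      ∃ Q' : QuadraticForm K (Fin (m + 1) → K), (polarBilin Q').Nondegenerate ∧ ∃ c' : K, c' ≠ 0 ∧
      ∃ e' : G ≃* ↥(Cfsg.reflectionSubgroup (⇑Q') c') ⧸
          Subgroup.center ↥(Cfsg.reflectionSubgroup (⇑Q') c'),
        e' '' D = (QuotientGroup.mk : ↥(Cfsg.reflectionSubgroup (⇑Q') c') → _) ''
          {g : ↥(Cfsg.reflectionSubgroup (⇑Q') c') |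
            (g : ↥(Cfsg.isometryGroup (ZMod 3) (⇑Q'))) ∈ Cfsg.reflectionsOfNorm (⇑Q') c'} := by
    rintro N rfl Q' h1 h2
    exact ⟨Q', h1, 1, one_ne_zero, h2⟩
  exact key _ (by rw [Module.finrank_fin_fun]) Q' hQ' ⟨e', he'⟩


/-- The orthogonal step from one local quotient. -/
theorem orth_of_local [Finite G] (hD : Cfsg.IsThreeTranspositionGroup D)
    (hprim : Cfsg.IsPrimitiveUnderConj D) (hZ : Subgroup.center G = ⊥) {d : G} (hd : d ∈ D)
    (hm : 5 ≤ m) (hQ : (polarBilin Q).Nondegenerate) {c : K} (hc : c ≠ 0)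
    (e : ↥(Subgroup.closure {y : G | y ∈ D ∧ y ≠ d ∧ Commute d y}) ⧸
        Subgroup.center ↥(Subgroup.closure {y : G | y ∈ D ∧ y ≠ d ∧ Commute d y}) ≃*
      ↥(Cfsg.reflectionSubgroup (⇑Q) c) ⧸ Subgroup.center ↥(Cfsg.reflectionSubgroup (⇑Q) c))
    (he : e '' ((QuotientGroup.mk :
          ↥(Subgroup.closure {y : G | y ∈ D ∧ y ≠ d ∧ Commute d y}) → _) ''
        {x : ↥(Subgroup.closure {y : G | y ∈ D ∧ y ≠ d ∧ Commute d y}) |
          (x : G) ∈ {y : G | y ∈ D ∧ y ≠ d ∧ Commute d y}}) =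
      (QuotientGroup.mk : ↥(Cfsg.reflectionSubgroup (⇑Q) c) → _) ''
        {g : ↥(Cfsg.reflectionSubgroup (⇑Q) c) |
          (g : ↥(Cfsg.isometryGroup (ZMod 3) (⇑Q))) ∈ Cfsg.reflectionsOfNorm (⇑Q) c}) :
    ∃ Q' : QuadraticForm K (Fin (m + 1) → K), (polarBilin Q').Nondegenerate ∧ ∃ c' : K, c' ≠ 0 ∧
      ∃ e' : G ≃* ↥(Cfsg.reflectionSubgroup (⇑Q') c') ⧸
          Subgroup.center ↥(Cfsg.reflectionSubgroup (⇑Q') c'),
        e' '' D = (QuotientGroup.mk : ↥(Cfsg.reflectionSubgroup (⇑Q') c') → _) ''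
          {g : ↥(Cfsg.reflectionSubgroup (⇑Q') c') |
            (g : ↥(Cfsg.isometryGroup (ZMod 3) (⇑Q'))) ∈ Cfsg.reflectionsOfNorm (⇑Q') c'} := by
  obtain ⟨c0⟩ := FischerOrth94.exists_chart (Q := Q) hD hQ (by omega) hc e he
  obtain ⟨τ, L⟩ := exists_lchart hD hd c0
  exact orth_of_lchart hD hprim hZ hd hm (FischerOrth94.smul_nondegenerate hQ hc) L

end Cfsg.Agent.FischerOrthSix47
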