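import Cfsg.Agent.Lib.FischerUnChart61
import Cfsg.Agent.Lib.ThreeTransM23Parity34
import Cfsg.Agent.Lib.FischerOrthSix47
import Cfsg.Agent.Lib.FischerOrthFiveTable47
import Cfsg.Agent.Lib.OrthUnitaryForms
import Cfsg.Agent.Lib.OrthUnitaryTranspositions

/-!
# Local groups `PSU(4,2)` and `O⁻(6,2)`: both are orthogonal groups in dimension five over `ZMod 3`
-/

set_option autoImplicit false
set_option linter.unusedSectionVars false

namespace Cfsg.Agent.FischerOrthIsoFive47

open QuadraticMap Cfsg.Agent.ThreeTransRel Cfsg.Agent.ThreeTransDescent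
open Cfsg.Agent.FischerOrthFiveData47 Cfsg.Agent.FischerOrthFiveTable47
open Cfsg.Agent.FischerOrthPerp47 (LChart)
open Cfsg.Agent.UnitaryF4Geo (FourField h tv tv_apply h_symm)
open Cfsg.Agent.FischerNoUnLocal61 (Iso)

local notation "K" => ZMod 3

variable {G : Type*} [Group G] [Finite G] {D : Set G}

/-- The prime field inside. -/
def em (F : Type*) [Field F] (x : ZMod 2) : F := if x = 0 then 0 else 1

section Field

variable {F : Type} [Field F] [Fintype F] [FourField F] {o : F}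

/-- The model field inside. -/
def emb (o : F) (x : M) : F := em F x.1 + em F x.2 * o

theorem zc : ∀ a : ZMod 2, a = 0 ∨ a = 1 := by decide

theorem em_add (a b : ZMod 2) : em F (a + b) = em F a + em F b := by
  rcases zc a with rfl | rfl <;> rcases zc b with rfl | rfl <;> simp [em]
  rw [show (1 : ZMod 2) + 1 = 0 from rfl, if_pos rfl, UnitaryF4Geo.add_self]

theorem em_mul (a b : ZMod 2) : em F (a * b) = em F a * em F b := by
  rcases zc a with rfl | rfl <;> rcases zc b with rfl | rfl <;> simp [em]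

theorem emb_add (x y : M) : emb o (x + y) = emb o x + emb o y := by
  simp only [emb, Prod.fst_add, Prod.snd_add, em_add]; ring

theorem emb_mul (ho : o ^ 2 = o + 1) (x y : M) : emb o (mM x y) = emb o x * emb o y := by
  simp only [emb, mM, em_add, em_mul]
  linear_combination (-(em F x.2 * em F y.2)) * ho

theorem emb_sq (ho : o ^ 2 = o + 1) (x : M) : emb o (sM x) = emb o x ^ 2 := by
  have hsq : ∀ a : ZMod 2, em F a ^ 2 = em F a := fun a => by
    rcases zc a with rfl | rfl <;> simp [em]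
  simp only [emb, sM, em_add, UnitaryF4Geo.sq_add, mul_pow, hsq, ho]; ring

theorem emb_zero : emb o (0 : M) = 0 := by simp [emb, em]

theorem emb_inj (ho : o ^ 2 = o + 1) : Function.Injective (emb o) := by
  obtain ⟨h0, h1⟩ := UnitaryF4Geo.omega_ne ho
  have key : ∀ x : M, emb o x = 0 → x = 0 := by
    rintro ⟨a, b⟩ hx
    rcases zc a with rfl | rfl <;> rcases zc b with rfl | rfl <;> simp [emb, em] at hx
    · rfl
    · exact absurd hx h0
    · exact absurd (UnitaryF4Geo.eq_of_add_eq_zero hx).symm h1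
  intro x y e
  have hm : ∀ x y : M, x + y = 0 → x = y := by decide
  exact hm x y (key _ (by rw [emb_add, e, UnitaryF4Geo.add_self]))

theorem emb_surj (ho : o ^ 2 = o + 1) (a : F) : ∃ x : M, emb o x = a :=
  (Fintype.bijective_iff_injective_and_card (emb o)).mpr ⟨emb_inj ho, by
    rw [UnitaryF4Geo.FourField.card_eq (F := F)]; rfl⟩ |>.2 a

theorem h_emb (ho : o ^ 2 = o + 1) (u v : Fin 4 → M) :
    h (fun k => emb o (u k)) (fun k => emb o (v k)) = emb o (hM u v) := by
  simp only [h, hM, emb_add, emb_mul ho, emb_sq ho, Fin.sum_univ_four]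

/-- The unitary group in dimension four, seen as an orthogonal one in dimension five. -/
theorem lchart_unitary {d : G} (ht : TSys D) (hd : d ∈ D) (C : FischerNoUnLocal61.Chart F 4 D d) :
    ∃ τ, LChart D d (form 1) τ := by
  obtain ⟨o, ho⟩ := UnitaryF4Geo.exists_omega (F := F)
  have hiso : ∀ i, Iso (fun k => emb o (imgU i k)) := fun i => by
    obtain ⟨h0, k, hk⟩ := isoU i
    refine ⟨fun e => hk (emb_inj ho ((congrFun e k).trans emb_zero.symm)), ?_⟩
    rw [h_emb ho, h0, emb_zero]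
  refine ⟨_, lchart_of_table ptsU idU hqU hallU hd (fun i => C.pt fun k => emb o (imgU i k))
    (fun i => C.mem (hiso i)) ?_ ?_ ?_ ?_⟩
  · intro y hy hyd hdy
    obtain ⟨v, hv, rfl⟩ := C.surj hy hyd hdy
    choose x hx using fun k => emb_surj ho (v k)
    obtain rfl : v = fun k => emb o (x k) := funext fun k => (hx k).symm
    have e4 : x = ![x 0, x 1, x 2, x 3] := by funext k; fin_cases k <;> rfl
    obtain ⟨i, c, hc, h0, h1, h2, h3⟩ := surjU (x 0) (x 1) (x 2) (x 3)
      (by
        by_contra hc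
        push Not at hc
        refine hv.1 (funext fun k => ?_)
        fin_cases k <;> simp [hc, emb_zero])
      (by
        rw [← e4]
        exact emb_inj ho (by rw [← h_emb ho, hv.2, emb_zero]))
    refine ⟨i, ((C.eq_iff (hiso i) hv).mpr ⟨emb o c, fun e => hc (emb_inj ho ?_), ?_⟩)⟩
    · rw [e, emb_zero]
    · funext k
      fin_cases k <;> simp [Pi.smul_apply, smul_eq_mul, ← emb_mul ho, ← h0, ← h1, ← h2, ← h3]
  · intro i j e
    by_contra hne
    obtain ⟨c, -, hc⟩ := (C.eq_iff (hiso i) (hiso j)).mp e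
    obtain ⟨x, rfl⟩ := emb_surj ho c
    refine distU i j hne x fun k => emb_inj ho ?_
    rw [emb_mul ho]
    exact congrFun hc k
  · intro i j hne
    rw [C.comm (hiso i) (hiso j), h_emb ho, ← commU i j hne]
    exact ⟨fun e => emb_inj ho (e.trans emb_zero.symm), fun e => by rw [e, emb_zero]⟩
  · intro i j
    obtain ⟨c, hc, e⟩ := conjU i j
    have hk := C.conj (hiso j) (hiso i)
    rw [ht.inv_self (C.mem (hiso j)).1] at hk
    rw [hk]
    refine ((C.eq_iff (hiso _) ((hiso j).tv (hiso i))).mpr ⟨emb o c, fun e0 => hc (emb_inj ho ?_),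
      ?_⟩).symm
    · rw [e0, emb_zero]
    · funext k
      simp only [tv_apply, Pi.add_apply, Pi.smul_apply, smul_eq_mul]
      rw [h_emb ho, ← emb_mul ho, ← emb_mul ho, ← emb_add, e k]

end Field

/-- The step from `PSU(4,2)`. -/
theorem orth_of_local_unitary {F : Type} [Field F] [Fintype F] (hF : Fintype.card F = 4)
    (hD : Cfsg.IsThreeTranspositionGroup D) (hprim : Cfsg.IsPrimitiveUnderConj D)
    (hZ : Subgroup.center G = ⊥) {d : G} (hd : d ∈ D)
    (e : ↥(Subgroup.closure {y : G | y ∈ D ∧ y ≠ d ∧ Commute d y}) ⧸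
      Subgroup.center ↥(Subgroup.closure {y : G | y ∈ D ∧ y ≠ d ∧ Commute d y}) ≃*
        Cfsg.PSU 4 F 2) :
    ∃ Q' : QuadraticForm K (Fin 6 → K), (polarBilin Q').Nondegenerate ∧ ∃ c' : K, c' ≠ 0 ∧
      ∃ e' : G ≃* ↥(Cfsg.reflectionSubgroup (⇑Q') c') ⧸
          Subgroup.center ↥(Cfsg.reflectionSubgroup (⇑Q') c'),
        e' '' D = (QuotientGroup.mk : ↥(Cfsg.reflectionSubgroup (⇑Q') c') → _) ''
          {g : ↥(Cfsg.reflectionSubgroup (⇑Q') c') |
            (g : ↥(Cfsg.isometryGroup (ZMod 3) (⇑Q'))) ∈ Cfsg.reflectionsOfNorm (⇑Q') c'} := by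
  haveI : FourField F := ⟨hF⟩
  have ht := tsys_of_group hD
  obtain ⟨C⟩ := FischerUnChart61.chart_of_iso (by norm_num) ht hprim hd e
  obtain ⟨τ, L⟩ := lchart_unitary ht hd C
  exact FischerOrthSix47.orth_of_lchart hD hprim hZ hd le_rfl (nondeg 1 one_ne_zero) L

section Quadric

open Cfsg.Agent.OrthUnitaryPrelude Cfsg.Agent.OrthUnitaryQuad Cfsg.Agent.OrthUnitaryRefl
  Cfsg.Agent.OrthUnitaryTranspositions

theorem vO_inj : Function.Injective vO := by
  intro a b e
  funext k
  fin_cases k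
  · exact congrFun e (.inl (.inl 0))
  · exact congrFun e (.inl (.inl 1))
  · exact congrFun e (.inl (.inr 0))
  · exact congrFun e (.inl (.inr 1))
  · exact congrFun e (.inr 0)
  · exact congrFun e (.inr 1)

theorem vO_smul_add (a b : Fin 6 → ZMod 2) (c : ZMod 2) :
    vO a + c • vO b = vO fun k => a k + c * b k := by
  funext k
  rcases k with (k | k) | k <;> fin_cases k <;> simp [vO]

theorem minus_eq (a : Fin 6 → ZMod 2) :
    Cfsg.quadFormMinus 2 (ZMod 2) 1 1 (vO a) = qO a := by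
  have hsq : ∀ x : ZMod 2, x ^ 2 = x := by decide
  simp [Cfsg.quadFormMinus, vO, qO, Fin.sum_univ_two, hsq]
  ring

theorem lchart_quadric {d : G} (ht : TSys D) (hprim : Cfsg.IsPrimitiveUnderConj D) (hd : d ∈ D)
    (P : QuadraticForm (ZMod 2) ((Fin 2 ⊕ Fin 2) ⊕ Fin 2 → ZMod 2))
    (hP : ∀ a, P (vO a) = qO a) (hnd : (polarBilin P).Nondegenerate)
    (e : ↥(loc D d) ⧸ Subgroup.center ↥(loc D d) ≃* ↥(Cfsg.isometryGroup (ZMod 2) ⇑P))
    (he : e '' ((QuotientGroup.mk : ↥(loc D d) → _) '' {x : ↥(loc D d) | (x : G) ∈ near D d}) =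
      {g : ↥(Cfsg.isometryGroup (ZMod 2) ⇑P) | (mat g - 1).rank = 1}) :
    ∃ τ, LChart D d (form 2) τ := by
  classical
  set φ : ↥(loc D d) →* ↥(orth P) :=
    ((iso P).toMonoidHom.comp e.toMonoidHom).comp (QuotientGroup.mk' _) with hφ
  have hinj0 : Function.Injective ⇑((iso P).toMonoidHom.comp e.toMonoidHom) :=
    (iso P).injective.comp e.injective
  have hrefl : ∀ p q : ↥(loc D d), (p : G) ∈ near D d → (q : G) ∈ near D d →
      Commute (φ p) (φ q) → Commute (p : G) (q : G) := fun p q hp hq hpq =>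
    ThreeTransM23Parity34.img_refl ht hp hq (Commute.of_map hinj0 hpq)
  have hinj : ∀ p q : ↥(loc D d), (p : G) ∈ near D d → (q : G) ∈ near D d → φ p = φ q → p = q := by
    intro p q hp hq hpq
    by_contra hne
    exact ThreeTransLine.no_central ht hprim hd hp
      (fibre ht hp hq (fun h => hne (Subtype.ext h)) (hrefl p q hp hq (hpq ▸ Commute.refl _))
        (hinj0 hpq))
  have hPn : ∀ i, P (vO (imgO i)) ≠ 0 := fun i => by rw [hP, qimgO i]; decide
  have hex : ∀ i, ∃ x : ↥(loc D d), (x : G) ∈ near D d ∧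
      φ x = refl P (vO (imgO i)) (hPn i) := by
    intro i
    have hm : (iso P).symm (refl P (vO (imgO i)) (hPn i)) ∈
        {g : ↥(Cfsg.isometryGroup (ZMod 2) ⇑P) | (mat g - 1).rank = 1} :=
      (rank_one_iff hnd _).2 ⟨_, hPn i, (iso P).apply_symm_apply _⟩
    rw [← he] at hm
    obtain ⟨_, ⟨x, hx, rfl⟩, ex⟩ := hm
    exact ⟨x, hx, (congrArg (iso P) ex).trans ((iso P).apply_symm_apply _)⟩
  choose x hx hφx using hex
  have hrinj : ∀ {u v} (hu : P u ≠ 0) (hv : P v ≠ 0), refl P u hu = refl P v hv → u = v := by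
    intro u v hu hv e
    have hu0 : u ≠ 0 := fun e0 => hu (by rw [e0, QuadraticMap.map_zero])
    obtain ⟨z, hz⟩ : ∃ z, polar P u z ≠ 0 := by
      by_contra hc
      push Not at hc
      exact hu0 (hnd.1 u hc)
    have h1 := congrArg (fun t : orth P => t.1 z) e
    simp only [refl_apply_two, add_right_inj, (zc _).resolve_left hz, one_smul] at h1
    rcases zc (polar P v z) with h2 | h2 <;> rw [h2] at h1
    · rw [zero_smul] at h1; exact absurd h1 hu0
    · rwa [one_smul] at h1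
  have hadd : ∀ a b : Fin 6 → ZMod 2, polar P (vO a) (vO b) = bO a b := by
    intro a b
    have h1 := vO_smul_add a b 1
    rw [one_smul] at h1
    rw [polar, h1, hP, hP, hP]
    simp only [qO, bO, one_mul]
    ring
  refine ⟨_, lchart_of_table ptsO idO hqO hallO hd (fun i => (x i : G)) (fun i => ⟨(hx i).1,
    (hx i).2.1, (hx i).2.2⟩) ?_ ?_ ?_ ?_⟩
  · intro y hy hyd hdy
    have hy' : y ∈ near D d := ⟨hy, hyd, hdy⟩
    have hm : e (QuotientGroup.mk (⟨y, near_le_loc hy'⟩ : ↥(loc D d))) ∈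
        {g : ↥(Cfsg.isometryGroup (ZMod 2) ⇑P) | (mat g - 1).rank = 1} :=
      he ▸ ⟨_, ⟨_, hy', rfl⟩, rfl⟩
    obtain ⟨v, hv, ev⟩ := (rank_one_iff hnd _).1 hm
    obtain ⟨a, rfl⟩ : ∃ a, vO a = v := ⟨![v (.inl (.inl 0)), v (.inl (.inl 1)), v (.inl (.inr 0)),
      v (.inl (.inr 1)), v (.inr 0), v (.inr 1)], by
        funext k; rcases k with (k | k) | k <;> fin_cases k <;> rfl⟩
    have ha : a = ![a 0, a 1, a 2, a 3, a 4, a 5] := by funext k; fin_cases k <;> rfl
    obtain ⟨i, hi⟩ := surjO (a 0) (a 1) (a 2) (a 3) (a 4) (a 5)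
      (by rw [← ha, ← hP]; exact (zc _).resolve_left hv)
    rw [← ha] at hi
    refine ⟨i, congrArg Subtype.val (hinj (x i) ⟨y, near_le_loc hy'⟩ (hx i) hy' ?_)⟩
    rw [hφx i]
    exact (refl_congr (hPn i) hv (by rw [hi])).trans ev.symm
  · intro i j hij
    refine distO i j (vO_inj (hrinj (hPn i) (hPn j) ?_))
    rw [← hφx, ← hφx, Subtype.ext hij]
  · intro i j hne
    rw [← commO i j hne]
    have key : Commute (refl P _ (hPn i)) (refl P _ (hPn j)) ↔
        bO (imgO j) (imgO i) = 0 := by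
      constructor
      · intro hc
        have h1 := conj_refl (refl P _ (hPn j)) _ (hPn i)
        rw [hc.symm.mul_inv_cancel] at h1
        have h2 := hrinj _ _ h1
        rw [refl_apply_two] at h2
        have h3 := add_eq_left.mp h2.symm
        rw [← hadd]
        rcases zc (polar P (vO (imgO j)) (vO (imgO i))) with h4 | h4
        · exact h4
        · rw [h4, one_smul] at h3
          exact absurd (by rw [h3, QuadraticMap.map_zero]) (hPn j)
      · intro h0
        have h1 := conj_refl (refl P _ (hPn j)) _ (hPn i)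
        have e1 : (refl P _ (hPn j)).1 (vO (imgO i)) = vO (imgO i) := by
          rw [refl_apply_two, hadd, h0, zero_smul, add_zero]
        rw [refl_congr _ (hPn i) e1] at h1
        exact (mul_inv_eq_iff_eq_mul.mp h1).symm
    rw [← key, ← hφx, ← hφx]
    exact ⟨fun hc => (show Commute (x i) (x j) from Subtype.ext hc.eq).map φ,
      hrefl _ _ (hx i) (hx j)⟩
  · intro i j
    have hc : (x j : G) * x i * x j ∈ near D d := by
      have := near_conj ht (hx j).2.2.symm (hx i)
      rwa [ht.inv_self (hx j).1] at this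
    refine congrArg Subtype.val (hinj (x j * x i * x j) (x _) hc (hx _) ?_)
    rw [map_mul, map_mul, hφx, hφx, hφx]
    have h1 := conj_refl (refl P _ (hPn j)) _ (hPn i)
    rw [inv_eq_of_mul_eq_one_left (OrthUnitaryTranspositions.refl_sq _ (hPn j))] at h1
    rw [h1]
    refine refl_congr _ _ ?_
    rw [refl_apply_two, hadd, vO_smul_add]
    exact congrArg vO (funext (conjO i j))

/-- The step from `O⁻(6,2)`. -/
theorem orth_of_local_minus (hD : Cfsg.IsThreeTranspositionGroup D)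
    (hprim : Cfsg.IsPrimitiveUnderConj D) (hZ : Subgroup.center G = ⊥) {d : G} (hd : d ∈ D)
    (e : ↥(Subgroup.closure {y : G | y ∈ D ∧ y ≠ d ∧ Commute d y}) ⧸
        Subgroup.center ↥(Subgroup.closure {y : G | y ∈ D ∧ y ≠ d ∧ Commute d y}) ≃*
      ↥(Cfsg.isometryGroup (ZMod 2) (Cfsg.quadFormMinus 2 (ZMod 2) 1 1)))
    (he : e '' ((QuotientGroup.mk :
          ↥(Subgroup.closure {y : G | y ∈ D ∧ y ≠ d ∧ Commute d y}) → _) ''
        {x : ↥(Subgroup.closure {y : G | y ∈ D ∧ y ≠ d ∧ Commute d y}) |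
          (x : G) ∈ {y : G | y ∈ D ∧ y ≠ d ∧ Commute d y}}) =
      {g : ↥(Cfsg.isometryGroup (ZMod 2) (Cfsg.quadFormMinus 2 (ZMod 2) 1 1)) |
        (((g : GL ((Fin 2 ⊕ Fin 2) ⊕ Fin 2) (ZMod 2)) :
          Matrix ((Fin 2 ⊕ Fin 2) ⊕ Fin 2) ((Fin 2 ⊕ Fin 2) ⊕ Fin 2) (ZMod 2)) - 1).rank = 1}) :
    ∃ Q' : QuadraticForm K (Fin 6 → K), (polarBilin Q').Nondegenerate ∧ ∃ c' : K, c' ≠ 0 ∧
      ∃ e' : G ≃* ↥(Cfsg.reflectionSubgroup (⇑Q') c') ⧸
          Subgroup.center ↥(Cfsg.reflectionSubgroup (⇑Q') c'),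
        e' '' D = (QuotientGroup.mk : ↥(Cfsg.reflectionSubgroup (⇑Q') c') → _) ''
          {g : ↥(Cfsg.reflectionSubgroup (⇑Q') c') |
            (g : ↥(Cfsg.isometryGroup (ZMod 3) (⇑Q'))) ∈ Cfsg.reflectionsOfNorm (⇑Q') c'} := by
  have ht := tsys_of_group hD
  obtain ⟨P, hP⟩ : ∃ P : QuadraticForm (ZMod 2) ((Fin 2 ⊕ Fin 2) ⊕ Fin 2 → ZMod 2),
      ∀ v, Cfsg.quadFormMinus 2 (ZMod 2) 1 1 v = P v :=
    ⟨_, OrthUnitaryStd.comp_symm_apply _ (Cfsg.quadFormMinus 2 (ZMod 2) (1 : ZMod 2) 1)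
      (OrthUnitaryForms.eqMinus 2) (OrthUnitaryForms.eqMinus_isometry (F := ZMod 2) 2 1 1)⟩
  have hPe : Cfsg.quadFormMinus 2 (ZMod 2) (1 : ZMod 2) 1 = ⇑P := funext hP
  have hPv : ∀ a, P (vO a) = qO a := fun a => by rw [← hP, minus_eq]
  have hnd : (polarBilin P).Nondegenerate := by
    refine OrthUnitaryStd.nondegenerate_iff_left P fun x hx => ?_
    obtain ⟨a, rfl⟩ : ∃ a, vO a = x := ⟨![x (.inl (.inl 0)), x (.inl (.inl 1)), x (.inl (.inr 0)),
      x (.inl (.inr 1)), x (.inr 0), x (.inr 1)], by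
        funext k; rcases k with (k | k) | k <;> fin_cases k <;> rfl⟩
    have hb : ∀ b : Fin 6 → ZMod 2, bO a b = 0 := fun b => by
      have h1 := hx (vO b)
      have h2 := vO_smul_add a b 1
      rw [one_smul] at h2
      rw [polar, h2, hPv, hPv, hPv] at h1
      rw [← h1]
      simp only [qO, bO, one_mul]
      ring
    have h0 : a = 0 := by
      funext k
      fin_cases k
      · simpa [bO] using hb (Pi.single 2 1)
      · simpa [bO] using hb (Pi.single 3 1)
      · simpa [bO] using hb (Pi.single 0 1)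
      · simpa [bO] using hb (Pi.single 1 1)
      · simpa [bO] using hb (Pi.single 5 1)
      · simpa [bO] using hb (Pi.single 4 1)
    subst h0
    funext k
    rcases k with (k | k) | k <;> fin_cases k <;> rfl

  revert e
  rw [hPe]
  intro e he
  obtain ⟨τ, L⟩ := lchart_quadric ht hprim hd P hPv hnd e he
  exact FischerOrthSix47.orth_of_lchart hD hprim hZ hd le_rfl (nondeg 2 (by decide)) L

end Quadric

end Cfsg.Agent.FischerOrthIsoFive47
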