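import Cfsg.Agent.Lib.ThreeTransRel
import Cfsg.Agent.Lib.FischerOrthGeom47

/-!
# Transpositions over a local orthogonal space

The neighbours of `d` are the norm-one points of an orthogonal space over `ZMod 3` and every further
member cuts out the perpendicular of a singular point.  Then the further members are the non-zero
singular vectors: the sign of the vector is fixed by lifting along hyperbolic pairs, and the lifts
agree on triangles.
-/

set_option autoImplicit false
set_option linter.unusedSectionVars false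

namespace Cfsg.Agent.FischerOrthLift47

open QuadraticMap Cfsg.Agent.ThreeTransRel Cfsg.Agent.FischerOrthGeom47
open Cfsg.Agent.OrthUnitaryQuad (IsReg)

local notation "K" => ZMod 3

variable {G : Type*} [Group G] {V : Type*} [AddCommGroup V] [Module K V] [FiniteDimensional K V]

/-- The neighbours of `d` as norm-one points, the other members as perpendiculars of singular
points. -/
structure Chart (D : Set G) (d : G) (Q : QuadraticForm K V) (ρ : V → G) : Prop where
  ts : TSys D
  reg : IsReg Q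
  dim : 5 ≤ Module.finrank K V
  hd : d ∈ D
  mem : ∀ v, Q v = 1 → ρ v ∈ D ∧ ρ v ≠ d ∧ Commute d (ρ v)
  surj : ∀ y ∈ D, y ≠ d → Commute d y → ∃ v, Q v = 1 ∧ ρ v = y
  inj : ∀ u v, Q u = 1 → Q v = 1 → ρ u = ρ v → v = u ∨ v = -u
  neg : ∀ v, Q v = 1 → ρ (-v) = ρ v
  comm : ∀ u v, Q u = 1 → Q v = 1 → v ≠ u → v ≠ -u → (Commute (ρ u) (ρ v) ↔ polar Q u v = 0)
  conj : ∀ u v, Q u = 1 → Q v = 1 → ρ v * ρ u * ρ v = ρ (u - polar Q v u • v)
  perp : ∀ c ∈ D, ¬ Commute d c →
    ∃ r, Sing Q r ∧ ∀ v, Q v = 1 → (Commute c (ρ v) ↔ polar Q r v = 0)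
  gen : ∀ c ∈ D, ¬ Commute d c → Subgroup.closure (insert c {y | y ∈ D ∧ Commute d y}) = ⊤

/-- A member with its singular point. -/
def Vec (D : Set G) (d : G) (Q : QuadraticForm K V) (ρ : V → G) (w : V) (c : G) : Prop :=
  c ∈ D ∧ ¬ Commute d c ∧ Sing Q w ∧ ∀ v, Q v = 1 → (Commute c (ρ v) ↔ polar Q w v = 0)

open scoped Classical in
/-- The member over `w'` attached to the member `c` over `w`. -/
noncomputable def T (d : G) (Q : QuadraticForm K V) (ρ : V → G) (w w' : V) (c : G) : G :=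
  if polar Q w w' = 1 then d * (ρ (w + polar Q w w' • w') * c * ρ (w + polar Q w w' • w')) * d
  else ρ (w + polar Q w w' • w') * c * ρ (w + polar Q w w' • w')

section

variable {D : Set G} {d : G} {Q : QuadraticForm K V} {ρ : V → G} (C : Chart D d Q ρ)
include C

theorem commute_rho_d {v : V} (hv : Q v = 1) : d * ρ v = ρ v * d := (C.mem v hv).2.2.eq

theorem cancel_two {a : G} (ha : a ∈ D) (x : G) : a * (a * x) = x := by
  rw [← mul_assoc, C.ts.sq a ha, one_mul]

theorem d_twice (x : G) : d * (d * x * d) * d = x := C.ts.conj_conj C.hd x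

theorem rho_twice {v : V} (hv : Q v = 1) (x : G) : ρ v * (ρ v * x * ρ v) * ρ v = x :=
  C.ts.conj_conj (C.mem v hv).1 x

theorem swap_d {v : V} (hv : Q v = 1) (x : G) :
    ρ v * (d * x * d) * ρ v = d * (ρ v * x * ρ v) * d := by
  have h := commute_rho_d C hv
  calc ρ v * (d * x * d) * ρ v = (ρ v * d) * x * (d * ρ v) := by group
    _ = (d * ρ v) * x * (ρ v * d) := by rw [h]
    _ = _ := by group

theorem d_fix {x : G} (h : Commute d x) : d * x * d = x := by
  rw [h.eq, mul_assoc, C.ts.sq d C.hd, mul_one]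

theorem commute_dconj {c y : G} (hy : Commute d y) : Commute (d * c * d) y ↔ Commute c y := by
  constructor
  · intro h
    have := C.ts.commute_conj C.hd h
    rwa [d_twice C, d_fix C hy] at this
  · intro h
    have := C.ts.commute_conj C.hd h
    rwa [d_fix C hy] at this

/-- The singular point is unique up to sign. -/
theorem vec_unique {w w' : V} {c : G} (h : Vec D d Q ρ w c) (h' : Vec D d Q ρ w' c) :
    w' = w ∨ w' = -w := by
  obtain ⟨a, ha⟩ := eq_smul_of_perp C.reg
    (ThreeTransReflSeven78.regOn_top C.reg) (by rw [finrank_top]; exact C.dim) trivial trivial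
    h.2.2.1 (u := w') fun v _ hv hp => (h'.2.2.2 v hv).mp ((h.2.2.2 v hv).mpr hp)
  have ha0 : a ≠ 0 := fun e => h'.2.2.1.1 (by rw [ha, e, zero_smul])
  rcases one_or_neg ha0 with e | e <;> subst e <;> simp [ha]

omit C in
theorem Vec.neg {w : V} {c : G} (h : Vec D d Q ρ w c) : Vec D d Q ρ (-w) c :=
  ⟨h.1, h.2.1, h.2.2.1.neg, fun v hv => by rw [h.2.2.2 v hv, polar_neg_left, neg_eq_zero]⟩

theorem exists_vec {c : G} (hc : c ∈ D) (hn : ¬ Commute d c) : ∃ w, Vec D d Q ρ w c := by
  obtain ⟨r, hr, h⟩ := C.perp c hc hn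
  exact ⟨r, hc, hn, hr, h⟩

theorem vec_d {w : V} {c : G} (h : Vec D d Q ρ w c) : Vec D d Q ρ w (d * c * d) := by
  refine ⟨C.ts.conj_mem C.hd h.1, ?_, h.2.2.1, fun v hv => ?_⟩
  · intro e
    have := C.ts.commute_conj C.hd e
    rw [d_twice C, C.ts.sq d C.hd, one_mul] at this
    exact h.2.1 this
  · rw [commute_dconj C (C.mem v hv).2.2]; exact h.2.2.2 v hv

theorem refl_q {v x : V} (hv : Q v = 1) : Q (x - polar Q v x • v) = Q x := by
  rw [q_sub, q_smul, hv, polar_smul_right, smul_eq_mul, polar_comm (⇑Q) x v]; ring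

theorem vec_rho {w : V} {c : G} (h : Vec D d Q ρ w c) {v : V} (hv : Q v = 1) :
    Vec D d Q ρ (w - polar Q v w • v) (ρ v * c * ρ v) := by
  obtain ⟨hb, -, hdb⟩ := C.mem v hv
  refine ⟨C.ts.conj_mem hb h.1, fun e => h.2.1 ?_, ⟨fun e => ?_, ?_⟩, fun x hx => ?_⟩
  · have := C.ts.commute_conj hb e
    rwa [rho_twice C hv, hdb.symm.eq, mul_assoc, C.ts.sq _ hb, mul_one] at this
  · have e1 : polar Q v (w - polar Q v w • v) = 0 := by rw [e]; simp
    rw [polar_sub_right, polar_smul_right, polar_self', hv, smul_eq_mul] at e1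
    have e2 : polar Q v w = 0 := by revert e1; generalize polar Q v w = t; revert t; decide
    rw [e2, zero_smul, sub_zero] at e
    exact h.2.2.1.1 e
  · rw [refl_q C hv, h.2.2.1.2]
  · have hx' : Q (x - polar Q v x • v) = 1 := by rw [refl_q C hv, hx]
    have e1 : Commute (ρ v * c * ρ v) (ρ x) ↔ Commute c (ρ (x - polar Q v x • v)) := by
      rw [← C.conj x v hx hv]
      constructor
      · intro e
        have := C.ts.commute_conj hb e
        rwa [rho_twice C hv] at this
      · intro e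
        have := C.ts.commute_conj hb e
        rwa [rho_twice C hv] at this
    rw [e1, h.2.2.2 _ hx', polar_sub_right, polar_smul_right, polar_sub_left, polar_smul_left,
      polar_comm (⇑Q) w v]
    simp only [smul_eq_mul]
    constructor <;> intro e <;> linear_combination e

theorem q_edge {w w' : V} (hw : Sing Q w) (hw' : Sing Q w') (h : polar Q w w' ≠ 0) :
    Q (w + polar Q w w' • w') = 1 := by
  rw [q_add, q_smul, hw.2, hw'.2, polar_smul_right, smul_eq_mul, mul_self_one h]; simp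

theorem T_pos {w w' : V} (h : polar Q w w' = 1) (c : G) :
    T d Q ρ w w' c = d * (ρ (w + w') * c * ρ (w + w')) * d := by
  rw [T, if_pos h, h, one_smul]

theorem T_minus {w w' : V} (h : polar Q w w' = -1) (c : G) :
    T d Q ρ w w' c = ρ (w - w') * c * ρ (w - w') := by
  rw [T, if_neg (by rw [h]; decide), h, neg_one_smul, ← sub_eq_add_neg]

theorem T_neg_right {w w' : V} (_hw : Sing Q w) (_hw' : Sing Q w') (h : polar Q w w' ≠ 0) (c : G) :
    T d Q ρ w (-w') c = d * T d Q ρ w w' c * d := by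
  rcases one_or_neg h with e | e
  · rw [T_pos C e, T_minus C (by rw [polar_neg_right, e]), sub_neg_eq_add, d_twice C]
  · rw [T_minus C e, T_pos C (by rw [polar_neg_right, e, neg_neg]), sub_eq_add_neg]

theorem T_neg_left {w w' : V} (hw : Sing Q w) (hw' : Sing Q w') (h : polar Q w w' ≠ 0) (c : G) :
    T d Q ρ (-w) w' c = d * T d Q ρ w w' c * d := by
  rcases one_or_neg h with e | e
  · have hq := q_edge C hw hw' h
    rw [e, one_smul] at hq
    rw [T_pos C e, T_minus C (by rw [polar_neg_left, e]), d_twice C,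
      show -w - w' = -(w + w') by abel, C.neg _ hq]
  · have hq := q_edge C hw hw' h
    rw [e, neg_one_smul, ← sub_eq_add_neg] at hq
    rw [T_minus C e, T_pos C (by rw [polar_neg_left, e, neg_neg]),
      show -w + w' = -(w - w') by abel, C.neg _ hq]

theorem T_d {w w' : V} (hw : Sing Q w) (hw' : Sing Q w') (h : polar Q w w' ≠ 0) (c : G) :
    T d Q ρ w w' (d * c * d) = d * T d Q ρ w w' c * d := by
  have hq := q_edge C hw hw' h
  rw [T, T]
  split_ifs <;> rw [swap_d C hq]

theorem vec_T {w w' : V} {c : G} (hc : Vec D d Q ρ w c) (hw' : Sing Q w')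
    (h : polar Q w w' ≠ 0) : Vec D d Q ρ w' (T d Q ρ w w' c) := by
  have hq := q_edge C hc.2.2.1 hw' h
  have h1 := vec_rho C hc hq
  have e : w - polar Q (w + polar Q w w' • w') w • (w + polar Q w w' • w') =
      -(polar Q w w' • w') := by
    rw [polar_add_left, polar_self', hc.2.2.1.2, polar_smul_left, polar_comm (⇑Q) w' w,
      smul_eq_mul, mul_self_one h]
    simp
  rw [e] at h1
  have h2 : Vec D d Q ρ w' (ρ (w + polar Q w w' • w') * c * ρ (w + polar Q w w' • w')) := by
    rcases one_or_neg h with h' | h'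
    · simpa [h'] using h1.neg
    · simpa [h'] using h1
  rw [T]
  split_ifs
  · exact vec_d C h2
  · exact h2

theorem T_swap {w w' : V} (hw : Sing Q w) (hw' : Sing Q w') (h : polar Q w w' ≠ 0) (c : G) :
    T d Q ρ w' w (T d Q ρ w w' c) = c := by
  have hq := q_edge C hw hw' h
  rcases one_or_neg h with e | e
  · rw [e, one_smul] at hq
    rw [T_pos C e, T_pos C (by rw [polar_comm, e]), add_comm w' w, swap_d C hq, d_twice C,
      rho_twice C hq]
  · rw [e, neg_one_smul, ← sub_eq_add_neg] at hq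
    rw [T_minus C e, T_minus C (by rw [polar_comm, e]), ← neg_sub w w', C.neg _ hq,
      rho_twice C hq]

theorem commute_T {w w' : V} {c : G} (hc : Vec D d Q ρ w c) (hw' : Sing Q w')
    (h : polar Q w w' ≠ 0) : Commute c (T d Q ρ w w' c) ↔ polar Q w w' = 1 := by
  have hq := q_edge C hc.2.2.1 hw' h
  obtain ⟨hb, hbd, hdb⟩ := C.mem _ hq
  have hcb : ¬ Commute c (ρ (w + polar Q w w' • w')) := by
    rw [hc.2.2.2 _ hq, polar_add_right, polar_self', hc.2.2.1.2, polar_smul_right, smul_eq_mul,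
      mul_self_one h]
    simp
  rw [T]
  split_ifs with e
  · refine iff_of_true ?_ e
    have := (C.ts.f2 hc.1 C.hd hb (fun x => hc.2.1 x.symm) hcb hdb (Ne.symm hbd)).2
    simpa [mul_assoc] using this
  · exact iff_of_false (C.ts.f1 hc.1 hb hcb).2 e

/-- A commuting pair over singular points is an edge. -/
theorem of_commute {w w' : V} {c c' : G} (hc : Vec D d Q ρ w c) (hc' : Vec D d Q ρ w' c')
    (h : Commute c c') (hne : c ≠ c') :
    ∃ w'', (w'' = w' ∨ w'' = -w') ∧ polar Q w w'' = 1 ∧ c' = T d Q ρ w w'' c := by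
  obtain ⟨e1, e2⟩ := C.ts.f2 C.hd hc.1 hc'.1 hc.2.1 hc'.2.1 h hne
  set b := c * c' * d * c' * c with hb
  have hbD : b ∈ D := by
    have : b = c * (c' * d * c') * c := by rw [hb]; group
    rw [this]; exact C.ts.conj_mem hc.1 (C.ts.conj_mem hc'.1 C.hd)
  obtain ⟨v, hv, hρ⟩ := C.surj b hbD e1 e2
  have hcd : c * d * c = d * c * d := C.ts.braid c hc.1 d C.hd fun x => hc.2.1 x.symm
  have hcd' : c' * d * c' = d * c' * d := C.ts.braid c' hc'.1 d C.hd fun x => hc'.2.1 x.symm
  have key : b * c * b = d * c' * d := by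
    calc b * c * b = c * c' * d * c' * (c * c) * (c * c' * d * c' * c) := by rw [hb]; group
      _ = c * c' * d * (c' * c * c') * d * c' * c := by rw [C.ts.sq c hc.1]; group
      _ = c * c' * (d * c * d) * c' * c := by
            rw [show c' * c * c' = c by rw [h.symm.eq, mul_assoc, C.ts.sq c' hc'.1, mul_one]]
            group
      _ = (c * c' * c) * d * (c * c' * c) := by rw [← hcd]; group
      _ = d * c' * d := by
            rw [show c * c' * c = c' by rw [h.eq, mul_assoc, C.ts.sq c hc.1, mul_one], hcd']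
  have h1 := vec_rho C hc hv
  rw [hρ, key] at h1
  set β := polar Q v w with hβ
  have hβ0 : β ≠ 0 := by
    intro e
    have hcb : Commute c b := by
      rw [← hρ, hc.2.2.2 v hv, polar_comm]; exact e
    have hfix : b * c * b = c := by rw [hcb.symm.eq, mul_assoc, C.ts.sq b hbD, mul_one]
    rw [hfix] at key
    have : Commute c (d * c * d) := by
      have h2 : d * c * d = c' := by rw [key, d_twice C]
      rw [h2]; exact h
    exact (C.ts.f1 hc.1 C.hd fun x => hc.2.1 x.symm).2 this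
  refine ⟨-(w - β • v), ?_, ?_, ?_⟩
  · rcases vec_unique C (vec_d C hc') h1 with e | e
    · exact Or.inr (by rw [e])
    · exact Or.inl (by rw [e, neg_neg])
  · rw [polar_neg_right, polar_sub_right, polar_self', hc.2.2.1.2, polar_smul_right,
      polar_comm (⇑Q) w v, ← hβ, smul_eq_mul, mul_self_one hβ0]
    simp
  · rw [T_pos C]
    · have e : ρ (w + -(w - β • v)) = b := by
        rw [show w + -(w - β • v) = β • v by abel, ← hρ]
        rcases one_or_neg hβ0 with e | e
        · rw [e, one_smul]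
        · rw [e, neg_one_smul, C.neg v hv]
      rw [e, key, d_twice C]
    · rw [polar_neg_right, polar_sub_right, polar_self', hc.2.2.1.2, polar_smul_right,
        polar_comm (⇑Q) w v, ← hβ, smul_eq_mul, mul_self_one hβ0]
      simp

/-- Lifting around a triangle whose three values are one. -/
theorem triangle_pos {w₁ w₂ w₃ : V} {c : G} (hc : Vec D d Q ρ w₁ c) (h₂ : Sing Q w₂)
    (h₃ : Sing Q w₃) (p12 : polar Q w₁ w₂ = 1) (p23 : polar Q w₂ w₃ = 1)
    (p13 : polar Q w₁ w₃ = 1) :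
    T d Q ρ w₂ w₃ (T d Q ρ w₁ w₂ c) = T d Q ρ w₁ w₃ c := by
  have q1 := hc.2.2.1.2
  have qu : Q (w₁ + w₂) = 1 := by rw [q_add, q1, h₂.2, p12]; simp
  have qw : Q (w₂ + w₃) = 1 := by rw [q_add, h₂.2, h₃.2, p23]; simp
  obtain ⟨huD, hud, hdu⟩ := C.mem _ qu
  obtain ⟨hwD, hwd, hdw⟩ := C.mem _ qw
  set u := ρ (w₁ + w₂) with hu
  set w := ρ (w₂ + w₃) with hw
  have hcu : ¬ Commute c u := by
    rw [hu, hc.2.2.2 _ qu, polar_add_right, polar_self', q1, p12]; simp
  have hcw : ¬ Commute c w := by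
    rw [hw, hc.2.2.2 _ qw, polar_add_right, p12, p13]; decide
  have hcd : ¬ Commute c d := fun x => hc.2.1 x.symm
  have puw : polar Q (w₁ + w₂) (w₂ + w₃) = 0 := by
    rw [polar_add_left, polar_add_right, polar_add_right, polar_self', h₂.2, p12, p13, p23]
    decide
  have hne : ∀ s : K, s ≠ 0 → w₂ + w₃ ≠ s • (w₁ + w₂) := by
    intro s hs e
    have := congrArg (fun z => polar Q (w₁ + w₂) z) e
    simp only [puw, polar_smul_right, polar_self', qu, smul_eq_mul] at this
    clear e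
    revert this hs; revert s; decide
  have huw : Commute u w := by
    rw [hu, hw, C.comm _ _ qu qw (by simpa using hne 1 one_ne_zero)
      (fun e => hne (-1) (by decide) (by rw [neg_one_smul]; exact e))]
    exact puw
  have hune : u ≠ w := by
    intro e
    rcases C.inj _ _ qu qw e with h | h
    · exact hne 1 one_ne_zero (by rw [one_smul]; exact h)
    · exact hne (-1) (by decide) (by rw [neg_one_smul]; exact h)
  -- the fourth member
  set x := d * u * c * u * d with hx
  set y := w * c * w with hy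
  set t := y * x * y with ht
  have hxD : x ∈ D := by
    have : x = d * (u * c * u) * d := by rw [hx]; group
    rw [this]; exact C.ts.conj_mem C.hd (C.ts.conj_mem huD hc.1)
  have hyD : y ∈ D := C.ts.conj_mem hwD hc.1
  have htD : t ∈ D := C.ts.conj_mem hyD hxD
  have hcx : Commute c x := (C.ts.f2 hc.1 C.hd huD hcd hcu hdu hud.symm).2
  have hxw : ¬ Commute x w := by
    intro e
    apply hcw
    have e1 := C.ts.commute_conj huD (C.ts.commute_conj C.hd e)
    rwa [show d * x * d = u * c * u by rw [hx]; rw [show d * (d * u * c * u * d) * d =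
      (d * d) * (u * c * u) * (d * d) by group, C.ts.sq d C.hd, one_mul, mul_one],
      d_fix C hdw, C.ts.conj_conj huD, huw.eq, mul_assoc, C.ts.sq u huD, mul_one] at e1
  have hycy : y * c * y = w := by
    have hb := C.ts.braid w hwD c hc.1 fun e => hcw e.symm
    calc y * c * y = (c * w * c) * c * (c * w * c) := by rw [hy, hb]
      _ = c * w * (c * c) * (c * w * c) := by group
      _ = c * (w * c * w) * c := by rw [C.ts.sq c hc.1]; group
      _ = (c * c) * w * (c * c) := by rw [hb]; group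
      _ = w := by rw [C.ts.sq c hc.1, one_mul, mul_one]
  have htct : t * c * t = w * (u * (d * c * d) * u) * w := by
    have hb := C.ts.braid x hxD w hwD hxw
    calc t * c * t = y * x * (y * c * y) * x * y := by rw [ht]; group
      _ = y * (x * w * x) * y := by rw [hycy]; group
      _ = (w * c * w) * (w * x * w) * (w * c * w) := by rw [hy, hb]
      _ = w * c * (w * w) * x * (w * w) * c * w := by group
      _ = w * (c * x * c) * w := by rw [C.ts.sq w hwD]; group
      _ = w * x * w := by rw [hcx.eq, mul_assoc x c c, C.ts.sq c hc.1, mul_one]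
      _ = w * (u * (d * c * d) * u) * w := by
            rw [hx, show d * u * c * u * d = d * (u * c * u) * d by group]
            rw [show d * (u * c * u) * d = u * (d * c * d) * u from (swap_d C qu c).symm]
  have htd : Commute d t := by
    have h1 : Commute c (u * w * c * w * u) := (C.ts.f2 hc.1 huD hwD hcu hcw huw hune).2
    have h2 : Commute (u * c * u) (w * c * w) := by
      have := C.ts.commute_conj huD h1
      rwa [show u * (u * w * c * w * u) * u = (u * u) * (w * c * w) * (u * u) by group,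
        C.ts.sq u huD, one_mul, mul_one] at this
    have h3 : Commute x (d * y * d) := by
      have := C.ts.commute_conj C.hd h2
      rwa [show d * (u * c * u) * d = x by rw [hx]; group, ← hy] at this
    have hdy : ¬ Commute d y := fun e => hc.2.1 (by
      have := C.ts.commute_conj hwD e
      rwa [hy, C.ts.conj_conj hwD, hdw.symm.eq, mul_assoc, C.ts.sq w hwD, mul_one] at this)
    rw [← C.ts.braid y hyD d C.hd fun e => hdy e.symm] at h3
    have h4 := C.ts.commute_conj hyD h3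
    rw [C.ts.conj_conj hyD, ← ht] at h4
    exact h4.symm
  have hwd' : ∀ z : G, w * (u * z * u) * w = w * u * z * u * w := fun z => by group
  have htd' : t ≠ d := by
    intro e
    rw [e] at htct
    obtain ⟨h1, -⟩ := C.ts.f2 (C.ts.conj_mem C.hd hc.1) hwD huD
      (fun e => hcw ((commute_dconj C hdw).mp e)) (fun e => hcu ((commute_dconj C hdu).mp e))
      huw.symm hune.symm
    exact h1 (by rw [← hwd']; exact htct.symm)
  have hct : ¬ Commute c t := by
    intro e
    have hfix : t * c * t = c := by rw [e.symm.eq, mul_assoc, C.ts.sq t htD, mul_one]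
    rw [hfix] at htct
    obtain ⟨h1, -⟩ := C.ts.f3 hc.1 hwD huD C.hd hcw hcu hcd huw.symm hdw.symm hdu.symm hud
    exact h1 (by
      rw [show w * u * d * c * d * u * w = w * (u * (d * c * d) * u) * w by group]
      exact htct.symm)
  obtain ⟨v, hv, hρ⟩ := C.surj t htD htd' htd
  -- the goal
  have hgoal : T d Q ρ w₂ w₃ (T d Q ρ w₁ w₂ c) = w * (u * c * u) * w := by
    rw [T_pos C p12, T_pos C p23, ← hu, ← hw, swap_d C qw, d_twice C]
  have hV2 := vec_d C (vec_T C (vec_T C hc h₂ (by rw [p12]; exact one_ne_zero)) h₃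
    (by rw [p23]; exact one_ne_zero))
  have h5 : t * c * t = d * (w * (u * c * u) * w) * d := by
    rw [htct, swap_d C qu, swap_d C qw]
  rw [hgoal, ← h5] at hV2
  have hV1 := vec_rho C hc hv
  rw [hρ] at hV1
  set γ := polar Q v w₁ with hγ
  have hγ0 : γ ≠ 0 := fun e => hct (by
    rw [← hρ, hc.2.2.2 v hv, polar_comm]; exact e)
  have hv' : v = γ • (w₁ + w₃) := by
    rcases vec_unique C hV1 hV2 with e | e
    · have h6 := congrArg (fun z => polar Q w₁ z) e
      simp only [polar_sub_right, polar_self', q1, polar_smul_right, polar_comm (⇑Q) w₁ v, ← hγ,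
        p13, smul_eq_mul, mul_self_one hγ0] at h6
      exact absurd h6 (by decide)
    · rw [e, show w₁ + -(w₁ - γ • v) = γ • v by abel, smul_smul, mul_self_one hγ0, one_smul]
  have hq13 : Q (w₁ + w₃) = 1 := by rw [q_add, q1, h₃.2, p13]; simp
  have htρ : ρ (w₁ + w₃) = t := by
    rw [← hρ, hv']
    rcases one_or_neg hγ0 with e | e
    · rw [e, one_smul]
    · rw [e, neg_one_smul, C.neg _ hq13]
  rw [hgoal, T_pos C p13, htρ, h5, d_twice C]

/-- Lifting around a triangle with one value `-1`. -/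
theorem triangle_minus {w₁ w₂ w₃ : V} {c : G} (hc : Vec D d Q ρ w₁ c) (h₂ : Sing Q w₂)
    (h₃ : Sing Q w₃) (p12 : polar Q w₁ w₂ = 1) (p23 : polar Q w₂ w₃ = 1)
    (p13 : polar Q w₁ w₃ = -1) :
    T d Q ρ w₂ w₃ (T d Q ρ w₁ w₂ c) = T d Q ρ w₁ w₃ c := by
  have q1 := hc.2.2.1.2
  have qu : Q (w₁ + w₂) = 1 := by rw [q_add, q1, h₂.2, p12]; simp
  have qw : Q (w₂ + w₃) = 1 := by rw [q_add, h₂.2, h₃.2, p23]; simp
  have q13 : Q (w₁ - w₃) = 1 := by rw [q_sub, q1, h₃.2, p13]; simp
  have hp : polar Q (w₁ + w₂) (w₂ + w₃) = 1 := by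
    rw [polar_add_left, polar_add_right, polar_add_right, polar_self', h₂.2, p12, p13, p23]
    decide
  have hne : ∀ s : K, s ≠ 0 → w₁ + w₂ ≠ s • (w₂ + w₃) := by
    intro s hs e
    have := congrArg (fun z => polar Q w₁ z) e
    simp only [polar_add_right, polar_self', q1, p12, p13, polar_smul_right, smul_eq_mul] at this
    clear e
    revert this hs; revert s; decide
  have huw : ¬ Commute (ρ (w₂ + w₃)) (ρ (w₁ + w₂)) := by
    rw [C.comm _ _ qw qu (by simpa using hne 1 one_ne_zero)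
      (fun e => hne (-1) (by decide) (by rw [neg_one_smul]; exact e)),
      polar_comm, hp]
    exact one_ne_zero
  have e13 : ρ (w₁ + w₂) * ρ (w₂ + w₃) * ρ (w₁ + w₂) = ρ (w₁ - w₃) := by
    rw [C.conj _ _ qw qu, hp, one_smul, show w₂ + w₃ - (w₁ + w₂) = -(w₁ - w₃) by abel, C.neg _ q13]
  have hcw : Commute c (ρ (w₂ + w₃)) := by
    rw [hc.2.2.2 _ qw, polar_add_right, p12, p13]; simp
  rw [T_pos C p12, T_pos C p23, T_minus C p13, swap_d C qw, d_twice C, ← e13,
    ← C.ts.braid _ (C.mem _ qw).1 _ (C.mem _ qu).1 huw]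
  set u := ρ (w₁ + w₂)
  set w := ρ (w₂ + w₃)
  calc w * (u * c * u) * w = w * u * c * u * w := by group
    _ = w * u * (w * c * w) * u * w := by
          rw [show w * c * w = c by rw [hcw.symm.eq, mul_assoc, C.ts.sq w (C.mem _ qw).1, mul_one]]
    _ = w * u * w * c * (w * u * w) := by group

/-- Lifting around a triangle. -/
theorem triangle {w₁ w₂ w₃ : V} {c : G} (hc : Vec D d Q ρ w₁ c) (h₂ : Sing Q w₂)
    (h₃ : Sing Q w₃) (p12 : polar Q w₁ w₂ ≠ 0) (p23 : polar Q w₂ w₃ ≠ 0)
    (p13 : polar Q w₁ w₃ ≠ 0) :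
    T d Q ρ w₂ w₃ (T d Q ρ w₁ w₂ c) = T d Q ρ w₁ w₃ c := by
  have h1 := hc.2.2.1
  have base : ∀ x y : V, Sing Q x → Sing Q y → polar Q w₁ x = 1 → polar Q x y = 1 →
      polar Q w₁ y ≠ 0 → T d Q ρ x y (T d Q ρ w₁ x c) = T d Q ρ w₁ y c := fun x y hx hy a b e =>
    (one_or_neg e).elim (triangle_pos C hc hx hy a b) (triangle_minus C hc hx hy a b)
  have step : ∀ x y : V, Sing Q x → Sing Q y → polar Q w₁ x = 1 → polar Q x y ≠ 0 →
      polar Q w₁ y ≠ 0 → T d Q ρ x y (T d Q ρ w₁ x c) = T d Q ρ w₁ y c := by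
    intro x y hx hy a b e
    rcases one_or_neg b with b1 | b1
    · exact base x y hx hy a b1 e
    · have := base x (-y) hx hy.neg a (by rw [polar_neg_right, b1, neg_neg])
        (by rw [polar_neg_right]; exact neg_ne_zero.mpr e)
      rw [T_neg_right C hx hy b, T_neg_right C h1 hy e] at this
      have h := congrArg (fun z => d * z * d) this
      simpa only [d_twice C] using h
  rcases one_or_neg p12 with a | a
  · exact step w₂ w₃ h₂ h₃ a p23 p13
  · have := step (-w₂) w₃ h₂.neg h₃ (by rw [polar_neg_right, a, neg_neg])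
      (by rw [polar_neg_left]; exact neg_ne_zero.mpr p23) p13
    rw [T_neg_left C h₂ h₃ p23, T_neg_right C h1 h₂ p12, T_d C h₂ h₃ p23, d_twice C] at this
    exact this

end

/-! ### The lift -/

/-- A chosen mediator. -/
noncomputable def med (Q : QuadraticForm K V) (w₀ w : V) : V :=
  Classical.epsilon fun s => Sing Q s ∧ polar Q w₀ s ≠ 0 ∧ polar Q w s ≠ 0

/-- The member over `w`, starting from `c₀` over `w₀`. -/
noncomputable def L (d : G) (Q : QuadraticForm K V) (ρ : V → G) (w₀ : V) (c₀ : G) (w : V) : G :=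
  T d Q ρ (med Q w₀ w) w (T d Q ρ w₀ (med Q w₀ w) c₀)

section

variable {D : Set G} {d : G} {Q : QuadraticForm K V} {ρ : V → G} (C : Chart D d Q ρ)
  {w₀ : V} {c₀ : G} (h₀ : Vec D d Q ρ w₀ c₀)
include C h₀

theorem med_spec {w : V} (hw : Sing Q w) :
    Sing Q (med Q w₀ w) ∧ polar Q w₀ (med Q w₀ w) ≠ 0 ∧ polar Q w (med Q w₀ w) ≠ 0 :=
  Classical.epsilon_spec (mediator_exists C.reg C.dim h₀.2.2.1 hw)

theorem L_eq {w s : V} (hw : Sing Q w) (hs : Sing Q s) (a : polar Q w₀ s ≠ 0)
    (b : polar Q w s ≠ 0) : L d Q ρ w₀ c₀ w = T d Q ρ s w (T d Q ρ w₀ s c₀) := by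
  obtain ⟨hm, a', b'⟩ := med_spec C h₀ hw
  unfold L
  set s' := med Q w₀ w
  have bs : polar Q s w ≠ 0 := by rw [polar_comm]; exact b
  have bs' : polar Q s' w ≠ 0 := by rw [polar_comm]; exact b'
  have go : ∀ x y : V, Sing Q x → Sing Q y → polar Q w₀ x ≠ 0 → polar Q w₀ y ≠ 0 →
      polar Q x w ≠ 0 → polar Q y w ≠ 0 → polar Q x y ≠ 0 →
      T d Q ρ x w (T d Q ρ w₀ x c₀) = T d Q ρ y w (T d Q ρ w₀ y c₀) := by
    intro x y hx hy ax ay bx bY hxy
    rw [← triangle C (vec_T C h₀ hx ax) hy hw hxy bY bx, triangle C h₀ hx hy ax hxy ay]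
  by_cases hss : polar Q s' s = 0
  · by_cases e : s = s'
    · rw [e]
    by_cases e' : s = -s'
    · rw [e', T_neg_left C hm hw bs', T_neg_right C h₀.2.2.1 hm a', T_d C hm hw bs', d_twice C]
    obtain ⟨m, hm', am, bm, sm, sm'⟩ :=
      mediator_four C.reg C.dim (a := w₀) (b := w) hm hs hss e e' a' a b'
    rw [go s' m hm hm' a' am bs' (by rw [polar_comm]; exact bm) sm,
      ← go s m hs hm' a am bs (by rw [polar_comm]; exact bm) sm']
  · exact go s' s hm hs a' a bs' bs hss

theorem L_vec {w : V} (hw : Sing Q w) : Vec D d Q ρ w (L d Q ρ w₀ c₀ w) := by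
  obtain ⟨hm, a, b⟩ := med_spec C h₀ hw
  exact vec_T C (vec_T C h₀ hm a) hw (by rw [polar_comm]; exact b)

theorem L_neg {w : V} (hw : Sing Q w) :
    L d Q ρ w₀ c₀ (-w) = d * L d Q ρ w₀ c₀ w * d := by
  obtain ⟨hm, a, b⟩ := med_spec C h₀ hw
  rw [L_eq C h₀ hw.neg hm a (by rw [polar_neg_left]; exact neg_ne_zero.mpr b),
    T_neg_right C hm hw (by rw [polar_comm]; exact b), L_eq C h₀ hw hm a b]

theorem L_base : L d Q ρ w₀ c₀ w₀ = c₀ := by
  obtain ⟨hm, a, b⟩ := med_spec C h₀ h₀.2.2.1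
  rw [L, T_swap C h₀.2.2.1 hm a]

theorem L_edge {w w' : V} (hw : Sing Q w) (hw' : Sing Q w') (h : polar Q w w' ≠ 0) :
    L d Q ρ w₀ c₀ w' = T d Q ρ w w' (L d Q ρ w₀ c₀ w) := by
  obtain ⟨m, hm, a, b, b'⟩ := mediator_three C.reg C.dim h₀.2.2.1 hw hw' h
  rw [L_eq C h₀ hw hm a b, L_eq C h₀ hw' hm a b',
    triangle C (vec_T C h₀ hm a) hw hw' (by rw [polar_comm]; exact b) h
      (by rw [polar_comm]; exact b')]

theorem L_inj {w w' : V} (hw : Sing Q w) (hw' : Sing Q w')
    (h : L d Q ρ w₀ c₀ w = L d Q ρ w₀ c₀ w') : w' = w := by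
  have h1 := L_vec C h₀ hw'
  rw [← h] at h1
  rcases vec_unique C (L_vec C h₀ hw) h1 with e | e
  · exact e
  · exfalso
    rw [e, L_neg C h₀ hw] at h
    have hv := L_vec C h₀ hw
    exact (C.ts.f1 hv.1 C.hd fun x => hv.2.1 x.symm).1 h.symm

theorem commute_L {w w' : V} (hw : Sing Q w) (hw' : Sing Q w') (hne : w' ≠ w) :
    Commute (L d Q ρ w₀ c₀ w) (L d Q ρ w₀ c₀ w') ↔ polar Q w w' = 1 := by
  have hv := L_vec C h₀ hw
  constructor
  · intro h
    obtain ⟨w'', e, h1, h2⟩ := of_commute C hv (L_vec C h₀ hw') h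
      (fun e => hne (L_inj C h₀ hw hw' e))
    rcases e with rfl | rfl
    · exact h1
    · exfalso
      have h3 := L_edge C h₀ hw hw'.neg (by rw [h1]; exact one_ne_zero)
      rw [← h2] at h3
      exact hw'.1 (by
        have := L_inj C h₀ hw'.neg hw' h3
        have h4 : (2 : K) • w' = 0 := by rw [two_smul]; exact eq_neg_iff_add_eq_zero.mp this
        exact absurd ((smul_eq_zero.mp h4).resolve_left (by decide)) hw'.1)
  · intro h
    rw [L_edge C h₀ hw hw' (by rw [h]; exact one_ne_zero)]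
    exact (commute_T C hv hw' (by rw [h]; exact one_ne_zero)).mpr h

/-- `c₀` reflects the members over singular points among the three kinds. -/
theorem conj_L {w : V} (hw : Sing Q w) :
    c₀ * L d Q ρ w₀ c₀ w * c₀ = d ∨
      (∃ v, Q v = 1 ∧ c₀ * L d Q ρ w₀ c₀ w * c₀ = ρ v) ∨
      ∃ u, Sing Q u ∧ c₀ * L d Q ρ w₀ c₀ w * c₀ = L d Q ρ w₀ c₀ u := by
  have hv := L_vec C h₀ hw
  set e := L d Q ρ w₀ c₀ w with he
  by_cases hce : Commute c₀ e
  · exact Or.inr (Or.inr ⟨w, hw, by rw [hce.eq, mul_assoc, C.ts.sq c₀ h₀.1, mul_one]⟩)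
  have hxD : c₀ * e * c₀ ∈ D := C.ts.conj_mem h₀.1 hv.1
  by_cases hdx : Commute d (c₀ * e * c₀)
  · by_cases hd' : c₀ * e * c₀ = d
    · exact Or.inl hd'
    · obtain ⟨v, hq, hρ⟩ := C.surj _ hxD hd' hdx
      exact Or.inr (Or.inl ⟨v, hq, hρ.symm⟩)
  obtain ⟨r, hr⟩ := exists_vec C hxD hdx
  have hne : w ≠ w₀ := fun x => hce (by rw [he, x, L_base C h₀])
  rcases eq_or_ne (polar Q w₀ w) 0 with hp | hp
  · by_cases hn : w = -w₀
    · refine Or.inl ?_
      rw [he, hn, L_neg C h₀ h₀.2.2.1, L_base C h₀,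
        ← C.ts.braid c₀ h₀.1 d C.hd fun x => h₀.2.1 x.symm, C.ts.conj_conj h₀.1]
    obtain ⟨m, hm, h1, h2⟩ := mediator C.reg h₀.2.2.1 hw hp hne hn (α := 1) (β := 1)
      one_ne_zero one_ne_zero
    set f := L d Q ρ w₀ c₀ m
    have hf : Commute c₀ f := by
      have := (commute_L C h₀ h₀.2.2.1 hm fun x => one_ne_zero (α := K)
        (by rw [← h1, x, polar_self', h₀.2.2.1.2, mul_zero])).mpr h1
      rwa [L_base C h₀] at this
    have hfe : Commute e f := (commute_L C h₀ hw hm fun x => one_ne_zero (α := K)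
        (by rw [← h2, x, polar_self', hw.2, mul_zero])).mpr h2
    have hfx : Commute f (c₀ * e * c₀) := (hf.symm.mul_right hfe.symm).mul_right hf.symm
    obtain ⟨u, hu, h3, h4⟩ := of_commute C (L_vec C h₀ hm) hr hfx fun x => hce (by
      have h5 := congrArg (fun z => c₀ * z * c₀) x
      simp only [C.ts.conj_conj h₀.1] at h5
      rw [hf.eq, mul_assoc, C.ts.sq c₀ h₀.1, mul_one] at h5
      exact h5 ▸ hf)
    have hus : Sing Q u := by
      rcases hu with e | e <;> rw [e]
      exacts [hr.2.2.1, hr.2.2.1.neg]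
    exact Or.inr (Or.inr ⟨u, hus, by rw [h4, ← L_edge C h₀ hm hus (by rw [h3]; exact one_ne_zero)]⟩)
  · rcases one_or_neg hp with h1 | h1
    · exfalso
      apply hce
      have := (commute_L C h₀ h₀.2.2.1 hw hne).mpr h1
      rwa [L_base C h₀] at this
    · have hq : Q (w₀ - w) = 1 := by rw [q_sub, h₀.2.2.1.2, hw.2, h1]; simp
      have hcb : ¬ Commute c₀ (ρ (w₀ - w)) := by
        rw [h₀.2.2.2 _ hq, polar_sub_right, polar_self', h₀.2.2.1.2, h1]; simp
      refine Or.inr (Or.inl ⟨w₀ - w, hq, ?_⟩)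
      rw [he, L_edge C h₀ h₀.2.2.1 hw hp, L_base C h₀, T_minus C h1,
        ← C.ts.braid c₀ h₀.1 _ (C.mem _ hq).1 hcb, C.ts.conj_conj h₀.1]

/-- Every member is of one of the three kinds. -/
theorem cover {y : G} (hy : y ∈ D) :
    y = d ∨ (∃ v, Q v = 1 ∧ ρ v = y) ∨ ∃ w, Sing Q w ∧ L d Q ρ w₀ c₀ w = y := by
  set S : Set G := {z | z = d ∨ (∃ v, Q v = 1 ∧ ρ v = z) ∨ ∃ w, Sing Q w ∧ L d Q ρ w₀ c₀ w = z}
  have hc0 : c₀ ∈ S := Or.inr (Or.inr ⟨w₀, h₀.2.2.1, L_base C h₀⟩)
  have near : ∀ z ∈ D, Commute d z → z ∈ S := fun z hz h => by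
    by_cases e : z = d
    · exact Or.inl e
    · exact Or.inr (Or.inl (C.surj z hz e h))
  have hdS : ∀ z ∈ S, d * z * d ∈ S := by
    rintro z (rfl | ⟨v, hv, rfl⟩ | ⟨w, hw, rfl⟩)
    · exact Or.inl (by rw [C.ts.sq _ C.hd, one_mul])
    · exact Or.inr (Or.inl ⟨v, hv, (d_fix C (C.mem v hv).2.2).symm⟩)
    · exact Or.inr (Or.inr ⟨-w, hw.neg, L_neg C h₀ hw⟩)
  have hρS : ∀ x, Q x = 1 → ∀ z ∈ S, ρ x * z * ρ x ∈ S := by
    intro x hx z hz
    obtain ⟨hxD, -, hdx⟩ := C.mem x hx
    rcases hz with rfl | ⟨v, hv, rfl⟩ | ⟨w, hw, rfl⟩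
    · exact Or.inl (by rw [hdx.symm.eq, mul_assoc, C.ts.sq _ hxD, mul_one])
    · refine Or.inr (Or.inl ⟨v - polar Q x v • x, by rw [refl_q C hx, hv], (C.conj v x hv hx).symm⟩)
    · have hv := L_vec C h₀ hw
      by_cases hp : polar Q w x = 0
      · refine Or.inr (Or.inr ⟨w, hw, ?_⟩)
        rw [((hv.2.2.2 x hx).mpr hp).symm.eq, mul_assoc, C.ts.sq _ hxD, mul_one]
      · set β := polar Q w x with hβ
        have hs : Sing Q (-(w - β • x)) := by
          have := (vec_rho C hv hx).2.2.1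
          rw [polar_comm (⇑Q) x w] at this
          exact this.neg
        have h1 : polar Q w (-(w - β • x)) = 1 := by
          rw [polar_neg_right, polar_sub_right, polar_self', hw.2, polar_smul_right, ← hβ,
            smul_eq_mul, mul_self_one hp]
          simp
        have h2 : ρ x * L d Q ρ w₀ c₀ w * ρ x = d * L d Q ρ w₀ c₀ (-(w - β • x)) * d := by
          rw [L_edge C h₀ hw hs (by rw [h1]; exact one_ne_zero), T_pos C h1, d_twice C,
            show w + -(w - β • x) = β • x by abel]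
          rcases one_or_neg hp with e | e
          · rw [e, one_smul]
          · rw [e, neg_one_smul, C.neg x hx]
        rw [h2]
        exact hdS _ (Or.inr (Or.inr ⟨_, hs, rfl⟩))
  have hcS : ∀ z ∈ S, c₀ * z * c₀ ∈ S := by
    rintro z (rfl | ⟨v, hv, rfl⟩ | ⟨w, hw, rfl⟩)
    · rw [C.ts.braid c₀ h₀.1 _ C.hd fun x => h₀.2.1 x.symm]
      exact hdS _ hc0
    · by_cases e : Commute c₀ (ρ v)
      · exact Or.inr (Or.inl ⟨v, hv, by rw [e.eq, mul_assoc, C.ts.sq _ h₀.1, mul_one]⟩)
      · rw [C.ts.braid c₀ h₀.1 _ (C.mem v hv).1 e]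
        exact hρS v hv _ hc0
    · rcases conj_L C h₀ hw with h | ⟨v, hv, h⟩ | ⟨u, hu, h⟩
      exacts [Or.inl h, Or.inr (Or.inl ⟨v, hv, h.symm⟩), Or.inr (Or.inr ⟨u, hu, h.symm⟩)]
  have hgen : ∀ g ∈ insert c₀ {y | y ∈ D ∧ Commute d y}, g ∈ D ∧ ∀ z ∈ S, g * z * g ∈ S := by
    rintro g (rfl | ⟨hg, hdg⟩)
    · exact ⟨h₀.1, hcS⟩
    · refine ⟨hg, ?_⟩
      rcases near g hg hdg with rfl | ⟨v, hv, rfl⟩ | ⟨w, hw, rfl⟩
      · exact hdS
      · exact hρS v hv
      · exact absurd hdg (L_vec C h₀ hw).2.1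
  have hall : ∀ g : G, ∀ z ∈ S, g * z * g⁻¹ ∈ S := by
    intro g
    have hg : g ∈ Subgroup.closure (insert c₀ {y | y ∈ D ∧ Commute d y}) := by
      rw [C.gen c₀ h₀.1 h₀.2.1]; exact Subgroup.mem_top g
    suffices h : ∀ z ∈ S, g * z * g⁻¹ ∈ S ∧ g⁻¹ * z * g ∈ S from fun z hz => (h z hz).1
    induction hg using Subgroup.closure_induction with
    | mem x hx =>
      intro z hz
      have := (hgen x hx).2 z hz
      rw [C.ts.inv_self (hgen x hx).1]
      exact ⟨this, this⟩
    | one => intro z hz; simpa using hz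
    | mul a b _ _ ha hb =>
      intro z hz
      refine ⟨?_, ?_⟩
      · rw [show a * b * z * (a * b)⁻¹ = a * (b * z * b⁻¹) * a⁻¹ by group]
        exact (ha _ (hb z hz).1).1
      · rw [show (a * b)⁻¹ * z * (a * b) = b⁻¹ * (a⁻¹ * z * a) * b by group]
        exact (hb _ (ha z hz).2).2
    | inv a _ ha => intro z hz; rw [inv_inv]; exact (ha z hz).symm
  by_cases h : Commute d y
  · exact near y hy h
  · have h1 := hall y d (Or.inl rfl)
    rw [C.ts.inv_self hy, C.ts.braid y hy d C.hd fun x => h x.symm] at h1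
    have h2 := hdS _ h1
    rwa [d_twice C] at h2

end

end Cfsg.Agent.FischerOrthLift47
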