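import Cfsg.Agent.Lib.FischerOrthPerp94

/-!
# The members as the points of an orthogonal space of one dimension more
-/

set_option autoImplicit false
set_option linter.unusedSectionVars false

namespace Cfsg.Agent.FischerOrth94

open QuadraticMap Cfsg.Agent

variable {G : Type*} [Group G] {D : Set G} {m : ℕ} {Q : QuadraticForm (ZMod 3) (Vec m)}

/-- The orthogonal sum of a line of norm one and `Q`. -/
def extForm (Q : QuadraticForm (ZMod 3) (Vec m)) : QuadraticForm (ZMod 3) (Vec (m + 1)) :=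
  (QuadraticMap.sq (R := ZMod 3) (A := ZMod 3)).comp
      (LinearMap.proj (φ := fun _ : Fin (m + 1) => ZMod 3) 0) +
    Q.comp (LinearMap.funLeft (ZMod 3) (ZMod 3) Fin.succ)

theorem extForm_cons (k : ZMod 3) (v : Vec m) : extForm Q (Fin.cons k v) = k * k + Q v := by
  have h : LinearMap.funLeft (ZMod 3) (ZMod 3) Fin.succ (Fin.cons k v : Vec (m + 1)) = v := by
    funext i
    simp [LinearMap.funLeft_apply]
  simp [extForm, h, pow_two]

theorem cons_add (k l : ZMod 3) (v t : Vec m) :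
    (Fin.cons k v + Fin.cons l t : Vec (m + 1)) = Fin.cons (k + l) (v + t) := by
  funext i
  cases i using Fin.cases <;> simp

theorem cons_smul (c k : ZMod 3) (v : Vec m) :
    (c • Fin.cons k v : Vec (m + 1)) = Fin.cons (c * k) (c • v) := by
  funext i
  cases i using Fin.cases <;> simp

theorem polar_cons (k l : ZMod 3) (v t : Vec m) :
    polar (extForm Q) (Fin.cons k v) (Fin.cons l t) = 2 * k * l + polar Q v t := by
  simp only [QuadraticMap.polar, cons_add, extForm_cons]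
  ring

theorem extForm_nondegenerate (hQ : (polarBilin Q).Nondegenerate) :
    (polarBilin (extForm Q)).Nondegenerate := by
  have hl : ∀ x : Vec (m + 1), (∀ y, polar (extForm Q) x y = 0) → x = 0 := by
    intro x hx
    rw [← Fin.cons_self_tail x] at hx ⊢
    have h0 : x 0 = 0 := by
      have := hx (Fin.cons 1 0)
      rw [polar_cons, polar_zero_right, add_zero, mul_one] at this
      exact (mul_eq_zero.mp this).resolve_left (by decide)
    have ht : Fin.tail x = 0 := sep hQ fun t => by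
      have := hx (Fin.cons 0 t)
      rwa [polar_cons, mul_zero, zero_add] at this
    rw [h0, ht]
    funext i
    cases i using Fin.cases <;> simp
  exact ⟨hl, fun y hy => hl y fun x => (polar_comm (⇑(extForm Q)) y x).trans (hy x)⟩

theorem Rep.sign {d w : G} {cd : Chart D d Q} {cw : Chart D w Q} {L : Link cd cw} {a : G}
    {k e : ZMod 3} {v : Vec m} (h : Rep L a k v) (he : e * e = 1) : Rep L a (e * k) (e • v) := by
  obtain ⟨ha, v', hv, hp⟩ := h
  refine ⟨ha, e • v', hv.smul e, ?_⟩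
  rw [← smul_smul, ← smul_add]
  exact hp.trans (PM.smul he _).symm

namespace Setting

variable (S : Setting D Q) (hconn : (Cfsg.commutingGraph D).Connected) {d : G} (hd : d ∈ D)

open Classical in
/-- A vector of a member not commuting with `d`. -/
noncomputable def vec (y : G) : Vec m :=
  if h : ∃ u, Q u = 0 ∧ u ≠ 0 ∧ S.Good hd y u then h.choose else 0

open Classical in
/-- The relative sign of two members not commuting with `d`. -/
noncomputable def rel (a b : G) : ZMod 3 :=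
  if Commute a b then polar Q (S.vec hd a) (S.vec hd b) else -polar Q (S.vec hd a) (S.vec hd b)

include S hconn hd

theorem vec_spec {y : G} (hy : y ∈ D) (hdy : ¬ Commute d y) :
    Q (S.vec hd y) = 0 ∧ S.vec hd y ≠ 0 ∧ S.Good hd y (S.vec hd y) := by
  have h := S.exists_vector hd hconn hy hdy
  rw [vec, dif_pos h]
  exact h.choose_spec

theorem mem_Dd {w y : G} (hw : w ∈ Dd D d) (hy : y ∈ D) (hdy : ¬ Commute d y) (hwy : Commute w y) :
    y ∈ Dd D w :=
  ⟨hy, fun h => hdy (h ▸ hw.2.2), hwy⟩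

theorem commute_of_perp {w y : G} (hw : w ∈ Dd D d) (hy : y ∈ D) (hdy : ¬ Commute d y)
    (h : polar Q (S.vec hd y) ((S.C d hd).f w) = 0) : Commute w y :=
  (((S.vec_spec hconn hd hy hdy).2.2.1 w hw).mpr h).symm

theorem rel_eq {w a b : G} (hw : w ∈ Dd D d) (ha : a ∈ D) (hda : ¬ Commute d a) (hb : b ∈ D)
    (hdb : ¬ Commute d b) (hab : polar Q (S.vec hd a) (S.vec hd b) ≠ 0) {ea eb : ZMod 3}
    (hea : ea * ea = 1) (heb : eb * eb = 1)
    (h1 : Rep (S.link hd hw) a 1 (ea • S.vec hd a)) (h2 : Rep (S.link hd hw) b 1 (eb • S.vec hd b)) :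
    S.rel hd a b = ea * eb := by
  have hne : a ≠ b := by
    rintro rfl
    apply hab
    rw [pol_self, (S.vec_spec hconn hd ha hda).1, mul_zero]
  have := Rep.commute_iff S.hQ S.hm hd hw h1 h2 hne
  rw [polar_smul_left, polar_smul_right, smul_eq_mul, smul_eq_mul] at this
  unfold rel
  split_ifs with h
  · have h0 := this.mp h
    revert hea heb hab h0
    generalize polar Q (S.vec hd a) (S.vec hd b) = p
    revert ea eb p
    intro ea eb p
    intros
    have key : ∀ ea eb p : ZMod 3, ea * ea = 1 → eb * eb = 1 → p ≠ 0 →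
        2 * 1 * 1 + ea * (eb * p) = 0 → p = ea * eb := by decide
    exact key _ _ _ (by assumption) (by assumption) (by assumption) (by assumption)
  · have key : ∀ ea eb p : ZMod 3, ea * ea = 1 → eb * eb = 1 → p ≠ 0 →
        2 * 1 * 1 + ea * (eb * p) ≠ 0 → -p = ea * eb := by decide
    exact key _ _ _ hea heb hab fun h0 => h (this.mpr h0)

theorem rel_sq {a b : G} (hab : polar Q (S.vec hd a) (S.vec hd b) ≠ 0) :
    S.rel hd a b * S.rel hd a b = 1 := by
  have key : ∀ p : ZMod 3, p ≠ 0 → p * p = 1 ∧ -p * -p = 1 := by decide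
  unfold rel
  split_ifs
  · exact (key _ hab).1
  · exact (key _ hab).2

theorem rel_symm (a b : G) : S.rel hd a b = S.rel hd b a := by
  unfold rel
  rw [pol_comm]
  by_cases h : Commute a b
  · rw [if_pos h, if_pos h.symm]
  · rw [if_neg h, if_neg fun h' => h h'.symm]

theorem triangle {a b c : G} (ha : a ∈ D) (hda : ¬ Commute d a) (hb : b ∈ D) (hdb : ¬ Commute d b)
    (hc : c ∈ D) (hdc : ¬ Commute d c) (hab : polar Q (S.vec hd a) (S.vec hd b) ≠ 0)
    (hac : polar Q (S.vec hd a) (S.vec hd c) ≠ 0) (hbc : polar Q (S.vec hd b) (S.vec hd c) ≠ 0) :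
    S.rel hd a b * S.rel hd a c = S.rel hd b c := by
  obtain ⟨ha1, -, -⟩ := S.vec_spec hconn hd ha hda
  obtain ⟨hb1, -, -⟩ := S.vec_spec hconn hd hb hdb
  obtain ⟨hc1, -, -⟩ := S.vec_spec hconn hd hc hdc
  obtain ⟨v, hv, hav, hbv, hcv⟩ :=
    exists_point_triangle S.hQ (by have := S.hm; omega) ha1 hb1 hc1 hab hac hbc
  obtain ⟨w, hw, hwv⟩ := (S.C d hd).surj v hv
  have hwa := S.commute_of_perp hconn hd hw ha hda ((hwv.polar_eq_zero' _).mpr hav)
  have hwb := S.commute_of_perp hconn hd hw hb hdb ((hwv.polar_eq_zero' _).mpr hbv)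
  have hwc := S.commute_of_perp hconn hd hw hc hdc ((hwv.polar_eq_zero' _).mpr hcv)
  obtain ⟨ea, hea, h1⟩ := (S.vec_spec hconn hd ha hda).2.2.2 w hw hwa
  obtain ⟨eb, heb, h2⟩ := (S.vec_spec hconn hd hb hdb).2.2.2 w hw hwb
  obtain ⟨ec, hec, h3⟩ := (S.vec_spec hconn hd hc hdc).2.2.2 w hw hwc
  rw [S.rel_eq hconn hd hw ha hda hb hdb hab hea heb h1 h2,
    S.rel_eq hconn hd hw ha hda hc hdc hac hea hec h1 h3,
    S.rel_eq hconn hd hw hb hdb hc hdc hbc heb hec h2 h3, mul_mul_mul_comm, hea, one_mul]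

theorem exists_member_vec {v : Vec m} (hv : Q v = 0) (hv0 : v ≠ 0) {w : G} (hw : w ∈ Dd D d)
    (hvw : polar Q ((S.C d hd).f w) v = 0) :
    ∃ y ∈ D, ¬ Commute d y ∧ Commute w y ∧ Rep (S.link hd hw) y 1 v ∧ PM (S.vec hd y) v := by
  obtain ⟨y, hy⟩ := Rep.exists_member S.hQ S.hm hd hw (L := S.link hd hw) (k := 1) hvw
    (by rw [hv]; decide)
  have hne : y ≠ d := fun h => by
    obtain ⟨e, -, -, he⟩ := Rep.unique S.hQ S.hm hd hw (h ▸ hy) (Rep.base S.hQ S.hm hd hw)
    exact hv0 (by rw [he, smul_zero])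
  have hdy : ¬ Commute d y := fun h => by
    have := (Rep.commute_iff S.hQ S.hm hd hw hy (Rep.base S.hQ S.hm hd hw) hne).mp h.symm
    rw [polar_zero_right] at this
    exact absurd this (by decide)
  refine ⟨y, hy.1.1, hdy, hy.1.2.2, hy, ?_⟩
  obtain ⟨e, he, hrep⟩ := (S.vec_spec hconn hd hy.1.1 hdy).2.2.2 w hw hy.1.2.2
  obtain ⟨e', he', -, heq⟩ := Rep.unique S.hQ S.hm hd hw hy hrep
  exact ((PM.smul he _).symm.trans (PM.smul he' _).symm).trans (heq ▸ PM.refl v)

theorem exists_member {v : Vec m} (hv : Q v = 0) (hv0 : v ≠ 0) :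
    ∃ y ∈ D, ¬ Commute d y ∧ PM (S.vec hd y) v := by
  obtain ⟨z, hz, hvz⟩ := exists_point_one S.hQ (by have := S.hm; omega) v
  obtain ⟨w, hw, hwz⟩ := (S.C d hd).surj z hz
  obtain ⟨y, hy, hdy, -, -, hp⟩ := S.exists_member_vec hconn hd hv hv0 hw
    (by rw [hwz.polar_eq_zero, pol_comm]; exact hvz)
  exact ⟨y, hy, hdy, hp⟩

/-- A member whose vector is orthogonal to neither of two given ones. -/
theorem exists_linking_member {a b : G} (ha : a ∈ D) (hda : ¬ Commute d a) (hb : b ∈ D)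
    (hdb : ¬ Commute d b) : ∃ z ∈ D, ¬ Commute d z ∧ polar Q (S.vec hd a) (S.vec hd z) ≠ 0 ∧
      polar Q (S.vec hd b) (S.vec hd z) ≠ 0 := by
  obtain ⟨ha1, ha0, -⟩ := S.vec_spec hconn hd ha hda
  obtain ⟨hb1, hb0, -⟩ := S.vec_spec hconn hd hb hdb
  obtain ⟨e, he, hea, heb⟩ := exists_point_two S.hQ S.hm (S.vec hd a) (S.vec hd b)
  obtain ⟨t, ht, -, hat, hbt⟩ :=
    exists_linking S.hQ S.hm he ha1 hb1 ha0 hb0 (by rw [pol_comm]; exact hea)
      (by rw [pol_comm]; exact heb)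
  have ht0 : t ≠ 0 := fun h => hat (by rw [h, polar_zero_right])
  obtain ⟨z, hz, hdz, hzt⟩ := S.exists_member hconn hd ht ht0
  exact ⟨z, hz, hdz, fun h => hat ((hzt.polar_eq_zero' _).mp h),
    fun h => hbt ((hzt.polar_eq_zero' _).mp h)⟩

/-- Signs for all members not commuting with `d`, compatible with the relative signs. -/
theorem exists_signs : ∃ E : G → ZMod 3, (∀ y ∈ D, ¬ Commute d y → E y * E y = 1) ∧
    ∀ a ∈ D, ¬ Commute d a → ∀ b ∈ D, ¬ Commute d b →
      polar Q (S.vec hd a) (S.vec hd b) ≠ 0 → E a * E b = S.rel hd a b := by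
  obtain ⟨v0, hv0, -⟩ := exists_point_one S.hQ (by have := S.hm; omega) (0 : Vec m)
  obtain ⟨v1, hv1, -, hv01⟩ := exists_norm_perp S.hQ (k := 1) ![] (fun i => i.elim0)
    (fun i => i.elim0) ![v0] (by have := S.hm; omega) (show (2 : ZMod 3) ≠ 0 by decide)
  have hs : Q (v0 + v1) = 0 := by
    rw [map_add', hv0, hv1, show polar Q v0 v1 = 0 from hv01 0]; decide
  have hs0 : v0 + v1 ≠ 0 := fun h => by
    have := congrArg (polarBilin Q v0) h
    rw [map_add, map_zero, show polarBilin Q v0 v1 = 0 from hv01 0, add_zero,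
      show polarBilin Q v0 v0 = polar Q v0 v0 from rfl, pol_self, hv0] at this
    exact absurd this (by decide)
  obtain ⟨y0, hy0, hdy0, -⟩ := S.exists_member hconn hd hs hs0
  have T := @S.triangle
  have hwd : ∀ z z' y, z ∈ D → ¬ Commute d z → z' ∈ D → ¬ Commute d z' → y ∈ D → ¬ Commute d y →
      polar Q (S.vec hd y0) (S.vec hd z) ≠ 0 → polar Q (S.vec hd y) (S.vec hd z) ≠ 0 →
      polar Q (S.vec hd y0) (S.vec hd z') ≠ 0 → polar Q (S.vec hd y) (S.vec hd z') ≠ 0 →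
      polar Q (S.vec hd z) (S.vec hd z') ≠ 0 →
      S.rel hd y0 z * S.rel hd z y = S.rel hd y0 z' * S.rel hd z' y := by
    intro z z' y hz hdz hz' hdz' hy hdy h1 h2 h3 h4 h5
    rw [← S.triangle hconn hd hz hdz hy0 hdy0 hz' hdz' (pol_comm (Q := Q) _ _ ▸ h1) h5 h3,
      ← S.triangle hconn hd hz hdz hz' hdz' hy hdy h5 (pol_comm (Q := Q) _ _ ▸ h2)
        (pol_comm (Q := Q) _ _ ▸ h4), S.rel_symm hconn hd y0 z]
    have := S.rel_sq hconn hd h5
    linear_combination (-(S.rel hd z y0 * S.rel hd z y)) * this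
  have hind : ∀ z z' y, z ∈ D → ¬ Commute d z → z' ∈ D → ¬ Commute d z' → y ∈ D → ¬ Commute d y →
      polar Q (S.vec hd y0) (S.vec hd z) ≠ 0 → polar Q (S.vec hd y) (S.vec hd z) ≠ 0 →
      polar Q (S.vec hd y0) (S.vec hd z') ≠ 0 → polar Q (S.vec hd y) (S.vec hd z') ≠ 0 →
      S.rel hd y0 z * S.rel hd z y = S.rel hd y0 z' * S.rel hd z' y := by
    intro z z' y hz hdz hz' hdz' hy hdy h1 h2 h3 h4
    by_cases hy' : polar Q (S.vec hd y0) (S.vec hd y) = 0
    · by_cases h5 : polar Q (S.vec hd z) (S.vec hd z') = 0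
      · obtain ⟨t, ht, ht1, ht2, ht3, ht4⟩ := exists_chain S.hQ (by have := S.hm; omega)
          (S.vec_spec hconn hd hy0 hdy0).1 (S.vec_spec hconn hd hz hdz).1
          (pol_comm (Q := Q) _ _ ▸ hy') h1 h2 h3 h5
        obtain ⟨c, hc, hdc, hct⟩ := S.exists_member hconn hd ht
          (fun h => ht1 (by rw [h, polar_zero_right]))
        have c1 : polar Q (S.vec hd y0) (S.vec hd c) ≠ 0 := fun h => ht1 ((hct.polar_eq_zero' _).mp h)
        have c2 : polar Q (S.vec hd y) (S.vec hd c) ≠ 0 := fun h => ht2 ((hct.polar_eq_zero' _).mp h)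
        have c3 : polar Q (S.vec hd z) (S.vec hd c) ≠ 0 := fun h => ht3 ((hct.polar_eq_zero' _).mp h)
        have c4 : polar Q (S.vec hd z') (S.vec hd c) ≠ 0 := fun h => ht4 ((hct.polar_eq_zero' _).mp h)
        exact (hwd z c y hz hdz hc hdc hy hdy h1 h2 c1 c2 c3).trans
          (hwd z' c y hz' hdz' hc hdc hy hdy h3 h4 c1 c2 c4).symm
      · exact hwd z z' y hz hdz hz' hdz' hy hdy h1 h2 h3 h4 h5
    · have key : ∀ x, x ∈ D → ¬ Commute d x → polar Q (S.vec hd y0) (S.vec hd x) ≠ 0 →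
          polar Q (S.vec hd y) (S.vec hd x) ≠ 0 →
          S.rel hd y0 x * S.rel hd x y = S.rel hd y0 y := by
        intro x hx hdx q1 q2
        rw [S.rel_symm hconn hd y0 x]
        exact S.triangle hconn hd hx hdx hy0 hdy0 hy hdy (pol_comm (Q := Q) _ _ ▸ q1)
          (pol_comm (Q := Q) _ _ ▸ q2) hy'
      rw [key z hz hdz h1 h2, key z' hz' hdz' h3 h4]
  have hex : ∀ y, ∃ e : ZMod 3, y ∈ D → ¬ Commute d y → e * e = 1 ∧
      ∀ z ∈ D, ¬ Commute d z → polar Q (S.vec hd y0) (S.vec hd z) ≠ 0 →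
        polar Q (S.vec hd y) (S.vec hd z) ≠ 0 → e = S.rel hd y0 z * S.rel hd z y := by
    intro y
    by_cases h : y ∈ D ∧ ¬ Commute d y
    · obtain ⟨z, hz, hdz, h1, h2⟩ := S.exists_linking_member hconn hd hy0 hdy0 h.1 h.2
      refine ⟨S.rel hd y0 z * S.rel hd z y, fun _ _ => ⟨?_, fun z' hz' hdz' h3 h4 =>
        hind z z' y hz hdz hz' hdz' h.1 h.2 h1 h2 h3 h4⟩⟩
      rw [mul_mul_mul_comm, S.rel_sq hconn hd h1, S.rel_sq hconn hd (pol_comm (Q := Q) _ _ ▸ h2), one_mul]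
    · exact ⟨1, fun h1 h2 => absurd ⟨h1, h2⟩ h⟩
  choose E hE using hex
  refine ⟨E, fun y hy hdy => (hE y hy hdy).1, fun a ha hda b hb hdb hab => ?_⟩
  have common : ∀ z, z ∈ D → ¬ Commute d z → polar Q (S.vec hd y0) (S.vec hd z) ≠ 0 →
      polar Q (S.vec hd a) (S.vec hd z) ≠ 0 → polar Q (S.vec hd b) (S.vec hd z) ≠ 0 →
      E a * E b = S.rel hd a b := by
    intro z hz hdz h1 h2 h3
    rw [(hE a ha hda).2 z hz hdz h1 h2, (hE b hb hdb).2 z hz hdz h1 h3, mul_mul_mul_comm,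
      S.rel_sq hconn hd h1, one_mul, S.triangle hconn hd hz hdz ha hda hb hdb
        (pol_comm (Q := Q) _ _ ▸ h2) (pol_comm (Q := Q) _ _ ▸ h3) hab]
  obtain ⟨z, hz, hdz, h1, h2⟩ := S.exists_linking_member hconn hd hy0 hdy0 ha hda
  by_cases h3 : polar Q (S.vec hd b) (S.vec hd z) = 0
  · by_cases hb0 : polar Q (S.vec hd y0) (S.vec hd b) = 0
    · by_cases ha0 : polar Q (S.vec hd y0) (S.vec hd a) = 0
      · obtain ⟨t, ht, ht1, ht2, ht3, ht4⟩ := exists_chain S.hQ (by have := S.hm; omega)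
          (S.vec_spec hconn hd ha hda).1 (S.vec_spec hconn hd hz hdz).1 ha0 h2 h1 hab
          (pol_comm (Q := Q) _ _ ▸ h3)
        obtain ⟨c, hc, hdc, hct⟩ := S.exists_member hconn hd ht
          (fun h => ht1 (by rw [h, polar_zero_right]))
        exact common c hc hdc (fun h => ht2 ((hct.polar_eq_zero' _).mp h))
          (fun h => ht1 ((hct.polar_eq_zero' _).mp h)) (fun h => ht4 ((hct.polar_eq_zero' _).mp h))
      · obtain ⟨x, hx, hdx, x1, x2⟩ := S.exists_linking_member hconn hd hy0 hdy0 ha hda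
        have ea := (hE a ha hda).2 x hx hdx x1 x2
        rw [S.rel_symm hconn hd y0 x, S.triangle hconn hd hx hdx hy0 hdy0 ha hda
          (pol_comm (Q := Q) _ _ ▸ x1) (pol_comm (Q := Q) _ _ ▸ x2) ha0] at ea
        rw [(hE b hb hdb).2 a ha hda ha0 (pol_comm (Q := Q) _ _ ▸ hab), ← ea, ← mul_assoc,
          (hE a ha hda).1, one_mul]
    · obtain ⟨x, hx, hdx, x1, x2⟩ := S.exists_linking_member hconn hd hy0 hdy0 hb hdb
      have eb := (hE b hb hdb).2 x hx hdx x1 x2
      rw [S.rel_symm hconn hd y0 x, S.triangle hconn hd hx hdx hy0 hdy0 hb hdb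
        (pol_comm (Q := Q) _ _ ▸ x1) (pol_comm (Q := Q) _ _ ▸ x2) hb0] at eb
      rw [(hE a ha hda).2 b hb hdb hb0 hab, eb, mul_right_comm, S.rel_sq hconn hd hb0, one_mul,
        S.rel_symm hconn hd b a]
  · exact common z hz hdz h1 h2 h3

/-- The sign function compatible with the charts. -/
theorem exists_compatible : ∃ U : G → Vec m,
    (∀ y ∈ D, ¬ Commute d y → PM (U y) (S.vec hd y)) ∧
    ∀ w, ∀ hw : w ∈ Dd D d, ∃ σ : ZMod 3, σ * σ = 1 ∧ ∀ y ∈ D, ¬ Commute d y → Commute w y →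
      Rep (S.link hd hw) y 1 (σ • U y) := by
  obtain ⟨E, hE1, hE2⟩ := S.exists_signs hconn hd
  refine ⟨fun y => E y • S.vec hd y, fun y hy hdy => PM.smul (hE1 y hy hdy) _, fun w hw => ?_⟩
  set c := S.C d hd
  by_cases hex : ∃ y ∈ D, ¬ Commute d y ∧ Commute w y
  · obtain ⟨y1, hy1, hdy1, hwy1⟩ := hex
    obtain ⟨e1, he1, hrep1⟩ := (S.vec_spec hconn hd hy1 hdy1).2.2.2 w hw hwy1
    refine ⟨e1 * E y1, by rw [mul_mul_mul_comm, he1, hE1 y1 hy1 hdy1, one_mul],
      fun y hy hdy hwy => ?_⟩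
    obtain ⟨e, he, hrep⟩ := (S.vec_spec hconn hd hy hdy).2.2.2 w hw hwy
    have hpair : ∀ a ea b eb, a ∈ D → ¬ Commute d a → b ∈ D → ¬ Commute d b → ea * ea = 1 →
        eb * eb = 1 → Rep (S.link hd hw) a 1 (ea • S.vec hd a) →
        Rep (S.link hd hw) b 1 (eb • S.vec hd b) → polar Q (S.vec hd a) (S.vec hd b) ≠ 0 →
        ea * E a = eb * E b := by
      intro a ea b eb ha hda hb hdb hea heb h1 h2 h
      have h3 := hE2 a ha hda b hb hdb h
      rw [S.rel_eq hconn hd hw ha hda hb hdb h hea heb h1 h2] at h3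
      have := hE1 b hb hdb
      linear_combination (ea * E b) * h3 + (eb * E b) * hea - (ea * E a) * this
    have p1 : polar Q (c.f w) (S.vec hd y1) = 0 := by
      rw [pol_comm]
      exact ((S.vec_spec hconn hd hy1 hdy1).2.2.1 w hw).mp hwy1.symm
    have p2 : polar Q (c.f w) (S.vec hd y) = 0 := by
      rw [pol_comm]
      exact ((S.vec_spec hconn hd hy hdy).2.2.1 w hw).mp hwy.symm
    obtain ⟨t, ht, htw, ht1, ht2⟩ := exists_linking S.hQ S.hm (c.norm w hw)
      (S.vec_spec hconn hd hy1 hdy1).1 (S.vec_spec hconn hd hy hdy).1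
      (S.vec_spec hconn hd hy1 hdy1).2.1 (S.vec_spec hconn hd hy hdy).2.1 p1 p2
    obtain ⟨z, hz, hdz, hwz, -, hzt⟩ := S.exists_member_vec hconn hd ht
      (fun h => ht1 (by rw [h, polar_zero_right])) hw htw
    obtain ⟨ez, hez, hrepz⟩ := (S.vec_spec hconn hd hz hdz).2.2.2 w hw hwz
    have k := (hpair y1 e1 z ez hy1 hdy1 hz hdz he1 hez hrep1 hrepz
      (fun h => ht1 ((hzt.polar_eq_zero' _).mp h))).trans
      (hpair y e z ez hy hdy hz hdz he hez hrep hrepz
        (fun h => ht2 ((hzt.polar_eq_zero' _).mp h))).symm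
    rwa [smul_smul, k, mul_assoc, hE1 y hy hdy, mul_one]
  · exact ⟨1, one_mul 1, fun y hy hdy hwy => absurd ⟨y, hy, hdy, hwy⟩ hex⟩

/-- The members are the points of the extended space. -/
theorem exists_map : ∃ Φ : G → Vec (m + 1), (∀ a ∈ D, extForm Q (Φ a) = 1) ∧
    (∀ a ∈ D, ∀ b ∈ D, PM (Φ a) (Φ b) → a = b) ∧
    (∀ p, extForm Q p = 1 → ∃ a ∈ D, PM (Φ a) p) ∧
    (∀ a ∈ D, ∀ b ∈ D, PM (Φ (a * b * a)) (Φ b - polar (extForm Q) (Φ a) (Φ b) • Φ a)) := by
  classical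
  obtain ⟨U, hU1, hU2⟩ := S.exists_compatible hconn hd
  set c := S.C d hd
  let k : G → ZMod 3 := fun a => if a = d then 1 else if Commute d a then 0 else 1
  let v : G → Vec m := fun a => if a = d then 0 else if Commute d a then c.f a else U a
  have hrep : ∀ w, ∀ hw : w ∈ Dd D d, ∃ σ : ZMod 3, σ * σ = 1 ∧
      ∀ a ∈ Dd D w, Rep (S.link hd hw) a (k a) (σ • v a) := by
    intro w hw
    obtain ⟨σ, hσ, hy⟩ := hU2 w hw
    refine ⟨σ, hσ, fun a ha => ?_⟩
    simp only [k, v]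
    split_ifs with h1 h2
    · subst h1
      rw [smul_zero]
      exact Rep.base S.hQ S.hm hd hw
    · have := (Rep.point S.hQ S.hm hd hw (L := S.link hd hw) ⟨⟨ha.1, h1, h2⟩, ha⟩).sign hσ
      rwa [mul_zero] at this
    · exact hy a ha.1 h2 ha.2.2
  have hwit : ∀ a ∈ D, ∀ w, w ∈ Dd D d → polar Q (v a) (c.f w) = 0 → a ∈ Dd D w := by
    intro a ha w hw h
    simp only [v] at h
    split_ifs at h with h1 h2
    · subst h1
      exact Dd_symm hd hw
    · have haw : a ≠ w := fun e => by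
        rw [e, c.polar_self hw] at h
        exact absurd h (by decide)
      exact ⟨ha, haw, ((c.comm a ⟨ha, h1, h2⟩ w hw haw).mpr h).symm⟩
    · exact S.mem_Dd hconn hd hw ha h2
        (S.commute_of_perp hconn hd hw ha h2 (((hU1 a ha h2).polar_eq_zero _).mp h))
  have hpair : ∀ a ∈ D, ∀ b ∈ D, ∃ w, w ∈ Dd D d ∧ a ∈ Dd D w ∧ b ∈ Dd D w := by
    intro a ha b hb
    obtain ⟨z, hz, h1, h2⟩ := exists_point_two S.hQ S.hm (v a) (v b)
    obtain ⟨w, hw, hwz⟩ := c.surj z hz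
    exact ⟨w, hw, hwit a ha w hw ((hwz.polar_eq_zero' _).mpr h1),
      hwit b hb w hw ((hwz.polar_eq_zero' _).mpr h2)⟩
  refine ⟨fun a => Fin.cons (k a) (v a), fun a ha => ?_, fun a ha b hb hab => ?_, fun p hp => ?_,
    fun a ha b hb => ?_⟩
  · obtain ⟨w, hw, haw, -⟩ := hpair a ha a ha
    obtain ⟨σ, hσ, hR⟩ := hrep w hw
    have := Rep.norm_eq S.hQ S.hm hd hw (hR a haw)
    rwa [map_smul', hσ, one_mul, ← extForm_cons] at this
  · obtain ⟨w, hw, haw, hbw⟩ := hpair a ha b hb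
    obtain ⟨σ, hσ, hR⟩ := hrep w hw
    obtain ⟨e, he, heq⟩ := hab
    rw [cons_smul] at heq
    obtain ⟨h1, h2⟩ := Fin.cons_inj.mp heq
    refine Rep.inj S.hQ S.hm hd hw (hR a haw) (hR b hbw) he h1 ?_
    rw [h2, smul_comm]
  · obtain ⟨l, t, rfl⟩ : ∃ l t, p = Fin.cons l t := ⟨p 0, Fin.tail p, (Fin.cons_self_tail p).symm⟩
    rw [extForm_cons] at hp
    obtain ⟨z, hz, htz⟩ := exists_point_one S.hQ (by have := S.hm; omega) t
    obtain ⟨w, hw, hwz⟩ := c.surj z hz
    obtain ⟨σ, hσ, hR⟩ := hrep w hw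
    obtain ⟨a, ha⟩ := Rep.exists_member S.hQ S.hm hd hw (L := S.link hd hw) (k := l) (v := σ • t)
      (by rw [polar_smul_right, show polar Q ((S.C d hd).f w) t = 0 from
        (hwz.polar_eq_zero _).mpr (by rw [pol_comm]; exact htz), smul_zero])
      (by rw [map_smul', hσ, one_mul]; exact hp)
    obtain ⟨e, he, h1, h2⟩ := Rep.unique S.hQ S.hm hd hw (hR a ha.1) ha
    refine ⟨a, ha.1.1, e, he, ?_⟩
    show (Fin.cons (k a) (v a) : Vec (m + 1)) = _
    rw [cons_smul, h1]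
    congr 1
    rw [smul_comm] at h2
    have h3 := congrArg (σ • ·) h2
    simpa only [smul_smul, ← mul_assoc, hσ, one_mul, one_smul] using h3
  · obtain ⟨w, hw, haw, hbw⟩ := hpair a ha b hb
    obtain ⟨σ, hσ, hR⟩ := hrep w hw
    have h0 := Rep.conj S.hQ S.hm hd hw S.hD (hR a haw) (hR b hbw)
    obtain ⟨e, he, h1, h2⟩ := Rep.unique S.hQ S.hm hd hw
      (hR (a * b * a) (conj_mem_Dd S.hD haw hbw)) h0
    rw [polar_smul_left, polar_smul_right, smul_eq_mul, smul_eq_mul, ← mul_assoc σ σ, hσ, one_mul]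
      at h1 h2
    refine ⟨e, he, ?_⟩
    show (Fin.cons (k (a * b * a)) (v (a * b * a)) : Vec (m + 1)) = _
    rw [polar_cons, sub_eq_add_neg, ← neg_smul, cons_smul, cons_add, cons_smul, h1]
    congr 1
    · ring
    · rw [smul_comm _ σ, ← smul_sub, smul_comm] at h2
      have h3 := congrArg (σ • ·) h2
      simp only [smul_smul, ← mul_assoc, hσ, one_mul, one_smul] at h3
      rw [h3, neg_smul, ← sub_eq_add_neg]

end Setting

end Cfsg.Agent.FischerOrth94
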