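import Cfsg.Agent.Lib.FischerOrthLift47

/-!
# The perpendiculars cut out by the further members

If every member sees the norm-one points of the same orthogonal space over `ZMod 3` (dimension at least
five), a member not commuting with `d` commutes with exactly the points perpendicular to a singular one:
the twins among the common neighbours give the radical direction.
-/

set_option autoImplicit false
set_option linter.unusedSectionVars false

namespace Cfsg.Agent.FischerOrthPerp47

open QuadraticMap Cfsg.Agent.ThreeTransRel Cfsg.Agent.FischerOrthGeom47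
open Cfsg.Agent.OrthUnitaryQuad (IsReg)
open Cfsg.Agent.ThreeTransReflSeven78 (RegOn regOn_top regOn_perp perp mem_perp finrank_perp exists_norm)

local notation "K" => ZMod 3

variable {G : Type*} [Group G] {V : Type*} [AddCommGroup V] [Module K V] [FiniteDimensional K V]

/-- The neighbours of `d` are the norm-one points. -/
structure LChart (D : Set G) (d : G) (Q : QuadraticForm K V) (ρ : V → G) : Prop where
  hd : d ∈ D
  mem : ∀ v, Q v = 1 → ρ v ∈ D ∧ ρ v ≠ d ∧ Commute d (ρ v)
  surj : ∀ y ∈ D, y ≠ d → Commute d y → ∃ v, Q v = 1 ∧ ρ v = y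
  inj : ∀ u v, Q u = 1 → Q v = 1 → ρ u = ρ v → v = u ∨ v = -u
  neg : ∀ v, Q v = 1 → ρ (-v) = ρ v
  comm : ∀ u v, Q u = 1 → Q v = 1 → v ≠ u → v ≠ -u → (Commute (ρ u) (ρ v) ↔ polar Q u v = 0)
  conj : ∀ u v, Q u = 1 → Q v = 1 → ρ v * ρ u * ρ v = ρ (u - polar Q v u • v)

variable {D : Set G} {Q : QuadraticForm K V} {p q : G} {σ ρ : V → G}

theorem LChart.norm_of_refl (A : LChart D p Q σ) {u v : V} (hu : Q u = 1) (hv : Q v = 1) :
    Q (u - polar Q v u • v) = 1 := by
  rw [q_sub, q_smul, hu, hv, polar_smul_right, smul_eq_mul, polar_comm (⇑Q) u v]; ring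

theorem LChart.commute_of_perp (A : LChart D p Q σ) {u v : V} (hu : Q u = 1) (hv : Q v = 1)
    (h : polar Q u v = 0) : Commute (σ u) (σ v) ∧ σ u ≠ σ v := by
  have hne : ∀ s : K, s ≠ 0 → v ≠ s • u := by
    intro s hs e
    rw [e, polar_smul_right, polar_self', hu, smul_eq_mul] at h
    revert h hs; clear e; revert s; decide
  have h1 : v ≠ u := fun e => hne 1 one_ne_zero (by rw [one_smul]; exact e)
  have h2 : v ≠ -u := fun e => hne (-1) (by decide) (by rw [neg_one_smul]; exact e)
  exact ⟨(A.comm u v hu hv h1 h2).mpr h, fun e => (A.inj u v hu hv e).elim h1 h2⟩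

theorem LChart.commute_iff (A : LChart D p Q σ) {u v : V} (hu : Q u = 1) (hv : Q v = 1) :
    (Commute (σ u) (σ v) ∧ σ u ≠ σ v) ↔ polar Q u v = 0 := by
  refine ⟨fun ⟨h, hne⟩ => ?_, A.commute_of_perp hu hv⟩
  exact (A.comm u v hu hv (fun e => hne (by rw [e])) (fun e => hne (by rw [e, A.neg u hu]))).mp h

/-- Two charts see the same orthogonality. -/
theorem polar_iff (A : LChart D p Q σ) (B : LChart D q Q ρ) {u u' v v' : V} (hu : Q u = 1)
    (hu' : Q u' = 1) (hv : Q v = 1) (hv' : Q v' = 1) (e : ρ u = σ v) (e' : ρ u' = σ v') :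
    polar Q u u' = 0 ↔ polar Q v v' = 0 := by
  rw [← B.commute_iff hu hu', ← A.commute_iff hv hv', e, e']

/-- A twin class in one chart is a line in the other. -/
theorem transfer (A : LChart D p Q σ) (B : LChart D q Q ρ) {a ξ : V} (ha : Q a = 1)
    (hqa : σ a = q) (hξ : Q ξ = 1) (hpξ : ρ ξ = p) {r : V} (hr : Sing Q r) (har : polar Q a r = 0)
    {v₀ : V} (hv₀ : Q v₀ = 1) (hav₀ : polar Q a v₀ = 0) (hrv₀ : polar Q r v₀ = 0) :
    ∃ s, Sing Q s ∧ polar Q ξ s = 0 ∧ ∀ v, Q v = 1 → polar Q a v = 0 → polar Q r v = 0 →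
      ∀ u, Q u = 1 → ρ u = σ v → polar Q s u = 0 := by
  -- members seen by both
  have both : ∀ v, Q v = 1 → polar Q a v = 0 → ∃ u, Q u = 1 ∧ ρ u = σ v ∧ polar Q ξ u = 0 := by
    intro v hv hav
    obtain ⟨hc, hne⟩ := A.commute_of_perp ha hv hav
    rw [hqa] at hc hne
    obtain ⟨hD, hvp, hpv⟩ := A.mem v hv
    obtain ⟨u, hu, hρu⟩ := B.surj _ hD (Ne.symm hne) hc
    refine ⟨u, hu, hρu, (B.commute_iff hξ hu).mp ?_⟩
    rw [hpξ, hρu]
    exact ⟨hpv, hvp.symm⟩
  have hline : ∀ k : K, Q (v₀ + k • r) = 1 ∧ polar Q a (v₀ + k • r) = 0 := fun k => by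
    refine ⟨?_, ?_⟩
    · rw [q_add, q_smul, hr.2, hv₀, polar_smul_right, polar_comm (⇑Q) v₀ r, hrv₀]; simp
    · rw [polar_add_right, polar_smul_right, hav₀, har]; simp
  obtain ⟨u, hu, hρu, hξu⟩ := both v₀ hv₀ hav₀
  obtain ⟨u', hu', hρu', hξu'⟩ := both _ (hline 1).1 (hline 1).2
  set γ := polar Q u u' with hγ
  have hγ0 : γ ≠ 0 := fun e => by
    have := (polar_iff A B hu hu' hv₀ (hline 1).1 hρu hρu').mp e
    rw [polar_add_right, polar_self', hv₀, polar_smul_right, polar_comm (⇑Q) v₀ r, hrv₀, smul_zero,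
      add_zero] at this
    exact absurd this (by decide)
  set s := u + γ • u' with hs
  -- the third point of the line
  set w := u' - γ • u with hw
  have hwq : Q w = 1 := B.norm_of_refl hu' hu
  have hρw : ρ w = σ (v₀ + (-1 : K) • r) := by
    have e1 := B.conj u' u hu' hu
    have e2 := A.conj (v₀ + (1 : K) • r) v₀ (hline 1).1 hv₀
    rw [← hγ, hρu, hρu', ← hw] at e1
    rw [← e1, e2, polar_add_right, polar_self', hv₀, polar_smul_right, polar_comm (⇑Q) v₀ r, hrv₀]
    rw [smul_zero, add_zero]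
    have e3 : v₀ + (1 : K) • r - ((2 : K) * 1) • v₀ = -(v₀ + (-1 : K) • r) := by
      rw [show ((2 : K) * 1) = -1 from by decide]
      have h3 := three_smul_zero v₀
      rw [show (3 : K) = 1 + 1 + 1 from by decide, add_smul, add_smul, one_smul] at h3
      rw [one_smul, neg_one_smul, neg_one_smul, sub_neg_eq_add, neg_add, neg_neg, eq_comm,
        ← sub_eq_zero]
      rw [← neg_eq_zero, ← h3]
      abel
    rw [e3, A.neg _ (hline (-1)).1]
  have hQs : Q s = 0 := by
    rw [hs, q_add, q_smul, hu, hu', polar_smul_right, ← hγ, smul_eq_mul, mul_self_one hγ0]; decide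
  have hs0 : s ≠ 0 := by
    intro e
    have h1 : polar Q ξ s = 0 ∧ polar Q u' s = 0 := by rw [e]; simp
    have : u = -(γ • u') := eq_neg_of_add_eq_zero_left e
    have he : ρ u = ρ u' := by
      rw [this]
      rcases one_or_neg hγ0 with g | g
      · rw [g, one_smul, B.neg _ hu']
      · rw [g, neg_one_smul, neg_neg]
    rw [hρu, hρu'] at he
    rcases A.inj _ _ hv₀ (hline 1).1 he with h | h
    · exact hr.1 (by simpa using h)
    · rw [one_smul] at h
      have h3 : r = -(v₀ + v₀) := by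
        rw [eq_neg_iff_add_eq_zero, show r + (v₀ + v₀) = (v₀ + r) + v₀ by abel, h, neg_add_cancel]
      have h4 := hr.2
      rw [h3, QuadraticMap.map_neg, q_add, hv₀, polar_self', hv₀] at h4
      exact absurd h4 (by decide)
  refine ⟨s, ⟨hs0, hQs⟩, ?_, fun v hv hav hrv z hz hρz => ?_⟩
  · rw [hs, polar_add_right, polar_smul_right, hξu, hξu']; simp
  · have e0 := polar_iff A B hz hu hv hv₀ hρz hρu
    have e1 := polar_iff A B hz hu' hv (hline 1).1 hρz hρu'
    have e2 := polar_iff A B hz hwq hv (hline (-1)).1 hρz hρw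
    have hc : ∀ k : K, polar Q v (v₀ + k • r) = polar Q v v₀ := fun k => by
      rw [polar_add_right, polar_smul_right, polar_comm (⇑Q) v r, hrv]; simp
    rw [hc] at e1 e2
    rw [hw, polar_sub_right, polar_smul_right, smul_eq_mul] at e2
    rw [hs, polar_comm, polar_add_right, polar_smul_right, smul_eq_mul]
    revert e0 e1 e2 hγ0
    generalize polar Q z u = A
    generalize polar Q z u' = B
    generalize polar Q v v₀ = C
    generalize γ = E
    revert A B C E
    decide

/-! ### Spanning in small dimensions -/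

/-- A singular vector perpendicular to a twin line and to the radical is on the radical. -/
theorem eq_smul_small (hQ : IsReg Q) {S : Submodule K V} (hS : RegOn Q S)
    (h4 : 4 ≤ Module.finrank K S) {w u : V} (hwS : w ∈ S) (huS : u ∈ S) (hw : Sing Q w)
    (hu0 : Q u = 0) (hu : ∀ v ∈ S, Q v = 1 → polar Q w v = 0 → polar Q u v = 0) :
    ∃ a : K, u = a • w := by
  by_cases h5 : 5 ≤ Module.finrank K S
  · exact eq_smul_of_perp hQ hS h5 hwS huS hw hu
  obtain ⟨z', hz'S, hz'n⟩ : ∃ z' ∈ S, polar Q w z' ≠ 0 := by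
    by_contra hno
    push Not at hno
    exact hw.1 (hS w hwS hno)
  obtain ⟨z, hzS, e1, e2⟩ : ∃ z ∈ S, polar Q w z = 1 ∧ Q z = 0 := by
    set μ := polar Q w z' with hμ
    refine ⟨μ • z' + (-(μ * μ * Q z')) • w, S.add_mem (S.smul_mem _ hz'S) (S.smul_mem _ hwS), ?_, ?_⟩
    · rw [polar_add_right, polar_smul_right, polar_smul_right, polar_self', hw.2, ← hμ, smul_eq_mul,
        mul_self_one hz'n]
      simp
    · rw [q_add, q_smul, q_smul, hw.2, polar_smul_left, polar_smul_right, polar_comm (⇑Q) z' w, ← hμ,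
        smul_eq_mul, smul_eq_mul]
      linear_combination (-(μ * μ * Q z')) * mul_self_one hz'n
  obtain ⟨P, hP, hPr, hPn⟩ := hyp_perp_in hQ hS hwS hzS hw.2 e2 (by rw [e1]; exact one_ne_zero)
  obtain ⟨v, hv, hqv⟩ := exists_norm hPr (by omega) (c := 1) one_ne_zero
  obtain ⟨hvS, hwv, hzv⟩ := (hP v).mp hv
  have huv := hu v hvS hqv hwv
  have huw : polar Q u w = 0 := by
    have h1 := hu (v + w) (S.add_mem hvS hwS)
      (by rw [q_add, hqv, hw.2, polar_comm (⇑Q) v w, hwv]; ring)
      (by rw [polar_add_right, hwv, polar_self', hw.2]; ring)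
    rwa [polar_add_right, huv, zero_add] at h1
  set u' := u - polar Q z u • w with hu'
  have hu'R : u' ∈ perp Q P v := by
    refine mem_perp.mpr ⟨(hP _).mpr ⟨S.sub_mem huS (S.smul_mem _ hwS), ?_, ?_⟩, ?_⟩
    · rw [hu', polar_sub_right, polar_smul_right, polar_self', hw.2, polar_comm (⇑Q) w u, huw]; simp
    · rw [hu', polar_sub_right, polar_smul_right, polar_comm (⇑Q) z w, e1]; simp
    · rw [hu', polar_sub_right, polar_smul_right, polar_comm (⇑Q) v u, huv, polar_comm (⇑Q) v w, hwv]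
      simp
  refine ⟨polar Q z u, sub_eq_zero.mp ?_⟩
  by_contra h0
  have hd := finrank_perp (Q := Q) hv (hqv ▸ one_ne_zero)
  refine h0 (regOn_perp hPr hv (hqv ▸ one_ne_zero) u' hu'R fun y hy => ?_)
  have h1 : Module.finrank K (perp Q P v) = 1 := by omega
  obtain ⟨k, hk⟩ := (finrank_eq_one_iff_of_nonzero' (⟨u', hu'R⟩ : perp Q P v)
    (fun e => h0 (congrArg Subtype.val e))).mp h1 ⟨y, hy⟩
  have hk' : k • u' = y := congrArg Subtype.val hk
  have hqu : Q u' = 0 := by
    rw [hu', q_sub, q_smul, hu0, hw.2, polar_smul_right, huw]; simp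
  rw [← hk', polar_smul_right, polar_self', hqu]
  simp

/-- A norm-one vector perpendicular to a norm-one and a singular vector. -/
theorem exists_norm_perp (hQ : IsReg Q) (hn : 5 ≤ Module.finrank K V) {a r : V} (ha : Q a = 1)
    (hr : Sing Q r) (har : polar Q a r = 0) :
    ∃ v, Q v = 1 ∧ polar Q a v = 0 ∧ polar Q r v = 0 := by
  have hS := regOn_perp (regOn_top hQ) (u := a) trivial (ha ▸ one_ne_zero)
  have hd := finrank_perp (Q := Q) (S := ⊤) (u := a) trivial (ha ▸ one_ne_zero)
  rw [finrank_top] at hd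
  have hrS : r ∈ perp Q ⊤ a := mem_perp.mpr ⟨trivial, har⟩
  obtain ⟨z', hz'S, hz'n⟩ : ∃ z' ∈ perp Q ⊤ a, polar Q r z' ≠ 0 := by
    by_contra hno
    push Not at hno
    exact hr.1 (hS r hrS hno)
  obtain ⟨z, hzS, e1, e2⟩ : ∃ z ∈ perp Q ⊤ a, polar Q r z ≠ 0 ∧ Q z = 0 := by
    refine ⟨z' + (-(Q z') * (polar Q r z')⁻¹) • r,
      Submodule.add_mem _ hz'S (Submodule.smul_mem _ _ hrS), ?_, ?_⟩
    · rw [polar_add_right, polar_smul_right, polar_self', hr.2]; simpa using hz'n
    · rw [q_add, q_smul, hr.2, polar_smul_right, polar_comm (⇑Q) z' r, smul_eq_mul]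
      field_simp
      ring
  obtain ⟨P, hP, hPr, hPn⟩ := hyp_perp_in hQ hS hrS hzS hr.2 e2 e1
  obtain ⟨v, hv, hqv⟩ := exists_norm hPr (by omega) (c := 1) one_ne_zero
  obtain ⟨hvS, hrv, -⟩ := (hP v).mp hv
  exact ⟨v, hqv, (mem_perp.mp hvS).2, hrv⟩

/-! ### The perpendicular of a further member -/

section

variable (ht : TSys D) (hQ : IsReg Q) (hn : 5 ≤ Module.finrank K V)
  (hloc : ∀ x ∈ D, ∃ τ, LChart D x Q τ) {d : G} (C : LChart D d Q ρ)
include ht hQ hn hloc C

/-- The radical direction at a common neighbour `ρ ξ`. -/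
theorem at_edge {c : G} (hc : c ∈ D) (hdc : ¬ Commute d c) {ξ : V} (hξ : Q ξ = 1)
    (hcx : Commute c (ρ ξ)) :
    ∃ s, Sing Q s ∧ polar Q ξ s = 0 ∧
      ∀ u, Q u = 1 → polar Q ξ u = 0 → (Commute c (ρ u) ↔ polar Q s u = 0) := by
  obtain ⟨hxD, hxd, hdx⟩ := C.mem ξ hξ
  obtain ⟨σ, A⟩ := hloc _ hxD
  have hcne : c ≠ ρ ξ := fun e => hdc (e ▸ hdx)
  obtain ⟨a, ha, hda⟩ := A.surj d C.hd (Ne.symm hxd) hdx.symm
  obtain ⟨b, hb, hcb⟩ := A.surj c hc hcne hcx.symm
  have hβ : polar Q a b ≠ 0 := fun e => hdc (by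
    have := (A.commute_of_perp ha hb e).1
    rwa [hda, hcb] at this)
  set β := polar Q a b with hβdef
  set r := a + β • b with hr
  have hQr : Q r = 0 := by
    rw [hr, q_add, q_smul, ha, hb, polar_smul_right, ← hβdef, smul_eq_mul, mul_self_one hβ]; decide
  have har : polar Q a r = 0 := by
    rw [hr, polar_add_right, polar_self', ha, polar_smul_right, ← hβdef, smul_eq_mul,
      mul_self_one hβ]
    decide
  have hr0 : r ≠ 0 := fun e => by
    have h1 : a = -(β • b) := eq_neg_of_add_eq_zero_left e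
    refine hdc ?_
    rw [← hda, ← hcb, h1]
    rcases one_or_neg hβ with g | g
    · rw [g, one_smul, A.neg b hb]
    · rw [g, neg_one_smul, neg_neg]
  have hrs : Sing Q r := ⟨hr0, hQr⟩
  -- neighbours of both in the two charts
  have hiff : ∀ u v, Q u = 1 → Q v = 1 → ρ u = σ v → polar Q a v = 0 →
      (Commute c (ρ u) ↔ polar Q r v = 0) := by
    intro u v hu hv e hav
    have hrb : polar Q r v = β * polar Q b v := by
      rw [hr, polar_add_left, hav, polar_smul_left, zero_add, smul_eq_mul]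
    rw [hrb, mul_eq_zero, or_iff_right hβ, ← A.commute_iff hb hv, hcb, ← e]
    refine ⟨fun h => ⟨h, ?_⟩, fun h => h.1⟩
    intro e'
    exact hdc (e' ▸ (C.mem u hu).2.2)
  have toσ : ∀ u, Q u = 1 → polar Q ξ u = 0 → ∃ v, Q v = 1 ∧ ρ u = σ v ∧ polar Q a v = 0 := by
    intro u hu hξu
    obtain ⟨h1, h2⟩ := C.commute_of_perp hξ hu hξu
    obtain ⟨hD, hud, hdu⟩ := C.mem u hu
    obtain ⟨v, hv, e⟩ := A.surj _ hD (Ne.symm h2) h1
    refine ⟨v, hv, e.symm, (A.commute_iff ha hv).mp ?_⟩
    rw [hda, e]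
    exact ⟨hdu, hud.symm⟩
  have toρ : ∀ v, Q v = 1 → polar Q a v = 0 → ∃ u, Q u = 1 ∧ ρ u = σ v ∧ polar Q ξ u = 0 := by
    intro v hv hav
    obtain ⟨h1, h2⟩ := A.commute_of_perp ha hv hav
    rw [hda] at h1 h2
    obtain ⟨hD, hvx, hxv⟩ := A.mem v hv
    obtain ⟨u, hu, e⟩ := C.surj _ hD (Ne.symm h2) h1
    refine ⟨u, hu, e, (C.commute_iff hξ hu).mp ?_⟩
    rw [e]
    exact ⟨hxv, hvx.symm⟩
  obtain ⟨v₀, hv₀, hav₀, hrv₀⟩ := exists_norm_perp hQ (by omega) ha hrs har
  obtain ⟨s, hs, hξs, hsub⟩ := transfer A C ha hda hξ rfl hrs har hv₀ hav₀ hrv₀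
  obtain ⟨u₀, hu₀, hξu₀, hsu₀⟩ := exists_norm_perp hQ (by omega) hξ hs hξs
  obtain ⟨r', hr', har', hsub'⟩ := transfer C A hξ rfl ha hda hs hξs hu₀ hξu₀ hsu₀
  -- the reverse inclusion
  have hS := regOn_perp (regOn_top hQ) (u := a) trivial (ha ▸ one_ne_zero)
  have hd' := finrank_perp (Q := Q) (S := ⊤) (u := a) trivial (ha ▸ one_ne_zero)
  rw [finrank_top] at hd'
  obtain ⟨k, hk⟩ := eq_smul_small hQ hS (by omega) (mem_perp.mpr ⟨trivial, har⟩)
    (mem_perp.mpr ⟨trivial, har'⟩) hrs hr'.2 (u := r') (fun v hvS hv hrv => by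
      obtain ⟨u, hu, e, hξu⟩ := toρ v hv (mem_perp.mp hvS).2
      exact hsub' u hu hξu (hsub v hv (mem_perp.mp hvS).2 hrv u hu e) v hv e.symm)
  have hk0 : k ≠ 0 := fun e => hr'.1 (by rw [hk, e, zero_smul])
  refine ⟨s, hs, hξs, fun u hu hξu => ?_⟩
  obtain ⟨v, hv, e, hav⟩ := toσ u hu hξu
  rw [hiff u v hu hv e hav]
  refine ⟨fun h => hsub v hv hav h u hu e, fun h => ?_⟩
  have := hsub' u hu hξu h v hv e.symm
  rw [hk, polar_smul_left, smul_eq_mul] at this
  exact (mul_eq_zero.mp this).resolve_left hk0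

/-- The radical direction at a common neighbour determines the pair `c, d * c * d`. -/
theorem same_dir {c c' : G} (hc : c ∈ D) (hc' : c' ∈ D) (hdc : ¬ Commute d c) (hdc' : ¬ Commute d c')
    {ξ s : V} (hξ : Q ξ = 1) (hcx : Commute c (ρ ξ)) (hcx' : Commute c' (ρ ξ))
    (h : ∀ u, Q u = 1 → polar Q ξ u = 0 → (Commute c (ρ u) ↔ polar Q s u = 0))
    (h' : ∀ u, Q u = 1 → polar Q ξ u = 0 → (Commute c' (ρ u) ↔ polar Q s u = 0)) :
    c' = c ∨ c' = d * c * d := by
  obtain ⟨hxD, hxd, hdx⟩ := C.mem ξ hξ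
  obtain ⟨σ, A⟩ := hloc _ hxD
  obtain ⟨a, ha, hda⟩ := A.surj d C.hd (Ne.symm hxd) hdx.symm
  obtain ⟨b, hb, hcb⟩ := A.surj c hc (fun e => hdc (e ▸ hdx)) hcx.symm
  obtain ⟨b', hb', hcb'⟩ := A.surj c' hc' (fun e => hdc' (e ▸ hdx)) hcx'.symm
  have hab : polar Q a b ≠ 0 := fun e => hdc (by
    have := (A.commute_of_perp ha hb e).1
    rwa [hda, hcb] at this)
  have hab' : polar Q a b' ≠ 0 := fun e => hdc' (by
    have := (A.commute_of_perp ha hb' e).1
    rwa [hda, hcb'] at this)
  set r := a + polar Q a b • b with hr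
  have har : polar Q a r = 0 := by
    rw [hr, polar_add_right, polar_self', ha, polar_smul_right, smul_eq_mul, mul_self_one hab]
    decide
  have hQr : Q r = 0 := by
    rw [hr, q_add, q_smul, ha, hb, polar_smul_right, smul_eq_mul, mul_self_one hab]; decide
  set r' := a + polar Q a b' • b' with hr'
  have har' : polar Q a r' = 0 := by
    rw [hr', polar_add_right, polar_self', ha, polar_smul_right, smul_eq_mul, mul_self_one hab']
    decide
  have hrne : r ≠ 0 := fun e => hdc (by
    rw [← hda, ← hcb, eq_neg_of_add_eq_zero_left e]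
    rcases one_or_neg hab with g | g
    · rw [g, one_smul, A.neg b hb]
    · rw [g, neg_one_smul, neg_neg])
  have hQr' : Q r' = 0 := by
    rw [hr', q_add, q_smul, ha, hb', polar_smul_right, smul_eq_mul, mul_self_one hab']; decide
  have hr'ne : r' ≠ 0 := fun e => hdc' (by
    rw [← hda, ← hcb', eq_neg_of_add_eq_zero_left e]
    rcases one_or_neg hab' with g | g
    · rw [g, one_smul, A.neg b' hb']
    · rw [g, neg_one_smul, neg_neg])
  have hS := regOn_perp (regOn_top hQ) (u := a) trivial (ha ▸ one_ne_zero)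
  have hd' := finrank_perp (Q := Q) (S := ⊤) (u := a) trivial (ha ▸ one_ne_zero)
  rw [finrank_top] at hd'
  obtain ⟨k, hk⟩ := eq_smul_small hQ hS (by omega) (mem_perp.mpr ⟨trivial, har⟩)
    (mem_perp.mpr ⟨trivial, har'⟩) ⟨hrne, hQr⟩ hQr' (u := r') (fun v hvS hv hrv => by
      have hav := (mem_perp.mp hvS).2
      obtain ⟨h1, h2⟩ := A.commute_of_perp ha hv hav
      rw [hda] at h1 h2
      obtain ⟨hD, hvx, hxv⟩ := A.mem v hv
      obtain ⟨u, hu, e⟩ := C.surj _ hD (Ne.symm h2) h1
      have hξu : polar Q ξ u = 0 := (C.commute_iff hξ hu).mp (by rw [e]; exact ⟨hxv, hvx.symm⟩)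
      have hbv : polar Q b v = 0 := by
        rw [hr, polar_add_left, hav, polar_smul_left, zero_add, smul_eq_mul] at hrv
        exact (mul_eq_zero.mp hrv).resolve_left hab
      have hcu : Commute c (ρ u) := by
        rw [e, ← hcb]; exact (A.commute_of_perp hb hv hbv).1
      have hcu' := (h' u hu hξu).mpr ((h u hu hξu).mp hcu)
      have hb'v : polar Q b' v = 0 := (A.commute_iff hb' hv).mp (by
        rw [hcb', ← e]; exact ⟨hcu', fun e' => hdc' (e' ▸ (C.mem u hu).2.2)⟩)
      rw [hr', polar_add_left, hav, polar_smul_left, hb'v]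
      simp)
  have hk0 : k ≠ 0 := fun e => hr'ne (by rw [hk, e, zero_smul])
  have hbv : Q (polar Q a b' • b') = 1 := by rw [q_smul, hb', mul_self_one hab']; simp
  have hσb' : σ (polar Q a b' • b') = c' := by
    rcases one_or_neg hab' with g | g <;> rw [g]
    · rw [one_smul, hcb']
    · rw [neg_one_smul, A.neg b' hb', hcb']
  rcases one_or_neg hk0 with g | g
  · left
    rw [g, one_smul, hr, hr'] at hk
    rw [← hσb', add_left_cancel hk]
    rcases one_or_neg hab with g' | g' <;> rw [g']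
    · rw [one_smul, hcb]
    · rw [neg_one_smul, A.neg b hb, hcb]
  · right
    rw [g, neg_one_smul, hr, hr'] at hk
    have h1 : polar Q a b' • b' = -(polar Q a b • (b - polar Q a b • a)) := by
      rw [smul_sub, smul_smul, mul_self_one hab, one_smul]
      have h3 := three_smul_zero a
      rw [show (3 : K) = 1 + 1 + 1 from by decide, add_smul, add_smul, one_smul] at h3
      have h4 : polar Q a b' • b' = -(a + polar Q a b • b) - a := by rw [← hk]; abel
      rw [h4, ← sub_eq_zero, ← neg_eq_zero, ← h3]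
      abel
    rw [← hσb', h1, ← hcb, ← hda, A.conj b a hb ha]
    have hq := A.norm_of_refl hb ha
    have hq' : Q (polar Q a b • (b - polar Q a b • a)) = 1 := by
      rw [q_smul, hq, mul_self_one hab]; simp
    rw [A.neg _ hq']
    rcases one_or_neg hab with g' | g' <;> rw [g']
    · rw [one_smul]
    · rw [g'] at hq; rw [neg_one_smul, A.neg _ hq]

/-- A commuting pair at a common neighbour with one radical direction does not exist. -/
theorem no_twin {c c' : G} (hc : c ∈ D) (hc' : c' ∈ D) (hdc : ¬ Commute d c) (hdc' : ¬ Commute d c')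
    (hcc : Commute c c') (hne : c ≠ c') {ξ s : V} (hξ : Q ξ = 1)
    (hcx : Commute c (ρ ξ)) (hcx' : Commute c' (ρ ξ))
    (h : ∀ u, Q u = 1 → polar Q ξ u = 0 → (Commute c (ρ u) ↔ polar Q s u = 0))
    (h' : ∀ u, Q u = 1 → polar Q ξ u = 0 → (Commute c' (ρ u) ↔ polar Q s u = 0)) : False := by
  rcases same_dir ht hQ hn hloc C hc hc' hdc hdc' hξ hcx hcx' h h' with e | e
  · exact hne e.symm
  · exact (ht.f1 hc C.hd fun x => hdc x.symm).2 (e ▸ hcc)

/-- Applying reflections. -/
def act (Q : QuadraticForm K V) (l : List V) (z : V) : V :=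
  l.foldr (fun v y => y - polar Q v y • v) z

/-- Conjugating by their members. -/
def conjw (ρ : V → G) (l : List V) (x : G) : G := l.foldr (fun v y => ρ v * y * ρ v) x

omit hn hloc in
theorem word_spec (l : List V) (hl : ∀ v ∈ l, Q v = 1) :
    conjw ρ l d = d ∧ (∀ x ∈ D, conjw ρ l x ∈ D) ∧
      (∀ x y, Commute (conjw ρ l x) (conjw ρ l y) ↔ Commute x y) ∧
      ∀ z, Q z = 1 → Q (act Q l z) = 1 ∧ conjw ρ l (ρ z) = ρ (act Q l z) := by
  induction l with
  | nil => exact ⟨rfl, fun x hx => hx, fun x y => Iff.rfl, fun z hz => ⟨hz, rfl⟩⟩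
  | cons v l ih =>
    obtain ⟨h1, h2, h3, h4⟩ := ih fun w hw => hl w (List.mem_cons_of_mem _ hw)
    have hv := hl v List.mem_cons_self
    obtain ⟨hvD, -, hdv⟩ := C.mem v hv
    have hcons : ∀ x, conjw ρ (v :: l) x = ρ v * conjw ρ l x * ρ v := fun x => rfl
    refine ⟨?_, fun x hx => ?_, fun x y => ?_, fun z hz => ?_⟩
    · rw [hcons, h1, hdv.symm.eq, mul_assoc, ht.sq _ hvD, mul_one]
    · rw [hcons]; exact ht.conj_mem hvD (h2 x hx)
    · rw [hcons, hcons]
      refine Iff.trans ?_ (h3 x y)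
      refine ⟨fun h => ?_, fun h => ht.commute_conj hvD h⟩
      have := ht.commute_conj hvD h
      rwa [ht.conj_conj hvD, ht.conj_conj hvD] at this
    · obtain ⟨hq, e⟩ := h4 z hz
      exact ⟨C.norm_of_refl hq hv, by rw [hcons, e]; exact C.conj _ v hq hv⟩

omit ht hloc C in
theorem act_polar (l : List V) (hl : ∀ v ∈ l, Q v = 1) (y z : V) :
    polar Q (act Q l y) (act Q l z) = polar Q y z := by
  induction l with
  | nil => rfl
  | cons v l ih =>
    have hv := hl v List.mem_cons_self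
    show polar Q (act Q l y - polar Q v (act Q l y) • v) (act Q l z - polar Q v (act Q l z) • v) = _
    rw [polar_sub_left, polar_sub_right, polar_sub_right, polar_smul_left, polar_smul_right,
      polar_smul_left, polar_smul_right, polar_self', hv, ih fun w hw => hl w (List.mem_cons_of_mem _ hw),
      polar_comm (⇑Q) (act Q l y) v]
    simp only [smul_eq_mul]
    ring

omit ht hloc C in
/-- A Siegel map as a product of norm-one reflections. -/
theorem exists_word {q s : V} (hq : Q q ≠ 0) (hs : Sing Q s) (hqs : polar Q q s = 0) :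
    ∃ l : List V, (∀ v ∈ l, Q v = 1) ∧ ∀ z, act Q l z =
      (z - (Q q * polar Q (q + s) z) • (q + s)) -
        (Q q * polar Q q (z - (Q q * polar Q (q + s) z) • (q + s))) • q := by
  have hqs' : Q (q + s) = Q q := by rw [q_add, hs.2, hqs]; simp
  rcases one_or_neg hq with h | h
  · refine ⟨[q, q + s], fun v hv => ?_, fun z => by simp [act, h]⟩
    simp only [List.mem_cons, List.not_mem_nil, or_false] at hv
    rcases hv with rfl | rfl
    exacts [h, hqs'.trans h]
  · have hd := finrank_perp (Q := Q) (S := ⊤) (u := q) trivial hq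
    rw [finrank_top] at hd
    have hS := regOn_perp (regOn_top hQ) (u := q) trivial hq
    have hsS : s ∈ perp Q ⊤ q := mem_perp.mpr ⟨trivial, hqs⟩
    obtain ⟨z', hz'S, hz'n⟩ : ∃ z' ∈ perp Q ⊤ q, polar Q s z' ≠ 0 := by
      by_contra hno
      push Not at hno
      exact hs.1 (hS s hsS hno)
    obtain ⟨z, hzS, e1, e2⟩ : ∃ z ∈ perp Q ⊤ q, polar Q s z ≠ 0 ∧ Q z = 0 := by
      refine ⟨z' + (-(Q z') * (polar Q s z')⁻¹) • s,
        Submodule.add_mem _ hz'S (Submodule.smul_mem _ _ hsS), ?_, ?_⟩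
      · rw [polar_add_right, polar_smul_right, polar_self', hs.2]; simpa using hz'n
      · rw [q_add, q_smul, hs.2, polar_smul_right, polar_comm (⇑Q) z' s, smul_eq_mul]
        field_simp
        ring
    obtain ⟨P, hP, hPr, hPn⟩ := hyp_perp_in hQ hS hsS hzS hs.2 e2 e1
    obtain ⟨m, hm, hqm⟩ := exists_norm hPr (by omega) (c := -1) (by decide)
    obtain ⟨hmS, hsm, -⟩ := (hP m).mp hm
    have hqm0 := (mem_perp.mp hmS).2
    have key : ∀ x y : V, Q x = -1 → Q y = -1 → polar Q x y = 0 → ∀ z,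
        act Q [x + y, x - y] z = (z - ((-1 : K) * polar Q y z) • y) - ((-1 : K) * polar Q x z) • x := by
      intro x y hx hy hxy z
      have e1 : polar Q (x + y) (x - y) = 0 := by
        rw [polar_add_left, polar_sub_right, polar_sub_right, polar_self', polar_self', hx, hy, hxy,
          polar_comm (⇑Q) y x, hxy]
        decide
      show (z - polar Q (x - y) z • (x - y)) - polar Q (x + y) (z - polar Q (x - y) z • (x - y)) • (x + y) = _
      rw [polar_sub_right, polar_smul_right, e1, smul_zero, sub_zero, polar_add_left,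
        polar_sub_left]
      match_scalars <;>
        (generalize polar Q x z = A; generalize polar Q y z = B; revert A B; decide)
    have hm' : polar Q m (q + s) = 0 := by
      rw [polar_add_right, polar_comm (⇑Q) m q, hqm0, polar_comm (⇑Q) m s, hsm]; simp
    have hqm' : Q (q + s) = -1 := hqs'.trans h
    refine ⟨[q + m, q - m, m + (q + s), m - (q + s)], fun v hv => ?_, fun x => ?_⟩
    · simp only [List.mem_cons, List.not_mem_nil, or_false] at hv
      rcases hv with rfl | rfl | rfl | rfl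
      · rw [q_add, h, hqm, hqm0]; decide
      · rw [q_sub, h, hqm, hqm0]; decide
      · rw [q_add, hqm, hqm', hm']; decide
      · rw [q_sub, hqm, hqm', hm']; decide
    · show act Q [q + m, q - m] (act Q [m + (q + s), m - (q + s)] x) = _
      rw [key q m h hqm hqm0, key m (q + s) hqm hqm' hm', h]
      set x1 := x - ((-1 : K) * polar Q (q + s) x) • (q + s) with hx1
      have e3 : polar Q m x1 = polar Q m x := by
        rw [hx1, polar_sub_right, polar_smul_right, hm']; simp
      simp only [polar_sub_right, polar_smul_right, polar_self', hqm, hqm0, hm', e3,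
        smul_eq_mul, mul_zero, sub_zero]
      match_scalars <;> first | ring | (generalize polar Q m x = A; revert A; decide)

/-- The radical direction of `c` at `ρ α`. -/
def Dir (Q : QuadraticForm K V) (ρ : V → G) (c : G) (α s : V) : Prop :=
  Q α = 1 ∧ Commute c (ρ α) ∧ Sing Q s ∧ polar Q α s = 0 ∧
    ∀ u, Q u = 1 → polar Q α u = 0 → (Commute c (ρ u) ↔ polar Q s u = 0)

omit hn hloc C in
theorem line_norm {α s : V} (hα : Q α = 1) (hs : Sing Q s) (h : polar Q α s = 0) (k : K) :
    Q (α + k • s) = 1 := by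
  rw [q_add, q_smul, hα, hs.2, polar_smul_right, h]; simp

variable {c : G} (hc : c ∈ D) (hdc : ¬ Commute d c)
include hc hdc

/-- Perpendicular neighbours have the same direction. -/
theorem dir_same {α η s : V} (hD : Dir Q ρ c α s) (hη : Q η = 1) (hαη : polar Q α η = 0)
    (hcη : Commute c (ρ η)) : Dir Q ρ c η s := by
  obtain ⟨hα, hcα, hs, hαs, hiff⟩ := hD
  have hsη := (hiff η hη hαη).mp hcη
  obtain ⟨t, ht', hηt, ht_iff⟩ := at_edge ht hQ hn hloc C hc hdc hη hcη
  have hηα : polar Q η α = 0 := by rw [polar_comm]; exact hαη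
  have hαt : polar Q α t = 0 := by rw [polar_comm]; exact (ht_iff α hα hηα).mp hcα
  have hηs : polar Q η s = 0 := by rw [polar_comm]; exact hsη
  have hηS : η ∈ perp Q ⊤ α := mem_perp.mpr ⟨trivial, hαη⟩
  have hS := regOn_perp (regOn_perp (regOn_top hQ) (u := α) trivial (hα ▸ one_ne_zero)) hηS
    (hη ▸ one_ne_zero)
  have h1 := finrank_perp (Q := Q) (S := ⊤) (u := α) trivial (hα ▸ one_ne_zero)
  have h2 := finrank_perp (Q := Q) hηS (hη ▸ one_ne_zero)
  rw [finrank_top] at h1
  set S := perp Q (perp Q ⊤ α) η with hSdef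
  have hsS : s ∈ S := mem_perp.mpr ⟨mem_perp.mpr ⟨trivial, hαs⟩, hηs⟩
  have htS : t ∈ S := mem_perp.mpr ⟨mem_perp.mpr ⟨trivial, hαt⟩, hηt⟩
  suffices h : ∃ k : K, t = k • s by
    obtain ⟨k, hk⟩ := h
    have hk0 : k ≠ 0 := fun e => ht'.1 (by rw [hk, e, zero_smul])
    refine ⟨hη, hcη, hs, hηs, fun u hu hηu => (ht_iff u hu hηu).trans ?_⟩
    rw [hk, polar_smul_left, smul_eq_mul, mul_eq_zero, or_iff_right hk0]
  by_cases h4 : 4 ≤ Module.finrank K S
  · exact eq_smul_small hQ hS h4 hsS htS hs ht'.2 (fun v hvS hv hsv => by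
      obtain ⟨hv1, hηv⟩ := mem_perp.mp hvS
      exact (ht_iff v hv hηv).mp ((hiff v hv (mem_perp.mp hv1).2).mpr hsv))
  -- dimension five: move `t` keeping `s`
  by_cases hst : polar Q s t = 0
  · by_contra hno
    push Not at hno
    obtain ⟨z', hz'S, hz'n⟩ : ∃ z' ∈ S, polar Q s z' ≠ 0 := by
      by_contra hno'
      push Not at hno'
      exact hs.1 (hS s hsS hno')
    set z := z' + (-(Q z') * (polar Q s z')⁻¹) • s with hz
    have hzS : z ∈ S := S.add_mem hz'S (S.smul_mem _ hsS)
    have e1 : polar Q s z ≠ 0 := by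
      rw [hz, polar_add_right, polar_smul_right, polar_self', hs.2]; simpa using hz'n
    have e2 : Q z = 0 := by
      rw [hz, q_add, q_smul, hs.2, polar_smul_right, polar_comm (⇑Q) z' s, smul_eq_mul]
      field_simp
      ring
    obtain ⟨P, hP, hPr, hPn⟩ := hyp_perp_in hQ hS hsS hzS hs.2 e2 e1
    set k := polar Q z t * (polar Q s z)⁻¹
    have htP : t - k • s ∈ P := by
      refine (hP _).mpr ⟨S.sub_mem htS (S.smul_mem _ hsS), ?_, ?_⟩
      · rw [polar_sub_right, polar_smul_right, polar_self', hs.2, hst]; simp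
      · rw [polar_sub_right, polar_smul_right, polar_comm (⇑Q) z s, smul_eq_mul, mul_assoc,
          inv_mul_cancel₀ e1]
        simp
    have hne : (⟨t - k • s, htP⟩ : P) ≠ 0 := fun e => hno k (sub_eq_zero.mp (congrArg Subtype.val e))
    have hP1 : Module.finrank K P = 1 := by omega
    refine hne (Subtype.ext (hPr _ htP fun y hy => ?_))
    obtain ⟨l, hl⟩ := (finrank_eq_one_iff_of_nonzero' _ hne).mp hP1 ⟨y, hy⟩
    have hl' : l • (t - k • s) = y := congrArg Subtype.val hl
    have hq : Q (t - k • s) = 0 := by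
      rw [q_sub, q_smul, hs.2, ht'.2, polar_smul_right, polar_comm (⇑Q) t s, hst]; simp
    rw [← hl', polar_smul_right, polar_self', hq]
    simp
  exfalso
  obtain ⟨P, hP, hPr, hPn⟩ := hyp_perp_in hQ hS hsS htS hs.2 ht'.2 hst
  obtain ⟨q, hqP, hqq⟩ := ThreeTransReflSeven78.exists_aniso hPr (by omega)
  obtain ⟨hqS, hsq, htq⟩ := (hP q).mp hqP
  obtain ⟨hq1, hηq⟩ := mem_perp.mp hqS
  have hαq := (mem_perp.mp hq1).2
  obtain ⟨l, hl, hact⟩ := exists_word hQ hn hqq hs (by rw [polar_comm]; exact hsq)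
  have hfix : ∀ y, polar Q q y = 0 → polar Q s y = 0 → act Q l y = y := fun y a b => by
    rw [hact, polar_add_left, a, b]; simp [a]
  have hfα := hfix α (by rw [polar_comm]; exact hαq) (by rw [polar_comm]; exact hαs)
  have hfη := hfix η (by rw [polar_comm]; exact hηq) hsη
  have hfs := hfix s (by rw [polar_comm]; exact hsq) (by rw [polar_self', hs.2]; simp)
  obtain ⟨hfd, hfD, hfc, hfρ⟩ := word_spec ht hQ C l hl
  set c' := conjw ρ l c
  have hdc' : ¬ Commute d c' := by rw [← hfd]; exact fun h => hdc ((hfc d c).mp h)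
  have hcα' : Commute c' (ρ α) := by
    have := (hfρ α hα).2
    rw [hfα] at this
    rw [← this, hfc]; exact hcα
  -- preimages
  have hpre : ∀ u, ∃ z, act Q l z = u := by
    have hinv : ∀ v : V, Q v = 1 → ∀ u, (u - polar Q v u • v) - polar Q v (u - polar Q v u • v) • v = u := by
      intro v hv u
      rw [polar_sub_right, polar_smul_right, polar_self', hv, smul_eq_mul,
        show ∀ a : K, a - a * (2 * 1) = -a by decide]
      simp
    clear hact hfα hfη hfs hfd hfD hfc hfρ hdc' hcα' hfix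
    induction l with
    | nil => exact fun u => ⟨u, rfl⟩
    | cons v l ih =>
      intro u
      obtain ⟨z, hz⟩ := ih (fun w hw => hl w (List.mem_cons_of_mem _ hw))
        (u - polar Q v u • v)
      refine ⟨z, ?_⟩
      show act Q l z - polar Q v (act Q l z) • v = u
      rw [hz]
      exact hinv v (hl v List.mem_cons_self) u
  have hq_pre : ∀ u z, act Q l z = u → Q u = 1 → Q z = 1 := fun u z e hu => by
    have h := act_polar hQ hn l hl z z
    rw [e, polar_self', polar_self', hu] at h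
    revert h; generalize Q z = a; revert a; decide
  have hdir : ∀ u, Q u = 1 → polar Q α u = 0 → (Commute c' (ρ u) ↔ polar Q s u = 0) := by
    intro u hu hαu
    obtain ⟨z, rfl⟩ := hpre u
    have hz := hq_pre _ z rfl hu
    rw [← (hfρ z hz).2, hfc, hiff z hz (by rw [← act_polar hQ hn l hl, hfα]; exact hαu),
      ← act_polar hQ hn l hl s z, hfs]
  have hcases := same_dir ht hQ hn hloc C hc (hfD c hc) hdc hdc' hα hcα hcα' hiff hdir
  have hdir2 : ∀ u, Q u = 1 → polar Q η u = 0 → (Commute c' (ρ u) ↔ Commute c (ρ u)) := by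
    intro u hu hηu
    obtain ⟨hD', -, hdu⟩ := C.mem u hu
    rcases hcases with e | e
    · exact (congrArg (fun x => Commute x (ρ u)) e) ▸ Iff.rfl
    · have hfix' : d * ρ u * d = ρ u := by rw [hdu.eq, mul_assoc, ht.sq d C.hd, mul_one]
      rw [show c' = d * c * d from e]
      constructor
      · intro h
        have := ht.commute_conj C.hd h
        rwa [ht.conj_conj C.hd, hfix'] at this
      · intro h
        have := ht.commute_conj C.hd h
        rwa [hfix'] at this
  -- the direction at `η` is both `t` and its image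
  set t' := act Q l t with htdef
  have ht'S : t' ∈ perp Q ⊤ η ∧ Q t' = 0 := by
    refine ⟨mem_perp.mpr ⟨trivial, ?_⟩, ?_⟩
    · rw [htdef, ← hfη, act_polar hQ hn l hl]; exact hηt
    · have h := act_polar hQ hn l hl t t
      rw [polar_self', polar_self', ht'.2, ← htdef] at h
      simpa using (mul_eq_zero.mp (h.trans (mul_zero _))).resolve_left (by decide)
  have hSη := regOn_perp (regOn_top hQ) (u := η) trivial (hη ▸ one_ne_zero)
  have hdη := finrank_perp (Q := Q) (S := ⊤) (u := η) trivial (hη ▸ one_ne_zero)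
  rw [finrank_top] at hdη
  obtain ⟨k, hk⟩ := eq_smul_small hQ hSη (by omega) (mem_perp.mpr ⟨trivial, hηt⟩) ht'S.1 ht'
    ht'S.2 (fun v hvS hv htv => by
      have hηv := (mem_perp.mp hvS).2
      have hcv := (hdir2 v hv hηv).mpr ((ht_iff v hv hηv).mpr htv)
      obtain ⟨z, rfl⟩ := hpre v
      have hz := hq_pre _ z rfl hv
      rw [← (hfρ z hz).2, hfc] at hcv
      rw [htdef, act_polar hQ hn l hl]
      exact (ht_iff z hz (by rw [← act_polar hQ hn l hl, hfη]; exact hηv)).mp hcv)
  have h3 := congrArg (fun y => polar Q q y) hk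
  simp only [htdef, hact, polar_sub_right, polar_smul_right, polar_add_left, polar_add_right,
    polar_self', polar_comm (⇑Q) q t, htq, polar_comm (⇑Q) q s, hsq, smul_eq_mul] at h3
  clear hk
  revert h3 hst hqq
  generalize polar Q s t = A
  generalize Q q = B
  revert A B k
  decide

/-- The line through a point in the radical direction stays in the set. -/
theorem dir_line {α s : V} (hD : Dir Q ρ c α s) (k : K) : Dir Q ρ c (α + k • s) s := by
  obtain ⟨hα, hcα, hs, hαs, hiff⟩ := hD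
  obtain ⟨v, hv, hαv, hsv⟩ := exists_norm_perp hQ (by omega) hα hs hαs
  have hDv := dir_same ht hQ hn hloc C hc hdc ⟨hα, hcα, hs, hαs, hiff⟩ hv hαv
    ((hiff v hv hαv).mpr hsv)
  have h1 : polar Q v (α + k • s) = 0 := by
    rw [polar_add_right, polar_comm (⇑Q) v α, hαv, polar_smul_right, polar_comm (⇑Q) v s, hsv]; simp
  have h2 : Q (α + k • s) = 1 := line_norm ht hQ hα hs hαs k
  refine dir_same ht hQ hn hloc C hc hdc hDv h2 h1 ((hDv.2.2.2.2 _ h2 h1).mpr ?_)
  rw [polar_add_right, polar_comm (⇑Q) s α, hαs, polar_smul_right, polar_self', hs.2]; simp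

/-- A direction is perpendicular to the whole set. -/
theorem dir_perp {α η s : V} (hD : Dir Q ρ c α s) (hη : Q η = 1) (hcη : Commute c (ρ η)) :
    polar Q s η = 0 := by
  by_cases hex : ∃ k : K, polar Q (α + k • s) η = 0
  · obtain ⟨k, hk⟩ := hex
    have h := dir_same ht hQ hn hloc C hc hdc (dir_line ht hQ hn hloc C hc hdc hD k) hη hk hcη
    rw [polar_comm]; exact h.2.2.2.1
  · push Not at hex
    have h0 := hex 0
    have h1 := hex 1
    have h2 := hex (-1)
    simp only [polar_add_left, polar_smul_left, smul_eq_mul] at h0 h1 h2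
    revert h0 h1 h2
    generalize polar Q α η = A
    generalize polar Q s η = B
    revert A B
    decide

/-- One direction serves the whole set. -/
theorem dir_all {ξ r η : V} (hD : Dir Q ρ c ξ r) (hη : Q η = 1) (hcη : Commute c (ρ η)) :
    Dir Q ρ c η r := by
  have hrη := dir_perp ht hQ hn hloc C hc hdc hD hη hcη
  obtain ⟨t, ht', hηt, ht_iff⟩ := at_edge ht hQ hn hloc C hc hdc hη hcη
  have hDη : Dir Q ρ c η t := ⟨hη, hcη, ht', hηt, ht_iff⟩
  obtain ⟨hξ, hcξ, hr, hξr, hiff⟩ := hD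
  have hS := regOn_perp (regOn_top hQ) (u := ξ) trivial (hξ ▸ one_ne_zero)
  have hd' := finrank_perp (Q := Q) (S := ⊤) (u := ξ) trivial (hξ ▸ one_ne_zero)
  rw [finrank_top] at hd'
  obtain ⟨k, hk⟩ := eq_smul_small hQ hS (by omega) (mem_perp.mpr ⟨trivial, hξr⟩)
    (mem_perp.mpr ⟨trivial, by
      rw [polar_comm]; exact dir_perp ht hQ hn hloc C hc hdc hDη hξ hcξ⟩) hr ht'.2 (u := t)
    (fun v hvS hv hrv => dir_perp ht hQ hn hloc C hc hdc hDη hv
      ((hiff v hv (mem_perp.mp hvS).2).mpr hrv))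
  have hk0 : k ≠ 0 := fun e => ht'.1 (by rw [hk, e, zero_smul])
  refine ⟨hη, hcη, hr, by rw [polar_comm]; exact hrη, fun u hu hηu => (ht_iff u hu hηu).trans ?_⟩
  rw [hk, polar_smul_left, smul_eq_mul, mul_eq_zero, or_iff_right hk0]

/-- The perpendicular of a further member is that of a singular vector. -/
theorem exists_perp (hM : ∃ ξ, Q ξ = 1 ∧ Commute c (ρ ξ)) :
    ∃ r, Sing Q r ∧ ∀ v, Q v = 1 → (Commute c (ρ v) ↔ polar Q r v = 0) := by
  obtain ⟨ξ, hξ, hcξ⟩ := hM
  obtain ⟨r, hr, hξr, hiff⟩ := at_edge ht hQ hn hloc C hc hdc hξ hcξ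
  have hD : Dir Q ρ c ξ r := ⟨hξ, hcξ, hr, hξr, hiff⟩
  refine ⟨r, hr, fun u hu => ⟨dir_perp ht hQ hn hloc C hc hdc hD hu, fun hru => ?_⟩⟩
  by_contra hcu
  have hξu : polar Q ξ u ≠ 0 := fun e => hcu ((hiff u hu e).mpr hru)
  obtain ⟨w, hw, huw, hrw⟩ := exists_norm_perp hQ (by omega) hu hr (by rw [polar_comm]; exact hru)
  have hcw : ¬ Commute c (ρ w) := fun h => hcu
    (((dir_all ht hQ hn hloc C hc hdc hD hw h).2.2.2.2 u hu (by rw [polar_comm]; exact huw)).mpr hru)
  have hξw : polar Q ξ w ≠ 0 := fun e => hcw ((hiff w hw e).mpr hrw)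
  obtain ⟨huw', hune⟩ := C.commute_of_perp hu hw huw
  obtain ⟨huD, hud, hdu⟩ := C.mem u hu
  obtain ⟨hwD, hwd, hdw⟩ := C.mem w hw
  -- the second member
  set c' := ρ w * (ρ u * c * ρ u) * ρ w with hc'
  have hc'D : c' ∈ D := ht.conj_mem hwD (ht.conj_mem huD hc)
  obtain ⟨hne, hcc⟩ := ht.f2 hc hwD huD hcw hcu huw'.symm hune.symm
  have e0 : ρ w * ρ u * c * ρ u * ρ w = c' := by rw [hc']; group
  rw [e0] at hne hcc
  have hfix : ∀ y ∈ D, Commute d y → y * d * y = d := fun y hy h => by
    rw [h.symm.eq, mul_assoc, ht.sq y hy, mul_one]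
  have hdc' : ¬ Commute d c' := by
    intro h
    have h1 := ht.commute_conj huD (ht.commute_conj hwD h)
    rw [hfix _ hwD hdw, hfix _ huD hdu, hc', ht.conj_conj hwD, ht.conj_conj huD] at h1
    exact hdc h1
  -- images of points
  set f : V → V := fun z => (z - polar Q u z • u) - polar Q w (z - polar Q u z • u) • w with hf
  have hfq : ∀ z, Q z = 1 → Q (f z) = 1 ∧ ρ w * (ρ u * ρ z * ρ u) * ρ w = ρ (f z) := fun z hz => by
    have h1 := C.norm_of_refl hz hu
    exact ⟨C.norm_of_refl h1 hw, by rw [C.conj z u hz hu, C.conj _ w h1 hw]⟩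
  have hfr : ∀ z, polar Q r (f z) = polar Q r z := fun z => by
    simp only [hf, polar_sub_right, polar_smul_right, hru, hrw]; simp
  have hff : ∀ z, f z = z - polar Q u z • u - polar Q w z • w := fun z => by
    simp only [hf, polar_sub_right, polar_smul_right, polar_comm (⇑Q) w u, huw, smul_eq_mul,
      mul_zero, sub_zero]
  have hfpolar : ∀ y z, polar Q (f y) (f z) = polar Q y z := fun y z => by
    simp only [hff, polar_sub_left, polar_sub_right, polar_smul_left, polar_smul_right,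
      polar_self', hu, hw, huw, polar_comm (⇑Q) w u, polar_comm (⇑Q) y u, polar_comm (⇑Q) y w,
      smul_eq_mul]
    ring
  obtain ⟨hη, hρη⟩ := hfq ξ hξ
  have hξη : polar Q ξ (f ξ) = 0 := by
    rw [hff, polar_sub_right, polar_sub_right, polar_smul_right, polar_smul_right, polar_self', hξ,
      polar_comm (⇑Q) u ξ, polar_comm (⇑Q) w ξ, smul_eq_mul, smul_eq_mul, mul_self_one hξu,
      mul_self_one hξw]
    decide
  have hrξ : polar Q r ξ = 0 := by rw [polar_comm]; exact hξr
  have hcη : Commute c (ρ (f ξ)) := (hiff _ hη hξη).mpr (by rw [hfr]; exact hrξ)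
  have hc'η : Commute c' (ρ (f ξ)) := by
    rw [← hρη, hc']
    exact ht.commute_conj hwD (ht.commute_conj huD hcξ)
  refine no_twin ht hQ hn hloc C hc hc'D hdc hdc' hcc (Ne.symm hne) hη hcη hc'η
    (dir_all ht hQ hn hloc C hc hdc hD hη hcη).2.2.2.2 fun z hz hηz => ?_
  · have hff2 : f (f z) = z := by
      rw [hff (f z), hff z]
      simp only [polar_sub_right, polar_smul_right, polar_self', hu, hw, huw, polar_comm (⇑Q) w u,
        smul_eq_mul]
      have k3 : ∀ a : K, a - a * (2 * 1) = -a := by decide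
      simp only [k3, mul_zero, sub_zero, neg_smul]
      abel
    obtain ⟨hz', hρz⟩ := hfq z hz
    have e1 : Commute c' (ρ z) ↔ Commute c (ρ (f z)) := by
      obtain ⟨-, h2⟩ := hfq _ hz'
      rw [hff2] at h2
      rw [hc', ← h2]
      constructor
      · intro h
        have := ht.commute_conj huD (ht.commute_conj hwD h)
        rwa [ht.conj_conj hwD, ht.conj_conj huD, ht.conj_conj hwD, ht.conj_conj huD] at this
      · intro h
        exact ht.commute_conj hwD (ht.commute_conj huD h)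
    rw [e1, hiff _ hz' (by rw [← hfpolar, hff2]; exact hηz), hfr]

end

end Cfsg.Agent.FischerOrthPerp47
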