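import Cfsg.Agent.Lib.FischerOrthChart94

/-!
# The singular vector attached to a member not commuting with the base member
-/

set_option autoImplicit false
set_option linter.unusedSectionVars false

namespace Cfsg.Agent.FischerOrth94

open QuadraticMap Cfsg.Agent

variable {G : Type*} [Group G] {D : Set G} {m : ℕ} {Q : QuadraticForm (ZMod 3) (Vec m)}

/-- The points orthogonal to a singular vector are connected by orthogonality. -/
def Linked (Q : QuadraticForm (ZMod 3) (Vec m)) : Prop :=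
  ∀ u v v' : Vec m, Q u = 0 → u ≠ 0 → Q v = 1 → polar Q u v = 0 → Q v' = 1 → polar Q u v' = 0 →
    Relation.ReflTransGen (fun a b => Q b = 1 ∧ polar Q u b = 0 ∧ polar Q a b = 0) v v'

theorem linked_of_seven (hQ : (polarBilin Q).Nondegenerate) (hm : 7 ≤ m) : Linked Q := by
  intro u v v' _ _ hv huv hv' huv'
  obtain ⟨z, hz, hvz, huz, hv'z⟩ := exists_point_three hQ hm hv u v'
  refine (Relation.ReflTransGen.single ⟨hz, huz, hvz⟩).tail ⟨hv', huv', ?_⟩
  rw [pol_comm]
  exact hv'z

/-- The standing hypotheses: a chart at every member. -/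
structure Setting (D : Set G) (Q : QuadraticForm (ZMod 3) (Vec m)) where
  hD : Cfsg.IsThreeTranspositionGroup D
  hQ : (polarBilin Q).Nondegenerate
  hm : 6 ≤ m
  linked : Linked Q
  C : ∀ d ∈ D, Chart D d Q

namespace Setting

variable (S : Setting D Q)

/-- A chosen link between the charts at two commuting members. -/
noncomputable def link {d w : G} (hd : d ∈ D) (hw : w ∈ Dd D d) :
    Link (S.C d hd) (S.C w hw.1) :=
  (exists_link S.hD S.hQ S.hm hd hw (S.C d hd) (S.C w hw.1)).some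

/-- `y` has the vector `u` at `d`. -/
def Good {d : G} (hd : d ∈ D) (y : G) (u : Vec m) : Prop :=
  (∀ x ∈ Dd D d, (Commute y x ↔ polar Q u ((S.C d hd).f x) = 0)) ∧
    ∀ w, ∀ hw : w ∈ Dd D d, Commute w y →
      ∃ e : ZMod 3, e * e = 1 ∧ Rep (S.link hd hw) y 1 (e • u)

variable {d : G} (hd : d ∈ D)

include S hd

theorem rep_singular {w : G} {hw : w ∈ Dd D d} {y : G} {u : Vec m} (hdy : ¬ Commute d y)
    (h : Rep (S.link hd hw) y 1 u) : Q u = 0 ∧ u ≠ 0 := by
  refine ⟨by simpa using Rep.norm_eq S.hQ S.hm hd hw h, fun h0 => hdy ?_⟩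
  subst h0
  rw [Rep.inj S.hQ S.hm hd hw h (Rep.base S.hQ S.hm hd hw) (one_mul 1) (one_mul 1).symm
    (one_smul _ _).symm]

theorem rep_iff {w : G} {hw : w ∈ Dd D d} {y : G} {u : Vec m} (hdy : ¬ Commute d y)
    (h : Rep (S.link hd hw) y 1 u) {x : G} (hx : x ∈ Common D d w) :
    Commute y x ↔ polar Q u ((S.C d hd).f x) = 0 := by
  rw [Rep.commute_iff S.hQ S.hm hd hw h (Rep.point S.hQ S.hm hd hw hx)
    (fun e => hdy (e ▸ hx.1.2.2))]
  simp

/-- Coordinates at commuting witnesses agree up to sign. -/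
theorem rep_agree {w w' : G} {hw : w ∈ Dd D d} {hw' : w' ∈ Dd D d} {y : G} {u u' : Vec m}
    (hdy : ¬ Commute d y) (hwy : Commute w y) (hw'y : Commute w' y) (hww : w' ≠ w) (hcom : Commute w w')
    (h : Rep (S.link hd hw) y 1 u) (h' : Rep (S.link hd hw') y 1 u') : PM u' u := by
  set c := S.C d hd with hc
  have hcw : polar Q (c.f w) (c.f w') = 0 := (c.comm w hw w' hw' hww.symm).mp hcom
  have h1 : polar Q (c.f w) u = 0 := Rep.perp_w S.hQ S.hm hd hw h
  have h2 : polar Q (c.f w') u' = 0 := Rep.perp_w S.hQ S.hm hd hw' h'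
  have h3 : polar Q (c.f w') u = 0 := by
    rw [pol_comm]
    exact (S.rep_iff hd hdy h ⟨hw', hw'.1, hww, hcom⟩).mp hw'y.symm
  have h4 : polar Q (c.f w) u' = 0 := by
    rw [pol_comm]
    exact (S.rep_iff hd hdy h' ⟨hw, hw.1, hww.symm, hcom.symm⟩).mp hwy.symm
  obtain ⟨hu, hu0⟩ := S.rep_singular hd hdy h
  obtain ⟨hu', hu'0⟩ := S.rep_singular hd hdy h'
  by_cases hind : ∃ k : ZMod 3, u' = k • u
  · obtain ⟨k, rfl⟩ := hind
    refine PM.smul ?_ u
    have hk : k ≠ 0 := fun e => hu'0 (by rw [e, zero_smul])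
    have key : ∀ t : ZMod 3, t ≠ 0 → t * t = 1 := by decide
    exact key k hk
  exfalso
  push Not at hind
  obtain ⟨z, hz, hza, hzu, hzu'⟩ := exists_point_separating S.hQ ![c.f w, c.f w']
    (fun i => by fin_cases i <;> simp [c.norm w hw, c.norm w' hw']) (orth2 hcw)
    (by have := S.hm; omega) hu hu' hu0 (fun i => by fin_cases i <;> assumption)
    (fun i => by fin_cases i <;> assumption) hind
  obtain ⟨x, hx, hxz⟩ := chart_point' hw c hz (by simpa using hza 0)
  obtain ⟨x', hx', hx'z⟩ := chart_point' hw' c hz (by simpa using hza 1)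
  have hxx : x = x' := c.inj x hx.1 x' hx'.1 (hxz.trans hx'z.symm)
  subst hxx
  have e1 : Commute y x := (S.rep_iff hd hdy h hx).mpr ((hxz.polar_eq_zero' _).mpr hzu)
  exact hzu' ((hxz.polar_eq_zero' _).mp ((S.rep_iff hd hdy h' hx').mp e1))

/-- The vector of a member having a common commuting member with `d`. -/
theorem exists_good {y w0 : G} (hy : y ∈ D) (hdy : ¬ Commute d y) (hw0 : w0 ∈ Dd D d)
    (hw0y : Commute w0 y) : ∃ u, Q u = 0 ∧ u ≠ 0 ∧ S.Good hd y u := by
  obtain ⟨u, hu⟩ := Rep.exists_coord S.hQ S.hm hd hw0 (S.link hd hw0) hy hw0y hdy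
  obtain ⟨hu1, hu2⟩ := S.rep_singular hd hdy hu
  set c := S.C d hd
  have h0 : polar Q u (c.f w0) = 0 := by rw [pol_comm]; exact Rep.perp_w S.hQ S.hm hd hw0 hu
  -- all points orthogonal to `u` commute with `y` and give the same coordinates
  have hall : ∀ v, Q v = 1 → polar Q u v = 0 → ∀ x, ∀ hx : x ∈ Dd D d, PM (c.f x) v →
      Commute x y ∧ ∃ e : ZMod 3, e * e = 1 ∧ Rep (S.link hd hx) y 1 (e • u) := by
    intro v hv huv
    have hpath := S.linked u (c.f w0) v hu1 hu2 (c.norm w0 hw0) h0 hv huv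
    clear hv huv
    induction hpath with
    | refl =>
      intro x hx hxv
      obtain rfl := c.inj x hx w0 hw0 hxv
      exact ⟨hw0y, 1, one_mul 1, by rwa [one_smul]⟩
    | @tail a b hab hstep ih =>
      intro x hx hxb
      have ha : Q a = 1 := by
        rcases hab.cases_tail with h | ⟨c', -, h⟩
        · rw [h]; exact c.norm w0 hw0
        · exact h.1
      obtain ⟨xa, hxa, hxaa⟩ := c.surj a ha
      obtain ⟨hxay, e, he, hrep⟩ := ih xa hxa hxaa
      have hab0 : polar Q (c.f xa) (c.f x) = 0 :=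
        (hxaa.polar_eq_zero _).mpr ((hxb.polar_eq_zero' _).mpr hstep.2.2)
      have hne : x ≠ xa := fun h => by
        rw [h, c.polar_self hxa] at hab0
        exact absurd hab0 (by decide)
      have hcom : Commute xa x := (c.comm xa hxa x hx hne.symm).mpr hab0
      have hxy : Commute x y := by
        refine ((S.rep_iff hd hdy hrep ⟨hx, hx.1, hne, hcom⟩).mpr ?_).symm
        rw [polar_smul_left, (hxb.polar_eq_zero' u).mpr hstep.2.1, smul_zero]
      obtain ⟨u', hu'⟩ := Rep.exists_coord S.hQ S.hm hd hx (S.link hd hx) hy hxy hdy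
      obtain ⟨e', he', hu'e⟩ := (S.rep_agree hd hdy hxay hxy hne hcom hrep hu').trans (PM.smul he u)
      exact ⟨hxy, e', he', hu'e ▸ hu'⟩
  refine ⟨u, hu1, hu2, fun x hx => ?_, fun w hw hwy => ?_⟩
  · obtain ⟨z, hz, huz, hxz⟩ := exists_point_two S.hQ S.hm u (c.f x)
    obtain ⟨xz, hxz1, hxzz⟩ := c.surj z hz
    obtain ⟨-, e, he, hrep⟩ := hall z hz huz xz hxz1 hxzz
    have h1 : polar Q (c.f xz) (c.f x) = 0 := by
      rw [hxzz.polar_eq_zero, pol_comm]; exact hxz
    have hne : x ≠ xz := fun h => by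
      rw [h, c.polar_self hxz1] at h1
      exact absurd h1 (by decide)
    rw [S.rep_iff hd hdy hrep ⟨hx, hx.1, hne, (c.comm xz hxz1 x hx hne.symm).mpr h1⟩,
      polar_smul_left, smul_eq_mul, mul_eq_zero]
    simp [sign_ne_zero he]
  · have huw : polar Q u (c.f w) = 0 := by
      obtain ⟨z, hz, huz, hxz⟩ := exists_point_two S.hQ S.hm u (c.f w)
      obtain ⟨xz, hxz1, hxzz⟩ := c.surj z hz
      obtain ⟨-, e, he, hrep⟩ := hall z hz huz xz hxz1 hxzz
      have h1 : polar Q (c.f xz) (c.f w) = 0 := by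
        rw [hxzz.polar_eq_zero, pol_comm]; exact hxz
      have hne : w ≠ xz := fun h => by
        rw [h, c.polar_self hxz1] at h1
        exact absurd h1 (by decide)
      have := (S.rep_iff hd hdy hrep ⟨hw, hw.1, hne, (c.comm xz hxz1 w hw hne.symm).mpr h1⟩).mp hwy.symm
      rw [polar_smul_left, smul_eq_mul, mul_eq_zero] at this
      exact this.resolve_left (sign_ne_zero he)
    exact (hall (c.f w) (c.norm w hw) huw w hw (PM.refl _)).2

/-- Every member has a member commuting with it and with `d`. -/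
theorem exists_common (hconn : (Cfsg.commutingGraph D).Connected) {y : G} (hy : y ∈ D)
    (hdy : ¬ Commute d y) : ∃ w ∈ Dd D d, Commute w y := by
  have step : ∀ a b : G, a ∈ D → b ∈ D → Commute a b →
      (Commute d a ∨ ∃ w ∈ Dd D d, Commute w a) → Commute d b ∨ ∃ w ∈ Dd D d, Commute w b := by
    intro a b ha hb hab hdist
    by_cases hdb : Commute d b
    · exact Or.inl hdb
    right
    by_cases hda : Commute d a
    · by_cases had : a = d
      · exact absurd (had ▸ hab) hdb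
      · exact ⟨a, ⟨ha, had, hda⟩, hab⟩
    obtain ⟨w, hw, hwa⟩ := hdist.resolve_left hda
    have hwa' : w ∈ Dd D a := ⟨hw.1, fun h => hda (h ▸ hw.2.2), hwa.symm⟩
    obtain ⟨u', -, -, hgood, -⟩ := S.exists_good ha hd (fun h => hda h.symm) hwa' hw.2.2.symm
    by_cases hba : b = a
    · exact ⟨w, hw, hba ▸ hwa⟩
    have hb' : b ∈ Dd D a := ⟨hb, hba, hab⟩
    obtain ⟨z, hz, huz, hbz⟩ := exists_point_two S.hQ S.hm u' ((S.C a ha).f b)
    obtain ⟨x, hx, hxz⟩ := (S.C a ha).surj z hz
    have hxb : polar Q ((S.C a ha).f x) ((S.C a ha).f b) = 0 := by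
      rw [hxz.polar_eq_zero, pol_comm]; exact hbz
    have hne : x ≠ b := fun h => by
      rw [h, (S.C a ha).polar_self hb'] at hxb
      exact absurd hxb (by decide)
    have hdx : Commute d x := (hgood x hx).mpr ((hxz.polar_eq_zero' _).mpr huz)
    exact ⟨x, ⟨hx.1, fun h => hda (h ▸ hx.2.2).symm, hdx⟩, ((S.C a ha).comm x hx b hb' hne).mpr hxb⟩
  suffices key : ∀ {a b : D}, (Cfsg.commutingGraph D).Walk a b →
      (Commute d (a : G) ∨ ∃ w ∈ Dd D d, Commute w (a : G)) →
      Commute d (b : G) ∨ ∃ w ∈ Dd D d, Commute w (b : G) by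
    obtain ⟨p⟩ := hconn ⟨d, hd⟩ ⟨y, hy⟩
    exact (key p (Or.inl (Commute.refl d))).resolve_left hdy
  intro a b p
  induction p with
  | nil => exact id
  | @cons u v _ huv _ ih =>
    intro h
    refine ih (step u v u.2 v.2 ?_ h)
    simp only [Cfsg.commutingGraph, SimpleGraph.fromRel_adj] at huv
    exact huv.2.elim id Commute.symm

theorem exists_vector (hconn : (Cfsg.commutingGraph D).Connected) {y : G} (hy : y ∈ D)
    (hdy : ¬ Commute d y) : ∃ u, Q u = 0 ∧ u ≠ 0 ∧ S.Good hd y u := by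
  obtain ⟨w, hw, hwy⟩ := S.exists_common hd hconn hy hdy
  exact S.exists_good hd hy hdy hw hwy

end Setting

end Cfsg.Agent.FischerOrth94
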