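import Cfsg.Agent.Lib.FischerOrthSpace94

/-!
# Rigidity of the points of a quadratic space over the field with three elements

Two maps of a set into the vectors of norm one which agree on orthogonality and on lines have
switching equivalent Gram matrices.
-/

set_option autoImplicit false

namespace Cfsg.Agent.FischerOrth94

open QuadraticMap

variable {m : ℕ} {Q : QuadraticForm (ZMod 3) (Vec m)}

/-- Equality up to sign. -/
def PM (v w : Vec m) : Prop := ∃ e : ZMod 3, e * e = 1 ∧ v = e • w

theorem sign_ne_zero {e : ZMod 3} (h : e * e = 1) : e ≠ 0 := fun h0 => by simp [h0] at h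

theorem PM.refl (v : Vec m) : PM v v := ⟨1, one_mul 1, (one_smul _ v).symm⟩

theorem PM.symm {v w : Vec m} (h : PM v w) : PM w v := by
  obtain ⟨e, he, rfl⟩ := h
  exact ⟨e, he, by rw [smul_smul, he, one_smul]⟩

theorem PM.trans {u v w : Vec m} (h : PM u v) (h' : PM v w) : PM u w := by
  obtain ⟨e, he, rfl⟩ := h
  obtain ⟨e', he', rfl⟩ := h'
  exact ⟨e * e', by rw [mul_mul_mul_comm, he, he', one_mul], by rw [smul_smul]⟩

theorem PM.neg (v : Vec m) : PM (-v) v := ⟨-1, by decide, by rw [neg_one_smul]⟩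

theorem PM.smul {e : ZMod 3} (he : e * e = 1) (v : Vec m) : PM (e • v) v := ⟨e, he, rfl⟩

theorem PM.polar_eq_zero {v v' : Vec m} (w : Vec m) (h : PM v v') :
    polar Q v w = 0 ↔ polar Q v' w = 0 := by
  obtain ⟨e, he, rfl⟩ := h
  rw [polar_smul_left, smul_eq_mul, mul_eq_zero]
  simp [sign_ne_zero he]

theorem PM.polar_eq_zero' {v v' : Vec m} (w : Vec m) (h : PM v v') :
    polar Q w v = 0 ↔ polar Q w v' = 0 := by
  rw [pol_comm, pol_comm w, h.polar_eq_zero]

theorem PM.eq_one {v v' : Vec m} (h : PM v v') : Q v = Q v' := by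
  obtain ⟨e, he, rfl⟩ := h
  rw [map_smul', he, one_mul]

/-- Switching. -/
theorem gram_switch {α : Type*} (f g : α → Vec m) (X : Set α) (op : α → α → α)
    (hf : ∀ x ∈ X, Q (f x) = 1) (hg : ∀ x ∈ X, Q (g x) = 1)
    (hcomm : ∀ x ∈ X, ∀ y ∈ X, (polar Q (f x) (f y) = 0 ↔ polar Q (g x) (g y) = 0))
    (hop : ∀ x ∈ X, ∀ y ∈ X, polar Q (f x) (f y) ≠ 0 → op x y ∈ X ∧
      PM (f (op x y)) (f y - polar Q (f x) (f y) • f x) ∧
      PM (g (op x y)) (g y - polar Q (g x) (g y) • g x))
    {b : α} (hb : b ∈ X)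
    (hjoin : ∀ x ∈ X, polar Q (f b) (f x) = 0 →
      ∃ y ∈ X, polar Q (f b) (f y) ≠ 0 ∧ polar Q (f x) (f y) ≠ 0) :
    ∃ η : α → ZMod 3, (∀ x, η x * η x = 1) ∧
      ∀ x ∈ X, ∀ y ∈ X, polar Q (g x) (g y) = η x * η y * polar Q (f x) (f y) := by
  set S : Set α := {x | x ∈ X ∧ polar Q (f b) (f x) ≠ 0} with hS
  set η0 : α → ZMod 3 := fun x => polar Q (g b) (g x) * polar Q (f b) (f x) with hη0
  have hsgn : ∀ x ∈ S, η0 x * η0 x = 1 := by
    intro x hx
    have h2 : polar Q (g b) (g x) ≠ 0 := fun h => hx.2 ((hcomm b hb x hx.1).mpr h)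
    simp only [η0]
    have h1 := hx.2
    revert h1 h2
    generalize polar Q (f b) (f x) = p
    generalize polar Q (g b) (g x) = q
    revert p q; decide
  have hS2 : ∀ x ∈ S, ∀ y ∈ S, polar Q (g x) (g y) = η0 x * η0 y * polar Q (f x) (f y) := by
    intro x hx y hy
    by_cases hxy : polar Q (f x) (f y) = 0
    · rw [hxy, mul_zero, (hcomm x hx.1 y hy.1).mp hxy]
    have hxy' : polar Q (g x) (g y) ≠ 0 := fun h => hxy ((hcomm x hx.1 y hy.1).mpr h)
    obtain ⟨hz, hzf, hzg⟩ := hop x hx.1 y hy.1 hxy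
    have hiff := hcomm b hb _ hz
    rw [hzf.polar_eq_zero', hzg.polar_eq_zero', polar_sub_right, polar_sub_right, polar_smul_right,
      polar_smul_right] at hiff
    have h1 := hx.2
    have h2 := hy.2
    have h1' : polar Q (g b) (g x) ≠ 0 := fun h => h1 ((hcomm b hb x hx.1).mpr h)
    have h2' : polar Q (g b) (g y) ≠ 0 := fun h => h2 ((hcomm b hb y hy.1).mpr h)
    simp only [η0, smul_eq_mul] at hiff ⊢
    have key : ∀ a1 a2 a3 : ZMod 3, a1 ≠ 0 → a2 ≠ 0 → a3 ≠ 0 →
        (a2 - a3 * a1 = 0 ↔ a1 * a2 * a3 = 1) := by decide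
    rw [key _ _ _ h1 h2 hxy, key _ _ _ h1' h2' hxy'] at hiff
    have key2 : ∀ p q : ZMod 3, p ≠ 0 → q ≠ 0 → (p = 1 ↔ q = 1) → q = p := by decide
    have hpq := key2 _ _ (mul_ne_zero (mul_ne_zero h1 h2) hxy) (mul_ne_zero (mul_ne_zero h1' h2') hxy') hiff
    have key3 : ∀ t : ZMod 3, t ≠ 0 → t * t = 1 := by decide
    linear_combination (polar Q (g b) (g x) * polar Q (g b) (g y)) * hpq -
      polar Q (g x) (g y) * (polar Q (g b) (g y) * polar Q (g b) (g y)) * key3 _ h1' -
      polar Q (g x) (g y) * key3 _ h2'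
  have hdec : ∀ x ∈ X, ∃ (η : ZMod 3) (p q : α) (c c' : ZMod 3), η * η = 1 ∧ p ∈ S ∧ q ∈ S ∧
      f x = c • f p + c' • f q ∧ g x = η • ((η0 p * c) • g p + (η0 q * c') • g q) := by
    intro x hx
    by_cases hxb : polar Q (f b) (f x) = 0
    · obtain ⟨y, hy, hby, hxy⟩ := hjoin x hx hxb
      rw [pol_comm] at hxy
      obtain ⟨hz, hzf, hzg⟩ := hop y hy x hx hxy
      obtain ⟨e, he, hze⟩ := hzf.symm
      obtain ⟨e', he', hze'⟩ := hzg.symm
      set z := op y x with hzdef
      have hzS : z ∈ S := by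
        refine ⟨hz, fun h => ?_⟩
        rw [hzf.polar_eq_zero', polar_sub_right, polar_smul_right, hxb, zero_sub, neg_eq_zero,
          smul_eq_mul, mul_eq_zero] at h
        exact h.elim hxy hby
      have hyS : y ∈ S := ⟨hy, hby⟩
      have hfx : f x = e • f z + polar Q (f y) (f x) • f y := by rw [← hze, sub_add_cancel]
      have hgx : g x = e' • g z + polar Q (g y) (g x) • g y := by rw [← hze', sub_add_cancel]
      have hyz := hS2 y hyS z hzS
      have e1 : e * polar Q (f y) (f z) = - polar Q (f y) (f x) := by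
        rw [← smul_eq_mul, ← polar_smul_right, ← hze, polar_sub_right, polar_smul_right, pol_self,
          hf y hy, smul_eq_mul]
        generalize polar Q (f y) (f x) = t; revert t; decide
      have e2 : e' * polar Q (g y) (g z) = - polar Q (g y) (g x) := by
        rw [← smul_eq_mul, ← polar_smul_right, ← hze', polar_sub_right, polar_smul_right, pol_self,
          hg y hy, smul_eq_mul]
        generalize polar Q (g y) (g x) = t; revert t; decide
      have hxy' : polar Q (g y) (g x) ≠ 0 := fun h => hxy ((hcomm y hy x hx).mpr h)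
      have hy1 := hsgn y hyS
      have hz1 := hsgn z hzS
      refine ⟨η0 y * (polar Q (g y) (g x) * polar Q (f y) (f x)), z, y, e, polar Q (f y) (f x), ?_,
        hzS, hyS, hfx, ?_⟩
      · revert hy1 hxy hxy'
        generalize η0 y = a
        generalize polar Q (g y) (g x) = p
        generalize polar Q (f y) (f x) = q
        revert a p q; decide
      · conv_lhs => rw [hgx]
        rw [smul_add, smul_smul, smul_smul]
        congr 2
        · have k1 : polar Q (f y) (f x) * e = - polar Q (f y) (f z) := by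
            clear hfx hgx hze hze'
            revert e1 he hxy
            generalize polar Q (f y) (f x) = q
            generalize polar Q (f y) (f z) = s
            revert e q s; decide
          have k2 : e' = -(polar Q (g y) (g x) * polar Q (g y) (g z)) := by
            clear hfx hgx hze hze'
            revert e2 he' hxy'
            generalize polar Q (g y) (g x) = p
            generalize polar Q (g y) (g z) = r
            revert e' p r; decide
          rw [k2, hyz]
          linear_combination -(η0 y * η0 z * polar Q (g y) (g x)) * k1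
        · revert hy1 hxy
          generalize η0 y = a
          generalize polar Q (g y) (g x) = p
          generalize polar Q (f y) (f x) = q
          revert a p q; decide
    · exact ⟨η0 x, x, x, 1, 0, hsgn x ⟨hx, hxb⟩, ⟨hx, hxb⟩, ⟨hx, hxb⟩, by simp,
        by rw [mul_one, mul_zero, zero_smul, add_zero, smul_smul, hsgn x ⟨hx, hxb⟩, one_smul]⟩
  choose η p q c c' hη hp hq hfd hgd using hdec
  classical
  refine ⟨fun x => if h : x ∈ X then η x h else 1, fun x => ?_, fun x hx y hy => ?_⟩
  · by_cases h : x ∈ X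
    · simp only [dif_pos h]; exact hη x h
    · simp only [dif_neg h]; exact one_mul 1
  simp only [dif_pos hx, dif_pos hy]
  rw [hgd x hx, hgd y hy, hfd x hx, hfd y hy]
  simp only [polar_add_left, polar_add_right, polar_smul_left, polar_smul_right, smul_eq_mul]
  rw [hS2 _ (hp x hx) _ (hp y hy), hS2 _ (hp x hx) _ (hq y hy), hS2 _ (hq x hx) _ (hp y hy),
    hS2 _ (hq x hx) _ (hq y hy)]
  have k1 := hsgn _ (hp x hx)
  have k2 := hsgn _ (hq x hx)
  have k3 := hsgn _ (hp y hy)
  have k4 := hsgn _ (hq y hy)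
  linear_combination
    (η x hx * η y hy * c x hx * c y hy * polar Q (f (p x hx)) (f (p y hy)) * (η0 (p y hy) * η0 (p y hy))) * k1 +
    (η x hx * η y hy * c x hx * c y hy * polar Q (f (p x hx)) (f (p y hy))) * k3 +
    (η x hx * η y hy * c x hx * c' y hy * polar Q (f (p x hx)) (f (q y hy)) * (η0 (q y hy) * η0 (q y hy))) * k1 +
    (η x hx * η y hy * c x hx * c' y hy * polar Q (f (p x hx)) (f (q y hy))) * k4 +
    (η x hx * η y hy * c' x hx * c y hy * polar Q (f (q x hx)) (f (p y hy)) * (η0 (p y hy) * η0 (p y hy))) * k2 +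
    (η x hx * η y hy * c' x hx * c y hy * polar Q (f (q x hx)) (f (p y hy))) * k3 +
    (η x hx * η y hy * c' x hx * c' y hy * polar Q (f (q x hx)) (f (q y hy)) * (η0 (q y hy) * η0 (q y hy))) * k2 +
    (η x hx * η y hy * c' x hx * c' y hy * polar Q (f (q x hx)) (f (q y hy))) * k4

end Cfsg.Agent.FischerOrth94
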