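import Mathlib

/-!
# Points and singular vectors of a quadratic space over the field with three elements

Elementary existence statements used in the recognition of the orthogonal 3-transposition groups:
vectors of a given norm orthogonal to given vectors, vectors of norm one separating given vectors,
singular vectors meeting given ones.
-/

set_option autoImplicit false

namespace Cfsg.Agent.FischerOrth94

open QuadraticMap

abbrev Vec (m : ℕ) := Fin m → ZMod 3

variable {m : ℕ} {Q : QuadraticForm (ZMod 3) (Vec m)}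

theorem ReflInv.inv_eq : ∀ a : ZMod 3, a⁻¹ = a := by decide +kernel

theorem pol_self (x : Vec m) : polar Q x x = 2 * Q x := by
  rw [QuadraticMap.polar_self]; simp

theorem pol_comm (x y : Vec m) : polar Q x y = polar Q y x := polar_comm (⇑Q) x y

theorem map_add' (x y : Vec m) : Q (x + y) = Q x + Q y + polar Q x y := QuadraticMap.map_add ⇑Q x y

theorem map_sub' (x y : Vec m) : Q (x - y) = Q x + Q y - polar Q x y := by
  rw [sub_eq_add_neg, map_add', QuadraticMap.map_neg, polar_neg_right]
  ring

theorem map_smul' (k : ZMod 3) (x : Vec m) : Q (k • x) = k * k * Q x := by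
  rw [QuadraticMap.map_smul, smul_eq_mul]

theorem map_add_smul (x y : Vec m) (k : ZMod 3) :
    Q (x + k • y) = Q x + k * k * Q y + k * polar Q x y := by
  rw [map_add', map_smul', polar_smul_right, smul_eq_mul]

theorem sep (hQ : (polarBilin Q).Nondegenerate) {x : Vec m} (h : ∀ y, polar Q x y = 0) : x = 0 :=
  hQ.1 x h

/-- Projection away from pairwise orthogonal anisotropic vectors. -/
theorem exists_proj {j : ℕ} (a : Fin j → Vec m) (ha : ∀ i, Q (a i) ≠ 0)
    (horth : ∀ i i', i ≠ i' → polar Q (a i) (a i') = 0) (y : Vec m) :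
    ∃ y', (∀ i, polar Q (a i) y' = 0) ∧ ∀ x, (∀ i, polar Q (a i) x = 0) → polar Q x y' = polar Q x y := by
  set c : Fin j → ZMod 3 := fun i => (2 * Q (a i))⁻¹ * polar Q (a i) y
  refine ⟨y - ∑ i, c i • a i, fun i => ?_, fun x hx => ?_⟩
  · show polarBilin Q (a i) (y - ∑ i', c i' • a i') = 0
    rw [map_sub, map_sum, Finset.sum_eq_single i]
    · rw [map_smul]
      show polar Q (a i) y - c i • polar Q (a i) (a i) = 0
      rw [pol_self, smul_eq_mul]
      have h2 : (2 : ZMod 3) * Q (a i) ≠ 0 := mul_ne_zero (by decide) (ha i)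
      simp only [c]
      rw [mul_right_comm, inv_mul_cancel₀ h2, one_mul, sub_self]
    · intro i' _ hi
      rw [map_smul]
      show c i' • polar Q (a i) (a i') = 0
      rw [horth i i' hi.symm, smul_zero]
    · simp
  · show polarBilin Q x (y - ∑ i', c i' • a i') = _
    rw [map_sub, map_sum, Finset.sum_eq_zero, sub_zero]
    · rfl
    intro i _
    rw [map_smul]
    show c i • polar Q x (a i) = 0
    rw [pol_comm, hx i, smul_zero]

/-- A vector orthogonal to given vectors and pairing to one with a given non-zero orthogonal one. -/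
theorem exists_dual (hQ : (polarBilin Q).Nondegenerate) {j : ℕ} (a : Fin j → Vec m)
    (ha : ∀ i, Q (a i) ≠ 0) (horth : ∀ i i', i ≠ i' → polar Q (a i) (a i') = 0) {x : Vec m}
    (hx : ∀ i, polar Q (a i) x = 0) (hx0 : x ≠ 0) :
    ∃ y, (∀ i, polar Q (a i) y = 0) ∧ polar Q x y = 1 := by
  obtain ⟨y, hy⟩ : ∃ y, polar Q x y ≠ 0 := by
    by_contra h
    push Not at h
    exact hx0 (sep hQ h)
  obtain ⟨y', h1, h2⟩ := exists_proj a ha horth y
  refine ⟨(polar Q x y)⁻¹ • y', fun i => ?_, ?_⟩
  · rw [polar_smul_right, h1, smul_zero]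
  · rw [polar_smul_right, h2 x hx, smul_eq_mul, inv_mul_cancel₀ hy]

/-- An anisotropic vector orthogonal to `j` orthogonal anisotropic vectors and `k` further vectors. -/
theorem exists_aniso (hQ : (polarBilin Q).Nondegenerate) {j k : ℕ} (a : Fin j → Vec m)
    (ha : ∀ i, Q (a i) ≠ 0) (horth : ∀ i i', i ≠ i' → polar Q (a i) (a i') = 0)
    (u : Fin k → Vec m) (h : 2 * k + j + 1 ≤ m) :
    ∃ z, Q z ≠ 0 ∧ (∀ i, polar Q (a i) z = 0) ∧ ∀ i, polar Q (u i) z = 0 := by
  by_contra hno
  push Not at hno
  let L : Vec m →ₗ[ZMod 3] (Fin j → ZMod 3) × (Fin k → ZMod 3) :=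
    (LinearMap.pi fun i => polarBilin Q (a i)).prod (LinearMap.pi fun i => polarBilin Q (u i))
  set S := LinearMap.ker L with hS
  have hmem : ∀ s ∈ S, (∀ i, polar Q (a i) s = 0) ∧ ∀ i, polar Q (u i) s = 0 := by
    intro s hs
    have hs' : L s = 0 := hs
    exact ⟨fun i => congrFun (congrArg Prod.fst hs') i, fun i => congrFun (congrArg Prod.snd hs') i⟩
  have hzero : ∀ s ∈ S, Q s = 0 := by
    intro s hs
    by_contra hsq
    obtain ⟨i, hi⟩ := hno s hsq (hmem s hs).1
    exact hi ((hmem s hs).2 i)
  have hpol : ∀ s ∈ S, ∀ t ∈ S, polar Q s t = 0 := by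
    intro s hs t ht
    rw [QuadraticMap.polar, hzero _ (add_mem hs ht), hzero _ hs, hzero _ ht]
    simp
  have hcomb : ∀ (c : Fin j → ZMod 3) (i : Fin j),
      polarBilin Q (a i) (∑ i', c i' • a i') = c i * (2 * Q (a i)) := by
    intro c i
    rw [map_sum, Finset.sum_eq_single i]
    · rw [map_smul]
      show c i • polar Q (a i) (a i) = _
      rw [pol_self, smul_eq_mul]
    · intro i' _ hi
      rw [map_smul]
      show c i' • polar Q (a i) (a i') = 0
      rw [horth i i' hi.symm, smul_zero]
    · simp
  let R : Submodule (ZMod 3) (Vec m) := LinearMap.BilinForm.orthogonal (polarBilin Q) S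
  have hsum : ∀ p : S × (Fin j → ZMod 3), (p.1 : Vec m) + ∑ i, p.2 i • a i ∈ R := by
    intro p
    rw [LinearMap.BilinForm.mem_orthogonal_iff]
    intro t ht
    show polarBilin Q t _ = 0
    rw [map_add, map_sum, Finset.sum_eq_zero, add_zero]
    · exact hpol t ht _ p.1.2
    intro i _
    rw [map_smul]
    show p.2 i • polar Q t (a i) = 0
    rw [pol_comm, (hmem t ht).1 i, smul_zero]
  let F : S × (Fin j → ZMod 3) →ₗ[ZMod 3] R :=
    LinearMap.codRestrict R (LinearMap.coprod S.subtype (Fintype.linearCombination (ZMod 3) a))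
      (fun p => by simpa [Fintype.linearCombination_apply] using hsum p)
  have hF : Function.Injective F := by
    rw [← LinearMap.ker_eq_bot, LinearMap.ker_eq_bot']
    rintro ⟨s, c⟩ hsc
    have h0 : (s : Vec m) + ∑ i, c i • a i = 0 := by
      simpa [F, Fintype.linearCombination_apply] using congrArg Subtype.val hsc
    have hc : c = 0 := by
      funext i
      have h1 := congrArg (polarBilin Q (a i)) h0
      rw [map_add, hcomb, map_zero] at h1
      have h2 : polar Q (a i) (s : Vec m) = 0 := (hmem s s.2).1 i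
      rw [show polarBilin Q (a i) (s : Vec m) = polar Q (a i) (s : Vec m) from rfl, h2, zero_add] at h1
      exact (mul_eq_zero.mp h1).resolve_right (mul_ne_zero (by decide) (ha i))
    subst hc
    simp only [Pi.zero_apply, zero_smul, Finset.sum_const_zero, add_zero] at h0
    exact Prod.ext (Subtype.ext h0) rfl
  have h1 := LinearMap.finrank_le_finrank_of_injective hF
  rw [Module.finrank_prod, Module.finrank_fin_fun] at h1
  have h2 : Module.finrank (ZMod 3) S + Module.finrank (ZMod 3) R = m := by
    have := LinearMap.BilinForm.finrank_add_finrank_orthogonal' (B := polarBilin Q) S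
    rw [LinearMap.separatingLeft_iff_ker_eq_bot.mp hQ.1, inf_bot_eq, finrank_bot, add_zero,
      Module.finrank_fin_fun] at this
    exact this
  have h3 := LinearMap.finrank_range_add_finrank_ker L
  have h4 := Submodule.finrank_le (LinearMap.range L)
  rw [Module.finrank_prod, Module.finrank_fin_fun, Module.finrank_fin_fun] at h4
  rw [Module.finrank_fin_fun, ← hS] at h3
  omega

theorem exists_norm_perp (hQ : (polarBilin Q).Nondegenerate) {j k : ℕ} (a : Fin j → Vec m)
    (ha : ∀ i, Q (a i) ≠ 0) (horth : ∀ i i', i ≠ i' → polar Q (a i) (a i') = 0)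
    (u : Fin k → Vec m) (h : 2 * k + j + 2 ≤ m) {c : ZMod 3} (hc : c ≠ 0) :
    ∃ z, Q z = c ∧ (∀ i, polar Q (a i) z = 0) ∧ ∀ i, polar Q (u i) z = 0 := by
  obtain ⟨p, hp, hpa, hpu⟩ := exists_aniso hQ a ha horth u (by omega)
  obtain ⟨q, hq, hqa, hqu⟩ := exists_aniso hQ (Fin.snoc a p)
    (Fin.lastCases (by simpa using hp) (fun i => by simpa using ha i))
    (by
      intro i i' hij
      induction i using Fin.lastCases <;> induction i' using Fin.lastCases
      · exact absurd rfl hij
      · simp only [Fin.snoc_last, Fin.snoc_castSucc]; rw [pol_comm]; exact hpa _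
      · simp only [Fin.snoc_last, Fin.snoc_castSucc]; exact hpa _
      · simp only [Fin.snoc_castSucc]; exact horth _ _ (fun e => hij (by rw [e]))) u (by omega)
  have hqa' : ∀ i, polar Q (a i) q = 0 := fun i => by simpa using hqa (Fin.castSucc i)
  have hpq : polar Q p q = 0 := by simpa using hqa (Fin.last j)
  by_cases h1 : Q p = c
  · exact ⟨p, h1, hpa, hpu⟩
  by_cases h2 : Q q = c
  · exact ⟨q, h2, hqa', hqu⟩
  refine ⟨p + q, ?_, fun i => ?_, fun i => ?_⟩
  · rw [map_add', hpq, add_zero]
    revert hp hq h1 h2 hc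
    generalize Q p = x
    generalize Q q = y
    revert c x y
    decide
  · rw [polar_add_right, hpa, hqa', add_zero]
  · rw [polar_add_right, hpu, hqu, add_zero]

theorem orth1 (v : Vec m) : ∀ i i' : Fin 1, i ≠ i' → polar Q (![v] i) (![v] i') = 0 :=
  fun i i' h => absurd (Subsingleton.elim i i') h

theorem orth2 {v w : Vec m} (h : polar Q v w = 0) :
    ∀ i i' : Fin 2, i ≠ i' → polar Q (![v, w] i) (![v, w] i') = 0 := by
  intro i i' hne
  fin_cases i <;> fin_cases i' <;> simp_all [pol_comm w v]

theorem orth3 {u v w : Vec m} (h1 : polar Q u v = 0) (h2 : polar Q u w = 0) (h3 : polar Q v w = 0) :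
    ∀ i i' : Fin 3, i ≠ i' → polar Q (![u, v, w] i) (![u, v, w] i') = 0 := by
  intro i i' hne
  fin_cases i <;> fin_cases i' <;> simp_all [pol_comm v u, pol_comm w u, pol_comm w v]

theorem ne_zero_of_one {v : Vec m} (hv : Q v = 1) : Q v ≠ 0 := hv ▸ one_ne_zero

/-- A point orthogonal to one vector. -/
theorem exists_point_one (hQ : (polarBilin Q).Nondegenerate) (hm : 4 ≤ m) (u : Vec m) :
    ∃ z, Q z = 1 ∧ polar Q u z = 0 := by
  obtain ⟨z, hz, -, hu⟩ := exists_norm_perp hQ ![] (fun i => i.elim0) (fun i => i.elim0) ![u]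
    (by omega) (one_ne_zero (α := ZMod 3))
  exact ⟨z, hz, hu 0⟩

/-- A point orthogonal to two vectors. -/
theorem exists_point_two (hQ : (polarBilin Q).Nondegenerate) (hm : 6 ≤ m) (u u' : Vec m) :
    ∃ z, Q z = 1 ∧ polar Q u z = 0 ∧ polar Q u' z = 0 := by
  obtain ⟨z, hz, -, hu⟩ := exists_norm_perp hQ ![] (fun i => i.elim0) (fun i => i.elim0) ![u, u']
    (by omega) (one_ne_zero (α := ZMod 3))
  exact ⟨z, hz, hu 0, hu 1⟩

/-- A point orthogonal to a point and two further vectors. -/
theorem exists_point_three (hQ : (polarBilin Q).Nondegenerate) (hm : 7 ≤ m) {v : Vec m}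
    (hv : Q v = 1) (u u' : Vec m) :
    ∃ z, Q z = 1 ∧ polar Q v z = 0 ∧ polar Q u z = 0 ∧ polar Q u' z = 0 := by
  obtain ⟨z, hz, hv', hu⟩ := exists_norm_perp hQ ![v] (fun i => by simpa using ne_zero_of_one hv)
    (orth1 v) ![u, u'] (by omega) (one_ne_zero (α := ZMod 3))
  exact ⟨z, hz, by simpa using hv' 0, hu 0, hu 1⟩

/-- Two orthogonal points have a common non-orthogonal point, orthogonal to a third. -/
theorem exists_join (hQ : (polarBilin Q).Nondegenerate) (hm : 5 ≤ m) {e v w : Vec m} (he : Q e = 1)
    (hv : Q v = 1) (hw : Q w = 1) (hev : polar Q e v = 0) (hew : polar Q e w = 0)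
    (hvw : polar Q v w = 0) :
    ∃ z, Q z = 1 ∧ polar Q e z = 0 ∧ polar Q v z ≠ 0 ∧ polar Q w z ≠ 0 := by
  obtain ⟨t, ht, hta, -⟩ := exists_norm_perp hQ (k := 0) ![e, v, w]
    (fun i => by fin_cases i <;> simp [he, hv, hw]) (orth3 hev hew hvw) ![] (by omega)
    (show (2 : ZMod 3) ≠ 0 by decide)
  have h0 : polar Q e t = 0 := by simpa using hta 0
  have h1 : polar Q v t = 0 := by simpa using hta 1
  have h2 : polar Q w t = 0 := by simpa using hta 2
  refine ⟨v + w + t, ?_, ?_, ?_, ?_⟩
  · rw [map_add', map_add', hv, hw, ht, hvw, polar_add_left, h1, h2]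
    decide
  · rw [polar_add_right, polar_add_right, hev, hew, h0]; simp
  · rw [polar_add_right, polar_add_right, pol_self, hv, hvw, h1]; decide
  · rw [polar_add_right, polar_add_right, pol_self, hw, pol_comm w v, hvw, h2]; decide

/-- A vector orthogonal to a point is a combination of points orthogonal to it. -/
theorem mem_span_points (hQ : (polarBilin Q).Nondegenerate) (hm : 4 ≤ m) {e x : Vec m} (he : Q e = 1)
    (hx : polar Q e x = 0) :
    x ∈ Submodule.span (ZMod 3) {z : Vec m | Q z = 1 ∧ polar Q e z = 0} := by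
  have htwo : ∀ x : Vec m, polar Q e x = 0 → Q x = 2 →
      x ∈ Submodule.span (ZMod 3) {z : Vec m | Q z = 1 ∧ polar Q e z = 0} := by
    intro x hx hx2
    obtain ⟨t, ht, hta, -⟩ := exists_norm_perp hQ (k := 0) ![e, x]
      (fun i => by
        fin_cases i
        · simp [he]
        · show Q x ≠ 0; rw [hx2]; decide)
      (orth2 hx) ![] (by omega) (show (2 : ZMod 3) ≠ 0 by decide)
    have h0 : polar Q e t = 0 := by simpa using hta 0
    have h1 : polar Q x t = 0 := by simpa using hta 1
    have hp : x + t ∈ Submodule.span (ZMod 3) {z : Vec m | Q z = 1 ∧ polar Q e z = 0} := by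
      refine Submodule.subset_span ⟨?_, ?_⟩
      · rw [map_add', hx2, ht, h1]; decide
      · rw [polar_add_right, hx, h0, add_zero]
    have hq : x - t ∈ Submodule.span (ZMod 3) {z : Vec m | Q z = 1 ∧ polar Q e z = 0} := by
      refine Submodule.subset_span ⟨?_, ?_⟩
      · rw [map_sub', hx2, ht, h1]; decide
      · rw [polar_sub_right, hx, h0, sub_zero]
    have hxe : x = -((x + t) + (x - t)) := by
      funext i
      simp only [Pi.neg_apply, Pi.add_apply, Pi.sub_apply]
      generalize x i = a
      generalize t i = b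
      revert a b
      decide
    rw [hxe]
    exact neg_mem (add_mem hp hq)
  rcases (show ∀ a : ZMod 3, a = 0 ∨ a = 1 ∨ a = 2 by decide) (Q x) with h | h | h
  · by_cases hx0 : x = 0
    · rw [hx0]; exact zero_mem _
    obtain ⟨y, hye, hxy⟩ := exists_dual hQ ![e] (fun i => by simp [he]) (orth1 e) (x := x)
      (fun i => by simpa using hx) hx0
    set z := y + (1 - Q y) • x with hz
    have hez : polar Q e z = 0 := by
      rw [hz, polar_add_right, polar_smul_right, hx, show polar Q e y = 0 from by simpa using hye 0]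
      simp
    have hQz : Q z = 1 := by
      rw [hz, map_add_smul, h, pol_comm, hxy]; ring
    have hxz : polar Q x z = 1 := by
      rw [hz, polar_add_right, polar_smul_right, hxy, pol_self, h]; simp
    have h2' : x + z ∈ Submodule.span (ZMod 3) {z : Vec m | Q z = 1 ∧ polar Q e z = 0} := by
      refine htwo _ (by rw [polar_add_right, hx, hez, add_zero]) ?_
      rw [map_add', h, hQz, hxz]; decide
    simpa using sub_mem h2' (Submodule.subset_span ⟨hQz, hez⟩)
  · exact Submodule.subset_span ⟨h, hx⟩
  · exact htwo x hx h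

/-- A non-zero vector orthogonal to a point is not orthogonal to all points orthogonal to that point. -/
theorem exists_point_not_perp (hQ : (polarBilin Q).Nondegenerate) (hm : 4 ≤ m) {e x : Vec m}
    (he : Q e = 1) (hx : polar Q e x = 0) (hx0 : x ≠ 0) :
    ∃ z, Q z = 1 ∧ polar Q e z = 0 ∧ polar Q x z ≠ 0 := by
  by_contra hno
  push Not at hno
  obtain ⟨y, hye, hxy⟩ := exists_dual hQ ![e] (fun i => by simp [he]) (orth1 e) (x := x)
    (fun i => by simpa using hx) hx0
  have hy : y ∈ Submodule.span (ZMod 3) {z : Vec m | Q z = 1 ∧ polar Q e z = 0} :=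
    mem_span_points hQ hm he (by simpa using hye 0)
  have hker : Submodule.span (ZMod 3) {z : Vec m | Q z = 1 ∧ polar Q e z = 0} ≤
      LinearMap.ker (polarBilin Q x) :=
    Submodule.span_le.mpr fun z hz => hno z hz.1 hz.2
  have h0 : polar Q x y = 0 := hker hy
  rw [hxy] at h0
  exact one_ne_zero h0

/-- Two independent singular vectors are separated by a point orthogonal to given ones. -/
theorem exists_point_separating (hQ : (polarBilin Q).Nondegenerate) {j : ℕ} (a : Fin j → Vec m)
    (ha : ∀ i, Q (a i) ≠ 0) (horth : ∀ i i', i ≠ i' → polar Q (a i) (a i') = 0) (hm : j + 4 ≤ m)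
    {u u' : Vec m} (hu : Q u = 0) (hu' : Q u' = 0) (hu0 : u ≠ 0)
    (hua : ∀ i, polar Q (a i) u = 0) (hu'a : ∀ i, polar Q (a i) u' = 0)
    (hind : ∀ c : ZMod 3, u' ≠ c • u) :
    ∃ z, Q z = 1 ∧ (∀ i, polar Q (a i) z = 0) ∧ polar Q u z = 0 ∧ polar Q u' z ≠ 0 := by
  by_cases huu : polar Q u u' = 0
  · obtain ⟨y1, hy1a, hy1⟩ := exists_dual hQ a ha horth hua hu0
    set u'' := u' - polar Q u' y1 • u with hu''
    have hu''0 : u'' ≠ 0 := fun h => hind _ (sub_eq_zero.mp h)
    have hu''a : ∀ i, polar Q (a i) u'' = 0 := fun i => by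
      rw [hu'', polar_sub_right, polar_smul_right, hu'a, hua]; simp
    obtain ⟨y2, hy2a, hy2⟩ := exists_dual hQ a ha horth hu''a hu''0
    set y := y2 - polar Q u y2 • y1 with hy
    have hya : ∀ i, polar Q (a i) y = 0 := fun i => by
      rw [hy, polar_sub_right, polar_smul_right, hy1a, hy2a]; simp
    have huy : polar Q u y = 0 := by
      rw [hy, polar_sub_right, polar_smul_right, hy1]; simp
    have hu'y : polar Q u' y = 1 := by
      rw [hu'', polar_sub_left, polar_smul_left] at hy2
      rw [hy, polar_sub_right, polar_smul_right]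
      simp only [smul_eq_mul] at hy2 ⊢
      linear_combination hy2
    refine ⟨y + (1 - Q y) • u', ?_, fun i => ?_, ?_, ?_⟩
    · rw [map_add_smul, hu', pol_comm, hu'y]; ring
    · rw [polar_add_right, polar_smul_right, hya, hu'a]; simp
    · rw [polar_add_right, polar_smul_right, huy, huu]; simp
    · rw [polar_add_right, polar_smul_right, hu'y, pol_self, hu']; simp
  · obtain ⟨z, hz, hza, hzu⟩ := exists_norm_perp hQ a ha horth ![u] (by omega)
      (one_ne_zero (α := ZMod 3))
    have hzu' : polar Q u z = 0 := by simpa using hzu 0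
    by_cases h : polar Q u' z = 0
    · refine ⟨z + u, ?_, fun i => ?_, ?_, ?_⟩
      · rw [map_add', hz, hu, pol_comm, hzu']; simp
      · rw [polar_add_right, hza, hua, add_zero]
      · rw [polar_add_right, hzu', pol_self, hu]; simp
      · rw [polar_add_right, h, zero_add, pol_comm]; exact huu
    · exact ⟨z, hz, hza, hzu', h⟩

theorem exists_linking (hQ : (polarBilin Q).Nondegenerate) (hm : 6 ≤ m) {e p q : Vec m} (he : Q e = 1)
    (hp : Q p = 0) (hq : Q q = 0) (hp0 : p ≠ 0) (hq0 : q ≠ 0) (hpe : polar Q e p = 0)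
    (hqe : polar Q e q = 0) :
    ∃ z, Q z = 0 ∧ polar Q e z = 0 ∧ polar Q p z ≠ 0 ∧ polar Q q z ≠ 0 := by
  by_cases hpq : polar Q p q = 0
  · obtain ⟨x1, hx1e, hx1⟩ := exists_dual hQ ![e] (fun i => by simp [he]) (orth1 e) (x := p)
      (fun i => by simpa using hpe) hp0
    obtain ⟨x2, hx2e, hx2⟩ := exists_dual hQ ![e] (fun i => by simp [he]) (orth1 e) (x := q)
      (fun i => by simpa using hqe) hq0
    obtain ⟨x, hxe, hxp, hxq⟩ : ∃ x, polar Q e x = 0 ∧ polar Q p x ≠ 0 ∧ polar Q q x ≠ 0 := by
      have h1e : polar Q e x1 = 0 := by simpa using hx1e 0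
      have h2e : polar Q e x2 = 0 := by simpa using hx2e 0
      by_cases h1 : polar Q q x1 = 0
      · by_cases h2 : polar Q p x2 = 0
        · refine ⟨x1 + x2, by rw [polar_add_right, h1e, h2e, add_zero], ?_, ?_⟩
          · rw [polar_add_right, hx1, h2, add_zero]; exact one_ne_zero
          · rw [polar_add_right, hx2, h1, zero_add]; exact one_ne_zero
        · exact ⟨x2, h2e, h2, by rw [hx2]; exact one_ne_zero⟩
      · exact ⟨x1, h1e, by rw [hx1]; exact one_ne_zero, h1⟩
    refine ⟨x + (-(Q x / polar Q p x)) • p, ?_, ?_, ?_, ?_⟩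
    · rw [map_add_smul, hp, pol_comm x p, mul_zero, add_zero, neg_mul, div_mul_cancel₀ _ hxp,
        add_neg_cancel]
    · rw [polar_add_right, polar_smul_right, hxe, hpe]; simp
    · rw [polar_add_right, polar_smul_right, pol_self, hp]; simpa using hxp
    · rw [polar_add_right, polar_smul_right, pol_comm q p, hpq]; simpa using hxq
  · obtain ⟨s, hs, hse, hspq⟩ := exists_aniso hQ ![e] (fun i => by simp [he]) (orth1 e) ![p, q]
      (by omega)
    have hsp : polar Q p s = 0 := by simpa using hspq 0
    have hsq : polar Q q s = 0 := by simpa using hspq 1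
    set c := -(Q s / polar Q p q) with hc
    have hc0 : c ≠ 0 := neg_ne_zero.mpr (div_ne_zero hs hpq)
    refine ⟨p + c • q + s, ?_, ?_, ?_, ?_⟩
    · rw [map_add', map_add_smul, hp, hq, polar_add_left, polar_smul_left, hsp, hsq, hc]
      simp only [smul_eq_mul, mul_zero, zero_add, add_zero, neg_mul, div_mul_cancel₀ _ hpq]
      ring
    · rw [polar_add_right, polar_add_right, polar_smul_right, hpe, hqe,
        show polar Q e s = 0 from by simpa using hse 0]
      simp
    · rw [polar_add_right, polar_add_right, polar_smul_right, pol_self, hp, hsp]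
      simpa using mul_ne_zero hc0 hpq
    · rw [polar_add_right, polar_add_right, polar_smul_right, pol_self, hq, hsq, pol_comm q p]
      simpa using hpq

/-- Any two singular vectors meeting two orthogonal singular vectors are joined by a third. -/
theorem exists_chain (hQ : (polarBilin Q).Nondegenerate) (hm : 5 ≤ m) {q p z z' : Vec m}
    (hq : Q q = 0) (hz : Q z = 0) (hpq : polar Q p q = 0) (hzq : polar Q q z ≠ 0)
    (hzp : polar Q p z ≠ 0) (hz'q : polar Q q z' ≠ 0) (hzz' : polar Q z z' = 0) :
    ∃ t, Q t = 0 ∧ polar Q q t ≠ 0 ∧ polar Q p t ≠ 0 ∧ polar Q z t ≠ 0 ∧ polar Q z' t ≠ 0 := by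
  have h1 : polar Q (q + z) (q - z) = 0 := by
    rw [polar_add_left, polar_sub_right, polar_sub_right, pol_self, pol_self, hq, hz, pol_comm z q]
    ring
  have hplus : Q (q + z) ≠ 0 := by rw [map_add', hq, hz]; simpa using hzq
  have hminus : Q (q - z) ≠ 0 := by rw [map_sub', hq, hz]; simpa using hzq
  obtain ⟨s, hs, hsa, hsp⟩ := exists_aniso hQ ![q + z, q - z]
    (fun i => by fin_cases i <;> assumption) (orth2 h1) ![p] (by omega)
  have hsp' : polar Q p s = 0 := by simpa using hsp 0
  have e1 : polar Q q s + polar Q z s = 0 := by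
    rw [← polar_add_left]; simpa using hsa 0
  have e2 : polar Q q s - polar Q z s = 0 := by
    rw [← polar_sub_left]; simpa using hsa 1
  have hsq : polar Q q s = 0 := by
    revert e1 e2; generalize polar Q q s = a; generalize polar Q z s = b; revert a b; decide
  have hsz : polar Q z s = 0 := by rwa [hsq, zero_add] at e1
  set c := -(Q s / polar Q z q) with hc
  have hzq' : polar Q z q ≠ 0 := pol_comm z q ▸ hzq
  have hc0 : c ≠ 0 := neg_ne_zero.mpr (div_ne_zero hs hzq')
  obtain ⟨e, he, hne⟩ : ∃ e : ZMod 3, e * e = 1 ∧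
      c * polar Q q z' + e * polar Q z' s ≠ 0 := by
    have := mul_ne_zero hc0 hz'q
    revert this
    generalize c * polar Q q z' = a
    generalize polar Q z' s = b
    revert a b
    decide
  refine ⟨z + c • q + e • s, ?_, ?_, ?_, ?_, ?_⟩
  · rw [map_add_smul, map_add_smul, hz, hq, polar_add_left, polar_smul_left, hsz, hsq, he, hc]
    simp only [smul_eq_mul, mul_zero, zero_add, add_zero, one_mul, neg_mul, div_mul_cancel₀ _ hzq',
      neg_add_cancel]
  · rw [polar_add_right, polar_add_right, polar_smul_right, polar_smul_right, pol_self, hq, hsq]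
    simpa using hzq
  · rw [polar_add_right, polar_add_right, polar_smul_right, polar_smul_right, hpq, hsp']
    simpa using hzp
  · rw [polar_add_right, polar_add_right, polar_smul_right, polar_smul_right, pol_self, hz, hsz]
    simpa using mul_ne_zero hc0 hzq'
  · rw [polar_add_right, polar_add_right, polar_smul_right, polar_smul_right, pol_comm z' z, hzz',
      pol_comm z' q]
    simpa using hne

/-- A point orthogonal to three pairwise non-orthogonal singular vectors. -/
theorem exists_point_triangle (hQ : (polarBilin Q).Nondegenerate) (hm : 5 ≤ m) {x y z : Vec m}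
    (hx : Q x = 0) (hy : Q y = 0) (hz : Q z = 0) (hxy : polar Q x y ≠ 0) (hxz : polar Q x z ≠ 0)
    (hyz : polar Q y z ≠ 0) :
    ∃ v, Q v = 1 ∧ polar Q x v = 0 ∧ polar Q y v = 0 ∧ polar Q z v = 0 := by
  set a := polar Q x y with ha
  set r := z - (polar Q y z / a) • x - (polar Q x z / a) • y with hr
  have hrx : polar Q x r = 0 := by
    rw [hr, polar_sub_right, polar_sub_right, polar_smul_right, polar_smul_right, pol_self, hx, ← ha]
    simp [div_mul_cancel₀ _ hxy]
  have hry : polar Q y r = 0 := by
    rw [hr, polar_sub_right, polar_sub_right, polar_smul_right, polar_smul_right, pol_self, hy,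
      pol_comm y x, ← ha]
    simp [div_mul_cancel₀ _ hxy]
  have hzr : polar Q z r = Q r + Q r := by
    have h2 : polar Q r r = Q r + Q r := by rw [pol_self, two_mul]
    rw [← h2, show polar Q r r = polar Q (z - (polar Q y z / a) • x - (polar Q x z / a) • y) r from
      congrArg (fun v => polar Q v r) hr]
    rw [polar_sub_left, polar_sub_left, polar_smul_left, polar_smul_left, hrx, hry]
    simp
  have hQr : Q r ≠ 0 := by
    intro h0
    rw [h0, add_zero] at hzr
    rw [hr, polar_sub_right, polar_sub_right, polar_smul_right, polar_smul_right, pol_self, hz,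
      pol_comm z x, pol_comm z y] at hzr
    revert hzr hxy hxz hyz
    simp only [smul_eq_mul]
    generalize polar Q x z = b
    generalize polar Q y z = c
    generalize a = d
    simp only [div_eq_mul_inv, ReflInv.inv_eq]
    revert b c d
    decide
  have h1 : polar Q (x + y) (x - y) = 0 := by
    rw [polar_add_left, polar_sub_right, polar_sub_right, pol_self, pol_self, hx, hy, pol_comm y x]
    ring
  obtain ⟨v, hv, hva, -⟩ := exists_norm_perp hQ (k := 0) ![x + y, x - y, r]
    (fun i => by
      fin_cases i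
      · simp [map_add', hx, hy, ← ha, hxy]
      · simp [map_sub', hx, hy, ← ha, hxy]
      · simpa using hQr)
    (orth3 h1 (by rw [polar_add_left, hrx, hry, add_zero]) (by rw [polar_sub_left, hrx, hry, sub_zero]))
    ![] (by omega) (one_ne_zero (α := ZMod 3))
  have e1 : polar Q x v + polar Q y v = 0 := by rw [← polar_add_left]; simpa using hva 0
  have e2 : polar Q x v - polar Q y v = 0 := by rw [← polar_sub_left]; simpa using hva 1
  have e3 : polar Q r v = 0 := by simpa using hva 2
  have hxv : polar Q x v = 0 := by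
    revert e1 e2; generalize polar Q x v = p; generalize polar Q y v = q; revert p q; decide
  have hyv : polar Q y v = 0 := by rwa [hxv, zero_add] at e1
  refine ⟨v, hv, hxv, hyv, ?_⟩
  rw [hr, polar_sub_left, polar_sub_left, polar_smul_left, polar_smul_left, hxv, hyv] at e3
  simpa using e3

end Cfsg.Agent.FischerOrth94
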