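import Cfsg.Agent.Lib.FischerSolvClasses99
import Cfsg.Agent.Lib.BaerSuzuki

/-!
Fischer's geometry of a 3-transposition group in which `O₂` of the local groups is not central:
lines are double perpendiculars, and a transposition off a line meets it in one point or in all.
-/

set_option autoImplicit false
set_option linter.style.haveILetI false
set_option linter.unusedSectionVars false

namespace Cfsg.Agent.FischerPolar99

open Subgroup
open Cfsg.Agent.ThreeTransp
open Cfsg.Agent.FischerSolvClasses99 (Hx el Qx)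

variable {G : Type*} [Group G] {D : Set G}

/-- The standing hypotheses. -/
structure PCtx (D : Set G) : Prop where
  tc : TC D
  ne : ∀ a ∈ D, a ≠ 1
  sol : ∀ N : Subgroup G, N.Normal → Group.IsSolvable ↥N → N = ⊥
  perf : ⁅commutator G, commutator G⁆ = commutator G
  core : ∀ x ∈ D, ¬ Cfsg.pCore 2 ↥(Hx D x) ≤ center ↥(Hx D x)

/-- The common perpendicular of two transpositions. -/
def Perp (D : Set G) (x y : G) : Set G := {g | g ∈ D ∧ Commute x g ∧ Commute y g}

/-- The class of `y` at `x`: the line through them, without `x`. -/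
def Cls (D : Set G) (x y : G) : Set G :=
  {f | f ∈ Dx D x ∧ ∀ g ∈ D, Commute x g → Commute y g → Commute f g}

variable [Finite G] (C : PCtx D)
include C

theorem hsol' : ∀ N : Subgroup G, N.Normal → Group.IsSolvable ↥N → N ≤ commutator G → N = ⊥ :=
  fun N hN hs _ => C.sol N hN hs

omit [Finite G] in
theorem refl_comm {a p q : G} (ha : a ∈ D) :
    Commute (a * p * a) (a * q * a) ↔ Commute p q := by
  have := commute_conj_iff (g := a) (a := p) (b := q)
  rwa [C.tc.inv_eq ha] at this

theorem third_eq {a b : G} (ha : a ∈ D) (hb : b ∈ D) (hn : ¬ Commute a b) :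
    a * b * a = b * a * b := C.tc.braid ha hb hn

theorem third_inj {a a' b : G} (ha : a ∈ D) (ha' : a' ∈ D) (hb : b ∈ D) (h1 : ¬ Commute a b)
    (h2 : ¬ Commute a' b) (e : a * b * a = a' * b * a') : a = a' := by
  rw [third_eq C ha hb h1, third_eq C ha' hb h2] at e
  exact mul_left_cancel (mul_right_cancel e)

theorem third_not_comm {a b : G} (ha : a ∈ D) (hn : ¬ Commute a b) : ¬ Commute a (a * b * a) :=
  C.tc.not_commute_third ha hn

theorem third_not_comm' {a b : G} (ha : a ∈ D) (hb : b ∈ D) (hn : ¬ Commute a b) :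
    ¬ Commute b (a * b * a) := by
  rw [third_eq C ha hb hn]
  exact C.tc.not_commute_third hb fun e => hn e.symm

theorem commute_of_sq {a b : G} (ha : a ∈ D) (hb : b ∈ D) (h : (a * b) ^ 2 = 1) : Commute a b := by
  rw [pow_two] at h
  calc a * b = (a * b)⁻¹ := (inv_eq_of_mul_eq_one_right h).symm
    _ = b * a := by rw [mul_inv_rev, C.tc.inv_eq ha, C.tc.inv_eq hb]

theorem dx_symm {x y : G} (hx : x ∈ D) (hy : y ∈ Dx D x) : x ∈ Dx D y :=
  ⟨hx, hy.2.1.symm, hy.2.2.symm⟩

theorem conj_dx {x y : G} (k : ↥(Hx D x)) (hy : y ∈ Dx D x) :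
    (k : G) * y * (k : G)⁻¹ ∈ Dx D x := by
  have hk : (k : G) * x * (k : G)⁻¹ = x :=
    FischerTwins54.conj_of_commute (mem_centralizer_singleton_iff.mp ((Subgroup.closure_le _).mpr
      (fun z hz => mem_centralizer_singleton_iff.mpr hz.2.2.symm.eq) k.2))
  have := FischerTwins54.mem_dx_conj C.tc (k : G) hy
  rwa [hk] at this

theorem refl_dx {x a b : G} (ha : a ∈ Dx D x) (hb : b ∈ Dx D x) : a * b * a ∈ Dx D x :=
  FischerTwins54.refl_dx C.tc ha hb

theorem dx_nonempty {x : G} (hx : x ∈ D) :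
    ∃ y ∈ Dx D x, ∃ y' ∈ Dx D x, ¬ Commute y y' := by
  by_contra hall
  push Not at hall
  refine C.core x hx fun k _ => mem_center_iff.mpr fun w => Subtype.ext ?_
  have hle : Hx D x ≤ centralizer (Dx D x) := (Subgroup.closure_le _).mpr
    fun a ha => mem_centralizer_iff.mpr fun b hb => (hall b hb a ha).eq
  have hk : Hx D x ≤ centralizer ({(k : G)} : Set G) := (Subgroup.closure_le _).mpr
    fun a ha => mem_centralizer_singleton_iff.mpr (mem_centralizer_iff.mp (hle k.2) a ha)
  exact mem_centralizer_singleton_iff.mp (hk w.2)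

/-- If a normal subgroup of the local group centralises one member it centralises it all. -/
theorem central_of_fix {x y : G} (hx : x ∈ D) (hy : y ∈ Dx D x) (N : Subgroup ↥(Hx D x)) [N.Normal]
    (hfix : ∀ n ∈ N, Commute (n : G) y) : N ≤ center ↥(Hx D x) := by
  intro n hn
  rw [mem_center_iff]
  intro z
  refine Subtype.ext (mem_centralizer_singleton_iff.mp ((Subgroup.closure_le _).mpr ?_ z.2) : _)
  intro w hw
  obtain ⟨g, hg, e⟩ := dx_transitive C.tc (hsol' C) hx hy hw
  have h1 := hfix _ ((inferInstance : N.Normal).conj_mem n hn (⟨g, hg⟩ : ↥(Hx D x))⁻¹)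
  have h2 := commute_conj_iff (g := g).mpr h1
  simp only [Subgroup.coe_mul, Subgroup.coe_inv, inv_inv] at h2
  rw [e, show g * (g⁻¹ * (n : G) * g) * g⁻¹ = (n : G) by group] at h2
  exact mem_centralizer_singleton_iff.mpr h2.symm.eq

/-! ### Lines -/

theorem cls_self {x y : G} (hy : y ∈ Dx D x) : y ∈ Cls D x y := ⟨hy, fun _ _ _ h => h⟩

theorem cls_comm_base {x y f : G} (hy : y ∈ Dx D x) (hf : f ∈ Cls D x y) : Commute y f :=
  (hf.2 y hy.1 hy.2.2 (Commute.refl y)).symm

theorem ncard_perp_conj (g x y : G) :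
    (Perp D (g * x * g⁻¹) (g * y * g⁻¹)).ncard = (Perp D x y).ncard := by
  rw [← Set.ncard_image_of_injective (Perp D x y)
    (fun a b (e : g * a * g⁻¹ = g * b * g⁻¹) => mul_left_cancel (mul_right_cancel e))]
  congr 1
  ext p
  constructor
  · rintro ⟨hp, h1, h2⟩
    refine ⟨g⁻¹ * p * g, ⟨by simpa using C.tc.conj g⁻¹ p hp, ?_, ?_⟩, by group⟩
    · have := commute_conj_iff (g := g⁻¹).mpr h1
      simpa [mul_assoc] using this
    · have := commute_conj_iff (g := g⁻¹).mpr h2
      simpa [mul_assoc] using this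
  · rintro ⟨q, ⟨hq, h1, h2⟩, rfl⟩
    exact ⟨C.tc.conj g q hq, commute_conj_iff.mpr h1, commute_conj_iff.mpr h2⟩

/-- Commuting pairs have perpendiculars of the same size. -/
theorem ncard_perp {x y x' y' : G} (hx : x ∈ D) (hy : y ∈ Dx D x) (hx' : x' ∈ D)
    (hy' : y' ∈ Dx D x') : (Perp D x y).ncard = (Perp D x' y').ncard := by
  obtain ⟨g, rfl⟩ := C.tc.trans x hx x' hx'
  have hyg : g * y * g⁻¹ ∈ Dx D (g * x * g⁻¹) := FischerTwins54.mem_dx_conj C.tc g hy
  obtain ⟨k, hk, e⟩ := dx_transitive C.tc (hsol' C) (C.tc.conj g x hx) hyg hy'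
  have hkx : k * (g * x * g⁻¹) * k⁻¹ = g * x * g⁻¹ :=
    FischerTwins54.conj_of_commute (mem_centralizer_singleton_iff.mp ((Subgroup.closure_le _).mpr
      (fun z hz => mem_centralizer_singleton_iff.mpr hz.2.2.symm.eq) hk))
  conv_rhs => rw [← e, ← hkx, ncard_perp_conj C k, ncard_perp_conj C g]

theorem perp_eq {x y f : G} (hx : x ∈ D) (hy : y ∈ Dx D x) (hf : f ∈ Cls D x y) :
    Perp D x y = Perp D x f := by
  refine Set.eq_of_subset_of_ncard_le (fun g hg => ⟨hg.1, hg.2.1, hf.2 g hg.1 hg.2.1 hg.2.2⟩) ?_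
    (Set.toFinite _)
  rw [ncard_perp C hx hf.1 hx hy]

theorem perp_eq' {x y f : G} (hx : x ∈ D) (hy : y ∈ Dx D x) (hf : f ∈ Cls D x y) (hne : f ≠ y) :
    Perp D x y = Perp D y f := by
  refine Set.eq_of_subset_of_ncard_le (fun g hg => ⟨hg.1, hg.2.2, hf.2 g hg.1 hg.2.1 hg.2.2⟩) ?_
    (Set.toFinite _)
  rw [ncard_perp C hy.1 ⟨hf.1.1, hne, cls_comm_base C hy hf⟩ hx hy]

theorem rule2 {x y f g : G} (hx : x ∈ D) (hy : y ∈ Dx D x) (hf : f ∈ Cls D x y) (hg : g ∈ D)
    (h1 : Commute x g) (h2 : Commute f g) : Commute y g := by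
  have h : g ∈ Perp D x f := ⟨hg, h1, h2⟩
  rw [← perp_eq C hx hy hf] at h
  exact h.2.2

theorem rule3 {x y f g : G} (hx : x ∈ D) (hy : y ∈ Dx D x) (hf : f ∈ Cls D x y) (hne : f ≠ y)
    (hg : g ∈ D) (h1 : Commute y g) (h2 : Commute f g) : Commute x g := by
  have h : g ∈ Perp D y f := ⟨hg, h1, h2⟩
  rw [← perp_eq' C hx hy hf hne] at h
  exact h.2.1

theorem cls_eq_of_mem {x y f : G} (hx : x ∈ D) (hy : y ∈ Dx D x) (hf : f ∈ Cls D x y) :
    Cls D x f = Cls D x y := by
  ext h
  constructor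
  · exact fun hh => ⟨hh.1, fun g hg h1 h2 => hh.2 g hg h1 (hf.2 g hg h1 h2)⟩
  · exact fun hh => ⟨hh.1, fun g hg h1 h2 => hh.2 g hg h1 (rule2 C hx hy hf hg h1 h2)⟩

theorem cls_comm {x y a b : G} (hx : x ∈ D) (hy : y ∈ Dx D x) (ha : a ∈ Cls D x y)
    (hb : b ∈ Cls D x y) : Commute a b := by
  rw [← cls_eq_of_mem C hx hy ha] at hb
  exact cls_comm_base C ha.1 hb

theorem cls_not_comm {x y b a : G} (hx : x ∈ D) (hy : y ∈ Dx D x) (ha : a ∈ Cls D x y)
    (hb : b ∈ Dx D x) (hn : ¬ Commute y b) : ¬ Commute a b :=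
  fun h => hn (rule2 C hx hy ha hb.1 hb.2.2 h)

/-- A line seen from its points. -/
theorem cls_line {x y f : G} (hx : x ∈ D) (hy : y ∈ Dx D x) (hf : f ∈ Cls D x y) (hne : f ≠ y) :
    x ∈ Cls D y f :=
  ⟨dx_symm C hx hy, fun _ hg h1 h2 => rule3 C hx hy hf hne hg h1 h2⟩

theorem cls_conj (g : G) {x y f : G} (hf : f ∈ Cls D x y) :
    g * f * g⁻¹ ∈ Cls D (g * x * g⁻¹) (g * y * g⁻¹) := by
  refine ⟨FischerTwins54.mem_dx_conj C.tc g hf.1, fun p hp h1 h2 => ?_⟩
  have hq : g⁻¹ * p * g ∈ D := by simpa using C.tc.conj g⁻¹ p hp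
  have a1 := commute_conj_iff (g := g⁻¹).mpr h1
  have a2 := commute_conj_iff (g := g⁻¹).mpr h2
  have := commute_conj_iff (g := g).mpr (hf.2 _ hq (by simpa [mul_assoc] using a1)
    (by simpa [mul_assoc] using a2))
  simpa [mul_assoc] using this

theorem cls_refl {x y f c : G} (hc : c ∈ Dx D x) (hf : f ∈ Cls D x y) :
    c * f * c ∈ Cls D x (c * y * c) := by
  have := cls_conj C c hf
  rwa [FischerTwins54.conj_of_commute hc.2.2.symm, C.tc.inv_eq hc.1] at this

theorem ncard_cls_conj (g x y : G) :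
    (Cls D (g * x * g⁻¹) (g * y * g⁻¹)).ncard = (Cls D x y).ncard := by
  rw [← Set.ncard_image_of_injective (Cls D x y)
    (fun a b (e : g * a * g⁻¹ = g * b * g⁻¹) => mul_left_cancel (mul_right_cancel e))]
  congr 1
  ext p
  constructor
  · intro hp
    refine ⟨g⁻¹ * p * g, ?_, by group⟩
    have := cls_conj C g⁻¹ hp
    simpa [mul_assoc] using this
  · rintro ⟨q, hq, rfl⟩
    exact cls_conj C g hq

theorem ncard_cls {x y x' y' : G} (hx : x ∈ D) (hy : y ∈ Dx D x) (hx' : x' ∈ D)
    (hy' : y' ∈ Dx D x') : (Cls D x y).ncard = (Cls D x' y').ncard := by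
  obtain ⟨g, rfl⟩ := C.tc.trans x hx x' hx'
  have hyg : g * y * g⁻¹ ∈ Dx D (g * x * g⁻¹) := FischerTwins54.mem_dx_conj C.tc g hy
  obtain ⟨k, hk, e⟩ := dx_transitive C.tc (hsol' C) (C.tc.conj g x hx) hyg hy'
  have hkx : k * (g * x * g⁻¹) * k⁻¹ = g * x * g⁻¹ :=
    FischerTwins54.conj_of_commute (mem_centralizer_singleton_iff.mp ((Subgroup.closure_le _).mpr
      (fun z hz => mem_centralizer_singleton_iff.mpr hz.2.2.symm.eq) hk))
  conv_rhs => rw [← e, ← hkx, ncard_cls_conj C k, ncard_cls_conj C g]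

/-- `O₂` moves the members inside their classes. -/
theorem q_move {x b : G} (hb : b ∈ Dx D x) {q : ↥(Hx D x)} (hq : q ∈ Qx D x) :
    (q : G) * b * (q : G)⁻¹ ∈ Cls D x b := by
  haveI := HallCore.pCore_normal 2 ↥(Hx D x)
  refine ⟨conj_dx C q hb, fun g hg h1 h2 => ?_⟩
  by_cases hgx : g = x
  · exact hgx.symm ▸ (conj_dx C q hb).2.2.symm
  have hgD : g ∈ Dx D x := ⟨hg, hgx, h1⟩
  have hb' := conj_dx C q hb
  by_contra hn
  have hm : el hb * el hb' ∈ Qx D x := by
    have e : el hb * el hb' = (el hb * q * (el hb)⁻¹) * q⁻¹ := Subtype.ext (by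
      show b * ((q : G) * b * (q : G)⁻¹) = b * (q : G) * b⁻¹ * (q : G)⁻¹
      rw [C.tc.inv_eq hb.1]; group)
    rw [e]
    exact mul_mem ((inferInstance : (Qx D x).Normal).conj_mem q hq _) (inv_mem hq)
  set π := QuotientGroup.mk' (Qx D x)
  have hbb : π (el hb') = π (el hb) := by
    rw [QuotientGroup.mk'_apply, QuotientGroup.mk'_apply, eq_comm, QuotientGroup.eq,
      inv_eq_of_mul_eq_one_right (show el hb * el hb = 1 from Subtype.ext (C.tc.sq b hb.1))]
    exact hm
  have e2 : (el hgD * el hb) ^ 2 = 1 := Subtype.ext (by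
    show (g * b) ^ 2 = 1
    rw [h2.symm.mul_pow, pow_two, pow_two, C.tc.sq g hg, C.tc.sq b hb.1, one_mul])
  have e3 : (el hb' * el hgD) ^ 3 = 1 := Subtype.ext ((C.tc.or3 _ hb'.1 g hg).resolve_left hn)
  have e4 : (el hgD * el hb') ^ 3 = 1 := Subtype.ext (by
    have := (C.tc.or3 g hg _ hb'.1).resolve_left fun h => hn h.symm
    exact this)
  have h3 := congrArg π e4
  have h2' := congrArg π e2
  rw [map_pow, map_mul, map_one] at h2' h3
  rw [hbb] at h3
  rw [pow_succ, h2', one_mul, ← map_mul, QuotientGroup.mk'_apply, QuotientGroup.eq_one_iff] at h3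
  have h5 : el hgD * el hb' ∈ Qx D x := by
    have e : el hgD * el hb' = el hgD * el hb * (el hb * el hb') := by
      rw [mul_assoc (el hgD), ← mul_assoc (el hb),
        show el hb * el hb = 1 from Subtype.ext (C.tc.sq b hb.1), one_mul]
    rw [e]
    exact mul_mem h3 hm
  obtain ⟨k, hk⟩ := (HallCore.isPGroup_pCore 2 ↥(Hx D x)) ⟨_, h5⟩
  have hk' : (g * ((q : G) * b * (q : G)⁻¹)) ^ 2 ^ k = 1 :=
    congrArg (fun z => ((z : ↥(Qx D x)) : ↥(Hx D x)).1) hk
  rcases C.tc.or3 g hg _ hb'.1 with hc | h6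
  · exact hn hc.symm
  · have h7 : orderOf (g * ((q : G) * b * (q : G)⁻¹)) ∣ Nat.gcd (2 ^ k) 3 :=
      Nat.dvd_gcd (orderOf_dvd_of_pow_eq_one hk') (orderOf_dvd_of_pow_eq_one h6)
    rw [Nat.Coprime.pow_left k (by norm_num : Nat.Coprime 2 3), Nat.dvd_one, orderOf_eq_one_iff] at h7
    exact hn (commute_of_sq C hg hb'.1 (by rw [h7, one_pow])).symm

theorem exists_other {x y : G} (hx : x ∈ D) (hy : y ∈ Dx D x) : ∃ y' ∈ Cls D x y, y' ≠ y := by
  by_contra hall
  push Not at hall
  haveI := HallCore.pCore_normal 2 ↥(Hx D x)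
  exact C.core x hx (central_of_fix C hx hy (Qx D x) fun q hq =>
    FischerTwins54.commute_of_conj (hall _ (q_move C hy hq)))

/-- Every class has a member not commuting with another class. -/
theorem exists_far {x y : G} (hx : x ∈ D) (hy : y ∈ Dx D x) :
    ∃ b ∈ Dx D x, ¬ Commute y b := by
  by_contra hall
  push Not at hall
  obtain ⟨a, ha, b, hb, hn⟩ := dx_nonempty C hx
  obtain ⟨g, hg, e⟩ := dx_transitive C.tc (hsol' C) hx hy ha
  have h := hall _ (conj_dx C (⟨g, hg⟩ : ↥(Hx D x))⁻¹ hb)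
  have h' := commute_conj_iff (g := g).mpr h
  simp only [Subgroup.coe_inv, inv_inv] at h'
  rw [e, show g * (g⁻¹ * b * g) * g⁻¹ = b by group] at h'
  exact hn h'

/-- Reflections in mates act alike on classes. -/
theorem third_class {x a a' b : G} (hx : x ∈ D) (ha : a ∈ Dx D x) (ha' : a' ∈ Cls D x a)
    (hb : b ∈ Dx D x) : a' * b * a' ∈ Cls D x (a * b * a) := by
  by_cases hn : Commute a b
  · have hn' : Commute a' b := ha'.2 b hb.1 hb.2.2 hn
    rw [C.tc.fix ha'.1.1 hn', C.tc.fix ha.1 hn]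
    exact cls_self C hb
  · have hn' := cls_not_comm C hx ha ha' hb hn
    rw [third_eq C ha'.1.1 hb.1 hn', third_eq C ha.1 hb.1 hn]
    exact cls_refl C hb ha'

/-- The translation by two members of a class on another class. -/
theorem translate_mem {x a a' b : G} (hx : x ∈ D) (ha : a ∈ Dx D x) (ha' : a' ∈ Cls D x a)
    (hb : b ∈ Dx D x) : (a * a') * b * (a' * a) ∈ Cls D x b := by
  have h := cls_refl C ha (third_class C hx ha ha' hb)
  rw [C.tc.refl_refl ha.1] at h
  convert h using 1
  group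

theorem translate_ne {x a a' b : G} (hx : x ∈ D) (ha : a ∈ Dx D x) (ha' : a' ∈ Cls D x a)
    (hne : a' ≠ a) (hb : b ∈ Dx D x) (hn : ¬ Commute a b) : (a * a') * b * (a' * a) ≠ b := by
  intro e
  apply hne
  refine third_inj C ha'.1.1 ha.1 hb.1 (cls_not_comm C hx ha ha' hb hn) hn ?_
  calc a' * b * a' = a * (a * a' * b * (a' * a)) * a := by
        rw [show a * (a * a' * b * (a' * a)) * a = (a * a) * (a' * b * a') * (a * a) by group,
          C.tc.sq a ha.1, one_mul, mul_one]
    _ = a * b * a := by rw [e]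

/-- Every member of a class is a translate. -/
theorem translate_surj {x a b b' : G} (hx : x ∈ D) (ha : a ∈ Dx D x) (hb : b ∈ Dx D x)
    (hn : ¬ Commute a b) (hb' : b' ∈ Cls D x b) :
    ∃ a' ∈ Cls D x a, (a * a') * b * (a' * a) = b' := by
  have hsub : (fun p => (a * p) * b * (p * a)) '' Cls D x a ⊆ Cls D x b := by
    rintro _ ⟨p, hp, rfl⟩
    exact translate_mem C hx ha hp hb
  have hinj : Set.InjOn (fun p => (a * p) * b * (p * a)) (Cls D x a) := by
    intro p hp q hq e
    refine third_inj C hp.1.1 hq.1.1 hb.1 (cls_not_comm C hx ha hp hb hn)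
      (cls_not_comm C hx ha hq hb hn) ?_
    have := congrArg (fun t => a * t * a) e
    simpa only [show ∀ r, a * (a * r * b * (r * a)) * a = (a * a) * (r * b * r) * (a * a) from
      fun r => by group, C.tc.sq a ha.1, one_mul, mul_one] using this
  have heq := Set.eq_of_subset_of_ncard_le hsub
    (by rw [Set.ncard_image_of_injOn hinj, ncard_cls C hx hb hx ha]) (Set.toFinite _)
  rw [← heq] at hb'
  exact hb'

theorem translate_invol {x a a' : G} (ha : a ∈ Dx D x) (ha' : a' ∈ Cls D x a) :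
    a * a' * (a * a') = 1 := by
  have hc := cls_comm_base C ha ha'
  rw [mul_assoc, ← mul_assoc a' a, ← hc.eq, mul_assoc a a', C.tc.sq a' ha'.1.1, mul_one,
    C.tc.sq a ha.1]

omit [Finite G] C in
/-- A set with an involution without fixed points is even. -/
theorem even_of_involution {α : Type*} [Finite α] (S : Set α) (f : α → α) (h1 : ∀ a ∈ S, f a ∈ S)
    (h2 : ∀ a ∈ S, f (f a) = a) (h3 : ∀ a ∈ S, f a ≠ a) : Even S.ncard := by
  classical
  haveI := Fintype.ofFinite α
  obtain ⟨T, rfl⟩ : ∃ T : Finset α, S = ↑T := ⟨S.toFinset, by simp⟩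
  have h : (∑ _a ∈ T, (1 : ZMod 2)) = 0 :=
    Finset.sum_involution (fun a _ => f a) (fun _ _ => by decide) (fun a ha _ => h3 a ha) h1 h2
  rw [Finset.sum_const, nsmul_one, ZMod.natCast_eq_zero_iff_even] at h
  rwa [Set.ncard_coe_finset]

/-- Classes are even. -/
theorem even_cls {x y : G} (hx : x ∈ D) (hy : y ∈ Dx D x) : Even (Cls D x y).ncard := by
  obtain ⟨a, ha, hn⟩ := exists_far C hx hy
  obtain ⟨a', ha', hne⟩ := exists_other C hx ha
  have e1 := translate_invol C ha ha'
  refine even_of_involution _ (fun b => (a * a') * b * (a' * a)) (fun b hb => ?_)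
    (fun b _ => ?_) (fun b hb => ?_)
  · rw [← cls_eq_of_mem C hx hy hb]
    exact translate_mem C hx ha ha' hb.1
  · have e2 : a' * a * (a' * a) = 1 := by
      rw [← (cls_comm_base C ha ha').eq]; exact e1
    calc _ = (a * a' * (a * a')) * b * (a' * a * (a' * a)) := by group
      _ = b := by rw [e1, e2, one_mul, mul_one]
  · exact translate_ne C hx ha ha' hne hb.1 fun e => cls_not_comm C hx hy hb ha hn e.symm

/-- Two commuting ends and a middle one: the reflected middle commutes with it. -/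
theorem middle_commute {a b c : G} (ha : a ∈ D) (hb : b ∈ D) (hc : c ∈ D) (hab : Commute a b)
    (hac : ¬ Commute a c) (hbc : ¬ Commute b c) :
    Commute c (b * a * c * a * b) ∧ Commute (a * c * a) (b * c * b) := by
  have hcom : Commute (a * c * a) (b * c * b) := by
    refine commute_of_sq C (C.tc.refl_mem ha hc) (C.tc.refl_mem hb hc) ?_
    rw [pow_two, third_eq C ha hc hac, third_eq C hb hc hbc]
    calc c * a * c * (c * b * c) * (c * a * c * (c * b * c))
        = c * a * (c * c) * b * (c * c) * a * (c * c) * b * c := by group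
      _ = c * (a * b * (a * b)) * c := by rw [C.tc.sq c hc]; group
      _ = 1 := by
        rw [show a * b * (a * b) = a * (b * a) * b by group, ← hab.eq,
          show a * (a * b) * b = (a * a) * (b * b) by group, C.tc.sq a ha, C.tc.sq b hb,
          one_mul, mul_one, C.tc.sq c hc]
  refine ⟨?_, hcom⟩
  have h := (refl_comm C hb (p := a * c * a) (q := b * c * b)).mpr hcom
  rw [C.tc.refl_refl hb] at h
  have h' := h.symm
  convert h' using 1
  group

/-- The fourth member determined by a transposition missing three members of a line. -/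
def four (x y y' z : G) : G := z * x * (y' * y * z * y * y') * x * z

theorem four_spec {x y y' z : G} (hx : x ∈ D) (hy : y ∈ Dx D x) (hy' : y' ∈ Dx D x)
    (hyy : Commute y y') (hne : y' ≠ y) (hz : z ∈ D) (hzx : ¬ Commute z x) (hzy : ¬ Commute z y)
    (hzy' : ¬ Commute z y') :
    (four x y y' z ∈ Dx D x ∧ Commute y (four x y y' z)) ∧ four x y y' z ≠ y ∧ ¬ Commute z (four x y y' z) ∧
      four x y y' z ≠ y' ∧ four x y (four x y y' z) z = y' := by
  have hyD := hy.1
  have hy'D := hy'.1
  have hxy : Commute x y := hy.2.2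
  have hxy' : Commute x y' := hy'.2.2
  set a2 := y' * y * z * y * y' with ha2
  have ha2D : a2 ∈ D := by
    have := C.tc.refl_mem hy'D (C.tc.refl_mem hyD hz)
    convert this using 1; rw [ha2]; group
  have hza2 : Commute z a2 :=
    (middle_commute C hyD hy'D hz hyy (fun e => hzy e.symm) (fun e => hzy' e.symm)).1
  have hgx : y' * y * x * y * y' = x := by
    rw [show y' * y * x * y * y' = y' * (y * x * y) * y' by group, C.tc.fix hyD hxy.symm,
      C.tc.fix hy'D hxy'.symm]
  have hxa2 : ¬ Commute x a2 := by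
    intro hc
    apply hzx
    have h1 : Commute (y' * (y * x * y) * y') (y' * (y * z * y) * y') := by
      rw [C.tc.fix hyD hxy.symm, C.tc.fix hy'D hxy'.symm]
      convert hc using 1; rw [ha2]; group
    exact ((refl_comm C hyD).mp ((refl_comm C hy'D).mp h1)).symm
  set u := x * a2 * x with hu
  have huD : u ∈ D := C.tc.refl_mem hx ha2D
  have hwu : Commute (x * z * x) u := (refl_comm C hx).mpr hza2
  have hzu : ¬ Commute z u := by
    intro hc
    apply hzx
    have h1 : Commute (a2 * z * a2) (a2 * u * a2) := (refl_comm C ha2D).mpr hc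
    rw [C.tc.fix ha2D hza2.symm, hu, third_eq C hx ha2D hxa2, C.tc.refl_refl ha2D] at h1
    exact h1
  have hdef : four x y y' z = z * u * z := by rw [four, hu, ha2]; group
  have hhD : four x y y' z ∈ D := hdef ▸ C.tc.refl_mem hz huD
  -- it commutes with `x`
  have hhx : Commute x (four x y y' z) := by
    have h1 := (refl_comm C hz).mpr hwu
    rwa [third_eq C hx hz (fun e => hzx e.symm), C.tc.refl_refl hz, ← hdef] at h1
  -- it commutes with `y`
  have hhy : Commute y (four x y y' z) := by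
    have ha3n : ¬ Commute y' z := fun e => hzy' e.symm
    have h1 : Commute (z * y * z) u := by
      rw [third_eq C hz hyD hzy]
      have h2 : Commute z (x * (y' * z * y') * x) := by
        have h3 : Commute (z * x * z) (y' * z * y') := by
          have h4 : Commute x y' := hxy'
          have h5 := (refl_comm C hz).mpr h4
          rwa [← third_eq C hy'D hz ha3n] at h5
        rw [third_eq C hz hx hzx] at h3
        have h6 := (refl_comm C hx).mpr h3
        rwa [C.tc.refl_refl hx] at h6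
      have h7 := (refl_comm C hyD).mpr h2
      have e : y * (x * (y' * z * y') * x) * y = u := by
        rw [hu, ha2]
        calc y * (x * (y' * z * y') * x) * y = (y * x) * y' * z * y' * (x * y) := by group
          _ = (x * y) * y' * z * y' * (y * x) := by rw [hxy.eq]
          _ = x * (y * y') * z * (y' * y) * x := by group
          _ = x * (y' * y) * z * (y * y') * x := by rw [hyy.eq]
          _ = _ := by group
      rwa [e] at h7
    have h8 := (refl_comm C hz).mpr h1
    rwa [C.tc.refl_refl hz, ← hdef] at h8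
  have hhz : ¬ Commute z (four x y y' z) := hdef ▸ C.tc.not_commute_third hz hzu
  have hne_x : four x y y' z ≠ x := by
    intro e
    have h1 : u = z * x * z := by rw [← e, hdef, C.tc.refl_refl hz]
    rw [third_eq C hz hx hzx] at h1
    have h2 : a2 = z := mul_left_cancel (mul_right_cancel h1)
    apply hne
    refine third_inj C hy'D hyD hz (fun c => hzy' c.symm) (fun c => hzy c.symm) ?_
    calc y' * z * y' = y' * a2 * y' := by rw [h2]
      _ = (y' * y') * y * z * y * (y' * y') := by rw [ha2]; group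
      _ = y * z * y := by rw [C.tc.sq y' hy'D, one_mul, mul_one]
  have hne_y : four x y y' z ≠ y := by
    intro e
    have h1 : x * a2 * x = y * z * y := by
      rw [← third_eq C hz hyD hzy, ← e, hdef, C.tc.refl_refl hz]
    -- then `x` and `y'` would agree
    apply hy'.2.1
    refine third_inj C hy'D hx hz (fun c => hzy' c.symm) (fun c => hzx c.symm) ?_
    symm
    calc x * z * x = x * (y * (y * z * y) * y) * x := by rw [C.tc.refl_refl hyD]
      _ = x * y * (x * a2 * x) * y * x := by rw [h1]; group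
      _ = (x * y) * x * a2 * x * (y * x) := by group
      _ = (y * x) * x * a2 * x * (x * y) := by rw [hxy.eq]
      _ = y * (x * x) * a2 * (x * x) * y := by group
      _ = y * a2 * y := by rw [C.tc.sq x hx, mul_one, mul_one]
      _ = (y * y') * y * z * y * (y' * y) := by rw [ha2]; group
      _ = (y' * y) * y * z * y * (y * y') := by rw [hyy.eq]
      _ = y' * (y * y) * z * (y * y) * y' := by group
      _ = y' * z * y' := by rw [C.tc.sq y hyD, mul_one, mul_one]
  have hne_y' : four x y y' z ≠ y' := by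
    intro e
    have h1 : x * a2 * x = y' * z * y' := by
      rw [← third_eq C hz hy'D hzy', ← e, hdef, C.tc.refl_refl hz]
    apply hy.2.1
    refine third_inj C hyD hx hz (fun c => hzy c.symm) (fun c => hzx c.symm) ?_
    symm
    calc x * z * x = x * (y' * (y' * z * y') * y') * x := by rw [C.tc.refl_refl hy'D]
      _ = x * y' * (x * a2 * x) * y' * x := by rw [h1]; group
      _ = (x * y') * x * a2 * x * (y' * x) := by group
      _ = (y' * x) * x * a2 * x * (x * y') := by rw [hxy'.eq]
      _ = y' * (x * x) * a2 * (x * x) * y' := by group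
      _ = y' * a2 * y' := by rw [C.tc.sq x hx, mul_one, mul_one]
      _ = (y' * y') * y * z * y * (y' * y') := by rw [ha2]; group
      _ = y * z * y := by rw [C.tc.sq y' hy'D, one_mul, mul_one]
  refine ⟨⟨⟨hhD, hne_x, hhx⟩, hhy⟩, hne_y, hhz, hne_y', ?_⟩
  -- the construction is an involution
  have hzhz : z * four x y y' z * z = u := by rw [hdef, C.tc.refl_refl hz]
  generalize four x y y' z = f at hhz hzhz hhy hhD ⊢
  have h1 : f * z * f = u := by rw [← third_eq C hz hhD hhz, hzhz]
  show z * x * (f * y * z * y * f) * x * z = y'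
  calc z * x * (f * y * z * y * f) * x * z = z * x * ((f * y) * z * (y * f)) * x * z := by group
    _ = z * x * ((y * f) * z * (f * y)) * x * z := by rw [hhy.eq]
    _ = z * (x * y) * (f * z * f) * (y * x) * z := by group
    _ = z * (x * y) * (x * a2 * x) * (y * x) * z := by rw [h1]
    _ = z * (y * x) * (x * a2 * x) * (x * y) * z := by rw [hxy.eq]
    _ = z * y * (x * x) * a2 * (x * x) * y * z := by group
    _ = z * (y * y') * y * z * y * (y' * y) * z := by rw [C.tc.sq x hx, ha2]; group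
    _ = z * (y' * y) * y * z * y * (y * y') * z := by rw [hyy.eq]
    _ = z * y' * (y * y) * z * (y * y) * y' * z := by group
    _ = z * (y' * z * y') * z := by rw [C.tc.sq y hyD]; group
    _ = y' := by rw [← third_eq C hz hy'D hzy', C.tc.refl_refl hz]

theorem four_comm {x y y' z : G} (h : Commute y y') : four x y y' z = four x y' y z := by
  unfold four
  rw [show y' * y * z * y * y' = (y' * y) * z * (y * y') by group,
    show y * y' * z * y' * y = (y * y') * z * (y' * y) by group, h.eq]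

/-- The fourth member lies on the line. -/
theorem four_mem {x y y' z : G} (hx : x ∈ D) (hy : y ∈ Dx D x) (hy' : y' ∈ Cls D x y)
    (hne : y' ≠ y) (hz : z ∈ D) (hzx : ¬ Commute z x) (hzy : ¬ Commute z y)
    (hzy' : ¬ Commute z y') : four x y y' z ∈ Cls D x y := by
  have hyy := cls_comm_base C hy hy'
  obtain ⟨⟨hmem, hfy⟩, -⟩ := four_spec C hx hy hy'.1 hyy hne hz hzx hzy hzy'
  have hfy' : Commute y' (four x y y' z) := by
    rw [four_comm C hyy]
    exact (four_spec C hx hy'.1 hy hyy.symm hne.symm hz hzx hzy' hzy).1.2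
  refine ⟨hmem, fun g hg gx gy => ?_⟩
  have gy' : Commute y' g := hy'.2 g hg gx gy
  by_cases hgz : Commute z g
  · unfold four
    exact (((hgz.mul_left gx).mul_left
      ((((gy'.mul_left gy).mul_left hgz).mul_left gy).mul_left gy')).mul_left gx).mul_left hgz
  by_cases hgx : g = x
  · exact hgx.symm ▸ hmem.2.2.symm
  by_cases hgy : g = y'
  · exact hgy.symm ▸ hfy'.symm
  have hgD : g ∈ Dx D x := ⟨hg, hgx, gx⟩
  obtain ⟨⟨hf, hfy2⟩, -⟩ := four_spec C hx hy'.1 hgD gy' hgy hz hzx hzy' hgz
  -- `y` commutes with the fourth member of the other triple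
  have hyf : Commute y (four x y' g z) := rule2 C hx hy hy' hf.1 hf.2.2 hfy2
  -- and this is the same as the claim
  have eW : y' * (x * (g * z * g) * x) * y' = x * (g * y' * z * y' * g) * x := by
    calc y' * (x * (g * z * g) * x) * y' = (y' * x) * g * z * g * (x * y') := by group
      _ = (x * y') * g * z * g * (y' * x) := by rw [hy'.1.2.2.eq]
      _ = x * (y' * g) * z * (g * y') * x := by group
      _ = x * (g * y') * z * (y' * g) * x := by rw [gy'.eq]
      _ = _ := by group
  have h1 : Commute (z * (y' * (x * (g * z * g) * x) * y') * z) y := by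
    rw [eW]
    have : four x y' g z = z * (x * (g * y' * z * y' * g) * x) * z := by unfold four; group
    rw [← this]
    exact hyf.symm
  have h2 : Commute (y' * (x * (g * z * g) * x) * y') (z * y * z) := by
    have h := (refl_comm C hz).mpr h1
    rwa [C.tc.refl_refl hz] at h
  rw [third_eq C hz hy.1 hzy] at h2
  have h3 : Commute (y' * (x * (g * z * g) * x) * y') (y' * (y' * (y * z * y) * y') * y') := by
    rwa [C.tc.refl_refl hy'.1.1]
  rw [refl_comm C hy'.1.1] at h3
  have h4 : Commute (g * z * g) (x * (y' * (y * z * y) * y') * x) := by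
    have h := (refl_comm C hx).mpr h3
    rwa [C.tc.refl_refl hx] at h
  rw [← third_eq C hz hg hgz] at h4
  have h5 := (refl_comm C hz).mpr h4
  rw [C.tc.refl_refl hz] at h5
  have e : four x y y' z = z * (x * (y' * (y * z * y) * y') * x) * z := by unfold four; group
  rw [e]
  exact h5.symm

/-- A transposition missing `x` commutes with some member of each class at `x`. -/
theorem exists_foot {x y z : G} (hx : x ∈ D) (hy : y ∈ Dx D x) (hz : z ∈ D)
    (hzx : ¬ Commute z x) : ∃ a ∈ Cls D x y, Commute z a := by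
  by_contra hall
  push Not at hall
  have hzy := hall y (cls_self C hy)
  have hev : Even (Cls D x y \ {y}).ncard := by
    refine even_of_involution _ (fun p => four x y p z) (fun p hp => ?_) (fun p hp => ?_)
      (fun p hp => ?_)
    · exact ⟨four_mem C hx hy hp.1 hp.2 hz hzx hzy (hall p hp.1),
        (four_spec C hx hy hp.1.1 (cls_comm_base C hy hp.1) hp.2 hz hzx hzy (hall p hp.1)).2.1⟩
    · exact (four_spec C hx hy hp.1.1 (cls_comm_base C hy hp.1) hp.2 hz hzx hzy
        (hall p hp.1)).2.2.2.2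
    · exact (four_spec C hx hy hp.1.1 (cls_comm_base C hy hp.1) hp.2 hz hzx hzy
        (hall p hp.1)).2.2.2.1
  have h1 := even_cls C hx hy
  rw [← Set.ncard_diff_singleton_add_one (cls_self C hy) (Set.toFinite _)] at h1
  exact absurd hev (Nat.even_add_one.mp h1)

/-- The member of a class commuting with `z` is unique. -/
theorem foot_unique {x y z a a' : G} (hx : x ∈ D) (hy : y ∈ Dx D x) (hz : z ∈ D)
    (hzx : ¬ Commute z x) (ha : a ∈ Cls D x y) (ha' : a' ∈ Cls D x y) (h : Commute z a)
    (h' : Commute z a') : a = a' := by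
  by_contra hne
  rw [← cls_eq_of_mem C hx hy ha] at ha'
  exact hzx (rule3 C hx ha.1 ha' (fun e => hne e.symm) hz h.symm h'.symm).symm

/-- A product of four members of a class is not the identity. -/
theorem four_ne_one {x p q r t : G} (hx : x ∈ D) (hp : p ∈ Dx D x) (hq : q ∈ Cls D x p)
    (hr : r ∈ Cls D x p) (ht : t ∈ Cls D x p) (nq : q ≠ p) (nr : r ≠ p) (nt : t ≠ p) :
    p * q * r * t ≠ 1 := by
  intro e
  have hpv : p = q * r * t := by
    calc p = p * (p * q * r * t) := by rw [e, mul_one]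
      _ = (p * p) * (q * r * t) := by group
      _ = q * r * t := by rw [C.tc.sq p hp.1, one_mul]
  -- on the vertex `p` the three others lie on one line
  have hq' : q ∈ Dx D p := ⟨hq.1.1, nq, cls_comm_base C hp hq⟩
  have hxq : x ∈ Cls D p q := cls_line C hx hp hq nq
  have hmem : ∀ {v : G}, v ∈ Cls D x p → v ≠ p → v ∈ Cls D p q := by
    intro v hv hne
    by_cases hvq : v = q
    · exact hvq.symm ▸ cls_self C hq'
    have h1 : x ∈ Cls D p v := cls_line C hx hp hv hne
    rw [← cls_eq_of_mem C hp.1 hq' hxq, cls_eq_of_mem C hp.1 ⟨hv.1.1, hne, cls_comm_base C hp hv⟩ h1]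
    exact cls_self C ⟨hv.1.1, hne, cls_comm_base C hp hv⟩
  obtain ⟨w, hw, hwq⟩ := exists_far C hp.1 hq'
  have hR : ∀ {v u u' : G}, v ∈ Cls D p q → u ∈ Dx D p → u' ∈ Cls D p u →
      v * u' * v ∈ Cls D p (q * u * q) := by
    intro v u u' hv hu hu'
    have hv' := cls_eq_of_mem C hp.1 (refl_dx C hq' hu) (third_class C hp.1 hq' hv hu)
    rw [← hv']
    exact cls_refl C hv.1 hu'
  have k1 := hR (hmem ht nt) hw (cls_self C hw)
  have k2 := hR (hmem hr nr) (refl_dx C hq' hw) k1
  rw [C.tc.refl_refl hq'.1] at k2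
  have k3 := hR (cls_self C hq') hw k2
  have e1 : q * (r * (t * w * t) * r) * q = w := by
    calc q * (r * (t * w * t) * r) * q = (q * r * t) * w * (t * r * q) := by group
      _ = p * w * (q * r * t)⁻¹ := by
        rw [mul_inv_rev, mul_inv_rev, C.tc.inv_eq hq.1.1, C.tc.inv_eq hr.1.1,
          C.tc.inv_eq ht.1.1, ← hpv]
        group
      _ = w := by rw [← hpv, C.tc.inv_eq hp.1, C.tc.fix hp.1 hw.2.2]
  rw [e1] at k3
  exact third_not_comm' C hq'.1 hw.1 hwq (cls_comm_base C (refl_dx C hq' hw) k3).symm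

/-- A subgroup with `u`, all of `Dx u` and one transposition missing `u` is everything. -/
theorem eq_top_of_mem {u z : G} (hu : u ∈ D) (hz : z ∈ D) (hzu : ¬ Commute z u) (T : Subgroup G)
    (hTu : u ∈ T) (hTz : z ∈ T) (hT : Dx D u ⊆ (T : Set G)) : T = ⊤ := by
  have hswap : ∀ {s t : G}, s ∈ D → t ∈ D → ¬ Commute s t → s ∈ T → t ∈ T →
      ∃ g ∈ T, g * s * g⁻¹ = t := by
    intro s t hs ht hn hsT htT
    refine ⟨s * t, T.mul_mem hsT htT, ?_⟩
    rw [mul_inv_rev, C.tc.inv_eq hs, C.tc.inv_eq ht]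
    calc s * t * s * (t * s) = (s * t * s) * t * s := by group
      _ = (t * s * t) * t * s := by rw [third_eq C hs ht hn]
      _ = t * (s * (t * t) * s) := by group
      _ = t := by rw [C.tc.sq t ht, mul_one, C.tc.sq s hs, mul_one]
  rw [eq_top_iff, ← C.tc.gen, Subgroup.closure_le]
  intro d hd
  by_cases hdu : Commute u d
  · by_cases e : d = u
    · exact e ▸ hTu
    · exact hT ⟨hd, e, hdu⟩
  obtain ⟨y0, hy0, -⟩ := dx_nonempty C hu
  obtain ⟨p, hp, hpd⟩ := exists_foot C hu hy0 hd fun e => hdu e.symm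
  have hp' := hp.1
  obtain ⟨b, hb, hnb⟩ := exists_far C hu hp'
  obtain ⟨q, hq, hqz⟩ : ∃ q ∈ Cls D u b, ¬ Commute z q := by
    obtain ⟨b', hb', hne⟩ := exists_other C hu hb
    by_contra hall
    push Not at hall
    exact hne (foot_unique C hu hb hz hzu hb' (cls_self C hb) (hall b' hb') (hall b (cls_self C hb)))
  have hqp : ¬ Commute q p := cls_not_comm C hu hb hq hp' fun e => hnb e.symm
  obtain ⟨g1, hg1, e1⟩ := hswap hu hz (fun e => hzu e.symm) hTu hTz
  obtain ⟨g2, hg2, e2⟩ := hswap hz hq.1.1 hqz hTz (hT hq.1)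
  obtain ⟨g3, hg3, e3⟩ := hswap hq.1.1 hp'.1 hqp (hT hq.1) (hT hp')
  have e : g3 * g2 * g1 * u * (g3 * g2 * g1)⁻¹ = p := by
    rw [← e3, ← e2, ← e1]; group
  by_cases hdp : d = p
  · exact hdp ▸ hT hp'
  have hmem : d ∈ Dx D p := ⟨hd, hdp, hpd.symm⟩
  rw [← e, C.tc.dx_conj] at hmem
  obtain ⟨d', hd', rfl⟩ := hmem
  exact T.mul_mem (T.mul_mem (T.mul_mem (T.mul_mem hg3 hg2) hg1) (hT hd'))
    (T.inv_mem (T.mul_mem (T.mul_mem hg3 hg2) hg1))

/-- The centre is trivial. -/
theorem center_eq_bot : center G = ⊥ :=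
  C.sol (center G) inferInstance (Group.isSolvable_of_comm fun a b => Subtype.ext (mem_center_iff.mp b.2 a.1))

/-- A product of four members of a class centralising all of `Dx u` is `u`. -/
theorem four_eq_self {u b1 b2 b3 b4 : G} (hu : u ∈ D) (hb : b1 ∈ Dx D u) (h2 : b2 ∈ Cls D u b1)
    (h3 : b3 ∈ Cls D u b1) (h4 : b4 ∈ Cls D u b1) (n2 : b2 ≠ b1) (n3 : b3 ≠ b1) (n4 : b4 ≠ b1)
    (hfix : ∀ a ∈ Dx D u, Commute (b1 * b2 * b3 * b4) a) : b1 * b2 * b3 * b4 = u := by
  set g := b1 * b2 * b3 * b4 with hg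
  obtain ⟨z, hz, hzu⟩ := exists_far C hb.1 (dx_symm C hu hb)
  have hzu' : ¬ Commute z u := fun e => hzu e.symm
  obtain ⟨a0, ha0, hn0⟩ := exists_far C hu hb
  obtain ⟨a, ha, hza⟩ := exists_foot C hu ha0 hz.1 hzu'
  have hab : ¬ Commute a b1 := cls_not_comm C hu ha0 ha hb fun e => hn0 e.symm
  set k := g * u with hk
  have hgu : Commute g u := by
    rw [hg]
    exact (((hb.2.2.symm.mul_left h2.1.2.2.symm).mul_left h3.1.2.2.symm).mul_left h4.1.2.2.symm)
  have hka : Commute k a := (hfix a ha.1).mul_left ha.1.2.2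
  set z' := k * z * k⁻¹ with hz'
  have hz'a : Commute a z' := by
    have := commute_conj_iff (g := k) |>.mpr hza.symm
    rwa [FischerTwins54.conj_of_commute hka] at this
  -- at the vertex `b1` the four reflections act alike, so `z'` lies in the class of `z`
  have hub : u ∈ Dx D b1 := dx_symm C hu hb
  have m : ∀ {v : G}, v ∈ Cls D u b1 → v ≠ b1 → v ∈ Cls D b1 u := by
    intro v hv hne
    have hv' : v ∈ Dx D b1 := ⟨hv.1.1, hne, cls_comm_base C hb hv⟩
    rw [cls_eq_of_mem C hb.1 hv' (cls_line C hu hb hv hne)]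
    exact cls_self C hv'
  have hR : ∀ {v p p' : G}, v ∈ Cls D b1 u → p ∈ Dx D b1 → p' ∈ Cls D b1 p →
      v * p' * v ∈ Cls D b1 (u * p * u) := by
    intro v p p' hv hp hp'
    rw [← cls_eq_of_mem C hb.1 (refl_dx C hub hp) (third_class C hb.1 hub hv hp)]
    exact cls_refl C hv.1 hp'
  have k1 := hR (cls_self C hub) hz (cls_self C hz)
  have k2 := hR (m h4 n4) (refl_dx C hub hz) k1
  rw [C.tc.refl_refl hu] at k2
  have k3 := hR (m h3 n3) hz k2
  have k4 := hR (m h2 n2) (refl_dx C hub hz) k3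
  rw [C.tc.refl_refl hu] at k4
  have hz'1 : z' = b2 * (b3 * (b4 * (u * z * u) * b4) * b3) * b2 := by
    have e0 : k * z * k⁻¹ = b1 * (b2 * (b3 * (b4 * (u * z * u) * b4) * b3) * b2) * b1 := by
      rw [hk, hg, mul_inv_rev, mul_inv_rev, mul_inv_rev, mul_inv_rev, C.tc.inv_eq hu,
        C.tc.inv_eq hb.1, C.tc.inv_eq h2.1.1, C.tc.inv_eq h3.1.1, C.tc.inv_eq h4.1.1]
      group
    rw [hz', e0, C.tc.fix hb.1 k4.1.2.2]
  rw [← hz'1] at k4
  have hzeq : z' = z := by
    by_contra hne
    exact hab (rule3 C hb.1 hz k4 hne ha.1.1 hza hz'a.symm).symm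
  -- `k` centralises everything
  have hkz : Commute k z := FischerTwins54.commute_of_conj hzeq
  have hku : Commute k u := hgu.mul_left (Commute.refl u)
  have htop := eq_top_of_mem C hu hz.1 hzu' (centralizer ({k} : Set G))
    (mem_centralizer_singleton_iff.mpr hku.symm.eq) (mem_centralizer_singleton_iff.mpr hkz.symm.eq)
    fun v hv => mem_centralizer_singleton_iff.mpr
      ((hfix v hv).mul_left hv.2.2).symm.eq
  have hkc : k ∈ center G := mem_center_iff.mpr fun x =>
    mem_centralizer_singleton_iff.mp (htop.symm ▸ mem_top x)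
  rw [center_eq_bot C, mem_bot, hk] at hkc
  calc g = g * u * u := by rw [mul_assoc, C.tc.sq u hu, mul_one]
    _ = u := by rw [hkc, one_mul]

end Cfsg.Agent.FischerPolar99
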