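import Cfsg.Agent.Lib.FischerPolar99

/-!
Pairs of class mates lie in `O₂` of the local group, classes have two or four members, and the
fourth member of a class of four is the product of the others with the vertex.
-/

set_option autoImplicit false
set_option linter.style.haveILetI false
set_option linter.unusedSectionVars false

namespace Cfsg.Agent.FischerPolarSize99

open Subgroup
open Cfsg.Agent.ThreeTransp
open Cfsg.Agent.FischerSolvClasses99 (Hx el Qx)
open Cfsg.Agent.FischerPolar99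

variable {G : Type*} [Group G] [Finite G] {D : Set G} (C : PCtx D)
include C

omit [Finite G] C in
/-- Two involutions whose product has order dividing four generate a `2`-group. -/
theorem isPGroup_dihedral {K : Type*} [Group K] {t u : K} (ht : t * t = 1) (hu : u * u = 1)
    (h : (t * u) ^ 4 = 1) : IsPGroup 2 ↥(zpowers t ⊔ zpowers u) := by
  haveI : Fact (Nat.Prime 2) := ⟨Nat.prime_two⟩
  have hz : ∀ {v : K} {k : ℕ}, v ^ 2 ^ k = 1 → IsPGroup 2 ↥(zpowers v) := by
    intro v k hv
    rintro ⟨w, hw⟩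
    obtain ⟨i, rfl⟩ := mem_zpowers_iff.mp hw
    refine ⟨k, Subtype.ext ?_⟩
    show (v ^ i) ^ 2 ^ k = 1
    rw [← zpow_natCast, ← zpow_mul, mul_comm, zpow_mul, zpow_natCast, hv, one_zpow]
  set N := zpowers (t * u)
  set T := zpowers t
  have hT : IsPGroup 2 ↥T := hz (k := 1) (by rw [pow_one, pow_two, ht])
  have hN : IsPGroup 2 ↥N := hz (k := 2) h
  have ti : t⁻¹ = t := inv_eq_of_mul_eq_one_right ht
  have hnorm : T ≤ normalizer (N : Set K) := by
    rw [zpowers_le, mem_normalizer_iff]
    have key : ∀ g ∈ N, t * g * t⁻¹ ∈ N := by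
      intro g hg
      obtain ⟨i, rfl⟩ := mem_zpowers_iff.mp hg
      rw [← conj_zpow, show t * (t * u) * t⁻¹ = (t * u)⁻¹ by
        rw [mul_inv_rev, inv_eq_of_mul_eq_one_right hu, ti, ← mul_assoc, ht, one_mul]]
      exact N.zpow_mem (N.inv_mem (mem_zpowers _)) i
    intro g
    refine ⟨key g, fun hg => ?_⟩
    have := key _ hg
    rwa [ti, show t * (t * g * t) * t = (t * t) * g * (t * t) by group, ht, one_mul, mul_one] at this
  refine (hT.to_sup_of_normal_right' hN hnorm).to_le (sup_le le_sup_left ?_)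
  rw [zpowers_le]
  have e : u = t * (t * u) := by rw [← mul_assoc, ht, one_mul]
  rw [e]
  exact mul_mem (Subgroup.mem_sup_left (mem_zpowers t)) (Subgroup.mem_sup_right (mem_zpowers _))

/-- A product of two members of a class is in `O₂` of the local group. -/
theorem el_mul_mem {x y y' : G} (hx : x ∈ D) (hy : y ∈ Dx D x) (hy' : y' ∈ Cls D x y) :
    el hy * el hy'.1 ∈ Qx D x := by
  classical
  haveI : Fact (Nat.Prime 2) := ⟨Nat.prime_two⟩
  set t : ↥(Hx D x) := el hy * el hy'.1 with ht0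
  have ht : t * t = 1 := Subtype.ext (translate_invol C hy hy')
  have hpair : ∀ g : ↥(Hx D x), IsPGroup 2 ↥(zpowers t ⊔ (zpowers t).map (MulAut.conj g).toMonoidHom) := by
    intro g
    rw [MonoidHom.map_zpowers]
    set u := (MulAut.conj g).toMonoidHom t with hu0
    refine isPGroup_dihedral ht (by rw [hu0, ← map_mul, ht, map_one]) ?_
    have hc : (g : G) * y * (g : G)⁻¹ ∈ Dx D x := FischerPolar99.conj_dx C g hy
    have hc' : (g : G) * y' * (g : G)⁻¹ ∈ Cls D x ((g : G) * y * (g : G)⁻¹) := by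
      have := cls_conj C (g : G) hy'
      rwa [FischerTwins54.conj_of_commute (mem_centralizer_singleton_iff.mp
        ((Subgroup.closure_le _).mpr (fun z hz => mem_centralizer_singleton_iff.mpr hz.2.2.symm.eq) g.2))]
        at this
    set c := (g : G) * y * (g : G)⁻¹
    set c' := (g : G) * y' * (g : G)⁻¹
    have huG : (u : G) = c * c' := by
      show ((g * (el hy * el hy'.1) * g⁻¹ : ↥(Hx D x)) : G) = _
      show (g : G) * (y * y') * (g : G)⁻¹ = (g : G) * y * (g : G)⁻¹ * ((g : G) * y' * (g : G)⁻¹)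
      group
    refine Subtype.ext ?_
    show ((t : G) * (u : G)) ^ 4 = 1
    rw [huG]
    show (y * y' * (c * c')) ^ 4 = 1
    have e1 : y' * y * (y * y') = 1 := by
      rw [show y' * y * (y * y') = y' * (y * y) * y' by group, C.tc.sq y hy.1, mul_one,
        C.tc.sq y' hy'.1.1]
    have e2 : y * y' = y' * y := (cls_comm_base C hy hy').eq
    set e := (y * y') * c * (y' * y) with he
    set e' := (y * y') * c' * (y' * y) with he'
    have m1 : e ∈ Cls D x c := translate_mem C hx hy hy' hc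
    have m2 : e' ∈ Cls D x c := cls_eq_of_mem C hx hc hc' ▸ translate_mem C hx hy hy' hc'.1
    have hsq : (y * y' * (c * c')) ^ 2 = e * e' * (c * c') := by
      rw [pow_two, he, he']
      calc y * y' * (c * c') * (y * y' * (c * c')) = y * y' * c * 1 * c' * (y * y') * (c * c') := by group
        _ = y * y' * c * (y' * y * (y * y')) * c' * (y' * y) * (c * c') := by rw [e1, e2]
        _ = _ := by group
    rw [show (4 : ℕ) = 2 * 2 from rfl, pow_mul, hsq]
    have cc : Commute c c' := cls_comm_base C hc hc'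
    have k1 : Commute e e' := cls_comm C hx hc m1 m2
    have k2 : Commute (e * e') (c * c') :=
      ((cls_comm_base C hc m1).symm.mul_right (cls_comm C hx hc m1 hc')).mul_left
        ((cls_comm_base C hc m2).symm.mul_right (cls_comm C hx hc m2 hc'))
    rw [k2.mul_pow, k1.mul_pow, cc.mul_pow, pow_two, pow_two, pow_two, pow_two, C.tc.sq e m1.1.1,
      C.tc.sq e' m2.1.1, C.tc.sq c hc.1, C.tc.sq c' hc'.1.1]
    simp
  obtain ⟨N, hN, hNp, hle⟩ := BaerSuzuki.exists_normal_pGroup_of_pairs _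
    ((hpair 1).to_le le_sup_left) hpair
  exact (le_sSup (show N ∈ {N : Subgroup ↥(Hx D x) | N.Normal ∧ IsPGroup 2 N} from ⟨hN, hNp⟩))
    (hle (mem_zpowers _))

/-- A pair of class mates and its translate. -/
theorem quad_spec {x b b' a a' : G} (hx : x ∈ D) (hb : b ∈ Dx D x) (hb' : b' ∈ Cls D x b)
    (hne : b' ≠ b) (ha : a ∈ Dx D x) (ha' : a' ∈ Cls D x a) (hn : ¬ Commute a b)
    (hpb : (a * a') * b * (a' * a) ≠ b) (hpb' : (a * a') * b * (a' * a) ≠ b') :
    (a * a') * b' * (a' * a) ∈ Cls D x b ∧ (a * a') * b' * (a' * a) ≠ (a * a') * b * (a' * a) ∧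
      (a * a') * b' * (a' * a) ≠ b ∧ (a * a') * b' * (a' * a) ≠ b' := by
  have hn' : ¬ Commute a b' := fun e => cls_not_comm C hx hb hb' ha (fun e => hn e.symm) e.symm
  have hane : a' ≠ a := fun e => by
    subst e
    apply hpb
    rw [C.tc.sq a' ha'.1.1, one_mul, mul_one]
  have h2 := translate_mem C hx ha ha' hb'.1
  refine ⟨cls_eq_of_mem C hx hb hb' ▸ h2,
    fun e => hne (mul_left_cancel (mul_right_cancel e)), fun e => hpb' ?_,
    translate_ne C hx ha ha' hane hb'.1 hn'⟩
  conv_lhs => rw [← e]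
  have e1 : a * a' * (a * a') = 1 := by
    rw [mul_assoc, ← mul_assoc a' a, ← (cls_comm_base C ha ha').eq, mul_assoc a a', C.tc.sq a' ha'.1.1, mul_one,
      C.tc.sq a ha.1]
  have e2 : a' * a * (a' * a) = 1 := by rw [← (cls_comm_base C ha ha').eq]; exact e1
  calc _ = (a * a' * (a * a')) * b' * (a' * a * (a' * a)) := by group
    _ = b' := by rw [e1, e2, one_mul, mul_one]

/-- The commutator of a translation with a pair of class mates. -/
theorem quad_val {x b b' a a' : G} (hb : b ∈ Dx D x) (hb' : b' ∈ Cls D x b) (ha : a ∈ Dx D x)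
    (ha' : a' ∈ Cls D x a) (e0 : ↥(Hx D x)) (he0 : (e0 : G) = b * b') :
    (((el ha * el ha'.1) * e0 * (el ha * el ha'.1)⁻¹ * e0⁻¹ : ↥(Hx D x)) : G) =
      ((a * a') * b * (a' * a)) * ((a * a') * b' * (a' * a)) * b' * b := by
  show a * a' * (e0 : G) * (a * a')⁻¹ * (e0 : G)⁻¹ = _
  rw [he0, mul_inv_rev, mul_inv_rev, C.tc.inv_eq ha.1, C.tc.inv_eq ha'.1.1, C.tc.inv_eq hb.1,
    C.tc.inv_eq hb'.1.1]
  have e1 : a' * a * (a * a') = 1 := by
    rw [mul_assoc, ← mul_assoc a a, C.tc.sq a ha.1, one_mul, C.tc.sq a' ha'.1.1]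
  calc a * a' * (b * b') * (a' * a) * (b' * b)
      = a * a' * b * 1 * b' * (a' * a) * b' * b := by group
    _ = _ := by rw [← e1]; group

/-- A class with at least six members has a member outside any four given ones. -/
theorem exists_avoid {x b c1 c2 c3 c4 : G} (h : 6 ≤ (Cls D x b).ncard) :
    ∃ p ∈ Cls D x b, p ≠ c1 ∧ p ≠ c2 ∧ p ≠ c3 ∧ p ≠ c4 := by
  classical
  by_contra hall
  push Not at hall
  have hle : (Cls D x b).ncard ≤ 4 := by
    refine le_trans (Set.ncard_le_ncard (t := ({c1, c2, c3, c4} : Set G)) (fun p hp => ?_)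
      (Set.toFinite _)) ?_
    · by_cases e1 : p = c1
      · simp [e1]
      by_cases e2 : p = c2
      · simp [e2]
      by_cases e3 : p = c3
      · simp [e3]
      simp [hall p hp e1 e2 e3]
    · exact le_trans (Set.ncard_insert_le _ _) (Nat.succ_le_succ (le_trans (Set.ncard_insert_le _ _)
        (Nat.succ_le_succ (le_trans (Set.ncard_insert_le _ _)
          (Nat.succ_le_succ (le_of_eq (Set.ncard_singleton _)))))))
  omega

/-- Classes have two or four members. -/
theorem size_two_or_four {x y : G} (hx : x ∈ D) (hy : y ∈ Dx D x) :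
    (Cls D x y).ncard = 2 ∨ (Cls D x y).ncard = 4 := by
  classical
  haveI := HallCore.pCore_normal 2 ↥(Hx D x)
  haveI : Fact (Nat.Prime 2) := ⟨Nat.prime_two⟩
  by_contra hcon
  push Not at hcon
  obtain ⟨h2, h4⟩ := hcon
  have hbig : 6 ≤ (Cls D x y).ncard := by
    obtain ⟨y', hy', hne⟩ := exists_other C hx hy
    have hpos : 2 ≤ (Cls D x y).ncard := by
      calc 2 = ({y, y'} : Set G).ncard := (Set.ncard_pair hne.symm).symm
        _ ≤ _ := Set.ncard_le_ncard (Set.pair_subset (cls_self C hy) hy') (Set.toFinite _)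
    obtain ⟨m, hm⟩ := even_cls C hx hy
    omega
  have hbig' : ∀ {b : G}, b ∈ Dx D x → 6 ≤ (Cls D x b).ncard := fun hb =>
    (ncard_cls C hx hb hx hy).symm ▸ hbig
  have he0 : ∀ (q : ↥(Hx D x)) {b : G} (hb : b ∈ Dx D x) (hb' : (q : G) * b * (q : G)⁻¹ ∈ Dx D x),
      el hb * el hb' = el hb * q * (el hb)⁻¹ * q⁻¹ := fun q b hb hb' => Subtype.ext (by
    show b * ((q : G) * b * (q : G)⁻¹) = b * (q : G) * b⁻¹ * (q : G)⁻¹
    rw [C.tc.inv_eq hb.1]; group)
  -- central elements of `O₂` centralise all of `Dx x`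
  have hcen : ∀ q : ↥(Qx D x), q ∈ center ↥(Qx D x) → ∀ b ∈ Dx D x, Commute (q.1 : G) b := by
    intro q hq b hb
    by_contra hn
    have hb' : (q.1 : G) * b * (q.1 : G)⁻¹ ∈ Cls D x b := q_move C hb q.2
    have hne : (q.1 : G) * b * (q.1 : G)⁻¹ ≠ b := fun e => hn (FischerTwins54.commute_of_conj e)
    obtain ⟨p, hp, hpb, hpb', -, -⟩ := exists_avoid C (c1 := b) (c2 := (q.1 : G) * b * (q.1 : G)⁻¹)
      (c3 := b) (c4 := b) (hbig' hb)
    obtain ⟨a, ha, hab⟩ := exists_far C hx hb
    obtain ⟨a', ha', rfl⟩ := translate_surj C hx ha hb (fun e => hab e.symm) hp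
    obtain ⟨r2, n1, n2, n3⟩ := quad_spec C hx hb hb' hne ha ha' (fun e => hab e.symm) hpb hpb'
    have hq' : ∀ r ∈ Qx D x, r * q.1 = q.1 * r := fun r hr =>
      congrArg Subtype.val (mem_center_iff.mp hq ⟨r, hr⟩)
    have hqb : ∀ r ∈ Qx D x, Commute r (el hb * q.1 * (el hb)⁻¹) := by
      intro r hr
      have := (Commute.conj_iff (el hb)).mpr (show Commute ((el hb)⁻¹ * r * (el hb)⁻¹⁻¹) q.1 from
        hq' _ ((inferInstance : (Qx D x).Normal).conj_mem r hr (el hb)⁻¹))
      simpa [mul_assoc] using this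
    have hf := el_mul_mem C hx ha ha'
    have hc : Commute (el ha * el ha'.1) (el hb * el hb'.1) := by
      rw [he0 q.1 hb hb'.1]
      exact (hqb _ hf).mul_right (Commute.inv_right (hq' _ hf))
    have h1 := quad_val C hb hb' ha ha' (el hb * el hb'.1) rfl
    rw [hc.eq, mul_inv_cancel_right, mul_inv_cancel, Subgroup.coe_one] at h1
    have hm : ∀ {v : G}, v ∈ Cls D x b → v ∈ Cls D x ((a * a') * b * (a' * a)) :=
      fun hv => (cls_eq_of_mem C hx hb hp).symm ▸ hv
    exact four_ne_one C hx hp.1 (hm r2) (hm hb') (hm (cls_self C hb)) n1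
      hpb'.symm hpb.symm h1.symm
  -- an element central modulo the centre
  obtain ⟨q, hq1, hq2⟩ : ∃ q : ↥(Qx D x), q ∉ center ↥(Qx D x) ∧
      ∀ r : ↥(Qx D x), q * r * q⁻¹ * r⁻¹ ∈ center ↥(Qx D x) := by
    have hp : IsPGroup 2 ↥(Qx D x) := HallCore.isPGroup_pCore 2 _
    have hnt : ¬ ∀ t : ↥(Qx D x), t ∈ center ↥(Qx D x) := by
      intro h
      refine C.core x hx (central_of_fix C hx hy (Qx D x) fun n hn => ?_)
      exact hcen ⟨n, hn⟩ (h _) y hy
    push Not at hnt
    obtain ⟨t, ht⟩ := hnt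
    haveI : Nontrivial (↥(Qx D x) ⧸ center ↥(Qx D x)) :=
      ⟨⟨(t : ↥(Qx D x) ⧸ center ↥(Qx D x)), 1, fun e => ht ((QuotientGroup.eq_one_iff t).mp e)⟩⟩
    haveI := (hp.to_quotient (center ↥(Qx D x))).center_nontrivial
    obtain ⟨⟨c, hc⟩, hc1⟩ := exists_ne (1 : ↥(center (↥(Qx D x) ⧸ center ↥(Qx D x))))
    obtain ⟨q, rfl⟩ := QuotientGroup.mk_surjective c
    refine ⟨q, fun h => hc1 (Subtype.ext ((QuotientGroup.eq_one_iff q).mpr h)), fun r => ?_⟩
    rw [← QuotientGroup.eq_one_iff, QuotientGroup.mk_mul, QuotientGroup.mk_mul, QuotientGroup.mk_mul,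
      QuotientGroup.mk_inv, QuotientGroup.mk_inv,
      ← (mem_center_iff.mp hc (r : ↥(Qx D x) ⧸ center ↥(Qx D x))), mul_inv_cancel_right, mul_inv_cancel]
  obtain ⟨b, hb, hn⟩ : ∃ b ∈ Dx D x, ¬ Commute (q.1 : G) b := by
    by_contra hall
    push Not at hall
    apply hq1
    rw [mem_center_iff]
    intro r
    refine Subtype.ext (Subtype.ext ?_)
    have hle : Hx D x ≤ centralizer ({(q.1 : G)} : Set G) := (Subgroup.closure_le _).mpr
      fun v hv => mem_centralizer_singleton_iff.mpr (hall v hv).symm.eq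
    exact mem_centralizer_singleton_iff.mp (hle r.1.2)
  set b' := (q.1 : G) * b * (q.1 : G)⁻¹ with hb'def
  have hb' : b' ∈ Cls D x b := q_move C hb q.2
  have hne : b' ≠ b := fun e => hn (FischerTwins54.commute_of_conj e)
  -- every other pair multiplies with it to `x`
  have hkey : ∀ p ∈ Cls D x b, p ≠ b → p ≠ b' → ∃ p' ∈ Cls D x b, p' ≠ p ∧ p' ≠ b ∧ p' ≠ b' ∧
      p * p' * b' * b = x := by
    intro p hp hpb hpb'
    obtain ⟨a, ha, hab⟩ := exists_far C hx hb
    obtain ⟨a', ha', rfl⟩ := translate_surj C hx ha hb (fun e => hab e.symm) hp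
    obtain ⟨r2, n1, n2, n3⟩ := quad_spec C hx hb hb' hne ha ha' (fun e => hab e.symm) hpb hpb'
    refine ⟨_, r2, n1, n2, n3, ?_⟩
    have hm : ∀ {v : G}, v ∈ Cls D x b → v ∈ Cls D x ((a * a') * b * (a' * a)) :=
      fun hv => (cls_eq_of_mem C hx hb hp).symm ▸ hv
    refine four_eq_self C hx hp.1 (hm r2) (hm hb') (hm (cls_self C hb)) n1 hpb'.symm hpb.symm ?_
    intro v hv
    set f : ↥(Qx D x) := ⟨el ha * el ha'.1, el_mul_mem C hx ha ha'⟩
    set φ : ↥(Qx D x) ≃* ↥(Qx D x) := MulAut.conjNormal (el hb)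
    set e0 : ↥(Qx D x) := φ q * q⁻¹ with he0'
    have he0G : (e0 : ↥(Hx D x)) = el hb * el hb'.1 := by
      rw [he0 q.1 hb hb'.1, he0', Subgroup.coe_mul, Subgroup.coe_inv]
      simp [φ, MulAut.conjNormal_apply]
    set ρ := QuotientGroup.mk' (center ↥(Qx D x))
    have hρ : ∀ t : ↥(Qx D x), (∀ r : ↥(Qx D x), t * r * t⁻¹ * r⁻¹ ∈ center ↥(Qx D x)) →
        ∀ r, Commute (ρ r) (ρ t) := by
      intro t ht r
      have := (QuotientGroup.eq_one_iff _).mpr (ht r)
      have h' : ρ t * ρ r * (ρ t)⁻¹ * (ρ r)⁻¹ = 1 := by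
        rw [← map_inv, ← map_inv, ← map_mul, ← map_mul, ← map_mul]; exact this
      rw [mul_inv_eq_one, mul_inv_eq_iff_eq_mul] at h'
      exact h'.symm
    have hφ : ∀ r, φ q * r * (φ q)⁻¹ * r⁻¹ ∈ center ↥(Qx D x) := by
      intro r
      obtain ⟨r, rfl⟩ := φ.surjective r
      rw [← map_inv, ← map_inv, ← map_mul, ← map_mul, ← map_mul, mem_center_iff]
      intro g
      obtain ⟨g, rfl⟩ := φ.surjective g
      rw [← map_mul, ← map_mul, mem_center_iff.mp (hq2 r) g]
    have hce : f * e0 * f⁻¹ * e0⁻¹ ∈ center ↥(Qx D x) := by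
      rw [← QuotientGroup.eq_one_iff]
      show ρ _ = 1
      have hc : Commute (ρ f) (ρ e0) := by
        rw [he0', map_mul, map_inv]
        exact (hρ _ hφ f).mul_right (hρ _ hq2 f).inv_right
      rw [map_mul, map_mul, map_mul, map_inv, map_inv, hc.eq, mul_inv_cancel_right, mul_inv_cancel]
    have h1 := hcen _ hce v hv
    rw [show ((f * e0 * f⁻¹ * e0⁻¹ : ↥(Qx D x)) : ↥(Hx D x)) = el ha * el ha'.1 * (el hb * el hb'.1) *
      (el ha * el ha'.1)⁻¹ * (el hb * el hb'.1)⁻¹ by rw [← he0G]; rfl] at h1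
    rwa [← quad_val C hb hb' ha ha' (el hb * el hb'.1) rfl]
  obtain ⟨p, hp, hpb, hpb', -, -⟩ := exists_avoid C (c1 := b) (c2 := b') (c3 := b) (c4 := b)
    (hbig' hb)
  obtain ⟨p', hp', np, npb, npb', he⟩ := hkey p hp hpb hpb'
  obtain ⟨r, hr, hrb, hrb', hrp, hrp'⟩ := exists_avoid C (c1 := b) (c2 := b') (c3 := p) (c4 := p')
    (hbig' hb)
  obtain ⟨r', hr', nr, nrb, nrb', her⟩ := hkey r hr hrb hrb'
  have epr : p * p' = r * r' := by
    rw [← her] at he
    exact mul_right_cancel (mul_right_cancel he)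
  have nrp : r' ≠ p := fun e => by
    subst e
    rw [(cls_comm C hx hb hr hp).eq] at epr
    exact hrp' (mul_left_cancel epr).symm
  have hm : ∀ {v : G}, v ∈ Cls D x b → v ∈ Cls D x p :=
    fun hv => (cls_eq_of_mem C hx hb hp).symm ▸ hv
  refine four_ne_one C hx hp.1 (hm hp') (hm hr') (hm hr) np nrp hrp ?_
  calc p * p' * r' * r = r * r' * r' * r := by rw [epr]
    _ = r * (r' * r') * r := by group
    _ = 1 := by rw [C.tc.sq r' hr'.1.1, mul_one, C.tc.sq r hr.1.1]

/-- The fourth member of a class, and the translations by it. -/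
theorem line_product {x a p q : G} (hx : x ∈ D) (ha : a ∈ Dx D x) (hs : (Cls D x a).ncard = 4)
    (hp : p ∈ Cls D x a) (hq : q ∈ Cls D x a) (np : p ≠ a) (nq : q ≠ a) (npq : p ≠ q) :
    x * a * p * q ∈ Cls D x a ∧ Cls D x a = {a, p, q, x * a * p * q} ∧
      x * a * p * q ≠ a ∧ x * a * p * q ≠ p ∧ x * a * p * q ≠ q := by
  classical
  obtain ⟨h, hh, nha, nhp, nhq⟩ : ∃ h ∈ Cls D x a, h ≠ a ∧ h ≠ p ∧ h ≠ q := by
    by_contra hall
    push Not at hall
    have hsub : Cls D x a ⊆ ({a, p, q} : Set G) := fun f hf => by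
      by_cases e1 : f = a
      · simp [e1]
      by_cases e2 : f = p
      · simp [e2]
      simp [hall f hf e1 e2]
    have h1 := Set.ncard_le_ncard hsub (Set.toFinite _)
    have h2 : ({a, p, q} : Set G).ncard ≤ 3 := le_trans (Set.ncard_insert_le _ _)
      (Nat.succ_le_succ (le_trans (Set.ncard_insert_le _ _)
        (Nat.succ_le_succ (le_of_eq (Set.ncard_singleton _)))))
    omega
  have h4 : ({a, p, q, h} : Set G).ncard = 4 := by
    rw [Set.ncard_insert_of_notMem (by simp [np.symm, nq.symm, nha.symm]) (Set.toFinite _),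
      Set.ncard_insert_of_notMem (by simp [npq, nhp.symm]) (Set.toFinite _),
      Set.ncard_pair nhq.symm]
  have hcl : Cls D x a = {a, p, q, h} :=
    (Set.eq_of_subset_of_ncard_le (by
      intro f hf
      simp only [Set.mem_insert_iff, Set.mem_singleton_iff] at hf
      rcases hf with rfl | rfl | rfl | rfl
      exacts [cls_self C ha, hp, hq, hh]) (by rw [hs, h4]) (Set.toFinite _)).symm
  suffices hg : a * p * q * h = x by
    have e : x * a * p * q = h := by
      have hc : Commute x h := hh.1.2.2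
      calc x * a * p * q = (a * p * q * h) * (a * (p * q)) := by rw [hg]; group
        _ = (a * p * q) * (h * a) * (p * q) := by group
        _ = (a * p * q) * (a * h) * (p * q) := by rw [(cls_comm C hx ha (cls_self C ha) hh).eq]
        _ = (a * p * q) * a * (h * p) * q := by group
        _ = (a * p * q) * a * (p * h) * q := by rw [(cls_comm C hx ha hp hh).eq]
        _ = (a * p * q) * a * p * (h * q) := by group
        _ = (a * p * q) * a * p * (q * h) := by rw [(cls_comm C hx ha hq hh).eq]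
        _ = a * (p * q * a) * p * q * h := by group
        _ = a * (a * (p * q)) * p * q * h := by
          rw [((cls_comm C hx ha (cls_self C ha) hp).mul_right
            (cls_comm C hx ha (cls_self C ha) hq)).eq.symm]
        _ = (a * a) * (p * (q * p) * q) * h := by group
        _ = (a * a) * (p * (p * q) * q) * h := by rw [(cls_comm C hx ha hp hq).eq]
        _ = (a * a) * ((p * p) * (q * q)) * h := by group
        _ = h := by rw [C.tc.sq a ha.1, C.tc.sq p hp.1.1, C.tc.sq q hq.1.1, one_mul, one_mul, one_mul]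
    rw [e]
    exact ⟨hh, hcl, nha, nhp, nhq⟩
  refine four_eq_self C hx ha hp hq hh np nq nha fun v hv => ?_
  by_cases hn : Commute a v
  · have h : ∀ {r : G}, r ∈ Cls D x a → Commute r v := fun hr => hr.2 v hv.1 hv.2.2 hn
    exact (((h (cls_self C ha)).mul_left (h hp)).mul_left (h hq)).mul_left (h hh)
  -- the three translations of the class of `v`
  set T : G → G → G := fun r u => (a * r) * u * (r * a) with hT
  have hmem : ∀ {r u : G}, r ∈ Cls D x a → u ∈ Cls D x v → T r u ∈ Cls D x v := by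
    intro r u hr hu
    rw [← cls_eq_of_mem C hx hv hu]
    exact translate_mem C hx ha hr hu.1
  have hnea : ∀ {u : G}, u ∈ Cls D x v → ¬ Commute a u := fun hu e =>
    cls_not_comm C hx hv hu ha (fun e' => hn e'.symm) e.symm
  have hfpf : ∀ {r u : G}, r ∈ Cls D x a → r ≠ a → u ∈ Cls D x v → T r u ≠ u := fun hr hne hu =>
    translate_ne C hx ha hr hne hu.1 (hnea hu)
  have hinv : ∀ {r : G}, r ∈ Cls D x a → ∀ u, T r (T r u) = u := by
    intro r hr u
    have e1 : a * r * (a * r) = 1 := by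
      rw [mul_assoc, ← mul_assoc r a, ← (cls_comm_base C ha hr).eq, mul_assoc a r, C.tc.sq r hr.1.1, mul_one,
        C.tc.sq a ha.1]
    have e2 : r * a * (r * a) = 1 := by rw [← (cls_comm_base C ha hr).eq]; exact e1
    calc T r (T r u) = (a * r * (a * r)) * u * (r * a * (r * a)) := by simp only [hT]; group
      _ = u := by rw [e1, e2, one_mul, mul_one]
  have hdist : ∀ {r r' u : G}, r ∈ Cls D x a → r' ∈ Cls D x a → u ∈ Cls D x v →
      T r u = T r' u → r = r' := by
    intro r r' u hr hr' hu e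
    refine third_inj C hr.1.1 hr'.1.1 hu.1.1 (cls_not_comm C hx ha hr hu.1 (hnea hu))
      (cls_not_comm C hx ha hr' hu.1 (hnea hu)) ?_
    have := congrArg (fun t => a * t * a) e
    simpa only [hT, show ∀ r, a * (a * r * u * (r * a)) * a = (a * a) * (r * u * r) * (a * a) from
      fun r => by group, C.tc.sq a ha.1, one_mul, mul_one] using this
  have h0 := cls_self C hv
  set v1 := T p v with hv1
  set v2 := T q v with hv2
  set v3 := T h v with hv3
  have m1 : v1 ∈ Cls D x v := hmem hp h0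
  have m2 : v2 ∈ Cls D x v := hmem hq h0
  have m3 : v3 ∈ Cls D x v := hmem hh h0
  have n01 : v ≠ v1 := (hfpf hp np h0).symm
  have n02 : v ≠ v2 := (hfpf hq nq h0).symm
  have n03 : v ≠ v3 := (hfpf hh nha h0).symm
  have n12 : v1 ≠ v2 := fun e => npq (hdist hp hq h0 e)
  have n13 : v1 ≠ v3 := fun e => nhp (hdist hh hp h0 e.symm)
  have n23 : v2 ≠ v3 := fun e => nhq (hdist hh hq h0 e.symm)
  have hcl' : Cls D x v = {v, v1, v2, v3} :=
    (Set.eq_of_subset_of_ncard_le (by
      intro f hf
      simp only [Set.mem_insert_iff, Set.mem_singleton_iff] at hf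
      rcases hf with rfl | rfl | rfl | rfl
      exacts [h0, m1, m2, m3]) (by
        rw [ncard_cls C hx hv hx ha, hs,
          Set.ncard_insert_of_notMem (by simp [n01, n02, n03]) (Set.toFinite _),
          Set.ncard_insert_of_notMem (by simp [n12, n13]) (Set.toFinite _),
          Set.ncard_pair n23]) (Set.toFinite _)).symm
  have hq3 : T q v3 = v1 := by
    have hm := hmem hq m3
    rw [hcl', Set.mem_insert_iff, Set.mem_insert_iff, Set.mem_insert_iff,
      Set.mem_singleton_iff] at hm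
    rcases hm with e | e | e | e
    · exact absurd (by rw [hv2]; nth_rw 1 [← e]; exact hinv hq v3) n23
    · exact e
    · exact absurd (by rw [← hinv hq v3, e, hv2, hinv hq]) n03.symm
    · exact absurd e (hfpf hq nq m3)
  show Commute (a * p * q * h) v
  refine FischerTwins54.commute_of_conj ?_
  have e : a * p * q * h = (a * p) * (a * q) * (a * h) := by
    calc a * p * q * h = (a * p) * ((a * a) * q) * h := by rw [C.tc.sq a ha.1]; group
      _ = (a * p) * (a * (a * q)) * h := by group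
      _ = (a * p) * (a * (q * a)) * h := by rw [(cls_comm C hx ha (cls_self C ha) hq).eq]
      _ = _ := by group
  rw [e, mul_inv_rev, mul_inv_rev, mul_inv_rev, mul_inv_rev, mul_inv_rev, C.tc.inv_eq ha.1,
    C.tc.inv_eq hp.1.1, C.tc.inv_eq hq.1.1, C.tc.inv_eq hh.1.1]
  calc a * p * (a * q) * (a * h) * v * (h * a * (q * a * (p * a))) = T p (T q v3) := by
        simp only [hT, hv3]; group
    _ = v := by rw [hq3, hv1, hinv hp]

/-- Two derangement images of a moved member. -/
theorem derange {x a b d r : G} (hx : x ∈ D) (ha : a ∈ Dx D x) (hb : b ∈ Dx D x) (hd : d ∈ Dx D x)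
    (hab : ¬ Commute a b) (hcd : ¬ Commute (a * b * a) d) (hbd : ¬ Commute b d)
    (hr : r ∈ Cls D x a) (hne : r ≠ a) :
    (b * ((a * r) * b * (r * a))) * d * (((a * r) * b * (r * a)) * b) ≠ (a * r) * d * (r * a) := by
  intro e
  have hrb : ¬ Commute r b := cls_not_comm C hx ha hr hb hab
  have hb' := translate_mem C hx ha hr hb
  have hcr : r * b * r ∈ Cls D x (a * b * a) := third_class C hx ha hr hb
  have e1 : b * a * b = a * b * a := (C.tc.braid ha.1 hb.1 hab).symm
  have e2 : b * r * b = r * b * r := (C.tc.braid hr.1.1 hb.1 hrb).symm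
  have hne' : r * b * r ≠ a * b * a := fun h =>
    hne (third_inj C hr.1.1 ha.1 hb.1 hrb hab h)
  apply translate_ne C hx (refl_dx C ha hb) hcr hne' hd hcd
  set w := (a * r) * b * (r * a) with hw
  have eu : a * b * a * (r * b * r) = b * w * (a * r) := by
    rw [← e1, ← e2, hw]
    calc b * a * b * (b * r * b) = b * (a * (b * b) * r) * b := by group
      _ = b * (a * r) * b * 1 := by rw [C.tc.sq b hb.1]; group
      _ = b * (a * r) * b * ((r * a) * (a * r)) := by
        rw [show r * a * (a * r) = r * (a * a) * r by group, C.tc.sq a ha.1]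
        simp only [mul_one, C.tc.sq r hr.1.1]
      _ = _ := by group
  have eu' : r * b * r * (a * b * a) = (r * a) * (w * b) := by
    have := congrArg (·⁻¹) eu
    simp only [mul_inv_rev] at this
    rw [C.tc.inv_eq hb'.1.1] at this
    simpa only [C.tc.inv_eq hb.1, C.tc.inv_eq ha.1, C.tc.inv_eq hr.1.1, mul_assoc] using this
  rw [eu, eu']
  calc b * w * (a * r) * d * (r * a * (w * b)) = b * w * ((a * r) * d * (r * a)) * (w * b) := by group
    _ = b * w * (b * w * d * (w * b)) * (w * b) := by rw [e]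
    _ = (b * w) * (b * w) * d * ((w * b) * (w * b)) := by group
    _ = d := by
      rw [show (b * w) * (b * w) = b * (w * b) * w by group, show (w * b) * (w * b) = w * (b * w) * b by group,
        ← (cls_comm_base C hb hb').eq, show b * (b * w) * w = (b * b) * (w * w) by group, (cls_comm_base C hb hb').eq,
        show w * (w * b) * b = (w * w) * (b * b) by group, C.tc.sq b hb.1, C.tc.sq w hb'.1.1]
      group

end Cfsg.Agent.FischerPolarSize99
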