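import Cfsg.Agent.Lib.ReflectionThreeGroup
import Cfsg.Agent.Lib.QuadClassify
import Cfsg.Agent.Lib.OrthUnitaryPrelude
import Cfsg.Agent.Lib.OrthUnitaryStd
import Cfsg.Prelude.Def_FischerSpaces

/-!
# Perfect projective reflection groups over the field with three elements

A projective reflection group over the field with three elements in dimension at least five that is
perfect lives in odd dimension and is the projective commutator subgroup of the isometry group.
-/

set_option autoImplicit false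
set_option linter.unusedSectionVars false

namespace Cfsg.Agent.FischerSimpleOrth99

open QuadraticMap Subgroup
open Cfsg.Agent.OrthUnitaryQuad Cfsg.Agent.OrthUnitaryRefl Cfsg.Agent.OrthUnitaryOmega
open Cfsg.Agent.OrthUnitarySimple Cfsg.Agent.OrthUnitaryCentre Cfsg.Agent.ReflectionThreeGroup

variable {n : ℕ}

local notation "K" => ZMod 3

variable {Q : QuadraticForm K (Fin n → ZMod 3)} {c : K}

/-- A perfect reflection group modulo its centre contains minus one. -/
theorem negOne_cases (hQ : (polarBilin Q).Nondegenerate) (hn : 5 ≤ n) (hc : c ≠ 0)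
    (hperf : commutator (↥(tGroup Q c) ⧸ center ↥(tGroup Q c)) = ⊤) :
    negOne Q ∈ tGroup Q c ∧ negOne Q ∉ sGroup Q := by
  obtain ⟨v, hv, -, -, h, -⟩ := exists_pair hQ hn hc
  have hsurj : Function.Surjective (QuotientGroup.mk' (center ↥(tGroup Q c))) :=
    QuotientGroup.mk'_surjective _
  have hmap : (commutator ↥(tGroup Q c)).map (QuotientGroup.mk' (center ↥(tGroup Q c))) = ⊤ := by
    rw [commutator_def, map_commutator, map_top_of_surjective _ hsurj, ← commutator_def, hperf]
  let r : ↥(tGroup Q c) := ⟨refl Q v hv, refl_mem_tGroup hv h⟩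
  obtain ⟨s, hs, hsr⟩ : QuotientGroup.mk' (center ↥(tGroup Q c)) r ∈
      (commutator ↥(tGroup Q c)).map (QuotientGroup.mk' (center ↥(tGroup Q c))) := by
    rw [hmap]; exact mem_top _
  rw [SetLike.mem_coe, commutator_tGroup hQ hn hc, mem_subgroupOf] at hs
  obtain ⟨z, hz, hzr⟩ : ∃ z ∈ center ↥(tGroup Q c), s * z = r :=
    ⟨s⁻¹ * r, QuotientGroup.eq.mp hsr, mul_inv_cancel_left _ _⟩
  have hzc : ∀ k ∈ sGroup Q, (z : orth Q) * k = k * (z : orth Q) := fun k hk =>
    (congrArg Subtype.val (mem_center_iff.mp hz ⟨k, sGroup_le_tGroup hQ hn hc hk⟩)).symm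
  have hzn : (z : orth Q) ∉ sGroup Q := fun hzs => refl_notMem hQ hn v hv (by
    have := mul_mem hs hzs
    rwa [← Subgroup.coe_mul, hzr] at this)
  rcases eq_one_or_neg hQ hn hzc with e | e
  · exact absurd (e ▸ one_mem (sGroup Q)) hzn
  · exact ⟨e ▸ z.2, e ▸ hzn⟩

theorem odd_dim (hQ : (polarBilin Q).Nondegenerate) (hn : 5 ≤ n) (hc : c ≠ 0)
    (h1 : negOne Q ∈ tGroup Q c) (h2 : negOne Q ∉ sGroup Q) : Odd n := by
  obtain ⟨v, hv, -, -, h, -⟩ := exists_pair hQ hn hc
  have h3 := (mem_sGroup_or hQ hn hc hv h h1).resolve_left h2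
  have hdet : detHom Q (refl Q v hv * negOne Q) = 1 := Abelianization.commutator_subset_ker
    (detHom Q) (sGroup_le_commutator hQ (finrank_le hn) h3)
  rw [map_mul, detHom_refl] at hdet
  have h4 : ((detHom Q (negOne Q) : Kˣ) : K) = (-1) ^ n := by
    show ((LinearEquiv.det (negOne Q).1 : Kˣ) : K) = _
    rw [LinearEquiv.coe_det, show ((negOne Q).1 : (Fin n → ZMod 3) →ₗ[K] (Fin n → ZMod 3)) = (-1 : K) • LinearMap.id by
      ext; simp [negOne_apply], LinearMap.det_smul, LinearMap.det_id]
    simp only [Module.finrank_fin_fun, mul_one]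
  have h5 := congrArg (fun u : Kˣ => (u : K)) hdet
  simp only [Units.val_mul, h4, Units.val_one] at h5
  by_contra hodd
  rw [Nat.not_odd_iff_even] at hodd
  rw [hodd.neg_one_pow, mul_one] at h5
  revert h5
  simp only [Units.val_neg, Units.val_one]
  decide

theorem sGroup_center (hQ : (polarBilin Q).Nondegenerate) (hn : 5 ≤ n)
    (h2 : negOne Q ∉ sGroup Q) : center ↥(sGroup Q) = ⊥ := eq_bot_iff.mpr fun g hg =>
  mem_bot.mpr <| Subtype.ext <| (eq_one_or_neg hQ hn fun k hk =>
    (congrArg Subtype.val (mem_center_iff.mp hg ⟨k, hk⟩)).symm).resolve_right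
      fun h => h2 (h ▸ g.2)

/-- The reflection group modulo its centre is the simple subgroup. -/
theorem quot_equiv (hQ : (polarBilin Q).Nondegenerate) (hn : 5 ≤ n) (hc : c ≠ 0)
    (h1 : negOne Q ∈ tGroup Q c) (h2 : negOne Q ∉ sGroup Q) :
    Nonempty (↥(tGroup Q c) ⧸ center ↥(tGroup Q c) ≃* ↥(sGroup Q)) := by
  set π := QuotientGroup.mk' (center ↥(tGroup Q c))
  let φ : ↥(sGroup Q) →* ↥(tGroup Q c) ⧸ center ↥(tGroup Q c) :=
    π.comp (inclusion (sGroup_le_tGroup hQ hn hc))
  have hinj : Function.Injective φ := by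
    rw [injective_iff_map_eq_one]
    intro x hx
    have hx' := (QuotientGroup.eq_one_iff _).mp hx
    rw [mem_center_iff] at hx'
    have : x ∈ center ↥(sGroup Q) := mem_center_iff.mpr fun k => Subtype.ext
      (congrArg Subtype.val (hx' ⟨k, sGroup_le_tGroup hQ hn hc k.2⟩) :)
    rwa [sGroup_center hQ hn h2, mem_bot] at this
  have hz : π ⟨negOne Q, h1⟩ = 1 := (QuotientGroup.eq_one_iff _).mpr (mem_center_iff.mpr
    fun y => Subtype.ext (orth_ext fun x => map_neg y.1.1 x))
  obtain ⟨v, hv, -, -, h, -⟩ := exists_pair hQ hn hc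
  have hsurj : Function.Surjective φ := by
    intro y
    obtain ⟨⟨g, hg⟩, rfl⟩ := QuotientGroup.mk'_surjective _ y
    rcases mem_sGroup_or hQ hn hc hv h hg with h3 | h3
    · exact ⟨⟨g, h3⟩, rfl⟩
    · have h4 := (mem_sGroup_or hQ hn hc hv h h1).resolve_left h2
      have h5 : negOne Q * g ∈ sGroup Q := by
        have hrg := (sGroup_normal (Q := Q)).conj_mem _ (mul_mem (inv_mem h4) h3) 1
        have hinv : (negOne Q)⁻¹ = negOne Q :=
          inv_eq_of_mul_eq_one_right (orth_ext fun x => neg_neg x)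
        simpa [mul_assoc, hinv] using hrg
      refine ⟨⟨_, h5⟩, ?_⟩
      show π ⟨negOne Q * g, _⟩ = π ⟨g, hg⟩
      rw [show (⟨negOne Q * g, sGroup_le_tGroup hQ hn hc h5⟩ : ↥(tGroup Q c)) =
        ⟨negOne Q, h1⟩ * ⟨g, hg⟩ from rfl, map_mul, hz, one_mul]
  exact ⟨(MulEquiv.ofBijective φ ⟨hinj, hsurj⟩).symm⟩

/-- Up to similarity there is one form in each odd dimension. -/
theorem orth_equiv_std {m : ℕ} (hm : n = 2 * m + 1) (hQ : (polarBilin Q).Nondegenerate) :
    Nonempty (orth Q ≃* Cfsg.isometryGroup K (Cfsg.quadFormOdd m K)) := by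
  classical
  obtain ⟨k, e, f, W, ⟨hhyp, -, -, -, hperp, hdim, hani, -⟩, hW⟩ := QuadClassify.exists_decomp Q hQ
  simp only [finrank_top, Module.finrank_fin_fun] at hdim
  obtain rfl : k = m := by omega
  obtain ⟨z, hzW, hz0⟩ := Submodule.exists_mem_ne_zero_of_ne_bot (p := W) fun h => by
    rw [h, finrank_bot] at hdim; omega
  have hQz : Q z ≠ 0 := fun h => hz0 (hani z hzW h)
  set a := Q z
  have ha2 : a * a = 1 := (by decide : ∀ x : K, x ≠ 0 → x * x = 1) a hQz
  obtain ⟨b, hb⟩ := hhyp.exists_basis (ι := Unit) (z := fun _ => z)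
    (LinearIndependent.of_subsingleton () hz0)
    (fun i _ => (hperp i z hzW).1) (fun i _ => (hperp i z hzW).2) (by simp; omega)
  let T : (Unit ⊕ (Fin k ⊕ Fin k) → K) →ₗ[K] (Fin n → ZMod 3) :=
    { toFun := fun v => (∑ i, (a * v (.inr (.inl i))) • e i) + (∑ i, v (.inr (.inr i)) • f i) +
        v (.inl ()) • z
      map_add' := fun v v' => by
        simp only [Pi.add_apply, mul_add, add_smul, Finset.sum_add_distrib]; abel
      map_smul' := fun r v => by
        simp only [Pi.smul_apply, smul_eq_mul, RingHom.id_apply, smul_add, Finset.smul_sum, smul_smul]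
        congr 2
        exact Finset.sum_congr rfl fun i _ => by ring_nf }
  have hval : ∀ v, Q (T v) = a * QuadClassify.qOdd k K v := by
    intro v
    have h1 := hhyp.value (v (.inl ()) • z)
      (fun i => by rw [polar_smul_right, (hperp i z hzW).1, smul_zero])
      (fun i => by rw [polar_smul_right, (hperp i z hzW).2, smul_zero])
      (fun i => a * v (.inr (.inl i))) (fun i => v (.inr (.inr i)))
    show Q ((∑ i, _) + (∑ i, _) + _) = _
    rw [h1, QuadraticMap.map_smul, smul_eq_mul, QuadClassify.qOdd_apply, Cfsg.quadFormOdd, mul_add,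
      Finset.mul_sum]
    rw [show a * v (.inl ()) ^ 2 = v (.inl ()) * v (.inl ()) * a by ring, add_comm]
    exact congrArg _ (Finset.sum_congr rfl fun i _ => by ring)
  have hreg : Function.Injective T := by
    rw [← LinearMap.ker_eq_bot, LinearMap.ker_eq_bot']
    intro v hv
    have h0 : ∀ u, polar (QuadClassify.qOdd k K) v u = 0 := fun u => by
      have : a * polar (QuadClassify.qOdd k K) v u = polar Q (T v) (T u) := by
        simp only [polar, ← map_add, hval]; ring
      rw [hv, polar_zero_left] at this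
      exact (mul_eq_zero.mp this).resolve_left hQz
    funext i
    rcases i with ⟨⟩ | i | i
    · have h := h0 (Pi.single (.inl ()) 1)
      simp only [polar, QuadClassify.qOdd_apply, Cfsg.quadFormOdd, Pi.add_apply] at h
      simp at h
      exact (mul_eq_zero.mp (show (2 : K) * v (.inl ()) = 0 by linear_combination h)).resolve_left
        (by decide)
    · have h := h0 (Pi.single (.inr (.inr i)) 1)
      simp only [polar, QuadClassify.qOdd_apply, Cfsg.quadFormOdd, Pi.add_apply] at h
      simp [add_mul, mul_add, Finset.sum_add_distrib, Pi.single_apply] at h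
      simpa using h
    · have h := h0 (Pi.single (.inr (.inl i)) 1)
      simp only [polar, QuadClassify.qOdd_apply, Cfsg.quadFormOdd, Pi.add_apply] at h
      simp [add_mul, mul_add, Finset.sum_add_distrib, Pi.single_apply] at h
      simpa using h
  let Te := LinearEquiv.ofBijective T ⟨hreg,
    (LinearMap.injective_iff_surjective_of_finrank_eq_finrank (by simp; omega)).mp hreg⟩
  have heq : orth (a • QuadClassify.qOdd k K) = orth (QuadClassify.qOdd k K) := by
    ext g
    exact ⟨fun h x => mul_left_cancel₀ hQz (h x), fun h x => congrArg (a * ·) (h x)⟩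
  exact ⟨((orthCongr (Q := a • QuadClassify.qOdd k K) Te fun x => hval x).symm.trans
    (MulEquiv.subgroupCongr heq)).trans
    (OrthUnitaryQuad.isometryGroupEquiv (QuadClassify.qOdd k K) (Cfsg.quadFormOdd k K)
      fun v => (QuadClassify.qOdd_apply k v).symm).symm⟩

/-- A perfect projective reflection group is an odd-dimensional simple orthogonal group. -/
theorem main {X : Type*} [Group X] (hQ : (polarBilin Q).Nondegenerate) (hn : 5 ≤ n) (hc : c ≠ 0)
    (e : X ≃* ↥(Cfsg.reflectionSubgroup (⇑Q) c) ⧸ center ↥(Cfsg.reflectionSubgroup (⇑Q) c))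
    (hperf : commutator X = ⊤) :
    ∃ m : ℕ, Nonempty (X ≃* Cfsg.POmega K (Cfsg.quadFormOdd m K)) := by
  have hc' : (center ↥(Cfsg.reflectionSubgroup (⇑Q) c)).map (equiv (Q := Q) hc).toMonoidHom =
      center ↥(tGroup Q c) := by
    ext y
    simp only [mem_map, MulEquiv.toMonoidHom_eq_coe, MonoidHom.coe_coe, mem_center_iff]
    refine ⟨?_, fun hy => ⟨(equiv hc).symm y, fun z => (equiv (Q := Q) hc).injective ?_,
      (equiv hc).apply_symm_apply y⟩⟩
    · rintro ⟨x, hx, rfl⟩ z
      obtain ⟨z, rfl⟩ := (equiv (Q := Q) hc).surjective z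
      rw [← map_mul, ← map_mul, hx]
    · rw [map_mul, map_mul, MulEquiv.apply_symm_apply, hy]
  let E : X ≃* ↥(tGroup Q c) ⧸ center ↥(tGroup Q c) :=
    e.trans (QuotientGroup.congr _ _ (equiv (Q := Q) hc) hc')
  have hperf' : commutator (↥(tGroup Q c) ⧸ center ↥(tGroup Q c)) = ⊤ := by
    rw [← Subgroup.map_top_of_surjective E.toMonoidHom E.surjective, ← hperf, commutator_def,
      commutator_def, map_commutator, map_top_of_surjective E.toMonoidHom E.surjective]
  obtain ⟨h1, h2⟩ := negOne_cases hQ hn hc hperf'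
  obtain ⟨m, hm⟩ := odd_dim hQ hn hc h1 h2
  obtain ⟨e₁⟩ := quot_equiv hQ hn hc h1 h2
  obtain ⟨Φ⟩ := orth_equiv_std hm hQ
  have hcomm := commutator_eq_sGroup hQ (finrank_le hn)
  let Ψ : ↥(sGroup Q) ≃* ↥(Cfsg.Omega K (Cfsg.quadFormOdd m K)) :=
    (MulEquiv.subgroupCongr hcomm.symm).trans
      ((Φ.subgroupMap _).trans (MulEquiv.subgroupCongr (map_commutator_equiv Φ)))
  have hbot' : center ↥(Cfsg.Omega K (Cfsg.quadFormOdd m K)) = ⊥ := eq_bot_iff.mpr fun x hx => by
    obtain ⟨x, rfl⟩ := Ψ.surjective x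
    have : x ∈ center ↥(sGroup Q) := mem_center_iff.mpr fun k => Ψ.injective (by
      rw [map_mul, map_mul]; exact mem_center_iff.mp hx (Ψ k))
    rw [sGroup_center hQ hn h2, mem_bot] at this
    rw [mem_bot, this, map_one]
  exact ⟨m, ⟨((E.trans e₁).trans Ψ).trans
    (((QuotientGroup.quotientMulEquivOfEq hbot').trans QuotientGroup.quotientBot).symm)⟩⟩

end Cfsg.Agent.FischerSimpleOrth99
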