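import Cfsg.Prelude.Def_Sporadic
import Cfsg.Agent.Lib.FischerTop99
import Cfsg.Agent.Lib.FischerSimpleOrth99
import Cfsg.Agent.Lib.OrthCharTwoForms
import Cfsg.Agent.Lib.ThreeTransM22Order72
import Cfsg.Agent.Lib.ThreeTransM23Order34
import Cfsg.Agent.Lib.ThreeTransM23Cent59
import Cfsg.Agent.S5375

/-!
# The simple 3-transposition groups

Among the conclusions of Fischer's theorem the symmetric groups and the full orthogonal groups over
the field with two elements are not perfect, the groups of type M(24) have a layer of index two, and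
a perfect reflection group modulo its centre is a simple orthogonal group in odd dimension.
-/

set_option autoImplicit false

open Cfsg

namespace Cfsg.Agent.FischerSimple99

open QuadraticMap Matrix
open Cfsg.Agent.OrthUnitaryQuad Cfsg.Agent.OrthUnitaryForms Cfsg.Agent.OrthCharTwoForms

universe u

variable {G : Type u} [Group G] {D : Set G}

theorem good_plus_six {m : ℕ} (hm : 3 ≤ m) :
    Good (quadFormPlus m (ZMod 2)) := by
  refine ⟨qfPlus (ZMod 2) m, fun v => (qfPlus_apply (ZMod 2) m v).symm, ?_, by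
    simp only [Fintype.card_sum, Fintype.card_fin]; omega⟩
  have hpol : ∀ x y, polarBilin (qfPlus (ZMod 2) m) x y =
      ∑ i : Fin m, (x (.inl i) * y (.inr i) + y (.inl i) * x (.inr i)) := by
    intro x y
    simp only [polarBilin_apply_apply, polar, qfPlus_apply, quadFormPlus, Pi.add_apply,
      ← Finset.sum_sub_distrib]
    exact Finset.sum_congr rfl fun i _ => by ring
  have key : ∀ x, (∀ y, polarBilin (qfPlus (ZMod 2) m) x y = 0) → x = 0 := by
    intro x hx
    funext i
    rcases i with i | i
    · have := hx (Pi.single (.inr i) 1)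
      simpa [hpol, Pi.single_apply, Finset.sum_ite_eq'] using this
    · have := hx (Pi.single (.inl i) 1)
      simpa [hpol, Pi.single_apply, Finset.sum_ite_eq'] using this
  exact ⟨key, fun y hy => key y fun x => by
    have := hy x
    rw [polarBilin_apply_apply, polar_comm] at this
    rwa [polarBilin_apply_apply]⟩

theorem good_minus_six {m : ℕ} (hm : 2 ≤ m) :
    Good (quadFormMinus m (ZMod 2) 1 1) := by
  let e := eqMinus (F := ZMod 2) m
  let Q : QuadraticForm (ZMod 2) ((Fin m ⊕ Fin m) ⊕ Fin 2 → ZMod 2) :=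
    (withBase m (qfBin 1 1)).comp e.symm.toLinearMap
  have hQ : ∀ v, quadFormMinus m (ZMod 2) 1 1 v = Q v := fun v => by
    show _ = withBase m (qfBin 1 1) (e.symm v)
    rw [← eqMinus_isometry, LinearEquiv.apply_symm_apply]
  refine ⟨Q, hQ, ?_, by simp only [Fintype.card_sum, Fintype.card_fin]; omega⟩
  have hpol : ∀ x y, polarBilin Q x y =
      (∑ i : Fin m, (x (.inl (.inl i)) * y (.inl (.inr i))
        + y (.inl (.inl i)) * x (.inl (.inr i))))
        + (x (.inr 0) * y (.inr 1) + y (.inr 0) * x (.inr 1)) := by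
    intro x y
    simp only [polarBilin_apply_apply, polar, ← hQ, quadFormMinus, Pi.add_apply]
    rw [Finset.sum_add_distrib]
    simp only [add_mul, mul_add, Finset.sum_add_distrib]
    linear_combination (x (.inr 0) * y (.inr 0) + x (.inr 1) * y (.inr 1)) *
      (CharTwo.two_eq_zero (R := ZMod 2))
  have key : ∀ x, (∀ y, polarBilin Q x y = 0) → x = 0 := by
    intro x hx
    funext i
    rcases i with (i | i) | i
    · have := hx (Pi.single (.inl (.inr i)) 1)
      simpa [hpol, Pi.single_apply, Finset.sum_ite_eq'] using this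
    · have := hx (Pi.single (.inl (.inl i)) 1)
      simpa [hpol, Pi.single_apply, Finset.sum_ite_eq'] using this
    · have h0 := hx (Pi.single (.inr 0) 1)
      have h1 := hx (Pi.single (.inr 1) 1)
      simp [hpol, Pi.single_apply] at h0 h1
      fin_cases i
      · exact h1
      · exact h0
  exact ⟨key, fun y hy => key y fun x => by
    have := hy x
    rw [polarBilin_apply_apply, polar_comm] at this
    rwa [polarBilin_apply_apply]⟩

/-- A perfect group is no orthogonal group over the field with two elements. -/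
theorem false_of_orth {ι : Type} [Fintype ι] [DecidableEq ι] {f : (ι → ZMod 2) → ZMod 2}
    (hf : Good f) (hperf : commutator G = ⊤) (hne : D.Nonempty)
    (e : G ≃* ↥(Cfsg.isometryGroup (ZMod 2) f))
    (he : e '' D = {g : ↥(Cfsg.isometryGroup (ZMod 2) f) | (((g : GL ι (ZMod 2)) : Matrix ι ι (ZMod 2)) - 1).rank = 1}) :
    False := by
  have htop : commutator ↥(Cfsg.isometryGroup (ZMod 2) f) = ⊤ := by
    rw [← Subgroup.map_top_of_surjective e.toMonoidHom e.surjective, ← hperf, commutator_def,
      commutator_def, Subgroup.map_commutator,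
      Subgroup.map_top_of_surjective e.toMonoidHom e.surjective]
  obtain ⟨d, hd⟩ := hne
  have h1 : e d ∈ e '' D := ⟨d, hd, rfl⟩
  rw [he] at h1
  have h2 : e d ∈ Omega (ZMod 2) f := by
    show e d ∈ commutator _
    rw [htop]
    exact Subgroup.mem_top _
  have h3 := (mem_Omega_iff_even hf (e d)).mp h2
  rw [show ((((e d : ↥(Cfsg.isometryGroup (ZMod 2) f)) : GL ι (ZMod 2)) : Matrix ι ι (ZMod 2)) - 1).rank = 1
    from h1] at h3
  exact absurd h3 (by decide)

/-- The simple 3-transposition groups, from the central-core classification. -/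
theorem main [Finite G] [IsSimpleGroup G] (hna : ∃ x y : G, x * y ≠ y * x)
    (hD : Cfsg.IsThreeTranspositionClass D) (H : FischerTop99.CentralClassification G D) :
    (∃ n : ℕ, Nonempty (G ≃* Matrix.symplecticGroup (Fin n) (ZMod 2))) ∨ (∃ (F : Type) (_ : Field F) (_ : Fintype F) (n : ℕ), Fintype.card F = 4 ∧ Nonempty (G ≃* Cfsg.PSU n F 2)) ∨ (∃ m : ℕ, Nonempty (G ≃* Cfsg.POmega (ZMod 3) (Cfsg.quadFormOdd m (ZMod 3)))) ∨ Cfsg.IsFi22 G ∨ Cfsg.IsFi23 G := by
  classical
  obtain ⟨x, y, hxy⟩ := hna
  have hZ : Subgroup.center G = ⊥ :=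
    (Subgroup.Normal.eq_bot_or_eq_top inferInstance).resolve_right fun h =>
      hxy (Subgroup.mem_center_iff.mp (h ▸ Subgroup.mem_top y) x)
  have hperf : commutator G = ⊤ :=
    (Subgroup.Normal.eq_bot_or_eq_top (by infer_instance)).resolve_left fun h =>
      hxy (commutatorElement_eq_one_iff_mul_comm.mp (Subgroup.mem_bot.mp (h ▸
        Subgroup.commutator_mem_commutator (Subgroup.mem_top x) (Subgroup.mem_top y))))
  have hsimple : IsSimpleGroup ↥(commutator G) := by
    rw [hperf]
    exact IsSimpleGroup.isSimpleGroup_of_surjective (Subgroup.topEquiv (G := G)).symm.toMonoidHom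
      (Subgroup.topEquiv (G := G)).symm.surjective
  have hne : D.Nonempty := hD.2.1.imp fun d h => h.1
  have hsign : ∀ n : ℕ, ∀ e : G ≃* Equiv.Perm (Fin n),
      e '' D = {σ : Equiv.Perm (Fin n) | σ.IsSwap} → False := by
    intro n e he
    obtain ⟨d, hd⟩ := hne
    have h1 : e d ∈ e '' D := ⟨d, hd, rfl⟩
    rw [he] at h1
    obtain ⟨a, b, hab, he'⟩ := h1
    have h2 : d ∈ (Equiv.Perm.sign.comp e.toMonoidHom).ker :=
      Abelianization.commutator_subset_ker (Equiv.Perm.sign.comp e.toMonoidHom)
        (hperf ▸ Subgroup.mem_top d)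
    rw [MonoidHom.mem_ker, MonoidHom.comp_apply, MulEquiv.coe_toMonoidHom, he',
      Equiv.Perm.sign_swap hab] at h2
    exact absurd h2 (by decide)
  rcases FischerTop99.main hD hZ hsimple H with ⟨n, e, he⟩ | ⟨m, e, -⟩ |
    ⟨n, F, iF, iF', hF, e, -⟩ | hc
  · exact (hsign n e he).elim
  · exact Or.inl ⟨m, ⟨e⟩⟩
  · exact Or.inr (Or.inl ⟨F, iF, iF', n, hF, ⟨e⟩⟩)
  rcases hc with ⟨n, -, e, he⟩ | (⟨m, hm, e, he⟩ | ⟨m, hm, e, he⟩) |
    ⟨n, hn, Q, hQ, c, hc, e, -⟩ | ht
  · exact (hsign n e he).elim
  · exact (false_of_orth (good_plus_six hm) hperf hne e he).elim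
  · exact (false_of_orth (good_minus_six hm) hperf hne e he).elim
  · exact Or.inr (Or.inr (Or.inl (FischerSimpleOrth99.main hQ hn hc e hperf)))
  have hgrp := FischerTop99.isGroup_of_class hD
  have hw : ∃ a ∈ D, ∃ b ∈ D, a ≠ b ∧ Commute a b := by
    by_contra hw
    push Not at hw
    obtain ⟨e, he⟩ := FischerTop99.perm_three hD hZ hsimple hw
    exact hsign 3 e he
  have hprim : Cfsg.IsPrimitiveUnderConj D := ((S5361.result hD hZ hw).1).mp hsimple
  rcases ht with ht | ht | ht
  · exact Or.inr (Or.inr (Or.inr (Or.inl ⟨inferInstance, by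
      rw [ThreeTransM22Order72.card_G hgrp hprim ht]; norm_num⟩)))
  · obtain ⟨d, X⟩ := ThreeTransM23Order34.exists_ctx hgrp hprim ht
    exact Or.inr (Or.inr (Or.inr (Or.inr ⟨inferInstance, by
      rw [ThreeTransM23Order34.card_G X (ThreeTransM23Cent59.centralizer_eq X)]; norm_num⟩)))
  · obtain ⟨hidx, -, hcard, -⟩ := S5375.result hgrp hprim ht
    exfalso
    have hlay : (Cfsg.layer G).Normal := ComponentsBasic.layer_normal
    rcases Subgroup.Normal.eq_bot_or_eq_top hlay with h | h
    · rw [h, Subgroup.index_bot, hcard] at hidx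
      norm_num at hidx
    · rw [h, Subgroup.index_top] at hidx
      exact absurd hidx (by norm_num)

end Cfsg.Agent.FischerSimple99
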