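import Mathlib
import Cfsg.Prelude.Def_Solvable
import Cfsg.Agent.Lib.ThreeTranspRank3
import Cfsg.Agent.Lib.HallCore
import Cfsg.Agent.Lib.FischerPetersen54

/-!
3-transposition groups in which every local group `closure (Dx D x)` is solvable with central odd
core: the transpositions commuting with `x` fall into classes of pairwise commuting members
(Fischer's lines through `x`), commuting being transitive on `Dx D x`.
-/

set_option autoImplicit false
set_option linter.style.haveILetI false
set_option linter.unusedSectionVars false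

namespace Cfsg.Agent.FischerSolvClasses99

open Subgroup
open Cfsg.Agent.ThreeTransp

section Solvable

variable {X : Type*} [Group X] [Finite X]

/-- A finite solvable group with central `O₂` and central odd core is commutative. -/
theorem comm_of_central_cores (hs : Group.IsSolvable X) (h2 : Cfsg.pCore 2 X ≤ center X)
    (h0 : Cfsg.pPrimeCore 2 X ≤ center X) : ∀ a b : X, a * b = b * a := by
  classical
  obtain ⟨n, hn⟩ := Group.IsSolvable.solvable (G := X)
  have hex : ∃ k, derivedSeries X k ≤ center X := ⟨n, hn ▸ bot_le⟩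
  suffices hk : Nat.find hex = 0 by
    have h := Nat.find_spec hex
    rw [hk, derivedSeries_zero] at h
    exact fun a b => ((mem_center_iff.mp (h (mem_top a))) b).symm
  by_contra hk
  obtain ⟨k, hk'⟩ := Nat.exists_eq_succ_of_ne_zero hk
  apply Nat.find_min hex (show k < Nat.find hex by omega)
  have hder : ⁅derivedSeries X k, derivedSeries X k⁆ ≤ center X := by
    rw [← derivedSeries_succ]
    have h := Nat.find_spec hex
    rwa [hk'] at h
  set K := derivedSeries X k with hKdef
  haveI hKn : K.Normal := derivedSeries_normal X k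
  have hcK : commutator ↥K ≤ center ↥K := by
    intro z hz
    have h1 : (z : X) ∈ center X :=
      hder (by rw [← map_subtype_commutator]; exact mem_map_of_mem _ hz)
    exact mem_center_iff.mpr fun w => Subtype.ext (mem_center_iff.mp h1 w)
  haveI hnil : Group.IsNilpotent ↥K :=
    Subgroup.isNilpotent_of_ker_le_center (Abelianization.of (G := ↥K)) (by rwa [Abelianization.ker_of])
  set S := (center X).subgroupOf K with hS
  have hidx : S.index = 1 := by
    by_contra hne
    obtain ⟨p, hp, hdvd⟩ := Nat.exists_prime_and_dvd hne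
    haveI := Fact.mk hp
    obtain ⟨P⟩ : Nonempty (Sylow p ↥K) := inferInstance
    have hPn : (P : Subgroup ↥K).Normal := inferInstance
    haveI hPc : (P : Subgroup ↥K).Characteristic := Sylow.characteristic_of_normal P hPn
    haveI hPX : ((P : Subgroup ↥K).map K.subtype).Normal := inferInstance
    have hle : (P : Subgroup ↥K).map K.subtype ≤ center X := by
      rcases eq_or_ne p 2 with rfl | hp2
      · exact le_trans (HallCore.le_pCore (P.2.map K.subtype)) h2
      · refine le_trans ?_ h0
        refine le_sSup ⟨hPX, ?_⟩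
        obtain ⟨m, hm⟩ := (P.2.map K.subtype).exists_card_eq
        rw [hm]
        exact ((Nat.coprime_primes hp Nat.prime_two).mpr hp2).pow_left m
    have hPS : (P : Subgroup ↥K) ≤ S := fun z hz => mem_subgroupOf.mpr (hle (mem_map_of_mem _ hz))
    exact P.not_dvd_index (hdvd.trans (index_dvd_of_le hPS))
  rw [index_eq_one] at hidx
  exact subgroupOf_eq_top.mp hidx

end Solvable

variable {G : Type*} [Group G] {D : Set G}

/-- The local group of `x`. -/
abbrev Hx (D : Set G) (x : G) : Subgroup G := Subgroup.closure (Dx D x)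

/-- The standing hypotheses. -/
structure Ctx (D : Set G) : Prop where
  tc : TC D
  ne : ∀ a ∈ D, a ≠ 1
  sol : ∀ N : Subgroup G, N.Normal → Group.IsSolvable ↥N → N = ⊥
  perf : ⁅commutator G, commutator G⁆ = commutator G
  locsol : ∀ x ∈ D, Group.IsSolvable ↥(Hx D x)
  locodd : ∀ x ∈ D, Cfsg.pPrimeCore 2 ↥(Hx D x) ≤ center ↥(Hx D x)

/-- An element of the local group. -/
def el {x y : G} (hy : y ∈ Dx D x) : ↥(Hx D x) := ⟨y, Subgroup.subset_closure hy⟩

/-- `O₂` of the local group. -/
abbrev Qx (D : Set G) (x : G) : Subgroup ↥(Hx D x) := Cfsg.pCore 2 ↥(Hx D x)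

variable [Finite G] (C : Ctx D)
include C

theorem hsol' : ∀ N : Subgroup G, N.Normal → Group.IsSolvable ↥N → N ≤ commutator G → N = ⊥ :=
  fun N hN hs _ => C.sol N hN hs

omit [Finite G] in
theorem dx_mem {x y : G} (hx : x ∈ D) (hy : y ∈ Dx D x) : x ∈ Dx D y :=
  ⟨hx, hy.2.1.symm, hy.2.2.symm⟩

omit [Finite G] in
/-- Two transpositions whose product has `2`-power order commute. -/
theorem commute_of_two_pow {a b : G} (ha : a ∈ D) (hb : b ∈ D) {k : ℕ}
    (h : (a * b) ^ 2 ^ k = 1) : Commute a b := by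
  rcases C.tc.or3 a ha b hb with hc | h3
  · exact hc
  · have h1 : orderOf (a * b) ∣ Nat.gcd (2 ^ k) 3 :=
      Nat.dvd_gcd (orderOf_dvd_of_pow_eq_one h) (orderOf_dvd_of_pow_eq_one h3)
    rw [Nat.Coprime.pow_left k (by norm_num : Nat.Coprime 2 3), Nat.dvd_one, orderOf_eq_one_iff] at h1
    have e : b = a := by
      calc b = a * a * b := by rw [C.tc.sq a ha, one_mul]
        _ = a := by rw [mul_assoc, h1, mul_one]
    rw [e]

omit [Finite G] in
/-- Some transposition commuting with `x` does not commute with another one. -/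
theorem dx_nonempty (hG : Finite G) {x : G} (hx : x ∈ D) :
    ∃ y ∈ Dx D x, ∃ y' ∈ Dx D x, ¬ Commute y y' := by
  haveI := hG
  -- some transposition does not commute with `x`
  obtain ⟨z, hz, hxz⟩ : ∃ z ∈ D, ¬ Commute x z := by
    by_contra hall
    push Not at hall
    have hc : x ∈ center G := by
      rw [mem_center_iff]
      intro g
      have hle : (⊤ : Subgroup G) ≤ centralizer ({x} : Set G) := by
        rw [← C.tc.gen, Subgroup.closure_le]
        exact fun d hd => mem_centralizer_singleton_iff.mpr (hall d hd).symm.eq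
      exact mem_centralizer_singleton_iff.mp (hle (mem_top g))
    have hz1 : center G = ⊥ := C.sol (center G) inferInstance
      (Group.isSolvable_of_comm fun a b => Subtype.ext (mem_center_iff.mp b.2 a.1))
    rw [hz1, mem_bot] at hc
    exact C.ne x hx hc
  obtain ⟨d, hd, hdx, hdz⟩ := near_all C.tc C.perf hx hz
  have hdxD : d ∈ Dx D x := ⟨hd, fun e => hxz (e ▸ hdz), hdx.symm⟩
  by_contra hall
  push Not at hall
  -- the commuting transpositions form a single one
  have hsingle : ∀ y ∈ Dx D x, y = d := by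
    intro y hy
    obtain ⟨g, hg, e⟩ := dx_transitive C.tc (hsol' C) hx hdxD hy
    have hgc : g ∈ centralizer ({d} : Set G) := (Subgroup.closure_le _).mpr
      (fun w hw => mem_centralizer_singleton_iff.mpr (hall w hw d hdxD).eq) hg
    rw [← e, (mem_centralizer_singleton_iff.mp hgc), mul_inv_cancel_right]
  have hcd : d ∈ center G := by
    rw [mem_center_iff]
    intro g
    have hle : (⊤ : Subgroup G) ≤ centralizer ({d} : Set G) := by
      rw [← C.tc.gen, Subgroup.closure_le]
      intro w hw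
      refine mem_centralizer_singleton_iff.mpr ?_
      by_cases hc : Commute x w
      · by_cases e : w = x
        · exact e ▸ hdx.symm.eq
        · rw [hsingle w ⟨hw, e, hc⟩]
      · obtain ⟨d', hd', h1, h2⟩ := near_all C.tc C.perf hx hw
        have : d' = d := hsingle d' ⟨hd', fun e => hc (e ▸ h2), h1.symm⟩
        rw [this] at h2
        exact h2.symm.eq
    exact mem_centralizer_singleton_iff.mp (hle (mem_top g))
  exact hxz (by
    obtain ⟨g, hg⟩ := C.tc.trans d hd x hx
    rw [mem_center_iff.mp hcd g, mul_inv_cancel_right] at hg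
    exact hg ▸ hdz)

/-- Two members of `Dx x` with the same image modulo `O₂`. -/
def Same (D : Set G) (x y y' : G) : Prop :=
  ∃ (hy : y ∈ Dx D x) (hy' : y' ∈ Dx D x), el hy * el hy' ∈ Qx D x

omit [Finite G] in
theorem el_sq {x y : G} (hy : y ∈ Dx D x) : el hy * el hy = 1 :=
  Subtype.ext (C.tc.sq y hy.1)

omit [Finite G] in
theorem el_inv {x y : G} (hy : y ∈ Dx D x) : (el hy)⁻¹ = el hy :=
  inv_eq_of_mul_eq_one_right (el_sq C hy)

/-- Members with the same image commute. -/
theorem Same.commute {x y y' : G} (hs : Same D x y y') : Commute y y' := by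
  obtain ⟨hy, hy', hm⟩ := hs
  obtain ⟨k, hk⟩ := (HallCore.isPGroup_pCore 2 ↥(Hx D x)) ⟨_, hm⟩
  exact commute_of_two_pow C hy.1 hy'.1 (k := k) (congrArg (fun z => ((z : ↥(Qx D x)) : ↥(Hx D x)).1) hk)

/-- Members commuting with one commute with all of the same image. -/
theorem Same.module {x f y y' : G} (hs : Same D x y y') (hf : f ∈ Dx D x) (hc : Commute f y) :
    Commute f y' := by
  have hsc := hs.commute C
  obtain ⟨hy, hy', hm⟩ := hs
  haveI := HallCore.pCore_normal 2 ↥(Hx D x)
  by_contra hn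
  have e3 : (el hf * el hy') ^ 3 = 1 :=
    Subtype.ext ((C.tc.or3 f hf.1 y' hy'.1).resolve_left hn)
  have e2 : (el hf * el hy) ^ 2 = 1 := Subtype.ext (by
    show (f * y) ^ 2 = 1
    rw [hc.mul_pow, pow_two, pow_two, C.tc.sq f hf.1, C.tc.sq y hy.1, one_mul])
  set π := QuotientGroup.mk' (Qx D x)
  have hyy : π (el hy') = π (el hy) := by
    rw [QuotientGroup.mk'_apply, QuotientGroup.mk'_apply, eq_comm, QuotientGroup.eq, el_inv C hy]
    exact hm
  have h3 := congrArg π e3
  have h2 := congrArg π e2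
  rw [map_pow, map_mul, map_one] at h2 h3
  rw [hyy] at h3
  rw [pow_succ, h2, one_mul, ← map_mul, QuotientGroup.mk'_apply, QuotientGroup.eq_one_iff] at h3
  have hfy : Same D x f y' := ⟨hf, hy', by
    have e : el hf * el hy' = el hf * el hy * (el hy * el hy') := by
      rw [mul_assoc (el hf), ← mul_assoc (el hy), el_sq C hy, one_mul]
    rw [e]; exact mul_mem h3 hm⟩
  exact hn (hfy.commute C)

theorem Same.symm {x y y' : G} (hs : Same D x y y') : Same D x y' y := by
  obtain ⟨hy, hy', hm⟩ := hs
  refine ⟨hy', hy, ?_⟩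
  have h := inv_mem hm
  rwa [mul_inv_rev, el_inv C hy, el_inv C hy'] at h

theorem Same.trans {x a b c : G} (h1 : Same D x a b) (h2 : Same D x b c) : Same D x a c := by
  obtain ⟨ha, hb, hm⟩ := h1
  obtain ⟨hb', hc, hm'⟩ := h2
  refine ⟨ha, hc, ?_⟩
  have h := mul_mem hm hm'
  rwa [mul_assoc (el ha), ← mul_assoc (el hb), el_sq C hb, one_mul] at h

/-- `O₂` of the local group is not central. -/
theorem Qx_not_central {x : G} (hx : x ∈ D) : ¬ Qx D x ≤ center ↥(Hx D x) := by
  intro h2
  obtain ⟨y, hy, y', hy', hn⟩ := dx_nonempty C inferInstance hx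
  exact hn (congrArg Subtype.val (comm_of_central_cores (C.locsol x hx) h2 (C.locodd x hx) (el hy) (el hy')))

omit [Finite G] in
theorem fix_x {x : G} (k : ↥(Hx D x)) : (k : G) * x * (k : G)⁻¹ = x :=
  FischerTwins54.conj_of_commute (mem_centralizer_singleton_iff.mp ((Subgroup.closure_le _).mpr
    (fun z hz => mem_centralizer_singleton_iff.mpr hz.2.2.symm.eq) k.2))

omit [Finite G] in
theorem conj_dx {x y : G} (k : ↥(Hx D x)) (hy : y ∈ Dx D x) :
    (k : G) * y * (k : G)⁻¹ ∈ Dx D x := by
  have := FischerTwins54.mem_dx_conj C.tc (k : G) hy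
  rwa [fix_x C k] at this

/-- If a normal subgroup of the local group centralises one member it centralises it all. -/
theorem central_of_fix {x y : G} (hx : x ∈ D) (hy : y ∈ Dx D x) (N : Subgroup ↥(Hx D x)) [N.Normal]
    (hfix : ∀ n ∈ N, Commute (n : G) y) : N ≤ center ↥(Hx D x) := by
  intro n hn
  rw [mem_center_iff]
  intro z
  refine Subtype.ext (mem_centralizer_singleton_iff.mp ((Subgroup.closure_le _).mpr ?_ z.2) : _)
  intro w hw
  obtain ⟨g, hg, e⟩ := dx_transitive C.tc (hsol' C) hx hy hw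
  have h1 := hfix _ ((inferInstance : N.Normal).conj_mem n hn (⟨g, hg⟩ : ↥(Hx D x))⁻¹)
  have h2 := commute_conj_iff (g := g).mpr h1
  simp only [Subgroup.coe_mul, Subgroup.coe_inv, inv_inv] at h2
  rw [e, show g * (g⁻¹ * (n : G) * g) * g⁻¹ = (n : G) by group] at h2
  exact mem_centralizer_singleton_iff.mpr h2.symm.eq

/-- Every member has another one with the same image. -/
theorem exists_same {x y : G} (hx : x ∈ D) (hy : y ∈ Dx D x) :
    ∃ y', y' ≠ y ∧ Same D x y y' := by
  by_contra hall
  push Not at hall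
  haveI := HallCore.pCore_normal 2 ↥(Hx D x)
  refine Qx_not_central C hx (central_of_fix C hx hy (Qx D x) fun q hq => ?_)
  refine FischerTwins54.commute_of_conj (by_contra fun hne => hall _ hne ⟨hy, conj_dx C q hy, ?_⟩)
  have e : el hy * el (conj_dx C q hy) = (el hy * q * (el hy)⁻¹) * q⁻¹ := Subtype.ext (by
    show y * ((q : G) * y * (q : G)⁻¹) = y * (q : G) * y⁻¹ * (q : G)⁻¹
    rw [C.tc.inv_eq hy.1]; group)
  rw [e]
  exact mul_mem ((inferInstance : (Qx D x).Normal).conj_mem q hq _) (inv_mem hq)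

/-- A non-commuting member `b'` with the neighbours of `b` outside its image. -/
theorem exists_quasi_twin {x b : G} (hx : x ∈ D) (hb : b ∈ Dx D x) :
    ∃ b' ∈ Dx D x, ¬ Commute b b' ∧
      ∀ f ∈ Dx D x, Commute f b → ¬ Same D x f b → Commute f b' := by
  classical
  haveI := HallCore.pCore_normal 2 ↥(Hx D x)
  haveI : Fact (Nat.Prime 2) := ⟨Nat.prime_two⟩
  haveI := C.locsol x hx
  set π := QuotientGroup.mk' (Qx D x) with hπ
  set O := Cfsg.pPrimeCore 2 (↥(Hx D x) ⧸ Qx D x) with hO
  haveI : O.Normal := HallCore.pPrimeCore_normal 2 _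
  haveI : (O.comap π).Normal := Subgroup.Normal.comap inferInstance π
  have hodd : ∀ q ∈ O, q ^ 2 = 1 → q = 1 := by
    intro q hq hq2
    have h1 : orderOf q ∣ Nat.gcd 2 (Nat.card O) := Nat.dvd_gcd (orderOf_dvd_of_pow_eq_one hq2)
      (by have := orderOf_dvd_natCard (⟨q, hq⟩ : O); rwa [Subgroup.orderOf_mk] at this)
    rw [Nat.coprime_comm.mp (HallCore.coprime_card_pPrimeCore 2 _), Nat.dvd_one,
      orderOf_eq_one_iff] at h1
    exact h1
  obtain ⟨n, hn, hne⟩ : ∃ n ∈ O.comap π, ¬ Same D x b ((n : G) * b * (n : G)⁻¹) := by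
    by_contra hall
    push Not at hall
    obtain ⟨y, hy, y', hy', hnc⟩ := dx_nonempty C inferInstance hx
    have hcen : O ≤ center (↥(Hx D x) ⧸ Qx D x) := by
      intro o ho
      obtain ⟨n, rfl⟩ := QuotientGroup.mk'_surjective (Qx D x) o
      rw [mem_center_iff]
      intro z
      obtain ⟨z, rfl⟩ := QuotientGroup.mk'_surjective (Qx D x) z
      have hle : (⊤ : Subgroup ↥(Hx D x)) ≤ (centralizer ({π n} : Set _)).comap π := by
        rw [← Subgroup.closure_closure_coe_preimage (k := Dx D x), Subgroup.closure_le]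
        intro w hw
        obtain ⟨g, hg, e⟩ := dx_transitive C.tc (hsol' C) hx hb (show (w : G) ∈ Dx D x from hw)
        set k : ↥(Hx D x) := ⟨g, hg⟩
        obtain ⟨h1, h2, hm⟩ := hall _ (Subgroup.mem_comap.mpr ho |> fun h =>
          (inferInstance : (O.comap π).Normal).conj_mem n h k⁻¹)
        have hw' : w = k * el hb * k⁻¹ := Subtype.ext e.symm
        set m := k⁻¹ * n * k⁻¹⁻¹ with hm'
        have e' : el h2 = m * el hb * m⁻¹ := rfl
        rw [e'] at hm
        have hq : π (m * el hb * m⁻¹) = π (el hb) := by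
          rw [hπ, QuotientGroup.mk'_apply, QuotientGroup.mk'_apply, eq_comm, QuotientGroup.eq,
            el_inv C hb]
          exact hm
        show π w ∈ centralizer ({π n} : Set _)
        rw [mem_centralizer_singleton_iff, ← map_mul, ← map_mul, eq_comm, hw']
        have h3 : π (m * el hb) = π (el hb * m) := by
          have := congrArg (· * π m) hq
          simp only [← map_mul] at this
          rwa [inv_mul_cancel_right] at this
        have h4 := congrArg (fun t => π k * t * π k⁻¹) h3
        simp only [← map_mul] at h4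
        refine Eq.trans (congrArg π ?_) (h4.trans (congrArg π ?_)) <;> (rw [hm']; group)
      exact (mem_centralizer_singleton_iff.mp (hle (mem_top z)))
    have h2 : Cfsg.pCore 2 (↥(Hx D x) ⧸ Qx D x) ≤ center _ := by
      rw [HallCore.pCore_quotient_self]; exact bot_le
    have hcomm := comm_of_central_cores (inferInstance : Group.IsSolvable (↥(Hx D x) ⧸ Qx D x)) h2 hcen
    -- then all members commute
    have hc' : π (el hy) = π (el hy') := by
      obtain ⟨g, hg, e⟩ := dx_transitive C.tc (hsol' C) hx hy hy'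
      have : el hy' = (⟨g, hg⟩ : ↥(Hx D x)) * el hy * (⟨g, hg⟩ : ↥(Hx D x))⁻¹ := Subtype.ext e.symm
      rw [this, map_mul, map_mul, hcomm (π _) (π (el hy)), map_inv, mul_inv_cancel_right]
    refine hnc (Same.commute C (x := x) ⟨hy, hy', ?_⟩)
    rw [hπ, QuotientGroup.mk'_apply, QuotientGroup.mk'_apply, QuotientGroup.eq, el_inv C hy] at hc'
    exact hc'
  set b' := (n : G) * b * (n : G)⁻¹ with hb'def
  have hb' : b' ∈ Dx D x := conj_dx C n hb
  have hm : π (el hb * el hb') ∈ O := by
    have e : el hb * el hb' = (el hb * n * (el hb)⁻¹) * n⁻¹ := Subtype.ext (by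
      show b * ((n : G) * b * (n : G)⁻¹) = b * (n : G) * b⁻¹ * (n : G)⁻¹
      rw [C.tc.inv_eq hb.1]; group)
    rw [e]
    exact mul_mem ((inferInstance : (O.comap π).Normal).conj_mem n hn (el hb)) (inv_mem hn)
  refine ⟨b', hb', fun hc => hne ⟨hb, hb', ?_⟩, fun f hf hfb hns => ?_⟩
  · have h2 : (el hb * el hb') ^ 2 = 1 := Subtype.ext (by
      show (b * b') ^ 2 = 1
      rw [hc.mul_pow, pow_two, pow_two, C.tc.sq b hb.1, C.tc.sq b' hb'.1, one_mul])
    exact (QuotientGroup.eq_one_iff _).mp (hodd (π (el hb * el hb')) hm (by rw [← map_pow π, h2, map_one]))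
  · by_contra hn'
    have e2 : (el hf * el hb) ^ 2 = 1 := Subtype.ext (by
      show (f * b) ^ 2 = 1
      rw [hfb.mul_pow, pow_two, pow_two, C.tc.sq f hf.1, C.tc.sq b hb.1, one_mul])
    have e3 : (el hf * el hb') ^ 3 = 1 := Subtype.ext ((C.tc.or3 f hf.1 b' hb'.1).resolve_left hn')
    have e : el hf * el hb' = el hf * el hb * (el hb * el hb') := by
      rw [mul_assoc (el hf), ← mul_assoc (el hb), el_sq C hb, one_mul]
    have hw : π (el hf * el hb) ∈ O := by
      rw [← QuotientGroup.eq_one_iff]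
      set ρ := QuotientGroup.mk' O
      have h5 := congrArg (fun t => ρ (π t)) e3
      rw [e] at h5
      simp only [map_pow, map_mul π (el hf * el hb), map_mul ρ (π (el hf * el hb)), map_one] at h5
      rw [show ρ (π (el hb * el hb')) = 1 from (QuotientGroup.eq_one_iff _).mpr hm, mul_one,
        pow_succ, ← map_pow, ← map_pow, e2, map_one, map_one, one_mul] at h5
      exact h5
    refine hns ⟨hf, hb, (QuotientGroup.eq_one_iff _).mp (hodd (π (el hf * el hb)) hw ?_)⟩
    rw [← map_pow π, e2, map_one]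

omit [Finite G] in
/-- The third rule for three members on a line. -/
theorem coll_third (hG : Finite G) {v y w f : G} (hv : v ∈ D) (hs : Same D v y w) (hne : w ≠ y)
    (hf : f ∈ D) (fv : f ≠ v) (fy : f ≠ y) (fw : f ≠ w) :
    (Commute f v → Commute f y → Commute f w) ∧ (Commute f v → Commute f w → Commute f y) ∧
      (Commute f y → Commute f w → Commute f v) := by
  haveI := hG
  have hyw := hs.commute C
  have hy : y ∈ Dx D v := hs.1
  have hw : w ∈ Dx D v := hs.2.1
  refine ⟨fun h1 h2 => hs.module C ⟨hf, fv, h1.symm⟩ h2,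
    fun h1 h2 => (hs.symm C).module C ⟨hf, fv, h1.symm⟩ h2, fun h1 h2 => ?_⟩
  have hvw : v ∈ Dx D y := dx_mem C hv hy
  have hwy : w ∈ Dx D y := ⟨hw.1, hne, hyw⟩
  have hsub : FischerTwins54.Loc D v y \ {w} ⊆ FischerTwins54.Loc D y w \ {v} := by
    rintro g ⟨⟨g1, g2⟩, g3⟩
    exact ⟨⟨g2, g1.1, g3, (hs.module C g1 g2.2.2.symm).symm⟩, g1.2.1⟩
  have heq := Set.eq_of_subset_of_ncard_le hsub (by
    rw [Set.ncard_diff_singleton_of_mem
        (show w ∈ FischerTwins54.Loc D v y from ⟨hw, hwy⟩),
      Set.ncard_diff_singleton_of_mem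
        (show v ∈ FischerTwins54.Loc D y w from ⟨hvw, dx_mem C hv hw⟩),
      FischerTwins54.ncard_loc C.tc (hsol' C) hv hy hy.1 hwy]) (Set.toFinite _)
  have hmem : f ∈ FischerTwins54.Loc D y w \ {v} :=
    ⟨⟨⟨hf, fy, h1.symm⟩, hf, fw, h2.symm⟩, fv⟩
  rw [← heq] at hmem
  exact hmem.1.1.2.2.symm

/-- Commuting members of `Dx x` have the same image. -/
theorem same_of_commute {x b c : G} (hx : x ∈ D) (hb : b ∈ Dx D x) (hc : c ∈ Dx D x)
    (hcb : Commute c b) : Same D x c b := by
  by_contra hns
  obtain ⟨b', hb', hnb, htw⟩ := exists_quasi_twin C hx hb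
  have hb'c : Commute c b' := htw c hc hcb hns
  have hbne : b ≠ c := fun e => hns ⟨hc, hb, by subst e; rw [el_sq C hb]; exact one_mem _⟩
  have hbc : b ∈ Dx D c := ⟨hb.1, hbne, hcb⟩
  obtain ⟨b2, hb2b, hs2⟩ := exists_same C hc.1 hbc
  have hb2c : b2 ∈ Dx D c := hs2.2.1
  have hb2 := hs2.commute C
  have n1 : b' ≠ c := fun e => hnb (e ▸ hcb.symm)
  have n2 : b' ≠ b := fun e => hnb (e ▸ Commute.refl b)
  by_cases e : b2 = x
  · subst e
    exact hnb ((coll_third C inferInstance hc.1 hs2 hb2b hb'.1 n1 n2 hb'.2.1).2.1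
      hb'c.symm hb'.2.2.symm).symm
  have hxb2 : Commute x b2 := (coll_third C inferInstance hc.1 hs2 hb2b hx hc.2.1.symm hb.2.1.symm
    (Ne.symm e)).1 hc.2.2 hb.2.2
  have hb2x : b2 ∈ Dx D x := ⟨hb2c.1, e, hxb2⟩
  have n3 : b' ≠ b2 := fun e' => hnb (e' ▸ hb2)
  by_cases hS : Same D x b b2
  · -- both lines meet in `b` and `b2`
    have hsub : FischerTwins54.Loc D x b \ {b2, c} ⊆ FischerTwins54.Loc D x c \ {b, b2} := by
      rintro g ⟨⟨g1, g2⟩, g3⟩
      simp only [Set.mem_insert_iff, Set.mem_singleton_iff, not_or] at g3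
      have gb2 : Commute g b2 := hS.module C g1 g2.2.2.symm
      have gc : Commute g c := (coll_third C inferInstance hc.1 hs2 hb2b g1.1 g3.2 g2.2.1 g3.1).2.2
        g2.2.2.symm gb2
      refine ⟨⟨g1, g1.1, g3.2, gc.symm⟩, ?_⟩
      simp only [Set.mem_insert_iff, Set.mem_singleton_iff, not_or]
      exact ⟨g2.2.1, g3.1⟩
    have heq := Set.eq_of_subset_of_ncard_le hsub (by
      rw [Set.ncard_diff (Set.pair_subset
            (show b ∈ FischerTwins54.Loc D x c from ⟨hb, hbc⟩) ⟨hb2x, hb2c⟩),
        Set.ncard_diff (Set.pair_subset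
            (show b2 ∈ FischerTwins54.Loc D x b from ⟨hb2x, hb2x.1, hb2b, hb2⟩)
            ⟨hc, hc.1, hbne.symm, hcb.symm⟩),
        Set.ncard_pair hb2c.2.1, Set.ncard_pair hb2b.symm,
        FischerTwins54.ncard_loc C.tc (hsol' C) hx hb hx hc]) (Set.toFinite _)
    have hmem : b' ∈ FischerTwins54.Loc D x c \ {b, b2} := by
      refine ⟨⟨hb', hb'.1, n1, hb'c⟩, ?_⟩
      simp only [Set.mem_insert_iff, Set.mem_singleton_iff, not_or]
      exact ⟨n2, n3⟩
    rw [← heq] at hmem
    exact hnb hmem.1.2.2.2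
  · have hb'b2 : Commute b2 b' := htw b2 hb2x hb2.symm fun h' => hS (h'.symm C)
    exact hnb ((coll_third C inferInstance hc.1 hs2 hb2b hb'.1 n1 n2 n3).2.1
      hb'c.symm hb'b2.symm).symm

/-- Commuting is transitive among the transpositions commuting with `x`. -/
theorem commute_trans {x a b c : G} (hx : x ∈ D) (ha : a ∈ Dx D x) (hb : b ∈ Dx D x)
    (hc : c ∈ Dx D x) (h1 : Commute a b) (h2 : Commute b c) : Commute a c :=
  ((same_of_commute C hx hb ha h1).trans C (same_of_commute C hx hc hb h2)).commute C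

end Cfsg.Agent.FischerSolvClasses99
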