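import Cfsg.Agent.Lib.FischerTheorem6
import Cfsg.Agent.Lib.FischerDegen99

/-!
# The degenerate step of the induction for Fischer's theorem

When the 2-core of a local group is not central the group is symplectic or unitary.
-/

set_option autoImplicit false

namespace Cfsg.Agent.FischerStepDegen99

open Cfsg.Agent.ThreeTransDescent

universe u

set_option synthInstance.maxSize 2000 in
set_option maxRecDepth 20000 in
theorem sp_one (A B : Matrix (Fin 1 ⊕ Fin 1) (Fin 1 ⊕ Fin 1) (ZMod 2))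
    (hA : A * A = 1) (hB : B * B = 1) (hAB : A * B = B * A) (hA1 : A ≠ 1) (hB1 : B ≠ 1) :
    A = B := by
  have key : ∀ a b c d a' b' c' d' : ZMod 2,
      a * a + b * c = 1 → a * b + b * d = 0 → c * a + d * c = 0 → c * b + d * d = 1 →
      a' * a' + b' * c' = 1 → a' * b' + b' * d' = 0 → c' * a' + d' * c' = 0 →
      c' * b' + d' * d' = 1 →
      a * a' + b * c' = a' * a + b' * c → a * b' + b * d' = a' * b + b' * d →
      c * a' + d * c' = c' * a + d' * c → c * b' + d * d' = c' * b + d' * d →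
      ¬ (a = 1 ∧ b = 0 ∧ c = 0 ∧ d = 1) → ¬ (a' = 1 ∧ b' = 0 ∧ c' = 0 ∧ d' = 1) →
      a = a' ∧ b = b' ∧ c = c' ∧ d = d' := by decide +kernel
  have e := fun i j => congrArg (fun M => M i j) hA
  have f := fun i j => congrArg (fun M => M i j) hB
  have g := fun i j => congrArg (fun M => M i j) hAB
  have n : ∀ M : Matrix (Fin 1 ⊕ Fin 1) (Fin 1 ⊕ Fin 1) (ZMod 2), M ≠ 1 →
      ¬ (M (.inl 0) (.inl 0) = 1 ∧ M (.inl 0) (.inr 0) = 0 ∧ M (.inr 0) (.inl 0) = 0 ∧
        M (.inr 0) (.inr 0) = 1) := by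
    rintro M hM ⟨h1, h2, h3, h4⟩
    refine hM (Matrix.ext fun i j => ?_)
    rcases i with i | i <;> rcases j with j | j <;>
      simp [Fin.fin_one_eq_zero, h1, h2, h3, h4, Matrix.one_apply]
  simp only [Matrix.mul_apply, Fintype.sum_sum_type, Fin.sum_univ_one] at e f g
  obtain ⟨h1, h2, h3, h4⟩ := key _ _ _ _ _ _ _ _
    (by simpa using e (.inl 0) (.inl 0)) (by simpa using e (.inl 0) (.inr 0))
    (by simpa using e (.inr 0) (.inl 0)) (by simpa using e (.inr 0) (.inr 0))
    (by simpa using f (.inl 0) (.inl 0)) (by simpa using f (.inl 0) (.inr 0))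
    (by simpa using f (.inr 0) (.inl 0)) (by simpa using f (.inr 0) (.inr 0))
    (g (.inl 0) (.inl 0)) (g (.inl 0) (.inr 0)) (g (.inr 0) (.inl 0)) (g (.inr 0) (.inr 0))
    (n A hA1) (n B hB1)
  ext i j
  rcases i with i | i <;> rcases j with j | j <;> simp [Fin.fin_one_eq_zero, h1, h2, h3, h4, Matrix.one_apply]

theorem degen (G : Type u) [Group G] [Finite G] (D : Set G) (d : G)
    (c : FischerTheorem6.Ctx G D) (hd : d ∈ D) (hw : (near D d).Nonempty)
    (h2 : ¬ Cfsg.pCore 2 ↥(loc D d) ≤ Subgroup.center ↥(loc D d)) :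
    FischerTheorem6.Class G D := by
  obtain ⟨p, hp, hpd, hc⟩ := hw
  obtain ⟨hsol, -, hperf⟩ :=
    FischerGlue6.class_hyps c.grp c.prim c.cen ⟨d, hd, p, hp, hpd.symm, hc⟩
  rcases FischerDegen99.o2_case hsol hperf (FischerGlue6.isClass c.grp c.prim) d hd h2 with
    ⟨m, e, he⟩ | ⟨n, F, iF, iF', hn, hF, e, he⟩
  swap
  · exact Or.inr (Or.inl ⟨n, F, iF, iF', hn, hF, e, he⟩)
  refine Or.inl (Or.inr (Or.inl ⟨m, ?_, e, he⟩))
  by_contra hm
  have hne : ∀ x ∈ D, e x ≠ 1 := by
    intro x hx h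
    rw [map_eq_one_iff _ e.injective] at h
    have := c.grp.1.1 x hx
    rw [h, orderOf_one] at this
    exact absurd this (by norm_num)
  have hsq : ∀ x ∈ D, e x * e x = 1 := by
    intro x hx
    have h := pow_orderOf_eq_one x
    rw [c.grp.1.1 x hx, pow_two] at h
    rw [← map_mul, h, map_one]
  rcases (show m = 0 ∨ m = 1 by omega) with rfl | rfl
  · exact hne d hd (Subtype.ext (Subsingleton.elim _ _))
  · refine hpd (e.injective (Subtype.ext (sp_one (e p).1 (e d).1
      (congrArg Subtype.val (hsq p hp) :) (congrArg Subtype.val (hsq d hd) :) ?_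
      (fun h => hne p hp (Subtype.ext h)) (fun h => hne d hd (Subtype.ext h)))))
    exact (congrArg Subtype.val (hc.map e).eq.symm :)

end Cfsg.Agent.FischerStepDegen99
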