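import Cfsg.Agent.Lib.FischerTheorem6
import Cfsg.Agent.Lib.FischerLocalPlanes88
import Cfsg.Agent.Lib.FischerOrthIsoFive47

/-!
# The step from a plane-free local class
-/

set_option autoImplicit false

namespace Cfsg.Agent.FischerStepSymp47

open Cfsg.Agent.ThreeTransDescent FischerTheorem6
open Cfsg.Agent.ThreeTransRel (TSys tsys_of_group)

universe u

/-- Thirty-six members, none of the local invariants of a class of degree nine. -/
def Bad {K : Type*} [Group K] (C : Set K) : Prop :=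
  C.ncard = 36 ∧ ∃ p ∈ C, {x | x ∈ C ∧ x ≠ p ∧ Commute p x}.ncard ≤ 15

theorem swaps_ncard (n : ℕ) : {σ : Equiv.Perm (Fin n) | σ.IsSwap}.ncard = n.choose 2 := by
  classical
  have hinj : Set.InjOn (fun σ : Equiv.Perm (Fin n) => σ.support) {σ | σ.IsSwap} := by
    rintro _ ⟨i, j, hij, rfl⟩ _ ⟨p, q, hpq, rfl⟩ e
    simp only [Equiv.Perm.support_swap hij, Equiv.Perm.support_swap hpq] at e
    have hp : p = i ∨ p = j := by simpa using (show p ∈ ({i, j} : Finset (Fin n)) by rw [e]; simp)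
    have hq : q = i ∨ q = j := by simpa using (show q ∈ ({i, j} : Finset (Fin n)) by rw [e]; simp)
    rcases hp with rfl | rfl <;> rcases hq with rfl | rfl
    · exact absurd rfl hpq
    · rfl
    · exact Equiv.swap_comm _ _
    · exact absurd rfl hpq
  rw [← Set.ncard_image_of_injOn hinj, show (fun σ : Equiv.Perm (Fin n) => σ.support) ''
    {σ | σ.IsSwap} = ↑(Finset.univ.powersetCard 2 : Finset (Finset (Fin n))) from ?_,
    Set.ncard_coe_finset, Finset.card_powersetCard, Finset.card_univ, Fintype.card_fin]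
  ext s
  simp only [Set.mem_image, Set.mem_setOf_eq, Finset.mem_coe, Finset.mem_powersetCard,
    Finset.subset_univ, true_and]
  constructor
  · rintro ⟨σ, hσ, rfl⟩
    exact Equiv.Perm.card_support_eq_two.mpr hσ
  · intro hs
    obtain ⟨i, j, hij, rfl⟩ := Finset.card_eq_two.mp hs
    exact ⟨Equiv.swap i j, ⟨i, j, hij, rfl⟩, Equiv.Perm.support_swap hij⟩

theorem not_bad_swaps (n : ℕ) : ¬ Bad {σ : Equiv.Perm (Fin n) | σ.IsSwap} := by
  classical
  rintro ⟨h36, τ, hτ, h15⟩
  rw [swaps_ncard] at h36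
  obtain rfl : n = 9 := by
    by_contra hne
    rcases lt_or_gt_of_ne hne with h | h
    · have := Nat.choose_le_choose 2 (show n ≤ 8 by omega)
      have h8 : Nat.choose 8 2 = 28 := by decide
      omega
    · have := Nat.choose_le_choose 2 (show 10 ≤ n by omega)
      have h10 : Nat.choose 10 2 = 45 := by decide
      omega
  have hsub : (↑((τ.supportᶜ).powersetCard 2) : Set (Finset (Fin 9))) ⊆
      (fun σ : Equiv.Perm (Fin 9) => σ.support) ''
        {x | x ∈ {σ : Equiv.Perm (Fin 9) | σ.IsSwap} ∧ x ≠ τ ∧ Commute τ x} := by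
    intro s hs
    rw [Finset.mem_coe, Finset.mem_powersetCard] at hs
    obtain ⟨i, j, hij, rfl⟩ := Finset.card_eq_two.mp hs.2
    have hi : i ∈ τ.supportᶜ := hs.1 (by simp)
    refine ⟨Equiv.swap i j, ⟨⟨i, j, hij, rfl⟩, fun e => ?_, ?_⟩, Equiv.Perm.support_swap hij⟩
    · rw [← e, Equiv.Perm.support_swap hij] at hi
      simp at hi
    · refine Equiv.Perm.Disjoint.commute (Equiv.Perm.disjoint_iff_disjoint_support.mpr ?_)
      rw [Equiv.Perm.support_swap hij, Finset.disjoint_left]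
      intro x hx hx'
      exact (Finset.mem_compl.mp (hs.1 hx')) hx
  have h1 := (Set.ncard_le_ncard hsub (Set.toFinite _)).trans
    ((Set.ncard_image_le (Set.toFinite _)).trans h15)
  rw [Set.ncard_coe_finset, Finset.card_powersetCard, Finset.card_compl, Fintype.card_fin,
    Equiv.Perm.card_support_eq_two.mpr hτ] at h1
  revert h1
  decide

theorem not_bad_symplectic (m : ℕ) :
    ¬ Bad {g : Matrix.symplecticGroup (Fin m) (ZMod 2) |
      ((g : Matrix (Fin m ⊕ Fin m) (Fin m ⊕ Fin m) (ZMod 2)) - 1).rank = 1} := by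
  classical
  rintro ⟨h36, -⟩
  have hset : {g : Matrix.symplecticGroup (Fin m) (ZMod 2) |
      ((g : Matrix (Fin m ⊕ Fin m) (Fin m ⊕ Fin m) (ZMod 2)) - 1).rank = 1} =
      (fun v : Fin m ⊕ Fin m → ZMod 2 => SymplecticBasic.transv v (1 : ZMod 2)) '' {0}ᶜ := by
    ext g
    constructor
    · intro hg
      obtain ⟨v, c, hv, hc, rfl⟩ := SymplecticTransv.exists_transv_of_rank hg
      exact ⟨v, hv, by rw [(FischerSymplecticFrame88.zm c).resolve_left hc]⟩
    · rintro ⟨v, hv, rfl⟩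
      exact SymplecticTransv.rank_transv_sub_one hv one_ne_zero
  have hinj : Set.InjOn (fun v : Fin m ⊕ Fin m → ZMod 2 => SymplecticBasic.transv v (1 : ZMod 2))
      {0}ᶜ := fun v _ w hw e => by
    rcases SymplecticTransv.transv_eq_transv hw one_ne_zero e with h | h
    · exact h
    · rwa [ZModModule.neg_eq_self] at h
  rw [hset, Set.ncard_image_of_injOn hinj, Set.ncard_compl _ (Set.toFinite _), Set.ncard_singleton,
    Nat.card_eq_fintype_card, Fintype.card_fun, ZMod.card, Fintype.card_sum, Fintype.card_fin] at h36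
  rcases Nat.eq_zero_or_pos m with rfl | hm
  · simp at h36
  · have : 2 ∣ 2 ^ (m + m) := dvd_pow_self 2 (by omega)
    omega

open OrthUnitaryPrelude OrthUnitaryQuad OrthUnitaryRefl OrthUnitaryTranspositions in
theorem orth_ncard {ι : Type} [Fintype ι] [DecidableEq ι] (f : (ι → ZMod 2) → ZMod 2)
    (P : QuadraticForm (ZMod 2) (ι → ZMod 2)) (hf : ∀ v, f v = P v)
    (hP : (QuadraticMap.polarBilin P).Nondegenerate) :
    {g : ↥(Cfsg.isometryGroup (ZMod 2) f) |
      (((g : Matrix.GeneralLinearGroup ι (ZMod 2)) : Matrix ι ι (ZMod 2)) - 1).rank = 1}.ncard =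
      {v | f v = 1}.ncard := by
  classical
  obtain rfl : f = ⇑P := funext hf
  have hrefl : ∀ u v (hu : P u ≠ 0) (hv : P v ≠ 0), refl P u hu = refl P v hv → u = v := by
    intro u v hu hv e
    have hu0 : u ≠ 0 := fun e0 => hu (by rw [e0, QuadraticMap.map_zero])
    obtain ⟨x, hx⟩ : ∃ x, QuadraticMap.polar P u x ≠ 0 := by
      by_contra hc
      push Not at hc
      exact hu0 (hP.1 u hc)
    have h1 := congrArg (fun t : orth P => t.1 x) e
    simp only [refl_apply_two, add_right_inj, (zmod_two_cases _).resolve_left hx, one_smul] at h1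
    rcases zmod_two_cases (QuadraticMap.polar P v x) with h2 | h2 <;> rw [h2] at h1
    · rw [zero_smul] at h1; exact absurd h1 hu0
    · rwa [one_smul] at h1
  symm
  refine Set.ncard_congr (fun v (hv : v ∈ {v | P v = 1}) =>
      (iso P).symm (refl P v (by rw [hv]; exact one_ne_zero))) ?_ ?_ ?_
  · intro v hv
    exact (rank_one_iff hP _).2 ⟨v, _, (iso P).apply_symm_apply _⟩
  · intro u v hu hv e
    exact hrefl u v _ _ ((iso P).symm.injective e)
  · intro g hg
    obtain ⟨v, hv, e⟩ := (rank_one_iff hP g).1 hg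
    exact ⟨v, Q_self v hv, by rw [← e, MulEquiv.symm_apply_apply]⟩

theorem not_bad_plus (m : ℕ) (hm : 3 ≤ m) :
    ¬ Bad {g : ↥(Cfsg.isometryGroup (ZMod 2) (Cfsg.quadFormPlus m (ZMod 2))) |
      (((g : GL (Fin m ⊕ Fin m) (ZMod 2)) : Matrix (Fin m ⊕ Fin m) (Fin m ⊕ Fin m) (ZMod 2)) - 1).rank = 1} := by
  classical
  rintro ⟨h36, -⟩
  rw [orth_ncard (Cfsg.quadFormPlus m (ZMod 2)) _
    (OrthUnitaryStd.comp_symm_apply _ _ (OrthUnitaryForms.eqPlus m) (OrthUnitaryForms.eqPlus_isometry m))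
    (OrthUnitaryStd.nondegenerate_congr (OrthUnitaryForms.eqPlus m) (fun x => by simp)
      (OrthUnitaryStd.nondegenerate_withBase OrthUnitaryStd.nondegenerate_qfNil m))] at h36
  obtain ⟨k, rfl⟩ : ∃ k, m = k + 1 := ⟨m - 1, by omega⟩
  rcases eq_or_lt_of_le hm with h3 | h4
  · obtain rfl : k = 2 := by omega
    rw [Set.ncard_eq_toFinset_card'] at h36
    revert h36
    decide +kernel
  let g : (Fin k → ZMod 2) × (Fin k → ZMod 2) → (Fin (k + 1) ⊕ Fin (k + 1) → ZMod 2) := fun x =>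
    Sum.elim (Fin.cons 1 x.1) (Fin.cons (1 + ∑ i, x.1 i * x.2 i) x.2)
  have hg : Function.Injective g := by
    intro x y e
    refine Prod.ext (funext fun i => ?_) (funext fun i => ?_)
    · simpa [g] using congrFun e (.inl i.succ)
    · simpa [g] using congrFun e (.inr i.succ)
  have hmem : Set.range g ⊆ {v | Cfsg.quadFormPlus (k + 1) (ZMod 2) v = 1} := by
    rintro _ ⟨x, rfl⟩
    simp [g, Cfsg.quadFormPlus, Fin.sum_univ_succ, add_assoc, CharTwo.add_self_eq_zero]
  have h1 := Set.ncard_le_ncard hmem (Set.toFinite _)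
  rw [h36, Set.ncard_range_of_injective hg, Nat.card_eq_fintype_card, Fintype.card_prod,
    Fintype.card_fun, ZMod.card, Fintype.card_fin] at h1
  have : 2 ^ 3 ≤ 2 ^ k := Nat.pow_le_pow_right (by norm_num) (by omega)
  nlinarith

theorem not_bad_minus (m : ℕ) (hm : 3 ≤ m) :
    ¬ Bad {g : ↥(Cfsg.isometryGroup (ZMod 2) (Cfsg.quadFormMinus m (ZMod 2) 1 1)) |
      (((g : GL ((Fin m ⊕ Fin m) ⊕ Fin 2) (ZMod 2)) :
        Matrix ((Fin m ⊕ Fin m) ⊕ Fin 2) ((Fin m ⊕ Fin m) ⊕ Fin 2) (ZMod 2)) - 1).rank = 1} := by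
  classical
  rintro ⟨h36, -⟩
  rw [orth_ncard (Cfsg.quadFormMinus m (ZMod 2) (1 : ZMod 2) 1) _
    (OrthUnitaryStd.comp_symm_apply _ (Cfsg.quadFormMinus m (ZMod 2) (1 : ZMod 2) 1)
      (OrthUnitaryForms.eqMinus m) (OrthUnitaryForms.eqMinus_isometry (F := ZMod 2) m 1 1))
    (OrthUnitaryStd.nondegenerate_congr (OrthUnitaryForms.eqMinus m) (fun x => by simp)
      (OrthUnitaryStd.nondegenerate_withBase (OrthUnitaryStd.nondegenerate_qfBin
        (show OrthUnitaryForms.IsAniso (1 : ZMod 2) 1 by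
          unfold OrthUnitaryForms.IsAniso; decide)) m))] at h36
  let g : (Fin m ⊕ Fin m → ZMod 2) → ((Fin m ⊕ Fin m) ⊕ Fin 2 → ZMod 2) := fun x =>
    Sum.elim x (if (∑ i, x (.inl i) * x (.inr i)) = 1 then 0 else ![1, 0])
  have hg : Function.Injective g := fun x y e => funext fun i => congrFun e (.inl i)
  have hmem : Set.range g ⊆ {v | Cfsg.quadFormMinus m (ZMod 2) 1 1 v = 1} := by
    rintro _ ⟨x, rfl⟩
    rcases FischerSymplecticFrame88.zm (∑ i, x (.inl i) * x (.inr i)) with h | h <;>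
      simp [g, Cfsg.quadFormMinus, h]
  have h1 := Set.ncard_le_ncard hmem (Set.toFinite _)
  rw [h36, Set.ncard_range_of_injective hg, Nat.card_eq_fintype_card, Fintype.card_fun, ZMod.card,
    Fintype.card_sum, Fintype.card_fin] at h1
  have : 2 ^ 6 ≤ 2 ^ (m + m) := Nat.pow_le_pow_right (by norm_num) (by omega)
  omega

variable {G : Type u} [Group G] [Finite G] {D : Set G} {d : G}

/-- A plane-free local class other than the one of `O⁻(6,2)`. -/
theorem of_hloc (c : Central G D d) {K : Type*} [Group K] {C : Set K}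
    (hC : FischerLocalPlanes88.NoPlanes C) (hbad : ¬ Bad C)
    (e : ↥(loc D d) ⧸ Subgroup.center ↥(loc D d) ≃* K) (he : e '' imgSet D d = C) :
    Target G D := by
  have ht := tsys_of_group c.grp
  rcases FischerLocalSymp88.recognise c.grp c.prim c.cen c.mem c.wide c.core3 c.core2
    (FischerLocalPlanes88.hloc_of_equiv c.grp hC e he) with (h | h) | ⟨h36, p, hp, h15⟩
  · exact Or.inl h
  · exact Or.inr (Or.inl h)
  refine absurd ?_ hbad
  have hno := ThreeTransM23Parity34.no_trivial ht c.prim c.mem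
  let im : ∀ x, x ∈ near D d → K := fun x hx =>
    e (QuotientGroup.mk (⟨x, near_le_loc hx⟩ : ↥(loc D d)))
  have hin : ∀ x (hx : x ∈ near D d), im x hx ∈ C := fun x hx => he ▸ ⟨_, ⟨_, hx, rfl⟩, rfl⟩
  have hon : ∀ y ∈ C, ∃ x hx, im x hx = y := by
    intro y hy
    rw [← he] at hy
    obtain ⟨_, ⟨x, hx, rfl⟩, rfl⟩ := hy
    exact ⟨x, hx, rfl⟩
  have hinj : ∀ x y (hx : x ∈ near D d) (hy : y ∈ near D d), im x hx = im y hy → x = y :=
    fun x y hx hy h => congrArg Subtype.val (ThreeTransM23Parity34.img_inj ht hno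
      (p := ⟨x, near_le_loc hx⟩) (q := ⟨y, near_le_loc hy⟩) hx hy (e.injective h))
  have hcard : (near D d).ncard = C.ncard := Set.ncard_congr im hin hinj hon
  refine ⟨hcard ▸ h36, im p hp, hin p hp, ?_⟩
  refine le_trans (le_of_eq (Set.ncard_congr (fun x (hx : x ∈ near D d ∩ near D p) => im x hx.1)
    ?_ ?_ ?_).symm) h15.le
  · rintro x ⟨hx, hxD, hxp, hpx⟩
    exact ⟨hin x hx, fun h => hxp (hinj x p hx hp h),
      (show Commute (⟨p, near_le_loc hp⟩ : ↥(loc D d)) ⟨x, near_le_loc hx⟩ from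
        Subtype.ext hpx).map (e.toMonoidHom.comp (QuotientGroup.mk' _))⟩
  · exact fun x y hx hy h => hinj x y hx.1 hy.1 h
  · rintro y ⟨hy, hne, hc⟩
    obtain ⟨x, hx, rfl⟩ := hon y hy
    refine ⟨x, ⟨hx, hx.1, fun h => hne (by subst h; rfl), ?_⟩, rfl⟩
    exact ThreeTransM23Parity34.img_refl ht (p := ⟨p, near_le_loc hp⟩)
      (q := ⟨x, near_le_loc hx⟩) hp hx (by simpa [im] using hc.map e.symm)

/-- The symplectic step. -/
theorem symp_step {G : Type u} [Group G] [Finite G] (D : Set G) (d : G) (c : Central G D d)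
    (h : SympType (↥(loc D d) ⧸ Subgroup.center ↥(loc D d)) (imgSet D d)) : Target G D := by
  rcases h with ⟨n, -, e, he⟩ | ⟨m, -, e, he⟩ | ⟨m, hm, e, he⟩ | ⟨m, hm, e, he⟩
  · exact of_hloc c (FischerLocalPlanes88.noPlanes_swaps n) (not_bad_swaps n) e he
  · exact of_hloc c (FischerLocalPlanes88.noPlanes_symplectic m) (not_bad_symplectic m) e he
  · exact of_hloc c (FischerLocalPlanes88.noPlanes_plus m) (not_bad_plus m hm) e he
  · rcases eq_or_lt_of_le hm with h2 | h3
    · subst h2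
      obtain ⟨Q, hQ, k, hk, e', he'⟩ :=
        FischerOrthIsoFive47.orth_of_local_minus c.grp c.prim c.cen c.mem e he
      exact Or.inr (Or.inr (Or.inl ⟨6, by norm_num, Q, hQ, k, hk, e', he'⟩))
    · exact of_hloc c (FischerLocalPlanes88.noPlanes_minus m) (not_bad_minus m h3) e he

end Cfsg.Agent.FischerStepSymp47
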