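import Cfsg.Agent.Lib.FischerStepSymp47
import Cfsg.Agent.Lib.FischerM22Rung61
import Cfsg.Agent.Lib.FischerM24Step94
import Cfsg.Agent.Lib.FischerNoM24Local95
import Cfsg.Agent.Lib.FischerTop99

/-!
# The single steps of the induction for Fischer's theorem
-/

set_option autoImplicit false

namespace Cfsg.Agent.FischerSteps47

open Cfsg.Agent.ThreeTransDescent

universe u

/-- All the steps. -/
theorem steps : FischerTheorem6.Steps.{u} := by
  refine ⟨fun G _ _ D d c h => FischerStepSymp47.symp_step D d c h, ?_, ?_, ?_, ?_, ?_⟩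
  · rintro G _ _ D d c ⟨n, F, iF, iF', hn, hF, e, -⟩
    rcases eq_or_lt_of_le hn with rfl | h5
    · obtain ⟨Q, hQ, k, hk, e', he'⟩ :=
        FischerOrthIsoFive47.orth_of_local_unitary hF c.grp c.prim c.cen c.mem e
      exact Or.inr (Or.inr (Or.inl ⟨6, by norm_num, Q, hQ, k, hk, e', he'⟩))
    · exact Or.inr (Or.inr (Or.inr (Or.inl
        (FischerM22Rung61.isOfTypeM22 hF h5 c.grp c.prim c.cen c.mem e))))
  · rintro G _ _ D d c ⟨n, hn, Q, hQ, k, hk, e, he⟩
    obtain ⟨Q', hQ', k', hk', e', he'⟩ :=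
      FischerOrthSix47.orth_of_local c.grp c.prim c.cen c.mem hn hQ hk e he
    exact Or.inr (Or.inr (Or.inl ⟨n + 1, by omega, Q', hQ', k', hk', e', he'⟩))
  · exact fun G _ _ D d c h => FischerM24Step94.isOfTypeM24_of_cores
      (ThreeTransRel.tsys_of_group c.grp) c.prim c.mem c.grp.1 h c.cen c.core3 c.core2
  · exact fun G _ _ D d c h => FischerNoM24Local95.false_of_local c.grp c.prim c.cen c.mem c.core3 c.core2 h
  · intro G _ _ D d c hd hw h2
    obtain ⟨p, hp, hpd, hc⟩ := hw
    obtain ⟨hsol, -, hperf⟩ := FischerGlue6.class_hyps c.grp c.prim c.cen ⟨d, hd, p, hp, hpd.symm, hc⟩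
    rcases FischerDegen99.o2_case hsol hperf (FischerGlue6.isClass c.grp c.prim) d hd h2 with
      ⟨m, e, he⟩ | ⟨n, F, iF, iF', hn, hF, e, he⟩
    · refine Or.inl (Or.inr (Or.inl ⟨m, ?_, e, he⟩))
      by_contra hm
      have hex : ∀ x ∈ D, ∃ v, v ≠ 0 ∧ e x = SymplecticBasic.transv v (1 : ZMod 2) := fun x hx => by
        obtain ⟨v, k, hv, hk, hx'⟩ := SymplecticTransv.exists_transv_of_rank
          ((Set.ext_iff.1 he (e x)).1 ⟨x, hx, rfl⟩)
        exact ⟨v, hv, by rw [hx', (FischerSymplecticFrame88.zm k).resolve_left hk]⟩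
      obtain ⟨v, hv, ev⟩ := hex d hd
      obtain ⟨w, hw', ew⟩ := hex p hp
      have h0 := (FischerLocalSymp88.commute_transv hv hw').1 (ev ▸ ew ▸ hc.map e)
      have hkey : ∀ m, m < 2 → ∀ v w : Fin m ⊕ Fin m → ZMod 2, v ≠ 0 → w ≠ 0 →
          Cfsg.sympForm m (ZMod 2) w v = 0 → v = w := by
        intro m hm
        obtain rfl | rfl : m = 0 ∨ m = 1 := by omega
        · exact fun v w hv _ _ => absurd (funext fun x => x.elim Fin.elim0 Fin.elim0) hv
        · have h4 : ∀ a b c d : ZMod 2, (a ≠ 0 ∨ b ≠ 0) → (c ≠ 0 ∨ d ≠ 0) →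
              c * b + d * a = 0 → a = c ∧ b = d := by decide
          intro v w hv hw h
          have hne : ∀ u : Fin 1 ⊕ Fin 1 → ZMod 2, u ≠ 0 → u (.inl 0) ≠ 0 ∨ u (.inr 0) ≠ 0 := by
            intro u hu
            by_contra hc
            push Not at hc
            exact hu (funext fun x => by
              rcases x with x | x <;> rw [Subsingleton.elim x 0]
              exacts [hc.1, hc.2])
          have h' : w (.inl 0) * v (.inr 0) + w (.inr 0) * v (.inl 0) = 0 := by
            rw [← h, SymplecticBasic.form_eq_sum, Fin.sum_univ_one]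
            simp [CharTwo.sub_eq_add, add_comm]
          obtain ⟨e1, e2⟩ := h4 _ _ _ _ (hne v hv) (hne w hw) h'
          funext x
          rcases x with x | x <;> rw [Subsingleton.elim x 0]
          exacts [e1, e2]
      exact hpd (e.injective (by rw [ew, ev, hkey m (by omega) v w hv hw' h0]))
    · exact Or.inr (Or.inl ⟨n, F, iF, iF', hn, hF, e, he⟩)

end Cfsg.Agent.FischerSteps47
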