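import Mathlib

/-!
Sets of vectors of a symplectic space over the field of two elements closed under
`a, b ↦ a + b` for non-orthogonal members: maximal symmetric frames.
-/

set_option autoImplicit false

namespace Cfsg.Agent.FischerSymplecticFrame88

open Finset

variable {V : Type*} [AddCommGroup V] [Module (ZMod 2) V]

theorem zm (a : ZMod 2) : a = 0 ∨ a = 1 := by revert a; decide

theorem vadd_self (x : V) : x + x = 0 := ZModModule.add_self x

/-- A non-degenerate alternating form with a connected spanning set of vectors closed under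
addition of non-orthogonal members. -/
structure Cot (B : V →ₗ[ZMod 2] V →ₗ[ZMod 2] ZMod 2) (Δ : Set V) : Prop where
  alt : ∀ v, B v v = 0
  nondeg : ∀ u, (∀ v, B u v = 0) → u = 0
  zero_notMem : (0 : V) ∉ Δ
  span : Submodule.span (ZMod 2) Δ = ⊤
  closed : ∀ a ∈ Δ, ∀ b ∈ Δ, B a b = 1 → a + b ∈ Δ
  conn : ∀ S ⊆ Δ, S.Nonempty → (∀ a ∈ S, ∀ b ∈ Δ, B a b = 1 → b ∈ S) → S = Δ

variable {B : V →ₗ[ZMod 2] V →ₗ[ZMod 2] ZMod 2} {Δ : Set V}

theorem Cot.symm (h : Cot B Δ) (u v : V) : B u v = B v u := by
  have h1 := h.alt (u + v)
  simp only [map_add, LinearMap.add_apply, h.alt, zero_add, add_zero] at h1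
  revert h1
  generalize B u v = a
  generalize B v u = b
  revert a b
  decide

theorem Cot.ne_zero (h : Cot B Δ) {v : V} (hv : v ∈ Δ) : v ≠ 0 := fun e => h.zero_notMem (e ▸ hv)

/-- A vector orthogonal to all the members is zero. -/
theorem Cot.eq_zero (h : Cot B Δ) {u : V} (hu : ∀ v ∈ Δ, B u v = 0) : u = 0 := by
  refine h.nondeg u fun v => ?_
  have hv : v ∈ Submodule.span (ZMod 2) Δ := h.span ▸ Submodule.mem_top
  induction hv using Submodule.span_induction with
  | mem x hx => exact hu x hx
  | zero => simp
  | add x y _ _ hx hy => simp [hx, hy]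
  | smul c x _ hx => simp [hx]

/-- The indicator of equality. -/
def dl {k : ℕ} (i j : Fin k) : ZMod 2 := if i = j then 1 else 0

theorem dl_comm {k : ℕ} (i j : Fin k) : dl i j = dl j i := by simp [dl, eq_comm]

theorem dl_self {k : ℕ} (i : Fin k) : dl i i = 1 := by simp [dl]

/-- A frame: the pair sums of `f` behave as the transpositions of a symmetric group. -/
structure Frame (B : V →ₗ[ZMod 2] V →ₗ[ZMod 2] ZMod 2) (Δ : Set V) (k : ℕ) (f : Fin k → V) :
    Prop where
  mem : ∀ i j, i ≠ j → f i + f j ∈ Δ
  gram : ∀ i j p q, B (f i + f j) (f p + f q) = dl i p + dl i q + dl j p + dl j q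

/-- The pair sums of a frame. -/
def pairSet {k : ℕ} (f : Fin k → V) : Set V := {v | ∃ i j, i ≠ j ∧ v = f i + f j}

theorem sum_pair {k : ℕ} (f : Fin k → V) (i j c : Fin k) :
    f i + f j = (f i + f c) + (f j + f c) := by
  rw [add_add_add_comm, vadd_self, add_zero]

/-- It suffices to know the products relative to a base index. -/
theorem gram_of_base {k : ℕ} (f : Fin k → V) (c : Fin k)
    (hc : ∀ i p, B (f i + f c) (f p + f c) = dl i p + dl i c + dl c p + 1) (i j p q : Fin k) :
    B (f i + f j) (f p + f q) = dl i p + dl i q + dl j p + dl j q := by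
  have key : ∀ a b x y : V, B (a + b) (x + y) = B a x + B b x + (B a y + B b y) := by
    intros
    simp only [map_add, LinearMap.add_apply]
  rw [sum_pair f i j c, sum_pair f p q c, key, hc, hc, hc, hc]
  generalize dl i p = a
  generalize dl i c = b
  generalize dl c p = a'
  generalize dl j p = b'
  generalize dl j c = a''
  generalize dl i q = b''
  generalize dl c q = x
  generalize dl j q = y
  revert a b a' b' a'' b'' x y
  decide

theorem exists_three (h : Cot B Δ) (hne : Δ.Nonempty) :
    ∃ f : Fin 3 → V, Frame B Δ 3 f ∧ f 0 = 0 := by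
  obtain ⟨a, ha⟩ := hne
  obtain ⟨b, hb, hab⟩ : ∃ b ∈ Δ, B a b = 1 := by
    by_contra hc
    push Not at hc
    exact h.ne_zero ha (h.eq_zero fun v hv => (zm _).resolve_right (hc v hv))
  have hba : B b a = 1 := by rw [h.symm, hab]
  have hab' : a + b ∈ Δ := h.closed a ha b hb hab
  have hba' : b + a ∈ Δ := by rwa [add_comm]
  refine ⟨![0, a, b], ⟨?_, gram_of_base _ 0 ?_⟩, rfl⟩
  · intro i j hij
    fin_cases i <;> fin_cases j <;> simp at hij ⊢ <;> assumption
  · intro i p
    fin_cases i <;> fin_cases p <;>
      simp [dl, h.alt, hab, hba] <;> rfl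

/-- Extension by a member of weight one. -/
theorem extend (h : Cot B Δ) {k : ℕ} {f : Fin k → V} (hf : Frame B Δ k f) {v : V} (hv : v ∈ Δ)
    (i0 : Fin k) (hs : ∀ i, B v (f i + f i0) = 1 + dl i i0) :
    Frame B Δ (k + 1) (Fin.snoc f (f i0 + v)) := by
  set n := f i0 + v with hn
  have hnew : ∀ i, f i + n ∈ Δ := by
    intro i
    rw [hn, ← add_assoc]
    by_cases hi : i = i0
    · subst hi
      rwa [vadd_self, zero_add]
    · refine h.closed _ (hf.mem i i0 hi) v hv ?_
      rw [h.symm, hs]; simp [dl, hi]
  have hnn : ∀ i p, B (f i + n) (f p + n) = dl i p + 1 := by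
    intro i p
    have e : f i + n = (f i + f i0) + v := by rw [hn, add_assoc]
    have e' : f p + n = (f p + f i0) + v := by rw [hn, add_assoc]
    rw [e, e', LinearMap.map_add₂, map_add, map_add (B v), hf.gram,
      h.alt, hs, h.symm (f i + f i0) v, hs, dl_comm i0 p, dl_self]
    generalize dl i p = a
    generalize dl i i0 = b
    generalize dl p i0 = c
    revert a b c
    decide
  refine ⟨?_, gram_of_base _ (Fin.last k) ?_⟩
  · intro i j hij
    induction i using Fin.lastCases with
    | last =>
      induction j using Fin.lastCases with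
      | last => exact absurd rfl hij
      | cast j => simpa [add_comm] using hnew j
    | cast i =>
      induction j using Fin.lastCases with
      | last => simpa using hnew i
      | cast j => simpa using hf.mem i j (fun e => hij (congrArg _ e))
  · intro i p
    have dcc : ∀ a b : Fin k, dl (Fin.castSucc a) (Fin.castSucc b) = dl a b := fun a b => by
      simp [dl]
    have dcl : ∀ a : Fin k, dl (Fin.castSucc a) (Fin.last k) = 0 := fun a => by
      simp [dl, Fin.castSucc_ne_last]
    have dlc : ∀ a : Fin k, dl (Fin.last k) (Fin.castSucc a) = 0 := fun a => by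
      rw [dl_comm, dcl]
    induction i using Fin.lastCases <;> induction p using Fin.lastCases <;>
      simp only [Fin.snoc_last, Fin.snoc_castSucc, vadd_self, map_zero, LinearMap.zero_apply,
        dl_self, dcl, dlc, dcc, hnn, add_zero] <;> rfl

/-- A frame of at least five points has distinct pair sums. -/
theorem pairs_inj {k : ℕ} {f : Fin k → V} (hf : Frame B Δ k f) (hk : 5 ≤ k) {i j p q : Fin k}
    (hij : i ≠ j) (hpq : p ≠ q) (e : f i + f j = f p + f q) :
    (i = p ∧ j = q) ∨ (i = q ∧ j = p) := by
  obtain ⟨r, -, hr⟩ := Finset.exists_mem_notMem_of_card_lt_card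
    (s := ({i, j, p, q} : Finset (Fin k))) (t := Finset.univ) (by
      have := Finset.card_le_four (a := i) (b := j) (c := p) (d := q)
      simp
      omega)
  simp only [Finset.mem_insert, Finset.mem_singleton, not_or] at hr
  obtain ⟨hri, hrj, hrp, hrq⟩ := hr
  have key : ∀ s, s ≠ r → dl i s + dl j s = dl p s + dl q s := by
    intro s hs
    have h1 := hf.gram i j s r
    rw [e, hf.gram p q s r] at h1
    have z : ∀ a, r ≠ a → dl a r = 0 := fun a ha => by simp [dl, Ne.symm ha]
    rw [z p hrp, z q hrq, z i hri, z j hrj, add_zero, add_zero, add_zero, add_zero] at h1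
    exact h1.symm
  have h1 := key i (Ne.symm hri)
  have h2 := key j (Ne.symm hrj)
  by_cases a1 : i = p <;> by_cases a2 : i = q <;> by_cases a3 : j = p <;> by_cases a4 : j = q <;>
    simp_all [dl, eq_comm]

theorem sum_eq_zero_of_even (h : Cot B Δ) {f : Fin 4 → V}
    (hp : ∀ v ∈ Δ, B v (f 0 + f 1) + B v (f 2 + f 3) = 0) : f 0 + f 1 + (f 2 + f 3) = 0 :=
  h.eq_zero fun v hv => by rw [h.symm, map_add]; exact hp v hv

/-- Either the members form a single line, or there is a frame of five points. -/
theorem exists_five (h : Cot B Δ) (hne : Δ.Nonempty) :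
    (∃ f : Fin 3 → V, Frame B Δ 3 f ∧ Δ = pairSet f ∧
      ∀ i j p q, i ≠ j → p ≠ q → f i + f j = f p + f q → (i = p ∧ j = q) ∨ (i = q ∧ j = p)) ∨
    ∃ f : Fin 5 → V, Frame B Δ 5 f := by
  obtain ⟨f, hf, hf0⟩ := exists_three h hne
  by_cases hout : ∃ v ∈ Δ, v ∉ pairSet f ∧ ∃ i j, B v (f i + f j) = 1
  · right
    obtain ⟨v, hv, hvW, i, j, hvij⟩ := hout
    -- exactly one base point
    obtain ⟨i0, hs⟩ : ∃ i0, ∀ t, B v (f t + f i0) = 1 + dl t i0 := by
      have e01 : f 0 + f 1 + (f 0 + f 2) = f 1 + f 2 := by
        rw [add_add_add_comm, vadd_self, zero_add]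
      have hsum : B v (f 0 + f 1) + B v (f 0 + f 2) = B v (f 1 + f 2) := by rw [← map_add, e01]
      have hz : ∀ t, B v (f t + f t) = 0 := fun t => by rw [vadd_self, map_zero]
      rcases zm (B v (f 0 + f 1)) with a | a <;> rcases zm (B v (f 0 + f 2)) with b | b <;>
        rw [a, b] at hsum
      · exfalso
        have hc : B v (f 1 + f 2) = 0 := by rw [← hsum]; rfl
        fin_cases i <;> fin_cases j <;>
          simp [hz, a, b, hc, add_comm (f 1) (f 0), add_comm (f 2) (f 0), add_comm (f 2) (f 1)] at hvij
      · refine ⟨2, fun t => ?_⟩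
        fin_cases t
        · simpa [dl] using b
        · simpa [dl] using hsum.symm
        · simp [dl, hz]; rfl
      · refine ⟨1, fun t => ?_⟩
        fin_cases t
        · simpa [dl] using a
        · simp [dl, hz]; rfl
        · rw [add_comm (f _)]
          simpa [dl] using hsum.symm
      · refine ⟨0, fun t => ?_⟩
        fin_cases t
        · simp [dl, hz]; rfl
        · rw [add_comm]; simpa [dl] using a
        · rw [add_comm]; simpa [dl] using b
    have hF := extend h hf hv i0 hs
    set F : Fin 4 → V := Fin.snoc f (f i0 + v) with hFdef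
    -- the four points have a non-zero sum
    have hne0 : F 0 + F 1 + (F 2 + F 3) ≠ 0 := by
      intro e
      refine hvW ?_
      have hF0 : F 0 = f 0 := rfl
      have hF1 : F 1 = f 1 := rfl
      have hF2 : F 2 = f 2 := rfl
      have hF3 : F 3 = f i0 + v := rfl
      rw [hF0, hF1, hF2, hF3] at e
      have ev : v = f i0 + f 0 + f 1 + f 2 := by
        have e' : v + (f i0 + f 0 + f 1 + f 2) = 0 := by rw [← e]; abel
        calc v = v + ((f i0 + f 0 + f 1 + f 2) + (f i0 + f 0 + f 1 + f 2)) := by
              rw [vadd_self, add_zero]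
          _ = _ := by rw [← add_assoc, e', zero_add]
      fin_cases i0
      · exact ⟨1, 2, by decide, by rw [ev]; simp [vadd_self]⟩
      · exact ⟨2, 0, by decide, by rw [ev, hf0]; simp [vadd_self]⟩
      · exact ⟨1, 0, by decide, by
          rw [ev, hf0]; simp [add_comm, add_left_comm, vadd_self]⟩
    obtain ⟨w, hw, hodd⟩ : ∃ w ∈ Δ, B w (F 0 + F 1) + B w (F 2 + F 3) = 1 := by
      by_contra hc
      push Not at hc
      exact hne0 (sum_eq_zero_of_even h fun w hw => (zm _).resolve_right (hc w hw))
    obtain ⟨t, ht⟩ : ∃ t, ∀ i, B w (F i + F t) = 1 + dl i t := by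
      rw [map_add, map_add] at hodd
      have : ∀ a b c d : ZMod 2, a + b + (c + d) = 1 → ∃ t : Fin 4, ∀ i : Fin 4,
          (![a, b, c, d] i + ![a, b, c, d] t) = 1 + dl i t := by unfold dl; decide
      obtain ⟨t, ht⟩ := this _ _ _ _ hodd
      refine ⟨t, fun i => ?_⟩
      rw [map_add, ← ht i]
      fin_cases i <;> fin_cases t <;> rfl
    exact ⟨_, extend h hF hw t ht⟩
  · left
    refine ⟨f, hf, ?_, ?_⟩
    · refine (h.conn _ ?_ ?_ ?_).symm
      · rintro _ ⟨i, j, hij, rfl⟩; exact hf.mem i j hij
      · exact ⟨_, 0, 1, by decide, rfl⟩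
      · rintro _ ⟨i, j, hij, rfl⟩ b hb hb1
        by_contra hbW
        exact hout ⟨b, hb, hbW, i, j, by rw [h.symm, hb1]⟩
    · intro i j p q hij hpq e
      have h1 := hf.gram i j i p
      have h2 := hf.gram i j i q
      have h3 := hf.gram i j j p
      rw [e, hf.gram p q] at h1 h2 h3
      clear e
      revert h1 h2 h3 hij hpq
      revert i j p q
      unfold dl
      decide

/-- The weight of a vector on a frame. -/
def ones {k : ℕ} (s : Fin k → ZMod 2) : Finset (Fin k) := Finset.univ.filter fun i => s i = 1

/-- Six members with the Gram matrix of the diagram `E6`. -/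
structure Six (B : V →ₗ[ZMod 2] V →ₗ[ZMod 2] ZMod 2) (Δ : Set V) (x : Fin 6 → V) : Prop where
  mem : ∀ i, x i ∈ Δ
  gram : ∀ i j, B (x i) (x j) =
    if i.val + 1 = j.val ∧ j.val ≤ 4 ∨ j.val + 1 = i.val ∧ i.val ≤ 4 ∨
      i.val = 2 ∧ j.val = 5 ∨ i.val = 5 ∧ j.val = 2 then 1 else 0

/-- Three points inside and three outside the support of a member give the diagram. -/
theorem six_of_weight (h : Cot B Δ) {k : ℕ} {f : Fin k → V} (hf : Frame B Δ k f) {v : V}
    (hv : v ∈ Δ) (σ : Fin 6 → Fin k) (hσ : Function.Injective σ)
    (hs : ∀ a b : Fin 6, B v (f (σ a) + f (σ b)) = if (a.val < 3) = (b.val < 3) then 0 else 1) :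
    Six B Δ ![f (σ 0) + f (σ 1), f (σ 1) + f (σ 2), f (σ 2) + f (σ 3), f (σ 3) + f (σ 4),
      f (σ 4) + f (σ 5), v] := by
  have hne : ∀ a b : Fin 6, a ≠ b → σ a ≠ σ b := fun a b hab e => hab (hσ e)
  have hd : ∀ a b : Fin 6, dl (σ a) (σ b) = dl a b := fun a b => by simp [dl, hσ.eq_iff]
  refine ⟨fun i => ?_, fun i j => ?_⟩
  · fin_cases i <;> simp <;> first
      | exact hv
      | exact hf.mem _ _ (hne _ _ (by decide))
  · fin_cases i <;> fin_cases j <;>
      simp only [Matrix.cons_val, hf.gram, hd, hs, h.alt, h.symm (_ + _) v,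
        Fin.isValue, Fin.zero_eta, Fin.mk_one, Fin.reduceFinMk] <;>
      (try rfl) <;>
      simp only [dl] <;> decide

/-- Members outside a maximal frame: either six members in the diagram `E6`, or the frame is
everything. -/
theorem frame_or_six [Finite V] (h : Cot B Δ) {k : ℕ} {f : Fin k → V} (hk : 5 ≤ k)
    (hf : Frame B Δ k f) (hmax : ¬ ∃ g : Fin (k + 1) → V, Frame B Δ (k + 1) g) :
    Δ = pairSet f ∨ ∃ x, Six B Δ x := by
  classical
  by_cases hbig : ∃ v ∈ Δ, 3 ≤ (ones fun i => B v (f i)).card ∧
      3 ≤ (ones fun i => B v (f i))ᶜ.card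
  · right
    obtain ⟨v, hv, h1, h2⟩ := hbig
    set S := ones fun i => B v (f i) with hS
    let e1 := S.orderEmbOfCardLe h1
    let e2 := Sᶜ.orderEmbOfCardLe h2
    have m1 : ∀ a, e1 a ∈ S := fun a => Finset.orderEmbOfCardLe_mem _ h1 a
    have m2 : ∀ a, e2 a ∉ S := fun a =>
      Finset.mem_compl.1 (Finset.orderEmbOfCardLe_mem _ h2 a)
    refine ⟨_, six_of_weight h hf hv (Fin.append (m := 3) (n := 3) e1 e2) ?_ ?_⟩
    · show ∀ a b : Fin (3 + 3), Fin.append e1 e2 a = Fin.append e1 e2 b → a = b
      intro a b e
      induction a using Fin.addCases with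
      | left a =>
        induction b using Fin.addCases with
        | left b => rw [Fin.append_left, Fin.append_left] at e; rw [e1.injective e]
        | right b => rw [Fin.append_left, Fin.append_right] at e; exact absurd (e ▸ m1 a) (m2 b)
      | right a =>
        induction b using Fin.addCases with
        | left b => rw [Fin.append_left, Fin.append_right] at e; exact absurd (e ▸ m1 b) (m2 a)
        | right b => rw [Fin.append_right, Fin.append_right] at e; rw [e2.injective e]
    · intro a b
      have hval : ∀ a : Fin (3 + 3), B v (f (Fin.append e1 e2 a)) = if a.val < 3 then 1 else 0 := by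
        intro a
        induction a using Fin.addCases with
        | left a =>
          rw [Fin.append_left, if_pos (by simp)]
          exact (Finset.mem_filter.1 (m1 a)).2
        | right a =>
          rw [Fin.append_right, if_neg (by simp)]
          exact (zm _).resolve_right fun e => m2 a (Finset.mem_filter.2 ⟨Finset.mem_univ _, e⟩)
      rw [map_add, hval, hval]
      by_cases ha : a.val < 3 <;> by_cases hb : b.val < 3 <;> simp [ha, hb] <;> rfl
  · left
    push Not at hbig
    -- every member has weight zero or two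
    have hW : ∀ v ∈ Δ, (∀ i j, B v (f i + f j) = 0) ∨
        ∃ p q, p ≠ q ∧ ∀ i j, B v (f i + f j) = B (f p + f q) (f i + f j) := by
      intro v hv
      -- normalise the support
      obtain ⟨c, hc⟩ : ∃ c : ZMod 2, (ones fun i => B v (f i) + c).card ≤ 2 := by
        by_contra hcon
        push Not at hcon
        have h1 := hcon 0
        have h2 := hcon 1
        simp only [add_zero] at h1
        have h3 := hbig v hv (by omega)
        have e : (ones fun i => B v (f i) + 1) = (ones fun i => B v (f i))ᶜ := by
          ext i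
          simp only [ones, Finset.mem_filter, Finset.mem_univ, true_and, Finset.mem_compl]
          generalize B v (f i) = a
          revert a; decide
        rw [e] at h2
        omega
      set s : Fin k → ZMod 2 := fun i => B v (f i) + c with hsdef
      have hsum : ∀ i j, B v (f i + f j) = s i + s j := by
        intro i j
        rw [map_add, hsdef]
        show _ = B v (f i) + c + (B v (f j) + c)
        rw [add_add_add_comm, CharTwo.add_self_eq_zero c, add_zero]
      have hmem : ∀ i, s i = if i ∈ ones s then 1 else 0 := by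
        intro i
        rcases zm (s i) with e | e <;> simp [ones, e]
      rcases lt_trichotomy (ones s).card 1 with hc0 | hc1 | hc2
      · left
        intro i j
        have : ones s = ∅ := Finset.card_eq_zero.1 (by omega)
        rw [hsum, hmem i, hmem j, this]
        simp
      · exfalso
        obtain ⟨i0, hi0⟩ := Finset.card_eq_one.1 hc1
        refine hmax ⟨_, extend h hf hv i0 fun i => ?_⟩
        rw [hsum, hmem i, hmem i0, hi0]
        by_cases hi : i = i0
        · rw [if_pos (by rw [hi]; exact Finset.mem_singleton_self _),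
            if_pos (Finset.mem_singleton_self _), hi, dl_self]
        · rw [if_neg (fun e => hi (Finset.mem_singleton.1 e)),
            if_pos (Finset.mem_singleton_self _)]
          simp only [dl, if_neg hi, zero_add, add_zero]
      · right
        obtain ⟨p, q, hpq, hS⟩ := Finset.card_eq_two.1 (show (ones s).card = 2 by omega)
        refine ⟨p, q, hpq, fun i j => ?_⟩
        have hpair : ∀ i, (if i ∈ ({p, q} : Finset (Fin k)) then 1 else 0 : ZMod 2) =
            dl p i + dl q i := by
          intro i
          by_cases a : i = p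
          · subst a
            simp [dl, Ne.symm hpq]
          · by_cases b : i = q
            · subst b
              simp [dl, hpq]
            · simp [dl, a, b, Ne.symm a, Ne.symm b]
        rw [hsum, hf.gram, hmem i, hmem j, hS, hpair, hpair]
        abel
    -- the vectors orthogonal to the frame
    let Pp : V → Prop := fun z => ∀ i j, B z (f i + f j) = 0
    have hz_all : ∀ z, Pp z → (∃ p q, p ≠ q ∧ f p + f q + z ∈ Δ) →
        ∀ p q, p ≠ q → f p + f q + z ∈ Δ := by
      rintro z hz ⟨p, q, hpq, hm⟩
      -- move one point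
      have move : ∀ p q r, p ≠ q → r ≠ p → r ≠ q → f p + f q + z ∈ Δ → f p + f r + z ∈ Δ := by
        intro p q r hpq hrp hrq hm
        have h1 : B (f p + f q + z) (f q + f r) = 1 := by
          rw [LinearMap.map_add₂, hz, hf.gram]
          simp [dl, hpq, Ne.symm hrp, Ne.symm hrq]
        have := h.closed _ hm _ (hf.mem q r (Ne.symm hrq)) h1
        convert this using 1
        calc f p + f r + z = f p + f r + z + (f q + f q) := by rw [vadd_self, add_zero]
          _ = _ := by abel
      have flip : ∀ p q, f p + f q + z ∈ Δ → f q + f p + z ∈ Δ := fun p q h => by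
        rwa [add_comm (f q)]
      -- reach any first point
      have step : ∀ a, ∃ b, a ≠ b ∧ f a + f b + z ∈ Δ := by
        intro a
        by_cases hap : a = p
        · exact ⟨q, hap ▸ hpq, hap ▸ hm⟩
        by_cases haq : a = q
        · exact ⟨p, haq ▸ hpq.symm, haq ▸ flip _ _ hm⟩
        exact ⟨p, hap, flip _ _ (move p q a hpq hap haq hm)⟩
      intro a b hab
      obtain ⟨c, hac, hc⟩ := step a
      by_cases hbc : b = c
      · exact hbc ▸ hc
      · exact move a c b hac (Ne.symm hab) hbc hc
    let Z : Set V := {z | Pp z ∧ ∀ p q, p ≠ q → f p + f q + z ∈ Δ}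
    -- members orthogonal to the frame see no member of weight two
    have hwz : ∀ z ∈ Z, ∀ w ∈ Δ, Pp w → B w z = 0 := by
      intro z hz w hw hPw
      by_contra hcon
      have h1 := (zm _).resolve_left hcon
      let l : Fin k := ⟨0, by omega⟩
      let g : Fin k → V := fun i => f i + (if i = l then z else 0)
      have hzz : ∀ i j, B (f i + f j) z = 0 := fun i j => by rw [h.symm, hz.1]
      have hg : ∀ i j, g i + g j = f i + f j +
          ((if i = l then z else 0) + (if j = l then z else 0)) := fun i j =>
        add_add_add_comm _ _ _ _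
      have hg' : Frame B Δ k g := by
        refine ⟨fun i j hij => ?_, fun i j p q => ?_⟩
        · rw [hg]
          by_cases hi : i = l
          · rw [if_pos hi, if_neg (fun e => hij (hi.trans e.symm)), add_zero]
            exact hz.2 i j hij
          · by_cases hj : j = l
            · rw [if_neg hi, if_pos hj, zero_add]
              exact hz.2 i j hij
            · rw [if_neg hi, if_neg hj, add_zero, add_zero]
              exact hf.mem i j hij
        · have hsp : ∀ i j : Fin k, ((if i = l then z else 0) + (if j = l then z else 0)) = 0 ∨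
              ((if i = l then z else 0) + (if j = l then z else 0)) = z := by
            intro i j
            by_cases a : i = l <;> by_cases b : j = l <;> simp [a, b, vadd_self]
          have key : ∀ a b x y : V, B (a + b) (x + y) = B a x + B b x + (B a y + B b y) := by
            intros
            simp only [map_add, LinearMap.add_apply]
          rw [hg, hg, ← hf.gram i j p q]
          rcases hsp i j with e | e <;> rcases hsp p q with e' | e' <;>
            rw [e, e', key] <;>
            simp only [map_zero, LinearMap.zero_apply, hz.1 p q, hzz i j, h.alt, add_zero]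
      refine hmax ⟨_, extend h hg' hw l fun i => ?_⟩
      rw [hg, map_add, hPw, zero_add]
      by_cases hi : i = l
      · rw [if_pos hi, if_pos rfl, vadd_self, map_zero, hi, dl_self]
        rfl
      · rw [if_neg hi, if_pos rfl, zero_add, h1]
        simp only [dl, if_neg hi, add_zero]
    -- no member is orthogonal to the frame
    have hnoP : ∀ w ∈ Δ, ¬ Pp w := by
      intro w hw hPw
      have key := h.conn {w | w ∈ Δ ∧ Pp w} (fun _ hh => hh.1) ⟨w, hw, hPw⟩ (by
        rintro a ⟨ha, hPa⟩ b hb hab
        refine ⟨hb, ?_⟩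
        rcases hW b hb with hb' | ⟨p, q, hpq, hb'⟩
        · exact hb'
        · exfalso
          have hzP : Pp (b + (f p + f q)) := fun i j => by
            rw [LinearMap.map_add₂, hb', CharTwo.add_self_eq_zero]
          have hzZ : b + (f p + f q) ∈ Z := ⟨hzP, hz_all _ hzP ⟨p, q, hpq, by
            convert hb using 1
            rw [add_comm b, ← add_assoc, vadd_self, zero_add]⟩⟩
          have := hwz _ hzZ a ha hPa
          rw [map_add, hPa, add_zero, hab] at this
          exact one_ne_zero this)
      have hin : f ⟨0, by omega⟩ + f ⟨1, by omega⟩ ∈ {w | w ∈ Δ ∧ Pp w} :=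
        key.symm ▸ hf.mem ⟨0, by omega⟩ ⟨1, by omega⟩ (by simp)
      have h1 := hin.2 ⟨1, by omega⟩ ⟨2, by omega⟩
      rw [hf.gram] at h1
      simp [dl] at h1
    -- so every member is a frame pair plus a vector of `Z`
    have hdec : ∀ v ∈ Δ, ∃ p q, p ≠ q ∧ ∃ z ∈ Z, v = f p + f q + z := by
      intro v hv
      rcases hW v hv with h0 | ⟨p, q, hpq, hb'⟩
      · exact absurd h0 (hnoP v hv)
      · have hzP : Pp (v + (f p + f q)) := fun i j => by
          rw [LinearMap.map_add₂, hb', CharTwo.add_self_eq_zero]
        have e : f p + f q + (v + (f p + f q)) = v := by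
          rw [add_comm v, ← add_assoc, vadd_self, zero_add]
        exact ⟨p, q, hpq, _, ⟨hzP, hz_all _ hzP ⟨p, q, hpq, e.symm ▸ hv⟩⟩, e.symm⟩
    have hzero : ∀ z ∈ Z, z = 0 := by
      intro z hz
      refine h.eq_zero fun v hv => ?_
      obtain ⟨p, q, hpq, z', hz', rfl⟩ := hdec v hv
      rw [map_add, hz.1, zero_add]
      by_contra hcon
      have h1 := (zm _).resolve_left hcon
      -- two members on one pair differing by an element orthogonal to the frame
      have hm := h.closed _ (hz.2 p q hpq) _ (hz'.2 p q hpq) (by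
        simp only [map_add (B _), map_add B, LinearMap.add_apply, hz'.1, h1]
        have e1 := h.alt (f p + f q)
        simp only [map_add, LinearMap.add_apply] at e1
        have e2 : B (f p) z' + B (f q) z' = 0 := by
          have := hz'.1 p q
          rw [h.symm z', map_add, LinearMap.add_apply] at this
          exact this
        have e3 : B z (f p) + B z (f q) = 0 := by rw [← map_add]; exact hz.1 p q
        revert e1 e2 e3
        generalize B (f p) (f p) = a
        generalize B (f q) (f p) = b
        generalize B (f p) (f q) = c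
        generalize B (f q) (f q) = d
        generalize B (f p) z' = x
        generalize B (f q) z' = y
        generalize B z (f p) = r
        generalize B z (f q) = s
        revert a b c d x y r s
        decide)
      have e : f p + f q + z + (f p + f q + z') = z + z' := by
        rw [add_add_add_comm, vadd_self, zero_add]
      rw [e] at hm
      exact hnoP _ hm fun i j => by rw [LinearMap.map_add₂, hz.1, hz'.1, add_zero]
    refine Set.Subset.antisymm (fun v hv => ?_) (by rintro _ ⟨i, j, hij, rfl⟩; exact hf.mem i j hij)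
    obtain ⟨p, q, hpq, z, hz, rfl⟩ := hdec v hv
    exact ⟨p, q, hpq, by rw [hzero z hz, add_zero]⟩

/-- The first dichotomy: a symmetric configuration or six members in the diagram `E6`. -/
theorem dichotomy [Finite V] (h : Cot B Δ) (hne : Δ.Nonempty) :
    (∃ k, ∃ f : Fin k → V, 3 ≤ k ∧ Frame B Δ k f ∧ Δ = pairSet f ∧
      ∀ i j p q, i ≠ j → p ≠ q → f i + f j = f p + f q → (i = p ∧ j = q) ∨ (i = q ∧ j = p)) ∨
    ∃ x, Six B Δ x := by
  classical
  rcases exists_five h hne with ⟨f, hf, hΔ, hinj⟩ | ⟨f, hf⟩
  · exact Or.inl ⟨3, f, le_rfl, hf, hΔ, hinj⟩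
  have := Fintype.ofFinite V
  -- frames are bounded
  have hbound : ∀ k (g : Fin k → V), 5 ≤ k → Frame B Δ k g → k ≤ Fintype.card V := by
    intro k g hk hg
    have hinj : Function.Injective g := by
      intro a b e
      by_contra hab
      exact h.ne_zero (hg.mem a b hab) (by rw [e, vadd_self])
    simpa using Fintype.card_le_of_injective g hinj
  let P : ℕ → Prop := fun k => 5 ≤ k ∧ ∃ g : Fin k → V, Frame B Δ k g
  let m := Nat.findGreatest P (Fintype.card V)
  have h5 : P 5 := ⟨le_rfl, f, hf⟩
  obtain ⟨hm5, g, hg⟩ : P m := Nat.findGreatest_spec (hbound 5 f le_rfl hf) h5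
  have hmax : ¬ ∃ g' : Fin (m + 1) → V, Frame B Δ (m + 1) g' := by
    rintro ⟨g', hg'⟩
    have h1 : m + 1 ≤ m :=
      Nat.le_findGreatest (hbound _ g' (by omega) hg') (show P (m + 1) from ⟨by omega, g', hg'⟩)
    omega
  rcases frame_or_six h hm5 hg hmax with hΔ | hx
  · exact Or.inl ⟨m, g, by omega, hg, hΔ, fun _ _ _ _ a b c => pairs_inj hg hm5 a b c⟩
  · exact Or.inr hx

end Cfsg.Agent.FischerSymplecticFrame88
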