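import Cfsg.Prelude.Def_FischerSpaces
import Cfsg.Agent.Lib.FischerSymplecticFrame88

/-!
The symplectic space of a 3-transposition class without affine planes, and isomorphisms of
centre-free 3-transposition groups from bijections of their transpositions.
-/

set_option autoImplicit false

namespace Cfsg.Agent.FischerSymplecticSpace88

open FischerSymplecticFrame88

universe u

variable {G : Type u} [Group G] {D : Set G}

open Classical in
/-- The indicator of not commuting. -/
noncomputable def nm (a b : G) : ZMod 2 := if Commute a b then 0 else 1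

theorem nm_eq_one {a b : G} : nm a b = 1 ↔ ¬ Commute a b := by
  unfold nm; split_ifs with h <;> simp [h]

theorem nm_eq_zero {a b : G} : nm a b = 0 ↔ Commute a b := by
  unfold nm; split_ifs with h <;> simp [h]

theorem nm_self (a : G) : nm a a = 0 := nm_eq_zero.2 (Commute.refl a)

theorem nm_comm (a b : G) : nm a b = nm b a := by
  unfold nm
  by_cases h : Commute a b
  · rw [if_pos h, if_pos h.symm]
  · rw [if_neg h, if_neg fun e => h e.symm]

/-- The hypotheses on a class of 3-transpositions. -/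
structure Sym (D : Set G) : Prop where
  grp : Cfsg.IsThreeTranspositionGroup D
  centre : Subgroup.center G = ⊥
  nonempty : D.Nonempty
  trans : ∀ a ∈ D, ∀ b ∈ D, ∃ g : G, g * a * g⁻¹ = b
  red : ∀ a ∈ D, ∀ b ∈ D, (∀ e ∈ D, Commute a e ↔ Commute b e) → a = b
  planes : ∀ a ∈ D, ∀ b ∈ D, ∀ w ∈ D, ¬ Commute a b →
    Commute w a ∨ Commute w b ∨ Commute w (a * b * a⁻¹)

/-- A set of 3-transpositions closed under its own conjugation, without affine planes. -/
structure Loc (E : Set G) : Prop where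
  ord : ∀ a ∈ E, orderOf a = 2
  prod : ∀ a ∈ E, ∀ b ∈ E, (a * b) ^ 2 = 1 ∨ (a * b) ^ 3 = 1
  conj : ∀ a ∈ E, ∀ b ∈ E, a * b * a⁻¹ ∈ E
  trans : ∀ a ∈ E, ∀ b ∈ E, ∃ g ∈ Subgroup.closure E, g * a * g⁻¹ = b
  red : ∀ a ∈ E, ∀ b ∈ E, (∀ e ∈ E, Commute a e ↔ Commute b e) → a = b
  noniso : ∀ a ∈ E, ∃ b ∈ E, ¬ Commute a b
  planes : ∀ a ∈ E, ∀ b ∈ E, ∀ w ∈ E, ¬ Commute a b →
    Commute w a ∨ Commute w b ∨ Commute w (a * b * a⁻¹)

theorem Loc.mul_self (h : Loc D) {a : G} (ha : a ∈ D) : a * a = 1 := by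
  rw [← pow_two, ← (h.ord a ha)]
  exact pow_orderOf_eq_one a

theorem Loc.inv_eq (h : Loc D) {a : G} (ha : a ∈ D) : a⁻¹ = a :=
  inv_eq_of_mul_eq_one_left (h.mul_self ha)

theorem Sym.mul_self (h : Sym D) {a : G} (ha : a ∈ D) : a * a = 1 := by
  rw [← pow_two, ← (h.grp.1.1 a ha)]
  exact pow_orderOf_eq_one a

theorem Sym.inv_eq (h : Sym D) {a : G} (ha : a ∈ D) : a⁻¹ = a :=
  inv_eq_of_mul_eq_one_left (h.mul_self ha)

theorem Sym.ne_one (h : Sym D) {a : G} (ha : a ∈ D) : a ≠ 1 := fun e => by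
  have := h.grp.1.1 a ha
  rw [e, orderOf_one] at this
  omega

theorem eq_one_of_commute (hgen : Subgroup.closure D = ⊤) (hZ : Subgroup.center G = ⊥) {g : G}
    (hg : ∀ a ∈ D, Commute g a) : g = 1 := by
  have : g ∈ Subgroup.center G := by
    rw [Subgroup.mem_center_iff]
    intro x
    have hx : x ∈ Subgroup.closure D := hgen ▸ Subgroup.mem_top x
    have : Subgroup.closure D ≤ Subgroup.centralizer {g} :=
      (Subgroup.closure_le _).2 fun a ha => Subgroup.mem_centralizer_singleton_iff.2 (hg a ha).eq.symm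
    exact Subgroup.mem_centralizer_singleton_iff.1 (this hx)
  rwa [hZ, Subgroup.mem_bot] at this

/-- For a non-commuting pair, the third member of the line. -/
theorem Loc.parity (h : Loc D) {a b w : G} (ha : a ∈ D) (hb : b ∈ D) (hw : w ∈ D)
    (hab : ¬ Commute a b) : nm w (a * b * a⁻¹) = nm w a + nm w b := by
  have hia := h.inv_eq ha
  by_cases h1 : Commute w a
  · by_cases h2 : Commute w b
    · rw [nm_eq_zero.2 ((h1.mul_right h2).mul_right h1.inv_right), nm_eq_zero.2 h1,
        nm_eq_zero.2 h2, add_zero]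
    · have h3 : ¬ Commute w (a * b * a⁻¹) := by
        intro h3
        apply h2
        have e : b = a⁻¹ * (a * b * a⁻¹) * a := by group
        rw [e]
        exact (h1.inv_right.mul_right h3).mul_right h1
      rw [nm_eq_one.2 h3, nm_eq_zero.2 h1, nm_eq_one.2 h2, zero_add]
  · by_cases h2 : Commute w b
    · have h3 : ¬ Commute w (a * b * a⁻¹) := by
        intro h3
        apply h1
        -- `a = b c b` for the third member `c`
        have hbr : a * b * a = b * a * b := by
          rcases h.prod a ha b hb with h4 | h4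
          · exfalso
            apply hab
            show a * b = b * a
            rw [pow_two, mul_eq_one_iff_eq_inv, mul_inv_rev, hia, h.inv_eq hb] at h4
            exact h4
          · rw [pow_succ, pow_two] at h4
            have e : (a * b * a) * (b * a * b) = 1 := by rw [← h4]; group
            rw [mul_eq_one_iff_eq_inv, mul_inv_rev, mul_inv_rev, hia, h.inv_eq hb] at e
            rw [e]; group
        have e : a = b * (a * b * a⁻¹) * b⁻¹ := by
          rw [hia, hbr, h.inv_eq hb]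
          calc a = (b * b) * a * (b * b) := by rw [h.mul_self hb, one_mul, mul_one]
            _ = _ := by group
        rw [e]
        exact (h2.mul_right h3).mul_right h2.inv_right
      rw [nm_eq_one.2 h3, nm_eq_one.2 h1, nm_eq_zero.2 h2, add_zero]
    · have h3 : Commute w (a * b * a⁻¹) := by
        rcases h.planes a ha b hb w hw hab with h3 | h3 | h3
        · exact absurd h3 h1
        · exact absurd h3 h2
        · exact h3
      rw [nm_eq_zero.2 h3, nm_eq_one.2 h1, nm_eq_one.2 h2]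
      rfl

/-- The symplectic space of such a set. -/
theorem exists_space_of_loc [Finite G] (h : Loc D) :
    ∃ (V : Type u) (_ : AddCommGroup V) (_ : Module (ZMod 2) V) (_ : Finite V)
      (B : V →ₗ[ZMod 2] V →ₗ[ZMod 2] ZMod 2) (r : G → V),
      Cot B (r '' D) ∧ Set.InjOn r D ∧
      ∀ a ∈ D, ∀ b ∈ D, r (a * b * a⁻¹) = r b + B (r a) (r b) • r a := by
  classical
  have : Fintype D := Fintype.ofFinite _
  let N : Matrix D D (ZMod 2) := Matrix.of fun a b => nm (a : G) (b : G)
  have hN : N.transpose = N := by ext a b; exact nm_comm _ _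
  let M := N.mulVecLin
  let V := LinearMap.range M
  let pre : V → (D → ZMod 2) := fun v => Classical.choose (LinearMap.mem_range.1 v.2)
  have hpre : ∀ v : V, M (pre v) = v.1 := fun v => Classical.choose_spec (LinearMap.mem_range.1 v.2)
  have hdot : ∀ x y : D → ZMod 2, x ⬝ᵥ M y = M x ⬝ᵥ y := by
    intro x y
    show x ⬝ᵥ N.mulVec y = N.mulVec x ⬝ᵥ y
    rw [Matrix.dotProduct_mulVec, ← Matrix.mulVec_transpose, hN]
  have key : ∀ (x : D → ZMod 2) (u v : V), M x = u.1 → pre u ⬝ᵥ v.1 = x ⬝ᵥ v.1 := by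
    intro x u v hx
    rw [← hpre v, hdot, hdot, hpre u, hx]
  let B : V →ₗ[ZMod 2] V →ₗ[ZMod 2] ZMod 2 := LinearMap.mk₂ (ZMod 2) (fun u v => pre u ⬝ᵥ v.1)
    (fun u u' v => by
      rw [key (pre u + pre u') (u + u') v (by rw [map_add, hpre, hpre]; rfl), add_dotProduct])
    (fun c u v => by
      rw [key (c • pre u) (c • u) v (by rw [map_smul, hpre]; rfl), smul_dotProduct])
    (fun u v v' => by rw [Submodule.coe_add, dotProduct_add])
    (fun c u v => by rw [Submodule.coe_smul, dotProduct_smul])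
  let rD : D → V := fun a => ⟨M (Pi.single a 1), LinearMap.mem_range_self _ _⟩
  let r : G → V := fun g => if hg : g ∈ D then rD ⟨g, hg⟩ else 0
  have hr : ∀ a (ha : a ∈ D), r a = rD ⟨a, ha⟩ := fun a ha => dif_pos ha
  have hrD : ∀ (a w : D), (rD a).1 w = nm (w : G) (a : G) := by
    intro a w
    show (N.mulVec (Pi.single a 1)) w = _
    rw [Matrix.mulVec_single_one]
    rfl
  have hBr : ∀ (a : D) (v : V), B (rD a) v = v.1 a := by
    intro a v
    show pre (rD a) ⬝ᵥ v.1 = _
    rw [key (Pi.single a 1) (rD a) v rfl, single_one_dotProduct]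
  have hBrr : ∀ a (ha : a ∈ D) b (hb : b ∈ D), B (r a) (r b) = nm a b := by
    intro a ha b hb
    rw [hr a ha, hr b hb, hBr, hrD]
  have hspan : Submodule.span (ZMod 2) (r '' D) = ⊤ := by
    refine eq_top_iff.2 fun v _ => ?_
    have hv : v = ∑ a : D, pre v a • rD a := by
      refine Subtype.ext ?_
      rw [← hpre v]
      conv_lhs => rw [pi_eq_sum_univ' (pre v), map_sum]
      simp [rD, map_smul]
    rw [hv]
    exact sum_mem fun a _ => Submodule.smul_mem _ _
      (Submodule.subset_span ⟨a, a.2, hr a a.2⟩)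
  have hline : ∀ a, a ∈ D → ∀ b, b ∈ D →
      r (a * b * a⁻¹) = r b + B (r a) (r b) • r a := by
    intro a ha b hb
    have hc := h.conj a ha b hb
    rw [hBrr a ha b hb]
    by_cases hab : Commute a b
    · rw [nm_eq_zero.2 hab, zero_smul, add_zero, hab.eq, mul_inv_cancel_right]
    · rw [nm_eq_one.2 hab, one_smul, hr _ hc, hr a ha, hr b hb]
      refine Subtype.ext (funext fun w => ?_)
      rw [Submodule.coe_add, Pi.add_apply, hrD, hrD, hrD, h.parity ha hb w.2 hab, add_comm]
  have hinj : Set.InjOn r D := by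
    intro a ha b hb e
    refine h.red a ha b hb fun x hx => ?_
    have h1 : nm a x = nm b x := by rw [← hBrr a ha x hx, e, hBrr b hb x hx]
    rw [← nm_eq_zero, ← nm_eq_zero, h1]
  have hsymm : ∀ u v : V, B u v = B v u := by
    intro u v
    show pre u ⬝ᵥ v.1 = pre v ⬝ᵥ u.1
    rw [← hpre v, hdot, hpre u, dotProduct_comm]
  have halt : ∀ v, B v v = 0 := by
    intro v
    have hv : v ∈ Submodule.span (ZMod 2) (r '' D) := hspan ▸ Submodule.mem_top
    induction hv using Submodule.span_induction with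
    | mem x hx =>
      obtain ⟨a, ha, rfl⟩ := hx
      rw [hBrr a ha a ha, nm_self]
    | zero => simp
    | add x y _ _ hx hy =>
      rw [map_add, LinearMap.map_add₂, LinearMap.map_add₂, hx, hy, zero_add, add_zero,
        hsymm y x, CharTwo.add_self_eq_zero]
    | smul c x _ hx => simp [hx]
  refine ⟨V, inferInstance, inferInstance, inferInstance, B, r,
    ⟨halt, ?_, ?_, hspan, ?_, ?_⟩, hinj, hline⟩
  · intro u hu
    refine Subtype.ext (funext fun a => ?_)
    rw [← hBr a u, hsymm, hu]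
    rfl
  · rintro ⟨a, ha, e⟩
    obtain ⟨b, hb, hab⟩ := h.noniso a ha
    refine hab ?_
    rw [← nm_eq_zero, ← hBrr a ha b hb, e, map_zero, LinearMap.zero_apply]
  · rintro _ ⟨a, ha, rfl⟩ _ ⟨b, hb, rfl⟩ hab
    refine ⟨a * b * a⁻¹, h.conj a ha b hb, ?_⟩
    rw [hline a ha b hb, hab, one_smul, add_comm]
  · intro S hS hne hcl
    -- the component is invariant under conjugation
    have hinv : ∀ g ∈ Subgroup.closure D, ∀ a ∈ D, r a ∈ S →
        g * a * g⁻¹ ∈ D ∧ r (g * a * g⁻¹) ∈ S := by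
      intro g hg
      induction hg using Subgroup.closure_induction_left with
      | one => intro a ha h1; simpa using ⟨ha, h1⟩
      | mul_left d hd g _ ih =>
        intro a ha h1
        obtain ⟨hm, h2⟩ := ih a ha h1
        have e : d * g * a * (d * g)⁻¹ = d * (g * a * g⁻¹) * d⁻¹ := by group
        rw [e]
        refine ⟨h.conj d hd _ hm, ?_⟩
        generalize g * a * g⁻¹ = s at hm h2 ⊢
        rcases zm (B (r d) (r s)) with h3 | h3
        · rwa [hline d hd s hm, h3, zero_smul, add_zero]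
        · refine hcl _ h2 _ ⟨_, h.conj d hd s hm, rfl⟩ ?_
          rw [hline d hd s hm, h3, one_smul, map_add, halt, zero_add]
          rw [hsymm, h3]
      | inv_mul_cancel d hd g _ ih =>
        intro a ha h1
        obtain ⟨hm, h2⟩ := ih a ha h1
        have e : d⁻¹ * g * a * (d⁻¹ * g)⁻¹ = d * (g * a * g⁻¹) * d⁻¹ := by
          rw [h.inv_eq hd, mul_inv_rev, h.inv_eq hd]; simp only [mul_assoc]
        rw [e]
        refine ⟨h.conj d hd _ hm, ?_⟩
        generalize g * a * g⁻¹ = s at hm h2 ⊢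
        rcases zm (B (r d) (r s)) with h3 | h3
        · rwa [hline d hd s hm, h3, zero_smul, add_zero]
        · refine hcl _ h2 _ ⟨_, h.conj d hd s hm, rfl⟩ ?_
          rw [hline d hd s hm, h3, one_smul, map_add, halt, zero_add]
          rw [hsymm, h3]
    obtain ⟨_, hs⟩ := hne
    obtain ⟨a, ha, rfl⟩ := hS hs
    refine Set.Subset.antisymm hS ?_
    rintro _ ⟨b, hb, rfl⟩
    obtain ⟨g, hg, rfl⟩ := h.trans a ha b hb
    exact (hinv g hg a ha hs).2

theorem Sym.loc (h : Sym D) : Loc D :=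
  ⟨h.grp.1.1, h.grp.1.2, fun a _ b hb => h.grp.2.1 a b hb,
    fun a ha b hb => (h.trans a ha b hb).imp fun g hg =>
      ⟨h.grp.2.2 ▸ Subgroup.mem_top g, hg⟩,
    h.red, fun a ha => by
      by_contra hc
      push Not at hc
      exact h.ne_one ha (eq_one_of_commute h.grp.2.2 h.centre hc),
    h.planes⟩

/-- The symplectic space of the class. -/
theorem exists_space [Finite G] (h : Sym D) :
    ∃ (V : Type u) (_ : AddCommGroup V) (_ : Module (ZMod 2) V) (_ : Finite V)
      (B : V →ₗ[ZMod 2] V →ₗ[ZMod 2] ZMod 2) (r : G → V),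
      Cot B (r '' D) ∧ Set.InjOn r D ∧
      ∀ a ∈ D, ∀ b ∈ D, r (a * b * a⁻¹) = r b + B (r a) (r b) • r a :=
  exists_space_of_loc h.loc

/-- A bijection of generating conjugation-closed sets respecting conjugation gives an
isomorphism of centre-free groups. -/
theorem exists_iso {G' : Type*} [Group G'] [Finite G] [Finite G'] {D' : Set G'}
    (hconj : ∀ g : G, ∀ a ∈ D, g * a * g⁻¹ ∈ D) (hgen : Subgroup.closure D = ⊤)
    (hZ : Subgroup.center G = ⊥) (hgen' : Subgroup.closure D' = ⊤)
    (hZ' : Subgroup.center G' = ⊥) (θ : G → G') (hθ : Set.BijOn θ D D')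
    (heq : ∀ a ∈ D, ∀ b ∈ D, θ (a * b * a⁻¹) = θ a * θ b * (θ a)⁻¹) :
    ∃ e : G ≃* G', e '' D = D' := by
  let S : Subgroup (G × G') := Subgroup.closure ((fun d => (d, θ d)) '' D)
  have hS : ∀ p ∈ S, ∀ d ∈ D, θ (p.1 * d * p.1⁻¹) = p.2 * θ d * p.2⁻¹ := by
    intro p hp
    induction hp using Subgroup.closure_induction with
    | mem x hx =>
      obtain ⟨a, ha, rfl⟩ := hx
      exact fun d hd => heq a ha d hd
    | one => intro d _; simp
    | mul x y _ _ ihx ihy =>
      intro d hd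
      show θ (x.1 * y.1 * d * (x.1 * y.1)⁻¹) = x.2 * y.2 * θ d * (x.2 * y.2)⁻¹
      have e : x.1 * y.1 * d * (x.1 * y.1)⁻¹ = x.1 * (y.1 * d * y.1⁻¹) * x.1⁻¹ := by group
      rw [e, ihx _ (hconj _ d hd), ihy d hd]
      group
    | inv x _ ih =>
      intro d hd
      show θ (x.1⁻¹ * d * x.1⁻¹⁻¹) = x.2⁻¹ * θ d * x.2⁻¹⁻¹
      have h1 := ih _ (hconj x.1⁻¹ d hd)
      rw [show x.1 * (x.1⁻¹ * d * x.1⁻¹⁻¹) * x.1⁻¹ = d by group] at h1
      rw [h1]
      group
  let p₁ : S →* G := (MonoidHom.fst G G').comp S.subtype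
  let p₂ : S →* G' := (MonoidHom.snd G G').comp S.subtype
  have hb₁ : Function.Bijective p₁ := by
    refine ⟨(injective_iff_map_eq_one _).2 fun p hp => ?_, MonoidHom.range_eq_top.1 ?_⟩
    · refine Subtype.ext (Prod.ext hp (eq_one_of_commute hgen' hZ' fun b hb => ?_))
      obtain ⟨a, ha, rfl⟩ := hθ.surjOn hb
      have h1 := hS p.1 p.2 a ha
      rw [show (p : G × G').1 = 1 from hp] at h1
      rw [one_mul, inv_one, mul_one, eq_mul_inv_iff_mul_eq] at h1
      exact h1.symm
    · rw [eq_top_iff, ← hgen, Subgroup.closure_le]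
      exact fun a ha => ⟨⟨_, Subgroup.subset_closure ⟨a, ha, rfl⟩⟩, rfl⟩
  have hb₂ : Function.Bijective p₂ := by
    refine ⟨(injective_iff_map_eq_one _).2 fun p hp => ?_, MonoidHom.range_eq_top.1 ?_⟩
    · refine Subtype.ext (Prod.ext (eq_one_of_commute hgen hZ fun b hb => ?_) hp)
      have h1 := hS p.1 p.2 b hb
      rw [show (p : G × G').2 = 1 from hp, one_mul, inv_one, mul_one] at h1
      have := hθ.injOn (hconj _ b hb) hb h1
      rw [mul_inv_eq_iff_eq_mul] at this
      exact this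
    · rw [eq_top_iff, ← hgen', Subgroup.closure_le]
      intro b hb
      obtain ⟨a, ha, rfl⟩ := hθ.surjOn hb
      exact ⟨⟨_, Subgroup.subset_closure ⟨a, ha, rfl⟩⟩, rfl⟩
  let e := (MulEquiv.ofBijective p₁ hb₁).symm.trans (MulEquiv.ofBijective p₂ hb₂)
  have he : ∀ a ∈ D, e a = θ a := by
    intro a ha
    have h1 : (MulEquiv.ofBijective p₁ hb₁).symm a =
        ⟨(a, θ a), Subgroup.subset_closure ⟨a, ha, rfl⟩⟩ := by
      rw [MulEquiv.symm_apply_eq]; rfl
    show MulEquiv.ofBijective p₂ hb₂ ((MulEquiv.ofBijective p₁ hb₁).symm a) = _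
    rw [h1]; rfl
  refine ⟨e, ?_⟩
  rw [Set.image_congr he, hθ.image_eq]

/-- In a primitive class members with the same commuting set coincide. -/
theorem red_of_primitive (hD : Cfsg.IsThreeTranspositionGroup D)
    (hprim : Cfsg.IsPrimitiveUnderConj D) (hZ : Subgroup.center G = ⊥) :
    ∀ a ∈ D, ∀ b ∈ D, (∀ e ∈ D, Commute a e ↔ Commute b e) → a = b := by
  intro a ha b hb hab
  let C : Set G := {v | v ∈ D ∧ ∀ e ∈ D, Commute a e ↔ Commute v e}
  have hblock : ∀ g : G, (fun x => g * x * g⁻¹) '' C = C ∨ Disjoint ((fun x => g * x * g⁻¹) '' C) C := by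
    intro g
    have hc : ∀ (g : G) (x y : G), Commute (g * x * g⁻¹) y ↔ Commute x (g⁻¹ * y * g) := by
      intro g x y
      conv_lhs => rw [show y = g * (g⁻¹ * y * g) * g⁻¹ by group]
      exact Commute.conj_iff g
    by_cases hdis : Disjoint ((fun x => g * x * g⁻¹) '' C) C
    · exact Or.inr hdis
    obtain ⟨_, ⟨x, hx, rfl⟩, hgx⟩ := Set.not_disjoint_iff.1 hdis
    left
    have hpull : ∀ e ∈ D, g⁻¹ * e * g ∈ D := fun e he => by
      have := hD.2.1 g⁻¹ e he
      rwa [inv_inv] at this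
    refine Set.Subset.antisymm ?_ ?_
    · rintro _ ⟨y, hy, rfl⟩
      refine ⟨hD.2.1 g y hy.1, fun e he => ?_⟩
      rw [hgx.2 e he, hc, hc, ← hx.2 _ (hpull e he), hy.2 _ (hpull e he)]
    · intro y hy
      refine ⟨g⁻¹ * y * g, ⟨hpull y hy.1, fun e he => ?_⟩, by group⟩
      have h1 : g * e * g⁻¹ ∈ D := hD.2.1 g e he
      rw [hx.2 e he, ← Commute.conj_iff g, ← hgx.2 _ h1, hy.2 _ h1]
      conv_rhs => rw [← Commute.conj_iff g, show g * (g⁻¹ * y * g) * g⁻¹ = y by group]
  rcases hprim.2.2 C (fun _ hv => hv.1) hblock with h1 | h1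
  · exact h1 ⟨ha, fun _ _ => Iff.rfl⟩ ⟨hb, hab⟩
  · exfalso
    obtain ⟨x, hx, y, hy, hxy⟩ := hprim.2.1
    have hall : ∀ u ∈ D, ∀ v ∈ D, Commute u v := by
      intro u hu v hv
      have h2 : u ∈ C := h1.symm ▸ hu
      have h3 : v ∈ C := h1.symm ▸ hv
      exact (h2.2 v hv).1 ((h3.2 a ha).1 (Commute.refl a)).symm
    exact hxy ((eq_one_of_commute hD.2.2 hZ (hall x hx)).trans
      (eq_one_of_commute hD.2.2 hZ (hall y hy)).symm)

end Cfsg.Agent.FischerSymplecticSpace88
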