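import Cfsg.Agent.Lib.FischerSymplecticFrame88

/-!
A configuration containing six members in the diagram `E6` consists of all non-zero vectors or
of the non-singular vectors of a quadratic form.
-/

set_option autoImplicit false

namespace Cfsg.Agent.FischerSymplecticSplit88

open FischerSymplecticFrame88

/-- The coordinate space. -/
abbrev C6 := Fin 6 → ZMod 2

/-- The alternating form of the diagram `E6`. -/
def b6 (x y : C6) : ZMod 2 :=
  x 0 * y 1 + x 1 * y 0 + x 1 * y 2 + x 2 * y 1 + x 2 * y 3 + x 3 * y 2 + x 3 * y 4 + x 4 * y 3 +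
    x 2 * y 5 + x 5 * y 2

/-- The quadratic form of the diagram `E6`. -/
def q6 (x : C6) : ZMod 2 :=
  x 0 + x 1 + x 2 + x 3 + x 4 + x 5 + x 0 * x 1 + x 1 * x 2 + x 2 * x 3 + x 3 * x 4 + x 2 * x 5

/-- The coordinates with given products against the simple vectors. -/
def inv6 (c : C6) : C6 := ![c 1 + c 5, c 0, c 5, c 4, c 3 + c 5, c 0 + c 2 + c 4]

theorem q6_add (x y : C6) : q6 (x + y) = q6 x + q6 y + b6 x y := by
  simp only [q6, b6, Pi.add_apply]
  ring

theorem b6_inv (c : C6) (j : Fin 6) : b6 (inv6 c) (Pi.single j 1) = c j := by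
  revert c j; decide +kernel

theorem inv_b6 (x : C6) : inv6 (fun j => b6 x (Pi.single j 1)) = x := by
  revert x; decide +kernel

theorem inv6_add (c d : C6) : inv6 (c + d) = inv6 c + inv6 d := by
  revert c d; decide +kernel

/-- The distances from the simple vectors. -/
def tbl : List ℕ := [0, 0, 0, 1, 0, 0, 1, 2, 0, 0, 0, 0, 1, 0, 2, 3, 0, 0, 0, 0, 0, 10, 0, 0, 1, 0,
  0, 0, 2, 0, 3, 4, 0, 0, 0, 0, 1, 0, 2, 3, 0, 6, 4, 5, 2, 0, 3, 4, 0, 8, 6, 7, 0, 9, 0, 0, 0, 7,
  5, 6, 3, 0, 4, 5]

/-- The distance of a vector. -/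
def ht (x : C6) : ℕ :=
  tbl.getD ((x 0).val + 2 * (x 1).val + 4 * (x 2).val + 8 * (x 3).val + 16 * (x 4).val +
    32 * (x 5).val) 0

theorem descend : ∀ x : C6, q6 x = 1 → (∃ i, x = Pi.single i 1) ∨
    ∃ i, b6 (x + Pi.single i 1) (Pi.single i 1) = 1 ∧ q6 (x + Pi.single i 1) = 1 ∧
      ht (x + Pi.single i 1) < ht x := by
  decide +kernel

theorem middle : ∀ x y : C6, x ≠ 0 → y ≠ 0 → q6 x = q6 y →
    ∃ w : C6, w ≠ 0 ∧ q6 w = q6 x ∧ b6 x w = 1 ∧ b6 w y = 1 := by
  decide +kernel

theorem reps : ∀ c d β : ZMod 2, ∃ x y : C6, x ≠ 0 ∧ y ≠ 0 ∧ x + y ≠ 0 ∧ q6 x = c ∧ q6 y = d ∧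
    b6 x y = β := by
  decide +kernel

theorem reps_one : ∀ c : ZMod 2, ∃ x : C6, x ≠ 0 ∧ q6 x = c := by decide +kernel

variable {V : Type*} [AddCommGroup V] [Module (ZMod 2) V]

/-- The embedding of the coordinate space. -/
def phi (s : Fin 6 → V) : C6 →ₗ[ZMod 2] V := Fintype.linearCombination (ZMod 2) s

theorem phi_single (s : Fin 6 → V) (i : Fin 6) : phi s (Pi.single i 1) = s i := by
  simp [phi, Fintype.linearCombination_apply_single]

variable {B : V →ₗ[ZMod 2] V →ₗ[ZMod 2] ZMod 2} {Δ : Set V} {s : Fin 6 → V}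

theorem form_phi_left (hs : Six B Δ s) (x : C6) (j : Fin 6) :
    B (phi s x) (s j) = b6 x (Pi.single j 1) := by
  simp only [phi, Fintype.linearCombination_apply, map_sum, map_smul, LinearMap.sum_apply,
    LinearMap.smul_apply, hs.gram, Fin.sum_univ_six, smul_eq_mul]
  have g := hs.gram
  fin_cases j <;> simp [g, b6, Pi.single_apply]

theorem form_phi (hs : Six B Δ s) (x y : C6) : B (phi s x) (phi s y) = b6 x y := by
  conv_lhs => arg 2; rw [phi, Fintype.linearCombination_apply]
  simp only [map_sum, map_add, map_smul, Fin.sum_univ_six, smul_eq_mul]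
  rw [form_phi_left hs, form_phi_left hs, form_phi_left hs, form_phi_left hs, form_phi_left hs,
    form_phi_left hs]
  simp [b6, Pi.single_apply]
  ring

theorem phi_injective (hs : Six B Δ s) : Function.Injective (phi s) := by
  intro x y e
  rw [← inv_b6 x, ← inv_b6 y]
  congr 1
  funext j
  rw [← form_phi_left hs, ← form_phi_left hs, e]

theorem phi_mem (h : Cot B Δ) (hs : Six B Δ s) : ∀ x, q6 x = 1 → phi s x ∈ Δ := by
  intro x
  induction hn : ht x using Nat.strong_induction_on generalizing x with
  | _ n ih =>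
    intro hx
    rcases descend x hx with ⟨i, rfl⟩ | ⟨i, hb, hq, hlt⟩
    · rw [phi_single]; exact hs.mem i
    · have h1 := ih _ (hn ▸ hlt) _ rfl hq
      have h2 := h.closed _ h1 _ (hs.mem i) (by rw [form_phi_left hs, hb])
      rwa [← phi_single s i, ← map_add, add_assoc, ZModModule.add_self, add_zero] at h2

/-- Orthogonal to the six members. -/
def Perp (B : V →ₗ[ZMod 2] V →ₗ[ZMod 2] ZMod 2) (s : Fin 6 → V) (z : V) : Prop :=
  ∀ i, B z (s i) = 0

theorem perp_phi (z : V) (hz : Perp B s z) (x : C6) : B z (phi s x) = 0 := by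
  simp only [phi, Fintype.linearCombination_apply, map_sum, map_smul, hz _, smul_zero,
    Finset.sum_const_zero]

theorem form_dec (h : Cot B Δ) (hs : Six B Δ s) {z w : V} (hz : Perp B s z) (hw : Perp B s w)
    (x y : C6) : B (phi s x + z) (phi s y + w) = b6 x y + B z w := by
  rw [LinearMap.map_add₂, map_add (B (phi s x)), map_add (B z), form_phi hs, perp_phi z hz,
    h.symm (phi s x) w, perp_phi w hw, add_zero, zero_add]

theorem perp_add {z w : V} (hz : Perp B s z) (hw : Perp B s w) : Perp B s (z + w) := fun i => by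
  rw [LinearMap.map_add₂, hz, hw, add_zero]

theorem perp_zero : Perp B s (0 : V) := fun i => by rw [map_zero, LinearMap.zero_apply]

/-- The fibre over `z` contains every non-zero coordinate vector of value `c`. -/
def Cls (B : V →ₗ[ZMod 2] V →ₗ[ZMod 2] ZMod 2) (Δ : Set V) (s : Fin 6 → V) (c : ZMod 2) (z : V) :
    Prop :=
  Perp B s z ∧ ∀ x : C6, x ≠ 0 → q6 x = c → phi s x + z ∈ Δ

theorem cls_zero (h : Cot B Δ) (hs : Six B Δ s) : Cls B Δ s 1 (0 : V) :=
  ⟨perp_zero, fun x _ hx => by rw [add_zero]; exact phi_mem h hs x hx⟩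

/-- One member in a fibre gives its whole class. -/
theorem cls_of_mem (h : Cot B Δ) (hs : Six B Δ s) {z : V} (hz : Perp B s z) {x : C6} (hx : x ≠ 0)
    (hm : phi s x + z ∈ Δ) : Cls B Δ s (q6 x) z := by
  have step : ∀ a b : C6, q6 b = q6 a → b6 a b = 1 → phi s a + z ∈ Δ → phi s b + z ∈ Δ := by
    intro a b hq hb ha
    have hu : q6 (a + b) = 1 := by
      rw [q6_add, hq, CharTwo.add_self_eq_zero, zero_add, hb]
    have h1 : B (phi s a + z) (phi s (a + b)) = 1 := by
      rw [LinearMap.map_add₂, perp_phi z hz, add_zero, form_phi hs]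
      have : b6 a a = 0 := by
        have e : ∀ a : C6, b6 a a = 0 := by decide +kernel
        exact e a
      have e2 : ∀ a b c : C6, b6 a (b + c) = b6 a b + b6 a c := fun a b c => by
        simp only [b6, Pi.add_apply]; ring
      rw [e2, this, hb, zero_add]
    have h2 := h.closed _ ha _ (phi_mem h hs _ hu) h1
    convert h2 using 1
    rw [add_right_comm, ← map_add, ← add_assoc, ZModModule.add_self, zero_add]
  refine ⟨hz, fun y hy hq => ?_⟩
  obtain ⟨w, -, hw, h1, h2⟩ := middle x y hx hy hq.symm
  exact step w y (hq.trans hw.symm) h2 (step x w hw h1 hm)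

theorem cls_add (h : Cot B Δ) (hs : Six B Δ s) {c d : ZMod 2} {z w : V} (hz : Cls B Δ s c z)
    (hw : Cls B Δ s d w) : Cls B Δ s (c + d + (B z w + 1)) (z + w) := by
  obtain ⟨x, y, hx, hy, hxy, hqx, hqy, hb⟩ := reps c d (B z w + 1)
  have hm := h.closed _ (hz.2 x hx hqx) _ (hw.2 y hy hqy) (by
    rw [form_dec h hs hz.1 hw.1, hb, add_right_comm, CharTwo.add_self_eq_zero, zero_add])
  rw [add_add_add_comm, ← map_add] at hm
  have := cls_of_mem h hs (perp_add hz.1 hw.1) hxy hm
  rwa [q6_add, hqx, hqy, hb] at this

theorem bare_of_cls (h : Cot B Δ) (hs : Six B Δ s) {c : ZMod 2} {z w : V} (hz : Cls B Δ s c z)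
    (hw : Cls B Δ s c w) (hzw : B z w = 1) : z + w ∈ Δ := by
  obtain ⟨x, hx, hq⟩ := reps_one c
  have hb : b6 x x = 0 := by
    have e : ∀ a : C6, b6 a a = 0 := by decide +kernel
    exact e x
  have hm := h.closed _ (hz.2 x hx hq) _ (hw.2 x hx hq) (by
    rw [form_dec h hs hz.1 hw.1, hb, hzw, zero_add])
  rwa [add_add_add_comm, ZModModule.add_self, zero_add] at hm

theorem cls_of_bare (h : Cot B Δ) (hs : Six B Δ s) {c : ZMod 2} {z w : V} (hzp : Perp B s z)
    (hz : z ∈ Δ) (hw : Cls B Δ s c w) (hzw : B z w = 1) : Cls B Δ s c (z + w) := by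
  obtain ⟨x, hx, hq⟩ := reps_one c
  have hm := h.closed _ hz _ (hw.2 x hx hq) (by
    rw [map_add, perp_phi z hzp, hzw, zero_add])
  rw [add_left_comm] at hm
  exact hq ▸ cls_of_mem h hs (perp_add hzp hw.1) hx hm

/-- The coordinates of a vector. -/
def co (B : V →ₗ[ZMod 2] V →ₗ[ZMod 2] ZMod 2) (s : Fin 6 → V) (v : V) : C6 :=
  inv6 fun i => B v (s i)

/-- The orthogonal part of a vector. -/
def rest (B : V →ₗ[ZMod 2] V →ₗ[ZMod 2] ZMod 2) (s : Fin 6 → V) (v : V) : V :=
  phi s (co B s v) + v

theorem rest_perp (hs : Six B Δ s) (v : V) : Perp B s (rest B s v) := fun i => by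
  rw [rest, LinearMap.map_add₂, form_phi_left hs, co, b6_inv, CharTwo.add_self_eq_zero]

theorem dec_eq (v : V) : phi s (co B s v) + rest B s v = v := by
  rw [rest, ← add_assoc, ZModModule.add_self, zero_add]

theorem co_add (u v : V) : co B s (u + v) = co B s u + co B s v := by
  rw [co, co, co, ← inv6_add]
  congr 1
  funext i
  rw [Pi.add_apply, LinearMap.map_add₂]

theorem rest_add (u v : V) : rest B s (u + v) = rest B s u + rest B s v := by
  rw [rest, rest, rest, co_add, map_add]
  abel

theorem co_eq (hs : Six B Δ s) {z : V} (hz : Perp B s z) (x : C6) : co B s (phi s x + z) = x := by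
  have : (fun i => B (phi s x + z) (s i)) = fun i => b6 x (Pi.single i 1) := by
    funext i
    rw [LinearMap.map_add₂, form_phi_left hs, hz, add_zero]
  rw [co, this, inv_b6]

/-- The main theorem. -/
theorem main (h : Cot B Δ) (hs : Six B Δ s) : Δ = {v | v ≠ 0} ∨
    ∃ Q : V → ZMod 2, (∀ u v, Q (u + v) = Q u + Q v + B u v) ∧ Δ = {v | Q v = 1} := by
  classical
  -- every member lies over a classified vector
  have hcl : ∀ v ∈ Δ, ∃ c, Cls B Δ s c (rest B s v) := by
    have hS := h.conn {v | v ∈ Δ ∧ ∃ c, Cls B Δ s c (rest B s v)} (fun _ hh => hh.1)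
      ⟨s 0, hs.mem 0, 1, by
        have : rest B s (s 0) = 0 := by
          have e : co B s (s 0) = Pi.single 0 1 := by
            have := co_eq hs (perp_zero (B := B) (s := s)) (Pi.single 0 1)
            rwa [add_zero, phi_single] at this
          rw [rest, e, phi_single, ZModModule.add_self]
        rw [this]; exact cls_zero h hs⟩ (by
      rintro a ⟨ha, c, hc⟩ b hb hab
      refine ⟨hb, ?_⟩
      by_cases hx : co B s b = 0
      · have hbr : rest B s b = b := by rw [rest, hx, map_zero, zero_add]
        have hbp : Perp B s b := by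
          have := rest_perp hs b
          rwa [hbr] at this
        have h1 : B b (rest B s a) = 1 := by
          have h2 := form_dec h hs (rest_perp hs a) hbp (co B s a) 0
          rw [map_zero, zero_add, dec_eq, hab] at h2
          rw [h.symm, h2]
          have e : ∀ a : C6, b6 a 0 = 0 := by decide +kernel
          rw [e, zero_add]
        have h3 := cls_add h hs (cls_of_bare h hs hbp hb hc h1) hc
        rw [add_assoc b, ZModModule.add_self (rest B s a), add_zero] at h3
        exact ⟨_, hbr.symm ▸ h3⟩
      · exact ⟨_, cls_of_mem h hs (rest_perp hs b) hx (by rw [dec_eq]; exact hb)⟩)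
    intro v hv
    exact (hS.symm ▸ hv : v ∈ {v | v ∈ Δ ∧ ∃ c, Cls B Δ s c (rest B s v)}).2
  -- hence every orthogonal vector is classified
  have hall : ∀ z, Perp B s z → ∃ c, Cls B Δ s c z := by
    intro z hz
    have key : ∀ v : V, ∃ c, Cls B Δ s c (rest B s v) := by
      intro v
      have hv : v ∈ Submodule.span (ZMod 2) Δ := h.span ▸ Submodule.mem_top
      induction hv using Submodule.span_induction with
      | mem x hx => exact hcl x hx
      | zero =>
        have : rest B s (0 : V) = 0 := by
          have := rest_add (B := B) (s := s) (0 : V) 0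
          rw [add_zero, ZModModule.add_self] at this
          exact this
        rw [this]
        exact ⟨1, cls_zero h hs⟩
      | add x y _ _ hx hy =>
        obtain ⟨c, hc⟩ := hx
        obtain ⟨d, hd⟩ := hy
        exact ⟨_, rest_add (B := B) (s := s) x y ▸ cls_add h hs hc hd⟩
      | smul a x _ hx =>
        rcases zm a with rfl | rfl
        · rw [zero_smul]
          have : rest B s (0 : V) = 0 := by
            have := rest_add (B := B) (s := s) (0 : V) 0
            rw [add_zero, ZModModule.add_self] at this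
            exact this
          rw [this]
          exact ⟨1, cls_zero h hs⟩
        · rw [one_smul]; exact hx
    obtain ⟨c, hc⟩ := key z
    have : rest B s z = z := by
      have e := co_eq hs hz 0
      rw [map_zero, zero_add] at e
      rw [rest, e, map_zero, zero_add]
    exact ⟨c, this ▸ hc⟩
  -- a partner inside the orthogonal space
  have hpartner : ∀ z, Perp B s z → z ≠ 0 → ∃ w, Perp B s w ∧ B z w = 1 := by
    intro z hz hz0
    by_contra hcon
    push Not at hcon
    refine hz0 (h.nondeg z fun v => ?_)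
    rw [← dec_eq (B := B) (s := s) v, map_add, perp_phi z hz, zero_add]
    exact (zm _).resolve_right (hcon _ (rest_perp hs v))
  by_cases hboth : ∃ z, Cls B Δ s 0 z ∧ Cls B Δ s 1 z
  · left
    obtain ⟨z, hz0, hz1⟩ := hboth
    have hall2 : ∀ w, Perp B s w → ∀ e, Cls B Δ s e w := by
      intro w hw e
      obtain ⟨d, hd⟩ := hall (w + z) (perp_add hw hz0.1)
      have a := cls_add h hs hd hz0
      have b := cls_add h hs hd hz1
      rw [add_assoc w, ZModModule.add_self z, add_zero w] at a b
      have hsel : ∀ e d β : ZMod 2, e = d + 0 + β ∨ e = d + 1 + β := by decide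
      rcases hsel e d (B (w + z) z + 1) with he | he
      · rw [he]; exact a
      · rw [he]; exact b
    refine Set.Subset.antisymm (fun v hv => h.ne_zero hv) fun v hv => ?_
    by_cases hx : co B s v = 0
    · have hvp : Perp B s v := by
        have := rest_perp hs v
        rwa [rest, hx, map_zero, zero_add] at this
      obtain ⟨w, hw, hvw⟩ := hpartner v hvp hv
      have := bare_of_cls h hs (hall2 w hw 1) (hall2 (v + w) (perp_add hvp hw) 1)
        (by rw [map_add, h.alt, add_zero, h.symm, hvw])
      rwa [← add_assoc, add_comm w, add_assoc, ZModModule.add_self, add_zero] at this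
    · have := (hall2 _ (rest_perp hs v) (q6 (co B s v))).2 _ hx rfl
      rwa [dec_eq] at this
  · right
    have huniq : ∀ z c d, Cls B Δ s c z → Cls B Δ s d z → c = d := by
      intro z c d hc hd
      rcases zm c with rfl | rfl <;> rcases zm d with rfl | rfl
      · rfl
      · exact absurd ⟨z, hc, hd⟩ hboth
      · exact absurd ⟨z, hd, hc⟩ hboth
      · rfl
    choose cf hcf using fun v => hall (rest B s v) (rest_perp hs v)
    refine ⟨fun v => q6 (co B s v) + cf v + 1, fun u v => ?_, ?_⟩
    · have e := huniq _ _ _ (hcf (u + v))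
        ((rest_add (B := B) (s := s) u v).symm ▸ cls_add h hs (hcf u) (hcf v))
      have hB := form_dec h hs (rest_perp hs u) (rest_perp hs v) (co B s u) (co B s v)
      rw [dec_eq, dec_eq] at hB
      show q6 (co B s (u + v)) + cf (u + v) + 1 = _
      rw [co_add, q6_add, e, hB]
      ring_nf
    · ext v
      show v ∈ Δ ↔ q6 (co B s v) + cf v + 1 = 1
      have hq : q6 (co B s v) + cf v + 1 = 1 ↔ q6 (co B s v) = cf v := by
        generalize q6 (co B s v) = a
        generalize cf v = b
        revert a b; decide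
      rw [hq]
      by_cases hx : co B s v = 0
      · have hr : rest B s v = v := by rw [rest, hx, map_zero, zero_add]
        have hvp : Perp B s v := by
          have := rest_perp hs v
          rwa [hr] at this
        have hc : Cls B Δ s (cf v) v := by
          have := hcf v
          rwa [hr] at this
        rw [hx, show q6 0 = 0 from rfl]
        constructor
        · intro hv
          obtain ⟨w, hw, hvw⟩ := hpartner v hvp (h.ne_zero hv)
          obtain ⟨d, hd⟩ := hall w hw
          have h1 := cls_add h hs (cls_of_bare h hs hvp hv hd hvw) hd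
          rw [add_assoc v, ZModModule.add_self w, add_zero, LinearMap.map_add₂, hvw, h.alt] at h1
          have := huniq _ _ _ hc h1
          rw [this]
          generalize d = d
          revert d; decide
        · intro hv
          have hv0 : v ≠ 0 := by
            rintro rfl
            have := huniq _ _ _ hc (cls_zero h hs)
            rw [this] at hv
            exact zero_ne_one hv
          obtain ⟨w, hw, hvw⟩ := hpartner v hvp hv0
          obtain ⟨d, hd⟩ := hall w hw
          have h1 := cls_add h hs hc hd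
          rw [← hv, hvw] at h1
          have h2 : Cls B Δ s d (v + w) := by
            have e : (0 : ZMod 2) + d + (1 + 1) = d :=
              (by decide : ∀ d : ZMod 2, (0 : ZMod 2) + d + (1 + 1) = d) d
            rwa [e] at h1
          have := bare_of_cls h hs hd h2 (by rw [map_add, h.alt, add_zero, h.symm, hvw])
          rwa [← add_assoc, add_comm w, add_assoc, ZModModule.add_self, add_zero] at this
      · constructor
        · intro hv
          exact huniq _ _ _ (cls_of_mem h hs (rest_perp hs v) hx (by rwa [dec_eq])) (hcf v)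
        · intro hv
          have := (hcf v).2 _ hx hv
          rwa [dec_eq] at this

end Cfsg.Agent.FischerSymplecticSplit88
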