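import Cfsg.Prelude.Def_FischerSpaces
import Cfsg.Agent.Lib.FischerSymplecticSpace88
import Cfsg.Agent.Lib.FischerSymplecticSplit88
import Cfsg.Agent.Lib.SymplecticAlt
import Cfsg.Agent.Lib.SymplecticTransv
import Cfsg.Agent.Lib.QuadFormF2
import Cfsg.Agent.Lib.OrthUnitaryForms
import Cfsg.Agent.Lib.OrthUnitaryStd
import Cfsg.Agent.Lib.OrthUnitaryTranspositions

/-!
Centre-free 3-transposition groups of symplectic type are symmetric, symplectic or orthogonal
groups over the field of two elements.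
-/

set_option autoImplicit false

namespace Cfsg.Agent.FischerSymplecticMain88

open FischerSymplecticFrame88 FischerSymplecticSpace88

universe u

variable {G : Type u} [Group G] [Finite G] {D : Set G}
variable {V : Type u} [AddCommGroup V] [Module (ZMod 2) V]
variable {B : V →ₗ[ZMod 2] V →ₗ[ZMod 2] ZMod 2} {r : G → V}

theorem dl_sum {k : ℕ} (f : Fin k → V) (i j : Fin k) (hij : i ≠ j) (p : Fin k) :
    f (Equiv.swap i j p) = f p + (dl p i + dl p j) • (f i + f j) := by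
  by_cases a : p = i
  · subst a
    simp [dl, hij, ← add_assoc, vadd_self]
  · by_cases b : p = j
    · subst b
      simp [dl, a, add_left_comm, vadd_self]
    · simp [dl, a, b, Equiv.swap_apply_of_ne_of_ne a b]

theorem sym_case (h : Sym D) (hinj : Set.InjOn r D)
    (hr : ∀ a ∈ D, ∀ b ∈ D, r (a * b * a⁻¹) = r b + B (r a) (r b) • r a) {k : ℕ} {f : Fin k → V}
    (hk : 3 ≤ k) (hf : Frame B (r '' D) k f) (hΔ : r '' D = pairSet f)
    (hfi : ∀ i j p q, i ≠ j → p ≠ q → f i + f j = f p + f q → (i = p ∧ j = q) ∨ (i = q ∧ j = p)) :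
    ∃ e : G ≃* Equiv.Perm (Fin k), e '' D = {σ : Equiv.Perm (Fin k) | σ.IsSwap} := by
  classical
  have hex : ∀ a ∈ D, ∃ σ : Equiv.Perm (Fin k), ∃ i j, i ≠ j ∧ σ = Equiv.swap i j ∧
      r a = f i + f j := by
    intro a ha
    obtain ⟨i, j, hij, e⟩ := (hΔ ▸ ⟨a, ha, rfl⟩ : r a ∈ pairSet f)
    exact ⟨_, i, j, hij, rfl, e⟩
  let θ : G → Equiv.Perm (Fin k) := fun g =>
    if hg : g ∈ D then Classical.choose (hex g hg) else 1
  have hθ : ∀ a ∈ D, ∀ i j, i ≠ j → r a = f i + f j → θ a = Equiv.swap i j := by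
    intro a ha i j hij e
    obtain ⟨p, q, hpq, e1, e2⟩ := Classical.choose_spec (hex a ha)
    show dite _ _ _ = _
    rw [dif_pos ha, e1]
    rcases hfi p q i j hpq hij (e2.symm.trans e) with ⟨rfl, rfl⟩ | ⟨rfl, rfl⟩
    · rfl
    · exact Equiv.swap_comm _ _
  have hcentre : Subgroup.center (Equiv.Perm (Fin k)) = ⊥ := by
    rw [eq_bot_iff]
    intro z hz
    rw [Subgroup.mem_bot]
    refine Equiv.ext fun i => ?_
    by_contra hzi
    obtain ⟨l, -, hl⟩ := Finset.exists_mem_notMem_of_card_lt_card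
      (s := ({i, z i} : Finset (Fin k))) (t := Finset.univ) (by
        have := Finset.card_le_two (a := i) (b := z i)
        simp
        omega)
    simp only [Finset.mem_insert, Finset.mem_singleton, not_or] at hl
    have h1 := Equiv.swap_apply_apply z i l
    rw [← Subgroup.mem_center_iff.1 hz (Equiv.swap i l), mul_inv_cancel_right] at h1
    have h2 := congrArg (fun s : Equiv.Perm (Fin k) => s (z i)) h1
    simp only [Equiv.swap_apply_left] at h2
    rw [Equiv.swap_apply_of_ne_of_ne (fun e => hzi (by simpa using e)) (Ne.symm hl.2)] at h2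
    exact hl.1 (z.injective h2)
  have hgen : Subgroup.closure {σ : Equiv.Perm (Fin k) | σ.IsSwap} = ⊤ :=
    Equiv.Perm.closure_isSwap
  refine exists_iso h.grp.2.1 h.grp.2.2 h.centre hgen hcentre θ ⟨?_, ?_, ?_⟩ ?_
  · intro a ha
    obtain ⟨σ, i, j, hij, -, e⟩ := hex a ha
    exact ⟨i, j, hij, hθ a ha i j hij e⟩
  · intro a ha b hb hab
    obtain ⟨-, i, j, hij, -, e⟩ := hex a ha
    obtain ⟨-, p, q, hpq, -, e'⟩ := hex b hb
    rw [hθ a ha i j hij e, hθ b hb p q hpq e'] at hab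
    refine hinj ha hb ?_
    rw [e, e']
    have h1 := congrArg (fun s : Equiv.Perm (Fin k) => s i) hab
    simp only [Equiv.swap_apply_left] at h1
    by_cases a1 : i = p
    · subst a1
      rw [Equiv.swap_apply_left] at h1
      rw [h1]
    · by_cases a2 : i = q
      · subst a2
        rw [Equiv.swap_apply_right] at h1
        rw [h1, add_comm]
      · rw [Equiv.swap_apply_of_ne_of_ne a1 a2] at h1
        exact absurd h1.symm hij
  · rintro σ ⟨i, j, hij, rfl⟩
    obtain ⟨a, ha, e⟩ := (hΔ.symm ▸ ⟨i, j, hij, rfl⟩ : f i + f j ∈ r '' D)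
    exact ⟨a, ha, hθ a ha i j hij e⟩
  · intro a ha b hb
    obtain ⟨-, i, j, hij, -, e⟩ := hex a ha
    obtain ⟨-, p, q, hpq, -, e'⟩ := hex b hb
    rw [hθ a ha i j hij e, hθ b hb p q hpq e', ← Equiv.swap_apply_apply]
    refine hθ _ (h.grp.2.1 a b hb) _ _ (fun e1 => hpq ((Equiv.swap i j).injective e1)) ?_
    rw [hr a ha b hb, e, e', hf.gram, dl_sum f i j hij, dl_sum f i j hij, dl_comm i p, dl_comm i q,
      dl_comm j p, dl_comm j q]
    rw [add_add_add_comm (f p), ← add_smul]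
    congr 2
    abel

theorem smul_std {m : ℕ} (e : Fin m ⊕ Fin m → V)
    (he : ∀ s t, B (e s) (e t) = Cfsg.sympForm m (ZMod 2) (Pi.single s 1) (Pi.single t 1))
    (x y : Fin m ⊕ Fin m → ZMod 2) :
    B (Fintype.linearCombination (ZMod 2) e x) (Fintype.linearCombination (ZMod 2) e y) =
      Cfsg.sympForm m (ZMod 2) x y := by
  simp only [Fintype.linearCombination_apply, map_sum, map_smul, LinearMap.sum_apply,
    LinearMap.smul_apply, he, Cfsg.sympForm]
  simp only [smul_eq_mul, dotProduct, Matrix.mulVec, Finset.mul_sum]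
  rw [Finset.sum_comm]
  exact Finset.sum_congr rfl fun _ _ => Finset.sum_congr rfl fun _ _ => by
    simp [Pi.single_apply]; ring

/-- A symplectic coordinate system. -/
theorem exists_coords [Finite V] {Δ : Set V} (h : Cot B Δ) :
    ∃ m, ∃ ψ : (Fin m ⊕ Fin m → ZMod 2) ≃ₗ[ZMod 2] V,
      ∀ x y, B (ψ x) (ψ y) = Cfsg.sympForm m (ZMod 2) x y := by
  have := Fintype.ofFinite V
  have : FiniteDimensional (ZMod 2) V := Module.Finite.of_finite
  obtain ⟨m, hm, e, -, he⟩ := SymplecticAlt.exists_symp_basis B h.alt _ ⊤ rfl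
    (fun u _ hu => h.nondeg u fun v => hu v Submodule.mem_top)
  let L := Fintype.linearCombination (ZMod 2) e
  have hinj : Function.Injective L := by
    intro x y exy
    rw [← sub_eq_zero]
    refine SymplecticBasic.form_nondeg fun v => ?_
    rw [SymplecticBasic.form_sub_left, ← smul_std e he, ← smul_std e he]
    show B (L x) (L v) - B (L y) (L v) = 0
    rw [exy, sub_self]
  have hdim : Module.finrank (ZMod 2) (Fin m ⊕ Fin m → ZMod 2) = Module.finrank (ZMod 2) V := by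
    rw [← finrank_top (ZMod 2) V, hm, Module.finrank_fintype_fun_eq_card]
    simp [two_mul]
  exact ⟨m, LinearEquiv.ofBijective L
    ⟨hinj, (LinearMap.injective_iff_surjective_of_finrank_eq_finrank hdim).1 hinj⟩,
    fun x y => smul_std e he x y⟩

theorem center_symplectic (m : ℕ) :
    Subgroup.center (Matrix.symplecticGroup (Fin m) (ZMod 2)) = ⊥ := by
  rw [eq_bot_iff]
  intro z hz
  rw [Subgroup.mem_bot]
  refine SymplecticBasic.ext_smul fun x => ?_
  rw [one_smul]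
  by_cases hx : x = 0
  · subst hx; simp [SymplecticBasic.smul_def]
  have h1 := SymplecticBasic.transv_conj z x 1
  rw [(Subgroup.mem_center_iff.1 hz _).symm, mul_inv_cancel_right] at h1
  rcases SymplecticTransv.transv_eq_transv hx one_ne_zero h1.symm with h2 | h2
  · exact h2
  · rwa [ZModModule.neg_eq_self] at h2

theorem symplectic_case [Finite V] (h : Sym D) (hinj : Set.InjOn r D)
    (hr : ∀ a ∈ D, ∀ b ∈ D, r (a * b * a⁻¹) = r b + B (r a) (r b) • r a) (hC : Cot B (r '' D))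
    (hΔ : r '' D = {v | v ≠ 0}) (hcard : 2 ^ 6 ≤ Nat.card V) :
    ∃ m, 3 ≤ m ∧ ∃ e : G ≃* Matrix.symplecticGroup (Fin m) (ZMod 2),
      e '' D = {g : Matrix.symplecticGroup (Fin m) (ZMod 2) |
        ((g : Matrix (Fin m ⊕ Fin m) (Fin m ⊕ Fin m) (ZMod 2)) - 1).rank = 1} := by
  obtain ⟨m, ψ, hψ⟩ := exists_coords hC
  have hm : 3 ≤ m := by
    have h1 : Nat.card V = 2 ^ (2 * m) := by
      rw [← Nat.card_congr ψ.toEquiv, Nat.card_eq_fintype_card]
      simp [two_mul]
    rw [h1] at hcard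
    have := (Nat.pow_le_pow_iff_right (by norm_num)).1 hcard
    omega
  refine ⟨m, hm, ?_⟩
  set Tset := {g : Matrix.symplecticGroup (Fin m) (ZMod 2) |
    ((g : Matrix (Fin m ⊕ Fin m) (Fin m ⊕ Fin m) (ZMod 2)) - 1).rank = 1} with hT
  have hmem : ∀ g, g ∈ Tset ↔ ∃ v, v ≠ 0 ∧ g = SymplecticBasic.transv v 1 := by
    intro g
    constructor
    · intro hg
      obtain ⟨v, c, hv, hc, rfl⟩ := SymplecticTransv.exists_transv_of_rank hg
      exact ⟨v, hv, by rw [(zm c).resolve_left hc]⟩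
    · rintro ⟨v, hv, rfl⟩
      exact SymplecticTransv.rank_transv_sub_one hv one_ne_zero
  let θ : G → Matrix.symplecticGroup (Fin m) (ZMod 2) := fun g =>
    SymplecticBasic.transv (ψ.symm (r g)) 1
  have hne : ∀ a ∈ D, ψ.symm (r a) ≠ 0 := fun a ha e =>
    hC.ne_zero ⟨a, ha, rfl⟩ (by simpa using congrArg ψ e)
  have hgen : Subgroup.closure Tset = ⊤ := by
    refine SymplecticBasic.eq_top_of_transv fun v c => ?_
    rcases zm c with rfl | rfl
    · rw [SymplecticBasic.transv_zero]; exact one_mem _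
    by_cases hv : v = 0
    · rw [hv, SymplecticBasic.transv_vec_zero]; exact one_mem _
    exact Subgroup.subset_closure ((hmem _).2 ⟨v, hv, rfl⟩)
  refine exists_iso h.grp.2.1 h.grp.2.2 h.centre hgen (center_symplectic m) θ ⟨?_, ?_, ?_⟩ ?_
  · exact fun a ha => (hmem _).2 ⟨_, hne a ha, rfl⟩
  · intro a ha b hb e
    rcases SymplecticTransv.transv_eq_transv (hne b hb) one_ne_zero e with h1 | h1
    · exact hinj ha hb (ψ.symm.injective h1)
    · rw [ZModModule.neg_eq_self] at h1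
      exact hinj ha hb (ψ.symm.injective h1)
  · intro g hg
    obtain ⟨v, hv, rfl⟩ := (hmem g).1 hg
    have : ψ v ∈ r '' D := hΔ.symm ▸ (fun e => hv (by simpa using congrArg ψ.symm e))
    obtain ⟨a, ha, e⟩ := this
    exact ⟨a, ha, by show SymplecticBasic.transv (ψ.symm (r a)) 1 = _; rw [e]; simp⟩
  · intro a ha b hb
    show SymplecticBasic.transv _ 1 = SymplecticBasic.transv _ 1 * _ * _
    rw [SymplecticBasic.transv_conj, SymplecticBasic.transv_smul, one_mul]
    congr 1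
    rw [hr a ha b hb, map_add, map_smul, ← hψ, ψ.apply_symm_apply, ψ.apply_symm_apply,
      hC.symm]

/-- Transport to an orthogonal group. -/
theorem orth_iso [Finite V] {ι : Type} [Fintype ι] [DecidableEq ι] (h : Sym D)
    (hinj : Set.InjOn r D)
    (hr : ∀ a ∈ D, ∀ b ∈ D, r (a * b * a⁻¹) = r b + B (r a) (r b) • r a) (hC : Cot B (r '' D))
    (Qv : V → ZMod 2) (hQ : ∀ u v, Qv (u + v) = Qv u + Qv v + B u v)
    (hΔ : r '' D = {v | Qv v = 1}) (hcard : 2 ^ 6 ≤ Nat.card V) (f : (ι → ZMod 2) → ZMod 2)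
    (P : QuadraticForm (ZMod 2) (ι → ZMod 2)) (hf : ∀ v, f v = P v)
    (φ : V ≃ₗ[ZMod 2] (ι → ZMod 2)) (hφ : ∀ v, f (φ v) = Qv v) :
    ∃ e : G ≃* ↥(Cfsg.isometryGroup (ZMod 2) f),
      e '' D = {g : ↥(Cfsg.isometryGroup (ZMod 2) f) |
        (((g : Matrix.GeneralLinearGroup ι (ZMod 2)) : Matrix ι ι (ZMod 2)) - 1).rank = 1} := by
  obtain rfl : f = ⇑P := funext hf
  open OrthUnitaryPrelude OrthUnitaryQuad OrthUnitaryRefl OrthUnitaryTranspositions in
  have hpol : ∀ u v, QuadraticMap.polar P (φ u) (φ v) = B u v := by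
    intro u v
    rw [QuadraticMap.polar, ← map_add, hφ, hφ, hφ, hQ]
    ring
  have hnd : (QuadraticMap.polarBilin P).Nondegenerate := by
    refine OrthUnitaryStd.nondegenerate_iff_left P fun x hx => ?_
    have : φ.symm x = 0 := hC.nondeg _ fun v => by
      rw [← hpol, φ.apply_symm_apply]; exact hx _
    simpa using congrArg φ this
  have hdim : 6 ≤ Module.finrank (ZMod 2) (ι → ZMod 2) := by
    have h1 : Nat.card V = 2 ^ Module.finrank (ZMod 2) (ι → ZMod 2) := by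
      rw [Nat.card_congr φ.toEquiv, Nat.card_eq_fintype_card, Module.finrank_fintype_fun_eq_card]
      simp
    rw [h1] at hcard
    exact (Nat.pow_le_pow_iff_right (by norm_num)).1 hcard
  have hclass := isThreeTranspositionClass (⇑P) (fun _ => rfl) hnd (by omega) (by omega)
  have hmem := rank_one_iff hnd
  classical
  let θ : G → ↥(Cfsg.isometryGroup (ZMod 2) ⇑P) := fun g =>
    if hg : P (φ (r g)) ≠ 0 then (iso P).symm (refl P (φ (r g)) hg) else 1
  have hne : ∀ a ∈ D, P (φ (r a)) ≠ 0 := by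
    intro a ha
    have : r a ∈ {v | Qv v = 1} := hΔ ▸ ⟨a, ha, rfl⟩
    rw [hφ, this]
    exact one_ne_zero
  have hθ : ∀ a (ha : a ∈ D), iso P (θ a) = refl P (φ (r a)) (hne a ha) := by
    intro a ha
    show iso P (dite _ _ _) = _
    rw [dif_pos (hne a ha), MulEquiv.apply_symm_apply]
  have hrefl : ∀ u v (hu : P u ≠ 0) (hv : P v ≠ 0), refl P u hu = refl P v hv → u = v := by
    intro u v hu hv e
    have hu0 : u ≠ 0 := fun e0 => hu (by rw [e0, QuadraticMap.map_zero])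
    obtain ⟨x, hx⟩ : ∃ x, QuadraticMap.polar P u x ≠ 0 := by
      by_contra hc
      push Not at hc
      exact hu0 (hnd.1 u hc)
    have h1 := congrArg (fun t : orth P => t.1 x) e
    simp only [refl_apply_two, add_right_inj, (zm _).resolve_left hx, one_smul] at h1
    rcases zm (QuadraticMap.polar P v x) with h2 | h2 <;> rw [h2] at h1
    · rw [zero_smul] at h1; exact absurd h1 hu0
    · rwa [one_smul] at h1
  have hZ : Subgroup.center ↥(Cfsg.isometryGroup (ZMod 2) ⇑P) = ⊥ := by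
    rw [eq_bot_iff]
    intro z hz
    rw [Subgroup.mem_bot]
    apply (iso P).injective
    rw [map_one]
    refine orth_ext fun x => ?_
    show (iso P z).1 x = x
    have hfix : ∀ v : V, (iso P z).1 (φ v) = φ v := by
      intro v
      have hv : v ∈ Submodule.span (ZMod 2) (r '' D) := hC.span ▸ Submodule.mem_top
      induction hv using Submodule.span_induction with
      | mem y hy =>
        obtain ⟨a, ha, rfl⟩ := hy
        have h1 := conj_refl (iso P z) (φ (r a)) (hne a ha)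
        rw [← hθ a ha, ← map_inv, ← map_mul, ← map_mul,
          ← Subgroup.mem_center_iff.1 hz (θ a), mul_inv_cancel_right, hθ a ha] at h1
        exact (hrefl _ _ _ _ h1).symm
      | zero => simp
      | add y y' _ _ h1 h2 => simp [h1, h2]
      | smul c y _ h1 => simp [h1]
    simpa using hfix (φ.symm x)
  refine exists_iso h.grp.2.1 h.grp.2.2 h.centre hclass.2.2 hZ θ ⟨?_, ?_, ?_⟩ ?_
  · exact fun a ha => (hmem _).2 ⟨_, _, hθ a ha⟩
  · intro a ha b hb e
    have h1 := congrArg (iso P) e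
    rw [hθ a ha, hθ b hb] at h1
    exact hinj ha hb (φ.injective (hrefl _ _ _ _ h1))
  · intro g hg
    obtain ⟨v, hv, e⟩ := (hmem g).1 hg
    have hΔv : φ.symm v ∈ r '' D := by
      rw [hΔ]
      show Qv (φ.symm v) = 1
      rw [← hφ, φ.apply_symm_apply]
      exact (zm _).resolve_left hv
    obtain ⟨a, ha, ea⟩ := hΔv
    refine ⟨a, ha, (iso P).injective ?_⟩
    rw [hθ a ha, e]
    exact refl_congr _ _ (by rw [ea, φ.apply_symm_apply])
  · intro a ha b hb
    apply (iso P).injective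
    rw [map_mul, map_mul, map_inv, hθ _ (h.grp.2.1 a b hb), hθ a ha, hθ b hb, conj_refl]
    refine refl_congr _ _ ?_
    rw [refl_apply_two, hpol, hr a ha b hb, map_add, map_smul]

open QuadFormF2 in
/-- The classification. -/
theorem main (h : Sym D) :
    (∃ n : ℕ, 3 ≤ n ∧ ∃ e : G ≃* Equiv.Perm (Fin n), e '' D = {σ : Equiv.Perm (Fin n) | σ.IsSwap}) ∨
    (∃ m : ℕ, 3 ≤ m ∧ ∃ e : G ≃* Matrix.symplecticGroup (Fin m) (ZMod 2),
      e '' D = {g : Matrix.symplecticGroup (Fin m) (ZMod 2) |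
        ((g : Matrix (Fin m ⊕ Fin m) (Fin m ⊕ Fin m) (ZMod 2)) - 1).rank = 1}) ∨
    ((∃ m : ℕ, 3 ≤ m ∧ ∃ e : G ≃* ↥(Cfsg.isometryGroup (ZMod 2) (Cfsg.quadFormPlus m (ZMod 2))),
      e '' D = {g : ↥(Cfsg.isometryGroup (ZMod 2) (Cfsg.quadFormPlus m (ZMod 2))) |
        (((g : GL (Fin m ⊕ Fin m) (ZMod 2)) : Matrix (Fin m ⊕ Fin m) (Fin m ⊕ Fin m) (ZMod 2)) - 1).rank = 1}) ∨
    (∃ m : ℕ, 2 ≤ m ∧ ∃ e : G ≃* ↥(Cfsg.isometryGroup (ZMod 2) (Cfsg.quadFormMinus m (ZMod 2) 1 1)),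
      e '' D = {g : ↥(Cfsg.isometryGroup (ZMod 2) (Cfsg.quadFormMinus m (ZMod 2) 1 1)) |
        (((g : GL ((Fin m ⊕ Fin m) ⊕ Fin 2) (ZMod 2)) :
          Matrix ((Fin m ⊕ Fin m) ⊕ Fin 2) ((Fin m ⊕ Fin m) ⊕ Fin 2) (ZMod 2)) - 1).rank = 1})) := by
  obtain ⟨W, iA, iM, iF, B, r, hC, hinj, hr⟩ := exists_space h
  rcases dichotomy hC (h.nonempty.image r) with ⟨k, f, hk, hf, hΔ, hfi⟩ | ⟨s, hs⟩
  · exact Or.inl ⟨k, hk, sym_case h hinj hr hk hf hΔ hfi⟩
  have hcard : 2 ^ 6 ≤ Nat.card W := by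
    have := Nat.card_le_card_of_injective _ (FischerSymplecticSplit88.phi_injective hs)
    rw [Nat.card_eq_fintype_card] at this
    simpa using this
  rcases FischerSymplecticSplit88.main hC hs with hΔ | ⟨Qv, hQ, hΔ⟩
  · exact Or.inr (Or.inl (symplectic_case h hinj hr hC hΔ hcard))
  refine Or.inr (Or.inr ?_)
  obtain ⟨m, ψ, hψ⟩ := exists_coords hC
  have hm : 3 ≤ m := by
    have h1 : Nat.card W = 2 ^ (2 * m) := by
      rw [← Nat.card_congr ψ.toEquiv, Nat.card_eq_fintype_card]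
      simp [two_mul]
    rw [h1] at hcard
    have := (Nat.pow_le_pow_iff_right (by norm_num)).1 hcard
    omega
  have hff : ∀ x y : QuadFormF2.V m, Cfsg.sympForm m (ZMod 2) x y = QuadFormF2.f x y := by
    intro x y
    rw [SymplecticBasic.form_eq_sum, QuadFormF2.f]
    exact Finset.sum_congr rfl fun i _ => by simp [CharTwo.sub_eq_add, CharTwo.neg_eq, add_comm]
  obtain ⟨w, hw⟩ := exists_qw (fun x : QuadFormF2.V m => Qv (ψ x)) fun x y => by
    show Qv (ψ (x + y)) = _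
    rw [map_add, hQ, hψ, hff]
  have hw' : ∀ x, Qv (ψ x) = qw w x := fun x => congrFun hw x
  rcases FischerSymplecticFrame88.zm (QuadFormF2.Q w) with hw0 | hw1
  · left
    obtain ⟨g, hg⟩ := exists_plus_equiv w hw0
    exact ⟨m, hm, orth_iso h hinj hr hC Qv hQ hΔ hcard (Cfsg.quadFormPlus m (ZMod 2)) _
      (OrthUnitaryStd.comp_symm_apply _ _ (OrthUnitaryForms.eqPlus m) (OrthUnitaryForms.eqPlus_isometry m))
      (ψ.symm.trans g) (fun v => (hg (ψ.symm v)).symm.trans ((hw' _).symm.trans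
        (by rw [ψ.apply_symm_apply])))⟩
  · right
    obtain ⟨k, rfl⟩ : ∃ k, m = k + 1 := ⟨m - 1, by omega⟩
    obtain ⟨g, hg⟩ := exists_minus_equiv w hw1
    refine ⟨k, by omega, orth_iso h hinj hr hC Qv hQ hΔ hcard
      (Cfsg.quadFormMinus k (ZMod 2) (1 : ZMod 2) 1) _
      (OrthUnitaryStd.comp_symm_apply _ (Cfsg.quadFormMinus k (ZMod 2) (1 : ZMod 2) 1)
        (OrthUnitaryForms.eqMinus k)
        (OrthUnitaryForms.eqMinus_isometry (F := ZMod 2) k 1 1))
      (ψ.symm.trans g) (fun v => (hg (ψ.symm v)).symm.trans ((hw' _).symm.trans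
        (by rw [ψ.apply_symm_apply])))⟩

/-- The hypotheses for a primitive class without affine planes. -/
theorem sym_of_primitive (hD : Cfsg.IsThreeTranspositionGroup D)
    (hprim : Cfsg.IsPrimitiveUnderConj D) (hZ : Subgroup.center G = ⊥)
    (hplanes : ∀ a ∈ D, ∀ b ∈ D, ∀ w ∈ D, ¬ Commute a b →
      Commute w a ∨ Commute w b ∨ Commute w (a * b * a⁻¹)) : Sym D :=
  ⟨hD, hZ, let ⟨a, ha, _⟩ := hprim.2.1; ⟨a, ha⟩, hprim.1, red_of_primitive hD hprim hZ, hplanes⟩

/-- The classification for primitive classes without affine planes. -/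
theorem main_of_primitive (hD : Cfsg.IsThreeTranspositionGroup D)
    (hprim : Cfsg.IsPrimitiveUnderConj D) (hZ : Subgroup.center G = ⊥)
    (hplanes : ∀ a ∈ D, ∀ b ∈ D, ∀ w ∈ D, ¬ Commute a b →
      Commute w a ∨ Commute w b ∨ Commute w (a * b * a⁻¹)) :
    (∃ n : ℕ, 3 ≤ n ∧ ∃ e : G ≃* Equiv.Perm (Fin n), e '' D = {σ : Equiv.Perm (Fin n) | σ.IsSwap}) ∨
    (∃ m : ℕ, 3 ≤ m ∧ ∃ e : G ≃* Matrix.symplecticGroup (Fin m) (ZMod 2),
      e '' D = {g : Matrix.symplecticGroup (Fin m) (ZMod 2) |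
        ((g : Matrix (Fin m ⊕ Fin m) (Fin m ⊕ Fin m) (ZMod 2)) - 1).rank = 1}) ∨
    ((∃ m : ℕ, 3 ≤ m ∧ ∃ e : G ≃* ↥(Cfsg.isometryGroup (ZMod 2) (Cfsg.quadFormPlus m (ZMod 2))),
      e '' D = {g : ↥(Cfsg.isometryGroup (ZMod 2) (Cfsg.quadFormPlus m (ZMod 2))) |
        (((g : GL (Fin m ⊕ Fin m) (ZMod 2)) : Matrix (Fin m ⊕ Fin m) (Fin m ⊕ Fin m) (ZMod 2)) - 1).rank = 1}) ∨
    (∃ m : ℕ, 2 ≤ m ∧ ∃ e : G ≃* ↥(Cfsg.isometryGroup (ZMod 2) (Cfsg.quadFormMinus m (ZMod 2) 1 1)),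
      e '' D = {g : ↥(Cfsg.isometryGroup (ZMod 2) (Cfsg.quadFormMinus m (ZMod 2) 1 1)) |
        (((g : GL ((Fin m ⊕ Fin m) ⊕ Fin 2) (ZMod 2)) :
          Matrix ((Fin m ⊕ Fin m) ⊕ Fin 2) ((Fin m ⊕ Fin m) ⊕ Fin 2) (ZMod 2)) - 1).rank = 1})) :=
  main (sym_of_primitive hD hprim hZ hplanes)

end Cfsg.Agent.FischerSymplecticMain88
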