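import Cfsg.Prelude.Def_FischerSpaces
import Cfsg.Agent.Lib.FischerLocalConn6
import Cfsg.Agent.Lib.FischerM23Step95
import Cfsg.Agent.S1615

/-!
# The induction for Fischer's theorem

Strong induction on the order: a primitive 3-transposition group with trivial centre and a
commuting pair is of one of the listed families, provided the single steps (`Steps`) hold.
-/

set_option autoImplicit false
set_option linter.unusedSectionVars false
set_option linter.style.haveILetI false

namespace Cfsg.Agent.FischerTheorem6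

open Subgroup Cfsg.Agent.ThreeTransDescent Cfsg.Agent.FischerGlue6
open Cfsg.Agent.ThreeTransRel (TSys tsys_of_group)

universe u

section Families

variable (G : Type u) [Group G] (D : Set G)

/-- Symmetric group with the transpositions, degree at least `k`. -/
def SymN (k : ℕ) : Prop :=
  ∃ n : ℕ, k ≤ n ∧ ∃ e : G ≃* Equiv.Perm (Fin n), e '' D = {σ : Equiv.Perm (Fin n) | σ.IsSwap}

/-- Symplectic group with the transvections. -/
def SpN (k : ℕ) : Prop :=
  ∃ m : ℕ, k ≤ m ∧ ∃ e : G ≃* Matrix.symplecticGroup (Fin m) (ZMod 2),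
    e '' D = {g : Matrix.symplecticGroup (Fin m) (ZMod 2) |
      ((g : Matrix (Fin m ⊕ Fin m) (Fin m ⊕ Fin m) (ZMod 2)) - 1).rank = 1}

/-- Orthogonal group over the field with two elements with the transvections. -/
def OrthTwo : Prop :=
  (∃ m : ℕ, 3 ≤ m ∧ ∃ e : G ≃* ↥(Cfsg.isometryGroup (ZMod 2) (Cfsg.quadFormPlus m (ZMod 2))),
      e '' D = {g : ↥(Cfsg.isometryGroup (ZMod 2) (Cfsg.quadFormPlus m (ZMod 2))) |
        (((g : GL (Fin m ⊕ Fin m) (ZMod 2)) : Matrix (Fin m ⊕ Fin m) (Fin m ⊕ Fin m) (ZMod 2)) - 1).rank = 1}) ∨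
    (∃ m : ℕ, 2 ≤ m ∧ ∃ e : G ≃* ↥(Cfsg.isometryGroup (ZMod 2) (Cfsg.quadFormMinus m (ZMod 2) 1 1)),
      e '' D = {g : ↥(Cfsg.isometryGroup (ZMod 2) (Cfsg.quadFormMinus m (ZMod 2) 1 1)) |
        (((g : GL ((Fin m ⊕ Fin m) ⊕ Fin 2) (ZMod 2)) :
          Matrix ((Fin m ⊕ Fin m) ⊕ Fin 2) ((Fin m ⊕ Fin m) ⊕ Fin 2) (ZMod 2)) - 1).rank = 1})

/-- Projective reflection group over the field with three elements. -/
def OrthThree (k : ℕ) : Prop :=
  ∃ n : ℕ, k ≤ n ∧ ∃ Q : QuadraticForm (ZMod 3) (Fin n → ZMod 3),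
    (QuadraticMap.polarBilin Q).Nondegenerate ∧ ∃ c : ZMod 3, c ≠ 0 ∧
      ∃ e : G ≃* ↥(Cfsg.reflectionSubgroup (⇑Q) c) ⧸ Subgroup.center ↥(Cfsg.reflectionSubgroup (⇑Q) c),
        e '' D = (QuotientGroup.mk : ↥(Cfsg.reflectionSubgroup (⇑Q) c) → _) ''
          {g : ↥(Cfsg.reflectionSubgroup (⇑Q) c) |
            (g : ↥(Cfsg.isometryGroup (ZMod 3) (⇑Q))) ∈ Cfsg.reflectionsOfNorm (⇑Q) c}

/-- Projective unitary group with the transvections. -/
def UnitN (k : ℕ) : Prop :=
  ∃ (n : ℕ) (F : Type) (_ : Field F) (_ : Fintype F), k ≤ n ∧ Fintype.card F = 4 ∧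
    ∃ e : G ≃* Cfsg.PSU n F 2, e '' D = (QuotientGroup.mk : ↥(Cfsg.SU n F 2) → Cfsg.PSU n F 2) ''
      {g : ↥(Cfsg.SU n F 2) | (((g : Matrix.SpecialLinearGroup (Fin n) F) : Matrix (Fin n) (Fin n) F) - 1).rank = 1}

/-- The conclusion of the theorem for central local cores. -/
def Target : Prop :=
  SymN G D 7 ∨ OrthTwo G D ∨ OrthThree G D 5 ∨
    (Cfsg.IsOfTypeM22 G D ∨ Cfsg.IsOfTypeM23 G D ∨ Cfsg.IsOfTypeM24 G D)

/-- The families of plane-free type. -/
def SympType : Prop := SymN G D 5 ∨ SpN G D 2 ∨ OrthTwo G D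

/-- All the primitive families. -/
def Class : Prop :=
  SympType G D ∨ UnitN G D 4 ∨ OrthThree G D 5 ∨
    (Cfsg.IsOfTypeM22 G D ∨ Cfsg.IsOfTypeM23 G D ∨ Cfsg.IsOfTypeM24 G D)

variable {G D}

theorem Target.toClass (h : Target G D) : Class G D := by
  rcases h with ⟨n, hn, h⟩ | h | h | h
  · exact Or.inl (Or.inl ⟨n, by omega, h⟩)
  · exact Or.inl (Or.inr (Or.inr h))
  · exact Or.inr (Or.inr (Or.inl h))
  · exact Or.inr (Or.inr (Or.inr h))

end Families

/-- The standing hypotheses. -/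
structure Ctx (G : Type u) [Group G] (D : Set G) : Prop where
  grp : Cfsg.IsThreeTranspositionGroup D
  prim : Cfsg.IsPrimitiveUnderConj D
  cen : Subgroup.center G = ⊥

/-- A member with central local cores. -/
structure Central (G : Type u) [Group G] (D : Set G) (d : G) : Prop extends Ctx G D where
  mem : d ∈ D
  wide : (near D d).Nonempty
  core3 : Cfsg.pCore 3 ↥(loc D d) ≤ Subgroup.center ↥(loc D d)
  core2 : Cfsg.pCore 2 ↥(loc D d) ≤ Subgroup.center ↥(loc D d)

/-- The single steps of the induction. -/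
structure Steps : Prop where
  symp : ∀ (G : Type u) [Group G] [Finite G] (D : Set G) (d : G), Central G D d →
    SympType (↥(loc D d) ⧸ Subgroup.center ↥(loc D d)) (imgSet D d) → Target G D
  unit : ∀ (G : Type u) [Group G] [Finite G] (D : Set G) (d : G), Central G D d →
    UnitN (↥(loc D d) ⧸ Subgroup.center ↥(loc D d)) (imgSet D d) 4 → Target G D
  orth : ∀ (G : Type u) [Group G] [Finite G] (D : Set G) (d : G), Central G D d →
    OrthThree (↥(loc D d) ⧸ Subgroup.center ↥(loc D d)) (imgSet D d) 5 → Target G D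
  m23 : ∀ (G : Type u) [Group G] [Finite G] (D : Set G) (d : G), Central G D d →
    Cfsg.IsOfTypeM23 (↥(loc D d) ⧸ Subgroup.center ↥(loc D d)) (imgSet D d) →
      Cfsg.IsOfTypeM24 G D
  m24 : ∀ (G : Type u) [Group G] [Finite G] (D : Set G) (d : G), Central G D d →
    ¬ Cfsg.IsOfTypeM24 (↥(loc D d) ⧸ Subgroup.center ↥(loc D d)) (imgSet D d)
  degen : ∀ (G : Type u) [Group G] [Finite G] (D : Set G) (d : G), Ctx G D → d ∈ D →
    (near D d).Nonempty → ¬ Cfsg.pCore 2 ↥(loc D d) ≤ Subgroup.center ↥(loc D d) →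
      Class G D

/-- A class of involutions generating `S₅` with product orders at most three is the class of transpositions. -/
theorem image_swaps {G : Type u} [Group G] {D : Set G} (hD : Cfsg.IsThreeTranspositionClass D)
    (e : G ≃* Equiv.Perm (Fin 5)) : e '' D = {σ : Equiv.Perm (Fin 5) | σ.IsSwap} := by
  have hkey : ∀ σ : Equiv.Perm (Fin 5), σ * σ = 1 → Equiv.Perm.sign σ = -1 →
      ∃ a b : Fin 5, a ≠ b ∧ σ = Equiv.swap a b := by decide +kernel
  obtain ⟨hset, ⟨a, ha, hcl⟩, hgen⟩ := hD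
  have hodd : Equiv.Perm.sign (e a) = -1 := by
    refine (Int.units_eq_one_or _).resolve_left fun h1 => ?_
    have hle : Subgroup.closure D ≤ ((Equiv.Perm.sign).comp e.toMonoidHom).ker :=
      (closure_le _).mpr fun x hx => by
        rw [hcl] at hx
        obtain ⟨g, rfl⟩ := isConj_iff.mp hx
        rw [SetLike.mem_coe, MonoidHom.mem_ker, MonoidHom.comp_apply, MulEquiv.coe_toMonoidHom,
          map_mul, map_mul, map_inv, map_mul, map_mul, map_inv, h1, mul_one, mul_inv_cancel]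
    rw [hgen] at hle
    have := hle (mem_top (e.symm (Equiv.swap (0 : Fin 5) 1)))
    rw [MonoidHom.mem_ker, MonoidHom.comp_apply, MulEquiv.coe_toMonoidHom, e.apply_symm_apply,
      Equiv.Perm.sign_swap (by decide)] at this
    exact absurd this (by decide)
  have hsw : (e a).IsSwap := by
    refine hkey _ ?_ hodd
    have h2 := hset.1 a ha
    rw [← map_mul, ← pow_two, ← h2, pow_orderOf_eq_one, map_one]
  ext σ
  constructor
  · rintro ⟨x, hx, rfl⟩
    rw [hcl] at hx
    obtain ⟨g, rfl⟩ := isConj_iff.mp hx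
    obtain ⟨p, q, hpq, he⟩ := hsw
    refine ⟨e g p, e g q, fun h => hpq ((e g).injective h), ?_⟩
    rw [map_mul, map_mul, map_inv, he, Equiv.swap_apply_apply]
  · rintro ⟨p, q, hpq, rfl⟩
    obtain ⟨r, s, hrs, he⟩ := hsw
    obtain ⟨g, hg⟩ := isConj_iff.mp (Equiv.Perm.isConj_swap hrs hpq)
    refine ⟨e.symm g * a * (e.symm g)⁻¹, ?_, ?_⟩
    · rw [hcl]; exact isConj_iff.mpr ⟨_, rfl⟩
    · rw [map_mul, map_mul, map_inv, e.apply_symm_apply, he, hg]

/-- A non-central local 3-core gives `S₅`. -/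
theorem sym_five {G : Type u} [Group G] [Finite G] {D : Set G} (c : Ctx G D) {d : G} (hd : d ∈ D)
    (hw : (near D d).Nonempty)
    (h3 : ¬ Cfsg.pCore 3 ↥(loc D d) ≤ Subgroup.center ↥(loc D d)) : SymN G D 5 := by
  obtain ⟨p, hp, hpd, hc⟩ := hw
  obtain ⟨hsol, -, hperf⟩ := class_hyps c.grp c.prim c.cen ⟨d, hd, p, hp, hpd.symm, hc⟩
  have hcls := isClass c.grp c.prim
  haveI : Fact (Nat.Prime 3) := ⟨Nat.prime_three⟩
  obtain ⟨k, hk⟩ := IsPGroup.iff_card.mp (HallCore.isPGroup_pCore 3 ↥(loc D d))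
  obtain ⟨e⟩ := S1615.result hsol hperf hcls d hd fun hle => h3 (le_trans
    (HallCore.le_pPrimeCore (hN := HallCore.pCore_normal 3 _)
      (by rw [hk]; exact Nat.Coprime.pow_left k (by norm_num))) hle)
  exact ⟨5, le_rfl, e, image_swaps hcls e⟩

/-- The local quotient in the induction. -/
theorem Central.descend {G : Type u} [Group G] [Finite G] {D : Set G} {d : G} (c : Central G D d) :
    Ctx (↥(loc D d) ⧸ Subgroup.center ↥(loc D d)) (imgSet D d) ∧
      (∃ x ∈ imgSet D d, (near (imgSet D d) x).Nonempty) ∧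
      Nat.card (↥(loc D d) ⧸ Subgroup.center ↥(loc D d)) < Nat.card G := by
  obtain ⟨hg, -, hz, -, -, -⟩ := local_hyps c.grp c.prim c.cen c.mem c.wide c.core3 c.core2
  obtain ⟨-, hp, x, hx, y, hy, hne, hxy⟩ :=
    FischerLocalConn6.local_primitive c.grp c.prim c.cen c.mem c.wide c.core3 c.core2
  refine ⟨⟨hg, hp, hz⟩, ⟨x, hx, y, hy, hne.symm, hxy⟩, lt_of_le_of_lt
    (Nat.card_le_card_of_surjective _ QuotientGroup.mk_surjective) ?_⟩
  refine lt_of_le_of_ne (Subgroup.card_le_card_group _) fun e => ?_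
  have htop := Subgroup.eq_top_of_card_eq _ e
  have hcen : d ∈ Subgroup.center G := mem_center_iff.mpr fun g =>
    (commute_d_of_mem_loc (htop.symm ▸ mem_top g : g ∈ loc D d)).symm.eq
  rw [c.cen, mem_bot] at hcen
  have := c.grp.1.1 d c.mem
  rw [hcen, orderOf_one] at this
  exact absurd this (by norm_num)

/-- The step from the class of the local quotient. -/
theorem target_of_local (S : Steps.{u}) {G : Type u} [Group G] [Finite G] {D : Set G} {d : G}
    (c : Central G D d)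
    (h : Class (↥(loc D d) ⧸ Subgroup.center ↥(loc D d)) (imgSet D d)) : Target G D := by
  rcases h with h | h | h | h | h | h
  · exact S.symp G D d c h
  · exact S.unit G D d c h
  · exact S.orth G D d c h
  · exact Or.inr (Or.inr (Or.inr (Or.inr (Or.inl
      (FischerM23Step95.isOfTypeM23_of_cores (tsys_of_group c.grp) c.prim c.mem h c.cen c.core3
        c.core2)))))
  · exact Or.inr (Or.inr (Or.inr (Or.inr (Or.inr (S.m23 G D d c h)))))
  · exact absurd h (S.m24 G D d c)

/-- All primitive groups with trivial centre and a commuting pair. -/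
theorem classify (S : Steps.{u}) : ∀ (n : ℕ) (G : Type u) [Group G] [Finite G] (D : Set G),
    Nat.card G = n → Ctx G D → ∀ d ∈ D, (near D d).Nonempty → Class G D := by
  intro n
  induction n using Nat.strong_induction_on with
  | h n ih =>
    intro G _ _ D hn c d hd hw
    by_cases h2 : Cfsg.pCore 2 ↥(loc D d) ≤ Subgroup.center ↥(loc D d)
    swap
    · exact S.degen G D d c hd hw h2
    by_cases h3 : Cfsg.pCore 3 ↥(loc D d) ≤ Subgroup.center ↥(loc D d)
    swap
    · exact Or.inl (Or.inl (sym_five c hd hw h3))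
    have cc : Central G D d := ⟨c, hd, hw, h3, h2⟩
    obtain ⟨c', ⟨x, hx, hxw⟩, hlt⟩ := cc.descend
    exact (target_of_local S cc (ih _ (hn ▸ hlt) _ _ rfl c' x hx hxw)).toClass

/-- The theorem for central local cores. -/
theorem main (S : Steps.{u}) {G : Type u} [Group G] [Finite G] {D : Set G}
    (hD : Cfsg.IsThreeTranspositionGroup D) (hprim : Cfsg.IsPrimitiveUnderConj D)
    (hZ : Subgroup.center G = ⊥) {d : G} (hd : d ∈ D) (hw : ∃ b ∈ D, b ≠ d ∧ Commute d b)
    (h3 : Cfsg.pCore 3 ↥(loc D d) ≤ Subgroup.center ↥(loc D d))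
    (h2 : Cfsg.pCore 2 ↥(loc D d) ≤ Subgroup.center ↥(loc D d)) : Target G D := by
  have cc : Central G D d := ⟨⟨hD, hprim, hZ⟩, hd, hw, h3, h2⟩
  obtain ⟨c', ⟨x, hx, hxw⟩, -⟩ := cc.descend
  exact target_of_local S cc (classify S _ _ _ rfl c' x hx hxw)

end Cfsg.Agent.FischerTheorem6
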