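import Cfsg.Agent.Lib.FischerUnChart61
import Cfsg.Agent.Lib.F4Table61

/-!
A primitive class of 3-transpositions whose local geometry is that of the isotropic points of the
unitary space of dimension six over the field with four elements has 126 members commuting with two
given non-commuting members.

For commuting `x`, `d` the lifting at `x` has 45 points, its height being a semilinear function plus
a non-zero multiple of the product of the four coordinates. A member `z` commuting with `d` and `c`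
but not with `x` commutes with the zeros of the height; there is a zero on every totally isotropic
line, as the members of a line, with `x` and `z`, would give an affine plane with six points;
so there are 18.
-/

set_option autoImplicit false
set_option linter.unusedSectionVars false
set_option linter.style.haveILetI false

namespace Cfsg.Agent.FischerUSixMu61

open Cfsg.Agent.UnitaryF4Geo Cfsg.Agent.FischerNoUnLocal61
open Cfsg.Agent.F4Table61 (toF toF_add toF_mul toF_surj toF_eq_zero toF_inj hN row line)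

variable {G : Type*} [Group G] {D : Set G}
variable {F : Type*} [Field F] [Fintype F] [FourField F]
variable {x d c : G} (K : Ctx F 6 D x d c)

/-- An orthonormal frame of the cone at `x`. -/
structure Frame (e : Fin 4 → Fin 6 → F) : Prop where
  on : ON e
  perp : ∀ i, h (e i) K.xh = 0
  comp : ∀ v, h v K.xh = 0 → (∀ i, h v (e i) = 0) → ∃ a : F, v = a • K.xh

theorem exists_frame' : ∃ e, Frame K e := by
  obtain ⟨e, he, hex, hc⟩ := exists_perp_frame (m := 4) K.hyp (by norm_num)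
  exact ⟨e, he, hex, hc⟩

/-- A frame perpendicular to a given partner of `x`. -/
theorem exists_frame_at {w : Fin 6 → F} (H : Hyp K.xh w) :
    ∃ e, Frame K e ∧ ∀ i, h (e i) w = 0 := by
  obtain ⟨e, he, hex, hc⟩ := exists_perp_frame (m := 4) H (by norm_num)
  have hxe : ∀ i, h K.xh (e i) = 0 := fun i => h_comm_zero (hex i)
  refine ⟨fun i => e i + h (e i) w • K.xh, ⟨fun i j => ?_, fun i => ?_, fun v hv hve => ?_⟩,
    fun i => ?_⟩
  · simp only [h_add_left, h_add_right, h_smul_left, h_smul_right, hex, hxe, H.pp, mul_zero,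
      add_zero]
    exact he i j
  · rw [h_add_left, h_smul_left, hex, H.pp, mul_zero, add_zero]
  · refine hc v hv fun i => ?_
    have := hve i
    rwa [h_add_right, h_smul_right, hv, mul_zero, add_zero] at this
  · rw [h_add_left, h_smul_left, H.pq, mul_one, add_self]

section frame

variable {o : F} (ho : o ^ 2 = o + 1) {e : Fin 4 → Fin 6 → F} (hf : Frame K e)

/-- The vector with the coordinates of a table entry. -/
def comb (o : F) (e : Fin 4 → Fin 6 → F) (a : Fin 4 → Fin 4) : Fin 6 → F :=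
  ∑ i, toF o (a i) • e i

include ho hf

theorem h_comb_e (a : Fin 4 → Fin 4) (i : Fin 4) : h (comb o e a) (e i) = toF o (a i) :=
  hf.on.h_sum (fun i => toF o (a i)) i

theorem h_comb (a b : Fin 4 → Fin 4) : h (comb o e a) (comb o e b) = toF o (hN a b) := by
  have hr : ∀ i, h (e i) (comb o e b) = toF o (b i) ^ 2 := fun i => by
    rw [h_symm, h_comb_e K ho hf]
  rw [comb, h_sum_left]
  simp only [hr, Fin.sum_univ_four, hN, toF_add ho, toF_mul ho]
  ring

theorem val_comb {a : Fin 4 → Fin 4} (h0 : hN a a = 0) (hne : ∃ i, a i ≠ 0) :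
    Val K (comb o e a) := by
  obtain ⟨i, hi⟩ := hne
  refine val_of K (e i) ?_ ?_ (h_comm_zero (hf.perp i)) ?_
  · rw [h_comb K ho hf, h0, (toF_eq_zero ho _).2 rfl]
  · rw [comb, h_sum_left]
    simp [hf.perp]
  · rw [h_comb_e K ho hf]
    exact fun e0 => hi ((toF_eq_zero ho _).1 e0)

theorem val_row (i : Fin 45) : Val K (comb o e (row i)) :=
  val_comb K ho hf (F4Table61.row_iso i).1 (F4Table61.row_iso i).2

end frame

/-- The vector of a member of the lifting. -/
noncomputable def sv (o : F) (e : Fin 4 → Fin 6 → F) (i : Fin 45) : Fin 6 → F :=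
  comb o e (row i) + ht K (comb o e (row i)) • K.xh

/-- The members of the lifting. -/
noncomputable def pt (o : F) (e : Fin 4 → Fin 6 → F) (i : Fin 45) : G := K.Y.pt (sv K o e i)

section frame

variable {o : F} (ho : o ^ 2 = o + 1) {e : Fin 4 → Fin 6 → F} (hf : Frame K e)
include ho hf

theorem val_sv (i : Fin 45) : Val K (sv K o e i) := (val_row K ho hf i).add_smul _

theorem sec_pt (i : Fin 45) : Sec D x d c (pt K o e i) := ht_spec K (val_row K ho hf i)

theorem h_sv_e (i : Fin 45) (j : Fin 4) : h (sv K o e i) (e j) = toF o (row i j) := by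
  rw [sv, h_add_left, h_smul_left, h_comm_zero (hf.perp j), mul_zero, add_zero,
    h_comb_e K ho hf]

theorem h_sv (i j : Fin 45) : h (sv K o e i) (sv K o e j) = toF o (hN (row i) (row j)) := by
  have h1 := (val_row K ho hf i).2.1
  have h2 := h_comm_zero (val_row K ho hf j).2.1
  simp only [sv, h_add_left, h_add_right, h_smul_left, h_smul_right, h1, h2, K.hyp.pp, mul_zero,
    add_zero, h_comb K ho hf]

theorem pt_inj : Function.Injective (pt K o e) := by
  intro i j hij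
  obtain ⟨k, hk, e1⟩ := (K.Y.eq_iff (val_sv K ho hf i).1 (val_sv K ho hf j).1).1 hij
  obtain ⟨k', rfl⟩ := toF_surj ho k
  refine (F4Table61.row_inj j i k' fun a => toF_inj ho ?_).symm
  rw [toF_mul ho, ← h_sv_e K ho hf, ← h_sv_e K ho hf, e1, h_smul_left]

theorem pt_comm (i j : Fin 45) :
    Commute (pt K o e i) (pt K o e j) ↔ hN (row i) (row j) = 0 := by
  rw [pt, pt, K.Y.comm (val_sv K ho hf i).1 (val_sv K ho hf j).1, h_sv K ho hf, toF_eq_zero ho]

theorem sec_exists {g : G} (hg : Sec D x d c g) : ∃ i, pt K o e i = g := by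
  obtain ⟨v, hv, rfl⟩ := val_of_cone K hg.1
  choose a ha using fun j => toF_surj ho (h v (e j))
  obtain ⟨r, hr⟩ : ∃ r : F, v + comb o e a = r • K.xh := by
    refine hf.comp _ ?_ fun j => ?_
    · rw [h_add_left, comb, h_sum_left, hv.2.1]
      simp [hf.perp]
    · rw [h_add_left, h_comb_e K ho hf, ha, add_self]
  have hvw : v = comb o e a + r • K.xh := by
    rw [← hr, ← add_assoc, add_comm (comb o e a) v, add_assoc, vec_add_self, add_zero]
  have hw : Val K (comb o e a) := by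
    have := hv.add_smul r
    rwa [hvw, add_assoc, vec_add_self, add_zero] at this
  obtain ⟨i, k, hk, hi⟩ := F4Table61.row_cover a
    (toF_inj ho (by rw [← h_comb K ho hf, hw.1.2, (toF_eq_zero ho _).2 rfl]))
    (by
      by_contra hn
      push Not at hn
      exact hw.1.1 (Finset.sum_eq_zero fun j _ => by rw [hn j, (toF_eq_zero ho _).2 rfl, zero_smul]))
  have hki : comb o e a = toF o k • comb o e (row i) := by
    rw [comb, comb, Finset.smul_sum]
    exact Finset.sum_congr rfl fun j _ => by rw [hi j, toF_mul ho, smul_smul]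
  have hk' : toF o k ≠ 0 := fun e0 => hk ((toF_eq_zero ho _).1 e0)
  have hr' : ht K (comb o e a) = r := ht_eq K hw (by rw [← hvw]; exact hg)
  refine ⟨i, ?_⟩
  rw [hki, ht_smul K (val_row K ho hf i) hk'] at hr'
  rw [hvw, hki, ← hr', mul_smul, ← smul_add, K.Y.pt_smul ((val_row K ho hf i).add_smul _).1 hk']
  rfl

theorem ncard_filter (p : Fin 45 → Prop) [DecidablePred p] :
    {g | ∃ i, p i ∧ pt K o e i = g}.ncard = ((List.finRange 45).filter fun i => decide (p i)).length := by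
  have : {g | ∃ i, p i ∧ pt K o e i = g} = pt K o e '' ↑(Finset.univ.filter p) := by
    ext g; simp
  rw [this, Set.ncard_image_of_injective _ (pt_inj K ho hf), Set.ncard_coe_finset]
  rfl

theorem ncard_sec : {g | Sec D x d c g}.ncard = 45 := by
  have : {g | Sec D x d c g} = Set.range (pt K o e) := by
    ext g
    exact ⟨fun hg => sec_exists K ho hf hg, by rintro ⟨i, rfl⟩; exact sec_pt K ho hf i⟩
  rw [this, Set.ncard_range_of_injective (pt_inj K ho hf)]
  simp

theorem ncard_sec_perp {g : G} (hg : Sec D x d c g) :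
    {k | Sec D x d c k ∧ k ≠ g ∧ Commute g k}.ncard = 12 := by
  obtain ⟨i, rfl⟩ := sec_exists K ho hf hg
  have : {k | Sec D x d c k ∧ k ≠ pt K o e i ∧ Commute (pt K o e i) k} =
      {g | ∃ j, (j ≠ i ∧ hN (row i) (row j) = 0) ∧ pt K o e j = g} := by
    ext k
    constructor
    · rintro ⟨hk, hne, hc⟩
      obtain ⟨j, rfl⟩ := sec_exists K ho hf hk
      exact ⟨j, ⟨fun e => hne (e ▸ rfl), (pt_comm K ho hf i j).1 hc⟩, rfl⟩
    · rintro ⟨j, ⟨hne, hc⟩, rfl⟩
      exact ⟨sec_pt K ho hf j, fun e => hne (pt_inj K ho hf e), (pt_comm K ho hf i j).2 hc⟩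
  rw [this, ncard_filter K ho hf]
  exact F4Table61.row_degree i

end frame

/-- Two coefficients are determined by the values at units. -/
theorem agree {A A' B B' : F}
    (hh : ∀ a b : F, a ≠ 0 → b ≠ 0 → a * A + b * A' = a * B + b * B') : A = B ∧ A' = B' := by
  obtain ⟨o, ho⟩ := exists_omega (F := F)
  obtain ⟨o0, o1⟩ := omega_ne ho
  have e1 := hh 1 1 one_ne_zero one_ne_zero
  have e2 := hh 1 o one_ne_zero o0
  have e3 : (o - 1) * (A' - B') = 0 := by linear_combination e2 - e1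
  have e4 : A' = B' := sub_eq_zero.mp ((mul_eq_zero.mp e3).resolve_left (sub_ne_zero.mpr o1))
  exact ⟨by linear_combination e1 - e4, e4⟩

theorem exists_pair_linear {e : Fin 4 → Fin 6 → F} (hf : Frame K e) :
    ∃ A : Fin 4 → F, ∀ i j : Fin 4, i < j → ∀ a b : F, a ≠ 0 → b ≠ 0 →
      ht K (pr e i j a b) = a * A i + b * A j := by
  have key : ∀ σ : Fin 3 → Fin 4, Function.Injective σ → ∃ A : Fin 3 → F,
      ∀ i j : Fin 3, i < j → ∀ a b : F, a ≠ 0 → b ≠ 0 →
        ht K (pr e (σ i) (σ j) a b) = a * A i + b * A j := by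
    intro σ hσ
    obtain ⟨A, hA⟩ := exists_linear K (e := fun i => e (σ i))
      (fun i j => by rw [hf.on]; simp [hσ.eq_iff]) fun i => hf.perp _
    exact ⟨A, hA⟩
  obtain ⟨A, hA⟩ := key ![0, 1, 2] (by decide)
  obtain ⟨B, hB⟩ := key ![0, 1, 3] (by decide)
  obtain ⟨C, hC⟩ := key ![0, 2, 3] (by decide)
  have a01 : ∀ a b : F, a ≠ 0 → b ≠ 0 → ht K (pr e 0 1 a b) = a * A 0 + b * A 1 :=
    hA 0 1 (by decide)
  have a02 : ∀ a b : F, a ≠ 0 → b ≠ 0 → ht K (pr e 0 2 a b) = a * A 0 + b * A 2 :=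
    hA 0 2 (by decide)
  have a12 : ∀ a b : F, a ≠ 0 → b ≠ 0 → ht K (pr e 1 2 a b) = a * A 1 + b * A 2 :=
    hA 1 2 (by decide)
  have b01 : ∀ a b : F, a ≠ 0 → b ≠ 0 → ht K (pr e 0 1 a b) = a * B 0 + b * B 1 :=
    hB 0 1 (by decide)
  have b03 : ∀ a b : F, a ≠ 0 → b ≠ 0 → ht K (pr e 0 3 a b) = a * B 0 + b * B 2 :=
    hB 0 2 (by decide)
  have b13 : ∀ a b : F, a ≠ 0 → b ≠ 0 → ht K (pr e 1 3 a b) = a * B 1 + b * B 2 :=
    hB 1 2 (by decide)
  have c02 : ∀ a b : F, a ≠ 0 → b ≠ 0 → ht K (pr e 0 2 a b) = a * C 0 + b * C 1 :=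
    hC 0 1 (by decide)
  have c03 : ∀ a b : F, a ≠ 0 → b ≠ 0 → ht K (pr e 0 3 a b) = a * C 0 + b * C 2 :=
    hC 0 2 (by decide)
  have c23 : ∀ a b : F, a ≠ 0 → b ≠ 0 → ht K (pr e 2 3 a b) = a * C 1 + b * C 2 :=
    hC 1 2 (by decide)
  obtain ⟨h0, h1⟩ := agree fun a b ha hb => (a01 a b ha hb).symm.trans (b01 a b ha hb)
  obtain ⟨-, h2⟩ := agree fun a b ha hb => (a02 a b ha hb).symm.trans (c02 a b ha hb)
  obtain ⟨-, h3⟩ := agree fun a b ha hb => (b03 a b ha hb).symm.trans (c03 a b ha hb)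
  refine ⟨![A 0, A 1, A 2, B 2], fun i j hij a b ha hb => ?_⟩
  fin_cases i <;> fin_cases j <;> simp at hij ⊢
  · exact a01 a b ha hb
  · exact a02 a b ha hb
  · rw [b03 a b ha hb, h0]
  · exact a12 a b ha hb
  · rw [b13 a b ha hb, h1]
  · rw [c23 a b ha hb, h2, h3]

/-- The height is semilinear up to a non-zero multiple of the product of the coordinates. -/
theorem exists_formula (hch : ∀ t ∈ D, Nonempty (Chart F 6 D t)) {o : F} (ho : o ^ 2 = o + 1)
    {e : Fin 4 → Fin 6 → F} (hf : Frame K e) :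
    ∃ (A : Fin 4 → Fin 4) (k : Fin 4), k ≠ 0 ∧
      ∀ i, ht K (comb o e (row i)) = toF o (F4Table61.val A k i) := by
  obtain ⟨A, hA⟩ := exists_pair_linear K hf
  have two := two_eq_zero (F := F)
  have he := hf.on
  set V : F → F → F → F → (Fin 6 → F) :=
    fun a b p q => a • e 0 + b • e 1 + p • e 2 + q • e 3 with hV
  set Φ : F → F → F → F → F :=
    fun a b p q => ht K (V a b p q) + (a * A 0 + b * A 1 + p * A 2 + q * A 3) with hΦ
  have e01 : ∀ a b p q : F, a ≠ 0 → b ≠ 0 → p ≠ 0 → q ≠ 0 →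
      dev K (pr e 0 1 a b) (pr e 2 3 p q) = Φ a b p q := by
    intro a b p q ha hb hp hq
    rw [dev, hA 0 1 (by decide) a b ha hb, hA 2 3 (by decide) p q hp hq]
    simp only [hΦ, hV]
    rw [show pr e 0 1 a b + pr e 2 3 p q = a • e 0 + b • e 1 + p • e 2 + q • e 3 by
      simp only [pr]; abel]
    ring
  have e02 : ∀ a b p q : F, a ≠ 0 → b ≠ 0 → p ≠ 0 → q ≠ 0 →
      dev K (pr e 0 2 a p) (pr e 1 3 b q) = Φ a b p q := by
    intro a b p q ha hb hp hq
    rw [dev, hA 0 2 (by decide) a p ha hp, hA 1 3 (by decide) b q hb hq]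
    simp only [hΦ, hV]
    rw [show pr e 0 2 a p + pr e 1 3 b q = a • e 0 + b • e 1 + p • e 2 + q • e 3 by
      simp only [pr]; abel]
    ring
  have step : ∀ i j k l : Fin 4, i ≠ j → k ≠ l → i ≠ k → i ≠ l → j ≠ k → j ≠ l →
      ∀ a b p q : F, a ≠ 0 → b ≠ 0 → p ≠ 0 → q ≠ 0 →
        dev K (pr e i j a b) (pr e k l p q) = dev K (pr e i j 1 (a * b)) (pr e k l p q) := by
    intro i j k l hij hkl hik hil hjk hjl a b p q ha hb hp hq
    by_cases ha1 : a = 1
    · rw [ha1, one_mul]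
    have hab := mul_ne_zero ha hb
    refine dev_step K (val_pr K he hf.perp hij ha hb) (val_pr K he hf.perp hij one_ne_zero hab)
      (val_pr K he hf.perp hkl hp hq) ?_ ?_ ?_
    · rw [h_pr he, if_pos rfl, if_neg hij, if_neg hij.symm, if_pos rfl]
      linear_combination a ^ 2 * cube hb + rel ha ha1 + a * two
    · rw [h_pr he, if_neg hik.symm, if_neg hjk.symm, if_neg hil.symm, if_neg hjl.symm]
      ring
    · rw [h_pr he, if_neg hik.symm, if_neg hjk.symm, if_neg hil.symm, if_neg hjl.symm]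
      ring
  have first : ∀ a b p q : F, a ≠ 0 → b ≠ 0 → p ≠ 0 → q ≠ 0 →
      Φ a b p q = Φ 1 (a * b) p q := fun a b p q ha hb hp hq => by
    rw [← e01 a b p q ha hb hp hq, ← e01 1 (a * b) p q one_ne_zero (mul_ne_zero ha hb) hp hq,
      step 0 1 2 3 (by decide) (by decide) (by decide) (by decide) (by decide) (by decide) a b p q
        ha hb hp hq]
  have second : ∀ a b p q : F, a ≠ 0 → b ≠ 0 → p ≠ 0 → q ≠ 0 →
      Φ a b p q = Φ a b 1 (p * q) := fun a b p q ha hb hp hq => by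
    rw [← e01 a b p q ha hb hp hq, ← e01 a b 1 (p * q) ha hb one_ne_zero (mul_ne_zero hp hq),
      dev_comm K, step 2 3 0 1 (by decide) (by decide) (by decide) (by decide) (by decide)
        (by decide) p q a b hp hq ha hb, dev_comm K]
  have third : ∀ b q : F, b ≠ 0 → q ≠ 0 → Φ 1 b 1 q = Φ 1 1 1 (b * q) := fun b q hb hq => by
    rw [← e02 1 b 1 q one_ne_zero hb one_ne_zero hq,
      ← e02 1 1 1 (b * q) one_ne_zero one_ne_zero one_ne_zero (mul_ne_zero hb hq), dev_comm K,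
      step 1 3 0 2 (by decide) (by decide) (by decide) (by decide) (by decide) (by decide) b q 1 1
        hb hq one_ne_zero one_ne_zero, dev_comm K]
  have all : ∀ a b p q : F, a ≠ 0 → b ≠ 0 → p ≠ 0 → q ≠ 0 →
      Φ a b p q = Φ 1 1 1 (a * b * p * q) := fun a b p q ha hb hp hq => by
    rw [first a b p q ha hb hp hq, second 1 (a * b) p q one_ne_zero (mul_ne_zero ha hb) hp hq,
      third _ _ (mul_ne_zero ha hb) (mul_ne_zero hp hq)]
    congr 1; ring
  have o0 : (1 : F) ≠ 0 := one_ne_zero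
  have hvy : Val K (pr e 0 1 1 1) := val_pr K he hf.perp (by decide) o0 o0
  have hvz : Val K (pr e 2 3 1 1) := val_pr K he hf.perp (by decide) o0 o0
  have hyz : h (pr e 0 1 (1 : F) 1) (pr e 2 3 1 1) = 0 := by simp [h_pr he]
  have hy0 : h (pr e 0 1 (1 : F) 1) (e 0) = 1 := by simp [pr, h_add_left, h_smul_left, he _ _]
  have hz0 : h (pr e 2 3 (1 : F) 1) (e 0) = 0 := by simp [pr, h_add_left, h_smul_left, he _ _]
  have hvs : Val K (pr e 0 1 1 1 + pr e 2 3 1 1) := val_of K (e 0)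
    (by rw [h_add_add hyz, hvy.1.2, hvz.1.2, add_zero])
    (by rw [h_add_left, hvy.2.1, hvz.2.1, add_zero]) (h_comm_zero (hf.perp 0))
    (by rw [h_add_left, hy0, hz0, add_zero]; exact o0)
  have hK : Φ 1 1 1 1 ≠ 0 := by
    rw [← e01 1 1 1 1 o0 o0 o0 o0]
    exact dev_ne_zero K hch hvy hvz hvs hyz (h_comm_zero (hf.perp 0)) hy0 hz0
  have hprod : ∀ a b p q : F, a ≠ 0 → b ≠ 0 → p ≠ 0 → q ≠ 0 →
      Φ a b p q = a * b * p * q * Φ 1 1 1 1 := fun a b p q ha hb hp hq => by
    set R := a * b * p * q with hR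
    have hR0 : R ≠ 0 := mul_ne_zero (mul_ne_zero (mul_ne_zero ha hb) hp) hq
    rw [all a b p q ha hb hp hq, ← hR]
    have h4 : R * R * R * R = R := by linear_combination pow_four R
    calc Φ 1 1 1 R = Φ R R R R := by rw [all R R R R hR0 hR0 hR0 hR0, h4]
      _ = R * Φ 1 1 1 1 := by
        simp only [hΦ, hV]
        have hv : Val K (e 0 + e 1 + e 2 + e 3) := by
          convert hvs using 1
          simp only [pr, one_smul]; abel
        rw [show R • e 0 + R • e 1 + R • e 2 + R • e 3 = R • (e 0 + e 1 + e 2 + e 3) by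
          simp only [smul_add], ht_smul K hv hR0]
        simp only [one_smul]
        ring
  choose A' hA' using fun i => toF_surj ho (A i)
  obtain ⟨k, hk⟩ := toF_surj ho (Φ 1 1 1 1)
  refine ⟨A', k, fun e0 => hK (by rw [← hk, e0, (toF_eq_zero ho _).2 rfl]), fun i => ?_⟩
  have hval : toF o (F4Table61.val A' k i) = A 0 * toF o (row i 0) + A 1 * toF o (row i 1) +
      (A 2 * toF o (row i 2) + A 3 * toF o (row i 3)) + Φ 1 1 1 1 *
        (toF o (row i 0) * toF o (row i 1) * (toF o (row i 2) * toF o (row i 3))) := by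
    simp only [F4Table61.val, toF_add ho, toF_mul ho, hA', hk]
  rw [hval]
  rcases F4Table61.row_pr i with hall | ⟨a, b, hab, ha, hb, hz⟩
  · have n0 := fun j => (toF_eq_zero ho (row i j)).not.2 (hall j)
    have hcomb : comb o e (row i) =
        V (toF o (row i 0)) (toF o (row i 1)) (toF o (row i 2)) (toF o (row i 3)) := by
      simp [comb, hV, Fin.sum_univ_four]
    rw [hcomb]
    have := hprod _ _ _ _ (n0 0) (n0 1) (n0 2) (n0 3)
    simp only [hΦ] at this ⊢
    linear_combination this + (A 0 * toF o (row i 0) + A 1 * toF o (row i 1) +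
      A 2 * toF o (row i 2) + A 3 * toF o (row i 3)) * two * (-1)
  · have n : ∀ j, j ≠ a → j ≠ b → toF o (row i j) = 0 := fun j ja jb =>
      (toF_eq_zero ho _).2 (hz j ja jb)
    have hcomb : comb o e (row i) = pr e a b (toF o (row i a)) (toF o (row i b)) := by
      rw [comb, pr]
      exact Fintype.sum_eq_add a b hab.ne fun j hj => by rw [n j hj.1 hj.2, zero_smul]
    have hsum : ∑ j, A j * toF o (row i j) =
        A a * toF o (row i a) + A b * toF o (row i b) :=
      Fintype.sum_eq_add a b hab.ne fun j hj => by rw [n j hj.1 hj.2, mul_zero]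
    rw [Fin.sum_univ_four] at hsum
    rw [hcomb, hA a b hab _ _ ((toF_eq_zero ho _).not.2 ha) ((toF_eq_zero ho _).not.2 hb)]
    have hp : toF o (row i 0) * toF o (row i 1) * (toF o (row i 2) * toF o (row i 3)) = 0 := by
      obtain ⟨j, ja, jb⟩ :=
        (by decide : ∀ a b : Fin 4, ∃ j, j ≠ a ∧ j ≠ b) a b
      have hj := n j ja jb
      rcases (by decide : ∀ j : Fin 4, j = 0 ∨ j = 1 ∨ j = 2 ∨ j = 3) j with
        rfl | rfl | rfl | rfl <;> rw [hj] <;> ring
    rw [hp]
    linear_combination -hsum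

/-- Members commuting with `d` and `c`. -/
def Mem (D : Set G) (d c g : G) : Prop := g ∈ D ∧ g ≠ d ∧ Commute d g ∧ Commute c g

theorem sec_iff {g : G} : Sec D x d c g ↔ Mem D d c g ∧ g ≠ x ∧ Commute x g :=
  ⟨fun ⟨⟨a, b, e, f, g⟩, h⟩ => ⟨⟨a, e, g, h⟩, b, f⟩, fun ⟨⟨a, e, g, h⟩, b, f⟩ => ⟨⟨a, b, e, f, g⟩, h⟩⟩

/-- The vector of a member at `d` not commuting with `x`. -/
theorem exists_partner {g : G} (hg : g ∈ D) (hgd : g ≠ d) (hdg : Commute d g)
    (hxg : ¬ Commute x g) : ∃ w, Hyp K.xh w ∧ Iso w ∧ K.Y.pt w = g := by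
  obtain ⟨w, hw, rfl⟩ := K.Y.surj hg hgd hdg
  have hne : h K.xh w ≠ 0 := fun e => hxg (by
    have := (K.Y.comm K.ixh hw).2 e
    rwa [K.ptx] at this)
  refine ⟨h K.xh w • w, ⟨K.hyp.pp, (hw.smul hne).2, ?_⟩, hw.smul hne, K.Y.pt_smul hw hne⟩
  rw [h_smul_right, ← pow_succ, cube hne]

theorem comm_zero {o : F} (ho : o ^ 2 = o + 1) {e : Fin 4 → Fin 6 → F} (hf : Frame K e)
    {w : Fin 6 → F} (H : Hyp K.xh w) (hw : Iso w) (hew : ∀ i, h (e i) w = 0) (i : Fin 45) :
    h (sv K o e i) w = ht K (comb o e (row i)) ∧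
      (Commute (K.Y.pt w) (pt K o e i) ↔ ht K (comb o e (row i)) = 0) := by
  have h1 : h (sv K o e i) w = ht K (comb o e (row i)) := by
    rw [sv, h_add_left, h_smul_left, H.pq, mul_one, comb, h_sum_left]
    simp [hew]
  refine ⟨h1, ?_⟩
  rw [← h1]
  exact (K.Y.comm hw (val_sv K ho hf i).1).trans ⟨h_comm_zero, h_comm_zero⟩

include K in
/-- A member at `d` has a common neighbour in the lifting with `x`. -/
theorem exists_sec_comm (hch : ∀ t ∈ D, Nonempty (Chart F 6 D t)) {g : G} (hg : g ∈ D)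
    (hgd : g ≠ d) (hdg : Commute d g) (hxg : ¬ Commute x g) :
    ∃ k, Sec D x d c k ∧ Commute g k := by
  obtain ⟨w, H, hw, rfl⟩ := exists_partner K hg hgd hdg hxg
  obtain ⟨o, ho⟩ := exists_omega (F := F)
  obtain ⟨e, hf, hew⟩ := exists_frame_at K H
  obtain ⟨A, k, hk, hA⟩ := exists_formula K hch ho hf
  obtain ⟨i, hi⟩ := F4Table61.exists_zero A hk
  exact ⟨_, sec_pt K ho hf i, ((comm_zero K ho hf H hw hew i).2).2
    (by rw [hA, hi, (toF_eq_zero ho _).2 rfl])⟩

include K in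
/-- A member commuting with `d` and `c` but not with `x` has 18 common neighbours in the lifting. -/
theorem eighteen (hch : ∀ t ∈ D, Nonempty (Chart F 6 D t))
    (hconj : ∀ a ∈ D, ∀ b ∈ D, a * b * a⁻¹ ∈ D) {z : G} (hz : Mem D d c z)
    (hxz : ¬ Commute x z) : {k | Sec D x d c k ∧ Commute z k}.ncard = 18 := by
  obtain ⟨hzD, hzd, hdz, hcz⟩ := hz
  obtain ⟨w, H, hw, rfl⟩ := exists_partner K hzD hzd hdz hxz
  obtain ⟨o, ho⟩ := exists_omega (F := F)
  obtain ⟨e, hf, hew⟩ := exists_frame_at K H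
  obtain ⟨A, k, hk, hA⟩ := exists_formula K hch ho hf
  have hcomm : ∀ i, Commute (K.Y.pt w) (pt K o e i) ↔ F4Table61.val A k i = 0 := fun i => by
    rw [(comm_zero K ho hf H hw hew i).2, hA, toF_eq_zero ho]
  rcases F4Table61.zeros A hk with h18 | ⟨l, hl⟩
  · rw [← h18, ← ncard_filter K ho hf]
    congr 1
    ext g
    constructor
    · rintro ⟨hg, hc⟩
      obtain ⟨i, rfl⟩ := sec_exists K ho hf hg
      exact ⟨i, (hcomm i).1 hc, rfl⟩
    · rintro ⟨i, hi, rfl⟩
      exact ⟨sec_pt K ho hf i, (hcomm i).2 hi⟩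
  exfalso
  -- the members of a line without zero give an affine plane with six points
  set f : Fin 5 → F := fun j => ht K (comb o e (row (line l j))) with hfdef
  have hf0 : ∀ j, f j ≠ 0 := fun j => by
    simp only [hfdef, hA]
    exact (toF_eq_zero ho _).not.2 (hl j)
  set q : Fin 5 → Fin 6 → F := fun j => (f j)⁻¹ • sv K o e (line l j) with hq
  have hqv : ∀ j, Val K (q j) := fun j => (val_sv K ho hf _).smul (inv_ne_zero (hf0 j))
  have hqw : ∀ j, h (q j) w = 1 := fun j => by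
    rw [hq, h_smul_left, (comm_zero K ho hf H hw hew _).1]
    exact inv_mul_cancel₀ (hf0 j)
  have hqq : ∀ a b, h (q a) (q b) = 0 := fun a b => by
    rw [hq, h_smul_left, h_smul_right, h_sv K ho hf, (F4Table61.line_orth l a b).2,
      (toF_eq_zero ho _).2 rfl]
    ring
  have hqpt : ∀ j, K.Y.pt (q j) = pt K o e (line l j) := fun j =>
    K.Y.pt_smul (val_sv K ho hf _).1 (inv_ne_zero (hf0 j))
  have hqinj : ∀ a b, q a = q b → a = b := fun a b hab => by
    by_contra hne
    exact (F4Table61.line_orth l a b).1 hne (pt_inj K ho hf (by rw [← hqpt, ← hqpt, hab]))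
  have memPt : ∀ j, Mem D d c (K.Y.pt (q j)) := fun j => by
    rw [hqpt]; exact (sec_iff.1 (sec_pt K ho hf _)).1
  have memX : Mem D d c (K.Y.pt K.xh) := by
    rw [K.ptx]; exact ⟨K.hx, K.dx.symm, K.cd.symm, K.cc.symm⟩
  have closed : ∀ {u v : Fin 6 → F}, Iso u → Iso v → Mem D d c (K.Y.pt u) →
      Mem D d c (K.Y.pt v) → Mem D d c (K.Y.pt (tv u v)) := by
    intro u v hu hv hmu hmv
    refine ⟨(K.Y.mem (hu.tv hv)).1, (K.Y.mem (hu.tv hv)).2.1, (K.Y.mem (hu.tv hv)).2.2, ?_⟩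
    rw [← K.Y.conj hu hv]
    exact (hmu.2.2.2.mul_right hmv.2.2.2).mul_right hmu.2.2.2.inv_right
  have triple : ∀ a b : Fin 5, a ≠ b → ∃ j, j ≠ a ∧ j ≠ b ∧ K.xh + q a + q b = q j := by
    intro a b hab
    have hmw : Mem D d c (K.Y.pt w) := ⟨hzD, hzd, hdz, hcz⟩
    have hwx : h w K.xh = 1 := H.qp
    have hwa : h w (q a) = 1 := h_comm_one (hqw a)
    have hwb : h w (q b) = 1 := h_comm_one (hqw b)
    have xa : h K.xh (q a) = 0 := h_comm_zero (hqv a).2.1
    have xb : h K.xh (q b) = 0 := h_comm_zero (hqv b).2.1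
    have t1 : tv K.xh w = w + K.xh := by rw [tv_apply, hwx, one_smul]
    have t2 : tv (q a) (w + K.xh) = w + K.xh + q a := by
      rw [tv_apply, h_add_left, hwa, xa, add_zero, one_smul]
    have t3 : tv (q b) w = w + q b := by rw [tv_apply, hwb, one_smul]
    have i1 : Iso (w + K.xh) := t1 ▸ K.ixh.tv hw
    have i2 : Iso (w + K.xh + q a) := t2 ▸ (hqv a).1.tv i1
    have i3 : Iso (w + q b) := t3 ▸ (hqv b).1.tv hw
    have m1 : Mem D d c (K.Y.pt (w + K.xh)) := t1 ▸ closed K.ixh hw memX hmw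
    have m2 : Mem D d c (K.Y.pt (w + K.xh + q a)) := t2 ▸ closed (hqv a).1 i1 (memPt a) m1
    have m3 : Mem D d c (K.Y.pt (w + q b)) := t3 ▸ closed (hqv b).1 hw (memPt b) hmw
    have hh : h (w + K.xh + q a) (w + q b) = 1 := by
      simp only [h_add_left, h_add_right, hw.2, hwb, H.pq, xb, hqw a, hqq a b, add_zero, zero_add]
      linear_combination (two_eq_zero (F := F))
    have t4 : tv (w + q b) (w + K.xh + q a) = K.xh + q a + q b := by
      rw [tv_apply, hh, one_smul, show w + K.xh + q a + (w + q b) =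
        (w + w) + (K.xh + q a + q b) by abel, vec_add_self, zero_add]
    set t := K.xh + q a + q b with ht'
    have it : Iso t := t4 ▸ i3.tv i2
    have mt : Mem D d c (K.Y.pt t) := t4 ▸ closed i3 i2 m3 m2
    have htx : h t K.xh = 0 := by
      rw [ht', h_add_left, h_add_left, K.hyp.pp, (hqv a).2.1, (hqv b).2.1, add_zero, add_zero]
    have htw : h t w = 1 := by
      rw [ht', h_add_left, h_add_left, H.pq, hqw, hqw, add_self, zero_add]
    have hxt : Commute x (K.Y.pt t) := by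
      have := (K.Y.comm K.ixh it).2 (h_comm_zero htx)
      rwa [K.ptx] at this
    have hne : K.Y.pt t ≠ x := by
      intro e0
      obtain ⟨r, -, hr⟩ := (K.Y.eq_iff K.ixh it).1 (K.ptx.trans e0.symm)
      have : r = 1 := by rw [hr, h_smul_left, H.pq, mul_one] at htw; exact htw
      rw [this, one_smul, ht', add_assoc] at hr
      exact hab (hqinj a b (vec_eq_of_add (add_eq_left.mp hr)))
    obtain ⟨i, hi⟩ := sec_exists K ho hf (sec_iff.2 ⟨mt, hne, hxt⟩)
    have orth : ∀ j, h (q j) t = 0 → hN (row (line l j)) (row i) = 0 := fun j hj => by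
      rw [← pt_comm K ho hf, hi, ← hqpt, K.Y.comm (hqv j).1 it]
      exact hj
    obtain ⟨j, hj⟩ := F4Table61.line_max l a b hab i
      (orth a (by rw [ht', h_add_right, h_add_right, (hqv a).2.1, hqq, hqq, add_zero, add_zero]))
      (orth b (by rw [ht', h_add_right, h_add_right, (hqv b).2.1, hqq, hqq, add_zero, add_zero]))
    rw [← hj, ← hqpt] at hi
    obtain ⟨r, -, hr⟩ := (K.Y.eq_iff (hqv j).1 it).1 hi
    have : r = 1 := by rw [hr, h_smul_left, hqw, mul_one] at htw; exact htw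
    rw [this, one_smul] at hr
    refine ⟨j, ?_, ?_, hr⟩
    · rintro rfl
      refine (hqv b).2.2 1 ?_
      rw [one_smul]
      rw [ht', add_right_comm, add_eq_right] at hr
      exact (vec_eq_of_add hr).symm
    · rintro rfl
      refine (hqv a).2.2 1 ?_
      rw [one_smul]
      rw [ht', add_eq_right] at hr
      exact (vec_eq_of_add hr).symm
  have cancel : ∀ {a a' b b' : Fin 5}, K.xh + q a + q b = K.xh + q a' + q b' → a = a' → b = b' :=
    fun {a a' b b'} e0 ea => hqinj b b' (add_left_cancel (ea ▸ e0))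
  have swap : ∀ {a b c : Fin 5}, K.xh + q a + q b = q c → K.xh + q a + q c = q b := by
    intro a b c e0
    rw [← e0, show K.xh + q a + (K.xh + q a + q b) = (K.xh + K.xh) + (q a + q a) + q b by abel,
      vec_add_self, vec_add_self, zero_add, zero_add]
  have comm' : ∀ a b : Fin 5, K.xh + q a + q b = K.xh + q b + q a := fun a b => add_right_comm _ _ _
  obtain ⟨i, hi0, hi1, ei⟩ := triple 0 1 (by decide)
  obtain ⟨m, hm0, hm1, hmi⟩ :=
    (by decide : ∀ i : Fin 5, ∃ m : Fin 5, m ≠ 0 ∧ m ≠ 1 ∧ m ≠ i) i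
  obtain ⟨k', hk0, hkm, ek⟩ := triple 0 m hm0.symm
  obtain ⟨n', hn1, hnm, en⟩ := triple 1 m hm1.symm
  have hk1 : k' ≠ 1 := fun e0 => hmi (hqinj m i ((swap (e0 ▸ ek)).symm.trans ei))
  have hki : k' ≠ i := fun e0 => hm1 (cancel ((e0 ▸ ek).trans ei.symm) rfl)
  have hn0 : n' ≠ 0 := fun e0 => hmi (hqinj m i ((swap (e0 ▸ en)).symm.trans ((comm' 1 0).trans ei)))
  have hni : n' ≠ i := fun e0 => hm0 (cancel ((e0 ▸ en).trans (ei.symm.trans (comm' 0 1))) rfl)
  have hnk : n' ≠ k' := fun e0 => by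
    have e1 := cancel ((comm' m 1).trans ((e0 ▸ en).trans (ek.symm.trans (comm' 0 m)))) rfl
    exact absurd e1 (by decide)
  exact (by decide : ∀ i m k n : Fin 5, ¬ (i ≠ 0 ∧ i ≠ 1 ∧ m ≠ 0 ∧ m ≠ 1 ∧ m ≠ i ∧ k ≠ 0 ∧
    k ≠ m ∧ k ≠ 1 ∧ k ≠ i ∧ n ≠ 1 ∧ n ≠ m ∧ n ≠ 0 ∧ n ≠ i ∧ n ≠ k)) i m k' n'
    ⟨hi0, hi1, hm0, hm1, hmi, hk0, hkm, hk1, hki, hn1, hnm, hn0, hni, hnk⟩

/-- The coordinates for a common neighbour `y` of `d` and `c`. -/
theorem exists_ctx_at (hch : ∀ t ∈ D, Nonempty (Chart F 6 D t)) {d c y : G} (hd : d ∈ D)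
    (hc : c ∈ D) (hy : y ∈ D) (hyd : y ≠ d) (hyc : y ≠ c) (hdy : Commute d y) (hcy : Commute c y)
    (hdc : ¬ Commute d c) : Nonempty (Ctx F 6 D y d c) := by
  obtain ⟨X⟩ := hch y hy
  obtain ⟨Y⟩ := hch d hd
  obtain ⟨s, hs, hps⟩ := Y.surj hy hyd hdy
  obtain ⟨w, H⟩ := exists_hyp hs.1 hs.2
  exact ⟨⟨X, Y, s, w, H, hs, hps, hy, hd, hc, hyd.symm, hyc.symm, hdy.symm, hcy.symm, hdc⟩⟩

/-- Two non-commuting members with a common neighbour have 126 of them. -/
theorem count [Finite G] (hch : ∀ t ∈ D, Nonempty (Chart F 6 D t))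
    (hconj : ∀ a ∈ D, ∀ b ∈ D, a * b * a⁻¹ ∈ D) {x d c : G} (K : Ctx F 6 D x d c) :
    {g | Mem D d c g}.ncard = 126 := by
  classical
  obtain ⟨o, ho⟩ := exists_omega (F := F)
  obtain ⟨e, hf⟩ := exists_frame' K
  set T : Set G := {g | Sec D x d c g} with hT
  set Z : Set G := {g | Mem D d c g ∧ ¬ Commute x g} with hZ
  have hT45 : T.ncard = 45 := ncard_sec K ho hf
  have h32 : ∀ y ∈ T, {g | g ∈ Z ∧ Commute y g}.ncard = 32 := by
    intro y hy
    obtain ⟨hym, hyx, hxy⟩ := sec_iff.1 hy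
    have hyc : y ≠ c := fun e0 => K.ncd (e0 ▸ hym.2.2.1)
    obtain ⟨L⟩ := exists_ctx_at hch K.hd K.hc hym.1 hym.2.1 hyc hym.2.2.1 hym.2.2.2 K.ncd
    obtain ⟨e', hf'⟩ := exists_frame' L
    have h45 := ncard_sec L ho hf'
    have h12 := ncard_sec_perp K ho hf hy
    have hset : {g | Sec D y d c g} =
        insert x ({k | Sec D x d c k ∧ k ≠ y ∧ Commute y k} ∪ {g | g ∈ Z ∧ Commute y g}) := by
      ext g
      simp only [Set.mem_setOf_eq, Set.mem_insert_iff, Set.mem_union, hZ]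
      constructor
      · intro hg
        obtain ⟨hgm, hgy, hyg⟩ := sec_iff.1 hg
        by_cases e0 : g = x
        · exact Or.inl e0
        by_cases hxg : Commute x g
        · exact Or.inr (Or.inl ⟨sec_iff.2 ⟨hgm, e0, hxg⟩, hgy, hyg⟩)
        · exact Or.inr (Or.inr ⟨⟨hgm, hxg⟩, hyg⟩)
      · rintro (rfl | ⟨hg, hgy, hyg⟩ | ⟨⟨hg, hxg⟩, hyg⟩)
        · exact sec_iff.2 ⟨⟨K.hx, K.dx.symm, K.cd.symm, K.cc.symm⟩, hyx.symm, hxy.symm⟩
        · exact sec_iff.2 ⟨(sec_iff.1 hg).1, hgy, hyg⟩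
        · exact sec_iff.2 ⟨hg, fun e0 => hxg (e0 ▸ hxy), hyg⟩
    rw [hset, Set.ncard_insert_of_notMem (by
      simp only [Set.mem_union, Set.mem_setOf_eq, hZ, not_or]
      exact ⟨fun h => (sec_iff.1 h.1).2.1 rfl, fun h => h.1.2 (Commute.refl x)⟩),
      Set.ncard_union_eq (Set.disjoint_left.mpr fun g h1 h2 => h2.1.2 (sec_iff.1 h1.1).2.2)] at h45
    omega
  have h18 : ∀ z ∈ Z, {k | k ∈ T ∧ Commute z k}.ncard = 18 := fun z hz =>
    eighteen K hch hconj hz.1 hz.2
  have hZ80 : Z.ncard = 80 := by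
    have key := Finset.sum_card_bipartiteAbove_eq_sum_card_bipartiteBelow
      (s := T.toFinite.toFinset) (t := Z.toFinite.toFinset) (fun y z => Commute y z)
    rw [Finset.sum_const_nat (m := 32) fun y hy => ?_, Finset.sum_const_nat (m := 18) fun z hz => ?_,
      ← Set.ncard_eq_toFinset_card, ← Set.ncard_eq_toFinset_card, hT45] at key
    · omega
    · rw [← h18 z (by simpa using hz), ← Set.ncard_coe_finset]
      congr 1
      ext k
      simp [Finset.bipartiteBelow, commute_iff_eq, eq_comm]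
    · rw [← h32 y (by simpa using hy), ← Set.ncard_coe_finset]
      congr 1
      ext k
      simp [Finset.bipartiteAbove]
  have hset : {g | Mem D d c g} = insert x (T ∪ Z) := by
    ext g
    simp only [Set.mem_setOf_eq, Set.mem_insert_iff, Set.mem_union, hT, hZ]
    constructor
    · intro hg
      by_cases e0 : g = x
      · exact Or.inl e0
      by_cases hxg : Commute x g
      · exact Or.inr (Or.inl (sec_iff.2 ⟨hg, e0, hxg⟩))
      · exact Or.inr (Or.inr ⟨hg, hxg⟩)
    · rintro (rfl | hg | ⟨hg, -⟩)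
      · exact ⟨K.hx, K.dx.symm, K.cd.symm, K.cc.symm⟩
      · exact (sec_iff.1 hg).1
      · exact hg
  rw [hset, Set.ncard_insert_of_notMem (by
      simp only [Set.mem_union, hT, hZ, Set.mem_setOf_eq, not_or]
      exact ⟨fun h => (sec_iff.1 h).2.1 rfl, fun h => h.2 (Commute.refl x)⟩),
    Set.ncard_union_eq (Set.disjoint_left.mpr fun g h1 h2 => h2.2 (sec_iff.1 h1).2.2), hT45, hZ80]

/-- Paths of length three can be shortened. -/
theorem shorten (hch : ∀ t ∈ D, Nonempty (Chart F 6 D t)) {a k m b : G} (ha : a ∈ D) (hk : k ∈ D)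
    (hm : m ∈ D) (hb : b ∈ D) (hak : Commute a k) (hkm : Commute k m) (hmb : Commute m b)
    (ham : ¬ Commute a m) (hkb : ¬ Commute k b) :
    ∃ j ∈ D, Commute a j ∧ Commute j b := by
  obtain ⟨K⟩ := exists_ctx_at hch hm ha hk (fun e => ham (e ▸ hak)) (fun e => ham (e ▸ hkm))
    hkm.symm hak (fun e => ham e.symm)
  obtain ⟨j, hj, hbj⟩ := exists_sec_comm K hch hb (fun e => hkb (e ▸ hkm)) hmb hkb
  exact ⟨j, hj.1.1, hj.2, hbj.symm⟩

/-- In a primitive class any two non-commuting members have 126 common neighbours. -/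
theorem ncard_common [Finite G] (hch : ∀ t ∈ D, Nonempty (Chart F 6 D t))
    (hconj : ∀ (g : G), ∀ b ∈ D, g * b * g⁻¹ ∈ D) (hprim : Cfsg.IsPrimitiveUnderConj D) {a b : G}
    (ha : a ∈ D) (hb : b ∈ D) (hab : ¬ Commute a b) :
    {g | Mem D a b g}.ncard = 126 := by
  set R : G → G → Prop := fun u v => ∃ j ∈ D, Commute u j ∧ Commute j v with hR
  have Rsymm : ∀ u v, R u v → R v u := fun u v ⟨j, hj, h1, h2⟩ => ⟨j, hj, h2.symm, h1.symm⟩
  have Rtrans : ∀ u v w, u ∈ D → v ∈ D → w ∈ D → R u v → R v w → R u w := by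
    intro u v w hu hv hw ⟨j, hj, h1, h2⟩ ⟨k, hk, h3, h4⟩
    by_cases huv : Commute u v
    · by_cases hvw : Commute v w
      · exact ⟨v, hv, huv, hvw⟩
      by_cases huk : Commute u k
      · exact ⟨k, hk, huk, h4⟩
      exact shorten hch hu hv hk hw huv h3 h4 huk hvw
    by_cases hjk : Commute j k
    · by_cases huk : Commute u k
      · exact ⟨k, hk, huk, h4⟩
      by_cases hjw : Commute j w
      · exact ⟨j, hj, h1, hjw⟩
      exact shorten hch hu hj hk hw h1 hjk h4 huk hjw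
    obtain ⟨i, hi, h5, h6⟩ := shorten hch hu hj hv hk h1 h2 h3 huv hjk
    by_cases huk : Commute u k
    · exact ⟨k, hk, huk, h4⟩
    by_cases hiw : Commute i w
    · exact ⟨i, hi, h5, hiw⟩
    exact shorten hch hu hi hk hw h5 h6 h4 huk hiw
  set B : Set G := {v | v ∈ D ∧ R a v} with hB
  have hblock : ∀ g : G, (fun x => g * x * g⁻¹) '' B = B ∨
      Disjoint ((fun x => g * x * g⁻¹) '' B) B := by
    intro g
    have conjR : ∀ (g : G) u v, R u v → R (g * u * g⁻¹) (g * v * g⁻¹) :=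
      fun g u v ⟨j, hj, h1, h2⟩ => ⟨g * j * g⁻¹, hconj g j hj, (Commute.conj_iff g).2 h1,
        (Commute.conj_iff g).2 h2⟩
    by_cases hd : Disjoint ((fun x => g * x * g⁻¹) '' B) B
    · exact Or.inr hd
    obtain ⟨y, ⟨v, hv, rfl⟩, hy⟩ := Set.not_disjoint_iff.1 hd
    have hga := hconj g a ha
    have haga : R a (g * a * g⁻¹) :=
      Rtrans a (g * v * g⁻¹) _ ha hy.1 hga hy.2 (Rsymm _ _ (conjR g a v hv.2))
    refine Or.inl (Set.ext fun z => ⟨?_, fun hz => ?_⟩)
    · rintro ⟨w, hw, rfl⟩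
      exact ⟨hconj g w hw.1, Rtrans a _ _ ha hga (hconj g w hw.1) haga (conjR g a w hw.2)⟩
    · have hz' : g⁻¹ * z * g ∈ D := by
        have := hconj g⁻¹ z hz.1
        rwa [inv_inv] at this
      refine ⟨g⁻¹ * z * g, ⟨hz', ?_⟩, by group⟩
      have h1 := conjR g⁻¹ _ _ (Rtrans _ a z hga ha hz.1 (Rsymm _ _ haga) hz.2)
      rwa [show g⁻¹ * (g * a * g⁻¹) * g⁻¹⁻¹ = a by group, inv_inv] at h1
  obtain ⟨X⟩ := hch a ha
  obtain ⟨f, hf, -⟩ := exists_frame (F := F) (n := 6) 6 0 (fun i => i.elim0) (fun i => i.elim0)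
    (by norm_num)
  have hu : Iso (f 0 + f 1) := by
    refine ⟨fun e0 => ?_, by rw [h_add_add (by simp [hf _ _]), hf, hf, if_pos rfl, if_pos rfl,
      add_self]⟩
    have h1 := congrArg (fun v => h v (f 0)) e0
    simp [h_add_left, h_zero_left, hf _ _] at h1
  obtain ⟨hkD, hka, hak⟩ := X.mem hu
  rcases hprim.2.2 B (fun v hv => hv.1) hblock with hs | hs
  · exact absurd (hs ⟨hkD, X.pt (f 0 + f 1), hkD, hak, Commute.refl _⟩
      ⟨ha, a, ha, Commute.refl _, Commute.refl _⟩) hka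
  have hbB : b ∈ B := by rw [hs]; exact hb
  obtain ⟨-, j, hj, h1, h2⟩ := hbB
  obtain ⟨K⟩ := exists_ctx_at hch ha hb hj (fun e => hab (e ▸ h2)) (fun e => hab (e ▸ h1)) h1
    h2.symm hab
  exact count hch (fun a _ => hconj a) K

end Cfsg.Agent.FischerUSixMu61
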