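import Cfsg.Agent.Lib.FischerNoUnLocal61
import Cfsg.Agent.Lib.ThreeTransLine

/-!
If the local group of a primitive class of 3-transpositions is `PSU(n,2)` modulo its centre, the
members near a member are the isotropic points of the unitary space; so `n = 6` when `5 ≤ n`.
-/

set_option autoImplicit false
set_option linter.unusedSectionVars false
set_option linter.style.haveILetI false

namespace Cfsg.Agent.FischerUnChart61

open Subgroup Cfsg.Agent.ThreeTransRel Cfsg.Agent.ThreeTransDescent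
open Cfsg.Agent.UnitaryF4Geo Cfsg.Agent.UnitaryF4Line
open Cfsg.Agent.FischerNoUnLocal61 (Chart Iso)

variable {G : Type*} [Group G] [Finite G] {D : Set G}
variable {F : Type} [Field F] [Fintype F] [FourField F] {n : ℕ}

theorem chart_of_iso (hn : 3 ≤ n) (ht : TSys D) (hprim : Cfsg.IsPrimitiveUnderConj D) {d : G}
    (hd : d ∈ D) (e : ↥(loc D d) ⧸ Subgroup.center ↥(loc D d) ≃* Cfsg.PSU n F 2) :
    Nonempty (Chart F n D d) := by
  classical
  set π := QuotientGroup.mk' (Subgroup.center (Cfsg.SU n F 2)) with hπ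
  set φ : ↥(loc D d) →* Cfsg.PSU n F 2 := e.toMonoidHom.comp (QuotientGroup.mk' _) with hφ
  have hone : ∀ x : ↥(loc D d), φ x = 1 ↔ ∀ y ∈ near D d, Commute y (x : G) := fun x =>
    (map_eq_one_iff e e.injective).trans (mk_eq_one_iff x)
  have hsurj : Function.Surjective φ := e.surjective.comp (QuotientGroup.mk'_surjective _)
  have hrefl : ∀ p q : ↥(loc D d), (p : G) ∈ near D d → (q : G) ∈ near D d →
      Commute (φ p) (φ q) → Commute (p : G) (q : G) := by
    intro p q hp hq hpq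
    by_contra hne
    have e1 : φ (p * q * p) = φ q := by
      rw [map_mul, map_mul, hpq.eq, mul_assoc, ← map_mul φ p p,
        show p * p = 1 from Subtype.ext (ht.sq _ hp.1), map_one, mul_one]
    rw [show p * q * p = q * p * q from Subtype.ext (ht.braid _ hp.1 _ hq.1 hne), map_mul] at e1
    have e2 : φ (q * p) = 1 := mul_eq_right.mp e1
    rw [hone] at e2
    have e4 : (p : G) * ((q : G) * p) * (p : G)⁻¹ = (q : G) * p :=
      mul_inv_eq_iff_eq_mul.mpr (e2 p hp).eq
    apply hne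
    show (p : G) * q = q * p
    rw [← e4]; group
  have hinj : ∀ p q : ↥(loc D d), (p : G) ∈ near D d → (q : G) ∈ near D d → φ p = φ q → p = q := by
    intro p q hp hq hpq
    by_contra hne
    exact ThreeTransLine.no_central ht hprim hd hp
      (fibre ht hp hq (fun h => hne (Subtype.ext h)) (hrefl p q hp hq (hpq ▸ Commute.refl _))
        (e.injective hpq))
  obtain ⟨u₀, hu₀⟩ : ∃ u : Fin n → F, Iso u := by
    obtain ⟨b, hb, -⟩ := exists_frame (F := F) (n := n) n 0 (fun i => i.elim0) (fun i => i.elim0)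
      (by omega)
    have h01 : h (b ⟨0, by omega⟩) (b ⟨1, by omega⟩) = 0 := by rw [hb]; simp [Fin.ext_iff]
    refine ⟨b ⟨0, by omega⟩ + b ⟨1, by omega⟩, fun e0 => ?_, ?_⟩
    · have h1 := congrArg (fun v => h v (b ⟨0, by omega⟩)) e0
      simp [h_add_left, h_zero_left, hb _ _, Fin.ext_iff] at h1
    · rw [FischerNoUnLocal61.h_add_add h01, hb, hb, if_pos rfl, if_pos rfl, add_self]
  have hI : IsThree (φ '' {x | (x : G) ∈ near D d}) := by
    refine ⟨?_, ?_, ?_, ?_, ?_⟩
    · rintro _ ⟨x, hx, rfl⟩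
      rw [← map_mul, show x * x = 1 from Subtype.ext (ht.sq _ hx.1), map_one]
    · rintro _ ⟨x, hx, rfl⟩ h1
      exact ThreeTransLine.no_central ht hprim hd hx ((hone x).mp h1)
    · rintro _ ⟨x, hx, rfl⟩ _ ⟨y, hy, rfl⟩ hne
      rw [← map_mul, ← map_mul, ← map_mul, ← map_mul]
      exact congrArg φ (Subtype.ext (ht.braid _ hx.1 _ hy.1 fun h =>
        hne ((show Commute x y from Subtype.ext h).map φ)))
    · intro g x hx
      obtain ⟨g, rfl⟩ := hsurj g
      obtain ⟨x, hx, rfl⟩ := hx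
      exact ⟨g * x * g⁻¹, near_conj ht (commute_d_of_mem_loc g.2).symm hx, by simp⟩
    · by_contra hne
      rw [Set.not_nonempty_iff_eq_empty, Set.image_eq_empty] at hne
      have hbot : loc D d = ⊥ := eq_bot_iff.mpr ((closure_le _).mpr fun y hy =>
        (Set.notMem_empty (⟨y, near_le_loc hy⟩ : ↥(loc D d))
          (hne ▸ (show (⟨y, near_le_loc hy⟩ : ↥(loc D d)) ∈ {x : ↥(loc D d) | (x : G) ∈ near D d}
            from hy))).elim)
      obtain ⟨x, hx⟩ := hsurj (π (T u₀ hu₀.2))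
      rw [show x = 1 from Subtype.ext (mem_bot.mp (hbot.le x.2)), map_one, ← map_one π] at hx
      exact T_ne_one hu₀.2 hu₀.1
        (eq_of_mk_eq (by omega) (T_sq _ _) (one_mul 1) hx.symm)
  have hlift : ∀ v : Fin n → F, ∃ x : G, ∀ hv : Iso v,
      ∃ hx : x ∈ near D d, φ ⟨x, near_le_loc hx⟩ = π (T v hv.2) := by
    intro v
    by_cases hv : Iso v
    · obtain ⟨x, hx, ex⟩ := transvection_mem hn hI hv.2 hv.1
      exact ⟨x, fun _ => ⟨hx, ex⟩⟩
    · exact ⟨1, fun h => (hv h).elim⟩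
  choose pt hpt using hlift
  have himg : ∀ {v : Fin n → F} (hv : Iso v) {x : G} (hx : x ∈ near D d),
      φ ⟨x, near_le_loc hx⟩ = π (T v hv.2) → pt v = x := by
    intro v hv x hx ex
    obtain ⟨hm, em⟩ := hpt v hv
    exact congrArg Subtype.val (hinj ⟨pt v, near_le_loc hm⟩ ⟨x, near_le_loc hx⟩ hm hx
      (em.trans ex.symm))
  refine ⟨⟨pt, fun hv => ?_, fun {g} hg hgd hdg => ?_, fun {v w} hv hw => ?_,
    fun {v w} hv hw => ?_, fun {v w} hv hw => ?_⟩⟩
  · obtain ⟨hm, -⟩ := hpt _ hv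
    exact hm
  · have hm : g ∈ near D d := ⟨hg, hgd, hdg⟩
    obtain ⟨u, hu, hu0, eu⟩ := exists_transvection (by omega) hI
      (x := φ ⟨g, near_le_loc hm⟩) ⟨_, hm, rfl⟩
    exact ⟨u, ⟨hu0, hu⟩, himg ⟨hu0, hu⟩ hm eu.symm⟩
  · obtain ⟨hm, em⟩ := hpt v hv
    obtain ⟨hm', em'⟩ := hpt w hw
    constructor
    · intro he
      have : π (T w hw.2) = π (T v hv.2) := by
        rw [← em, ← em']; exact congrArg φ (Subtype.ext he.symm)
      exact T_inj hw.2 hv.2 hw.1 (eq_of_mk_eq (by omega) (T_sq _ _) (T_sq _ _) this)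
    · rintro ⟨c, hc, rfl⟩
      refine himg hv hm' ?_
      rw [em', T_smul hc hv.2]
  · obtain ⟨hm, em⟩ := hpt v hv
    obtain ⟨hm', em'⟩ := hpt w hw
    constructor
    · intro hc
      refine orth_of_commute hv.2 hw.2 hv.1 (commute_of_mk (by omega) (T_sq _ _) (T_sq _ _) ?_)
      rw [← em, ← em']
      exact (show Commute (⟨_, near_le_loc hm⟩ : ↥(loc D d)) ⟨_, near_le_loc hm'⟩ from
        Subtype.ext hc.eq).map φ
    · intro h0
      refine hrefl ⟨_, near_le_loc hm⟩ ⟨_, near_le_loc hm'⟩ hm hm' ?_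
      rw [em, em']
      exact (T_commute hv.2 hw.2 h0).map π
  · obtain ⟨hm, em⟩ := hpt v hv
    obtain ⟨hm', em'⟩ := hpt w hw
    have hc : pt v * pt w * (pt v)⁻¹ ∈ near D d := near_conj ht hm.2.2.symm hm'
    refine (himg (hv.tv hw) hc ?_).symm
    rw [show (⟨_, near_le_loc hc⟩ : ↥(loc D d)) = ⟨_, near_le_loc hm⟩ * ⟨_, near_le_loc hm'⟩ *
      ⟨_, near_le_loc hm⟩⁻¹ from rfl, map_mul, map_mul, map_inv, em, em', ← map_inv, ← map_mul,
      ← map_mul, T_conj]
    exact congrArg π (T_congr ((T_act v hv.2 w).trans (tv_apply v w).symm) _ _)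

/-- Charts move with conjugation. -/
theorem chart_conj (ht : TSys D) {d : G} (C : Chart F n D d) (g : G) :
    Nonempty (Chart F n D (g * d * g⁻¹)) := by
  refine ⟨⟨fun v => g * C.pt v * g⁻¹, fun hv => ?_, fun {x} hx hxd hdx => ?_,
    fun {v w} hv hw => ?_, fun {v w} hv hw => ?_, fun {v w} hv hw => ?_⟩⟩
  · obtain ⟨h1, h2, h3⟩ := C.mem hv
    exact ⟨ht.conj g _ h1, fun e => h2 (mul_left_cancel (mul_right_cancel e)),
      (Commute.conj_iff g).mpr h3⟩
  · have h1 := ht.conj g⁻¹ x hx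
    rw [inv_inv] at h1
    obtain ⟨v, hv, e⟩ := C.surj h1 (fun e => hxd (by rw [← e]; group)) (by
      refine (Commute.conj_iff g).mp ?_
      rwa [show g * (g⁻¹ * x * g) * g⁻¹ = x by group])
    exact ⟨v, hv, by rw [e]; group⟩
  · rw [← C.eq_iff hv hw]
    exact ⟨fun e => mul_left_cancel (mul_right_cancel e), fun e => by rw [e]⟩
  · rw [Commute.conj_iff, C.comm hv hw]
  · rw [← C.conj hv hw]; group

/-- A primitive class of 3-transpositions with local group `PSU(n,2)` modulo the centre, `n ≥ 5`,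
has `n = 6`. -/
theorem eq_six (hn : 5 ≤ n) (ht : TSys D) (hprim : Cfsg.IsPrimitiveUnderConj D) {d : G}
    (hd : d ∈ D) (e : ↥(loc D d) ⧸ Subgroup.center ↥(loc D d) ≃* Cfsg.PSU n F 2) : n = 6 := by
  by_contra h6
  obtain ⟨C⟩ := chart_of_iso (by omega) ht hprim hd e
  have h := FischerNoUnLocal61.no_unitary_local hn h6 (fun a ha => ht.sq a ha)
    (fun a _ b hb => ht.conj a b hb) fun t htD => by
      obtain ⟨g, rfl⟩ := hprim.1 d hd t htD
      exact chart_conj ht C g
  rw [h] at hd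
  exact hd

/-- The same, from the statement's hypotheses. -/
theorem eq_six_of_group {F : Type} [Field F] [Fintype F] (hF : Fintype.card F = 4) {n : ℕ}
    (hn : 5 ≤ n) (hD : Cfsg.IsThreeTranspositionGroup D) (hprim : Cfsg.IsPrimitiveUnderConj D)
    {d : G} (hd : d ∈ D)
    (e : ↥(Subgroup.closure {y : G | y ∈ D ∧ y ≠ d ∧ Commute d y}) ⧸
      Subgroup.center ↥(Subgroup.closure {y : G | y ∈ D ∧ y ≠ d ∧ Commute d y}) ≃*
        Cfsg.PSU n F 2) : n = 6 := by
  haveI : FourField F := ⟨hF⟩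
  exact eq_six hn (tsys_of_group hD) hprim hd e

end Cfsg.Agent.FischerUnChart61
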