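import Cfsg.Agent.Lib.FischerUnFeet99

/-!
The space of rows as a unitary space over the field with four elements, and the vector space in
which the transpositions become isotropic points.
-/

set_option autoImplicit false
set_option linter.style.haveILetI false
set_option linter.unusedSectionVars false

namespace Cfsg.Agent.FischerUnCoord99

open Cfsg.Agent.FischerPolar99
open Cfsg.Agent.FischerUnLabel99
open Cfsg.Agent.FischerUnFeet99
open Cfsg.Agent.UnitaryF4Geo (FourField)

variable {G : Type*} [Group G] {D : Set G} {x z : G}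
variable {F : Type} [Field F] [Fintype F] [FourField F]

variable (Γ : Gauge D x z F)

open scoped Classical in
/-- The functional pairing with a vector of the space of rows. -/
noncomputable def pair (u : T D x z → F) : (T D x z → F) →ₗ[F] F :=
  if h : ∃ Φ : (T D x z → F) →ₗ[F] F, ∀ e, Φ (r Γ e) = u e ^ 2 then h.choose else 0

variable [Finite G] (P : Frame D x z)
include P

theorem pair_row {u : T D x z → F} (hu : u ∈ E Γ) (e : T D x z) : pair Γ u (r Γ e) = u e ^ 2 := by
  have h := exists_pair Γ P hu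
  rw [pair, dif_pos h]
  exact h.choose_spec e

theorem pair_congr {u : T D x z → F} (hu : u ∈ E Γ) {Φ : (T D x z → F) →ₗ[F] F}
    (hΦ : ∀ e, Φ (r Γ e) = u e ^ 2) {w : T D x z → F} (hw : w ∈ E Γ) : pair Γ u w = Φ w :=
  LinearMap.eqOn_span (fun w hw => by
    obtain ⟨e, rfl⟩ := hw
    rw [pair_row Γ P hu, hΦ]) hw

theorem row_mem (a : T D x z) : r Γ a ∈ E Γ := Submodule.subset_span ⟨a, rfl⟩

theorem pair_at_row (a : T D x z) {w : T D x z → F} (hw : w ∈ E Γ) : pair Γ (r Γ a) w = w a :=
  pair_congr Γ P (row_mem Γ P a) (Φ := LinearMap.proj a) (fun e => Γ.φ_symm e a) hw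

theorem pair_add {u u' w : T D x z → F} (hu : u ∈ E Γ) (hu' : u' ∈ E Γ) (hw : w ∈ E Γ) :
    pair Γ (u + u') w = pair Γ u w + pair Γ u' w :=
  pair_congr Γ P (add_mem hu hu') (Φ := pair Γ u + pair Γ u') (fun e => by
    rw [LinearMap.add_apply, pair_row Γ P hu, pair_row Γ P hu', Pi.add_apply,
      UnitaryF4Geo.sq_add]) hw

theorem pair_smul (c : F) {u w : T D x z → F} (hu : u ∈ E Γ) (hw : w ∈ E Γ) :
    pair Γ (c • u) w = c ^ 2 * pair Γ u w :=
  pair_congr Γ P (Submodule.smul_mem _ c hu) (Φ := c ^ 2 • pair Γ u) (fun e => by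
    rw [LinearMap.smul_apply, pair_row Γ P hu, Pi.smul_apply, smul_eq_mul, smul_eq_mul, mul_pow]) hw

theorem pair_symm {u w : T D x z → F} (hu : u ∈ E Γ) (hw : w ∈ E Γ) :
    pair Γ w u = pair Γ u w ^ 2 := by
  induction hu using Submodule.span_induction with
  | mem u hu => obtain ⟨e, rfl⟩ := hu; rw [pair_row Γ P hw, pair_at_row Γ P e hw]
  | zero =>
    have h := pair_smul Γ P 0 (zero_mem (E Γ)) hw
    rw [zero_smul, zero_pow two_ne_zero, zero_mul] at h
    rw [map_zero, h, zero_pow two_ne_zero]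
  | add u u' h1 h2 h h' =>
    rw [map_add, h, h', pair_add Γ P h1 h2 hw, UnitaryF4Geo.sq_add]
  | smul c u h1 h =>
    rw [map_smul, h, pair_smul Γ P c h1 hw, smul_eq_mul, mul_pow, UnitaryF4Geo.sq_sq]

/-- An orthonormal family in the space of rows. -/
def ON {k : ℕ} (f : Fin k → T D x z → F) : Prop :=
  (∀ i, f i ∈ E Γ) ∧ ∀ i j, pair Γ (f j) (f i) = if i = j then 1 else 0

theorem ON.sum_mem {k : ℕ} {f : Fin k → T D x z → F} (hf : ON Γ f) (c : Fin k → F) :
    ∑ i, c i • f i ∈ E Γ :=
  Submodule.sum_mem _ fun i _ => Submodule.smul_mem _ _ (hf.1 i)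

theorem ON.pair_sum {k : ℕ} {f : Fin k → T D x z → F} (hf : ON Γ f) (c : Fin k → F) (j : Fin k) :
    pair Γ (f j) (∑ i, c i • f i) = c j := by
  classical
  rw [map_sum, Finset.sum_eq_single j]
  · rw [map_smul, hf.2, if_pos rfl, smul_eq_mul, mul_one]
  · intro i _ hij; rw [map_smul, hf.2, if_neg hij, smul_zero]
  · simp

theorem ON.le {k : ℕ} {f : Fin k → T D x z → F} (hf : ON Γ f) :
    k ≤ Module.finrank F (T D x z → F) := by
  classical
  haveI := Fintype.ofFinite (T D x z)
  have hli : LinearIndependent F f := by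
    rw [Fintype.linearIndependent_iff]
    intro c hc j
    rw [← hf.pair_sum Γ P c j, hc, map_zero]
  simpa using hli.fintype_card_le_finrank

theorem ON.extend {k : ℕ} {f : Fin k → T D x z → F} (hf : ON Γ f) {y : T D x z → F}
    (hy : y ∈ E Γ) (hy0 : y ≠ 0) (hyf : ∀ i, pair Γ (f i) y = 0) :
    ∃ f' : Fin (k + 1) → T D x z → F, ON Γ f' := by
  classical
  have hfy : ∀ {w}, w ∈ E Γ → (∀ i, pair Γ (f i) w = 0) → pair Γ w w = 1 →
      ∃ f' : Fin (k + 1) → T D x z → F, ON Γ f' := by
    intro w hw h1 h2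
    refine ⟨Fin.snoc f w, fun i => ?_, fun i j => ?_⟩
    · cases i using Fin.lastCases with
      | last => simpa using hw
      | cast i => simpa using hf.1 i
    · cases i using Fin.lastCases with
      | last =>
        cases j using Fin.lastCases with
        | last => simpa using h2
        | cast j => simp [h1 j, (Fin.castSucc_lt_last j).ne']
      | cast i =>
        cases j using Fin.lastCases with
        | last => simp [pair_symm Γ P (hf.1 i) hw, h1 i]
        | cast j => simp [hf.2 i j]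
  have hsymm : ∀ {w}, w ∈ E Γ → pair Γ w w = 0 ∨ pair Γ w w = 1 := fun hw =>
    UnitaryF4Geo.fixed_cases (pair_symm Γ P hw hw).symm
  rcases hsymm hy with e | e
  swap
  · exact hfy hy hyf e
  obtain ⟨a, ha⟩ := Function.ne_iff.mp hy0
  replace ha : y a ≠ 0 := ha
  set q : T D x z → F := (y a ^ 2)⁻¹ • r Γ a with hq
  have hqE : q ∈ E Γ := Submodule.smul_mem _ _ (row_mem Γ P a)
  have hyq : pair Γ y q = 1 := by
    rw [hq, map_smul, pair_row Γ P hy, smul_eq_mul, inv_mul_cancel₀ (pow_ne_zero 2 ha)]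
  set q' := q + ∑ i, pair Γ (f i) q • f i with hq'
  have hsE := hf.sum_mem Γ P fun i => pair Γ (f i) q
  have hqE' : q' ∈ E Γ := add_mem hqE hsE
  have h1 : ∀ i, pair Γ (f i) q' = 0 := fun i => by
    rw [hq', map_add, hf.pair_sum Γ P, UnitaryF4Geo.add_self]
  have hyq' : pair Γ y q' = 1 := by
    rw [hq', map_add, hyq, map_sum, Finset.sum_eq_zero fun i _ => ?_, add_zero]
    rw [map_smul, pair_symm Γ P (hf.1 i) hy, hyf i, zero_pow two_ne_zero, smul_zero]
  clear_value q'
  rcases hsymm hqE' with e' | e'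
  swap
  · exact hfy hqE' h1 e'
  obtain ⟨w, hw⟩ := UnitaryF4Geo.exists_omega (F := F)
  refine hfy (w := q' + w • y) (add_mem hqE' (Submodule.smul_mem _ _ hy)) (fun i => ?_) ?_
  · rw [map_add, map_smul, h1, hyf, smul_zero, add_zero]
  · rw [pair_add Γ P hqE' (Submodule.smul_mem _ _ hy) (add_mem hqE' (Submodule.smul_mem _ _ hy)),
      pair_smul Γ P w hy (add_mem hqE' (Submodule.smul_mem _ _ hy)), map_add, map_add, map_smul,
      map_smul, e, e', hyq', pair_symm Γ P hy hqE', hyq', smul_eq_mul, smul_eq_mul]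
    linear_combination hw + w * (UnitaryF4Geo.two_eq_zero (F := F))

theorem exists_complete : ∀ (m k : ℕ) (f : Fin k → T D x z → F), ON Γ f →
    Module.finrank F (T D x z → F) ≤ k + m →
    ∃ (k : ℕ) (f : Fin k → T D x z → F), ON Γ f ∧
      ∀ u ∈ E Γ, (∀ i, pair Γ (f i) u = 0) → u = 0 := by
  intro m
  induction m with
  | zero =>
    intro k f hf hk
    refine ⟨k, f, hf, fun u hu h => ?_⟩
    by_contra hne
    obtain ⟨f', hf'⟩ := hf.extend Γ P hu hne h
    have := hf'.le Γ P
    omega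
  | succ m ih =>
    intro k f hf hk
    by_cases h : ∀ u ∈ E Γ, (∀ i, pair Γ (f i) u = 0) → u = 0
    · exact ⟨k, f, hf, h⟩
    push Not at h
    obtain ⟨u, hu, h1, hne⟩ := h
    obtain ⟨f', hf'⟩ := hf.extend Γ P hu hne h1
    exact ih _ f' hf' (by omega)

/-- The space of rows in coordinates. -/
theorem exists_coord : ∃ (k : ℕ) (L : (T D x z → F) →ₗ[F] (Fin k → F)),
    (∀ u ∈ E Γ, ∀ w ∈ E Γ, Cfsg.hermForm k F 2 (L u) (L w) = pair Γ w u) ∧
    (∀ u ∈ E Γ, L u = 0 → u = 0) ∧ ∀ c : Fin k → F, ∃ u ∈ E Γ, L u = c := by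
  classical
  obtain ⟨k, f, hf, hcomp⟩ := exists_complete Γ P (Module.finrank F (T D x z → F)) 0 Fin.elim0
    ⟨fun i => i.elim0, fun i => i.elim0⟩ (by omega)
  have hexp : ∀ u ∈ E Γ, u = ∑ i, pair Γ (f i) u • f i := by
    intro u hu
    refine funext fun e => UnitaryF4Geo.eq_of_add_eq_zero ?_
    refine congrFun (hcomp (u + ∑ i, pair Γ (f i) u • f i) (add_mem hu (hf.sum_mem Γ P _))
      fun i => ?_) e
    rw [map_add, hf.pair_sum Γ P, UnitaryF4Geo.add_self]
  refine ⟨k, LinearMap.pi fun i => pair Γ (f i), fun u hu w hw => ?_, fun u hu h => ?_,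
    fun c => ⟨_, hf.sum_mem Γ P c, funext fun j => hf.pair_sum Γ P c j⟩⟩
  · conv_rhs => rw [hexp u hu]
    rw [map_sum]
    refine Finset.sum_congr rfl fun i _ => ?_
    rw [map_smul, smul_eq_mul, LinearMap.pi_apply, LinearMap.pi_apply,
      pair_symm Γ P (hf.1 i) hw]
  · exact hcomp u hu fun i => congrFun h i

/-- A space with a hyperbolic line added to the space of rows. -/
structure Coord (Γ : Gauge D x z F) where
  n : ℕ
  emb : F → (T D x z → F) → F → (Fin n → F)
  add : ∀ a b c d (u w : T D x z → F), emb (a + b) (u + w) (c + d) = emb a u c + emb b w d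
  smul : ∀ k a c (u : T D x z → F), emb (k * a) (k • u) (k * c) = k • emb a u c
  herm : ∀ a b c d, ∀ u ∈ E Γ, ∀ w ∈ E Γ,
    Cfsg.hermForm n F 2 (emb a u c) (emb b w d) = a * d ^ 2 + c * b ^ 2 + pair Γ w u
  inj : ∀ a b c d, ∀ u ∈ E Γ, ∀ w ∈ E Γ, emb a u c = emb b w d → a = b ∧ u = w ∧ c = d
  surj : ∀ X, ∃ a c, ∃ u ∈ E Γ, X = emb a u c
  four_le : 4 ≤ n

theorem exists_space : Nonempty (Coord Γ) := by
  obtain ⟨k, L, hiso, hinj, hsurj⟩ := exists_coord Γ P
  obtain ⟨w, hw⟩ := UnitaryF4Geo.exists_omega (F := F)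
  have two := UnitaryF4Geo.two_eq_zero (F := F)
  have hk : 2 ≤ k := by
    obtain ⟨a⟩ := exists_T P
    have h0 : L (r Γ a) ≠ 0 := fun h => row_ne Γ P a (hinj _ (row_mem Γ P a) h)
    have h1 : Cfsg.hermForm k F 2 (L (r Γ a)) (L (r Γ a)) = 0 := by
      rw [hiso _ (row_mem Γ P a) _ (row_mem Γ P a), pair_at_row Γ P a (row_mem Γ P a), row_self Γ P]
    by_contra hlt
    rcases k with _ | _ | k
    · exact h0 (funext fun i => i.elim0)
    · apply h0
      funext i
      rw [Fin.fin_one_eq_zero i, Pi.zero_apply]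
      simpa [Cfsg.hermForm] using h1
    · omega
  let emb : F → (T D x z → F) → F → (Fin (k + 2) → F) := fun a u c =>
    Fin.cons (a + c * w) (Fin.cons (a + c * w ^ 2) (L u))
  refine ⟨⟨k + 2, emb, fun a b c d u v => ?_, fun t a c u => ?_, fun a b c d u hu v hv => ?_,
    fun a b c d u hu v hv h => ?_, fun X => ?_, by omega⟩⟩
  · funext i
    cases i using Fin.cases with
    | zero => simp [emb]; ring
    | succ i =>
      cases i using Fin.cases with
      | zero => simp [emb]; ring
      | succ i => simp [emb]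
  · funext i
    cases i using Fin.cases with
    | zero => simp [emb]; ring
    | succ i =>
      cases i using Fin.cases with
      | zero => simp [emb]; ring
      | succ i => simp [emb]
  · rw [← hiso u hu v hv]
    simp only [Cfsg.hermForm, emb, Fin.sum_univ_succ, Fin.cons_zero, Fin.cons_succ,
      UnitaryF4Geo.sq_add, mul_pow]
    have w3 := UnitaryF4Geo.cube (UnitaryF4Geo.omega_ne hw).1
    have w4 := UnitaryF4Geo.pow_four w
    linear_combination (a * d ^ 2 + c * b ^ 2) * hw + (a * d ^ 2) * w4 + (c * d ^ 2 * (w ^ 3 + 2)) * w3 +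
      (a * b ^ 2 + a * d ^ 2 * w + c * b ^ 2 * w + c * d ^ 2) * two
  · have h0 := congrFun h 0
    have h1' := congrFun h (Fin.succ 0)
    have h2 := fun i : Fin k => congrFun h i.succ.succ
    simp only [emb, Fin.cons_zero, Fin.cons_succ] at h0 h1' h2
    have hc : c = d := by
      linear_combination h0 + h1' + (-c * w - a + b + d * w) * two + (c - d) * hw * (-1)
    refine ⟨?_, ?_, hc⟩
    · rw [hc] at h0; exact add_right_cancel h0
    · have := hinj (u - v) (sub_mem hu hv) (by rw [map_sub, sub_eq_zero]; exact funext h2)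
      exact sub_eq_zero.mp this
  · obtain ⟨u, hu, hL⟩ := hsurj fun i => X i.succ.succ
    refine ⟨X 0 + (X 0 + X (Fin.succ 0)) * w, X 0 + X (Fin.succ 0), u, hu, funext fun i => ?_⟩
    cases i using Fin.cases with
    | zero =>
      simp only [emb, Fin.cons_zero]
      linear_combination (-(X 0 + X (Fin.succ 0)) * w) * two
    | succ i =>
      cases i using Fin.cases with
      | zero =>
        simp only [emb, Fin.cons_zero, Fin.cons_succ]
        linear_combination (-(X 0 + X (Fin.succ 0))) * hw - (X 0 + X (Fin.succ 0)) * w * two -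
          X 0 * two
      | succ i => simp only [emb, Fin.cons_succ, hL]

end Cfsg.Agent.FischerUnCoord99
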