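import Cfsg.Agent.Lib.FischerUnLabel99

/-!
Coordinates of the transpositions missing the vertex: feet in the classes and the position against
the transposition `z`.
-/

set_option autoImplicit false
set_option linter.style.haveILetI false
set_option linter.unusedSectionVars false

namespace Cfsg.Agent.FischerUnFeet99

open Cfsg.Agent.ThreeTransp
open Cfsg.Agent.FischerPolar99
open Cfsg.Agent.FischerUnLabel99
open Cfsg.Agent.UnitaryF4Geo (FourField)

variable {G : Type*} [Group G] {D : Set G} {x z : G}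
variable {F : Type} [Field F] [Fintype F] [FourField F]

/-- The transpositions missing the vertex. -/
def A (D : Set G) (x : G) : Set G := {p | p ∈ D ∧ ¬ Commute p x}

variable (Γ : Gauge D x z F)

/-- The row of a member of the perpendicular. -/
def r (a : T D x z) : T D x z → F := fun b => Γ.φ a b

/-- The space of rows. -/
def E : Submodule F (T D x z → F) := Submodule.span F (Set.range (r Γ))

open scoped Classical in
/-- The translation at `a` corrected by the vertex. -/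
noncomputable def s (a : T D x z) (l : F) : G := if l = 0 then 1 else x * Γ.t a l

/-- The members of the line through `a` and `z`, away from `a`. -/
noncomputable def Y (a : T D x z) (l : F) : G := s Γ a l * z * s Γ a l

open scoped Classical in
/-- The label of the foot in the class of `b`. -/
noncomputable def lab (p : G) (b : T D x z) : F :=
  if h : ∃ l, Commute p (Γ.mem b l) then h.choose else 0

/-- The vector of feet. -/
noncomputable def v (p : G) : T D x z → F := fun b => lab Γ p b ^ 2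

variable [Finite G] (P : Frame D x z)
include P

theorem row_self (a : T D x z) : r Γ a a = 0 := (Γ.φ_zero a a).mpr (Commute.refl _)

theorem exists_far' (a : T D x z) : ∃ b : T D x z, ¬ Commute a.1 b.1 := by
  obtain ⟨b, hb, hn⟩ := exists_far P.C P.hx a.2.1
  obtain ⟨c, hc⟩ := P.mem_T hb
  exact ⟨c, fun h => hn (hc.2 a.1 a.2.1.1 a.2.1.2.2 h.symm).symm⟩

theorem exists_T : Nonempty (T D x z) := by
  obtain ⟨y, hy, -⟩ := dx_nonempty P.C P.hx
  obtain ⟨a, -⟩ := P.mem_T hy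
  exact ⟨a⟩

theorem φ_ne {a b : T D x z} (h : ¬ Commute a.1 b.1) : Γ.φ a b ≠ 0 :=
  fun e => h ((Γ.φ_zero b a).mp e).symm

/-- Members with proportional rows are equal. -/
theorem row_eq {a e : T D x z} {c : F} (h : r Γ e = c • r Γ a) : e = a := by
  refine (P.T_eq (a := a) (b := e) ⟨e.2.1, fun g hg g1 g2 => ?_⟩).symm
  by_cases hgx : g = x
  · exact hgx.symm ▸ e.2.1.2.2.symm
  obtain ⟨b, hb⟩ := P.mem_T (m := g) ⟨hg, hgx, g1⟩
  have hab : Commute a.1 b.1 := (rule2 P.C P.hx b.2.1 hb a.2.1.1 a.2.1.2.2 g2.symm).symm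
  have hz0 : Γ.φ e b = 0 := by
    have := congrFun h b
    simp only [r, Pi.smul_apply, smul_eq_mul] at this
    rw [this, (Γ.φ_zero b a).mpr hab.symm, mul_zero]
  exact (hb.2 e.1 e.2.1.1 e.2.1.2.2 ((Γ.φ_zero b e).mp hz0)).symm

theorem row_ne (a : T D x z) : r Γ a ≠ 0 := by
  obtain ⟨b, hb⟩ := exists_far' P a
  exact fun h => φ_ne Γ P hb (congrFun h b)

/-! ### Feet -/

theorem mem_dx (b : T D x z) (l : F) : Γ.mem b l ∈ Dx D x := (Γ.mem_cls b l).1

theorem exists_lab {p : G} (hp : p ∈ A D x) (b : T D x z) : ∃ l, Commute p (Γ.mem b l) := by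
  obtain ⟨m, hm, hpm⟩ := exists_foot P.C P.hx b.2.1 hp.1 hp.2
  obtain ⟨l, rfl⟩ := Γ.mem_surj b m hm
  exact ⟨l, hpm⟩

theorem lab_spec {p : G} (hp : p ∈ A D x) (b : T D x z) : Commute p (Γ.mem b (lab Γ p b)) := by
  have h := exists_lab Γ P hp b
  rw [lab, dif_pos h]
  exact h.choose_spec

theorem lab_eq {p : G} (hp : p ∈ A D x) {b : T D x z} {l : F} (h : Commute p (Γ.mem b l)) :
    lab Γ p b = l :=
  Γ.mem_inj b (foot_unique P.C P.hx b.2.1 hp.1 hp.2 (Γ.mem_cls b _) (Γ.mem_cls b l)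
    (lab_spec Γ P hp b) h)

theorem v_zero_iff {p : G} (hp : p ∈ A D x) (b : T D x z) : v Γ p b = 0 ↔ Commute p b.1 := by
  constructor
  · intro h
    have h0 : lab Γ p b = 0 := by simpa [v] using h
    have := lab_spec Γ P hp b
    rwa [h0, Γ.mem_zero] at this
  · intro h
    rw [v, lab_eq Γ P hp (l := 0) (by rwa [Γ.mem_zero])]
    exact zero_pow two_ne_zero

theorem z_mem : z ∈ A D x := ⟨P.hz, P.hzx⟩

theorem xconj_mem {p : G} (hp : p ∈ A D x) : x * p * x ∈ A D x :=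
  ⟨P.C.tc.refl_mem P.hx hp.1, fun h => third_not_comm P.C P.hx (fun e => hp.2 e.symm) h.symm⟩

theorem v_z : v Γ z = 0 := funext fun b => (v_zero_iff Γ P (z_mem P) b).mpr b.2.2

theorem v_x {p : G} (hp : p ∈ A D x) : v Γ (x * p * x) = v Γ p := by
  funext b
  show lab Γ _ b ^ 2 = lab Γ p b ^ 2
  rw [lab_eq Γ P (xconj_mem P hp) (l := lab Γ p b)]
  have h := (refl_comm P.C P.hx).mpr (lab_spec Γ P hp b)
  rwa [P.C.tc.fix P.hx (mem_dx Γ P b _).2.2] at h

theorem tconj_eq (a : T D x z) (l : F) (p : G) : Γ.t a l * (Γ.t a l * p * Γ.t a l) * Γ.t a l = p := by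
  calc _ = (Γ.t a l * Γ.t a l) * p * (Γ.t a l * Γ.t a l) := by group
    _ = p := by rw [t_sq P Γ, one_mul, mul_one]

theorem xconj_eq (p : G) : x * (x * p * x) * x = p := P.C.tc.refl_refl P.hx p

theorem tconj_x (a : T D x z) (l : F) (p : G) :
    Γ.t a l * (x * p * x) * Γ.t a l = x * (Γ.t a l * p * Γ.t a l) * x := by
  calc Γ.t a l * (x * p * x) * Γ.t a l = (Γ.t a l * x) * p * (x * Γ.t a l) := by group
    _ = (x * Γ.t a l) * p * (Γ.t a l * x) := by rw [(t_x P Γ a l).eq]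
    _ = _ := by group

theorem tconj_comm (a : T D x z) (l : F) {p q : G} :
    Commute (Γ.t a l * p * Γ.t a l) (Γ.t a l * q * Γ.t a l) ↔ Commute p q := by
  have := commute_conj_iff (g := Γ.t a l) (a := p) (b := q)
  rwa [t_inv P Γ] at this

theorem tconj_mem (a : T D x z) (l : F) {p : G} (hp : p ∈ A D x) :
    Γ.t a l * p * Γ.t a l ∈ A D x := by
  refine ⟨?_, fun h => hp.2 ?_⟩
  · have := P.C.tc.conj (Γ.t a l) p hp.1
    rwa [t_inv P Γ] at this
  · rw [← tconj_comm Γ P a l]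
    rwa [(t_x P Γ a l).eq, mul_assoc x, t_sq P Γ, mul_one]

theorem lab_t (a : T D x z) (l : F) {p : G} (hp : p ∈ A D x) (b : T D x z) :
    lab Γ (Γ.t a l * p * Γ.t a l) b = lab Γ p b + l * Γ.φ b a := by
  refine lab_eq Γ P (tconj_mem Γ P a l hp) ?_
  rw [← t_mem P Γ, tconj_comm Γ P]
  exact lab_spec Γ P hp b

theorem v_t (a : T D x z) (l : F) {p : G} (hp : p ∈ A D x) :
    v Γ (Γ.t a l * p * Γ.t a l) = v Γ p + l ^ 2 • r Γ a := by
  funext b
  show lab Γ _ b ^ 2 = lab Γ p b ^ 2 + l ^ 2 * Γ.φ a b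
  rw [lab_t Γ P a l hp, UnitaryF4Geo.sq_add, mul_pow, ← Γ.φ_symm]

theorem s_zero (a : T D x z) : s Γ a 0 = 1 := if_pos rfl

theorem s_ne (a : T D x z) {l : F} (hl : l ≠ 0) : s Γ a l = x * Γ.t a l := if_neg hl

theorem s_x (a : T D x z) (l : F) : Commute (s Γ a l) x := by
  by_cases hl : l = 0
  · rw [hl, s_zero Γ P]; exact Commute.one_left _
  · rw [s_ne Γ P a hl]; exact (Commute.refl x).mul_left (t_x P Γ a l)

theorem s_sq (a : T D x z) (l : F) : s Γ a l * s Γ a l = 1 := by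
  by_cases hl : l = 0
  · rw [hl, s_zero Γ P, one_mul]
  · rw [s_ne Γ P a hl, show x * Γ.t a l * (x * Γ.t a l) = x * (Γ.t a l * x) * Γ.t a l by group,
      (t_x P Γ a l).eq, ← mul_assoc, P.C.tc.sq x P.hx, one_mul, t_sq P Γ]

theorem s_mul (a : T D x z) (l μ : F) : s Γ a l * s Γ a μ = s Γ a (l + μ) := by
  by_cases hl : l = 0
  · rw [hl, s_zero Γ P, one_mul, zero_add]
  by_cases hμ : μ = 0
  · rw [hμ, s_zero Γ P, mul_one, add_zero]
  by_cases he : l = μ
  · rw [he, s_sq Γ P, UnitaryF4Geo.add_self, s_zero Γ P]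
  have hs : l + μ ≠ 0 := fun e => he (UnitaryF4Geo.eq_of_add_eq_zero e)
  rw [s_ne Γ P a hl, s_ne Γ P a hμ, s_ne Γ P a hs, ← t_mul P Γ a hl hμ he,
    show x * Γ.t a l * (x * Γ.t a μ) = x * (Γ.t a l * x) * Γ.t a μ by group, (t_x P Γ a l).eq,
    ← mul_assoc, P.C.tc.sq x P.hx, one_mul]

theorem sconj_eq (a : T D x z) (l : F) (p : G) : s Γ a l * (s Γ a l * p * s Γ a l) * s Γ a l = p := by
  calc _ = (s Γ a l * s Γ a l) * p * (s Γ a l * s Γ a l) := by group
    _ = p := by rw [s_sq Γ P, one_mul, mul_one]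

theorem sconj_comm (a : T D x z) (l : F) {p q : G} :
    Commute (s Γ a l * p * s Γ a l) (s Γ a l * q * s Γ a l) ↔ Commute p q := by
  have := commute_conj_iff (g := s Γ a l) (a := p) (b := q)
  rwa [inv_eq_of_mul_eq_one_right (s_sq Γ P a l)] at this

theorem sconj_ne (a : T D x z) {l : F} (hl : l ≠ 0) (p : G) :
    s Γ a l * p * s Γ a l = x * (Γ.t a l * p * Γ.t a l) * x := by
  rw [s_ne Γ P a hl]
  conv_lhs => arg 2; rw [← (t_x P Γ a l).eq]
  group

theorem sconj_mem (a : T D x z) (l : F) {p : G} (hp : p ∈ A D x) : s Γ a l * p * s Γ a l ∈ A D x := by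
  by_cases hl : l = 0
  · rwa [hl, s_zero Γ P, one_mul, mul_one]
  · rw [sconj_ne Γ P a hl]; exact xconj_mem P (tconj_mem Γ P a l hp)

theorem v_s (a : T D x z) (l : F) {p : G} (hp : p ∈ A D x) :
    v Γ (s Γ a l * p * s Γ a l) = v Γ p + l ^ 2 • r Γ a := by
  by_cases hl : l = 0
  · rw [hl, s_zero Γ P, one_mul, mul_one, zero_pow two_ne_zero, zero_smul, add_zero]
  · rw [sconj_ne Γ P a hl, v_x Γ P (tconj_mem Γ P a l hp), v_t Γ P a l hp]

theorem Y_mem (a : T D x z) (l : F) : Y Γ a l ∈ A D x := sconj_mem Γ P a l (z_mem P)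

theorem Y_zero (a : T D x z) : Y Γ a (0 : F) = z := by rw [Y, s_zero Γ P, one_mul, mul_one]

theorem v_Y (a : T D x z) (l : F) : v Γ (Y Γ a l) = l ^ 2 • r Γ a := by
  rw [Y, v_s Γ P a l (z_mem P), v_z Γ P, zero_add]

theorem Y_shift (a : T D x z) (l μ : F) : s Γ a μ * Y Γ a l * s Γ a μ = Y Γ a (l + μ) := by
  rw [Y, Y]
  calc s Γ a μ * (s Γ a l * z * s Γ a l) * s Γ a μ
      = (s Γ a μ * s Γ a l) * z * (s Γ a l * s Γ a μ) := by group
    _ = _ := by rw [s_mul Γ P, s_mul Γ P, add_comm μ l]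

theorem Y_inj (a : T D x z) : Function.Injective (Y Γ a : F → G) := by
  intro l μ e
  have h := congrArg (v Γ) e
  rw [v_Y Γ P, v_Y Γ P] at h
  have h2 := smul_left_injective F (row_ne Γ P a) h
  rw [← UnitaryF4Geo.sq_sq l, h2, UnitaryF4Geo.sq_sq]

/-- A line through `p` and its foot. -/
theorem line_mem {b : T D x z} {l μ : F} {p : G} (hp : p ∈ A D x) (hl : Commute p (Γ.mem b l))
    (hμ : μ ≠ l) :
    x * (Γ.t b μ * (Γ.t b l * p * Γ.t b l) * Γ.t b μ) * x ∈ Cls D (Γ.mem b l) p := by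
  set m := Γ.mem b l with hm
  set m' := Γ.mem b μ with hm'
  have hmD := mem_dx Γ P b l
  have hm'm : m' ∈ Cls D x m := by
    rw [cls_eq_of_mem P.C P.hx b.2.1 (Γ.mem_cls b l)]; exact Γ.mem_cls b μ
  have hne : m' ≠ m := fun e => hμ (Γ.mem_inj b e)
  have hxm : x ∈ Dx D m := dx_symm P.C P.hx hmD
  have h1 : m' ∈ Cls D m x := by
    have h := cls_line P.C P.hx hmD hm'm hne
    have hm'2 : m' ∈ Dx D m := ⟨hm'm.1.1, hne, cls_comm_base P.C hmD hm'm⟩
    rw [cls_eq_of_mem P.C hmD.1 hm'2 h]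
    exact cls_self P.C hm'2
  have hpm : p ∈ Dx D m := ⟨hp.1, fun e => hp.2 (by rw [e]; exact hmD.2.2.symm), hl.symm⟩
  have hpm' : ¬ Commute p m' := fun h => hμ ((lab_eq Γ P hp h).symm.trans (lab_eq Γ P hp hl))
  have h2 := cls_refl P.C hpm h1
  rw [P.C.tc.braid hp.1 hm'm.1.1 hpm', P.C.tc.braid hp.1 P.hx hp.2] at h2
  have h3 := cls_refl P.C hxm h2
  rw [P.C.tc.refl_refl P.hx] at h3
  have hb : b.1 * m = m * b.1 := t_comm P Γ b l
  have e : Γ.t b μ * (Γ.t b l * p * Γ.t b l) * Γ.t b μ = m' * p * m' := by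
    have e1 : Γ.t b l * p * Γ.t b l = b.1 * p * b.1 := by
      rw [Gauge.t, ← hm]
      calc b.1 * m * p * (b.1 * m) = b.1 * (m * p) * (b.1 * m) := by group
        _ = b.1 * (m * p) * (m * b.1) := by rw [hb]
        _ = b.1 * (p * m) * (m * b.1) := by rw [hl.eq]
        _ = b.1 * p * (m * m) * b.1 := by group
        _ = _ := by rw [P.C.tc.sq m hmD.1, mul_one]
    rw [e1, Gauge.t, ← hm']
    have hb' : b.1 * m' = m' * b.1 := t_comm P Γ b μ
    calc b.1 * m' * (b.1 * p * b.1) * (b.1 * m') = (b.1 * m') * b.1 * p * (b.1 * b.1) * m' := by group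
      _ = (m' * b.1) * b.1 * p * m' := by rw [hb', P.C.tc.sq b.1 b.2.1.1, mul_one]
      _ = m' * (b.1 * b.1) * p * m' := by group
      _ = _ := by rw [P.C.tc.sq b.1 b.2.1.1, mul_one]
  rw [e]
  exact h3

theorem line_cases {b : T D x z} {l : F} {p q : G} (hp : p ∈ A D x) (hl : Commute p (Γ.mem b l))
    (hq : q ∈ Cls D (Γ.mem b l) p) :
    q = p ∨ ∃ μ, μ ≠ l ∧ q = x * (Γ.t b μ * (Γ.t b l * p * Γ.t b l) * Γ.t b μ) * x := by
  classical
  have hmD := mem_dx Γ P b l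
  have hpm : p ∈ Dx D (Γ.mem b l) := ⟨hp.1, fun e => hp.2 (by rw [e]; exact hmD.2.2.symm), hl.symm⟩
  set g : F → G := fun μ =>
    if μ = l then p else x * (Γ.t b μ * (Γ.t b l * p * Γ.t b l) * Γ.t b μ) * x with hg
  have hv : ∀ μ, v Γ (g μ) = v Γ p + (μ ^ 2 + l ^ 2) • r Γ b := by
    intro μ
    simp only [hg]
    split_ifs with h
    · rw [h, UnitaryF4Geo.add_self, zero_smul, add_zero]
    · rw [v_x Γ P (tconj_mem Γ P b μ (tconj_mem Γ P b l hp)), v_t Γ P b μ (tconj_mem Γ P b l hp),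
        v_t Γ P b l hp, add_smul]
      abel
  have hinj : Function.Injective g := by
    intro μ ν e
    have h := congrArg (v Γ) e
    rw [hv, hv] at h
    have h2 := smul_left_injective F (row_ne Γ P b) (add_left_cancel h)
    rw [← UnitaryF4Geo.sq_sq μ, add_right_cancel h2, UnitaryF4Geo.sq_sq]
  have hsub : Set.range g ⊆ Cls D (Γ.mem b l) p := by
    rintro _ ⟨μ, rfl⟩
    simp only [hg]
    split_ifs with h
    · exact cls_self P.C hpm
    · exact line_mem Γ P hp hl h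
  have heq := Set.eq_of_subset_of_ncard_le hsub (by
    rw [P.s4 _ hmD.1 p hpm, Set.ncard_range_of_injective hinj, Nat.card_eq_fintype_card,
      FourField.card_eq]) (Set.toFinite _)
  rw [← heq] at hq
  obtain ⟨μ, rfl⟩ := hq
  by_cases h : μ = l
  · left; simp [hg, h]
  · right; exact ⟨μ, h, by simp [hg, h]⟩

theorem Y_cls (a : T D x z) (l : F) : Y Γ a l ∈ Cls D a.1 z := by
  by_cases hl : l = 0
  · rw [hl, Y_zero Γ P]
    exact cls_self P.C ⟨P.hz, fun e => P.hzx (by rw [e]; exact a.2.1.2.2.symm), a.2.2.symm⟩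
  · have h := line_mem Γ P (b := a) (l := 0) (μ := l) (z_mem P)
      (by rw [Γ.mem_zero]; exact a.2.2) hl
    rw [Γ.mem_zero, t_zero P Γ, one_mul, mul_one] at h
    rwa [Y, sconj_ne Γ P a hl]

theorem z_dx (a : T D x z) : z ∈ Dx D a.1 :=
  ⟨P.hz, fun e => P.hzx (by rw [e]; exact a.2.1.2.2.symm), a.2.2.symm⟩

theorem cls_az {a : T D x z} {q : G} (hq : q ∈ Cls D a.1 z) : ∃ l : F, q = Y Γ a l := by
  rcases line_cases Γ P (b := a) (l := 0) (z_mem P) (by rw [Γ.mem_zero]; exact a.2.2)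
    (by rwa [Γ.mem_zero]) with h | ⟨μ, hμ, h⟩
  · exact ⟨0, h.trans (Y_zero Γ P a).symm⟩
  · refine ⟨μ, ?_⟩
    rw [h, t_zero P Γ, one_mul, mul_one, Y, sconj_ne Γ P a hμ]

theorem Y_comm_z (a : T D x z) (l : F) : Commute z (Y Γ a l) :=
  cls_comm_base P.C (z_dx P a) (Y_cls Γ P a l)

theorem Y_comm_a (a : T D x z) (l : F) : Commute a.1 (Y Γ a l) := (Y_cls Γ P a l).1.2.2

theorem Y_cls_z (a : T D x z) {l : F} (hl : l ≠ 0) : Y Γ a l ∈ Cls D z a.1 := by
  have hne : Y Γ a l ≠ z := fun e => hl (Y_inj Γ P a (e.trans (Y_zero Γ P a).symm))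
  have h := cls_line P.C a.2.1.1 (z_dx P a) (Y_cls Γ P a l) hne
  have hd : Y Γ a l ∈ Dx D z := ⟨(Y_mem Γ P a l).1, hne, Y_comm_z Γ P a l⟩
  rw [cls_eq_of_mem P.C P.hz hd h]
  exact cls_self P.C hd

/-- A transposition missing the vertex and commuting with `z`. -/
theorem perp_z {q : G} (hq : q ∈ A D x) (hqz : Commute q z) :
    ∃ (a : T D x z) (l : F), q = Y Γ a l := by
  by_cases hqe : q = z
  · obtain ⟨a⟩ := exists_T P
    exact ⟨a, 0, hqe.trans (Y_zero Γ P a).symm⟩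
  have hqd : q ∈ Dx D z := ⟨hq.1, hqe, hqz.symm⟩
  obtain ⟨n, hn, hxn⟩ := exists_foot P.C P.hz hqd P.hx fun e => P.hzx e.symm
  have hnx : n ≠ x := fun e => P.hzx (e ▸ hn.1.2.2)
  let a : T D x z := ⟨n, ⟨hn.1.1, hnx, hxn⟩, hn.1.2.2⟩
  have hne : q ≠ n := fun e => hq.2 (by rw [e]; exact hxn.symm)
  have h1 : q ∈ Cls D z n := by rw [cls_eq_of_mem P.C P.hz hqd hn]; exact cls_self P.C hqd
  have h2 := cls_line P.C P.hz hn.1 h1 hne
  have hqn : q ∈ Dx D n := ⟨hq.1, hne, cls_comm_base P.C hn.1 h1⟩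
  have h3 : q ∈ Cls D n z := by rw [cls_eq_of_mem P.C hn.1.1 hqn h2]; exact cls_self P.C hqn
  obtain ⟨l, hl⟩ := cls_az Γ P (a := a) h3
  exact ⟨a, l, hl⟩

/-- The transpositions reached from `z`. -/
inductive Reach : G → Prop
  | base : Reach z
  | x_conj {p : G} : Reach p → Reach (x * p * x)
  | t_conj {p : G} (a : T D x z) (l : F) : Reach p → Reach (Γ.t a l * p * Γ.t a l)

theorem reach_t {p : G} {a : T D x z} {l : F} (h : Reach Γ (Γ.t a l * p * Γ.t a l)) : Reach Γ p := by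
  have h' := Reach.t_conj a l h
  rwa [tconj_eq Γ P] at h'

theorem reach {p : G} (hp : p ∈ A D x) : Reach Γ p := by
  suffices h : ∀ p ∈ A D x, ∀ b, lab Γ p b ≠ 0 → Reach Γ p by
    by_cases he : ∃ b, lab Γ p b ≠ 0
    · obtain ⟨b, hb⟩ := he; exact h p hp b hb
    push Not at he
    obtain ⟨a⟩ := exists_T P
    obtain ⟨b, hb⟩ := exists_far' P a
    refine reach_t Γ P (a := a) (l := 1) (h _ (tconj_mem Γ P a 1 hp) b ?_)
    rw [lab_t Γ P a 1 hp, he, zero_add, one_mul]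
    exact φ_ne Γ P fun e => hb e.symm
  intro p hp b hb
  have hl := lab_spec Γ P hp b
  set l := lab Γ p b
  have hmD := mem_dx Γ P b l
  have hzm : ¬ Commute z (Γ.mem b l) := fun h => hb <| Γ.mem_inj b <|
    foot_unique P.C P.hx b.2.1 P.hz P.hzx (Γ.mem_cls b l) (Γ.mem_cls b 0) h
      (by rw [Γ.mem_zero]; exact b.2.2)
  have hpm : p ∈ Dx D (Γ.mem b l) := ⟨hp.1, fun e => hp.2 (by rw [e]; exact hmD.2.2.symm), hl.symm⟩
  obtain ⟨q, hq, hzq⟩ := exists_foot P.C hmD.1 hpm P.hz hzm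
  have hY : ∀ (a : T D x z) (μ : F), Reach Γ (Y Γ a μ) := by
    intro a μ
    by_cases hμ : μ = 0
    · rw [hμ, Y_zero Γ P]; exact .base
    · rw [Y, sconj_ne Γ P a hμ]; exact .x_conj (.t_conj a μ .base)
  rcases line_cases Γ P hp hl hq with h | ⟨μ, -, h⟩
  · obtain ⟨a, l', e⟩ := perp_z Γ P hp (h ▸ hzq.symm)
    exact e ▸ hY a l'
  · have hqA : q ∈ A D x := h ▸ xconj_mem P (tconj_mem Γ P b μ (tconj_mem Γ P b l hp))
    obtain ⟨a, l', e⟩ := perp_z Γ P hqA hzq.symm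
    refine reach_t Γ P (a := b) (l := l) (reach_t Γ P (a := b) (l := μ) ?_)
    have h' := Reach.x_conj (Γ := Γ) (e ▸ hY a l' : Reach Γ q)
    rwa [h, xconj_eq P] at h'

theorem reach_mem {p : G} (h : Reach Γ p) : p ∈ A D x := by
  induction h with
  | base => exact z_mem P
  | x_conj _ ih => exact xconj_mem P ih
  | t_conj a l _ ih => exact tconj_mem Γ P a l ih

theorem v_mem_E {p : G} (hp : p ∈ A D x) : v Γ p ∈ E Γ := by
  have hp' := reach Γ P hp
  clear hp
  induction hp' with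
  | base => rw [v_z Γ P]; exact zero_mem _
  | x_conj h ih => rw [v_x Γ P (reach_mem Γ P h)]; exact ih
  | t_conj a l h ih =>
    rw [v_t Γ P a l (reach_mem Γ P h)]
    exact add_mem ih (Submodule.smul_mem _ _ (Submodule.subset_span ⟨a, rfl⟩))

/-- The linear relation on the space of rows. -/
theorem E_third {u : T D x z → F} (hu : u ∈ E Γ) {b c d : T D x z} (hbd : ¬ Commute d.1 b.1)
    (hc : c.1 = d.1 * b.1 * d.1) : u c * Γ.φ c b = u b + u d * Γ.φ d b := by
  induction hu using Submodule.span_induction with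
  | mem u hu => obtain ⟨e, rfl⟩ := hu; exact φ_third P Γ hbd hc e
  | zero => simp
  | add u u' _ _ h h' => simp only [Pi.add_apply]; linear_combination h + h'
  | smul k u _ h => simp only [Pi.smul_apply, smul_eq_mul]; linear_combination k * h

/-- The pairing with a vector of the space of rows. -/
theorem exists_pair {u : T D x z → F} (hu : u ∈ E Γ) :
    ∃ Φ : (T D x z → F) →ₗ[F] F, ∀ e, Φ (r Γ e) = u e ^ 2 := by
  induction hu using Submodule.span_induction with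
  | mem u hu =>
    obtain ⟨f, rfl⟩ := hu
    exact ⟨LinearMap.proj f, fun e => Γ.φ_symm e f⟩
  | zero => exact ⟨0, fun e => by simp⟩
  | add u u' _ _ h h' =>
    obtain ⟨Φ, hΦ⟩ := h
    obtain ⟨Φ', hΦ'⟩ := h'
    exact ⟨Φ + Φ', fun e => by rw [LinearMap.add_apply, hΦ, hΦ', Pi.add_apply, UnitaryF4Geo.sq_add]⟩
  | smul k u _ h =>
    obtain ⟨Φ, hΦ⟩ := h
    exact ⟨k ^ 2 • Φ, fun e => by
      rw [LinearMap.smul_apply, hΦ, Pi.smul_apply, smul_eq_mul, smul_eq_mul, mul_pow]⟩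

/-- Only `z` and its image at the vertex have no support. -/
theorem fibre_zero {p : G} (hp : p ∈ A D x) (h0 : v Γ p = 0) : p = z ∨ p = x * z * x := by
  obtain ⟨a⟩ := exists_T P
  obtain ⟨b, hab⟩ := exists_far' P a
  set p' := Γ.t a 1 * p * Γ.t a 1 with hp'
  have hpA : p' ∈ A D x := tconj_mem Γ P a (1 : F) hp
  have hv' : v Γ p' = r Γ a := by rw [hp', v_t Γ P a 1 hp, h0, zero_add, one_pow, one_smul]
  have hback : p = Γ.t a 1 * p' * Γ.t a 1 := (tconj_eq Γ P a 1 p).symm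
  -- the point over `a` against `z`
  have hperp : ∀ {q : G}, q ∈ A D x → Commute q z → v Γ q = r Γ a → q = Y Γ a 1 := by
    intro q hq hqz hvq
    obtain ⟨e, k, rfl⟩ := perp_z Γ P hq hqz
    rw [v_Y Γ P] at hvq
    have hk : k ≠ 0 := fun e' => row_ne Γ P a (by simpa [e'] using hvq.symm)
    have he : e = a := row_eq Γ P (c := (k ^ 2)⁻¹) (by
      rw [← hvq, smul_smul, inv_mul_cancel₀ (pow_ne_zero 2 hk), one_smul])
    subst he
    have h1 := smul_left_injective F (row_ne Γ P e) (hvq.trans (one_smul F _).symm)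
    rw [show k = 1 by rw [← UnitaryF4Geo.sq_sq k, h1, one_pow]]
  have hY : Y Γ a (1 : F) = x * (Γ.t a 1 * z * Γ.t a 1) * x := sconj_ne Γ P a one_ne_zero z
  have hsucc : Commute p' z → p = x * z * x := fun h => by
    rw [hback, hperp hpA h hv', hY, tconj_x Γ P, tconj_eq Γ P]
  have hl := lab_spec Γ P hpA b
  set l := lab Γ p' b with hldef
  have hlval : l = Γ.φ b a := by
    rw [hldef, hp', lab_t Γ P a 1 hp, one_mul]
    have : lab Γ p b = 0 := by simpa [v] using congrFun h0 b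
    rw [this, zero_add]
  have hmD := mem_dx Γ P b l
  have hφ : Γ.φ b a ≠ 0 := φ_ne Γ P fun e => hab e.symm
  have hzm : ¬ Commute z (Γ.mem b l) := fun h => hφ <| by
    rw [← hlval]
    exact Γ.mem_inj b (foot_unique P.C P.hx b.2.1 P.hz P.hzx (Γ.mem_cls b l) (Γ.mem_cls b 0) h
      (by rw [Γ.mem_zero]; exact b.2.2))
  have hpm : p' ∈ Dx D (Γ.mem b l) :=
    ⟨hpA.1, fun e => hpA.2 (by rw [e]; exact hmD.2.2.symm), hl.symm⟩
  obtain ⟨q, hq, hzq⟩ := exists_foot P.C hmD.1 hpm P.hz hzm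
  rcases line_cases Γ P hpA hl hq with h | ⟨μ, hμ, h⟩
  · exact Or.inr (hsucc (h ▸ hzq.symm))
  have hqA : q ∈ A D x := h ▸ xconj_mem P (tconj_mem Γ P b μ (tconj_mem Γ P b l hpA))
  obtain ⟨e, k, hk⟩ := perp_z Γ P hqA hzq.symm
  set ν := μ ^ 2 + l ^ 2 with hνdef
  have hvq : k ^ 2 • r Γ e = r Γ a + ν • r Γ b := by
    rw [← v_Y Γ P, ← hk, h, v_x Γ P (tconj_mem Γ P b μ (tconj_mem Γ P b l hpA)),
      v_t Γ P b μ (tconj_mem Γ P b l hpA), v_t Γ P b l hpA, hv', hνdef, add_smul]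
    abel
  have ev := fun f => congrFun hvq f
  simp only [r, Pi.add_apply, Pi.smul_apply, smul_eq_mul] at ev
  have eA := ev a
  have eB := ev b
  have eE := ev e
  rw [(Γ.φ_zero a a).mpr (Commute.refl _), zero_add] at eA
  rw [(Γ.φ_zero b b).mpr (Commute.refl _), mul_zero, add_zero] at eB
  rw [(Γ.φ_zero e e).mpr (Commute.refl _), mul_zero] at eE
  have hν : ν ≠ 0 := fun h' => hμ (by
    have h2 := UnitaryF4Geo.eq_of_add_eq_zero (hνdef ▸ h')
    rw [← UnitaryF4Geo.sq_sq μ, h2, UnitaryF4Geo.sq_sq])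
  have hsa := congrArg (· ^ 2) eA
  have hsb := congrArg (· ^ 2) eB
  simp only [mul_pow, ← Γ.φ_symm, UnitaryF4Geo.sq_sq] at hsa hsb
  -- hsa, hsb give the values on `e`
  have hk0 : k ≠ 0 := by
    intro h'
    rw [h', zero_pow two_ne_zero, zero_mul] at eB
    exact φ_ne Γ P hab eB.symm
  have hμ0 : μ = 0 := by
    have hab' : Γ.φ a b = Γ.φ b a ^ 2 := Γ.φ_symm a b
    have key : ν ^ 2 * Γ.φ a b + ν * Γ.φ b a = 0 := by
      linear_combination (-k) * eE - hsa - ν * hsb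
    have : ν = l ^ 2 := by
      have h2 : ν * Γ.φ b a * (ν * Γ.φ b a + 1) = 0 := by rw [hab'] at key; linear_combination key
      have h3 := UnitaryF4Geo.eq_of_add_eq_zero ((mul_eq_zero.mp h2).resolve_left (mul_ne_zero hν hφ))
      apply mul_right_cancel₀ hφ
      rw [h3, hlval, ← pow_succ, UnitaryF4Geo.cube hφ]
    rw [hνdef] at this
    exact pow_eq_zero_iff two_ne_zero |>.mp (by linear_combination this)
  -- then `p'` commutes with the image of `z`
  have hpw : Commute (x * p' * x) z := by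
    have h1 : Γ.t b l * p' * Γ.t b l = b.1 * p' * b.1 := by
      rw [Gauge.t]
      calc b.1 * Γ.mem b l * p' * (b.1 * Γ.mem b l)
          = b.1 * (Γ.mem b l * p') * (b.1 * Γ.mem b l) := by group
        _ = b.1 * (Γ.mem b l * p') * (Γ.mem b l * b.1) := by rw [t_comm P Γ b l]
        _ = b.1 * (p' * Γ.mem b l) * (Γ.mem b l * b.1) := by rw [hl.eq]
        _ = b.1 * p' * (Γ.mem b l * Γ.mem b l) * b.1 := by group
        _ = _ := by rw [P.C.tc.sq _ hmD.1, mul_one]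
    rw [hμ0, t_zero P Γ, one_mul, mul_one, h1] at h
    have h2 := (refl_comm P.C b.2.1.1).mpr (h ▸ hzq.symm)
    rw [P.C.tc.fix b.2.1.1 b.2.2.symm] at h2
    convert h2 using 1
    rw [show b.1 * (x * (b.1 * p' * b.1) * x) * b.1 = (b.1 * x) * b.1 * p' * b.1 * (x * b.1) by group,
      b.2.1.2.2.symm.eq]
    calc x * p' * x = x * (b.1 * b.1) * p' * (b.1 * b.1) * x := by
          rw [P.C.tc.sq b.1 b.2.1.1, mul_one, mul_one]
      _ = x * b.1 * b.1 * p' * b.1 * (b.1 * x) := by group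
      _ = _ := by rw [b.2.1.2.2.symm.eq]
  left
  have h3 := hperp (xconj_mem P hpA) hpw (by rw [v_x Γ P hpA, hv'])
  have h4 : p' = Γ.t a 1 * z * Γ.t a 1 := by rw [← xconj_eq P p', h3, hY, xconj_eq P]
  rw [hback, h4, tconj_eq Γ P]

/-- Feet determine a transposition up to the vertex. -/
theorem v_inj {p p' : G} (hp : p ∈ A D x) (hp' : p' ∈ A D x) (h : v Γ p' = v Γ p) :
    p' = p ∨ p' = x * p * x := by
  have hr := reach Γ P hp
  clear hp
  induction hr generalizing p' with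
  | base => exact fibre_zero Γ P hp' (h.trans (v_z Γ P))
  | @x_conj p hr ih =>
    rw [v_x Γ P (reach_mem Γ P hr)] at h
    rw [xconj_eq P]
    exact (ih hp' h).symm
  | @t_conj p a l hr ih =>
    have h' : v Γ (Γ.t a l * p' * Γ.t a l) = v Γ p := by
      rw [v_t Γ P a l hp', h, v_t Γ P a l (reach_mem Γ P hr), add_assoc, ← add_smul,
        UnitaryF4Geo.add_self, zero_smul, add_zero]
    rcases ih (tconj_mem Γ P a l hp') h' with e | e
    · left; rw [← e, tconj_eq Γ P]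
    · right; rw [← tconj_x Γ P, ← e, tconj_eq Γ P]

/-! ### The position against `z` -/

theorem exists_kappa {p : G} (hp : p ∈ A D x) {a : T D x z} (ha : v Γ p a ≠ 0) :
    ∃ k, Commute p (Y Γ a k) := by
  have hpa : ¬ Commute p a.1 := fun h => ha ((v_zero_iff Γ P hp a).mpr h)
  obtain ⟨q, hq, hpq⟩ := exists_foot P.C a.2.1.1 (z_dx P a) hp.1 hpa
  obtain ⟨k, rfl⟩ := cls_az Γ P hq
  exact ⟨k, hpq⟩

theorem kappa_unique {p : G} (hp : p ∈ A D x) {a : T D x z} (ha : v Γ p a ≠ 0) {k k' : F}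
    (h : Commute p (Y Γ a k)) (h' : Commute p (Y Γ a k')) : k = k' :=
  Y_inj Γ P a (foot_unique P.C a.2.1.1 (z_dx P a) hp.1
    (fun h => ha ((v_zero_iff Γ P hp a).mpr h)) (Y_cls Γ P a k) (Y_cls Γ P a k') h h')

theorem kappa_x {p : G} (hp : p ∈ A D x) {a : T D x z} (ha : v Γ p a ≠ 0) {k : F}
    (h : Commute p (Y Γ a k)) : Commute (x * p * x) (Y Γ a (k + lab Γ p a)) := by
  have hl := lab_spec Γ P hp a
  set μ := lab Γ p a with hμ
  have hμ0 : μ ≠ 0 := fun e => ha (by simp [v, ← hμ, e])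
  have hmD := mem_dx Γ P a μ
  have h1 := (refl_comm P.C hmD.1).mpr h
  rw [P.C.tc.fix hmD.1 hl.symm] at h1
  have e : Γ.mem a μ * Y Γ a k * Γ.mem a μ = x * Y Γ a (k + μ) * x := by
    rw [← Y_shift Γ P, sconj_ne Γ P a hμ0, xconj_eq P, Gauge.t]
    calc Γ.mem a μ * Y Γ a k * Γ.mem a μ
        = Γ.mem a μ * (a.1 * Y Γ a k * a.1) * Γ.mem a μ := by
          rw [P.C.tc.fix a.2.1.1 (Y_comm_a Γ P a k)]
      _ = (Γ.mem a μ * a.1) * Y Γ a k * (a.1 * Γ.mem a μ) := by group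
      _ = _ := by rw [t_comm P Γ a μ]
  rw [e] at h1
  have h2 := (refl_comm P.C P.hx).mpr h1
  rwa [xconj_eq P] at h2

theorem lab_mul {p : G} {a : T D x z} (ha : v Γ p a ≠ 0) : lab Γ p a * v Γ p a = 1 := by
  have : lab Γ p a ≠ 0 := fun e => ha (by simp [v, e])
  rw [v, ← pow_succ', UnitaryF4Geo.cube this]

/-- Positions seen from two supports agree. -/
theorem K1 {p : G} (hp : p ∈ A D x) {a b : T D x z} (ha : v Γ p a ≠ 0) (hb : v Γ p b ≠ 0)
    {k k' : F} (hk : Commute p (Y Γ a k)) (hk' : Commute p (Y Γ b k')) :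
    k * v Γ p a = k' * v Γ p b := by
  have hz : ∀ {c : T D x z} {i : F}, v Γ p c ≠ 0 → Commute p (Y Γ c i) →
      (i * v Γ p c = 0 ↔ Commute p z) := by
    intro c i hc hi
    rw [mul_eq_zero, or_iff_left hc]
    constructor
    · rintro rfl; rwa [Y_zero Γ P] at hi
    · intro h; exact kappa_unique Γ P hp hc hi (by rwa [Y_zero Γ P])
  have hxp := xconj_mem P hp
  have hw : ∀ {c : T D x z} {i : F}, v Γ p c ≠ 0 → Commute p (Y Γ c i) →
      (i * v Γ p c = 1 ↔ Commute (x * p * x) z) := by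
    intro c i hc hi
    have h1 := kappa_x Γ P hp hc hi
    have hc' : v Γ (x * p * x) c ≠ 0 := by rwa [v_x Γ P hp]
    constructor
    · intro h
      have : i + lab Γ p c = 0 := by
        apply mul_right_cancel₀ hc
        rw [add_mul, h, lab_mul Γ P hc, UnitaryF4Geo.add_self, zero_mul]
      rwa [this, Y_zero Γ P] at h1
    · intro h
      have := kappa_unique Γ P hxp hc' h1 (k' := 0) (by rwa [Y_zero Γ P])
      rw [UnitaryF4Geo.eq_of_add_eq_zero this, lab_mul Γ P hc]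
  by_cases hpz : Commute p z
  · rw [(hz ha hk).mpr hpz, (hz hb hk').mpr hpz]
  by_cases hpw : Commute (x * p * x) z
  · rw [(hw ha hk).mpr hpw, (hw hb hk').mpr hpw]
  by_contra hne
  have hroot : ∀ {c : T D x z} {i : F}, v Γ p c ≠ 0 → Commute p (Y Γ c i) →
      (i * v Γ p c) ^ 2 = i * v Γ p c + 1 := fun hc hi =>
    UnitaryF4Geo.rel (fun e => hpz ((hz hc hi).mp e)) fun e => hpw ((hw hc hi).mp e)
  have hk0 : k ≠ 0 := fun e => hpz ((hz ha hk).mp (by rw [e, zero_mul]))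
  have hk0' : k' ≠ 0 := fun e => hpz ((hz hb hk').mp (by rw [e, zero_mul]))
  by_cases hab : Commute a.1 b.1
  · -- commuting supports: a perpendicular member on the line of the two points
    have hbY : Commute b.1 (Y Γ a k) :=
      ((Y_cls Γ P a k).2 b.1 b.2.1.1 hab b.2.2).symm
    have hYY : Commute (Y Γ a k) (Y Γ b k') :=
      ((Y_cls Γ P b k').2 _ (Y_mem Γ P a k).1 hbY (Y_comm_z Γ P a k)).symm
    have hneY : Y Γ b k' ≠ Y Γ a k := by
      intro e
      have h1 := congrArg (v Γ) e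
      rw [v_Y Γ P, v_Y Γ P] at h1
      have h2 : r Γ b = ((k' ^ 2)⁻¹ * k ^ 2) • r Γ a := by
        rw [← smul_smul, ← h1, smul_smul, inv_mul_cancel₀ (pow_ne_zero 2 hk0'), one_smul]
      have h3 : b = a := row_eq Γ P h2
      subst h3
      exact hne (by rw [Y_inj Γ P b e])
    have hd : Y Γ b k' ∈ Dx D (Y Γ a k) := ⟨(Y_mem Γ P b k').1, hneY, hYY⟩
    obtain ⟨n, hn, hxn⟩ := exists_foot P.C (Y_mem Γ P a k).1 hd P.hx
      fun e => (Y_mem Γ P a k).2 e.symm
    have hzn : Commute z n :=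
      (hn.2 z P.hz (Y_comm_z Γ P a k).symm (Y_comm_z Γ P b k').symm).symm
    have hpn : Commute p n := (hn.2 p hp.1 hk.symm hk'.symm).symm
    let e : T D x z := ⟨n, ⟨hn.1.1, fun h => P.hzx (by rw [← h]; exact hzn), hxn⟩, hzn⟩
    have hne' : Y Γ b k' ≠ n := fun h => (Y_mem Γ P b k').2 (h ▸ hxn.symm)
    have h1 : Y Γ b k' ∈ Cls D (Y Γ a k) n := by
      rw [cls_eq_of_mem P.C (Y_mem Γ P a k).1 hd hn]; exact cls_self P.C hd
    have h2 := cls_line P.C (Y_mem Γ P a k).1 hn.1 h1 hne'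
    have hbn : Y Γ b k' ∈ Dx D n := ⟨(Y_mem Γ P b k').1, hne', cls_comm_base P.C hn.1 h1⟩
    have h3 : Y Γ b k' ∈ Cls D n (Y Γ a k) := by
      rw [cls_eq_of_mem P.C hn.1.1 hbn h2]; exact cls_self P.C hbn
    have hl : Commute (Y Γ a k) (Γ.mem e 0) := by rw [Γ.mem_zero]; exact hn.1.2.2
    obtain ⟨ν, hν⟩ : ∃ ν : F, k' ^ 2 • r Γ b = k ^ 2 • r Γ a + ν • r Γ e := by
      rcases line_cases Γ P (b := e) (l := 0) (Y_mem Γ P a k) hl
        (by rw [Γ.mem_zero]; exact h3) with h | ⟨μ, -, h⟩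
      · exact absurd h hneY
      · refine ⟨μ ^ 2, ?_⟩
        rw [← v_Y Γ P, ← v_Y Γ P, h, t_zero P Γ, one_mul, mul_one,
          v_x Γ P (tconj_mem Γ P e μ (Y_mem Γ P a k)), v_t Γ P e μ (Y_mem Γ P a k)]
    obtain ⟨Φ, hΦ⟩ := exists_pair Γ P (v_mem_E Γ P hp)
    have h4 := congrArg Φ hν
    rw [map_add, map_smul, map_smul, map_smul, hΦ, hΦ, hΦ, (v_zero_iff Γ P hp e).mpr hpn,
      zero_pow two_ne_zero, smul_zero, add_zero, smul_eq_mul, smul_eq_mul, ← mul_pow, ← mul_pow] at h4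
    refine hne ?_
    rw [← UnitaryF4Geo.sq_sq (k * v Γ p a), ← h4, UnitaryF4Geo.sq_sq]
  · -- non-commuting supports: the third point
    obtain ⟨c, hc⟩ : ∃ c : T D x z, c.1 = a.1 * b.1 * a.1 :=
      ⟨⟨_, refl_dx P.C a.2.1 b.2.1, (a.2.2.mul_right b.2.2).mul_right a.2.2⟩, rfl⟩
    have hca : ¬ Commute a.1 c.1 := hc ▸ third_not_comm P.C a.2.1.1 hab
    have hYa := Y_cls_z Γ P a hk0
    have hYb := Y_cls_z Γ P b hk0'
    have haz : a.1 ∈ Dx D z := dx_symm P.C a.2.1.1 (z_dx P a)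
    have hbz : b.1 ∈ Dx D z := dx_symm P.C b.2.1.1 (z_dx P b)
    have hcz : c.1 ∈ Dx D z := dx_symm P.C c.2.1.1 (z_dx P c)
    set y := Y Γ a k * Y Γ b k' * Y Γ a k with hy
    have hyc : y ∈ Cls D z c.1 := by
      have h1 : Y Γ a k * b.1 * Y Γ a k ∈ Cls D z c.1 := hc ▸ third_class P.C P.hz haz hYa hbz
      rw [← cls_eq_of_mem P.C P.hz hcz h1]
      exact cls_refl P.C hYa.1 hYb
    have hpy : Commute p y := (hk.mul_right hk').mul_right hk
    have hrel := E_third Γ P (v_mem_E Γ P hp) hab hc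
    by_cases hyc' : y = c.1
    · -- the third point is `c`
      have hYc : ¬ Commute c.1 (Y Γ a k) := fun h =>
        cls_not_comm P.C P.hz haz hYa hcz hca h.symm
      have hflip : Y Γ b k' = c.1 * Y Γ a k * c.1 := by
        rw [P.C.tc.braid c.2.1.1 (Y_mem Γ P a k).1 hYc]
        nth_rewrite 1 [← hyc']
        rw [hy, P.C.tc.refl_refl (Y_mem Γ P a k).1]
      have hbac : b.1 = c.1 * a.1 * c.1 := by
        rw [P.C.tc.braid c.2.1.1 a.2.1.1 fun e => hca e.symm, hc, P.C.tc.refl_refl a.2.1.1]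
      have h1 : k' = k * Γ.φ b a := by
        apply Y_inj Γ P b
        rw [hflip, Y, Y, sconj_ne Γ P a hk0,
          sconj_ne Γ P b (mul_ne_zero hk0 (φ_ne Γ P fun e => hab e.symm)),
          Gauge.t, Gauge.t, ← refl_mem_eq P Γ (fun e => hca e.symm) hbac k]
        have hcz' : c.1 * z * c.1 = z := P.C.tc.fix c.2.1.1 c.2.2.symm
        conv_rhs => rw [hbac]
        have hcx : c.1 * x = x * c.1 := c.2.1.2.2.symm.eq
        have hcc := P.C.tc.sq c.1 c.2.1.1
        calc c.1 * (x * (a.1 * Γ.mem a k * z * (a.1 * Γ.mem a k)) * x) * c.1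
            = (c.1 * x) * (a.1 * Γ.mem a k * z * (a.1 * Γ.mem a k)) * (x * c.1) := by group
          _ = (x * c.1) * (a.1 * Γ.mem a k * z * (a.1 * Γ.mem a k)) * (c.1 * x) := by rw [hcx]
          _ = x * c.1 * a.1 * 1 * Γ.mem a k * 1 * z * 1 * a.1 * 1 * Γ.mem a k * (c.1 * x) := by
            group
          _ = x * c.1 * a.1 * (c.1 * c.1) * Γ.mem a k * (c.1 * c.1) * z * (c.1 * c.1) * a.1 *
              (c.1 * c.1) * Γ.mem a k * (c.1 * x) := by rw [hcc]
          _ = x * (c.1 * a.1 * c.1 * (c.1 * Γ.mem a k * c.1)) * (c.1 * z * c.1) *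
              (c.1 * a.1 * c.1 * (c.1 * Γ.mem a k * c.1)) * x := by group
          _ = _ := by rw [hcz']; group
      have hvc : v Γ p c = 0 := (v_zero_iff Γ P hp c).mpr (hyc' ▸ hpy)
      rw [hvc, zero_mul] at hrel
      apply hne
      have hφ3 : Γ.φ a b * Γ.φ b a = 1 := by
        rw [Γ.φ_symm a b, ← pow_succ, UnitaryF4Geo.cube (φ_ne Γ P fun e => hab e.symm)]
      rw [h1, UnitaryF4Geo.eq_of_add_eq_zero (x := v Γ p b) (y := v Γ p a * Γ.φ a b) hrel.symm]
      linear_combination (-(k * v Γ p a)) * hφ3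
    · -- a point over `c`
      have h2 := cls_line P.C P.hz hcz hyc hyc'
      have hyd : y ∈ Dx D c.1 := ⟨hyc.1.1, hyc', cls_comm_base P.C hcz hyc⟩
      have hy' : y ∈ Cls D c.1 z := by
        rw [cls_eq_of_mem P.C c.2.1.1 hyd h2]; exact cls_self P.C hyd
      obtain ⟨i, hi⟩ := cls_az Γ P hy'
      have hi0 : i ≠ 0 := fun e => hyc.1.2.1 (hi.trans (by rw [e, Y_zero Γ P]))
      have hvc : v Γ p c ≠ 0 := by
        intro h0
        apply hpz
        have hpc := (v_zero_iff Γ P hp c).mp h0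
        exact (rule2 P.C c.2.1.1 (z_dx P c) (Y_cls Γ P c i) hp.1 hpc.symm (hi ▸ hpy.symm)).symm
      -- the equation on labels
      have hν0 : i * Γ.φ a c ≠ 0 := mul_ne_zero hi0 (φ_ne Γ P hca)
      have hlab : Commute (Y Γ c i) (Γ.mem a (i * Γ.φ a c)) := by
        have h := lab_spec Γ P (Y_mem Γ P c i) a
        have e : lab Γ (Y Γ c i) a = i * Γ.φ a c := by
          have h1 := congrFun (v_Y Γ P c i) a
          simp only [v, r, Pi.smul_apply, smul_eq_mul] at h1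
          rw [← UnitaryF4Geo.sq_sq (lab Γ _ a), h1, mul_pow, UnitaryF4Geo.sq_sq, ← Γ.φ_symm]
        rwa [e] at h
      set ν := i * Γ.φ a c with hν
      have hn := (refl_comm P.C (Y_mem Γ P a k).1).mpr hlab
      rw [← hi, hy, P.C.tc.refl_refl (Y_mem Γ P a k).1] at hn
      have hfix : s Γ a k * Γ.mem a ν * s Γ a k = Γ.mem a ν := by
        rw [sconj_ne Γ P a hk0, t_mem P Γ, (Γ.φ_zero a a).mpr (Commute.refl _), mul_zero, add_zero,
          P.C.tc.fix P.hx (mem_dx Γ P a ν).2.2]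
      have hznz : z * Γ.mem a ν * z = x * Y Γ a ν * x := by
        have hzn : ¬ Commute z (Γ.mem a ν) := fun h => hν0 <| Γ.mem_inj a <|
          foot_unique P.C P.hx a.2.1 P.hz P.hzx (Γ.mem_cls a ν) (Γ.mem_cls a 0) h
            (by rw [Γ.mem_zero]; exact a.2.2)
        rw [Y, sconj_ne Γ P a hν0, xconj_eq P, P.C.tc.braid P.hz (mem_dx Γ P a ν).1 hzn, Gauge.t]
        calc Γ.mem a ν * z * Γ.mem a ν = Γ.mem a ν * (a.1 * z * a.1) * Γ.mem a ν := by
              rw [P.C.tc.fix a.2.1.1 a.2.2.symm]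
          _ = (Γ.mem a ν * a.1) * z * (a.1 * Γ.mem a ν) := by group
          _ = _ := by rw [t_comm P Γ a ν]
      have hYn : Y Γ a k * Γ.mem a ν * Y Γ a k = x * Y Γ a (ν + k) * x := by
        calc Y Γ a k * Γ.mem a ν * Y Γ a k
            = s Γ a k * (z * (s Γ a k * Γ.mem a ν * s Γ a k) * z) * s Γ a k := by rw [Y]; group
          _ = (s Γ a k * x) * Y Γ a ν * (x * s Γ a k) := by rw [hfix, hznz]; group
          _ = (x * s Γ a k) * Y Γ a ν * (s Γ a k * x) := by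
            rw [(s_x Γ P a k).eq]
          _ = x * (s Γ a k * Y Γ a ν * s Γ a k) * x := by group
          _ = _ := by rw [Y_shift Γ P]
      rw [hYn] at hn
      have hn' := (refl_comm P.C P.hx).mpr hn
      rw [xconj_eq P] at hn'
      have hba : v Γ (Y Γ b k') a ≠ 0 := by
        rw [v_Y Γ P]
        exact mul_ne_zero (pow_ne_zero 2 hk0') (φ_ne Γ P fun e => hab e.symm)
      have hn'' := kappa_x Γ P (Y_mem Γ P b k') hba (k := 0)
        (by rw [Y_zero Γ P]; exact (Y_comm_z Γ P b k').symm)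
      have heq : ν + k = k' * Γ.φ a b := by
        have h1 := kappa_unique Γ P (xconj_mem P (Y_mem Γ P b k'))
          (by rwa [v_x Γ P (Y_mem Γ P b k')]) hn' hn''
        rw [h1, zero_add]
        have h3 := congrFun (v_Y Γ P b k') a
        simp only [v, r, Pi.smul_apply, smul_eq_mul] at h3
        rw [← UnitaryF4Geo.sq_sq (lab Γ _ a), h3, mul_pow, UnitaryF4Geo.sq_sq, ← Γ.φ_symm]
      have hpc : Commute p (Y Γ c i) := hi ▸ hpy
      have hA := hroot ha hk
      have hB := hroot hb hk'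
      have hC := hroot hvc hpc
      have hφ := φ_ne Γ P hab
      have hcb : Γ.φ a c * Γ.φ c b = Γ.φ a b := by
        rw [φ_third P Γ hab hc a, (Γ.φ_zero a a).mpr (Commute.refl _), zero_mul, add_zero]
      have hBA : k' * v Γ p b = k * v Γ p a + 1 := by
        have h : (k' * v Γ p b - k * v Γ p a) * (k' * v Γ p b + k * v Γ p a - 1) = 0 := by
          linear_combination hB - hA
        have h' := (mul_eq_zero.mp h).resolve_left (sub_ne_zero.mpr (Ne.symm hne))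
        linear_combination h' + (1 - k * v Γ p a - 1 + 1) * 0 -
          (k * v Γ p a) * (UnitaryF4Geo.two_eq_zero (F := F))
      set U := v Γ p a
      set V := v Γ p b
      set W := v Γ p c
      set f := Γ.φ a b
      set q := V / (U * f) with hq
      have hUf : U * f ≠ 0 := mul_ne_zero ha hφ
      have hq0 : q ≠ 0 := div_ne_zero hb hUf
      have hCval : i * W * q = (k * U) * q + (k' * V) * q + (k * U) * q ^ 2 + k' * V := by
        have h1 : i * W * f = (k' * f + k) * (V + U * f) := by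
          rw [← heq, ← hrel, ← hcb, hν]
          linear_combination (-(k * W * Γ.φ c b)) * (UnitaryF4Geo.two_eq_zero (F := F))
        have hV : V = q * (U * f) := by rw [hq, div_mul_cancel₀ _ hUf]
        rw [hV] at h1 ⊢
        apply mul_right_cancel₀ hφ
        linear_combination q * h1
      have hq1 : q ≠ 1 := by
        intro e
        rw [e] at hCval
        have h0 : i * W = 0 := by
          linear_combination hCval + (k * U + k' * V) * (UnitaryF4Geo.two_eq_zero (F := F))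
        exact mul_ne_zero hi0 hvc h0
      have hq2 := UnitaryF4Geo.rel hq0 hq1
      -- the value at `c`
      have hval : i * W = k * U + q := by
        apply mul_right_cancel₀ hq0
        rw [hBA] at hCval
        linear_combination hCval + (k * U - 1) * hq2 +
          (k * U * q + k * U) * (UnitaryF4Geo.two_eq_zero (F := F))
      rw [hval] at hC
      have h : (k * U - q) * (k * U + q + 1) = 0 := by
        linear_combination hA - hq2 + (k * U - q) * (UnitaryF4Geo.two_eq_zero (F := F))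
      rcases mul_eq_zero.mp h with e | e
      · have e0 : i * W = 0 := by
          rw [hval, sub_eq_zero.mp e, UnitaryF4Geo.add_self]
        exact mul_ne_zero hi0 hvc e0
      · have e1 : k * U + q = 1 := UnitaryF4Geo.eq_of_add_eq_zero e
        exact hpw ((hw hvc hpc).mp (hval.trans e1))

open scoped Classical in
/-- The position against `z`. -/
noncomputable def α (p : G) : F :=
  if h : ∃ q : T D x z × F, v Γ p q.1 ≠ 0 ∧ Commute p (Y Γ q.1 q.2) then
    h.choose.2 * v Γ p h.choose.1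
  else if Commute p z then 0 else 1

theorem α_eq {p : G} (hp : p ∈ A D x) {a : T D x z} (ha : v Γ p a ≠ 0) {k : F}
    (hk : Commute p (Y Γ a k)) : α Γ p = k * v Γ p a := by
  classical
  have h : ∃ q : T D x z × F, v Γ p q.1 ≠ 0 ∧ Commute p (Y Γ q.1 q.2) := ⟨(a, k), ha, hk⟩
  rw [α, dif_pos h]
  exact K1 Γ P hp h.choose_spec.1 ha h.choose_spec.2 hk

theorem α_no_support {p : G} (h0 : v Γ p = 0) :
    (Commute p z → α Γ p = 0) ∧ (¬ Commute p z → α Γ p = 1) := by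
  classical
  have h : ¬ ∃ q : T D x z × F, v Γ p q.1 ≠ 0 ∧ Commute p (Y Γ q.1 q.2) :=
    fun ⟨q, hq, _⟩ => hq (by rw [h0]; rfl)
  rw [α, dif_neg h]
  exact ⟨fun e => if_pos e, fun e => if_neg e⟩

theorem α_zero_iff {p : G} (hp : p ∈ A D x) : α Γ p = 0 ↔ Commute p z := by
  by_cases h : v Γ p = 0
  · obtain ⟨h1, h2⟩ := α_no_support Γ P h
    refine ⟨fun e => ?_, h1⟩
    by_contra hn
    exact one_ne_zero ((h2 hn).symm.trans e)
  · obtain ⟨a, ha⟩ := Function.ne_iff.mp h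
    replace ha : v Γ p a ≠ 0 := ha
    obtain ⟨k, hk⟩ := exists_kappa Γ P hp ha
    rw [α_eq Γ P hp ha hk, mul_eq_zero, or_iff_left ha]
    exact ⟨fun e => by rwa [e, Y_zero Γ P] at hk,
      fun e => kappa_unique Γ P hp ha hk (by rwa [Y_zero Γ P])⟩

/-- Incidence with the points over `a`. -/
theorem comm_Y {p : G} (hp : p ∈ A D x) (a : T D x z) (l : F) :
    Commute p (Y Γ a l) ↔ α Γ p = l * v Γ p a := by
  by_cases ha : v Γ p a = 0
  swap
  · obtain ⟨k, hk⟩ := exists_kappa Γ P hp ha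
    rw [α_eq Γ P hp ha hk]
    exact ⟨fun h => by rw [kappa_unique Γ P hp ha hk h],
      fun h => mul_right_cancel₀ ha h ▸ hk⟩
  rw [ha, mul_zero, α_zero_iff Γ P hp]
  have hpa := (v_zero_iff Γ P hp a).mp ha
  constructor
  · exact fun h => (rule2 P.C a.2.1.1 (z_dx P a) (Y_cls Γ P a l) hp.1 hpa.symm h.symm).symm
  · exact fun h => ((Y_cls Γ P a l).2 p hp.1 hpa.symm h.symm).symm

theorem α_z : α Γ z = 0 := (α_zero_iff Γ P (z_mem P)).mpr (Commute.refl z)

theorem α_x {p : G} (hp : p ∈ A D x) : α Γ (x * p * x) = α Γ p + 1 := by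
  by_cases h : v Γ p = 0
  · have hzw : ¬ Commute (x * z * x) z := fun e =>
      third_not_comm' P.C P.hx P.hz (fun e' => P.hzx e'.symm) e.symm
    have hw : α Γ (x * z * x) = 1 :=
      (α_no_support Γ P (by rw [v_x Γ P (z_mem P), v_z Γ P])).2 hzw
    rcases fibre_zero Γ P hp h with rfl | rfl
    · rw [α_z Γ P, zero_add, hw]
    · rw [xconj_eq P, α_z Γ P, hw, UnitaryF4Geo.add_self]
  · obtain ⟨a, ha⟩ := Function.ne_iff.mp h
    obtain ⟨k, hk⟩ := exists_kappa Γ P hp ha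
    rw [α_eq Γ P hp ha hk, α_eq Γ P (xconj_mem P hp) (by rwa [v_x Γ P hp]) (kappa_x Γ P hp ha hk),
      v_x Γ P hp, add_mul, lab_mul Γ P ha]

theorem s_conj_s (a b : T D x z) (l k : F) :
    ∃ δ : F, δ = l * Γ.φ b a * k ^ 2 + (l * Γ.φ b a * k ^ 2) ^ 2 ∧
      ((δ = 0 ∧ s Γ a l * s Γ b k * s Γ a l = s Γ b k) ∨
        (δ = 1 ∧ s Γ a l * s Γ b k * s Γ a l = x * s Γ b k)) := by
  refine ⟨_, rfl, ?_⟩
  by_cases hk : k = 0
  · left; refine ⟨by rw [hk]; ring, ?_⟩
    rw [hk, s_zero Γ P, mul_one, s_sq Γ P]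
  by_cases hl : l = 0
  · left; refine ⟨by rw [hl]; ring, ?_⟩
    rw [hl, s_zero Γ P, one_mul, mul_one]
  set ν := l * Γ.φ b a with hν
  have e : s Γ a l * s Γ b k * s Γ a l = x * (Γ.t b ν * Γ.t b (k + ν)) := by
    rw [s_ne Γ P a hl, s_ne Γ P b hk]
    have ta := (t_x P Γ a l).eq
    have tb : Γ.t b ν * Γ.t b (k + ν) = Γ.t a l * Γ.t b k * Γ.t a l := by
      rw [t_mem' P Γ, ← hν, Gauge.t, Gauge.t]
      calc b.1 * Γ.mem b ν * (b.1 * Γ.mem b (k + ν))
          = (Γ.mem b ν * b.1) * (b.1 * Γ.mem b (k + ν)) := by rw [t_comm P Γ b ν]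
        _ = Γ.mem b ν * (b.1 * b.1) * Γ.mem b (k + ν) := by group
        _ = _ := by rw [P.C.tc.sq b.1 b.2.1.1, mul_one]
    rw [tb]
    calc x * Γ.t a l * (x * Γ.t b k) * (x * Γ.t a l)
        = x * (Γ.t a l * x) * (Γ.t b k * x) * Γ.t a l := by group
      _ = x * (x * Γ.t a l) * (x * Γ.t b k) * Γ.t a l := by rw [ta, (t_x P Γ b k).eq]
      _ = (x * x) * (Γ.t a l * x) * Γ.t b k * Γ.t a l := by group
      _ = x * (Γ.t a l * Γ.t b k * Γ.t a l) := by rw [P.C.tc.sq x P.hx, ta]; group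
  by_cases h0 : ν = 0
  · left; refine ⟨by rw [h0]; ring, ?_⟩
    rw [e, h0, t_zero P Γ, one_mul, add_zero, s_ne Γ P b hk]
  by_cases h1 : ν = k
  · left
    refine ⟨?_, ?_⟩
    · rw [h1, ← pow_succ', UnitaryF4Geo.cube hk, one_pow, UnitaryF4Geo.add_self]
    · rw [e, h1, UnitaryF4Geo.add_self, t_zero P Γ, mul_one, s_ne Γ P b hk]
  right
  have hne1 : ν * k ^ 2 ≠ 1 := fun h => h1 (by
    apply mul_right_cancel₀ (pow_ne_zero 2 hk)
    rw [h, ← pow_succ', UnitaryF4Geo.cube hk])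
  refine ⟨?_, ?_⟩
  · rw [UnitaryF4Geo.rel (mul_ne_zero h0 (pow_ne_zero 2 hk)) hne1, ← add_assoc,
      UnitaryF4Geo.add_self, zero_add]
  · have hne : k + ν ≠ 0 := fun h => h1 (UnitaryF4Geo.eq_of_add_eq_zero h).symm
    rw [e, t_mul P Γ b h0 hne (fun h => hk (by linear_combination -h)), s_ne Γ P b hk]
    congr 3
    linear_combination ν * (UnitaryF4Geo.two_eq_zero (F := F))

/-- The step at a support. -/
theorem α_s_support {p : G} (hp : p ∈ A D x) {a : T D x z} (ha : v Γ p a ≠ 0) (l : F) :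
    α Γ (s Γ a l * p * s Γ a l) = α Γ p + l * v Γ p a := by
  obtain ⟨k, hk⟩ := exists_kappa Γ P hp ha
  have h1 := (sconj_comm Γ P a l).mpr hk
  rw [Y_shift Γ P] at h1
  have hva : v Γ (s Γ a l * p * s Γ a l) a = v Γ p a := by
    rw [v_s Γ P a l hp, Pi.add_apply, Pi.smul_apply, row_self Γ P, smul_zero, add_zero]
  rw [(comm_Y Γ P (sconj_mem Γ P a l hp) a _).mp h1, hva, add_mul, α_eq Γ P hp ha hk]

/-- The effect of a translation on the position. -/
theorem α_s {p : G} (hp : p ∈ A D x) (a : T D x z) (l : F) :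
    α Γ (s Γ a l * p * s Γ a l) = α Γ p + l * v Γ p a := by
  by_cases ha : v Γ p a = 0
  swap
  · exact α_s_support Γ P hp ha l
  rw [ha, mul_zero, add_zero]
  have hbase : ∀ {q : G}, q ∈ A D x → v Γ q = 0 → α Γ (s Γ a l * q * s Γ a l) = α Γ q := by
    intro q hq h0
    have hYz : α Γ (Y Γ a l) = 0 := (α_zero_iff Γ P (Y_mem Γ P a l)).mpr (Y_comm_z Γ P a l).symm
    rcases fibre_zero Γ P hq h0 with rfl | rfl
    · rw [← Y, hYz, α_z Γ P]
    · have e : s Γ a l * (x * z * x) * s Γ a l = x * Y Γ a l * x := by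
        rw [Y]
        calc s Γ a l * (x * z * x) * s Γ a l = (s Γ a l * x) * z * (x * s Γ a l) := by group
          _ = (x * s Γ a l) * z * (s Γ a l * x) := by rw [(s_x Γ P a l).eq]
          _ = _ := by group
      rw [e, α_x Γ P (Y_mem Γ P a l), α_x Γ P (z_mem P), hYz, α_z Γ P]
  by_cases h0 : v Γ p = 0
  · exact hbase hp h0
  set p' := s Γ a l * p * s Γ a l with hp'def
  have hp' : p' ∈ A D x := sconj_mem Γ P a l hp
  by_cases h0' : v Γ p' = 0
  · have := hbase hp' h0'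
    rw [hp'def, sconj_eq Γ P] at this
    exact this.symm
  -- a common support
  have hv' : ∀ e, v Γ p' e = v Γ p e + l ^ 2 * Γ.φ a e := fun e => by
    rw [hp'def, v_s Γ P a l hp]; rfl
  obtain ⟨f, hf, hf'⟩ : ∃ f, v Γ p f ≠ 0 ∧ v Γ p' f ≠ 0 := by
    by_contra hall
    push Not at hall
    obtain ⟨b, hb⟩ := Function.ne_iff.mp h0
    obtain ⟨e, he'⟩ := Function.ne_iff.mp h0'
    have he : v Γ p e = 0 := by by_contra h; exact he' (hall e h)
    have hb' := hall b hb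
    have hab : ¬ Commute a.1 b.1 := fun h => hb (by
      have := hv' b
      rw [hb', (Γ.φ_zero b a).mpr h.symm, mul_zero, add_zero] at this
      exact this.symm)
    have hae : ¬ Commute a.1 e.1 := fun h => he' (by
      rw [hv', he, (Γ.φ_zero e a).mpr h.symm, mul_zero, add_zero]; rfl)
    obtain ⟨c, hc⟩ : ∃ c : T D x z, c.1 = a.1 * b.1 * a.1 :=
      ⟨⟨_, refl_dx P.C a.2.1 b.2.1, (a.2.2.mul_right b.2.2).mul_right a.2.2⟩, rfl⟩
    -- either `b` or `c` misses `e`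
    obtain ⟨g, hg, heg⟩ : ∃ g, v Γ p g ≠ 0 ∧ ¬ Commute e.1 g.1 := by
      by_cases hbe : Commute e.1 b.1
      swap
      · exact ⟨b, hb, hbe⟩
      refine ⟨c, fun h => ?_, fun h => ?_⟩
      · have := E_third Γ P (v_mem_E Γ P hp) hab hc
        rw [h, ha, zero_mul, zero_mul, add_zero] at this
        exact hb this.symm
      · have := φ_third P Γ hab hc e
        rw [(Γ.φ_zero c e).mpr h.symm, zero_mul, (Γ.φ_zero b e).mpr hbe.symm, zero_add] at this
        exact mul_ne_zero (φ_ne Γ P fun k => hae k.symm) (φ_ne Γ P hab) this.symm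
    obtain ⟨f, hf⟩ : ∃ f : T D x z, f.1 = e.1 * g.1 * e.1 :=
      ⟨⟨_, refl_dx P.C e.2.1 g.2.1, (e.2.2.mul_right g.2.2).mul_right e.2.2⟩, rfl⟩
    have t1 := E_third Γ P (v_mem_E Γ P hp) heg hf
    have t2 := E_third Γ P (v_mem_E Γ P hp') heg hf
    rw [he, zero_mul, add_zero] at t1
    rw [hall g hg, zero_add] at t2
    have h1 : v Γ p f ≠ 0 := fun h => hg (by rw [← t1, h, zero_mul])
    rw [hall f h1, zero_mul] at t2
    exact mul_ne_zero he' (φ_ne Γ P heg) t2.symm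
  obtain ⟨k, hk⟩ := exists_kappa Γ P hp' hf'
  rw [α_eq Γ P hp' hf' hk]
  -- pull back
  have h1 := (sconj_comm Γ P a l).mpr hk
  rw [hp'def, sconj_eq Γ P] at h1
  obtain ⟨δ, hδ, hcases⟩ := s_conj_s Γ P a f l k
  have hYY : s Γ a l * Y Γ f k * s Γ a l =
      (s Γ a l * s Γ f k * s Γ a l) * Y Γ a l * (s Γ a l * s Γ f k * s Γ a l) := by
    rw [Y, Y]
    calc s Γ a l * (s Γ f k * z * s Γ f k) * s Γ a l
        = s Γ a l * s Γ f k * 1 * z * 1 * s Γ f k * s Γ a l := by group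
      _ = s Γ a l * s Γ f k * (s Γ a l * s Γ a l) * z * (s Γ a l * s Γ a l) * s Γ f k * s Γ a l := by
        rw [s_sq Γ P]
      _ = _ := by group
  rw [hYY] at h1
  have key : ∀ {q : G}, q ∈ A D x → v Γ q = v Γ p →
      Commute q (s Γ f k * Y Γ a l * s Γ f k) → α Γ q + k * v Γ p f = l * (k ^ 2 * Γ.φ f a) := by
    intro q hq hvq hc
    have h2 := (sconj_comm Γ P f k).mpr hc
    rw [sconj_eq Γ P, comm_Y Γ P (sconj_mem Γ P f k hq), α_s_support Γ P hq (by rwa [hvq]),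
      v_s Γ P f k hq, hvq] at h2
    rw [h2, Pi.add_apply, ha, zero_add]
    rfl
  rw [hv']
  have hφ : Γ.φ a f = Γ.φ f a ^ 2 := Γ.φ_symm a f
  have hk4 : (k ^ 2) ^ 2 = k := UnitaryF4Geo.sq_sq k
  rcases hcases with ⟨h0δ, e⟩ | ⟨h1δ, e⟩ <;> rw [e] at h1
  · have hh := key hp rfl h1
    rw [h0δ] at hδ
    rw [hφ]
    linear_combination -hh - hδ + (l ^ 2 * Γ.φ f a ^ 2) * hk4 +
      (k * v Γ p f + k * l ^ 2 * Γ.φ f a ^ 2 - k ^ 2 * l * Γ.φ f a -
        k ^ 4 * l ^ 2 * Γ.φ f a ^ 2) * (UnitaryF4Geo.two_eq_zero (F := F))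
  · have h2 : Commute (x * p * x) (s Γ f k * Y Γ a l * s Γ f k) := by
      have h3 := (refl_comm P.C P.hx).mpr h1
      convert h3 using 1
      calc s Γ f k * Y Γ a l * s Γ f k
          = (x * x) * s Γ f k * Y Γ a l * ((x * x) * s Γ f k) := by
            simp only [P.C.tc.sq x P.hx, one_mul]
        _ = (x * x) * s Γ f k * Y Γ a l * (x * (x * s Γ f k)) := by group
        _ = (x * x) * s Γ f k * Y Γ a l * (x * (s Γ f k * x)) := by rw [(s_x Γ P f k).eq]
        _ = _ := by group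
    have hh := key (xconj_mem P hp) (v_x Γ P hp) h2
    rw [α_x Γ P hp] at hh
    rw [h1δ] at hδ
    rw [hφ]
    linear_combination -hh + hδ + (l ^ 2 * Γ.φ f a ^ 2) * hk4 +
      (k * v Γ p f + k * l ^ 2 * Γ.φ f a ^ 2) * (UnitaryF4Geo.two_eq_zero (F := F))

theorem trace_eq {p : G} (hp : p ∈ A D x) :
    ∀ Φ : (T D x z → F) →ₗ[F] F, (∀ e, Φ (r Γ e) = v Γ p e ^ 2) →
      Φ (v Γ p) = α Γ p + α Γ p ^ 2 := by
  have hr := reach Γ P hp
  clear hp
  induction hr with
  | base => intro Φ _; rw [v_z Γ P, map_zero, α_z Γ P]; ring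
  | @x_conj q hq ih =>
    intro Φ hΦ
    have hqA := reach_mem Γ P hq
    rw [v_x Γ P hqA] at hΦ ⊢
    rw [ih Φ hΦ, α_x Γ P hqA]
    linear_combination (-(α Γ q) - 1) * (UnitaryF4Geo.two_eq_zero (F := F))
  | @t_conj q a l hq ih =>
    intro Φ hΦ
    have hqA := reach_mem Γ P hq
    by_cases hl : l = 0
    · rw [hl, t_zero P Γ, one_mul, mul_one] at hΦ ⊢
      exact ih Φ hΦ
    have e : Γ.t a l * q * Γ.t a l = x * (s Γ a l * q * s Γ a l) * x := by
      rw [sconj_ne Γ P a hl, xconj_eq P]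
    rw [v_t Γ P a l hqA] at hΦ ⊢
    obtain ⟨Ψ, hΨ⟩ := exists_pair Γ P (v_mem_E Γ P hqA)
    have hΦΨ : Φ (v Γ q) = (Ψ + l • LinearMap.proj a : (T D x z → F) →ₗ[F] F) (v Γ q) := by
      refine LinearMap.eqOn_span (fun w hw => ?_) (v_mem_E Γ P hqA)
      obtain ⟨e, rfl⟩ := hw
      rw [hΦ, LinearMap.add_apply, hΨ, LinearMap.smul_apply, LinearMap.proj_apply, Pi.add_apply,
        UnitaryF4Geo.sq_add, Pi.smul_apply, smul_eq_mul, smul_eq_mul, mul_pow,
        UnitaryF4Geo.sq_sq]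
      show v Γ q e ^ 2 + l * Γ.φ a e ^ 2 = _ + l * Γ.φ e a
      rw [← Γ.φ_symm]
    rw [map_add, map_smul, hΦ, Pi.add_apply, Pi.smul_apply, row_self Γ P, smul_zero, add_zero, hΦΨ,
      LinearMap.add_apply, ih Ψ hΨ, LinearMap.smul_apply, LinearMap.proj_apply, e,
      α_x Γ P (sconj_mem Γ P a l hqA), α_s Γ P hqA, smul_eq_mul, smul_eq_mul]
    linear_combination (-(α Γ q * l * v Γ q a) - α Γ q - l * v Γ q a - 1) *
      (UnitaryF4Geo.two_eq_zero (F := F))

/-- Every isotropic point is taken. -/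
theorem exists_point {u : T D x z → F} (hu : u ∈ E Γ) {β : F}
    {Φ : (T D x z → F) →ₗ[F] F} (hΦ : ∀ e, Φ (r Γ e) = u e ^ 2) (hβ : Φ u = β + β ^ 2) :
    ∃ p ∈ A D x, v Γ p = u ∧ α Γ p = β := by
  obtain ⟨p, hp, hv⟩ : ∃ p ∈ A D x, v Γ p = u := by
    have : ∀ (c : F) (q : G), q ∈ A D x → ∃ q' ∈ A D x, v Γ q' = v Γ q + c • u := by
      clear hΦ hβ
      induction hu using Submodule.span_induction with
      | mem u hu =>
        obtain ⟨a, rfl⟩ := hu
        intro c q hq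
        exact ⟨_, tconj_mem Γ P a (c ^ 2) hq, by rw [v_t Γ P a _ hq, UnitaryF4Geo.sq_sq]⟩
      | zero => intro c q hq; exact ⟨q, hq, by rw [smul_zero, add_zero]⟩
      | add u u' _ _ h h' =>
        intro c q hq
        obtain ⟨q1, hq1, e1⟩ := h c q hq
        obtain ⟨q2, hq2, e2⟩ := h' c q1 hq1
        exact ⟨q2, hq2, by rw [e2, e1, smul_add, add_assoc]⟩
      | smul k u _ h =>
        intro c q hq
        obtain ⟨q1, hq1, e1⟩ := h (c * k) q hq
        exact ⟨q1, hq1, by rw [e1, smul_smul]⟩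
    obtain ⟨p, hp, e⟩ := this 1 z (z_mem P)
    exact ⟨p, hp, by rw [e, v_z Γ P, zero_add, one_smul]⟩
  have ht := trace_eq Γ P hp Φ (hv ▸ hΦ)
  rw [hv, hβ] at ht
  have h : (α Γ p - β) * (α Γ p + β + 1) = 0 := by linear_combination -ht
  rcases mul_eq_zero.mp h with e | e
  · exact ⟨p, hp, hv, sub_eq_zero.mp e⟩
  · refine ⟨_, xconj_mem P hp, by rw [v_x Γ P hp, hv], ?_⟩
    rw [α_x Γ P hp]
    linear_combination e - β * (UnitaryF4Geo.two_eq_zero (F := F))

end Cfsg.Agent.FischerUnFeet99
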