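import Cfsg.Agent.Lib.FischerPolarSize99
import Cfsg.Agent.Lib.UnitaryF4Geo

/-!
Coherent labels of the classes of four at a transposition by the field with four elements.
-/

set_option autoImplicit false
set_option linter.style.haveILetI false
set_option linter.unusedSectionVars false

namespace Cfsg.Agent.FischerUnLabel99

open Cfsg.Agent.ThreeTransp
open Cfsg.Agent.FischerPolar99
open Cfsg.Agent.UnitaryF4Geo (FourField)

variable {G : Type*} [Group G] {D : Set G} {x z : G}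

/-- A vertex, a transposition missing it, and classes of four. -/
structure Frame (D : Set G) (x z : G) : Prop where
  C : PCtx D
  s4 : ∀ u ∈ D, ∀ y ∈ Dx D u, (Cls D u y).ncard = 4
  hx : x ∈ D
  hz : z ∈ D
  hzx : ¬ Commute z x

/-- The common perpendicular of the vertex and the transposition missing it. -/
abbrev T (D : Set G) (x z : G) : Type _ := {a : G // a ∈ Dx D x ∧ Commute z a}

/-- The image of `m` in the class of `b`, through the class of `a`. -/
def tau (a b m : G) : G := (a * m) * b * (m * a)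

section Field

variable {F : Type} [Field F] [Fintype F] [FourField F]

/-- A power of the Frobenius map. -/
def fr (σ : ZMod 2) (t : F) : F := if σ = 0 then t else t ^ 2

theorem fr_zero (t : F) : fr 0 t = t := if_pos rfl

theorem fr_one (t : F) : fr 1 t = t ^ 2 := if_neg one_ne_zero

theorem fr_mul (σ : ZMod 2) (s t : F) : fr σ (s * t) = fr σ s * fr σ t := by
  unfold fr; split_ifs <;> ring

theorem fr_fr (σ σ' : ZMod 2) (t : F) : fr σ (fr σ' t) = fr (σ + σ') t := by
  fin_cases σ <;> fin_cases σ'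
  · show fr 0 (fr 0 t) = fr 0 t; rw [fr_zero]
  · show fr 0 (fr 1 t) = fr 1 t; rw [fr_zero]
  · show fr 1 (fr 0 t) = fr 1 t; rw [fr_zero]
  · show fr 1 (fr 1 t) = fr 0 t; rw [fr_one, fr_one, fr_zero, UnitaryF4Geo.sq_sq]

theorem fr_bij (σ : ZMod 2) : Function.Bijective (fr (F := F) σ) :=
  Function.Involutive.bijective fun t => by rw [fr_fr, CharTwo.add_self_eq_zero, fr_zero]

theorem fr_z (σ : ZMod 2) : fr σ (0 : F) = 0 := by unfold fr; split_ifs <;> simp

theorem fr_o (σ : ZMod 2) : fr σ (1 : F) = 1 := by unfold fr; split_ifs <;> simp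

theorem elems_cases {w : F} (hw : w ^ 2 = w + 1) (t : F) : t = 0 ∨ t = 1 ∨ t = w ∨ t = w + 1 := by
  by_cases h0 : t = 0
  · exact Or.inl h0
  by_cases h1 : t = 1
  · exact Or.inr (Or.inl h1)
  have := UnitaryF4Geo.rel h0 h1
  have h : (t - w) * (t - (w + 1)) = 0 := by
    linear_combination this + hw + (1 + w - t * w) * (UnitaryF4Geo.two_eq_zero (F := F))
  rcases mul_eq_zero.mp h with h | h
  · exact Or.inr (Or.inr (Or.inl (sub_eq_zero.mp h)))
  · exact Or.inr (Or.inr (Or.inr (sub_eq_zero.mp h)))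

/-- A bijection fixing zero is semilinear. -/
theorem exists_semilinear (g : F → F) (hg : Function.Injective g) (h0 : g 0 = 0) :
    ∃ c : F, c ≠ 0 ∧ ∃ σ : ZMod 2, ∀ t, g t = c * fr σ t := by
  obtain ⟨w, hw⟩ := UnitaryF4Geo.exists_omega (F := F)
  obtain ⟨w0, w1⟩ := UnitaryF4Geo.omega_ne hw
  set c := g 1 with hc
  have hc0 : c ≠ 0 := fun e => one_ne_zero (hg (e.trans h0.symm))
  have hne : ∀ {t s : F}, t ≠ s → g t / c ≠ g s / c := fun h e =>
    h (hg (by simpa [div_left_inj' hc0] using e))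
  have hw10 : w + 1 ≠ 0 := by rw [← hw]; exact pow_ne_zero 2 w0
  have hw11 : w + 1 ≠ 1 := by simpa using w0
  have e0 : g 0 / c = 0 := by rw [h0, zero_div]
  have e1 : g 1 / c = 1 := div_self hc0
  have hval : ∀ {u v : F}, g u / c = v → g u = c * v := fun h => by
    rw [← h, mul_div_cancel₀ _ hc0]
  have a0 := hne w0
  have a1 := hne w1
  have b0 := hne hw10
  have b1 := hne hw11
  have ab := hne (show w ≠ w + 1 by simp)
  rw [e0] at a0 b0
  rw [e1] at a1 b1
  rcases elems_cases hw (g w / c) with e | e | e | e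
  · exact absurd e a0
  · exact absurd e a1
  · refine ⟨c, hc0, 0, fun t => ?_⟩
    rw [fr_zero]
    rcases elems_cases hw t with h | h | h | h <;> rw [h]
    · simp [h0]
    · simp [hc]
    · exact hval e
    · rcases elems_cases hw (g (w + 1) / c) with f | f | f | f
      · exact absurd f b0
      · exact absurd f b1
      · exact absurd (e.trans f.symm) ab
      · exact hval f
  · refine ⟨c, hc0, 1, fun t => ?_⟩
    rw [fr_one]
    rcases elems_cases hw t with h | h | h | h <;> rw [h]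
    · simp [h0]
    · simp [hc]
    · rw [hw]; exact hval e
    · rw [UnitaryF4Geo.sq_add, one_pow, hw, add_assoc, UnitaryF4Geo.add_self, add_zero]
      rcases elems_cases hw (g (w + 1) / c) with f | f | f | f
      · exact absurd f b0
      · exact absurd f b1
      · exact hval f
      · exact absurd (e.trans f.symm) ab

/-- Two distinct non-zero elements add up to the third. -/
theorem sum_three {r s u : F} (hr : r ≠ 0) (hs : s ≠ 0) (hu : u ≠ 0) (rs : r ≠ s) (ru : r ≠ u)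
    (su : s ≠ u) : r = u + s := by
  have k : ∀ {t : F}, t ≠ 0 → t ≠ u → (t / u) ^ 2 = t / u + 1 := fun ht htu =>
    UnitaryF4Geo.rel (div_ne_zero ht hu) fun e => htu ((div_eq_one_iff_eq hu).mp e)
  have h : (r / u - s / u) * (r / u + s / u + 1) = 0 := by
    linear_combination k hr ru - k hs su + (r / u - s / u) * (UnitaryF4Geo.two_eq_zero (F := F))
  have h' := (mul_eq_zero.mp h).resolve_left
    (sub_ne_zero.mpr fun e => rs ((div_left_inj' hu).mp e))
  field_simp at h'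
  linear_combination h' - (u + s) * (UnitaryF4Geo.two_eq_zero (F := F))

/-- A multiple of a Frobenius power with no exponent is the identity. -/
theorem exp_zero {σ : ZMod 2} {k : F} (h : ∀ t, k * fr σ t = t) : σ = 0 := by
  obtain ⟨w, hw⟩ := UnitaryF4Geo.exists_omega (F := F)
  have h1 := h 1
  rw [fr_o, mul_one] at h1
  have h2 := h w
  rw [h1, one_mul] at h2
  by_contra hne
  rw [fr, if_neg hne, hw] at h2
  simp at h2

end Field

variable [Finite G]

/-- Classes are seen from one member. -/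
theorem Frame.mem_T (P : Frame D x z) {m : G} (hm : m ∈ Dx D x) : ∃ a : T D x z, m ∈ Cls D x a.1 := by
  obtain ⟨a, ha, hza⟩ := exists_foot P.C P.hx hm P.hz P.hzx
  exact ⟨⟨a, ha.1, hza⟩, by rw [cls_eq_of_mem P.C P.hx hm ha]; exact cls_self P.C hm⟩

theorem Frame.T_eq (P : Frame D x z) {a b : T D x z} (h : b.1 ∈ Cls D x a.1) : a = b :=
  Subtype.ext (foot_unique P.C P.hx a.2.1 P.hz P.hzx (cls_self P.C a.2.1) h a.2.2 b.2.2)

theorem Frame.tau_mem (P : Frame D x z) {a b m : G} (ha : a ∈ Dx D x) (hm : m ∈ Cls D x a)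
    (hb : b ∈ Dx D x) : tau a b m ∈ Cls D x b := translate_mem P.C P.hx ha hm hb

theorem Frame.tau_comm (P : Frame D x z) {a b m : G} (ha : a ∈ Dx D x) (hm : m ∈ Cls D x a)
    (hb : b ∈ Dx D x) (hc : Commute a b) : tau a b m = b := by
  have h : Commute (a * m) b := hc.mul_left (hm.2 b hb.1 hb.2.2 hc)
  rw [tau, h.eq, show b * (a * m) * (m * a) = b * (a * (m * m) * a) by group,
    P.C.tc.sq m hm.1.1, mul_one, P.C.tc.sq a ha.1, mul_one]

/-- The product of two reflected members. -/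
theorem Frame.prod_refl (P : Frame D x z) {a b r : G} (ha : a ∈ Dx D x) (hb : b ∈ Dx D x)
    (hab : ¬ Commute a b) (hr : r ∈ Cls D x a) :
    a * b * a * (r * b * r) = b * tau a b r * (a * r) := by
  have hrb : ¬ Commute r b := cls_not_comm P.C P.hx ha hr hb hab
  have e1 : b * a * b = a * b * a := (P.C.tc.braid ha.1 hb.1 hab).symm
  have e2 : b * r * b = r * b * r := (P.C.tc.braid hr.1.1 hb.1 hrb).symm
  rw [← e1, ← e2, tau]
  calc b * a * b * (b * r * b) = b * (a * (b * b) * r) * b := by group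
    _ = b * (a * r) * b * 1 := by rw [P.C.tc.sq b hb.1]; group
    _ = b * (a * r) * b * ((r * a) * (a * r)) := by
      rw [show r * a * (a * r) = r * (a * a) * r by group, P.C.tc.sq a ha.1]
      simp only [mul_one, P.C.tc.sq r hr.1.1]
    _ = _ := by group

theorem Frame.tau_inv (P : Frame D x z) {a b r : G} (ha : a ∈ Dx D x) (hb : b ∈ Dx D x)
    (hab : ¬ Commute a b) (hr : r ∈ Cls D x a) : tau b a (tau a b r) = r := by
  have hw := P.tau_mem ha hr hb
  have hrb : ¬ Commute r b := cls_not_comm P.C P.hx ha hr hb hab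
  set c := a * b * a with hc
  set c' := r * b * r with hc'
  have hcr : ¬ Commute r c := by
    rw [hc, P.C.tc.braid ha.1 hb.1 hab]
    intro h
    have := (refl_comm P.C hb.1).mpr h
    rw [P.C.tc.refl_refl hb.1, P.C.tc.braid hb.1 hr.1.1 fun e => hrb e.symm] at this
    have h2 := (refl_comm P.C hr.1.1).mpr this
    rw [P.C.tc.refl_refl hr.1.1, P.C.tc.fix hr.1.1 (cls_comm_base P.C ha hr).symm] at h2
    exact hab h2.symm
  have hcm : c' ∈ Cls D x c := third_class P.C P.hx ha hr hb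
  have eu := P.prod_refl ha hb hab hr
  have e : b * tau a b r = c * c' * (r * a) := by
    rw [eu, show b * tau a b r * (a * r) * (r * a) = b * tau a b r * (a * (r * r) * a) by group,
      P.C.tc.sq r hr.1.1, mul_one, P.C.tc.sq a ha.1, mul_one]
  have e' : tau a b r * b = a * r * (c' * c) := by
    have := congrArg (·⁻¹) e
    simp only [mul_inv_rev] at this
    rw [P.C.tc.inv_eq hw.1.1, P.C.tc.inv_eq hb.1, P.C.tc.inv_eq ha.1, P.C.tc.inv_eq hr.1.1,
      P.C.tc.inv_eq hcm.1.1, P.C.tc.inv_eq (P.C.tc.refl_mem ha.1 hb.1)] at this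
    exact this
  have key : c' * a * c' = r * c * r := by
    rw [hc', show r * b * r * a * (r * b * r) = r * (b * (r * a * r) * b) * r by group,
      P.C.tc.fix hr.1.1 (cls_comm_base P.C ha hr).symm, ← P.C.tc.braid ha.1 hb.1 hab]
  show b * tau a b r * a * (tau a b r * b) = r
  rw [e, e']
  calc c * c' * (r * a) * a * (a * r * (c' * c)) = c * (c' * (r * (a * a) * a * r) * c') * c := by group
    _ = c * (c' * a * c') * c := by
      rw [P.C.tc.sq a ha.1, mul_one, P.C.tc.fix hr.1.1 (cls_comm_base P.C ha hr).symm]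
    _ = c * (c * r * c) * c := by
      rw [key, P.C.tc.braid hr.1.1 (P.C.tc.refl_mem ha.1 hb.1) hcr]
    _ = r := P.C.tc.refl_refl (P.C.tc.refl_mem ha.1 hb.1) r

/-- The two ways round a triangle. -/
theorem Frame.tau_tau (P : Frame D x z) {a b d r : G} (ha : a ∈ Dx D x) (hb : b ∈ Dx D x)
    (hd : d ∈ Dx D x) (hab : ¬ Commute a b) (hcd : Commute (a * b * a) d) (hr : r ∈ Cls D x a) :
    tau b d (tau a b r) = tau a d r := by
  have hw := P.tau_mem ha hr hb
  have hcm : r * b * r ∈ Cls D x (a * b * a) := third_class P.C P.hx ha hr hb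
  have h1 : Commute (b * tau a b r * (a * r)) d := by
    rw [← P.prod_refl ha hb hab hr]
    exact hcd.mul_left (hcm.2 d hd.1 hd.2.2 hcd)
  have hbw : b * tau a b r * (b * tau a b r) = 1 := translate_invol P.C hb hw
  have e : tau a b r * b = b * tau a b r := (cls_comm_base P.C hb hw).symm.eq
  show b * tau a b r * d * (tau a b r * b) = a * r * d * (r * a)
  rw [e]
  calc b * tau a b r * d * (b * tau a b r)
      = b * tau a b r * (d * (b * tau a b r * (a * r))) * (r * a) := by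
        rw [show b * tau a b r * (d * (b * tau a b r * (a * r))) * (r * a) =
          b * tau a b r * d * (b * tau a b r) * (a * (r * r) * a) by group, P.C.tc.sq r hr.1.1,
          mul_one, P.C.tc.sq a ha.1, mul_one]
    _ = b * tau a b r * (b * tau a b r * (a * r) * d) * (r * a) := by rw [h1.eq]
    _ = b * tau a b r * (b * tau a b r) * ((a * r) * d * (r * a)) := by group
    _ = _ := by rw [hbw, one_mul]

/-- Reflected third members. -/
theorem Frame.third_far (P : Frame D x z) {a b f : G} (ha : a ∈ D) (hb : b ∈ D)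
    (hab : ¬ Commute a b) (haf : Commute a f) (hbf : ¬ Commute b f) :
    ¬ Commute (a * b * a) f := by
  intro h
  have := (refl_comm P.C ha).mpr h
  rw [P.C.tc.refl_refl ha, P.C.tc.fix ha haf] at this
  exact hbf this

/-- Two members of the perpendicular have a common non-neighbour. -/
theorem Frame.common (P : Frame D x z) (a c : T D x z) :
    ∃ m : T D x z, ¬ Commute a.1 m.1 ∧ ¬ Commute c.1 m.1 := by
  have hrefl : ∀ u v : T D x z, ∃ w : T D x z, w.1 = u.1 * v.1 * u.1 := fun u v =>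
    ⟨⟨_, refl_dx P.C u.2.1 v.2.1, (u.2.2.mul_right v.2.2).mul_right u.2.2⟩, rfl⟩
  have hfar : ∀ u : T D x z, ∃ v : T D x z, ¬ Commute u.1 v.1 := by
    intro u
    obtain ⟨b, hb, hn⟩ := exists_far P.C P.hx u.2.1
    obtain ⟨v, hv⟩ := P.mem_T hb
    exact ⟨v, fun h => cls_not_comm P.C P.hx hb (cls_self P.C hb) u.2.1 (fun e => hn e.symm)
      (hv.2 u.1 u.2.1.1 u.2.1.2.2 h.symm)⟩
  by_cases hac : Commute a.1 c.1
  swap
  · obtain ⟨w, hw⟩ := hrefl a c
    exact ⟨w, hw ▸ third_not_comm P.C a.2.1.1 hac, hw ▸ third_not_comm' P.C a.2.1.1 c.2.1.1 hac⟩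
  obtain ⟨b, hab⟩ := hfar a
  obtain ⟨d, hcd⟩ := hfar c
  by_cases hcb : Commute c.1 b.1
  swap
  · exact ⟨b, hab, hcb⟩
  by_cases had : Commute a.1 d.1
  swap
  · exact ⟨d, had, hcd⟩
  by_cases hbd : Commute b.1 d.1
  swap
  · obtain ⟨w, hw⟩ := hrefl d b
    obtain ⟨w', hw'⟩ := hrefl b d
    refine ⟨w, fun h => ?_, fun h => ?_⟩
    · exact P.third_far d.2.1.1 b.2.1.1 (fun e => hbd e.symm) had.symm (fun e => hab e.symm)
        (hw ▸ h).symm
    · rw [hw, P.C.tc.braid d.2.1.1 b.2.1.1 fun e => hbd e.symm] at h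
      exact P.third_far b.2.1.1 d.2.1.1 hbd hcb.symm (fun e => hcd e.symm) h.symm
  have hne : d.1 ≠ b.1 := fun e => hcd (e ▸ hcb)
  have hdb : d.1 ∈ Dx D b.1 := ⟨d.2.1.1, hne, hbd⟩
  obtain ⟨f, hf, hfd⟩ := exists_other P.C b.2.1.1 hdb
  have hxf : Commute f x := hf.2 x P.hx b.2.1.2.2.symm d.2.1.2.2.symm
  have hzf : Commute f z := hf.2 z P.hz b.2.2.symm d.2.2.symm
  have hfx : f ≠ x := by
    intro e
    have h := cls_eq_of_mem P.C b.2.1.1 hdb hf
    have hd' : d.1 ∈ Cls D x b.1 := by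
      refine ⟨d.2.1, fun g hg g1 g2 => ?_⟩
      have : d.1 ∈ Cls D b.1 f := h ▸ cls_self P.C hdb
      exact this.2 g hg g2 (e ▸ g1)
    exact hne (congrArg Subtype.val (P.T_eq hd')).symm
  refine ⟨⟨f, ⟨hf.1.1, hfx, hxf.symm⟩, hzf.symm⟩, fun h => ?_, fun h => ?_⟩
  · exact hab (rule3 P.C b.2.1.1 hdb hf hfd a.2.1.1 had.symm h.symm).symm
  · exact hcd (rule2 P.C b.2.1.1 hdb hf c.2.1.1 hcb.symm h.symm).symm

/-- A function on edges summing to zero round triangles is a coboundary. -/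
theorem Frame.potential (P : Frame D x z) (s : T D x z → T D x z → ZMod 2)
    (hsymm : ∀ a b : T D x z, ¬ Commute a.1 b.1 → s a b = s b a)
    (htri : ∀ a b c : T D x z, ¬ Commute a.1 b.1 → ¬ Commute b.1 c.1 → ¬ Commute a.1 c.1 →
      s a b + s b c = s a c) :
    ∃ e : T D x z → ZMod 2, ∀ a b : T D x z, ¬ Commute a.1 b.1 → s a b = e a + e b := by
  classical
  by_cases hT : Nonempty (T D x z)
  swap
  · exact ⟨fun _ => 0, fun a => absurd ⟨a⟩ hT⟩
  obtain ⟨o⟩ := hT
  have h2 : ∀ u : ZMod 2, u + u = 0 := CharTwo.add_self_eq_zero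
  have hmk : ∀ u v : T D x z, ∃ w : T D x z, w.1 = u.1 * v.1 * u.1 := fun u v =>
    ⟨⟨_, refl_dx P.C u.2.1 v.2.1, (u.2.2.mul_right v.2.2).mul_right u.2.2⟩, rfl⟩
  -- four-cycles
  have h4 : ∀ a b c b' : T D x z, ¬ Commute a.1 b.1 → ¬ Commute c.1 b.1 → ¬ Commute a.1 b'.1 →
      ¬ Commute c.1 b'.1 → s a b + s b c = s a b' + s b' c := by
    intro a b c b' h1 h2' h3 h4
    by_cases hac : Commute a.1 c.1
    swap
    · rw [htri a b c h1 (fun e => h2' e.symm) hac, htri a b' c h3 (fun e => h4 e.symm) hac]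
    by_cases hbb : Commute b.1 b'.1
    swap
    · have t1 := htri b a b' (fun e => h1 e.symm) h3 hbb
      have t2 := htri b c b' (fun e => h2' e.symm) h4 hbb
      rw [hsymm b a fun e => h1 e.symm] at t1
      rw [hsymm c b' h4] at t2
      linear_combination t1 - t2 + (s b c - s a b') * (by decide : (2 : ZMod 2) = 0)
    obtain ⟨e, he⟩ := hmk a b
    have ha : ¬ Commute a.1 e.1 := he ▸ third_not_comm P.C a.2.1.1 h1
    have hb : ¬ Commute b.1 e.1 := he ▸ third_not_comm' P.C a.2.1.1 b.2.1.1 h1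
    have hc : ¬ Commute c.1 e.1 := fun h =>
      P.third_far a.2.1.1 b.2.1.1 h1 hac (fun k => h2' k.symm) (he ▸ h).symm
    have hb' : ¬ Commute b'.1 e.1 := fun h => by
      rw [he, P.C.tc.braid a.2.1.1 b.2.1.1 h1] at h
      exact P.third_far b.2.1.1 a.2.1.1 (fun k => h1 k.symm) hbb h3 h.symm
    have t1 := htri a e b ha (fun k => hb k.symm) h1
    have t2 := htri b e c hb (fun k => hc k.symm) (fun k => h2' k.symm)
    have t3 := htri a e b' ha (fun k => hb' k.symm) h3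
    have t4 := htri b' e c hb' (fun k => hc k.symm) (fun k => h4 k.symm)
    rw [hsymm e b fun k => hb k.symm] at t1
    rw [hsymm e b' fun k => hb' k.symm] at t3
    linear_combination -t1 - t2 + t3 + t4 + (s b e - s b' e) * (by decide : (2 : ZMod 2) = 0)
  choose m hm using fun a => P.common o a
  have hedge : ∀ a : T D x z, ¬ Commute o.1 a.1 → s o (m a) + s (m a) a = s o a := fun a ha =>
    htri o (m a) a (hm a).1 (fun e => (hm a).2 e.symm) ha
  refine ⟨fun a => s o (m a) + s (m a) a, fun a b hab => ?_⟩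
  have hzero : ∀ {u v w : ZMod 2}, u + v = w → v = u + w := fun h => by
    rw [← h, ← add_assoc, h2, zero_add]
  show s a b = s o (m a) + s (m a) a + (s o (m b) + s (m b) b)
  by_cases hoa : Commute o.1 a.1
  swap
  · rw [hedge a hoa]
    exact hzero (h4 o a b (m b) hoa (fun e => hab e.symm) (hm b).1 (hm b).2)
  by_cases hob : Commute o.1 b.1
  swap
  · rw [hedge b hob, hsymm a b hab, add_comm]
    exact hzero (h4 o b a (m a) hob hab (hm a).1 (hm a).2)
  obtain ⟨e, heo, hea, heb⟩ : ∃ e : T D x z, ¬ Commute o.1 e.1 ∧ ¬ Commute a.1 e.1 ∧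
      ¬ Commute b.1 e.1 := by
    by_cases hbm : Commute b.1 (m a).1
    swap
    · exact ⟨m a, (hm a).1, (hm a).2, hbm⟩
    obtain ⟨e, he⟩ := hmk a (m a)
    refine ⟨e, fun h => ?_, he ▸ third_not_comm P.C a.2.1.1 (hm a).2, fun h => ?_⟩
    · exact P.third_far a.2.1.1 (m a).2.1.1 (hm a).2 hoa.symm (fun k => (hm a).1 k.symm) (he ▸ h).symm
    · rw [he, P.C.tc.braid a.2.1.1 (m a).2.1.1 (hm a).2] at h
      exact P.third_far (m a).2.1.1 a.2.1.1 (fun k => (hm a).2 k.symm) hbm.symm hab h.symm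
  have e1 := h4 o (m a) a e (hm a).1 (hm a).2 heo hea
  have e2 := h4 o (m b) b e (hm b).1 (hm b).2 heo heb
  have t := htri a e b hea (fun k => heb k.symm) hab
  rw [hsymm a e hea] at t
  rw [e1, e2, ← t]
  linear_combination -(s o e) * (by decide : (2 : ZMod 2) = 0)

/-- Coherent labels. -/
structure Gauge (D : Set G) (x z : G) (F : Type) [Field F] where
  mem : T D x z → F → G
  φ : T D x z → T D x z → F
  mem_zero : ∀ a, mem a 0 = a.1
  mem_cls : ∀ a l, mem a l ∈ Cls D x a.1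
  mem_inj : ∀ a, Function.Injective (mem a)
  mem_surj : ∀ a : T D x z, ∀ m ∈ Cls D x a.1, ∃ l, mem a l = m
  tau_eq : ∀ a b l, tau a.1 b.1 (mem a l) = mem b (l * φ b a)
  φ_zero : ∀ a b, φ b a = 0 ↔ Commute a.1 b.1
  φ_symm : ∀ a b, φ a b = φ b a ^ 2

variable {F : Type} [Field F] [Fintype F] [FourField F]

theorem Frame.exists_gauge (P : Frame D x z) : Nonempty (Gauge D x z F) := by
  classical
  -- raw labels
  have hraw : ∀ a : T D x z, ∃ e : F ≃ ↥(Cls D x a.1), (e 0).1 = a.1 := by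
    intro a
    obtain ⟨e⟩ : Nonempty (F ≃ ↥(Cls D x a.1)) := Finite.card_eq.mp (by
      rw [Nat.card_eq_fintype_card, FourField.card_eq, Nat.card_coe_set_eq, P.s4 x P.hx a.1 a.2.1])
    exact ⟨e.trans (Equiv.swap (e 0) ⟨a.1, cls_self P.C a.2.1⟩), by simp⟩
  choose L hL using hraw
  have hLinj : ∀ (a : T D x z) (u v : F), (L a u).1 = (L a v).1 → u = v := fun a u v e =>
    (L a).injective (Subtype.ext e)
  -- semilinearity of the edges
  have hedge : ∀ a b : T D x z, ∃ (c : F) (σ : ZMod 2), ¬ Commute a.1 b.1 →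
      c ≠ 0 ∧ ∀ t, tau a.1 b.1 (L a t).1 = (L b (c * fr σ t)).1 := by
    intro a b
    by_cases hc : Commute a.1 b.1
    · exact ⟨0, 0, fun h => absurd hc h⟩
    let g : F → F := fun t => (L b).symm ⟨_, P.tau_mem a.2.1 (L a t).2 b.2.1⟩
    have hg : ∀ t, (L b (g t)).1 = tau a.1 b.1 (L a t).1 := fun t => by simp [g]
    have ginj : Function.Injective g := by
      intro u v e
      have h := hg u
      rw [e, hg] at h
      apply hLinj a
      rw [← P.tau_inv a.2.1 b.2.1 hc (L a u).2, ← h, P.tau_inv a.2.1 b.2.1 hc (L a v).2]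
    have g0 : g 0 = 0 := by
      apply hLinj b
      rw [hg, hL, hL, tau, P.C.tc.sq a.1 a.2.1.1, one_mul, mul_one]
    obtain ⟨c, hc0, σ, h⟩ := exists_semilinear g ginj g0
    exact ⟨c, σ, fun _ => ⟨hc0, fun t => by rw [← h, hg]⟩⟩
  choose c σ hcσ using hedge
  have hc0 : ∀ {a b : T D x z}, ¬ Commute a.1 b.1 → c a b ≠ 0 := fun h => (hcσ _ _ h).1
  have hcs : ∀ {a b : T D x z}, ¬ Commute a.1 b.1 → ∀ t,
      tau a.1 b.1 (L a t).1 = (L b (c a b * fr (σ a b) t)).1 := fun h => (hcσ _ _ h).2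
  have hinv : ∀ {a b : T D x z}, ¬ Commute a.1 b.1 → ∀ t,
      c b a * fr (σ b a) (c a b * fr (σ a b) t) = t := by
    intro a b h t
    apply hLinj a
    rw [← hcs (fun e => h e.symm), ← hcs h, P.tau_inv a.2.1 b.2.1 h (L a t).2]
  have hsymm : ∀ a b : T D x z, ¬ Commute a.1 b.1 → σ a b = σ b a := by
    intro a b h
    have := exp_zero (k := c b a * fr (σ b a) (c a b)) (σ := σ b a + σ a b) fun t => by
      rw [mul_assoc, ← fr_fr, ← fr_mul, hinv h t]
    exact (CharTwo.add_eq_zero.mp this).symm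
  have htri : ∀ a b d : T D x z, ¬ Commute a.1 b.1 → ¬ Commute b.1 d.1 → ¬ Commute a.1 d.1 →
      σ a b + σ b d = σ a d := by
    intro a b d hab hbd had
    set k := c d a * fr (σ d a) (c b d * fr (σ b d) (c a b))
    set τ := σ d a + (σ b d + σ a b)
    have hcomp : ∀ t, tau d.1 a.1 (tau b.1 d.1 (tau a.1 b.1 (L a t).1)) = (L a (k * fr τ t)).1 := by
      intro t
      rw [hcs hab, hcs hbd, hcs fun e => had e.symm]
      congr 2
      simp only [k, τ, fr_mul, fr_fr]
      ring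
    have hτ : τ = 0 := by
      by_cases hcd : Commute (a.1 * b.1 * a.1) d.1
      · refine exp_zero (k := k) fun t => hLinj a _ _ ?_
        rw [← hcomp, P.tau_tau a.2.1 b.2.1 d.2.1 hab hcd (L a t).2,
          P.tau_inv a.2.1 d.2.1 had (L a t).2]
      by_contra hne
      have hk : k ≠ 0 := by
        refine mul_ne_zero (hc0 fun e => had e.symm) fun e => ?_
        have := (fr_bij (σ d a)).1 (e.trans (fr_z _).symm)
        refine mul_ne_zero (hc0 hbd) (fun e' => hc0 hab ((fr_bij (σ b d)).1 (e'.trans (fr_z _).symm))) this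
      have hfix : k * fr τ (k ^ 2) = k ^ 2 := by
        rw [fr, if_neg hne, UnitaryF4Geo.sq_sq, pow_two]
      have hr : (L a (k ^ 2)).1 ≠ a.1 := fun e =>
        pow_ne_zero 2 hk (hLinj a _ _ (e.trans (hL a).symm))
      have h := hcomp (k ^ 2)
      rw [hfix] at h
      have hn := P.tau_mem a.2.1 (L a (k ^ 2)).2 b.2.1
      have hm : tau b.1 d.1 (tau a.1 b.1 (L a (k ^ 2)).1) ∈ Cls D x d.1 :=
        P.tau_mem b.2.1 hn d.2.1
      have h' := congrArg (tau a.1 d.1) h
      rw [P.tau_inv d.2.1 a.2.1 (fun e => had e.symm) hm] at h'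
      exact FischerPolarSize99.derange P.C P.hx a.2.1 b.2.1 d.2.1 hab hcd hbd (L a (k ^ 2)).2 hr h'
    simp only [τ] at hτ
    rw [hsymm d a fun e => had e.symm] at hτ
    linear_combination hτ - σ a d * (by decide : (2 : ZMod 2) = 0)
  obtain ⟨e, he⟩ := P.potential σ hsymm htri
  let mem : T D x z → F → G := fun a l => (L a (fr (e a) l)).1
  let φ : T D x z → T D x z → F := fun b a => if Commute a.1 b.1 then 0 else fr (e b) (c a b)
  have htau : ∀ a b l, tau a.1 b.1 (mem a l) = mem b (l * φ b a) := by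
    intro a b l
    by_cases hc : Commute a.1 b.1
    · simp only [mem, φ, if_pos hc, mul_zero, fr_z, hL]
      exact P.tau_comm a.2.1 (L a _).2 b.2.1 hc
    · simp only [mem, φ, if_neg hc]
      rw [hcs hc, he a b hc]
      congr 2
      rw [fr_fr, fr_mul, fr_fr, CharTwo.add_self_eq_zero, fr_zero, mul_comm]
      congr 2
      linear_combination (e a) * (by decide : (2 : ZMod 2) = 0)
  have hφ0 : ∀ a b, φ b a = 0 ↔ Commute a.1 b.1 := by
    intro a b
    constructor
    · intro h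
      by_contra hn
      simp only [φ, if_neg hn] at h
      exact hc0 hn ((fr_bij (e b)).1 (h.trans (fr_z _).symm))
    · intro h; simp [φ, h]
  have hinj : ∀ a, Function.Injective (mem a) := fun a u v h => (fr_bij (e a)).1 (hLinj a _ _ h)
  refine ⟨⟨mem, φ, fun a => by simp [mem, fr_z, hL], fun a l => (L a _).2, hinj,
    fun a m hm => ?_, htau, hφ0, fun a b => ?_⟩⟩
  · obtain ⟨l, hl⟩ := (fr_bij (e a)).2 ((L a).symm ⟨m, hm⟩)
    exact ⟨l, by simp [mem, hl]⟩
  · by_cases hc : Commute a.1 b.1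
    · rw [(hφ0 b a).mpr hc.symm, (hφ0 a b).mpr hc]; simp
    · have h1 : mem a (φ b a * φ a b) = mem a 1 := by
        have h := P.tau_inv a.2.1 b.2.1 hc (r := mem a 1) (L a _).2
        rwa [htau, one_mul, htau] at h
      have h2 := hinj a h1
      have h3 : φ b a ≠ 0 := fun h => hc ((hφ0 a b).mp h)
      apply mul_left_cancel₀ h3
      rw [h2, ← pow_succ']
      exact (UnitaryF4Geo.cube h3).symm

/-! ### Translations -/

/-- The translation at `a` with a label. -/
def Gauge.t (Γ : Gauge D x z F) (a : T D x z) (l : F) : G := a.1 * Γ.mem a l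

variable (P : Frame D x z) (Γ : Gauge D x z F)
include P

theorem t_zero (a : T D x z) : Γ.t a 0 = 1 := by
  rw [Gauge.t, Γ.mem_zero, P.C.tc.sq a.1 a.2.1.1]

theorem t_comm (a : T D x z) (l : F) : a.1 * Γ.mem a l = Γ.mem a l * a.1 :=
  (cls_comm_base P.C a.2.1 (Γ.mem_cls a l)).eq

theorem t_sq (a : T D x z) (l : F) : Γ.t a l * Γ.t a l = 1 :=
  translate_invol P.C a.2.1 (Γ.mem_cls a l)

theorem t_inv (a : T D x z) (l : F) : (Γ.t a l)⁻¹ = Γ.t a l :=
  inv_eq_of_mul_eq_one_right (t_sq P Γ a l)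

theorem t_x (a : T D x z) (l : F) : Commute (Γ.t a l) x :=
  a.2.1.2.2.symm.mul_left (Γ.mem_cls a l).1.2.2.symm

theorem t_base (a b : T D x z) (l : F) : Γ.t a l * b.1 * Γ.t a l = Γ.mem b (l * Γ.φ b a) := by
  rw [← Γ.tau_eq a b l, tau, ← t_comm P Γ a l]
  rfl

/-- Translations act affinely. -/
theorem t_mem (a b : T D x z) (l μ : F) :
    Γ.t a l * Γ.mem b μ * Γ.t a l = Γ.mem b (μ + l * Γ.φ b a) := by
  by_cases hν : l * Γ.φ b a = 0
  · rw [hν, add_zero]
    rcases mul_eq_zero.mp hν with rfl | h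
    · rw [t_zero P Γ, one_mul, mul_one]
    have hc := (Γ.φ_zero a b).mp h
    have h1 : ∀ {r : G}, r ∈ Cls D x a.1 → Commute r (Γ.mem b μ) := fun hr =>
      ((Γ.mem_cls b μ).2 _ hr.1.1 hr.1.2.2 (hr.2 b.1 b.2.1.1 b.2.1.2.2 hc).symm).symm
    have h2 : Commute (Γ.t a l) (Γ.mem b μ) :=
      (h1 (cls_self P.C a.2.1)).mul_left (h1 (Γ.mem_cls a l))
    rw [h2.eq, mul_assoc, t_sq P Γ, mul_one]
  set f : G → G := fun u => Γ.t a l * u * Γ.t a l with hf
  have hff : ∀ u, f (f u) = u := fun u => by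
    calc f (f u) = (Γ.t a l * Γ.t a l) * u * (Γ.t a l * Γ.t a l) := by simp only [hf]; group
      _ = u := by rw [t_sq P Γ, one_mul, mul_one]
  have e0 : f (Γ.mem b 0) = Γ.mem b (l * Γ.φ b a) := by rw [Γ.mem_zero]; exact t_base P Γ a b l
  show f (Γ.mem b μ) = _
  by_cases h0 : μ = 0
  · rw [h0, zero_add, e0]
  by_cases hν' : μ = l * Γ.φ b a
  · rw [hν', ← e0, hff, UnitaryF4Geo.add_self]
  have hab : ¬ Commute a.1 b.1 := fun h => hν (by rw [(Γ.φ_zero a b).mpr h, mul_zero])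
  have hne : Γ.mem a l ≠ a.1 := by
    rw [← Γ.mem_zero a]
    exact fun e => hν (by rw [Γ.mem_inj a e, zero_mul])
  have hm : f (Γ.mem b μ) ∈ Cls D x b.1 := by
    rw [← cls_eq_of_mem P.C P.hx b.2.1 (Γ.mem_cls b μ)]
    have h := translate_mem P.C P.hx a.2.1 (Γ.mem_cls a l) (Γ.mem_cls b μ).1
    rwa [← t_comm P Γ a l] at h
  obtain ⟨ρ, hρ⟩ := Γ.mem_surj b _ hm
  have n1 : ρ ≠ 0 := fun e => hν' (Γ.mem_inj b (by
    rw [e] at hρ
    rw [← hff (Γ.mem b μ), ← hρ, e0]))
  have n2 : ρ ≠ l * Γ.φ b a := fun e => h0 (Γ.mem_inj b (by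
    rw [e, ← e0] at hρ
    rw [← hff (Γ.mem b μ), ← hρ, hff]))
  have n3 : ρ ≠ μ := fun e => by
    rw [e] at hρ
    refine translate_ne P.C P.hx a.2.1 (Γ.mem_cls a l) hne (Γ.mem_cls b μ).1 (fun h => ?_) ?_
    · exact hab (rule2 P.C P.hx b.2.1 (Γ.mem_cls b μ) a.2.1.1 a.2.1.2.2 h.symm).symm
    · rw [← t_comm P Γ a l]; exact hρ.symm
  rw [← hρ]
  rw [sum_three n1 h0 hν n3 n2 hν', add_comm μ]

theorem t_mem' (a b : T D x z) (l μ : F) :
    Γ.t a l * Γ.t b μ * Γ.t a l = Γ.mem b (l * Γ.φ b a) * Γ.mem b (μ + l * Γ.φ b a) := by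
  rw [← t_base P Γ, ← t_mem P Γ]
  calc Γ.t a l * (b.1 * Γ.mem b μ) * Γ.t a l
      = Γ.t a l * b.1 * (Γ.t a l * Γ.t a l) * Γ.mem b μ * Γ.t a l := by rw [t_sq P Γ]; group
    _ = _ := by group

/-- The product of two translations at one class. -/
theorem t_mul (a : T D x z) {l μ : F} (hl : l ≠ 0) (hμ : μ ≠ 0) (hne : l ≠ μ) :
    Γ.t a l * Γ.t a μ = x * Γ.t a (l + μ) := by
  have na : ∀ {t : F}, t ≠ 0 → Γ.mem a t ≠ a.1 := fun ht e =>
    ht (Γ.mem_inj a (e.trans (Γ.mem_zero a).symm))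
  obtain ⟨h4, hcl, -⟩ := FischerPolarSize99.line_product P.C P.hx a.2.1 (P.s4 x P.hx a.1 a.2.1)
    (Γ.mem_cls a l) (Γ.mem_cls a μ) (na hl) (na hμ) (fun e => hne (Γ.mem_inj a e))
  have hs : l + μ ≠ 0 := fun e => hne (UnitaryF4Geo.eq_of_add_eq_zero e)
  have hm := Γ.mem_cls a (l + μ)
  rw [hcl, Set.mem_insert_iff, Set.mem_insert_iff, Set.mem_insert_iff, Set.mem_singleton_iff] at hm
  rcases hm with e | e | e | e
  · exact absurd e (na hs)
  · exact absurd (Γ.mem_inj a e) (by simpa using hμ)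
  · exact absurd (Γ.mem_inj a e) (by simpa using hl)
  rw [Gauge.t, Gauge.t, Gauge.t, e]
  have hax : a.1 * x = x * a.1 := a.2.1.2.2.symm.eq
  calc a.1 * Γ.mem a l * (a.1 * Γ.mem a μ)
      = a.1 * (Γ.mem a l * a.1) * Γ.mem a μ := by group
    _ = (x * x) * (a.1 * (a.1 * Γ.mem a l)) * Γ.mem a μ := by
      rw [t_comm P Γ, P.C.tc.sq x P.hx, one_mul]
    _ = x * (x * a.1) * a.1 * Γ.mem a l * Γ.mem a μ := by group
    _ = x * (a.1 * x) * a.1 * Γ.mem a l * Γ.mem a μ := by rw [hax]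
    _ = _ := by group

/-- Reflection of a labelled member in a member of the perpendicular. -/
theorem refl_mem_eq {b c d : T D x z} (hbd : ¬ Commute d.1 b.1) (hc : c.1 = d.1 * b.1 * d.1)
    (l : F) : d.1 * Γ.mem b l * d.1 = Γ.mem c (l * Γ.φ c b) := by
  have hm := Γ.mem_cls b l
  have hdm : ¬ Commute (Γ.mem b l) d.1 :=
    cls_not_comm P.C P.hx b.2.1 hm d.2.1 fun e => hbd e.symm
  rw [← Γ.tau_eq, tau, hc, P.C.tc.braid d.2.1.1 b.2.1.1 hbd]
  calc d.1 * Γ.mem b l * d.1 = Γ.mem b l * d.1 * Γ.mem b l :=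
        (P.C.tc.braid hm.1.1 d.2.1.1 hdm).symm
    _ = (b.1 * Γ.mem b l * b.1) * d.1 * (b.1 * Γ.mem b l * b.1) := by
        rw [P.C.tc.fix b.2.1.1 (cls_comm_base P.C b.2.1 hm)]
    _ = _ := by group

theorem t_third {b c d : T D x z} (hbd : ¬ Commute d.1 b.1) (hc : c.1 = d.1 * b.1 * d.1) (l : F) :
    Γ.t c (l * Γ.φ c b) = Γ.t b l * Γ.t d (l * Γ.φ d b) := by
  have e1 : Γ.t c (l * Γ.φ c b) = d.1 * Γ.t b l * d.1 := by
    rw [Gauge.t, ← refl_mem_eq P Γ hbd hc, hc, Gauge.t]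
    calc d.1 * b.1 * d.1 * (d.1 * Γ.mem b l * d.1) = d.1 * b.1 * (d.1 * d.1) * Γ.mem b l * d.1 := by group
      _ = _ := by rw [P.C.tc.sq d.1 d.2.1.1]; group
  rw [e1]
  show _ = Γ.t b l * (d.1 * Γ.mem d (l * Γ.φ d b))
  rw [t_comm P Γ d, ← t_base P Γ b d l]
  calc d.1 * Γ.t b l * d.1 = (Γ.t b l * Γ.t b l) * d.1 * Γ.t b l * d.1 := by
        rw [t_sq P Γ, one_mul]
    _ = _ := by group

/-- The linear relation among three columns. -/
theorem φ_third {b c d : T D x z} (hbd : ¬ Commute d.1 b.1) (hc : c.1 = d.1 * b.1 * d.1)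
    (e : T D x z) : Γ.φ e c * Γ.φ c b = Γ.φ e b + Γ.φ e d * Γ.φ d b := by
  have h := t_mem P Γ c e (1 * Γ.φ c b) 0
  rw [t_third P Γ hbd hc] at h
  have h2 : Γ.t b 1 * (Γ.t d (1 * Γ.φ d b) * Γ.mem e 0 * Γ.t d (1 * Γ.φ d b)) * Γ.t b 1 =
      Γ.mem e (0 + 1 * Γ.φ d b * Γ.φ e d + 1 * Γ.φ e b) := by rw [t_mem P Γ, t_mem P Γ]
  have hcomm : Γ.t d (1 * Γ.φ d b) * Γ.t b 1 = Γ.t b 1 * Γ.t d (1 * Γ.φ d b) := by
    have h3 := congrArg (·⁻¹) (t_third P Γ hbd hc (1 : F))
    rw [mul_inv_rev, t_inv P Γ, t_inv P Γ, t_inv P Γ, t_third P Γ hbd hc] at h3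
    exact h3.symm
  have h5 : Γ.mem e (0 + 1 * Γ.φ c b * Γ.φ e c) =
      Γ.mem e (0 + 1 * Γ.φ d b * Γ.φ e d + 1 * Γ.φ e b) := by
    rw [← h, ← h2]
    nth_rewrite 2 [← hcomm]
    group
  have h6 := Γ.mem_inj e h5
  linear_combination h6

end Cfsg.Agent.FischerUnLabel99
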