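import Mathlib
import Cfsg.Prelude.Def_Exceptional
import Cfsg.Agent.Lib.PSL2Proj52
import Cfsg.Agent.Lib.PSL2Small
import Cfsg.Agent.Lib.SignalizerStrongEmb
import Cfsg.Agent.S0144
import Cfsg.Agent.S0254

/-!
Simple groups with at most five orbits of the automorphism group on elements, from the
classification of CIT groups and of groups with orders `2q`.
-/

set_option autoImplicit false

namespace Cfsg.Agent.FiveOrbit9

open Matrix Subgroup
open scoped MatrixGroups

universe u

/-- `G` has an element of order `n`. -/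
def Has (G : Type u) [Group G] (n : ℕ) : Prop := ∃ g : G, orderOf g = n

variable {G : Type u} [Group G]

theorem Has.of_dvd {n d : ℕ} (h : Has G n) (hn : n ≠ 0) (hd : d ∣ n) : Has G d := by
  obtain ⟨g, hg⟩ := h
  refine ⟨g ^ (n / d), ?_⟩
  obtain ⟨k, rfl⟩ := hd
  have hd0 : 0 < d := Nat.pos_of_ne_zero (left_ne_zero_of_mul hn)
  rw [Nat.mul_div_cancel_left _ hd0, orderOf_pow' g (right_ne_zero_of_mul hn), hg,
    Nat.gcd_eq_right (dvd_mul_left k d),
    Nat.mul_div_cancel _ (Nat.pos_of_ne_zero (right_ne_zero_of_mul hn))]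

theorem Has.of_equiv {H : Type*} [Group H] (e : G ≃* H) {h : H} : Has G (orderOf h) :=
  ⟨e.symm h, e.symm.orderOf_eq h⟩

theorem has_one : Has G 1 := ⟨1, orderOf_one⟩

variable [Finite G]

theorem has_prime {r : ℕ} (hr : r.Prime) (h : r ∣ Nat.card G) : Has G r := by
  have := Fact.mk hr
  exact exists_prime_orderOf_dvd_card' r h

/-- At most five orbits, hence at most five orders. -/
theorem card_le_five (h5 : Nat.card (MulAction.orbitRel.Quotient (MulAut G) G) ≤ 5) (s : Finset ℕ)
    (hs : ∀ n ∈ s, Has G n) : s.card ≤ 5 := by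
  classical
  choose g hg using hs
  let f : ↥s → MulAction.orbitRel.Quotient (MulAut G) G := fun n => Quotient.mk'' (g n.1 n.2)
  have hf : Function.Injective f := by
    intro a b hab
    obtain ⟨φ, hφ⟩ : g a.1 a.2 ∈ MulAction.orbit (MulAut G) (g b.1 b.2) := Quotient.eq''.1 hab
    have := φ.orderOf_eq (g b.1 b.2)
    rw [show φ (g b.1 b.2) = g a.1 a.2 from hφ, hg, hg] at this
    exact Subtype.ext this
  exact le_trans (by simp) ((Nat.card_le_card_of_injective f hf).trans h5)

theorem six_false (h5 : Nat.card (MulAction.orbitRel.Quotient (MulAut G) G) ≤ 5) (l : List ℕ)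
    (hl : l.length = 6) (hd : l.Nodup) (hs : ∀ n ∈ l, Has G n) : False := by
  have := card_le_five h5 l.toFinset fun n hn => hs n (List.mem_toFinset.1 hn)
  rw [List.toFinset_card_of_nodup hd, hl] at this
  omega

/-- A non-abelian simple group has a prime divisor outside any two given primes. -/
theorem third_prime [IsSimpleGroup G] (hG : ¬ IsMulCommutative G) {r s : ℕ} (hr : r.Prime)
    (hs : s.Prime) : ∃ t : ℕ, t.Prime ∧ t ∣ Nat.card G ∧ t ≠ r ∧ t ≠ s := by
  by_contra hc
  push Not at hc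
  have hall : ∀ t : ℕ, t.Prime → t ∣ Nat.card G → t = r ∨ t = s := fun t ht hd => by
    by_cases h : t = r
    · exact Or.inl h
    · exact Or.inr (hc t ht hd h)
  obtain ⟨a, b, hab⟩ : ∃ a b, Nat.card G = r ^ a * s ^ b := by
    set n := Nat.card G with hn
    have hn0 : n ≠ 0 := Nat.card_pos.ne'
    obtain ⟨a, m, hm, hnm⟩ := Nat.exists_eq_pow_mul_and_not_dvd hn0 r hr.ne_one
    refine ⟨a, m.primeFactorsList.length, ?_⟩
    rw [hnm]
    congr 1
    refine Nat.eq_prime_pow_of_unique_prime_dvd (fun h0 => hm (h0 ▸ dvd_zero r)) fun {d} hd hdm => ?_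
    rcases hall d hd (hnm ▸ dvd_mul_of_dvd_right hdm _) with rfl | rfl
    · exact absurd hdm hm
    · rfl
  have := S0144.result r s a b hr hs hab
  exact hG ⟨⟨fun x y => IsSimpleGroup.comm_iff_isSolvable.2 this x y⟩⟩

/-! ### Element orders in `PSL(2, F)` -/

variable {F : Type*} [Field F] [Finite F]

theorem has_torus (e : G ≃* ProjectiveSpecialLinearGroup (Fin 2) F) :
    Has G ((Nat.card F - 1) / Nat.gcd 2 (Nat.card F - 1)) ∧
      Has G ((Nat.card F + 1) / Nat.gcd 2 (Nat.card F - 1)) := by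
  obtain ⟨a, ha⟩ := PSL2Proj52.exists_orderOf_card_sub_one (F := F)
  obtain ⟨A, hA⟩ := PSL2Proj52.exists_orderOf_card_add_one (F := F)
  exact ⟨PSL2Proj52.orderOf_π PSL2Proj52.gcd_dvd.1 ha ▸ Has.of_equiv e,
    PSL2Proj52.orderOf_π PSL2Proj52.gcd_dvd.2 hA ▸ Has.of_equiv e⟩

theorem has_char (e : G ≃* ProjectiveSpecialLinearGroup (Fin 2) F) (c : ℕ) [hc : Fact c.Prime]
    [CharP F c] : Has G c := by
  have hord : orderOf (PSL2Proj52.π (PSL2Elements.u (1 : F))) = c := by
    refine orderOf_eq_prime ?_ ?_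
    · rw [← map_pow]
      have : ∀ n : ℕ, PSL2Elements.u (1 : F) ^ n = PSL2Elements.u (n : F) := fun n => by
        induction n with
        | zero => rw [pow_zero, Nat.cast_zero, PSL2Elements.u_zero]
        | succ n ih => rw [pow_succ, ih, PSL2Elements.u_mul, Nat.cast_succ]
      rw [this, CharP.cast_eq_zero, PSL2Elements.u_zero, map_one]
    · rw [Ne, PSL2Proj52.π_eq_one]
      rintro (e | e) <;> simpa [PSL2Elements.u] using congrArg (fun C : SL(2, F) => C.1 0 1) e
  exact hord ▸ Has.of_equiv e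

/-- `PSL(2, F)`, `q` odd, has no spectrum `1, 2, r, s, 2r`. -/
theorem psl2_odd_false [IsSimpleGroup G] (hG : ¬ IsMulCommutative G) (hq : Odd (Nat.card F))
    (e : G ≃* ProjectiveSpecialLinearGroup (Fin 2) F) {r s : ℕ}
    (h2r : Has G (2 * r))
    (hall : ∀ g : G, orderOf g = 1 ∨ orderOf g = 2 ∨ orderOf g = r ∨ orderOf g = s ∨
      orderOf g = 2 * r) : False := by
  obtain ⟨c, hc⟩ := CharP.exists F
  have hcp : c.Prime := CharP.char_is_prime F c
  have := Fact.mk hcp
  have := Fintype.ofFinite F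
  obtain ⟨n, -, hn⟩ := FiniteField.card F c
  rw [← Nat.card_eq_fintype_card] at hn
  set q := Nat.card F with hqdef
  have hq5 : 5 ≤ q := by
    by_contra hlt
    have h1 : 1 < q := PSLCard.one_lt_card F
    obtain ⟨j, hj⟩ := hq
    have h3 : q = 3 := by omega
    obtain ⟨t, ht, htd, ht2, ht3⟩ := third_prime (G := G) hG Nat.prime_two Nat.prime_three
    rw [Nat.card_congr e.toEquiv, PSLCard.card_PSL2, ← hqdef, h3] at htd
    have h12 : t ∣ 2 ^ 2 * 3 := by
      refine htd.trans ?_
      decide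
    rcases (Nat.Prime.dvd_mul ht).1 h12 with h | h
    · exact ht2 ((Nat.prime_dvd_prime_iff_eq ht Nat.prime_two).1 (ht.dvd_of_dvd_pow h))
    · exact ht3 ((Nat.prime_dvd_prime_iff_eq ht Nat.prime_three).1 h)
  have hg2 : Nat.gcd 2 (q - 1) = 2 := by
    obtain ⟨j, hj⟩ := hq
    exact Nat.gcd_eq_left ⟨j, by omega⟩
  obtain ⟨hA, hB⟩ := has_torus e
  rw [← hqdef, hg2] at hA hB
  have hC : Has G c := has_char e c
  have hcq : c ∣ q := hn ▸ dvd_pow_self c n.ne_zero
  obtain ⟨j, hj⟩ := hq
  have e1 : (q - 1) / 2 = j := by omega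
  have e2 : (q + 1) / 2 = j + 1 := by omega
  rw [e1] at hA
  rw [e2] at hB
  -- `2r` divides one of the torus orders
  obtain ⟨g, hg⟩ := h2r
  have h2rj : 2 * r ∣ j ∨ 2 * r ∣ j + 1 := by
    rcases PSL2Proj52.pow_cases c (e g) with h | h | h
    · exfalso
      have h' := orderOf_dvd_of_pow_eq_one h
      rw [e.orderOf_eq, hg] at h'
      have := (Nat.prime_dvd_prime_iff_eq Nat.prime_two hcp).1 ((dvd_mul_right 2 r).trans h')
      subst this
      obtain ⟨k, hk⟩ := hcq
      omega
    · left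
      have h' := orderOf_dvd_of_pow_eq_one h
      rwa [e.orderOf_eq, hg, ← hqdef, hg2, e1] at h'
    · right
      have h' := orderOf_dvd_of_pow_eq_one h
      rwa [e.orderOf_eq, hg, ← hqdef, hg2, e2] at h'
  have hc2 : c ≠ 2 := fun h => by
    obtain ⟨k, hk⟩ := h ▸ hcq
    omega
  -- the other torus order is odd, above one and coprime to `2 r c`
  obtain ⟨ev, od, hev, hod, hco, hqe, hod1, hev0⟩ : ∃ ev od : ℕ, 2 * r ∣ ev ∧ Has G od ∧
      ev.Coprime od ∧ (∀ d, d ∣ q → d ∣ ev ∨ d ∣ od → d = 1) ∧ 1 < od ∧ ev ≠ 0 := by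
    have hdiv : ∀ d, d ∣ q → d ∣ j ∨ d ∣ j + 1 → d = 1 := by
      intro d hdq hd
      rcases hd with h | h
      · exact Nat.dvd_one.1 ((Nat.dvd_add_right (h.mul_left 2)).1 (hj ▸ hdq))
      · refine Nat.dvd_one.1 ?_
        have h1 : d ∣ q + 1 := by
          rw [show q + 1 = 2 * (j + 1) by omega]; exact h.mul_left 2
        exact (Nat.dvd_add_right hdq).1 h1
    rcases h2rj with h | h
    · exact ⟨j, j + 1, h, hB, by simp, hdiv, by omega, by omega⟩
    · exact ⟨j + 1, j, h, hA, by simp, fun d hd hh => hdiv d hd hh.symm, by omega, by omega⟩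
  obtain ⟨w, hw, hwd⟩ := Nat.exists_prime_and_dvd (by omega : od ≠ 1)
  have hW : Has G w := hod.of_dvd (by omega) hwd
  have classify : ∀ z : ℕ, z.Prime → Has G z → ¬ z ∣ ev → z = s := by
    rintro z hz ⟨x, hx⟩ hze
    rcases hall x with h | h | h | h | h <;> rw [hx] at h
    · exact absurd h hz.ne_one
    · exact absurd (h ▸ (dvd_mul_right 2 r).trans hev) hze
    · exact absurd (h ▸ (dvd_mul_left r 2).trans hev) hze
    · exact h
    · exact absurd (h ▸ hev) hze
  have hws : w = s := classify w hw hW fun h =>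
    hw.not_dvd_one (hco ▸ Nat.dvd_gcd h hwd)
  have hcs : c = s := classify c hcp hC fun h => hcp.ne_one (hqe c hcq (Or.inl h))
  exact hw.ne_one (hqe w (by rw [hws, ← hcs]; exact hcq) (Or.inr hwd))

/-- The fields occurring with at most five orbits. -/
theorem psl2_cit [IsSimpleGroup G] (hG : ¬ IsMulCommutative G)
    (h5 : Nat.card (MulAction.orbitRel.Quotient (MulAut G) G) ≤ 5)
    (e : G ≃* ProjectiveSpecialLinearGroup (Fin 2) F)
    (hf : Nat.card F = 9 ∨ (∃ n : ℕ, Nat.card F = 2 ^ n) ∨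
      ((Nat.card F).Prime ∧ ∃ k : ℕ, Nat.card F = 2 ^ k + 1 ∨ Nat.card F + 1 = 2 ^ k)) :
    Nat.card F ∈ ({4, 5, 7, 8, 9} : Finset ℕ) := by
  classical
  by_contra hne
  simp only [Finset.mem_insert, Finset.mem_singleton, not_or] at hne
  obtain ⟨h4, hF5, hF7, h8, h9⟩ := hne
  have h1 : 1 < Nat.card F := PSLCard.one_lt_card F
  obtain ⟨hA, hB⟩ := has_torus e
  have hbig : Nat.card F ≠ 2 ∧ Nat.card F ≠ 3 := by
    refine ⟨fun h => ?_, fun h => ?_⟩ <;>
    · obtain ⟨t, ht, htd, ht2, ht3⟩ := third_prime (G := G) hG Nat.prime_two Nat.prime_three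
      rw [Nat.card_congr e.toEquiv, PSLCard.card_PSL2, h] at htd
      have h12 : t ∣ 2 ^ 2 * 3 := by
        refine htd.trans ?_
        decide
      rcases (Nat.Prime.dvd_mul ht).1 h12 with h' | h'
      · exact ht2 ((Nat.prime_dvd_prime_iff_eq ht Nat.prime_two).1 (ht.dvd_of_dvd_pow h'))
      · exact ht3 ((Nat.prime_dvd_prime_iff_eq ht Nat.prime_three).1 h')
  have h2 : Has G 2 := by
    obtain ⟨t, ht, htd⟩ := Nat.exists_prime_and_dvd (show 2 ≠ 1 by norm_num)
    refine has_prime Nat.prime_two ?_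
    rw [Nat.card_congr e.toEquiv, PSLCard.card_PSL2]
    rcases PSL2Proj52.gcd_eq (F := F) with ⟨ho, hg⟩ | ⟨he, hg⟩
    · rw [hg]
      obtain ⟨j, hj⟩ := ho
      rw [hj, show (2 * j + 1) ^ 2 - 1 = 4 * (j * (j + 1)) by
        have : (2 * j + 1) ^ 2 = 4 * (j * (j + 1)) + 1 := by ring
        omega]
      obtain ⟨u, hu⟩ := (Nat.even_mul_succ_self j)
      refine ⟨(2 * j + 1) * (2 * u), ?_⟩
      rw [hu, show (2 * j + 1) * (4 * (u + u)) = 2 * ((2 * j + 1) * (2 * u)) * 2 by ring,
        Nat.mul_div_cancel _ two_pos]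
    · rw [hg, Nat.div_one]
      exact dvd_mul_of_dvd_left (even_iff_two_dvd.1 he) _
  rcases hf with h | ⟨n, hn⟩ | ⟨hp, k, hk⟩
  · exact h9 h
  · have he : Nat.gcd 2 (Nat.card F - 1) = 1 := by
      rcases n with _ | n
      · omega
      rcases PSL2Proj52.gcd_eq (F := F) with ⟨ho, -⟩ | ⟨-, hg⟩
      · exact absurd ho (Nat.not_odd_iff_even.2 (hn ▸ ⟨2 ^ n, by ring⟩))
      · exact hg
    rw [he, Nat.div_one] at hA hB
    have hn4 : 4 ≤ n := by
      by_contra hlt
      interval_cases n <;> omega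
    rcases Nat.even_or_odd n with ⟨i, hi⟩ | ⟨i, hi⟩
    · have hi2 : 2 ≤ i := by omega
      set a := 2 ^ i
      have ha : 4 ≤ a := le_trans (by norm_num) (Nat.pow_le_pow_right two_pos hi2)
      have hq : Nat.card F = a * a := by rw [hn, hi, pow_add]
      rw [hq] at hA hB
      have hsub : a * a - 1 = (a - 1) * (a + 1) := by
        obtain ⟨b, hb⟩ : ∃ b, a = b + 1 := ⟨a - 1, by omega⟩
        rw [hb]
        simp only [Nat.add_sub_cancel]
        have : (b + 1) * (b + 1) = b * (b + 1 + 1) + 1 := by ring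
        omega
      have hpos : a * a - 1 ≠ 0 := by
        have : 4 * a ≤ a * a := Nat.mul_le_mul_right a ha
        omega
      have hm : Has G (a - 1) := hA.of_dvd hpos (hsub ▸ dvd_mul_right _ _)
      have hp' : Has G (a + 1) := hA.of_dvd hpos (hsub ▸ dvd_mul_left _ _)
      refine six_false h5 [1, 2, a - 1, a + 1, a * a - 1, a * a + 1] rfl ?_ ?_
      · have : 4 * a ≤ a * a := Nat.mul_le_mul_right a ha
        simp only [List.nodup_cons, List.mem_cons, List.not_mem_nil, List.nodup_nil, or_false,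
          and_true, not_or, not_false_eq_true]
        omega
      · simp only [List.mem_cons, List.not_mem_nil, or_false]
        rintro x (rfl | rfl | rfl | rfl | rfl | rfl)
        exacts [has_one, h2, hm, hp', hA, hB]
    · have h32 : 32 ≤ Nat.card F := hn ▸ le_trans (by norm_num)
        (Nat.pow_le_pow_right two_pos (show 5 ≤ n by omega))
      have h3 : 3 ∣ Nat.card F + 1 := by
        rw [hn, hi, pow_succ, pow_mul]
        have hm : ((2 : ℕ) ^ 2) ^ i % 3 = 1 := by rw [Nat.pow_mod]; simp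
        omega
      refine six_false h5 [1, 2, 3, (Nat.card F + 1) / 3, Nat.card F + 1, Nat.card F - 1] rfl ?_ ?_
      · simp only [List.nodup_cons, List.mem_cons, List.not_mem_nil, List.nodup_nil, or_false,
          and_true, not_or, not_false_eq_true]
        omega
      · simp only [List.mem_cons, List.not_mem_nil, or_false]
        rintro x (rfl | rfl | rfl | rfl | rfl | rfl)
        exacts [has_one, h2, hB.of_dvd (by omega) h3, hB.of_dvd (by omega) (Nat.div_dvd_of_dvd h3),
          hB, hA]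
  · have := Fintype.ofFinite F
    obtain ⟨c, hc⟩ := CharP.exists F
    have hcp : c.Prime := CharP.char_is_prime F c
    have := Fact.mk hcp
    obtain ⟨m, -, hm⟩ := FiniteField.card F c
    rw [← Nat.card_eq_fintype_card] at hm
    have hcF : Has G (Nat.card F) := by
      have : c = Nat.card F := ((Nat.prime_dvd_prime_iff_eq hcp hp).1
        (hm ▸ dvd_pow_self c m.ne_zero))
      exact this ▸ has_char e c
    have hq11 : 11 ≤ Nat.card F := by
      by_contra hlt
      interval_cases (Nat.card F) <;> simp_all (config := { decide := true })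
    have hk4 : 4 ≤ k := by
      by_contra hlt
      interval_cases k <;> omega
    have hodd : Nat.gcd 2 (Nat.card F - 1) = 2 := by
      obtain ⟨j, hj⟩ := hp.odd_of_ne_two hbig.1
      exact Nat.gcd_eq_left ⟨j, by omega⟩
    rw [hodd] at hA hB
    obtain ⟨k', rfl⟩ : ∃ k', k = k' + 4 := ⟨k - 4, by omega⟩
    have hpow : 2 ^ (k' + 4) = 2 * (8 * 2 ^ k') := by ring
    have hk'pos : 0 < 2 ^ k' := Nat.pow_pos two_pos
    obtain ⟨hev, o, ho, hor⟩ : Has G (8 * 2 ^ k') ∧ ∃ o, Has G o ∧
        (o = 8 * 2 ^ k' + 1 ∨ o + 1 = 8 * 2 ^ k') := by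
      rcases hk with hk | hk
      · refine ⟨?_, _, hB, Or.inl ?_⟩
        · rw [show 8 * 2 ^ k' = (Nat.card F - 1) / 2 by omega]; exact hA
        · omega
      · refine ⟨?_, _, hA, Or.inr ?_⟩
        · rw [show 8 * 2 ^ k' = (Nat.card F + 1) / 2 by omega]; exact hB
        · omega
    refine six_false h5 [1, 2, 4, 8, o, Nat.card F] rfl ?_ ?_
    · simp only [List.nodup_cons, List.mem_cons, List.not_mem_nil, List.nodup_nil, or_false,
        and_true, not_or, not_false_eq_true]
      omega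
    · simp only [List.mem_cons, List.not_mem_nil, or_false]
      rintro x (rfl | rfl | rfl | rfl | rfl | rfl)
      exacts [has_one, h2, hev.of_dvd (by omega) ⟨2 * 2 ^ k', by ring⟩,
        hev.of_dvd (by omega) ⟨2 ^ k', rfl⟩, ho, hcF]

/-- `PSL(3,4)` has six orders. -/
theorem psl3_false {K : Type*} [Field K] [Fintype K] (hK : Fintype.card K = 4)
    (h5 : Nat.card (MulAction.orbitRel.Quotient (MulAut G) G) ≤ 5)
    (e : G ≃* ProjectiveSpecialLinearGroup (Fin 3) K) : False := by
  classical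
  have hK' : Nat.card K = 4 := by rw [Nat.card_eq_fintype_card, hK]
  have hcard : Nat.card G = 20160 := by
    rw [Nat.card_congr e.toEquiv]
    have h1 := PSLCard.card_PSL_mul (F := K) 3
    have h2 := PSLCard.card_SL (F := K) 3
    rw [hK', Fin.prod_univ_three] at h2
    rw [hK'] at h1
    rw [show Nat.gcd 3 (4 - 1) = 3 from rfl] at h1
    simp only [Fin.val_zero, Fin.val_one, Fin.val_two, pow_zero, pow_one] at h2
    norm_num at h2
    rw [← Nat.card_eq_fintype_card] at h2
    omega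
  have h2z : (2 : K) = 0 := PSL2Proj52.two_eq_of_even ⟨2, hK'⟩
  let J : SL(3, K) := ⟨!![1, 1, 0; 0, 1, 1; 0, 0, 1], by simp [Matrix.det_fin_three]⟩
  have hJ2 : (J ^ 2 : SL(3, K)).1 = !![1, 0, 1; 0, 1, 0; 0, 0, 1] := by
    rw [Matrix.SpecialLinearGroup.coe_pow, pow_two]
    ext i j
    fin_cases i <;> fin_cases j <;>
      simp [J, Matrix.mul_apply, Fin.sum_univ_three, one_add_one_eq_two, h2z]
  have hJ4 : J ^ 4 = 1 := by
    refine Subtype.ext ?_
    rw [show (4 : ℕ) = 2 * 2 from rfl, pow_mul, Matrix.SpecialLinearGroup.coe_pow, hJ2, pow_two]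
    ext i j
    fin_cases i <;> fin_cases j <;> simp [Matrix.mul_apply, Fin.sum_univ_three, one_add_one_eq_two, h2z]
  let π := QuotientGroup.mk' (Subgroup.center SL(3, K))
  have hord : orderOf (π J) = 2 ^ 2 := by
    have : Fact (Nat.Prime 2) := ⟨Nat.prime_two⟩
    refine orderOf_eq_prime_pow (n := 1) ?_ ?_
    · rw [pow_one, ← map_pow]
      intro h
      have h' := (QuotientGroup.eq_one_iff _).1 h
      rw [Matrix.SpecialLinearGroup.mem_center_iff] at h'
      obtain ⟨r, -, hr⟩ := h'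
      have := congrFun (congrFun hr 0) 2
      rw [hJ2] at this
      simp [Matrix.scalar, Matrix.diagonal] at this
    · rw [← map_pow, show 2 ^ (1 + 1) = 4 from rfl, hJ4, map_one]
  refine six_false h5 [1, 2, 3, 4, 5, 7] rfl (by decide) ?_
  simp only [List.mem_cons, List.not_mem_nil, or_false]
  rintro x (rfl | rfl | rfl | rfl | rfl | rfl)
  exacts [has_one, has_prime Nat.prime_two (by rw [hcard]; norm_num),
    has_prime Nat.prime_three (by rw [hcard]; norm_num), (by
      have := Has.of_equiv (G := G) e (h := π J)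
      rw [hord] at this
      simpa using this),
    has_prime (by norm_num) (by rw [hcard]; norm_num), has_prime (by norm_num) (by rw [hcard]; norm_num)]

/-- Groups of Suzuki order have more than five orbits. -/
theorem suzuki_false (hS : Cfsg.IsSuzuki G)
    (h5 : Nat.card (MulAction.orbitRel.Quotient (MulAut G) G) ≤ 5) : False := by
  classical
  obtain ⟨hsimple, m, hm, hcard⟩ := hS
  set q := 2 ^ (2 * m + 1) with hqdef
  set s := 2 ^ (m + 1) with hsdef
  have hss : s * s = 2 * q := by rw [hsdef, hqdef, ← pow_add]; ring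
  have hs4 : 4 ≤ s := le_trans (by norm_num) (Nat.pow_le_pow_right two_pos (show 2 ≤ m + 1 by omega))
  have hq8 : 8 ≤ q := le_trans (by norm_num) (Nat.pow_le_pow_right two_pos (show 3 ≤ 2 * m + 1 by omega))
  have hqe : 2 ∣ q := dvd_pow_self 2 (by omega)
  have hse : 2 ∣ s := dvd_pow_self 2 (by omega)
  have hsq : s < q := by
    have : 4 * s ≤ 2 * q := hss ▸ Nat.mul_le_mul_right s hs4
    omega
  set A := q + s + 1 with hAdef
  set B := q + 1 - s with hBdef
  have hBs : B + s = q + 1 := by omega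
  have hAB : A * B = q * q + 1 := by
    have hAs : A = B + 2 * s := by omega
    rw [hAs]
    nlinarith
  have hco : A.Coprime B := by
    refine Nat.coprime_of_dvd fun k hk h1 h2 => ?_
    have h3 : k ∣ 2 * s := (Nat.dvd_add_right h2).1 (show k ∣ B + 2 * s by
      rwa [show B + 2 * s = A by omega])
    have hk2 : k = 2 := by
      rcases (Nat.Prime.dvd_mul hk).1 h3 with h | h
      · exact (Nat.prime_dvd_prime_iff_eq hk Nat.prime_two).1 h
      · exact (Nat.prime_dvd_prime_iff_eq hk Nat.prime_two).1 (hk.dvd_of_dvd_pow h)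
    subst hk2
    omega
  have hcard' : Nat.card G = q * q * ((A * B) * (q - 1)) := by
    rw [hcard, hAB, pow_two, mul_assoc]
  obtain ⟨u, hu, huA⟩ := Nat.exists_prime_and_dvd (show A ≠ 1 by omega)
  obtain ⟨v, hv, hvB⟩ := Nat.exists_prime_and_dvd (show B ≠ 1 by omega)
  obtain ⟨r, hr, hrq⟩ := Nat.exists_prime_and_dvd (show q - 1 ≠ 1 by omega)
  have hodd2 : ∀ z, z ∣ A * B ∨ z ∣ q - 1 → z ≠ 2 := by
    rintro z hz rfl
    rcases hz with ⟨c, hc⟩ | ⟨c, hc⟩
    · obtain ⟨q', hq'⟩ := hqe
      rw [hAB, hq'] at hc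
      have : 2 * q' * (2 * q') = 2 * (2 * q' * q') := by ring
      omega
    · omega
  have huv : u ≠ v := fun h => hu.not_dvd_one (hco ▸ Nat.dvd_gcd huA (h ▸ hvB))
  have hrAB : ¬ r ∣ A * B := by
    intro h
    rw [hAB] at h
    obtain ⟨q', hq'⟩ : ∃ q', q = q' + 1 := ⟨q - 1, by omega⟩
    rw [hq', Nat.add_sub_cancel] at hrq
    have h2 : r ∣ q' * (q' + 2) + 2 := by
      convert h using 1
      rw [hq']; ring
    exact hodd2 r (Or.inr (by rw [hq']; simpa using hrq))
      ((Nat.prime_dvd_prime_iff_eq hr Nat.prime_two).1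
        ((Nat.dvd_add_right (hrq.mul_right _)).1 h2))
  have hru : r ≠ u := fun h => hrAB (h ▸ huA.mul_right B)
  have hrv : r ≠ v := fun h => hrAB (h ▸ hvB.mul_left A)
  have h1 := (has_one (G := G))
  have h2 : Has G 2 := has_prime Nat.prime_two (hcard' ▸ (hqe.mul_right q).mul_right _)
  have hU : Has G u := has_prime hu (hcard' ▸ (((huA.mul_right B).mul_right _).mul_left _))
  have hV : Has G v := has_prime hv (hcard' ▸ (((hvB.mul_left A).mul_right _).mul_left _))
  have hR : Has G r := has_prime hr (hcard' ▸ ((hrq.mul_left _).mul_left _))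
  have hu2 := hodd2 u (Or.inl (huA.mul_right B))
  have hv2 := hodd2 v (Or.inl (hvB.mul_left A))
  have hr2 := hodd2 r (Or.inr hrq)
  have hall : ∀ g : G, orderOf g = 1 ∨ (orderOf g).Prime := by
    intro g
    by_contra hc
    push Not at hc
    refine six_false h5 [1, 2, u, v, r, orderOf g] rfl ?_ ?_
    · have hgu : orderOf g ≠ u := fun h => hc.2 (h ▸ hu)
      have hgv : orderOf g ≠ v := fun h => hc.2 (h ▸ hv)
      have hgr : orderOf g ≠ r := fun h => hc.2 (h ▸ hr)
      have hg2 : orderOf g ≠ 2 := fun h => hc.2 (h ▸ Nat.prime_two)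
      have := hu.one_lt
      have := hv.one_lt
      have := hr.one_lt
      simp only [List.nodup_cons, List.mem_cons, List.not_mem_nil, List.nodup_nil, or_false,
        and_true, not_or, not_false_eq_true]
      exact ⟨⟨by omega, by omega, by omega, by omega, fun h => hc.1 h.symm⟩,
        ⟨hu2.symm, hv2.symm, hr2.symm, hg2.symm⟩, ⟨huv, hru.symm, hgu.symm⟩,
        ⟨hrv.symm, hgv.symm⟩, hgr.symm⟩
    · simp only [List.mem_cons, List.not_mem_nil, or_false]
      rintro x (rfl | rfl | rfl | rfl | rfl | rfl)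
      exacts [h1, h2, hU, hV, hR, ⟨g, rfl⟩]
  have : Fact (Nat.Prime 2) := ⟨Nat.prime_two⟩
  obtain ⟨T⟩ : Nonempty (Sylow 2 G) := inferInstance
  have hexp : ∀ g : G, 2 ∣ orderOf g → orderOf g = 2 := by
    intro g hg
    rcases hall g with h | h
    · rw [h] at hg; norm_num at hg
    · exact ((Nat.prime_dvd_prime_iff_eq Nat.prime_two h).1 hg).symm
  have hTsq : ∀ x ∈ (T : Subgroup G), x * x = 1 := by
    intro x hx
    obtain ⟨k, hk⟩ := IsPGroup.iff_orderOf.1 T.isPGroup' ⟨x, hx⟩
    rw [Subgroup.orderOf_mk] at hk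
    rcases k with _ | k
    · rw [orderOf_eq_one_iff.1 hk, one_mul]
    · rw [← pow_two, ← hexp x (hk ▸ dvd_pow_self 2 k.succ_ne_zero), pow_orderOf_eq_one]
  have hcent : ∀ t g : G, orderOf t = 2 → g * t = t * g → g * g = 1 := by
    intro t g ht hg
    rcases hall g with h | h
    · rw [orderOf_eq_one_iff.1 h, one_mul]
    · rcases eq_or_ne (orderOf g) 2 with h' | h'
      · rw [← pow_two, ← h', pow_orderOf_eq_one]
      exfalso
      have ho := (show Commute g t from hg).orderOf_mul_eq_mul_orderOf_of_coprime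
        (by rw [ht]; exact (Nat.coprime_primes h Nat.prime_two).2 h')
      have := hexp (g * t) (by rw [ho, ht]; exact dvd_mul_left 2 _)
      rw [ho, ht] at this
      have := h.one_lt
      omega
  have hcomm : ∀ a ∈ (T : Subgroup G), ∀ b ∈ (T : Subgroup G), a * b = b * a := by
    intro a ha b hb
    have hi : ∀ x ∈ (T : Subgroup G), x⁻¹ = x := fun x hx =>
      inv_eq_of_mul_eq_one_left (hTsq x hx)
    have h := hi _ (mul_mem ha hb)
    rwa [_root_.mul_inv_rev, hi a ha, hi b hb, eq_comm] at h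
  -- anything commuting with an involution of `T` lies in `T`
  have hmem : ∀ t ∈ (T : Subgroup G), t ≠ 1 → ∀ g, g * t = t * g → g ∈ (T : Subgroup G) := by
    intro t ht ht1 g hg
    have ht2 : orderOf t = 2 := orderOf_eq_prime (by rw [pow_two]; exact hTsq t ht) ht1
    set C := centralizer ({t} : Set G)
    have hC : IsPGroup 2 ↥C := fun x => ⟨1, Subtype.ext (by
      simpa [pow_two] using hcent t x ht2 (mem_centralizer_singleton_iff.1 x.2))⟩
    exact (T.3 hC fun x hx => mem_centralizer_singleton_iff.2 (hcomm x hx t ht)).le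
      (mem_centralizer_singleton_iff.2 hg)
  have hTcard : Nat.card ↥(T : Subgroup G) = q * q := by
    refine Nat.dvd_antisymm ?_ ?_
    · obtain ⟨k, hk⟩ := IsPGroup.iff_card.1 T.isPGroup'
      have hd : 2 ^ k ∣ q * q * ((A * B) * (q - 1)) := hk ▸ hcard' ▸ card_subgroup_dvd_card _
      rw [hk]
      refine Nat.Coprime.dvd_of_dvd_mul_right (Nat.Coprime.pow_left k ?_) hd
      refine (Nat.Prime.coprime_iff_not_dvd Nat.prime_two).2 fun h => ?_
      rcases (Nat.Prime.dvd_mul Nat.prime_two).1 h with h | h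
      · exact hodd2 2 (Or.inl h) rfl
      · exact hodd2 2 (Or.inr h) rfl
    · obtain ⟨K, hK⟩ := Sylow.exists_subgroup_card_pow_prime (G := G) 2
        (n := (2 * m + 1) + (2 * m + 1)) (by rw [pow_add, ← hqdef, hcard']; exact dvd_mul_right _ _)
      obtain ⟨T', hT'⟩ := (IsPGroup.of_card hK).exists_le_sylow
      rw [T.card_eq_multiplicity, ← T'.card_eq_multiplicity]
      rw [pow_add, ← hqdef] at hK
      exact hK ▸ card_dvd_of_le hT'
  have hTnt : (T : Subgroup G) ≠ ⊥ := fun h => by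
    rw [h, Subgroup.card_bot] at hTcard
    have : 8 * 8 ≤ q * q := Nat.mul_le_mul hq8 hq8
    omega
  obtain ⟨t₀, ht₀, ht₀1⟩ := (T : Subgroup G).ne_bot_iff_exists_ne_one.1 hTnt |> fun ⟨a, ha⟩ =>
    (⟨(a : G), a.2, fun h => ha (Subtype.ext h)⟩ : ∃ z, z ∈ (T : Subgroup G) ∧ z ≠ 1)
  have hinv : ∀ x ∈ (T : Subgroup G), x ≠ 1 → orderOf x = 2 := fun x hx hx1 =>
    orderOf_eq_prime (by rw [pow_two]; exact hTsq x hx) hx1
  obtain ⟨w, hw, hwT⟩ : ∃ w : G, orderOf w = 2 ∧ w ∉ (T : Subgroup G) := by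
    by_contra hc
    push Not at hc
    have hn : (T : Subgroup G).Normal := ⟨fun x hx g => by
      rcases eq_or_ne x 1 with rfl | hx1
      · simp
      · refine hc _ ?_
        rw [show g * x * g⁻¹ = MulAut.conj g x from rfl, MulEquiv.orderOf_eq, hinv x hx hx1]⟩
    rcases hsimple.eq_bot_or_eq_top_of_normal (T : Subgroup G) hn with h | h
    · exact hTnt h
    · rw [h, Subgroup.card_top, hcard'] at hTcard
      have h1 : (A * B) * (q - 1) = 1 := by
        have := Nat.eq_of_mul_eq_mul_left (show 0 < q * q by positivity)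
          (hTcard.trans (mul_one (q * q)).symm)
        exact this
      have := Nat.eq_one_of_mul_eq_one_left h1
      omega
  have hconjw : ∀ t ∈ (T : Subgroup G), t ≠ 1 → IsConj t w := by
    intro t ht ht1
    have htt : t * t = 1 := hTsq t ht
    have hww : w * w = 1 := by rw [← pow_two, ← hw, pow_orderOf_eq_one]
    rcases Nat.even_or_odd (orderOf (t * w)) with ⟨i, hi⟩ | ⟨i, hi⟩
    · exfalso
      have h2' : orderOf (t * w) = 2 := hexp _ ⟨i, by omega⟩
      have hsq : t * w * (t * w) = 1 := by rw [← pow_two, ← h2', pow_orderOf_eq_one]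
      refine hwT (hmem t ht ht1 w ?_)
      calc w * t = t * (t * w * (t * w)) * w := by
            rw [show t * (t * w * (t * w)) * w = (t * t) * w * t * (w * w) by group, htt, hww]
            simp
        _ = t * w := by rw [hsq, mul_one]
    · obtain ⟨c, -, hc⟩ := SignalizerStrongEmb.exists_conj_of_odd (hinv t ht ht1) hw ⟨i, by omega⟩
      exact isConj_iff.2 ⟨c, hc⟩
  -- fusion in `T` is controlled by its normaliser
  have : IsMulCommutative ↥(T : Subgroup G) :=
    ⟨⟨fun a b => Subtype.ext (hcomm _ a.2 _ b.2)⟩⟩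
  set N := normalizer ((T : Subgroup G) : Set G) with hN
  let _ : MulAction ↥N G := MulAction.compHom G (MulAut.conj.comp N.subtype)
  have horb : MulAction.orbit ↥N t₀ = ((T : Subgroup G) : Set G) \ {1} := by
    ext x
    constructor
    · rintro ⟨n, rfl⟩
      refine ⟨(mem_normalizer_iff.1 n.2 t₀).1 ht₀, fun h => ht₀1 ?_⟩
      have h' : (n : G) * t₀ * (n : G)⁻¹ = 1 := h
      simpa using h'
    · rintro ⟨hx, hx1⟩
      obtain ⟨g, hg⟩ := isConj_iff.1 ((hconjw t₀ ht₀ ht₀1).trans (hconjw x hx hx1).symm)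
      obtain ⟨n, hn, hn'⟩ := Sylow.conj_eq_normalizer_conj_of_mem T t₀ g⁻¹ ht₀
        (by rw [inv_inv, hg]; exact hx)
      refine ⟨⟨n⁻¹, inv_mem hn⟩, ?_⟩
      show n⁻¹ * t₀ * (n⁻¹)⁻¹ = x
      rw [inv_inv, ← hn', inv_inv, hg]
  have hdvd : q * q - 1 ∣ Nat.card G := by
    have h1 : Nat.card ↥(MulAction.orbit ↥N t₀) = q * q - 1 := by
      rw [horb, Nat.card_coe_set_eq, Set.ncard_sdiff_singleton_of_mem (one_mem _),
        ← Nat.card_coe_set_eq]
      exact congrArg (· - 1) hTcard
    rw [← h1, Nat.card_coe_set_eq, ← MulAction.index_stabilizer]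
    exact (index_dvd_card _).trans (card_subgroup_dvd_card N)
  rw [hcard', hAB] at hdvd
  obtain ⟨q', hq'⟩ : ∃ q', q = q' + 1 := ⟨q - 1, by omega⟩
  have hdvd1 : q + 1 ∣ q * q * ((q * q + 1) * (q - 1)) := by
    refine dvd_trans ⟨q - 1, ?_⟩ hdvd
    rw [hq', Nat.add_sub_cancel]
    have : (q' + 1) * (q' + 1) = (q' + 1 + 1) * q' + 1 := by ring
    omega
  obtain ⟨q2, hq2⟩ := hqe
  have hcq : (q + 1).Coprime (q * q) := Nat.Coprime.mul_right (by simp) (by simp)
  have hc1 : (q + 1).Coprime (q - 1) := by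
    refine Nat.coprime_of_dvd fun k hk h1 h2 => ?_
    have : k ∣ 2 := by
      have h := Nat.dvd_sub h1 h2
      rwa [show q + 1 - (q - 1) = 2 by omega] at h
    have := (Nat.prime_dvd_prime_iff_eq hk Nat.prime_two).1 this
    subst this
    omega
  have h3 := hc1.dvd_of_dvd_mul_right (hcq.dvd_of_dvd_mul_left hdvd1)
  have h4 : q + 1 ∣ (q + 1) * q' := dvd_mul_right _ _
  have h5' : q * q + 1 = (q + 1) * q' + 2 := by rw [hq']; ring
  rw [h5'] at h3
  have := Nat.le_of_dvd two_pos ((Nat.dvd_add_right h4).1 h3)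
  omega

/-- The classification, given the CIT classification and the classification for orders `2r`. -/
theorem main [IsSimpleGroup G] (hG : ¬ IsMulCommutative G)
    (h5 : Nat.card (MulAction.orbitRel.Quotient (MulAut G) G) ≤ 5)
    (hCIT : (∀ t : G, orderOf t = 2 → IsPGroup 2 (centralizer ({t} : Set G))) →
      (∃ (K : Type) (_ : Field K) (_ : Fintype K),
        (Fintype.card K = 9 ∨ (∃ n : ℕ, Fintype.card K = 2 ^ n) ∨
          ((Fintype.card K).Prime ∧ ∃ k : ℕ, Fintype.card K = 2 ^ k + 1 ∨ Fintype.card K + 1 = 2 ^ k)) ∧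
        Nonempty (G ≃* ProjectiveSpecialLinearGroup (Fin 2) K)) ∨
      (∃ (K : Type) (_ : Field K) (_ : Fintype K), Fintype.card K = 4 ∧
        Nonempty (G ≃* ProjectiveSpecialLinearGroup (Fin 3) K)) ∨
      Cfsg.IsSuzuki G)
    (hTwo : ∀ r : ℕ, r.Prime → r ≠ 2 → (∃ g : G, orderOf g = 2 * r) →
      (∀ g : G, 2 ∣ orderOf g → orderOf g = 2 ∨ orderOf g = 2 * r) →
      (∀ g : G, r ∣ orderOf g → orderOf g = r ∨ orderOf g = 2 * r) →
      ∃ (K : Type) (_ : Field K) (_ : Fintype K), Odd (Fintype.card K) ∧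
        Nonempty (G ≃* ProjectiveSpecialLinearGroup (Fin 2) K)) :
    Nonempty (G ≃* ↥(alternatingGroup (Fin 5))) ∨ Nonempty (G ≃* ↥(alternatingGroup (Fin 6))) ∨
      (∃ (K : Type) (_ : Field K) (_ : Fintype K), (Fintype.card K = 7 ∨ Fintype.card K = 8) ∧
        Nonempty (G ≃* ProjectiveSpecialLinearGroup (Fin 2) K)) := by
  classical
  by_cases hmix : ∃ r : ℕ, r.Prime ∧ r ≠ 2 ∧ Has G (2 * r)
  · exfalso
    obtain ⟨r, hr, hr2, h2r⟩ := hmix
    obtain ⟨s, hs, hsd, hs2, hsr⟩ := third_prime (G := G) hG Nat.prime_two hr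
    have hpos : 2 * r ≠ 0 := mul_ne_zero two_ne_zero hr.ne_zero
    have hall : ∀ g : G, orderOf g = 1 ∨ orderOf g = 2 ∨ orderOf g = r ∨ orderOf g = s ∨
        orderOf g = 2 * r := by
      intro g
      by_contra hc
      simp only [not_or] at hc
      obtain ⟨c1, c2, c3, c4, c5⟩ := hc
      refine six_false h5 [1, 2, r, s, 2 * r, orderOf g] rfl ?_ ?_
      · have := hr.one_lt
        have := hs.one_lt
        have hs2r : s ≠ 2 * r := fun h =>
          Nat.not_prime_mul (by norm_num) hr.ne_one (h ▸ hs)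
        simp only [List.nodup_cons, List.mem_cons, List.not_mem_nil, List.nodup_nil, or_false,
          and_true, not_or, not_false_eq_true]
        omega
      · simp only [List.mem_cons, List.not_mem_nil, or_false]
        rintro x (rfl | rfl | rfl | rfl | rfl | rfl)
        exacts [has_one, h2r.of_dvd hpos (dvd_mul_right _ _), h2r.of_dvd hpos (dvd_mul_left _ _),
          has_prime hs hsd, h2r, ⟨g, rfl⟩]
    have hd : ∀ {a b : ℕ}, a.Prime → b.Prime → a ≠ b → ¬ a ∣ b := fun ha hb hab h =>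
      hab ((Nat.prime_dvd_prime_iff_eq ha hb).1 h)
    obtain ⟨K, _, _, hodd, ⟨e⟩⟩ := hTwo r hr hr2 h2r
      (fun g hg => by
        rcases hall g with h | h | h | h | h <;> rw [h] at hg ⊢
        · norm_num at hg
        · exact Or.inl rfl
        · exact absurd hg (hd Nat.prime_two hr hr2.symm)
        · exact absurd hg (hd Nat.prime_two hs hs2.symm)
        · exact Or.inr rfl)
      (fun g hg => by
        rcases hall g with h | h | h | h | h <;> rw [h] at hg ⊢
        · exact absurd (Nat.dvd_one.1 hg) hr.ne_one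
        · exact absurd hg (hd hr Nat.prime_two hr2)
        · exact Or.inl rfl
        · exact absurd hg (hd hr hs hsr.symm)
        · exact Or.inr rfl)
    exact psl2_odd_false hG (by rwa [Nat.card_eq_fintype_card]) e h2r hall
  · push Not at hmix
    have hcit : ∀ t : G, orderOf t = 2 → IsPGroup 2 (centralizer ({t} : Set G)) := by
      intro t ht
      obtain ⟨k, m, hm, hkm⟩ := Nat.exists_eq_two_pow_mul_odd
        (Nat.card_pos (α := ↥(centralizer ({t} : Set G)))).ne'
      rcases eq_or_ne m 1 with rfl | hm1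
      · exact IsPGroup.of_card (by rw [hkm, mul_one])
      exfalso
      obtain ⟨r, hr, hrm⟩ := Nat.exists_prime_and_dvd hm1
      have := Fact.mk hr
      obtain ⟨x, hx⟩ := exists_prime_orderOf_dvd_card' r
        (hkm ▸ dvd_mul_of_dvd_right hrm _ : r ∣ Nat.card ↥(centralizer ({t} : Set G)))
      have hxo : orderOf (x : G) = r := by rw [Subgroup.orderOf_coe, hx]
      have hr2 : r ≠ 2 := fun h => (Nat.not_even_iff_odd.2 hm) (even_iff_two_dvd.2 (h ▸ hrm))
      refine hmix r hr hr2 ⟨t * x, ?_⟩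
      rw [(show Commute t (x : G) from (mem_centralizer_singleton_iff.1 x.2).symm).orderOf_mul_eq_mul_orderOf_of_coprime
        (by rw [ht, hxo]; exact (Nat.coprime_primes Nat.prime_two hr).2 hr2.symm), ht, hxo]
    rcases hCIT hcit with ⟨K, hK, hKf, hlist, ⟨e⟩⟩ | ⟨K, _, _, hK4, ⟨e⟩⟩ | hSz
    · have h := psl2_cit hG h5 e (by rwa [Nat.card_eq_fintype_card])
      simp only [Finset.mem_insert, Finset.mem_singleton] at h
      rcases h with h | h | h | h | h
      · exact Or.inl ((PSL2Small.psl2_four K h).map e.trans)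
      · exact Or.inl ((PSL2Small.psl2_five K h).map e.trans)
      · exact Or.inr (Or.inr ⟨K, hK, hKf, Or.inl (by rwa [← Nat.card_eq_fintype_card]), ⟨e⟩⟩)
      · exact Or.inr (Or.inr ⟨K, hK, hKf, Or.inr (by rwa [← Nat.card_eq_fintype_card]), ⟨e⟩⟩)
      · exact Or.inr (Or.inl ((S0254.result (by rwa [← Nat.card_eq_fintype_card])).map e.trans))
    · exact (psl3_false hK4 h5 e).elim
    · exact (suzuki_false hSz h5).elim

end Cfsg.Agent.FiveOrbit9
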