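import Mathlib
import Cfsg.Agent.Lib.HallSolvable
import Cfsg.Agent.Lib.QuadraticQd
import Cfsg.Agent.Lib.PSLSimple

/-!
Group theory behind the fixed-space bound for a prime order element normally generating a solvable
group: fixed point fraction in transitive actions, and a noncentral class two normal subgroup on
which the element is not a transvection.
-/

set_option autoImplicit false

namespace Cfsg.Agent.FixHalfGroup57

open Subgroup
open scoped MatrixGroups commutatorElement

variable {G : Type*} [Group G]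

theorem mem_of_conj_closure {π : G} (hgen : Subgroup.normalClosure ({π} : Set G) = ⊤)
    {N : Subgroup G} [N.Normal] (h : π ∈ N) : N = ⊤ :=
  top_le_iff.mp (hgen ▸ Subgroup.normalClosure_le_normal (Set.singleton_subset_iff.mpr h))

theorem gen_map {π : G} (hgen : Subgroup.normalClosure ({π} : Set G) = ⊤)
    {H : Type*} [Group H] (f : G →* H) (hf : Function.Surjective f) :
    Subgroup.normalClosure ({f π} : Set H) = ⊤ := by
  rw [← Set.image_singleton, ← Subgroup.map_normalClosure _ f hf, hgen,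
    Subgroup.map_top_of_surjective f hf]

/-- Orbits of a group of prime order. -/
theorem card_orbits_mul {A X : Type*} [Group A] [Finite A] [MulAction A X] [Finite X] {p : ℕ}
    [Fact p.Prime] (hA : Nat.card A = p) {a : A} (ha : a ≠ 1) :
    Nat.card (MulAction.orbitRel.Quotient A X) * p =
      Nat.card X + (p - 1) * Nat.card {x : X // a • x = x} := by
  classical
  have := Fintype.ofFinite A
  have := Fintype.ofFinite X
  have h := MulAction.sum_card_fixedBy_eq_card_orbits_mul_card_group A X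
  rw [← Nat.card_eq_fintype_card, ← Nat.card_eq_fintype_card, hA] at h
  rw [← h, ← Finset.add_sum_erase _ _ (Finset.mem_univ (1 : A))]
  have h1 : Fintype.card (MulAction.fixedBy X (1 : A)) = Nat.card X := by
    rw [Nat.card_eq_fintype_card]
    exact Fintype.card_congr
      (Equiv.subtypeUnivEquiv fun x => by simp [MulAction.fixedBy])
  have h2 : ∀ b ∈ Finset.univ.erase (1 : A),
      Fintype.card (MulAction.fixedBy X b) = Nat.card {x : X // a • x = x} := by
    intro b hb
    have hb1 : b ≠ 1 := (Finset.mem_erase.mp hb).1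
    have hab : ∀ {u v : A}, u ≠ 1 → ∀ x : X, u • x = x → v • x = x := by
      intro u v hu x hx
      obtain ⟨n, rfl⟩ := Subgroup.mem_zpowers_iff.mp
        (mem_zpowers_of_prime_card hA hu (g' := v))
      exact (MulAction.stabilizer A x).zpow_mem hx n
    rw [← Nat.card_eq_fintype_card]
    exact Nat.card_congr (Equiv.subtypeEquivRight fun x => ⟨hab hb1 x, hab ha x⟩)
  rw [Finset.sum_congr rfl h2, h1, Finset.sum_const, Finset.card_erase_of_mem (Finset.mem_univ _),
    Finset.card_univ, ← Nat.card_eq_fintype_card, hA, smul_eq_mul]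

/-- Primitive case: an element of odd prime order fixes at most a third of the points. -/
theorem fixed_maximal [Finite G] [Group.IsSolvable G] {p : ℕ} (hp : p.Prime) (hp2 : p ≠ 2)
    {π : G} (hπ : π ^ p = 1) (hgen : Subgroup.normalClosure ({π} : Set G) = ⊤)
    {M : Subgroup G} (hM : IsCoatom M) :
    3 * Nat.card {q : G ⧸ M // π • q = q} ≤ M.index := by
  classical
  by_cases hfix : ∃ g : G, g⁻¹ * π * g ∈ M
  swap
  · have : IsEmpty {q : G ⧸ M // π • q = q} := ⟨fun ⟨q, hq⟩ => by
      induction q using QuotientGroup.induction_on with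
      | _ g => exact hfix ⟨g, by
          have := (QuotientGroup.eq.mp hq)
          simpa [mul_assoc] using M.inv_mem this⟩⟩
    simp
  obtain ⟨g, hg⟩ := hfix
  set D := M.normalCore
  set q := QuotientGroup.mk' D
  have hqs : Function.Surjective q := QuotientGroup.mk'_surjective D
  set Mb := M.map q
  have hπD : π ∉ D := fun h =>
    hM.1 (top_le_iff.mp ((mem_of_conj_closure hgen h).ge.trans M.normalCore_le))
  set πb := q (g⁻¹ * π * g)
  have hπM : πb ∈ Mb := Subgroup.mem_map_of_mem _ hg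
  have hπ1 : πb ≠ 1 := fun h => hπD (by
    have := (QuotientGroup.eq_one_iff _).mp h
    simpa [mul_assoc] using (inferInstance : D.Normal).conj_mem _ this g)
  have hπp : πb ^ p = 1 := by
    rw [← map_pow, show g⁻¹ * π * g = g⁻¹ * π * g⁻¹⁻¹ by rw [inv_inv], conj_pow, hπ]
    simp
  have hcm : Mb.comap q = M := HallSolvable.comap_mk'_map_of_le M.normalCore_le
  have hMb : IsCoatom Mb := by
    refine ⟨fun h => hM.1 (by rw [← hcm, h, Subgroup.comap_top]), fun B hB => ?_⟩
    have hlt := (Subgroup.comap_lt_comap_of_surjective hqs).mpr hB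
    rw [hcm] at hlt
    have := hM.2 (B.comap q) hlt
    rw [← Subgroup.map_comap_eq_self_of_surjective hqs B, this,
      Subgroup.map_top_of_surjective q hqs]
  have : Nontrivial (G ⧸ D) := ⟨⟨πb, 1, hπ1⟩⟩
  have : Group.IsSolvable (G ⧸ D) := Group.isSolvable_of_surjective hqs
  obtain ⟨N, hN⟩ := HallSolvable.exists_minNormal (G := G ⧸ D)
  have := hN.normal
  have hNc : ∀ a ∈ N, ∀ b ∈ N, a * b = b * a := by
    have := hN.commutative_of_solvable
    exact fun a ha b hb => congrArg Subtype.val (this.is_comm.comm (⟨a, ha⟩ : N) ⟨b, hb⟩)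
  have hNM : ¬ N ≤ Mb := fun h => hN.ne_bot (eq_bot_iff.mpr fun x hx => by
    obtain ⟨x, rfl⟩ := hqs x
    refine Subgroup.mem_bot.mpr ((QuotientGroup.eq_one_iff x).mpr ?_)
    exact (Subgroup.normal_le_normalCore.mpr
      ((Subgroup.comap_mono h).trans hcm.le : N.comap q ≤ M)) hx)
  have hsup : N ⊔ Mb = ⊤ := hMb.2 _ (right_lt_sup.mpr hNM)
  have hnorm : (N ⊓ Mb).Normal := by
    refine ⟨fun x hx a => ?_⟩
    have key : ∀ a ∈ N ⊔ Mb, ∀ x ∈ N ⊓ Mb, a * x * a⁻¹ ∈ N ⊓ Mb := by
      intro a ha x hx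
      rw [← SetLike.mem_coe, Subgroup.normal_mul] at ha
      obtain ⟨n, hn, m, hm, rfl⟩ := Set.mem_mul.mp ha
      have hmx : m * x * m⁻¹ ∈ N ⊓ Mb :=
        ⟨hN.normal.conj_mem x hx.1 m, Mb.mul_mem (Mb.mul_mem hm hx.2) (Mb.inv_mem hm)⟩
      rw [mul_inv_rev, show n * m * x * (m⁻¹ * n⁻¹) = n * (m * x * m⁻¹) * n⁻¹ by group,
        hNc n hn _ hmx.1, mul_inv_cancel_right]
      exact hmx
    exact key a (by rw [hsup]; exact Subgroup.mem_top a) x hx
  have hinf : N ⊓ Mb = ⊥ :=
    (hN.2.2 _ hnorm inf_le_left).resolve_right fun h => hNM (h ▸ inf_le_right)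
  have hidx : M.index = Nat.card N := by
    have hi : (Mb.comap q).index = Mb.index := Subgroup.index_comap_of_surjective _ hqs
    rw [hcm] at hi
    rw [hi]
    have hc : Subgroup.IsComplement' N Mb :=
      Subgroup.isComplement'_of_disjoint_and_mul_eq_univ (disjoint_iff.mpr hinf)
        (by rw [← Subgroup.normal_mul, hsup, Subgroup.coe_top])
    exact hc.index_eq_card
  -- the fixed points are a translate of the centraliser in N
  set C := N ⊓ Subgroup.centralizer ({πb} : Set (G ⧸ D))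
  have hFC : Nat.card {x : G ⧸ M // π • x = x} ≤ Nat.card C := by
    have hex : ∀ x : {x : G ⧸ M // π • x = x}, ∃ c : C, ∃ a : G,
        q a = (c : G ⧸ D) ∧ ((g * a : G) : G ⧸ M) = x := by
      rintro ⟨x, hx⟩
      induction x using QuotientGroup.induction_on with
      | _ h =>
        have hmem : q (g⁻¹ * h) ∈ N ⊔ Mb := hsup ▸ Subgroup.mem_top _
        rw [← SetLike.mem_coe, Subgroup.normal_mul] at hmem
        obtain ⟨n, hn, m, hm, hnm⟩ := Set.mem_mul.mp hmem
        obtain ⟨a, ha⟩ := hqs n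
        have hah : ((g * a : G) : G ⧸ M) = (h : G ⧸ M) := by
          refine QuotientGroup.eq.mpr ?_
          rw [← hcm]
          show q ((g * a)⁻¹ * h) ∈ Mb
          rw [mul_inv_rev, mul_assoc, map_mul, map_inv, ha, ← hnm, inv_mul_cancel_left]
          exact hm
        have hfixa : n⁻¹ * πb * n ∈ Mb := by
          have h1 : π • ((g * a : G) : G ⧸ M) = ((g * a : G) : G ⧸ M) := by rw [hah]; exact hx
          have h2 := M.inv_mem (QuotientGroup.eq.mp h1)
          have h3 : (a⁻¹ * (g⁻¹ * π * g) * a) ∈ M := by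
            simpa [mul_assoc] using h2
          have h4 := Subgroup.mem_map_of_mem q h3
          rwa [map_mul, map_mul, map_inv, ha] at h4
        have hcomm : n⁻¹ * πb * n * πb⁻¹ ∈ N ⊓ Mb := by
          refine ⟨?_, Mb.mul_mem hfixa (Mb.inv_mem hπM)⟩
          rw [show n⁻¹ * πb * n * πb⁻¹ = n⁻¹ * (πb * n * πb⁻¹) by group]
          exact N.mul_mem (N.inv_mem hn) (hN.normal.conj_mem n hn πb)
        rw [hinf, Subgroup.mem_bot, mul_inv_eq_one, mul_assoc, inv_mul_eq_iff_eq_mul] at hcomm
        exact ⟨⟨n, hn, Subgroup.mem_centralizer_singleton_iff.mpr hcomm.symm⟩, a, ha, hah⟩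
    choose c a hca hcx using hex
    refine Nat.card_le_card_of_injective c fun x y e => Subtype.ext ?_
    rw [← hcx x, ← hcx y]
    refine QuotientGroup.eq.mpr (M.normalCore_le ?_)
    rw [mul_inv_rev, mul_assoc, inv_mul_cancel_left]
    refine (QuotientGroup.eq).mp ?_
    exact (hca x).trans ((congrArg Subtype.val e).trans (hca y).symm)
  have hCN : C ≤ N := inf_le_left
  have hdvd := Subgroup.card_dvd_of_le hCN
  obtain ⟨j, hj⟩ := hdvd
  have hj1 : j ≠ 1 := by
    rintro rfl
    rw [mul_one] at hj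
    have hCeq : C = N := Subgroup.eq_of_le_of_card_ge hCN hj.le
    have hcore : N ⊔ Mb ≤ Subgroup.normalizer (Mb ⊓ Subgroup.centralizer (N : Set (G ⧸ D)) : Subgroup (G ⧸ D)) := by
      refine sup_le (fun n hn => Subgroup.mem_normalizer_iff.mpr fun x => ?_) ?_
      · constructor
        · intro hx
          rwa [Subgroup.mem_centralizer_iff.mp hx.2 n hn, mul_inv_cancel_right]
        · intro hx
          have e := Subgroup.mem_centralizer_iff.mp hx.2 n hn
          have : n * x * n⁻¹ = x := by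
            have e' : n * (n * x * n⁻¹) * n⁻¹ = (n * x * n⁻¹) := by
              rw [e, mul_inv_cancel_right]
            have := congrArg (fun z => n⁻¹ * z * n) e'
            simpa [mul_assoc] using this
          rwa [this] at hx
      · intro m hm
        have hmN : m ∈ Subgroup.normalizer (Mb : Set (G ⧸ D)) := Subgroup.le_normalizer hm
        have hmC : m ∈ Subgroup.normalizer
            (Subgroup.centralizer (N : Set (G ⧸ D)) : Set (G ⧸ D)) := by
          rw [Subgroup.normalizer_eq_top]; trivial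
        refine Subgroup.mem_normalizer_iff.mpr fun x => ?_
        exact and_congr (Subgroup.mem_normalizer_iff.mp hmN x) (Subgroup.mem_normalizer_iff.mp hmC x)
    rw [hsup, top_le_iff, Subgroup.normalizer_eq_top_iff] at hcore
    have hle : (Mb ⊓ Subgroup.centralizer (N : Set (G ⧸ D))) ≤ ⊥ := by
      intro x hx
      obtain ⟨x, rfl⟩ := hqs x
      refine Subgroup.mem_bot.mpr ((QuotientGroup.eq_one_iff x).mpr ?_)
      exact (Subgroup.normal_le_normalCore.mpr
        ((Subgroup.comap_mono inf_le_left).trans hcm.le :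
          (Mb ⊓ Subgroup.centralizer (N : Set (G ⧸ D))).comap q ≤ M)) hx
    exact hπ1 (Subgroup.mem_bot.mp (hle ⟨hπM, Subgroup.mem_centralizer_iff.mpr fun n hn =>
      (Subgroup.mem_centralizer_singleton_iff.mp (hCeq ▸ hn : n ∈ C).2)⟩))
  have hj2 : j ≠ 2 := by
    rintro rfl
    obtain ⟨r, e, hr, -, he, hel⟩ := hN.card_eq_pow
    have hexp := hel.2
    have hr2 : r = 2 := by
      have : 2 ∣ r ^ e := ⟨Nat.card C, by rw [← he, hj, mul_comm]⟩
      exact ((Nat.prime_dvd_prime_iff_eq Nat.prime_two hr).mp (Nat.prime_two.dvd_of_dvd_pow this)).symm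
    subst hr2
    obtain ⟨n, hn, hnC⟩ : ∃ n ∈ N, n ∉ C := by
      by_contra! hall
      have := congrArg (fun X : Subgroup (G ⧸ D) => Nat.card X) (le_antisymm hCN hall)
      have hpos : 0 < Nat.card C := Nat.card_pos
      omega
    set u := n⁻¹ * (πb * n * πb⁻¹)
    have hrel : C.relIndex N = 2 := by
      have := (C.subgroupOf N).card_mul_index
      rw [Nat.card_congr (Subgroup.subgroupOfEquivOfLe hCN).toEquiv, hj] at this
      exact Nat.eq_of_mul_eq_mul_left Nat.card_pos this
    have huC : u ∈ C := by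
      have hn' : πb * n * πb⁻¹ ∈ N := hN.normal.conj_mem n hn πb
      have h1 : ∀ x ∈ N, x ∉ C → n⁻¹ * x ∈ C := by
        intro x hx hxC
        have := (Subgroup.mul_mem_iff_of_index_two (H := C.subgroupOf N) hrel
          (a := (⟨n, hn⟩ : N)⁻¹) (b := ⟨x, hx⟩)).mpr (by
          simp only [Subgroup.inv_mem_iff, Subgroup.mem_subgroupOf]
          exact ⟨fun h => absurd h hnC, fun h => absurd h hxC⟩)
        simpa [Subgroup.mem_subgroupOf] using this
      refine h1 _ hn' fun h => hnC ?_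
      have e := Subgroup.mem_centralizer_singleton_iff.mp h.2
      have : πb * n * πb⁻¹ = n := by
        have h2 := congrArg (fun z => πb⁻¹ * z) e
        simpa [mul_assoc] using h2.symm
      rwa [this] at h
    have hucm : Commute u πb := Subgroup.mem_centralizer_singleton_iff.mp huC.2
    have hstep : ∀ i : ℕ, πb ^ i * n * (πb ^ i)⁻¹ = n * u ^ i := by
      intro i
      induction i with
      | zero => simp
      | succ i ih =>
        rw [show πb ^ (i + 1) * n * (πb ^ (i + 1))⁻¹ = πb * (πb ^ i * n * (πb ^ i)⁻¹) * πb⁻¹ by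
            rw [pow_succ']; group, ih,
          show πb * (n * u ^ i) * πb⁻¹ = (πb * n * πb⁻¹) * (πb * u ^ i * πb⁻¹) by group,
          show πb * n * πb⁻¹ = n * u by simp [u],
          ← (hucm.pow_left i).eq, mul_inv_cancel_right, mul_assoc, ← pow_succ']
    have hup : u ^ p = 1 := by
      have := hstep p
      rw [hπp] at this
      simpa using this.symm
    have hu2 : u ^ 2 = 1 := hexp u (hCN huC)
    have hu1 : u = 1 := by
      obtain ⟨k, hk⟩ := hp.odd_of_ne_two hp2
      rw [hk, pow_succ, pow_mul, hu2, one_pow, one_mul] at hup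
      exact hup
    apply hnC
    refine ⟨hn, Subgroup.mem_centralizer_singleton_iff.mpr ?_⟩
    have : πb * n * πb⁻¹ = n := by
      have := hstep 1
      simpa [hu1] using this
    calc n * πb = πb * n * πb⁻¹ * πb := by rw [this]
      _ = πb * n := inv_mul_cancel_right _ _
  rw [hidx, hj]
  have : j ≠ 0 := by
    rintro rfl
    rw [mul_zero] at hj
    exact Nat.card_pos.ne' hj
  calc 3 * Nat.card {x : G ⧸ M // π • x = x} ≤ 3 * Nat.card C := Nat.mul_le_mul_left _ hFC
    _ ≤ Nat.card C * j := by rw [mul_comm]; exact Nat.mul_le_mul_left _ (by omega)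

/-- The same bound for every transitive action on more than one point. -/
theorem fixed_transitive [Finite G] [Group.IsSolvable G] {p : ℕ} (hp : p.Prime) (hp2 : p ≠ 2)
    {π : G} (hπ : π ^ p = 1) (hgen : Subgroup.normalClosure ({π} : Set G) = ⊤)
    {X : Type*} [MulAction G X] [Finite X] [MulAction.IsPretransitive G X] [Nontrivial X] :
    3 * Nat.card {x : X // π • x = x} ≤ Nat.card X := by
  obtain ⟨x₀⟩ := (inferInstance : Nonempty X)
  set H := MulAction.stabilizer G x₀
  have hH : H ≠ ⊤ := by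
    intro h
    obtain ⟨a, b, hab⟩ := exists_pair_ne X
    obtain ⟨g, rfl⟩ := MulAction.exists_smul_eq G x₀ a
    obtain ⟨g', rfl⟩ := MulAction.exists_smul_eq G x₀ b
    have h1 : g ∈ H := h ▸ Subgroup.mem_top g
    have h2 : g' ∈ H := h ▸ Subgroup.mem_top g'
    exact hab (h1.trans h2.symm)
  obtain ⟨M, hM, hHM⟩ := (eq_top_or_exists_le_coatom H).resolve_left hH
  have hex : ∀ x : X, ∃ g : G, g • x₀ = x := MulAction.exists_smul_eq G x₀
  choose s hs using hex
  have hwd : ∀ (x : X) (g : G), g • x₀ = x → ((g : G) : G ⧸ M) = (s x : G ⧸ M) := by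
    intro x g hg
    refine QuotientGroup.eq.mpr (hHM ?_)
    show (g⁻¹ * s x) • x₀ = x₀
    rw [mul_smul, hs, inv_smul_eq_iff, hg]
  set f : X → G ⧸ M := fun x => (s x : G ⧸ M)
  have hfe : ∀ (g : G) (x : X), f (g • x) = g • f x := by
    intro g x
    exact (hwd (g • x) (g * s x) (by rw [mul_smul, hs])).symm
  have hfib : ∀ m : G ⧸ M, Nat.card {x : X // f x = m} =
      Nat.card {x : X // f x = ((1 : G) : G ⧸ M)} := by
    intro m
    induction m using QuotientGroup.induction_on with
    | _ g =>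
      refine Nat.card_congr (((MulAction.toPerm g⁻¹).subtypeEquiv fun x => ?_))
      show f x = (g : G ⧸ M) ↔ f (g⁻¹ • x) = _
      rw [hfe, inv_smul_eq_iff]
      simp
  have hX : Nat.card X = M.index * Nat.card {x : X // f x = ((1 : G) : G ⧸ M)} := by
    have := Fintype.ofFinite (G ⧸ M)
    rw [← Nat.card_congr (Equiv.sigmaFiberEquiv f), Nat.card_sigma,
      Finset.sum_congr rfl (fun m _ => hfib m), Finset.sum_const, Finset.card_univ, smul_eq_mul,
      ← Nat.card_eq_fintype_card, ← Subgroup.index_eq_card]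
  have hF : Nat.card {x : X // π • x = x} ≤
      Nat.card {m : G ⧸ M // π • m = m} * Nat.card {x : X // f x = ((1 : G) : G ⧸ M)} := by
    have := Fintype.ofFinite {m : G ⧸ M // π • m = m}
    refine (Nat.card_le_card_of_injective
      (fun x : {x : X // π • x = x} => (⟨⟨f x, by rw [← hfe, x.2]⟩, ⟨x, rfl⟩⟩ :
        Σ m : {m : G ⧸ M // π • m = m}, {x : X // f x = m})) fun a b e => ?_).trans ?_
    · exact Subtype.ext (congrArg (fun t => (t.2 : X)) e)
    · rw [Nat.card_sigma, Finset.sum_congr rfl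
        (fun (m : {m : G ⧸ M // π • m = m}) _ => hfib m), Finset.sum_const,
        Finset.card_univ, smul_eq_mul, ← Nat.card_eq_fintype_card]
  have := fixed_maximal hp hp2 hπ hgen hM
  rw [hX]
  calc 3 * Nat.card {x : X // π • x = x}
      ≤ 3 * (Nat.card {m : G ⧸ M // π • m = m} * _) := Nat.mul_le_mul_left _ hF
    _ ≤ M.index * _ := by rw [← mul_assoc]; exact Nat.mul_le_mul_right _ this

/-- A solvable group has no section `SL(2,p)`, `p ≥ 5`. -/
theorem sl2_free [Group.IsSolvable G] {p : ℕ} [Fact p.Prime] (hp : 5 ≤ p) :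
    ¬ QuadraticMain.HasSection G SL(2, ZMod p) := by
  rintro ⟨K, f, hf⟩
  have : Group.IsSolvable SL(2, ZMod p) := Group.isSolvable_of_surjective hf
  have h4 : 4 ≤ Nat.card (ZMod p) := by rw [Nat.card_zmod]; omega
  have : Group.IsSolvable (Matrix.ProjectiveSpecialLinearGroup (Fin 2) (ZMod p)) :=
    Group.isSolvable_of_surjective (f := QuotientGroup.mk' (Subgroup.center SL(2, ZMod p)))
      (QuotientGroup.mk'_surjective _)
  have := PSLSimple.isSimpleGroup_PSL_fin' (F := ZMod p) (n := 2) le_rfl (fun _ => h4)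
  exact PSLSimple.not_isMulCommutative_PSL_fin (F := ZMod p) le_rfl (fun _ => h4)
    (IsSimpleGroup.comm_iff_isSolvable.mpr ‹_›)

/-- On a minimal normal elementary abelian `p`-subgroup `π` is not quadratic. -/
theorem not_quadratic [Finite G] [Group.IsSolvable G] {p : ℕ} [Fact p.Prime] (hp : 5 ≤ p)
    {V : Subgroup G} (hV : HallSolvable.IsMinNormal V) (hVe : IsElementaryAbelian p V) {π : G}
    (hπ : π ∉ Subgroup.centralizer (V : Set G))
    (hq : ∀ v ∈ V, π * (π * v * π⁻¹ * v⁻¹) * π⁻¹ = π * v * π⁻¹ * v⁻¹) : False := by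
  have hVn : V.Normal := hV.normal
  have hquad : ⁅⁅V, Subgroup.zpowers π⁆, Subgroup.zpowers π⁆ = ⊥ := by
    rw [Subgroup.commutator_eq_bot_iff_le_centralizer, Subgroup.commutator_le]
    intro v hv a ha
    obtain ⟨i, rfl⟩ := Subgroup.mem_zpowers_iff.mp ha
    set W := V ⊓ Subgroup.centralizer ({π} : Set G)
    -- the elements moving `v` inside the fixed subgroup form a subgroup containing `π`
    have hfix : π * v * π⁻¹ * v⁻¹ ∈ W :=
      ⟨V.mul_mem (hVn.conj_mem v hv π) (V.inv_mem hv), Subgroup.mem_centralizer_singleton_iff.mpr (by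
        conv_lhs => rw [← hq v hv]
        rw [inv_mul_cancel_right])⟩
    have hW : ∀ w ∈ W, ∀ j : ℤ, π ^ j * w * (π ^ j)⁻¹ = w := fun w hw j => by
      have h : Commute w π := Subgroup.mem_centralizer_singleton_iff.mp hw.2
      rw [← (h.zpow_right j).eq, mul_inv_cancel_right]
    have key : ∀ j : ℤ, π ^ j * v * (π ^ j)⁻¹ * v⁻¹ ∈ W := by
      intro j
      induction j with
      | zero => simp
      | succ n ih =>
        have : π ^ ((n : ℤ) + 1) * v * (π ^ ((n : ℤ) + 1))⁻¹ * v⁻¹ =
            π ^ (n : ℤ) * (π * v * π⁻¹ * v⁻¹) * (π ^ (n : ℤ))⁻¹ *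
              (π ^ (n : ℤ) * v * (π ^ (n : ℤ))⁻¹ * v⁻¹) := by
          rw [_root_.zpow_add, zpow_one]; group
        rw [this, hW _ hfix]
        exact mul_mem hfix ih
      | pred n ih =>
        have : π ^ (-(n : ℤ) - 1) * v * (π ^ (-(n : ℤ) - 1))⁻¹ * v⁻¹ =
            π ^ (-(n : ℤ) - 1) * (π * v * π⁻¹ * v⁻¹)⁻¹ * (π ^ (-(n : ℤ) - 1))⁻¹ *
              (π ^ (-(n : ℤ)) * v * (π ^ (-(n : ℤ)))⁻¹ * v⁻¹) := by
          rw [_root_.zpow_sub, zpow_one]; group
        rw [this, hW _ (inv_mem hfix)]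
        exact mul_mem (inv_mem hfix) ih
    have h2 := inv_mem (key i)
    rw [show (π ^ i * v * (π ^ i)⁻¹ * v⁻¹)⁻¹ = ⁅v, π ^ i⁆ by
      simp [commutatorElement_def, mul_assoc]] at h2
    refine Subgroup.mem_centralizer_iff.mpr fun g hg => ?_
    obtain ⟨j, rfl⟩ := Subgroup.mem_zpowers_iff.mp hg
    exact ((Commute.zpow_right (Subgroup.mem_centralizer_singleton_iff.mp h2.2) j).eq).symm
  have hst := QuadraticQd.isPStableOn_of_sl2_free (p := p) (by omega) (sl2_free hp) V hVe π hquad
  set C := Subgroup.centralizer (V : Set G)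
  set O := pCore p (G ⧸ C)
  set D := O.comap (QuotientGroup.mk' C)
  have hOn : O.Normal := HallCore.pCore_normal p (G ⧸ C)
  have hVp : IsPGroup p V := fun v => ⟨1, Subtype.ext (by simpa using hVe.2 v v.2)⟩
  set W := V ⊓ Subgroup.centralizer (D : Set G)
  have hWn : W.Normal := inferInstance
  have hWbot : W ≠ ⊥ := by
    let f : G ⧸ C →* MulAut V := QuotientGroup.lift C (MulAut.conjNormal (H := V))
      fun c hc => MulEquiv.ext fun v => Subtype.ext (by
        rw [MulAut.conjNormal_apply, ← Subgroup.mem_centralizer_iff.mp hc v v.2,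
          mul_inv_cancel_right]
        rfl)
    let act : MulDistribMulAction O V := MulDistribMulAction.compHom _ (f.comp O.subtype)
    have hnb := (Subgroup.nontrivial_iff_ne_bot V).mpr hV.ne_bot
    have hdvd : p ∣ Nat.card V := by
      obtain ⟨k, hk⟩ := IsPGroup.iff_card.mp hVp
      rw [hk]
      refine dvd_pow_self _ ?_
      rintro rfl
      exact hV.ne_bot (by simpa using hk)
    obtain ⟨w, hw, hw1⟩ := (HallCore.isPGroup_pCore p (G ⧸ C)).exists_fixed_point_of_prime_dvd_card_of_fixed_point V hdvd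
      (show (1 : V) ∈ MulAction.fixedPoints O V from fun a => smul_one a)
    intro hbot
    have : (w : G) ∈ W := by
      refine ⟨w.2, Subgroup.mem_centralizer_iff.mpr fun a ha => ?_⟩
      have h : a * (w : G) * a⁻¹ = w := congrArg Subtype.val (hw ⟨_, ha⟩)
      conv_rhs => rw [← h]
      rw [inv_mul_cancel_right]
    rw [hbot, Subgroup.mem_bot] at this
    exact hw1 (Subtype.ext this.symm)
  have hWV : W = V := hV.eq_of_le inf_le_left hWbot
  refine hπ (Subgroup.mem_centralizer_iff.mpr fun v hv => ?_)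
  exact ((Subgroup.mem_centralizer_iff.mp (hWV.ge hv).2) π hst).symm

/-- The noncentral class two normal subgroup, with the index bound for the centraliser of `π`. -/
theorem exists_data [Finite G] [Group.IsSolvable G] {p : ℕ} [Fact p.Prime] (hp : 5 ≤ p) {π : G}
    (hπ : π ^ p = 1) (hgen : Subgroup.normalClosure ({π} : Set G) = ⊤)
    (hπZ : π ∉ Subgroup.center G)
    (hab : ∀ A : Subgroup G, A.Normal → (∀ a ∈ A, ∀ b ∈ A, a * b = b * a) →
      A ≤ Subgroup.center G) :
    ∃ (V : Subgroup (G ⧸ Subgroup.center G)) (r I : ℕ), V.Normal ∧ r.Prime ∧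
      (∀ a ∈ V, ∀ b ∈ V, a * b = b * a) ∧ (∀ a ∈ V, a ^ r = 1) ∧
      (∀ x : G, (x : G ⧸ Subgroup.center G) ∈ V →
        (∀ y : G, (y : G ⧸ Subgroup.center G) ∈ V → x * y = y * x) → x ∈ Subgroup.center G) ∧
      Nat.card ↥(V ⊓ Subgroup.centralizer ({(π : G ⧸ Subgroup.center G)} : Set _)) * I =
        Nat.card V ∧
      1 < I ∧ 4 * (p - 1) ≤ (p - 4) * I := by
  classical
  set Z := Subgroup.center G
  have hpP : p.Prime := Fact.out
  have : Nontrivial (G ⧸ Z) := ⟨⟨(π : G ⧸ Z), 1, fun h => hπZ ((QuotientGroup.eq_one_iff π).mp h)⟩⟩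
  have : Group.IsSolvable (G ⧸ Z) := Group.isSolvable_of_surjective (QuotientGroup.mk'_surjective Z)
  obtain ⟨V, hV⟩ := HallSolvable.exists_minNormal (G := G ⧸ Z)
  have := hV.normal
  obtain ⟨r, e, hr, he0, hcard, ⟨hVc, hVr⟩⟩ := hV.card_eq_pow
  have hVc' : ∀ a ∈ V, ∀ b ∈ V, a * b = b * a :=
    fun a ha b hb => congrArg Subtype.val (hVc.is_comm.comm (⟨a, ha⟩ : V) ⟨b, hb⟩)
  set R := V.comap (QuotientGroup.mk' Z)
  have hZR : Z ≤ R := fun z hz => by
    show QuotientGroup.mk' Z z ∈ V
    rw [QuotientGroup.mk'_apply, (QuotientGroup.eq_one_iff z).mpr hz]; exact one_mem _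
  have hnondeg : ∀ x : G, (x : G ⧸ Z) ∈ V →
      (∀ y : G, (y : G ⧸ Z) ∈ V → x * y = y * x) → x ∈ Z := by
    intro x hx hxy
    refine hab (R ⊓ Subgroup.centralizer (R : Set G)) inferInstance
      (fun a ha b hb => Subgroup.mem_centralizer_iff.mp hb.2 a ha.1)
      ⟨hx, Subgroup.mem_centralizer_iff.mpr fun y hy => (hxy y hy).symm⟩
  have hRZ : ¬ R ≤ Z := fun h => hV.ne_bot (eq_bot_iff.mpr fun v hv => by
    obtain ⟨x, rfl⟩ := QuotientGroup.mk'_surjective Z v
    exact Subgroup.mem_bot.mpr ((QuotientGroup.eq_one_iff x).mpr (h hv)))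
  set πb : G ⧸ Z := QuotientGroup.mk' Z π
  have hπb : πb ^ p = 1 := by rw [← map_pow, hπ, map_one]
  have hπV : πb ∉ Subgroup.centralizer (V : Set (G ⧸ Z)) := by
    intro h
    have htop := mem_of_conj_closure (gen_map hgen _ (QuotientGroup.mk'_surjective Z)) h
    have hRG : ∀ x ∈ R, ∀ g : G, ⁅x, g⁆ ∈ Z := by
      intro x hx g
      rw [← QuotientGroup.eq_one_iff]
      show QuotientGroup.mk' Z ⁅x, g⁆ = 1
      rw [map_commutatorElement, commutatorElement_eq_one_iff_mul_comm]
      exact Subgroup.mem_centralizer_iff.mp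
        (htop.ge (Subgroup.mem_top (QuotientGroup.mk' Z g))) _ hx
    refine hRZ (hab R inferInstance ?_)
    set φ : G →* Abelianization G := Abelianization.of
    have hker : ∀ x ∈ R, ∀ c ∈ commutator G, x * c = c * x := by
      intro x hx c hc
      have hcz : ∀ g, ⁅x, g⁆ ∈ Subgroup.center G := hRG x hx
      let ψ : G →* ↥(Subgroup.center G) :=
        { toFun := fun g => ⟨⁅x, g⁆, hcz g⟩
          map_one' := Subtype.ext (commutatorElement_one_right x)
          map_mul' := fun a b => Subtype.ext (by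
            show ⁅x, a * b⁆ = ⁅x, a⁆ * ⁅x, b⁆
            have hb := Subgroup.mem_center_iff.mp (hcz b) a
            calc ⁅x, a * b⁆ = ⁅x, a⁆ * (a * ⁅x, b⁆ * a⁻¹) := by
                  simp [commutatorElement_def, mul_assoc]
              _ = ⁅x, a⁆ * ⁅x, b⁆ := by rw [hb, mul_inv_cancel_right]) }
      have : commutator G ≤ ψ.ker := by
        rw [_root_.commutator_def, Subgroup.commutator_le]
        intro a _ b _
        rw [MonoidHom.mem_ker, map_commutatorElement, commutatorElement_eq_one_iff_mul_comm]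
        exact Subtype.ext (Subgroup.mem_center_iff.mp (ψ b).2 _).symm.symm
      exact commutatorElement_eq_one_iff_mul_comm.mp (congrArg Subtype.val (this hc))
    have hcyc : IsCyclic (Abelianization G) := by
      refine ⟨φ π, fun a => ?_⟩
      have h := gen_map hgen φ (QuotientGroup.mk'_surjective _)
      have : Subgroup.normalClosure ({φ π} : Set (Abelianization G)) ≤ Subgroup.zpowers (φ π) :=
        Subgroup.normalClosure_le_normal (by simp)
      exact this (h ▸ Subgroup.mem_top a)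
    intro a ha b hb
    exact congrArg Subtype.val (commutative_of_cyclic_center_quotient (φ.comp R.subtype)
      (fun c hc => Subgroup.mem_center_iff.mpr fun y => Subtype.ext
        (hker y y.2 c (by rwa [MonoidHom.mem_ker, MonoidHom.comp_apply, ← MonoidHom.mem_ker,
          Abelianization.ker_of] at hc))) (⟨a, ha⟩ : R) ⟨b, hb⟩)
  -- the displacement map
  set δ : V →* V := MonoidHom.mk' (fun v => ⟨πb * v * πb⁻¹ * (v : G ⧸ Z)⁻¹,
      V.mul_mem (hV.normal.conj_mem v v.2 πb) (V.inv_mem v.2)⟩) (fun a b => Subtype.ext (by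
    show πb * (a * b : G ⧸ Z) * πb⁻¹ * (a * b : G ⧸ Z)⁻¹ =
      (πb * a * πb⁻¹ * (a : G ⧸ Z)⁻¹) * (πb * b * πb⁻¹ * (b : G ⧸ Z)⁻¹)
    have h1 : (a : G ⧸ Z)⁻¹ * (πb * b * πb⁻¹) = (πb * b * πb⁻¹) * (a : G ⧸ Z)⁻¹ :=
      hVc' _ (V.inv_mem a.2) _ (hV.normal.conj_mem b b.2 πb)
    have h2 : (b : G ⧸ Z)⁻¹ * (a : G ⧸ Z)⁻¹ = (a : G ⧸ Z)⁻¹ * (b : G ⧸ Z)⁻¹ :=
      hVc' _ (V.inv_mem b.2) _ (V.inv_mem a.2)
    calc πb * (a * b : G ⧸ Z) * πb⁻¹ * (a * b : G ⧸ Z)⁻¹
        = (πb * a * πb⁻¹) * ((πb * b * πb⁻¹) * ((b : G ⧸ Z)⁻¹ * (a : G ⧸ Z)⁻¹)) := by group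
      _ = (πb * a * πb⁻¹) * (((πb * b * πb⁻¹) * (a : G ⧸ Z)⁻¹) * (b : G ⧸ Z)⁻¹) := by
          rw [h2]; group
      _ = _ := by rw [← h1]; group))
  set I := Nat.card δ.range
  have hkerC : ∀ v : V, v ∈ δ.ker ↔ (v : G ⧸ Z) ∈ Subgroup.centralizer ({πb} : Set _) := by
    intro v
    rw [MonoidHom.mem_ker, Subtype.ext_iff, Subgroup.mem_centralizer_singleton_iff]
    show πb * (v : G ⧸ Z) * πb⁻¹ * (v : G ⧸ Z)⁻¹ = 1 ↔ _
    rw [mul_inv_eq_one, mul_inv_eq_iff_eq_mul]
    exact eq_comm
  have hFcard : Nat.card δ.ker = Nat.card ↥(V ⊓ Subgroup.centralizer ({πb} : Set (G ⧸ Z))) :=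
    Nat.card_congr ⟨fun v => ⟨v.1, v.1.2, (hkerC v.1).mp v.2⟩,
      fun v => ⟨⟨v.1, v.2.1⟩, (hkerC _).mpr v.2.2⟩, fun _ => rfl, fun _ => rfl⟩
  have hmul : Nat.card δ.ker * I = Nat.card V := by
    show Nat.card δ.ker * Nat.card δ.range = Nat.card V
    rw [← Subgroup.index_ker, Subgroup.card_mul_index]
  have hI1 : 1 < I := by
    rw [Subgroup.one_lt_card_iff_ne_bot, Ne, MonoidHom.range_eq_bot_iff]
    intro h
    refine hπV (Subgroup.mem_centralizer_iff.mpr fun v hv => ?_)
    exact Subgroup.mem_centralizer_singleton_iff.mp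
      ((hkerC ⟨v, hv⟩).mp (by rw [MonoidHom.mem_ker, h]; rfl))
  obtain ⟨d, -, hd⟩ : ∃ d ≤ e, I = r ^ d :=
    (Nat.dvd_prime_pow hr).mp (hcard ▸ Subgroup.card_subgroup_dvd_card _)
  -- the elements of the range fixed by π have exponent p
  have : Fact r.Prime := ⟨hr⟩
  have hfix : ∀ v : V, πb * (δ v : G ⧸ Z) * πb⁻¹ = δ v → δ v ^ p = 1 := by
    intro v hv
    have hv' : πb * v * πb⁻¹ = (δ v : G ⧸ Z) * v := by
      show _ = πb * (v : G ⧸ Z) * πb⁻¹ * (v : G ⧸ Z)⁻¹ * v
      rw [inv_mul_cancel_right]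
    have hstep : ∀ i : ℕ, πb ^ i * v * (πb ^ i)⁻¹ = (δ v : G ⧸ Z) ^ i * v := by
      intro i
      induction i with
      | zero => simp
      | succ i ih =>
        rw [show πb ^ (i + 1) * (v : G ⧸ Z) * (πb ^ (i + 1))⁻¹ =
            πb * (πb ^ i * v * (πb ^ i)⁻¹) * πb⁻¹ by rw [pow_succ']; group, ih,
          conj_mul.symm, conj_pow.symm, hv, hv', pow_succ, mul_assoc]
    have := hstep p
    rw [hπb, one_mul, inv_one, mul_one, right_eq_mul] at this
    exact Subtype.ext this
  -- π acts on the range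
  let act : MulAction (Subgroup.zpowers πb) δ.range :=
    { smul := fun g w => ⟨⟨(g : G ⧸ Z) * (w.1 : G ⧸ Z) * (g : G ⧸ Z)⁻¹, hV.normal.conj_mem _ w.1.2 _⟩, by
        obtain ⟨v, hv⟩ := w.2
        refine ⟨⟨(g : G ⧸ Z) * v * (g : G ⧸ Z)⁻¹, hV.normal.conj_mem _ v.2 _⟩, Subtype.ext ?_⟩
        have hc : Commute πb (g : G ⧸ Z) := by
          obtain ⟨i, hi⟩ := Subgroup.mem_zpowers_iff.mp g.2
          rw [← hi]; exact (Commute.refl πb).zpow_right i
        have hc' : Commute πb⁻¹ (g : G ⧸ Z)⁻¹ := hc.inv_inv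
        rw [← hv]
        show πb * ((g : G ⧸ Z) * v * (g : G ⧸ Z)⁻¹) * πb⁻¹ * ((g : G ⧸ Z) * v * (g : G ⧸ Z)⁻¹)⁻¹ =
          (g : G ⧸ Z) * (πb * v * πb⁻¹ * (v : G ⧸ Z)⁻¹) * (g : G ⧸ Z)⁻¹
        calc _ = (πb * g) * v * ((g : G ⧸ Z)⁻¹ * πb⁻¹) * g * (v : G ⧸ Z)⁻¹ * (g : G ⧸ Z)⁻¹ := by
              group
          _ = _ := by rw [hc.eq, ← hc'.eq]; group⟩
      one_smul := fun w => Subtype.ext (Subtype.ext (by
        show (1 : G ⧸ Z) * _ * (1 : G ⧸ Z)⁻¹ = _; simp))
      mul_smul := fun a b w => Subtype.ext (Subtype.ext (by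
        show ((a : G ⧸ Z) * b) * _ * ((a : G ⧸ Z) * b)⁻¹ = (a : G ⧸ Z) * ((b : G ⧸ Z) * _ * (b : G ⧸ Z)⁻¹) * (a : G ⧸ Z)⁻¹
        group)) }
  have hPp : IsPGroup p (Subgroup.zpowers πb) := fun g => ⟨1, by
    obtain ⟨i, hi⟩ := Subgroup.mem_zpowers_iff.mp g.2
    apply Subtype.ext
    rw [pow_one, SubmonoidClass.coe_pow, ← hi, ← zpow_natCast, ← zpow_mul, mul_comm, zpow_mul,
      zpow_natCast, hπb, one_zpow, OneMemClass.coe_one]⟩
  have hmod := hPp.card_modEq_card_fixedPoints δ.range
  have hfixpt : ∀ w ∈ MulAction.fixedPoints (Subgroup.zpowers πb) δ.range,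
      πb * (w.1 : G ⧸ Z) * πb⁻¹ = w.1 := fun w hw =>
    congrArg (fun t : δ.range => (t.1 : G ⧸ Z)) (hw ⟨πb, Subgroup.mem_zpowers πb⟩)
  refine ⟨V, r, I, hV.normal, hr, hVc', hVr, hnondeg, hFcard ▸ hmul, hI1, ?_⟩
  by_cases hrp : r = p
  · subst hrp
    have hd1 : d ≠ 1 := by
      rintro rfl
      rw [pow_one] at hd
      -- a group of prime order is centralised by a p-group
      have hone : (1 : δ.range) ∈ MulAction.fixedPoints (Subgroup.zpowers πb) δ.range := fun g =>
        Subtype.ext (Subtype.ext (by show (g : G ⧸ Z) * 1 * (g : G ⧸ Z)⁻¹ = 1; simp))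
      obtain ⟨w, hw, hw1⟩ := hPp.exists_fixed_point_of_prime_dvd_card_of_fixed_point δ.range
        (hd.symm ▸ dvd_rfl) hone
      refine not_quadratic hp hV ⟨hVc, hVr⟩ hπV fun v hv => ?_
      have hgenw : (δ.range : Subgroup V) = Subgroup.zpowers w.1 := by
        refine (Subgroup.eq_of_le_of_card_ge (Subgroup.zpowers_le.mpr w.2) ?_).symm
        rw [Nat.card_zpowers, show Nat.card δ.range = r from hd]
        refine le_of_eq (orderOf_eq_prime (Subtype.ext (hVr _ w.1.2)) fun h => hw1 ?_).symm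
        exact Subtype.ext h.symm
      have hmem : δ ⟨v, hv⟩ ∈ δ.range := ⟨_, rfl⟩
      rw [hgenw, Subgroup.mem_zpowers_iff] at hmem
      obtain ⟨i, hi⟩ := hmem
      show πb * (δ ⟨v, hv⟩ : G ⧸ Z) * πb⁻¹ = δ ⟨v, hv⟩
      rw [← hi, SubgroupClass.coe_zpow, ← conj_zpow, hfixpt w hw]
    have hd2 : 2 ≤ d := by
      rcases d with _ | _ | d
      · rw [pow_zero] at hd; omega
      · simp at hd1
      · omega
    have : r ^ 2 ≤ I := hd ▸ Nat.pow_le_pow_right hr.pos hd2
    have h1 : 1 ≤ r - 4 := by omega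
    calc 4 * (r - 1) ≤ 1 * r ^ 2 := by nlinarith [Nat.sub_le r 1]
      _ ≤ (r - 4) * I := Nat.mul_le_mul h1 this
  · have honly : ∀ w : δ.range, πb * (w.1 : G ⧸ Z) * πb⁻¹ = w.1 → w = 1 := by
      intro w hw
      obtain ⟨v, hv⟩ := w.2
      have h := hfix v (by rw [hv]; exact hw)
      rw [hv] at h
      apply Subtype.ext
      have hr' : w.1 ^ r = 1 := Subtype.ext (hVr _ w.1.2)
      have := pow_gcd_eq_one.mpr ⟨h, hr'⟩
      rwa [(Nat.coprime_primes hpP hr).mpr (Ne.symm hrp), pow_one] at this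
    have hFix1 : Nat.card (MulAction.fixedPoints (Subgroup.zpowers πb) δ.range) = 1 := by
      rw [Nat.card_eq_one_iff_unique]
      exact ⟨⟨fun a b => Subtype.ext ((honly _ (hfixpt _ a.2)).trans (honly _ (hfixpt _ b.2)).symm)⟩,
        ⟨1, fun g => Subtype.ext (Subtype.ext (by
          show (g : G ⧸ Z) * 1 * (g : G ⧸ Z)⁻¹ = 1; simp))⟩⟩
    rw [hFix1] at hmod
    have hmod' : I % p = 1 := by
      have := hmod
      rwa [Nat.ModEq, Nat.mod_eq_of_lt hpP.one_lt] at this
    have hge : p + 1 ≤ I := by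
      by_contra h
      rcases lt_or_eq_of_le (Nat.lt_succ_iff.mp (not_le.mp h) : I ≤ p) with h' | h'
      · rw [Nat.mod_eq_of_lt h'] at hmod'; omega
      · rw [h', Nat.mod_self] at hmod'; omega
    have hd1 : d ≠ 1 := by
      rintro rfl
      rw [pow_one] at hd
      obtain ⟨⟨w, hw⟩, hw1⟩ : ∃ w : δ.range, w ≠ 1 := by
        by_contra! hall
        have : I = 1 := Nat.card_eq_one_iff_unique.mpr
          ⟨⟨fun a b => (hall a).trans (hall b).symm⟩, ⟨1⟩⟩
        omega
      obtain ⟨v, rfl⟩ := hw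
      obtain ⟨x, hx⟩ := QuotientGroup.mk'_surjective Z (v : G ⧸ Z)
      set u := π * x * π⁻¹ * x⁻¹
      have hu : QuotientGroup.mk' Z u = (δ v : G ⧸ Z) := by
        show _ = πb * (v : G ⧸ Z) * πb⁻¹ * (v : G ⧸ Z)⁻¹
        simp only [u, map_mul, map_inv, hx, πb]
      refine hw1 (Subtype.ext (Subtype.ext ?_))
      show (δ v : G ⧸ Z) = 1
      rw [← hu]
      refine (QuotientGroup.eq_one_iff u).mpr (hnondeg u (show QuotientGroup.mk' Z u ∈ V by rw [hu]; exact (δ v).2) fun y hy => ?_)
      -- u commutes with the fixed part and with itself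
      set T := Subgroup.centralizer ({u} : Set G)
      have hfixu : ∀ c : G, (c : G ⧸ Z) ∈ V → πb * c * πb⁻¹ = c → c ∈ T := by
        intro c hc hcf
        rw [Subgroup.mem_centralizer_singleton_iff]
        have hcz : ∀ g : G, (g : G ⧸ Z) ∈ V → ⁅g, c⁆ ∈ Z := fun g hg => by
          rw [← QuotientGroup.eq_one_iff]
          show QuotientGroup.mk' Z _ = 1
          rw [map_commutatorElement, commutatorElement_eq_one_iff_mul_comm]
          exact hVc' _ hg _ hc
        set z := π⁻¹ * (c * π * c⁻¹)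
        set k := x⁻¹ * (c * x * c⁻¹)
        have hxV : (x : G ⧸ Z) ∈ V := by
          show QuotientGroup.mk' Z x ∈ V
          rw [hx]; exact v.2
        have hz : z ∈ Subgroup.center G := by
          rw [← QuotientGroup.eq_one_iff]
          show QuotientGroup.mk' Z _ = 1
          simp only [z, map_mul, map_inv]
          change πb⁻¹ * ((c : G ⧸ Z) * πb * (c : G ⧸ Z)⁻¹) = 1
          rw [inv_mul_eq_one, eq_mul_inv_iff_mul_eq]
          exact (mul_inv_eq_iff_eq_mul.mp hcf)
        have hk : k ∈ Subgroup.center G := by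
          rw [← QuotientGroup.eq_one_iff]
          show QuotientGroup.mk' Z _ = 1
          simp only [k, map_mul, map_inv]
          change (x : G ⧸ Z)⁻¹ * ((c : G ⧸ Z) * x * (c : G ⧸ Z)⁻¹) = 1
          rw [hVc' _ hc _ hxV, mul_inv_cancel_right, inv_mul_cancel]
        have hz' : ∀ g, g * z = z * g := Subgroup.mem_center_iff.mp hz
        have hk' : ∀ g, g * k = k * g := Subgroup.mem_center_iff.mp hk
        have e : c * u * c⁻¹ = u := by
          calc c * u * c⁻¹ = (π * z) * (x * k) * (π * z)⁻¹ * (x * k)⁻¹ := by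
                simp [u, z, k, mul_assoc]
            _ = π * (z * x) * k * z⁻¹ * π⁻¹ * k⁻¹ * x⁻¹ := by group
            _ = π * x * (z * (k * z⁻¹)) * π⁻¹ * k⁻¹ * x⁻¹ := by rw [← hz' x]; group
            _ = π * x * (k * π⁻¹) * k⁻¹ * x⁻¹ := by
                have hzk : z * (k * z⁻¹) = k := by rw [← mul_assoc, ← hz' k, mul_inv_cancel_right]
                rw [hzk]; group
            _ = u := by rw [← hk' π⁻¹]; simp [u, mul_assoc]
        exact (mul_inv_eq_iff_eq_mul.mp e)
      -- the range and the kernel generate V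
      have hint : δ.range ⊓ δ.ker = ⊥ := by
        refine eq_bot_iff.mpr fun w hw => ?_
        have := (hkerC w).mp hw.2
        have hwf : πb * (w : G ⧸ Z) * πb⁻¹ = w := by
          rw [← Subgroup.mem_centralizer_singleton_iff.mp this, mul_inv_cancel_right]
        exact Subgroup.mem_bot.mpr (congrArg Subtype.val (honly ⟨w, hw.1⟩ hwf))
      have hcompl : Subgroup.IsComplement' δ.range δ.ker :=
        Subgroup.isComplement'_of_card_mul_and_disjoint (by rw [mul_comm]; exact hmul)
          (disjoint_iff.mpr hint)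
      obtain ⟨⟨a, b⟩, hab'⟩ := hcompl.2 ⟨(y : G ⧸ Z), hy⟩
      obtain ⟨a', ha'⟩ := QuotientGroup.mk'_surjective Z (a.1 : G ⧸ Z)
      obtain ⟨b', hb'⟩ := QuotientGroup.mk'_surjective Z (b.1 : G ⧸ Z)
      have haT : a' ∈ T := by
        have hgw : δ.range = Subgroup.zpowers (δ v) := by
          refine (Subgroup.eq_of_le_of_card_ge (Subgroup.zpowers_le.mpr (MonoidHom.mem_range.mpr ⟨v, rfl⟩)) ?_).symm
          rw [Nat.card_zpowers, show Nat.card δ.range = r from hd]
          refine le_of_eq (orderOf_eq_prime (Subtype.ext (hVr _ (δ v).2)) fun h' => hw1 ?_).symm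
          exact Subtype.ext h'
        have hmem := a.2
        simp only [hgw, Subgroup.mem_zpowers_iff] at hmem
        obtain ⟨i, hi⟩ := hmem
        have : (u ^ i)⁻¹ * a' ∈ Z := by
          rw [← QuotientGroup.eq_one_iff]
          show QuotientGroup.mk' Z _ = 1
          rw [map_mul, map_inv, map_zpow, hu, ha', ← hi, SubgroupClass.coe_zpow, inv_mul_cancel]
        have hT : Z ≤ T := fun z hz =>
          Subgroup.mem_centralizer_singleton_iff.mpr (Subgroup.mem_center_iff.mp hz u).symm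
        simpa using mul_mem (zpow_mem (Subgroup.mem_centralizer_singleton_iff.mpr rfl : u ∈ T) i)
          (hT this)
      have hbT : b' ∈ T := by
        refine hfixu b' (by show QuotientGroup.mk' Z b' ∈ V; rw [hb']; exact b.1.2) ?_
        change πb * QuotientGroup.mk' Z b' * πb⁻¹ = QuotientGroup.mk' Z b'
        rw [hb', ← Subgroup.mem_centralizer_singleton_iff.mp ((hkerC b.1).mp b.2),
          mul_inv_cancel_right]
      have hrest : (a' * b')⁻¹ * y ∈ Z := by
        refine QuotientGroup.eq.mp ?_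
        have := congrArg Subtype.val hab'
        show QuotientGroup.mk' Z (a' * b') = QuotientGroup.mk' Z y
        rw [map_mul, ha', hb']
        exact this
      have hyT : y ∈ T := by
        have := mul_mem (mul_mem haT hbT)
          (Subgroup.mem_centralizer_singleton_iff.mpr
            (Subgroup.mem_center_iff.mp hrest u).symm : (a' * b')⁻¹ * y ∈ T)
        rwa [mul_inv_cancel_left] at this
      exact (Subgroup.mem_centralizer_singleton_iff.mp hyT).symm
    rcases Nat.lt_or_ge p 7 with hp7 | hp7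
    · obtain rfl : p = 5 := by
        interval_cases p
        · rfl
        · exact absurd hpP (by norm_num)
      by_contra hlt
      have hI : I < 16 := by omega
      have hd2 : 2 ≤ d := by
        rcases d with _ | _ | d
        · rw [pow_zero] at hd; omega
        · simp at hd1
        · omega
      have hr3 : r < 4 := by
        by_contra h
        have : 4 ^ 2 ≤ r ^ d := (Nat.pow_le_pow_left (not_lt.mp h) 2).trans
          (Nat.pow_le_pow_right hr.pos hd2)
        omega
      have hd3 : d < 4 := by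
        by_contra h
        have : 2 ^ 4 ≤ r ^ d := (Nat.pow_le_pow_left hr.two_le 4).trans
          (Nat.pow_le_pow_right hr.pos (not_lt.mp h))
        omega
      have := hr.two_le
      interval_cases r <;> interval_cases d <;> omega
    · obtain ⟨q, rfl⟩ := Nat.exists_eq_add_of_le hp7
      have hq3 : 7 + q - 4 = q + 3 := by omega
      rw [hq3]
      calc 4 * (7 + q - 1) = 4 * (6 + q) := by rw [show 7 + q - 1 = 6 + q by omega]
        _ ≤ (q + 3) * (7 + q + 1) := by nlinarith
        _ ≤ (q + 3) * I := Nat.mul_le_mul_left _ hge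

end Cfsg.Agent.FixHalfGroup57
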