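import Mathlib
import Cfsg.Agent.Lib.FixHalfGroup57

/-!
Fixed space of a prime order element normally generating a solvable irreducible linear group
(`p ≥ 5`): less than half of the dimension.
-/

set_option autoImplicit false
set_option synthInstance.maxHeartbeats 400000

namespace Cfsg.Agent.FixHalfLinear57

open Module FixHalfGroup57
open scoped commutatorElement

/-- Permuted components: bound on the fixed subspace. -/
theorem orbit_bound {K W : Type*} [Field K] [AddCommGroup W] [Module K W] [FiniteDimensional K W]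
    {A ι : Type*} [Group A] [Finite A] [MulAction A ι] [Finite ι] {p : ℕ} [Fact p.Prime]
    (hA : Nat.card A = p) {a : A} (ha : a ≠ 1) (S : Submodule K W) (P : ι → (W →ₗ[K] W)) {d : ℕ}
    (hd : ∀ i, finrank K (LinearMap.range (P i)) ≤ d)
    (hinj : ∀ w, (∀ i, P i w = 0) → w = 0)
    (hcomp : ∀ w ∈ S, ∀ (g : A) i, P i w = 0 → P (g • i) w = 0) :
    finrank K S * p ≤ d * (Nat.card ι + (p - 1) * Nat.card {i : ι // a • i = i}) := by
  classical
  set Q := MulAction.orbitRel.Quotient A ι
  have := Fintype.ofFinite Q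
  let f : S →ₗ[K] ∀ q : Q, LinearMap.range (P q.out) :=
    LinearMap.pi fun q => (P q.out).rangeRestrict.comp S.subtype
  have hf : Function.Injective f := by
    rw [injective_iff_map_eq_zero]
    intro w hw
    refine Subtype.ext (hinj _ fun i => ?_)
    have h1 : P (Quotient.out (Quotient.mk (MulAction.orbitRel A ι) i)) w = 0 :=
      congrArg Subtype.val (congrFun hw (Quotient.mk (MulAction.orbitRel A ι) i))
    obtain ⟨g, hg⟩ : i ∈ MulAction.orbit A (Quotient.out (Quotient.mk (MulAction.orbitRel A ι) i)) :=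
      MulAction.orbitRel_apply.mp (Quotient.exact (Quotient.out_eq _).symm)
    have := hcomp w w.2 g _ h1
    change P (g • _) (w : W) = 0 at this
    rwa [show g • Quotient.out (Quotient.mk (MulAction.orbitRel A ι) i) = i from hg] at this
  have h2 := LinearMap.finrank_le_finrank_of_injective hf
  rw [Module.finrank_pi_fintype K] at h2
  have h3 := h2.trans (Finset.sum_le_sum fun q _ => hd q.out)
  rw [Finset.sum_const, Finset.card_univ, smul_eq_mul, ← Nat.card_eq_fintype_card] at h3
  rw [← card_orbits_mul hA ha]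
  calc finrank K S * p ≤ Nat.card Q * d * p := Nat.mul_le_mul_right _ h3
    _ = _ := by ring

variable {G : Type*} [Group G] [Finite G] [Group.IsSolvable G] {p : ℕ} [Fact p.Prime]
variable {k V : Type*} [Field k] [AddCommGroup V] [Module k V] [FiniteDimensional k V]
variable (ρ : Representation k G V)

/-- Invariant subspaces are trivial. -/
theorem invariant_cases [ρ.IsIrreducible] (M : Submodule k V)
    (h : ∀ g : G, ∀ v ∈ M, ρ g v ∈ M) : M = ⊥ ∨ M = ⊤ := by
  rcases eq_bot_or_eq_top (⟨M, fun g v hv => h g v hv⟩ : Subrepresentation ρ) with h | h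
  · exact Or.inl (congrArg Subrepresentation.toSubmodule h)
  · exact Or.inr (congrArg Subrepresentation.toSubmodule h)

/-- The algebra generated by a subgroup. -/
abbrev alg (A : Subgroup G) : Subalgebra k (Module.End k V) :=
  Algebra.adjoin k (ρ '' (A : Set G))

theorem conj_mul (g : G) (X Y : Module.End k V) :
    ρ g * (X * Y) * ρ g⁻¹ = (ρ g * X * ρ g⁻¹) * (ρ g * Y * ρ g⁻¹) := by
  have : ρ g⁻¹ * ρ g = 1 := by rw [← map_mul, inv_mul_cancel, map_one]
  simp only [mul_assoc]
  rw [← mul_assoc (ρ g⁻¹) (ρ g), this, one_mul]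

theorem conj_mem {A : Subgroup G} [A.Normal] (g : G) {X : Module.End k V} (hX : X ∈ alg ρ A) :
    ρ g * X * ρ g⁻¹ ∈ alg ρ A := by
  induction hX using Algebra.adjoin_induction with
  | mem X hX =>
    obtain ⟨a, ha, rfl⟩ := hX
    rw [← map_mul, ← map_mul]
    exact Algebra.subset_adjoin ⟨_, Subgroup.Normal.conj_mem' ‹A.Normal› a ha g⁻¹ |> fun h => by
      simpa using h, rfl⟩
  | algebraMap c =>
    rw [← Algebra.commutes c (ρ g), mul_assoc, ← map_mul, mul_inv_cancel, map_one, mul_one]
    exact Subalgebra.algebraMap_mem _ c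
  | add X Y _ _ hX hY => rw [mul_add, add_mul]; exact add_mem hX hY
  | mul X Y _ _ hX hY => rw [conj_mul ρ g]; exact mul_mem hX hY

theorem alg_comm {A : Subgroup G} (hA : ∀ a ∈ A, ∀ b ∈ A, a * b = b * a) :
    ∀ X ∈ alg ρ A, ∀ Y ∈ alg ρ A, X * Y = Y * X := by
  intro X hX Y hY
  refine (Algebra.adjoin_le (S := Subalgebra.centralizer k (alg ρ A : Set (Module.End k V))) ?_ hY)
    X hX
  rintro _ ⟨b, hb, rfl⟩
  rw [SetLike.mem_coe, Subalgebra.mem_centralizer_iff]
  intro X hX
  induction hX using Algebra.adjoin_induction with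
  | mem X hX =>
    obtain ⟨a, ha, rfl⟩ := hX
    rw [← map_mul, ← map_mul, hA a ha b hb]
  | algebraMap c => exact Algebra.commutes c (ρ b)
  | add X Y _ _ h1 h2 => rw [add_mul, mul_add, h1, h2]
  | mul X Y _ _ h1 h2 => rw [mul_assoc, h2, ← mul_assoc, h1, mul_assoc]

/-- A commutative algebra normalized by an irreducible group is reduced. -/
theorem alg_reduced [ρ.IsIrreducible] {A : Subgroup G} [A.Normal]
    (hA : ∀ a ∈ A, ∀ b ∈ A, a * b = b * a) : IsReduced (alg ρ A) := by
  classical
  by_contra hno
  have hex : ∃ X ∈ alg ρ A, IsNilpotent X ∧ X ≠ 0 := by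
    by_contra! hall
    exact hno ⟨fun X ⟨n, hn⟩ => Subtype.ext (hall X X.2 ⟨n, by
      simpa using congrArg Subtype.val hn⟩)⟩
  let P : ℕ → Prop := fun r => ∃ X ∈ alg ρ A, IsNilpotent X ∧ X ≠ 0 ∧
    finrank k (LinearMap.range X) = r
  have hP : ∃ r, P r := by
    obtain ⟨X, h1, h2, h3⟩ := hex
    exact ⟨_, X, h1, h2, h3, rfl⟩
  obtain ⟨X, hXA, hXn, hX0, hXr⟩ := Nat.find_spec hP
  have hkill : ∀ Y ∈ alg ρ A, IsNilpotent Y → Y * X = 0 := by
    intro Y hYA hYn
    by_contra hne
    have hc : Commute Y X := alg_comm ρ hA Y hYA X hXA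
    have hmin : finrank k (LinearMap.range X) ≤ finrank k (LinearMap.range (Y * X)) := by
      rw [hXr]
      exact Nat.find_min' hP ⟨Y * X, mul_mem hYA hXA, hc.isNilpotent_mul_left hXn, hne, rfl⟩
    have hsub : LinearMap.range (Y * X) ≤ LinearMap.range X := by
      rw [hc.eq]; exact LinearMap.range_comp_le_range _ _
    have heq := Submodule.eq_of_le_of_finrank_le hsub hmin
    have hpow : ∀ n : ℕ, LinearMap.range (Y ^ n * X) = LinearMap.range X := by
      intro n
      induction n with
      | zero => rw [pow_zero, one_mul]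
      | succ n ih =>
        rw [pow_succ', mul_assoc, Module.End.mul_eq_comp, LinearMap.range_comp, ih,
          ← LinearMap.range_comp, ← Module.End.mul_eq_comp, heq]
    obtain ⟨n, hn⟩ := hYn
    have := hpow n
    rw [hn, zero_mul, LinearMap.range_zero] at this
    exact hX0 (LinearMap.range_eq_bot.mp this.symm)
  let M : Submodule k V :=
    { carrier := {v | ∀ Y ∈ alg ρ A, IsNilpotent Y → Y v = 0}
      add_mem' := fun ha hb Y h1 h2 => by rw [map_add, ha Y h1 h2, hb Y h1 h2, add_zero]
      zero_mem' := fun Y _ _ => map_zero Y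
      smul_mem' := fun c v hv Y h1 h2 => by rw [map_smul, hv Y h1 h2, smul_zero] }
  rcases invariant_cases ρ M (fun g v hv Y hYA ⟨n, hn⟩ => by
      have h := hv (ρ g⁻¹ * Y * ρ g⁻¹⁻¹) (conj_mem ρ g⁻¹ hYA) ⟨n, by
        have : ∀ m : ℕ, (ρ g⁻¹ * Y * ρ g⁻¹⁻¹) ^ m = ρ g⁻¹ * Y ^ m * ρ g⁻¹⁻¹ := by
          intro m
          induction m with
          | zero => rw [pow_zero, pow_zero, mul_one, ← map_mul, mul_inv_cancel, map_one]
          | succ m ih => rw [pow_succ, ih, pow_succ, ← conj_mul ρ g⁻¹]
        rw [this, hn, mul_zero, zero_mul]⟩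
      rw [inv_inv] at h
      exact (ρ.apply_bijective g⁻¹).1 (h.trans (map_zero _).symm)) with h | h
  · refine hX0 (LinearMap.ext fun v => ?_)
    have : X v ∈ M := fun Y h1 h2 => LinearMap.congr_fun (hkill Y h1 h2) v
    rw [h, Submodule.mem_bot] at this
    exact this
  · exact hX0 (LinearMap.ext fun v => (h ▸ Submodule.mem_top : v ∈ M) X hXA hXn)

variable {ρ}

/-- An abelian normal subgroup: either the bound holds or its algebra is a field. -/
theorem bound_or_field [ρ.IsIrreducible] (hp : 5 ≤ p) {π : G} (hπ : π ^ p = 1) (hπ1 : π ≠ 1)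
    (hgen : Subgroup.normalClosure ({π} : Set G) = ⊤) {A : Subgroup G} [A.Normal]
    (hA : ∀ a ∈ A, ∀ b ∈ A, a * b = b * a) :
    2 * finrank k (LinearMap.ker (ρ π - 1)) < finrank k V ∨
      ∀ X ∈ alg ρ A, X ≠ 0 → ∃ Y ∈ alg ρ A, X * Y = 1 := by
  classical
  have hpP : p.Prime := Fact.out
  letI : CommRing (alg ρ A) :=
    { (inferInstance : Ring (alg ρ A)) with
      mul_comm := fun X Y => Subtype.ext (alg_comm ρ hA X X.2 Y Y.2) }
  haveI := alg_reduced ρ hA
  haveI : FiniteDimensional k (alg ρ A) :=
    FiniteDimensional.finiteDimensional_submodule (Subalgebra.toSubmodule (alg ρ A))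
  haveI : IsArtinianRing (alg ρ A) := IsArtinianRing.of_finite k (alg ρ A)
  let Ω := MaximalSpectrum (alg ρ A)
  haveI := Fintype.ofFinite Ω
  let E := IsArtinianRing.equivPi (alg ρ A)
  have hE : ∀ x I, E x I = Ideal.Quotient.mk _ x := fun x I => by
    have h := E.commutes x
    rw [Algebra.algebraMap_self, RingHom.id_apply] at h
    rw [h]; rfl
  rcases subsingleton_or_nontrivial Ω with hsub | hnt
  · refine Or.inr fun X hX hX0 => ?_
    obtain ⟨I⟩ : Nonempty Ω := by
      by_contra h
      rw [not_nonempty_iff] at h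
      exact hX0 (congrArg Subtype.val (E.injective (funext fun I => isEmptyElim I) :
        (⟨X, hX⟩ : alg ρ A) = 0))
    haveI := I.isMaximal
    have hne : Ideal.Quotient.mk I.asIdeal (⟨X, hX⟩ : alg ρ A) ≠ 0 := by
      intro h
      refine hX0 (congrArg Subtype.val (E.injective (funext fun J => ?_) :
        (⟨X, hX⟩ : alg ρ A) = 0))
      rw [Subsingleton.elim J I, hE, hE, h, map_zero]
    letI := Ideal.Quotient.field I.asIdeal
    obtain ⟨y, hy⟩ := Ideal.Quotient.mk_surjective ((Ideal.Quotient.mk I.asIdeal ⟨X, hX⟩)⁻¹)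
    refine ⟨y, y.2, congrArg Subtype.val (E.injective (funext fun J => ?_) :
      (⟨X, hX⟩ : alg ρ A) * y = 1)⟩
    rw [Subsingleton.elim J I, hE, hE, map_mul, hy, mul_inv_cancel₀ hne, map_one]
  left
  -- idempotents
  let e : Ω → alg ρ A := fun I => E.symm (Pi.single I 1)
  have hee : ∀ I J, Ideal.Quotient.mk J.asIdeal (e I) = (Pi.single I 1 : ∀ J : Ω, _ ⧸ J.asIdeal) J :=
    fun I J => by rw [← hE, AlgEquiv.apply_symm_apply]
  have hext : ∀ x y : alg ρ A, (∀ J : Ω, Ideal.Quotient.mk J.asIdeal x = Ideal.Quotient.mk _ y) →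
      x = y := fun x y h => E.injective (funext fun J => by rw [hE, hE, h J])
  have hidem : ∀ I, e I * e I = e I := fun I => hext _ _ fun J => by
    rw [map_mul, hee]
    by_cases h : J = I
    · subst h; rw [Pi.single_eq_same, mul_one]
    · rw [Pi.single_eq_of_ne h, mul_zero]
  have horth : ∀ I J, I ≠ J → e I * e J = 0 := fun I J hIJ => hext _ _ fun L => by
    rw [map_mul, hee, hee, map_zero]
    by_cases h : L = I
    · subst h; rw [Pi.single_eq_of_ne hIJ, mul_zero]
    · rw [Pi.single_eq_of_ne h, zero_mul]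
  have hsum : ∑ I, e I = 1 := hext _ _ fun J => by
    rw [map_sum, map_one]
    simp only [hee]
    rw [Finset.sum_eq_single J (fun I _ h => Pi.single_eq_of_ne (Ne.symm h) _)
      (fun h => absurd (Finset.mem_univ J) h), Pi.single_eq_same]
  -- the action
  let c : G →* (alg ρ A ≃+* alg ρ A) :=
    { toFun := fun g =>
        { toFun := fun X => ⟨ρ g * X * ρ g⁻¹, conj_mem ρ g X.2⟩
          invFun := fun X => ⟨ρ g⁻¹ * X * ρ g, by simpa using conj_mem ρ g⁻¹ X.2⟩
          left_inv := fun X => Subtype.ext (by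
            have h : ρ g⁻¹ * ρ g = 1 := by rw [← map_mul, inv_mul_cancel, map_one]
            show ρ g⁻¹ * (ρ g * (X : Module.End k V) * ρ g⁻¹) * ρ g = X
            simp only [mul_assoc]
            rw [h, mul_one, ← mul_assoc, h, one_mul])
          right_inv := fun X => Subtype.ext (by
            have h : ρ g * ρ g⁻¹ = 1 := by rw [← map_mul, mul_inv_cancel, map_one]
            show ρ g * (ρ g⁻¹ * (X : Module.End k V) * ρ g) * ρ g⁻¹ = X
            simp only [mul_assoc]
            rw [h, mul_one, ← mul_assoc, h, one_mul])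
          map_mul' := fun X Y => Subtype.ext (conj_mul ρ g X Y)
          map_add' := fun X Y => Subtype.ext (by
            show ρ g * ((X : Module.End k V) + Y) * ρ g⁻¹ = _
            rw [mul_add, add_mul]; rfl) }
      map_one' := RingEquiv.ext fun X => Subtype.ext (by
        show ρ 1 * (X : Module.End k V) * ρ 1⁻¹ = _
        rw [inv_one, map_one, one_mul, mul_one]; rfl)
      map_mul' := fun a b => RingEquiv.ext fun X => Subtype.ext (by
        show ρ (a * b) * (X : Module.End k V) * ρ (a * b)⁻¹ =
          ρ a * (ρ b * (X : Module.End k V) * ρ b⁻¹) * ρ a⁻¹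
        rw [mul_inv_rev, map_mul, map_mul]; simp only [mul_assoc]) }
  letI act : MulAction G Ω :=
    { smul := fun g I => ⟨I.asIdeal.comap (c g⁻¹).toRingHom,
        haveI := I.isMaximal; Ideal.comap_isMaximal_of_surjective _ (c g⁻¹).surjective⟩
      one_smul := fun I => MaximalSpectrum.ext (Ideal.ext fun x => by
        show c 1⁻¹ x ∈ I.asIdeal ↔ _
        rw [inv_one, map_one]; rfl)
      mul_smul := fun a b I => MaximalSpectrum.ext (Ideal.ext fun x => by
        show c (a * b)⁻¹ x ∈ I.asIdeal ↔ c b⁻¹ (c a⁻¹ x) ∈ I.asIdeal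
        rw [mul_inv_rev, map_mul]; rfl) }
  have hmem : ∀ (g : G) (I : Ω) x, x ∈ (g • I).asIdeal ↔ c g⁻¹ x ∈ I.asIdeal := fun _ _ _ => Iff.rfl
  have hce : ∀ (g : G) (I : Ω), c g (e I) = e (g • I) := by
    intro g I
    refine hext _ _ fun J => ?_
    have hJ : g • (g⁻¹ • J) = J := smul_inv_smul g J
    rw [hee]
    by_cases h : J = g • I
    · subst h
      rw [Pi.single_eq_same, ← map_one (Ideal.Quotient.mk _), Ideal.Quotient.eq, hmem, map_sub,
        map_one, show c g⁻¹ (c g (e I)) = (c g⁻¹ * c g) (e I) from rfl, ← map_mul, inv_mul_cancel, map_one]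
      show e I - 1 ∈ I.asIdeal
      rw [← Ideal.Quotient.eq, hee, Pi.single_eq_same, map_one]
    · rw [Pi.single_eq_of_ne h, Ideal.Quotient.eq_zero_iff_mem, ← hJ, hmem, show c g⁻¹ (c g (e I)) = (c g⁻¹ * c g) (e I) from rfl,
        ← map_mul, inv_mul_cancel, map_one]
      show e I ∈ (g⁻¹ • J).asIdeal
      rw [← Ideal.Quotient.eq_zero_iff_mem, hee, Pi.single_eq_of_ne]
      intro h'
      exact h (by rw [← h', hJ])
  have hρe : ∀ (g : G) (I : Ω), ρ g * (e I : Module.End k V) = (e (g • I) : Module.End k V) * ρ g := by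
    intro g I
    rw [← hce g I]
    show _ = ρ g * (e I : Module.End k V) * ρ g⁻¹ * ρ g
    rw [mul_assoc (ρ g * _), ← map_mul, inv_mul_cancel, map_one, mul_one]
  -- ranges
  let U : Ω → Submodule k V := fun I => LinearMap.range (e I : Module.End k V)
  have hUd : ∀ (g : G) (I : Ω), finrank k (U (g • I)) = finrank k (U I) := by
    intro g I
    have hbij : Function.Bijective (ρ g) := ρ.apply_bijective g
    have hmap : (U I).map (ρ g) = U (g • I) := by
      show (LinearMap.range _).map _ = LinearMap.range _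
      rw [← LinearMap.range_comp, ← Module.End.mul_eq_comp, hρe, Module.End.mul_eq_comp,
        LinearMap.range_comp, LinearMap.range_eq_top.mpr hbij.2, Submodule.map_top]
    rw [← hmap]
    exact ((Submodule.equivMapOfInjective _ hbij.1 (U I)).finrank_eq).symm
  have hne : ∀ I, U I ≠ ⊥ := by
    intro I h
    have h0 : e I = 0 := Subtype.ext (LinearMap.range_eq_bot.mp h)
    have := hee I I
    rw [h0, map_zero, Pi.single_eq_same] at this
    haveI := I.isMaximal
    haveI : Nontrivial (alg ρ A ⧸ I.asIdeal) := Ideal.Quotient.nontrivial_iff.mpr I.isMaximal.ne_top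
    exact zero_ne_one (by assumption : (0 : alg ρ A ⧸ I.asIdeal) = 1)
  -- transitivity
  haveI : MulAction.IsPretransitive G Ω := ⟨fun I J => by
    let O : Finset Ω := Finset.univ.filter fun L => L ∈ MulAction.orbit G I
    let f : Module.End k V := ∑ L ∈ O, (e L : Module.End k V)
    have hf : ∀ g, ρ g * f = f * ρ g := by
      intro g
      rw [Finset.mul_sum, Finset.sum_mul]
      refine Finset.sum_equiv (MulAction.toPerm g) (fun L => ?_) fun L _ => hρe g L
      simp only [O, Finset.mem_filter, Finset.mem_univ, true_and, MulAction.toPerm_apply]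
      rw [← MulAction.orbit_eq_iff, ← MulAction.orbit_eq_iff, MulAction.orbit_smul]
    have hfe : f * (e I : Module.End k V) = e I := by
      rw [Finset.sum_mul, Finset.sum_eq_single_of_mem I
        (Finset.mem_filter.mpr ⟨Finset.mem_univ I, MulAction.mem_orbit_self I⟩)
        (fun L _ h => by rw [← Subalgebra.coe_mul, horth L I h]; rfl)]
      exact congrArg Subtype.val (hidem I)
    rcases invariant_cases ρ (LinearMap.range f) (fun g v ⟨w, hw⟩ => ⟨ρ g w, by
      rw [← hw]; exact (LinearMap.congr_fun (hf g) w).symm⟩) with h | h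
    · refine absurd ?_ (hne I)
      show LinearMap.range (e I : Module.End k V) = ⊥
      rw [← hfe, LinearMap.range_eq_bot.mp h, zero_mul, LinearMap.range_zero]
    · by_contra hno
      have hJ : (e J : Module.End k V) * f = 0 := by
        rw [Finset.mul_sum]
        refine Finset.sum_eq_zero fun L hL => congrArg Subtype.val (horth J L ?_)
        rintro rfl
        simp only [O, Finset.mem_filter, Finset.mem_univ, true_and] at hL
        exact hno hL
      refine hne J (eq_bot_iff.mpr ?_)
      rintro _ ⟨v, rfl⟩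
      obtain ⟨w, rfl⟩ := LinearMap.range_eq_top.mp h v
      exact (Submodule.mem_bot k).mpr (LinearMap.congr_fun hJ w)⟩
  obtain ⟨I₀⟩ : Nonempty Ω := inferInstance
  set d := finrank k (U I₀)
  have hdall : ∀ I, finrank k (U I) = d := fun I => by
    obtain ⟨g, rfl⟩ := MulAction.exists_smul_eq G I₀ I
    exact hUd g I₀
  -- dimension
  have happ : ∀ (I J : Ω) (v : V), (e I : Module.End k V) ((e J : Module.End k V) v) =
      ((e I * e J : alg ρ A) : Module.End k V) v := fun _ _ _ => rfl
  have hdim : finrank k V = Nat.card Ω * d := by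
    let Φ : V ≃ₗ[k] ∀ I, U I :=
      LinearEquiv.ofLinear (LinearMap.pi fun I => (e I : Module.End k V).rangeRestrict)
        (∑ I, (U I).subtype ∘ₗ LinearMap.proj I)
        (by
          refine LinearMap.ext fun w => funext fun J => Subtype.ext ?_
          simp only [LinearMap.coe_comp, Function.comp_apply, LinearMap.pi_apply,
            LinearMap.codRestrict_apply, LinearMap.sum_apply, Submodule.coe_subtype,
            LinearMap.proj_apply, map_sum, LinearMap.id_coe, id_eq]
          rw [Finset.sum_eq_single J]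
          · obtain ⟨v, hv⟩ := (w J).2
            show (e J : Module.End k V) (w J : V) = w J
            rw [← hv, happ, hidem]
          · intro I _ hIJ
            obtain ⟨v, hv⟩ := (w I).2
            apply Subtype.ext
            show (e J : Module.End k V) (w I : V) = 0
            rw [← hv, happ, horth J I (Ne.symm hIJ)]
            rfl
          · intro h; exact absurd (Finset.mem_univ J) h)
        (by
          refine LinearMap.ext fun v => ?_
          have := congrArg (fun t : alg ρ A => (t : Module.End k V) v) hsum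
          simpa using this)
    rw [Φ.finrank_eq, Module.finrank_pi_fintype, Finset.sum_congr rfl (fun I _ => hdall I),
      Finset.sum_const, Finset.card_univ, smul_eq_mul, ← Nat.card_eq_fintype_card]
  have hord : orderOf π = p := orderOf_eq_prime hπ hπ1
  have hP : Nat.card (Subgroup.zpowers π) = p := by rw [Nat.card_zpowers, hord]
  set C := LinearMap.ker (ρ π - 1)
  have hb := orbit_bound (K := k) (W := V) (A := Subgroup.zpowers π) (ι := Ω) hP
    (a := ⟨π, Subgroup.mem_zpowers π⟩) (fun h => hπ1 (congrArg Subtype.val h)) C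
    (fun I => (e I : Module.End k V)) (d := d) (fun I => (hdall I).le)
    (fun v hv => by
      have := congrArg (fun t : alg ρ A => (t : Module.End k V) v) hsum
      simp only [AddSubmonoidClass.coe_finsetSum, LinearMap.sum_apply, OneMemClass.coe_one,
        Module.End.one_apply] at this
      rw [← this]
      exact Finset.sum_eq_zero fun I _ => hv I)
    (fun v hv g I hI => by
      obtain ⟨g, hg⟩ := g
      have hgv : ρ g v = v := by
        obtain ⟨n, rfl⟩ := mem_powers_iff_mem_zpowers.mpr hg
        have hπv : ρ π v = v := sub_eq_zero.mp hv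
        induction n with
        | zero => simp
        | succ n ih =>
          simp only [pow_succ, map_mul, Module.End.mul_apply, hπv]
          exact ih (Subgroup.npow_mem_zpowers π n)
      show (e (g • I) : Module.End k V) v = 0
      conv_lhs => rw [← hgv]
      rw [show (e (g • I) : Module.End k V) (ρ g v) = ((e (g • I) : Module.End k V) * ρ g) v from rfl,
        ← hρe, Module.End.mul_apply, hI, map_zero])
  have hF := fixed_transitive hpP (by omega) hπ hgen (X := Ω)
  have hF' : Nat.card {i : Ω // (⟨π, Subgroup.mem_zpowers π⟩ : Subgroup.zpowers π) • i = i} =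
      Nat.card {i : Ω // π • i = i} := rfl
  rw [hF'] at hb
  have hd0 : 0 < d := by
    rcases Nat.eq_zero_or_pos d with h | h
    · exact absurd (Submodule.finrank_eq_zero.mp h) (hne I₀)
    · exact h
  have hN : 0 < Nat.card Ω := Nat.card_pos
  rw [hdim]
  generalize Nat.card {i : Ω // π • i = i} = F at hF hb
  generalize finrank k C = c at hb ⊢
  generalize Nat.card Ω = N at hF hb hN ⊢
  obtain ⟨q, rfl⟩ := Nat.exists_eq_add_of_le hp
  rw [show 5 + q - 1 = 4 + q by omega] at hb
  have h1 : d * ((4 + q) * (3 * F)) ≤ d * ((4 + q) * N) :=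
    Nat.mul_le_mul_left _ (Nat.mul_le_mul_left _ hF)
  have h2 : 0 < d * N := Nat.mul_pos hd0 hN
  nlinarith

/-- The bound. -/
theorem two_mul_fixed_lt [ρ.IsIrreducible] (hp : 5 ≤ p) {π : G} (hπ : π ^ p = 1) (hπ1 : π ≠ 1)
    (hgen : Subgroup.normalClosure ({π} : Set G) = ⊤) (hfaith : Function.Injective ρ) :
    2 * finrank k (LinearMap.ker (ρ π - 1)) < finrank k V := by
  classical
  have hpP : p.Prime := Fact.out
  by_contra hcon
  have hT1 : ρ π ≠ 1 := fun h => hπ1 (hfaith (h.trans (map_one ρ).symm))
  have hnv : 0 < finrank k V := by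
    by_contra h
    have h0 : finrank k V = 0 := by omega
    haveI : Subsingleton V := Module.finrank_zero_iff.mp h0
    exact hT1 (LinearMap.ext fun v => Subsingleton.elim _ _)
  -- `π` is not central
  have hπZ : π ∉ Subgroup.center G := by
    intro h
    rcases invariant_cases ρ (LinearMap.ker (ρ π - 1)) (fun g v hv => by
      have hv' : ρ π v = v := sub_eq_zero.mp hv
      refine sub_eq_zero.mpr ?_
      show ρ π (ρ g v) = ρ g v
      rw [← Module.End.mul_apply, ← map_mul, ← Subgroup.mem_center_iff.mp h g, map_mul,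
        Module.End.mul_apply, hv']) with h0 | h0
    · rw [h0, finrank_bot] at hcon; omega
    · exact hT1 (sub_eq_zero.mp (LinearMap.ker_eq_top.mp h0))
  -- abelian normal subgroups are central
  have hab : ∀ A : Subgroup G, A.Normal → (∀ a ∈ A, ∀ b ∈ A, a * b = b * a) →
      A ≤ Subgroup.center G := by
    intro A hAn hA
    suffices hcomm : ∀ a ∈ A, π * a = a * π by
      intro a ha
      refine Subgroup.mem_center_iff.mpr fun g => ?_
      have hle : (⊤ : Subgroup G) ≤ Subgroup.centralizer (A : Set G) :=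
        hgen ▸ Subgroup.normalClosure_le_normal (Set.singleton_subset_iff.mpr
          (Subgroup.mem_centralizer_iff.mpr fun a ha => (hcomm a ha).symm))
      exact (Subgroup.mem_centralizer_iff.mp (hle (Subgroup.mem_top g)) a ha).symm
    intro a ha
    by_contra hne
    have hfield := (bound_or_field (ρ := ρ) hp hπ hπ1 hgen hA).resolve_left hcon
    set C := LinearMap.ker (ρ π - 1)
    apply hcon
    -- distinct conjugates of `ρ a`
    set b : ℕ → Module.End k V := fun i => ρ (π ^ i * a * (π ^ i)⁻¹)
    have hbA : ∀ i, b i ∈ alg ρ A := fun i =>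
      Algebra.subset_adjoin ⟨_, hAn.conj_mem a ha _, rfl⟩
    have hbinj : ∀ i j : ℕ, i < j → j < p → b i ≠ b j := by
      intro i j hij hjp h
      have h' := hfaith h
      obtain ⟨m, rfl⟩ := Nat.exists_eq_add_of_le hij.le
      have hm : π ^ m * a * (π ^ m)⁻¹ = a := by
        have := congrArg (fun t => (π ^ i)⁻¹ * t * π ^ i) h'
        simp only [pow_add, mul_inv_rev, mul_assoc, inv_mul_cancel_left, inv_mul_cancel,
          mul_one] at this
        simpa [mul_assoc] using this.symm
      have hmc : Commute (π ^ m) a := mul_inv_eq_iff_eq_mul.mp hm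
      have hord : orderOf π = p := orderOf_eq_prime hπ hπ1
      obtain ⟨t, ht⟩ := exists_pow_eq_self_of_coprime (x := π) (n := m) (by
        rw [hord]
        exact (Nat.coprime_comm.mp ((Nat.Prime.coprime_iff_not_dvd hpP).mpr
          (Nat.not_dvd_of_pos_of_lt (by omega) (by omega)))))
      exact hne (ht ▸ hmc.pow_left t).eq
    -- Vandermonde
    letI : CommRing (alg ρ A) :=
      { (inferInstance : Ring (alg ρ A)) with
        mul_comm := fun X Y => Subtype.ext (alg_comm ρ hA X X.2 Y Y.2) }
    haveI : IsDomain (alg ρ A) := by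
      haveI : Nontrivial (alg ρ A) := ⟨⟨1, 0, fun h => by
        have h' : (1 : Module.End k V) = 0 := congrArg Subtype.val h
        exact hT1 (by rw [← mul_one (ρ π), h', mul_zero])⟩⟩
      haveI : NoZeroDivisors (alg ρ A) := ⟨fun {X Y} h => or_iff_not_imp_left.mpr fun hX => by
        obtain ⟨Z, hZ, hXZ⟩ := hfield X X.2 fun h0 => hX (Subtype.ext h0)
        have h1 : X * ⟨Z, hZ⟩ = 1 := Subtype.ext hXZ
        rw [← one_mul Y, ← h1, mul_comm X, mul_assoc, h, mul_zero]⟩
      exact NoZeroDivisors.to_isDomain _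
    let f : Fin p → alg ρ A := fun i => ⟨b i, hbA i⟩
    have hf : Function.Injective f := by
      intro i j h
      have h' : b i = b j := congrArg Subtype.val h
      rcases lt_trichotomy (i : ℕ) j with hl | hl | hl
      · exact absurd h' (hbinj i j hl j.2)
      · exact Fin.ext hl
      · exact absurd h'.symm (hbinj j i hl i.2)
    let Φ : (Fin p → C) →ₗ[k] V :=
      ∑ j : Fin p, ((f ⟨0, hpP.pos⟩ : Module.End k V) ^ (j : ℕ)) ∘ₗ C.subtype ∘ₗ LinearMap.proj j
    have hΦ : Function.Injective Φ := by
      rw [injective_iff_map_eq_zero]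
      intro w hw
      let M : Matrix (Fin p) (Fin p) (alg ρ A) := Matrix.vandermonde f
      have hzero : ∀ i : Fin p, ∑ j : Fin p, ((M i j : alg ρ A) : Module.End k V) (w j : V) = 0 := by
        intro i
        have hfix : ∀ (n : ℕ) (v : C), ρ (π ^ n) (v : V) = v := by
          intro n v
          induction n with
          | zero => simp
          | succ n ih =>
            rw [pow_succ, map_mul, Module.End.mul_apply, show ρ π (v : V) = v from sub_eq_zero.mp v.2, ih]
        have hconj : ∀ (j : ℕ) (v : C), (b i ^ j) (v : V) = ρ (π ^ (i : ℕ)) ((ρ a ^ j) (v : V)) := by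
          intro j v
          have : b i ^ j = ρ (π ^ (i : ℕ)) * ρ a ^ j * ρ (π ^ (i : ℕ))⁻¹ := by
            simp only [b]
            rw [← map_pow, conj_pow, map_mul, map_mul, map_pow ρ a j]
          rw [this, Module.End.mul_apply, Module.End.mul_apply]
          congr 2
          conv_lhs => rw [← hfix i v]
          rw [← Module.End.mul_apply (ρ _) (ρ _), ← map_mul, inv_mul_cancel, map_one, Module.End.one_apply]
        have hb0 : b 0 = ρ a := by simp [b]
        have hw' : ∑ j : Fin p, (ρ a ^ (j : ℕ)) (w j : V) = 0 := by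
          have : ∑ j : Fin p, (b 0 ^ (j : ℕ)) (w j : V) = 0 := by
            simpa [Φ, f, LinearMap.sum_apply] using hw
          rwa [hb0] at this
        calc ∑ j : Fin p, ((M i j : alg ρ A) : Module.End k V) (w j : V)
            = ∑ j : Fin p, ρ (π ^ (i : ℕ)) ((ρ a ^ (j : ℕ)) (w j : V)) := by
              refine Finset.sum_congr rfl fun j _ => ?_
              rw [← hconj]
              simp [M, f, Matrix.vandermonde_apply]
          _ = 0 := by rw [← map_sum, hw', map_zero]
      funext l
      have hdet : M.det ≠ 0 := Matrix.det_vandermonde_ne_zero_iff.mpr hf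
      obtain ⟨Z, hZ, hdZ⟩ := hfield (M.det : alg ρ A) (M.det).2 fun h => hdet (Subtype.ext h)
      have hdet0 : ((M.det : alg ρ A) : Module.End k V) (w l : V) = 0 := by
        have key : ∑ i : Fin p, ((M.adjugate l i : alg ρ A) : Module.End k V)
            (∑ j : Fin p, ((M i j : alg ρ A) : Module.End k V) (w j : V)) =
              ((M.det : alg ρ A) : Module.End k V) (w l : V) := by
          simp only [map_sum]
          rw [Finset.sum_comm]
          have hprod : ∀ j, ∑ i : Fin p, M.adjugate l i * M i j = if l = j then M.det else 0 := by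
            intro j
            have := congrFun (congrFun (Matrix.adjugate_mul M) l) j
            rw [Matrix.mul_apply] at this
            rw [this, Matrix.smul_apply, Matrix.one_apply, smul_eq_mul, mul_ite, mul_one, mul_zero]
          have : ∀ j, ∑ i : Fin p, ((M.adjugate l i : alg ρ A) : Module.End k V)
              (((M i j : alg ρ A) : Module.End k V) (w j : V)) =
              (((if l = j then M.det else 0) : alg ρ A) : Module.End k V) (w j : V) := by
            intro j
            rw [← hprod j, AddSubmonoidClass.coe_finsetSum, LinearMap.sum_apply]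
            rfl
          simp only [this]
          rw [Finset.sum_eq_single l (fun j _ hj => by rw [if_neg (Ne.symm hj)]; rfl)
            (fun h => absurd (Finset.mem_univ l) h), if_pos rfl]
        rw [← key]
        exact Finset.sum_eq_zero fun i _ => by rw [hzero i, map_zero]
      apply Subtype.ext
      have hc : Z * ((M.det : alg ρ A) : Module.End k V) = 1 := by
        rw [← alg_comm ρ hA _ (M.det).2 Z hZ]; exact hdZ
      calc (w l : V) = (Z * ((M.det : alg ρ A) : Module.End k V)) (w l : V) := by rw [hc]; rfl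
        _ = 0 := by rw [Module.End.mul_apply, hdet0, map_zero]
    have h := LinearMap.finrank_le_finrank_of_injective hΦ
    rw [Module.finrank_pi_fintype, Finset.sum_const, Finset.card_univ, Fintype.card_fin,
      smul_eq_mul] at h
    nlinarith
  -- the central field
  set Z := Subgroup.center G
  have hZc : ∀ a ∈ Z, ∀ b ∈ Z, a * b = b * a := fun a _ b hb => Subgroup.mem_center_iff.mp hb a
  have hfield := (bound_or_field (ρ := ρ) hp hπ hπ1 hgen hZc).resolve_left hcon
  have hKc : ∀ X ∈ alg ρ Z, ∀ g : G, ρ g * X = X * ρ g := by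
    intro X hX g
    induction hX using Algebra.adjoin_induction with
    | mem X hX =>
      obtain ⟨z, hz, rfl⟩ := hX
      rw [← map_mul, ← map_mul, Subgroup.mem_center_iff.mp hz g]
    | algebraMap c => exact (Algebra.commutes c (ρ g)).symm
    | add X Y _ _ h1 h2 => rw [mul_add, add_mul, h1, h2]
    | mul X Y _ _ h1 h2 => rw [← mul_assoc, h1, mul_assoc, h2, mul_assoc]
  letI cr : CommRing (alg ρ Z) :=
    { (inferInstance : Ring (alg ρ Z)) with
      mul_comm := fun X Y => Subtype.ext (alg_comm ρ hZc X X.2 Y Y.2) }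
  have hKfield : IsField (alg ρ Z) :=
    ⟨⟨1, 0, fun h => hT1 (by
        have h' : (1 : Module.End k V) = 0 := congrArg Subtype.val h
        rw [← mul_one (ρ π), h', mul_zero])⟩,
      fun X Y => Subtype.ext (alg_comm ρ hZc X X.2 Y Y.2),
      fun {X} hX => by
        obtain ⟨Y, hY, h⟩ := hfield X X.2 fun h => hX (Subtype.ext h)
        exact ⟨⟨Y, hY⟩, Subtype.ext h⟩⟩
  letI : Field (alg ρ Z) := hKfield.toField
  let T : G →* Module.End (alg ρ Z) V :=
    { toFun := fun g =>
        { toFun := ρ g
          map_add' := map_add _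
          map_smul' := fun X v => LinearMap.congr_fun (hKc X X.2 g) v }
      map_one' := LinearMap.ext fun v => LinearMap.congr_fun (map_one ρ) v
      map_mul' := fun a b => LinearMap.ext fun v => LinearMap.congr_fun (map_mul ρ a b) v }
  haveI : FiniteDimensional (alg ρ Z) V := Module.Finite.right k (alg ρ Z) V
  set n := finrank (alg ρ Z) V
  set C := LinearMap.ker (T π - 1)
  set c := finrank (alg ρ Z) C
  have hCk : C.restrictScalars k = LinearMap.ker (ρ π - 1) := by ext v; rfl
  have hconK : n ≤ 2 * c := by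
    have e1 := Module.finrank_mul_finrank k (alg ρ Z) V
    have e2 := Module.finrank_mul_finrank k (alg ρ Z) C
    have e3 : finrank k C = finrank k (LinearMap.ker (ρ π - 1)) := by
      rw [← hCk]; rfl
    rw [e3] at e2
    rw [← e1, ← e2] at hcon
    by_contra hlt
    apply hcon
    have hK0 : 0 < finrank k (alg ρ Z) := by
      rcases Nat.eq_zero_or_pos (finrank k (alg ρ Z)) with h | h
      · rw [← e1, h, zero_mul] at hnv; omega
      · exact h
    calc 2 * (finrank k (alg ρ Z) * c) = finrank k (alg ρ Z) * (2 * c) := by ring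
      _ < finrank k (alg ρ Z) * n := Nat.mul_lt_mul_of_pos_left (not_le.mp hlt) hK0
  obtain ⟨W, r, I, hWn, hr, hWc, hWr, hnd, hFI, hI1, hineq⟩ :=
    exists_data hp hπ hgen hπZ hab
  haveI := hWn
  haveI : Fact r.Prime := ⟨hr⟩
  -- scalars
  have hzmem : ∀ z ∈ Z, ρ z ∈ alg ρ Z := fun z hz => Algebra.subset_adjoin ⟨z, hz, rfl⟩
  let sc : Z →* alg ρ Z :=
    { toFun := fun z => ⟨ρ (z : G), hzmem z z.2⟩
      map_one' := Subtype.ext (map_one ρ)
      map_mul' := fun a b => Subtype.ext (map_mul ρ (a : G) (b : G)) }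
  have hscinj : Function.Injective sc := fun a b h =>
    Subtype.ext (hfaith (congrArg Subtype.val h))
  have hsc : ∀ z : Z, T (z : G) = sc z • (1 : Module.End (alg ρ Z) V) := fun z => LinearMap.ext fun v => rfl
  -- lifts and the pairing
  let s : W → G := fun w => Quotient.out (w : G ⧸ Z)
  have hs : ∀ w : W, (s w : G ⧸ Z) = w := fun w => QuotientGroup.out_eq' _
  have hbr : ∀ x y : G, (x : G ⧸ Z) ∈ W → (y : G ⧸ Z) ∈ W → ⁅x, y⁆ ∈ Z := by
    intro x y hx hy
    rw [← QuotientGroup.eq_one_iff]
    show QuotientGroup.mk' Z _ = 1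
    rw [map_commutatorElement, commutatorElement_eq_one_iff_mul_comm]
    exact hWc _ hx _ hy
  have hzl : ∀ (x y z : G), z ∈ Z → ⁅x * z, y⁆ = ⁅x, y⁆ ∧ ⁅x, y * z⁆ = ⁅x, y⁆ := by
    intro x y z hz
    have h1 : ∀ g, g * z = z * g := Subgroup.mem_center_iff.mp hz
    constructor
    · simp only [commutatorElement_def, mul_inv_rev]
      calc x * z * y * (z⁻¹ * x⁻¹) * y⁻¹ = x * (z * y) * z⁻¹ * x⁻¹ * y⁻¹ := by group
        _ = x * (y * z) * z⁻¹ * x⁻¹ * y⁻¹ := by rw [h1 y]
        _ = _ := by group
    · simp only [commutatorElement_def, mul_inv_rev]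
      calc x * (y * z) * x⁻¹ * (z⁻¹ * y⁻¹) = x * y * (z * x⁻¹) * z⁻¹ * y⁻¹ := by group
        _ = x * y * (x⁻¹ * z) * z⁻¹ * y⁻¹ := by rw [h1 x⁻¹]
        _ = _ := by group
  let β : W → W → Z := fun a b => ⟨⁅s a, s b⁆, hbr _ _ (by rw [hs]; exact a.2) (by rw [hs]; exact b.2)⟩
  have hβ : ∀ (x y : G) (hx : (x : G ⧸ Z) ∈ W) (hy : (y : G ⧸ Z) ∈ W),
      (β ⟨_, hx⟩ ⟨_, hy⟩ : G) = ⁅x, y⁆ := by
    intro x y hx hy
    show ⁅s ⟨_, hx⟩, s ⟨_, hy⟩⁆ = _
    obtain ⟨z, hz⟩ := QuotientGroup.mk_out_eq_mul Z x
    obtain ⟨z', hz'⟩ := QuotientGroup.mk_out_eq_mul Z y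
    show ⁅Quotient.out (x : G ⧸ Z), Quotient.out (y : G ⧸ Z)⁆ = _
    rw [hz, hz', (hzl x (y * z') z z.2).1, (hzl x y z' z'.2).2]
  have hβl : ∀ a a' b, β (a * a') b = β a b * β a' b := by
    intro a a' b
    apply Subtype.ext
    have ha : ((s a * s a' : G) : G ⧸ Z) = ((a * a' : W) : G ⧸ Z) := by
      rw [QuotientGroup.mk_mul, hs, hs]; rfl
    have h := hβ (s a * s a') (s b) (by rw [ha]; exact (a * a').2) (by rw [hs]; exact b.2)
    simp only [ha, hs, Subtype.coe_eta] at h
    rw [h, Subgroup.coe_mul]
    have hc := Subgroup.mem_center_iff.mp (β a' b).2 (s a)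
    calc ⁅s a * s a', s b⁆ = s a * ⁅s a', s b⁆ * (s a)⁻¹ * ⁅s a, s b⁆ := by
          simp only [commutatorElement_def, mul_inv_rev]; group
      _ = (β a' b : G) * ⁅s a, s b⁆ := by
          show s a * (β a' b : G) * (s a)⁻¹ * _ = _
          rw [hc, mul_inv_cancel_right]
      _ = (β a b : G) * β a' b := (Subgroup.mem_center_iff.mp (β a' b).2 _).symm
  have hβswap : ∀ a b, β b a = (β a b)⁻¹ := fun a b => Subtype.ext (by
    show ⁅s b, s a⁆ = ⁅s a, s b⁆⁻¹; rw [commutatorElement_inv])
  have hβr : ∀ a b b', β a (b * b') = β a b * β a b' := by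
    intro a b b'
    rw [hβswap (b * b') a, hβl, mul_inv_rev, ← hβswap, ← hβswap]
    exact Subtype.ext (Subgroup.mem_center_iff.mp (β a b).2 _)
  have hβ1r : ∀ a, β a 1 = 1 := fun a => by
    have h := hβr a 1 1
    rw [one_mul] at h
    exact left_eq_mul.mp h
  have hβ1l : ∀ a, β 1 a = 1 := fun a => by rw [hβswap a 1, hβ1r, inv_one]
  let ζl : W → (W →* alg ρ Z) := fun a =>
    { toFun := fun b => sc (β a b)
      map_one' := by rw [hβ1r, map_one]
      map_mul' := fun b b' => by rw [hβr, map_mul] }
  have hζswap : ∀ a b, sc (β a b) * sc (β b a) = 1 := fun a b => by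
    rw [← map_mul, hβswap a b, mul_inv_cancel, map_one]
  have hζne : ∀ a : W, a ≠ 1 → ∃ b, sc (β a b) ≠ 1 := by
    intro a ha
    by_contra! hall
    refine ha (Subtype.ext ?_)
    rw [← hs a]
    refine (QuotientGroup.eq_one_iff _).mpr (hnd (s a) (by rw [hs]; exact a.2) fun y hy => ?_)
    rw [← commutatorElement_eq_one_iff_mul_comm]
    have h := hβ (s a) y (by rw [hs]; exact a.2) hy
    simp only [hs, Subtype.coe_eta] at h
    rw [← h]
    exact congrArg Subtype.val (hscinj ((hall _).trans (map_one sc).symm))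
  haveI := Fintype.ofFinite W
  have hsum_char : ∀ (χ : W →* alg ρ Z), χ ≠ 1 → ∑ a, χ a = 0 := by
    intro χ hχ
    obtain ⟨u, hu⟩ : ∃ u, χ u ≠ 1 := by
      by_contra! h
      exact hχ (MonoidHom.ext h)
    have h : χ u * ∑ a, χ a = ∑ a, χ a := by
      rw [Finset.mul_sum]
      exact Fintype.sum_equiv (Equiv.mulLeft u) _ _ fun a => by simp
    have h' : (χ u - 1) * ∑ a, χ a = 0 := by rw [sub_mul, h, one_mul, sub_self]
    exact (mul_eq_zero.mp h').resolve_left (sub_ne_zero.mpr hu)
  have hN0 : (Fintype.card W : alg ρ Z) ≠ 0 := by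
    obtain ⟨a, ha⟩ : ∃ a : W, a ≠ 1 := by
      by_contra! h
      have h1 : Nat.card W = 1 := Nat.card_eq_one_iff_unique.mpr
        ⟨⟨fun a b => (h a).trans (h b).symm⟩, ⟨1⟩⟩
      rw [h1] at hFI
      exact absurd (Nat.eq_one_of_mul_eq_one_left hFI) hI1.ne'
    obtain ⟨b, hb⟩ := hζne a ha
    have hpg : IsPGroup r W := fun x => ⟨1, Subtype.ext (by simpa using hWr x x.2)⟩
    obtain ⟨e, he⟩ := IsPGroup.iff_card.mp hpg
    rw [← Nat.card_eq_fintype_card, he, Nat.cast_pow]
    refine pow_ne_zero _ fun h0 => hb ?_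
    haveI : CharP (alg ρ Z) r := by
      refine (CharP.charP_iff_prime_eq_zero hr).mpr h0
    have hpow : sc (β a b) ^ r = 1 := by
      have h2 : (ζl a) (b ^ r) = (ζl a) b ^ r := map_pow _ _ _
      have hb1 : b ^ r = 1 := Subtype.ext (by simpa using hWr b b.2)
      rw [hb1, map_one] at h2
      exact h2.symm
    have : (sc (β a b) - 1) ^ r = 0 := by rw [sub_pow_char, hpow, one_pow, sub_self]
    exact sub_eq_zero.mp (pow_eq_zero_iff hr.ne_zero |>.mp this)
  -- conjugation on endomorphisms
  let cj : G → Module.End (alg ρ Z) V →ₗ[alg ρ Z] Module.End (alg ρ Z) V := fun g =>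
    LinearMap.mulLeftRight (alg ρ Z) (T g, T g⁻¹)
  have hcj : ∀ g X, cj g X = T g * X * T g⁻¹ := fun g X => rfl
  have hcjm : ∀ g h X, cj (g * h) X = cj g (cj h X) := fun g h X => by
    simp only [hcj, mul_inv_rev, map_mul, mul_assoc]
  have hcjz : ∀ (z : G), z ∈ Z → ∀ X, cj z X = X := by
    intro z hz X
    rw [hcj, hsc ⟨z, hz⟩, hsc ⟨z⁻¹, inv_mem hz⟩, smul_mul_assoc, one_mul, smul_mul_smul_comm,
      mul_one, ← map_mul, show (⟨z, hz⟩ : Z) * ⟨z⁻¹, inv_mem hz⟩ = 1 from
        Subtype.ext (mul_inv_cancel z), map_one, one_smul]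
  have hcjrep : ∀ (x : G) (hx : (x : G ⧸ Z) ∈ W) X, cj (s ⟨_, hx⟩) X = cj x X := by
    intro x hx X
    obtain ⟨z, hz⟩ := QuotientGroup.mk_out_eq_mul Z x
    show cj (Quotient.out (x : G ⧸ Z)) X = _
    rw [hz, hcjm, hcjz z z.2]
  -- eigen projections
  let P : W → Module.End (alg ρ Z) V →ₗ[alg ρ Z] Module.End (alg ρ Z) V :=
    fun b => ∑ a : W, sc (β b a) • cj (s a)
  have hPapp : ∀ b X, P b X = ∑ a : W, sc (β b a) • cj (s a) X := fun b X => by
    simp [P, LinearMap.sum_apply]
  have hsa : ∀ (a a' : W) X, cj (s a) (cj (s a') X) = cj (s (a * a')) X := by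
    intro a a' X
    rw [← hcjm]
    have h : ((s a * s a' : G) : G ⧸ Z) = ((a * a' : W) : G ⧸ Z) := by
      rw [QuotientGroup.mk_mul, hs, hs]; rfl
    have := hcjrep (s a * s a') (by rw [h]; exact (a * a').2) X
    simp only [h, Subtype.coe_eta] at this
    exact this.symm
  let Eig : W → Submodule (alg ρ Z) (Module.End (alg ρ Z) V) := fun b =>
    ⨅ a : W, LinearMap.ker (cj (s a) - sc (β a b) • LinearMap.id)
  have hEig : ∀ b X, X ∈ Eig b ↔ ∀ a, cj (s a) X = sc (β a b) • X := fun b X => by
    simp [Eig, sub_eq_zero]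
  have hPmem : ∀ b X, P b X ∈ Eig b := by
    intro b X
    rw [hEig]
    intro a'
    rw [hPapp, map_sum, Finset.smul_sum]
    simp only [map_smul, hsa, smul_smul]
    refine Fintype.sum_equiv (Equiv.mulLeft a') _ _ fun a => ?_
    rw [Equiv.coe_mulLeft, hβr, map_mul, ← mul_assoc, hζswap, one_mul]
  have hPsum : ∀ X, ∑ b, P b X = (Fintype.card W : alg ρ Z) • X := by
    intro X
    simp only [hPapp]
    rw [Finset.sum_comm, Finset.sum_eq_single (1 : W)]
    · have h1 : ∀ b : W, sc (β b 1) = 1 := fun b => by rw [hβ1r, map_one]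
      have hc1 : cj (s 1) X = X := hcjz _ ((QuotientGroup.eq_one_iff _).mp (hs 1)) X
      simp only [h1, hc1, one_smul, Finset.sum_const, Finset.card_univ, Nat.cast_smul_eq_nsmul]
    · intro a _ ha
      rw [← Finset.sum_smul]
      let χ : W →* alg ρ Z :=
        { toFun := fun b => sc (β b a)
          map_one' := by rw [hβ1l, map_one]
          map_mul' := fun b b' => by rw [hβl, map_mul] }
      have hχ : χ ≠ 1 := fun h => by
        obtain ⟨b, hb⟩ := hζne a ha
        have := DFunLike.congr_fun h b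
        change sc (β b a) = 1 at this
        have h2 := hζswap a b
        rw [this, mul_one] at h2
        exact hb h2
      rw [show (∑ b, sc (β b a)) = ∑ b, χ b from rfl, hsum_char χ hχ, zero_smul]
    · intro h; exact absurd (Finset.mem_univ _) h
  have hPeig : ∀ b b' Y, Y ∈ Eig b' → P b Y = if b = b' then (Fintype.card W : alg ρ Z) • Y else 0 := by
    intro b b' Y hY
    rw [hPapp]
    simp only [(hEig b' Y).mp hY, smul_smul]
    rw [← Finset.sum_smul]
    split_ifs with h
    · subst h
      simp only [hζswap, Finset.sum_const, Finset.card_univ, nsmul_one]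
    · let χ : W →* alg ρ Z :=
        { toFun := fun a => sc (β b a) * sc (β a b')
          map_one' := by rw [hβ1r, hβ1l, map_one, one_mul]
          map_mul' := fun a a' => by rw [hβr, hβl, map_mul, map_mul]; ring }
      have hχ : χ ≠ 1 := fun h1 => by
        obtain ⟨a, ha⟩ := hζne (b * b'⁻¹) fun e => h (mul_inv_eq_one.mp e)
        have h2 := DFunLike.congr_fun h1 a
        change sc (β b a) * sc (β a b') = 1 at h2
        apply ha
        have h3 : sc (β (b * b'⁻¹) a) * sc (β b' a) = sc (β b a) := by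
          rw [← map_mul, ← hβl, inv_mul_cancel_right]
        have h4 := hζswap b' a
        calc sc (β (b * b'⁻¹) a) = sc (β (b * b'⁻¹) a) * (sc (β b' a) * sc (β a b')) := by
              rw [h4, mul_one]
          _ = 1 := by rw [← mul_assoc, h3, h2]
      rw [show (∑ a, sc (β b a) * sc (β a b')) = ∑ a, χ a from rfl, hsum_char χ hχ, zero_smul]
  -- all eigenspaces have the same dimension
  have hTinv : ∀ g, T g⁻¹ * T g = 1 := fun g => by rw [← map_mul, inv_mul_cancel, map_one]
  have hTinv' : ∀ g, T g * T g⁻¹ = 1 := fun g => by rw [← map_mul, mul_inv_cancel, map_one]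
  have hshift : ∀ (b b' : W) Y, Y ∈ Eig b' → T (s b) * Y ∈ Eig (b * b') := by
    intro b b' Y hY
    rw [hEig]
    intro a
    rw [hcj]
    have e : T (s a) * (T (s b) * Y) * T (s a)⁻¹ = T ⁅s a, s b⁆ * T (s b) * cj (s a) Y := by
      rw [hcj, commutatorElement_def]
      simp only [map_mul, mul_assoc]
      rw [← mul_assoc (T (s b)⁻¹) (T (s b)), hTinv, one_mul,
        ← mul_assoc (T (s a)⁻¹) (T (s a)), hTinv, one_mul]
    rw [e, (hEig b' Y).mp hY a, show T ⁅s a, s b⁆ = sc (β a b) • 1 from hsc (β a b),
      smul_mul_assoc, one_mul, smul_mul_smul_comm, hβr, map_mul]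
  set D := finrank (alg ρ Z) (Eig 1)
  have hD : ∀ b, finrank (alg ρ Z) (Eig b) = D := by
    intro b
    have key : ∀ b b' : W, finrank (alg ρ Z) (Eig b') ≤ finrank (alg ρ Z) (Eig (b * b')) := by
      intro b b'
      refine LinearMap.finrank_le_finrank_of_injective (f := (LinearMap.mulLeft (alg ρ Z) (T (s b))).restrict
        (fun Y hY => hshift b b' Y hY)) ?_
      intro X Y h
      apply Subtype.ext
      have h' : T (s b) * (X : Module.End (alg ρ Z) V) = T (s b) * Y := congrArg Subtype.val h
      rw [← one_mul (X : Module.End (alg ρ Z) V), ← hTinv (s b), mul_assoc, h', ← mul_assoc,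
        hTinv, one_mul]
    refine le_antisymm ?_ ?_
    · have h := key b⁻¹ b
      rwa [inv_mul_cancel] at h
    · have h := key b 1
      rwa [mul_one] at h
  have hND : Nat.card W * D = n ^ 2 := by
    let Φ : Module.End (alg ρ Z) V ≃ₗ[alg ρ Z] ∀ b, Eig b :=
      LinearEquiv.ofBijective (LinearMap.pi fun b => (P b).codRestrict (Eig b) (hPmem b)) (by
        constructor
        · rw [injective_iff_map_eq_zero]
          intro X hX
          have h := hPsum X
          have hX' : ∀ b, P b X = 0 := fun b => congrArg Subtype.val (congrFun hX b)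
          rw [Finset.sum_eq_zero (fun b _ => hX' b)] at h
          exact (smul_eq_zero.mp h.symm).resolve_left hN0
        · intro w
          refine ⟨(Fintype.card W : alg ρ Z)⁻¹ • ∑ b, (w b : Module.End (alg ρ Z) V),
            funext fun b => Subtype.ext ?_⟩
          show P b _ = _
          rw [map_smul, map_sum, Finset.sum_eq_single b]
          · rw [hPeig b b _ (w b).2, if_pos rfl, inv_smul_smul₀ hN0]
          · intro b' _ hb'
            rw [hPeig b b' _ (w b').2, if_neg (Ne.symm hb')]
          · intro h; exact absurd (Finset.mem_univ b) h)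
    have h := Φ.finrank_eq
    rw [Module.finrank_linearMap, Module.finrank_pi_fintype,
      Finset.sum_congr rfl (fun b _ => hD b), Finset.sum_const, Finset.card_univ, smul_eq_mul,
      ← Nat.card_eq_fintype_card] at h
    rw [← h]
    exact (sq n).symm
  -- the fixed endomorphisms
  let S : Submodule (alg ρ Z) (Module.End (alg ρ Z) V) := LinearMap.ker (cj π - LinearMap.id)
  have hlow : c * c + 1 ≤ finrank (alg ρ Z) S := by
    set R := LinearMap.range (T π - 1)
    let ι : ((V ⧸ R) →ₗ[alg ρ Z] C) →ₗ[alg ρ Z] Module.End (alg ρ Z) V :=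
      { toFun := fun φ => C.subtype ∘ₗ φ ∘ₗ R.mkQ
        map_add' := fun φ ψ => LinearMap.ext fun v => rfl
        map_smul' := fun a φ => LinearMap.ext fun v => rfl }
    have hι : Function.Injective ι := fun φ ψ h => Submodule.linearMap_qext R (LinearMap.ext fun v =>
      Subtype.ext (LinearMap.congr_fun h v))
    have hkill : ∀ φ, (T π - 1) * ι φ = 0 ∧ ι φ * (T π - 1) = 0 := by
      refine fun φ => ⟨LinearMap.ext fun v => (φ (R.mkQ v)).2, LinearMap.ext fun v => ?_⟩
      show ((φ (R.mkQ ((T π - 1) v)) : C) : V) = 0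
      rw [show R.mkQ ((T π - 1) v) = 0 from
        (Submodule.Quotient.mk_eq_zero R).mpr (LinearMap.mem_range_self _ v), map_zero]
      rfl
    have h1not : (1 : Module.End (alg ρ Z) V) ∉ LinearMap.range ι := by
      rintro ⟨φ, hφ⟩
      have h := (hkill φ).1
      rw [hφ, mul_one] at h
      refine hT1 (LinearMap.ext fun v => ?_)
      exact sub_eq_zero.mp (LinearMap.congr_fun h v)
    have hle : LinearMap.range ι ⊔ Submodule.span (alg ρ Z) {(1 : Module.End (alg ρ Z) V)} ≤ S := by
      refine sup_le ?_ ((Submodule.span_singleton_le_iff_mem _ _).mpr ?_)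
      · rintro _ ⟨φ, rfl⟩
        show cj π (ι φ) - ι φ = 0
        obtain ⟨h1, h2⟩ := hkill φ
        rw [sub_mul, one_mul, sub_eq_zero] at h1
        rw [mul_sub, mul_one, sub_eq_zero] at h2
        rw [hcj, h1]
        conv_lhs => arg 1; rw [← h2, mul_assoc, hTinv', mul_one]
        exact sub_self _
      · show cj π 1 - 1 = 0
        rw [hcj, mul_one, hTinv', sub_self]
    have hdisj : Disjoint (LinearMap.range ι) (Submodule.span (alg ρ Z) {(1 : Module.End (alg ρ Z) V)}) :=
      (Submodule.disjoint_span_singleton' (by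
        intro h
        exact hT1 (LinearMap.ext fun v => by
          have h' : (v : V) = 0 := LinearMap.congr_fun h v
          rw [h', map_zero, map_zero]))).mpr h1not
    have h := Submodule.finrank_mono hle
    have h2 := Submodule.finrank_sup_add_finrank_inf_eq (LinearMap.range ι)
      (Submodule.span (alg ρ Z) {(1 : Module.End (alg ρ Z) V)})
    rw [hdisj.eq_bot, finrank_bot, add_zero, LinearMap.finrank_range_of_inj hι,
      Module.finrank_linearMap, finrank_span_singleton (by
        intro h
        exact hT1 (LinearMap.ext fun v => by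
          have h' : (v : V) = 0 := LinearMap.congr_fun h v
          rw [h', map_zero, map_zero]))] at h2
    have h3 := Submodule.finrank_quotient_add_finrank R
    have h4 := LinearMap.finrank_range_add_finrank_ker (T π - 1)
    have h5 : finrank (alg ρ Z) (V ⧸ R) = c := by
      have hc : finrank (alg ρ Z) (LinearMap.ker (T π - 1)) = c := rfl
      have hR : finrank (alg ρ Z) (LinearMap.range (T π - 1)) = finrank (alg ρ Z) R := rfl
      rw [hc, hR] at h4
      omega
    rw [h5] at h2
    have hc : finrank (alg ρ Z) C = c := rfl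
    rw [hc] at h2
    omega
  -- action on W
  let act : MulAction (Subgroup.zpowers π) W :=
    MulAction.compHom _ ((MulAut.conjNormal (H := W)).comp
      ((QuotientGroup.mk' Z).comp (Subgroup.zpowers π).subtype))
  have hact : ∀ (g : Subgroup.zpowers π) (b : W),
      ((g • b : W) : G ⧸ Z) = (g : G) * (b : G ⧸ Z) * ((g : G) : G ⧸ Z)⁻¹ := fun g b => rfl
  have hord : orderOf π = p := orderOf_eq_prime hπ hπ1
  have hb := orbit_bound (K := alg ρ Z) (W := Module.End (alg ρ Z) V) (A := Subgroup.zpowers π)
    (ι := W) (by rw [Nat.card_zpowers, hord]) (a := ⟨π, Subgroup.mem_zpowers π⟩)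
    (fun h => hπ1 (congrArg Subtype.val h)) S P (d := D)
    (fun b => (Submodule.finrank_mono (by rintro _ ⟨X, rfl⟩; exact hPmem b X)).trans_eq (hD b))
    (fun X hX => by
      have h := hPsum X
      rw [Finset.sum_eq_zero (fun b _ => hX b)] at h
      exact (smul_eq_zero.mp h.symm).resolve_left hN0)
    (fun X hX g b hb => by
      have hgX : cj (g : G) X = X := by
        obtain ⟨m, hm⟩ := mem_powers_iff_mem_zpowers.mpr g.2
        simp only at hm
        rw [← hm]
        clear hm
        induction m with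
        | zero => rw [pow_zero]; exact hcjz 1 (one_mem _) X
        | succ m ih => rw [pow_succ, hcjm, show cj π X = X from sub_eq_zero.mp hX, ih]
      have key : P (g • b) X = cj (g : G) (P b X) := by
        rw [hPapp, hPapp, map_sum]
        refine (Fintype.sum_equiv (MulAction.toPerm g) _ _ fun a => ?_).symm
        rw [map_smul, MulAction.toPerm_apply]
        have hcl : ∀ c : W, (((g : G) * s c * (g : G)⁻¹ : G) : G ⧸ Z) = ((g • c : W) : G ⧸ Z) :=
          fun c => by rw [hact]; simp only [QuotientGroup.mk_mul, QuotientGroup.mk_inv, hs]; rfl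
        have hm : ∀ c : W, (((g : G) * s c * (g : G)⁻¹ : G) : G ⧸ Z) ∈ W := fun c => by
          rw [hcl]; exact (g • c).2
        have hh := hcjrep _ (hm a) X
        simp only [hcl, Subtype.coe_eta] at hh
        have hbβ := hβ _ _ (hm b) (hm a)
        simp only [hcl, Subtype.coe_eta] at hbβ
        have hbb : β (g • b) (g • a) = β b a := Subtype.ext (by
          rw [hbβ, ← conjugate_commutatorElement]
          show (g : G) * (β b a : G) * (g : G)⁻¹ = β b a
          rw [Subgroup.mem_center_iff.mp (β b a).2 (g : G), mul_inv_cancel_right])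
        have e : cj (g : G)⁻¹ X = X := by
          conv_lhs => rw [← hgX]
          rw [← hcjm, inv_mul_cancel]
          exact hcjz 1 (one_mem _) X
        rw [hbb, hh, hcjm, hcjm, e]
      rw [key, hb, map_zero])
  have hF' : Nat.card {b : W // (⟨π, Subgroup.mem_zpowers π⟩ : Subgroup.zpowers π) • b = b} =
      Nat.card ↥(W ⊓ Subgroup.centralizer ({(π : G ⧸ Z)} : Set (G ⧸ Z))) := by
    refine Nat.card_congr ⟨fun b => ⟨b.1, b.1.2, ?_⟩, fun b => ⟨⟨b.1, b.2.1⟩, ?_⟩,
      fun b => rfl, fun b => rfl⟩
    · have h := congrArg Subtype.val b.2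
      rw [hact] at h
      exact Subgroup.mem_centralizer_singleton_iff.mpr (mul_inv_eq_iff_eq_mul.mp h).symm
    · apply Subtype.ext
      rw [hact]
      exact mul_inv_eq_iff_eq_mul.mpr (Subgroup.mem_centralizer_singleton_iff.mp b.2.2).symm
  rw [hF'] at hb
  generalize Nat.card ↥(W ⊓ Subgroup.centralizer ({(π : G ⧸ Z)} : Set (G ⧸ Z))) = F at hb hFI
  rw [← hFI] at hb hND
  obtain ⟨q, rfl⟩ := Nat.exists_eq_add_of_le hp
  rw [show 5 + q - 1 = 4 + q by omega] at hb hineq
  rw [show 5 + q - 4 = 1 + q by omega] at hineq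
  have h1 : (c * c + 1) * (5 + q) ≤ D * (F * I + (4 + q) * F) :=
    (Nat.mul_le_mul_right _ hlow).trans hb
  have h2 : D * F * (4 * (4 + q)) ≤ D * F * ((1 + q) * I) := Nat.mul_le_mul_left _ hineq
  have h3 : n ^ 2 ≤ (2 * c) ^ 2 := Nat.pow_le_pow_left hconK 2
  nlinarith

end Cfsg.Agent.FixHalfLinear57
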