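import Mathlib

/-!
A nilpotent operator with a cyclic vector and its flag; averaging over cosets; and the criterion
making a hyperplane invariant under a whole group.
-/

set_option autoImplicit false
set_option linter.unusedSectionVars false

namespace Cfsg.Agent.FlagRep1

variable {p : ℕ} [hp : Fact p.Prime]

theorem sub_one_pow_pred {R : Type*} [Ring R] [CharP R p] (x : R) :
    (x - 1) ^ (p - 1) = ∑ i : Fin p, x ^ (i : ℕ) := by
  have hp' := hp.out
  have h : ((Polynomial.X : Polynomial (ZMod p)) - 1) ^ (p - 1) =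
      ∑ i : Fin p, (Polynomial.X : Polynomial (ZMod p)) ^ (i : ℕ) := by
    have hne : (Polynomial.X : Polynomial (ZMod p)) - 1 ≠ 0 := by
      rw [← Polynomial.C_1]; exact Polynomial.X_sub_C_ne_zero 1
    refine mul_left_cancel₀ hne ?_
    rw [← pow_succ', Nat.sub_add_cancel hp'.one_le, sub_pow_char, one_pow,
      Fin.sum_univ_eq_sum_range (fun i => (Polynomial.X : Polynomial (ZMod p)) ^ i), mul_geom_sum]
  set φ := Polynomial.eval₂RingHom' (ZMod.castHom dvd_rfl R) x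
    (fun a => by rw [ZMod.castHom_apply, ← ZMod.natCast_val]; exact Nat.cast_commute _ _)
  have hX : φ Polynomial.X = x := Polynomial.eval₂_X _ _
  have := congrArg φ h
  rw [map_pow, map_sub, hX, map_one, map_sum] at this
  simpa only [map_pow, hX] using this

section Flag

variable {V : Type*} [AddCommGroup V] [Module (ZMod p) V]

/-- A nilpotent operator of index `d` with a cyclic vector. -/
structure IsCyc (J : Module.End (ZMod p) V) (v0 : V) (d : ℕ) : Prop where
  zero : J ^ d = 0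
  top : (J ^ (d - 1)) v0 ≠ 0
  span : ∀ v : V, ∃ c : ℕ → ZMod p, v = ∑ k ∈ Finset.range d, c k • (J ^ k) v0

/-- The flag. -/
def Vk (J : Module.End (ZMod p) V) (k : ℕ) : Submodule (ZMod p) V := LinearMap.range (J ^ k)

variable {J : Module.End (ZMod p) V} {v0 : V} {d : ℕ}

theorem pow_apply_add (a b : ℕ) (v : V) : (J ^ (a + b)) v = (J ^ a) ((J ^ b) v) := by
  rw [pow_add, Module.End.mul_apply]

theorem Vk_zero : Vk J 0 = ⊤ := by
  rw [Vk, pow_zero]; exact LinearMap.range_eq_top.2 fun v => ⟨v, rfl⟩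

theorem mem_Vk_zero (v : V) : v ∈ Vk J 0 := by rw [Vk_zero]; exact Submodule.mem_top

theorem Vk_anti {a b : ℕ} (h : a ≤ b) : Vk J b ≤ Vk J a := by
  rintro _ ⟨v, rfl⟩
  exact ⟨(J ^ (b - a)) v, by rw [← pow_apply_add, Nat.add_sub_cancel' h]⟩

theorem pow_mem (k : ℕ) (v : V) : (J ^ k) v ∈ Vk J k := ⟨v, rfl⟩

theorem pow_mem_add {j : ℕ} (k : ℕ) {v : V} (hv : v ∈ Vk J j) : (J ^ k) v ∈ Vk J (k + j) := by
  obtain ⟨w, rfl⟩ := hv
  exact ⟨w, pow_apply_add k j w⟩

theorem J_mem {j : ℕ} {v : V} (hv : v ∈ Vk J j) : J v ∈ Vk J (j + 1) := by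
  have := pow_mem_add 1 hv
  rwa [pow_one, add_comm] at this

theorem eq_zero_of_mem (hJ : IsCyc J v0 d) {k : ℕ} (hk : d ≤ k) {v : V} (hv : v ∈ Vk J k) :
    v = 0 := by
  obtain ⟨w, hw⟩ := Vk_anti hk hv
  rw [← hw, hJ.zero, LinearMap.zero_apply]

theorem top_notMem (hJ : IsCyc J v0 d) {k : ℕ} (hk : k < d) : (J ^ k) v0 ∉ Vk J (k + 1) := by
  intro h
  obtain ⟨w, hw⟩ := h
  refine hJ.top ?_
  rw [show d - 1 = (d - 1 - k) + k by omega, pow_apply_add, ← hw, ← pow_apply_add,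
    show d - 1 - k + (k + 1) = d by omega, hJ.zero, LinearMap.zero_apply]

theorem coeff_zero (hJ : IsCyc J v0 d) {k : ℕ} (hk : k < d) {c : ZMod p}
    (h : c • (J ^ k) v0 ∈ Vk J (k + 1)) : c = 0 := by
  by_contra hc
  refine top_notMem hJ hk ?_
  have := Submodule.smul_mem _ c⁻¹ h
  rwa [smul_smul, inv_mul_cancel₀ hc, one_smul] at this

theorem coeff_unique (hJ : IsCyc J v0 d) {k : ℕ} (hk : k < d) {a b : ZMod p} {v : V}
    (ha : v - a • (J ^ k) v0 ∈ Vk J (k + 1)) (hb : v - b • (J ^ k) v0 ∈ Vk J (k + 1)) : a = b := by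
  have := Submodule.sub_mem _ hb ha
  rw [show v - b • (J ^ k) v0 - (v - a • (J ^ k) v0) = (a - b) • (J ^ k) v0 by
    rw [sub_smul]; abel] at this
  exact sub_eq_zero.1 (coeff_zero hJ hk this)

theorem decomp (hJ : IsCyc J v0 d) {k : ℕ} {v : V} (hv : v ∈ Vk J k) :
    ∃ c : ZMod p, v - c • (J ^ k) v0 ∈ Vk J (k + 1) := by
  obtain ⟨w, rfl⟩ := hv
  obtain ⟨c, hc⟩ := hJ.span w
  refine ⟨c 0, ?_⟩
  rcases Nat.eq_zero_or_pos d with h0 | h0
  · rw [hc, h0]
    have hz : ∀ u : V, u = 0 := fun u => by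
      have h := LinearMap.congr_fun hJ.zero u
      rw [h0, pow_zero] at h
      exact h
    rw [hz v0]
    simp
  obtain ⟨m, rfl⟩ : ∃ m, d = m + 1 := ⟨d - 1, by omega⟩
  rw [hc, Finset.sum_range_succ', pow_zero, Module.End.one_apply, map_add, map_smul,
    add_sub_cancel_right, map_sum]
  refine Submodule.sum_mem _ fun i _ => ?_
  rw [map_smul]
  refine Submodule.smul_mem _ _ ?_
  rw [← pow_apply_add]
  exact Vk_anti (by omega) (pow_mem _ v0)

/-- Downward induction along the flag. -/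
theorem flag_induction (hJ : IsCyc J v0 d) {P : ℕ → V → Prop} (h0 : ∀ k, d ≤ k → P k 0)
    (hstep : ∀ k, k < d → ∀ v ∈ Vk J k, (∀ w ∈ Vk J (k + 1), P (k + 1) w) → P k v) :
    ∀ k, ∀ v ∈ Vk J k, P k v := by
  have key : ∀ e k, d ≤ k + e → ∀ v ∈ Vk J k, P k v := by
    intro e
    induction e with
    | zero =>
      intro k hk v hv
      rw [eq_zero_of_mem hJ (by omega) hv]
      exact h0 k (by omega)
    | succ e ih =>
      intro k hk v hv
      by_cases hkd : d ≤ k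
      · rw [eq_zero_of_mem hJ hkd hv]; exact h0 k hkd
      exact hstep k (by omega) v hv fun w hw => ih (k + 1) (by omega) w hw
  exact fun k => key d k (by omega)

theorem ext_of_commute (hJ : IsCyc J v0 d) {f g : Module.End (ZMod p) V} (hf : Commute f J)
    (hg : Commute g J) (h : f v0 = g v0) : f = g := by
  refine LinearMap.ext fun v => ?_
  obtain ⟨c, rfl⟩ := hJ.span v
  rw [map_sum, map_sum]
  refine Finset.sum_congr rfl fun k _ => ?_
  rw [map_smul, map_smul, ← Module.End.mul_apply f, ← Module.End.mul_apply g,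
    (hf.pow_right k).eq, (hg.pow_right k).eq, Module.End.mul_apply, Module.End.mul_apply, h]

theorem exists_poly (hJ : IsCyc J v0 d) (u : V) :
    ∃ c : ℕ → ZMod p, (∑ k ∈ Finset.range d, c k • J ^ k) v0 = u := by
  obtain ⟨c, hc⟩ := hJ.span u
  exact ⟨c, by rw [hc, LinearMap.sum_apply]; rfl⟩

theorem commute_sum (J' : Module.End (ZMod p) V) (h : Commute J' J) (c : ℕ → ZMod p) :
    Commute J' (∑ k ∈ Finset.range d, c k • J ^ k) :=
  Commute.sum_right _ _ _ fun _ _ => (h.pow_right _).smul_right _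

theorem commute_of_commute_J (hJ : IsCyc J v0 d) {f g : Module.End (ZMod p) V} (hf : Commute f J)
    (hg : Commute g J) : Commute f g := by
  obtain ⟨c, hc⟩ := exists_poly hJ (g v0)
  rw [ext_of_commute hJ hg (commute_sum J (Commute.refl J) c).symm hc.symm]
  exact commute_sum f hf c

/-- An operator commuting with `J` of exact shift `s`. -/
theorem exact_apply (hJ : IsCyc J v0 d) {Y : Module.End (ZMod p) V} (hY : Commute Y J) {s : ℕ}
    {c : ZMod p} (h : Y v0 - c • (J ^ s) v0 ∈ Vk J (s + 1)) (k : ℕ) :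
    Y ((J ^ k) v0) - c • (J ^ (k + s)) v0 ∈ Vk J (k + s + 1) := by
  rw [← Module.End.mul_apply Y, (hY.pow_right k).eq, Module.End.mul_apply, pow_apply_add k s,
    ← map_smul, ← map_sub]
  exact Vk_anti (by omega) (pow_mem_add k h)

theorem commute_apply_mem {Y : Module.End (ZMod p) V} (hY : Commute Y J) {s : ℕ}
    (h : Y v0 ∈ Vk J s) (hJ : IsCyc J v0 d) {k : ℕ} {v : V} (hv : v ∈ Vk J k) :
    Y v ∈ Vk J (k + s) := by
  obtain ⟨w, rfl⟩ := hv
  rw [← Module.End.mul_apply Y, (hY.pow_right k).eq, Module.End.mul_apply]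
  refine pow_mem_add k ?_
  obtain ⟨c, rfl⟩ := hJ.span w
  rw [map_sum]
  refine Submodule.sum_mem _ fun i _ => ?_
  rw [map_smul, ← Module.End.mul_apply Y, (hY.pow_right i).eq, Module.End.mul_apply]
  exact Submodule.smul_mem _ _ (Vk_anti (by omega) (pow_mem_add i h))

theorem range_of_exact (hJ : IsCyc J v0 d) {Y : Module.End (ZMod p) V} (hY : Commute Y J) {s : ℕ}
    {c : ZMod p} (hc : c ≠ 0) (h : Y v0 - c • (J ^ s) v0 ∈ Vk J (s + 1)) (k : ℕ) {v : V}
    (hv : v ∈ Vk J (k + s)) : ∃ w ∈ Vk J k, Y w = v := by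
  revert v
  suffices H : ∀ k' v, v ∈ Vk J k' → ∀ k, k' = k + s → ∃ w ∈ Vk J k, Y w = v from
    fun v hv => H _ v hv k rfl
  intro k'
  refine flag_induction hJ (P := fun k' v => ∀ k, k' = k + s → ∃ w ∈ Vk J k, Y w = v) ?_ ?_ k'
  · exact fun _ _ k _ => ⟨0, Submodule.zero_mem _, map_zero Y⟩
  · intro k' hk' v hv ih k hk
    subst hk
    obtain ⟨a, ha⟩ := decomp hJ hv
    set w1 := (a * c⁻¹) • (J ^ k) v0
    have h1 : v - Y w1 ∈ Vk J (k + s + 1) := by
      have h2 := Submodule.smul_mem _ (a * c⁻¹) (exact_apply hJ hY h k)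
      rw [smul_sub, smul_smul, mul_assoc, inv_mul_cancel₀ hc, mul_one, ← map_smul] at h2
      have := Submodule.sub_mem _ ha h2
      rwa [sub_sub_sub_cancel_right] at this
    obtain ⟨w, hw, hwv⟩ := ih _ h1 (k + 1) (by omega)
    exact ⟨w + w1, Submodule.add_mem _ (Vk_anti (by omega) hw)
      (Submodule.smul_mem _ _ (pow_mem k v0)), by rw [map_add, hwv, sub_add_cancel]⟩

theorem ker_of_exact (hJ : IsCyc J v0 d) {Y : Module.End (ZMod p) V} (hY : Commute Y J) {s : ℕ}
    {c : ZMod p} (hc : c ≠ 0) (h : Y v0 - c • (J ^ s) v0 ∈ Vk J (s + 1)) {v : V} (hv : Y v = 0) :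
    v ∈ Vk J (d - s) := by
  have key : ∀ k, k ≤ d - s → v ∈ Vk J k := by
    intro k
    induction k with
    | zero => exact fun _ => mem_Vk_zero v
    | succ k ih =>
      intro hk
      obtain ⟨a, ha⟩ := decomp hJ (ih (by omega))
      have hY0 : Y v0 ∈ Vk J s := by
        have := Submodule.add_mem _ (Vk_anti (show s ≤ s + 1 by omega) h)
          (Submodule.smul_mem _ c (pow_mem s v0))
        rwa [sub_add_cancel] at this
      have h1 := commute_apply_mem hY hY0 hJ ha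
      rw [map_sub, map_smul, hv, zero_sub, neg_mem_iff] at h1
      have h2 := Submodule.smul_mem _ a (exact_apply hJ hY h k)
      rw [smul_sub, smul_smul] at h2
      have h3 := Submodule.sub_mem _ (Vk_anti (show k + s + 1 ≤ k + 1 + s by omega) h1) h2
      rw [sub_sub_cancel] at h3
      have ha0 : a = 0 := (mul_eq_zero.1 (coeff_zero hJ (by omega) h3)).resolve_right hc
      rwa [ha0, zero_smul, sub_zero] at ha
  exact key _ le_rfl

/-- The coefficient of the cyclic vector. -/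
noncomputable def topCoeff (hJ : IsCyc J v0 d) (hd : 0 < d) : V →ₗ[ZMod p] ZMod p where
  toFun v := (decomp hJ (mem_Vk_zero v)).choose
  map_add' a b := by
    refine coeff_unique hJ hd (decomp hJ (mem_Vk_zero (a + b))).choose_spec ?_
    have := Submodule.add_mem _ (decomp hJ (mem_Vk_zero a)).choose_spec
      (decomp hJ (mem_Vk_zero b)).choose_spec
    rwa [show ∀ x y z w : V, x - z + (y - w) = x + y - (z + w) from fun _ _ _ _ => by abel,
      ← add_smul] at this
  map_smul' r a := by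
    refine coeff_unique hJ hd (decomp hJ (mem_Vk_zero (r • a))).choose_spec ?_
    have := Submodule.smul_mem _ r (decomp hJ (mem_Vk_zero a)).choose_spec
    rwa [smul_sub, smul_smul] at this

theorem topCoeff_spec (hJ : IsCyc J v0 d) (hd : 0 < d) (v : V) :
    v - topCoeff hJ hd v • v0 ∈ Vk J 1 := by
  have := (decomp hJ (mem_Vk_zero v)).choose_spec
  simp only [pow_zero, Module.End.one_apply] at this
  exact this

theorem topCoeff_eq (hJ : IsCyc J v0 d) (hd : 0 < d) {v : V} {c : ZMod p}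
    (h : v - c • v0 ∈ Vk J 1) : topCoeff hJ hd v = c :=
  coeff_unique hJ hd (k := 0) (v := v)
    (by rw [pow_zero, Module.End.one_apply]; exact topCoeff_spec hJ hd v)
    (by rw [pow_zero, Module.End.one_apply]; exact h)

theorem topCoeff_eq_zero (hJ : IsCyc J v0 d) (hd : 0 < d) {v : V} :
    topCoeff hJ hd v = 0 ↔ v ∈ Vk J 1 := by
  refine ⟨fun h => ?_, fun h => topCoeff_eq hJ hd (by rwa [zero_smul, sub_zero])⟩
  have := topCoeff_spec hJ hd v
  rwa [h, zero_smul, sub_zero] at this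

end Flag

section Cosets

variable {G : Type*} [Group G] [Finite G] {W : Type*} [AddCommGroup W]

/-- The orbit sum over cosets. -/
noncomputable def cosetSum (σ : G →* AddMonoid.End W) (B : Subgroup G) (f : W)
    (hf : ∀ b ∈ B, σ b f = f) : W :=
  letI := Fintype.ofFinite (G ⧸ B)
  ∑ q : G ⧸ B, Quotient.liftOn' q (fun g => σ g f) fun a b h => by
    have hb := hf _ (QuotientGroup.leftRel_apply.1 h)
    show σ a f = σ b f
    conv_rhs => rw [← mul_inv_cancel_left a b, map_mul]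
    exact (congrArg (σ a) hb).symm

theorem cosetSum_fixed (σ : G →* AddMonoid.End W) (B : Subgroup G) (f : W)
    (hf : ∀ b ∈ B, σ b f = f) (g : G) : σ g (cosetSum σ B f hf) = cosetSum σ B f hf := by
  letI := Fintype.ofFinite (G ⧸ B)
  rw [cosetSum, map_sum]
  refine Fintype.sum_equiv (MulAction.toPerm g) _ _ fun q => ?_
  induction q using QuotientGroup.induction_on with
  | _ a =>
    show σ g (σ a f) = σ (g * a) f
    rw [map_mul]
    rfl

/-- If the orbit sums of a subgroup acting freely off the base coset vanish, `f` is fixed by all. -/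
theorem fixed_of_orbit_sums (σ : G →* AddMonoid.End W) (U B : Subgroup G) (hUB : U ≤ B) (f : W)
    (hf : ∀ b ∈ B, σ b f = f) (hfree : ∀ g, g ∉ B → ∀ u ∈ U, g⁻¹ * u * g ∈ B → u = 1)
    [Fintype U] (hsum : ∀ g, ∑ u : U, σ ((u : G) * g) f = 0) (g : G) : σ g f = f := by
  classical
  letI := Fintype.ofFinite (G ⧸ B)
  let φ : G ⧸ B → W := fun q => Quotient.liftOn' q (fun g => σ g f) fun a b h => by
    have hb := hf _ (QuotientGroup.leftRel_apply.1 h)
    show σ a f = σ b f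
    conv_rhs => rw [← mul_inv_cancel_left a b, map_mul]
    exact (congrArg (σ a) hb).symm
  have hF : cosetSum σ B f hf = ∑ q : G ⧸ B, φ q := rfl
  have hbase : φ ((1 : G) : G ⧸ B) = f := by
    show σ 1 f = f
    rw [map_one]; rfl
  suffices h : cosetSum σ B f hf = f by
    have := cosetSum_fixed σ B f hf g
    rwa [h] at this
  rw [hF, Finset.sum_eq_add_sum_sdiff_singleton_of_mem (Finset.mem_univ ((1 : G) : G ⧸ B)), hbase]
  refine add_eq_left.2 ?_
  let π : G ⧸ B → Quotient (MulAction.orbitRel U (G ⧸ B)) := Quotient.mk''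
  rw [← Finset.sum_fiberwise_of_maps_to (g := π) (t := Finset.univ) fun _ _ => Finset.mem_univ _]
  refine Finset.sum_eq_zero fun o _ => ?_
  by_cases hne : ((Finset.univ \ {((1 : G) : G ⧸ B)}).filter fun q => π q = o).Nonempty
  swap
  · rw [Finset.not_nonempty_iff_eq_empty.1 hne, Finset.sum_empty]
  obtain ⟨q, hq⟩ := hne
  rw [Finset.mem_filter, Finset.mem_sdiff, Finset.mem_singleton] at hq
  obtain ⟨a, rfl⟩ := QuotientGroup.mk_surjective q
  have ha : a ∉ B := fun h => hq.1.2 (QuotientGroup.eq.2 (by simpa using inv_mem h))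
  have himg : ((Finset.univ \ {((1 : G) : G ⧸ B)}).filter fun r => π r = o) =
      Finset.univ.image fun u : U => (((u : G) * a : G) : G ⧸ B) := by
    ext r
    rw [Finset.mem_filter, Finset.mem_sdiff, Finset.mem_singleton, Finset.mem_image]
    refine ⟨fun hr => ?_, fun ⟨u, _, hu⟩ => ?_⟩
    · obtain ⟨u, hu⟩ := MulAction.orbitRel_apply.1 (Quotient.exact' (hr.2.trans hq.2.symm))
      exact ⟨u, Finset.mem_univ _, hu⟩
    · refine ⟨⟨Finset.mem_univ _, fun h => ha ?_⟩, ?_⟩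
      · rw [← hu] at h
        have h' := QuotientGroup.eq.1 h
        rw [mul_one] at h'
        have := mul_mem (inv_mem (hUB u.2)) (inv_mem h')
        simpa using this
      · rw [← hq.2, ← hu]
        exact Quotient.sound' ⟨u, rfl⟩
  rw [himg, Finset.sum_image]
  · exact hsum a
  · intro u _ w _ h
    have h' := QuotientGroup.eq.1 h
    have h1 : a⁻¹ * ((u : G)⁻¹ * w) * a ∈ B := by simpa [mul_assoc] using h'
    exact Subtype.ext (inv_mul_eq_one.1 (hfree a ha _ (mul_mem (inv_mem u.2) w.2) h1))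

end Cosets

section Rep

variable {G : Type*} [Group G] {V : Type*} [AddCommGroup V] [Module (ZMod p) V]

/-- Conjugation on endomorphisms. -/
def conjEnd (ρ : G →* Module.End (ZMod p) V) :
    G →* Module.End (ZMod p) (Module.End (ZMod p) V) where
  toFun g :=
    { toFun := fun X => ρ g * X * ρ g⁻¹
      map_add' := fun X X' => by rw [mul_add, add_mul]
      map_smul' := fun r X => by rw [RingHom.id_apply, mul_smul_comm, smul_mul_assoc] }
  map_one' := LinearMap.ext fun X => by simp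
  map_mul' a b := LinearMap.ext fun X => by
    show ρ (a * b) * X * ρ (a * b)⁻¹ = ρ a * (ρ b * X * ρ b⁻¹) * ρ a⁻¹
    rw [mul_inv_rev, map_mul, map_mul]
    simp only [mul_assoc]

/-- The twisted action on maps from `V` to its endomorphisms. -/
def homRep (ρ : G →* Module.End (ZMod p) V) (χ : G →* (ZMod p)ˣ) :
    G →* AddMonoid.End (V →ₗ[ZMod p] Module.End (ZMod p) V) where
  toFun g :=
    { toFun := fun f => ((χ g⁻¹ : (ZMod p)ˣ) : ZMod p) • (conjEnd ρ g).comp (f.comp (ρ g⁻¹))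
      map_zero' := by rw [LinearMap.zero_comp, LinearMap.comp_zero, smul_zero]
      map_add' := fun f f' => by
        rw [LinearMap.add_comp, LinearMap.comp_add, smul_add] }
  map_one' := AddMonoidHom.ext fun f => by
    show ((χ (1 : G)⁻¹ : (ZMod p)ˣ) : ZMod p) • (conjEnd ρ 1).comp (f.comp (ρ (1 : G)⁻¹)) = f
    rw [inv_one, map_one, map_one, map_one, Units.val_one, one_smul]
    rfl
  map_mul' a b := AddMonoidHom.ext fun f => by
    show ((χ (a * b)⁻¹ : (ZMod p)ˣ) : ZMod p) • (conjEnd ρ (a * b)).comp (f.comp (ρ (a * b)⁻¹)) =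
      ((χ a⁻¹ : (ZMod p)ˣ) : ZMod p) • (conjEnd ρ a).comp
        ((((χ b⁻¹ : (ZMod p)ˣ) : ZMod p) • (conjEnd ρ b).comp (f.comp (ρ b⁻¹))).comp (ρ a⁻¹))
    rw [mul_inv_rev, map_mul χ, map_mul ρ, map_mul (conjEnd ρ), LinearMap.smul_comp,
      LinearMap.comp_smul, smul_smul, Units.val_mul, mul_comm]
    rfl

theorem homRep_apply (ρ : G →* Module.End (ZMod p) V) (χ : G →* (ZMod p)ˣ) (g : G)
    (f : V →ₗ[ZMod p] Module.End (ZMod p) V) (v : V) :
    homRep ρ χ g f v = ((χ g⁻¹ : (ZMod p)ˣ) : ZMod p) • (ρ g * f (ρ g⁻¹ v) * ρ g⁻¹) := rfl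

variable {J : Module.End (ZMod p) V} {v0 : V} {d : ℕ}

/-- A transformation moves the flag by `r`. -/
def Moves (J : Module.End (ZMod p) V) (X : Module.End (ZMod p) V) (r : ℕ) : Prop :=
  ∀ j, ∀ v ∈ Vk J j, X v - v ∈ Vk J (j + r)

theorem Moves.mem {X : Module.End (ZMod p) V} {r : ℕ} (h : Moves J X r) {j : ℕ} {v : V}
    (hv : v ∈ Vk J j) : X v ∈ Vk J j := by
  have := Submodule.add_mem _ (Vk_anti (show j ≤ j + r by omega) (h j v hv)) hv
  rwa [sub_add_cancel] at this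

/-- The filtration on maps from `V` to its endomorphisms. -/
def InFil (J : Module.End (ZMod p) V) (d k : ℕ) (f : V →ₗ[ZMod p] Module.End (ZMod p) V) : Prop :=
  ∀ j, ∀ v ∈ Vk J j, ∀ i, ∀ w ∈ Vk J i, f v w ∈ Vk J (i + (j + k - (d - 1)) - (d - 1))

theorem inFil_zero (hJ : IsCyc J v0 d) (f : V →ₗ[ZMod p] Module.End (ZMod p) V) :
    InFil J d 0 f := by
  intro j v hv i w hw
  by_cases hj : d ≤ j
  · rw [eq_zero_of_mem hJ hj hv, map_zero, LinearMap.zero_apply]
    exact Submodule.zero_mem _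
  by_cases hi : d ≤ i
  · rw [eq_zero_of_mem hJ hi hw, map_zero]
    exact Submodule.zero_mem _
  rw [show i + (j + 0 - (d - 1)) - (d - 1) = 0 by omega]
  exact mem_Vk_zero _

theorem eq_zero_of_inFil (hJ : IsCyc J v0 d) {k : ℕ} (hk : 3 * (d - 1) + 1 ≤ k)
    {f : V →ₗ[ZMod p] Module.End (ZMod p) V} (h : InFil J d k f) : f = 0 :=
  LinearMap.ext fun v => LinearMap.ext fun w =>
    eq_zero_of_mem hJ (by omega) (h 0 v (mem_Vk_zero v) 0 w (mem_Vk_zero w))

theorem inFil_step (ρ : G →* Module.End (ZMod p) V) (χ : G →* (ZMod p)ˣ) {t : G} {r : ℕ}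
    (hχ : χ t = 1) (h1 : Moves J (ρ t) r) (h2 : Moves J (ρ t⁻¹) r) {k : ℕ}
    {f : V →ₗ[ZMod p] Module.End (ZMod p) V} (h : InFil J d k f) :
    InFil J d (k + r) (homRep ρ χ t f - f) := by
  intro j v hv i w hw
  rw [LinearMap.sub_apply, LinearMap.sub_apply, homRep_apply, map_inv, hχ, inv_one, Units.val_one,
    one_smul]
  show ρ t (f (ρ t⁻¹ v) (ρ t⁻¹ w)) - f v w ∈ _
  set a := ρ t⁻¹ v with ha
  set b := ρ t⁻¹ w with hb
  have haj : a ∈ Vk J j := h2.mem hv
  have hbi : b ∈ Vk J i := h2.mem hw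
  have e : ρ t (f a b) - f v w = (ρ t (f a b) - f a b) + f (a - v) b + f v (b - w) := by
    rw [map_sub, map_sub, LinearMap.sub_apply]; abel
  rw [e]
  refine Submodule.add_mem _ (Submodule.add_mem _ ?_ ?_) ?_
  · exact Vk_anti (by omega) (h1 _ _ (h j a haj i b hbi))
  · exact Vk_anti (by omega) (h _ _ (h2 j v hv) i b hbi)
  · exact Vk_anti (by omega) (h j v hv _ _ (h2 i w hw))

theorem inFil_pow (ρ : G →* Module.End (ZMod p) V) (χ : G →* (ZMod p)ˣ) {t : G} {r : ℕ}
    (hχ : χ t = 1) (h1 : Moves J (ρ t) r) (h2 : Moves J (ρ t⁻¹) r) :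
    ∀ (n k : ℕ) (f : V →ₗ[ZMod p] Module.End (ZMod p) V), InFil J d k f →
      InFil J d (k + n * r) (((homRep ρ χ t - 1) ^ n) f) := by
  intro n
  induction n with
  | zero => intro k f hf; rwa [zero_mul, add_zero, pow_zero]
  | succ n ih =>
    intro k f hf
    rw [pow_succ, Nat.succ_mul, ← add_assoc, add_right_comm]
    exact ih _ _ (inFil_step ρ χ hχ h1 h2 hf)

end Rep

/-- The criterion: a hyperplane is invariant under all of `G`. -/
theorem hyperplane_fixed {G : Type*} [Group G] [Finite G] {V : Type*} [AddCommGroup V]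
    [Module (ZMod p) V] (ρ : G →* Module.End (ZMod p) V) {J : Module.End (ZMod p) V} {v0 : V}
    {d : ℕ} (hJ : IsCyc J v0 d) (B U T : Subgroup G) (hUB : U ≤ B) [Fintype U]
    (hTB : T ≤ B) (hTn : ∀ b ∈ B, ∀ t ∈ T, b * t * b⁻¹ ∈ T) (hidx : ¬ p ∣ T.relIndex B)
    (χ : G →* (ZMod p)ˣ) (hχT : ∀ t ∈ T, χ t = 1)
    (hTmove : ∀ t ∈ T, Moves J (ρ t) 1) {m : ℕ} (hm : m < d) {c0 : ZMod p} (hc0 : c0 ≠ 0)
    (M0 : Module.End (ZMod p) V) (hMT : ∀ t ∈ T, Commute (ρ t) M0)
    (hMtop : M0 v0 - c0 • (J ^ m) v0 ∈ Vk J (m + 1))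
    (hB1 : ∀ b ∈ B, ∀ v ∈ Vk J 1, ρ b v ∈ Vk J 1)
    (hBtop : ∀ b ∈ B, ∃ μ : ZMod p, ρ b v0 - μ • v0 ∈ Vk J 1 ∧
      (ρ b * M0 * ρ b⁻¹) v0 - ((χ b : ZMod p) * μ * c0) • (J ^ m) v0 ∈ Vk J (m + 1))
    (hfree : ∀ g, g ∉ B → ∀ u ∈ U, g⁻¹ * u * g ∈ B → u = 1)
    (hsum : ∀ f : V →ₗ[ZMod p] Module.End (ZMod p) V, ∑ u : U, homRep ρ χ (u : G) f = 0) :
    ∃ M : Module.End (ZMod p) V, (∀ g, ∀ v ∈ Vk J 1, ρ g v ∈ Vk J 1) ∧
      (∀ t ∈ T, Commute (ρ t) M) ∧
      (∃ c : ZMod p, c ≠ 0 ∧ M v0 - c • (J ^ m) v0 ∈ Vk J (m + 1)) ∧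
      ∀ g, ∃ θ : ZMod p, ρ g * M = θ • (M * ρ g) := by
  classical
  have hd : 0 < d := by omega
  let φ0 := topCoeff hJ hd
  let f0 : V →ₗ[ZMod p] Module.End (ZMod p) V := φ0.smulRight M0
  let σ := homRep ρ χ
  have hTinv : ∀ t ∈ T, t⁻¹ ∈ T := fun t ht => inv_mem ht
  have hT0 : ∀ t ∈ T, σ t f0 = f0 := fun t ht => LinearMap.ext fun v => by
    rw [homRep_apply, map_inv, hχT t ht, inv_one, Units.val_one, one_smul]
    show ρ t * (φ0 (ρ t⁻¹ v) • M0) * ρ t⁻¹ = φ0 v • M0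
    have h : φ0 (ρ t⁻¹ v) = φ0 v := topCoeff_eq hJ hd (by
      have h1 := topCoeff_spec hJ hd v
      have h2 := hTmove _ (hTinv t ht) 0 v (mem_Vk_zero v)
      rw [zero_add] at h2
      have := Submodule.add_mem _ h2 h1
      rwa [sub_add_sub_cancel] at this)
    rw [h, mul_smul_comm, smul_mul_assoc, (hMT t ht).eq, mul_assoc, ← map_mul, mul_inv_cancel,
      map_one, mul_one]
  -- average over `B / T`
  let σB : B →* AddMonoid.End (V →ₗ[ZMod p] Module.End (ZMod p) V) := σ.comp B.subtype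
  have hT0' : ∀ t ∈ T.subgroupOf B, σB t f0 = f0 := fun t ht => hT0 _ ht
  let f := cosetSum σB (T.subgroupOf B) f0 hT0'
  have hfB : ∀ b ∈ B, σ b f = f := fun b hb => cosetSum_fixed σB _ f0 hT0' ⟨b, hb⟩
  have hfG : ∀ g, σ g f = f := by
    refine fixed_of_orbit_sums σ U B hUB f hfB hfree fun g => ?_
    have h := hsum (σ g f)
    refine Eq.trans (Finset.sum_congr rfl fun u _ => ?_) h
    rw [map_mul]; rfl
  -- properties
  letI := Fintype.ofFinite (↥B ⧸ T.subgroupOf B)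
  have hterm : ∀ q : ↥B ⧸ T.subgroupOf B, ∃ b : B, (b : ↥B ⧸ T.subgroupOf B) = q := fun q =>
    QuotientGroup.mk_surjective q
  have hf_apply : ∀ v, f v = ∑ q : ↥B ⧸ T.subgroupOf B, σ ((hterm q).choose : G) f0 v := by
    intro v
    show (cosetSum σB (T.subgroupOf B) f0 hT0') v = _
    rw [cosetSum, LinearMap.sum_apply]
    refine Finset.sum_congr rfl fun q _ => ?_
    conv_lhs => rw [← (hterm q).choose_spec]
    rfl
  have hf1 : ∀ v ∈ Vk J 1, f v = 0 := by
    intro v hv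
    rw [hf_apply]
    refine Finset.sum_eq_zero fun q _ => ?_
    rw [homRep_apply]
    show _ • (ρ _ * (φ0 (ρ _ v) • M0) * ρ _) = 0
    rw [(topCoeff_eq_zero hJ hd).2 (hB1 _ (inv_mem (hterm q).choose.2) v hv), zero_smul, mul_zero,
      zero_mul, smul_zero]
  have hftop : ∀ b : G, b ∈ B → σ b f0 v0 v0 - c0 • (J ^ m) v0 ∈ Vk J (m + 1) := by
    intro b hb
    obtain ⟨μ, hμ, hM⟩ := hBtop b hb
    obtain ⟨μ', hμ', -⟩ := hBtop b⁻¹ (inv_mem hb)
    have hprod : μ' * μ = 1 := by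
      refine coeff_unique hJ hd (k := 0) (v := v0) ?_ (by simp)
      have e : v0 - (μ' * μ) • v0 = ρ b⁻¹ (ρ b v0 - μ • v0) + μ • (ρ b⁻¹ v0 - μ' • v0) := by
        rw [map_sub, ← Module.End.mul_apply, ← map_mul, inv_mul_cancel, map_one,
          Module.End.one_apply, map_smul, smul_sub, smul_smul, mul_comm μ μ']
        abel
      rw [pow_zero, Module.End.one_apply, e]
      exact Submodule.add_mem _ (hB1 _ (inv_mem hb) _ hμ) (Submodule.smul_mem _ _ hμ')
    rw [homRep_apply]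
    show (_ • (ρ b * (φ0 (ρ b⁻¹ v0) • M0) * ρ b⁻¹)) v0 - _ ∈ _
    rw [show φ0 (ρ b⁻¹ v0) = μ' from topCoeff_eq hJ hd hμ', mul_smul_comm, smul_mul_assoc,
      smul_smul, LinearMap.smul_apply]
    have h := Submodule.smul_mem _ (((χ b⁻¹ : (ZMod p)ˣ) : ZMod p) * μ') hM
    rw [smul_sub, smul_smul] at h
    rwa [show ((χ b⁻¹ : (ZMod p)ˣ) : ZMod p) * μ' * ((χ b : ZMod p) * μ * c0) = c0 by
      rw [show ∀ i : ZMod p, i * μ' * ((χ b : ZMod p) * μ * c0) = (i * χ b) * (μ' * μ) * c0 from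
        fun i => by ring, map_inv χ, Units.inv_mul, hprod, one_mul, one_mul]] at h
  set c : ZMod p := (T.relIndex B : ZMod p) * c0 with hcdef
  have hc : c ≠ 0 := mul_ne_zero (by rwa [Ne, ZMod.natCast_eq_zero_iff]) hc0
  have hlead : f v0 v0 - c • (J ^ m) v0 ∈ Vk J (m + 1) := by
    rw [hf_apply, LinearMap.sum_apply, hcdef, Subgroup.relIndex, Subgroup.index,
      Nat.card_eq_fintype_card, mul_smul, ← Finset.card_univ, Nat.cast_smul_eq_nsmul,
      ← Finset.sum_const, ← Finset.sum_sub_distrib]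
    exact Submodule.sum_mem _ fun q _ => hftop _ (hterm q).choose.2
  have hfv : ∀ v, f v = φ0 v • f v0 := fun v => by
    have h := hf1 _ (topCoeff_spec hJ hd v)
    rw [map_sub, map_smul, sub_eq_zero] at h
    exact h
  have hM0 : f v0 ≠ 0 := fun h0 => hc (coeff_zero hJ hm (by
    rw [h0, LinearMap.zero_apply, zero_sub, neg_mem_iff] at hlead
    exact hlead))
  have hkey : ∀ g v, ρ g * f (ρ g⁻¹ v) * ρ g⁻¹ = ((χ g : ZMod p)) • f v := by
    intro g v
    have h := LinearMap.congr_fun (hfG g) v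
    rw [homRep_apply] at h
    rw [← h, smul_smul, map_inv χ, Units.mul_inv, one_smul]
  refine ⟨f v0, fun g v hv => ?_, fun t ht => ?_, ⟨c, hc, hlead⟩, fun g => ?_⟩
  · have h := hkey g (ρ g v)
    rw [← Module.End.mul_apply (ρ g⁻¹), ← map_mul, inv_mul_cancel, map_one, Module.End.one_apply,
      hf1 v hv, mul_zero, zero_mul] at h
    rw [hfv, smul_smul] at h
    rcases smul_eq_zero.1 h.symm with h' | h'
    · exact (topCoeff_eq_zero hJ hd).1 ((mul_eq_zero.1 h').resolve_left (Units.ne_zero _))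
    · exact absurd h' hM0
  · have h := hkey t v0
    rw [hχT t ht, Units.val_one, one_smul, hfv (ρ t⁻¹ v0), show φ0 (ρ t⁻¹ v0) = 1 from
      topCoeff_eq hJ hd (by
        rw [one_smul]
        have := hTmove _ (hTinv t ht) 0 v0 (mem_Vk_zero v0)
        rwa [zero_add] at this), one_smul] at h
    show ρ t * f v0 = f v0 * ρ t
    conv_rhs => rw [← h]
    rw [mul_assoc, ← map_mul, inv_mul_cancel, map_one, mul_one]
  · refine ⟨((χ g : ZMod p)) * φ0 (ρ g v0), ?_⟩
    have h := hkey g (ρ g v0)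
    rw [← Module.End.mul_apply (ρ g⁻¹), ← map_mul, inv_mul_cancel, map_one, Module.End.one_apply,
      hfv (ρ g v0), smul_smul] at h
    rw [← smul_mul_assoc, ← h, mul_assoc, ← map_mul, inv_mul_cancel, map_one, mul_one]

end Cfsg.Agent.FlagRep1
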