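import Mathlib
import Cfsg.Prelude.Def_PLocal
import Cfsg.Agent.Lib.FlagRep1
import Cfsg.Agent.Lib.QuadraticMain

/-!
Basic consequences of the data carried by `Out_F(E)` for a normal subgroup `E` of a group of maximal
class: a Sylow subgroup acting on a cyclic flag.
-/

set_option autoImplicit false
set_option linter.unusedSectionVars false

namespace Cfsg.Agent.FlagData1

open Cfsg FlagRep1

variable {p : ℕ} [hp : Fact p.Prime]
variable {H : Type*} [Group H] [Finite H] {V : Type*} [AddCommGroup V] [Module (ZMod p) V]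

/-- The data. -/
structure Setup (ρ : H →* Module.End (ZMod p) V) (T : Sylow p H) (x y : H) (v0 : V) (d s : ℕ) :
    Prop where
  inj : Function.Injective ρ
  core : pCore p H = ⊥
  xT : x ∈ (T : Subgroup H)
  yT : y ∈ (T : Subgroup H)
  y_ne : y ≠ 1
  cyc : IsCyc (ρ x - 1) v0 d
  d_lt : d < p
  d_ge : 3 ≤ d
  move : ∀ t ∈ (T : Subgroup H), Moves (ρ x - 1) (ρ t) 1
  step : ∀ t ∈ (T : Subgroup H), ∃ a : ZMod p, ∀ k, k + 3 ≤ d →
    ρ t (((ρ x - 1) ^ k) v0) - ((ρ x - 1) ^ k) v0 - a • ((ρ x - 1) ^ (k + 1)) v0 ∈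
      Vk (ρ x - 1) (k + 2)
  ycomm : ∀ t ∈ (T : Subgroup H), Commute t y
  cent : ∀ t ∈ (T : Subgroup H), Commute t x → ∃ a b : ℕ, t = x ^ a * y ^ b
  shift : ∃ c : ZMod p, c ≠ 0 ∧ (ρ y - 1) v0 - c • ((ρ x - 1) ^ s) v0 ∈ Vk (ρ x - 1) (s + 1)
  s_ge : 2 ≤ s
  s_lt : s < d
  weight : ∀ n : H, (∀ t ∈ (T : Subgroup H), n * t * n⁻¹ ∈ (T : Subgroup H)) →
    (∀ t ∈ (T : Subgroup H), ∃ a b : ℕ, t = x ^ a * y ^ b) →
    ∀ (μ : ZMod p) (a b k : ℕ), ρ n v0 - μ • v0 ∈ Vk (ρ x - 1) 1 →
      n * x * n⁻¹ = x ^ a * y ^ k → n * y * n⁻¹ = y ^ b → μ = (a : ZMod p) * (b : ZMod p)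
  embedded : ∃ Me : Subgroup H, Me ≠ ⊤ ∧ (T : Subgroup H) ≤ Me ∧
    (∀ A : Subgroup H, A ≤ Me → IsPGroup p A → A ≠ ⊥ →
      Subgroup.normalizer (A : Set H) ≤ Me) ∧
    ∀ g : H, g ∉ Me → ∀ u ∈ Me, (∃ k, u ^ p ^ k = 1) → g⁻¹ * u * g ∈ Me → u = 1

variable {ρ : H →* Module.End (ZMod p) V} {T : Sylow p H} {x y : H} {v0 : V} {d s : ℕ}
variable (hS : Setup ρ T x y v0 d s)

local notation "J" => ρ x - 1
local notation "Y" => ρ y - 1

include hS

theorem commute_Y {t : H} (ht : t ∈ (T : Subgroup H)) : Commute (ρ t) Y :=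
  ((hS.ycomm t ht).map ρ).sub_right (Commute.one_right _)

theorem Y_J : Commute Y J :=
  ((commute_Y hS hS.xT).symm.sub_right (Commute.one_right _))

theorem Y_v0 : Y v0 ∈ Vk J s := by
  obtain ⟨c, -, h⟩ := hS.shift
  have := Submodule.add_mem _ (Vk_anti (show s ≤ s + 1 by omega) h)
    (Submodule.smul_mem _ c (pow_mem s v0))
  rwa [sub_add_cancel] at this

theorem Y_mem {k : ℕ} {v : V} (hv : v ∈ Vk J k) : Y v ∈ Vk J (k + s) :=
  commute_apply_mem (Y_J hS) (Y_v0 hS) hS.cyc hv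

theorem Y_surj {k : ℕ} {v : V} (hv : v ∈ Vk J (k + s)) : ∃ w ∈ Vk J k, Y w = v := by
  obtain ⟨c, hc, h⟩ := hS.shift
  exact range_of_exact hS.cyc (Y_J hS) hc h k hv

theorem Y_ker {v : V} (hv : Y v = 0) : v ∈ Vk J (d - s) := by
  obtain ⟨c, hc, h⟩ := hS.shift
  exact ker_of_exact hS.cyc (Y_J hS) hc h hv

theorem mem_range_Y {v : V} : v ∈ LinearMap.range Y ↔ v ∈ Vk J s := by
  constructor
  · rintro ⟨w, rfl⟩
    have := Y_mem hS (k := 0) (mem_Vk_zero w)
    rwa [zero_add] at this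
  · intro hv
    obtain ⟨w, -, hw⟩ := Y_surj hS (k := 0) (v := v) (by rwa [zero_add])
    exact ⟨w, hw⟩

theorem Y_eq_zero {v : V} (hv : v ∈ Vk J (d - s)) : Y v = 0 :=
  eq_zero_of_mem hS.cyc (by have := hS.s_lt; omega) (Y_mem hS hv)

theorem flag_pow {w : H} (h : ∀ j, ∀ v ∈ Vk J j, ρ w v - v ∈ Vk J (j + 1)) : w ^ p = 1 := by
  haveI : Nontrivial V := ⟨_, _, hS.cyc.top⟩
  haveI : CharP (Module.End (ZMod p) V) p :=
    charP_of_injective_algebraMap (algebraMap (ZMod p) _).injective p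
  apply hS.inj
  have h0 : (ρ w - 1) ^ p = 0 := by
    refine LinearMap.ext fun v => ?_
    have key : ∀ n j, ∀ u ∈ Vk J j, ((ρ w - 1) ^ n) u ∈ Vk J (j + n) := by
      intro n
      induction n with
      | zero => intro j u hu; simpa using hu
      | succ n ih =>
        intro j u hu
        rw [pow_succ, Module.End.mul_apply, LinearMap.sub_apply, Module.End.one_apply,
          show j + (n + 1) = j + 1 + n by omega]
        exact ih _ _ (h j u hu)
    exact eq_zero_of_mem hS.cyc (by have := hS.d_lt; omega) (key p 0 v (mem_Vk_zero v))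
  rw [sub_pow_char_of_commute (p := p) (Commute.one_right _), one_pow, sub_eq_zero] at h0
  rw [map_pow, h0, map_one]

theorem pow_p {t : H} (ht : t ∈ (T : Subgroup H)) : t ^ p = 1 := flag_pow hS (hS.move t ht)

theorem mem_T {w : H} (h : ∀ j, ∀ v ∈ Vk J j, ρ w v - v ∈ Vk J (j + 1)) :
    w ∈ (T : Subgroup H) := by
  let G : Subgroup H :=
    { carrier := {w | ∀ j, ∀ v ∈ Vk J j, ρ w v - v ∈ Vk J (j + 1)}
      one_mem' := fun j v _ => by simp
      mul_mem' := fun {a b} ha hb j v hv => by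
        have h1 : ρ b v ∈ Vk J j := (show Moves J (ρ b) 1 from hb).mem hv
        have h2 := Submodule.add_mem _ (ha j _ h1) (hb j v hv)
        rwa [sub_add_sub_cancel, ← Module.End.mul_apply, ← map_mul] at h2
      inv_mem' := fun {a} ha => by
        have key : ∀ n : ℕ, ∀ j, ∀ v ∈ Vk J j, ρ (a ^ n) v - v ∈ Vk J (j + 1) := by
          intro n
          induction n with
          | zero => intro j v _; simp
          | succ n ih =>
            intro j v hv
            have h1 : ρ a v ∈ Vk J j := (show Moves J (ρ a) 1 from ha).mem hv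
            have h2 := Submodule.add_mem _ (ih j _ h1) (ha j v hv)
            rwa [sub_add_sub_cancel, ← Module.End.mul_apply, ← map_mul, ← pow_succ] at h2
        have e : a⁻¹ = a ^ (p - 1) := by
          refine inv_eq_of_mul_eq_one_right ?_
          rw [← pow_succ', Nat.sub_add_cancel hp.out.one_le, flag_pow hS ha]
        show ∀ j, ∀ v ∈ Vk J j, ρ a⁻¹ v - v ∈ Vk J (j + 1)
        rw [e]
        exact key _ }
  have hG : IsPGroup p G := fun g => ⟨1, Subtype.ext (by
    rw [pow_one, SubmonoidClass.coe_pow, flag_pow hS g.2]; rfl)⟩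
  exact (T.3 hG (fun t ht => hS.move t ht)).le h

theorem x_pow_mod (a : ℕ) : x ^ (a % p) = x ^ a := by
  conv_rhs => rw [← Nat.mod_add_div a p, pow_add, pow_mul, pow_p hS hS.xT, one_pow, mul_one]

theorem y_pow_mod (a : ℕ) : y ^ (a % p) = y ^ a := by
  conv_rhs => rw [← Nat.mod_add_div a p, pow_add, pow_mul, pow_p hS hS.yT, one_pow, mul_one]

theorem pow_sub_one (t : H) (k : ℕ) :
    ρ (t ^ k) - 1 = (∑ i ∈ Finset.range k, ρ t ^ i) * (ρ t - 1) := by
  rw [map_pow, geom_sum_mul]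

open Classical in
/-- The first coefficient. -/
noncomputable def stp (t : H) : ZMod p :=
  if ht : t ∈ (T : Subgroup H) then (hS.step t ht).choose else 0

theorem stp_spec {t : H} (ht : t ∈ (T : Subgroup H)) {k : ℕ} (hk : k + 3 ≤ d) :
    ρ t ((J ^ k) v0) - (J ^ k) v0 - stp hS t • (J ^ (k + 1)) v0 ∈ Vk J (k + 2) := by
  rw [stp, dif_pos ht]
  exact (hS.step t ht).choose_spec k hk

theorem stp_eq {t : H} (ht : t ∈ (T : Subgroup H)) {a : ZMod p}
    (h : ρ t v0 - v0 - a • J v0 ∈ Vk J 2) : stp hS t = a := by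
  have h0 := stp_spec hS ht (k := 0) (by have := hS.d_ge; omega)
  simp only [pow_zero, Module.End.one_apply, zero_add, pow_one] at h0
  refine coeff_unique hS.cyc (k := 1) (v := ρ t v0 - v0) (by have := hS.d_ge; omega) ?_ ?_
  · rwa [pow_one]
  · rwa [pow_one]

theorem stp_zero_spec {t : H} (ht : t ∈ (T : Subgroup H)) :
    ρ t v0 - v0 - stp hS t • J v0 ∈ Vk J 2 := by
  have h0 := stp_spec hS ht (k := 0) (by have := hS.d_ge; omega)
  simpa only [pow_zero, Module.End.one_apply, zero_add, pow_one] using h0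

theorem stp_one : stp hS 1 = 0 := stp_eq hS (one_mem _) (by simp)

theorem stp_mul {t u : H} (ht : t ∈ (T : Subgroup H)) (hu : u ∈ (T : Subgroup H)) :
    stp hS (t * u) = stp hS t + stp hS u := by
  refine stp_eq hS (mul_mem ht hu) ?_
  have h1 := stp_zero_spec hS ht
  have h2 := stp_zero_spec hS hu
  have h3 : ρ u v0 - v0 ∈ Vk J 1 := by
    have := hS.move u hu 0 v0 (mem_Vk_zero v0); rwa [zero_add] at this
  have h4 := hS.move t ht 1 _ h3
  rw [map_mul, Module.End.mul_apply, add_smul,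
    show ρ t (ρ u v0) - v0 - (stp hS t • J v0 + stp hS u • J v0) =
      (ρ t (ρ u v0 - v0) - (ρ u v0 - v0)) + (ρ u v0 - v0 - stp hS u • J v0) +
        (ρ t v0 - v0 - stp hS t • J v0) by rw [map_sub]; abel]
  exact Submodule.add_mem _ (Submodule.add_mem _ h4 h2) h1

theorem stp_inv {t : H} (ht : t ∈ (T : Subgroup H)) : stp hS t⁻¹ = - stp hS t := by
  have h := stp_mul hS ht (inv_mem ht)
  rw [mul_inv_cancel, stp_one hS] at h
  exact eq_neg_of_add_eq_zero_right h.symm

theorem stp_x : stp hS x = 1 := stp_eq hS hS.xT (by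
  rw [show ρ x v0 - v0 = J v0 from rfl, one_smul, sub_self]
  exact Submodule.zero_mem _)

theorem stp_y : stp hS y = 0 := stp_eq hS hS.yT (by
  rw [show ρ y v0 - v0 = Y v0 from rfl, zero_smul, sub_zero]
  exact Vk_anti hS.s_ge (Y_v0 hS))

theorem stp_pow {t : H} (ht : t ∈ (T : Subgroup H)) (n : ℕ) :
    stp hS (t ^ n) = n * stp hS t := by
  induction n with
  | zero => simp [stp_one hS]
  | succ n ih =>
    rw [pow_succ, stp_mul hS (pow_mem ht n) ht, ih, Nat.cast_succ, add_mul, one_mul]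

theorem stp_word (a b : ℕ) : stp hS (x ^ a * y ^ b) = a := by
  rw [stp_mul hS (pow_mem hS.xT a) (pow_mem hS.yT b), stp_pow hS hS.xT, stp_pow hS hS.yT, stp_x,
    stp_y, mul_one, mul_zero, add_zero]

theorem pow_eq_one_of_cast {t : H} (ht : t ∈ (T : Subgroup H)) {k : ℕ} (hk : (k : ZMod p) = 0) :
    t ^ k = 1 := by
  obtain ⟨m, rfl⟩ := (ZMod.natCast_eq_zero_iff k p).1 hk
  rw [pow_mul, pow_p hS ht, one_pow]

theorem pow_eq_of_cast {t : H} (ht : t ∈ (T : Subgroup H)) {k l : ℕ}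
    (hkl : (k : ZMod p) = l) : t ^ k = t ^ l := by
  rw [ZMod.natCast_eq_natCast_iff'] at hkl
  conv_lhs => rw [← Nat.mod_add_div k p, pow_add, pow_mul, pow_p hS ht, one_pow, mul_one, hkl]
  conv_rhs => rw [← Nat.mod_add_div l p, pow_add, pow_mul, pow_p hS ht, one_pow, mul_one]

theorem pow_y_sub_one_apply (k : ℕ) {j : ℕ} {v : V} (hv : v ∈ Vk J j) :
    (ρ (y ^ k) - 1) v ∈ Vk J (j + s) := by
  rw [pow_sub_one hS, Module.End.mul_apply, LinearMap.sum_apply]
  refine Submodule.sum_mem _ fun i _ => ?_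
  rw [← map_pow]
  exact (hS.move _ (pow_mem hS.yT i)).mem (Y_mem hS hv)

theorem pow_y_sub_one_lead (k : ℕ) (v : V) :
    (ρ (y ^ k) - 1) v - (k : ZMod p) • Y v ∈ Vk J (s + 1) := by
  rw [pow_sub_one hS, Module.End.mul_apply, LinearMap.sum_apply,
    show (k : ZMod p) • Y v = ∑ _i ∈ Finset.range k, Y v by
      rw [Finset.sum_const, Finset.card_range, Nat.cast_smul_eq_nsmul],
    ← Finset.sum_sub_distrib]
  refine Submodule.sum_mem _ fun i _ => ?_
  rw [← map_pow]
  have h := Y_mem hS (k := 0) (mem_Vk_zero v)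
  rw [zero_add] at h
  exact hS.move _ (pow_mem hS.yT i) s _ h

/-- The key commutation identity: `z x z⁻¹ = x y^k`. -/
theorem comm_lead {z : H} (hz : z ∈ (T : Subgroup H)) {k : ℕ} (hzx : z * x * z⁻¹ = x * y ^ k)
    (a : ℕ) (v : V) :
    (ρ z - 1) ((J ^ a) v) - (J ^ a) ((ρ z - 1) v) -
      ((a : ZMod p) * k) • (J ^ (a - 1)) (Y v) ∈ Vk J (s + a) := by
  set Z := ρ z - 1 with hZ
  set G := ρ x * (∑ i ∈ Finset.range k, ρ y ^ i) * ρ z with hG
  have hZC : ∀ u, Z (J u) = J (Z u) + G (Y u) := by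
    intro u
    have e : ρ z * ρ x = ρ x * ρ (y ^ k) * ρ z := by
      rw [← map_mul, ← map_mul, ← map_mul]; congr 1
      rw [← hzx]; group
    have e3 : G * Y = ρ x * ρ (y ^ k) * ρ z - ρ x * ρ z := by
      rw [hG, mul_assoc (ρ x * _) (ρ z), (commute_Y hS hz).eq, ← mul_assoc, mul_assoc (ρ x) _ Y,
        ← pow_sub_one hS y k, mul_sub, mul_one, sub_mul]
    have e4 : Z * J = J * Z + G * Y := by
      rw [e3, ← e, hZ]; noncomm_ring
    exact LinearMap.congr_fun e4 u
  have hlead : ∀ j, ∀ u ∈ Vk J j, G u - (k : ZMod p) • u ∈ Vk J (j + 1) := by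
    intro j u hu
    rw [hG, Module.End.mul_apply, Module.End.mul_apply, LinearMap.sum_apply, map_sum,
      show (k : ZMod p) • u = ∑ _i ∈ Finset.range k, u by
        rw [Finset.sum_const, Finset.card_range, Nat.cast_smul_eq_nsmul],
      ← Finset.sum_sub_distrib]
    refine Submodule.sum_mem _ fun i _ => ?_
    rw [← map_pow, ← Module.End.mul_apply, ← Module.End.mul_apply, ← map_mul, ← map_mul]
    exact hS.move _ (mul_mem (mul_mem hS.xT (pow_mem hS.yT i)) hz) j u hu
  induction a with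
  | zero => simp
  | succ a ih =>
    have hJJ : ∀ u, (J ^ (a + 1)) u = J ((J ^ a) u) := fun u => by
      rw [pow_succ', Module.End.mul_apply]
    rw [hJJ, hJJ, hZC, Nat.add_sub_cancel]
    have h1 : J (Z ((J ^ a) v)) - J ((J ^ a) (Z v)) - ((a : ZMod p) * k) • (J ^ a) (Y v) ∈
        Vk J (s + (a + 1)) := by
      have h := J_mem ih
      rw [map_sub, map_sub, map_smul] at h
      rcases Nat.eq_zero_or_pos a with rfl | ha
      · simp at h ⊢
      · rwa [← Module.End.mul_apply J (J ^ (a - 1)), ← pow_succ', Nat.sub_add_cancel ha,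
          add_assoc] at h
    have hjY : Y ((J ^ a) v) = (J ^ a) (Y v) := by
      rw [← Module.End.mul_apply, ← Module.End.mul_apply, ((Y_J hS).pow_right a).eq]
    have h2 : G (Y ((J ^ a) v)) - (k : ZMod p) • (J ^ a) (Y v) ∈ Vk J (s + (a + 1)) := by
      have h := hlead _ _ (pow_mem_add a (Y_mem hS (k := 0) (mem_Vk_zero v)))
      rw [hjY]
      exact Vk_anti (by omega) h
    have := Submodule.add_mem _ h1 h2
    rw [show ((a + 1 : ℕ) : ZMod p) * k = a * k + k by push_cast; ring, add_smul]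
    convert this using 1
    abel

/-- Elements acting only from the top layer to the bottom layer are powers of `y`. -/
theorem shape_mem (hd2 : d ≤ 2 * s) {w : H} (h1 : ∀ v, Y v = 0 → ρ w v = v)
    (h2 : ∀ v, ρ w v - v ∈ LinearMap.range Y) : w ∈ Subgroup.zpowers y := by
  classical
  have hsd := hS.s_lt
  have hs2 := hS.s_ge
  let A : Subgroup H :=
    { carrier := {w | (∀ v ∈ Vk J (d - s), ρ w v = v) ∧ ∀ v, ρ w v - v ∈ Vk J s}
      one_mem' := ⟨fun v _ => by simp, fun v => by simp⟩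
      mul_mem' := fun {a b} ha hb => ⟨fun v hv => by
          rw [map_mul, Module.End.mul_apply, hb.1 v hv, ha.1 v hv],
        fun v => by
          have := Submodule.add_mem _ (ha.2 (ρ b v)) (hb.2 v)
          rwa [sub_add_sub_cancel, ← Module.End.mul_apply, ← map_mul] at this⟩
      inv_mem' := fun {a} ha => ⟨fun v hv => by
          conv_lhs => rw [← ha.1 v hv]
          rw [← Module.End.mul_apply, ← map_mul, inv_mul_cancel, map_one, Module.End.one_apply],
        fun v => by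
          have h := Submodule.neg_mem _ (ha.2 (ρ a⁻¹ v))
          rwa [← Module.End.mul_apply, ← map_mul, mul_inv_cancel, map_one, Module.End.one_apply,
            neg_sub] at h⟩ }
  have hw : w ∈ A := ⟨fun v hv => h1 v (Y_eq_zero hS hv), fun v => (mem_range_Y hS).1 (h2 v)⟩
  have hAflag : A ≤ (T : Subgroup H) := by
    intro a ha
    refine mem_T hS fun j v hv => ?_
    by_cases hj : d - s ≤ j
    · rw [ha.1 v (Vk_anti hj hv), sub_self]
      exact Submodule.zero_mem _
    · exact Vk_anti (by omega) (ha.2 v)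
  have hnorm : ∀ t ∈ (T : Subgroup H), ∀ a ∈ A, t * a * t⁻¹ ∈ A := by
    intro t ht a ha
    have e : ∀ v, ρ (t * a * t⁻¹) v - v = ρ t (ρ a (ρ t⁻¹ v) - ρ t⁻¹ v) := fun v => by
      rw [map_sub, ← Module.End.mul_apply, ← Module.End.mul_apply, ← Module.End.mul_apply, ← map_mul,
        ← map_mul, ← map_mul, mul_inv_cancel, map_one, Module.End.one_apply, mul_assoc]
    refine ⟨fun v hv => sub_eq_zero.1 ?_, fun v => ?_⟩
    · rw [e, ha.1 _ ((hS.move _ (inv_mem ht)).mem hv), sub_self, map_zero]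
    · rw [e]; exact (hS.move t ht).mem (ha.2 _)
  have key : ∀ z ∈ A, ∀ k : ℕ, z * x * z⁻¹ = x * y ^ k → z ∈ Subgroup.zpowers y := by
    intro z hzA k hzx
    have hzT := hAflag hzA
    by_cases hk : (k : ZMod p) = 0
    · rw [pow_eq_one_of_cast hS hS.yT hk, mul_one, mul_inv_eq_iff_eq_mul] at hzx
      obtain ⟨a, b, rfl⟩ := hS.cent z hzT hzx
      have h0 : stp hS (x ^ a * y ^ b) = 0 := stp_eq hS hzT (by
        rw [zero_smul, sub_zero]; exact Vk_anti hs2 (hzA.2 v0))
      rw [stp_word] at h0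
      rw [pow_eq_one_of_cast hS hS.xT h0, one_mul]
      exact pow_mem (Subgroup.mem_zpowers y) b
    exfalso
    have h := comm_lead hS hzT hzx (d - s) v0
    rw [show (ρ z - 1) ((J ^ (d - s)) v0) = 0 by
      rw [LinearMap.sub_apply, hzA.1 _ (pow_mem _ v0)]; exact sub_self _] at h
    rw [zero_sub, show (J ^ (d - s)) ((ρ z - 1) v0) = 0 from
      eq_zero_of_mem hS.cyc (by omega) (pow_mem_add (d - s) (hzA.2 v0)), neg_zero, zero_sub,
      neg_mem_iff] at h
    obtain ⟨c, hc, hsh⟩ := hS.shift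
    have h3 := Submodule.smul_mem _ (((d - s : ℕ) : ZMod p) * k) (pow_mem_add (d - s - 1) hsh)
    rw [map_sub, map_smul, smul_sub, smul_smul, ← pow_apply_add,
      show d - s - 1 + (s + 1) = d by omega, show d - s - 1 + s = d - 1 by omega] at h3
    have h4 := Submodule.sub_mem _ (Vk_anti (show d - 1 + 1 ≤ s + (d - s) by omega) h)
      (Vk_anti (show d - 1 + 1 ≤ d by omega) h3)
    rw [sub_sub_cancel] at h4
    have := coeff_zero hS.cyc (by omega) h4
    rcases mul_eq_zero.1 this with h' | h'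
    · rcases mul_eq_zero.1 h' with h'' | h''
      · rw [ZMod.natCast_eq_zero_iff] at h''
        have := Nat.le_of_dvd (by omega) h''
        have := hS.d_lt
        omega
      · exact hk h''
    · exact hc h'
  haveI : Group.IsNilpotent ↥(T : Subgroup H) := T.2.isNilpotent
  obtain ⟨n, hn⟩ := Subgroup.nilpotent_iff_lowerCentralSeries.1
    (inferInstance : Group.IsNilpotent ↥(T : Subgroup H))
  have main : ∀ m i, n ≤ i + m → ∀ z : ↥(T : Subgroup H), (z : H) ∈ A →
      z ∈ (⊤ : Subgroup ↥(T : Subgroup H)).lowerCentralSeries i → (z : H) ∈ Subgroup.zpowers y := by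
    intro m
    induction m with
    | zero =>
      intro i hi z _ hz
      have h := Subgroup.lowerCentralSeries_antitone (⊤ : Subgroup ↥(T : Subgroup H)) (by omega : n ≤ i) hz
      rw [hn, Subgroup.mem_bot] at h
      rw [h]; exact one_mem _
    | succ m ih =>
      intro i hi z hzA hz
      let x' : ↥(T : Subgroup H) := ⟨x, hS.xT⟩
      have h2 : z * x' * z⁻¹ * x'⁻¹ ∈ (⊤ : Subgroup ↥(T : Subgroup H)).lowerCentralSeries (i + 1) := by
        rw [Subgroup.lowerCentralSeries_succ]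
        exact Subgroup.commutator_mem_commutator hz (Subgroup.mem_top x')
      have h3 : ((z * x' * z⁻¹ * x'⁻¹ : ↥(T : Subgroup H)) : H) ∈ A := by
        have h := mul_mem hzA (hnorm x hS.xT _ (inv_mem hzA))
        simpa [x', mul_assoc] using h
      obtain ⟨l, hl⟩ := (isOfFinOrder_of_finite y).mem_powers_iff_mem_zpowers.2
        (ih (i + 1) (by omega) _ h3 h2)
      have hl' : y ^ l = (z : H) * x * (z : H)⁻¹ * x⁻¹ := hl
      refine key _ hzA l ?_
      rw [← ((hS.ycomm x hS.xT).pow_right l).symm.eq, hl', inv_mul_cancel_right]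
  exact main n 0 (by omega) ⟨w, hAflag hw⟩ hw (Subgroup.mem_top _)

end Cfsg.Agent.FlagData1
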