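import Mathlib

/-!
The ring generated by two square-zero elements `Y`, `Z`: with `D = YZ + ZY` central, every product
of `1 + Y`, `1 + Z` has the form `W a b s t = 1 + aY + bZ + sYZ + tZY` with coefficients polynomials
in `D`.
-/

set_option autoImplicit false

namespace Cfsg.Agent.QuadPairRing1

variable {R : Type*} [Ring R] (Y Z : R)

/-- `YZ + ZY`. -/
def D : R := Y * Z + Z * Y

/-- The coefficient ring. -/
def S : Subring R := Subring.closure {D Y Z}

/-- The general shape of an element. -/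
def W (a b s t : R) : R := 1 + a * Y + b * Z + s * (Y * Z) + t * (Z * Y)

variable {Y Z}

theorem D_mem : D Y Z ∈ S Y Z := Subring.subset_closure rfl

theorem commute_of_D {w : R} (h : Commute (D Y Z) w) {a : R} (ha : a ∈ S Y Z) : Commute a w := by
  induction ha using Subring.closure_induction with
  | mem x hx => rw [Set.mem_singleton_iff.1 hx]; exact h
  | zero => exact Commute.zero_left w
  | one => exact Commute.one_left w
  | add x y _ _ hx hy => exact hx.add_left hy
  | neg x _ hx => exact hx.neg_left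
  | mul x y _ _ hx hy => exact hx.mul_left hy

theorem commute_S {a b : R} (ha : a ∈ S Y Z) (hb : b ∈ S Y Z) : Commute a b :=
  commute_of_D ((commute_of_D (Commute.refl _) hb).symm) ha

variable (hY : Y * Y = 0) (hZ : Z * Z = 0)

include hY in
theorem Y_D : Y * D Y Z = D Y Z * Y := by
  simp only [D, mul_add, add_mul, ← mul_assoc, hY, zero_mul, zero_add]
  rw [mul_assoc Z Y Y, hY, mul_zero, add_zero, mul_assoc]

include hZ in
theorem Z_D : Z * D Y Z = D Y Z * Z := by
  simp only [D, mul_add, add_mul, ← mul_assoc, hZ, zero_mul, add_zero]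
  rw [mul_assoc Y Z Z, hZ, mul_zero, zero_add, mul_assoc]

include hY in
theorem comY {a : R} (ha : a ∈ S Y Z) : Commute a Y :=
  commute_of_D (show Commute (D Y Z) Y from (Y_D hY).symm) ha

include hZ in
theorem comZ {a : R} (ha : a ∈ S Y Z) : Commute a Z :=
  commute_of_D (show Commute (D Y Z) Z from (Z_D hZ).symm) ha

include hY in
theorem YZY : Y * (Z * Y) = D Y Z * Y := by
  simp only [D, add_mul]
  rw [mul_assoc Z Y Y, hY, mul_zero, add_zero, mul_assoc]

include hZ in
theorem ZYZ : Z * (Y * Z) = D Y Z * Z := by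
  simp only [D, add_mul]
  rw [mul_assoc Y Z Z, hZ, mul_zero, zero_add, mul_assoc]

include hY hZ

/-- Products of the shapes. -/
theorem W_mul {a b s t a' b' s' t' : R} (ha : a ∈ S Y Z) (hb : b ∈ S Y Z) (hs : s ∈ S Y Z)
    (ht : t ∈ S Y Z) (ha' : a' ∈ S Y Z) (hb' : b' ∈ S Y Z) (hs' : s' ∈ S Y Z) (ht' : t' ∈ S Y Z) :
    W Y Z a b s t * W Y Z a' b' s' t' =
      W Y Z (a + a' + D Y Z * (a * t' + s * a')) (b + b' + D Y Z * (b * s' + t * b'))
        (s + s' + (a * b' + D Y Z * (s * s'))) (t + t' + (b * a' + D Y Z * (t * t'))) := by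
  have k : ∀ {c d : R} (_ : d ∈ S Y Z) (X X' : R), Commute d X →
      c * X * (d * X') = c * d * (X * X') := fun _ X X' h => by
    rw [mul_assoc, ← mul_assoc X, ← h.eq, mul_assoc, ← mul_assoc]
  have cY : ∀ {d : R}, d ∈ S Y Z → Commute d Y := fun h => comY hY h
  have cZ : ∀ {d : R}, d ∈ S Y Z → Commute d Z := fun h => comZ hZ h
  have cYZ : ∀ {d : R}, d ∈ S Y Z → Commute d (Y * Z) := fun h => (cY h).mul_right (cZ h)
  have cZY : ∀ {d : R}, d ∈ S Y Z → Commute d (Z * Y) := fun h => (cZ h).mul_right (cY h)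
  have e1 : Y * (Y * Z) = 0 := by rw [← mul_assoc, hY, zero_mul]
  have e2 : Z * (Z * Y) = 0 := by rw [← mul_assoc, hZ, zero_mul]
  have e3 : Y * Z * Z = 0 := by rw [mul_assoc, hZ, mul_zero]
  have e4 : Z * Y * Y = 0 := by rw [mul_assoc, hY, mul_zero]
  have e5 : Y * Z * Y = D Y Z * Y := by rw [mul_assoc, YZY hY]
  have e6 : Z * Y * Z = D Y Z * Z := by rw [mul_assoc, ZYZ hZ]
  have e7 : Y * Z * (Z * Y) = 0 := by rw [← mul_assoc, e3, zero_mul]
  have e8 : Z * Y * (Y * Z) = 0 := by rw [← mul_assoc, e4, zero_mul]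
  have e9 : Y * Z * (Y * Z) = D Y Z * (Y * Z) := by rw [← mul_assoc, e5, mul_assoc]
  have e10 : Z * Y * (Z * Y) = D Y Z * (Z * Y) := by rw [← mul_assoc, e6, mul_assoc]
  have m : ∀ {c : R}, c ∈ S Y Z → ∀ X : R, c * (D Y Z * X) = D Y Z * c * X := fun h X => by
    rw [← mul_assoc, (commute_S h D_mem).eq]
  simp only [W, mul_add, add_mul, one_mul, mul_one]
  rw [k ha' Y Y (cY ha'), k hb' Y Z (cY hb'), k hs' Y (Y * Z) (cY hs'), k ht' Y (Z * Y) (cY ht'),
    k ha' Z Y (cZ ha'), k hb' Z Z (cZ hb'), k hs' Z (Y * Z) (cZ hs'), k ht' Z (Z * Y) (cZ ht'),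
    k ha' (Y * Z) Y (cYZ ha'), k hb' (Y * Z) Z (cYZ hb'), k hs' (Y * Z) (Y * Z) (cYZ hs'),
    k ht' (Y * Z) (Z * Y) (cYZ ht'),
    k ha' (Z * Y) Y (cZY ha'), k hb' (Z * Y) Z (cZY hb'), k hs' (Z * Y) (Y * Z) (cZY hs'),
    k ht' (Z * Y) (Z * Y) (cZY ht')]
  rw [hY, hZ, e1, e2, e3, e4, e5, e6, e7, e8, e9, e10, YZY hY, ZYZ hZ,
    m (mul_mem ha ht'), m (mul_mem hb hs'), m (mul_mem hs ha'), m (mul_mem hs hs'),
    m (mul_mem ht hb'), m (mul_mem ht ht')]
  simp only [mul_zero, ← mul_assoc]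
  abel

theorem W_mul_Y {a b s t : R} :
    W Y Z a b s t * Y = (1 + s * D Y Z) * Y + b * (Z * Y) := by
  simp only [W, add_mul, one_mul, mul_assoc, hY, mul_zero, add_zero, YZY hY]
  abel

theorem Y_mul_W {a b s t : R} (ha : a ∈ S Y Z) (hb : b ∈ S Y Z) (hs : s ∈ S Y Z) (ht : t ∈ S Y Z) :
    Y * W Y Z a b s t = (1 + t * D Y Z) * Y + b * (Y * Z) := by
  have h : ∀ {c : R}, c ∈ S Y Z → ∀ X : R, Y * (c * X) = c * (Y * X) := fun hc X => by
    rw [← mul_assoc, ← (comY hY hc).eq, mul_assoc]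
  simp only [W, mul_add, mul_one, add_mul, one_mul, h ha, h hb, h hs, h ht, hY, mul_zero,
    YZY hY, mul_assoc]
  rw [← mul_assoc Y Y Z, hY, zero_mul, mul_zero]
  abel

/-- The deviation from `1` squares into `D`-multiples. -/
theorem sub_one_sq {a b s t : R} (ha : a ∈ S Y Z) (hb : b ∈ S Y Z) (hs : s ∈ S Y Z)
    (ht : t ∈ S Y Z) :
    ∃ X : R, Commute (D Y Z) X ∧
      (W Y Z a b s t - 1) * (W Y Z a b s t - 1) = D Y Z * X := by
  refine ⟨(a * t + s * a) * Y + (b * s + t * b) * Z + s * s * (Y * Z) + t * t * (Z * Y) + a * b,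
    ?_, ?_⟩
  · have hD := D_mem (Y := Y) (Z := Z)
    have c : ∀ {d : R}, d ∈ S Y Z → Commute (D Y Z) d := fun h => (commute_S hD h)
    exact ((((c (add_mem (mul_mem ha ht) (mul_mem hs ha))).mul_right (comY hY hD)).add_right
      ((c (add_mem (mul_mem hb hs) (mul_mem ht hb))).mul_right (comZ hZ hD))).add_right
      ((c (mul_mem hs hs)).mul_right ((comY hY hD).mul_right (comZ hZ hD)))).add_right
      ((c (mul_mem ht ht)).mul_right ((comZ hZ hD).mul_right (comY hY hD))) |>.add_right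
      (c (mul_mem ha hb))
  · have h := W_mul hY hZ ha hb hs ht ha hb hs ht
    have e : (W Y Z a b s t - 1) * (W Y Z a b s t - 1) =
        W Y Z a b s t * W Y Z a b s t - W Y Z a b s t - W Y Z a b s t + 1 := by noncomm_ring
    rw [e, h, (commute_S hb ha).eq]
    simp only [W]
    have e2 : a * b * D Y Z = a * b * (Y * Z) + a * b * (Z * Y) := by rw [D, mul_add]
    have e3 : D Y Z * (a * b) = a * b * D Y Z := (commute_S D_mem (mul_mem ha hb)).eq
    simp only [mul_add, add_mul, ← mul_assoc] at e2 ⊢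
    simp only [← mul_assoc] at e3
    rw [e3, e2]
    abel

omit hY hZ

/-- In a finite monoid some positive power is idempotent. -/
theorem exists_idem {M : Type*} [Monoid M] [Finite M] (x : M) :
    ∃ N : ℕ, 0 < N ∧ x ^ N * x ^ N = x ^ N := by
  obtain ⟨i, j, hne, h⟩ := Finite.exists_ne_map_eq_of_infinite (fun n : ℕ => x ^ n)
  wlog hij : i < j generalizing i j
  · exact this j i hne.symm h.symm (by omega)
  have h : x ^ i = x ^ j := h
  set q := j - i with hq
  have step : ∀ k, i ≤ k → x ^ (k + q) = x ^ k := fun k hk => by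
    rw [show k + q = j + (k - i) by omega, pow_add, ← h, ← pow_add, show i + (k - i) = k by omega]
  have many : ∀ r k, i ≤ k → x ^ (k + q * r) = x ^ k := by
    intro r
    induction r with
    | zero => simp
    | succ r ih =>
      intro k hk
      rw [Nat.mul_succ, ← add_assoc, step _ (by omega), ih k hk]
  have hqp : 0 < q := by omega
  refine ⟨q * (i + 1), by positivity, ?_⟩
  rw [← pow_add, many (i + 1) _ (by nlinarith)]

end Cfsg.Agent.QuadPairRing1
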