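import Mathlib
import Cfsg.Agent.Lib.QuadPairRing1
import Cfsg.Agent.Lib.QuadraticMain
import Cfsg.Agent.Lib.QuadraticQd

/-!
`p ≥ 5`: a quadratic element `y` outside `O_p`, such that the only elements of its shape are its own
powers, is normalized by a torus element acting by scalars on the three layers it defines.
-/

set_option autoImplicit false

namespace Cfsg.Agent.QuadPairTorus1

open Cfsg QuadraticMain QuadraticRep QuadPairRing1

variable {p : ℕ} [Fact p.Prime]
variable {H : Type*} [Group H] [Finite H] {M : Type*} [AddCommGroup M] [Module (ZMod p) M]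
  [Finite M] (ρ : H →* Module.End (ZMod p) M)

/-- `x` acts trivially on the kernel of `Y` and moves into its range. -/
def Shape (Y : Module.End (ZMod p) M) (x : Module.End (ZMod p) M) : Prop :=
  (∀ v, Y v = 0 → x v = v) ∧ ∀ v, x v - v ∈ LinearMap.range Y

/-- What is wanted of the torus element. -/
def Layers (Y : Module.End (ZMod p) M) (g : Module.End (ZMod p) M) (c : ZMod p) : Prop :=
  g * Y = c • Y ∧ Y * (c • g) = Y ∧ ∀ v, Y v = 0 → g v - v ∈ LinearMap.range Y

theorem pow_quad {y : Module.End (ZMod p) M} (hy : (y - 1) * (y - 1) = 0) :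
    ∀ k : ℕ, y ^ k = 1 + (k : ZMod p) • (y - 1) := by
  intro k
  induction k with
  | zero => simp
  | succ k ih =>
    rw [pow_succ, ih, add_mul, one_mul, smul_mul_assoc,
      show (y - 1) * y = y - 1 + (y - 1) * (y - 1) by noncomm_ring, hy, add_zero, Nat.cast_succ,
      add_smul, one_smul]
    abel

omit [Finite M] [Finite H] in
theorem odd_trick {A B : Module.End (ZMod p) M} {k : ℕ} (hk : Odd k) (h2 : A ^ 2 * B = B)
    (hkB : A ^ k * B = B) : A * B = B := by
  obtain ⟨j, rfl⟩ := hk
  have h : ∀ i : ℕ, A ^ (2 * i) * B = B := by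
    intro i
    induction i with
    | zero => simp
    | succ i ih => rw [Nat.mul_succ, pow_add, mul_assoc, h2, ih]
  rwa [pow_succ', mul_assoc, h] at hkB

set_option maxHeartbeats 4000000 in
/-- The torus element of a pair. -/
theorem torus_of_pair (hp : 5 ≤ p) (hρ : Function.Injective ρ) {a b : H}
    (hgen : Subgroup.closure ({a, b} : Set H) = ⊤) (hnp : ¬ IsPGroup p H)
    (ha : (ρ a - 1) * (ρ a - 1) = 0) (hb : (ρ b - 1) * (ρ b - 1) = 0)
    (hR : ∀ w : H, Shape (ρ a - 1) (ρ w) → w ∈ Subgroup.zpowers a) :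
    ∃ (g : H) (c : ZMod p), c ≠ 0 ∧ c ≠ 1 ∧ Layers (ρ a - 1) (ρ g) c := by
  classical
  haveI hpF : Fact p.Prime := inferInstance
  have hpp : p.Prime := hpF.out
  have hp2 : p ≠ 2 := by omega
  obtain ⟨Y, hYdef⟩ : ∃ Y, Y = ρ a - 1 := ⟨_, rfl⟩
  obtain ⟨Z, hZdef⟩ : ∃ Z, Z = ρ b - 1 := ⟨_, rfl⟩
  have ha0 := ha
  have hb0 := hb
  rw [← hYdef] at ha hR ⊢
  rw [← hZdef] at hb
  set C := S Y Z with hCdef
  set Dl := D Y Z with hDdef
  -- shapes
  have hco : ∀ w : H, ∃ a' b' s t, a' ∈ C ∧ b' ∈ C ∧ s ∈ C ∧ t ∈ C ∧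
      ρ w = W Y Z a' b' s t ∧ ρ w⁻¹ = W Y Z (-a') (-b') t s := by
    intro w
    have hw : w ∈ Submonoid.closure ({a, b} : Set H) := by
      rw [← Subgroup.closure_toSubmonoid_of_finite, hgen]; trivial
    induction hw using Submonoid.closure_induction with
    | one =>
      exact ⟨0, 0, 0, 0, zero_mem _, zero_mem _, zero_mem _, zero_mem _, by simp [W], by simp [W]⟩
    | mem x hx =>
      have inv_eq : ∀ {u : H} {U : Module.End (ZMod p) M}, U * U = 0 → ρ u = 1 + U →
          ρ u⁻¹ = 1 - U := fun {u U} hU hu => by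
        calc ρ u⁻¹ = ρ u⁻¹ * ((1 + U) * (1 - U)) := by
              rw [show (1 + U) * (1 - U) = 1 - U * U by noncomm_ring, hU, sub_zero, mul_one]
          _ = ρ u⁻¹ * ρ u * (1 - U) := by rw [hu, mul_assoc]
          _ = 1 - U := by rw [← map_mul, inv_mul_cancel, map_one, one_mul]
      rcases hx with hx | hx
      · rw [hx]
        refine ⟨1, 0, 0, 0, one_mem _, zero_mem _, zero_mem _, zero_mem _, ?_, ?_⟩
        · simp [W, hYdef]
        · rw [inv_eq ha (show ρ a = 1 + Y by rw [hYdef]; abel)]; simp [W, sub_eq_add_neg]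
      · rw [Set.mem_singleton_iff] at hx
        rw [hx]
        refine ⟨0, 1, 0, 0, zero_mem _, one_mem _, zero_mem _, zero_mem _, ?_, ?_⟩
        · simp [W, hZdef]
        · rw [inv_eq hb (show ρ b = 1 + Z by rw [hZdef]; abel)]; simp [W, sub_eq_add_neg]
    | mul x y _ _ hx hy =>
      obtain ⟨a1, b1, s1, t1, m1, m2, m3, m4, e1, f1⟩ := hx
      obtain ⟨a2, b2, s2, t2, n1, n2, n3, n4, e2, f2⟩ := hy
      have hD := D_mem (Y := Y) (Z := Z)
      refine ⟨_, _, _, _, ?_, ?_, ?_, ?_, by rw [map_mul, e1, e2, W_mul ha hb m1 m2 m3 m4 n1 n2 n3 n4],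
        ?_⟩
      · exact add_mem (add_mem m1 n1) (mul_mem hD (add_mem (mul_mem m1 n4) (mul_mem m3 n1)))
      · exact add_mem (add_mem m2 n2) (mul_mem hD (add_mem (mul_mem m2 n3) (mul_mem m4 n2)))
      · exact add_mem (add_mem m3 n3) (add_mem (mul_mem m1 n2) (mul_mem hD (mul_mem m3 n3)))
      · exact add_mem (add_mem m4 n4) (add_mem (mul_mem m2 n1) (mul_mem hD (mul_mem m4 n4)))
      · rw [mul_inv_rev, map_mul, f2, f1,
          W_mul ha hb (neg_mem n1) (neg_mem n2) n4 n3 (neg_mem m1) (neg_mem m2) m4 m3]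
        congr 1
        · rw [neg_mul, mul_neg, (commute_S n1 m3).eq, (commute_S n4 m1).eq, ← neg_add, ← neg_add,
            mul_neg, ← neg_add, add_comm a2 a1, add_comm (s1 * a2)]
        · rw [neg_mul, mul_neg, (commute_S n2 m4).eq, (commute_S n3 m2).eq, ← neg_add, ← neg_add,
            mul_neg, ← neg_add, add_comm b2 b1, add_comm (t1 * b2)]
        · rw [neg_mul_neg, (commute_S n1 m2).eq, (commute_S n4 m4).eq, add_comm t2 t1]
        · rw [neg_mul_neg, (commute_S n2 m1).eq, (commute_S n3 m3).eq, add_comm s2 s1]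
  choose A B Sc T hA hB hS hT hW hW' using hco
  -- the idempotent
  haveI : Finite (Module.End (ZMod p) M) :=
    Finite.of_injective (fun f => (f : M → M)) DFunLike.coe_injective
  obtain ⟨N, hN, hee⟩ := exists_idem Dl
  set e := Dl ^ N with hedef
  have hDC : Dl ∈ C := D_mem
  have heC : e ∈ C := pow_mem hDC N
  have hDu : ∀ X : Module.End (ZMod p) M, e * (Dl * X) = 0 → e * X = 0 := by
    intro X h
    have e1 : e = Dl ^ (N - 1) * Dl := by rw [hedef, ← pow_succ]; congr 1; omega
    rw [← hee]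
    nth_rewrite 2 [e1]
    rw [← mul_assoc, (commute_S heC (pow_mem hDC (N - 1))).eq, mul_assoc, mul_assoc, h, mul_zero]
  have cmY : ∀ {c : Module.End (ZMod p) M}, c ∈ C → ∀ X, Y * (c * X) = c * (Y * X) := fun h X => by
    rw [← mul_assoc, ← (comY ha h).eq, mul_assoc]
  have cmZ : ∀ {c : Module.End (ZMod p) M}, c ∈ C → ∀ X, Z * (c * X) = c * (Z * X) := fun h X => by
    rw [← mul_assoc, ← (comZ hb h).eq, mul_assoc]
  have cmρ : ∀ {c : Module.End (ZMod p) M}, c ∈ C → ∀ w, Commute c (ρ w) := by
    intro c h w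
    have hYc := comY ha h
    have hZc := comZ hb h
    rw [hW w, W]
    exact ((((Commute.one_right c).add_right ((commute_S h (hA w)).mul_right hYc)).add_right
      ((commute_S h (hB w)).mul_right hZc)).add_right
      ((commute_S h (hS w)).mul_right (hYc.mul_right hZc))).add_right
      ((commute_S h (hT w)).mul_right (hZc.mul_right hYc))
  set f := (1 : Module.End (ZMod p) M) - e with hfdef
  have hef : e * f = 0 := by rw [hfdef, mul_sub, mul_one, hee, sub_self]
  have hff : f * f = f := by rw [hfdef, sub_mul, one_mul, mul_sub, mul_one, hee, sub_self, sub_zero]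
  have cmf : ∀ w, Commute f (ρ w) := fun w => (Commute.one_left _).sub_left (cmρ heC w)
  haveI : Nontrivial (Module.End (ZMod p) M) := by
    rcases subsingleton_or_nontrivial (Module.End (ZMod p) M) with h | h
    · exfalso
      exact hnp (IsPGroup.of_card (n := 0) (by
        haveI : Subsingleton H := hρ.subsingleton
        rw [Nat.card_of_subsingleton (1 : H), pow_zero]))
    · exact h
  haveI : CharP (Module.End (ZMod p) M) p :=
    charP_of_injective_algebraMap (algebraMap (ZMod p) _).injective p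
  -- on the complement of the idempotent everything is unipotent
  have hunip : ∀ w, ∃ k : ℕ, f * ρ (w ^ p ^ k) = f := by
    intro w
    obtain ⟨X, hX, hsq⟩ := sub_one_sq ha hb (hA w) (hB w) (hS w) (hT w)
    rw [← hW w] at hsq
    refine ⟨2 * N, ?_⟩
    have h0 : f * (ρ w - 1) ^ (2 * N) = 0 := by
      rw [pow_mul, sq, hsq, (show Commute Dl X from hX).mul_pow, ← hedef, ← mul_assoc,
        hfdef, sub_mul, one_mul, hee, sub_self, zero_mul]
    have h1 : f * (ρ w - 1) ^ (p ^ (2 * N)) = 0 := by
      rw [← Nat.add_sub_cancel' (Nat.lt_pow_self hpp.one_lt (n := 2 * N)).le, pow_add, ← mul_assoc,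
        h0, zero_mul]
    rw [sub_pow_char_pow_of_commute (p := p) _ (Commute.one_right _), one_pow, mul_sub, mul_one,
      sub_eq_zero] at h1
    rw [map_pow, h1]
  have hfix : ∀ w : H, (orderOf w).Coprime p → f * ρ w = f := by
    intro w hw
    obtain ⟨k, hk⟩ := hunip w
    obtain ⟨m, hm⟩ := exists_pow_eq_self_of_coprime (Nat.Coprime.pow_left k hw.symm)
    have h : ∀ i : ℕ, f * ρ ((w ^ p ^ k) ^ i) = f := by
      intro i
      induction i with
      | zero => simp
      | succ i ih => rw [pow_succ, map_mul, ← mul_assoc, ih, hk]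
    rw [← hm]
    exact h m
  -- `eY ≠ 0`
  have heZ : e * Y = 0 → e * Z = 0 := fun h => by
    refine hDu _ ?_
    rw [← ZYZ (Y := Y) hb, ← mul_assoc e, ← (comZ hb heC).symm.eq, mul_assoc Z, ← mul_assoc e, h, zero_mul,
      mul_zero]
  have heY : e * Y ≠ 0 := by
    intro h
    refine hnp fun w => ?_
    obtain ⟨k, hk⟩ := hunip w
    refine ⟨k, hρ ?_⟩
    have he : ∀ u, e * ρ u = e := fun u => by
      have h2 := heZ h
      have k1 : ∀ {c X : Module.End (ZMod p) M}, c ∈ C → e * X = 0 → e * (c * X) = 0 := fun hc hX => by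
        rw [← mul_assoc, (commute_S heC hc).eq, mul_assoc, hX, mul_zero]
      rw [hW u, W]
      simp only [mul_add, mul_one, k1 (hA u) h, k1 (hB u) h2,
        k1 (hS u) (show e * (Y * Z) = 0 by rw [← mul_assoc, h, zero_mul]),
        k1 (hT u) (show e * (Z * Y) = 0 by rw [← mul_assoc, h2, zero_mul]), add_zero]
    calc ρ (w ^ p ^ k) = e * ρ (w ^ p ^ k) + f * ρ (w ^ p ^ k) := by
          rw [← add_mul, hfdef, add_sub_cancel, one_mul]
      _ = e + f := by rw [he, hk]
      _ = ρ 1 := by rw [map_one, hfdef, add_sub_cancel]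
  -- the Sylow subgroup and its centre in the image
  obtain ⟨P, hP⟩ := (show IsPGroup p (Subgroup.zpowers a) from fun x => ⟨1, Subtype.ext (by
    obtain ⟨i, hi⟩ := x.2
    rw [pow_one, SubmonoidClass.coe_pow, ← hi, ← zpow_natCast, ← zpow_mul, mul_comm, zpow_mul,
      zpow_natCast, pow_eq_one_of_quad ρ hρ ha0, one_zpow]; rfl)⟩).exists_le_sylow
  have haP : a ∈ (P : Subgroup H) := hP (Subgroup.mem_zpowers a)
  let π : H →* Module.End (ZMod p) M :=
    { toFun := fun w => e * ρ w + f
      map_one' := by rw [map_one, mul_one, hfdef, add_sub_cancel]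
      map_mul' := fun u w => by
        rw [mul_add, add_mul, add_mul, mul_assoc e, ← mul_assoc (ρ u), ← (cmρ heC u).eq,
          mul_assoc e (ρ u), ← mul_assoc e e, hee, ← map_mul, ← mul_assoc f, ← (show e * f = f * e by
            rw [hef, hfdef, sub_mul, one_mul, hee, sub_self]), hef, zero_mul, mul_assoc e (ρ u),
          ← (cmf u).eq, ← mul_assoc e f, hef, zero_mul, hff]
        abel }
  have hπ : ∀ w, π w = e * ρ w + f := fun w => rfl
  have heρ : ∀ u w : H, π u = π w → e * ρ u = e * ρ w := fun u w h => add_right_cancel h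
  have hπa : π a ≠ 1 := fun h => heY (by
    have h' : e * ρ a = e := by
      have := heρ a 1 (h.trans (map_one π).symm)
      rwa [map_one, mul_one] at this
    rw [hYdef, mul_sub, mul_one, h', sub_self])
  let P' : Subgroup (Module.End (ZMod p) M)ˣ := (P : Subgroup H).map π.toHomUnits
  have hP'p : IsPGroup p P' := P.2.map _
  haveI : Nontrivial P' := by
    refine ⟨⟨π.toHomUnits a, a, haP, rfl⟩, 1, fun h => hπa ?_⟩
    exact congrArg (fun u : P' => ((u : (Module.End (ZMod p) M)ˣ) : Module.End (ZMod p) M)) h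
  haveI : Finite P' := inferInstance
  haveI := hP'p.center_nontrivial
  obtain ⟨⟨⟨_, w0, hw0, rfl⟩, hz⟩, hz1⟩ := exists_ne (1 : Subgroup.center P')
  have hπw0 : π w0 ≠ 1 := fun h => hz1 (Subtype.ext (Subtype.ext (Units.ext h)))
  let IsC : H → Prop := fun w => ∀ q ∈ (P : Subgroup H), π (q * w) = π (w * q)
  have hw0c : IsC w0 := fun q hq => by
    have h := congrArg (fun u : P' => ((u : (Module.End (ZMod p) M)ˣ) : Module.End (ZMod p) M))
      (Subgroup.mem_center_iff.1 hz ⟨_, q, hq, rfl⟩)
    rw [map_mul, map_mul]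
    exact h
  have cc : ∀ {c : Module.End (ZMod p) M}, c ∈ C → ∀ {d : Module.End (ZMod p) M}, d ∈ C →
      ∀ X, c * (d * X) = d * (c * X) := fun h d h' X => by
    rw [← mul_assoc, (commute_S h h').eq, mul_assoc]
  have hpow : ∀ w ∈ (P : Subgroup H), ∃ k : ℕ, Odd k ∧ w ^ k = 1 := fun w hw => by
    obtain ⟨k, hk⟩ := P.2 ⟨w, hw⟩
    exact ⟨p ^ k, (hpp.odd_of_ne_two hp2).pow, by simpa [Subtype.ext_iff] using hk⟩
  -- upper triangular computations
  have alg : ∀ (u : H) {β β' : Module.End (ZMod p) M}, β ∈ C → β' ∈ C →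
      e * (β * (ρ u * Y)) = e * (β' * (Y * ρ u)) →
        e * (β * (B u * Y)) = 0 ∧ e * (β' * (B u * Y)) = 0 ∧
        e * (β' * Y) = (1 + Sc u * Dl) ^ 2 * (e * (β * Y)) := by
    intro u β β' hβ hβ' heq
    set al := 1 + Sc u * Dl with hal
    set de := 1 + T u * Dl with hde
    have halC : al ∈ C := add_mem (one_mem _) (mul_mem (hS u) hDC)
    have hdeC : de ∈ C := add_mem (one_mem _) (mul_mem (hT u) hDC)
    rw [hW u, W_mul_Y ha hb, Y_mul_W ha hb (hA u) (hB u) (hS u) (hT u), ← hDdef, ← hal, ← hde] at heq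
    have h1 : e * (β * (B u * Y)) = 0 := by
      refine hDu _ ?_
      have h := congrArg (fun X => Y * X) heq
      simp only [mul_add, cmY heC, cmY hβ, cmY hβ', cmY halC, cmY hdeC, cmY (hB u), ha, mul_zero,
        zero_add, add_zero, YZY (Z := Z) ha, ← mul_assoc Y Y, zero_mul] at h
      rw [cc hDC hβ, cc hDC (hB u)]
      exact h
    have h2 : e * (β' * (B u * Y)) = 0 := by
      refine hDu _ ?_
      have h := congrArg (fun X => X * Y) heq
      simp only [mul_add, add_mul, mul_assoc, ha, mul_zero, zero_add, add_zero, YZY (Z := Z) ha] at h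
      rw [cc hDC hβ', cc hDC (hB u)]
      exact h.symm
    have k1 : e * (β * (B u * (Z * Y))) = 0 := by
      rw [← cmZ (hB u), ← cmZ hβ, ← cmZ heC, h1, mul_zero]
    have k2 : e * (β' * (B u * (Y * Z))) = 0 := by
      rw [← mul_assoc (B u), ← mul_assoc β', ← mul_assoc e, h2, zero_mul]
    have k3 : e * (β' * (B u * (Z * Y))) = 0 := by
      rw [← cmZ (hB u), ← cmZ hβ', ← cmZ heC, h2, mul_zero]
    simp only [mul_add, k1, k2, add_zero] at heq
    have hinv : de * (al * (e * (β' * Y))) = e * (β' * Y) := by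
      have hYr : e * (β' * (ρ u * Y)) = al * (e * (β' * Y)) := by
        rw [hW u, W_mul_Y ha hb, mul_add, mul_add, k3, add_zero, cc hβ' halC, cc heC halC]
      have hYr' : e * (β' * (ρ u⁻¹ * Y)) = de * (e * (β' * Y)) := by
        rw [hW' u, W_mul_Y ha hb, mul_add, mul_add, neg_mul, mul_neg, mul_neg, k3, neg_zero,
          add_zero, cc hβ' hdeC, cc heC hdeC]
      calc de * (al * (e * (β' * Y))) = de * (e * (β' * (ρ u * Y))) := by rw [hYr]
        _ = ρ u * (de * (e * (β' * Y))) := by
          rw [← mul_assoc (ρ u), ← (cmρ hdeC u).eq, mul_assoc de, ← mul_assoc (ρ u),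
            ← (cmρ heC u).eq, mul_assoc e, ← mul_assoc (ρ u), ← (cmρ hβ' u).eq, mul_assoc β']
        _ = ρ u * (e * (β' * (ρ u⁻¹ * Y))) := by rw [hYr']
        _ = e * (β' * Y) := by
          rw [← mul_assoc (ρ u), ← (cmρ heC u).eq, mul_assoc e, ← mul_assoc (ρ u),
            ← (cmρ hβ' u).eq, mul_assoc β', ← mul_assoc (ρ u), ← map_mul, mul_inv_cancel, map_one,
            one_mul]
    refine ⟨h1, h2, ?_⟩
    rw [← hinv, cc hdeC halC, ← cc heC hdeC, ← cc hβ' hdeC, ← heq, cc hβ halC, cc heC halC,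
      ← mul_assoc, sq]
  -- elements commuting with `Y` above `β`
  have upper : ∀ u ∈ (P : Subgroup H), ∀ β ∈ C,
      e * (β * (ρ u * Y)) = e * (β * (Y * ρ u)) →
        e * (β * ρ u) = e * β + A u * (e * (β * Y)) := by
    intro u hu β hβ heq
    obtain ⟨h1, -, hal⟩ := alg u hβ hβ heq
    set al := 1 + Sc u * Dl with haldef
    have halC : al ∈ C := add_mem (one_mem _) (mul_mem (hS u) hDC)
    set de := 1 + T u * Dl with hdedef
    have hdeC : de ∈ C := add_mem (one_mem _) (mul_mem (hT u) hDC)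
    have k1 : e * (β * (B u * (Z * Y))) = 0 := by
      rw [← cmZ (hB u), ← cmZ hβ, ← cmZ heC, h1, mul_zero]
    have hYr : e * (β * (ρ u * Y)) = al * (e * (β * Y)) := by
      rw [hW u, W_mul_Y ha hb, mul_add, mul_add, k1, add_zero, cc hβ halC, cc heC halC]
    have hYl : e * (β * (Y * ρ u)) = de * (e * (β * Y)) := by
      rw [hW u, Y_mul_W ha hb (hA u) (hB u) (hS u) (hT u), mul_add, mul_add,
        show e * (β * (B u * (Y * Z))) = 0 by
          rw [← mul_assoc (B u), ← mul_assoc β, ← mul_assoc e, h1, zero_mul],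
        add_zero, cc hβ hdeC, cc heC hdeC]
    have hn : ∀ n : ℕ, e * (β * (ρ (u ^ n) * Y)) = al ^ n * (e * (β * Y)) := by
      intro n
      induction n with
      | zero => simp
      | succ n ih =>
        rw [pow_succ' u, map_mul, mul_assoc (ρ u), ← mul_assoc β, (cmρ hβ u).eq, mul_assoc (ρ u),
          ← mul_assoc e, (cmρ heC u).eq, mul_assoc (ρ u), ih, ← mul_assoc (ρ u),
          ← (cmρ (pow_mem halC n) u).eq, mul_assoc, ← mul_assoc (ρ u), ← (cmρ heC u).eq,
          mul_assoc e, ← mul_assoc (ρ u), ← (cmρ hβ u).eq, mul_assoc β, hYr, ← mul_assoc, ← pow_succ]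
    obtain ⟨k, hko, hk⟩ := hpow u hu
    have hone : al * (e * (β * Y)) = e * (β * Y) :=
      odd_trick hko hal.symm (by rw [← hn, hk, map_one, one_mul])
    have hde1 : de * (e * (β * Y)) = e * (β * Y) := by rw [← hYl, ← heq, hYr, hone]
    have hsD : e * (β * (Sc u * Y)) = 0 := by
      refine hDu _ ?_
      have h := hone
      rw [haldef, add_mul, one_mul, add_eq_left] at h
      rw [cc hDC hβ, cc hDC (hS u), ← h, mul_assoc, cc hDC heC, cc (hS u) heC, cc hDC hβ,
        cc (hS u) hβ]
    have htD : e * (β * (T u * Y)) = 0 := by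
      refine hDu _ ?_
      have h := hde1
      rw [hdedef, add_mul, one_mul, add_eq_left] at h
      rw [cc hDC hβ, cc hDC (hT u), ← h, mul_assoc, cc hDC heC, cc (hT u) heC, cc hDC hβ,
        cc (hT u) hβ]
    have kZ : e * (β * (B u * Z)) = 0 := by
      refine hDu _ ?_
      rw [cc hDC hβ, cc hDC (hB u), ← ZYZ (Y := Y) hb, ← cmZ (hB u), ← cmZ hβ, ← cmZ heC, ← mul_assoc (B u),
        ← mul_assoc β, ← mul_assoc e, h1, zero_mul, mul_zero]
    have ks : e * (β * (Sc u * (Y * Z))) = 0 := by
      rw [← mul_assoc (Sc u), ← mul_assoc β, ← mul_assoc e, hsD, zero_mul]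
    have kt : e * (β * (T u * (Z * Y))) = 0 := by
      rw [← cmZ (hT u), ← cmZ hβ, ← cmZ heC, htD, mul_zero]
    rw [hW u, W]
    simp only [mul_add, mul_one, kZ, ks, kt, add_zero]
    rw [cc hβ (hA u), cc heC (hA u)]
  have hone : (1 : Module.End (ZMod p) M) ∈ C := one_mem _
  have hcen : ∀ w ∈ (P : Subgroup H), IsC w → e * ρ w = e + A w * (e * Y) := by
    intro w hw hc
    have h := heρ _ _ (hc a haP)
    rw [map_mul, map_mul, show ρ a = 1 + Y by rw [hYdef]; abel, add_mul, one_mul, mul_add (ρ w),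
      mul_one, mul_add, mul_add, add_right_inj] at h
    have h' := upper w hw 1 hone (by rw [one_mul, one_mul]; exact h.symm)
    simpa only [one_mul, mul_one] using h'
  set β := A w0 with hβdef
  have hβC : β ∈ C := hA w0
  have hw0e := hcen w0 hw0 hw0c
  have hβY : e * (β * Y) ≠ 0 := fun h => hπw0 (by
    rw [cc heC hβC] at h
    rw [hπ, hw0e, h, add_zero, hfdef, add_sub_cancel])
  -- moving the central element
  have move : ∀ n ∈ Subgroup.normalizer ((P : Subgroup H) : Set H),
      e * ρ (n * w0 * n⁻¹) = e + A (n * w0 * n⁻¹) * (e * Y) ∧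
      e * (β * (B n * Y)) = 0 ∧ e * (A (n * w0 * n⁻¹) * (B n * Y)) = 0 ∧
      e * (A (n * w0 * n⁻¹) * Y) = (1 + Sc n * Dl) ^ 2 * (e * (β * Y)) := by
    intro n hn
    set w' := n * w0 * n⁻¹
    have hw' : w' ∈ (P : Subgroup H) := (Subgroup.mem_normalizer_iff.1 hn w0).1 hw0
    have hw'c : IsC w' := fun q hq => by
      have hq' : n⁻¹ * q * n ∈ (P : Subgroup H) := by
        have := (Subgroup.mem_normalizer_iff''.1 hn q).1 hq
        exact this
      have h := hw0c _ hq'
      rw [show q * w' = n * (n⁻¹ * q * n * w0) * n⁻¹ by simp only [w']; group,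
        show w' * q = n * (w0 * (n⁻¹ * q * n)) * n⁻¹ by simp only [w']; group]
      simp only [map_mul] at h ⊢
      rw [h]
    have hw'e := hcen w' hw' hw'c
    have h : e * (ρ n * ρ w0) = e * (ρ w' * ρ n) := by
      rw [← map_mul, ← map_mul]; simp [w']
    rw [← mul_assoc, (cmρ heC n).eq, mul_assoc, hw0e, ← mul_assoc e (ρ w'), hw'e, mul_add, add_mul,
      ← (cmρ heC n).eq, add_right_inj, ← cc heC hβC, ← mul_assoc (ρ n), ← (cmρ heC n).eq,
      mul_assoc e, ← mul_assoc (ρ n), ← (cmρ hβC n).eq, mul_assoc β, ← cc heC (hA w')] at h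
    simp only [mul_assoc] at h
    exact ⟨hw'e, alg n hβC (hA w') h⟩
  by_cases hmv : ∃ n ∈ Subgroup.normalizer ((P : Subgroup H) : Set H), (orderOf n).Coprime p ∧
      e * (A (n * w0 * n⁻¹) * Y) ≠ e * (β * Y)
  · -- the torus element
    obtain ⟨n, hn, hno, hne⟩ := hmv
    obtain ⟨hw'e, h1, h2, -⟩ := move n hn
    set β' := A (n * w0 * n⁻¹) with hβ'def
    have hβ'C : β' ∈ C := hA _
    set X := e * (β' * Y) - e * (β * Y) with hX
    have hXY : X * (e * (β * Y)) = 0 := by
      simp only [hX, sub_mul, mul_assoc]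
      rw [cmY heC, cmY hβC, ha]
      simp
    have hew0' : e * ρ w0⁻¹ = e - e * (β * Y) := by
      have h : (e + e * (β * Y)) * (e - e * (β * Y)) = e := by
        have e1 : e * (β * Y) * e = e * (β * Y) := by
          rw [mul_assoc, mul_assoc, (comY ha heC).symm.eq, ← mul_assoc β, (commute_S hβC heC).eq,
            mul_assoc, ← mul_assoc e, hee]
        have e2 : e * (β * Y) * (e * (β * Y)) = 0 := by
          simp only [mul_assoc, cmY heC, cmY hβC, ha, mul_zero]
        have e3 : e * (e * (β * Y)) = e * (β * Y) := by rw [← mul_assoc, hee]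
        rw [add_mul, mul_sub, mul_sub, hee, e1, e2, e3]
        abel
      rw [cc heC hβC] at h
      calc e * ρ w0⁻¹ = ρ w0⁻¹ * ((e + β * (e * Y)) * (e - β * (e * Y))) := by
            rw [h, (cmρ heC w0⁻¹).eq]
        _ = ρ w0⁻¹ * (ρ w0 * (e * (e - β * (e * Y)))) := by
            rw [hβdef, ← hw0e, (cmρ heC w0).eq, mul_assoc]
        _ = e - e * (β * Y) := by
            rw [← mul_assoc, ← map_mul, inv_mul_cancel, map_one, one_mul, mul_sub, hee,
              cc hβC heC, ← mul_assoc e e, hee]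
    set u := n * w0 * n⁻¹ * w0⁻¹ with hu
    have hρu : ρ u = 1 + X := by
      have he : e * ρ u = e + X := by
        have e1 : e * ρ u = (e * ρ (n * w0 * n⁻¹)) * (e * ρ w0⁻¹) := by
          rw [mul_assoc, ← mul_assoc (ρ (n * w0 * n⁻¹)), ← (cmρ heC _).eq, mul_assoc e,
            ← mul_assoc, hee, ← map_mul]
        rw [e1, hw'e, hew0', ← cc heC hβ'C]
        simp only [add_mul, mul_sub, hX]
        have f1 : e * (β' * Y) * e = e * (β' * Y) := by
          rw [mul_assoc, mul_assoc, (comY ha heC).symm.eq, ← mul_assoc β', (commute_S hβ'C heC).eq,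
            mul_assoc, ← mul_assoc e, hee]
        have f2 : e * (β' * Y) * (e * (β * Y)) = 0 := by
          simp only [mul_assoc, cmY heC, cmY hβC, ha, mul_zero]
        rw [hee, f1, f2, ← mul_assoc e e, hee]
        abel
      have hf : f * ρ u = f := by
        have hinv : f * ρ n⁻¹ = f := hfix _ (by rwa [orderOf_inv])
        rw [hu, map_mul, map_mul, map_mul, ← mul_assoc f, ← mul_assoc f, ← mul_assoc f, hfix n hno,
          (cmf w0).eq, mul_assoc (ρ w0), hinv, ← (cmf w0).eq, mul_assoc, ← map_mul, mul_inv_cancel,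
          map_one, mul_one]
      calc ρ u = e * ρ u + f * ρ u := by rw [← add_mul, hfdef, add_sub_cancel, one_mul]
        _ = 1 + X := by rw [he, hf, hfdef]; abel
    have hshape : Shape Y (ρ u) := by
      refine ⟨fun v hv => ?_, fun v => ?_⟩
      · rw [hρu, LinearMap.add_apply, Module.End.one_apply, hX]
        simp [hv]
      · rw [hρu, LinearMap.add_apply, Module.End.one_apply, add_sub_cancel_left, hX,
          LinearMap.sub_apply]
        refine sub_mem ⟨(e * β') v, ?_⟩ ⟨(e * β) v, ?_⟩
        · rw [← Module.End.mul_apply, ← (comY ha (mul_mem heC hβ'C)).eq, mul_assoc]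
        · rw [← Module.End.mul_apply, ← (comY ha (mul_mem heC hβC)).eq, mul_assoc]
    obtain ⟨k, hk⟩ := (isOfFinOrder_of_finite a).mem_powers_iff_mem_zpowers.2 (hR u hshape)
    have hkY : (k : ZMod p) • Y = X := by
      have h : ρ (a ^ k) = 1 + X := by rw [← hρu]; exact congrArg ρ hk
      rw [map_pow, pow_quad ha0, ← hYdef] at h
      exact add_left_cancel h
    have hX0 : X ≠ 0 := sub_ne_zero.2 hne
    have hk0 : (k : ZMod p) ≠ 0 := fun h => hX0 (by rw [← hkY, h, zero_smul])
    have heY' : e * Y = Y := by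
      have h : f * X = 0 := by
        rw [hX, mul_sub, ← mul_assoc f e, ← mul_assoc f e,
          show f * e = 0 by rw [hfdef, sub_mul, one_mul, hee, sub_self]]
        simp
      rw [← hkY, mul_smul_comm, smul_eq_zero_iff_right hk0, hfdef, sub_mul, one_mul,
        sub_eq_zero] at h
      exact h.symm
    have hbY : B n * Y = 0 := by
      have h : B n * X = 0 := by
        rw [hX, mul_sub, cc (hB n) heC, cc (hB n) hβ'C, h2, cc (hB n) heC, cc (hB n) hβC, h1,
          sub_zero]
      rwa [← hkY, mul_smul_comm, smul_eq_zero_iff_right hk0] at h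
    set al := 1 + Sc n * Dl with hal
    set de := 1 + T n * Dl with hde
    have halC : al ∈ C := add_mem hone (mul_mem (hS n) hDC)
    have hdeC : de ∈ C := add_mem hone (mul_mem (hT n) hDC)
    have hbZY : B n * (Z * Y) = 0 := by rw [← cmZ (hB n), hbY, mul_zero]
    have hbYZ : B n * (Y * Z) = 0 := by rw [← mul_assoc, hbY, zero_mul]
    have nY : ρ n * Y = al * Y := by rw [hW n, W_mul_Y ha hb, hbZY, add_zero]
    have Yn : Y * ρ n = de * Y := by
      rw [hW n, Y_mul_W ha hb (hA n) (hB n) (hS n) (hT n), hbYZ, add_zero]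
    have niY : ρ n⁻¹ * Y = de * Y := by
      rw [hW' n, W_mul_Y ha hb, neg_mul, hbZY, neg_zero, add_zero]
    have Yni : Y * ρ n⁻¹ = al * Y := by
      rw [hW' n, Y_mul_W ha hb (neg_mem (hA n)) (neg_mem (hB n)) (hT n) (hS n), neg_mul, hbYZ,
        neg_zero, add_zero]
    have hdal : de * (al * Y) = Y := by
      rw [← nY, ← mul_assoc, (cmρ hdeC n).eq, mul_assoc, ← niY, ← mul_assoc, ← map_mul,
        mul_inv_cancel, map_one, one_mul]
    have hconj : ρ (n * a * n⁻¹) = 1 + al * (al * Y) := by
      rw [map_mul, map_mul, show ρ a = 1 + Y by rw [hYdef]; abel, mul_add, mul_one, add_mul,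
        ← map_mul, mul_inv_cancel, map_one, mul_assoc, Yni, ← mul_assoc, ← (cmρ halC n).eq,
        mul_assoc, nY]
    obtain ⟨j, hj⟩ := (isOfFinOrder_of_finite a).mem_powers_iff_mem_zpowers.2 (hR (n * a * n⁻¹) (by
      refine ⟨fun v hv => ?_, fun v => ?_⟩
      · rw [hconj, LinearMap.add_apply, Module.End.one_apply]
        simp [hv]
      · rw [hconj, LinearMap.add_apply, Module.End.one_apply, add_sub_cancel_left]
        exact ⟨(al * al) v, by rw [← Module.End.mul_apply, ← (comY ha (mul_mem halC halC)).eq,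
          mul_assoc]⟩))
    have hc : al * (al * Y) = (j : ZMod p) • Y := by
      have h : ρ (a ^ j) = 1 + al * (al * Y) := by rw [← hconj]; exact congrArg ρ hj
      rw [map_pow, pow_quad ha0, ← hYdef] at h
      exact (add_left_cancel h).symm
    have hY0 : Y ≠ 0 := fun h => heY (by rw [h, mul_zero])
    refine ⟨n ^ 2, (j : ZMod p), fun h => hY0 ?_, fun h => hne ?_, ?_, ?_, fun v hv => ?_⟩
    · rw [h, zero_smul] at hc
      have h0 : al * Y = 0 := by
        calc al * Y = al * (de * (al * Y)) := by rw [hdal]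
          _ = de * (al * (al * Y)) := cc halC hdeC _
          _ = 0 := by rw [hc, mul_zero]
      rw [← hdal, h0, mul_zero]
    · rw [h, one_smul] at hc
      obtain ⟨-, -, -, h3⟩ := move n hn
      rw [h3, sq, mul_assoc, ← cc heC halC, ← cc hβC halC, ← cc heC halC, ← cc hβC halC, hc]
    · rw [map_pow, sq, mul_assoc, nY, ← mul_assoc, ← (cmρ halC n).eq, mul_assoc, nY, hc]
    · rw [map_pow, mul_smul_comm, sq, ← mul_assoc, Yn, mul_assoc, Yn, ← mul_smul_comm,
        ← mul_smul_comm, ← hc]
      rw [cc hdeC halC, hdal, hdal]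
    · have key : ∀ v, Y v = 0 → ρ n v - v ∈ LinearMap.range Y := by
        intro v hv
        have hnf : f * ρ n = f := hfix n hno
        have hebZ : e * (B n * Z) = 0 := by
          refine hDu _ ?_
          rw [cc hDC (hB n), ← ZYZ (Y := Y) hb, ← cmZ (hB n), hbYZ, mul_zero, mul_zero]
        have h : ρ n = 1 + (e * (A n * Y) + e * (Sc n * (Y * Z)) + e * (T n * (Z * Y))) := by
          calc ρ n = e * ρ n + f * ρ n := by rw [← add_mul, hfdef, add_sub_cancel, one_mul]
            _ = e * W Y Z (A n) (B n) (Sc n) (T n) + f := by rw [← hW n, hnf]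
            _ = _ := by
              simp only [W, mul_add, mul_one, hebZ, hfdef]
              abel
        rw [h]
        simp only [LinearMap.add_apply, Module.End.one_apply, add_sub_cancel_left,
          Module.End.mul_apply, hv, map_zero, add_zero, zero_add]
        refine ⟨e (Sc n (Z v)), ?_⟩
        rw [← Module.End.mul_apply Y e, ← (comY ha heC).eq, Module.End.mul_apply,
          ← Module.End.mul_apply Y (Sc n), ← (comY ha (hS n)).eq, Module.End.mul_apply]
      rw [map_pow, sq, Module.End.mul_apply,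
        show ρ n (ρ n v) - v = (ρ n (ρ n v) - ρ n v) + (ρ n v - v) by abel]
      obtain ⟨x, hx⟩ := key v hv
      refine add_mem ?_ ⟨x, hx⟩
      rw [← map_sub, ← hx]
      refine ⟨al x, ?_⟩
      rw [← Module.End.mul_apply, ← Module.End.mul_apply, nY, (comY ha halC).eq]
  · -- impossible: the normalizer centralises
    exfalso
    push Not at hmv
    set c := e * β with hcdef
    have hcC : c ∈ C := mul_mem heC hβC
    have hcY : c * Y ≠ 0 := by rwa [hcdef, mul_assoc]
    have hN : ∀ n ∈ Subgroup.normalizer ((P : Subgroup H) : Set H),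
        e * (A (n * w0 * n⁻¹) * Y) = e * (β * Y) := by
      let K : Subgroup H :=
        { carrier := {n | n ∈ Subgroup.normalizer ((P : Subgroup H) : Set H) ∧
            π (n * w0) = π (w0 * n)}
          one_mem' := ⟨one_mem _, by simp⟩
          mul_mem' := fun {u v} hu hv => ⟨mul_mem hu.1 hv.1, by
            rw [mul_assoc, map_mul, hv.2, ← map_mul, ← mul_assoc, map_mul, hu.2, ← map_mul,
              mul_assoc]⟩
          inv_mem' := fun {u} hu => ⟨inv_mem hu.1, by
            rw [show u⁻¹ * w0 = u⁻¹ * (w0 * u) * u⁻¹ by group, map_mul, map_mul, ← hu.2, ← map_mul,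
              ← map_mul]
            group⟩ }
      intro n hn
      suffices hK : n ∈ K by
        obtain ⟨hw'e, -⟩ := move n hn
        have h := heρ (n * w0 * n⁻¹) w0 (by rw [map_mul, hK.2, ← map_mul]; simp)
        rw [hw'e, hw0e, add_right_inj] at h
        rw [cc heC (hA _), h, cc heC hβC]
      obtain ⟨k, m, hm, hcard⟩ : ∃ k m, ¬ p ∣ m ∧ orderOf n = p ^ k * m :=
        ⟨_, _, Nat.not_dvd_ordCompl hpp (orderOf_pos n).ne', (Nat.ordProj_mul_ordCompl_eq_self _ p).symm⟩
      have hcop : Nat.Coprime (p ^ k) m := (Nat.Coprime.pow_left k (hpp.coprime_iff_not_dvd.2 hm))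
      obtain ⟨i, j, hij⟩ : ∃ i j : ℤ, (p ^ k : ℤ) * i + (m : ℤ) * j = 1 := by
        refine ⟨Nat.gcdA (p ^ k) m, Nat.gcdB (p ^ k) m, ?_⟩
        have := (Nat.gcd_eq_gcd_ab (p ^ k) m).symm
        rw [hcop] at this
        exact_mod_cast this
      have h1 : n ^ p ^ k ∈ K := by
        refine ⟨pow_mem hn _, ?_⟩
        obtain ⟨hw'e, -⟩ := move _ (pow_mem hn (p ^ k))
        have hord : (orderOf (n ^ p ^ k)).Coprime p := by
          rw [orderOf_pow, hcard, Nat.gcd_eq_right (Dvd.intro m rfl),
            Nat.mul_div_cancel_left m (pow_pos hpp.pos k)]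
          exact (hpp.coprime_iff_not_dvd.2 hm).symm
        have heq := hmv _ (pow_mem hn (p ^ k)) hord
        have h2 : π (n ^ p ^ k * w0 * (n ^ p ^ k)⁻¹) = π w0 := by
          rw [hπ, hπ, hw'e, hw0e, ← cc heC (hA _), heq, cc heC hβC]
        rw [map_mul π w0, ← h2, ← map_mul]
        simp
      have h2 : n ^ m ∈ K := by
        have hmem : n ^ m ∈ (P : Subgroup H) := by
          have hp' : IsPGroup p (Subgroup.zpowers (n ^ m)) := fun x => ⟨k, Subtype.ext (by
            obtain ⟨i, hi⟩ := x.2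
            rw [SubmonoidClass.coe_pow, ← hi, ← zpow_natCast, ← zpow_mul, mul_comm, zpow_mul,
              zpow_natCast, ← pow_mul, mul_comm m, ← hcard, pow_orderOf_eq_one, one_zpow]; rfl)⟩
          have hsup := hp'.to_sup_of_normal_right' (P.2) (H := Subgroup.zpowers (n ^ m))
            (K := (P : Subgroup H)) (Subgroup.zpowers_le.2 (pow_mem hn m))
          exact (P.3 hsup le_sup_right).le (Subgroup.mem_sup_left (Subgroup.mem_zpowers _))
        refine ⟨pow_mem hn m, ?_⟩
        rw [hw0c _ hmem]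
      have := mul_mem (K.zpow_mem h1 i) (K.zpow_mem h2 j)
      rw [← zpow_natCast, ← zpow_mul, ← zpow_natCast, ← zpow_mul, ← zpow_add, Nat.cast_pow, hij,
        zpow_one] at this
      exact this
    have hPN : (P : Subgroup H) ≤ Subgroup.normalizer ((P : Subgroup H) : Set H) :=
      Subgroup.le_normalizer
    have hPu : ∀ q ∈ (P : Subgroup H), c * ρ q = c + A q * (c * Y) := by
      intro q hq
      have h := upper q hq β hβC ?_
      · rw [hcdef, mul_assoc, mul_assoc]; exact h
      obtain ⟨hw'e, -⟩ := move q (hPN hq)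
      have hq' := hN q (hPN hq)
      have h := heρ _ _ (hw0c q hq)
      rw [map_mul, map_mul, ← mul_assoc, (cmρ heC q).eq, mul_assoc, hw0e, ← mul_assoc e (ρ w0),
        hw0e, mul_add, add_mul, ← (cmρ heC q).eq, add_right_inj, ← cc heC hβC,
        ← mul_assoc (ρ q), ← (cmρ heC q).eq, mul_assoc e, ← mul_assoc (ρ q), ← (cmρ hβC q).eq,
        mul_assoc β] at h
      rw [h]
      simp only [mul_assoc]
    have hPn : ∀ n ∈ Subgroup.normalizer ((P : Subgroup H) : Set H), ∀ q ∈ (P : Subgroup H),
        c * ρ (n * q * n⁻¹) = c * ρ q := by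
      intro n hn q hq
      obtain ⟨-, h1, -, h3⟩ := move n hn
      rw [hN n hn] at h3
      set al := 1 + Sc n * Dl with hal
      have halC : al ∈ C := add_mem hone (mul_mem (hS n) hDC)
      have hcb : c * (B n * Y) = 0 := by rw [hcdef, mul_assoc]; exact h1
      have e1 : c * (ρ n * Y) = al * (c * Y) := by
        rw [hW n, W_mul_Y ha hb, mul_add, ← cmZ (hB n), ← cmZ hcC, hcb, mul_zero, add_zero,
          cc hcC halC]
      have k2 : c * (B n * (Y * Z)) = 0 := by
        rw [← mul_assoc (B n), ← mul_assoc c, hcb, zero_mul]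
      have e2 : c * (Y * ρ n⁻¹) = al * (c * Y) := by
        rw [hW' n, Y_mul_W ha hb (neg_mem (hA n)) (neg_mem (hB n)) (hT n) (hS n), mul_add, neg_mul,
          mul_neg, k2, neg_zero, add_zero, cc hcC halC]
      calc c * ρ (n * q * n⁻¹) = ρ n * (c * ρ q) * ρ n⁻¹ := by
            rw [map_mul, map_mul, ← mul_assoc (ρ n), ← (cmρ hcC n).eq, mul_assoc c, mul_assoc c]
        _ = c + A q * (c * (ρ n * Y) * ρ n⁻¹) := by
            rw [hPu q hq, mul_add, add_mul, ← (cmρ hcC n).eq, mul_assoc c (ρ n), ← map_mul,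
              mul_inv_cancel, map_one, mul_one, ← mul_assoc (ρ n), ← (cmρ (hA q) n).eq,
              mul_assoc (A q), ← mul_assoc (ρ n), ← (cmρ hcC n).eq]
            simp only [mul_assoc]
        _ = c + A q * (c * Y) := by
            rw [e1, mul_assoc al, mul_assoc c, e2, ← mul_assoc al al, ← sq]
            congr 2
            rw [hcdef]
            simp only [mul_assoc]
            exact h3.symm
        _ = c * ρ q := (hPu q hq).symm
    -- act on the range of `c`
    let U : Submodule (ZMod p) M := LinearMap.range c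
    have hUinv : ∀ w : H, ∀ v ∈ U, ρ w v ∈ U := by
      rintro w _ ⟨v, rfl⟩
      exact ⟨ρ w v, by rw [← Module.End.mul_apply, (cmρ hcC w).eq, Module.End.mul_apply]⟩
    let ψ0 : H →* Module.End (ZMod p) U :=
      { toFun := fun w => (ρ w).restrict (hUinv w)
        map_one' := LinearMap.ext fun v => Subtype.ext (by simp)
        map_mul' := fun u w => LinearMap.ext fun v => Subtype.ext (by simp) }
    let ψ := ψ0.toHomUnits
    let G := ψ.range
    let φ := ψ.rangeRestrict
    haveI : Finite G := Finite.of_surjective ψ.rangeRestrict ψ.rangeRestrict_surjective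
    have hφs : Function.Surjective φ := ψ.rangeRestrict_surjective
    let σ : G →* Module.End (ZMod p) U := (Units.coeHom _).comp G.subtype
    have hσ : Function.Injective σ := fun u v h => Subtype.ext (Units.ext h)
    have hσφ : ∀ w, σ (φ w) = ψ0 w := fun w => rfl
    have heq : ∀ u w : H, c * ρ u = c * ρ w → φ u = φ w := by
      intro u w h
      refine hσ (LinearMap.ext fun v => Subtype.ext ?_)
      obtain ⟨x, hx⟩ := v.2
      rw [hσφ, hσφ]
      show ρ u (v : M) = ρ w v
      rw [← hx, ← Module.End.mul_apply, ← Module.End.mul_apply, ← (cmρ hcC u).eq,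
        ← (cmρ hcC w).eq, h]
    let Q : Sylow p G := P.mapSurjective hφs
    have hQ : (Q : Subgroup G) = (P : Subgroup H).map φ := Sylow.coe_mapSurjective ..
    have hQN : Subgroup.normalizer ((Q : Subgroup G) : Set G) ≤
        Subgroup.centralizer ((Q : Subgroup G) : Set G) := by
      intro g hg
      obtain ⟨h, rfl⟩ := hφs g
      let K : Subgroup H := (Q : Subgroup G).comap φ
      have hPK : (P : Subgroup H) ≤ K := fun x hx => show φ x ∈ (Q : Subgroup G) by
        rw [hQ]; exact ⟨x, hx, rfl⟩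
      let P₁ : Sylow p K := P.subtype hPK
      have hle : ((h • P : Sylow p H) : Subgroup H) ≤ K := by
        intro x hx
        rw [Sylow.coe_subgroup_smul, Subgroup.mem_pointwise_smul_iff_inv_smul_mem] at hx
        have hx' := hPK hx
        simp only [K, Subgroup.mem_comap, MulAut.smul_def, MulAut.conj_inv_apply, map_mul,
          map_inv] at hx' ⊢
        exact (Subgroup.mem_normalizer_iff''.1 hg (φ x)).2 hx'
      obtain ⟨k, hk⟩ := MulAction.exists_smul_eq K ((h • P).subtype hle) P₁
      have hkn : (k : H) * h ∈ Subgroup.normalizer ((P : Subgroup H) : Set H) := by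
        refine Sylow.smul_eq_iff_mem_normalizer.1 ?_
        rw [mul_smul]
        apply Sylow.ext
        have h' := congrArg (fun T : Sylow p K => (T : Subgroup K).map K.subtype) hk
        simp only [Sylow.smul_subtype, P₁, Sylow.coe_subtype] at h'
        rw [Subgroup.map_subgroupOf_eq_of_le hPK, Subgroup.map_subgroupOf_eq_of_le] at h'
        · exact h'
        · intro x hx
          rw [Subgroup.smul_def, Sylow.coe_subgroup_smul,
            Subgroup.mem_pointwise_smul_iff_inv_smul_mem] at hx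
          have := mul_mem (mul_mem k.2 (hle hx)) (inv_mem k.2)
          simpa [MulAut.conj_inv_apply, mul_assoc] using this
      have hcen : ∀ n ∈ Subgroup.normalizer ((P : Subgroup H) : Set H),
          φ n ∈ Subgroup.centralizer ((Q : Subgroup G) : Set G) := by
        intro n hn
        rw [Subgroup.mem_centralizer_iff]
        intro x hx
        rw [SetLike.mem_coe, hQ] at hx
        obtain ⟨q, hq, rfl⟩ := hx
        have := heq _ _ (hPn n hn q hq)
        rw [map_mul, map_mul, map_inv, mul_inv_eq_iff_eq_mul] at this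
        exact this.symm
      have hkc : φ (k : H) ∈ Subgroup.centralizer ((Q : Subgroup G) : Set G) := by
        have hkQ : φ (k : H) ∈ (Q : Subgroup G) := k.2
        rw [hQ] at hkQ
        obtain ⟨q, hq, e⟩ := hkQ
        exact e ▸ hcen q (hPN hq)
      have := mul_mem (inv_mem hkc) (hcen _ hkn)
      rwa [map_mul, inv_mul_cancel_left] at this
    set N0 := (MonoidHom.transferSylow Q hQN).ker
    have hcompl := MonoidHom.ker_transferSylow_isComplement' Q hQN
    have hN0 : (Nat.card N0).Coprime p :=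
      (hpp.coprime_iff_not_dvd.2 (MonoidHom.not_dvd_card_ker_transferSylow Q hQN)).symm
    have hgen' : Subgroup.closure ({φ a, φ b} : Set G) = ⊤ := by
      rw [← Set.image_pair, ← MonoidHom.map_closure, hgen,
        Subgroup.map_top_of_surjective _ hφs]
    have hq' : ∀ w, (ρ w - 1) * (ρ w - 1) = 0 → (σ (φ w) - 1) * (σ (φ w) - 1) = 0 := fun w h => by
      refine LinearMap.ext fun v => Subtype.ext ?_
      have := LinearMap.congr_fun h (v : M)
      simpa [hσφ, ψ0] using this
    have hcent : N0 ≤ Subgroup.center G := by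
      have key : ∀ u v : G, Subgroup.closure ({u, v} : Set G) = ⊤ →
          (σ u - 1) * (σ u - 1) = 0 → (σ v - 1) * (σ v - 1) = 0 →
            N0 ≤ Subgroup.centralizer {u} := by
        intro u v huv hu hv
        by_contra hne
        obtain ⟨h3, -⟩ := section_of_normal σ hp2 hσ huv hu hv N0 hN0 hne
        omega
      intro x hx
      have h1 := key _ _ hgen' (hq' a ha0) (hq' b hb0) hx
      have h2 := key _ _ (by rw [Set.pair_comm]; exact hgen') (hq' b hb0) (hq' a ha0) hx
      rw [Subgroup.mem_centralizer_singleton_iff] at h1 h2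
      refine Subgroup.mem_center_iff.2 fun g => ?_
      have hg : g ∈ Subgroup.centralizer ({x} : Set G) :=
        (hgen'.symm.le.trans ((Subgroup.closure_le _).2 (by
          rintro w (rfl | rfl)
          · exact Subgroup.mem_centralizer_singleton_iff.2 h1.symm
          · exact Subgroup.mem_centralizer_singleton_iff.2 h2.symm))) (Subgroup.mem_top g)
      exact Subgroup.mem_centralizer_singleton_iff.1 hg
    have hab : φ a * φ b = φ b * φ a := by
      obtain ⟨n1, hn1, q1, hq1, e1⟩ : ∃ n1 ∈ N0, ∃ q1 ∈ (Q : Subgroup G), n1 * q1 = φ a := by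
        obtain ⟨⟨⟨n1, hn1⟩, ⟨q1, hq1⟩⟩, e⟩ := (hcompl.existsUnique (φ a)).exists
        exact ⟨n1, hn1, q1, hq1, e⟩
      obtain ⟨n2, hn2, q2, hq2, e2⟩ : ∃ n2 ∈ N0, ∃ q2 ∈ (Q : Subgroup G), n2 * q2 = φ b := by
        obtain ⟨⟨⟨n2, hn2⟩, ⟨q2, hq2⟩⟩, e⟩ := (hcompl.existsUnique (φ b)).exists
        exact ⟨n2, hn2, q2, hq2, e⟩
      have hqq : q1 * q2 = q2 * q1 :=
        (Subgroup.mem_centralizer_iff.1 (hQN (Subgroup.le_normalizer hq2)) q1 hq1)
      have c1 : ∀ g, Commute n1 g := fun g => (Subgroup.mem_center_iff.1 (hcent hn1) g).symm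
      have c2 : ∀ g, Commute n2 g := fun g => (Subgroup.mem_center_iff.1 (hcent hn2) g).symm
      rw [← e1, ← e2]
      exact ((c1 _).mul_left (((c2 q1).symm).mul_right (show Commute q1 q2 from hqq))).eq
    refine hcY ?_
    have h : c * (ρ a * ρ b) = c * (ρ b * ρ a) := by
      refine LinearMap.ext fun v => ?_
      have h' := congrArg Subtype.val (LinearMap.congr_fun (congrArg σ hab) ⟨c v, v, rfl⟩)
      simp only [map_mul, hσφ] at h'
      have h'' : (ρ a * ρ b) (c v) = (ρ b * ρ a) (c v) := h'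
      rw [← map_mul, ← map_mul] at h'' ⊢
      rwa [← Module.End.mul_apply, ← Module.End.mul_apply, ← (cmρ hcC _).eq,
        ← (cmρ hcC _).eq] at h''
    rw [show ρ a = 1 + Y by rw [hYdef]; abel, show ρ b = 1 + Z by rw [hZdef]; abel] at h
    have h2 : c * (Y * Z) = c * (Z * Y) := by
      simp only [mul_add, add_mul, one_mul, mul_one, ← add_assoc] at h
      exact add_left_cancel (h.trans (by abel))
    have h3 := congrArg (fun X => X * Y) h2
    simp only [mul_assoc, YZY (Z := Z) ha, ha, mul_zero] at h3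
    rw [hcdef, mul_assoc] at h3 ⊢
    exact hDu _ (by rw [cc hDC hβC]; exact h3)

/-- A torus element for a quadratic element outside `O_p`. -/
theorem exists_torus (hp : 5 ≤ p) (hρ : Function.Injective ρ) {a : H}
    (ha : (ρ a - 1) * (ρ a - 1) = 0) (hna : a ∉ pCore p H)
    (hR : ∀ w : H, Shape (ρ a - 1) (ρ w) → w ∈ Subgroup.zpowers a) :
    ∃ (g : H) (c : ZMod p), c ≠ 0 ∧ c ≠ 1 ∧ Layers (ρ a - 1) (ρ g) c := by
  obtain ⟨h, hnp⟩ := QuadraticQd.exists_pair ρ hρ ha hna
  set K := Subgroup.closure ({a, h * a * h⁻¹} : Set H) with hK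
  obtain ⟨g, c, h0, h1, hg⟩ := torus_of_pair (ρ.comp K.subtype) hp
    (hρ.comp K.subtype_injective) (QuadraticGroup.closure_pair a (h * a * h⁻¹)) hnp ha
    (quad_conj ρ h ha) fun w hw => by
      obtain ⟨i, hi⟩ := hR (w : H) hw
      exact ⟨i, Subtype.ext hi⟩
  exact ⟨g, c, h0, h1, hg⟩

end Cfsg.Agent.QuadPairTorus1
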