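import Mathlib
import Cfsg.Agent.Lib.FlagData1
import Cfsg.Agent.Lib.QuadPairTorus1

/-!
The case of a quadratic central element: the torus element is incompatible with the uniform steps.
Also: if the Sylow subgroup has order more than `p ^ 2` the central element is quadratic.
-/

set_option autoImplicit false
set_option linter.unusedSectionVars false

namespace Cfsg.Agent.FlagTorusCase1

open Cfsg FlagRep1 FlagData1

variable {p : ℕ} [hp : Fact p.Prime]
variable {H : Type*} [Group H] [Finite H] {V : Type*} [AddCommGroup V] [Module (ZMod p) V]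
variable {ρ : H →* Module.End (ZMod p) V} {T : Sylow p H} {x y : H} {v0 : V} {d s : ℕ}
variable (hS : Setup ρ T x y v0 d s)

local notation "J" => ρ x - 1
local notation "Y" => ρ y - 1

/-- The words in `x` and `y`. -/
def IsWord (T : Sylow p H) (x y : H) : Prop :=
  ∀ t ∈ (T : Subgroup H), ∃ a b : ℕ, t = x ^ a * y ^ b

include hS

theorem y_notMem_core : y ∉ pCore p H := by
  rw [hS.core, Subgroup.mem_bot]; exact hS.y_ne

theorem exists_step {z : H} (hz : z ∈ (T : Subgroup H))
    (hn : ∃ a b : ℕ, z * x * z⁻¹ = x ^ a * y ^ b) : ∃ k : ℕ, z * x * z⁻¹ = x * y ^ k := by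
  obtain ⟨a, b, hab⟩ := hn
  refine ⟨b, ?_⟩
  have h := congrArg (stp hS) hab
  rw [stp_word hS, stp_mul hS (mul_mem hz hS.xT) (inv_mem hz), stp_mul hS hz hS.xT, stp_inv hS hz,
    stp_x hS] at h
  rw [hab, pow_eq_of_cast hS hS.xT (l := 1) (by rw [Nat.cast_one]; rw [← h]; ring), pow_one]

/-- If `T` is bigger than `⟨x, y⟩`, some element moves `x` by a nontrivial power of `y`. -/
theorem exists_z (hT : ¬ IsWord T x y) :
    ∃ z ∈ (T : Subgroup H), ∃ k : ℕ, (k : ZMod p) ≠ 0 ∧ z * x * z⁻¹ = x * y ^ k := by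
  classical
  let N : Subgroup ↥(T : Subgroup H) :=
    { carrier := {t | ∃ a b : ℕ, (t : H) = x ^ a * y ^ b}
      one_mem' := ⟨0, 0, by simp⟩
      mul_mem' := fun {u v} ⟨a, b, hu⟩ ⟨a', b', hv⟩ => ⟨a + a', b + b', by
        rw [Subgroup.coe_mul, hu, hv, pow_add, pow_add, mul_assoc, ← mul_assoc (y ^ b),
          ← (((hS.ycomm x hS.xT)).pow_pow a' b).eq]
        simp only [mul_assoc]⟩
      inv_mem' := fun {u} ⟨a, b, hu⟩ => by
        refine ⟨a * (p - 1), b * (p - 1), ?_⟩
        have hxy : Commute (x ^ a) (y ^ b) := (hS.ycomm x hS.xT).pow_pow a b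
        rw [Subgroup.coe_inv, pow_mul, pow_mul, ← hxy.mul_pow, ← hu]
        refine inv_eq_of_mul_eq_one_right ?_
        rw [← pow_succ', Nat.sub_add_cancel hp.out.one_le, pow_p hS u.2] }
  haveI : Group.IsNilpotent ↥(T : Subgroup H) := T.2.isNilpotent
  have hlt : N < ⊤ := by
    refine lt_top_iff_ne_top.2 fun h => hT fun t ht => ?_
    exact (h ▸ Subgroup.mem_top (⟨t, ht⟩ : ↥(T : Subgroup H)) : (⟨t, ht⟩ : ↥(T : Subgroup H)) ∈ N)
  obtain ⟨z, hzN, hzn⟩ := SetLike.exists_of_lt
    ((Group.normalizerCondition_of_isNilpotent (G := ↥(T : Subgroup H))) N hlt)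
  have hxN : (⟨x, hS.xT⟩ : ↥(T : Subgroup H)) ∈ N := ⟨1, 0, by simp⟩
  obtain ⟨k, hzx⟩ := exists_step hS z.2 ((Subgroup.mem_normalizer_iff.1 hzN _).1 hxN)
  have hk : (k : ZMod p) ≠ 0 := by
    intro h
    rw [pow_eq_one_of_cast hS hS.yT h, mul_one, mul_inv_eq_iff_eq_mul] at hzx
    exact hzn (hS.cent _ z.2 hzx)
  exact ⟨z, z.2, k, hk, hzx⟩

/-- If `T` is bigger than `⟨x, y⟩` then `y` is quadratic. -/
theorem two_mul_shift (hT : ¬ IsWord T x y) : d + 1 ≤ 2 * s := by
  classical
  have hsd := hS.s_lt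
  have hs2 := hS.s_ge
  obtain ⟨z, hzT, k, hk, hzx⟩ := exists_z hS hT
  by_contra hlt'
  set Z := ρ z - 1 with hZ
  obtain ⟨c, hc, hsh⟩ := hS.shift
  obtain ⟨u, -, hu⟩ := Y_surj hS (k := 0) (v := (J ^ s) v0) (by rw [zero_add]; exact pow_mem s v0)
  -- `Q` with `Y = J ^ s * Q`
  obtain ⟨q, hq⟩ : ∃ q : V, (J ^ s) q = Y v0 := by
    obtain ⟨q, hq⟩ := Y_v0 hS
    exact ⟨q, hq⟩
  obtain ⟨e, he⟩ := exists_poly hS.cyc q
  set Q := ∑ i ∈ Finset.range d, e i • J ^ i with hQ
  have hQJ : Commute Q J := (commute_sum J (Commute.refl _) e).symm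
  have hYQ : Y = J ^ s * Q := by
    refine ext_of_commute hS.cyc (Y_J hS) (((Commute.refl _).pow_left s).mul_left hQJ) ?_
    rw [Module.End.mul_apply, he, hq]
  have hZQ : ∀ v, Z (Q v) - Q (Z v) ∈ Vk J s := by
    intro v
    rw [hQ, LinearMap.sum_apply, LinearMap.sum_apply, map_sum, ← Finset.sum_sub_distrib]
    refine Submodule.sum_mem _ fun i _ => ?_
    rw [LinearMap.smul_apply, LinearMap.smul_apply, map_smul, ← smul_sub]
    refine Submodule.smul_mem _ _ ?_
    rcases Nat.eq_zero_or_pos i with rfl | hi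
    · simp
    have h := comm_lead hS hzT hzx i v
    have h2 : ((i : ZMod p) * k) • (J ^ (i - 1)) (Y v) ∈ Vk J s :=
      Submodule.smul_mem _ _ (Vk_anti (by omega)
        (pow_mem_add (i - 1) (Y_mem hS (k := 0) (mem_Vk_zero v))))
    have := Submodule.add_mem _ (Vk_anti (show s ≤ s + i by omega) h) h2
    rwa [sub_add_cancel] at this
  have hcomm : Z (Y v0) = Y (Z v0) :=
    LinearMap.congr_fun ((commute_Y hS hzT).sub_left (Commute.one_left _)).eq v0
  have h := comm_lead hS hzT hzx s (Q v0)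
  rw [show (J ^ s) (Q v0) = Y v0 by rw [hYQ, Module.End.mul_apply], hcomm,
    show Y (Z v0) = (J ^ s) (Q (Z v0)) by rw [hYQ, Module.End.mul_apply]] at h
  have h' : (J ^ s) (Q (Z v0)) - (J ^ s) (Z (Q v0)) ∈ Vk J (s + s) := by
    rw [← map_sub]
    refine pow_mem_add s ?_
    have := Submodule.neg_mem _ (hZQ v0)
    rwa [neg_sub] at this
  have h2 := Submodule.sub_mem _ h' h
  rw [sub_sub_cancel] at h2
  -- the leading coefficient of `Y (Q v0)`
  obtain ⟨c', hc'⟩ := decomp hS.cyc (mem_Vk_zero (Q v0))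
  rw [pow_zero, Module.End.one_apply] at hc'
  have hYv : Y v0 - c' • (J ^ s) v0 ∈ Vk J (s + 1) := by
    rw [hYQ, Module.End.mul_apply, ← map_smul, ← map_sub]
    exact pow_mem_add s hc'
  have hcc : c' = c := coeff_unique hS.cyc (by omega) hYv hsh
  have hY2 : Y (Q v0) - (c * c) • (J ^ s) v0 ∈ Vk J (s + 1) := by
    have h3 := Y_mem hS hc'
    rw [map_sub, map_smul, hcc] at h3
    have h4 := Submodule.smul_mem _ c hsh
    rw [smul_sub, smul_smul] at h4
    have := Submodule.add_mem _ (Vk_anti (show s + 1 ≤ 1 + s by omega) h3) h4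
    rwa [sub_add_sub_cancel] at this
  have h5 := Submodule.smul_mem _ ((s : ZMod p) * k) (pow_mem_add (s - 1) hY2)
  rw [map_sub, map_smul, smul_sub, smul_smul, ← pow_apply_add] at h5
  have h6 := Submodule.sub_mem _ (Vk_anti (show s - 1 + s + 1 ≤ s + s by omega) h2)
    (Vk_anti (show s - 1 + s + 1 ≤ s - 1 + (s + 1) by omega) h5)
  rw [sub_sub_cancel] at h6
  rcases mul_eq_zero.1 (coeff_zero hS.cyc (by omega) h6) with h7 | h7
  · rcases mul_eq_zero.1 h7 with h8 | h8
    · rw [ZMod.natCast_eq_zero_iff] at h8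
      have := Nat.le_of_dvd (by omega) h8
      have := hS.d_lt
      omega
    · exact hk h8
  · exact hc ((mul_self_eq_zero).1 h7)

/-- The quadratic case is impossible. -/
theorem quadratic_absurd (hp5 : 5 ≤ p) (h4 : 4 ≤ d) (h2 : d ≤ 2 * s) : False := by
  have hsd := hS.s_lt
  have hs2 := hS.s_ge
  haveI : Finite V := by
    haveI : NeZero p := ⟨hp.out.ne_zero⟩
    refine Finite.of_surjective
      (fun c : Fin d → ZMod p => ∑ i : Fin d, c i • (J ^ (i : ℕ)) v0) fun v => ?_
    obtain ⟨c, hc⟩ := hS.cyc.span v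
    exact ⟨fun i => c i, by rw [hc, Finset.sum_range]⟩
  have hY2 : Y * Y = 0 := LinearMap.ext fun v =>
    eq_zero_of_mem hS.cyc (k := 0 + s + s) (by omega) (Y_mem hS (Y_mem hS (mem_Vk_zero v)))
  obtain ⟨g, c, hc0, hc1, hgY, hYg, hmid⟩ := QuadPairTorus1.exists_torus ρ hp5 hS.inj hY2
    (y_notMem_core hS) fun w hw => shape_mem hS h2 hw.1 hw.2
  set G := ρ g with hG
  have hbot : ∀ v ∈ Vk J s, G v = c • v := by
    intro v hv
    obtain ⟨w, rfl⟩ := (mem_range_Y hS).2 hv
    exact LinearMap.congr_fun hgY w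
  have htop : ∀ v, G v - c⁻¹ • v ∈ Vk J (d - s) := by
    intro v
    have h : Y (c • G v - v) = 0 := by
      rw [map_sub, show Y (c • G v) = (Y * (c • G)) v from rfl, hYg, sub_self]
    have h' := Submodule.smul_mem _ c⁻¹ (Y_ker hS h)
    rwa [smul_sub, smul_smul, inv_mul_cancel₀ hc0, one_smul] at h'
  have hmid' : ∀ v ∈ Vk J (d - s), G v - v ∈ Vk J s := fun v hv =>
    (mem_range_Y hS).1 (hmid v (Y_eq_zero hS hv))
  let μ : ℕ → ZMod p := fun k => if k < d - s then c⁻¹ else if k < s then 1 else c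
  have hlayer : ∀ k, ∀ v ∈ Vk J k, k < d → G v - μ k • v ∈ Vk J (k + 1) := by
    intro k v hv hk
    by_cases h1 : k < d - s
    · simp only [μ, if_pos h1]
      exact Vk_anti (by omega) (htop v)
    by_cases h3 : k < s
    · simp only [μ, if_neg h1, if_pos h3, one_smul]
      exact Vk_anti (by omega) (hmid' v (Vk_anti (by omega) hv))
    · simp only [μ, if_neg h1, if_neg h3]
      rw [hbot v (Vk_anti (by omega) hv), sub_self]
      exact Submodule.zero_mem _
  have hGk : ∀ k, ∀ v ∈ Vk J k, G v ∈ Vk J k := by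
    intro k v hv
    by_cases hk : d ≤ k
    · rw [eq_zero_of_mem hS.cyc hk hv, map_zero]
      exact Submodule.zero_mem _
    have := Submodule.add_mem _ (Vk_anti (by omega) (hlayer k v hv (by omega)))
      (Submodule.smul_mem _ (μ k) hv)
    rwa [sub_add_cancel] at this
  have hinvk : ∀ k, ∀ v ∈ Vk J k, ρ g⁻¹ v ∈ Vk J k := by
    have key : ∀ n k, ∀ v ∈ Vk J k, ρ (g ^ n) v ∈ Vk J k := by
      intro n
      induction n with
      | zero => intro k v hv; simpa using hv
      | succ n ih =>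
        intro k v hv
        rw [pow_succ', map_mul, Module.End.mul_apply]
        exact hGk k _ (ih k v hv)
    intro k v hv
    have e : g⁻¹ = g ^ (orderOf g - 1) := by
      refine inv_eq_of_mul_eq_one_right ?_
      rw [← pow_succ', Nat.sub_add_cancel (orderOf_pos g), pow_orderOf_eq_one]
    rw [e]
    exact key _ k v hv
  have hconjT : ∀ t ∈ (T : Subgroup H), g * t * g⁻¹ ∈ (T : Subgroup H) := by
    intro t ht
    refine mem_T hS fun j v hv => ?_
    rw [show ρ (g * t * g⁻¹) v - v = G (ρ t (ρ g⁻¹ v) - ρ g⁻¹ v) by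
      rw [hG, map_sub, ← Module.End.mul_apply, ← Module.End.mul_apply, ← Module.End.mul_apply,
        ← map_mul, ← map_mul, ← map_mul, mul_inv_cancel, map_one, Module.End.one_apply, mul_assoc]]
    exact hGk _ _ (hS.move t ht j _ (hinvk j v hv))
  set w := g * x * g⁻¹ with hw
  have hwT := hconjT x hS.xT
  set a := stp hS w with ha
  have hrel : ∀ k, k + 3 ≤ d → μ (k + 1) = a * μ k := by
    intro k hk
    set u := G ((J ^ k) v0)
    have h1 : ρ w u - u = G ((J ^ (k + 1)) v0) := by
      rw [pow_succ', Module.End.mul_apply, LinearMap.sub_apply, Module.End.one_apply, map_sub]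
      rw [show ρ w u = G (ρ x ((J ^ k) v0)) by
        show ρ w (ρ g _) = ρ g _
        rw [← Module.End.mul_apply (ρ w) (ρ g), ← map_mul, show w * g = g * x by simp [hw],
          map_mul, Module.End.mul_apply]]
    have h3 := hS.move w hwT _ _ (hlayer k _ (pow_mem k v0) (by omega))
    rw [map_sub, map_smul] at h3
    have h4 := Submodule.smul_mem _ (μ k) (stp_spec hS hwT hk)
    rw [smul_sub, smul_sub, smul_smul, ← ha] at h4
    have h5 := hlayer (k + 1) _ (pow_mem (k + 1) v0) (by omega)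
    rw [← h1] at h5
    refine coeff_unique hS.cyc (k := k + 1) (v := ρ w u - u) (by omega) h5 ?_
    have h6 := Submodule.add_mem _ (Vk_anti (show k + 1 + 1 ≤ k + 1 + 1 by omega) h3) h4
    convert h6 using 1
    rw [mul_comm a (μ k)]
    abel
  have hm1 : 1 ≤ d - s := by omega
  have hmu_top : ∀ k, k < d - s → μ k = c⁻¹ := fun k hk => by simp [μ, hk]
  by_cases hms : d - s < s
  · have hmu_mid : ∀ k, d - s ≤ k → k < s → μ k = 1 := fun k hk hk' => by
      simp [μ, not_lt.2 hk, hk']
    have hr := hrel (d - s - 1) (by omega)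
    rw [Nat.sub_add_cancel hm1, hmu_mid _ le_rfl hms, hmu_top _ (by omega)] at hr
    rcases Nat.lt_or_ge 1 (d - s) with hm2 | hm2
    · have hr0 := hrel 0 (by omega)
      rw [hmu_top _ hm2, hmu_top 0 (by omega)] at hr0
      have hci : c⁻¹ ≠ 0 := inv_ne_zero hc0
      have ha1 : a = 1 := by
        have := mul_right_cancel₀ hci (show 1 * c⁻¹ = a * c⁻¹ by rw [one_mul]; exact hr0)
        exact this.symm
      rw [ha1, one_mul] at hr
      exact hc1 (inv_eq_one.1 hr.symm)
    · have hr1 := hrel 1 (by omega)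
      rw [hmu_mid 1 (by omega) (by omega), hmu_mid 2 (by omega) (by omega), mul_one] at hr1
      rw [← hr1, one_mul] at hr
      exact hc1 (inv_eq_one.1 hr.symm)
  · have hds : d = 2 * s := by omega
    have hW : IsWord T x y := by
      by_contra h
      have := two_mul_shift hS h
      omega
    have hr0 := hrel 0 (by omega)
    rw [hmu_top _ (by omega), hmu_top 0 (by omega)] at hr0
    have hci : c⁻¹ ≠ 0 := inv_ne_zero hc0
    have ha1 : a = 1 := by
      have := mul_right_cancel₀ hci (show 1 * c⁻¹ = a * c⁻¹ by rw [one_mul]; exact hr0)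
      exact this.symm
    have hr := hrel (d - s - 1) (by omega)
    rw [Nat.sub_add_cancel hm1, hmu_top (d - s - 1) (by omega), ha1, one_mul,
      show μ (d - s) = c by simp [μ, show ¬ (d - s < d - s) by omega, show ¬ (d - s < s) by omega]] at hr
    -- `g` centralises `y`
    have hgy : g * y * g⁻¹ = y := by
      apply hS.inj
      have hYi : Y * ρ g⁻¹ = c • Y := by
        conv_lhs => rw [← hYg]
        rw [mul_assoc, smul_mul_assoc, hG, ← map_mul, mul_inv_cancel, map_one, mul_smul_comm,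
          mul_one]
      rw [map_mul, map_mul, show ρ g = G from rfl,
        show G * ρ y * ρ g⁻¹ = G * ρ g⁻¹ + G * (Y * ρ g⁻¹) by noncomm_ring,
        hYi, mul_smul_comm, hgY, smul_smul, show c * c = 1 by
          nth_rewrite 2 [hr]; exact mul_inv_cancel₀ hc0, one_smul,
        show G = ρ g from rfl, ← map_mul, mul_inv_cancel, map_one]
      abel
    obtain ⟨a', k', hwk⟩ := hW w hwT
    have hwa : (a' : ZMod p) = 1 := by rw [← stp_word hS a' k', ← hwk, ← ha, ha1]
    have := hS.weight g hconjT hW (c⁻¹) a' 1 k' ?_ hwk (by rw [pow_one, hgy])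
    · rw [hwa, Nat.cast_one, mul_one] at this
      exact hc1 (inv_eq_one.1 this)
    · have h0 := hlayer 0 v0 (mem_Vk_zero v0) (by omega)
      rwa [hmu_top 0 (by omega), zero_add] at h0

end Cfsg.Agent.FlagTorusCase1
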