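import Mathlib
import Cfsg.Agent.Lib.FlagTorusCase1

/-!
The case `T = ⟨x, y⟩`: regular elements, the normaliser of `⟨y⟩` and its trivial intersections.
-/

set_option autoImplicit false
set_option linter.unusedSectionVars false

namespace Cfsg.Agent.FlagRegular1

open Cfsg FlagRep1 FlagData1 FlagTorusCase1

variable {p : ℕ} [hp : Fact p.Prime]
variable {H : Type*} [Group H] [Finite H] {V : Type*} [AddCommGroup V] [Module (ZMod p) V]
variable {ρ : H →* Module.End (ZMod p) V} {T : Sylow p H} {x y : H} {v0 : V} {d s : ℕ}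
variable (hS : Setup ρ T x y v0 d s)

local notation "J" => ρ x - 1
local notation "Y" => ρ y - 1

/-- The normaliser of `⟨y⟩`. -/
def NY (y : H) : Subgroup H := Subgroup.normalizer (Subgroup.zpowers y : Set H)

include hS

theorem T_le_NY : (T : Subgroup H) ≤ NY y := by
  intro t ht
  rw [NY, Subgroup.mem_normalizer_iff]
  intro w
  constructor
  · intro hw
    obtain ⟨i, rfl⟩ := Subgroup.mem_zpowers_iff.1 hw
    rw [((hS.ycomm t ht).zpow_right i).eq, mul_inv_cancel_right]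
    exact Subgroup.zpow_mem_zpowers y i
  · intro hw
    obtain ⟨i, hi⟩ := Subgroup.mem_zpowers_iff.1 hw
    have e : w = t⁻¹ * (y ^ i * t) := by rw [hi]; group
    rw [e, ((hS.ycomm t ht).zpow_right i).symm.eq, inv_mul_cancel_left]
    exact Subgroup.zpow_mem_zpowers y i

theorem nat_pow_of_zpowers {g w : H} (h : g ∈ Subgroup.zpowers w) : ∃ b : ℕ, g = w ^ b := by
  obtain ⟨b, hb⟩ := (isOfFinOrder_of_finite w).mem_powers_iff_mem_zpowers.2 h
  exact ⟨b, hb.symm⟩

theorem orderOf_y : orderOf y = p := orderOf_eq_prime (pow_p hS hS.yT) hS.y_ne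

theorem exists_conj_pow {n : H} (hn : n ∈ NY y) : ∃ b : ℕ, n * y * n⁻¹ = y ^ b :=
  nat_pow_of_zpowers hS ((Subgroup.mem_normalizer_iff.1 hn y).1 (Subgroup.mem_zpowers y))

theorem y_pow_iff {a b : ℕ} : y ^ a = y ^ b ↔ (a : ZMod p) = b := by
  rw [pow_eq_pow_iff_modEq, orderOf_y hS, ZMod.natCast_eq_natCast_iff]

omit hS in
theorem mem_normalizer_of_le {n : H} (hn : ∀ t ∈ (T : Subgroup H), n * t * n⁻¹ ∈ (T : Subgroup H)) :
    n ∈ Subgroup.normalizer ((T : Subgroup H) : Set H) := by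
  rw [Subgroup.mem_normalizer_iff]
  have key : ∀ m : ℕ, ∀ t ∈ (T : Subgroup H), n ^ m * t * (n ^ m)⁻¹ ∈ (T : Subgroup H) := by
    intro m
    induction m with
    | zero => simp
    | succ m ih =>
      intro t ht
      have := hn _ (ih t ht)
      simpa [pow_succ', mul_assoc] using this
  refine fun t => ⟨hn t, fun h => ?_⟩
  have := key (orderOf n - 1) _ h
  have e : n ^ (orderOf n - 1) = n⁻¹ := (inv_eq_of_mul_eq_one_right (by
    rw [← pow_succ', Nat.sub_add_cancel (orderOf_pos n), pow_orderOf_eq_one])).symm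
  simpa [e, mul_assoc] using this

theorem mem_T_of_normalizes {n : H} (hn : ∀ t ∈ (T : Subgroup H), n * t * n⁻¹ ∈ (T : Subgroup H))
    (hp' : ∃ k, n ^ p ^ k = 1) : n ∈ (T : Subgroup H) := by
  obtain ⟨k, hk⟩ := hp'
  have h1 : IsPGroup p (Subgroup.zpowers n) := fun w => ⟨k, Subtype.ext (by
    obtain ⟨i, hi⟩ := w.2
    rw [SubmonoidClass.coe_pow, ← hi, ← zpow_natCast, ← zpow_mul, mul_comm, zpow_mul, zpow_natCast,
      hk, one_zpow]; rfl)⟩
  have h2 : Subgroup.zpowers n ≤ Subgroup.normalizer ((T : Subgroup H) : Set H) := by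
    rw [Subgroup.zpowers_le]
    exact mem_normalizer_of_le hn
  exact (T.3 (h1.to_sup_of_normal_right' T.2 h2) le_sup_right).le
    (Subgroup.mem_sup_left (Subgroup.mem_zpowers n))
theorem flag_of_normalizes {n : H}
    (hn : ∀ t ∈ (T : Subgroup H), n * t * n⁻¹ ∈ (T : Subgroup H)) :
    ∀ k, ∀ v ∈ Vk J k, ρ n v ∈ Vk J k := by
  intro k
  induction k with
  | zero => intro v _; exact mem_Vk_zero _
  | succ k ih =>
    rintro _ ⟨u, rfl⟩
    have e : ρ n ((J ^ (k + 1)) u) = ρ (n * x * n⁻¹) (ρ n ((J ^ k) u)) - ρ n ((J ^ k) u) := by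
      rw [← Module.End.mul_apply (ρ (n * x * n⁻¹)), ← map_mul, inv_mul_cancel_right, map_mul,
        Module.End.mul_apply, pow_succ', Module.End.mul_apply, ← map_sub]
      rfl
    rw [e]
    exact hS.move _ (hn x hS.xT) k _ (ih _ (pow_mem k u))

variable (hW : IsWord T x y)
include hW

theorem comm_T {t u : H} (ht : t ∈ (T : Subgroup H)) (hu : u ∈ (T : Subgroup H)) : Commute t u := by
  obtain ⟨a, b, rfl⟩ := hW t ht
  have h : Commute u x := by
    obtain ⟨c, e, rfl⟩ := hW u hu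
    exact ((Commute.refl x).pow_left c).mul_left ((hS.ycomm x hS.xT).symm.pow_left e)
  exact (((h.pow_right a).mul_right ((hS.ycomm u hu).pow_right b))).symm

theorem commute_J {t : H} (ht : t ∈ (T : Subgroup H)) : Commute (ρ t) J :=
  ((comm_T hS hW ht hS.xT).map ρ).sub_right (Commute.one_right _)

theorem eq_pow_of_stp {t : H} (ht : t ∈ (T : Subgroup H)) (h : stp hS t = 0) :
    ∃ b : ℕ, t = y ^ b := by
  obtain ⟨a, b, rfl⟩ := hW t ht
  rw [stp_word] at h
  exact ⟨b, by rw [pow_eq_one_of_cast hS hS.xT h, one_mul]⟩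

omit hW in
theorem nil_y (b : ℕ) : (ρ (y ^ b) - 1) ^ (d - 1) = 0 := by
  refine LinearMap.ext fun v => ?_
  have key : ∀ n j, ∀ u ∈ Vk J j, ((ρ (y ^ b) - 1) ^ n) u ∈ Vk J (j + n * s) := by
    intro n
    induction n with
    | zero => intro j u hu; simpa using hu
    | succ n ih =>
      intro j u hu
      rw [pow_succ, Module.End.mul_apply, Nat.succ_mul, add_comm (n * s), ← add_assoc]
      exact ih _ _ (pow_y_sub_one_apply hS b hu)
  refine eq_zero_of_mem hS.cyc ?_ (key (d - 1) 0 v (mem_Vk_zero v))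
  have := hS.s_ge
  have := hS.d_ge
  have : (d - 1) * 2 ≤ (d - 1) * s := Nat.mul_le_mul le_rfl hS.s_ge
  omega

theorem lead_regular {t : H} (ht : t ∈ (T : Subgroup H)) (n : ℕ) :
    ((ρ t - 1) ^ n) v0 - (stp hS t ^ n) • (J ^ n) v0 ∈ Vk J (n + 1) := by
  have hX : Commute (ρ t - 1) J := (commute_J hS hW ht).sub_left (Commute.one_left _)
  have h1 : (ρ t - 1) v0 - stp hS t • ((J : Module.End (ZMod p) V) ^ 1) v0 ∈ Vk J (1 + 1) := by
    rw [pow_one]; exact stp_zero_spec hS ht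
  induction n with
  | zero => simp
  | succ n ih =>
    have h2 := hS.move t ht _ _ ih
    have h3 := Submodule.smul_mem _ (stp hS t ^ n) (exact_apply hS.cyc hX h1 n)
    rw [smul_sub, smul_smul, ← pow_succ, ← map_smul] at h3
    have := Submodule.add_mem _ h2 h3
    rw [show ∀ u, ρ t u - u = (ρ t - 1) u from fun u => rfl, map_sub, sub_add_sub_cancel] at this
    rwa [pow_succ' (ρ t - 1), Module.End.mul_apply]

theorem not_nil {t : H} (ht : t ∈ (T : Subgroup H)) (h : stp hS t ≠ 0) :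
    (ρ t - 1) ^ (d - 1) ≠ 0 := fun h0 => by
  have := lead_regular hS hW ht (d - 1)
  rw [h0, LinearMap.zero_apply, zero_sub, neg_mem_iff] at this
  exact pow_ne_zero _ h (coeff_zero hS.cyc (by have := hS.d_ge; omega) this)

theorem stp_eq_zero_of_nil {t : H} (ht : t ∈ (T : Subgroup H)) (h : (ρ t - 1) ^ (d - 1) = 0) :
    stp hS t = 0 := by
  by_contra hne
  exact not_nil hS hW ht hne h

omit hW in
theorem nil_conj {g u : H} (h : (ρ u - 1) ^ (d - 1) = 0) :
    (ρ (g * u * g⁻¹) - 1) ^ (d - 1) = 0 := by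
  have e1 : ρ g⁻¹ * ρ g = 1 := by rw [← map_mul, inv_mul_cancel, map_one]
  have e2 : ρ g * ρ g⁻¹ = 1 := by rw [← map_mul, mul_inv_cancel, map_one]
  have e : ∀ n, (ρ (g * u * g⁻¹) - 1) ^ n = ρ g * (ρ u - 1) ^ n * ρ g⁻¹ := by
    intro n
    induction n with
    | zero => simp [e2]
    | succ n ih =>
      rw [pow_succ, ih, pow_succ, map_mul, map_mul,
        show ρ g * ρ u * ρ g⁻¹ - 1 = ρ g * (ρ u - 1) * ρ g⁻¹ by
          rw [mul_sub, mul_one, sub_mul, e2]]
      simp only [mul_assoc]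
      rw [← mul_assoc (ρ g⁻¹) (ρ g), e1, one_mul]
  rw [e, h, mul_zero, zero_mul]

set_option maxHeartbeats 1000000 in
theorem commute_J_of_regular {t : H} (ht : t ∈ (T : Subgroup H)) (h : stp hS t ≠ 0) {w : H}
    (hw : Commute w t) : Commute (ρ w) J := by
  obtain ⟨X, hXdef⟩ : ∃ X, X = ρ t - 1 := ⟨_, rfl⟩
  have hwX : Commute (ρ w) X := hXdef ▸ (hw.map ρ).sub_right (Commute.one_right _)
  have hXJ : Commute X J := hXdef ▸ (commute_J hS hW ht).sub_left (Commute.one_left _)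
  have hspan : ∀ k, ∀ v ∈ Vk J k, ∃ q : Module.End (ZMod p) V,
      q ∈ Algebra.adjoin (ZMod p) {X} ∧ q v0 = v := by
    refine flag_induction hS.cyc (P := fun _ v => ∃ q : Module.End (ZMod p) V,
      q ∈ Algebra.adjoin (ZMod p) {X} ∧ q v0 = v) (fun k _ => ⟨0, zero_mem _, rfl⟩) ?_
    intro k _ v hv ih
    obtain ⟨c, hc⟩ := decomp hS.cyc hv
    set a := stp hS t
    have hl := Submodule.smul_mem _ (c * (a ^ k)⁻¹) (lead_regular hS hW ht k)
    rw [← hXdef] at hl
    rw [smul_sub, smul_smul, mul_assoc, inv_mul_cancel₀ (pow_ne_zero k h), mul_one] at hl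
    have h1 := Submodule.sub_mem _ hc hl
    rw [sub_sub_sub_cancel_right] at h1
    obtain ⟨q, hq, hqv⟩ := ih _ h1
    refine ⟨q + (c * (a ^ k)⁻¹) • X ^ k, add_mem hq (Subalgebra.smul_mem _
      (pow_mem (Algebra.subset_adjoin (Set.mem_singleton X)) k) _), ?_⟩
    rw [LinearMap.add_apply, LinearMap.smul_apply, hqv, sub_add_cancel]
  obtain ⟨q, hq, hqv⟩ := hspan 0 (J v0) (mem_Vk_zero _)
  have hqJ : Commute q J :=
    (Algebra.commute_of_mem_adjoin_singleton_of_commute hq hXJ.symm).symm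
  rw [← ext_of_commute hS.cyc hqJ (Commute.refl J) hqv]
  exact Algebra.commute_of_mem_adjoin_singleton_of_commute hq hwX

/-- A conjugation carrying a regular element into `T` normalises `T`. -/
theorem normalizes_of_regular {t g : H} (ht : t ∈ (T : Subgroup H)) (h : stp hS t ≠ 0)
    (hg : g⁻¹ * t * g ∈ (T : Subgroup H)) :
    ∀ u ∈ (T : Subgroup H), g * u * g⁻¹ ∈ (T : Subgroup H) := by
  intro u hu
  have hc : Commute (g * u * g⁻¹) t := by
    have h1 := (comm_T hS hW hu hg)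
    have h2 : g * (u * (g⁻¹ * t * g)) * g⁻¹ = g * ((g⁻¹ * t * g) * u) * g⁻¹ := by rw [h1.eq]
    show g * u * g⁻¹ * t = t * (g * u * g⁻¹)
    simpa [mul_assoc] using h2
  have hJ := commute_J_of_regular hS hW ht h hc
  refine mem_T_of_normalizes hS (fun w hw => ?_) ⟨1, ?_⟩
  · have e : g * u * g⁻¹ * w = w * (g * u * g⁻¹) := hS.inj (by
      rw [map_mul ρ (g * u * g⁻¹) w, (commute_of_commute_J hS.cyc hJ (commute_J hS hW hw)).eq,
        ← map_mul])
    rw [e, mul_inv_cancel_right]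
    exact hw
  · rw [pow_one, conj_pow, pow_p hS hu, mul_one, mul_inv_cancel]

theorem NY_of_normalizes {n : H} (hn : ∀ t ∈ (T : Subgroup H), n * t * n⁻¹ ∈ (T : Subgroup H)) :
    n ∈ NY y := by
  have h1 := stp_eq_zero_of_nil hS hW (hn y hS.yT) (nil_conj hS (by
    have := nil_y hS 1; rwa [pow_one] at this))
  obtain ⟨b, hb⟩ := eq_pow_of_stp hS hW (hn y hS.yT) h1
  have hle : (Subgroup.zpowers y).map (MulAut.conj n).toMonoidHom ≤ Subgroup.zpowers y := by
    rw [MonoidHom.map_zpowers, Subgroup.zpowers_le]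
    show n * y * n⁻¹ ∈ _
    rw [hb]
    exact Subgroup.npow_mem_zpowers y b
  have heq := Subgroup.eq_of_le_of_card_ge hle
    (Subgroup.card_map_of_injective (MulAut.conj n).injective).ge
  rw [NY, Subgroup.mem_normalizer_iff]
  intro w
  conv_rhs => rw [← heq]
  exact (Subgroup.mem_map_iff_mem (MulAut.conj n).injective).symm

/-- A `p`-element of `NY` is conjugate in it into `T`. -/
theorem exists_conj_T {w : H} (hw : w ∈ NY y) (hwp : ∃ k, w ^ p ^ k = 1) :
    ∃ k ∈ NY y, k * w * k⁻¹ ∈ (T : Subgroup H) := by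
  obtain ⟨e, he⟩ := hwp
  have hP : IsPGroup p (Subgroup.zpowers (⟨w, hw⟩ : NY y)) := fun u => ⟨e, Subtype.ext (by
    obtain ⟨i, hi⟩ := u.2
    rw [SubmonoidClass.coe_pow, ← hi, ← zpow_natCast, ← zpow_mul, mul_comm, zpow_mul, zpow_natCast,
      show (⟨w, hw⟩ : NY y) ^ p ^ e = 1 from Subtype.ext he, one_zpow]; rfl)⟩
  obtain ⟨P, hPle⟩ := hP.exists_le_sylow
  obtain ⟨k, hk⟩ := MulAction.exists_smul_eq (NY y) P (T.subtype (T_le_NY hS))
  refine ⟨k, k.2, ?_⟩
  have h1 : MulAut.conj k • (⟨w, hw⟩ : NY y) ∈ ((k • P : Sylow p (NY y)) : Subgroup (NY y)) := by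
    rw [Sylow.coe_subgroup_smul]
    exact Subgroup.smul_mem_pointwise_smul _ _ _ (hPle (Subgroup.mem_zpowers _))
  rw [hk] at h1
  exact h1

/-- `NY` meets no conjugate of `T` from outside. -/
theorem free_NY {g u : H} (hu : u ∈ (T : Subgroup H)) (hu1 : u ≠ 1) (hg : g⁻¹ * u * g ∈ NY y) :
    g ∈ NY y := by
  obtain ⟨k, hk, hkT⟩ := exists_conj_T hS hW hg ⟨1, by
    have h : (g⁻¹ * u * g⁻¹⁻¹) ^ p ^ 1 = 1 := by
      rw [conj_pow, pow_one, pow_p hS hu, mul_one, mul_inv_cancel]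
    rwa [inv_inv] at h⟩
  set g' := g * k⁻¹ with hg'
  suffices g' ∈ NY y by simpa [hg'] using mul_mem this hk
  have hv : g'⁻¹ * u * g' ∈ (T : Subgroup H) := by
    rw [hg']; simpa [mul_assoc] using hkT
  by_cases hst : stp hS u = 0
  · have hnil : (ρ u - 1) ^ (d - 1) = 0 := by
      obtain ⟨b, rfl⟩ := eq_pow_of_stp hS hW hu hst
      exact nil_y hS b
    have h := nil_conj hS (g := g'⁻¹) hnil
    rw [inv_inv] at h
    obtain ⟨b, rfl⟩ := eq_pow_of_stp hS hW hu hst
    obtain ⟨c, hc⟩ := eq_pow_of_stp hS hW hv (stp_eq_zero_of_nil hS hW hv h)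
    have hz : ∀ i : ℕ, y ^ i ≠ 1 → Subgroup.zpowers (y ^ i) = Subgroup.zpowers y := by
      intro i hi
      refine Subgroup.eq_of_le_of_card_ge (Subgroup.zpowers_le.2 (Subgroup.npow_mem_zpowers y i)) ?_
      rw [Nat.card_zpowers, Nat.card_zpowers, orderOf_y hS,
        orderOf_eq_prime (pow_p hS (pow_mem hS.yT i)) hi]
    have hc1 : y ^ c ≠ 1 := fun h1 => hu1 (by
      rw [h1] at hc
      have := congrArg (fun w => g' * w * g'⁻¹) hc
      simpa [mul_assoc] using this)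
    have hmap : (Subgroup.zpowers y).map (MulAut.conj g').toMonoidHom = Subgroup.zpowers y := by
      conv_lhs => rw [← hz c hc1]
      rw [MonoidHom.map_zpowers]
      show Subgroup.zpowers (g' * y ^ c * g'⁻¹) = _
      rw [← hc, ← hz b hu1]
      congr 1
      group
    rw [NY, Subgroup.mem_normalizer_iff]
    intro w
    conv_rhs => rw [← hmap]
    exact (Subgroup.mem_map_iff_mem (MulAut.conj g').injective).symm
  · exact NY_of_normalizes hS hW (normalizes_of_regular hS hW hu hst hv)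

end Cfsg.Agent.FlagRegular1
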