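import Mathlib
import Cfsg.Agent.Lib.FlagRegular1

/-!
Characters of the normaliser of `⟨y⟩`, its invariant layers, orbit sums, and the final chain argument.
-/

set_option autoImplicit false
set_option linter.unusedSectionVars false

namespace Cfsg.Agent.FlagCharacters1

open Cfsg FlagRep1 FlagData1 FlagTorusCase1 FlagRegular1

variable {p : ℕ} [hp : Fact p.Prime]

section Sums

variable {H : Type*} [Group H] {W : Type*} [AddCommGroup W] [Module (ZMod p) W]

theorem endCharP [Nontrivial W] : CharP (AddMonoid.End W) p := by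
  refine ⟨fun n => ⟨fun h => ?_, fun h => ?_⟩⟩
  · obtain ⟨w, hw⟩ := exists_ne (0 : W)
    have h1 : n • w = 0 := DFunLike.congr_fun h w
    rw [← Nat.cast_smul_eq_nsmul (ZMod p), smul_eq_zero_iff_left hw] at h1
    exact (ZMod.natCast_eq_zero_iff n p).1 h1
  · refine DFunLike.ext _ _ fun w => ?_
    show n • w = 0
    rw [← Nat.cast_smul_eq_nsmul (ZMod p), (ZMod.natCast_eq_zero_iff n p).2 h, zero_smul]

theorem sum_pow_apply (σ : H →* AddMonoid.End W) (t : H) (f : W) :
    ∑ i : Fin p, σ (t ^ (i : ℕ)) f = ((σ t - 1) ^ (p - 1)) f := by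
  rcases subsingleton_or_nontrivial W with h | h
  · exact Subsingleton.elim _ _
  haveI : CharP (AddMonoid.End W) p := endCharP
  rw [sub_one_pow_pred (p := p)]
  simp only [map_pow]
  exact (AddMonoidHom.finsetSum_apply (fun i : Fin p => ((σ t ^ (i : ℕ) : AddMonoid.End W) : W →+ W)) _ f).symm

end Sums

variable {H : Type*} [Group H] [Finite H] {V : Type*} [AddCommGroup V] [Module (ZMod p) V]
variable {ρ : H →* Module.End (ZMod p) V} {T : Sylow p H} {x y : H} {v0 : V} {d s : ℕ}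
variable (hS : Setup ρ T x y v0 d s)

local notation "J" => ρ x - 1
local notation "Y" => ρ y - 1

/-- A layer invariant under a set of elements. -/
def Inv (ρ : H →* Module.End (ZMod p) V) (x : H) (G : Subgroup H) (k : ℕ) : Prop :=
  ∀ g ∈ G, ∀ v ∈ Vk (ρ x - 1) k, ρ g v ∈ Vk (ρ x - 1) k

include hS

theorem inv_zero (G : Subgroup H) : Inv ρ x G 0 := fun _ _ _ _ => mem_Vk_zero _

theorem inv_ge (G : Subgroup H) {k : ℕ} (hk : d ≤ k) : Inv ρ x G k := fun g _ v hv => by
  rw [eq_zero_of_mem hS.cyc hk hv, map_zero]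
  exact Submodule.zero_mem _

/-- No invariant chain with gaps at most `s`. -/
theorem absurd_of_cover (hcov : ∀ k < d, ∃ lo hi, Inv ρ x ⊤ lo ∧ Inv ρ x ⊤ hi ∧ lo ≤ k ∧ k < hi ∧
    hi ≤ lo + s) : False := by
  let N : Subgroup H :=
    { carrier := {h | ∀ lo hi, Inv ρ x ⊤ lo → Inv ρ x ⊤ hi → lo ≤ hi → hi ≤ lo + s →
        ∀ v ∈ Vk J lo, ρ h v - v ∈ Vk J hi}
      one_mem' := fun _ _ _ _ _ _ v _ => by simp
      mul_mem' := fun {a b} ha hb lo hi h1 h2 h3 h4 v hv => by
        have h5 := Submodule.add_mem _ (ha lo hi h1 h2 h3 h4 _ (h1 b (Subgroup.mem_top b) v hv))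
          (hb lo hi h1 h2 h3 h4 v hv)
        rwa [sub_add_sub_cancel, ← Module.End.mul_apply, ← map_mul] at h5
      inv_mem' := fun {a} ha lo hi h1 h2 h3 h4 v hv => by
        have h5 := Submodule.neg_mem _ (ha lo hi h1 h2 h3 h4 _ (h1 a⁻¹ (Subgroup.mem_top _) v hv))
        rwa [← Module.End.mul_apply, ← map_mul, mul_inv_cancel, map_one, Module.End.one_apply,
          neg_sub] at h5 }
  have hn : N.Normal := ⟨fun a ha g lo hi h1 h2 h3 h4 v hv => by
    have h5 := h2 g (Subgroup.mem_top g) _ (ha lo hi h1 h2 h3 h4 _ (h1 g⁻¹ (Subgroup.mem_top _) v hv))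
    rwa [map_sub, ← Module.End.mul_apply, ← Module.End.mul_apply, ← Module.End.mul_apply (ρ g),
      ← map_mul, ← map_mul, ← map_mul, mul_inv_cancel, map_one,
      Module.End.one_apply] at h5⟩
  have hp' : IsPGroup p N := fun g => ⟨1, Subtype.ext (by
    rw [pow_one, SubmonoidClass.coe_pow, OneMemClass.coe_one]
    refine flag_pow hS fun j v hv => ?_
    by_cases hj : d ≤ j
    · rw [eq_zero_of_mem hS.cyc hj hv]; simp
    obtain ⟨lo, hi, h1, h2, h3, h4, h5⟩ := hcov j (by omega)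
    exact Vk_anti (by omega) (g.2 lo hi h1 h2 (by omega) h5 v (Vk_anti h3 hv)))⟩
  have hy : y ∈ N := fun lo hi _ _ _ h4 v hv => Vk_anti h4 (Y_mem hS hv)
  exact y_notMem_core hS (le_sSup (show N ∈ {M : Subgroup H | M.Normal ∧ IsPGroup p M} from ⟨hn, hp'⟩) hy)

/-- Elements of `NY` conjugate `Y` to a polynomial without constant term in `Y`. -/
theorem Y_conj {n : H} (hn : n ∈ NY y) :
    ∃ b : ℕ, ∀ v, Y (ρ n v) = ρ n ((ρ (y ^ b) - 1) v) := by
  obtain ⟨b, hb⟩ := exists_conj_pow hS (inv_mem hn)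
  rw [inv_inv] at hb
  refine ⟨b, fun v => ?_⟩
  rw [LinearMap.sub_apply, LinearMap.sub_apply, map_sub, Module.End.one_apply, Module.End.one_apply,
    ← Module.End.mul_apply, ← Module.End.mul_apply (ρ n), ← map_mul, ← map_mul, ← hb,
    show n * (n⁻¹ * y * n) = y * n by group]

theorem inv_s : Inv ρ x (NY y) s := by
  intro n hn v hv
  obtain ⟨b, hb⟩ := exists_conj_pow hS hn
  obtain ⟨w, rfl⟩ := (mem_range_Y hS).2 hv
  have e : ρ n (Y w) = (ρ (y ^ b) - 1) (ρ n w) := by
    rw [LinearMap.sub_apply, LinearMap.sub_apply, map_sub, Module.End.one_apply, Module.End.one_apply,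
      ← Module.End.mul_apply, ← Module.End.mul_apply, ← map_mul, ← map_mul, ← hb]
    simp
  rw [e]
  have := pow_y_sub_one_apply hS b (j := 0) (mem_Vk_zero (ρ n w))
  rwa [zero_add] at this

theorem mem_of_Y {k : ℕ} (hk : k + s ≤ d) {v : V} (h : Y v ∈ Vk J (k + s)) : v ∈ Vk J k := by
  obtain ⟨w, hw, hwv⟩ := Y_surj hS h
  have h1 := Y_ker hS (show Y (v - w) = 0 by rw [map_sub, hwv, sub_self])
  have := Submodule.add_mem _ (Vk_anti (show k ≤ d - s by omega) h1) hw
  rwa [sub_add_cancel] at this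

theorem inv_ker (m : ℕ) (hm : m * s ≤ d) : Inv ρ x (NY y) (d - m * s) := by
  intro n hn v hv
  obtain ⟨b, hb⟩ := Y_conj hS hn
  have h1 : ∀ (i : ℕ) u, ((Y : Module.End (ZMod p) V) ^ i) (ρ n u) = ρ n (((ρ (y ^ b) - 1) ^ i) u) := by
    intro i
    induction i with
    | zero => intro u; simp
    | succ i ih =>
      intro u
      rw [pow_succ, Module.End.mul_apply, hb, ih, pow_succ, Module.End.mul_apply]
  have h2 : ∀ i j u, u ∈ Vk J j → ((ρ (y ^ b) - 1) ^ i) u ∈ Vk J (j + i * s) := by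
    intro i
    induction i with
    | zero => intro j u hu; simpa using hu
    | succ i ih =>
      intro j u hu
      rw [pow_succ, Module.End.mul_apply, Nat.succ_mul, add_comm (i * s), ← add_assoc]
      exact ih _ _ (pow_y_sub_one_apply hS b hu)
  have h3 : (Y ^ m) (ρ n v) = 0 := by
    rw [h1, eq_zero_of_mem hS.cyc (by omega) (h2 m _ v hv), map_zero]
  have h4 : ∀ i, i * s ≤ d → ∀ u, (Y ^ i) u = 0 → u ∈ Vk J (d - i * s) := by
    intro i
    induction i with
    | zero =>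
      intro _ u hu
      rw [pow_zero, Module.End.one_apply] at hu
      rw [hu]; exact Submodule.zero_mem _
    | succ i ih =>
      intro hi u hu
      rw [pow_succ, Module.End.mul_apply] at hu
      rw [Nat.succ_mul] at hi ⊢
      refine mem_of_Y hS (by omega) ?_
      rw [show d - (i * s + s) + s = d - i * s by omega]
      exact ih (by omega) _ hu
  exact h4 m hm _ h3

theorem exists_mu {n : H} (h1 : ∀ v ∈ Vk J 1, ρ n v ∈ Vk J 1) :
    ∃ μ : ZMod p, ρ n v0 - μ • v0 ∈ Vk J 1 := by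
  obtain ⟨μ, hμ⟩ := decomp hS.cyc (mem_Vk_zero (ρ n v0))
  rw [pow_zero, Module.End.one_apply] at hμ
  exact ⟨μ, hμ⟩

theorem conj_lead {w : H} (hw : w ∈ (T : Subgroup H)) :
    (ρ w - 1) v0 - stp hS w • J v0 ∈ Vk J 2 := stp_zero_spec hS hw

/-- `n ↦ b` with `n y n⁻¹ = y ^ b`. -/
noncomputable def beta : NY y →* (ZMod p)ˣ :=
  MonoidHom.toHomUnits
    { toFun := fun n => ((exists_conj_pow hS n.2).choose : ZMod p)
      map_one' := by
        have h := (exists_conj_pow hS (1 : NY y).2).choose_spec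
        rw [← Nat.cast_one, ← y_pow_iff hS, pow_one, ← h]
        simp
      map_mul' := fun n m => by
        have key : ∀ {bn bm bnm : ℕ}, (n : H) * y * (n : H)⁻¹ = y ^ bn →
            (m : H) * y * (m : H)⁻¹ = y ^ bm → ((n * m : NY y) : H) * y * ((n * m : NY y) : H)⁻¹ = y ^ bnm →
            (bnm : ZMod p) = (bn : ZMod p) * bm := by
          intro bn bm bnm h1 h2 h3
          rw [← Nat.cast_mul, ← y_pow_iff hS, ← h3, Subgroup.coe_mul, pow_mul, ← h1, conj_pow, ← h2]
          group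
        exact key (exists_conj_pow hS n.2).choose_spec (exists_conj_pow hS m.2).choose_spec
          (exists_conj_pow hS (n * m).2).choose_spec }

theorem beta_spec (n : NY y) {b : ℕ} (hb : (n : H) * y * (n : H)⁻¹ = y ^ b) :
    ((beta hS n : (ZMod p)ˣ) : ZMod p) = b := by
  show ((exists_conj_pow hS n.2).choose : ZMod p) = b
  rw [← y_pow_iff hS, ← hb, ← (exists_conj_pow hS n.2).choose_spec]

theorem beta_T (n : NY y) (hn : (n : H) ∈ (T : Subgroup H)) : beta hS n = 1 := Units.ext (by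
  rw [beta_spec hS n (b := 1) (by rw [pow_one, (hS.ycomm _ hn).eq, mul_inv_cancel_right])]
  simp)

/-- The data of an element normalising `T`. -/
theorem weights {n : H} (hW : IsWord T x y)
    (hn : ∀ t ∈ (T : Subgroup H), n * t * n⁻¹ ∈ (T : Subgroup H)) :
    ∃ (μ : ZMod p) (a b k : ℕ), ρ n v0 - μ • v0 ∈ Vk J 1 ∧ n * x * n⁻¹ = x ^ a * y ^ k ∧
      n * y * n⁻¹ = y ^ b ∧ μ = (a : ZMod p) * (b : ZMod p) := by
  obtain ⟨μ, hμ⟩ := exists_mu hS (fun v hv => flag_of_normalizes hS hn 1 v hv)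
  obtain ⟨a, k, hak⟩ := hW _ (hn x hS.xT)
  obtain ⟨b, hb⟩ := exists_conj_pow hS (NY_of_normalizes hS hW hn)
  exact ⟨μ, a, b, k, hμ, hak, hb, hS.weight n hn hW μ a b k hμ hak hb⟩

end Cfsg.Agent.FlagCharacters1
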