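import Mathlib
import Cfsg.Agent.Lib.FlagCharacters1

/-!
The case `2 * s < d` of a Sylow subgroup acting on a cyclic flag: the normaliser of `⟨y⟩` fixes the
hyperplane, normalises the Sylow subgroup, and an averaged operator gives invariant layers.
-/

set_option autoImplicit false
set_option linter.unusedSectionVars false

namespace Cfsg.Agent.FlagShortCase1

open Cfsg FlagRep1 FlagData1 FlagTorusCase1 FlagRegular1 FlagCharacters1

variable {p : ℕ} [hp : Fact p.Prime]

/-- The representation on the quotient by an invariant submodule. -/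
def quotRep {G : Type*} [Group G] {V : Type*} [AddCommGroup V] [Module (ZMod p) V]
    (r : G →* Module.End (ZMod p) V) (W : Submodule (ZMod p) V) (h : ∀ g, ∀ v ∈ W, r g v ∈ W) :
    G →* Module.End (ZMod p) (V ⧸ W) where
  toFun g := W.mapQ W (r g) (h g)
  map_one' := by
    refine Submodule.linearMap_qext _ (LinearMap.ext fun v => ?_)
    simp
  map_mul' a b := by
    refine Submodule.linearMap_qext _ (LinearMap.ext fun v => ?_)
    simp

theorem quotRep_mk {G : Type*} [Group G] {V : Type*} [AddCommGroup V] [Module (ZMod p) V]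
    (r : G →* Module.End (ZMod p) V) (W : Submodule (ZMod p) V) (h : ∀ g, ∀ v ∈ W, r g v ∈ W)
    (g : G) (v : V) : quotRep r W h g (W.mkQ v) = W.mkQ (r g v) := rfl

theorem fin_cast_inj {i j : Fin p} (h : ((i : ℕ) : ZMod p) = (j : ℕ)) : i = j := by
  rw [ZMod.natCast_eq_natCast_iff', Nat.mod_eq_of_lt i.2, Nat.mod_eq_of_lt j.2] at h
  exact Fin.ext h

variable {H : Type*} [Group H] [Finite H] {V : Type*} [AddCommGroup V] [Module (ZMod p) V]
variable {ρ : H →* Module.End (ZMod p) V} {T : Sylow p H} {x y : H} {v0 : V} {d s : ℕ}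
variable (hS : Setup ρ T x y v0 d s)

local notation "J" => ρ x - 1
local notation "Y" => ρ y - 1

include hS

theorem not_dvd_relIndex {K : Subgroup H} (h : (T : Subgroup H) ≤ K) :
    ¬ p ∣ (T : Subgroup H).relIndex K := fun hd =>
  T.not_dvd_index (hd.trans (Subgroup.relIndex_dvd_index_of_le h))

/-- The normaliser of `⟨y⟩` fixes the hyperplane. -/
theorem NY_fix (hW : IsWord T x y) (h2 : 2 * s < d) : Inv ρ x (NY y) 1 := by
  classical
  have hs2 := hS.s_ge
  have hdp := hS.d_lt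
  have hex : ∃ r, 1 ≤ r ∧ Inv ρ x (NY y) r := ⟨s, by omega, inv_s hS⟩
  obtain ⟨r, hrdef⟩ : ∃ r, r = Nat.find hex := ⟨_, rfl⟩
  obtain ⟨hr1, hrI⟩ : 1 ≤ r ∧ Inv ρ x (NY y) r := hrdef ▸ Nat.find_spec hex
  have hmin : ∀ k, 1 ≤ k → Inv ρ x (NY y) k → r ≤ k := fun k h h' =>
    hrdef ▸ Nat.find_min' hex ⟨h, h'⟩
  have hrs : r ≤ s := hmin s (by omega) (inv_s hS)
  by_contra hcon
  have hr2 : 2 ≤ r := by
    rcases hr1.eq_or_lt with h | h
    · exact absurd (h ▸ hrI) hcon
    · omega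
  have h3 : 3 * r ≤ d := by
    have hdm := Nat.div_add_mod d s
    have hlt := Nat.mod_lt d (show s > 0 by omega)
    have hq : 2 ≤ d / s := (Nat.le_div_iff_mul_le (by omega)).2 h2.le
    have hmul : s * 2 ≤ s * (d / s) := Nat.mul_le_mul_left s hq
    rcases Nat.eq_zero_or_pos (d % s) with h0 | h0
    · by_contra hlt'
      have hq2 : d / s ≤ 2 := by
        by_contra hq3
        have : s * 3 ≤ s * (d / s) := Nat.mul_le_mul_left s (by omega)
        omega
      have : s * (d / s) ≤ s * 2 := Nat.mul_le_mul_left s hq2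
      omega
    · have h := inv_ker hS (d / s) (by rw [mul_comm]; omega)
      rw [mul_comm, show d - s * (d / s) = d % s by omega] at h
      have := hmin _ h0 h
      omega
  have hrd : r ≤ d := by omega
  set W := Vk J r with hWdef
  set mk := W.mkQ with hmk
  let ρA : ↥(NY y) →* Module.End (ZMod p) (V ⧸ W) :=
    quotRep (ρ.comp (NY y).subtype) W fun g v hv => hrI g g.2 v hv
  set x' : ↥(NY y) := ⟨x, T_le_NY hS hS.xT⟩ with hx'
  set J' := ρA x' - 1 with hJ'
  have hpow : ∀ (k : ℕ) v, (J' ^ k) (mk v) = mk ((J ^ k) v) := by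
    intro k
    induction k with
    | zero => intro v; rfl
    | succ k ih =>
      intro v
      rw [pow_succ, Module.End.mul_apply, pow_succ, Module.End.mul_apply, ← ih]
      rfl
  have hdown : ∀ {k : ℕ} {v : V}, v ∈ Vk J k → mk v ∈ Vk J' k := by
    rintro k v ⟨w, rfl⟩
    exact ⟨mk w, hpow k w⟩
  have hlift : ∀ {k : ℕ} {a : V ⧸ W}, a ∈ Vk J' k → ∃ v ∈ Vk J k, mk v = a := by
    rintro k a ⟨b, rfl⟩
    obtain ⟨w, rfl⟩ := Submodule.mkQ_surjective W b
    exact ⟨_, pow_mem k w, (hpow k w).symm⟩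
  have hback : ∀ {k : ℕ} {v : V}, k ≤ r → mk v ∈ Vk J' k → v ∈ Vk J k := by
    intro k v hk hv
    obtain ⟨w, hw, hwv⟩ := hlift hv
    have h1 : v - w ∈ W := by
      rw [← Submodule.ker_mkQ W, LinearMap.mem_ker, map_sub]
      exact sub_eq_zero.2 hwv.symm
    have := Submodule.add_mem _ (Vk_anti hk h1) hw
    rwa [sub_add_cancel] at this
  have hcyc : IsCyc J' (mk v0) r := by
    refine ⟨LinearMap.ext fun a => ?_, fun h0 => ?_, fun a => ?_⟩
    · obtain ⟨w, rfl⟩ := Submodule.mkQ_surjective W a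
      rw [hpow]
      exact (Submodule.Quotient.mk_eq_zero W).2 (pow_mem r w)
    · rw [hpow] at h0
      have h4 : (J ^ (r - 1)) v0 ∈ Vk J r := (Submodule.Quotient.mk_eq_zero W).1 h0
      refine top_notMem hS.cyc (k := r - 1) (by omega) ?_
      rwa [show r - 1 + 1 = r by omega]
    · obtain ⟨w, rfl⟩ := Submodule.mkQ_surjective W a
      obtain ⟨c, hc⟩ := hS.cyc.span w
      refine ⟨c, ?_⟩
      rw [hc, map_sum]
      refine (Finset.sum_subset (Finset.range_subset_range.2 hrd) fun i _ hi => ?_).symm.trans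
        (Finset.sum_congr rfl fun i _ => by rw [map_smul, hpow])
      rw [Finset.mem_range, not_lt] at hi
      rw [map_smul, show mk ((J ^ i) v0) = 0 from
        (Submodule.Quotient.mk_eq_zero W).2 (Vk_anti hi (pow_mem i v0)), smul_zero]
  set T' : Subgroup ↥(NY y) := (T : Subgroup H).subgroupOf (NY y) with hT'
  set B : Subgroup ↥(NY y) := Subgroup.normalizer (T' : Set ↥(NY y)) with hB
  have hxT' : x' ∈ T' := hS.xT
  have hTB : T' ≤ B := Subgroup.le_normalizer
  have hnB : ∀ b ∈ B, ∀ t ∈ T', b * t * b⁻¹ ∈ T' := fun b hb t ht =>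
    (Subgroup.mem_normalizer_iff.1 hb t).1 ht
  have hnH : ∀ b ∈ B, ∀ t ∈ (T : Subgroup H), (b : H) * t * (b : H)⁻¹ ∈ (T : Subgroup H) :=
    fun b hb t ht => hnB b hb ⟨t, T_le_NY hS ht⟩ ht
  have hUB : Subgroup.zpowers x' ≤ B := Subgroup.zpowers_le.2 (hTB hxT')
  letI : Fintype ↥(Subgroup.zpowers x') := Fintype.ofFinite _
  have hidx : ¬ p ∣ T'.relIndex B := fun h =>
    (T.subtype (T_le_NY hS)).not_dvd_index (h.trans (Subgroup.relIndex_dvd_index_of_le hTB))
  have hmove : ∀ t ∈ T', Moves J' (ρA t) 1 := by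
    intro t ht j a ha
    obtain ⟨v, hv, rfl⟩ := hlift ha
    rw [show ρA t (mk v) - mk v = mk (ρ t v - v) by rw [map_sub]; rfl]
    exact hdown (hS.move _ ht j v hv)
  let χ : ↥(NY y) →* (ZMod p)ˣ := (FlagCharacters1.beta hS)⁻¹
  have hχT : ∀ t ∈ T', χ t = 1 := fun t ht => by
    show (FlagCharacters1.beta hS t)⁻¹ = 1
    rw [beta_T hS t ht, inv_one]
  have hMT : ∀ t ∈ T', Commute (ρA t) J' := fun t ht =>
    ((show Commute t x' from Subtype.ext (comm_T hS hW ht hS.xT).eq).map ρA).sub_right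
      (Commute.one_right _)
  have hB1 : ∀ b ∈ B, ∀ a ∈ Vk J' 1, ρA b a ∈ Vk J' 1 := by
    intro b hb a ha
    obtain ⟨v, hv, rfl⟩ := hlift ha
    exact hdown (flag_of_normalizes hS (hnH b hb) 1 v hv)
  have hBtop : ∀ b ∈ B, ∃ μ : ZMod p, ρA b (mk v0) - μ • mk v0 ∈ Vk J' 1 ∧
      (ρA b * J' * ρA b⁻¹) (mk v0) - ((χ b : ZMod p) * μ * 1) • (J' ^ 1) (mk v0) ∈
        Vk J' (1 + 1) := by
    intro b hb
    obtain ⟨μ, a, b', k, hμ, hak, hb', hmu⟩ := weights hS hW (hnH b hb)
    refine ⟨μ, ?_, ?_⟩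
    · rw [show ρA b (mk v0) - μ • mk v0 = mk (ρ b v0 - μ • v0) by rw [map_sub, map_smul]; rfl]
      exact hdown hμ
    · have hcoef : ((χ b : ZMod p)) * μ * 1 = (a : ZMod p) := by
        show (((FlagCharacters1.beta hS b)⁻¹ : (ZMod p)ˣ) : ZMod p) * μ * 1 = a
        rw [hmu, ← beta_spec hS b hb', mul_one, mul_comm (a : ZMod p), ← mul_assoc, Units.inv_mul,
          one_mul]
      have hwT : x ^ a * y ^ k ∈ (T : Subgroup H) :=
        mul_mem (pow_mem hS.xT a) (pow_mem hS.yT k)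
      have h := stp_zero_spec hS hwT
      rw [stp_word] at h
      have e : ρA b * J' * ρA b⁻¹ = ρA (b * x' * b⁻¹) - 1 := by
        rw [map_mul, map_mul, hJ', mul_sub, mul_one, sub_mul, ← map_mul ρA b b⁻¹, mul_inv_cancel,
          map_one]
      rw [e, hcoef, hpow, pow_one, show (ρA (b * x' * b⁻¹) - 1) (mk v0) - (a : ZMod p) • mk (J v0) =
        mk (ρ ((b : H) * x * (b : H)⁻¹) v0 - v0 - (a : ZMod p) • J v0) by
          rw [map_sub, map_sub, map_smul]; rfl, hak]
      exact hdown h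
  have hfree : ∀ g, g ∉ B → ∀ u ∈ Subgroup.zpowers x', g⁻¹ * u * g ∈ B → u = 1 := by
    intro g hg u hu hgu
    by_contra hne
    obtain ⟨i, rfl⟩ := (isOfFinOrder_of_finite x').mem_powers_iff_mem_zpowers.2 hu
    have huT : x ^ i ∈ (T : Subgroup H) := pow_mem hS.xT i
    have hst : stp hS (x ^ i) ≠ 0 := by
      rw [stp_pow hS hS.xT, stp_x, mul_one]
      intro h
      exact hne (Subtype.ext (by
        show x ^ i = 1
        exact pow_eq_one_of_cast hS hS.xT h))
    have hv : (g : H)⁻¹ * x ^ i * (g : H) ∈ (T : Subgroup H) := by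
      refine mem_T_of_normalizes hS (hnH _ hgu) ⟨1, ?_⟩
      have h : ((g : H)⁻¹ * x ^ i * (g : H)⁻¹⁻¹) ^ p ^ 1 = 1 := by
        rw [conj_pow, pow_one, pow_p hS huT, mul_one, mul_inv_cancel]
      rwa [inv_inv] at h
    have hgn := mem_normalizer_of_le
      (normalizes_of_regular hS hW huT hst hv)
    exact hg (Subgroup.mem_normalizer_iff.2 fun w => Subgroup.mem_normalizer_iff.1 hgn (w : H))
  have hsum : ∀ f : (V ⧸ W) →ₗ[ZMod p] Module.End (ZMod p) (V ⧸ W),
      ∑ u : ↥(Subgroup.zpowers x'), homRep ρA χ (u : ↥(NY y)) f = 0 := by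
    intro f
    have hbij : Function.Bijective (fun i : Fin p =>
        (⟨x' ^ (i : ℕ), Subgroup.npow_mem_zpowers x' i⟩ : ↥(Subgroup.zpowers x'))) := by
      refine ⟨fun i j hij => fin_cast_inj ?_, fun u => ?_⟩
      · have h : stp hS (x ^ (i : ℕ)) = stp hS (x ^ (j : ℕ)) :=
          congrArg (fun w : ↥(Subgroup.zpowers x') => stp hS ((w : ↥(NY y)) : H)) hij
        rwa [stp_pow hS hS.xT, stp_pow hS hS.xT, stp_x, mul_one, mul_one] at h
      · obtain ⟨i, hi⟩ := (isOfFinOrder_of_finite x').mem_powers_iff_mem_zpowers.2 u.2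
        refine ⟨⟨i % p, Nat.mod_lt _ hp.out.pos⟩, Subtype.ext (Subtype.ext ?_)⟩
        show x ^ (i % p) = ((u : ↥(NY y)) : H)
        rw [x_pow_mod hS, ← hi]
        rfl
    rw [← Fintype.sum_bijective _ hbij (fun i : Fin p => homRep ρA χ (x' ^ (i : ℕ)) f)
      (fun u : ↥(Subgroup.zpowers x') => homRep ρA χ (u : ↥(NY y)) f) fun i => rfl]
    refine (sum_pow_apply (homRep ρA χ) x' f).trans ?_
    refine eq_zero_of_inFil hcyc ?_ (inFil_pow ρA χ (hχT x' hxT') (hmove x' hxT')
      (hmove _ (inv_mem hxT')) (p - 1) 0 f (inFil_zero hcyc f))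
    omega
  obtain ⟨M, hM, -⟩ := hyperplane_fixed ρA hcyc B (Subgroup.zpowers x') T' hUB hTB hnB hidx χ hχT
    hmove (m := 1) (by omega) one_ne_zero J' hMT
    (by rw [pow_one, one_smul, sub_self]; exact Submodule.zero_mem _) hB1 hBtop hfree hsum
  refine hcon fun g hg v hv => hback (k := 1) (by omega) ?_
  exact hM ⟨g, hg⟩ (mk v) (hdown hv)

/-- The normaliser of `⟨y⟩` normalises the Sylow subgroup. -/
theorem NY_normalizes (hW : IsWord T x y) (h1 : Inv ρ x (NY y) 1) :
    ∀ n ∈ NY y, ∀ t ∈ (T : Subgroup H), n * t * n⁻¹ ∈ (T : Subgroup H) := by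
  classical
  let K1 : Subgroup H :=
    { carrier := {n | n ∈ NY y ∧ Commute n y ∧ ρ n v0 - v0 ∈ Vk J 1}
      one_mem' := ⟨one_mem _, Commute.one_left _, by simp⟩
      mul_mem' := fun {a b} ha hb => ⟨mul_mem ha.1 hb.1, ha.2.1.mul_left hb.2.1, by
        have h := Submodule.add_mem _ (h1 a ha.1 _ hb.2.2) ha.2.2
        rwa [map_sub, sub_add_sub_cancel, ← Module.End.mul_apply, ← map_mul] at h⟩
      inv_mem' := fun {a} ha => ⟨inv_mem ha.1, ha.2.1.inv_left, by
        have h := Submodule.neg_mem _ (h1 a⁻¹ (inv_mem ha.1) _ ha.2.2)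
        rwa [map_sub, ← Module.End.mul_apply, ← map_mul, inv_mul_cancel, map_one,
          Module.End.one_apply, neg_sub] at h⟩ }
  have hTK : (T : Subgroup H) ≤ K1 := fun t ht => ⟨T_le_NY hS ht, hS.ycomm t ht, by
    have := hS.move t ht 0 v0 (mem_Vk_zero v0); rwa [zero_add] at this⟩
  suffices hle : K1 ≤ (T : Subgroup H) by
    intro n hn t ht
    refine hle ⟨mul_mem (mul_mem hn (T_le_NY hS ht)) (inv_mem hn), ?_, ?_⟩
    · obtain ⟨b, hb⟩ := exists_conj_pow hS (inv_mem hn)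
      rw [inv_inv] at hb
      show n * t * n⁻¹ * y = y * (n * t * n⁻¹)
      have hc := ((hS.ycomm t ht).pow_right b).eq
      rw [← hb] at hc
      have := congrArg (fun w => n * w * n⁻¹) hc
      simpa [mul_assoc] using this
    · have e : ρ (n * t * n⁻¹) v0 - v0 = ρ n (ρ t (ρ n⁻¹ v0) - ρ n⁻¹ v0) := by
        rw [map_sub, ← Module.End.mul_apply, ← Module.End.mul_apply, ← Module.End.mul_apply,
          ← map_mul, ← map_mul, ← map_mul, mul_inv_cancel, map_one, Module.End.one_apply, mul_assoc]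
      rw [e]
      refine h1 n hn _ ?_
      have := hS.move t ht 0 _ (mem_Vk_zero (ρ n⁻¹ v0))
      rwa [zero_add] at this
  have hP : Subgroup.normalizer (((T.subtype hTK : Sylow p ↥K1) : Subgroup ↥K1) : Set ↥K1) ≤
      Subgroup.centralizer (((T.subtype hTK : Sylow p ↥K1) : Subgroup ↥K1) : Set ↥K1) := by
    intro n hn
    rw [Subgroup.mem_centralizer_iff]
    intro t ht
    have htT : (t : H) ∈ (T : Subgroup H) := ht
    have hnT : ∀ w ∈ (T : Subgroup H), (n : H) * w * (n : H)⁻¹ ∈ (T : Subgroup H) := fun w hw =>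
      (Subgroup.mem_normalizer_iff.1 hn ⟨w, hTK hw⟩).1 hw
    obtain ⟨-, hny, hnv⟩ := n.2
    obtain ⟨μ, a, b, k, hμ, hak, hb, hmu⟩ := weights hS hW hnT
    have hd : 0 < d := by have := hS.d_ge; omega
    have hμ1 : μ = 1 := coeff_unique hS.cyc hd (k := 0) (v := ρ (n : H) v0)
      (by rw [pow_zero, Module.End.one_apply]; exact hμ)
      (by rw [pow_zero, Module.End.one_apply, one_smul]; exact hnv)
    have hb1 : (b : ZMod p) = 1 := by
      rw [← Nat.cast_one, ← y_pow_iff hS, pow_one, ← hb, hny.eq, mul_inv_cancel_right]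
    rw [hμ1, hb1, mul_one] at hmu
    rw [pow_eq_of_cast hS hS.xT (l := 1) (by rw [← hmu, Nat.cast_one]), pow_one] at hak
    have hiter : ∀ j : ℕ, (n : H) ^ j * x * ((n : H) ^ j)⁻¹ = x * y ^ (j * k) := by
      intro j
      induction j with
      | zero => simp
      | succ j ih =>
        rw [show (n : H) ^ (j + 1) * x * ((n : H) ^ (j + 1))⁻¹ =
            (n : H) * ((n : H) ^ j * x * ((n : H) ^ j)⁻¹) * (n : H)⁻¹ by
          rw [pow_succ']; group, ih, ← mul_assoc, mul_assoc _ (y ^ (j * k)),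
          ← (hny.inv_left.pow_right (j * k)).eq, ← mul_assoc, hak, mul_assoc, ← pow_add,
          Nat.succ_mul, add_comm]
    have hk : (k : ZMod p) = 0 := by
      obtain ⟨e, m, hm, hem⟩ := Nat.exists_eq_pow_mul_and_not_dvd
        (orderOf_pos (n : H)).ne' p hp.out.ne_one
      have hT : (n : H) ^ m ∈ (T : Subgroup H) := by
        refine mem_T_of_normalizes hS ?_ ⟨e, by
          rw [← pow_mul, mul_comm, ← hem, pow_orderOf_eq_one]⟩
        have key : ∀ j : ℕ, ∀ w ∈ (T : Subgroup H),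
            (n : H) ^ j * w * ((n : H) ^ j)⁻¹ ∈ (T : Subgroup H) := by
          intro j
          induction j with
          | zero => simp
          | succ j ih =>
            intro w hw
            have := hnT _ (ih w hw)
            simpa [pow_succ', mul_assoc] using this
        exact key m
      have h0 := hiter m
      rw [(comm_T hS hW hT hS.xT).eq, mul_inv_cancel_right, eq_comm, mul_eq_left, ← pow_zero y,
        y_pow_iff hS, Nat.cast_mul, Nat.cast_zero, mul_eq_zero, ZMod.natCast_eq_zero_iff] at h0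
      exact h0.resolve_left hm
    rw [pow_eq_one_of_cast hS hS.yT hk, mul_one, mul_inv_eq_iff_eq_mul] at hak
    obtain ⟨a', b', hw⟩ := hW _ htT
    refine Subtype.ext ?_
    show (t : H) * (n : H) = (n : H) * (t : H)
    rw [hw]
    exact (((show Commute (n : H) x from hak).pow_right a').mul_right (hny.pow_right b')).eq.symm
  set P : Sylow p ↥K1 := T.subtype hTK with hPdef
  have hc := MonoidHom.ker_transferSylow_isComplement' P hP
  set N0 := (MonoidHom.transferSylow P hP).ker with hN0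
  have hcard : ¬ p ∣ Nat.card N0 := by
    rw [← hc.index_eq_card]
    exact P.not_dvd_index
  have hcard' : (Nat.card N0 : ZMod p) ≠ 0 := by rwa [Ne, ZMod.natCast_eq_zero_iff]
  letI : Fintype N0 := Fintype.ofFinite _
  let x1 : ↥K1 := ⟨x, hTK hS.xT⟩
  set E : Module.End (ZMod p) V := (Nat.card N0 : ZMod p)⁻¹ • ∑ n : N0, ρ ((n : ↥K1) : H) with hE
  have hEJ : Commute E J := by
    refine (Commute.smul_left ?_ _).sub_right (Commute.one_right _)
    show (∑ n : N0, ρ ((n : ↥K1) : H)) * ρ x = ρ x * ∑ n : N0, ρ ((n : ↥K1) : H)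
    rw [Finset.sum_mul, Finset.mul_sum]
    symm
    refine Fintype.sum_equiv (MulAut.conjNormal x1).toEquiv _ _ fun n => ?_
    rw [← map_mul, ← map_mul]
    congr 1
    show x * ((n : ↥K1) : H) = x * ((n : ↥K1) : H) * x⁻¹ * x
    rw [inv_mul_cancel_right]
  have hEv : E v0 - v0 ∈ Vk J 1 := by
    have e : (Nat.card N0 : ZMod p)⁻¹ • ∑ n : N0, (ρ ((n : ↥K1) : H) v0 - v0) = E v0 - v0 := by
      rw [Finset.sum_sub_distrib, smul_sub, Finset.sum_const, Finset.card_univ,
        ← Nat.cast_smul_eq_nsmul (ZMod p), smul_smul, ← Nat.card_eq_fintype_card,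
        inv_mul_cancel₀ hcard', one_smul, hE, LinearMap.smul_apply, LinearMap.sum_apply]
    rw [← e]
    exact Submodule.smul_mem _ _ (Submodule.sum_mem _ fun n _ => (n : ↥K1).2.2.2)
  have hinj : ∀ v, E v = 0 → v = 0 := fun v hv =>
    eq_zero_of_mem hS.cyc (k := d - 0) (by omega) (ker_of_exact hS.cyc hEJ (s := 0) one_ne_zero
      (by rw [pow_zero, Module.End.one_apply, one_smul, zero_add]; exact hEv) hv)
  have hfix : ∀ n : N0, ρ ((n : ↥K1) : H) * E = E := by
    intro n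
    rw [hE, mul_smul_comm, Finset.mul_sum]
    congr 1
    refine Fintype.sum_equiv (Equiv.mulLeft n) _ _ fun m => ?_
    rw [← map_mul]
    rfl
  have hEE : E * E = E := by
    conv_lhs => rw [hE, smul_mul_assoc, Finset.sum_mul, ← hE]
    rw [Finset.sum_congr rfl fun n _ => hfix n, Finset.sum_const, Finset.card_univ,
      ← Nat.cast_smul_eq_nsmul (ZMod p), smul_smul, ← Nat.card_eq_fintype_card,
      inv_mul_cancel₀ hcard', one_smul]
  have hE1 : E = 1 := LinearMap.ext fun v => sub_eq_zero.1 (hinj _ (by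
    rw [map_sub, Module.End.one_apply, ← Module.End.mul_apply, hEE, sub_self]))
  have hN0bot : N0 = ⊥ := by
    rw [eq_bot_iff]
    intro n hn
    rw [Subgroup.mem_bot]
    refine Subtype.ext (hS.inj ?_)
    have h := hfix ⟨n, hn⟩
    rw [hE1, mul_one] at h
    rw [h, OneMemClass.coe_one, map_one]
  intro k hk
  have hsup := hc.sup_eq_top
  rw [hN0bot, bot_sup_eq] at hsup
  have := (hsup.ge (Subgroup.mem_top (⟨k, hk⟩ : ↥K1)))
  exact this

/-- The case `2 * s < d` is impossible. -/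
theorem short_absurd (hW : IsWord T x y) (h2 : 2 * s < d) : False := by
  classical
  have hs2 := hS.s_ge
  have hdp := hS.d_lt
  have h1 := NY_fix hS hW h2
  have hn := NY_normalizes hS hW h1
  obtain ⟨c, hc, hsh⟩ := hS.shift
  letI : Fintype ↥(T : Subgroup H) := Fintype.ofFinite _
  have hMtop : (Y * J) v0 - c • (J ^ (s + 1)) v0 ∈ Vk J (s + 1 + 1) := by
    rw [(Y_J hS).eq, Module.End.mul_apply, pow_succ', Module.End.mul_apply, ← map_smul, ← map_sub]
    exact J_mem hsh
  have hBtop : ∀ b ∈ NY y, ∃ μ : ZMod p, ρ b v0 - μ • v0 ∈ Vk J 1 ∧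
      (ρ b * (Y * J) * ρ b⁻¹) v0 -
        (((1 : H →* (ZMod p)ˣ) b : ZMod p) * μ * c) • (J ^ (s + 1)) v0 ∈ Vk J (s + 1 + 1) := by
    intro b hb
    obtain ⟨μ, a, β, k, hμ, hak, hβ, hmu⟩ := weights hS hW (hn b hb)
    refine ⟨μ, hμ, ?_⟩
    have hwT : x ^ a * y ^ k ∈ (T : Subgroup H) := mul_mem (pow_mem hS.xT a) (pow_mem hS.yT k)
    have e1 : ρ b⁻¹ * ρ b = 1 := by rw [← map_mul, inv_mul_cancel, map_one]
    have e2 : ρ b * ρ b⁻¹ = 1 := by rw [← map_mul, mul_inv_cancel, map_one]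
    have e : ρ b * (Y * J) * ρ b⁻¹ = (ρ (y ^ β) - 1) * (ρ (x ^ a * y ^ k) - 1) := by
      rw [← hak, ← hβ, map_mul, map_mul, map_mul, map_mul]
      simp only [mul_sub, sub_mul, mul_one, one_mul, mul_assoc, e2]
      rw [← mul_assoc (ρ b⁻¹) (ρ b), e1, one_mul]
    rw [MonoidHom.one_apply, Units.val_one, one_mul, e, Module.End.mul_apply]
    have h := stp_zero_spec hS hwT
    rw [stp_word] at h
    have h3 := pow_y_sub_one_apply hS β h
    rw [map_sub, map_smul, show ρ (x ^ a * y ^ k) v0 - v0 = (ρ (x ^ a * y ^ k) - 1) v0 from rfl]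
      at h3
    have h4 := pow_y_sub_one_apply hS β (j := 1) (v := J v0) (by
      have := J_mem (show v0 ∈ Vk J 0 from mem_Vk_zero v0); rwa [zero_add] at this)
    have h5 : (ρ (y ^ β) - 1) (J v0) - ((β : ZMod p) * c) • (J ^ (s + 1)) v0 ∈ Vk J (s + 1 + 1) := by
      have hcJ : Commute (ρ (y ^ β) - 1) J :=
        (((hS.ycomm x hS.xT).pow_right β).map ρ).symm.sub_left (Commute.one_left _)
          |>.sub_right (Commute.one_right _)
      rw [← Module.End.mul_apply, hcJ.eq, Module.End.mul_apply, pow_succ', Module.End.mul_apply,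
        ← map_smul, ← map_sub]
      refine J_mem ?_
      have h6 := pow_y_sub_one_lead hS β v0
      have h7 := Submodule.smul_mem _ (β : ZMod p) hsh
      rw [smul_sub, smul_smul] at h7
      have := Submodule.add_mem _ h6 h7
      rwa [sub_add_sub_cancel] at this
    have h8 := Submodule.smul_mem _ (a : ZMod p) h5
    rw [smul_sub, smul_smul, ← mul_assoc, ← hmu] at h8
    have := Submodule.add_mem _ (Vk_anti (show s + 1 + 1 ≤ 2 + s by omega) h3) h8
    rwa [sub_add_sub_cancel] at this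
  have hMT : ∀ t ∈ (T : Subgroup H), Commute (ρ t) (Y * J) := fun t ht =>
    (commute_Y hS ht).mul_right (commute_J hS hW ht)
  have hsum : ∀ f : V →ₗ[ZMod p] Module.End (ZMod p) V,
      ∑ u : ↥(T : Subgroup H), homRep ρ (1 : H →* (ZMod p)ˣ) (u : H) f = 0 := by
    intro f
    have hbij : Function.Bijective (fun i : Fin p × Fin p =>
        (⟨x ^ (i.1 : ℕ) * y ^ (i.2 : ℕ), mul_mem (pow_mem hS.xT _) (pow_mem hS.yT _)⟩ :
          ↥(T : Subgroup H))) := by
      refine ⟨fun i j hij => ?_, fun u => ?_⟩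
      · have h : x ^ (i.1 : ℕ) * y ^ (i.2 : ℕ) = x ^ (j.1 : ℕ) * y ^ (j.2 : ℕ) :=
          congrArg Subtype.val hij
        have h' := congrArg (stp hS) h
        rw [stp_word, stp_word] at h'
        have e1 := fin_cast_inj h'
        rw [e1, mul_right_inj] at h
        exact Prod.ext e1 (fin_cast_inj ((y_pow_iff hS).1 h))
      · obtain ⟨a, b, hab⟩ := hW _ u.2
        refine ⟨(⟨a % p, Nat.mod_lt _ hp.out.pos⟩, ⟨b % p, Nat.mod_lt _ hp.out.pos⟩),
          Subtype.ext ?_⟩
        show x ^ (a % p) * y ^ (b % p) = (u : H)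
        rw [x_pow_mod hS, y_pow_mod hS, hab]
    set σ := homRep ρ (1 : H →* (ZMod p)ˣ) with hσ
    rw [← Fintype.sum_bijective _ hbij
      (fun i : Fin p × Fin p => σ (x ^ (i.1 : ℕ) * y ^ (i.2 : ℕ)) f)
      (fun u : ↥(T : Subgroup H) => σ (u : H) f) fun i => rfl, Fintype.sum_prod_type]
    have e : ∀ i j : Fin p, σ (x ^ (i : ℕ) * y ^ (j : ℕ)) f =
        σ (x ^ (i : ℕ)) (σ (y ^ (j : ℕ)) f) := fun i j => by rw [map_mul]; rfl
    simp only [e, ← map_sum, sum_pow_apply]
    refine eq_zero_of_inFil hS.cyc ?_ (inFil_pow ρ 1 rfl (hS.move x hS.xT)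
      (hS.move _ (inv_mem hS.xT)) (p - 1) _ _ (inFil_pow ρ 1 rfl (r := s)
        (fun j v hv => Y_mem hS hv) ?_ (p - 1) 0 f (inFil_zero hS.cyc f)))
    · have : (p - 1) * 2 ≤ (p - 1) * s := Nat.mul_le_mul_left _ hs2
      omega
    · intro j v hv
      rw [show y⁻¹ = y ^ (p - 1) from inv_eq_of_mul_eq_one_right (by
        rw [← pow_succ', Nat.sub_add_cancel hp.out.one_le, pow_p hS hS.yT])]
      exact pow_y_sub_one_apply hS (p - 1) hv
  obtain ⟨M, hV1, hMc, ⟨c', hc', hMlead⟩, hθ⟩ := hyperplane_fixed ρ hS.cyc (NY y) (T : Subgroup H)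
    (T : Subgroup H) (T_le_NY hS) (T_le_NY hS) hn (not_dvd_relIndex hS (T_le_NY hS))
    (1 : H →* (ZMod p)ˣ) (fun _ _ => rfl) hS.move (m := s + 1) (by omega) hc (Y * J) hMT hMtop h1
    hBtop (fun g hg u hu hgu => by
      by_contra hne
      exact hg (free_NY hS hW hu hne hgu)) hsum
  have hMJ : Commute M J := (hMc x hS.xT).symm.sub_right (Commute.one_right _)
  have hM0 : M v0 ∈ Vk J (s + 1) := by
    have := Submodule.add_mem _ (Vk_anti (show s + 1 ≤ s + 1 + 1 by omega) hMlead)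
      (Submodule.smul_mem _ c' (pow_mem (s + 1) v0))
    rwa [sub_add_cancel] at this
  have hstep : ∀ k, Inv ρ x ⊤ k → Inv ρ x ⊤ (k + (s + 1)) := by
    intro k hk g _ v hv
    obtain ⟨w, hw, rfl⟩ := range_of_exact hS.cyc hMJ hc' hMlead k hv
    obtain ⟨θ, hθg⟩ := hθ g
    rw [← Module.End.mul_apply, hθg, LinearMap.smul_apply, Module.End.mul_apply]
    exact Submodule.smul_mem _ _
      (commute_apply_mem hMJ hM0 hS.cyc (hk g (Subgroup.mem_top g) w hw))
  have hlayers : ∀ q, Inv ρ x ⊤ (q * (s + 1)) ∧ Inv ρ x ⊤ (q * (s + 1) + 1) := by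
    intro q
    induction q with
    | zero => exact ⟨by rw [zero_mul]; exact inv_zero hS ⊤, by rw [zero_mul]; exact fun g _ => hV1 g⟩
    | succ q ih =>
      rw [Nat.succ_mul]
      exact ⟨hstep _ ih.1, by rw [add_right_comm]; exact hstep _ ih.2⟩
  refine absurd_of_cover hS fun k hk => ?_
  have hdm := Nat.div_add_mod k (s + 1)
  have hlt := Nat.mod_lt k (show s + 1 > 0 by omega)
  rw [mul_comm] at hdm
  rcases Nat.eq_zero_or_pos (k % (s + 1)) with h0 | h0
  · exact ⟨_, _, (hlayers (k / (s + 1))).1, (hlayers (k / (s + 1))).2, by omega, by omega, by omega⟩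
  · refine ⟨_, _, (hlayers (k / (s + 1))).2, (hlayers (k / (s + 1) + 1)).1, by omega, ?_, ?_⟩
    · rw [Nat.succ_mul]; omega
    · rw [Nat.succ_mul]; omega

end Cfsg.Agent.FlagShortCase1
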