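import Mathlib
import Cfsg.Agent.Lib.FlagShortCase1

/-!
The three-dimensional cases, and the conclusion: no group carries the data of `Setup`.
-/

set_option autoImplicit false
set_option linter.unusedSectionVars false

namespace Cfsg.Agent.FlagDimThree1

open Cfsg FlagRep1 FlagData1 FlagTorusCase1 FlagRegular1 FlagCharacters1 FlagShortCase1

variable {p : ℕ} [hp : Fact p.Prime]

/-- The action on functions. -/
def funRep {H : Type*} [Group H] {V : Type*} [AddCommGroup V] [Module (ZMod p) V]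
    (ρ : H →* Module.End (ZMod p) V) : H →* AddMonoid.End (V → ZMod p) where
  toFun g :=
    { toFun := fun f v => f (ρ g⁻¹ v)
      map_zero' := rfl
      map_add' := fun _ _ => rfl }
  map_one' := AddMonoidHom.ext fun f => funext fun v => by
    show f (ρ (1 : H)⁻¹ v) = f v
    rw [inv_one, map_one, Module.End.one_apply]
  map_mul' a b := AddMonoidHom.ext fun f => funext fun v => by
    show f (ρ (a * b)⁻¹ v) = f (ρ b⁻¹ (ρ a⁻¹ v))
    rw [mul_inv_rev, map_mul, Module.End.mul_apply]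

theorem sum_affine (a b : ZMod p) :
    ∑ j : Fin p, (if a + ((j : ℕ) : ZMod p) * b = 0 then (0 : ZMod p) else 1) =
      if b = 0 then 0 else -1 := by
  classical
  by_cases hb : b = 0
  · rw [if_pos hb, hb]
    simp only [mul_zero, add_zero, Finset.sum_const, Finset.card_univ, Fintype.card_fin, nsmul_eq_mul,
      ZMod.natCast_self, zero_mul]
  rw [if_neg hb]
  have hbij : Function.Bijective (fun j : Fin p => a + ((j : ℕ) : ZMod p) * b) := by
    refine (Fintype.bijective_iff_injective_and_card _).2 ⟨fun i j h => ?_, by simp⟩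
    exact fin_cast_inj (mul_right_cancel₀ hb (add_left_cancel h))
  rw [Fintype.sum_bijective _ hbij _ (fun z : ZMod p => if z = 0 then (0 : ZMod p) else 1)
      fun _ => rfl,
    Finset.sum_ite, Finset.sum_const_zero, zero_add, Finset.sum_const, nsmul_eq_mul, mul_one,
    Finset.filter_ne', Finset.card_erase_of_mem (Finset.mem_univ _), Finset.card_univ, ZMod.card,
    Nat.cast_sub hp.out.one_le, ZMod.natCast_self, Nat.cast_one, zero_sub]

variable {H : Type*} [Group H] [Finite H] {V : Type*} [AddCommGroup V] [Module (ZMod p) V]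
variable {ρ : H →* Module.End (ZMod p) V} {T : Sylow p H} {x y : H} {v0 : V} {d s : ℕ}
variable (hS : Setup ρ T x y v0 d s)

local notation "J" => ρ x - 1
local notation "Y" => ρ y - 1

include hS

theorem word_three (hW : IsWord T x y) (h3 : d = 3) : False := by
  classical
  subst h3
  have hs : s = 2 := by have := hS.s_ge; have := hS.s_lt; omega
  subst hs
  letI : Fintype ↥(T : Subgroup H) := Fintype.ofFinite _
  have hd : (0 : ℕ) < 3 := by omega
  let φ0 := topCoeff hS.cyc hd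
  let f : V → ZMod p := fun v => if φ0 v = 0 then 0 else 1
  have hN : Inv ρ x (NY y) 1 := inv_ker hS 1 (by omega)
  have hfB : ∀ b ∈ NY y, funRep ρ b f = f := by
    intro b hb
    refine funext fun v => ?_
    show (if φ0 (ρ b⁻¹ v) = 0 then (0 : ZMod p) else 1) = if φ0 v = 0 then 0 else 1
    refine if_congr ?_ rfl rfl
    rw [topCoeff_eq_zero, topCoeff_eq_zero]
    refine ⟨fun h => ?_, hN b⁻¹ (inv_mem hb) v⟩
    have := hN b hb _ h
    rwa [← Module.End.mul_apply, ← map_mul, mul_inv_cancel, map_one, Module.End.one_apply] at this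
  have hbij : Function.Bijective (fun i : Fin p × Fin p =>
      (⟨(x ^ (i.1 : ℕ) * y ^ (i.2 : ℕ))⁻¹, inv_mem (mul_mem (pow_mem hS.xT _) (pow_mem hS.yT _))⟩ :
        ↥(T : Subgroup H))) := by
    refine ⟨fun i j hij => ?_, fun u => ?_⟩
    · have h : x ^ (i.1 : ℕ) * y ^ (i.2 : ℕ) = x ^ (j.1 : ℕ) * y ^ (j.2 : ℕ) :=
        inv_injective (congrArg Subtype.val hij)
      have h' := congrArg (stp hS) h
      rw [stp_word, stp_word] at h'
      have e1 := fin_cast_inj h'
      rw [e1, mul_right_inj] at h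
      exact Prod.ext e1 (fin_cast_inj ((y_pow_iff hS).1 h))
    · obtain ⟨a, b, hab⟩ := hW _ (inv_mem u.2)
      refine ⟨(⟨a % p, Nat.mod_lt _ hp.out.pos⟩, ⟨b % p, Nat.mod_lt _ hp.out.pos⟩),
        Subtype.ext ?_⟩
      show (x ^ (a % p) * y ^ (b % p))⁻¹ = (u : H)
      rw [x_pow_mod hS, y_pow_mod hS, ← hab, inv_inv]
  have hsum : ∀ g : H, ∑ u : ↥(T : Subgroup H), funRep ρ ((u : H) * g) f = 0 := by
    intro g
    refine funext fun v => ?_
    rw [Finset.sum_apply, Pi.zero_apply,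
      ← Fintype.sum_bijective _ hbij (fun i : Fin p × Fin p =>
        f (ρ g⁻¹ (ρ (x ^ (i.1 : ℕ) * y ^ (i.2 : ℕ)) v)))
        (fun u : ↥(T : Subgroup H) => funRep ρ ((u : H) * g) f v) fun i => ?_]
    swap
    · show _ = f (ρ ((x ^ (i.1 : ℕ) * y ^ (i.2 : ℕ))⁻¹ * g)⁻¹ v)
      rw [mul_inv_rev, inv_inv, map_mul ρ g⁻¹, Module.End.mul_apply]
    have hD : Y v ∈ Vk J 2 := by
      have := Y_mem hS (mem_Vk_zero (p := p) v); rwa [zero_add] at this
    have hy : ∀ j : ℕ, ρ (y ^ j) v = v + (j : ZMod p) • Y v := by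
      intro j
      have h := eq_zero_of_mem hS.cyc (le_refl 3) (pow_y_sub_one_lead hS j v)
      rw [LinearMap.sub_apply, Module.End.one_apply, sub_eq_zero, sub_eq_iff_eq_add'] at h
      exact h
    have hx : ∀ i : ℕ, ρ (x ^ i) (Y v) = Y v := fun i =>
      sub_eq_zero.1 (eq_zero_of_mem hS.cyc (le_refl 3) (hS.move _ (pow_mem hS.xT i) 2 _ hD))
    have e : ∀ i j : Fin p, f (ρ g⁻¹ (ρ (x ^ (i : ℕ) * y ^ (j : ℕ)) v)) =
        if φ0 (ρ g⁻¹ (ρ (x ^ (i : ℕ)) v)) + ((j : ℕ) : ZMod p) * φ0 (ρ g⁻¹ (Y v)) = 0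
          then 0 else 1 := by
      intro i j
      rw [map_mul ρ, Module.End.mul_apply, hy, map_add, map_smul, hx, map_add, map_smul]
      show (if φ0 (_ + _) = 0 then (0 : ZMod p) else 1) = _
      rw [map_add, map_smul, smul_eq_mul]
    rw [Fintype.sum_prod_type]
    simp only [e, sum_affine, Finset.sum_const, Finset.card_univ, Fintype.card_fin, nsmul_eq_mul,
      ZMod.natCast_self, zero_mul]
  have hfix := fixed_of_orbit_sums (funRep ρ) (T : Subgroup H) (NY y) (T_le_NY hS) f hfB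
    (fun g hg u hu hgu => by
      by_contra hne
      exact hg (free_NY hS hW hu hne hgu)) hsum
  have hV1 : Inv ρ x ⊤ 1 := by
    intro g _ v hv
    have h := congrFun (hfix g) (ρ g v)
    change (if φ0 (ρ g⁻¹ (ρ g v)) = 0 then (0 : ZMod p) else 1) = if φ0 (ρ g v) = 0 then 0 else 1
      at h
    rw [← Module.End.mul_apply (ρ g⁻¹), ← map_mul, inv_mul_cancel, map_one, Module.End.one_apply,
      if_pos ((topCoeff_eq_zero hS.cyc hd).2 hv)] at h
    by_contra hne
    rw [if_neg (mt (topCoeff_eq_zero hS.cyc hd).1 hne)] at h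
    exact zero_ne_one h
  refine absurd_of_cover hS fun k hk => ?_
  rcases Nat.eq_zero_or_pos k with rfl | h
  · exact ⟨0, 1, inv_zero hS ⊤, hV1, le_rfl, Nat.one_pos, by omega⟩
  · exact ⟨1, 3, hV1, inv_ge hS ⊤ le_rfl, h, hk, le_rfl⟩

set_option maxHeartbeats 1000000 in
theorem nonword_three (hW : ¬ IsWord T x y) (h3 : d = 3) : False := by
  classical
  subst h3
  have hs : s = 2 := by have := hS.s_ge; have := hS.s_lt; omega
  subst hs
  have hd : (0 : ℕ) < 3 := by omega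
  obtain ⟨z0, hz0, k, hk, hz0x⟩ := exists_z hS hW
  obtain ⟨c, hc, hsh⟩ := hS.shift
  have hYv : Y v0 = c • (J ^ (2 : ℕ)) v0 := sub_eq_zero.1 (eq_zero_of_mem hS.cyc (le_refl 3) hsh)
  obtain ⟨n, hn⟩ : ∃ n : ℕ, (n : ZMod p) = -stp hS z0 := ⟨_, ZMod.natCast_zmod_val _⟩
  set z := z0 * x ^ n with hzdef
  have hz : z ∈ (T : Subgroup H) := mul_mem hz0 (pow_mem hS.xT n)
  have hzx : z * x * z⁻¹ = x * y ^ k := by
    rw [← hz0x, hzdef, mul_inv_rev, mul_assoc z0, (Commute.self_pow x n).symm.eq]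
    group
  have hstz : stp hS z = 0 := by
    rw [hzdef, stp_mul hS hz0 (pow_mem hS.xT n), stp_pow hS hS.xT, stp_x, mul_one, hn, add_neg_cancel]
  have hfixV2 : ∀ t ∈ (T : Subgroup H), ∀ v ∈ Vk J 2, ρ t v = v := fun t ht v hv =>
    sub_eq_zero.1 (eq_zero_of_mem hS.cyc (le_refl 3) (hS.move t ht 2 v hv))
  have hzJ : ρ z (J v0) = J v0 + ((k : ZMod p) * c) • (J ^ (2 : ℕ)) v0 := by
    have h := comm_lead hS hz hzx 1 v0
    have h2 : J ((ρ z - 1) v0) = 0 := by
      refine eq_zero_of_mem hS.cyc (k := 3) le_rfl (J_mem (j := 2) ?_)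
      have := stp_zero_spec hS hz
      rwa [hstz, zero_smul, sub_zero] at this
    rw [pow_one, h2, sub_zero, Nat.cast_one, one_mul, Nat.sub_self, pow_zero, Module.End.one_apply,
      hYv, smul_smul] at h
    have h3 := sub_eq_zero.1 (eq_zero_of_mem hS.cyc (le_refl 3) h)
    rw [LinearMap.sub_apply, Module.End.one_apply, sub_eq_iff_eq_add'] at h3
    exact h3
  obtain ⟨j, hj⟩ : ∃ j : ℕ, (j : ZMod p) = -((k : ZMod p) * c)⁻¹ := ⟨_, ZMod.natCast_zmod_val _⟩
  set w := x * z ^ j with hwdef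
  have hw : w ∈ (T : Subgroup H) := mul_mem hS.xT (pow_mem hz j)
  have hzjJ : ∀ m : ℕ, ρ (z ^ m) (J v0) = J v0 + ((m : ZMod p) * (k * c)) • (J ^ (2 : ℕ)) v0 := by
    intro m
    induction m with
    | zero => simp
    | succ m ih =>
      rw [pow_succ, map_mul, Module.End.mul_apply, hzJ, map_add, map_smul, ih,
        hfixV2 _ (pow_mem hz m) _ (pow_mem 2 v0), add_assoc, ← add_smul]
      congr 2
      push_cast
      ring
  have hxJ : ρ x (J v0) = J v0 + (J ^ (2 : ℕ)) v0 := by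
    rw [pow_two, Module.End.mul_apply]
    show _ = J v0 + (ρ x (J v0) - J v0)
    rw [add_sub_cancel]
  have hwJ : ρ w (J v0) = J v0 := by
    rw [hwdef, map_mul, Module.End.mul_apply, hzjJ, map_add, map_smul,
      hfixV2 x hS.xT _ (pow_mem 2 v0), hxJ, hj, neg_mul,
      inv_mul_cancel₀ (mul_ne_zero hk hc), neg_one_smul, add_neg_cancel_right]
  have hyJ : ρ y (J v0) = J v0 := by
    have h := eq_zero_of_mem hS.cyc (show 3 ≤ 1 + 2 by omega)
      (Y_mem hS (k := 1) (v := J v0) (by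
        have := J_mem (show v0 ∈ Vk J 0 from mem_Vk_zero v0); rwa [zero_add] at this))
    exact sub_eq_zero.1 h
  -- elements fixing `J v0` act as transvections
  have hact : ∀ t ∈ (T : Subgroup H), ρ t (J v0) = J v0 → ∀ v,
      ρ t v = v + topCoeff hS.cyc hd v • (ρ t v0 - v0) := by
    intro t ht htJ v
    have h1 := topCoeff_spec hS.cyc hd v
    obtain ⟨a, ha⟩ := decomp hS.cyc h1
    rw [pow_one] at ha
    have h2 := hfixV2 t ht _ ha
    rw [map_sub, map_sub, map_smul, map_smul, htJ, sub_left_inj] at h2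
    have h3 : ρ t v = v - topCoeff hS.cyc hd v • v0 + topCoeff hS.cyc hd v • ρ t v0 := by
      rw [← h2]; abel
    rw [h3, smul_sub]; abel
  have hmulfix : ∀ {t u : H}, t ∈ (T : Subgroup H) → u ∈ (T : Subgroup H) → ρ t (J v0) = J v0 →
      ρ u (J v0) = J v0 → ρ (t * u) (J v0) = J v0 ∧
        ρ (t * u) v0 - v0 = (ρ t v0 - v0) + (ρ u v0 - v0) := by
    intro t u ht hu htJ huJ
    refine ⟨by rw [map_mul, Module.End.mul_apply, huJ, htJ], ?_⟩
    have hu1 : topCoeff hS.cyc hd (ρ u v0) = 1 := topCoeff_eq hS.cyc hd (by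
      rw [one_smul]
      have := hS.move u hu 0 v0 (mem_Vk_zero v0)
      rwa [zero_add] at this)
    rw [map_mul, Module.End.mul_apply, hact t ht htJ (ρ u v0), hu1, one_smul]
    abel
  have hpow : ∀ {t : H}, t ∈ (T : Subgroup H) → ρ t (J v0) = J v0 → ∀ m : ℕ,
      ρ (t ^ m) (J v0) = J v0 ∧ ρ (t ^ m) v0 - v0 = (m : ZMod p) • (ρ t v0 - v0) := by
    intro t ht htJ m
    induction m with
    | zero => simp
    | succ m ih =>
      obtain ⟨h1, h2⟩ := hmulfix (pow_mem ht m) ht ih.1 htJ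
      rw [pow_succ]
      exact ⟨h1, by rw [h2, ih.2, Nat.cast_succ, add_smul, one_smul]⟩
  obtain ⟨e, he⟩ : ∃ e : ZMod p, ρ w v0 - v0 = J v0 + e • (J ^ (2 : ℕ)) v0 := by
    have h := stp_zero_spec hS hw
    rw [hwdef, stp_mul hS hS.xT (pow_mem hz j), stp_x, stp_pow hS hz, hstz, mul_zero, add_zero,
      one_smul] at h
    obtain ⟨e, he⟩ := decomp hS.cyc h
    refine ⟨e, ?_⟩
    have h' := sub_eq_zero.1 (eq_zero_of_mem hS.cyc (le_refl 3) he)
    rw [sub_eq_iff_eq_add'] at h'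
    exact h'
  have htrans : ∀ q ∈ Vk J 1, ∃ u ∈ (T : Subgroup H),
      ∀ v, ρ u v = v + topCoeff hS.cyc hd v • q := by
    intro q hq
    obtain ⟨a, ha⟩ := decomp hS.cyc hq
    obtain ⟨b, hb⟩ := decomp hS.cyc ha
    have hq' : q = a • J v0 + b • (J ^ (2 : ℕ)) v0 := by
      have h := sub_eq_zero.1 (eq_zero_of_mem hS.cyc (le_refl 3) hb)
      rw [pow_one, sub_eq_iff_eq_add'] at h
      exact h
    obtain ⟨A, hA⟩ : ∃ A : ℕ, (A : ZMod p) = a := ⟨_, ZMod.natCast_zmod_val _⟩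
    obtain ⟨B, hB⟩ : ∃ B : ℕ, (B : ZMod p) = c⁻¹ * (b - a * e) := ⟨_, ZMod.natCast_zmod_val _⟩
    obtain ⟨hwA, hwA'⟩ := hpow hw hwJ A
    obtain ⟨hyB, hyB'⟩ := hpow hS.yT hyJ B
    obtain ⟨h1, h2⟩ := hmulfix (pow_mem hw A) (pow_mem hS.yT B) hwA hyB
    have huT : w ^ A * y ^ B ∈ (T : Subgroup H) := mul_mem (pow_mem hw A) (pow_mem hS.yT B)
    refine ⟨_, huT, fun v => ?_⟩
    have hyv : ρ y v0 - v0 = c • (J ^ (2 : ℕ)) v0 := hYv
    have key : ρ (w ^ A * y ^ B) v0 - v0 = q := by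
      rw [h2, hwA', hyB', he, hyv, hA, hB, hq', smul_add, smul_smul, smul_smul, add_assoc,
        ← add_smul]
      congr 2
      field_simp
      ring
    rw [hact _ huT h1 v, key]
  obtain ⟨Me, hMe, hTMe, hnorm, hTI⟩ := hS.embedded
  obtain ⟨g, hg⟩ : ∃ g, g ∉ Me := by
    by_contra h
    push Not at h
    exact hMe ((Subgroup.eq_top_iff' Me).2 h)
  let φ0 := topCoeff hS.cyc hd
  obtain ⟨q, hq, hq0, hq1⟩ : ∃ q ∈ Vk J 1, q ≠ 0 ∧ ρ g⁻¹ q ∈ Vk J 1 := by
    have hJ1 : J v0 ∈ Vk J 1 := by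
      have := J_mem (show v0 ∈ Vk J 0 from mem_Vk_zero v0); rwa [zero_add] at this
    have hJ2 : (J ^ (2 : ℕ)) v0 ∈ Vk J 1 := Vk_anti (by omega) (pow_mem 2 v0)
    set a := φ0 (ρ g⁻¹ (J v0))
    set b := φ0 (ρ g⁻¹ ((J ^ (2 : ℕ)) v0))
    by_cases hb : b = 0
    · refine ⟨(J ^ (2 : ℕ)) v0, hJ2, fun h => ?_, (topCoeff_eq_zero hS.cyc hd).1 hb⟩
      exact hS.cyc.top h
    · refine ⟨b • J v0 - a • (J ^ (2 : ℕ)) v0, Submodule.sub_mem _ (Submodule.smul_mem _ _ hJ1)
        (Submodule.smul_mem _ _ hJ2), fun h => ?_, (topCoeff_eq_zero hS.cyc hd).1 ?_⟩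
      · refine hb (coeff_zero hS.cyc (k := 1) (by omega) ?_)
        rw [pow_one, sub_eq_zero.1 h]
        exact Submodule.smul_mem _ _ (pow_mem 2 v0)
      · show φ0 _ = 0
        rw [map_sub, map_smul, map_smul, map_sub, map_smul, map_smul, smul_eq_mul, smul_eq_mul,
          mul_comm a b, sub_self]
  obtain ⟨u, huT, hu⟩ := htrans q hq
  obtain ⟨u1, hu1T, hu1⟩ := htrans _ hq1
  obtain ⟨u', hu'⟩ : ∃ u', u' = g * u1 * g⁻¹ := ⟨_, rfl⟩
  have hu'v : ∀ v, ρ u' v = v + φ0 (ρ g⁻¹ v) • q := by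
    intro v
    rw [hu', map_mul, map_mul, Module.End.mul_apply, Module.End.mul_apply, hu1, map_add, map_smul,
      ← Module.End.mul_apply, ← map_mul, mul_inv_cancel, map_one, Module.End.one_apply,
      ← Module.End.mul_apply, ← map_mul, mul_inv_cancel, map_one, Module.End.one_apply]
  have hu_ne : u ≠ 1 := by
    intro h
    have h1 := hu v0
    rw [h, map_one, Module.End.one_apply, topCoeff_eq hS.cyc hd (v := v0) (c := 1) (by simp),
      one_smul, left_eq_add] at h1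
    exact hq0 h1
  have hcomm : Commute u' u := by
    apply hS.inj
    rw [map_mul, map_mul]
    refine LinearMap.ext fun v => ?_
    have e1 : φ0 q = 0 := (topCoeff_eq_zero hS.cyc hd).2 hq
    have e2 : φ0 (ρ g⁻¹ q) = 0 := (topCoeff_eq_zero hS.cyc hd).2 hq1
    rw [Module.End.mul_apply, Module.End.mul_apply, hu v, hu'v v, hu, hu'v, map_add, map_smul,
      map_add, map_smul, map_add, map_smul, e1, e2, smul_zero, add_zero, smul_zero, add_zero]
    abel
  have hu'Me : u' ∈ Me := by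
    refine hnorm (Subgroup.zpowers u) (Subgroup.zpowers_le.2 (hTMe huT))
      (T.2.to_le (Subgroup.zpowers_le.2 huT)) (by simpa using hu_ne) ?_
    rw [Subgroup.mem_normalizer_iff]
    intro t
    have hct : ∀ t ∈ Subgroup.zpowers u, u' * t * u'⁻¹ = t := by
      intro t ht
      obtain ⟨i, rfl⟩ := Subgroup.mem_zpowers_iff.1 ht
      rw [(hcomm.zpow_right i).eq, mul_inv_cancel_right]
    refine ⟨fun ht => by rwa [hct t ht], fun ht => ?_⟩
    have h := hct _ ht
    rw [show t = u'⁻¹ * (u' * t * u'⁻¹) * u' by group]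
    rw [show u'⁻¹ * (u' * t * u'⁻¹) * u' = u'⁻¹ * (u' * (u' * t * u'⁻¹) * u'⁻¹) * u' by rw [h]]
    rw [show u'⁻¹ * (u' * (u' * t * u'⁻¹) * u'⁻¹) * u' = u' * t * u'⁻¹ by group]
    exact ht
  have h1 : u' = 1 := hTI g hg u' hu'Me ⟨1, by
    rw [pow_one, hu', conj_pow, pow_p hS hu1T, mul_one, mul_inv_cancel]⟩ (by
    rw [hu', show g⁻¹ * (g * u1 * g⁻¹) * g = u1 by group]
    exact hTMe hu1T)
  have h2 := hu'v (ρ g v0)
  rw [h1, map_one, Module.End.one_apply, ← Module.End.mul_apply, ← map_mul, inv_mul_cancel, map_one,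
    Module.End.one_apply, show φ0 v0 = 1 from topCoeff_eq hS.cyc hd (by simp), one_smul,
    left_eq_add] at h2
  exact hq0 h2

/-- No group carries the data. -/
theorem setup_absurd (hp5 : 5 ≤ p) : False := by
  by_cases h3 : d = 3
  · by_cases hW : IsWord T x y
    · exact word_three hS hW h3
    · exact nonword_three hS hW h3
  have := hS.d_ge
  by_cases h2 : d ≤ 2 * s
  · exact quadratic_absurd hS hp5 (by omega) h2
  refine short_absurd hS ?_ (by omega)
  by_contra hW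
  have := two_mul_shift hS hW
  omega

end Cfsg.Agent.FlagDimThree1
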