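import Mathlib
import Cfsg.Agent.Lib.BrauerBlocksOrth
import Cfsg.Agent.Lib.BrauerBlocksRegFun
import Cfsg.Agent.Lib.CharInducedBurnside
import Cfsg.Agent.Lib.CharBasicLinear
import Cfsg.Agent.Lib.SignalizerBasic
import Cfsg.Agent.Lib.HallSolvable

/-!
Kazarin's theorem: an element with a class of prime-power size has solvable normal closure.
-/

set_option autoImplicit false

open scoped ComplexConjugate

namespace Cfsg.Agent.H74Kazarin

open Cfsg.Agent.BrauerBlocksVal Cfsg.Agent.BrauerBlocksBasic Cfsg.Agent.BrauerBlocksCentral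
  Cfsg.Agent.BrauerBlocksOrth Cfsg.Agent.CharBasic Cfsg.Agent.CharBasicOrth
  Cfsg.Agent.CharBasicDecomp Cfsg.Agent.CharBasicLinear Cfsg.Agent.CharBasicInt

universe u

/-- The character-theoretic core. -/
theorem core {G : Type u} [Group G] [Finite G] (M : Subgroup G) [hMn : M.Normal] (x : G)
    (hgen : M ⊔ Subgroup.zpowers x = ⊤)
    (hmin : ∀ K : Subgroup G, K.Normal → K ≤ M → K = ⊥ ∨ K = M)
    (hxM : ∃ m ∈ M, x * m ≠ m * x) (p k s : ℕ) (hp : p.Prime) (hs : s.Prime) (hsp : s ≠ p)
    (hsM : s ∣ Nat.card M) (hclass : (Subgroup.centralizer ({x} : Set G)).index = p ^ k) :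
    False := by
  classical
  have := Fintype.ofFinite G
  haveI : Fact s.Prime := ⟨hs⟩
  obtain ⟨𝔪, h𝔪⟩ := BrauerBlocksRegFun.exists_isPModular hs
  obtain ⟨⟨y, hyM⟩, hy⟩ := exists_prime_orderOf_dvd_card' s hsM
  rw [Subgroup.orderOf_mk] at hy
  set one : Cfsg.IrrCharacter G := trivIrr G
  set B := Cfsg.blockOf 𝔪 (one : G → ℂ) with hBdef
  have hB : Cfsg.IsPBlock 𝔪 B := isPBlock_blockOf one
  have hone : ∀ g : G, Cfsg.centralChar (one : G → ℂ) g =
      ((Subgroup.centralizer ({g} : Set G)).index : ℂ) := fun g => by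
    show ((Subgroup.centralizer ({g} : Set G)).index : ℂ) * 1 / 1 = _
    rw [mul_one, div_one]
  have hsk : ¬ s ∣ p ^ k := fun h =>
    hsp ((Nat.prime_dvd_prime_iff_eq hs hp).1 (hs.dvd_of_dvd_pow h))
  -- a character in the block does not vanish at x
  have hxne : ∀ χ ∈ B, (χ : G → ℂ) x ≠ 0 := by
    intro χ hχ h0
    have h := (sameBlock_iff h𝔪 one χ).1 hχ x
    rw [hone, hclass, show Cfsg.centralChar (χ : G → ℂ) x = 0 by
      show _ * (χ : G → ℂ) x / _ = 0
      rw [h0, mul_zero, zero_div], sub_zero] at h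
    exact hsk ((sm_natCast_iff h𝔪 _).1 h)
  -- a character of degree prime to p in the block is linear and trivial on M
  have hlin : ∀ χ ∈ B, (¬ ∃ c : ℕ, (χ : G → ℂ) 1 = (p * c : ℕ)) →
      ∃ lam : G →* ℂˣ, (χ : G → ℂ) = (fun g => (lam g : ℂ)) ∧ M ≤ lam.ker := by
    intro χ hχ hnd
    obtain ⟨n, ρ, hρ, he⟩ := χ.2
    have hd : (χ : G → ℂ) 1 = (Module.finrank ℂ (Fin n → ℂ) : ℂ) := by
      rw [← he, Representation.char_one]
    have hndvd : ¬ p ∣ Module.finrank ℂ (Fin n → ℂ) := fun ⟨c, hc⟩ => hnd ⟨c, by rw [hd, hc]⟩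
    have hnorm : ‖ρ.character x‖ = (Module.finrank ℂ (Fin n → ℂ) : ℝ) := by
      refine (CharInduced.character_eq_zero_or_norm_eq ρ x ?_).resolve_left ?_
      · rw [hclass]
        exact Nat.Coprime.pow_right k ((hp.coprime_iff_not_dvd.2 hndvd).symm)
      · rw [he]; exact hxne χ hχ
    obtain ⟨w, hw⟩ := (norm_eq_finrank_iff ρ x).1 hnorm
    let K : Subgroup G := MonoidHom.ker ρ ⊓ M
    haveI : K.Normal := inferInstance
    have hMker : M ≤ MonoidHom.ker ρ := by
      obtain ⟨m, hm, hne⟩ := hxM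
      rcases hmin K inferInstance inf_le_right with h | h
      · exfalso
        have hmem : x * m * x⁻¹ * m⁻¹ ∈ K := by
          refine ⟨?_, M.mul_mem (hMn.conj_mem m hm x) (M.inv_mem hm)⟩
          show ρ (x * m * x⁻¹ * m⁻¹) = 1
          have h1 : ρ x * ρ m = ρ m * ρ x := by
            rw [hw]
            refine LinearMap.ext fun v => ?_
            simp
          rw [map_mul, map_mul, map_mul, h1, mul_assoc (ρ m), ← map_mul ρ x, mul_inv_cancel,
            map_one, mul_one, ← map_mul, mul_inv_cancel, map_one]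
        rw [h, Subgroup.mem_bot] at hmem
        exact hne (mul_inv_eq_iff_eq_mul.1 (mul_inv_eq_one.1 hmem))
      · exact h ▸ inf_le_left
    have htop : ∀ g, g ∈ CharInduced.scalarSubgroup ρ := by
      intro g
      have hle : M ⊔ Subgroup.zpowers x ≤ CharInduced.scalarSubgroup ρ :=
        sup_le (fun m hm => ⟨1, by rw [one_smul]; exact hMker hm⟩)
          (Subgroup.zpowers_le.2 ⟨w, hw⟩)
      exact hle (hgen ▸ Subgroup.mem_top g)
    have h1 : (χ : G → ℂ) 1 = 1 := by
      have hself := classInner_character_irreducible_self ρ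
      have hval : ∀ g, ρ.character g * conj (ρ.character g) =
          (Module.finrank ℂ (Fin n → ℂ) : ℂ) ^ 2 := fun g => by
        rw [Complex.mul_conj', (norm_eq_finrank_iff ρ g).2 (htop g)]
        norm_cast
      simp only [classInner, hval, Finset.sum_const, Finset.card_univ, ← Nat.card_eq_fintype_card,
        nsmul_eq_mul] at hself
      rw [inv_mul_cancel_left₀ (Nat.cast_ne_zero.2 Nat.card_pos.ne')] at hself
      have h2 : (Module.finrank ℂ (Fin n → ℂ)) ^ 2 = 1 := by exact_mod_cast hself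
      rw [hd, (pow_eq_one_iff.1 h2).resolve_right two_ne_zero, Nat.cast_one]
    obtain ⟨lam, hlam⟩ := exists_hom_of_apply_one_eq_one (isCharacter_of_isIrrCharacter χ.2) h1
    refine ⟨lam, hlam, fun m hm => Units.ext ?_⟩
    have h2 : (χ : G → ℂ) m = (χ : G → ℂ) 1 := by
      rw [← he, Representation.char_one]
      exact (character_eq_finrank_iff ρ m).2 (hMker hm)
    rw [h1, hlam] at h2
    exact h2
  -- the group of linear characters in the block
  let Λ : Subgroup (G →* ℂˣ) :=
    { carrier := {lam | M ≤ lam.ker ∧ Sm 𝔪 ((lam x : ℂ) - 1)}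
      one_mem' := ⟨fun m _ => rfl, by simp [sm_zero]⟩
      mul_mem' := fun {a b} ha hb => ⟨fun m hm => by
          show a m * b m = 1
          rw [ha.1 hm, hb.1 hm, one_mul], by
          show Sm 𝔪 (((a x * b x : ℂˣ) : ℂ) - 1)
          rw [Units.val_mul, show ((a x : ℂ) * (b x : ℂ) - 1) =
            ((a x : ℂ) * (b x : ℂ) - (a x : ℂ) * 1) + ((a x : ℂ) - 1) by ring, ← mul_sub]
          exact (hb.2.mul_left (int'_of_isIntegral h𝔪
            (isCharacter_integral (isCharacter_linear a) x))).add ha.2⟩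
      inv_mem' := fun {a} ha => ⟨fun m hm => by
          show (a m)⁻¹ = 1
          rw [ha.1 hm, inv_one], by
          show Sm 𝔪 (((a x)⁻¹ : ℂˣ) - 1)
          have hi : Int' 𝔪 (((a x)⁻¹ : ℂˣ) : ℂ) := by
            rw [← map_inv]
            exact int'_of_isIntegral h𝔪 (isCharacter_integral (isCharacter_linear a) x⁻¹)
          rw [show (((a x)⁻¹ : ℂˣ) : ℂ) - 1 = -((((a x)⁻¹ : ℂˣ) : ℂ) * ((a x : ℂ) - 1)) by
            rw [mul_sub, ← Units.val_mul, inv_mul_cancel, Units.val_one, mul_one]; ring]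
          exact (ha.2.mul_left hi).neg⟩ }
  haveI hfinIrr : Finite (Cfsg.IrrCharacter G) := inferInstance
  haveI : Finite (G →* ℂˣ) := Finite.of_equiv _ (linearEquiv G).symm
  have hΛp : IsPGroup s Λ := by
    rintro ⟨lam, hM', hsm⟩
    have hpos : orderOf (lam x) ≠ 0 := by
      rw [← Nat.pos_iff_ne_zero, orderOf_pos_iff]
      exact lam.isOfFinOrder (isOfFinOrder_of_finite x)
    obtain ⟨a, l, hl, hal⟩ := Nat.exists_eq_pow_mul_and_not_dvd hpos s hs.ne_one
    refine ⟨a, Subtype.ext ?_⟩
    show lam ^ s ^ a = 1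
    have hx1 : lam x ^ s ^ a = 1 := by
      refine Units.ext ?_
      rw [Units.val_pow_eq_pow_val, Units.val_one]
      refine eq_one_of_pow_eq_one_of_sm h𝔪 hl ?_ ?_
      · rw [← pow_mul, ← hal, ← Units.val_pow_eq_pow_val, pow_orderOf_eq_one, Units.val_one]
      · rw [← one_pow (s ^ a)]
        exact sm_pow_sub_pow (int'_of_isIntegral h𝔪
          (isCharacter_integral (isCharacter_linear lam) x)) int'_one hsm (s ^ a)
    refine MonoidHom.ext fun g => ?_
    have hle : M ⊔ Subgroup.zpowers x ≤ (lam ^ s ^ a).ker :=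
      sup_le (fun m hm => by
        show (lam m) ^ s ^ a = 1
        rw [hM' hm, one_pow]) (Subgroup.zpowers_le.2 hx1)
    exact hle (hgen ▸ Subgroup.mem_top g)
  have hΛB : ∀ lam ∈ Λ, (⟨fun g => (lam g : ℂ), isIrrCharacter_linear lam⟩ : Cfsg.IrrCharacter G) ∈ B := by
    rintro lam ⟨hM', hsm⟩
    refine (sameBlock_iff h𝔪 one _).2 fun g => ?_
    let K : Subgroup G :=
      { carrier := {g | Sm 𝔪 ((lam g : ℂ) - 1)}
        one_mem' := by simp [sm_zero]
        mul_mem' := fun {a b} ha hb => by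
          show Sm 𝔪 (((lam (a * b) : ℂˣ) : ℂ) - 1)
          rw [map_mul, Units.val_mul, show ((lam a : ℂ) * (lam b : ℂ) - 1) =
            ((lam a : ℂ) * (lam b : ℂ) - (lam a : ℂ) * 1) + ((lam a : ℂ) - 1) by ring, ← mul_sub]
          exact (Sm.mul_left hb (int'_of_isIntegral h𝔪
            (isCharacter_integral (isCharacter_linear lam) a))).add ha
        inv_mem' := fun {a} ha => by
          show Sm 𝔪 (((lam a⁻¹ : ℂˣ) : ℂ) - 1)
          have hi : Int' 𝔪 ((lam a⁻¹ : ℂˣ) : ℂ) :=
            int'_of_isIntegral h𝔪 (isCharacter_integral (isCharacter_linear lam) a⁻¹)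
          rw [show ((lam a⁻¹ : ℂˣ) : ℂ) - 1 = -(((lam a⁻¹ : ℂˣ) : ℂ) * ((lam a : ℂ) - 1)) by
            rw [mul_sub, ← Units.val_mul, ← map_mul, inv_mul_cancel, map_one, Units.val_one,
              mul_one]; ring]
          exact ((Sm.mul_left ha hi)).neg }
    have hle : M ⊔ Subgroup.zpowers x ≤ K :=
      sup_le (fun m hm => by
        show Sm 𝔪 _
        rw [hM' hm, Units.val_one, sub_self]; exact sm_zero) (Subgroup.zpowers_le.2 hsm)
    have hg : Sm 𝔪 ((lam g : ℂ) - 1) := hle (hgen ▸ Subgroup.mem_top g)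
    rw [hone]
    show Sm 𝔪 (_ - _ * (lam g : ℂ) / ((lam 1 : ℂˣ) : ℂ))
    rw [map_one, Units.val_one, div_one, show ((Subgroup.centralizer ({g} : Set G)).index : ℂ) -
      ((Subgroup.centralizer ({g} : Set G)).index : ℂ) * (lam g : ℂ) =
      -(((Subgroup.centralizer ({g} : Set G)).index : ℂ) * ((lam g : ℂ) - 1)) by ring]
    exact (hg.mul_left (int'_natCast _)).neg
  -- orthogonality
  have horth := orth_regular_singular h𝔪 hB (x := 1) (y := y)
    (by rw [orderOf_one, Nat.dvd_one]; exact hs.ne_one) (by rw [hy])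
  rw [finsum_mem_eq_finite_toFinset_sum _ (Set.toFinite B)] at horth
  set Bf := (Set.toFinite B).toFinset
  set T := Bf.filter fun χ : Cfsg.IrrCharacter G => ¬ ∃ c : ℕ, (χ : G → ℂ) 1 = (p * c : ℕ)
  have hT : ∀ χ ∈ T, (χ : G → ℂ) 1 * conj ((χ : G → ℂ) y) = 1 := by
    intro χ hχ
    obtain ⟨hχB, hnd⟩ := Finset.mem_filter.1 hχ
    obtain ⟨lam, hlam, hker⟩ := hlin χ ((Set.toFinite B).mem_toFinset.1 hχB) hnd
    rw [hlam]
    simp [show lam y = 1 from hker hyM]
  have hcard : T.card = Nat.card Λ := by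
    rw [← Nat.card_eq_finsetCard]
    refine (Nat.card_eq_of_bijective
      (fun lam : Λ => (⟨⟨fun g => (lam.1 g : ℂ), isIrrCharacter_linear lam.1⟩, ?_⟩ : {χ // χ ∈ T}))
      ⟨?_, ?_⟩).symm
    · refine Finset.mem_filter.2 ⟨(Set.toFinite B).mem_toFinset.2 (hΛB _ lam.2), ?_⟩
      rintro ⟨c, hc⟩
      have h1 : (1 : ℕ) = p * c := by
        have : ((lam.1 1 : ℂˣ) : ℂ) = ((p * c : ℕ) : ℂ) := hc
        rw [map_one, Units.val_one] at this
        exact_mod_cast this
      exact hp.ne_one (Nat.eq_one_of_mul_eq_one_right h1.symm)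
    · intro a b hab
      refine Subtype.ext (MonoidHom.ext fun g => Units.ext ?_)
      exact congrFun (congrArg Subtype.val (congrArg Subtype.val hab)) g
    · rintro ⟨χ, hχ⟩
      obtain ⟨hχB, hnd⟩ := Finset.mem_filter.1 hχ
      have hχB' := (Set.toFinite B).mem_toFinset.1 hχB
      obtain ⟨lam, hlam, hker⟩ := hlin χ hχB' hnd
      have hsm : Sm 𝔪 ((lam x : ℂ) - 1) := by
        have h := (sameBlock_iff h𝔪 one χ).1 hχB' x
        rw [hone, hlam] at h
        have h' : Sm 𝔪 (((Subgroup.centralizer ({x} : Set G)).index : ℂ) -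
            ((Subgroup.centralizer ({x} : Set G)).index : ℂ) * (lam x : ℂ) /
              ((lam 1 : ℂˣ) : ℂ)) := h
        rw [map_one, Units.val_one, div_one, hclass] at h'
        have h2 : Sm 𝔪 (((p ^ k : ℕ) : ℂ) * ((lam x : ℂ) - 1)) := by
          rw [← sm_neg_iff]
          convert h' using 1
          ring
        exact (sm_of_mul h2).resolve_left fun h3 => hsk ((sm_natCast_iff h𝔪 _).1 h3)
      exact ⟨⟨lam, hker, hsm⟩, Subtype.ext (Subtype.ext hlam.symm)⟩
  have hrest : ∀ χ ∈ Bf.filter (fun χ : Cfsg.IrrCharacter G => ∃ c : ℕ, (χ : G → ℂ) 1 = (p * c : ℕ)),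
      ∃ z : ℂ, IsIntegral ℤ z ∧ (χ : G → ℂ) 1 * conj ((χ : G → ℂ) y) = (p : ℂ) * z := by
    intro χ hχ
    obtain ⟨c, hc⟩ := (Finset.mem_filter.1 hχ).2
    refine ⟨(c : ℂ) * conj ((χ : G → ℂ) y),
      (isIntegral_algebraMap (x := (c : ℤ))).mul (isIntegral_conj (isIntegral_irr χ y)), ?_⟩
    rw [hc]
    push_cast
    ring
  choose! z hz hz' using hrest
  rw [← Finset.sum_filter_add_sum_filter_not Bf
    (fun χ : Cfsg.IrrCharacter G => ∃ c : ℕ, (χ : G → ℂ) 1 = (p * c : ℕ))] at horth
  rw [Finset.sum_congr rfl hz', ← Finset.mul_sum, Finset.sum_congr rfl hT, Finset.sum_const,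
    nsmul_eq_mul, mul_one, hcard] at horth
  set W := ∑ χ ∈ Bf.filter (fun χ : Cfsg.IrrCharacter G => ∃ c : ℕ, (χ : G → ℂ) 1 = (p * c : ℕ)), z χ
  have hW : IsIntegral ℤ W := IsIntegral.sum _ hz
  have hdiv : p ∣ Nat.card Λ := by
    refine dvd_of_isIntegral_div hp.ne_zero ?_
    rw [show ((Nat.card Λ : ℕ) : ℂ) / (p : ℂ) = -W by
      rw [div_eq_iff (Nat.cast_ne_zero.2 hp.ne_zero)]
      linear_combination horth]
    exact hW.neg
  obtain ⟨a, ha⟩ := IsPGroup.iff_card.1 hΛp
  rw [ha] at hdiv
  exact hsp ((Nat.prime_dvd_prime_iff_eq hp hs).1 (hp.dvd_of_dvd_pow hdiv)).symm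

theorem index_map_dvd {G H : Type*} [Group G] [Group H] [Finite G] {f : G →* H}
    (hf : Function.Surjective f) (x : G) :
    (Subgroup.centralizer ({f x} : Set H)).index ∣ (Subgroup.centralizer ({x} : Set G)).index := by
  refine dvd_trans (Subgroup.index_dvd_of_le (show (Subgroup.centralizer ({x} : Set G)).map f ≤ _ from ?_))
    (Subgroup.index_map_dvd _ hf)
  rintro _ ⟨c, hc, rfl⟩
  rw [SetLike.mem_coe, Subgroup.mem_centralizer_singleton_iff] at hc
  rw [Subgroup.mem_centralizer_singleton_iff, ← map_mul, hc, map_mul]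

theorem index_subgroup_dvd {G : Type*} [Group G] [Finite G] (H : Subgroup G) (x : H) {p k : ℕ}
    (hp : p.Prime) (h : (Subgroup.centralizer ({(x : G)} : Set G)).index = p ^ k)
    (M : Subgroup G) [M.Normal] (hH : H = M ⊔ Subgroup.zpowers (x : G)) :
    ∃ j, (Subgroup.centralizer ({x} : Set H)).index = p ^ j := by
  have hxC : Subgroup.zpowers (x : G) ≤ Subgroup.centralizer ({(x : G)} : Set G) :=
    Subgroup.zpowers_le.2 (Subgroup.mem_centralizer_singleton_iff.2 rfl)
  have h1 : Subgroup.centralizer ({x} : Set H) =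
      (Subgroup.centralizer ({(x : G)} : Set G)).subgroupOf H := by
    ext c
    rw [Subgroup.mem_subgroupOf, Subgroup.mem_centralizer_singleton_iff,
      Subgroup.mem_centralizer_singleton_iff, Subtype.ext_iff]
    rfl
  rw [h1]
  set C := Subgroup.centralizer ({(x : G)} : Set G)
  show ∃ j, C.relIndex H = p ^ j
  have h2 : C.relIndex H = C.relIndex (M ⊔ C) := by
    have hMC : M ⊔ C = H ⊔ C := by
      rw [hH, sup_assoc, sup_eq_right.2 hxC]
    rw [hMC]
    refine Nat.eq_of_mul_eq_mul_left (Nat.pos_of_ne_zero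
      (Cfsg.Agent.HallSolvable.relIndex_ne_zero' (H ⊓ C) C)) ?_
    have e1 := Subgroup.relIndex_mul_relIndex (H ⊓ C) C (H ⊔ C) inf_le_right le_sup_right
    have e2 := Subgroup.relIndex_mul_relIndex (H ⊓ C) H (H ⊔ C) inf_le_left le_sup_left
    rw [Subgroup.inf_relIndex_right] at e1 ⊢
    rw [Subgroup.inf_relIndex_left] at e2
    rw [e1, ← e2, mul_comm (H.relIndex C)]
    congr 1
    have hCn : C ≤ Subgroup.normalizer (H : Set G) := by
      intro c hc
      refine Subgroup.mem_normalizer_iff_map_conj_eq.2 ?_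
      show H.map (MulAut.conj c).toMonoidHom = H
      rw [hH, Subgroup.map_sup, MonoidHom.map_zpowers]
      congr 1
      · exact Subgroup.mem_normalizer_iff_map_conj_eq.1
          (by rw [Subgroup.normalizer_eq_top_iff.2 inferInstance]; trivial)
      · congr 1
        show c * (x : G) * c⁻¹ = x
        rw [Subgroup.mem_centralizer_singleton_iff.1 hc, mul_inv_cancel_right]
    haveI := Subgroup.normal_subgroupOf_of_le_normalizer hCn
    haveI := Subgroup.normal_subgroupOf_sup_of_le_normalizer hCn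
    have hsi := Nat.card_congr
      (QuotientGroup.quotientInfEquivProdNormalizerQuotient C H hCn).toEquiv
    refine (show H.relIndex C = H.relIndex (C ⊔ H) from hsi).trans ?_
    rw [sup_comm]
  obtain ⟨j, -, hj⟩ := (Nat.dvd_prime_pow hp).1
    ((h2 ▸ h ▸ Subgroup.relIndex_dvd_index_of_le le_sup_right : C.relIndex H ∣ p ^ k))
  exact ⟨j, hj⟩

/-- Kazarin. -/
theorem solvable_normalClosure : ∀ (n : ℕ) (G : Type u) [Group G] [Finite G], Nat.card G = n →
    ∀ (x : G) (p k : ℕ), p.Prime → (Subgroup.centralizer ({x} : Set G)).index = p ^ k →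
      Group.IsSolvable ↥(Subgroup.normalClosure ({x} : Set G)) := by
  intro n
  induction n using Nat.strong_induction_on with
  | _ n ih =>
    intro G _ _ hn x p k hp hx
    subst hn
    rcases subsingleton_or_nontrivial G with hsub | hnt
    · infer_instance
    obtain ⟨M, hM⟩ := Cfsg.Agent.HallSolvable.exists_minNormal (G := G)
    haveI := hM.normal
    set N := Subgroup.normalClosure ({x} : Set G) with hNdef
    haveI hNn : N.Normal := Subgroup.normalClosure_normal
    set π := QuotientGroup.mk' M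
    have hπ : Function.Surjective π := QuotientGroup.mk'_surjective M
    obtain ⟨j, -, hj⟩ := (Nat.dvd_prime_pow hp).1 (hx ▸ index_map_dvd hπ x)
    have hq := ih _ (Cfsg.Agent.HallSolvable.card_quotient_lt hM.ne_bot) (G ⧸ M) rfl (π x) p j hp hj
    have hNq : Group.IsSolvable (N.map π) := by
      rw [hNdef, Subgroup.map_normalClosure _ π hπ, Set.image_singleton]
      exact hq
    let φ : N →* N.map π := π.subgroupMap N
    by_cases hker : Group.IsSolvable ↥(M ⊓ N : Subgroup G)
    · haveI := hker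
      haveI := hNq
      refine Group.isSolvable_of_ker_le_range (Subgroup.inclusion (inf_le_right : M ⊓ N ≤ N)) φ
        fun z hz => ?_
      exact ⟨⟨z, (QuotientGroup.eq_one_iff (z : G)).1 (congrArg Subtype.val hz), z.2⟩, rfl⟩
    exfalso
    have hMN : M ≤ N := by
      rcases hM.le_or_inf_eq_bot (K := N) with h | h
      · exact h
      · exact absurd (by rw [h]; infer_instance) hker
    rw [inf_eq_left.2 hMN] at hker
    have hxM : ∃ m ∈ M, x * m ≠ m * x := by
      by_contra hall
      push Not at hall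
      apply hker
      have hle : N ≤ Subgroup.centralizer (M : Set G) :=
        Subgroup.normalClosure_le_normal (Set.singleton_subset_iff.2
          (Subgroup.mem_centralizer_iff.2 fun m hm => (hall m hm).symm))
      exact Group.isSolvable_of_comm fun a b =>
        Subtype.ext ((Subgroup.mem_centralizer_iff.1 (hle (hMN b.2)) a a.2))
    set H := M ⊔ Subgroup.zpowers x with hHdef
    let xH : H := ⟨x, Subgroup.mem_sup_right (Subgroup.mem_zpowers x)⟩
    obtain ⟨i, hi⟩ := index_subgroup_dvd H xH hp hx M hHdef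
    by_cases hH : H = ⊤
    · have hcardM : ¬ ∀ s : ℕ, s.Prime → s ∣ Nat.card M → s = p := by
        intro h
        apply hker
        haveI : Fact p.Prime := ⟨hp⟩
        have hMp : IsPGroup p M := IsPGroup.of_card
          (Nat.eq_prime_pow_of_unique_prime_dvd Nat.card_pos.ne' fun {d} hd hd' => h d hd hd')
        haveI := hMp.isNilpotent
        infer_instance
      push Not at hcardM
      obtain ⟨s, hs, hsM, hsp⟩ := hcardM
      exact core M x hH (fun K hK hKM => by
        by_cases hK1 : K = ⊥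
        · exact Or.inl hK1
        · haveI := hK
          exact Or.inr (hM.eq_of_le hKM hK1)) hxM p k s hp hs hsp hsM hx
    · have hsol := ih _ (Cfsg.Agent.HallSolvable.card_subgroup_lt hH) H rfl xH p i hp hi
      set NH := (Subgroup.normalClosure ({xH} : Set H)).map H.subtype
      haveI : Group.IsSolvable NH := by
        haveI := hsol
        exact Group.isSolvable_of_surjective (H.subtype.subgroupMap_surjective _)
      -- the join of the solvable normal subgroups of M
      let R : Subgroup G := sSup {K : Subgroup G | K ≤ M ∧ Group.IsSolvable K ∧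
        M ≤ Subgroup.normalizer (K : Set G)}
      have hR : R ≤ M ∧ Group.IsSolvable R := by
        have hfin := Set.toFinite {K : Subgroup G | K ≤ M ∧ Group.IsSolvable K ∧
          M ≤ Subgroup.normalizer (K : Set G)}
        suffices ∀ s : Set (Subgroup G), s.Finite → (∀ K ∈ s, K ≤ M ∧ Group.IsSolvable K ∧
            M ≤ Subgroup.normalizer (K : Set G)) →
            sSup s ≤ M ∧ Group.IsSolvable ↥(sSup s) from this _ hfin fun K hK => hK
        intro s hs
        induction s, hs using Set.Finite.induction_on with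
        | empty => intro _; rw [sSup_empty]; exact ⟨bot_le, inferInstance⟩
        | @insert K s _ _ ihs =>
          intro hall
          obtain ⟨h1, h2⟩ := ihs fun L hL => hall L (Set.mem_insert_of_mem _ hL)
          obtain ⟨hK1, hK2, hK3⟩ := hall K (Set.mem_insert K s)
          rw [sSup_insert]
          exact ⟨sup_le hK1 h1, SignalizerBasic.isSolvable_sup hK2 h2 (h1.trans hK3)⟩
      have hRn : R.Normal := ⟨fun r hr g => by
        have hle : R ≤ R.comap (MulAut.conj g).toMonoidHom := sSup_le fun K ⟨hK1, hK2, hK3⟩ => by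
          rw [← Subgroup.map_le_iff_le_comap]
          refine le_sSup ⟨?_, ?_, ?_⟩
          · rintro _ ⟨k, hk, rfl⟩
            exact hM.normal.conj_mem k (hK1 hk) g
          · haveI := hK2
            exact Group.isSolvable_of_surjective ((MulAut.conj g).toMonoidHom.subgroupMap_surjective K)
          · intro m hm
            rw [← Subgroup.map_equiv_normalizer_eq K (MulAut.conj g)]
            exact ⟨g⁻¹ * m * g, hK3 (by simpa using hM.normal.conj_mem m hm g⁻¹), by
              show g * (g⁻¹ * m * g) * g⁻¹ = m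
              group⟩
        exact hle hr⟩
      have hmem : ∀ m ∈ M, x * m * x⁻¹ * m⁻¹ ∈ R := by
        intro m hm
        have hmH : m ∈ H := Subgroup.mem_sup_left hm
        have hle : M ⊓ NH ≤ R := by
          refine le_sSup ⟨inf_le_left, ?_, ?_⟩
          · exact solvable_of_solvable_injective (Subgroup.inclusion_injective (inf_le_right : M ⊓ NH ≤ NH))
          intro a ha
          have key : ∀ a ∈ M, ∀ z ∈ M ⊓ NH, a * z * a⁻¹ ∈ M ⊓ NH := by
            rintro a ha _ ⟨hz, z, hz', rfl⟩
            exact ⟨M.mul_mem (M.mul_mem ha hz) (M.inv_mem ha),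
              ⟨⟨a, Subgroup.mem_sup_left ha⟩ * z * ⟨a, Subgroup.mem_sup_left ha⟩⁻¹,
                (Subgroup.normalClosure_normal (s := ({xH} : Set H))).conj_mem z hz' _, rfl⟩⟩
          rw [Subgroup.mem_normalizer_iff]
          refine fun z => ⟨key a ha z, fun hz => ?_⟩
          have := key a⁻¹ (M.inv_mem ha) _ hz
          simpa [mul_assoc] using this
        refine hle ⟨M.mul_mem (hM.normal.conj_mem m hm x) (M.inv_mem hm), ?_⟩
        have hxN : xH ∈ Subgroup.normalClosure ({xH} : Set H) :=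
          Subgroup.subset_normalClosure (Set.mem_singleton xH)
        have hcomm : xH * ((⟨m, hmH⟩ : H) * xH⁻¹ * (⟨m, hmH⟩ : H)⁻¹) ∈
            Subgroup.normalClosure ({xH} : Set H) :=
          mul_mem hxN ((Subgroup.normalClosure_normal (s := ({xH} : Set H))).conj_mem _
            (inv_mem hxN) (⟨m, hmH⟩ : H))
        have hxm : x * m * x⁻¹ * m⁻¹ = x * (m * x⁻¹ * m⁻¹) := by group
        rw [hxm]
        exact Subgroup.mem_map_of_mem H.subtype hcomm
      obtain ⟨m, hm, hne⟩ := hxM
      have hR1 : R ≠ ⊥ := by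
        intro h
        have := hmem m hm
        rw [h, Subgroup.mem_bot] at this
        exact hne (mul_inv_eq_iff_eq_mul.1 (mul_inv_eq_one.1 this))
      haveI := hRn
      exact hker (hM.eq_of_le hR.1 hR1 ▸ hR.2)

end Cfsg.Agent.H74Kazarin
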