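import Mathlib
import Cfsg.Agent.Lib.FlavellSetup20
import Cfsg.Agent.Lib.FlavellFrameBase20

/-!
Setup for the coprime action theorem without a restriction on the fixed point subgroup: `a` of prime
order `r` acts on the `r'`-group `X` and fixed point freely on a faithful `p`-module `V`; the claim
is that `[X, a]` is `p`-closed with a `2`-group as quotient.

`Ctx` collects what is known of a minimal counterexample, `Two` the invariant `2`-subgroup
`T = [W, a]`, `Maxi` a maximal invariant overgroup of `T` with a non-trivial `p`-core in its moved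
part; the main step is that `Maxi` is impossible.
-/

set_option autoImplicit false

open scoped commutatorElement

namespace Cfsg.Agent.Flavell8

open Subgroup
open Cfsg.Agent.Flavell20 (fixA cen Facts)
open Cfsg.Agent.FlavellFrame20 (ISyl)

universe u

variable {Γ : Type u} [Group Γ]

/-- The hypothesis, with no condition on the fixed point subgroup. -/
structure Core (p r : ℕ) (V X : Subgroup Γ) (a : Γ) : Prop where
  hp : p.Prime
  hp2 : p ≠ 2
  hr : r.Prime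
  hrp : r ≠ p
  orda : orderOf a = r
  Vne : V ≠ ⊥
  Vcomm : ∀ x ∈ V, ∀ y ∈ V, x * y = y * x
  Vexp : ∀ x ∈ V, x ^ p = 1
  aX : a ∈ normalizer (X : Set Γ)
  aV : a ∈ normalizer (V : Set Γ)
  XV : X ≤ normalizer (V : Set Γ)
  faith : X ⊓ centralizer (V : Set Γ) = ⊥
  fixV : V ⊓ centralizer ({a} : Set Γ) = ⊥
  rX : ¬ r ∣ Nat.card X

/-- The conclusion: `[X, a]` has a normal `p`-subgroup of index a power of `2`. -/
def Nice (p : ℕ) (X : Subgroup Γ) (a : Γ) : Prop :=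
  ∃ P : Subgroup Γ, P ≤ ⁅X, zpowers a⁆ ∧ IsPGroup p P ∧
    ⁅X, zpowers a⁆ ≤ normalizer (P : Set Γ) ∧ ∃ k : ℕ, P.relIndex ⁅X, zpowers a⁆ = 2 ^ k

/-- What is known of a minimal counterexample. -/
structure Ctx (p r : ℕ) (V X : Subgroup Γ) (a : Γ) : Prop extends Core p r V X a where
  F : Facts p r X a
  hmin : ∀ H : Subgroup Γ, H ≤ X → H ≠ X → a ∈ normalizer (H : Set Γ) → Nice p H a
  /-- `X` is irreducible on `V` -/
  irr : ∀ U : Subgroup Γ, U ≤ V → X ≤ normalizer (U : Set Γ) → a ∈ normalizer (U : Set Γ) →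
    U = ⊥ ∨ U = V
  op : ∀ Q : Subgroup Γ, Q ≤ X → IsPGroup p Q → X ≤ normalizer (Q : Set Γ) → Q = ⊥
  comm_top : ⁅X, zpowers a⁆ = X
  central : ∀ N : Subgroup Γ, N ≤ X → N ≠ X → X ≤ normalizer (N : Set Γ) →
    a ∈ normalizer (N : Set Γ) → N ≤ centralizer (X : Set Γ)
  perfect : ⁅X, X⁆ = X
  Xne : X ≠ ⊥

/-- `T = [W, a]` for an invariant Sylow `2`-subgroup `W`, with its structure. -/
structure Two (r n : ℕ) (X W T : Subgroup Γ) (a : Γ) : Prop where
  syl : ISyl 2 X W a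
  Tgen : T = ⁅W, zpowers a⁆
  ne : T ≠ ⊥
  n1 : 1 ≤ n
  rn : r = 2 ^ n + 1
  TW : T ≤ W
  TX : T ≤ X
  WT : W ≤ normalizer (T : Set Γ)
  T2 : IsPGroup 2 T
  aT : a ∈ normalizer (T : Set Γ)
  gen : ⁅T, zpowers a⁆ = T
  fix : T ⊓ centralizer ({a} : Set Γ) = cen T
  der : ⁅T, T⁆ = cen T
  sq : ∀ t ∈ T, t * t ∈ cen T
  Zexp : ∀ z ∈ cen T, z * z = 1
  /-- invariant `2`-subgroups lie in fixed conjugates of `W` -/
  inv2 : ∀ E : Subgroup Γ, E ≤ X → a ∈ normalizer (E : Set Γ) → IsPGroup 2 E →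
    ∃ c ∈ fixA X a, E ≤ W.map (MulAut.conj c).toMonoidHom
  /-- the moved part of an invariant `2`-subgroup lies in a fixed conjugate of `T` -/
  moved : ∀ E : Subgroup Γ, E ≤ X → a ∈ normalizer (E : Set Γ) → IsPGroup 2 E →
    ∃ c ∈ fixA X a, ⁅E, zpowers a⁆ ≤ T.map (MulAut.conj c).toMonoidHom

/-- A maximal invariant overgroup `H` of `T` whose moved part `Q ⊔ T` has `p`-core `Q ≠ ⊥`. -/
structure Maxi (p : ℕ) (X T H Q : Subgroup Γ) (a : Γ) : Prop where
  HX : H ≤ X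
  Hne : H ≠ X
  aH : a ∈ normalizer (H : Set Γ)
  TH : T ≤ H
  QH : Q ≤ H
  Qp : IsPGroup p Q
  Qne : Q ≠ ⊥
  aQ : a ∈ normalizer (Q : Set Γ)
  HQ : H ≤ normalizer (Q : Set Γ)
  normQ : X ⊓ normalizer (Q : Set Γ) ≤ H
  comm : ⁅H, zpowers a⁆ = Q ⊔ T
  commQT : ⁅Q ⊔ T, zpowers a⁆ = Q ⊔ T
  /-- every proper invariant subgroup containing `Q` and `T` lies in `H` -/
  max : ∀ L : Subgroup Γ, L ≤ X → L ≠ X → a ∈ normalizer (L : Set Γ) → T ≤ L → Q ≤ L → L ≤ H
  /-- `H` contains no invariant Sylow `p`-subgroup of `X` -/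
  notFull : ∀ S : Subgroup Γ, ISyl p X S a → ¬ S ≤ H

/-- No moved part of an overgroup of `T` has a non-trivial `p`-core; the moved part is `T`. -/
def OverT (X T : Subgroup Γ) (a : Γ) : Prop :=
  ∀ H : Subgroup Γ, H ≤ X → H ≠ X → a ∈ normalizer (H : Set Γ) → T ≤ H →
    ⁅H, zpowers a⁆ = T ∧ H ≤ normalizer (T : Set Γ)

/-- The scalar lemma: what commutes with a moved `2`-group moves nothing on its commutator. -/
def Scalar (p : ℕ) (V X : Subgroup Γ) (a : Γ) : Prop :=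
  ∀ D P : Subgroup Γ, D ≤ X → P ≤ X → a ∈ normalizer (D : Set Γ) → a ∈ normalizer (P : Set Γ) →
    IsPGroup 2 D → ⁅D, zpowers a⁆ = D → IsPGroup p P → P ≤ centralizer (D : Set Γ) →
    ⁅P, zpowers a⁆ ≤ centralizer ((⁅V, D⁆ : Subgroup Γ) : Set Γ)

/-- Stability: a fixed `p`-element acting quadratically on a `p`-section moves `T` trivially on it. -/
def Quad (p r : ℕ) (Γ : Type u) [Group Γ] : Prop :=
  ∀ (T U : Subgroup Γ) (a c : Γ), orderOf a = r → IsPGroup 2 T → a ∈ normalizer (T : Set Γ) →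
    ⁅T, zpowers a⁆ = T → ⁅T, T⁆ ≤ cen T → (∀ t ∈ T, t * t ∈ cen T) → (∀ z ∈ cen T, z * z = 1) →
    T ⊓ centralizer ({a} : Set Γ) = cen T →
    IsPGroup p U → (∀ x ∈ U, ∀ y ∈ U, x * y = y * x) → (∀ x ∈ U, x ^ p = 1) →
    T ≤ normalizer (U : Set Γ) → a ∈ normalizer (U : Set Γ) → c ∈ normalizer (U : Set Γ) →
    c ∈ normalizer (T : Set Γ) → a * c = c * a → (∃ k : ℕ, c ^ p ^ k = 1) →
    ⁅⁅U, zpowers c⁆, zpowers c⁆ = ⊥ → ⁅T, zpowers c⁆ ≤ centralizer (U : Set Γ)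

/-- The case that the centraliser of `Q` in `T` is moved by `a`. -/
def KillMoved (p r n : ℕ) (V X W T : Subgroup Γ) (a : Γ) : Prop :=
  Ctx p r V X a → Two r n X W T a → Scalar p V X a → ∀ H Q : Subgroup Γ, Maxi p X T H Q a →
    ⁅T ⊓ centralizer (Q : Set Γ), zpowers a⁆ ≠ ⊥ → False

/-- The case that the centraliser of `Q` in `T` is centralised by `a`. -/
def KillFixed (p r n : ℕ) (V X W T : Subgroup Γ) (a : Γ) : Prop :=
  Ctx p r V X a → Two r n X W T a → Quad p r Γ → ∀ H Q : Subgroup Γ, Maxi p X T H Q a →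
    ⁅T ⊓ centralizer (Q : Set Γ), zpowers a⁆ = ⊥ → False

end Cfsg.Agent.Flavell8
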