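import Mathlib
import Cfsg.Agent.Lib.FlavellSetup8
import Cfsg.Agent.Lib.FlavellFacts20

/-!
The consequences of the Hall-Higman theorem and of Kazarin's theorem when `p` may divide the order of
the fixed point subgroup: the argument does not use that hypothesis.
-/

set_option autoImplicit false
set_option linter.unusedSectionVars false
set_option linter.style.haveILetI false

namespace Cfsg.Agent.Flavell8

open Cfsg.Agent.Flavell20 (fixA cen Facts)

namespace A1

open Subgroup
open scoped commutatorElement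
open Cfsg.Agent.Flavell20.A1 (conj_mem_of_normalizer comm_mem_of_normalizer le_centralizer_zpowers
  mem_normalizer_commutator le_normalizer_of_derived_le exists_pow_of_mem hom_trivial
  le_centralizer_of_fixed isSolvable_zpowers' le_two_sylow normalizer_pCore_map)

universe u

variable {Γ : Type u} [Group Γ] [Finite Γ] {p r : ℕ} {V X : Subgroup Γ} {a : Γ}

/-- Hall-Higman: a moved invariant `q`-group is the exceptional one. -/
theorem exceptional (h : Core p r V X a) {q : ℕ} (hq : q.Prime) (hqp : q ≠ p) {E : Subgroup Γ}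
    (hEX : E ≤ X) (haE : a ∈ normalizer (E : Set Γ)) (hE : IsPGroup q E)
    (hnc : ¬ E ≤ centralizer ({a} : Set Γ)) :
    q = 2 ∧ (∃ n : ℕ, 1 ≤ n ∧ r = 2 ^ n + 1) ∧ ¬ IsMulCommutative E := by
  haveI := Fact.mk hq
  have hqr : r ≠ q := by
    rintro rfl
    obtain ⟨k, hk⟩ := IsPGroup.iff_card.1 hE
    rcases Nat.eq_zero_or_pos k with rfl | hk0
    · rw [pow_zero, ← Subgroup.eq_bot_iff_card] at hk
      exact hnc (hk ▸ bot_le)
    · exact h.rX ((dvd_pow_self r hk0.ne').trans (hk ▸ card_dvd_of_le hEX))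
  have hV : Cfsg.IsElementaryAbelian p V :=
    ⟨⟨⟨fun x y => Subtype.ext (h.Vcomm x x.2 y y.2)⟩⟩, h.Vexp⟩
  have hfaith : E ⊓ centralizer (V : Set Γ) = ⊥ :=
    eq_bot_iff.2 ((inf_le_inf_right _ hEX).trans h.faith.le)
  obtain ⟨hE1, hab⟩ := HallHigman.exceptional_of_no_fixed (e := 1) h.hp h.hr hq hqr hqp.symm le_rfl
    (x := a) (by rw [pow_one, ← h.orda, pow_orderOf_eq_one]) hV h.aV (hEX.trans h.XV) haE hE hfaith
    (by rwa [Nat.sub_self, pow_zero, pow_one]) h.fixV
  obtain ⟨hq2, i, j, hi1, hi, -, heq⟩ := hE1.odd h.hr (hE1.ne_two hq) hq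
  obtain rfl : i = 1 := by omega
  refine ⟨hq2, ⟨j, ?_, by simpa using heq⟩, hab⟩
  by_contra hj
  obtain rfl : j = 0 := by omega
  exact hE1.ne_two hq (by simpa using heq)

theorem oddFix_of_core (h : Core p r V X a) {q : ℕ} (hq : q.Prime) (hq2 : q ≠ 2) (hqp : q ≠ p)
    {E : Subgroup Γ} (hEX : E ≤ X) (haE : a ∈ normalizer (E : Set Γ)) (hE : IsPGroup q E) :
    E ≤ centralizer ({a} : Set Γ) := by
  by_contra hnc
  exact hq2 (exceptional h hq hqp hEX haE hE hnc).1

theorem abel_of_core (h : Core p r V X a) {E : Subgroup Γ} (hEX : E ≤ X)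
    (haE : a ∈ normalizer (E : Set Γ)) (hE : IsPGroup 2 E)
    (hc : ∀ x ∈ E, ∀ y ∈ E, x * y = y * x) : E ≤ centralizer ({a} : Set Γ) := by
  by_contra hnc
  exact (exceptional h Nat.prime_two (Ne.symm h.hp2) hEX haE hE hnc).2.2
    ⟨⟨fun x y => Subtype.ext (hc x x.2 y y.2)⟩⟩

theorem special_of_core (h : Core p r V X a) {E : Subgroup Γ} (hEX : E ≤ X)
    (haE : a ∈ normalizer (E : Set Γ)) (hE : IsPGroup 2 E) (hEA : ⁅E, zpowers a⁆ = E) :
    E ⊓ centralizer ({a} : Set Γ) = cen E ∧ ⁅E, E⁆ ≤ cen E ∧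
      (∀ x ∈ E, x * x ∈ cen E) ∧ (∀ x ∈ cen E, x * x = 1) := by
  haveI : Fact (Nat.Prime 2) := ⟨Nat.prime_two⟩
  have hab : ∀ N : Subgroup Γ, N ≤ E → a ∈ normalizer (N : Set Γ) →
      (∀ x ∈ N, ∀ y ∈ N, x * y = y * x) → N ≤ centralizer ({a} : Set Γ) :=
    fun N hNE haN hc => abel_of_core h (hNE.trans hEX) haN (hE.to_le hNE) hc
  -- the derived group is central
  set L := E.lowerCentralSeries with hLdef
  have hL1 : ∀ k, L k ≤ E := fun k => lowerCentralSeries_le_self E k
  have haL : ∀ k, a ∈ normalizer (L k : Set Γ) := by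
    intro k
    induction k with
    | zero => exact haE
    | succ k ih => exact mem_normalizer_commutator ih haE
  haveI := hE.isNilpotent
  obtain ⟨n, hn⟩ := (isNilpotent_iff_lowerCentralSeries E).1 inferInstance
  have hdown : ∀ d k, n ≤ k + 1 + d → L (k + 1) ≤ centralizer (E : Set Γ) := by
    intro d
    induction d with
    | zero =>
      intro k hk
      exact ((Subgroup.lowerCentralSeries_antitone E hk).trans hn.le).trans bot_le
    | succ d ih =>
      intro k hk
      have hnext : L (k + 1 + 1) ≤ centralizer (E : Set Γ) := ih (k + 1) (by omega)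
      have hb : ⁅⁅L (k + 1), E⁆, E⁆ = ⊥ := commutator_eq_bot_iff_le_centralizer.2 hnext
      have h3 : ⁅⁅E, E⁆, L (k + 1)⁆ = ⊥ :=
        commutator_commutator_eq_bot_of_rotate (by rw [commutator_comm E]; exact hb) hb
      have hsub : L (k + 1) ≤ ⁅E, E⁆ := Subgroup.lowerCentralSeries_antitone E (show 1 ≤ k + 1 by omega)
      have hLc : ∀ x ∈ L (k + 1), ∀ y ∈ L (k + 1), x * y = y * x := fun x hx y hy =>
        commutatorElement_eq_one_iff_mul_comm.1 (by
          have := commutator_mem_commutator (hsub hx) hy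
          rwa [h3, mem_bot] at this)
      exact le_centralizer_of_fixed hEA (self_le_normalizer_lowerCentralSeries E (k + 1))
        (hab _ (hL1 _) (haL _) hLc)
  have hder : ⁅E, E⁆ ≤ cen E := le_inf (hL1 1) (hdown n 0 (by omega))
  have hcom : ∀ x ∈ E, ∀ y ∈ E, ∀ u ∈ E, ⁅x, y⁆ * u = u * ⁅x, y⁆ := fun x hx y hy u hu =>
    (mem_centralizer_iff.1 (hder (commutator_mem_commutator hx hy)).2 u hu).symm
  -- fixed points are central
  have haZ : a ∈ normalizer (cen E : Set Γ) := by
    rw [mem_normalizer_iff]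
    intro x
    constructor
    · intro hx
      refine ⟨conj_mem_of_normalizer haE hx.1, mem_centralizer_iff.2 fun u hu => ?_⟩
      have hu' := mem_centralizer_iff.1 hx.2 _ (conj_mem_of_normalizer (inv_mem haE) hu)
      calc u * (a * x * a⁻¹) = a * ((a⁻¹ * u * a⁻¹⁻¹) * x) * a⁻¹ := by group
        _ = a * (x * (a⁻¹ * u * a⁻¹⁻¹)) * a⁻¹ := by rw [hu']
        _ = a * x * a⁻¹ * u := by group
    · intro hx
      have hxE : x ∈ E := by
        have := conj_mem_of_normalizer (inv_mem haE) hx.1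
        simpa [mul_assoc] using this
      refine ⟨hxE, mem_centralizer_iff.2 fun u hu => ?_⟩
      have hu' := mem_centralizer_iff.1 hx.2 _ (conj_mem_of_normalizer haE hu)
      calc u * x = a⁻¹ * ((a * u * a⁻¹) * (a * x * a⁻¹)) * a := by group
        _ = a⁻¹ * ((a * x * a⁻¹) * (a * u * a⁻¹)) * a := by rw [hu']
        _ = x * u := by group
  have hZfix : cen E ≤ centralizer ({a} : Set Γ) :=
    hab _ inf_le_left haZ fun x hx y hy => (mem_centralizer_iff.1 hy.2 x hx.1)
  have hfix : E ⊓ centralizer ({a} : Set Γ) = cen E := by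
    refine le_antisymm (le_inf inf_le_left (le_centralizer_of_fixed hEA ?_ inf_le_right))
      (le_inf inf_le_left hZfix)
    refine le_normalizer_iff_commutator_le_left.2 (commutator_le.2 fun x hx y hy => ?_)
    exact ⟨E.commutator_le_self (commutator_mem_commutator hx.1 hy),
      hZfix (hder (commutator_mem_commutator hx.1 hy))⟩
  -- the derived group is elementary abelian
  have hpw : ∀ x ∈ E, ∀ y ∈ E, ∀ m k : ℕ, ⁅x ^ m, y ^ k⁆ = ⁅x, y⁆ ^ (m * k) := by
    have hleft : ∀ x ∈ E, ∀ y ∈ E, ∀ m : ℕ, ⁅x ^ m, y⁆ = ⁅x, y⁆ ^ m := by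
      intro x hx y hy m
      induction m with
      | zero => simp
      | succ m ih =>
        calc ⁅x ^ (m + 1), y⁆ = x * ⁅x ^ m, y⁆ * x⁻¹ * ⁅x, y⁆ := by
              rw [pow_succ']; simp only [commutatorElement_def]; group
          _ = ⁅x ^ m, y⁆ * x * x⁻¹ * ⁅x, y⁆ := by rw [hcom _ (pow_mem hx m) y hy x hx]
          _ = ⁅x, y⁆ ^ (m + 1) := by rw [mul_inv_cancel_right, ih, pow_succ]
    intro x hx y hy m k
    rw [hleft x hx (y ^ k) (pow_mem hy k), ← commutatorElement_inv, hleft y hy x hx,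
      ← inv_pow, commutatorElement_inv, ← pow_mul, mul_comm]
  have hcomm2 : ∀ x ∈ E, ∀ y ∈ E, ⁅x, y⁆ ^ 2 = 1 := by
    obtain ⟨k, hk⟩ := IsPGroup.iff_card.1 hE
    have hm : ∃ m : ℕ, ∀ x ∈ E, ∀ y ∈ E, ⁅x, y⁆ ^ 2 ^ m = 1 := by
      refine ⟨k, fun x hx y hy => ?_⟩
      have h1 : (⟨⁅x, y⁆, E.commutator_le_self (commutator_mem_commutator hx hy)⟩ : E) ^ 2 ^ k
          = 1 := by rw [← hk]; exact pow_card_eq_one'
      exact congrArg Subtype.val h1
    classical
    set m := Nat.find hm with hmdef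
    have hspec := Nat.find_spec hm
    by_contra hne
    have hm2 : 2 ≤ m := by
      by_contra hlt
      refine hne fun x hx y hy => ?_
      have := hspec x hx y hy
      rcases (show m = 0 ∨ m = 1 by omega) with e | e <;> rw [hmdef] at e <;> rw [e] at this
      · rw [pow_zero, pow_one] at this; rw [this, one_pow]
      · rwa [pow_one] at this
    set i := (m + 1) / 2 with hidef
    set S : Set Γ := {g | ∃ x ∈ E, x ^ 2 ^ i = g} with hSdef
    have hSE : closure S ≤ E := (closure_le E).2 fun g ⟨x, hx, e⟩ => e ▸ pow_mem hx _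
    have hScomm : ∀ u ∈ S, ∀ v ∈ S, u * v = v * u := by
      rintro _ ⟨x, hx, rfl⟩ _ ⟨y, hy, rfl⟩
      refine commutatorElement_eq_one_iff_mul_comm.1 ?_
      obtain ⟨d, hd⟩ : 2 ^ m ∣ 2 ^ i * 2 ^ i := by
        rw [← pow_add]; exact pow_dvd_pow 2 (by omega)
      rw [hpw x hx y hy, hd, pow_mul, hspec x hx y hy, one_pow]
    have hclos : ∀ u ∈ closure S, ∀ v ∈ closure S, u * v = v * u := by
      have h1 : closure S ≤ centralizer S :=
        (closure_le _).2 fun u hu => mem_centralizer_iff.2 fun v hv => hScomm v hv u hu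
      rw [← centralizer_closure] at h1
      exact fun u hu v hv => mem_centralizer_iff.1 (h1 hv) u hu
    have haS : a ∈ normalizer (closure S : Set Γ) := by
      rw [mem_normalizer_iff_map_conj_eq, MonoidHom.map_closure]
      congr 1
      ext g
      constructor
      · rintro ⟨_, ⟨x, hx, rfl⟩, rfl⟩
        exact ⟨a * x * a⁻¹, conj_mem_of_normalizer haE hx, conj_pow⟩
      · rintro ⟨x, hx, rfl⟩
        refine ⟨(a⁻¹ * x * a⁻¹⁻¹) ^ 2 ^ i,
          ⟨_, conj_mem_of_normalizer (inv_mem haE) hx, rfl⟩, ?_⟩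
        show a * ((a⁻¹ * x * a⁻¹⁻¹) ^ 2 ^ i) * a⁻¹ = x ^ 2 ^ i
        rw [← conj_pow]
        congr 1
        group
    have hSZ : closure S ≤ cen E := hfix ▸ le_inf hSE (hab _ hSE haS hclos)
    have hbound : ∀ x ∈ E, ∀ y ∈ E, ⁅x, y⁆ ^ 2 ^ i = 1 := fun x hx y hy => by
      have h1 : ⁅x ^ 2 ^ i, y ^ 1⁆ = 1 := by
        rw [pow_one]
        exact commutatorElement_eq_one_iff_mul_comm.2
          (mem_centralizer_iff.1 (hSZ (subset_closure ⟨x, hx, rfl⟩)).2 y hy).symm
      rwa [hpw x hx y hy, mul_one] at h1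
    have : m ≤ i := Nat.find_min' hm hbound
    omega
  have hsq : ∀ x ∈ E, x * x ∈ cen E := fun x hx => by
    refine ⟨mul_mem hx hx, mem_centralizer_iff.2 fun y hy => ?_⟩
    have h1 := hpw x hx y hy 2 1
    rw [pow_one, mul_one, hcomm2 x hx y hy, pow_two] at h1
    exact (commutatorElement_eq_one_iff_mul_comm.1 h1).symm
  have hfixmem : ∀ z ∈ cen E, a * z * a⁻¹ = z := fun z hz => by
    rw [← mem_centralizer_singleton_iff.1 (hZfix hz), mul_inv_cancel_right]
  -- squares lie in the derived group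
  let π : E →* Abelianization E := Abelianization.of
  have hπ : ∀ x : E, π x * π x = 1 := fun x => by
    refine hom_trivial haE hEA (π * π) (fun e => ?_) x
    show π _ * π _ = π e * π e
    rw [← map_mul, ← map_mul]
    refine congrArg π (Subtype.ext ?_)
    show a * e * a⁻¹ * (a * e * a⁻¹) = e * e
    rw [show a * (e : Γ) * a⁻¹ * (a * e * a⁻¹) = a * ((e : Γ) * e) * a⁻¹ by group,
      hfixmem _ (hsq e e.2)]
  -- the centre lies in the derived group
  refine ⟨hfix, hder, hsq, fun z hz => ?_⟩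
  let c : ℕ → E → E := fun i e => ⟨a ^ i * e * (a ^ i)⁻¹,
    conj_mem_of_normalizer (pow_mem haE i) e.2⟩
  let η : E →* Abelianization E := MonoidHom.mk' (fun e => ∏ i ∈ Finset.range r, π (c i e))
    fun u v => by
      rw [← Finset.prod_mul_distrib]
      refine Finset.prod_congr rfl fun i _ => ?_
      rw [← map_mul]
      exact congrArg π (Subtype.ext (by
        show a ^ i * (u * v : Γ) * (a ^ i)⁻¹ =
          a ^ i * u * (a ^ i)⁻¹ * (a ^ i * v * (a ^ i)⁻¹)
        group))
  have hη : ∀ e : E, η e = 1 := fun e => hom_trivial haE hEA η (fun e => by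
    show ∏ i ∈ Finset.range r, π (c i _) = ∏ i ∈ Finset.range r, π (c i e)
    have hsucc : ∀ i, c i ⟨a * e * a⁻¹, conj_mem_of_normalizer haE e.2⟩ = c (i + 1) e := fun i =>
      Subtype.ext (by
        show a ^ i * (a * e * a⁻¹) * (a ^ i)⁻¹ = a ^ (i + 1) * e * (a ^ (i + 1))⁻¹
        rw [pow_succ]; group)
    simp only [hsucc]
    have h1 := Finset.prod_range_succ' (fun i => π (c i e)) r
    have h2 := Finset.prod_range_succ (fun i => π (c i e)) r
    have hr0 : c r e = c 0 e := Subtype.ext (by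
      show a ^ r * (e : Γ) * (a ^ r)⁻¹ = a ^ 0 * e * (a ^ 0)⁻¹
      rw [← h.orda, pow_orderOf_eq_one, pow_zero])
    rw [hr0, h1] at h2
    exact mul_right_cancel h2) e
  have hzr : π ⟨z, hz.1⟩ ^ r = 1 := by
    have h1 := hη ⟨z, hz.1⟩
    change ∏ i ∈ Finset.range r, π (c i _) = 1 at h1
    rw [Finset.prod_congr rfl (g := fun _ => π ⟨z, hz.1⟩) fun i _ => congrArg π (Subtype.ext (by
        show a ^ i * z * (a ^ i)⁻¹ = z
        have hcz : Commute z a := mem_centralizer_singleton_iff.1 (hZfix hz)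
        rw [← (hcz.pow_right i).eq, mul_inv_cancel_right])),
      Finset.prod_const, Finset.card_range] at h1
    exact h1
  have hz1 : π ⟨z, hz.1⟩ = 1 := by
    rcases eq_or_ne r 2 with hr2 | hr2
    · have hEbot : E = ⊥ := by
        obtain ⟨k, hk⟩ := IsPGroup.iff_card.1 hE
        rcases Nat.eq_zero_or_pos k with rfl | hk0
        · rw [pow_zero, ← Subgroup.eq_bot_iff_card] at hk; exact hk
        · refine absurd ?_ h.rX
          rw [hr2]
          exact (dvd_pow_self 2 hk0.ne').trans (hk ▸ card_dvd_of_le hEX)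
      have hz0 : z = 1 := mem_bot.1 (hEbot ▸ hz.1)
      exact (congrArg π (Subtype.ext hz0 : (⟨z, hz.1⟩ : E) = 1)).trans (map_one π)
    · obtain ⟨t, ht⟩ := h.hr.odd_of_ne_two hr2
      rwa [ht, pow_succ, pow_mul, pow_two, hπ, one_pow, one_mul] at hzr
  have hmem : (⟨z, hz.1⟩ : E) ∈ commutator E := by
    rw [← Abelianization.ker_of]; exact hz1
  have hz2 : z ∈ ⁅E, E⁆ := by
    rw [← map_subtype_commutator]
    exact ⟨_, hmem, rfl⟩
  have hK : ⁅E, E⁆ ≤
      { carrier := {u | u ∈ cen E ∧ u * u = 1}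
        one_mem' := ⟨one_mem _, mul_one 1⟩
        mul_mem' := fun {u v} hu hv => ⟨mul_mem hu.1 hv.1, by
          have h1 : v * u = u * v := mem_centralizer_iff.1 hu.1.2 v hv.1.1
          rw [show u * v * (u * v) = u * (v * u) * v by group, h1,
            show u * (u * v) * v = (u * u) * (v * v) by group, hu.2, hv.2, one_mul]⟩
        inv_mem' := fun {u} hu => ⟨inv_mem hu.1, by rw [← mul_inv_rev, hu.2, inv_one]⟩ } := by
    rw [commutator_le]
    exact fun x hx y hy => ⟨hder (commutator_mem_commutator hx hy),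
      by rw [← pow_two]; exact hcomm2 x hx y hy⟩
  exact (hK hz2).2

theorem coprime_card (h : Core p r V X a) {H : Subgroup Γ} (hHX : H ≤ X) :
    (Nat.card (zpowers a)).Coprime (Nat.card H) := by
  rw [Nat.card_zpowers, h.orda, h.hr.coprime_iff_not_dvd]
  exact fun hd => h.rX (hd.trans (card_dvd_of_le hHX))

/-- Every odd prime divides the index of the fixed points to the power zero. -/
theorem not_dvd_relIndex_fix (h : Core p r V X a) {H : Subgroup Γ} (hHX : H ≤ X)
    (haH : a ∈ normalizer (H : Set Γ)) (hpH : ¬ p ∣ Nat.card H) {q : ℕ} (hq : q.Prime)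
    (hq2 : q ≠ 2) : ¬ q ∣ (centralizer ({a} : Set Γ)).relIndex H := by
  haveI := Fact.mk hq
  intro hd
  have hqH : q ∣ Nat.card H := hd.trans (index_dvd_card _)
  obtain ⟨Q, hQ⟩ := CoprimeAction.exists_invariant_sylow (A := zpowers a) (K := H)
    (zpowers_le.2 haH) (coprime_card h hHX) (Or.inl (isSolvable_zpowers' a)) q
  have hQfix : (Q : Subgroup H).map H.subtype ≤ centralizer ({a} : Set Γ) :=
    oddFix_of_core h hq hq2 (fun e => hpH (e ▸ hqH)) ((map_subtype_le _).trans hHX)
      (hQ (mem_zpowers a)) (Q.isPGroup'.map _)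
  have hQle : (Q : Subgroup H) ≤ (centralizer ({a} : Set Γ)).subgroupOf H :=
    fun x hx => hQfix ⟨x, hx, rfl⟩
  exact Q.not_dvd_index (hd.trans (index_dvd_of_le hQle))

theorem relIndex_fix_eq (h : Core p r V X a) {H : Subgroup Γ} (hHX : H ≤ X)
    (haH : a ∈ normalizer (H : Set Γ)) (hpH : ¬ p ∣ Nat.card H) :
    ∃ k : ℕ, (centralizer ({a} : Set Γ)).relIndex H = 2 ^ k :=
  ⟨_, Nat.eq_prime_pow_of_unique_prime_dvd index_ne_zero_of_finite fun {d} hd hdvd => by
    by_contra hne
    exact not_dvd_relIndex_fix h hHX haH hpH hd hne hdvd⟩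

/-- A normal invariant subgroup of odd index absorbs `[H, a]`. -/
theorem absorb (h : Core p r V X a) {H U : Subgroup Γ} (hHX : H ≤ X)
    (haH : a ∈ normalizer (H : Set Γ)) (hpH : ¬ p ∣ Nat.card H) (hUH : U ≤ H)
    (hUn : H ≤ normalizer (U : Set Γ)) (haU : a ∈ normalizer (U : Set Γ))
    (h2 : ¬ 2 ∣ U.relIndex H) : ⁅H, zpowers a⁆ ≤ U := by
  set C := H ⊓ centralizer ({a} : Set Γ) with hC
  have hHUC : H ≤ U ⊔ C := by
    rw [← relIndex_eq_one]
    by_contra hne
    obtain ⟨q, hq, hqd⟩ := Nat.exists_prime_and_dvd hne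
    rcases eq_or_ne q 2 with rfl | hq2
    · exact h2 (hqd.trans (relIndex_dvd_of_le_left H le_sup_left))
    · refine not_dvd_relIndex_fix h hHX haH hpH hq hq2 ?_
      rw [← inf_relIndex_right, inf_comm]
      exact hqd.trans (relIndex_dvd_of_le_left H le_sup_right)
  rw [commutator_le]
  intro x hx g hg
  have hxUC : x ∈ ((C ⊔ U : Subgroup Γ) : Set Γ) := sup_comm U C ▸ hHUC hx
  rw [coe_mul_of_left_le_normalizer_right C U (inf_le_left.trans hUn)] at hxUC
  · obtain ⟨c, hc, u, hu, rfl⟩ := hxUC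
    have hgc : g * c⁻¹ * g⁻¹ = c⁻¹ := by
      rw [← mem_centralizer_iff.1 (le_centralizer_zpowers.2 inf_le_right (inv_mem hc)) g hg |>.symm,
        mul_inv_cancel_right]
    rw [show ⁅c * u, g⁆ = c * (u * (g * u⁻¹ * g⁻¹)) * (g * c⁻¹ * g⁻¹) by
      rw [commutatorElement_def]; group, hgc]
    exact conj_mem_of_normalizer (hUn hc.1)
      (mul_mem hu (conj_mem_of_normalizer (zpowers_le.2 haU hg) (inv_mem hu)))

/-- A solvable invariant `p'`-subgroup is moved inside a `2`-group. -/
theorem isPGroup_moved (h : Core p r V X a) :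
    ∀ (n : ℕ) (K : Subgroup Γ), Nat.card K = n → K ≤ X → a ∈ normalizer (K : Set Γ) →
      ¬ p ∣ Nat.card K → Group.IsSolvable K → IsPGroup 2 (⁅K, zpowers a⁆ : Subgroup Γ) := by
  haveI : Fact (Nat.Prime 2) := ⟨Nat.prime_two⟩
  intro n
  induction n using Nat.strong_induction_on with
  | _ n ih =>
    intro K hn hKX haK hpK hsol
    subst hn
    have hAK : zpowers a ≤ normalizer (K : Set Γ) := zpowers_le.2 haK
    have hcop := coprime_card h hKX
    have hKa : ⁅K, zpowers a⁆ ≤ K := CoprimeAction.commutator_le_self_of_le_normalizer hAK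
    rcases eq_or_ne (⁅K, zpowers a⁆) K with hKK | hKK
    swap
    · have hlt : Nat.card (⁅K, zpowers a⁆ : Subgroup Γ) < Nat.card K := by
        by_contra hge
        exact hKK (eq_of_le_of_card_ge hKa (not_lt.1 hge))
      have hr := ih _ hlt _ rfl (hKa.trans hKX)
        (mem_normalizer_commutator haK (le_normalizer (mem_zpowers a)))
        (fun hd => hpK (hd.trans (card_dvd_of_le hKa))) (CoprimeAction.isSolvable_of_le hKa)
      rwa [CoprimeAction.commutator_commutator_eq hAK hcop (Or.inl (isSolvable_zpowers' a))] at hr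
    rw [hKK]
    rcases eq_or_ne K ⊥ with rfl | hne
    · exact IsPGroup.of_bot
    set D := ⁅K, K⁆ with hD
    have hDK : D ≤ K := K.commutator_le_self
    have hKD : K ≤ normalizer (D : Set Γ) := le_normalizer_of_derived_le hDK le_rfl
    have haD : a ∈ normalizer (D : Set Γ) := mem_normalizer_commutator haK haK
    have hDlt : Nat.card D < Nat.card K := by
      by_contra hge
      haveI : Nontrivial K := (nontrivial_iff_ne_bot K).2 hne
      refine (Group.IsSolvable.commutator_lt_top_of_nontrivial (G := K)).ne ?_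
      apply map_injective K.subtype_injective
      rw [map_subtype_commutator, ← MonoidHom.range_eq_map, range_subtype]
      exact eq_of_le_of_card_ge hDK (not_lt.1 hge)
    have hDA : IsPGroup 2 (⁅D, zpowers a⁆ : Subgroup Γ) :=
      ih _ hDlt D rfl (hDK.trans hKX) haD (fun hd => hpK (hd.trans (card_dvd_of_le hDK)))
        (CoprimeAction.isSolvable_of_le hDK)
    set R := (Cfsg.pCore 2 D).map D.subtype with hR
    have hRD : R ≤ D := map_subtype_le _
    have hDAR : ⁅D, zpowers a⁆ ≤ R := CharTwoLocal.le_pCore_map hDA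
      (CoprimeAction.commutator_le_self_of_le_normalizer (zpowers_le.2 haD))
      (normalizer_commutator_ge_left D (zpowers a))
    have hKR : K ≤ normalizer (R : Set Γ) := fun k hk => normalizer_pCore_map (hKD hk)
    -- elements centralising `D` modulo `R`
    let S : Subgroup Γ :=
      { carrier := {g | g ∈ normalizer (D : Set Γ) ∧ g ∈ normalizer (R : Set Γ) ∧
          ∀ d ∈ D, ⁅g, d⁆ ∈ R}
        one_mem' := ⟨one_mem _, one_mem _, fun d _ => by simp⟩
        mul_mem' := fun {x y} hx hy => ⟨mul_mem hx.1 hy.1, mul_mem hx.2.1 hy.2.1, fun d hd => by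
          rw [show ⁅x * y, d⁆ = x * ⁅y, d⁆ * x⁻¹ * ⁅x, d⁆ by
            simp only [commutatorElement_def]; group]
          exact mul_mem (conj_mem_of_normalizer hx.2.1 (hy.2.2 d hd)) (hx.2.2 d hd)⟩
        inv_mem' := fun {x} hx => ⟨inv_mem hx.1, inv_mem hx.2.1, fun d hd => by
          rw [show ⁅x⁻¹, d⁆ = x⁻¹ * ⁅x, d⁆⁻¹ * x⁻¹⁻¹ by simp only [commutatorElement_def]; group]
          exact conj_mem_of_normalizer (inv_mem hx.2.1) (inv_mem (hx.2.2 d hd))⟩ }
    have haS : zpowers a ≤ S := fun g hg => ⟨zpowers_le.2 haD hg,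
      zpowers_le.2 (normalizer_pCore_map haD) hg, fun d hd => by
        rw [← commutatorElement_inv]
        exact inv_mem (hDAR (commutator_mem_commutator hd hg))⟩
    have hKS : K ≤ S := by
      rw [← hKK, commutator_le]
      intro k hk g hg
      have hg' := haS hg
      have hc : k * g * k⁻¹ ∈ S := by
        refine ⟨mul_mem (mul_mem (hKD hk) hg'.1) (inv_mem (hKD hk)),
          mul_mem (mul_mem (hKR hk) hg'.2.1) (inv_mem (hKR hk)), fun d hd => ?_⟩
        rw [show ⁅k * g * k⁻¹, d⁆ = k * ⁅g, k⁻¹ * d * k⁻¹⁻¹⁆ * k⁻¹ by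
          simp only [commutatorElement_def]; group]
        exact conj_mem_of_normalizer (hKR hk)
          (hg'.2.2 _ (conj_mem_of_normalizer (inv_mem (hKD hk)) hd))
      rw [commutatorElement_def]
      exact mul_mem hc (inv_mem hg')
    obtain ⟨W', hW'⟩ := CoprimeAction.exists_invariant_sylow (A := zpowers a) (K := K) hAK hcop
      (Or.inl (isSolvable_zpowers' a)) 2
    set W := (W' : Subgroup K).map K.subtype with hW
    have hWK : W ≤ K := map_subtype_le _
    have hW2 : ¬ 2 ∣ W.relIndex K := by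
      rw [relIndex, hW, ← comap_subtype, comap_map_eq_self_of_injective K.subtype_injective]
      exact W'.not_dvd_index
    have haW : a ∈ normalizer (W : Set Γ) := hW' (mem_zpowers a)
    have hWp : IsPGroup 2 W := W'.isPGroup'.map _
    have hRW : R ≤ W := le_two_sylow hWK hWp hW2 (hRD.trans hDK)
      (CharTwoLocal.isPGroup_pCore_map D) hKR
    have hDW : D ≤ normalizer (W : Set Γ) :=
      le_normalizer_iff_commutator_le_left.2 (commutator_le.2 fun w hw d hd =>
        hRW ((hKS (hWK hw)).2.2 d hd))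
    have hU : D ⊔ W ≤ K := sup_le hDK hWK
    have haU : a ∈ normalizer ((D ⊔ W : Subgroup Γ) : Set Γ) := by
      rw [mem_normalizer_iff_map_conj_eq, Subgroup.map_sup, mem_normalizer_iff_map_conj_eq.1 haD,
        mem_normalizer_iff_map_conj_eq.1 haW]
    have hKU : K ≤ D ⊔ W := hKK ▸ absorb h hKX haK hpK hU
      (le_normalizer_of_derived_le hU le_sup_left) haU
      (fun hd => hW2 (hd.trans (relIndex_dvd_of_le_left K le_sup_right)))
    have hKW : K ≤ normalizer (W : Set Γ) := hKU.trans (sup_le hDW le_normalizer)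
    exact hWp.to_le (hKK ▸ absorb h hKX haK hpK hWK hKW haW hW2)

theorem pprime_of_core (h : Core p r V X a) {H : Subgroup Γ} (hHX : H ≤ X)
    (haH : a ∈ normalizer (H : Set Γ)) (hpH : ¬ p ∣ Nat.card H) {W₀ : Subgroup Γ} (hWH : W₀ ≤ H)
    (haW : a ∈ normalizer (W₀ : Set Γ)) (hW : IsPGroup 2 W₀) (hW2 : ¬ 2 ∣ W₀.relIndex H) :
    ⁅H, zpowers a⁆ = ⁅W₀, zpowers a⁆ := by
  have hAH : zpowers a ≤ normalizer (H : Set Γ) := zpowers_le.2 haH
  have hcop := coprime_card h hHX
  have hKH : ⁅H, zpowers a⁆ ≤ H := CoprimeAction.commutator_le_self_of_le_normalizer hAH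
  -- `[H, a]` is solvable
  set L := H ⊔ zpowers a with hLdef
  have haL : a ∈ L := mem_sup_right (mem_zpowers a)
  set a' : L := ⟨a, haL⟩ with ha'
  set H' := H.subgroupOf L with hH'
  set C := centralizer ({a'} : Set L) with hCdef
  haveI hH'n : H'.Normal :=
    (normal_subgroupOf_iff_le_normalizer le_sup_left).2 (sup_le le_normalizer hAH)
  have hsup : C ⊔ H' = ⊤ := by
    refine eq_top_iff.2 fun x _ => ?_
    have hx : (x : Γ) ∈ ((zpowers a ⊔ H : Subgroup Γ) : Set Γ) := by
      rw [sup_comm]; exact x.2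
    rw [coe_mul_of_left_le_normalizer_right _ _ hAH] at hx
    obtain ⟨g, hg, y, hy, e⟩ := hx
    have hgL : g ∈ L := mem_sup_right hg
    have hyL : y ∈ L := mem_sup_left hy
    rw [show x = ⟨g, hgL⟩ * ⟨y, hyL⟩ from Subtype.ext e.symm]
    refine mul_mem (mem_sup_left ?_) (mem_sup_right hy)
    rw [hCdef, mem_centralizer_singleton_iff]
    obtain ⟨k, rfl⟩ := exists_pow_of_mem hg
    exact Subtype.ext (Commute.self_pow a k).eq.symm
  have hCrel : C.relIndex H' = (centralizer ({a} : Set Γ)).relIndex H := by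
    rw [← relIndex_subgroupOf (H := centralizer ({a} : Set Γ)) (le_sup_left : H ≤ L)]
    congr 1
    ext x
    simp [hCdef, mem_subgroupOf, mem_centralizer_singleton_iff, ha', Subtype.ext_iff]
  have hCidx : C.index = C.relIndex H' := by
    have e1 := relIndex_mul_index (inf_le_left : C ⊓ H' ≤ C)
    have e2 := relIndex_mul_index (inf_le_right : C ⊓ H' ≤ H')
    rw [inf_relIndex_right] at e2
    rw [inf_comm, inf_relIndex_right, inf_comm, ← e2, ← relIndex_sup_right (H := C) (K := H'),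
      hsup, relIndex_top_right, mul_comm (C.relIndex H')] at e1
    exact Nat.eq_of_mul_eq_mul_left (Nat.pos_of_ne_zero index_ne_zero_of_finite) e1
  obtain ⟨k, hk⟩ := relIndex_fix_eq h hHX haH hpH
  have hsolN : Group.IsSolvable (normalClosure ({a'} : Set L)) :=
    H74Kazarin.solvable_normalClosure _ L rfl a' 2 k Nat.prime_two
      (by rw [← hCdef, hCidx, hCrel, hk])
  have hKN : ⁅H, zpowers a⁆ ≤ (normalClosure ({a'} : Set L)).map L.subtype := by
    rw [commutator_le]
    intro x hx g hg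
    obtain ⟨i, rfl⟩ := exists_pow_of_mem hg
    have hN : (normalClosure ({a'} : Set L)).Normal := normalClosure_normal
    have ha1 : a' ∈ normalClosure ({a'} : Set L) := subset_normalClosure rfl
    refine ⟨⟨x, mem_sup_left hx⟩ * a' ^ i * ⟨x, mem_sup_left hx⟩⁻¹ * (a' ^ i)⁻¹,
      mul_mem (hN.conj_mem _ (pow_mem ha1 i) _) (inv_mem (pow_mem ha1 i)), ?_⟩
    simp [commutatorElement_def, ha']
  have hsolK : Group.IsSolvable (⁅H, zpowers a⁆ : Subgroup Γ) := by
    haveI := hsolN
    haveI : Group.IsSolvable ((normalClosure ({a'} : Set L)).map L.subtype : Subgroup Γ) :=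
      Group.isSolvable_of_surjective (L.subtype.subgroupMap_surjective _)
    exact CoprimeAction.isSolvable_of_le hKN
  have h2 := isPGroup_moved h _ (⁅H, zpowers a⁆) rfl (hKH.trans hHX)
    (mem_normalizer_commutator haH (le_normalizer (mem_zpowers a)))
    (fun hd => hpH (hd.trans (card_dvd_of_le hKH))) hsolK
  have hcc := CoprimeAction.commutator_commutator_eq hAH hcop (Or.inl (isSolvable_zpowers' a))
  rw [hcc] at h2
  have hKW : ⁅H, zpowers a⁆ ≤ W₀ :=
    le_two_sylow hWH hW hW2 hKH h2 (normalizer_commutator_ge_left H (zpowers a))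
  refine le_antisymm ?_ (commutator_mono hWH le_rfl)
  rw [← hcc]
  exact commutator_mono hKW le_rfl

end A1

open A1 in
/-- What follows from `Core` by the Hall-Higman theorem and Kazarin's theorem. -/
theorem facts {Γ : Type*} [Group Γ] [Finite Γ] {p r : ℕ} {V X : Subgroup Γ} {a : Γ}
    (h : Core p r V X a) : Facts p r X a where
  oddFix _ hq hq2 hqp _ hEX haE hE := oddFix_of_core h hq hq2 hqp hEX haE hE
  abel _ hEX haE hE hc := abel_of_core h hEX haE hE hc
  special _ hEX haE hE hEA := special_of_core h hEX haE hE hEA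
  fermat _ hEX haE hE hnc := (exceptional h Nat.prime_two (Ne.symm h.hp2) hEX haE hE hnc).2.1
  pprime _ hHX haH hpH _ hWH haW hW hW2 := pprime_of_core h hHX haH hpH hWH haW hW hW2

end Cfsg.Agent.Flavell8
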