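import Mathlib
import Cfsg.Agent.Lib.FlavellFacts8
import Cfsg.Agent.Lib.FlavellFrameLocal20

/-!
Basic tools for the coprime action theorem without a restriction on the fixed point subgroup:
invariant Sylow subgroups, the invariant `2`-subgroup `T` of a minimal counterexample, and the
reduction to the absence of a maximal overgroup of `T` with a non-trivial `p`-core.
-/

set_option autoImplicit false

open scoped commutatorElement Pointwise

namespace Cfsg.Agent.Flavell8

open Subgroup Cfsg.Agent.CoprimeAction Cfsg.Agent.CoprimeSZ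
open Cfsg.Agent.Flavell20 (fixA cen Facts)
open Cfsg.Agent.FlavellFrame20 (ISyl centralizer_zpowers zpowers_le_normalizer conj_map_le
  mem_normalizer_of_map_le inv_centralizer inv_inf inv_normalizer)

universe u

variable {Γ : Type u} [Group Γ] [Finite Γ] {p r : ℕ} {V X : Subgroup Γ} {a : Γ}

section core

variable (h : Core p r V X a)

include h

omit [Finite Γ] in
theorem card_zpowers : Nat.card (zpowers a) = r := by rw [Nat.card_zpowers, h.orda]

theorem cop {H : Subgroup Γ} (hH : H ≤ X) : (Nat.card (zpowers a)).Coprime (Nat.card H) := by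
  rw [card_zpowers h]
  exact h.hr.coprime_iff_not_dvd.2 fun hd => h.rX (hd.trans (card_dvd_of_le hH))

theorem exists_iSyl {H : Subgroup Γ} (hH : H ≤ X) (ha : a ∈ normalizer (H : Set Γ))
    (q : ℕ) [Fact q.Prime] : ∃ P, ISyl q H P a := by
  obtain ⟨P, hP⟩ := exists_invariant_sylow (zpowers_le_normalizer ha) (cop h hH)
    (Or.inl (isSolvable_zpowers a)) q
  exact ⟨_, map_subtype_le _, P.2.map H.subtype, hP (mem_zpowers a), card_map_sylow P⟩

theorem exists_iSyl_ge {H U : Subgroup Γ} (hH : H ≤ X) (ha : a ∈ normalizer (H : Set Γ))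
    {q : ℕ} [Fact q.Prime] (hU : U ≤ H) (hUq : IsPGroup q U) (haU : a ∈ normalizer (U : Set Γ)) :
    ∃ P, ISyl q H P a ∧ U ≤ P := by
  obtain ⟨P, hUP, hP⟩ := exists_invariant_sylow_ge (zpowers_le_normalizer ha) (cop h hH)
    (Or.inl (isSolvable_zpowers a)) hU hUq (zpowers_le_normalizer haU)
  exact ⟨_, ⟨map_subtype_le _, P.2.map H.subtype, hP (mem_zpowers a), card_map_sylow P⟩, hUP⟩

theorem iSyl_conj {H P Q : Subgroup Γ} (hH : H ≤ X) (ha : a ∈ normalizer (H : Set Γ))
    {q : ℕ} [Fact q.Prime] (hP : ISyl q H P a) (hQ : ISyl q H Q a) :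
    ∃ c ∈ H ⊓ centralizer ({a} : Set Γ), P.map (MulAut.conj c).toMonoidHom = Q := by
  obtain ⟨P', hP'⟩ := exists_sylow_map_eq hP.le hP.card
  obtain ⟨Q', hQ'⟩ := exists_sylow_map_eq hQ.le hQ.card
  obtain ⟨c, hc, hcQ⟩ := invariant_sylow_conj (zpowers_le_normalizer ha) (cop h hH)
    (Or.inl (isSolvable_zpowers a)) P' Q' (hP'.symm ▸ zpowers_le_normalizer hP.inv)
    (hQ'.symm ▸ zpowers_le_normalizer hQ.inv)
  refine ⟨c, ⟨c.2, centralizer_zpowers a ▸ hc⟩, ?_⟩
  rw [← hP', ← hQ', ← hcQ]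
  exact (map_conj_smul H.subtype c (P' : Subgroup H)).symm

theorem iSyl_fixed_card {H P : Subgroup Γ} (hH : H ≤ X) (ha : a ∈ normalizer (H : Set Γ))
    {q : ℕ} [Fact q.Prime] (hP : ISyl q H P a) :
    Nat.card (P ⊓ centralizer ({a} : Set Γ) : Subgroup Γ) =
      q ^ (Nat.card (H ⊓ centralizer ({a} : Set Γ) : Subgroup Γ)).factorization q := by
  obtain ⟨P', hP'⟩ := exists_sylow_map_eq hP.le hP.card
  have := CoprimeExtra.card_sylow_inf_centralizer (zpowers_le_normalizer ha) (cop h hH)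
    (Or.inl (isSolvable_zpowers a)) P' (hP'.symm ▸ zpowers_le_normalizer hP.inv)
  rwa [hP', centralizer_zpowers] at this

omit [Finite Γ] in
theorem comm_le {K : Subgroup Γ} (ha : a ∈ normalizer (K : Set Γ)) :
    ⁅K, zpowers a⁆ ≤ K := commutator_le_self_of_le_normalizer (zpowers_le_normalizer ha)

omit [Finite Γ] in
theorem inv_comm {K : Subgroup Γ} :
    a ∈ normalizer ((⁅K, zpowers a⁆ : Subgroup Γ) : Set Γ) ∧
      K ≤ normalizer ((⁅K, zpowers a⁆ : Subgroup Γ) : Set Γ) :=
  ⟨CoprimeExtra.le_normalizer_commutator (mem_sup_right (mem_zpowers a)),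
    le_sup_left.trans CoprimeExtra.le_normalizer_commutator⟩

theorem comm_comm {K : Subgroup Γ} (hK : K ≤ X) (ha : a ∈ normalizer (K : Set Γ)) :
    ⁅⁅K, zpowers a⁆, zpowers a⁆ = ⁅K, zpowers a⁆ :=
  commutator_commutator_eq (zpowers_le_normalizer ha) (cop h hK) (Or.inl (isSolvable_zpowers a))

/-- `|K| |[K,a] ∩ C(a)| = |[K,a]| |C_K(a)|`. -/
theorem card_comm_fix {K : Subgroup Γ} (hK : K ≤ X) (ha : a ∈ normalizer (K : Set Γ)) :
    Nat.card K * Nat.card (⁅K, zpowers a⁆ ⊓ centralizer ({a} : Set Γ) : Subgroup Γ) =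
      Nat.card (⁅K, zpowers a⁆ : Subgroup Γ) *
        Nat.card (K ⊓ centralizer ({a} : Set Γ) : Subgroup Γ) := by
  set T := ⁅K, zpowers a⁆
  set D := K ⊓ centralizer ({a} : Set Γ)
  have hsup : D ⊔ T = K := by
    rw [sup_comm]
    have := commutator_sup_centralizer_eq (zpowers_le_normalizer ha) (cop h hK)
      (Or.inl (isSolvable_zpowers a))
    rwa [centralizer_zpowers] at this
  have hn : D ≤ normalizer (T : Set Γ) := inf_le_left.trans (inv_comm h).2
  have := OffendersReplace.card_sup_mul_card_inf D T hn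
  rw [hsup] at this
  have e : D ⊓ T = T ⊓ centralizer ({a} : Set Γ) := by
    apply le_antisymm
    · exact fun x hx => ⟨hx.2, hx.1.2⟩
    · exact fun x hx => ⟨⟨comm_le h ha hx.1, hx.2⟩, hx.1⟩
  rw [e] at this
  rw [this, mul_comm]

end core

section ctx

variable {n : ℕ} {W T : Subgroup Γ}

theorem not_solvable (h : Ctx p r V X a) (hX : X ≠ ⊥) : ¬ Group.IsSolvable X := fun _ => by
  haveI : Nontrivial X := (nontrivial_iff_ne_bot X).2 hX
  refine (Group.IsSolvable.commutator_lt_top_of_nontrivial (G := X)).ne ?_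
  refine map_injective X.subtype_injective ?_
  rw [map_subtype_commutator, h.perfect, ← MonoidHom.range_eq_map, range_subtype]

/-- An invariant Sylow `2`-subgroup is moved: otherwise the index of the fixed point subgroup is a
prime power and the group is solvable. -/
theorem syl_two_moved (h : Ctx p r V X a) (hX : X ≠ ⊥) {W : Subgroup Γ} (hW : ISyl 2 X W a) :
    ⁅W, zpowers a⁆ ≠ ⊥ := by
  intro hT
  haveI := Fact.mk Nat.prime_two
  haveI := Fact.mk h.hp
  set C := X ⊓ centralizer ({a} : Set Γ) with hC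
  have hWC : W ≤ C := le_inf hW.le (by
    rw [← centralizer_zpowers]
    exact commutator_eq_bot_iff_le_centralizer.1 hT)
  set i := C.relIndex X
  have hi : Nat.card C * i = Nat.card X := by
    have := card_mul_index (C.subgroupOf X)
    rwa [Nat.card_congr (subgroupOfEquivOfLe (inf_le_left : C ≤ X)).toEquiv] at this
  have hi0 : i ≠ 0 := fun h0 => (Nat.card_pos (α := X)).ne' (by rw [← hi, h0, mul_zero])
  have hipow : i = p ^ i.primeFactorsList.length := by
    refine Nat.eq_prime_pow_of_unique_prime_dvd hi0 fun {q} hq hqi => ?_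
    by_contra hqp
    haveI := Fact.mk hq
    obtain ⟨Q, hQ⟩ := exists_iSyl h.toCore le_rfl h.aX q
    have hQC : q ^ (Nat.card X).factorization q ∣ Nat.card C := by
      by_cases hq2 : q = 2
      · subst hq2; exact hW.card ▸ card_dvd_of_le hWC
      · exact hQ.card ▸ card_dvd_of_le
          (le_inf hQ.le (h.F.oddFix q hq hq2 hqp Q hQ.le hQ.inv hQ.pgrp))
    have h1 := (hq.pow_dvd_iff_le_factorization Nat.card_pos.ne').1 hQC
    have h2 := hq.factorization_pos_of_dvd hi0 hqi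
    rw [← hi, Nat.factorization_mul Nat.card_pos.ne' hi0, Finsupp.add_apply] at h1
    omega
  set Y := X ⊔ zpowers a with hY
  let x : Y := ⟨a, mem_sup_right (mem_zpowers a)⟩
  set CA := C ⊔ zpowers a
  have hAX : zpowers a ≤ normalizer (X : Set Γ) := zpowers_le_normalizer h.aX
  have hAb : zpowers a ⊓ X = ⊥ := inf_eq_bot_of_coprime (cop h.toCore le_rfl)
  have hYc : Nat.card Y = r * Nat.card X := by
    have := OffendersReplace.card_sup_mul_card_inf (zpowers a) X hAX
    rwa [hAb, card_bot, mul_one, sup_comm, ← hY, card_zpowers h.toCore] at this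
  have hCn : zpowers a ≤ normalizer (C : Set Γ) :=
    zpowers_le_normalizer (inv_inf h.aX (le_normalizer (mem_centralizer_singleton_iff.2 rfl)))
  have hCAc : Nat.card CA = r * Nat.card C := by
    have := OffendersReplace.card_sup_mul_card_inf (zpowers a) C hCn
    rwa [eq_bot_iff.2 ((inf_le_inf_left _ inf_le_left).trans hAb.le), card_bot, mul_one, sup_comm,
      card_zpowers h.toCore] at this
  have hCAY : CA ≤ Y := sup_le_sup_right inf_le_left _
  have hidx : (CA.subgroupOf Y).index = i := by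
    have := card_mul_index (CA.subgroupOf Y)
    rw [Nat.card_congr (subgroupOfEquivOfLe hCAY).toEquiv, hCAc, hYc, ← hi, ← mul_assoc] at this
    exact Nat.eq_of_mul_eq_mul_left (mul_pos h.hr.pos Nat.card_pos) this
  have hle : CA.subgroupOf Y ≤ centralizer ({x} : Set Y) := by
    intro y hy
    have : (y : Γ) ∈ centralizer ({a} : Set Γ) :=
      (sup_le inf_le_right (zpowers_le.2 (mem_centralizer_singleton_iff.2 rfl)) : CA ≤ _) hy
    rw [mem_centralizer_singleton_iff] at this ⊢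
    exact Subtype.ext this
  obtain ⟨k, -, hk⟩ := (Nat.dvd_prime_pow h.hp).1
    ((hidx.trans hipow) ▸ index_dvd_of_le hle)
  have hsol := H74Kazarin.solvable_normalClosure _ Y rfl x p k h.hp hk
  set N := normalClosure ({x} : Set Y)
  haveI := hsol
  haveI : Group.IsSolvable (N.map Y.subtype) :=
    Group.isSolvable_of_surjective (f := Y.subtype.subgroupMap N)
      (MonoidHom.subgroupMap_surjective _ _)
  have hXN : X ≤ N.map Y.subtype := by
    rw [← h.comm_top, commutator_le]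
    intro g hg b hb
    let g' : Y := ⟨g, mem_sup_left hg⟩
    let b' : Y := ⟨b, mem_sup_right hb⟩
    have hb' : b' ∈ N := by
      obtain ⟨j, hj⟩ := mem_zpowers_iff.1 hb
      have : b' = x ^ j := Subtype.ext (by simp [b', x, ← hj])
      rw [this]
      exact zpow_mem (subset_normalClosure (Set.mem_singleton x)) j
    refine ⟨g' * b' * g'⁻¹ * b'⁻¹,
      mul_mem (normalClosure_normal.conj_mem b' hb' g') (inv_mem hb'), ?_⟩
    simp [g', b', commutatorElement_def]
  exact not_solvable h hX (CoprimeAction.isSolvable_of_le hXN)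

omit [Finite Γ] in
theorem map_conj_comm {K : Subgroup Γ} {c : Γ} (hc : c ∈ centralizer ({a} : Set Γ)) :
    (⁅K, zpowers a⁆ : Subgroup Γ).map (MulAut.conj c).toMonoidHom =
      ⁅K.map (MulAut.conj c).toMonoidHom, zpowers a⁆ := by
  rw [map_commutator]
  congr 1
  rw [MonoidHom.map_zpowers]
  congr 1
  simp [(mem_centralizer_singleton_iff.1 hc), mul_assoc]

/-- In `E = [E, a]` with elementary abelian centre the centre is the derived group. -/
theorem cen_le_derived {E : Subgroup Γ} (horda : orderOf a = r) (hodd : Odd r)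
    (haE : a ∈ normalizer (E : Set Γ)) (hEA : ⁅E, zpowers a⁆ = E)
    (hfix : E ⊓ centralizer ({a} : Set Γ) = cen E) (hZ : ∀ z ∈ cen E, z * z = 1) :
    cen E ≤ ⁅E, E⁆ := by
  intro z hz
  let π : E →* Abelianization E := Abelianization.of
  let c : ℕ → E → E := fun i e => ⟨a ^ i * e * (a ^ i)⁻¹,
    Flavell20.A1.conj_mem_of_normalizer (pow_mem haE i) e.2⟩
  let η : E →* Abelianization E := MonoidHom.mk' (fun e => ∏ i ∈ Finset.range r, π (c i e))
    fun u v => by
      rw [← Finset.prod_mul_distrib]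
      refine Finset.prod_congr rfl fun i _ => ?_
      rw [← map_mul]
      exact congrArg π (Subtype.ext (by
        show a ^ i * (u * v : Γ) * (a ^ i)⁻¹ =
          a ^ i * u * (a ^ i)⁻¹ * (a ^ i * v * (a ^ i)⁻¹)
        group))
  have hη : ∀ e : E, η e = 1 := fun e => Flavell20.A1.hom_trivial haE hEA η (fun e => by
    show ∏ i ∈ Finset.range r, π (c i _) = ∏ i ∈ Finset.range r, π (c i e)
    have hsucc : ∀ i, c i ⟨a * e * a⁻¹, Flavell20.A1.conj_mem_of_normalizer haE e.2⟩ = c (i + 1) e :=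
      fun i => Subtype.ext (by
        show a ^ i * (a * e * a⁻¹) * (a ^ i)⁻¹ = a ^ (i + 1) * e * (a ^ (i + 1))⁻¹
        rw [pow_succ]; group)
    simp only [hsucc]
    have h1 := Finset.prod_range_succ' (fun i => π (c i e)) r
    have h2 := Finset.prod_range_succ (fun i => π (c i e)) r
    have hr0 : c r e = c 0 e := Subtype.ext (by
      show a ^ r * (e : Γ) * (a ^ r)⁻¹ = a ^ 0 * e * (a ^ 0)⁻¹
      rw [← horda, pow_orderOf_eq_one, pow_zero])
    rw [hr0, h1] at h2
    exact mul_right_cancel h2) e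
  have hfz : z ∈ centralizer ({a} : Set Γ) := (hfix.ge hz).2
  have hzr : π ⟨z, hz.1⟩ ^ r = 1 := by
    have h1 := hη ⟨z, hz.1⟩
    change ∏ i ∈ Finset.range r, π (c i _) = 1 at h1
    rw [Finset.prod_congr rfl (g := fun _ => π ⟨z, hz.1⟩) fun i _ => congrArg π (Subtype.ext (by
        show a ^ i * z * (a ^ i)⁻¹ = z
        have hcz : Commute z a := mem_centralizer_singleton_iff.1 hfz
        rw [← (hcz.pow_right i).eq, mul_inv_cancel_right])),
      Finset.prod_const, Finset.card_range] at h1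
    exact h1
  have hz2 : π ⟨z, hz.1⟩ ^ 2 = 1 := by
    rw [pow_two, ← map_mul]
    exact (congrArg π (Subtype.ext (hZ z hz) : (⟨z, hz.1⟩ * ⟨z, hz.1⟩ : E) = 1)).trans (map_one π)
  obtain ⟨j, hj⟩ := hodd
  rw [hj, pow_succ, pow_mul, hz2, one_pow, one_mul] at hzr
  rw [← map_subtype_commutator]
  exact ⟨⟨z, hz.1⟩, by rwa [SetLike.mem_coe, ← Abelianization.ker_of], rfl⟩

theorem exists_two (h : Ctx p r V X a) (hX : X ≠ ⊥) : ∃ n W T, Two r n X W T a := by
  haveI := Fact.mk Nat.prime_two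
  obtain ⟨W, hW⟩ := exists_iSyl h.toCore le_rfl h.aX 2
  have hne := syl_two_moved h hX hW
  obtain ⟨n, hn, hrn⟩ := h.F.fermat W hW.le hW.inv hW.pgrp fun hle => hne (by
    rw [commutator_eq_bot_iff_le_centralizer, centralizer_zpowers]
    exact hle)
  have hTW : ⁅W, zpowers a⁆ ≤ W := comm_le h.toCore hW.inv
  have hgen := comm_comm h.toCore hW.le hW.inv
  obtain ⟨hfix, hder, hsq, hexp⟩ :=
    h.F.special _ (hTW.trans hW.le) (inv_comm h.toCore).1 (hW.pgrp.to_le hTW) hgen
  have hinv2 : ∀ E : Subgroup Γ, E ≤ X → a ∈ normalizer (E : Set Γ) → IsPGroup 2 E →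
      ∃ c ∈ fixA X a, E ≤ W.map (MulAut.conj c).toMonoidHom := fun E hE ha h2 => by
    obtain ⟨Q, hQ, hEQ⟩ := exists_iSyl_ge h.toCore le_rfl h.aX hE h2 ha
    obtain ⟨c, hc, hcQ⟩ := iSyl_conj h.toCore le_rfl h.aX hW hQ
    exact ⟨c, hc, hcQ.symm ▸ hEQ⟩
  refine ⟨n, W, _, ⟨hW, rfl, hne, hn, hrn, hTW, hTW.trans hW.le, (inv_comm h.toCore).2,
    hW.pgrp.to_le hTW, (inv_comm h.toCore).1, hgen, hfix, le_antisymm hder ?_, hsq, hexp, hinv2,
    fun E hE ha h2 => ?_⟩⟩
  · exact cen_le_derived h.orda (hrn ▸ (Nat.even_pow.2 ⟨even_two, by omega⟩).add_one)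
      (inv_comm h.toCore).1 hgen hfix hexp
  · obtain ⟨c, hc, hEc⟩ := hinv2 E hE ha h2
    exact ⟨c, hc, (commutator_mono hEc le_rfl).trans (map_conj_comm hc.2).ge⟩

/-- The invariant Sylow `2`-subgroups above `T` of a subgroup give the same `T`. -/
theorem Two.over_syl (h : Ctx p r V X a) (t : Two r n X W T a) {L : Subgroup Γ} (hL : L ≤ X)
    (ha : a ∈ normalizer (L : Set Γ)) (hT : T ≤ L) :
    ∃ W₀, ISyl 2 L W₀ a ∧ T ≤ W₀ ∧ ⁅W₀, zpowers a⁆ = T := by
  haveI := Fact.mk Nat.prime_two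
  obtain ⟨W₀, hW₀, hTW⟩ := exists_iSyl_ge h.toCore hL ha hT t.T2 t.aT
  obtain ⟨c, -, hWc⟩ := t.moved W₀ (hW₀.le.trans hL) hW₀.inv hW₀.pgrp
  refine ⟨W₀, hW₀, hTW, (eq_of_le_of_card_ge (t.gen.ge.trans (commutator_mono hTW le_rfl)) ?_).symm⟩
  exact (card_le_of_le hWc).trans (card_map_of_injective (MulAut.conj c).injective).le

/-- The moved part of a proper overgroup of `T` is a normal `p`-subgroup times `T`. -/
theorem over_decomp (h : Ctx p r V X a) (t : Two r n X W T a) {L : Subgroup Γ} (hL : L ≤ X)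
    (hne : L ≠ X) (ha : a ∈ normalizer (L : Set Γ)) (hT : T ≤ L) :
    ∃ R : Subgroup Γ, R ≤ L ∧ IsPGroup p R ∧ a ∈ normalizer (R : Set Γ) ∧
      L ≤ normalizer (R : Set Γ) ∧ ⁅L, zpowers a⁆ = R ⊔ T ∧
      ⁅R ⊔ T, zpowers a⁆ = R ⊔ T ∧
      ∀ Q : Subgroup Γ, Q ≤ R ⊔ T → IsPGroup p Q → Q ≤ R := by
  haveI := Fact.mk Nat.prime_two
  haveI := Fact.mk h.hp
  set K := ⁅L, zpowers a⁆
  have hKL : K ≤ L := comm_le h.toCore ha
  have haK : a ∈ normalizer (K : Set Γ) := (inv_comm h.toCore).1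
  have hLK : L ≤ normalizer (K : Set Γ) := (inv_comm h.toCore).2
  obtain ⟨P₀, hP₀K, hP₀p, hKP₀, k, hk⟩ := h.hmin L hL hne ha
  have hpk : ¬ p ∣ P₀.relIndex K := fun hd => h.hp2
    ((Nat.prime_dvd_prime_iff_eq h.hp Nat.prime_two).1 (h.hp.dvd_of_dvd_pow (hk ▸ hd)))
  obtain ⟨P, hPK, hPp, hKP, hPc, hall, hnorm⟩ :=
    FlavellFrame20.pclosed_facts (⟨P₀, hP₀K, hP₀p, hpk, hKP₀⟩ : Flavell20.PClosed p K)
  have hPP : P₀ ≤ P := hall P₀ hP₀K hP₀p
  have haP := hnorm a haK
  have hTK : T ≤ K := t.gen.ge.trans (commutator_mono hT le_rfl)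
  obtain ⟨W₀, hW₀, hTW₀, hgen⟩ := t.over_syl h (hKL.trans hL) haK hTK
  have hW₀P : W₀ ≤ normalizer (P : Set Γ) := hW₀.le.trans hKP
  have hsup : P ⊔ W₀ = K := by
    refine eq_of_le_of_card_ge (sup_le hPK hW₀.le) ?_
    have hmul : Nat.card P₀ * 2 ^ k = Nat.card K := by
      have := card_mul_index (P₀.subgroupOf K)
      rwa [Nat.card_congr (subgroupOfEquivOfLe hP₀K).toEquiv,
        show (P₀.subgroupOf K).index = 2 ^ k from hk] at this
    obtain ⟨e, he⟩ := IsPGroup.iff_card.1 hP₀p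
    have hf2 : (Nat.card K).factorization 2 = k := by
      rw [← hmul, he, Nat.factorization_mul (pow_ne_zero _ h.hp.ne_zero) (by positivity),
        Nat.Prime.factorization_pow h.hp, Nat.Prime.factorization_pow Nat.prime_two,
        Finsupp.add_apply, Finsupp.single_eq_of_ne (Ne.symm h.hp2), Finsupp.single_eq_same,
        zero_add]
    have hb : P ⊓ W₀ = ⊥ := IsPGroup.disjoint_of_ne p 2 h.hp2 P W₀ hPp hW₀.pgrp |>.eq_bot
    have := OffendersReplace.card_sup_mul_card_inf W₀ P hW₀P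
    rw [inf_comm, hb, card_bot, mul_one, sup_comm] at this
    rw [this, hW₀.card, hf2, ← hmul, mul_comm (2 ^ k)]
    exact Nat.mul_le_mul_right _ (card_le_of_le hPP)
  have hKRT : K = P ⊔ T := by
    refine le_antisymm ?_ (sup_le hPK hTK)
    refine (comm_comm h.toCore hL ha).ge.trans ?_
    rw [commutator_le]
    intro g hg b hb
    replace hg : g ∈ P ⊔ W₀ := hsup ▸ (show g ∈ K from hg)
    rw [← SetLike.mem_coe, coe_mul_of_right_le_normalizer_left P W₀ hW₀P] at hg
    obtain ⟨x, hx, w, hw, rfl⟩ := hg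
    rw [show ⁅x * w, b⁆ = x * ⁅w, b⁆ * x⁻¹ * ⁅x, b⁆ by
      simp only [commutatorElement_def]; group]
    refine mul_mem (mul_mem (mul_mem (mem_sup_left hx) (mem_sup_right ?_))
      (mem_sup_left (inv_mem hx))) (mem_sup_left ?_)
    · exact hgen ▸ commutator_mem_commutator hw hb
    · exact comm_le h.toCore haP (commutator_mem_commutator hx hb)
  refine ⟨P, hPK.trans hKL, hPp, haP, fun g hg => hnorm g (hLK hg), hKRT, ?_,
    fun Q hQ => hall Q (hKRT ▸ hQ)⟩
  rw [← hKRT]
  exact comm_comm h.toCore hL ha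

/-- An overgroup of `T` containing an invariant Sylow `p`-subgroup of `X` is `X`. -/
theorem eq_of_full (h : Ctx p r V X a) (t : Two r n X W T a) {H : Subgroup Γ} (hH : H ≤ X)
    (ha : a ∈ normalizer (H : Set Γ)) (hT : T ≤ H) {S : Subgroup Γ} (hS : ISyl p X S a)
    (hSH : S ≤ H) : H = X := by
  haveI := Fact.mk Nat.prime_two
  haveI := Fact.mk h.hp
  set C := X ⊓ centralizer ({a} : Set Γ)
  set CH := H ⊓ centralizer ({a} : Set Γ)
  have hkey : Nat.card H * Nat.card C = Nat.card X * Nat.card CH := by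
    refine Nat.eq_of_factorization_eq (mul_ne_zero Nat.card_pos.ne' Nat.card_pos.ne')
      (mul_ne_zero Nat.card_pos.ne' Nat.card_pos.ne') fun q => ?_
    rw [Nat.factorization_mul Nat.card_pos.ne' Nat.card_pos.ne',
      Nat.factorization_mul Nat.card_pos.ne' Nat.card_pos.ne', Finsupp.add_apply, Finsupp.add_apply]
    by_cases hq : q.Prime
    swap
    · simp [Nat.factorization_eq_zero_of_not_prime _ hq]
    haveI := Fact.mk hq
    by_cases hqp : q = p
    · subst hqp
      have hSH' : (Nat.card H).factorization q = (Nat.card X).factorization q := by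
        refine le_antisymm ?_ ?_
        · exact (Nat.factorization_le_iff_dvd Nat.card_pos.ne' Nat.card_pos.ne').2
            (card_dvd_of_le hH) q
        · exact (h.hp.pow_dvd_iff_le_factorization Nat.card_pos.ne').1
            (hS.card ▸ card_dvd_of_le hSH)
      have e1 := iSyl_fixed_card h.toCore le_rfl h.aX hS
      have e2 := iSyl_fixed_card h.toCore hH ha (⟨hSH, hS.pgrp, hS.inv, hSH' ▸ hS.card⟩ :
        ISyl q H S a)
      rw [e1] at e2
      have e3 : (Nat.card C).factorization q = (Nat.card CH).factorization q :=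
        Nat.pow_right_injective h.hp.two_le e2
      omega
    by_cases hq2 : q = 2
    · subst hq2
      obtain ⟨W₁, hW₁, -, hg₁⟩ := t.over_syl h hH ha hT
      have e1 := card_comm_fix h.toCore t.syl.le t.syl.inv
      have e2 := card_comm_fix h.toCore (hW₁.le.trans hH) hW₁.inv
      rw [← t.Tgen, t.fix, iSyl_fixed_card h.toCore le_rfl h.aX t.syl, t.syl.card] at e1
      rw [hg₁, t.fix, iSyl_fixed_card h.toCore hH ha hW₁, hW₁.card] at e2
      have e3 : (2 : ℕ) ^ ((Nat.card H).factorization 2 + (Nat.card C).factorization 2) =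
          2 ^ ((Nat.card X).factorization 2 + (Nat.card CH).factorization 2) := by
        refine Nat.eq_of_mul_eq_mul_right (Nat.card_pos (α := cen T)) ?_
        rw [pow_add, pow_add]
        calc 2 ^ (Nat.card H).factorization 2 * 2 ^ (Nat.card C).factorization 2 * Nat.card (cen T)
            = 2 ^ (Nat.card H).factorization 2 * Nat.card (cen T) *
                2 ^ (Nat.card C).factorization 2 := by ring
          _ = Nat.card T * 2 ^ (Nat.card C).factorization 2 *
                2 ^ (Nat.card CH).factorization 2 := by rw [e2]; ring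
          _ = _ := by rw [← e1]; ring
      exact Nat.pow_right_injective le_rfl e3
    have key : ∀ {K : Subgroup Γ}, K ≤ X → a ∈ normalizer (K : Set Γ) →
        (Nat.card (K ⊓ centralizer ({a} : Set Γ) : Subgroup Γ)).factorization q =
          (Nat.card K).factorization q := by
      intro K hK haK
      obtain ⟨Q, hQ⟩ := exists_iSyl h.toCore hK haK q
      have hQC : Q ≤ K ⊓ centralizer ({a} : Set Γ) :=
        le_inf hQ.le (h.F.oddFix q hq hq2 hqp Q (hQ.le.trans hK) hQ.inv hQ.pgrp)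
      refine le_antisymm ((Nat.factorization_le_iff_dvd Nat.card_pos.ne' Nat.card_pos.ne').2
        (card_dvd_of_le inf_le_left) q) ?_
      exact (hq.pow_dvd_iff_le_factorization Nat.card_pos.ne').1 (hQ.card ▸ card_dvd_of_le hQC)
    rw [key le_rfl h.aX, key hH ha]
    omega
  have hHC : H ⊓ C = CH := by rw [← inf_assoc, inf_eq_left.2 hH]
  have hset := ChermakDelgado.card_mul_card_eq H C
  rw [hkey, hHC, mul_comm] at hset
  have hcard := Nat.eq_of_mul_eq_mul_left Nat.card_pos hset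
  have hsub : (H : Set Γ) * (C : Set Γ) ⊆ X := by
    rintro _ ⟨y, hy, c, hc, rfl⟩
    exact X.mul_mem (hH hy) hc.1
  have heq := Set.eq_of_subset_of_ncard_le hsub hcard.le (Set.toFinite _)
  refine le_antisymm hH ?_
  rw [← h.comm_top, commutator_le]
  intro g hg b hb
  obtain ⟨y, hy, c, hc, rfl⟩ := heq.ge hg
  have hcb : c * b = b * c :=
    (mem_centralizer_iff.1 (centralizer_zpowers a ▸ hc.2) b hb).symm
  have : ⁅y * c, b⁆ = y * (b * y⁻¹ * b⁻¹) := by
    rw [commutatorElement_def, mul_inv_rev, show y * c * b = y * (b * c) by rw [mul_assoc, hcb]]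
    simp [mul_assoc]
  rw [this]
  exact H.mul_mem hy
    (Flavell20.A1.conj_mem_of_normalizer (zpowers_le_normalizer ha hb) (inv_mem hy))

/-- If there is no maximal overgroup with a non-trivial `p`-core, the moved part is always `T`. -/
theorem overT_of_kills (h : Ctx p r V X a) (t : Two r n X W T a)
    (hkill : ∀ H Q : Subgroup Γ, Maxi p X T H Q a → False) : OverT X T a := by
  intro H₀ hH₀ hne₀ ha₀ hT₀
  obtain ⟨R₀, hR₀, hR₀p, haR₀, hHR₀, hK₀, -, -⟩ := over_decomp h t hH₀ hne₀ ha₀ hT₀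
  by_cases hb : R₀ = ⊥
  · have hK : ⁅H₀, zpowers a⁆ = T := by rw [hK₀, hb, bot_sup_eq]
    exact ⟨hK, hK ▸ (inv_comm h.toCore).2⟩
  exfalso
  obtain ⟨Q, ⟨L, hL, hLne, haL, hTL, hQL, hQp, haQ, hLQ, hKL, hQne⟩, hmax⟩ :=
    Set.exists_max_image
      {Q : Subgroup Γ | ∃ L, L ≤ X ∧ L ≠ X ∧ a ∈ normalizer (L : Set Γ) ∧ T ≤ L ∧ Q ≤ L ∧
        IsPGroup p Q ∧ a ∈ normalizer (Q : Set Γ) ∧ L ≤ normalizer (Q : Set Γ) ∧
        ⁅L, zpowers a⁆ = Q ⊔ T ∧ Q ≠ ⊥}
      (fun Q => Nat.card Q) (Set.toFinite _)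
      ⟨R₀, H₀, hH₀, hne₀, ha₀, hT₀, hR₀, hR₀p, haR₀, hHR₀, hK₀, hb⟩
  set H := X ⊓ normalizer (Q : Set Γ)
  have hLH : L ≤ H := le_inf hL hLQ
  have hne : H ≠ X := fun hX => hQne (h.op Q (hQL.trans hL) hQp (hX.ge.trans inf_le_right))
  have haH : a ∈ normalizer (H : Set Γ) := inv_inf h.aX (inv_normalizer haQ)
  -- every overgroup of `Q` and `T` has moved part `Q ⊔ T`
  have key : ∀ M : Subgroup Γ, M ≤ X → M ≠ X → a ∈ normalizer (M : Set Γ) → T ≤ M →
      Q ⊔ T ≤ ⁅M, zpowers a⁆ → ⁅M, zpowers a⁆ = Q ⊔ T ∧ ⁅Q ⊔ T, zpowers a⁆ = Q ⊔ T ∧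
        M ≤ normalizer (Q : Set Γ) := by
    intro M hM hMne haM hTM hle
    obtain ⟨R, hR, hRp, haR, hMR, hKM, hKK, hall⟩ := over_decomp h t hM hMne haM hTM
    have hQR : Q ≤ R := hall Q ((le_sup_left.trans hle).trans hKM.le) hQp
    have hRne : R ≠ ⊥ := fun e => hQne (le_bot_iff.1 (e ▸ hQR))
    have hQR' : Q = R := eq_of_le_of_card_ge hQR
      (hmax R ⟨M, hM, hMne, haM, hTM, hR, hRp, haR, hMR, hKM, hRne⟩)
    rw [hQR']
    exact ⟨hKM, hKK, hMR⟩
  have hH' := key H inf_le_left hne haH (hTL.trans hLH)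
    (hKL.ge.trans (commutator_mono hLH le_rfl))
  refine hkill H Q ⟨inf_le_left, hne, haH, hTL.trans hLH, hQL.trans hLH, hQp, hQne, haQ,
    inf_le_right, le_rfl, hH'.1, hH'.2.1, fun M hM hMne haM hTM hQM => ?_, fun S hS hSH =>
      hne (eq_of_full h t inf_le_left haH (hTL.trans hLH) hS hSH)⟩
  exact le_inf hM (key M hM hMne haM hTM
    (hH'.2.1.ge.trans (commutator_mono (sup_le hQM hTM) le_rfl))).2.2

end ctx

end Cfsg.Agent.Flavell8
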