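import Mathlib
import Cfsg.Prelude.Def_Transfer
import Cfsg.Prelude.Def_PLocal
import Cfsg.Prelude.Def_CaseTheorems
import Cfsg.Agent.Lib.PGroupsBasic
import Cfsg.Agent.Lib.PGroupsCyclic
import Cfsg.Agent.Lib.PGroupsCritical
import Cfsg.Agent.Lib.PGroupsExtraspecial
import Cfsg.Agent.S3761

/-!
# P. Hall's theorem on p-groups of symplectic type

A finite p-group all of whose characteristic abelian subgroups are cyclic is a central product of an
extraspecial (or trivial) group and a group which is cyclic, or dihedral, semidihedral or generalized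
quaternion of order at least 16.
-/

set_option autoImplicit false
set_option linter.style.haveILetI false

namespace Cfsg.Agent.SymplecticType

open Subgroup Cfsg.Agent.PGroupsBasic Cfsg.Agent.PGroupsExtraspecial
open scoped commutatorElement

variable {G : Type*} [Group G] [Finite G] {p : ℕ} [hp : Fact p.Prime]

/-- A criterion for being extraspecial. -/
theorem isExtraspecial_of {z : G} (hG : IsPGroup p G) (hz : IsCentralPrime p z)
    (hc : ∀ g h : G, ⁅g, h⁆ ∈ zpowers z) (hpw : ∀ g : G, g ^ p ∈ zpowers z)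
    (hcen : center G ≤ zpowers z) (hna : ∃ g h : G, ⁅g, h⁆ ≠ 1) : Cfsg.IsExtraspecial p G := by
  have hZ : center G = zpowers z := le_antisymm hcen (zpowers_le_center hz)
  have hcm : commutator G = zpowers z := by
    have hle : commutator G ≤ zpowers z := by
      rw [_root_.commutator_def, Subgroup.commutator_le]; exact fun g _ h _ => hc g h
    refine le_antisymm hle ?_
    obtain ⟨g, h, hgh⟩ := hna
    rw [← zpowers_eq_of_ne_one hz (hc g h) hgh, zpowers_le, _root_.commutator_def]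
    exact commutator_mem_commutator (mem_top g) (mem_top h)
  refine ⟨⟨hG, ?_, by rw [hcm, hZ]⟩, by rw [hZ, Nat.card_zpowers, hz.2]⟩
  haveI : (zpowers z).Normal := normal_of_le_center (zpowers_le_center hz)
  rw [hZ]
  refine le_antisymm (frattini_le_of_elementary_quotient (p := p) hcm.le hpw) ?_
  rw [← hcm]
  exact commutator_le_frattini hG

omit [Finite G] in
theorem powerClosure_zpowers (u : G) :
    Cfsg.powerClosure p 1 (zpowers u) = zpowers (u ^ p) := by
  refine le_antisymm ((closure_le _).2 ?_)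
    (zpowers_le.2 (subset_closure ⟨u, mem_zpowers u, by rw [pow_one]⟩))
  rintro _ ⟨x, hx, rfl⟩
  obtain ⟨k, rfl⟩ := mem_zpowers_iff.1 hx
  refine mem_zpowers_iff.2 ⟨k, ?_⟩
  rw [pow_one, ← zpow_natCast u p, ← zpow_natCast (u ^ k) p, ← zpow_mul, ← zpow_mul, mul_comm]

/-- Duality bound: `|H : C_H(A)| ≤ |A : Z|`. -/
theorem card_mul_le {z : G} (hz : IsCentralPrime p z) (hG : IsPGroup p G) {H Z : Subgroup G}
    (hc : ∀ a ∈ H, ∀ b ∈ H, ⁅a, b⁆ ∈ zpowers z) (hZc : H ≤ centralizer (Z : Set G)) :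
    ∀ A : Subgroup G, Z ≤ A → A ≤ H →
      Nat.card H * Nat.card Z ≤ Nat.card (H ⊓ centralizer (A : Set G) : Subgroup G) * Nat.card A := by
  intro A
  induction hn : Nat.card A using Nat.strong_induction_on generalizing A with
  | _ n ih =>
    subst hn
    intro hZA hAH
    rcases eq_or_ne Z A with rfl | hne
    · rw [inf_eq_left.2 hZc]
    obtain ⟨B, hB⟩ := (Set.toFinite {X : Subgroup G | Z ≤ X ∧ X < A}).exists_maximal
      ⟨Z, le_rfl, lt_of_le_of_ne hZA hne⟩
    obtain ⟨⟨hZB, hBA⟩, hBmax⟩ := hB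
    obtain ⟨a, haA, haB⟩ := SetLike.exists_of_lt hBA
    have hsup : B ⊔ zpowers a = A := by
      by_contra h
      have := hBmax ⟨hZB.trans le_sup_left,
        lt_of_le_of_ne (sup_le hBA.le (zpowers_le.2 haA)) h⟩ le_sup_left
      exact haB (this (mem_sup_right (mem_zpowers a)))
    have hBlt : Nat.card B < Nat.card A := by
      have := Set.Finite.card_lt_card (Set.toFinite _) (SetLike.coe_ssubset_coe.mpr hBA)
      rwa [SetLike.coe_sort_coe, SetLike.coe_sort_coe] at this
    have hpB : p * Nat.card B ≤ Nat.card A := by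
      obtain ⟨i, hi⟩ := (hG.to_subgroup B).exists_card_eq
      obtain ⟨j, hj⟩ := (hG.to_subgroup A).exists_card_eq
      rw [hi, hj] at hBlt ⊢
      rw [← pow_succ']
      exact Nat.pow_le_pow_right hp.out.pos ((Nat.pow_lt_pow_iff_right hp.out.one_lt).1 hBlt)
    have hih := ih _ hBlt B rfl hZB (hBA.le.trans hAH)
    let C' : Subgroup G := H ⊓ centralizer (B : Set G)
    let f : C' →* G := MonoidHom.mk' (fun c => ⁅(c : G), a⁆) fun c d => by
      show ⁅(c : G) * d, a⁆ = ⁅(c : G), a⁆ * ⁅(d : G), a⁆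
      exact commutatorElement_mul_left_of_central
        (zpowers_le_center hz (hc _ d.2.1 a (hAH haA)))
    have hker : f.ker.map C'.subtype ≤ H ⊓ centralizer (A : Set G) := by
      rintro _ ⟨c, hca, rfl⟩
      refine ⟨c.2.1, ?_⟩
      have hle : A ≤ centralizer ({(c : G)} : Set G) := by
        rw [← hsup, sup_le_iff, zpowers_le]
        refine ⟨fun b hb => ?_, ?_⟩
        · exact mem_centralizer_singleton_iff.2 (mem_centralizer_iff.1 c.2.2 b hb)
        · exact mem_centralizer_singleton_iff.2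
            (commutatorElement_eq_one_iff_mul_comm.1 (MonoidHom.mem_ker.1 hca)).symm
      exact mem_centralizer_iff.2 fun b hb => mem_centralizer_singleton_iff.1 (hle hb)
    have hrange : Nat.card f.range ≤ p := by
      refine le_of_le_of_eq (Subgroup.card_le_of_le (show f.range ≤ zpowers z from ?_))
        (by rw [Nat.card_zpowers, hz.2])
      rintro _ ⟨c, rfl⟩
      exact hc _ c.2.1 a (hAH haA)
    have hC' : Nat.card C' ≤ Nat.card (H ⊓ centralizer (A : Set G) : Subgroup G) * p := by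
      rw [← f.ker.card_mul_index, Subgroup.index_ker]
      refine Nat.mul_le_mul ?_ hrange
      rw [← Subgroup.card_map_of_injective C'.subtype_injective]
      exact Subgroup.card_le_of_le hker
    calc Nat.card H * Nat.card Z ≤ Nat.card C' * Nat.card B := hih
      _ ≤ Nat.card (H ⊓ centralizer (A : Set G) : Subgroup G) * p * Nat.card B :=
        Nat.mul_le_mul_right _ hC'
      _ ≤ Nat.card (H ⊓ centralizer (A : Set G) : Subgroup G) * Nat.card A := by
        rw [mul_assoc]; exact Nat.mul_le_mul_left _ hpB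

/-- The extraspecial part: a nondegenerate subgroup `F` and the cyclic centre `Z` of a critical
subgroup, such that only `Z` centralizes both. -/
theorem exists_setup (hG : IsPGroup p G) [Nontrivial G]
    (hsymp : ∀ A : Subgroup G, A.Characteristic → IsMulCommutative A → IsCyclic A) :
    ∃ (z : G) (Z F : Subgroup G), IsCentralPrime p z ∧ Z.Characteristic ∧ IsCyclic Z ∧ z ∈ Z ∧
      (∀ w ∈ Z, w ^ p = 1 → w ∈ zpowers z) ∧ CommInto z F ∧ Nondeg z F ∧
      (∀ x ∈ F, x ^ p ∈ zpowers z) ∧ (p ≠ 2 → ∀ x ∈ F, x ^ p = 1) ∧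
      Z ≤ centralizer (F : Set G) ∧ centralizer (F : Set G) ⊓ centralizer (Z : Set G) ≤ Z := by
  classical
  obtain ⟨H, hHc, hΦ, hcom, hself⟩ := PGroupsCritical.exists_critical hG
  haveI := hHc
  let Z : Subgroup G := H ⊓ centralizer (H : Set G)
  have hHmem : ∀ (φ : G ≃* G) (y : G), y ∈ H → φ y ∈ H := fun φ y hy => (hHc.fixed φ).ge hy
  haveI hZchar : Z.Characteristic := by
    refine characteristic_iff_le_comap.2 fun φ x hx => ?_
    rw [mem_comap]
    refine ⟨hHmem φ x hx.1, mem_centralizer_iff.2 fun h hh => ?_⟩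
    have := mem_centralizer_iff.1 hx.2 _ (hHmem φ.symm h hh)
    simpa using congrArg φ this
  have hZcomm : ∀ a ∈ Z, ∀ b ∈ H, a * b = b * a := fun a ha b hb =>
    (mem_centralizer_iff.1 ha.2 b hb).symm
  have hZcyc : IsCyclic Z := hsymp Z hZchar
    (isMulCommutative_of_forall fun a ha b hb => hZcomm a ha b hb.1)
  have hZne : Z ≠ ⊥ := by
    intro hb
    have hcb : centralizer (H : Set G) = ⊥ := by
      rw [← hb]; exact (inf_eq_right.2 hself).symm
    have : center G ≤ ⊥ := hcb ▸ center_le_centralizer _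
    haveI : Nontrivial (center G) := hG.center_nontrivial
    exact (nontrivial_iff_ne_bot _).1 this (le_bot_iff.1 ‹center G ≤ ⊥›)
  obtain ⟨z, hzZ, hzo⟩ := exists_orderOf_eq_of_ne_bot (hG.to_subgroup Z) hZne
  have huniq : ∀ w ∈ Z, w ^ p = 1 → w ∈ zpowers z := by
    intro w hw hwp
    rcases eq_or_ne w 1 with rfl | hw1
    · exact one_mem _
    · have := PGroupsCyclic.eq_of_card_eq_of_isCyclic hZcyc (zpowers_le.2 hw) (zpowers_le.2 hzZ)
        (by rw [Nat.card_zpowers, Nat.card_zpowers, hzo, orderOf_eq_of_pow_eq_one hwp hw1])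
      exact this ▸ mem_zpowers w
  have hzn : (zpowers z).Normal := ⟨fun w hw g => by
    have hwZ : w ∈ Z := (zpowers_le.2 hzZ : zpowers z ≤ Z) hw
    refine huniq _ ((inferInstance : Z.Normal).conj_mem w hwZ g) ?_
    obtain ⟨k, rfl⟩ := mem_zpowers_iff.1 hw
    rw [conj_pow, ← zpow_natCast, zpow_comm, zpow_natCast, ← hzo, pow_orderOf_eq_one, one_zpow,
      mul_one, mul_inv_cancel]⟩
  have hz : IsCentralPrime p z := by
    haveI := hzn
    exact ⟨le_center_of_card_eq_prime hG (by rw [Nat.card_zpowers, hzo]) (mem_zpowers z), hzo⟩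
  have hzp : ∀ c ∈ zpowers z, c ^ p = 1 := fun c hc => by
    obtain ⟨k, rfl⟩ := mem_zpowers_iff.1 hc
    rw [← zpow_natCast, zpow_comm, zpow_natCast, ← hzo, pow_orderOf_eq_one, one_zpow]
  have hHpow : ∀ h ∈ H, h ^ p ∈ Z := fun h hh =>
    ⟨pow_mem hh p, hΦ ⟨⟨h, hh⟩ ^ p, pow_mem_frattini (hG.to_subgroup H) _, rfl⟩⟩
  have hHG : ∀ h ∈ H, ∀ g : G, ⁅h, g⁆ ∈ Z := fun h hh g =>
    hcom (commutator_mem_commutator hh (mem_top g))
  have hcH : ∀ a ∈ H, ∀ b ∈ H, ⁅a, b⁆ ∈ zpowers z := by
    intro a ha b hb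
    have hab := hHG a ha b
    refine huniq _ hab ?_
    have h1 : ⁅(⟨a, ha⟩ : H), (⟨b, hb⟩ : H)⁆ ∈ center H := mem_center_iff.2 fun w => Subtype.ext (by
      have e : ((⁅(⟨a, ha⟩ : H), (⟨b, hb⟩ : H)⁆ : H) : G) = ⁅a, b⁆ := map_commutatorElement H.subtype _ _
      show (w : G) * ((⁅(⟨a, ha⟩ : H), (⟨b, hb⟩ : H)⁆ : H) : G) =
        ((⁅(⟨a, ha⟩ : H), (⟨b, hb⟩ : H)⁆ : H) : G) * w
      rw [e]
      exact (hZcomm _ hab w w.2).symm)
    have h2 := congrArg H.subtype (commutatorElement_pow_left h1 p)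
    rw [map_pow, map_commutatorElement, map_commutatorElement, map_pow] at h2
    exact h2.symm.trans (commutatorElement_eq_one_iff_mul_comm.2 (hZcomm _ (hHpow a ha) b hb))
  have hmul : ∀ a ∈ H, ∀ b ∈ H, (a * b) ^ p = a ^ p * b ^ p * ⁅b, a⁆ ^ p.choose 2 := fun a ha b hb =>
    mul_pow_of_central (zpowers_le_center hz (hcH b hb a ha)) p
  have hch : p ≠ 2 → ∀ c ∈ zpowers z, c ^ p.choose 2 = 1 := fun hp2 c hc => by
    obtain ⟨q, hq⟩ : p ∣ p.choose 2 :=
      hp.out.dvd_choose_self (by norm_num) (lt_of_le_of_ne hp.out.two_le (Ne.symm hp2))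
    rw [hq, pow_mul, hzp c hc, one_pow]
  -- `p`-th powers in `H` are `p`-th powers in `Z`
  have hsurj : ∀ h ∈ H, ∃ w ∈ Z, (h * w⁻¹) ^ p ∈ zpowers z ∧ (p ≠ 2 → (h * w⁻¹) ^ p = 1) := by
    by_cases hsmall : p = 2 ∧ Z ≤ zpowers z
    · exact fun h hh => ⟨1, Z.one_mem, by rw [inv_one, mul_one]; exact hsmall.2 (hHpow h hh),
        fun hp2 => absurd hsmall.1 hp2⟩
    have hsq : ∀ c ∈ zpowers z, ∃ w ∈ Z, c ^ p.choose 2 = w ^ p := by
      intro c hc
      by_cases hp2 : p = 2
      · obtain ⟨u, hu⟩ := (Subgroup.isCyclic_iff_exists_zpowers_eq_top Z).1 hZcyc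
        have huZ : u ∈ Z := hu ▸ mem_zpowers u
        obtain ⟨k, hk⟩ := (hG.to_subgroup Z).exists_card_eq
        have huk : orderOf u = p ^ k := by rw [← Nat.card_zpowers, hu, hk]
        have hk2 : 2 ≤ k := by
          by_contra h
          refine hsmall ⟨hp2, (eq_of_le_of_card_ge (zpowers_le.2 hzZ) ?_).ge⟩
          rw [hk, Nat.card_zpowers, hzo]
          exact (Nat.pow_le_pow_right hp.out.pos (show k ≤ 1 by omega)).trans_eq (pow_one p)
        let w0 := u ^ p ^ (k - 2)
        have hw0 : w0 ^ p ∈ zpowers z := huniq _ (pow_mem (pow_mem huZ _) _) (by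
          rw [← pow_mul, ← pow_mul, ← pow_two, ← pow_add, show k - 2 + 2 = k by omega, ← huk,
            pow_orderOf_eq_one])
        have hw01 : w0 ^ p ≠ 1 := by
          rw [← pow_mul, ← pow_succ, ne_eq, ← orderOf_dvd_iff_pow_eq_one, huk]
          intro h
          have := (Nat.pow_dvd_pow_iff_le_right hp.out.one_lt).1 h
          omega
        rw [← zpowers_eq_of_ne_one hz hw0 hw01] at hc
        obtain ⟨j, rfl⟩ := mem_zpowers_iff.1 hc
        refine ⟨w0 ^ j, zpow_mem (pow_mem huZ _) j, ?_⟩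
        rw [hp2, show Nat.choose 2 2 = 1 from rfl, pow_one, ← zpow_natCast, ← zpow_natCast,
          ← zpow_mul, ← zpow_mul, mul_comm]
      · exact ⟨1, Z.one_mem, by rw [hch hp2 c hc, one_pow]⟩
    let P : Subgroup G :=
      { carrier := {h | h ∈ H ∧ ∃ w ∈ Z, h ^ p = w ^ p}
        one_mem' := ⟨H.one_mem, 1, Z.one_mem, rfl⟩
        mul_mem' := by
          rintro a b ⟨ha, v, hv, hav⟩ ⟨hb, w, hw, hbw⟩
          obtain ⟨t, ht, hct⟩ := hsq _ (hcH b hb a ha)
          refine ⟨H.mul_mem ha hb, v * w * t, Z.mul_mem (Z.mul_mem hv hw) ht, ?_⟩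
          rw [hmul a ha b hb, hav, hbw, hct,
            (show Commute (v * w) t from hZcomm _ (Z.mul_mem hv hw) t ht.1).mul_pow,
            (show Commute v w from hZcomm v hv w hw.1).mul_pow]
        inv_mem' := by
          rintro a ⟨ha, v, hv, hav⟩
          exact ⟨H.inv_mem ha, v⁻¹, Z.inv_mem hv, by rw [inv_pow, hav, inv_pow]⟩ }
    haveI hPc : P.Characteristic := by
      refine characteristic_iff_le_comap.2 fun φ x hx => ?_
      obtain ⟨hxH, w, hw, hxw⟩ := hx
      rw [mem_comap]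
      refine ⟨hHmem φ x hxH, φ w, (hZchar.fixed φ).ge hw, ?_⟩
      show (φ x) ^ p = (φ w) ^ p
      rw [← map_pow, hxw, map_pow]
    have hZP : Z ≤ P := fun w hw => ⟨hw.1, w, hw, rfl⟩
    have hPH : P ≤ H := fun x hx => hx.1
    suffices hPtop : H ≤ P by
      intro h hh
      obtain ⟨-, w, hw, hhw⟩ := hPtop hh
      have he : (h * w⁻¹) ^ p = 1 := by
        rw [(show Commute h w⁻¹ from (hZcomm _ (Z.inv_mem hw) h hh).symm).mul_pow, inv_pow, hhw,
          mul_inv_cancel]
      exact ⟨w, hw, he ▸ one_mem _, fun _ => he⟩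
    by_contra hPtop
    have hlt : Nat.card P < Nat.card H := by
      have := Set.Finite.card_lt_card (Set.toFinite _)
        (SetLike.coe_ssubset_coe.mpr (lt_of_le_not_ge hPH hPtop))
      rwa [SetLike.coe_sort_coe, SetLike.coe_sort_coe] at this
    have hbound := card_mul_le hz hG hcH
      (fun h hh => mem_centralizer_iff.2 fun w hw => hZcomm w hw h hh) P hZP hPH
    obtain ⟨y, hy, hyZ⟩ : ∃ y ∈ H ⊓ centralizer (P : Set G), y ∉ Z := by
      refine SetLike.not_le_iff_exists.1 fun hle => ?_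
      have h1 := hbound.trans (Nat.mul_le_mul_right _ (Subgroup.card_le_of_le hle))
      rw [mul_comm (Nat.card Z)] at h1
      exact absurd (Nat.le_of_mul_le_mul_right h1 Nat.card_pos) (not_le.2 hlt)
    by_cases hyP : y ∈ P
    · -- the centre of `P` is characteristic abelian, larger than `Z`
      let A : Subgroup G := P ⊓ centralizer (P : Set G)
      have hAc : A.Characteristic := by
        refine characteristic_iff_le_comap.2 fun φ x hx => ?_
        rw [mem_comap]
        refine ⟨(hPc.fixed φ).ge hx.1, mem_centralizer_iff.2 fun h hh => ?_⟩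
        have := mem_centralizer_iff.1 hx.2 _ ((hPc.fixed φ.symm).ge hh)
        simpa using congrArg φ this
      have hAcyc : IsCyclic A := hsymp A hAc
        (isMulCommutative_of_forall fun a ha b hb => mem_centralizer_iff.1 hb.2 a ha.1)
      obtain ⟨a, ha⟩ := (Subgroup.isCyclic_iff_exists_zpowers_eq_top A).1 hAcyc
      have haA : a ∈ A := ha ▸ mem_zpowers a
      obtain ⟨-, w, hw, haw⟩ := haA.1
      have hZA : Z ≤ A := le_inf hZP fun v hv => mem_centralizer_iff.2 fun b hb =>
        (hZcomm v hv b (hPH hb)).symm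
      have haZ : a ∉ Z := fun h => hyZ ((zpowers_le.2 h : zpowers a ≤ Z) (ha.symm ▸ ⟨hyP, hy.2⟩))
      obtain ⟨i, hi⟩ := mem_zpowers_iff.1 (show w ∈ zpowers a from ha.symm ▸ hZA hw)
      have hd : (orderOf a : ℤ) ∣ (p : ℤ) - i * p := by
        rw [orderOf_dvd_iff_zpow_eq_one, zpow_sub, zpow_natCast, haw, ← hi, ← zpow_natCast,
          ← zpow_mul, mul_inv_cancel]
      obtain ⟨k, hk⟩ := (IsPGroup.iff_orderOf.1 hG) a
      have hk2 : ¬ k ≤ 1 := fun hk1 => haZ <| (zpowers_le.2 hzZ : zpowers z ≤ Z) (by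
        rcases (show k = 0 ∨ k = 1 by omega) with rfl | rfl
        · rw [pow_zero, orderOf_eq_one_iff] at hk; exact hk ▸ one_mem _
        · rw [pow_one] at hk
          have := PGroupsCyclic.eq_of_card_eq_of_isCyclic hAcyc (zpowers_le.2 haA)
            (zpowers_le.2 (hZA hzZ)) (by rw [Nat.card_zpowers, Nat.card_zpowers, hk, hzo])
          exact this ▸ mem_zpowers a)
      have hpi : ¬ (p : ℤ) ∣ i := by
        rintro ⟨c, rfl⟩
        rw [hk] at hd
        push_cast at hd
        have h2 : (p : ℤ) ^ 2 ∣ (p : ℤ) - p * c * p := (pow_dvd_pow _ (by omega)).trans hd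
        have hp0 : (p : ℤ) ≠ 0 := by exact_mod_cast hp.out.ne_zero
        rw [show (p : ℤ) - p * c * p = p * (1 - c * p) by ring, pow_two] at h2
        have h3 := (mul_dvd_mul_iff_left hp0).1 h2
        rw [dvd_sub_left (dvd_mul_left _ _)] at h3
        exact hp.out.one_lt.ne' (Nat.dvd_one.1 (by exact_mod_cast h3))
      refine haZ ?_
      obtain ⟨s, t, hst⟩ : IsCoprime i ((p : ℤ) ^ k) :=
        IsCoprime.pow_right (((Nat.prime_iff_prime_int.1 hp.out).coprime_iff_not_dvd.2 hpi).symm)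
      have ha' : a = w ^ s := by
        rw [← hi, ← zpow_mul]
        conv_lhs => rw [← zpow_one a]
        rw [← hst, zpow_add, show t * (p : ℤ) ^ k = ((orderOf a : ℕ) : ℤ) * t by rw [hk]; push_cast; ring,
          zpow_mul a ((orderOf a : ℕ) : ℤ), zpow_natCast, pow_orderOf_eq_one, one_zpow, mul_one, mul_comm]
      rw [ha']
      exact zpow_mem hw s
    · -- otherwise `y` would be central in `H`
      refine hyZ ⟨hy.1, mem_centralizer_iff.2 fun h hh => ?_⟩
      have hb2 := card_mul_le hz hG hcH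
        (fun h hh => mem_centralizer_iff.2 fun w hw => hZcomm w hw h hh) (H ⊓ centralizer {y})
        (le_inf inf_le_left fun w hw => mem_centralizer_singleton_iff.2 (hZcomm w hw y hy.1))
        inf_le_left
      by_contra hne
      -- `C_H(y)` has index `p` and contains `P` and `y`
      let f : H →* G := MonoidHom.mk' (fun c => ⁅(c : G), y⁆) fun c d => by
        show ⁅(c : G) * d, y⁆ = ⁅(c : G), y⁆ * ⁅(d : G), y⁆
        exact commutatorElement_mul_left_of_central (zpowers_le_center hz (hcH _ d.2 y hy.1))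
      have hrange : Nat.card f.range ≤ p := by
        refine le_of_le_of_eq (Subgroup.card_le_of_le (show f.range ≤ zpowers z from ?_))
          (by rw [Nat.card_zpowers, hzo])
        rintro _ ⟨c, rfl⟩
        exact hcH _ c.2 y hy.1
      have hlt2 : Nat.card P < Nat.card f.ker := by
        rw [← Subgroup.card_map_of_injective H.subtype_injective (K := f.ker)]
        have hlt' : P < f.ker.map H.subtype := by
          refine lt_of_le_not_ge (fun x hx => ⟨⟨x, hPH hx⟩, ?_, rfl⟩) fun hge => hyP (hge ⟨⟨y, hy.1⟩, ?_, rfl⟩)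
          · exact commutatorElement_eq_one_iff_mul_comm.2 (mem_centralizer_iff.1 hy.2 x hx)
          · exact commutatorElement_self y
        have := Set.Finite.card_lt_card (Set.toFinite _) (SetLike.coe_ssubset_coe.mpr hlt')
        rwa [SetLike.coe_sort_coe, SetLike.coe_sort_coe] at this
      -- so all of `H` would be covered
      have hsub : H ≤ (H ⊓ centralizer {y}) := by
        refine (Subgroup.eq_of_le_of_card_ge inf_le_left ?_).ge
        have hkle : Nat.card f.ker ≤ Nat.card (H ⊓ centralizer {y} : Subgroup G) := by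
          rw [← Subgroup.card_map_of_injective H.subtype_injective]
          refine Subgroup.card_le_of_le ?_
          rintro _ ⟨c, hc, rfl⟩
          exact ⟨c.2, mem_centralizer_singleton_iff.2
            (commutatorElement_eq_one_iff_mul_comm.1 (MonoidHom.mem_ker.1 hc))⟩
        obtain ⟨i, hi⟩ := (hG.to_subgroup P).exists_card_eq
        obtain ⟨l, hl⟩ := (hG.to_subgroup (H ⊓ centralizer {y} : Subgroup G)).exists_card_eq
        have hil := hlt2.trans_le hkle
        rw [hi, hl] at hil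
        have hHP : Nat.card H ≤ Nat.card P * p := by
          rw [← Nat.card_congr (Subgroup.subgroupOfEquivOfLe hPH).toEquiv,
            ← (P.subgroupOf H).card_mul_index]
          refine Nat.mul_le_mul_left _ ?_
          haveI : (P.subgroupOf H).Normal := inferInstance
          -- the quotient map `h ↦ h ^ p` has image of order at most `p`
          obtain ⟨u, hu⟩ := (Subgroup.isCyclic_iff_exists_zpowers_eq_top Z).1 hZcyc
          have huZ : u ∈ Z := hu ▸ mem_zpowers u
          let q : Subgroup G := zpowers (u ^ p)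
          have hqeq : ∀ w ∈ Z, w ^ p ∈ q := fun w hw => by
            obtain ⟨j, rfl⟩ := mem_zpowers_iff.1 (show w ∈ zpowers u from hu.symm ▸ hw)
            exact mem_zpowers_iff.2 ⟨j, by rw [← zpow_natCast, ← zpow_natCast, ← zpow_mul, ← zpow_mul, mul_comm]⟩
          haveI : (q.subgroupOf Z).Normal := ⟨fun a ha b => by
            have : b * a * b⁻¹ = a := Subtype.ext (by
              show (b : G) * a * (b : G)⁻¹ = a
              rw [hZcomm _ b.2 _ a.2.1, mul_inv_cancel_right])
            rwa [this]⟩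
          let π : H →* Z ⧸ q.subgroupOf Z := MonoidHom.mk'
            (fun h => QuotientGroup.mk' _ ⟨(h : G) ^ p, hHpow h h.2⟩) fun a b => by
              rw [← map_mul]
              obtain ⟨t, ht, hct⟩ := hsq _ (hcH b b.2 a a.2)
              refine QuotientGroup.eq.2 ?_
              show (((a : G) * b) ^ p)⁻¹ * ((a : G) ^ p * (b : G) ^ p) ∈ q
              rw [hmul a a.2 b b.2, hct, mul_inv_rev, mul_assoc, inv_mul_cancel, mul_one]
              exact inv_mem (hqeq t ht)
          have hker : π.ker = P.subgroupOf H := by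
            ext h
            rw [MonoidHom.mem_ker, mem_subgroupOf]
            constructor
            · intro hh
              obtain ⟨j, hj⟩ := mem_zpowers_iff.1 (Subgroup.mem_subgroupOf.1
                ((QuotientGroup.eq_one_iff _).1 hh))
              exact ⟨h.2, u ^ j, zpow_mem huZ j, by
                rw [← show (u ^ p) ^ j = (h : G) ^ p from hj, ← zpow_natCast, ← zpow_natCast,
                  ← zpow_mul, ← zpow_mul, mul_comm]⟩
            · rintro ⟨-, w, hw, hhw⟩
              refine (QuotientGroup.eq_one_iff _).2 ?_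
              show (h : G) ^ p ∈ q
              rw [hhw]; exact hqeq w hw
          rw [← hker, Subgroup.index_ker]
          refine (Nat.card_le_card_of_injective _ Subtype.val_injective).trans ?_
          rw [← Subgroup.index, ← Subgroup.relIndex, ← hu]
          have h1 := Subgroup.relIndex_mul_relIndex ⊥ q (zpowers u) bot_le
            (zpowers_le.2 (pow_mem (mem_zpowers u) p))
          rw [relIndex_bot_left, relIndex_bot_left, Nat.card_zpowers, Nat.card_zpowers] at h1
          refine Nat.le_of_mul_le_mul_left (h1.le.trans ?_) (orderOf_pos (u ^ p))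
          rw [orderOf_pow' u hp.out.ne_zero]
          have hg : Nat.gcd (orderOf u) p ≤ p := Nat.le_of_dvd hp.out.pos (Nat.gcd_dvd_right _ _)
          calc orderOf u = orderOf u / Nat.gcd (orderOf u) p * Nat.gcd (orderOf u) p :=
                (Nat.div_mul_cancel (Nat.gcd_dvd_left _ _)).symm
            _ ≤ _ := Nat.mul_le_mul_left _ hg
        calc Nat.card H ≤ Nat.card P * p := hHP
          _ = p ^ (i + 1) := by rw [hi, pow_succ]
          _ ≤ p ^ l := Nat.pow_le_pow_right hp.out.pos ((Nat.pow_lt_pow_iff_right hp.out.one_lt).1 hil)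
          _ = _ := hl.symm
      exact hne (mem_centralizer_singleton_iff.1 (hsub hh).2)
  -- the exponent condition
  let S : Subgroup G :=
    { carrier := {x | x ∈ H ∧ x ^ p ∈ zpowers z ∧ (p ≠ 2 → x ^ p = 1)}
      one_mem' := ⟨H.one_mem, by rw [one_pow]; exact one_mem _, fun _ => one_pow p⟩
      mul_mem' := by
        rintro a b ⟨ha, ha1, ha2⟩ ⟨hb, hb1, hb2⟩
        rw [Set.mem_ofPred_eq, hmul a ha b hb]
        exact ⟨H.mul_mem ha hb, mul_mem (mul_mem ha1 hb1) (pow_mem (hcH b hb a ha) _),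
          fun h => by rw [ha2 h, hb2 h, hch h _ (hcH b hb a ha), one_mul, one_mul]⟩
      inv_mem' := by
        rintro a ⟨ha, ha1, ha2⟩
        exact ⟨H.inv_mem ha, by rw [inv_pow]; exact inv_mem ha1,
          fun h => by rw [inv_pow, ha2 h, inv_one]⟩ }
  have hzS : zpowers z ≤ S := zpowers_le.2 ⟨hzZ.1, by rw [hzp z (mem_zpowers z)]; exact one_mem _,
    fun _ => hzp z (mem_zpowers z)⟩
  obtain ⟨F, hF⟩ := (Set.toFinite {X : Subgroup G | zpowers z ≤ X ∧ X ≤ S ∧ X ⊓ Z ≤ zpowers z}).exists_maximal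
    ⟨zpowers z, le_rfl, hzS, inf_le_left⟩
  obtain ⟨⟨hzF, hFS, hFZ⟩, hFmax⟩ := hF
  have hFH : F ≤ H := fun x hx => (hFS hx).1
  have hFn : H ≤ normalizer (F : Set G) := by
    intro a ha
    have hkey : ∀ b ∈ H, ∀ f ∈ F, b * f * b⁻¹ ∈ F := fun b hb f hf => by
      have := F.mul_mem (hzF (hcH b hb f (hFH hf))) hf
      simpa [commutatorElement_def] using this
    refine mem_normalizer_iff.2 fun f => ⟨hkey a ha f, fun hf => ?_⟩
    simpa [mul_assoc] using hkey a⁻¹ (H.inv_mem ha) _ hf
  have hcover : ∀ h ∈ H, ∃ f ∈ F, ∃ w ∈ Z, h = f * w := by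
    have hnormF : Z ≤ normalizer (F : Set G) := fun w hw => hFn hw.1
    have hmemFZ : ∀ h, h ∈ F ⊔ Z ↔ ∃ f ∈ F, ∃ w ∈ Z, h = f * w := fun h => by
      rw [← SetLike.mem_coe, coe_mul_of_right_le_normalizer_left F Z hnormF, Set.mem_mul]
      exact ⟨fun ⟨f, hf, w, hw, e⟩ => ⟨f, hf, w, hw, e.symm⟩, fun ⟨f, hf, w, hw, e⟩ => ⟨f, hf, w, hw, e.symm⟩⟩
    have hS : S ≤ F ⊔ Z := by
      intro a ha
      by_contra haFZ
      have haF : a ∉ F := fun h => haFZ (mem_sup_left h)
      have hnot : ¬ (F ⊔ zpowers a) ⊓ Z ≤ zpowers z := fun hle => haF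
        (hFmax ⟨hzF.trans le_sup_left, sup_le hFS (zpowers_le.2 ha), hle⟩ le_sup_left
          (mem_sup_right (mem_zpowers a)))
      obtain ⟨w, ⟨hwsup, hwZ⟩, hwz⟩ := SetLike.not_le_iff_exists.1 hnot
      have hwsup' : w ∈ ((F ⊔ zpowers a : Subgroup G) : Set G) := hwsup
      rw [coe_mul_of_right_le_normalizer_left F (zpowers a) (zpowers_le.2 (hFn ha.1))] at hwsup'
      obtain ⟨f, hf, b, hb, rfl⟩ := hwsup'
      obtain ⟨j, rfl⟩ := mem_zpowers_iff.1 hb
      have hapF : a ^ (p : ℤ) ∈ F := by rw [zpow_natCast]; exact hzF ha.2.1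
      have hpj : ¬ (p : ℤ) ∣ j := by
        rintro ⟨c, rfl⟩
        refine hwz (hFZ ⟨F.mul_mem hf ?_, hwZ⟩)
        rw [zpow_mul]; exact zpow_mem hapF c
      have haj : a ^ j ∈ F ⊔ Z := by
        have h1 : f * a ^ j ∈ F ⊔ Z := mem_sup_right hwZ
        have := (F ⊔ Z).mul_mem ((F ⊔ Z).inv_mem (mem_sup_left hf)) h1
        simpa using this
      obtain ⟨s, t, hst⟩ : IsCoprime j (p : ℤ) :=
        ((Nat.prime_iff_prime_int.1 hp.out).coprime_iff_not_dvd.2 hpj).symm
      apply haFZ
      rw [← zpow_one a, ← hst, zpow_add, mul_comm s, mul_comm t, zpow_mul, zpow_mul]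
      exact mul_mem (zpow_mem haj s) (zpow_mem (mem_sup_left hapF) t)
    intro h hh
    obtain ⟨w, hw, hw1, hw2⟩ := hsurj h hh
    refine (hmemFZ h).1 ?_
    have := mul_mem (hS (⟨H.mul_mem hh (H.inv_mem hw.1), hw1, hw2⟩ : h * w⁻¹ ∈ S)) (mem_sup_right (S := F) hw)
    rwa [inv_mul_cancel_right] at this
  have hFcomm : CommInto z F := by
    intro g x hx
    rw [← commutatorElement_inv]
    refine inv_mem ?_
    have ht := hHG x (hFH hx) g
    refine huniq _ ht ?_
    -- `g x⁻¹ g⁻¹ = x⁻¹ * ⁅x, g⁆`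
    have hxc : Commute x⁻¹ ⁅x, g⁆ := (hZcomm _ ht _ (H.inv_mem (hFH hx))).symm
    have h1 : (x⁻¹ * ⁅x, g⁆) ^ p = (x⁻¹) ^ p := by
      rw [show x⁻¹ * ⁅x, g⁆ = g * x⁻¹ * g⁻¹ by simp [commutatorElement_def, mul_assoc], conj_pow,
        inv_pow, mem_center_comm (inv_mem (zpowers_le_center hz ((hFS hx).2.1))) g, mul_inv_cancel_right]
    rw [hxc.mul_pow] at h1
    exact mul_eq_left.1 h1
  refine ⟨z, Z, F, hz, hZchar, hZcyc, hzZ, huniq, hFcomm, ⟨hzF, fun x hx => hFZ ⟨hx.1, ?_⟩⟩,
    fun x hx => (hFS hx).2.1, fun h x hx => (hFS hx).2.2 h,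
    fun w hw => mem_centralizer_iff.2 fun f hf => (hZcomm w hw f (hFH hf)).symm, fun g hg => ?_⟩
  · refine ⟨hFH hx.1, mem_centralizer_iff.2 fun h hh => ?_⟩
    obtain ⟨f, hf, w, hw, rfl⟩ := hcover h hh
    exact ((show Commute f x from mem_centralizer_iff.1 hx.2 f hf).mul_left
      (show Commute w x from hZcomm w hw x (hFH hx.1))).eq
  · have hgH : g ∈ centralizer (H : Set G) := mem_centralizer_iff.2 fun h hh => by
      obtain ⟨f, hf, w, hw, rfl⟩ := hcover h hh
      exact ((show Commute f g from mem_centralizer_iff.1 hg.1 f hf).mul_left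
        (show Commute w g from mem_centralizer_iff.1 hg.2 w hw)).eq
    exact ⟨hself hgH, hgH⟩

/-- `z`-central products: the squares of `2`-groups of this shape make them extraspecial. -/
theorem extraspecial_case [Fact (Nat.Prime 2)] {G : Type*} [Group G] [Finite G] (hG : IsPGroup 2 G)
    {z : G} {Z F : Subgroup G} (hz : IsCentralPrime 2 z) (hZn : Z.Normal) (hzZ : z ∈ Z)
    (hZcyc : IsCyclic Z) (hZ4 : Nat.card Z = 4)
    (huniq : ∀ w ∈ Z, w ^ 2 = 1 → w ∈ zpowers z) (hF : CommInto z F) (hnd : Nondeg z F)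
    (hFp : ∀ x ∈ F, x ^ 2 ∈ zpowers z) (hZR : Z ≤ centralizer (F : Set G))
    (hCR : centralizer (F : Set G) ⊓ centralizer (Z : Set G) ≤ Z)
    (hna : ¬ IsMulCommutative (centralizer (F : Set G))) : Cfsg.IsExtraspecial 2 G := by
  obtain ⟨u, rfl⟩ := (Subgroup.isCyclic_iff_exists_zpowers_eq_top Z).1 hZcyc
  have hu4 : orderOf u = 4 := by rw [← Nat.card_zpowers]; exact hZ4
  have hu2 : u ^ 2 ∈ zpowers z := huniq _ (pow_mem (mem_zpowers u) 2) (by
    rw [← pow_mul, ← orderOf_dvd_iff_pow_eq_one, hu4])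
  have hin : ∀ r ∈ centralizer (F : Set G), Commute r u → r ∈ zpowers u := fun r hr hc =>
    hCR ⟨hr, mem_centralizer_iff.2 fun a ha => by
      obtain ⟨k, rfl⟩ := mem_zpowers_iff.1 ha
      exact (hc.zpow_right k).eq.symm⟩
  have hinv : ∀ r ∈ centralizer (F : Set G), r ∉ zpowers u → r * u * r⁻¹ = u⁻¹ := by
    intro r hr hru
    obtain ⟨k, hk⟩ := mem_zpowers_iff.1 (hZn.conj_mem u (mem_zpowers u) r)
    have h1 : r * u ^ 2 * r⁻¹ = u ^ 2 := by
      rw [mem_center_comm (zpowers_le_center hz hu2) r, mul_inv_cancel_right]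
    rw [← conj_pow, ← hk, ← zpow_natCast, ← zpow_natCast, ← zpow_mul,
      PGroupsCyclic.zpow_eq_iff_dvd, hu4] at h1
    push_cast at h1
    rcases (show (4 : ℤ) ∣ k - 1 ∨ (4 : ℤ) ∣ k - (-1) by omega) with h | h
    · refine absurd (hin r hr (mul_inv_eq_iff_eq_mul.1 ?_)) hru
      rw [← hk]
      conv_rhs => rw [← zpow_one u]
      rw [PGroupsCyclic.zpow_eq_iff_dvd, hu4]; exact_mod_cast h
    · rw [← hk, ← zpow_neg_one, PGroupsCyclic.zpow_eq_iff_dvd, hu4]; exact_mod_cast h
  have hRsq : ∀ r ∈ centralizer (F : Set G), r ^ 2 ∈ zpowers z := by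
    intro r hr
    by_cases hru : r ∈ zpowers u
    · obtain ⟨k, rfl⟩ := mem_zpowers_iff.1 hru
      rw [← zpow_natCast, zpow_comm, zpow_natCast]
      exact zpow_mem hu2 k
    · have hi := hinv r hr hru
      have hc : Commute (r ^ 2) u := by
        refine mul_inv_eq_iff_eq_mul.1 ?_
        calc r ^ 2 * u * (r ^ 2)⁻¹ = r * (r * u * r⁻¹) * r⁻¹ := by simp [pow_two, mul_assoc]
          _ = r * u⁻¹ * r⁻¹ := by rw [hi]
          _ = (r * u * r⁻¹)⁻¹ := by group
          _ = u := by rw [hi, inv_inv]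
      obtain ⟨k, hk⟩ := mem_zpowers_iff.1 (hin _ (pow_mem hr 2) hc)
      have h1 : r * u ^ k * r⁻¹ = u ^ k := by rw [hk]; group
      rw [← conj_zpow, hi, inv_zpow] at h1
      refine huniq _ (hk ▸ zpow_mem (mem_zpowers u) k) ?_
      rw [← hk, pow_two]
      nth_rewrite 1 [← h1]
      rw [inv_mul_cancel]
  have hsplit := exists_mul_centralizer hz hF hnd
  have hsq : ∀ g : G, g ^ 2 ∈ zpowers z := by
    intro g
    obtain ⟨f, hf, hfg⟩ := hsplit g
    rw [show g = f * (f⁻¹ * g) by group,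
      (show Commute f (f⁻¹ * g) from mem_centralizer_iff.1 hfg f hf).mul_pow]
    exact mul_mem (hFp f hf) (hRsq _ hfg)
  have hcomm : ∀ g h : G, ⁅g, h⁆ ∈ zpowers z := by
    intro g h
    haveI : (zpowers z).Normal := normal_of_le_center (zpowers_le_center hz)
    rw [← QuotientGroup.eq_one_iff, ← QuotientGroup.mk'_apply, map_commutatorElement,
      commutatorElement_eq_one_iff_mul_comm]
    have he : ∀ v : G ⧸ zpowers z, v * v = 1 := fun v => by
      obtain ⟨a, rfl⟩ := QuotientGroup.mk'_surjective (zpowers z) v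
      rw [← map_mul, ← pow_two]
      exact (QuotientGroup.eq_one_iff _).2 (hsq a)
    have hi : ∀ v : G ⧸ zpowers z, v⁻¹ = v := fun v => inv_eq_of_mul_eq_one_right (he v)
    rw [← hi (_ * _), mul_inv_rev, hi, hi]
  have hex : ∃ r ∈ centralizer (F : Set G), r ∉ zpowers u := by
    by_contra hno
    push Not at hno
    exact hna (isMulCommutative_mono (inferInstance : IsMulCommutative (zpowers u)) hno)
  obtain ⟨r0, hr0, hr0u⟩ := hex
  refine isExtraspecial_of hG hz hcomm hsq (fun w hw => ?_) ⟨r0, u, fun h => hr0u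
    (hin r0 hr0 (commutatorElement_eq_one_iff_mul_comm.1 h))⟩
  obtain ⟨f, hf, hfg⟩ := hsplit w
  have hwc : ∀ a : G, Commute w a := fun a => (mem_center_iff.1 hw a).symm
  have hfw : f⁻¹ * w ∈ zpowers u := by
    refine hin _ hfg ?_
    exact (show Commute f u from mem_centralizer_iff.1 (hZR (mem_zpowers u)) f hf).inv_left.mul_left (hwc u)
  have hfz : f ∈ zpowers z := hnd.2 ⟨hf, mem_centralizer_iff.2 fun a ha => by
    have h1 : Commute (f⁻¹ * w) a := (mem_centralizer_iff.1 hfg a ha).symm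
    have h2 := (hwc a).mul_left h1.inv_left
    rw [mul_inv_rev, inv_inv, mul_inv_cancel_left] at h2
    exact h2.eq.symm⟩
  have hwu : w ∈ zpowers u := by
    have := mul_mem ((zpowers_le.2 hzZ : zpowers z ≤ zpowers u) hfz) hfw
    rwa [mul_inv_cancel_left] at this
  obtain ⟨k, rfl⟩ := mem_zpowers_iff.1 hwu
  refine huniq _ hwu ?_
  have h1 : r0 * u ^ k * r0⁻¹ = u ^ k := by
    rw [(hwc r0).symm.eq, mul_inv_cancel_right]
  rw [← conj_zpow, hinv r0 hr0 hr0u, inv_zpow] at h1
  rw [pow_two]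
  nth_rewrite 1 [← h1]
  rw [inv_mul_cancel]

/-- **P. Hall's theorem** on `p`-groups of symplectic type. -/
theorem decomposition (hG : IsPGroup p G)
    (hsymp : ∀ A : Subgroup G, A.Characteristic → IsMulCommutative A → IsCyclic A) :
    ∃ E R : Subgroup G, (∀ e ∈ E, ∀ r ∈ R, e * r = r * e) ∧ E ⊔ R = ⊤ ∧
      (E = ⊥ ∨ Cfsg.IsExtraspecial p ↥E) ∧
      (IsCyclic R ∨ (p = 2 ∧ 16 ≤ Nat.card R ∧ ((∃ m : ℕ, Nonempty (↥R ≃* DihedralGroup m)) ∨
        (∃ m : ℕ, Nonempty (↥R ≃* QuaternionGroup m)) ∨ Cfsg.IsQuasiDihedral ↥R))) := by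
  classical
  rcases subsingleton_or_nontrivial G with hs | hn
  · exact ⟨⊥, ⊤, fun e he r _ => by rw [mem_bot.1 he, one_mul, mul_one], bot_sup_eq _, Or.inl rfl,
      Or.inl inferInstance⟩
  obtain ⟨z, Z, F, hz, hZchar, hZcyc, hzZ, huniq, hF, hnd, hFp, hFodd, hZR, hCR⟩ :=
    exists_setup hG hsymp
  let R : Subgroup G := centralizer (F : Set G)
  -- the extraspecial factor
  have hEof : ∀ E : Subgroup G, E = F → F ≠ zpowers z → Cfsg.IsExtraspecial p ↥E := by
    rintro E rfl hne
    obtain ⟨x, hx, hxz⟩ := (eq_zpowers_or_exists hnd).resolve_left hne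
    obtain ⟨y, hy, hxy⟩ := exists_partner hz hF hnd hx hxz
    let zF : E := ⟨z, hnd.1 (mem_zpowers z)⟩
    have hmem : ∀ a : E, (a : G) ∈ zpowers z → a ∈ zpowers zF := fun a ha => by
      obtain ⟨k, hk⟩ := mem_zpowers_iff.1 ha
      exact mem_zpowers_iff.2 ⟨k, Subtype.ext hk⟩
    refine isExtraspecial_of (hG.to_subgroup E) (z := zF)
      ⟨mem_center_iff.2 fun g => Subtype.ext (mem_center_iff.1 hz.1 g), by
        rw [← Subgroup.orderOf_coe]; exact hz.2⟩
      (fun g h => hmem _ ?_) (fun g => hmem _ (hFp g g.2))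
      (fun w hw => hmem _ (hnd.2 ⟨w.2, mem_centralizer_iff.2 fun a ha =>
        congrArg Subtype.val (mem_center_iff.1 hw ⟨a, ha⟩)⟩))
      ⟨⟨x, hx⟩, ⟨y, hy⟩, fun h => ne_one hz ?_⟩
    · rw [show ((⁅g, h⁆ : E) : G) = ⁅(g : G), (h : G)⁆ from map_commutatorElement E.subtype g h]
      exact hF g h h.2
    · rw [← hxy]
      have := congrArg E.subtype h
      rwa [map_commutatorElement, map_one] at this
  have hFR : ∀ e ∈ F, ∀ r ∈ R, e * r = r * e := fun e he r hr => mem_centralizer_iff.1 hr e he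
  have hsupF : F ⊔ R = ⊤ := sup_centralizer_eq_top hz hF hnd
  -- the output in the case where `R` has the required shape
  have hout : (IsCyclic R ∨ (p = 2 ∧ 16 ≤ Nat.card R ∧ ((∃ m : ℕ, Nonempty (↥R ≃* DihedralGroup m)) ∨
      (∃ m : ℕ, Nonempty (↥R ≃* QuaternionGroup m)) ∨ Cfsg.IsQuasiDihedral ↥R))) →
      ∃ E R : Subgroup G, (∀ e ∈ E, ∀ r ∈ R, e * r = r * e) ∧ E ⊔ R = ⊤ ∧
        (E = ⊥ ∨ Cfsg.IsExtraspecial p ↥E) ∧
        (IsCyclic R ∨ (p = 2 ∧ 16 ≤ Nat.card R ∧ ((∃ m : ℕ, Nonempty (↥R ≃* DihedralGroup m)) ∨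
          (∃ m : ℕ, Nonempty (↥R ≃* QuaternionGroup m)) ∨ Cfsg.IsQuasiDihedral ↥R))) := by
    intro hR
    by_cases hne : F = zpowers z
    · refine ⟨⊥, R, fun e he r _ => by rw [mem_bot.1 he, one_mul, mul_one], ?_, Or.inl rfl, hR⟩
      rw [bot_sup_eq]
      rw [← hsupF, eq_comm, sup_eq_right]
      exact hne.le.trans ((zpowers_le_center hz).trans (center_le_centralizer _))
    · exact ⟨F, R, hFR, hsupF, Or.inr (hEof F rfl hne), hR⟩
  haveI := hZchar
  let U : Subgroup R := Z.subgroupOf R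
  have hUcard : Nat.card U = Nat.card Z := Nat.card_congr (subgroupOfEquivOfLe hZR).toEquiv
  have hUcyc : IsCyclic U := (subgroupOfEquivOfLe hZR).isCyclic.2 hZcyc
  have hUC : centralizer (U : Set R) = U := by
    refine le_antisymm (fun r hr => ?_) (le_centralizer_of_isMulCommutative inferInstance)
    refine hCR ⟨r.2, mem_centralizer_iff.2 fun a ha => ?_⟩
    exact congrArg Subtype.val (mem_centralizer_iff.1 hr ⟨a, hZR ha⟩ ha)
  by_cases hab : IsMulCommutative R
  · refine hout (Or.inl ?_)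
    have hRZ : R ≤ Z := fun r hr => hCR ⟨hr, mem_centralizer_iff.2 fun a ha =>
      comm_of_isMulCommutative hab (hZR ha) hr⟩
    rw [le_antisymm hRZ hZR]; exact hZcyc
  obtain ⟨n, hn⟩ := (hG.to_subgroup Z).exists_card_eq
  haveI : U.Normal := inferInstance
  obtain ⟨u, hu⟩ := (Subgroup.isCyclic_iff_exists_zpowers_eq_top Z).1 hZcyc
  have huZ : u ∈ Z := hu ▸ mem_zpowers u
  have hord : orderOf u = p ^ n := by rw [← Nat.card_zpowers, hu, hn]
  -- `Z` has order at least `p ^ 2`
  have hn2 : 2 ≤ n := by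
    by_contra hlt
    apply hab
    have hRZ : R ≤ Z := by
      have hZz : Z ≤ zpowers z := fun w hw => huniq w hw (by
        rw [← orderOf_dvd_iff_pow_eq_one]
        refine (orderOf_dvd_natCard Z hw).trans ?_
        rw [hn]
        exact (pow_dvd_pow p (show n ≤ 1 by omega)).trans (pow_one p).dvd)
      exact fun r hr => hCR ⟨hr, mem_centralizer_iff.2 fun a ha =>
        (mem_center_comm (zpowers_le_center hz (hZz ha)) r).symm⟩
    exact isMulCommutative_mono (isMulCommutative_mono (inferInstance : IsMulCommutative (zpowers u)) hu.ge) hRZ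
  by_cases hfour : p = 2 ∧ n = 2
  · obtain ⟨rfl, rfl⟩ := hfour
    have hext := extraspecial_case hG hz inferInstance hzZ hZcyc (by rw [hn]; rfl) huniq hF hnd
      hFp hZR hCR hab
    refine ⟨⊤, ⊥, fun e _ r hr => by rw [mem_bot.1 hr, one_mul, mul_one], top_sup_eq _, Or.inr ?_,
      Or.inl inferInstance⟩
    obtain ⟨z', hz', hzc⟩ := extraspecial_exists_z hext
    let zT : (⊤ : Subgroup G) := ⟨z', mem_top _⟩
    have hmemT : ∀ a : (⊤ : Subgroup G), (a : G) ∈ zpowers z' → a ∈ zpowers zT := fun a ha => by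
      obtain ⟨k, hk⟩ := mem_zpowers_iff.1 ha
      exact mem_zpowers_iff.2 ⟨k, Subtype.ext hk⟩
    obtain ⟨x, y, hxy⟩ : ∃ x y : G, ⁅x, y⁆ ≠ 1 := by
      by_contra hno
      push Not at hno
      exact extraspecial_not_comm hext (eq_top_iff.2 fun a _ => mem_center_iff.2 fun b =>
        commutatorElement_eq_one_iff_mul_comm.1 (hno b a))
    refine isExtraspecial_of (hG.to_subgroup _) (z := zT)
      ⟨mem_center_iff.2 fun g => Subtype.ext (mem_center_iff.1 hz'.1 g), by
        rw [← Subgroup.orderOf_coe]; exact hz'.2⟩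
      (fun g h => hmemT _ ?_) (fun g => hmemT _ (hzc ▸ special_pow_mem_center hext.1 (g : G)))
      (fun w hw => hmemT _ (hzc ▸ mem_center_iff.2 fun a =>
        congrArg Subtype.val (mem_center_iff.1 hw ⟨a, mem_top a⟩)))
      ⟨⟨x, mem_top x⟩, ⟨y, mem_top y⟩, fun h => hxy (by
        have := congrArg (⊤ : Subgroup G).subtype h
        rwa [map_commutatorElement, map_one] at this)⟩
    rw [show ((⁅g, h⁆ : (⊤ : Subgroup G)) : G) = ⁅(g : G), (h : G)⁆ from
      map_commutatorElement (⊤ : Subgroup G).subtype g h, hzc]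
    exact special_commutator_mem_center hext.1 _ _
  rcases Cfsg.Agent.S3761.result (G := R) (hG.to_subgroup R) hab U hUcyc n (hUcard.trans hn) hUC with
    ⟨hp2, hcard, hshape⟩ | ⟨hrel, hΩe, hΩcard, -⟩
  · subst hp2
    refine hout (Or.inr ⟨rfl, ?_, hshape⟩)
    rw [hcard]
    have hn3 : 3 ≤ n := by
      have := (not_and.1 hfour) rfl
      omega
    exact le_trans (by norm_num : 16 ≤ 2 ^ (3 + 1)) (Nat.pow_le_pow_right (by norm_num) (by omega))
  exfalso
  let u' : R := ⟨u, hZR huZ⟩
  have hUu : U = zpowers u' := by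
    ext r
    rw [mem_subgroupOf, ← hu]
    exact ⟨fun h => by
      obtain ⟨k, hk⟩ := mem_zpowers_iff.1 h
      exact mem_zpowers_iff.2 ⟨k, Subtype.ext hk⟩, fun h => by
      obtain ⟨k, hk⟩ := mem_zpowers_iff.1 h
      exact mem_zpowers_iff.2 ⟨k, congrArg Subtype.val hk⟩⟩
  let M : Subgroup R := centralizer (Cfsg.powerClosure p 1 U : Set R)
  change U.relIndex M = p at hrel
  change Cfsg.IsElementaryAbelian p (Cfsg.omegaOne p M) at hΩe
  change Nat.card (Cfsg.omegaOne p M) = p ^ 2 at hΩcard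
  obtain ⟨x, hxΩ, hxU⟩ : ∃ x ∈ Cfsg.omegaOne p M, x ∉ U := by
    refine SetLike.not_le_iff_exists.1 fun hle => ?_
    have h1 := card_le_prime_of_isCyclic (p := p) (A := Cfsg.omegaOne p M) (by
      rw [hUu] at hle
      exact isCyclic_of_injective (Subgroup.inclusion hle) (Subgroup.inclusion_injective hle)) hΩe.2
    rw [hΩcard] at h1
    have : p < p ^ 2 := by nlinarith [hp.out.two_le]
    omega
  have hxp : (x : G) ^ p = 1 := congrArg Subtype.val (hΩe.2 x hxΩ)
  have hΩM : Cfsg.omegaOne p M ≤ M := (closure_le _).2 fun w hw => hw.1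
  have hxM := hΩM hxΩ
  let U1 : Subgroup G := zpowers (u ^ p)
  have hMmem : ∀ r : R, r ∈ M ↔ Commute (r : G) (u ^ p) := by
    intro r
    show r ∈ centralizer (Cfsg.powerClosure p 1 U : Set R) ↔ _
    rw [hUu, powerClosure_zpowers, mem_centralizer_iff]
    constructor
    · intro h; exact (congrArg Subtype.val (h _ (mem_zpowers (u' ^ p)))).symm
    · intro h a ha
      obtain ⟨k, rfl⟩ := mem_zpowers_iff.1 ha
      apply Subtype.ext
      have := (h.zpow_right k).eq.symm
      simpa [u'] using this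
  let K : Subgroup G := centralizer (U1 : Set G)
  have hKmem : ∀ g, g ∈ K ↔ Commute g (u ^ p) := fun g =>
    ⟨fun h => (mem_centralizer_iff.1 h _ (mem_zpowers (u ^ p))).symm, fun h => mem_centralizer_iff.2 fun a ha => by
      obtain ⟨k, rfl⟩ := mem_zpowers_iff.1 ha
      exact (h.zpow_right k).eq.symm⟩
  have hKchar : K.Characteristic := by
    refine characteristic_iff_le_comap.2 fun φ g hg => ?_
    rw [mem_comap, hKmem]
    rw [hKmem] at hg
    obtain ⟨k, hk⟩ := mem_zpowers_iff.1 (show φ.symm u ∈ zpowers u by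
      rw [hu]; exact (hZchar.fixed φ.symm).ge huZ)
    have h1 := (hg.zpow_right k).map φ.toMonoidHom
    rw [← zpow_natCast, zpow_comm, hk, zpow_natCast, map_pow] at h1
    simpa using h1
  let L : Subgroup G := Cfsg.omegaOne p K
  have hLchar : L.Characteristic := characteristic_iff_map_le.2 fun φ =>
    Cfsg.Agent.S3761.map_omegaOne_le p K φ.toMonoidHom fun w hw _ => (hKchar.fixed φ).ge hw
  have hzK : z ∈ K := (hKmem z).2 (mem_center_iff.1 hz.1 _).symm
  have hxK : (x : G) ∈ K := (hKmem _).2 ((hMmem x).1 hxM)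
  have hFK : F ≤ K := fun f hf => (hKmem f).2
    ((show Commute f u from mem_centralizer_iff.1 (hZR huZ) f hf).pow_right p)
  have hxL : (x : G) ∈ L := subset_closure ⟨hxK, hxp⟩
  have hzL : z ∈ L := subset_closure ⟨hzK, pow_prime_eq_one hz⟩
  -- every element of order `p` in `K` commutes with `x`
  have hcommx : ∀ g ∈ K, g ^ p = 1 → Commute (x : G) g := by
    intro g hg hgp
    obtain ⟨f, hf, hfg⟩ := exists_mul_centralizer hz hF hnd g
    set r : G := f⁻¹ * g with hr
    have hfr : Commute f r := mem_centralizer_iff.1 hfg f hf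
    have hgfr : g = f * r := by rw [hr]; group
    have hrK : r ∈ K := mul_mem (inv_mem (hFK hf)) hg
    have hrM : (⟨r, hfg⟩ : R) ∈ M := (hMmem _).2 ((hKmem r).1 hrK)
    rw [hgfr]
    refine ((show Commute f (x : G) from mem_centralizer_iff.1 x.2 f hf).symm).mul_right ?_
    have hsupM : U ⊔ zpowers x = M := by
      have hUM : U ≤ M := fun v hv => (hMmem v).2 (by
        obtain ⟨k, hk⟩ := mem_zpowers_iff.1 (show (v : G) ∈ zpowers u from hu.symm ▸ hv)
        rw [← hk]; exact ((Commute.refl u).pow_right p).zpow_left k)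
      have hle : U ⊔ zpowers x ≤ M := sup_le hUM (zpowers_le.2 hxM)
      refine le_antisymm hle (relIndex_eq_one.1 ?_)
      have h1 := relIndex_mul_relIndex U (U ⊔ zpowers x) M le_sup_left hle
      rw [hrel] at h1
      rcases hp.out.eq_one_or_self_of_dvd _ ⟨_, h1.symm⟩ with h | h
      · exact absurd (relIndex_eq_one.1 h (mem_sup_right (mem_zpowers x))) hxU
      · rw [h] at h1
        exact Nat.eq_of_mul_eq_mul_left hp.out.pos (h1.trans (mul_one p).symm)
    rw [← hsupM] at hrM
    obtain ⟨v, hv, a, ha, hva⟩ := mem_sup_of_normal_left.1 hrM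
    obtain ⟨j, rfl⟩ := mem_zpowers_iff.1 ha
    have hrva : r = (v : G) * (x : G) ^ j := by
      have := congrArg Subtype.val hva
      simpa using this.symm
    have hvZ : (v : G) ∈ Z := hv
    obtain ⟨k, hk⟩ := mem_zpowers_iff.1 (show (v : G) ∈ zpowers u from hu.symm ▸ hvZ)
    -- `⁅v, x ^ j⁆ ∈ ⟨z⟩`
    have hxj : Commute ((x : G) ^ j) (u ^ p) := ((hMmem x).1 hxM).zpow_left j
    have hc : ⁅(x : G) ^ j, (v : G)⁆ ∈ zpowers z := by
      have ht : ⁅(x : G) ^ j, (v : G)⁆ ∈ Z := by
        rw [commutatorElement_def]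
        exact Z.mul_mem ((inferInstance : Z.Normal).conj_mem _ hvZ _) (Z.inv_mem hvZ)
      refine huniq _ ht ?_
      have hcv : Commute ⁅(x : G) ^ j, (v : G)⁆ (v : G) := by
        obtain ⟨l, hl⟩ := mem_zpowers_iff.1 (show ⁅(x : G) ^ j, (v : G)⁆ ∈ zpowers u from hu.symm ▸ ht)
        rw [← hl, ← hk]; exact (Commute.refl u).zpow_zpow l k
      have h1 : (⁅(x : G) ^ j, (v : G)⁆ * v) ^ p = (v : G) ^ p := by
        rw [show ⁅(x : G) ^ j, (v : G)⁆ * v = (x : G) ^ j * v * ((x : G) ^ j)⁻¹ by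
          simp [commutatorElement_def, mul_assoc], conj_pow, ← hk, ← zpow_natCast (u ^ k), ← zpow_mul,
          mul_comm k, zpow_mul, zpow_natCast, (hxj.zpow_right k).eq, mul_inv_cancel_right]
      rw [hcv.mul_pow] at h1
      exact mul_eq_right.1 h1
    have hrp : r ^ p = (v : G) ^ p * ⁅(x : G) ^ j, (v : G)⁆ ^ p.choose 2 := by
      rw [hrva, mul_pow_of_central (zpowers_le_center hz hc), ← zpow_natCast ((x : G) ^ j), zpow_comm,
        zpow_natCast, hxp, one_zpow, mul_one]
    have hgp' : f ^ p * r ^ p = 1 := by rw [← hfr.mul_pow, ← hgfr, hgp]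
    -- `v` is a `p`-th power in `Z`
    have hvdiv : (p : ℤ) ∣ k := by
      by_cases hp2 : p = 2
      · have hvz : (v : G) ^ p ∈ zpowers z := by
          have h1 : r ^ p ∈ zpowers z := by
            rw [eq_inv_of_mul_eq_one_right hgp']; exact inv_mem (hFp f hf)
          have := mul_mem h1 (inv_mem (pow_mem hc (p.choose 2)))
          rwa [hrp, mul_inv_cancel_right] at this
        have h4 : (v : G) ^ (p * p) = 1 := by
          rw [pow_mul]
          obtain ⟨l, hl⟩ := mem_zpowers_iff.1 hvz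
          rw [← hl, ← zpow_natCast, zpow_comm, zpow_natCast, pow_prime_eq_one hz, one_zpow]
        rw [← hk, ← zpow_natCast, ← zpow_mul, ← orderOf_dvd_iff_zpow_eq_one, hord] at h4
        push_cast at h4
        subst hp2
        have hn3 : 3 ≤ n := by
          have := (not_and.1 hfour) rfl
          omega
        have h8 : (8 : ℤ) ∣ k * (2 * 2) :=
          (show (8 : ℤ) = 2 ^ 3 by norm_num) ▸ (pow_dvd_pow 2 hn3).trans (by exact_mod_cast h4)
        push_cast
        omega
      · have hc1 : ⁅(x : G) ^ j, (v : G)⁆ ^ p.choose 2 = 1 := by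
          obtain ⟨q, hq⟩ : p ∣ p.choose 2 :=
            hp.out.dvd_choose_self (by norm_num) (lt_of_le_of_ne hp.out.two_le (Ne.symm hp2))
          obtain ⟨l, hl⟩ := mem_zpowers_iff.1 hc
          rw [hq, pow_mul, ← hl, ← zpow_natCast (z ^ l), zpow_comm, zpow_natCast, pow_prime_eq_one hz,
            one_zpow, one_pow]
        rw [hrp, hc1, mul_one, hFodd hp2 f hf, one_mul, ← hk, ← zpow_natCast, ← zpow_mul,
          ← orderOf_dvd_iff_zpow_eq_one, hord] at hgp'
        push_cast at hgp'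
        have h2 : (p : ℤ) * p ∣ k * p := by
          rw [← pow_two]; exact (pow_dvd_pow _ hn2).trans hgp'
        exact (mul_dvd_mul_iff_right (by exact_mod_cast hp.out.ne_zero)).1 h2
    obtain ⟨s, rfl⟩ := hvdiv
    rw [hrva, ← hk, zpow_mul, zpow_natCast]
    exact (((hMmem x).1 hxM).zpow_right s).mul_right ((Commute.refl (x : G)).zpow_right j)
  -- a characteristic abelian subgroup which is not cyclic
  let A : Subgroup G := L ⊓ centralizer (L : Set G)
  have hAchar : A.Characteristic := by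
    refine characteristic_iff_le_comap.2 fun φ g hg => ?_
    rw [mem_comap]
    refine ⟨(hLchar.fixed φ).ge hg.1, mem_centralizer_iff.2 fun h hh => ?_⟩
    have := mem_centralizer_iff.1 hg.2 _ ((hLchar.fixed φ.symm).ge hh)
    simpa using congrArg φ this
  have hAcyc : IsCyclic A := hsymp A hAchar
    (isMulCommutative_of_forall fun a ha b hb => mem_centralizer_iff.1 hb.2 a ha.1)
  have hxA : (x : G) ∈ A := ⟨hxL, by
    show (x : G) ∈ centralizer (L : Set G)
    have hle : L ≤ centralizer ({(x : G)} : Set G) := (closure_le _).2 fun g hg =>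
      mem_centralizer_singleton_iff.2 (hcommx g hg.1 hg.2).symm
    exact mem_centralizer_iff.2 fun g hg => mem_centralizer_singleton_iff.1 (hle hg)⟩
  have hzA : z ∈ A := ⟨hzL, center_le_centralizer _ hz.1⟩
  have hx1 : (x : G) ≠ 1 := fun h => hxU (by
    show (x : G) ∈ Z
    rw [h]; exact Z.one_mem)
  have heq := PGroupsCyclic.eq_of_card_eq_of_isCyclic hAcyc (zpowers_le.2 hxA) (zpowers_le.2 hzA)
    (by rw [Nat.card_zpowers, Nat.card_zpowers, hz.2, orderOf_eq_of_pow_eq_one hxp hx1])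
  exact hxU ((zpowers_le.2 hzZ : zpowers z ≤ Z) (heq ▸ mem_zpowers (x : G)))

end Cfsg.Agent.SymplecticType
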