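import Mathlib
import Cfsg.Agent.Lib.FlavellSetup8
import Cfsg.Agent.Lib.GlaubermanStable
import Cfsg.Agent.Lib.LocalLarge57

/-!
Stability in a group generated by a special `2`-group `T = [T, a]`, the element `a` and a Sylow
`p`-subgroup whose elements are, modulo the `p`-core, fixed by `a` and normalisers of `T`.
-/

set_option autoImplicit false
set_option linter.unusedSectionVars false
set_option linter.style.haveILetI false

open scoped commutatorElement

namespace Cfsg.Agent.Flavell8.Climb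

open Subgroup GlaubermanZJ GlaubermanStable
open Cfsg.Agent.Flavell20 (cen)

universe u

/-- The data for stability. -/
structure TData (p r : ℕ) {Y : Type u} [Group Y] (T P : Subgroup Y) (a : Y) : Prop where
  orda : orderOf a = r
  aT : a ∈ normalizer (T : Set Y)
  T2 : IsPGroup 2 T
  gen : ⁅T, zpowers a⁆ = T
  der : ⁅T, T⁆ ≤ cen T
  sq : ∀ t ∈ T, t * t ∈ cen T
  Zexp : ∀ z ∈ cen T, z * z = 1
  fix : T ⊓ centralizer ({a} : Set Y) = cen T
  syl : ∃ S : Sylow p Y, (S : Subgroup Y) = P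
  dec : ∀ x ∈ P, ∃ q ∈ Cfsg.pCore p Y, ∃ c ∈ P,
    c ∈ normalizer (T : Set Y) ∧ a * c = c * a ∧ q * c = x
  top : T ⊔ zpowers a ⊔ P = ⊤

/-- Elements of orders powers of two different primes. -/
theorem eq_one_of_two_primes {Y : Type u} [Group Y] {p q : ℕ} (hp : p.Prime) (hq : q.Prime)
    (hne : p ≠ q) {x : Y} {i j : ℕ} (h1 : x ^ p ^ i = 1) (h2 : x ^ q ^ j = 1) : x = 1 := by
  have hc : (p ^ i).Coprime (q ^ j) := ((Nat.coprime_primes hp hq).2 hne).pow i j
  exact orderOf_eq_one_iff.1 (Nat.eq_one_of_dvd_coprimes hc (orderOf_dvd_of_pow_eq_one h1)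
    (orderOf_dvd_of_pow_eq_one h2))

theorem inf_pgroup_two {Y : Type u} [Group Y] {p : ℕ} (hp : p.Prime) (hp2 : p ≠ 2)
    {N T : Subgroup Y} (hN : IsPGroup p N) (hT : IsPGroup 2 T) {x : Y} (hxN : x ∈ N)
    (hxT : x ∈ T) : x = 1 := by
  obtain ⟨i, hi⟩ := hN ⟨x, hxN⟩
  obtain ⟨j, hj⟩ := hT ⟨x, hxT⟩
  exact eq_one_of_two_primes hp Nat.prime_two hp2 (congrArg Subtype.val hi)
    (congrArg Subtype.val hj)

variable {p r : ℕ} {Y : Type u} [Group Y] [Finite Y] {T P : Subgroup Y} {a : Y}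

/-- The data pass to a quotient by a normal `p`-subgroup. -/
theorem TData.quot [hp : Fact p.Prime] (hp2 : p ≠ 2) (hr : r.Prime) (hrp : r ≠ p)
    (h : TData p r T P a) (N : Subgroup Y) [N.Normal] (hN : IsPGroup p N) :
    TData p r (T.map (QuotientGroup.mk' N)) (P.map (QuotientGroup.mk' N))
      (QuotientGroup.mk' N a) := by
  set π := QuotientGroup.mk' N with hπdef
  have hπ : Function.Surjective π := QuotientGroup.mk'_surjective N
  have hker : ∀ {x : Y}, π x = 1 → x ∈ N := fun {x} hx => (QuotientGroup.eq_one_iff x).1 hx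
  have hinj : ∀ x ∈ T, π x = 1 → x = 1 := fun x hx h1 =>
    inf_pgroup_two hp.out hp2 hN h.T2 (hker h1) hx
  have hcomm : ∀ x ∈ T, ∀ y : Y, y ∈ normalizer (T : Set Y) → Commute (π y) (π x) →
      y * x = x * y := by
    intro x hx y hy hc
    have h1 : y * x * y⁻¹ * x⁻¹ ∈ T :=
      T.mul_mem ((mem_normalizer_iff.1 hy x).1 hx) (T.inv_mem hx)
    have h2 := hinj _ h1 (by
      rw [map_mul, map_mul, map_mul, map_inv, map_inv, hc.eq]; group)
    exact mul_inv_eq_iff_eq_mul.1 (mul_inv_eq_one.1 h2)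
  have hcen : cen (T.map π) = (cen T).map π := by
    apply le_antisymm
    · rintro _ ⟨⟨x, hx, rfl⟩, hc⟩
      refine ⟨x, ⟨hx, mem_centralizer_iff.2 fun y hy => ?_⟩, rfl⟩
      exact hcomm x hx y (le_normalizer hy) (mem_centralizer_iff.1 hc _ (mem_map_of_mem π hy))
    · rintro _ ⟨x, hx, rfl⟩
      refine ⟨mem_map_of_mem π hx.1, mem_centralizer_iff.2 ?_⟩
      rintro _ ⟨y, hy, rfl⟩
      rw [← map_mul, ← map_mul, mem_centralizer_iff.1 hx.2 y hy]
  refine ⟨?_, le_normalizer_map π (mem_map_of_mem π h.aT), h.T2.map π, ?_, ?_, ?_, ?_, ?_, ?_,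
    ?_, ?_⟩
  · refine ((Nat.dvd_prime hr).1 (h.orda ▸ orderOf_map_dvd π a)).resolve_left fun h1 => ?_
    obtain ⟨i, hi⟩ := hN ⟨a, hker (orderOf_eq_one_iff.1 h1)⟩
    have ha1 : a = 1 := eq_one_of_two_primes hp.out hr (Ne.symm hrp)
      (congrArg Subtype.val hi) (j := 1) (by rw [pow_one, ← h.orda, pow_orderOf_eq_one])
    have := h.orda
    rw [ha1, orderOf_one] at this
    exact hr.one_lt.ne this
  · rw [← MonoidHom.map_zpowers, ← map_commutator, h.gen]
  · rw [hcen, ← map_commutator]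
    exact map_mono h.der
  · rintro _ ⟨t, ht, rfl⟩
    rw [hcen, ← map_mul]
    exact mem_map_of_mem π (h.sq t ht)
  · rw [hcen]
    rintro _ ⟨z, hz, rfl⟩
    rw [← map_mul, h.Zexp z hz, map_one]
  · rw [hcen, ← h.fix]
    apply le_antisymm
    · rintro _ ⟨⟨x, hx, rfl⟩, hc⟩
      refine ⟨x, ⟨hx, mem_centralizer_singleton_iff.2 ?_⟩, rfl⟩
      exact (hcomm x hx a h.aT (mem_centralizer_singleton_iff.1 hc).symm).symm
    · rintro _ ⟨x, hx, rfl⟩
      refine ⟨mem_map_of_mem π hx.1, mem_centralizer_singleton_iff.2 ?_⟩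
      rw [← map_mul, ← map_mul, mem_centralizer_singleton_iff.1 hx.2]
  · obtain ⟨S, hS⟩ := h.syl
    exact ⟨S.mapSurjective hπ, by rw [Sylow.coe_mapSurjective, hS]⟩
  · rintro _ ⟨x, hx, rfl⟩
    obtain ⟨q, hq, c, hc, hcT, hac, rfl⟩ := h.dec x hx
    exact ⟨π q, HallCore.map_pCore_le hπ (mem_map_of_mem π hq), π c, mem_map_of_mem π hc,
      le_normalizer_map π (mem_map_of_mem π hcT), by rw [← map_mul, ← map_mul, hac],
      (map_mul π q c).symm⟩
  · rw [← MonoidHom.map_zpowers, ← Subgroup.map_sup, ← Subgroup.map_sup, h.top,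
      map_top_of_surjective π hπ]

/-- Quadraticity depends only on the action. -/
theorem quad_congr {B : Subgroup Y} [hB : B.Normal] {c z : Y}
    (hcz : QuotientGroup.mk' (centralizer (B : Set Y)) c =
      QuotientGroup.mk' (centralizer (B : Set Y)) z)
    (hz : ⁅⁅B, zpowers z⁆, zpowers z⁆ = ⊥) : ⁅⁅B, zpowers c⁆, zpowers c⁆ = ⊥ := by
  have hact : ∀ k : ℤ, ∀ v ∈ B, c ^ k * v * (c ^ k)⁻¹ = z ^ k * v * (z ^ k)⁻¹ := by
    intro k v hv
    have h1 : QuotientGroup.mk' (centralizer (B : Set Y)) (z ^ k) =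
        QuotientGroup.mk' (centralizer (B : Set Y)) (c ^ k) := by rw [map_zpow, map_zpow, hcz]
    obtain ⟨d, hd, he⟩ := (QuotientGroup.mk'_eq_mk' _).1 h1
    rw [← he, mul_inv_rev, mul_assoc (z ^ k) d v, ← mem_centralizer_iff.1 hd v hv]
    group
  have hle : ⁅B, zpowers c⁆ ≤ ⁅B, zpowers z⁆ := commutator_le.2 fun v hv x hx => by
    obtain ⟨k, rfl⟩ := mem_zpowers_iff.1 hx
    have he : ⁅v, c ^ k⁆ = ⁅v, z ^ k⁆ := by
      rw [commutatorElement_def, commutatorElement_def, mul_assoc v, mul_assoc v,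
        hact k _ (inv_mem hv), mul_assoc v, mul_assoc v]
    rw [he]
    exact commutator_mem_commutator hv (zpow_mem (mem_zpowers z) k)
  rw [commutator_eq_bot_iff_le_centralizer] at hz ⊢
  intro u hu
  have huz := hle hu
  have huB : u ∈ B := commutator_le_left B (zpowers z) huz
  refine mem_centralizer_iff.2 fun x hx => ?_
  obtain ⟨k, rfl⟩ := mem_zpowers_iff.1 hx
  rw [← mul_inv_eq_iff_eq_mul, hact k u huB, mul_inv_eq_iff_eq_mul]
  exact mem_centralizer_iff.1 (hz huz) _ (zpow_mem (mem_zpowers z) k)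

/-- Stability on an elementary abelian normal subgroup centralised by the `p`-core. -/
theorem stable_elementary [hp : Fact p.Prime] (hquad : Quad p r Y)
    (h : TData p r T P a) {B : Subgroup Y} [hBn : B.Normal] (hB : Cfsg.IsElementaryAbelian p B)
    (hcore : Cfsg.pCore p Y ≤ centralizer (B : Set Y)) : Cfsg.IsPStableOn p B := by
  intro g hg
  obtain ⟨hBc, hBe⟩ := (Offenders.ea_iff _).1 hB
  have hBp : IsPGroup p B := fun x => ⟨1, Subtype.ext (by simpa using hBe x x.2)⟩
  set π := QuotientGroup.mk' (centralizer (B : Set Y)) with hπdef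
  have hπ : Function.Surjective π := QuotientGroup.mk'_surjective _
  obtain ⟨i, hi⟩ := exists_pow_coprime (p := p) g
  have hgp : IsPGroup p (zpowers (π g)) := by
    rintro ⟨_, k, rfl⟩
    refine ⟨i, Subtype.ext ?_⟩
    rw [SubgroupClass.coe_pow, OneMemClass.coe_one]
    show (π g ^ k) ^ p ^ i = 1
    rw [← zpow_natCast, ← zpow_mul, mul_comm, zpow_mul, zpow_natCast, ← map_pow]
    have h1 : π (g ^ p ^ i) = 1 := (QuotientGroup.eq_one_iff _).2
      (mem_centralizer_of_quadratic hBp hg (pow_mem (mem_zpowers g) _) hi)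
    rw [h1, one_zpow]
  obtain ⟨S, hS⟩ := h.syl
  obtain ⟨Q', hQ'⟩ := hgp.exists_le_sylow
  obtain ⟨w, hw⟩ := MulAction.exists_smul_eq (Y ⧸ centralizer (B : Set Y)) Q' (S.mapSurjective hπ)
  obtain ⟨y, rfl⟩ := hπ w
  have hyg : π (y * g * y⁻¹) ∈ P.map π := by
    rw [← hS, ← Sylow.coe_mapSurjective hπ S, ← hw, Sylow.coe_subgroup_smul,
      CoprimeSZ.mem_conj_smul, map_mul, map_mul, map_inv]
    have : π g ∈ (Q' : Subgroup _) := hQ' (mem_zpowers _)
    simpa [mul_assoc] using this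
  obtain ⟨x, hx, hxe⟩ := hyg
  obtain ⟨q, hq, c, hcP, hcT, hac, rfl⟩ := h.dec x hx
  have hce : π c = π (y * g * y⁻¹) := by
    rw [← hxe, map_mul, show π q = 1 from (QuotientGroup.eq_one_iff q).2 (hcore hq), one_mul]
  have hzq : ⁅⁅B, zpowers (y * g * y⁻¹)⁆, zpowers (y * g * y⁻¹)⁆ = ⊥ := by
    have h1 := congrArg (Subgroup.map (MulAut.conj y).toMonoidHom) hg
    rw [map_commutator, map_commutator, MonoidHom.map_zpowers, Subgroup.map_bot] at h1
    rwa [show B.map (MulAut.conj y).toMonoidHom = B from TransferAlperin.cj_eq_self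
      (by rw [normalizer_eq_top]; trivial)] at h1
  have hcq := quad_congr hce hzq
  obtain ⟨j, hj⟩ := (hS ▸ S.isPGroup' : IsPGroup p P) ⟨c, hcP⟩
  have hTc := hquad T B a c h.orda h.T2 h.aT h.gen h.der h.sq h.Zexp h.fix hBp hBc hBe
    le_normalizer_of_normal (by rw [normalizer_eq_top]; trivial)
    (by rw [normalizer_eq_top]; trivial) hcT hac ⟨j, congrArg Subtype.val hj⟩ hcq
  set E : Subgroup (Y ⧸ centralizer (B : Set Y)) :=
    P.map π ⊓ centralizer ((T.map π : Subgroup _) : Set _) ⊓ centralizer ({π a} : Set _) with hE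
  have hcE : π c ∈ E := by
    refine ⟨⟨mem_map_of_mem π hcP, mem_centralizer_iff.2 ?_⟩,
      mem_centralizer_singleton_iff.2 (by rw [← map_mul, ← map_mul, hac])⟩
    rintro _ ⟨t, ht, rfl⟩
    have h1 : π ⁅t, c⁆ = 1 :=
      (QuotientGroup.eq_one_iff _).2 (hTc (commutator_mem_commutator ht (mem_zpowers c)))
    rw [map_commutatorElement, commutatorElement_eq_one_iff_commute] at h1
    exact h1.eq
  have hPE : P.map π ≤ normalizer (E : Set _) := by
    refine LocalBasics.le_normalizer_inf (LocalBasics.le_normalizer_inf le_normalizer ?_) ?_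
    · refine LocalBasics.le_normalizer_centralizer ?_
      rintro _ ⟨x', hx', rfl⟩
      obtain ⟨q', hq', c', -, hc'T, -, rfl⟩ := h.dec x' hx'
      rw [map_mul, show π q' = 1 from (QuotientGroup.eq_one_iff q').2 (hcore hq'), one_mul]
      exact le_normalizer_map π (mem_map_of_mem π hc'T)
    · rintro _ ⟨x', hx', rfl⟩
      obtain ⟨q', hq', c', -, -, hc'a, rfl⟩ := h.dec x' hx'
      refine Subgroup.le_normalizer ?_
      rw [map_mul, show π q' = 1 from (QuotientGroup.eq_one_iff q').2 (hcore hq'), one_mul,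
        mem_centralizer_singleton_iff, ← map_mul, ← map_mul, hc'a]
  have hTE : T.map π ≤ normalizer (E : Set _) :=
    OffendersReplace.le_normalizer_of_commute fun b hb c' hc' =>
      mem_centralizer_iff.1 hc'.1.2 b hb
  have haE : zpowers (π a) ≤ normalizer (E : Set _) :=
    OffendersReplace.le_normalizer_of_commute fun b hb c' hc' => by
      obtain ⟨k, rfl⟩ := mem_zpowers_iff.1 hb
      exact (Commute.zpow_left (show Commute (π a) c' from
        (mem_centralizer_singleton_iff.1 hc'.2).symm) k).eq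
  haveI hEn : E.Normal := by
    rw [← normalizer_eq_top_iff, ← top_le_iff, ← map_top_of_surjective π hπ, ← h.top,
      Subgroup.map_sup, Subgroup.map_sup, MonoidHom.map_zpowers]
    exact sup_le (sup_le hTE haE) hPE
  have hEp : IsPGroup p E :=
    ((hS ▸ S.isPGroup' : IsPGroup p P).map π).to_le (inf_le_left.trans inf_le_left)
  have h2 := HallCore.le_pCore hEp hcE
  rw [hce, map_mul, map_mul, map_inv] at h2
  have h3 := (HallCore.pCore_normal p (Y ⧸ centralizer (B : Set Y))).conj_mem _ h2 (π y)⁻¹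
  show π g ∈ _
  simpa [mul_assoc] using h3

/-- Stability on every normal `p`-subgroup. -/
theorem stable [hp : Fact p.Prime] (hp2 : p ≠ 2) (hr : r.Prime) (hrp : r ≠ p)
    (hquad : ∀ (Γ' : Type u) [Group Γ'] [Finite Γ'], Quad p r Γ') :
    ∀ (Y : Type u) [Group Y] [Finite Y] (T P : Subgroup Y) (a : Y), TData p r T P a →
      ∀ (B : Subgroup Y) [B.Normal], IsPGroup p B → Cfsg.IsPStableOn p B := by
  suffices key : ∀ (k : ℕ) (Y : Type u) [Group Y] [Finite Y] (T P : Subgroup Y) (a : Y),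
      TData p r T P a → ∀ (B : Subgroup Y) [B.Normal], Nat.card B = k → IsPGroup p B →
        Cfsg.IsPStableOn p B from
    fun Y _ _ T P a h B _ hB => key _ Y T P a h B rfl hB
  intro k
  induction k using Nat.strong_induction_on with
  | _ k ih =>
  intro Y _ _ T P a hD B hBn hk hB g hg
  rcases eq_or_ne B ⊥ with rfl | hne
  · have h1 : g ∈ centralizer ((⊥ : Subgroup Y) : Set Y) := mem_centralizer_iff.mpr fun x hx => by
      rw [SetLike.mem_coe, mem_bot] at hx
      rw [hx, one_mul, mul_one]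
    exact centralizer_le_actCore p _ h1
  haveI hQn := HallCore.pCore_normal p Y
  set V₀ := Cfsg.omegaOne p (B ⊓ centralizer (B : Set Y)) with hV₀def
  have hV₀B : V₀ ≤ B := (closure_le _).mpr fun y hy => hy.1.1
  haveI hV₀n : V₀.Normal := by
    rw [← normalizer_eq_top_iff, ← top_le_iff, ← normalizer_eq_top_iff.mpr
      (inferInstance : (B ⊓ centralizer (B : Set Y)).Normal)]
    exact normalizer_le_omegaOne p _
  have hV₀ne : V₀ ≠ ⊥ := by
    refine omegaOne_ne_bot (hB.to_le inf_le_left) ?_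
    exact LocalLarge57.inf_centralizer_ne_bot hB hB le_normalizer hne
  set V := V₀ ⊓ centralizer ((Cfsg.pCore p Y : Subgroup Y) : Set Y) with hVdef
  haveI hVn : V.Normal := inferInstance
  have hVB : V ≤ B := inf_le_left.trans hV₀B
  have hVea : Cfsg.IsElementaryAbelian p V := by
    obtain ⟨h1, h2⟩ := (Offenders.ea_iff _).1 (Offenders.omegaOne_ea (p := p)
      (K := B ⊓ centralizer (B : Set Y)) fun x hx y hy => (hx.2 y hy.1).symm)
    exact (Offenders.ea_iff _).2 ⟨fun x hx y hy => h1 x hx.1 y hy.1, fun x hx => h2 x hx.1⟩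
  have hVne : V ≠ ⊥ := LocalLarge57.inf_centralizer_ne_bot (hB.to_le hV₀B)
    (HallCore.isPGroup_pCore p Y) le_normalizer_of_normal hV₀ne
  set π := QuotientGroup.mk' V with hπ
  haveI hPb : (B.map π).Normal := hBn.map _ (QuotientGroup.mk'_surjective V)
  have haV : g ∈ actCore p V := by
    refine stable_elementary (hquad Y) hD hVea ?_ g (le_bot_iff.mp ?_)
    · rw [le_centralizer_iff]; exact inf_le_right
    · rw [← hg]
      exact commutator_mono (commutator_mono hVB le_rfl) le_rfl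
  have hlt : Nat.card (B.map π) < k := by
    rw [← hk, ← HallCore.card_map_mk'_mul V B hVB]
    exact lt_mul_of_one_lt_right Nat.card_pos
      (Finite.one_lt_card_iff_nontrivial.mpr ((nontrivial_iff_ne_bot V).mpr hVne))
  have hab : π g ∈ actCore p (B.map π) := by
    refine ih _ hlt (Y ⧸ V) _ _ _ (hD.quot hp2 hr hrp V (hB.to_le hVB)) (B.map π) rfl (hB.map π)
      (π g) ?_
    rw [← MonoidHom.map_zpowers, ← map_commutator, ← map_commutator, hg, Subgroup.map_bot]
  haveI : ((actCore p (B.map π)).comap π).Normal := Normal.comap inferInstance _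
  refine le_actCore (D := actCore p V ⊓ (actCore p (B.map π)).comap π) (fun x hx => ?_) ⟨haV, hab⟩
  obtain ⟨i, hi⟩ := exists_pow_mem_centralizer hx.1
  obtain ⟨j, hj⟩ := exists_pow_mem_centralizer (show π x ∈ actCore p (B.map π) from hx.2)
  obtain ⟨l, hl⟩ := exists_pow_coprime (p := p) x
  refine ⟨i + j + l, ?_⟩
  have hcop : (orderOf (x ^ p ^ (i + j + l))).Coprime p := by
    rw [show p ^ (i + j + l) = p ^ l * p ^ (i + j) by ring, pow_mul]
    exact coprime_pow hl _
  have hcV : x ^ p ^ (i + j + l) ∈ centralizer (V : Set Y) := by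
    rw [show p ^ (i + j + l) = p ^ i * p ^ (j + l) by ring, pow_mul]
    exact pow_mem hi _
  have hcP : π (x ^ p ^ (i + j + l)) ∈
      centralizer ((B.map π : Subgroup (Y ⧸ V)) : Set (Y ⧸ V)) := by
    rw [map_pow, show p ^ (i + j + l) = p ^ j * p ^ (i + l) by ring, pow_mul]
    exact pow_mem hj _
  set y := x ^ p ^ (i + j + l)
  refine mem_centralizer_iff.mpr fun b hb => ?_
  refine (OmegaCoprime.commute_of_fixed_comms hB (fun z hz => hBn.conj_mem z hz y) hcop
    (fun z hz => ?_) b hb).eq.symm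
  have h1 : z⁻¹ * (y * z * y⁻¹) ∈ V := by
    rw [← QuotientGroup.eq_one_iff]
    change π (z⁻¹ * (y * z * y⁻¹)) = 1
    rw [map_mul, map_mul, map_mul, map_inv, map_inv,
      ← mem_centralizer_iff.mp hcP (π z) (mem_map_of_mem π hz)]
    group
  exact (mem_centralizer_iff.mp hcV _ h1).symm

end Cfsg.Agent.Flavell8.Climb
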