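import Mathlib
import Cfsg.Agent.Lib.FlavellBase8
import Cfsg.Agent.Lib.FlavellClimb8Stab

/-!
The climb: if the centraliser of `Q` in `T` is fixed by `a`, then by Glauberman's ZJ theorem `T`
normalises a subgroup that the normaliser of a Sylow `p`-subgroup of `H` normalises, and `H` is not
a maximal overgroup.
-/

set_option autoImplicit false
set_option linter.unusedSectionVars false
set_option linter.style.haveILetI false

open scoped commutatorElement

namespace Cfsg.Agent.Flavell8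

universe u

namespace Climb

open Subgroup GlaubermanZJ GlaubermanStable
open Cfsg.Agent.Flavell20 (cen)

variable {p r : ℕ} {Y : Type u} [Group Y] [Finite Y] {T P : Subgroup Y} {a : Y}

/-- A normal subgroup meeting `T` in `T ⊓ C(Q)` lies in `Q₁ ⊔ (T ⊓ C(Q))`. -/
theorem core_le [hp : Fact p.Prime] (hr : r.Prime) (hrp : r ≠ p) (h : TData p r T P a)
    (hT : T ≠ ⊥) {Q Q₁ : Subgroup Y} [Q.Normal] [Q₁.Normal] (hQ₁ : Q ≤ Q₁)
    (hQ₁' : P ⊓ centralizer (T : Set Y) ⊓ centralizer ({a} : Set Y) ≤ Q₁)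
    (hdec : ∀ x ∈ P, ∃ q ∈ Q, ∃ c ∈ P, c ∈ normalizer (T : Set Y) ∧ a * c = c * a ∧ q * c = x)
    (hO : T ⊓ centralizer (Q : Set Y) ≤ cen T) (hr2 : r ≠ 2) {N : Subgroup Y} [N.Normal] (hN : Q₁ ≤ N)
    (hTN : T ⊓ N ≤ T ⊓ centralizer (Q : Set Y)) :
    N ≤ Q₁ ⊔ (T ⊓ centralizer (Q : Set Y)) := by
  set C := P ⊓ normalizer (T : Set Y) ⊓ centralizer ({a} : Set Y) with hC
  have haT : zpowers a ≤ normalizer (T : Set Y) := zpowers_le.2 h.aT
  have hcomm : ∀ c ∈ C, ∀ u ∈ zpowers a, c * u = u * c := by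
    intro c hc u hu
    obtain ⟨k, rfl⟩ := mem_zpowers_iff.1 hu
    exact (Commute.zpow_right (show Commute c a from mem_centralizer_singleton_iff.1 hc.2) k).eq
  have hCn : C ≤ normalizer ((T ⊔ zpowers a : Subgroup Y) : Set Y) := by
    intro c hc
    refine FlavellFrame20.mem_normalizer_of_map_le ?_
    rw [Subgroup.map_sup]
    refine sup_le ((FlavellFrame20.conj_map_le hc.1.2 le_rfl).trans le_sup_left) ?_
    rintro _ ⟨u, hu, rfl⟩
    show c * u * c⁻¹ ∈ _
    rw [hcomm c hc u hu, mul_inv_cancel_right]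
    exact mem_sup_right hu
  have htop : Q ⊔ (C ⊔ (T ⊔ zpowers a)) = ⊤ := by
    rw [← top_le_iff, ← h.top]
    refine sup_le (le_sup_right.trans le_sup_right) fun x hx => ?_
    obtain ⟨q, hq, c, hcP, hcT, hca, rfl⟩ := hdec x hx
    exact mul_mem (mem_sup_left hq)
      (mem_sup_right (mem_sup_left ⟨⟨hcP, hcT⟩, mem_centralizer_singleton_iff.2 hca.symm⟩))
  intro g hg
  obtain ⟨q, hq, m, hm, rfl⟩ :=
    mem_sup_of_normal_left.1 (show g ∈ Q ⊔ (C ⊔ (T ⊔ zpowers a)) from htop ▸ mem_top g)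
  rw [← SetLike.mem_coe, coe_mul_of_left_le_normalizer_right _ _ hCn] at hm
  obtain ⟨c, hc, w, hw, rfl⟩ := hm
  rw [SetLike.mem_coe, sup_comm, ← SetLike.mem_coe,
    coe_mul_of_left_le_normalizer_right _ _ haT] at hw
  obtain ⟨u, hu, t, ht, rfl⟩ := hw
  simp only [SetLike.mem_coe] at hc hu ht
  beta_reduce at hg ⊢
  have hgN : c * (u * t) ∈ N := by
    have := N.mul_mem (N.inv_mem (hN (hQ₁ hq))) hg
    simpa using this
  have hua : u * a = a * u := by
    obtain ⟨k, rfl⟩ := mem_zpowers_iff.1 hu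
    exact ((Commute.refl a).zpow_left k).eq
  have hca : c * a = a * c := mem_centralizer_singleton_iff.1 hc.2
  set g := c * (u * t) with hgdef
  -- `t` is central in `T`
  have h1 : ⁅g, a⁆ ∈ N := by
    rw [commutatorElement_def, mul_assoc g, mul_assoc]
    exact N.mul_mem hgN (‹N.Normal›.conj_mem _ (N.inv_mem hgN) a)
  have h2 : t * a * t⁻¹ * a⁻¹ ∈ N := by
    have h3 := ‹N.Normal›.conj_mem _ h1 (c * u)⁻¹
    have he : (c * u)⁻¹ * ⁅g, a⁆ * (c * u)⁻¹⁻¹ = t * a * t⁻¹ * a⁻¹ := by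
      have h4 : a⁻¹ * (c * u) = c * u * a⁻¹ := by
        rw [inv_mul_eq_iff_eq_mul, ← mul_assoc, ← mul_assoc, ← hca, mul_assoc c a u, ← hua]
        group
      rw [hgdef, commutatorElement_def, inv_inv]
      calc (c * u)⁻¹ * (c * (u * t) * a * (c * (u * t))⁻¹ * a⁻¹) * (c * u)
          = t * a * t⁻¹ * (c * u)⁻¹ * (a⁻¹ * (c * u)) := by group
        _ = t * a * t⁻¹ * a⁻¹ := by rw [h4]; group
    rwa [he] at h3
  have h2T : t * a * t⁻¹ * a⁻¹ ∈ T := by
    rw [mul_assoc t, mul_assoc]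
    exact T.mul_mem ht ((mem_normalizer_iff.1 h.aT t⁻¹).1 (T.inv_mem ht))
  have hcenT : cen T ≤ T := inf_le_left
  have htZ : t ∈ cen T := by
    have hfix : t⁻¹⁻¹ * a * t⁻¹ * a⁻¹ ∈ cen T := by
      rw [inv_inv]
      exact hO (hTN ⟨h2T, h2⟩)
    have haZ : a ∈ normalizer ((cen T : Subgroup Y) : Set Y) :=
      FlavellFrame20.inv_inf h.aT (FlavellFrame20.inv_centralizer h.aT)
    have hcop : (orderOf a).Coprime (Nat.card (cen T : Subgroup Y)) := by
      obtain ⟨k, hk⟩ := IsPGroup.iff_card.1 (h.T2.to_le hcenT)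
      rw [hk, h.orda]
      exact ((Nat.coprime_primes hr Nat.prime_two).2 hr2).pow_right k
    obtain ⟨d, hd, hdt⟩ := CoprimeAction.exists_fixed_mem_coset_zpowers haZ hcop t⁻¹ hfix
    rw [inv_inv] at hdt
    have hdT : d ∈ T := by simpa using T.mul_mem (T.inv_mem ht) (hcenT hdt)
    have hdZ : d ∈ cen T := h.fix.le ⟨hdT, mem_centralizer_singleton_iff.2 hd.symm⟩
    simpa using (cen T).mul_mem hdt ((cen T).inv_mem hdZ)
  have hta : t * a = a * t := mem_centralizer_singleton_iff.1 (h.fix.ge htZ).2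
  -- `g` centralises `T`
  have hga : g * a = a * g := by
    rw [hgdef, mul_assoc, mul_assoc, hta, ← mul_assoc u, hua, ← mul_assoc, ← mul_assoc c, hca]
    group
  have hgT : g ∈ normalizer (T : Set Y) :=
    mul_mem hc.1.2 (mul_mem (haT hu) (le_normalizer ht))
  have hTg : T ≤ centralizer ({g} : Set Y) := by
    rw [← h.gen]
    refine commutator_le.2 fun s hs b hb => mem_centralizer_singleton_iff.2 ?_
    have hz : g * s * g⁻¹ * s⁻¹ ∈ cen T := by
      refine hO (hTN ⟨T.mul_mem ((mem_normalizer_iff.1 hgT s).1 hs) (T.inv_mem hs), ?_⟩)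
      rw [mul_assoc g, mul_assoc g]
      exact N.mul_mem hgN (‹N.Normal›.conj_mem _ (N.inv_mem hgN) s)
    obtain ⟨k, rfl⟩ := mem_zpowers_iff.1 hb
    have hgb : g * a ^ k = a ^ k * g := (Commute.zpow_right (show Commute g a from hga) k).eq
    have hzb : ∀ z ∈ cen T, z * a ^ k = a ^ k * z := fun z hz' =>
      (Commute.zpow_right (show Commute z a from
        mem_centralizer_singleton_iff.1 (h.fix.ge hz').2) k).eq
    have hcomT : ⁅s, a ^ k⁆ ∈ T := by
      rw [commutatorElement_def, mul_assoc s, mul_assoc]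
      exact T.mul_mem hs ((mem_normalizer_iff.1 (haT (zpow_mem (mem_zpowers a) k)) _).1
        (T.inv_mem hs))
    set z := g * s * g⁻¹ * s⁻¹ with hzdef
    have hzs : g * s = z * s * g := by rw [hzdef]; group
    have key : g * ⁅s, a ^ k⁆ * g⁻¹ = z * ⁅s, a ^ k⁆ * z⁻¹ := by
      calc g * ⁅s, a ^ k⁆ * g⁻¹
          = (g * s) * a ^ k * (g * s)⁻¹ * (g * a ^ k * g⁻¹)⁻¹ := by
            rw [commutatorElement_def]; group
        _ = z * s * (g * a ^ k * g⁻¹) * (z * s)⁻¹ * (g * a ^ k * g⁻¹)⁻¹ := by rw [hzs]; group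
        _ = z * s * a ^ k * s⁻¹ * (z⁻¹ * (a ^ k)⁻¹) := by rw [hgb, mul_inv_cancel_right]; group
        _ = z * ⁅s, a ^ k⁆ * z⁻¹ := by
            rw [show z⁻¹ * (a ^ k)⁻¹ = (a ^ k)⁻¹ * z⁻¹ from by
              rw [← mul_inv_rev, ← mul_inv_rev, hzb z hz], commutatorElement_def]
            group
    rw [← (mem_centralizer_iff.1 hz.2 _ hcomT), mul_inv_cancel_right] at key
    exact (mul_inv_eq_iff_eq_mul.1 key).symm
  -- `u = 1`
  have htT : ∀ s ∈ T, s * t = t * s := mem_centralizer_iff.1 htZ.2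
  have hcuT : c * u ∈ centralizer (T : Set Y) := mem_centralizer_iff.2 fun s hs => by
    have h3 : g * t⁻¹ = c * u := by rw [hgdef]; group
    rw [← h3]
    exact ((show Commute s g from mem_centralizer_singleton_iff.1 (hTg hs)).mul_right
      (show Commute s t from htT s hs).inv_right).eq
  obtain ⟨S, hS⟩ := h.syl
  obtain ⟨k, hk⟩ := (hS ▸ S.isPGroup' : IsPGroup p P) ⟨c, hc.1.1⟩
  have hk' : c ^ p ^ k = 1 := congrArg Subtype.val hk
  have hu1 : u = 1 := by
    have hv : u ^ p ^ k ∈ centralizer (T : Set Y) := by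
      have := pow_mem hcuT (p ^ k)
      rwa [(show Commute c u from hcomm c hc u hu).mul_pow, hk', one_mul] at this
    by_contra hu'
    have horu : orderOf u ∣ r := h.orda ▸ orderOf_dvd_of_mem_zpowers hu
    have hvne : u ^ p ^ k ≠ 1 := fun h1 => hu' (eq_one_of_two_primes hp.out hr (Ne.symm hrp) h1
      (j := 1) (by rw [pow_one]; exact orderOf_dvd_iff_pow_eq_one.1 horu))
    have hvz : zpowers (u ^ p ^ k) = zpowers a := by
      refine eq_of_le_of_card_ge (zpowers_le.2 (pow_mem hu _)) ?_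
      rw [Nat.card_zpowers, Nat.card_zpowers, h.orda]
      rcases (Nat.dvd_prime hr).1 ((orderOf_pow_dvd (p ^ k)).trans horu) with h4 | h4
      · exact absurd (orderOf_eq_one_iff.1 h4) hvne
      · exact h4.ge
    refine hT ?_
    rw [← h.gen, ← hvz, commutator_eq_bot_iff_le_centralizer, le_centralizer_iff]
    exact zpowers_le.2 hv
  have hcQ : c ∈ Q₁ := hQ₁' ⟨⟨hc.1.1, by simpa [hu1] using hcuT⟩, hc.2⟩
  have htN : t ∈ N := by
    have := N.mul_mem (N.inv_mem (hN hcQ)) hgN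
    simpa [hgdef, hu1] using this
  exact mul_mem (mem_sup_left (hQ₁ hq))
    (mul_mem (mem_sup_left hcQ) (by rw [hu1, one_mul]; exact mem_sup_right (hTN ⟨ht, htN⟩)))

/-- The abstract climb: `T` normalises `Z(J(P))`. -/
theorem climb [hp : Fact p.Prime] (hp2 : p ≠ 2) (hr : r.Prime) (hr2 : r ≠ 2) (hrp : r ≠ p)
    (hquad : ∀ (Γ' : Type u) [Group Γ'] [Finite Γ'], Quad p r Γ') (h : TData p r T P a)
    (hT : T ≠ ⊥) (haP : a ∈ normalizer (P : Set Y)) (Q : Subgroup Y) [Q.Normal] (hQP : Q ≤ P)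
    (hdec : ∀ x ∈ P, ∃ q ∈ Q, ∃ c ∈ P, c ∈ normalizer (T : Set Y) ∧ a * c = c * a ∧ q * c = x)
    (hO : T ⊓ centralizer (Q : Set Y) ≤ cen T) :
    T ≤ normalizer (thomY 0 P : Set Y) := by
  have haT : zpowers a ≤ normalizer (T : Set Y) := zpowers_le.2 h.aT
  have hPp : IsPGroup p P := by
    obtain ⟨S, hS⟩ := h.syl
    exact hS ▸ S.isPGroup'
  set E := P ⊓ centralizer (T : Set Y) ⊓ centralizer ({a} : Set Y) with hE
  set Q₁ := Q ⊔ E with hQ₁
  have hQ₁P : Q₁ ≤ P := sup_le hQP (inf_le_left.trans inf_le_left)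
  have hTE : T ≤ normalizer (E : Set Y) :=
    OffendersReplace.le_normalizer_of_commute fun b hb c' hc' => mem_centralizer_iff.1 hc'.1.2 b hb
  have haE : zpowers a ≤ normalizer (E : Set Y) :=
    OffendersReplace.le_normalizer_of_commute fun b hb c' hc' => by
      obtain ⟨k, rfl⟩ := mem_zpowers_iff.1 hb
      exact (Commute.zpow_left (show Commute a c' from
        (mem_centralizer_singleton_iff.1 hc'.2).symm) k).eq
  haveI hQ₁n : Q₁.Normal := by
    rw [← normalizer_eq_top_iff, ← top_le_iff, ← h.top]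
    have hsup : ∀ g : Y, g ∈ normalizer (E : Set Y) → g ∈ normalizer (Q₁ : Set Y) := fun g hg => by
      refine FlavellFrame20.mem_normalizer_of_map_le ?_
      rw [hQ₁, Subgroup.map_sup]
      exact sup_le_sup (FlavellFrame20.conj_map_le (by rw [normalizer_eq_top]; trivial) le_rfl)
        (FlavellFrame20.conj_map_le hg le_rfl)
    refine sup_le (sup_le (fun g hg => hsup g (hTE hg)) fun g hg => hsup g (haE hg)) fun x hx => ?_
    obtain ⟨q, hq, c, hcP, hcT, hca, rfl⟩ := hdec x hx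
    refine mul_mem (le_normalizer (mem_sup_left hq)) (hsup c ?_)
    refine LocalBasics.le_normalizer_inf (X := zpowers c)
      (LocalBasics.le_normalizer_inf (zpowers_le.2 (le_normalizer hcP))
        (LocalBasics.le_normalizer_centralizer (zpowers_le.2 hcT)))
      (zpowers_le.2 (le_normalizer (mem_centralizer_singleton_iff.2 hca.symm))) (mem_zpowers c)
  set O := T ⊓ centralizer (Q : Set Y) with hOdef
  haveI hOn : O.Normal := by
    rw [← normalizer_eq_top_iff, ← top_le_iff, ← h.top]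
    refine sup_le (sup_le (LocalBasics.le_normalizer_inf le_normalizer le_normalizer_of_normal)
      (LocalBasics.le_normalizer_inf haT le_normalizer_of_normal)) fun x hx => ?_
    obtain ⟨q, hq, c, hcP, hcT, -, rfl⟩ := hdec x hx
    refine mul_mem ?_ (LocalBasics.le_normalizer_inf (X := zpowers c) (zpowers_le.2 hcT)
      le_normalizer_of_normal (mem_zpowers c))
    exact OffendersReplace.le_normalizer_of_commute (B := Q) (C := O)
      (fun b hb o ho => mem_centralizer_iff.1 ho.2 b hb) hq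
  have hOT : O ≤ T := inf_le_left
  have hOQ₁ : Q₁ ≤ centralizer (O : Set Y) := by
    refine sup_le (le_centralizer_iff.1 inf_le_right) fun e he => mem_centralizer_iff.2 fun o ho =>
      mem_centralizer_iff.1 he.1.2 o (hOT ho)
  have hker : ∀ x ∈ P, x ∈ O → x = 1 := fun x hx hxo =>
    inf_pgroup_two hp.out hp2 hPp h.T2 hx (hOT hxo)
  have hOcop : (Nat.card O).Coprime p := by
    obtain ⟨k, hk⟩ := IsPGroup.iff_card.1 (h.T2.to_le hOT)
    rw [hk]
    exact ((Nat.coprime_primes Nat.prime_two hp.out).2 (Ne.symm hp2)).pow_left k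
  set π := QuotientGroup.mk' O with hπdef
  have hπ : Function.Surjective π := QuotientGroup.mk'_surjective O
  have hkerπ : π.ker = O := QuotientGroup.ker_mk' O
  haveI hQ₁m : (Q₁.map π).Normal := hQ₁n.map _ hπ
  have hQ₁mp : IsPGroup p (Q₁.map π) := (hPp.to_le hQ₁P).map π
  obtain ⟨S, hS⟩ := h.syl
  set Pb := S.mapSurjective hπ with hPb
  -- `C(O_p) ≤ O_p` in the quotient
  have hc : centralizer (Cfsg.pCore p (Y ⧸ O) : Set (Y ⧸ O)) ≤ Cfsg.pCore p (Y ⧸ O) := by
    intro x hx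
    obtain ⟨g, rfl⟩ := hπ x
    have hQle : Q₁.map π ≤ Cfsg.pCore p (Y ⧸ O) := HallCore.le_pCore hQ₁mp
    have hgC : g ∈ centralizer (Q₁ : Set Y) := mem_centralizer_iff.2 fun q hq => by
      have h1 : π ⁅q, g⁆ = 1 := by
        rw [map_commutatorElement, commutatorElement_eq_one_iff_commute]
        exact mem_centralizer_iff.1 hx _ (hQle (mem_map_of_mem π hq))
      have h2 : ⁅q, g⁆ ∈ Q₁ := commutator_le_left Q₁ ⊤ (commutator_mem_commutator hq (mem_top g))
      exact commutatorElement_eq_one_iff_mul_comm.1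
        (hker _ (hQ₁P h2) ((QuotientGroup.eq_one_iff _).1 h1))
    have hTN : T ⊓ (Q₁ ⊔ centralizer (Q₁ : Set Y)) ≤ O := by
      rintro t ⟨ht, htN⟩
      refine ⟨ht, centralizer_le (show (Q : Set Y) ⊆ Q₁ from le_sup_left (b := E)) ?_⟩
      obtain ⟨q, hq, c, hc', rfl⟩ := mem_sup_of_normal_left.1 htN
      rw [← QuotientGroup.eq_one_iff]
      refine inf_pgroup_two hp.out hp2 ((hPp.to_le hQ₁P).map (QuotientGroup.mk'
        (centralizer (Q₁ : Set Y)))) (h.T2.map (QuotientGroup.mk' (centralizer (Q₁ : Set Y))))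
        ⟨q, hq, ?_⟩ (mem_map_of_mem _ ht)
      show QuotientGroup.mk' _ q = QuotientGroup.mk' _ (q * c)
      rw [map_mul, show QuotientGroup.mk' (centralizer (Q₁ : Set Y)) c = 1 from
        (QuotientGroup.eq_one_iff c).2 hc', mul_one]
    have := core_le hr hrp h hT (Q₁ := Q₁) le_sup_left le_sup_right hdec hO hr2
      (N := Q₁ ⊔ centralizer (Q₁ : Set Y)) le_sup_left hTN (mem_sup_right hgC)
    obtain ⟨q, hq, o, ho, rfl⟩ := mem_sup_of_normal_left.1 this
    rw [map_mul, show π o = 1 from (QuotientGroup.eq_one_iff o).2 ho, mul_one]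
    exact hQle (mem_map_of_mem π hq)
  -- stability in the quotient
  have hst : ∀ (B : Subgroup (Y ⧸ O)) [B.Normal], IsPGroup p B → Cfsg.IsPStableOn p B := by
    intro B hBn hB g hg
    haveI : (B.comap π).Normal := hBn.comap _
    have hTN : T ⊓ (Q₁ ⊔ B.comap π) ≤ O := by
      rintro t ⟨ht, htN⟩
      rw [← QuotientGroup.eq_one_iff]
      refine inf_pgroup_two hp.out hp2 (hQ₁mp.to_sup_of_normal_right hB) (h.T2.map π) ?_
        (mem_map_of_mem π ht)
      have := mem_map_of_mem π htN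
      rw [Subgroup.map_sup, map_comap_eq_self_of_surjective hπ] at this
      exact this
    have hle := core_le hr hrp h hT (Q₁ := Q₁) le_sup_left le_sup_right hdec hO hr2
      (N := Q₁ ⊔ B.comap π) le_sup_left hTN
    set B₀ := Q₁ ⊓ B.comap π with hB₀
    have hB₀e : B₀ = P ⊓ B.comap π := by
      refine le_antisymm (inf_le_inf_right _ hQ₁P) (le_inf ?_ inf_le_right)
      rintro x ⟨hxP, hxB⟩
      obtain ⟨q, hq, o, ho, rfl⟩ := mem_sup_of_normal_left.1 (hle (mem_sup_right hxB))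
      rw [hker o (by simpa using P.mul_mem (P.inv_mem (hQ₁P hq)) hxP) ho, mul_one]
      exact hq
    have hB₀map : B₀.map π = B := by
      rw [hB₀e, ← hS]
      exact exists_isPGroup_map_eq hπ S B hBn hB
    have hB₀p : IsPGroup p B₀ := hPp.to_le (inf_le_left.trans hQ₁P)
    obtain ⟨g₀, rfl⟩ := hπ g
    have hg₀ : ⁅⁅B₀, zpowers g₀⁆, zpowers g₀⁆ = ⊥ := by
      rw [eq_bot_iff]
      intro u hu
      refine mem_bot.2 (hker u ?_ ((QuotientGroup.eq_one_iff u).1 ?_))
      · exact (hQ₁P (((commutator_le_left B₀ (zpowers g₀)) ((commutator_mono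
          (commutator_le_left B₀ (zpowers g₀)) le_rfl) hu)).1))
      · have := mem_map_of_mem π hu
        rw [map_commutator, map_commutator, MonoidHom.map_zpowers, hB₀map, hg, mem_bot] at this
        exact this
    have h1 := stable hp2 hr hrp hquad Y T P a h B₀ hB₀p g₀ hg₀
    let f : Y ⧸ centralizer (B₀ : Set Y) →* (Y ⧸ O) ⧸ centralizer (B : Set (Y ⧸ O)) :=
      QuotientGroup.map _ _ π (fun x hx => by
        rw [mem_comap, ← hB₀map, mem_centralizer_iff]
        rintro _ ⟨z, hz, rfl⟩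
        rw [← map_mul, ← map_mul, mem_centralizer_iff.1 hx z hz])
    have hf : Function.Surjective f := by
      intro x
      obtain ⟨y, rfl⟩ := QuotientGroup.mk'_surjective _ x
      obtain ⟨z, rfl⟩ := hπ y
      exact ⟨QuotientGroup.mk' _ z, rfl⟩
    exact HallCore.map_pCore_le hf (mem_map_of_mem f h1)
  have hYn : (thomY 0 (Pb : Subgroup (Y ⧸ O))).Normal :=
    thomY_normal hp2 (Or.inl rfl) hst hc Pb _ ⟨le_rfl, fun _ _ _ h => h⟩
  set Y₀ := thomY 0 P with hY₀
  have hinj : Set.InjOn π P := fun x hx y hy he => by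
    have h1 : x⁻¹ * y ∈ O := QuotientGroup.eq.1 he
    exact inv_mul_eq_one.1 (hker _ (P.mul_mem (P.inv_mem hx) hy) h1)
  have hY₀map : Y₀.map π = thomY 0 (Pb : Subgroup (Y ⧸ O)) := by
    rw [hPb, Sylow.coe_mapSurjective, hS, hY₀, thomY_map_of_injOn P hinj]
  have haY : zpowers a ≤ normalizer (Y₀ : Set Y) := zpowers_le.2 (normalizer_le_thomY P haP)
  have hlift : ∀ t ∈ T, ∃ o ∈ O, o * t ∈ T ⊓ normalizer (Y₀ : Set Y) := by
    intro t ht
    obtain ⟨o, ho, hot⟩ := exists_mem_normalizer_lift (π := π) (by rw [hkerπ]; exact hOcop)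
      (hPp.to_le (thomY_le P)) (y := t) (by rw [hY₀map, normalizer_eq_top]; trivial)
    rw [hkerπ] at ho
    exact ⟨o, ho, T.mul_mem (hOT ho) ht, hot⟩
  set T₀ := T ⊓ normalizer (Y₀ : Set Y) with hT₀
  have hT₀a : zpowers a ≤ normalizer (T₀ : Set Y) :=
    LocalBasics.le_normalizer_inf haT (FlavellFrame20.zpowers_le_normalizer
      (FlavellFrame20.inv_normalizer (zpowers_le.1 haY)))
  rw [← h.gen]
  refine le_trans ?_ (inf_le_right : T₀ ≤ normalizer (Y₀ : Set Y))
  refine commutator_le.2 fun t ht b hb => ?_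
  obtain ⟨o, ho, hot⟩ := hlift t ht
  have hoz : o ∈ cen T := hO ho
  have hob : o * b = b * o := by
    obtain ⟨k, rfl⟩ := mem_zpowers_iff.1 hb
    exact (Commute.zpow_right (show Commute o a from
      mem_centralizer_singleton_iff.1 (h.fix.ge hoz).2) k).eq
  have hmem : ⁅o * t, b⁆ ∈ T₀ := CoprimeAction.commutator_le_self_of_le_normalizer hT₀a (commutator_mem_commutator hot hb)
  have he : ⁅t, b⁆ = ⁅o * t, b⁆ := by
    have h1 : ⁅o * t, b⁆ * o = o * ⁅o * t, b⁆ :=
      (mem_centralizer_iff.1 hoz.2 _ hmem.1)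
    calc ⁅t, b⁆ = o⁻¹ * (o * t * b * (o * t)⁻¹ * (o * b⁻¹)) := by rw [commutatorElement_def]; group
      _ = o⁻¹ * (⁅o * t, b⁆ * o) := by
        rw [show o * b⁻¹ = b⁻¹ * o from (Commute.inv_right (show Commute o b from hob)).eq,
          commutatorElement_def]
        group
      _ = ⁅o * t, b⁆ := by rw [h1, inv_mul_cancel_left]
  rw [he]
  exact hmem

end Climb

open Subgroup GlaubermanZJ
open Cfsg.Agent.Flavell20 (cen)

variable {Γ : Type u} [Group Γ] {p r n : ℕ} {V X W T : Subgroup Γ} {a : Γ}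

/-- The case that the centraliser of `Q` in `T` is centralised by `a`. -/
theorem killFixed [Finite Γ]
    (hquad : ∀ (Γ' : Type u) [Group Γ'] [Finite Γ'], Quad p r Γ') :
    KillFixed p r n V X W T a := by
  intro h hT _ H Q hM hfixQ
  haveI hp : Fact p.Prime := ⟨h.hp⟩
  have hr2 : r ≠ 2 := by
    rw [hT.rn]
    have := Nat.one_lt_two_pow (show n ≠ 0 by have := hT.n1; omega)
    omega
  have hTX := hT.TX
  have hO : T ⊓ centralizer (Q : Set Γ) ≤ cen T := fun x hx => hT.fix.le ⟨hx.1, by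
    rw [← FlavellFrame20.centralizer_zpowers]
    exact commutator_eq_bot_iff_le_centralizer.1 hfixQ hx⟩
  have hTQ : T ≤ normalizer (Q : Set Γ) := hM.TH.trans hM.HQ
  obtain ⟨P, hP, hQP⟩ := exists_iSyl_ge h.toCore hM.HX hM.aH (q := p) hM.QH hM.Qp hM.aQ
  -- elements of `P` modulo `Q`
  have hdec : ∀ x ∈ P, ∃ q ∈ Q, ∃ c ∈ P,
      c ∈ normalizer (T : Set Γ) ∧ a * c = c * a ∧ q * c = x := by
    intro x hx
    have hxH := hP.le hx
    have hnK : x ∈ normalizer ((Q ⊔ T : Subgroup Γ) : Set Γ) :=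
      hM.comm ▸ (inv_comm h.toCore (a := a) (K := H)).2 hxH
    have hcop : (Nat.card T).Coprime (Nat.card Q) := by
      obtain ⟨i, hi⟩ := IsPGroup.iff_card.1 hT.T2
      obtain ⟨j, hj⟩ := IsPGroup.iff_card.1 hM.Qp
      rw [hi, hj]
      exact ((Nat.coprime_primes Nat.prime_two h.hp).2 (Ne.symm h.hp2)).pow i j
    haveI : Fact (Nat.Prime 2) := ⟨Nat.prime_two⟩
    obtain ⟨d, hd, hde⟩ := CoprimeSZ.exists_conj_of_card_eq hTQ hcop
      (Or.inl (CoprimeAction.isSolvable_of_isPGroup hT.T2))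
      (B := T.map (MulAut.conj x).toMonoidHom)
      (FlavellFrame20.conj_map_le hnK le_sup_right)
      (card_map_of_injective (MulAut.conj x).injective)
    have hm : d⁻¹ * x ∈ P ⊓ normalizer (T : Set Γ) := by
      refine ⟨P.mul_mem (P.inv_mem (hQP hd)) hx, FlavellFrame20.mem_normalizer_of_map_le ?_⟩
      rintro _ ⟨t, ht, rfl⟩
      have h1 : x * t * x⁻¹ ∈ T.map (MulAut.conj x).toMonoidHom := ⟨t, ht, rfl⟩
      rw [← hde, CoprimeSZ.mem_conj_smul] at h1
      show d⁻¹ * x * t * (d⁻¹ * x)⁻¹ ∈ T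
      simpa [mul_assoc] using h1
    have haN : a ∈ normalizer ((P ⊓ normalizer (T : Set Γ) : Subgroup Γ) : Set Γ) :=
      FlavellFrame20.inv_inf hP.inv (FlavellFrame20.inv_normalizer hT.aT)
    obtain ⟨e, he, c, hc, hec⟩ := CoprimeAction.exists_mul_fixed
      (FlavellFrame20.zpowers_le_normalizer haN)
      (cop h.toCore ((inf_le_left.trans hP.le).trans hM.HX))
      (Or.inl (CoprimeAction.isSolvable_zpowers a)) hm
    have heP : e ∈ P := (comm_le h.toCore haN he).1
    have heK : e ∈ T ⊔ Q := by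
      rw [sup_comm, ← hM.comm]
      exact commutator_mono (inf_le_left.trans hP.le) le_rfl he
    rw [← SetLike.mem_coe, coe_mul_of_left_le_normalizer_right _ _ hTQ] at heK
    obtain ⟨t, ht, q, hq, heq⟩ := heK
    beta_reduce at heq
    have ht1 : t = 1 := Climb.inf_pgroup_two h.hp h.hp2 hP.pgrp hT.T2
      (by rw [show t = e * q⁻¹ by rw [← heq]; group]
          exact P.mul_mem heP (P.inv_mem (hQP hq))) ht
    rw [ht1, one_mul] at heq
    refine ⟨d * e, Q.mul_mem hd (heq ▸ hq), c, hc.1.1, hc.1.2, ?_, ?_⟩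
    · exact (mem_centralizer_singleton_iff.1 (FlavellFrame20.centralizer_zpowers a ▸ hc.2)).symm
    · rw [mul_assoc, ← hec]; group
  -- pass to the group generated by `T`, `a` and `P`
  set G₁ := T ⊔ zpowers a ⊔ P with hG₁
  have hTG : T ≤ G₁ := le_sup_left.trans le_sup_left
  have haG : zpowers a ≤ G₁ := le_sup_right.trans le_sup_left
  have hPG : P ≤ G₁ := le_sup_right
  have hG₁H : G₁ ≤ zpowers a ⊔ H :=
    sup_le (sup_le (hM.TH.trans le_sup_right) le_sup_left) (hP.le.trans le_sup_right)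
  haveI : (Q.subgroupOf G₁).Normal := normal_subgroupOf_of_le_normalizer
    (sup_le (sup_le hTQ (zpowers_le.2 hM.aQ)) (hP.le.trans hM.HQ))
  let a₁ : G₁ := ⟨a, haG (mem_zpowers a)⟩
  set T₁ := T.subgroupOf G₁ with hT₁
  set P₁ := P.subgroupOf G₁ with hP₁
  have hcen : ∀ x : G₁, x ∈ cen T₁ ↔ (x : Γ) ∈ cen T := by
    intro x
    constructor
    · rintro ⟨h1, h2⟩
      exact ⟨h1, mem_centralizer_iff.2 fun t ht =>
        congrArg Subtype.val (mem_centralizer_iff.1 h2 ⟨t, hTG ht⟩ ht)⟩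
    · rintro ⟨h1, h2⟩
      exact ⟨h1, mem_centralizer_iff.2 fun t ht => Subtype.ext (mem_centralizer_iff.1 h2 t.1 ht)⟩
  have hdec₁ : ∀ x ∈ P₁, ∃ q ∈ Q.subgroupOf G₁, ∃ c ∈ P₁,
      c ∈ normalizer (T₁ : Set G₁) ∧ a₁ * c = c * a₁ ∧ q * c = x := by
    intro x hx
    obtain ⟨q, hq, c, hc, hcT, hca, hqc⟩ := hdec x hx
    refine ⟨⟨q, hPG (hQP hq)⟩, hq, ⟨c, hPG hc⟩, hc, ?_, Subtype.ext hca, Subtype.ext hqc⟩
    refine FlavellFrame20.mem_normalizer_of_map_le ?_
    rintro _ ⟨t, ht, rfl⟩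
    exact (mem_normalizer_iff.1 hcT t.1).1 ht
  have hQ₁p : IsPGroup p (Q.subgroupOf G₁) := hM.Qp.comap_subtype
  have hdata : Climb.TData p r T₁ P₁ a₁ := by
    refine ⟨?_, ?_, hT.T2.comap_subtype, ?_, ?_, fun t ht => (hcen _).2 (hT.sq t.1 ht),
      fun z hz => Subtype.ext (hT.Zexp z.1 ((hcen z).1 hz)), ?_, ?_, ?_, ?_⟩
    · rw [← h.orda, ← orderOf_coe a₁]
    · refine FlavellFrame20.mem_normalizer_of_map_le ?_
      rintro _ ⟨t, ht, rfl⟩
      exact (mem_normalizer_iff.1 hT.aT t.1).1 ht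
    · refine map_injective G₁.subtype_injective ?_
      rw [map_commutator, hT₁, map_subgroupOf_eq_of_le hTG, MonoidHom.map_zpowers]
      exact hT.gen
    · refine commutator_le.2 fun x hx y hy => (hcen _).2 ?_
      exact hT.der ▸ commutator_mem_commutator (show (x : Γ) ∈ T from hx) hy
    · ext x
      rw [hcen, ← hT.fix]
      constructor
      · rintro ⟨h1, h2⟩
        exact ⟨h1, mem_centralizer_singleton_iff.2
          (congrArg Subtype.val (mem_centralizer_singleton_iff.1 h2))⟩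
      · rintro ⟨h1, h2⟩
        exact ⟨h1, mem_centralizer_singleton_iff.2
          (Subtype.ext (mem_centralizer_singleton_iff.1 h2))⟩
    · refine ⟨Sylow.ofCard P₁ ?_, Sylow.coe_ofCard _ _⟩
      rw [Nat.card_congr (subgroupOfEquivOfLe hPG).toEquiv, hP.card]
      congr 1
      apply le_antisymm
      · rw [← Nat.Prime.pow_dvd_iff_le_factorization h.hp Nat.card_pos.ne', ← hP.card]
        exact card_dvd_of_le hPG
      · have hcard := OffendersReplace.card_sup_mul_card_inf (zpowers a) H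
          (FlavellFrame20.zpowers_le_normalizer hM.aH)
        have hdvd : Nat.card G₁ ∣ r * Nat.card H := by
          rw [← card_zpowers h.toCore, ← hcard]
          exact (card_dvd_of_le hG₁H).trans (dvd_mul_right _ _)
        have := (Nat.factorization_le_iff_dvd Nat.card_pos.ne'
          (mul_ne_zero h.hr.ne_zero Nat.card_pos.ne')).2 hdvd p
        rwa [Nat.factorization_mul h.hr.ne_zero Nat.card_pos.ne', Finsupp.add_apply,
          h.hr.factorization, Finsupp.single_eq_of_ne (Ne.symm h.hrp), zero_add] at this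
    · intro x hx
      obtain ⟨q, hq, rest⟩ := hdec₁ x hx
      exact ⟨q, HallCore.le_pCore hQ₁p hq, rest⟩
    · refine map_injective G₁.subtype_injective ?_
      rw [Subgroup.map_sup, Subgroup.map_sup, hT₁, hP₁, map_subgroupOf_eq_of_le hTG,
        map_subgroupOf_eq_of_le hPG, MonoidHom.map_zpowers, ← MonoidHom.range_eq_map,
        range_subtype]
      rfl
  have hT₁ne : T₁ ≠ ⊥ := fun h0 => hT.ne <| by
    rw [← map_subgroupOf_eq_of_le hTG, ← hT₁, h0, Subgroup.map_bot]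
  have haP₁ : a₁ ∈ normalizer (P₁ : Set G₁) := by
    refine FlavellFrame20.mem_normalizer_of_map_le ?_
    rintro _ ⟨t, ht, rfl⟩
    exact (mem_normalizer_iff.1 hP.inv t.1).1 ht
  have hO₁ : T₁ ⊓ centralizer ((Q.subgroupOf G₁ : Subgroup G₁) : Set G₁) ≤ cen T₁ := by
    rintro x ⟨h1, h2⟩
    refine (hcen x).2 (hO ⟨h1, mem_centralizer_iff.2 fun q hq => ?_⟩)
    exact congrArg Subtype.val (mem_centralizer_iff.1 h2 ⟨q, hPG (hQP hq)⟩ hq)
  have hclimb := Climb.climb h.hp2 h.hr hr2 h.hrp hquad hdata hT₁ne haP₁ (Q.subgroupOf G₁)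
    (fun x hx => hQP hx) hdec₁ hO₁
  set Y₀ := thomY 0 P with hY₀
  have hTY : T ≤ normalizer (Y₀ : Set Γ) := by
    have h1 := (map_mono (f := G₁.subtype) hclimb).trans (le_normalizer_map G₁.subtype)
    rwa [hT₁, map_subgroupOf_eq_of_le hTG, ← thomY_map G₁.subtype_injective, hP₁,
      map_subgroupOf_eq_of_le hPG] at h1
  -- the normaliser of `Y₀` is a larger overgroup
  have hYP : Y₀ ≤ P := thomY_le P
  have hPne : P ≠ ⊥ := fun h0 => hM.Qne (eq_bot_iff.2 (h0 ▸ hQP))
  have hYne : Y₀ ≠ ⊥ := thomY_ne_bot (Or.inl rfl) hP.pgrp hPne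
  have hPX : P ≤ X := hP.le.trans hM.HX
  set L := X ⊓ normalizer (Y₀ : Set Γ) with hL
  have hLne : L ≠ X := fun he =>
    hYne (h.op Y₀ (hYP.trans hPX) (hP.pgrp.to_le hYP) (he.ge.trans inf_le_right))
  have haY : a ∈ normalizer (Y₀ : Set Γ) := normalizer_le_thomY P hP.inv
  have hLH : L ≤ H := hM.max L inf_le_left hLne
    (FlavellFrame20.inv_inf h.aX (FlavellFrame20.inv_normalizer haY))
    (le_inf hTX hTY)
    (le_inf (hQP.trans hPX) (hQP.trans (le_normalizer.trans (normalizer_le_thomY P))))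
  obtain ⟨S, hS, hPS⟩ :=
    exists_iSyl_ge h.toCore le_rfl h.aX (q := p) hPX hP.pgrp hP.inv
  have hlt : P.subgroupOf S < ⊤ := lt_top_iff_ne_top.2 fun he =>
    hM.notFull S hS ((subgroupOf_eq_top.1 he).trans hP.le)
  haveI := hS.pgrp.isNilpotent
  obtain ⟨y, hy, hyP⟩ :=
    SetLike.exists_of_lt (Group.normalizerCondition_of_isNilpotent _ hlt)
  have hyN : (y : Γ) ∈ normalizer (P : Set Γ) := by
    have := le_normalizer_map S.subtype (mem_map_of_mem S.subtype hy)
    rwa [map_subgroupOf_eq_of_le hPS] at this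
  set U := S ⊓ normalizer (P : Set Γ) with hU
  have hUH : U ≤ H := fun x hx => hLH ⟨hS.le hx.1, normalizer_le_thomY P hx.2⟩
  have hUP : P = U := by
    refine eq_of_le_of_card_ge (le_inf hPS le_normalizer) ?_
    obtain ⟨k, hk⟩ := IsPGroup.iff_card.1 (hS.pgrp.to_le (inf_le_left : U ≤ S))
    rw [hk, hP.card]
    refine Nat.pow_le_pow_right h.hp.pos ?_
    rw [← Nat.Prime.pow_dvd_iff_le_factorization h.hp Nat.card_pos.ne', ← hk]
    exact card_dvd_of_le hUH
  exact hyP (mem_subgroupOf.2 (hUP.ge ⟨y.2, hyN⟩))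

end Cfsg.Agent.Flavell8
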