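import Cfsg.Agent.Lib.FlavellFixedCases89

/-!
Flavell's theorem: the non-central case and the induction.
-/

namespace Cfsg.Agent.FlavellFixed89

open Subgroup
open scoped commutatorElement Pointwise

universe u

section

variable {p : ℕ} [hp : Fact p.Prime] {H : Type u} [Group H] [Finite H] {x : MulAut H} {V : Subgroup H}

theorem Setup.noncentral_case (s : Setup (p := p) x V) (hp2 : p ≠ 2) (hVc : ¬ V ≤ center H) :
    fixed x ≤ fixGen x := by
  classical
  haveI := s.normal
  have hVt : V ≠ ⊤ := fun h => hVc fun a _ => mem_center_iff.mpr fun b =>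
    s.abel b (h ▸ mem_top b) a (h ▸ mem_top a)
  have hJV : joinComm x V ≤ V := joinComm_le s.invar
  -- the vectors whose fixed component is in `fixGen x`
  let S : Subgroup H :=
    { carrier := {g | ∃ c ∈ V ⊓ fixGen x, ∃ d ∈ joinComm x V, g = c * d}
      one_mem' := ⟨1, one_mem _, 1, one_mem _, (mul_one 1).symm⟩
      mul_mem' := by
        rintro a b ⟨c, hc, d, hd, rfl⟩ ⟨c', hc', d', hd', rfl⟩
        refine ⟨c * c', mul_mem hc hc', d * d', mul_mem hd hd', ?_⟩
        rw [mul_assoc c, ← mul_assoc d, s.abel d (hJV hd) c' hc'.1]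
        simp [mul_assoc]
      inv_mem' := by
        rintro a ⟨c, hc, d, hd, rfl⟩
        refine ⟨c⁻¹, inv_mem hc, d⁻¹, inv_mem hd, ?_⟩
        rw [mul_inv_rev]
        exact s.abel _ (V.inv_mem (hJV hd)) _ (V.inv_mem hc.1) }
  have hSgoal : V ≤ S → fixed x ≤ fixGen x := fun hVS => s.fixed_le fun t ht => by
    obtain ⟨c, hc, d, hd, rfl⟩ := hVS ht.1
    have hdf : d ∈ fixed x := by
      have := (fixed x).mul_mem ((fixed x).inv_mem (fixGen_le_fixed hc.2)) ht.2
      rwa [inv_mul_cancel_left] at this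
    exact mul_mem hc.2 (s.sub_le V s.invar hVt ⟨hd, hdf⟩)
  have hSL : ∀ L : Subgroup H, Inv x L → L ≠ ⊤ → V ≤ L → V ⊓ joinComm x L ≤ S := by
    intro L hL hne hVL g hg
    obtain ⟨c, d, hc, hcV, hd, rfl⟩ := exists_fixed_joinComm s.cop s.pow s.invar hg.1
    refine ⟨c, ⟨hcV, s.sub_le L hL hne ⟨?_, hc⟩⟩, d, hd, rfl⟩
    have := (joinComm x L).mul_mem hg.2 ((joinComm x L).inv_mem (joinComm_mono hVL hd))
    rwa [mul_inv_cancel_right] at this
  let GS : Subgroup H :=
    { carrier := {g | ∀ v ∈ V, g * v * g⁻¹ * v⁻¹ ∈ S}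
      one_mem' := fun v _ => by simp
      mul_mem' := fun {a b} ha hb v hv => by
        have h1 := S.mul_mem (ha _ (mem_of_conj s.normal b hv)) (hb v hv)
        rw [show a * b * v * (a * b)⁻¹ * v⁻¹ =
          a * (b * v * b⁻¹) * a⁻¹ * (b * v * b⁻¹)⁻¹ * (b * v * b⁻¹ * v⁻¹) by group]
        exact h1
      inv_mem' := fun {a} ha v hv => by
        have h1 := S.inv_mem (ha _ (mem_of_conj s.normal a⁻¹ hv))
        rw [show a * (a⁻¹ * v * a⁻¹⁻¹) * a⁻¹ * (a⁻¹ * v * a⁻¹⁻¹)⁻¹ = v * (a⁻¹ * v * a⁻¹⁻¹)⁻¹ by group,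
          mul_inv_rev, inv_inv] at h1
        exact h1 }
  have hkill : ∀ N : Subgroup H, N ≤ GS → Inv x N → (⁅N, V⁆).Normal →
      ¬ V ≤ centralizer (N : Set H) → fixed x ≤ fixGen x := by
    intro N hN hNi hNn hcent
    refine hSgoal ?_
    have hle : ⁅N, V⁆ ≤ V ⊓ S := commutator_le.mpr fun a ha v hv => by
      rw [commutatorElement_def]
      exact ⟨V.mul_mem (mem_of_conj s.normal a hv) (V.inv_mem hv), hN ha v hv⟩
    rcases s.min _ hNn (inv_commutator hNi s.invar) (hle.trans inf_le_left) with h0 | h0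
    · exact absurd (le_centralizer_iff.mp (commutator_eq_bot_iff_le_centralizer.mp h0)) hcent
    · exact h0.ge.trans (hle.trans inf_le_right)
  by_cases hA : ∀ h : H, comm x h ⊔ V ≠ ⊤
  · refine hkill ⊤ ?_ inv_top inferInstance fun hle => hVc fun v hv => mem_center_iff.mpr fun g =>
      mem_centralizer_iff.mp (hle hv) g (mem_top g)
    rw [← s.gen]
    refine joinComm_le_iff.mpr fun h _ i v hv => ?_
    have hLi : Inv x (comm x h ⊔ V) := (inv_comm h).sup s.invar
    refine hSL _ hLi (hA h) le_sup_right ⟨V.mul_mem (mem_of_conj s.normal _ hv) (V.inv_mem hv), ?_⟩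
    have hd : dif x h i ∈ joinComm x (comm x h ⊔ V) :=
      comm_le_joinComm_of_le s.cop s.pow le_sup_left (dif_mem_comm h i)
    rw [show dif x h i * v * (dif x h i)⁻¹ * v⁻¹ = dif x h i * (v * (dif x h i)⁻¹ * v⁻¹) by group]
    exact mul_mem hd (conj_mem_joinComm (mem_sup_right hv) (inv_mem hd))
  push Not at hA
  obtain ⟨h, hW⟩ := hA
  have hWn : ∀ g : H, ∃ a ∈ comm x h, ∃ w ∈ V, a * w = g := fun g =>
    mem_sup_of_normal_right.mp (hW ▸ mem_top g)
  have hWfix : comm x h ⊓ fixed x ≤ fixGen x := comm_inf_le_fixGen h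
  have hdisj : ∀ g : H, comm x g ⊔ V = ⊤ → comm x g ⊓ V ≠ ⊥ → fixed x ≤ fixGen x := by
    intro g hg hne
    have hn : (comm x g ⊓ V).Normal := normal_of_conj_mem fun y v hv => by
      obtain ⟨a, ha, w, hw, rfl⟩ := mem_sup_of_normal_right.mp (hg ▸ mem_top y)
      rw [show a * w * v * (a * w)⁻¹ = a * (w * v * w⁻¹) * a⁻¹ by group,
        s.abel w hw v hv.2, mul_inv_cancel_right]
      exact ⟨mul_mem (mul_mem ha hv.1) ((comm x g).inv_mem ha), mem_of_conj s.normal a hv.2⟩
    rcases s.min _ hn ((inv_comm g).inf s.invar) inf_le_right with h0 | h0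
    · exact absurd h0 hne
    · exact s.fixed_le fun t ht => comm_inf_le_fixGen g ⟨(h0.ge ht.1).1, ht.2⟩
  by_cases hWV : comm x h ⊓ V = ⊥
  swap
  · exact hdisj h hW hWV
  set W := comm x h with hWdef
  have hWne : W ≠ ⊥ := fun h0 => hVt (by rw [h0, bot_sup_eq] at hW; exact hW)
  have hinvC : Inv x (centralizer (V : Set H)) := fun y hy => mem_centralizer_iff.mpr fun v hv => by
    have hinv : x⁻¹ = x ^ (p - 1) := inv_eq_of_mul_eq_one_right (by
      rw [← pow_succ', Nat.sub_add_cancel hp.out.one_le, s.pow])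
    have := congrArg x (mem_centralizer_iff.mp hy _ (hinv ▸ s.invar.pow _ hv))
    simpa using this
  by_cases hker : W ⊓ centralizer (V : Set H) ≠ ⊥
  · have hn : (W ⊓ centralizer (V : Set H)).Normal := normal_of_conj_mem fun y n hn => by
      obtain ⟨a, ha, w, hw, rfl⟩ := hWn y
      rw [show a * w * n * (a * w)⁻¹ = a * (w * n * w⁻¹) * a⁻¹ by group,
        mem_centralizer_iff.mp hn.2 w hw, mul_inv_cancel_right]
      exact ⟨mul_mem (mul_mem ha hn.1) ((comm x h).inv_mem ha),
        (inferInstance : (centralizer (V : Set H)).Normal).conj_mem n hn.2 a⟩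
    intro c hc
    obtain ⟨k, hk, n, hn', rfl⟩ := mem_sup_of_normal_right.mp
      (s.quot_le _ hn ((inv_comm h).inf hinvC) hker hc)
    refine mul_mem hk (hWfix ⟨hn'.1, ?_⟩)
    have := (fixed x).mul_mem ((fixed x).inv_mem (fixGen_le_fixed hk)) hc
    rwa [inv_mul_cancel_left] at this
  push Not at hker
  obtain ⟨N, hNW, hN1, hNi, hNab, hNn⟩ := exists_abelian s.sol (inv_comm h) hWne
  have hcomm : (⁅N, V⁆).Normal := by
    have hle : ⁅N, V⁆ ≤ V := commutator_le_right N V
    refine normal_of_conj_mem fun y v hv => ?_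
    obtain ⟨a, ha, w, hw, rfl⟩ := hWn y
    rw [show a * w * v * (a * w)⁻¹ = a * (w * v * w⁻¹) * a⁻¹ by group,
      s.abel w hw v (hle hv), mul_inv_cancel_right]
    have : ⁅N, V⁆ ≤ (⁅N, V⁆).comap (MulAut.conj a).toMonoidHom := commutator_le.mpr fun n hn u hu => by
      show (MulAut.conj a).toMonoidHom ⁅n, u⁆ ∈ ⁅N, V⁆
      rw [map_commutatorElement]
      exact commutator_mem_commutator (hNn a ha n hn) (mem_of_conj s.normal a hu)
    exact this hv
  have hcent : ¬ V ≤ centralizer (N : Set H) := fun hle => hN1 (eq_bot_iff.mpr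
    (hker ▸ le_inf hNW (le_centralizer_iff.mp hle)))
  by_cases hNV : joinComm x N ⊔ V ≠ ⊤
  · refine hkill N ?_ hNi hcomm hcent
    intro n hn
    obtain ⟨c, d, hc, hcN, hd, rfl⟩ := exists_fixed_joinComm s.cop s.pow hNi hn
    refine GS.mul_mem (fun v hv => ?_) fun v hv => ?_
    · -- a fixed element of `W`
      obtain ⟨t, j, ht, htV, hj, rfl⟩ := exists_fixed_joinComm s.cop s.pow s.invar hv
      have hcK : c ∈ fixGen x := hWfix ⟨hNW hcN, hc⟩
      rw [show c * (t * j) * c⁻¹ * (t * j)⁻¹ =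
        (c * t * c⁻¹) * ((c * j * c⁻¹) * j⁻¹) * t⁻¹ by group]
      have hjj : c * j * c⁻¹ * j⁻¹ ∈ joinComm x V := by
        refine mul_mem ?_ (inv_mem hj)
        have : joinComm x V ≤ (joinComm x V).comap (MulAut.conj c).toMonoidHom :=
          joinComm_le_iff.mpr fun u hu i => by
            show c * dif x u i * c⁻¹ ∈ joinComm x V
            rw [show c * dif x u i * c⁻¹ = dif x (c * u * c⁻¹) i by
              simp only [dif, map_mul, map_inv, pow_apply_fixed hc]; group]
            exact dif_mem_joinComm (mem_of_conj s.normal c hu) i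
        exact this hj
      refine ⟨c * t * c⁻¹ * t⁻¹, ⟨V.mul_mem (mem_of_conj s.normal c htV) (V.inv_mem htV), ?_⟩,
        c * j * c⁻¹ * j⁻¹, hjj, ?_⟩
      · rw [show c * t * c⁻¹ * t⁻¹ = c * (t * c⁻¹ * t⁻¹) by group]
        exact mul_mem hcK (conj_fixGen ht (inv_mem hcK))
      · rw [mul_assoc (c * t * c⁻¹), s.abel (c * j * c⁻¹ * j⁻¹) (hJV hjj) t⁻¹ (V.inv_mem htV),
          ← mul_assoc]
    · have hLi : Inv x (joinComm x N ⊔ V) := (inv_joinComm N).sup s.invar
      refine hSL _ hLi hNV le_sup_right ⟨V.mul_mem (mem_of_conj s.normal _ hv) (V.inv_mem hv), ?_⟩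
      have hd' : d ∈ joinComm x (joinComm x N ⊔ V) :=
        joinComm_mono le_sup_left ((joinComm_joinComm s.cop s.pow hNi).ge hd)
      rw [show d * v * d⁻¹ * v⁻¹ = d * (v * d⁻¹ * v⁻¹) by group]
      exact mul_mem hd' (conj_mem_joinComm (mem_sup_right hv) (inv_mem hd'))
  push Not at hNV
  have hWN : W ≤ joinComm x N := by
    intro w hw
    obtain ⟨d, hd, v, hv, rfl⟩ := mem_sup_of_normal_right.mp (hNV ▸ mem_top w)
    have : v ∈ W ⊓ V := ⟨by
      have := mul_mem ((comm x h).inv_mem (hNW (joinComm_le hNi hd))) hw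
      rwa [inv_mul_cancel_left] at this, hv⟩
    rw [hWV, Subgroup.mem_bot] at this
    rwa [this, mul_one]
  have hWN' : W ≤ N := hWN.trans (joinComm_le hNi)
  have hab : ∀ a ∈ W, ∀ b ∈ W, a * b = b * a := fun a ha b hb => hNab a (hWN' ha) b (hWN' hb)
  have hfree : W ⊓ fixed x = ⊥ := by
    -- an abelian group equal to its commutator with `x` has no fixed points
    have hNeq : N = W := le_antisymm hNW hWN'
    have htopN : joinComm (restr x hNi) ⊤ = ⊤ := by
      refine eq_top_iff.mpr fun y _ => ?_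
      have hy : (y : H) ∈ joinComm x N := hWN (hNW y.2)
      have hle : joinComm x N ≤ (joinComm (restr x hNi) ⊤).map N.subtype :=
        iSup₂_le fun z hz => (map_comm_restr hNi ⟨z, hz⟩).ge.trans
          (Subgroup.map_mono (comm_le_joinComm (mem_top _)))
      obtain ⟨z, hz, hzy⟩ := hle hy
      exact Subtype.ext hzy ▸ hz
    have h1 := fixed_le_of_commutator_le (x := restr x hNi)
      (s.cop.coprime_dvd_left (card_subgroup_dvd_card N)) (restr_pow_prime hNi s.pow) htopN
      (N := ⊥) (fun y hy => by rw [Subgroup.mem_bot] at hy ⊢; rw [hy, map_one])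
      (fun a b => Subgroup.mem_bot.mpr (Subtype.ext (by
        show (a : H)⁻¹ * (b : H)⁻¹ * a * b = 1
        rw [mul_assoc _ (a : H), hNab a a.2 b b.2]; group)))
    refine (Subgroup.eq_bot_iff_forall _).mpr fun w hw => ?_
    have : (⟨w, hWN' hw.1⟩ : N) ∈ fixed (restr x hNi) := mem_fixed.mpr (Subtype.ext hw.2)
    exact congrArg Subtype.val (Subgroup.mem_bot.mp (h1 this))
  obtain ⟨v, hv, hne⟩ := s.exists_not_disjoint hp2 hW hWV hab hfree hker
  refine hdisj (h * v) ?_ hne
  refine eq_top_iff.mpr fun g _ => ?_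
  have hle : W ≤ comm x (h * v) ⊔ V := by
    rw [hWdef, comm, closure_le]
    rintro _ ⟨i, rfl⟩
    have h1 : dif x (h * v) i = v⁻¹ * dif x h i * ((x ^ i) v) := by
      simp only [dif, map_mul]; group
    have h2 : dif x h i = v * dif x (h * v) i * ((x ^ i) v)⁻¹ := by rw [h1]; group
    rw [SetLike.mem_coe, h2]
    exact mul_mem (mul_mem (mem_sup_right hv) (mem_sup_left (dif_mem_comm _ i)))
      (mem_sup_right (V.inv_mem (s.invar.pow i hv)))
  exact (sup_le hle le_sup_right) (hW ▸ mem_top g)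

end

variable {p : ℕ} [hp : Fact p.Prime]

/-- Flavell's theorem. -/
theorem joinComm_inf_fixed_le (hp2 : p ≠ 2) : ∀ (n : ℕ) (H : Type u) [Group H] [Finite H]
    (x : MulAut H), Nat.card H = n → Group.IsSolvable H → (Nat.card H).Coprime p → x ^ p = 1 →
    joinComm x ⊤ ⊓ fixed x ≤ fixGen x := by
  intro n
  induction n using Nat.strong_induction_on with
  | _ n ih =>
  intro H _ _ x hn hsol hcop hx
  haveI := hsol
  have hsub : ∀ L : Subgroup H, Inv x L → L ≠ ⊤ → joinComm x L ⊓ fixed x ≤ fixGen x := by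
    intro L hL hne
    refine joinComm_inf_fixed_le_of_restr hL (ih _ ?_ L (restr x hL) rfl inferInstance
      (hcop.coprime_dvd_left (card_subgroup_dvd_card L)) (restr_pow_prime hL hx))
    exact hn ▸ lt_of_le_of_ne (card_le_card_group L) fun he => hne (eq_top_of_card_eq L he)
  by_cases htop : joinComm x ⊤ ≠ ⊤
  · intro c hc
    exact hsub _ (inv_joinComm ⊤) htop ⟨(joinComm_joinComm hcop hx inv_top).ge hc.1, hc.2⟩
  push Not at htop
  rw [htop, top_inf_eq]
  by_cases hbot : (⊤ : Subgroup H) = ⊥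
  · exact fun c _ => by
      rw [show c = 1 from Subgroup.mem_bot.mp (hbot ▸ mem_top c)]; exact one_mem _
  have hquot : ∀ N : Subgroup H, N.Normal → Inv x N → N ≠ ⊥ → fixed x ≤ fixGen x ⊔ N := by
    intro N hN hNi hN1
    refine fixed_le_of_quot hcop hx htop hNi (ih _ ?_ (H ⧸ N) (quot x hNi) rfl inferInstance
      (hcop.coprime_dvd_left (card_quotient_dvd_card N)) ?_)
    · rw [← hn, card_eq_card_quotient_mul_card_subgroup N]
      exact lt_mul_right Nat.card_pos ((one_lt_card_iff_ne_bot N).mpr hN1)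
    · refine MulEquiv.ext fun y => ?_
      obtain ⟨y, rfl⟩ := QuotientGroup.mk'_surjective N y
      rw [quot_pow_mk, hx]; rfl
  obtain ⟨A, -, hA1, hAi, hAab, hAn⟩ := exists_abelian (x := x) hsol inv_top hbot
  obtain ⟨V, hV, hmin⟩ := Set.Finite.exists_minimal
    (Set.toFinite {N : Subgroup H | N.Normal ∧ Inv x N ∧ N ≤ A ∧ N ≠ ⊥})
    ⟨A, normal_of_conj_mem fun g v hv => hAn g (mem_top g) v hv, hAi, le_rfl, hA1⟩
  obtain ⟨hVn, hVi, hVA, hV1⟩ := hV
  have s : Setup (p := p) x V :=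
    { cop := hcop, pow := hx, gen := htop, sol := hsol, sub_le := hsub, quot_le := hquot
      normal := hVn, invar := hVi, ne_bot := hV1
      abel := fun a ha b hb => hAab a (hVA ha) b (hVA hb)
      min := fun N hN hNi hle => or_iff_not_imp_left.mpr fun h1 =>
        le_antisymm hle (hmin ⟨hN, hNi, hle.trans hVA, h1⟩ hle) }
  by_cases hc : V ≤ center H
  · exact s.central_case hp2 hc
  · exact s.noncentral_case hp2 hc

end Cfsg.Agent.FlavellFixed89
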