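import Cfsg.Agent.Lib.HallCore

/-!
An automorphism `x` with `x ^ p = 1` of a finite group of order prime to `p`: the subgroups
`[h, x]`, their join and their fixed points.
-/

namespace Cfsg.Agent.FlavellFixed89

open Subgroup

universe u

variable {p : ℕ} [hp : Fact p.Prime] {H : Type u} [Group H]

/-- `h⁻¹ x^i(h)`. -/
def dif (x : MulAut H) (h : H) (i : ℕ) : H := h⁻¹ * (x ^ i) h

/-- The subgroup `[h, ⟨x⟩]`. -/
def comm (x : MulAut H) (h : H) : Subgroup H := closure (Set.range (dif x h))

/-- The join of `[h, ⟨x⟩]` over `h ∈ L`. -/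
def joinComm (x : MulAut H) (L : Subgroup H) : Subgroup H := ⨆ h ∈ L, comm x h

/-- The fixed points of `x`. -/
def fixed (x : MulAut H) : Subgroup H := (x : H →* H).eqLocus (MonoidHom.id H)

/-- The join of the fixed points of the `[h, ⟨x⟩]`. -/
def fixGen (x : MulAut H) : Subgroup H := ⨆ h, comm x h ⊓ fixed x

/-- `L` is invariant under `x`. -/
def Inv (x : MulAut H) (L : Subgroup H) : Prop := ∀ y ∈ L, x y ∈ L

variable {x : MulAut H}

theorem mem_fixed {y : H} : y ∈ fixed x ↔ x y = y := Iff.rfl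

theorem pow_apply_fixed {y : H} (hy : y ∈ fixed x) (i : ℕ) : (x ^ i) y = y := by
  induction i with
  | zero => simp
  | succ i ih => rw [pow_succ, MulAut.mul_apply, mem_fixed.mp hy, ih]

theorem pow_succ_apply (i : ℕ) (y : H) : (x ^ (i + 1)) y = x ((x ^ i) y) := by
  rw [pow_succ', MulAut.mul_apply]

theorem Inv.pow {L : Subgroup H} (hL : Inv x L) (i : ℕ) {y : H} (hy : y ∈ L) : (x ^ i) y ∈ L := by
  induction i with
  | zero => simpa using hy
  | succ i ih => rw [pow_succ_apply]; exact hL _ ih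

theorem inv_top : Inv x ⊤ := fun _ _ => mem_top _

theorem Inv.inf {L M : Subgroup H} (hL : Inv x L) (hM : Inv x M) : Inv x (L ⊓ M) :=
  fun y hy => ⟨hL y hy.1, hM y hy.2⟩

theorem Inv.sup {L M : Subgroup H} (hL : Inv x L) (hM : Inv x M) : Inv x (L ⊔ M) :=
  show L ⊔ M ≤ (L ⊔ M).comap (x : H →* H) from
    sup_le (fun y hy => mem_sup_left (hL y hy)) fun y hy => mem_sup_right (hM y hy)

theorem dif_zero (h : H) : dif x h 0 = 1 := by simp [dif]

theorem dif_map (h : H) (i : ℕ) : x (dif x h i) = dif x (x h) i := by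
  simp only [dif, map_mul, map_inv, ← MulAut.mul_apply, ← pow_succ, ← pow_succ']

theorem dif_succ (h : H) (i : ℕ) : dif x h (i + 1) = dif x h 1 * x (dif x h i) := by
  simp only [dif, pow_one, map_mul, map_inv, pow_succ_apply]; group

theorem dif_conj (g h : H) (i : ℕ) :
    g⁻¹ * dif x h i * g = dif x (h * g) i * (dif x g i)⁻¹ := by
  simp only [dif, map_mul]; group

theorem dif_fixed_mul {c : H} (hc : c ∈ fixed x) (d : H) (i : ℕ) :
    dif x (c * d) i = dif x d i := by
  simp only [dif, map_mul, pow_apply_fixed hc]; group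

theorem dif_mem_comm (h : H) (i : ℕ) : dif x h i ∈ comm x h :=
  subset_closure (Set.mem_range_self i)

theorem inv_comm (h : H) : Inv x (comm x h) := by
  show comm x h ≤ (comm x h).comap (x : H →* H)
  rw [comm, closure_le]
  rintro _ ⟨i, rfl⟩
  show x (dif x h i) ∈ comm x h
  have := dif_succ (x := x) h i
  rw [← inv_mul_eq_iff_eq_mul] at this
  rw [← this]
  exact mul_mem (inv_mem (dif_mem_comm h 1)) (dif_mem_comm h (i + 1))

theorem comm_le_joinComm {L : Subgroup H} {h : H} (hh : h ∈ L) : comm x h ≤ joinComm x L :=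
  le_iSup₂ (f := fun h (_ : h ∈ L) => comm x h) h hh

theorem dif_mem_joinComm {L : Subgroup H} {h : H} (hh : h ∈ L) (i : ℕ) :
    dif x h i ∈ joinComm x L := comm_le_joinComm hh (dif_mem_comm h i)

theorem joinComm_le_iff {L M : Subgroup H} :
    joinComm x L ≤ M ↔ ∀ h ∈ L, ∀ i, dif x h i ∈ M := by
  simp only [joinComm, iSup_le_iff, comm, closure_le, Set.range_subset_iff, SetLike.mem_coe]

theorem joinComm_le {L : Subgroup H} (hL : Inv x L) : joinComm x L ≤ L :=
  joinComm_le_iff.mpr fun _ hh i => L.mul_mem (L.inv_mem hh) (hL.pow i hh)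

theorem joinComm_mono {L M : Subgroup H} (h : L ≤ M) : joinComm x L ≤ joinComm x M :=
  joinComm_le_iff.mpr fun _ hh i => dif_mem_joinComm (h hh) i

theorem inv_joinComm (L : Subgroup H) : Inv x (joinComm x L) := by
  show joinComm x L ≤ (joinComm x L).comap (x : H →* H)
  exact joinComm_le_iff.mpr fun h hh i =>
    comm_le_joinComm hh (inv_comm h _ (dif_mem_comm h i))

theorem conj_mem_joinComm {L : Subgroup H} {g d : H} (hg : g ∈ L) (hd : d ∈ joinComm x L) :
    g * d * g⁻¹ ∈ joinComm x L := by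
  have : joinComm x L ≤ (joinComm x L).comap (MulAut.conj g).toMonoidHom := by
    refine joinComm_le_iff.mpr fun h hh i => ?_
    show g * dif x h i * g⁻¹ ∈ joinComm x L
    have := dif_conj (x := x) g⁻¹ h i
    rw [inv_inv] at this
    rw [this]
    exact mul_mem (dif_mem_joinComm (L.mul_mem hh (L.inv_mem hg)) i)
      (inv_mem (dif_mem_joinComm (L.inv_mem hg) i))
  exact this hd

theorem conj_comm {c : H} (hc : c ∈ fixed x) (h : H) {d : H} (hd : d ∈ comm x h) :
    c * d * c⁻¹ ∈ comm x (c * h * c⁻¹) := by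
  have : comm x h ≤ (comm x (c * h * c⁻¹)).comap (MulAut.conj c).toMonoidHom := by
    rw [comm, closure_le]
    rintro _ ⟨i, rfl⟩
    show c * dif x h i * c⁻¹ ∈ comm x (c * h * c⁻¹)
    rw [show c * dif x h i * c⁻¹ = dif x (c * h * c⁻¹) i by
      simp only [dif, map_mul, map_inv, pow_apply_fixed hc]; group]
    exact dif_mem_comm _ i
  exact this hd

theorem comm_inf_le_fixGen (h : H) : comm x h ⊓ fixed x ≤ fixGen x :=
  le_iSup (fun h => comm x h ⊓ fixed x) h

theorem fixGen_le_fixed : fixGen x ≤ fixed x := iSup_le fun _ => inf_le_right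

theorem fixGen_le_joinComm : fixGen x ≤ joinComm x ⊤ :=
  iSup_le fun h => inf_le_left.trans (comm_le_joinComm (mem_top h))

theorem conj_fixGen {c k : H} (hc : c ∈ fixed x) (hk : k ∈ fixGen x) :
    c * k * c⁻¹ ∈ fixGen x := by
  have : fixGen x ≤ (fixGen x).comap (MulAut.conj c).toMonoidHom := iSup_le fun h d hd =>
    comm_inf_le_fixGen (c * h * c⁻¹)
      ⟨conj_comm hc h hd.1, (fixed x).mul_mem ((fixed x).mul_mem hc hd.2) ((fixed x).inv_mem hc)⟩
  exact this hk

/-! ### Coprimality -/

variable [Finite H]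

theorem eq_one_of_pow {y : H} (hcop : (Nat.card H).Coprime p) (h : y ^ p = 1) : y = 1 := by
  have h1 : orderOf y ∣ p := orderOf_dvd_of_pow_eq_one h
  exact orderOf_eq_one_iff.mp
    (Nat.eq_one_of_dvd_coprimes hcop (orderOf_dvd_natCard y) h1)

theorem mem_of_pow_mem {y : H} {L : Subgroup H} (hcop : (Nat.card H).Coprime p) (h : y ^ p ∈ L) :
    y ∈ L := by
  obtain ⟨m, hm⟩ := exists_pow_eq_self_of_coprime
    (hcop.symm.coprime_dvd_right (orderOf_dvd_natCard y))
  rw [← hm]; exact pow_mem h m

/-- An invariant coset contains a fixed point. -/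
theorem exists_fixed_mul (hcop : (Nat.card H).Coprime p) (hx : x ^ p = 1) {N : Subgroup H}
    (hN : Inv x N) {h : H} (hh : h⁻¹ * x h ∈ N) : ∃ n ∈ N, x (h * n) = h * n := by
  classical
  haveI : Fintype N := Fintype.ofFinite N
  let f : N → N := fun n => ⟨h⁻¹ * x h * x n, N.mul_mem hh (hN n n.2)⟩
  have hinj : Function.Injective f := fun a b hab => by
    have := congrArg Subtype.val hab
    exact Subtype.ext (x.injective (mul_left_cancel this))
  let e : Equiv.Perm N := Equiv.ofBijective f (Finite.injective_iff_bijective.mp hinj)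
  have hiter : ∀ (i : ℕ) (n : N), (((e ^ i) n : N) : H) = h⁻¹ * (x ^ i) (h * (n : H)) := by
    intro i
    induction i with
    | zero => intro n; simp
    | succ i ih =>
      intro n
      rw [pow_succ', Equiv.Perm.mul_apply]
      show h⁻¹ * x h * x _ = _
      rw [ih, pow_succ_apply]
      simp [mul_assoc]
  have hep : e ^ p ^ 1 = 1 := Equiv.ext fun n => Subtype.ext (by
    rw [pow_one, hiter, hx]; simp)
  obtain ⟨n, hn⟩ := Equiv.Perm.exists_fixed_point_of_prime
    (α := N) (p := p) (n := 1) (by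
      rw [← Nat.card_eq_fintype_card]
      exact (hp.out.coprime_iff_not_dvd).mp
        (hcop.symm.coprime_dvd_right (card_subgroup_dvd_card N))) hep
  refine ⟨n, n.2, ?_⟩
  have := congrArg Subtype.val hn
  change h⁻¹ * x h * x (n : H) = n at this
  rw [mul_assoc, inv_mul_eq_iff_eq_mul, ← map_mul] at this
  exact this

theorem exists_fixed_joinComm (hcop : (Nat.card H).Coprime p) (hx : x ^ p = 1) {L : Subgroup H}
    (hL : Inv x L) {h : H} (hh : h ∈ L) :
    ∃ c d, c ∈ fixed x ∧ c ∈ L ∧ d ∈ joinComm x L ∧ h = c * d := by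
  have hd1 : h⁻¹ * x h ∈ joinComm x L := by
    have := dif_mem_joinComm (x := x) hh 1
    simpa [dif] using this
  obtain ⟨n, hn, hfix⟩ := exists_fixed_mul hcop hx (inv_joinComm L) hd1
  exact ⟨h * n, n⁻¹, hfix, L.mul_mem hh (joinComm_le hL hn), inv_mem hn, by group⟩

/-- `[L, x, x] = [L, x]`. -/
theorem joinComm_joinComm (hcop : (Nat.card H).Coprime p) (hx : x ^ p = 1) {L : Subgroup H}
    (hL : Inv x L) : joinComm x (joinComm x L) = joinComm x L := by
  refine le_antisymm (joinComm_le (inv_joinComm L)) (joinComm_le_iff.mpr fun h hh i => ?_)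
  obtain ⟨c, d, hc, -, hd, rfl⟩ := exists_fixed_joinComm hcop hx hL hh
  rw [dif_fixed_mul hc]
  exact dif_mem_joinComm hd i

/-- `[h, x]` lies in `[L, x]` as soon as it lies in `L`. -/
theorem comm_le_joinComm_of_le (hcop : (Nat.card H).Coprime p) (hx : x ^ p = 1)
    {L : Subgroup H} {h : H} (hle : comm x h ≤ L) : comm x h ≤ joinComm x L := by
  set D := joinComm x L
  set u := dif x h 1
  have hmem : ∀ i, dif x h i ∈ L := fun i => hle (dif_mem_comm h i)
  have hstep : ∀ i, (u ^ i)⁻¹ * dif x h i ∈ D := by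
    intro i
    induction i with
    | zero => simp [dif_zero]
    | succ i ih =>
      have hd : (dif x h i)⁻¹ * x (dif x h i) ∈ D := by
        have := dif_mem_joinComm (x := x) (hmem i) 1
        simpa [dif] using this
      have e : (u ^ (i + 1))⁻¹ * dif x h (i + 1) =
          (u ^ i)⁻¹ * dif x h i * ((dif x h i)⁻¹ * x (dif x h i)) := by
        rw [dif_succ, pow_succ', mul_inv_rev]; simp [u, mul_assoc]
      rw [e]; exact mul_mem ih hd
  have hu : u ∈ D := by
    refine mem_of_pow_mem hcop ?_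
    have := hstep p
    rwa [show dif x h p = 1 by simp [dif, hx], mul_one, inv_mem_iff] at this
  rw [comm, closure_le]
  rintro _ ⟨i, rfl⟩
  have := mul_mem (pow_mem hu i) (hstep i)
  simpa using this

/-- Under an abelian normal quotient, fixed points of `[H, x]` die. -/
theorem fixed_le_of_commutator_le (hcop : (Nat.card H).Coprime p) (hx : x ^ p = 1)
    (htop : joinComm x ⊤ = ⊤) {N : Subgroup H} [N.Normal] (hN : Inv x N)
    (hcomm : ∀ a b : H, a⁻¹ * b⁻¹ * a * b ∈ N) : fixed x ≤ N := by
  let q := QuotientGroup.mk' N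
  have hq : ∀ a b : H, q a * q b = q b * q a := fun a b => by
    rw [← map_mul, ← map_mul]
    exact QuotientGroup.eq.mpr (by simpa [mul_assoc] using hcomm b a)
  let φ : H →* H ⧸ N := MonoidHom.mk' (fun h => q (h⁻¹ * x h)) fun a b => by
    have hc' : ∀ u v : H ⧸ N, u * v = v * u := by
      intro u v
      obtain ⟨u, rfl⟩ := QuotientGroup.mk'_surjective N u
      obtain ⟨v, rfl⟩ := QuotientGroup.mk'_surjective N v
      exact hq u v
    simp only [map_mul, map_inv, mul_inv_rev]
    rw [hc' (q b)⁻¹ (q a)⁻¹, mul_assoc, mul_assoc, ← mul_assoc (q b)⁻¹ (q (x a)),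
      hc' (q b)⁻¹ (q (x a)), mul_assoc]
  have hS : joinComm x ⊤ ≤ φ.range.comap q := joinComm_le_iff.mpr fun h _ i => by
    induction i with
    | zero => rw [dif_zero]; exact one_mem _
    | succ i ih =>
      rw [dif_succ]
      refine mul_mem ⟨h, by simp [φ, dif]⟩ ?_
      obtain ⟨k, hk⟩ := ih
      refine ⟨x k, ?_⟩
      have h1 : q ((k⁻¹ * x k)⁻¹ * dif x h i) = 1 := by
        rw [map_mul q, map_inv q]; exact inv_mul_eq_one.mpr hk
      have h2 : q (x ((k⁻¹ * x k)⁻¹ * dif x h i)) = 1 :=
        (QuotientGroup.eq_one_iff _).mpr (hN _ ((QuotientGroup.eq_one_iff _).mp h1))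
      rw [map_mul x, map_inv x, map_mul x, map_inv x, map_mul q, map_inv q] at h2
      exact inv_mul_eq_one.mp h2
  intro c hc
  obtain ⟨h, hh⟩ := hS (show c ∈ joinComm x ⊤ by rw [htop]; exact mem_top c)
  change q (h⁻¹ * x h) = q c at hh
  replace hh := hh.symm
  set d := (h⁻¹ * x h)
  have hcd : ∀ i, q ((x ^ i) h) = q h * q c ^ i := by
    intro i
    induction i with
    | zero => simp
    | succ i ih =>
      have h1 : (x ^ i) h * (h * c ^ i)⁻¹ ∈ N := by
        have : q ((x ^ i) h * (h * c ^ i)⁻¹) = 1 := by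
          rw [map_mul, map_inv, map_mul q h, map_pow, ih, mul_inv_cancel]
        exact (QuotientGroup.eq_one_iff _).mp this
      have h2 : q (x ((x ^ i) h)) = q (x h) * q c ^ i := by
        have h3 : q (x ((x ^ i) h * (h * c ^ i)⁻¹)) = 1 :=
          (QuotientGroup.eq_one_iff _).mpr (hN _ h1)
        rw [map_mul x, map_inv x, map_mul x h, map_pow x, mem_fixed.mp hc, map_mul q, map_inv q,
          map_mul q (x h), map_pow q, mul_inv_eq_one] at h3
        exact h3
      rw [pow_succ_apply, h2, pow_succ', ← mul_assoc, hh]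
      congr 1
      simp [d, map_mul]
  have h1 := hcd p
  rw [hx, MulAut.one_apply, left_eq_mul, ← map_pow] at h1
  exact mem_of_pow_mem hcop ((QuotientGroup.eq_one_iff _).mp h1)

/-! ### Restriction and quotient -/

/-- The restriction of `x` to an invariant subgroup. -/
noncomputable def restr (x : MulAut H) {L : Subgroup H} (hL : Inv x L) : MulAut L :=
  MulEquiv.ofBijective (((x : H →* H).comp L.subtype).codRestrict L fun y => hL y y.2)
    (Finite.injective_iff_bijective.mp fun a b h => Subtype.ext (x.injective (congrArg Subtype.val h)))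

theorem coe_restr_pow {L : Subgroup H} (hL : Inv x L) (i : ℕ) (y : L) :
    (((restr x hL) ^ i) y : H) = (x ^ i) (y : H) := by
  induction i with
  | zero => simp
  | succ i ih => rw [pow_succ_apply, pow_succ_apply, ← ih]; rfl

theorem restr_pow_prime {L : Subgroup H} (hL : Inv x L) (hx : x ^ p = 1) :
    restr x hL ^ p = 1 := MulEquiv.ext fun y => Subtype.ext (by rw [coe_restr_pow, hx]; rfl)

theorem map_comm_restr {L : Subgroup H} (hL : Inv x L) (y : L) :
    (comm (restr x hL) y).map L.subtype = comm x (y : H) := by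
  rw [comm, comm, MonoidHom.map_closure, ← Set.range_comp]
  congr 1
  exact congrArg Set.range (funext fun i => by simp [dif, coe_restr_pow])

theorem joinComm_inf_fixed_le_of_restr {L : Subgroup H} (hL : Inv x L)
    (h : joinComm (restr x hL) ⊤ ⊓ fixed (restr x hL) ≤ fixGen (restr x hL)) :
    joinComm x L ⊓ fixed x ≤ fixGen x := by
  rintro d ⟨hd, hdf⟩
  have hdL := joinComm_le hL hd
  have hle : joinComm x L ≤ (joinComm (restr x hL) ⊤).map L.subtype :=
    iSup₂_le fun y hy => (map_comm_restr hL ⟨y, hy⟩).ge.trans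
      (Subgroup.map_mono (comm_le_joinComm (mem_top _)))
  obtain ⟨e, he, rfl⟩ := hle hd
  have he' : e ∈ fixGen (restr x hL) := h ⟨he, mem_fixed.mpr (Subtype.ext hdf)⟩
  have hle2 : fixGen (restr x hL) ≤ (fixGen x).comap L.subtype := iSup_le fun y z hz =>
    comm_inf_le_fixGen (y : H)
      ⟨(map_comm_restr hL y).le ⟨z, hz.1, rfl⟩, congrArg Subtype.val hz.2⟩
  exact hle2 he'

/-- The automorphism induced on a quotient by an invariant normal subgroup. -/
noncomputable def quot (x : MulAut H) {N : Subgroup H} [N.Normal] (hN : Inv x N) :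
    MulAut (H ⧸ N) :=
  QuotientGroup.congr N N x (eq_of_le_of_card_ge (by rintro _ ⟨y, hy, rfl⟩; exact hN y hy)
    (by rw [card_map_of_injective x.injective]))

theorem quot_pow_mk {N : Subgroup H} [N.Normal] (hN : Inv x N) (i : ℕ) (y : H) :
    ((quot x hN) ^ i) (QuotientGroup.mk' N y) = QuotientGroup.mk' N ((x ^ i) y) := by
  induction i with
  | zero => simp
  | succ i ih => rw [pow_succ_apply, pow_succ_apply, ih]; rfl

theorem fixed_le_of_quot (hcop : (Nat.card H).Coprime p) (hx : x ^ p = 1)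
    (htop : joinComm x ⊤ = ⊤) {N : Subgroup H} [N.Normal] (hN : Inv x N)
    (h : joinComm (quot x hN) ⊤ ⊓ fixed (quot x hN) ≤ fixGen (quot x hN)) :
    fixed x ≤ fixGen x ⊔ N := by
  intro c hc
  let q := QuotientGroup.mk' N
  have hd : ∀ y i, dif (quot x hN) (q y) i = q (dif x y i) := fun y i => by
    simp only [dif, q, quot_pow_mk hN i y, map_mul, map_inv]
  have hm : ∀ y, (comm x y).map q = comm (quot x hN) (q y) := fun y => by
    rw [comm, comm, MonoidHom.map_closure, ← Set.range_comp]
    congr 1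
    exact congrArg Set.range (funext fun i => (hd y i).symm)
  have h1 : q c ∈ joinComm (quot x hN) ⊤ := by
    have : joinComm x ⊤ ≤ (joinComm (quot x hN) ⊤).comap q := joinComm_le_iff.mpr fun y _ i => by
      show q (dif x y i) ∈ joinComm (quot x hN) ⊤
      rw [← hd]; exact dif_mem_joinComm (mem_top _) i
    exact this (by rw [htop]; exact mem_top c)
  have h2 : fixGen (quot x hN) ≤ (fixGen x).map q := by
    refine iSup_le fun y => ?_
    obtain ⟨y, rfl⟩ := QuotientGroup.mk'_surjective N y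
    rintro z ⟨hz, hzf⟩
    change z ∈ comm (quot x hN) (q y) at hz
    obtain ⟨w, hw, rfl⟩ := (hm y).ge hz
    have hwN : w⁻¹ * x w ∈ N ⊓ comm x y := by
      refine ⟨?_, (comm x y).mul_mem ((comm x y).inv_mem hw) (inv_comm y w hw)⟩
      have : q (w⁻¹ * x w) = 1 := by
        rw [map_mul, map_inv]
        exact inv_mul_eq_one.mpr hzf.symm
      exact (QuotientGroup.eq_one_iff _).mp this
    obtain ⟨n, hn, hfix⟩ := exists_fixed_mul hcop hx (hN.inf (inv_comm y)) hwN
    refine ⟨w * n, comm_inf_le_fixGen y ⟨mul_mem hw hn.2, hfix⟩, ?_⟩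
    rw [map_mul, show q n = 1 from (QuotientGroup.eq_one_iff _).mpr hn.1, mul_one]
  have h3 : c ∈ ((fixGen x).map q).comap q :=
    h2 (h ⟨h1, mem_fixed.mpr (congrArg q (mem_fixed.mp hc))⟩)
  rwa [comap_map_eq, QuotientGroup.ker_mk'] at h3

end Cfsg.Agent.FlavellFixed89
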