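import Cfsg.Agent.Lib.FlavellFixedMain89
import Cfsg.Agent.Lib.PGroupsBasic

/-!
The two cases of the induction, and Flavell's theorem.
-/

namespace Cfsg.Agent.FlavellFixed89

open Subgroup
open scoped commutatorElement Pointwise

universe u

variable {p : ℕ} [hp : Fact p.Prime] {H : Type u} [Group H] [Finite H] {x : MulAut H} {V : Subgroup H}

theorem mem_sup_split {A B : Subgroup H} (h : A ≤ normalizer (B : Set H)) {g : H} (hg : g ∈ A ⊔ B) :
    ∃ a ∈ A, ∃ b ∈ B, a * b = g := by
  rw [← SetLike.mem_coe, coe_mul_of_left_le_normalizer_right A B h] at hg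
  obtain ⟨a, ha, b, hb, hab⟩ := hg
  exact ⟨a, ha, b, hb, hab⟩

theorem le_normalizer_of_conj_le {A B : Subgroup H} (h : ∀ a ∈ A, ∀ b ∈ B, a * b * a⁻¹ ∈ B) :
    A ≤ normalizer (B : Set H) := fun a ha => mem_normalizer_iff.mpr fun b =>
  ⟨h a ha b, fun hb => by simpa [mul_assoc] using h a⁻¹ (A.inv_mem ha) _ hb⟩

theorem le_normalizer_joinComm (L : Subgroup H) : L ≤ normalizer (joinComm x L : Set H) :=
  le_normalizer_of_conj_le fun _ ha _ hb => conj_mem_joinComm ha hb

theorem Setup.central_facts (s : Setup (p := p) x V) (hVc : V ≤ center H)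
    (hgoal : ¬ fixed x ≤ fixGen x) : V ≤ fixed x ∧ V ⊓ fixGen x = ⊥ := by
  have hcl : ∀ Z : Subgroup H, Z ≤ V → Inv x Z → Z = ⊥ ∨ Z = V := fun Z hle hinv =>
    s.min Z (PGroupsBasic.normal_of_le_center (hle.trans hVc)) hinv hle
  have hVfix : V ≤ fixed x := by
    rcases hcl (V ⊓ fixed x) inf_le_left
      (fun y hy => by rw [mem_fixed.mp hy.2]; exact hy) with h0 | h0
    · exact absurd (s.fixed_le (h0.le.trans bot_le)) hgoal
    · exact h0.ge.trans inf_le_right
  refine ⟨hVfix, ?_⟩
  rcases hcl (V ⊓ fixGen x) inf_le_left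
    (fun y hy => by rw [mem_fixed.mp (hVfix hy.1)]; exact hy) with h0 | h0
  · exact h0
  · exact absurd (s.fixed_le (inf_le_left.trans (h0.ge.trans inf_le_right))) hgoal

theorem commutatorElement_center_mul {v w : H} (hv : v ∈ center H) (hw : w ∈ center H) (a b : H) :
    ⁅v * a, w * b⁆ = ⁅a, b⁆ := by
  have hvc := mem_center_iff.mp hv
  have hwc := mem_center_iff.mp hw
  have hvi := mem_center_iff.mp (inv_mem hv)
  simp only [commutatorElement_def, mul_inv_rev]
  calc v * a * (w * b) * (a⁻¹ * v⁻¹) * (b⁻¹ * w⁻¹)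
      = v * (a * w) * b * a⁻¹ * (v⁻¹ * b⁻¹) * w⁻¹ := by group
    _ = v * (w * a) * b * a⁻¹ * (b⁻¹ * v⁻¹) * w⁻¹ := by rw [hwc a, ← hvi b⁻¹]
    _ = (v * (w * (a * b * a⁻¹ * b⁻¹))) * v⁻¹ * w⁻¹ := by group
    _ = ((w * (a * b * a⁻¹ * b⁻¹)) * v) * v⁻¹ * w⁻¹ := by rw [hvc]
    _ = ((a * b * a⁻¹ * b⁻¹) * w) * w⁻¹ := by rw [mul_inv_cancel_right, ← hwc]
    _ = _ := by rw [mul_inv_cancel_right]

theorem inv_commutator_group : Inv x (_root_.commutator H) := by
  rw [_root_.commutator_def]
  exact inv_commutator inv_top inv_top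

/-- A central invariant subgroup gives a minimal one with the same hypotheses. -/
theorem Setup.exists_central (s : Setup (p := p) x V) {Z : Subgroup H} (hZc : Z ≤ center H)
    (hZi : Inv x Z) (hZ : Z ≠ ⊥) : ∃ W : Subgroup H, W ≤ Z ∧ Setup (p := p) x W := by
  obtain ⟨W, hW, hmin⟩ := Set.Finite.exists_minimal
    (Set.toFinite {N : Subgroup H | N ≤ Z ∧ Inv x N ∧ N ≠ ⊥}) ⟨Z, le_rfl, hZi, hZ⟩
  obtain ⟨hWZ, hWi, hW1⟩ := hW
  exact ⟨W, hWZ,
    { s with
      normal := PGroupsBasic.normal_of_le_center (hWZ.trans hZc)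
      invar := hWi
      ne_bot := hW1
      abel := fun a _ b hb => mem_center_iff.mp (hZc (hWZ hb)) a
      min := fun N _ hNi hle => or_iff_not_imp_left.mpr fun h1 =>
        le_antisymm hle (hmin ⟨hle.trans hWZ, hNi, h1⟩ hle) }⟩

/-- A central minimal subgroup: the fixed points lie in `fixGen x`. -/
theorem Setup.central_case (s : Setup (p := p) x V) (hp2 : p ≠ 2) (hVc : V ≤ center H) :
    fixed x ≤ fixGen x := by
  classical
  haveI := s.normal
  by_contra hgoal
  obtain ⟨hVfix, hVK⟩ := s.central_facts hVc hgoal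
  have hcl : ∀ Z : Subgroup H, Z ≤ V → Inv x Z → Z = ⊥ ∨ Z = V := fun Z hle hinv =>
    s.min Z (PGroupsBasic.normal_of_le_center (hle.trans hVc)) hinv hle
  have hsel : ∀ Z : Subgroup H, Z ≤ center H → Inv x Z → Z ≠ ⊤ → Z ≤ V := by
    intro Z hZc hZi hZt
    have hJ : joinComm x Z = ⊥ := by
      by_contra hJ
      obtain ⟨W, hWJ, sW⟩ := s.exists_central ((joinComm_le hZi).trans hZc) (inv_joinComm Z) hJ
      obtain ⟨hWf, hWK⟩ := sW.central_facts (hWJ.trans ((joinComm_le hZi).trans hZc)) hgoal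
      exact sW.ne_bot (eq_bot_iff.mpr (hWK ▸ le_inf le_rfl
        ((le_inf hWJ hWf).trans (s.sub_le Z hZi hZt))))
    intro z hz
    have hzf : z ∈ fixed x := by
      have := dif_mem_joinComm (x := x) hz 1
      rw [hJ, Subgroup.mem_bot, dif, pow_one, inv_mul_eq_one] at this
      exact this.symm
    obtain ⟨k, v, hk, hv, rfl⟩ := s.decomp hzf
    have hkc : k ∈ center H := by
      have := (center H).mul_mem (hZc hz) ((center H).inv_mem (hVc hv.1))
      rwa [mul_inv_cancel_right] at this
    suffices k = 1 by rw [this, one_mul]; exact hv.1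
    by_contra hk1
    obtain ⟨W, hWk, sW⟩ := s.exists_central (Z := zpowers k) (zpowers_le.mpr hkc)
      (fun y hy => by
        rw [mem_fixed.mp (fixGen_le_fixed ((zpowers_le.mpr hk) hy))]; exact hy)
      (by simpa using hk1)
    obtain ⟨-, hWK⟩ := sW.central_facts (hWk.trans (zpowers_le.mpr hkc)) hgoal
    exact sW.ne_bot (eq_bot_iff.mpr (hWK ▸ le_inf le_rfl (hWk.trans (zpowers_le.mpr hk))))
  have hproper : ∀ L : Subgroup H, Inv x L → L ≠ ⊤ → joinComm x L ⊓ V = ⊥ := fun L hL hne =>
    eq_bot_iff.mpr (hVK ▸ le_inf inf_le_right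
      ((le_inf inf_le_left (inf_le_right.trans hVfix)).trans (s.sub_le L hL hne)))
  have hWV : ∀ h : H, comm x h ⊓ V = ⊥ := fun h =>
    eq_bot_iff.mpr (hVK ▸ le_inf inf_le_right
      ((le_inf inf_le_left (inf_le_right.trans hVfix)).trans (comm_inf_le_fixGen h)))
  have hVcomm : V ≤ commutator H := hVfix.trans (fixed_le_of_commutator_le s.cop s.pow s.gen
    (N := commutator H) inv_commutator_group
    (fun a b => by
      have := commutator_mem_commutator (mem_top a⁻¹) (mem_top b⁻¹)
      simpa [_root_.commutator_def, commutatorElement_def] using this))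
  -- proper invariant subgroups split over `V`
  have hsplit : ∀ L : Subgroup H, Inv x L → L ≠ ⊤ → V ≤ L →
      ∃ L₀ : Subgroup H, L₀ ≤ L ∧ L₀ ⊓ V = ⊥ ∧ L ≤ L₀ ⊔ V ∧ L ≤ normalizer (L₀ : Set H) := by
    intro L hL hne hVL
    let L₀ := (fixGen x ⊓ L) ⊔ joinComm x L
    have hL₀le : L₀ ≤ L := sup_le inf_le_right (joinComm_le hL)
    have hLsup : L ≤ L₀ ⊔ V := by
      intro l hl
      obtain ⟨c, d, hc, hcL, hd, rfl⟩ := exists_fixed_joinComm s.cop s.pow hL hl
      obtain ⟨k, v, hk, hv, rfl⟩ := s.decomp hc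
      have hkL : k ∈ L := by
        have := L.mul_mem hcL (L.inv_mem (hVL hv.1))
        rwa [mul_inv_cancel_right] at this
      exact mul_mem (mul_mem (mem_sup_left (mem_sup_left ⟨hk, hkL⟩)) (mem_sup_right hv.1))
        (mem_sup_left (mem_sup_right hd))
    refine ⟨L₀, hL₀le, eq_bot_iff.mpr ?_, hLsup, hLsup.trans (sup_le le_normalizer ?_)⟩
    · rintro v ⟨hv, hvV⟩
      obtain ⟨k, hk, d, hd, hkd⟩ := mem_sup_split (inf_le_right.trans (le_normalizer_joinComm L)) hv
      have hdf : d ∈ fixed x := by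
        have := (fixed x).mul_mem ((fixed x).inv_mem (fixGen_le_fixed hk.1)) (hVfix hvV)
        rwa [← hkd, inv_mul_cancel_left] at this
      rw [← hVK]
      exact ⟨hvV, hkd ▸ mul_mem hk.1 (s.sub_le L hL hne ⟨hd, hdf⟩)⟩
    · refine le_normalizer_of_conj_le fun v hv b hb => ?_
      rw [← (mem_center_iff.mp (hVc hv) b), mul_inv_cancel_right]
      exact hb
  have habel : ∀ L : Subgroup H, Inv x L → L ≠ ⊤ → V ≤ L → ∀ a ∈ L, ∀ b ∈ L, ⁅a, b⁆ ∈ V →
      ⁅a, b⁆ = 1 := by
    intro L hL hne hVL a ha b hb hab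
    obtain ⟨L₀, -, hL₀V, hsup, hnorm⟩ := hsplit L hL hne hVL
    have hV' : V ≤ normalizer (L₀ : Set H) := hVL.trans hnorm
    obtain ⟨v, hv, a', ha', rfl⟩ := mem_sup_split hV' (sup_comm L₀ V ▸ hsup ha)
    obtain ⟨w, hw, b', hb', rfl⟩ := mem_sup_split hV' (sup_comm L₀ V ▸ hsup hb)
    refine Subgroup.mem_bot.mp (hL₀V ▸ ⟨?_, hab⟩)
    have hvc := mem_center_iff.mp (hVc hv)
    have hwc := mem_center_iff.mp (hVc hw)
    have : ⁅v * a', w * b'⁆ = ⁅a', b'⁆ := commutatorElement_center_mul (hVc hv) (hVc hw) a' b'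
    rw [this, commutatorElement_def]
    exact L₀.mul_mem (L₀.mul_mem (L₀.mul_mem ha' hb') (L₀.inv_mem ha')) (L₀.inv_mem hb')
  -- `V` has prime order `r`
  obtain ⟨r, hr, hrV⟩ : ∃ r : ℕ, r.Prime ∧ Nat.card V = r := by
    have h1 : 1 < Nat.card V := (one_lt_card_iff_ne_bot V).mpr s.ne_bot
    obtain ⟨r, hr, hrd⟩ := Nat.exists_prime_and_dvd h1.ne'
    haveI := Fact.mk hr
    obtain ⟨g, hg⟩ := exists_prime_orderOf_dvd_card' (G := V) r hrd
    refine ⟨r, hr, ?_⟩
    have hle : zpowers (g : H) ≤ V := zpowers_le.mpr g.2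
    rcases hcl (zpowers (g : H)) hle (fun y hy => by rw [mem_fixed.mp (hVfix (hle hy))]; exact hy)
      with h0 | h0
    · rw [zpowers_eq_bot, OneMemClass.coe_eq_one] at h0
      rw [h0, orderOf_one] at hg
      exact absurd hg.symm hr.ne_one
    · rw [← h0, Nat.card_zpowers, Subgroup.orderOf_coe, hg]
  haveI := Fact.mk hr
  -- an invariant Sylow `r`-subgroup
  obtain ⟨R, hRinv⟩ : ∃ R : Sylow r H, Inv x (R : Subgroup H) := by
    classical
    haveI : Fintype (Sylow r H) := Fintype.ofFinite _
    let e : Equiv.Perm (Sylow r H) := MulAction.toPermHom (MulAut H) (Sylow r H) x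
    have he : e ^ p ^ 1 = 1 := by
      rw [pow_one, ← map_pow, s.pow, map_one]
    obtain ⟨R, hR⟩ := Equiv.Perm.exists_fixed_point_of_prime (α := Sylow r H) (p := p) (n := 1) (by
      rw [← Nat.card_eq_fintype_card]
      exact (hp.out.coprime_iff_not_dvd).mp (s.cop.symm.coprime_dvd_right
        ((default : Sylow r H).card_dvd_index.trans (Subgroup.index_dvd_card _)))) he
    refine ⟨R, fun y hy => ?_⟩
    have h1 : x • (R : Subgroup H) = R := congrArg Sylow.toSubgroup hR
    rw [← h1]
    exact smul_mem_pointwise_smul y x _ hy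
  have hVR : V ≤ (R : Subgroup H) := by
    have hVr : IsPGroup r V := IsPGroup.of_card (n := 1) (by rw [hrV, pow_one])
    exact (R.3 (R.2.to_sup_of_normal_right hVr) le_sup_left).le.trans' le_sup_right
  by_cases hRtop : (R : Subgroup H) ≠ ⊤
  · -- transfer
    obtain ⟨L₀, hL₀R, hL₀V, hsup, hnorm⟩ := hsplit R hRinv hRtop hVR
    haveI : (L₀.subgroupOf (R : Subgroup H)).Normal := (normal_subgroupOf_iff_le_normalizer hL₀R).mpr hnorm
    let A := (R : Subgroup H) ⧸ L₀.subgroupOf (R : Subgroup H)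
    have hrep : ∀ a : A, ∃ v : V, a = QuotientGroup.mk (⟨v, hVR v.2⟩ : (R : Subgroup H)) := by
      intro a
      obtain ⟨l, rfl⟩ := QuotientGroup.mk_surjective a
      obtain ⟨v, hv, d, hd, hvd⟩ := mem_sup_split (hVR.trans hnorm) (sup_comm L₀ V ▸ hsup l.2)
      refine ⟨⟨v, hv⟩, (QuotientGroup.eq.mpr ?_).symm⟩
      show v⁻¹ * (l : H) ∈ L₀
      rw [← hvd, inv_mul_cancel_left]; exact hd
    letI : CommGroup A := { (inferInstance : Group A) with
      mul_comm := fun a b => by
        obtain ⟨v, rfl⟩ := hrep a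
        obtain ⟨w, rfl⟩ := hrep b
        exact congrArg QuotientGroup.mk (Subtype.ext (s.abel v v.2 w w.2)) }
    let φ : (R : Subgroup H) →* A := QuotientGroup.mk' _
    obtain ⟨v, hv, hv1⟩ : ∃ v ∈ V, v ≠ 1 := by
      simpa [Subgroup.eq_bot_iff_forall] using s.ne_bot
    have hkey : ∀ (k : ℕ) (g₀ : H), g₀⁻¹ * v ^ k * g₀ ∈ (R : Subgroup H) →
        g₀⁻¹ * v ^ k * g₀ = v ^ k := fun k g₀ _ => by
      rw [mul_assoc, ← mem_center_iff.mp (hVc (pow_mem hv k)) g₀, inv_mul_cancel_left]
    have h1 : MonoidHom.transfer φ v = 1 :=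
      (Abelianization.commutator_subset_ker (MonoidHom.transfer φ)) (hVcomm hv)
    rw [MonoidHom.transfer_eq_pow φ v hkey, ← MonoidHom.mem_ker, QuotientGroup.ker_mk',
      mem_subgroupOf] at h1
    have h2 : v ^ (R : Subgroup H).index = 1 :=
      Subgroup.mem_bot.mp (hL₀V ▸ ⟨h1, pow_mem hv _⟩)
    have h3 : orderOf v ∣ r := hrV ▸ V.orderOf_dvd_natCard hv
    rcases (Nat.dvd_prime hr).mp h3 with h4 | h4
    · exact hv1 (orderOf_eq_one_iff.mp h4)
    · have h5 : orderOf v ∣ (R : Subgroup H).index := orderOf_dvd_of_pow_eq_one h2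
      rw [h4] at h5
      exact R.not_dvd_index h5
  push Not at hRtop
  -- `H` is an `r`-group
  have hrH : IsPGroup r H := by
    have := R.2
    rw [hRtop] at this
    exact this.of_equiv topEquiv
  haveI : Group.IsNilpotent H := hrH.isNilpotent
  have hex : ∃ n, (⊤ : Subgroup H).lowerCentralSeries n = ⊥ :=
    Subgroup.nilpotent_iff_lowerCentralSeries.mp inferInstance
  set Γ := fun n => (⊤ : Subgroup H).lowerCentralSeries n with hΓ
  have hne : Nat.find hex ≠ 0 := fun h0 => by
    have := Nat.find_spec hex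
    rw [h0, Subgroup.lowerCentralSeries_zero] at this
    exact s.ne_bot (eq_bot_iff.mpr (this ▸ le_top))
  obtain ⟨m, hm⟩ := Nat.exists_eq_succ_of_ne_zero hne
  have hm1 : Γ (m + 1) = ⊥ := by rw [show m + 1 = Nat.find hex from hm.symm]; exact Nat.find_spec hex
  have hm0 : Γ m ≠ ⊥ := Nat.find_min hex (by omega)
  have hinvΓ : ∀ k, Inv x (Γ k) := fun k => by
    induction k with
    | zero => intro y _; simp [hΓ, Subgroup.lowerCentralSeries_zero]
    | succ k ih =>
      show Inv x ((⊤ : Subgroup H).lowerCentralSeries (k + 1))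
      rw [Subgroup.lowerCentralSeries_succ]
      exact inv_commutator ih inv_top
  have hmc : Γ m ≤ center H := fun a ha => mem_center_iff.mpr fun b => by
    have : ⁅a, b⁆ ∈ Γ (m + 1) := by
      show _ ∈ (⊤ : Subgroup H).lowerCentralSeries (m + 1)
      rw [Subgroup.lowerCentralSeries_succ]
      exact commutator_mem_commutator ha (mem_top b)
    rw [hm1, Subgroup.mem_bot, commutatorElement_eq_one_iff_mul_comm] at this
    exact this.symm
  have hmt : Γ m ≠ ⊤ := fun htop => by
    refine s.ne_bot (eq_bot_iff.mpr (hVcomm.trans ?_))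
    rw [_root_.commutator_def]
    refine commutator_le.mpr fun a _ b _ => Subgroup.mem_bot.mpr ?_
    exact commutatorElement_eq_one_iff_mul_comm.mpr
      (mem_center_iff.mp (hmc (htop ▸ mem_top b)) a)
  have hmV : Γ m ≤ V := hsel _ hmc (hinvΓ m) hmt
  have hcomm_le : commutator H ≤ Γ 1 := by
    rw [_root_.commutator_def]
    exact le_of_eq (by simp [hΓ, Subgroup.lowerCentralSeries_succ, Subgroup.lowerCentralSeries_zero])
  rcases m with _ | _ | j
  · exact hgoal (fun c _ => absurd (hmV.trans hVc) (by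
      intro htop
      have : commutator H = ⊥ := eq_bot_iff.mpr (hcomm_le.trans (hm1.le))
      exact s.ne_bot (eq_bot_iff.mpr (this ▸ hVcomm))))
  · -- class two: `[u, x u] = 1`
    have hcc : ∀ a b : H, ⁅a, b⁆ ∈ center H := fun a b =>
      hVc (hmV (hcomm_le (commutator_mem_commutator (mem_top a) (mem_top b))))
    have hgen : ∀ g : H, ∃ h : H, (dif x h 1)⁻¹ * g ∈ V := by
      have hq : ∀ a b : H, a⁻¹ * b⁻¹ * a * b ∈ V := fun a b => by
        have := hmV (hcomm_le (commutator_mem_commutator (mem_top a⁻¹) (mem_top b⁻¹)))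
        simpa [commutatorElement_def] using this
      let q := QuotientGroup.mk' V
      let φ : H →* H ⧸ V := MonoidHom.mk' (fun h => q (dif x h 1)) fun a b => by
        have := dif_conj (x := x) b a 1
        rw [eq_mul_inv_iff_mul_eq] at this
        rw [← this, map_mul, map_mul, map_mul, map_inv]
        congr 1
        rw [mul_assoc, inv_mul_eq_iff_eq_mul, ← map_mul, ← map_mul]
        exact QuotientGroup.eq.mpr (by simpa [mul_assoc] using hq b (dif x a 1))
      intro g
      have hS : joinComm x ⊤ ≤ φ.range.comap q := joinComm_le_iff.mpr fun h _ i => by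
        induction i with
        | zero => rw [dif_zero]; exact one_mem _
        | succ i ih =>
          rw [dif_succ]
          refine mul_mem ⟨h, rfl⟩ ?_
          obtain ⟨k, hk⟩ := ih
          refine ⟨x k, ?_⟩
          show q (dif x (x k) 1) = q (x (dif x h i))
          have h1 : (dif x k 1)⁻¹ * dif x h i ∈ V := QuotientGroup.eq.mp hk
          rw [← dif_map]
          refine QuotientGroup.eq.mpr ?_
          rw [← map_inv, ← map_mul]
          exact s.invar _ h1
      obtain ⟨h, hh⟩ := hS (show g ∈ joinComm x ⊤ by rw [s.gen]; exact mem_top g)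
      exact ⟨h, QuotientGroup.eq.mp hh⟩
    have hgx : ∀ g : H, ⁅g, x g⁆ = 1 := by
      intro g
      obtain ⟨h, hh⟩ := hgen g
      set u := dif x h 1
      set v := u⁻¹ * g with hv
      have hg : g = u * v := by rw [hv, mul_inv_cancel_left]
      have hvc := mem_center_iff.mp (hVc hh)
      have hu : ⁅u, x u⁆ = 1 := by
        refine Subgroup.mem_bot.mp (hWV h ▸ ⟨?_, hmV (hcomm_le (commutator_mem_commutator
          (mem_top u) (mem_top _)))⟩)
        have h1 : u ∈ comm x h := dif_mem_comm h 1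
        have h2 : x u ∈ comm x h := inv_comm h u h1
        rw [commutatorElement_def]
        exact (comm x h).mul_mem ((comm x h).mul_mem ((comm x h).mul_mem h1 h2)
          ((comm x h).inv_mem h1)) ((comm x h).inv_mem h2)
      rw [hg, hvc u, map_mul, mem_fixed.mp (hVfix hh), commutatorElement_center_mul (hVc hh) (hVc hh)]
      exact hu
    have hfixc : ∀ a b : H, ⁅x a, x b⁆ = ⁅a, b⁆ := fun a b => by
      rw [← map_commutatorElement]
      exact hVfix (hmV (hcomm_le (commutator_mem_commutator (mem_top a) (mem_top b))))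
    have hsq : ∀ a : H, a⁻¹ * x (x a) ∈ center H := by
      intro a
      refine mem_center_iff.mpr fun c => ?_
      obtain ⟨b, rfl⟩ := x.surjective c
      have h1 := hgx (a * b)
      rw [map_mul, PGroupsBasic.commutatorElement_mul_left_of_central (hcc _ _),
        PGroupsBasic.commutatorElement_mul_right_of_central (hcc _ _),
        PGroupsBasic.commutatorElement_mul_right_of_central (hcc _ _), hgx, hgx, one_mul, mul_one,
        ← commutatorElement_inv (x a) b, mul_inv_eq_one, ← hfixc (x a) b] at h1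
      refine (commutatorElement_eq_one_iff_mul_comm.mp ?_).symm
      rw [PGroupsBasic.commutatorElement_mul_left_of_central (hcc _ _),
        PGroupsBasic.commutatorElement_inv_left_of_central (hcc _ _), h1, inv_mul_cancel]
    have hpow2 : ∀ (j : ℕ) (a : H), a⁻¹ * (x ^ (2 * j)) a ∈ center H := by
      intro j
      induction j with
      | zero => intro a; simp
      | succ j ih =>
        intro a
        rw [mul_add, mul_one, pow_succ_apply, pow_succ_apply]
        have := mul_mem (ih a) (hsq ((x ^ (2 * j)) a))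
        rwa [mul_assoc, mul_inv_cancel_left] at this
    obtain ⟨j, hj⟩ := (hp.out.odd_of_ne_two hp2).add_one
    have hc : joinComm x ⊤ ≤ center H := joinComm_le_iff.mpr fun h _ i => by
      induction i with
      | zero => rw [dif_zero]; exact one_mem _
      | succ i ih =>
        rw [dif_succ]
        refine mul_mem ?_ ((characteristic_iff_map_le.mp inferInstance x) ⟨_, ih, rfl⟩)
        have := hpow2 j h
        rw [two_mul, ← hj, pow_succ, s.pow, one_mul] at this
        rwa [dif, pow_one]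
    refine hm0 (eq_bot_iff.mpr ?_)
    have habH : commutator H = ⊥ := by
      rw [_root_.commutator_def, eq_bot_iff]
      refine commutator_le.mpr fun a _ b _ => Subgroup.mem_bot.mpr ?_
      exact commutatorElement_eq_one_iff_mul_comm.mpr
        (mem_center_iff.mp (hc (show b ∈ joinComm x ⊤ by rw [s.gen]; exact mem_top b)) a)
    rw [← habH, _root_.commutator_def]
    exact le_of_eq (by simp [hΓ, Subgroup.lowerCentralSeries_succ, Subgroup.lowerCentralSeries_zero])
  · -- class at least three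
    refine hm0 (eq_bot_iff.mpr ?_)
    show (⊤ : Subgroup H).lowerCentralSeries (j + 1 + 1) ≤ ⊥
    rw [Subgroup.lowerCentralSeries_succ]
    refine commutator_le.mpr fun a ha b _ => Subgroup.mem_bot.mpr ?_
    have haH : a ∈ commutator H := by
      have := (Subgroup.lowerCentralSeries_antitone (⊤ : Subgroup H)) (show 1 ≤ j + 1 by omega) ha
      rw [_root_.commutator_def]
      simpa [Subgroup.lowerCentralSeries_succ, Subgroup.lowerCentralSeries_zero] using this
    let C : Subgroup H := centralizer ({a} : Set H)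
    have hC : joinComm x ⊤ ≤ C := joinComm_le_iff.mpr fun h _ i => by
      let L := commutator H ⊔ comm x h
      have hLinv : Inv x L := inv_commutator_group.sup (inv_comm h)
      have hLne : L ≠ ⊤ := by
        intro htop
        by_cases hW : comm x h = ⊤
        · have := hWV h
          rw [hW, top_inf_eq] at this
          exact s.ne_bot this
        · obtain ⟨M, hM, hle⟩ := PGroupsBasic.exists_isCoatom_ge hW
          exact hM.1 (eq_top_iff.mpr (htop.ge.trans (sup_le
            ((PGroupsBasic.commutator_le_frattini hrH).trans (frattini_le_coatom hM)) hle)))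
      refine mem_centralizer_singleton_iff.mpr ?_
      have h1 : ⁅a, dif x h i⁆ = 1 := habel L hLinv hLne (hVcomm.trans le_sup_left) a
        (mem_sup_left haH) _ (mem_sup_right (dif_mem_comm h i)) (hmV (by
          show _ ∈ (⊤ : Subgroup H).lowerCentralSeries (j + 1 + 1)
          rw [Subgroup.lowerCentralSeries_succ]
          exact commutator_mem_commutator ha (mem_top _)))
      exact (commutatorElement_eq_one_iff_mul_comm.mp h1).symm
    exact commutatorElement_eq_one_iff_mul_comm.mpr
      (mem_centralizer_singleton_iff.mp (hC (show b ∈ joinComm x ⊤ by rw [s.gen]; exact mem_top b))).symm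

end Cfsg.Agent.FlavellFixed89
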