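import Cfsg.Agent.Lib.FlavellFixedBase89

/-!
Flavell: for `p` odd, the fixed points of `x` in `[H, x]` are generated by those in the `[h, x]`.
-/

namespace Cfsg.Agent.FlavellFixed89

open Subgroup
open scoped commutatorElement

universe u

variable {p : ℕ} [hp : Fact p.Prime] {H : Type u} [Group H] {x : MulAut H}

theorem mem_of_conj {N : Subgroup H} (hN : N.Normal) (g : H) {v : H} (hv : v ∈ N) :
    g * v * g⁻¹ ∈ N := hN.conj_mem v hv g

theorem inv_commutator {A B : Subgroup H} (hA : Inv x A) (hB : Inv x B) : Inv x ⁅A, B⁆ := by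
  show ⁅A, B⁆ ≤ (⁅A, B⁆).comap (x : H →* H)
  refine commutator_le.mpr fun a ha b hb => ?_
  show x ⁅a, b⁆ ∈ ⁅A, B⁆
  rw [map_commutatorElement]
  exact commutator_mem_commutator (hA a ha) (hB b hb)

theorem normal_of_conj_mem {N : Subgroup H} (h : ∀ g : H, ∀ v ∈ N, g * v * g⁻¹ ∈ N) : N.Normal :=
  ⟨fun v hv g => h g v hv⟩

/-- An invariant subgroup `≠ ⊥` of a solvable group has an abelian invariant subgroup `≠ ⊥`
that it normalises. -/
theorem exists_abelian (hsol : Group.IsSolvable H) {L : Subgroup H} (hL : Inv x L) (hL1 : L ≠ ⊥) :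
    ∃ N : Subgroup H, N ≤ L ∧ N ≠ ⊥ ∧ Inv x N ∧ (∀ a ∈ N, ∀ b ∈ N, a * b = b * a) ∧
      ∀ g ∈ L, ∀ v ∈ N, g * v * g⁻¹ ∈ N := by
  classical
  let D : ℕ → Subgroup H := fun n => Nat.rec L (fun _ K => ⁅K, K⁆) n
  have hD0 : D 0 = L := rfl
  have hDs : ∀ n, D (n + 1) = ⁅D n, D n⁆ := fun _ => rfl
  have hDle : ∀ n, D n ≤ derivedSeries H n := fun n => by
    induction n with
    | zero => rw [derivedSeries_zero]; exact le_top
    | succ n ih => rw [hDs, derivedSeries_succ]; exact commutator_mono ih ih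
  have hDinv : ∀ n, Inv x (D n) := fun n => by
    induction n with
    | zero => exact hL
    | succ n ih => rw [hDs]; exact inv_commutator ih ih
  have hDnorm : ∀ n, D n ≤ L ∧ ∀ g ∈ L, ∀ v ∈ D n, g * v * g⁻¹ ∈ D n := fun n => by
    induction n with
    | zero => exact ⟨le_rfl, fun g hg v hv => L.mul_mem (L.mul_mem hg hv) (L.inv_mem hg)⟩
    | succ n ih =>
      rw [hDs]
      refine ⟨commutator_le.mpr fun a ha b hb => ?_, fun g hg v hv => ?_⟩
      · rw [commutatorElement_def]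
        exact L.mul_mem (L.mul_mem (L.mul_mem (ih.1 ha) (ih.1 hb)) (L.inv_mem (ih.1 ha)))
          (L.inv_mem (ih.1 hb))
      · have : ⁅D n, D n⁆ ≤ (⁅D n, D n⁆).comap (MulAut.conj g).toMonoidHom := by
          refine commutator_le.mpr fun a ha b hb => ?_
          show (MulAut.conj g).toMonoidHom ⁅a, b⁆ ∈ ⁅D n, D n⁆
          rw [map_commutatorElement]
          exact commutator_mem_commutator (ih.2 g hg a ha) (ih.2 g hg b hb)
        exact this hv
  obtain ⟨k, hk⟩ := (Group.isSolvable_def H).mp hsol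
  have hex : ∃ n, D n = ⊥ := ⟨k, eq_bot_iff.mpr (hk ▸ hDle k)⟩
  obtain ⟨m, hm⟩ := Nat.exists_eq_succ_of_ne_zero (n := Nat.find hex) fun h0 =>
    hL1 (by rw [← hD0, ← h0]; exact Nat.find_spec hex)
  have hcomm : ⁅D m, D m⁆ = ⊥ := by
    rw [← hDs, show m + 1 = Nat.find hex from hm.symm]; exact Nat.find_spec hex
  exact ⟨D m, (hDnorm m).1, Nat.find_min hex (by omega), hDinv m,
    fun a ha b hb => commutatorElement_eq_one_iff_mul_comm.mp
      (Subgroup.mem_bot.mp (hcomm ▸ commutator_mem_commutator ha hb)), (hDnorm m).2⟩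

/-- The hypotheses of the induction. -/
structure Setup (x : MulAut H) (V : Subgroup H) : Prop where
  cop : (Nat.card H).Coprime p
  pow : x ^ p = 1
  gen : joinComm x ⊤ = ⊤
  sol : Group.IsSolvable H
  sub_le : ∀ L : Subgroup H, Inv x L → L ≠ ⊤ → joinComm x L ⊓ fixed x ≤ fixGen x
  quot_le : ∀ N : Subgroup H, N.Normal → Inv x N → N ≠ ⊥ → fixed x ≤ fixGen x ⊔ N
  normal : V.Normal
  invar : Inv x V
  ne_bot : V ≠ ⊥
  abel : ∀ a ∈ V, ∀ b ∈ V, a * b = b * a
  min : ∀ N : Subgroup H, N.Normal → Inv x N → N ≤ V → N = ⊥ ∨ N = V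

variable {V : Subgroup H}

theorem Setup.decomp (s : Setup (p := p) x V) {c : H} (hc : c ∈ fixed x) :
    ∃ k v, k ∈ fixGen x ∧ v ∈ V ⊓ fixed x ∧ c = k * v := by
  haveI := s.normal
  obtain ⟨k, hk, v, hv, rfl⟩ :=
    mem_sup_of_normal_right.mp (s.quot_le V s.normal s.invar s.ne_bot hc)
  refine ⟨k, v, hk, ⟨hv, ?_⟩, rfl⟩
  have := (fixed x).mul_mem ((fixed x).inv_mem (fixGen_le_fixed hk)) hc
  rwa [inv_mul_cancel_left] at this

theorem Setup.fixed_le (s : Setup (p := p) x V) (h : V ⊓ fixed x ≤ fixGen x) :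
    fixed x ≤ fixGen x := fun c hc => by
  obtain ⟨k, v, hk, hv, rfl⟩ := s.decomp hc
  exact mul_mem hk (h hv)

variable [Finite H]

theorem ring_step {R : Type*} [Ring R] {A : R} {rn rxn rx2n c2 c1 c0 : R}
    (hA : A * A * rn = rx2n * (A * A)) (hA1 : A * rn = rxn * A)
    (h2 : rn * c2 = c2 * rn) (h1 : rn * c1 = c1 * rn) (h0 : rn * c0 = c0 * rn)
    (E : c2 * (A * A) = c1 * A + c0) :
    c2 * (rx2n - rn) * (A * A) = c1 * (rxn - rn) * A := by
  have e1 : c2 * (A * A) * rn = (c1 * A + c0) * rn := by rw [E]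
  have e2 : rn * (c2 * (A * A)) = rn * (c1 * A + c0) := by rw [E]
  rw [mul_assoc, hA, add_mul, mul_assoc c1, hA1] at e1
  rw [← mul_assoc, h2, mul_add, ← mul_assoc rn c1, h1, h0] at e2
  have : c2 * (rx2n * (A * A)) - c2 * rn * (A * A) = c1 * (rxn * A) - c1 * rn * A := by
    rw [e1, e2]; abel
  simpa [mul_sub, sub_mul, mul_assoc] using this

/-- The abelian complement case has no instance: some `[hv, x]` meets `V`. -/
theorem Setup.exists_not_disjoint (s : Setup (p := p) x V) (hp2 : p ≠ 2) {h : H}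
    (hW : comm x h ⊔ V = ⊤) (hWV : comm x h ⊓ V = ⊥) (hab : ∀ a ∈ comm x h, ∀ b ∈ comm x h,
      a * b = b * a) (hfree : comm x h ⊓ fixed x = ⊥) (hfaith : comm x h ⊓ centralizer (V : Set H) = ⊥) :
    ∃ v ∈ V, comm x (h * v) ⊓ V ≠ ⊥ := by
  classical
  by_contra hcon
  push Not at hcon
  haveI := s.normal
  set W := comm x h
  have hW1 : W ≠ ⊥ := by
    intro hW0
    rw [hW0, bot_sup_eq] at hW
    have hV' : ∀ a b : H, a * b = b * a := fun a b =>
      s.abel a (hW ▸ mem_top a) b (hW ▸ mem_top b)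
    -- `H = V` is abelian, and `W ⊔ V = ⊤` forces nothing more; use `[h v, x] = [v, x]`
    obtain ⟨v, hv, hv1⟩ : ∃ v ∈ V, dif x v 1 ≠ 1 := by
      by_contra hall
      push Not at hall
      apply s.ne_bot
      rw [hW, ← s.gen, eq_bot_iff]
      refine joinComm_le_iff.mpr fun g _ i => ?_
      induction i with
      | zero => simp [dif_zero]
      | succ i ih =>
        rw [Subgroup.mem_bot] at ih ⊢
        rw [dif_succ, ih, map_one, mul_one]
        exact hall g (hW ▸ mem_top g)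
    have := hcon (h⁻¹ * v) (hW ▸ mem_top _)
    rw [mul_inv_cancel_left, hW, inf_top_eq, eq_bot_iff] at this
    exact hv1 (Subgroup.mem_bot.mp (this (dif_mem_comm v 1)))
  letI : CommGroup V := { (inferInstance : Group V) with
    mul_comm := fun a b => Subtype.ext (s.abel a a.2 b b.2) }
  let ρ : H → AddMonoid.End (Additive V) := fun g =>
    { toFun := fun v => Additive.ofMul ⟨g * (v.toMul : H) * g⁻¹, mem_of_conj s.normal g v.toMul.2⟩
      map_zero' := by
        apply Additive.toMul.injective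
        exact Subtype.ext (show g * (1 : H) * g⁻¹ = 1 by simp)
      map_add' := fun v w => by
        apply Additive.toMul.injective
        exact Subtype.ext (show g * ((v.toMul : H) * (w.toMul : H)) * g⁻¹ =
          g * (v.toMul : H) * g⁻¹ * (g * (w.toMul : H) * g⁻¹) by group) }
  let A : AddMonoid.End (Additive V) :=
    { toFun := fun v => Additive.ofMul ⟨x (v.toMul : H), s.invar _ v.toMul.2⟩
      map_zero' := by
        apply Additive.toMul.injective
        exact Subtype.ext (map_one x)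
      map_add' := fun v w => by
        apply Additive.toMul.injective
        exact Subtype.ext (map_mul x _ _) }
  have ext' : ∀ {f g : AddMonoid.End (Additive V)}, (∀ v : Additive V, ((f v).toMul : H) = ((g v).toMul : H)) → f = g :=
    fun hfg => AddMonoidHom.ext fun v => Additive.toMul.injective (Subtype.ext (hfg v))
  have hρmul : ∀ g k, ρ (g * k) = ρ g * ρ k := fun g k => ext' fun v => by
    show g * k * (v.toMul : H) * (g * k)⁻¹ = g * (k * (v.toMul : H) * k⁻¹) * g⁻¹
    group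
  have hρone : ρ 1 = 1 := ext' fun v => by
    show 1 * (v.toMul : H) * 1⁻¹ = _; simp
  have hρA : ∀ g, A * ρ g = ρ (x g) * A := fun g => ext' fun v => by
    show x (g * (v.toMul : H) * g⁻¹) = x g * x (v.toMul : H) * (x g)⁻¹
    simp
  have hρcomm : ∀ g ∈ W, ∀ k ∈ W, ρ g * ρ k = ρ k * ρ g := fun g hg k hk => by
    rw [← hρmul, ← hρmul, hab g hg k hk]
  have hinjA : ∀ f g : AddMonoid.End (Additive V), f * A = g * A → f = g := by
    intro f g hfg
    refine ext' fun v => ?_
    obtain ⟨w, hw⟩ : ∃ w : Additive V, A w = v := by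
      have hinj : Function.Injective (A : Additive V → Additive V) := fun a b hab' =>
        Additive.toMul.injective (Subtype.ext (x.injective
          (congrArg (fun t : Additive V => ((Additive.toMul t : V) : H)) hab')))
      exact (Finite.injective_iff_surjective.mp hinj) v
    rw [← hw]
    exact congrArg (fun t => ((Additive.toMul (t w) : V) : H)) hfg
  set q := dif x h 1 with hqdef
  set q' := x q with hq'def
  have hqW : q ∈ W := dif_mem_comm h 1
  have hq'W : q' ∈ W := inv_comm h q hqW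
  have habH : ∀ a b : H, ⁅a, b⁆ ∈ V := by
    intro a b
    obtain ⟨a₁, ha₁, a₂, ha₂, rfl⟩ := mem_sup_of_normal_right.mp (hW ▸ mem_top a)
    obtain ⟨b₁, hb₁, b₂, hb₂, rfl⟩ := mem_sup_of_normal_right.mp (hW ▸ mem_top b)
    let f := QuotientGroup.mk' V
    have h1 : f a₂ = 1 := (QuotientGroup.eq_one_iff _).mpr ha₂
    have h2 : f b₂ = 1 := (QuotientGroup.eq_one_iff _).mpr hb₂
    refine (QuotientGroup.eq_one_iff _).mp (show f ⁅a₁ * a₂, b₁ * b₂⁆ = 1 from ?_)
    rw [map_commutatorElement, map_mul f, map_mul f, h1, h2, mul_one, mul_one,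
      ← map_commutatorElement, commutatorElement_eq_one_iff_mul_comm.mpr (hab a₁ ha₁ b₁ hb₁),
      map_one]
  -- the quadratic relation
  have hE : (ρ q - 1) * ρ q' * (A * A) = (ρ q' * ρ q - 1) * A + (1 - ρ q') := by
    have key : (ρ q * A - A - ρ q' + 1) * (ρ q * A - 1) = 0 := by
      refine ext' fun v => ?_
      set w : H := (v.toMul : H) with hw
      have hwV : w ∈ V := v.toMul.2
      set m : H := w⁻¹ * (q * x w * q⁻¹) with hm
      have hmV : m ∈ V := V.mul_mem (V.inv_mem hwV) (mem_of_conj s.normal q (s.invar w hwV))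
      set u := dif x (h * w) 1 with hu
      have hum : u = m * q := by
        simp only [hu, hm, hqdef, dif, pow_one, map_mul]; group
      have huW : u ∈ comm x (h * w) := dif_mem_comm _ 1
      have hxu : x u ∈ comm x (h * w) := inv_comm _ u huW
      have hcu : ⁅u, x u⁆ = 1 := by
        have := hcon w hwV
        rw [eq_bot_iff] at this
        refine Subgroup.mem_bot.mp (this ⟨?_, habH u (x u)⟩)
        rw [commutatorElement_def]
        exact (comm x (h * w)).mul_mem ((comm x (h * w)).mul_mem ((comm x (h * w)).mul_mem huW hxu)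
          ((comm x (h * w)).inv_mem huW)) ((comm x (h * w)).inv_mem hxu)
      rw [commutatorElement_eq_one_iff_mul_comm, hum, map_mul, ← hq'def] at hcu
      have h1 : q * x m * q⁻¹ * m = q' * m * q'⁻¹ * x m := by
        have h2 : q * x m * q⁻¹ ∈ V := mem_of_conj s.normal q (s.invar m hmV)
        have h3 : q' * m * q'⁻¹ ∈ V := mem_of_conj s.normal q' hmV
        rw [s.abel _ h2 m hmV, s.abel _ h3 (x m) (s.invar m hmV)]
        apply mul_right_cancel (b := q * q')
        calc m * (q * x m * q⁻¹) * (q * q') = m * q * (x m * q') := by group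
          _ = x m * q' * (m * q) := hcu
          _ = x m * (q' * m * q'⁻¹) * (q' * q) := by group
          _ = _ := by rw [hab q' hq'W q hqW]
      show (((ρ q * A - A - ρ q' + 1) ((ρ q * A - 1) v)).toMul : H) = _
      have hBv : (((ρ q * A - 1) v).toMul : H) = m := by
        show q * x w * q⁻¹ / w = m
        rw [div_eq_mul_inv, hm, s.abel _ (V.inv_mem hwV) _ (mem_of_conj s.normal q (s.invar w hwV))]
      show q * x (((ρ q * A - 1) v).toMul : H) * q⁻¹ / x (((ρ q * A - 1) v).toMul : H) /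
        (q' * (((ρ q * A - 1) v).toMul : H) * q'⁻¹) * (((ρ q * A - 1) v).toMul : H) = 1
      rw [hBv, div_eq_mul_inv, div_eq_mul_inv]
      set a := q * x m * q⁻¹
      set b := q' * m * q'⁻¹
      have hbV : b ∈ V := mem_of_conj s.normal q' hmV
      rw [mul_assoc _ b⁻¹ m, s.abel _ (V.inv_mem hbV) m hmV, ← mul_assoc, mul_assoc a (x m)⁻¹ m,
        s.abel _ (V.inv_mem (s.invar m hmV)) m hmV, ← mul_assoc a, h1, mul_inv_cancel_right,
        mul_inv_cancel]
    have e1 : A * (ρ q * A) = ρ q' * (A * A) := by rw [← mul_assoc, hρA, ← hq'def, mul_assoc]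
    have e2 : ρ q * A * (ρ q * A) = ρ q * ρ q' * (A * A) := by rw [mul_assoc, e1, ← mul_assoc]
    have e3 : ρ q' * (ρ q * A) = ρ q' * ρ q * A := by rw [mul_assoc]
    have key' : ρ q * A * (ρ q * A) - A * (ρ q * A) - ρ q' * (ρ q * A) + A + ρ q' - 1 = 0 := by
      rw [← key]; simp only [mul_sub, sub_mul, add_mul, mul_add, mul_one, one_mul, mul_assoc]; abel
    rw [e1, e2, e3] at key'
    rw [← sub_eq_zero, ← key']; simp only [mul_sub, sub_mul, add_mul, mul_add, mul_one, one_mul, mul_assoc]; abel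
  -- surjectivity of `n ↦ n⁻¹ x^i(n)` on `W`
  have hsurj : ∀ i : ℕ, i = 1 ∨ i = 2 → ∀ b ∈ W, ∃ n ∈ W, (x ^ i) n * n⁻¹ = b := by
    intro i hi b hb
    let f : W → W := fun n => ⟨(x ^ i) n * (n : H)⁻¹, W.mul_mem ((inv_comm h).pow i n.2) (W.inv_mem n.2)⟩
    have hinj : Function.Injective f := by
      intro n m hnm
      have h1 : (x ^ i) n * (n : H)⁻¹ = (x ^ i) m * (m : H)⁻¹ := congrArg Subtype.val hnm
      set d : H := (n : H) * (m : H)⁻¹ with hd
      have hdW : d ∈ W := W.mul_mem n.2 (W.inv_mem m.2)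
      have h2 : (x ^ i) d = d := by
        rw [mul_inv_eq_iff_eq_mul, mul_assoc] at h1
        rw [hd, map_mul, map_inv, h1, mul_inv_eq_iff_eq_mul,
          hab _ (W.inv_mem m.2) _ n.2]
        exact hab _ ((inv_comm h).pow i m.2) _ (W.mul_mem n.2 (W.inv_mem m.2))
      have hd1 : x d = d := by
        rcases hi with rfl | rfl
        · simpa using h2
        · have : ∀ j, (x ^ (2 * j)) d = d := fun j => by
            induction j with
            | zero => simp
            | succ j ih => rw [mul_add, mul_one, pow_add, MulAut.mul_apply, h2, ih]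
          obtain ⟨j, hj⟩ := (hp.out.odd_of_ne_two hp2).add_one
          have h3 := this j
          rw [two_mul, ← hj, pow_succ, s.pow, one_mul] at h3
          exact h3
      have : d ∈ W ⊓ fixed x := ⟨hdW, hd1⟩
      rw [hfree, Subgroup.mem_bot, hd, mul_inv_eq_one] at this
      exact Subtype.ext this
    obtain ⟨n, hn⟩ := (Finite.injective_iff_surjective.mp hinj) ⟨b, hb⟩
    exact ⟨n, n.2, congrArg Subtype.val hn⟩
  -- conclusion
  have hkill : ∀ b ∈ W, ∀ b' ∈ W, (ρ q - 1) * (ρ b - 1) * (ρ b' - 1) = 0 := by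
    intro b hb b' hb'
    obtain ⟨n, hn, rfl⟩ := hsurj 2 (Or.inr rfl) b hb
    obtain ⟨t, ht, rfl⟩ := hsurj 1 (Or.inl rfl) b' hb'
    obtain ⟨m, hm, hmt⟩ := hsurj 1 (Or.inl rfl) (x⁻¹ ((x ^ 1) t * t⁻¹)) (by
      have hinv : x⁻¹ = x ^ (p - 1) := inv_eq_of_mul_eq_one_right (by
        rw [← pow_succ', Nat.sub_add_cancel hp.out.one_le, s.pow])
      rw [hinv]; exact (inv_comm h).pow _ hb')
    have hAA : ∀ g, A * A * ρ g = ρ ((x ^ 2) g) * (A * A) := fun g => by
      rw [mul_assoc, hρA, ← mul_assoc, hρA, mul_assoc, sq, MulAut.mul_apply]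
    have hcq : ∀ g ∈ W, ρ g * (ρ q * ρ q') = ρ q * ρ q' * ρ g := fun g hg => by
      rw [← hρmul, ← hρmul, ← hρmul, hab g hg _ (W.mul_mem hqW hq'W)]
    have hc2 : ∀ g ∈ W, ρ g * ((ρ q - 1) * ρ q') = (ρ q - 1) * ρ q' * ρ g := fun g hg => by
      simp only [sub_mul, mul_sub, one_mul, hcq g hg, hρcomm g hg q' hq'W]
    have hc1 : ∀ g ∈ W, ρ g * (ρ q' * ρ q - 1) = (ρ q' * ρ q - 1) * ρ g := fun g hg => by
      rw [hρcomm q' hq'W q hqW]
      simp only [sub_mul, mul_sub, one_mul, mul_one, hcq g hg]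
    have hc0 : ∀ g ∈ W, ρ g * (1 - ρ q') = (1 - ρ q') * ρ g := fun g hg => by
      simp only [sub_mul, mul_sub, one_mul, mul_one, hρcomm g hg q' hq'W]
    have s1 := ring_step (hAA n) (hρA n) (hc2 n hn) (hc1 n hn) (hc0 n hn) hE
    -- apply the trick again, with `m`
    have hm2 : (x ^ 2) m ∈ W := (inv_comm h).pow 2 hm
    have hxm : x m ∈ W := inv_comm h m hm
    have s2 : (ρ q - 1) * ρ q' * (ρ ((x ^ 2) n) - ρ n) * (ρ ((x ^ 2) m) - ρ (x m)) * (A * A) = 0 := by
      have hL : ∀ g ∈ W, ρ g * ((ρ q - 1) * ρ q' * (ρ ((x ^ 2) n) - ρ n)) =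
          (ρ q - 1) * ρ q' * (ρ ((x ^ 2) n) - ρ n) * ρ g := fun g hg => by
        rw [← mul_assoc, hc2 g hg, mul_assoc, mul_assoc _ (ρ ((x ^ 2) n) - ρ n) (ρ g)]
        congr 1
        rw [mul_sub, sub_mul, hρcomm g hg _ ((inv_comm h).pow 2 hn), hρcomm g hg _ hn]
      have hR : ∀ g ∈ W, ρ g * ((ρ q' * ρ q - 1) * (ρ (x n) - ρ n)) =
          (ρ q' * ρ q - 1) * (ρ (x n) - ρ n) * ρ g := fun g hg => by
        rw [← mul_assoc, hc1 g hg, mul_assoc, mul_assoc _ (ρ (x n) - ρ n) (ρ g)]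
        congr 1
        rw [mul_sub, sub_mul, hρcomm g hg _ (inv_comm h n hn), hρcomm g hg _ hn]
      have e1 : ((ρ q - 1) * ρ q' * (ρ ((x ^ 2) n) - ρ n)) * ρ ((x ^ 2) m) * (A * A) =
          ((ρ q' * ρ q - 1) * (ρ (x n) - ρ n)) * ρ (x m) * A := by
        have := congrArg (· * ρ m) s1
        rw [mul_assoc _ (A * A) (ρ m), hAA, mul_assoc _ A (ρ m), hρA] at this
        simpa [mul_assoc] using this
      have e2 : ((ρ q - 1) * ρ q' * (ρ ((x ^ 2) n) - ρ n)) * ρ (x m) * (A * A) =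
          ((ρ q' * ρ q - 1) * (ρ (x n) - ρ n)) * ρ (x m) * A := by
        rw [← hL _ hxm, ← hR _ hxm, mul_assoc, s1]; simp only [mul_assoc]
      rw [mul_sub, sub_mul, e1, e2, sub_self]
    have s3 : (ρ q - 1) * ρ q' * (ρ ((x ^ 2) n) - ρ n) * (ρ ((x ^ 2) m) - ρ (x m)) = 0 :=
      hinjA _ _ (hinjA _ _ (by rw [mul_assoc, s2, zero_mul, zero_mul]))
    have hfac : ∀ a g : H, ρ a - ρ g = (ρ (a * g⁻¹) - 1) * ρ g := fun a g => by
      rw [sub_mul, one_mul, ← hρmul, inv_mul_cancel_right]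
    have hb'' : (x ^ 2) m * (x m)⁻¹ = (x ^ 1) t * t⁻¹ := by
      have h1 := congrArg x hmt
      rw [MulAut.apply_inv_self, map_mul x, map_inv x] at h1
      rwa [pow_succ_apply, pow_one]  
    rw [hfac, hfac, hb''] at s3
    have hunit : ∀ g : H, ρ g * ρ g⁻¹ = 1 := fun g => by rw [← hρmul, mul_inv_cancel, hρone]
    have hb1 : (x ^ 2) n * n⁻¹ ∈ W := hb
    have hc : ∀ g ∈ W, ∀ k ∈ W, ρ g * (ρ k - 1) = (ρ k - 1) * ρ g := fun g hg k hk => by
      rw [mul_sub, sub_mul, hρcomm g hg k hk, mul_one, one_mul]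
    have s4 : (ρ q - 1) * (ρ ((x ^ 2) n * n⁻¹) - 1) * (ρ ((x ^ 1) t * t⁻¹) - 1) *
        (ρ q' * ρ n * ρ (x m)) = 0 := by
      rw [← s3]
      simp only [mul_assoc]
      congr 1
      rw [← mul_assoc (ρ q') (ρ ((x ^ 2) n * n⁻¹) - 1), hc q' hq'W _ hb1, mul_assoc]
      congr 1
      rw [← mul_assoc (ρ n) (ρ ((x ^ 1) t * t⁻¹) - 1), hc n hn _ hb',
        mul_assoc (ρ ((x ^ 1) t * t⁻¹) - 1) (ρ n),
        Commute.left_comm (show Commute (ρ q') (ρ ((x ^ 1) t * t⁻¹) - 1) from hc q' hq'W _ hb')]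
    have hu : (ρ q' * ρ n * ρ (x m)) * ρ ((q' * n * x m)⁻¹) = 1 := by
      rw [← hρmul, ← hρmul, hunit]
    have := congrArg (· * ρ ((q' * n * x m)⁻¹)) s4
    rwa [zero_mul, mul_assoc, hu, mul_one] at this
  have hCV : V ⊓ centralizer (W : Set H) = ⊥ := by
    have hn : (V ⊓ centralizer (W : Set H)).Normal := normal_of_conj_mem fun g v hv => by
      obtain ⟨a, ha, w, hw, rfl⟩ := mem_sup_of_normal_right.mp (hW ▸ mem_top g)
      have h1 : w * v * w⁻¹ = v := by rw [s.abel w hw v hv.1, mul_inv_cancel_right]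
      have h2 : a * w * v * (a * w)⁻¹ = v := by
        rw [show a * w * v * (a * w)⁻¹ = a * (w * v * w⁻¹) * a⁻¹ by group, h1,
          mem_centralizer_iff.mp hv.2 a ha, mul_inv_cancel_right]
      rw [h2]; exact hv
    have hi : Inv x (centralizer (W : Set H)) := fun y hy => mem_centralizer_iff.mpr fun b hb => by
      have hinv : x⁻¹ = x ^ (p - 1) := inv_eq_of_mul_eq_one_right (by
        rw [← pow_succ', Nat.sub_add_cancel hp.out.one_le, s.pow])
      have hb' : x⁻¹ b ∈ W := hinv ▸ (inv_comm h).pow _ hb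
      have := congrArg x (mem_centralizer_iff.mp hy _ hb')
      simpa using this
    rcases s.min _ hn (s.invar.inf hi) inf_le_left with h0 | h0
    · exact h0
    · exfalso
      refine hW1 (eq_bot_iff.mpr (hfaith ▸ le_inf le_rfl fun b hb =>
        mem_centralizer_iff.mpr fun v hv => ?_))
      exact (mem_centralizer_iff.mp (h0.ge hv).2 b hb).symm
  have hzero : ∀ v : Additive V, (∀ b ∈ W, (ρ b - 1) v = 0) → v = 0 := by
    intro v hv
    apply Additive.toMul.injective
    refine Subtype.ext ?_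
    show (v.toMul : H) = 1
    refine Subgroup.mem_bot.mp (hCV ▸ ⟨v.toMul.2, mem_centralizer_iff.mpr fun b hb => ?_⟩)
    have h1 : b * (v.toMul : H) * b⁻¹ / (v.toMul : H) = 1 :=
      congrArg (fun t => ((Additive.toMul t : V) : H)) (hv b hb)
    rw [div_eq_one] at h1
    exact mul_inv_eq_iff_eq_mul.mp h1
  have hcq' : ∀ b ∈ W, (ρ b - 1) * (ρ q - 1) = (ρ q - 1) * (ρ b - 1) := fun b hb => by
    simp only [sub_mul, mul_sub, one_mul, mul_one, hρcomm b hb q hqW]; abel
  have hcbb : ∀ b ∈ W, ∀ c ∈ W, (ρ b - 1) * (ρ c - 1) = (ρ c - 1) * (ρ b - 1) := fun b hb c hc => by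
    simp only [sub_mul, mul_sub, one_mul, mul_one, hρcomm b hb c hc]; abel
  have hq1 : q = 1 := by
    have hfix : ∀ v : Additive V, (ρ q - 1) v = 0 := fun v => hzero _ fun a ha => hzero _ fun b hb => by
      have h1 := hkill a ha b hb
      rw [mul_assoc, hcbb a ha b hb, ← mul_assoc, ← hcq' b hb, mul_assoc, ← hcq' a ha] at h1
      exact congrArg (fun f : AddMonoid.End (Additive V) => f v) h1
    refine Subgroup.mem_bot.mp (hfaith ▸ ⟨hqW, mem_centralizer_iff.mpr fun v hv => ?_⟩)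
    have h1 : q * v * q⁻¹ / v = 1 :=
      congrArg (fun t => ((Additive.toMul t : V) : H)) (hfix (Additive.ofMul ⟨v, hv⟩))
    rw [div_eq_one, mul_inv_eq_iff_eq_mul] at h1
    exact h1.symm
  apply hW1
  rw [eq_bot_iff]
  show closure (Set.range (dif x h)) ≤ ⊥
  rw [closure_le]
  rintro _ ⟨i, rfl⟩
  induction i with
  | zero => simp [dif_zero]
  | succ i ih =>
    rw [SetLike.mem_coe, Subgroup.mem_bot] at ih ⊢
    rw [dif_succ, ← hqdef, hq1, ih, map_one, mul_one]

end Cfsg.Agent.FlavellFixed89
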