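import Mathlib
import Cfsg.Agent.Lib.CoprimeAction

/-!
The setting of `Flavell20` with no condition on `|C_X(a)|`: a copy of `Frame`, `Comp`, `Closed` whose fields
do not mention a minimal counterexample.  The files `FlavellGen8*` are the corresponding copies of
`Flavell*20`.
-/

set_option autoImplicit false

open scoped commutatorElement

namespace Cfsg.Agent.Flavell8.Gen

open Subgroup

universe u

variable {Γ : Type u} [Group Γ]

/-- The fixed points of `a` in `X`. -/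
abbrev fixA (X : Subgroup Γ) (a : Γ) : Subgroup Γ := X ⊓ centralizer ({a} : Set Γ)

/-- The centre of a subgroup, as a subgroup of the ambient group. -/
abbrev cen (T : Subgroup Γ) : Subgroup Γ := T ⊓ centralizer (T : Set Γ)

/-- The kernel `C_C(T)`. -/
abbrev kerT (X T : Subgroup Γ) (a : Γ) : Subgroup Γ := fixA X a ⊓ centralizer (T : Set Γ)

/-- The hypothesis, with no condition on the fixed point subgroup. -/
structure Core (p r : ℕ) (V X : Subgroup Γ) (a : Γ) : Prop where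
  hp : p.Prime
  hp2 : p ≠ 2
  hr : r.Prime
  hrp : r ≠ p
  orda : orderOf a = r
  Vne : V ≠ ⊥
  Vcomm : ∀ x ∈ V, ∀ y ∈ V, x * y = y * x
  Vexp : ∀ x ∈ V, x ^ p = 1
  aX : a ∈ normalizer (X : Set Γ)
  aV : a ∈ normalizer (V : Set Γ)
  XV : X ≤ normalizer (V : Set Γ)
  faith : X ⊓ centralizer (V : Set Γ) = ⊥
  fixV : V ⊓ centralizer ({a} : Set Γ) = ⊥
  rX : ¬ r ∣ Nat.card X

/-- What piece A derives from a minimal counterexample; no field needs `p` prime to the fixed point subgroup.  `S` is an invariant Sylow `p`-subgroup, `W`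
an invariant Sylow `2`-subgroup, `T = [W, a]`, `r = 2 ^ n + 1`; in the informal argument `C = fixA X a`,
`Z = cen T` and `M = X ⊓ N(T)`. -/
structure Frame (p r n : ℕ) (V X S W T : Subgroup Γ) (a : Γ) : Prop extends Core p r V X a where
  n1 : 1 ≤ n
  rn : r = 2 ^ n + 1
  SX : S ≤ X
  Sp : IsPGroup p S
  WX : W ≤ X
  W2 : IsPGroup 2 W
  aW : a ∈ normalizer (W : Set Γ)
  TW : T ≤ W
  WT : W ≤ normalizer (T : Set Γ)
  aT : a ∈ normalizer (T : Set Γ)
  Tgen : T = ⁅W, zpowers a⁆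
  Tne : T ≠ ⊥
  Tfix : T ⊓ centralizer ({a} : Set Γ) = cen T
  Tcomm : ⁅T, T⁆ ≤ cen T
  Tsq : ∀ t ∈ T, t * t ∈ cen T
  Zexp : ∀ z ∈ cen T, z * z = 1
  /-- an abelian invariant `2`-subgroup is centralised by `a` -/
  abel : ∀ E : Subgroup Γ, E ≤ X → a ∈ normalizer (E : Set Γ) → IsPGroup 2 E →
    (∀ x ∈ E, ∀ y ∈ E, x * y = y * x) → E ≤ centralizer ({a} : Set Γ)
  /-- invariant `2`-subgroups lie in fixed conjugates of `W` -/
  inv2 : ∀ E : Subgroup Γ, E ≤ X → a ∈ normalizer (E : Set Γ) → IsPGroup 2 E →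
    ∃ c ∈ fixA X a, E ≤ W.map (MulAut.conj c).toMonoidHom
  /-- a proper invariant subgroup containing `T` normalises it -/
  overT : ∀ H : Subgroup Γ, H ≤ X → H ≠ X → a ∈ normalizer (H : Set Γ) → T ≤ H →
    H ≤ normalizer (T : Set Γ)
  Mne : X ⊓ normalizer (T : Set Γ) ≠ X
  /-- the centre of `X` is fixed by `a` -/
  Z0fix : X ⊓ centralizer (X : Set Γ) ≤ centralizer ({a} : Set Γ)
  /-- an invariant normal proper subgroup is central -/
  central : ∀ B : Subgroup Γ, B ≤ X → B ≠ X → X ≤ normalizer (B : Set Γ) →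
    a ∈ normalizer (B : Set Γ) → B ≤ centralizer (X : Set Γ)
  /-- `S` is not central -/
  Snc : ¬ S ≤ centralizer (X : Set Γ)
  /-- an invariant normal `p'`-subgroup is central -/
  normalP' : ∀ B : Subgroup Γ, B ≤ X → a ∈ normalizer (B : Set Γ) → X ≤ normalizer (B : Set Γ) →
    ¬ p ∣ Nat.card B → B ≤ centralizer (X : Set Γ)
  /-- a central involution of `X` inverts `V` -/
  Vinv : ∀ v ∈ X ⊓ centralizer (X : Set Γ), orderOf v = 2 → ∀ w ∈ V, v * w * v⁻¹ = w⁻¹
  /-- the centraliser modulo the centre of `X` of an element of `Z` not central in `X` -/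
  centZ : ∀ v ∈ cen T, v ∉ centralizer (X : Set Γ) → ∀ g ∈ X, ⁅g, v⁆ ∈ centralizer (X : Set Γ) →
    g ∈ normalizer (T : Set Γ)
  normZ : ¬ cen T ≤ centralizer (X : Set Γ) → X ⊓ normalizer (cen T : Set Γ) ≤ normalizer (T : Set Γ)
  Mdecomp : ∀ m ∈ X ⊓ normalizer (T : Set Γ),
    ∃ c ∈ fixA X a, ∃ t ∈ T, c ∈ normalizer (T : Set Γ) ∧ m = c * t
  Modd : ∀ d ∈ X ⊓ normalizer (T : Set Γ), (∃ l : ℕ, l.Prime ∧ l ≠ 2 ∧ orderOf d = l) →
    ∃ m ∈ X ⊓ normalizer (T : Set Γ), m * d * m⁻¹ ∈ fixA X a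
  cardX : ∃ y : ℕ, Nat.card X * Nat.card (cen T) = y * Nat.card (fixA X a) * Nat.card T
  /-- no element of `Z` is isolated (Glauberman) -/
  noniso : ∀ v ∈ cen T, v ∉ centralizer (X : Set Γ) → ∃ g ∈ X, ⁅g, v⁆ ∉ centralizer (X : Set Γ) ∧
    ⁅v, g * v * g⁻¹⁆ ∈ centralizer (X : Set Γ)

/-- An irreducible constituent of `T / Z`: `R` is the radical modulo the hyperplane `lam` of `Z`. -/
structure Comp (n : ℕ) (T lam R : Subgroup Γ) (a : Γ) : Prop where
  lam_le : lam ≤ cen T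
  lam_index : lam.relIndex (cen T) = 2
  RT : R ≤ T
  cenR : cen T ≤ R
  rad : ∀ x ∈ T, (x ∈ R ↔ ∀ y ∈ T, ⁅x, y⁆ ∈ lam)
  sqR : ∀ x ∈ R, x * x ∈ lam
  aR : a ∈ normalizer (R : Set Γ)
  card : Nat.card T = 4 ^ n * Nat.card R
  irred : ∀ U : Subgroup Γ, R ≤ U → U ≤ T → a ∈ normalizer (U : Set Γ) → U = R ∨ U = T

/-- Strong closure of `Z` modulo the centre of `X`, what piece B derives from a frame. -/
structure Closed (p r n : ℕ) (V X S W T : Subgroup Γ) (a : Γ) : Prop extends Frame p r n V X S W T a where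
  /-- a conjugate of an element of `Z` lying in `M` lies in `Z` and the conjugating element in `M` -/
  strong : ∀ v ∈ cen T, v ∉ centralizer (X : Set Γ) → ∀ g ∈ X, g * v * g⁻¹ ∈ normalizer (T : Set Γ) →
    g ∈ normalizer (T : Set Γ) ∧ g * v * g⁻¹ ∈ cen T

end Cfsg.Agent.Flavell8.Gen
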