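import Mathlib
import Cfsg.Agent.Lib.FlavellBase8
import Cfsg.Agent.Lib.FlavellFrame20
import Cfsg.Agent.Lib.FlavellGen8Setup

/-!
The frame of a minimal counterexample in the coprime action theorem without a restriction on the
fixed point subgroup, once every proper invariant overgroup of `T` has moved part `T`.
-/

set_option autoImplicit false
set_option linter.style.haveILetI false
set_option linter.unusedSectionVars false

open scoped commutatorElement Pointwise

namespace Cfsg.Agent.Flavell8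

open Subgroup Cfsg.Agent.CoprimeAction
open Cfsg.Agent.Flavell20 (fixA cen Facts)
open Cfsg.Agent.FlavellFrame20 (ISyl centralizer_zpowers zpowers_le_normalizer conj_map_le
  mem_normalizer_of_map_le inv_centralizer inv_inf inv_normalizer centre_normal centMod)

universe u

variable {Γ : Type u} [Group Γ] [Finite Γ] {p r n : ℕ} {V X W T : Subgroup Γ} {a : Γ}

theorem perfect_rotate (h : Ctx p r V X a) {B : Subgroup Γ}
    (hB : ⁅X, B⁆ ≤ centralizer (X : Set Γ)) : B ≤ centralizer (X : Set Γ) := by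
  have h1 : ⁅⁅X, B⁆, X⁆ = ⊥ := commutator_eq_bot_iff_le_centralizer.2 hB
  have h2 : ⁅⁅B, X⁆, X⁆ = ⊥ := by rwa [commutator_comm B X]
  have h3 := commutator_commutator_eq_bot_of_rotate h1 h2
  rw [h.perfect] at h3
  rw [le_centralizer_iff]
  exact commutator_eq_bot_iff_le_centralizer.1 h3

theorem mem_centralizer_of_comm (h : Ctx p r V X a) {v : Γ} (hvX : v ∈ X)
    (hv : ∀ g ∈ X, ⁅g, v⁆ ∈ centralizer (X : Set Γ)) : v ∈ centralizer (X : Set Γ) := by
  refine perfect_rotate h (B := zpowers v) ?_ (mem_zpowers v)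
  rw [commutator_le]
  intro g hg b hb
  obtain ⟨j, rfl⟩ := (isOfFinOrder_of_finite v).mem_powers_iff_mem_zpowers.2 hb
  show ⁅g, v ^ j⁆ ∈ centralizer (X : Set Γ)
  clear hb
  induction j with
  | zero => simp
  | succ j ih =>
    have e : ⁅g, v ^ (j + 1)⁆ = ⁅g, v ^ j⁆ * (v ^ j * ⁅g, v⁆ * (v ^ j)⁻¹) := by
      simp only [commutatorElement_def, pow_succ]; group
    rw [e, mem_centralizer_iff.1 (hv g hg) (v ^ j) (pow_mem hvX j), mul_inv_cancel_right]
    exact mul_mem ih (hv g hg)

theorem p_dvd (h : Ctx p r V X a) (t : Two r n X W T a) : p ∣ Nat.card X := by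
  haveI := Fact.mk Nat.prime_two
  by_contra hp
  have hidx : ¬ 2 ∣ W.relIndex X := by
    obtain ⟨W', hW'⟩ := exists_sylow_map_eq t.syl.le t.syl.card
    rw [relIndex, ← hW', ← comap_subtype, comap_map_eq_self_of_injective X.subtype_injective]
    exact W'.not_dvd_index
  have hXT : X = T := by
    rw [← h.comm_top, t.Tgen]
    exact h.F.pprime X le_rfl h.aX hp W t.syl.le t.syl.inv t.syl.pgrp hidx
  haveI : Group.IsSolvable T := CoprimeAction.isSolvable_of_isPGroup t.T2
  exact not_solvable h h.Xne (hXT ▸ inferInstance)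

theorem cen_fix (t : Two r n X W T a) {v : Γ} (hv : v ∈ cen T) :
    v ∈ centralizer ({a} : Set Γ) := (t.fix.ge hv).2

theorem centre_ne (h : Ctx p r V X a) : X ⊓ centralizer (X : Set Γ) ≠ X := fun he => by
  refine h.Xne ?_
  rw [← h.perfect, commutator_eq_bot_iff_le_centralizer]
  exact he.ge.trans inf_le_right

/-- The centre of `X` is centralised by `a`. -/
theorem centre_fix (h : Ctx p r V X a) :
    X ⊓ centralizer (X : Set Γ) ≤ centralizer ({a} : Set Γ) := by
  set K := X ⊓ centralizer (X : Set Γ) with hK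
  have hKX : K ≤ X := inf_le_left
  have haK : a ∈ normalizer (K : Set Γ) := inv_inf h.aX (inv_centralizer h.aX)
  have hcK : ⁅K, zpowers a⁆ ≤ K := comm_le h.toCore haK
  obtain ⟨P, hPK, hPp, -, k, hk⟩ := h.hmin K hKX (centre_ne h) haK
  have hP : P = ⊥ := h.op P (hPK.trans (hcK.trans hKX)) hPp
    ((le_centralizer_iff.1 (hPK.trans (hcK.trans inf_le_right))).trans
      (centralizer_le_normalizer (P : Set Γ)))
  rw [hP, relIndex_bot_left] at hk
  have hfix := h.F.abel _ (hcK.trans hKX) (inv_comm h.toCore).1 (IsPGroup.of_card hk)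
    fun x hx y hy => (mem_centralizer_iff.1 (hcK hx).2 y (hKX (hcK hy))).symm
  rw [← centralizer_zpowers, ← commutator_eq_bot_iff_le_centralizer,
    ← comm_comm h.toCore hKX haK, commutator_eq_bot_iff_le_centralizer, centralizer_zpowers]
  exact hfix

theorem central_inverts (h : Ctx p r V X a) {v : Γ}
    (hv : v ∈ X ⊓ centralizer (X : Set Γ)) (h2 : orderOf v = 2) :
    ∀ w ∈ V, v * w * v⁻¹ = w⁻¹ := by
  have hva := mem_centralizer_singleton_iff.1 (centre_fix h hv)
  set U := V ⊓ centralizer ({v} : Set Γ) with hU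
  have hU0 : U = ⊥ := by
    have hn : X ≤ normalizer (U : Set Γ) := le_normalizer_inf h.XV fun x hx =>
      le_normalizer (mem_centralizer_singleton_iff.2 (mem_centralizer_iff.1 hv.2 x hx))
    have ha : a ∈ normalizer (U : Set Γ) :=
      inv_inf h.aV (le_normalizer (mem_centralizer_singleton_iff.2 hva.symm))
    refine (h.irr U inf_le_left hn ha).resolve_right fun hVU => ?_
    have : v ∈ X ⊓ centralizer (V : Set Γ) := ⟨hv.1, mem_centralizer_iff.2 fun w hw =>
      mem_centralizer_singleton_iff.1 (hVU.ge hw).2⟩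
    rw [h.faith, mem_bot] at this
    rw [this, orderOf_one] at h2
    omega
  intro w hw
  have hvv : v * v = 1 := by rw [← pow_two, ← h2, pow_orderOf_eq_one]
  have hv' : v⁻¹ = v := inv_eq_of_mul_eq_one_right hvv
  set w' := v * w * v⁻¹ with hw'
  have hw'V : w' ∈ V := conj_mem (h.XV hv.1) hw
  have hback : v * w' * v⁻¹ = w := by
    rw [hw', hv']
    calc v * (v * w * v) * v = (v * v) * w * (v * v) := by group
      _ = w := by rw [hvv]; group
  have hmem : w * w' ∈ U := by
    refine Subgroup.mem_inf.2 ⟨V.mul_mem hw hw'V, mem_centralizer_singleton_iff.2 ?_⟩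
    have e : v * (w * w') * v⁻¹ = w * w' := by
      rw [show v * (w * w') * v⁻¹ = (v * w * v⁻¹) * (v * w' * v⁻¹) by group, hback, ← hw']
      exact h.Vcomm _ hw'V _ hw
    exact (mul_inv_eq_iff_eq_mul.1 e).symm
  rw [hU0, mem_bot] at hmem
  exact (inv_eq_of_mul_eq_one_right hmem).symm

theorem centZ_of_overT (h : Ctx p r V X a) (t : Two r n X W T a) (ho : OverT X T a) {v : Γ}
    (hv : v ∈ cen T) (hvc : v ∉ centralizer (X : Set Γ)) :
    ∀ g ∈ X, ⁅g, v⁆ ∈ centralizer (X : Set Γ) → g ∈ normalizer (T : Set Γ) := by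
  intro g hg hgv
  have hne : centMod X v ≠ X := fun he =>
    hvc (mem_centralizer_of_comm h (t.TX hv.1) fun k hk => (he.ge hk).2)
  have hT : T ≤ centMod X v := fun x hx => ⟨t.TX hx, by
    rw [commutatorElement_eq_one_iff_mul_comm.2 (mem_centralizer_iff.1 hv.2 x hx)]
    exact one_mem _⟩
  have ha : a ∈ normalizer (centMod X v : Set Γ) := by
    refine mem_normalizer_of_map_le ?_
    rintro _ ⟨k, ⟨hk, hk'⟩, rfl⟩
    refine ⟨conj_mem h.aX hk, ?_⟩
    have hav := mem_centralizer_singleton_iff.1 (cen_fix t hv)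
    have e : ⁅a * k * a⁻¹, v⁆ = a * ⁅k, v⁆ * a⁻¹ := by
      conv_lhs => rw [show v = a * v * a⁻¹ by rw [← hav, mul_inv_cancel_right]]
      simp only [commutatorElement_def]; group
    rw [show (MulAut.conj a).toMonoidHom k = a * k * a⁻¹ from rfl, e]
    exact conj_mem (inv_centralizer h.aX) hk'
  exact (ho _ (fun k (hk : k ∈ centMod X v) => hk.1) hne ha hT).2 ⟨hg, hgv⟩

theorem Two.noniso_mod (h : Ctx p r V X a) (t : Two r n X W T a) {v : Γ} (hv : v ∈ cen T)
    (hvc : v ∉ centralizer (X : Set Γ)) :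
    ∃ g ∈ X, ⁅g, v⁆ ∉ centralizer (X : Set Γ) ∧
      ⁅v, g * v * g⁻¹⁆ ∈ centralizer (X : Set Γ) := by
  by_contra hno
  have hvX : v ∈ X := t.TX hv.1
  set N₀ := X ⊓ centralizer (X : Set Γ) with hN₀
  haveI : (N₀.subgroupOf X).Normal := normal_subgroupOf_of_le_normalizer (centre_normal X)
  set π := QuotientGroup.mk' (N₀.subgroupOf X) with hπdef
  have hπ : Function.Surjective π := QuotientGroup.mk'_surjective _
  have hπ1 : ∀ x : X, π x = 1 ↔ (x : Γ) ∈ centralizer (X : Set Γ) := fun x => by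
    rw [hπdef, QuotientGroup.mk'_apply, QuotientGroup.eq_one_iff, mem_subgroupOf]
    exact ⟨fun hx => hx.2, fun hx => ⟨x.2, hx⟩⟩
  let v' : X := ⟨v, hvX⟩
  have hv2 : orderOf (π v') = 2 := by
    refine orderOf_eq_prime ?_ fun e => hvc ((hπ1 v').1 e)
    rw [← map_pow, hπ1]
    show v ^ 2 ∈ centralizer (X : Set Γ)
    rw [pow_two, t.Zexp v hv]
    exact one_mem _
  have hiso : Cfsg.IsIsolatedInvolution (π v') := by
    refine ⟨hv2, fun g hg => ?_⟩
    by_contra hgv
    obtain ⟨g, rfl⟩ := hπ g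
    refine hno ⟨g, g.2, fun hc => hgv ?_, ?_⟩
    · have h1 : π ⁅g, v'⁆ = 1 := (hπ1 _).2 hc
      rw [map_commutatorElement, commutatorElement_eq_one_iff_mul_comm] at h1
      rw [h1, mul_inv_cancel_right]
    · have h1 : π ⁅v', g * v' * g⁻¹⁆ = 1 := by
        rw [map_commutatorElement, commutatorElement_eq_one_iff_mul_comm, map_mul, map_mul, map_inv]
        exact hg
      exact (hπ1 _).1 h1
  obtain ⟨N, hN, hodd, hcomm⟩ := ZStarTheorem.exists_odd_normal hiso
  set Bt := (N.comap π).map X.subtype with hBt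
  have hBtX : Bt ≤ X := map_subtype_le _
  set L := ⁅X, zpowers v⁆ with hL
  have hvle : zpowers v ≤ X := zpowers_le.2 hvX
  have hLX : L ≤ X := commutator_le_self_of_le_normalizer (hvle.trans le_normalizer)
  have hLn : X ≤ normalizer (L : Set Γ) := le_sup_left.trans CoprimeExtra.le_normalizer_commutator
  have haV : a ∈ normalizer ((zpowers v : Subgroup Γ) : Set Γ) := by
    refine mem_normalizer_of_map_le ?_
    rw [MonoidHom.map_zpowers, zpowers_le]
    have hav := mem_centralizer_singleton_iff.1 (cen_fix t hv)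
    simpa [← hav, mul_assoc] using mem_zpowers v
  have haL : a ∈ normalizer (L : Set Γ) :=
    CoprimeTools.le_normalizer_commutator_of_le (zpowers_le_normalizer h.aX)
      (zpowers_le_normalizer haV) (mem_zpowers a)
  have hneL : L ≠ X := by
    intro he
    have h1 : (⊤ : Subgroup (X ⧸ N₀.subgroupOf X)) ≤ N := by
      intro q _
      obtain ⟨x, rfl⟩ := hπ q
      have hxL : (x : Γ) ∈ L := he.ge x.2
      have hsub : L ≤ Bt := by
        rw [hL, commutator_le]
        intro g hg b hb
        obtain ⟨j, rfl⟩ := mem_zpowers_iff.1 hb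
        refine ⟨⁅(⟨g, hg⟩ : X), v' ^ j⁆, ?_, by simp [v', commutatorElement_def]⟩
        rw [SetLike.mem_coe, mem_comap, map_commutatorElement, map_zpow, ← QuotientGroup.eq_one_iff]
        rw [← QuotientGroup.mk'_apply, map_commutatorElement, map_zpow,
          commutatorElement_eq_one_iff_mul_comm]
        refine (Commute.zpow_right ?_ j).eq
        rw [commute_iff_eq, eq_comm, ← div_eq_one]
        simp only [← map_mul, ← map_div]
        rw [QuotientGroup.mk'_apply, QuotientGroup.eq_one_iff, map_div, map_mul, map_mul,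
          div_eq_mul_inv, mul_inv_rev, ← mul_assoc]
        exact hcomm (π ⟨g, hg⟩)
      obtain ⟨y, hy, hyx⟩ := hsub hxL
      have : y = x := Subtype.ext hyx
      exact this ▸ hy
    have h2 : 2 ∣ Nat.card N := by
      have : N = ⊤ := top_le_iff.1 h1
      rw [this, card_top]
      exact hv2 ▸ orderOf_dvd_natCard _
    exact Nat.not_even_iff_odd.2 hodd (even_iff_two_dvd.2 h2)
  exact hvc (perfect_rotate h (h.central L hLX hneL hLn haL) (mem_zpowers v))

theorem normalizer_ne (h : Ctx p r V X a) (t : Two r n X W T a) :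
    X ⊓ normalizer (T : Set Γ) ≠ X := by
  intro hM
  have hTne : T ≠ X := fun hTX => by
    haveI := Fact.mk Nat.prime_two
    haveI : Group.IsSolvable T := CoprimeAction.isSolvable_of_isPGroup t.T2
    exact not_solvable h h.Xne (hTX ▸ inferInstance)
  have hz := h.central T t.TX hTne (hM.ge.trans inf_le_right) t.aT
  have hT : T ≤ centralizer ({a} : Set Γ) := fun x hx =>
    cen_fix t ⟨hx, fun y hy => hz hx y (t.TX hy)⟩
  refine t.ne ?_
  rw [← t.gen, commutator_eq_bot_iff_le_centralizer, centralizer_zpowers]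
  exact hT

theorem comm_normalizer (h : Ctx p r V X a) (t : Two r n X W T a) (ho : OverT X T a) :
    ⁅X ⊓ normalizer (T : Set Γ), zpowers a⁆ = T :=
  (ho _ inf_le_left (normalizer_ne h t) (inv_inf h.aX (inv_normalizer t.aT))
    (le_inf t.TX le_normalizer)).1

theorem decomp (h : Ctx p r V X a) (t : Two r n X W T a) (ho : OverT X T a) {m : Γ}
    (hm : m ∈ X ⊓ normalizer (T : Set Γ)) :
    ∃ c ∈ fixA X a, ∃ x ∈ T, c ∈ normalizer (T : Set Γ) ∧ m = c * x := by
  obtain ⟨x, hx, c, hc, rfl⟩ := CoprimeAction.exists_mul_fixed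
    (zpowers_le_normalizer (inv_inf h.aX (inv_normalizer t.aT))) (cop h.toCore inf_le_left)
    (Or.inl (isSolvable_zpowers a)) hm
  rw [comm_normalizer h t ho] at hx
  have hcN : c ∈ normalizer (T : Set Γ) := hc.1.2
  refine ⟨c, ⟨hc.1.1, centralizer_zpowers a ▸ hc.2⟩, c⁻¹ * x * c, ?_, hcN, ?_⟩
  · simpa using conj_mem (inv_mem hcN) hx
  · group

theorem odd_fixed (h : Ctx p r V X a) (t : Two r n X W T a) (ho : OverT X T a) {d : Γ}
    (hd : d ∈ X ⊓ normalizer (T : Set Γ)) {l : ℕ} (hl : l.Prime) (hl2 : l ≠ 2)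
    (hdl : orderOf d = l) :
    ∃ m ∈ X ⊓ normalizer (T : Set Γ), m * d * m⁻¹ ∈ fixA X a := by
  haveI := Fact.mk hl
  haveI := Fact.mk Nat.prime_two
  set M := X ⊓ normalizer (T : Set Γ)
  have hMX : M ≤ X := inf_le_left
  obtain ⟨Q, hQ⟩ := exists_iSyl h.toCore hMX (inv_inf h.aX (inv_normalizer t.aT)) l
  have hfix : Q ≤ centralizer ({a} : Set Γ) := by
    rw [← centralizer_zpowers, ← commutator_eq_bot_iff_le_centralizer, eq_bot_iff]
    rw [← (IsPGroup.disjoint_of_ne l 2 hl2 Q T hQ.pgrp t.T2).eq_bot]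
    exact le_inf (comm_le h.toCore hQ.inv)
      ((commutator_mono hQ.le le_rfl).trans (comm_normalizer h t ho).le)
  obtain ⟨Q', hQ'⟩ := exists_sylow_map_eq hQ.le hQ.card
  have hdp : IsPGroup l (zpowers (⟨d, hd⟩ : M)) := by
    refine IsPGroup.iff_card.2 ⟨1, ?_⟩
    rw [Nat.card_zpowers, pow_one, ← Subgroup.orderOf_coe]
    exact hdl
  obtain ⟨R, hR⟩ := hdp.exists_le_sylow
  obtain ⟨m, hm⟩ := MulAction.exists_smul_eq M R Q'
  have h2 : m * ⟨d, hd⟩ * m⁻¹ ∈ (Q' : Subgroup M) := by
    rw [← hm, Sylow.coe_subgroup_smul]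
    exact ⟨_, hR (mem_zpowers _), rfl⟩
  have h3 : (m : Γ) * d * (m : Γ)⁻¹ ∈ Q := by
    rw [← hQ']
    exact ⟨_, h2, by simp⟩
  exact ⟨m, m.2, hQ.le.trans hMX h3, hfix h3⟩

theorem card_dvd (h : Ctx p r V X a) (t : Two r n X W T a) :
    Nat.card (X ⊓ centralizer ({a} : Set Γ) : Subgroup Γ) * Nat.card T ∣
      Nat.card X * Nat.card (cen T) := by
  haveI := Fact.mk Nat.prime_two
  refine (Nat.factorization_le_iff_dvd (mul_ne_zero Nat.card_pos.ne' Nat.card_pos.ne')
    (mul_ne_zero Nat.card_pos.ne' Nat.card_pos.ne')).1 fun q => ?_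
  rw [Nat.factorization_mul Nat.card_pos.ne' Nat.card_pos.ne',
    Nat.factorization_mul Nat.card_pos.ne' Nat.card_pos.ne', Finsupp.add_apply, Finsupp.add_apply]
  by_cases hq : q = 2
  · subst hq
    have e := card_comm_fix h.toCore t.syl.le t.syl.inv
    rw [← t.Tgen, t.fix, iSyl_fixed_card h.toCore le_rfl h.aX t.syl, t.syl.card] at e
    have e2 := congrArg (fun m => m.factorization 2) e
    simp only [Nat.factorization_mul (pow_ne_zero _ (two_ne_zero (α := ℕ))) Nat.card_pos.ne',
      Nat.factorization_mul Nat.card_pos.ne' (pow_ne_zero _ (two_ne_zero (α := ℕ))),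
      Finsupp.add_apply, Nat.Prime.factorization_pow Nat.prime_two, Finsupp.single_eq_same] at e2
    omega
  · obtain ⟨e, he⟩ := IsPGroup.iff_card.1 t.T2
    have hT : (Nat.card T).factorization q = 0 := by
      rw [he, Nat.Prime.factorization_pow Nat.prime_two, Finsupp.single_eq_of_ne hq]
    have hC := (Nat.factorization_le_iff_dvd Nat.card_pos.ne' Nat.card_pos.ne').2
      (card_dvd_of_le (inf_le_left : X ⊓ centralizer ({a} : Set Γ) ≤ X)) q
    omega

/-- The frame, once every proper invariant overgroup of `T` has moved part `T`. -/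
theorem frame (h : Ctx p r V X a) (t : Two r n X W T a) (ho : OverT X T a) :
    ∃ S, Gen.Frame p r n V X S W T a := by
  haveI := Fact.mk h.hp
  obtain ⟨S, hS⟩ := exists_iSyl h.toCore le_rfl h.aX p
  obtain ⟨y, hy⟩ := card_dvd h t
  refine ⟨S,
    { hp := h.hp, hp2 := h.hp2, hr := h.hr, hrp := h.hrp, orda := h.orda, Vne := h.Vne
      Vcomm := h.Vcomm, Vexp := h.Vexp, aX := h.aX, aV := h.aV, XV := h.XV, faith := h.faith
      fixV := h.fixV, rX := h.rX
      n1 := t.n1
      rn := t.rn
      SX := hS.le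
      Sp := hS.pgrp
      WX := t.syl.le
      W2 := t.syl.pgrp
      aW := t.syl.inv
      TW := t.TW
      WT := t.WT
      aT := t.aT
      Tgen := t.Tgen
      Tne := t.ne
      Tfix := t.fix
      Tcomm := t.der.le
      Tsq := t.sq
      Zexp := t.Zexp
      abel := h.F.abel
      inv2 := t.inv2
      overT := fun H hH hne ha hT => (ho H hH hne ha hT).2
      Mne := normalizer_ne h t
      Z0fix := centre_fix h
      central := h.central
      Snc := fun hSc => ?_
      normalP' := fun B hB ha hn hp' => h.central B hB (fun he => hp' (he ▸ p_dvd h t)) hn ha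
      Vinv := fun v hv hv2 => central_inverts h hv hv2
      centZ := fun v hv hvc => centZ_of_overT h t ho hv hvc
      normZ := fun hnc => ?_
      Mdecomp := fun m hm => decomp h t ho hm
      Modd := fun d hd hl => by
        obtain ⟨l, hl, hl2, hdl⟩ := hl
        exact odd_fixed h t ho hd hl hl2 hdl
      cardX := ⟨y, by rw [hy]; ring⟩
      noniso := fun v hv hvc => Two.noniso_mod h t hv hvc }⟩
  · have hS1 := h.op S hS.le hS.pgrp
      ((le_centralizer_iff.1 hSc).trans (centralizer_le_normalizer (S : Set Γ)))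
    have hc := hS.card
    rw [hS1, card_bot] at hc
    exact absurd hc.symm (Nat.one_lt_pow
      (h.hp.factorization_pos_of_dvd Nat.card_pos.ne' (p_dvd h t)).ne' h.hp.one_lt).ne'
  · have hTN : T ≤ normalizer ((cen T : Subgroup Γ) : Set Γ) :=
      le_normalizer_inf le_normalizer (CoprimeTools.le_normalizer_centralizer_of_le le_normalizer)
    have hZX : cen T ≤ X := inf_le_left.trans t.TX
    have haZ : a ∈ normalizer ((cen T : Subgroup Γ) : Set Γ) :=
      inv_inf t.aT (inv_centralizer t.aT)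
    have hN : X ⊓ normalizer ((cen T : Subgroup Γ) : Set Γ) ≠ X := fun hN => by
      refine hnc (h.central _ hZX (fun hZ => ?_) (hN.ge.trans inf_le_right) haZ)
      haveI := Fact.mk Nat.prime_two
      haveI : Group.IsSolvable (cen T) :=
        CoprimeAction.isSolvable_of_isPGroup (t.T2.to_le inf_le_left)
      exact not_solvable h h.Xne (hZ ▸ inferInstance)
    exact (ho _ inf_le_left hN (inv_inf h.aX (inv_normalizer haZ)) (le_inf t.TX hTN)).2

end Cfsg.Agent.Flavell8
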