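import Mathlib

/-!
An automorphism of odd prime order `p` of an extraspecial group of order `2 ^ (2 m + 1)`, commuting
with one of prime order `r = 2 ^ m + 1` that fixes only the centre, is trivial when `p ≠ r`.

The Gauss sum `S = #{d² = 1} - #{d² ≠ 1}` has square `4 ^ (m + 1)`; counting orbits of the element of
order `r` gives `S = -2 ^ (m + 1)`, and then those of the other element give `p ∣ 2 r`.
-/

set_option autoImplicit false

open scoped commutatorElement

namespace Cfsg.Agent.FlavellGauss8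

open Subgroup

theorem modEq_fixed {α : Type*} [Finite α] {p : ℕ} (hp : p.Prime) (f : α → α) (hf : f^[p] = id) :
    Nat.card α ≡ Nat.card {x // f x = x} [MOD p] := by
  classical
  haveI := Fact.mk hp
  haveI := Fintype.ofFinite α
  let g : Function.End α := f
  have hg : g ^ p ^ 1 = 1 := by
    rw [pow_one]
    funext x
    have : ∀ k : ℕ, (g ^ k : Function.End α) x = f^[k] x := by
      intro k
      induction k with
      | zero => rfl
      | succ k ih =>
        rw [pow_succ', Function.iterate_succ_apply', ← ih]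
        rfl
    rw [this, hf]
    rfl
  have h := Equiv.Perm.card_fixedPoints_modEq (f := g) (p := p) (n := 1) hg
  rw [Nat.card_eq_fintype_card, Nat.card_eq_fintype_card]
  have e : Fintype.card ↥(Function.fixedPoints g) = Fintype.card {x // f x = x} :=
    Fintype.card_congr (Equiv.refl _)
  rwa [e] at h

variable {G : Type*} [Group G]

/-- The fixed points of conjugation on an invariant set. -/
theorem modEq_conj [Finite G] {p : ℕ} (hp : p.Prime) {g : G} (hg : g ^ p = 1) (s : Set G)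
    (hs : ∀ x ∈ s, g * x * g⁻¹ ∈ s) :
    Nat.card s ≡ Nat.card {x : G // x ∈ s ∧ g * x * g⁻¹ = x} [MOD p] := by
  let f : s → s := fun x => ⟨g * x * g⁻¹, hs x x.2⟩
  have hit : ∀ (k : ℕ) (x : s), ((f^[k] x : s) : G) = g ^ k * x * (g ^ k)⁻¹ := by
    intro k
    induction k with
    | zero => intro x; simp
    | succ k ih =>
      intro x
      rw [Function.iterate_succ_apply']
      show g * (f^[k] x : s) * g⁻¹ = _
      rw [ih, pow_succ']; group
  have h := modEq_fixed hp f (funext fun x => Subtype.ext (by rw [hit, hg]; simp))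
  rwa [Nat.card_congr (α := {x : s // f x = x}) (β := {x : G // x ∈ s ∧ g * x * g⁻¹ = x})
    { toFun := fun x => ⟨x.1.1, x.1.2, congrArg Subtype.val x.2⟩
      invFun := fun x => ⟨⟨x.1, x.2.1⟩, Subtype.ext x.2.2⟩
      left_inv := fun _ => rfl
      right_inv := fun _ => rfl }] at h

theorem card_sub {P Q : G → Prop} (h : ∀ x, P x ↔ Q x) : Nat.card {x // P x} = Nat.card {x // Q x} :=
  Nat.card_congr (Equiv.subtypeEquivRight h)

theorem two_pow_mod {m j r : ℕ} (hr : r = 2 ^ m + 1) (hj : 2 ^ j ≡ 1 [MOD r]) (hlt : j < 2 * m) :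
    j = 0 := by
  by_contra h0
  rcases le_or_gt j m with h | h
  · have h1 : 2 ^ j ≤ 2 ^ m := Nat.pow_le_pow_right two_pos h
    have h2 : 1 < 2 ^ j := Nat.one_lt_two_pow h0
    have h3 : 1 ≤ 2 ^ m := Nat.one_le_two_pow
    have h4 : 2 ^ j < r := by omega
    have h5 : 1 < r := by omega
    rw [Nat.ModEq, Nat.mod_eq_of_lt h4, Nat.mod_eq_of_lt h5] at hj
    omega
  · obtain ⟨i, rfl⟩ := Nat.exists_eq_add_of_le h.le
    have hi : 1 ≤ i ∧ i < m := by omega
    have h1 : 2 ^ i < 2 ^ m := Nat.pow_lt_pow_right one_lt_two hi.2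
    have h6 : 1 ≤ 2 ^ i := Nat.one_le_two_pow
    have e : (((2 ^ m : ℕ) : ZMod r)) = -1 := by
      rw [eq_neg_iff_add_eq_zero, ← Nat.cast_one, ← Nat.cast_add, ← hr, ZMod.natCast_self]
    have h2 := (ZMod.natCast_eq_natCast_iff _ _ _).2 hj
    rw [pow_add, Nat.cast_mul, e, Nat.cast_one, neg_one_mul, neg_eq_iff_add_eq_zero, ← Nat.cast_one,
      ← Nat.cast_add, ZMod.natCast_eq_zero_iff] at h2
    have := Nat.le_of_dvd (by omega) h2
    omega

/-- The squared Gauss sum. -/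
theorem gauss_sq [Finite G] (hZ : Nat.card (center G) = 2) (hsq : ∀ d : G, d * d ∈ center G)
    (hcom : ∀ d e : G, ⁅d, e⁆ ∈ center G) :
    (2 * (Nat.card {d : G | d * d = 1} : ℤ) - Nat.card G) ^ 2 = 2 * Nat.card G := by
  classical
  haveI := Fintype.ofFinite G
  haveI : Nontrivial (center G) := Finite.one_lt_card_iff_nontrivial.1 (by omega)
  obtain ⟨⟨z, hz⟩, hz1⟩ := exists_ne (1 : center G)
  have hz1' : z ≠ 1 := fun e => hz1 (Subtype.ext e)
  have hcases : ∀ u ∈ center G, u = 1 ∨ u = z := by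
    intro u hu
    by_contra hno
    rw [not_or] at hno
    haveI := Fintype.ofFinite (center G)
    have h3 : ({⟨1, one_mem _⟩, ⟨z, hz⟩, ⟨u, hu⟩} : Finset (center G)).card = 3 := by
      rw [Finset.card_eq_three]
      exact ⟨_, _, _, fun e => hz1' (congrArg Subtype.val e).symm,
        fun e => hno.1 (congrArg Subtype.val e).symm, fun e => hno.2 (congrArg Subtype.val e).symm, rfl⟩
    have h4 := Finset.card_le_univ ({⟨1, one_mem _⟩, ⟨z, hz⟩, ⟨u, hu⟩} : Finset (center G))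
    rw [h3, ← Nat.card_eq_fintype_card, hZ] at h4
    omega
  have hzz : z * z = 1 := (hcases _ (mul_mem hz hz)).resolve_right fun e => hz1' (mul_eq_left.1 e)
  let s : G → ℤ := fun u => if u = 1 then 1 else -1
  have hs : ∀ u ∈ center G, ∀ v ∈ center G, s (u * v) = s u * s v := by
    intro u hu v hv
    rcases hcases u hu with rfl | rfl <;> rcases hcases v hv with rfl | rfl <;> simp [s, hz1', hzz]
  let ε : G → ℤ := fun d => s (d * d)
  have hεε : ∀ d, ε d * ε d = 1 := fun d => by simp only [ε, s]; split_ifs <;> norm_num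
  have hmul : ∀ d h : G, ε (d * h) = ε d * ε h * s ⁅h, d⁆ := by
    intro d h
    have hc := Subgroup.mem_center_iff.1 (hcom h d)
    have e : d * h * (d * h) = (d * d) * (h * h) * ⁅h, d⁆ := by
      calc d * h * (d * h) = d * (⁅h, d⁆ * (d * h)) * h := by simp [commutatorElement_def, mul_assoc]
        _ = d * ((d * h) * ⁅h, d⁆) * h := by rw [← hc]
        _ = d * d * h * (⁅h, d⁆ * h) := by group
        _ = d * d * h * (h * ⁅h, d⁆) := by rw [← hc]
        _ = _ := by group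
    show s _ = _
    rw [e, hs _ (mul_mem (hsq d) (hsq h)) _ (hcom h d), hs _ (hsq d) _ (hsq h)]
  have hchar : ∀ h : G, h ∉ center G → ∑ d : G, s ⁅h, d⁆ = 0 := by
    intro h hh
    rw [Subgroup.mem_center_iff] at hh
    push Not at hh
    obtain ⟨d₀, hd₀⟩ := hh
    have hne : s ⁅h, d₀⁆ = -1 := if_neg fun e => hd₀ (commutatorElement_eq_one_iff_mul_comm.1 e).symm
    have hadd : ∀ d, s ⁅h, d₀ * d⁆ = s ⁅h, d₀⁆ * s ⁅h, d⁆ := fun d => by
      rw [← hs _ (hcom h d₀) _ (hcom h d)]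
      congr 1
      rw [show ⁅h, d₀ * d⁆ = ⁅h, d₀⁆ * (d₀ * ⁅h, d⁆ * d₀⁻¹) by
        simp [commutatorElement_def, mul_assoc], Subgroup.mem_center_iff.1 (hcom h d) d₀,
        mul_inv_cancel_right]
    have key := Equiv.sum_comp (Equiv.mulLeft d₀) (fun d => s ⁅h, d⁆)
    simp only [Equiv.coe_mulLeft, hadd, hne, neg_mul, one_mul, Finset.sum_neg_distrib] at key
    omega
  have hsum : ∑ d : G, ε d = 2 * (Nat.card {d : G | d * d = 1} : ℤ) - Nat.card G := by
    have e : ∀ d : G, ε d = 2 * (if d * d = 1 then 1 else 0) - 1 := fun d => by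
      simp only [ε, s]; split_ifs <;> norm_num
    simp only [e, Finset.sum_sub_distrib, ← Finset.mul_sum, Finset.sum_boole, Finset.sum_const,
      Finset.card_univ, Nat.card_eq_fintype_card, Set.coe_setOf, Fintype.card_subtype, nsmul_one]
  have hsq2 : (∑ d : G, ε d) ^ 2 = ∑ h : G, ε h * ∑ d : G, s ⁅h, d⁆ := by
    rw [sq, Finset.sum_mul]
    simp only [Finset.mul_sum]
    rw [Finset.sum_comm (f := fun h d => ε h * s ⁅h, d⁆)]
    refine Finset.sum_congr rfl fun d _ => ?_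
    rw [← Equiv.sum_comp (Equiv.mulLeft d) (fun e => ε d * ε e)]
    refine Finset.sum_congr rfl fun h _ => ?_
    rw [Equiv.coe_mulLeft, hmul, ← mul_assoc, ← mul_assoc, hεε, one_mul]
  rw [hsum] at hsq2
  rw [hsq2, ← Finset.sum_subset (Finset.subset_univ (Finset.univ.filter (· ∈ center G)))
    fun h _ hh => by rw [hchar h (by simpa using hh), mul_zero]]
  have hin : ∀ h ∈ Finset.univ.filter (· ∈ center G), ε h * ∑ d : G, s ⁅h, d⁆ = Nat.card G := by
    intro h hh
    have hhc : h ∈ center G := by simpa using hh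
    have h1 : ∀ d, s ⁅h, d⁆ = 1 := fun d =>
      if_pos (commutatorElement_eq_one_iff_mul_comm.2 (Subgroup.mem_center_iff.1 hhc d).symm)
    have h2 : ε h = 1 := by
      show s (h * h) = 1
      rcases hcases h hhc with rfl | rfl <;> simp [s, hzz]
    simp [h1, h2, Nat.card_eq_fintype_card]
  rw [Finset.sum_congr rfl hin, Finset.sum_const, ← Fintype.card_subtype, ← Nat.card_eq_fintype_card,
    show Nat.card {x : G // x ∈ center G} = 2 from hZ, nsmul_eq_mul]
  norm_num

/-- The main lemma. -/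
theorem fixed_centralises [Finite G] {p r m : ℕ} (hp : p.Prime) (hp2 : p ≠ 2) (hr : r.Prime)
    (hm : 1 ≤ m) (hrm : r = 2 ^ m + 1) (hpr : p ≠ r) (Q : Subgroup G) (hcen : Nat.card (center Q) = 2)
    (hsq : ∀ d : Q, d * d ∈ center Q) (hcom : ∀ d e : Q, ⁅d, e⁆ ∈ center Q)
    (hcard : Nat.card Q = 2 ^ (2 * m + 1)) {a c : G} (ha : a ^ r = 1) (hc : c ^ p = 1)
    (haQ : ∀ x ∈ Q, a * x * a⁻¹ ∈ Q) (hcQ : ∀ x ∈ Q, c * x * c⁻¹ ∈ Q) (hac : Commute a c)
    (hCa : ∀ x, x ∈ Q → (a * x * a⁻¹ = x ↔ x ∈ (center Q).map Q.subtype))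
    (hcz : ∀ x ∈ (center Q).map Q.subtype, c * x * c⁻¹ = x) :
    ∀ x ∈ Q, c * x * c⁻¹ = x := by
  set Z := (center Q).map Q.subtype with hZ
  have hZQ : Z ≤ Q := map_subtype_le _
  have hZcard : Nat.card Z = 2 := by rw [hZ, card_map_of_injective Q.subtype_injective, hcen]
  have hfixa : ∀ s : Set G, (∀ x ∈ s, x ∈ Q) → (∀ x ∈ s, a * x * a⁻¹ ∈ s) → (∀ x ∈ Z, x ∈ s) →
      Nat.card s ≡ 2 [MOD r] := by
    intro s h1 h2 h3
    have h4 := modEq_conj hr ha s h2
    have e : Nat.card {x : G // x ∈ s ∧ a * x * a⁻¹ = x} = 2 :=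
      (card_sub (Q := fun x => x ∈ Z) fun x => ⟨fun hx => (hCa _ (h1 _ hx.1)).1 hx.2,
        fun hx => ⟨h3 _ hx, (hCa _ (hZQ hx)).2 hx⟩⟩).trans hZcard
    rwa [e] at h4
  -- the fixed points of `c`
  let F : Subgroup G :=
    { carrier := {x | x ∈ Q ∧ c * x * c⁻¹ = x}
      one_mem' := ⟨Q.one_mem, by group⟩
      mul_mem' := fun {x y} hx hy => ⟨Q.mul_mem hx.1 hy.1, by rw [← conj_mul, hx.2, hy.2]⟩
      inv_mem' := fun {x} hx => ⟨Q.inv_mem hx.1, by rw [← conj_inv, hx.2]⟩ }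
  have hFQ : F ≤ Q := fun x hx => hx.1
  have haF : ∀ x ∈ (F : Set G), a * x * a⁻¹ ∈ (F : Set G) := fun x hx => by
    refine ⟨haQ x hx.1, ?_⟩
    calc c * (a * x * a⁻¹) * c⁻¹ = (c * a) * x * (c * a)⁻¹ := by group
      _ = (a * c) * x * (a * c)⁻¹ := by rw [hac.eq]
      _ = a * (c * x * c⁻¹) * a⁻¹ := by group
      _ = _ := by rw [hx.2]
  have hFr : Nat.card F ≡ 2 [MOD r] := hfixa F hFQ haF fun x hx => ⟨hZQ hx, hcz x hx⟩
  obtain ⟨j, hj, hjF⟩ := (Nat.dvd_prime_pow Nat.prime_two).1 (hcard ▸ card_dvd_of_le hFQ)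
  by_cases hjm : j = 2 * m + 1
  · intro x hx
    have : F = Q := eq_of_le_of_card_ge hFQ (by rw [hcard, hjF, hjm])
    exact (this.ge hx).2
  exfalso
  have hj1 : 1 ≤ j := by
    rcases Nat.eq_zero_or_pos j with rfl | h
    · have := card_le_of_le (show Z ≤ F from fun x hx => ⟨hZQ hx, hcz x hx⟩)
      rw [hZcard, hjF] at this
      simp at this
    · exact h
  obtain ⟨i, rfl⟩ := Nat.exists_eq_add_of_le hj1
  have hr2 : r ≠ 2 := by have := Nat.one_lt_two_pow (show m ≠ 0 by omega); omega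
  have hi : i = 0 := by
    refine two_pow_mod hrm ?_ (by omega)
    rw [hjF, add_comm, pow_succ] at hFr
    exact Nat.ModEq.cancel_right_of_coprime ((Nat.coprime_primes hr Nat.prime_two).2 hr2)
      (by rwa [one_mul])
  subst hi
  have hF2 : Nat.card F = 2 := by rw [hjF]; norm_num
  -- the involutions and the identity
  set s : Set G := {x | x ∈ Q ∧ x * x = 1} with hs
  have hZs : ∀ x ∈ Z, x ∈ s := fun x hx => by
    refine ⟨hZQ hx, ?_⟩
    have h1 : (⟨x, hx⟩ : Z) ^ Nat.card Z = 1 := pow_card_eq_one'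
    rw [hZcard, pow_two] at h1
    exact congrArg Subtype.val h1
  have has : ∀ (g : G), (∀ x ∈ Q, g * x * g⁻¹ ∈ Q) → ∀ x ∈ s, g * x * g⁻¹ ∈ s := fun g hg x hx =>
    ⟨hg x hx.1, by rw [conj_mul, hx.2]; group⟩
  have hNr : Nat.card s ≡ 2 [MOD r] := hfixa s (fun x hx => hx.1) (has a haQ) hZs
  have hQp : Nat.card (Q : Set G) ≡ 2 [MOD p] := by
    have h := modEq_conj hp hc (Q : Set G) hcQ
    have e : Nat.card {x : G // x ∈ (Q : Set G) ∧ c * x * c⁻¹ = x} = 2 :=
      (card_sub (Q := fun x => x ∈ F) fun x => Iff.rfl).trans hF2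
    rwa [e] at h
  have hNp : Nat.card s ≡ 2 [MOD p] := by
    have h := modEq_conj hp hc s (has c hcQ)
    have hZF : Z = F :=
      eq_of_le_of_card_ge (fun y hy => ⟨hZQ hy, hcz y hy⟩) (by rw [hF2, hZcard])
    have e : Nat.card {x : G // x ∈ s ∧ c * x * c⁻¹ = x} = 2 :=
      (card_sub (Q := fun x => x ∈ F) fun x => ⟨fun hx => ⟨hx.1.1, hx.2⟩,
        fun hx => ⟨hZs _ (hZF.ge hx), hx.2⟩⟩).trans hF2
    rwa [e] at h
  have hS := gauss_sq (G := Q) hcen hsq hcom
  have he : Nat.card {d : Q | d * d = 1} = Nat.card s := Nat.card_congr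
    { toFun := fun d => ⟨(d.1 : G), d.1.2, congrArg Subtype.val d.2⟩
      invFun := fun x => ⟨⟨x.1, x.2.1⟩, Subtype.ext x.2.2⟩
      left_inv := fun _ => rfl
      right_inv := fun _ => rfl }
  rw [he, hcard] at hS
  set S : ℤ := 2 * (Nat.card s : ℤ) - (2 ^ (2 * m + 1) : ℕ) with hSdef
  have hS' : S = 2 ^ (m + 1) ∨ S = -2 ^ (m + 1) := by
    refine sq_eq_sq_iff_eq_or_eq_neg.1 ?_
    rw [hS]; push_cast; ring
  have er : ((2 : ZMod r)) ^ m = -1 := by
    rw [eq_neg_iff_add_eq_zero]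
    have : ((2 ^ m + 1 : ℕ) : ZMod r) = 0 := by rw [← hrm, ZMod.natCast_self]
    simpa using this
  have h2r : (2 : ZMod r) ≠ 0 := by
    intro h
    have h' : ((2 : ℕ) : ZMod r) = 0 := by simpa using h
    rw [ZMod.natCast_eq_zero_iff] at h'
    exact hr2 ((Nat.prime_dvd_prime_iff_eq hr Nat.prime_two).1 h')
  have hSr : ((S : ℤ) : ZMod r) = 2 := by
    have h1 := (ZMod.natCast_eq_natCast_iff _ _ _).2 hNr
    rw [hSdef]
    push_cast
    push_cast at h1
    rw [h1, pow_succ, mul_comm 2 m, pow_mul, er]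
    ring
  have hneg : S = -2 ^ (m + 1) := hS'.resolve_left fun e => h2r (by
    rw [e] at hSr
    push_cast at hSr
    rw [pow_succ, er] at hSr
    have h4 : (2 : ZMod r) * 2 = 0 := by linear_combination -hSr
    haveI := Fact.mk hr
    rcases mul_eq_zero.1 h4 with h | h <;> exact absurd h h2r)
  have hSp : ((S : ℤ) : ZMod p) = 2 := by
    have h1 := (ZMod.natCast_eq_natCast_iff _ _ _).2 hNp
    have h2 := (ZMod.natCast_eq_natCast_iff _ _ _).2 hQp
    rw [show Nat.card (Q : Set G) = 2 ^ (2 * m + 1) from hcard] at h2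
    rw [hSdef]
    push_cast
    push_cast at h1 h2
    rw [h1, h2]
    ring
  rw [hneg] at hSp
  push_cast at hSp
  have h3 : ((2 * r : ℕ) : ZMod p) = 0 := by
    rw [hrm]; push_cast; linear_combination -hSp
  rw [ZMod.natCast_eq_zero_iff] at h3
  rcases hp.dvd_mul.1 h3 with h | h
  · exact hp2 ((Nat.prime_dvd_prime_iff_eq hp Nat.prime_two).1 h)
  · exact hpr ((Nat.prime_dvd_prime_iff_eq hp hr).1 h)

end Cfsg.Agent.FlavellGauss8
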