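import Cfsg.Agent.Lib.FlavellGen8Cover

/-!
The centre of `T` is not central in `X`: otherwise the normaliser of `T` centralises `T / Z` and the
transfer into `T / Z` is onto, so the subgroup generated by the `p`-elements is proper.
-/

set_option autoImplicit false
set_option linter.style.haveILetI false

open scoped commutatorElement

namespace Cfsg.Agent.Flavell8.Gen

open Subgroup

universe u

/-- An isometry commuting with an irreducible isometry of order dividing `2 ^ n + 1` has order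
dividing `2 ^ n + 1`. -/
theorem commutant_pow {M B : Type*} [AddCommGroup M] [Group B] (h2 : ∀ x : M, x + x = 0)
    (β : M → M → B) (hl : ∀ x x' y, β (x + x') y = β x y * β x' y)
    (hr : ∀ x y y', β x (y + y') = β x y * β x y') (hnd : ∀ y, (∀ x, β x y = 1) → y = 0)
    (A c : AddMonoid.End M) (hA : ∀ x y, β (A x) (A y) = β x y)
    (hc : ∀ x y, β (c x) (c y) = β x y) (hAc : Commute A c)
    (hirr : ∀ U : AddSubgroup M, (∀ x ∈ U, A x ∈ U) → U = ⊥ ∨ U = ⊤) {n : ℕ}
    (hAN : A ^ (2 ^ n + 1) = 1) : c ^ (2 ^ n + 1) = 1 := by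
  have hself : ∀ f : AddMonoid.End M, f + f = 0 := fun f => AddMonoidHom.ext fun x => h2 (f x)
  have hsq : ∀ f f' : AddMonoid.End M, Commute f f' → (f + f') ^ 2 = f ^ 2 + f' ^ 2 := by
    intro f f' hf
    rw [pow_two, pow_two, pow_two, add_mul, mul_add, mul_add, ← hf.eq]
    rw [show f * f + f * f' + (f * f' + f' * f') = f * f + f' * f' + (f * f' + f * f') by abel,
      hself, add_zero]
  have hfrob : ∀ (k : ℕ) (f f' : AddMonoid.End M), Commute f f' →
      (f + f') ^ 2 ^ k = f ^ 2 ^ k + f' ^ 2 ^ k := by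
    intro k
    induction k with
    | zero => intro f f' _; simp
    | succ k ih =>
        intro f f' hf
        rw [pow_succ, pow_mul, ih f f' hf, hsq _ _ (hf.pow_pow _ _), ← pow_mul, ← pow_mul]
  have hl0 : ∀ y, β 0 y = 1 := fun y => by
    have := hl 0 0 y
    rw [add_zero] at this
    exact left_eq_mul.1 this
  have hr0 : ∀ x, β x 0 = 1 := fun x => by
    have := hr x 0 0
    rw [add_zero] at this
    exact left_eq_mul.1 this
  let P : AddMonoid.End M → Prop := fun g =>
    (∀ f, Commute f A → Commute f g) ∧ ∀ x y, β (g x) y = β x ((g ^ 2 ^ n) y)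
  have P0 : P 0 := ⟨fun f _ => Commute.zero_right f, fun x y => by
    rw [zero_pow (by positivity : (2 : ℕ) ^ n ≠ 0)]
    exact (hl0 y).trans (hr0 x).symm⟩
  have P1 : P 1 := ⟨fun f _ => Commute.one_right f, fun x y => by rw [one_pow]; rfl⟩
  have Padd : ∀ g g', P g → P g' → P (g + g') := fun g g' hg hg' =>
    ⟨fun f hf => (hg.1 f hf).add_right (hg'.1 f hf), fun x y => by
      rw [hfrob n g g' (hg'.1 g (hg.1 A (Commute.refl A)).symm)]
      show β (g x + g' x) y = β x ((g ^ 2 ^ n) y + (g' ^ 2 ^ n) y)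
      rw [hl, hr, hg.2, hg'.2]⟩
  have Pmul : ∀ g, P g → P (A * g) := fun g hg =>
    ⟨fun f hf => hf.mul_right (hg.1 f hf), fun x y => by
      have hy : A ((A ^ 2 ^ n) y) = y := by
        show (A * A ^ 2 ^ n) y = y
        rw [← pow_succ', hAN]
        rfl
      have hgA : Commute A g := hg.1 A (Commute.refl A)
      rw [hgA.mul_pow, (hgA.pow_pow _ _).eq]
      show β (A (g x)) y = β x ((g ^ 2 ^ n) ((A ^ 2 ^ n) y))
      conv_lhs => rw [← hy, hA]
      exact hg.2 _ _⟩
  by_cases hM : ∀ x : M, x = 0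
  · exact AddMonoidHom.ext fun x => (hM _).trans (hM _).symm
  push Not at hM
  obtain ⟨x0, hx0⟩ := hM
  have hneg : ∀ x : M, -x = x := fun x => neg_eq_of_add_eq_zero_left (h2 x)
  let U : AddSubgroup M :=
    { carrier := {y | ∃ g, P g ∧ g x0 = y}
      zero_mem' := ⟨0, P0, rfl⟩
      add_mem' := fun {y y'} hy hy' => by
        obtain ⟨g, hg, rfl⟩ := hy
        obtain ⟨g', hg', rfl⟩ := hy'
        exact ⟨g + g', Padd g g' hg hg', rfl⟩
      neg_mem' := fun {y} hy => by rw [hneg]; exact hy }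
  have hUtop : U = ⊤ := by
    refine (hirr U ?_).resolve_left fun h => hx0 ?_
    · rintro y ⟨g, hg, rfl⟩
      exact ⟨A * g, Pmul g hg, rfl⟩
    · rw [← AddSubgroup.mem_bot, ← h]
      exact ⟨1, P1, rfl⟩
  obtain ⟨g, hg, hgx⟩ : c x0 ∈ U := hUtop ▸ AddSubgroup.mem_top _
  have hgA : Commute A g := hg.1 A (Commute.refl A)
  let E : AddSubgroup M :=
    { carrier := {x | c x = g x}
      zero_mem' := (map_zero c).trans (map_zero g).symm
      add_mem' := fun {x x'} hx hx' => by
        show c (x + x') = g (x + x')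
        rw [map_add, map_add, hx, hx']
      neg_mem' := fun {x} hx => by rw [hneg]; exact hx }
  have hE : E = ⊤ := by
    refine (hirr E fun x hx => ?_).resolve_left fun h => hx0 ?_
    · show c (A x) = g (A x)
      show (c * A) x = (g * A) x
      rw [← hAc.eq, ← hgA.eq]
      show A (c x) = A (g x)
      rw [show c x = g x from hx]
    · rw [← AddSubgroup.mem_bot, ← h]
      exact hgx.symm
  have hcg : c = g := AddMonoidHom.ext fun x => (hE ▸ AddSubgroup.mem_top x : x ∈ E)
  subst hcg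
  refine AddMonoidHom.ext fun y => ?_
  show (c ^ (2 ^ n + 1)) y = y
  have h0 : (c ^ (2 ^ n + 1)) y + y = 0 := hnd _ fun x => by
    rw [hr, pow_succ]
    show β x ((c ^ 2 ^ n) (c y)) * β x y = 1
    rw [← hg.2, hc, ← hr, h2, hr0]
  exact (eq_neg_of_add_eq_zero_left h0).trans (hneg y)

variable {Γ : Type u} [Group Γ] [Finite Γ]

theorem mem_normalizer_of_conj {K : Subgroup Γ} {g : Γ} (h : ∀ x ∈ K, g * x * g⁻¹ ∈ K) :
    g ∈ normalizer (K : Set Γ) := by
  have he : K.map (MulAut.conj g).toMonoidHom = K := eq_of_le_of_card_ge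
    (by rintro _ ⟨x, hx, rfl⟩; exact h x hx) (card_map_of_injective (MulEquiv.injective _)).ge
  rw [mem_normalizer_iff]
  refine fun x => ⟨h x, fun hx => ?_⟩
  rw [← he] at hx
  obtain ⟨y, hy, hye⟩ := hx
  exact (MulAut.conj g).injective hye ▸ hy

/-- If the centre of `T` is central in `X`, the normaliser of `T` centralises `T / Z`. -/
theorem comm_M_T {p r n : ℕ} {V X S W T : Subgroup Γ} {a : Γ} (h : Frame p r n V X S W T a)
    (hO : cen T ≤ centralizer (X : Set Γ)) :
    ∀ m ∈ X ⊓ normalizer (T : Set Γ), ∀ t ∈ T, ⁅m, t⁆ ∈ cen T := by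
  classical
  set Z := cen T with hZ
  have hTX : T ≤ X := h.TW.trans h.WX
  have hTa : ⁅T, zpowers a⁆ = T := by
    conv_rhs => rw [h.Tgen]
    rw [h.Tgen]
    refine CoprimeAction.commutator_commutator_eq (zpowers_le.2 h.aW) ?_
      (Or.inl (CoprimeAction.isSolvable_zpowers a))
    obtain ⟨e, he⟩ := (haveI := Fact.mk Nat.prime_two; IsPGroup.iff_card.1 h.W2)
    rw [Nat.card_zpowers, h.orda, he]
    exact ((Nat.coprime_primes h.hr Nat.prime_two).2 h.r2).pow_right _
  obtain ⟨x, hx, hxZ⟩ : ∃ x ∈ T, x ∉ Z := by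
    by_contra hno
    push Not at hno
    apply h.Tne
    rw [← hTa, commutator_eq_bot_iff_le_centralizer]
    intro t ht
    rw [mem_centralizer_iff]
    intro b hb
    obtain ⟨i, rfl⟩ := mem_zpowers_iff.1 hb
    exact ((Commute.zpow_left (h.a_cen (hno t ht) : Commute a t)) i).eq
  obtain ⟨lam, R, hc, hl, hxR⟩ := comp_exists_inv h hx hxZ
  have hlam : lam = ⊥ := eq_bot_iff.2 fun z hz => mem_bot.2 <| by
    by_contra hz1
    have hzZ := hc.lam_le hz
    exact hl z (h.Vinv z ⟨hTX hzZ.1, hO hzZ⟩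
      (orderOf_eq_prime (by rw [pow_two]; exact h.Zexp z hzZ) hz1)) hz
  have hR : R = Z := by
    refine le_antisymm (fun y hy => ⟨hc.RT hy, mem_centralizer_iff.2 fun t ht => ?_⟩) hc.cenR
    have := (hc.rad y (hc.RT hy)).1 hy t ht
    rw [hlam, mem_bot, commutatorElement_eq_one_iff_mul_comm] at this
    exact this.symm
  letI : CommGroup Z := { (inferInstance : Group Z) with
    mul_comm := fun y y' => Subtype.ext (mem_centralizer_iff.1 y'.2.2 y y.2.1) }
  have hof : ∀ t : T, Abelianization.of t = 1 ↔ (t : Γ) ∈ Z := fun t => by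
    rw [← MonoidHom.mem_ker, Abelianization.ker_of, hZ, ← derived_eq h]
    rw [← map_subtype_commutator]
    exact (mem_map_iff_mem T.subtype_injective).symm
  let β0 : T → (T →* Z) := fun y => MonoidHom.mk'
    (fun y' => ⟨⁅(y : Γ), (y' : Γ)⁆, h.Tcomm (commutator_mem_commutator y.2 y'.2)⟩)
    (fun y1 y2 => Subtype.ext <| by
      show ⁅(y : Γ), (y1 : Γ) * y2⁆ = ⁅(y : Γ), (y1 : Γ)⁆ * ⁅(y : Γ), (y2 : Γ)⁆
      have hcm : (y1 : Γ) * ⁅(y : Γ), (y2 : Γ)⁆ = ⁅(y : Γ), (y2 : Γ)⁆ * y1 :=
        mem_centralizer_iff.1 (h.Tcomm (commutator_mem_commutator y.2 y2.2)).2 y1 y1.2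
      calc ⁅(y : Γ), (y1 : Γ) * y2⁆
          = ⁅(y : Γ), (y1 : Γ)⁆ * ((y1 : Γ) * ⁅(y : Γ), (y2 : Γ)⁆ * (y1 : Γ)⁻¹) := by
            simp only [commutatorElement_def]; group
        _ = _ := by rw [hcm, mul_inv_cancel_right])
  let β1 : T →* (Abelianization T →* Z) := MonoidHom.mk' (fun y => Abelianization.lift (β0 y))
    (fun y1 y2 => by
      refine Abelianization.hom_ext _ _ (MonoidHom.ext fun y' => Subtype.ext ?_)
      show ⁅(y1 : Γ) * y2, (y' : Γ)⁆ = ⁅(y1 : Γ), (y' : Γ)⁆ * ⁅(y2 : Γ), (y' : Γ)⁆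
      have hcm : (y1 : Γ) * ⁅(y2 : Γ), (y' : Γ)⁆ = ⁅(y2 : Γ), (y' : Γ)⁆ * y1 :=
        mem_centralizer_iff.1 (h.Tcomm (commutator_mem_commutator y2.2 y'.2)).2 y1 y1.2
      have hcm' : ⁅(y1 : Γ), (y' : Γ)⁆ * ⁅(y2 : Γ), (y' : Γ)⁆ =
          ⁅(y2 : Γ), (y' : Γ)⁆ * ⁅(y1 : Γ), (y' : Γ)⁆ :=
        mem_centralizer_iff.1 (h.Tcomm (commutator_mem_commutator y2.2 y'.2)).2 _
          (h.Tcomm (commutator_mem_commutator y1.2 y'.2)).1
      calc ⁅(y1 : Γ) * y2, (y' : Γ)⁆
          = ((y1 : Γ) * ⁅(y2 : Γ), (y' : Γ)⁆ * (y1 : Γ)⁻¹) * ⁅(y1 : Γ), (y' : Γ)⁆ := by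
            simp only [commutatorElement_def]; group
        _ = _ := by rw [hcm, mul_inv_cancel_right, hcm'])
  let β : Abelianization T →* (Abelianization T →* Z) := Abelianization.lift β1
  have hβ : ∀ y y' : T, ((β (Abelianization.of y) (Abelianization.of y') : Z) : Γ) =
      ⁅(y : Γ), (y' : Γ)⁆ := fun y y' => by
    simp [β, β1, β0]
  -- the action of the normaliser
  let φ : normalizer (T : Set Γ) →* AddMonoid.End (Additive (Abelianization T)) :=
    { toFun := fun g => MonoidHom.toAdditive (Abelianization.map (T.normalizerMonoidHom g).toMonoidHom)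
      map_one' := by
        rw [map_one, show ((1 : MulAut T) : T ≃* T).toMonoidHom = MonoidHom.id T from rfl,
          Abelianization.map_id]
        rfl
      map_mul' := fun g g' => by
        rw [map_mul, show ((T.normalizerMonoidHom g * T.normalizerMonoidHom g' : MulAut T) :
            T ≃* T).toMonoidHom = (T.normalizerMonoidHom g).toMonoidHom.comp
              (T.normalizerMonoidHom g').toMonoidHom from rfl, ← Abelianization.map_comp]
        rfl }
  have hφ : ∀ (g : normalizer (T : Set Γ)) (y : T),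
      φ g (Additive.ofMul (Abelianization.of y)) =
        Additive.ofMul (Abelianization.of (T.normalizerMonoidHom g y)) := fun g y => rfl
  have hpres : ∀ g : normalizer (T : Set Γ), (∀ z ∈ Z, (g : Γ) * z = z * g) →
      ∀ x y, β ((φ g x).toMul) ((φ g y).toMul) = β x.toMul y.toMul := by
    intro g hg x y
    obtain ⟨x', hx'⟩ := QuotientGroup.mk_surjective x.toMul
    obtain ⟨y', hy'⟩ := QuotientGroup.mk_surjective y.toMul
    obtain rfl : Additive.ofMul (Abelianization.of x') = x := congrArg Additive.ofMul hx'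
    obtain rfl : Additive.ofMul (Abelianization.of y') = y := congrArg Additive.ofMul hy'
    refine Subtype.ext ?_
    rw [hφ, hφ, toMul_ofMul, toMul_ofMul, toMul_ofMul, toMul_ofMul, hβ, hβ]
    have hcm := hg _ (h.Tcomm (commutator_mem_commutator x'.2 y'.2))
    calc ⁅(g : Γ) * x' * (g : Γ)⁻¹, (g : Γ) * y' * (g : Γ)⁻¹⁆
        = (g : Γ) * ⁅(x' : Γ), (y' : Γ)⁆ * (g : Γ)⁻¹ := by simp only [commutatorElement_def]; group
      _ = _ := by rw [hcm, mul_inv_cancel_right]
  -- the fixed elements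
  have hfix : ∀ c ∈ fixA X a, c ∈ normalizer (T : Set Γ) → ∀ t ∈ T, ⁅c, t⁆ ∈ Z := by
    intro c hc' hcN t ht
    have hca : a * c = c * a := (mem_centralizer_singleton_iff.1 hc'.2).symm
    have hpow : φ ⟨c, hcN⟩ ^ (2 ^ n + 1) = 1 := by
      refine commutant_pow (fun x => ?_) (fun x y => β x.toMul y.toMul) (fun x x' y => by
          simp only [toMul_add, map_mul, MonoidHom.mul_apply])
        (fun x y y' => by simp only [toMul_add, map_mul]) (fun y hy => ?_)
        (φ ⟨a, h.aT⟩) _ (hpres _ fun z hz => h.a_cen hz)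
        (hpres _ fun z hz => mem_centralizer_iff.1 (hO hz) c hc'.1) ?_ (fun U hU => ?_) ?_
      · obtain ⟨x', hx'⟩ := QuotientGroup.mk_surjective x.toMul
        obtain rfl : Additive.ofMul (Abelianization.of x') = x := congrArg Additive.ofMul hx'
        rw [← ofMul_mul, ← map_mul, (hof _).2 (h.Tsq _ x'.2)]
        rfl
      · obtain ⟨y', hy'⟩ := QuotientGroup.mk_surjective y.toMul
        obtain rfl : Additive.ofMul (Abelianization.of y') = y := congrArg Additive.ofMul hy'
        rw [(hof y').2 ⟨y'.2, mem_centralizer_iff.2 fun s hs => ?_⟩]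
        · rfl
        refine commutatorElement_eq_one_iff_mul_comm.1 ?_
        rw [← hβ ⟨s, hs⟩ y']
        exact congrArg Subtype.val (hy (Additive.ofMul (Abelianization.of ⟨s, hs⟩)))
      · show φ _ * φ _ = φ _ * φ _
        rw [← map_mul, ← map_mul]
        exact congrArg φ (Subtype.ext hca)
      · -- irreducibility
        let U0 : Subgroup Γ :=
          ((AddSubgroup.toSubgroup' U).comap (Abelianization.of : T →* Abelianization T)).map T.subtype
        have hmemU0 : ∀ y : T, (y : Γ) ∈ U0 ↔ Additive.ofMul (Abelianization.of y) ∈ U := fun y =>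
          (mem_map_iff_mem T.subtype_injective).trans Iff.rfl
        have hU0T : U0 ≤ T := map_subtype_le _
        have hZU0 : Z ≤ U0 := fun z hz => (hmemU0 ⟨z, hz.1⟩).2 (by
          rw [(hof _).2 hz]; exact U.zero_mem)
        have haU0 : a ∈ normalizer (U0 : Set Γ) := by
          refine mem_normalizer_of_conj ?_
          rintro y hy
          exact (hmemU0 ⟨a * y * a⁻¹, CoprimeAction.conj_mem h.aT (hU0T hy)⟩).2
            (hU _ ((hmemU0 ⟨y, hU0T hy⟩).1 hy))
        rcases hc.irred U0 (hR ▸ hZU0) hU0T haU0 with h1 | h1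
        · refine Or.inl (eq_bot_iff.2 fun y hy => ?_)
          obtain ⟨y', hy'⟩ := QuotientGroup.mk_surjective y.toMul
          obtain rfl : Additive.ofMul (Abelianization.of y') = y := congrArg Additive.ofMul hy'
          have := (hmemU0 y').2 hy
          rw [h1, hR] at this
          rw [AddSubgroup.mem_bot, (hof _).2 this]
          rfl
        · refine Or.inr (eq_top_iff.2 fun y _ => ?_)
          obtain ⟨y', hy'⟩ := QuotientGroup.mk_surjective y.toMul
          obtain rfl : Additive.ofMul (Abelianization.of y') = y := congrArg Additive.ofMul hy'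
          exact (hmemU0 y').1 (h1.symm ▸ y'.2)
      · rw [← map_pow, ← map_one φ, ← h.rn]
        refine congrArg φ (Subtype.ext ?_)
        show a ^ r = 1
        rw [← h.orda, pow_orderOf_eq_one]
    have hgcd : Nat.gcd (orderOf c) r = 1 := by
      refine (h.hr.coprime_iff_not_dvd.2 fun hd => h.rX ?_).symm
      exact hd.trans (Subgroup.orderOf_dvd_natCard X hc'.1)
    have h1 : φ ⟨c, hcN⟩ = 1 := by
      have h2 : φ ⟨c, hcN⟩ ^ orderOf c = 1 := by
        rw [← map_pow, ← map_one φ]
        exact congrArg φ (Subtype.ext (pow_orderOf_eq_one c))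
      rw [← h.rn] at hpow
      have := pow_gcd_eq_one.2 ⟨h2, hpow⟩
      rwa [hgcd, pow_one] at this
    have h3 : Abelianization.of (T.normalizerMonoidHom ⟨c, hcN⟩ ⟨t, ht⟩) =
        Abelianization.of (⟨t, ht⟩ : T) := by
      have := hφ ⟨c, hcN⟩ ⟨t, ht⟩
      rw [h1] at this
      exact Additive.ofMul.injective this.symm
    rw [← mul_inv_eq_one, ← map_inv, ← map_mul, hof] at h3
    exact h3
  intro m hm t ht
  obtain ⟨c, hc', τ, hτ, hcN, rfl⟩ := h.Mdecomp m hm
  have e : ⁅c * τ, t⁆ = c * ⁅τ, t⁆ * c⁻¹ * ⁅c, t⁆ := by simp only [commutatorElement_def]; group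
  have hz := h.Tcomm (commutator_mem_commutator hτ ht)
  rw [e, mem_centralizer_iff.1 (hO hz) c hc'.1, mul_inv_cancel_right]
  exact mul_mem hz (hfix c hc' hcN t ht)

/-- An invariant subset of a two-group action: parity is carried by the fixed points. -/
theorem ncard_mod_two {G α : Type*} [Group G] [MulAction G α] [Finite α] (hG : IsPGroup 2 G)
    (s : Set α) (hs : ∀ g : G, ∀ x ∈ s, g • x ∈ s) :
    s.ncard ≡ (s ∩ MulAction.fixedPoints G α).ncard [MOD 2] := by
  haveI := Fact.mk Nat.prime_two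
  let P : SubMulAction G α := ⟨s, fun g {x} hx => hs g x hx⟩
  have h := hG.card_modEq_card_fixedPoints (α := P)
  rw [show Nat.card P = s.ncard from Nat.card_coe_set_eq s] at h
  rw [← Nat.card_coe_set_eq (s ∩ MulAction.fixedPoints G α)]
  refine h.trans ?_
  rw [Nat.card_congr (α := MulAction.fixedPoints G P) (β := ↥(s ∩ MulAction.fixedPoints G α))
    ⟨fun x => ⟨x.1.1, x.1.2, fun g => congrArg Subtype.val (x.2 g)⟩,
      fun x => ⟨⟨x.1, x.2.1⟩, fun g => Subtype.ext (x.2.2 g)⟩, fun x => rfl, fun x => rfl⟩]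

/-- The transfer as a product over the cosets. -/
theorem transfer_eq_prod {G A : Type*} [Group G] [Finite G] [CommGroup A] {H : Subgroup G}
    [hF : Fintype (G ⧸ H)] (f : H →* A) (g : G) :
    f.transfer g = ∏ x : G ⧸ H, f ⟨((g • x).out)⁻¹ * g * x.out, by
      rw [mul_assoc, ← QuotientGroup.eq, QuotientGroup.out_eq', ← smul_eq_mul,
        ← MulAction.Quotient.smul_coe, QuotientGroup.out_eq']⟩ := by
  have hsec : ∀ q : G ⧸ H, ((q.out : G) : G ⧸ H) = q := fun q => q.out_eq'
  let S : H.LeftTransversal := ⟨Set.range fun q : G ⧸ H => q.out, isComplement_range_left hsec⟩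
  obtain rfl : hF = H.fintypeQuotientOfFiniteIndex := Subsingleton.elim _ _
  letI := H.fintypeQuotientOfFiniteIndex
  rw [f.transfer_def S g, leftTransversals.diff]
  refine Fintype.prod_equiv (MulAction.toPerm g⁻¹) _ _ fun q => ?_
  congr 1
  refine Subtype.ext ?_
  simp only [smul_apply_eq_smul_apply_inv_smul, MulAction.toPerm_apply, smul_eq_mul,
    IsComplement.leftQuotientEquiv_apply hsec, smul_inv_smul, mul_assoc]

/-- The centre of `T` is not central in `X`. -/
theorem cen_not_central {p r n : ℕ} {V X S W T : Subgroup Γ} {a : Γ}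
    (h : Frame p r n V X S W T a) : ¬ cen T ≤ centralizer (X : Set Γ) := by
  classical
  intro hO
  haveI := Fact.mk h.hp
  haveI : Fact (Nat.Prime 2) := ⟨Nat.prime_two⟩
  have hM := comm_M_T h hO
  have hTX : T ≤ X := h.TW.trans h.WX
  set Z := cen T with hZ
  have hof : ∀ t : T, Abelianization.of t = 1 ↔ (t : Γ) ∈ Z := fun t => by
    rw [← MonoidHom.mem_ker, Abelianization.ker_of, hZ, ← derived_eq h]
    rw [← map_subtype_commutator]
    exact (mem_map_iff_mem T.subtype_injective).symm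
  have hofeq : ∀ s t : T, (s : Γ)⁻¹ * t ∈ Z → Abelianization.of s = Abelianization.of t :=
    fun s t hst => by
      rw [← inv_mul_eq_one, ← map_inv, ← map_mul, hof]
      exact hst
  have hcA : centralizer (zpowers a : Set Γ) = centralizer ({a} : Set Γ) := by
    rw [zpowers_eq_closure, centralizer_closure]
  obtain ⟨eW, heW⟩ := IsPGroup.iff_card.1 h.W2
  obtain ⟨t0, ht0, ht0Z⟩ : ∃ x ∈ T, x ∉ Z := by
    by_contra hno
    push Not at hno
    have hab : ⁅T, T⁆ = ⊥ := commutator_eq_bot_iff_le_centralizer.2 fun t ht => (hno t ht).2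
    have hZb : Z = ⊥ := by rw [hZ, ← derived_eq h, hab]
    exact h.Tne (eq_bot_iff.2 fun t ht => hZb ▸ hno t ht)
  -- projection of `W` to `T / Z`
  have hWM : W ≤ X ⊓ normalizer (T : Set Γ) := le_inf h.WX h.WT
  have hdec : ∀ w : W, ∃ t : T, ∃ c ∈ W ⊓ centralizer ({a} : Set Γ), (w : Γ) = t * c := by
    intro w
    obtain ⟨t, ht, c, hc, he⟩ := CoprimeAction.exists_mul_fixed (zpowers_le.2 h.aW) (by
        rw [Nat.card_zpowers, h.orda, heW]
        exact ((Nat.coprime_primes h.hr Nat.prime_two).2 h.r2).pow_right _)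
      (Or.inl (CoprimeAction.isSolvable_zpowers a)) w.2
    rw [← h.Tgen] at ht
    rw [hcA] at hc
    exact ⟨⟨t, ht⟩, c, hc, he⟩
  choose pt pc hpc hpt using hdec
  have huniq : ∀ (w : W) (t : T) (c : Γ), c ∈ W ⊓ centralizer ({a} : Set Γ) → (w : Γ) = t * c →
      Abelianization.of (pt w) = Abelianization.of t := by
    intro w t c hc he
    refine hofeq _ _ ?_
    have h1 : (pt w : Γ)⁻¹ * t = pc w * c⁻¹ := by
      rw [eq_mul_inv_iff_mul_eq, mul_assoc, ← he, hpt w, inv_mul_cancel_left]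
    rw [hZ, ← h.Tfix]
    refine mem_inf.2 ⟨mul_mem (inv_mem (pt w).2) t.2, ?_⟩
    rw [h1]
    exact mul_mem (mem_inf.1 (hpc w)).2 (inv_mem (mem_inf.1 hc).2)
  let proj : W →* Abelianization T := MonoidHom.mk' (fun w => Abelianization.of (pt w))
    (fun w w' => by
      have hcN : pc w ∈ normalizer (T : Set Γ) := h.WT (hpc w).1
      have e : ((w * w' : W) : Γ) =
          ((pt w * ⟨pc w * pt w' * (pc w)⁻¹, CoprimeAction.conj_mem hcN (pt w').2⟩ : T) : Γ) *
            (pc w * pc w') := by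
        simp only [Subgroup.coe_mul]
        rw [hpt w, hpt w']
        group
      rw [huniq _ _ _ (mul_mem (hpc w) (hpc w')) e, map_mul]
      congr 1
      refine hofeq _ _ ?_
      show (pc w * (pt w' : Γ) * (pc w)⁻¹)⁻¹ * (pt w' : Γ) ∈ Z
      have := hM (pc w) (hWM (hpc w).1) _ (inv_mem (pt w').2)
      simpa [commutatorElement_def, mul_assoc] using this)
  have hprojT : ∀ (t : Γ) (ht : t ∈ T), proj ⟨t, h.TW ht⟩ = Abelianization.of (⟨t, ht⟩ : T) :=
    fun t ht => huniq _ ⟨t, ht⟩ 1 (one_mem _) (mul_one t).symm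
  have hprojZ : ∀ (z : Γ) (hz : z ∈ Z), proj ⟨z, h.TW hz.1⟩ = 1 := fun z hz => by
    rw [hprojT z hz.1, hof]
    exact hz
  -- `W` is a Sylow subgroup and its normaliser lies in `M`
  have hWodd : ¬ 2 ∣ (W.subgroupOf X).index := by
    obtain ⟨P, hWP, haP⟩ := CoprimeAction.exists_invariant_sylow_ge (p := 2) (A := zpowers a)
      (K := X) (zpowers_le.2 h.aX) (by
        rw [Nat.card_zpowers, h.orda]
        exact h.hr.coprime_iff_not_dvd.2 h.rX) (Or.inl (CoprimeAction.isSolvable_zpowers a))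
      h.WX h.W2 (zpowers_le.2 h.aW)
    obtain ⟨c, hc, hPc⟩ := h.inv2 _ (map_subtype_le _) (haP (mem_zpowers a)) (P.2.map X.subtype)
    have heq : W = (P : Subgroup X).map X.subtype := eq_of_le_of_card_ge hWP
      ((card_le_of_le hPc).trans (card_map_of_injective (MulEquiv.injective _)).le)
    rw [heq, subgroupOf, comap_map_eq_self_of_injective X.subtype_injective]
    exact P.not_dvd_index
  have hNW : X ⊓ normalizer (W : Set Γ) ≤ normalizer (T : Set Γ) := by
    refine h.overT _ inf_le_left (fun he => ?_)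
      (inf_normalizer_le_normalizer_inf ⟨h.aX, le_normalizer h.aW⟩)
      (le_inf hTX (h.TW.trans le_normalizer))
    have hWc := h.normalP' W h.WX h.aW (he ▸ inf_le_right) (fun hd => by
      rw [heW] at hd
      exact h.hp2 ((Nat.prime_dvd_prime_iff_eq h.hp Nat.prime_two).1 (h.hp.dvd_of_dvd_pow hd)))
    exact ht0Z ⟨ht0, centralizer_le hTX (hWc (h.TW ht0))⟩
  -- the transfer
  set H := W.subgroupOf X with hH
  haveI : Fintype (X ⧸ H) := Fintype.ofFinite _
  let f : H →* Abelianization T := proj.comp (subgroupOfEquivOfLe h.WX).toMonoidHom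
  have hf : ∀ u : H, f u = proj ⟨((u : X) : Γ), u.2⟩ := fun u => rfl
  let g : X := ⟨t0, hTX ht0⟩
  have hgH : g ∈ H := h.TW ht0
  have hgg : ∀ x : X, g * g * x = x * (g * g) := fun x =>
    Subtype.ext (mem_centralizer_iff.1 (hO (h.Tsq t0 ht0)) x x.2).symm
  have hfix_conj : ∀ (x : X ⧸ H), g • x = x → x.out⁻¹ * g * x.out ∈ H := by
    intro x hx
    rw [mul_assoc, ← QuotientGroup.eq, ← smul_eq_mul, ← MulAction.Quotient.smul_coe,
      QuotientGroup.out_eq', hx]
  let F : X ⧸ H → Abelianization T := fun x =>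
    if hx : g • x = x then f ⟨_, hfix_conj x hx⟩ else 1
  -- the product over the moved cosets is trivial
  have h2 : ∀ x : X ⧸ H, g • g • x = x := fun x => by
    rw [← mul_smul, ← QuotientGroup.out_eq' x, MulAction.Quotient.smul_coe, smul_eq_mul, hgg,
      QuotientGroup.eq]
    simpa using inv_mem (mul_mem hgH hgH)
  have hsplit : f.transfer g = ∏ x : X ⧸ H, F x := by
    rw [transfer_eq_prod f g]
    rw [← Finset.prod_filter_mul_prod_filter_not Finset.univ (fun x : X ⧸ H => g • x = x),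
      ← Finset.prod_filter_mul_prod_filter_not Finset.univ (fun x : X ⧸ H => g • x = x) F]
    congr 1
    · refine Finset.prod_congr rfl fun x hx => ?_
      have hx' : g • x = x := (Finset.mem_filter.1 hx).2
      simp only [F, dif_pos hx']
      exact congrArg f (Subtype.ext (by simp only [hx']))
    · rw [Finset.prod_eq_one (f := F) fun x hx => dif_neg (Finset.mem_filter.1 hx).2]
      refine Finset.prod_involution (fun x _ => g • x) (fun x _ => ?_)
        (fun x hx _ => (Finset.mem_filter.1 hx).2) (fun x hx => ?_) (fun x _ => h2 x)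
      · rw [mul_comm, ← map_mul, hf]
        have hz : t0 * t0 ∈ Z := h.Tsq t0 ht0
        rw [← hprojZ _ hz]
        refine congrArg proj (Subtype.ext ?_)
        simp only [Subgroup.coe_mul, h2 x]
        have hc := mem_centralizer_iff.1 (hO hz) (x.out : Γ) x.out.2
        show (x.out : Γ)⁻¹ * t0 * ((g • x).out : Γ) * (((g • x).out : Γ)⁻¹ * t0 * (x.out : Γ)) = _
        calc (x.out : Γ)⁻¹ * t0 * ((g • x).out : Γ) * (((g • x).out : Γ)⁻¹ * t0 * (x.out : Γ))
            = (x.out : Γ)⁻¹ * (t0 * t0 * (x.out : Γ)) := by group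
          _ = _ := by rw [← hc, inv_mul_cancel_left]
      · refine Finset.mem_filter.2 ⟨Finset.mem_univ _, fun he => (Finset.mem_filter.1 hx).2 ?_⟩
        rw [h2 x] at he
        exact he.symm
  -- `W` permutes the fixed cosets preserving the terms
  have hmove : ∀ u : H, ∀ x : X ⧸ H, g • x = x →
      g • (u • x) = u • x ∧ F (u • x) = F x := by
    intro u x hx
    have hz : ⁅t0⁻¹, ((u : X) : Γ)⁻¹⁆ ∈ Z := by
      rw [← commutatorElement_inv]
      exact inv_mem (hM _ (inv_mem (hWM u.2)) _ (inv_mem ht0))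
    set z : X := ⟨_, hTX hz.1⟩ with hzdef
    have hzH : z ∈ H := h.TW hz.1
    have e : g * (u : X) = (u : X) * (g * z) := Subtype.ext (by
      show t0 * ((u : X) : Γ) = ((u : X) : Γ) * (t0 * ⁅t0⁻¹, ((u : X) : Γ)⁻¹⁆)
      simp only [commutatorElement_def]; group)
    have hzx : ∀ y : X, z * y = y * z := fun y =>
      Subtype.ext (mem_centralizer_iff.1 (hO hz) y y.2).symm
    have hzfix : z • x = x := by
      rw [← QuotientGroup.out_eq' x, MulAction.Quotient.smul_coe, smul_eq_mul, hzx, QuotientGroup.eq]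
      simpa using hzH
    have hgu : g • (u • x) = u • x := by
      show g • ((u : X) • x) = (u : X) • x
      rw [← mul_smul, e, mul_smul, mul_smul, hzfix, hx]
    refine ⟨hgu, ?_⟩
    simp only [F, dif_pos hx, dif_pos hgu]
    -- change of representative
    have hmem : ((u : X) * x.out)⁻¹ * (u • x).out ∈ H := by
      rw [← QuotientGroup.eq, QuotientGroup.out_eq']
      show (((u : X) * x.out : X) : X ⧸ H) = (u : X) • x
      conv_rhs => rw [← QuotientGroup.out_eq' x]
      rfl
    set k : H := ⟨_, hmem⟩ with hk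
    have hkey : (⟨_, hfix_conj _ hgu⟩ : H) = k⁻¹ * (⟨_, hfix_conj x hx⟩ * ⟨z, hzH⟩) * k := by
      refine Subtype.ext ?_
      show (u • x).out⁻¹ * g * (u • x).out = (((u : X) * x.out)⁻¹ * (u • x).out)⁻¹ *
        ((x.out⁻¹ * g * x.out) * z) * (((u : X) * x.out)⁻¹ * (u • x).out)
      rw [show x.out⁻¹ * g * x.out * z = x.out⁻¹ * (g * z) * x.out by
        rw [mul_assoc, ← hzx, mul_assoc, mul_assoc, mul_assoc]]
      rw [show g * z = (u : X)⁻¹ * (g * u) by rw [e, inv_mul_cancel_left]]
      group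
    rw [hkey, map_mul, map_mul, map_mul, map_inv, mul_comm, ← mul_assoc, mul_inv_cancel, one_mul,
      hf ⟨z, hzH⟩, hprojZ _ hz, mul_one]
  have hH2 : IsPGroup 2 H := h.W2.comap_subtype
  have hFfix : ∀ x ∈ MulAction.fixedPoints H (X ⧸ H), g • x = x ∧
      F x = Abelianization.of (⟨t0, ht0⟩ : T) := by
    intro x hx
    have hgx : g • x = x := hx ⟨g, hgH⟩
    refine ⟨hgx, ?_⟩
    have hN : (x.out : Γ)⁻¹ ∈ normalizer (W : Set Γ) := by
      refine mem_normalizer_of_conj ?_
      rintro w hw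
      have h3 : (⟨⟨w, h.WX hw⟩, hw⟩ : H) • x = x := hx _
      have h4 : x.out⁻¹ * (⟨w, h.WX hw⟩ : X) * x.out ∈ H := by
        rw [mul_assoc, ← QuotientGroup.eq, ← smul_eq_mul, ← MulAction.Quotient.smul_coe,
          QuotientGroup.out_eq']
        exact h3.symm
      simpa [Subgroup.mem_subgroupOf, hH] using h4
    have hsM : (x.out : Γ)⁻¹ ∈ X ⊓ normalizer (T : Set Γ) :=
      mem_inf.2 ⟨inv_mem x.out.2, hNW (mem_inf.2 ⟨inv_mem x.out.2, hN⟩)⟩
    simp only [F, dif_pos hgx]
    rw [hf]
    have hmemT : (x.out : Γ)⁻¹ * t0 * (x.out : Γ) ∈ T := by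
      simpa using CoprimeAction.conj_mem hsM.2 ht0
    refine (hprojT _ hmemT).trans (hofeq _ _ ?_)
    have := hM _ hsM _ (inv_mem ht0)
    simpa [commutatorElement_def, mul_assoc] using this
  have hval : ∏ x : X ⧸ H, F x = Abelianization.of (⟨t0, ht0⟩ : T) := by
    haveI : Fintype (Abelianization T) := Fintype.ofFinite _
    set b0 := Abelianization.of (⟨t0, ht0⟩ : T) with hb0
    have hb01 : b0 ≠ 1 := fun e => ht0Z ((hof _).1 e)
    have hexp : ∀ b : Abelianization T, b * b = 1 := fun b => by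
      obtain ⟨y, rfl⟩ := QuotientGroup.mk_surjective b
      exact (map_mul Abelianization.of y y).symm.trans ((hof _).2 (h.Tsq _ y.2))
    have hpar : ∀ b : Abelianization T, b ≠ 1 →
        {x : X ⧸ H | F x = b}.ncard % 2 = if b = b0 then 1 else 0 := by
      intro b hb
      have hinv : ∀ u : H, ∀ x ∈ {x : X ⧸ H | F x = b}, u • x ∈ {x : X ⧸ H | F x = b} := by
        intro u x hx
        by_cases hgx : g • x = x
        · exact (hmove u x hgx).2.trans hx
        · exact absurd ((dif_neg hgx).symm.trans hx : (1 : Abelianization T) = b) hb.symm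
      rw [ncard_mod_two hH2 _ hinv]
      split
      · next hbb =>
        subst hbb
        have hall : {x : X ⧸ H | F x = b0} ∩ MulAction.fixedPoints H (X ⧸ H) =
            MulAction.fixedPoints H (X ⧸ H) :=
          Set.inter_eq_right.2 fun x hx => (hFfix x hx).2
        have h3 := hH2.card_modEq_card_fixedPoints (α := X ⧸ H)
        rw [hall, ← Nat.card_coe_set_eq, ← h3]
        exact Nat.two_dvd_ne_zero.1 hWodd
      · next hbb =>
        have hemp : {x : X ⧸ H | F x = b} ∩ MulAction.fixedPoints H (X ⧸ H) = ∅ := by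
          ext x
          simp only [Set.mem_inter_iff, Set.mem_ofPred_eq, Set.mem_empty_iff_false, iff_false]
          exact fun ⟨h4, h5⟩ => hbb (h4.symm.trans (hFfix x h5).2)
        rw [hemp, Set.ncard_empty]
    rw [← Finset.prod_fiberwise' Finset.univ F (fun b => b)]
    simp only [Finset.prod_const]
    have hpw : ∀ (b : Abelianization T) (k : ℕ), b ^ k = b ^ (k % 2) := fun b k => by
      conv_lhs => rw [← Nat.mod_add_div k 2, pow_add, pow_mul, pow_two, hexp, one_pow, mul_one]
    have hcard : ∀ b : Abelianization T, (Finset.univ.filter fun x : X ⧸ H => F x = b).card =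
        {x : X ⧸ H | F x = b}.ncard := fun b => by
      rw [← Set.ncard_coe_finset, Finset.coe_filter_univ]
    rw [Fintype.prod_eq_single b0]
    · rw [hpw, hcard, hpar b0 hb01, if_pos rfl, pow_one]
    · intro b hb
      by_cases hb1 : b = 1
      · rw [hb1, one_pow]
      · rw [hpw, hcard, hpar b hb1, if_neg hb, pow_zero]
  -- the subgroup generated by the `p`-elements
  set K : Subgroup Γ := closure {x : Γ | x ∈ X ∧ ∃ j : ℕ, x ^ p ^ j = 1} with hK
  have hKX : K ≤ X := (closure_le X).2 fun x hx => hx.1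
  have hKn : ∀ γ : Γ, γ ∈ normalizer (X : Set Γ) → γ ∈ normalizer (K : Set Γ) := by
    intro γ hγ
    have hle : K.map (MulAut.conj γ).toMonoidHom ≤ K := by
      rw [hK, MonoidHom.map_closure, closure_le]
      rintro _ ⟨x, ⟨hx, j, hj⟩, rfl⟩
      refine subset_closure ⟨CoprimeAction.conj_mem hγ hx, j, ?_⟩
      show (γ * x * γ⁻¹) ^ p ^ j = 1
      rw [conj_pow, hj, mul_one, mul_inv_cancel]
    exact mem_normalizer_of_conj fun x hx => hle (mem_map_of_mem _ hx)
  have hKne : K ≠ X := by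
    intro he
    have hker : K ≤ (f.transfer.ker).map X.subtype := by
      rw [hK, closure_le]
      rintro x ⟨hx, j, hj⟩
      refine ⟨⟨x, hx⟩, ?_, rfl⟩
      rw [SetLike.mem_coe, MonoidHom.mem_ker]
      obtain ⟨y, hy⟩ := QuotientGroup.mk_surjective (f.transfer ⟨x, hx⟩)
      have h5 : (f.transfer ⟨x, hx⟩) ^ 2 = 1 := by
        rw [pow_two, ← hy]
        exact (map_mul Abelianization.of y y).symm.trans ((hof _).2 (h.Tsq _ y.2))
      have h6 : (f.transfer ⟨x, hx⟩) ^ p ^ j = 1 := by
        rw [← map_pow, show (⟨x, hx⟩ : X) ^ p ^ j = 1 from Subtype.ext hj, map_one]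
      have := pow_gcd_eq_one.2 ⟨h5, h6⟩
      rwa [Nat.Coprime.gcd_eq_one (((Nat.coprime_primes Nat.prime_two h.hp).2 h.hp2.symm).pow_right j),
        pow_one] at this
    obtain ⟨y, hy, hyt⟩ := hker (he.symm ▸ g.2 : (g : Γ) ∈ K)
    obtain rfl : y = g := Subtype.ext hyt
    rw [SetLike.mem_coe, MonoidHom.mem_ker, hsplit, hval, hof] at hy
    exact ht0Z hy
  have hKc := h.central K hKX hKne (fun x hx => hKn x (le_normalizer hx)) (hKn a h.aX)
  refine h.Snc fun x hx => hKc (subset_closure ⟨h.SX hx, ?_⟩)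
  obtain ⟨j, hj⟩ := h.Sp ⟨x, hx⟩
  exact ⟨j, congrArg Subtype.val hj⟩

end Cfsg.Agent.Flavell8.Gen
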