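import Cfsg.Agent.Lib.FlavellGen8Comp
import Cfsg.Agent.Lib.CoprimeTools

/-!
An invariant subgroup of `T` whose squares are central in `X` covers every constituent, and the
derived group of `T` is its centre.
-/

set_option autoImplicit false
set_option linter.style.haveILetI false

open scoped commutatorElement

namespace Cfsg.Agent.Flavell8.Gen

open Subgroup

universe u

variable {Γ : Type u} [Group Γ] [Finite Γ]

/-- An invariant subgroup of `T` over `Z` with squares in the centre of `X` is maximal with this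
property for the commutator pairing, and has the order of one constituent. -/
theorem ext_cover {p r n : ℕ} {V X S W T : Subgroup Γ} {a : Γ} (h : Frame p r n V X S W T a)
    {P : Subgroup Γ} (hPT : P ≤ T) (hZP : cen T ≤ P) (haP : a ∈ normalizer (P : Set Γ))
    (hsq : ∀ x ∈ P, x * x ∈ centralizer (X : Set Γ)) (hne : P ≠ cen T) :
    (∀ d ∈ T, (∀ e ∈ P, ⁅d, e⁆ ∈ centralizer (X : Set Γ)) → d ∈ P) ∧
      Nat.card P = 4 ^ n * Nat.card (cen T) := by
  set Z := cen T with hZ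
  have hTX : T ≤ X := h.TW.trans h.WX
  have hcomm : ∀ {g g' : Γ}, g ∈ T → g' ∈ T → ⁅g, g'⁆ ∈ Z := fun hg hg' =>
    h.Tcomm (commutator_mem_commutator hg hg')
  have hZc : ∀ {z g : Γ}, z ∈ Z → g ∈ T → g * z = z * g := fun hz hg =>
    mem_centralizer_iff.1 hz.2 _ hg
  have hPc : ∀ x ∈ P, ∀ y ∈ P, ⁅x, y⁆ ∈ centralizer (X : Set Γ) := by
    intro x hx y hy
    have h1 : x * y * (x * y) = x * x * (⁅x⁻¹, y⁆ * (y * y)) := by
      simp only [commutatorElement_def]
      group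
    have h2 : ⁅x⁻¹, y⁆ ∈ centralizer (X : Set Γ) := by
      have h3 : ⁅x⁻¹, y⁆ = (x * x)⁻¹ * (x * y * (x * y)) * (y * y)⁻¹ := by rw [h1]; group
      rw [h3]
      exact mul_mem (mul_mem (inv_mem (hsq x hx)) (hsq _ (mul_mem hx hy))) (inv_mem (hsq y hy))
    -- `⁅x, y⁆ = ⁅x⁻¹, y⁆⁻¹`
    have h4 : ⁅x, y⁆ = ⁅x⁻¹, y⁆⁻¹ := by
      have hz := hZc (hcomm (inv_mem (hPT hx)) (hPT hy)) (hPT hx)
      refine eq_inv_of_mul_eq_one_left ?_
      calc ⁅x, y⁆ * ⁅x⁻¹, y⁆ = ⁅x, y⁆ * (x * ⁅x⁻¹, y⁆ * x⁻¹) := by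
            rw [hz, mul_inv_cancel_right]
        _ = 1 := by simp only [commutatorElement_def]; group
    rw [h4]
    exact inv_mem h2
  -- an invariant abelian subgroup over `Z` is `Z`
  have habel : (∀ x ∈ P, ∀ y ∈ P, x * y = y * x) → False := by
    intro hab
    refine hne (le_antisymm (fun x hx => ?_) hZP)
    have := h.abel P (hPT.trans hTX) haP (h.T2.to_le hPT) hab hx
    rw [hZ, ← h.Tfix]
    exact ⟨hPT hx, this⟩
  -- the central involution
  obtain ⟨v0, hv0, hv01⟩ : ∃ v0 ∈ T ⊓ centralizer (X : Set Γ), v0 ≠ 1 := by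
    by_contra hno
    push Not at hno
    refine habel fun x hx y hy => commutatorElement_eq_one_iff_mul_comm.1 ?_
    exact hno _ ⟨(hcomm (hPT hx) (hPT hy)).1, hPc x hx y hy⟩
  have hOZ : ∀ {v : Γ}, v ∈ T → v ∈ centralizer (X : Set Γ) → v ∈ Z := fun hvT hvX =>
    ⟨hvT, centralizer_le hTX hvX⟩
  have hinv : ∀ v ∈ T, v ∈ centralizer (X : Set Γ) → v ≠ 1 → ∀ w ∈ V, v * w * v⁻¹ = w⁻¹ :=
    fun v hvT hvX hv1 => h.Vinv v ⟨hTX hvT, hvX⟩
      (orderOf_eq_prime (by rw [pow_two]; exact h.Zexp v (hOZ hvT hvX)) hv1)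
  -- the intersection with a constituent
  have hmeet : ∀ {lam R : Subgroup Γ}, Comp n T lam R a →
      (∀ v, (∀ w ∈ V, v * w * v⁻¹ = w⁻¹) → v ∉ lam) →
      ∀ z, z ∈ lam → z ∈ centralizer (X : Set Γ) → z = 1 := by
    intro lam R hc hl z hz hzX
    by_contra hz1
    exact hl z (hinv z (hc.lam_le hz).1 hzX hz1) hz
  have hTR : ∀ {lam R : Subgroup Γ}, Comp n T lam R a → T ≤ normalizer (R : Set Γ) := by
    intro lam R hc
    refine CoprimeAction.le_normalizer_of_conj_mem fun g hg x hx => ?_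
    rw [show g * x * g⁻¹ = ⁅g, x⁆ * x by rw [commutatorElement_def]; group]
    exact mul_mem (hc.cenR (hcomm hg (hc.RT hx))) hx
  have hcov : ∀ {lam R : Subgroup Γ}, Comp n T lam R a →
      (∀ v, (∀ w ∈ V, v * w * v⁻¹ = w⁻¹) → v ∉ lam) →
      P ⊔ R = T ∧ ∀ g ∈ T, ∃ e ∈ P, ∃ ρ ∈ R, g = e * ρ := by
    intro lam R hc hl
    have hT : P ⊔ R = T := by
      rcases hc.irred (P ⊔ R) le_sup_right (sup_le hPT hc.RT)
        (Subgroup.normalizer_inf_normalizer_le_normalizer_sup P R ⟨haP, hc.aR⟩) with h1 | h1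
      · exfalso
        have hPR : P ≤ R := le_sup_left.trans h1.le
        have he : ∀ x ∈ P, x * x = 1 := fun x hx =>
          hmeet hc hl _ (hc.sqR x (hPR hx)) (hsq x hx)
        refine habel fun x hx y hy => ?_
        have hi : ∀ z ∈ P, z⁻¹ = z := fun z hz => inv_eq_of_mul_eq_one_right (he z hz)
        calc x * y = (x * y)⁻¹ := (hi _ (mul_mem hx hy)).symm
          _ = y * x := by rw [mul_inv_rev, hi x hx, hi y hy]
      · exact h1
    refine ⟨hT, fun g hg => ?_⟩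
    rw [← hT, ← SetLike.mem_coe, coe_mul_of_left_le_normalizer_right P R (hPT.trans (hTR hc)),
      Set.mem_mul] at hg
    obtain ⟨e, he, ρ, hρ, rfl⟩ := hg
    exact ⟨e, he, ρ, hρ, rfl⟩
  -- what centralises `P` lies in `Z`
  have hcent : ∀ d ∈ T, (∀ e ∈ P, ⁅d, e⁆ = 1) → d ∈ Z := by
    intro d hd hde
    by_contra hdZ
    obtain ⟨lam, R, hc, hl, hdR⟩ := comp_exists_inv h hd hdZ
    refine hdR ((hc.rad d hd).2 fun g hg => ?_)
    obtain ⟨e, he, ρ, hρ, rfl⟩ := (hcov hc hl).2 g hg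
    have h1 : ⁅d, e * ρ⁆ = ⁅d, e⁆ * (e * ⁅d, ρ⁆ * e⁻¹) := by
      simp only [commutatorElement_def]; group
    rw [h1, hde e he, one_mul, hZc (hcomm hd (hc.RT hρ)) (hPT he), mul_inv_cancel_right,
      ← commutatorElement_inv]
    exact inv_mem ((hc.rad ρ (hc.RT hρ)).1 hρ d hd)
  -- one constituent
  obtain ⟨x0, hx0, hx0Z⟩ : ∃ x ∈ P, x ∉ Z := by
    by_contra hno
    push Not at hno
    exact hne (le_antisymm hno hZP)
  obtain ⟨lam, R, hc, hl, -⟩ := comp_exists_inv h (hPT hx0) hx0Z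
  have hPR : P ⊓ R = Z := by
    refine le_antisymm (fun x hx => hcent x (hPT hx.1) fun e he => ?_) (le_inf hZP hc.cenR)
    exact hmeet hc hl _ ((hc.rad x (hPT hx.1)).1 hx.2 e (hPT he)) (hPc x hx.1 e he)
  constructor
  · intro d hd hde
    obtain ⟨e1, he1, ρ, hρ, rfl⟩ := (hcov hc hl).2 d hd
    refine mul_mem he1 (hZP (hcent ρ (hc.RT hρ) fun e he => ?_))
    refine hmeet hc hl _ ((hc.rad ρ (hc.RT hρ)).1 hρ e (hPT he)) ?_
    have h1 : ⁅e1 * ρ, e⁆ = e1 * ⁅ρ, e⁆ * e1⁻¹ * ⁅e1, e⁆ := by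
      simp only [commutatorElement_def]; group
    have h2 : ⁅ρ, e⁆ = ⁅e1 * ρ, e⁆ * ⁅e1, e⁆⁻¹ := by
      rw [h1, hZc (hcomm (hc.RT hρ) (hPT he)) (hPT he1), mul_inv_cancel_right,
        mul_inv_cancel_right]
    rw [h2]
    exact mul_mem (hde e he) (inv_mem (hPc e1 he1 e he))
  · have h1 : R.relIndex T = R.relIndex P := by
      haveI : (R.subgroupOf T).Normal :=
        (normal_subgroupOf_iff_le_normalizer hc.RT).2 (hTR hc)
      have h0 := relIndex_sup_left (H := P.subgroupOf T) (K := R.subgroupOf T)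
      rw [← subgroupOf_sup hc.RT hPT, sup_comm R P, (hcov hc hl).1, subgroupOf_self,
        relIndex_top_right, relIndex_subgroupOf hPT] at h0
      exact h0
    have h2 : R.relIndex P = Z.relIndex P := by
      rw [← inf_relIndex_right, inf_comm, hPR]
    have h3 := Subgroup.card_mul_index (R.subgroupOf T)
    have h4 := Subgroup.card_mul_index (Z.subgroupOf P)
    rw [Nat.card_congr (subgroupOfEquivOfLe hc.RT).toEquiv, hc.card, ← relIndex, h1, h2] at h3
    rw [Nat.card_congr (subgroupOfEquivOfLe hZP).toEquiv, ← relIndex] at h4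
    have h5 : Z.relIndex P = 4 ^ n := Nat.eq_of_mul_eq_mul_left Nat.card_pos
      (show Nat.card R * Z.relIndex P = Nat.card R * 4 ^ n by rw [h3, mul_comm])
    rw [← h4, h5, mul_comm]

/-- The derived group of `T` is its centre. -/
theorem derived_eq {p r n : ℕ} {V X S W T : Subgroup Γ} {a : Γ} (h : Frame p r n V X S W T a) :
    ⁅T, T⁆ = cen T := by
  refine le_antisymm h.Tcomm fun z hz => ?_
  haveI : Fact (Nat.Prime 2) := ⟨Nat.prime_two⟩
  set D := ⁅T, T⁆ with hD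
  set A := zpowers a with hA
  obtain ⟨eT, heT⟩ := IsPGroup.iff_card.1 h.T2
  obtain ⟨eW, heW⟩ := IsPGroup.iff_card.1 h.W2
  have hcop : ∀ e : ℕ, (Nat.card A).Coprime (2 ^ e) := fun e => by
    rw [hA, Nat.card_zpowers, h.orda]
    exact ((Nat.coprime_primes h.hr Nat.prime_two).2 h.r2).pow_right _
  have hTA : ⁅T, A⁆ = T := by
    rw [h.Tgen]
    exact CoprimeAction.commutator_commutator_eq (zpowers_le.2 h.aW) (heW ▸ hcop eW)
      (Or.inl (CoprimeAction.isSolvable_zpowers a))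
  set L := normalizer (D : Set Γ) with hL
  have hNL : normalizer (T : Set Γ) ≤ L :=
    CoprimeTools.le_normalizer_commutator_of_le le_rfl le_rfl
  have hTL : T ≤ L := le_normalizer.trans hNL
  have hAL : A ≤ L := zpowers_le.2 (hNL h.aT)
  set π := QuotientGroup.mk' (D.subgroupOf L) with hπ
  set T' := (T.subgroupOf L).map π with hT'
  set A' := (A.subgroupOf L).map π with hA'
  haveI : IsMulCommutative T' := PGroupsBasic.isMulCommutative_of_forall (by
    rintro _ ⟨s, hs, rfl⟩ _ ⟨t, ht, rfl⟩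
    rw [← commutatorElement_eq_one_iff_mul_comm, ← map_commutatorElement, hπ,
      QuotientGroup.mk'_apply, QuotientGroup.eq_one_iff, mem_subgroupOf]
    exact commutator_mem_commutator hs ht)
  have hnorm : A' ≤ normalizer (T' : Set _) := by
    rintro _ ⟨b, hb, rfl⟩
    refine le_normalizer_map π ⟨b, mem_normalizer_iff.2 fun l => ?_, rfl⟩
    exact mem_normalizer_iff.1 (zpowers_le.2 h.aT hb : (b : Γ) ∈ normalizer (T : Set Γ)) l
  have hcardA : Nat.card (A.subgroupOf L) = Nat.card A :=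
    Nat.card_congr (subgroupOfEquivOfLe hAL).toEquiv
  have hcardT : Nat.card (T.subgroupOf L) = Nat.card T :=
    Nat.card_congr (subgroupOfEquivOfLe hTL).toEquiv
  have hcop' : (Nat.card A').Coprime (Nat.card T') :=
    ((heT ▸ hcop eT : (Nat.card A).Coprime (Nat.card T)).coprime_dvd_left
      (hcardA ▸ card_map_dvd _ _)).coprime_dvd_right (hcardT ▸ card_map_dvd _ _)
  have hfit := CoprimeAction.inf_centralizer_inf_commutator_eq_bot hnorm hcop'
  have hcom : ⁅T', A'⁆ = T' := by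
    rw [hT', hA', ← map_commutator]
    congr 1
    apply map_injective L.subtype_injective
    rw [map_commutator, map_subgroupOf_eq_of_le hTL, map_subgroupOf_eq_of_le hAL, hTA]
  have hzL : z ∈ L := hTL hz.1
  have hmem : π ⟨z, hzL⟩ ∈ (T' ⊓ centralizer (A' : Set _)) ⊓ ⁅T', A'⁆ := by
    have hzT : π ⟨z, hzL⟩ ∈ T' := mem_map_of_mem π hz.1
    refine ⟨⟨hzT, mem_centralizer_iff.2 ?_⟩, hcom.symm ▸ hzT⟩
    rintro _ ⟨b, hb, rfl⟩
    rw [← map_mul, ← map_mul]
    refine congrArg π (Subtype.ext ?_)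
    obtain ⟨i, hi⟩ := mem_zpowers_iff.1 (show (b : Γ) ∈ zpowers a from hb)
    show (b : Γ) * z = z * b
    rw [← hi]
    exact ((Commute.zpow_left (h.a_cen hz : Commute a z)) i).eq
  rw [hfit, mem_bot, hπ, QuotientGroup.mk'_apply, QuotientGroup.eq_one_iff, mem_subgroupOf] at hmem
  exact hmem

end Cfsg.Agent.Flavell8.Gen
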