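import Cfsg.Agent.Lib.FlavellGen8Setup
import Cfsg.Agent.Lib.BGFrobeniusAct
import Cfsg.Agent.Lib.SymplecticType
import Cfsg.Agent.S3764

/-!
The irreducible constituents of `T / Z` in a frame, and the count of their singular elements.
-/

set_option autoImplicit false
set_option linter.style.haveILetI false

open scoped commutatorElement

namespace Cfsg.Agent.Flavell8.Gen

open Subgroup

universe u

variable {Γ : Type u} [Group Γ]

theorem Frame.a_cen {p r n : ℕ} {V X S W T : Subgroup Γ} {a z : Γ}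
    (h : Frame p r n V X S W T a) (hz : z ∈ cen T) : a * z = z * a := by
  have hz' : z ∈ T ⊓ centralizer ({a} : Set Γ) := h.Tfix ▸ hz
  exact (mem_centralizer_singleton_iff.1 hz'.2).symm

theorem Frame.T2 {p r n : ℕ} {V X S W T : Subgroup Γ} {a : Γ} (h : Frame p r n V X S W T a) :
    IsPGroup 2 T := h.W2.to_le h.TW

theorem Frame.r2 {p r n : ℕ} {V X S W T : Subgroup Γ} {a : Γ} (h : Frame p r n V X S W T a) :
    r ≠ 2 := by
  have h1 := h.rn
  have h2 : 2 ≤ 2 ^ n := Nat.le_self_pow (by have := h.n1; omega) 2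
  omega

theorem norm_cent (U : Subgroup Γ) :
    normalizer (U : Set Γ) ≤ normalizer (centralizer (U : Set Γ) : Set Γ) := by
  intro g hg
  rw [mem_normalizer_iff]
  have key : ∀ g ∈ normalizer (U : Set Γ), ∀ x ∈ centralizer (U : Set Γ),
      g * x * g⁻¹ ∈ centralizer (U : Set Γ) := by
    intro g hg x hx
    rw [mem_centralizer_iff]
    intro u hu
    have h1 := mem_centralizer_iff.1 hx (g⁻¹ * u * g) (CoprimeAction.conj_mem' hg hu)
    calc u * (g * x * g⁻¹) = g * ((g⁻¹ * u * g) * x) * g⁻¹ := by group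
      _ = _ := by rw [h1]; group
  refine fun x => ⟨key g hg x, fun hx => ?_⟩
  simpa [mul_assoc] using key g⁻¹ (inv_mem hg) _ hx

variable [Finite Γ]

/-- The order of the image of a subgroup in the quotient by `K`. -/
theorem card_map_mk {K L N : Subgroup Γ} [(K.subgroupOf L).Normal] (hN : N ≤ L) :
    Nat.card ((N.subgroupOf L).map (QuotientGroup.mk' (K.subgroupOf L))) = K.relIndex N := by
  rw [← relIndex_ker, QuotientGroup.ker_mk']
  exact relIndex_subgroupOf hN

/-- Orbits of a cyclic group of prime order: the fixed points carry the order modulo `r`. -/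
theorem modEq_fix {r : ℕ} (hr : r.Prime) {a : Γ} (ha : orderOf a = r) (s : Set Γ)
    (hs : ∀ x ∈ s, a * x * a⁻¹ ∈ s) :
    s.ncard ≡ {x : Γ | x ∈ s ∧ a * x = x * a}.ncard [MOD r] := by
  haveI := Fact.mk hr
  have hs' : ∀ g ∈ zpowers a, ∀ x ∈ s, g * x * g⁻¹ ∈ s := by
    intro g hg x hx
    obtain ⟨k, rfl⟩ := mem_powers_iff_mem_zpowers.2 hg
    have key : ∀ k : ℕ, a ^ k * x * (a ^ k)⁻¹ ∈ s := fun k => by
      induction k with
      | zero => simpa using hx
      | succ k ih => simpa [pow_succ', mul_assoc] using hs _ ih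
    exact key k
  letI : MulAction (zpowers a) s :=
    { smul := fun g x => ⟨(g : Γ) * x * (g : Γ)⁻¹, hs' g g.2 x x.2⟩
      one_smul := fun x => Subtype.ext (by
        show ((1 : zpowers a) : Γ) * x * ((1 : zpowers a) : Γ)⁻¹ = x
        simp)
      mul_smul := fun g k x => Subtype.ext (by
        show ((g * k : zpowers a) : Γ) * x * ((g * k : zpowers a) : Γ)⁻¹ = _
        show _ = (g : Γ) * ((k : Γ) * x * (k : Γ)⁻¹) * (g : Γ)⁻¹
        simp [mul_assoc]) }
  have hP : IsPGroup r (zpowers a) := IsPGroup.of_card (n := 1) (by rw [Nat.card_zpowers, ha, pow_one])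
  have h := hP.card_modEq_card_fixedPoints (α := s)
  rw [Nat.card_coe_set_eq s] at h
  refine h.trans ?_
  rw [← Nat.card_coe_set_eq {x : Γ | x ∈ s ∧ a * x = x * a}]
  have key := Nat.card_congr (α := MulAction.fixedPoints (zpowers a) s)
    (β := {x : Γ | x ∈ s ∧ a * x = x * a})
    ⟨fun x => ⟨x.1.1, x.1.2, ?_⟩, fun x => ⟨⟨x.1, x.2.1⟩, fun g => ?_⟩, fun x => rfl, fun x => rfl⟩
  · rw [key]
  · have h1 := congrArg Subtype.val (x.2 ⟨a, mem_zpowers a⟩)
    change a * x.1.1 * a⁻¹ = x.1.1 at h1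
    exact mul_inv_eq_iff_eq_mul.1 h1
  · refine Subtype.ext ?_
    show (g : Γ) * x.1 * (g : Γ)⁻¹ = x.1
    obtain ⟨k, hk⟩ := mem_zpowers_iff.1 g.2
    rw [← hk, ((Commute.zpow_left (x.2.2 : Commute a x.1)) k).eq, mul_inv_cancel_right]

omit [Finite Γ] in
/-- A central involution of an irreducible abelian module of odd order is trivial or inverts. -/
theorem eq_inv_of_central {U : Subgroup Γ} {T : Subgroup Γ} {a z : Γ} (hT : T ≤ normalizer (U : Set Γ))
    (ha : a ∈ normalizer (U : Set Γ)) (hUc : ∀ x ∈ U, ∀ y ∈ U, x * y = y * x)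
    (hmin : ∀ W : Subgroup Γ, W ≤ U → W ≠ ⊥ → T ≤ normalizer (W : Set Γ) →
      a ∈ normalizer (W : Set Γ) → W = U)
    (hz : z ∈ T) (hzT : ∀ t ∈ T, t * z = z * t) (hza : a * z = z * a) (hz2 : z * z = 1)
    (hne : ¬ ∀ u ∈ U, z * u = u * z) : ∀ u ∈ U, z * u * z⁻¹ = u⁻¹ := by
  set F := U ⊓ centralizer ({z} : Set Γ) with hF
  have hnorm : ∀ g : Γ, g ∈ normalizer (U : Set Γ) → g * z = z * g →
      g ∈ normalizer (F : Set Γ) := fun g hg hgz => by
    exact inf_normalizer_le_normalizer_inf ⟨hg, le_normalizer (mem_centralizer_singleton_iff.2 hgz)⟩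
  have hF1 : F = ⊥ := by
    by_contra hF0
    have := hmin F inf_le_left hF0 (fun t ht => hnorm t (hT ht) (hzT t ht)) (hnorm a ha hza)
    exact hne fun u hu => (mem_centralizer_singleton_iff.1 (this.symm.le hu).2).symm
  intro u hu
  have hzu : z * u * z⁻¹ ∈ U := CoprimeAction.conj_mem (hT hz) hu
  have hzi : z⁻¹ = z := inv_eq_of_mul_eq_one_right hz2
  have hmem : u * (z * u * z⁻¹) ∈ F := by
    refine ⟨mul_mem hu hzu, mem_centralizer_singleton_iff.2 ?_⟩
    have hc := hUc u hu _ hzu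
    rw [hzi] at hc ⊢
    calc u * (z * u * z) * z = u * z * u * (z * z) := by group
      _ = (z * z) * (u * z * u) := by rw [hz2, mul_one, one_mul]
      _ = z * ((z * u * z) * u) := by group
      _ = _ := by rw [← hc]
  rw [hF1, mem_bot] at hmem
  exact eq_inv_of_mul_eq_one_right hmem

/-- The structure of a two-group acting irreducibly with a fixed-point-free element of prime order. -/
theorem module_core {p r : ℕ} (hp : p.Prime) (hp2 : p ≠ 2) (hr : r.Prime) (hr2 : r ≠ 2)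
    (hrp : r ≠ p) {T V : Subgroup Γ} {a : Γ} (hT : IsPGroup 2 T)
    (haT : a ∈ normalizer (T : Set Γ)) (ha : orderOf a = r)
    (hVc : ∀ x ∈ V, ∀ y ∈ V, x * y = y * x) (hVe : ∀ x ∈ V, x ^ p = 1)
    (hTV : T ≤ normalizer (V : Set Γ)) (haV : a ∈ normalizer (V : Set Γ))
    (hfaith : T ⊓ centralizer (V : Set Γ) = ⊥) (hfixV : V ⊓ centralizer ({a} : Set Γ) = ⊥)
    (hmin : ∀ W : Subgroup Γ, W ≤ V → W ≠ ⊥ → T ≤ normalizer (W : Set Γ) →
      a ∈ normalizer (W : Set Γ) → W = V)
    (hder : ⁅T, T⁆ ≤ T ⊓ centralizer ({a} : Set Γ))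
    (hsq : ∀ t ∈ T, t * t ∈ centralizer ({a} : Set Γ))
    (hfc : T ⊓ centralizer ({a} : Set Γ) ≤ centralizer (T : Set Γ))
    (hfe : ∀ z ∈ T ⊓ centralizer ({a} : Set Γ), z * z = 1)
    (hne : ∃ x ∈ T, ∃ y ∈ T, ⁅x, y⁆ ≠ 1) :
    ∃ n : ℕ, r = 2 ^ n + 1 ∧ Nat.card T = 2 ^ (2 * n + 1) ∧
      Nat.card (T ⊓ centralizer ({a} : Set Γ) : Subgroup Γ) = 2 ∧
      cen T = T ⊓ centralizer ({a} : Set Γ) := by
  haveI := Fact.mk hp
  haveI : Fact (Nat.Prime 2) := ⟨Nat.prime_two⟩
  set A := zpowers a with hA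
  have hcA : centralizer (A : Set Γ) = centralizer ({a} : Set Γ) := by
    rw [hA, zpowers_eq_closure, centralizer_closure]
  have hAT : A ≤ normalizer (T : Set Γ) := zpowers_le.2 haT
  have hAV : A ≤ normalizer (V : Set Γ) := zpowers_le.2 haV
  have hcardA : Nat.card A = r := by rw [hA, Nat.card_zpowers, ha]
  have hVP : IsPGroup p V := fun v => ⟨1, Subtype.ext (by simpa using hVe v v.2)⟩
  obtain ⟨eT, heT⟩ := IsPGroup.iff_card.1 hT
  obtain ⟨eV, heV⟩ := IsPGroup.iff_card.1 hVP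
  have hcopTV : (Nat.card T).Coprime (Nat.card V) := by
    rw [heT, heV]
    exact ((Nat.coprime_primes Nat.prime_two hp).2 (Ne.symm hp2)).pow _ _
  have hcopAV : (Nat.card A).Coprime (Nat.card V) := by
    rw [hcardA, heV]
    exact ((Nat.coprime_primes hr hp).2 hrp).pow_right _
  have hcopAT : (Nat.card A).Coprime (Nat.card T) := by
    rw [hcardA, heT]
    exact ((Nat.coprime_primes hr Nat.prime_two).2 hr2).pow_right _
  haveI hVcomm : IsMulCommutative V := PGroupsBasic.isMulCommutative_of_forall hVc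
  set Z := T ⊓ centralizer ({a} : Set Γ) with hZ
  -- the centre of `T` is fixed by `a`
  set C := cen T with hC
  have hcen : C = Z := by
    refine le_antisymm ?_ (le_inf inf_le_left hfc)
    haveI : IsMulCommutative C := PGroupsBasic.isMulCommutative_of_forall fun x hx y hy =>
      (mem_centralizer_iff.1 hy.2 x hx.1)
    have hAC : A ≤ normalizer (C : Set Γ) := fun g hg => by
      refine inf_normalizer_le_normalizer_inf ⟨hAT hg, ?_⟩
      exact norm_cent T (hAT hg)
    have hcopAC : (Nat.card A).Coprime (Nat.card C) :=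
      hcopAT.coprime_dvd_right (card_dvd_of_le inf_le_left)
    set K0 := ⁅C, A⁆ with hK0
    have hK0C : K0 ≤ C := CoprimeAction.commutator_le_self_of_le_normalizer hAC
    have hfit := CoprimeAction.inf_centralizer_inf_commutator_eq_bot hAC hcopAC
    have hfrob : ∀ g ∈ A, g ≠ 1 → K0 ⊓ centralizer ({g} : Set Γ) = ⊥ := by
      intro g hg hg1
      haveI : Fact (Nat.card A).Prime := ⟨hcardA.symm ▸ hr⟩
      have hgA : zpowers g = A := by
        refine eq_of_le_of_card_ge (zpowers_le.2 hg) ?_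
        rw [hcardA, Nat.card_zpowers]
        have hd : orderOf g ∣ r := hcardA ▸ Subgroup.orderOf_dvd_natCard A hg
        rcases (Nat.dvd_prime hr).1 hd with h | h
        · exact absurd (orderOf_eq_one_iff.1 h) hg1
        · exact h.ge
      rw [← centralizer_closure ({g} : Set Γ), ← zpowers_eq_closure, hgA, eq_bot_iff, ← hfit]
      exact fun x hx => ⟨⟨hK0C hx.1, hx.2⟩, hx.1⟩
    have hAK0 : A ≤ normalizer (K0 : Set Γ) :=
      Subgroup.normalizer_commutator_ge_right C A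
    have h0 := BGFrobeniusAct.le_centralizer (K := K0) (R := A) (M := V)
      (fun h => hr.ne_one (by rw [← hcardA, h, card_bot])) hAK0 hfrob
      ((hK0C.trans inf_le_left).trans hTV) hAV
      (hcopTV.coprime_dvd_left (card_dvd_of_le (hK0C.trans inf_le_left))) hcopAV
      (Group.isSolvable_of_comm fun x y => mul_comm' x y) (by rw [hcA]; exact hfixV)
    have hbot : K0 = ⊥ := eq_bot_iff.2 fun x hx => hfaith ▸ ⟨(hK0C hx).1, h0 hx⟩
    intro x hx
    refine ⟨hx.1, mem_centralizer_singleton_iff.2 ?_⟩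
    have : ⁅x, a⁆ = 1 := by
      rw [← mem_bot, ← hbot]
      exact commutator_mem_commutator hx (mem_zpowers a)
    exact commutatorElement_eq_one_iff_mul_comm.1 this
  -- central involutions invert `V`
  have hinv : ∀ z ∈ Z, z ≠ 1 → ∀ v ∈ V, z * v * z⁻¹ = v⁻¹ := by
    intro z hz hz1
    refine eq_inv_of_central hTV haV hVc hmin hz.1
      (fun t ht => mem_centralizer_iff.1 (hfc hz) t ht)
      (mem_centralizer_singleton_iff.1 hz.2).symm (hfe z hz) fun hall => hz1 ?_
    rw [← mem_bot, ← hfaith]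
    exact ⟨hz.1, mem_centralizer_iff.2 fun v hv => (hall v hv).symm⟩
  obtain ⟨x, hx, y, hy, hk⟩ := hne
  set k := ⁅x, y⁆
  have hkZ : k ∈ Z := hder (commutator_mem_commutator hx hy)
  have hZ2 : ∀ z ∈ Z, z = 1 ∨ z = k := by
    intro z hz
    by_contra hno
    push Not at hno
    have hki : k⁻¹ = k := inv_eq_of_mul_eq_one_right (hfe k hkZ)
    refine hno.2 ?_
    rw [← mul_inv_eq_one, hki, ← mem_bot, ← hfaith]
    refine ⟨mul_mem hz.1 hkZ.1, mem_centralizer_iff.2 fun v hv => ?_⟩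
    have h1 : (z * k) * v * (z * k)⁻¹ = v := by
      calc (z * k) * v * (z * k)⁻¹ = z * (k * v * k⁻¹) * z⁻¹ := by group
        _ = (z * v * z⁻¹)⁻¹ := by rw [hinv k hkZ hk v hv]; group
        _ = v := by rw [hinv z hz hno.1 v hv, inv_inv]
    exact (mul_inv_eq_iff_eq_mul.1 h1).symm
  have hkT : k ∈ T := hkZ.1
  have hkzp : Z = zpowers k := by
    refine le_antisymm (fun z hz => ?_) (zpowers_le.2 hkZ)
    rcases hZ2 z hz with rfl | rfl
    exacts [one_mem _, mem_zpowers _]
  have hk2 : orderOf k = 2 := orderOf_eq_prime (by rw [pow_two]; exact hfe k hkZ) hk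
  have hQ : Cfsg.IsExtraspecial 2 T := by
    have hsub : ∀ g : T, (g : Γ) ∈ Z → g ∈ zpowers (⟨k, hkT⟩ : T) := fun g hg => by
      rcases hZ2 g hg with h | h
      · exact (show g = 1 from Subtype.ext h) ▸ one_mem _
      · exact (show g = ⟨k, hkT⟩ from Subtype.ext h) ▸ mem_zpowers _
    refine SymplecticType.isExtraspecial_of (z := (⟨k, hkT⟩ : T)) hT ⟨?_, ?_⟩ (fun g g' => ?_)
      (fun g => ?_) (fun g hg => ?_) ⟨⟨x, hx⟩, ⟨y, hy⟩, fun h => hk (congrArg Subtype.val h)⟩
    · exact Subgroup.mem_center_iff.2 fun g =>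
        Subtype.ext (mem_centralizer_iff.1 (hfc hkZ) g g.2)
    · rw [← orderOf_submonoid]; exact hk2
    · exact hsub _ (hder (commutator_mem_commutator g.2 g'.2))
    · refine hsub _ ⟨(g ^ 2).2, ?_⟩
      rw [pow_two]
      exact hsq g g.2
    · refine hsub g (hcen ▸ ⟨g.2, mem_centralizer_iff.2 fun t ht => ?_⟩)
      exact congrArg Subtype.val (Subgroup.mem_center_iff.1 hg ⟨t, ht⟩)
  have hZmap : T ⊓ centralizer (A : Set Γ) = (center ↥T).map T.subtype := by
    rw [hcA, ← hZ, ← hcen]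
    ext g
    constructor
    · intro hg
      exact ⟨⟨g, hg.1⟩, Subgroup.mem_center_iff.2 fun t =>
        Subtype.ext (mem_centralizer_iff.1 hg.2 t t.2), rfl⟩
    · rintro ⟨g, hg, rfl⟩
      exact ⟨g.2, mem_centralizer_iff.2 fun t ht =>
        congrArg Subtype.val (Subgroup.mem_center_iff.1 hg ⟨t, ht⟩)⟩
  have hfA : (A ⊔ T) ⊓ centralizer (V : Set Γ) = ⊥ := by
    rw [eq_bot_iff]
    rintro g ⟨hg, hgV⟩
    replace hg : g ∈ ((A ⊔ T : Subgroup Γ) : Set Γ) := hg
    rw [coe_mul_of_left_le_normalizer_right A T hAT] at hg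
    obtain ⟨b, hb, t, ht, rfl⟩ := Set.mem_mul.1 hg
    by_cases hb1 : b = 1
    · subst hb1
      have : t ∈ T ⊓ centralizer (V : Set Γ) := ⟨ht, by simpa using hgV⟩
      rw [hfaith, mem_bot] at this
      simp [this]
    exfalso
    have hbA : zpowers b = A := by
      refine eq_of_le_of_card_ge (zpowers_le.2 hb) ?_
      rw [hcardA, Nat.card_zpowers]
      have hd : orderOf b ∣ r := hcardA ▸ Subgroup.orderOf_dvd_natCard A hb
      rcases (Nat.dvd_prime hr).1 hd with h | h
      · exact absurd (orderOf_eq_one_iff.1 h) hb1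
      · exact h.ge
    -- `b` acts on `V` as the two-element `t⁻¹`
    have hact : ∀ v ∈ V, b * v * b⁻¹ = t⁻¹ * v * t := by
      intro v hv
      have h1 := mem_centralizer_iff.1 hgV (t⁻¹ * v * t) (CoprimeAction.conj_mem' (hTV ht) hv)
      calc b * v * b⁻¹ = (b * t) * (t⁻¹ * v * t) * (b * t)⁻¹ := by group
        _ = t⁻¹ * v * t := by rw [← h1, mul_inv_cancel_right]
    have hpow : ∀ i : ℕ, ∀ v ∈ V, b ^ i * v * (b ^ i)⁻¹ = (t⁻¹) ^ i * v * ((t⁻¹) ^ i)⁻¹ := by
      intro i
      induction i with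
      | zero => simp
      | succ i ih =>
          intro v hv
          have e : t⁻¹ ^ i * v * (t⁻¹ ^ i)⁻¹ ∈ V :=
            CoprimeAction.conj_mem (hTV (pow_mem (inv_mem ht) i)) hv
          calc b ^ (i + 1) * v * (b ^ (i + 1))⁻¹ = b * (b ^ i * v * (b ^ i)⁻¹) * b⁻¹ := by
                rw [pow_succ']; group
            _ = t⁻¹ * (t⁻¹ ^ i * v * (t⁻¹ ^ i)⁻¹) * t := by rw [ih v hv, hact _ e]
            _ = _ := by rw [pow_succ']; group
    have hb2 : ∀ v ∈ V, b ^ (2 ^ eT) * v = v * b ^ (2 ^ eT) := fun v hv => by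
      have h1 := hpow (2 ^ eT) v hv
      have h2 : t⁻¹ ^ (2 ^ eT) = 1 := by
        rw [← heT]
        exact congrArg Subtype.val (pow_card_eq_one' (x := (⟨t⁻¹, inv_mem ht⟩ : T)))
      rw [h2, one_mul, inv_one, mul_one] at h1
      exact mul_inv_eq_iff_eq_mul.1 h1
    have hgen : zpowers (b ^ (2 ^ eT)) = A := by
      rw [← hbA]
      refine eq_of_le_of_card_ge (zpowers_le.2 (pow_mem (mem_zpowers b) _)) ?_
      rw [Nat.card_zpowers, Nat.card_zpowers, Nat.Coprime.orderOf_pow]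
      rw [← Nat.card_zpowers, hbA, hcardA]
      exact ((Nat.coprime_primes hr Nat.prime_two).2 hr2).pow_right _
    apply hk
    have hVbot : V = ⊥ := by
      rw [eq_bot_iff, ← hfixV, ← hcA, ← hgen, zpowers_eq_closure, centralizer_closure]
      exact fun v hv => ⟨hv, mem_centralizer_singleton_iff.2 (hb2 v hv).symm⟩
    rw [← mem_bot, ← hfaith]
    refine ⟨hkT, ?_⟩
    rw [hVbot]
    exact mem_centralizer_iff.2 fun v hv => by rw [mem_bot.1 hv, one_mul, mul_one]
  obtain ⟨-, n, hn, hcard⟩ := S3764.result hp Nat.prime_two hr hp2 hrp.symm hr2.symm A T V hcardA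
    hQ hAT hZmap ⟨hVcomm, hVe⟩ hAV hTV hfA (by rw [hcA]; exact hfixV)
  exact ⟨n, hn, hcard, by rw [hkzp, Nat.card_zpowers, hk2], hcen⟩

/-- A proper invariant section of order a power of two is trivial. -/
theorem pow_two_modEq {n m : ℕ} (hn : 1 ≤ n) (hm : m ≤ 2 * n)
    (h : 2 ^ m ≡ 1 [MOD 2 ^ n + 1]) : m = 0 ∨ m = 2 * n := by
  by_contra hno
  push Not at hno
  have h1 : 2 ≤ 2 ^ n := Nat.le_self_pow (by omega) 2
  rcases le_or_gt m n with hmn | hmn
  · have h2 : 2 ^ m ≤ 2 ^ n := Nat.pow_le_pow_right (by norm_num) hmn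
    have h3 : 2 ^ 1 ≤ 2 ^ m := Nat.pow_le_pow_right (by norm_num) (by omega)
    have := (Nat.ModEq.eq_of_lt_of_lt h (by omega) (by omega))
    omega
  · obtain ⟨j, rfl⟩ : ∃ j, m = n + j := ⟨m - n, by omega⟩
    have h2 : 2 * 2 ^ j ≤ 2 ^ n := by
      rw [← pow_succ']
      exact Nat.pow_le_pow_right (by norm_num) (by omega)
    have h3 : 2 ^ 1 ≤ 2 ^ j := Nat.pow_le_pow_right (by norm_num) (by omega)
    have h4 : 2 ^ n * 2 ^ j + 2 ^ j ≡ 0 [MOD 2 ^ n + 1] := by
      rw [← Nat.succ_mul]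
      exact Nat.modEq_zero_iff_dvd.2 (dvd_mul_right _ _)
    have h5 : 1 + 2 ^ j ≡ 0 [MOD 2 ^ n + 1] := by
      refine Nat.ModEq.trans ?_ h4
      rw [← pow_add]
      exact (h.symm).add_right _
    have := Nat.le_of_dvd (by omega) (Nat.modEq_zero_iff_dvd.1 h5)
    omega

set_option maxHeartbeats 1000000 in
/-- Every element of `T` outside `Z` lies outside the radical of a constituent on which every
element of `Z` inverting `V` is nontrivial. -/
theorem comp_exists_inv {p r n : ℕ} {V X S W T : Subgroup Γ} {a : Γ} (h : Frame p r n V X S W T a)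
    {x : Γ} (hx : x ∈ T) (hxc : x ∉ cen T) :
    ∃ lam R, Comp n T lam R a ∧ (∀ v, (∀ w ∈ V, v * w * v⁻¹ = w⁻¹) → v ∉ lam) ∧ x ∉ R := by
  obtain ⟨y, hy, hxy⟩ : ∃ y ∈ T, ¬ y * x = x * y := by
    by_contra hno
    push Not at hno
    exact hxc ⟨hx, mem_centralizer_iff.2 hno⟩
  haveI := Fact.mk h.hp
  haveI : Fact (Nat.Prime 2) := ⟨Nat.prime_two⟩
  set Z := cen T with hZ
  set k := ⁅x, y⁆ with hk
  have hk1 : k ≠ 1 := fun e => hxy (commutatorElement_eq_one_iff_mul_comm.1 e).symm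
  have hkZ : k ∈ Z := h.Tcomm (commutator_mem_commutator hx hy)
  have hZT : ∀ z ∈ Z, ∀ t ∈ T, t * z = z * t := fun z hz t ht => mem_centralizer_iff.1 hz.2 t ht
  have hki : k⁻¹ = k := inv_eq_of_mul_eq_one_right (h.Zexp k hkZ)
  have hTV : T ≤ normalizer (V : Set Γ) := (h.TW.trans h.WX).trans h.XV
  -- the elements inverted by `k`
  let M : Subgroup Γ :=
    { carrier := {v | v ∈ V ∧ k * v * k⁻¹ = v⁻¹}
      one_mem' := ⟨one_mem V, by simp⟩
      mul_mem' := fun {u v} hu hv => ⟨mul_mem hu.1 hv.1, by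
        rw [mul_inv_rev, ← h.Vcomm _ (inv_mem hu.1) _ (inv_mem hv.1), ← hu.2, ← hv.2]
        group⟩
      inv_mem' := fun {u} hu => ⟨inv_mem hu.1, by
        show k * u⁻¹ * k⁻¹ = (u⁻¹)⁻¹
        rw [show k * u⁻¹ * k⁻¹ = (k * u * k⁻¹)⁻¹ by group, hu.2]⟩ }
  have hMV : M ≤ V := fun v hv => hv.1
  have hMnorm : ∀ g : Γ, g ∈ normalizer (V : Set Γ) → g * k = k * g →
      g ∈ normalizer (M : Set Γ) := by
    intro g hg hgk
    have key : ∀ g : Γ, g ∈ normalizer (V : Set Γ) → g * k = k * g → ∀ v ∈ M, g * v * g⁻¹ ∈ M := by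
      intro g hg hgk v hv
      refine ⟨CoprimeAction.conj_mem hg hv.1, ?_⟩
      calc k * (g * v * g⁻¹) * k⁻¹ = (k * g) * v * (k * g)⁻¹ := by group
        _ = g * (k * v * k⁻¹) * g⁻¹ := by rw [← hgk]; group
        _ = _ := by rw [hv.2]; group
    rw [mem_normalizer_iff]
    refine fun v => ⟨key g hg hgk v, fun hv => ?_⟩
    have := key g⁻¹ (inv_mem hg) (Commute.inv_left hgk).eq _ hv
    simpa [mul_assoc] using this
  have hM0 : M ≠ ⊥ := by
    intro hM
    apply hk1
    rw [← mem_bot, ← h.faith]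
    refine ⟨h.WX (h.TW hkZ.1), mem_centralizer_iff.2 fun v hv => ?_⟩
    have hkv : k * v * k⁻¹ ∈ V := CoprimeAction.conj_mem (hTV hkZ.1) hv
    have hm : v * (k * v * k⁻¹)⁻¹ ∈ M := by
      refine ⟨mul_mem hv (inv_mem hkv), ?_⟩
      have hc := h.Vcomm _ (inv_mem hv) _ hkv
      rw [hki] at hc ⊢
      calc k * (v * (k * v * k)⁻¹) * k = k * v * (k⁻¹ * v⁻¹ * k⁻¹) * k := by group
        _ = k * v * k⁻¹ * v⁻¹ := by group
        _ = v⁻¹ * (k * v * k) := by rw [hki]; exact hc.symm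
        _ = _ := by rw [hc]; group
    rw [hM, mem_bot, mul_inv_eq_one] at hm
    exact (mul_inv_eq_iff_eq_mul.1 hm.symm).symm
  -- a minimal invariant subgroup
  obtain ⟨U, hU⟩ := (Set.toFinite {U : Subgroup Γ | U ≤ M ∧ U ≠ ⊥ ∧ T ≤ normalizer (U : Set Γ) ∧
    a ∈ normalizer (U : Set Γ)}).exists_minimal ⟨M, le_rfl, hM0,
      fun t ht => hMnorm t (hTV ht) (hZT k hkZ t ht), hMnorm a h.aV (h.a_cen hkZ)⟩
  obtain ⟨⟨hUM, hU0, hTU, haU⟩, hUmin⟩ := hU
  have hUV : U ≤ V := hUM.trans hMV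
  set K := T ⊓ centralizer (U : Set Γ) with hK
  have hinvK : ∀ v : Γ, (∀ u ∈ U, v * u * v⁻¹ = u⁻¹) → v ∉ K := by
    intro v hv hk'
    obtain ⟨u, hu, hu1⟩ := (Subgroup.bot_or_exists_ne_one U).resolve_left hU0
    have h1 := hv u hu
    rw [← mem_centralizer_iff.1 hk'.2 u hu, mul_inv_cancel_right] at h1
    have h2 : u ^ 2 = 1 := by rw [pow_two]; nth_rewrite 2 [h1]; exact mul_inv_cancel u
    refine hu1 (orderOf_eq_one_iff.1 (Nat.eq_one_of_dvd_coprimes
      ((Nat.coprime_primes h.hp Nat.prime_two).2 h.hp2)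
      (orderOf_dvd_of_pow_eq_one (h.Vexp u (hUV hu))) (orderOf_dvd_of_pow_eq_one h2)))
  have hkK : k ∉ K := hinvK k fun u hu => (hUM hu).2
  have hTK : T ≤ normalizer (K : Set Γ) := fun t ht =>
    inf_normalizer_le_normalizer_inf ⟨le_normalizer ht,
      norm_cent U (hTU ht)⟩
  have haK : a ∈ normalizer (K : Set Γ) :=
    inf_normalizer_le_normalizer_inf ⟨h.aT, norm_cent U haU⟩
  have hUK : U ≤ normalizer (K : Set Γ) := fun u hu => centralizer_le_normalizer _
    (mem_centralizer_iff.2 fun κ hκ => (mem_centralizer_iff.1 hκ.2 u hu).symm)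
  -- the quotient by the kernel
  set L := normalizer (K : Set Γ) ⊓ normalizer (U : Set Γ) with hL
  haveI : (K.subgroupOf L).Normal := by
    refine ⟨fun g hg l => ?_⟩
    show (l : Γ) * g * (l : Γ)⁻¹ ∈ K
    exact CoprimeAction.conj_mem l.2.1 hg
  set π := QuotientGroup.mk' (K.subgroupOf L) with hπ
  have hTL : T ≤ L := le_inf hTK hTU
  have hUL : U ≤ L := le_inf hUK le_normalizer
  have haL : a ∈ L := ⟨haK, haU⟩
  have hπ1 : ∀ g : L, π g = 1 ↔ (g : Γ) ∈ K := fun g => by
    rw [hπ, QuotientGroup.mk'_apply, QuotientGroup.eq_one_iff, mem_subgroupOf]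
  have hπc : ∀ g g' : L, π g * π g' = π g' * π g ↔ ⁅(g : Γ), (g' : Γ)⁆ ∈ K := fun g g' => by
    rw [← commutatorElement_eq_one_iff_mul_comm, ← map_commutatorElement, hπ1]
    rfl
  set T' := (T.subgroupOf L).map π with hT'
  set U' := (U.subgroupOf L).map π with hU'
  set a' := π ⟨a, haL⟩ with ha'
  have mT : ∀ {t : Γ} (ht : t ∈ T), π ⟨t, hTL ht⟩ ∈ T' := fun ht => mem_map_of_mem π ht
  have mU : ∀ {u : Γ} (hu : u ∈ U), π ⟨u, hUL hu⟩ ∈ U' := fun hu => mem_map_of_mem π hu
  have hT2 : IsPGroup 2 T := h.T2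
  obtain ⟨eT, heT⟩ := IsPGroup.iff_card.1 hT2
  have hUP : IsPGroup p U := fun v => ⟨1, Subtype.ext (by simpa using h.Vexp v (hUV v.2))⟩
  have hcopA : (orderOf a).Coprime (Nat.card K) := by
    refine Nat.Coprime.coprime_dvd_right (card_dvd_of_le inf_le_left) ?_
    rw [h.orda, heT]
    exact ((Nat.coprime_primes h.hr Nat.prime_two).2 h.r2).pow_right _
  -- fixed points lift
  have hlift : ∀ (t : Γ) (ht : t ∈ T), π ⟨t, hTL ht⟩ * a' = a' * π ⟨t, hTL ht⟩ →
      ∃ z ∈ Z, ∃ κ ∈ K, t = z * κ := by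
    intro t ht hcomm
    have hc : ⁅t⁻¹, a⁆ ∈ K := by
      have h1 : π ⟨t, hTL ht⟩⁻¹ * a' = a' * π ⟨t, hTL ht⟩⁻¹ := by
        rw [map_inv]; exact (Commute.inv_left hcomm).eq
      exact (hπc _ _).1 h1
    obtain ⟨c, hca, hcK⟩ := CoprimeAction.exists_fixed_mem_coset_zpowers (k := t) haK hcopA (by
      rw [commutatorElement_def, inv_inv] at hc; exact hc)
    have hcT : c ∈ T := by
      have := mul_mem ht (show t⁻¹ * c ∈ T from hcK.1)
      rwa [mul_inv_cancel_left] at this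
    refine ⟨c, ?_, c⁻¹ * t, ?_, by group⟩
    · rw [hZ, ← h.Tfix]
      exact ⟨hcT, mem_centralizer_singleton_iff.2 hca.symm⟩
    · have := inv_mem hcK
      simpa using this
  have hπZ : ∀ z (hz : z ∈ Z), π ⟨z, hTL hz.1⟩ ∈ T' ⊓ centralizer ({a'} : Set _) := fun z hz =>
    ⟨mT hz.1, mem_centralizer_singleton_iff.2 (by
      rw [ha', ← map_mul, ← map_mul]
      exact congrArg π (Subtype.ext (h.a_cen hz).symm))⟩
  have hfix : ∀ q ∈ T' ⊓ centralizer ({a'} : Set _), ∃ z, ∃ hz : z ∈ Z, q = π ⟨z, hTL hz.1⟩ := by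
    rintro _ ⟨⟨⟨t, htL⟩, ht, rfl⟩, hc⟩
    obtain ⟨z, hz, κ, hκ, rfl⟩ := hlift t ht (mem_centralizer_singleton_iff.1 hc)
    refine ⟨z, hz, ?_⟩
    show π ⟨z * κ, htL⟩ = π ⟨z, hTL hz.1⟩
    rw [show (⟨z * κ, htL⟩ : L) = ⟨z, hTL hz.1⟩ * ⟨κ, hTL hκ.1⟩ from rfl, map_mul,
      (hπ1 ⟨κ, hTL hκ.1⟩).2 hκ, mul_one]
  have hUKbot : ∀ g ∈ K, g ∈ U → g = 1 := fun g hgK hgU => by
    have : g ∈ T ⊓ U := ⟨hgK.1, hgU⟩
    rwa [hT2.disjoint_of_ne 2 p h.hp2.symm _ _ hUP |>.eq_bot, mem_bot] at this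
  have hcommU : ∀ g : L, (∀ u ∈ U', u * π g = π g * u) → ∀ u ∈ U, (g : Γ) * u = u * g := by
    intro g hg u hu
    refine commutatorElement_eq_one_iff_mul_comm.1 (hUKbot _ ((hπc g ⟨u, hUL hu⟩).1 (hg _ (mU hu)).symm) ?_)
    rw [commutatorElement_def]
    exact mul_mem (CoprimeAction.conj_mem g.2.2 hu) (inv_mem hu)
  have hnormπ : ∀ {N : Subgroup Γ} (g : L), (g : Γ) ∈ normalizer (N : Set Γ) →
      π g ∈ normalizer ((N.subgroupOf L).map π : Set _) := fun {N} g hg =>
    le_normalizer_map π ⟨g, mem_normalizer_iff.2 fun l => mem_normalizer_iff.1 hg l, rfl⟩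
  obtain ⟨n', hn', hcard', hZ2, hcen'⟩ := module_core (T := T') (V := U') (a := a') h.hp h.hp2 h.hr
    h.r2 h.hrp ((hT2.comap_of_injective L.subtype L.subtype_injective).map π)
    (hnormπ _ h.aT)
    (by
      refine @orderOf_eq_prime _ _ _ _ ⟨h.hr⟩ ?_ fun e => ?_
      · rw [ha', ← map_pow]
        refine (hπ1 _).2 ?_
        show a ^ r ∈ K
        rw [← h.orda, pow_orderOf_eq_one]; exact one_mem K
      · have haK' : a ∈ T := ((hπ1 ⟨a, haL⟩).1 e).1
        obtain ⟨j, hj⟩ := hT2 ⟨a, haK'⟩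
        have h1 : a ^ 2 ^ j = 1 := congrArg Subtype.val hj
        have := Nat.eq_one_of_dvd_coprimes
          (((Nat.coprime_primes h.hr Nat.prime_two).2 h.r2).pow_right j) (dvd_refl r)
          (h.orda ▸ orderOf_dvd_of_pow_eq_one h1)
        exact h.hr.ne_one this)
    (by
      rintro _ ⟨u, hu, rfl⟩ _ ⟨v, hv, rfl⟩
      rw [← map_mul, ← map_mul]
      exact congrArg π (Subtype.ext (h.Vcomm _ (hUV hu) _ (hUV hv))))
    (by
      rintro _ ⟨u, hu, rfl⟩
      rw [← map_pow, show u ^ p = 1 from Subtype.ext (by simpa using h.Vexp _ (hUV hu)), map_one])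
    (by
      rintro _ ⟨t, ht, rfl⟩
      exact hnormπ t (hTU ht))
    (hnormπ _ haU)
    (by
      rw [eq_bot_iff]
      rintro _ ⟨⟨t, ht, rfl⟩, hc⟩
      rw [mem_bot, hπ1]
      exact ⟨ht, mem_centralizer_iff.2 fun u hu =>
        (hcommU t (fun q hq => mem_centralizer_iff.1 hc q hq) u hu).symm⟩)
    (by
      rw [eq_bot_iff]
      rintro _ ⟨⟨u, hu, rfl⟩, hc⟩
      have h1 := hUKbot _ ((hπc u ⟨a, haL⟩).1 (mem_centralizer_singleton_iff.1 hc)) (by
        rw [commutatorElement_def]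
        simpa [mul_assoc] using mul_mem (show (u : Γ) ∈ U from hu)
          (CoprimeAction.conj_mem haU (inv_mem (show (u : Γ) ∈ U from hu))))
      have h2 : (u : Γ) ∈ V ⊓ centralizer ({a} : Set Γ) :=
        ⟨hUV hu, mem_centralizer_singleton_iff.2 (commutatorElement_eq_one_iff_mul_comm.1 h1)⟩
      rw [h.fixV, mem_bot] at h2
      rw [mem_bot, show u = 1 from Subtype.ext h2, map_one])
    (by
      intro W' hW'U hW'0 hTW' haW'
      set W0 := U ⊓ (W'.comap π).map L.subtype with hW0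
      have hmemW0 : ∀ u : L, (u : Γ) ∈ U → (π u ∈ W' ↔ (u : Γ) ∈ W0) := fun u hu =>
        ⟨fun h' => ⟨hu, u, h', rfl⟩, fun ⟨_, v, hv, hvu⟩ => Subtype.ext hvu ▸ hv⟩
      have hn0 : ∀ g : L, π g ∈ normalizer (W' : Set _) → (g : Γ) ∈ normalizer (W0 : Set Γ) := by
        intro g hg
        rw [mem_normalizer_iff]
        intro u
        constructor
        · intro hu
          have hu' : g * u * g⁻¹ ∈ U := CoprimeAction.conj_mem g.2.2 hu.1
          have := (hmemW0 ⟨u, hUL hu.1⟩ hu.1).2 hu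
          refine (hmemW0 ⟨_, hUL hu'⟩ hu').1 ?_
          rw [show (⟨g * u * g⁻¹, hUL hu'⟩ : L) = g * ⟨u, hUL hu.1⟩ * g⁻¹ from rfl, map_mul,
            map_mul, map_inv]
          exact CoprimeAction.conj_mem hg this
        · intro hu
          have hu1 : u ∈ U := by
            simpa [mul_assoc] using CoprimeAction.conj_mem' g.2.2 hu.1
          have := (hmemW0 ⟨_, hUL hu.1⟩ hu.1).2 hu
          refine (hmemW0 ⟨u, hUL hu1⟩ hu1).1 ?_
          have h2 := CoprimeAction.conj_mem' hg this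
          rw [← map_inv, ← map_mul, ← map_mul] at h2
          convert h2 using 2
          exact Subtype.ext (by simp [mul_assoc])
      have hW00 : W0 ≠ ⊥ := by
        intro e
        refine hW'0 (eq_bot_iff.2 fun q hq => ?_)
        obtain ⟨u, hu, rfl⟩ := hW'U hq
        have := (hmemW0 u hu).1 hq
        rw [e, mem_bot] at this
        rw [mem_bot, show u = 1 from Subtype.ext this, map_one]
      have hle := hUmin ⟨inf_le_left.trans hUM, hW00,
        fun t ht => hn0 ⟨t, hTL ht⟩ (hTW' (mT ht)), hn0 ⟨a, haL⟩ haW'⟩ inf_le_left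
      refine le_antisymm hW'U ?_
      rintro _ ⟨u, hu, rfl⟩
      exact (hmemW0 u hu).2 (hle hu))
    (by
      rw [commutator_le]
      rintro _ ⟨⟨s, hsL⟩, hs, rfl⟩ _ ⟨⟨t, htL⟩, ht, rfl⟩
      rw [← map_commutatorElement]
      exact hπZ _ (h.Tcomm (commutator_mem_commutator hs ht)))
    (by
      rintro _ ⟨⟨t, htL⟩, ht, rfl⟩
      rw [← map_mul]
      exact (hπZ _ (h.Tsq t ht)).2)
    (by
      intro q hq
      obtain ⟨z, hz, rfl⟩ := hfix q hq
      rw [mem_centralizer_iff]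
      rintro _ ⟨⟨t, htL⟩, ht, rfl⟩
      rw [← map_mul, ← map_mul]
      exact congrArg π (Subtype.ext (hZT z hz t ht)))
    (by
      intro q hq
      obtain ⟨z, hz, rfl⟩ := hfix q hq
      rw [← map_mul]
      exact (hπ1 _).2 (by show z * z ∈ K; rw [h.Zexp z hz]; exact one_mem K))
    ⟨_, mT hx, _, mT hy, fun e => hkK ((hπc _ _).1 (commutatorElement_eq_one_iff_mul_comm.1 e))⟩
  obtain rfl : n' = n := Nat.pow_right_injective le_rfl
    (show 2 ^ n' = 2 ^ n by have := h.rn; omega)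
  set lam := Z ⊓ K with hlam
  set R := Z ⊔ K with hR
  have hZK : Z ≤ normalizer (K : Set Γ) := fun z hz => hTK hz.1
  have hmemR : ∀ t, t ∈ R ↔ ∃ z ∈ Z, ∃ κ ∈ K, t = z * κ := fun t => by
    rw [hR, ← SetLike.mem_coe, coe_mul_of_left_le_normalizer_right Z K hZK, Set.mem_mul]
    exact ⟨fun ⟨z, hz, κ, hκ, e⟩ => ⟨z, hz, κ, hκ, e.symm⟩,
      fun ⟨z, hz, κ, hκ, e⟩ => ⟨z, hz, κ, hκ, e.symm⟩⟩
  have hKT : K ≤ T := inf_le_left
  have hRT : R ≤ T := sup_le inf_le_left hKT
  -- cardinalities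
  have hKidx : ∀ N : Subgroup Γ, N ≤ T →
      Nat.card ((N.subgroupOf L).map π) = K.relIndex N := by
    intro N hN
    exact card_map_mk (hN.trans hTL)
  have hlamidx : lam.relIndex Z = 2 := by
    have hmap : (Z.subgroupOf L).map π = T' ⊓ centralizer ({a'} : Set _) := by
      refine le_antisymm ?_ fun q hq => ?_
      · rintro _ ⟨⟨z, hzL⟩, hz, rfl⟩
        exact hπZ z hz
      · obtain ⟨z, hz, rfl⟩ := hfix q hq
        exact mem_map_of_mem π hz
    rw [hlam, inf_comm, inf_relIndex_right, ← hKidx Z inf_le_left, hmap, hZ2]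
  have hKR : K.relIndex R = 2 := by
    rw [← hKidx R hRT, hR, ← hlamidx, hlam, inf_comm, inf_relIndex_right, ← hKidx Z inf_le_left,
      subgroupOf_sup (inf_le_left.trans hTL) (hKT.trans hTL), Subgroup.map_sup]
    have : (K.subgroupOf L).map π = ⊥ := by
      rw [Subgroup.map_eq_bot_iff, hπ, QuotientGroup.ker_mk']
    rw [this, sup_bot_eq]
  have hKTidx : K.relIndex T = 2 ^ (2 * n' + 1) := by rw [← hKidx T le_rfl, ← hT', hcard']
  have hcR : Nat.card R = 2 * Nat.card K := by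
    rw [← hKR, mul_comm, ← Subgroup.card_mul_index (K.subgroupOf R),
      Nat.card_congr (subgroupOfEquivOfLe (le_sup_right : K ≤ R)).toEquiv]
    rfl
  have hcT : Nat.card T = 4 ^ n' * Nat.card R := by
    rw [← Subgroup.card_mul_index (K.subgroupOf T),
      Nat.card_congr (subgroupOfEquivOfLe hKT).toEquiv, ← relIndex, hKTidx, hcR,
      show (4 : ℕ) = 2 ^ 2 by norm_num, ← pow_mul, pow_succ]
    ring
  have haR : a ∈ normalizer (R : Set Γ) := by
    refine CoprimeAction.le_normalizer_of_conj_mem (A := zpowers a) (fun g hg t ht => ?_)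
      (mem_zpowers a)
    obtain ⟨z, hz, κ, hκ, rfl⟩ := (hmemR t).1 ht
    have hgz : g * z = z * g := by
      obtain ⟨i, rfl⟩ := mem_zpowers_iff.1 hg
      exact ((Commute.zpow_left (h.a_cen hz : Commute a z)) i).eq
    rw [show g * (z * κ) * g⁻¹ = z * (g * κ * g⁻¹) by
      rw [← mul_assoc, hgz]; group]
    exact (hmemR _).2 ⟨z, hz, _, CoprimeAction.conj_mem (zpowers_le.2 haK hg) hκ, rfl⟩
  have hC : Comp n' T lam R a := by
    refine ⟨inf_le_left, hlamidx, hRT, le_sup_left, ?_, ?_, haR, hcT, ?_⟩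
    · intro s hs
      constructor
      · intro hsR w hw
        obtain ⟨z, hz, κ, hκ, rfl⟩ := (hmemR s).1 hsR
        refine ⟨h.Tcomm (commutator_mem_commutator hs hw), ?_⟩
        have e : ⁅z * κ, w⁆ = κ * (w * κ⁻¹ * w⁻¹) := by
          have hzc : (κ * w * κ⁻¹) * z⁻¹ = z⁻¹ * (κ * w * κ⁻¹) :=
            (Commute.inv_right (hZT z hz _ (mul_mem (mul_mem hκ.1 hw) (inv_mem hκ.1)))).eq
          rw [commutatorElement_def]
          calc z * κ * w * (z * κ)⁻¹ * w⁻¹ = z * ((κ * w * κ⁻¹) * z⁻¹) * w⁻¹ := by group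
            _ = _ := by rw [hzc]; group
        rw [e]
        exact mul_mem hκ (CoprimeAction.conj_mem (hTK hw) (inv_mem hκ))
      · intro hall'
        have hmem : π ⟨s, hTL hs⟩ ∈ cen T' := by
          refine ⟨mT hs, mem_centralizer_iff.2 ?_⟩
          rintro _ ⟨⟨w, hwL⟩, hw, rfl⟩
          exact ((hπc ⟨s, hTL hs⟩ ⟨w, hwL⟩).2 (hall' w hw).2).symm
        rw [hcen'] at hmem
        exact (hmemR s).2 (hlift s hs (mem_centralizer_singleton_iff.1 hmem.2))
    · intro s hs
      obtain ⟨z, hz, κ, hκ, rfl⟩ := (hmemR s).1 hs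
      have e : z * κ * (z * κ) = κ * κ := by
        calc z * κ * (z * κ) = z * (κ * z) * κ := by group
          _ = (z * z) * κ * κ := by rw [hZT z hz κ hκ.1]; group
          _ = _ := by rw [h.Zexp z hz, one_mul]
      rw [e]
      exact ⟨h.Tsq κ hκ.1, mul_mem hκ hκ⟩
    · intro U0 hRU hU0T haU0
      have hdvd : Nat.card R ∣ Nat.card U0 := card_dvd_of_le hRU
      obtain ⟨e, he⟩ := hdvd
      have he2 : ∃ m, e = 2 ^ m := by
        obtain ⟨eU, heU⟩ := IsPGroup.iff_card.1 (hT2.to_le hU0T)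
        obtain ⟨m, -, hm⟩ := (Nat.dvd_prime_pow Nat.prime_two).1
          (⟨Nat.card R, by rw [← heU, he, mul_comm]⟩ : e ∣ 2 ^ eU)
        exact ⟨m, hm⟩
      obtain ⟨m, rfl⟩ := he2
      have hfixE : ∀ E : Subgroup Γ, Z ≤ E → E ≤ T → a ∈ normalizer (E : Set Γ) →
          Nat.card E ≡ Nat.card Z [MOD r] := by
        intro E hZE hET haE
        have h1 := modEq_fix h.hr h.orda (E : Set Γ) fun t ht => CoprimeAction.conj_mem haE ht
        have hset : {t : Γ | t ∈ (E : Set Γ) ∧ a * t = t * a} = (Z : Set Γ) := by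
          ext t
          constructor
          · intro ⟨h2, h3⟩
            rw [SetLike.mem_coe, hZ, ← h.Tfix]
            exact ⟨hET h2, mem_centralizer_singleton_iff.2 h3.symm⟩
          · exact fun ht => ⟨hZE ht, h.a_cen ht⟩
        rw [hset] at h1
        simpa [← Nat.card_coe_set_eq] using h1
      have h1 : Nat.card R * 2 ^ m ≡ Nat.card R * 1 [MOD r] := by
        rw [← he, mul_one]
        exact (hfixE U0 (le_sup_left.trans hRU) hU0T haU0).trans
          (hfixE R le_sup_left hRT haR).symm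
      have hcop : r.gcd (Nat.card R) = 1 := by
        obtain ⟨eR, heR⟩ := IsPGroup.iff_card.1 (hT2.to_le hRT)
        rw [heR]
        exact ((Nat.coprime_primes h.hr Nat.prime_two).2 h.r2).pow_right _
      have h2 := Nat.ModEq.cancel_left_of_coprime hcop h1
      have hpos : 0 < Nat.card R := Nat.card_pos
      have hmle : m ≤ 2 * n' := by
        have h3 := Nat.le_of_dvd (Nat.card_pos) (card_dvd_of_le hU0T)
        rw [he, hcT, show (4 : ℕ) = 2 ^ 2 by norm_num, ← pow_mul, mul_comm] at h3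
        exact (Nat.pow_le_pow_iff_right (by norm_num)).1 (Nat.le_of_mul_le_mul_right h3 hpos)
      rcases pow_two_modEq h.n1 hmle (h.rn ▸ h2) with rfl | rfl
      · exact Or.inl (eq_of_le_of_card_ge hRU (by rw [he]; simp)).symm
      · refine Or.inr (eq_of_le_of_card_ge hU0T ?_)
        rw [he, hcT, show (4 : ℕ) = 2 ^ 2 by norm_num, ← pow_mul, mul_comm]
  exact ⟨lam, R, hC, fun v hv hvl => hinvK v (fun u hu => hv u (hUV hu)) hvl.2,
    fun hxR => hkK ((hC.rad x hx).1 hxR y hy).2⟩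

/-- Every element of `T` outside `Z` lies outside the radical of some constituent. -/
theorem comp_exists {p r n : ℕ} {V X S W T : Subgroup Γ} {a : Γ} (h : Frame p r n V X S W T a) :
    ∀ x ∈ T, (∀ lam R, Comp n T lam R a → x ∈ R) → x ∈ cen T := by
  intro x hx hall
  by_contra hxc
  obtain ⟨lam, R, hC, -, hxR⟩ := comp_exists_inv h hx hxc
  exact hxR (hall lam R hC)

/-- The sum of the signs over a constituent, and the size of singular subgroups. -/
theorem comp_signs {p r n : ℕ} {V X S W T : Subgroup Γ} {a : Γ} (h : Frame p r n V X S W T a)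
    {lam R : Subgroup Γ} (hc : Comp n T lam R a) :
    2 * {x : Γ | x ∈ T ∧ x * x ∈ lam}.ncard + 2 ^ n * Nat.card R = Nat.card T ∧
      ∀ L : Subgroup Γ, R ≤ L → L ≤ T → (∀ x ∈ L, x * x ∈ lam) →
        Nat.card L < 2 ^ n * Nat.card R := by
  classical
  haveI : Fintype T := Fintype.ofFinite T
  set Z := cen T with hZ
  have hmul : ∀ z ∈ Z, ∀ w ∈ Z, (z * w ∈ lam ↔ (z ∈ lam ↔ w ∈ lam)) := by
    intro z hz w hw
    exact Subgroup.mul_mem_iff_of_index_two (H := lam.subgroupOf Z) hc.lam_index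
      (a := ⟨z, hz⟩) (b := ⟨w, hw⟩)
  let ε : Γ → ℤ := fun z => if z ∈ lam then 1 else -1
  have εmul : ∀ z ∈ Z, ∀ w ∈ Z, ε (z * w) = ε z * ε w := by
    intro z hz w hw
    have := hmul z hz w hw
    simp only [ε]
    by_cases h1 : z ∈ lam <;> by_cases h2 : w ∈ lam <;> simp_all
  let q : T → ℤ := fun x => ε ((x : Γ) * x)
  let χ : T → T → ℤ := fun u x => ε ⁅((x : Γ))⁻¹, (u : Γ)⁆
  have hcZ : ∀ u x : T, ⁅((x : Γ))⁻¹, (u : Γ)⁆ ∈ Z := fun u x =>
    h.Tcomm (commutator_mem_commutator (inv_mem x.2) u.2)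
  have hqmul : ∀ x u : T, q (x * u) = q x * q u * χ u x := by
    intro x u
    have e : ((x * u : T) : Γ) * (x * u : T) =
        (x : Γ) * x * (⁅(x : Γ)⁻¹, (u : Γ)⁆ * ((u : Γ) * u)) := by
      simp only [Subgroup.coe_mul, commutatorElement_def]
      group
    simp only [q, χ]
    rw [e, εmul _ (h.Tsq x x.2) _ (mul_mem (hcZ u x) (h.Tsq u u.2)),
      εmul _ (hcZ u x) _ (h.Tsq u u.2)]
    ring
  have hχmul : ∀ u x y : T, χ u (x * y) = χ u x * χ u y := by
    intro u x y
    have hyc : (y : Γ) * ⁅(x : Γ)⁻¹, (u : Γ)⁆ = ⁅(x : Γ)⁻¹, (u : Γ)⁆ * y :=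
      mem_centralizer_iff.1 (hcZ u x).2 y y.2
    have e : ⁅((x * y : T) : Γ)⁻¹, (u : Γ)⁆ = ⁅(x : Γ)⁻¹, (u : Γ)⁆ * ⁅(y : Γ)⁻¹, (u : Γ)⁆ := by
      calc ⁅((x * y : T) : Γ)⁻¹, (u : Γ)⁆
          = (y : Γ)⁻¹ * ⁅(x : Γ)⁻¹, (u : Γ)⁆ * (u : Γ) * y * (u : Γ)⁻¹ := by
            simp only [Subgroup.coe_mul, commutatorElement_def]; group
        _ = (y : Γ)⁻¹ * (⁅(x : Γ)⁻¹, (u : Γ)⁆ * y) * ((y : Γ)⁻¹ * u * y * (u : Γ)⁻¹) := by group
        _ = _ := by rw [← hyc]; simp only [commutatorElement_def]; group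
    simp only [χ]
    rw [e, εmul _ (hcZ u x) _ (hcZ u y)]
  have ε2 : ∀ z, ε z * ε z = 1 := fun z => by simp only [ε]; split <;> norm_num
  have ε1 : ∀ z, z ∈ lam → ε z = 1 := fun z hz => if_pos hz
  have hχsum : ∀ u : T, ∑ x : T, χ u x = if (u : Γ) ∈ R then (Nat.card T : ℤ) else 0 := by
    intro u
    split
    · next hu =>
      have hone : ∀ x : T, χ u x = 1 := fun x => ε1 _ (by
        have := (hc.rad u u.2).1 hu _ (inv_mem x.2)
        rw [← commutatorElement_inv]
        exact inv_mem this)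
      simp [hone, Nat.card_eq_fintype_card]
    · next hu =>
      obtain ⟨w, hw, hwlam⟩ : ∃ w ∈ T, ⁅(u : Γ), w⁆ ∉ lam := by
        by_contra hno
        push Not at hno
        exact hu ((hc.rad u u.2).2 hno)
      have hneg : χ u ⟨w⁻¹, inv_mem hw⟩ = -1 := by
        refine if_neg ?_
        simp only [inv_inv]
        rw [← commutatorElement_inv]
        exact fun h' => hwlam (by simpa using inv_mem h')
      have hs : ∑ x : T, χ u x = ∑ x : T, χ u (⟨w⁻¹, inv_mem hw⟩ * x) :=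
        (Equiv.sum_comp (Equiv.mulLeft (⟨w⁻¹, inv_mem hw⟩ : T)) _).symm
      simp only [hχmul, hneg, neg_one_mul, Finset.sum_neg_distrib] at hs
      linarith
  have hqR : ∀ u : T, (u : Γ) ∈ R → q u = 1 := fun u hu => ε1 _ (hc.sqR u hu)
  set S0 : ℤ := ∑ x : T, q x with hS0
  have hcardR : (Finset.univ.filter fun u : T => (u : Γ) ∈ R).card = Nat.card R := by
    rw [← Fintype.card_subtype, ← Nat.card_eq_fintype_card]
    exact Nat.card_congr ⟨fun u => ⟨u.1, u.2⟩, fun u => ⟨⟨u, hc.RT u.2⟩, u.2⟩,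
      fun u => rfl, fun u => rfl⟩
  have hsq : S0 * S0 = (Nat.card R : ℤ) * Nat.card T := by
    calc S0 * S0 = ∑ x : T, q x * ∑ u : T, q (x * u) := by
          rw [hS0, Finset.sum_mul]
          refine Finset.sum_congr rfl fun x _ => ?_
          rw [← Equiv.sum_comp (Equiv.mulLeft x) q]
          rfl
      _ = ∑ x : T, ∑ u : T, q u * χ u x := by
          refine Finset.sum_congr rfl fun x _ => ?_
          rw [Finset.mul_sum]
          refine Finset.sum_congr rfl fun u _ => ?_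
          rw [hqmul, ← mul_assoc, ← mul_assoc, show q x * q x = 1 from ε2 _, one_mul]
      _ = ∑ u : T, q u * ∑ x : T, χ u x := by
          rw [Finset.sum_comm]; simp only [Finset.mul_sum]
      _ = ∑ u : T, if (u : Γ) ∈ R then (Nat.card T : ℤ) else 0 := by
          refine Finset.sum_congr rfl fun u _ => ?_
          rw [hχsum u]
          split
          · next hu => rw [hqR u hu, one_mul]
          · rw [mul_zero]
      _ = _ := by rw [← Finset.sum_filter, Finset.sum_const, hcardR, nsmul_eq_mul]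
  have hTcard : (Nat.card T : ℤ) = (2 ^ n) * (2 ^ n) * Nat.card R := by
    rw [hc.card, Nat.cast_mul, Nat.cast_pow, ← mul_pow]
    norm_num
  -- counting
  set s : Finset T := Finset.univ.filter fun x : T => (x : Γ) * x ∈ lam with hs
  have hN : {x : Γ | x ∈ T ∧ x * x ∈ lam}.ncard = s.card := by
    rw [← Nat.card_coe_set_eq, hs, ← Fintype.card_subtype, ← Nat.card_eq_fintype_card]
    exact Nat.card_congr ⟨fun x => ⟨⟨x.1, x.2.1⟩, x.2.2⟩, fun x => ⟨x.1, x.1.2, x.2⟩,
      fun x => rfl, fun x => rfl⟩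
  have hS : S0 = 2 * (s.card : ℤ) - Nat.card T := by
    have : ∀ x : T, q x = 2 * (if (x : Γ) * x ∈ lam then (1 : ℤ) else 0) - 1 := fun x => by
      simp only [q, ε]; split <;> norm_num
    rw [hS0, Finset.sum_congr rfl fun x _ => this x, Finset.sum_sub_distrib, ← Finset.mul_sum,
      Finset.sum_boole, ← hs]
    simp [Nat.card_eq_fintype_card]
  have hneg : S0 = -(2 ^ n * (Nat.card R : ℤ)) := by
    rcases mul_self_eq_mul_self_iff.1 (show S0 * S0 = (2 ^ n * (Nat.card R : ℤ)) *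
      (2 ^ n * (Nat.card R : ℤ)) by rw [hsq, hTcard]; ring) with hS' | hS'
    · exfalso
      -- orbits of `a`
      haveI := Fact.mk h.hr
      have hfix : ∀ E : Set Γ, (∀ x ∈ E, a * x * a⁻¹ ∈ E) → E ⊆ T → (Z : Set Γ) ⊆ E →
          (E.ncard : ZMod r) = Nat.card Z := by
        intro E hinv hET hZE
        rw [ZMod.natCast_eq_natCast_iff]
        refine (modEq_fix h.hr h.orda E hinv).trans ?_
        have hset : {x : Γ | x ∈ E ∧ a * x = x * a} = (Z : Set Γ) := by
          ext x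
          constructor
          · intro ⟨h2, h3⟩
            rw [SetLike.mem_coe, hZ, ← h.Tfix]
            exact ⟨hET h2, mem_centralizer_singleton_iff.2 h3.symm⟩
          · exact fun hx => ⟨hZE hx, h.a_cen hx⟩
        rw [hset, ← Nat.card_coe_set_eq]
        exact Nat.ModEq.refl _
      have e1 := hfix (T : Set Γ) (fun x hx => CoprimeAction.conj_mem h.aT hx) subset_rfl
        (fun x hx => hx.1)
      have e2 := hfix (R : Set Γ) (fun x hx => CoprimeAction.conj_mem hc.aR hx)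
        (fun x hx => hc.RT hx) (fun x hx => hc.cenR hx)
      have e3 := hfix {x : Γ | x ∈ T ∧ x * x ∈ lam} (fun x hx => by
          refine ⟨CoprimeAction.conj_mem h.aT hx.1, ?_⟩
          have hz : x * x ∈ Z := h.Tsq x hx.1
          rw [show a * x * a⁻¹ * (a * x * a⁻¹) = a * (x * x) * a⁻¹ by group,
            h.a_cen hz, mul_inv_cancel_right]
          exact hx.2) (fun x hx => hx.1)
        (fun x hx => ⟨hx.1, by rw [h.Zexp x hx]; exact one_mem lam⟩)
      simp only [← Nat.card_coe_set_eq, SetLike.coe_sort_coe] at e1 e2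
      rw [hN] at e3
      have h4 := congrArg (fun i : ℤ => (i : ZMod r)) (hS.symm.trans hS')
      push_cast at h4
      rw [e1, e2, e3] at h4
      have h5 : (2 : ZMod r) ^ n + 1 = 0 := by
        have h6 : ((2 ^ n + 1 : ℕ) : ZMod r) = 0 := by rw [← h.rn, ZMod.natCast_self]
        push_cast at h6
        exact h6
      have h6 : (2 : ZMod r) * (Nat.card Z : ZMod r) = 0 := by linear_combination h4 + (Nat.card Z : ZMod r) * h5
      obtain ⟨eZ, heZ⟩ := IsPGroup.iff_card.1 (h.T2.to_le (inf_le_left : Z ≤ T))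
      have h2ne : (2 : ZMod r) ≠ 0 := by
        intro h7
        have h8 : ((2 : ℕ) : ZMod r) = 0 := by exact_mod_cast h7
        rw [ZMod.natCast_eq_zero_iff, Nat.prime_dvd_prime_iff_eq h.hr Nat.prime_two] at h8
        exact h.r2 h8
      rw [heZ, Nat.cast_pow] at h6
      exact (mul_ne_zero h2ne (pow_ne_zero _ h2ne)) (by exact_mod_cast h6)
    · exact hS'
  refine ⟨?_, ?_⟩
  · rw [hN]
    have : (2 * (s.card : ℤ) + 2 ^ n * Nat.card R) = Nat.card T := by linarith
    exact_mod_cast this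
  intro L hRL hLT hLsq
  by_contra hlt
  push Not at hlt
  let Ls : Finset T := Finset.univ.filter fun u : T => (u : Γ) ∈ L
  have hLs : Ls.card = Nat.card L := by
    rw [← Fintype.card_subtype, ← Nat.card_eq_fintype_card]
    exact Nat.card_congr ⟨fun u => ⟨u.1, u.2⟩, fun u => ⟨⟨u, hLT u.2⟩, u.2⟩,
      fun u => rfl, fun u => rfl⟩
  have hq1 : ∀ u ∈ Ls, q u = 1 := fun u hu => ε1 _ (hLsq u (Finset.mem_filter.1 hu).2)
  -- the orthogonal of `L`
  set P : Finset T := Finset.univ.filter fun x : T => ∀ u ∈ Ls, χ u x = 1 with hP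
  have hLP : Ls ⊆ P := by
    intro x hx
    refine Finset.mem_filter.2 ⟨Finset.mem_univ _, fun u hu => ?_⟩
    have hxu : x * u ∈ Ls := Finset.mem_filter.2 ⟨Finset.mem_univ _,
      mul_mem (Finset.mem_filter.1 hx).2 (Finset.mem_filter.1 hu).2⟩
    have := hqmul x u
    rw [hq1 _ hx, hq1 _ hu, hq1 _ hxu, one_mul, one_mul] at this
    exact this.symm
  have hinner : ∀ x : T, ∑ u ∈ Ls, χ u x = if x ∈ P then (Ls.card : ℤ) else 0 := by
    intro x
    split
    · next hx =>
      rw [Finset.sum_congr rfl fun u hu => (Finset.mem_filter.1 hx).2 u hu]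
      simp
    · next hx =>
      obtain ⟨w, hw, hwx⟩ : ∃ w ∈ Ls, χ w x ≠ 1 := by
        by_contra hno
        push Not at hno
        exact hx (Finset.mem_filter.2 ⟨Finset.mem_univ _, hno⟩)
      have hw1 : χ w x = -1 := by
        simp only [χ, ε] at hwx ⊢
        split <;> simp_all
      have hlin : ∀ u : T, χ (w * u) x = χ w x * χ u x := by
        intro u
        have h1 := hqmul (x * w) u
        rw [mul_assoc, hqmul x (w * u), hqmul x w, hqmul w u, hχmul] at h1
        have hne : ∀ v : T, q v ≠ 0 := fun v => by simp only [q, ε]; split <;> norm_num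
        have hne' : χ u w ≠ 0 := by simp only [χ, ε]; split <;> norm_num
        have h2 : (q x * q w * q u * χ u w) * χ (w * u) x =
            (q x * q w * q u * χ u w) * (χ w x * χ u x) := by linear_combination h1
        exact mul_left_cancel₀
          (mul_ne_zero (mul_ne_zero (mul_ne_zero (hne x) (hne w)) (hne u)) hne') h2
      have hs' : ∑ u ∈ Ls, χ u x = ∑ u ∈ Ls, χ (w * u) x := by
        refine Finset.sum_nbij' (fun u => w⁻¹ * u) (fun u => w * u) ?_ ?_ ?_ ?_ ?_ <;>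
          simp only [Ls, Finset.mem_filter, Finset.mem_univ, true_and,
            Subgroup.coe_mul, InvMemClass.coe_inv, mul_inv_cancel_left, inv_mul_cancel_left,
            implies_true]
        · exact fun u hu => mul_mem (inv_mem (Finset.mem_filter.1 hw).2) hu
        · exact fun u hu => mul_mem (Finset.mem_filter.1 hw).2 hu
      simp only [hlin, hw1, neg_one_mul, Finset.sum_neg_distrib] at hs'
      linarith
  have hdual : (Ls.card : ℤ) * P.card = Nat.card T * Nat.card R := by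
    calc (Ls.card : ℤ) * P.card = ∑ x : T, ∑ u ∈ Ls, χ u x := by
          rw [Finset.sum_congr rfl fun x _ => hinner x, Finset.sum_ite_mem, Finset.univ_inter,
            Finset.sum_const, nsmul_eq_mul, mul_comm]
      _ = ∑ u ∈ Ls, ∑ x : T, χ u x := Finset.sum_comm
      _ = _ := by
          rw [Finset.sum_congr rfl fun u _ => hχsum u, ← Finset.sum_filter, Finset.sum_const,
            nsmul_eq_mul, mul_comm]
          congr 1
          rw [← hcardR]
          norm_cast
          congr 1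
          ext u
          simp only [Ls, Finset.mem_filter, Finset.mem_univ, true_and, and_iff_right_iff_imp]
          exact fun hu => hRL hu
  have havg : (Ls.card : ℤ) * S0 = Ls.card * ∑ x ∈ P, q x := by
    calc (Ls.card : ℤ) * S0 = ∑ u ∈ Ls, ∑ x : T, q (x * u) := by
          rw [← nsmul_eq_mul, ← Finset.sum_const]
          refine Finset.sum_congr rfl fun u _ => ?_
          exact (Equiv.sum_comp (Equiv.mulRight u) q).symm
      _ = ∑ x : T, q x * ∑ u ∈ Ls, χ u x := by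
          rw [Finset.sum_comm]
          refine Finset.sum_congr rfl fun x _ => ?_
          rw [Finset.mul_sum]
          refine Finset.sum_congr rfl fun u hu => ?_
          rw [hqmul, hq1 u hu, mul_one]
      _ = _ := by
          simp only [hinner, mul_ite, mul_zero]
          rw [Finset.sum_ite_mem, Finset.univ_inter, Finset.mul_sum]
          exact Finset.sum_congr rfl fun x _ => mul_comm _ _
  have hRpos : (0 : ℤ) < Nat.card R := by exact_mod_cast Nat.card_pos
  have hLge : 2 ^ n * (Nat.card R : ℤ) ≤ Ls.card := by rw [hLs]; exact_mod_cast hlt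
  have hPL : P = Ls := by
    refine (Finset.eq_of_subset_of_card_le hLP ?_).symm
    have hle : (P.card : ℤ) ≤ Ls.card := by
      have hp0 : (0 : ℤ) ≤ P.card := Int.natCast_nonneg _
      have hbig := mul_le_mul_of_nonneg_right hLge hp0
      rw [hdual, hTcard] at hbig
      have hpos : (0 : ℤ) < 2 ^ n * Nat.card R := mul_pos (by positivity) hRpos
      have : (P.card : ℤ) ≤ 2 ^ n * Nat.card R := by nlinarith
      linarith
    exact_mod_cast hle
  rw [hPL, Finset.sum_congr rfl hq1, hneg] at havg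
  simp only [Finset.sum_const, nsmul_eq_mul, mul_one] at havg
  have hpos : (0 : ℤ) < 2 ^ n * Nat.card R := mul_pos (by positivity) hRpos
  nlinarith

/-- The number of singular elements of a constituent. -/
theorem comp_count {p r n : ℕ} {V X S W T : Subgroup Γ} {a : Γ} (h : Frame p r n V X S W T a)
    {lam R : Subgroup Γ} (hc : Comp n T lam R a) :
    2 * {x : Γ | x ∈ T ∧ x * x ∈ lam}.ncard + 2 ^ n * Nat.card R = Nat.card T :=
  (comp_signs h hc).1

/-- A singular subgroup of a constituent is small. -/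
theorem comp_singular {p r n : ℕ} {V X S W T : Subgroup Γ} {a : Γ} (h : Frame p r n V X S W T a)
    {lam R : Subgroup Γ} (hc : Comp n T lam R a) {L : Subgroup Γ} (hRL : R ≤ L) (hLT : L ≤ T)
    (hsing : ∀ x ∈ L, x * x ∈ lam) : Nat.card L < 2 ^ n * Nat.card R :=
  (comp_signs h hc).2 L hRL hLT hsing

end Cfsg.Agent.Flavell8.Gen
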