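import Cfsg.Agent.Lib.FlavellGen8Setup
import Cfsg.Agent.Lib.FlavellGen8Comp
import Cfsg.Agent.Lib.FlavellFrameBase20

/-!
In a frame, an element `w` of the normaliser of `T` with central square which moves `T / Z`
determines a subgroup `E = [T, w] Z` which is the kernel of `x ↦ [x, w] Z`; every element
commuting with `w` modulo the centre of `X` moves `T` into `E` and acts trivially on `E`.
-/

set_option autoImplicit false
set_option linter.unusedSectionVars false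

open scoped commutatorElement

namespace Cfsg.Agent.Flavell8.Gen

open Subgroup

universe u

namespace Line

variable {Γ : Type u} [Group Γ] [Finite Γ] {p r n : ℕ} {V X S W T : Subgroup Γ} {a : Γ}
  (h : Frame p r n V X S W T a)

include h

theorem TX : T ≤ X := h.TW.trans h.WX

theorem gen {K S₀ : Subgroup Γ} (hK : K ≤ X) (ha : a ∈ normalizer (K : Set Γ))
    (hfix : K ⊓ centralizer ({a} : Set Γ) ≤ S₀) (hstep : ∀ t ∈ K, t * (a * t * a⁻¹)⁻¹ ∈ S₀) :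
    K ≤ S₀ := by
  have hcomm : ⁅K, zpowers a⁆ ≤ S₀ := by
    rw [Subgroup.commutator_le]
    intro t ht g hg
    obtain ⟨k, rfl⟩ := mem_powers_iff_mem_zpowers.2 hg
    have key : ∀ k : ℕ, a ^ k * t * (a ^ k)⁻¹ ∈ K ∧ ⁅t, a ^ k⁆ ∈ S₀ := fun k => by
      induction k with
      | zero => simp [ht]
      | succ k ih =>
        refine ⟨?_, ?_⟩
        · have := CoprimeAction.conj_mem ha ih.1
          simpa [pow_succ', mul_assoc] using this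
        · have := mul_mem ih.2 (hstep _ ih.1)
          have e : ⁅t, a ^ k⁆ * ((a ^ k * t * (a ^ k)⁻¹) * (a * (a ^ k * t * (a ^ k)⁻¹) * a⁻¹)⁻¹)
              = ⁅t, a ^ (k + 1)⁆ := by
            simp only [commutatorElement_def, pow_succ']; group
          rwa [e] at this
    exact (key k).2
  intro x hx
  obtain ⟨y, hy, c, hc, rfl⟩ := CoprimeAction.exists_mul_fixed
    (FlavellFrame20.zpowers_le_normalizer ha)
    (by rw [Nat.card_zpowers, h.orda]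
        exact h.hr.coprime_iff_not_dvd.2 fun hd => h.rX (hd.trans (Subgroup.card_dvd_of_le hK)))
    (Or.inl (CoprimeAction.isSolvable_zpowers a)) hx
  rw [FlavellFrame20.centralizer_zpowers] at hc
  exact mul_mem (hcomm hy) (hfix hc)

theorem cenX {k x : Γ} (hk : k ∈ centralizer (X : Set Γ)) (hx : x ∈ X) : x * k = k * x :=
  mem_centralizer_iff.1 hk x hx

theorem cenT {z t : Γ} (hz : z ∈ cen T) (ht : t ∈ T) : t * z = z * t :=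
  mem_centralizer_iff.1 hz.2 t ht

theorem CXT {k : Γ} (hk : k ∈ centralizer (X : Set Γ)) (hkT : k ∈ T) : k ∈ cen T :=
  ⟨hkT, mem_centralizer_iff.2 fun t ht => cenX h hk (TX h ht)⟩

theorem comm_cen {x y : Γ} (hx : x ∈ T) (hy : y ∈ T) : ⁅x, y⁆ ∈ cen T :=
  h.Tcomm (commutator_mem_commutator hx hy)

theorem norm_cen {g z : Γ} (hg : g ∈ normalizer (T : Set Γ)) (hz : z ∈ cen T) :
    g * z * g⁻¹ ∈ cen T :=
  ⟨CoprimeAction.conj_mem hg hz.1, CoprimeAction.conj_mem (norm_cent T hg) hz.2⟩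

theorem comm_T {g x : Γ} (hg : g ∈ normalizer (T : Set Γ)) (hx : x ∈ T) : ⁅x, g⁆ ∈ T := by
  rw [commutatorElement_def, mul_assoc, mul_assoc, ← mul_assoc g]
  exact mul_mem hx (CoprimeAction.conj_mem hg (inv_mem hx))

theorem comm_cen_left {g z : Γ} (hg : g ∈ normalizer (T : Set Γ)) (hz : z ∈ cen T) :
    ⁅z, g⁆ ∈ cen T := by
  rw [commutatorElement_def, mul_assoc, mul_assoc, ← mul_assoc g]
  exact mul_mem hz (norm_cen h hg (inv_mem hz))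

theorem mul_left {g x y : Γ} (hg : g ∈ normalizer (T : Set Γ)) (hx : x ∈ T) (hy : y ∈ T) :
    ∃ z ∈ cen T, ⁅x * y, g⁆ = ⁅y, g⁆ * ⁅x, g⁆ * z := by
  have hu := comm_T h hg hy
  have hc := comm_cen h (inv_mem hu) hx
  refine ⟨_, hc, ?_⟩
  calc ⁅x * y, g⁆ = ⁅y, g⁆ * (⁅(⁅y, g⁆)⁻¹, x⁆ * ⁅x, g⁆) := by
        simp only [commutatorElement_def]; group
    _ = _ := by rw [← cenT h hc (comm_T h hg hx), mul_assoc]

theorem conjA {g x : Γ} (hgX : g ∈ X) (hg : g ∈ normalizer (T : Set Γ)) (hx : x ∈ T) :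
    ∃ z ∈ cen T, a * ⁅x, g⁆ * a⁻¹ = ⁅a * x * a⁻¹, g⁆ * z := by
  obtain ⟨c, hc, τ, hτ, hcN, rfl⟩ := h.Mdecomp g ⟨hgX, hg⟩
  have hca : c * a = a * c := (mem_centralizer_singleton_iff.1 hc.2)
  have ht : τ⁻¹ * (a * τ * a⁻¹) ∈ T := mul_mem (inv_mem hτ) (CoprimeAction.conj_mem h.aT hτ)
  have hx' : a * x * a⁻¹ ∈ T := CoprimeAction.conj_mem h.aT hx
  refine ⟨_, norm_cen h hg (comm_cen h hx' ht), ?_⟩
  have e : a * (c * τ) * a⁻¹ = (c * τ) * (τ⁻¹ * (a * τ * a⁻¹)) := by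
    calc a * (c * τ) * a⁻¹ = (a * c) * τ * a⁻¹ := by group
      _ = (c * a) * τ * a⁻¹ := by rw [hca]
      _ = _ := by group
  calc a * ⁅x, c * τ⁆ * a⁻¹ = ⁅a * x * a⁻¹, a * (c * τ) * a⁻¹⁆ := by
        simp only [commutatorElement_def]; group
    _ = _ := by rw [e]; simp only [commutatorElement_def]; group

/-- The subgroup `[U, g] Z`. -/
theorem img {g : Γ} {U : Subgroup Γ} (hgX : g ∈ X) (hg : g ∈ normalizer (T : Set Γ)) (hUT : U ≤ T)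
    (haU : a ∈ normalizer (U : Set Γ)) :
    ∃ F : Subgroup Γ, F ≤ T ∧ cen T ≤ F ∧ a ∈ normalizer (F : Set Γ) ∧
      (∀ x ∈ U, ⁅x, g⁆ ∈ F) ∧ ∀ f ∈ F, ∃ x ∈ U, ∃ z ∈ cen T, f = ⁅x, g⁆ * z := by
  let s : Set Γ := {f | ∃ x ∈ U, ∃ z ∈ cen T, f = ⁅x, g⁆ * z}
  have hone : (1 : Γ) ∈ s := ⟨1, one_mem _, 1, one_mem _, by simp⟩
  have hmul : ∀ f ∈ s, ∀ f' ∈ s, f * f' ∈ s := by
    rintro _ ⟨x, hx, z, hz, rfl⟩ _ ⟨x', hx', z', hz', rfl⟩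
    obtain ⟨z'', hz'', e⟩ := mul_left h hg (hUT hx') (hUT hx)
    refine ⟨x' * x, mul_mem hx' hx, z''⁻¹ * (z * z'), mul_mem (inv_mem hz'') (mul_mem hz hz'), ?_⟩
    have hcz := cenT h hz (comm_T h hg (hUT hx'))
    calc ⁅x, g⁆ * z * (⁅x', g⁆ * z') = ⁅x, g⁆ * (z * ⁅x', g⁆) * z' := by group
      _ = ⁅x, g⁆ * ⁅x', g⁆ * z * z' := by rw [← hcz]; group
      _ = ⁅x' * x, g⁆ * (z''⁻¹ * (z * z')) := by rw [e]; group
  let M : Submonoid Γ := { carrier := s, one_mem' := hone, mul_mem' := fun hf hf' => hmul _ hf _ hf' }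
  have hinv : ∀ f ∈ s, f⁻¹ ∈ s := fun f hf => by
    obtain ⟨k, hk⟩ := mem_powers_iff_mem_zpowers.2 (inv_mem (mem_zpowers f))
    exact hk ▸ M.pow_mem hf k
  refine ⟨{ M with inv_mem' := fun hf => hinv _ hf }, ?_, ?_, ?_, ?_, fun f hf => hf⟩
  · rintro _ ⟨x, hx, z, hz, rfl⟩
    exact mul_mem (comm_T h hg (hUT hx)) hz.1
  · intro z hz
    exact ⟨1, one_mem _, z, hz, by simp⟩
  · apply FlavellFrame20.mem_normalizer_of_map_le
    rintro _ ⟨_, ⟨x, hx, z, hz, rfl⟩, rfl⟩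
    obtain ⟨z', hz', e⟩ := conjA h hgX hg (hUT hx)
    refine ⟨a * x * a⁻¹, CoprimeAction.conj_mem haU hx, z' * z, mul_mem hz' hz, ?_⟩
    show a * (⁅x, g⁆ * z) * a⁻¹ = _
    calc a * (⁅x, g⁆ * z) * a⁻¹ = a * ⁅x, g⁆ * a⁻¹ * (a * z * a⁻¹) := by group
      _ = _ := by rw [h.a_cen hz, mul_inv_cancel_right, e, mul_assoc]
  · intro x hx
    exact ⟨x, hx, 1, one_mem _, by simp⟩

/-- An element with central square inverts its commutators. -/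
theorem inverts {g x : Γ} (hsq : g * g ∈ centralizer (X : Set Γ)) (hx : x ∈ X) :
    g * ⁅x, g⁆ * g⁻¹ = (⁅x, g⁆)⁻¹ := by
  have e := cenX h hsq (inv_mem hx)
  calc g * ⁅x, g⁆ * g⁻¹ = g * x * g * x⁻¹ * g⁻¹ * g⁻¹ := by
        simp only [commutatorElement_def]; group
    _ = g * x * g⁻¹ * ((g * g) * x⁻¹) * (g * g)⁻¹ := by group
    _ = g * x * g⁻¹ * (x⁻¹ * (g * g)) * (g * g)⁻¹ := by rw [e]
    _ = _ := by simp only [commutatorElement_def]; group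

theorem comm_self {g x : Γ} (hsq : g * g ∈ centralizer (X : Set Γ)) (hx : x ∈ X) :
    ⁅⁅x, g⁆, g⁆ = ⁅x, g⁆ * ⁅x, g⁆ := by
  have e : g * (⁅x, g⁆)⁻¹ * g⁻¹ = ⁅x, g⁆ := by
    calc g * (⁅x, g⁆)⁻¹ * g⁻¹ = (g * ⁅x, g⁆ * g⁻¹)⁻¹ := conj_inv.symm
      _ = _ := by rw [inverts h hsq hx, inv_inv]
  rw [commutatorElement_def ⁅x, g⁆ g, mul_assoc, mul_assoc, ← mul_assoc g, e]

theorem comm_mul_CX {x z g : Γ} (hx : x ∈ X) (hc : ⁅z, g⁆ ∈ centralizer (X : Set Γ)) :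
    ⁅x * z, g⁆ = ⁅z, g⁆ * ⁅x, g⁆ := by
  calc ⁅x * z, g⁆ = (x * ⁅z, g⁆) * x⁻¹ * ⁅x, g⁆ := by
        simp only [commutatorElement_def]; group
    _ = _ := by rw [cenX h hc hx, mul_inv_cancel_right]

theorem comm_swap {x y : Γ} (hc : ⁅x, y⁆ ∈ centralizer (X : Set Γ)) :
    ⁅y, x⁆ ∈ centralizer (X : Set Γ) := by
  rw [← commutatorElement_inv]; exact inv_mem hc

theorem comm_inv_left {x y : Γ} (hx : x ∈ X) (hc : ⁅x⁻¹, y⁆ ∈ centralizer (X : Set Γ)) :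
    ⁅x, y⁆ ∈ centralizer (X : Set Γ) := by
  have := comm_mul_CX h hx hc
  rw [mul_inv_cancel, commutatorElement_one_left] at this
  have e : ⁅x, y⁆ = (⁅x⁻¹, y⁆)⁻¹ := eq_inv_of_mul_eq_one_right this.symm
  rw [e]; exact inv_mem hc

/-- Conjugating `[x, k]` by `g`. -/
theorem conjW {g x k : Γ} (hg : g ∈ normalizer (T : Set Γ))
    (hgX : g ∈ X) (hsq : g * g ∈ centralizer (X : Set Γ))
    (hgZ : ∀ z ∈ cen T, ⁅z, g⁆ ∈ centralizer (X : Set Γ))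
    (hx : x ∈ T) (hk : k ∈ T) (hkg : ⁅k, g⁆ ∈ cen T) :
    ⁅⁅x, g⁆, k⁆ ∈ centralizer (X : Set Γ) := by
  have hy : ⁅x, g⁆ ∈ T := comm_T h hg hx
  have e1 : g * x * g⁻¹ = (⁅x, g⁆)⁻¹ * x := by
    calc g * x * g⁻¹ = g * ⁅x, g⁆ * g⁻¹ * (g * g * x * (g * g)⁻¹) := by
          simp only [commutatorElement_def]; group
      _ = _ := by
          rw [inverts h hsq (TX h hx), ← cenX h hsq (TX h hx), mul_inv_cancel_right]
  have hkg' : ⁅k⁻¹, g⁆ ∈ cen T := by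
    have : ⁅k⁻¹, g⁆ = k⁻¹ * (⁅k, g⁆)⁻¹ * k := by simp only [commutatorElement_def]; group
    rw [this, cenT h (inv_mem hkg) (inv_mem hk), inv_mul_cancel_right]
    exact inv_mem hkg
  have e2 : g * k * g⁻¹ = ⁅k⁻¹, g⁆ * k := by
    rw [← cenT h hkg' hk]; simp only [commutatorElement_def]; group
  have hz : ⁅x, k⁆ ∈ cen T := comm_cen h hx hk
  have hyk : ⁅⁅x, g⁆, k⁆ ∈ cen T := comm_cen h hy hk
  have hq : (⁅x, g⁆)⁻¹ * x ∈ T := mul_mem (inv_mem hy) hx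
  have e3 : g * ⁅x, k⁆ * g⁻¹ = ⁅x, k⁆ * (⁅⁅x, g⁆, k⁆)⁻¹ := by
    calc g * ⁅x, k⁆ * g⁻¹ = ⁅g * x * g⁻¹, g * k * g⁻¹⁆ := by
          simp only [commutatorElement_def]; group
      _ = ⁅(⁅x, g⁆)⁻¹ * x, ⁅k⁻¹, g⁆ * k⁆ := by rw [e1, e2]
      _ = ((⁅x, g⁆)⁻¹ * x * ⁅k⁻¹, g⁆) * (k * ((⁅x, g⁆)⁻¹ * x)⁻¹ * k⁻¹) * (⁅k⁻¹, g⁆)⁻¹ := by
          simp only [commutatorElement_def ((⁅x, g⁆)⁻¹ * x)]; group
      _ = ⁅k⁻¹, g⁆ * ⁅(⁅x, g⁆)⁻¹ * x, k⁆ * (⁅k⁻¹, g⁆)⁻¹ := by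
          rw [cenT h hkg' hq]; simp only [commutatorElement_def ((⁅x, g⁆)⁻¹ * x)]; group
      _ = ⁅(⁅x, g⁆)⁻¹ * x, k⁆ := by
          rw [← cenT h hkg' (comm_T h (le_normalizer hk) hq), mul_inv_cancel_right]
      _ = (⁅x, g⁆)⁻¹ * ⁅x, k⁆ * ⁅x, g⁆ * ((⁅x, g⁆)⁻¹ * (⁅⁅x, g⁆, k⁆)⁻¹ * ⁅x, g⁆) := by
          simp only [commutatorElement_def]; group
      _ = _ := by
          rw [cenT h hz (inv_mem hy), inv_mul_cancel_right,
            cenT h (inv_mem hyk) (inv_mem hy), inv_mul_cancel_right]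
  have hout : g * ⁅x, k⁆ * g⁻¹ * (⁅x, k⁆)⁻¹ ∈ centralizer (X : Set Γ) := by
    have := inv_mem (hgZ _ hz)
    rwa [commutatorElement_inv, commutatorElement_def] at this
  rw [e3, cenT h (inv_mem hz) (mul_mem hz.1 (inv_mem hyk.1))] at hout
  rw [← mul_assoc, inv_mul_cancel, one_mul] at hout
  simpa using inv_mem hout

/-- Two commuting actions on `T / Z` commute. -/
theorem comm_comm_iff {g w x : Γ} (hg : g ∈ normalizer (T : Set Γ))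
    (hw : w ∈ normalizer (T : Set Γ)) (hgX : g ∈ X) (hwX : w ∈ X) (hx : x ∈ T)
    (hc : ⁅g, w⁆ ∈ centralizer (X : Set Γ)) :
    ⁅⁅x, g⁆, w⁆ ∈ cen T ↔ ⁅⁅x, w⁆, g⁆ ∈ cen T := by
  have hy : ⁅x, w⁆ ∈ T := comm_T h hw hx
  have hq : ⁅x, g⁆ ∈ T := comm_T h hg hx
  set Q := g * (⁅x, w⁆)⁻¹ * g⁻¹ with hQ
  have hQT : Q ∈ T := CoprimeAction.conj_mem hg (inv_mem hy)
  have hgw : g * w * g⁻¹ = ⁅g, w⁆ * w := by simp only [commutatorElement_def]; group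
  have hv : g * x * g⁻¹ ∈ X := mul_mem (mul_mem hgX (TX h hx)) (inv_mem hgX)
  have e1 : g * ⁅x, w⁆ * g⁻¹ = ⁅g * x * g⁻¹, w⁆ := by
    calc g * ⁅x, w⁆ * g⁻¹ = ⁅g * x * g⁻¹, g * w * g⁻¹⁆ := by
          simp only [commutatorElement_def]; group
      _ = ⁅g * x * g⁻¹, ⁅g, w⁆ * w⁆ := by rw [hgw]
      _ = ((g * x * g⁻¹) * ⁅g, w⁆) *
          (w * (g * x * g⁻¹)⁻¹ * w⁻¹ * (⁅g, w⁆)⁻¹) := by
          simp only [commutatorElement_def]; group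
      _ = (⁅g, w⁆ * (g * x * g⁻¹)) *
          ((⁅g, w⁆)⁻¹ * (w * (g * x * g⁻¹)⁻¹ * w⁻¹)) := by
          rw [cenX h hc hv, cenX h (inv_mem hc)
            (mul_mem (mul_mem hwX (inv_mem hv)) (inv_mem hwX))]
      _ = ⁅g, w⁆ * (g * x * g⁻¹) * (⁅g, w⁆)⁻¹ *
          (w * (g * x * g⁻¹)⁻¹ * w⁻¹) := by group
      _ = _ := by
          rw [← cenX h hc hv, mul_inv_cancel_right]
          simp only [commutatorElement_def]; group
  have e2 : ⁅⁅x, g⁆, w⁆ = ⁅⁅x, g⁆, Q⁆ * ⁅Q, ⁅x, w⁆⁆ * ⁅⁅x, w⁆, g⁆ := by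
    calc ⁅⁅x, g⁆, w⁆ = ⁅x, g⁆ * (g * x * g⁻¹ * w * (g * x * g⁻¹)⁻¹ * w⁻¹)⁻¹ * (⁅x, g⁆)⁻¹ *
          ⁅x, w⁆ := by simp only [commutatorElement_def]; group
      _ = ⁅x, g⁆ * Q * (⁅x, g⁆)⁻¹ * ⁅x, w⁆ := by
          rw [← commutatorElement_def (g * x * g⁻¹) w, ← e1, hQ]; group
      _ = _ := by rw [hQ]; simp only [commutatorElement_def]; group
  have hz := mul_mem (comm_cen h hq hQT) (comm_cen h hQT hy)
  rw [e2]
  exact Subgroup.mul_mem_cancel_left _ hz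

end Line

open Line in
/-- The line `E = [T, w] Z` of an element `w` with central square moving `T / Z`. -/
theorem line {Γ : Type u} [Group Γ] [Finite Γ] {p r n : ℕ} {V X S W T : Subgroup Γ} {a : Γ}
    (h : Frame p r n V X S W T a)
    (hext : ∀ P : Subgroup Γ, P ≤ T → cen T ≤ P → a ∈ normalizer (P : Set Γ) →
      (∀ x ∈ P, x * x ∈ centralizer (X : Set Γ)) → P ≠ cen T →
      (∀ d ∈ T, (∀ e ∈ P, ⁅d, e⁆ ∈ centralizer (X : Set Γ)) → d ∈ P) ∧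
        Nat.card P = 4 ^ n * Nat.card (cen T))
    {w : Γ} (wX : w ∈ X) (wM : w ∈ normalizer (T : Set Γ))
    (w2 : w * w ∈ centralizer (X : Set Γ))
    (hZw : ∀ z ∈ cen T, ⁅z, w⁆ ∈ centralizer (X : Set Γ))
    (hne : ∃ x ∈ T, ⁅x, w⁆ ∉ cen T) :
    ∃ E : Subgroup Γ, E ≤ T ∧ cen T ≤ E ∧ a ∈ normalizer (E : Set Γ) ∧
      (∀ e ∈ E, e * e ∈ centralizer (X : Set Γ)) ∧ E ≠ cen T ∧
      (∀ x ∈ T, ⁅x, w⁆ ∈ E) ∧ (∀ x ∈ T, (x ∈ E ↔ ⁅x, w⁆ ∈ cen T)) ∧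
      (∀ e ∈ E, ⁅e, w⁆ ∈ centralizer (X : Set Γ)) ∧
      ∀ g : Γ, g ∈ X → g ∈ normalizer (T : Set Γ) → g * g ∈ centralizer (X : Set Γ) →
        ⁅g, w⁆ ∈ centralizer (X : Set Γ) →
        (∀ z ∈ cen T, ⁅z, g⁆ ∈ centralizer (X : Set Γ)) →
        (∀ x ∈ T, ⁅x, g⁆ ∈ E) ∧ (∀ e ∈ E, ⁅e, g⁆ ∈ centralizer (X : Set Γ)) ∧
          ∃ s ∈ E, a * g * a⁻¹ = g * s := by
  set CX := centralizer (X : Set Γ) with hCX
  obtain ⟨E, ET, ZE, aE, hwE, Eform⟩ := img h wX wM le_rfl h.aT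
  have hyy : ∀ x ∈ T, ∀ x' ∈ T, ⁅x, w⁆ * ⁅x', w⁆ ∈ T := fun x hx x' hx' =>
    mul_mem (comm_T h wM hx) (comm_T h wM hx')
  -- elements of the kernel commute with `[T, w]` modulo `CX`
  have hker : ∀ x ∈ T, ∀ k ∈ T, ⁅k, w⁆ ∈ cen T → ⁅⁅x, w⁆, k⁆ ∈ CX := fun x hx k hk hkw =>
    conjW h wM wX w2 hZw hx hk hkw
  have hkerw : ∀ x ∈ T, ⁅⁅x, w⁆, w⁆ ∈ cen T := fun x hx => by
    rw [comm_self h w2 (TX h hx)]
    exact h.Tsq _ (comm_T h wM hx)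
  have hcomm : ∀ x ∈ T, ∀ x' ∈ T, ⁅⁅x, w⁆, ⁅x', w⁆⁆ ∈ CX := fun x hx x' hx' =>
    hker x hx _ (comm_T h wM hx') (hkerw x' hx')
  -- squares of the commutators
  let f : Γ → Γ := fun x => ⁅x, w⁆ * ⁅x, w⁆
  have fmul : ∀ x ∈ T, ∀ x' ∈ T, ∃ c ∈ CX, f (x * x') = c * f x' * f x := by
    intro x hx x' hx'
    obtain ⟨z, hz, e⟩ := mul_left h wM hx hx'
    refine ⟨⁅⁅x, w⁆, ⁅x', w⁆⁆, hcomm x hx x' hx', ?_⟩
    have hc : ⁅x', w⁆ * ⁅⁅x, w⁆, ⁅x', w⁆⁆ = ⁅⁅x, w⁆, ⁅x', w⁆⁆ * ⁅x', w⁆ :=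
      cenX h (hcomm x hx x' hx') (TX h (comm_T h wM hx'))
    calc f (x * x') = ⁅x', w⁆ * ⁅x, w⁆ * z * (⁅x', w⁆ * ⁅x, w⁆ * z) := by simp only [f, e]
      _ = ⁅x', w⁆ * ⁅x, w⁆ * (z * (⁅x', w⁆ * ⁅x, w⁆ * z)) := by group
      _ = ⁅x', w⁆ * ⁅x, w⁆ * (⁅x', w⁆ * ⁅x, w⁆ * z * z) := by
          rw [← cenT h hz (mul_mem (hyy x' hx' x hx) hz.1)]
      _ = ⁅x', w⁆ * ⁅x, w⁆ * (⁅x', w⁆ * ⁅x, w⁆) := by
          rw [mul_assoc (⁅x', w⁆ * ⁅x, w⁆) z z, h.Zexp z hz, mul_one]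
      _ = ⁅x', w⁆ * ⁅⁅x, w⁆, ⁅x', w⁆⁆ * ⁅x', w⁆ * ⁅x, w⁆ * ⁅x, w⁆ := by
          simp only [commutatorElement_def ⁅x, w⁆ ⁅x', w⁆]; group
      _ = _ := by rw [hc]; simp only [f]; group
  have fT : ∀ x ∈ T, f x ∈ cen T := fun x hx => h.Tsq _ (comm_T h wM hx)
  have fa : ∀ x ∈ T, f (a * x * a⁻¹) = f x := by
    intro x hx
    obtain ⟨z, hz, e⟩ := conjA h wX wM hx
    have hx' : a * x * a⁻¹ ∈ T := CoprimeAction.conj_mem h.aT hx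
    have e' : a * f x * a⁻¹ = f (a * x * a⁻¹) := by
      calc a * f x * a⁻¹ = a * ⁅x, w⁆ * a⁻¹ * (a * ⁅x, w⁆ * a⁻¹) := by simp only [f]; group
        _ = ⁅a * x * a⁻¹, w⁆ * (z * ⁅a * x * a⁻¹, w⁆) * z := by rw [e]; group
        _ = f (a * x * a⁻¹) * (z * z) := by
            rw [← cenT h hz (comm_T h wM hx')]; simp only [f]; group
        _ = _ := by rw [h.Zexp z hz, mul_one]
    rw [← e', h.a_cen (fT x hx), mul_inv_cancel_right]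
  let Msq : Submonoid Γ :=
    { carrier := {x | x ∈ T ∧ f x ∈ CX}
      one_mem' := ⟨one_mem _, by simp [f]⟩
      mul_mem' := fun {x x'} hx hx' => ⟨mul_mem hx.1 hx'.1, by
        obtain ⟨c, hc, e⟩ := fmul x hx.1 x' hx'.1
        rw [e]; exact mul_mem (mul_mem hc hx'.2) hx.2⟩ }
  let Ssq : Subgroup Γ := { Msq with
    inv_mem' := fun {x} hx => by
      obtain ⟨k, hk⟩ := mem_powers_iff_mem_zpowers.2 (inv_mem (mem_zpowers x))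
      exact hk ▸ Msq.pow_mem hx k }
  have hTS : T ≤ Ssq := by
    refine gen h (TX h) h.aT ?_ ?_
    · intro z hz
      rw [h.Tfix] at hz
      refine ⟨hz.1, ?_⟩
      show ⁅z, w⁆ * ⁅z, w⁆ ∈ CX
      exact mul_mem (hZw z hz) (hZw z hz)
    · intro t ht
      have hs : a * t * a⁻¹ ∈ T := CoprimeAction.conj_mem h.aT ht
      have hu : t * (a * t * a⁻¹)⁻¹ ∈ T := mul_mem ht (inv_mem hs)
      refine ⟨hu, ?_⟩
      obtain ⟨c, hc, e⟩ := fmul _ hu _ hs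
      rw [inv_mul_cancel_right, fa t ht] at e
      have e2 : f (t * (a * t * a⁻¹)⁻¹) = (f t)⁻¹ * (c⁻¹ * f t) := by
        conv_rhs => arg 2; arg 2; rw [e]
        group
      rw [e2, ← cenX h (inv_mem hc) (TX h (fT t ht).1), inv_mul_cancel_left]
      exact inv_mem hc
  have Esq : ∀ e ∈ E, e * e ∈ CX := by
    intro e he
    obtain ⟨x, hx, z, hz, rfl⟩ := Eform e he
    have : ⁅x, w⁆ * z * (⁅x, w⁆ * z) = f x := by
      calc _ = ⁅x, w⁆ * (z * ⁅x, w⁆) * z := by group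
        _ = f x * (z * z) := by rw [← cenT h hz (comm_T h wM hx)]; simp only [f]; group
        _ = _ := by rw [h.Zexp z hz, mul_one]
    rw [this]; exact (hTS hx).2
  have Ene : E ≠ cen T := fun he => by
    obtain ⟨x, hx, hxZ⟩ := hne
    exact hxZ (he ▸ hwE x hx)
  obtain ⟨Emax, Ecard⟩ := hext E ET ZE aE Esq Ene
  have Ew : ∀ e ∈ E, ⁅e, w⁆ ∈ CX := by
    intro e he
    obtain ⟨x, hx, z, hz, rfl⟩ := Eform e he
    rw [comm_mul_CX h (TX h (comm_T h wM hx)) (hZw z hz), comm_self h w2 (TX h hx)]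
    exact mul_mem (hZw z hz) (hTS hx).2
  have Eiff : ∀ x ∈ T, (x ∈ E ↔ ⁅x, w⁆ ∈ cen T) := by
    intro x hx
    refine ⟨fun he => CXT h (Ew x he) (comm_T h wM hx), fun hxw => Emax x hx ?_⟩
    intro e he
    obtain ⟨x', hx', z, hz, rfl⟩ := Eform e he
    have h1 : ⁅⁅x', w⁆, x⁆ ∈ CX := hker x' hx' x hx hxw
    have h2 : ⁅⁅x', w⁆ * z, x⁆ = ⁅⁅x', w⁆, x⁆ := by
      have h0 : ⁅z, x⁆ = 1 := commutatorElement_eq_one_iff_commute.2 (cenT h hz hx).symm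
      rw [comm_mul_CX h (TX h (comm_T h wM hx')) (by rw [h0]; exact one_mem _), h0, one_mul]
    exact comm_swap h (h2 ▸ h1)
  refine ⟨E, ET, ZE, aE, Esq, Ene, hwE, Eiff, Ew, ?_⟩
  intro g gX gM g2 hgw hZg
  have hgE : ∀ e ∈ E, ⁅e, g⁆ ∈ E := by
    intro e he
    rw [Eiff _ (comm_T h gM (ET he)), comm_comm_iff h gM wM gX wX (ET he) hgw]
    exact comm_cen_left h gM ((Eiff e (ET he)).1 he)
  have hgg : ∀ x ∈ T, ⁅⁅x, g⁆, g⁆ ∈ cen T := fun x hx => by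
    rw [comm_self h g2 (TX h hx)]
    exact h.Tsq _ (comm_T h gM hx)
  have hgZ : ∀ e ∈ E, ⁅e, g⁆ ∈ cen T := by
    obtain ⟨F, FT, ZF, aF, hgF, Fform⟩ := img h gX gM ET aE
    have FE : F ≤ E := by
      intro x hx
      obtain ⟨e, he, z, hz, rfl⟩ := Fform x hx
      exact mul_mem (hgE e he) (ZE hz)
    by_cases hF : F = cen T
    · exact fun e he => hF ▸ hgF e he
    · have hFE : F = E := eq_of_le_of_card_ge FE (le_of_eq (by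
        rw [Ecard, (hext F FT ZF aF (fun x hx => Esq x (FE hx)) hF).2]))
      intro e he
      obtain ⟨e', he', z, hz, rfl⟩ := Fform e (hFE ▸ he)
      rw [comm_mul_CX h (TX h (comm_T h gM (ET he'))) (hZg z hz)]
      exact mul_mem (CXT h (hZg z hz) (comm_T h gM hz.1)) (hgg e' (ET he'))
  have hTg : ∀ x ∈ T, ⁅x, g⁆ ∈ E := by
    intro x hx
    rw [Eiff _ (comm_T h gM hx), comm_comm_iff h gM wM gX wX hx hgw]
    exact hgZ _ (hwE x hx)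
  have hyg : ∀ x ∈ T, ⁅⁅x, w⁆, g⁆ ∈ CX := by
    intro x hx
    have hy : ⁅x, w⁆ ∈ T := comm_T h wM hx
    have ht : ⁅x, g⁆ ∈ T := comm_T h gM hx
    have hxX := TX h hx
    have hyX := TX h hy
    have htw : ⁅⁅x, g⁆, w⁆ ∈ CX := Ew _ (hTg x hx)
    have hty : ⁅(⁅x, g⁆)⁻¹, (⁅x, w⁆)⁻¹⁆ ∈ CX := by
      obtain ⟨x', hx', z, hz, e⟩ := Eform _ (inv_mem (hTg x hx))
      obtain ⟨x'', hx'', z', hz', e'⟩ := Eform _ (inv_mem (hwE x hx))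
      rw [e, e']
      have h0 : ⁅z, ⁅x'', w⁆ * z'⁆ = 1 := commutatorElement_eq_one_iff_commute.2
        (cenT h hz (mul_mem (comm_T h wM hx'') hz'.1)).symm
      rw [comm_mul_CX h (TX h (comm_T h wM hx')) (by rw [h0]; exact one_mem _), h0, one_mul]
      apply comm_swap h
      have h0' : ⁅z', ⁅x', w⁆⁆ = 1 := commutatorElement_eq_one_iff_commute.2
        (cenT h hz' (comm_T h wM hx')).symm
      rw [comm_mul_CX h (TX h (comm_T h wM hx'')) (by rw [h0']; exact one_mem _), h0', one_mul]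
      exact hcomm x'' hx'' x' hx'
    have e1 : w * x * w⁻¹ = (⁅x, w⁆)⁻¹ * x := by
      calc w * x * w⁻¹ = w * ⁅x, w⁆ * w⁻¹ * (w * w * x * (w * w)⁻¹) := by
            simp only [commutatorElement_def]; group
        _ = _ := by rw [inverts h w2 hxX, ← cenX h w2 hxX, mul_inv_cancel_right]
    -- the two conjugates of `[x, g]` by `w`
    have hconj : w * ⁅x, g⁆ * w⁻¹ = ⁅(⁅x, w⁆)⁻¹ * x, g⁆ := by
      have hwg : w * g * w⁻¹ = (⁅g, w⁆)⁻¹ * g := by simp only [commutatorElement_def]; group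
      have huX : (⁅x, w⁆)⁻¹ * x ∈ X := mul_mem (inv_mem hyX) hxX
      calc w * ⁅x, g⁆ * w⁻¹ = ⁅w * x * w⁻¹, w * g * w⁻¹⁆ := by
            simp only [commutatorElement_def]; group
        _ = ⁅(⁅x, w⁆)⁻¹ * x, (⁅g, w⁆)⁻¹ * g⁆ := by rw [e1, hwg]
        _ = (((⁅x, w⁆)⁻¹ * x) * (⁅g, w⁆)⁻¹) *
            (g * ((⁅x, w⁆)⁻¹ * x)⁻¹ * g⁻¹ * ⁅g, w⁆) := by
            simp only [commutatorElement_def ((⁅x, w⁆)⁻¹ * x)]; group
        _ = ((⁅g, w⁆)⁻¹ * ((⁅x, w⁆)⁻¹ * x)) *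
            (⁅g, w⁆ * (g * ((⁅x, w⁆)⁻¹ * x)⁻¹ * g⁻¹)) := by
            rw [cenX h (inv_mem hgw) huX,
              cenX h hgw (mul_mem (mul_mem gX (inv_mem huX)) (inv_mem gX))]
        _ = (⁅g, w⁆)⁻¹ * (((⁅x, w⁆)⁻¹ * x) * ⁅g, w⁆) *
            (g * ((⁅x, w⁆)⁻¹ * x)⁻¹ * g⁻¹) := by group
        _ = _ := by rw [cenX h hgw huX, inv_mul_cancel_left, commutatorElement_def]; group
    have e3 : ⁅(⁅x, w⁆)⁻¹, g⁆ =
        ⁅(⁅x, w⁆)⁻¹, (⁅x, g⁆)⁻¹⁆ * ((⁅x, g⁆)⁻¹ * ⁅w, ⁅x, g⁆⁆ * ⁅x, g⁆) := by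
      rw [commutatorElement_def w ⁅x, g⁆, hconj]; simp only [commutatorElement_def]; group
    apply comm_inv_left h hyX
    rw [e3, cenX h (comm_swap h htw) (TX h (inv_mem ht)), inv_mul_cancel_right]
    exact mul_mem (comm_swap h hty) (comm_swap h htw)
  refine ⟨hTg, ?_, ?_⟩
  · intro e he
    obtain ⟨x, hx, z, hz, rfl⟩ := Eform e he
    rw [comm_mul_CX h (TX h (comm_T h wM hx)) (hZg z hz)]
    exact mul_mem (hZg z hz) (hyg x hx)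
  obtain ⟨c, hc, τ, hτ, hcM, rfl⟩ := h.Mdecomp g ⟨gX, gM⟩
  have hca : c * a = a * c := mem_centralizer_singleton_iff.1 hc.2
  have hEg : ∀ e ∈ E, ⁅e, c * τ⁆ ∈ CX := by
    intro e he
    obtain ⟨x, hx, z, hz, rfl⟩ := Eform e he
    rw [comm_mul_CX h (TX h (comm_T h wM hx)) (hZg z hz)]
    exact mul_mem (hZg z hz) (hyg x hx)
  have hsplit : ∀ e : Γ, ⁅e, c * τ⁆ = ⁅e, c⁆ * (c * ⁅e, τ⁆ * c⁻¹) := fun e => by
    simp only [commutatorElement_def]; group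
  have hec : ∀ e ∈ E, ⁅e, c⁆ ∈ cen T := by
    intro e he
    have h1 := CXT h (hEg e he) (comm_T h gM (ET he))
    rw [hsplit] at h1
    exact (Subgroup.mul_mem_cancel_right _ (norm_cen h hcM (comm_cen h (ET he) hτ))).1 h1
  have kmul : ∀ e ∈ E, ∀ e' ∈ E, ⁅e * e', c⁆ = ⁅e', c⁆ * ⁅e, c⁆ := by
    intro e he e' he'
    calc ⁅e * e', c⁆ = (e * ⁅e', c⁆) * e⁻¹ * ⁅e, c⁆ := by
          simp only [commutatorElement_def]; group
      _ = _ := by rw [cenT h (hec e' he') (ET he), mul_inv_cancel_right]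
  let Mc : Submonoid Γ :=
    { carrier := {e | e ∈ E ∧ ⁅e, c⁆ ∈ CX}
      one_mem' := ⟨one_mem _, by simp⟩
      mul_mem' := fun {e e'} he he' => ⟨mul_mem he.1 he'.1, by
        rw [kmul e he.1 e' he'.1]; exact mul_mem he'.2 he.2⟩ }
  let Sc : Subgroup Γ := { Mc with
    inv_mem' := fun {x} hx => by
      obtain ⟨k, hk⟩ := mem_powers_iff_mem_zpowers.2 (inv_mem (mem_zpowers x))
      exact hk ▸ Mc.pow_mem hx k }
  have hES : E ≤ Sc := by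
    refine gen h (ET.trans (TX h)) aE ?_ ?_
    · intro z hz
      have hzZ : z ∈ cen T := h.Tfix ▸ (⟨ET hz.1, hz.2⟩ : z ∈ T ⊓ centralizer ({a} : Set Γ))
      refine ⟨hz.1, ?_⟩
      have := hEg z hz.1
      rwa [hsplit, commutatorElement_eq_one_iff_commute.2 (cenT h hzZ hτ).symm, mul_one,
        mul_inv_cancel, mul_one] at this
    · intro t ht
      have hs : a * t * a⁻¹ ∈ E := CoprimeAction.conj_mem aE ht
      have hu : t * (a * t * a⁻¹)⁻¹ ∈ E := mul_mem ht (inv_mem hs)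
      refine ⟨hu, ?_⟩
      have e := kmul _ hu _ hs
      rw [inv_mul_cancel_right] at e
      have ea : ⁅a * t * a⁻¹, c⁆ = ⁅t, c⁆ := by
        have h1 : a * ⁅t, c⁆ * a⁻¹ = ⁅t, c⁆ := by rw [h.a_cen (hec t ht), mul_inv_cancel_right]
        conv_rhs => rw [← h1]
        calc ⁅a * t * a⁻¹, c⁆ = ⁅a * t * a⁻¹, (a * c) * a⁻¹⁆ := by
              rw [← hca, mul_inv_cancel_right]
          _ = _ := by simp only [commutatorElement_def]; group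
      rw [ea] at e
      have : ⁅t * (a * t * a⁻¹)⁻¹, c⁆ = 1 := mul_eq_left.1 e.symm
      rw [this]; exact one_mem _
  have hτE : τ ∈ E := by
    refine Emax τ hτ fun e he => comm_swap h ?_
    have h1 := hEg e he
    rw [hsplit, Subgroup.mul_mem_cancel_left _ (hES he).2] at h1
    have h2 := cenX h h1 hc.1
    have h3 : ⁅e, τ⁆ = c * ⁅e, τ⁆ * c⁻¹ := by
      calc ⁅e, τ⁆ = c⁻¹ * ((c * ⁅e, τ⁆ * c⁻¹) * c) := by group
        _ = _ := by rw [← h2, inv_mul_cancel_left]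
    rw [h3]; exact h1
  refine ⟨τ⁻¹ * (a * τ * a⁻¹), mul_mem (inv_mem hτE) (CoprimeAction.conj_mem aE hτE), ?_⟩
  calc a * (c * τ) * a⁻¹ = (a * c) * τ * a⁻¹ := by group
    _ = (c * a) * τ * a⁻¹ := by rw [hca]
    _ = _ := by group

end Cfsg.Agent.Flavell8.Gen
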