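import Mathlib
import Cfsg.Agent.Lib.FlavellFrame20
import Cfsg.Agent.Lib.FlavellGen8Line
import Cfsg.Agent.Lib.FlavellGen8Cover
import Cfsg.Agent.Lib.TransferAlperin
import Cfsg.Agent.Lib.FlavellGen8Center

/-!
Strong closure of `cen T` modulo the centre: calculus modulo `CX = C(X)` and the fixed class.
-/

set_option autoImplicit false
set_option linter.unusedSectionVars false
set_option linter.style.haveILetI false

open scoped commutatorElement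

namespace Cfsg.Agent.Flavell8.Gen.ClosedProof

open Subgroup Cfsg.Agent.Flavell8.Gen
open Cfsg.Agent.TransferAlperin (cj mem_cj conj_mem_cj card_cj cj_mono cj_inv_cj cj_cj_inv cj_mul
  cj_inj)
open Cfsg.Agent.CoprimeAction (conj_mem conj_mem' le_normalizer_of_conj_mem)

universe u

variable {Γ : Type u} [Group Γ] [Finite Γ] {p r n : ℕ} {V X S W T : Subgroup Γ} {a : Γ}
  (h : Frame p r n V X S W T a)

include h

theorem conj_CX {k g : Γ} (hk : k ∈ centralizer (X : Set Γ)) (hg : g ∈ X) : g * k * g⁻¹ = k := by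
  rw [Line.cenX h hk hg, mul_inv_cancel_right]

theorem conjg_mem_CX {k g : Γ} (hg : g ∈ X) :
    g * k * g⁻¹ ∈ centralizer (X : Set Γ) ↔ k ∈ centralizer (X : Set Γ) := by
  refine ⟨fun hk => ?_, fun hk => by rwa [conj_CX h hk hg]⟩
  have h1 := conj_CX h hk (inv_mem hg)
  have e : g⁻¹ * (g * k * g⁻¹) * g⁻¹⁻¹ = k := by group
  rw [e] at h1
  rwa [h1]

theorem inv_conjg_mem_CX {k g : Γ} (hg : g ∈ X) :
    g⁻¹ * k * g ∈ centralizer (X : Set Γ) ↔ k ∈ centralizer (X : Set Γ) := by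
  simpa using conjg_mem_CX h (k := k) (inv_mem hg)

theorem comm_conj {x y g : Γ} (hg : g ∈ X) :
    ⁅g * x * g⁻¹, g * y * g⁻¹⁆ ∈ centralizer (X : Set Γ) ↔ ⁅x, y⁆ ∈ centralizer (X : Set Γ) := by
  have e : ⁅g * x * g⁻¹, g * y * g⁻¹⁆ = g * ⁅x, y⁆ * g⁻¹ := by
    simp only [commutatorElement_def]; group
  rw [e, conjg_mem_CX h hg]

theorem comm_conj_left {x y g : Γ} (hg : g ∈ X) :
    ⁅g⁻¹ * x * g, y⁆ ∈ centralizer (X : Set Γ) ↔
      ⁅x, g * y * g⁻¹⁆ ∈ centralizer (X : Set Γ) := by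
  rw [← comm_conj h (x := g⁻¹ * x * g) (y := y) hg]
  group

theorem comm_conj_right {x y g : Γ} (hg : g ∈ X) :
    ⁅x, g⁻¹ * y * g⁆ ∈ centralizer (X : Set Γ) ↔
      ⁅g * x * g⁻¹, y⁆ ∈ centralizer (X : Set Γ) := by
  rw [← comm_conj h (x := x) (y := g⁻¹ * y * g) hg]
  group

/-- Squares central in `X` give commutators central in `X`. -/
theorem comm_of_sq {D : Subgroup Γ} (hsq : ∀ x ∈ D, x * x ∈ centralizer (X : Set Γ)) :
    ∀ x ∈ D, ∀ y ∈ D, ⁅x, y⁆ ∈ centralizer (X : Set Γ) := by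
  intro x hx y hy
  have e : ⁅x, y⁆ = x * x * (x⁻¹ * y * (x⁻¹ * y)) * (y * y)⁻¹ := by
    simp only [commutatorElement_def]; group
  rw [e]
  exact mul_mem (mul_mem (hsq x hx) (hsq _ (mul_mem (inv_mem hx) hy))) (inv_mem (hsq y hy))

/-! ### Calculus in `T` -/

theorem Z_inv {z : Γ} (hz : z ∈ cen T) : z⁻¹ = z := inv_eq_of_mul_eq_one_right (h.Zexp z hz)

theorem bil_left {x y w : Γ} (hx : x ∈ T) (hy : y ∈ T) (hw : w ∈ T) :
    ⁅x * y, w⁆ = ⁅x, w⁆ * ⁅y, w⁆ := by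
  have hc := Line.comm_cen h hy hw
  calc ⁅x * y, w⁆ = x * ⁅y, w⁆ * x⁻¹ * ⁅x, w⁆ := by simp only [commutatorElement_def]; group
    _ = ⁅y, w⁆ * ⁅x, w⁆ := by rw [Line.cenT h hc hx, mul_inv_cancel_right]
    _ = _ := (Line.cenT h hc (Line.comm_cen h hx hw).1).symm

theorem bil_right {x y w : Γ} (hx : x ∈ T) (hy : y ∈ T) (hw : w ∈ T) :
    ⁅x, y * w⁆ = ⁅x, y⁆ * ⁅x, w⁆ := by
  have hc := Line.comm_cen h hx hw
  calc ⁅x, y * w⁆ = ⁅x, y⁆ * (y * ⁅x, w⁆ * y⁻¹) := by simp only [commutatorElement_def]; group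
    _ = _ := by rw [Line.cenT h hc hy, mul_inv_cancel_right]

theorem inv_left {x w : Γ} (hx : x ∈ T) (hw : w ∈ T) : ⁅x⁻¹, w⁆ = ⁅x, w⁆ := by
  have h1 := bil_left h (inv_mem hx) hx hw
  rw [inv_mul_cancel, commutatorElement_one_left] at h1
  rw [eq_inv_of_mul_eq_one_left h1.symm, Z_inv h (Line.comm_cen h hx hw)]

theorem inv_right {x w : Γ} (hx : x ∈ T) (hw : w ∈ T) : ⁅x, w⁻¹⁆ = ⁅x, w⁆ := by
  have h1 := bil_right h hx (inv_mem hw) hw
  rw [inv_mul_cancel, commutatorElement_one_right] at h1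
  rw [eq_inv_of_mul_eq_one_left h1.symm, Z_inv h (Line.comm_cen h hx hw)]

theorem comm_Z_right {x z : Γ} (hx : x ∈ T) (hz : z ∈ cen T) : ⁅x, z⁆ = 1 :=
  commutatorElement_eq_one_iff_mul_comm.2 (Line.cenT h hz hx)

theorem comm_Z_left {x z : Γ} (hx : x ∈ T) (hz : z ∈ cen T) : ⁅z, x⁆ = 1 :=
  commutatorElement_eq_one_iff_mul_comm.2 (Line.cenT h hz hx).symm

theorem sq_mul {x y : Γ} (hx : x ∈ T) (hy : y ∈ T) :
    x * y * (x * y) = ⁅y, x⁆ * (x * x) * (y * y) := by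
  calc x * y * (x * y) = x * (⁅y, x⁆ * x * y) * y := by simp only [commutatorElement_def]; group
    _ = (x * ⁅y, x⁆) * x * y * y := by group
    _ = (⁅y, x⁆ * x) * x * y * y := by rw [Line.cenT h (Line.comm_cen h hy hx) hx]
    _ = _ := by group

/-- Subgroups between `cen T` and `T` are normal in `T`. -/
theorem T_normalizes {E : Subgroup Γ} (hET : E ≤ T) (hZE : cen T ≤ E) :
    T ≤ normalizer (E : Set Γ) :=
  le_normalizer_of_conj_mem fun t ht e he => by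
    have : t * e * t⁻¹ = ⁅t, e⁆ * e := by simp only [commutatorElement_def]; group
    rw [this]
    exact mul_mem (hZE (Line.comm_cen h ht (hET he))) he

theorem conj_eq_comm_mul {x y : Γ} : x * y * x⁻¹ = ⁅x, y⁆ * y := by
  simp only [commutatorElement_def]; group

/-- A homomorphism `x ↦ [x, c]` into the centre with fixed values is trivial. -/
theorem fixed_hom {c : Γ} (hc : c ∈ fixA X a) {K O : Subgroup Γ} (hKT : K ≤ T)
    (haK : a ∈ normalizer (K : Set Γ)) (hKc : ∀ x ∈ K, ⁅x, c⁆ ∈ cen T)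
    (hZc : ∀ z ∈ cen T, ⁅z, c⁆ ∈ O) : ∀ x ∈ K, ⁅x, c⁆ ∈ O := by
  have hmul : ∀ x ∈ K, ∀ y ∈ K, ⁅x * y, c⁆ = ⁅y, c⁆ * ⁅x, c⁆ := by
    intro x hx y hy
    calc ⁅x * y, c⁆ = x * ⁅y, c⁆ * x⁻¹ * ⁅x, c⁆ := by simp only [commutatorElement_def]; group
      _ = _ := by rw [Line.cenT h (hKc y hy) (hKT hx), mul_inv_cancel_right]
  let S₀ : Subgroup Γ :=
    { carrier := {x | x ∈ K ∧ ⁅x, c⁆ ∈ O}
      one_mem' := ⟨one_mem _, by simp⟩
      mul_mem' := fun {x y} hx hy => ⟨mul_mem hx.1 hy.1, by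
        rw [hmul x hx.1 y hy.1]; exact mul_mem hy.2 hx.2⟩
      inv_mem' := fun {x} hx => ⟨inv_mem hx.1, by
        have h1 := hmul x⁻¹ (inv_mem hx.1) x hx.1
        rw [inv_mul_cancel, commutatorElement_one_left] at h1
        rw [eq_inv_of_mul_eq_one_right h1.symm]
        exact inv_mem hx.2⟩ }
  have hle : K ≤ S₀ := by
    refine Line.gen h (hKT.trans (Line.TX h)) haK ?_ ?_
    · intro z hz
      exact ⟨hz.1, hZc z (h.Tfix ▸ ⟨hKT hz.1, hz.2⟩)⟩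
    · intro t ht
      have hs : a * t * a⁻¹ ∈ K := conj_mem haK ht
      have hu : t * (a * t * a⁻¹)⁻¹ ∈ K := mul_mem ht (inv_mem hs)
      refine ⟨hu, ?_⟩
      have hsc : ⁅a * t * a⁻¹, c⁆ = ⁅t, c⁆ := by
        have hca := mem_centralizer_singleton_iff.1 hc.2
        have e : ⁅a * t * a⁻¹, c⁆ = a * ⁅t, c⁆ * a⁻¹ := by
          conv_lhs => rw [show c = a * c * a⁻¹ by rw [← hca, mul_inv_cancel_right]]
          simp only [commutatorElement_def]; group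
        rw [e, h.a_cen (hKc t ht), mul_inv_cancel_right]
      have h1 := hmul _ hu _ hs
      rw [inv_mul_cancel_right, hsc] at h1
      have : ⁅t * (a * t * a⁻¹)⁻¹, c⁆ = 1 := mul_eq_left.1 h1.symm
      rw [this]
      exact one_mem _
  exact fun x hx => (hle hx).2

/-- Squares of commutators with `w` lie in `O` as soon as their commutators do. -/
theorem sq_comm_mem {w : Γ} (wX : w ∈ X) (wM : w ∈ normalizer (T : Set Γ)) {O : Subgroup Γ}
    (hcc : ∀ x ∈ T, ∀ x' ∈ T, ⁅⁅x, w⁆, ⁅x', w⁆⁆ ∈ O) : ∀ x ∈ T, ⁅x, w⁆ * ⁅x, w⁆ ∈ O := by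
  let f : Γ → Γ := fun x => ⁅x, w⁆ * ⁅x, w⁆
  have fT : ∀ x ∈ T, f x ∈ cen T := fun x hx => h.Tsq _ (Line.comm_T h wM hx)
  have fmul : ∀ x ∈ T, ∀ x' ∈ T, f (x * x') = ⁅⁅x, w⁆, ⁅x', w⁆⁆ * f x' * f x := by
    intro x hx x' hx'
    obtain ⟨z, hz, e⟩ := Line.mul_left h wM hx hx'
    have hyy := mul_mem (Line.comm_T h wM hx') (Line.comm_T h wM hx)
    simp only [f, e]
    rw [sq_mul h hyy hz.1, comm_Z_left h hyy hz, h.Zexp z hz, one_mul, mul_one,
      sq_mul h (Line.comm_T h wM hx') (Line.comm_T h wM hx)]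
  have fa : ∀ x ∈ T, f (a * x * a⁻¹) = f x := by
    intro x hx
    obtain ⟨z, hz, e⟩ := Line.conjA h wX wM hx
    have hy := Line.comm_T h wM (conj_mem h.aT hx)
    have e' : a * f x * a⁻¹ = f (a * x * a⁻¹) := by
      calc a * f x * a⁻¹ = (a * ⁅x, w⁆ * a⁻¹) * (a * ⁅x, w⁆ * a⁻¹) := by simp only [f]; group
        _ = _ := by
          rw [e, sq_mul h hy hz.1, comm_Z_left h hy hz, h.Zexp z hz, one_mul, mul_one]
    rw [← e', h.a_cen (fT x hx), mul_inv_cancel_right]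
  have finv : ∀ x ∈ T, f x ∈ O → f x⁻¹ ∈ O := by
    intro x hx hfx
    have h1 := fmul x⁻¹ (inv_mem hx) x hx
    rw [inv_mul_cancel, show f 1 = 1 by simp [f]] at h1
    rw [eq_inv_of_mul_eq_one_right h1.symm]
    exact inv_mem (mul_mem (hcc _ (inv_mem hx) _ hx) hfx)
  let S₀ : Subgroup Γ :=
    { carrier := {x | x ∈ T ∧ f x ∈ O}
      one_mem' := ⟨one_mem _, by simp [f]⟩
      mul_mem' := fun {x x'} hx hx' => ⟨mul_mem hx.1 hx'.1, by
        rw [fmul x hx.1 x' hx'.1]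
        exact mul_mem (mul_mem (hcc _ hx.1 _ hx'.1) hx'.2) hx.2⟩
      inv_mem' := fun {x} hx => ⟨inv_mem hx.1, finv x hx.1 hx.2⟩ }
  have hle : T ≤ S₀ := by
    refine Line.gen h (Line.TX h) h.aT ?_ ?_
    · intro z hz
      rw [h.Tfix] at hz
      refine ⟨hz.1, ?_⟩
      show ⁅z, w⁆ * ⁅z, w⁆ ∈ O
      rw [h.Zexp _ (Line.comm_cen_left h wM hz)]
      exact one_mem _
    · intro t ht
      have hs : a * t * a⁻¹ ∈ T := conj_mem h.aT ht
      have hu : t * (a * t * a⁻¹)⁻¹ ∈ T := mul_mem ht (inv_mem hs)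
      refine ⟨hu, ?_⟩
      have h1 := fmul _ hu _ hs
      rw [inv_mul_cancel_right, fa t ht] at h1
      set q := ⁅⁅t * (a * t * a⁻¹)⁻¹, w⁆, ⁅a * t * a⁻¹, w⁆⁆
      have hqc : ⁅⁅t * (a * t * a⁻¹)⁻¹, w⁆, ⁅a * t * a⁻¹, w⁆⁆ ∈ cen T :=
        Line.comm_cen h (Line.comm_T h wM hu) (Line.comm_T h wM hs)
      rw [← Line.cenT h hqc (fT t ht).1, mul_assoc, eq_comm, mul_eq_left,
        mul_eq_one_iff_eq_inv'] at h1
      rw [h1]
      exact inv_mem (hcc _ hu _ hs)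
  exact fun x hx => (hle hx).2

/-- An element of `N(T)` as fixed element times element of `T`, with its image under `a`. -/
theorem decomp {u : Γ} (uX : u ∈ X) (uM : u ∈ normalizer (T : Set Γ)) :
    ∃ c ∈ fixA X a, ∃ τ ∈ T, c ∈ normalizer (T : Set Γ) ∧ u = c * τ ∧
      a * u * a⁻¹ = u * (τ⁻¹ * (a * τ * a⁻¹)) := by
  obtain ⟨c, hc, τ, hτ, hcN, rfl⟩ := h.Mdecomp u ⟨uX, uM⟩
  refine ⟨c, hc, τ, hτ, hcN, rfl, ?_⟩
  have hca := mem_centralizer_singleton_iff.1 hc.2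
  calc a * (c * τ) * a⁻¹ = (a * c) * τ * a⁻¹ := by group
    _ = (c * a) * τ * a⁻¹ := by rw [hca]
    _ = _ := by group

/-- If `τ z` is fixed for `u = c τ`, then `τ` is central in `T`. -/
theorem mem_cen_of_fix {c τ : Γ} (hc : c ∈ fixA X a) (hτ : τ ∈ T)
    (hu : a * (c * τ) * a⁻¹ = c * τ) : τ ∈ cen T := by
  rw [← h.Tfix]
  refine ⟨hτ, mem_centralizer_singleton_iff.2 ?_⟩
  have hca := mem_centralizer_singleton_iff.1 hc.2
  have e : a * τ * a⁻¹ = τ := by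
    calc a * τ * a⁻¹ = c⁻¹ * ((c * a) * τ * a⁻¹) := by group
      _ = c⁻¹ * ((a * c) * τ * a⁻¹) := by rw [hca]
      _ = c⁻¹ * (a * (c * τ) * a⁻¹) := by group
      _ = τ := by rw [hu]; group
  exact (mul_inv_eq_iff_eq_mul.1 e).symm

theorem comm_M {m b : Γ} (hm : m ∈ X ⊓ normalizer (T : Set Γ)) (hb : b ∈ zpowers a) :
    ⁅m, b⁆ ∈ T := by
  obtain ⟨c, hc, τ, hτ, hcN, rfl⟩ := h.Mdecomp m hm
  have hcb : ⁅c, b⁆ = 1 := commutatorElement_eq_one_iff_mul_comm.2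
    ((mem_centralizer_iff.1 (FlavellFrame20.centralizer_zpowers a ▸ hc.2) b hb).symm)
  have hbT : b ∈ normalizer (T : Set Γ) := FlavellFrame20.zpowers_le_normalizer h.aT hb
  have e : ⁅c * τ, b⁆ = c * ⁅τ, b⁆ * c⁻¹ * ⁅c, b⁆ := by simp only [commutatorElement_def]; group
  rw [e, hcb, mul_one]
  exact conj_mem hcN (Line.comm_T h hbT hτ)

/-- A fixed conjugate of `v` centralised by `T` comes from `N(T)`. -/
theorem fixed_conj {v c : Γ} (hv : v ∈ cen T) (hvc : v ∉ centralizer (X : Set Γ))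
    (hc : c ∈ fixA X a) (hT : ∀ x ∈ T, ⁅x, c * v * c⁻¹⁆ ∈ centralizer (X : Set Γ)) :
    c ∈ normalizer (T : Set Γ) := by
  have hle : cj c⁻¹ T ≤ X ⊓ normalizer (T : Set Γ) := by
    intro y hy
    have hx := mem_cj.1 hy
    rw [inv_inv] at hx
    have hyX : y ∈ X := by
      have := X.mul_mem (X.mul_mem (X.inv_mem hc.1) (Line.TX h hx)) hc.1
      simpa [mul_assoc] using this
    refine ⟨hyX, h.centZ v hv hvc y hyX ?_⟩
    have h2 := (comm_conj_left h (x := c * y * c⁻¹) (y := v) hc.1).2 (hT _ hx)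
    simpa [mul_assoc] using h2
  have hgen : ⁅T, zpowers a⁆ = T := by
    rw [h.Tgen]
    refine CoprimeAction.commutator_commutator_eq (FlavellFrame20.zpowers_le_normalizer h.aW) ?_
      (Or.inl (CoprimeAction.isSolvable_zpowers a))
    rw [Nat.card_zpowers, h.orda]
    exact h.hr.coprime_iff_not_dvd.2 fun hd => h.rX (hd.trans (card_dvd_of_le h.WX))
  have heq : ⁅cj c⁻¹ T, zpowers a⁆ = cj c⁻¹ T := by
    conv_rhs => rw [← hgen]
    rw [cj, cj, Subgroup.map_commutator, FlavellFrame20.conj_zpowers (inv_mem hc.2)]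
  have hT' : cj c⁻¹ T ≤ T := by
    rw [← heq]
    refine (commutator_mono hle le_rfl).trans ?_
    rw [commutator_le]
    exact fun m hm b hb => comm_M h hm hb
  simpa using inv_mem (FlavellFrame20.mem_normalizer_of_map_le hT')

/-- A conjugate of `v` fixed by `a` is a conjugate by a fixed element. -/
theorem fixed_class {v g : Γ} (hv : v ∈ cen T) (hg : g ∈ X)
    (hfix : a * (g * v * g⁻¹) = g * v * g⁻¹ * a) :
    ∃ c ∈ fixA X a, c * v * c⁻¹ = g * v * g⁻¹ ∧ g⁻¹ * c ∈ X ∧ g⁻¹ * c * v = v * (g⁻¹ * c) := by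
  set D := X ⊓ centralizer ({v} : Set Γ)
  have hav := h.a_cen hv
  have haD : a ∈ normalizer (D : Set Γ) := FlavellFrame20.inv_inf h.aX
    (le_normalizer (mem_centralizer_singleton_iff.2 hav))
  obtain ⟨c, hca, hcd⟩ := CoprimeAction.exists_fixed_mem_coset_zpowers haD
    (by
      rw [h.orda]
      exact h.hr.coprime_iff_not_dvd.2 fun hd => h.rX (hd.trans (card_dvd_of_le inf_le_left)))
    g (by
      refine Subgroup.mem_inf.2 ⟨?_, mem_centralizer_singleton_iff.2 ?_⟩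
      · simpa [mul_assoc] using X.mul_mem (X.inv_mem hg) (conj_mem h.aX hg)
      · have e : g⁻¹ * a * g * a⁻¹ * v * (g⁻¹ * a * g * a⁻¹)⁻¹ = v := by
          calc g⁻¹ * a * g * a⁻¹ * v * (g⁻¹ * a * g * a⁻¹)⁻¹
              = g⁻¹ * a * g * a⁻¹ * (v * a) * g⁻¹ * a⁻¹ * g := by group
            _ = g⁻¹ * a * g * a⁻¹ * (a * v) * g⁻¹ * a⁻¹ * g := by rw [hav]
            _ = g⁻¹ * (a * (g * v * g⁻¹)) * a⁻¹ * g := by group
            _ = g⁻¹ * (g * v * g⁻¹ * a) * a⁻¹ * g := by rw [hfix]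
            _ = v := by group
        exact mul_inv_eq_iff_eq_mul.1 e)
  have hd := mem_centralizer_singleton_iff.1 hcd.2
  have hcX : c ∈ X := by
    have h1 := X.mul_mem hg hcd.1
    rwa [mul_inv_cancel_left] at h1
  refine ⟨c, ⟨hcX, mem_centralizer_singleton_iff.2 hca.symm⟩, ?_, hcd.1, hd⟩
  calc c * v * c⁻¹ = g * ((g⁻¹ * c) * v) * c⁻¹ := by group
    _ = g * (v * (g⁻¹ * c)) * c⁻¹ := by rw [hd]
    _ = _ := by group

/-- `g v g⁻¹` fixed by `a` and centralised by `T` modulo the centre forces `g ∈ N(T)`. -/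
theorem fixed_mem {v g : Γ} (hv : v ∈ cen T) (hvc : v ∉ centralizer (X : Set Γ)) (hg : g ∈ X)
    (hfix : a * (g * v * g⁻¹) = g * v * g⁻¹ * a)
    (hT : ∀ x ∈ T, ⁅x, g * v * g⁻¹⁆ ∈ centralizer (X : Set Γ)) :
    g ∈ normalizer (T : Set Γ) := by
  obtain ⟨c, hc, hcv, hdX, hd⟩ := fixed_class h hv hg hfix
  have hcN := fixed_conj h hv hvc hc (hcv ▸ hT)
  have hdN : g⁻¹ * c ∈ normalizer (T : Set Γ) := h.centZ v hv hvc _ hdX (by
    rw [commutatorElement_eq_one_iff_mul_comm.2 hd]; exact one_mem _)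
  have := mul_mem hcN (inv_mem hdN)
  simpa using this

/-- `Z ∩ Z' ≤ C(X)`. -/
theorem meet {g w : Γ} (hg : g ∈ X) (hgN : g ∉ normalizer (T : Set Γ)) (hw : w ∈ cen T)
    (hw' : g⁻¹ * w * g ∈ cen T) : w ∈ centralizer (X : Set Γ) := by
  by_contra hwc
  have e : g * (g⁻¹ * w * g) * g⁻¹ = w := by group
  refine hgN (fixed_mem h hw' (fun hc => hwc ((inv_conjg_mem_CX h hg).1 hc)) hg
    (by rw [e]; exact h.a_cen hw) fun x hx => ?_)
  rw [e, comm_Z_right h hx hw]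
  exact one_mem _

/-- An element commuting with `u ∈ Z'` modulo the centre lies in `M'`. -/
theorem mem_M' {g u x : Γ} (hg : g ∈ X) (hu : g⁻¹ * u * g ∈ cen T)
    (huc : u ∉ centralizer (X : Set Γ)) (hx : x ∈ X)
    (hxu : ⁅x, u⁆ ∈ centralizer (X : Set Γ)) : g⁻¹ * x * g ∈ normalizer (T : Set Γ) := by
  refine h.centZ _ hu (fun hc => huc ((inv_conjg_mem_CX h hg).1 hc)) _ ?_ ?_
  · exact mul_mem (mul_mem (inv_mem hg) hx) hg
  · rw [comm_conj_left h hg]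
    simpa [mul_assoc] using hxu

/-- The conjugate `g (cen T) g⁻¹` is normalised by the conjugate of `N(T)`. -/
theorem norm_Z' {g x : Γ} (hx : g⁻¹ * x * g ∈ normalizer (T : Set Γ)) :
    x ∈ normalizer (cj g (cen T) : Set Γ) := by
  refine FlavellFrame20.mem_normalizer_of_map_le ?_
  rintro _ ⟨y, hy, rfl⟩
  rw [mem_cj]
  have h1 := Line.norm_cen h hx (mem_cj.1 hy)
  simpa [mul_assoc] using h1

theorem comm_mem_Z' {g x u : Γ} (hx : g⁻¹ * x * g ∈ normalizer (T : Set Γ))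
    (hu : u ∈ cj g (cen T)) : ⁅x, u⁆ ∈ cj g (cen T) := by
  rw [commutatorElement_def]
  exact mul_mem (conj_mem (norm_Z' h hx) hu) (inv_mem hu)

theorem Z'_X {g u : Γ} (hg : g ∈ X) (hu : u ∈ cj g (cen T)) : u ∈ X := by
  have h1 := X.mul_mem (X.mul_mem hg (Line.TX h (mem_cj.1 hu).1)) (X.inv_mem hg)
  simpa [mul_assoc] using h1

theorem Z'_sq {g u : Γ} (hu : u ∈ cj g (cen T)) : u * u = 1 := by
  have h1 := h.Zexp _ (mem_cj.1 hu)
  calc u * u = g * ((g⁻¹ * u * g) * (g⁻¹ * u * g)) * g⁻¹ := by group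
    _ = 1 := by rw [h1]; group

theorem Z'_comm {g u v : Γ} (hu : u ∈ cj g (cen T)) (hv : v ∈ cj g (cen T)) : ⁅u, v⁆ = 1 := by
  have h1 := comm_Z_right h (mem_cj.1 hu).1 (mem_cj.1 hv)
  have e : ⁅u, v⁆ = g * ⁅g⁻¹ * u * g, g⁻¹ * v * g⁆ * g⁻¹ := by
    simp only [commutatorElement_def]; group
  rw [e, h1]; group

theorem exists_noncentral : ∃ v ∈ cen T, v ∉ centralizer (X : Set Γ) :=
  SetLike.not_le_iff_exists.1 (Gen.cen_not_central h)

end Cfsg.Agent.Flavell8.Gen.ClosedProof
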