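import Mathlib
import Cfsg.Agent.Lib.FlavellGen8ClosedBase
import Cfsg.Agent.Lib.CharTwoLocal

/-!
If a conjugate of an element of `Z` lies in `N(T)`, so does the whole conjugate of `Z`.
-/

set_option autoImplicit false
set_option linter.unusedSectionVars false
set_option linter.style.haveILetI false

open scoped commutatorElement

namespace Cfsg.Agent.Flavell8.Gen.ClosedProof

open Subgroup Cfsg.Agent.Flavell8.Gen
open Cfsg.Agent.TransferAlperin (cj mem_cj conj_mem_cj card_cj cj_mono cj_inv_cj cj_cj_inv cj_mul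
  cj_inj)
open Cfsg.Agent.CoprimeAction (conj_mem conj_mem' le_normalizer_of_conj_mem)

universe u

variable {Γ : Type u} [Group Γ] [Finite Γ] {p r n : ℕ} {V X S W T : Subgroup Γ} {a : Γ}
  (h : Frame p r n V X S W T a)

include h

/-- A `2`-group `Q` acting on a `2`-group `U` fixes an element outside an invariant `Y` modulo `Y`. -/
theorem exists_fixed {U Q Y : Subgroup Γ} (hQ : IsPGroup 2 Q) :
    ∀ (k : ℕ) (U' : Subgroup Γ), Nat.card U' = k → U' ≤ U → IsPGroup 2 U →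
      Q ≤ normalizer (U' : Set Γ) → ¬ U' ≤ Y → ∃ x ∈ U, x ∉ Y ∧ ∀ q ∈ Q, ⁅x, q⁆ ∈ Y := by
  haveI := Fact.mk Nat.prime_two
  intro k
  induction k using Nat.strong_induction_on with
  | _ k ih =>
    intro U' hk hU' hU hQn hnot
    obtain ⟨x, hx, hxY⟩ := SetLike.not_le_iff_exists.1 hnot
    by_cases hc : ⁅U', Q⁆ ≤ Y
    · exact ⟨x, hU' hx, hxY, fun q hq => hc (commutator_mem_commutator hx hq)⟩
    · have hlt := CharTwoLocal.commutator_lt (hU.to_le hU') hQ hQn fun hb => hxY (by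
        rw [hb, mem_bot] at hx; rw [hx]; exact one_mem _)
      refine ih _ ?_ ⁅U', Q⁆ rfl (hlt.le.trans hU') hU
        (CoprimeTools.le_normalizer_commutator_of_le hQn le_normalizer) hc
      rw [← hk]
      by_contra hge
      exact hlt.ne (eq_of_le_of_card_ge hlt.le (not_lt.1 hge))

theorem T2' : IsPGroup 2 T := h.W2.to_le h.TW

theorem two_cj {g : Γ} : IsPGroup 2 (cj g (cen T)) := ((T2' h).to_le inf_le_left).map _

/-- `Y₀ = Z' ∩ N(T)` is normalised by what normalises both factors. -/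
theorem norm_Y₀ {g x : Γ} (hx : g⁻¹ * x * g ∈ normalizer (T : Set Γ))
    (hxT : x ∈ normalizer (T : Set Γ)) :
    x ∈ normalizer ((cj g (cen T) ⊓ normalizer (T : Set Γ) : Subgroup Γ) : Set Γ) :=
  FlavellFrame20.inv_inf (norm_Z' h hx) (le_normalizer hxT)

theorem CX_le_NT {k : Γ} (hk : k ∈ centralizer (X : Set Γ)) : k ∈ normalizer (T : Set Γ) :=
  centralizer_le_normalizer _ (centralizer_le (Line.TX h) hk)

theorem relIndex_mul_card {H K : Subgroup Γ} (hle : H ≤ K) :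
    Nat.card H * H.relIndex K = Nat.card K := by
  have := card_mul_index (H.subgroupOf K)
  rwa [Nat.card_congr (subgroupOfEquivOfLe hle).toEquiv] at this

/-- (ii) If `Z'` is not in `N(T)`, then `Z` is not in the conjugate of `N(T)`. -/
theorem Z_not_le {g : Γ} (hg : g ∈ X) (hgN : g ∉ normalizer (T : Set Γ))
    (hnot : ¬ cj g (cen T) ≤ normalizer (T : Set Γ)) :
    ¬ ∀ z ∈ cen T, g⁻¹ * z * g ∈ normalizer (T : Set Γ) := by
  classical
  intro hZM
  set Z := cen T with hZdef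
  set Z' := cj g Z with hZ'def
  set Y₀ := Z' ⊓ normalizer (T : Set Γ) with hY₀
  set O := Z ⊓ centralizer (X : Set Γ) with hO
  have hOY : O ≤ Y₀ := by
    intro o ho
    refine Subgroup.mem_inf.2 ⟨mem_cj.2 ?_, CX_le_NT h ho.2⟩
    have : g⁻¹ * o * g = o := by simpa using conj_CX h ho.2 (inv_mem hg)
    rw [this]
    exact ho.1
  have hZn : Z ≤ normalizer (Z' : Set Γ) := fun z hz => norm_Z' h (hZM z hz)
  obtain ⟨z', hz', hz'Y, hfix⟩ := exists_fixed h (U := Z') (Y := Y₀) (Q := Z)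
    ((T2' h).to_le inf_le_left) _ Z' rfl le_rfl (two_cj h) hZn
    (fun hle => hnot (hle.trans inf_le_right))
  have hz'X : z' ∈ X := Z'_X h hg hz'
  have hz'N : z' ∉ normalizer (T : Set Γ) := fun hN => hz'Y ⟨hz', hN⟩
  -- commutators of `Y₀` with `Z` are central
  have hYZ : ∀ y ∈ Y₀, ∀ z ∈ Z, ⁅z, y⁆ ∈ centralizer (X : Set Γ) := by
    intro y hy z hz
    refine meet h hg hgN (Line.comm_cen_left h hy.2 hz) ?_
    exact mem_cj.1 (comm_mem_Z' h (hZM z hz) hy.1)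
  haveI : IsMulCommutative Y₀ := ⟨⟨fun x y => Subtype.ext
    (commutatorElement_eq_one_iff_mul_comm.1 (Z'_comm h x.2.1 y.2.1))⟩⟩
  haveI hnor : (O.subgroupOf Y₀).Normal := normal_subgroupOf_of_le_normalizer
    (le_normalizer_of_conj_mem fun x hx o ho => by
      rwa [conj_CX h ho.2 (Z'_X h hg hx.1)])
  let f : Z →* Y₀ ⧸ O.subgroupOf Y₀ :=
    MonoidHom.mk' (fun z => QuotientGroup.mk ⟨⁅z', (z : Γ)⁆, hfix z z.2⟩) fun z₁ z₂ => by
      rw [← QuotientGroup.mk_mul, QuotientGroup.eq, mem_subgroupOf]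
      show (⁅z', ((z₁ * z₂ : Z) : Γ)⁆)⁻¹ * (⁅z', (z₁ : Γ)⁆ * ⁅z', (z₂ : Γ)⁆) ∈ O
      have e : ⁅z', ((z₁ * z₂ : Z) : Γ)⁆ =
          ⁅z', (z₁ : Γ)⁆ * (⁅(z₁ : Γ), ⁅z', (z₂ : Γ)⁆⁆ * ⁅z', (z₂ : Γ)⁆) := by
        push_cast
        simp only [commutatorElement_def]; group
      rw [e, mul_inv_rev, mul_inv_rev]
      have hc := hYZ _ (hfix z₂ z₂.2) z₁ z₁.2
      have hzero : ⁅(z₁ : Γ), ⁅z', (z₂ : Γ)⁆⁆ ∈ Z := Line.comm_cen_left h (hfix z₂ z₂.2).2 z₁.2
      have hoX : ⁅z', (z₂ : Γ)⁆ ∈ X := Z'_X h hg (hfix z₂ z₂.2).1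
      have : ⁅z', (z₂ : Γ)⁆⁻¹ * ⁅(z₁ : Γ), ⁅z', (z₂ : Γ)⁆⁆⁻¹ * ⁅z', (z₁ : Γ)⁆⁻¹ *
          (⁅z', (z₁ : Γ)⁆ * ⁅z', (z₂ : Γ)⁆) =
          ⁅z', (z₂ : Γ)⁆⁻¹ * ⁅(z₁ : Γ), ⁅z', (z₂ : Γ)⁆⁆⁻¹ * ⁅z', (z₂ : Γ)⁆⁻¹⁻¹ := by group
      rw [this, conj_CX h (inv_mem hc) (inv_mem hoX)]
      exact inv_mem ⟨hzero, hc⟩
  have hker : f.ker ≤ O.subgroupOf Z := by
    intro z hz
    rw [MonoidHom.mem_ker, MonoidHom.mk'_apply, QuotientGroup.eq_one_iff, mem_subgroupOf] at hz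
    refine mem_subgroupOf.2 ⟨z.2, ?_⟩
    by_contra hzc
    exact hz'N (h.centZ z z.2 hzc z' hz'X hz.2)
  have hidx : O.relIndex Z ≤ O.relIndex Y₀ := by
    have h1 : (O.subgroupOf Z).index ≤ f.ker.index :=
      Nat.le_of_dvd (Nat.pos_of_ne_zero index_ne_zero_of_finite) (index_dvd_of_le hker)
    have h2 : f.ker.index ≤ Nat.card (Y₀ ⧸ O.subgroupOf Y₀) := by
      rw [index_ker]; exact card_le_card_group _
    exact h1.trans h2
  have hZ := relIndex_mul_card h (inf_le_left : O ≤ Z)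
  have hY := relIndex_mul_card h hOY
  have hlt : Nat.card Y₀ < Nat.card Z' := by
    by_contra hge
    exact hnot ((eq_of_le_of_card_ge inf_le_left (not_lt.1 hge)).ge.trans inf_le_right)
  rw [hZ'def, card_cj] at hlt
  rw [← hZ, ← hY] at hlt
  exact absurd (Nat.mul_le_mul_left _ hidx) (not_le.2 hlt)

variable {g : Γ}

/-- `D = T ∩ M'`. -/
abbrev Dg (T : Subgroup Γ) (g : Γ) : Subgroup Γ := T ⊓ cj g (normalizer (T : Set Γ))

/-- (iii) If a non-central element of `Z'` lies in `N(T)`, then all of `Z'` does. -/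
theorem Z'_le (hg : g ∈ X) (hgN : g ∉ normalizer (T : Set Γ)) {u₀ : Γ} (hu₀ : u₀ ∈ cj g (cen T))
    (hu₀N : u₀ ∈ normalizer (T : Set Γ)) (hu₀c : u₀ ∉ centralizer (X : Set Γ)) :
    cj g (cen T) ≤ normalizer (T : Set Γ) := by
  classical
  by_contra hnot
  set Z := cen T with hZdef
  set Z' := cj g Z with hZ'def
  set Y₀ := Z' ⊓ normalizer (T : Set Γ) with hY₀
  set D := Dg T g with hDdef
  have hTX := Line.TX h
  have hD : ∀ x : Γ, x ∈ D ↔ x ∈ T ∧ g⁻¹ * x * g ∈ normalizer (T : Set Γ) := fun x =>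
    ⟨fun hx => ⟨hx.1, mem_cj.1 hx.2⟩, fun hx => ⟨hx.1, mem_cj.2 hx.2⟩⟩
  obtain ⟨z₁, hz₁, hz₁M⟩ : ∃ z ∈ Z, g⁻¹ * z * g ∉ normalizer (T : Set Γ) := by
    by_contra hno
    exact Z_not_le h hg hgN hnot fun z hz => by_contra fun hn => hno ⟨z, hz, hn⟩
  -- `Z' ∩ T` is central
  have hZ'T : ∀ w ∈ Z', w ∈ T → w ∈ centralizer (X : Set Γ) := by
    intro w hw hwT
    by_contra hwc
    refine hz₁M (mem_M' h hg (mem_cj.1 hw) hwc (hTX hz₁.1) ?_)
    rw [comm_Z_left h hwT hz₁]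
    exact one_mem _
  have hY0D : ∀ x ∈ D, ∀ y ∈ Y₀, ⁅x, y⁆ ∈ centralizer (X : Set Γ) := by
    intro x hx y hy
    exact hZ'T _ (comm_mem_Z' h ((hD x).1 hx).2 hy.1) (Line.comm_T h hy.2 hx.1)
  have hDiff : ∀ u ∈ Y₀, u ∉ centralizer (X : Set Γ) → ∀ x ∈ T,
      ⁅x, u⁆ ∈ centralizer (X : Set Γ) → x ∈ D := fun u hu huc x hx hxu =>
    (hD x).2 ⟨hx, mem_M' h hg (mem_cj.1 hu.1) huc (hTX hx) hxu⟩
  have hDn : D ≤ normalizer (Y₀ : Set Γ) := fun x hx =>
    norm_Y₀ h ((hD x).1 hx).2 (le_normalizer hx.1)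
  have hD2 : IsPGroup 2 D := (T2' h).to_le inf_le_left
  -- the fixed coset
  obtain ⟨z', hz', hz'Y, hfix⟩ := exists_fixed h (U := Z') (Y := Y₀) (Q := D) hD2 _ Z' rfl le_rfl
    (two_cj h) (fun x hx => norm_Z' h ((hD x).1 hx).2)
    (fun hle => hnot (hle.trans inf_le_right))
  have hz'X : z' ∈ X := Z'_X h hg hz'
  have hz'N : z' ∉ normalizer (T : Set Γ) := fun hN => hz'Y ⟨hz', hN⟩
  have hDsq : ∀ d ∈ D, d * d ∈ centralizer (X : Set Γ) := by
    intro d hd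
    by_contra hdc
    refine hz'N (h.centZ _ (h.Tsq d hd.1) hdc z' hz'X ?_)
    set y := ⁅z', d⁆
    have hy : y ∈ Y₀ := hfix d hd
    have hc : ⁅d, y⁆ ∈ centralizer (X : Set Γ) := hY0D d hd y hy
    have e : ⁅z', d * d⁆ = y * ⁅d, y⁆ * y := by simp only [y, commutatorElement_def]; group
    rw [e, Line.cenX h hc (Z'_X h hg hy.1), mul_assoc, Z'_sq h hy.1, mul_one]
    exact hc
  have hDc := comm_of_sq h hDsq
  -- for each non-central `u` of `Y₀`
  have key : ∀ u ∈ Y₀, u ∉ centralizer (X : Set Γ) →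
      (∀ x ∈ T, ⁅x, u⁆ ∈ D) ∧
        (∀ x ∈ T, ∀ d ∈ D, ⁅x, d⁆ ∈ D) ∧ (∀ d ∈ D, a * d * a⁻¹ ∈ D) ∧
        ∃ σ ∈ D, a * u * a⁻¹ = u * σ := by
    intro u hu huc
    have huX : u ∈ X := Z'_X h hg hu.1
    have huN : u ∈ normalizer (T : Set Γ) := hu.2
    have hu2 : u * u = 1 := Z'_sq h hu.1
    have hu2c : u * u ∈ centralizer (X : Set Γ) := by rw [hu2]; exact one_mem _
    have hui : u⁻¹ = u := inv_eq_of_mul_eq_one_right hu2
    let IO : Subgroup Γ :=
      { carrier := {q | q ∈ Z ∧ ∃ z ∈ Z, (⁅z, u⁆)⁻¹ * q ∈ centralizer (X : Set Γ)}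
        one_mem' := ⟨one_mem _, 1, one_mem _, by simp⟩
        mul_mem' := by
          rintro q₁ q₂ ⟨hq₁, z₁, hz₁, h₁⟩ ⟨hq₂, z₂, hz₂, h₂⟩
          refine ⟨mul_mem hq₁ hq₂, z₁ * z₂, mul_mem hz₁ hz₂, ?_⟩
          have c1 := Line.comm_cen_left h huN hz₁
          have c2 := Line.comm_cen_left h huN hz₂
          have e : ⁅z₁ * z₂, u⁆ = z₁ * ⁅z₂, u⁆ * z₁⁻¹ * ⁅z₁, u⁆ := by
            simp only [commutatorElement_def]; group
          rw [e, Line.cenT h c2 hz₁.1, mul_inv_cancel_right]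
          have e2 : (⁅z₂, u⁆ * ⁅z₁, u⁆)⁻¹ * (q₁ * q₂) =
              (⁅z₁, u⁆⁻¹ * ((⁅z₂, u⁆)⁻¹ * q₁)) * q₂ := by group
          rw [e2, show (⁅z₂, u⁆)⁻¹ * q₁ = q₁ * (⁅z₂, u⁆)⁻¹ from
              (Line.cenT h (inv_mem c2) hq₁.1).symm]
          have e3 : (⁅z₁, u⁆)⁻¹ * (q₁ * (⁅z₂, u⁆)⁻¹) * q₂ =
              ((⁅z₁, u⁆)⁻¹ * q₁) * ((⁅z₂, u⁆)⁻¹ * q₂) := by group
          rw [e3]
          exact mul_mem h₁ h₂
        inv_mem' := by
          rintro q ⟨hq, hex⟩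
          rw [Set.mem_setOf_eq, Z_inv h hq]
          exact ⟨hq, hex⟩ }
    have hcc : ∀ x ∈ T, ∀ x' ∈ T, ⁅⁅x, u⁆, ⁅x', u⁆⁆ ∈ IO := by
      intro x hx x' hx'
      have hy := Line.comm_T h huN hx
      have hy' := Line.comm_T h huN hx'
      set y := ⁅x, u⁆
      set y' := ⁅x', u⁆
      set z₀ := ⁅x, y'⁆
      have hz₀ : z₀ ∈ Z := Line.comm_cen h hx hy'
      have hyy : ⁅y, y'⁆ ∈ Z := Line.comm_cen h hy hy'
      refine ⟨hyy, z₀, hz₀, ?_⟩
      have e1 : u * x * u⁻¹ = y⁻¹ * x := by simp only [y, commutatorElement_def]; group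
      have e2 : u * y' * u⁻¹ = y'⁻¹ := Line.inverts h hu2c (hTX hx')
      have e3 : u * z₀ * u⁻¹ = ⁅y, y'⁆ * z₀ := by
        have e4 : u * z₀ * u⁻¹ = ⁅u * x * u⁻¹, u * y' * u⁻¹⁆ := by
          simp only [z₀, commutatorElement_def]; group
        rw [e4, e1, e2, inv_right h (mul_mem (inv_mem hy) hx) hy', bil_left h (inv_mem hy) hx hy',
          inv_left h hy hy']
      have e5 : ⁅y, y'⁆ = ⁅z₀, u⁆⁻¹ := by
        have : ⁅y, y'⁆ = u * z₀ * u⁻¹ * z₀⁻¹ := by rw [e3, mul_inv_cancel_right]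
        rw [this]; simp only [commutatorElement_def]; group
      rw [e5, Z_inv h (Line.comm_cen_left h huN hz₀), h.Zexp _ (Line.comm_cen_left h huN hz₀)]
      exact one_mem _
    have hsqIO := sq_comm_mem h huX huN hcc
    -- the squares of `[x, u]` are central and `[x, u] ∈ D`
    have hyD : ∀ x ∈ T, ⁅x, u⁆ ∈ D := by
      intro x hx
      have hy := Line.comm_T h huN hx
      set y := ⁅x, u⁆
      obtain ⟨hy2Z, z, hz, hzc⟩ := hsqIO x hx
      have hyu : ⁅y, u⁆ = y * y := Line.comm_self h hu2c (hTX hx)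
      have hcz := Line.comm_cen_left h huN hz
      have hyzu : ⁅y * z, u⁆ ∈ centralizer (X : Set Γ) := by
        have e : ⁅y * z, u⁆ = y * ⁅z, u⁆ * y⁻¹ * ⁅y, u⁆ := by
          simp only [commutatorElement_def]; group
        rw [e, Line.cenT h hcz hy, mul_inv_cancel_right, hyu]
        have : ⁅z, u⁆ = (⁅z, u⁆)⁻¹ := (Z_inv h hcz).symm
        rw [this]
        exact hzc
      have hyzD := hDiff u hu huc _ (mul_mem hy hz.1) hyzu
      have h1 := hDsq _ hyzD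
      rw [sq_mul h hy hz.1, comm_Z_left h hy hz, h.Zexp z hz, one_mul, mul_one] at h1
      exact hDiff u hu huc y hy (hyu.symm ▸ h1)
    obtain ⟨L, LT, ZL, aL, huL, Lform⟩ := Line.img h huX huN le_rfl h.aT
    have hLform : ∀ e ∈ L, ∃ d ∈ D, ∃ z ∈ Z, e = d * z := fun e he => by
      obtain ⟨x, hx, z, hz, rfl⟩ := Lform e he
      exact ⟨_, hyD x hx, z, hz, rfl⟩
    have hLsq : ∀ e ∈ L, e * e ∈ centralizer (X : Set Γ) := by
      intro e he
      obtain ⟨d, hd, z, hz, rfl⟩ := hLform e he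
      rw [sq_mul h hd.1 hz.1, comm_Z_left h hd.1 hz, h.Zexp z hz, one_mul, mul_one]
      exact hDsq d hd
    have hLne : L ≠ Z := by
      intro hLZ
      have hall : ∀ x ∈ T, ⁅x, u⁆ ∈ Z := fun x hx => hLZ ▸ huL x hx
      refine hz₁M (mem_M' h hg (mem_cj.1 hu.1) huc (hTX hz₁.1) ?_)
      have hle : ⁅T, T⁆ ≤ FlavellFrame20.centMod X u := by
        rw [commutator_le]
        intro x hx x' hx'
        refine ⟨hTX (Line.comm_cen h hx hx').1, ?_⟩
        have e1 : u * x * u⁻¹ = ⁅x, u⁆⁻¹ * x := by simp only [commutatorElement_def]; group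
        have e2 : u * x' * u⁻¹ = ⁅x', u⁆⁻¹ * x' := by simp only [commutatorElement_def]; group
        have e3 : u * ⁅x, x'⁆ * u⁻¹ = ⁅x, x'⁆ := by
          have e4 : u * ⁅x, x'⁆ * u⁻¹ = ⁅u * x * u⁻¹, u * x' * u⁻¹⁆ := by
            simp only [commutatorElement_def]; group
          have c1 := inv_mem (hall x hx)
          have c2 := inv_mem (hall x' hx')
          rw [e4, e1, e2, bil_left h c1.1 hx (mul_mem c2.1 hx'), comm_Z_left h (mul_mem c2.1 hx') c1,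
            one_mul, bil_right h hx c2.1 hx', comm_Z_right h hx c2, one_mul]
        rw [commutatorElement_eq_one_iff_mul_comm.2 (mul_inv_eq_iff_eq_mul.1 e3).symm]
        exact one_mem _
      exact (hle ((derived_eq h).ge hz₁)).2
    obtain ⟨Lmax, -⟩ := ext_cover h LT ZL aL hLsq hLne
    have hDL : D ≤ L := by
      intro d hd
      refine Lmax d hd.1 fun e he => ?_
      obtain ⟨d', hd', z, hz, rfl⟩ := hLform e he
      rw [bil_right h hd.1 hd'.1 hz.1, comm_Z_right h hd.1 hz, mul_one]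
      exact hDc d hd d' hd'
    obtain ⟨c, hc, τ, hτ, hcN, hucτ, hau⟩ := decomp h huX huN
    -- `τ ∈ L`
    have hca := mem_centralizer_singleton_iff.1 hc.2
    have hcc' : c * c ∈ Z := by
      rw [hZdef, ← h.Tfix]
      refine ⟨?_, mul_mem hc.2 hc.2⟩
      have : c * c = (c * τ * c⁻¹)⁻¹ * τ⁻¹ := by
        have h1 : c * τ * (c * τ) = 1 := hucτ ▸ hu2
        calc c * c = (c * τ * c⁻¹)⁻¹ * (c * τ * (c * τ)) * τ⁻¹ := by group
          _ = _ := by rw [h1, mul_one]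
      rw [SetLike.mem_coe, this]
      exact T.mul_mem (T.inv_mem (conj_mem hcN hτ)) (T.inv_mem hτ)
    have hτc : ⁅τ, c⁆ ∈ Z := by
      have h1 : c * τ * (c * τ) = 1 := hucτ ▸ hu2
      have e : ⁅τ, c⁆ = τ * (c * c) * τ := by
        calc ⁅τ, c⁆ = τ * (c * c) * (τ * (c * τ * (c * τ))⁻¹) := by
              simp only [commutatorElement_def]; group
          _ = _ := by rw [h1, inv_one, mul_one]
      rw [e, Line.cenT h hcc' hτ, mul_assoc]
      exact mul_mem hcc' (h.Tsq τ hτ)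
    let K : Subgroup Γ :=
      { carrier := {x | x ∈ T ∧ ⁅x, c⁆ ∈ Z}
        one_mem' := ⟨one_mem _, by simp⟩
        mul_mem' := fun {x y} hx hy => ⟨mul_mem hx.1 hy.1, by
          have e : ⁅x * y, c⁆ = x * ⁅y, c⁆ * x⁻¹ * ⁅x, c⁆ := by
            simp only [commutatorElement_def]; group
          rw [e, Line.cenT h hy.2 hx.1, mul_inv_cancel_right]
          exact mul_mem hy.2 hx.2⟩
        inv_mem' := fun {x} hx => ⟨inv_mem hx.1, by
          have e : ⁅x⁻¹, c⁆ = x⁻¹ * ⁅x, c⁆⁻¹ * x⁻¹⁻¹ := by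
            simp only [commutatorElement_def]; group
          rw [e, Line.cenT h (inv_mem hx.2) (inv_mem hx.1), mul_inv_cancel_right]
          exact inv_mem hx.2⟩ }
    have haK : a ∈ normalizer (K : Set Γ) := by
      refine FlavellFrame20.mem_normalizer_of_map_le ?_
      rintro _ ⟨x, ⟨hx, hxc⟩, rfl⟩
      refine ⟨conj_mem h.aT hx, ?_⟩
      have e : ⁅a * x * a⁻¹, c⁆ = a * ⁅x, c⁆ * a⁻¹ := by
        conv_lhs => rw [show c = a * c * a⁻¹ by rw [← hca, mul_inv_cancel_right]]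
        simp only [commutatorElement_def]; group
      show ⁅a * x * a⁻¹, c⁆ ∈ Z
      rw [e, h.a_cen hxc, mul_inv_cancel_right]
      exact hxc
    have hzu : ∀ z ∈ Z, ⁅z, u⁆ = ⁅z, c⁆ := fun z hz => by
      have e : ⁅z, c * τ⁆ = ⁅z, c⁆ * (c * ⁅z, τ⁆ * c⁻¹) := by
        simp only [commutatorElement_def]; group
      rw [hucτ, e, comm_Z_left h hτ hz]; group
    have hτIO : ⁅τ, c⁆ ∈ IO := fixed_hom (O := IO) (K := K) h hc (fun x hx => hx.1) haK
      (fun x hx => hx.2)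
      (fun z hz => ⟨Line.comm_cen_left h hcN hz, z, hz, by
        rw [hzu z hz, inv_mul_cancel]; exact one_mem _⟩) τ ⟨hτ, hτc⟩
    obtain ⟨-, z, hz, hzc⟩ := hτIO
    have hτz : τ * z ∈ D := by
      refine hDiff u hu huc _ (mul_mem hτ hz.1) ?_
      have e : ⁅τ * z, c * τ⁆ = τ * ⁅z, c⁆ * τ⁻¹ * ⁅τ, c⁆ * (c * ⁅τ * z, τ⁆ * c⁻¹) := by
        simp only [commutatorElement_def]; group
      rw [hucτ, e, bil_left h hτ hz.1 hτ, comm_Z_left h hτ hz, commutatorElement_self,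
        Line.cenT h (Line.comm_cen_left h hcN hz) hτ, mul_inv_cancel_right, mul_one, mul_one,
        mul_inv_cancel, mul_one, ← hzu z hz, ← Z_inv h (Line.comm_cen_left h huN hz)]
      exact hzc
    have hτL : τ ∈ L := by
      have := mul_mem (hDL hτz) (inv_mem (ZL hz))
      rwa [mul_inv_cancel_right] at this
    set σ := τ⁻¹ * (a * τ * a⁻¹)
    have hσL : σ ∈ L := mul_mem (inv_mem hτL) (conj_mem aL hτL)
    have hσD : σ ∈ D := by
      refine hDiff u hu huc σ (LT hσL) ?_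
      have h1 : u * σ * (u * σ) = 1 := by
        calc u * σ * (u * σ) = a * u * a⁻¹ * (a * u * a⁻¹) := by rw [hau]
          _ = a * (u * u) * a⁻¹ := by group
          _ = 1 := by rw [hu2]; group
      have e : ⁅σ, u⁆ = σ * σ := by
        calc ⁅σ, u⁆ = σ * u * σ⁻¹ * u⁻¹ * (u * σ * (u * σ)) := by
              rw [h1, mul_one, commutatorElement_def]
          _ = σ * (u * u) * σ := by group
          _ = _ := by rw [hu2, mul_one]
      rw [e]
      exact hLsq σ hσL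
    refine ⟨hyD, ?_, ?_, σ, hσD, hau⟩
    · intro x hx d hd
      refine hDiff u hu huc _ (Line.comm_cen h hx hd.1).1 ?_
      set y := ⁅x, u⁆
      have hy := hyD x hx
      have e1 : u * x * u⁻¹ = y⁻¹ * x := by simp only [y, commutatorElement_def]; group
      have ho : ⁅u, d⁆ ∈ centralizer (X : Set Γ) := by
        rw [← commutatorElement_inv]; exact inv_mem (hY0D d hd u hu)
      have hoZ : ⁅u, d⁆ ∈ Z := Line.CXT h ho (by
        rw [← commutatorElement_inv]; exact inv_mem (Line.comm_T h huN hd.1))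
      have e2 : u * d * u⁻¹ = ⁅u, d⁆ * d := conj_eq_comm_mul h
      have e3 : u * ⁅x, d⁆ * u⁻¹ = ⁅y, d⁆ * ⁅x, d⁆ := by
        have e4 : u * ⁅x, d⁆ * u⁻¹ = ⁅u * x * u⁻¹, u * d * u⁻¹⁆ := by
          simp only [commutatorElement_def]; group
        rw [e4, e1, e2, bil_right h (mul_mem (inv_mem hy.1) hx) hoZ.1 hd.1,
          comm_Z_right h (mul_mem (inv_mem hy.1) hx) hoZ, one_mul, bil_left h (inv_mem hy.1) hx hd.1,
          inv_left h hy.1 hd.1]
      refine Line.comm_swap h ?_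
      have : ⁅u, ⁅x, d⁆⁆ = ⁅y, d⁆ := by
        rw [commutatorElement_def u, e3, mul_inv_cancel_right]
      rw [this]
      exact hDc y hy d hd
    · intro d hd
      have hd' : a * d * a⁻¹ ∈ L := conj_mem aL (hDL hd)
      refine hDiff u hu huc _ (LT hd') ?_
      have h1 : a * ⁅d, u⁆ * a⁻¹ ∈ centralizer (X : Set Γ) :=
        conj_mem (FlavellFrame20.inv_centralizer h.aX) (hY0D d hd u hu)
      have e : a * ⁅d, u⁆ * a⁻¹ = ⁅a * d * a⁻¹, u * σ⁆ := by
        rw [← hau]; simp only [commutatorElement_def]; group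
      rw [e] at h1
      have e2 : ⁅a * d * a⁻¹, u * σ⁆ = ⁅a * d * a⁻¹, u⁆ * (u * ⁅a * d * a⁻¹, σ⁆ * u⁻¹) := by
        simp only [commutatorElement_def]; group
      have h2 : ⁅a * d * a⁻¹, σ⁆ ∈ centralizer (X : Set Γ) := by
        obtain ⟨d', hd'', z, hz, he⟩ := hLform _ hd'
        rw [he, bil_left h hd''.1 hz.1 hσD.1, comm_Z_left h hσD.1 hz, mul_one]
        exact hDc d' hd'' σ hσD
      rw [e2, conj_CX h h2 huX] at h1
      exact (mul_mem_cancel_right h2).1 h1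
  -- the subgroup `B = D Y₀`
  obtain ⟨hyD₀, hxD, haD, -⟩ := key u₀ ⟨hu₀, hu₀N⟩ hu₀c
  set B := D ⊔ Y₀ with hB
  have hB2 : IsPGroup 2 B := hD2.to_sup_of_normal_right' ((two_cj h).to_le inf_le_left) hDn
  have hBX : B ≤ X := sup_le (inf_le_left.trans hTX) fun y hy => Z'_X h hg hy.1
  have haB : a ∈ normalizer (B : Set Γ) := by
    refine FlavellFrame20.mem_normalizer_of_map_le ?_
    rw [hB, Subgroup.map_sup]
    refine sup_le ?_ ?_
    · rintro _ ⟨d, hd, rfl⟩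
      exact mem_sup_left (haD d hd)
    · rintro _ ⟨y, hy, rfl⟩
      show a * y * a⁻¹ ∈ D ⊔ Y₀
      by_cases hyc : y ∈ centralizer (X : Set Γ)
      · rw [mem_centralizer_singleton_iff.1 (h.Z0fix ⟨Z'_X h hg hy.1, hyc⟩) |>.symm,
          mul_inv_cancel_right]
        exact mem_sup_right hy
      · obtain ⟨-, -, -, σ, hσ, e⟩ := key y hy hyc
        rw [e]
        exact mul_mem (mem_sup_right hy) (mem_sup_left hσ)
  have hTB : T ≤ normalizer (B : Set Γ) := by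
    intro x hx
    refine FlavellFrame20.mem_normalizer_of_map_le ?_
    rw [hB, Subgroup.map_sup]
    refine sup_le ?_ ?_
    · rintro _ ⟨d, hd, rfl⟩
      show x * d * x⁻¹ ∈ D ⊔ Y₀
      rw [conj_eq_comm_mul h]
      exact mem_sup_left (mul_mem (hxD x hx d hd) hd)
    · rintro _ ⟨y, hy, rfl⟩
      show x * y * x⁻¹ ∈ D ⊔ Y₀
      by_cases hyc : y ∈ centralizer (X : Set Γ)
      · rw [conj_CX h hyc (hTX hx)]
        exact mem_sup_right hy
      · rw [conj_eq_comm_mul h]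
        exact mul_mem (mem_sup_left ((key y hy hyc).1 x hx)) (mem_sup_right hy)
  have hne : X ⊓ normalizer (B : Set Γ) ≠ X := by
    intro he
    have hp : ¬ p ∣ Nat.card B := by
      intro hd
      haveI : Fact (Nat.Prime 2) := ⟨Nat.prime_two⟩
      obtain ⟨k, hk⟩ := IsPGroup.iff_card.1 hB2
      rw [hk] at hd
      exact h.hp2 ((Nat.prime_dvd_prime_iff_eq h.hp Nat.prime_two).1 (h.hp.dvd_of_dvd_pow hd))
    exact hu₀c (h.normalP' B hBX haB (he.ge.trans inf_le_right) hp (mem_sup_right ⟨hu₀, hu₀N⟩))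
  have hle := (h.overT _ inf_le_left hne
    (FlavellFrame20.inv_inf h.aX (FlavellFrame20.inv_normalizer haB)) (le_inf hTX hTB))
  refine hz'N (hle ⟨hz'X, FlavellFrame20.mem_normalizer_of_map_le ?_⟩)
  rw [hB, Subgroup.map_sup]
  refine sup_le ?_ ?_
  · rintro _ ⟨d, hd, rfl⟩
    show z' * d * z'⁻¹ ∈ D ⊔ Y₀
    rw [conj_eq_comm_mul h]
    exact mul_mem (mem_sup_right (hfix d hd)) (mem_sup_left hd)
  · rintro _ ⟨y, hy, rfl⟩
    show z' * y * z'⁻¹ ∈ D ⊔ Y₀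
    rw [conj_eq_comm_mul h, Z'_comm h hz' hy.1, one_mul]
    exact mem_sup_right hy

end Cfsg.Agent.Flavell8.Gen.ClosedProof
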