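import Mathlib
import Cfsg.Agent.Lib.FlavellGen8ClosedAsym

/-!
Two conjugates of `Z` normalising each other's `T`: no invariant `2`-subgroup of squares central in
`X` moves `T / Z`.
-/

set_option autoImplicit false
set_option linter.unusedSectionVars false
set_option linter.style.haveILetI false

open scoped commutatorElement

namespace Cfsg.Agent.Flavell8.Gen.ClosedProof

open Subgroup Cfsg.Agent.Flavell8.Gen
open Cfsg.Agent.TransferAlperin (cj mem_cj conj_mem_cj card_cj cj_mono cj_inv_cj cj_cj_inv cj_mul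
  cj_inj)
open Cfsg.Agent.CoprimeAction (conj_mem conj_mem' le_normalizer_of_conj_mem)

universe u

variable {Γ : Type u} [Group Γ] [Finite Γ] {p r n : ℕ} {V X S W T : Subgroup Γ} {a g : Γ}

/-- `Z'` lies in `N(T)` and `Z` in the conjugate of `N(T)`, for `g ∉ N(T)`. -/
structure CaseA (X T : Subgroup Γ) (g : Γ) : Prop where
  gX : g ∈ X
  gN : g ∉ normalizer (T : Set Γ)
  left : ∀ z ∈ cen T, g * z * g⁻¹ ∈ normalizer (T : Set Γ)
  right : ∀ z ∈ cen T, g⁻¹ * z * g ∈ normalizer (T : Set Γ)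

theorem CaseA.symm (hA : CaseA X T g) : CaseA X T g⁻¹ where
  gX := inv_mem hA.gX
  gN := fun hg => hA.gN (by simpa using inv_mem hg)
  left := fun z hz => by simpa using hA.right z hz
  right := fun z hz => by simpa using hA.left z hz

variable (h : Frame p r n V X S W T a)

include h

/-- A conjugate of a non-central element of `Z` in `N(T)` gives case A. -/
theorem caseA_of {v : Γ} (hg : g ∈ X) (hgN : g ∉ normalizer (T : Set Γ)) (hv : v ∈ cen T)
    (hvc : v ∉ centralizer (X : Set Γ)) (hu : g * v * g⁻¹ ∈ normalizer (T : Set Γ)) :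
    CaseA X T g := by
  have hle := Z'_le h hg hgN (conj_mem_cj hv) hu fun hc => hvc ((conjg_mem_CX h hg).1 hc)
  refine ⟨hg, hgN, fun z hz => hle (conj_mem_cj hz), fun z hz => ?_⟩
  by_contra hnot
  refine Z_not_le h (inv_mem hg) (fun hc => hgN (by simpa using inv_mem hc))
    (fun hle' => hnot (hle' ?_)) fun w hw => ?_
  · rw [mem_cj]
    simpa [mul_assoc] using hz
  · simpa using hle (conj_mem_cj hw)

theorem CaseA.meet_CX (hA : CaseA X T g) {w : Γ} (hw : w ∈ cen T)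
    (hw' : w ∈ cj g (cen T)) : w ∈ centralizer (X : Set Γ) :=
  meet h hA.gX hA.gN hw (mem_cj.1 hw')

theorem CaseA.comm_ZZ' (hA : CaseA X T g) {z u : Γ} (hz : z ∈ cen T) (hu : u ∈ cj g (cen T)) :
    ⁅z, u⁆ ∈ centralizer (X : Set Γ) := by
  have huN : u ∈ normalizer (T : Set Γ) := by
    simpa [mul_assoc] using hA.left _ (mem_cj.1 hu)
  exact hA.meet_CX h (Line.comm_cen_left h huN hz) (comm_mem_Z' h (hA.right z hz) hu)

/-- (iv) `T` is not in the conjugate of `N(T)`. -/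
theorem CaseA.not_T_le (hA : CaseA X T g) : ¬ ∀ x ∈ T, g⁻¹ * x * g ∈ normalizer (T : Set Γ) := by
  intro hT
  obtain ⟨v, hv, hvc⟩ := exists_noncentral h
  have hTX := Line.TX h
  set u := g * v * g⁻¹
  have hu : u ∈ cj g (cen T) := conj_mem_cj hv
  have huX : u ∈ X := Z'_X h hA.gX hu
  have huN : u ∈ normalizer (T : Set Γ) := hA.left v hv
  have hy : ∀ x ∈ T, ⁅x, u⁆ ∈ cj g (cen T) := fun x hx => comm_mem_Z' h (hT x hx) hu
  obtain ⟨F, FT, ZF, aF, hFu, Fform⟩ := Line.img h huX huN le_rfl h.aT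
  have hab : ∀ x ∈ F, ∀ y ∈ F, x * y = y * x := by
    intro x hx y hy'
    obtain ⟨x₁, hx₁, z₁, hz₁, rfl⟩ := Fform x hx
    obtain ⟨x₂, hx₂, z₂, hz₂, rfl⟩ := Fform y hy'
    have h1 := Line.comm_T h huN hx₁
    have h2 := Line.comm_T h huN hx₂
    rw [← commutatorElement_eq_one_iff_mul_comm, bil_left h h1 hz₁.1 (mul_mem h2 hz₂.1),
      bil_right h h1 h2 hz₂.1, Z'_comm h (hy x₁ hx₁) (hy x₂ hx₂), comm_Z_right h h1 hz₂,
      comm_Z_left h (mul_mem h2 hz₂.1) hz₁, one_mul, one_mul]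
  have hFZ : ∀ x ∈ T, ⁅x, u⁆ ∈ cen T := fun x hx => by
    have hxu := hFu x hx
    exact h.Tfix ▸ ⟨FT hxu, h.abel F (FT.trans hTX) aF ((T2' h).to_le FT) hab hxu⟩
  have hxu : ∀ x ∈ T, ⁅x, u⁆ ∈ centralizer (X : Set Γ) := fun x hx =>
    hA.meet_CX h (hFZ x hx) (hy x hx)
  obtain ⟨c, hc, τ, hτ, hcN, hucτ, hau⟩ := decomp h huX huN
  have hxc : ∀ x ∈ T, ⁅x, c⁆ ∈ cen T ⊓ centralizer (X : Set Γ) := by
    refine fixed_hom h hc le_rfl h.aT (fun x hx => ?_) fun z hz => ?_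
    · have e : ⁅x, u⁆ = ⁅x, c⁆ * (c * ⁅x, τ⁆ * c⁻¹) := by
        rw [hucτ]; simp only [commutatorElement_def]; group
      have h2 := Line.norm_cen h hcN (Line.comm_cen h hx hτ)
      exact (mul_mem_cancel_right h2).1 (e ▸ hFZ x hx)
    · refine ⟨Line.comm_cen_left h hcN hz, ?_⟩
      have e : ⁅z, u⁆ = ⁅z, c⁆ * (c * ⁅z, τ⁆ * c⁻¹) := by
        rw [hucτ]; simp only [commutatorElement_def]; group
      have h3 := hxu z hz.1
      rw [e, comm_Z_left h hτ hz, mul_one, mul_inv_cancel, mul_one] at h3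
      exact h3
  have hxτ : ∀ x ∈ T, ⁅x, τ⁆ ∈ centralizer (X : Set Γ) := by
    intro x hx
    have e : ⁅x, u⁆ = ⁅x, c⁆ * (c * ⁅x, τ⁆ * c⁻¹) := by
      rw [hucτ]; simp only [commutatorElement_def]; group
    have hxc2 : ⁅x, c⁆ ∈ centralizer (X : Set Γ) := (hxc x hx).2
    have h3 := (mul_mem_cancel_left hxc2).1 (e ▸ hxu x hx)
    exact (conjg_mem_CX h hc.1).1 h3
  let R : Subgroup Γ :=
    { carrier := {x | x ∈ T ∧ ∀ t ∈ T, ⁅x, t⁆ ∈ centralizer (X : Set Γ)}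
      one_mem' := ⟨one_mem _, fun t _ => by simp⟩
      mul_mem' := fun {x y} hx hy => ⟨mul_mem hx.1 hy.1, fun t ht => by
        rw [bil_left h hx.1 hy.1 ht]; exact mul_mem (hx.2 t ht) (hy.2 t ht)⟩
      inv_mem' := fun {x} hx => ⟨inv_mem hx.1, fun t ht => by
        rw [inv_left h hx.1 ht]; exact hx.2 t ht⟩ }
  have hRT : R ≤ T := fun x hx => hx.1
  have hZR : cen T ≤ R := fun z hz => ⟨hz.1, fun t ht => by
    rw [comm_Z_left h ht hz]; exact one_mem _⟩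
  have haR : a ∈ normalizer (R : Set Γ) := by
    refine FlavellFrame20.mem_normalizer_of_map_le ?_
    rintro _ ⟨x, hx, rfl⟩
    refine ⟨conj_mem h.aT hx.1, fun t ht => ?_⟩
    have ht' : a⁻¹ * t * a ∈ T := conj_mem' h.aT ht
    have e : ⁅a * x * a⁻¹, t⁆ = a * ⁅x, a⁻¹ * t * a⁆ * a⁻¹ := by
      simp only [commutatorElement_def]; group
    show ⁅a * x * a⁻¹, t⁆ ∈ _
    rw [e]
    exact conj_mem (FlavellFrame20.inv_centralizer h.aX) (hx.2 _ ht')
  let S₀ : Subgroup Γ :=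
    { carrier := {x | x ∈ R ∧ x * x ∈ centralizer (X : Set Γ)}
      one_mem' := ⟨one_mem _, by simp⟩
      mul_mem' := fun {x y} hx hy => ⟨mul_mem hx.1 hy.1, by
        rw [sq_mul h hx.1.1 hy.1.1]
        exact mul_mem (mul_mem (hy.1.2 x hx.1.1) hx.2) hy.2⟩
      inv_mem' := fun {x} hx => ⟨inv_mem hx.1, by
        rw [← mul_inv_rev]; exact inv_mem hx.2⟩ }
  have hRS : R ≤ S₀ := by
    refine Line.gen h (hRT.trans hTX) haR ?_ ?_
    · intro z hz
      refine ⟨hz.1, ?_⟩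
      rw [h.Zexp z (h.Tfix ▸ ⟨hz.1.1, hz.2⟩)]
      exact one_mem _
    · intro t ht
      have hs : a * t * a⁻¹ ∈ R := conj_mem haR ht
      have hu' : t * (a * t * a⁻¹)⁻¹ ∈ R := mul_mem ht (inv_mem hs)
      refine ⟨hu', ?_⟩
      have hs2 : a * t * a⁻¹ * (a * t * a⁻¹) = t * t := by
        calc a * t * a⁻¹ * (a * t * a⁻¹) = a * (t * t) * a⁻¹ := by group
          _ = t * t := by rw [h.a_cen (h.Tsq t ht.1), mul_inv_cancel_right]
      rw [sq_mul h ht.1 (inv_mem hs.1), ← mul_inv_rev, hs2]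
      rw [mul_assoc, mul_inv_cancel, mul_one]
      exact (inv_mem hs).2 t ht.1
  have hτR : τ ∈ R := ⟨hτ, fun t ht => Line.comm_swap h (hxτ t ht)⟩
  have hτZ : τ ∈ cen T := by
    by_contra hτn
    obtain ⟨Rmax, -⟩ := ext_cover h hRT hZR haR (fun x hx => (hRS hx).2) fun he => hτn (he ▸ hτR)
    have hTR : ∀ d ∈ T, d ∈ R := fun d hd => Rmax d hd fun e he => Line.comm_swap h (he.2 d hd)
    refine Gen.cen_not_central h ?_
    rw [← derived_eq h, commutator_le]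
    exact fun x hx y hy => (hTR x hx).2 y hy
  have hfix : a * u = u * a := by
    have e : a * u * a⁻¹ = u := by
      rw [hau, h.a_cen hτZ, mul_inv_cancel_right, inv_mul_cancel, mul_one]
    exact mul_inv_eq_iff_eq_mul.1 e
  exact hA.gN (fixed_mem h hv hvc hA.gX hfix hxu)

/-- An invariant `2`-subgroup normalised by `T` and by the conjugate of `T` is central. -/
theorem CaseA.common (hA : CaseA X T g) {B : Subgroup Γ} (hBX : B ≤ X)
    (haB : a ∈ normalizer (B : Set Γ)) (hB2 : IsPGroup 2 B) (hT : T ≤ normalizer (B : Set Γ))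
    (hT' : cj g T ≤ normalizer (B : Set Γ)) : B ≤ centralizer (X : Set Γ) := by
  by_contra hnot
  have hne : X ⊓ normalizer (B : Set Γ) ≠ X := by
    intro he
    refine hnot (h.normalP' B hBX haB (he.ge.trans inf_le_right) fun hd => ?_)
    haveI : Fact (Nat.Prime 2) := ⟨Nat.prime_two⟩
    obtain ⟨k, hk⟩ := IsPGroup.iff_card.1 hB2
    rw [hk] at hd
    exact h.hp2 ((Nat.prime_dvd_prime_iff_eq h.hp Nat.prime_two).1 (h.hp.dvd_of_dvd_pow hd))
  have hle := (h.overT _ inf_le_left hne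
    (FlavellFrame20.inv_inf h.aX (FlavellFrame20.inv_normalizer haB))
    (le_inf (Line.TX h) hT))
  refine hA.symm.not_T_le h fun x hx => ?_
  rw [inv_inv]
  exact hle ⟨X.mul_mem (X.mul_mem hA.gX (Line.TX h hx)) (X.inv_mem hA.gX), hT' (conj_mem_cj hx)⟩

/-- The properties of the subgroups `E''` on the side of the conjugate of `T`. -/
structure Side (g : Γ) (F : Subgroup Γ) : Prop where
  ZF : cj g (cen T) ≤ F
  FT : F ≤ cj g T
  FM : F ≤ normalizer (T : Set Γ)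
  sq : ∀ e ∈ F, e * e ∈ centralizer (X : Set Γ)
  inv : g * a * g⁻¹ ∈ normalizer (F : Set Γ)
  cZ : ∀ e ∈ F, ∀ z ∈ cen T, ⁅e, z⁆ ∈ centralizer (X : Set Γ)

omit h in
theorem inv_cj {E : Subgroup Γ} (haE : a ∈ normalizer (E : Set Γ)) :
    g * a * g⁻¹ ∈ normalizer (cj g E : Set Γ) := by
  refine FlavellFrame20.mem_normalizer_of_map_le ?_
  rintro _ ⟨_, ⟨x, hx, rfl⟩, rfl⟩
  refine ⟨a * x * a⁻¹, conj_mem haE hx, ?_⟩
  simp [mul_assoc]

/-- The line on the side of the conjugate of `T`. -/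
theorem CaseA.next (hA : CaseA X T g) {F : Subgroup Γ}
    (hF : Side (X := X) (T := T) (a := a) g F)
    {e : Γ} (heT : e ∈ T) (heM : g⁻¹ * e * g ∈ normalizer (T : Set Γ))
    (he2 : e * e ∈ centralizer (X : Set Γ))
    (heZ : ∀ u ∈ cj g (cen T), ⁅u, e⁆ ∈ centralizer (X : Set Γ))
    (heF : ∀ f ∈ F, ⁅f, e⁆ ∈ centralizer (X : Set Γ))
    (hmove : ∃ x ∈ cj g T, ⁅x, e⁆ ∉ cj g (cen T)) :
    ∃ F' : Subgroup Γ, Side (X := X) (T := T) (a := a) g F' ∧ F ≤ F' ∧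
      Nat.card F' = 4 ^ n * Nat.card (cen T) ∧ ∀ x ∈ cj g T, ⁅x, e⁆ ∈ F' := by
  have hgX := hA.gX
  have hTX := Line.TX h
  set e₀ := g⁻¹ * e * g with he₀
  have he₀X : e₀ ∈ X := X.mul_mem (X.mul_mem (X.inv_mem hgX) (hTX heT)) hgX
  have he₀2 : e₀ * e₀ ∈ centralizer (X : Set Γ) := by
    rw [show e₀ * e₀ = g⁻¹ * (e * e) * g by simp only [he₀]; group, inv_conjg_mem_CX h hgX]
    exact he2
  have hZe : ∀ z ∈ cen T, ⁅z, e₀⁆ ∈ centralizer (X : Set Γ) := fun z hz =>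
    (comm_conj_right h hgX).2 (heZ _ (conj_mem_cj hz))
  have hne : ∃ x ∈ T, ⁅x, e₀⁆ ∉ cen T := by
    obtain ⟨x, hx, hxe⟩ := hmove
    refine ⟨g⁻¹ * x * g, mem_cj.1 hx, fun hc => hxe ?_⟩
    rw [mem_cj]
    convert hc using 1
    simp only [he₀, commutatorElement_def]; group
  obtain ⟨E, ET, ZE, aE, Esq, Ene, hwE, Eiff, Ew, Eg⟩ :=
    Gen.line h (fun P hPT hZP haP hsq hne => ext_cover h hPT hZP haP hsq hne)
      he₀X heM he₀2 hZe hne
  have hcard := (ext_cover h ET ZE aE Esq Ene).2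
  have hEX : ∀ y ∈ cj g E, y ∈ X := fun y hy => by
    have := X.mul_mem (X.mul_mem hgX (hTX (ET (mem_cj.1 hy)))) (X.inv_mem hgX)
    simpa [mul_assoc] using this
  -- `[E', Z] = 1`
  have hcZ : ∀ y ∈ cj g E, ∀ z ∈ cen T, ⁅y, z⁆ ∈ centralizer (X : Set Γ) := by
    intro y hy z hz
    have hz₀X : g⁻¹ * z * g ∈ X := X.mul_mem (X.mul_mem (X.inv_mem hgX) (hTX hz.1)) hgX
    obtain ⟨-, hE2, -⟩ := Eg (g⁻¹ * z * g) hz₀X (hA.right z hz)
      (by
        have e2 : g⁻¹ * z * g * (g⁻¹ * z * g) = g⁻¹ * (z * z) * g := by group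
        rw [e2, h.Zexp z hz, mul_one, inv_mul_cancel]; exact one_mem _)
      (by
        have e3 : ⁅g⁻¹ * z * g, e₀⁆ = g⁻¹ * ⁅z, e⁆ * g := by
          simp only [he₀, commutatorElement_def]; group
        rw [e3, comm_Z_left h heT hz]
        simp)
      (fun w hw => (comm_conj_right h hgX).2
        (Line.comm_swap h (hA.comm_ZZ' h hz (conj_mem_cj hw))))
    have h4 := hE2 _ (mem_cj.1 hy)
    have e4 : ⁅g⁻¹ * y * g, g⁻¹ * z * g⁆ = g⁻¹ * ⁅y, z⁆ * g := by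
      simp only [commutatorElement_def]; group
    rwa [e4, inv_conjg_mem_CX h hgX] at h4
  refine ⟨cj g E, ⟨cj_mono g ZE, cj_mono g ET, ?_, ?_, inv_cj aE, hcZ⟩, ?_, ?_, ?_⟩
  · intro y hy
    obtain ⟨z, hz, hzc⟩ := exists_noncentral h
    exact h.centZ z hz hzc y (hEX y hy) (hcZ y hy z hz)
  · intro y hy
    have h1 := Esq _ (mem_cj.1 hy)
    rw [show g⁻¹ * y * g * (g⁻¹ * y * g) = g⁻¹ * (y * y) * g by group,
      inv_conjg_mem_CX h hgX] at h1
    exact h1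
  · intro f hf
    rw [mem_cj]
    have hfT := mem_cj.1 (hF.FT hf)
    refine (Eiff _ hfT).2 (Line.CXT h ?_ (Line.comm_T h heM hfT))
    have e5 : ⁅g⁻¹ * f * g, e₀⁆ = g⁻¹ * ⁅f, e⁆ * g := by
      simp only [he₀, commutatorElement_def]; group
    rw [e5, inv_conjg_mem_CX h hgX]
    exact heF f hf
  · rw [card_cj]; exact hcard
  · intro x hx
    rw [mem_cj]
    convert hwE _ (mem_cj.1 hx) using 1
    simp only [he₀, commutatorElement_def]; group

/-- Lemma G: nothing on the side of the conjugate moves `T / Z`. -/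
theorem CaseA.no_mover (hA : CaseA X T g) {F : Subgroup Γ}
    (hF : Side (X := X) (T := T) (a := a) g F) {w : Γ} (hw : w ∈ F) :
    ∀ x ∈ T, ⁅x, w⁆ ∈ cen T := by
  by_contra hmove
  push Not at hmove
  have hgX := hA.gX
  have hTX := Line.TX h
  have hFX : ∀ {f : Γ}, ∀ {F : Subgroup Γ}, Side (X := X) (T := T) (a := a) g F → f ∈ F → f ∈ X := by
    intro f F hF hf
    have := X.mul_mem (X.mul_mem hgX (hTX (mem_cj.1 (hF.FT hf)))) (X.inv_mem hgX)
    simpa [mul_assoc] using this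
  have hwX : w ∈ X := hFX hF hw
  obtain ⟨E, ET, ZE, aE, Esq, Ene, hwE, Eiff, Ew, Eg⟩ :=
    Gen.line h (fun P hPT hZP haP hsq hne => ext_cover h hPT hZP haP hsq hne)
      hwX (hF.FM hw) (hF.sq w hw) (fun z hz => Line.comm_swap h (hF.cZ w hw z hz)) hmove
  -- what every side containing `w` gets
  have hside : ∀ {F : Subgroup Γ}, Side (X := X) (T := T) (a := a) g F → w ∈ F → ∀ f ∈ F,
      (∀ x ∈ T, ⁅x, f⁆ ∈ E) ∧ (∀ e ∈ E, ⁅e, f⁆ ∈ centralizer (X : Set Γ)) ∧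
        ∃ s ∈ E, a * f * a⁻¹ = f * s := fun {F} hF hw f hf =>
    Eg f (hFX hF hf) (hF.FM hf) (hF.sq f hf) (comm_of_sq h hF.sq f hf w hw)
      (fun z hz => Line.comm_swap h (hF.cZ f hf z hz))
  obtain ⟨v, hv, hvc⟩ := exists_noncentral h
  have hEM : ∀ e ∈ E, g⁻¹ * e * g ∈ normalizer (T : Set Γ) := fun e he => by
    have hu : g * v * g⁻¹ ∈ cj g (cen T) := conj_mem_cj hv
    exact mem_M' h hgX (mem_cj.1 hu) (fun hc => hvc ((conjg_mem_CX h hgX).1 hc))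
      (hTX (ET he)) ((hside hF hw _ (hF.ZF hu)).2.1 e he)
  have hstep : ∀ {F : Subgroup Γ}, Side (X := X) (T := T) (a := a) g F → w ∈ F → ∀ e ∈ E,
      (∃ x ∈ cj g T, ⁅x, e⁆ ∉ cj g (cen T)) →
      ∃ F' : Subgroup Γ, Side (X := X) (T := T) (a := a) g F' ∧ F ≤ F' ∧
        Nat.card F' = 4 ^ n * Nat.card (cen T) ∧ ∀ x ∈ cj g T, ⁅x, e⁆ ∈ F' :=
    fun {F} hF hw e he hm => hA.next h hF (ET he) (hEM e he) (Esq e he)
      (fun u hu => Line.comm_swap h ((hside hF hw u (hF.ZF hu)).2.1 e he))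
      (fun f hf => Line.comm_swap h ((hside hF hw f hf).2.1 e he)) hm
  obtain ⟨F₄, hF₄, hwF₄, hall⟩ : ∃ F₄ : Subgroup Γ, Side (X := X) (T := T) (a := a) g F₄ ∧ w ∈ F₄ ∧
      ∀ e ∈ E, ∀ x ∈ cj g T, ⁅x, e⁆ ∈ F₄ := by
    by_cases hm : ∃ e ∈ E, ∃ x ∈ cj g T, ⁅x, e⁆ ∉ cj g (cen T)
    · obtain ⟨e, he, hm⟩ := hm
      obtain ⟨F₄, hF₄, hle, hc₄, -⟩ := hstep hF hw e he hm
      refine ⟨F₄, hF₄, hle hw, fun e₂ he₂ x hx => ?_⟩
      by_cases hm₂ : ∃ x ∈ cj g T, ⁅x, e₂⁆ ∉ cj g (cen T)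
      · obtain ⟨F₅, -, hle₅, hc₅, hin⟩ := hstep hF₄ (hle hw) e₂ he₂ hm₂
        rw [eq_of_le_of_card_ge hle₅ (le_of_eq (hc₅.trans hc₄.symm))]
        exact hin x hx
      · push Not at hm₂
        exact hF₄.ZF (hm₂ x hx)
    · push Not at hm
      exact ⟨F, hF, hw, fun e he x hx => hF.ZF (hm e he x hx)⟩
  have hside₄ := hside hF₄ hwF₄
  have hFE : F₄ ≤ normalizer (E : Set Γ) := fun f hf => by
    refine FlavellFrame20.mem_normalizer_of_map_le ?_
    rintro _ ⟨e, he, rfl⟩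
    show f * e * f⁻¹ ∈ E
    rw [conj_eq_comm_mul h, ← commutatorElement_inv]
    refine mul_mem (inv_mem (ZE (Line.CXT h ((hside₄ f hf).2.1 e he) ?_))) he
    exact Line.comm_T h (hF₄.FM hf) (ET he)
  set B := E ⊔ F₄ with hB
  have hB2 : IsPGroup 2 B :=
    ((T2' h).to_le ET).to_sup_of_normal_left' (((T2' h).map _).to_le hF₄.FT) hFE
  have hBX : B ≤ X := sup_le (ET.trans hTX) fun f hf => hFX hF₄ hf
  have haB : a ∈ normalizer (B : Set Γ) := by
    refine FlavellFrame20.mem_normalizer_of_map_le ?_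
    rw [hB, Subgroup.map_sup]
    refine sup_le ?_ ?_
    · rintro _ ⟨e, he, rfl⟩
      exact mem_sup_left (conj_mem aE he)
    · rintro _ ⟨f, hf, rfl⟩
      obtain ⟨s, hs, e⟩ := (hside₄ f hf).2.2
      show a * f * a⁻¹ ∈ E ⊔ F₄
      rw [e]
      exact mul_mem (mem_sup_right hf) (mem_sup_left hs)
  have hT : T ≤ normalizer (B : Set Γ) := by
    intro x hx
    refine FlavellFrame20.mem_normalizer_of_map_le ?_
    rw [hB, Subgroup.map_sup]
    refine sup_le ?_ ?_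
    · rintro _ ⟨e, he, rfl⟩
      exact mem_sup_left (conj_mem (T_normalizes h ET ZE hx) he)
    · rintro _ ⟨f, hf, rfl⟩
      show x * f * x⁻¹ ∈ E ⊔ F₄
      rw [conj_eq_comm_mul h]
      exact mul_mem (mem_sup_left ((hside₄ f hf).1 x hx)) (mem_sup_right hf)
  have hT' : cj g T ≤ normalizer (B : Set Γ) := by
    intro x hx
    refine FlavellFrame20.mem_normalizer_of_map_le ?_
    rw [hB, Subgroup.map_sup]
    refine sup_le ?_ ?_
    · rintro _ ⟨e, he, rfl⟩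
      show x * e * x⁻¹ ∈ E ⊔ F₄
      rw [conj_eq_comm_mul h]
      exact mul_mem (mem_sup_right (hall e he x hx)) (mem_sup_left he)
    · rintro _ ⟨f, hf, rfl⟩
      show x * f * x⁻¹ ∈ E ⊔ F₄
      rw [conj_eq_comm_mul h]
      refine mem_sup_right (mul_mem (hF₄.ZF ?_) hf)
      rw [mem_cj]
      have e : g⁻¹ * ⁅x, f⁆ * g = ⁅g⁻¹ * x * g, g⁻¹ * f * g⁆ := by
        simp only [commutatorElement_def]; group
      rw [e]
      exact Line.comm_cen h (mem_cj.1 hx) (mem_cj.1 (hF₄.FT hf))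
  obtain ⟨x, hx, hxw⟩ := hmove
  refine hxw ?_
  have hwc := hA.common h hBX haB hB2 hT hT' (mem_sup_right hwF₄)
  rw [commutatorElement_eq_one_iff_mul_comm.2 (Line.cenX h hwc (hTX hx))]
  exact one_mem _

/-- (v) `Z'` fixes `T / Z`. -/
theorem CaseA.fix (hA : CaseA X T g) {u : Γ} (hu : u ∈ cj g (cen T)) :
    ∀ x ∈ T, ⁅x, u⁆ ∈ cen T := by
  refine hA.no_mover h (F := cj g (cen T)) ⟨le_rfl, cj_mono g inf_le_left, ?_, ?_, ?_, ?_⟩ hu
  · intro y hy
    simpa [mul_assoc] using hA.left _ (mem_cj.1 hy)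
  · intro y hy
    rw [Z'_sq h hy]; exact one_mem _
  · exact inv_cj (FlavellFrame20.inv_inf h.aT (FlavellFrame20.inv_centralizer h.aT))
  · exact fun y hy z hz => Line.comm_swap h (hA.comm_ZZ' h hz hy)

end Cfsg.Agent.Flavell8.Gen.ClosedProof
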