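import Mathlib
import Cfsg.Agent.Lib.FlavellGen8ClosedMove

/-!
Piece B: `cen T` is strongly closed modulo the centre of `X`.
-/

set_option autoImplicit false
set_option linter.unusedSectionVars false
set_option linter.style.haveILetI false

open scoped commutatorElement

namespace Cfsg.Agent.Flavell8.Gen.ClosedProof

open Subgroup Cfsg.Agent.Flavell8.Gen
open Cfsg.Agent.TransferAlperin (cj mem_cj conj_mem_cj card_cj cj_mono cj_inv_cj cj_cj_inv cj_mul
  cj_inj)
open Cfsg.Agent.CoprimeAction (conj_mem conj_mem' le_normalizer_of_conj_mem)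

universe u

variable {Γ : Type u} [Group Γ] [Finite Γ] {p r n : ℕ} {V X S W T : Subgroup Γ} {a g : Γ}
  (h : Frame p r n V X S W T a)

include h

/-- `x ↦ [x, τ]` embeds `T / C_T(τ)` into `Z / (Z ∩ C(X))`. -/
theorem card_T_le {D : Subgroup Γ} (hDT : D ≤ T) {τ : Γ} (hτ : τ ∈ T)
    (hD : ∀ x ∈ T, ⁅x, τ⁆ ∈ centralizer (X : Set Γ) → x ∈ D) :
    Nat.card T ≤ Nat.card D * (cen T ⊓ centralizer (X : Set Γ)).relIndex (cen T) := by
  set Z := cen T
  set O := Z ⊓ centralizer (X : Set Γ)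
  haveI : (O.subgroupOf Z).Normal := normal_subgroupOf_of_le_normalizer
    (le_normalizer_of_conj_mem fun x hx o ho => by
      rwa [conj_CX h ho.2 (Line.TX h hx.1)])
  let f : T →* Z ⧸ O.subgroupOf Z :=
    MonoidHom.mk' (fun x => QuotientGroup.mk ⟨⁅(x : Γ), τ⁆, Line.comm_cen h x.2 hτ⟩) fun x y => by
      rw [← QuotientGroup.mk_mul]
      exact congrArg _ (Subtype.ext (bil_left h x.2 y.2 hτ))
  have hker : f.ker ≤ D.subgroupOf T := by
    intro x hx
    rw [MonoidHom.mem_ker, MonoidHom.mk'_apply, QuotientGroup.eq_one_iff, mem_subgroupOf] at hx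
    exact mem_subgroupOf.2 (hD x x.2 hx.2)
  have h1 : (D.subgroupOf T).index ≤ f.ker.index :=
    Nat.le_of_dvd (Nat.pos_of_ne_zero index_ne_zero_of_finite) (index_dvd_of_le hker)
  have h2 : f.ker.index ≤ O.relIndex Z := by
    rw [index_ker]; exact card_le_card_group _
  rw [← relIndex_mul_card h hDT]
  exact Nat.mul_le_mul_left _ (h1.trans h2)

/-- An element of order prime to `2` normalises what its square normalises. -/
theorem norm_of_sq {D : Subgroup Γ} (h2 : a * a ∈ normalizer (D : Set Γ)) :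
    a ∈ normalizer (D : Set Γ) := by
  obtain ⟨k, hk⟩ : ∃ k, r + 1 = 2 * k := by
    have := h.rn
    refine ⟨2 ^ (n - 1) + 1, ?_⟩
    have h3 : 2 ^ n = 2 * 2 ^ (n - 1) := by
      rw [← pow_succ']; congr 1; have := h.n1; omega
    omega
  have e : a = (a * a) ^ k := by
    rw [← pow_two, ← pow_mul, ← hk, pow_succ, ← h.orda, pow_orderOf_eq_one, one_mul]
  rw [e]
  exact pow_mem h2 k

/-- (vi) Case A is impossible. -/
theorem CaseA.false (hA : CaseA X T g) : False := by
  classical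
  have hgX := hA.gX
  have hTX := Line.TX h
  set Z := cen T with hZdef
  set Z' := cj g Z with hZ'def
  set O := Z ⊓ centralizer (X : Set Γ) with hOdef
  set D := Dg T g with hDdef
  have hDmem : ∀ x : Γ, x ∈ D ↔ x ∈ T ∧ g⁻¹ * x * g ∈ normalizer (T : Set Γ) := fun x =>
    ⟨fun hx => ⟨hx.1, mem_cj.1 hx.2⟩, fun hx => ⟨hx.1, mem_cj.2 hx.2⟩⟩
  have hDT : D ≤ T := inf_le_left
  have hZD : Z ≤ D := fun z hz => (hDmem z).2 ⟨hz.1, hA.right z hz⟩
  have hZ'N : ∀ {u : Γ}, u ∈ Z' → u ∈ normalizer (T : Set Γ) := fun {u} hu => by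
    simpa [mul_assoc] using hA.left _ (mem_cj.1 hu)
  have hDu : ∀ x ∈ D, ∀ u ∈ Z', ⁅x, u⁆ ∈ centralizer (X : Set Γ) := fun x hx u hu =>
    hA.meet_CX h (hA.fix h hu x hx.1) (comm_mem_Z' h ((hDmem x).1 hx).2 hu)
  have hDiff : ∀ u ∈ Z', u ∉ centralizer (X : Set Γ) → ∀ x ∈ T,
      ⁅x, u⁆ ∈ centralizer (X : Set Γ) → x ∈ D := fun u hu huc x hx hxu =>
    (hDmem x).2 ⟨hx, mem_M' h hgX (mem_cj.1 hu) huc (hTX hx) hxu⟩
  -- the components `τ`
  have hxτ : ∀ u ∈ Z', ∀ c ∈ fixA X a, ∀ τ ∈ T, c ∈ normalizer (T : Set Γ) → u = c * τ →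
      ∀ x ∈ T, (⁅x, τ⁆ ∈ centralizer (X : Set Γ) ↔ ⁅x, u⁆ ∈ centralizer (X : Set Γ)) ∧
        ⁅x, c⁆ ∈ O := by
    intro u hu c hc τ hτ hcN hucτ
    have e : ∀ x : Γ, ⁅x, u⁆ = ⁅x, c⁆ * (c * ⁅x, τ⁆ * c⁻¹) := fun x => by
      rw [hucτ]; simp only [commutatorElement_def]; group
    have hO : ∀ x ∈ T, ⁅x, c⁆ ∈ O := by
      refine fixed_hom h hc le_rfl h.aT (fun x hx => ?_) fun z hz => ?_
      · have h2 := Line.norm_cen h hcN (Line.comm_cen h hx hτ)
        exact (mul_mem_cancel_right h2).1 (e x ▸ hA.fix h hu x hx)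
      · refine ⟨Line.comm_cen_left h hcN hz, ?_⟩
        have h3 := hA.comm_ZZ' h hz hu
        rw [e z, comm_Z_left h hτ hz, mul_one, mul_inv_cancel, mul_one] at h3
        exact h3
    intro x hx
    have h4 : ⁅x, c⁆ ∈ centralizer (X : Set Γ) := (hO x hx).2
    refine ⟨?_, hO x hx⟩
    rw [e x, mul_mem_cancel_left h4, conjg_mem_CX h hc.1]
  have hTTinj : ∀ {c c' τ τ' : Γ}, c ∈ fixA X a → c' ∈ fixA X a → τ ∈ T → τ' ∈ T →
      c * τ = c' * τ' → τ⁻¹ * τ' ∈ Z := by
    intro c c' τ τ' hc hc' hτ hτ' e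
    have h1 : c'⁻¹ * c = τ' * τ⁻¹ := by
      calc c'⁻¹ * c = c'⁻¹ * (c * τ) * τ⁻¹ := by group
        _ = _ := by rw [e]; group
    have h2 : τ' * τ⁻¹ ∈ Z := by
      rw [hZdef, ← h.Tfix]
      refine Subgroup.mem_inf.2 ⟨T.mul_mem hτ' (T.inv_mem hτ), ?_⟩
      rw [← h1]
      exact mul_mem (inv_mem hc'.2) hc.2
    have e2 : τ⁻¹ * τ' = τ⁻¹ * (τ' * τ⁻¹) * τ⁻¹⁻¹ := by group
    rw [e2, Line.cenT h h2 (inv_mem hτ), mul_inv_cancel_right]
    exact h2
  -- every non-central `τ` has centraliser `D`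
  have hτD : ∀ u ∈ Z', ∀ c ∈ fixA X a, ∀ τ ∈ T, c ∈ normalizer (T : Set Γ) → u = c * τ → τ ∉ Z →
      τ ∈ D ∧ ∀ x ∈ T, (x ∈ D ↔ ⁅x, τ⁆ ∈ centralizer (X : Set Γ)) := by
    intro u hu c hc τ hτ hcN hucτ hτZ
    have huc : u ∉ centralizer (X : Set Γ) := by
      intro huc
      refine hτZ (mem_cen_of_fix h hc hτ ?_)
      rw [← hucτ, ← mem_centralizer_singleton_iff.1 (h.Z0fix ⟨Z'_X h hgX hu, huc⟩),
        mul_inv_cancel_right]
    have hiff : ∀ x ∈ T, (x ∈ D ↔ ⁅x, τ⁆ ∈ centralizer (X : Set Γ)) := fun x hx =>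
      ⟨fun hxD => ((hxτ u hu c hc τ hτ hcN hucτ x hx).1).2 (hDu x hxD u hu),
        fun hc' => hDiff u hu huc x hx (((hxτ u hu c hc τ hτ hcN hucτ x hx).1).1 hc')⟩
    exact ⟨(hiff τ hτ).2 (by rw [commutatorElement_self]; exact one_mem _), hiff⟩
  have hnT := hA.not_T_le h
  have hτne : ∀ u ∈ Z', u ∉ centralizer (X : Set Γ) → ∀ c ∈ fixA X a, ∀ τ ∈ T,
      c ∈ normalizer (T : Set Γ) → u = c * τ → τ ∉ Z := by
    intro u hu huc c hc τ hτ hcN hucτ hτZ
    refine hnT fun x hx => ((hDmem x).1 (hDiff u hu huc x hx ?_)).2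
    refine ((hxτ u hu c hc τ hτ hcN hucτ x hx).1).1 ?_
    rw [comm_Z_right h hx hτZ]
    exact one_mem _
  obtain ⟨v, hv, hvc⟩ := exists_noncentral h
  -- squares of `D` are central
  have hDsq : ∀ d ∈ D, d * d ∈ centralizer (X : Set Γ) := by
    intro d hd
    by_contra hdc
    set d₀ := g⁻¹ * d * g with hd₀
    have hd₀M : d₀ ∈ normalizer (T : Set Γ) := ((hDmem d).1 hd).2
    have hd₀X : d₀ ∈ X := X.mul_mem (X.mul_mem (X.inv_mem hgX) (hTX hd.1)) hgX
    have hsym : ∀ z ∈ Z, ∀ x ∈ T, ⁅x, g⁻¹ * z * g⁆ ∈ Z := fun z hz =>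
      hA.symm.fix h (by rw [mem_cj]; convert hz using 1; group)
    have hZd : ∀ z ∈ Z, ⁅z, d₀⁆ ∈ centralizer (X : Set Γ) := fun z hz =>
      (comm_conj_right h hgX).2 (Line.comm_swap h (hDu d hd _ (conj_mem_cj hz)))
    have hflip : ∀ x ∈ T, d₀ * ⁅x, d₀⁆ * d₀⁻¹ * ⁅x, d₀⁆ ∈ Z := by
      intro x hx
      have hy := Line.comm_T h hd₀M hx
      have h1 : ⁅x, d₀ * d₀⁆ ∈ Z := by
        rw [show d₀ * d₀ = g⁻¹ * (d * d) * g by simp only [hd₀]; group]
        exact hsym _ (h.Tsq d hd.1) x hx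
      have e : ⁅x, d₀ * d₀⁆ = ⁅x, d₀⁆ * (d₀ * ⁅x, d₀⁆ * d₀⁻¹) := by
        simp only [commutatorElement_def]; group
      have e2 : d₀ * ⁅x, d₀⁆ * d₀⁻¹ * ⁅x, d₀⁆ = ⁅x, d₀⁆⁻¹ * ⁅x, d₀ * d₀⁆ * ⁅x, d₀⁆ := by
        rw [e]; group
      rw [e2, mul_assoc, ← Line.cenT h h1 hy, inv_mul_cancel_left]
      exact h1
    have hcc : ∀ x ∈ T, ∀ x' ∈ T, ⁅⁅x, d₀⁆, ⁅x', d₀⁆⁆ ∈ centralizer (X : Set Γ) := by
      intro x hx x' hx'
      have hy := Line.comm_T h hd₀M hx
      have hy' := Line.comm_T h hd₀M hx'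
      set y := ⁅x, d₀⁆
      set y' := ⁅x', d₀⁆
      set z₀ := ⁅x, y'⁆
      have hz₀ : z₀ ∈ Z := Line.comm_cen h hx hy'
      set w := d₀ * y' * d₀⁻¹
      have hw : w ∈ T := conj_mem hd₀M hy'
      have hwy : w * y' ∈ Z := hflip x' hx'
      have e0 : w = (w * y') * y'⁻¹ := by group
      have e1 : d₀ * x * d₀⁻¹ = y⁻¹ * x := by simp only [y, commutatorElement_def]; group
      have e3 : d₀ * z₀ * d₀⁻¹ = ⁅y, y'⁆ * z₀ := by
        have e4 : d₀ * z₀ * d₀⁻¹ = ⁅d₀ * x * d₀⁻¹, w⁆ := by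
          simp only [z₀, w, commutatorElement_def]; group
        rw [e4, e1, e0, bil_right h (mul_mem (inv_mem hy) hx) hwy.1 (inv_mem hy'),
          comm_Z_right h (mul_mem (inv_mem hy) hx) hwy, one_mul,
          inv_right h (mul_mem (inv_mem hy) hx) hy', bil_left h (inv_mem hy) hx hy',
          inv_left h hy hy']
      have e5 : ⁅y, y'⁆ = ⁅z₀, d₀⁆⁻¹ := by
        have : ⁅y, y'⁆ = d₀ * z₀ * d₀⁻¹ * z₀⁻¹ := by rw [e3, mul_inv_cancel_right]
        rw [this]; simp only [commutatorElement_def]; group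
      rw [e5]
      exact inv_mem (hZd z₀ hz₀)
    have hsq := sq_comm_mem h hd₀X hd₀M hcc
    obtain ⟨E₀, ET, ZE, aE, hdE, Eform⟩ := Line.img h hd₀X hd₀M le_rfl h.aT
    have hEsq : ∀ e ∈ E₀, e * e ∈ centralizer (X : Set Γ) := by
      intro e he
      obtain ⟨x, hx, z, hz, rfl⟩ := Eform e he
      have hy := Line.comm_T h hd₀M hx
      rw [sq_mul h hy hz.1, comm_Z_left h hy hz, h.Zexp z hz, one_mul, mul_one]
      exact hsq x hx
    have hEz : ∀ e ∈ E₀, ∀ z ∈ Z, ⁅e, g⁻¹ * z * g⁆ ∈ centralizer (X : Set Γ) := by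
      intro e he z hz
      obtain ⟨x, hx, w, hw, rfl⟩ := Eform e he
      have hy := Line.comm_T h hd₀M hx
      set y := ⁅x, d₀⁆
      set z₁ := g⁻¹ * z * g
      have hyz : ⁅y, z₁⁆ ∈ centralizer (X : Set Γ) := by
        have hs := hsym z hz x hx
        have e1 : d₀ * z₁ * d₀⁻¹ = z₁ := by
          calc d₀ * z₁ * d₀⁻¹ = g⁻¹ * (d * z * d⁻¹) * g := by simp only [hd₀, z₁]; group
            _ = z₁ := by rw [Line.cenT h hz hd.1, mul_inv_cancel_right]
        have e2 : d₀ * ⁅x, z₁⁆ * d₀⁻¹ = ⁅y⁻¹ * x, z₁⁆ := by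
          have e4 : d₀ * ⁅x, z₁⁆ * d₀⁻¹ = ⁅d₀ * x * d₀⁻¹, d₀ * z₁ * d₀⁻¹⁆ := by
            simp only [commutatorElement_def]; group
          have e1' : d₀ * x * d₀⁻¹ = y⁻¹ * x := by simp only [y, commutatorElement_def]; group
          rw [e4, e1, e1']
        have e3 : ⁅y⁻¹ * x, z₁⁆ = ⁅y⁻¹, z₁⁆ * ⁅x, z₁⁆ := by
          have e5 : ⁅y⁻¹ * x, z₁⁆ = y⁻¹ * ⁅x, z₁⁆ * y⁻¹⁻¹ * ⁅y⁻¹, z₁⁆ := by
            simp only [commutatorElement_def]; group
          rw [e5, Line.cenT h hs (inv_mem hy), mul_inv_cancel_right,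
            Line.cenT h (hsym z hz _ (inv_mem hy)) hs.1]
        have h6 : ⁅y⁻¹, z₁⁆ ∈ centralizer (X : Set Γ) := by
          have e6 : ⁅y⁻¹, z₁⁆ = ⁅⁅x, z₁⁆, d₀⁆⁻¹ := by
            have e7 : ⁅y⁻¹, z₁⁆ = d₀ * ⁅x, z₁⁆ * d₀⁻¹ * ⁅x, z₁⁆⁻¹ := by
              rw [e2, e3, mul_inv_cancel_right]
            rw [e7]; simp only [commutatorElement_def]; group
          rw [e6]
          exact inv_mem (hZd _ hs)
        exact Line.comm_inv_left h (hTX hy) h6
      have hwz : ⁅w, z₁⁆ ∈ centralizer (X : Set Γ) :=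
        (comm_conj_right h hgX).2 (Line.comm_swap h (hA.comm_ZZ' h hz (conj_mem_cj hw)))
      rw [Line.comm_mul_CX h (hTX hy) hwz]
      exact mul_mem hwz hyz
    have hF : Side (X := X) (T := T) (a := a) g (cj g E₀) := by
      have hcZ : ∀ e ∈ cj g E₀, ∀ z ∈ Z, ⁅e, z⁆ ∈ centralizer (X : Set Γ) := by
        intro e he z hz
        have h1 := (comm_conj_right h hgX).1 (hEz _ (mem_cj.1 he) z hz)
        rwa [show g * (g⁻¹ * e * g) * g⁻¹ = e by group] at h1
      refine ⟨cj_mono g ZE, cj_mono g ET, ?_, ?_, inv_cj aE, hcZ⟩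
      · intro e he
        have heX : e ∈ X := by
          have := X.mul_mem (X.mul_mem hgX (hTX (ET (mem_cj.1 he)))) (X.inv_mem hgX)
          simpa [mul_assoc] using this
        exact h.centZ v hv hvc e heX (hcZ e he v hv)
      · intro e he
        have h1 := hEsq _ (mem_cj.1 he)
        rw [show g⁻¹ * e * g * (g⁻¹ * e * g) = g⁻¹ * (e * e) * g by group,
          inv_conjg_mem_CX h hgX] at h1
        exact h1
    have hfixE : ∀ e ∈ cj g E₀, ∀ x ∈ T, ⁅x, e⁆ ∈ Z := fun e he => hA.no_mover h hF he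
    refine hA.symm.not_T_le h fun x hx => ?_
    rw [inv_inv]
    have hgx : g * x * g⁻¹ ∈ X := X.mul_mem (X.mul_mem hgX (hTX hx)) (X.inv_mem hgX)
    refine h.centZ _ (h.Tsq d hd.1) hdc _ hgx ((comm_conj_right h hgX).1 ?_)
    rw [show g⁻¹ * (d * d) * g = d₀ * d₀ by simp only [hd₀]; group]
    set y := ⁅x, d₀⁆
    have hy : y ∈ T := Line.comm_T h hd₀M hx
    -- `[y, d₀]` is central
    have hyd : ⁅y, d₀⁆ ∈ centralizer (X : Set Γ) := by
      have h1 : ⁅y, d₀⁆ ∈ Z := by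
        have hsqy : y * y ∈ Z := h.Tsq y hy
        have hfl := hflip x hx
        have e : ⁅y, d₀⁆ = (y * y) * (d₀ * y * d₀⁻¹ * y)⁻¹ := by
          simp only [commutatorElement_def]; group
        rw [e]
        exact mul_mem hsqy (inv_mem hfl)
      set y' := g * y * g⁻¹
      have hy' : y' ∈ cj g E₀ := conj_mem_cj (hdE x hx)
      have e : g * ⁅y, d₀⁆ * g⁻¹ = ⁅y', d⁆ := by
        simp only [hd₀, y', commutatorElement_def]; group
      have h2 : ⁅y', d⁆ ∈ Z' := e ▸ conj_mem_cj h1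
      have h3 : ⁅y', d⁆ ∈ Z := by
        rw [← commutatorElement_inv]; exact inv_mem (hfixE y' hy' d hd.1)
      have h4 := hA.meet_CX h h3 h2
      rwa [← e, conjg_mem_CX h hgX] at h4
    have e : ⁅x, d₀ * d₀⁆ = y * (⁅d₀, y⁆ * y) := by
      simp only [y, commutatorElement_def]; group
    rw [e, ← mul_assoc, Line.cenX h (Line.comm_swap h hyd) (hTX hy), mul_assoc]
    exact mul_mem (Line.comm_swap h hyd) (hsq x hx)
  have hDc := comm_of_sq h hDsq
  -- `D` is invariant
  have haD : a ∈ normalizer (D : Set Γ) := by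
    by_contra haD
    let TT : Subgroup Γ :=
      { carrier := {x | x ∈ T ∧ ∃ u ∈ Z', ∃ c ∈ fixA X a, c ∈ normalizer (T : Set Γ) ∧
          ∃ z ∈ Z, u = c * (x * z)}
        one_mem' := ⟨one_mem _, 1, one_mem _, 1, one_mem _, one_mem _, 1, one_mem _, by simp⟩
        mul_mem' := by
          rintro x y ⟨hx, u, hu, c, hc, hcN, z, hz, rfl⟩ ⟨hy, u', hu', c', hc', hcN', z', hz', rfl⟩
          have hO := ((hxτ _ hu' c' hc' _ (mul_mem hy hz'.1) hcN' rfl (x * z) (mul_mem hx hz.1)).2)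
          refine ⟨mul_mem hx hy, _, mul_mem hu hu', c * c', mul_mem hc hc', mul_mem hcN hcN',
            z * z' * ⁅(x * z)⁻¹, c'⁻¹⁆, ?_, ?_⟩
          · refine mul_mem (mul_mem hz hz') ?_
            have e : ⁅(x * z)⁻¹, c'⁻¹⁆ = (c' * (x * z))⁻¹ * ⁅x * z, c'⁆ * (c' * (x * z)) := by
              simp only [commutatorElement_def]; group
            rw [e]
            have h1 := conj_CX h hO.2
              (X.inv_mem (X.mul_mem hc'.1 (hTX (mul_mem hx hz.1))))
            rw [inv_inv] at h1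
            rw [h1]
            exact hO.1
          · have e : c * (x * z) * (c' * (y * z')) =
                c * c' * ((c'⁻¹ * (x * z) * c') * (y * z')) := by group
            rw [e]
            congr 1
            set xz := x * z with hxz
            have hxzT : xz ∈ T := mul_mem hx hz.1
            set k := ⁅xz⁻¹, c'⁻¹⁆ with hk
            have hkZ : k ∈ Z := by
              have e' : k = (c' * xz)⁻¹ * ⁅xz, c'⁆ * (c' * xz) := by
                simp only [hk, commutatorElement_def]; group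
              rw [e']
              have h1 := conj_CX h hO.2 (X.inv_mem (X.mul_mem hc'.1 (hTX hxzT)))
              rw [inv_inv] at h1
              rw [h1]
              exact hO.1
            have e2 : c'⁻¹ * xz * c' = xz * k := by
              simp only [hk, commutatorElement_def]; group
            rw [e2, hxz]
            calc x * z * k * (y * z') = x * (z * k) * (y * z') := by group
              _ = x * (z * k * y) * z' := by group
              _ = x * (y * (z * k)) * z' := by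
                  rw [← Line.cenT h (mul_mem hz hkZ) hy]
              _ = x * y * (z * (k * z')) := by group
              _ = x * y * (z * z' * k) := by
                  rw [Line.cenT h hz' hkZ.1]; group
        inv_mem' := by
          rintro x ⟨hx, u, hu, c, hc, hcN, z, hz, rfl⟩
          have hxx : x⁻¹ = x * (x * x)⁻¹ := by group
          refine ⟨inv_mem hx, _, hu, c, hc, hcN, z * (x * x), mul_mem hz (h.Tsq x hx), ?_⟩
          rw [Line.cenT h (h.Tsq x hx) hz.1]
          group }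
    have hTT_T : TT ≤ T := fun x hx => hx.1
    have hZTT : Z ≤ TT := fun z hz => ⟨hz.1, 1, one_mem _, 1, one_mem _, one_mem _, z, hz, by
      rw [h.Zexp z hz, mul_one]⟩
    have hTTD : ∀ x ∈ TT, x ∉ Z →
        x ∈ D ∧ ∀ y ∈ T, (y ∈ D ↔ ⁅y, x⁆ ∈ centralizer (X : Set Γ)) := by
      rintro x ⟨hx, u, hu, c, hc, hcN, z, hz, hu'⟩ hxZ
      have hxz : x * z ∉ Z := fun hxz => hxZ ((mul_mem_cancel_right hz).1 hxz)
      obtain ⟨h1, h2⟩ := hτD u hu c hc (x * z) (mul_mem hx hz.1) hcN hu' hxz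
      refine ⟨by simpa using mul_mem h1 (inv_mem (hZD hz)), fun y hy => ?_⟩
      rw [h2 y hy, bil_right h hy hx hz.1, comm_Z_right h hy hz, mul_one]
    have hTTle : TT ≤ D := fun x hx => by
      by_cases hxZ : x ∈ Z
      · exact hZD hxZ
      · exact (hTTD x hx hxZ).1
    -- counting
    obtain ⟨c₀, hc₀, τ₀, hτ₀, hc₀N, hu₀e, -⟩ :=
      decomp h (Z'_X h hgX (conj_mem_cj hv : g * v * g⁻¹ ∈ Z')) (hA.left v hv)
    have hτ₀Z := hτne _ (conj_mem_cj hv) (fun hc => hvc ((conjg_mem_CX h hgX).1 hc)) c₀ hc₀ τ₀ hτ₀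
      hc₀N hu₀e
    have hT_le := card_T_le h hDT hτ₀ fun x hx hxc =>
      ((hτD _ (conj_mem_cj hv) c₀ hc₀ τ₀ hτ₀ hc₀N hu₀e hτ₀Z).2 x hx).2 hxc
    set P := O.relIndex Z
    have hOZ : Nat.card O * P = Nat.card Z := relIndex_mul_card h inf_le_left
    have hTTcard : P * Nat.card Z ≤ Nat.card TT := by
      haveI : (Z.subgroupOf T).Normal :=
        normal_subgroupOf_of_le_normalizer (T_normalizes h inf_le_left le_rfl)
      have hex : ∀ u : Z', ∃ τ : T, ∃ c ∈ fixA X a, c ∈ normalizer (T : Set Γ) ∧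
          (u : Γ) = c * τ := fun u => by
        obtain ⟨c, hc, τ, hτ, hcN, e, -⟩ := decomp h (Z'_X h hgX u.2) (hZ'N u.2)
        exact ⟨⟨τ, hτ⟩, c, hc, hcN, e⟩
      choose τf cf hcf hcfN hef using hex
      have huniq : ∀ (u : Z') (τ : T) (c : Γ), c ∈ fixA X a → (u : Γ) = c * τ →
          (τf u : T ⧸ Z.subgroupOf T) = τ := fun u τ c hc e => by
        rw [QuotientGroup.eq, mem_subgroupOf]
        exact hTTinj (hcf u) hc (τf u).2 τ.2 ((hef u).symm.trans e)
      let f : Z' →* T ⧸ Z.subgroupOf T :=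
        MonoidHom.mk' (fun u => (τf u : T ⧸ Z.subgroupOf T)) fun u u' => by
          have hO := (hxτ u' u'.2 (cf u') (hcf u') (τf u') (τf u').2 (hcfN u') (hef u')
            (τf u) (τf u).2).2
          have hO' : ⁅(τf u : Γ)⁻¹, (cf u')⁻¹⁆ ∈ Z := by
            have e : ⁅(τf u : Γ)⁻¹, (cf u')⁻¹⁆ =
                (cf u' * (τf u : Γ))⁻¹ * ⁅(τf u : Γ), cf u'⁆ * (cf u' * (τf u : Γ)) := by
              simp only [commutatorElement_def]; group
            rw [e]
            have h1 := conj_CX h hO.2 (X.inv_mem (X.mul_mem (hcf u').1 (hTX (τf u).2)))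
            rw [inv_inv] at h1
            rw [h1]
            exact hO.1
          have hconj : (cf u')⁻¹ * (τf u : Γ) * cf u' ∈ T := conj_mem' (hcfN u') (τf u).2
          rw [← QuotientGroup.mk_mul,
            huniq (u * u') (⟨_, hconj⟩ * τf u') (cf u * cf u') (mul_mem (hcf u) (hcf u')) (by
              push_cast; rw [hef u, hef u']; group)]
          rw [QuotientGroup.eq, mem_subgroupOf]
          push_cast
          have e : ((cf u')⁻¹ * (τf u : Γ) * cf u' * (τf u' : Γ))⁻¹ * ((τf u : Γ) * (τf u' : Γ)) =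
              (τf u' : Γ)⁻¹ * ⁅(τf u : Γ)⁻¹, (cf u')⁻¹⁆⁻¹ * (τf u' : Γ) := by
            simp only [commutatorElement_def]; group
          rw [e, mul_assoc, ← Line.cenT h (inv_mem hO') (τf u').2, inv_mul_cancel_left]
          exact inv_mem hO'
      have hker : Nat.card f.ker ≤ Nat.card O := by
        rw [← card_map_of_injective (K := f.ker) Z'.subtype_injective]
        refine card_le_of_le ?_
        rintro _ ⟨u, hu, rfl⟩
        rw [SetLike.mem_coe, MonoidHom.mem_ker, MonoidHom.mk'_apply, QuotientGroup.eq_one_iff,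
          mem_subgroupOf] at hu
        have huc : (u : Γ) ∈ centralizer (X : Set Γ) := by
          by_contra huc
          exact hτne _ u.2 huc _ (hcf u) _ (τf u).2 (hcfN u) (hef u) hu
        refine ⟨?_, huc⟩
        have h1 := mem_cj.1 u.2
        rw [show g⁻¹ * (u : Γ) * g = u by simpa using conj_CX h huc (inv_mem hgX)] at h1
        exact h1
      have hran : Nat.card f.range ≤ Z.relIndex TT := by
        rw [← Gen.card_map_mk (K := Z) (L := T) hTT_T]
        refine card_le_of_le ?_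
        rintro _ ⟨u, rfl⟩
        exact ⟨τf u, ⟨(τf u).2, u, u.2, cf u, hcf u, hcfN u, 1, one_mem _, by
          rw [mul_one]; exact hef u⟩, rfl⟩
      have h1 : Nat.card Z ≤ Nat.card O * Z.relIndex TT := by
        rw [← card_cj g Z, ← card_mul_index f.ker, index_ker]
        exact Nat.mul_le_mul hker hran
      rw [← hOZ] at h1
      have h2 := Nat.le_of_mul_le_mul_left h1 Nat.card_pos
      rw [← relIndex_mul_card h hZTT, mul_comm]
      exact Nat.mul_le_mul_left _ h2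
    set L₁ := cj a D with hL₁
    have hL₁T : L₁ ≤ T := fun x hx => by
      have := conj_mem h.aT (hDT (mem_cj.1 hx))
      simpa [mul_assoc] using this
    have hZL₁ : Z ≤ L₁ := fun z hz => by
      rw [mem_cj]
      have : a⁻¹ * z * a = z := by rw [mul_assoc, ← h.a_cen hz, inv_mul_cancel_left]
      rw [this]
      exact hZD hz
    have hL₁sq : ∀ x ∈ L₁, x * x ∈ centralizer (X : Set Γ) := by
      intro x hx
      have h1 := conj_mem (FlavellFrame20.inv_centralizer h.aX) (hDsq _ (mem_cj.1 hx))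
      rwa [show a * (a⁻¹ * x * a * (a⁻¹ * x * a)) * a⁻¹ = x * x by group] at h1
    have hL₁c := comm_of_sq h hL₁sq
    set I := D ⊓ L₁
    have hI_TT : I ⊓ TT = Z := by
      refine le_antisymm (fun x hx => ?_) (le_inf (le_inf hZD hZL₁) hZTT)
      by_contra hxZ
      obtain ⟨-, hiff⟩ := hTTD x hx.2 hxZ
      have hle : L₁ ≤ D := fun y hy => (hiff y (hL₁T hy)).2 (hL₁c y hy x hx.1.2)
      exact haD (FlavellFrame20.mem_normalizer_of_map_le hle)
    have hsupI : Nat.card I * P ≤ Nat.card (I ⊔ TT : Subgroup Γ) := by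
      have h1 := OffendersReplace.card_sup_mul_card_inf TT I
        ((hTT_T.trans (T_normalizes h (inf_le_left.trans hDT) (le_inf hZD hZL₁))))
      rw [inf_comm, hI_TT, sup_comm] at h1
      refine Nat.le_of_mul_le_mul_right ?_ (Nat.card_pos (α := Z))
      rw [h1, mul_assoc]
      calc Nat.card I * (P * Nat.card Z) ≤ Nat.card I * Nat.card TT :=
            Nat.mul_le_mul_left _ hTTcard
        _ = Nat.card TT * Nat.card I := mul_comm _ _
        _ ≤ _ := le_of_eq (by ring)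
    have hsupIle : I ⊔ TT ≤ D := sup_le inf_le_left hTTle
    have hDI : Nat.card I * P ≤ Nat.card D := hsupI.trans (card_le_of_le hsupIle)
    have hsupD := OffendersReplace.card_sup_mul_card_inf L₁ D
      (hL₁T.trans (T_normalizes h hDT hZD))
    rw [inf_comm, card_cj, sup_comm] at hsupD
    have hsupT : D ⊔ L₁ ≤ T := sup_le hDT hL₁T
    have hcardDT := card_le_of_le hsupT
    have hP0 : 0 < P := Nat.pos_of_ne_zero fun h0 => by
      rw [h0, mul_zero] at hOZ
      exact (Nat.card_pos (α := Z)).ne' hOZ.symm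
    have hDeq : I ⊔ TT = D := by
      refine eq_of_le_of_card_ge hsupIle ?_
      have h1 : Nat.card D * Nat.card D ≤ Nat.card D * P * Nat.card I := by
        calc Nat.card D * Nat.card D = Nat.card (D ⊔ L₁ : Subgroup Γ) * Nat.card I := hsupD.symm
          _ ≤ Nat.card D * P * Nat.card I :=
            Nat.mul_le_mul_right _ (hcardDT.trans hT_le)
      rw [mul_assoc] at h1
      have h2 := Nat.le_of_mul_le_mul_left h1 Nat.card_pos
      rw [mul_comm] at h2
      exact h2.trans hsupI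
    have hTeq : D ⊔ L₁ = T := by
      refine eq_of_le_of_card_ge hsupT ?_
      refine Nat.le_of_mul_le_mul_right ?_ (Nat.card_pos (α := I))
      calc Nat.card T * Nat.card I ≤ Nat.card D * P * Nat.card I := Nat.mul_le_mul_right _ hT_le
        _ = Nat.card D * (Nat.card I * P) := by ring
        _ ≤ Nat.card D * Nat.card D := Nat.mul_le_mul_left _ hDI
        _ = _ := hsupD.symm
    -- singular elements lie in `D ∪ L₁`
    have hsing : ∀ s ∈ T, s * s ∈ centralizer (X : Set Γ) → s ∈ D ∨ s ∈ L₁ := by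
      intro s hs hs2
      rw [← hTeq, sup_comm, ← SetLike.mem_coe, coe_mul_of_left_le_normalizer_right L₁ D
        (hL₁T.trans (T_normalizes h hDT hZD))] at hs
      obtain ⟨x, hx, d, hd, rfl⟩ := hs
      have hd' : d ∈ (↑(I ⊔ TT) : Set Γ) := by rw [hDeq]; exact hd
      rw [coe_mul_of_left_le_normalizer_right I TT
        ((inf_le_left.trans hDT).trans (T_normalizes h hTT_T hZTT))] at hd'
      obtain ⟨l, hl, τ, hτ, rfl⟩ := hd'
      simp only at hs2 ⊢
      rw [show x * (l * τ) = x * l * τ from (mul_assoc x l τ).symm] at hs2 ⊢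
      by_cases hτZ : τ ∈ Z
      · exact Or.inr (mul_mem (mul_mem hx hl.2) (hZL₁ hτZ))
      have hxl : x * l ∈ L₁ := mul_mem hx hl.2
      obtain ⟨hτD', hiff⟩ := hTTD τ hτ hτZ
      rw [sq_mul h (hL₁T hxl) (hTT_T hτ)] at hs2
      have h1 : ⁅τ, x * l⁆ * (x * l * (x * l)) ∈ centralizer (X : Set Γ) :=
        (mul_mem_cancel_right (hDsq τ hτD')).1 hs2
      have h2 := Line.comm_swap h ((mul_mem_cancel_right (hL₁sq _ hxl)).1 h1)
      exact Or.inl (mul_mem ((hiff _ (hL₁T hxl)).2 h2) hτD')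
    have hL₂ : cj a L₁ ≤ D ∨ cj a L₁ ≤ L₁ := by
      have hall : ∀ y ∈ cj a L₁, y ∈ D ∨ y ∈ L₁ := by
        intro y hy
        have hy' := mem_cj.1 hy
        refine hsing y ?_ ?_
        · have := conj_mem h.aT (hL₁T hy')
          simpa [mul_assoc] using this
        · have h1 := conj_mem (FlavellFrame20.inv_centralizer h.aX) (hL₁sq _ hy')
          rwa [show a * (a⁻¹ * y * a * (a⁻¹ * y * a)) * a⁻¹ = y * y by group] at h1
      by_contra hno
      push Not at hno
      obtain ⟨h1, h2⟩ := hno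
      obtain ⟨y₁, hy₁, hy₁D⟩ := SetLike.not_le_iff_exists.1 h1
      obtain ⟨y₂, hy₂, hy₂L⟩ := SetLike.not_le_iff_exists.1 h2
      have hy₁L := (hall y₁ hy₁).resolve_left hy₁D
      have hy₂D := (hall y₂ hy₂).resolve_right hy₂L
      rcases hall _ (mul_mem hy₁ hy₂) with h3 | h3
      · exact hy₁D ((mul_mem_cancel_right hy₂D).1 h3)
      · exact hy₂L ((mul_mem_cancel_left hy₁L).1 h3)
    rcases hL₂ with h1 | h1
    · refine haD (norm_of_sq h (FlavellFrame20.mem_normalizer_of_map_le ?_))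
      change cj (a * a) D ≤ D
      rw [cj_mul]
      exact h1
    · have h2 : cj a L₁ = L₁ := eq_of_le_of_card_ge h1 (card_cj _ _).ge
      exact haD (FlavellFrame20.mem_normalizer_of_map_le (cj_inj h2).le)
  -- `D` fixes `T' / Z'`
  have hfixD : ∀ d ∈ D, ∀ x ∈ cj g T, ⁅x, d⁆ ∈ Z' := by
    intro d hd x hx
    have hF : Side (X := X) (T := T) (a := a) g⁻¹ (cj g⁻¹ D) := by
      refine ⟨cj_mono _ hZD, cj_mono _ hDT, ?_, ?_, inv_cj haD, ?_⟩
      · intro e he
        have h1 := ((hDmem _).1 (mem_cj.1 he)).2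
        simpa [mul_assoc] using h1
      · intro e he
        have h1 := hDsq _ (mem_cj.1 he)
        rw [inv_inv] at h1
        rw [show g * e * g⁻¹ * (g * e * g⁻¹) = g * (e * e) * g⁻¹ by group,
          conjg_mem_CX h hgX] at h1
        exact h1
      · intro e he z hz
        have hd' := mem_cj.1 he
        rw [inv_inv] at hd'
        exact (comm_conj h hgX).1 (hDu _ hd' _ (conj_mem_cj hz))
    have h1 := hA.symm.no_mover h hF (w := g⁻¹ * d * g)
      (by rw [mem_cj]; simpa [mul_assoc] using hd) _ (mem_cj.1 hx)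
    rw [mem_cj]
    convert h1 using 1
    simp only [commutatorElement_def]; group
  set B := D ⊔ Z' with hB
  have hDn : D ≤ normalizer (Z' : Set Γ) := fun x hx => norm_Z' h ((hDmem x).1 hx).2
  have hB2 : IsPGroup 2 B := ((T2' h).to_le hDT).to_sup_of_normal_right' (two_cj h) hDn
  have hBX : B ≤ X := sup_le (hDT.trans hTX) fun y hy => Z'_X h hgX hy
  have haB : a ∈ normalizer (B : Set Γ) := by
    refine FlavellFrame20.mem_normalizer_of_map_le ?_
    rw [hB, Subgroup.map_sup]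
    refine sup_le ?_ ?_
    · rintro _ ⟨d, hd, rfl⟩
      exact mem_sup_left (conj_mem haD hd)
    · rintro _ ⟨u, hu, rfl⟩
      obtain ⟨c, hc, τ, hτ, hcN, hucτ, hau⟩ := decomp h (Z'_X h hgX hu) (hZ'N hu)
      show a * u * a⁻¹ ∈ D ⊔ Z'
      rw [hau]
      have hτD' : τ ∈ D := by
        by_cases hτZ : τ ∈ Z
        · exact hZD hτZ
        · exact (hτD u hu c hc τ hτ hcN hucτ hτZ).1
      exact mul_mem (mem_sup_right hu) (mem_sup_left (mul_mem (inv_mem hτD') (conj_mem haD hτD')))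
  have hT : T ≤ normalizer (B : Set Γ) := by
    intro x hx
    refine FlavellFrame20.mem_normalizer_of_map_le ?_
    rw [hB, Subgroup.map_sup]
    refine sup_le ?_ ?_
    · rintro _ ⟨d, hd, rfl⟩
      exact mem_sup_left (conj_mem (T_normalizes h hDT hZD hx) hd)
    · rintro _ ⟨u, hu, rfl⟩
      show x * u * x⁻¹ ∈ D ⊔ Z'
      rw [conj_eq_comm_mul h]
      exact mul_mem (mem_sup_left (hZD (hA.fix h hu x hx))) (mem_sup_right hu)
  have hT' : cj g T ≤ normalizer (B : Set Γ) := by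
    intro x hx
    refine FlavellFrame20.mem_normalizer_of_map_le ?_
    rw [hB, Subgroup.map_sup]
    refine sup_le ?_ ?_
    · rintro _ ⟨d, hd, rfl⟩
      show x * d * x⁻¹ ∈ D ⊔ Z'
      rw [conj_eq_comm_mul h]
      exact mul_mem (mem_sup_right (hfixD d hd x hx)) (mem_sup_left hd)
    · rintro _ ⟨u, hu, rfl⟩
      show x * u * x⁻¹ ∈ D ⊔ Z'
      refine mem_sup_right (conj_mem ?_ hu)
      refine norm_Z' h (le_normalizer (mem_cj.1 hx))
  exact hvc ((conjg_mem_CX h hgX).1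
    (hA.common h hBX haB hB2 hT hT' (mem_sup_right (conj_mem_cj hv))))

/-- A conjugate of a non-central element of `cen T` in `N(T)` comes from `N(T)`. -/
theorem strong {v : Γ} (hv : v ∈ cen T) (hvc : v ∉ centralizer (X : Set Γ)) (hg : g ∈ X)
    (hu : g * v * g⁻¹ ∈ normalizer (T : Set Γ)) :
    g ∈ normalizer (T : Set Γ) ∧ g * v * g⁻¹ ∈ cen T := by
  have hgN : g ∈ normalizer (T : Set Γ) := by
    by_contra hgN
    exact (caseA_of h hg hgN hv hvc hu).false h
  exact ⟨hgN, Line.norm_cen h hgN hv⟩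

end Cfsg.Agent.Flavell8.Gen.ClosedProof

namespace Cfsg.Agent.Flavell8.Gen

universe u

/-- `cen T` is strongly closed modulo the centre of `X`. -/
theorem closed {Γ : Type u} [Group Γ] [Finite Γ] {p r n : ℕ} {V X S W T : Subgroup Γ} {a : Γ}
    (h : Frame p r n V X S W T a) : Closed p r n V X S W T a :=
  { toFrame := h
    strong := fun _v hv hvc _g hg hu => ClosedProof.strong h hv hvc hg hu }

end Cfsg.Agent.Flavell8.Gen
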