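import Mathlib
import Cfsg.Agent.Lib.CoprimeAction
import Cfsg.Agent.Lib.FlavellGen8Setup

/-!
Piece D of the coprime action theorem (`Flavell8.Gen`), first part: elementary consequences of the
strong closure of `Z = cen T`: products of two conjugates, transitivity of `C ∩ M` on `Z`.
-/

set_option autoImplicit false
set_option linter.unusedSectionVars false
set_option linter.style.haveILetI false
set_option linter.unusedVariables false

open scoped commutatorElement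

namespace Cfsg.Agent.Flavell8.Gen.CoreD

open Subgroup Cfsg.Agent.CoprimeAction

universe u

variable {Γ : Type u} [Group Γ]

/-- `u` is conjugate in `X` to a non-trivial element of `cen T`. -/
def IsK (X T : Subgroup Γ) (u : Γ) : Prop := u ≠ 1 ∧ ∃ g ∈ X, g * u * g⁻¹ ∈ cen T

/-- `M = N_X(T)`. -/
abbrev MM (X T : Subgroup Γ) : Subgroup Γ := X ⊓ normalizer (T : Set Γ)

/-- the centre of `X`. -/
abbrev YY (X : Subgroup Γ) : Subgroup Γ := X ⊓ centralizer (X : Set Γ)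

theorem inv_conj_of_inverted {d u j : Γ} (h : u * d * u⁻¹ = d⁻¹) (hj : j ∈ zpowers d) :
    u * j * u⁻¹ = j⁻¹ := by
  obtain ⟨i, rfl⟩ := mem_zpowers_iff.1 hj
  rw [← conj_zpow, h, inv_zpow]

theorem mul_inverted {u u' : Γ} (hu : u * u = 1) (hu' : u' * u' = 1) :
    u * (u * u') * u⁻¹ = (u * u')⁻¹ := by
  rw [mul_inv_rev, inv_eq_of_mul_eq_one_right hu, inv_eq_of_mul_eq_one_right hu', ← mul_assoc, hu,
    one_mul]

theorem mul_inverted' {u u' : Γ} (hu : u * u = 1) (hu' : u' * u' = 1) :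
    u' * (u * u') * u'⁻¹ = (u * u')⁻¹ := by
  rw [mul_inv_rev, inv_eq_of_mul_eq_one_right hu, inv_eq_of_mul_eq_one_right hu', mul_assoc,
    mul_assoc u, hu', mul_one]

/-- two involutions with product of odd order are conjugate. -/
theorem conj_of_odd {u u' : Γ} (hu : u * u = 1) (hu' : u' * u' = 1) (h : Odd (orderOf (u * u'))) :
    ∃ e ∈ zpowers (u * u'), e * u * e⁻¹ = u' := by
  obtain ⟨k, hk⟩ := h
  set d := u * u' with hd
  have hinv : u * d * u⁻¹ = d⁻¹ := mul_inverted hu hu'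
  refine ⟨(d ^ (k + 1))⁻¹, inv_mem (pow_mem (mem_zpowers d) _), ?_⟩
  have h1 : u * d ^ (k + 1) * u⁻¹ = (d ^ (k + 1))⁻¹ :=
    inv_conj_of_inverted hinv (pow_mem (mem_zpowers d) _)
  rw [inv_inv]
  calc (d ^ (k + 1))⁻¹ * u * d ^ (k + 1) = u * d ^ (k + 1) * u⁻¹ * u * d ^ (k + 1) := by rw [h1]
    _ = u * (d ^ (k + 1) * d ^ (k + 1)) := by group
    _ = u * d ^ (orderOf d + 1) := by rw [← pow_add, hk]; congr 2; omega
    _ = u * d := by rw [pow_add, pow_orderOf_eq_one, one_mul, pow_one]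
    _ = u' := by rw [hd, ← mul_assoc, hu, one_mul]

variable [Finite Γ]

/-- An element conjugating a finite subgroup into itself normalises it. -/
theorem mem_normalizer_of_forward {H : Subgroup Γ} {a : Γ} (h : ∀ x ∈ H, a * x * a⁻¹ ∈ H) :
    a ∈ normalizer (H : Set Γ) := by
  have hk : ∀ k : ℕ, ∀ x ∈ H, a ^ k * x * (a ^ k)⁻¹ ∈ H := by
    intro k
    induction k with
    | zero => simp
    | succ k ih =>
      intro x hx
      have := h _ (ih x hx)
      rw [pow_succ', mul_inv_rev]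
      simpa only [mul_assoc] using this
  rw [mem_normalizer_iff]
  intro x
  refine ⟨h x, fun hx => ?_⟩
  have h1 := hk (orderOf a - 1) _ hx
  have h2 : a ^ (orderOf a - 1) * a = 1 := by
    rw [← pow_succ, Nat.sub_add_cancel (orderOf_pos a), pow_orderOf_eq_one]
  have h3 : a ^ (orderOf a - 1) = a⁻¹ := eq_inv_of_mul_eq_one_left h2
  rw [h3] at h1
  simpa [mul_assoc] using h1

/-- A non-trivial element of `H` has a power of prime order. -/
theorem exists_prime_pow {d : Γ} (hd : d ≠ 1) :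
    ∃ (l k : ℕ), l.Prime ∧ l ∣ orderOf d ∧ orderOf (d ^ k) = l := by
  have h1 : orderOf d ≠ 1 := fun h => hd (orderOf_eq_one_iff.1 h)
  refine ⟨(orderOf d).minFac, orderOf d / (orderOf d).minFac, Nat.minFac_prime h1,
    Nat.minFac_dvd _, ?_⟩
  rw [orderOf_pow_of_dvd]
  · exact Nat.div_div_self (Nat.minFac_dvd _) (orderOf_pos d).ne'
  · exact (Nat.div_pos (Nat.minFac_le (orderOf_pos d)) (Nat.minFac_pos _)).ne'
  · exact Nat.div_dvd_of_dvd (Nat.minFac_dvd _)

/-- `Closed` when no non-trivial element of `cen T` is central in `X`. -/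
structure Clean (p r n : ℕ) (V X S W T : Subgroup Γ) (a : Γ) : Prop extends
    Closed p r n V X S W T a where
  notCentral : ∀ v ∈ cen T, v ≠ 1 → v ∉ centralizer (X : Set Γ)

variable {p r n : ℕ} {V X S W T : Subgroup Γ} {a : Γ}

/-- strong closure of `Z` when it meets the centre of `X` trivially. -/
theorem Clean.strong₁ (h : Clean p r n V X S W T a) {v : Γ} (hv : v ∈ cen T) (hv1 : v ≠ 1) {g : Γ}
    (hg : g ∈ X) (hgn : g * v * g⁻¹ ∈ normalizer (T : Set Γ)) :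
    g ∈ normalizer (T : Set Γ) ∧ g * v * g⁻¹ ∈ cen T :=
  h.strong v hv (h.notCentral v hv hv1) g hg hgn

theorem Clean.centZ₁ (h : Clean p r n V X S W T a) {v : Γ} (hv : v ∈ cen T) (hv1 : v ≠ 1) :
    X ⊓ centralizer ({v} : Set Γ) ≤ normalizer (T : Set Γ) := by
  intro g hg
  refine h.centZ v hv (h.notCentral v hv hv1) g hg.1 ?_
  rw [commutatorElement_eq_one_iff_mul_comm.2 (mem_centralizer_singleton_iff.1 hg.2)]
  exact one_mem _

theorem Clean.noniso₁ (h : Clean p r n V X S W T a) {v : Γ} (hv : v ∈ cen T) (hv1 : v ≠ 1) :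
    ∃ g ∈ X, g * v * g⁻¹ ≠ v ∧ v * (g * v * g⁻¹) = g * v * g⁻¹ * v := by
  obtain ⟨g, hg, hne, hc⟩ := h.noniso v hv (h.notCentral v hv hv1)
  have hvX : v ∈ X := (h.TW.trans h.WX) hv.1
  refine ⟨g, hg, fun e => hne ?_, ?_⟩
  · rw [commutatorElement_eq_one_iff_mul_comm.2 (mul_inv_eq_iff_eq_mul.1 e)]
    exact one_mem _
  have hwX : g * v * g⁻¹ ∈ X := mul_mem (mul_mem hg hvX) (inv_mem hg)
  have hw : g * v * g⁻¹ ∈ normalizer (T : Set Γ) := by
    refine h.centZ v hv (h.notCentral v hv hv1) _ hwX ?_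
    rw [← commutatorElement_inv]
    exact inv_mem hc
  exact (mem_centralizer_iff.1 (h.strong₁ hv hv1 hg hw).2.2 v hv.1)

section FrameFacts

variable (h : Frame p r n V X S W T a)
include h

theorem TX : T ≤ X := h.TW.trans h.WX

theorem T_le_MM : T ≤ MM X T := le_inf (TX h) le_normalizer

theorem cen_comm {z t : Γ} (hz : z ∈ cen T) (ht : t ∈ T) : t * z = z * t :=
  mem_centralizer_iff.1 hz.2 t ht

theorem cen_fix {z : Γ} (hz : z ∈ cen T) : a * z = z * a := by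
  have h1 : z ∈ T ⊓ centralizer ({a} : Set Γ) := by rw [h.Tfix]; exact hz
  exact mem_centralizer_singleton_iff.1 h1.2 |>.symm

theorem cen_conj_t {z t : Γ} (hz : z ∈ cen T) (ht : t ∈ T) : t * z * t⁻¹ = z := by
  rw [cen_comm h hz ht, mul_inv_cancel_right]

theorem cen_inv {z : Γ} (hz : z ∈ cen T) : z⁻¹ = z :=
  inv_eq_of_mul_eq_one_right (h.Zexp z hz)

theorem cen_le_fixA : cen T ≤ fixA X a := fun z hz =>
  ⟨TX h hz.1, mem_centralizer_singleton_iff.2 (cen_fix h hz).symm⟩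

theorem conj_cen {m z : Γ} (hm : m ∈ normalizer (T : Set Γ)) (hz : z ∈ cen T) :
    m * z * m⁻¹ ∈ cen T := by
  refine ⟨(mem_normalizer_iff.1 hm z).1 hz.1, mem_centralizer_iff.2 fun t ht => ?_⟩
  have h1 : m⁻¹ * t * m ∈ T := conj_mem' hm ht
  have h2 := cen_comm h hz h1
  have h3 : m * (m⁻¹ * t * m * z) * m⁻¹ = m * (z * (m⁻¹ * t * m)) * m⁻¹ := by rw [h2]
  simpa [mul_assoc] using h3

theorem a_norm_MM : a ∈ normalizer (MM X T : Set Γ) :=
  inf_normalizer_le_normalizer_inf ⟨h.aX, le_normalizer h.aT⟩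

theorem coprime_a {H : Subgroup Γ} (hH : H ≤ X) : (orderOf a).Coprime (Nat.card H) := by
  rw [h.orda, h.hr.coprime_iff_not_dvd]
  exact fun hd => h.rX (hd.trans (card_dvd_of_le hH))

theorem comm_T_a : ⁅T, zpowers a⁆ = T := by
  conv_rhs => rw [h.Tgen]
  rw [h.Tgen]
  refine commutator_commutator_eq (by rw [zpowers_le]; exact h.aW) ?_
    (Or.inl (isSolvable_zpowers a))
  rw [Nat.card_zpowers]
  exact coprime_a h h.WX

theorem cen_ne_T : cen T ≠ T := by
  intro hc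
  apply h.Tne
  rw [← comm_T_a h, commutator_eq_bot_iff_le_centralizer]
  intro t ht
  rw [mem_centralizer_iff]
  intro b hb
  rw [← hc] at ht
  obtain ⟨i, rfl⟩ := mem_zpowers_iff.1 hb
  exact (Commute.zpow_left (cen_fix h ht) i)

theorem exists_notMem_cen : ∃ t ∈ T, t ∉ cen T := by
  by_contra hc
  push Not at hc
  exact cen_ne_T h (le_antisymm inf_le_left hc)

theorem exists_cen_ne_one : ∃ v ∈ cen T, v ≠ 1 := by
  by_contra hc
  push Not at hc
  apply cen_ne_T h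
  refine le_antisymm inf_le_left fun x hx => ⟨hx, mem_centralizer_iff.2 fun t ht => ?_⟩
  have h1 : ⁅t, x⁆ = 1 := hc _ (h.Tcomm (commutator_mem_commutator ht hx))
  exact commutatorElement_eq_one_iff_mul_comm.1 h1

theorem cen_two : IsPGroup 2 (cen T : Subgroup Γ) :=
  h.W2.to_le (inf_le_left.trans h.TW)

theorem exists_notMem_norm : ∃ g ∈ X, g ∉ normalizer (T : Set Γ) := by
  by_contra hc
  push Not at hc
  exact h.Mne (inf_eq_left.2 hc)

/-- every `2`-subgroup of `X` is conjugate into `W`. -/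
theorem conj_into_W {P : Subgroup Γ} (hP : P ≤ X) (h2 : IsPGroup 2 P) :
    ∃ g ∈ X, ∀ x ∈ P, g * x * g⁻¹ ∈ W := by
  haveI : Fact (Nat.Prime 2) := ⟨Nat.prime_two⟩
  have haX : zpowers a ≤ normalizer (X : Set Γ) := by rw [zpowers_le]; exact h.aX
  have hco : (Nat.card (zpowers a)).Coprime (Nat.card X) := by
    rw [Nat.card_zpowers]; exact coprime_a h le_rfl
  obtain ⟨Q, hQ⟩ := exists_invariant_sylow haX hco (Or.inl (isSolvable_zpowers a)) 2
  obtain ⟨Q1, hQ1⟩ := (h2.comap_of_injective X.subtype X.subtype_injective).exists_le_sylow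
  obtain ⟨k, hk⟩ := MulAction.exists_smul_eq X Q1 Q
  obtain ⟨c, hc, hcW⟩ := h.inv2 ((Q : Subgroup X).map X.subtype) (map_subtype_le _)
    (hQ (mem_zpowers a)) (Q.2.map _)
  refine ⟨c⁻¹ * k, mul_mem (inv_mem hc.1) k.2, fun x hx => ?_⟩
  have h1 : (⟨x, hP hx⟩ : X) ∈ (Q1 : Subgroup X) := hQ1 hx
  have h2 : k * ⟨x, hP hx⟩ * k⁻¹ ∈ (Q : Subgroup X) := by
    rw [← hk]
    exact ⟨_, h1, rfl⟩
  have h3 := hcW (mem_map_of_mem _ h2)
  obtain ⟨w, hw, hwe⟩ := h3
  have h4 : (w : Γ) = c⁻¹ * (k * x * (k : Γ)⁻¹) * c := by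
    simp only [MulEquiv.coe_toMonoidHom, MulAut.conj_apply] at hwe
    rw [show (k : Γ) * x * (k : Γ)⁻¹ = c * w * c⁻¹ from by
      simpa using hwe.symm]
    group
  rw [h4] at hw
  simpa [mul_assoc] using hw

end FrameFacts

section ClosedFacts

variable (h : Clean p r n V X S W T a)
include h

theorem isK_mem {u : Γ} (hu : IsK X T u) : u ∈ X := by
  obtain ⟨-, g, hg, hgu⟩ := hu
  have := mul_mem (mul_mem (inv_mem hg) (TX h.toFrame hgu.1)) hg
  simpa [mul_assoc] using this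

theorem isK_sq {u : Γ} (hu : IsK X T u) : u * u = 1 := by
  obtain ⟨-, g, hg, hgu⟩ := hu
  have h1 := h.Zexp _ hgu
  rw [show g * u * g⁻¹ * (g * u * g⁻¹) = g * (u * u) * g⁻¹ by group] at h1
  exact conj_eq_one_iff.1 h1

theorem isK_inv {u : Γ} (hu : IsK X T u) : u⁻¹ = u :=
  inv_eq_of_mul_eq_one_right (isK_sq h hu)

theorem isK_conj {u y : Γ} (hu : IsK X T u) (hy : y ∈ X) : IsK X T (y * u * y⁻¹) := by
  obtain ⟨h1, g, hg, hgu⟩ := hu
  refine ⟨fun e => h1 (conj_eq_one_iff.1 e), g * y⁻¹, mul_mem hg (inv_mem hy), ?_⟩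
  simpa [mul_assoc] using hgu

theorem isK_cen {v : Γ} (hv : v ∈ cen T) (h1 : v ≠ 1) : IsK X T v :=
  ⟨h1, 1, one_mem _, by simpa using hv⟩

/-- the fusion property in the form used below. -/
theorem isK_point {u g x : Γ} (hu1 : u ≠ 1) (hg : g ∈ X) (hgu : g * u * g⁻¹ ∈ cen T) (hx : x ∈ X)
    (hxu : x * u * x⁻¹ ∈ normalizer (T : Set Γ)) :
    x * g⁻¹ ∈ normalizer (T : Set Γ) ∧ x * u * x⁻¹ ∈ cen T := by
  have h2 := h.strong₁ hgu (fun e => hu1 (conj_eq_one_iff.1 e)) (g := x * g⁻¹)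
    (mul_mem hx (inv_mem hg)) (by simpa [mul_assoc] using hxu)
  exact ⟨h2.1, by simpa [mul_assoc] using h2.2⟩

theorem isK_norm {u : Γ} (hu : IsK X T u) (hn : u ∈ normalizer (T : Set Γ)) : u ∈ cen T := by
  obtain ⟨h1, g, hg, hgu⟩ := hu
  simpa using (isK_point h h1 hg hgu (one_mem _) (by simpa using hn)).2

theorem conj_notMem {v g : Γ} (hv : v ∈ cen T) (h1 : v ≠ 1) (hg : g ∈ X)
    (hgn : g ∉ normalizer (T : Set Γ)) : g * v * g⁻¹ ∉ normalizer (T : Set Γ) :=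
  fun hc => hgn (h.strong₁ hv h1 hg hc).1

theorem commute_mem {u g y : Γ} (hu1 : u ≠ 1) (hg : g ∈ X) (hgu : g * u * g⁻¹ ∈ cen T)
    (hy : y ∈ X) (hc : y * u = u * y) : g * y * g⁻¹ ∈ normalizer (T : Set Γ) := by
  refine h.centZ₁ hgu (fun e => hu1 (conj_eq_one_iff.1 e))
    (mem_inf.2 ⟨mul_mem (mul_mem hg hy) (inv_mem hg), mem_centralizer_singleton_iff.2 ?_⟩)
  calc g * y * g⁻¹ * (g * u * g⁻¹) = g * (y * u) * g⁻¹ := by group
    _ = g * (u * y) * g⁻¹ := by rw [hc]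
    _ = _ := by group

theorem two_lt : 2 < Nat.card (cen T) := by
  haveI : Fact (Nat.Prime 2) := ⟨Nat.prime_two⟩
  obtain ⟨v, hv, hv1⟩ := exists_cen_ne_one h.toFrame
  have hne : Nat.card (cen T) ≠ 1 := by
    intro e
    exact hv1 ((mem_bot).1 ((eq_bot_of_card_eq _ e) ▸ hv))
  have h2 : Nat.card (cen T) ≠ 2 := by
    intro e
    obtain ⟨g, hg, hne', hcomm⟩ := h.noniso₁ hv hv1
    have hgn : g * v * g⁻¹ ∈ normalizer (T : Set Γ) := by
      have := commute_mem h (u := v) (g := 1) hv1 (one_mem _) (by simpa using hv)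
        (y := g * v * g⁻¹) (mul_mem (mul_mem hg (TX h.toFrame hv.1)) (inv_mem hg)) hcomm.symm
      simpa using this
    have hw : g * v * g⁻¹ ∈ cen T := isK_norm h (isK_conj h (isK_cen h hv hv1) hg) hgn
    obtain ⟨y, -, hy⟩ := (Nat.card_eq_two_iff' (1 : cen T)).1 e
    have e1 : (⟨_, hw⟩ : cen T) = y := hy _ (by
      simpa [Subtype.ext_iff, conj_eq_one_iff] using hv1)
    have e2 : (⟨_, hv⟩ : cen T) = y := hy _ (by simpa [Subtype.ext_iff] using hv1)
    exact hne' (congrArg Subtype.val (e1.trans e2.symm))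
  have := Nat.card_pos (α := cen T)
  omega

/-- If the product of two conjugates of elements of `Z` has even order, its involution is such a
conjugate too, belonging to the same conjugate of `Z` as the first one. -/
theorem even_conj {u u' : Γ} (hu : IsK X T u) (hu' : IsK X T u') (he : ¬ Odd (orderOf (u * u'))) :
    ∃ g ∈ X, ∃ j ∈ zpowers (u * u'), j ≠ 1 ∧ j * j = 1 ∧ g * u * g⁻¹ ∈ cen T ∧
      g * j * g⁻¹ ∈ cen T := by
  haveI : Fact (Nat.Prime 2) := ⟨Nat.prime_two⟩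
  set d := u * u' with hd
  have husq := isK_sq h hu
  have hinv : u * d * u⁻¹ = d⁻¹ := mul_inverted husq (isK_sq h hu')
  obtain ⟨k, m, hm, hkm⟩ := Nat.exists_eq_two_pow_mul_odd (orderOf_pos d).ne'
  have hdX : d ∈ X := mul_mem (isK_mem h hu) (isK_mem h hu')
  obtain ⟨i, hi⟩ := hm
  have hu'' : IsK X T (u * d ^ m) := by
    have h1 : u * d ^ m = (d ^ i)⁻¹ * u' * d ^ i := by
      have h2 : u * d ^ i * u⁻¹ = (d ^ i)⁻¹ := inv_conj_of_inverted hinv (pow_mem (mem_zpowers d) _)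
      rw [← h2, hi, show 2 * i + 1 = i + 1 + i by omega, pow_add, pow_succ]
      rw [show u' = u * d by rw [hd, ← mul_assoc, husq, one_mul]]
      group
    rw [h1]
    simpa using isK_conj h hu' (inv_mem (pow_mem hdX i))
  have hP : IsPGroup 2 (zpowers u ⊔ zpowers (d ^ m) : Subgroup Γ) := by
    refine IsPGroup.to_sup_of_normal_right' ?_ ?_ ?_
    · refine IsPGroup.of_card (n := 1) ?_
      rw [Nat.card_zpowers, pow_one]
      exact orderOf_eq_prime (by rw [pow_two, husq]) hu.1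
    · refine IsPGroup.of_card (n := k) ?_
      rw [Nat.card_zpowers, orderOf_pow_of_dvd (by omega) ⟨2 ^ k, by rw [hkm]; ring⟩, hkm,
        Nat.mul_div_cancel _ (by omega)]
    · rw [zpowers_le]
      refine mem_normalizer_of_forward fun x hx => ?_
      obtain ⟨l, rfl⟩ := mem_zpowers_iff.1 hx
      rw [← conj_zpow, inv_conj_of_inverted hinv (pow_mem (mem_zpowers d) _)]
      exact zpow_mem (inv_mem (mem_zpowers _)) l
  have hPX : (zpowers u ⊔ zpowers (d ^ m) : Subgroup Γ) ≤ X :=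
    sup_le (by rw [zpowers_le]; exact isK_mem h hu) (by rw [zpowers_le]; exact pow_mem hdX m)
  obtain ⟨g, hg, hgW⟩ := conj_into_W h.toFrame hPX hP
  have m1 : u ∈ (zpowers u ⊔ zpowers (d ^ m) : Subgroup Γ) := mem_sup_left (mem_zpowers u)
  have m2 : d ^ m ∈ (zpowers u ⊔ zpowers (d ^ m) : Subgroup Γ) := mem_sup_right (mem_zpowers _)
  have z1 : g * u * g⁻¹ ∈ cen T := isK_norm h (isK_conj h hu hg) (h.WT (hgW _ m1))
  have z2 : g * (u * d ^ m) * g⁻¹ ∈ cen T :=
    isK_norm h (isK_conj h hu'' hg) (h.WT (hgW _ (mul_mem m1 m2)))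
  have z3 : g * d ^ m * g⁻¹ ∈ cen T := by
    have := mul_mem (inv_mem z1) z2
    simpa [mul_assoc] using this
  rcases Nat.eq_zero_or_pos k with hk | hk
  · subst hk
    exact absurd (by rw [hkm, pow_zero, one_mul]; exact ⟨i, hi⟩) he
  have hzj := h.Zexp _ z3
  rw [show g * d ^ m * g⁻¹ * (g * d ^ m * g⁻¹) = g * (d ^ m * d ^ m) * g⁻¹ by group] at hzj
  refine ⟨g, hg, d ^ m, pow_mem (mem_zpowers d) m, ?_, conj_eq_one_iff.1 hzj, z1, z3⟩
  intro e
  have h1 := Nat.le_of_dvd (by omega) (orderOf_dvd_of_pow_eq_one e)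
  have h2 : 2 ≤ 2 ^ k := by
    calc 2 = 2 ^ 1 := rfl
      _ ≤ 2 ^ k := Nat.pow_le_pow_right (by omega) hk
  rw [hkm] at h1
  nlinarith

/-- the product of an element of `Z` and a conjugate outside `M` has odd order. -/
theorem odd_mul {v u : Γ} (hv : v ∈ cen T) (hv1 : v ≠ 1) (hu : IsK X T u)
    (hun : u ∉ normalizer (T : Set Γ)) : Odd (orderOf (u * v)) := by
  by_contra he
  obtain ⟨g, hg, j, hj, hj1, hjj, hgu, hgj⟩ := even_conj h hu (isK_cen h hv hv1) he
  have hvj : v * j * v⁻¹ = j := by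
    rw [inv_conj_of_inverted (mul_inverted' (isK_sq h hu) (h.Zexp v hv)) hj,
      inv_eq_of_mul_eq_one_right hjj]
  have hjX : j ∈ X := by
    obtain ⟨i, rfl⟩ := mem_zpowers_iff.1 hj
    exact zpow_mem (mul_mem (isK_mem h hu) (TX h.toFrame hv.1)) i
  have hjn : j ∈ normalizer (T : Set Γ) := h.centZ₁ hv hv1
    ⟨hjX, mem_centralizer_singleton_iff.2 (eq_mul_of_mul_inv_eq hvj).symm⟩
  have h1 := (isK_point h hj1 hg hgj (one_mem _) (by simpa using hjn)).1
  rw [one_mul] at h1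
  have h2 : u = g⁻¹ * (g * u * g⁻¹) * g⁻¹⁻¹ := by group
  exact hun (h2 ▸ le_normalizer (conj_cen h.toFrame h1 hgu).1)

/-- two conjugates outside `M` with product in `M` have product of odd order. -/
theorem odd_swap {u u' : Γ} (hu : IsK X T u) (hu' : IsK X T u') (hun : u ∉ normalizer (T : Set Γ))
    (hd : u * u' ∈ normalizer (T : Set Γ)) : Odd (orderOf (u * u')) := by
  by_contra he
  obtain ⟨g, hg, j, hj, hj1, -, hgu, hgj⟩ := even_conj h hu hu' he
  have hjn : j ∈ normalizer (T : Set Γ) := (zpowers_le.2 hd) hj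
  have h1 := (isK_point h hj1 hg hgj (one_mem _) (by simpa using hjn)).1
  rw [one_mul] at h1
  have h2 : u = g⁻¹ * (g * u * g⁻¹) * g⁻¹⁻¹ := by group
  exact hun (h2 ▸ le_normalizer (conj_cen h.toFrame h1 hgu).1)

/-- `C ∩ M` is transitive on `Z#`. -/
theorem cen_trans {v₁ v₂ : Γ} (h₁ : v₁ ∈ cen T) (h₁' : v₁ ≠ 1) (h₂ : v₂ ∈ cen T) (h₂' : v₂ ≠ 1) :
    ∃ c ∈ fixA X a, c ∈ normalizer (T : Set Γ) ∧ c * v₁ * c⁻¹ = v₂ := by
  obtain ⟨g, hg, hgn⟩ := exists_notMem_norm h.toFrame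
  have hu := isK_conj h (isK_cen h h₂ h₂') hg
  obtain ⟨e, he, hev⟩ := conj_of_odd (isK_sq h hu) (h.Zexp v₁ h₁)
    (odd_mul h h₁ h₁' hu (conj_notMem h h₂ h₂' hg hgn))
  have heX : e ∈ X := (zpowers_le.2 (mul_mem (isK_mem h hu) (TX h.toFrame h₁.1))) he
  have h4 : e * g * v₂ * (e * g)⁻¹ = v₁ := by rw [← hev]; group
  have hm : e * g ∈ MM X T := ⟨mul_mem heX hg, (h.strong₁ h₂ h₂' (g := e * g) (mul_mem heX hg)
    (h4.symm ▸ le_normalizer h₁.1)).1⟩
  obtain ⟨c, hc, t, ht, hcn, hct⟩ := h.Mdecomp _ hm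
  refine ⟨c⁻¹, inv_mem hc, inv_mem hcn, ?_⟩
  have h5 : c * (t * v₂ * t⁻¹) * c⁻¹ = v₁ := by rw [← h4, hct]; group
  rw [cen_conj_t h.toFrame h₂ ht] at h5
  rw [← h5]; group

end ClosedFacts

end Cfsg.Agent.Flavell8.Gen.CoreD
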