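import Mathlib
import Cfsg.Agent.Lib.FlavellGen8CoreBase

/-!
Piece D of the coprime action theorem (`Flavell8.Gen`): the forms on `T / Z`.  All radicals equal `Z`,
and the stabiliser in `C ∩ M` of a non-trivial element of `Z` centralises `T`.
-/

set_option autoImplicit false
set_option linter.unusedSectionVars false
set_option linter.style.haveILetI false
set_option linter.unusedVariables false

open scoped commutatorElement
open scoped Classical

namespace Cfsg.Agent.Flavell8.Gen.CoreD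

open Subgroup Cfsg.Agent.CoprimeAction

universe u

variable {Γ : Type u} [Group Γ] [Finite Γ]

theorem card_relIndex {H K : Subgroup Γ} (hle : H ≤ K) :
    Nat.card H * H.relIndex K = Nat.card K := by
  have h1 := card_mul_index (H.subgroupOf K)
  rwa [Nat.card_congr (subgroupOfEquivOfLe hle).toEquiv] at h1

theorem mul_mem_iff_rel {H K : Subgroup Γ} (hi : H.relIndex K = 2) {b c : Γ} (hb : b ∈ K)
    (hc : c ∈ K) : b * c ∈ H ↔ (b ∈ H ↔ c ∈ H) := by
  have := mul_mem_iff_of_index_two (H := H.subgroupOf K) hi (a := ⟨b, hb⟩) (b := ⟨c, hc⟩)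
  simpa [mem_subgroupOf] using this

theorem card_sum_conj {α β : Type*} (s : Finset α) (t : Finset β) (P : α → β → Prop) :
    ∑ x ∈ s, (t.filter fun y => P x y).card = ∑ y ∈ t, (s.filter fun x => P x y).card := by
  simp only [Finset.card_filter]
  exact Finset.sum_comm

variable {p r n : ℕ} {V X S W T : Subgroup Γ} {a : Γ}

/-- the hypothesis `comp_exists`. -/
abbrev CompExists (n : ℕ) (T : Subgroup Γ) (a : Γ) : Prop :=
  ∀ x ∈ T, (∀ lam R, Comp n T lam R a → x ∈ R) → x ∈ cen T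

/-- the hypothesis `comp_count`. -/
abbrev CompCount (n : ℕ) (T : Subgroup Γ) (a : Γ) : Prop :=
  ∀ lam R, Comp n T lam R a →
    2 * {x : Γ | x ∈ T ∧ x * x ∈ lam}.ncard + 2 ^ n * Nat.card R = Nat.card T

variable (h : Clean p r n V X S W T a)
include h

theorem comm_mem_cen {x y : Γ} (hx : x ∈ T) (hy : y ∈ T) : ⁅x, y⁆ ∈ cen T :=
  h.Tcomm (commutator_mem_commutator hx hy)

theorem comm_mul_right {x y z : Γ} (hx : x ∈ T) (hy : y ∈ T) (hz : z ∈ T) :
    ⁅x, y * z⁆ = ⁅x, y⁆ * ⁅x, z⁆ := by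
  have h2 := cen_comm h.toFrame (comm_mem_cen h hx hz) hy
  calc ⁅x, y * z⁆ = ⁅x, y⁆ * (y * ⁅x, z⁆ * y⁻¹) := by simp [commutatorElement_def, mul_assoc]
    _ = _ := by rw [h2, mul_inv_cancel_right]

/-- `{x ∈ T | g x g⁻¹ x⁻¹ ∈ Z}`. -/
theorem exists_fixSub {g : Γ} (hg : g ∈ normalizer (T : Set Γ)) :
    ∃ U : Subgroup Γ, ∀ x, x ∈ U ↔ x ∈ T ∧ g * x * g⁻¹ * x⁻¹ ∈ cen T := by
  refine ⟨{ carrier := {x | x ∈ T ∧ g * x * g⁻¹ * x⁻¹ ∈ cen T}, one_mem' := ?_, mul_mem' := ?_, inv_mem' := ?_ }, fun x => Iff.rfl⟩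
  · rintro x y ⟨hx, hx'⟩ ⟨hy, hy'⟩
    refine ⟨mul_mem hx hy, ?_⟩
    have h1 : g * (x * y) * g⁻¹ * (x * y)⁻¹ =
        (g * x * g⁻¹) * (g * y * g⁻¹ * y⁻¹) * x⁻¹ := by group
    rw [h1, cen_comm h.toFrame hy' (conj_mem hg hx), mul_assoc]
    exact mul_mem hy' hx'
  · exact ⟨one_mem _, by simp⟩
  · rintro x ⟨hx, hx'⟩
    refine ⟨inv_mem hx, ?_⟩
    have h1 : g * x⁻¹ * g⁻¹ * x⁻¹⁻¹ = x⁻¹ * (g * x * g⁻¹ * x⁻¹)⁻¹ * x := by group
    rw [h1, cen_comm h.toFrame (inv_mem hx') (inv_mem hx), mul_assoc, inv_mul_cancel, mul_one]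
    exact inv_mem hx'

theorem conj_comp {lam R : Subgroup Γ} (hc : Comp n T lam R a) {c : Γ} (hcf : c ∈ fixA X a)
    (hcn : c ∈ normalizer (T : Set Γ)) :
    Comp n T (lam.map (MulAut.conj c).toMonoidHom) (R.map (MulAut.conj c).toMonoidHom) a := by
  have mm : ∀ (H : Subgroup Γ) (c x : Γ),
      x ∈ H.map (MulAut.conj c).toMonoidHom ↔ c⁻¹ * x * c ∈ H := by
    intro H c x
    constructor
    · rintro ⟨y, hy, rfl⟩
      simpa [mul_assoc] using hy
    · intro hx
      exact ⟨_, hx, by simp [mul_assoc]⟩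
  have hT : T.map (MulAut.conj c).toMonoidHom = T := by
    ext x
    rw [mm]
    exact ⟨fun hx => by simpa [mul_assoc] using conj_mem hcn hx, fun hx => conj_mem' hcn hx⟩
  have hZ : (cen T).map (MulAut.conj c).toMonoidHom = cen T := by
    ext x
    rw [mm]
    refine ⟨fun hx => by simpa [mul_assoc] using conj_cen h.toFrame hcn hx, fun hx => ?_⟩
    simpa using conj_cen h.toFrame (inv_mem hcn) hx
  have hac : a * c = c * a := (mem_centralizer_singleton_iff.1 hcf.2).symm
  have hinj : Function.Injective (MulAut.conj c).toMonoidHom := (MulAut.conj c).injective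
  refine ⟨hZ ▸ map_mono hc.lam_le, ?_, hT ▸ map_mono hc.RT, hZ ▸ map_mono hc.cenR, ?_, ?_, ?_, ?_,
    ?_⟩
  · conv_lhs => rw [← hZ]
    rw [relIndex_map_map_of_injective _ _ hinj]
    exact hc.lam_index
  · intro x hx
    rw [mm, hc.rad _ (conj_mem' hcn hx)]
    constructor
    · intro h1 y hy
      have := h1 _ (conj_mem' hcn hy)
      rw [mm]
      simpa [commutatorElement_def, mul_assoc] using this
    · intro h1 y hy
      have := h1 _ (conj_mem hcn hy)
      rw [mm] at this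
      simpa [commutatorElement_def, mul_assoc] using this
  · intro x hx
    rw [mm] at hx ⊢
    simpa [mul_assoc] using hc.sqR _ hx
  · refine mem_normalizer_of_forward fun x hx => ?_
    rw [mm] at hx ⊢
    have h1 := conj_mem hc.aR hx
    have h2 : a * (c⁻¹ * x * c) * a⁻¹ = c⁻¹ * (a * x * a⁻¹) * c := by
      have e1 : a * c⁻¹ = c⁻¹ * a := (Commute.inv_right hac)
      have e2 : c * a⁻¹ = a⁻¹ * c := (Commute.inv_left hac).symm
      calc a * (c⁻¹ * x * c) * a⁻¹ = (a * c⁻¹) * x * (c * a⁻¹) := by group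
        _ = (c⁻¹ * a) * x * (a⁻¹ * c) := by rw [e1, e2]
        _ = _ := by group
    rwa [h2] at h1
  · rw [hc.card, card_map_of_injective hinj]
  · intro U hRU hUT haU
    have hU' : R ≤ U.map (MulAut.conj c⁻¹).toMonoidHom ∧
        U.map (MulAut.conj c⁻¹).toMonoidHom ≤ T := by
      refine ⟨fun x hx => ?_, fun x hx => ?_⟩
      · rw [mm, inv_inv]
        exact hRU ⟨x, hx, rfl⟩
      · rw [mm, inv_inv] at hx
        simpa [mul_assoc] using conj_mem' hcn (hUT hx)
    have haU' : a ∈ normalizer (U.map (MulAut.conj c⁻¹).toMonoidHom : Set Γ) := by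
      refine mem_normalizer_of_forward fun x hx => ?_
      rw [mm, inv_inv] at hx ⊢
      have h1 := conj_mem haU hx
      have e1 : a * c = c * a := hac
      have e2 : c⁻¹ * a⁻¹ = a⁻¹ * c⁻¹ := by
        rw [← mul_inv_rev, ← mul_inv_rev, hac]
      have h2 : a * (c * x * c⁻¹) * a⁻¹ = c * (a * x * a⁻¹) * c⁻¹ := by
        calc a * (c * x * c⁻¹) * a⁻¹ = (a * c) * x * (c⁻¹ * a⁻¹) := by group
          _ = (c * a) * x * (a⁻¹ * c⁻¹) := by rw [e1, e2]
          _ = _ := by group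
      rwa [h2] at h1
    have e : (U.map (MulAut.conj c⁻¹).toMonoidHom).map (MulAut.conj c).toMonoidHom = U := by
      ext x
      rw [mm, mm]
      simp [mul_assoc]
    rcases hc.irred _ hU'.1 hU'.2 haU' with h1 | h1
    · left; rw [← e, h1]
    · right; rw [← e, h1, hT]

theorem exists_comp (hcomp : CompExists n T a) : ∃ lam R, Comp n T lam R a := by
  by_contra hc
  obtain ⟨t, ht, htn⟩ := exists_notMem_cen h.toFrame
  exact htn (hcomp t ht fun lam R hR => (hc ⟨lam, R, hR⟩).elim)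

/-- every hyperplane of `Z` occurs. -/
theorem hyper (hcomp : CompExists n T a) {μ : Subgroup Γ} (hμ : μ ≤ cen T)
    (hμi : μ.relIndex (cen T) = 2) : ∃ R, Comp n T μ R a := by
  haveI : Fintype (Subgroup Γ) := Fintype.ofFinite _
  haveI : Fintype Γ := Fintype.ofFinite _
  set L : Finset (Subgroup Γ) := Finset.univ.filter fun lam => ∃ R, Comp n T lam R a with hL
  have memL : ∀ lam, lam ∈ L ↔ ∃ R, Comp n T lam R a := fun lam => by simp [L]
  by_contra hμn
  have hμL : μ ∉ L := fun e => hμn ((memL μ).1 e)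
  set Z' : Finset Γ := Finset.univ.filter fun z => z ∈ cen T ∧ z ≠ 1 with hZ'
  have memZ : ∀ z, z ∈ Z' ↔ z ∈ cen T ∧ z ≠ 1 := fun z => by simp [Z']
  obtain ⟨v, hv, hv1⟩ := exists_cen_ne_one h.toFrame
  set k := (L.filter fun lam => v ∈ lam).card with hk
  have hconst : ∀ z ∈ Z', (L.filter fun lam => z ∈ lam).card = k := by
    intro z hz
    obtain ⟨hz, hz1⟩ := (memZ z).1 hz
    obtain ⟨c, hc, hcn, hcz⟩ := cen_trans h hz hz1 hv hv1
    obtain ⟨c', hc', hcn', hcz'⟩ := cen_trans h hv hv1 hz hz1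
    have key : ∀ (c : Γ) (z w : Γ), c ∈ fixA X a → c ∈ normalizer (T : Set Γ) →
        c * z * c⁻¹ = w → (L.filter fun lam => z ∈ lam).card ≤ (L.filter fun lam => w ∈ lam).card := by
      intro c z w hc hcn hcz
      refine Finset.card_le_card_of_injOn (fun lam => lam.map (MulAut.conj c).toMonoidHom) ?_ ?_
      · intro lam hlam
        simp only [Finset.coe_filter, Set.mem_ofPred_eq, memL] at hlam ⊢
        obtain ⟨⟨R, hR⟩, hzl⟩ := hlam
        exact ⟨⟨_, conj_comp h hR hc hcn⟩, ⟨z, hzl, hcz⟩⟩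
      · exact fun A _ B _ e => map_injective (MulAut.conj c).injective e
    exact le_antisymm (key c z v hc hcn hcz) (key c' v z hc' hcn' hcz')
  have hsub : ∀ H : Subgroup Γ, H ≤ cen T → (Z'.filter fun z => z ∈ H).card + 1 = Nat.card H := by
    intro H hH
    have e : Z'.filter (fun z => z ∈ H) = (Finset.univ.filter fun z => z ∈ H).erase 1 := by
      ext z
      simp only [Finset.mem_filter, memZ, Finset.mem_erase, Finset.mem_univ, true_and]
      exact ⟨fun ⟨⟨_, h1⟩, h2⟩ => ⟨h1, h2⟩, fun ⟨h1, h2⟩ => ⟨⟨hH h2, h1⟩, h2⟩⟩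
    rw [e, Finset.card_erase_add_one (by simp), Nat.card_eq_fintype_card, Fintype.card_subtype]
  have hZcard : Z'.card + 1 = Nat.card (cen T) := by
    have := hsub (cen T) le_rfl
    rwa [Finset.filter_true_of_mem fun z hz => ((memZ z).1 hz).1] at this
  have hhalf : ∀ H : Subgroup Γ, H ≤ cen T → H.relIndex (cen T) = 2 →
      Nat.card H * 2 = Nat.card (cen T) := fun H hH hi => hi ▸ card_relIndex hH
  have hmeet : ∀ lam ∈ L, Nat.card (lam ⊓ μ : Subgroup Γ) * 2 = Nat.card μ := by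
    intro lam hlam
    obtain ⟨R, hR⟩ := (memL lam).1 hlam
    rw [← card_relIndex (inf_le_right : lam ⊓ μ ≤ μ), inf_relIndex_right]
    congr 1
    refine (le_antisymm ?_ ?_).symm
    · have h0 : μ.relIndex (cen T) ≠ 0 := by rw [hμi]; norm_num
      have := relIndex_le_of_le_right (H := lam) hμ (by rw [hR.lam_index]; norm_num)
      rwa [hR.lam_index] at this
    · have h1 : lam.relIndex μ ≠ 1 := by
        intro e
        rw [relIndex_eq_one] at e
        have := eq_of_le_of_card_ge e (by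
          have a1 := hhalf lam hR.lam_le hR.lam_index
          have a2 := hhalf μ hμ hμi
          omega)
        exact hμL (this ▸ hlam)
      have h2 : lam.relIndex μ ≠ 0 := index_ne_zero_of_finite
      omega
  -- double counting on all of Z, and on the hyperplane
  have S1 : k * Z'.card = ∑ lam ∈ L, (Z'.filter fun z => z ∈ lam).card := by
    rw [← card_sum_conj Z' L (fun z lam => z ∈ lam), Finset.sum_congr rfl hconst]
    simp [mul_comm]
  have S2 : k * (Z'.filter fun z => z ∈ μ).card =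
      ∑ lam ∈ L, ((Z'.filter fun z => z ∈ μ).filter fun z => z ∈ lam).card := by
    rw [← card_sum_conj _ L (fun z lam => z ∈ lam),
      Finset.sum_congr rfl fun z hz => hconst z (Finset.mem_filter.1 hz).1]
    simp [mul_comm]
  have e1 : ∀ lam ∈ L, (Z'.filter fun z => z ∈ lam).card = Nat.card μ - 1 := by
    intro lam hlam
    obtain ⟨R, hR⟩ := (memL lam).1 hlam
    have := hsub lam hR.lam_le
    have a1 := hhalf lam hR.lam_le hR.lam_index
    have a2 := hhalf μ hμ hμi
    omega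
  have e2 : ∀ lam ∈ L, ((Z'.filter fun z => z ∈ μ).filter fun z => z ∈ lam).card =
      Nat.card μ / 2 - 1 := by
    intro lam hlam
    have := hsub (lam ⊓ μ) (inf_le_right.trans hμ)
    have a1 := hmeet lam hlam
    have e : (Z'.filter fun z => z ∈ μ).filter (fun z => z ∈ lam) =
        Z'.filter fun z => z ∈ lam ⊓ μ := by
      ext z
      simp only [Finset.mem_filter, mem_inf]
      tauto
    rw [e]
    omega
  rw [Finset.sum_congr rfl e1, Finset.sum_const, smul_eq_mul] at S1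
  rw [Finset.sum_congr rfl e2, Finset.sum_const, smul_eq_mul] at S2
  obtain ⟨lam, R, hR⟩ := exists_comp h hcomp
  have hlamL : lam ∈ L := (memL lam).2 ⟨R, hR⟩
  have hLpos : 0 < L.card := Finset.card_pos.2 ⟨lam, hlamL⟩
  have a1 := hhalf μ hμ hμi
  have a2 := hmeet lam hlamL
  have a3 := hsub μ hμ
  have a4 : 0 < Nat.card (lam ⊓ μ : Subgroup Γ) := Nat.card_pos
  obtain ⟨j, hj⟩ : ∃ j, Nat.card (lam ⊓ μ : Subgroup Γ) = j + 1 := ⟨_, (Nat.sub_add_cancel a4).symm⟩
  rw [show Z'.card = 4 * j + 3 by omega, show Nat.card μ - 1 = 2 * j + 1 by omega] at S1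
  rw [show (Z'.filter fun z => z ∈ μ).card = 2 * j + 1 by omega,
    show Nat.card μ / 2 - 1 = j by omega] at S2
  have S1' : (k : ℤ) * (4 * j + 3) = L.card * (2 * j + 1) := by exact_mod_cast S1
  have S2' : (k : ℤ) * (2 * j + 1) = L.card * j := by exact_mod_cast S2
  have : (L.card : ℤ) * (j + 1) = 0 := by linear_combination (4 * (j : ℤ) + 3) * S2' - (2 * j + 1) * S1'
  rcases mul_eq_zero.1 this with h5 | h5 <;> omega

/-- all radicals are equal to `Z`. -/
theorem rad_eq (hcomp : CompExists n T a) {lam R : Subgroup Γ} (hR : Comp n T lam R a) :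
    R = cen T := by
  refine le_antisymm (fun x hx => hcomp x (hR.RT hx) fun lam' R' hR' => ?_) hR.cenR
  by_cases hl : lam' = lam
  · subst hl
    exact (hR'.rad x (hR.RT hx)).2 ((hR.rad x (hR.RT hx)).1 hx)
  have sep : ∀ {A B : Subgroup Γ}, A ≤ cen T → A.relIndex (cen T) = 2 → B.relIndex (cen T) = 2 →
      B ≤ cen T → A ≠ B → ∃ b ∈ A, b ∉ B := by
    intro A B hA hAi hBi hB hne
    by_contra hc
    push Not at hc
    exact hne (eq_of_le_of_card_ge hc (by
      have := card_relIndex hA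
      have := card_relIndex hB
      rw [hAi] at *
      rw [hBi] at *
      omega))
  obtain ⟨b, hb, hb'⟩ := sep hR.lam_le hR.lam_index hR'.lam_index hR'.lam_le (Ne.symm hl)
  obtain ⟨μ, hμm⟩ : ∃ μ : Subgroup Γ, ∀ z, z ∈ μ ↔ z ∈ cen T ∧ (z ∈ lam ↔ z ∈ lam') := by
    refine ⟨{ carrier := {z | z ∈ cen T ∧ (z ∈ lam ↔ z ∈ lam')}, one_mem' := ?_, mul_mem' := ?_, inv_mem' := ?_ }, fun z => Iff.rfl⟩
    · rintro x y ⟨hx, hx'⟩ ⟨hy, hy'⟩
      refine ⟨mul_mem hx hy, ?_⟩
      rw [mul_mem_iff_rel hR.lam_index hx hy, mul_mem_iff_rel hR'.lam_index hx hy, hx', hy']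
    · exact ⟨one_mem _, by simp [one_mem]⟩
    · rintro x ⟨hx, hx'⟩
      exact ⟨inv_mem hx, by rw [inv_mem_iff, inv_mem_iff]; exact hx'⟩
  have hμle : μ ≤ cen T := fun z hz => ((hμm z).1 hz).1
  have hμi : μ.relIndex (cen T) = 2 := by
    rw [relIndex_eq_two_iff]
    refine ⟨b, hR.lam_le hb, fun z hz => ?_⟩
    have e1 := mul_mem_iff_rel hR.lam_index hz (hR.lam_le hb)
    have e2 := mul_mem_iff_rel hR'.lam_index hz (hR.lam_le hb)
    have e3 : z * b ∈ cen T := mul_mem hz (hR.lam_le hb)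
    by_cases h1 : z ∈ μ
    · refine Or.inr ⟨h1, fun h2 => ?_⟩
      rw [hμm] at h1 h2
      tauto
    · refine Or.inl ⟨?_, h1⟩
      rw [hμm] at h1 ⊢
      tauto
  obtain ⟨R₃, hR₃⟩ := hyper h hcomp hμle hμi
  by_contra hxR'
  have hne : ¬ R ≤ R' := fun e => hxR' (e hx)
  have hsup : R' ⊔ R = T := by
    refine (hR'.irred (R' ⊔ R) le_sup_left (sup_le hR'.RT hR.RT) ?_).resolve_left fun e =>
      hne (le_sup_right.trans e.le)
    refine mem_normalizer_of_forward fun y hy => ?_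
    have : (MulAut.conj a).toMonoidHom y ∈ (R' ⊔ R).map (MulAut.conj a).toMonoidHom :=
      mem_map_of_mem _ hy
    rw [Subgroup.map_sup] at this
    refine SetLike.le_def.1 (sup_le ?_ ?_) this
    · rintro _ ⟨y, hy, rfl⟩
      exact mem_sup_left (by simpa using conj_mem hR'.aR hy)
    · rintro _ ⟨y, hy, rfl⟩
      exact mem_sup_right (by simpa using conj_mem hR.aR hy)
  -- `R₃ ≤ R` and `R₃ ≤ R'`
  have flip : ∀ {A B : Subgroup Γ} {la : Subgroup Γ}, Comp n T la A a → ∀ {y z : Γ}, y ∈ A → z ∈ T →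
      ⁅z, y⁆ ∈ la := by
    intro A B la hA y z hy hz
    have := inv_mem ((hA.rad y (hA.RT hy)).1 hy z hz)
    rwa [commutatorElement_inv] at this
  have key : ∀ {A B : Subgroup Γ} {la lb : Subgroup Γ}, Comp n T la A a → Comp n T lb B a →
      A ⊔ B = T → (∀ z, z ∈ μ → z ∈ la → z ∈ lb) → R₃ ≤ B := by
    intro A B la lb hA hB hAB hm z hz
    have hzT := hR₃.RT hz
    rw [hB.rad z hzT]
    intro y hy
    obtain ⟨Ks, hKs⟩ : ∃ Ks : Subgroup Γ, ∀ w, w ∈ Ks ↔ w ∈ T ∧ ⁅z, w⁆ ∈ lb := by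
      refine ⟨{ carrier := {w | w ∈ T ∧ ⁅z, w⁆ ∈ lb}, one_mem' := ?_, mul_mem' := ?_, inv_mem' := ?_ }, fun w => Iff.rfl⟩
      · rintro w w' ⟨hw, hw'⟩ ⟨hv, hv'⟩
        exact ⟨mul_mem hw hv, by rw [comm_mul_right h hzT hw hv]; exact mul_mem hw' hv'⟩
      · exact ⟨one_mem _, by simp [commutatorElement_one_right]⟩
      · rintro w ⟨hw, hw'⟩
        refine ⟨inv_mem hw, ?_⟩
        have h1 := comm_mul_right h hzT hw (inv_mem hw)
        rw [mul_inv_cancel, commutatorElement_one_right] at h1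
        rw [eq_inv_of_mul_eq_one_right h1.symm]
        exact inv_mem hw'
    have hle : A ⊔ B ≤ Ks := by
      refine sup_le (fun w hw => (hKs w).2 ⟨hA.RT hw, ?_⟩) (fun w hw => (hKs w).2 ⟨hB.RT hw, ?_⟩)
      · exact hm _ ((hR₃.rad z hzT).1 hz w (hA.RT hw)) (flip (B := B) hA hw hzT)
      · exact flip (B := B) hB hw hzT
    exact ((hKs y).1 (hle (hAB.symm ▸ hy))).2
  have k1 : R₃ ≤ R := key hR' hR hsup fun z hzμ hz' => ((hμm z).1 hzμ).2.2 hz'
  have k2 : R₃ ≤ R' :=
    key hR hR' (by rwa [sup_comm]) fun z hzμ hz' => ((hμm z).1 hzμ).2.1 hz'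
  have hcard : ∀ {lb B : Subgroup Γ}, Comp n T lb B a → R₃ ≤ B → R₃ = B := by
    intro lb B hB hle
    refine eq_of_le_of_card_ge hle ?_
    have e := hB.card.symm.trans hR₃.card
    exact (Nat.eq_of_mul_eq_mul_left (by positivity) e).le
  exact hne ((hcard hR k1).symm.trans (hcard hR' k2)).le

theorem card_T (hcomp : CompExists n T a) : Nat.card T = 4 ^ n * Nat.card (cen T) := by
  obtain ⟨lam, R, hR⟩ := exists_comp h hcomp
  rw [← rad_eq h hcomp hR]
  exact hR.card

theorem irr_T (hcomp : CompExists n T a) {U : Subgroup Γ} (h1 : cen T ≤ U) (h2 : U ≤ T)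
    (h3 : a ∈ normalizer (U : Set Γ)) : U = cen T ∨ U = T := by
  obtain ⟨lam, R, hR⟩ := exists_comp h hcomp
  have e := rad_eq h hcomp hR
  rw [← e]
  exact hR.irred U (e ▸ h1) h2 h3

/-- an element of `C ∩ M` fixes all of `T / Z` or none of it. -/
theorem fix_dich (hcomp : CompExists n T a) {g : Γ} (hg : g ∈ fixA X a)
    (hgn : g ∈ normalizer (T : Set Γ)) {t : Γ} (ht : t ∈ T) (htn : t ∉ cen T)
    (htd : g * t * g⁻¹ * t⁻¹ ∈ cen T) : ∀ x ∈ T, g * x * g⁻¹ * x⁻¹ ∈ cen T := by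
  obtain ⟨U, hU⟩ := exists_fixSub h hgn
  have h1 : cen T ≤ U := fun z hz =>
    (hU z).2 ⟨hz.1, mul_mem (conj_cen h.toFrame hgn hz) (inv_mem hz)⟩
  have h3 : a ∈ normalizer (U : Set Γ) := by
    refine mem_normalizer_of_forward fun x hx => ?_
    obtain ⟨hx, hxd⟩ := (hU x).1 hx
    refine (hU _).2 ⟨conj_mem h.aT hx, ?_⟩
    have hac : Commute a g := (mem_centralizer_singleton_iff.1 hg.2).symm
    have e : g * (a * x * a⁻¹) * g⁻¹ * (a * x * a⁻¹)⁻¹ = a * (g * x * g⁻¹ * x⁻¹) * a⁻¹ := by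
      calc g * (a * x * a⁻¹) * g⁻¹ * (a * x * a⁻¹)⁻¹
          = (g * a) * x * (a⁻¹ * g⁻¹) * (a * x⁻¹ * a⁻¹) := by group
        _ = (a * g) * x * (g⁻¹ * a⁻¹) * (a * x⁻¹ * a⁻¹) := by
            rw [hac.eq, (hac.inv_inv).eq]
        _ = _ := by group
    rw [e, cen_fix h.toFrame hxd, mul_inv_cancel_right]
    exact hxd
  rcases irr_T h hcomp h1 (fun x hx => ((hU x).1 hx).1) h3 with e | e
  · exact absurd (e ▸ (hU t).2 ⟨ht, htd⟩) htn
  · exact fun x hx => ((hU x).1 (e.symm ▸ hx)).2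

/-- a stabiliser of the series `T ≥ Z ≥ 1` commuting with `a` centralises `T`. -/
theorem cent_of_triv {g : Γ} (hg : g ∈ fixA X a) (hgn : g ∈ normalizer (T : Set Γ))
    (hgz : ∀ z ∈ cen T, g * z = z * g) (htriv : ∀ x ∈ T, g * x * g⁻¹ * x⁻¹ ∈ cen T) :
    ∀ x ∈ T, g * x = x * g := by
  obtain ⟨U, hU⟩ : ∃ U : Subgroup Γ, ∀ x, x ∈ U ↔ g * x = x * g :=
    ⟨centralizer ({g} : Set Γ), fun x => by rw [mem_centralizer_singleton_iff]; exact eq_comm⟩
  have : ⁅T, zpowers a⁆ ≤ U := by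
    rw [commutator_le]
    intro t ht b hb
    rw [hU]
    obtain ⟨i, rfl⟩ := mem_zpowers_iff.1 hb
    have hb' : Commute (a ^ i) g :=
      Commute.zpow_left ((mem_centralizer_singleton_iff.1 hg.2).symm : Commute a g) i
    set d := g * t * g⁻¹ * t⁻¹ with hd
    have hdz : d ∈ cen T := htriv t ht
    have hbd : Commute (a ^ i) d := Commute.zpow_left (cen_fix h.toFrame hdz : Commute a d) i
    have e1 : g * t * g⁻¹ = d * t := by simp [d]
    have hdt : t * d = d * t := cen_comm h.toFrame hdz ht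
    have key : g * ⁅t, a ^ i⁆ * g⁻¹ = ⁅t, a ^ i⁆ := by
      rw [conjugate_commutatorElement, e1, hb'.symm.eq, mul_inv_cancel_right]
      simp only [commutatorElement_def, mul_inv_rev]
      have hdt' : t⁻¹ * d⁻¹ = d⁻¹ * t⁻¹ := by rw [← mul_inv_rev, ← mul_inv_rev, hdt]
      calc d * t * a ^ i * (t⁻¹ * d⁻¹) * (a ^ i)⁻¹
          = d * (t * a ^ i) * (d⁻¹ * t⁻¹) * (a ^ i)⁻¹ := by rw [hdt']; group
        _ = d * t * (a ^ i * d⁻¹) * t⁻¹ * (a ^ i)⁻¹ := by group
        _ = d * t * (d⁻¹ * a ^ i) * t⁻¹ * (a ^ i)⁻¹ := by rw [hbd.inv_right.eq]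
        _ = (d * t) * d⁻¹ * (a ^ i * t⁻¹ * (a ^ i)⁻¹) := by group
        _ = (t * d) * d⁻¹ * (a ^ i * t⁻¹ * (a ^ i)⁻¹) := by rw [hdt]
        _ = _ := by group
    exact mul_inv_eq_iff_eq_mul.1 key
  intro x hx
  rw [comm_T_a h.toFrame] at this
  exact (hU x).1 (this hx)

/-- the stabiliser of `Z` in `C ∩ M` centralises `T`. -/
theorem cent_of_fix_cen (hcomp : CompExists n T a) (hcount : CompCount n T a) {g : Γ}
    (hg : g ∈ fixA X a) (hgn : g ∈ normalizer (T : Set Γ)) (hgz : ∀ z ∈ cen T, g * z = z * g) :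
    ∀ x ∈ T, g * x = x * g := by
  induction ho : orderOf g using Nat.strong_induction_on generalizing g with
  | _ o ih =>
    refine cent_of_triv h hg hgn hgz ?_
    rcases eq_or_ne g 1 with rfl | hg1
    · intro x hx
      simp
    set l := (orderOf g).minFac with hl
    have hne : orderOf g ≠ 1 := fun e => hg1 (orderOf_eq_one_iff.1 e)
    have hlp : l.Prime := Nat.minFac_prime hne
    haveI : Fact l.Prime := ⟨hlp⟩
    have hgl : ∀ x ∈ T, g ^ l * x = x * g ^ l := by
      refine ih (orderOf (g ^ l)) ?_ (pow_mem hg l) (pow_mem hgn l)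
        (fun z hz => Commute.pow_left (hgz z hz : Commute g z) l) rfl
      rw [← ho, orderOf_pow_of_dvd hlp.ne_zero (Nat.minFac_dvd _)]
      exact Nat.div_lt_self (orderOf_pos g) hlp.one_lt
    by_contra htriv
    have hfree : ∀ x ∈ T, g * x * g⁻¹ * x⁻¹ ∈ cen T → x ∈ cen T := by
      intro x hx hxd
      by_contra hxn
      exact htriv (fix_dich h hcomp hg hgn hx hxn hxd)
    rcases hlp.eq_two_or_odd' with h2 | hodd
    · obtain ⟨t, ht, htn⟩ := exists_notMem_cen h.toFrame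
      apply htn
      have ht' : g * t * g⁻¹ ∈ T := conj_mem hgn ht
      have hs : t * (g * t * g⁻¹) ∈ cen T := by
        refine hfree _ (mul_mem ht ht') ?_
        have e2 : g * (g * t * g⁻¹) * g⁻¹ = t := by
          have := hgl t ht
          rw [h2, pow_two] at this
          rw [show g * (g * t * g⁻¹) * g⁻¹ = g * g * t * (g * g)⁻¹ by group, this,
            mul_inv_cancel_right]
        have e3 : g * (t * (g * t * g⁻¹)) * g⁻¹ * (t * (g * t * g⁻¹))⁻¹ =
            ⁅g * t * g⁻¹, t⁆ := by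
          rw [show g * (t * (g * t * g⁻¹)) * g⁻¹ = (g * t * g⁻¹) * (g * (g * t * g⁻¹) * g⁻¹) by group,
            e2, commutatorElement_def]
          group
        rw [e3]
        exact comm_mem_cen h ht' ht
      refine hfree t ht ?_
      have e4 : g * t * g⁻¹ * t⁻¹ = t⁻¹ * (t * (g * t * g⁻¹)) * t * (t * t)⁻¹ := by group
      rw [e4, cen_comm h.toFrame hs (inv_mem ht), mul_assoc _ t⁻¹ t, inv_mul_cancel, mul_one]
      exact mul_mem hs (inv_mem (h.Tsq t ht))
    · obtain ⟨lam, R, hR⟩ := exists_comp h hcomp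
      set O : Set Γ := {x | x ∈ T ∧ x * x ∉ lam} with hO
      haveI : Fintype O := Fintype.ofFinite _
      have hmem : ∀ (x : Γ), x ∈ O → g * x * g⁻¹ ∈ O := by
        rintro x ⟨hx, hx'⟩
        refine ⟨conj_mem hgn hx, ?_⟩
        rw [show g * x * g⁻¹ * (g * x * g⁻¹) = g * (x * x) * g⁻¹ by group,
          hgz _ (h.Tsq x hx), mul_inv_cancel_right]
        exact hx'
      let f : O → O := fun x => ⟨g * x.1 * g⁻¹, hmem _ x.2⟩
      have hfi : Function.Injective f := by
        intro x y e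
        have e' : g * x.1 * g⁻¹ = g * y.1 * g⁻¹ := congrArg Subtype.val e
        exact Subtype.ext (by simpa using e')
      let σ : Equiv.Perm O := Equiv.ofBijective f ⟨hfi, Finite.surjective_of_injective hfi⟩
      have hpow : ∀ (k : ℕ) (x : O), ((σ ^ k) x).1 = g ^ k * x.1 * (g ^ k)⁻¹ := by
        intro k
        induction k with
        | zero => simp
        | succ k ihk =>
          intro x
          rw [pow_succ', Equiv.Perm.mul_apply]
          show g * ((σ ^ k) x).1 * g⁻¹ = _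
          rw [ihk, pow_succ', mul_inv_rev]
          group
      have hσ : σ ^ l ^ 1 = 1 := by
        rw [pow_one]
        refine Equiv.ext fun x => Subtype.ext ?_
        rw [hpow, hgl _ x.2.1, mul_inv_cancel_right]
        rfl
      have hcardO : ¬ l ∣ Fintype.card O := by
        have e1 : {x : Γ | x ∈ T ∧ x * x ∈ lam}.ncard + O.ncard = Nat.card T := by
          have hd : Disjoint {x : Γ | x ∈ T ∧ x * x ∈ lam} O :=
            Set.disjoint_left.2 fun x hx hx' => hx'.2 hx.2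
          have hu : {x : Γ | x ∈ T ∧ x * x ∈ lam} ∪ O = (T : Set Γ) := by
            ext x
            simp only [O, Set.mem_union, Set.mem_ofPred_eq, SetLike.mem_coe]
            tauto
          rw [← Set.ncard_union_eq hd, hu]
          exact (Nat.card_coe_set_eq _).symm
        have e2 := hcount lam R hR
        rw [rad_eq h hcomp hR] at e2
        have e3 : 2 * O.ncard = Nat.card (cen T) * 2 ^ n * r := by
          have hq := card_T h hcomp
          have e4 : Nat.card T = 2 ^ n * 2 ^ n * Nat.card (cen T) := by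
            rw [hq, show (4 : ℕ) = 2 * 2 from rfl, mul_pow]
          rw [h.rn]
          nlinarith
        intro hd
        rw [← Nat.card_eq_fintype_card, Nat.card_coe_set_eq] at hd
        have h5 : l ∣ Nat.card (cen T) * 2 ^ n * r := e3 ▸ dvd_mul_of_dvd_right hd 2
        have hl2 : ¬ l ∣ 2 := fun e => by
          rcases hodd with ⟨i, hi⟩
          have := (Nat.prime_dvd_prime_iff_eq hlp Nat.prime_two).1 e
          omega
        haveI : Fact (Nat.Prime 2) := ⟨Nat.prime_two⟩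
        rcases (Nat.Prime.dvd_mul hlp).1 h5 with h6 | h6
        · rcases (Nat.Prime.dvd_mul hlp).1 h6 with h7 | h7
          · obtain ⟨e, he⟩ := IsPGroup.iff_card.1 (cen_two h.toFrame)
            exact hl2 (hlp.dvd_of_dvd_pow (he ▸ h7))
          · exact hl2 (hlp.dvd_of_dvd_pow h7)
        · have := (Nat.prime_dvd_prime_iff_eq hlp h.hr).1 h6
          exact h.rX (this ▸ (Nat.minFac_dvd _).trans (orderOf_dvd_natCard X hg.1))
      obtain ⟨x, hx⟩ := Equiv.Perm.exists_fixed_point_of_prime hcardO hσ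
      have hx' : g * x.1 * g⁻¹ = x.1 := congrArg Subtype.val hx
      have := hfree x.1 x.2.1 (by rw [hx', mul_inv_cancel]; exact one_mem _)
      exact x.2.2 (by rw [h.Zexp _ this]; exact one_mem _)

end Cfsg.Agent.Flavell8.Gen.CoreD
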