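import Mathlib
import Cfsg.Agent.Lib.FlavellGen8CoreForm

/-!
Piece D of the coprime action theorem (`Flavell8.Gen`): `N_X(T)` acts on `Z#` through an abelian group of
odd order.
-/

set_option autoImplicit false
set_option linter.unusedSectionVars false
set_option linter.style.haveILetI false
set_option linter.unusedVariables false

open scoped commutatorElement

namespace Cfsg.Agent.Flavell8.Gen.CoreD

open Subgroup Cfsg.Agent.CoprimeAction

universe u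

/-- two endomorphisms commuting with an irreducible one commute. -/
theorem comm_of_irred {Q : Type*} [CommGroup Q] (A f g : Q →* Q) (hf : ∀ x, f (A x) = A (f x))
    (hg : ∀ x, g (A x) = A (g x)) (y : Q)
    (hgen : ∀ U : Subgroup Q, y ∈ U → (∀ x ∈ U, A x ∈ U) → U = ⊤) : f (g y) = g (f y) := by
  obtain ⟨U, hU⟩ : ∃ U : Subgroup Q, ∀ s, s ∈ U ↔ ∃ φ : Q →* Q, φ y = s ∧
      ∀ ψ : Q →* Q, (∀ x, ψ (A x) = A (ψ x)) → ∀ x, φ (ψ x) = ψ (φ x) := by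
    refine ⟨{ carrier := {s | ∃ φ : Q →* Q, φ y = s ∧
      ∀ ψ : Q →* Q, (∀ x, ψ (A x) = A (ψ x)) → ∀ x, φ (ψ x) = ψ (φ x)}, mul_mem' := ?_, one_mem' := ?_, inv_mem' := ?_ }, fun s => Iff.rfl⟩
    · rintro s t ⟨φ, rfl, hφ⟩ ⟨φ', rfl, hφ'⟩
      exact ⟨φ * φ', rfl, fun ψ hψ x => by simp [hφ ψ hψ, hφ' ψ hψ]⟩
    · exact ⟨1, rfl, fun ψ hψ x => by simp⟩
    · rintro s ⟨φ, rfl, hφ⟩
      exact ⟨φ⁻¹, rfl, fun ψ hψ x => by simp [hφ ψ hψ]⟩
  have htop : U = ⊤ := by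
    refine hgen U ((hU y).2 ⟨MonoidHom.id Q, rfl, fun ψ _ x => rfl⟩) fun s hs => ?_
    obtain ⟨φ, rfl, hφ⟩ := (hU s).1 hs
    exact (hU _).2 ⟨A.comp φ, rfl, fun ψ hψ x => by
      simp only [MonoidHom.comp_apply]; rw [hφ ψ hψ, hψ]⟩
  obtain ⟨φ, hφy, hφ⟩ := (hU (f y)).1 (htop ▸ mem_top _)
  obtain ⟨φ', hφy', hφ'⟩ := (hU (g y)).1 (htop ▸ mem_top _)
  calc f (g y) = f (φ' y) := by rw [hφy']
    _ = φ' (f y) := (hφ' f hf y).symm
    _ = φ' (φ y) := by rw [hφy]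
    _ = φ (φ' y) := hφ' φ (fun x => hφ A (fun _ => rfl) x) y
    _ = φ (g y) := by rw [hφy']
    _ = g (φ y) := hφ g hg y
    _ = g (f y) := by rw [hφy]

variable {Γ : Type u} [Group Γ] [Finite Γ]

variable {p r n : ℕ} {V X S W T : Subgroup Γ} {a : Γ}

variable (h : Clean p r n V X S W T a) (hcomp : CompExists n T a) (hcount : CompCount n T a)
include h hcomp

/-- a commutator in `C ∩ M` is trivial on `T / Z`. -/
theorem comm_fix {f g : Γ} (hf : f ∈ fixA X a) (hfn : f ∈ normalizer (T : Set Γ))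
    (hg : g ∈ fixA X a) (hgn : g ∈ normalizer (T : Set Γ)) :
    ∀ x ∈ T, ⁅f, g⁆ * x * ⁅f, g⁆⁻¹ * x⁻¹ ∈ cen T := by
  set Zs : Subgroup T := (cen T).subgroupOf T with hZs
  haveI : Zs.Normal := ⟨fun z hz b => by
    rw [mem_subgroupOf] at hz ⊢
    simpa [cen_conj_t h.toFrame hz b.2] using hz⟩
  letI : CommGroup (T ⧸ Zs) :=
    { (inferInstance : Group (T ⧸ Zs)) with
      mul_comm := fun x y => by
        obtain ⟨x, rfl⟩ := QuotientGroup.mk_surjective x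
        obtain ⟨y, rfl⟩ := QuotientGroup.mk_surjective y
        refine (QuotientGroup.eq).2 ?_
        rw [mem_subgroupOf]
        have := comm_mem_cen h (inv_mem y.2) (inv_mem x.2)
        simpa [commutatorElement_def, mul_assoc] using this }
  let φ : ∀ c : Γ, c ∈ normalizer (T : Set Γ) → (T →* T) := fun c hc =>
    { toFun := fun x => ⟨c * x.1 * c⁻¹, conj_mem hc x.2⟩
      map_one' := Subtype.ext (by simp)
      map_mul' := fun x y => Subtype.ext (by simp [mul_assoc]) }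
  let E : ∀ c : Γ, c ∈ normalizer (T : Set Γ) → (T ⧸ Zs →* T ⧸ Zs) := fun c hc =>
    QuotientGroup.map Zs Zs (φ c hc) (fun z hz => by
      simp only [mem_comap, Zs, mem_subgroupOf] at hz ⊢
      exact conj_cen h.toFrame hc hz)
  have hE : ∀ (c : Γ) (hc : c ∈ normalizer (T : Set Γ)) (x : T),
      E c hc (x : T ⧸ Zs) = ((φ c hc x : T) : T ⧸ Zs) := fun c hc x => rfl
  have hcommE : ∀ (c : Γ) (hc : c ∈ normalizer (T : Set Γ)), c ∈ fixA X a →
      ∀ x, E c hc (E a h.aT x) = E a h.aT (E c hc x) := by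
    intro c hc hca x
    obtain ⟨x, rfl⟩ := QuotientGroup.mk_surjective x
    simp only [hE]
    congr 1
    apply Subtype.ext
    have hac : Commute a c := (mem_centralizer_singleton_iff.1 hca.2).symm
    show c * (a * x.1 * a⁻¹) * c⁻¹ = a * (c * x.1 * c⁻¹) * a⁻¹
    calc c * (a * x.1 * a⁻¹) * c⁻¹ = (c * a) * x.1 * (a⁻¹ * c⁻¹) := by group
      _ = (a * c) * x.1 * (c⁻¹ * a⁻¹) := by rw [hac.eq, hac.inv_inv.eq]
      _ = _ := by group
  obtain ⟨y, hy, hyn⟩ := exists_notMem_cen h.toFrame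
  have key := comm_of_irred (E a h.aT) (E f hfn) (E g hgn) (hcommE f hfn hf) (hcommE g hgn hg)
    ((⟨y, hy⟩ : T) : T ⧸ Zs) (by
      intro U hyU hAU
      set U' : Subgroup Γ := (U.comap (QuotientGroup.mk' Zs)).map T.subtype with hU'
      have h1 : cen T ≤ U' := by
        intro z hz
        refine ⟨⟨z, hz.1⟩, ?_, rfl⟩
        have : ((⟨z, hz.1⟩ : T) : T ⧸ Zs) = 1 := (QuotientGroup.eq_one_iff _).2 hz
        show ((⟨z, hz.1⟩ : T) : T ⧸ Zs) ∈ U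
        rw [this]
        exact one_mem _
      have h2 : a ∈ normalizer (U' : Set Γ) := by
        refine mem_normalizer_of_forward ?_
        rintro _ ⟨x, hx, rfl⟩
        exact ⟨φ a h.aT x, hAU _ hx, rfl⟩
      rcases irr_T h hcomp h1 (map_subtype_le _) h2 with e | e
      · exact absurd (e ▸ (⟨⟨y, hy⟩, hyU, rfl⟩ : y ∈ U')) hyn
      · refine eq_top_iff.2 fun s _ => ?_
        obtain ⟨x, rfl⟩ := QuotientGroup.mk_surjective s
        obtain ⟨x', hx', hxx⟩ := (e.symm ▸ x.2 : (x : Γ) ∈ U')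
        exact (Subtype.ext hxx : x' = x) ▸ hx')
  have hmul : ⁅f, g⁆ ∈ fixA X a ∧ ⁅f, g⁆ ∈ normalizer (T : Set Γ) := by
    rw [commutatorElement_def]
    exact ⟨mul_mem (mul_mem (mul_mem hf hg) (inv_mem hf)) (inv_mem hg),
      mul_mem (mul_mem (mul_mem hfn hgn) (inv_mem hfn)) (inv_mem hgn)⟩
  have hy' : g * (f * y * f⁻¹) * g⁻¹ ∈ T := conj_mem hgn (conj_mem hfn hy)
  refine fix_dich h hcomp hmul.1 hmul.2 hy' (fun hc => hyn ?_) ?_
  · have h1 := conj_cen h.toFrame (inv_mem hfn) (conj_cen h.toFrame (inv_mem hgn) hc)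
    simpa [mul_assoc] using h1
  · have h1 := (QuotientGroup.eq).1 key
    rw [mem_subgroupOf] at h1
    have h2 : ((φ f hfn (φ g hgn ⟨y, hy⟩))⁻¹ * φ g hgn (φ f hfn ⟨y, hy⟩) : T).1 =
        (f * (g * y * g⁻¹) * f⁻¹)⁻¹ * (g * (f * y * f⁻¹) * g⁻¹) := rfl
    rw [h2] at h1
    have h3 := conj_cen h.toFrame (le_normalizer (conj_mem hfn (conj_mem hgn hy))) (inv_mem h1)
    rw [commutatorElement_def]
    simpa [mul_assoc] using h3

/-- an element of `C ∩ M` acting trivially on `T / Z` centralises `Z`. -/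
theorem cen_of_triv {g : Γ} (hgn : g ∈ normalizer (T : Set Γ))
    (htriv : ∀ x ∈ T, g * x * g⁻¹ * x⁻¹ ∈ cen T) : ∀ z ∈ cen T, g * z = z * g := by
  have hfix : ∀ x ∈ T, ∀ y ∈ T, g * ⁅x, y⁆ = ⁅x, y⁆ * g := by
    intro x hx y hy
    refine mul_inv_eq_iff_eq_mul.1 ?_
    rw [conjugate_commutatorElement]
    have e : ∀ u : Γ, g * u * g⁻¹ = (g * u * g⁻¹ * u⁻¹) * u := fun u => by group
    rw [e x, e y]
    set z₁ := g * x * g⁻¹ * x⁻¹
    set z₂ := g * y * g⁻¹ * y⁻¹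
    have h₁ : z₁ ∈ cen T := htriv x hx
    have h₂ : z₂ ∈ cen T := htriv y hy
    have c₁ : Commute z₁ (y : Γ) := (cen_comm h.toFrame h₁ hy).symm
    have c₂ : Commute z₂ (x : Γ) := (cen_comm h.toFrame h₂ hx).symm
    have c₁₂ : Commute z₁ z₂ := (cen_comm h.toFrame h₁ h₂.1).symm
    simp only [commutatorElement_def, mul_inv_rev]
    calc z₁ * x * (z₂ * y) * (x⁻¹ * z₁⁻¹) * (y⁻¹ * z₂⁻¹)
        = z₁ * (x * z₂) * y * x⁻¹ * (z₁⁻¹ * y⁻¹) * z₂⁻¹ := by group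
      _ = z₁ * (z₂ * x) * y * x⁻¹ * (y⁻¹ * z₁⁻¹) * z₂⁻¹ := by
          rw [c₂.eq, c₁.inv_inv.eq]
      _ = (z₁ * z₂) * (x * y * x⁻¹ * y⁻¹) * (z₁ * z₂)⁻¹ := by
          rw [mul_inv_rev z₁ z₂, show z₂⁻¹ * z₁⁻¹ = z₁⁻¹ * z₂⁻¹ from (c₁₂.inv_inv).eq.symm]
          group
      _ = _ := by
          have : ⁅x, y⁆ ∈ T := (comm_mem_cen h hx hy).1
          rw [commutatorElement_def] at this
          rw [← cen_comm h.toFrame (mul_mem h₁ h₂) this, mul_inv_cancel_right]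
  intro z hz
  obtain ⟨x, hx, y, hy, hne⟩ : ∃ x ∈ T, ∃ y ∈ T, ⁅x, y⁆ ≠ 1 := by
    by_contra hc
    push Not at hc
    exact cen_ne_T h.toFrame (le_antisymm inf_le_left fun x hx => ⟨hx, mem_centralizer_iff.2
      fun t ht => commutatorElement_eq_one_iff_mul_comm.1 (hc t ht x hx)⟩)
  rcases eq_or_ne z 1 with rfl | hz1
  · simp
  obtain ⟨c, hc, hcn, hcz⟩ := cen_trans h (comm_mem_cen h hx hy) hne hz hz1
  rw [← hcz, conjugate_commutatorElement]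
  exact hfix _ (conj_mem hcn hx) _ (conj_mem hcn hy)

include hcount

theorem comm_cen {f g : Γ} (hf : f ∈ fixA X a) (hfn : f ∈ normalizer (T : Set Γ))
    (hg : g ∈ fixA X a) (hgn : g ∈ normalizer (T : Set Γ)) {z : Γ} (hz : z ∈ cen T) :
    f * (g * z * g⁻¹) * f⁻¹ = g * (f * z * f⁻¹) * g⁻¹ := by
  have hn : ⁅f, g⁆ ∈ normalizer (T : Set Γ) := by
    rw [commutatorElement_def]
    exact mul_mem (mul_mem (mul_mem hfn hgn) (inv_mem hfn)) (inv_mem hgn)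
  have h1 := cen_of_triv h hcomp hn (comm_fix h hcomp hf hfn hg hgn) _
    (conj_cen h.toFrame hgn (conj_cen h.toFrame hfn hz))
  rw [← mul_inv_eq_iff_eq_mul] at h1
  calc f * (g * z * g⁻¹) * f⁻¹ = ⁅f, g⁆ * (g * (f * z * f⁻¹) * g⁻¹) * ⁅f, g⁆⁻¹ := by
        rw [commutatorElement_def]; group
    _ = _ := h1

/-- the action of `M` on `Z` is that of `C ∩ M`. -/
theorem act_eq {m : Γ} (hm : m ∈ MM X T) :
    ∃ c ∈ fixA X a, c ∈ normalizer (T : Set Γ) ∧ ∀ z ∈ cen T, m * z * m⁻¹ = c * z * c⁻¹ := by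
  obtain ⟨c, hc, t, ht, hcn, rfl⟩ := h.Mdecomp _ hm
  refine ⟨c, hc, hcn, fun z hz => ?_⟩
  calc c * t * z * (c * t)⁻¹ = c * (t * z * t⁻¹) * c⁻¹ := by group
    _ = _ := by rw [cen_conj_t h.toFrame hz ht]

theorem MM_comm {m m' : Γ} (hm : m ∈ MM X T) (hm' : m' ∈ MM X T) {z : Γ} (hz : z ∈ cen T) :
    m * (m' * z * m'⁻¹) * m⁻¹ = m' * (m * z * m⁻¹) * m'⁻¹ := by
  obtain ⟨c, hc, hcn, hca⟩ := act_eq h hcomp hcount hm
  obtain ⟨d, hd, hdn, hda⟩ := act_eq h hcomp hcount hm'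
  rw [hca _ (conj_cen h.toFrame hm'.2 hz), hda _ hz, hda _ (conj_cen h.toFrame hm.2 hz), hca _ hz]
  exact comm_cen h hcomp hcount hc hcn hd hdn hz

/-- an element of `M` centralising one element of `Z#` centralises `Z`. -/
theorem MM_stab {m v : Γ} (hm : m ∈ MM X T) (hv : v ∈ cen T) (hv1 : v ≠ 1) (hmv : m * v = v * m) :
    m ∈ centralizer (cen T : Set Γ) := by
  rw [mem_centralizer_iff]
  intro z hz
  rcases eq_or_ne z 1 with rfl | hz1
  · simp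
  obtain ⟨c, hc, hcn, hcz⟩ := cen_trans h hv hv1 hz hz1
  have hcM : c ∈ MM X T := ⟨hc.1, hcn⟩
  have h1 := MM_comm h hcomp hcount hm hcM hv
  rw [hcz, hmv, mul_inv_cancel_right, hcz] at h1
  exact (mul_inv_eq_iff_eq_mul.1 h1).symm

theorem MM_commutator {m m' : Γ} (hm : m ∈ MM X T) (hm' : m' ∈ MM X T) :
    ⁅m, m'⁆ ∈ centralizer (cen T : Set Γ) := by
  rw [mem_centralizer_iff]
  intro z hz
  have hz' := conj_cen h.toFrame (inv_mem hm.2) (conj_cen h.toFrame (inv_mem hm'.2) hz)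
  have h1 := MM_comm h hcomp hcount hm hm' hz'
  refine (mul_inv_eq_iff_eq_mul.1 ?_).symm
  rw [commutatorElement_def]
  calc m * m' * m⁻¹ * m'⁻¹ * z * (m * m' * m⁻¹ * m'⁻¹)⁻¹
      = m * (m' * (m⁻¹ * (m'⁻¹ * z * m'⁻¹⁻¹) * m⁻¹⁻¹) * m'⁻¹) * m⁻¹ := by group
    _ = m' * (m * (m⁻¹ * (m'⁻¹ * z * m'⁻¹⁻¹) * m⁻¹⁻¹) * m⁻¹) * m'⁻¹ := h1
    _ = z := by group

theorem MM_sq {m : Γ} (hm : m ∈ MM X T) (h2 : m * m ∈ centralizer (cen T : Set Γ)) :
    m ∈ centralizer (cen T : Set Γ) := by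
  obtain ⟨v, hv, hv1⟩ := exists_cen_ne_one h.toFrame
  set w := m * v * m⁻¹ with hw
  have hwz : w ∈ cen T := conj_cen h.toFrame hm.2 hv
  rcases eq_or_ne w v with e | e
  · exact MM_stab h hcomp hcount hm hv hv1 (mul_inv_eq_iff_eq_mul.1 e)
  have hwv : m * w * m⁻¹ = v := by
    have := mem_centralizer_iff.1 h2 v hv
    rw [hw, show m * (m * v * m⁻¹) * m⁻¹ = m * m * v * (m * m)⁻¹ by group, ← this,
      mul_inv_cancel_right]
  refine MM_stab h hcomp hcount hm (mul_mem hv hwz) ?_ (mul_inv_eq_iff_eq_mul.1 ?_)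
  · intro e1
    exact e ((eq_inv_of_mul_eq_one_right e1).trans (cen_inv h.toFrame hv))
  · calc m * (v * w) * m⁻¹ = w * (m * w * m⁻¹) := by rw [hw]; group
      _ = w * v := by rw [hwv]
      _ = v * w := cen_comm h.toFrame hv hwz.1

theorem MM_two {k : ℕ} : ∀ {m : Γ}, m ∈ MM X T → m ^ 2 ^ k ∈ centralizer (cen T : Set Γ) →
    m ∈ centralizer (cen T : Set Γ) := by
  induction k with
  | zero => intro m _ h1; simpa using h1
  | succ k ih =>
    intro m hm h1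
    refine ih hm (MM_sq h hcomp hcount (pow_mem hm _) ?_)
    rwa [← pow_add, ← two_mul, ← pow_succ']

/-- no non-trivial element of odd prime order of `M` centralising `Z` is inverted outside `M`. -/
theorem inverted_false {d u : Γ} {l : ℕ} (hl : l.Prime) (hl2 : l ≠ 2) (hd : orderOf d = l)
    (hdM : d ∈ MM X T) (hdZ : d ∈ centralizer (cen T : Set Γ)) (hu : u ∈ X)
    (hun : u ∉ normalizer (T : Set Γ)) (hinv : u * d * u⁻¹ = d⁻¹) : False := by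
  obtain ⟨m, hm, hd₁⟩ := h.Modd d hdM ⟨l, hl, hl2, hd⟩
  set d₁ := m * d * m⁻¹ with hd₁d
  set u₁ := m * u * m⁻¹ with hu₁d
  have hu₁ : u₁ ∉ normalizer (T : Set Γ) := fun hc => hun (by
    have h1 : m⁻¹ * u₁ * m ∈ normalizer (T : Set Γ) :=
      mul_mem (mul_mem (inv_mem (mem_inf.1 hm).2) hc) (mem_inf.1 hm).2
    simpa [u₁, mul_assoc] using h1)
  have hu₁X : u₁ ∈ X := mul_mem (mul_mem hm.1 hu) (inv_mem hm.1)
  have hd₁n : d₁ ∈ normalizer (T : Set Γ) := mul_mem (mul_mem hm.2 hdM.2) (inv_mem hm.2)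
  have hd₁Z : ∀ z ∈ cen T, d₁ * z = z * d₁ := by
    intro z hz
    have h1 := mem_centralizer_iff.1 hdZ _ (conj_cen h.toFrame (inv_mem hm.2) hz)
    calc d₁ * z = m * (d * (m⁻¹ * z * m⁻¹⁻¹)) * m⁻¹ := by rw [hd₁d]; group
      _ = m * ((m⁻¹ * z * m⁻¹⁻¹) * d) * m⁻¹ := by rw [h1]
      _ = _ := by rw [hd₁d]; group
  have hTd := cent_of_fix_cen h hcomp hcount hd₁ hd₁n hd₁Z
  have hinv₁ : u₁ * d₁ * u₁⁻¹ = d₁⁻¹ := by
    rw [show d₁⁻¹ = m * d⁻¹ * m⁻¹ by rw [hd₁d]; group, ← hinv, hu₁d, hd₁d]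
    group
  set H : Subgroup Γ := X ⊓ centralizer ({d₁} : Set Γ) with hH
  have haH : a ∈ normalizer (H : Set Γ) := by
    refine mem_normalizer_of_forward fun x hx => ?_
    obtain ⟨hx1, hx2⟩ := mem_inf.1 hx
    refine mem_inf.2 ⟨conj_mem h.aX hx1, mem_centralizer_singleton_iff.2 ?_⟩
    have e1 : Commute a d₁ := (mem_centralizer_singleton_iff.1 hd₁.2).symm
    have e2 : Commute x d₁ := mem_centralizer_singleton_iff.1 hx2
    exact (e1.mul_left e2).mul_left e1.inv_left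
  have hTH : T ≤ H := fun t ht =>
    mem_inf.2 ⟨TX h.toFrame ht, mem_centralizer_singleton_iff.2 (hTd t ht).symm⟩
  have hne : H ≠ X := by
    intro e
    have h1 : u₁ * d₁ = d₁ * u₁ := mem_centralizer_singleton_iff.1 (mem_inf.1 (e.symm ▸ hu₁X)).2
    rw [h1, mul_inv_cancel_right] at hinv₁
    have h2 : orderOf d₁ = l := by
      rw [← hd, hd₁d]
      exact (MulAut.conj m).orderOf_eq d
    have h3 : d₁ ^ 2 = 1 := by rw [pow_two]; exact (eq_inv_iff_mul_eq_one).1 hinv₁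
    have h4 := Nat.le_of_dvd (by norm_num) (h2 ▸ orderOf_dvd_of_pow_eq_one h3)
    have := hl.two_le
    omega
  have hHn := (h.overT H inf_le_left hne haH hTH)
  obtain ⟨v, hv, hv1⟩ := exists_cen_ne_one h.toFrame
  refine hu₁ (h.strong₁ hv hv1 hu₁X (hHn (mem_inf.2 ⟨?_, ?_⟩))).1
  · exact mul_mem (mul_mem hu₁X (TX h.toFrame hv.1)) (inv_mem hu₁X)
  · rw [mem_centralizer_singleton_iff]
    have h1 : u₁ * d₁⁻¹ * u₁⁻¹ = d₁ := by
      rw [show u₁ * d₁⁻¹ * u₁⁻¹ = (u₁ * d₁ * u₁⁻¹)⁻¹ by group, hinv₁, inv_inv]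
    have h2 : Commute v d₁⁻¹ := Commute.inv_right (Commute.symm (hd₁Z v hv : Commute d₁ v))
    calc u₁ * v * u₁⁻¹ * d₁ = u₁ * v * u₁⁻¹ * (u₁ * d₁⁻¹ * u₁⁻¹) := by rw [h1]
      _ = u₁ * (v * d₁⁻¹) * u₁⁻¹ := by group
      _ = u₁ * (d₁⁻¹ * v) * u₁⁻¹ := by rw [h2.eq]
      _ = (u₁ * d₁⁻¹ * u₁⁻¹) * (u₁ * v * u₁⁻¹) := by group
      _ = _ := by rw [h1]

/-- a non-trivial element of odd order in `M`, centralising `Z`, is not inverted outside `M`. -/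
theorem inverted_eq_one {d u : Γ} (hodd : Odd (orderOf d)) (hdM : d ∈ MM X T)
    (hdZ : d ∈ centralizer (cen T : Set Γ)) (hu : u ∈ X) (hun : u ∉ normalizer (T : Set Γ))
    (hinv : u * d * u⁻¹ = d⁻¹) : d = 1 := by
  by_contra hd
  obtain ⟨l, k, hl, hld, hk⟩ := exists_prime_pow hd
  have hl2 : l ≠ 2 := by
    rintro rfl
    obtain ⟨i, hi⟩ := hodd
    omega
  exact inverted_false h hcomp hcount hl hl2 hk (pow_mem hdM k) (pow_mem hdZ k) hu hun
    (inv_conj_of_inverted hinv (pow_mem (mem_zpowers d) k))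

end Cfsg.Agent.Flavell8.Gen.CoreD
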