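import Mathlib
import Cfsg.Agent.Lib.FlavellGen8CoreComm

/-!
Piece D of the coprime action theorem (`Flavell8.Gen`): swappers on `X / M`, elements of `C_M(Z)` commuting
with a conjugate outside `M` are central, `|Z| = 2 ^ n`, and the fixed points of an inverted element.
-/

set_option autoImplicit false
set_option linter.unusedSectionVars false
set_option linter.style.haveILetI false
set_option linter.unusedVariables false

open scoped commutatorElement
open scoped Classical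

namespace Cfsg.Agent.Flavell8.Gen.CoreD

open Subgroup Cfsg.Agent.CoprimeAction

universe u

variable {Γ : Type u} [Group Γ] [Finite Γ]

variable {p r n : ℕ} {V X S W T : Subgroup Γ} {a : Γ}

/-- `C_M(Z)`. -/
abbrev NN (X T : Subgroup Γ) : Subgroup Γ := MM X T ⊓ centralizer (cen T : Set Γ)

variable (h : Clean p r n V X S W T a) (hcomp : CompExists n T a) (hcount : CompCount n T a)
include h

theorem out_spec {g : Γ} (hg : g ∈ X) {η : Γ ⧸ MM X T} (he : (g : Γ ⧸ MM X T) = η) :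
    g⁻¹ * η.out ∈ MM X T ∧ η.out ∈ X := by
  have h1 : g⁻¹ * η.out ∈ MM X T := QuotientGroup.eq.1 (he.trans (QuotientGroup.out_eq' η).symm)
  refine ⟨h1, ?_⟩
  simpa using mul_mem hg (mem_inf.1 h1).1

theorem isK_inv_mul {u u' : Γ} (hu : IsK X T u) (hu' : IsK X T u')
    (he : (u : Γ ⧸ MM X T) = (u' : Γ ⧸ MM X T)) : u * u' ∈ MM X T := by
  have h1 := QuotientGroup.eq.1 he
  rwa [isK_inv h hu] at h1

theorem mk_ne {g : Γ} (hg : g ∈ X) (hgn : g ∉ normalizer (T : Set Γ)) :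
    (g : Γ ⧸ MM X T) ≠ ((1 : Γ) : Γ ⧸ MM X T) := by
  intro e
  have := QuotientGroup.eq.1 e
  rw [mul_one, inv_mem_iff] at this
  exact hgn (mem_inf.1 this).2

theorem notMem_of_mk_ne {g : Γ} (hg : g ∈ X)
    (hne : (g : Γ ⧸ MM X T) ≠ ((1 : Γ) : Γ ⧸ MM X T)) : g ∉ normalizer (T : Set Γ) := fun hn =>
  hne (QuotientGroup.eq.2 (by rw [mul_one]; exact inv_mem (mem_inf.2 ⟨hg, hn⟩)))

include hcomp hcount

theorem swap_inj {u u' : Γ} (hu : IsK X T u) (hu' : IsK X T u') (hun : u ∉ normalizer (T : Set Γ))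
    (hd : u * u' ∈ NN X T) : u = u' := by
  obtain ⟨h1, h2⟩ := mem_inf.1 hd
  have := inverted_eq_one h hcomp hcount (odd_swap h hu hu' hun (mem_inf.1 h1).2) h1 h2
    (isK_mem h hu) hun (mul_inverted (isK_sq h hu) (isK_sq h hu'))
  calc u = u * (u' * u') := by rw [isK_sq h hu', mul_one]
    _ = u * u' * u' := (mul_assoc _ _ _).symm
    _ = u' := by rw [this, one_mul]

/-- for each point other than `M` there are two conjugates moving `M` to it. -/
theorem exists_swappers {g : Γ} (hg : g ∈ X) (hgn : g ∉ normalizer (T : Set Γ)) :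
    ∃ u u', IsK X T u ∧ u ∉ normalizer (T : Set Γ) ∧ IsK X T u' ∧ u' ∉ normalizer (T : Set Γ) ∧
      u ≠ u' ∧ u⁻¹ * g ∈ MM X T ∧ u'⁻¹ * g ∈ MM X T := by
  haveI : Fintype Γ := Fintype.ofFinite _
  haveI : Fintype (Γ ⧸ MM X T) := Fintype.ofFinite _
  set π : Γ → Γ ⧸ MM X T := fun x => (x : Γ ⧸ MM X T) with hπ
  set P : Finset (Γ ⧸ MM X T) :=
    Finset.univ.filter fun η => ∃ g ∈ X, g ∉ normalizer (T : Set Γ) ∧ π g = η with hP
  have memP : ∀ η, η ∈ P ↔ ∃ g ∈ X, g ∉ normalizer (T : Set Γ) ∧ π g = η := fun η => by simp [P]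
  set K : Finset Γ := Finset.univ.filter fun u => IsK X T u ∧ u ∉ normalizer (T : Set Γ) with hK
  have memK : ∀ u, u ∈ K ↔ IsK X T u ∧ u ∉ normalizer (T : Set Γ) := fun u => by simp [K]
  set Z' : Finset Γ := Finset.univ.filter fun z => z ∈ cen T ∧ z ≠ 1 with hZ'
  have memZ : ∀ z, z ∈ Z' ↔ z ∈ cen T ∧ z ≠ 1 := fun z => by simp [Z']
  have hmap : ∀ u ∈ K, π u ∈ P := fun u hu => by
    obtain ⟨h1, h2⟩ := (memK u).1 hu
    exact (memP _).2 ⟨u, isK_mem h h1, h2, rfl⟩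
  have hlow : P.card * Z'.card ≤ K.card := by
    rw [← Finset.card_product]
    refine Finset.card_le_card_of_injOn (fun x => x.1.out * x.2 * x.1.out⁻¹) ?_ ?_
    · intro x hx
      obtain ⟨hx1, hx2⟩ := Finset.mem_product.1 (Finset.mem_coe.1 hx)
      obtain ⟨g', hg', hgn', he⟩ := (memP _).1 hx1
      obtain ⟨hz, hz1⟩ := (memZ _).1 hx2
      obtain ⟨h3, h4⟩ := out_spec h hg' he
      have hne : x.1.out ∉ normalizer (T : Set Γ) := fun hc => hgn' (by
        have h5 : x.1.out * (g'⁻¹ * x.1.out)⁻¹ ∈ normalizer (T : Set Γ) :=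
          mul_mem hc (inv_mem (mem_inf.1 h3).2)
        simpa [mul_assoc] using h5)
      exact Finset.mem_coe.2 ((memK _).2
        ⟨isK_conj h (isK_cen h hz hz1) h4, conj_notMem h hz hz1 h4 hne⟩)
    · intro x hx y hy hxy
      obtain ⟨hx1, hx2⟩ := Finset.mem_product.1 (Finset.mem_coe.1 hx)
      obtain ⟨hy1, hy2⟩ := Finset.mem_product.1 (Finset.mem_coe.1 hy)
      obtain ⟨g₁, hg₁, -, he₁⟩ := (memP _).1 hx1
      obtain ⟨g₂, hg₂, -, he₂⟩ := (memP _).1 hy1
      obtain ⟨hz, hz1⟩ := (memZ _).1 hx2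
      obtain ⟨hw, hw1⟩ := (memZ _).1 hy2
      have hxX := (out_spec h hg₁ he₁).2
      have hyX := (out_spec h hg₂ he₂).2
      have hxy' : x.1.out * x.2 * x.1.out⁻¹ = y.1.out * y.2 * y.1.out⁻¹ := hxy
      have h5 : y.1.out⁻¹ * x.1.out * x.2 * (y.1.out⁻¹ * x.1.out)⁻¹ = y.2 := by
        rw [show y.1.out⁻¹ * x.1.out * x.2 * (y.1.out⁻¹ * x.1.out)⁻¹ =
          y.1.out⁻¹ * (x.1.out * x.2 * x.1.out⁻¹) * y.1.out by group, hxy']
        group
      have h6 := (h.strong₁ hz hz1 (mul_mem (inv_mem hyX) hxX)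
        (by rw [h5]; exact le_normalizer hw.1)).1
      have e1 : y.1 = x.1 := by
        rw [← QuotientGroup.out_eq' y.1, ← QuotientGroup.out_eq' x.1]
        exact QuotientGroup.eq.2 (mem_inf.2 ⟨mul_mem (inv_mem hyX) hxX, h6⟩)
      rw [e1] at hxy'
      exact Prod.ext e1.symm (mul_left_cancel (mul_right_cancel hxy'))
  have hfib : ∀ η ∈ P, (K.filter fun u => π u = η).card ≤ Z'.card := by
    intro η _
    rcases (K.filter fun u => π u = η).eq_empty_or_nonempty with e | ⟨u₀, hu₀⟩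
    · rw [e, Finset.card_empty]; exact Nat.zero_le _
    obtain ⟨hu₀K, hu₀e⟩ := Finset.mem_filter.1 hu₀
    obtain ⟨hk₀, hn₀⟩ := (memK _).1 hu₀K
    obtain ⟨v, hv, hv1⟩ := exists_cen_ne_one h.toFrame
    refine Finset.card_le_card_of_injOn (fun u => u₀ * u * v * (u₀ * u)⁻¹) ?_ ?_
    · intro u hu
      obtain ⟨huK, hue⟩ := Finset.mem_filter.1 (Finset.mem_coe.1 hu)
      have hm : u₀ * u ∈ MM X T := isK_inv_mul h hk₀ ((memK _).1 huK).1 (hu₀e.trans hue.symm)
      exact Finset.mem_coe.2 ((memZ _).2 ⟨conj_cen h.toFrame (mem_inf.1 hm).2 hv,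
        fun e => hv1 (conj_eq_one_iff.1 e)⟩)
    · intro u₁ hu₁ u₂ hu₂ he
      obtain ⟨h₁, e₁⟩ := Finset.mem_filter.1 (Finset.mem_coe.1 hu₁)
      obtain ⟨h₂, e₂⟩ := Finset.mem_filter.1 (Finset.mem_coe.1 hu₂)
      obtain ⟨k₁, n₁⟩ := (memK _).1 h₁
      obtain ⟨k₂, n₂⟩ := (memK _).1 h₂
      have hm : u₁ * u₂ ∈ MM X T := isK_inv_mul h k₁ k₂ (e₁.trans e₂.symm)
      refine swap_inj h hcomp hcount k₁ k₂ n₁ (mem_inf.2 ⟨hm, MM_stab h hcomp hcount hm hv hv1 ?_⟩)
      have he' : u₀ * u₁ * v * (u₀ * u₁)⁻¹ = u₀ * u₂ * v * (u₀ * u₂)⁻¹ := he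
      refine mul_inv_eq_iff_eq_mul.1 ?_
      calc u₁ * u₂ * v * (u₁ * u₂)⁻¹ = u₁ * u₀⁻¹ * (u₀ * u₂ * v * (u₀ * u₂)⁻¹) * u₀ * u₁⁻¹ := by
            group
        _ = u₁ * u₀⁻¹ * (u₀ * u₁ * v * (u₀ * u₁)⁻¹) * u₀ * u₁⁻¹ := by rw [he']
        _ = (u₁ * u₁) * v * (u₁ * u₁)⁻¹ := by group
        _ = v := by rw [isK_sq h k₁]; group
  have hZ2 : 2 ≤ Z'.card := by
    have h1 : Z'.card + 1 = Nat.card (cen T) := by
      have e : Z' = (Finset.univ.filter fun z => z ∈ cen T).erase 1 := by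
        ext z
        simp [Z', and_comm]
      rw [e, Finset.card_erase_add_one (by simp), Nat.card_eq_fintype_card, Fintype.card_subtype]
    have := two_lt h
    omega
  have hgP : π g ∈ P := (memP _).2 ⟨g, hg, hgn, rfl⟩
  have hbig : 1 < (K.filter fun u => π u = π g).card := by
    by_contra hc
    have hlt : K.card < P.card * Z'.card := by
      rw [Finset.card_eq_sum_card_fiberwise (f := π) (t := P) hmap]
      calc ∑ η ∈ P, (K.filter fun u => π u = η).card < ∑ _η ∈ P, Z'.card :=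
            Finset.sum_lt_sum hfib ⟨π g, hgP, by omega⟩
        _ = _ := by simp
    omega
  obtain ⟨u, hu, u', hu', hne⟩ := Finset.one_lt_card.1 hbig
  obtain ⟨hu1, hu2⟩ := Finset.mem_filter.1 hu
  obtain ⟨hu1', hu2'⟩ := Finset.mem_filter.1 hu'
  exact ⟨u, u', ((memK u).1 hu1).1, ((memK u).1 hu1).2, ((memK u').1 hu1').1, ((memK u').1 hu1').2,
    hne, QuotientGroup.eq.1 hu2, QuotientGroup.eq.1 hu2'⟩

/-- **Lemma I.** An element of `C_M(Z)` commuting with a conjugate outside `M` is central in `X`. -/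
theorem central_of_commute {x u : Γ} (hx : x ∈ NN X T) (hu : IsK X T u)
    (hun : u ∉ normalizer (T : Set Γ)) (hxu : x * u = u * x) : x ∈ YY X := by
  haveI : Fintype Γ := Fintype.ofFinite _
  haveI : Fintype (Γ ⧸ MM X T) := Fintype.ofFinite _
  obtain ⟨hxM, hxZ⟩ := mem_inf.1 hx
  have hxX := (mem_inf.1 hxM).1
  let AllAt : Γ → Prop := fun g => ∀ z ∈ cen T, x * (g * z * g⁻¹) = g * z * g⁻¹ * x
  have all_congr : ∀ g m : Γ, m ∈ MM X T → AllAt g → AllAt (g * m) := by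
    intro g m hm hall z hz
    have := hall _ (conj_cen h.toFrame (mem_inf.1 hm).2 hz)
    rw [show g * m * z * (g * m)⁻¹ = g * (m * z * m⁻¹) * g⁻¹ by group]
    exact this
  have all_of : ∀ w g₀ : Γ, w ≠ 1 → g₀ ∈ X → g₀ * w * g₀⁻¹ ∈ cen T → x * w = w * x →
      AllAt g₀⁻¹ := by
    intro w g₀ hw hg₀ hgw hc z hz
    have h1 := commute_mem h hw hg₀ hgw hxX hc
    have h2 : g₀ * x * g₀⁻¹ ∈ MM X T :=
      mem_inf.2 ⟨mul_mem (mul_mem hg₀ hxX) (inv_mem hg₀), h1⟩
    have h3 := MM_stab h hcomp hcount h2 hgw (fun e => hw (conj_eq_one_iff.1 e)) (by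
      rw [show g₀ * x * g₀⁻¹ * (g₀ * w * g₀⁻¹) = g₀ * (x * w) * g₀⁻¹ by group, hc]
      group)
    have h4 : z * (g₀ * x * g₀⁻¹) = g₀ * x * g₀⁻¹ * z := mem_centralizer_iff.1 h3 z hz
    calc x * (g₀⁻¹ * z * g₀⁻¹⁻¹) = g₀⁻¹ * (g₀ * x * g₀⁻¹ * z) * g₀ := by group
      _ = g₀⁻¹ * (z * (g₀ * x * g₀⁻¹)) * g₀ := by rw [h4]
      _ = _ := by group
  set π : Γ → Γ ⧸ MM X T := fun y => (y : Γ ⧸ MM X T) with hπ
  set P : Finset (Γ ⧸ MM X T) :=
    Finset.univ.filter fun η => ∃ g ∈ X, g ∉ normalizer (T : Set Γ) ∧ AllAt g ∧ π g = η with hP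
  have memP : ∀ η, η ∈ P ↔ ∃ g ∈ X, g ∉ normalizer (T : Set Γ) ∧ AllAt g ∧ π g = η :=
    fun η => by simp [P]
  set Z' : Finset Γ := Finset.univ.filter fun z => z ∈ cen T ∧ z ≠ 1 with hZ'
  have memZ : ∀ z, z ∈ Z' ↔ z ∈ cen T ∧ z ≠ 1 := fun z => by simp [Z']
  obtain ⟨hu1, g₀, hg₀, hg₀u⟩ := hu
  have hP0 : P.Nonempty := by
    refine ⟨π g₀⁻¹, (memP _).2 ⟨g₀⁻¹, inv_mem hg₀, fun hc => hun ?_, all_of u g₀ hu1 hg₀ hg₀u hxu,
      rfl⟩⟩
    have h2 := le_normalizer (conj_cen h.toFrame hc hg₀u).1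
    simpa [mul_assoc] using h2
  set F : (Γ ⧸ MM X T) × Γ → Γ := fun y => y.1.out * y.2 * y.1.out⁻¹ with hF
  have hspec : ∀ y ∈ P ×ˢ Z', IsK X T (F y) ∧ F y ∉ normalizer (T : Set Γ) ∧
      x * F y = F y * x := by
    intro y hy
    obtain ⟨hy1, hy2⟩ := Finset.mem_product.1 hy
    obtain ⟨g, hg, hgn, hall, he⟩ := (memP _).1 hy1
    obtain ⟨hz, hz1⟩ := (memZ _).1 hy2
    obtain ⟨h3, h4⟩ := out_spec h hg he
    have hne : y.1.out ∉ normalizer (T : Set Γ) := fun hc => hgn (by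
      have h5 : y.1.out * (g⁻¹ * y.1.out)⁻¹ ∈ normalizer (T : Set Γ) :=
        mul_mem hc (inv_mem (mem_inf.1 h3).2)
      simpa [mul_assoc] using h5)
    refine ⟨isK_conj h (isK_cen h hz hz1) h4, conj_notMem h hz hz1 h4 hne, ?_⟩
    have h6 := all_congr g _ h3 hall y.2 hz
    rwa [mul_inv_cancel_left] at h6
  have hmaps : ∀ y ∈ P ×ˢ Z', π (F y) ∈ P := by
    intro y hy
    obtain ⟨hk, hn, hc⟩ := hspec y hy
    refine (memP _).2 ⟨F y, isK_mem h hk, hn, fun z hz => ?_, rfl⟩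
    have h7 : z * x = x * z := mem_centralizer_iff.1 hxZ z hz
    have h8 : Commute x (F y) := hc
    exact ((h8.mul_right (show Commute x z from h7.symm)).mul_right h8.inv_right)
  obtain ⟨y₁, hy₁, y₂, hy₂, hne, he⟩ := Finset.exists_ne_map_eq_of_card_lt_of_maps_to (t := P) (by
    rw [Finset.card_product]
    have h1 : Z'.card + 1 = Nat.card (cen T) := by
      have e : Z' = (Finset.univ.filter fun z => z ∈ cen T).erase 1 := by
        ext z
        simp [Z', and_comm]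
      rw [e, Finset.card_erase_add_one (by simp), Nat.card_eq_fintype_card, Fintype.card_subtype]
    have := two_lt h
    have := hP0.card_pos
    nlinarith) hmaps
  obtain ⟨hk₁, hn₁, hc₁⟩ := hspec y₁ hy₁
  obtain ⟨hk₂, hn₂, hc₂⟩ := hspec y₂ hy₂
  have hFne : F y₁ ≠ F y₂ := by
    intro e
    obtain ⟨ha₁, hb₁⟩ := Finset.mem_product.1 hy₁
    obtain ⟨ha₂, hb₂⟩ := Finset.mem_product.1 hy₂
    obtain ⟨g₁, hg₁, -, -, he₁⟩ := (memP _).1 ha₁
    obtain ⟨g₂, hg₂, -, -, he₂⟩ := (memP _).1 ha₂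
    obtain ⟨hz, hz1⟩ := (memZ _).1 hb₁
    obtain ⟨hw, hw1⟩ := (memZ _).1 hb₂
    have hxX₁ := (out_spec h hg₁ he₁).2
    have hxX₂ := (out_spec h hg₂ he₂).2
    have e' : y₁.1.out * y₁.2 * y₁.1.out⁻¹ = y₂.1.out * y₂.2 * y₂.1.out⁻¹ := e
    have h5 : y₂.1.out⁻¹ * y₁.1.out * y₁.2 * (y₂.1.out⁻¹ * y₁.1.out)⁻¹ = y₂.2 := by
      rw [show y₂.1.out⁻¹ * y₁.1.out * y₁.2 * (y₂.1.out⁻¹ * y₁.1.out)⁻¹ =
        y₂.1.out⁻¹ * (y₁.1.out * y₁.2 * y₁.1.out⁻¹) * y₂.1.out by group, e']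
      group
    have h6 := (h.strong₁ hz hz1 (mul_mem (inv_mem hxX₂) hxX₁)
      (by rw [h5]; exact le_normalizer hw.1)).1
    have e1 : y₂.1 = y₁.1 := by
      rw [← QuotientGroup.out_eq' y₂.1, ← QuotientGroup.out_eq' y₁.1]
      exact QuotientGroup.eq.2 (mem_inf.2 ⟨mul_mem (inv_mem hxX₂) hxX₁, h6⟩)
    rw [e1] at e'
    exact hne (Prod.ext e1.symm (mul_left_cancel (mul_right_cancel e')))
  have hdM : F y₁ * F y₂ ∈ MM X T := isK_inv_mul h hk₁ hk₂ he
  have hd1 : F y₁ * F y₂ ≠ 1 := fun e => hFne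
    ((eq_inv_of_mul_eq_one_left e).trans (isK_inv h hk₂))
  have hodd := odd_swap h hk₁ hk₂ hn₁ (mem_inf.1 hdM).2
  obtain ⟨l, k, hl, hld, hk⟩ := exists_prime_pow hd1
  have hl2 : l ≠ 2 := by
    rintro rfl
    obtain ⟨i, hi⟩ := hodd
    omega
  set d := (F y₁ * F y₂) ^ k with hd
  have hdM' : d ∈ MM X T := pow_mem hdM k
  have hinv : F y₁ * d * (F y₁)⁻¹ = d⁻¹ := inv_conj_of_inverted
    (mul_inverted (isK_sq h hk₁) (isK_sq h hk₂)) (pow_mem (mem_zpowers _) k)
  have hdx : Commute x d :=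
    Commute.pow_right ((show Commute x (F y₁) from hc₁).mul_right (show Commute x (F y₂) from hc₂)) k
  have hdZ : d ∉ centralizer (cen T : Set Γ) := fun hz =>
    inverted_false h hcomp hcount hl hl2 hk hdM' hz (isK_mem h hk₁) hn₁ hinv
  obtain ⟨m, hm, hd₁⟩ := h.Modd d hdM' ⟨l, hl, hl2, hk⟩
  obtain ⟨hmX, hmn⟩ := mem_inf.1 hm
  set d₁ := m * d * m⁻¹ with hd₁d
  have hd₁n : d₁ ∈ normalizer (T : Set Γ) := mul_mem (mul_mem hmn (mem_inf.1 hdM').2) (inv_mem hmn)
  set x' := m * x * m⁻¹ with hx'd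
  have hx'M : x' ∈ MM X T := mul_mem (mul_mem hm hxM) (inv_mem hm)
  have hx'Z : ∀ z ∈ cen T, x' * z * x'⁻¹ = z := by
    intro z hz
    have h1 := mem_centralizer_iff.1 hxZ _ (conj_cen h.toFrame (inv_mem hmn) hz)
    calc x' * z * x'⁻¹ = m * (x * (m⁻¹ * z * m⁻¹⁻¹) * x⁻¹) * m⁻¹ := by rw [hx'd]; group
      _ = m * ((m⁻¹ * z * m⁻¹⁻¹) * x * x⁻¹) * m⁻¹ := by rw [h1]
      _ = z := by group
  obtain ⟨c, hc, t, ht, hcn, hct⟩ := h.Mdecomp _ hx'M
  have hcZ : ∀ z ∈ cen T, c * z = z * c := by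
    intro z hz
    have h1 := hx'Z z hz
    rw [hct, show c * t * z * (c * t)⁻¹ = c * (t * z * t⁻¹) * c⁻¹ by group,
      cen_conj_t h.toFrame hz ht] at h1
    exact mul_inv_eq_iff_eq_mul.1 h1
  have hcT := cent_of_fix_cen h hcomp hcount hc hcn hcZ
  have hd₁x' : Commute d₁ x' := by
    have h1 : d * x = x * d := hdx.eq.symm
    show m * d * m⁻¹ * (m * x * m⁻¹) = m * x * m⁻¹ * (m * d * m⁻¹)
    calc m * d * m⁻¹ * (m * x * m⁻¹) = m * (d * x) * m⁻¹ := by group
      _ = m * (x * d) * m⁻¹ := by rw [h1]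
      _ = _ := by group
  set c' := d₁ * c * d₁⁻¹ with hc'd
  have hc'n : c' ∈ normalizer (T : Set Γ) := mul_mem (mul_mem hd₁n hcn) (inv_mem hd₁n)
  have hc'a : c' ∈ fixA X a := mul_mem (mul_mem hd₁ hc) (inv_mem hd₁)
  have he1 : c' * (d₁ * t * d₁⁻¹) = c * t := by
    rw [← hct, hc'd, show d₁ * c * d₁⁻¹ * (d₁ * t * d₁⁻¹) = d₁ * (c * t) * d₁⁻¹ by group, ← hct,
      hd₁x'.eq, mul_inv_cancel_right]
  have he2 : c⁻¹ * c' = t * (d₁ * t * d₁⁻¹)⁻¹ := by
    calc c⁻¹ * c' = c⁻¹ * (c' * (d₁ * t * d₁⁻¹)) * (d₁ * t * d₁⁻¹)⁻¹ := by group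
      _ = c⁻¹ * (c * t) * (d₁ * t * d₁⁻¹)⁻¹ := by rw [he1]
      _ = _ := by group
  have hδ : d₁ * t * d₁⁻¹ * t⁻¹ ∈ cen T := by
    have h1 : t * (d₁ * t * d₁⁻¹)⁻¹ ∈ cen T := by
      rw [← h.Tfix]
      refine mem_inf.2 ⟨mul_mem ht (inv_mem (conj_mem hd₁n ht)), ?_⟩
      rw [← he2]
      exact (mem_inf.1 (mul_mem (inv_mem hc) hc'a)).2
    simpa [mul_assoc] using inv_mem h1
  have htZ : t ∈ cen T := by
    by_contra htn
    have htriv := fix_dich h hcomp hd₁ hd₁n ht htn hδ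
    have hZd := cen_of_triv h hcomp hd₁n htriv
    refine hdZ (mem_centralizer_iff.2 fun z hz => ?_)
    have h1 := hZd _ (conj_cen h.toFrame hmn hz)
    calc z * d = m⁻¹ * (m * z * m⁻¹ * d₁) * m := by rw [hd₁d]; group
      _ = m⁻¹ * (d₁ * (m * z * m⁻¹)) * m := by rw [h1]
      _ = _ := by rw [hd₁d]; group
  have hx'a : x' ∈ fixA X a := by
    rw [hct]
    exact mul_mem hc (cen_le_fixA h.toFrame htZ)
  have hx'T : ∀ s ∈ T, x' * s = s * x' := by
    intro s hs
    rw [hct, mul_assoc, ← cen_comm h.toFrame htZ hs, ← mul_assoc, hcT s hs, mul_assoc]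
  set H : Subgroup Γ := X ⊓ centralizer ({x'} : Set Γ) with hH
  have haH : a ∈ normalizer (H : Set Γ) := by
    refine mem_normalizer_of_forward fun y hy => ?_
    obtain ⟨hy1, hy2⟩ := mem_inf.1 hy
    refine mem_inf.2 ⟨conj_mem h.aX hy1, mem_centralizer_singleton_iff.2 ?_⟩
    have e1 : Commute a x' := (mem_centralizer_singleton_iff.1 hx'a.2).symm
    have e2 : Commute y x' := mem_centralizer_singleton_iff.1 hy2
    exact (e1.mul_left e2).mul_left e1.inv_left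
  have hTH : T ≤ H := fun s hs =>
    mem_inf.2 ⟨TX h.toFrame hs, mem_centralizer_singleton_iff.2 (hx'T s hs).symm⟩
  by_cases hHX : H = X
  · refine mem_inf.2 ⟨hxX, mem_centralizer_iff.2 fun y hy => ?_⟩
    have hy' : m * y * m⁻¹ ∈ H := hHX.symm ▸ mul_mem (mul_mem hmX hy) (inv_mem hmX)
    have h1 : m * y * m⁻¹ * x' = x' * (m * y * m⁻¹) :=
      mem_centralizer_singleton_iff.1 (mem_inf.1 hy').2
    calc y * x = m⁻¹ * (m * y * m⁻¹ * x') * m := by rw [hx'd]; group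
      _ = m⁻¹ * (x' * (m * y * m⁻¹)) * m := by rw [h1]
      _ = _ := by rw [hx'd]; group
  · have hHn := (h.overT H inf_le_left hHX haH hTH)
    have hu₁ : m * F y₁ * m⁻¹ ∈ H := by
      refine mem_inf.2 ⟨mul_mem (mul_mem hmX (isK_mem h hk₁)) (inv_mem hmX),
        mem_centralizer_singleton_iff.2 ?_⟩
      rw [hx'd, show m * F y₁ * m⁻¹ * (m * x * m⁻¹) = m * (F y₁ * x) * m⁻¹ by group, ← hc₁]
      group
    have h1 : m⁻¹ * (m * F y₁ * m⁻¹) * m ∈ normalizer (T : Set Γ) :=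
      mul_mem (mul_mem (inv_mem hmn) (hHn hu₁)) hmn
    exact absurd (by simpa [mul_assoc] using h1) hn₁

theorem central_le_NN {y : Γ} (hy : y ∈ YY X) : y ∈ NN X T := by
  obtain ⟨hyX, hyc⟩ := mem_inf.1 hy
  obtain ⟨v, hv, hv1⟩ := exists_cen_ne_one h.toFrame
  refine mem_inf.2 ⟨mem_inf.2 ⟨hyX, h.centZ₁ hv hv1 (mem_inf.2 ⟨hyX,
    mem_centralizer_singleton_iff.2 ?_⟩)⟩, mem_centralizer_iff.2 fun z hz => ?_⟩
  · exact (mem_centralizer_iff.1 hyc v (TX h.toFrame hv.1)).symm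
  · exact mem_centralizer_iff.1 hyc z (TX h.toFrame hz.1)

theorem cen_not_central {v : Γ} (hv : v ∈ cen T) (hv1 : v ≠ 1) : v ∉ YY X := fun hy =>
  h.notCentral v hv hv1 (mem_inf.1 hy).2

/-- all involutions of `T` lie in `Z`. -/
theorem inv_T {x : Γ} (hx : x ∈ T) (hx2 : x * x = 1) : x ∈ cen T := by
  haveI : Fact (Nat.Prime 2) := ⟨Nat.prime_two⟩
  by_contra hxn
  have hx1 : x ≠ 1 := fun e => hxn (e ▸ one_mem _)
  have hxX := TX h.toFrame hx
  have hxN : x ∈ NN X T := mem_inf.2 ⟨T_le_MM h.toFrame hx, mem_centralizer_iff.2 fun z hz =>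
    (cen_comm h.toFrame hz hx).symm⟩
  have hxY : x ∉ YY X := fun hy => hxn ⟨hx, mem_centralizer_iff.2 fun t ht =>
    mem_centralizer_iff.1 (mem_inf.1 hy).2 t (TX h.toFrame ht)⟩
  have hcx : ∀ y ∈ X, y * x = x * y → y ∈ normalizer (T : Set Γ) := by
    intro y hy hc
    by_contra hyn
    obtain ⟨v, hv, hv1⟩ := exists_cen_ne_one h.toFrame
    refine hxY (central_of_commute h hcomp hcount hxN (isK_conj h (isK_cen h hv hv1) hy)
      (conj_notMem h hv hv1 hy hyn) ?_)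
    have c1 : Commute x y := hc.symm
    have c2 : Commute x v := (cen_comm h.toFrame hv hx)
    exact ((c1.mul_right c2).mul_right c1.inv_right)
  obtain ⟨g, hg, hgn⟩ := exists_notMem_norm h.toFrame
  obtain ⟨v, hv, hv1⟩ := exists_cen_ne_one h.toFrame
  set u := g * v * g⁻¹ with hu'
  have hu : IsK X T u := isK_conj h (isK_cen h hv hv1) hg
  have hun : u ∉ normalizer (T : Set Γ) := conj_notMem h hv hv1 hg hgn
  have husq := isK_sq h hu
  have hxu := mul_inverted hx2 husq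
  rcases Nat.even_or_odd (orderOf (x * u)) with he | hodd
  swap
  · obtain ⟨e, he, hev⟩ := conj_of_odd hx2 husq hodd
    have heX : e ∈ X := (zpowers_le.2 (mul_mem hxX (isK_mem h hu))) he
    have hxK : IsK X T x := by
      have := isK_conj h hu (inv_mem heX)
      rwa [show e⁻¹ * u * e⁻¹⁻¹ = x by rw [← hev]; group] at this
    exact hxn (isK_norm h hxK (le_normalizer hx))
  set d := x * u with hd
  have hdX : d ∈ X := mul_mem hxX (isK_mem h hu)
  obtain ⟨k, m, hm, hkm⟩ := Nat.exists_eq_two_pow_mul_odd (orderOf_pos d).ne'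
  obtain ⟨k, rfl⟩ : ∃ k', k = k' + 1 := by
    rcases k with _ | k
    · rw [hkm, pow_zero, one_mul] at he
      exact absurd hm (Nat.not_odd_iff_even.2 he)
    · exact ⟨k, rfl⟩
  have hmpos : 0 < m := by
    obtain ⟨i, hi⟩ := hm
    omega
  set j := d ^ (2 ^ k * m) with hj
  have hjj : j * j = 1 := by
    rw [hj, ← pow_add, show 2 ^ k * m + 2 ^ k * m = orderOf d by rw [hkm, pow_succ]; ring,
      pow_orderOf_eq_one]
  have hj1 : j ≠ 1 := by
    intro e
    have h1 := Nat.le_of_dvd (by positivity) (orderOf_dvd_of_pow_eq_one e)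
    rw [hkm, pow_succ] at h1
    nlinarith [Nat.two_pow_pos k]
  have hjinv : j⁻¹ = j := inv_eq_of_mul_eq_one_right hjj
  have hjx : x * j = j * x := by
    rw [← mul_inv_eq_iff_eq_mul, inv_conj_of_inverted hxu (pow_mem (mem_zpowers d) _), hjinv]
  have hju : u * j = j * u := by
    rw [← mul_inv_eq_iff_eq_mul,
      inv_conj_of_inverted (mul_inverted' hx2 husq) (pow_mem (mem_zpowers d) _), hjinv]
  have hjX : j ∈ X := pow_mem hdX _
  have hjM : j ∈ MM X T := mem_inf.2 ⟨hjX, hcx j hjX hjx.symm⟩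
  have hjN : j ∈ NN X T := mem_inf.2 ⟨hjM, MM_sq h hcomp hcount hjM (by
    rw [hjj]; exact one_mem _)⟩
  have hjY := central_of_commute h hcomp hcount hjN hu hun hju.symm
  -- the order of `d` is twice an odd number
  have hk0 : k = 0 := by
    by_contra hk
    obtain ⟨k, rfl⟩ : ∃ k', k = k' + 1 := ⟨k - 1, by omega⟩
    have hod : orderOf (d ^ m) = 2 ^ (k + 2) := by
      rw [orderOf_pow_of_dvd hmpos.ne' ⟨2 ^ (k + 2), by rw [hkm]; ring⟩, hkm,
        Nat.mul_div_cancel _ hmpos]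
    have hdm : u * d ^ m * u⁻¹ = (d ^ m)⁻¹ :=
      inv_conj_of_inverted (mul_inverted' hx2 husq) (pow_mem (mem_zpowers d) _)
    have hP : IsPGroup 2 (zpowers u ⊔ zpowers (d ^ m) : Subgroup Γ) := by
      refine IsPGroup.to_sup_of_normal_right' ?_ ?_ ?_
      · refine IsPGroup.of_card (n := 1) ?_
        rw [Nat.card_zpowers, pow_one]
        exact orderOf_eq_prime (by rw [pow_two, husq]) hu.1
      · refine IsPGroup.of_card (n := k + 2) ?_
        rw [Nat.card_zpowers, hod]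
      · rw [zpowers_le]
        refine mem_normalizer_of_forward fun y hy => ?_
        obtain ⟨i, rfl⟩ := mem_zpowers_iff.1 hy
        rw [← conj_zpow, hdm]
        exact zpow_mem (inv_mem (mem_zpowers _)) i
    have hPX : (zpowers u ⊔ zpowers (d ^ m) : Subgroup Γ) ≤ X :=
      sup_le (by rw [zpowers_le]; exact isK_mem h hu) (by rw [zpowers_le]; exact pow_mem hdX m)
    obtain ⟨g', hg', hgW⟩ := conj_into_W h.toFrame hPX hP
    have z1 : g' * u * g'⁻¹ ∈ cen T :=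
      isK_norm h (isK_conj h hu hg') (h.WT (hgW _ (mem_sup_left (mem_zpowers u))))
    set D := g' * d ^ m * g'⁻¹ with hD
    have hDM : D ∈ MM X T := mem_inf.2 ⟨mul_mem (mul_mem hg' (pow_mem hdX m)) (inv_mem hg'),
      h.WT (hgW _ (mem_sup_right (mem_zpowers _)))⟩
    have hDZ := MM_two h hcomp hcount (k := k + 2) hDM (by
      rw [hD, conj_pow, ← hod, pow_orderOf_eq_one, mul_one, mul_inv_cancel]
      exact one_mem _)
    have h1 : g' * u * g'⁻¹ * D = D * (g' * u * g'⁻¹) := mem_centralizer_iff.1 hDZ _ z1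
    have h2 : u * d ^ m = d ^ m * u := by
      calc u * d ^ m = g'⁻¹ * (g' * u * g'⁻¹ * D) * g' := by rw [hD]; group
        _ = g'⁻¹ * (D * (g' * u * g'⁻¹)) * g' := by rw [h1]
        _ = _ := by rw [hD]; group
    rw [h2, mul_inv_cancel_right] at hdm
    have h3 : (d ^ m) ^ 2 = 1 := by rw [pow_two]; exact eq_inv_iff_mul_eq_one.1 hdm
    have h4 := Nat.le_of_dvd (by norm_num) (hod ▸ orderOf_dvd_of_pow_eq_one h3)
    have := Nat.pow_le_pow_right (show 2 > 0 by norm_num) (show 2 ≤ k + 2 by omega)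
    omega
  subst hk0
  rw [pow_zero, one_mul] at hj
  have hjm : x * j * u = d ^ (m + 1) := by
    rw [pow_succ', ← hj, hd, mul_assoc, ← hju, ← mul_assoc]
  have hodd' : Odd (orderOf (x * j * u)) := by
    have h1 : (d ^ (m + 1)) ^ m = 1 := by
      obtain ⟨i, hi⟩ := hm
      rw [← pow_mul, show (m + 1) * m = orderOf d * (i + 1) by rw [hkm, hi]; ring, pow_mul,
        pow_orderOf_eq_one, one_pow]
    rw [hjm]
    exact hm.of_dvd_nat (orderOf_dvd_of_pow_eq_one h1)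
  have hxj2 : x * j * (x * j) = 1 := by
    rw [show x * j * (x * j) = x * (j * x) * j by group, ← hjx, ← mul_assoc, hx2, one_mul, hjj]
  obtain ⟨e, he, hev⟩ := conj_of_odd hxj2 husq hodd'
  have heX : e ∈ X := (zpowers_le.2 (mul_mem (mul_mem hxX hjX) (isK_mem h hu))) he
  have hxjK : IsK X T (x * j) := by
    have := isK_conj h hu (inv_mem heX)
    rwa [show e⁻¹ * u * e⁻¹⁻¹ = x * j by rw [← hev]; group] at this
  have hxjZ := isK_norm h hxjK (mul_mem (le_normalizer hx) (mem_inf.1 hjM).2)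
  have hjT : j ∈ T := by simpa using mul_mem (inv_mem hx) hxjZ.1
  exact cen_not_central h hcomp hcount ⟨hjT, mem_centralizer_iff.2 fun t ht =>
    mem_centralizer_iff.1 (mem_inf.1 hjY).2 t (TX h.toFrame ht)⟩ hj1 hjY

/-- `|Z| = 2 ^ n`. -/
theorem card_cen : Nat.card (cen T) = 2 ^ n := by
  haveI : Fintype (Subgroup Γ) := Fintype.ofFinite _
  haveI : Fintype Γ := Fintype.ofFinite _
  set L : Finset (Subgroup Γ) := Finset.univ.filter fun lam => ∃ R, Comp n T lam R a with hL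
  have memL : ∀ lam, lam ∈ L ↔ ∃ R, Comp n T lam R a := fun lam => by simp [L]
  obtain ⟨lam₀, R₀, hR₀⟩ := exists_comp h hcomp
  have hLpos : 0 < L.card := Finset.card_pos.2 ⟨lam₀, (memL _).2 ⟨R₀, hR₀⟩⟩
  obtain ⟨v, hv, hv1⟩ := exists_cen_ne_one h.toFrame
  set Zf : Finset Γ := Finset.univ.filter fun z => z ∈ cen T with hZf
  set Tf : Finset Γ := Finset.univ.filter fun x => x ∈ T with hTf
  set k := (L.filter fun lam => v ∈ lam).card with hk
  have hq : Zf.card = Nat.card (cen T) := by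
    rw [Nat.card_eq_fintype_card, Fintype.card_subtype]
  have ht : Tf.card = Nat.card T := by rw [Nat.card_eq_fintype_card, Fintype.card_subtype]
  have hval : ∀ z ∈ cen T, ((L.filter fun lam => z ∈ lam).card : ℤ) =
      k + if z = 1 then ((L.card : ℤ) - k) else 0 := by
    intro z hz
    by_cases hz1 : z = 1
    · subst hz1
      have : L.filter (fun lam => (1 : Γ) ∈ lam) = L :=
        Finset.filter_true_of_mem fun lam _ => one_mem _
      simp [this]
    · rw [if_neg hz1, add_zero]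
      obtain ⟨c, hc, hcn, hcz⟩ := cen_trans h hz hz1 hv hv1
      obtain ⟨c', hc', hcn', hcz'⟩ := cen_trans h hv hv1 hz hz1
      have key : ∀ (c : Γ) (z w : Γ), c ∈ fixA X a → c ∈ normalizer (T : Set Γ) →
          c * z * c⁻¹ = w →
          (L.filter fun lam => z ∈ lam).card ≤ (L.filter fun lam => w ∈ lam).card := by
        intro c z w hc hcn hcz
        refine Finset.card_le_card_of_injOn (fun lam => lam.map (MulAut.conj c).toMonoidHom) ?_ ?_
        · intro lam hlam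
          simp only [Finset.coe_filter, Set.mem_ofPred_eq, memL] at hlam ⊢
          obtain ⟨⟨R, hR⟩, hzl⟩ := hlam
          exact ⟨⟨_, conj_comp h hR hc hcn⟩, ⟨z, hzl, hcz⟩⟩
        · exact fun A _ B _ e => map_injective (MulAut.conj c).injective e
      exact_mod_cast le_antisymm (key c z v hc hcn hcz) (key c' v z hc' hcn' hcz')
  have hinv : Tf.filter (fun x => x * x = 1) = Zf := by
    ext x
    simp only [Tf, Zf, Finset.mem_filter, Finset.mem_univ, true_and]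
    exact ⟨fun ⟨h1, h2⟩ => inv_T h hcomp hcount h1 h2, fun hx => ⟨hx.1, h.Zexp x hx⟩⟩
  have hlamcard : ∀ lam ∈ L, 2 * (Zf.filter fun z => z ∈ lam).card = Zf.card := by
    intro lam hlam
    obtain ⟨R, hR⟩ := (memL lam).1 hlam
    have h1 := card_relIndex hR.lam_le
    rw [hR.lam_index] at h1
    have h2 : Zf.filter (fun z => z ∈ lam) = Finset.univ.filter fun z => z ∈ lam := by
      ext z
      simp only [Zf, Finset.mem_filter, Finset.mem_univ, true_and]
      exact ⟨fun hz => hz.2, fun hz => ⟨hR.lam_le hz, hz⟩⟩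
    rw [h2, hq, ← h1, Nat.card_eq_fintype_card (α := lam), Fintype.card_subtype, mul_comm]
  have hNlam : ∀ lam ∈ L, 2 * (Tf.filter fun x => x * x ∈ lam).card + 2 ^ n * Zf.card = Tf.card := by
    intro lam hlam
    obtain ⟨R, hR⟩ := (memL lam).1 hlam
    have := hcount lam R hR
    rw [rad_eq h hcomp hR, ← hq, ← ht] at this
    convert this using 3
    rw [← Set.ncard_coe_finset]
    congr 1
    ext x
    simp [Tf]
  have E1 : (2 : ℤ) * ((L.card - k) + k * Zf.card) = L.card * Zf.card := by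
    have h1 : ∑ z ∈ Zf, (L.filter fun lam => z ∈ lam).card =
        ∑ lam ∈ L, (Zf.filter fun z => z ∈ lam).card := card_sum_conj Zf L (fun z lam => z ∈ lam)
    have h2 : ((∑ z ∈ Zf, (L.filter fun lam => z ∈ lam).card : ℕ) : ℤ) =
        (L.card - k) + k * Zf.card := by
      push_cast
      rw [Finset.sum_congr rfl fun z hz => hval z (Finset.mem_filter.1 hz).2, Finset.sum_add_distrib,
        Finset.sum_const, nsmul_eq_mul, Finset.sum_ite_eq' Zf (1 : Γ),
        if_pos (by simp [Zf])]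
      ring
    rw [← h2, h1]
    have h3 : 2 * ∑ lam ∈ L, (Zf.filter fun z => z ∈ lam).card = L.card * Zf.card := by
      rw [Finset.mul_sum, Finset.sum_congr rfl hlamcard, Finset.sum_const, smul_eq_mul]
    exact_mod_cast h3
  have E2 : (2 : ℤ) * ((Zf.card : ℤ) * (L.card - k) + k * Tf.card) + L.card * (2 ^ n * Zf.card) =
      L.card * Tf.card := by
    have h1 : ∑ x ∈ Tf, (L.filter fun lam => x * x ∈ lam).card =
        ∑ lam ∈ L, (Tf.filter fun x => x * x ∈ lam).card :=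
      card_sum_conj Tf L (fun x lam => x * x ∈ lam)
    have h2 : ((∑ x ∈ Tf, (L.filter fun lam => x * x ∈ lam).card : ℕ) : ℤ) =
        (Zf.card : ℤ) * (L.card - k) + k * Tf.card := by
      push_cast
      rw [Finset.sum_congr rfl fun x hx => hval (x * x) (h.Tsq x (Finset.mem_filter.1 hx).2),
        Finset.sum_add_distrib, Finset.sum_const, nsmul_eq_mul, ← Finset.sum_filter, hinv,
        Finset.sum_const, nsmul_eq_mul]
      ring
    rw [← h2, h1]
    have h3 : 2 * (∑ lam ∈ L, (Tf.filter fun x => x * x ∈ lam).card) +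
        L.card * (2 ^ n * Zf.card) = L.card * Tf.card := by
      have h4 := Finset.sum_congr (rfl : L = L) hNlam
      rw [Finset.sum_add_distrib, Finset.sum_const, Finset.sum_const, ← Finset.mul_sum,
        smul_eq_mul, smul_eq_mul] at h4
      exact h4
    exact_mod_cast h3
  have hT : (Tf.card : ℤ) = 4 ^ n * Zf.card := by
    rw [ht, hq]
    exact_mod_cast card_T h hcomp
  rw [hT] at E2
  have hq2 : 2 < Zf.card := hq ▸ two_lt h
  have hkey : ((L.card : ℤ) * Zf.card) * (((2 : ℤ) ^ n + 1) * (2 ^ n - Zf.card)) = 0 := by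
    have h4 : (4 : ℤ) ^ n = 2 ^ n * 2 ^ n := by rw [← mul_pow]; norm_num
    rw [h4] at E2
    linear_combination (-((Zf.card : ℤ) - 1)) * E2 +
      (2 ^ n * 2 ^ n - 1) * (Zf.card : ℤ) * E1
  rcases mul_eq_zero.1 hkey with e | e
  · rcases mul_eq_zero.1 e with e | e
    · exact absurd (by exact_mod_cast e) hLpos.ne'
    · exact absurd (by exact_mod_cast e) (show Zf.card ≠ 0 by omega)
  · rcases mul_eq_zero.1 e with e | e
    · have : (0 : ℤ) < 2 ^ n := by positivity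
      omega
    · rw [← hq]
      have : (Zf.card : ℤ) = 2 ^ n := by linarith
      exact_mod_cast this

/-- the element and its conjugate by a swapper of its fixed points are inverse modulo the centre. -/
theorem mul_conj_central {x u : Γ} (hx : x ∈ MM X T) (hodd : Odd (orderOf x)) (hu : IsK X T u)
    (hun : u ∉ normalizer (T : Set Γ)) (hxu : u * x * u ∈ MM X T) : x * (u * x * u) ∈ YY X := by
  have husq := isK_sq h hu
  have huinv := isK_inv h hu
  have huX := isK_mem h hu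
  -- elements of `C_M(Z)` whose conjugate by `u` is also there are central
  have J0 : ∀ {u : Γ}, IsK X T u → u ∉ normalizer (T : Set Γ) → ∀ c ∈ NN X T,
      u * c * u ∈ NN X T → c ∈ YY X := by
    intro u hu hun c hc hcu
    obtain ⟨v, hv, hv1⟩ := exists_cen_ne_one h.toFrame
    refine central_of_commute h hcomp hcount hc (isK_conj h (isK_cen h hv hv1) (isK_mem h hu))
      (conj_notMem h hv hv1 (isK_mem h hu) hun) ?_
    have h1 : v * (u * c * u) = u * c * u * v := mem_centralizer_iff.1 (mem_inf.1 hcu).2 v hv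
    have husq := isK_sq h hu
    rw [isK_inv h hu]
    calc c * (u * v * u) = u * (u * c * u * v) * u := by
          simp only [← mul_assoc, husq, one_mul]
      _ = u * (v * (u * c * u)) * u := by rw [h1]
      _ = u * v * u * c := by
          simp only [mul_assoc, husq, mul_one]
  have cM : ∀ {m m' : Γ}, m ∈ MM X T → m' ∈ MM X T → ⁅m, m'⁆ ∈ NN X T := fun hm hm' =>
    mem_inf.2 ⟨by
      rw [commutatorElement_def]
      exact mul_mem (mul_mem (mul_mem hm hm') (inv_mem hm)) (inv_mem hm'),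
      MM_commutator h hcomp hcount hm hm'⟩
  have conjU : ∀ A B : Γ, u * ⁅A, B⁆ * u = ⁅u * A * u, u * B * u⁆ := by
    intro A B
    have := conjugate_commutatorElement A B u
    rwa [huinv] at this
  have uu : ∀ A : Γ, u * (u * A * u) * u = A := fun A => by
    simp only [← mul_assoc, husq, one_mul]
    rw [mul_assoc, husq, mul_one]
  set x' := u * x * u with hx'
  have hxX' : x ∈ X := (mem_inf.1 hx).1
  set c₀ := ⁅x', x⁆ with hc₀
  have hc₀Y : c₀ ∈ YY X := by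
    refine J0 hu hun _ (cM hxu hx) ?_
    rw [hc₀, conjU, hx', uu]
    exact cM hx hxu
  have hcom : ∀ y ∈ X, Commute y c₀ := fun y hy => mem_centralizer_iff.1 (mem_inf.1 hc₀Y).2 y hy
  have hrel : x' * x * x'⁻¹ = c₀ * x := by rw [hc₀, commutatorElement_def]; group
  have hsq : c₀ * c₀ = 1 := by
    have h1 : u * c₀ * u = c₀ := by
      rw [(hcom u huX).eq, mul_assoc, husq, mul_one]
    rw [hc₀, conjU, hx', uu] at h1
    rw [← commutatorElement_inv] at h1
    rw [hc₀]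
    exact inv_eq_iff_mul_eq_one.1 h1
  have hc₀1 : c₀ = 1 := by
    have h1 : c₀ ^ orderOf x = 1 := by
      have h2 := congrArg (· ^ orderOf x) hrel
      simp only [conj_pow, pow_orderOf_eq_one, mul_one, mul_inv_cancel,
        ((hcom x hxX').symm).mul_pow] at h2
      exact h2.symm
    obtain ⟨i, hi⟩ := hodd
    rwa [hi, pow_succ, pow_mul, pow_two, hsq, one_pow, one_mul] at h1
  set e := x * x' with he
  have heM : e ∈ MM X T := mul_mem hx hxu
  have hueu : u * e * u = e := by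
    have h1 : u * e * u = x' * x := by
      rw [he, hx']
      calc u * (x * (u * x * u)) * u = u * x * u * x * (u * u) := by group
        _ = _ := by rw [husq, mul_one]
    rw [h1, he]
    rw [hc₀1, one_mul] at hrel
    exact mul_inv_eq_iff_eq_mul.1 hrel
  have heu : e * u = u * e := by
    calc e * u = (u * u) * e * u := by rw [husq, one_mul]
      _ = u * (u * e * u) := by group
      _ = _ := by rw [hueu]
  obtain ⟨w, w', hw, hwn, hw', hwn', hne, hwu, hwu'⟩ :=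
    exists_swappers h hcomp hcount huX hun
  obtain ⟨u', hu', hun', hne', hmk⟩ : ∃ u', IsK X T u' ∧ u' ∉ normalizer (T : Set Γ) ∧ u' ≠ u ∧
      u'⁻¹ * u ∈ MM X T := by
    by_cases e1 : w = u
    · exact ⟨w', hw', hwn', fun e2 => hne (e1.trans e2.symm), hwu'⟩
    · exact ⟨w, hw, hwn, e1, hwu⟩
  set i := u * u' with hi
  have hiM : i ∈ MM X T := by
    have := inv_mem hmk
    rw [mul_inv_rev, inv_inv, huinv] at this
    exact this
  have hiodd : Odd (orderOf i) := odd_swap h hu hu' hun (mem_inf.1 hiM).2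
  have hiu : u * i * u = i⁻¹ := by
    have := mul_inverted husq (isK_sq h hu')
    rwa [huinv] at this
  set c₁ := ⁅e, i⁆ with hc₁
  have hc₁Y : c₁ ∈ YY X := by
    refine J0 hu hun _ (cM heM hiM) ?_
    rw [hc₁, conjU, hueu, hiu]
    exact cM heM (inv_mem hiM)
  have hcom₁ : ∀ y ∈ X, Commute y c₁ := fun y hy => mem_centralizer_iff.1 (mem_inf.1 hc₁Y).2 y hy
  have hrel₁ : e * i * e⁻¹ = c₁ * i := by rw [hc₁, commutatorElement_def]; group
  have hiX : i ∈ X := (mem_inf.1 hiM).1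
  have hsq₁ : c₁ * c₁ = 1 := by
    have h1 : u * c₁ * u = c₁ := by rw [(hcom₁ u huX).eq, mul_assoc, husq, mul_one]
    rw [hc₁, conjU, hueu, hiu] at h1
    have h2 : e * i⁻¹ * e⁻¹ = c₁ * i⁻¹ := by
      rw [hc₁, ← h1, commutatorElement_def]; group
    have h3 : (c₁ * i) * (c₁ * i⁻¹) = 1 := by
      rw [← hrel₁, ← h2]; group
    calc c₁ * c₁ = c₁ * (i * i⁻¹) * c₁ := by group
      _ = (c₁ * i) * (i⁻¹ * c₁) := by group
      _ = (c₁ * i) * (c₁ * i⁻¹) := by rw [(hcom₁ _ (inv_mem hiX)).eq]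
      _ = 1 := h3
  have hc₁1 : c₁ = 1 := by
    have h1 : c₁ ^ orderOf i = 1 := by
      have h2 := congrArg (· ^ orderOf i) hrel₁
      simp only [conj_pow, pow_orderOf_eq_one, mul_one, mul_inv_cancel,
        ((hcom₁ i hiX).symm).mul_pow] at h2
      exact h2.symm
    obtain ⟨j, hj⟩ := hiodd
    rwa [hj, pow_succ, pow_mul, pow_two, hsq₁, one_pow, one_mul] at h1
  have heu' : e * u' = u' * e := by
    have h1 : e * i = i * e := commutatorElement_eq_one_iff_mul_comm.1 hc₁1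
    have h2 : u' = u * i := by rw [hi, ← mul_assoc, husq, one_mul]
    rw [h2]
    exact (Commute.mul_right (show Commute e u from heu) (show Commute e i from h1))
  obtain ⟨hu1, g, hg, hgu⟩ := hu
  have heX : e ∈ X := (mem_inf.1 heM).1
  have he₀M : g * e * g⁻¹ ∈ MM X T := mem_inf.2
    ⟨mul_mem (mul_mem hg heX) (inv_mem hg), commute_mem h hu1 hg hgu heX heu⟩
  have he₀N : g * e * g⁻¹ ∈ NN X T := mem_inf.2 ⟨he₀M, MM_stab h hcomp hcount he₀M hgu
    (fun e1 => hu1 (conj_eq_one_iff.1 e1)) (by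
      rw [show g * e * g⁻¹ * (g * u * g⁻¹) = g * (e * u) * g⁻¹ by group, heu]; group)⟩
  have hn₁ : g * u' * g⁻¹ ∉ normalizer (T : Set Γ) := by
    intro hc
    have h1 := isK_norm h (isK_conj h hu' hg) hc
    have h2 : g * i * g⁻¹ ∈ cen T := by
      have := mul_mem hgu h1
      rw [hi]
      simpa [mul_assoc] using this
    have h3 := h.Zexp _ h2
    rw [show g * i * g⁻¹ * (g * i * g⁻¹) = g * (i * i) * g⁻¹ by group, conj_eq_one_iff] at h3
    have h4 : orderOf i ∣ 2 := orderOf_dvd_of_pow_eq_one (by rw [pow_two]; exact h3)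
    rcases (Nat.dvd_prime Nat.prime_two).1 h4 with h5 | h5
    · refine hne' ?_
      have := orderOf_eq_one_iff.1 h5
      rw [hi] at this
      rw [eq_inv_of_mul_eq_one_right this, huinv]
    · obtain ⟨j, hj⟩ := hiodd
      omega
  have he₀Y := central_of_commute h hcomp hcount he₀N (isK_conj h hu' hg) hn₁ (by
    rw [show g * e * g⁻¹ * (g * u' * g⁻¹) = g * (e * u') * g⁻¹ by group, heu']; group)
  refine mem_inf.2 ⟨heX, mem_centralizer_iff.2 fun y hy => ?_⟩
  have h1 := mem_centralizer_iff.1 (mem_inf.1 he₀Y).2 (g * y * g⁻¹)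
    (mul_mem (mul_mem hg hy) (inv_mem hg))
  calc y * e = g⁻¹ * (g * y * g⁻¹ * (g * e * g⁻¹)) * g := by group
    _ = g⁻¹ * (g * e * g⁻¹ * (g * y * g⁻¹)) * g := by rw [h1]
    _ = _ := by group

/-- an inverted element outside `C_M(Z)` fixes exactly two points. -/
theorem fix_two {d u g : Γ} {l : ℕ} (hl : l.Prime) (hl2 : l ≠ 2) (hd : orderOf d = l)
    (hdM : d ∈ MM X T) (hdZ : d ∉ centralizer (cen T : Set Γ)) (hu : IsK X T u)
    (hun : u ∉ normalizer (T : Set Γ)) (hinv : u * d * u = d⁻¹) (hg : g ∈ X)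
    (hgn : g ∉ normalizer (T : Set Γ)) (hgd : g⁻¹ * d * g ∈ MM X T) :
    u⁻¹ * g ∈ normalizer (T : Set Γ) := by
  by_contra hne
  have hodd : Odd (orderOf d) := hd ▸ hl.odd_of_ne_two hl2
  have huX := isK_mem h hu
  have huinv := isK_inv h hu
  -- a swapper for `g M`
  obtain ⟨w, -, hw, hwn, -, -, -, hwg, -⟩ := exists_swappers h hcomp hcount hg hgn
  obtain ⟨w₀, -, hw₀, hwn₀, -, -, -, hw₀g, -⟩ :=
    exists_swappers h hcomp hcount (mul_mem (inv_mem huX) hg) hne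
  have key : ∀ {w g : Γ}, IsK X T w → w ∉ normalizer (T : Set Γ) → w⁻¹ * g ∈ MM X T →
      g⁻¹ * d * g ∈ MM X T → d * (w * d * w) ∈ YY X := by
    intro w g hw hwn hwg hgd
    refine mul_conj_central h hcomp hcount hdM hodd hw hwn ?_
    have h1 := mul_mem (mul_mem hwg hgd) (inv_mem hwg)
    rw [show w⁻¹ * g * (g⁻¹ * d * g) * (w⁻¹ * g)⁻¹ = w⁻¹ * d * w by group, isK_inv h hw] at h1
    exact h1
  have hy₁ := key hw hwn hwg hgd
  have hy₀ := key hw₀ hwn₀ hw₀g (by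
    have h1 : u * d⁻¹ * u = d := by
      rw [← hinv]
      calc u * (u * d * u) * u = (u * u) * d * (u * u) := by group
        _ = d := by rw [isK_sq h hu, one_mul, mul_one]
    rw [show (u⁻¹ * g)⁻¹ * d * (u⁻¹ * g) = g⁻¹ * (u * d * u⁻¹) * g by group, huinv, hinv,
      show g⁻¹ * d⁻¹ * g = (g⁻¹ * d * g)⁻¹ by group]
    exact inv_mem hgd)
  set y₁ := d * (w * d * w) with hy₁d
  set y₀ := d * (w₀ * d * w₀) with hy₀d
  set g₀ := w₀ * u * w with hg₀
  have hg₀M : g₀ ∈ MM X T := by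
    have h1 := mul_mem hw₀g (inv_mem hwg)
    rw [show w₀⁻¹ * (u⁻¹ * g) * (w⁻¹ * g)⁻¹ = w₀⁻¹ * u⁻¹ * w by group, isK_inv h hw₀, huinv] at h1
    exact h1
  have hc : ∀ y ∈ YY X, ∀ b ∈ X, Commute b y := fun y hy b hb =>
    mem_centralizer_iff.1 (mem_inf.1 hy).2 b hb
  have hw₀X := isK_mem h hw₀
  have hwX := isK_mem h hw
  have hdX := (mem_inf.1 hdM).1
  have e1 : w * d * w = d⁻¹ * y₁ := by rw [hy₁d]; group
  have e0 : w₀ * d * w₀ = d⁻¹ * y₀ := by rw [hy₀d]; group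
  have e2 : g₀ * d * g₀⁻¹ = d⁻¹ * (y₀ * y₁) := by
    have hudu : u * d⁻¹ * u = d := by
      rw [← hinv]
      calc u * (u * d * u) * u = (u * u) * d * (u * u) := by group
        _ = d := by rw [isK_sq h hu, one_mul, mul_one]
    calc g₀ * d * g₀⁻¹ = w₀ * (u * (w * d * w⁻¹) * u⁻¹) * w₀⁻¹ := by rw [hg₀]; group
      _ = w₀ * (u * (d⁻¹ * y₁) * u) * w₀ := by
          rw [isK_inv h hw, huinv, isK_inv h hw₀, e1]
      _ = w₀ * (u * d⁻¹ * (y₁ * u)) * w₀ := by group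
      _ = w₀ * (u * d⁻¹ * (u * y₁)) * w₀ := by rw [(hc _ hy₁ u huX).eq]
      _ = w₀ * (u * d⁻¹ * u) * (y₁ * w₀) := by group
      _ = w₀ * d * (w₀ * y₁) := by rw [hudu, (hc _ hy₁ w₀ hw₀X).eq]
      _ = (w₀ * d * w₀) * y₁ := by group
      _ = _ := by rw [e0, mul_assoc]
  have h3 : ⁅g₀, d⁆ ∈ centralizer (cen T : Set Γ) := MM_commutator h hcomp hcount hg₀M hdM
  have hYZ : ∀ y ∈ YY X, y ∈ centralizer (cen T : Set Γ) := fun y hy =>
    (mem_inf.1 (central_le_NN h hcomp hcount hy)).2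
  have h4 : d⁻¹ * d⁻¹ ∈ centralizer (cen T : Set Γ) := by
    have h5 : ⁅g₀, d⁆ = d⁻¹ * d⁻¹ * (y₀ * y₁) := by
      rw [commutatorElement_def, e2, mul_assoc d⁻¹ (y₀ * y₁) d⁻¹,
        ← (hc _ (mul_mem hy₀ hy₁) d⁻¹ (inv_mem hdX)).eq, ← mul_assoc]
    have := mul_mem h3 (inv_mem (hYZ _ (mul_mem hy₀ hy₁)))
    rwa [h5, mul_inv_cancel_right] at this
  refine hdZ ?_
  rw [← inv_mem_iff]
  exact MM_sq h hcomp hcount (inv_mem hdM) h4

end Cfsg.Agent.Flavell8.Gen.CoreD
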