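import Mathlib
import Cfsg.Agent.Lib.FlavellGen8CorePair

/-!
Piece D of the coprime action theorem (`Flavell8.Gen`): the contradiction from `Closed`.

Every point of `X / M` other than `M` is a `T`-translate of a point fixed by `a`, so
`|X : M| = 1 + 4 ^ n (|C : C ∩ M| - 1)`, while `|X : M| = |S| |C : C ∩ M|`.
-/

set_option autoImplicit false
set_option linter.unusedSectionVars false
set_option linter.style.haveILetI false
set_option linter.unusedVariables false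

open scoped commutatorElement
open scoped Classical

namespace Cfsg.Agent.Flavell8.Gen.CoreD

open Subgroup Cfsg.Agent.CoprimeAction

universe u

variable {Γ : Type u} [Group Γ] [Finite Γ]

theorem card_image_mk [Fintype Γ] (H K : Subgroup Γ) :
    Nat.card H =
      ((Finset.univ.filter fun x => x ∈ H).image fun x : Γ => (x : Γ ⧸ K)).card *
        Nat.card (H ⊓ K : Subgroup Γ) := by
  set s := Finset.univ.filter fun x => x ∈ H with hs
  rw [Nat.card_eq_fintype_card, Fintype.card_subtype, ← hs, Finset.card_eq_sum_card_fiberwise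
    (f := fun x : Γ => (x : Γ ⧸ K)) (t := s.image fun x : Γ => (x : Γ ⧸ K))
    (fun x hx => Finset.mem_image_of_mem _ hx)]
  rw [Finset.sum_eq_card_nsmul (b := Nat.card (H ⊓ K : Subgroup Γ))]
  · rw [smul_eq_mul]
  · intro η hη
    obtain ⟨x₀, hx₀, rfl⟩ := Finset.mem_image.1 hη
    have hx₀' : x₀ ∈ H := by simpa [s] using hx₀
    rw [Nat.card_eq_fintype_card, Fintype.card_subtype]
    refine Finset.card_bij (fun x _ => x₀⁻¹ * x) ?_ ?_ ?_
    · intro x hx
      simp only [s, Finset.mem_filter, Finset.mem_univ, true_and] at hx ⊢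
      exact mem_inf.2 ⟨mul_mem (inv_mem hx₀') hx.1, QuotientGroup.eq.1 hx.2.symm⟩
    · intro x _ y _ e
      exact mul_left_cancel e
    · intro k hk
      simp only [s, Finset.mem_filter, Finset.mem_univ, true_and] at hk
      obtain ⟨h1, h2⟩ := mem_inf.1 hk
      refine ⟨x₀ * k, ?_, by simp⟩
      simp only [s, Finset.mem_filter, Finset.mem_univ, true_and]
      exact ⟨mul_mem hx₀' h1, (QuotientGroup.eq.2 (by simpa using h2)).symm⟩

variable {p r n : ℕ} {V X S W T : Subgroup Γ} {a : Γ}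

variable (h : Clean p r n V X S W T a) (hcomp : CompExists n T a) (hcount : CompCount n T a)
include h hcomp hcount

/-- `T` acts without fixed points outside `M`. -/
theorem T_free {x g : Γ} (hx : x ∈ T) (hg : g ∈ X) (hgn : g ∉ normalizer (T : Set Γ))
    (hxg : g⁻¹ * x * g ∈ normalizer (T : Set Γ)) : x = 1 := by
  haveI : Fact (Nat.Prime 2) := ⟨Nat.prime_two⟩
  by_contra hx1
  obtain ⟨l, k, hl, -, hk⟩ := exists_prime_pow hx1
  obtain ⟨e, he⟩ := IsPGroup.iff_card.1 (h.W2.to_le h.TW : IsPGroup 2 T)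
  have h1 : l ∣ 2 ^ e := hk ▸ he ▸ orderOf_dvd_natCard T (pow_mem hx k)
  obtain rfl : l = 2 := (Nat.prime_dvd_prime_iff_eq hl Nat.prime_two).1 (hl.dvd_of_dvd_pow h1)
  have h2 : x ^ k * x ^ k = 1 := by rw [← pow_two, ← hk, pow_orderOf_eq_one]
  have hne : x ^ k ≠ 1 := fun e1 => by rw [e1, orderOf_one] at hk; omega
  have hz := inv_T h hcomp hcount (pow_mem hx k) h2
  have h3 : g⁻¹ * x ^ k * g⁻¹⁻¹ ∈ normalizer (T : Set Γ) := by
    rw [← conj_pow, inv_inv]
    exact pow_mem hxg k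
  exact hgn (inv_mem_iff.1 (h.strong₁ hz hne (g := g⁻¹) (inv_mem hg) h3).1)

/-- every point other than `M` is a translate of a fixed point. -/
theorem exists_translate {g : Γ} (hg : g ∈ X) (hgn : g ∉ normalizer (T : Set Γ)) :
    ∃ t ∈ T, ∃ c ∈ fixA X a, c ∉ normalizer (T : Set Γ) ∧
      (g : Γ ⧸ MM X T) = ((t * c : Γ) : Γ ⧸ MM X T) := by
  obtain ⟨u, u', hu, hun, hu', hun', hne, hug, hug'⟩ := exists_swappers h hcomp hcount hg hgn
  have hdM : u * u' ∈ MM X T :=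
    isK_inv_mul h hu hu' ((QuotientGroup.eq.2 hug).trans (QuotientGroup.eq.2 hug').symm)
  have hd1 : u * u' ≠ 1 := fun e =>
    hne ((eq_inv_of_mul_eq_one_left e).trans (isK_inv h hu'))
  have hodd := odd_swap h hu hu' hun (mem_inf.1 hdM).2
  obtain ⟨l, k, hl, hld, hk⟩ := exists_prime_pow hd1
  have hl2 : l ≠ 2 := by
    rintro rfl
    obtain ⟨i, hi⟩ := hodd
    omega
  set d := (u * u') ^ k with hd
  have hinv : u * d * u⁻¹ = d⁻¹ := inv_conj_of_inverted
    (mul_inverted (isK_sq h hu) (isK_sq h hu')) (pow_mem (mem_zpowers _) k)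
  obtain ⟨m, hm, hd₁⟩ := h.Modd d (pow_mem hdM k) ⟨l, hl, hl2, hk⟩
  obtain ⟨c, hc, t, ht, hcn, rfl⟩ := h.Mdecomp m hm
  have htM : t ∈ MM X T := T_le_MM h.toFrame ht
  set d₁ := t * d * t⁻¹ with hd₁d
  have hd₁a : d₁ ∈ fixA X a := by
    have h1 := mul_mem (mul_mem (inv_mem hc) hd₁) hc
    rw [show c⁻¹ * (c * t * d * (c * t)⁻¹) * c = t * d * t⁻¹ by group] at h1
    exact h1
  have hd₁M : d₁ ∈ MM X T := mul_mem (mul_mem htM (pow_mem hdM k)) (inv_mem htM)
  have hd₁o : orderOf d₁ = l := by rw [← hk]; exact (MulAut.conj t).orderOf_eq d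
  have htX := TX h.toFrame ht
  set u₁ := t * u * t⁻¹ with hu₁d
  have hu₁ : IsK X T u₁ := isK_conj h hu htX
  have hu₁n : u₁ ∉ normalizer (T : Set Γ) := fun hc' => hun (by
    have h1 : t⁻¹ * u₁ * t ∈ normalizer (T : Set Γ) :=
      mul_mem (mul_mem (inv_mem (le_normalizer ht)) hc') (le_normalizer ht)
    simpa [u₁, mul_assoc] using h1)
  have hinv₁ : u₁ * d₁ * u₁⁻¹ = d₁⁻¹ := by
    rw [hd₁d, hu₁d, show (t * d * t⁻¹)⁻¹ = t * d⁻¹ * t⁻¹ by group, ← hinv]
    group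
  have hinv₁' : u₁ * d₁ * u₁ = d₁⁻¹ := by
    rw [← hinv₁, isK_inv h hu₁]
  have hd₁Z : d₁ ∉ centralizer (cen T : Set Γ) := fun hz =>
    inverted_false h hcomp hcount hl hl2 hd₁o hd₁M hz (isK_mem h hu₁) hu₁n hinv₁
  set g₁ := a * u₁ * a⁻¹ with hg₁d
  have hg₁X : g₁ ∈ X := conj_mem h.aX (isK_mem h hu₁)
  have haM := a_norm_MM h.toFrame
  have hg₁n : g₁ ∉ normalizer (T : Set Γ) := fun hc' => hu₁n (by
    have h1 := conj_mem' haM (show g₁ ∈ MM X T from mem_inf.2 ⟨hg₁X, hc'⟩)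
    rw [show a⁻¹ * g₁ * a = u₁ by rw [hg₁d]; group] at h1
    exact (mem_inf.1 h1).2)
  have had : a * d₁ = d₁ * a := (mem_centralizer_singleton_iff.1 hd₁a.2).symm
  have hgd : g₁⁻¹ * d₁ * g₁ ∈ MM X T := by
    have h1 : g₁⁻¹ * d₁ * g₁ = a * (u₁⁻¹ * d₁ * u₁) * a⁻¹ := by
      calc g₁⁻¹ * d₁ * g₁ = a * u₁⁻¹ * a⁻¹ * (d₁ * a) * u₁ * a⁻¹ := by rw [hg₁d]; group
        _ = a * u₁⁻¹ * a⁻¹ * (a * d₁) * u₁ * a⁻¹ := by rw [had]
        _ = _ := by group
    rw [h1, isK_inv h hu₁, hinv₁']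
    exact conj_mem haM (inv_mem hd₁M)
  have hfix := fix_two h hcomp hcount hl hl2 hd₁o hd₁M hd₁Z hu₁ hu₁n hinv₁' hg₁X hg₁n hgd
  have hu₁X := isK_mem h hu₁
  obtain ⟨c₁, hc₁, hc₁M⟩ := exists_fixed_mem_coset_zpowers haM (coprime_a h.toFrame inf_le_left) u₁
    (show u₁⁻¹ * a * u₁ * a⁻¹ ∈ MM X T from by
      have h2 : u₁⁻¹ * g₁ ∈ MM X T := mem_inf.2 ⟨mul_mem (inv_mem hu₁X) hg₁X, hfix⟩
      rw [hg₁d] at h2
      simpa [mul_assoc] using h2)
  have hc₁X : c₁ ∈ X := by simpa using mul_mem hu₁X (mem_inf.1 hc₁M).1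
  refine ⟨t⁻¹, inv_mem ht, c₁, mem_inf.2 ⟨hc₁X, mem_centralizer_singleton_iff.2 hc₁.symm⟩,
    fun hcc => hu₁n ?_, ?_⟩
  · have h3 : c₁ * (u₁⁻¹ * c₁)⁻¹ ∈ normalizer (T : Set Γ) :=
      mul_mem hcc (inv_mem (mem_inf.1 hc₁M).2)
    simpa [mul_assoc] using h3
  · refine QuotientGroup.eq.2 ?_
    have h4 := mul_mem (mul_mem (inv_mem hug) (inv_mem htM)) hc₁M
    rw [show (u⁻¹ * g)⁻¹ * t⁻¹ * (u₁⁻¹ * c₁) = g⁻¹ * (t⁻¹ * c₁) by rw [hu₁d]; group] at h4
    exact h4

theorem false_of_closed' : False := by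
  haveI : Fintype Γ := Fintype.ofFinite _
  haveI : Fintype (Γ ⧸ MM X T) := Fintype.ofFinite _
  haveI : Fintype (Γ ⧸ T) := Fintype.ofFinite _
  set π : Γ → Γ ⧸ MM X T := fun x => (x : Γ ⧸ MM X T) with hπ
  set P := (Finset.univ.filter fun x => x ∈ X).image π with hP
  set PC := (Finset.univ.filter fun x => x ∈ fixA X a).image π with hPC
  set ω := π 1 with hω
  have memP : ∀ η, η ∈ P ↔ ∃ g ∈ X, π g = η := fun η => by simp [P]
  have memPC : ∀ η, η ∈ PC ↔ ∃ g ∈ fixA X a, π g = η := fun η => by simp [PC]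
  have hωP : ω ∈ P := (memP _).2 ⟨1, one_mem _, rfl⟩
  have hωC : ω ∈ PC := (memPC _).2 ⟨1, one_mem _, rfl⟩
  have memP' : ∀ η, η ∈ P.erase ω ↔ ∃ g ∈ X, g ∉ normalizer (T : Set Γ) ∧ π g = η := by
    intro η
    rw [Finset.mem_erase, memP]
    constructor
    · rintro ⟨hne, g, hg, rfl⟩
      exact ⟨g, hg, notMem_of_mk_ne h hg hne, rfl⟩
    · rintro ⟨g, hg, hgn, rfl⟩
      exact ⟨mk_ne h hg hgn, g, hg, rfl⟩
  have memPC' : ∀ η, η ∈ PC.erase ω ↔
      ∃ g ∈ fixA X a, g ∉ normalizer (T : Set Γ) ∧ π g = η := by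
    intro η
    rw [Finset.mem_erase, memPC]
    constructor
    · rintro ⟨hne, g, hg, rfl⟩
      exact ⟨g, hg, notMem_of_mk_ne h (mem_inf.1 hg).1 hne, rfl⟩
    · rintro ⟨g, hg, hgn, rfl⟩
      exact ⟨mk_ne h (mem_inf.1 hg).1 hgn, g, hg, rfl⟩
  set D := (Finset.univ.filter fun x => x ∈ T) ×ˢ (PC.erase ω) with hD
  let f : Γ × (Γ ⧸ MM X T) → Γ ⧸ MM X T := fun y => y.1 • y.2
  have memD : ∀ y, y ∈ D ↔ y.1 ∈ T ∧ y.2 ∈ PC.erase ω := fun y => by simp [D]
  have hmaps : ∀ y ∈ D, f y ∈ P.erase ω := by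
    intro y hy
    obtain ⟨h1, h2⟩ := (memD y).1 hy
    obtain ⟨c, hc, hcn, he⟩ := (memPC' _).1 h2
    refine (memP' _).2 ⟨y.1 * c, mul_mem (TX h.toFrame h1) (mem_inf.1 hc).1, fun hh => hcn ?_, ?_⟩
    · have := mul_mem (inv_mem (le_normalizer h1)) hh
      rwa [inv_mul_cancel_left] at this
    · show π (y.1 * c) = y.1 • y.2
      rw [← he]
      rfl
  have hfib : ∀ η ∈ P.erase ω, (D.filter fun y => f y = η).card = Nat.card (cen T) := by
    intro η hη
    obtain ⟨g, hg, hgn, rfl⟩ := (memP' _).1 hη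
    obtain ⟨t, ht, c, hc, hcn, he⟩ := exists_translate h hcomp hcount hg hgn
    rw [Nat.card_eq_fintype_card, Fintype.card_subtype]
    symm
    refine Finset.card_bij (fun z _ => (t * z, π (z⁻¹ * c))) ?_ ?_ ?_
    · intro z hz
      simp only [Finset.mem_filter, Finset.mem_univ, true_and] at hz
      refine Finset.mem_filter.2 ⟨(memD _).2 ⟨mul_mem ht hz.1, (memPC' _).2 ⟨z⁻¹ * c,
        mul_mem (inv_mem (cen_le_fixA h.toFrame hz)) hc, fun hh => hcn ?_, rfl⟩⟩, ?_⟩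
      · have := mul_mem (le_normalizer hz.1) hh
        rwa [mul_inv_cancel_left] at this
      · show (((t * z * (z⁻¹ * c) : Γ)) : Γ ⧸ MM X T) = (g : Γ ⧸ MM X T)
        rw [he]
        congr 1
        group
    · intro z _ z' _ e
      exact mul_left_cancel (Prod.ext_iff.1 e).1
    · rintro ⟨t', η'⟩ hy
      obtain ⟨hy1, hy2⟩ := Finset.mem_filter.1 hy
      obtain ⟨ht', hη'⟩ := (memD _).1 hy1
      obtain ⟨c', hc', hcn', rfl⟩ := (memPC' _).1 hη'
      have e1 : ((t' * c' : Γ) : Γ ⧸ MM X T) = ((t * c : Γ) : Γ ⧸ MM X T) := by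
        rw [← he]; exact hy2
      have h5 : (t' * c')⁻¹ * (t * c) ∈ MM X T := QuotientGroup.eq.1 e1
      set s := t⁻¹ * t' with hs
      have hsT : s ∈ T := mul_mem (inv_mem ht) ht'
      have h7 : c⁻¹ * s * c' ∈ MM X T := by
        have := inv_mem h5
        rwa [show ((t' * c')⁻¹ * (t * c))⁻¹ = c⁻¹ * s * c' by rw [hs]; group] at this
      have h8 : c⁻¹ * (a * s * a⁻¹) * c' ∈ MM X T := by
        have h9 := conj_mem (a_norm_MM h.toFrame) h7
        have e2 : Commute a c := (mem_centralizer_singleton_iff.1 (mem_inf.1 hc).2).symm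
        have e3 : Commute a c' := (mem_centralizer_singleton_iff.1 (mem_inf.1 hc').2).symm
        rwa [show a * (c⁻¹ * s * c') * a⁻¹ = (a * c⁻¹) * s * (c' * a⁻¹) by group, e2.inv_right.eq,
          (e3.inv_left.eq).symm, show c⁻¹ * a * s * (a⁻¹ * c') = c⁻¹ * (a * s * a⁻¹) * c' by group]
          at h9
      have h10 : s⁻¹ * (a * s * a⁻¹) = 1 := by
        refine T_free h hcomp hcount (mul_mem (inv_mem hsT) (conj_mem h.aT hsT)) (mem_inf.1 hc').1
          hcn' ?_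
        have h11 := (mem_inf.1 (mul_mem (inv_mem h7) h8)).2
        rwa [show (c⁻¹ * s * c')⁻¹ * (c⁻¹ * (a * s * a⁻¹) * c') =
          c'⁻¹ * (s⁻¹ * (a * s * a⁻¹)) * c' by group] at h11
      have hsZ : s ∈ cen T := by
        rw [← h.Tfix]
        refine mem_inf.2 ⟨hsT, mem_centralizer_singleton_iff.2 ?_⟩
        have h12 : a * s * a⁻¹ = s := (inv_mul_eq_one.1 h10).symm
        exact (mul_inv_eq_iff_eq_mul.1 h12).symm
      refine ⟨s, by simpa using hsZ, Prod.ext (by rw [hs]; group) ?_⟩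
      show ((s⁻¹ * c : Γ) : Γ ⧸ MM X T) = (c' : Γ ⧸ MM X T)
      refine QuotientGroup.eq.2 ?_
      rw [show (s⁻¹ * c)⁻¹ * c' = c⁻¹ * s * c' by group]
      exact h7
  have hsum : Nat.card T * (PC.erase ω).card = (P.erase ω).card * Nat.card (cen T) := by
    have h1 := Finset.card_eq_sum_card_fiberwise (f := f) (s := D) (t := P.erase ω) hmaps
    rw [Finset.sum_congr rfl hfib, Finset.sum_const, smul_eq_mul, hD, Finset.card_product] at h1
    rwa [Nat.card_eq_fintype_card (α := T), Fintype.card_subtype]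
  have hq : 0 < Nat.card (cen T) := Nat.card_pos
  have hmain : 4 ^ n * (PC.erase ω).card = (P.erase ω).card := by
    rw [card_T h hcomp, mul_right_comm] at hsum
    exact Nat.eq_of_mul_eq_mul_right hq hsum
  -- orders
  have hMX : X ⊓ MM X T = MM X T := inf_eq_right.2 inf_le_left
  have hXc := card_image_mk X (MM X T)
  rw [hMX] at hXc
  have hCc := card_image_mk (fixA X a) (MM X T)
  have hMc := card_image_mk (MM X T) T
  rw [inf_eq_right.2 (T_le_MM h.toFrame)] at hMc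
  have hCMc := card_image_mk (fixA X a ⊓ MM X T) T
  have himg : (Finset.univ.filter fun x => x ∈ MM X T).image (fun x : Γ => (x : Γ ⧸ T)) =
      (Finset.univ.filter fun x => x ∈ fixA X a ⊓ MM X T).image (fun x : Γ => (x : Γ ⧸ T)) := by
    refine le_antisymm ?_ (Finset.image_subset_image fun x hx => ?_)
    · intro η hη
      obtain ⟨m, hm, rfl⟩ := Finset.mem_image.1 hη
      simp only [Finset.mem_filter, Finset.mem_univ, true_and] at hm
      obtain ⟨c, hc, t, ht, hcn, rfl⟩ := h.Mdecomp m hm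
      refine Finset.mem_image.2 ⟨c, ?_, QuotientGroup.eq.2 (by simpa using ht)⟩
      simp only [Finset.mem_filter, Finset.mem_univ, true_and]
      exact mem_inf.2 ⟨hc, mem_inf.2 ⟨(mem_inf.1 hc).1, hcn⟩⟩
    · simp only [Finset.mem_filter, Finset.mem_univ, true_and] at hx ⊢
      exact (mem_inf.1 hx).2
  have hTC : fixA X a ⊓ MM X T ⊓ T = cen T := by
    refine le_antisymm (fun x hx => ?_) (fun x hx => ?_)
    · obtain ⟨h1, h2⟩ := mem_inf.1 hx
      rw [← h.Tfix]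
      exact mem_inf.2 ⟨h2, (mem_inf.1 (mem_inf.1 h1).1).2⟩
    · exact mem_inf.2 ⟨mem_inf.2 ⟨cen_le_fixA h.toFrame hx, T_le_MM h.toFrame hx.1⟩, hx.1⟩
  rw [hTC, ← himg] at hCMc
  obtain ⟨y, hX'⟩ := h.cardX
  have hn : P.card = y * PC.card := by
    have hpos : 0 < Nat.card (fixA X a ⊓ MM X T : Subgroup Γ) * Nat.card T :=
      Nat.mul_pos Nat.card_pos Nat.card_pos
    refine Nat.eq_of_mul_eq_mul_right hpos ?_
    rw [hXc, hCc, hMc] at hX'
    calc P.card * (Nat.card (fixA X a ⊓ MM X T : Subgroup Γ) * Nat.card T)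
        = P.card * (((Finset.univ.filter fun x => x ∈ MM X T).image
            (fun x : Γ => (x : Γ ⧸ T))).card * Nat.card T) * Nat.card (cen T) := by
          rw [hCMc]; ring
      _ = y * (PC.card * Nat.card (fixA X a ⊓ MM X T : Subgroup Γ)) * Nat.card T := hX'
      _ = _ := by ring
  -- there are more than `2 ^ n` fixed points
  obtain ⟨g, hg, hgn⟩ := exists_notMem_norm h.toFrame
  obtain ⟨t₀, ht₀, c₀, hc₀, hc₀n, -⟩ := exists_translate h hcomp hcount hg hgn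
  have hbig : Nat.card (cen T) ≤ (PC.erase ω).card := by
    rw [Nat.card_eq_fintype_card, Fintype.card_subtype]
    refine Finset.card_le_card_of_injOn (fun z => π (z * c₀)) ?_ ?_
    · intro z hz
      simp only [Finset.coe_filter, Set.mem_ofPred_eq, Finset.mem_univ, true_and] at hz
      refine Finset.mem_coe.2 ((memPC' _).2 ⟨z * c₀, mul_mem (cen_le_fixA h.toFrame hz) hc₀,
        fun hh => hc₀n ?_, rfl⟩)
      have := mul_mem (inv_mem (le_normalizer hz.1)) hh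
      rwa [inv_mul_cancel_left] at this
    · intro z hz z' hz' e
      simp only [Finset.coe_filter, Set.mem_ofPred_eq, Finset.mem_univ, true_and] at hz hz'
      have h1 : (z * c₀)⁻¹ * (z' * c₀) ∈ MM X T := QuotientGroup.eq.1 e
      rw [show (z * c₀)⁻¹ * (z' * c₀) = c₀⁻¹ * (z⁻¹ * z') * c₀ by group] at h1
      exact inv_mul_eq_one.1 (T_free h hcomp hcount (mul_mem (inv_mem hz.1) hz'.1) (mem_inf.1 hc₀).1
        hc₀n (mem_inf.1 h1).2)
  rw [card_cen h hcomp hcount] at hbig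
  have e1 := Finset.card_erase_add_one hωP
  have e2 := Finset.card_erase_add_one hωC
  have h4 : (1 : ℕ) ≤ 4 ^ n := Nat.one_le_pow _ _ (by norm_num)
  have hdiv : PC.card ∣ 4 ^ n - 1 := by
    have h6 : 4 ^ n * PC.card = (4 ^ n - 1) + y * PC.card := by
      rw [← hn, ← e1, ← e2, mul_add, hmain]
      omega
    have h7 := dvd_mul_left PC.card (4 ^ n)
    rw [h6] at h7
    exact (Nat.dvd_add_left (dvd_mul_left _ _)).1 h7
  have hco : Nat.Coprime PC.card r := by
    rw [Nat.coprime_comm, h.hr.coprime_iff_not_dvd]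
    intro hd
    have h8 : PC.card ∣ Nat.card (fixA X a) := Dvd.intro _ hCc.symm
    exact h.rX ((hd.trans h8).trans (card_dvd_of_le inf_le_left))
  have hdiv' : PC.card ∣ 2 ^ n - 1 := by
    refine hco.dvd_of_dvd_mul_left ?_
    convert hdiv using 1
    rw [h.rn, show (4 : ℕ) ^ n = (2 ^ n) ^ 2 by rw [← pow_mul, mul_comm, pow_mul]; norm_num]
    have h9 := Nat.sq_sub_sq (2 ^ n) 1
    rw [one_pow] at h9
    rw [h9]
  have hpos : 0 < 2 ^ n - 1 := by
    have := Nat.pow_le_pow_right (show 2 > 0 by norm_num) h.n1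
    omega
  have := Nat.le_of_dvd hpos hdiv'
  omega

end CoreD

/-- **Piece D (i).** There is no configuration `Closed` in which `Z` meets the centre
of `X` trivially. -/
theorem false_of_closed_clean {Γ : Type*} [Group Γ] [Finite Γ] {p r n : ℕ} {V X S W T : Subgroup Γ}
    {a : Γ} (h : Closed p r n V X S W T a)
    (hO : ∀ v ∈ cen T, v ≠ 1 → v ∉ Subgroup.centralizer (X : Set Γ))
    (hcomp : ∀ x ∈ T, (∀ lam R, Comp n T lam R a → x ∈ R) → x ∈ cen T)
    (hcount : ∀ lam R, Comp n T lam R a →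
      2 * {x : Γ | x ∈ T ∧ x * x ∈ lam}.ncard + 2 ^ n * Nat.card R = Nat.card T) : False :=
  CoreD.false_of_closed' ⟨h, hO⟩ hcomp hcount

end Cfsg.Agent.Flavell8.Gen
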