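import Mathlib
import Cfsg.Agent.Lib.FlavellGen8CoreBase

/-!
Auxiliary facts for the exclusion of a central involution in `cen T`: a group with a strongly closed
elementary abelian subgroup `Z` normal in `M`, every `2`-subgroup being conjugate into `M`; and the
arithmetic of an invariant set of characters.
-/

set_option autoImplicit false
set_option linter.unusedSectionVars false
set_option linter.style.haveILetI false
set_option linter.unusedVariables false

namespace Cfsg.Agent.Flavell8.Gen.NoCen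

open Subgroup
open Cfsg.Agent.Flavell8.Gen.CoreD (inv_conj_of_inverted mul_inverted mul_inverted' conj_of_odd
  mem_normalizer_of_forward)

universe u

variable {E : Type u} [Group E] [Finite E]

/-- `Z` is strongly closed and controls its centralisers; `2`-subgroups are conjugate into `M`. -/
structure Hyp (M Z : Subgroup E) : Prop where
  ZM : Z ≤ M
  nz : ∀ m ∈ M, ∀ z ∈ Z, m * z * m⁻¹ ∈ Z
  sq : ∀ z ∈ Z, z * z = 1
  strong : ∀ v ∈ Z, v ≠ 1 → ∀ g : E, g * v * g⁻¹ ∈ M → g ∈ M ∧ g * v * g⁻¹ ∈ Z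
  two : ∀ P : Subgroup E, IsPGroup 2 P → ∃ g : E, ∀ x ∈ P, g * x * g⁻¹ ∈ M
  ne : ∃ g : E, g ∉ M

variable {M Z : Subgroup E}

theorem cent_mem (H : Hyp M Z) {z y : E} (hz : z ∈ Z) (hz1 : z ≠ 1) (hc : y * z = z * y) :
    y ∈ M :=
  (H.strong z hz hz1 y (by rw [hc, mul_inv_cancel_right]; exact H.ZM hz)).1

/-- An involution `x` and a conjugate `u` of an element of `Z` with product of even order. -/
theorem even_pair (H : Hyp M Z) {g v x u : E} (hv : v ∈ Z) (hv1 : v ≠ 1) (hu : g * v * g⁻¹ = u)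
    (hx : x * x = 1) (he : ¬ Odd (orderOf (x * u))) :
    ∃ j : E, j ≠ 1 ∧ j * j = 1 ∧ x * j = j * x ∧ u * j = j * u ∧
      ((∃ h : E, h * u * h⁻¹ ∈ Z ∧ h * j * h⁻¹ ∈ Z) ∨ ∃ e : E, e * (x * j) * e⁻¹ = u) := by
  haveI : Fact (Nat.Prime 2) := ⟨Nat.prime_two⟩
  have husq : u * u = 1 := by
    rw [← hu, show g * v * g⁻¹ * (g * v * g⁻¹) = g * (v * v) * g⁻¹ by group, H.sq v hv, mul_one,
      mul_inv_cancel]
  have hu1 : u ≠ 1 := fun e => hv1 (conj_eq_one_iff.1 (hu.trans e))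
  set d := x * u with hd
  obtain ⟨k, m, hm, hkm⟩ := Nat.exists_eq_two_pow_mul_odd (orderOf_pos d).ne'
  obtain ⟨k, rfl⟩ : ∃ k', k = k' + 1 := by
    rcases k with _ | k
    · exact absurd (by rw [hkm, pow_zero, one_mul]; exact hm) he
    · exact ⟨k, rfl⟩
  have hmpos : 0 < m := by
    obtain ⟨i, hi⟩ := hm
    omega
  set j := d ^ (2 ^ k * m) with hj
  have hjj : j * j = 1 := by
    rw [hj, ← pow_add, show 2 ^ k * m + 2 ^ k * m = orderOf d by rw [hkm, pow_succ]; ring,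
      pow_orderOf_eq_one]
  have hj1 : j ≠ 1 := by
    intro e
    have h1 := Nat.le_of_dvd (by positivity) (orderOf_dvd_of_pow_eq_one e)
    rw [hkm, pow_succ] at h1
    nlinarith [Nat.two_pow_pos k]
  have hjinv : j⁻¹ = j := inv_eq_of_mul_eq_one_right hjj
  have hjx : x * j = j * x := by
    rw [← mul_inv_eq_iff_eq_mul,
      inv_conj_of_inverted (mul_inverted hx husq) (pow_mem (mem_zpowers d) _), hjinv]
  have hju : u * j = j * u := by
    rw [← mul_inv_eq_iff_eq_mul,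
      inv_conj_of_inverted (mul_inverted' hx husq) (pow_mem (mem_zpowers d) _), hjinv]
  refine ⟨j, hj1, hjj, hjx, hju, ?_⟩
  rcases Nat.eq_zero_or_pos k with rfl | hk
  · right
    rw [pow_zero, one_mul] at hj
    have hjm : x * j * u = d ^ (m + 1) := by
      rw [pow_succ', ← hj, hd, mul_assoc, ← hju, ← mul_assoc]
    have hxj2 : x * j * (x * j) = 1 := by
      rw [show x * j * (x * j) = x * (j * x) * j by group, ← hjx, ← mul_assoc, hx, one_mul, hjj]
    have hodd : Odd (orderOf (x * j * u)) := by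
      have h1 : (d ^ (m + 1)) ^ m = 1 := by
        obtain ⟨i, hi⟩ := hm
        rw [← pow_mul, show (m + 1) * m = orderOf d * (i + 1) by rw [hkm, hi]; ring, pow_mul,
          pow_orderOf_eq_one, one_pow]
      rw [hjm]
      exact hm.of_dvd_nat (orderOf_dvd_of_pow_eq_one h1)
    obtain ⟨e, -, hev⟩ := conj_of_odd hxj2 husq hodd
    exact ⟨e, hev⟩
  · left
    have hod : orderOf (d ^ m) = 2 ^ (k + 1) := by
      rw [orderOf_pow_of_dvd hmpos.ne' ⟨2 ^ (k + 1), by rw [hkm]; ring⟩, hkm,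
        Nat.mul_div_cancel _ hmpos]
    have hdm : u * d ^ m * u⁻¹ = (d ^ m)⁻¹ :=
      inv_conj_of_inverted (mul_inverted' hx husq) (pow_mem (mem_zpowers d) _)
    have hP : IsPGroup 2 (zpowers u ⊔ zpowers (d ^ m) : Subgroup E) := by
      refine IsPGroup.to_sup_of_normal_right' ?_ ?_ ?_
      · refine IsPGroup.of_card (n := 1) ?_
        rw [Nat.card_zpowers, pow_one]
        exact orderOf_eq_prime (by rw [pow_two, husq]) hu1
      · refine IsPGroup.of_card (n := k + 1) ?_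
        rw [Nat.card_zpowers, hod]
      · rw [zpowers_le]
        refine mem_normalizer_of_forward fun y hy => ?_
        obtain ⟨i, rfl⟩ := mem_zpowers_iff.1 hy
        rw [← conj_zpow, hdm]
        exact zpow_mem (inv_mem (mem_zpowers _)) i
    obtain ⟨h, hh⟩ := H.two _ hP
    have hzM : h * u * h⁻¹ ∈ M := hh _ (mem_sup_left (mem_zpowers u))
    have hz : h * u * h⁻¹ ∈ Z := by
      have e1 : h * u * h⁻¹ = h * g * v * (h * g)⁻¹ := by rw [← hu]; group
      rw [e1] at hzM ⊢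
      exact (H.strong v hv hv1 _ hzM).2
    refine ⟨h, hz, ?_⟩
    set D := h * d ^ m * h⁻¹ with hD
    have hDM : D ∈ M := hh _ (mem_sup_right (mem_zpowers _))
    set z := h * u * h⁻¹ with hzd
    have hinv : z * D * z⁻¹ = D⁻¹ := by
      rw [hzd, hD, show (h * d ^ m * h⁻¹)⁻¹ = h * (d ^ m)⁻¹ * h⁻¹ by group, ← hdm]
      group
    have h2 : (D * D)⁻¹ ∈ Z := by
      have h3 : z * (D * z⁻¹ * D⁻¹) ∈ Z := mul_mem hz (H.nz D hDM _ (inv_mem hz))
      rwa [show z * (D * z⁻¹ * D⁻¹) = z * D * z⁻¹ * D⁻¹ by group, hinv, ← mul_inv_rev] at h3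
    have e2 : h * j * h⁻¹ = (D * D) ^ (2 ^ (k - 1)) := by
      rw [← pow_two, ← pow_mul, hD, conj_pow, ← pow_mul, hj]
      congr 3
      obtain ⟨k', rfl⟩ : ∃ k', k = k' + 1 := ⟨k - 1, by omega⟩
      simp only [Nat.add_sub_cancel, pow_succ]
      ring
    rw [e2]
    exact pow_mem (inv_mem_iff.1 h2) _

/-- The product of an element of `Z` and a conjugate outside `M` has odd order. -/
theorem odd_pair (H : Hyp M Z) {g v w : E} (hv : v ∈ Z) (hv1 : v ≠ 1) (hw : w ∈ Z) (hw1 : w ≠ 1)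
    (hg : g ∉ M) : Odd (orderOf (v * (g * w * g⁻¹))) := by
  by_contra he
  obtain ⟨j, hj1, hjj, hvj, huj, hcase⟩ := even_pair H hw hw1 rfl (H.sq v hv) he
  have hjM : j ∈ M := cent_mem H hv hv1 hvj.symm
  rcases hcase with ⟨h, hu, hj⟩ | ⟨e, he⟩
  · have h1 : h * g ∈ M := by
      refine (H.strong w hw hw1 _ ?_).1
      rw [show h * g * w * (h * g)⁻¹ = h * (g * w * g⁻¹) * h⁻¹ by group]
      exact H.ZM hu
    have h2 : h * v * h⁻¹ ∈ M := by
      refine cent_mem H hj (fun e => hj1 (conj_eq_one_iff.1 e)) ?_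
      calc h * v * h⁻¹ * (h * j * h⁻¹) = h * (v * j) * h⁻¹ := by group
        _ = h * (j * v) * h⁻¹ := by rw [hvj]
        _ = _ := by group
    have hhM : h ∈ M := (H.strong v hv hv1 h h2).1
    exact hg ((mul_mem_cancel_left hhM).1 h1)
  · have hvjM : v * j ∈ M := mul_mem (H.ZM hv) hjM
    have h2 : e⁻¹ * g * w * (e⁻¹ * g)⁻¹ = v * j := by
      calc e⁻¹ * g * w * (e⁻¹ * g)⁻¹ = e⁻¹ * (g * w * g⁻¹) * e := by group
        _ = e⁻¹ * (e * (v * j) * e⁻¹) * e := by rw [he]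
        _ = _ := by group
    have h3 := H.strong w hw hw1 (e⁻¹ * g) (h2.symm ▸ hvjM)
    have hjZ : j ∈ Z := by
      have := mul_mem (inv_mem hv) (h2 ▸ h3.2)
      rwa [inv_mul_cancel_left] at this
    have h4 : g⁻¹ * j * g ∈ M := by
      refine cent_mem H hw hw1 ?_
      calc g⁻¹ * j * g * w = g⁻¹ * (j * (g * w * g⁻¹)) * g := by group
        _ = g⁻¹ * (g * w * g⁻¹ * j) * g := by rw [huj]
        _ = _ := by group
    exact hg (inv_mem_iff.1 (H.strong j hjZ hj1 g⁻¹ (by rwa [inv_inv])).1)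

/-- An involution of `M` has in its coset modulo `Z` one fixing another point. -/
theorem fix_point (H : Hyp M Z) {v x : E} (hv : v ∈ Z) (hv1 : v ≠ 1) (hx : x ∈ M) (hx2 : x * x = 1)
    (hxZ : x ∉ Z) : ∃ y g : E, g ∉ M ∧ x * y ∈ Z ∧ g⁻¹ * y * g ∈ M := by
  obtain ⟨g, hg⟩ := H.ne
  set u := g * v * g⁻¹ with hu
  have husq : u * u = 1 := by
    rw [hu, show g * v * g⁻¹ * (g * v * g⁻¹) = g * (v * v) * g⁻¹ by group, H.sq v hv, mul_one,
      mul_inv_cancel]
  by_cases he : Odd (orderOf (x * u))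
  · exfalso
    obtain ⟨e, -, hev⟩ := conj_of_odd hx2 husq he
    have h2 : e⁻¹ * g * v * (e⁻¹ * g)⁻¹ = x := by
      calc e⁻¹ * g * v * (e⁻¹ * g)⁻¹ = e⁻¹ * u * e := by rw [hu]; group
        _ = e⁻¹ * (e * x * e⁻¹) * e := by rw [hev]
        _ = _ := by group
    exact hxZ (h2 ▸ (H.strong v hv hv1 (e⁻¹ * g) (h2.symm ▸ hx)).2)
  obtain ⟨j, hj1, hjj, hxj, huj, hcase⟩ := even_pair H hv hv1 hu.symm hx2 he
  rcases hcase with ⟨h, hu', hj⟩ | ⟨e, he'⟩
  · have h1 : h * g ∈ M := by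
      refine (H.strong v hv hv1 _ ?_).1
      rw [show h * g * v * (h * g)⁻¹ = h * u * h⁻¹ by rw [hu]; group]
      exact H.ZM hu'
    have h2 : h * x * h⁻¹ ∈ M := by
      refine cent_mem H hj (fun e => hj1 (conj_eq_one_iff.1 e)) ?_
      calc h * x * h⁻¹ * (h * j * h⁻¹) = h * (x * j) * h⁻¹ := by group
        _ = h * (j * x) * h⁻¹ := by rw [hxj]
        _ = _ := by group
    refine ⟨x, g, hg, by rw [hx2]; exact one_mem _, ?_⟩
    have := mul_mem (mul_mem (inv_mem h1) h2) h1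
    rwa [show (h * g)⁻¹ * (h * x * h⁻¹) * (h * g) = g⁻¹ * x * g by group] at this
  · have h2 : e⁻¹ * g * v * (e⁻¹ * g)⁻¹ = x * j := by
      calc e⁻¹ * g * v * (e⁻¹ * g)⁻¹ = e⁻¹ * u * e := by rw [hu]; group
        _ = e⁻¹ * (e * (x * j) * e⁻¹) * e := by rw [he']
        _ = _ := by group
    by_cases hh : e⁻¹ * g ∈ M
    · refine ⟨j, g, hg, h2 ▸ H.nz _ hh v hv, ?_⟩
      refine cent_mem H hv hv1 ?_
      calc g⁻¹ * j * g * v = g⁻¹ * (j * u) * g := by rw [hu]; group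
        _ = g⁻¹ * (u * j) * g := by rw [huj]
        _ = _ := by rw [hu]; group
    · refine ⟨x, e⁻¹ * g, hh, by rw [hx2]; exact one_mem _, cent_mem H hv hv1 ?_⟩
      set t := e⁻¹ * g with ht
      have hc : x * (x * j) = x * j * x := by rw [mul_assoc x j x, ← hxj]
      rw [← h2] at hc
      calc t⁻¹ * x * t * v = t⁻¹ * (x * (t * v * t⁻¹)) * t := by group
        _ = t⁻¹ * (t * v * t⁻¹ * x) * t := by rw [hc]
        _ = _ := by group

/-- The centraliser in `M` of such an involution is transitive on the nontrivial elements of `Z`. -/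
theorem cent_trans (H : Hyp M Z) {y g : E} (hy : y * y = 1) (hyZ : ∀ z ∈ Z, y * z = z * y)
    (hg : g ∉ M) (hgy : g⁻¹ * y * g ∈ M) {v v' : E} (hv : v ∈ Z) (hv1 : v ≠ 1) (hv' : v' ∈ Z)
    (hv1' : v' ≠ 1) : ∃ c ∈ M, c * y = y * c ∧ c * v * c⁻¹ = v' := by
  set y' := g⁻¹ * y * g with hy'
  have hy'2 : y' * y' = 1 := by
    rw [hy', show g⁻¹ * y * g * (g⁻¹ * y * g) = g⁻¹ * (y * y) * g by group, hy, mul_one,
      inv_mul_cancel]
  obtain ⟨w, hw, hw1, hwy⟩ : ∃ w ∈ Z, w ≠ 1 ∧ y' * w * y'⁻¹ = w := by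
    by_cases e : y' * v * y'⁻¹ = v
    · exact ⟨v, hv, hv1, e⟩
    have hw : y' * v * y'⁻¹ ∈ Z := H.nz _ hgy v hv
    have hcomm : Commute v (y' * v * y'⁻¹) := by
      have h1 := H.sq _ (mul_mem hv hw)
      have h2 := H.sq v hv
      have h3 := H.sq _ hw
      show v * _ = _ * v
      calc v * (y' * v * y'⁻¹) = (v * (y' * v * y'⁻¹))⁻¹ :=
            (inv_eq_of_mul_eq_one_right h1).symm
        _ = _ := by rw [mul_inv_rev, inv_eq_of_mul_eq_one_right h2, inv_eq_of_mul_eq_one_right h3]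
    refine ⟨v * (y' * v * y'⁻¹), mul_mem hv hw, fun e1 => e ?_, ?_⟩
    · rw [← inv_eq_of_mul_eq_one_right e1, inv_eq_of_mul_eq_one_right (H.sq v hv)]
    · calc y' * (v * (y' * v * y'⁻¹)) * y'⁻¹ = y' * v * y'⁻¹ * ((y' * y') * v * (y' * y')⁻¹) := by
            group
        _ = y' * v * y'⁻¹ * v := by rw [hy'2]; group
        _ = _ := hcomm.eq.symm
  set u := g * w * g⁻¹ with hu
  have husq : u * u = 1 := by
    rw [hu, show g * w * g⁻¹ * (g * w * g⁻¹) = g * (w * w) * g⁻¹ by group, H.sq w hw, mul_one,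
      mul_inv_cancel]
  have hyu : Commute y u := by
    show y * u = u * y
    rw [mul_inv_eq_iff_eq_mul] at hwy
    calc y * u = g * (y' * w) * g⁻¹ := by rw [hu, hy']; group
      _ = g * (w * y') * g⁻¹ := by rw [hwy]
      _ = _ := by rw [hu, hy']; group
  obtain ⟨e, he, hev⟩ := conj_of_odd (H.sq v hv) husq (odd_pair H hv hv1 hw hw1 hg)
  obtain ⟨e', he', hev'⟩ := conj_of_odd (H.sq v' hv') husq (odd_pair H hv' hv1' hw hw1 hg)
  have hcom : ∀ {z b : E}, z ∈ Z → b ∈ zpowers (z * u) → Commute y b := by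
    intro z b hz hb
    obtain ⟨i, rfl⟩ := mem_zpowers_iff.1 hb
    exact ((show Commute y z from hyZ z hz).mul_right hyu).zpow_right i
  have hc : e'⁻¹ * e * v * (e'⁻¹ * e)⁻¹ = v' := by
    calc e'⁻¹ * e * v * (e'⁻¹ * e)⁻¹ = e'⁻¹ * (e * v * e⁻¹) * e' := by group
      _ = e'⁻¹ * (e' * v' * e'⁻¹) * e' := by rw [hev, hev']
      _ = _ := by group
  exact ⟨e'⁻¹ * e, (H.strong v hv hv1 _ (hc.symm ▸ H.ZM hv')).1,
    ((hcom hv' he').inv_right.mul_right (hcom hv he)).eq.symm, hc⟩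

theorem trans (H : Hyp M Z) {v v' : E} (hv : v ∈ Z) (hv1 : v ≠ 1) (hv' : v' ∈ Z) (hv1' : v' ≠ 1) :
    ∃ c ∈ M, c * v * c⁻¹ = v' := by
  obtain ⟨g, hg⟩ := H.ne
  obtain ⟨c, hc, -, hcv⟩ := cent_trans H (y := 1) (mul_one 1) (fun z _ => by simp) hg
    (by simp) hv hv1 hv' hv1'
  exact ⟨c, hc, hcv⟩

theorem card_dvd (H : Hyp M Z) {v : E} (hv : v ∈ Z) (hv1 : v ≠ 1) :
    Nat.card Z - 1 ∣ Nat.card E := by
  let α := {z : E // z ∈ Z ∧ z ≠ 1}
  letI : MulAction M α :=
    { smul := fun m z => ⟨(m : E) * z.1 * (m : E)⁻¹, H.nz m m.2 z.1 z.2.1,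
        fun e => z.2.2 (conj_eq_one_iff.1 e)⟩
      one_smul := fun z => Subtype.ext (by
        show ((1 : M) : E) * z.1 * ((1 : M) : E)⁻¹ = z.1
        simp)
      mul_smul := fun m k z => Subtype.ext (by
        show ((m * k : M) : E) * z.1 * ((m * k : M) : E)⁻¹ =
          (m : E) * ((k : E) * z.1 * (k : E)⁻¹) * (m : E)⁻¹
        simp [mul_assoc]) }
  haveI : MulAction.IsPretransitive M α := ⟨fun z w => by
    obtain ⟨c, hc, hcz⟩ := trans H z.2.1 z.2.2 w.2.1 w.2.2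
    exact ⟨⟨c, hc⟩, Subtype.ext hcz⟩⟩
  have hα : Nat.card α = Nat.card Z - 1 := by
    haveI : Fintype E := Fintype.ofFinite _
    classical
    rw [Nat.card_eq_fintype_card, Fintype.card_subtype, Nat.card_eq_fintype_card (α := Z),
      Fintype.card_subtype, ← Finset.card_erase_of_mem (a := (1 : E)) (by simp)]
    congr 1
    ext z
    simp [and_comm]
  have h1 := MulAction.index_stabilizer_of_transitive M (⟨v, hv, hv1⟩ : α)
  rw [hα] at h1
  exact (h1 ▸ Subgroup.index_dvd_card _).trans (Subgroup.card_subgroup_dvd_card M)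

theorem small_cases {K e d c : ℕ} (key : e * (e + 1) = K * d) (hd : c + d = 2 * e + 1)
    (he : e < 2 * K) (he1 : 1 ≤ e) (hK : K ∣ e ∨ K ∣ e + 1) :
    (e + 1 = 2 * K ∧ c = 1) ∨ (c = K ∧ (e = K ∨ e + 1 = K)) := by
  have hK0 : 0 < K := by omega
  rcases hK with ⟨l, hl⟩ | ⟨l, hl⟩
  · have hl1 : l = 1 := by
      rcases l with _ | _ | l
      · simp at hl; omega
      · rfl
      · nlinarith
    subst hl1
    rw [mul_one] at hl
    have hd' : d = e + 1 := by
      refine Nat.eq_of_mul_eq_mul_left hK0 ?_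
      rw [← key, hl]
    omega
  · obtain rfl | rfl : l = 1 ∨ l = 2 := by
      rcases l with _ | _ | _ | l
      · simp at hl
      · simp
      · simp
      · nlinarith
    · have hd' : d = e := by
        refine Nat.eq_of_mul_eq_mul_left hK0 ?_
        rw [← key, hl]; ring
      omega
    · have hd' : d = e + e := by
        refine Nat.eq_of_mul_eq_mul_left hK0 ?_
        rw [← key, hl]; ring
      omega

theorem pow_two_dvd_split {t e : ℕ} (h : 2 ^ t ∣ e * (e + 1)) : 2 ^ t ∣ e ∨ 2 ^ t ∣ e + 1 := by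
  rcases Nat.even_or_odd e with h1 | h1
  · exact Or.inl ((Nat.Coprime.pow_left _
      (Nat.coprime_two_left.2 h1.add_one)).dvd_of_dvd_mul_right h)
  · exact Or.inr ((Nat.Coprime.pow_left _ (Nat.coprime_two_left.2 h1)).dvd_of_dvd_mul_left h)

/-- The possible sizes of a two-valued invariant set of characters. -/
theorem size_arith {q A c : ℕ} (m s : ℕ) (hq : q = 2 ^ m) (hq4 : 4 ≤ q) (hc : c = 2 ^ s)
    (hA : 2 ≤ A) (hAq : A < q) (he : A * (q - A) = (q - 1) * (c * c)) :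
    A + 1 = q ∨ (q = 4 * (c * c) ∧ 16 ≤ q ∧ 3 * q ≤ 8 * A) := by
  obtain ⟨B, hB⟩ : ∃ B, q = A + B := ⟨q - A, by omega⟩
  rw [show q - A = B by omega] at he
  obtain ⟨q', hq'⟩ : ∃ q', q = q' + 1 := ⟨q - 1, by omega⟩
  rw [show q - 1 = q' by omega] at he
  have hc0 : 0 < c := hc ▸ Nat.two_pow_pos s
  have hAB : 4 * (A * B) ≤ q * q := by
    rcases le_total A B with h1 | h1
    · obtain ⟨t, rfl⟩ := Nat.exists_eq_add_of_le h1
      rw [hB]; nlinarith
    · obtain ⟨t, rfl⟩ := Nat.exists_eq_add_of_le h1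
      rw [hB]; nlinarith
  have h3 : 3 * (c * c) ≤ q := by
    have h4 : 3 * q ≤ 4 * q' := by omega
    have h5 : q * (3 * (c * c)) ≤ q * q := by
      calc q * (3 * (c * c)) = (3 * q) * (c * c) := by ring
        _ ≤ (4 * q') * (c * c) := Nat.mul_le_mul_right _ h4
        _ = 4 * (A * B) := by rw [he]; ring
        _ ≤ _ := hAB
    exact Nat.le_of_mul_le_mul_left h5 (by omega)
  have hsm : 2 * s + 2 ≤ m := by
    by_contra hlt
    have h6 := Nat.pow_le_pow_right (show 2 > 0 by norm_num) (show m ≤ 2 * s + 1 by omega)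
    rw [← hq, pow_succ, two_mul, pow_add, ← hc] at h6
    have := Nat.mul_pos hc0 hc0
    omega
  obtain ⟨i, hi⟩ : ∃ i, m = 2 * s + 2 + i := ⟨m - (2 * s + 2), by omega⟩
  have hq2 : q = c * c * (4 * 2 ^ i) := by
    rw [hq, hi, hc, pow_add, pow_add, two_mul, pow_add]
    ring
  have hAA : A * A + q * (c * c) = q * A + c * c := by
    have h7 : q * A = A * A + A * B := by rw [hB]; ring
    rw [h7, he, hq']
    ring
  obtain ⟨o, ho⟩ : c ∣ A := by
    refine (Nat.pow_dvd_pow_iff two_ne_zero).1 ?_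
    rw [pow_two, pow_two]
    refine (Nat.dvd_add_left (dvd_mul_left (c * c) q)).1 ?_
    rw [hAA]
    exact dvd_add (dvd_mul_of_dvd_left (hq2 ▸ dvd_mul_right _ _) _) dvd_rfl
  set K := 2 ^ (i + s) with hKd
  have hK : 2 ^ i * c = K := by rw [hKd, hc, pow_add]
  have hqQ : q = c * (4 * K) := by rw [hq2, ← hK]; ring
  have key : o * o + 4 * K * c = 4 * K * o + 1 := by
    refine Nat.eq_of_mul_eq_mul_left (Nat.mul_pos hc0 hc0) ?_
    calc c * c * (o * o + 4 * K * c) = c * o * (c * o) + c * (4 * K) * (c * c) := by ring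
      _ = A * A + q * (c * c) := by rw [← ho, ← hqQ]
      _ = q * A + c * c := hAA
      _ = _ := by rw [hqQ, ho]; ring
  have hK0 : 0 < K := Nat.two_pow_pos _
  have hoQ : o < 4 * K := Nat.lt_of_mul_lt_mul_left (a := c) (by omega)
  have hoc : c ≤ o := by
    by_contra h
    have h8 : 4 * K * (o + 1) ≤ 4 * K * c := Nat.mul_le_mul_left _ (by omega)
    rw [mul_add, mul_one] at h8
    omega
  obtain ⟨d, hd⟩ : ∃ d, o = c + d := ⟨o - c, by omega⟩
  have key2 : o * o = 4 * K * d + 1 := by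
    have h9 : 4 * K * o = 4 * K * c + 4 * K * d := by rw [hd, mul_add]
    omega
  obtain ⟨e, rfl⟩ : Odd o := by
    by_contra h1
    rw [Nat.not_odd_iff_even] at h1
    obtain ⟨e, rfl⟩ := h1
    have h10 : (e + e) * (e + e) = 2 * (2 * (e * e)) := by ring
    have h11 : 4 * K * d = 2 * (2 * (K * d)) := by ring
    omega
  have key3 : e * (e + 1) = K * d := by
    have h12 : (2 * e + 1) * (2 * e + 1) = 4 * (e * (e + 1)) + 1 := by ring
    have h13 : 4 * K * d = 4 * (K * d) := by ring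
    omega
  have he1 : 1 ≤ e := by
    by_contra h
    obtain rfl : e = 0 := by omega
    have : c = 1 := by omega
    subst this
    omega
  rcases small_cases key3 hd.symm (by omega) he1
      (pow_two_dvd_split (t := i + s) (key3 ▸ dvd_mul_right _ _)) with ⟨h1, h2⟩ | ⟨h1, h2⟩
  · left
    rw [h2, one_mul] at hqQ ho
    omega
  · rcases Nat.lt_or_ge c 2 with h5 | h5
    · left
      obtain rfl : c = 1 := by omega
      rw [one_mul] at hqQ ho
      omega
    · right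
      have h4 : q = 4 * (c * c) := by rw [hqQ, ← h1]; ring
      have h14 : 2 * 2 ≤ c * c := Nat.mul_le_mul h5 h5
      refine ⟨h4, by omega, ?_⟩
      have h15 : c * (2 * c - 1) ≤ A := by
        rw [ho]
        exact Nat.mul_le_mul_left _ (by omega)
      rw [Nat.mul_sub_one] at h15
      have h16 : c * (2 * c) = 2 * (c * c) := by ring
      have h17 : 2 * c ≤ c * c := Nat.mul_le_mul_right _ h5
      omega

end Cfsg.Agent.Flavell8.Gen.NoCen
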