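import Mathlib
import Cfsg.Agent.Lib.FlavellGen8Comp
import Cfsg.Agent.Lib.FlavellGen8Cover
import Cfsg.Agent.Lib.FlavellGen8CoreForm

/-!
Character sums `Σ χ (x * x)` over `T` for the characters `χ` of `cen T` in a frame.
-/

set_option autoImplicit false
set_option linter.unusedSectionVars false
set_option linter.style.haveILetI false
set_option linter.unusedVariables false

open scoped commutatorElement
open scoped Classical

namespace Cfsg.Agent.Flavell8.Gen.NoCen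

open Subgroup Cfsg.Agent.CoprimeAction
open Cfsg.Agent.Flavell8.Gen.CoreD (TX cen_comm cen_conj_t conj_cen cen_inv mem_normalizer_of_forward
  card_relIndex)

universe u

variable {Γ : Type u} [Group Γ] [Finite Γ]

/-- The characters of `cen T`. -/
abbrev Chr (T : Subgroup Γ) := ↥(cen T) →* ℤˣ

noncomputable instance chrFintype (T : Subgroup Γ) : Fintype (Chr T) :=
  haveI : Finite (Chr T) := Finite.of_injective _ DFunLike.coe_injective
  Fintype.ofFinite _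

/-- The value of a character as an integer, zero outside `cen T`. -/
noncomputable def ev {T : Subgroup Γ} (χ : Chr T) (x : Γ) : ℤ :=
  if hx : x ∈ cen T then ((χ ⟨x, hx⟩ : ℤˣ) : ℤ) else 0

variable {T : Subgroup Γ}

theorem ev_mem (χ : Chr T) {x : Γ} (hx : x ∈ cen T) : ev χ x = ((χ ⟨x, hx⟩ : ℤˣ) : ℤ) := dif_pos hx

theorem ev_mul (χ : Chr T) {x y : Γ} (hx : x ∈ cen T) (hy : y ∈ cen T) :
    ev χ (x * y) = ev χ x * ev χ y := by
  rw [ev_mem χ (mul_mem hx hy), ev_mem χ hx, ev_mem χ hy, ← Units.val_mul, ← map_mul]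
  rfl

theorem ev_one (χ : Chr T) : ev χ 1 = 1 := by
  rw [ev_mem χ (one_mem _), show (⟨(1 : Γ), one_mem _⟩ : cen T) = 1 from rfl, map_one]
  rfl

theorem ev_mulChr (χ ψ : Chr T) {x : Γ} (hx : x ∈ cen T) : ev (χ * ψ) x = ev χ x * ev ψ x := by
  rw [ev_mem _ hx, ev_mem _ hx, ev_mem _ hx, MonoidHom.mul_apply, Units.val_mul]

theorem ev_cases (χ : Chr T) {x : Γ} (hx : x ∈ cen T) : ev χ x = 1 ∨ ev χ x = -1 := by
  rw [ev_mem χ hx]
  rcases Int.units_eq_one_or (χ ⟨x, hx⟩) with e | e <;> simp [e]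

theorem ev_sq (χ : Chr T) {x : Γ} (hx : x ∈ cen T) : ev χ x * ev χ x = 1 := by
  rcases ev_cases χ hx with e | e <;> simp [e]

theorem ev_trivial {x : Γ} (hx : x ∈ cen T) : ev (1 : Chr T) x = 1 := by
  rw [ev_mem _ hx, MonoidHom.one_apply, Units.val_one]

theorem chr_ext {χ ψ : Chr T} (e : ∀ x ∈ cen T, ev χ x = ev ψ x) : χ = ψ := by
  ext z
  have := e z.1 z.2
  rwa [ev_mem _ z.2, ev_mem _ z.2] at this

theorem chr_sq (χ : Chr T) : χ * χ = 1 := by
  refine chr_ext fun x hx => ?_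
  rw [ev_mulChr _ _ hx, ev_sq χ hx, ev_trivial hx]

/-- The kernel of a character, as a subgroup of the ambient group. -/
def kerC (χ : Chr T) : Subgroup Γ := χ.ker.map (cen T).subtype

theorem mem_kerC {χ : Chr T} {x : Γ} : x ∈ kerC χ ↔ x ∈ cen T ∧ ev χ x = 1 := by
  constructor
  · rintro ⟨⟨y, hy⟩, hk, rfl⟩
    refine ⟨hy, ?_⟩
    show ev χ y = 1
    rw [ev_mem χ hy, MonoidHom.mem_ker.1 hk, Units.val_one]
  · rintro ⟨hx, he⟩
    refine ⟨⟨x, hx⟩, MonoidHom.mem_ker.2 (Units.ext ?_), rfl⟩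
    rw [Units.val_one, ← ev_mem χ hx, he]

theorem kerC_index {χ : Chr T} (hχ : χ ≠ 1) : (kerC χ).relIndex (cen T) = 2 := by
  obtain ⟨b, hb, hbn⟩ : ∃ b ∈ cen T, ev χ b = -1 := by
    by_contra hc
    push Not at hc
    exact hχ (chr_ext fun x hx => by
      rw [ev_trivial hx]
      exact (ev_cases χ hx).resolve_right (hc x hx))
  rw [relIndex_eq_two_iff]
  refine ⟨b, hb, fun z hz => ?_⟩
  simp only [Xor, mem_kerC, ev_mul χ hz hb, hbn, hz, mul_mem hz hb, true_and]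
  rcases ev_cases χ hz with e | e <;> simp [e]

/-- The elements of a subgroup as a finset. -/
noncomputable def fset (P : Subgroup Γ) : Finset Γ := (Set.toFinite (P : Set Γ)).toFinset

theorem mem_fset {P : Subgroup Γ} {x : Γ} : x ∈ fset P ↔ x ∈ P := Set.Finite.mem_toFinset _

theorem card_fset (P : Subgroup Γ) : (fset P).card = Nat.card P := by
  rw [fset, ← Set.ncard_eq_toFinset_card, ← Nat.card_coe_set_eq]
  rfl

/-- Translation invariance of a sum over a subgroup. -/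
theorem sum_mul_left (P : Subgroup Γ) {g : Γ} (hg : g ∈ P) (f : Γ → ℤ) :
    ∑ x ∈ fset P, f (g * x) = ∑ x ∈ fset P, f x := by
  refine Finset.sum_nbij' (fun x => g * x) (fun x => g⁻¹ * x) ?_ ?_ ?_ ?_ ?_
  · intro x hx
    exact mem_fset.2 (mul_mem hg (mem_fset.1 hx))
  · intro x hx
    exact mem_fset.2 (mul_mem (inv_mem hg) (mem_fset.1 hx))
  · intro x _; simp
  · intro x _; simp
  · intro x _; rfl

variable {p r n : ℕ} {V X S W : Subgroup Γ} {a : Γ}

/-- Separation of the elements of `cen T`. -/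
theorem exists_chr (h : Frame p r n V X S W T a) {z : Γ} (hz : z ∈ cen T) (hz1 : z ≠ 1) :
    ∃ χ : Chr T, ev χ z = -1 := by
  obtain ⟨H, hH⟩ := (Set.toFinite {H : Subgroup Γ | H ≤ cen T ∧ z ∉ H}).exists_maximal
    ⟨⊥, bot_le, fun e => hz1 (mem_bot.1 e)⟩
  obtain ⟨⟨hHZ, hzH⟩, hmax⟩ := hH
  have key : ∀ y ∈ cen T, y ∈ H ∨ y * z ∈ H := by
    intro y hy
    by_contra hc
    push Not at hc
    obtain ⟨H', hH'⟩ : ∃ H' : Subgroup Γ, ∀ x, x ∈ H' ↔ x ∈ cen T ∧ (x ∈ H ∨ x * y ∈ H) := by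
      have hcm : ∀ {u w : Γ}, u ∈ cen T → w ∈ cen T → u * w = w * u :=
        fun hu hw => (cen_comm h hu hw.1).symm
      refine ⟨{ carrier := {x | x ∈ cen T ∧ (x ∈ H ∨ x * y ∈ H)}, one_mem' := ⟨one_mem _, Or.inl (one_mem _)⟩, mul_mem' := ?_, inv_mem' := ?_ }, fun x => Iff.rfl⟩
      · rintro u w ⟨hu, hu'⟩ ⟨hw, hw'⟩
        refine ⟨mul_mem hu hw, ?_⟩
        rcases hu' with h1 | h1 <;> rcases hw' with h2 | h2
        · exact Or.inl (mul_mem h1 h2)
        · exact Or.inr (by rw [mul_assoc]; exact mul_mem h1 h2)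
        · exact Or.inr (by
            rw [mul_assoc, hcm hw hy, ← mul_assoc]; exact mul_mem h1 h2)
        · refine Or.inl ?_
          have h3 := mul_mem h1 h2
          rwa [mul_assoc, ← mul_assoc y, hcm hy hw, mul_assoc w, h.Zexp y hy, mul_one] at h3
      · rintro u ⟨hu, hu'⟩
        rw [Set.mem_ofPred_eq, cen_inv h hu]
        exact ⟨hu, hu'⟩
    have h1 : H ≤ H' := fun x hx => (hH' x).2 ⟨hHZ hx, Or.inl hx⟩
    have h2 : z ∉ H' := fun e => by
      rcases ((hH' z).1 e).2 with e | e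
      · exact hzH e
      · exact hc.2 (by rwa [← (cen_comm h hy hz.1)])
    have h3 := hmax (y := H') ⟨fun x hx => ((hH' x).1 hx).1, h2⟩ h1
    exact hc.1 (h3 ((hH' y).2 ⟨hy, Or.inr (by rw [h.Zexp y hy]; exact one_mem _)⟩))
  refine ⟨MonoidHom.mk' (fun y => if (y : Γ) ∈ H then 1 else -1) fun u w => ?_, ?_⟩
  · have hiff : ((u * w : cen T) : Γ) ∈ H ↔ ((u : Γ) ∈ H ↔ (w : Γ) ∈ H) := by
      rw [coe_mul]
      by_cases h1 : (u : Γ) ∈ H
      · simp [h1, Subgroup.mul_mem_cancel_left H h1]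
      by_cases h2 : (w : Γ) ∈ H
      · simp [h1, h2, Subgroup.mul_mem_cancel_right H h2]
      simp only [h1, h2, iff_self, iff_true]
      have h3 := mul_mem ((key _ u.2).resolve_left h1) ((key _ w.2).resolve_left h2)
      rwa [mul_assoc, ← mul_assoc z, ← cen_comm h hz w.2.1, mul_assoc _ z z, h.Zexp z hz,
        mul_one] at h3
    by_cases h1 : (u : Γ) ∈ H <;> by_cases h2 : (w : Γ) ∈ H <;> simp_all
  · rw [ev_mem _ hz]
    simp [hzH]

theorem sum_chr (h : Frame p r n V X S W T a) {z : Γ} (hz : z ∈ cen T) (hz1 : z ≠ 1) :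
    ∑ χ : Chr T, ev χ z = 0 := by
  obtain ⟨χ₀, h0⟩ := exists_chr h hz hz1
  have e1 : ∑ χ : Chr T, ev (χ₀ * χ) z = ∑ χ : Chr T, ev χ z :=
    Fintype.sum_equiv (Equiv.mulLeft χ₀) _ _ fun χ => rfl
  simp_rw [ev_mulChr _ _ hz, h0, neg_one_mul, Finset.sum_neg_distrib] at e1
  omega

theorem sum_cen {χ : Chr T} (hχ : χ ≠ 1) : ∑ z ∈ fset (cen T), ev χ z = 0 := by
  obtain ⟨b, hb, hbn⟩ : ∃ b ∈ cen T, ev χ b = -1 := by
    by_contra hc
    push Not at hc
    exact hχ (chr_ext fun x hx => by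
      rw [ev_trivial hx]
      exact (ev_cases χ hx).resolve_right (hc x hx))
  have e1 := sum_mul_left (cen T) hb (ev χ)
  rw [Finset.sum_congr rfl (fun z hz => ev_mul χ hb (mem_fset.1 hz)), ← Finset.mul_sum, hbn] at e1
  omega

theorem sum_cen_one : ∑ z ∈ fset (cen T), ev (1 : Chr T) z = Nat.card (cen T) := by
  rw [Finset.sum_congr rfl fun z hz => ev_trivial (mem_fset.1 hz)]
  simp [card_fset]

theorem card_chr (h : Frame p r n V X S W T a) : Fintype.card (Chr T) = Nat.card (cen T) := by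
  have e1 : ∑ z ∈ fset (cen T), ∑ χ : Chr T, ev χ z = (Fintype.card (Chr T) : ℤ) := by
    rw [Finset.sum_eq_single (1 : Γ)]
    · simp [ev_one]
    · exact fun z hz hz1 => sum_chr h (mem_fset.1 hz) hz1
    · exact fun hn => absurd (mem_fset.2 (one_mem _)) hn
  rw [Finset.sum_comm, Finset.sum_eq_single (1 : Chr T) (fun χ _ hχ => sum_cen hχ) (by simp),
    sum_cen_one] at e1
  exact_mod_cast e1.symm

theorem sum_chr_eq (h : Frame p r n V X S W T a) {z : Γ} (hz : z ∈ cen T) :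
    ∑ χ : Chr T, ev χ z = if z = 1 then (Nat.card (cen T) : ℤ) else 0 := by
  split_ifs with e
  · subst e
    simp [ev_one, card_chr h]
  · exact sum_chr h hz e

/-- The character sum. -/
noncomputable def gs (χ : Chr T) : ℤ := ∑ x ∈ fset T, ev χ (x * x)

theorem sq_mul (h : Frame p r n V X S W T a) (χ : Chr T) {x y : Γ} (hx : x ∈ T) (hy : y ∈ T) :
    ev χ (x * y * (x * y)) = ev χ (x * x) * ev χ ⁅x⁻¹, y⁆ * ev χ (y * y) := by
  have hc : ⁅x⁻¹, y⁆ ∈ cen T := h.Tcomm (commutator_mem_commutator (inv_mem hx) hy)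
  have e : x * y * (x * y) = x * x * (⁅x⁻¹, y⁆ * (y * y)) := by
    simp only [commutatorElement_def]
    group
  rw [e, ev_mul χ (h.Tsq x hx) (mul_mem hc (h.Tsq y hy)), ev_mul χ hc (h.Tsq y hy), mul_assoc]

theorem exists_rad (h : Frame p r n V X S W T a) (χ : Chr T) :
    ∃ R : Subgroup Γ, (∀ x, x ∈ R ↔ x ∈ T ∧ ∀ y ∈ T, ev χ ⁅x, y⁆ = 1) ∧ cen T ≤ R ∧ R ≤ T ∧
      a ∈ normalizer (R : Set Γ) ∧ (χ ≠ 1 → R ≠ T) := by
  have hcm : ∀ {x y : Γ}, x ∈ T → y ∈ T → ⁅x, y⁆ ∈ cen T :=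
    fun hx hy => h.Tcomm (commutator_mem_commutator hx hy)
  obtain ⟨R, hR⟩ : ∃ R : Subgroup Γ, ∀ x, x ∈ R ↔ x ∈ T ∧ ∀ y ∈ T, ev χ ⁅x, y⁆ = 1 := by
    refine ⟨{ carrier := {x | x ∈ T ∧ ∀ y ∈ T, ev χ ⁅x, y⁆ = 1}, one_mem' := ⟨one_mem _, fun y _ => by rw [commutatorElement_one_left]; exact ev_one χ⟩, mul_mem' := ?_, inv_mem' := ?_ }, fun x => Iff.rfl⟩
    · rintro x y ⟨hx, hx'⟩ ⟨hy, hy'⟩
      refine ⟨mul_mem hx hy, fun w hw => ?_⟩
      have e : ⁅x * y, w⁆ = ⁅y, w⁆ * ⁅x, w⁆ := by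
        have h1 : ⁅x * y, w⁆ = x * ⁅y, w⁆ * x⁻¹ * ⁅x, w⁆ := by
          simp only [commutatorElement_def]; group
        rw [h1, cen_conj_t h (hcm hy hw) hx]
      rw [e, ev_mul χ (hcm hy hw) (hcm hx hw), hy' w hw, hx' w hw, one_mul]
    · rintro x ⟨hx, hx'⟩
      refine ⟨inv_mem hx, fun w hw => ?_⟩
      have h1 : ⁅x, w⁆ * ⁅x⁻¹, w⁆ = 1 := by
        have h2 := cen_conj_t h (hcm (inv_mem hx) hw) hx
        calc ⁅x, w⁆ * ⁅x⁻¹, w⁆ = ⁅x, w⁆ * (x * ⁅x⁻¹, w⁆ * x⁻¹) := by rw [h2]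
          _ = x * ⁅x⁻¹, w⁆ * x⁻¹ * ⁅x, w⁆ := by
            rw [h2]; exact (cen_comm h (hcm hx hw) (hcm (inv_mem hx) hw).1).symm
          _ = _ := by simp only [commutatorElement_def]; group
      rw [eq_inv_of_mul_eq_one_right h1, cen_inv h (hcm hx hw)]
      exact hx' w hw
  refine ⟨R, hR, fun z hz => (hR z).2 ⟨hz.1, fun y hy => ?_⟩, fun x hx => ((hR x).1 hx).1, ?_,
    fun hχ e => hχ (chr_ext fun z hz => ?_)⟩
  · rw [show ⁅z, y⁆ = 1 from commutatorElement_eq_one_iff_mul_comm.2 (cen_comm h hz hy).symm]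
    exact ev_one χ
  · refine mem_normalizer_of_forward fun x hx => ?_
    obtain ⟨hx, hx'⟩ := (hR x).1 hx
    refine (hR _).2 ⟨conj_mem h.aT hx, fun y hy => ?_⟩
    have hy2 : a⁻¹ * y * a ∈ T := conj_mem' h.aT hy
    have e1 : ⁅a * x * a⁻¹, y⁆ = a * ⁅x, a⁻¹ * y * a⁆ * a⁻¹ := by
      simp only [commutatorElement_def]; group
    rw [e1, CoreD.cen_fix h (hcm hx hy2), mul_inv_cancel_right]
    exact hx' _ hy2
  · rw [ev_trivial hz]
    obtain ⟨D, hD⟩ : ∃ D : Subgroup Γ, ∀ z, z ∈ D ↔ z ∈ cen T ∧ ev χ z = 1 :=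
      ⟨kerC χ, fun z => mem_kerC⟩
    have hle : ⁅T, T⁆ ≤ D := commutator_le.2 fun x hx y hy =>
      (hD _).2 ⟨hcm hx hy, ((hR x).1 (e.symm ▸ hx)).2 y hy⟩
    rw [derived_eq h] at hle
    exact ((hD z).1 (hle hz)).2

/-- The square of the character sum. -/
theorem gs_sq (h : Frame p r n V X S W T a) (χ : Chr T) {R : Subgroup Γ}
    (hR : ∀ x, x ∈ R ↔ x ∈ T ∧ ∀ y ∈ T, ev χ ⁅x, y⁆ = 1) :
    gs χ * gs χ = Nat.card T * ∑ d ∈ fset R, ev χ (d * d) := by
  have hRT : R ≤ T := fun x hx => ((hR x).1 hx).1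
  have hcm : ∀ {x y : Γ}, x ∈ T → y ∈ T → ⁅x, y⁆ ∈ cen T :=
    fun hx hy => h.Tcomm (commutator_mem_commutator hx hy)
  have e1 : gs χ * gs χ = ∑ x ∈ fset T, ∑ d ∈ fset T, ev χ ⁅x⁻¹, d⁆ * ev χ (d * d) := by
    rw [gs, Finset.sum_mul]
    refine Finset.sum_congr rfl fun x hx => ?_
    rw [Finset.mul_sum, ← sum_mul_left T (mem_fset.1 hx)]
    refine Finset.sum_congr rfl fun d hd => ?_
    rw [sq_mul h χ (mem_fset.1 hx) (mem_fset.1 hd), ← mul_assoc, ← mul_assoc,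
      ev_sq χ (h.Tsq x (mem_fset.1 hx)), one_mul]
  rw [e1, Finset.sum_comm, Finset.mul_sum]
  simp_rw [← Finset.sum_mul]
  have key : ∀ d ∈ fset T, ∑ x ∈ fset T, ev χ ⁅x⁻¹, d⁆ =
      if d ∈ R then (Nat.card T : ℤ) else 0 := by
    intro d hd
    have hdT := mem_fset.1 hd
    split_ifs with hdR
    · rw [Finset.sum_congr rfl (fun x hx => ?_), Finset.sum_const, card_fset, nsmul_one]
      rw [← commutatorElement_inv, cen_inv h (hcm hdT (inv_mem (mem_fset.1 hx)))]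
      exact ((hR d).1 hdR).2 _ (inv_mem (mem_fset.1 hx))
    · obtain ⟨y, hy, hyn⟩ : ∃ y ∈ T, ev χ ⁅d, y⁆ ≠ 1 := by
        by_contra hc
        push Not at hc
        exact hdR ((hR d).2 ⟨hdT, hc⟩)
      have hyn' : ev χ ⁅d, y⁆ = -1 := (ev_cases χ (hcm hdT hy)).resolve_left hyn
      have e2 := sum_mul_left T (inv_mem hy) (fun x => ev χ ⁅x⁻¹, d⁆)
      have e3 : ∀ x ∈ fset T, ev χ ⁅(y⁻¹ * x)⁻¹, d⁆ = -ev χ ⁅x⁻¹, d⁆ := by
        intro x hx
        have hxT := mem_fset.1 hx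
        have e4 : ⁅(y⁻¹ * x)⁻¹, d⁆ = x⁻¹ * ⁅y, d⁆ * x⁻¹⁻¹ * ⁅x⁻¹, d⁆ := by
          simp only [commutatorElement_def]; group
        rw [e4, cen_conj_t h (hcm hy hdT) (inv_mem hxT), ev_mul χ (hcm hy hdT) (hcm (inv_mem hxT) hdT),
          ← commutatorElement_inv, cen_inv h (hcm hdT hy), hyn', neg_one_mul]
      rw [Finset.sum_congr rfl e3, Finset.sum_neg_distrib] at e2
      omega
  rw [Finset.sum_congr rfl fun d hd => by rw [key d hd], ← Finset.sum_filter_add_sum_filter_not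
    (fset T) (fun d => d ∈ R)]
  rw [Finset.sum_eq_zero (s := (fset T).filter fun d => d ∉ R) (fun d hd => by
    rw [if_neg (Finset.mem_filter.1 hd).2, zero_mul]), add_zero]
  refine Finset.sum_congr ?_ fun d hd => by rw [if_pos (mem_fset.1 hd)]
  ext d
  simp only [Finset.mem_filter, mem_fset]
  exact ⟨fun e => e.2, fun e => ⟨hRT e, e⟩⟩

/-- A proper invariant subgroup over `cen T` has index at least `4 ^ n`, and `16 ^ n` if larger. -/
theorem index_le (h : Frame p r n V X S W T a) {K : Subgroup Γ} (hZK : cen T ≤ K) (hKT : K ≤ T)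
    (haK : a ∈ normalizer (K : Set Γ)) (hne : K ≠ T) :
    Nat.card T = 4 ^ n * Nat.card K ∨ 4 ^ n * (4 ^ n * Nat.card K) ≤ Nat.card T := by
  haveI : Fact (Nat.Prime 2) := ⟨Nat.prime_two⟩
  haveI : NeZero r := ⟨h.hr.ne_zero⟩
  obtain ⟨eT, heT⟩ := IsPGroup.iff_card.1 h.T2
  obtain ⟨eK, heK⟩ := IsPGroup.iff_card.1 (h.T2.to_le hKT)
  have hle : eK ≤ eT := by
    have := card_le_of_le hKT
    rw [heT, heK] at this
    exact (Nat.pow_le_pow_iff_right (by norm_num)).1 this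
  obtain ⟨e, rfl⟩ : ∃ e, eT = eK + e := ⟨eT - eK, by omega⟩
  have he : 0 < e := by
    by_contra hc
    obtain rfl : e = 0 := by omega
    exact hne (eq_of_le_of_card_ge hKT (by rw [heT, heK, add_zero]))
  -- orbits of `a` outside `K`
  have hs : ∀ x ∈ {x : Γ | x ∈ T ∧ x ∉ K}, a * x * a⁻¹ ∈ {x : Γ | x ∈ T ∧ x ∉ K} :=
    fun x hx => ⟨conj_mem h.aT hx.1, fun hk => hx.2 (by
      simpa [mul_assoc] using conj_mem' haK hk)⟩
  have h0 := modEq_fix h.hr h.orda _ hs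
  have hfix : {x : Γ | x ∈ {x : Γ | x ∈ T ∧ x ∉ K} ∧ a * x = x * a} = ∅ := by
    ext x
    simp only [Set.mem_ofPred_eq, Set.mem_empty_iff_false, iff_false, not_and]
    rintro ⟨hx, hxK⟩ hc
    exact hxK (hZK (h.Tfix ▸ ⟨hx, mem_centralizer_singleton_iff.2 hc.symm⟩))
  have hcard : {x : Γ | x ∈ T ∧ x ∉ K}.ncard + Nat.card K = Nat.card T := by
    have := Set.ncard_sdiff_add_ncard_of_subset (s := (K : Set Γ)) (t := (T : Set Γ)) hKT
    rw [← Nat.card_coe_set_eq (K : Set Γ), ← Nat.card_coe_set_eq (T : Set Γ)] at this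
    exact this
  rw [hfix, Set.ncard_empty, Nat.modEq_zero_iff_dvd] at h0
  have hdiv : r ∣ 2 ^ eK * (2 ^ e - 1) := by
    have : {x : Γ | x ∈ T ∧ x ∉ K}.ncard = 2 ^ eK * (2 ^ e - 1) := by
      rw [Nat.mul_sub_one, ← pow_add]
      omega
    rwa [this] at h0
  have hr2 : Nat.Coprime r (2 ^ eK) :=
    ((Nat.coprime_primes h.hr Nat.prime_two).2 h.r2).pow_right _
  have hmod : 2 ^ e ≡ 1 [MOD 2 ^ n + 1] := by
    rw [← h.rn]
    exact ((Nat.modEq_iff_dvd' (Nat.two_pow_pos e)).2 (hr2.dvd_of_dvd_mul_left hdiv)).symm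
  rw [heT, heK, show (4 : ℕ) ^ n = 2 ^ (2 * n) by rw [pow_mul]; norm_num, ← pow_add, ← pow_add]
  rcases Nat.lt_or_ge e (4 * n) with h4 | h4
  · left
    rcases Nat.lt_or_ge (2 * n) e with h5 | h5
    · exfalso
      obtain ⟨m, rfl⟩ : ∃ m, e = 2 * n + m := ⟨e - 2 * n, by omega⟩
      have h6 : 2 ^ (2 * n) ≡ 1 [MOD 2 ^ n + 1] := by
        refine ((Nat.modEq_iff_dvd' (Nat.two_pow_pos _)).2 ?_).symm
        refine ⟨2 ^ n - 1, ?_⟩
        have h9 := Nat.sq_sub_sq (2 ^ n) 1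
        rw [one_pow, ← pow_mul, mul_comm n] at h9
        exact h9
      have h7 : 2 ^ m ≡ 1 [MOD 2 ^ n + 1] := by
        rw [pow_add] at hmod
        exact ((one_mul (2 ^ m)) ▸ (h6.mul_right (2 ^ m)).symm).trans hmod
      rcases pow_two_modEq h.n1 (by omega) h7 with e1 | e1 <;> omega
    · rcases pow_two_modEq h.n1 h5 hmod with e1 | e1
      · omega
      · rw [e1, add_comm]
  · right
    exact Nat.pow_le_pow_right (by norm_num) (by omega)

/-- Every character sum is small, or is that of a constituent. -/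
theorem gs_le (h : Frame p r n V X S W T a) (χ : Chr T) (hχ : χ ≠ 1) :
    4 ^ n * gs χ ≤ Nat.card T := by
  obtain ⟨R, hR, hZR, hRT, haR, hne⟩ := exists_rad h χ
  have hsq := gs_sq h χ hR
  have hbound : ∀ {B : ℤ}, 0 ≤ B → gs χ * gs χ ≤ B * B → gs χ ≤ B := by
    intro B hB hle
    by_contra hlt
    push Not at hlt
    nlinarith
  by_cases hq : ∀ x ∈ R, ev χ (x * x) = 1
  swap
  · push Not at hq
    obtain ⟨x₀, hx₀, hx₀n⟩ := hq
    have hx₀' : ev χ (x₀ * x₀) = -1 := (ev_cases χ (h.Tsq x₀ (hRT hx₀))).resolve_left hx₀n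
    have e1 := sum_mul_left R hx₀ (fun d => ev χ (d * d))
    have e2 : ∀ d ∈ fset R, ev χ (x₀ * d * (x₀ * d)) = -ev χ (d * d) := by
      intro d hd
      rw [sq_mul h χ (hRT hx₀) (hRT (mem_fset.1 hd)), hx₀',
        ((hR _).1 (inv_mem hx₀)).2 d (hRT (mem_fset.1 hd)), mul_one, neg_one_mul]
    rw [Finset.sum_congr rfl e2, Finset.sum_neg_distrib] at e1
    have h0 : gs χ * gs χ = 0 := by
      rw [hsq, show ∑ d ∈ fset R, ev χ (d * d) = 0 by omega, mul_zero]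
    rcases mul_eq_zero.1 h0 with e | e <;> simp [e]
  have hsum : ∑ d ∈ fset R, ev χ (d * d) = Nat.card R := by
    rw [Finset.sum_congr rfl fun d hd => hq d (mem_fset.1 hd)]
    simp [card_fset]
  rw [hsum] at hsq
  rcases index_le h hZR hRT haR (hne hχ) with hcard | hcard
  · have hC : Comp n T (kerC χ) R a := by
      refine ⟨fun z hz => (mem_kerC.1 hz).1, kerC_index hχ, hRT, hZR, fun x hx => ?_,
        fun x hx => mem_kerC.2 ⟨h.Tsq x (hRT hx), hq x hx⟩, haR, hcard, fun U hRU hUT haU => ?_⟩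
      · rw [hR]
        refine ⟨fun e y hy => mem_kerC.2 ⟨h.Tcomm (commutator_mem_commutator hx hy), e.2 y hy⟩,
          fun e => ⟨hx, fun y hy => (mem_kerC.1 (e y hy)).2⟩⟩
      · by_contra hc
        push Not at hc
        obtain ⟨hUR, hU⟩ := hc
        have h1 : Nat.card R < Nat.card U := by
          by_contra h2
          exact hUR (eq_of_le_of_card_ge hRU (not_lt.1 h2)).symm
        have h3 : (0 : ℕ) < 4 ^ n := by positivity
        rcases index_le h (hZR.trans hRU) hUT haU hU with h2 | h2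
        · nlinarith
        · have h4 := Nat.mul_lt_mul_of_pos_left h1 h3
          have h5 : Nat.card U ≤ 4 ^ n * Nat.card U := Nat.le_mul_of_pos_left _ h3
          have h6 := Nat.mul_le_mul_left (4 ^ n) h5
          omega
    have hneg : gs χ ≤ 0 := by
      have hc := comp_count h hC
      have e1 : gs χ = 2 * ({x : Γ | x ∈ T ∧ x * x ∈ kerC χ}.ncard : ℤ) - Nat.card T := by
        have hF : {x : Γ | x ∈ T ∧ x * x ∈ kerC χ}.ncard =
            ((fset T).filter fun x => ev χ (x * x) = 1).card := by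
          rw [← Set.ncard_coe_finset]
          congr 1
          ext x
          simp only [Finset.coe_filter, mem_fset, Set.mem_ofPred_eq, mem_kerC]
          exact ⟨fun e => ⟨e.1, e.2.2⟩, fun e => ⟨e.1, h.Tsq x e.1, e.2⟩⟩
        rw [hF, Finset.card_filter, Nat.cast_sum, Finset.mul_sum, gs, ← card_fset T,
          Finset.card_eq_sum_ones, Nat.cast_sum, ← Finset.sum_sub_distrib]
        refine Finset.sum_congr rfl fun x hx => ?_
        rcases ev_cases χ (h.Tsq x (mem_fset.1 hx)) with e | e <;> simp [e]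
      rw [e1]
      have hc' : (2 * {x : Γ | x ∈ T ∧ x * x ∈ kerC χ}.ncard : ℤ) ≤ Nat.card T := by
        exact_mod_cast Nat.le.intro hc
      linarith
    nlinarith [show (0 : ℤ) < 4 ^ n by positivity, show (0 : ℤ) ≤ Nat.card T by positivity]
  · have hcard' : (4 : ℤ) ^ n * (4 ^ n * Nat.card R) ≤ Nat.card T := by exact_mod_cast hcard
    have h1 : (4 ^ n * gs χ) * (4 ^ n * gs χ) ≤ (Nat.card T : ℤ) * Nat.card T := by
      calc (4 ^ n * gs χ) * (4 ^ n * gs χ) = (4 ^ n * (4 ^ n * Nat.card R)) * Nat.card T := by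
            rw [show (4 ^ n * gs χ) * (4 ^ n * gs χ) = 4 ^ n * 4 ^ n * (gs χ * gs χ) by ring, hsq]
            ring
        _ ≤ _ := mul_le_mul_of_nonneg_right hcard' (by positivity)
    by_contra hlt
    push Not at hlt
    nlinarith [show (0 : ℤ) ≤ Nat.card T by positivity]

/-- The sum of a constituent. -/
theorem gs_comp (h : Frame p r n V X S W T a) {lam R : Subgroup Γ} (hc : Comp n T lam R a) :
    ∃ χ : Chr T, kerC χ = lam ∧ 2 ^ n * gs χ = -(Nat.card T : ℤ) ∧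
      gs χ = -(2 ^ n * Nat.card R : ℤ) := by
  have hmul : ∀ u w : cen T, ((u * w : cen T) : Γ) ∈ lam ↔ ((u : Γ) ∈ lam ↔ (w : Γ) ∈ lam) :=
    fun u w => CoreD.mul_mem_iff_rel hc.lam_index u.2 w.2
  set χ : Chr T := MonoidHom.mk' (fun y => if (y : Γ) ∈ lam then 1 else -1) fun u w => by
    have := hmul u w
    by_cases h1 : (u : Γ) ∈ lam <;> by_cases h2 : (w : Γ) ∈ lam <;> simp_all with hχ
  have hev : ∀ z ∈ cen T, ev χ z = if z ∈ lam then 1 else -1 := by
    intro z hz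
    rw [ev_mem χ hz, hχ, MonoidHom.mk'_apply]
    split_ifs <;> rfl
  have hker : kerC χ = lam := by
    ext z
    rw [mem_kerC]
    refine ⟨fun ⟨hz, e⟩ => ?_, fun hz => ⟨hc.lam_le hz, by rw [hev z (hc.lam_le hz), if_pos hz]⟩⟩
    rw [hev z hz] at e
    by_contra hn
    rw [if_neg hn] at e
    norm_num at e
  refine ⟨χ, hker, ?_⟩
  have hG : gs χ = -(2 ^ n * Nat.card R : ℤ) := by
    have hcc := comp_count h hc
    have hF : {x : Γ | x ∈ T ∧ x * x ∈ lam}.ncard =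
        ((fset T).filter fun x => ev χ (x * x) = 1).card := by
      rw [← Set.ncard_coe_finset]
      congr 1
      ext x
      simp only [Finset.coe_filter, mem_fset, Set.mem_ofPred_eq, ← hker, mem_kerC]
      exact ⟨fun e => ⟨e.1, e.2.2⟩, fun e => ⟨e.1, h.Tsq x e.1, e.2⟩⟩
    have e1 : gs χ = 2 * ({x : Γ | x ∈ T ∧ x * x ∈ lam}.ncard : ℤ) - Nat.card T := by
      rw [hF, Finset.card_filter, Nat.cast_sum, Finset.mul_sum, gs, ← card_fset T,
        Finset.card_eq_sum_ones, Nat.cast_sum, ← Finset.sum_sub_distrib]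
      refine Finset.sum_congr rfl fun x hx => ?_
      rcases ev_cases χ (h.Tsq x (mem_fset.1 hx)) with e | e <;> simp [e]
    have : (2 * {x : Γ | x ∈ T ∧ x * x ∈ lam}.ncard + 2 ^ n * Nat.card R : ℤ) = Nat.card T := by
      exact_mod_cast hcc
    linarith
  refine ⟨?_, hG⟩
  have e4 : (Nat.card T : ℤ) = 2 ^ n * 2 ^ n * Nat.card R := by
    rw [hc.card, Nat.cast_mul, Nat.cast_pow, show ((4 : ℕ) : ℤ) = 2 * 2 by norm_num, mul_pow]
  rw [hG, e4]
  ring

end Cfsg.Agent.Flavell8.Gen.NoCen
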