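import Mathlib
import Cfsg.Agent.Lib.FlavellGen8NoCenAux
import Cfsg.Agent.Lib.FlavellGen8NoCenGauss
import Cfsg.Agent.Lib.FlavellGen8Core

/-!
In a configuration `Closed` in which `cen T` is not central in `X`, no non-trivial element of `cen T`
is central in `X`.

If `v₀` is one, the elements of `T` with square in `⟨v₀⟩` fill invariant lines over `cen T`, each
fixed by a subgroup of `C ∩ M` transitive on `cen T / ⟨v₀⟩`; this bounds the difference of the numbers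
of solutions of `x² = v₀` and `x² = 1`, while the sums of the characters of `cen T` make it large.
-/

set_option autoImplicit false
set_option linter.unusedSectionVars false
set_option linter.style.haveILetI false
set_option linter.unusedVariables false

open scoped commutatorElement
open scoped Classical

namespace Cfsg.Agent.Flavell8.Gen.NoCen

open Subgroup Cfsg.Agent.CoprimeAction
open Cfsg.Agent.Flavell8.Gen.CoreD (MM TX cen_comm cen_conj_t conj_cen cen_inv cen_fix conj_into_W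
  mem_normalizer_of_forward card_relIndex)

universe u

variable {Γ : Type u} [Group Γ] [Finite Γ] {p r n : ℕ} {V X S W T : Subgroup Γ} {a : Γ}

/-- `X` modulo its centre. -/
abbrev Qt (X : Subgroup Γ) := ↥X ⧸ Subgroup.center ↥X

/-- The image of `N_X(T)`. -/
abbrev Mb (X T : Subgroup Γ) : Subgroup (Qt X) :=
  ((MM X T).subgroupOf X).map (QuotientGroup.mk' (Subgroup.center ↥X))

/-- The image of `cen T`. -/
abbrev Zb (X T : Subgroup Γ) : Subgroup (Qt X) :=
  ((cen T).subgroupOf X).map (QuotientGroup.mk' (Subgroup.center ↥X))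

theorem mem_center_X {X : Subgroup Γ} {x : X} :
    x ∈ Subgroup.center ↥X ↔ (x : Γ) ∈ centralizer (X : Set Γ) := by
  rw [Subgroup.mem_center_iff, mem_centralizer_iff]
  exact ⟨fun e g hg => congrArg Subtype.val (e ⟨g, hg⟩), fun e g => Subtype.ext (e g.1 g.2)⟩

theorem mk_eq {X : Subgroup Γ} {x y : X} :
    (x : Qt X) = (y : Qt X) ↔ (x : Γ)⁻¹ * (y : Γ) ∈ centralizer (X : Set Γ) := by
  rw [QuotientGroup.eq, mem_center_X]
  rfl

theorem cx_cen (h : Closed p r n V X S W T a) {k : Γ} (hk : k ∈ centralizer (X : Set Γ))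
    (hkT : k ∈ T) : k ∈ cen T :=
  ⟨hkT, mem_centralizer_iff.2 fun t ht => mem_centralizer_iff.1 hk t (TX h.toFrame ht)⟩

section Quot

variable (h : Closed p r n V X S W T a) (hZ : ¬ cen T ≤ centralizer (X : Set Γ))
include h hZ

theorem cent_le_norm {k : Γ} (hkX : k ∈ X) (hk : k ∈ centralizer (X : Set Γ)) :
    k ∈ normalizer (T : Set Γ) := by
  obtain ⟨v, hv, hvn⟩ := SetLike.not_le_iff_exists.1 hZ
  refine h.centZ v hv hvn k hkX ?_
  rw [commutatorElement_eq_one_iff_mul_comm.2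
    (mem_centralizer_iff.1 hk v (TX h.toFrame hv.1)).symm]
  exact one_mem _

theorem mem_Mb {x : X} : (x : Qt X) ∈ Mb X T ↔ (x : Γ) ∈ normalizer (T : Set Γ) := by
  constructor
  · rintro ⟨y, hy, he⟩
    have h1 : (y : Γ)⁻¹ * x ∈ centralizer (X : Set Γ) := mk_eq.1 he
    have h2 := mul_mem (mem_inf.1 (mem_subgroupOf.1 hy)).2
      (cent_le_norm h hZ (mul_mem (inv_mem y.2) x.2) h1)
    simpa using h2
  · exact fun hx => ⟨x, mem_subgroupOf.2 (mem_inf.2 ⟨x.2, hx⟩), rfl⟩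

theorem mem_Zb {x : X} : (x : Qt X) ∈ Zb X T ↔ ∃ z ∈ cen T, z⁻¹ * (x : Γ) ∈ centralizer (X : Set Γ) := by
  constructor
  · rintro ⟨y, hy, he⟩
    exact ⟨y, mem_subgroupOf.1 hy, mk_eq.1 he⟩
  · rintro ⟨z, hz, he⟩
    exact ⟨⟨z, TX h.toFrame hz.1⟩, mem_subgroupOf.2 hz, mk_eq.2 he⟩

theorem Zb_one {x : X} (hx : (x : Γ) ∈ cen T) :
    (x : Qt X) = 1 ↔ (x : Γ) ∈ centralizer (X : Set Γ) := by
  rw [QuotientGroup.eq_one_iff, mem_center_X]

theorem exists_notMem : ∃ g ∈ X, g ∉ normalizer (T : Set Γ) := by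
  by_contra hc
  push Not at hc
  refine hZ (inf_le_left.trans (h.normalP' T (TX h.toFrame) h.aT hc ?_))
  intro hd
  haveI : Fact (Nat.Prime 2) := ⟨Nat.prime_two⟩
  obtain ⟨e, he⟩ := IsPGroup.iff_card.1 h.T2
  exact h.hp2 ((Nat.prime_dvd_prime_iff_eq h.hp Nat.prime_two).1 (h.hp.dvd_of_dvd_pow (he ▸ hd)))

theorem hyp : Hyp (Mb X T) (Zb X T) := by
  refine ⟨map_mono (fun x hx => ?_), ?_, ?_, ?_, ?_, ?_⟩
  · rw [mem_subgroupOf] at hx ⊢
    exact mem_inf.2 ⟨x.2, le_normalizer hx.1⟩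
  · rintro m hm z ⟨z, hz, rfl⟩
    obtain ⟨m, hm, rfl⟩ := hm
    rw [← map_inv, ← map_mul, ← map_mul]
    exact mem_map_of_mem _ (mem_subgroupOf.2
      (conj_cen h.toFrame (mem_inf.1 (mem_subgroupOf.1 hm)).2 (mem_subgroupOf.1 hz)))
  · rintro z ⟨z, hz, rfl⟩
    rw [← map_mul, show z * z = 1 from Subtype.ext (h.Zexp _ (mem_subgroupOf.1 hz)), map_one]
  · rintro v ⟨v, hv, rfl⟩ hv1 g hg
    obtain ⟨g, rfl⟩ := QuotientGroup.mk_surjective g
    replace hv : (v : Γ) ∈ cen T := mem_subgroupOf.1 hv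
    have hvn : (v : Γ) ∉ centralizer (X : Set Γ) := fun e => hv1 ((Zb_one h hZ hv).2 e)
    have hgn : (g : Γ) * v * (g : Γ)⁻¹ ∈ normalizer (T : Set Γ) :=
      (mem_Mb h hZ (x := g * v * g⁻¹)).1 hg
    obtain ⟨h1, h2⟩ := h.strong v hv hvn g g.2 hgn
    exact ⟨(mem_Mb h hZ).2 h1, ⟨g * v * g⁻¹, mem_subgroupOf.2 h2, rfl⟩⟩
  · intro P hP
    haveI : Fact (Nat.Prime 2) := ⟨Nat.prime_two⟩
    set f := QuotientGroup.mk' (Subgroup.center ↥X)
    have hsurj : Function.Surjective (f.subgroupComap P) :=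
      f.subgroupComap_surjective_of_surjective P (QuotientGroup.mk'_surjective _)
    obtain ⟨Q⟩ : Nonempty (Sylow 2 ↥(P.comap f)) := inferInstance
    set P₁ := (((Q : Subgroup ↥(P.comap f)).map (P.comap f).subtype).map X.subtype) with hP₁
    obtain ⟨g, hg, hgW⟩ := conj_into_W h.toFrame (P := P₁) (map_subtype_le _)
      ((Q.2.map _).map _)
    refine ⟨((⟨g, hg⟩ : X) : Qt X), fun x hx => ?_⟩
    have htop : ((Sylow.mapSurjective hsurj Q : Sylow 2 P) : Subgroup P) = ⊤ := by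
      refine ((Sylow.mapSurjective hsurj Q).is_maximal' (Q := ⊤) ?_ le_top).symm
      exact hP.of_equiv Subgroup.topEquiv.symm
    rw [Sylow.coe_mapSurjective] at htop
    obtain ⟨y, hy, hyx⟩ := (htop.symm ▸ mem_top _ :
      (⟨x, hx⟩ : P) ∈ (Q : Subgroup ↥(P.comap f)).map (f.subgroupComap P))
    have hyx' : ((y : X) : Qt X) = x := congrArg Subtype.val hyx
    rw [← hyx']
    exact (mem_Mb h hZ (x := ⟨g, hg⟩ * (y : X) * ⟨g, hg⟩⁻¹)).2
      (h.WT (hgW _ (mem_map_of_mem _ (mem_map_of_mem _ hy))))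
  · obtain ⟨g, hg, hgn⟩ := exists_notMem h hZ
    exact ⟨((⟨g, hg⟩ : X) : Qt X), fun e => hgn ((mem_Mb h hZ).1 e)⟩

theorem nontriv : ∃ v : X, (v : Γ) ∈ cen T ∧ (v : Qt X) ∈ Zb X T ∧ (v : Qt X) ≠ 1 := by
  obtain ⟨v, hv, hvn⟩ := SetLike.not_le_iff_exists.1 hZ
  exact ⟨⟨v, TX h.toFrame hv.1⟩, hv, mem_map_of_mem _ (mem_subgroupOf.2 hv),
    fun e => hvn ((Zb_one h hZ (x := ⟨v, TX h.toFrame hv.1⟩) hv).1 e)⟩

/-- transitivity on `cen T` modulo the centre. -/
theorem trans_cen {z w : Γ} (hz : z ∈ cen T) (hzn : z ∉ centralizer (X : Set Γ)) (hw : w ∈ cen T)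
    (hwn : w ∉ centralizer (X : Set Γ)) :
    ∃ m ∈ X, m ∈ normalizer (T : Set Γ) ∧ w⁻¹ * (m * z * m⁻¹) ∈ centralizer (X : Set Γ) := by
  have hzX := TX h.toFrame hz.1
  have hwX := TX h.toFrame hw.1
  obtain ⟨c, hc, hcz⟩ := trans (hyp h hZ) (v := ((⟨z, hzX⟩ : X) : Qt X))
    (v' := ((⟨w, hwX⟩ : X) : Qt X)) (mem_map_of_mem _ (mem_subgroupOf.2 hz))
    (fun e => hzn ((Zb_one h hZ (x := ⟨z, hzX⟩) hz).1 e)) (mem_map_of_mem _ (mem_subgroupOf.2 hw))
    (fun e => hwn ((Zb_one h hZ (x := ⟨w, hwX⟩) hw).1 e))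
  obtain ⟨m, rfl⟩ := QuotientGroup.mk_surjective c
  refine ⟨m, m.2, (mem_Mb h hZ).1 hc, ?_⟩
  exact (mk_eq (x := (⟨w, hwX⟩ : X)) (y := m * (⟨z, hzX⟩ : X) * m⁻¹)).1 hcz.symm

theorem dvd_card : Nat.card (Zb X T) - 1 ∣ Nat.card X := by
  obtain ⟨v, -, hv, hv1⟩ := nontriv h hZ
  exact (card_dvd (hyp h hZ) hv hv1).trans (Subgroup.card_quotient_dvd_card _)

theorem three_le : 3 ≤ Nat.card (Zb X T) := by
  obtain ⟨v, hvc, hv, hv1⟩ := nontriv h hZ
  have hvn : (v : Γ) ∉ centralizer (X : Set Γ) := fun e => hv1 ((Zb_one h hZ hvc).2 e)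
  obtain ⟨g, hg, hne, hc⟩ := h.noniso v hvc hvn
  have hw : g * v * g⁻¹ ∈ normalizer (T : Set Γ) := by
    refine h.centZ v hvc hvn _ (mul_mem (mul_mem hg v.2) (inv_mem hg)) ?_
    rw [← commutatorElement_inv]
    exact inv_mem hc
  have hwc := (h.strong v hvc hvn g hg hw).2
  set w : X := ⟨g, hg⟩ * v * ⟨g, hg⟩⁻¹ with hwd
  have hw1 : (w : Qt X) ≠ 1 := by
    intro e
    have h1 := (Zb_one h hZ (x := w) hwc).1 e
    have h2 : (g * v * g⁻¹ : Γ) = v := by
      have e2 : g * v * g⁻¹ ∈ centralizer (X : Set Γ) := h1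
      have := mem_centralizer_iff.1 e2 g hg
      calc g * v * g⁻¹ = g⁻¹ * (g * (g * v * g⁻¹)) := by group
        _ = g⁻¹ * (g * v * g⁻¹ * g) := by rw [this]
        _ = _ := by group
    exact hvn (h2 ▸ h1)
  have hwv : (w : Qt X) ≠ (v : Qt X) := by
    intro e
    have h1 : (g * v * g⁻¹ : Γ)⁻¹ * v ∈ centralizer (X : Set Γ) := mk_eq.1 e
    refine hne ?_
    rw [commutatorElement_def, show g * (v : Γ) * g⁻¹ * (v : Γ)⁻¹ =
      g * (v : Γ) * g⁻¹ * ((g * v * g⁻¹)⁻¹ * v)⁻¹ * (g * v * g⁻¹)⁻¹ by group,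
      mem_centralizer_iff.1 (inv_mem h1) _ (mul_mem (mul_mem hg v.2) (inv_mem hg)),
      mul_inv_cancel_right]
    exact inv_mem h1
  haveI : Fintype (Qt X) := Fintype.ofFinite _
  rw [Nat.card_eq_fintype_card, Fintype.card_subtype]
  refine le_of_eq_of_le ?_ (Finset.card_le_card (s := {1, (v : Qt X), (w : Qt X)}) ?_)
  · rw [Finset.card_insert_of_notMem, Finset.card_pair hwv.symm]
    simp [hv1.symm, hw1.symm]
  · intro x hx
    simp only [Finset.mem_insert, Finset.mem_singleton] at hx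
    rw [Finset.mem_filter]
    refine ⟨Finset.mem_univ _, ?_⟩
    rcases hx with rfl | rfl | rfl
    · exact one_mem _
    · exact hv
    · exact ⟨w, mem_subgroupOf.2 hwc, rfl⟩

/-- an element of `T` with central square lies in an invariant line with central squares. -/
theorem exists_line {x : Γ} (hx : x ∈ T) (hxn : x ∉ cen T)
    (hx2 : x * x ∈ centralizer (X : Set Γ)) :
    ∃ P : Subgroup Γ, P ≤ T ∧ cen T ≤ P ∧ a ∈ normalizer (P : Set Γ) ∧
      (∀ y ∈ P, y * y ∈ centralizer (X : Set Γ)) ∧ x ∈ P := by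
  have H := hyp h hZ
  have hxX := TX h.toFrame hx
  set xb : Qt X := ((⟨x, hxX⟩ : X) : Qt X) with hxb
  have hxM : xb ∈ Mb X T := (mem_Mb h hZ).2 (le_normalizer hx)
  have hx2' : xb * xb = 1 := by
    show (((⟨x, hxX⟩ : X) * ⟨x, hxX⟩ : X) : Qt X) = 1
    rw [QuotientGroup.eq_one_iff, mem_center_X]
    exact hx2
  have hxZ : xb ∉ Zb X T := by
    intro e
    obtain ⟨z, hz, hzx⟩ := (mem_Zb h hZ).1 e
    have h1 : z⁻¹ * x ∈ cen T := cx_cen h hzx (mul_mem (inv_mem hz.1) hx)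
    exact hxn (by simpa using mul_mem hz h1)
  obtain ⟨v, -, hv, hv1⟩ := nontriv h hZ
  obtain ⟨y, g, hg, hxy, hgy⟩ := fix_point H hv hv1 hxM hx2' hxZ
  obtain ⟨z₀, hz₀, hzy⟩ := hxy
  replace hz₀ : (z₀ : Γ) ∈ cen T := mem_subgroupOf.1 hz₀
  have hy_eq : y = xb * (z₀ : Qt X) := by
    rw [show (z₀ : Qt X) = xb * y from hzy, ← mul_assoc, hx2', one_mul]
  have hcomm : ∀ w ∈ Zb X T, xb * w = w * xb := by
    rintro w ⟨w, hw, rfl⟩
    exact congrArg (QuotientGroup.mk' _) (Subtype.ext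
      (cen_comm h.toFrame (mem_subgroupOf.1 hw) hx) : (⟨x, hxX⟩ : X) * w = w * ⟨x, hxX⟩)
  have hz₀Z : (z₀ : Qt X) ∈ Zb X T := mem_map_of_mem _ (mem_subgroupOf.2 hz₀)
  have habel : ∀ w ∈ Zb X T, (z₀ : Qt X) * w = w * (z₀ : Qt X) := by
    rintro w ⟨w, hw, rfl⟩
    exact congrArg (QuotientGroup.mk' _) (Subtype.ext
      (cen_comm h.toFrame (mem_subgroupOf.1 hw) hz₀.1) : z₀ * w = w * z₀)
  have hyZ : ∀ w ∈ Zb X T, y * w = w * y := fun w hw => by
    rw [hy_eq, mul_assoc, habel w hw, ← mul_assoc, hcomm w hw, mul_assoc]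
  have hy2 : y * y = 1 := by
    rw [hy_eq, show xb * (z₀ : Qt X) * (xb * z₀) = xb * ((z₀ : Qt X) * xb) * z₀ by group,
      ← hcomm _ hz₀Z, ← mul_assoc xb xb, hx2', one_mul]
    exact H.sq _ hz₀Z
  -- the elements fixing `x` modulo `cen T`
  let Fx : Γ → Prop := fun c =>
    c ∈ fixA X a ∧ c ∈ normalizer (T : Set Γ) ∧ c * x * c⁻¹ * x⁻¹ ∈ cen T
  obtain ⟨P, hP⟩ : ∃ P : Subgroup Γ,
      ∀ y, y ∈ P ↔ y ∈ T ∧ ∀ c, Fx c → c * y * c⁻¹ * y⁻¹ ∈ cen T := by
    refine ⟨{ carrier := {y | y ∈ T ∧ ∀ c, Fx c → c * y * c⁻¹ * y⁻¹ ∈ cen T}, one_mem' := ?_, mul_mem' := ?_, inv_mem' := ?_ }, fun x => Iff.rfl⟩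
    · rintro u w ⟨hu, hu'⟩ ⟨hw, hw'⟩
      refine ⟨mul_mem hu hw, fun c hc => ?_⟩
      have h1 : c * (u * w) * c⁻¹ * (u * w)⁻¹ =
          (c * u * c⁻¹) * (c * w * c⁻¹ * w⁻¹) * u⁻¹ := by group
      rw [h1, cen_comm h.toFrame (hw' c hc) (conj_mem hc.2.1 hu), mul_assoc]
      exact mul_mem (hw' c hc) (hu' c hc)
    · exact ⟨one_mem _, fun c _ => by simp⟩
    · rintro u ⟨hu, hu'⟩
      refine ⟨inv_mem hu, fun c hc => ?_⟩
      have h1 : c * u⁻¹ * c⁻¹ * u⁻¹⁻¹ = u⁻¹ * (c * u * c⁻¹ * u⁻¹)⁻¹ * u := by group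
      rw [h1, cen_comm h.toFrame (inv_mem (hu' c hc)) (inv_mem hu), mul_assoc, inv_mul_cancel,
        mul_one]
      exact inv_mem (hu' c hc)
  refine ⟨P, fun w hw => ((hP w).1 hw).1, fun w hw => (hP w).2 ⟨hw.1, fun c hc =>
    mul_mem (conj_cen h.toFrame hc.2.1 hw) (inv_mem hw)⟩, ?_, ?_, (hP x).2 ⟨hx, fun c hc => hc.2.2⟩⟩
  · refine mem_normalizer_of_forward fun w hw => ?_
    obtain ⟨hw, hw'⟩ := (hP w).1 hw
    refine (hP _).2 ⟨conj_mem h.aT hw, fun c hc => ?_⟩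
    have hac : Commute a c := (mem_centralizer_singleton_iff.1 hc.1.2).symm
    have e : c * (a * w * a⁻¹) * c⁻¹ * (a * w * a⁻¹)⁻¹ = a * (c * w * c⁻¹ * w⁻¹) * a⁻¹ := by
      calc c * (a * w * a⁻¹) * c⁻¹ * (a * w * a⁻¹)⁻¹
          = (c * a) * w * (a⁻¹ * c⁻¹) * (a * w⁻¹ * a⁻¹) := by group
        _ = (a * c) * w * (c⁻¹ * a⁻¹) * (a * w⁻¹ * a⁻¹) := by rw [hac.eq, (hac.inv_inv).eq]
        _ = _ := by group
    rw [e, cen_fix h.toFrame (hw' c hc), mul_inv_cancel_right]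
    exact hw' c hc
  · intro w hw
    obtain ⟨hw, hw'⟩ := (hP w).1 hw
    by_contra hwn
    set s := w * w with hs
    have hsZ : s ∈ cen T := h.Tsq w hw
    have hsX := TX h.toFrame hsZ.1
    -- another class
    obtain ⟨t', ht', ht1, hts⟩ : ∃ t' ∈ Zb X T, t' ≠ 1 ∧ t' ≠ ((⟨s, hsX⟩ : X) : Qt X) := by
      haveI : Fintype (Qt X) := Fintype.ofFinite _
      by_contra hc
      push Not at hc
      have h3 := three_le h hZ
      rw [Nat.card_eq_fintype_card, Fintype.card_subtype] at h3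
      have h4 : (Finset.univ.filter fun x => x ∈ Zb X T) ⊆ {1, ((⟨s, hsX⟩ : X) : Qt X)} := by
        intro x hx
        simp only [Finset.mem_filter, Finset.mem_univ, true_and] at hx
        simp only [Finset.mem_insert, Finset.mem_singleton]
        exact Classical.or_iff_not_imp_left.2 (hc x hx)
      have := (Finset.card_le_card h4).trans Finset.card_le_two
      omega
    obtain ⟨cb, hcb, hcy, hcs⟩ := cent_trans H hy2 hyZ hg hgy
      (v := ((⟨s, hsX⟩ : X) : Qt X)) (mem_map_of_mem _ (mem_subgroupOf.2 hsZ))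
      (fun e => hwn ((Zb_one h hZ (x := ⟨s, hsX⟩) hsZ).1 e)) ht' ht1
    obtain ⟨m, rfl⟩ := QuotientGroup.mk_surjective cb
    have hmN := (mem_Mb h hZ).1 hcb
    obtain ⟨c, hc, t, ht, hcn, hct⟩ := h.Mdecomp _ (mem_inf.2 ⟨m.2, hmN⟩)
    have hz₀T : (z₀ : Γ) ∈ T := hz₀.1
    -- `m` fixes `x` modulo `cen T`
    have hk : (x * z₀)⁻¹ * ((m : Γ) * (x * z₀) * (m : Γ)⁻¹) ∈ cen T := by
      refine cx_cen h ?_ (mul_mem (inv_mem (mul_mem hx hz₀T))
        (conj_mem hmN (mul_mem hx hz₀T)))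
      refine (mk_eq (x := (⟨x, hxX⟩ : X) * z₀) (y := m * ((⟨x, hxX⟩ : X) * z₀) * m⁻¹)).1 ?_
      show xb * (z₀ : Qt X) = (m : Qt X) * (xb * z₀) * (m : Qt X)⁻¹
      rw [← hy_eq, hcy, mul_inv_cancel_right]
    have hFx : Fx c := by
      refine ⟨hc, hcn, ?_⟩
      have h5 : x⁻¹ * t⁻¹ * x * t ∈ cen T := by
        have := h.Tcomm (commutator_mem_commutator (inv_mem hx) (inv_mem ht))
        simpa [commutatorElement_def, mul_assoc] using this
      have h6 : c * x * c⁻¹ * x⁻¹ = ((m : Γ) * x * (m : Γ)⁻¹) *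
          ((m : Γ) * (x⁻¹ * t⁻¹ * x * t) * (m : Γ)⁻¹) * x⁻¹ := by
        rw [show c = (m : Γ) * t⁻¹ by rw [hct, mul_inv_cancel_right]]
        group
      have h7 := conj_cen h.toFrame hmN h5
      rw [h6, mul_assoc, ← cen_comm h.toFrame h7 (inv_mem hx), ← mul_assoc]
      refine mul_mem ?_ h7
      have h8 : (m : Γ) * x * (m : Γ)⁻¹ * x⁻¹ = x * ((z₀ : Γ) * ((x * z₀)⁻¹ *
          ((m : Γ) * (x * z₀) * (m : Γ)⁻¹)) * ((m : Γ) * (z₀ : Γ)⁻¹ * (m : Γ)⁻¹)) * x⁻¹ := by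
        group
      have h9 := mul_mem (mul_mem hz₀ hk) (conj_cen h.toFrame hmN (inv_mem hz₀))
      rw [h8, cen_conj_t h.toFrame h9 hx]
      exact h9
    have e1 : c * s * c⁻¹ = s := by
      obtain ⟨ζ, hζ, he⟩ : ∃ ζ ∈ cen T, c * w * c⁻¹ = ζ * w :=
        ⟨_, hw' c hFx, by rw [inv_mul_cancel_right]⟩
      rw [hs, show c * (w * w) * c⁻¹ = (c * w * c⁻¹) * (c * w * c⁻¹) by group, he,
        show ζ * w * (ζ * w) = ζ * (w * ζ) * w by group, cen_comm h.toFrame hζ hw, ← mul_assoc,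
        h.Zexp ζ hζ, one_mul]
    have e2 : (m : Γ) * s * (m : Γ)⁻¹ = s := by
      rw [hct, show c * t * s * (c * t)⁻¹ = c * (t * s * t⁻¹) * c⁻¹ by group,
        cen_conj_t h.toFrame hsZ ht, e1]
    refine hts ?_
    rw [← hcs]
    exact (mk_eq (x := m * (⟨s, hsX⟩ : X) * m⁻¹) (y := (⟨s, hsX⟩ : X))).2 (by
      show ((m : Γ) * s * (m : Γ)⁻¹)⁻¹ * s ∈ centralizer (X : Set Γ)
      rw [e2, inv_mul_cancel]
      exact one_mem _)

end Quot

theorem kerC_inj {χ ψ : Chr T} (e : kerC χ = kerC ψ) : χ = ψ := by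
  refine chr_ext fun x hx => ?_
  have h1 : ev χ x = 1 ↔ ev ψ x = 1 := by
    have h2 : x ∈ kerC χ ↔ x ∈ kerC ψ := by rw [e]
    simpa [mem_kerC, hx] using h2
  rcases ev_cases χ hx with e1 | e1 <;> rcases ev_cases ψ hx with e2 | e2 <;> simp_all

/-- conjugation of `cen T` by an element normalising `T`. -/
theorem exists_conjChr (h : Closed p r n V X S W T a) {m : Γ}
    (hm : m ∈ normalizer (T : Set Γ)) :
    ∃ e : Chr T ≃ Chr T, ∀ χ, ∀ z ∈ cen T, ev (e χ) z = ev χ (m * z * m⁻¹) := by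
  let f : ∀ m : Γ, m ∈ normalizer (T : Set Γ) → (↥(cen T) →* ↥(cen T)) := fun m hm =>
    MonoidHom.mk' (fun z => ⟨m * z.1 * m⁻¹, conj_cen h.toFrame hm z.2⟩) fun u w =>
      Subtype.ext (by simp [mul_assoc])
  have hf : ∀ (χ : Chr T) (m : Γ) (hm : m ∈ normalizer (T : Set Γ)), ∀ z ∈ cen T,
      ev (χ.comp (f m hm)) z = ev χ (m * z * m⁻¹) := by
    intro χ m hm z hz
    rw [ev_mem _ hz, ev_mem _ (conj_cen h.toFrame hm hz)]
    rfl
  refine ⟨⟨fun χ => χ.comp (f m hm), fun χ => χ.comp (f m⁻¹ (inv_mem hm)), fun χ => ?_,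
    fun χ => ?_⟩, fun χ z hz => hf χ m hm z hz⟩
  · refine chr_ext fun z hz => ?_
    rw [hf (χ.comp (f m hm)) m⁻¹ (inv_mem hm) z hz,
      hf χ m hm _ (conj_cen h.toFrame (inv_mem hm) hz)]
    congr 1
    group
  · refine chr_ext fun z hz => ?_
    rw [hf (χ.comp (f m⁻¹ (inv_mem hm))) m hm z hz,
      hf χ m⁻¹ (inv_mem hm) _ (conj_cen h.toFrame hm hz)]
    congr 1
    group

theorem final_arith {n q A : ℕ} (hn : 1 ≤ n) (hq : 4 ≤ q)
    (hA : A = q ∨ A + 1 = q ∨ (∃ s : ℕ, q = 4 ^ (s + 1)) ∧ 16 ≤ q ∧ 3 * q ≤ 8 * A)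
    (hr : n = 1 → ¬ 3 ∣ q - 1) (hpow : q = 4 ∨ 8 ≤ q)
    (hlt : ((2 : ℤ) ^ n - 1) * ((A : ℤ) * (2 ^ n + 1) - q) < 4 ^ n + q - 1) : False := by
  rw [show (4 : ℤ) ^ n = 2 ^ n * 2 ^ n by rw [← mul_pow]; norm_num] at hlt
  rcases Nat.lt_or_ge n 2 with h1 | h1
  · obtain rfl : n = 1 := by omega
    norm_num at hlt
    rcases hA with hA | hA | ⟨⟨s, hs⟩, -, -⟩
    · omega
    · rcases hpow with rfl | h8
      · exact hr rfl (by norm_num)
      · omega
    · refine hr rfl ?_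
      rw [hs]
      simpa using Nat.sub_dvd_pow_sub_pow 4 1 (s + 1)
  have hy : (4 : ℤ) ≤ 2 ^ n := by
    calc (4 : ℤ) = 2 ^ 2 := by norm_num
      _ ≤ 2 ^ n := pow_le_pow_right₀ (by norm_num) h1
  generalize (2 : ℤ) ^ n = y at hy hlt
  have hyy : 4 * y ≤ y * y := mul_le_mul_of_nonneg_right hy (by linarith)
  rcases hA with hA | hA | ⟨-, h16, h38⟩
  · subst hA
    have h4 : 4 * (y * y - y - 1) ≤ (A : ℤ) * (y * y - y - 1) :=
      mul_le_mul_of_nonneg_right (by exact_mod_cast hq) (by nlinarith)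
    nlinarith
  · have hAq : (A : ℤ) = q - 1 := by omega
    subst hA
    rw [hAq] at hlt
    have h4 : 4 * (y * y - y - 1) ≤ ((A + 1 : ℕ) : ℤ) * (y * y - y - 1) :=
      mul_le_mul_of_nonneg_right (by exact_mod_cast hq) (by nlinarith)
    nlinarith
  · have h3 : 3 * (q : ℤ) ≤ 8 * A := by exact_mod_cast h38
    have h5 : (q : ℤ) * (3 * (y + 1) - 8) * (y - 1) ≤
        8 * ((y - 1) * ((A : ℤ) * (y + 1) - q)) := by
      have := mul_le_mul_of_nonneg_right h3 (show (0 : ℤ) ≤ (y + 1) * (y - 1) by nlinarith)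
      nlinarith
    have h6 : 16 * ((3 * (y + 1) - 8) * (y - 1) - 8) ≤
        (q : ℤ) * ((3 * (y + 1) - 8) * (y - 1) - 8) :=
      mul_le_mul_of_nonneg_right (by exact_mod_cast h16) (by nlinarith)
    nlinarith

section Main

variable (h : Closed p r n V X S W T a) (hZ : ¬ cen T ≤ centralizer (X : Set Γ))
  {v₀ : Γ} (hv₀ : v₀ ∈ cen T) (hv₀1 : v₀ ≠ 1) (hv₀X : v₀ ∈ centralizer (X : Set Γ))
include h hZ hv₀ hv₀1 hv₀X

omit hZ in
theorem inverts {z : Γ} (hz : z ∈ cen T) (hz1 : z ≠ 1) (hzX : z ∈ centralizer (X : Set Γ)) :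
    ∀ w ∈ V, z * w * z⁻¹ = w⁻¹ :=
  h.Vinv z ⟨TX h.toFrame hz.1, hzX⟩ (orderOf_eq_prime (by rw [pow_two]; exact h.Zexp z hz) hz1)

omit hZ in
theorem cx_eq {z : Γ} (hz : z ∈ cen T) (hzX : z ∈ centralizer (X : Set Γ)) : z = 1 ∨ z = v₀ := by
  by_cases hz1 : z = 1
  · exact Or.inl hz1
  right
  have h1 := inverts h hv₀ hv₀1 hv₀X hz hz1 hzX
  have h2 := inverts h hv₀ hv₀1 hv₀X hv₀ hv₀1 hv₀X
  have h3 : z⁻¹ * v₀ ∈ X ⊓ centralizer (V : Set Γ) := by
    refine mem_inf.2 ⟨mul_mem (inv_mem (TX h.toFrame hz.1)) (TX h.toFrame hv₀.1),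
      mem_centralizer_iff.2 fun w hw => ?_⟩
    have e : z⁻¹ * v₀ * w * (z⁻¹ * v₀)⁻¹ = w := by
      calc z⁻¹ * v₀ * w * (z⁻¹ * v₀)⁻¹ = z⁻¹ * (v₀ * w * v₀⁻¹) * z := by group
        _ = z⁻¹ * (z * w * z⁻¹) * z := by rw [h2 w hw, h1 w hw]
        _ = w := by group
    exact (mul_inv_eq_iff_eq_mul.1 e).symm
  rw [h.faith, mem_bot] at h3
  exact inv_mul_eq_one.1 h3

theorem card_Zb : 2 * Nat.card (Zb X T) = Nat.card (cen T) := by
  set f := QuotientGroup.mk' (Subgroup.center ↥X)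
  set Zs := (cen T).subgroupOf X
  have e2 : Nat.card (f.ker ⊓ Zs : Subgroup X) = 2 := by
    rw [Nat.card_eq_two_iff' (1 : (f.ker ⊓ Zs : Subgroup X))]
    have hm : (⟨v₀, TX h.toFrame hv₀.1⟩ : X) ∈ f.ker ⊓ Zs := by
      refine mem_inf.2 ⟨?_, mem_subgroupOf.2 hv₀⟩
      rw [QuotientGroup.ker_mk', mem_center_X]
      exact hv₀X
    refine ⟨⟨_, hm⟩, fun e => hv₀1 (congrArg (fun w : (f.ker ⊓ Zs : Subgroup X) => ((w : X) : Γ)) e),
      fun y hy => ?_⟩
    obtain ⟨h1, h2⟩ := mem_inf.1 y.2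
    replace h1 := mem_center_X.1 ((QuotientGroup.eq_one_iff _).1 (MonoidHom.mem_ker.1 h1))
    rcases cx_eq h hv₀ hv₀1 hv₀X (mem_subgroupOf.1 h2) h1 with e | e
    · exact absurd (Subtype.ext (Subtype.ext e)) hy
    · exact Subtype.ext (Subtype.ext e)
  have e3 := card_relIndex (H := f.ker ⊓ Zs) (K := Zs) inf_le_right
  rw [e2, inf_relIndex_right, relIndex_ker] at e3
  rw [e3]
  exact Nat.card_congr (subgroupOfEquivOfLe (inf_le_left.trans (TX h.toFrame))).toEquiv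

/-- There is no central involution in `cen T`. -/
theorem false_of_central : False := by
  haveI : Fact (Nat.Prime 2) := ⟨Nat.prime_two⟩
  set q := Nat.card (Zb X T) with hqd
  have hN : 2 * q = Nat.card (cen T) := card_Zb h hZ hv₀ hv₀1 hv₀X
  obtain ⟨k, hk⟩ : ∃ k : ℕ, Nat.card (cen T) = 2 ^ k :=
    IsPGroup.iff_card.1 (h.T2.to_le (inf_le_left : cen T ≤ T))
  have hq3 := three_le h hZ
  obtain ⟨m, hqm⟩ : ∃ m, q = 2 ^ m := by
    rcases k with _ | k
    · rw [pow_zero] at hk; omega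
    · exact ⟨k, by rw [pow_succ'] at hk; omega⟩
  have hm2 : 2 ≤ m := by
    by_contra hc
    have := Nat.pow_le_pow_right (show 2 > 0 by norm_num) (show m ≤ 1 by omega)
    omega
  have hq4 : 4 ≤ q := by
    rw [hqm]; exact Nat.pow_le_pow_right (show 2 > 0 by norm_num) hm2
  have hNz : (Nat.card (cen T) : ℤ) = 2 * q := by exact_mod_cast hN.symm
  have hTne : (0 : ℤ) < Nat.card T := by exact_mod_cast Nat.card_pos
  have hinvv : v₀⁻¹ = v₀ := cen_inv h.toFrame hv₀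
  -- the sets of characters
  set Mn : Finset (Chr T) := Finset.univ.filter fun χ => ev χ v₀ = -1 with hMn
  set Pl : Finset (Chr T) := Finset.univ.filter fun χ => ev χ v₀ = 1 with hPl
  set L : Finset (Chr T) := Finset.univ.filter fun χ =>
    ev χ v₀ = -1 ∧ 2 ^ n * gs χ = -(Nat.card T : ℤ) with hL
  have memMn : ∀ χ, χ ∈ Mn ↔ ev χ v₀ = -1 := fun χ => by simp [Mn]
  have memPl : ∀ χ, χ ∈ Pl ↔ ev χ v₀ = 1 := fun χ => by simp [Pl]
  have memL : ∀ χ, χ ∈ L ↔ ev χ v₀ = -1 ∧ 2 ^ n * gs χ = -(Nat.card T : ℤ) := fun χ => by simp [L]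
  have hLM : L ⊆ Mn := fun χ hχ => (memMn χ).2 ((memL χ).1 hχ).1
  have hMn1 : ∀ {χ : Chr T}, ev χ v₀ = -1 → χ ≠ 1 := fun hχ e => by
    rw [e, ev_trivial hv₀] at hχ
    norm_num at hχ
  have hsum : ∑ χ : Chr T, ev χ v₀ = 0 := sum_chr h.toFrame hv₀ hv₀1
  have htot : Fintype.card (Chr T) = 2 * q := (card_chr h.toFrame).trans hN.symm
  have hcMP : (Mn.card : ℤ) = q ∧ (Pl.card : ℤ) = q := by
    have e1 : Finset.univ.filter (fun χ : Chr T => ¬ ev χ v₀ = -1) = Pl := by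
      ext χ
      simp only [Finset.mem_filter, Finset.mem_univ, true_and, memPl]
      exact ⟨fun e => (ev_cases χ hv₀).resolve_right e, fun e => by rw [e]; norm_num⟩
    have e2 := Finset.card_filter_add_card_filter_not (s := Finset.univ)
      (fun χ : Chr T => ev χ v₀ = -1)
    rw [← hMn, e1, Finset.card_univ, htot] at e2
    have e3 := Finset.sum_filter_add_sum_filter_not Finset.univ
      (fun χ : Chr T => ev χ v₀ = -1) (fun χ => ev χ v₀)
    rw [← hMn, e1, hsum, Finset.sum_congr rfl fun χ hχ => (memMn χ).1 hχ,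
      Finset.sum_congr rfl fun χ hχ => (memPl χ).1 hχ] at e3
    simp only [Finset.sum_const, nsmul_eq_mul, mul_neg, mul_one] at e3
    omega
  -- at least two characters in `L`
  have hcomp : ∀ x ∈ T, x ∉ cen T → ∃ χ ∈ L, ∃ lam R, Comp n T lam R a ∧ kerC χ = lam ∧
      v₀ ∉ lam ∧ x ∉ R := by
    intro x hx hxn
    obtain ⟨lam, R, hc, hinv, hxR⟩ := comp_exists_inv h.toFrame hx hxn
    have hv := hinv v₀ (inverts h hv₀ hv₀1 hv₀X hv₀ hv₀1 hv₀X)
    obtain ⟨χ, hk, hg, -⟩ := gs_comp h.toFrame hc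
    refine ⟨χ, (memL χ).2 ⟨(ev_cases χ hv₀).resolve_left fun e => hv ?_, hg⟩, lam, R, hc, hk, hv, hxR⟩
    rw [← hk]
    exact mem_kerC.2 ⟨hv₀, e⟩
  have hA2 : 2 ≤ L.card := by
    by_contra hc
    have huniq : ∀ χ ∈ L, ∀ ψ ∈ L, χ = ψ := Finset.card_le_one.1 (by omega)
    obtain ⟨x₀, hx₀, hx₀n⟩ := CoreD.exists_notMem_cen h.toFrame
    obtain ⟨χ₀, hχ₀, lam₀, R₀, hc₀, hk₀, -, -⟩ := hcomp x₀ hx₀ hx₀n
    have hR₀ : R₀ = cen T := by
      refine le_antisymm (fun x hx => ?_) hc₀.cenR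
      by_contra hxn
      obtain ⟨χ, hχ, lam, R, hc', hk, -, hxR⟩ := hcomp x (hc₀.RT hx) hxn
      obtain rfl : lam = lam₀ := by rw [← hk, ← hk₀, huniq χ hχ χ₀ hχ₀]
      exact hxR ((hc'.rad x (hc₀.RT hx)).2 ((hc₀.rad x (hc₀.RT hx)).1 hx))
    have hTc : Nat.card T = 4 ^ n * Nat.card (cen T) := hR₀ ▸ hc₀.card
    have h4 : (1 : ℕ) < 4 ^ n := Nat.one_lt_pow (by have := h.n1; omega) (by norm_num)
    have hall : ∀ K : Subgroup Γ, cen T ≤ K → K ≤ T → a ∈ normalizer (K : Set Γ) → K ≠ T →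
        K = cen T := by
      intro K h1 h2 h3 h5
      refine (eq_of_le_of_card_ge h1 ?_).symm
      rcases index_le h.toFrame h1 h2 h3 h5 with e | e
      · exact (Nat.eq_of_mul_eq_mul_left (by omega) (e.symm.trans hTc)).le
      · have := card_le_of_le h1
        rw [hTc] at e
        have h6 := Nat.le_of_mul_le_mul_left e (by omega)
        have h7 : Nat.card K ≤ 4 ^ n * Nat.card K := Nat.le_mul_of_pos_left _ (by omega)
        omega
    have hML : Mn ⊆ L := by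
      intro χ hχ
      have hχv := (memMn χ).1 hχ
      obtain ⟨R, hR, hZR, hRT, haR, hne⟩ := exists_rad h.toFrame χ
      have hRZ := hall R hZR hRT haR (hne (hMn1 hχv))
      have hC : Comp n T (kerC χ) R a := by
        refine ⟨fun z hz => (mem_kerC.1 hz).1, kerC_index (hMn1 hχv), hRT, hZR, fun x hx => ?_,
          fun x hx => ?_, haR, hRZ ▸ hTc, fun U hRU hUT haU => ?_⟩
        · rw [hR]
          refine ⟨fun e y hy => mem_kerC.2
            ⟨h.Tcomm (commutator_mem_commutator hx hy), e.2 y hy⟩,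
            fun e => ⟨hx, fun y hy => (mem_kerC.1 (e y hy)).2⟩⟩
        · rw [h.Zexp x (hRZ ▸ hx)]
          exact one_mem _
        · by_cases e : U = T
          · exact Or.inr e
          · exact Or.inl ((hall U (hRZ ▸ hRU) hUT haU e).trans hRZ.symm)
      obtain ⟨ψ, hk, hg, -⟩ := gs_comp h.toFrame hC
      obtain rfl := kerC_inj hk
      exact (memL ψ).2 ⟨hχv, hg⟩
    have := Finset.card_le_card hML
    omega
  have hAq : L.card ≤ q := by
    have := Finset.card_le_card hLM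
    omega
  -- the function `K`
  let K : Γ → ℤ := fun z => ∑ χ ∈ L, ev χ z
  have hK1 : K 1 = L.card := by simp [K, ev_one]
  have hKv : ∀ z ∈ cen T, K (v₀ * z) = -K z := fun z hz => by
    simp only [K, ← Finset.sum_neg_distrib]
    refine Finset.sum_congr rfl fun χ hχ => ?_
    rw [ev_mul χ hv₀ hz, ((memL χ).1 hχ).1, neg_one_mul]
  have hKc : ∀ g ∈ X, g ∈ normalizer (T : Set Γ) → ∀ z ∈ cen T, K (g * z * g⁻¹) = K z := by
    intro g hgX hgn z hz
    obtain ⟨e, he⟩ := exists_conjChr h hgn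
    have hev0 : ∀ χ, ev (e χ) v₀ = ev χ v₀ := fun χ => by
      rw [he χ v₀ hv₀, mem_centralizer_iff.1 hv₀X g hgX, mul_inv_cancel_right]
    have hgs : ∀ χ, gs (e χ) = gs χ := by
      intro χ
      refine Finset.sum_nbij' (fun x => g * x * g⁻¹) (fun x => g⁻¹ * x * g) ?_ ?_ ?_ ?_ ?_
      · exact fun x hx => mem_fset.2 (conj_mem hgn (mem_fset.1 hx))
      · exact fun x hx => mem_fset.2 (conj_mem' hgn (mem_fset.1 hx))
      · intro x _; group
      · intro x _; group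
      · intro x hx
        rw [he χ _ (h.Tsq x (mem_fset.1 hx))]
        congr 1
        group
    exact Finset.sum_equiv e (fun χ => by rw [memL, memL, hev0, hgs]) fun χ _ => (he χ z hz).symm
  obtain ⟨z₁, hz₁, hz₁n⟩ := SetLike.not_le_iff_exists.1 hZ
  set c := (K z₁).natAbs with hcd
  have hKval : ∀ z ∈ cen T, z ∉ centralizer (X : Set Γ) → K z = c ∨ K z = -c := by
    intro z hz hzn
    obtain ⟨g, hgX, hgn, hgz⟩ := trans_cen h hZ hz₁ hz₁n hz hzn
    have hgc := conj_cen h.toFrame hgn hz₁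
    have e1 := hKc g hgX hgn z₁ hz₁
    rcases cx_eq h hv₀ hv₀1 hv₀X (mul_mem (inv_mem hz) hgc) hgz with e | e
    · rw [← inv_mul_eq_one.1 e] at e1
      omega
    · rw [show g * z₁ * g⁻¹ = v₀ * z by
        rw [← cen_comm h.toFrame hv₀ hz.1, ← e]; group, hKv z hz] at e1
      omega
  -- Parseval
  set Z0 : Finset Γ := (fset (cen T)).filter fun z => ¬ z ∈ centralizer (X : Set Γ) with hZ0
  have hsplit : ∀ f : Γ → ℤ, ∑ z ∈ fset (cen T), f z = f 1 + f v₀ + ∑ z ∈ Z0, f z := by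
    intro f
    rw [← Finset.sum_filter_add_sum_filter_not (fset (cen T))
      (fun z => z ∈ centralizer (X : Set Γ)) f, ← hZ0,
      show (fset (cen T)).filter (fun z => z ∈ centralizer (X : Set Γ)) = {1, v₀} from ?_,
      Finset.sum_pair (Ne.symm hv₀1)]
    ext z
    simp only [Finset.mem_filter, mem_fset, Finset.mem_insert, Finset.mem_singleton]
    refine ⟨fun e => cx_eq h hv₀ hv₀1 hv₀X e.1 e.2, ?_⟩
    rintro (rfl | rfl)
    · exact ⟨one_mem _, one_mem _⟩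
    · exact ⟨hv₀, hv₀X⟩
  have hZ0c : (Z0.card : ℤ) = 2 * q - 2 := by
    have := hsplit fun _ => 1
    simp only [Finset.sum_const, nsmul_eq_mul, mul_one, card_fset] at this
    omega
  have horth : ∀ χ ψ : Chr T, ∑ z ∈ fset (cen T), ev χ z * ev ψ z =
      if χ = ψ then (2 * q : ℤ) else 0 := by
    intro χ ψ
    rw [← Finset.sum_congr rfl fun z hz => ev_mulChr χ ψ (mem_fset.1 hz)]
    split_ifs with e
    · rw [e, chr_sq, sum_cen_one, hNz]
    · refine sum_cen fun e1 => e ?_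
      calc χ = χ * (ψ * ψ) := by rw [chr_sq, mul_one]
        _ = ψ := by rw [← mul_assoc, e1, one_mul]
  have hpair : ∀ χ : Chr T, ∑ z ∈ fset (cen T), ev χ z * K z =
      if χ ∈ L then (2 * q : ℤ) else 0 := by
    intro χ
    simp only [K, Finset.mul_sum]
    rw [Finset.sum_comm, Finset.sum_congr rfl fun ψ _ => horth χ ψ, Finset.sum_ite_eq]
  have hKv₀ : K v₀ = -L.card := by
    have := hKv 1 (one_mem _)
    rwa [mul_one, hK1] at this
  have hA : L.card = q ∨ L.card + 1 = q ∨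
      (∃ s : ℕ, q = 4 ^ (s + 1)) ∧ 16 ≤ q ∧ 3 * q ≤ 8 * L.card := by
    have hpar : (L.card : ℤ) * L.card + ((q : ℤ) - 1) * ((c : ℤ) * c) = q * L.card := by
      have e1 : ∑ z ∈ fset (cen T), K z * K z = 2 * q * L.card := by
        calc ∑ z ∈ fset (cen T), K z * K z
            = ∑ χ ∈ L, ∑ z ∈ fset (cen T), ev χ z * K z := by
              rw [Finset.sum_comm]
              exact Finset.sum_congr rfl fun z _ => Finset.sum_mul _ _ _
          _ = ∑ χ ∈ L, (2 * q : ℤ) := Finset.sum_congr rfl fun χ hχ => by rw [hpair, if_pos hχ]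
          _ = _ := by rw [Finset.sum_const, nsmul_eq_mul]; ring
      have e2 : ∀ z ∈ Z0, K z * K z = (c : ℤ) * c := fun z hz => by
        obtain ⟨h1, h2⟩ := Finset.mem_filter.1 hz
        rcases hKval z (mem_fset.1 h1) h2 with e | e <;> rw [e]
        ring
      rw [hsplit, hK1, hKv₀, Finset.sum_congr rfl e2, Finset.sum_const, nsmul_eq_mul, hZ0c] at e1
      linarith
    rcases eq_or_lt_of_le hAq with e | hlt
    · exact Or.inl e
    obtain ⟨χ₁, hχ₁⟩ := Finset.card_pos.1 (show 0 < L.card by omega)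
    obtain ⟨χ₂, hχ₂, hχ₂L⟩ := Finset.exists_mem_notMem_of_card_lt_card
      (show L.card < Mn.card by omega)
    have hdiv : ∀ χ ∈ Mn, (c : ℤ) ∣ ∑ z ∈ Z0, ev χ z * K z := by
      refine fun χ _ => Finset.dvd_sum fun z hz => ?_
      obtain ⟨h1, h2⟩ := Finset.mem_filter.1 hz
      rcases hKval z (mem_fset.1 h1) h2 with e | e <;> rw [e]
      · exact dvd_mul_left _ _
      · exact (dvd_neg.2 dvd_rfl).mul_left _
    have hval : ∀ χ ∈ Mn, (2 * L.card : ℤ) + ∑ z ∈ Z0, ev χ z * K z =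
        if χ ∈ L then (2 * q : ℤ) else 0 := by
      intro χ hχ
      rw [← hpair χ, hsplit, hK1, hKv₀, (memMn χ).1 hχ, ev_one]
      ring
    have h1 := hval χ₂ hχ₂
    rw [if_neg hχ₂L] at h1
    have h2 := hval χ₁ (hLM hχ₁)
    rw [if_pos hχ₁] at h2
    have hc2 : (c : ℤ) ∣ 2 * (q : ℤ) := by
      have h5 := dvd_sub (hdiv χ₁ (hLM hχ₁)) (hdiv χ₂ hχ₂)
      rwa [show ∑ z ∈ Z0, ev χ₁ z * K z - ∑ z ∈ Z0, ev χ₂ z * K z = 2 * (q : ℤ) by linarith] at h5
    have hc2' : c ∣ 2 ^ (m + 1) := by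
      rw [pow_succ', ← hqm]
      exact_mod_cast hc2
    obtain ⟨s, -, hcs⟩ := (Nat.dvd_prime_pow Nat.prime_two).1 hc2'
    have heq : L.card * (q - L.card) = (q - 1) * (c * c) := by
      have : ((L.card * (q - L.card) : ℕ) : ℤ) = (((q - 1) * (c * c) : ℕ) : ℤ) := by
        push_cast [Nat.cast_sub hAq, Nat.cast_sub (show 1 ≤ q by omega)]
        linarith
      exact_mod_cast this
    rcases size_arith m s hqm hq4 hcs hA2 hlt heq with e | ⟨e1, e2, e3⟩
    · exact Or.inr (Or.inl e)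
    · refine Or.inr (Or.inr ⟨⟨s, ?_⟩, e2, e3⟩)
      rw [e1, hcs, ← mul_pow]
      norm_num [pow_succ']
  -- the count of square roots
  let φ : Γ → ℤ := fun x => (if x * x = 1 then 1 else 0) - (if x * x = v₀ then 1 else 0)
  let ι : Γ → ℤ := fun x => (if x * x = 1 then 1 else 0) + (if x * x = v₀ then 1 else 0)
  have hsums : ∀ x ∈ T, ∑ χ : Chr T, ev χ v₀ * ev χ (x * x) =
      if x * x = v₀ then (2 * q : ℤ) else 0 := by
    intro x hx
    rw [Finset.sum_congr rfl fun χ _ => (ev_mul χ hv₀ (h.Tsq x hx)).symm,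
      sum_chr_eq h.toFrame (mul_mem hv₀ (h.Tsq x hx)), hNz]
    simp only [mul_eq_one_iff_inv_eq, hinvv, eq_comm (a := v₀)]
  have hsum1 : ∀ x ∈ T, ∑ χ : Chr T, ev χ (x * x) = if x * x = 1 then (2 * q : ℤ) else 0 := by
    intro x hx
    rw [sum_chr_eq h.toFrame (h.Tsq x hx), hNz]
  have hD : ∑ χ ∈ Mn, gs χ = q * ∑ x ∈ fset T, φ x := by
    have e1 : 2 * ∑ χ ∈ Mn, gs χ = ∑ χ : Chr T, (1 - ev χ v₀) * gs χ := by
      rw [Finset.mul_sum, Finset.sum_filter]
      refine Finset.sum_congr rfl fun χ _ => ?_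
      rcases ev_cases χ hv₀ with e | e <;> simp [e]
    have e2 : ∑ χ : Chr T, (1 - ev χ v₀) * gs χ = ∑ x ∈ fset T, (2 * q : ℤ) * φ x := by
      simp only [gs, Finset.mul_sum]
      rw [Finset.sum_comm]
      refine Finset.sum_congr rfl fun x hx => ?_
      simp only [sub_mul, one_mul, Finset.sum_sub_distrib, hsums x (mem_fset.1 hx),
        hsum1 x (mem_fset.1 hx), φ]
      split_ifs <;> ring
    rw [← Finset.mul_sum] at e2
    linarith
  have hI : ∑ χ ∈ Pl, gs χ = q * ∑ x ∈ fset T, ι x := by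
    have e1 : 2 * ∑ χ ∈ Pl, gs χ = ∑ χ : Chr T, (1 + ev χ v₀) * gs χ := by
      rw [Finset.mul_sum, Finset.sum_filter]
      refine Finset.sum_congr rfl fun χ _ => ?_
      rcases ev_cases χ hv₀ with e | e <;> simp [e]
    have e2 : ∑ χ : Chr T, (1 + ev χ v₀) * gs χ = ∑ x ∈ fset T, (2 * q : ℤ) * ι x := by
      simp only [gs, Finset.mul_sum]
      rw [Finset.sum_comm]
      refine Finset.sum_congr rfl fun x hx => ?_
      simp only [add_mul, one_mul, Finset.sum_add_distrib, hsums x (mem_fset.1 hx),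
        hsum1 x (mem_fset.1 hx), ι]
      split_ifs <;> ring
    rw [← Finset.mul_sum] at e2
    linarith
  -- lines
  have hφZ : ∀ z ∈ cen T, φ z = 1 ∧ ι z = 1 := fun z hz => by
    simp [φ, ι, h.Zexp z hz, Ne.symm hv₀1]
  have hline : ∀ P : Subgroup Γ, P ≤ T → cen T ≤ P → a ∈ normalizer (P : Set Γ) →
      (∀ y ∈ P, y * y ∈ centralizer (X : Set Γ)) → P ≠ cen T →
      (∑ x ∈ fset P, φ x = -(2 ^ n * (2 * q) : ℤ)) ∧
        (∑ x ∈ fset P, ι x = (4 ^ n * (2 * q) : ℤ)) := by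
    intro P hPT hZP haP hsq hne
    have hext := (ext_cover h.toFrame hPT hZP haP hsq hne).2
    obtain ⟨x₀, hx₀, hx₀n⟩ : ∃ x ∈ P, x ∉ cen T := by
      by_contra hc
      push Not at hc
      exact hne (le_antisymm hc hZP)
    obtain ⟨χ, hχ, lam, R, hc, hk, hvl, -⟩ := hcomp x₀ (hPT hx₀) hx₀n
    have hχv := ((memL χ).1 hχ).1
    have hmem : ∀ y ∈ P, y * y = 1 ∨ y * y = v₀ := fun y hy =>
      cx_eq h hv₀ hv₀1 hv₀X (h.Tsq y (hPT hy)) (hsq y hy)
    have hιP : ∀ y ∈ fset P, ι y = 1 := fun y hy => by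
      rcases hmem y (mem_fset.1 hy) with e | e <;> simp [ι, e, hv₀1, Ne.symm hv₀1]
    have hφP : ∀ y ∈ fset P, φ y = ev χ (y * y) := fun y hy => by
      rcases hmem y (mem_fset.1 hy) with e | e <;> simp [φ, e, hv₀1, Ne.symm hv₀1, hχv, ev_one]
    refine ⟨?_, by
      rw [Finset.sum_congr rfl hιP, Finset.sum_const, card_fset, hext, nsmul_one]
      push_cast
      rw [hNz]⟩
    have hTR : T ≤ normalizer (R : Set Γ) := by
      refine le_normalizer_of_conj_mem fun g hg x hx => ?_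
      rw [show g * x * g⁻¹ = ⁅g, x⁆ * x by rw [commutatorElement_def]; group]
      exact mul_mem (hc.cenR (h.Tcomm (commutator_mem_commutator hg (hc.RT hx)))) hx
    have hsup : P ⊔ R = T := by
      rcases hc.irred (P ⊔ R) le_sup_right (sup_le hPT hc.RT)
        (Subgroup.normalizer_inf_normalizer_le_normalizer_sup P R ⟨haP, hc.aR⟩) with h1 | h1
      · exfalso
        have hPR : P ≤ R := le_sup_left.trans h1.le
        have he : ∀ y ∈ P, y⁻¹ = y := fun y hy => inv_eq_of_mul_eq_one_right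
          ((hmem y hy).resolve_right fun e => hvl (e ▸ hc.sqR y (hPR hy)))
        refine hx₀n ?_
        have hab := h.abel P (hPT.trans (TX h.toFrame)) haP (h.T2.to_le hPT) (fun x hx y hy => by
          calc x * y = (x * y)⁻¹ := (he _ (mul_mem hx hy)).symm
            _ = y * x := by rw [mul_inv_rev, he x hx, he y hy]) hx₀
        rw [← h.Tfix]
        exact ⟨hPT hx₀, hab⟩
      · exact h1
    -- a sum over `P × R`
    have key : ∀ f : Γ → ℤ, ∑ y ∈ fset P, ∑ ρ ∈ fset R, f (y * ρ) =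
        (Nat.card (P ⊓ R : Subgroup Γ) : ℤ) * ∑ t ∈ fset T, f t := by
      intro f
      rw [← Finset.sum_product', Finset.mul_sum, ← Finset.sum_fiberwise_of_maps_to (t := fset T)
        (g := fun w : Γ × Γ => w.1 * w.2) (fun w hw => mem_fset.2 (mul_mem
          (hPT (mem_fset.1 (Finset.mem_product.1 hw).1))
          (hc.RT (mem_fset.1 (Finset.mem_product.1 hw).2))))]
      refine Finset.sum_congr rfl fun t ht => ?_
      rw [Finset.sum_congr rfl fun w hw => show f (w.1 * w.2) = f t by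
        rw [(Finset.mem_filter.1 hw).2], Finset.sum_const, nsmul_eq_mul]
      congr 1
      obtain ⟨y, hy, ρ, hρ, rfl⟩ : ∃ y ∈ P, ∃ ρ ∈ R, y * ρ = t := by
        have h1 := mem_fset.1 ht
        rw [← hsup, ← SetLike.mem_coe, coe_mul_of_left_le_normalizer_right P R (hPT.trans hTR),
          Set.mem_mul] at h1
        exact h1
      rw [← card_fset]
      norm_cast
      refine Finset.card_nbij' (fun w => y⁻¹ * w.1) (fun e => (y * e, e⁻¹ * ρ)) ?_ ?_ ?_ ?_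
      · intro w hw
        obtain ⟨h1, h2⟩ := Finset.mem_filter.1 hw
        obtain ⟨h3, h4⟩ := Finset.mem_product.1 h1
        refine mem_fset.2 (mem_inf.2 ⟨mul_mem (inv_mem hy) (mem_fset.1 h3), ?_⟩)
        show y⁻¹ * w.1 ∈ R
        rw [show y⁻¹ * w.1 = ρ * w.2⁻¹ by
          rw [show ρ = y⁻¹ * (w.1 * w.2) by rw [h2]; group]; group]
        exact mul_mem hρ (inv_mem (mem_fset.1 h4))
      · intro e he
        obtain ⟨h1, h2⟩ := mem_inf.1 (mem_fset.1 he)
        refine Finset.mem_filter.2 ⟨Finset.mem_product.2 ⟨mem_fset.2 (mul_mem hy h1),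
          mem_fset.2 (mul_mem (inv_mem h2) hρ)⟩, by group⟩
      · intro w hw
        obtain ⟨-, h2⟩ := Finset.mem_filter.1 hw
        refine Prod.ext (by group) ?_
        rw [show ρ = y⁻¹ * (w.1 * w.2) by rw [h2]; group]
        group
      · intro e _
        simp
    have hPR : (Nat.card (P ⊓ R : Subgroup Γ) : ℤ) = 2 * q := by
      have h1 := key fun _ => 1
      simp only [Finset.sum_const, nsmul_eq_mul, mul_one, card_fset] at h1
      rw [hc.card, hext] at h1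
      push_cast at h1
      rw [hNz] at h1
      have h2 : (0 : ℤ) < 4 ^ n * Nat.card R := by
        have : (0 : ℤ) < Nat.card R := by exact_mod_cast Nat.card_pos
        positivity
      exact (mul_right_cancel₀ h2.ne' (by linarith)).symm
    have h3 := key fun t => ev χ (t * t)
    have e1 : ∀ y ∈ fset P, ∑ ρ ∈ fset R, ev χ (y * ρ * (y * ρ)) = (Nat.card R : ℤ) * φ y := by
      intro y hy
      rw [Finset.sum_congr rfl fun ρ hρ => ?_, Finset.sum_const, nsmul_eq_mul, card_fset]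
      have hρ' := mem_fset.1 hρ
      have hy' := hPT (mem_fset.1 hy)
      have hk1 : ∀ z ∈ lam, ev χ z = 1 := fun z hz => (mem_kerC.1 (hk ▸ hz)).2
      have hcl : ⁅y⁻¹, ρ⁆ ∈ lam := by
        rw [← commutatorElement_inv]
        exact inv_mem ((hc.rad ρ (hc.RT hρ')).1 hρ' _ (inv_mem hy'))
      rw [sq_mul h.toFrame χ hy' (hc.RT hρ'), hk1 _ hcl, hk1 _ (hc.sqR ρ hρ'), mul_one, mul_one,
        ← hφP y hy]
    rw [Finset.sum_congr rfl e1, ← Finset.mul_sum, hPR] at h3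
    obtain ⟨χ', hk', -, hg'⟩ := gs_comp h.toFrame hc
    obtain rfl : χ' = χ := kerC_inj (hk'.trans hk.symm)
    have hRpos : (0 : ℤ) < Nat.card R := by exact_mod_cast Nat.card_pos
    refine mul_left_cancel₀ hRpos.ne' (h3.trans ?_)
    show (2 * q : ℤ) * gs χ' = _
    rw [hg']
    ring
  let ψ : Γ → ℤ := fun x => (2 ^ n - 1) * φ x + ι x
  have hψpos : 0 < ∑ x ∈ fset T, ψ x := by
    have hlam : ∀ x : Γ, x ∈ T ∧ x ∉ cen T ∧ x * x ∈ centralizer (X : Set Γ) →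
        ∃ P : Subgroup Γ, P ≤ T ∧ cen T ≤ P ∧ a ∈ normalizer (P : Set Γ) ∧
          (∀ y ∈ P, y * y ∈ centralizer (X : Set Γ)) ∧ x ∈ P :=
      fun x hx => exists_line h hZ hx.1 hx.2.1 hx.2.2
    haveI : Fintype (Subgroup Γ) := Fintype.ofFinite _
    let line : Γ → Subgroup Γ := fun x =>
      if hx : x ∈ T ∧ x ∉ cen T ∧ x * x ∈ centralizer (X : Set Γ) then Classical.choose (hlam x hx)
      else ⊥
    set I₀ := (fset T).filter fun x => x ∉ cen T ∧ x * x ∈ centralizer (X : Set Γ) with hI₀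
    have memI : ∀ x, x ∈ I₀ ↔ x ∈ T ∧ x ∉ cen T ∧ x * x ∈ centralizer (X : Set Γ) := fun x => by
      simp [I₀, mem_fset]
    have e0 : ∑ x ∈ I₀, ψ x = 0 := by
      rw [← Finset.sum_fiberwise_of_maps_to (t := (Finset.univ : Finset (Subgroup Γ))) (g := line)
        (fun x _ => Finset.mem_univ _)]
      refine Finset.sum_eq_zero fun P _ => ?_
      rcases (I₀.filter fun x => line x = P).eq_empty_or_nonempty with e | ⟨x, hx⟩
      · rw [e, Finset.sum_empty]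
      obtain ⟨hxI, hxP⟩ := Finset.mem_filter.1 hx
      have hx' := (memI x).1 hxI
      have spec : ∀ y, (hy : y ∈ T ∧ y ∉ cen T ∧ y * y ∈ centralizer (X : Set Γ)) →
          line y ≤ T ∧ cen T ≤ line y ∧ a ∈ normalizer (line y : Set Γ) ∧
            (∀ w ∈ line y, w * w ∈ centralizer (X : Set Γ)) ∧ y ∈ line y := fun y hy => by
        simp only [line, dif_pos hy]
        exact Classical.choose_spec (hlam y hy)
      obtain ⟨hPT, hZP, haP, hsq, hxm⟩ := hxP ▸ spec x hx'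
      have hPne : P ≠ cen T := fun e => hx'.2.1 (e ▸ hxm)
      have huniq : ∀ y ∈ P, y ∉ cen T → line y = P := by
        intro y hy hyn
        obtain ⟨h1, h2, h3, h4, h5⟩ := spec y ⟨hPT hy, hyn, hsq y hy⟩
        have h6 : line y ⊓ P ≠ cen T := fun e => hyn (e ▸ ⟨h5, hy⟩)
        have c1 := (ext_cover h.toFrame h1 h2 h3 h4 fun e => hyn (e ▸ h5)).2
        have c2 := (ext_cover h.toFrame hPT hZP haP hsq hPne).2
        have c3 := (ext_cover h.toFrame (inf_le_left.trans h1) (le_inf h2 hZP)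
          (inf_normalizer_le_normalizer_inf ⟨h3, haP⟩) (fun w hw => hsq w hw.2) h6).2
        exact (eq_of_le_of_card_ge (inf_le_left : line y ⊓ P ≤ _) (by rw [c1, c3])).symm.trans
          (eq_of_le_of_card_ge (inf_le_right : line y ⊓ P ≤ _) (by rw [c2, c3]))
      have efib : I₀.filter (fun x => line x = P) = (fset P).filter fun y => y ∉ cen T := by
        ext y
        simp only [Finset.mem_filter, memI, mem_fset]
        constructor
        · rintro ⟨hy, rfl⟩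
          exact ⟨(spec y hy).2.2.2.2, hy.2.1⟩
        · rintro ⟨hy, hyn⟩
          exact ⟨⟨hPT hy, hyn, hsq y hy⟩, huniq y hy hyn⟩
      obtain ⟨l1, l2⟩ := hline P hPT hZP haP hsq hPne
      have eψ : ∑ y ∈ fset P, ψ y = (2 ^ n * (2 * q) : ℤ) := by
        simp only [ψ, Finset.sum_add_distrib, ← Finset.mul_sum, l1, l2]
        rw [show (4 : ℤ) ^ n = 2 ^ n * 2 ^ n by rw [← mul_pow]; norm_num]
        ring
      have eZ : ∑ y ∈ (fset P).filter (fun y => y ∈ cen T), ψ y = (2 ^ n * (2 * q) : ℤ) := by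
        have e1 : (fset P).filter (fun y => y ∈ cen T) = fset (cen T) := by
          ext y
          simp only [Finset.mem_filter, mem_fset]
          exact ⟨fun e => e.2, fun e => ⟨hZP e, e⟩⟩
        rw [e1, Finset.sum_congr rfl fun y hy => show ψ y = (2 : ℤ) ^ n by
          simp only [ψ, (hφZ y (mem_fset.1 hy)).1, (hφZ y (mem_fset.1 hy)).2]; ring,
          Finset.sum_const, card_fset, nsmul_eq_mul, hNz]
        ring
      have := Finset.sum_filter_add_sum_filter_not (fset P) (fun y => y ∈ cen T) ψ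
      rw [efib]
      linarith
    have e1 := Finset.sum_filter_add_sum_filter_not (fset T)
      (fun x => x ∉ cen T ∧ x * x ∈ centralizer (X : Set Γ)) ψ
    rw [← hI₀, e0, zero_add] at e1
    rw [← e1]
    refine Finset.sum_pos' (fun x hx => ?_) ⟨1, ?_, ?_⟩
    · obtain ⟨hxT, hx2⟩ := Finset.mem_filter.1 hx
      by_cases hxZ : x ∈ cen T
      · simp only [ψ, (hφZ x hxZ).1, (hφZ x hxZ).2]
        have : (0 : ℤ) < 2 ^ n := by positivity
        linarith
      · have hxX : x * x ∉ centralizer (X : Set Γ) := fun e => hx2 ⟨hxZ, e⟩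
        have h1 : x * x ≠ 1 := fun e => hxX (e ▸ one_mem _)
        have h2 : x * x ≠ v₀ := fun e => hxX (e ▸ hv₀X)
        simp [ψ, φ, ι, h1, h2]
    · exact Finset.mem_filter.2 ⟨mem_fset.2 (one_mem _), fun e => e.1 (one_mem _)⟩
    · simp only [ψ, (hφZ 1 (one_mem _)).1, (hφZ 1 (one_mem _)).2]
      have : (0 : ℤ) < 2 ^ n := by positivity
      linarith
  have hbP : 4 ^ n * ∑ χ ∈ Pl, gs χ ≤ (Nat.card T : ℤ) * (4 ^ n + q - 1) := by
    have h1 : (1 : Chr T) ∈ Pl := (memPl 1).2 (ev_trivial hv₀)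
    rw [← Finset.add_sum_erase Pl gs h1, mul_add, Finset.mul_sum]
    have e1 : gs (1 : Chr T) = Nat.card T := by
      rw [gs, Finset.sum_congr rfl fun x hx => ev_trivial (h.Tsq x (mem_fset.1 hx))]
      simp [card_fset]
    have e2 := Finset.sum_le_card_nsmul (Pl.erase 1) (fun χ => 4 ^ n * gs χ) (Nat.card T : ℤ)
      fun χ hχ => gs_le h.toFrame χ (Finset.mem_erase.1 hχ).1
    have e3 := Finset.card_erase_add_one h1
    rw [nsmul_eq_mul] at e2
    have e4 : ((Pl.erase 1).card : ℤ) = q - 1 := by omega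
    rw [e4] at e2
    rw [e1]
    linarith
  have hbM : 4 ^ n * ∑ χ ∈ Mn, gs χ ≤
      (Nat.card T : ℤ) * ((q : ℤ) - L.card * (2 ^ n + 1)) := by
    rw [← Finset.sum_sdiff hLM, mul_add, Finset.mul_sum, Finset.mul_sum]
    have e1 := Finset.sum_le_card_nsmul (Mn \ L) (fun χ => 4 ^ n * gs χ) (Nat.card T : ℤ)
      fun χ hχ => gs_le h.toFrame χ (hMn1 ((memMn χ).1 (Finset.mem_sdiff.1 hχ).1))
    have e2 : ∑ χ ∈ L, (4 : ℤ) ^ n * gs χ = L.card * (2 ^ n * -(Nat.card T : ℤ)) := by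
      rw [Finset.sum_congr rfl fun χ hχ => show (4 : ℤ) ^ n * gs χ = 2 ^ n * -(Nat.card T : ℤ) by
        rw [show (4 : ℤ) ^ n = 2 ^ n * 2 ^ n by rw [← mul_pow]; norm_num, mul_assoc,
          ((memL χ).1 hχ).2], Finset.sum_const, nsmul_eq_mul]
    have e3 := Finset.card_sdiff_of_subset hLM
    have e4 : ((Mn \ L).card : ℤ) = q - L.card := by omega
    rw [nsmul_eq_mul, e4] at e1
    rw [e2]
    linarith
  rw [hI] at hbP
  rw [hD] at hbM
  simp only [ψ, Finset.sum_add_distrib, ← Finset.mul_sum] at hψpos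
  set D := ∑ x ∈ fset T, φ x
  set I := ∑ x ∈ fset T, ι x
  have hlt : ((2 : ℤ) ^ n - 1) * ((L.card : ℤ) * (2 ^ n + 1) - q) < 4 ^ n + q - 1 := by
    have h4 : (0 : ℤ) < 4 ^ n * q := by positivity
    have h5 : (1 : ℤ) ≤ 2 ^ n := one_le_pow₀ (by norm_num)
    refine lt_of_mul_lt_mul_left ?_ hTne.le
    calc (Nat.card T : ℤ) * (((2 : ℤ) ^ n - 1) * ((L.card : ℤ) * (2 ^ n + 1) - q))
        = (2 ^ n - 1) * (-((Nat.card T : ℤ) * ((q : ℤ) - L.card * (2 ^ n + 1)))) := by ring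
      _ ≤ (2 ^ n - 1) * (-(4 ^ n * (q * D))) :=
          mul_le_mul_of_nonneg_left (neg_le_neg hbM) (by linarith)
      _ = 4 ^ n * q * (-((2 ^ n - 1) * D)) := by ring
      _ < 4 ^ n * q * I := mul_lt_mul_of_pos_left (by linarith) h4
      _ = 4 ^ n * (q * I) := by ring
      _ ≤ _ := hbP
  refine final_arith h.n1 hq4 hA (fun hn1 hd => h.rX ?_) ?_ hlt
  · rw [h.rn, hn1]
    exact hd.trans (hqd ▸ dvd_card h hZ)
  · rcases Nat.lt_or_ge m 3 with h6 | h6
    · left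
      rw [hqm, show m = 2 by omega]
      norm_num
    · right
      rw [hqm]
      exact Nat.pow_le_pow_right (show 2 > 0 by norm_num) h6

end Main

end Cfsg.Agent.Flavell8.Gen.NoCen

namespace Cfsg.Agent.Flavell8.Gen

/-- **No central involution.** In a configuration `Closed` in which `cen T` is not central in `X`,
no non-trivial element of `cen T` is central in `X`. -/
theorem cen_inf_central {Γ : Type*} [Group Γ] [Finite Γ] {p r n : ℕ} {V X S W T : Subgroup Γ}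
    {a : Γ} (h : Closed p r n V X S W T a)
    (hZ : ¬ cen T ≤ Subgroup.centralizer (X : Set Γ)) :
    ∀ v ∈ cen T, v ≠ 1 → v ∉ Subgroup.centralizer (X : Set Γ) :=
  fun _ hv hv1 hvX => NoCen.false_of_central h hZ hv hv1 hvX

/-- **Piece D.** There is no configuration `Closed` in which `cen T` is not central in `X`. -/
theorem false_of_closed {Γ : Type*} [Group Γ] [Finite Γ] {p r n : ℕ} {V X S W T : Subgroup Γ}
    {a : Γ} (h : Closed p r n V X S W T a)
    (hZ : ¬ cen T ≤ Subgroup.centralizer (X : Set Γ)) : False :=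
  false_of_closed_clean h (cen_inf_central h hZ) (comp_exists h.toFrame)
    fun _ _ hc => comp_count h.toFrame hc

end Cfsg.Agent.Flavell8.Gen
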