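import Mathlib
import Cfsg.Prelude.Def_Transfer
import Cfsg.Agent.Lib.FlavellFacts8
import Cfsg.Agent.Lib.PGroupsBasic
import Cfsg.Agent.Lib.ComponentsFitting
import Cfsg.Agent.Lib.H74Kazarin

/-!
The fixed point theorem of Shult type (the statement of S3041) from the coprime action theorem
`Core → Nice`.  The module is replaced by the finite subgroup spanned by an orbit and the semidirect
product with `X` is formed; characteristic two is treated directly with Kazarin's theorem.
-/

set_option autoImplicit false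
set_option linter.style.haveILetI false
set_option linter.unusedSectionVars false

namespace Cfsg.Agent.Flavell8.Glue

open Subgroup
open scoped commutatorElement
open Cfsg.Agent.Flavell20 (cen)
open Cfsg.Agent.CoprimeAction

universe u v w

/-! ### The semidirect product with a finite orbit span -/

section rep

variable {X : Type u} [Group X] {k : Type v} [Field k] {V : Type w} [AddCommGroup V] [Module k V]
  (ρ : Representation k X V)

/-- The elements fixing a vector. -/
def fixer (v : V) : Subgroup X where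
  carrier := {x | ρ x v = v}
  one_mem' := by simp
  mul_mem' := fun {x y} (hx : ρ x v = v) (hy : ρ y v = v) => by
    show ρ (x * y) v = v
    rw [map_mul, Module.End.mul_apply, hy, hx]
  inv_mem' := fun {x} (hx : ρ x v = v) => by
    show ρ x⁻¹ v = v
    conv_lhs => rw [← hx]
    rw [← Module.End.mul_apply, ← map_mul, inv_mul_cancel, map_one, Module.End.one_apply]

lemma mem_fixer {x : X} {v : V} : x ∈ fixer ρ v ↔ ρ x v = v := Iff.rfl

/-- The group generated by an orbit. -/
def orbitSpan (v : V) : AddSubgroup V := AddSubgroup.closure (Set.range fun x => ρ x v)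

lemma orbitSpan_map (v : V) (x : X) {u : V} (hu : u ∈ orbitSpan ρ v) : ρ x u ∈ orbitSpan ρ v := by
  have hle : orbitSpan ρ v ≤ (orbitSpan ρ v).comap (ρ x).toAddMonoidHom := by
    refine (AddSubgroup.closure_le _).mpr ?_
    rintro _ ⟨y, rfl⟩
    refine AddSubgroup.subset_closure ⟨x * y, ?_⟩
    show ρ (x * y) v = ρ x (ρ y v)
    rw [map_mul, Module.End.mul_apply]
  exact hle hu

/-- The action on the orbit span, as automorphisms. -/
def act (v : V) : X →* MulAut (Multiplicative (orbitSpan ρ v)) where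
  toFun x :=
    { toFun := fun u => Multiplicative.ofAdd ⟨ρ x (u.toAdd : V), orbitSpan_map ρ v x u.toAdd.2⟩
      invFun := fun u =>
        Multiplicative.ofAdd ⟨ρ x⁻¹ (u.toAdd : V), orbitSpan_map ρ v x⁻¹ u.toAdd.2⟩
      left_inv := fun u => Multiplicative.toAdd.injective <| Subtype.ext <| by
        show ρ x⁻¹ (ρ x (u.toAdd : V)) = (u.toAdd : V)
        rw [← Module.End.mul_apply, ← map_mul, inv_mul_cancel, map_one, Module.End.one_apply]
      right_inv := fun u => Multiplicative.toAdd.injective <| Subtype.ext <| by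
        show ρ x (ρ x⁻¹ (u.toAdd : V)) = (u.toAdd : V)
        rw [← Module.End.mul_apply, ← map_mul, mul_inv_cancel, map_one, Module.End.one_apply]
      map_mul' := fun u u' => Multiplicative.toAdd.injective <| Subtype.ext <|
        map_add (ρ x) (u.toAdd : V) (u'.toAdd : V) }
  map_one' := MulEquiv.ext fun u => Multiplicative.toAdd.injective <| Subtype.ext <| by
    show ρ 1 (u.toAdd : V) = (u.toAdd : V)
    rw [map_one, Module.End.one_apply]
  map_mul' := fun x y => MulEquiv.ext fun u => Multiplicative.toAdd.injective <| Subtype.ext <| by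
    show ρ (x * y) (u.toAdd : V) = ρ x (ρ y (u.toAdd : V))
    rw [map_mul, Module.End.mul_apply]

lemma act_apply (v : V) (x : X) (u : Multiplicative (orbitSpan ρ v)) :
    ((act ρ v x u).toAdd : V) = ρ x (u.toAdd : V) := rfl

/-- The semidirect product. -/
abbrev Gam (v : V) : Type (max u w) := Multiplicative (orbitSpan ρ v) ⋊[act ρ v] X

lemma commute_iff (v : V) (x : X) (u : Multiplicative (orbitSpan ρ v)) :
    Commute (SemidirectProduct.inr x : Gam ρ v) (SemidirectProduct.inl u) ↔
      ρ x (u.toAdd : V) = (u.toAdd : V) := by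
  rw [Commute, SemiconjBy, ← mul_inv_eq_iff_eq_mul, ← map_inv, ← SemidirectProduct.inl_aut,
    SemidirectProduct.inl_inj, ← Multiplicative.toAdd.injective.eq_iff, Subtype.ext_iff, act_apply]

lemma nsmul_p (k : Type v) [Field k] {p : ℕ} [CharP k p] {V : Type w} [AddCommGroup V] [Module k V]
    (v : V) : p • v = 0 := by
  rw [← Nat.cast_smul_eq_nsmul k, CharP.cast_eq_zero, zero_smul]

variable {p : ℕ} [Fact p.Prime] [CharP k p]

lemma orbitSpan_pow (v : V) (u : Multiplicative (orbitSpan ρ v)) : u ^ p = 1 := by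
  apply Multiplicative.toAdd.injective
  apply Subtype.ext
  rw [toAdd_pow, toAdd_one, AddSubgroup.coe_nsmul, ZeroMemClass.coe_zero]
  exact nsmul_p k _

lemma orbitSpan_finite (p : ℕ) [Fact p.Prime] [CharP k p] [Finite X] (v : V) :
    Finite (orbitSpan ρ v) := by
  have hexp : ∀ x : V, p • x = 0 := fun x => nsmul_p k x
  let _ : Module (ZMod p) V := AddCommGroup.zmodModule (G := V) (n := p) hexp
  set S : Set V := Set.range fun x => ρ x v
  haveI : Module.Finite (ZMod p) ↥(Submodule.span (ZMod p) S) :=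
    Module.Finite.span_of_finite (ZMod p) (Set.finite_range fun x => ρ x v)
  haveI : Finite (Submodule.span (ZMod p) S) := Module.finite_of_finite (ZMod p)
  have hle : orbitSpan ρ v ≤ (Submodule.span (ZMod p) S).toAddSubgroup :=
    (AddSubgroup.closure_le _).mpr Submodule.subset_span
  exact Finite.of_injective (fun u => (⟨u.1, hle u.2⟩ : Submodule.span (ZMod p) S))
    fun u u' h => Subtype.ext (congrArg (fun z : Submodule.span (ZMod p) S => (z : V)) h)

/-- A `p`-group fixes a nonzero vector. -/
lemma exists_fixed [Finite X] [Nontrivial V] {N : Subgroup X} (hN : IsPGroup p N) :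
    ∃ u : V, u ≠ 0 ∧ ∀ n ∈ N, ρ n u = u := by
  obtain ⟨v, hv⟩ := exists_ne (0 : V)
  haveI := orbitSpan_finite ρ p v
  let _ : MulAction N (orbitSpan ρ v) :=
    { smul := fun n u => ⟨ρ (n : X) u, orbitSpan_map ρ v n u.2⟩
      one_smul := fun u => Subtype.ext (show ρ ((1 : N) : X) (u : V) = u by simp)
      mul_smul := fun n n' u => Subtype.ext
        (show ρ ((n * n' : N) : X) (u : V) = ρ (n : X) (ρ (n' : X) u) by simp) }
  haveI : Nontrivial (orbitSpan ρ v) :=
    ⟨⟨⟨v, AddSubgroup.subset_closure ⟨1, by simp⟩⟩, 0, fun h => hv (congrArg Subtype.val h)⟩⟩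
  have hP : IsPGroup p (Multiplicative (orbitSpan ρ v)) :=
    fun u => ⟨1, by rw [pow_one]; exact orbitSpan_pow ρ v u⟩
  obtain ⟨m, hm⟩ := IsPGroup.iff_card.mp hP
  have hpd : p ∣ Nat.card (orbitSpan ρ v) := by
    rcases Nat.eq_zero_or_pos m with rfl | hm0
    · rw [pow_zero] at hm
      exact absurd hm Finite.one_lt_card.ne'
    · exact (dvd_pow_self p hm0.ne').trans (dvd_of_eq hm.symm)
  obtain ⟨u, hu, hu0⟩ := hN.exists_fixed_point_of_prime_dvd_card_of_fixed_point (orbitSpan ρ v) hpd
    (a := 0) fun n => Subtype.ext (map_zero (ρ (n : X)))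
  exact ⟨u, fun h => hu0 (Subtype.ext h.symm), fun n hn => congrArg Subtype.val (hu ⟨n, hn⟩)⟩

variable (hfaith : Function.Injective ρ)
  (hirr : ∀ W : Submodule k V, (∀ x : X, W.map (ρ x) ≤ W) → W = ⊥ ∨ W = ⊤)

include hfaith hirr

/-- There is no nontrivial normal `p`-subgroup. -/
lemma normal_pGroup_bot [Finite X] [Nontrivial V] {N : Subgroup X} [hNn : N.Normal]
    (hN : IsPGroup p N) : N = ⊥ := by
  obtain ⟨u, hu0, hu⟩ := exists_fixed ρ hN
  let W : Submodule k V :=
    { carrier := {z | ∀ n ∈ N, ρ n z = z}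
      zero_mem' := fun n _ => map_zero _
      add_mem' := fun {a b} ha hb n hn => by rw [map_add, ha n hn, hb n hn]
      smul_mem' := fun c {a} ha n hn => by rw [map_smul, ha n hn] }
  have hW : W = ⊤ := by
    refine (hirr W fun x => ?_).resolve_left fun h => hu0 ?_
    · rintro _ ⟨z, hz, rfl⟩ n hn
      have h1 := hz _ (hNn.conj_mem n hn x⁻¹)
      calc ρ n (ρ x z) = ρ (x * (x⁻¹ * n * x⁻¹⁻¹)) z := by
            rw [← Module.End.mul_apply, ← map_mul]; congr 2; group
        _ = ρ x z := by rw [map_mul, Module.End.mul_apply, h1]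
    · exact (Submodule.eq_bot_iff W).mp h u hu
  refine (eq_bot_iff_forall _).mpr fun n hn => hfaith ?_
  rw [map_one]
  exact LinearMap.ext fun z => (show z ∈ W by rw [hW]; trivial) n hn

/-- The action on an orbit span of a nonzero vector is faithful. -/
lemma act_faith {v : V} (hv : v ≠ 0) {x : X}
    (hx : ∀ u ∈ orbitSpan ρ v, ρ x u = u) : x = 1 := by
  have hW : Submodule.span k (Set.range fun y => ρ y v) = ⊤ := by
    refine (hirr _ fun y => ?_).resolve_left fun h => hv ?_
    · rw [Submodule.map_span, Submodule.span_le]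
      rintro _ ⟨_, ⟨z, rfl⟩, rfl⟩
      refine Submodule.subset_span ⟨y * z, ?_⟩
      show ρ (y * z) v = ρ y (ρ z v)
      rw [map_mul, Module.End.mul_apply]
    · have h1 : ρ 1 v ∈ Submodule.span k (Set.range fun y => ρ y v) :=
        Submodule.subset_span ⟨1, rfl⟩
      rw [h, Submodule.mem_bot, map_one, Module.End.one_apply] at h1
      exact h1
  refine hfaith ?_
  rw [map_one]
  refine LinearMap.ext_on hW ?_
  rintro _ ⟨y, rfl⟩
  exact hx _ (AddSubgroup.subset_closure ⟨y, rfl⟩)

end rep

/-! ### Special `2`-groups -/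

variable {L : Type*} [Group L] [Finite L]

/-- A `2`-group with derived group equal to the centre and containing all squares is special. -/
lemma isSpecial_of {E : Subgroup L} (hE : IsPGroup 2 E) (hder : ⁅E, E⁆ = cen E)
    (hsq : ∀ x ∈ E, x * x ∈ cen E) : Cfsg.IsSpecial 2 E := by
  haveI : Fact (Nat.Prime 2) := ⟨Nat.prime_two⟩
  have hZ : (center E).map E.subtype = cen E := by
    ext x
    constructor
    · rintro ⟨y, hy, rfl⟩
      exact ⟨y.2, mem_centralizer_iff.mpr fun z hz =>
        congrArg Subtype.val (mem_center_iff.mp hy ⟨z, hz⟩)⟩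
    · exact fun hx => ⟨⟨x, hx.1⟩, mem_center_iff.mpr fun z =>
        Subtype.ext (mem_centralizer_iff.mp hx.2 z z.2), rfl⟩
  have hcz : commutator E = center E := by
    apply map_injective E.subtype_injective
    rw [map_subtype_commutator, hZ, hder]
  refine ⟨hE, le_antisymm ?_ (hcz ▸ PGroupsBasic.commutator_le_frattini hE), hcz⟩
  refine PGroupsBasic.frattini_le_of_elementary_quotient (p := 2) hcz.le fun x => ?_
  obtain ⟨y, hy, e⟩ := hZ.symm ▸ hsq x x.2
  rwa [pow_two, ← E.subtype_injective (show E.subtype y = E.subtype (x * x) from e)]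

/-- For `E = [E, a]` with fixed points central, the centre lies in the derived group. -/
lemma cen_le_derived {E : Subgroup L} {a : L} (haE : a ∈ normalizer (E : Set L))
    (hcop : (Nat.card (zpowers a)).Coprime (Nat.card E)) (hgen : ⁅E, zpowers a⁆ = E)
    (hfix : cen E ≤ centralizer ({a} : Set L)) : cen E ≤ ⁅E, E⁆ := by
  intro z hz
  set D := ⁅E, E⁆ with hD
  set N := normalizer (D : Set L) with hN
  have hNE : normalizer (E : Set L) ≤ N :=
    CoprimeTools.le_normalizer_commutator_of_le le_rfl le_rfl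
  have hEN : E ≤ N := le_normalizer.trans hNE
  set A := zpowers a with hA
  have hAN : A ≤ N := zpowers_le.2 (hNE haE)
  haveI : (D.subgroupOf N).Normal := normal_subgroupOf_of_le_normalizer le_rfl
  set π := QuotientGroup.mk' (D.subgroupOf N)
  set E' := (E.subgroupOf N).map π with hE'
  set A' := (A.subgroupOf N).map π with hA'
  haveI : IsMulCommutative E' := PGroupsBasic.isMulCommutative_of_forall (by
    rintro _ ⟨s, hs, rfl⟩ _ ⟨t, ht, rfl⟩
    rw [← commutatorElement_eq_one_iff_mul_comm, ← map_commutatorElement,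
      QuotientGroup.mk'_apply, QuotientGroup.eq_one_iff, mem_subgroupOf]
    exact commutator_mem_commutator hs ht)
  have hnorm : A' ≤ normalizer (E' : Set _) := by
    rintro _ ⟨b, hb, rfl⟩
    refine le_normalizer_map π ⟨b, mem_normalizer_iff.2 fun l => ?_, rfl⟩
    exact mem_normalizer_iff.1 (zpowers_le.2 haE hb : (b : L) ∈ normalizer (E : Set L)) l
  have hcop' : (Nat.card A').Coprime (Nat.card E') :=
    (hcop.coprime_dvd_left ((card_map_dvd _ _).trans
      (Nat.card_congr (subgroupOfEquivOfLe hAN).toEquiv).dvd)).coprime_dvd_right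
      ((card_map_dvd _ _).trans (Nat.card_congr (subgroupOfEquivOfLe hEN).toEquiv).dvd)
  have hfit := inf_centralizer_inf_commutator_eq_bot hnorm hcop'
  have hcom : ⁅E', A'⁆ = E' := by
    rw [hE', hA', ← map_commutator]
    congr 1
    apply map_injective N.subtype_injective
    rw [map_commutator, map_subgroupOf_eq_of_le hEN, map_subgroupOf_eq_of_le hAN, hgen]
  have hzN : z ∈ N := hEN hz.1
  have hmem : π ⟨z, hzN⟩ ∈ (E' ⊓ centralizer (A' : Set _)) ⊓ ⁅E', A'⁆ := by
    have hzE : π ⟨z, hzN⟩ ∈ E' := mem_map_of_mem π hz.1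
    refine ⟨⟨hzE, mem_centralizer_iff.2 ?_⟩, hcom.symm ▸ hzE⟩
    rintro _ ⟨b, hb, rfl⟩
    rw [← map_mul, ← map_mul]
    refine congrArg π (Subtype.ext ?_)
    have h1 : z ∈ centralizer (A : Set L) := by
      rw [hA, FlavellFrame20.centralizer_zpowers]
      exact hfix hz
    exact mem_centralizer_iff.mp h1 b hb
  rw [hfit, mem_bot, QuotientGroup.mk'_apply, QuotientGroup.eq_one_iff, mem_subgroupOf] at hmem
  exact hmem

/-! ### Characteristic two -/

variable {X : Type u} [Group X] [Finite X]

/-- If every invariant Sylow subgroup is centralised then so is the group. -/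
lemma relIndex_cen {H : Subgroup X} {a : X} {q : ℕ} [Fact q.Prime]
    (haH : a ∈ normalizer (H : Set X)) (hcop : (Nat.card (zpowers a)).Coprime (Nat.card H))
    (hfixq : ∀ Q : Subgroup X, Q ≤ H → a ∈ normalizer (Q : Set X) → IsPGroup q Q →
      Q ≤ centralizer ({a} : Set X)) :
    ¬ q ∣ (centralizer ({a} : Set X)).relIndex H := by
  intro hd
  obtain ⟨Q, hQ⟩ := exists_invariant_sylow (A := zpowers a) (K := H) (zpowers_le.2 haH) hcop
    (Or.inl (isSolvable_zpowers a)) q
  have hQle : (Q : Subgroup H) ≤ (centralizer ({a} : Set X)).subgroupOf H := fun x hx =>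
    hfixq _ (map_subtype_le _) (hQ (mem_zpowers a)) (Q.isPGroup'.map _) ⟨x, hx, rfl⟩
  exact Q.not_dvd_index (hd.trans (index_dvd_of_le hQle))

/-- A moved normal subgroup, when every odd invariant Sylow subgroup is centralised and there is no
normal `2`-subgroup, is trivial. -/
lemma two_case {G K : Subgroup X} {a : X} [G.Normal] (hsup : G ⊔ zpowers a = ⊤)
    (hcop : (Nat.card (zpowers a)).Coprime (Nat.card G)) (hK : ⁅G, zpowers a⁆ = K)
    (hO2 : ∀ N : Subgroup X, N.Normal → IsPGroup 2 N → N = ⊥)
    (hodd : ∀ q : ℕ, q.Prime → q ≠ 2 → ∀ Q : Subgroup X, Q ≤ G → a ∈ normalizer (Q : Set X) →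
      IsPGroup q Q → Q ≤ centralizer ({a} : Set X)) : K = ⊥ := by
  haveI : Fact (Nat.Prime 2) := ⟨Nat.prime_two⟩
  set C := centralizer ({a} : Set X) with hC
  have haC : zpowers a ≤ C := zpowers_le.2 (mem_centralizer_singleton_iff.2 rfl)
  have hA : zpowers a ≤ normalizer (G : Set X) := by
    rw [normalizer_eq_top_iff.mpr inferInstance]; exact le_top
  have haG : a ∈ normalizer (G : Set X) := hA (mem_zpowers a)
  have hidx : C.index = C.relIndex G := by
    have e1 := relIndex_mul_index (inf_le_left : C ⊓ G ≤ C)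
    have e2 := relIndex_mul_index (inf_le_right : C ⊓ G ≤ G)
    have htop : C ⊔ G = ⊤ := eq_top_iff.2 (hsup ▸ sup_le le_sup_right (haC.trans le_sup_left))
    rw [inf_relIndex_right] at e2
    rw [inf_comm, inf_relIndex_right, inf_comm, ← e2, ← relIndex_sup_right (H := C) (K := G),
      htop, relIndex_top_right, mul_comm (C.relIndex G)] at e1
    exact Nat.eq_of_mul_eq_mul_left (Nat.pos_of_ne_zero index_ne_zero_of_finite) e1
  obtain ⟨k, hk⟩ : ∃ k, C.index = 2 ^ k :=
    ⟨_, Nat.eq_prime_pow_of_unique_prime_dvd index_ne_zero_of_finite fun {d} hd hdvd => by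
      haveI := Fact.mk hd
      by_contra hne
      exact relIndex_cen haG hcop (hodd d hd hne) (hidx ▸ hdvd)⟩
  have hsol := H74Kazarin.solvable_normalClosure _ X rfl a 2 k Nat.prime_two hk
  have hKN : K ≤ normalClosure ({a} : Set X) := by
    rw [← hK, commutator_le]
    intro x _ g hg
    have hg' : g ∈ normalClosure ({a} : Set X) :=
      (zpowers_le.2 (subset_normalClosure rfl : a ∈ normalClosure ({a} : Set X))) hg
    rw [commutatorElement_def]
    exact mul_mem (normalClosure_normal.conj_mem g hg' x) (inv_mem hg')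
  haveI : Group.IsSolvable K := isSolvable_of_le hKN
  have hKG : K ≤ G := hK ▸ commutator_le_left G (zpowers a)
  have hKn : K.Normal := by
    rw [← normalizer_eq_top_iff, eq_top_iff, ← hsup, ← hK]
    exact sup_le (normalizer_commutator_ge_left _ _) (normalizer_commutator_ge_right _ _)
  -- the Fitting subgroup of `K` is centralised
  set F := (Cfsg.fittingSubgroup K).map K.subtype with hF
  have hFK : F ≤ K := map_subtype_le _
  have hFn : F.Normal := by
    rw [← normalizer_eq_top_iff, eq_top_iff, ← normalizer_eq_top_iff.mpr hKn]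
    exact ComponentsCores.normalizer_le_normalizer_map_subtype K _
  have hFnil : Group.IsNilpotent F :=
    (ComponentsCores.isNilpotent_map_subtype_iff _).mpr inferInstance
  have hFc : F ≤ C := by
    rw [← relIndex_eq_one]
    by_contra hne
    obtain ⟨q, hq, hqd⟩ := Nat.exists_prime_and_dvd hne
    haveI := Fact.mk hq
    have hcopF : (Nat.card (zpowers a)).Coprime (Nat.card F) :=
      hcop.coprime_dvd_right (card_dvd_of_le (hFK.trans hKG))
    have haF : a ∈ normalizer (F : Set X) := by
      rw [normalizer_eq_top_iff.mpr hFn]; exact mem_top a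
    refine relIndex_cen haF hcopF (fun Q hQF haQ hQ => ?_) hqd
    rcases eq_or_ne q 2 with rfl | hq2
    · obtain ⟨S, hS⟩ := (IsPGroup.exists_le_sylow (p := 2)
        (IsPGroup.of_equiv hQ (subgroupOfEquivOfLe hQF).symm))
      haveI : (S : Subgroup F).Normal := Sylow.normal_of_normalizerCondition
        Group.normalizerCondition_of_isNilpotent S
      haveI : (S : Subgroup F).Characteristic := Sylow.characteristic_of_normal S inferInstance
      have hS' : ((S : Subgroup F).map F.subtype).Normal := by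
        rw [← normalizer_eq_top_iff, eq_top_iff, ← normalizer_eq_top_iff.mpr hFn]
        exact ComponentsCores.normalizer_le_normalizer_map_subtype F _
      have hQ0 : Q ≤ (⊥ : Subgroup X) := by
        rw [← hO2 _ hS' (S.isPGroup'.map _), ← map_subgroupOf_eq_of_le hQF]
        exact map_mono hS
      exact hQ0.trans bot_le
    · exact hodd q hq hq2 Q (hQF.trans (hFK.trans hKG)) haQ hQ
  have hKc : K ≤ centralizer (F : Set X) := by
    have h1 : zpowers a ≤ centralizer (F : Set X) := by
      rw [le_centralizer_iff, FlavellFrame20.centralizer_zpowers]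
      exact hFc
    haveI := hFn
    rw [← hK, commutator_le]
    intro x _ g hg
    rw [commutatorElement_def]
    exact mul_mem ((inferInstance : (centralizer (F : Set X)).Normal).conj_mem g (h1 hg) x)
      (inv_mem (h1 hg))
  have hKF : K ≤ F := by
    intro x hx
    refine ⟨⟨x, hx⟩, ComponentsFitting.centralizer_fitting_le_of_solvable
      (mem_centralizer_iff.mpr fun y hy => Subtype.ext ?_), rfl⟩
    exact mem_centralizer_iff.mp (hKc hx) _ (mem_map_of_mem K.subtype hy)
  have h2 : ⁅K, zpowers a⁆ = K := by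
    rw [← hK]
    exact commutator_commutator_eq hA hcop (Or.inl (isSolvable_zpowers a))
  rw [← h2, commutator_eq_bot_iff_le_centralizer, FlavellFrame20.centralizer_zpowers]
  exact hKF.trans hFc

/-- The statement of S3041 from the coprime action theorem. -/
theorem glue {X : Type u} [Group X] [Finite X]
    (hnice : ∀ (p r : ℕ) (Γ : Type (max u w)) [Group Γ] [Finite Γ] (Vg Xg : Subgroup Γ) (a : Γ),
      Core p r Vg Xg a → Nice p Xg a)
    (G R : Subgroup X) [G.Normal] (hX : G ⊔ R = ⊤) (r : ℕ) (hr : r.Prime)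
    (hR : Nat.card R = r) (hcop : ¬ r ∣ Nat.card G)
    {k : Type v} [Field k] {p : ℕ} [Fact p.Prime] [CharP k p] {V : Type w} [AddCommGroup V]
    [Module k V] [FiniteDimensional k V] [Nontrivial V]
    (ρ : Representation k X V) (hfaith : Function.Injective ρ)
    (hirr : ∀ W : Submodule k V, (∀ x : X, W.map (ρ x) ≤ W) → W = ⊥ ∨ W = ⊤)
    (hfix : ∀ v : V, (∀ x ∈ R, ρ x v = v) → v = 0) :
    ⁅G, R⁆ = ⊥ ∨ ((∃ m : ℕ, r = 2 ^ m + 1) ∧ ¬ IsMulCommutative ↥⁅G, R⁆ ∧
      Cfsg.IsSpecial 2 ↥⁅G, R⁆) := by
  haveI := Fact.mk hr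
  have hp : p.Prime := Fact.out
  have hrp : r ≠ p := by
    rintro rfl
    obtain ⟨u, hu0, hu⟩ := exists_fixed ρ (IsPGroup.of_card (p := r) (n := 1) (by rw [hR, pow_one]))
    exact hu0 (hfix u hu)
  obtain ⟨a, ha, ha1⟩ : ∃ a ∈ R, a ≠ 1 := by
    refine R.bot_or_exists_ne_one.resolve_left fun h => hr.ne_one ?_
    rw [← hR, h, card_bot]
  have hord : orderOf a = r := ((Nat.dvd_prime hr).mp (hR ▸ orderOf_dvd_natCard R ha)).resolve_left
    fun h => ha1 (orderOf_eq_one_iff.mp h)
  obtain rfl : R = zpowers a :=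
    (eq_of_le_of_card_ge (zpowers_le.mpr ha) (by rw [hR, Nat.card_zpowers, hord])).symm
  have hcop' : (Nat.card (zpowers a)).Coprime (Nat.card G) := by
    rwa [Nat.card_zpowers, hord, hr.coprime_iff_not_dvd]
  have hAG : zpowers a ≤ normalizer (G : Set X) := by
    rw [normalizer_eq_top_iff.mpr inferInstance]; exact le_top
  set K := ⁅G, zpowers a⁆ with hKdef
  have hKK : ⁅K, zpowers a⁆ = K :=
    commutator_commutator_eq hAG hcop' (Or.inl (isSolvable_zpowers a))
  obtain ⟨v, hv⟩ := exists_ne (0 : V)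
  haveI := orbitSpan_finite ρ p v
  haveI : Finite (Gam ρ v) := Finite.of_equiv _ (SemidirectProduct.equivProd).symm
  let e : X →* Gam ρ v := SemidirectProduct.inr
  have hinj : Function.Injective e := SemidirectProduct.inr_injective
  set Vg : Subgroup (Gam ρ v) := (SemidirectProduct.inl (φ := act ρ v)).range with hVg
  have hVn : Vg.Normal := by
    rw [hVg, SemidirectProduct.range_inl_eq_ker_rightHom]; exact MonoidHom.normal_ker _
  have hnV : ∀ g : Gam ρ v, g ∈ normalizer (Vg : Set (Gam ρ v)) := fun g => by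
    rw [normalizer_eq_top_iff.mpr hVn]; exact mem_top g
  have hVcomm : ∀ x ∈ Vg, ∀ y ∈ Vg, x * y = y * x := by
    rintro _ ⟨x, rfl⟩ _ ⟨y, rfl⟩
    rw [← map_mul, ← map_mul, mul_comm]
  have hVexp : ∀ x ∈ Vg, x ^ p = 1 := by
    rintro _ ⟨x, rfl⟩
    rw [← map_pow, orbitSpan_pow, map_one]
  have hVne : Vg ≠ ⊥ := fun h => hv <| by
    have h1 : (SemidirectProduct.inl (Multiplicative.ofAdd
        ⟨v, AddSubgroup.subset_closure ⟨1, by simp⟩⟩) : Gam ρ v) ∈ Vg := ⟨_, rfl⟩
    rw [h, mem_bot, ← map_one (SemidirectProduct.inl (φ := act ρ v)),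
      SemidirectProduct.inl_inj] at h1
    exact congrArg (fun u : Multiplicative (orbitSpan ρ v) => (u.toAdd : V)) h1
  have hfixV : Vg ⊓ centralizer ({e a} : Set (Gam ρ v)) = ⊥ := by
    rw [eq_bot_iff_forall]
    rintro _ ⟨⟨u, rfl⟩, hu⟩
    have h1 : ρ a (u.toAdd : V) = (u.toAdd : V) :=
      (commute_iff ρ v a u).mp (mem_centralizer_iff.mp hu (e a) rfl)
    have h2 : (u.toAdd : V) = 0 := hfix _ fun x hx =>
      (zpowers_le.mpr ((mem_fixer ρ).mpr h1) : zpowers a ≤ fixer ρ (u.toAdd : V)) hx
    rw [show u = 1 from Multiplicative.toAdd.injective (Subtype.ext h2), map_one]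
  have hfaithV : ∀ x : X, e x ∈ centralizer (Vg : Set (Gam ρ v)) → x = 1 := fun x hx =>
    act_faith ρ hfaith hirr hv fun u hu =>
      (commute_iff ρ v x (Multiplicative.ofAdd ⟨u, hu⟩)).mp
        (mem_centralizer_iff.mp hx _ ⟨_, rfl⟩).symm
  have hmapz : (zpowers a).map e = zpowers (e a) := MonoidHom.map_zpowers e a
  have horde : orderOf (e a) = r := by rw [orderOf_injective e hinj, hord]
  rcases eq_or_ne p 2 with hp2 | hp2
  · left
    subst hp2
    refine two_case hX hcop' hKdef.symm (fun N hN hN2 => ?_) fun q hq hq2 Q hQG haQ hQ => ?_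
    · haveI := hN
      exact normal_pGroup_bot ρ hfaith hirr hN2
    · by_contra hnc
      haveI := Fact.mk hq
      have hrq : r ≠ q := by
        rintro rfl
        obtain ⟨j, hj⟩ := IsPGroup.iff_card.1 hQ
        rcases Nat.eq_zero_or_pos j with rfl | hj0
        · rw [pow_zero, ← Subgroup.eq_bot_iff_card] at hj
          exact hnc (hj ▸ bot_le)
        · exact hcop ((dvd_pow_self r hj0.ne').trans (hj ▸ card_dvd_of_le hQG))
      have hV : Cfsg.IsElementaryAbelian 2 Vg :=
        ⟨⟨⟨fun x y => Subtype.ext (hVcomm x x.2 y y.2)⟩⟩, hVexp⟩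
      have hQf : Q.map e ⊓ centralizer (Vg : Set (Gam ρ v)) = ⊥ := by
        rw [eq_bot_iff_forall]
        rintro _ ⟨⟨x, -, rfl⟩, hx⟩
        rw [hfaithV x hx, map_one]
      obtain ⟨hE1, -⟩ := HallHigman.exceptional_of_no_fixed (e := 1) Nat.prime_two hr hq hrq
        (Ne.symm hq2) le_rfl (x := e a) (V := Vg) (Q := Q.map e)
        (by rw [pow_one, ← horde, pow_orderOf_eq_one]) hV (hnV _) (fun g _ => hnV g)
        (le_normalizer_map e ⟨a, haQ, rfl⟩) (hQ.map e) hQf
        (fun h => hnc fun x hx => by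
          have h1 := h (mem_map_of_mem e hx)
          rw [Nat.sub_self, pow_zero, pow_one, mem_centralizer_singleton_iff, ← map_mul,
            ← map_mul] at h1
          exact mem_centralizer_singleton_iff.mpr (hinj h1)) hfixV
      exact hq2 (hE1.odd hr (hE1.ne_two hq) hq).1
  -- odd characteristic
  have hcore : Core p r Vg (G.map e) (e a) :=
    { hp := hp
      hp2 := hp2
      hr := hr
      hrp := hrp
      orda := horde
      Vne := hVne
      Vcomm := hVcomm
      Vexp := hVexp
      aX := le_normalizer_map e ⟨a, hAG (mem_zpowers a), rfl⟩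
      aV := hnV _
      XV := fun g _ => hnV g
      faith := by
        rw [eq_bot_iff_forall]
        rintro _ ⟨⟨x, -, rfl⟩, hx⟩
        rw [hfaithV x hx, map_one]
      fixV := hfixV
      rX := by rwa [card_map_of_injective hinj] }
  have hKmap : ⁅G.map e, zpowers (e a)⁆ = K.map e := by rw [hKdef, map_commutator, hmapz]
  obtain ⟨P, hPK, hPp, hPn, j, hj⟩ := hnice p r _ _ _ _ hcore
  rw [hKmap] at hPK hPn hj
  have hKn : K.Normal := by
    rw [← normalizer_eq_top_iff, eq_top_iff, ← hX]
    exact sup_le (normalizer_commutator_ge_left _ _) (normalizer_commutator_ge_right _ _)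
  have hP0 : P = ⊥ := by
    have h1 : (P.comap e).map e = P := map_comap_eq_self (hPK.trans (map_le_range e K))
    have h2 : P.comap e ≤ K := fun x hx => by
      obtain ⟨y, hy, hye⟩ := hPK hx
      rwa [← hinj hye]
    have h3 : K ≤ normalizer ((P.comap e : Subgroup X) : Set X) :=
      le_normalizer_of_conj_mem fun x hx y hy => by
        show e (x * y * x⁻¹) ∈ P
        rw [map_mul, map_mul, map_inv]
        exact conj_mem (hPn (mem_map_of_mem e hx)) hy
    have h4 : P.comap e ≤ (Cfsg.pCore p K).map K.subtype := by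
      haveI : ((P.comap e).subgroupOf K).Normal := normal_subgroupOf_of_le_normalizer h3
      rw [← map_subgroupOf_eq_of_le h2]
      exact map_mono (ComponentsCores.le_pCore'
        ((hPp.comap_of_injective e hinj).of_equiv (subgroupOfEquivOfLe h2).symm))
    haveI h5 : ((Cfsg.pCore p K).map K.subtype).Normal := by
      rw [← normalizer_eq_top_iff, eq_top_iff, ← normalizer_eq_top_iff.mpr hKn]
      exact ComponentsCores.normalizer_le_normalizer_map_subtype K _
    rw [normal_pGroup_bot ρ hfaith hirr ((ComponentsCores.isPGroup_pCore p).map K.subtype), le_bot_iff] at h4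
    rw [← h1, h4, Subgroup.map_bot]
  rw [hP0, relIndex_bot_left, card_map_of_injective hinj] at hj
  rcases eq_or_ne K ⊥ with hK0 | hK0
  · exact Or.inl hK0
  right
  haveI : Fact (Nat.Prime 2) := ⟨Nat.prime_two⟩
  have hK2 : IsPGroup 2 K := IsPGroup.of_card hj
  set E := K.map e with hE
  have hKG : K ≤ G := commutator_le_left G (zpowers a)
  have hEX : E ≤ G.map e := map_mono hKG
  have haE : e a ∈ normalizer (E : Set (Gam ρ v)) :=
    le_normalizer_map e ⟨a, normalizer_commutator_ge_right G (zpowers a) (mem_zpowers a), rfl⟩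
  have hEA : ⁅E, zpowers (e a)⁆ = E := by rw [hE, ← hmapz, ← map_commutator, hKK]
  have hnc : ¬ E ≤ centralizer ({e a} : Set (Gam ρ v)) := fun h => by
    apply hK0
    apply map_injective hinj
    rw [Subgroup.map_bot, ← hE, ← hEA, commutator_eq_bot_iff_le_centralizer,
      FlavellFrame20.centralizer_zpowers]
    exact h
  obtain ⟨-, ⟨m, -, hm⟩, hnab⟩ :=
    A1.exceptional hcore Nat.prime_two (Ne.symm hp2) hEX haE (hK2.map e) hnc
  obtain ⟨hEfix, hEder, hEsq, -⟩ := A1.special_of_core hcore hEX haE (hK2.map e) hEA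
  have hcopE : (Nat.card (zpowers (e a))).Coprime (Nat.card E) := by
    rw [← hmapz, hE, card_map_of_injective hinj, card_map_of_injective hinj]
    exact hcop'.coprime_dvd_right (card_dvd_of_le hKG)
  have hder : ⁅E, E⁆ = cen E := le_antisymm hEder
    (cen_le_derived haE hcopE hEA (hEfix ▸ inf_le_right))
  have hcenE : (cen K).map e = cen E := by
    ext g
    constructor
    · rintro ⟨x, hx, rfl⟩
      refine ⟨mem_map_of_mem e hx.1, mem_centralizer_iff.mpr ?_⟩
      rintro _ ⟨y, hy, rfl⟩
      rw [← map_mul, ← map_mul, mem_centralizer_iff.mp hx.2 y hy]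
    · rintro ⟨⟨x, hx, rfl⟩, hc⟩
      refine ⟨x, ⟨hx, mem_centralizer_iff.mpr fun y hy => hinj ?_⟩, rfl⟩
      rw [map_mul, map_mul]
      exact mem_centralizer_iff.mp hc _ (mem_map_of_mem e hy)
  refine ⟨⟨m, hm⟩, fun hab => hnab ⟨⟨?_⟩⟩, isSpecial_of hK2 ?_ fun x hx => ?_⟩
  · rintro ⟨_, x, hx, rfl⟩ ⟨_, y, hy, rfl⟩
    have h1 : x * y = y * x := congrArg Subtype.val (hab.is_comm.comm ⟨x, hx⟩ ⟨y, hy⟩)
    refine Subtype.ext ?_
    show e x * e y = e y * e x
    rw [← map_mul, h1, map_mul]
  · apply map_injective hinj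
    rw [map_commutator, hcenE]
    exact hder
  · have h1 := hEsq (e x) (mem_map_of_mem e hx)
    rw [← map_mul, ← hcenE] at h1
    obtain ⟨y, hy, hye⟩ := h1
    rwa [← hinj hye]

end Cfsg.Agent.Flavell8.Glue
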