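import Cfsg.Agent.Lib.FlavellSolvKill8
import Cfsg.Agent.Lib.FlavellOp20
import Cfsg.Agent.Lib.SignalizerBasic

/-!
The induction for the coprime action theorem: a minimal counterexample has the properties `Ctx`.
-/

set_option autoImplicit false
set_option linter.style.haveILetI false
set_option linter.unusedSectionVars false
set_option maxHeartbeats 1600000

open scoped commutatorElement Pointwise

namespace Cfsg.Agent.Flavell8

open Subgroup Cfsg.Agent.CoprimeAction
open Cfsg.Agent.Flavell20 (fixA cen Facts)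
open Cfsg.Agent.FlavellFrame20 (ISyl centralizer_zpowers zpowers_le_normalizer conj_map_le
  mem_normalizer_of_map_le inv_centralizer inv_inf)
open Cfsg.Agent.Flavell20.PNil (Quo prj img mem_img prj_mem_img prj_eq_one prj_comm prj_normalizes
  img_le_normalizer)

universe u

/-- The theorem for smaller pairs. -/
def HInd (p r m v : ℕ) : Prop :=
  ∀ (Γ' : Type u) [Group Γ'] [Finite Γ'] (V' X' : Subgroup Γ') (a' : Γ'), Core p r V' X' a' →
    (Nat.card X' < m ∨ (Nat.card X' ≤ m ∧ Nat.card V' < v)) → Nice p X' a'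

variable {Γ : Type u} [Group Γ] [Finite Γ] {p r : ℕ} {V X : Subgroup Γ} {a : Γ}

theorem eq_one_of_coprime {G : Type*} [Group G] {q q' : ℕ} (hq : q.Prime) (hq' : q'.Prime)
    (hne : q ≠ q') {A B : Subgroup G} (hA : IsPGroup q A) (hB : IsPGroup q' B) {x : G} (hxA : x ∈ A)
    (hxB : x ∈ B) : x = 1 := by
  obtain ⟨i, hi⟩ := hA ⟨x, hxA⟩
  obtain ⟨j, hj⟩ := hB ⟨x, hxB⟩
  exact orderOf_eq_one_iff.1 (Nat.eq_one_of_dvd_coprimes
    (((Nat.coprime_primes hq hq').2 hne).pow i j)
    (orderOf_dvd_of_pow_eq_one (by simpa using congrArg Subtype.val hi))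
    (orderOf_dvd_of_pow_eq_one (by simpa using congrArg Subtype.val hj)))

/-- What is used of a normal `p`-subgroup of `2`-power index. -/
theorem nice_facts (hp : p.Prime) (hp2 : p ≠ 2) {K P : Subgroup Γ} (hPK : P ≤ K)
    (hPp : IsPGroup p P) (hn : K ≤ normalizer (P : Set Γ)) {k : ℕ} (hk : P.relIndex K = 2 ^ k) :
    (∀ Q : Subgroup Γ, Q ≤ K → IsPGroup p Q → Q ≤ P) ∧
      ∀ g ∈ normalizer (K : Set Γ), g ∈ normalizer (P : Set Γ) := by
  haveI : (P.subgroupOf K).Normal := normal_subgroupOf_of_le_normalizer hn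
  have hall : ∀ Q : Subgroup Γ, Q ≤ K → IsPGroup p Q → Q ≤ P := by
    intro Q hQK hQ x hx
    obtain ⟨i, hi⟩ := hQ ⟨x, hx⟩
    have hi' : x ^ p ^ i = 1 := by simpa using congrArg Subtype.val hi
    set xK : K := ⟨x, hQK hx⟩
    set y : K ⧸ P.subgroupOf K := QuotientGroup.mk' _ xK with hy
    have h1 : orderOf y ∣ p ^ i := orderOf_dvd_of_pow_eq_one (by
      rw [hy, ← map_pow, show xK ^ p ^ i = 1 from Subtype.ext (by simpa [xK] using hi'), map_one])
    have h2 : orderOf y ∣ 2 ^ k := hk ▸ orderOf_dvd_natCard y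
    exact (QuotientGroup.eq_one_iff xK).1 (orderOf_eq_one_iff.1
      (Nat.eq_one_of_dvd_coprimes (((Nat.coprime_primes hp Nat.prime_two).2 hp2).pow i k) h1 h2))
  exact ⟨hall, fun g hg => mem_normalizer_of_map_le (hall _ (conj_map_le hg hPK) (hPp.map _))⟩

theorem nice_of_two {Γ : Type u} [Group Γ] [Finite Γ] {p : ℕ} {X : Subgroup Γ} {a : Γ}
    (h2 : IsPGroup 2 (⁅X, zpowers a⁆ : Subgroup Γ)) : Nice p X a := by
  haveI : Fact (Nat.Prime 2) := ⟨Nat.prime_two⟩
  obtain ⟨k, hk⟩ := IsPGroup.iff_card.1 h2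
  exact ⟨⊥, bot_le, IsPGroup.of_bot, le_top.trans (normalizer_eq_top_iff.2 inferInstance).ge, k,
    by rw [relIndex_bot_left, hk]⟩

theorem Core.mono (h : Core p r V X a) {H : Subgroup Γ} (hH : H ≤ X)
    (ha : a ∈ normalizer (H : Set Γ)) : Core p r V H a :=
  { h with
    aX := ha
    XV := hH.trans h.XV
    faith := eq_bot_iff.2 ((inf_le_inf_right _ hH).trans h.faith.le)
    rX := fun hd => h.rX (hd.trans (card_dvd_of_le hH)) }

theorem hmin_of_ind (h : Core p r V X a) (hind : HInd.{u} p r (Nat.card X) (Nat.card V))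
    (H : Subgroup Γ) (hH : H ≤ X) (hne : H ≠ X) (ha : a ∈ normalizer (H : Set Γ)) : Nice p H a :=
  hind Γ V H a (h.mono hH ha) (Or.inl (lt_of_le_of_ne (card_le_of_le hH)
    fun e => hne (eq_of_le_of_card_ge hH e.ge)))

/-- The image on a section of `V`. -/
theorem section_nice (h : Core p r V X a) (hind : HInd.{u} p r (Nat.card X) (Nat.card V))
    (hcomm : ⁅X, zpowers a⁆ = X) {U U₀ : Subgroup Γ} (hUV : U ≤ V) (hU0le : U₀ ≤ U) (hU0 : U₀ ≠ U)
    (hlt : U₀.relIndex U < Nat.card V) (hXU : X ≤ normalizer (U : Set Γ))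
    (haU : a ∈ normalizer (U : Set Γ)) (hX0 : X ≤ normalizer (U₀ : Set Γ))
    (ha0 : a ∈ normalizer (U₀ : Set Γ)) :
    ∃ P : Subgroup Γ, P ≤ X ∧ X ≤ normalizer (P : Set Γ) ∧ (∃ k, P.relIndex X = 2 ^ k) ∧
      ∀ y ∈ P, ∃ i, ∀ v ∈ U, ⁅v, y ^ p ^ i⁆ ∈ U₀ := by
  haveI := Fact.mk h.hp
  set H := X ⊔ zpowers a with hH
  have hHU : H ≤ normalizer (U : Set Γ) := sup_le hXU (zpowers_le.2 haU)
  have hH0 : H ≤ normalizer (U₀ : Set Γ) := sup_le hX0 (zpowers_le.2 ha0)
  have hU0n : U ≤ normalizer (U₀ : Set Γ) := le_normalizer_of_conj_mem fun x hx y hy => by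
    rwa [h.Vcomm x (hUV hx) y (hUV (hU0le hy)), mul_inv_cancel_right]
  haveI hnor : (U₀.subgroupOf U).Normal := normal_subgroupOf_of_le_normalizer hU0n
  have hpres : ∀ x : H, (U₀.subgroupOf U).map
      ((U.normalizerMonoidHom ⟨x, hHU x.2⟩ : U ≃* U) : U →* U) = U₀.subgroupOf U := by
    intro x
    refine eq_of_le_of_card_ge ?_ (card_map_of_injective
      (U.normalizerMonoidHom ⟨x, hHU x.2⟩).injective).ge
    rintro _ ⟨y, hy, rfl⟩
    exact (mem_normalizer_iff.1 (hH0 x.2) y).1 hy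
  let φ : H →* MulAut (U ⧸ U₀.subgroupOf U) :=
    { toFun := fun x => QuotientGroup.congr _ _ (U.normalizerMonoidHom ⟨x, hHU x.2⟩) (hpres x)
      map_one' := MulEquiv.ext fun m => QuotientGroup.induction_on m fun y =>
        congrArg QuotientGroup.mk (Subtype.ext (by simp))
      map_mul' := fun x y => MulEquiv.ext fun m => QuotientGroup.induction_on m fun z =>
        congrArg QuotientGroup.mk (Subtype.ext (by simp [mul_assoc])) }
  have hφ : ∀ (x : H) (v : U), φ x (v : U ⧸ U₀.subgroupOf U) =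
      ((⟨(x : Γ) * v * (x : Γ)⁻¹, (mem_normalizer_iff.1 (hHU x.2) v).1 v.2⟩ : U) :
        U ⧸ U₀.subgroupOf U) := fun x v => rfl
  have hker : ∀ y : H, φ y = 1 → ∀ v ∈ U, ⁅v, (y : Γ)⁆ ∈ U₀ := by
    intro y hy v hv
    have h1 := hφ y ⟨v, hv⟩
    rw [hy, MulAut.one_apply, QuotientGroup.eq, mem_subgroupOf] at h1
    have h1' : v⁻¹ * ((y : Γ) * v * (y : Γ)⁻¹) ∈ U₀ := h1
    have h4 := Flavell20.A1.conj_mem_of_normalizer (hU0n hv) (inv_mem h1')
    have e : ⁅v, (y : Γ)⁆ = v * ((v⁻¹ * ((y : Γ) * v * (y : Γ)⁻¹))⁻¹) * v⁻¹ := by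
      simp [commutatorElement_def, mul_assoc]
    rw [e]
    exact h4
  let aH : H := ⟨a, mem_sup_right (mem_zpowers a)⟩
  set b := φ aH
  set X' := (X.subgroupOf H).map φ with hX'
  -- `a` has no fixed point on the factor
  have hfix : ∀ m : U ⧸ U₀.subgroupOf U, b m = m → m = 1 := by
    intro m
    induction m using QuotientGroup.induction_on with
    | H v =>
      intro hm
      rw [hφ, QuotientGroup.eq, mem_subgroupOf] at hm
      rw [QuotientGroup.eq_one_iff, mem_subgroupOf]
      let F : U₀ → U₀ := fun w => ⟨(a * w * a⁻¹)⁻¹ * w,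
        mul_mem (inv_mem (Flavell20.A1.conj_mem_of_normalizer (hH0 aH.2) w.2)) w.2⟩
      have hinj : Function.Injective F := by
        intro w w' he
        have he' : (a * (w : Γ) * a⁻¹)⁻¹ * w = (a * (w' : Γ) * a⁻¹)⁻¹ * w' := congrArg Subtype.val he
        refine Subtype.ext (inv_mul_eq_one.1 ?_)
        have hmem : (w : Γ)⁻¹ * w' ∈ V ⊓ centralizer ({a} : Set Γ) := by
          refine Subgroup.mem_inf.2
            ⟨V.mul_mem (V.inv_mem (hUV (hU0le w.2))) (hUV (hU0le w'.2)), ?_⟩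
          rw [mem_centralizer_singleton_iff]
          have e2 : a * ((w : Γ)⁻¹ * w') * a⁻¹ = (w : Γ)⁻¹ * w' := by
            have h1 : (w : Γ) * (w' : Γ)⁻¹ =
                (a * (w : Γ) * a⁻¹) * (a * (w' : Γ) * a⁻¹)⁻¹ := by
              have h2 : (w : Γ) = (a * (w : Γ) * a⁻¹) * ((a * (w' : Γ) * a⁻¹)⁻¹ * w') :=
                inv_mul_eq_iff_eq_mul.1 he'
              conv_lhs => rw [h2]
              simp [mul_assoc]
            have h3 := congrArg (·⁻¹) h1
            simp only [mul_inv_rev, inv_inv] at h3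
            have c1 : (w' : Γ) * (w : Γ)⁻¹ = (w : Γ)⁻¹ * w' :=
              h.Vcomm _ (hUV (hU0le w'.2)) _ (inv_mem (hUV (hU0le w.2)))
            rw [← c1]
            conv_rhs => rw [h3]
            group
          exact (mul_inv_eq_iff_eq_mul.1 e2).symm
        rw [h.fixV, mem_bot] at hmem
        exact hmem
      obtain ⟨w, hw⟩ := (Finite.injective_iff_surjective.1 hinj) ⟨_, hm⟩
      have hw' : (a * (w : Γ) * a⁻¹)⁻¹ * w = (a * (v : Γ) * a⁻¹)⁻¹ * v := congrArg Subtype.val hw
      have hmem : (v : Γ) * (w : Γ)⁻¹ ∈ V ⊓ centralizer ({a} : Set Γ) := by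
        refine Subgroup.mem_inf.2 ⟨V.mul_mem (hUV v.2) (V.inv_mem (hUV (hU0le w.2))), ?_⟩
        rw [mem_centralizer_singleton_iff]
        refine (mul_inv_eq_iff_eq_mul.1 ?_).symm
        have h2 : (v : Γ) = (a * (v : Γ) * a⁻¹) * ((a * (w : Γ) * a⁻¹)⁻¹ * w) :=
          inv_mul_eq_iff_eq_mul.1 hw'.symm
        conv_rhs => rw [h2]
        group
      rw [h.fixV, mem_bot, mul_inv_eq_one] at hmem
      exact hmem ▸ w.2
  have hneM : ∃ m : U ⧸ U₀.subgroupOf U, m ≠ 1 := by
    obtain ⟨v, hv, hv0⟩ := SetLike.exists_of_lt (lt_of_le_of_ne hU0le hU0)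
    exact ⟨((⟨v, hv⟩ : U) : U ⧸ U₀.subgroupOf U), fun e =>
      hv0 (mem_subgroupOf.1 ((QuotientGroup.eq_one_iff _).1 e))⟩
  have hb : orderOf b = r := by
    refine ((Nat.dvd_prime h.hr).1 ?_).resolve_left fun h1 => ?_
    · exact (orderOf_map_dvd φ aH).trans (by rw [← Subgroup.orderOf_coe]; exact h.orda.dvd)
    · obtain ⟨m, hm⟩ := hneM
      exact hm (hfix m (by rw [orderOf_eq_one_iff.1 h1, MulAut.one_apply]))
  have hbX : b ∈ normalizer (X' : Set (MulAut (U ⧸ U₀.subgroupOf U))) := by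
    refine mem_normalizer_of_map_le ?_
    rintro _ ⟨_, ⟨x, hx, rfl⟩, rfl⟩
    refine ⟨aH * x * aH⁻¹, ?_, by simp [b]⟩
    exact (mem_normalizer_iff.1 h.aX _).1 hx
  have hcardX : Nat.card X' ∣ Nat.card X := by
    refine (card_map_dvd (X.subgroupOf H) φ).trans ?_
    rw [Nat.card_congr (subgroupOfEquivOfLe le_sup_left).toEquiv]
  haveI : Finite ((U ⧸ U₀.subgroupOf U) ⋊[MonoidHom.id _] MulAut (U ⧸ U₀.subgroupOf U)) :=
    CoprimeActionAut.finite_semidirect _
  set ι : MulAut (U ⧸ U₀.subgroupOf U) →*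
      (U ⧸ U₀.subgroupOf U) ⋊[MonoidHom.id _] MulAut (U ⧸ U₀.subgroupOf U) := SemidirectProduct.inr
  set V' : Subgroup ((U ⧸ U₀.subgroupOf U) ⋊[MonoidHom.id _] MulAut (U ⧸ U₀.subgroupOf U)) :=
    SemidirectProduct.inl.range with hV'
  have hVn : V'.Normal := by
    rw [hV', SemidirectProduct.range_inl_eq_ker_rightHom]
    infer_instance
  have hcore : Core p r V' (X'.map ι) (ι b) :=
    { hp := h.hp, hp2 := h.hp2, hr := h.hr, hrp := h.hrp
      orda := by rw [orderOf_injective ι SemidirectProduct.inr_injective, hb]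
      Vne := by
        intro hbot
        obtain ⟨m, hm⟩ := hneM
        have := hbot.le (show SemidirectProduct.inl m ∈ V' from ⟨m, rfl⟩)
        exact hm (SemidirectProduct.inl_injective (by simpa using this))
      Vcomm := by
        rintro _ ⟨m, rfl⟩ _ ⟨m', rfl⟩
        induction m using QuotientGroup.induction_on with
        | H x =>
          induction m' using QuotientGroup.induction_on with
          | H y =>
            rw [← map_mul, ← map_mul, ← QuotientGroup.mk_mul, ← QuotientGroup.mk_mul]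
            exact congrArg _ (congrArg _ (Subtype.ext (h.Vcomm x (hUV x.2) y (hUV y.2))))
      Vexp := by
        rintro _ ⟨m, rfl⟩
        induction m using QuotientGroup.induction_on with
        | H x =>
          rw [← map_pow, ← QuotientGroup.mk_pow]
          have : x ^ p = 1 := Subtype.ext (h.Vexp x (hUV x.2))
          rw [this, QuotientGroup.mk_one, map_one]
      aX := by
        refine mem_normalizer_of_map_le ?_
        rintro _ ⟨_, ⟨x, hx, rfl⟩, rfl⟩
        exact ⟨b * x * b⁻¹, (mem_normalizer_iff.1 hbX x).1 hx, by simp⟩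
      aV := by rw [normalizer_eq_top_iff.2 hVn]; trivial
      XV := by rw [normalizer_eq_top_iff.2 hVn]; exact le_top
      faith := by
        rw [eq_bot_iff]
        rintro _ ⟨⟨x, -, rfl⟩, hc⟩
        have hx1 : x = 1 := MulEquiv.ext fun m => by
          have h7 := mem_centralizer_iff.1 hc (SemidirectProduct.inl m) ⟨m, rfl⟩
          have h8 := congrArg SemidirectProduct.left h7
          simpa [ι] using h8.symm
        simp [hx1]
      fixV := by
        rw [eq_bot_iff]
        rintro _ ⟨⟨m, rfl⟩, hc⟩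
        have h7 := mem_centralizer_singleton_iff.1 hc
        have h8 := congrArg SemidirectProduct.left h7
        simp only [ι, SemidirectProduct.mul_left, SemidirectProduct.left_inl,
          SemidirectProduct.right_inl, SemidirectProduct.left_inr, SemidirectProduct.right_inr,
          map_one, MulAut.one_apply, mul_one, one_mul, MonoidHom.id_apply] at h8
        simp [hfix m h8.symm]
      rX := fun hd => h.rX (by
        rw [card_map_of_injective SemidirectProduct.inr_injective] at hd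
        exact hd.trans hcardX) }
  have hV'card : Nat.card V' = U₀.relIndex U := by
    rw [hV', Nat.card_congr (MonoidHom.ofInjective SemidirectProduct.inl_injective).toEquiv.symm]
    rfl
  obtain ⟨P', -, hP'p, hP'n, k, hk⟩ := hind _ V' (X'.map ι) (ι b) hcore (Or.inr
    ⟨by rw [card_map_of_injective SemidirectProduct.inr_injective]
        exact Nat.le_of_dvd Nat.card_pos hcardX, hV'card ▸ hlt⟩)
  -- `[X', b] = X'`
  set ψ := ι.comp φ with hψ
  have hX2 : ⁅X'.map ι, zpowers (ι b)⁆ = (X.subgroupOf H).map ψ := by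
    have h1 : ⁅X.subgroupOf H, zpowers aH⁆ = X.subgroupOf H := by
      refine map_injective H.subtype_injective ?_
      rw [map_commutator, MonoidHom.map_zpowers, map_subgroupOf_eq_of_le (le_sup_left : X ≤ H)]
      exact hcomm
    conv_rhs => rw [← h1, map_commutator, MonoidHom.map_zpowers]
    rw [hX', map_map]
    rfl
  rw [hX2] at hP'n hk
  set P₀ := P'.comap ψ ⊓ X.subgroupOf H
  refine ⟨P₀.map H.subtype, ?_, ?_, ⟨k, ?_⟩, ?_⟩
  · rintro _ ⟨y, hy, rfl⟩
    exact hy.2
  · refine le_normalizer_of_conj_mem fun x hx y hy => ?_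
    obtain ⟨y, ⟨hy1, hy2⟩, rfl⟩ := hy
    let xH : H := ⟨x, mem_sup_left hx⟩
    refine ⟨xH * y * xH⁻¹, ⟨?_, mem_subgroupOf.2 (mul_mem (mul_mem hx (mem_subgroupOf.1 hy2))
      (inv_mem hx))⟩, rfl⟩
    show ψ (xH * y * xH⁻¹) ∈ P'
    rw [map_mul, map_mul, map_inv]
    exact Flavell20.A1.conj_mem_of_normalizer (hP'n ⟨xH, hx, rfl⟩) hy1
  · rw [← hk]
    nth_rewrite 1 [← map_subgroupOf_eq_of_le (le_sup_left : X ≤ H)]
    rw [relIndex_map_map_of_injective _ _ H.subtype_injective, inf_relIndex_right, relIndex_comap]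
  · rintro _ ⟨y, hy, rfl⟩
    obtain ⟨i, hi⟩ := hP'p ⟨ψ y, hy.1⟩
    refine ⟨i, fun v hv => ?_⟩
    have h1 : ψ (y ^ p ^ i) = 1 := by rw [map_pow]; simpa using congrArg Subtype.val hi
    have h2 : φ (y ^ p ^ i) = 1 := SemidirectProduct.inr_injective (h1.trans (map_one ι).symm)
    have h3 := hker _ h2 v hv
    simpa using h3

/-- No proper non-trivial invariant subgroup of `V`. -/
theorem irr_of_ind (h : Core p r V X a) (hind : HInd.{u} p r (Nat.card X) (Nat.card V))
    (hcomm : ⁅X, zpowers a⁆ = X) (hnot : ¬ Nice p X a) (U : Subgroup Γ) (hUV : U ≤ V)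
    (hXU : X ≤ normalizer (U : Set Γ)) (haU : a ∈ normalizer (U : Set Γ)) : U = ⊥ ∨ U = V := by
  by_contra hcon
  rw [not_or] at hcon
  obtain ⟨hne, hneV⟩ := hcon
  haveI := Fact.mk h.hp
  have htriv : ∀ g : Γ, g ∈ normalizer ((⊥ : Subgroup Γ) : Set Γ) := fun g => by
    rw [normalizer_eq_top_iff.2 inferInstance]; trivial
  have hlt1 : (⊥ : Subgroup Γ).relIndex U < Nat.card V := by
    rw [relIndex_bot_left]
    exact lt_of_le_of_ne (card_le_of_le hUV) fun e => hneV (eq_of_le_of_card_ge hUV e.ge)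
  have hlt2 : U.relIndex V < Nat.card V := by
    have h1 := card_mul_index (U.subgroupOf V)
    rw [Nat.card_congr (subgroupOfEquivOfLe hUV).toEquiv] at h1
    have h2 : 1 < Nat.card U := (Subgroup.one_lt_card_iff_ne_bot U).2 hne
    have h3 : 0 < U.relIndex V := Nat.pos_of_ne_zero index_ne_zero_of_finite
    rw [← h1]
    exact lt_mul_of_one_lt_left h3 h2
  obtain ⟨P₁, hP₁, hn₁, ⟨k₁, hk₁⟩, hp₁⟩ := section_nice h hind hcomm hUV bot_le (Ne.symm hne) hlt1
    hXU haU (fun g _ => htriv g) (htriv a)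
  obtain ⟨P₂, hP₂, hn₂, ⟨k₂, hk₂⟩, hp₂⟩ := section_nice h hind hcomm le_rfl hUV hneV hlt2 h.XV h.aV
    hXU haU
  apply hnot
  haveI : (P₂.subgroupOf X).Normal := normal_subgroupOf_of_le_normalizer hn₂
  have hidx : (P₁ ⊓ P₂).relIndex X ∣ 2 ^ (k₁ + k₂) := by
    rw [← relIndex_mul_relIndex (P₁ ⊓ P₂) P₁ X inf_le_left hP₁, inf_comm, inf_relIndex_right, hk₁,
      pow_add, mul_comm]
    refine mul_dvd_mul_left _ ?_
    rw [← hk₂, ← relIndex_subgroupOf (H := P₂) hP₁]
    exact relIndex_dvd_index_of_normal _ _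
  obtain ⟨k, -, hk⟩ := (Nat.dvd_prime_pow Nat.prime_two).1 hidx
  refine ⟨P₁ ⊓ P₂, hcomm.symm ▸ inf_le_left.trans hP₁, ?_,
    hcomm.symm ▸ le_normalizer_inf hn₁ hn₂, k, hcomm.symm ▸ hk⟩
  rintro ⟨y, hy1, hy2⟩
  obtain ⟨i, hi⟩ := hp₁ y hy1
  obtain ⟨j, hj⟩ := hp₂ y hy2
  refine ⟨i + j + 1, Subtype.ext ?_⟩
  rw [SubmonoidClass.coe_pow, OneMemClass.coe_one]
  show y ^ p ^ (i + j + 1) = 1
  set z := y ^ p ^ i with hz
  set z' := z ^ p ^ j with hz'
  have hzU : ∀ u ∈ U, Commute u z := fun u hu =>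
    commutatorElement_eq_one_iff_mul_comm.1 (by simpa using hi u hu)
  have hw : ∀ v ∈ V, ⁅v, z'⁆ ∈ U := by
    intro v hv
    have hy'' : z' = (y ^ p ^ j) ^ p ^ i := by
      rw [hz', hz, ← pow_mul, ← pow_mul, mul_comm]
    rw [hy'']
    generalize p ^ i = n
    induction n with
    | zero => simp
    | succ n ihn =>
      rw [pow_succ, show ⁅v, (y ^ p ^ j) ^ n * (y ^ p ^ j)⁆ = ⁅v, (y ^ p ^ j) ^ n⁆ *
        ((y ^ p ^ j) ^ n * ⁅v, y ^ p ^ j⁆ * ((y ^ p ^ j) ^ n)⁻¹) by
          simp [commutatorElement_def, mul_assoc]]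
      exact mul_mem ihn (Flavell20.A1.conj_mem_of_normalizer
        (pow_mem (pow_mem (hXU (hP₁ hy1)) _) _) (hj v hv))
  have hpow : z' ^ p = 1 := by
    have hmem : z' ^ p ∈ X ⊓ centralizer (V : Set Γ) := by
      refine ⟨pow_mem (pow_mem (pow_mem (hP₁ hy1) _) _) _, mem_centralizer_iff.2 fun v hv => ?_⟩
      set w := ⁅v, z'⁆ with hwdef
      have hwU : w ∈ U := hw v hv
      have hwc : Commute w z' := (hzU w hwU).pow_right _
      have hit : ∀ n : ℕ, z' ^ n * v * (z' ^ n)⁻¹ = (w⁻¹) ^ n * v := by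
        intro n
        induction n with
        | zero => simp
        | succ n ihn =>
          calc z' ^ (n + 1) * v * (z' ^ (n + 1))⁻¹ = z' * (z' ^ n * v * (z' ^ n)⁻¹) * z'⁻¹ := by
                rw [pow_succ']; group
            _ = (z' * (w⁻¹) ^ n * z'⁻¹) * (z' * v * z'⁻¹) := by rw [ihn]; group
            _ = (w⁻¹) ^ n * (w⁻¹ * v) := by
                rw [((hwc.symm.inv_right).pow_right n).eq, mul_inv_cancel_right]
                congr 1
                simp [hwdef, commutatorElement_def, mul_assoc]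
            _ = _ := by rw [← mul_assoc, ← pow_succ]
      have h1 := hit p
      rw [inv_pow, h.Vexp w (hUV hwU), inv_one, one_mul] at h1
      exact (mul_inv_eq_iff_eq_mul.1 h1).symm
    rwa [h.faith, mem_bot] at hmem
  rw [← hpow, hz', hz, ← pow_mul, ← pow_mul, pow_succ, pow_add, mul_assoc]

/-- The largest normal `2`-subgroup. -/
abbrev twoCore (N : Subgroup Γ) : Subgroup Γ := (Cfsg.pCore 2 N).map N.subtype

theorem inv_twoCore {N : Subgroup Γ} {g : Γ} (hg : g ∈ normalizer (N : Set Γ)) :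
    g ∈ normalizer (twoCore N : Set Γ) := Flavell20.A1.normalizer_pCore_map hg

theorem pcore_inv {N : Subgroup Γ} {g : Γ} (hp : p.Prime) (hg : g ∈ normalizer (N : Set Γ)) :
    g ∈ normalizer ((Cfsg.pCore p N).map N.subtype : Set Γ) :=
  ComponentsCores.normalizer_le_normalizer_map_subtype N _ hg

/-- No normal `p`-subgroup. -/
theorem op_of_ind (h : Core p r V X a) (hirr : ∀ U : Subgroup Γ, U ≤ V →
      X ≤ normalizer (U : Set Γ) → a ∈ normalizer (U : Set Γ) → U = ⊥ ∨ U = V)
    (Q : Subgroup Γ) (hQ : Q ≤ X) (hQp : IsPGroup p Q) (hQn : X ≤ normalizer (Q : Set Γ)) :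
    Q = ⊥ := by
  haveI := Fact.mk h.hp
  set R := (Cfsg.pCore p X).map X.subtype with hR
  have hRX : R ≤ X := map_subtype_le _
  have hQR : Q ≤ R := fun x hx => by
    haveI : (Q.subgroupOf X).Normal := normal_subgroupOf_of_le_normalizer hQn
    exact ⟨⟨x, hQ hx⟩, ComponentsCores.le_pCore' (N := Q.subgroupOf X) hQp.comap_subtype hx, rfl⟩
  have hVp : IsPGroup p V := fun v => ⟨1, Subtype.ext (by
    rw [pow_one, SubmonoidClass.coe_pow]; exact h.Vexp v v.2)⟩
  have hlt : ⁅V, R⁆ < V := CharTwoLocal.commutator_lt hVp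
    ((ComponentsCores.isPGroup_pCore p).map _) (hRX.trans h.XV) h.Vne
  rcases hirr ⁅V, R⁆ hlt.le
      (CoprimeTools.le_normalizer_commutator_of_le h.XV fun x hx => pcore_inv h.hp (le_normalizer hx))
      (CharTwoLocal.mem_normalizer_commutator h.aV (pcore_inv h.hp h.aX)) with e | e
  · rw [eq_bot_iff, ← h.faith]
    exact le_inf hQ (hQR.trans (le_centralizer_iff.1 (commutator_eq_bot_iff_le_centralizer.1 e)))
  · exact absurd e hlt.ne

section minimal

variable (h : Core p r V X a)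
  (hmin : ∀ H : Subgroup Γ, H ≤ X → H ≠ X → a ∈ normalizer (H : Set Γ) → Nice p H a)
  (hop : ∀ Q : Subgroup Γ, Q ≤ X → IsPGroup p Q → X ≤ normalizer (Q : Set Γ) → Q = ⊥)
  (hcomm : ⁅X, zpowers a⁆ = X) (hnot : ¬ Nice p X a)

include h hmin hop hcomm hnot

theorem normal_two {N : Subgroup Γ} (hN : N ≤ X) (hne : N ≠ X)
    (hn : X ≤ normalizer (N : Set Γ)) (ha : a ∈ normalizer (N : Set Γ)) :
    ⁅N, zpowers a⁆ ≤ twoCore N := by
  haveI := Fact.mk h.hp
  obtain ⟨P, hPK, hPp, hPn, k, hk⟩ := hmin N hN hne ha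
  obtain ⟨hall, hnorm⟩ := nice_facts h.hp h.hp2 hPK hPp hPn hk
  have hKn := (inv_comm h (K := N)).2
  have hPN : P ≤ N := hPK.trans (comm_le h ha)
  have hNP : N ≤ normalizer (P : Set Γ) := fun x hx => hnorm x (hKn hx)
  have hP : P = ⊥ := by
    have h1 : P ≤ (Cfsg.pCore p N).map N.subtype := fun x hx => by
      haveI : (P.subgroupOf N).Normal := normal_subgroupOf_of_le_normalizer hNP
      exact ⟨⟨x, hPN hx⟩, ComponentsCores.le_pCore' (N := P.subgroupOf N) hPp.comap_subtype hx, rfl⟩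
    exact le_bot_iff.1 (h1.trans (hop _ ((map_subtype_le _).trans hN)
      ((ComponentsCores.isPGroup_pCore p).map _) fun x hx => pcore_inv h.hp (hn hx)).le)
  rw [hP, relIndex_bot_left] at hk
  haveI : Fact (Nat.Prime 2) := ⟨Nat.prime_two⟩
  exact CharTwoLocal.le_pCore_map (IsPGroup.of_card hk) (comm_le h ha) hKn

theorem two_ne : twoCore X ≠ X := by
  intro e
  refine hnot (nice_of_two ?_)
  rw [hcomm, ← e]
  exact CharTwoLocal.isPGroup_pCore_map X

/-- A `p`-group cannot extend the largest normal `2`-subgroup to the whole group. -/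
theorem sup_two_ne {S : Subgroup Γ} (hS : S ≤ X) (hSp : IsPGroup p S)
    (haS : a ∈ normalizer (S : Set Γ)) : twoCore X ⊔ S ≠ X := by
  intro htop
  haveI := Fact.mk h.hp
  haveI : Fact (Nat.Prime 2) := ⟨Nat.prime_two⟩
  set E := twoCore X with hE
  have hEX : E ≤ X := map_subtype_le _
  have hE2 : IsPGroup 2 E := CharTwoLocal.isPGroup_pCore_map X
  have haE : a ∈ normalizer (E : Set Γ) := inv_twoCore h.aX
  have hXE : X ≤ normalizer (E : Set Γ) := fun x hx => inv_twoCore (le_normalizer hx)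
  have hSE := hS.trans hXE
  set S' := ⁅S, zpowers a⁆ with hS'
  have hS'le : S' ≤ S := comm_le h haS
  -- `X = E S'`
  have hgen : S' = S := by
    have hle : X ≤ E ⊔ S' := by
      conv_lhs => rw [← hcomm, ← htop]
      rw [commutator_le]
      intro x hx g hg
      rw [← SetLike.mem_coe, coe_mul_of_right_le_normalizer_left E S hSE] at hx
      obtain ⟨e, he, s, hs, rfl⟩ := hx
      have h1 : ⁅s, g⁆ ∈ E ⊔ S' := mem_sup_right (commutator_mem_commutator hs hg)
      have h2 : ⁅e, g⁆ ∈ E ⊔ S' := mem_sup_left (comm_le h haE (commutator_mem_commutator he hg))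
      have he' : e ∈ E ⊔ S' := mem_sup_left he
      rw [show ⁅e * s, g⁆ = e * ⁅s, g⁆ * e⁻¹ * ⁅e, g⁆ by simp [commutatorElement_def, mul_assoc]]
      exact mul_mem (mul_mem (mul_mem he' h1) (inv_mem he')) h2
    refine le_antisymm hS'le fun s hs => ?_
    have h1 : s ∈ ((E ⊔ S' : Subgroup Γ) : Set Γ) := hle (hS hs)
    rw [coe_mul_of_right_le_normalizer_left E S' (hS'le.trans hSE)] at h1
    obtain ⟨e, he, t, ht, rfl⟩ := h1
    have he1 : e = 1 := eq_one_of_coprime Nat.prime_two h.hp (Ne.symm h.hp2) hE2 hSp he (by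
      simpa using mul_mem hs (inv_mem (hS'le ht)))
    subst he1
    show (1 : Γ) * t ∈ S'
    rwa [one_mul]
  have hfaith : S ⊓ centralizer (E : Set Γ) = ⊥ := by
    refine hop _ (inf_le_left.trans hS) (hSp.to_le inf_le_left) ?_
    nth_rewrite 1 [← htop]
    refine sup_le (le_normalizer_of_conj_mem fun e he y hy => ?_)
      (le_normalizer_inf le_normalizer (CoprimeTools.le_normalizer_centralizer_of_le hSE))
    rw [mem_centralizer_iff.1 hy.2 e he, mul_inv_cancel_right]
    exact hy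
  have hprop : ∀ N : Subgroup Γ, N ≤ E → N ≠ E → a ∈ normalizer (N : Set Γ) →
      S ≤ normalizer (N : Set Γ) → N ≤ centralizer (S : Set Γ) := by
    intro N hN hne haN hSN
    have hLX : N ⊔ S ≤ X := sup_le (hN.trans hEX) hS
    have hLne : N ⊔ S ≠ X := by
      intro e
      refine hne (le_antisymm hN fun x hx => ?_)
      have h1 : x ∈ ((N ⊔ S : Subgroup Γ) : Set Γ) := e.ge (hEX hx)
      rw [coe_mul_of_right_le_normalizer_left N S hSN] at h1
      obtain ⟨n, hn, s, hs, rfl⟩ := h1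
      have hs1 : s = 1 := eq_one_of_coprime Nat.prime_two h.hp (Ne.symm h.hp2) hE2 hSp (by
        simpa using mul_mem (inv_mem (hN hn)) hx) hs
      subst hs1
      show n * 1 ∈ N
      rwa [mul_one]
    have haL : a ∈ normalizer ((N ⊔ S : Subgroup Γ) : Set Γ) := mem_normalizer_of_map_le (by
      rw [Subgroup.map_sup]
      exact sup_le_sup (conj_map_le haN le_rfl) (conj_map_le haS le_rfl))
    obtain ⟨P, hPK, hPp, hPn, k, hk⟩ := hmin _ hLX hLne haL
    obtain ⟨hall, hnorm⟩ := nice_facts h.hp h.hp2 hPK hPp hPn hk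
    have hSP : S ≤ P := by
      refine hall S ?_ hSp
      calc S = ⁅S, zpowers a⁆ := hgen.symm
        _ ≤ _ := commutator_mono le_sup_right le_rfl
    intro n hn
    rw [mem_centralizer_iff]
    intro s hs
    refine (commutatorElement_eq_one_iff_mul_comm.1 ?_).symm
    refine eq_one_of_coprime Nat.prime_two h.hp (Ne.symm h.hp2) (hE2.to_le hN) hPp ?_ ?_ (x := ⁅n, s⁆)
    · exact Flavell20.A1.comm_mem_of_normalizer (hSN hs) hn
    · rw [commutatorElement_def]
      exact mul_mem (Flavell20.A1.conj_mem_of_normalizer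
        (hnorm n ((inv_comm h (K := N ⊔ S)).2 (mem_sup_left hn))) (hSP hs)) (inv_mem (hSP hs))
  have hS1 := moved_trivial h (facts h) hS haS hSp hgen hEX haE hSE hE2 hfaith hprop
  rw [hS1, sup_bot_eq] at htop
  exact two_ne h hmin hop hcomm hnot htop

theorem not_solvable_min : ¬ Group.IsSolvable X := by
  intro hsol
  haveI := hsol
  haveI := Fact.mk h.hp
  set E := twoCore X with hE
  set π := QuotientGroup.mk' (Cfsg.pCore 2 X) with hπ
  haveI := HallCore.pCore_normal 2 ↥X
  have hπs : Function.Surjective π := QuotientGroup.mk'_surjective _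
  set D := ⁅X, X⁆ with hD
  have hDX : D ≤ X := X.commutator_le_self
  set M := D ⊔ E with hM
  have hEX : E ≤ X := map_subtype_le _
  have hMX : M ≤ X := sup_le hDX hEX
  have hXE : X ≤ normalizer (E : Set Γ) := fun x hx => inv_twoCore (le_normalizer hx)
  have haE : a ∈ normalizer (E : Set Γ) := inv_twoCore h.aX
  have hDmap : ∀ x : X, (x : Γ) ∈ M → π x ∈ commutator (X ⧸ Cfsg.pCore 2 X) := by
    intro x hx
    have h1 : M ≤ ((commutator (X ⧸ Cfsg.pCore 2 X)).comap π).map X.subtype := by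
      refine sup_le ?_ ?_
      · rw [hD, commutator_le]
        intro x hx y hy
        refine ⟨⁅(⟨x, hx⟩ : X), ⟨y, hy⟩⁆, ?_, rfl⟩
        rw [SetLike.mem_coe, mem_comap, map_commutatorElement, _root_.commutator_def]
        exact commutator_mem_commutator (mem_top _) (mem_top _)
      · rintro _ ⟨y, hy, rfl⟩
        refine ⟨y, ?_, rfl⟩
        rw [SetLike.mem_coe, mem_comap, show π y = 1 from (QuotientGroup.eq_one_iff y).2 hy]
        exact one_mem _
    obtain ⟨y, hy, e⟩ := h1 hx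
    rw [← Subtype.ext e (a1 := y) (a2 := x)]
    exact hy
  have hMne : M ≠ X := by
    intro e
    haveI : Group.IsSolvable (X ⧸ Cfsg.pCore 2 X) := Group.isSolvable_of_surjective hπs
    have htop : commutator (X ⧸ Cfsg.pCore 2 X) = ⊤ := by
      refine eq_top_iff.2 fun q _ => ?_
      obtain ⟨x, rfl⟩ := hπs q
      exact hDmap x (e.symm ▸ x.2)
    rcases subsingleton_or_nontrivial (X ⧸ Cfsg.pCore 2 X) with hs | hnt
    · refine two_ne h hmin hop hcomm hnot (le_antisymm hEX fun x hx => ⟨⟨x, hx⟩, ?_, rfl⟩)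
      exact (QuotientGroup.eq_one_iff _).1 (Subsingleton.elim (π ⟨x, hx⟩) 1)
    · exact (Group.IsSolvable.commutator_lt_top_of_nontrivial (G := X ⧸ Cfsg.pCore 2 X)).ne htop
  have hMn : X ≤ normalizer (M : Set Γ) := le_normalizer_of_conj_mem fun x hx m hm => by
    have h1 : ⁅x, m⁆ ∈ M := mem_sup_left (commutator_mem_commutator hx (hMX hm))
    rw [show x * m * x⁻¹ = ⁅x, m⁆ * m by simp [commutatorElement_def, mul_assoc]]
    exact mul_mem h1 hm
  have haM : a ∈ normalizer (M : Set Γ) := mem_normalizer_of_map_le (by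
    rw [hM, Subgroup.map_sup]
    exact sup_le_sup (conj_map_le (Flavell20.A1.mem_normalizer_commutator h.aX h.aX) le_rfl)
      (conj_map_le haE le_rfl))
  have hMa : ⁅M, zpowers a⁆ ≤ E := by
    refine (normal_two h hmin hop hcomm hnot hMX hMne hMn haM).trans ?_
    exact CharTwoLocal.le_pCore_map (CharTwoLocal.isPGroup_pCore_map M)
      ((map_subtype_le _).trans hMX) fun x hx => inv_twoCore (hMn hx)
  -- `M` is central modulo `E`
  have hcen : ∀ x ∈ X, ∀ m ∈ M, ⁅x, m⁆ ∈ E := by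
    intro x hx m hm
    have hMN : M ≤ normalizer (E : Set Γ) := hMX.trans hXE
    let a' : normalizer (E : Set Γ) := ⟨a, haE⟩
    have hEA : ⁅img E X, zpowers (prj E a')⁆ = img E X := by
      have h1 : ⁅X.subgroupOf (normalizer (E : Set Γ)), zpowers a'⁆ =
          X.subgroupOf (normalizer (E : Set Γ)) := by
        refine map_injective (normalizer (E : Set Γ)).subtype_injective ?_
        rw [map_commutator, MonoidHom.map_zpowers, map_subgroupOf_eq_of_le hXE]
        exact hcomm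
      conv_rhs => rw [img, ← h1, map_commutator, MonoidHom.map_zpowers]
      rfl
    have hfix : img E M ≤ centralizer ({prj E a'} : Set (Quo E)) := by
      intro q hq
      obtain ⟨y, hy, rfl⟩ := mem_img.1 hq
      rw [mem_centralizer_singleton_iff]
      exact prj_comm.2 (hMa (commutator_mem_commutator hy (mem_zpowers a)))
    have h2 := Flavell20.A1.le_centralizer_of_fixed hEA (img_le_normalizer hMn) hfix
      (prj_mem_img (x := ⟨m, hMN hm⟩) hm)
    exact (prj_comm (x := ⟨x, hXE hx⟩) (y := ⟨m, hMN hm⟩)).1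
      (mem_centralizer_iff.1 h2 _ (prj_mem_img (x := ⟨x, hXE hx⟩) hx))
  -- so `X / E` is nilpotent
  haveI hnilQ : Group.IsNilpotent (X ⧸ Cfsg.pCore 2 X) := by
    have hle : commutator (X ⧸ Cfsg.pCore 2 X) ≤ center (X ⧸ Cfsg.pCore 2 X) := by
      rw [_root_.commutator_def, commutator_le]
      intro q _ q' _
      obtain ⟨x, rfl⟩ := hπs q
      obtain ⟨y, rfl⟩ := hπs q'
      rw [mem_center_iff]
      intro g
      obtain ⟨z, rfl⟩ := hπs g
      rw [← map_commutatorElement, ← map_mul, ← map_mul]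
      refine QuotientGroup.eq.2 ?_
      have h1 := hcen z z.2 ⁅(x : Γ), (y : Γ)⁆ (mem_sup_left (commutator_mem_commutator x.2 y.2))
      obtain ⟨e, he, hee⟩ := h1
      have : (z * ⁅x, y⁆)⁻¹ * (⁅x, y⁆ * z) = ⁅x, y⁆⁻¹ * z⁻¹ * (e⁻¹ * z * ⁅x, y⁆) := by
        have he' : e = ⁅z, ⁅x, y⁆⁆ := Subtype.ext (hee.trans (by simp [commutatorElement_def]))
        rw [he']
        simp [commutatorElement_def, mul_assoc]
      rw [this, show ⁅x, y⁆⁻¹ * z⁻¹ * (e⁻¹ * z * ⁅x, y⁆) =
        (z * ⁅x, y⁆)⁻¹ * e⁻¹ * (z * ⁅x, y⁆)⁻¹⁻¹ by group]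
      exact (HallCore.pCore_normal 2 ↥X).conj_mem _ (inv_mem he) _
    haveI : (commutator (X ⧸ Cfsg.pCore 2 X)).Normal := inferInstance
    letI : CommGroup ((X ⧸ Cfsg.pCore 2 X) ⧸ commutator (X ⧸ Cfsg.pCore 2 X)) :=
      inferInstanceAs (CommGroup (Abelianization (X ⧸ Cfsg.pCore 2 X)))
    exact Subgroup.isNilpotent_of_ker_le_center
      (QuotientGroup.mk' (commutator (X ⧸ Cfsg.pCore 2 X))) (by rw [QuotientGroup.ker_mk']; exact hle)
  have hsylN : ∀ {q : ℕ} [Fact q.Prime] (P : Sylow q (X ⧸ Cfsg.pCore 2 X)),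
      (P : Subgroup (X ⧸ Cfsg.pCore 2 X)).Normal := fun {q} _ P =>
    Sylow.normal_of_normalizerCondition
      normalizerCondition_of_isNilpotent P
  -- Sylow subgroups of `X` give normal subgroups
  have hsylX : ∀ {q : ℕ} [Fact q.Prime] {Q : Subgroup Γ}, ISyl q X Q a →
      ∀ x ∈ X, ∀ y ∈ E ⊔ Q, x * y * x⁻¹ ∈ E ⊔ Q := by
    intro q _ Q hQ x hx y hy
    obtain ⟨Q', hQ'⟩ := exists_sylow_map_eq hQ.le hQ.card
    haveI := hsylN (Q'.mapSurjective hπs)
    have hcm : ((Q'.mapSurjective hπs : Sylow q _) : Subgroup _).comap π =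
        (Q' : Subgroup X) ⊔ Cfsg.pCore 2 X := by
      rw [Sylow.coe_mapSurjective, comap_map_eq, hπ, QuotientGroup.ker_mk']
    have hsup : ((Q' : Subgroup X) ⊔ Cfsg.pCore 2 X).map X.subtype = E ⊔ Q := by
      rw [Subgroup.map_sup, hQ', sup_comm]
    rw [← hsup, ← hcm] at hy ⊢
    obtain ⟨y, hy, rfl⟩ := hy
    exact ⟨⟨x, hx⟩ * y * ⟨x, hx⟩⁻¹,
      (inferInstance : (((Q'.mapSurjective hπs : Sylow q _) : Subgroup _).comap π).Normal).conj_mem
        y hy _, rfl⟩
  haveI : Fact (Nat.Prime 2) := ⟨Nat.prime_two⟩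
  obtain ⟨S, hS⟩ := exists_iSyl h le_rfl h.aX p
  refine sup_two_ne h hmin hop hcomm hnot hS.le hS.pgrp hS.inv ?_
  have haF : a ∈ normalizer ((E ⊔ S : Subgroup Γ) : Set Γ) := mem_normalizer_of_map_le (by
    rw [Subgroup.map_sup]
    exact sup_le_sup (conj_map_le haE le_rfl) (conj_map_le hS.inv le_rfl))
  set F := E ⊔ S with hF
  have hFX : F ≤ X := sup_le hEX hS.le
  set C := X ⊓ centralizer ({a} : Set Γ) with hC
  have hFn : X ≤ normalizer (F : Set Γ) := le_normalizer_of_conj_mem fun x hx y hy => hsylX hS x hx y hy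
  -- `F C = X`
  have hall : ∀ q : ℕ, q.Prime → ∀ Q : Subgroup Γ, ISyl q X Q a → Q ≤ F ⊔ C := by
    intro q hq Q hQ
    haveI := Fact.mk hq
    by_cases hqp : q = p
    · subst hqp
      obtain ⟨c, hc, rfl⟩ := iSyl_conj h le_rfl h.aX hS hQ
      rintro _ ⟨s, hs, rfl⟩
      show c * s * c⁻¹ ∈ F ⊔ C
      exact mem_sup_left (Flavell20.A1.conj_mem_of_normalizer (hFn hc.1) (mem_sup_right hs))
    by_cases hq2 : q = 2
    · subst hq2
      have hEQ : IsPGroup 2 (E ⊔ Q : Subgroup Γ) :=
        (CharTwoLocal.isPGroup_pCore_map X).to_sup_of_normal_left' hQ.pgrp (hQ.le.trans hXE)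
      have hle : E ⊔ Q ≤ E := CharTwoLocal.le_pCore_map hEQ (sup_le hEX hQ.le)
        (le_normalizer_of_conj_mem fun x hx y hy => hsylX hQ x hx y hy)
      exact (le_sup_right.trans hle).trans (le_sup_left.trans le_sup_left)
    · exact (le_inf hQ.le ((facts h).oddFix q hq hq2 hqp Q hQ.le hQ.inv hQ.pgrp)).trans le_sup_right
  have hFC : F ⊔ C = X := by
    refine le_antisymm (sup_le hFX inf_le_left) (relIndex_eq_one.1 ?_)
    by_contra hne
    obtain ⟨q, hq, hqd⟩ := Nat.exists_prime_and_dvd hne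
    haveI := Fact.mk hq
    obtain ⟨Q, hQ⟩ := exists_iSyl h le_rfl h.aX q
    have hd : Nat.card Q * (F ⊔ C).relIndex X ∣ Nat.card X := by
      have h1 := card_mul_index ((F ⊔ C).subgroupOf X)
      rw [Nat.card_congr (subgroupOfEquivOfLe (sup_le hFX inf_le_left : F ⊔ C ≤ X)).toEquiv] at h1
      rw [← h1]
      exact mul_dvd_mul_right (card_dvd_of_le (hall q hq Q hQ)) _
    have h2 : q ^ ((Nat.card X).factorization q + 1) ∣ Nat.card X := by
      rw [pow_succ, ← hQ.card]; exact (mul_dvd_mul_left _ hqd).trans hd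
    have h3 := (hq.pow_dvd_iff_le_factorization Nat.card_pos.ne').1 h2
    omega
  refine le_antisymm hFX ?_
  conv_lhs => rw [← hcomm, ← hFC]
  rw [commutator_le]
  intro x hx g hg
  rw [sup_comm, ← SetLike.mem_coe,
    coe_mul_of_left_le_normalizer_right C F ((inf_le_left : C ≤ X).trans hFn)] at hx
  obtain ⟨c, hc, f, hf, rfl⟩ := hx
  have hgc : g * c⁻¹ * g⁻¹ = c⁻¹ := by
    have h1 : c⁻¹ ∈ centralizer (zpowers a : Set Γ) :=
      centralizer_zpowers a ▸ inv_mem hc.2
    rw [mem_centralizer_iff.1 h1 g hg, mul_inv_cancel_right]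
  rw [show ⁅c * f, g⁆ = c * (f * (g * f⁻¹ * g⁻¹)) * (g * c⁻¹ * g⁻¹) by
    rw [commutatorElement_def]; group, hgc]
  exact Flavell20.A1.conj_mem_of_normalizer (hFn hc.1)
    (mul_mem hf (Flavell20.A1.conj_mem_of_normalizer (zpowers_le.2 haF hg) (inv_mem hf)))

/-- If the Sylow `p`-subgroup is fixed, the group is solvable (Kazarin). -/
theorem solvable_of_fixed {S : Subgroup Γ} (hS : ISyl p X S a)
    (hfix : ⁅S, zpowers a⁆ = ⊥) : Group.IsSolvable X := by
  haveI := Fact.mk h.hp
  set C := X ⊓ centralizer ({a} : Set Γ) with hC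
  have hSC : S ≤ C := le_inf hS.le (by
    rw [← centralizer_zpowers]
    exact commutator_eq_bot_iff_le_centralizer.1 hfix)
  set i := C.relIndex X
  have hi : Nat.card C * i = Nat.card X := by
    have := card_mul_index (C.subgroupOf X)
    rwa [Nat.card_congr (subgroupOfEquivOfLe (inf_le_left : C ≤ X)).toEquiv] at this
  have hi0 : i ≠ 0 := fun h0 => (Nat.card_pos (α := X)).ne' (by rw [← hi, h0, mul_zero])
  have hipow : i = 2 ^ i.primeFactorsList.length := by
    refine Nat.eq_prime_pow_of_unique_prime_dvd hi0 fun {q} hq hqi => ?_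
    by_contra hq2
    haveI := Fact.mk hq
    obtain ⟨Q, hQ⟩ := exists_iSyl h le_rfl h.aX q
    have hQC : q ^ (Nat.card X).factorization q ∣ Nat.card C := by
      by_cases hqp : q = p
      · subst hqp; exact hS.card ▸ card_dvd_of_le hSC
      · exact hQ.card ▸ card_dvd_of_le
          (le_inf hQ.le ((facts h).oddFix q hq hq2 hqp Q hQ.le hQ.inv hQ.pgrp))
    have h1 := (hq.pow_dvd_iff_le_factorization Nat.card_pos.ne').1 hQC
    have h2 := hq.factorization_pos_of_dvd hi0 hqi
    rw [← hi, Nat.factorization_mul Nat.card_pos.ne' hi0, Finsupp.add_apply] at h1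
    omega
  set Y := X ⊔ zpowers a with hY
  let x : Y := ⟨a, mem_sup_right (mem_zpowers a)⟩
  set CA := C ⊔ zpowers a
  have hAX : zpowers a ≤ normalizer (X : Set Γ) := zpowers_le_normalizer h.aX
  have hAb : zpowers a ⊓ X = ⊥ := inf_eq_bot_of_coprime (cop h le_rfl)
  have hYc : Nat.card Y = r * Nat.card X := by
    have := OffendersReplace.card_sup_mul_card_inf (zpowers a) X hAX
    rwa [hAb, card_bot, mul_one, sup_comm, ← hY, card_zpowers h] at this
  have hCn : zpowers a ≤ normalizer (C : Set Γ) :=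
    zpowers_le_normalizer (inv_inf h.aX (le_normalizer (mem_centralizer_singleton_iff.2 rfl)))
  have hCAc : Nat.card CA = r * Nat.card C := by
    have := OffendersReplace.card_sup_mul_card_inf (zpowers a) C hCn
    rwa [eq_bot_iff.2 ((inf_le_inf_left _ inf_le_left).trans hAb.le), card_bot, mul_one, sup_comm,
      card_zpowers h] at this
  have hCAY : CA ≤ Y := sup_le_sup_right inf_le_left _
  have hidx : (CA.subgroupOf Y).index = i := by
    have := card_mul_index (CA.subgroupOf Y)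
    rw [Nat.card_congr (subgroupOfEquivOfLe hCAY).toEquiv, hCAc, hYc, ← hi, ← mul_assoc] at this
    exact Nat.eq_of_mul_eq_mul_left (mul_pos h.hr.pos Nat.card_pos) this
  have hle : CA.subgroupOf Y ≤ centralizer ({x} : Set Y) := by
    intro y hy
    have : (y : Γ) ∈ centralizer ({a} : Set Γ) :=
      (sup_le inf_le_right (zpowers_le.2 (mem_centralizer_singleton_iff.2 rfl)) : CA ≤ _) hy
    rw [mem_centralizer_singleton_iff] at this ⊢
    exact Subtype.ext this
  obtain ⟨k, -, hk⟩ := (Nat.dvd_prime_pow Nat.prime_two).1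
    ((hidx.trans hipow) ▸ index_dvd_of_le hle)
  have hsol := H74Kazarin.solvable_normalClosure _ Y rfl x 2 k Nat.prime_two hk
  set N := normalClosure ({x} : Set Y)
  haveI := hsol
  haveI : Group.IsSolvable (N.map Y.subtype) :=
    Group.isSolvable_of_surjective (f := Y.subtype.subgroupMap N)
      (MonoidHom.subgroupMap_surjective _ _)
  have hXN : X ≤ N.map Y.subtype := by
    rw [← hcomm, commutator_le]
    intro g hg b hb
    let g' : Y := ⟨g, mem_sup_left hg⟩
    let b' : Y := ⟨b, mem_sup_right hb⟩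
    have hb' : b' ∈ N := by
      obtain ⟨j, hj⟩ := mem_zpowers_iff.1 hb
      have : b' = x ^ j := Subtype.ext (by simp [b', x, ← hj])
      rw [this]
      exact zpow_mem (subset_normalClosure (Set.mem_singleton x)) j
    refine ⟨g' * b' * g'⁻¹ * b'⁻¹,
      mul_mem (normalClosure_normal.conj_mem b' hb' g') (inv_mem hb'), ?_⟩
    simp [g', b', commutatorElement_def]
  exact CoprimeAction.isSolvable_of_le hXN

/-- An invariant normal proper subgroup is central. -/
theorem central_of_min (N : Subgroup Γ) (hN : N ≤ X) (hne : N ≠ X) (hn : X ≤ normalizer (N : Set Γ))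
    (ha : a ∈ normalizer (N : Set Γ)) : N ≤ centralizer (X : Set Γ) := by
  haveI := Fact.mk h.hp
  haveI : Fact (Nat.Prime 2) := ⟨Nat.prime_two⟩
  have hns := not_solvable_min h hmin hop hcomm hnot
  set E := twoCore N with hE
  have hEX : E ≤ X := (map_subtype_le _).trans hN
  have hE2 : IsPGroup 2 E := CharTwoLocal.isPGroup_pCore_map N
  have haE : a ∈ normalizer (E : Set Γ) := inv_twoCore ha
  have hXE : X ≤ normalizer (E : Set Γ) := fun x hx => inv_twoCore (hn hx)
  have hEfix : E ≤ centralizer ({a} : Set Γ) := by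
    by_contra hmoved
    obtain ⟨S, hS⟩ := exists_iSyl h le_rfl h.aX p
    have hSE := hS.le.trans hXE
    have hLX : E ⊔ S ≤ X := sup_le hEX hS.le
    have hLne : E ⊔ S ≠ X := fun e => hns (e ▸ SignalizerBasic.isSolvable_sup
      (isSolvable_of_isPGroup hE2) (isSolvable_of_isPGroup hS.pgrp) hSE)
    have haL : a ∈ normalizer ((E ⊔ S : Subgroup Γ) : Set Γ) := mem_normalizer_of_map_le (by
      rw [Subgroup.map_sup]
      exact sup_le_sup (conj_map_le haE le_rfl) (conj_map_le hS.inv le_rfl))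
    obtain ⟨P, hPK, hPp, hPn, k, hk⟩ := hmin _ hLX hLne haL
    obtain ⟨hall, hnorm⟩ := nice_facts h.hp h.hp2 hPK hPp hPn hk
    set S' := ⁅S, zpowers a⁆ with hS'
    have hS'P : S' ≤ P := hall S' (commutator_mono le_sup_right le_rfl)
      (hS.pgrp.to_le (comm_le h hS.inv))
    set C := X ⊓ centralizer (E : Set Γ) with hC
    have hS'C : S' ≤ C := by
      refine le_inf ((comm_le h hS.inv).trans hS.le) fun y hy => mem_centralizer_iff.2 fun e he => ?_
      refine commutatorElement_eq_one_iff_mul_comm.1 ?_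
      refine eq_one_of_coprime Nat.prime_two h.hp (Ne.symm h.hp2) hE2 hPp (x := ⁅e, y⁆) ?_ ?_
      · exact Flavell20.A1.comm_mem_of_normalizer (hSE (comm_le h hS.inv hy)) he
      · rw [commutatorElement_def]
        exact mul_mem (Flavell20.A1.conj_mem_of_normalizer
          (hnorm e ((inv_comm h (K := E ⊔ S)).2 (mem_sup_left he))) (hS'P hy)) (inv_mem (hS'P hy))
    have hCne : C ≠ X := by
      intro e
      refine hmoved ((facts h).abel E hEX haE hE2 fun u hu v hv => ?_)
      exact (mem_centralizer_iff.1 (e.ge (hEX hu)).2 v hv).symm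
    have hCn : X ≤ normalizer (C : Set Γ) :=
      le_normalizer_inf le_normalizer (CoprimeTools.le_normalizer_centralizer_of_le hXE)
    have h1 := normal_two h hmin hop hcomm hnot inf_le_left hCne hCn
      (inv_inf h.aX (inv_centralizer haE))
    have hS'bot : S' = ⊥ := by
      rw [eq_bot_iff]
      intro y hy
      have h2 : y ∈ ⁅C, zpowers a⁆ := by
        have h3 : S' ≤ ⁅C, zpowers a⁆ := by
          rw [hS', ← comm_comm h hS.le hS.inv]
          exact commutator_mono hS'C le_rfl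
        exact h3 hy
      exact mem_bot.2 (eq_one_of_coprime h.hp Nat.prime_two h.hp2 (hS.pgrp.to_le (comm_le h hS.inv))
        (CharTwoLocal.isPGroup_pCore_map C) hy (h1 h2))
    exact hns (solvable_of_fixed h hmin hop hcomm hnot hS hS'bot)
  -- `a` fixes `N`
  have hNfix : N ≤ centralizer ({a} : Set Γ) := by
    have h1 := normal_two h hmin hop hcomm hnot hN hne hn ha
    have h2 : ⁅⁅N, zpowers a⁆, zpowers a⁆ = ⊥ := commutator_eq_bot_iff_le_centralizer.2
      (h1.trans (centralizer_zpowers a ▸ hEfix))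
    rw [comm_comm h hN ha, commutator_eq_bot_iff_le_centralizer, centralizer_zpowers] at h2
    exact h2
  exact Flavell20.A1.le_centralizer_of_fixed hcomm hn hNfix

theorem perfect_min : ⁅X, X⁆ = X := by
  by_contra hne
  have hD : ⁅X, X⁆ ≤ X := X.commutator_le_self
  have hc := central_of_min h hmin hop hcomm hnot _ hD hne
    (CoprimeTools.le_normalizer_commutator_of_le le_normalizer le_normalizer)
    (Flavell20.A1.mem_normalizer_commutator h.aX h.aX)
  refine not_solvable_min h hmin hop hcomm hnot ((isSolvable_def X).2 ⟨2, ?_⟩)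
  refine map_injective X.subtype_injective ?_
  rw [derivedSeries_succ, derivedSeries_succ, derivedSeries_zero, Subgroup.map_commutator,
    Subgroup.map_commutator, ← MonoidHom.range_eq_map, range_subtype, Subgroup.map_bot,
    commutator_eq_bot_iff_le_centralizer]
  exact hc.trans (centralizer_le hD)

end minimal

/-- The theorem follows if a minimal counterexample is impossible. -/
theorem nice_of_ctx {p r : ℕ}
    (hfalse : ∀ (Γ : Type u) [Group Γ] [Finite Γ] (V X : Subgroup Γ) (a : Γ),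
      Ctx p r V X a → False)
    {Γ : Type u} [Group Γ] [Finite Γ] {V X : Subgroup Γ} {a : Γ} (h : Core p r V X a) :
    Nice p X a := by
  suffices H : ∀ m v (Γ : Type u) [Group Γ] [Finite Γ] (V X : Subgroup Γ) (a : Γ),
      Core p r V X a → Nat.card X = m → Nat.card V = v → Nice p X a from H _ _ Γ V X a h rfl rfl
  intro m
  induction m using Nat.strong_induction_on with
  | _ m ihm =>
  intro v
  induction v using Nat.strong_induction_on with
  | _ v ihv =>
  intro Γ _ _ V X a h hm hv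
  subst hm hv
  have hind : HInd.{u} p r (Nat.card X) (Nat.card V) := by
    intro Γ' _ _ V' X' a' h' hor
    rcases hor with hlt | ⟨hle, hlt⟩
    · exact ihm _ hlt _ Γ' V' X' a' h' rfl rfl
    · rcases hle.lt_or_eq with hlt' | e
      · exact ihm _ hlt' _ Γ' V' X' a' h' rfl rfl
      · exact ihv _ hlt Γ' V' X' a' h' e rfl
  have hmin := hmin_of_ind h hind
  by_contra hnot
  have hcomm : ⁅X, zpowers a⁆ = X := by
    by_contra hne
    obtain ⟨P, hP⟩ := hmin _ (comm_le h h.aX) hne (inv_comm h).1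
    refine hnot ⟨P, ?_⟩
    rwa [comm_comm h le_rfl h.aX] at hP
  have hirr := irr_of_ind h hind hcomm hnot
  have hop := op_of_ind h hirr
  refine hfalse Γ V X a
    { toCore := h
      F := facts h
      hmin := hmin
      irr := hirr
      op := hop
      comm_top := hcomm
      central := central_of_min h hmin hop hcomm hnot
      perfect := perfect_min h hmin hop hcomm hnot
      Xne := fun e => not_solvable_min h hmin hop hcomm hnot
        (e ▸ (inferInstance : Group.IsSolvable (⊥ : Subgroup Γ))) }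

end Cfsg.Agent.Flavell8
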