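import Mathlib

/-!
The dimension count which removes the `p`-part over `T`: if `y` fixes the free `⟨x⟩`-module `L`
pointwise and `y * n = n * y * x` with `x` commuting with `y` and `n`, then the translates
`n ^ i L`, `i < p`, span at least `(p + 1) / 2 * dim L` dimensions.
-/

set_option autoImplicit false
set_option linter.unusedSectionVars false

namespace Cfsg.Agent.FlavellKill83

open Module Submodule

variable {k V : Type*} [Field k] [AddCommGroup V] [Module k V] [FiniteDimensional k V]

/-- The span of the translates `n ^ i L`, `i < m`. -/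
def layer (n : Module.End k V) (L : Submodule k V) : ℕ → Submodule k V
  | 0 => ⊥
  | m + 1 => layer n L m ⊔ L.map (n ^ m)

lemma pow_mem (f : Module.End k V) (L : Submodule k V) (hfL : ∀ v ∈ L, f v ∈ L) (i : ℕ)
    {v : V} (hv : v ∈ L) : (f ^ i) v ∈ L := by
  induction i with
  | zero => simpa using hv
  | succ i ih => rw [pow_succ']; exact hfL _ ih

lemma finrank_ker_pow_le (f : Module.End k V) (L : Submodule k V) (hfL : ∀ v ∈ L, f v ∈ L) (m : ℕ) :
    finrank k ↥(L ⊓ LinearMap.ker (f ^ m)) ≤ m * finrank k ↥(L ⊓ LinearMap.ker f) := by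
  induction m with
  | zero =>
    simp [Module.End.one_eq_id, LinearMap.ker_id]
  | succ m ih =>
    set A := L ⊓ LinearMap.ker (f ^ (m + 1)) with hA
    set g : ↥A →ₗ[k] V := (f ^ m).comp A.subtype with hg
    have h1 := g.finrank_range_add_finrank_ker
    have hrange : LinearMap.range g ≤ L ⊓ LinearMap.ker f := by
      rintro v ⟨⟨a, ha⟩, rfl⟩
      refine ⟨?_, ?_⟩
      · exact pow_mem f L hfL m ha.1
      · have h := LinearMap.mem_ker.mp ha.2
        rw [pow_succ'] at h
        exact h
    have hker : finrank k ↥(LinearMap.ker g) ≤ finrank k ↥(L ⊓ LinearMap.ker (f ^ m)) := by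
      rw [← Submodule.finrank_map_subtype_eq A (LinearMap.ker g)]
      apply Submodule.finrank_mono
      rintro v ⟨⟨a, ha⟩, hmem, rfl⟩
      exact ⟨ha.1, hmem⟩
    have h2 := Submodule.finrank_mono hrange
    rw [add_one_mul]
    omega

variable {x y n : Module.End k V} {L : Submodule k V}

lemma y_pow (hcn : Commute x n) (hyn : y * n = n * y * x) (hxL : ∀ v ∈ L, x v ∈ L)
    (hyL : ∀ v ∈ L, y v = v) (i : ℕ) {v : V} (hv : v ∈ L) :
    y ((n ^ i) v) = (n ^ i) ((x ^ i) v) := by
  have h : y * n ^ i = n ^ i * y * x ^ i := by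
    induction i with
    | zero => simp
    | succ i ih =>
      calc y * n ^ (i + 1) = (y * n ^ i) * n := by rw [pow_succ, mul_assoc]
        _ = n ^ i * y * (x ^ i * n) := by rw [ih, mul_assoc]
        _ = n ^ i * (y * n) * x ^ i := by rw [(hcn.pow_left i).eq]; simp only [mul_assoc]
        _ = n ^ (i + 1) * y * x ^ (i + 1) := by
          rw [hyn, pow_succ, pow_succ']; simp only [mul_assoc]
  have := LinearMap.congr_fun h v
  simp only [Module.End.mul_apply] at this
  rw [this, hyL _ (pow_mem x L hxL i hv)]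

/-- The product of the `y - x ^ j`, `j < m`. -/
def killer (x y : Module.End k V) : ℕ → Module.End k V
  | 0 => 1
  | m + 1 => killer x y m * (y - x ^ m)

/-- The polynomial by which `killer x y m` acts on `n ^ i L`. -/
noncomputable def dpoly (k : Type*) [Field k] (m i : ℕ) : Polynomial k :=
  ∏ j ∈ Finset.range m, (Polynomial.X ^ i - Polynomial.X ^ j)

lemma aeval_mem (hxL : ∀ v ∈ L, x v ∈ L) (f : Polynomial k) {v : V} (hv : v ∈ L) :
    Polynomial.aeval x f v ∈ L := by
  induction f using Polynomial.induction_on' with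
  | add a b ha hb => rw [map_add, LinearMap.add_apply]; exact L.add_mem ha hb
  | monomial i c =>
    rw [Polynomial.aeval_monomial, Module.End.mul_apply, Module.algebraMap_end_apply]
    exact L.smul_mem c (pow_mem x L hxL i hv)

lemma killer_apply (hcn : Commute x n) (hyn : y * n = n * y * x) (hxL : ∀ v ∈ L, x v ∈ L)
    (hyL : ∀ v ∈ L, y v = v) (i m : ℕ) {v : V} (hv : v ∈ L) :
    killer x y m ((n ^ i) v) = (n ^ i) (Polynomial.aeval x (dpoly k m i) v) := by
  induction m generalizing v with
  | zero => simp [killer, dpoly]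
  | succ m ih =>
    have h1 : (y - x ^ m) ((n ^ i) v) = (n ^ i) ((x ^ i - x ^ m) v) := by
      rw [LinearMap.sub_apply, LinearMap.sub_apply, map_sub, y_pow hcn hyn hxL hyL i hv]
      congr 1
      exact (LinearMap.congr_fun (hcn.pow_pow m i).eq v)
    have h2 : (x ^ i - x ^ m) v ∈ L := by
      rw [LinearMap.sub_apply]
      exact L.sub_mem (pow_mem x L hxL i hv) (pow_mem x L hxL m hv)
    rw [killer, Module.End.mul_apply, h1, ih h2]
    congr 1
    rw [dpoly, dpoly, Finset.prod_range_succ, map_mul, Module.End.mul_apply, map_sub,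
      Polynomial.aeval_X_pow, Polynomial.aeval_X_pow]

lemma killer_layer (hcn : Commute x n) (hyn : y * n = n * y * x) (hxL : ∀ v ∈ L, x v ∈ L)
    (hyL : ∀ v ∈ L, y v = v) (m : ℕ) :
    ∀ l ≤ m, layer n L l ≤ LinearMap.ker (killer x y m) := by
  intro l hl
  induction l with
  | zero => exact bot_le
  | succ l ih =>
    refine sup_le (ih (by omega)) ?_
    rintro w ⟨v, hv, rfl⟩
    rw [LinearMap.mem_ker, killer_apply hcn hyn hxL hyL l m hv]
    have : dpoly k m l = 0 :=
      Finset.prod_eq_zero (Finset.mem_range.mpr (show l < m by omega)) (sub_self _)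
    simp [this]

lemma ker_dpoly (p : ℕ) [hp : Fact p.Prime] [CharP k p] (hx : IsNilpotent (x - 1)) {m : ℕ}
    (hm : m < p) {v : V} (hv : Polynomial.aeval x (dpoly k m m) v = 0) :
    ((x - 1) ^ m) v = 0 := by
  have hfac : ∀ l ≤ m, ∃ g : Polynomial k, g.eval 1 ≠ 0 ∧
      (∏ j ∈ Finset.range l, (Polynomial.X ^ m - Polynomial.X ^ j : Polynomial k)) =
        (Polynomial.X - 1) ^ l * g := by
    intro l hl
    induction l with
    | zero => exact ⟨1, by simp, by simp⟩
    | succ l ih =>
      obtain ⟨g, hg, he⟩ := ih (by omega)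
      refine ⟨g * (Polynomial.X ^ l * ∑ i ∈ Finset.range (m - l), Polynomial.X ^ i), ?_, ?_⟩
      · simp only [Polynomial.eval_mul, Polynomial.eval_pow, Polynomial.eval_X, one_pow, one_mul,
          Polynomial.eval_finsetSum, Finset.sum_const, Finset.card_range, nsmul_eq_mul, mul_one]
        refine mul_ne_zero hg ?_
        rw [Ne, CharP.cast_eq_zero_iff k p]
        intro hd
        have := Nat.le_of_dvd (by omega) hd
        omega
      · rw [Finset.prod_range_succ, he]
        have hgeo : (Polynomial.X ^ m - Polynomial.X ^ l : Polynomial k) =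
            Polynomial.X ^ l * ((Polynomial.X - 1) *
              ∑ i ∈ Finset.range (m - l), Polynomial.X ^ i) := by
          rw [mul_geom_sum, mul_sub, mul_one, ← pow_add, show l + (m - l) = m by omega]
        rw [hgeo]
        ring
  obtain ⟨g, hg, he⟩ := hfac m le_rfl
  rw [dpoly, he, mul_comm, map_mul, Module.End.mul_apply, map_pow, map_sub, Polynomial.aeval_X,
    map_one] at hv
  obtain ⟨q, hq⟩ := Polynomial.X_sub_C_dvd_sub_C_eval (p := g) (a := (1 : k))
  have hg' : g = Polynomial.C (g.eval 1) + (Polynomial.X - Polynomial.C 1) * q := by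
    rw [← hq]; ring
  have hu : IsUnit (Polynomial.aeval x g) := by
    rw [hg', map_add, Polynomial.aeval_C, map_mul, map_sub, Polynomial.aeval_X, Polynomial.aeval_C,
      map_one]
    have hnil : IsNilpotent ((x - 1) * Polynomial.aeval x q) := by
      refine Commute.isNilpotent_mul_right ?_ hx
      have := (Commute.all (Polynomial.X - 1 : Polynomial k) q).map (Polynomial.aeval x)
      simpa using this
    refine IsNilpotent.isUnit_add_left_of_commute hnil ?_ ?_
    · exact (IsUnit.mk0 _ hg).map (algebraMap k (Module.End k V))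
    · exact (Algebra.commutes _ _).symm
  have hinj := ((Module.End.isUnit_iff _).mp hu).injective
  exact hinj (by rw [hv, map_zero])

theorem layer_finrank (p : ℕ) [hp : Fact p.Prime] [CharP k p] (hn : IsUnit n)
    (hcn : Commute x n) (hyn : y * n = n * y * x) (hxL : ∀ v ∈ L, x v ∈ L)
    (hyL : ∀ v ∈ L, y v = v) (hx : IsNilpotent (x - 1))
    (hfree : p * finrank k ↥(L ⊓ LinearMap.ker (x - 1)) ≤ finrank k ↥L) :
    (p + 1) * finrank k ↥L ≤ 2 * finrank k ↥(layer n L p) := by
  have hXL : ∀ v ∈ L, (x - 1) v ∈ L := by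
    intro v hv
    rw [LinearMap.sub_apply, Module.End.one_apply]
    exact L.sub_mem (hxL v hv) hv
  have step : ∀ m ≤ p, m * (2 * p + 1) * finrank k ↥L ≤
      2 * p * finrank k ↥(layer n L m) + m * m * finrank k ↥L := by
    intro m hm
    induction m with
    | zero => simp
    | succ m ih =>
      have ih := ih (by omega)
      have hinj : Function.Injective (n ^ m : Module.End k V) :=
        ((Module.End.isUnit_iff _).mp (hn.pow m)).injective
      have hle : layer n L m ⊓ L.map (n ^ m) ≤
          (L ⊓ LinearMap.ker ((x - 1) ^ m)).map (n ^ m) := by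
        rintro w ⟨hw, v, hv, rfl⟩
        refine ⟨v, ⟨hv, ?_⟩, rfl⟩
        have h := killer_layer hcn hyn hxL hyL m m le_rfl hw
        rw [LinearMap.mem_ker, killer_apply hcn hyn hxL hyL m m hv] at h
        exact LinearMap.mem_ker.mpr (ker_dpoly p hx (by omega) (hinj (by rw [h, map_zero])))
      have e1 := Submodule.finrank_sup_add_finrank_inf_eq (layer n L m) (L.map (n ^ m))
      have e2 : finrank k ↥(L.map (n ^ m)) = finrank k ↥L :=
        (LinearEquiv.finrank_eq (Submodule.equivMapOfInjective _ hinj L)).symm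
      have e3 := Submodule.finrank_mono hle
      rw [(LinearEquiv.finrank_eq (Submodule.equivMapOfInjective _ hinj _)).symm] at e3
      have e4 := finrank_ker_pow_le (x - 1) L hXL m
      have e5 : layer n L (m + 1) = layer n L m ⊔ L.map (n ^ m) := rfl
      rw [e5]
      generalize finrank k ↥(L ⊓ LinearMap.ker ((x - 1) ^ m)) = K at *
      generalize finrank k ↥(layer n L m ⊓ L.map (n ^ m)) = I at *
      generalize finrank k ↥(layer n L m ⊔ L.map (n ^ m)) = S at *
      generalize finrank k ↥(layer n L m) = A at *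
      generalize finrank k ↥(L ⊓ LinearMap.ker (x - 1)) = K1 at *
      generalize finrank k ↥L = D at *
      rw [e2] at e1
      have h5 : p * K ≤ m * D :=
        calc p * K ≤ p * (m * K1) := Nat.mul_le_mul_left _ e4
          _ = m * (p * K1) := by ring
          _ ≤ m * D := Nat.mul_le_mul_left _ hfree
      nlinarith
  have h := step p le_rfl
  have hp0 := hp.out.pos
  refine Nat.le_of_mul_le_mul_left ?_ hp0
  nlinarith

/-- A pair `y`, `n` with commutator `x` is impossible when `p ≥ 5`; for `p = 3` everything which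
fixes `L` and commutes with `n` is trivial. -/
theorem pair_trivial (p : ℕ) [hp : Fact p.Prime] [CharP k p] (hp2 : p ≠ 2) (hn : IsUnit n)
    (hcn : Commute x n) (hyn : y * n = n * y * x) (hxL : ∀ v ∈ L, x v ∈ L)
    (hyL : ∀ v ∈ L, y v = v) (hx : IsNilpotent (x - 1))
    (hfree : p * finrank k ↥(L ⊓ LinearMap.ker (x - 1)) ≤ finrank k ↥L)
    (hL : L ≠ ⊥) (hV : finrank k V ≤ 2 * finrank k ↥L) :
    p = 3 ∧ ∀ z : Module.End k V, Commute z n → (∀ v ∈ L, z v = v) → z = 1 := by
  have h := layer_finrank p hn hcn hyn hxL hyL hx hfree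
  have hle := Submodule.finrank_le (layer n L p)
  have hpos : 0 < finrank k ↥L :=
    Nat.pos_of_ne_zero (fun h0 => hL (Submodule.finrank_eq_zero.mp h0))
  have h3 : p = 3 := by
    have := hp.out.two_le
    rcases Nat.lt_or_ge p 4 with h4 | h4
    · omega
    · nlinarith
  refine ⟨h3, fun z hzn hzL => ?_⟩
  have htop : layer n L p = ⊤ := by
    apply Submodule.eq_top_of_finrank_eq
    subst h3
    omega
  have hfix : ∀ m, layer n L m ≤ LinearMap.ker (z - 1) := by
    intro m
    induction m with
    | zero => exact bot_le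
    | succ m ih =>
      refine sup_le ih ?_
      rintro w ⟨v, hv, rfl⟩
      rw [LinearMap.mem_ker, LinearMap.sub_apply, Module.End.one_apply, sub_eq_zero]
      have := LinearMap.congr_fun (hzn.pow_right m).eq v
      simp only [Module.End.mul_apply] at this
      rw [this, hzL v hv]
  ext v
  have := hfix p (htop ▸ Submodule.mem_top (x := v))
  rwa [LinearMap.mem_ker, LinearMap.sub_apply, sub_eq_zero] at this

/-- Relative projectivity gives freeness in the form used by `layer_finrank`. -/
theorem free_of_trace (p : ℕ) [hp : Fact p.Prime] [CharP k p] (hxL : ∀ v ∈ L, x v ∈ L)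
    (φ : Module.End k V) (hφL : ∀ v ∈ L, φ v ∈ L)
    (htr : ∀ v ∈ L, x v = v → v = ∑ i ∈ Finset.range p, (x ^ i) (φ v)) :
    p * finrank k ↥(L ⊓ LinearMap.ker (x - 1)) ≤ finrank k ↥L := by
  have hXL : ∀ v ∈ L, (x - 1) v ∈ L := fun v hv => by
    rw [LinearMap.sub_apply, Module.End.one_apply]
    exact L.sub_mem (hxL v hv) hv
  have hsum : (∑ i ∈ Finset.range p, x ^ i) = (x - 1) ^ (p - 1) := by
    have hpe : (∑ i ∈ Finset.range p, (Polynomial.X : Polynomial k) ^ i) =
        (Polynomial.X - 1) ^ (p - 1) := by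
      apply mul_right_cancel₀ (Polynomial.X_sub_C_ne_zero (1 : k))
      rw [map_one, geom_sum_mul, ← pow_succ, show p - 1 + 1 = p by have := hp.out.pos; omega,
        sub_pow_char, one_pow]
    have := congrArg (Polynomial.aeval x) hpe
    simpa using this
  have hK : ∀ v ∈ L ⊓ LinearMap.ker (x - 1), ∀ j < p, v ∈ L.map ((x - 1) ^ j) := by
    intro v hv j hj
    have hvx : x v = v := by
      have := LinearMap.mem_ker.mp hv.2
      rwa [LinearMap.sub_apply, Module.End.one_apply, sub_eq_zero] at this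
    refine ⟨((x - 1) ^ (p - 1 - j)) (φ v), pow_mem _ L hXL _ (hφL v hv.1), ?_⟩
    rw [← Module.End.mul_apply, ← pow_add, show j + (p - 1 - j) = p - 1 by omega, ← hsum,
      LinearMap.sum_apply]
    exact (htr v hv.1 hvx).symm
  have step : ∀ j ≤ p, j * finrank k ↥(L ⊓ LinearMap.ker (x - 1)) +
      finrank k ↥(L.map ((x - 1) ^ j)) ≤ finrank k ↥L := by
    intro j hj
    induction j with
    | zero =>
      rw [pow_zero, Module.End.one_eq_id, Submodule.map_id]
      simp
    | succ j ih =>
      have ih := ih (by omega)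
      set A := L.map ((x - 1) ^ j) with hA
      have hmap : L.map ((x - 1) ^ (j + 1)) = A.map (x - 1) := by
        rw [hA, ← Submodule.map_comp, pow_succ', Module.End.mul_eq_comp]
      have h1 := ((x - 1).domRestrict A).finrank_range_add_finrank_ker
      rw [LinearMap.range_domRestrict] at h1
      have h2 : finrank k ↥(L ⊓ LinearMap.ker (x - 1)) ≤
          finrank k ↥(LinearMap.ker ((x - 1).domRestrict A)) := by
        rw [← Submodule.finrank_map_subtype_eq A (LinearMap.ker ((x - 1).domRestrict A))]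
        apply Submodule.finrank_mono
        intro v hv
        exact ⟨⟨v, hK v hv j (by omega)⟩, hv.2, rfl⟩
      rw [hmap, add_one_mul]
      omega
  exact le_trans (Nat.le_add_right _ _) (step p le_rfl)

section Rep

variable {G : Type*} [Group G]

/-- The trace from `⟨x⟩` of a sum over a set of orbit representatives. -/
lemma exists_trace (ρ : Representation k G V) (p : ℕ) [hp : Fact p.Prime] {Z : Subgroup G}
    {x : G} (hxN : x ∈ Subgroup.normalizer (Z : Set G)) (hxp : x ^ p = 1)
    (hfpf : ∀ z ∈ Z, x * z * x⁻¹ = z → z = 1) :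
    ∀ s : Finset G, (∀ z ∈ s, z ∈ Z ∧ z ≠ 1 ∧ x * z * x⁻¹ ∈ s) →
      (∃ R : List G, (∀ z ∈ R, z ∈ Z) ∧
        (∑ z ∈ s, ρ z) = ∑ i ∈ Finset.range p, (R.map fun z => ρ (x ^ i * z * (x ^ i)⁻¹)).sum) ∧
      p ∣ s.card := by
  classical
  intro s
  induction s using Finset.strongInduction with
  | _ s ih =>
    intro hs
    rcases s.eq_empty_or_nonempty with rfl | ⟨z, hz⟩
    · exact ⟨⟨[], by simp, by simp⟩, by simp⟩
    set f : ℕ → G := fun i => x ^ i * z * (x ^ i)⁻¹ with hf
    have hfsucc : ∀ i, f (i + 1) = x * f i * x⁻¹ := fun i => by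
      simp only [hf, pow_succ', mul_inv_rev, mul_assoc]
    have hfp : f p = z := by simp [hf, hxp]
    have hfs : ∀ i, f i ∈ s := by
      intro i
      induction i with
      | zero => simpa [hf] using hz
      | succ i hi => rw [hfsucc]; exact (hs _ hi).2.2
    -- stabilisers are trivial
    have hinj : ∀ i < p, ∀ j < p, i < j → f i ≠ f j := by
      intro i hi j hj hij he
      have hcomm : Commute (x ^ (j - i)) z := by
        have h1 : x ^ i * z * (x ^ i)⁻¹ = x ^ i * (x ^ (j - i) * z * (x ^ (j - i))⁻¹) * (x ^ i)⁻¹ := by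
          simp only [hf] at he
          rw [he]
          conv_lhs => rw [show j = i + (j - i) by omega, pow_add]
          group
        exact mul_inv_eq_iff_eq_mul.mp (mul_left_cancel (mul_right_cancel h1)).symm
      have hcop : (j - i).Coprime p := Nat.Coprime.symm
        (hp.out.coprime_iff_not_dvd.mpr fun hd => by
          have := Nat.le_of_dvd (by omega) hd; omega)
      have hord : (j - i).Coprime (orderOf x) :=
        hcop.coprime_dvd_right (orderOf_dvd_of_pow_eq_one hxp)
      obtain ⟨m, hm⟩ := exists_pow_eq_self_of_coprime hord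
      have hxz : Commute x z := hm ▸ hcomm.pow_left m
      exact (hs z hz).2.1 (hfpf z (hs z hz).1 (mul_inv_eq_iff_eq_mul.mpr hxz.eq))
    set O := (Finset.range p).image f with hO
    have hOs : O ⊆ s := fun w hw => by
      obtain ⟨i, -, rfl⟩ := Finset.mem_image.mp hw
      exact hfs i
    have hOinj : Set.InjOn f (Finset.range p : Set ℕ) := by
      intro i hi j hj he
      simp only [Finset.coe_range, Set.mem_Iio] at hi hj
      rcases lt_trichotomy i j with h | h | h
      · exact absurd he (hinj i hi j hj h)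
      · exact h
      · exact absurd he.symm (hinj j hj i hi h)
    have hO0 : z ∈ O :=
      Finset.mem_image.mpr ⟨0, Finset.mem_range.mpr hp.out.pos, by simp [hf]⟩
    have hlt : s \ O ⊂ s :=
      Finset.sdiff_ssubset hOs ⟨z, hO0⟩
    have hclosed : ∀ w ∈ s \ O, w ∈ Z ∧ w ≠ 1 ∧ x * w * x⁻¹ ∈ s \ O := by
      intro w hw
      obtain ⟨hws, hwO⟩ := Finset.mem_sdiff.mp hw
      refine ⟨(hs w hws).1, (hs w hws).2.1, Finset.mem_sdiff.mpr ⟨(hs w hws).2.2, fun h => hwO ?_⟩⟩
      obtain ⟨i, hi, he⟩ := Finset.mem_image.mp h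
      rw [Finset.mem_range] at hi
      rcases i with _ | i
      · refine Finset.mem_image.mpr ⟨p - 1, Finset.mem_range.mpr (by omega), ?_⟩
        have h1 : x * f (p - 1) * x⁻¹ = x * w * x⁻¹ := by
          rw [← hfsucc, show p - 1 + 1 = p by omega, hfp, ← he]
          simp [hf]
        exact mul_left_cancel (mul_right_cancel h1)
      · refine Finset.mem_image.mpr ⟨i, Finset.mem_range.mpr (by omega), ?_⟩
        rw [hfsucc] at he
        exact mul_left_cancel (mul_right_cancel he)
    obtain ⟨⟨R, hRZ, hR⟩, hcard⟩ := ih _ hlt hclosed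
    refine ⟨?_, ?_⟩
    · have hsum : (∑ w ∈ O, ρ w) = ∑ i ∈ Finset.range p, ρ (f i) := Finset.sum_image hOinj
      refine ⟨z :: R, ?_, ?_⟩
      · intro w hw
        rcases List.mem_cons.mp hw with rfl | hw
        exacts [(hs w hz).1, hRZ w hw]
      · rw [← Finset.sum_sdiff hOs, hR, hsum, ← Finset.sum_add_distrib]
        refine Finset.sum_congr rfl fun i _ => ?_
        rw [List.map_cons, List.sum_cons, add_comm]
    · rw [← Finset.card_sdiff_add_card_eq_card hOs, Finset.card_image_of_injOn hOinj,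
        Finset.card_range]
      exact Nat.dvd_add hcard dvd_rfl

/-- The kill: a fixed `x` of order `p` acting fixed point freely on `Z` cannot be the commutator
of `n` with an element `y` fixing `[V, Z]`, when `Z` and one conjugate have no common fixed vector;
for `p = 3` everything fixing `[V, Z]` and commuting with `n` acts trivially. -/
theorem kill [Finite G] (ρ : Representation k G V) (p : ℕ) [hp : Fact p.Prime] [CharP k p]
    (hp2 : p ≠ 2) (Z : Subgroup G) (x y n c : G) (hxN : x ∈ Subgroup.normalizer (Z : Set G))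
    (hxp : x ^ p = 1) (hfpf : ∀ z ∈ Z, x * z * x⁻¹ = z → z = 1)
    (hne : ∃ z ∈ Z, ρ z ≠ 1)
    (hgen : ∀ v : V, (∀ z ∈ Z, ρ z v = v) → (∀ z ∈ Z, ρ (c * z * c⁻¹) v = v) → v = 0)
    (hyn : y * n = n * y * x) (hxn : Commute x n)
    (hyL : ∀ z ∈ Z, ∀ v : V, ρ y (ρ z v - v) = ρ z v - v) :
    p = 3 ∧ ∀ g : G, Commute g n →
      (∀ z ∈ Z, ∀ v : V, ρ g (ρ z v - v) = ρ z v - v) → ρ g = 1 := by
  classical
  set F := (Z : Set G).toFinite.toFinset with hF
  have hmem : ∀ z, z ∈ F ↔ z ∈ Z := fun z => Set.Finite.mem_toFinset _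
  set S : Module.End k V := ∑ z ∈ F, ρ z with hS
  set L := LinearMap.ker S with hL
  have hconjZ : ∀ z, z ∈ Z → x * z * x⁻¹ ∈ Z := fun z hz =>
    (Subgroup.mem_normalizer_iff.mp hxN z).mp hz
  obtain ⟨⟨R, hRZ, hR⟩, hcard⟩ := exists_trace ρ p hxN hxp hfpf (F.erase 1) (fun z hz => by
    obtain ⟨hz1, hzF⟩ := Finset.mem_erase.mp hz
    refine ⟨(hmem z).mp hzF, hz1, Finset.mem_erase.mpr ⟨?_, (hmem _).mpr (hconjZ z ((hmem z).mp hzF))⟩⟩
    intro h
    exact hz1 (conj_eq_one_iff.mp h))
  have h1F : (1 : G) ∈ F := (hmem 1).mpr (one_mem Z)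
  have hSsplit : S = 1 + ∑ z ∈ F.erase 1, ρ z := by
    rw [hS, ← Finset.add_sum_erase _ _ h1F, map_one]
  have hFk : (F.card : k) = 1 := by
    rw [← Finset.card_erase_add_one h1F, Nat.cast_add, Nat.cast_one,
      (CharP.cast_eq_zero_iff k p _).mpr hcard, zero_add]
  have hSz : ∀ g ∈ Z, ρ g * S = S := by
    intro g hg
    rw [hS, Finset.mul_sum]
    refine Finset.sum_equiv (Equiv.mulLeft g) (fun z => ?_) (fun z _ => by simp)
    simp only [hmem, Equiv.coe_mulLeft]
    exact (Z.mul_mem_cancel_left hg).symm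
  have hSz' : ∀ g ∈ Z, S * ρ g = S := by
    intro g hg
    rw [hS, Finset.sum_mul]
    refine Finset.sum_equiv (Equiv.mulRight g) (fun z => ?_) (fun z _ => by simp)
    simp only [hmem, Equiv.coe_mulRight]
    exact (Z.mul_mem_cancel_right hg).symm
  have hSx : S * ρ x = ρ x * S := by
    rw [hS, Finset.sum_mul, Finset.mul_sum]
    symm
    refine Finset.sum_equiv (MulAut.conj x).toEquiv (fun z => ?_) (fun z _ => ?_)
    · simp only [hmem, MulEquiv.coe_toEquiv, MulAut.conj_apply]
      exact Subgroup.mem_normalizer_iff.mp hxN z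
    · simp [← map_mul]
  have hxL : ∀ v ∈ L, ρ x v ∈ L := by
    intro v hv
    rw [hL, LinearMap.mem_ker] at hv ⊢
    rw [← Module.End.mul_apply, hSx, Module.End.mul_apply, hv, map_zero]
  have hnil : IsNilpotent (ρ x - 1) := by
    refine ⟨p, ?_⟩
    have h := congrArg (Polynomial.aeval (ρ x))
      (sub_pow_char (R := Polynomial k) (p := p) Polynomial.X 1)
    simp only [one_pow, map_pow, map_sub, Polynomial.aeval_X, map_one] at h
    rw [h, ← map_pow ρ, hxp, map_one, sub_self]
  -- freeness of `L`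
  have hfree : p * finrank k ↥(L ⊓ LinearMap.ker (ρ x - 1)) ≤ finrank k ↥L := by
    refine free_of_trace p hxL (-(R.map fun z => ρ z).sum) ?_ ?_
    · intro v hv
      rw [LinearMap.neg_apply]
      refine L.neg_mem ?_
      clear hR
      induction R with
      | nil => simp
      | cons z R ih =>
        rw [List.map_cons, List.sum_cons, LinearMap.add_apply]
        refine L.add_mem ?_ (ih fun w hw => hRZ w (List.mem_cons_of_mem _ hw))
        rw [hL, LinearMap.mem_ker] at hv ⊢
        rw [← Module.End.mul_apply, hSz' z (hRZ z List.mem_cons_self), hv]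
    · intro v hv hxv
      have hinv : ∀ i : ℕ, ρ (x ^ i)⁻¹ v = v := by
        intro i
        have hfix : ρ (x ^ i) v = v := by
          induction i with
          | zero => simp
          | succ i ih => rw [pow_succ', map_mul, Module.End.mul_apply, ih, hxv]
        conv_lhs => rw [← hfix]
        rw [← Module.End.mul_apply, ← map_mul, inv_mul_cancel, map_one, Module.End.one_apply]
      have key : ∀ i : ℕ, ∀ R' : List G,
          (R'.map fun z => ρ (x ^ i * z * (x ^ i)⁻¹)).sum v =
            (ρ x ^ i) ((R'.map fun z => ρ z).sum v) := by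
        intro i R'
        induction R' with
        | nil => simp
        | cons z R' ih =>
          simp only [List.map_cons, List.sum_cons, LinearMap.add_apply, map_add, ih]
          congr 1
          rw [map_mul, map_mul, Module.End.mul_apply, Module.End.mul_apply, hinv, map_pow]
      have h0 : S v = 0 := hv
      rw [hSsplit, hR, LinearMap.add_apply, Module.End.one_apply, LinearMap.sum_apply] at h0
      simp only [key] at h0
      conv_lhs => rw [eq_neg_of_add_eq_zero_left h0, ← Finset.sum_neg_distrib]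
      refine Finset.sum_congr rfl fun i _ => ?_
      rw [LinearMap.neg_apply, map_neg]
  -- fixed vectors
  have hrange : ∀ v, (∀ z ∈ Z, ρ z v = v) → S v = v := by
    intro v hv
    rw [hS, LinearMap.sum_apply, Finset.sum_congr rfl (fun z hz => hv z ((hmem z).mp hz)),
      Finset.sum_const, ← Nat.cast_smul_eq_nsmul k, hFk, one_smul]
  have hW : ∀ v ∈ LinearMap.range S, ∀ z ∈ Z, ρ z v = v := by
    rintro v ⟨w, rfl⟩ z hz
    rw [← Module.End.mul_apply, hSz z hz]
  have hV : finrank k V ≤ 2 * finrank k ↥L := by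
    have h1 : finrank k ↥(LinearMap.range S) + finrank k ↥L = finrank k V :=
      S.finrank_range_add_finrank_ker
    have hinjc : Function.Injective (ρ c) := fun a b hab => by
      have := congrArg (ρ c⁻¹) hab
      rwa [← Module.End.mul_apply, ← Module.End.mul_apply, ← map_mul, inv_mul_cancel, map_one,
        Module.End.one_apply, Module.End.one_apply] at this
    have h2 : (LinearMap.range S) ⊓ (LinearMap.range S).map (ρ c) = ⊥ := by
      rw [eq_bot_iff]
      rintro v ⟨hv, w, hw, rfl⟩
      refine (Submodule.mem_bot k).mpr (hgen _ (hW _ hv) fun z hz => ?_)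
      rw [← Module.End.mul_apply, ← map_mul, inv_mul_cancel_right, map_mul, Module.End.mul_apply,
        hW w hw z hz]
    have h3 := Submodule.finrank_sup_add_finrank_inf_eq (LinearMap.range S)
      ((LinearMap.range S).map (ρ c))
    rw [h2, finrank_bot, add_zero,
      ← (Submodule.equivMapOfInjective _ hinjc (LinearMap.range S)).finrank_eq] at h3
    have h4 := Submodule.finrank_le (LinearMap.range S ⊔ (LinearMap.range S).map (ρ c))
    omega
  have hL0 : L ≠ ⊥ := by
    obtain ⟨z, hz, hz1⟩ := hne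
    intro h0
    apply hz1
    ext v
    have : ρ z v - v ∈ L := by
      rw [hL, LinearMap.mem_ker, map_sub, ← Module.End.mul_apply, hSz' z hz, sub_self]
    rw [h0, Submodule.mem_bot, sub_eq_zero] at this
    exact this
  have hfix : ∀ g : G, (∀ z ∈ Z, ∀ v : V, ρ g (ρ z v - v) = ρ z v - v) →
      ∀ v ∈ L, ρ g v = v := by
    intro g hg v hv
    have hv0 : v = -(∑ z ∈ F, (ρ z v - v)) := by
      rw [Finset.sum_sub_distrib, Finset.sum_const, ← Nat.cast_smul_eq_nsmul k, hFk, one_smul,
        ← LinearMap.sum_apply, ← hS, LinearMap.mem_ker.mp hv, zero_sub, neg_neg]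
    calc ρ g v = ρ g (-(∑ z ∈ F, (ρ z v - v))) := by rw [← hv0]
      _ = -(∑ z ∈ F, (ρ z v - v)) := by
        rw [map_neg, map_sum, Finset.sum_congr rfl fun z hz => hg z ((hmem z).mp hz) v]
      _ = v := hv0.symm
  obtain ⟨h3, hz⟩ := pair_trivial (n := ρ n) (y := ρ y) p hp2
    (Group.isUnit n |>.map ρ) (hxn.map ρ) (by rw [← map_mul, hyn, map_mul, map_mul]) hxL
    (hfix y hyL) hnil hfree hL0 hV
  exact ⟨h3, fun g hgn hgL => hz (ρ g) (hgn.map ρ) (hfix g hgL)⟩

end Rep

section Conj

variable {Γ : Type*} [Group Γ]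

open scoped commutatorElement IsMulCommutative

/-- Conjugation on an abelian subgroup of exponent `p`, as a representation over `ZMod p`. -/
noncomputable def conjRep (p : ℕ) [Fact p.Prime] (V : Subgroup Γ) [IsMulCommutative V]
    [Module (ZMod p) (Additive V)] :
    Representation (ZMod p) ↥(Subgroup.normalizer (V : Set Γ)) (Additive V) where
  toFun g := AddMonoidHom.toZModLinearMap p
    (MonoidHom.toAdditive (Subgroup.normalizerMonoidHom V g).toMonoidHom)
  map_one' := LinearMap.ext fun v => by simp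
  map_mul' g h := LinearMap.ext fun v => by simp

lemma conjRep_coe (p : ℕ) [Fact p.Prime] (V : Subgroup Γ) [IsMulCommutative V]
    [Module (ZMod p) (Additive V)] (g : ↥(Subgroup.normalizer (V : Set Γ))) (v : Additive V) :
    ((Additive.toMul (conjRep p V g v) : V) : Γ) =
      g * ((Additive.toMul v : V) : Γ) * (g : Γ)⁻¹ := rfl

/-- The kill in group terms, with the module structure as an instance. -/
theorem kill_group_aux [Finite Γ] {p : ℕ} [Fact p.Prime] (hp2 : p ≠ 2) (V Z : Subgroup Γ)
    [IsMulCommutative V] [Module (ZMod p) (Additive V)]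
    {x y n c : Γ}
    (hZV : Z ≤ Subgroup.normalizer (V : Set Γ)) (hxV : x ∈ Subgroup.normalizer (V : Set Γ))
    (hyV : y ∈ Subgroup.normalizer (V : Set Γ)) (hnV : n ∈ Subgroup.normalizer (V : Set Γ))
    (hcV : c ∈ Subgroup.normalizer (V : Set Γ)) (hxN : x ∈ Subgroup.normalizer (Z : Set Γ))
    (hxp : x ^ p = 1) (hfpf : ∀ z ∈ Z, x * z * x⁻¹ = z → z = 1)
    (hne : ¬ Z ≤ Subgroup.centralizer (V : Set Γ))
    (hgen : ∀ v ∈ V, (∀ z ∈ Z, z * v = v * z) → (∀ z ∈ Z, c * z * c⁻¹ * v = v * (c * z * c⁻¹)) →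
      v = 1)
    (hyn : y * n = n * y * x) (hxn : x * n = n * x)
    (hyL : y ∈ Subgroup.centralizer ((⁅V, Z⁆ : Subgroup Γ) : Set Γ)) :
    p = 3 ∧ ∀ g ∈ Subgroup.normalizer (V : Set Γ), g * n = n * g →
      g ∈ Subgroup.centralizer ((⁅V, Z⁆ : Subgroup Γ) : Set Γ) → g ∈ Subgroup.centralizer (V : Set Γ) := by
  have : FiniteDimensional (ZMod p) (Additive V) := Module.Finite.of_finite
  set N := Subgroup.normalizer (V : Set Γ) with hN
  set ρ := conjRep p V with hρ
  have hone : ∀ g : N, (∀ u, ρ g u = u) ↔ (g : Γ) ∈ Subgroup.centralizer (V : Set Γ) := by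
    intro g
    rw [Subgroup.mem_centralizer_iff]
    constructor
    · intro h v hv
      have := congrArg (fun w => ((Additive.toMul w : V) : Γ)) (h (Additive.ofMul (⟨v, hv⟩ : V)))
      simp only [hρ, conjRep_coe, toMul_ofMul] at this
      exact (mul_inv_eq_iff_eq_mul.mp this).symm
    · intro h
      refine fun v => Additive.toMul.injective (Subtype.ext ?_)
      rw [hρ, conjRep_coe, mul_inv_eq_iff_eq_mul]
      exact (h _ (Additive.toMul v).2).symm
  have hcen : ∀ g : N, (g : Γ) ∈ Subgroup.centralizer ((⁅V, Z⁆ : Subgroup Γ) : Set Γ) →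
      ∀ z ∈ Z.subgroupOf N, ∀ v, ρ g (ρ z v - v) = ρ z v - v := by
    intro g hg z hz v
    refine Additive.toMul.injective (Subtype.ext ?_)
    have hw : ((Additive.toMul (ρ z v - v) : V) : Γ) ∈ ⁅V, Z⁆ := by
      rw [toMul_sub, Subgroup.coe_div, hρ, conjRep_coe, div_eq_mul_inv]
      rw [Subgroup.commutator_comm]
      exact Subgroup.commutator_mem_commutator hz (Additive.toMul v).2
    rw [hρ, conjRep_coe, mul_inv_eq_iff_eq_mul]
    exact (Subgroup.mem_centralizer_iff.mp hg _ hw).symm
  obtain ⟨h3, htriv⟩ := kill ρ p hp2 (Z.subgroupOf N) ⟨x, hxV⟩ ⟨y, hyV⟩ ⟨n, hnV⟩ ⟨c, hcV⟩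
    (Subgroup.mem_normalizer_iff.mpr fun z => by
      rw [Subgroup.mem_subgroupOf, Subgroup.mem_subgroupOf]
      exact Subgroup.mem_normalizer_iff.mp hxN z)
    (Subtype.ext hxp)
    (fun z hz h => Subtype.ext (hfpf z hz (congrArg Subtype.val h)))
    (by
      obtain ⟨z, hz, hzc⟩ := SetLike.not_le_iff_exists.mp hne
      exact ⟨⟨z, hZV hz⟩, hz, fun h => hzc ((hone ⟨z, hZV hz⟩).mp fun u => by rw [h]; rfl)⟩)
    (fun v h1 h2 => Additive.toMul.injective (Subtype.ext (hgen _ (Additive.toMul v).2
      (fun z hz => by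
        have := congrArg (fun w => ((Additive.toMul w : V) : Γ)) (h1 ⟨z, hZV hz⟩ hz)
        simp only [hρ, conjRep_coe] at this
        exact mul_inv_eq_iff_eq_mul.mp this)
      (fun z hz => by
        have := congrArg (fun w => ((Additive.toMul w : V) : Γ)) (h2 ⟨z, hZV hz⟩ hz)
        simp only [hρ, conjRep_coe] at this
        exact mul_inv_eq_iff_eq_mul.mp this))))
    (Subtype.ext hyn) (Subtype.ext hxn) (hcen _ hyL)
  exact ⟨h3, fun g hg hgn hgL =>
    (hone ⟨g, hg⟩).mp fun u => by
      rw [htriv ⟨g, hg⟩ (Subtype.ext hgn) (hcen ⟨g, hg⟩ hgL)]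
      rfl⟩

/-- The kill in group terms: `y` centralises `[V, Z]`. -/
theorem kill_group [Finite Γ] {p : ℕ} (hp : p.Prime) (hp2 : p ≠ 2) (V Z : Subgroup Γ)
    (hVc : ∀ u ∈ V, ∀ v ∈ V, u * v = v * u) (hVe : ∀ v ∈ V, v ^ p = 1) {x y n c : Γ}
    (hZV : Z ≤ Subgroup.normalizer (V : Set Γ)) (hxV : x ∈ Subgroup.normalizer (V : Set Γ))
    (hyV : y ∈ Subgroup.normalizer (V : Set Γ)) (hnV : n ∈ Subgroup.normalizer (V : Set Γ))
    (hcV : c ∈ Subgroup.normalizer (V : Set Γ)) (hxN : x ∈ Subgroup.normalizer (Z : Set Γ))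
    (hxp : x ^ p = 1) (hfpf : ∀ z ∈ Z, x * z * x⁻¹ = z → z = 1)
    (hne : ¬ Z ≤ Subgroup.centralizer (V : Set Γ))
    (hgen : ∀ v ∈ V, (∀ z ∈ Z, z * v = v * z) → (∀ z ∈ Z, c * z * c⁻¹ * v = v * (c * z * c⁻¹)) →
      v = 1)
    (hyn : y * n = n * y * x) (hxn : x * n = n * x)
    (hyL : y ∈ Subgroup.centralizer ((⁅V, Z⁆ : Subgroup Γ) : Set Γ)) :
    p = 3 ∧ ∀ g ∈ Subgroup.normalizer (V : Set Γ), g * n = n * g →
      g ∈ Subgroup.centralizer ((⁅V, Z⁆ : Subgroup Γ) : Set Γ) → g ∈ Subgroup.centralizer (V : Set Γ) := by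
  have := Fact.mk hp
  have : IsMulCommutative V := ⟨⟨fun u v => Subtype.ext (hVc u u.2 v v.2)⟩⟩
  exact @kill_group_aux _ _ _ p _ hp2 V Z this
    (AddCommGroup.zmodModule fun v => congrArg Additive.ofMul
      (show (Additive.toMul v) ^ p = 1 from Subtype.ext (by simpa using hVe _ (Additive.toMul v).2)))
    x y n c hZV hxV hyV hnV hcV hxN hxp hfpf hne hgen hyn hxn hyL

end Conj

end Cfsg.Agent.FlavellKill83
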