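import Mathlib
import Cfsg.Agent.Lib.FlavellBase8
import Cfsg.Agent.Lib.FlavellKill83
import Cfsg.Agent.Lib.CoprimeGen

/-!
The case that `D = [T ∩ C(Q), a]` is non-trivial for a maximal overgroup `H` of `T` with
`[H, a] = Q ⊔ T`: an element of order `p` centralising `N_S(P)` acts fixed point freely on `D` and
is a commutator `[y, n]` with `y` fixing `[V, D]`, which a dimension count forbids.
-/

set_option autoImplicit false
set_option linter.unusedSectionVars false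

open scoped commutatorElement Pointwise

namespace Cfsg.Agent.Flavell8

namespace KillB

open Subgroup Cfsg.Agent.CoprimeAction
open Cfsg.Agent.Flavell20 (fixA cen Facts)
open Cfsg.Agent.FlavellFrame20 (ISyl centralizer_zpowers zpowers_le_normalizer
  mem_normalizer_of_map_le inv_centralizer inv_inf inv_normalizer)

universe u

variable {Γ : Type u} [Group Γ] [Finite Γ]

/-- A non-trivial normal part of a `p`-group has an element outside `A₁` which is central modulo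
`A₁`. -/
theorem exists_central_outside {p : ℕ} [Fact p.Prime] {U A₁ : Subgroup Γ} (hU : IsPGroup p U) :
    ∀ A : Subgroup Γ, A ≤ U → U ≤ normalizer (A : Set Γ) → ¬ A ≤ A₁ →
      ∃ g ∈ A, g ∉ A₁ ∧ ∀ u ∈ U, ⁅g, u⁆ ∈ A₁ := by
  intro A
  induction hA : Nat.card A using Nat.strong_induction_on generalizing A with
  | _ m ih =>
    intro hAU hUA hne
    by_cases hle : ⁅A, U⁆ ≤ A₁
    · obtain ⟨g, hg, hg1⟩ := SetLike.not_le_iff_exists.1 hne
      exact ⟨g, hg, hg1, fun u hu => hle (commutator_mem_commutator hg hu)⟩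
    have hsub : ⁅A, U⁆ ≤ A := le_normalizer_iff_commutator_le_left.1 hUA
    have hlt : Nat.card (⁅A, U⁆ : Subgroup Γ) < m := by
      rw [← hA]
      refine lt_of_le_of_ne (card_le_of_le hsub) fun he => hne ?_
      haveI := hU.isNilpotent
      have heq := eq_of_le_of_card_ge hsub he.ge
      rw [CoprimeGen.eq_bot_of_le_commutator hAU heq.ge]
      exact bot_le
    obtain ⟨g, hg, hg1, hgu⟩ := ih _ hlt _ rfl (hsub.trans hAU)
      (normalizer_commutator_ge_right A U) hle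
    exact ⟨g, hsub hg, hg1, hgu⟩

/-- In `R ⊔ E` a `p`-subgroup lies in `R`. -/
theorem p_le {p : ℕ} [Fact p.Prime] (hp2 : p ≠ 2) {R E M : Subgroup Γ}
    (hE : E ≤ normalizer (R : Set Γ)) (hR : IsPGroup p R) (hE2 : IsPGroup 2 E) (hM : IsPGroup p M)
    (hMK : M ≤ R ⊔ E) : M ≤ R := by
  haveI := Fact.mk Nat.prime_two
  have hMR : M ≤ normalizer (R : Set Γ) := hMK.trans (sup_le le_normalizer hE)
  have hp := hM.to_sup_of_normal_right' hR hMR
  have hb : E ⊓ R = ⊥ := (IsPGroup.disjoint_of_ne 2 p hp2.symm E R hE2 hR).eq_bot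
  have hc := OffendersReplace.card_sup_mul_card_inf E R hE
  rw [hb, card_bot, mul_one, sup_comm] at hc
  have hd : Nat.card (M ⊔ R : Subgroup Γ) ∣ Nat.card E * Nat.card R :=
    hc ▸ card_dvd_of_le (sup_le hMK le_sup_left)
  have hcop : (Nat.card (M ⊔ R : Subgroup Γ)).Coprime (Nat.card E) :=
    IsPGroup.coprime_card_of_ne p 2 hp2 (M ⊔ R) E hp hE2
  have := eq_of_le_of_card_ge (le_sup_right : R ≤ M ⊔ R)
    (Nat.le_of_dvd Nat.card_pos (hcop.dvd_of_dvd_mul_left hd))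
  exact le_sup_left.trans this.ge

/-- A `2`-subgroup of `R ⊔ E` centralising `R` lies in `E`. -/
theorem two_le {p : ℕ} [Fact p.Prime] (hp2 : p ≠ 2) {R E U : Subgroup Γ}
    (hE : E ≤ normalizer (R : Set Γ)) (hR : IsPGroup p R) (hE2 : IsPGroup 2 E) (hU : IsPGroup 2 U)
    (hUK : U ≤ R ⊔ E) (hUR : U ≤ centralizer (R : Set Γ)) : U ≤ E := by
  haveI := Fact.mk Nat.prime_two
  obtain ⟨m, hm, hle⟩ := CoprimeExtra.exists_le_conj_of_le_sup hE hUK
    (IsPGroup.coprime_card_of_ne 2 p hp2.symm E R hE2 hR)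
    (IsPGroup.coprime_card_of_ne 2 p hp2.symm U R hU hR)
    (Or.inr (CoprimeAction.isSolvable_of_isPGroup hR))
  intro x hx
  have h1 := hle hx
  rw [mem_pointwise_smul_iff_inv_smul_mem, ← map_inv, MulAut.smul_def, MulAut.conj_apply,
    inv_inv] at h1
  have h2 : m * x = x * m := mem_centralizer_iff.1 (hUR hx) m hm
  rwa [show m⁻¹ * x * m = x by rw [mul_assoc, ← h2, inv_mul_cancel_left]] at h1

theorem mem_map_conj {H : Subgroup Γ} {c x : Γ} :
    x ∈ H.map (MulAut.conj c).toMonoidHom ↔ c⁻¹ * x * c ∈ H := by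
  constructor
  · rintro ⟨y, hy, rfl⟩
    simpa [mul_assoc] using hy
  · intro hx
    exact ⟨_, hx, by simp [mul_assoc]⟩

theorem cent_inv {g a : Γ} (hg : g * a = a * g) : a ∈ normalizer (centralizer ({g} : Set Γ) : Set Γ) := by
  rw [← centralizer_zpowers]
  refine inv_centralizer (le_normalizer_of_conj_mem (A := zpowers a) ?_ (mem_zpowers a))
  rintro b ⟨i, rfl⟩ _ ⟨j, rfl⟩
  have : Commute (a ^ i) (g ^ j) := (Commute.symm hg).zpow_zpow i j
  rw [this.eq, mul_inv_cancel_right]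
  exact zpow_mem (mem_zpowers g) j

variable {p r n : ℕ} {V X W T H Q : Subgroup Γ} {a : Γ}

/-- `D = [T ∩ C(Q), a]`. -/
abbrev DD (T Q : Subgroup Γ) (a : Γ) : Subgroup Γ := ⁅T ⊓ centralizer (Q : Set Γ), zpowers a⁆

theorem cent_ne (h : Ctx p r V X a) {G : Subgroup Γ} (hG : G ≤ X) (hp : IsPGroup p G)
    (hne : G ≠ ⊥) : X ⊓ centralizer (G : Set Γ) ≠ X := fun he =>
  hne (h.op G hG hp ((he.ge.trans inf_le_right).trans (centralizer_le_normalizer _)))

theorem decomp (h : Ctx p r V X a) {L : Subgroup Γ} (hL : L ≤ X) (hne : L ≠ X)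
    (ha : a ∈ normalizer (L : Set Γ)) :
    ∃ R : Subgroup Γ, R ≤ ⁅L, zpowers a⁆ ∧ IsPGroup p R ∧ a ∈ normalizer (R : Set Γ) ∧
      L ≤ normalizer (R : Set Γ) ∧
      (∀ M : Subgroup Γ, M ≤ ⁅L, zpowers a⁆ → IsPGroup p M → M ≤ R) ∧
      ∀ E₀ : Subgroup Γ, E₀ ≤ ⁅L, zpowers a⁆ → IsPGroup 2 E₀ → a ∈ normalizer (E₀ : Set Γ) →
        ∃ E : Subgroup Γ, E₀ ≤ E ∧ IsPGroup 2 E ∧ a ∈ normalizer (E : Set Γ) ∧
          E ≤ normalizer (R : Set Γ) ∧ ⁅E, zpowers a⁆ = E ∧ R ⊔ E = ⁅L, zpowers a⁆ := by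
  haveI := Fact.mk Nat.prime_two
  haveI := Fact.mk h.hp
  set K := ⁅L, zpowers a⁆ with hK
  have hKL : K ≤ L := comm_le h.toCore ha
  have haK : a ∈ normalizer (K : Set Γ) := (inv_comm h.toCore).1
  obtain ⟨P₀, hP₀K, hP₀p, hKP₀, k, hk⟩ := h.hmin L hL hne ha
  have hpk : ¬ p ∣ P₀.relIndex K := fun hd => h.hp2
    ((Nat.prime_dvd_prime_iff_eq h.hp Nat.prime_two).1 (h.hp.dvd_of_dvd_pow (hk ▸ hd)))
  obtain ⟨P, hPK, hPp, hKP, -, hall, hnorm⟩ :=
    FlavellFrame20.pclosed_facts (⟨P₀, hP₀K, hP₀p, hpk, hKP₀⟩ : Flavell20.PClosed p K)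
  refine ⟨P, hPK, hPp, hnorm a haK, fun g hg => hnorm g ((inv_comm h.toCore).2 hg), hall, ?_⟩
  intro E₀ hE₀ hE₀2 haE₀
  obtain ⟨E, hE, hE₀E⟩ := exists_iSyl_ge h.toCore (hKL.trans hL) haK hE₀ hE₀2 haE₀
  have hEP : E ≤ normalizer (P : Set Γ) := hE.le.trans hKP
  have hb : E ⊓ P = ⊥ := (IsPGroup.disjoint_of_ne 2 p h.hp2.symm E P hE.pgrp hPp).eq_bot
  have hPP : P₀ ≤ P := hall P₀ hP₀K hP₀p
  have hsup : P ⊔ E = K := by
    refine eq_of_le_of_card_ge (sup_le hPK hE.le) ?_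
    have hmul : Nat.card P₀ * 2 ^ k = Nat.card K := by
      have := card_mul_index (P₀.subgroupOf K)
      rwa [Nat.card_congr (subgroupOfEquivOfLe hP₀K).toEquiv,
        show (P₀.subgroupOf K).index = 2 ^ k from hk] at this
    have h2 : 2 ^ k ∣ Nat.card E := by
      rw [hE.card]
      exact Nat.pow_dvd_pow 2 ((Nat.prime_two.pow_dvd_iff_le_factorization Nat.card_pos.ne').1
        (hmul ▸ dvd_mul_left _ _))
    have := OffendersReplace.card_sup_mul_card_inf E P hEP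
    rw [hb, card_bot, mul_one, sup_comm] at this
    rw [this, ← hmul, mul_comm]
    exact Nat.mul_le_mul (Nat.le_of_dvd Nat.card_pos h2) (card_le_of_le hPP)
  refine ⟨E, hE₀E, hE.pgrp, hE.inv, hEP, le_antisymm (comm_le h.toCore hE.inv) ?_, hsup⟩
  -- `E = [E, a]` as `K = [K, a]`
  set E₁ := ⁅E, zpowers a⁆
  have hE₁E : E₁ ≤ E := comm_le h.toCore hE.inv
  have hK1 : K ≤ P ⊔ E₁ := by
    refine (comm_comm h.toCore hL ha).ge.trans ?_
    rw [commutator_le]
    intro g hg b hb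
    replace hg : g ∈ P ⊔ E := hsup ▸ (show g ∈ K from hg)
    rw [← SetLike.mem_coe, coe_mul_of_right_le_normalizer_left P E hEP] at hg
    obtain ⟨x, hx, w, hw, rfl⟩ := hg
    rw [show ⁅x * w, b⁆ = x * ⁅w, b⁆ * x⁻¹ * ⁅x, b⁆ by
      simp only [commutatorElement_def]; group]
    exact mul_mem (mul_mem (mul_mem (mem_sup_left hx)
      (mem_sup_right (commutator_mem_commutator hw hb))) (mem_sup_left (inv_mem hx)))
      (mem_sup_left (comm_le h.toCore (hnorm a haK) (commutator_mem_commutator hx hb)))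
  intro e he
  have hmem : e ∈ P ⊔ E₁ := hK1 (hE.le he)
  rw [← SetLike.mem_coe, coe_mul_of_right_le_normalizer_left P E₁ (hE₁E.trans hEP)] at hmem
  obtain ⟨x, hx, w, hw, hxw⟩ := hmem
  have : x ∈ E ⊓ P := ⟨by
    have : x = e * w⁻¹ := by rw [← hxw]; simp
    rw [this]
    exact mul_mem he (Subgroup.inv_mem _ (hE₁E hw)), hx⟩
  rw [hb, mem_bot] at this
  rw [← hxw, this]
  simpa using hw

section main

variable (h : Ctx p r V X a) (t : Two r n X W T a) (hs : Scalar p V X a) (m : Maxi p X T H Q a)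
  (hD : DD T Q a ≠ ⊥)

include h t hs m hD

theorem TQ : T ≤ normalizer (Q : Set Γ) := m.TH.trans m.HQ

theorem O_aux : T ⊓ centralizer (Q : Set Γ) ≤ X ∧
    a ∈ normalizer ((T ⊓ centralizer (Q : Set Γ) : Subgroup Γ) : Set Γ) :=
  ⟨inf_le_left.trans t.TX, inv_inf t.aT (inv_centralizer m.aQ)⟩

theorem D_le : DD T Q a ≤ T ⊓ centralizer (Q : Set Γ) :=
  comm_le h.toCore (O_aux h t hs m hD).2

theorem D_T : DD T Q a ≤ T := (D_le h t hs m hD).trans inf_le_left

theorem D_cent : DD T Q a ≤ centralizer (Q : Set Γ) := (D_le h t hs m hD).trans inf_le_right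

theorem D_inv : a ∈ normalizer (DD T Q a : Set Γ) := (inv_comm h.toCore).1

theorem D_gen : ⁅DD T Q a, zpowers a⁆ = DD T Q a :=
  comm_comm h.toCore (O_aux h t hs m hD).1 (O_aux h t hs m hD).2

theorem D_two : IsPGroup 2 (DD T Q a : Subgroup Γ) := t.T2.to_le (D_T h t hs m hD)

theorem D_fix : DD T Q a ⊓ centralizer ({a} : Set Γ) = cen (DD T Q a) :=
  (h.F.special _ ((D_T h t hs m hD).trans t.TX) (D_inv h t hs m hD) (D_two h t hs m hD)
    (D_gen h t hs m hD)).1

theorem cenD_comm_a {v : Γ} (hv : v ∈ cen (DD T Q a)) : v * a = a * v :=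
  mem_centralizer_singleton_iff.1 ((D_fix h t hs m hD).ge hv).2

theorem cenD_T {v : Γ} (hv : v ∈ cen (DD T Q a)) : v ∈ cen T :=
  t.fix.le ⟨D_T h t hs m hD hv.1, ((D_fix h t hs m hD).ge hv).2⟩

theorem Q_moved : ⁅Q, zpowers a⁆ ≠ ⊥ := by
  intro hb
  have hfix : Q ≤ centralizer ({a} : Set Γ) := by
    rw [← centralizer_zpowers]
    exact commutator_eq_bot_iff_le_centralizer.1 hb
  have hcen := Flavell20.A1.le_centralizer_of_fixed m.commQT
    (sup_le le_normalizer (TQ h t hs m hD)) hfix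
  have hle : Q ⊔ T ≤ T := by
    refine m.commQT.ge.trans ?_
    rw [commutator_le]
    intro g hg b hbz
    rw [← SetLike.mem_coe, coe_mul_of_right_le_normalizer_left Q T (TQ h t hs m hD)] at hg
    obtain ⟨q, hq, w, hw, rfl⟩ := hg
    have hqb : ⁅q, b⁆ = 1 := by
      have := commutator_mem_commutator hq hbz
      rwa [hb, mem_bot] at this
    rw [show ⁅q * w, b⁆ = q * ⁅w, b⁆ * q⁻¹ * ⁅q, b⁆ by
      simp only [commutatorElement_def]; group, hqb, mul_one]
    have hwb : ⁅w, b⁆ ∈ T := comm_le h.toCore t.aT (commutator_mem_commutator hw hbz)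
    have := mem_centralizer_iff.1 (hcen hq) _ (mem_sup_right hwb : ⁅w, b⁆ ∈ Q ⊔ T)
    rw [← this, mul_inv_cancel_right]
    exact hwb
  haveI := Fact.mk h.hp
  haveI := Fact.mk Nat.prime_two
  refine m.Qne (le_bot_iff.1 ?_)
  rw [← (IsPGroup.disjoint_of_ne p 2 h.hp2 Q T m.Qp t.T2).eq_bot]
  exact le_inf le_rfl (le_sup_left.trans hle)

theorem normO {x : Γ} (hx : x ∈ H) :
    x ∈ normalizer ((T ⊓ centralizer (Q : Set Γ) : Subgroup Γ) : Set Γ) := by
  haveI := Fact.mk h.hp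
  refine mem_normalizer_of_map_le ?_
  set O := T ⊓ centralizer (Q : Set Γ)
  have hxK : x ∈ normalizer ((Q ⊔ T : Subgroup Γ) : Set Γ) := m.comm ▸ (inv_comm h.toCore).2 hx
  have hle : O.map (MulAut.conj x).toMonoidHom ≤ Q ⊔ T := FlavellFrame20.conj_map_le hxK
    (inf_le_left.trans le_sup_right)
  have hc : O.map (MulAut.conj x).toMonoidHom ≤ centralizer (Q : Set Γ) :=
    FlavellFrame20.conj_map_le
      (CoprimeTools.le_normalizer_centralizer_of_le (zpowers_le.2 (m.HQ hx)) (mem_zpowers x))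
      inf_le_right
  exact le_inf (two_le h.hp2 (TQ h t hs m hD) m.Qp t.T2 ((t.T2.to_le inf_le_left).map _) hle hc) hc

theorem normD {x : Γ} (hx : x ∈ H) (hxa : x * a = a * x) : x ∈ normalizer (DD T Q a : Set Γ) := by
  refine mem_normalizer_of_map_le ?_
  rw [map_conj_comm (mem_centralizer_singleton_iff.2 hxa)]
  exact commutator_mono (Subgroup.map_le_iff_le_comap.2 fun y hy =>
    (mem_normalizer_iff.1 (normO h t hs m hD hx) y).1 hy) le_rfl

/-- A fixed `2`-element of `D` centre is not central in `X`. -/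
theorem cen_proper {v : Γ} (hv : v ∈ cen (DD T Q a)) (hv1 : v ≠ 1) :
    X ⊓ centralizer ({v} : Set Γ) ≠ X := by
  intro he
  have hvX : v ∈ X := t.TX (D_T h t hs m hD hv.1)
  set C := V ⊓ centralizer ({v} : Set Γ)
  have hva := cenD_comm_a h t hs m hD hv
  have hXC : X ≤ normalizer (centralizer ({v} : Set Γ) : Set Γ) :=
    (he.ge.trans inf_le_right).trans le_normalizer
  rcases h.irr C inf_le_left (CoprimeAction.le_normalizer_inf h.XV hXC)
    (inv_inf h.aV (cent_inv hva)) with hC | hC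
  · -- `v` inverts, so `[V, D] = V` and `[Q, a]` centralises `V`
    have hmap : ∀ u : V, ⁅(u : Γ), v⁆ ∈ V := fun u =>
      Flavell20.A1.comm_mem_of_normalizer (h.XV hvX) u.2
    have hinj : Function.Injective fun u : V => (⟨⁅(u : Γ), v⁆, hmap u⟩ : V) := by
      intro u u' huu
      have e : ⁅(u : Γ), v⁆ = ⁅(u' : Γ), v⁆ := congrArg Subtype.val huu
      have e1 : (u : Γ) * (v * (u : Γ)⁻¹ * v⁻¹) = (u' : Γ) * (v * (u' : Γ)⁻¹ * v⁻¹) := by
        simpa [commutatorElement_def, mul_assoc] using e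
      have hm : ∀ w : V, v * (w : Γ)⁻¹ * v⁻¹ ∈ V := fun w =>
        Flavell20.A1.conj_mem_of_normalizer (h.XV hvX) (inv_mem w.2)
      have hcomm := h.Vcomm
      have e2 : (u' : Γ)⁻¹ * u = (v * (u' : Γ)⁻¹ * v⁻¹) * (v * (u : Γ)⁻¹ * v⁻¹)⁻¹ := by
        rw [eq_mul_inv_iff_mul_eq, mul_assoc, e1, inv_mul_cancel_left]
      have e3 : (u' : Γ)⁻¹ * u = v * ((u' : Γ)⁻¹ * u) * v⁻¹ := by
        conv_lhs => rw [e2]
        group
      have hmem : (u' : Γ)⁻¹ * u ∈ C := ⟨Subgroup.mul_mem _ (Subgroup.inv_mem _ u'.2) u.2,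
        mem_centralizer_singleton_iff.2 (eq_mul_inv_iff_mul_eq.1 e3).symm.symm⟩
      rw [hC, mem_bot, inv_mul_eq_one] at hmem
      exact Subtype.ext hmem.symm
    have hVD : V ≤ ⁅V, DD T Q a⁆ := by
      intro w hw
      obtain ⟨u, hu⟩ := (Finite.surjective_of_injective hinj) ⟨w, hw⟩
      rw [← show ⁅(u : Γ), v⁆ = w from congrArg Subtype.val hu]
      exact commutator_mem_commutator u.2 hv.1
    have hsc := hs (DD T Q a) Q ((D_T h t hs m hD).trans t.TX) (m.QH.trans m.HX)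
      (D_inv h t hs m hD) m.aQ (D_two h t hs m hD) (D_gen h t hs m hD) m.Qp
      (le_centralizer_iff.1 (D_cent h t hs m hD))
    refine Q_moved h t hs m hD (le_bot_iff.1 ?_)
    rw [← h.faith]
    exact le_inf ((comm_le h.toCore m.aQ).trans (m.QH.trans m.HX))
      (hsc.trans (centralizer_le hVD))
  · have : v ∈ X ⊓ centralizer (V : Set Γ) := ⟨hvX, mem_centralizer_iff.2 fun u hu =>
      mem_centralizer_singleton_iff.1 (hC.ge hu).2⟩
    rw [h.faith, mem_bot] at this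
    exact hv1 this

theorem centH {v : Γ} (hv : v ∈ cen (DD T Q a)) (hv1 : v ≠ 1) :
    X ⊓ centralizer ({v} : Set Γ) ≤ H :=
  m.max _ inf_le_left (cen_proper h t hs m hD hv hv1)
    (inv_inf h.aX (cent_inv (cenD_comm_a h t hs m hD hv)))
    (le_inf t.TX fun w hw => mem_centralizer_singleton_iff.2
      (mem_centralizer_iff.1 (cenD_T h t hs m hD hv).2 w hw))
    (le_inf (m.QH.trans m.HX) fun q hq => mem_centralizer_singleton_iff.2
      (mem_centralizer_iff.1 (D_cent h t hs m hD hv.1) q hq))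

/-- A `p`-subgroup of the moved part of a proper subgroup containing `Q` and a `v` lies in `H`. -/
theorem moved_le {L : Subgroup Γ} (hL : L ≤ X) (hne : L ≠ X) (ha : a ∈ normalizer (L : Set Γ))
    (hQ : Q ≤ L) {v : Γ} (hv : v ∈ cen (DD T Q a)) (hv1 : v ≠ 1) (hvL : v ∈ L) {M : Subgroup Γ}
    (hM : M ≤ ⁅L, zpowers a⁆) (hMp : IsPGroup p M) : M ≤ H := by
  haveI := Fact.mk h.hp
  haveI := Fact.mk Nat.prime_two
  obtain ⟨R, hRK, hRp, -, hLR, hall, -⟩ := decomp h hL hne ha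
  have hRX : R ≤ X := hRK.trans ((comm_le h.toCore ha).trans hL)
  have hvO : v ∈ T ⊓ centralizer (Q : Set Γ) := D_le h t hs m hD hv.1
  have h2v : IsPGroup 2 (zpowers v : Subgroup Γ) := t.T2.to_le (zpowers_le.2 hvO.1)
  have key : zpowers v ≤ centralizer (R : Set Γ) := by
    refine CoprimeGen.le_centralizer_of_prod_action hRp m.Qp (fun hd => ?_)
      (zpowers_le.2 (hLR hvL)) (hQ.trans hLR) (zpowers_le.2 hvO.2) ?_
    · obtain ⟨k, hk⟩ := IsPGroup.iff_card.1 h2v
      exact h.hp2 ((Nat.prime_dvd_prime_iff_eq h.hp Nat.prime_two).1 (h.hp.dvd_of_dvd_pow (hk ▸ hd)))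
    · intro x hx
      have hxH : x ∈ H := m.normQ ⟨hRX hx.1, centralizer_le_normalizer _ hx.2⟩
      have h1 : ⁅x, v⁆ ∈ (T ⊓ centralizer (Q : Set Γ)) ⊓ R := by
        refine ⟨?_, ?_⟩
        · exact Subgroup.mul_mem _ (Flavell20.A1.conj_mem_of_normalizer (normO h t hs m hD hxH) hvO)
            (Subgroup.inv_mem _ hvO)
        · exact Flavell20.A1.comm_mem_of_normalizer (hLR hvL) hx.1
      rw [(IsPGroup.disjoint_of_ne 2 p h.hp2.symm _ R (t.T2.to_le inf_le_left) hRp).eq_bot,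
        mem_bot, commutatorElement_eq_one_iff_mul_comm] at h1
      rw [centralizer_zpowers]
      exact mem_centralizer_singleton_iff.2 h1
  have hle : R ≤ H := (le_inf hRX fun x hx => mem_centralizer_singleton_iff.2
    (mem_centralizer_iff.1 (key (mem_zpowers v)) x hx)).trans (centH h t hs m hD hv hv1)
  exact (hall _ hM hMp).trans hle

theorem exists_v : ∃ v ∈ cen (DD T Q a), v ≠ 1 := by
  haveI := Fact.mk Nat.prime_two
  obtain ⟨g, hg, hg1, hc⟩ := exists_central_outside (A₁ := ⊥) (D_two h t hs m hD) _ le_rfl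
    le_normalizer (fun e => hD (le_bot_iff.1 e))
  exact ⟨g, ⟨hg, mem_centralizer_iff.2 fun u hu =>
    (commutatorElement_eq_one_iff_mul_comm.1 (mem_bot.1 (hc u hu))).symm⟩, fun e => hg1 (e ▸ one_mem _)⟩

/-- A conjugating fixed element is in `H` as soon as it carries `T` into `H` and `Q` into `H`. -/
theorem mem_H_of_conj {c : Γ} (hcX : c ∈ X) (hca : c * a = a * c)
    (hle : (Q ⊔ T).map (MulAut.conj c).toMonoidHom ≤ H) : c ∈ H := by
  haveI := Fact.mk h.hp
  have hK : (Q ⊔ T).map (MulAut.conj c).toMonoidHom ≤ Q ⊔ T := by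
    rw [← m.comm]
    refine le_trans ?_ (commutator_mono hle le_rfl)
    rw [← map_conj_comm (mem_centralizer_singleton_iff.2 hca), m.commQT, m.comm]
  refine m.normQ ⟨hcX, mem_normalizer_of_map_le ?_⟩
  exact p_le h.hp2 (TQ h t hs m hD) m.Qp t.T2 (m.Qp.map _) ((map_mono le_sup_left).trans hK)

/-- A fixed element of a proper invariant subgroup containing `Q` and `D` lies in `H`. -/
theorem fixed_mem {L : Subgroup Γ} (hL : L ≤ X) (hne : L ≠ X) (ha : a ∈ normalizer (L : Set Γ))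
    (hQ : Q ≤ L) (hDL : DD T Q a ≤ L) {c : Γ} (hc : c ∈ L) (hca : c * a = a * c) : c ∈ H := by
  haveI := Fact.mk h.hp
  haveI := Fact.mk Nat.prime_two
  obtain ⟨v, hv, hv1⟩ := exists_v h t hs m hD
  set K := ⁅L, zpowers a⁆ with hK
  have hKL : K ≤ L := comm_le h.toCore ha
  have hDK : DD T Q a ≤ K := (D_gen h t hs m hD).ge.trans (commutator_mono hDL le_rfl)
  obtain ⟨R, hRK, hRp, haR, hLR, hall, hex⟩ := decomp h hL hne ha
  obtain ⟨E, hDE, hE2, haE, hER, hEgen, hsup⟩ :=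
    hex _ hDK (D_two h t hs m hD) (D_inv h t hs m hD)
  have hEK : E ≤ K := (le_sup_right : E ≤ R ⊔ E).trans hsup.le
  have hEX : E ≤ X := hEK.trans (hKL.trans hL)
  have hRX : R ≤ X := hRK.trans (hKL.trans hL)
  have hRH : R ≤ H := moved_le h t hs m hD hL hne ha hQ hv hv1 (hKL (hDK hv.1)) hRK hRp
  -- `E` centralises a fixed element of the centre of `D`
  have hEH : E ≤ H := by
    refine (le_inf hEX fun e he => ?_).trans (centH h t hs m hD hv hv1)
    have hvE : v ∈ cen E :=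
      (h.F.special E hEX haE hE2 hEgen).1.le ⟨hDE hv.1, ((D_fix h t hs m hD).ge hv).2⟩
    exact mem_centralizer_singleton_iff.2 (mem_centralizer_iff.1 hvE.2 e he)
  -- `D` centralises `R`
  have hRQ : ⁅R, zpowers a⁆ ≤ Q :=
    p_le h.hp2 (TQ h t hs m hD) m.Qp t.T2 (hRp.to_le (comm_le h.toCore haR))
      (m.comm ▸ commutator_mono hRH le_rfl)
  have hRD : R ≤ normalizer (DD T Q a : Set Γ) := by
    intro x hx
    obtain ⟨y, hy, z, hz, rfl⟩ := exists_mul_fixed (zpowers_le_normalizer haR)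
      (cop h.toCore hRX) (Or.inl (CoprimeAction.isSolvable_zpowers a)) hx
    rw [centralizer_zpowers] at hz
    refine mul_mem ?_ (normD h t hs m hD (hRH hz.1) (mem_centralizer_singleton_iff.1 hz.2))
    exact centralizer_le_normalizer _ (mem_centralizer_iff.2 fun d hd =>
      (mem_centralizer_iff.1 (D_cent h t hs m hD hd) y (hRQ hy)).symm)
  have hDR : DD T Q a ≤ centralizer (R : Set Γ) := by
    intro d hd
    rw [mem_centralizer_iff]
    intro x hx
    refine commutatorElement_eq_one_iff_mul_comm.1 (mem_bot.1 ?_)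
    rw [← (IsPGroup.disjoint_of_ne p 2 h.hp2 R _ hRp (D_two h t hs m hD)).eq_bot]
    exact ⟨Flavell20.A1.comm_mem_of_normalizer (hLR (hDL hd)) hx,
      Subgroup.mul_mem _ (Flavell20.A1.conj_mem_of_normalizer (hRD hx) hd) (Subgroup.inv_mem _ hd)⟩
  set E₀ := E ⊓ centralizer (R : Set Γ) with hE₀
  have hmap : ∀ g ∈ L, E₀.map (MulAut.conj g).toMonoidHom ≤ E₀ := by
    intro g hg
    have h1 : E₀.map (MulAut.conj g).toMonoidHom ≤ R ⊔ E := hsup.symm ▸
      FlavellFrame20.conj_map_le ((inv_comm h.toCore).2 hg) (inf_le_left.trans hEK)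
    have h2 : E₀.map (MulAut.conj g).toMonoidHom ≤ centralizer (R : Set Γ) :=
      FlavellFrame20.conj_map_le
        (CoprimeTools.le_normalizer_centralizer_of_le (zpowers_le.2 (hLR hg)) (mem_zpowers g))
        inf_le_right
    exact le_inf (two_le h.hp2 hER hRp hE2 ((hE2.to_le inf_le_left).map _) h1 h2) h2
  -- `E₀` centralises `Q`
  have hE₀Q : E₀ ≤ centralizer (Q : Set Γ) := by
    intro e he
    rw [mem_centralizer_iff]
    intro q hq
    refine commutatorElement_eq_one_iff_mul_comm.1 (mem_bot.1 ?_)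
    rw [← (IsPGroup.disjoint_of_ne p 2 h.hp2 Q E m.Qp hE2).eq_bot]
    refine ⟨Flavell20.A1.comm_mem_of_normalizer (m.HQ (hEH he.1)) hq, ?_⟩
    exact Subgroup.mul_mem _ (hmap q (hQ hq) ⟨e, he, rfl⟩).1 (Subgroup.inv_mem _ he.1)
  -- so `c` normalises `D`
  have hcD : c ∈ normalizer (DD T Q a : Set Γ) := by
    refine mem_normalizer_of_map_le ?_
    have hgen : (DD T Q a).map (MulAut.conj c).toMonoidHom =
        ⁅(DD T Q a).map (MulAut.conj c).toMonoidHom, zpowers a⁆ := by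
      rw [← map_conj_comm (mem_centralizer_singleton_iff.2 hca), D_gen h t hs m hD]
    have hle : (DD T Q a).map (MulAut.conj c).toMonoidHom ≤ E₀ :=
      (map_mono (le_inf hDE hDR)).trans (hmap c hc)
    have hQT : (DD T Q a).map (MulAut.conj c).toMonoidHom ≤ Q ⊔ T := by
      rw [hgen, ← m.comm]
      exact commutator_mono (hle.trans (inf_le_left.trans hEH)) le_rfl
    rw [hgen]
    exact commutator_mono (le_inf (two_le h.hp2 (TQ h t hs m hD) m.Qp t.T2
      ((D_two h t hs m hD).map _) hQT (hle.trans hE₀Q)) (hle.trans hE₀Q)) le_rfl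
  have hu : c * v * c⁻¹ ∈ cen (DD T Q a) := by
    refine (D_fix h t hs m hD).le ⟨(mem_normalizer_iff.1 hcD v).1 hv.1, ?_⟩
    refine Subgroup.mul_mem _ (mul_mem ?_ ((D_fix h t hs m hD).ge hv).2) (Subgroup.inv_mem _ ?_) <;>
      exact mem_centralizer_singleton_iff.2 hca
  refine mem_H_of_conj h t hs m hD (hL hc) hca ?_
  refine (le_inf ?_ ?_).trans (centH h t hs m hD hu (fun e => hv1 (conj_eq_one_iff.1 e)))
  · rintro _ ⟨w, hw, rfl⟩
    exact mul_mem (mul_mem (hL hc) (sup_le (m.QH.trans m.HX) t.TX hw)) (inv_mem (hL hc))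
  · rintro _ ⟨w, hw, rfl⟩
    refine mem_centralizer_singleton_iff.2 ?_
    have hwv : w ∈ centralizer ({v} : Set Γ) :=
      (sup_le (fun q hq => mem_centralizer_singleton_iff.2
          (mem_centralizer_iff.1 (D_cent h t hs m hD hv.1) q hq))
        (fun x hx => mem_centralizer_singleton_iff.2
          (mem_centralizer_iff.1 (cenD_T h t hs m hD hv).2 x hx)) : Q ⊔ T ≤ _) hw
    rw [mem_centralizer_singleton_iff] at hwv
    simp only [MulEquiv.coe_toMonoidHom, MulAut.conj_apply]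
    calc c * w * c⁻¹ * (c * v * c⁻¹) = c * (w * v) * c⁻¹ := by group
      _ = c * (v * w) * c⁻¹ := by rw [hwv]
      _ = c * v * c⁻¹ * (c * w * c⁻¹) := by group

omit hD in
theorem moved_p_le {M : Subgroup Γ} (hM : M ≤ H) (hMp : IsPGroup p M)
    (haM : a ∈ normalizer (M : Set Γ)) : ⁅M, zpowers a⁆ ≤ Q := by
  haveI := Fact.mk h.hp
  exact p_le h.hp2 (m.TH.trans m.HQ) m.Qp t.T2 (hMp.to_le (comm_le h.toCore haM))
    (m.comm ▸ commutator_mono hM le_rfl)

/-- An invariant Sylow `p`-subgroup of `H` contains `Q` and normalises `D`. -/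
theorem exists_P : ∃ P, ISyl p H P a ∧ Q ≤ P ∧ P ≤ normalizer (DD T Q a : Set Γ) := by
  haveI := Fact.mk h.hp
  obtain ⟨P, hP, hQP⟩ := exists_iSyl_ge h.toCore m.HX m.aH m.QH m.Qp m.aQ
  refine ⟨P, hP, hQP, fun x hx => ?_⟩
  obtain ⟨y, hy, z, hz, rfl⟩ := exists_mul_fixed (zpowers_le_normalizer hP.inv)
    (cop h.toCore (hP.le.trans m.HX)) (Or.inl (CoprimeAction.isSolvable_zpowers a)) hx
  rw [centralizer_zpowers] at hz
  refine mul_mem ?_ (normD h t hs m hD (hP.le hz.1) (mem_centralizer_singleton_iff.1 hz.2))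
  exact centralizer_le_normalizer _ (mem_centralizer_iff.2 fun d hd =>
    (mem_centralizer_iff.1 (D_cent h t hs m hD hd) y
      (moved_p_le h t hs m hP.le hP.pgrp hP.inv hy)).symm)

/-- The element of order `p` acting fixed point freely on the centre makes that centre large. -/
theorem two_lt_cen {A₁ : Subgroup Γ} {g : Γ} (hgA : g ∈ A₁) (hg1 : g ≠ 1)
    (hgD : g ∈ normalizer (DD T Q a : Set Γ)) (hga : g * a = a * g)
    (hfpf : ∀ v ∈ cen (DD T Q a), g * v = v * g → v = 1) :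
    ∀ v ∈ cen (DD T Q a), ∃ v' ∈ cen (DD T Q a), v' ≠ 1 ∧ v' ≠ v := by
  intro v hv
  obtain ⟨w, hw, hw1⟩ := exists_v h t hs m hD
  by_cases hwv : w = v
  · subst hwv
    refine ⟨g * w * g⁻¹, (D_fix h t hs m hD).le ⟨(mem_normalizer_iff.1 hgD w).1 hw.1, ?_⟩,
      fun e => hw1 (conj_eq_one_iff.1 e), fun e => hw1 (hfpf w hw (mul_inv_eq_iff_eq_mul.1 e))⟩
    exact Subgroup.mul_mem _ (Subgroup.mul_mem _ (mem_centralizer_singleton_iff.2 hga)
      ((D_fix h t hs m hD).ge hw).2) (Subgroup.inv_mem _ (mem_centralizer_singleton_iff.2 hga))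
  · exact ⟨w, hw, hw1, hwv⟩

theorem cenD_comm {u v : Γ} (hu : u ∈ cen (DD T Q a)) (hv : v ∈ cen (DD T Q a)) : u * v = v * u :=
  mem_centralizer_iff.1 hv.2 u hu.1

theorem cenD_sq {u : Γ} (hu : u ∈ cen (DD T Q a)) : u * u = 1 :=
  t.Zexp u (cenD_T h t hs m hD hu)

theorem cenD_noncyclic (hbig : ∀ v ∈ cen (DD T Q a), ∃ v' ∈ cen (DD T Q a), v' ≠ 1 ∧ v' ≠ v) :
    ¬ IsCyclic ↥(cen (DD T Q a)) := by
  intro hc
  obtain ⟨⟨g, hg⟩, hgen⟩ := hc.exists_generator
  obtain ⟨v', hv', hv1, hvg⟩ := hbig g hg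
  obtain ⟨k, hk⟩ := mem_zpowers_iff.1 (hgen ⟨v', hv'⟩)
  have hk' : g ^ k = v' := by simpa using congrArg Subtype.val hk
  have h2 : g ^ (2 : ℤ) = 1 := by rw [zpow_two]; exact cenD_sq h t hs m hD hg
  rcases Int.even_or_odd' k with ⟨j, rfl | rfl⟩
  · rw [zpow_mul, h2, one_zpow] at hk'
    exact hv1 hk'.symm
  · rw [zpow_add, zpow_mul, h2, one_zpow, one_mul, zpow_one] at hk'
    exact hvg hk'.symm

theorem gen_le {K : Subgroup Γ} (hnc : ¬ IsCyclic ↥(cen (DD T Q a))) (hKX : K ≤ X)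
    (hK : IsPGroup p K) (hn : cen (DD T Q a) ≤ normalizer (K : Set Γ)) : K ≤ H := by
  haveI := Fact.mk h.hp
  haveI := Fact.mk Nat.prime_two
  haveI : IsMulCommutative ↥(cen (DD T Q a)) :=
    ⟨⟨fun u v => Subtype.ext (cenD_comm h t hs m hD u.2 v.2)⟩⟩
  exact CoprimeGen.le_of_centralizers hnc hn
    (IsPGroup.coprime_card_of_ne 2 p h.hp2.symm _ K ((D_two h t hs m hD).to_le inf_le_left) hK)
    fun v hv hv1 => (inf_le_inf_right _ hKX).trans (centH h t hs m hD hv hv1)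

/-- Every fixed element outside `H` generates `X` with `D`. -/
theorem gen_X (hbig : ∀ v ∈ cen (DD T Q a), ∃ v' ∈ cen (DD T Q a), v' ≠ 1 ∧ v' ≠ v) {c : Γ}
    (hcX : c ∈ X) (hca : c * a = a * c) (hcH : c ∉ H) :
    DD T Q a ⊔ (DD T Q a).map (MulAut.conj c).toMonoidHom = X := by
  haveI := Fact.mk h.hp
  haveI := Fact.mk Nat.prime_two
  by_contra hne
  set D := DD T Q a
  set D' := D.map (MulAut.conj c).toMonoidHom with hD'
  have hnc := cenD_noncyclic h t hs m hD hbig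
  have hDX : D ≤ X := (D_T h t hs m hD).trans t.TX
  have hD'X : D' ≤ X := by
    rintro _ ⟨w, hw, rfl⟩
    exact mul_mem (mul_mem hcX (hDX hw)) (inv_mem hcX)
  have hD'gen : ⁅D', zpowers a⁆ = D' := by
    rw [hD', ← map_conj_comm (mem_centralizer_singleton_iff.2 hca), D_gen h t hs m hD]
  have haD' : a ∈ normalizer (D' : Set Γ) := hD'gen ▸ (inv_comm h.toCore (K := D')).1
  have haL : a ∈ normalizer ((D ⊔ D' : Subgroup Γ) : Set Γ) := by
    rw [mem_normalizer_iff_map_conj_eq, Subgroup.map_sup,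
      mem_normalizer_iff_map_conj_eq.1 (D_inv h t hs m hD), mem_normalizer_iff_map_conj_eq.1 haD']
  obtain ⟨R, hRK, hRp, -, hLR, -, hex⟩ := decomp h (sup_le hDX hD'X) hne haL
  set K := ⁅D ⊔ D', zpowers a⁆
  have hKL : K ≤ D ⊔ D' := comm_le h.toCore haL
  have hDK : D ≤ K := (D_gen h t hs m hD).ge.trans (commutator_mono le_sup_left le_rfl)
  have hD'K : D' ≤ K := hD'gen.ge.trans (commutator_mono le_sup_right le_rfl)
  have hRX : R ≤ X := hRK.trans (hKL.trans (sup_le hDX hD'X))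
  have hRH : R ≤ H := gen_le h t hs m hD hnc hRX hRp
    ((inf_le_left.trans (hDK.trans hKL)).trans hLR)
  obtain ⟨E, hDE, hE2, haE, -, hEgen, hsup⟩ :=
    hex _ hDK (D_two h t hs m hD) (D_inv h t hs m hD)
  obtain ⟨v, hv, hv1⟩ := exists_v h t hs m hD
  have hEX : E ≤ X := ((le_sup_right : E ≤ R ⊔ E).trans hsup.le).trans
    (hKL.trans (sup_le hDX hD'X))
  have hEH : E ≤ H := by
    refine (le_inf hEX fun e he => ?_).trans (centH h t hs m hD hv hv1)
    have hvE : v ∈ cen E :=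
      (h.F.special E hEX haE hE2 hEgen).1.le ⟨hDE hv.1, ((D_fix h t hs m hD).ge hv).2⟩
    exact mem_centralizer_singleton_iff.2 (mem_centralizer_iff.1 hvE.2 e he)
  have hD'H : D' ≤ H := hD'K.trans (hsup.ge.trans (sup_le hRH hEH))
  -- move `D'` into `T` by a fixed element of `H`
  have hQT : Q ⊔ T ≤ X := sup_le (m.QH.trans m.HX) t.TX
  have haQT : a ∈ normalizer ((Q ⊔ T : Subgroup Γ) : Set Γ) :=
    m.comm ▸ (inv_comm h.toCore).1
  have hD'QT : D' ≤ Q ⊔ T := m.comm ▸ (hD'gen.ge.trans (commutator_mono hD'H le_rfl))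
  obtain ⟨E₂, hE₂, hD'E₂⟩ := exists_iSyl_ge h.toCore hQT haQT hD'QT
    ((D_two h t hs m hD).map _) haD'
  have hTsyl : ISyl 2 (Q ⊔ T) T a := by
    refine ⟨le_sup_right, t.T2, t.aT, ?_⟩
    have hb : T ⊓ Q = ⊥ := (IsPGroup.disjoint_of_ne 2 p h.hp2.symm T Q t.T2 m.Qp).eq_bot
    have := OffendersReplace.card_sup_mul_card_inf T Q (TQ h t hs m hD)
    rw [hb, card_bot, mul_one, sup_comm] at this
    obtain ⟨i, hi⟩ := IsPGroup.iff_card.1 t.T2
    obtain ⟨j, hj⟩ := IsPGroup.iff_card.1 m.Qp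
    rw [this, hi, hj, Nat.factorization_mul (by positivity) (pow_ne_zero _ h.hp.ne_zero),
      Nat.Prime.factorization_pow h.hp, Nat.Prime.factorization_pow Nat.prime_two,
      Finsupp.add_apply, Finsupp.single_eq_same, Finsupp.single_eq_of_ne h.hp2.symm, add_zero]
  obtain ⟨q, ⟨hqQT, hqa'⟩, hqE⟩ := iSyl_conj h.toCore hQT haQT hTsyl hE₂
  have hqH : q ∈ H := sup_le m.QH m.TH hqQT
  have hqa : q * a = a * q := mem_centralizer_singleton_iff.1 hqa'
  set d := q⁻¹ * c with hd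
  have hdX : d ∈ X := mul_mem (inv_mem (hQT hqQT)) hcX
  have hda : d * a = a * d :=
    ((show Commute q a from hqa).inv_left.mul_left (show Commute c a from hca)).eq
  have hdH : d ∉ H := fun hh => hcH (by
    have := mul_mem hqH hh
    rwa [hd, mul_inv_cancel_left] at this)
  have hu : d * v * d⁻¹ ∈ T := by
    have h1 : c * v * c⁻¹ ∈ E₂ := hD'E₂ ⟨v, hv.1, rfl⟩
    rw [← hqE, mem_map_conj] at h1
    simpa [hd, mul_assoc] using h1
  have hva : d * v * d⁻¹ * a = a * (d * v * d⁻¹) :=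
    (((show Commute d a from hda).mul_left
      (show Commute v a from cenD_comm_a h t hs m hD hv)).mul_left
      (show Commute d a from hda).inv_left).eq
  have huT : d * v * d⁻¹ ∈ cen T := t.fix.le ⟨hu, mem_centralizer_singleton_iff.2 hva⟩
  -- `T` lies in `d H d⁻¹`
  set H' := H.map (MulAut.conj d).toMonoidHom with hH'
  have hTH' : T ≤ H' := by
    intro w hw
    rw [hH', mem_map_conj]
    refine centH h t hs m hD hv hv1 ⟨Subgroup.mul_mem _ (Subgroup.mul_mem _ (Subgroup.inv_mem _ hdX) (t.TX hw)) hdX,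
      mem_centralizer_singleton_iff.2 ?_⟩
    have := mem_centralizer_iff.1 huT.2 w hw
    calc d⁻¹ * w * d * v = d⁻¹ * (w * (d * v * d⁻¹)) * d := by group
      _ = d⁻¹ * (d * v * d⁻¹ * w) * d := by rw [this]
      _ = v * (d⁻¹ * w * d) := by group
  set Q' := Q.map (MulAut.conj d).toMonoidHom with hQ'
  set T' := T.map (MulAut.conj d).toMonoidHom with hT'
  have hH'Q' : H' ≤ normalizer (Q' : Set Γ) := by
    rw [hH', hQ']
    rintro _ ⟨g, hg, rfl⟩
    exact le_normalizer_map (MulAut.conj d).toMonoidHom ⟨g, m.HQ hg, rfl⟩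
  have hQ'X : Q' ≤ X := by
    rintro _ ⟨w, hw, rfl⟩
    exact mul_mem (mul_mem hdX (m.HX (m.QH hw))) (inv_mem hdX)
  have hQ'H : Q' ≤ H := gen_le h t hs m hD hnc hQ'X (m.Qp.map _)
    ((inf_le_left.trans (D_T h t hs m hD)).trans (hTH'.trans hH'Q'))
  -- `[H', a] = Q' ⊔ T'` has `Q' ⊔ T` of the same order
  have hcomm' : ⁅H', zpowers a⁆ = (Q ⊔ T).map (MulAut.conj d).toMonoidHom := by
    rw [hH', ← map_conj_comm (mem_centralizer_singleton_iff.2 hda), m.comm]
  have hle : Q' ⊔ T ≤ (Q ⊔ T).map (MulAut.conj d).toMonoidHom :=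
    sup_le (map_mono le_sup_left) (hcomm' ▸ (t.gen.ge.trans (commutator_mono hTH' le_rfl)))
  have hb : T ⊓ Q' = ⊥ := (IsPGroup.disjoint_of_ne 2 p h.hp2.symm T Q' t.T2 (m.Qp.map _)).eq_bot
  have hb' : T ⊓ Q = ⊥ := (IsPGroup.disjoint_of_ne 2 p h.hp2.symm T Q t.T2 m.Qp).eq_bot
  have e1 := OffendersReplace.card_sup_mul_card_inf T Q' (hTH'.trans hH'Q')
  have e2 := OffendersReplace.card_sup_mul_card_inf T Q (TQ h t hs m hD)
  rw [hb, card_bot, mul_one, sup_comm, hQ', card_map_of_injective (MulAut.conj d).injective] at e1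
  rw [hb', card_bot, mul_one, sup_comm] at e2
  have heq := eq_of_le_of_card_ge hle (by
    rw [card_map_of_injective (MulAut.conj d).injective, e1, e2])
  exact hdH (mem_H_of_conj h t hs m hD hdX hda (heq ▸ sup_le hQ'H m.TH))

/-- Some fixed element is outside `H`: otherwise `X = H S` and the conjugates of `x` stay in `H`. -/
theorem exists_fixed_outside {S : Subgroup Γ} (hS : ISyl p X S a) {x : Γ} (hxH : x ∈ H)
    (hx1 : x ≠ 1) (hxp : x ^ p = 1) (hxa : x * a = a * x) (hxS : ∀ s ∈ S, s * x = x * s) :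
    ∃ c ∈ X, c * a = a * c ∧ c ∉ H := by
  haveI := Fact.mk h.hp
  haveI := Fact.mk Nat.prime_two
  by_contra hcon
  push Not at hcon
  have hC : fixA X a ≤ H := fun c hc => hcon c hc.1 (mem_centralizer_singleton_iff.1 hc.2)
  have hWH : W ≤ H := by
    intro w hw
    obtain ⟨y, hy, z, hz, rfl⟩ := exists_mul_fixed (zpowers_le_normalizer t.syl.inv)
      (cop h.toCore t.syl.le) (Or.inl (CoprimeAction.isSolvable_zpowers a)) hw
    rw [centralizer_zpowers] at hz
    exact mul_mem (m.TH (t.Tgen ▸ hy)) (hC ⟨t.syl.le hz.1, hz.2⟩)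
  -- `X = H S` as a set
  set M : Set Γ := (H : Set Γ) * (S : Set Γ)
  have hsub : M ⊆ X := by
    rintro _ ⟨y, hy, s, hs', rfl⟩
    exact X.mul_mem (m.HX hy) (hS.le hs')
  have hfull : (X : Set Γ) ⊆ M := by
    have hset := ChermakDelgado.card_mul_card_eq H S
    have hHS : Nat.card X * Nat.card (H ⊓ S : Subgroup Γ) ≤ Nat.card H * Nat.card S := by
      refine Nat.le_of_dvd (Nat.mul_pos Nat.card_pos Nat.card_pos) ?_
      rw [← Nat.factorization_le_iff_dvd (mul_ne_zero Nat.card_pos.ne' Nat.card_pos.ne')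
        (mul_ne_zero Nat.card_pos.ne' Nat.card_pos.ne')]
      intro q
      rw [Nat.factorization_mul Nat.card_pos.ne' Nat.card_pos.ne',
        Nat.factorization_mul Nat.card_pos.ne' Nat.card_pos.ne', Finsupp.add_apply, Finsupp.add_apply]
      have hle : ∀ {A B : Subgroup Γ}, A ≤ B →
          (Nat.card A).factorization q ≤ (Nat.card B).factorization q := fun hAB =>
        (Nat.factorization_le_iff_dvd Nat.card_pos.ne' Nat.card_pos.ne').2 (card_dvd_of_le hAB) q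
      by_cases hq : q.Prime
      swap
      · simp [Nat.factorization_eq_zero_of_not_prime _ hq]
      haveI := Fact.mk hq
      by_cases hqp : q = p
      · subst hqp
        have e1 : (Nat.card S).factorization q = (Nat.card X).factorization q := by
          rw [hS.card, Nat.Prime.factorization_pow hq, Finsupp.single_eq_same]
        have := hle (inf_le_left : H ⊓ S ≤ H)
        omega
      obtain ⟨E, hE⟩ := exists_iSyl h.toCore le_rfl h.aX q
      have hEH : Nat.card E ∣ Nat.card H := by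
        by_cases hq2 : q = 2
        · subst hq2
          have := card_dvd_of_le hWH
          rwa [t.syl.card, ← hE.card] at this
        · exact card_dvd_of_le ((le_inf hE.le
            (h.F.oddFix q hq hq2 hqp E hE.le hE.inv hE.pgrp)).trans hC)
      have e1 : (Nat.card X).factorization q ≤ (Nat.card H).factorization q :=
        (hq.pow_dvd_iff_le_factorization Nat.card_pos.ne').1 (hE.card ▸ hEH)
      have := hle (inf_le_right : H ⊓ S ≤ S)
      omega
    rw [hset, mul_comm, Nat.card_coe_set_eq] at hHS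
    refine (Set.eq_of_subset_of_ncard_le hsub ?_ (Set.toFinite _)).ge
    rw [← Nat.card_coe_set_eq]
    exact Nat.le_of_mul_le_mul_left hHS Nat.card_pos
  -- the conjugates of `x` form a normal subgroup inside `H`
  set N := closure {y : Γ | ∃ g ∈ X, g * x * g⁻¹ = y}
  have hNH : N ≤ H := by
    rw [closure_le]
    rintro _ ⟨g, hg, rfl⟩
    obtain ⟨y, hy, s, hs', rfl⟩ := hfull hg
    have : y * s * x * (y * s)⁻¹ = y * x * y⁻¹ := by
      rw [mul_assoc y s x, hxS s hs']; group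
    rw [SetLike.mem_coe]
    show y * s * x * (y * s)⁻¹ ∈ H
    rw [this]
    exact mul_mem (mul_mem hy hxH) (inv_mem hy)
  have hnorm : ∀ k, (∀ g ∈ X, ∃ g' ∈ X, k * (g * x * g⁻¹) * k⁻¹ = g' * x * g'⁻¹) →
      k ∈ normalizer (N : Set Γ) := by
    intro k hk
    refine mem_normalizer_of_map_le ?_
    rw [MonoidHom.map_closure, closure_le]
    rintro _ ⟨_, ⟨g, hg, rfl⟩, rfl⟩
    obtain ⟨g', hg', he⟩ := hk g hg
    exact subset_closure ⟨g', hg', he.symm⟩
  have hXN : X ≤ normalizer (N : Set Γ) := fun k hk =>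
    hnorm k fun g hg => ⟨k * g, mul_mem hk hg, by group⟩
  have haN : a ∈ normalizer (N : Set Γ) := hnorm a fun g hg =>
    ⟨a * g * a⁻¹, Flavell20.A1.conj_mem_of_normalizer h.aX hg, by
      calc a * (g * x * g⁻¹) * a⁻¹ = a * g * x * (g⁻¹ * a⁻¹) := by group
        _ = a * g * (a⁻¹ * (x * a)) * (g⁻¹ * a⁻¹) := by rw [hxa]; group
        _ = a * g * a⁻¹ * x * (a * g * a⁻¹)⁻¹ := by group⟩
  have hcen := h.central N (hNH.trans m.HX)
    (fun e => m.Hne (le_antisymm m.HX (e.ge.trans hNH))) hXN haN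
  have hxN : x ∈ N := subset_closure ⟨1, one_mem _, by group⟩
  refine cent_ne h (zpowers_le.2 (m.HX hxH)) (IsPGroup.of_card (n := 1) ?_)
    (fun e => hx1 (zpowers_eq_bot.1 e)) (inf_eq_left.2 ?_)
  · rw [Nat.card_zpowers, orderOf_eq_prime hxp hx1, pow_one]
  · rw [centralizer_zpowers]
    exact fun g hg => mem_centralizer_singleton_iff.2 (mem_centralizer_iff.1 (hcen hxN) g hg)

/-- A fixed point free element of order `3` cannot act on a group of order `3`. -/
theorem three_fixed {b : Γ} (hb : b ^ 3 = 1) (hz : a * b * a⁻¹ ∈ zpowers b) (hr2 : Odd r)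
    (ha : a ^ r = 1) : a * b = b * a := by
  obtain ⟨k, hk⟩ := mem_zpowers_iff.1 hz
  have hb3 : b ^ (3 : ℤ) = 1 := by exact_mod_cast hb
  have hmod : ∀ j : ℤ, b ^ j = b ^ (j % 3) := fun j => by
    conv_lhs => rw [← Int.emod_add_mul_ediv j 3, zpow_add, zpow_mul, hb3, one_zpow, mul_one]
  have hcase : a * b * a⁻¹ = 1 ∨ a * b * a⁻¹ = b ∨ a * b * a⁻¹ = b⁻¹ := by
    rw [← hk, hmod k]
    have h1 := Int.emod_nonneg k (show (3 : ℤ) ≠ 0 by norm_num)
    have h2 := Int.emod_lt_of_pos k (show (0 : ℤ) < 3 by norm_num)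
    rcases (show k % 3 = 0 ∨ k % 3 = 1 ∨ k % 3 = 2 by omega) with e | e | e
    · left; rw [e, zpow_zero]
    · right; left; rw [e, zpow_one]
    · right; right
      rw [e, show (2 : ℤ) = 3 + -1 by norm_num, zpow_add, hb3, one_mul, zpow_neg_one]
  rcases hcase with e | e | e
  · rw [conj_eq_one_iff.1 e, mul_one, one_mul]
  · exact mul_inv_eq_iff_eq_mul.1 e
  · have h2 : Commute (a ^ 2) b := by
      show a ^ 2 * b = b * a ^ 2
      refine mul_inv_eq_iff_eq_mul.1 ?_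
      calc a ^ 2 * b * (a ^ 2)⁻¹ = a * (a * b * a⁻¹) * a⁻¹ := by rw [sq]; group
        _ = (a * b * a⁻¹)⁻¹ := by conv_lhs => rw [e]
                                  group
        _ = b := by rw [e, inv_inv]
    obtain ⟨j, hj⟩ := hr2
    have hh := h2.pow_left (j + 1)
    rw [← pow_mul, show 2 * (j + 1) = r + 1 by omega, pow_succ, ha, one_mul] at hh
    exact hh.eq

theorem false_of : False := by
  haveI := Fact.mk h.hp
  haveI := Fact.mk Nat.prime_two
  have hodd : Odd r := t.rn ▸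
    (Nat.even_pow.2 ⟨even_two, by have := t.n1; omega⟩).add_one
  have har : a ^ r = 1 := by rw [← h.orda]; exact pow_orderOf_eq_one a
  set D := DD T Q a with hDdef
  have hDX : D ≤ X := (D_T h t hs m hD).trans t.TX
  obtain ⟨P, hP, hQP, hPD⟩ := exists_P h t hs m hD
  have hPX : P ≤ X := hP.le.trans m.HX
  obtain ⟨S, hS, hPS⟩ := exists_iSyl_ge h.toCore le_rfl h.aX hPX hP.pgrp hP.inv
  have hPmax : ∀ M : Subgroup Γ, P ≤ M → M ≤ H → IsPGroup p M → M ≤ P := by
    intro M hPM hMH hMp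
    refine (eq_of_le_of_card_ge hPM ?_).ge
    obtain ⟨k, hk⟩ := IsPGroup.iff_card.1 hMp
    rw [hk, hP.card]
    exact Nat.pow_le_pow_right h.hp.pos
      ((h.hp.pow_dvd_iff_le_factorization Nat.card_pos.ne').1 (hk ▸ card_dvd_of_le hMH))
  -- the normaliser of `P` in `S`
  set U := S ⊓ normalizer (P : Set Γ) with hU
  have hUX : U ≤ X := inf_le_left.trans hS.le
  have hUp : IsPGroup p U := hS.pgrp.to_le inf_le_left
  have haU : a ∈ normalizer (U : Set Γ) := inv_inf hS.inv (inv_normalizer hP.inv)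
  have hPU : P ≤ U := le_inf hPS le_normalizer
  have hUne : ¬ U ≤ H := by
    intro hle
    have hUP : U ≤ P := hPmax U hPU hle hUp
    haveI := hS.pgrp.isNilpotent
    have hlt : P.subgroupOf S < ⊤ := lt_top_iff_ne_top.2 fun e =>
      m.notFull S hS ((subgroupOf_eq_top.1 e).trans hP.le)
    have := Group.normalizerCondition_of_isNilpotent (G := S) _ hlt
    obtain ⟨g, hg, hgP⟩ := SetLike.exists_of_lt this
    refine hgP (mem_subgroupOf.2 (hUP ⟨g.2, ?_⟩))
    refine mem_normalizer_of_map_le ?_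
    rintro _ ⟨w, hw, rfl⟩
    exact (mem_normalizer_iff.1 hg ⟨w, hPS hw⟩).1 hw
  -- the fixed part of `U` lies in `P`
  have hA0 : ⁅P, zpowers a⁆ ≤ Q := moved_p_le h t hs m hP.le hP.pgrp hP.inv
  have hA0ne : (⁅P, zpowers a⁆ : Subgroup Γ) ≠ ⊥ := fun e =>
    Q_moved h t hs m hD (le_bot_iff.1 (e ▸ commutator_mono hQP le_rfl))
  have hUfix : U ⊓ centralizer ({a} : Set Γ) ≤ H := by
    intro c hc
    have hca : c * a = a * c := mem_centralizer_singleton_iff.1 hc.2
    refine fixed_mem h t hs m hD (L := X ⊓ normalizer ((⁅P, zpowers a⁆ : Subgroup Γ) : Set Γ))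
      inf_le_left (fun e => hA0ne (h.op _ (hA0.trans (m.QH.trans m.HX)) (m.Qp.to_le hA0)
        (e.ge.trans inf_le_right)))
      (inv_inf h.aX (inv_normalizer (inv_comm h.toCore).1))
      (le_inf (m.QH.trans m.HX) (hQP.trans (inv_comm h.toCore).2))
      (le_inf hDX ?_) ⟨hUX hc.1, ?_⟩ hca
    · exact (le_centralizer_iff.1 (hA0.trans (le_centralizer_iff.1 (D_cent h t hs m hD)))).trans
        (centralizer_le_normalizer _)
    · refine mem_normalizer_of_map_le ?_
      rw [map_conj_comm hc.2]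
      exact commutator_mono (map_le_iff_le_comap.2 fun w hw =>
        (mem_normalizer_iff.1 hc.1.2 w).1 hw) le_rfl
  have hUa : ¬ ⁅U, zpowers a⁆ ≤ H := fun hle => hUne fun g hg => by
    obtain ⟨y, hy, z, hz, rfl⟩ := exists_mul_fixed (zpowers_le_normalizer haU)
      (cop h.toCore hUX) (Or.inl (CoprimeAction.isSolvable_zpowers a)) hg
    rw [centralizer_zpowers] at hz
    exact mul_mem (hle hy) (hUfix hz)
  -- no proper invariant subgroup contains `Q`, `[U, a]` and some `v`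
  have hno : ∀ L : Subgroup Γ, L ≤ X → L ≠ X → a ∈ normalizer (L : Set Γ) → Q ≤ L →
      ⁅U, zpowers a⁆ ≤ L → ∀ v ∈ cen D, v ≠ 1 → v ∉ L := by
    intro L hL hne ha hQ hUL v hv hv1 hvL
    refine hUa (moved_le h t hs m hD hL hne ha hQ hv hv1 hvL ?_
      (hUp.to_le (comm_le h.toCore haU)))
    exact (comm_comm h.toCore hUX haU).ge.trans (commutator_mono hUL le_rfl)
  -- `A`: the elements of order `p` in the centre of `P`
  let A : Subgroup Γ :=
    { carrier := {g | g ∈ P ∧ (∀ u ∈ P, u * g = g * u) ∧ g ^ p = 1}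
      one_mem' := ⟨one_mem _, fun u _ => by simp, one_pow _⟩
      mul_mem' := fun {g g'} hg hg' => ⟨mul_mem hg.1 hg'.1, fun u hu => by
          rw [← mul_assoc, hg.2.1 u hu, mul_assoc, hg'.2.1 u hu, mul_assoc],
        by rw [(show Commute g g' from (hg.2.1 g' hg'.1).symm).mul_pow, hg.2.2, hg'.2.2, one_mul]⟩
      inv_mem' := fun {g} hg => ⟨inv_mem hg.1, fun u hu =>
          ((show Commute u g from hg.2.1 u hu).inv_right).eq,
        by rw [inv_pow, hg.2.2, inv_one]⟩ }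
  have hAP : A ≤ P := fun g hg => hg.1
  have hAnorm : ∀ g ∈ normalizer (P : Set Γ), g ∈ normalizer (A : Set Γ) := by
    intro g hg
    refine mem_normalizer_of_map_le ?_
    rintro _ ⟨w, hw, rfl⟩
    refine ⟨(mem_normalizer_iff.1 hg w).1 hw.1, fun u hu => ?_, ?_⟩
    · have h1 := hw.2.1 (g⁻¹ * u * g) ((mem_normalizer_iff''.1 hg u).1 hu)
      simp only [MulEquiv.coe_toMonoidHom, MulAut.conj_apply]
      calc u * (g * w * g⁻¹) = g * (g⁻¹ * u * g * w) * g⁻¹ := by group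
        _ = g * (w * (g⁻¹ * u * g)) * g⁻¹ := by rw [h1]
        _ = g * w * g⁻¹ * u := by group
    · simp only [MulEquiv.coe_toMonoidHom, MulAut.conj_apply]
      rw [conj_pow, hw.2.2, mul_one, mul_inv_cancel]
  have hUA : U ≤ normalizer (A : Set Γ) := fun g hg => hAnorm g hg.2
  have haA : a ∈ normalizer (A : Set Γ) := hAnorm a hP.inv
  have hordp : ∀ {K : Subgroup Γ}, IsPGroup p K → ∀ g ∈ K, g ≠ 1 →
      ∃ k : ℕ, (g ^ k) ^ p = 1 ∧ g ^ k ≠ 1 := by
    intro K hK g hg hg1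
    obtain ⟨k, hk⟩ := hK ⟨g, hg⟩
    have hk' : g ^ p ^ k = 1 := congrArg Subtype.val hk
    induction k with
    | zero => exact absurd (by simpa using hk') hg1
    | succ k ih =>
      by_cases hb : g ^ p ^ k = 1
      · exact ih (Subtype.ext hb) hb
      · exact ⟨p ^ k, by rwa [← pow_mul, ← pow_succ], hb⟩
  -- `A ∩ Q ≠ 1`
  obtain ⟨z₀, hz₀, hz₀1⟩ : ∃ z ∈ A, z ∈ Q ∧ z ≠ 1 := by
    obtain ⟨g, hg, hg1, hc⟩ := exists_central_outside (A₁ := ⊥) hP.pgrp Q hQP
      (hP.le.trans m.HQ) (fun e => m.Qne (le_bot_iff.1 e))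
    obtain ⟨k, hk, hk1⟩ := hordp m.Qp g hg (fun e => hg1 (e ▸ one_mem _))
    refine ⟨g ^ k, ⟨pow_mem (hQP hg) k, fun u hu => ?_, hk⟩, pow_mem hg k, hk1⟩
    exact ((show Commute u g from (commutatorElement_eq_one_iff_mul_comm.1
      (mem_bot.1 (hc u hu))).symm).pow_right k).eq
  -- `A₁`
  set A₁ := A ⊓ centralizer (U : Set Γ) with hA₁
  have hA₁ne : A₁ ≠ ⊥ := by
    obtain ⟨g, hg, hg1, hc⟩ := exists_central_outside (A₁ := ⊥) hUp A (hAP.trans hPU) hUA
      (fun e => hz₀1.2 (mem_bot.1 (e hz₀)))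
    intro e
    refine hg1 (e ▸ ⟨hg, mem_centralizer_iff.2 fun u hu => ?_⟩)
    exact (commutatorElement_eq_one_iff_mul_comm.1 (mem_bot.1 (hc u hu))).symm
  have haA₁ : a ∈ normalizer (A₁ : Set Γ) := inv_inf haA (inv_centralizer haU)
  have hA₁X : A₁ ≤ X := inf_le_left.trans (hAP.trans hPX)
  have hA₁Q : A₁ ⊓ Q = ⊥ := by
    by_contra hne
    obtain ⟨v, hv, hv1⟩ := exists_v h t hs m hD
    refine hno (X ⊓ centralizer ((A₁ ⊓ Q : Subgroup Γ) : Set Γ)) inf_le_left
      (cent_ne h (inf_le_left.trans hA₁X) (m.Qp.to_le inf_le_right) hne)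
      (inv_inf h.aX (inv_centralizer (inv_inf haA₁ m.aQ))) (le_inf (m.QH.trans m.HX) ?_)
      (le_inf ((comm_le h.toCore haU).trans hUX) ?_) v hv hv1
      ⟨hDX hv.1, mem_centralizer_iff.2 fun q hq =>
        mem_centralizer_iff.1 (D_cent h t hs m hD hv.1) q hq.2⟩
    · exact fun q hq => mem_centralizer_iff.2 fun g hg => (hg.1.1.2.1 q (hQP hq)).symm
    · exact fun u hu => mem_centralizer_iff.2 fun g hg =>
        (mem_centralizer_iff.1 hg.1.2 u (comm_le h.toCore haU hu)).symm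
  have hA₁fix : A₁ ≤ centralizer ({a} : Set Γ) := by
    rw [← centralizer_zpowers]
    refine commutator_eq_bot_iff_le_centralizer.1 (le_bot_iff.1 ?_)
    rw [← hA₁Q]
    exact le_inf (comm_le h.toCore haA₁)
      ((commutator_mono (inf_le_left.trans hAP) le_rfl).trans hA0)
  -- a fixed element of `A` centralising `[U, a]` is fixed point free on the centre of `D`
  have hfpf : ∀ g ∈ A, g ≠ 1 → g * a = a * g → (∀ u ∈ ⁅U, zpowers a⁆, u * g = g * u) →
      ∀ v ∈ cen D, g * v = v * g → v = 1 := by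
    intro g hg hg1 hga hgU v hv hgv
    by_contra hv1
    refine hno (X ⊓ centralizer ({g} : Set Γ)) inf_le_left ?_ (inv_inf h.aX (cent_inv hga))
      (le_inf (m.QH.trans m.HX) fun q hq => mem_centralizer_singleton_iff.2 (hg.2.1 q (hQP hq)))
      (le_inf ((comm_le h.toCore haU).trans hUX) fun u hu =>
        mem_centralizer_singleton_iff.2 (hgU u hu))
      v hv hv1 ⟨hDX hv.1, mem_centralizer_singleton_iff.2 hgv.symm⟩
    rw [← centralizer_zpowers]
    exact cent_ne h (zpowers_le.2 (hPX hg.1)) (hP.pgrp.to_le (zpowers_le.2 hg.1))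
      (fun e => hg1 (zpowers_eq_bot.1 e))
  have hA₁fpf : ∀ g ∈ A₁, g ≠ 1 → ∀ v ∈ cen D, g * v = v * g → v = 1 := fun g hg hg1 =>
    hfpf g hg.1 hg1 (mem_centralizer_singleton_iff.1 (hA₁fix hg)) fun u hu =>
      mem_centralizer_iff.1 hg.2 u (comm_le h.toCore haU hu)
  obtain ⟨⟨g₁, hg₁⟩, hg₁1'⟩ := Subgroup.ne_bot_iff_exists_ne_one.1 hA₁ne
  have hg₁1 : g₁ ≠ 1 := fun e => hg₁1' (Subtype.ext e)
  have hbig := two_lt_cen h t hs m hD hg₁ hg₁1 (hPD (hAP hg₁.1))
    (mem_centralizer_singleton_iff.1 (hA₁fix hg₁)) (hA₁fpf g₁ hg₁ hg₁1)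
  -- a subgroup of `A` acting fixed point freely is cyclic
  have hcyc : ∀ B : Subgroup Γ, B ≤ A →
      (∀ g ∈ B, g ≠ 1 → ∀ v ∈ cen D, g * v = v * g → v = 1) → IsCyclic B := by
    intro B hB hBf
    by_contra hnc
    haveI : IsMulCommutative B :=
      ⟨⟨fun u w => Subtype.ext ((hB w.2).2.1 u ((hAP (hB u.2))))⟩⟩
    obtain ⟨v, hv, hv1⟩ := exists_v h t hs m hD
    have hle : cen D ≤ ⊥ := by
      refine CoprimeGen.le_of_centralizers hnc ?_ (IsPGroup.coprime_card_of_ne p 2 h.hp2 B _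
        (hP.pgrp.to_le (hB.trans hAP)) ((D_two h t hs m hD).to_le inf_le_left)) ?_
      · intro g hg
        exact inf_normalizer_le_normalizer_inf ⟨hPD (hAP (hB hg)),
          CoprimeTools.le_normalizer_centralizer_of_le (zpowers_le.2 (hPD (hAP (hB hg))))
            (mem_zpowers g)⟩
      · intro g hg hg1 w hw
        exact mem_bot.2 (hBf g hg hg1 w hw.1 (mem_centralizer_singleton_iff.1 hw.2).symm)
    exact hv1 (mem_bot.1 (hle hv))
  have hA₁card : Nat.card A₁ ≤ p := by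
    haveI := hcyc A₁ inf_le_left hA₁fpf
    obtain ⟨⟨g, hg⟩, hgen⟩ := IsCyclic.exists_generator (α := A₁)
    rw [← orderOf_eq_card_of_forall_mem_zpowers hgen]
    exact Nat.le_of_dvd h.hp.pos (orderOf_dvd_of_pow_eq_one (Subtype.ext hg.1.2.2))
  -- `A₂` and `B₂ = [A₂, a]`
  let A₂ : Subgroup Γ :=
    { carrier := {g | g ∈ A ∧ ∀ u ∈ U, ⁅g, u⁆ ∈ A₁}
      one_mem' := ⟨one_mem _, fun u _ => by simp⟩
      mul_mem' := fun {g g'} hg hg' => ⟨mul_mem hg.1 hg'.1, fun u hu => by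
        have e : ⁅g * g', u⁆ = g * ⁅g', u⁆ * g⁻¹ * ⁅g, u⁆ := by
          simp only [commutatorElement_def]; group
        have e' : g * ⁅g', u⁆ * g⁻¹ = ⁅g', u⁆ := by
          rw [← hg.1.2.1 _ (hg'.2 u hu).1.1, mul_inv_cancel_right]
        rw [e, e']
        exact mul_mem (hg'.2 u hu) (hg.2 u hu)⟩
      inv_mem' := fun {g} hg => ⟨inv_mem hg.1, fun u hu => by
        have e : ⁅g⁻¹, u⁆ = g⁻¹ * ⁅g, u⁆⁻¹ * g := by simp only [commutatorElement_def]; group
        rw [e, mul_assoc, hg.1.2.1 _ (inv_mem (hg.2 u hu).1.1), inv_mul_cancel_left]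
        exact inv_mem (hg.2 u hu)⟩ }
  have hA₂A : A₂ ≤ A := fun g hg => hg.1
  have haA₂ : a ∈ normalizer (A₂ : Set Γ) := by
    refine mem_normalizer_of_map_le ?_
    rintro _ ⟨w, hw, rfl⟩
    refine ⟨(mem_normalizer_iff.1 haA w).1 hw.1, fun u hu => ?_⟩
    simp only [MulEquiv.coe_toMonoidHom, MulAut.conj_apply]
    have hu' : a⁻¹ * u * a ∈ U := (mem_normalizer_iff''.1 haU u).1 hu
    rw [show ⁅a * w * a⁻¹, u⁆ = a * ⁅w, a⁻¹ * u * a⁆ * a⁻¹ by
      simp only [commutatorElement_def]; group]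
    exact (mem_normalizer_iff.1 haA₁ _).1 (hw.2 _ hu')
  obtain ⟨g₂, hg₂, hg₂1, hg₂U⟩ := exists_central_outside (A₁ := A₁) hUp A (hAP.trans hPU) hUA
    (fun hle => hz₀1.2 (by
      have : z₀ ∈ A₁ ⊓ Q := ⟨hle hz₀, hz₀1.1⟩
      rwa [hA₁Q, mem_bot] at this))
  have hA₁A₂ : A₁ ≤ A₂ := fun g hg => ⟨hg.1, fun u hu => by
    rw [commutatorElement_eq_one_iff_mul_comm.2 (mem_centralizer_iff.1 hg.2 u hu).symm]
    exact one_mem _⟩
  set B₂ := ⁅A₂, zpowers a⁆ with hB₂
  have hA₂X : A₂ ≤ X := hA₂A.trans (hAP.trans hPX)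
  have hB₂A₂ : B₂ ≤ A₂ := comm_le h.toCore haA₂
  have hB₂Q : B₂ ≤ Q := (commutator_mono (hA₂A.trans hAP) le_rfl).trans hA0
  have hB₂ne : B₂ ≠ ⊥ := by
    intro hb
    have hfix : A₂ ≤ centralizer ({a} : Set Γ) := by
      rw [← centralizer_zpowers]
      exact commutator_eq_bot_iff_le_centralizer.1 hb
    have hcU : ⁅U, zpowers a⁆ ≤ centralizer (A₂ : Set Γ) := by
      refine commutator_eq_bot_iff_le_centralizer.1 ?_
      rw [commutator_comm]
      have h1 : ⁅⁅zpowers a, A₂⁆, U⁆ = ⊥ := by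
        rw [commutator_comm (zpowers a), show ⁅A₂, zpowers a⁆ = ⊥ from hb, commutator_bot_left]
      have h2 : ⁅⁅A₂, U⁆, zpowers a⁆ = ⊥ := by
        rw [commutator_eq_bot_iff_le_centralizer, centralizer_zpowers]
        have h3 : ⁅A₂, U⁆ ≤ A₁ := commutator_le.2 fun g (hg : g ∈ A₂) u hu => hg.2 u hu
        exact h3.trans hA₁fix
      rw [commutator_comm]
      exact commutator_commutator_eq_bot_of_rotate h1 h2
    have hf : ∀ g ∈ A₂, g ≠ 1 → ∀ v ∈ cen D, g * v = v * g → v = 1 := fun g hg hg1 =>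
      hfpf g hg.1 hg1 (mem_centralizer_singleton_iff.1 (hfix hg)) fun u hu =>
        (mem_centralizer_iff.1 (hcU hu) g hg).symm
    haveI := hcyc A₂ hA₂A hf
    obtain ⟨⟨g, hg⟩, hgen⟩ := IsCyclic.exists_generator (α := A₂)
    have hle : Nat.card A₂ ≤ p := by
      rw [← orderOf_eq_card_of_forall_mem_zpowers hgen]
      exact Nat.le_of_dvd h.hp.pos (orderOf_dvd_of_pow_eq_one (Subtype.ext hg.1.2.2))
    have hge : p ≤ Nat.card A₁ := by
      rw [← orderOf_eq_prime hg₁.1.2.2 hg₁1]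
      exact Nat.le_of_dvd Nat.card_pos (Subgroup.orderOf_dvd_natCard _ hg₁)
    exact hg₂1 ((eq_of_le_of_card_ge hA₁A₂ (hle.trans hge)).ge ⟨hg₂, hg₂U⟩)
  obtain ⟨y, hy, hyU⟩ : ∃ y ∈ B₂, ∃ u ∈ U, y * u ≠ u * y := by
    by_contra hall
    push Not at hall
    refine hB₂ne (le_bot_iff.1 ?_)
    rw [← hA₁Q]
    exact le_inf (fun g hg => ⟨(hB₂A₂ hg).1, mem_centralizer_iff.2 fun u hu => (hall g hg u hu).symm⟩)
      hB₂Q
  obtain ⟨nn, hnn, hyn⟩ := hyU
  -- the commutator `x`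
  set x := y⁻¹ * nn⁻¹ * y * nn with hx
  have hxA₁ : x ∈ A₁ := by
    have := (inv_mem (hB₂A₂ hy) : y⁻¹ ∈ A₂).2 nn⁻¹ (inv_mem hnn)
    simpa [commutatorElement_def, hx, mul_assoc] using this
  have hx1 : x ≠ 1 := by
    intro e
    apply hyn
    calc y * nn = nn * y * x := by rw [hx]; group
      _ = nn * y := by rw [e, mul_one]
  have hxa : x * a = a * x := mem_centralizer_singleton_iff.1 (hA₁fix hxA₁)
  have hxD : x ∈ normalizer (D : Set Γ) := hPD (hAP hxA₁.1)
  -- `x` is fixed point free on `D`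
  set F := D ⊓ centralizer ({x} : Set Γ) with hF
  have hFD : F ≤ D := inf_le_left
  have hFbot : F = ⊥ := by
    by_contra hne
    have haF : a ∈ normalizer (F : Set Γ) := inv_inf (D_inv h t hs m hD) (cent_inv hxa)
    have hF2 : IsPGroup 2 F := (D_two h t hs m hD).to_le hFD
    set Z := F ⊓ centralizer (F : Set Γ)
    obtain ⟨g, hg, hg1, hc⟩ := exists_central_outside (A₁ := ⊥) hF2 F le_rfl le_normalizer
      (fun e => hne (le_bot_iff.1 e))
    have hgZ : g ∈ Z := ⟨hg, mem_centralizer_iff.2 fun u hu =>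
      (commutatorElement_eq_one_iff_mul_comm.1 (mem_bot.1 (hc u hu))).symm⟩
    have hga : g ∈ centralizer ({a} : Set Γ) :=
      h.F.abel Z (inf_le_left.trans (hFD.trans hDX)) (inv_inf haF (inv_centralizer haF))
        (hF2.to_le inf_le_left) (fun u hu w hw => mem_centralizer_iff.1 hw.2 u hu.1) hgZ
    refine hg1 (mem_bot.2 (hA₁fpf x hxA₁ hx1 g ((D_fix h t hs m hD).le ⟨hg.1, hga⟩) ?_))
    exact (mem_centralizer_singleton_iff.1 hg.2).symm
  -- an element fixed by `a` outside `H`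
  obtain ⟨c, hcX, hca, hcH⟩ : ∃ c ∈ X, c * a = a * c ∧ c ∉ H := by
    obtain ⟨g, hg, hg1, hc⟩ := exists_central_outside (A₁ := ⊥) hS.pgrp S le_rfl le_normalizer
      (fun e => hA₁ne (le_bot_iff.1 ((inf_le_left.trans (hAP.trans hPS)).trans e)))
    obtain ⟨k, hk, hk1⟩ := hordp hS.pgrp g hg (fun e => hg1 (e ▸ one_mem _))
    have hcom : ∀ s ∈ S, s * g ^ k = g ^ k * s := fun s hs' =>
      ((show Commute s g from (commutatorElement_eq_one_iff_mul_comm.1
        (mem_bot.1 (hc s hs'))).symm).pow_right k).eq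
    have hzQ : g ^ k ∈ centralizer (Q : Set Γ) := mem_centralizer_iff.2 fun q hq =>
      hcom q (hPS (hQP hq))
    have hzH : g ^ k ∈ H := m.normQ ⟨hS.le (pow_mem hg k), centralizer_le_normalizer _ hzQ⟩
    have hzP : g ^ k ∈ P := hPmax (S ⊓ H) (le_inf hPS hP.le) inf_le_right
      (hS.pgrp.to_le inf_le_left) ⟨pow_mem hg k, hzH⟩
    have hzA : g ^ k ∈ A₁ := ⟨⟨hzP, fun u hu => hcom u (hPS hu), hk⟩,
      mem_centralizer_iff.2 fun u hu => hcom u hu.1⟩
    exact exists_fixed_outside h t hs m hD hS hzH hk1 hk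
      (mem_centralizer_singleton_iff.1 (hA₁fix hzA)) hcom
  have hX := gen_X h t hs m hD hbig hcX hca hcH
  -- apply the kill
  have hyL : ∀ g ∈ B₂, g ∈ centralizer ((⁅V, D⁆ : Subgroup Γ) : Set Γ) := fun g hg =>
    hs D Q hDX (m.QH.trans m.HX) (D_inv h t hs m hD) m.aQ (D_two h t hs m hD) (D_gen h t hs m hD)
      m.Qp (le_centralizer_iff.1 (D_cent h t hs m hD))
      (commutator_mono hB₂Q le_rfl ((comm_comm h.toCore hA₂X haA₂).ge hg))
  obtain ⟨h3, htriv⟩ := FlavellKill83.kill_group h.hp h.hp2 V D h.Vcomm h.Vexp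
    (x := x) (y := y) (n := nn) (c := c) (hDX.trans h.XV) (h.XV (hA₁X hxA₁))
    (h.XV (hA₂X (hB₂A₂ hy))) (h.XV (hUX hnn)) (h.XV hcX) hxD hxA₁.1.2.2
    (fun z hz he => by
      have : z ∈ F := ⟨hz, mem_centralizer_singleton_iff.2 (mul_inv_eq_iff_eq_mul.1 he).symm⟩
      rwa [hFbot, mem_bot] at this)
    (fun hle => hD (le_bot_iff.1 ((le_inf hDX hle).trans h.faith.le)))
    (fun v hv h1 h2 => by
      have hXv : X ≤ centralizer ({v} : Set Γ) := by
        rw [← hX]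
        refine sup_le (fun z hz => mem_centralizer_singleton_iff.2 (h1 z hz)) ?_
        rintro _ ⟨z, hz, rfl⟩
        exact mem_centralizer_singleton_iff.2 (h2 z hz)
      set F' := V ⊓ centralizer (X : Set Γ)
      have hvF : v ∈ F' := ⟨hv, mem_centralizer_iff.2 fun g hg =>
        mem_centralizer_singleton_iff.1 (hXv hg)⟩
      rcases h.irr F' inf_le_left (CoprimeAction.le_normalizer_inf h.XV
          (CoprimeTools.le_normalizer_centralizer_of_le le_normalizer))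
          (inv_inf h.aV (inv_centralizer h.aX)) with hb | hb
      · rwa [hb, mem_bot] at hvF
      · exact absurd (le_bot_iff.1 ((le_inf le_rfl (le_centralizer_iff.1
          (hb.ge.trans inf_le_right))).trans h.faith.le)) (fun e => t.ne (le_bot_iff.1 (e ▸ t.TX))))
    (by rw [hx]; group) (mem_centralizer_iff.1 hxA₁.2 nn hnn).symm (hyL y hy)
  subst h3
  -- `p = 3`: the map `b ↦ [b, n]` into `A₁` is injective
  have hinj : Function.Injective fun b : B₂ => (⟨⁅(b : Γ), nn⁆, (hB₂A₂ b.2).2 nn hnn⟩ : A₁) := by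
    intro b b' he
    have e : ⁅(b : Γ), nn⁆ = ⁅(b' : Γ), nn⁆ := congrArg Subtype.val he
    have hc : (b' : Γ)⁻¹ * b * nn = nn * ((b' : Γ)⁻¹ * b) := by
      calc (b' : Γ)⁻¹ * b * nn = (b' : Γ)⁻¹ * ⁅(b : Γ), nn⁆ * nn * b := by
            simp only [commutatorElement_def]; group
        _ = (b' : Γ)⁻¹ * ⁅(b' : Γ), nn⁆ * nn * b := by rw [e]
        _ = nn * ((b' : Γ)⁻¹ * b) := by simp only [commutatorElement_def]; group
    have hmem : (b' : Γ)⁻¹ * b ∈ B₂ := mul_mem (inv_mem b'.2) b.2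
    have h1 := htriv _ (h.XV (hA₂X (hB₂A₂ hmem))) hc (hyL _ hmem)
    have h2 : (b' : Γ)⁻¹ * b ∈ X ⊓ centralizer (V : Set Γ) := ⟨hA₂X (hB₂A₂ hmem), h1⟩
    rw [h.faith, mem_bot, inv_mul_eq_one] at h2
    exact Subtype.ext h2.symm
  have hcard : Nat.card B₂ ≤ 3 := (Nat.card_le_card_of_injective _ hinj).trans hA₁card
  have hy1 : y ≠ 1 := fun e => hyn (by rw [e, one_mul, mul_one])
  have hy3 : y ^ 3 = 1 := (hB₂A₂ hy).1.2.2
  have hzy : zpowers y = B₂ := eq_of_le_of_card_ge (zpowers_le.2 hy) (by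
    rw [Nat.card_zpowers, orderOf_eq_prime hy3 hy1]; exact hcard)
  refine hB₂ne (le_bot_iff.1 ((comm_comm h.toCore hA₂X haA₂).ge.trans ?_))
  refine (commutator_eq_bot_iff_le_centralizer.2 ?_).le
  show B₂ ≤ _
  rw [centralizer_zpowers, ← hzy, zpowers_le, mem_centralizer_singleton_iff]
  refine (three_fixed h t hs m hD hy3 ?_ hodd har).symm
  rw [hzy]
  exact (mem_normalizer_iff.1 (inv_comm h.toCore (K := A₂)).1 y).1 hy

end main

end KillB

/-- The moved case is impossible. -/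
theorem killMoved {Γ : Type*} [Group Γ] [Finite Γ] {p r n : ℕ} {V X W T : Subgroup Γ} {a : Γ} :
    KillMoved p r n V X W T a :=
  fun h t hs _ _ m hD => KillB.false_of h t hs m hD

end Cfsg.Agent.Flavell8
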