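import Mathlib

/-!
Thompson's replacement theorem, abelian form.
-/

namespace Cfsg.Agent.ThompsonReplacement

open scoped commutatorElement

variable {S : Type*} [Group S]

/-- Thompson replacement: if `B`, `D` are abelian, `B` normalizes `D` and `D` does not normalize `B`, then there is an
abelian subgroup of at least the same order meeting `D` in a larger subgroup and normalizing `B`. -/
theorem replacement [Finite S] [Group.IsNilpotent S] {B D : Subgroup S}
    (hB : IsMulCommutative B) (hD : IsMulCommutative D)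
    (hBD : B ≤ Subgroup.normalizer (D : Set S)) (hDB : ¬ D ≤ Subgroup.normalizer (B : Set S)) :
    ∃ A : Subgroup S, IsMulCommutative A ∧ Nat.card B ≤ Nat.card A ∧ D ⊓ B < D ⊓ A ∧
      A ≤ Subgroup.normalizer (B : Set S) ∧ A ≤ Subgroup.normalClosure (B : Set S) ∧ A ≤ B ⊔ D := by
  classical
  set D₁ := D ⊓ Subgroup.normalizer (B : Set S) with hD₁
  have hcD : ∀ u ∈ D, ∀ v ∈ D, u * v = v * u := fun u hu v hv =>
    congrArg Subtype.val (hD.is_comm.comm (⟨u, hu⟩ : D) ⟨v, hv⟩)
  have hcB : ∀ u ∈ B, ∀ v ∈ B, u * v = v * u := fun u hu v hv =>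
    congrArg Subtype.val (hB.is_comm.comm (⟨u, hu⟩ : B) ⟨v, hv⟩)
  have hDconj : ∀ b ∈ B, ∀ d ∈ D, b * d * b⁻¹ ∈ D := fun b hb d hd =>
    (Subgroup.mem_normalizer_iff.mp (hBD hb) d).mp hd
  -- pick `x` in `D ∖ D₁` with all commutators with `B` in `D₁`
  obtain ⟨x, hxD, hxN, hx⟩ : ∃ x ∈ D, x ∉ Subgroup.normalizer (B : Set S) ∧
      ∀ b ∈ B, x * b * x⁻¹ * b⁻¹ ∈ D₁ := by
    obtain ⟨n, hn⟩ := Group.IsNilpotent.nilpotent (G := S)
    have hex : ∃ i, ¬ D ⊓ Subgroup.upperCentralSeries S i ≤ D₁ :=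
      ⟨n, fun h => hDB fun d hd => (h ⟨hd, by rw [hn]; trivial⟩).2⟩
    obtain ⟨i, hi, hmin⟩ := Nat.findX hex
    cases i with
    | zero =>
      rw [Subgroup.upperCentralSeries_zero, inf_bot_eq] at hi
      exact absurd bot_le hi
    | succ i =>
      obtain ⟨x, ⟨hxD, hxi⟩, hx1⟩ := SetLike.not_le_iff_exists.mp hi
      refine ⟨x, hxD, fun h => hx1 ⟨hxD, h⟩, fun b hb => ?_⟩
      refine (not_not.mp (hmin i i.lt_succ_self)) ⟨?_, ?_⟩
      · have := D.mul_mem hxD (hDconj b hb x⁻¹ (D.inv_mem hxD))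
        simpa [mul_assoc] using this
      · have := Subgroup.mem_upperCentralSeries_succ_iff.mp hxi b
        simpa [commutatorElement_def, mul_assoc] using this
  set f : S → S := fun b => x * b * x⁻¹ * b⁻¹ with hf
  have hfD : ∀ b ∈ B, f b ∈ D := fun b hb => (hx b hb).1
  set M := Subgroup.closure (f '' (B : Set S)) with hMdef
  have hMD₁ : M ≤ D₁ := by
    rw [hMdef, Subgroup.closure_le]
    rintro _ ⟨b, hb, rfl⟩
    exact hx b hb
  set C := B ⊓ Subgroup.centralizer (M : Set S) with hCdef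
  set A := M ⊔ C with hAdef
  have hfM : ∀ b ∈ B, f b ∈ M := fun b hb => Subgroup.subset_closure ⟨b, hb, rfl⟩
  have hfmul : ∀ a b : S, f (a * b) = f a * (a * f b * a⁻¹) := fun a b => by simp [hf]; group
  have hDBC : D ⊓ B ≤ C := fun z hz => ⟨hz.2, Subgroup.mem_centralizer_iff.mpr fun m hm =>
    hcD m (hMD₁ hm).1 z hz.1⟩
  refine ⟨A, ?_, ?_, ?_, ?_, ?_, ?_⟩
  · rw [hAdef, Subgroup.sup_eq_closure]
    refine Subgroup.isMulCommutative_closure ?_
    rintro u (hu | hu) v (hv | hv)
    · exact hcD u (hMD₁ hu).1 v (hMD₁ hv).1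
    · exact Subgroup.mem_centralizer_iff.mp hv.2 u hu
    · exact (Subgroup.mem_centralizer_iff.mp hu.2 v hv).symm
    · exact hcB u hu.1 v hv.1
  · -- cardinality
    have hCB : C ≤ B := inf_le_left
    have hCA : C ≤ A := le_sup_right
    let g : ↥B ⧸ C.subgroupOf B → ↥A ⧸ C.subgroupOf A := fun q =>
      QuotientGroup.mk (⟨f (q.out : ↥B), Subgroup.mem_sup_left (hfM _ (q.out : ↥B).2)⟩ : ↥A)
    have hg : Function.Injective g := by
      intro q r hqr
      have hqr'' := QuotientGroup.eq.mp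
        (show ((⟨f (q.out : ↥B), Subgroup.mem_sup_left (hfM _ (q.out : ↥B).2)⟩ : ↥A) : ↥A ⧸ C.subgroupOf A)
          = (⟨f (r.out : ↥B), Subgroup.mem_sup_left (hfM _ (r.out : ↥B).2)⟩ : ↥A) from hqr)
      have hqr' : (f (q.out : ↥B))⁻¹ * f (r.out : ↥B) ∈ C := hqr''
      rw [← QuotientGroup.out_eq' q, ← QuotientGroup.out_eq' r, QuotientGroup.eq]
      set b : S := ((q.out : ↥B) : S)
      set b' : S := ((r.out : ↥B) : S)
      have hb : b ∈ B := (q.out : ↥B).2
      have hb' : b' ∈ B := (r.out : ↥B).2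
      set c := b⁻¹ * b' with hc
      show c ∈ C
      have hcB' : c ∈ B := B.mul_mem (B.inv_mem hb) hb'
      have h1 : b * f c * b⁻¹ ∈ B := by
        have : b * f c * b⁻¹ = (f b)⁻¹ * f b' := by
          have e : f b' = f b * (b * f c * b⁻¹) := by rw [← hfmul, hc, mul_inv_cancel_left]
          rw [e, inv_mul_cancel_left]
        rw [this]; exact hqr'.1
      have h2 : f c ∈ B := by
        have := B.mul_mem (B.mul_mem (B.inv_mem hb) h1) hb
        simpa [mul_assoc] using this
      refine ⟨hcB', ?_⟩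
      have : M ≤ Subgroup.centralizer ({c} : Set S) := by
        rw [hMdef, Subgroup.closure_le]
        rintro _ ⟨a, ha, rfl⟩
        rw [SetLike.mem_coe, Subgroup.mem_centralizer_iff]
        rintro _ rfl
        have e1 : f (a * c) = f a * f c := by
          rw [hfmul, hcB a ha _ h2, mul_inv_cancel_right]
        have e2 : f (c * a) = f c * (c * f a * c⁻¹) := hfmul c a
        rw [hcB c hcB' a ha, e1, hcD _ (hfD a ha) _ (hfD c hcB')] at e2
        exact (eq_mul_inv_iff_mul_eq.mp (mul_left_cancel e2)).symm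
      exact Subgroup.mem_centralizer_iff.mpr fun m hm =>
        (Subgroup.mem_centralizer_iff.mp (this hm) c rfl).symm
    have key : ∀ H : Subgroup S, C ≤ H → Nat.card H = Nat.card C * Nat.card (↥H ⧸ C.subgroupOf H) := by
      intro H hH
      rw [Subgroup.card_eq_card_quotient_mul_card_subgroup (C.subgroupOf H), mul_comm]
      congr 1
      exact Nat.card_congr (Subgroup.subgroupOfEquivOfLe hH).toEquiv
    rw [key B hCB, key A hCA]
    exact Nat.mul_le_mul_left _ (Nat.card_le_card_of_injective g hg)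
  · refine lt_of_le_of_ne (le_inf inf_le_left (hDBC.trans le_sup_right)) fun heq => ?_
    have hfB : ∀ b ∈ B, f b ∈ B := fun b hb => by
      have : f b ∈ D ⊓ A := ⟨hfD b hb, Subgroup.mem_sup_left (hfM b hb)⟩
      rw [← heq] at this
      exact this.2
    apply hxN
    have hmap : B.map (MulAut.conj x).toMonoidHom ≤ B := by
      rintro _ ⟨b, hb, rfl⟩
      have := B.mul_mem (hfB b hb) hb
      simpa [hf] using this
    have heqB : B.map (MulAut.conj x).toMonoidHom = B := Subgroup.eq_of_le_of_card_ge hmap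
      (ge_of_eq (Nat.card_congr (B.equivMapOfInjective _ (MulAut.conj x).injective).toEquiv).symm)
    rw [Subgroup.mem_normalizer_iff]
    intro b
    constructor
    · intro hb; exact hmap ⟨b, hb, rfl⟩
    · intro hb
      rw [← heqB] at hb
      obtain ⟨b', hb', he⟩ := hb
      rwa [show b = b' from ((MulAut.conj x).injective he).symm]
  · exact sup_le (hMD₁.trans inf_le_right) (inf_le_left.trans Subgroup.le_normalizer)
  · refine sup_le ?_ (inf_le_left.trans Subgroup.subset_normalClosure)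
    rw [hMdef, Subgroup.closure_le]
    rintro _ ⟨b, hb, rfl⟩
    exact Subgroup.mul_mem _
      ((Subgroup.normalClosure_normal).conj_mem b (Subgroup.subset_normalClosure hb) x)
      (Subgroup.inv_mem _ (Subgroup.subset_normalClosure hb))
  · exact sup_le (hMD₁.trans (inf_le_left.trans le_sup_right)) (inf_le_left.trans le_sup_left)

end Cfsg.Agent.ThompsonReplacement
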