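import Mathlib
import Cfsg.Prelude.Def_PLocal
import Cfsg.Agent.Lib.ThompsonReplacement
import Cfsg.Agent.Lib.ConjFunctorBasic

/-!
The abelian Thompson subgroup: naturality, the centre, and quadratic offenders from Thompson
replacement.
-/

set_option autoImplicit false

universe u

namespace Cfsg.Agent.ThompsonAQuad

open scoped commutatorElement

variable {G H : Type u} [Group G] [Group H]

theorem comm_of_isMulCommutative {A : Subgroup G} (h : IsMulCommutative A) {a b : G} (ha : a ∈ A)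
    (hb : b ∈ A) : a * b = b * a :=
  congrArg Subtype.val (h.is_comm.comm (⟨a, ha⟩ : A) ⟨b, hb⟩)

theorem map_maxAb (e : G ≃* H) {A : Subgroup G} (hA : A ∈ maxAbelianSubgroups G) :
    A.map e.toMonoidHom ∈ maxAbelianSubgroups H := by
  refine ⟨⟨⟨fun a b => Subtype.ext ?_⟩⟩, fun B hB => ?_⟩
  · obtain ⟨x, hx, hxe⟩ := a.2
    obtain ⟨y, hy, hye⟩ := b.2
    show (a : H) * b = b * a
    rw [← hxe, ← hye, ← map_mul, ← map_mul, comm_of_isMulCommutative hA.1 hx hy]
  · rw [Subgroup.card_map_of_injective e.injective]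
    have h2 := hA.2 (B.map e.symm.toMonoidHom) ⟨⟨fun a b => Subtype.ext (by
      obtain ⟨x, hx, hxe⟩ := a.2
      obtain ⟨y, hy, hye⟩ := b.2
      show (a : G) * b = b * a
      rw [← hxe, ← hye, ← map_mul, ← map_mul, comm_of_isMulCommutative hB hx hy])⟩⟩
    rwa [Subgroup.card_map_of_injective e.symm.injective] at h2

theorem map_thompsonA (e : G ≃* H) :
    (thompsonSubgroupA G).map e.toMonoidHom = thompsonSubgroupA H := by
  refine le_antisymm ?_ (sSup_le fun B hB => ?_)
  · rw [Subgroup.map_le_iff_le_comap]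
    exact sSup_le fun A hA => Subgroup.map_le_iff_le_comap.mp (le_sSup (map_maxAb e hA))
  · have h1 : B.map e.symm.toMonoidHom ≤ thompsonSubgroupA G := le_sSup (map_maxAb e.symm hB)
    intro b hb
    exact ⟨e.symm b, h1 ⟨b, hb, rfl⟩, e.apply_symm_apply b⟩

theorem exists_maxAb (G : Type u) [Group G] [Finite G] : (maxAbelianSubgroups G).Nonempty := by
  obtain ⟨A, hA, hmax⟩ := Set.exists_max_image {A : Subgroup G | IsMulCommutative A}
    (fun A => Nat.card A) (Set.toFinite _) ⟨⊥, ⟨⟨fun a b => Subsingleton.elim _ _⟩⟩⟩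
  exact ⟨A, hA, hmax⟩

theorem isMulCommutative_sup {A B : Subgroup G} (hA : ∀ a ∈ A, ∀ a' ∈ A, a * a' = a' * a)
    (hB : ∀ b ∈ B, ∀ b' ∈ B, b * b' = b' * b) (hAB : ∀ a ∈ A, ∀ b ∈ B, a * b = b * a) :
    IsMulCommutative ↥(A ⊔ B) := by
  have h1 : A ⊔ B ≤ Subgroup.centralizer ((A ⊔ B : Subgroup G) : Set G) := by
    refine sup_le ?_ ?_ <;> rw [Subgroup.le_centralizer_iff] <;> refine sup_le ?_ ?_ <;>
      intro x hx <;> rw [Subgroup.mem_centralizer_iff] <;> intro y hy
    · exact hA y hy x hx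
    · exact hAB y hy x hx
    · exact (hAB x hx y hy).symm
    · exact hB y hy x hx
  exact ⟨⟨fun a b => Subtype.ext (Subgroup.mem_centralizer_iff.mp (h1 b.2) a a.2)⟩⟩

/-- A maximal abelian subgroup contains what commutes with it. -/
theorem mem_of_commute [Finite G] {A : Subgroup G} (hA : A ∈ maxAbelianSubgroups G) {b : G}
    (hb : ∀ a ∈ A, a * b = b * a) : b ∈ A := by
  have hsup := hA.2 (A ⊔ Subgroup.zpowers b) (isMulCommutative_sup
    (fun a ha a' ha' => comm_of_isMulCommutative hA.1 ha ha')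
    (fun x hx y hy => by
      obtain ⟨i, rfl⟩ := Subgroup.mem_zpowers_iff.mp hx
      obtain ⟨j, rfl⟩ := Subgroup.mem_zpowers_iff.mp hy
      exact (Commute.zpow_zpow_self b i j))
    (fun a ha y hy => by
      obtain ⟨j, rfl⟩ := Subgroup.mem_zpowers_iff.mp hy
      exact (Commute.zpow_right (hb a ha : Commute a b) j)))
  rw [Subgroup.eq_of_le_of_card_ge (le_sup_left : A ≤ A ⊔ Subgroup.zpowers b) hsup]
  exact Subgroup.mem_sup_right (Subgroup.mem_zpowers b)

theorem center_le (G : Type u) [Group G] [Finite G] : Subgroup.center G ≤ thompsonSubgroupA G :=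
  fun z hz => by
    obtain ⟨A, hA⟩ := exists_maxAb G
    exact le_sSup (α := Subgroup G) hA
      (mem_of_commute hA fun a _ => Subgroup.mem_center_iff.mp hz a)

theorem centralizer_le (G : Type u) [Group G] [Finite G] :
    Subgroup.centralizer ((thompsonSubgroupA G : Subgroup G) : Set G) ≤ thompsonSubgroupA G :=
  fun z hz => by
    obtain ⟨A, hA⟩ := exists_maxAb G
    exact le_sSup (α := Subgroup G) hA (mem_of_commute hA fun a ha =>
      Subgroup.mem_centralizer_iff.mp hz a (le_sSup (α := Subgroup G) hA ha))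

theorem card_eq_card_inf_mul_relIndex (N L : Subgroup G) :
    Nat.card L = Nat.card ↥(N ⊓ L) * N.relIndex L := by
  rw [← (N.subgroupOf L).card_mul_index]
  congr 1
  rw [← Subgroup.inf_subgroupOf_right]
  exact Nat.card_congr (Subgroup.subgroupOfEquivOfLe inf_le_right).toEquiv

theorem card_sup_mul_card_inf (N D : Subgroup G) [N.Normal] :
    Nat.card ↥(N ⊔ D) * Nat.card ↥(N ⊓ D) = Nat.card N * Nat.card D := by
  rw [card_eq_card_inf_mul_relIndex N (N ⊔ D), inf_eq_left.mpr le_sup_left,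
    Subgroup.relIndex_sup_left, card_eq_card_inf_mul_relIndex N D]
  ring

/-- An abelian subgroup of largest order outside `X` that is quadratic on `W` and offends. -/
theorem exists_quad [Finite G] {p : ℕ} [Fact p.Prime] (P : Sylow p G) (W : Subgroup G) [W.Normal]
    (hWP : W ≤ (P : Subgroup G)) (hWc : ∀ v ∈ W, ∀ v' ∈ W, v * v' = v' * v) (X : Subgroup G)
    (hX : ∀ x ∈ X, ∀ v ∈ W, v * x = x * v)
    (h0 : ¬ (thompsonSubgroupA ↥(P : Subgroup G)).map (P : Subgroup G).subtype ≤ X) :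
    ∃ A : Subgroup G, A ≤ (P : Subgroup G) ∧ ¬ A ≤ X ∧ (∀ a ∈ A, ∀ b ∈ A, a * b = b * a) ∧
      (∀ v ∈ W, ∀ a ∈ A, ⁅v, a⁆ ∈ A) ∧
      Nat.card W * Nat.card ↥(A ⊓ Subgroup.centralizer (W : Set G)) ≤
        Nat.card A * Nat.card ↥(W ⊓ Subgroup.centralizer (A : Set G)) := by
  classical
  set S := ↥(P : Subgroup G)
  haveI : Group.IsNilpotent S := P.isPGroup'.isNilpotent
  set D : Subgroup S := W.subgroupOf (P : Subgroup G) with hDdef
  haveI hDn : D.Normal := Subgroup.normal_subgroupOf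
  have hne : {A : Subgroup S | A ∈ maxAbelianSubgroups S ∧
      ¬ A.map (P : Subgroup G).subtype ≤ X}.Nonempty := by
    by_contra hcon
    refine h0 ?_
    rw [Subgroup.map_le_iff_le_comap]
    refine sSup_le fun A hA => Subgroup.map_le_iff_le_comap.mp ?_
    by_contra hA'
    exact hcon ⟨A, hA, hA'⟩
  obtain ⟨A, ⟨hA, hAX⟩, hmax⟩ := Set.exists_max_image _ (fun A : Subgroup S => Nat.card ↥(D ⊓ A))
    (Set.toFinite _) hne
  have hD : IsMulCommutative D := ⟨⟨fun a b => Subtype.ext (Subtype.ext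
    (hWc _ a.2 _ b.2))⟩⟩
  have hDA : D ≤ Subgroup.normalizer (A : Set S) := by
    by_contra hcon
    obtain ⟨B, hB, hcard, hlt, hBn, -, -⟩ := ThompsonReplacement.replacement hA.1 hD
      (by rw [Subgroup.normalizer_eq_top D]; exact le_top) hcon
    have hBmax : B ∈ maxAbelianSubgroups S := ⟨hB, fun C hC => (hA.2 C hC).trans hcard⟩
    have hBX : B.map (P : Subgroup G).subtype ≤ X := by
      by_contra hBX
      have h1 := hmax B ⟨hBmax, hBX⟩
      exact hlt.ne (Subgroup.eq_of_le_of_card_ge hlt.le h1)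
    exact hcon (le_trans (fun d hd => mem_of_commute hBmax fun b hb => Subtype.ext
      (hX _ (hBX ⟨b, hb, rfl⟩) _ hd).symm) hBn)
  set A' := A.map (P : Subgroup G).subtype with hA'
  have hA'P : A' ≤ (P : Subgroup G) := Subgroup.map_subtype_le _
  have hA'c : ∀ a ∈ A', ∀ b ∈ A', a * b = b * a := by
    rintro _ ⟨a, ha, rfl⟩ _ ⟨b, hb, rfl⟩
    exact congrArg Subtype.val (comm_of_isMulCommutative hA.1 ha hb)
  refine ⟨A', hA'P, hAX, hA'c, ?_, ?_⟩
  · rintro v hv _ ⟨a, ha, rfl⟩
    refine ⟨⁅(⟨v, hWP hv⟩ : S), a⁆, ?_, rfl⟩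
    rw [commutatorElement_def]
    exact A.mul_mem ((Subgroup.mem_normalizer_iff.mp
      (hDA (show (⟨v, hWP hv⟩ : S) ∈ D from hv)) a).mp ha) (A.inv_mem ha)
  · -- `W C_A(W)` is abelian
    set C := A' ⊓ Subgroup.centralizer (W : Set G) with hC
    have hsup : IsMulCommutative ↥(W ⊔ C) := isMulCommutative_sup hWc
      (fun a ha b hb => hA'c a ha.1 b hb.1)
      (fun v hv c hc => Subgroup.mem_centralizer_iff.mp hc.2 v hv)
    have hle : W ⊔ C ≤ (P : Subgroup G) := sup_le hWP (inf_le_left.trans hA'P)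
    have h1 := hA.2 ((W ⊔ C).subgroupOf (P : Subgroup G)) ⟨⟨fun a b => Subtype.ext (Subtype.ext
      (comm_of_isMulCommutative hsup a.2 b.2))⟩⟩
    rw [Nat.card_congr (Subgroup.subgroupOfEquivOfLe hle).toEquiv,
      ← Subgroup.card_map_of_injective (P : Subgroup G).subtype_injective, ← hA'] at h1
    have h2 : Nat.card ↥(W ⊓ C) ≤ Nat.card ↥(W ⊓ Subgroup.centralizer (A' : Set G)) :=
      Subgroup.card_le_of_le (le_inf inf_le_left fun x hx =>
        Subgroup.mem_centralizer_iff.mpr fun a ha => hA'c a ha x hx.2.1)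
    calc Nat.card W * Nat.card C = Nat.card ↥(W ⊔ C) * Nat.card ↥(W ⊓ C) :=
          (card_sup_mul_card_inf W C).symm
      _ ≤ _ := Nat.mul_le_mul h1 h2

/-- The abelian Thompson subgroup inside `X` is that of `X`. -/
theorem thompsonA_map_eq_of_le [Finite G] (P X : Subgroup G) (hXP : X ≤ P)
    (h : (thompsonSubgroupA ↥P).map P.subtype ≤ X) :
    (thompsonSubgroupA ↥P).map P.subtype = (thompsonSubgroupA ↥X).map X.subtype := by
  set i : ↥X →* ↥P := Subgroup.inclusion hXP
  have hi : Function.Injective i := Subgroup.inclusion_injective hXP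
  have hiff : ∀ B : Subgroup ↥P, B.map P.subtype ≤ X → (B.comap i).map i = B := fun B hB =>
    Subgroup.map_comap_eq_self fun b hb => ⟨⟨b, hB ⟨b, hb, rfl⟩⟩, Subtype.ext rfl⟩
  have hcomm : ∀ A : Subgroup ↥X, IsMulCommutative A → IsMulCommutative (A.map i) := fun A hA =>
    ⟨⟨fun a b => by
      obtain ⟨x, hx, hxe⟩ := a.2
      obtain ⟨y, hy, hye⟩ := b.2
      refine Subtype.ext ?_
      show (a : ↥P) * b = b * a
      rw [← hxe, ← hye, ← map_mul, ← map_mul, comm_of_isMulCommutative hA hx hy]⟩⟩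
  have hcomap : ∀ B : Subgroup ↥P, IsMulCommutative B → IsMulCommutative (B.comap i) := fun B hB =>
    ⟨⟨fun a b => Subtype.ext (hi (by
      rw [Subgroup.coe_mul, Subgroup.coe_mul, map_mul, map_mul,
        comm_of_isMulCommutative hB (show i a ∈ B from a.2) (show i b ∈ B from b.2)]))⟩⟩
  have hsub : ∀ B ∈ maxAbelianSubgroups ↥P, B.map P.subtype ≤ X := fun B hB =>
    (Subgroup.map_mono (le_sSup hB)).trans h
  obtain ⟨B0, hB0⟩ := exists_maxAb ↥P
  have hc : ∀ B : Subgroup ↥P, B.map P.subtype ≤ X → Nat.card (B.comap i) = Nat.card B := fun B hB => by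
    conv_rhs => rw [← hiff B hB, Subgroup.card_map_of_injective hi]
  refine le_antisymm ?_ ?_
  · rw [Subgroup.map_le_iff_le_comap]
    refine sSup_le fun B hB => Subgroup.map_le_iff_le_comap.mp ?_
    have hm : B.comap i ∈ maxAbelianSubgroups ↥X := ⟨hcomap B hB.1, fun A hA => by
      rw [hc B (hsub B hB), ← Subgroup.card_map_of_injective hi]
      exact hB.2 _ (hcomm A hA)⟩
    have e : B.map P.subtype = (B.comap i).map X.subtype := by
      conv_lhs => rw [← hiff B (hsub B hB), Subgroup.map_map]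
      rfl
    rw [e]
    exact Subgroup.map_mono (le_sSup hm)
  · rw [Subgroup.map_le_iff_le_comap]
    refine sSup_le fun A hA => Subgroup.map_le_iff_le_comap.mp ?_
    have hm : A.map i ∈ maxAbelianSubgroups ↥P := ⟨hcomm A hA.1, fun B hB => by
      refine (hB0.2 B hB).trans ?_
      rw [Subgroup.card_map_of_injective hi, ← hc B0 (hsub B0 hB0)]
      exact hA.2 _ (hcomap B0 hB0.1)⟩
    have e : A.map X.subtype = (A.map i).map P.subtype := by
      rw [Subgroup.map_map]; rfl
    rw [e]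
    exact Subgroup.map_mono (le_sSup hm)

end Cfsg.Agent.ThompsonAQuad
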