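import Mathlib
import Cfsg.Prelude.Def_PLocal
import Cfsg.Prelude.Def_LocalEven
import Cfsg.Agent.Lib.QdStructure56

/-!
Recognising sections isomorphic to `Qd(p)` and moving them between groups with the same
automisers of a normal self-centralizing `p`-subgroup.
-/

set_option autoImplicit false

universe u v w

namespace Cfsg.Agent.FusionQd

open Matrix
open scoped MatrixGroups
open Cfsg.Agent.QdStructure56

/-! ### Sections -/

section Sections

variable {X : Type u} [Group X] {G : Type v} [Group G] {H : Type w} [Group H]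

theorem involves_of_hom {K : Subgroup G} (f : K →* X) (hf : Function.Surjective f) :
    Cfsg.Involves X G := by
  have hR : (f.ker.map K.subtype).subgroupOf K = f.ker :=
    Subgroup.comap_map_eq_self_of_injective K.subtype_injective _
  have hN : ((f.ker.map K.subtype).subgroupOf K).Normal := by rw [hR]; infer_instance
  exact ⟨K, f.ker.map K.subtype, hN,
    ⟨(QuotientGroup.quotientMulEquivOfEq hR).trans (QuotientGroup.quotientKerEquivOfSurjective f hf)⟩⟩

theorem exists_hom_of_involves (h : Cfsg.Involves X G) :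
    ∃ (K : Subgroup G) (f : K →* X), Function.Surjective f := by
  obtain ⟨K, R, hR, ⟨e⟩⟩ := h
  exact ⟨K, e.toMonoidHom.comp (QuotientGroup.mk' (R.subgroupOf K)),
    e.surjective.comp (QuotientGroup.mk'_surjective _)⟩

/-- A section of a quotient is a section. -/
theorem involves_of_surjective {f : G →* H} (hf : Function.Surjective f)
    (h : Cfsg.Involves X H) : Cfsg.Involves X G := by
  obtain ⟨K, g, hg⟩ := exists_hom_of_involves h
  exact involves_of_hom (g.comp (f.subgroupComap K)) (hg.comp fun x => by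
    obtain ⟨y, hy⟩ := hf x.1
    exact ⟨⟨y, show f y ∈ K from hy ▸ x.2⟩, Subtype.ext hy⟩)

/-- A section of a subgroup is a section. -/
theorem involves_of_injective {f : G →* H} (hf : Function.Injective f)
    (h : Cfsg.Involves X G) : Cfsg.Involves X H := by
  obtain ⟨K, g, hg⟩ := exists_hom_of_involves h
  exact involves_of_hom (g.comp (K.equivMapOfInjective f hf).symm.toMonoidHom)
    (hg.comp (K.equivMapOfInjective f hf).symm.surjective)

theorem involves_congr (e : G ≃* H) (h : Cfsg.Involves X G) : Cfsg.Involves X H :=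
  involves_of_injective (f := e.toMonoidHom) e.injective h

theorem involves_mono {K L : Subgroup G} (hKL : K ≤ L) (h : Cfsg.Involves X K) :
    Cfsg.Involves X L :=
  involves_of_injective (f := Subgroup.inclusion hKL) (Subgroup.inclusion_injective hKL) h

end Sections

/-! ### Equivariant action on a quotient `F_p²` -/

variable {p : ℕ} [Fact p.Prime] {G : Type u} [Group G]

/-- The plane `F_p²`, written multiplicatively. -/
abbrev Plane (p : ℕ) := Multiplicative (Fin 2 → ZMod p)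

/-- `x` normalises `R` and acts on the quotient given by `π` as `A`. -/
def Acts (R : Subgroup G) (π : R →* Plane p) (x : G) (A : SL(2, ZMod p)) : Prop :=
  ∀ r : R, ∃ h : x * r * x⁻¹ ∈ R,
    (π ⟨x * r * x⁻¹, h⟩).toAdd = A.1 *ᵥ (π r).toAdd

theorem acts_one (R : Subgroup G) (π : R →* Plane p) : Acts R π 1 1 := by
  intro r
  have e : (1 : G) * r * 1⁻¹ = r := by group
  refine ⟨by rw [e]; exact r.2, ?_⟩
  rw [coeOne, Matrix.one_mulVec]
  exact congrArg (fun z => (π z).toAdd) (Subtype.ext e)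

theorem acts_mul {R : Subgroup G} {π : R →* Plane p} {x y : G} {A B : SL(2, ZMod p)}
    (hx : Acts R π x A) (hy : Acts R π y B) : Acts R π (x * y) (A * B) := by
  intro r
  obtain ⟨h1, e1⟩ := hy r
  obtain ⟨h2, e2⟩ := hx ⟨_, h1⟩
  have e : x * y * r * (x * y)⁻¹ = x * (y * r * y⁻¹) * x⁻¹ := by group
  refine ⟨by rw [e]; exact h2, ?_⟩
  rw [coeMul, ← Matrix.mulVec_mulVec, ← e1, ← e2]
  exact congrArg (fun z => (π z).toAdd) (Subtype.ext e)

theorem acts_unique {R : Subgroup G} {π : R →* Plane p} (hπ : Function.Surjective π) {x : G}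
    {A B : SL(2, ZMod p)} (hA : Acts R π x A) (hB : Acts R π x B) : A = B := by
  rw [← inv_mul_eq_one]
  refine eq_one_of_mulVec fun v _ => ?_
  obtain ⟨r, hr⟩ := hπ (Multiplicative.ofAdd v)
  obtain ⟨_, e1⟩ := hA r
  obtain ⟨_, e2⟩ := hB r
  rw [hr, toAdd_ofAdd] at e1 e2
  rw [coeMul, ← Matrix.mulVec_mulVec, ← e2, e1, Matrix.mulVec_mulVec, ← coeMul, inv_mul_cancel,
    coeOne, Matrix.one_mulVec]

theorem acts_self {R : Subgroup G} (π : R →* Plane p) (s : R) : Acts R π (s : G) 1 := by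
  intro r
  refine ⟨(s * r * s⁻¹ : R).2, ?_⟩
  rw [coeOne, Matrix.one_mulVec]
  show (π (s * r * s⁻¹)).toAdd = _
  rw [map_mul π, map_mul π, map_inv π, mul_comm (π s), mul_inv_cancel_right]

theorem acts_centralizer {R : Subgroup G} (π : R →* Plane p) {c : G}
    (hc : c ∈ Subgroup.centralizer (R : Set G)) : Acts R π c 1 := by
  intro r
  have e : c * r * c⁻¹ = r := by
    rw [← Subgroup.mem_centralizer_iff.mp hc r r.2]; group
  refine ⟨by rw [e]; exact r.2, ?_⟩
  rw [coeOne, Matrix.one_mulVec]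
  exact congrArg (fun z => (π z).toAdd) (Subtype.ext e)

/-- The elements acting through `SL(2,p)`. -/
def eqvGroup [Finite G] (R : Subgroup G) (π : R →* Plane p) : Subgroup G where
  carrier := {x | ∃ A, Acts R π x A}
  one_mem' := ⟨1, acts_one R π⟩
  mul_mem' := fun ⟨_, hx⟩ ⟨_, hy⟩ => ⟨_, acts_mul hx hy⟩
  inv_mem' := fun {x} ⟨A, hx⟩ => by
    have hn : ∀ n : ℕ, Acts R π (x ^ n) (A ^ n) := by
      intro n
      induction n with
      | zero => simpa using acts_one R π
      | succ n ih => simpa [pow_succ] using acts_mul ih hx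
    refine ⟨A ^ (orderOf x - 1), ?_⟩
    have : x⁻¹ = x ^ (orderOf x - 1) := by
      rw [inv_eq_iff_mul_eq_one, ← pow_succ', Nat.sub_add_cancel (orderOf_pos x), pow_orderOf_eq_one]
    rw [this]
    exact hn _

theorem mem_eqvGroup [Finite G] {R : Subgroup G} {π : R →* Plane p} {x : G} :
    x ∈ eqvGroup R π ↔ ∃ A, Acts R π x A := Iff.rfl

theorem le_eqvGroup [Finite G] (R : Subgroup G) (π : R →* Plane p) : R ≤ eqvGroup R π :=
  fun s hs => ⟨1, acts_self π ⟨s, hs⟩⟩

omit [Fact p.Prime] in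
theorem sl2_two_data : ∃ w : SL(2, ZMod 2), w ^ 3 = 1 ∧
    (∀ g : SL(2, ZMod 2), ∃ e : Fin 3, g * w * g⁻¹ = w ^ (e : ℕ)) ∧
      ∀ v : Fin 2 → ZMod 2, w.1 *ᵥ v = v → v = 0 :=
  ⟨⟨!![0, 1; 1, 1], by decide⟩, by decide, by decide, by decide⟩

/-- `SL(2,p)` has a normal cyclic subgroup of prime order other than `p` whose generator fixes no
nonzero vector. -/
theorem exists_fpf_generator :
    ∃ (q : ℕ) (w : SL(2, ZMod p)), q.Prime ∧ p ≠ q ∧ w ^ q = 1 ∧ (Subgroup.zpowers w).Normal ∧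
      ∀ v : Fin 2 → ZMod p, w.1 *ᵥ v = v → v = 0 := by
  by_cases hp : p = 2
  · subst hp
    obtain ⟨w, h1, h2, h3⟩ := sl2_two_data
    exact ⟨3, w, Nat.prime_three, by omega, h1, ⟨fun z hz g => by
      obtain ⟨k, rfl⟩ := Subgroup.mem_zpowers_iff.mp hz
      obtain ⟨e, he⟩ := h2 g
      rw [← MulAut.conj_apply, map_zpow, MulAut.conj_apply, he]
      exact zpow_mem (pow_mem (Subgroup.mem_zpowers _) _) k⟩, h3⟩
  · refine ⟨2, -1, Nat.prime_two, hp, by rw [pow_two, neg_mul_neg, one_mul], ⟨fun z hz g => ?_⟩,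
      fun v hv => ?_⟩
    · obtain ⟨k, rfl⟩ := Subgroup.mem_zpowers_iff.mp hz
      have hc : Commute g (-1 : SL(2, ZMod p)) := (Commute.one_right g).neg_right
      rw [(hc.zpow_right k).eq, mul_inv_cancel_right]
      exact zpow_mem (Subgroup.mem_zpowers _) k
    · rw [Matrix.SpecialLinearGroup.coe_neg, coeOne, Matrix.neg_mulVec, Matrix.one_mulVec] at hv
      have h2 : (2 : ZMod p) ≠ 0 := by
        intro h
        have h' : ((2 : ℕ) : ZMod p) = 0 := by exact_mod_cast h
        rw [ZMod.natCast_eq_zero_iff] at h'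
        exact hp ((Nat.prime_dvd_prime_iff_eq Fact.out Nat.prime_two).mp h')
      funext i
      have := congrFun hv i
      rw [Pi.neg_apply, neg_eq_iff_add_eq_zero, ← two_mul] at this
      simpa using (mul_eq_zero.mp this).resolve_left h2

/-- Recognition of a `Qd(p)` section: a `p`-subgroup `R` with a quotient `F_p²` on which a group
containing `R` acts through all of `SL(2,p)`. -/
theorem involves_qd [Finite G] {R : Subgroup G} (hR : IsPGroup p R)
    {π : R →* Plane p} (hπ : Function.Surjective π) {H : Subgroup G} (hRH : R ≤ H)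
    (hH : ∀ x ∈ H, ∃ A, Acts R π x A) (hsurj : ∀ A : SL(2, ZMod p), ∃ x ∈ H, Acts R π x A) :
    Cfsg.Involves ↥(Cfsg.qd p) H := by
  classical
  obtain ⟨q, w, hq, hpq, hwq, hZn, hfpf⟩ := exists_fpf_generator (p := p)
  haveI := Fact.mk hq
  choose A hA using fun x : H => hH x x.2
  let φ : H →* SL(2, ZMod p) := MonoidHom.mk' A fun x y =>
    acts_unique hπ (hA (x * y)) (by simpa using acts_mul (hA x) (hA y))
  have hφR : ∀ r : R, φ ⟨r, hRH r.2⟩ = 1 := fun r => acts_unique hπ (hA _) (acts_self π r)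
  -- the preimage of the cyclic normal subgroup and its Sylow `q`-subgroup
  let Zc : Subgroup SL(2, ZMod p) := Subgroup.zpowers w
  have hZc : Zc.Normal := hZn
  let B : Subgroup H := Zc.comap φ
  haveI : B.Normal := hZc.comap φ
  obtain ⟨x₀, hx₀, hx₀A⟩ := hsurj w
  have hx₀φ : φ ⟨x₀, hx₀⟩ = w := acts_unique hπ (hA _) hx₀A
  obtain ⟨T⟩ : Nonempty (Sylow q B) := inferInstance
  -- `T` contains an element acting as `w`
  have hTneg : ∃ t : B, t ∈ (T : Subgroup B) ∧ φ t = w := by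
    obtain ⟨k, m, hm, hk⟩ :=
      Nat.exists_eq_pow_mul_and_not_dvd (orderOf_pos (⟨x₀, hx₀⟩ : H)).ne' q hq.ne_one
    obtain ⟨c, hc⟩ : ∃ c : ℕ, (w ^ m) ^ c = w := by
      refine exists_pow_eq_self_of_coprime (Nat.Coprime.coprime_dvd_right
        (orderOf_dvd_of_pow_eq_one hwq) ((hq.coprime_iff_not_dvd.mpr hm).symm))
    have hφ : φ ((⟨x₀, hx₀⟩ : H) ^ (m * c)) = w := by
      rw [map_pow, hx₀φ, pow_mul, hc]
    have hb : (⟨x₀, hx₀⟩ : H) ^ (m * c) ∈ B := by
      show φ _ ∈ Zc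
      rw [hφ]
      exact Subgroup.mem_zpowers _
    have hord : IsPGroup q (Subgroup.zpowers (⟨_, hb⟩ : B)) := by
      rintro ⟨g, hg⟩
      obtain ⟨i, rfl⟩ := Subgroup.mem_zpowers_iff.mp hg
      refine ⟨k, Subtype.ext ?_⟩
      have he : (⟨_, hb⟩ : B) ^ q ^ k = 1 := Subtype.ext (by
        show ((⟨x₀, hx₀⟩ : H) ^ (m * c)) ^ q ^ k = 1
        rw [← pow_mul, show m * c * q ^ k = q ^ k * m * c by ring, ← hk, pow_mul,
          pow_orderOf_eq_one, one_pow])
      show ((⟨_, hb⟩ : B) ^ i) ^ q ^ k = 1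
      rw [← zpow_natCast, ← _root_.zpow_mul, mul_comm i, _root_.zpow_mul, zpow_natCast, he, _root_.one_zpow]
    obtain ⟨T', hT'⟩ := hord.exists_le_sylow
    obtain ⟨c, hc⟩ := MulAction.exists_smul_eq B T' T
    refine ⟨c * ⟨_, hb⟩ * c⁻¹, ?_, ?_⟩
    · rw [← hc]
      exact ⟨_, hT' (Subgroup.mem_zpowers _), rfl⟩
    · show φ ((c : H) * _ * (c : H)⁻¹) = w
      rw [map_mul, map_mul, hφ, map_inv]
      obtain ⟨j, hj⟩ := Subgroup.mem_zpowers_iff.mp (show φ (c : H) ∈ Zc from c.2)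
      rw [← hj, ((Commute.refl w).zpow_left j).eq, mul_inv_cancel_right]
  let N : Subgroup H := Subgroup.normalizer (((T : Subgroup B).map B.subtype : Subgroup H) : Set H)
  have hNB : N ⊔ B = ⊤ := T.normalizer_sup_eq_top
  have hNsurj : ∀ M : SL(2, ZMod p), ∃ n ∈ N, φ n = M := by
    intro M
    obtain ⟨x, hx, hxM⟩ := hsurj M
    obtain ⟨t, ht, htφ⟩ := hTneg
    have hmem : (⟨x, hx⟩ : H) ∈ N ⊔ B := hNB ▸ Subgroup.mem_top _
    obtain ⟨n, hn, b, hb, hnb⟩ := Subgroup.mem_sup_of_normal_right.mp hmem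
    have hxφ : φ ⟨x, hx⟩ = M := acts_unique hπ (hA _) hxM
    have htN : (t : H) ∈ N := Subgroup.le_normalizer ⟨t, ht, rfl⟩
    obtain ⟨i, hi⟩ := Subgroup.mem_zpowers_iff.mp (show φ b ∈ Zc from hb)
    refine ⟨n * (t : H) ^ i, mul_mem hn (zpow_mem htN i), ?_⟩
    rw [map_mul, map_zpow, htφ, hi, ← map_mul, hnb, hxφ]
  -- elements of `R` normalising `T` vanish under `π`
  have hker : ∀ r : R, (⟨r, hRH r.2⟩ : H) ∈ N → π r = 1 := by
    intro r hr
    obtain ⟨t, ht, htφ⟩ := hTneg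
    obtain ⟨h1, e1⟩ := hA (t : H) r
    have hA1 : A (t : H) = w := htφ
    rw [hA1] at e1
    set c : G := (r : G) * ((t : H) : G) * (r : G)⁻¹ * ((t : H) : G)⁻¹ with hc
    have hcR : c ∈ R := by
      have : c = (r : G) * (((t : H) : G) * (r : G) * ((t : H) : G)⁻¹)⁻¹ := by rw [hc]; group
      rw [this]
      exact mul_mem r.2 (inv_mem h1)
    have hcT : (⟨c, hRH hcR⟩ : H) ∈ (T : Subgroup B).map B.subtype := by
      have := mul_mem ((Subgroup.mem_normalizer_iff.mp hr (t : H)).mp ⟨t, ht, rfl⟩)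
        (inv_mem (⟨t, ht, rfl⟩ : (t : H) ∈ (T : Subgroup B).map B.subtype))
      exact this
    obtain ⟨a, ha⟩ := hR ⟨c, hcR⟩
    obtain ⟨b, hb⟩ := (T.2.map B.subtype) ⟨_, hcT⟩
    have ha' : c ^ p ^ a = 1 := congrArg Subtype.val ha
    have hb' : c ^ q ^ b = 1 := congrArg (fun z : ↥((T : Subgroup B).map B.subtype) => ((z : H) : G)) hb
    have hc1 : c = 1 := by
      have hcop : (p ^ a).Coprime (q ^ b) :=
        Nat.Coprime.pow _ _ ((Nat.coprime_primes Fact.out hq).mpr hpq)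
      have := pow_gcd_eq_one.mpr ⟨ha', hb'⟩
      rwa [hcop.gcd_eq_one, pow_one] at this
    have e2 : ((t : H) : G) * r * ((t : H) : G)⁻¹ = r := by
      rw [hc] at hc1
      rw [mul_inv_eq_one] at hc1
      calc ((t : H) : G) * r * ((t : H) : G)⁻¹
          = ((r : G) * ((t : H) : G) * (r : G)⁻¹) * r * ((t : H) : G)⁻¹ := by rw [hc1]
        _ = r := by group
    refine Multiplicative.toAdd.injective ?_
    rw [toAdd_one]
    refine hfpf _ ?_
    rw [← e1]
    exact congrArg (fun z => (π z).toAdd) (Subtype.ext e2)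
  -- the section
  let R' : Subgroup H := R.subgroupOf H
  haveI hR'n : R'.Normal := ⟨fun r hr x => by
    obtain ⟨h1, -⟩ := hA x ⟨r, hr⟩
    exact h1⟩
  have hdec : ∀ x : ↥(R' ⊔ N), ∃ rn : R × N, (⟨rn.1, hRH rn.1.2⟩ : H) * rn.2 = x := fun x => by
    obtain ⟨r, hr, n, hn, e⟩ := Subgroup.mem_sup_of_normal_left.mp x.2
    exact ⟨(⟨r, hr⟩, ⟨n, hn⟩), e⟩
  choose rn hrn using hdec
  let val : R × N → Qd (ZMod p) := fun q => mk (φ q.2) (π q.1).toAdd
  have hwd : ∀ (x : ↥(R' ⊔ N)) (q : R × N), (⟨q.1, hRH q.1.2⟩ : H) * q.2 = x →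
      val (rn x) = val q := by
    intro x q hq
    have e := (hrn x).trans hq.symm
    have hd : (⟨(rn x).1, hRH (rn x).1.2⟩ : H) = ⟨q.1, hRH q.1.2⟩ * (q.2 * ((rn x).2 : H)⁻¹) := by
      rw [← mul_assoc, ← e, mul_inv_cancel_right]
    have hφ2 : φ (q.2 : H) = φ (rn x).2 := by
      have := congrArg φ e
      rw [map_mul, map_mul, hφR, hφR, one_mul, one_mul] at this
      exact this.symm
    have hπ2 : π (rn x).1 = π q.1 := by
      have h := hker (q.1⁻¹ * (rn x).1) (by
        have : (⟨((q.1⁻¹ * (rn x).1 : R) : G), hRH (q.1⁻¹ * (rn x).1).2⟩ : H) =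
            (q.2 : H) * ((rn x).2 : H)⁻¹ := by
          rw [← inv_mul_cancel_left (⟨q.1, hRH q.1.2⟩ : H) ((q.2 : H) * _), ← hd]
          rfl
        rw [this]
        exact mul_mem q.2.2 (inv_mem (rn x).2.2))
      rw [map_mul, map_inv, inv_mul_eq_one] at h
      exact h.symm
    show mk _ _ = mk _ _
    rw [hφ2, hπ2]
  let ψ : ↥(R' ⊔ N) →* Qd (ZMod p) := MonoidHom.mk' (fun x => val (rn x)) fun x y => by
    obtain ⟨h1, e1⟩ := hA ((rn x).2 : H) (rn y).1
    have hq : (⟨((rn x).1 * ⟨_, h1⟩ : R), hRH ((rn x).1 * ⟨_, h1⟩).2⟩ : H) *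
        ((rn x).2 * (rn y).2 : N) = (x * y : ↥(R' ⊔ N)) := by
      show _ = (x : H) * (y : H)
      conv_rhs => rw [← hrn x, ← hrn y]
      apply Subtype.ext
      simp [mul_assoc]
    show val (rn (x * y)) = val (rn x) * val (rn y)
    rw [hwd _ ((rn x).1 * ⟨_, h1⟩, (rn x).2 * (rn y).2) hq]
    show mk (φ ((rn x).2 * (rn y).2 : H)) (π _).toAdd = mk _ _ * mk _ _
    rw [mk_mul, ← map_mul φ, map_mul π, toAdd_mul, e1, add_comm]
    rfl
  have hψ : Function.Surjective ψ := by
    intro M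
    obtain ⟨n, hn, hnA⟩ := hNsurj (blk M)
    obtain ⟨r, hr⟩ := hπ (Multiplicative.ofAdd (vec M))
    refine ⟨⟨(⟨r, hRH r.2⟩ : H) * n, mul_mem (Subgroup.mem_sup_left r.2)
      (Subgroup.mem_sup_right hn)⟩, ?_⟩
    show val (rn _) = M
    rw [hwd _ (r, ⟨n, hn⟩) rfl]
    show mk (φ n) (π r).toAdd = M
    rw [hnA, hr, toAdd_ofAdd, mk_blk_vec]
  exact involves_of_hom ψ hψ

/-- Normal form of a `Qd(p)` section. -/
theorem exists_qd_data [Finite G] (h : Cfsg.Involves ↥(Cfsg.qd p) G) :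
    ∃ (R M : Subgroup G) (π : R →* Plane p) (f : M →* Qd (ZMod p)),
      IsPGroup p R ∧ R ≤ M ∧ Function.Surjective π ∧ Function.Surjective f ∧
        (∀ r : R, ∃ hr : (r : G) ∈ M, f ⟨r, hr⟩ = trn (π r)) ∧
        (∀ x : M, Acts R π x (blk (f x))) := by
  obtain ⟨K, f, hf⟩ : ∃ (K : Subgroup G) (f : K →* Qd (ZMod p)), Function.Surjective f :=
    exists_hom_of_involves h
  let V : Subgroup K := (transl (ZMod p)).comap f
  haveI : V.Normal := transl_normal.comap f
  obtain ⟨T⟩ : Nonempty (Sylow p V) := inferInstance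
  let TK : Subgroup K := (T : Subgroup V).map V.subtype
  let f' : V →* transl (ZMod p) := f.subgroupComap (transl (ZMod p))
  have hf' : Function.Surjective f' := fun x => by
    obtain ⟨y, hy⟩ := hf x.1
    exact ⟨⟨y, show f y ∈ transl _ from hy ▸ x.2⟩, Subtype.ext hy⟩
  have hT : (T : Subgroup V).map f' = ⊤ := by
    rw [← Sylow.coe_mapSurjective hf' T]
    exact ((T.mapSurjective hf').3 (transl_isPGroup.of_equiv Subgroup.topEquiv.symm) le_top).symm
  let R : Subgroup G := TK.map K.subtype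
  let MK : Subgroup K := Subgroup.normalizer (TK : Set K)
  have hTV : ∀ t : K, t ∈ TK → f t ∈ transl (ZMod p) := by
    rintro _ ⟨t, -, rfl⟩; exact t.2
  have hMK : ∀ y, ∃ x ∈ MK, f x = y := by
    intro y
    obtain ⟨x, hx⟩ := hf y
    have hmem : x ∈ MK ⊔ V := T.normalizer_sup_eq_top ▸ Subgroup.mem_top _
    obtain ⟨n, hn, v, hv, hnv⟩ := Subgroup.mem_sup_of_normal_right.mp hmem
    have hv' : f' ⟨v, hv⟩ ∈ (T : Subgroup V).map f' := hT ▸ Subgroup.mem_top _
    obtain ⟨t, ht, htv⟩ := hv'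
    refine ⟨n * t, mul_mem hn (Subgroup.le_normalizer ⟨t, ht, rfl⟩), ?_⟩
    have htv' : f (t : K) = f v := congrArg Subtype.val htv
    rw [map_mul, htv', ← map_mul, hnv, hx]
  let e := TK.equivMapOfInjective K.subtype K.subtype_injective
  let π : R →* Plane p :=
    MonoidHom.mk' (fun r => Multiplicative.ofAdd (vec (f (e.symm r : K)))) fun r s => by
      rw [map_mul, Subgroup.coe_mul, map_mul, vec_mul, mem_transl.mp (hTV _ (e.symm r).2), coeOne,
        Matrix.one_mulVec, add_comm, ofAdd_add]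
  have he : ∀ r : R, ((e.symm r : K) : G) = r := fun r => by
    conv_rhs => rw [← e.apply_symm_apply r]
    rfl
  let g := (MK.equivMapOfInjective K.subtype K.subtype_injective)
  refine ⟨R, MK.map K.subtype, π, f.comp (MK.subtype.comp g.symm.toMonoidHom),
    (T.2.map _).map _, Subgroup.map_mono Subgroup.le_normalizer, ?_, ?_, ?_, ?_⟩
  · intro v
    have hv : trn v ∈ transl (ZMod p) := mem_transl.mpr (by simp [trn])
    have : (⟨trn v, hv⟩ : transl (ZMod p)) ∈ (T : Subgroup V).map f' := hT ▸ Subgroup.mem_top _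
    obtain ⟨t, ht, hte⟩ := this
    refine ⟨e ⟨t, ⟨t, ht, rfl⟩⟩, ?_⟩
    show Multiplicative.ofAdd (vec (f (e.symm (e _) : K))) = v
    rw [e.symm_apply_apply]
    show Multiplicative.ofAdd (vec (f (t : K))) = v
    rw [show f (t : K) = trn v from congrArg Subtype.val hte]
    simp [trn]
  · intro y
    obtain ⟨x, hx, rfl⟩ := hMK y
    exact ⟨g ⟨x, hx⟩, by simp⟩
  · intro r
    refine ⟨⟨_, Subgroup.le_normalizer (e.symm r).2, he r⟩, ?_⟩
    show f _ = trn (Multiplicative.ofAdd (vec (f (e.symm r : K))))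
    rw [← eq_trn_of_blk (mem_transl.mp (hTV _ (e.symm r).2))]
    congr 1
    apply K.subtype_injective
    show _ = ((e.symm r : K) : G)
    rw [he r]
    exact congrArg Subtype.val (g.apply_symm_apply _)
  · intro x r
    set y : MK := g.symm x with hy
    have hyx : ((y : K) : G) = x := congrArg Subtype.val (g.apply_symm_apply x)
    have hm : (y : K) * (e.symm r : K) * (y : K)⁻¹ ∈ TK :=
      (Subgroup.mem_normalizer_iff.mp y.2 _).mp (e.symm r).2
    have hm' : (x : G) * r * (x : G)⁻¹ ∈ R := ⟨_, hm, by simp [hyx, he r]⟩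
    refine ⟨hm', ?_⟩
    have e2 : (e.symm ⟨_, hm'⟩ : K) = (y : K) * (e.symm r : K) * (y : K)⁻¹ :=
      K.subtype_injective (by simp [he, hyx])
    show vec (f (e.symm ⟨_, hm'⟩ : K)) = (blk (f (y : K))).1 *ᵥ vec (f (e.symm r : K))
    rw [e2, map_mul, map_mul, map_inv, conj_transl _ (hTV _ (e.symm r).2)]

/-- A normal subgroup of `Qd(p)` inside the translations is trivial or all of them. -/
theorem normal_le_transl {N : Subgroup (Qd (ZMod p))} (hN : N.Normal) (hle : N ≤ transl (ZMod p)) :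
    N = ⊥ ∨ N = transl (ZMod p) := by
  by_cases hb : N = ⊥
  · exact Or.inl hb
  refine Or.inr (le_antisymm hle fun M hM => ?_)
  obtain ⟨M₀, hM₀, hne⟩ : ∃ M₀ ∈ N, M₀ ≠ 1 := by
    by_contra! hall
    exact hb ((Subgroup.eq_bot_iff_forall _).mpr hall)
  have h0 : vec M₀ ≠ 0 := fun h => hne (ext_blk_vec
    (by rw [mem_transl.mp (hle hM₀), map_one]) (by rw [h, vec_one]))
  by_cases hM0 : vec M = 0
  · have : M = 1 := ext_blk_vec (by rw [mem_transl.mp hM, map_one]) (by rw [hM0, vec_one])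
    exact this ▸ one_mem N
  obtain ⟨A, hA⟩ := exists_mulVec_eq h0 hM0
  have h1 : lift A * M₀ * (lift A)⁻¹ ∈ N := hN.conj_mem _ hM₀ _
  have h2 : lift A * M₀ * (lift A)⁻¹ = M := ext_blk_vec
    (by rw [mem_transl.mp (hle h1), mem_transl.mp hM])
    (by rw [conj_transl _ (hle hM₀), blk_lift, hA])
  exact h2 ▸ h1

/-- A `Qd(p)` section of `G` passes to any group in which the conjugation action of `G` on a normal
self-centralizing `p`-subgroup is realized on an isomorphic subgroup. -/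
theorem involves_transfer [Finite G] {Q : Subgroup G} [Q.Normal] (hQ : IsPGroup p Q)
    (hC : Subgroup.centralizer (Q : Set G) ≤ Q) {L : Type v} [Group L] [Finite L] (θ : Q →* L)
    (hθ : Function.Injective θ)
    (hact : ∀ g : G, ∃ l : L, ∀ q : Q,
      θ ⟨g * q * g⁻¹, (inferInstance : Q.Normal).conj_mem _ q.2 g⟩ = l * θ q * l⁻¹)
    (h : Cfsg.Involves ↥(Cfsg.qd p) G) : Cfsg.Involves ↥(Cfsg.qd p) L := by
  classical
  obtain ⟨R, M, π, f, hR, hRM, hπ, hf, hfR, hact'⟩ := exists_qd_data h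
  let QM : Subgroup M := Q.subgroupOf M
  haveI hQMn : QM.Normal := Subgroup.normal_subgroupOf
  haveI hN : (QM.map f).Normal := Subgroup.Normal.map hQMn f hf
  have hle : QM.map f ≤ transl (ZMod p) := by
    rw [← transl_eq_pCore (p := p)]
    exact le_sSup ⟨hN, (hQ.of_injective (M.subtype.subgroupComap Q)
      (fun a b e => Subtype.ext (Subtype.ext (congrArg (fun z : Q => (z : G)) e)))).map f⟩
  have hlift : ∀ x : M, ∃ l : L, ∀ q : Q,
      θ ⟨(x : G) * q * (x : G)⁻¹, (inferInstance : Q.Normal).conj_mem _ q.2 _⟩ = l * θ q * l⁻¹ :=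
    fun x => hact x
  rcases normal_le_transl hN hle with h0 | h1
  · -- the section comes from the group of automorphisms
    let K : Subgroup L :=
      { carrier := {l | ∃ x : M, ∀ q : Q,
          θ ⟨(x : G) * q * (x : G)⁻¹, (inferInstance : Q.Normal).conj_mem _ q.2 _⟩ =
            l * θ q * l⁻¹}
        one_mem' := ⟨1, fun q => by simp⟩
        mul_mem' := fun {a b} ⟨x, hx⟩ ⟨y, hy⟩ => ⟨x * y, fun q => by
          have h2 := hx ⟨(y : G) * q * (y : G)⁻¹, (inferInstance : Q.Normal).conj_mem _ q.2 _⟩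
          rw [hy q] at h2
          simpa [mul_assoc] using h2⟩
        inv_mem' := fun {a} ⟨x, hx⟩ => ⟨x⁻¹, fun q => by
          have h2 := hx ⟨(x : G)⁻¹ * q * (x : G), by
            simpa using (inferInstance : Q.Normal).conj_mem _ q.2 (x : G)⁻¹⟩
          have e : (⟨(x : G) * ((x : G)⁻¹ * q * (x : G)) * (x : G)⁻¹,
              (inferInstance : Q.Normal).conj_mem _ (by
                simpa using (inferInstance : Q.Normal).conj_mem _ q.2 (x : G)⁻¹) _⟩ : Q) = q :=
            Subtype.ext (by group)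
          rw [e] at h2
          rw [h2]
          simp [mul_assoc]⟩ }
    choose x hx using fun l : K => l.2
    have huniq : ∀ a b : M, (∀ q : Q, θ ⟨(a : G) * q * (a : G)⁻¹,
        (inferInstance : Q.Normal).conj_mem _ q.2 _⟩ = θ ⟨(b : G) * q * (b : G)⁻¹,
          (inferInstance : Q.Normal).conj_mem _ q.2 _⟩) → f a = f b := by
      intro a b hab
      have hc : ((b⁻¹ * a : M) : G) ∈ Subgroup.centralizer (Q : Set G) := by
        refine Subgroup.mem_centralizer_iff.mpr fun q hq => ?_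
        have e := congrArg Subtype.val (hθ (hab ⟨q, hq⟩))
        simp only [Subgroup.coe_mul, InvMemClass.coe_inv] at e ⊢
        calc q * ((b : G)⁻¹ * a) = (b : G)⁻¹ * ((b : G) * q * (b : G)⁻¹) * a := by group
          _ = (b : G)⁻¹ * ((a : G) * q * (a : G)⁻¹) * a := by rw [e]
          _ = (b : G)⁻¹ * a * q := by group
      have hm : f (b⁻¹ * a) ∈ QM.map f := ⟨_, hC hc, rfl⟩
      rw [h0, Subgroup.mem_bot, map_mul, map_inv, inv_mul_eq_one] at hm
      exact hm.symm
    let Φ : K →* Qd (ZMod p) := MonoidHom.mk' (fun l => f (x l)) fun a b => by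
      rw [← map_mul]
      refine huniq _ _ fun q => ?_
      rw [hx (a * b) q]
      have h2 := hx a ⟨(x b : G) * q * (x b : G)⁻¹, (inferInstance : Q.Normal).conj_mem _ q.2 _⟩
      rw [hx b q] at h2
      simp only [Subgroup.coe_mul, _root_.mul_inv_rev, mul_assoc] at h2 ⊢
      exact h2.symm
    refine involves_of_hom Φ fun y => ?_
    obtain ⟨m, rfl⟩ := hf y
    obtain ⟨l, hl⟩ := hlift m
    exact ⟨⟨l, m, hl⟩, huniq _ _ fun q => by rw [hx ⟨l, m, hl⟩ q, hl q]⟩
  · -- the translations come from `Q`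
    let R₁ : Subgroup G := QM.map M.subtype
    have hR₁Q : R₁ ≤ Q := by rintro _ ⟨r, hr, rfl⟩; exact hr
    let toM : R₁ →* M := Subgroup.inclusion (Subgroup.map_subtype_le QM)
    have htoM : ∀ r : R₁, toM r ∈ QM := fun r => hR₁Q r.2
    have hblk : ∀ r : R₁, blk (f (toM r)) = 1 :=
      fun r => mem_transl.mp (hle ⟨_, htoM r, rfl⟩)
    let π₁ : R₁ →* Plane p := MonoidHom.mk' (fun r => Multiplicative.ofAdd (vec (f (toM r))))
      fun r s => by
        rw [map_mul, map_mul, vec_mul, hblk r, coeOne, Matrix.one_mulVec, add_comm, ofAdd_add]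
    let θ₁ : R₁ →* L := θ.comp (Subgroup.inclusion hR₁Q)
    have hθ₁ : Function.Injective θ₁ := hθ.comp (Subgroup.inclusion_injective hR₁Q)
    let e₁ := MonoidHom.ofInjective hθ₁
    have hπ' : Function.Surjective (π₁.comp e₁.symm.toMonoidHom) := by
      show Function.Surjective (π₁ ∘ e₁.symm)
      refine Function.Surjective.comp ?_ e₁.symm.surjective
      intro v
      have hv : trn v ∈ QM.map f := h1 ▸ mem_transl.mpr (by simp [trn])
      obtain ⟨r, hr, hre⟩ := hv
      refine ⟨⟨r, r, hr, rfl⟩, ?_⟩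
      show Multiplicative.ofAdd (vec (f (toM ⟨r, r, hr, rfl⟩))) = v
      rw [show toM ⟨r, r, hr, rfl⟩ = r from rfl, hre]
      simp [trn]
    have hacts : ∀ (m : M) (l : L), (∀ q : Q,
        θ ⟨(m : G) * q * (m : G)⁻¹, (inferInstance : Q.Normal).conj_mem _ q.2 _⟩ =
          l * θ q * l⁻¹) → Acts θ₁.range (π₁.comp e₁.symm.toMonoidHom) l (blk (f m)) := by
      intro m l hl z
      obtain ⟨r, rfl⟩ := e₁.surjective z
      have hm : (m : G) * r * (m : G)⁻¹ ∈ R₁ :=
        ⟨m * toM r * m⁻¹, hQMn.conj_mem _ (htoM r) m, rfl⟩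
      have el : θ₁ ⟨_, hm⟩ = l * θ₁ r * l⁻¹ := hl ⟨r, hR₁Q r.2⟩
      refine ⟨⟨_, el⟩, ?_⟩
      have e2 : e₁.symm ⟨l * (e₁ r : L) * l⁻¹, ⟨_, el⟩⟩ = ⟨_, hm⟩ :=
        e₁.symm_apply_eq.mpr (Subtype.ext el.symm)
      show (π₁ (e₁.symm _)).toAdd = _ *ᵥ (π₁ (e₁.symm (e₁ r))).toAdd
      rw [e2, e₁.symm_apply_apply]
      show vec (f (toM ⟨_, hm⟩)) = (blk (f m)).1 *ᵥ vec (f (toM r))
      rw [← conj_transl _ (mem_transl.mpr (hblk r)), ← map_inv, ← map_mul, ← map_mul]
      rfl
    refine involves_of_injective (f := (eqvGroup θ₁.range (π₁.comp e₁.symm.toMonoidHom)).subtype)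
      (Subgroup.subtype_injective _) (involves_qd
        ((hQ.to_le hR₁Q).of_equiv e₁) hπ' (le_eqvGroup _ _) (fun x hx => hx) fun A => ?_)
    obtain ⟨m, hm⟩ := hf (lift A)
    obtain ⟨l, hl⟩ := hlift m
    have := hacts m l hl
    rw [hm, blk_lift] at this
    exact ⟨l, ⟨A, this⟩, this⟩

end Cfsg.Agent.FusionQd
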