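import Cfsg.Agent.Lib.OffenderSL2Coord31

/-!
An abelian offender on a finite abelian `p`-group, together with a subgroup `T0` of fixed points of a
Sylow subgroup `S` whose stabiliser contains every normalizer of a nontrivial subgroup normalised by
`S`: some element of order prime to `p` permutes transitively the nonzero elements of its commutator
with `T0`.
-/

set_option autoImplicit false

namespace Cfsg.Agent.OffenderTorus31

open Matrix OffenderSL2Gen31
open scoped MatrixGroups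

variable {P : Type*} [Group P] {W : Type*} [AddCommGroup W] [DistribMulAction P W] {p : ℕ}

/-- A strict abelian offender. -/
structure Strict (p : ℕ) (A : Subgroup P) : Prop where
  faithful : ∀ g : P, (∀ w : W, g • w = w) → g = 1
  expW : ∃ N : ℕ, ∀ w : W, p ^ N • w = 0
  ne : A ≠ ⊥
  comm : ∀ a ∈ A, ∀ b ∈ A, a * b = b * a
  pgroup : ∀ a ∈ A, ∃ k : ℕ, a ^ p ^ k = 1
  off : Nat.card W ≤ Nat.card A * Nat.card (fixW W A)
  strict : ∀ A₀ : Subgroup P, A₀ ≤ A → A₀ ≠ ⊥ → A₀ ≠ A →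
    Nat.card A₀ * Nat.card (fixW W A₀) < Nat.card A * Nat.card (fixW W A)
  small : ∀ A₀ : Subgroup P, A₀ ≤ A → A₀ ≠ ⊥ → A₀ ≠ A →
    Nat.card A₀ * Nat.card (fixW W A₀) < Nat.card W

variable [Finite P] [Finite W] [hp : Fact p.Prime] {A : Subgroup P}

/-- A strict offender acts quadratically. -/
theorem quad (h : Strict (W := W) p A) {a : P} (ha : a ∈ A) (w : W) : a • w - w ∈ fixW W A := by
  classical
  let B : Subgroup P :=
    { carrier := {b | b ∈ A ∧ ∀ c ∈ A, b • (c • w - w) = c • w - w}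
      one_mem' := ⟨one_mem _, fun _ _ => one_smul _ _⟩
      mul_mem' := fun {a b} ha hb => ⟨A.mul_mem ha.1 hb.1, fun c hc => by
        rw [mul_smul, hb.2 c hc, ha.2 c hc]⟩
      inv_mem' := fun {a} ha => ⟨A.inv_mem ha.1, fun c hc => by
        conv_lhs => rw [← ha.2 c hc]
        rw [inv_smul_smul]⟩ }
  have hBA : B ≤ A := fun b hb => hb.1
  set D := AddSubgroup.closure ((fun c : P => c • w - w) '' (A : Set P)) with hD
  set C := fixW W A with hC
  have hDB : D ⊔ C ≤ fixW W B := by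
    refine sup_le ((AddSubgroup.closure_le _).mpr ?_) (fixW_anti hBA)
    rintro _ ⟨c, hc, rfl⟩ b hb
    exact hb.2 c hc
  -- `A / B` embeds into `(D + C) / C`
  have key : ∀ a b : A, (b : P) • w - (a : P) • w ∈ C → (a : P)⁻¹ * b ∈ B := by
    intro a b hab
    refine ⟨A.mul_mem (A.inv_mem a.2) b.2, fun c hc => ?_⟩
    set e : P := (a : P)⁻¹ * b with he
    have hw : e • w = w + ((b : P) • w - (a : P) • w) := by
      have h1 := hab _ (A.inv_mem a.2)
      rw [smul_sub, inv_smul_smul, ← mul_smul, sub_eq_iff_eq_add] at h1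
      rw [h1]; abel
    rw [smul_sub, ← mul_smul, h.comm e (A.mul_mem (A.inv_mem a.2) b.2) c hc, mul_smul, hw, smul_add,
      hab c hc]
    abel
  let f : A → ↥(D ⊔ C) ⧸ C.addSubgroupOf (D ⊔ C) := fun a =>
    QuotientAddGroup.mk ⟨(a : P) • w - w,
      AddSubgroup.mem_sup_left (AddSubgroup.subset_closure ⟨a, a.2, rfl⟩)⟩
  have hf : ∀ a b : A, f a = f b → (a : A ⧸ B.subgroupOf A) = b := by
    intro a b hab
    rw [QuotientGroup.eq]
    refine Subgroup.mem_subgroupOf.mpr (key a b ?_)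
    have h1 : -((a : P) • w - w) + ((b : P) • w - w) ∈ C :=
      AddSubgroup.mem_addSubgroupOf.mp (QuotientAddGroup.eq.mp hab)
    rwa [show -((a : P) • w - w) + ((b : P) • w - w) = (b : P) • w - (a : P) • w by abel] at h1
  have hidx : (B.subgroupOf A).index ≤ (C.addSubgroupOf (D ⊔ C)).index := by
    refine Nat.card_le_card_of_injective (fun q => f q.out) fun q q' hq => ?_
    have := hf _ _ hq
    rwa [QuotientGroup.out_eq', QuotientGroup.out_eq'] at this
  have hcount : Nat.card A * Nat.card C ≤ Nat.card B * Nat.card (D ⊔ C : AddSubgroup W) := by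
    have e1 := (B.subgroupOf A).card_mul_index
    have e2 := (C.addSubgroupOf (D ⊔ C)).card_mul_index
    rw [Nat.card_congr (Subgroup.subgroupOfEquivOfLe hBA).toEquiv] at e1
    rw [Nat.card_congr (AddSubgroup.addSubgroupOfEquivOfLe (le_sup_right : C ≤ D ⊔ C)).toEquiv] at e2
    rw [← e1, ← e2]
    calc Nat.card B * (B.subgroupOf A).index * Nat.card C
        ≤ Nat.card B * (C.addSubgroupOf (D ⊔ C)).index * Nat.card C :=
          Nat.mul_le_mul_right _ (Nat.mul_le_mul_left _ hidx)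
      _ = _ := by ring
  by_cases hB : B = A
  · exact fun b hb => (hB.ge hb).2 a ha
  exfalso
  have hBbot : B = ⊥ := by
    by_contra hne
    exact (h.strict B hBA hne hB).not_ge
      (hcount.trans (Nat.mul_le_mul_left _ (AddSubgroup.card_le_of_le hDB)))
  have htop : D ⊔ C = ⊤ := by
    refine AddSubgroup.eq_top_of_card_eq _ (le_antisymm (Finite.card_subtype_le _) ?_)
    have := h.off.trans hcount
    rwa [hBbot, Subgroup.card_bot, one_mul] at this
  -- `[W, A] = [W, A, A]` forces a trivial action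
  let D0 := AddSubgroup.closure {u | ∃ c ∈ A, ∃ v : W, c • v - v = u}
  have hDD : D ≤ D0 := (AddSubgroup.closure_le _).mpr (by
    rintro _ ⟨c, hc, rfl⟩
    exact AddSubgroup.subset_closure ⟨c, hc, w, rfl⟩)
  have hgenD : ∀ c ∈ A, ∀ v : W, ∃ d ∈ D0, c • v - v = c • d - d := by
    intro c hc v
    obtain ⟨d, hd, z, hz, rfl⟩ := AddSubgroup.mem_sup.mp (htop.ge (AddSubgroup.mem_top v))
    exact ⟨d, hDD hd, by rw [smul_add, hz c hc]; abel⟩
  let δ : P → AddMonoid.End W := fun c => DistribMulAction.toAddMonoidEnd P W c - 1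
  have hδ : ∀ (c : P) (v : W), δ c v = c • v - v := fun c v => rfl
  have hcomm : ∀ c ∈ A, ∀ d ∈ A, Commute (δ c) (δ d) := by
    intro c hc d hd
    have : Commute (DistribMulAction.toAddMonoidEnd P W c) (DistribMulAction.toAddMonoidEnd P W d) := by
      show _ * _ = _ * _
      rw [← map_mul, ← map_mul, h.comm c hc d hd]
    exact ((this.sub_left (Commute.one_left _)).sub_right (Commute.one_right _))
  obtain ⟨N, hN⟩ := h.expW
  have hnil : ∀ c ∈ A, ∃ n, δ c ^ n = 0 := by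
    intro c hc
    obtain ⟨k, hk⟩ := h.pgroup c hc
    obtain ⟨r, hr⟩ := (Commute.one_left (δ c)).exists_add_pow_prime_pow_eq hp.out k
    have h1 : (1 : AddMonoid.End W) + δ c = DistribMulAction.toAddMonoidEnd P W c :=
      add_sub_cancel _ _
    rw [h1, ← map_pow, hk, map_one, one_pow, mul_one, mul_assoc, add_assoc,
      left_eq_add, add_eq_zero_iff_eq_neg, ← mul_neg] at hr
    refine ⟨p ^ k * N, ?_⟩
    rw [pow_mul, hr, (Nat.cast_commute p _).mul_pow]
    refine AddMonoidHom.ext fun v => ?_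
    show ((p : AddMonoid.End W) ^ N) (((-(δ c * r)) ^ N) v) = (0 : W)
    rw [← Nat.cast_pow]
    exact (AddMonoid.End.natCast_apply _ _).trans (hN _)
  have hD0bot : ∀ s : Finset P, (∀ c ∈ s, c ∈ A) → ∀ E : AddSubgroup W,
      (∀ c ∈ A, ∀ v ∈ E, δ c v ∈ E) →
      E ≤ AddSubgroup.closure {u | ∃ c ∈ s, ∃ v ∈ E, δ c v = u} → E = ⊥ := by
    intro s
    induction s using Finset.induction_on with
    | empty =>
      intro _ E _ hE
      refine eq_bot_iff.mpr (hE.trans ((AddSubgroup.closure_le _).mpr ?_))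
      rintro u ⟨c, hc, -⟩
      exact absurd hc (Finset.notMem_empty c)
    | insert c s hcs ih =>
      intro hs E hinv hE
      refine ih (fun d hd => hs d (Finset.mem_insert_of_mem hd)) E hinv ?_
      set R := AddSubgroup.closure {u | ∃ d ∈ s, ∃ v ∈ E, δ d v = u}
      have hcA : c ∈ A := hs c (Finset.mem_insert_self c s)
      have hR : ∀ r ∈ R, δ c r ∈ R := by
        intro r hr
        refine AddSubgroup.closure_induction (p := fun r _ => δ c r ∈ R) ?_ (by simp [map_zero, R.zero_mem])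
          (fun _ _ _ _ h1 h2 => by rw [map_add]; exact R.add_mem h1 h2)
          (fun _ _ h1 => by rw [map_neg]; exact R.neg_mem h1) hr
        rintro _ ⟨d, hd, v, hv, rfl⟩
        refine AddSubgroup.subset_closure ⟨d, hd, δ c v, hinv c hcA v hv, ?_⟩
        exact DFunLike.congr_fun (hcomm d (hs d (Finset.mem_insert_of_mem hd)) c hcA).eq v
      have step : ∀ v ∈ E, ∃ v' ∈ E, ∃ r ∈ R, v = δ c v' + r := by
        intro v hv
        refine AddSubgroup.closure_induction (p := fun u _ => ∃ v' ∈ E, ∃ r ∈ R, u = δ c v' + r) ?_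
          ⟨0, E.zero_mem, 0, R.zero_mem, by rw [map_zero, add_zero]⟩ ?_ ?_ (hE hv)
        · rintro _ ⟨d, hd, v', hv', rfl⟩
          rcases Finset.mem_insert.mp hd with rfl | hd
          · exact ⟨v', hv', 0, R.zero_mem, (add_zero _).symm⟩
          · exact ⟨0, E.zero_mem, _, AddSubgroup.subset_closure ⟨d, hd, v', hv', rfl⟩,
              by rw [map_zero, zero_add]⟩
        · rintro _ _ _ _ ⟨v1, h1, r1, hr1, rfl⟩ ⟨v2, h2, r2, hr2, rfl⟩
          exact ⟨v1 + v2, E.add_mem h1 h2, r1 + r2, R.add_mem hr1 hr2, by rw [map_add]; abel⟩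
        · rintro _ _ ⟨v1, h1, r1, hr1, rfl⟩
          exact ⟨-v1, E.neg_mem h1, -r1, R.neg_mem hr1, by rw [map_neg]; abel⟩
      have iter : ∀ k : ℕ, ∀ v ∈ E, ∃ v' ∈ E, ∃ r ∈ R, v = (δ c ^ k) v' + r := by
        intro k
        induction k with
        | zero => exact fun v hv => ⟨v, hv, 0, R.zero_mem, by simp⟩
        | succ k ihk =>
          intro v hv
          obtain ⟨v1, h1, r1, hr1, rfl⟩ := ihk v hv
          obtain ⟨v2, h2, r2, hr2, rfl⟩ := step v1 h1
          have hRk : ∀ k, ∀ r ∈ R, (δ c ^ k) r ∈ R := by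
            intro k
            induction k with
            | zero => exact fun r hr => by simpa using hr
            | succ k ihk' => exact fun r hr => by rw [pow_succ]; exact ihk' _ (hR r hr)
          refine ⟨v2, h2, (δ c ^ k) r2 + r1, R.add_mem (hRk k _ hr2) hr1, ?_⟩
          rw [map_add, pow_succ]
          show _ + _ + _ = (δ c ^ k) (δ c v2) + _
          abel
      intro v hv
      obtain ⟨n, hn⟩ := hnil c hcA
      obtain ⟨v', -, r, hr, rfl⟩ := iter n v hv
      rw [hn]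
      show (0 : W) + r ∈ R
      rwa [zero_add]
  haveI := Fintype.ofFinite P
  have hbot : D0 = ⊥ := by
    refine hD0bot (Finset.univ.filter (· ∈ A)) (fun c hc => (Finset.mem_filter.mp hc).2) D0
      (fun c hc v hv => AddSubgroup.subset_closure ⟨c, hc, v, rfl⟩) ((AddSubgroup.closure_le _).mpr ?_)
    rintro _ ⟨c, hc, v, rfl⟩
    obtain ⟨d, hd, e⟩ := hgenD c hc v
    exact AddSubgroup.subset_closure ⟨c, Finset.mem_filter.mpr ⟨Finset.mem_univ c, hc⟩, d, hd, e.symm⟩
  refine h.ne ((Subgroup.eq_bot_iff_forall A).mpr fun c hc => h.faithful c fun v => ?_)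
  have h1 : c • v - v ∈ D0 := AddSubgroup.subset_closure ⟨c, hc, v, rfl⟩
  rwa [hbot, AddSubgroup.mem_bot, sub_eq_zero] at h1

/-- A strict offender is elementary abelian. -/
theorem pow_p (h : Strict (W := W) p A) : ∀ a ∈ A, a ^ p = 1 := by
  classical
  by_contra hne
  push Not at hne
  obtain ⟨a₁, ha₁, ha₁p⟩ := hne
  set C := fixW W A with hC
  have hadd : ∀ a ∈ A, ∀ (v : W) (n : ℕ), a ^ n • v = v + n • (a • v - v) := by
    intro a ha v n
    induction n with
    | zero => simp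
    | succ n ih =>
      rw [pow_succ', mul_smul, ih, smul_add, C.nsmul_mem (quad h ha v) n a ha, succ_nsmul]
      abel
  let φ : A →* P :=
    { toFun := fun a => (a : P) ^ p
      map_one' := one_pow p
      map_mul' := fun a b => Commute.mul_pow (h.comm a a.2 b b.2) p }
  set A1 : Subgroup P := φ.ker.map A.subtype with hA1
  set A2 : Subgroup P := φ.range with hA2
  have hA1A : A1 ≤ A := Subgroup.map_subtype_le _
  have hA2A : A2 ≤ A := by
    rintro _ ⟨a, rfl⟩
    exact A.pow_mem a.2 p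
  have hcard : Nat.card A = Nat.card A1 * Nat.card A2 := by
    rw [hA1, Subgroup.card_map_of_injective A.subtype_injective, hA2, ← Subgroup.index_ker,
      Subgroup.card_mul_index]
  -- the two fixed point groups
  let ψ : W →+ W := DistribSMul.toAddMonoidHom W p
  have h1 : ψ.range ⊔ C ≤ fixW W A1 := by
    refine sup_le ?_ (fixW_anti hA1A)
    rintro _ ⟨v, rfl⟩ g ⟨a, ha, rfl⟩
    show (a : P) • (p • v) = p • v
    have hz := hadd a a.2 v p
    rw [show (a : P) ^ p = 1 from MonoidHom.mem_ker.mp ha, one_smul, left_eq_add, nsmul_sub,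
      sub_eq_zero] at hz
    rw [smul_comm, hz]
  have h2 : C.comap ψ ≤ fixW W A2 := by
    rintro v hv g ⟨a, rfl⟩
    show (a : P) ^ p • v = v
    have hv' : (a : P) • (p • v) = p • v := hv a a.2
    rw [hadd a a.2 v p, nsmul_sub, ← smul_comm, hv', sub_self, add_zero]
  have hprod : Nat.card W * Nat.card C =
      Nat.card (ψ.range ⊔ C : AddSubgroup W) * Nat.card (C.comap ψ) := by
    have hs := OffenderSL2Gen31.card_sup_mul_card_inf ψ.range C
    let χ := ψ.comp (C.comap ψ).subtype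
    have hr : χ.range = ψ.range ⊓ C := by
      ext w
      constructor
      · rintro ⟨⟨v, hv⟩, rfl⟩
        exact ⟨⟨v, rfl⟩, hv⟩
      · rintro ⟨⟨v, rfl⟩, hv⟩
        exact ⟨⟨v, hv⟩, rfl⟩
    have hk : Nat.card χ.ker = Nat.card ψ.ker := Nat.card_congr
      ⟨fun v => ⟨(v : C.comap ψ), v.2⟩,
        fun v => ⟨⟨v, by
          show ψ (v : W) ∈ C
          rw [AddMonoidHom.mem_ker.mp v.2]; exact C.zero_mem⟩, v.2⟩,
        fun _ => rfl, fun _ => rfl⟩
    have e1 := ψ.ker.card_mul_index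
    have e2 := χ.ker.card_mul_index
    rw [AddSubgroup.index_ker] at e1 e2
    rw [hr, hk] at e2
    rw [← e1, ← e2, mul_assoc, ← hs]
    ring
  have n1 : A1 ≠ A := by
    intro e
    obtain ⟨b, hb, he⟩ : a₁ ∈ A1 := e.symm ▸ ha₁
    subst he
    exact ha₁p (MonoidHom.mem_ker.mp hb)
  have b1 : A1 ≠ ⊥ := by
    intro e
    obtain ⟨k, hk⟩ := h.pgroup a₁ ha₁
    have key : ∀ k, ∀ a ∈ A, a ^ p ^ k = 1 → a = 1 := by
      intro k
      induction k with
      | zero => intro a _ hka; simpa using hka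
      | succ k ih =>
        intro a ha hka
        have h3 : a ^ p = 1 := ih _ (A.pow_mem ha p) (by rwa [← pow_mul, ← pow_succ'])
        have h4 : a ∈ A1 := ⟨⟨a, ha⟩, MonoidHom.mem_ker.mpr h3, rfl⟩
        rwa [e, Subgroup.mem_bot] at h4
    exact ha₁p (by rw [key k a₁ ha₁ hk, one_pow])
  have b2 : A2 ≠ ⊥ := fun e => ha₁p (by
    have : a₁ ^ p ∈ A2 := ⟨⟨a₁, ha₁⟩, rfl⟩
    rwa [e, Subgroup.mem_bot] at this)
  have n2 : A2 ≠ A := by
    intro e
    have : Nat.card A1 * Nat.card A = 1 * Nat.card A := by rw [one_mul]; exact (congrArg (fun K : Subgroup P => Nat.card A1 * Nat.card K) e.symm).trans hcard.symm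
    exact b1 (Subgroup.card_eq_one.mp (Nat.eq_of_mul_eq_mul_right Nat.card_pos this))
  have i1 := (Nat.mul_le_mul_left (Nat.card A1) (AddSubgroup.card_le_of_le h1)).trans_lt
    (h.small A1 hA1A b1 n1)
  have i2 := (Nat.mul_le_mul_left (Nat.card A2) (AddSubgroup.card_le_of_le h2)).trans_lt
    (h.small A2 hA2A b2 n2)
  have i3 := Nat.mul_lt_mul'' i1 i2
  rw [show Nat.card A1 * Nat.card (ψ.range ⊔ C : AddSubgroup W) *
      (Nat.card A2 * Nat.card (C.comap ψ)) =
      Nat.card A1 * Nat.card A2 * (Nat.card (ψ.range ⊔ C : AddSubgroup W) * Nat.card (C.comap ψ))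
      by ring, ← hprod, ← hcard] at i3
  have := h.off
  nlinarith [this, i3]

omit [Finite W] hp in
theorem mem_cjg_of_le_normalizer {x : P} {X : Subgroup P}
    (hx : x ∈ Subgroup.normalizer (X : Set P)) : cjg x X = X := by
  ext y
  rw [mem_cjg]
  have := Subgroup.mem_normalizer_iff.mp hx (x⁻¹ * y * x)
  rwa [show x * (x⁻¹ * y * x) * x⁻¹ = y by group] at this

omit [Finite W] hp in
theorem mem_normalizer_of_cjg {x : P} {X : Subgroup P} (hx : cjg x X = X) :
    x ∈ Subgroup.normalizer (X : Set P) := by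
  rw [Subgroup.mem_normalizer_iff]
  intro y
  conv_rhs => rw [← hx]
  rw [mem_cjg, show x⁻¹ * (x * y * x⁻¹) * x = y by group]

omit [Finite P] [Finite W] hp in
theorem cjg_one (X : Subgroup P) : cjg (1 : P) X = X := by ext; simp [mem_cjg]

omit [Finite P] [Finite W] hp in
theorem cjg_mono (x : P) {X Y : Subgroup P} (h : X ≤ Y) : cjg x X ≤ cjg x Y := Subgroup.map_mono h

omit [Finite P] [Finite W] hp in
theorem card_fix_cjg (x : P) (X : Subgroup P) :
    Nat.card (fixW W (cjg x X)) = Nat.card (fixW W X) := by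
  have hinv : ∀ w : fixW W (cjg x X), x⁻¹ • (w : W) ∈ fixW W X := fun w => by
    have := smul_mem_fixW (x := x⁻¹) w.2
    rwa [cjg_cjg, inv_mul_cancel, cjg_one] at this
  let e : fixW W X ≃ fixW W (cjg x X) :=
    { toFun := fun w => ⟨x • (w : W), smul_mem_fixW w.2⟩
      invFun := fun w => ⟨x⁻¹ • (w : W), hinv w⟩
      left_inv := fun w => Subtype.ext (inv_smul_smul x (w : W))
      right_inv := fun w => Subtype.ext (smul_inv_smul x (w : W)) }
  exact (Nat.card_congr e).symm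

omit [Finite P] [Finite W] hp in
theorem card_cjg (x : P) (X : Subgroup P) : Nat.card (cjg x X) = Nat.card X :=
  Subgroup.card_map_of_injective (MulAut.conj x).injective

/-- A member of a conjugation invariant family in a `p`-group normalising a generated subgroup. -/
theorem exists_normalizing {U : Subgroup P} (hU : IsPGroup p U) {𝒰 D : Set (Subgroup P)}
    (hle : ∀ A ∈ 𝒰, A ≤ U) (hinv : ∀ u ∈ U, ∀ A ∈ 𝒰, cjg u A ∈ 𝒰) (hD : D ⊆ 𝒰)
    (hne : ∃ A ∈ 𝒰, A ∉ D) :
    ∃ A ∈ 𝒰, A ∉ D ∧ A ≤ Subgroup.normalizer ((sSup D : Subgroup P) : Set P) := by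
  classical
  set X : Subgroup P := sSup D with hX
  have hXU : X ≤ U := sSup_le fun A hA => hle A (hD hA)
  by_contra hno
  push Not at hno
  obtain ⟨A₁, hA₁, hA₁D⟩ := hne
  set N := U ⊓ Subgroup.normalizer (X : Set P) with hN
  have hNU : N < U := lt_of_le_of_ne inf_le_left fun e =>
    hno A₁ hA₁ hA₁D ((hle A₁ hA₁).trans (e ▸ inf_le_right))
  haveI := hU.isNilpotent
  have hlt : N.subgroupOf U < ⊤ := lt_top_iff_ne_top.mpr fun e =>
    hNU.not_ge (Subgroup.subgroupOf_eq_top.mp e)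
  obtain ⟨u, hun, huN⟩ := SetLike.exists_of_lt (normalizerCondition_of_isNilpotent _ hlt)
  have huX : cjg (u : P) X ≠ X := fun e => huN ⟨u.2, mem_normalizer_of_cjg e⟩
  obtain ⟨d, hd, hdX⟩ : ∃ d ∈ D, ¬ cjg (u : P) d ≤ X := by
    by_contra hall
    push Not at hall
    refine huX (Subgroup.eq_of_le_of_card_ge ?_ (card_cjg _ _).ge)
    rw [Subgroup.map_le_iff_le_comap]
    exact sSup_le fun d hd => Subgroup.map_le_iff_le_comap.mp (hall d hd)
  refine hno _ (hinv u u.2 d (hD hd)) (fun h' => hdX (le_sSup h')) ?_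
  intro y hy
  rw [mem_cjg] at hy
  have h1 : (u : P)⁻¹ * y * u ∈ N := ⟨hXU (le_sSup hd hy), Subgroup.le_normalizer (le_sSup hd hy)⟩
  have h2 : (⟨_, h1.1⟩ : U) ∈ N.subgroupOf U := h1
  have h3 := (Subgroup.mem_normalizer_iff.mp hun ⟨_, h1.1⟩).mp h2
  have h4 : (u : P) * ((u : P)⁻¹ * y * u) * (u : P)⁻¹ ∈ N := h3
  rw [show (u : P) * ((u : P)⁻¹ * y * u) * (u : P)⁻¹ = y by group] at h4
  exact h4.2

/-- A configuration inside the ambient group. -/
theorem exists_config {T0 : AddSubgroup W} {M : Subgroup P} (S : Sylow p P) (hM : M ≠ ⊤)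
    (hSM : (S : Subgroup P) ≤ M)
    (hK : ∀ R : Subgroup P, R ≠ ⊥ → R ≤ S →
      (S : Subgroup P) ≤ Subgroup.normalizer (R : Set P) → Subgroup.normalizer (R : Set P) ≤ M)
    {B : Subgroup P} (hB : B ≠ ⊥) (hBS : B ≤ S) :
    ∃ (g : P) (L : Subgroup P), cjg g B ≤ L ∧ cjg g B ≤ M ∧ ¬ L ≤ M ∧
      (∀ H : Subgroup P, cjg g B ≤ H → H ≤ L → H ≠ L → H ≤ M) ∧
      ∀ x ∈ L, x ∉ M → ¬ cjg x (cjg g B) ≤ M := by
  classical
  let 𝒜 : Set (Subgroup P) := Set.range fun g : P => cjg g B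
  have h𝒜 : ∀ x : P, ∀ A ∈ 𝒜, cjg x A ∈ 𝒜 := by
    rintro x _ ⟨g, rfl⟩
    exact ⟨x * g, (cjg_cjg x g B).symm⟩
  let cls : P → Set (Subgroup P) := fun g => {A | A ∈ 𝒜 ∧ A ≤ cjg g (S : Subgroup P)}
  set J : Subgroup P := sSup (cls 1) with hJ
  have hcls : ∀ g : P, cls g = (cjg g) '' cls 1 := by
    intro g
    ext A
    constructor
    · rintro ⟨hA, hAS⟩
      refine ⟨cjg g⁻¹ A, ⟨h𝒜 _ A hA, ?_⟩, by rw [cjg_cjg, mul_inv_cancel, cjg_one]⟩
      have := cjg_mono g⁻¹ hAS
      rw [cjg_cjg, inv_mul_cancel] at this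
      exact this
    · rintro ⟨A', ⟨hA, hAS⟩, rfl⟩
      refine ⟨h𝒜 _ A' hA, ?_⟩
      rw [cjg_one] at hAS
      exact cjg_mono g hAS
  have hclsJ : ∀ g : P, sSup (cls g) = cjg g J := by
    intro g
    rw [hcls g, sSup_image, hJ]
    exact ((Subgroup.gc_map_comap _).l_sSup).symm
  have hclscard : ∀ g : P, (cls g).ncard = (cls 1).ncard := fun g => by
    rw [hcls g]
    exact Set.ncard_image_of_injective _ (Subgroup.map_injective (MulAut.conj g).injective)
  have hclsinv : ∀ g : P, ∀ u ∈ cjg g (S : Subgroup P), ∀ A ∈ cls g, cjg u A ∈ cls g := by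
    rintro g u hu A ⟨hA, hAS⟩
    refine ⟨h𝒜 u A hA, (cjg_mono u hAS).trans_eq ?_⟩
    exact mem_cjg_of_le_normalizer (Subgroup.le_normalizer hu)
  have hJne : J ≠ ⊥ := fun e => hB (le_bot_iff.mp (e ▸ le_sSup
    (show B ∈ cls 1 from ⟨⟨1, cjg_one B⟩, by rwa [cjg_one]⟩)))
  have hJS : J ≤ S := sSup_le fun A hA => cjg_one (S : Subgroup P) ▸ hA.2
  have hNJ : Subgroup.normalizer (J : Set P) ≤ M := by
    refine hK J hJne hJS fun s hs => mem_normalizer_of_cjg ?_
    rw [← hclsJ s, hJ]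
    congr 1
    ext A
    show _ ∧ A ≤ cjg s (S : Subgroup P) ↔ _ ∧ A ≤ cjg 1 (S : Subgroup P)
    rw [mem_cjg_of_le_normalizer (Subgroup.le_normalizer hs), cjg_one]
  have hsyl : ∀ X : Subgroup P, IsPGroup p X → X ≤ M →
      ∃ m ∈ M, X ≤ cjg m (S : Subgroup P) := by
    intro X hX hXM
    obtain ⟨Q, hQ⟩ := (hX.comap_subtype (K := M)).exists_le_sylow
    obtain ⟨m, hm⟩ := MulAction.exists_smul_eq M (S.subtype hSM) Q
    refine ⟨m, m.2, fun y hy => mem_cjg.mpr ?_⟩
    have h1 : (⟨y, hXM hy⟩ : M) ∈ (Q : Subgroup M) := hQ hy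
    rw [← hm, Sylow.coe_subgroup_smul, Subgroup.mem_pointwise_smul_iff_inv_smul_mem] at h1
    simpa [MulAut.smul_def, Subgroup.mem_subgroupOf] using h1
  let Good : Set (Set (Subgroup P)) :=
    {D | D ⊆ 𝒜 ∧ IsPGroup p (sSup D : Subgroup P) ∧ sSup D ≤ M ∧ ∃ g ∉ M, sSup D ≤ cjg g M}
  have hg₀ : ∃ g, g ∉ M := by
    by_contra hno
    push Not at hno
    exact hM (eq_top_iff.mpr fun g _ => hno g)
  obtain ⟨g₀, hg₀⟩ := hg₀
  obtain ⟨D, ⟨hD𝒜, hDp, hDM, g, hg, hDg⟩, hmax⟩ := Set.exists_max_image Good Set.ncard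
    (Set.toFinite _) ⟨∅, Set.empty_subset _, by rw [sSup_empty]; exact IsPGroup.of_bot,
      by rw [sSup_empty]; exact bot_le, g₀, hg₀, by rw [sSup_empty]; exact bot_le⟩
  set X : Subgroup P := sSup D with hX
  have hbig : ∀ A ∈ 𝒜, A ∉ D → IsPGroup p (A ⊔ X : Subgroup P) → A ≤ M → ∀ g' ∉ M,
      A ≤ cjg g' M → X ≤ cjg g' M → False := by
    intro A hA hAD hp' hAM g' hg' hAg hXg
    have hs : sSup (insert A D) = A ⊔ X := sSup_insert
    have := hmax (insert A D) ⟨Set.insert_subset hA hD𝒜, by rw [hs]; exact hp',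
      by rw [hs]; exact sup_le hAM hDM, g', hg', by rw [hs]; exact sup_le hAg hXg⟩
    rw [Set.ncard_insert_of_notMem hAD (Set.toFinite D)] at this
    omega
  obtain ⟨m, hm, hXm⟩ := hsyl X hDp hDM
  obtain ⟨m', hm', hXm'⟩ := hsyl (cjg g⁻¹ X) (hDp.map _) (by
    have := cjg_mono g⁻¹ hDg
    rwa [cjg_cjg, inv_mul_cancel, cjg_one] at this)
  have hXgm : X ≤ cjg (g * m') (S : Subgroup P) := by
    have := cjg_mono g hXm'
    rwa [cjg_cjg, cjg_cjg, mul_inv_cancel, cjg_one] at this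
  have hsub : ∀ k : P, X ≤ cjg k (S : Subgroup P) → D ⊆ cls k := fun k hk A hA =>
    ⟨hD𝒜 hA, (le_sSup hA).trans hk⟩
  have hU : ∀ k : P, IsPGroup p (cjg k (S : Subgroup P) : Subgroup P) :=
    fun k => S.isPGroup'.map _
  have hne : D ≠ cls m := by
    intro e
    have e' : D = cls (g * m') := Set.eq_of_subset_of_ncard_le (hsub _ hXgm)
      (le_of_eq (by rw [e, hclscard m, hclscard (g * m')])) (Set.toFinite _)
    have e2 : cjg m J = cjg (g * m') J := by
      rw [← hclsJ, ← hclsJ, ← e, ← e']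
    have h1 : m⁻¹ * (g * m') ∈ M := hNJ (mem_normalizer_of_cjg (by
      rw [← cjg_cjg, ← e2, cjg_cjg, inv_mul_cancel, cjg_one]))
    refine hg ?_
    have := M.mul_mem (M.mul_mem hm h1) (M.inv_mem hm')
    simpa [mul_assoc] using this
  have hex : ∀ k : P, X ≤ cjg k (S : Subgroup P) → D ≠ cls k →
      ∃ A ∈ cls k, A ∉ D ∧ A ≤ Subgroup.normalizer (X : Set P) := fun k hk hkne =>
    exists_normalizing (hU k) (fun A hA => hA.2) (hclsinv k) (hsub k hk) (by
      by_contra hno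
      push Not at hno
      exact hkne ((hsub k hk).antisymm hno))
  set Y := Subgroup.normalizer (X : Set P) with hY
  have hYM : ¬ Y ≤ M := by
    intro hYM
    obtain ⟨A, hA, hAD, hAY⟩ := hex _ hXgm (by
      intro e'
      refine hne (Set.eq_of_subset_of_ncard_le (hsub _ hXm)
        (le_of_eq (by rw [e', hclscard m, hclscard (g * m')])) (Set.toFinite _)))
    refine hbig A hA.1 hAD ((hU (g * m')).to_le (sup_le hA.2 hXgm)) (hAY.trans hYM) g hg
      (hA.2.trans ?_) hDg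
    rw [← cjg_cjg]
    refine cjg_mono g ((cjg_mono m' hSM).trans ?_)
    exact (mem_cjg_of_le_normalizer (Subgroup.le_normalizer hm')).le
  obtain ⟨A, hA, hAD, hAY⟩ := hex m hXm hne
  have hmM : cjg m (S : Subgroup P) ≤ M :=
    (cjg_mono m hSM).trans (mem_cjg_of_le_normalizer (Subgroup.le_normalizer hm)).le
  obtain ⟨g₁, rfl⟩ := hA.1
  obtain ⟨L, ⟨hAL, hLY, hLM⟩, hmin⟩ := Set.exists_min_image
    {L : Subgroup P | cjg g₁ B ≤ L ∧ L ≤ Y ∧ ¬ L ≤ M} (fun L => Nat.card L)
    (Set.toFinite _) ⟨Y, hAY, le_rfl, hYM⟩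
  refine ⟨g₁, L, hAL, hA.2.trans hmM, hLM, fun H hAH hHL hne' => ?_, fun x hxL hxM hxA => ?_⟩
  · by_contra hHM
    exact hne' (Subgroup.eq_of_le_of_card_ge hHL (hmin H ⟨hAH, hHL.trans hLY, hHM⟩))
  · have hxX : cjg x⁻¹ X = X := mem_cjg_of_le_normalizer (Y.inv_mem (hLY hxL))
    refine hbig _ hA.1 hAD ((hU m).to_le (sup_le hA.2 hXm)) (hA.2.trans hmM) x⁻¹
      (fun h' => hxM (inv_inv x ▸ M.inv_mem h')) ?_ ?_
    · have := cjg_mono x⁻¹ hxA
      rwa [cjg_cjg, inv_mul_cancel, cjg_one] at this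
    · rw [← hxX]
      exact cjg_mono x⁻¹ hDM

/-- The element of `SL₂` with eigenvalue `lam` on the line through `e`. -/
theorem exists_diag {F : Type*} [Field F] (e : Fin 2 → F) (he : e ≠ 0) (lam : Fˣ) :
    ∃ s : SL(2, F), (s : Matrix (Fin 2) (Fin 2) F) *ᵥ e = (lam : F) • e ∧
      ∀ n, lam ^ n = 1 → s ^ n = 1 := by
  let d : Fˣ →* SL(2, F) :=
    { toFun := fun l => ⟨!![(l : F), 0; 0, ((l⁻¹ : Fˣ) : F)], by simp [Matrix.det_fin_two]⟩
      map_one' := by
        ext i j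
        fin_cases i <;> fin_cases j <;> simp
      map_mul' := fun a b => Subtype.ext (by
        show _ = (!![(a : F), 0; 0, ((a⁻¹ : Fˣ) : F)] : Matrix (Fin 2) (Fin 2) F) *
          !![(b : F), 0; 0, ((b⁻¹ : Fˣ) : F)]
        ext i j
        fin_cases i <;> fin_cases j <;>
          simp [Matrix.mul_apply, Fin.sum_univ_two, mul_comm]) }
  obtain ⟨f0, f1, hf⟩ : ∃ f0 f1 : F, e 0 * f1 - f0 * e 1 = 1 := by
    by_cases h0 : e 0 = 0
    · have h1 : e 1 ≠ 0 := fun h1 => he (by ext i; fin_cases i <;> assumption)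
      exact ⟨-(e 1)⁻¹, 0, by simp [h1]⟩
    · exact ⟨0, (e 0)⁻¹, by simp [h0]⟩
  let Q : SL(2, F) := ⟨!![e 0, f0; e 1, f1], by rw [Matrix.det_fin_two]; simpa using hf⟩
  have hQ : (Q : Matrix (Fin 2) (Fin 2) F) *ᵥ ![1, 0] = e := by
    ext i
    fin_cases i <;> simp [Q, Matrix.mulVec, dotProduct, Fin.sum_univ_two]
  refine ⟨Q * d lam * Q⁻¹, ?_, fun n hn => ?_⟩
  · conv_lhs => rw [← hQ]
    rw [Matrix.mulVec_mulVec, ← Matrix.SpecialLinearGroup.coe_mul, inv_mul_cancel_right,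
      Matrix.SpecialLinearGroup.coe_mul, ← Matrix.mulVec_mulVec]
    have : (d lam : Matrix (Fin 2) (Fin 2) F) *ᵥ ![1, 0] = (lam : F) • ![1, 0] := by
      show (!![(lam : F), 0; 0, ((lam⁻¹ : Fˣ) : F)] : Matrix (Fin 2) (Fin 2) F) *ᵥ ![1, 0] = _
      ext i
      fin_cases i <;> simp [Matrix.mulVec, dotProduct, Fin.sum_univ_two]
    rw [this, Matrix.mulVec_smul, hQ]
  · rw [conj_pow, ← map_pow, hn, map_one, mul_one, mul_inv_cancel]

/-- The torus element. -/
theorem exists_torus {T0 : AddSubgroup W} {M : Subgroup P} (hp2 : 2 < p)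
    (faithful : ∀ g : P, (∀ w : W, g • w = w) → g = 1) (expW : ∃ N : ℕ, ∀ w : W, p ^ N • w = 0)
    (S : Sylow p P) (hM : M ≠ ⊤) (hMfix : ∀ g : P, (∀ t ∈ T0, g • t = t) → g ∈ M)
    (hMT : ∀ g ∈ M, ∀ t ∈ T0, g • t ∈ T0) (hSM : (S : Subgroup P) ≤ M)
    (hfix : ∀ s ∈ (S : Subgroup P), ∀ t ∈ T0, s • t = t)
    (hK : ∀ R : Subgroup P, R ≠ ⊥ → R ≤ S →
      (S : Subgroup P) ≤ Subgroup.normalizer (R : Set P) → Subgroup.normalizer (R : Set P) ≤ M)
    {A₀ : Subgroup P} (hA₀ : A₀ ≠ ⊥) (hA₀S : A₀ ≤ S)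
    (hA₀c : ∀ a ∈ A₀, ∀ b ∈ A₀, a * b = b * a)
    (hA₀off : Nat.card W ≤ Nat.card A₀ * Nat.card (fixW W A₀)) :
    ∃ g ∈ M, (orderOf g).Coprime p ∧ (∃ t ∈ T0, g • t ≠ t) ∧
      ∀ t₁ ∈ T0, ∀ t₂ ∈ T0, g • t₁ - t₁ ≠ 0 → g • t₂ - t₂ ≠ 0 →
        ∃ k : ℕ, g ^ k • (g • t₁ - t₁) = g • t₂ - t₂ := by
  classical
  obtain ⟨B, ⟨hB, hBS, hBc, hBoff⟩, hmin⟩ := Set.exists_min_image
    {B : Subgroup P | B ≠ ⊥ ∧ B ≤ (S : Subgroup P) ∧ (∀ a ∈ B, ∀ b ∈ B, a * b = b * a) ∧
      Nat.card W ≤ Nat.card B * Nat.card (fixW W B)} (fun B => Nat.card B)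
    (Set.toFinite _) ⟨A₀, hA₀, hA₀S, hA₀c, hA₀off⟩
  have hsmall : ∀ B' : Subgroup P, B' ≤ B → B' ≠ ⊥ → B' ≠ B →
      Nat.card B' * Nat.card (fixW W B') < Nat.card W := by
    intro B' hle hne1 hne2
    by_contra hlt
    exact hne2 (Subgroup.eq_of_le_of_card_ge hle (hmin B' ⟨hne1, hle.trans hBS,
      fun a ha b hb => hBc a (hle ha) b (hle hb), not_lt.mp hlt⟩))
  have hexp : ∀ a ∈ B, a ^ p = 1 := pow_p (W := W)
    { faithful := faithful, expW := expW, ne := hB, comm := hBc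
      pgroup := fun a ha => by
        obtain ⟨k, hk⟩ := S.isPGroup' ⟨a, hBS ha⟩
        exact ⟨k, congrArg Subtype.val hk⟩
      off := hBoff, small := hsmall
      strict := fun B' h1 h2 h3 => (hsmall B' h1 h2 h3).trans_le hBoff }
  obtain ⟨g, L, hAL, hAM, hLM, hover, hout⟩ := exists_config (T0 := T0) S hM hSM hK hB hBS
  set A := cjg g B with hA
  have hAp : IsPGroup p A := (S.isPGroup'.to_le hBS).map _
  have hfix' : ∀ X : Subgroup P, IsPGroup p X → X ≤ M → ∀ x ∈ X, ∀ t ∈ T0, x • t = t := by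
    intro X hX hXM x hx t ht
    obtain ⟨Q, hQ⟩ := (hX.comap_subtype (K := M)).exists_le_sylow
    obtain ⟨m, hm⟩ := MulAction.exists_smul_eq M (S.subtype hSM) Q
    have h1 : (⟨x, hXM hx⟩ : M) ∈ (Q : Subgroup M) := hQ hx
    rw [← hm, Sylow.coe_subgroup_smul, Subgroup.mem_pointwise_smul_iff_inv_smul_mem] at h1
    have h2 : (m : P)⁻¹ * x * m ∈ (S : Subgroup P) := by
      simpa [MulAut.smul_def, Subgroup.mem_subgroupOf] using h1
    have h3 := hfix _ h2 _ (hMT _ (M.inv_mem m.2) t ht)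
    rw [mul_smul, smul_inv_smul, mul_smul] at h3
    exact MulAction.injective _ h3
  -- the data inside `L`
  set A' := A.subgroupOf L with hA'
  have hA'card : Nat.card A' = Nat.card A := Nat.card_congr (Subgroup.subgroupOfEquivOfLe hAL).toEquiv
  have hfixeq : ∀ X : Subgroup L, fixW W X = fixW W (X.map L.subtype) := by
    intro X
    ext w
    constructor
    · rintro hw _ ⟨x, hx, rfl⟩
      exact hw x hx
    · exact fun hw x hx => hw x ⟨x, hx, rfl⟩
  have hA'map : A'.map L.subtype = A := Subgroup.map_subgroupOf_eq_of_le hAL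
  obtain ⟨T, hT⟩ := (hAp.comap_subtype (K := L)).exists_le_sylow
  have hTne : (T : Subgroup L) ≠ ⊤ := by
    intro e
    have hLp : IsPGroup p L := by
      have := T.isPGroup'
      rw [e] at this
      exact this.of_equiv Subgroup.topEquiv
    obtain ⟨x, hx, hxM⟩ := SetLike.not_le_iff_exists.mp hLM
    haveI := hLp.isNilpotent
    by_cases hA'top : A' = ⊤
    · exact hLM ((Subgroup.subgroupOf_eq_top.mp hA'top).trans hAM)
    obtain ⟨H, hH, hAH⟩ := (eq_top_or_exists_le_coatom A').resolve_left hA'top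
    haveI := Subgroup.NormalizerCondition.normal_of_coatom H normalizerCondition_of_isNilpotent hH
    have hHM : (H.map L.subtype) ≤ M := hover _
      (hA'map ▸ Subgroup.map_mono hAH) (Subgroup.map_subtype_le H) fun e' => hH.1 (by
        rw [← Subgroup.map_subtype_inj, e', ← MonoidHom.range_eq_map, Subgroup.range_subtype])
    refine hout x hx hxM fun y hy => hHM ?_
    rw [mem_cjg] at hy
    refine ⟨⟨x, hx⟩ * ⟨x⁻¹ * y * x, hAL hy⟩ * ⟨x, hx⟩⁻¹,
      (inferInstance : H.Normal).conj_mem _ (hAH hy) _, ?_⟩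
    show x * (x⁻¹ * y * x) * x⁻¹ = y
    group
  have hoverL : ∀ H : Subgroup L, A' ≤ H → H ≠ ⊤ → H ≤ M.subgroupOf L := fun H hAH hH =>
    Subgroup.map_le_iff_le_comap.mp (hover _ (hA'map ▸ Subgroup.map_mono hAH)
      (Subgroup.map_subtype_le H) fun e' => hH (by
        rw [← Subgroup.map_subtype_inj, e', ← MonoidHom.range_eq_map, Subgroup.range_subtype]))
  have hTM : (T : Subgroup L) ≤ M.subgroupOf L := hoverL _ hT hTne
  obtain ⟨c, hc, x, hxc⟩ : ∃ c ∈ T0, ∃ x ∈ L, x • c ≠ c := by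
    by_contra hno
    push Not at hno
    exact hLM fun x hx => hMfix x fun t ht => hno t ht x hx
  obtain ⟨hxL, hxc⟩ := hxc
  have hT0T : ∀ t ∈ T0, t ∈ fixW W (T : Subgroup L) := fun t ht y hy =>
    hfix' ((T : Subgroup L).map L.subtype) (T.isPGroup'.map _) (Subgroup.map_le_iff_le_comap.mpr hTM)
      y ⟨y, hy, rfl⟩ t ht
  have hcT : c ∈ fixW W (T : Subgroup L) ∧ c ∉ fixW W (⊤ : Subgroup L) :=
    ⟨hT0T c hc, fun hh => hxc (hh ⟨x, hxL⟩ trivial)⟩
  have hyp : OffenderSL2Gen31.Hyp (W := W) p T (M.subgroupOf L) A' :=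
    { faithful := fun y hy => Subtype.ext (faithful y hy)
      expW := expW
      notTop := fun e => hLM (Subgroup.subgroupOf_eq_top.mp e)
      sylM := hTM
      uniq := fun H hH hne => hoverL H (hT.trans hH) hne
      AT := hT
      comm := fun a ha b hb => Subtype.ext (by
        obtain ⟨a', ha', ea⟩ := (ha : (a : P) ∈ A)
        obtain ⟨b', hb', eb⟩ := (hb : (b : P) ∈ A)
        have ea' : (a : P) = (MulAut.conj g).toMonoidHom a' := ea.symm
        have eb' : (b : P) = (MulAut.conj g).toMonoidHom b' := eb.symm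
        show (a : P) * b = b * a
        rw [ea', eb', ← map_mul, ← map_mul, hBc a' ha' b' hb'])
      expA := fun a ha => Subtype.ext (by
        obtain ⟨a', ha', ea⟩ := (ha : (a : P) ∈ A)
        have ea' : (a : P) = (MulAut.conj g).toMonoidHom a' := ea.symm
        rw [SubmonoidClass.coe_pow, ea', ← map_pow, hexp a' ha', map_one]
        rfl)
      gen := fun y hy => by
        by_contra hne
        refine hout y y.2 hy ?_
        have h1 := Subgroup.map_le_iff_le_comap.mpr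
          ((le_sup_right : OffenderSL2Gen31.cjg y A' ≤ _).trans (hoverL _ le_sup_left hne))
        refine le_trans (fun z hz => ?_) h1
        rw [mem_cjg] at hz
        refine ⟨y * ⟨_, hAL hz⟩ * y⁻¹, OffenderSL2Gen31.conj_mem_cjg
          (show (⟨_, hAL hz⟩ : L) ∈ A' from hz), ?_⟩
        show (y : P) * ((y : P)⁻¹ * z * y) * (y : P)⁻¹ = z
        group
      off := by
        rw [hA'card, hfixeq, hA'map, hA, card_cjg, card_fix_cjg]
        exact hBoff
      strict := fun A₁ h1 h2 h3 => by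
        rw [hA'card, hfixeq A', hA'map, hA, card_cjg, card_fix_cjg]
        have hle : cjg g⁻¹ (A₁.map L.subtype) ≤ B := by
          have := cjg_mono g⁻¹ (hA'map ▸ Subgroup.map_mono (f := L.subtype) h1 :
            A₁.map L.subtype ≤ A)
          rwa [hA, cjg_cjg, inv_mul_cancel, cjg_one] at this
        have e1 : Nat.card (cjg g⁻¹ (A₁.map L.subtype)) = Nat.card A₁ := by
          rw [card_cjg, Subgroup.card_map_of_injective L.subtype_injective]
        have e2 := card_fix_cjg (W := W) g⁻¹ (A₁.map L.subtype)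
        rw [← hfixeq] at e2
        refine (e1 ▸ e2 ▸ hsmall _ hle ?_ ?_).trans_le hBoff
        · intro e0
          refine h2 (Subgroup.card_eq_one.mp ?_)
          rw [← e1, e0, Subgroup.card_bot]
        · intro e
          refine h3 (Subgroup.eq_of_le_of_card_ge h1 ?_)
          rw [hA'card, hA, card_cjg, ← e, e1]
      moved := ⟨c, hcT⟩ }
  obtain ⟨-, F, instF, instFF, hcard, ρ, ψ, hρ, -, hψ0, hψ⟩ := structure_thm hyp
  -- the line
  set e := ψ c with he
  have hene : e ≠ 0 := fun h0 => hcT.2 ((hψ0 c).mp h0)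
  have hAfix : ∀ a ∈ A', (ρ a : Matrix (Fin 2) (Fin 2) F) *ᵥ e = e := fun a ha => by
    rw [he, ← hψ, hcT.1 a (hT ha)]
  have hline : ∀ t ∈ T0, ∃ μ : F, ψ t = μ • e := by
    intro t ht
    by_contra hno
    push Not at hno
    have hdet : e 0 * ψ t 1 - e 1 * ψ t 0 ≠ 0 := by
      intro hd
      by_cases h0 : e 0 = 0
      · have h1 : e 1 ≠ 0 := fun h1 => hene (by ext i; fin_cases i <;> assumption)
        refine hno (ψ t 1 / e 1) (funext fun i => ?_)
        fin_cases i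
        · rw [h0] at hd
          simp only [zero_mul, zero_sub, neg_eq_zero, mul_eq_zero, h1, false_or] at hd
          simp [hd, h0]
        · simp [h1]
      · refine hno (ψ t 0 / e 0) (funext fun i => ?_)
        fin_cases i
        · simp [h0]
        · show ψ t 1 = ψ t 0 / e 0 * e 1
          rw [div_mul_eq_mul_div, eq_div_iff h0]
          linear_combination hd
    refine hyp.A_ne_bot ((Subgroup.eq_bot_iff_forall A').mpr fun a ha => hρ.1 ?_)
    rw [map_one]
    have h1 := hAfix a ha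
    have h2 : (ρ a : Matrix (Fin 2) (Fin 2) F) *ᵥ ψ t = ψ t := by
      rw [← hψ, hT0T t ht a (hT ha)]
    have hQ : (ρ a : Matrix (Fin 2) (Fin 2) F) * !![e 0, ψ t 0; e 1, ψ t 1] =
        1 * !![e 0, ψ t 0; e 1, ψ t 1] := by
      rw [one_mul]
      ext i j
      fin_cases j
      · have := congrFun h1 i
        simp only [Matrix.mulVec, dotProduct, Fin.sum_univ_two] at this
        fin_cases i <;> simpa [Matrix.mul_apply, Fin.sum_univ_two] using this
      · have := congrFun h2 i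
        simp only [Matrix.mulVec, dotProduct, Fin.sum_univ_two] at this
        fin_cases i <;> simpa [Matrix.mul_apply, Fin.sum_univ_two] using this
    apply Subtype.ext
    have hu : IsUnit (!![e 0, ψ t 0; e 1, ψ t 1] : Matrix (Fin 2) (Fin 2) F) := by
      rw [Matrix.isUnit_iff_isUnit_det, Matrix.det_fin_two, isUnit_iff_ne_zero]
      simpa [mul_comm (ψ t 0)] using hdet
    exact hu.mul_right_cancel hQ
  obtain ⟨lam, hlam⟩ := IsCyclic.exists_generator (α := Fˣ)
  obtain ⟨s, hse, hsn⟩ := exists_diag e hene lam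
  obtain ⟨h, rfl⟩ := hρ.2 s
  have hq : 3 ≤ Fintype.card F := by
    obtain ⟨n, hn⟩ := hAp.exists_card_eq
    rw [hcard, hA'card, hn]
    rcases n with _ | n
    · exfalso
      rw [hA, card_cjg, pow_zero] at hn
      exact hB (Subgroup.card_eq_one.mp hn)
    · exact le_trans hp2 (Nat.le_self_pow (Nat.succ_ne_zero n) p)
  have hlam1 : (lam : F) ≠ 1 := by
    intro h1
    have hl : lam = 1 := Units.ext h1
    have : Fintype.card Fˣ ≤ 1 := Fintype.card_le_one_iff_subsingleton.mpr ⟨fun a b => by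
      obtain ⟨i, rfl⟩ := hlam a
      obtain ⟨j, rfl⟩ := hlam b
      simp [hl]⟩
    rw [Fintype.card_units] at this
    omega
  have hcop : (orderOf h).Coprime p := by
    have h1 : orderOf h ∣ Fintype.card Fˣ := orderOf_dvd_of_pow_eq_one (hρ.1 (by
      rw [map_pow, map_one, hsn _ pow_card_eq_one]))
    refine Nat.Coprime.coprime_dvd_left h1 ?_
    rw [Fintype.card_units, Nat.coprime_comm, hp.out.coprime_iff_not_dvd]
    intro hd
    obtain ⟨n, hn⟩ := hAp.exists_card_eq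
    have hq' : Fintype.card F = p ^ n := by rw [hcard, hA'card, hn]
    have hn0 : n ≠ 0 := fun h0 => by rw [h0, pow_zero] at hq'; omega
    have h2 : p ∣ Fintype.card F := hq' ▸ dvd_pow_self p hn0
    have h3 := Nat.dvd_sub h2 hd
    rw [show Fintype.card F - (Fintype.card F - 1) = 1 by omega, Nat.dvd_one] at h3
    exact hp.out.one_lt.ne' h3
  have hhe : ∀ t ∈ T0, ∀ μ : F, ψ t = μ • e → ψ (h • t) = ((lam : F) * μ) • e := by
    intro t ht μ hμ
    rw [hψ, hμ, Matrix.mulVec_smul, hse, smul_smul, mul_comm]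
  have hhM : h ∈ M.subgroupOf L := by
    by_contra hh
    have hd : h • c ∈ fixW W (OffenderSL2Gen31.cjg h A') :=
      smul_mem_fixW fun a ha => hcT.1 a (hT ha)
    have hdZ : h • c ∉ fixW W (⊤ : Subgroup L) := fun hz => hcT.2 (by
      have := hyp.fix_Z (g := h⁻¹) hz
      rw [inv_smul_smul] at this
      exact this ▸ hz)
    refine hyp.A_ne_bot ((Subgroup.eq_bot_iff_forall A').mpr fun a ha =>
      (hyp.reach hh hd hdZ).1 a ha ((hψ0 _).mp ?_))
    rw [map_sub, hψ, hhe c hc 1 (by rw [one_smul]), Matrix.mulVec_smul, hAfix a ha, sub_self]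
  refine ⟨h, hhM, ?_, ⟨c, hc, fun hh => ?_⟩, fun t₁ ht₁ t₂ ht₂ h1 h2 => ?_⟩
  · rwa [Subgroup.orderOf_coe]
  · have h1 := hhe c hc 1 (by rw [one_smul])
    have hh' : h • c = c := hh
    rw [hh', mul_one, ← he] at h1
    have : ((lam : F) - 1) • e = 0 := by rw [sub_smul, one_smul, ← h1, sub_self]
    rcases smul_eq_zero.mp this with h' | h'
    · exact hlam1 (sub_eq_zero.mp h')
    · exact hene h'
  · have hnz : ∀ t ∈ T0, ∀ μ : F, ψ t = μ • e → (h : P) • t - t ≠ 0 → μ ≠ 0 := by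
      intro t _ μ hμ hne h0
      rw [h0, zero_smul] at hμ
      exact hne (sub_eq_zero.mpr (hyp.fix_Z (g := h) ((hψ0 t).mp hμ)))
    obtain ⟨μ₁, hμ₁⟩ := hline t₁ ht₁
    obtain ⟨μ₂, hμ₂⟩ := hline t₂ ht₂
    have n1 := hnz t₁ ht₁ μ₁ hμ₁ h1
    have n2 := hnz t₂ ht₂ μ₂ hμ₂ h2
    obtain ⟨k, hk⟩ := mem_powers_iff_mem_zpowers.mpr (hlam (Units.mk0 (μ₂ / μ₁) (div_ne_zero n2 n1)))
    refine ⟨k, ?_⟩
    have hkF : (lam : F) ^ k * μ₁ = μ₂ := by
      have := congrArg Units.val hk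
      rw [Units.val_pow_eq_pow_val, Units.val_mk0] at this
      rw [this, div_mul_cancel₀ _ n1]
    have hpow : ∀ (j : ℕ), (h : P) ^ j • t₁ ∈ T0 ∧ ψ ((h : P) ^ j • t₁) = ((lam : F) ^ j * μ₁) • e := by
      intro j
      induction j with
      | zero => exact ⟨by rw [pow_zero, one_smul]; exact ht₁,
          by rw [pow_zero, pow_zero, one_smul, one_mul, hμ₁]⟩
      | succ j ih =>
        rw [pow_succ', mul_smul]
        refine ⟨hMT _ hhM _ ih.1, ?_⟩
        have := hhe _ ih.1 _ ih.2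
        rw [← mul_assoc, ← pow_succ'] at this
        exact this
    set t := (h : P) ^ k • t₁ - t₂ with ht
    have htT : t ∈ T0 := T0.sub_mem (hpow k).1 ht₂
    have hψt : ψ t = 0 := by rw [ht, map_sub, (hpow k).2, hμ₂, hkF, sub_self]
    have hfixt : (h : P) • t = t := hyp.fix_Z (g := h) ((hψ0 t).mp hψt)
    rw [ht, smul_sub] at hfixt
    rw [smul_sub, ← mul_smul, ← pow_succ, pow_succ', mul_smul]
    exact sub_eq_sub_iff_sub_eq_sub.mpr hfixt

end Cfsg.Agent.OffenderTorus31
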