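import Mathlib
import Cfsg.Agent.Lib.CoprimeAction
import Cfsg.Agent.Lib.FlavellSetup8

/-!
A fixed `p`-element acting quadratically on an abelian `p`-section moves the special `2`-group `T`
trivially on it (piece P2).
-/

set_option autoImplicit false
set_option linter.unusedSectionVars false
set_option linter.style.haveILetI false

namespace Cfsg.Agent.Flavell8

namespace P2

open Subgroup
open Cfsg.Agent.Flavell20 (cen)
open scoped commutatorElement

universe u

/-! ### Ring computations -/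

section ring

variable {R : Type*} [Ring R]

/-- An involution whose product with a unipotent quadratic element is again quadratic is trivial. -/
theorem invol_eq_one (h4 : IsUnit (4 : R)) {C C' E : R} (hN : (C - 1) * (C - 1) = 0)
    (hC : C' * C = 1) (hE : E * E = 1) (h : (C * E - 1) * (C * E - 1) = 0) : E = 1 := by
  obtain ⟨N, rfl⟩ : ∃ N, C = 1 + N := ⟨C - 1, by abel⟩
  rw [add_sub_cancel_left] at hN
  obtain rfl : C' = 1 - N := by
    calc C' = C' * ((1 + N) * (1 - N)) := by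
          rw [show (1 + N) * (1 - N) = 1 - N * N by noncomm_ring, hN, sub_zero, mul_one]
      _ = C' * (1 + N) * (1 - N) := by rw [mul_assoc]
      _ = 1 - N := by rw [hC, one_mul]
  have hXY : (1 + N) * E * (E * (1 - N)) = 1 := by
    rw [show (1 + N) * E * (E * (1 - N)) = (1 + N) * (E * E) * (1 - N) by noncomm_ring, hE, mul_one,
      show (1 + N) * (1 - N) = 1 - N * N by noncomm_ring, hN, sub_zero]
  have h1 : (1 + N) * E * ((1 + N) * E * (E * (1 - N))) - (1 + N) * E * (E * (1 - N)) -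
      (1 + N) * E * (E * (1 - N)) + E * (1 - N) = 0 := by
    rw [show (1 + N) * E * ((1 + N) * E * (E * (1 - N))) - (1 + N) * E * (E * (1 - N)) -
      (1 + N) * E * (E * (1 - N)) + E * (1 - N) =
      ((1 + N) * E - 1) * ((1 + N) * E - 1) * (E * (1 - N)) by noncomm_ring, h, zero_mul]
  rw [hXY, mul_one] at h1
  have h2 : E + E + N * E - E * N = 1 + 1 := by
    rw [← sub_eq_zero]
    exact Eq.trans (by noncomm_ring) h1
  have h3 : 1 + 1 + E * N * E - N = E + E := by
    calc 1 + 1 + E * N * E - N = E * E + E * E + E * N * E - E * E * N := by rw [hE, one_mul]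
      _ = E * (E + E + N * E - E * N) := by noncomm_ring
      _ = E + E := by rw [h2, mul_add, mul_one]
  have h5 : 1 + 1 + N - E * N * E = E + E := by
    calc 1 + 1 + N - E * N * E = E * E + E * E + N * (E * E) - E * N * E := by rw [hE, mul_one]
      _ = (E + E + N * E - E * N) * E := by noncomm_ring
      _ = E + E := by rw [h2, add_mul, one_mul]
  have h6 : (4 : R) * E = 4 * 1 := by
    calc (4 : R) * E = (E + E) + (E + E) := by noncomm_ring
      _ = (1 + 1 + E * N * E - N) + (1 + 1 + N - E * N * E) := by rw [h3, h5]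
      _ = 4 * 1 := by noncomm_ring
  exact h4.mul_left_cancel h6

/-- Square roots of `-1` whose product is one, too, anticommute. -/
theorem anticomm {x y : R} (hx : x * x = -1) (hy : y * y = -1) (hxy : x * y * (x * y) = -1) :
    y * x = -(x * y) := by
  calc y * x = (x * x) * (y * x) * (y * y) := by rw [hx, hy]; noncomm_ring
    _ = x * (x * y * (x * y)) * y := by noncomm_ring
    _ = -(x * y) := by rw [hxy]; noncomm_ring

/-- The product of three anticommuting square roots of `-1` squares to one. -/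
theorem triple_sq {x y z : R} (hx : x * x = -1) (hy : y * y = -1) (hz : z * z = -1)
    (hyx : y * x = -(x * y)) (hzx : z * x = -(x * z)) (hzy : z * y = -(y * z)) :
    x * y * z * (x * y * z) = 1 := by
  calc x * y * z * (x * y * z) = x * y * (z * x) * (y * z) := by noncomm_ring
    _ = -(x * y * x * (z * y) * z) := by rw [hzx]; noncomm_ring
    _ = x * (y * x) * y * (z * z) := by rw [hzy]; noncomm_ring
    _ = -(x * x * (y * y) * (z * z)) := by rw [hyx]; noncomm_ring
    _ = 1 := by rw [hx, hy, hz]; noncomm_ring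

end ring

/-! ### The action on an abelian subgroup -/

variable {Γ : Type u} [Group Γ]

/-- An automorphism of a commutative group as an endomorphism of the additive group. -/
def toEnd {A : Type*} [CommGroup A] : MulAut A →* AddMonoid.End (Additive A) where
  toFun e := MonoidHom.toAdditive e.toMonoidHom
  map_one' := rfl
  map_mul' _ _ := rfl

/-- The data of the action on an elementary abelian `W`. -/
structure Rep (p : ℕ) (W : Subgroup Γ) (R : Type u) [Ring R] (σ : Γ → R) : Prop where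
  map_one : σ 1 = 1
  map_mul : ∀ g h, g ∈ normalizer (W : Set Γ) → h ∈ normalizer (W : Set Γ) →
    σ (g * h) = σ g * σ h
  eq_one : ∀ g, g ∈ normalizer (W : Set Γ) → (σ g = 1 ↔ ∀ u ∈ W, g * u * g⁻¹ = u)
  eq_neg : ∀ g, g ∈ normalizer (W : Set Γ) → (σ g = -1 ↔ ∀ u ∈ W, g * u * g⁻¹ = u⁻¹)
  char : (p : R) = 0
  quad : ∀ g, g ∈ normalizer (W : Set Γ) →
    ((σ g - 1) * (σ g - 1) = 0 ↔ ∀ u ∈ W, g * (g * u * g⁻¹ * u⁻¹) * g⁻¹ = g * u * g⁻¹ * u⁻¹)

theorem exists_rep (p : ℕ) {W : Subgroup Γ} (hc : ∀ x ∈ W, ∀ y ∈ W, x * y = y * x)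
    (hexp : ∀ x ∈ W, x ^ p = 1) :
    ∃ (R : Type u) (_ : Ring R) (σ : Γ → R), Rep p W R σ := by
  classical
  letI : CommGroup W :=
    { (inferInstance : Group W) with mul_comm := fun x y => Subtype.ext (hc x x.2 y y.2) }
  let φ : normalizer (W : Set Γ) →* MulAut W := W.normalizerMonoidHom
  let σ : Γ → AddMonoid.End (Additive W) := fun g =>
    if h : g ∈ normalizer (W : Set Γ) then toEnd (φ ⟨g, h⟩) else 1
  have hσ : ∀ g (hg : g ∈ normalizer (W : Set Γ)) (u : W),
      ((Additive.toMul (σ g (Additive.ofMul u)) : W) : Γ) = g * u * g⁻¹ := by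
    intro g hg u
    simp only [σ]
    rw [dif_pos hg]
    rfl
  have hext : ∀ f f' : AddMonoid.End (Additive W), (∀ u : W,
      ((Additive.toMul (f (Additive.ofMul u)) : W) : Γ) =
        ((Additive.toMul (f' (Additive.ofMul u)) : W) : Γ)) → f = f' := fun f f' h =>
    AddMonoidHom.ext fun u => Additive.toMul.injective (Subtype.ext (h (Additive.toMul u)))
  refine ⟨AddMonoid.End (Additive W), inferInstance, σ, ?_⟩
  refine
    { map_one := hext _ _ fun u => ?_
      map_mul := fun g h hg hh => hext _ _ fun u => ?_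
      eq_one := fun g hg => ⟨fun e u hu => ?_, fun e => hext _ _ fun u => ?_⟩
      eq_neg := fun g hg => ⟨fun e u hu => ?_, fun e => hext _ _ fun u => ?_⟩
      char := hext _ _ fun u => ?_
      quad := fun g hg => ⟨fun e u hu => ?_, fun e => hext _ _ fun u => ?_⟩ }
  · rw [hσ 1 (one_mem _)]
    show 1 * (u : Γ) * 1⁻¹ = u
    group
  · rw [hσ _ (mul_mem hg hh)]
    show _ = ((Additive.toMul (σ g (σ h (Additive.ofMul u))) : W) : Γ)
    rw [show σ h (Additive.ofMul u) = Additive.ofMul (Additive.toMul (σ h (Additive.ofMul u)))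
      from rfl, hσ g hg, hσ h hh]
    group
  · rw [← hσ g hg ⟨u, hu⟩, e]; rfl
  · rw [hσ g hg, e u u.2]; rfl
  · rw [← hσ g hg ⟨u, hu⟩, e]; rfl
  · rw [hσ g hg, e u u.2]; rfl
  · rw [AddMonoid.End.natCast_apply]
    exact hexp u u.2
  · have h1 := congrArg (fun f : AddMonoid.End (Additive W) =>
      ((Additive.toMul (f (Additive.ofMul (⟨u, hu⟩ : W))) : W) : Γ)) e
    change ((Additive.toMul (σ g (σ g (Additive.ofMul (⟨u, hu⟩ : W)) -
      Additive.ofMul (⟨u, hu⟩ : W))) : W) : Γ) /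
        (((Additive.toMul (σ g (Additive.ofMul (⟨u, hu⟩ : W))) : W) : Γ) / u) = 1 at h1
    rw [show σ g (Additive.ofMul (⟨u, hu⟩ : W)) - Additive.ofMul (⟨u, hu⟩ : W) =
      Additive.ofMul (Additive.toMul (σ g (Additive.ofMul (⟨u, hu⟩ : W))) / (⟨u, hu⟩ : W))
      from rfl, hσ g hg] at h1
    simp only [div_eq_mul_inv, Subgroup.coe_mul, InvMemClass.coe_inv, hσ g hg] at h1
    exact mul_inv_eq_one.1 h1
  · show ((Additive.toMul (σ g (σ g (Additive.ofMul u) - Additive.ofMul u)) : W) : Γ) /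
        (((Additive.toMul (σ g (Additive.ofMul u)) : W) : Γ) / u) = 1
    rw [show σ g (Additive.ofMul u) - Additive.ofMul u =
      Additive.ofMul (Additive.toMul (σ g (Additive.ofMul u)) / u) from rfl, hσ g hg]
    simp only [div_eq_mul_inv, Subgroup.coe_mul, InvMemClass.coe_inv, hσ g hg, e u u.2,
      mul_inv_cancel]

/-- The commutator of `t` with `c⁻¹`. -/
def ee (c t : Γ) : Γ := c⁻¹ * t * c * t⁻¹

theorem conj_mem {N : Subgroup Γ} {g x : Γ} (hg : g ∈ normalizer (N : Set Γ)) (hx : x ∈ N) :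
    g * x * g⁻¹ ∈ N :=
  (mem_normalizer_iff.1 hg x).1 hx

theorem ee_mem {N : Subgroup Γ} {c t : Γ} (hc : c ∈ normalizer (N : Set Γ)) (ht : t ∈ N) :
    ee c t ∈ N :=
  mul_mem (by simpa [mul_assoc] using conj_mem (inv_mem hc) ht) (inv_mem ht)

namespace Rep

variable {p : ℕ} {W : Subgroup Γ} {R : Type u} [Ring R] {σ : Γ → R} (S : Rep p W R σ)
include S

theorem inv_mul {g : Γ} (hg : g ∈ normalizer (W : Set Γ)) : σ g⁻¹ * σ g = 1 := by
  rw [← S.map_mul _ _ (inv_mem hg) hg, inv_mul_cancel, S.map_one]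

theorem mul_inv {g : Γ} (hg : g ∈ normalizer (W : Set Γ)) : σ g * σ g⁻¹ = 1 := by
  rw [← S.map_mul _ _ hg (inv_mem hg), mul_inv_cancel, S.map_one]

theorem isUnit_two (hp : p.Prime) (hp2 : p ≠ 2) : IsUnit (2 : R) := by
  obtain ⟨k, hk⟩ := hp.odd_of_ne_two hp2
  have h1 : ((2 * (k + 1) : ℕ) : R) = 1 := by
    rw [show 2 * (k + 1) = p + 1 by omega, Nat.cast_add, S.char, zero_add, Nat.cast_one]
  rw [Nat.cast_mul, Nat.cast_ofNat] at h1
  refine ⟨⟨2, ((k + 1 : ℕ) : R), h1, ?_⟩, rfl⟩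
  rw [show ((k + 1 : ℕ) : R) * 2 = 2 * ((k + 1 : ℕ) : R) from
    ((Commute.ofNat_left 2 ((k + 1 : ℕ) : R)).eq).symm, h1]

theorem isUnit_four (hp : p.Prime) (hp2 : p ≠ 2) : IsUnit (4 : R) := by
  rw [show (4 : R) = 2 * 2 by norm_num]
  exact (S.isUnit_two hp hp2).mul (S.isUnit_two hp hp2)

/-- An element `e(t)` acting as an involution acts trivially. -/
theorem ee_one (hp : p.Prime) (hp2 : p ≠ 2) {c t : Γ} (hc : c ∈ normalizer (W : Set Γ))
    (ht : t ∈ normalizer (W : Set Γ)) (hq : (σ c - 1) * (σ c - 1) = 0)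
    (hsq : σ (ee c t) * σ (ee c t) = 1) : σ (ee c t) = 1 := by
  refine invol_eq_one (S.isUnit_four hp hp2) hq (S.inv_mul hc) hsq ?_
  have hee : ee c t ∈ normalizer (W : Set Γ) :=
    mul_mem (mul_mem (mul_mem (inv_mem hc) ht) hc) (inv_mem ht)
  have h1 : σ c * σ (ee c t) = σ t * σ c * σ t⁻¹ := by
    rw [← S.map_mul _ _ hc hee, ← S.map_mul _ _ ht hc, ← S.map_mul _ _ (mul_mem ht hc) (inv_mem ht)]
    congr 1
    simp only [ee]; group
  have h2 : σ c * σ (ee c t) - 1 = σ t * (σ c - 1) * σ t⁻¹ := by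
    rw [h1, mul_sub, mul_one, sub_mul, S.mul_inv ht]
  rw [h2, show σ t * (σ c - 1) * σ t⁻¹ * (σ t * (σ c - 1) * σ t⁻¹) =
    σ t * ((σ c - 1) * (σ t⁻¹ * σ t) * (σ c - 1)) * σ t⁻¹ by noncomm_ring, S.inv_mul ht, mul_one,
    hq, mul_zero, zero_mul]

theorem one_ne_neg_one (hp : p.Prime) (hp2 : p ≠ 2) (hexp : ∀ x ∈ W, x ^ p = 1) (hW : W ≠ ⊥) :
    (1 : R) ≠ -1 := by
  intro h
  obtain ⟨u, hu⟩ : ∃ u, u ∈ W ∧ u ≠ 1 := by
    by_contra hh
    push Not at hh
    exact hW (eq_bot_iff.2 fun x hx => mem_bot.2 (hh x hx))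
  refine hu.2 ?_
  have h1 := (S.eq_neg 1 (one_mem _)).1 (by rw [S.map_one, ← h]) u hu.1
  rw [one_mul, inv_one, mul_one] at h1
  have h2 : u ^ 2 = 1 := by rw [pow_two]; nth_rw 2 [h1]; exact mul_inv_cancel u
  have h3 : u ^ Nat.gcd p 2 = 1 := pow_gcd_eq_one.2 ⟨hexp u hu.1, h2⟩
  rwa [(Nat.coprime_primes hp Nat.prime_two).2 hp2, pow_one] at h3

end Rep

variable [Finite Γ] {p r : ℕ}

/-- For `r = 2` there is no `T = [T, a]` other than the trivial group. -/
theorem eq_bot_of_two {T : Subgroup Γ} {a : Γ} (ha : orderOf a = 2) (hT : IsPGroup 2 T)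
    (haT : a ∈ normalizer (T : Set Γ)) (hgen : ⁅T, zpowers a⁆ = T) : T = ⊥ := by
  haveI : Fact (Nat.Prime 2) := ⟨Nat.prime_two⟩
  have hA : IsPGroup 2 (zpowers a) :=
    IsPGroup.of_card (n := 1) (by rw [Nat.card_zpowers, ha, pow_one])
  have hP : IsPGroup 2 (zpowers a ⊔ T : Subgroup Γ) :=
    hA.to_sup_of_normal_right' hT (zpowers_le.2 haT)
  haveI := hP.isNilpotent
  obtain ⟨n, hn⟩ :=
    (Subgroup.isNilpotent_iff_lowerCentralSeries (zpowers a ⊔ T : Subgroup Γ)).1 inferInstance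
  have : ∀ k, T ≤ (zpowers a ⊔ T : Subgroup Γ).lowerCentralSeries k := by
    intro k
    induction k with
    | zero => exact le_sup_right
    | succ k ih => exact hgen.ge.trans (commutator_mono ih le_sup_left)
  exact le_bot_iff.1 (hn ▸ this n)

/-- The statement on one module on which the centre of `T` acts by signs. -/
theorem core (hp : p.Prime) (hp2 : p ≠ 2) (hr : r.Prime) (hrp : r ≠ p) (hr2 : r ≠ 2)
    {T W : Subgroup Γ} {a c : Γ} (ha : orderOf a = r) (hT : IsPGroup 2 T)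
    (haT : a ∈ normalizer (T : Set Γ)) (hder : ⁅T, T⁆ ≤ cen T) (hsq : ∀ t ∈ T, t * t ∈ cen T)
    (hfix : T ⊓ centralizer ({a} : Set Γ) = cen T) (hexp : ∀ x ∈ W, x ^ p = 1) (hW : W ≠ ⊥)
    (hTW : T ≤ normalizer (W : Set Γ)) (haW : a ∈ normalizer (W : Set Γ))
    (hcW : c ∈ normalizer (W : Set Γ)) (hcT : c ∈ normalizer (T : Set Γ)) (hac : a * c = c * a)
    {k : ℕ} (hck : c ^ p ^ k = 1) {R : Type u} [Ring R] {σ : Γ → R} (S : Rep p W R σ)
    (hq : (σ c - 1) * (σ c - 1) = 0) (hZ : ∀ z ∈ cen T, σ z = 1 ∨ σ z = -1) :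
    ∀ t ∈ T, σ (ee c t) = 1 := by
  classical
  haveI : Fact (Nat.Prime 2) := ⟨Nat.prime_two⟩
  have hN : ∀ {x}, x ∈ T → x ∈ normalizer (W : Set Γ) := fun hx => hTW hx
  have hne := S.one_ne_neg_one hp hp2 hexp hW
  -- the elements acting as signs
  let M : Subgroup Γ :=
    { carrier := {x | x ∈ T ∧ (σ x = 1 ∨ σ x = -1)}
      one_mem' := ⟨one_mem _, Or.inl S.map_one⟩
      mul_mem' := fun {x y} hx hy => ⟨mul_mem hx.1 hy.1, by
        rw [S.map_mul _ _ (hN hx.1) (hN hy.1)]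
        rcases hx.2 with e | e <;> rcases hy.2 with e' | e' <;> simp [e, e']⟩
      inv_mem' := fun {x} hx => ⟨inv_mem hx.1, by
        have h1 := S.inv_mul (hN hx.1)
        rcases hx.2 with e | e <;> rw [e] at h1
        · left; rwa [mul_one] at h1
        · right; rw [mul_neg, mul_one] at h1; exact neg_eq_iff_eq_neg.1 h1⟩ }
  have hMT : M ≤ T := fun x hx => hx.1
  have hZM : cen T ≤ M := fun z hz => ⟨hz.1, hZ z hz⟩
  have hMconj : ∀ g, g ∈ normalizer (T : Set Γ) → g ∈ normalizer (W : Set Γ) →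
      ∀ x ∈ M, g * x * g⁻¹ ∈ M := by
    intro g hgT hgW x hx
    refine ⟨conj_mem hgT hx.1, ?_⟩
    rw [S.map_mul _ _ (mul_mem hgW (hN hx.1)) (inv_mem hgW), S.map_mul _ _ hgW (hN hx.1)]
    rcases hx.2 with e | e <;> simp [e, S.mul_inv hgW]
  haveI hMn : (M.subgroupOf T).Normal :=
    ⟨fun x hx g => hMconj g (le_normalizer g.2) (hN g.2) x hx⟩
  let Q := T ⧸ M.subgroupOf T
  let π : T →* Q := QuotientGroup.mk' (M.subgroupOf T)
  have hπ : ∀ x : T, π x = 1 ↔ (x : Γ) ∈ M := fun x =>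
    (QuotientGroup.eq_one_iff x).trans mem_subgroupOf
  have hcomm : ∀ x y : Q, x * y = y * x := by
    intro x y
    obtain ⟨x, rfl⟩ := QuotientGroup.mk'_surjective (M.subgroupOf T) x
    obtain ⟨y, rfl⟩ := QuotientGroup.mk'_surjective (M.subgroupOf T) y
    show π x * π y = π y * π x
    rw [← commutatorElement_eq_one_iff_mul_comm, ← map_commutatorElement, hπ]
    exact hZM (hder (commutator_mem_commutator x.2 y.2))
  letI : CommGroup Q := { (inferInstance : Group Q) with mul_comm := hcomm }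
  have hsqQ : ∀ q : Q, q * q = 1 := by
    intro q
    obtain ⟨x, rfl⟩ := QuotientGroup.mk'_surjective (M.subgroupOf T) q
    show π x * π x = 1
    rw [← map_mul, hπ]
    exact hZM (hsq x x.2)
  -- conjugation on the quotient
  let K : Subgroup Γ := normalizer (T : Set Γ) ⊓ normalizer (W : Set Γ)
  have hcK : c ∈ K := ⟨hcT, hcW⟩
  have haK : a ∈ K := ⟨haT, haW⟩
  let cj : ∀ g, g ∈ K → T → T := fun g hg x => ⟨g * x * g⁻¹, conj_mem hg.1 x.2⟩
  have hcj : ∀ g (hg : g ∈ K) {x y : T}, π x = π y → π (cj g hg x) = π (cj g hg y) := by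
    intro g hg x y hxy
    rw [← div_eq_one, ← map_div, hπ] at hxy ⊢
    have := hMconj g hg.1 hg.2 _ hxy
    simp only [div_eq_mul_inv, Subgroup.coe_mul, InvMemClass.coe_inv] at this ⊢
    simpa [cj, mul_assoc] using this
  -- the map `t ↦ e(t)`
  let E : T → T := fun t => ⟨ee c t, ee_mem hcT t.2⟩
  have hEeq : ∀ t : T, E t = cj c⁻¹ (inv_mem hcK) t * t⁻¹ := fun t => Subtype.ext (by
    show ee c t = c⁻¹ * t * c⁻¹⁻¹ * (t : Γ)⁻¹
    rw [inv_inv]; rfl)
  have hcjmul : ∀ g (hg : g ∈ K) (x y : T), cj g hg (x * y) = cj g hg x * cj g hg y :=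
    fun g hg x y => Subtype.ext (by
      show g * (x * y : Γ) * g⁻¹ = g * x * g⁻¹ * (g * y * g⁻¹)
      group)
  let θ : T →* Q := MonoidHom.mk' (fun t => π (E t)) fun x y => by
    show π (E (x * y)) = π (E x) * π (E y)
    simp only [hEeq, hcjmul, map_mul, map_inv, mul_inv_rev]
    rw [mul_comm (π y)⁻¹, mul_mul_mul_comm]
  -- an element of the image outside `M` squares to minus one
  have hkey : ∀ x : T, π x ∈ θ.range → π x ≠ 1 → σ x * σ x = -1 := by
    rintro x ⟨t, ht⟩ hx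
    have hm : π (x * (E t)⁻¹) = 1 := by
      rw [map_mul, map_inv, ← show θ t = π (E t) from rfl, ht, mul_inv_cancel]
    rw [hπ] at hm
    have he : σ (ee c t) * σ (ee c t) = -1 := by
      have heN : ee c t ∈ normalizer (W : Set Γ) := hN (E t).2
      rw [← S.map_mul _ _ heN heN]
      refine (hZ _ (hsq _ (E t).2)).resolve_left fun h1 => hx ?_
      rw [← ht]
      refine (hπ (E t)).2 ⟨(E t).2, Or.inl ?_⟩
      exact S.ee_one hp hp2 hcW (hN t.2) hq (by rw [← S.map_mul _ _ heN heN]; exact h1)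
    have hxe : σ x = σ (x * (E t)⁻¹ : T) * σ (ee c t) := by
      rw [← S.map_mul _ _ (hN (x * (E t)⁻¹).2) (hN (E t).2)]
      congr 1
      show (x : Γ) = x * (ee c t)⁻¹ * ee c t
      group
    rw [hxe]
    rcases hm.2 with e | e <;> rw [e] <;> simp [he]
  -- hence the image has order at most four
  have hJ : ∀ x y z : Q, x ∈ θ.range → y ∈ θ.range → z ∈ θ.range → x ≠ 1 → y ≠ 1 → y ≠ x →
      z = 1 ∨ z = x ∨ z = y ∨ z = x * y := by
    intro x y z hx hy hz hx1 hy1 hyx
    by_contra hcon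
    push Not at hcon
    obtain ⟨hz1, hzx, hzy, hzxy⟩ := hcon
    have hne' : ∀ u v : Q, u ≠ v → u * v ≠ 1 := fun u v huv h => huv (by
      rw [← mul_one u, ← hsqQ v, ← mul_assoc, h, one_mul])
    obtain ⟨x, rfl⟩ := QuotientGroup.mk'_surjective (M.subgroupOf T) x
    obtain ⟨y, rfl⟩ := QuotientGroup.mk'_surjective (M.subgroupOf T) y
    obtain ⟨z, rfl⟩ := QuotientGroup.mk'_surjective (M.subgroupOf T) z
    have hac' : ∀ u v : T, π u ∈ θ.range → π v ∈ θ.range → π u ≠ 1 → π v ≠ 1 → π u ≠ π v →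
        σ v * σ u = -(σ u * σ v) := by
      intro u v hu hv hu1 hv1 huv
      refine anticomm (hkey u hu hu1) (hkey v hv hv1) ?_
      have h := hkey (u * v) (by rw [map_mul]; exact mul_mem hu hv)
        (by rw [map_mul]; exact hne' _ _ huv)
      rwa [Subgroup.coe_mul, S.map_mul _ _ (hN u.2) (hN v.2)] at h
    have h3 := hkey (x * y * z)
      (by rw [map_mul, map_mul]; exact mul_mem (mul_mem hx hy) hz)
      (by rw [map_mul, map_mul]; exact hne' _ _ hzxy.symm)
    rw [Subgroup.coe_mul, Subgroup.coe_mul, S.map_mul _ _ (mul_mem (hN x.2) (hN y.2)) (hN z.2),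
      S.map_mul _ _ (hN x.2) (hN y.2)] at h3
    have h4 := triple_sq (hkey x hx hx1) (hkey y hy hy1) (hkey z hz hz1)
      (hac' x y hx hy hx1 hy1 hyx.symm) (hac' x z hx hz hx1 hz1 hzx.symm)
      (hac' y z hy hz hy1 hz1 hzy.symm)
    exact hne (h4.symm.trans h3)
  -- stabilisers
  let St : T → Subgroup Γ := fun x =>
    { carrier := {g | ∃ hg : g ∈ K, π (cj g hg x) = π x}
      one_mem' := ⟨one_mem _, congrArg π (Subtype.ext (by
        show 1 * (x : Γ) * 1⁻¹ = x
        group))⟩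
      mul_mem' := fun {g h} hg hh => ⟨mul_mem hg.1 hh.1, by
        obtain ⟨hg, eg⟩ := hg
        obtain ⟨hh, eh⟩ := hh
        rw [show cj (g * h) (mul_mem hg hh) x = cj g hg (cj h hh x) from Subtype.ext (by
          show g * h * (x : Γ) * (g * h)⁻¹ = g * (h * x * h⁻¹) * g⁻¹
          group), hcj g hg eh, eg]⟩
      inv_mem' := fun {g} hg => ⟨inv_mem hg.1, by
        obtain ⟨hg, eg⟩ := hg
        rw [← hcj g⁻¹ (inv_mem hg) eg]
        exact congrArg π (Subtype.ext (by
          show g⁻¹ * (g * (x : Γ) * g⁻¹) * g⁻¹⁻¹ = x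
          group))⟩ }
  -- the image is invariant
  have hinv : ∀ g (hg : g ∈ K), g * c = c * g → ∀ x : T, π x ∈ θ.range →
      π (cj g hg x) ∈ θ.range := by
    rintro g hg hgc x ⟨t, ht⟩
    refine ⟨cj g hg t, ?_⟩
    rw [← hcj g hg (show π (E t) = π x from ht)]
    refine congrArg π (Subtype.ext ?_)
    show ee c (g * t * g⁻¹) = g * ee c t * g⁻¹
    have h1 : g * c⁻¹ = c⁻¹ * g := (Commute.inv_right hgc).eq
    simp only [ee]
    rw [show g * (c⁻¹ * t * c * (t : Γ)⁻¹) * g⁻¹ = (g * c⁻¹) * t * (c * g⁻¹) * (g * t * g⁻¹)⁻¹ by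
      group, h1, show c * g⁻¹ = g⁻¹ * c from (Commute.inv_left hgc).eq.symm]
    group
  have hthree : ∀ g (hg : g ∈ K), g * c = c * g →
      (∀ y : T, π y ∈ θ.range → g ∈ St y → π y = 1) →
      ∀ x : T, π x ∈ θ.range → g ^ 3 ∈ St x := by
    intro g hg hgc hfree x hx
    by_cases hx1 : π x = 1
    · refine ⟨pow_mem hg 3, ?_⟩
      rw [hx1, hπ]
      exact hMconj _ (pow_mem hg.1 3) (pow_mem hg.2 3) _ ((hπ x).1 hx1)
    have hmem : ∀ y : T, π (cj g hg y) = π y → g ∈ St y := fun y h => ⟨hg, h⟩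
    set y := cj g hg x with hy
    have hyr := hinv g hg hgc x hx
    have hy1 : π y ≠ 1 := by
      intro h
      refine hx1 ?_
      have h' := hcj g⁻¹ (inv_mem hg) (h.trans (map_one π).symm)
      rw [show cj g⁻¹ (inv_mem hg) y = x from Subtype.ext (by
        show g⁻¹ * (g * (x : Γ) * g⁻¹) * g⁻¹⁻¹ = x
        group)] at h'
      rw [h', hπ]
      show g⁻¹ * (1 : Γ) * g⁻¹⁻¹ ∈ M
      rw [mul_one, mul_inv_cancel]
      exact one_mem M
    have hyx : π y ≠ π x := fun h => hx1 (hfree x hx (hmem x h))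
    have hxyr : π (x * y) ∈ θ.range := by rw [map_mul]; exact mul_mem hx hyr
    have hxy : π (x * y) ≠ 1 := by
      rw [map_mul]
      intro h
      exact hyx (by rw [← one_mul (π y), ← hsqQ (π x), mul_assoc, h, mul_one])
    rcases hJ _ _ _ hx hyr (hinv g hg hgc y hyr) hx1 hy1 hyx with h | h | h | h
    · refine absurd (hfree y hyr ⟨hg, ?_⟩) hy1
      exfalso
      refine hy1 ?_
      have h' := hcj g⁻¹ (inv_mem hg) (h.trans (map_one π).symm)
      rw [show cj g⁻¹ (inv_mem hg) (cj g hg y) = y from Subtype.ext (by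
        show g⁻¹ * (g * (y : Γ) * g⁻¹) * g⁻¹⁻¹ = y
        group)] at h'
      rw [h', hπ]
      show g⁻¹ * (1 : Γ) * g⁻¹⁻¹ ∈ M
      rw [mul_one, mul_inv_cancel]
      exact one_mem M
    · refine absurd (hfree _ hxyr ⟨hg, ?_⟩) hxy
      rw [hcjmul g hg, map_mul, map_mul, ← hy, h, mul_comm]
    · exact absurd (hfree y hyr (hmem y h)) hy1
    · refine ⟨pow_mem hg 3, ?_⟩
      have h3 : cj (g ^ 3) (pow_mem hg 3) x = cj g hg (cj g hg y) := Subtype.ext (by
        show g ^ 3 * (x : Γ) * (g ^ 3)⁻¹ = g * (g * (g * x * g⁻¹) * g⁻¹) * g⁻¹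
        rw [pow_succ, pow_two]
        simp only [mul_inv_rev, mul_assoc])
      rw [h3, hcj g hg (h.trans (map_mul π x y).symm), hcjmul g hg, map_mul, ← hy, h,
        mul_comm (π x), ← mul_assoc, hsqQ, one_mul]
  -- `a` and `c` have no fixed points on the image
  have hafree : ∀ x : T, a ∈ St x → π x = 1 := by
    rintro x ⟨hh, e⟩
    have hD : (x : Γ)⁻¹ * a * x * a⁻¹ ∈ M := by
      have h1 : π (x⁻¹ * cj a hh x) = 1 := by rw [map_mul, map_inv, e, inv_mul_cancel]
      rw [hπ] at h1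
      simpa [cj, mul_assoc] using h1
    have hcop : (orderOf a).Coprime (Nat.card M) := by
      obtain ⟨m, hm⟩ := IsPGroup.iff_card.1 (hT.to_le hMT)
      rw [ha, hm]
      exact ((Nat.coprime_primes hr Nat.prime_two).2 hr2).pow_right m
    obtain ⟨d, hd, hxd⟩ := CoprimeAction.exists_fixed_mem_coset_zpowers (D := M)
      (mem_normalizer_fintype fun y hy => hMconj a haT haW y hy) hcop (x : Γ) hD
    have hdT : d ∈ T := by simpa using mul_mem x.2 (hMT hxd)
    have hdM : d ∈ M := hZM (hfix ▸ ⟨hdT, mem_centralizer_singleton_iff.2 hd.symm⟩)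
    refine (hπ x).2 ?_
    have := mul_mem hdM (inv_mem hxd)
    simpa using this
  have hcfree : ∀ x : T, π x ∈ θ.range → c ∈ St x → π x = 1 := by
    rintro x ⟨t, ht⟩ hx
    obtain ⟨hci, ei⟩ := (St x).inv_mem hx
    have hstep : ∀ j : ℕ, π (cj (c⁻¹ ^ j) (pow_mem (inv_mem hcK) j) t) = π x ^ j * π t := by
      intro j
      induction j with
      | zero =>
        rw [pow_zero (π x), one_mul]
        exact congrArg π (Subtype.ext (by
          show c⁻¹ ^ 0 * (t : Γ) * (c⁻¹ ^ 0)⁻¹ = t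
          group))
      | succ j ih =>
        have e1 : cj (c⁻¹ ^ (j + 1)) (pow_mem (inv_mem hcK) (j + 1)) t =
            cj c⁻¹ (inv_mem hcK) (cj (c⁻¹ ^ j) (pow_mem (inv_mem hcK) j) t) := Subtype.ext (by
          show c⁻¹ ^ (j + 1) * (t : Γ) * (c⁻¹ ^ (j + 1))⁻¹ =
            c⁻¹ * (c⁻¹ ^ j * t * (c⁻¹ ^ j)⁻¹) * c⁻¹⁻¹
          rw [pow_succ']; group)
        have e2 : π (cj (c⁻¹ ^ j) (pow_mem (inv_mem hcK) j) t) = π (x ^ j * t) := by
          rw [ih, map_mul, map_pow]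
        rw [e1, hcj c⁻¹ (inv_mem hcK) e2, hcjmul c⁻¹ (inv_mem hcK), map_mul]
        have e3 : π (cj c⁻¹ (inv_mem hcK) t) = π x * π t := by
          rw [← ht, show θ t = π (E t) from rfl, hEeq, map_mul, map_inv, inv_mul_cancel_right]
        have e4 : π (cj c⁻¹ (inv_mem hcK) (x ^ j)) = π x ^ j := by
          let cjh : T →* T := MonoidHom.mk' (cj c⁻¹ (inv_mem hcK)) (hcjmul c⁻¹ (inv_mem hcK))
          rw [show cj c⁻¹ (inv_mem hcK) (x ^ j) = cjh (x ^ j) from rfl, map_pow, map_pow]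
          exact congrArg (· ^ j) ei
        rw [e3, e4, pow_succ, mul_assoc]
    have h1 := hstep (p ^ k)
    rw [show cj (c⁻¹ ^ p ^ k) (pow_mem (inv_mem hcK) _) t = t from Subtype.ext (by
      show c⁻¹ ^ p ^ k * (t : Γ) * (c⁻¹ ^ p ^ k)⁻¹ = t
      rw [inv_pow, hck]; group), eq_comm, mul_eq_right] at h1
    obtain ⟨m, hm⟩ := (hp.odd_of_ne_two hp2).pow (n := k)
    rwa [hm, pow_succ, pow_mul, pow_two, hsqQ, one_pow, one_mul] at h1
  -- conclusion
  intro t ht
  have hrange : π (E ⟨t, ht⟩) ∈ θ.range := ⟨_, rfl⟩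
  set x := E ⟨t, ht⟩ with hx
  have h3a := hthree a haK hac (fun y _ h => hafree y h) x hrange
  have hx1 : π x = 1 := by
    rcases eq_or_ne r 3 with hr3 | hr3
    · have h3c := hthree c hcK rfl hcfree x hrange
      refine hcfree x hrange ?_
      have hcop : (3 : ℕ).Coprime (orderOf c) := by
        obtain ⟨j, -, hj⟩ := (Nat.dvd_prime_pow hp).1 (orderOf_dvd_of_pow_eq_one hck)
        rw [hj]
        exact ((Nat.coprime_primes Nat.prime_three hp).2 (hr3 ▸ hrp)).pow_right j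
      obtain ⟨m, hm⟩ := exists_pow_eq_self_of_coprime hcop
      exact hm ▸ pow_mem h3c m
    · refine hafree x ?_
      obtain ⟨m, hm⟩ := exists_pow_eq_self_of_coprime (x := a) (n := 3)
        (ha.symm ▸ (Nat.coprime_primes Nat.prime_three hr).2 (Ne.symm hr3))
      exact hm ▸ pow_mem h3a m
  rw [hπ] at hx1
  obtain ⟨hxT, h1 | h1⟩ := hx1
  · exact h1
  · refine S.ee_one hp hp2 hcW (hN ht) hq ?_
    rw [show σ (ee c t) = -1 from h1, neg_mul_neg, one_mul]

end P2

open Subgroup P2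
open Cfsg.Agent.Flavell20 (cen)
open scoped commutatorElement

universe u

/-- Stability: a fixed `p`-element acting quadratically moves `T` trivially. -/
theorem quad {Γ : Type u} [Group Γ] [Finite Γ] {p r : ℕ} (hp : p.Prime) (hp2 : p ≠ 2)
    (hr : r.Prime) (hrp : r ≠ p) : Quad p r Γ := by
  intro T U a c ha hT haT hgen hder hsq hZexp hfix _ hUc hUexp hTU haU hcU hcT hac hck hquad
  obtain ⟨k, hck⟩ := hck
  rcases eq_or_ne r 2 with hr2 | hr2
  · rw [eq_bot_of_two (ha.trans hr2) hT haT hgen, commutator_bot_left]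
    exact bot_le
  have hq : ∀ u ∈ U, c * (c * u * c⁻¹ * u⁻¹) * c⁻¹ = c * u * c⁻¹ * u⁻¹ := by
    intro u hu
    have h1 : (c * u * c⁻¹ * u⁻¹)⁻¹ ∈ ⁅U, zpowers c⁆ := by
      have := commutator_mem_commutator hu (mem_zpowers c)
      rw [commutatorElement_def] at this
      rwa [show (c * u * c⁻¹ * u⁻¹)⁻¹ = u * c * u⁻¹ * c⁻¹ by group]
    have h2 := commutator_mem_commutator (inv_mem h1) (mem_zpowers c)
    rw [hquad, mem_bot, inv_inv, commutatorElement_eq_one_iff_mul_comm] at h2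
    rw [← h2, mul_inv_cancel_right]
  -- the main claim
  have hclaim : ∀ t ∈ T, ∀ u ∈ U, ee c t * u * (ee c t)⁻¹ = u := by
    obtain ⟨R, iR, σ, S⟩ := exists_rep p hUc hUexp
    have hqR := (S.quad c hcU).2 hq
    have hcenN : ∀ {z}, z ∈ cen T → c⁻¹ * z * c ∈ cen T := by
      intro z hz
      refine ⟨by simpa [mul_assoc] using P2.conj_mem (inv_mem hcT) hz.1,
        mem_centralizer_iff.2 fun y hy => ?_⟩
      have := mem_centralizer_iff.1 hz.2 _ (P2.conj_mem hcT hy)
      calc y * (c⁻¹ * z * c) = c⁻¹ * ((c * y * c⁻¹) * z) * c := by group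
        _ = c⁻¹ * (z * (c * y * c⁻¹)) * c := by rw [this]
        _ = c⁻¹ * z * c * y := by group
    -- `c` commutes with the centre of `T` on `U`
    have hz1 : ∀ z ∈ cen T, σ (ee c z) = 1 := by
      intro z hz
      have hez : ee c z ∈ cen T := mul_mem (hcenN hz) (inv_mem hz)
      refine S.ee_one hp hp2 hcU (hTU hz.1) hqR ?_
      rw [← S.map_mul _ _ (hTU hez.1) (hTU hez.1), hZexp _ hez, S.map_one]
    intro t ht
    by_contra hcon
    rw [← S.eq_one _ (hTU (ee_mem hcT ht))] at hcon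
    set e := ee c t with hedef
    have heT : e ∈ T := ee_mem hcT ht
    have hz0 : e * e ∈ cen T := hsq e heT
    -- the subgroup inverted by `e * e`
    let U0 : Subgroup Γ :=
      { carrier := {u | u ∈ U ∧ e * e * u * (e * e)⁻¹ = u⁻¹}
        one_mem' := ⟨one_mem _, by group⟩
        mul_mem' := fun {x y} hx hy => ⟨mul_mem hx.1 hy.1, by
          rw [show e * e * (x * y) * (e * e)⁻¹ =
            (e * e * x * (e * e)⁻¹) * (e * e * y * (e * e)⁻¹) by group, hx.2, hy.2, ← mul_inv_rev,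
            hUc y hy.1 x hx.1]⟩
        inv_mem' := fun {x} hx => ⟨inv_mem hx.1, by
          rw [show e * e * x⁻¹ * (e * e)⁻¹ = (e * e * x * (e * e)⁻¹)⁻¹ by
            simp only [mul_inv_rev, inv_inv, mul_assoc], hx.2]⟩ }
    have hU0 : U0 ≠ ⊥ := by
      intro hbot
      refine hcon ?_
      refine S.ee_one hp hp2 hcU (hTU ht) hqR ?_
      rw [← S.map_mul _ _ (hTU heT) (hTU heT), S.eq_one _ (hTU hz0.1)]
      intro u hu
      have hz2 : e * e * (e * e) = 1 := hZexp _ hz0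
      have hv : e * e * u * (e * e)⁻¹ * u⁻¹ ∈ U0 := by
        refine ⟨mul_mem (P2.conj_mem (hTU hz0.1) hu) (inv_mem hu), ?_⟩
        rw [show e * e * (e * e * u * (e * e)⁻¹ * u⁻¹) * (e * e)⁻¹ =
          (e * e * (e * e)) * u * (e * e * (e * e))⁻¹ * (e * e * u * (e * e)⁻¹)⁻¹ by group, hz2]
        group
      rw [hbot, mem_bot, mul_inv_eq_one] at hv
      exact hv
    -- a minimal invariant subgroup of it
    let Inv : Subgroup Γ → Prop := fun W => W ≤ U0 ∧ W ≠ ⊥ ∧ T ≤ normalizer (W : Set Γ) ∧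
      a ∈ normalizer (W : Set Γ) ∧ c ∈ normalizer (W : Set Γ)
    have hcommz : ∀ z ∈ cen T, ∀ g, g ∈ normalizer (T : Set Γ) → g ∈ normalizer (U : Set Γ) →
        (g ∈ T ∨ g = a ∨ g = c) → σ (g * z * g⁻¹) = σ z := by
      intro z hz g _ _ hg
      rcases hg with hg | hg | hg
      · rw [mem_centralizer_iff.1 hz.2 g hg, mul_inv_cancel_right]
      · have hza : z * g = g * z := by
          rw [hg]; exact mem_centralizer_singleton_iff.1 (hfix ▸ hz : z ∈ T ⊓ _).2
        rw [← hza, mul_inv_cancel_right]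
      · subst hg
        have h1 := hz1 z hz
        have hzN := hTU hz.1
        have hgzg : g * z * g⁻¹ ∈ normalizer (U : Set Γ) :=
          mul_mem (mul_mem hcU hzN) (inv_mem hcU)
        have hee : ee g z ∈ normalizer (U : Set Γ) := hTU (ee_mem hcT hz.1)
        have h2 : g⁻¹ * z * g = ee g z * z := by simp only [ee]; group
        have h3 : σ (g⁻¹ * z * g) = σ z := by rw [h2, S.map_mul _ _ hee hzN, h1, one_mul]
        rw [S.map_mul _ _ (mul_mem hcU hzN) (inv_mem hcU), S.map_mul _ _ hcU hzN, ← h3,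
          ← S.map_mul _ _ hcU (mul_mem (mul_mem (inv_mem hcU) hzN) hcU),
          ← S.map_mul _ _ (mul_mem hcU (mul_mem (mul_mem (inv_mem hcU) hzN) hcU)) (inv_mem hcU)]
        rw [h3]
        congr 1
        group
    have hnorm : ∀ (W : Subgroup Γ), W ≤ U → ∀ z ∈ cen T, ∀ g, g ∈ normalizer (T : Set Γ) →
        g ∈ normalizer (U : Set Γ) → (g ∈ T ∨ g = a ∨ g = c) → ∀ u ∈ W,
        z * (g * u * g⁻¹) * z⁻¹ = g * (z * u * z⁻¹) * g⁻¹ := by
      intro W hWU z hz g hgT hgU hg u hu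
      have h1 := hcommz z hz g hgT hgU hg
      have hzN := hTU hz.1
      have hgz : g * z * g⁻¹ ∈ normalizer (U : Set Γ) := mul_mem (mul_mem hgU hzN) (inv_mem hgU)
      have h2 : σ (z⁻¹ * (g * z * g⁻¹)) = 1 := by
        rw [S.map_mul _ _ (inv_mem hzN) hgz, h1, S.inv_mul hzN]
      have h4 := (S.eq_one _ (mul_mem (inv_mem hzN) hgz)).1 h2 (g * u * g⁻¹)
        (P2.conj_mem hgU (hWU hu))
      calc z * (g * u * g⁻¹) * z⁻¹
          = z * (z⁻¹ * (g * z * g⁻¹) * (g * u * g⁻¹) * (z⁻¹ * (g * z * g⁻¹))⁻¹) * z⁻¹ := by rw [h4]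
        _ = g * (z * u * z⁻¹) * g⁻¹ := by group
    have hInv0 : Inv U0 := by
      have hmem : ∀ g, g ∈ normalizer (T : Set Γ) → g ∈ normalizer (U : Set Γ) →
          (g ∈ T ∨ g = a ∨ g = c) → g ∈ normalizer (U0 : Set Γ) := by
        intro g hgT hgU hg
        refine mem_normalizer_fintype fun u hu => ⟨P2.conj_mem hgU hu.1, ?_⟩
        rw [hnorm U le_rfl _ hz0 g hgT hgU hg u hu.1, hu.2]
        group
      exact ⟨le_rfl, hU0, fun g hg => hmem g (le_normalizer hg) (hTU hg) (Or.inl hg),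
        hmem a haT haU (Or.inr (Or.inl rfl)), hmem c hcT hcU (Or.inr (Or.inr rfl))⟩
    classical
    have hex : ∃ m, ∃ W, Inv W ∧ Nat.card W = m := ⟨_, U0, hInv0, rfl⟩
    obtain ⟨W, ⟨hWU0, hWne, hTW, haW, hcW⟩, hWc⟩ := Nat.find_spec hex
    have hWU : W ≤ U := hWU0.trans fun x hx => hx.1
    obtain ⟨R', iR', σ', S'⟩ := exists_rep p (fun x hx y hy => hUc x (hWU hx) y (hWU hy))
      (fun x hx => hUexp x (hWU hx))
    have hq' := (S'.quad c hcW).2 fun u hu => hq u (hWU hu)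
    have hZ' : ∀ z ∈ cen T, σ' z = 1 ∨ σ' z = -1 := by
      intro z hz
      let Wf : Subgroup Γ := W ⊓ centralizer ({z} : Set Γ)
      by_cases hWf : Wf = ⊥
      · refine Or.inr ((S'.eq_neg _ (hTW hz.1)).2 fun u hu => ?_)
        have hzz : z * z = 1 := hZexp z hz
        have hzu : z * u * z⁻¹ ∈ W := P2.conj_mem (hTW hz.1) hu
        have hv : u * (z * u * z⁻¹) ∈ Wf := by
          refine ⟨mul_mem hu hzu, mem_centralizer_singleton_iff.2 ?_⟩
          have h1 : z * (u * (z * u * z⁻¹)) * z⁻¹ = u * (z * u * z⁻¹) := by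
            rw [show z * (u * (z * u * z⁻¹)) * z⁻¹ =
              z * u * z⁻¹ * ((z * z) * u * (z * z)⁻¹) by group, hzz, one_mul, inv_one, mul_one,
              hUc _ (hWU hzu) _ (hWU hu)]
          exact (mul_inv_eq_iff_eq_mul.1 h1).symm
        rw [hWf, mem_bot] at hv
        exact eq_inv_of_mul_eq_one_right hv
      · have hWfI : Inv Wf := by
          have hmem : ∀ g, g ∈ normalizer (T : Set Γ) → g ∈ normalizer (U : Set Γ) →
              g ∈ normalizer (W : Set Γ) → (g ∈ T ∨ g = a ∨ g = c) →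
              g ∈ normalizer (Wf : Set Γ) := by
            intro g hgT hgU hgW hg
            refine mem_normalizer_fintype fun u hu => ⟨P2.conj_mem hgW hu.1,
              mem_centralizer_singleton_iff.2 ?_⟩
            have h1 := hnorm W hWU z hz g hgT hgU hg u hu.1
            have hzu : z * u * z⁻¹ = u := by
              rw [← mem_centralizer_singleton_iff.1 hu.2, mul_inv_cancel_right]
            rw [hzu] at h1
            exact (mul_inv_eq_iff_eq_mul.1 h1).symm
          exact ⟨inf_le_left.trans hWU0, hWf,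
            fun g hg => hmem g (le_normalizer hg) (hTU hg) (hTW hg) (Or.inl hg),
            hmem a haT haU haW (Or.inr (Or.inl rfl)), hmem c hcT hcU hcW (Or.inr (Or.inr rfl))⟩
        have hWeq : Wf = W := eq_of_le_of_card_ge inf_le_left
          (hWc ▸ Nat.find_min' hex ⟨Wf, hWfI, rfl⟩)
        refine Or.inl ((S'.eq_one _ (hTW hz.1)).2 fun u hu => ?_)
        rw [← hWeq] at hu
        rw [← mem_centralizer_singleton_iff.1 hu.2, mul_inv_cancel_right]
    have h := core hp hp2 hr hrp hr2 ha hT haT hder hsq hfix (fun x hx => hUexp x (hWU hx)) hWne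
      hTW haW hcW hcT hac hck S' hq' hZ' t ht
    have hneg : σ' (e * e) = -1 := (S'.eq_neg _ (hTW hz0.1)).2 fun u hu => (hWU0 hu).2
    rw [S'.map_mul _ _ (hTW heT) (hTW heT), h, one_mul] at hneg
    exact S'.one_ne_neg_one hp hp2 (fun x hx => hUexp x (hWU hx)) hWne hneg
  -- all powers of `c`
  rw [commutator_le]
  intro t ht g hg
  obtain ⟨m, rfl⟩ := (Submonoid.mem_powers_iff _ _).1
    ((isOfFinOrder_of_finite c).mem_powers_iff_mem_zpowers.2 hg)
  rw [mem_centralizer_iff]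
  intro u hu
  suffices h : ∀ m : ℕ, ∀ t ∈ T, ∀ u ∈ U, ⁅t, c ^ m⁆ * u * ⁅t, c ^ m⁆⁻¹ = u by
    exact (mul_inv_eq_iff_eq_mul.1 (h m t ht u hu)).symm
  intro m
  induction m with
  | zero => intro t _ u _; simp
  | succ m ih =>
    intro t ht u hu
    have hu1 : c⁻¹ * u * c ∈ U := by simpa [mul_assoc] using P2.conj_mem (inv_mem hcU) hu
    have hbase : ∀ v ∈ U, ⁅t, c⁆ * v * ⁅t, c⁆⁻¹ = v := fun v hv => by
      have hv' : c⁻¹ * v * c ∈ U := by simpa [mul_assoc] using P2.conj_mem (inv_mem hcU) hv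
      calc ⁅t, c⁆ * v * ⁅t, c⁆⁻¹
          = c * (ee c t * (c⁻¹ * v * c) * (ee c t)⁻¹) * c⁻¹ := by
            simp only [ee, commutatorElement_def]; group
        _ = v := by rw [hclaim t ht _ hv']; group
    calc ⁅t, c ^ (m + 1)⁆ * u * ⁅t, c ^ (m + 1)⁆⁻¹
        = ⁅t, c⁆ * (c * (⁅t, c ^ m⁆ * (c⁻¹ * u * c) * ⁅t, c ^ m⁆⁻¹) * c⁻¹) * ⁅t, c⁆⁻¹ := by
          rw [pow_succ']; simp only [commutatorElement_def]; group
      _ = ⁅t, c⁆ * (c * (c⁻¹ * u * c) * c⁻¹) * ⁅t, c⁆⁻¹ := by rw [ih t ht _ hu1]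
      _ = ⁅t, c⁆ * u * ⁅t, c⁆⁻¹ := by group
      _ = u := hbase u hu

end Cfsg.Agent.Flavell8
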