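import Mathlib

/-!
A special `2`-group `G = [G, a]` and an element `a` of prime order `r = 2 ^ n + 1` without fixed
vectors: on a module in which the fixed points of `a` in `G` have no fixed vector, everything
commuting with `G` commutes with `a`.  Proof by a dimension count in the endomorphism algebra.
-/

set_option autoImplicit false
set_option linter.unusedSectionVars false

namespace Cfsg.Agent.FlavellScalar83

open Module

/-- Orbit representatives of a fixed point free permutation of prime period. -/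
lemma exists_reps {Q : Type*} [DecidableEq Q] (σ : Q → Q) {r : ℕ} (hr : r.Prime)
    (hσ : ∀ x, σ^[r] x = x) :
    ∀ s : Finset Q, (∀ x ∈ s, σ x ∈ s ∧ σ x ≠ x) →
      ∃ T : Finset Q, T ⊆ s ∧ s.card = r * T.card ∧ ∀ x ∈ s, ∃ t ∈ T, ∃ i, σ^[i] t = x := by
  intro s
  induction s using Finset.strongInduction with
  | _ s ih =>
    intro hs
    rcases s.eq_empty_or_nonempty with rfl | ⟨z, hz⟩
    · exact ⟨∅, by simp, by simp, by simp⟩
    have hzs : ∀ i, σ^[i] z ∈ s := by
      intro i
      induction i with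
      | zero => simpa using hz
      | succ i hi => rw [Function.iterate_succ_apply']; exact (hs _ hi).1
    have : Fact r.Prime := ⟨hr⟩
    have hper : Function.minimalPeriod σ z = r :=
      Function.minimalPeriod_eq_prime (hσ z) (hs z hz).2
    set O := (Finset.range r).image fun i => σ^[i] z with hO
    have hOs : O ⊆ s := fun w hw => by
      obtain ⟨i, -, rfl⟩ := Finset.mem_image.mp hw
      exact hzs i
    have hOcard : O.card = r := by
      rw [hO, Finset.card_image_of_injOn, Finset.card_range]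
      intro i hi j hj h
      exact Function.iterate_injOn_Iio_minimalPeriod (f := σ) (x := z) (by rw [hper]; simpa using hi)
        (by rw [hper]; simpa using hj) h
    have hz0 : z ∈ O := Finset.mem_image.mpr ⟨0, Finset.mem_range.mpr hr.pos, rfl⟩
    have hclosed : ∀ x ∈ s \ O, σ x ∈ s \ O ∧ σ x ≠ x := by
      intro x hx
      obtain ⟨hxs, hxO⟩ := Finset.mem_sdiff.mp hx
      refine ⟨Finset.mem_sdiff.mpr ⟨(hs x hxs).1, fun h => hxO ?_⟩, (hs x hxs).2⟩
      obtain ⟨i, -, hi⟩ := Finset.mem_image.mp h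
      have h1 : x = σ^[r - 1] (σ^[i] z) := by
        rw [hi, ← Function.iterate_succ_apply, Nat.succ_eq_add_one, Nat.sub_add_cancel hr.pos, hσ]
      refine Finset.mem_image.mpr ⟨(r - 1 + i) % r, Finset.mem_range.mpr (Nat.mod_lt _ hr.pos), ?_⟩
      rw [h1, ← Function.iterate_add_apply]
      conv_rhs => rw [← Function.iterate_mod_minimalPeriod_eq, hper]
    obtain ⟨T, hTs, hT, hcov⟩ := ih _ (Finset.sdiff_ssubset hOs ⟨z, hz0⟩) hclosed
    have hzT : z ∉ T := fun h => (Finset.mem_sdiff.mp (hTs h)).2 hz0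
    refine ⟨insert z T, Finset.insert_subset hz fun x hx => (Finset.mem_sdiff.mp (hTs hx)).1, ?_, ?_⟩
    · rw [← Finset.card_sdiff_add_card_eq_card hOs, hT, hOcard,
        Finset.card_insert_of_notMem hzT, Nat.mul_add, mul_one]
    intro x hx
    by_cases hxO : x ∈ O
    · obtain ⟨i, -, rfl⟩ := Finset.mem_image.mp hxO
      exact ⟨z, Finset.mem_insert_self _ _, i, rfl⟩
    · obtain ⟨t, ht, i, hi⟩ := hcov x (Finset.mem_sdiff.mpr ⟨hx, hxO⟩)
      exact ⟨t, Finset.mem_insert_of_mem ht, i, hi⟩

variable {K V : Type*} [Field K] [AddCommGroup V] [Module K V]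

/-- The endomorphisms commuting with `A`. -/
def cent (A : End K V) : Submodule K (End K V) where
  carrier := {X | A * X = X * A}
  add_mem' {X Y} hX hY := by
    simp only [Set.mem_setOf_eq] at *
    rw [mul_add, add_mul, hX, hY]
  zero_mem' := by simp
  smul_mem' c X hX := by
    simp only [Set.mem_setOf_eq] at *
    rw [mul_smul_comm, smul_mul_assoc, hX]

lemma mem_cent {A X : End K V} : X ∈ cent A ↔ A * X = X * A := Iff.rfl

/-- A semisimple element of order `r` without fixed vectors has a centraliser of dimension at least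
`(dim V) ^ 2 / (r - 1)`. -/
theorem sq_le_cent [FiniteDimensional K V] (A : End K V) {r : ℕ} (hr : r.Prime)
    (hrK : (r : K) ≠ 0) {ζ : K} (hζ : IsPrimitiveRoot ζ r) (hA : A ^ r = 1)
    (hsum : ∑ i ∈ Finset.range r, A ^ i = 0) :
    finrank K V * finrank K V ≤ (r - 1) * finrank K (cent A) := by
  set P : ℕ → End K V := fun j => (r : K)⁻¹ • ∑ i ∈ Finset.range r, (ζ ^ j) ^ i • A ^ i with hP
  set E : Fin (r - 1) → Submodule K V := fun j => LinearMap.ker (ζ ^ ((j : ℕ) + 1) • A - 1) with hE
  have hshift : ∀ j, (ζ ^ j • A) * P j = P j := by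
    intro j
    rw [hP, mul_smul_comm, Finset.mul_sum]
    congr 1
    have hstep : ∀ i, ζ ^ j • A * ((ζ ^ j) ^ i • A ^ i) = (ζ ^ j) ^ (i + 1) • A ^ (i + 1) := fun i => by
      rw [smul_mul_smul_comm, ← pow_succ', ← pow_succ']
    simp only [hstep]
    have h0 : (ζ ^ j) ^ r • A ^ r = (ζ ^ j) ^ 0 • A ^ 0 := by
      rw [hA, ← pow_mul, mul_comm, pow_mul, hζ.pow_eq_one, one_pow, pow_zero, pow_zero]
    have h1 := Finset.sum_range_succ' (fun i => (ζ ^ j) ^ i • A ^ i) r
    rw [Finset.sum_range_succ, h0] at h1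
    exact (add_right_cancel h1).symm
  have hmemP : ∀ (j : Fin (r - 1)) v, P ((j : ℕ) + 1) v ∈ E j := fun j v => by
    rw [hE, LinearMap.mem_ker, LinearMap.sub_apply, Module.End.one_apply, ← Module.End.mul_apply,
      hshift, sub_self]
  have hone : ∀ v, ∑ j : Fin (r - 1), P ((j : ℕ) + 1) v = v := by
    intro v
    have h0 : P 0 = 0 := by simp [hP, hsum]
    have hfull : ∑ j ∈ Finset.range r, P j = 1 := by
      simp only [hP]
      rw [← Finset.smul_sum, Finset.sum_comm, Finset.sum_eq_single 0]
      · simp only [pow_zero, one_smul, Finset.sum_const, Finset.card_range]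
        rw [← Nat.cast_smul_eq_nsmul K, smul_smul, inv_mul_cancel₀ hrK, one_smul]
      · intro i hi hi0
        rw [← Finset.sum_smul]
        have hne : ζ ^ i ≠ 1 := by
          intro h
          have := hζ.pow_eq_one_iff_dvd i |>.mp h
          exact hi0 (Nat.eq_zero_of_dvd_of_lt this (Finset.mem_range.mp hi))
        have : (∑ j ∈ Finset.range r, (ζ ^ j) ^ i) = 0 := by
          have hswap : ∀ j, (ζ ^ j) ^ i = (ζ ^ i) ^ j := fun j => by
            rw [← pow_mul, ← pow_mul, mul_comm]
          simp only [hswap]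
          have h := geom_sum_mul (ζ ^ i) r
          rw [← pow_mul ζ i r, mul_comm i r, pow_mul, hζ.pow_eq_one, one_pow, sub_self] at h
          exact (mul_eq_zero.mp h).resolve_right (sub_ne_zero.mpr hne)
        rw [this, zero_smul]
      · intro h
        exact absurd (Finset.mem_range.mpr hr.pos) h
    have h := LinearMap.congr_fun hfull v
    rw [show r = (r - 1) + 1 by have := hr.pos; omega, Finset.sum_range_succ', h0, add_zero,
      LinearMap.sum_apply, Finset.sum_range] at h
    exact h
  have hA' : ∀ (j : Fin (r - 1)) (v : V), v ∈ E j → ∀ i, ζ ^ (((j : ℕ) + 1) * i) • (A ^ i) v = v := by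
    intro j v hv i
    induction i with
    | zero => simp
    | succ i ih =>
      have hv1 : ζ ^ ((j : ℕ) + 1) • A v = v := by
        rw [hE, LinearMap.mem_ker, LinearMap.sub_apply, Module.End.one_apply, sub_eq_zero,
          LinearMap.smul_apply] at hv
        exact hv
      conv_rhs => rw [← ih, ← hv1]
      rw [map_smul, smul_smul, ← pow_add, pow_succ, Module.End.mul_apply]
      congr 2
  have hdelta : ∀ (i j : Fin (r - 1)) (v : V), v ∈ E j → P ((i : ℕ) + 1) v = if i = j then v else 0 := by
    intro i j v hv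
    set c : K := ζ ^ ((i : ℕ) + 1) * (ζ ^ ((j : ℕ) + 1))⁻¹ with hc
    have hζ0 : ζ ≠ 0 := hζ.ne_zero hr.ne_zero
    have hterm : ∀ k, ((ζ ^ ((i : ℕ) + 1)) ^ k • A ^ k) v = c ^ k • v := by
      intro k
      rw [LinearMap.smul_apply]
      conv_rhs => rw [← hA' j v hv k, smul_smul]
      congr 1
      rw [hc, mul_pow, inv_pow, ← pow_mul ζ ((j : ℕ) + 1) k, inv_mul_cancel_right₀ (pow_ne_zero _ hζ0)]
    rw [hP, LinearMap.smul_apply, LinearMap.sum_apply, Finset.sum_congr rfl (fun k _ => hterm k),
      ← Finset.sum_smul, smul_smul]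
    by_cases hij : i = j
    · rw [if_pos hij]
      have hc1 : c = 1 := by rw [hc, hij, mul_inv_cancel₀ (pow_ne_zero _ hζ0)]
      simp [hc1, hrK]
    · rw [if_neg hij]
      have hc1 : c ≠ 1 := by
        intro h
        rw [hc, mul_inv_eq_one₀ (pow_ne_zero _ hζ0)] at h
        have := hζ.pow_inj (by have := i.2; omega) (by have := j.2; omega) h
        exact hij (Fin.ext (by omega))
      have hcr : c ^ r = 1 := by
        rw [hc, mul_pow, inv_pow, ← pow_mul, ← pow_mul, mul_comm _ r, mul_comm _ r, pow_mul, pow_mul,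
          hζ.pow_eq_one, one_pow, one_pow, inv_one, mul_one]
      have h := geom_sum_mul c r
      rw [hcr, sub_self] at h
      rw [(mul_eq_zero.mp h).resolve_right (sub_ne_zero.mpr hc1), mul_zero, zero_smul]
  set π : (j : Fin (r - 1)) → V →ₗ[K] E j := fun j =>
    (P ((j : ℕ) + 1)).codRestrict (E j) (hmemP j) with hπ
  -- the decomposition
  let split : V ≃ₗ[K] ((j : Fin (r - 1)) → E j) :=
    { toFun := fun v j => π j v
      map_add' := fun u v => funext fun j => map_add _ _ _
      map_smul' := fun c v => funext fun j => map_smul _ _ _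
      invFun := fun f => ∑ j, (f j : V)
      left_inv := fun v => hone v
      right_inv := fun f => funext fun i => Subtype.ext (by
        show P ((i : ℕ) + 1) (∑ j, (f j : V)) = (f i : V)
        rw [map_sum, Finset.sum_congr rfl (fun j _ => hdelta i j _ (f j).2),
          Finset.sum_ite_eq, if_pos (Finset.mem_univ i)]) }
  -- endomorphisms of the pieces commute with `A`
  have hAπ : ∀ (j : Fin (r - 1)) v, P ((j : ℕ) + 1) (A v) = A (P ((j : ℕ) + 1) v) := by
    intro j v
    have : Commute A (P ((j : ℕ) + 1)) :=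
      (Commute.sum_right _ _ _ fun i _ => ((Commute.refl A).pow_right i).smul_right _).smul_right _
    exact (LinearMap.congr_fun this.eq v).symm
  let Φ : ((j : Fin (r - 1)) → End K (E j)) →ₗ[K] End K V :=
    { toFun := fun f => ∑ j, (E j).subtype ∘ₗ f j ∘ₗ π j
      map_add' := fun f g => by
        simp only [Pi.add_apply, LinearMap.add_comp, LinearMap.comp_add, Finset.sum_add_distrib]
      map_smul' := fun c f => by
        simp only [Pi.smul_apply, LinearMap.smul_comp, LinearMap.comp_smul, Finset.smul_sum,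
          RingHom.id_apply] }
  have hΦ : ∀ f v, Φ f v = ∑ j, (f j (π j v) : V) := fun f v => by
    show (∑ j, (E j).subtype ∘ₗ f j ∘ₗ π j) v = _
    rw [LinearMap.sum_apply]
    rfl
  have hΦinj : Function.Injective Φ := by
    intro f g h
    funext i
    refine LinearMap.ext fun x => Subtype.ext ?_
    have key : ∀ f, Φ f (x : V) = (f i x : V) := fun f => by
      rw [hΦ, Finset.sum_eq_single i]
      · congr 2
        exact Subtype.ext ((hdelta i i x x.2).trans (if_pos rfl))
      · intro j _ hji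
        have : π j (x : V) = 0 := Subtype.ext ((hdelta j i x x.2).trans (if_neg hji))
        rw [this, map_zero, Submodule.coe_zero]
      · exact fun h => absurd (Finset.mem_univ i) h
    rw [← key, ← key, h]
  have hAx : ∀ (j : Fin (r - 1)) (y : E j), A (y : V) = (ζ ^ ((j : ℕ) + 1))⁻¹ • (y : V) := by
    intro j y
    have h := hA' j y y.2 1
    rw [mul_one, pow_one] at h
    conv_rhs => rw [← h, inv_smul_smul₀ (pow_ne_zero _ (hζ.ne_zero hr.ne_zero))]
  have hΦmem : ∀ f, Φ f ∈ cent A := fun f => by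
    refine LinearMap.ext fun v => ?_
    rw [Module.End.mul_apply, Module.End.mul_apply, hΦ, hΦ, map_sum]
    refine Finset.sum_congr rfl fun j _ => ?_
    have h1 : π j (A v) = (ζ ^ ((j : ℕ) + 1))⁻¹ • π j v := Subtype.ext (by
      show P ((j : ℕ) + 1) (A v) = _
      rw [hAπ, SetLike.val_smul]
      exact hAx j (π j v))
    rw [h1, map_smul, SetLike.val_smul, hAx]
  have hle : ∑ j, finrank K (E j) * finrank K (E j) ≤ finrank K (cent A) := by
    have h := LinearMap.finrank_le_finrank_of_injective
      (f := Φ.codRestrict (cent A) hΦmem) (fun f g h => hΦinj (congrArg Subtype.val h))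
    rwa [Module.finrank_pi_fintype, Finset.sum_congr rfl (fun j _ => Module.finrank_linearMap K K (E j) (E j))] at h
  have hdim : finrank K V = ∑ j, finrank K (E j) := by
    rw [split.finrank_eq, Module.finrank_pi_fintype]
  calc finrank K V * finrank K V = (∑ j, finrank K (E j)) ^ 2 := by rw [hdim, sq]
    _ ≤ (Finset.univ : Finset (Fin (r - 1))).card * ∑ j, finrank K (E j) ^ 2 :=
        sq_sum_le_card_mul_sum_sq
    _ ≤ (r - 1) * finrank K (cent A) := by
        simp only [sq, Finset.card_univ, Fintype.card_fin]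
        exact Nat.mul_le_mul_left _ hle

/-- `2 ^ t ≡ 1` modulo the prime `2 ^ n + 1` with `t > 0` forces `2 n ≤ t`. -/
lemma two_mul_le_of_dvd {r n t : ℕ} (hr : r.Prime) (hn : r = 2 ^ n + 1) (ht : 0 < t)
    (hd : r ∣ 2 ^ t - 1) : 2 * n ≤ t := by
  by_contra hlt
  push Not at hlt
  have hpos : 0 < 2 ^ t - 1 := by
    have := Nat.pow_le_pow_right (show 2 > 0 by norm_num) ht
    omega
  rcases Nat.lt_or_ge n t with htn | htn
  · -- `2 ^ t - 1 = 2 ^ (t - n) r - (2 ^ (t - n) + 1)`
    have hd2 : r ∣ 2 ^ (t - n) + 1 := by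
      have h1 : 2 ^ (t - n) * r = (2 ^ (t - n) + 1) + (2 ^ t - 1) := by
        rw [hn, Nat.mul_add, ← pow_add, Nat.sub_add_cancel htn.le, mul_one]
        have := Nat.one_le_two_pow (n := t)
        omega
      have h2 : r ∣ (2 ^ (t - n) + 1) + (2 ^ t - 1) := h1 ▸ dvd_mul_left r _
      exact (Nat.dvd_add_left hd).mp h2
    have := Nat.le_of_dvd (Nat.succ_pos _) hd2
    have h3 : 2 ^ (t - n) < 2 ^ n := Nat.pow_lt_pow_right (by norm_num) (by omega)
    omega
  · have := Nat.le_of_dvd hpos hd
    have := Nat.pow_le_pow_right (show 2 > 0 by norm_num) htn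
    omega

variable {G : Type*} [Group G] [Finite G]

set_option maxHeartbeats 1000000 in
/-- The leaf: fixed points of `α` act as scalars and one of them as `-1`. -/
theorem cent_le_of_scalar [FiniteDimensional K V] (ρ : G →* End K V) (α : G ≃* G) (A : End K V)
    {r n : ℕ} (hr : r.Prime) (hn : r = 2 ^ n + 1) (hn1 : 1 ≤ n) (hrK : (r : K) ≠ 0) (h2 : (2 : K) ≠ 0) {ζ : K}
    (hζ : IsPrimitiveRoot ζ r) (hG2 : IsPGroup 2 G)
    (hA : A ^ r = 1) (hsum : ∑ i ∈ Finset.range r, A ^ i = 0) (hAρ : ∀ g, A * ρ g = ρ (α g) * A)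
    (hαr : ∀ g, α^[r] g = g) (hgen : Subgroup.closure (Set.range fun g => g⁻¹ * α g) = ⊤)
    (hfix2 : ∀ g, α g = g → g * g = 1) (hder : ∀ g h : G, α (g * h * g⁻¹ * h⁻¹) = g * h * g⁻¹ * h⁻¹)
    (hsq : ∀ g, α (g * g) = g * g) (hscal : ∀ g, α g = g → ρ g = 1 ∨ ρ g = -1)
    (hne : ∃ g, α g = g ∧ ρ g ≠ 1) {φ : End K V} (hφ : ∀ g, ρ g * φ = φ * ρ g) :
    A * φ = φ * A := by
  classical
  have := Fintype.ofFinite G
  have hinv : ∀ g, ρ g * ρ g⁻¹ = 1 := fun g => by rw [← map_mul, mul_inv_cancel, map_one]
  have hinv' : ∀ g, ρ g⁻¹ * ρ g = 1 := fun g => by rw [← map_mul, inv_mul_cancel, map_one]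
  have hodd : r % 2 = 1 := by
    obtain ⟨m, rfl⟩ := Nat.exists_eq_succ_of_ne_zero (show n ≠ 0 by omega)
    rw [hn, pow_succ]
    omega
  -- scalar elements
  let Sc : Subgroup G :=
    { carrier := {g | ρ g = 1 ∨ ρ g = -1}
      mul_mem' := by
        rintro g h (hg | hg) (hh | hh) <;> simp [map_mul, hg, hh]
      one_mem' := Or.inl (map_one ρ)
      inv_mem' := by
        rintro g (hg | hg)
        · left
          have h := hinv g
          rwa [hg, one_mul] at h
        · right
          have h := hinv g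
          rwa [hg, neg_one_mul, neg_eq_iff_eq_neg] at h }
  have hScmem : ∀ g, g ∈ Sc ↔ ρ g = 1 ∨ ρ g = -1 := fun g => Iff.rfl
  have hcomm : ∀ g h, g * h * g⁻¹ * h⁻¹ ∈ Sc := fun g h => hscal _ (hder g h)
  have hnorm : Sc.Normal := ⟨fun x hx g => by
    have : g * x * g⁻¹ = g * x * g⁻¹ * x⁻¹ * x := by group
    rw [this]
    exact Sc.mul_mem (hcomm g x) hx⟩
  set mk := QuotientGroup.mk' Sc with hmk
  have hmk1 : ∀ g, mk g = 1 ↔ g ∈ Sc := fun g => QuotientGroup.eq_one_iff g
  have hAunit : A * A ^ (r - 1) = 1 := by rw [← pow_succ', Nat.sub_add_cancel hr.pos, hA]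
  have hAcancel : ∀ X : End K V, X * A = 0 → X = 0 := fun X h => by
    rw [← mul_one X, ← hAunit, ← mul_assoc, h, zero_mul]
  have hαSc : ∀ g ∈ Sc, α g ∈ Sc := by
    intro g hg
    have h := hAρ g
    rcases hg with hg | hg
    · left
      rw [hg, mul_one] at h
      exact sub_eq_zero.mp (hAcancel _ (by rw [sub_mul, one_mul, ← h, sub_self]))
    · right
      rw [hg, mul_neg, mul_one] at h
      exact add_eq_zero_iff_eq_neg.mp (hAcancel _ (by rw [add_mul, one_mul, ← h, neg_add_cancel]))
  -- the fixed point free action on the quotient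
  have hfixQ : ∀ g, g⁻¹ * α g ∈ Sc → g ∈ Sc := by
    intro g hg
    set P : ℕ → G := fun m => ((List.range m).map fun k => α^[k] g).prod with hP
    have hPsucc : ∀ m, P (m + 1) = P m * α^[m] g := fun m => by
      rw [hP]; dsimp only; rw [List.range_succ, List.map_append, List.prod_append]; simp
    have hPα : ∀ m, g * α (P m) = P (m + 1) := by
      intro m
      induction m with
      | zero => simp [hP]
      | succ m ih =>
        rw [hPsucc (m + 1)]
        conv_lhs => rw [hPsucc m]
        rw [map_mul, ← mul_assoc, ih, Function.iterate_succ_apply']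
    set f := (P r)⁻¹ * α (P r) with hf
    have hf1 : α (P r) = g⁻¹ * P r * g := by
      rw [mul_assoc, show P r * g = P (r + 1) by rw [hPsucc, hαr], ← hPα r]
      group
    have hffix : α f = f := by
      have : f = (P r)⁻¹ * g⁻¹ * ((P r)⁻¹)⁻¹ * (g⁻¹)⁻¹ := by rw [hf, hf1]; group
      rw [this]
      exact hder _ _
    have hiter : ∀ k, α^[k] (P r) = P r * f ^ k := by
      intro k
      induction k with
      | zero => simp
      | succ k ih =>
        rw [Function.iterate_succ_apply', ih, map_mul, map_pow, hffix, hf, pow_succ', ← mul_assoc,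
          mul_inv_cancel_left]
    have hfr : f ^ r = 1 := by
      have h := hiter r
      rw [hαr] at h
      exact (mul_eq_left.mp h.symm)
    have hfone : f = 1 := by
      rw [← Nat.div_add_mod r 2, hodd, pow_add, pow_mul, sq, hfix2 f hffix, one_pow, one_mul,
        pow_one] at hfr
      exact hfr
    have hPfix : α (P r) = P r := (inv_mul_eq_one.mp (hf.symm.trans hfone)).symm
    have hstep : ∀ k, (α^[k] g)⁻¹ * α^[k + 1] g ∈ Sc := by
      intro k
      induction k with
      | zero => simpa using hg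
      | succ k ih =>
        rw [Function.iterate_succ_apply' _ k, Function.iterate_succ_apply' _ (k + 1), ← map_inv,
          ← map_mul]
        exact hαSc _ ih
    have hmkα : ∀ k, mk (α^[k] g) = mk g := by
      intro k
      induction k with
      | zero => simp
      | succ k ih =>
        rw [← ih]
        exact (inv_mul_eq_one.mp (by rw [← map_inv, ← map_mul, hmk1]; exact hstep k)).symm
    have hmkP : ∀ m, mk (P m) = mk g ^ m := by
      intro m
      induction m with
      | zero => simp [hP]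
      | succ m ih => rw [hPsucc, map_mul, ih, hmkα, pow_succ]
    have h1 : mk g ^ r = 1 := by rw [← hmkP, hmk1]; exact hscal _ hPfix
    have h22 : mk g ^ 2 = 1 := by rw [sq, ← map_mul, hmk1]; exact hscal _ (hsq g)
    rw [← hmk1]
    rw [← Nat.div_add_mod r 2, hodd, pow_add, pow_mul, h22, one_pow, one_mul, pow_one] at h1
    exact h1
  -- the group order is invertible
  have hcardK : ∀ H : Subgroup G, (Nat.card H : K) ≠ 0 := by
    intro H
    obtain ⟨k, hk⟩ := IsPGroup.iff_card.mp (hG2.to_subgroup H)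
    rw [hk, Nat.cast_pow]
    exact pow_ne_zero _ (by simpa using h2)
  have hAiter : ∀ (k : ℕ) g, A ^ k * ρ g = ρ (α^[k] g) * A ^ k := by
    intro k
    induction k with
    | zero => simp
    | succ k ih =>
      intro g
      rw [pow_succ', mul_assoc, ih, ← mul_assoc, hAρ, ← Function.iterate_succ_apply' α k g,
        mul_assoc]
  -- central images are fixed by `α`
  let R : Subgroup G :=
    { carrier := {g | ∀ h, ρ h * ρ g = ρ g * ρ h}
      mul_mem' := by
        intro g g' hg hg' h
        rw [map_mul, ← mul_assoc, hg h, mul_assoc, hg' h, ← mul_assoc]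
      one_mem' := fun h => by rw [map_one, mul_one, one_mul]
      inv_mem' := by
        intro g hg h
        calc ρ h * ρ g⁻¹ = ρ g⁻¹ * (ρ g * ρ h) * ρ g⁻¹ := by
              rw [← mul_assoc (ρ g⁻¹), hinv', one_mul]
          _ = ρ g⁻¹ * ρ h := by rw [← hg h, mul_assoc, mul_assoc, hinv, mul_one] }
  have hRα : ∀ g ∈ R, α g ∈ R := by
    intro g hg h
    obtain ⟨h', rfl⟩ := α.surjective h
    refine sub_eq_zero.mp (hAcancel _ ?_)
    rw [sub_mul, sub_eq_zero]
    calc ρ (α h') * ρ (α g) * A = A * (ρ h' * ρ g) := by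
          rw [mul_assoc, ← hAρ, ← mul_assoc, ← hAρ, mul_assoc]
      _ = A * (ρ g * ρ h') := by rw [hg h']
      _ = ρ (α g) * ρ (α h') * A := by
          rw [← mul_assoc, hAρ, mul_assoc, hAρ, ← mul_assoc]
  have hRiter : ∀ g ∈ R, ∀ k, α^[k] g ∈ R := by
    intro g hg k
    induction k with
    | zero => simpa using hg
    | succ k ih => rw [Function.iterate_succ_apply']; exact hRα _ ih
  have hcenter : ∀ g ∈ R, ρ (g * α g⁻¹) = 1 := by
    intro g hg
    set w := ρ (g * α g⁻¹) with hw
    set N : ℕ → End K V := fun k => ∑ f : R, ρ ((f : G) * α^[k] (f : G)⁻¹) with hN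
    have htot : ∑ k ∈ Finset.range r, N k * A ^ k = 0 := by
      simp only [hN, Finset.sum_mul]
      rw [Finset.sum_comm]
      refine Finset.sum_eq_zero fun f _ => ?_
      have hterm : ∀ k, ρ ((f : G) * α^[k] (f : G)⁻¹) * A ^ k =
          ρ (f : G) * A ^ k * ρ (f : G)⁻¹ := fun k => by
        rw [map_mul, mul_assoc, ← hAiter, mul_assoc]
      simp only [hterm]
      rw [← Finset.sum_mul, ← Finset.mul_sum, hsum, mul_zero, zero_mul]
    have habs : ∀ k, ∀ e ∈ R, ρ (e * α^[k] e⁻¹) * N k = N k := by
      intro k e he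
      rw [hN, Finset.mul_sum]
      refine Fintype.sum_equiv (Equiv.mulLeft (⟨e, he⟩ : R)) _ _ fun f => ?_
      simp only [Equiv.coe_mulLeft, Subgroup.coe_mul, mul_inv_rev, iterate_map_mul, map_mul]
      calc ρ e * ρ (α^[k] e⁻¹) * (ρ (f : G) * ρ (α^[k] (f : G)⁻¹))
          = ρ e * ρ (f : G) * (ρ (α^[k] e⁻¹) * ρ (α^[k] (f : G)⁻¹)) := by
            rw [← mul_assoc, mul_assoc (ρ e), f.2 (α^[k] e⁻¹)]; simp only [mul_assoc]
        _ = ρ e * ρ (f : G) * (ρ (α^[k] (f : G)⁻¹) * ρ (α^[k] e⁻¹)) := by
            rw [hRiter _ (R.inv_mem f.2) k (α^[k] e⁻¹)]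
    have hwN : ∀ k ∈ Finset.range r, k ≠ 0 → w * N k = N k := by
      intro k hk hk0
      have hk' : k < r := Finset.mem_range.mp hk
      obtain ⟨m, -, hm⟩ := Nat.exists_mul_mod_eq_one_of_coprime
        (Nat.coprime_of_lt_prime hk0 hk' hr).symm hr.one_lt
      have htel : ∀ i, ρ (g * α^[k * i] g⁻¹) * N k = N k := by
        intro i
        induction i with
        | zero => simp
        | succ i ih =>
          have : g * α^[k * (i + 1)] g⁻¹ =
              g * α^[k * i] g⁻¹ * (α^[k * i] g * α^[k] (α^[k * i] g)⁻¹) := by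
            rw [iterate_map_inv, iterate_map_inv, iterate_map_inv, ← Function.iterate_add_apply,
              Nat.mul_succ, Nat.add_comm (k * i)]
            group
          rw [this, map_mul, mul_assoc, habs k _ (hRiter g hg _), ih]
      have hper : ∀ j x, α^[j] x = α^[j % r] x := by
        intro j x
        conv_lhs => rw [← Nat.mod_add_div j r, Function.iterate_add_apply]
        congr 1
        rw [Function.iterate_mul, Function.iterate_fixed (hαr x)]
      have := htel m
      rw [hper, hm, Function.iterate_one] at this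
      exact this
    have hN0 : N 0 = (Nat.card R : K) • 1 := by
      simp [hN, hinv, Nat.card_eq_fintype_card, Nat.cast_smul_eq_nsmul]
    have hsplit : N 0 + ∑ k ∈ (Finset.range r).erase 0, N k * A ^ k = 0 := by
      rw [← htot, ← Finset.add_sum_erase _ _ (Finset.mem_range.mpr hr.pos), pow_zero, mul_one]
    have hwsum : w * ∑ k ∈ (Finset.range r).erase 0, N k * A ^ k =
        ∑ k ∈ (Finset.range r).erase 0, N k * A ^ k := by
      rw [Finset.mul_sum]
      refine Finset.sum_congr rfl fun k hk => ?_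
      rw [← mul_assoc, hwN k (Finset.mem_of_mem_erase hk) (Finset.ne_of_mem_erase hk)]
    have h := congrArg (w * ·) hsplit
    simp only [mul_add, hwsum, mul_zero, hN0, mul_smul_comm, mul_one] at h
    have h' := (sub_eq_zero.mpr (h.trans (hN0 ▸ hsplit).symm))
    rw [add_sub_add_right_eq_sub, ← smul_sub, smul_eq_zero] at h'
    exact sub_eq_zero.mp (h'.resolve_left (hcardK R))
  -- anticommuting partners
  have hanti : ∀ g, g ∉ Sc → ∃ f, ρ f * ρ g * ρ f⁻¹ = -ρ g := by
    intro g hg
    by_contra hno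
    have hgR : g ∈ R := by
      intro h
      have hconj : ρ h * ρ g * ρ h⁻¹ = ρ (h * g * h⁻¹ * g⁻¹) * ρ g := by
        simp only [map_mul, mul_assoc]; rw [hinv', mul_one]
      rcases hcomm h g with h1 | h1
      · rw [h1, one_mul] at hconj
        calc ρ h * ρ g = ρ h * ρ g * (ρ h⁻¹ * ρ h) := by rw [hinv', mul_one]
          _ = ρ g * ρ h := by rw [← mul_assoc, hconj]
      · rw [h1, neg_one_mul] at hconj
        exact absurd ⟨h, hconj⟩ hno
    refine hg (hfixQ g (Or.inl ?_))
    have h := hcenter g hgR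
    rw [map_mul] at h
    calc ρ (g⁻¹ * α g) = ρ g⁻¹ * (ρ g * ρ (α g⁻¹)) * ρ (α g) := by rw [h, mul_one, map_mul]
      _ = 1 := by
        rw [← mul_assoc (ρ g⁻¹), hinv', one_mul, ← map_mul, ← map_mul, inv_mul_cancel, map_one,
          map_one]
  -- the averaging operator
  set E : End K V →ₗ[K] End K V :=
    ∑ g : G, (LinearMap.mulLeft K (ρ g)).comp (LinearMap.mulRight K (ρ g⁻¹)) with hE
  have hEX : ∀ X, E X = ∑ g : G, ρ g * X * ρ g⁻¹ := fun X => by
    simp [hE, LinearMap.sum_apply, mul_assoc]
  let C : Submodule K (End K V) := ⨅ g, cent (ρ g)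
  have hCmem : ∀ X, X ∈ C ↔ ∀ g, ρ g * X = X * ρ g := fun X => by
    simp [C, Submodule.mem_iInf, mem_cent]
  have hEC : ∀ X, E X ∈ C := by
    intro X
    rw [hCmem]
    intro h
    rw [hEX, Finset.mul_sum, Finset.sum_mul]
    refine Fintype.sum_equiv (Equiv.mulLeft h) _ _ fun g => ?_
    simp only [Equiv.coe_mulLeft, mul_inv_rev, map_mul, mul_assoc, hinv', mul_one]
  have horth : ∀ g, g ∉ Sc → E (ρ g) = 0 := by
    intro g hg
    obtain ⟨f, hf⟩ := hanti g hg
    have h : E (ρ g) = -E (ρ g) := by
      conv_lhs => rw [hEX, ← Fintype.sum_equiv (Equiv.mulRight f) _ _ (fun x => rfl)]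
      rw [hEX, ← Finset.sum_neg_distrib]
      refine Finset.sum_congr rfl fun x _ => ?_
      simp only [Equiv.coe_mulRight, mul_inv_rev, map_mul]
      rw [mul_assoc (ρ x), mul_assoc (ρ x), ← mul_assoc (ρ f * ρ g), hf]
      simp [mul_assoc]
    have h' : (2 : K) • E (ρ g) = 0 := by rw [two_smul]; exact eq_neg_iff_add_eq_zero.mp h
    exact (smul_eq_zero.mp h').resolve_left h2
  have hG : (Nat.card G : K) ≠ 0 := by
    have := hcardK ⊤
    rwa [Subgroup.card_top] at this
  have hEone : E 1 = (Nat.card G : K) • 1 := by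
    rw [hEX]
    simp only [mul_one, hinv, Finset.sum_const, Finset.card_univ, Nat.card_eq_fintype_card,
      Nat.cast_smul_eq_nsmul]
  have hEmul : ∀ (Y : End K V), ∀ X ∈ C, E (Y * X) = E Y * X := by
    intro Y X hX
    rw [hEX, hEX, Finset.sum_mul]
    refine Finset.sum_congr rfl fun g _ => ?_
    rw [mul_assoc (ρ g), mul_assoc, ← (hCmem X).mp hX g⁻¹, mul_assoc, mul_assoc]
  -- coordinates
  let out : G ⧸ Sc → G := Quotient.out
  have hout : ∀ q, mk (out q) = q := fun q => Quotient.out_eq' q
  let Ψ : End K V →ₗ[K] (G ⧸ Sc → C) :=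
    LinearMap.pi fun q => (E.comp (LinearMap.mulLeft K (ρ (out q)⁻¹))).codRestrict C fun X => hEC _
  have hΨ : ∀ X q, (Ψ X q : End K V) = E (ρ (out q)⁻¹ * X) := fun X q => rfl
  have hcoset : ∀ (X : End K V) h, E (ρ (out (mk h))⁻¹ * X) = 0 → E (ρ h⁻¹ * X) = 0 := by
    intro X h h0
    have hs : h⁻¹ * out (mk h) ∈ Sc := by
      rw [← hmk1, map_mul, map_inv, hout, inv_mul_cancel]
    have he : h⁻¹ = h⁻¹ * out (mk h) * (out (mk h))⁻¹ := by group
    rw [he, map_mul ρ, mul_assoc]
    rcases hs with hs | hs <;> simp [hs, h0]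
  have hcoset_out : ∀ (X : End K V) q h, mk h = q → E (ρ h⁻¹ * X) = 0 →
      E (ρ (out q)⁻¹ * X) = 0 := by
    intro X q h hq h0
    have hs : (out q)⁻¹ * h ∈ Sc := by
      rw [← hmk1, map_mul, map_inv, hout, hq, inv_mul_cancel]
    have he : (out q)⁻¹ = (out q)⁻¹ * h * h⁻¹ := by group
    rw [he, map_mul ρ, mul_assoc]
    rcases hs with hs | hs <;> simp [hs, h0]
  have hΨinj : Function.Injective Ψ := by
    rw [← LinearMap.ker_eq_bot, LinearMap.ker_eq_bot']
    intro X hX
    have h0 : ∀ h, E (ρ h⁻¹ * X) = 0 := fun h => hcoset X h (by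
      rw [← hΨ, hX]; rfl)
    have key : ∑ h : G, ρ h * E (ρ h⁻¹ * X) =
        ((Nat.card G : K) * (Nat.card Sc : K)) • X := by
      calc ∑ h : G, ρ h * E (ρ h⁻¹ * X)
          = ∑ g : G, E (ρ g) * X * ρ g⁻¹ := by
            simp only [hEX, Finset.mul_sum, Finset.sum_mul]
            rw [Finset.sum_comm]
            simp only [mul_assoc]
        _ = ∑ g ∈ Finset.univ.filter (· ∈ Sc), E (ρ g) * X * ρ g⁻¹ := by
            refine (Finset.sum_subset (Finset.filter_subset _ _) fun g _ hg => ?_).symm
            rw [horth g (by simpa using hg), zero_mul, zero_mul]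
        _ = ∑ g ∈ Finset.univ.filter (· ∈ Sc), (Nat.card G : K) • X := by
            refine Finset.sum_congr rfl fun g hg => ?_
            have hgS : g ∈ Sc := by simpa using hg
            have hgi := hinv g
            rcases hgS with h | h
            · have hgi' : ρ g⁻¹ = 1 := by simpa [h] using hgi
              simp [h, hgi', hEone]
            · rw [h, neg_one_mul, neg_eq_iff_eq_neg] at hgi
              simp [h, hgi, hEone]
        _ = _ := by
            rw [Finset.sum_const, ← Nat.cast_smul_eq_nsmul K, smul_smul, mul_comm,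
              Nat.card_eq_fintype_card (α := Sc), Fintype.card_subtype]
    simp only [h0, mul_zero, Finset.sum_const_zero] at key
    exact (smul_eq_zero.mp key.symm).resolve_left (mul_ne_zero hG (hcardK Sc))
  have hΨsurj : Function.Surjective Ψ := by
    intro f
    refine ⟨(Nat.card G : K)⁻¹ • ∑ q, ρ (out q) * (f q : End K V), funext fun w => Subtype.ext ?_⟩
    rw [hΨ, mul_smul_comm, map_smul, Finset.mul_sum, map_sum, Finset.sum_eq_single w]
    · rw [← mul_assoc, hEmul _ _ (f w).2, hinv', hEone, smul_one_mul, smul_smul,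
        inv_mul_cancel₀ hG, one_smul]
    · intro q _ hqw
      rw [← mul_assoc, hEmul _ _ (f q).2, ← map_mul, horth, zero_mul]
      intro hmem
      apply hqw
      rw [← hmk1, map_mul, map_inv, hout, hout, inv_mul_eq_one] at hmem
      exact hmem.symm
    · exact fun h => absurd (Finset.mem_univ w) h
  -- the dimensions
  set M := Nat.card (G ⧸ Sc) with hM
  have hdimN : finrank K V * finrank K V = M * finrank K C := by
    rw [← Module.finrank_linearMap K K V V,
      (LinearEquiv.ofBijective Ψ ⟨hΨinj, hΨsurj⟩).finrank_eq, Module.finrank_pi_fintype,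
      Finset.sum_const, Finset.card_univ, hM, Nat.card_eq_fintype_card, smul_eq_mul]
  have hEA : ∀ X ∈ cent A, ∀ h, A * E (ρ h⁻¹ * X) = E (ρ (α h)⁻¹ * X) * A := by
    intro X hX h
    rw [hEX, hEX, Finset.mul_sum, Finset.sum_mul]
    refine Fintype.sum_equiv α.toEquiv _ _ fun g => ?_
    rw [MulEquiv.toEquiv_eq_coe, MulEquiv.coe_toEquiv, ← map_inv α g, ← map_inv α h]
    calc A * (ρ g * (ρ h⁻¹ * X) * ρ g⁻¹) = A * ρ g * ρ h⁻¹ * X * ρ g⁻¹ := by simp only [mul_assoc]
      _ = ρ (α g) * (A * ρ h⁻¹) * X * ρ g⁻¹ := by rw [hAρ]; simp only [mul_assoc]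
      _ = ρ (α g) * ρ (α h⁻¹) * (A * X) * ρ g⁻¹ := by rw [hAρ]; simp only [mul_assoc]
      _ = ρ (α g) * ρ (α h⁻¹) * X * (A * ρ g⁻¹) := by
          rw [mem_cent.mp hX]; simp only [mul_assoc]
      _ = ρ (α g) * (ρ (α h⁻¹) * X) * ρ (α g⁻¹) * A := by rw [hAρ]; simp only [mul_assoc]
  let σ : G ⧸ Sc → G ⧸ Sc := fun q => mk (α (out q))
  have hσmk : ∀ h, σ (mk h) = mk (α h) := by
    intro h
    show mk (α (out (mk h))) = mk (α h)
    rw [← inv_mul_eq_one, ← map_inv, ← map_mul, hmk1, ← map_inv, ← map_mul]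
    refine hαSc _ ?_
    rw [← hmk1, map_mul, map_inv, hout, inv_mul_cancel]
  have hσiter : ∀ k h, σ^[k] (mk h) = mk (α^[k] h) := by
    intro k
    induction k with
    | zero => simp
    | succ k ih =>
      intro h
      rw [Function.iterate_succ_apply', ih, hσmk, Function.iterate_succ_apply' α]
  obtain ⟨T, hTs, hTcard, hcov⟩ := exists_reps σ hr
    (fun q => by rw [← hout q, hσiter, hαr]) (Finset.univ.erase (1 : G ⧸ Sc)) (fun q hq => by
      have hq1 := Finset.ne_of_mem_erase hq
      have hqs : σ q ≠ q := by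
        intro he
        rw [← hout q, hσmk] at he
        refine hq1 ?_
        rw [← hout q, hmk1]
        refine hfixQ _ ?_
        rw [← hmk1, map_mul, map_inv, he, inv_mul_cancel]
      refine ⟨Finset.mem_erase.mpr ⟨fun he => ?_, Finset.mem_univ _⟩, hqs⟩
      rw [← hout q, hσmk, hmk1] at he
      refine hq1 ?_
      rw [← hout q, hmk1]
      have hpow : ∀ k, α^[k + 1] (out q) ∈ Sc := by
        intro k
        induction k with
        | zero => simpa using he
        | succ k ih => rw [Function.iterate_succ_apply']; exact hαSc _ ih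
      have := hpow (r - 1)
      rwa [Nat.sub_add_cancel hr.pos, hαr] at this)
  set CA : Submodule K (End K V) := C ⊓ cent A with hCA
  let Θ : cent A →ₗ[K] CA × (T → C) :=
    LinearMap.prod
      ((E.comp (cent A).subtype).codRestrict CA fun X => ⟨hEC _, by
        have h := hEA X X.2 1
        rw [map_one α, inv_one, map_one ρ, one_mul] at h
        exact h⟩)
      (LinearMap.pi fun t => ((LinearMap.proj (t : G ⧸ Sc)).comp Ψ).comp (cent A).subtype)
  have hΘinj : Function.Injective Θ := by
    rw [← LinearMap.ker_eq_bot, LinearMap.ker_eq_bot']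
    intro X hX
    have hE0 : E (X : End K V) = 0 := congrArg Subtype.val (congrArg Prod.fst hX)
    refine Subtype.ext (hΨinj ?_)
    rw [Submodule.coe_zero, map_zero]
    funext q
    refine Subtype.ext ?_
    rw [hΨ, Pi.zero_apply, Submodule.coe_zero]
    by_cases hq : q = 1
    · have hs : (out q)⁻¹ ∈ Sc := Sc.inv_mem (by rw [← hmk1, hout, hq])
      rcases hs with hs | hs <;> simp [hs, hE0]
    · obtain ⟨t, ht, i, hi⟩ := hcov q (Finset.mem_erase.mpr ⟨hq, Finset.mem_univ _⟩)
      have hstep : ∀ i, E (ρ (α^[i] (out t))⁻¹ * X) = 0 := by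
        intro i
        induction i with
        | zero => exact congrArg Subtype.val (congrFun (congrArg Prod.snd hX) ⟨t, ht⟩)
        | succ i ih =>
          rw [Function.iterate_succ_apply']
          refine hAcancel _ ?_
          rw [← hEA X X.2, ih, mul_zero]
      refine hcoset_out X q (α^[i] (out t)) ?_ (hstep i)
      rw [← hσiter, hout, hi]
  have hupper : finrank K (cent A) ≤ finrank K CA + T.card * finrank K C := by
    refine (LinearMap.finrank_le_finrank_of_injective hΘinj).trans_eq ?_
    rw [Module.finrank_prod, Module.finrank_pi_fintype, Finset.sum_const, Finset.card_univ,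
      Fintype.card_coe, smul_eq_mul]
  have hlower := sq_le_cent A hr hrK hζ hA hsum
  have hMT : M = r * T.card + 1 := by
    rw [← hTcard, Finset.card_erase_add_one (Finset.mem_univ _), Finset.card_univ, hM,
      Nat.card_eq_fintype_card]
  obtain ⟨t, ht⟩ := IsPGroup.iff_card.mp (hG2.to_quotient Sc)
  have hM1 : M ≠ 1 := by
    intro h1
    obtain ⟨z, hz, hz1⟩ := hne
    have hall : ∀ g, g ∈ Sc := fun g => by
      rw [← hmk1]
      exact @Subsingleton.elim _ (Nat.card_eq_one_iff_unique.mp h1).1 _ _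
    let Kr : Subgroup G :=
      { carrier := {g | ρ g = 1}
        mul_mem' := by
          intro a b (ha : ρ a = 1) (hb : ρ b = 1)
          show ρ (a * b) = 1
          rw [map_mul, ha, hb, mul_one]
        one_mem' := map_one ρ
        inv_mem' := by
          intro a ha
          have := hinv a
          rwa [show ρ a = 1 from ha, one_mul] at this }
    have htop : Subgroup.closure (Set.range fun g => g⁻¹ * α g) ≤ Kr := by
      rw [Subgroup.closure_le]
      rintro _ ⟨g, rfl⟩
      show ρ (g⁻¹ * α g) = 1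
      have h := hAρ g
      have hsc : ρ (α g) = ρ g := by
        refine sub_eq_zero.mp (hAcancel _ ?_)
        rw [sub_mul, sub_eq_zero, ← h]
        rcases hall g with hg | hg <;> simp [hg]
      rw [map_mul, hsc, hinv']
    exact hz1 (htop (hgen ▸ Subgroup.mem_top z))
  have hMsq : (r - 1) * (r - 1) ≤ M := by
    have ht0 : 0 < t := Nat.pos_of_ne_zero fun h => hM1 (by rw [hM, ht, h, pow_zero])
    have h2n := two_mul_le_of_dvd hr hn ht0 (by
      rw [← ht, ← hM, hMT]; simp)
    rw [hn, Nat.add_sub_cancel, ← pow_add, hM, ht]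
    exact Nat.pow_le_pow_right (by norm_num) (by omega)
  have heq : CA = C := by
    refine Submodule.eq_of_le_of_finrank_le inf_le_left ?_
    rw [hdimN] at hlower
    obtain ⟨q, hq⟩ : ∃ q, r = q + 1 := ⟨r - 1, by have := hr.pos; omega⟩
    rw [hq, Nat.add_sub_cancel] at hlower hMsq
    have hq0 : 0 < q := by have := hr.two_le; omega
    have h1 : M * finrank K C ≤ q * (finrank K CA + T.card * finrank K C) :=
      hlower.trans (Nat.mul_le_mul_left _ hupper)
    rw [hq] at hMT
    refine Nat.le_of_mul_le_mul_left ?_ hq0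
    generalize finrank K C = c, finrank K CA = c', T.card = S at h1 ⊢ hMT
    rw [hMT] at h1 hMsq
    nlinarith [Nat.mul_le_mul_right c hMsq]
  have hmem : φ ∈ CA := heq ▸ (hCmem φ).mpr hφ
  exact mem_cent.mp hmem.2

end Cfsg.Agent.FlavellScalar83
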