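import Mathlib
import Cfsg.Agent.Lib.FlavellSetup8
import Cfsg.Agent.Lib.FlavellFacts8
import Cfsg.Agent.Lib.FlavellScalar83
import Cfsg.Agent.Lib.HallHigmanRep
import Cfsg.Agent.Lib.CoprimeAction

/-!
The scalar lemma for S3041: what centralises a moved `2`-group `D` moves nothing on `[V, D]`.

The core is `FlavellScalar83.cent_le_of_scalar`; here are the splitting of `[V, D]` by the central
involutions of `D`, the case of a commutative image and the extension of scalars.
-/

set_option autoImplicit false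
set_option linter.unusedSectionVars false
set_option linter.style.haveILetI false

namespace Cfsg.Agent.Flavell8

open Subgroup
open scoped commutatorElement TensorProduct
open Cfsg.Agent.Flavell20 (fixA cen Facts)
open Cfsg.Agent.Flavell20.A1 (conj_mem_of_normalizer comm_mem_of_normalizer le_centralizer_zpowers
  mem_normalizer_commutator exists_pow_of_mem)

namespace Sc8

section Ring

variable {A : Type*} [Ring A] {G : Type*} [Group G] [Finite G]

/-- A commutative image of a `2`-group is not moved by an element without fixed vectors. -/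
theorem eq_of_comm (ρ : G →* A) (α : MulAut G) (X : A) {r : ℕ} (hr : r.Prime) (hαr : α ^ r = 1)
    (hint : ∀ g, X * ρ g = ρ (α g) * X) (hsum : ∑ i ∈ Finset.range r, X ^ i = 0)
    (hG2 : IsPGroup 2 G) (h2 : IsUnit (2 : A)) (hc : ∀ x y, ρ x * ρ y = ρ y * ρ x) (f : G) :
    ρ (α f) = ρ f := by
  classical
  haveI := Fintype.ofFinite G
  haveI : Fact (Nat.Prime 2) := ⟨Nat.prime_two⟩
  haveI := Fact.mk hr
  set ψ : ℕ → G → G := fun i c => c * ((α ^ i) c)⁻¹ with hψ
  have hint' : ∀ (i : ℕ) g, X ^ i * ρ g = ρ ((α ^ i) g) * X ^ i := by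
    intro i
    induction i with
    | zero => intro g; simp
    | succ i ih =>
      intro g
      rw [pow_succ, mul_assoc, hint, ← mul_assoc, ih, mul_assoc, pow_succ α, MulAut.mul_apply]
  have hmul : ∀ i e e', ρ (ψ i (e * e')) = ρ (ψ i e) * ρ (ψ i e') := by
    intro i e e'
    rw [show ψ i (e * e') = e * ψ i e' * ((α ^ i) e)⁻¹ by simp [hψ, mul_assoc], map_mul, map_mul,
      mul_assoc, hc (ψ i e'), ← mul_assoc, ← map_mul]
  have hy : ∀ i, 0 < i → i < r → ρ (ψ 1 f) * ∑ e : G, ρ (ψ i e) = ∑ e : G, ρ (ψ i e) := by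
    intro i h0 hi
    obtain ⟨j, hj⟩ : ∃ j : ℕ, (α ^ i) ^ j = α := by
      have hne : (i : ZMod r) ≠ 0 := by
        rw [Ne, ZMod.natCast_eq_zero_iff]
        exact fun hd => absurd (Nat.le_of_dvd h0 hd) (by omega)
      refine ⟨((i : ZMod r)⁻¹).val, ?_⟩
      have h1 : ((i * ((i : ZMod r)⁻¹).val : ℕ) : ZMod r) = ((1 : ℕ) : ZMod r) := by
        push_cast [ZMod.natCast_val, ZMod.cast_id]
        exact mul_inv_cancel₀ hne
      rw [← pow_mul, pow_eq_pow_mod (i * ((i : ZMod r)⁻¹).val) hαr,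
        (ZMod.natCast_eq_natCast_iff' _ _ _).1 h1, Nat.one_mod_eq_one.2 hr.ne_one, pow_one]
    have key : ∀ m : ℕ, ∃ f', ρ (ψ i f') = ρ (f * (((α ^ i) ^ m) f)⁻¹) := by
      intro m
      induction m with
      | zero => exact ⟨1, by simp [hψ]⟩
      | succ m ih =>
        obtain ⟨f', e⟩ := ih
        refine ⟨f' * ((α ^ i) ^ m) f, ?_⟩
        rw [hmul, e, ← map_mul]
        congr 1
        simp [hψ, pow_succ', mul_assoc]
    obtain ⟨f', e⟩ := key j
    rw [hj] at e
    have e' : ρ (ψ 1 f) = ρ (ψ i f') := by rw [e]; simp [hψ]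
    rw [e', Finset.mul_sum, ← Equiv.sum_comp (Equiv.mulLeft f') (fun x : G => ρ (ψ i x))]
    exact Finset.sum_congr rfl fun x _ => (hmul i f' x).symm
  have hrel : ∑ i ∈ Finset.range r, (∑ e : G, ρ (ψ i e)) * X ^ i = 0 := by
    simp only [Finset.sum_mul]
    rw [Finset.sum_comm]
    refine Finset.sum_eq_zero fun e _ => ?_
    have h1 : ρ e * (∑ i ∈ Finset.range r, X ^ i) * ρ e⁻¹ = 0 := by
      rw [hsum, mul_zero, zero_mul]
    rw [Finset.mul_sum, Finset.sum_mul] at h1
    rw [← h1]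
    refine Finset.sum_congr rfl fun i _ => ?_
    rw [mul_assoc (ρ e), hint', ← mul_assoc, ← map_mul, map_inv]
  obtain ⟨m, hm⟩ : ∃ m, r = m + 1 := ⟨r - 1, by have := hr.pos; omega⟩
  have hzero : (ρ (ψ 1 f) - 1) * ∑ i ∈ Finset.range r, (∑ e : G, ρ (ψ i e)) * X ^ i = 0 := by
    rw [hrel, mul_zero]
  rw [hm, Finset.sum_range_succ', mul_add, Finset.mul_sum, Finset.sum_eq_zero, zero_add] at hzero
  · have h0 : ∀ e, ρ (ψ 0 e) = 1 := fun e => by simp [hψ]
    simp only [h0, pow_zero, mul_one, Finset.sum_const, nsmul_eq_mul, Finset.card_univ] at hzero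
    obtain ⟨k, hk⟩ := IsPGroup.iff_card.1 hG2
    rw [← Nat.card_eq_fintype_card, hk, Nat.cast_pow, Nat.cast_two] at hzero
    have h3 : ρ (ψ 1 f) = 1 := sub_eq_zero.1 ((h2.pow k).mul_left_eq_zero.1 hzero)
    simp only [hψ, pow_one, map_mul] at h3
    calc ρ (α f) = ρ f * ρ (α f)⁻¹ * ρ (α f) := by rw [h3, one_mul]
      _ = ρ f := by rw [mul_assoc, ← map_mul, inv_mul_cancel, map_one, mul_one]
  · intro i hi
    rw [Finset.mem_range] at hi
    rw [← mul_assoc, sub_mul, one_mul, hy (i + 1) (by omega) (by omega), sub_self, zero_mul]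

end Ring

/-- An action on an abelian group of exponent `p`, as a linear representation. -/
def rep {p : ℕ} {H M : Type*} [Group H] [CommGroup M] [Module (ZMod p) (Additive M)]
    (f : H →* MulAut M) : H →* Module.End (ZMod p) (Additive M) where
  toFun g := AddMonoidHom.toZModLinearMap p (MonoidHom.toAdditive (f g).toMonoidHom)
  map_one' := LinearMap.ext fun v => by simp
  map_mul' g g' := LinearMap.ext fun v => by simp

theorem rep_apply {p : ℕ} {H M : Type*} [Group H] [CommGroup M] [Module (ZMod p) (Additive M)]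
    (f : H →* MulAut M) (g : H) (v : Additive M) :
    rep (p := p) f g v = Additive.ofMul (f g (Additive.toMul v)) := rfl

/-- The module form: extension of scalars to the algebraic closure. -/
theorem comm_of_scalar {p r n : ℕ} [Fact p.Prime] (hp2 : p ≠ 2) (hr : r.Prime) (hrp : r ≠ p)
    (hn : r = 2 ^ n + 1) (hn1 : 1 ≤ n) {W : Type*} [AddCommGroup W] [Module (ZMod p) W] [Finite W]
    {G : Type*} [Group G] [Finite G] (ρ : G →* Module.End (ZMod p) W) (α : MulAut G)
    (A : Module.End (ZMod p) W) (hG2 : IsPGroup 2 G) (hA : A ^ r = 1)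
    (hsum : ∑ i ∈ Finset.range r, A ^ i = 0) (hAρ : ∀ g, A * ρ g = ρ (α g) * A)
    (hαr : α ^ r = 1) (hgen : Subgroup.closure (Set.range fun g => g⁻¹ * α g) = ⊤)
    (hfix2 : ∀ g, α g = g → g * g = 1)
    (hder : ∀ g h : G, α (g * h * g⁻¹ * h⁻¹) = g * h * g⁻¹ * h⁻¹)
    (hsq : ∀ g, α (g * g) = g * g) (hscal : ∀ g, α g = g → ρ g = 1 ∨ ρ g = -1)
    {φ : Module.End (ZMod p) W} (hφ : ∀ g, ρ g * φ = φ * ρ g) :
    (∀ g, ρ g = 1) ∨ A * φ = φ * A := by
  classical
  have hrz : (r : ZMod p) ≠ 0 := by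
    rw [Ne, ZMod.natCast_eq_zero_iff]
    exact fun hd => hrp ((Nat.prime_dvd_prime_iff_eq Fact.out hr).1 hd).symm
  have h2z : (2 : ZMod p) ≠ 0 := by
    rw [show (2 : ZMod p) = ((2 : ℕ) : ZMod p) by norm_num, Ne, ZMod.natCast_eq_zero_iff]
    exact fun hd => hp2 ((Nat.prime_dvd_prime_iff_eq Fact.out Nat.prime_two).1 hd)
  by_cases hne : ∃ g, α g = g ∧ ρ g ≠ 1
  · right
    haveI : Module.Finite (ZMod p) W := Module.Finite.of_finite
    let K := AlgebraicClosure (ZMod p)
    haveI : NeZero (r : K) := ⟨by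
      rw [← map_natCast (algebraMap (ZMod p) K)]
      exact (map_ne_zero _).2 hrz⟩
    obtain ⟨ζ, hζ⟩ := HasEnoughRootsOfUnity.exists_primitiveRoot K r
    let β := Module.End.baseChangeHom (ZMod p) K W
    have hβ : Function.Injective β := by
      rw [injective_iff_map_eq_zero]
      intro f hf
      refine LinearMap.ext fun v => ?_
      have h1 := LinearMap.congr_fun hf ((1 : K) ⊗ₜ[ZMod p] v)
      exact (Module.FaithfullyFlat.one_tmul_eq_zero_iff (ZMod p) W (A := K) (f v)).1 h1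
    refine hβ ?_
    rw [map_mul, map_mul]
    refine FlavellScalar83.cent_le_of_scalar ((β : _ →* _).comp ρ) α (β A) hr hn hn1
      (NeZero.ne _) ?_ hζ hG2 ?_ ?_ ?_ ?_ hgen hfix2 hder hsq ?_ ?_ ?_
    · rw [show (2 : K) = algebraMap (ZMod p) K 2 by rw [map_ofNat]]
      exact (map_ne_zero _).2 h2z
    · rw [← map_pow, hA, map_one]
    · simp_rw [← map_pow]; rw [← map_sum, hsum, map_zero]
    · intro g
      show β A * β (ρ g) = β (ρ (α g)) * β A
      rw [← map_mul, ← map_mul, hAρ]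
    · intro g
      have h1 : ∀ m : ℕ, α^[m] g = (α ^ m) g := by
        intro m
        induction m with
        | zero => rfl
        | succ m ih => rw [Function.iterate_succ_apply', ih, pow_succ', MulAut.mul_apply]
      rw [h1, hαr, MulAut.one_apply]
    · intro g hg
      show β (ρ g) = 1 ∨ β (ρ g) = -1
      exact (hscal g hg).imp (fun e => by rw [e, map_one]) (fun e => by rw [e, map_neg, map_one])
    · obtain ⟨g, hg, hg1⟩ := hne
      exact ⟨g, hg, fun e => hg1 (hβ (by rw [map_one]; exact e))⟩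
    · intro g
      show β (ρ g) * β φ = β φ * β (ρ g)
      rw [← map_mul, ← map_mul, hφ]
  · left
    push Not at hne
    have h2u : IsUnit (2 : Module.End (ZMod p) W) := by
      rw [← map_ofNat (algebraMap (ZMod p) (Module.End (ZMod p) W)) 2]
      exact h2z.isUnit.map _
    have hc : ∀ x y, ρ x * ρ y = ρ y * ρ x := by
      intro x y
      have h1 := hne _ (hder x y)
      calc ρ x * ρ y = ρ (x * y) := (map_mul ρ x y).symm
        _ = ρ (x * y * x⁻¹ * y⁻¹ * (y * x)) := by group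
        _ = ρ y * ρ x := by rw [map_mul, h1, one_mul, map_mul]
    intro g
    have hker : Subgroup.closure (Set.range fun g => g⁻¹ * α g) ≤ ρ.ker := by
      rw [Subgroup.closure_le]
      rintro _ ⟨d, rfl⟩
      rw [SetLike.mem_coe, MonoidHom.mem_ker, map_mul, eq_of_comm ρ α A hr hαr hAρ hsum hG2 h2u hc d,
        ← map_mul, inv_mul_cancel, map_one]
    exact hker (hgen ▸ Subgroup.mem_top g)

universe u

variable {Γ : Type u} [Group Γ] [Finite Γ] {p r : ℕ} {V X : Subgroup Γ} {a : Γ}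

/-- The case that the central involutions of `D` are `±1` on `M`. -/
theorem leaf (h : Core p r V X a) {D P M : Subgroup Γ} (hDX : D ≤ X)
    (haD : a ∈ normalizer (D : Set Γ)) (hD2 : IsPGroup 2 D) (hDA : ⁅D, zpowers a⁆ = D)
    (hPD : P ≤ centralizer (D : Set Γ)) (hML : M ≤ ⁅V, D⁆) (hMV : M ≤ V)
    (hDM : D ≤ normalizer (M : Set Γ)) (haM : a ∈ normalizer (M : Set Γ))
    (hPM : P ≤ normalizer (M : Set Γ))
    (hscal : ∀ z ∈ cen D, (∀ v ∈ M, z * v * z⁻¹ = v) ∨ (∀ v ∈ M, z * v * z⁻¹ = v⁻¹)) :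
    ⁅P, zpowers a⁆ ≤ centralizer (M : Set Γ) := by
  classical
  haveI := Fact.mk h.hp
  obtain ⟨hfix, hder, hsq, hexp⟩ := (facts h).special D hDX haD hD2 hDA
  by_cases hDc : D ≤ centralizer ({a} : Set Γ)
  · have hD : D = ⊥ := by
      rw [← hDA]
      exact commutator_eq_bot_iff_le_centralizer.2 (le_centralizer_zpowers.2 hDc)
    have hM : M = ⊥ := eq_bot_iff.2 (hML.trans (by rw [hD, commutator_bot_right]))
    rw [hM]
    exact fun g _ => mem_centralizer_iff.2 fun v hv => by
      rw [mem_bot.1 hv, one_mul, mul_one]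
  obtain ⟨n, hn1, hn⟩ := (facts h).fermat D hDX haD hD2 hDc
  letI : CommGroup M :=
    { (inferInstance : Group M) with
      mul_comm := fun x y => Subtype.ext (h.Vcomm x (hMV x.2) y (hMV y.2)) }
  have hexpM : ∀ x : Additive M, p • x = 0 := fun x => by
    show Additive.ofMul ((Additive.toMul x) ^ p) = 0
    rw [ofMul_eq_zero]
    exact Subtype.ext (h.Vexp _ (hMV (Additive.toMul x).2))
  obtain ⟨mod⟩ : Nonempty (Module (ZMod p) (Additive M)) := ⟨AddCommGroup.zmodModule hexpM⟩
  let R : ↥(normalizer (M : Set Γ)) →* Module.End (ZMod p) (Additive M) :=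
    rep (p := p) (Subgroup.normalizerMonoidHom M)
  have hR : ∀ (g : ↥(normalizer (M : Set Γ))) (v : Additive M),
      ((Additive.toMul (R g v) : M) : Γ) = g * (Additive.toMul v : M) * (g : Γ)⁻¹ :=
    fun g v => rfl
  have hR1 : ∀ g : ↥(normalizer (M : Set Γ)), R g = 1 → (g : Γ) ∈ centralizer (M : Set Γ) := by
    intro g hg
    refine mem_centralizer_iff.2 fun v hv => ?_
    have h1 := hR g (Additive.ofMul ⟨v, hv⟩)
    rw [hg] at h1
    simp only [Module.End.one_apply, toMul_ofMul] at h1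
    exact (mul_inv_eq_iff_eq_mul.1 h1.symm).symm
  let ρ : ↥D →* Module.End (ZMod p) (Additive M) := R.comp (Subgroup.inclusion hDM)
  let α : MulAut D := Subgroup.normalizerMonoidHom D ⟨a, haD⟩
  have hα : ∀ d : D, ((α d : D) : Γ) = a * d * a⁻¹ := fun d => rfl
  have hfixD : ∀ d : D, α d = d ↔ (d : Γ) ∈ cen D := by
    intro d
    rw [Subtype.ext_iff, hα, ← hfix, mul_inv_eq_iff_eq_mul, mem_inf, mem_centralizer_singleton_iff]
    exact ⟨fun e => ⟨d.2, e.symm⟩, fun e => e.2.symm⟩
  have har : a ^ r = 1 := by rw [← h.orda, pow_orderOf_eq_one]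
  have hαr : α ^ r = 1 := by
    rw [← map_pow, show (⟨a, haD⟩ : ↥(normalizer (D : Set Γ))) ^ r = 1 from Subtype.ext har, map_one]
  have haMr : (⟨a, haM⟩ : ↥(normalizer (M : Set Γ))) ^ r = 1 := Subtype.ext har
  have hsum : ∑ i ∈ Finset.range r, R ⟨a, haM⟩ ^ i = 0 := by
    refine LinearMap.ext fun v => ?_
    simp only [← map_pow, LinearMap.sum_apply, LinearMap.zero_apply]
    apply Additive.toMul.injective
    rw [toMul_sum, toMul_zero]
    refine HallHigman.norm_trivial_of_fpf (Subgroup.normalizerMonoidHom M) haMr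
      (fun w hw => ?_) (Additive.toMul v)
    have h1 : (w : Γ) ∈ V ⊓ centralizer ({a} : Set Γ) := by
      refine ⟨hMV w.2, mem_centralizer_singleton_iff.2 ?_⟩
      have h2 : a * (w : Γ) * a⁻¹ = w := congrArg Subtype.val hw
      exact (mul_inv_eq_iff_eq_mul.1 h2).symm
    rw [h.fixV] at h1
    exact Subtype.ext h1
  have hgen : Subgroup.closure (Set.range fun d : D => d⁻¹ * α d) = ⊤ := by
    set H := Subgroup.closure (Set.range fun d : D => d⁻¹ * α d) with hH
    have hk : ∀ (k : ℕ) (d : D), d⁻¹ * (α ^ k) d ∈ H := by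
      intro k
      induction k with
      | zero => intro d; simp
      | succ k ih =>
        intro d
        rw [show d⁻¹ * (α ^ (k + 1)) d = d⁻¹ * (α ^ k) d * (((α ^ k) d)⁻¹ * α ((α ^ k) d)) by
          rw [pow_succ', MulAut.mul_apply]; group]
        exact mul_mem (ih d) (Subgroup.subset_closure ⟨_, rfl⟩)
    have hle : ⁅D, zpowers a⁆ ≤ H.map D.subtype := by
      rw [commutator_le]
      intro x hx g hg
      obtain ⟨k, rfl⟩ := exists_pow_of_mem hg
      refine ⟨((⟨x, hx⟩ : D)⁻¹)⁻¹ * (α ^ k) (⟨x, hx⟩ : D)⁻¹, hk k _, ?_⟩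
      show ((((⟨x, hx⟩ : D)⁻¹)⁻¹ * (α ^ k) (⟨x, hx⟩ : D)⁻¹ : D) : Γ) = ⁅x, a ^ k⁆
      rw [inv_inv, ← map_pow, Subgroup.coe_mul, commutatorElement_def]
      show x * (a ^ k * x⁻¹ * (a ^ k)⁻¹) = _
      group
    rw [eq_top_iff]
    intro d _
    obtain ⟨d', hd', e⟩ := hle (hDA.symm ▸ d.2 : (d : Γ) ∈ ⁅D, zpowers a⁆)
    rwa [← Subtype.ext e]
  have key : ∀ q (hq : q ∈ P), (∀ g, ρ g = 1) ∨
      R ⟨a, haM⟩ * R ⟨q, hPM hq⟩ = R ⟨q, hPM hq⟩ * R ⟨a, haM⟩ := by
    intro q hq
    refine comm_of_scalar h.hp2 h.hr h.hrp hn hn1 ρ α (R ⟨a, haM⟩) hD2 (by rw [← map_pow, haMr, map_one])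
      hsum ?_ hαr hgen ?_ ?_ ?_ ?_ ?_
    · intro d
      show R _ * R _ = R _ * R _
      rw [← map_mul, ← map_mul]
      congr 1
      apply Subtype.ext
      show a * (d : Γ) = a * d * a⁻¹ * a
      group
    · intro d hd
      exact Subtype.ext (hexp d ((hfixD d).1 hd))
    · intro d e
      rw [hfixD]
      exact hder (by simpa [commutatorElement_def] using commutator_mem_commutator d.2 e.2)
    · intro d
      rw [hfixD]
      exact hsq d d.2
    · intro d hd
      rcases hscal d ((hfixD d).1 hd) with hz | hz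
      · left
        refine LinearMap.ext fun v => Additive.toMul.injective (Subtype.ext ?_)
        show ((Additive.toMul (R ⟨(d : Γ), hDM d.2⟩ v) : M) : Γ) = _
        rw [hR]; exact hz _ (Additive.toMul v).2
      · right
        refine LinearMap.ext fun v => Additive.toMul.injective (Subtype.ext ?_)
        show ((Additive.toMul (R ⟨(d : Γ), hDM d.2⟩ v) : M) : Γ) = _
        rw [hR]; exact hz _ (Additive.toMul v).2
    · intro d
      show R _ * R _ = R _ * R _
      rw [← map_mul, ← map_mul]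
      congr 1
      exact Subtype.ext (mem_centralizer_iff.1 (hPD hq) d d.2)
  rw [commutator_le]
  intro q hq g hg
  obtain ⟨k, rfl⟩ := exists_pow_of_mem hg
  rcases key q hq with htriv | hcomm
  · -- `D` centralises `M`, hence `M = ⊥`
    have hM : M = ⊥ := by
      rw [eq_bot_iff]
      haveI : IsMulCommutative V := ⟨⟨fun x y => Subtype.ext (h.Vcomm x x.2 y y.2)⟩⟩
      obtain ⟨e, he⟩ := IsPGroup.iff_card.1 hD2
      obtain ⟨e', he'⟩ := IsPGroup.iff_card.1 (show IsPGroup p V from fun x => ⟨1, by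
        rw [pow_one]; exact Subtype.ext (h.Vexp x x.2)⟩)
      have hcop : (Nat.card D).Coprime (Nat.card V) := by
        rw [he, he']
        exact ((Nat.coprime_primes Nat.prime_two h.hp).2 (Ne.symm h.hp2)).pow _ _
      have h0 := CoprimeAction.inf_centralizer_inf_commutator_eq_bot (hDX.trans h.XV) hcop
      rw [← h0]
      refine fun v hv => ⟨⟨hMV hv, mem_centralizer_iff.2 fun d hd => ?_⟩, hML hv⟩
      exact (mem_centralizer_iff.1 (hR1 ⟨d, hDM hd⟩ (htriv ⟨d, hd⟩)) v hv).symm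
    exact mem_centralizer_iff.2 fun v hv => by
      rw [hM, SetLike.mem_coe, mem_bot] at hv
      rw [hv, one_mul, mul_one]
  · have hak : Commute (R (⟨a, haM⟩ ^ k)) (R ⟨q, hPM hq⟩) := by
      rw [map_pow]; exact Commute.pow_left hcomm k
    let q' : ↥(normalizer (M : Set Γ)) := ⟨q, hPM hq⟩
    let g' : ↥(normalizer (M : Set Γ)) := ⟨a, haM⟩ ^ k
    have hone : R (q' * g' * q'⁻¹ * g'⁻¹) = 1 := by
      rw [map_mul, map_mul, map_mul, hak.symm.eq, mul_assoc (R g'), ← map_mul R q',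
        mul_inv_cancel, map_one, mul_one, ← map_mul, mul_inv_cancel, map_one]
    have := hR1 _ hone
    simpa [commutatorElement_def, q', g'] using this

/-- The scalar lemma on an invariant subgroup of `[V, D]`. -/
theorem main (h : Core p r V X a) {D P : Subgroup Γ} (hDX : D ≤ X)
    (haD : a ∈ normalizer (D : Set Γ)) (hD2 : IsPGroup 2 D) (hDA : ⁅D, zpowers a⁆ = D)
    (hPD : P ≤ centralizer (D : Set Γ)) (hLV : ⁅V, D⁆ ≤ V) :
    ∀ N : ℕ, ∀ M : Subgroup Γ, Nat.card M ≤ N → M ≤ ⁅V, D⁆ → D ≤ normalizer (M : Set Γ) →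
      a ∈ normalizer (M : Set Γ) → P ≤ normalizer (M : Set Γ) →
      ⁅P, zpowers a⁆ ≤ centralizer (M : Set Γ) := by
  intro N
  induction N with
  | zero => exact fun M hM => absurd (Nat.card_pos (α := M)) (by omega)
  | succ N ih =>
    intro M hM hML hDM haM hPM
    have hMV : M ≤ V := hML.trans hLV
    by_cases hscal : ∀ z ∈ cen D, (∀ v ∈ M, z * v * z⁻¹ = v) ∨ (∀ v ∈ M, z * v * z⁻¹ = v⁻¹)
    · exact leaf h hDX haD hD2 hDA hPD hML hMV hDM haM hPM hscal
    push Not at hscal
    obtain ⟨z, hz, ⟨v1, hv1, hv1'⟩, v2, hv2, hv2'⟩ := hscal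
    obtain ⟨hfix, -, -, hexp⟩ := (facts h).special D hDX haD hD2 hDA
    have hza : a * z = z * a := by
      have h1 : z ∈ D ⊓ centralizer ({a} : Set Γ) := hfix.symm ▸ hz
      exact (mem_centralizer_singleton_iff.1 h1.2).symm
    have hzz : z * z = 1 := hexp z hz
    have hzM : z ∈ normalizer (M : Set Γ) := hDM hz.1
    let Mp : Subgroup Γ := M ⊓ centralizer ({z} : Set Γ)
    let Mm : Subgroup Γ :=
      { carrier := {v | v ∈ M ∧ z * v * z⁻¹ = v⁻¹}
        one_mem' := ⟨one_mem M, by simp⟩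
        mul_mem' := fun {u v} hu hv => ⟨mul_mem hu.1 hv.1, by
          rw [mul_inv_rev, ← h.Vcomm _ (inv_mem (hMV hu.1)) _ (inv_mem (hMV hv.1)), ← hu.2, ← hv.2]
          group⟩
        inv_mem' := fun {u} hu => ⟨inv_mem hu.1, by
          show z * u⁻¹ * z⁻¹ = (u⁻¹)⁻¹
          rw [show z * u⁻¹ * z⁻¹ = (z * u * z⁻¹)⁻¹ by group, hu.2]⟩ }
    have hnorm : ∀ g : Γ, g ∈ normalizer (M : Set Γ) → g * z = z * g →
        g ∈ normalizer (Mp : Set Γ) ∧ g ∈ normalizer (Mm : Set Γ) := by
      intro g hg hgz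
      have key : ∀ g : Γ, g ∈ normalizer (M : Set Γ) → g * z = z * g →
          (∀ v ∈ Mp, g * v * g⁻¹ ∈ Mp) ∧ ∀ v ∈ Mm, g * v * g⁻¹ ∈ Mm := by
        intro g hg hgz
        refine ⟨fun v hv => ⟨conj_mem_of_normalizer hg hv.1, ?_⟩,
          fun v hv => ⟨conj_mem_of_normalizer hg hv.1, ?_⟩⟩
        · have hzv := mem_centralizer_singleton_iff.1 hv.2
          refine mem_centralizer_singleton_iff.2 ?_
          have h1 : Commute z (g * v * g⁻¹) :=
            ((Commute.mul_right hgz.symm hzv.symm).mul_right (Commute.inv_right hgz.symm))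
          exact h1.eq.symm
        · calc z * (g * v * g⁻¹) * z⁻¹ = (z * g) * v * (z * g)⁻¹ := by group
            _ = g * (z * v * z⁻¹) * g⁻¹ := by rw [← hgz]; group
            _ = _ := by rw [hv.2]; group
      have k1 := key g hg hgz
      have k2 := key g⁻¹ (inv_mem hg) (Commute.inv_left hgz).eq
      constructor <;> rw [mem_normalizer_iff] <;> intro v
      · exact ⟨k1.1 v, fun hv => by simpa [mul_assoc] using k2.1 _ hv⟩
      · exact ⟨k1.2 v, fun hv => by simpa [mul_assoc] using k2.2 _ hv⟩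
    have hzD : ∀ d ∈ D, d * z = z * d := fun d hd => mem_centralizer_iff.1 hz.2 d hd
    have hzP : ∀ q ∈ P, q * z = z * q := fun q hq =>
      (mem_centralizer_iff.1 (hPD hq) z hz.1).symm
    have hpne : Mp < M := lt_of_le_of_ne inf_le_left fun e => hv1' (by
      have h1 : v1 ∈ Mp := e.symm ▸ hv1
      rw [← mem_centralizer_singleton_iff.1 h1.2, mul_inv_cancel_right])
    have hmne : Mm < M := lt_of_le_of_ne (fun v hv => hv.1) fun e => hv2' (by
      have h1 : v2 ∈ Mm := e.symm ▸ hv2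
      exact h1.2)
    have hsmall : ∀ U : Subgroup Γ, U < M → Nat.card U ≤ N := fun U hU => by
      have h1 : Nat.card U < Nat.card M := by
        refine lt_of_le_of_ne (Subgroup.card_le_of_le hU.le) fun e => hU.ne ?_
        exact Subgroup.eq_of_le_of_card_ge hU.le e.ge
      omega
    have hp := ih Mp (hsmall _ hpne) (hpne.le.trans hML) (fun d hd => (hnorm d (hDM hd) (hzD d hd)).1)
      (hnorm a haM hza).1 (fun q hq => (hnorm q (hPM hq) (hzP q hq)).1)
    have hm := ih Mm (hsmall _ hmne) (hmne.le.trans hML) (fun d hd => (hnorm d (hDM hd) (hzD d hd)).2)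
      (hnorm a haM hza).2 (fun q hq => (hnorm q (hPM hq) (hzP q hq)).2)
    intro g hg
    refine mem_centralizer_iff.2 fun v hv => ?_
    set w := z * v * z⁻¹ with hw
    have hwM : w ∈ M := conj_mem_of_normalizer hzM hv
    have hzw : z * w * z⁻¹ = v := by
      rw [hw, inv_eq_of_mul_eq_one_right hzz]
      calc z * (z * v * z) * z = (z * z) * v * (z * z) := by group
        _ = v := by rw [hzz, one_mul, mul_one]
    have hvw : v * w = w * v := h.Vcomm v (hMV hv) w (hMV hwM)
    have h1 : v * w ∈ Mp := by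
      refine ⟨mul_mem hv hwM, mem_centralizer_singleton_iff.2 (mul_inv_eq_iff_eq_mul.1 ?_).symm⟩
      calc z * (v * w) * z⁻¹ = w * (z * w * z⁻¹) := by rw [hw]; group
        _ = v * w := by rw [hzw, hvw]
    have h2 : v * w⁻¹ ∈ Mm := by
      refine ⟨mul_mem hv (inv_mem hwM), ?_⟩
      calc z * (v * w⁻¹) * z⁻¹ = w * (z * w * z⁻¹)⁻¹ := by rw [hw]; group
        _ = (v * w⁻¹)⁻¹ := by rw [hzw, mul_inv_rev, inv_inv]
    have c1 : Commute g (v * w) := (mem_centralizer_iff.1 (hp hg) _ h1).symm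
    have c2 : Commute g (v * w⁻¹) := (mem_centralizer_iff.1 (hm hg) _ h2).symm
    have hsq : v * w * (v * w⁻¹) = v ^ 2 := by
      rw [pow_two, hvw, mul_assoc w, ← mul_assoc v v, ← mul_assoc w,
        show w * (v * v) = v * v * w from h.Vcomm w (hMV hwM) _ (mul_mem (hMV hv) (hMV hv)),
        mul_inv_cancel_right]
    have c3 : Commute g (v ^ 2) := hsq ▸ c1.mul_right c2
    obtain ⟨m, hm'⟩ := (h.hp.eq_two_or_odd'.resolve_left h.hp2).add_one
    have hvp : (v ^ 2) ^ m = v := by
      rw [← pow_mul, two_mul, ← hm', pow_succ, h.Vexp v (hMV hv), one_mul]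
    have c4 := c3.pow_right m
    rw [hvp] at c4
    exact c4.eq.symm

end Sc8

/-- What centralises a moved `2`-group moves nothing on its commutator with `V`. -/
theorem scalar {Γ : Type*} [Group Γ] [Finite Γ] {p r : ℕ} {V X : Subgroup Γ} {a : Γ}
    (h : Core p r V X a) : Scalar p V X a := by
  intro D P hDX hPX haD _ hD2 hDA _ hPD
  have hDV : D ≤ normalizer (V : Set Γ) := hDX.trans h.XV
  have hLV : ⁅V, D⁆ ≤ V := commutator_le.2 fun v hv d hd =>
    comm_mem_of_normalizer (hDV hd) hv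
  have hn : ∀ g : Γ, g ∈ normalizer (V : Set Γ) → g ∈ normalizer (D : Set Γ) →
      g ∈ normalizer ((⁅V, D⁆ : Subgroup Γ) : Set Γ) := fun g h1 h2 =>
    mem_normalizer_commutator h1 h2
  exact Sc8.main h hDX haD hD2 hDA hPD hLV _ _ le_rfl le_rfl
    (fun d hd => hn d (hDV hd) (le_normalizer hd)) (hn a h.aV haD)
    (fun q hq => hn q (h.XV (hPX hq)) (centralizer_le_normalizer _ (hPD hq)))

end Cfsg.Agent.Flavell8
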