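import Cfsg.Agent.Lib.FlavellBase8
import Cfsg.Agent.Lib.FlavellQuad8
import Cfsg.Agent.Lib.FlavellClimb8
import Cfsg.Agent.Lib.FlavellGen8Center
import Cfsg.Agent.Lib.FlavellGen8Core
import Cfsg.Agent.Lib.FlavellGen8Closed
import Cfsg.Agent.Lib.FlavellFrame8
import Cfsg.Agent.Lib.FlavellKillB8
import Cfsg.Agent.Lib.FlavellScalar8
import Cfsg.Agent.Lib.FlavellInduct8

/-!
Assembly: a minimal counterexample does not exist, given that `T` contains no central involution
of `X`; hence every instance of the hypothesis is `Nice`.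
-/

set_option autoImplicit false

namespace Cfsg.Agent.Flavell8

open Subgroup
open Cfsg.Agent.Flavell20 (cen)

universe u

variable {Γ : Type u} [Group Γ] [Finite Γ] {p r : ℕ} {V X : Subgroup Γ} {a : Γ}

/-- No minimal counterexample, given the scalar lemma, the kill of a moved centraliser, the frame,
strong closure and the exclusion of a central involution in `T`. -/
theorem false_of_ctx (h : Ctx p r V X a) (hscalar : Scalar p V X a)
    (hmoved : ∀ (n : ℕ) (W T : Subgroup Γ), KillMoved p r n V X W T a)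
    (hframe : ∀ (n : ℕ) (W T : Subgroup Γ), Two r n X W T a → OverT X T a →
      ∃ S, Gen.Frame p r n V X S W T a)
    (hclosed : ∀ (n : ℕ) (S W T : Subgroup Γ), Gen.Frame p r n V X S W T a →
      ¬ cen T ≤ centralizer (X : Set Γ) → Gen.Closed p r n V X S W T a)
    (hO : ∀ (n : ℕ) (S W T : Subgroup Γ), Gen.Closed p r n V X S W T a →
      ∀ v ∈ cen T, v ≠ 1 → v ∉ centralizer (X : Set Γ)) : False := by
  obtain ⟨n, W, T, t⟩ := exists_two h h.Xne
  have hquad : ∀ (Γ' : Type u) [Group Γ'] [Finite Γ'], Quad p r Γ' :=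
    fun Γ' _ _ => quad h.hp h.hp2 h.hr h.hrp
  have ho : OverT X T a := overT_of_kills h t fun H Q hM =>
    (em (⁅T ⊓ centralizer (Q : Set Γ), zpowers a⁆ = ⊥)).elim
      (killFixed hquad h t (hquad Γ) H Q hM)
      (fun hne => hmoved n W T h t hscalar H Q hM hne)
  obtain ⟨S, hF⟩ := hframe n W T t ho
  have hC := hclosed n S W T hF (Gen.cen_not_central hF)
  exact Gen.false_of_closed_clean hC (hO n S W T hC) (Gen.comp_exists hF)
    (fun lam R hc => Gen.comp_count hF hc)

/-- The main theorem, given that the centre of `T` meets the centre of `X` trivially. -/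
theorem nice_of_noCen
    (hO : ∀ (Γ : Type u) [Group Γ] [Finite Γ] (n : ℕ) (V X S W T : Subgroup Γ) (a : Γ),
      Gen.Closed p r n V X S W T a → ¬ cen T ≤ centralizer (X : Set Γ) →
      ∀ v ∈ cen T, v ≠ 1 → v ∉ centralizer (X : Set Γ))
    (h : Core p r V X a) : Nice p X a :=
  nice_of_ctx (fun Γ' _ _ V' X' a' h' =>
    false_of_ctx h' (scalar h'.toCore) (fun _ _ _ => killMoved)
      (fun _ _ _ t ho => frame h' t ho) (fun _ _ _ _ hF _ => Gen.closed hF)
      (fun n S W T hC => hO Γ' n V' X' S W T a' hC (Gen.cen_not_central hC.toFrame))) h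

end Cfsg.Agent.Flavell8
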