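import Cfsg.Agent.Lib.FlavellSetup20

/-!
Piece C of the classification-free coprime action theorem: in the situation `SE G M N J e` the
action of `G` on the cosets of `M` has degree `1 + |N|`.

Each conjugate of an element of `J` fixes one point.  For a point `η ≠ ω` there are exactly `e`
conjugates exchanging `ω` and `η`; the two-point stabiliser is abelian of odd order, is inverted by
each of them and meets `N` trivially, and its non-trivial elements fix no third point.  Hence the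
`N`-orbit of `η` is regular and the two-point stabilisers fill at most `M \ N`.
-/

set_option autoImplicit false

namespace Cfsg.Agent.Flavell20

open Subgroup

open scoped commutatorElement

universe u

variable {Γ : Type u} [Group Γ] {G M N : Subgroup Γ} {J : Set Γ} {e : ℕ}

namespace SEAux

lemma cancel_sq {a : Γ} (ha : a * a = 1) (x : Γ) : a * (a * x) = x := by
  rw [← mul_assoc, ha, one_mul]

/-- The conjugates of elements of `J` outside `M`. -/
def IsSw (G M : Subgroup Γ) (J : Set Γ) (u : Γ) : Prop :=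
  u ∉ M ∧ ∃ g ∈ G, ∃ x ∈ J, u = g * x * g⁻¹

lemma J_mem (h : SE G M N J e) {x : Γ} (hx : x ∈ J) : x ∈ M ∧ orderOf x = 2 := by
  rw [h.hJ] at hx
  exact hx

lemma sw_mem (h : SE G M N J e) {u : Γ} (hu : IsSw G M J u) :
    u ∈ G ∧ orderOf u = 2 ∧ u * u = 1 ∧ u⁻¹ = u := by
  obtain ⟨-, g, hg, x, hx, rfl⟩ := hu
  obtain ⟨hxM, hx2⟩ := J_mem h hx
  have h2 : orderOf (g * x * g⁻¹) = 2 := by
    have := MulEquiv.orderOf_eq (MulAut.conj g) x
    rw [MulAut.conj_apply] at this
    rw [this, hx2]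
  have hsq : (g * x * g⁻¹) * (g * x * g⁻¹) = 1 := by
    have := pow_orderOf_eq_one (g * x * g⁻¹)
    rwa [h2, pow_two] at this
  exact ⟨G.mul_mem (G.mul_mem hg (h.MG hxM)) (G.inv_mem hg), h2, hsq,
    inv_eq_of_mul_eq_one_left hsq⟩

/-- The two-point stabiliser has no involutions. -/
lemma sq_one (h : SE G M N J e) {u d : Γ} (hu : IsSw G M J u) (hd : d ∈ M) (hd' : u * d * u ∈ M)
    (hsq : d * d = 1) : d = 1 := by
  by_contra hne
  have h2 : orderOf d = 2 := orderOf_eq_prime (by rwa [pow_two]) hne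
  have hJ : d ∈ J := by
    rw [h.hJ]
    exact ⟨hd, h2⟩
  obtain ⟨huG, -, -, hui⟩ := sw_mem h hu
  exact hu.1 (h.Jfix u huG d hJ (by rwa [hui]))

lemma conj_mem_N (h : SE G M N J e) {m k : Γ} (hm : m ∈ M) (hk : k ∈ N) : m * k * m⁻¹ ∈ N :=
  (Subgroup.mem_normalizer_iff.mp (h.Nnorm hm) k).mp hk

/-- The two-point stabiliser is abelian. -/
lemma comm (h : SE G M N J e) {u a b : Γ} (hu : IsSw G M J u) (ha : a ∈ M) (ha' : u * a * u ∈ M)
    (hb : b ∈ M) (hb' : u * b * u ∈ M) : a * b = b * a := by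
  obtain ⟨huG, -, huu, hui⟩ := sw_mem h hu
  have h1 : ⁅a, b⁆ ∈ N := h.quotComm a ha b hb
  have h2 : u⁻¹ * ⁅a, b⁆ * u ∈ N := by
    have h3 : u⁻¹ * ⁅a, b⁆ * u = ⁅u * a * u, u * b * u⁆ := by
      simp only [commutatorElement_def, mul_inv_rev, hui]
      simp [mul_assoc, cancel_sq huu]
    rw [h3]
    exact h.quotComm _ ha' _ hb'
  have h4 := h.inter u huG hu.1 _ h1 h2
  rwa [commutatorElement_eq_one_iff_mul_comm] at h4

/-- An element commuting with a conjugate of `x ∈ J` lies in the corresponding conjugate of `N`. -/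
lemma cent_mem (h : SE G M N J e) {g x c : Γ} (hg : g ∈ G) (hx : x ∈ J) (hc : c ∈ G)
    (hcomm : c * (g * x * g⁻¹) = g * x * g⁻¹ * c) : g⁻¹ * c * g ∈ N := by
  have hy : g⁻¹ * c * g ∈ G := G.mul_mem (G.mul_mem (G.inv_mem hg) hc) hg
  have e1 : g⁻¹ * c * g * x = x * (g⁻¹ * c * g) := by
    calc g⁻¹ * c * g * x = g⁻¹ * (c * (g * x * g⁻¹)) * g := by simp [mul_assoc]
      _ = g⁻¹ * (g * x * g⁻¹ * c) * g := by rw [hcomm]
      _ = x * (g⁻¹ * c * g) := by simp [mul_assoc]
  have e2 : g⁻¹ * c * g * x * (g⁻¹ * c * g)⁻¹ = x := by rw [e1, mul_inv_cancel_right]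
  have hM : g⁻¹ * c * g ∈ M := h.Jfix _ hy x hx (by rw [e2]; exact (J_mem h hx).1)
  exact h.Jact _ hM x hx e1

/-- Two exchanging involutions: each element of the two-point stabiliser is inverted. -/
lemma inv_of_two (h : SE G M N J e) {u v d : Γ} (hu : IsSw G M J u) (hv : IsSw G M J v)
    (huv : u * v ∈ M) (hne : u ≠ v) (hd : d ∈ M) (hd' : u * d * u ∈ M) : u * d * u = d⁻¹ := by
  obtain ⟨huG, -, huu, hui⟩ := sw_mem h hu
  obtain ⟨hvG, -, hvv, hvi⟩ := sw_mem h hv
  have hud : u * (u * d * u) * u = d := by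
    calc u * (u * d * u) * u = (u * u) * d * (u * u) := by simp [mul_assoc]
      _ = d := by rw [huu]; simp
  have huuv : u * (u * v) * u ∈ M := by
    have e1 : u * (u * v) * u = (u * v)⁻¹ := by
      rw [mul_inv_rev, hui, hvi, ← mul_assoc u u v, huu, one_mul]
    rw [e1]
    exact M.inv_mem huv
  set c := d * (u * d * u) with hcdef
  have hc : c ∈ M := M.mul_mem hd hd'
  have hcomm' : d * (u * d * u) = u * d * u * d :=
    comm h hu hd hd' hd' (by rw [hud]; exact hd)
  have hcu : u * c * u = c := by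
    calc u * c * u = (u * d * u) * (u * (u * d * u) * u) := by
          simp [hcdef, mul_assoc, cancel_sq huu]
      _ = (u * d * u) * d := by rw [hud]
      _ = c := by rw [hcdef, hcomm']
  have hcu' : c * u = u * c := by
    calc c * u = (u * c * u) * u := by rw [hcu]
      _ = u * c := by rw [mul_assoc, huu, mul_one]
  have hcv : c * v = v * c := by
    have h1 : c * (u * v) = u * v * c :=
      comm h hu hc (by rw [hcu]; exact hc) huv huuv
    have hv' : v = u * (u * v) := by rw [← mul_assoc, huu, one_mul]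
    calc c * v = c * (u * (u * v)) := by rw [← hv']
      _ = u * (c * (u * v)) := by rw [← mul_assoc, hcu', mul_assoc]
      _ = u * (u * v * c) := by rw [h1]
      _ = v * c := by rw [← mul_assoc, ← hv']
  obtain ⟨huM, g1, hg1, x, hx, hu_eq⟩ := hu
  obtain ⟨-, g2, hg2, y, hy, hv_eq⟩ := hv
  have hcG : c ∈ G := h.MG hc
  have k1 : g1⁻¹ * c * g1 ∈ N := cent_mem h hg1 hx hcG (by rw [← hu_eq]; exact hcu')
  have k2 : g2⁻¹ * c * g2 ∈ N := cent_mem h hg2 hy hcG (by rw [← hv_eq]; exact hcv)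
  have hgnot : g1⁻¹ * g2 ∉ M := by
    intro hgM
    obtain ⟨hyM, hy2⟩ := J_mem h hy
    have hy' : g1⁻¹ * g2 * y * (g1⁻¹ * g2)⁻¹ ∈ J := by
      rw [h.hJ]
      refine ⟨M.mul_mem (M.mul_mem hgM hyM) (M.inv_mem hgM), ?_⟩
      have := MulEquiv.orderOf_eq (MulAut.conj (g1⁻¹ * g2)) y
      rw [MulAut.conj_apply] at this
      rw [this, hy2]
    have hc2 := h.Jcomm x hx _ hy'
    have hc3 : u * v = v * u := by
      calc u * v = g1 * (x * (g1⁻¹ * g2 * y * (g1⁻¹ * g2)⁻¹)) * g1⁻¹ := by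
            simp [hu_eq, hv_eq, mul_assoc]
        _ = g1 * ((g1⁻¹ * g2 * y * (g1⁻¹ * g2)⁻¹) * x) * g1⁻¹ := by rw [hc2]
        _ = v * u := by simp [hu_eq, hv_eq, mul_assoc]
    have hsq : (u * v) * (u * v) = 1 := by
      calc (u * v) * (u * v) = (u * v) * (v * u) := by rw [← hc3]
        _ = u * (v * v) * u := by simp [mul_assoc]
        _ = 1 := by rw [hvv, mul_one, huu]
    have hu' : IsSw G M J u := ⟨huM, g1, hg1, x, hx, hu_eq⟩
    have h1 := sq_one h hu' huv huuv hsq
    exact hne (by rw [eq_inv_of_mul_eq_one_left h1, hvi])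
  have k3 : (g1⁻¹ * g2)⁻¹ * (g1⁻¹ * c * g1) * (g1⁻¹ * g2) ∈ N := by
    convert k2 using 1
    simp [mul_assoc]
  have h5 := h.inter _ (G.mul_mem (G.inv_mem hg1) hg2) hgnot _ k1 k3
  have h6 : c = 1 := by
    calc c = g1 * (g1⁻¹ * c * g1) * g1⁻¹ := by simp [mul_assoc]
      _ = 1 := by rw [h5]; simp
  rw [hcdef] at h6
  exact eq_inv_of_mul_eq_one_right h6

lemma mk_eq_iff {a b : Γ} : (a : Γ ⧸ M) = (b : Γ ⧸ M) ↔ a⁻¹ * b ∈ M := QuotientGroup.eq

end SEAux

open SEAux in
theorem se_card [Finite Γ] (h : SE G M N J e) :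
    Nat.card G = Nat.card M * (1 + Nat.card N) := by
  classical
  -- the points other than `ω`, the exchanging involutions
  let P' := {q : Γ ⧸ M // q ≠ ((1 : Γ) : Γ ⧸ M) ∧ ∃ g ∈ G, (g : Γ ⧸ M) = q}
  let U : P' → Set Γ := fun η => {u | IsSw G M J u ∧ (u : Γ ⧸ M) = η.1}
  choose rep hrepG hrep using fun η : P' => η.2.2
  have rep_not : ∀ η : P', rep η ∉ M := fun η hm =>
    η.2.1 ((hrep η).symm.trans (mk_eq_iff.mpr (by simpa using M.inv_mem hm)))
  let Φ : P' × J → Γ := fun s => rep s.1 * s.2.1 * (rep s.1)⁻¹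
  have hΦ : ∀ s, IsSw G M J (Φ s) := by
    intro s
    exact ⟨fun hm => rep_not s.1 (h.Jfix _ (hrepG s.1) _ s.2.2 hm),
      _, hrepG s.1, _, s.2.2, rfl⟩
  have hΦinj : Function.Injective Φ := by
    intro s t hst
    have e1 : ((rep t.1)⁻¹ * rep s.1) * s.2.1 * ((rep t.1)⁻¹ * rep s.1)⁻¹ = t.2.1 := by
      calc _ = (rep t.1)⁻¹ * Φ s * rep t.1 := by simp [Φ, mul_assoc]
        _ = _ := by rw [hst]; simp [Φ, mul_assoc]
    have h1 : s.1 = t.1 := by
      have hm := h.Jfix _ (G.mul_mem (G.inv_mem (hrepG t.1)) (hrepG s.1)) _ s.2.2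
        (by rw [e1]; exact (J_mem h t.2.2).1)
      apply Subtype.ext
      rw [← hrep s.1, ← hrep t.1]
      exact (mk_eq_iff.mpr hm).symm
    have h2 : s.2 = t.2 := Subtype.ext (by simpa [h1] using e1)
    exact Prod.ext h1 h2
  let ψ : P' × J → P' := fun s => ⟨(Φ s : Γ ⧸ M),
    fun hh => (hΦ s).1 (by simpa using M.inv_mem (mk_eq_iff.mp hh.symm |> fun x => M.inv_mem x)),
    Φ s, (sw_mem h (hΦ s)).1, rfl⟩
  -- products of two exchanging involutions of the same pair
  have pairM : ∀ {u v : Γ}, IsSw G M J u → IsSw G M J v → (u : Γ ⧸ M) = v → u * v ∈ M := by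
    intro u v hu hv huv
    have := mk_eq_iff.mp huv
    rwa [(sw_mem h hu).2.2.2] at this
  have pairM' : ∀ {u v : Γ}, IsSw G M J u → IsSw G M J v → u * v ∈ M → u * (u * v) * u ∈ M := by
    intro u v hu hv huv
    obtain ⟨-, -, huu, hui⟩ := sw_mem h hu
    obtain ⟨-, -, -, hvi⟩ := sw_mem h hv
    have e1 : u * (u * v) * u = (u * v)⁻¹ := by
      rw [mul_inv_rev, hui, hvi, ← mul_assoc u u v, huu, one_mul]
    rw [e1]
    exact M.inv_mem huv
  have notN : ∀ {u d : Γ}, IsSw G M J u → d ∈ M → u * d * u = d⁻¹ → d ∈ N → d = 1 := by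
    intro u d hu hd hud hdN
    by_contra hne
    obtain ⟨huG, hu2, -, hui⟩ := sw_mem h hu
    exact h.inverted d hd hne u huG hu.1 hu2 (by rwa [hui]) hdN
  -- each fibre has at most `e` elements
  haveI : Fintype P' := Fintype.ofFinite _
  haveI : Fintype J := Fintype.ofFinite _
  have hJcard : Nat.card J = e := by rw [Nat.card_coe_set_eq, h.cardJ]
  have fib_le : ∀ η, Nat.card {s // ψ s = η} ≤ e := by
    intro η
    rcases isEmpty_or_nonempty {s // ψ s = η} with h0 | ⟨⟨s0, hs0⟩⟩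
    · simp
    · have hd : ∀ s : {s // ψ s = η}, Φ s0 * Φ s.1 ∈ M := fun s =>
        pairM (hΦ s0) (hΦ s.1) (congrArg Subtype.val (hs0.trans s.2.symm))
      let f : {s // ψ s = η} → M ⧸ N.subgroupOf M :=
        fun s => ((⟨_, hd s⟩ : M) : M ⧸ N.subgroupOf M)
      have hf : Function.Injective f := by
        intro s t hst
        have hk : (Φ s0 * Φ s.1)⁻¹ * (Φ s0 * Φ t.1) ∈ N := by
          simpa [Subgroup.mem_subgroupOf] using QuotientGroup.eq.mp hst
        obtain ⟨huG, -, huu, hui⟩ := sw_mem h (hΦ s0)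
        obtain ⟨-, -, hss, hsi⟩ := sw_mem h (hΦ s.1)
        obtain ⟨-, -, -, hti⟩ := sw_mem h (hΦ t.1)
        set u := Φ s0
        set a := Φ s.1
        set b := Φ t.1
        have hua : u * a ∈ M := hd s
        have hk2 : u⁻¹ * ((u * a)⁻¹ * (u * b)) * u ∈ N := by
          have h7 := conj_mem_N h hua (N.inv_mem hk)
          have e1 : u⁻¹ * ((u * a)⁻¹ * (u * b)) * u = u * a * b * u := by
            calc u⁻¹ * ((u * a)⁻¹ * (u * b)) * u = u * (a⁻¹ * (u⁻¹ * (u * b))) * u := by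
                  rw [hui, mul_inv_rev, hui, mul_assoc a⁻¹ u (u * b)]
              _ = u * a * b * u := by rw [inv_mul_cancel_left, hsi]; simp [mul_assoc]
          have e2 : (u * a) * ((u * a)⁻¹ * (u * b))⁻¹ * (u * a)⁻¹ = u * a * b * u := by
            calc (u * a) * ((u * a)⁻¹ * (u * b))⁻¹ * (u * a)⁻¹ = u * a * (u * b)⁻¹ := by
                  simp [mul_inv_rev, mul_assoc]
              _ = u * a * b * u := by rw [mul_inv_rev, hui, hti]; simp [mul_assoc]
          rw [e1, ← e2]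
          exact h7
        have h8 := h.inter u huG (hΦ s0).1 _ hk hk2
        exact Subtype.ext (hΦinj (mul_left_cancel (inv_mul_eq_one.mp h8)))
      calc Nat.card {s // ψ s = η} ≤ Nat.card (M ⧸ N.subgroupOf M) :=
            Nat.card_le_card_of_injective f hf
        _ = e := h.quotCard
  have hS : Nat.card (P' × J) = Nat.card P' * e := by rw [Nat.card_prod, hJcard]
  have fib_eq : ∀ η, Nat.card {s // ψ s = η} = e := by
    have hsum : ∑ η, Nat.card {s // ψ s = η} = ∑ _η : P', e := by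
      rw [← Nat.card_sigma, Nat.card_congr (Equiv.sigmaFiberEquiv ψ), hS, Finset.sum_const,
        Finset.card_univ, smul_eq_mul, Nat.card_eq_fintype_card (α := P')]
    have := (Finset.sum_eq_sum_iff_of_le (fun η _ => fib_le η)).mp hsum
    exact fun η => this η (Finset.mem_univ η)
  have two : ∀ η : P', ∃ s t : P' × J, ψ s = η ∧ ψ t = η ∧ s ≠ t := by
    intro η
    haveI : Nontrivial {s // ψ s = η} :=
      Finite.one_lt_card_iff_nontrivial.mp (by rw [fib_eq η]; exact h.e1)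
    obtain ⟨s, t, hne⟩ := exists_pair_ne {s // ψ s = η}
    exact ⟨s.1, t.1, s.2, t.2, fun hh => hne (Subtype.ext hh)⟩
  choose s0 s1 hs0 hs1 hs01 using two
  -- the two-point stabilisers
  have inverts : ∀ (η : P') (d : Γ), d ∈ M → (Φ (s0 η)) * d * Φ (s0 η) ∈ M →
      Φ (s0 η) * d * Φ (s0 η) = d⁻¹ := fun η d hd hd' =>
    inv_of_two h (hΦ _) (hΦ (s1 η))
      (pairM (hΦ _) (hΦ _) (congrArg Subtype.val ((hs0 η).trans (hs1 η).symm)))
      (fun hh => hs01 η (hΦinj hh)) hd hd'
  have third : ∀ (η η' : P') (d : Γ), d ∈ M → Φ (s0 η) * d * Φ (s0 η) ∈ M →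
      Φ (s0 η') * d * Φ (s0 η') ∈ M → η ≠ η' → d = 1 := by
    intro η η' d hd hdη hdη' hne
    have i1 := inverts η d hd hdη
    have i2 := inverts η' d hd hdη'
    obtain ⟨huG, -, huu, hui⟩ := sw_mem h (hΦ (s0 η))
    obtain ⟨hwG, -, hww, hwi⟩ := sw_mem h (hΦ (s0 η'))
    have h0 : (Φ (s0 η) : Γ ⧸ M) = η.1 := congrArg Subtype.val (hs0 η)
    have h0' : (Φ (s0 η') : Γ ⧸ M) = η'.1 := congrArg Subtype.val (hs0 η')
    set u := Φ (s0 η) with hu_def
    set w := Φ (s0 η') with hw_def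
    have hq1 : ((u * w : Γ) : Γ ⧸ M) ≠ ((1 : Γ) : Γ ⧸ M) := by
      intro hh
      apply hne
      apply Subtype.ext
      rw [← h0, ← h0']
      refine mk_eq_iff.mpr ?_
      have := M.inv_mem (mk_eq_iff.mp hh)
      rw [hui]
      simpa using this
    let q : P' := ⟨((u * w : Γ) : Γ ⧸ M), hq1, u * w, G.mul_mem huG hwG, rfl⟩
    obtain ⟨-, -, hvv, hvi⟩ := sw_mem h (hΦ (s0 q))
    have hv0 : (Φ (s0 q) : Γ ⧸ M) = ((u * w : Γ) : Γ ⧸ M) := congrArg Subtype.val (hs0 q)
    set v := Φ (s0 q) with hv_def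
    have hm : v * (u * w) ∈ M := by
      have := mk_eq_iff.mp hv0
      rwa [hvi] at this
    set m := v * (u * w) with hm_def
    have huwd : (u * w) * d * (u * w)⁻¹ = d := by
      rw [mul_inv_rev, hui, hwi]
      calc (u * w) * d * (w * u) = u * (w * d * w) * u := by simp [mul_assoc]
        _ = u * d⁻¹ * u := by rw [i2]
        _ = (u * d * u)⁻¹ := by simp [mul_inv_rev, hui, mul_assoc]
        _ = d := by rw [i1, inv_inv]
    have hvd : v * d * v ∈ M := by
      have e1 : v * d * v = m * d * m⁻¹ := by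
        calc v * d * v = v * ((u * w) * d * (u * w)⁻¹) * v⁻¹ := by rw [huwd, hvi]
          _ = m * d * m⁻¹ := by simp [hm_def, mul_assoc]
      rw [e1]
      exact M.mul_mem (M.mul_mem hm hd) (M.inv_mem hm)
    have i3 := inverts q d hd hvd
    have hmd : m * d * m⁻¹ = d⁻¹ := by
      calc m * d * m⁻¹ = v * ((u * w) * d * (u * w)⁻¹) * v⁻¹ := by simp [hm_def, mul_assoc]
        _ = d⁻¹ := by rw [huwd, hvi]; exact i3
    have hdd : d * d ∈ N := by
      have h9 := N.inv_mem (h.quotComm m hm d hd)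
      rw [commutatorElement_def, hmd] at h9
      simpa using h9
    have hdd1 : d * d = 1 := notN (hΦ (s0 η)) (M.mul_mem hd hd) (by
      calc u * (d * d) * u = (u * d * u) * (u * d * u) := by
            simp [mul_assoc, cancel_sq huu]
        _ = (d * d)⁻¹ := by rw [i1, mul_inv_rev]) hdd
    exact sq_one h (hΦ (s0 η)) hd hdη hdd1
  -- `|P'| ≥ |N|`
  have hne : Nonempty P' := by
    obtain ⟨g, hg, hgM⟩ : ∃ g ∈ G, g ∉ M := by
      by_contra! hh
      exact h.MneG (le_antisymm h.MG hh)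
    exact ⟨⟨(g : Γ ⧸ M), fun hh => hgM (by simpa using mk_eq_iff.mp hh.symm), g, hg, rfl⟩⟩
  have lower : Nat.card N ≤ Nat.card P' := by
    obtain ⟨η⟩ := hne
    obtain ⟨huG, -, huu, hui⟩ := sw_mem h (hΦ (s0 η))
    set u := Φ (s0 η) with hu_def
    let f : N → P' := fun k => ⟨((k.1 * u : Γ) : Γ ⧸ M), fun hh => (hΦ (s0 η)).1 (by
        have h1 := mk_eq_iff.mp hh.symm
        rw [inv_one, one_mul] at h1
        simpa using M.mul_mem (M.inv_mem (h.NM k.2)) h1),
      k.1 * u, G.mul_mem (h.MG (h.NM k.2)) huG, rfl⟩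
    refine Nat.card_le_card_of_injective f ?_
    intro k l hkl
    have h1 : u * (k.1⁻¹ * l.1) * u ∈ M := by
      have := mk_eq_iff.mp (congrArg Subtype.val hkl)
      rw [mul_inv_rev, hui] at this
      simpa [mul_assoc] using this
    have hkl' : k.1⁻¹ * l.1 ∈ N := N.mul_mem (N.inv_mem k.2) l.2
    have h2 := notN (hΦ (s0 η)) (h.NM hkl') (inverts η _ (h.NM hkl') h1) hkl'
    exact Subtype.ext (inv_mul_eq_one.mp h2)
  -- `|P'| ≤ |N|`
  have upper : Nat.card P' ≤ Nat.card N := by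
    let F : P' × J → Γ := fun s => Φ (s0 (ψ s)) * Φ s
    have hFM : ∀ s, F s ∈ M := fun s =>
      pairM (hΦ _) (hΦ s) (congrArg Subtype.val (hs0 (ψ s)))
    have hFM' : ∀ s, Φ (s0 (ψ s)) * F s * Φ (s0 (ψ s)) ∈ M := fun s =>
      pairM' (hΦ _) (hΦ s) (hFM s)
    have hF1 : ∀ s, F s = 1 → s = s0 (ψ s) := by
      intro s hs
      have := eq_inv_of_mul_eq_one_left hs
      rw [(sw_mem h (hΦ s)).2.2.2] at this
      exact (hΦinj this).symm
    let f1 : {s // F s = 1} → P' := fun s => ψ s.1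
    have hf1 : Function.Bijective f1 := by
      constructor
      · intro s t hst
        exact Subtype.ext (by rw [hF1 _ s.2, hF1 _ t.2]; exact congrArg s0 hst)
      · intro η
        refine ⟨⟨s0 η, ?_⟩, hs0 η⟩
        show Φ (s0 (ψ (s0 η))) * Φ (s0 η) = 1
        rw [hs0 η]
        exact (sw_mem h (hΦ (s0 η))).2.2.1
    let f2 : {s // ¬ F s = 1} → {m : M // m ∉ N.subgroupOf M} := fun s =>
      ⟨⟨F s.1, hFM s.1⟩, fun hh => s.2 (notN (hΦ _) (hFM s.1) (inverts _ _ (hFM s.1) (hFM' s.1))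
        (Subgroup.mem_subgroupOf.mp hh))⟩
    have hf2 : Function.Injective f2 := by
      intro s t hst
      have hv : F s.1 = F t.1 := congrArg (fun z => (z.1 : Γ)) hst
      by_cases hψ : ψ s.1 = ψ t.1
      · refine Subtype.ext (hΦinj ?_)
        simp only [F, hψ] at hv
        exact mul_left_cancel hv
      · exact absurd (third _ _ _ (hFM s.1) (hFM' s.1) (by rw [hv]; exact hFM' t.1) hψ) s.2
    have c1 := Nat.card_congr (Equiv.sumCompl (fun s => F s = 1))
    rw [Nat.card_sum, Nat.card_congr (Equiv.ofBijective f1 hf1), hS] at c1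
    have c2 := Nat.card_le_card_of_injective f2 hf2
    have c3 := Nat.card_congr (Equiv.sumCompl (fun m : M => m ∈ N.subgroupOf M))
    rw [Nat.card_sum,
      Nat.card_congr (Subgroup.subgroupOfEquivOfLe h.NM).toEquiv] at c3
    have c4 : Nat.card M = e * Nat.card N := by
      rw [← h.quotCard, ← Subgroup.card_mul_index (N.subgroupOf M), mul_comm,
        Nat.card_congr (Subgroup.subgroupOfEquivOfLe h.NM).toEquiv]
      rfl
    have he := h.e1
    by_contra hlt
    have h10 : (Nat.card N + 1) * (e - 1) ≤ Nat.card P' * (e - 1) :=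
      Nat.mul_le_mul_right _ (by omega)
    have h11 : Nat.card P' * (e - 1) + Nat.card P' = Nat.card P' * e := by
      conv_rhs => rw [show e = e - 1 + 1 by omega, Nat.mul_add, mul_one]
    have h12 : Nat.card N * (e - 1) + Nat.card N = e * Nat.card N := by
      conv_rhs => rw [show e = e - 1 + 1 by omega, mul_comm, Nat.mul_add, mul_one]
    have h13 : (Nat.card N + 1) * (e - 1) = Nat.card N * (e - 1) + (e - 1) := by ring
    omega
  -- counting
  let P := {q : Γ ⧸ M // ∃ g ∈ G, (g : Γ ⧸ M) = q}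
  have hP : M.relIndex G = Nat.card P := by
    let f : G ⧸ M.subgroupOf G → P := Quotient.lift
      (fun g : G => (⟨((g : Γ) : Γ ⧸ M), g, g.2, rfl⟩ : P))
      (fun a b hab => Subtype.ext (mk_eq_iff.mpr (by
        simpa [Subgroup.mem_subgroupOf] using QuotientGroup.leftRel_apply.mp hab)))
    have hf : Function.Bijective f := by
      constructor
      · intro a b hab
        induction a using QuotientGroup.induction_on with
        | H a =>
          induction b using QuotientGroup.induction_on with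
          | H b =>
            refine QuotientGroup.eq.mpr ?_
            rw [Subgroup.mem_subgroupOf]
            simpa using mk_eq_iff.mp (congrArg Subtype.val hab)
      · rintro ⟨q, g, hg, rfl⟩
        exact ⟨((⟨g, hg⟩ : G) : G ⧸ M.subgroupOf G), rfl⟩
    exact Nat.card_congr (Equiv.ofBijective f hf)
  have hP1 : Nat.card P = 1 + Nat.card P' := by
    rw [← Nat.card_congr (Equiv.sumCompl (fun q : P => q.1 = ((1 : Γ) : Γ ⧸ M))), Nat.card_sum]
    congr 1
    · haveI : Unique {q : P // q.1 = ((1 : Γ) : Γ ⧸ M)} :=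
        { default := ⟨⟨_, 1, G.one_mem, rfl⟩, rfl⟩
          uniq := fun q => Subtype.ext (Subtype.ext q.2) }
      exact Nat.card_unique
    · exact Nat.card_congr
        { toFun := fun q => ⟨q.1.1, q.2, q.1.2⟩
          invFun := fun q => ⟨⟨q.1, q.2.2⟩, q.2.1⟩
          left_inv := fun _ => rfl
          right_inv := fun _ => rfl }
  rw [← le_antisymm upper lower, ← hP1, ← hP, mul_comm]
  have h5 := Subgroup.relIndex_mul_relIndex ⊥ M G bot_le h.MG
  rw [Subgroup.relIndex_bot_left, Subgroup.relIndex_bot_left] at h5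
  rw [← h5, mul_comm]

end Cfsg.Agent.Flavell20
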