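import Cfsg.Agent.Lib.FlavellPNil20
import Cfsg.Agent.Lib.FlavellFacts8
import Cfsg.Agent.Lib.FlavellBase8
import Cfsg.Agent.Lib.FlavellGauss8

/-!
A moved invariant `p`-group acting faithfully on an invariant `2`-group, with no condition on the
fixed points: the analogue of `FlavellPNil20` for the coprime action theorem in general.
-/

set_option autoImplicit false
set_option linter.unusedSectionVars false

open scoped commutatorElement Pointwise

namespace Cfsg.Agent.Flavell8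

open Subgroup Cfsg.Agent.CoprimeAction Cfsg.Agent.Flavell20.PNil
open Cfsg.Agent.Flavell20 (fixA cen Facts)

universe u

variable {Γ : Type u} [Group Γ] [Finite Γ] {p r : ℕ} {V X : Subgroup Γ} {a : Γ}

/-- A minimal `2`-group with a moved invariant `p`-group acting faithfully on it is impossible. -/
theorem moved_trivial (h : Core p r V X a) (F : Facts p r X a) {P W : Subgroup Γ} (hP : P ≤ X)
    (aP : a ∈ normalizer (P : Set Γ)) (hPp : IsPGroup p P) (hPgen : ⁅P, zpowers a⁆ = P)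
    (hWX : W ≤ X) (aW : a ∈ normalizer (W : Set Γ)) (hPW : P ≤ normalizer (W : Set Γ))
    (hW2 : IsPGroup 2 W) (hPfaith : P ⊓ centralizer (W : Set Γ) = ⊥)
    (hprop : ∀ N : Subgroup Γ, N ≤ W → N ≠ W → a ∈ normalizer (N : Set Γ) →
      P ≤ normalizer (N : Set Γ) → N ≤ centralizer (P : Set Γ)) : P = ⊥ := by
  classical
  by_contra hPne
  have hnot : ¬ W ≤ centralizer (P : Set Γ) := fun hle => hPne (eq_bot_iff.2
    (hPfaith ▸ le_inf le_rfl (Subgroup.le_centralizer_iff.1 hle)))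
  have := Fact.mk h.hp
  have hcent : ∀ K : Subgroup Γ, P ≤ normalizer (K : Set Γ) → K ≤ centralizer ({a} : Set Γ) →
      K ≤ centralizer (P : Set Γ) := fun K h1 h2 =>
    Flavell20.A1.le_centralizer_of_fixed hPgen h1 h2
  have hr2 : r ≠ 2 := by
    rintro rfl
    have : ¬ 2 ∣ Nat.card W := fun hd => h.rX (hd.trans (Subgroup.card_dvd_of_le hWX))
    obtain ⟨k, hk⟩ := IsPGroup.iff_card.1 hW2
    rcases k with _ | k
    · rw [pow_zero] at hk
      rw [Subgroup.card_eq_one.1 hk] at hnot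
      exact hnot bot_le
    · exact this (hk ▸ dvd_pow_self 2 k.succ_ne_zero)
  have hcopPW : (Nat.card P).Coprime (Nat.card W) :=
    IsPGroup.coprime_card_of_ne p 2 h.hp2 P W hPp hW2
  have hsolvP : Group.IsSolvable P := isSolvable_of_isPGroup hPp
  -- `W = [W, P]`
  have hWP : ⁅W, P⁆ = W := by
    by_contra hne
    have hle := commutator_le_self_of_le_normalizer hPW
    have h1 := hprop _ hle hne (normalizes_commutator aW aP)
      (Subgroup.normalizer_commutator_ge_right W P)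
    have h2 : ⁅⁅W, P⁆, P⁆ = ⊥ := Subgroup.commutator_eq_bot_iff_le_centralizer.2 h1
    exact hnot (Subgroup.le_centralizer_iff.1
      (le_centralizer_of_commutator_commutator_eq_bot hPW hcopPW (Or.inl hsolvP) h2))
  -- proper normal invariant subgroups are central
  have hcentral : ∀ N : Subgroup Γ, N ≤ W → N ≠ W → a ∈ normalizer (N : Set Γ) →
      P ≤ normalizer (N : Set Γ) → W ≤ normalizer (N : Set Γ) →
      N ≤ W ⊓ centralizer (W : Set Γ) := fun N hN hne aN hPN hWN => by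
    have h1 := hprop N hN hne aN hPN
    refine le_inf hN (Subgroup.le_centralizer_iff.1 ?_)
    rw [← hWP, Subgroup.commutator_le]
    intro w hw x hx
    rw [Subgroup.mem_centralizer_iff]
    intro m hm
    have h2 : x * (w⁻¹ * m * w) = w⁻¹ * m * w * x :=
      Subgroup.mem_centralizer_iff.1 (h1 (conj_mem' (hWN hw) hm)) x hx
    have h3 : x * m = m * x := Subgroup.mem_centralizer_iff.1 (h1 hm) x hx
    have h4 : x⁻¹ * m = m * x⁻¹ := (show Commute x m from h3).inv_left.eq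
    calc m * ⁅w, x⁆ = w * ((w⁻¹ * m * w) * x) * w⁻¹ * x⁻¹ := by
          simp [commutatorElement_def, mul_assoc]
      _ = w * (x * (w⁻¹ * m * w)) * w⁻¹ * x⁻¹ := by rw [h2]
      _ = w * x * w⁻¹ * (m * x⁻¹) := by group
      _ = w * x * w⁻¹ * (x⁻¹ * m) := by rw [h4]
      _ = ⁅w, x⁆ * m := by simp [commutatorElement_def, mul_assoc]
  set Z : Subgroup Γ := W ⊓ centralizer (W : Set Γ) with hZdef
  have hZW : Z ≤ W := inf_le_left
  have hZc : ∀ z ∈ Z, ∀ w ∈ W, z * w = w * z := fun z hz w hw =>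
    (Subgroup.mem_centralizer_iff.1 hz.2 w hw).symm
  have aZ : a ∈ normalizer (Z : Set Γ) := normalizes_inf aW (normalizes_centralizer aW)
  have hPZ : P ≤ normalizer (Z : Set Γ) := fun x hx =>
    normalizes_inf (hPW hx) (normalizes_centralizer (hPW hx))
  have hWZ : W ≤ normalizer (Z : Set Γ) := fun w hw => mem_normalizer_of_conj fun z hz => by
    rw [← hZc z hz w hw, mul_inv_cancel_right]
    exact hz
  have hnab : Z ≠ W := fun e => hnot (hcent W hPW
    (F.abel W hWX aW hW2 fun x hx y hy => hZc x (e.symm ▸ hx) y hy))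
  have hZP : Z ≤ centralizer (P : Set Γ) := hprop Z hZW hnab aZ hPZ
  have hZa : Z ≤ centralizer ({a} : Set Γ) :=
    F.abel Z (hZW.trans hWX) aZ (hW2.to_le hZW) fun x hx y hy => hZc x hx y (hZW hy)
  -- the derived group
  set D : Subgroup Γ := ⁅W, W⁆ with hD
  have hDW : D ≤ W := Subgroup.commutator_le.2 fun x hx y hy => by
    rw [commutatorElement_def]
    exact W.mul_mem (W.mul_mem (W.mul_mem hx hy) (W.inv_mem hx)) (W.inv_mem hy)
  have hWne : W ≠ ⊥ := fun e => hnot (e ▸ bot_le)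
  have hWnt : Nontrivial W := (Subgroup.nontrivial_iff_ne_bot W).2 hWne
  have := Fact.mk Nat.prime_two
  have hfr : frattini W ≠ ⊤ := PGroupsBasic.frattini_ne_top
  set Φ : Subgroup Γ := (frattini W).map W.subtype with hΦdef
  have hΦW : Φ ≤ W := Subgroup.map_subtype_le _
  have hΦne : Φ ≠ W := fun e => hfr (by
    apply Subgroup.map_injective W.subtype_injective
    rw [← hΦdef, e, ← MonoidHom.range_eq_map, Subgroup.range_subtype])
  have hΦn : normalizer (W : Set Γ) ≤ normalizer (Φ : Set Γ) :=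
    ComponentsCores.normalizer_le_normalizer_map_subtype W (frattini W)
  have hΦZ : Φ ≤ Z := hcentral Φ hΦW hΦne (hΦn aW) (hPW.trans hΦn) (Subgroup.le_normalizer.trans hΦn)
  have hDΦ : D ≤ Φ := by
    rw [hD, Subgroup.commutator_le]
    intro x hx y hy
    exact ⟨⁅(⟨x, hx⟩ : W), ⟨y, hy⟩⁆, PGroupsBasic.commutator_le_frattini hW2
      (Subgroup.commutator_mem_commutator (Subgroup.mem_top _) (Subgroup.mem_top _)), rfl⟩
  have hDZ : D ≤ Z := hDΦ.trans hΦZ
  have hsqZ : ∀ w ∈ W, w * w ∈ Z := fun w hw => hΦZ ⟨(⟨w, hw⟩ : W) ^ 2,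
    PGroupsBasic.pow_mem_frattini hW2 _, by simp [sq]⟩
  have aD : a ∈ normalizer (D : Set Γ) := normalizes_commutator aW aW
  have hPD : P ≤ normalizer (D : Set Γ) := fun x hx => normalizes_commutator (hPW hx) (hPW hx)
  have hWD : W ≤ normalizer (D : Set Γ) := fun w hw =>
    normalizes_commutator (Subgroup.le_normalizer hw) (Subgroup.le_normalizer hw)
  -- the module `A = W / D`
  set A := img D W with hA
  set Pi := img D P with hPi
  have hA2 : IsPGroup 2 A := img_isPGroup hW2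
  have hPip : IsPGroup p Pi := img_isPGroup hPp
  have hAc : ∀ x ∈ A, ∀ y ∈ A, x * y = y * x := by
    intro x' hx' y' hy'
    obtain ⟨x, hx, rfl⟩ := mem_img.1 hx'
    obtain ⟨y, hy, rfl⟩ := mem_img.1 hy'
    exact prj_comm.2 (Subgroup.commutator_mem_commutator hx hy)
  have hAcomm : IsMulCommutative A := ⟨⟨fun x y => Subtype.ext (hAc x x.2 y y.2)⟩⟩
  have hPiA : Pi ≤ normalizer (A : Set (Quo D)) := img_le_normalizer hPW
  have hcopPA : (Nat.card Pi).Coprime (Nat.card A) := IsPGroup.coprime_card_of_ne p 2 h.hp2 Pi A hPip hA2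
  have hAeq : A ≤ ⁅A, Pi⁆ := by
    intro q hq
    obtain ⟨w, hw, rfl⟩ := mem_img.1 hq
    have hle : ⁅W, P⁆ ≤ ((⁅A, Pi⁆).comap (prj D)).map (normalizer (D : Set Γ)).subtype := by
      rw [Subgroup.commutator_le]
      intro x hx y hy
      refine ⟨⁅(⟨x, hWD hx⟩ : normalizer (D : Set Γ)), ⟨y, hPD hy⟩⁆, ?_, rfl⟩
      rw [SetLike.mem_coe, Subgroup.mem_comap, map_commutatorElement]
      exact Subgroup.commutator_mem_commutator (prj_mem_img hx) (prj_mem_img hy)
    rw [hWP] at hle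
    obtain ⟨y, hy, e⟩ := hle hw
    have : y = w := Subtype.ext e
    exact this ▸ hy
  have hCP : A ⊓ centralizer (Pi : Set (Quo D)) = ⊥ := by
    rw [eq_bot_iff, ← inf_centralizer_inf_commutator_eq_bot hPiA hcopPA]
    exact fun q hq => ⟨hq, hAeq hq.1⟩
  have hfixD : ∀ w ∈ W, (∀ x ∈ P, x * w = w * x) → w ∈ D := by
    intro w hw hwx
    have hmem : prj D ⟨w, hWD hw⟩ ∈ A ⊓ centralizer (Pi : Set (Quo D)) := by
      refine ⟨prj_mem_img hw, fun q hq => ?_⟩
      obtain ⟨x, hx, rfl⟩ := mem_img.1 hq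
      rw [← map_mul, ← map_mul]
      exact congrArg _ (Subtype.ext (hwx x hx))
    rw [hCP, Subgroup.mem_bot] at hmem
    exact prj_eq_one.1 hmem
  have hZD : Z = D := le_antisymm
    (fun z hz => hfixD z (hZW hz) fun x hx => Subgroup.mem_centralizer_iff.1 (hZP hz) x hx) hDZ
  have hZ2 : ∀ z ∈ Z, z * z = 1 := by
    intro z hz
    rw [hZD] at hz
    let Om : Subgroup Γ :=
      { carrier := {y | y ∈ Z ∧ y * y = 1}
        one_mem' := ⟨Z.one_mem, one_mul 1⟩
        mul_mem' := fun {x y} hx hy => ⟨Z.mul_mem hx.1 hy.1, by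
          calc x * y * (x * y) = x * (y * x) * y := by group
            _ = x * (x * y) * y := by rw [hZc y hy.1 x (hZW hx.1)]
            _ = (x * x) * (y * y) := by group
            _ = 1 := by rw [hx.2, hy.2, one_mul]⟩
        inv_mem' := fun {x} hx => ⟨Z.inv_mem hx.1, by rw [← mul_inv_rev, hx.2, inv_one]⟩ }
    have hle : ⁅W, W⁆ ≤ Om := Subgroup.commutator_le.2 fun x hx y hy => by
      have hc : ⁅x, y⁆ ∈ Z := hDZ (Subgroup.commutator_mem_commutator hx hy)
      refine ⟨hc, ?_⟩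
      have h1 : ⁅x * x, y⁆ = 1 :=
        commutatorElement_eq_one_iff_mul_comm.2 (hZc _ (hsqZ x hx) y hy)
      have h2 : ⁅x * x, y⁆ = x * ⁅x, y⁆ * x⁻¹ * ⁅x, y⁆ := by
        simp [commutatorElement_def, mul_assoc]
      rw [← hZc _ hc x hx, mul_inv_cancel_right, h1] at h2
      exact h2.symm
    exact (hle hz).2
  -- the action of `a`
  have hra : orderOf a = r := h.orda
  let a' : normalizer (D : Set Γ) := ⟨a, aD⟩
  have haX : a ∉ X := fun hm => h.rX (hra ▸ Subgroup.orderOf_dvd_natCard _ hm)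
  have hord : orderOf (prj D a') = r :=
    orderOf_prj h.hr hra fun hm => haX (hWX (hDW hm))
  set E := zpowers (prj D a') with hE
  have hEcard : Nat.card E = r := by rw [hE, Nat.card_zpowers, hord]
  have hEA : E ≤ normalizer (A : Set (Quo D)) := zpowers_le.2 (prj_normalizes aW)
  have hEc : centralizer (E : Set (Quo D)) = centralizer ({prj D a'} : Set (Quo D)) := by
    rw [hE, Subgroup.zpowers_eq_closure, Subgroup.centralizer_closure]
  have hA2e : ∀ q ∈ A, q ^ 2 = 1 := by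
    intro q hq
    obtain ⟨w, hw, rfl⟩ := mem_img.1 hq
    rw [← map_pow]
    exact prj_eq_one.2 (by simpa [sq, ← hZD] using hsqZ w hw)
  set C := A ⊓ centralizer (E : Set (Quo D)) with hC
  set I := ⁅A, E⁆ with hI
  have hIA : I ≤ A := commutator_le_self_of_le_normalizer hEA
  have hrdvd : ¬ r ∣ Nat.card A := by
    obtain ⟨k, hk⟩ := IsPGroup.iff_card.1 hA2
    rw [hk]
    exact fun hd => hr2 ((Nat.prime_dvd_prime_iff_eq h.hr Nat.prime_two).1
      (h.hr.dvd_of_dvd_pow hd))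
  have hcopEA : (Nat.card E).Coprime (Nat.card A) := hEcard ▸ (h.hr.coprime_iff_not_dvd.2 hrdvd)
  have hEs : Group.IsSolvable E := isSolvable_zpowers _
  have hIC : C ⊓ I = ⊥ := inf_centralizer_inf_commutator_eq_bot hEA hcopEA
  have hAIC : Nat.card A = Nat.card I * Nat.card C :=
    FrobeniusFixedPoints.card_eq_mul hIA inf_le_left (by rw [inf_comm]; exact hIC) fun q hq => by
      obtain ⟨x, hx, y, hy, e⟩ := exists_mul_fixed hEA hcopEA (Or.inl hEs) hq
      exact ⟨x, hx, y, hy, e.symm⟩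
  -- preimage of `I`
  set T₀ : Subgroup Γ := (I.comap (prj D)).map (normalizer (D : Set Γ)).subtype with hT₀
  have hmemT : ∀ x : normalizer (D : Set Γ), ((x : Γ) ∈ T₀ ↔ prj D x ∈ I) := fun x =>
    ⟨fun ⟨y, hy, e⟩ => (show y = x from Subtype.ext e) ▸ hy, fun hx => ⟨x, hx, rfl⟩⟩
  have hT₀D : T₀ ≤ normalizer (D : Set Γ) := Subgroup.map_subtype_le _
  have hT₀W : T₀ ≤ W := fun t ht => by
    have h1 := hIA ((hmemT ⟨t, hT₀D ht⟩).1 ht)
    exact mem_of_prj_mem_img hDW h1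
  have hDT₀ : D ≤ T₀ := fun d hd => (hmemT ⟨d, hWD (hDW hd)⟩).2 (by
    rw [prj_eq_one.2 hd]; exact I.one_mem)
  have hT₀img : img D T₀ = I := by
    ext q
    rw [mem_img]
    constructor
    · rintro ⟨x, hx, rfl⟩
      exact (hmemT x).1 hx
    · intro hq
      obtain ⟨x, rfl⟩ := QuotientGroup.mk'_surjective _ q
      exact ⟨x, (hmemT x).2 hq, rfl⟩
  have hT₀card : Nat.card I * Nat.card D = Nat.card T₀ := hT₀img ▸ card_img hDT₀ hT₀D
  -- fixed points commute with `T₀`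
  have horth : ∀ c ∈ W, ⁅a, c⁆ ∈ D → ∀ t ∈ T₀, c * t = t * c := by
    intro c hc hac t ht
    let c' : normalizer (D : Set Γ) := ⟨c, hWD hc⟩
    have hcE : prj D c' ∈ centralizer (E : Set (Quo D)) := by
      rw [hEc, Subgroup.mem_centralizer_singleton_iff]
      exact (prj_comm.2 (show ⁅((a' : normalizer (D : Set Γ)) : Γ), (c' : Γ)⁆ ∈ D from hac)).symm
    have hgc : ∀ w ∈ W, ∀ g ∈ zpowers a, c * ⁅w, g⁆ = ⁅w, g⁆ * c := by
      intro w hw g hg
      have hgW : g ∈ normalizer (W : Set Γ) := zpowers_le.2 aW hg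
      have hgD : g ∈ normalizer (D : Set Γ) := zpowers_le.2 aD hg
      have hgz : ∀ z ∈ Z, g * z * g⁻¹ = z := fun z hz => by
        have h1 : g ∈ centralizer ({z} : Set Γ) := zpowers_le.2
          (Subgroup.mem_centralizer_singleton_iff.2
            (Subgroup.mem_centralizer_singleton_iff.1 (hZa hz)).symm) hg
        rw [Subgroup.mem_centralizer_singleton_iff.1 h1, mul_inv_cancel_right]
      have hgE : prj D ⟨g, hgD⟩ ∈ E := by
        obtain ⟨i, rfl⟩ := hg
        exact ⟨i, by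
          show prj D a' ^ i = _
          rw [← map_zpow]; exact congrArg _ (Subtype.ext (by simp [a']))⟩
      have h1 := prj_comm.1 (Subgroup.mem_centralizer_iff.1 hcE _ hgE)
      change ⁅g, c⁆ ∈ D at h1
      set d := ⁅g, c⁆ with hd
      have hgcg : g * c * g⁻¹ = d * c := by simp [hd, commutatorElement_def, mul_assoc]
      have hdz := hDZ h1
      set b := g * w⁻¹ * g⁻¹ with hb
      have hbW : b ∈ W := conj_mem hgW (W.inv_mem hw)
      have hz1 : ⁅c, w⁆ ∈ Z := hDZ (Subgroup.commutator_mem_commutator hc hw)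
      have hz2 : ⁅c, w⁻¹⁆ ∈ Z := hDZ (Subgroup.commutator_mem_commutator hc (W.inv_mem hw))
      have h5 : ⁅c, b⁆ = ⁅c, w⁻¹⁆ := by
        have e1 : ⁅d * c, b⁆ = d * ⁅c, b⁆ * d⁻¹ * ⁅d, b⁆ := by
          simp [commutatorElement_def, mul_assoc]
        have e2 : ⁅d, b⁆ = 1 := commutatorElement_eq_one_iff_mul_comm.2 (hZc d hdz b hbW)
        have hzb : ⁅c, b⁆ ∈ Z := hDZ (Subgroup.commutator_mem_commutator hc hbW)
        rw [e2, mul_one, ← hZc _ hzb d (hZW hdz), mul_inv_cancel_right] at e1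
        have e3 : ⁅d * c, b⁆ = g * ⁅c, w⁻¹⁆ * g⁻¹ := by
          rw [← hgcg, hb]
          simp [commutatorElement_def, mul_assoc]
        rw [← e1, e3, hgz _ hz2]
      refine commutatorElement_eq_one_iff_mul_comm.1 ?_
      rw [show ⁅w, g⁆ = w * b by simp [hb, commutatorElement_def, mul_assoc],
        show ⁅c, w * b⁆ = ⁅c, w⁆ * (w * ⁅c, b⁆ * w⁻¹) by simp [commutatorElement_def, mul_assoc],
        h5, ← hZc _ hz2 w hw, mul_inv_cancel_right]
      rw [show ⁅c, w⁆ * ⁅c, w⁻¹⁆ = ⁅c, w⁆ * (w * ⁅c, w⁻¹⁆ * w⁻¹) by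
        rw [← hZc _ hz2 w hw, mul_inv_cancel_right]]
      simp [commutatorElement_def, mul_assoc]
    have hle : I ≤ img D (W ⊓ centralizer ({c} : Set Γ)) := by
      rw [hI, Subgroup.commutator_le]
      intro q hq e he
      obtain ⟨w, hw, rfl⟩ := mem_img.1 hq
      obtain ⟨i, rfl⟩ := he
      show ⁅prj D w, prj D a' ^ i⁆ ∈ _
      rw [← map_zpow, ← map_commutatorElement]
      have hco : ((⁅w, a' ^ i⁆ : normalizer (D : Set Γ)) : Γ) = ⁅(w : Γ), a ^ i⁆ := by
        simp [commutatorElement_def, a']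
      refine prj_mem_img ?_
      rw [hco]
      refine ⟨?_, Subgroup.mem_centralizer_singleton_iff.2
        (hgc w hw _ ⟨i, rfl⟩).symm⟩
      rw [commutatorElement_def, mul_assoc, mul_assoc]
      exact W.mul_mem hw (by
        simpa [mul_assoc] using conj_mem (zpowers_le.2 aW ⟨i, rfl⟩) (W.inv_mem hw))
    obtain ⟨s, hs, e⟩ := mem_img.1 (hle ((hmemT ⟨t, hT₀D ht⟩).1 ht))
    have hd : (s : Γ)⁻¹ * t ∈ D := prj_eq.1 e
    have h1 : c * (s : Γ) = (s : Γ) * c := (Subgroup.mem_centralizer_singleton_iff.1 hs.2).symm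
    have h2 : c * ((s : Γ)⁻¹ * t) = (s : Γ)⁻¹ * t * c := (hZc _ (hDZ hd) c hc).symm
    calc c * t = c * s * ((s : Γ)⁻¹ * t) := by group
      _ = s * (c * ((s : Γ)⁻¹ * t)) := by rw [h1, mul_assoc]
      _ = t * c := by rw [h2]; group
  -- decomposition of `W`
  have hdec : ∀ w ∈ W, ∃ t ∈ T₀, ∃ c ∈ W, ⁅a, c⁆ ∈ D ∧
      ∃ hcL : c ∈ normalizer (D : Set Γ), prj D ⟨c, hcL⟩ ∈ C ∧ w = t * c := by
    intro w hw
    obtain ⟨i, hi, j, hj, e⟩ := exists_mul_fixed hEA hcopEA (Or.inl hEs)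
      (prj_mem_img (N := D) (x := ⟨w, hWD hw⟩) hw)
    obtain ⟨c, hc, rfl⟩ := mem_img.1 hj.1
    have hac : ⁅a, (c : Γ)⁆ ∈ D := (prj_comm (x := a') (y := c)).1
      (Subgroup.mem_centralizer_iff.1 hj.2 _ (mem_zpowers _))
    have hT : ((⟨w, hWD hw⟩ * c⁻¹ : normalizer (D : Set Γ)) : Γ) ∈ T₀ := (hmemT _).2 (by
      rw [map_mul, map_inv, e, mul_inv_cancel_right]; exact hi)
    exact ⟨_, hT, c, hc, hac, c.2, hj, by simp⟩
  obtain ⟨k, hk⟩ := IsPGroup.iff_card.1 (hA2.to_le (inf_le_left : C ≤ A))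
  have hWD' : ¬ W ≤ D := fun hle => hnab (le_antisymm hZW (hle.trans hDZ))
  -- a hyperplane of `Z`
  have hZne : Z ≠ ⊥ := fun e => hnab (le_antisymm hZW fun w hw => ⟨hw,
    Subgroup.mem_centralizer_iff.2 fun y hy => commutatorElement_eq_one_iff_mul_comm.1
      (Subgroup.mem_bot.1 (e ▸ hDZ (Subgroup.commutator_mem_commutator hy hw)))⟩)
  have hZV : ¬ Z ≤ centralizer (V : Set Γ) := fun hle => hZne (by
    rw [eq_bot_iff, ← h.faith]
    exact le_inf (hZW.trans hWX) hle)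
  obtain ⟨lam, hlZ, z₀, hz₀, hz₀l, hdich, v, hv, hvfix, hz₀v⟩ :=
    exists_hyperplane h.hp h.hp2 (fun x hx y hy => hZc x hx y (hZW hy)) hZ2
      ((hZW.trans hWX).trans h.XV) h.Vcomm h.Vexp hZV
  have hl_a : ∀ l ∈ lam, a * l * a⁻¹ = l := fun l hl =>
    mul_inv_eq_iff_eq_mul.2 (Subgroup.mem_centralizer_singleton_iff.1 (hZa (hlZ hl))).symm
  have hl_P : ∀ x ∈ P, ∀ l ∈ lam, x * l * x⁻¹ = l := fun x hx l hl =>
    mul_inv_eq_iff_eq_mul.2 (Subgroup.mem_centralizer_iff.1 (hZP (hlZ hl)) x hx)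
  have hl_W : ∀ w ∈ W, ∀ l ∈ lam, w * l * w⁻¹ = l := fun w hw l hl => by
    rw [← hZc l (hlZ hl) w hw, mul_inv_cancel_right]
  have aL : a ∈ normalizer (lam : Set Γ) :=
    mem_normalizer_of_conj fun l hl => by rw [hl_a l hl]; exact hl
  have hPL : P ≤ normalizer (lam : Set Γ) := fun x hx =>
    mem_normalizer_of_conj fun l hl => by rw [hl_P x hx l hl]; exact hl
  have hWL : W ≤ normalizer (lam : Set Γ) := fun w hw =>
    mem_normalizer_of_conj fun l hl => by rw [hl_W w hw l hl]; exact hl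
  set U₀ : Subgroup Γ := V ⊓ centralizer (lam : Set Γ) with hU₀
  have hU₀L : U₀ ≤ normalizer (lam : Set Γ) := fun u hu => mem_normalizer_of_conj fun l hl => by
    rw [← Subgroup.mem_centralizer_iff.1 hu.2 l hl, mul_inv_cancel_right]
    exact hl
  have hdisj : ∀ u ∈ U₀, u ∈ lam → u = 1 := fun u hu hul => by
    have h2 : u ^ 2 = 1 := by rw [sq]; exact hZ2 u (hlZ hul)
    have hp' := h.Vexp u hu.1
    have hg := Nat.Coprime.symm ((Nat.coprime_primes h.hp Nat.prime_two).2 h.hp2)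
    exact orderOf_eq_one_iff.1 (Nat.eq_one_of_dvd_coprimes hg
      (orderOf_dvd_of_pow_eq_one h2) (orderOf_dvd_of_pow_eq_one hp'))
  have hUnorm : ∀ g, g ∈ normalizer (V : Set Γ) → g ∈ normalizer (lam : Set Γ) →
      g ∈ normalizer (U₀ : Set Γ) := fun g hgV hgl => normalizes_inf hgV (normalizes_centralizer hgl)
  -- the kernel on `U₀`
  set K₀ : Subgroup Γ := W ⊓ centralizer (U₀ : Set Γ) with hK₀
  have hvU : v ∈ U₀ := ⟨hv, Subgroup.mem_centralizer_iff.2 fun l hl => hvfix l hl⟩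
  have hK₀ne : K₀ ≠ W := fun e => hz₀v
    ((Subgroup.mem_centralizer_iff.1 (e.symm ▸ hZW hz₀ : z₀ ∈ K₀).2 v hvU).symm)
  have hK₀norm : ∀ g, g ∈ normalizer (W : Set Γ) → g ∈ normalizer (V : Set Γ) →
      g ∈ normalizer (lam : Set Γ) → g ∈ normalizer (K₀ : Set Γ) := fun g hgW hgV hgl =>
    normalizes_inf hgW (normalizes_centralizer (hUnorm g hgV hgl))
  have hK₀Z : K₀ ≤ Z := hcentral K₀ inf_le_left hK₀ne (hK₀norm a aW h.aV aL)
    (fun x hx => hK₀norm x (hPW hx) (h.XV (hP hx)) (hPL hx))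
    (fun w hw => hK₀norm w (Subgroup.le_normalizer hw) (h.XV (hWX hw)) (hWL hw))
  have hK₀l : K₀ ≤ lam := fun z hz => by
    refine (hdich z (hK₀Z hz)).resolve_right fun h1 => hz₀v ?_
    have h2 : (z₀ * z) * v = v * (z₀ * z) := hvfix _ h1
    have h3 : z * v = v * z := (Subgroup.mem_centralizer_iff.1 hz.2 v hvU).symm
    have h4 := (show Commute (z₀ * z) v from h2).mul_left ((show Commute z v from h3).inv_left)
    simpa using h4.eq
  -- the radical
  have hrad : ∀ t ∈ T₀, (∀ s ∈ T₀, ⁅t, s⁆ ∈ lam) → t ∈ Z := by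
    intro t ht hts
    set Wl := img lam W with hWl
    set R₀ : Subgroup Γ :=
      W ⊓ ((centralizer (Wl : Set (Quo lam))).comap (prj lam)).map
        (normalizer (lam : Set Γ)).subtype with hR₀
    have hR₀mem : ∀ w, w ∈ R₀ ↔ w ∈ W ∧ ∀ x ∈ W, ⁅x, w⁆ ∈ lam := by
      intro w
      constructor
      · rintro ⟨hw, y, hy, rfl⟩
        exact ⟨hw, fun x hx => (prj_comm (x := ⟨x, hWL hx⟩) (y := y)).1
          (Subgroup.mem_centralizer_iff.1 hy _ (prj_mem_img (x := ⟨x, hWL hx⟩) hx))⟩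
      · rintro ⟨hw, hx⟩
        refine ⟨hw, ⟨w, hWL hw⟩, Subgroup.mem_centralizer_iff.2 fun q hq => ?_, rfl⟩
        obtain ⟨y, hy, rfl⟩ := mem_img.1 hq
        exact prj_comm.2 (hx y hy)
    have hR₀norm : ∀ g, g ∈ normalizer (W : Set Γ) → g ∈ normalizer (lam : Set Γ) →
        g ∈ normalizer (R₀ : Set Γ) := by
      intro g hgW hgl
      refine mem_normalizer_of_conj fun w hw => (hR₀mem _).2 ?_
      obtain ⟨hwW, hwx⟩ := (hR₀mem w).1 hw
      refine ⟨conj_mem hgW hwW, fun x hx => ?_⟩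
      have h1 := conj_mem hgl (hwx (g⁻¹ * x * g) (conj_mem' hgW hx))
      rwa [show g * ⁅g⁻¹ * x * g, w⁆ * g⁻¹ = ⁅x, g * w * g⁻¹⁆ by
        simp [commutatorElement_def, mul_assoc]] at h1
    have hR₀ne : R₀ ≠ W := fun e => hz₀l (by
      have hle : ⁅W, W⁆ ≤ lam := Subgroup.commutator_le.2 fun x hx y hy =>
        ((hR₀mem y).1 (e.symm ▸ hy)).2 x hx
      exact hle (hZD ▸ hz₀ : z₀ ∈ D))
    refine hcentral R₀ inf_le_left hR₀ne (hR₀norm a aW aL)
      (fun x hx => hR₀norm x (hPW hx) (hPL hx))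
      (fun w hw => hR₀norm w (Subgroup.le_normalizer hw) (hWL hw)) ((hR₀mem t).2
        ⟨hT₀W ht, fun x hx => ?_⟩)
    obtain ⟨s, hs, c, hc, hac, -, -, rfl⟩ := hdec x hx
    have h1 : ⁅c, t⁆ = 1 := commutatorElement_eq_one_iff_mul_comm.2 (horth c hc hac t ht)
    rw [show ⁅s * c, t⁆ = s * ⁅c, t⁆ * s⁻¹ * ⁅s, t⁆ by simp [commutatorElement_def, mul_assoc],
      h1, mul_one, mul_inv_cancel, one_mul, ← commutatorElement_inv]
    exact lam.inv_mem (hts s hs)
  -- the extraspecial group and the module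
  set Q := img lam T₀ with hQ
  set U := img lam U₀ with hU
  let a₂ : normalizer (lam : Set Γ) := ⟨a, aL⟩
  have hord₂ : orderOf (prj lam a₂) = r :=
    orderOf_prj h.hr hra fun hm => haX (hWX (hZW (hlZ hm)))
  have hlT : lam ≤ T₀ := hlZ.trans (hZD.le.trans hDT₀)
  have hT₀L : T₀ ≤ normalizer (lam : Set Γ) := hT₀W.trans hWL
  let z₂ : normalizer (lam : Set Γ) := ⟨z₀, hWL (hZW hz₀)⟩
  have hz₀T : z₀ ∈ T₀ := hDT₀ (hZD ▸ hz₀)
  have hQ2 : IsPGroup 2 Q := img_isPGroup (hW2.to_le hT₀W)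
  have hCeq : (Subgroup.center Q).map Q.subtype = zpowers (prj lam z₂) := by
    refine le_antisymm ?_ (zpowers_le.2 ?_)
    · rintro _ ⟨⟨q, hq⟩, hqc, rfl⟩
      obtain ⟨t, ht, rfl⟩ := mem_img.1 hq
      have htZ : (t : Γ) ∈ Z := hrad t ht fun s hs => (prj_comm (x := t) (y := ⟨s, hT₀L hs⟩)).1
        (congrArg Subtype.val (Subgroup.mem_center_iff.1 hqc ⟨_, prj_mem_img
          (N := lam) (x := ⟨s, hT₀L hs⟩) hs⟩)).symm
      rcases hdich _ htZ with h1 | h1
      · show prj lam t ∈ _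
        rw [prj_eq_one.2 h1]
        exact one_mem _
      · have h2 : prj lam z₂ * prj lam t = 1 := by
          rw [← map_mul]; exact prj_eq_one.2 h1
        show prj lam t ∈ _
        rw [eq_inv_of_mul_eq_one_right h2]
        exact inv_mem (mem_zpowers _)
    · refine ⟨⟨prj lam z₂, prj_mem_img hz₀T⟩, Subgroup.mem_center_iff.2 ?_, rfl⟩
      rintro ⟨q, hq⟩
      obtain ⟨t, ht, rfl⟩ := mem_img.1 hq
      refine Subtype.ext (prj_comm.2 ?_)
      show ⁅(t : Γ), z₀⁆ ∈ lam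
      rw [commutatorElement_eq_one_iff_mul_comm.2 (hZc z₀ hz₀ t (hT₀W ht)).symm]
      exact lam.one_mem
  have hz₂ord : orderOf (prj lam z₂) = 2 := by
    refine orderOf_eq_prime ?_ fun e => hz₀l (prj_eq_one.1 e)
    rw [← map_pow]
    refine prj_eq_one.2 ?_
    simp [z₂, sq, hZ2 z₀ hz₀]
  have hcen2 : Nat.card (Subgroup.center Q) = 2 := by
    rw [← Subgroup.card_map_of_injective Q.subtype_injective, hCeq, Nat.card_zpowers, hz₂ord]
  have hcomle : commutator Q ≤ Subgroup.center Q := by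
    rw [_root_.commutator_def, Subgroup.commutator_le]
    rintro ⟨x', hx'⟩ - ⟨y', hy'⟩ -
    rw [Subgroup.mem_center_iff]
    rintro ⟨w', hw'⟩
    obtain ⟨x, hx, rfl⟩ := mem_img.1 hx'
    obtain ⟨y, hy, rfl⟩ := mem_img.1 hy'
    obtain ⟨w, hw, rfl⟩ := mem_img.1 hw'
    refine Subtype.ext ?_
    show prj lam w * ⁅prj lam x, prj lam y⁆ = ⁅prj lam x, prj lam y⁆ * prj lam w
    rw [← map_commutatorElement, ← map_mul, ← map_mul]
    refine congrArg _ (Subtype.ext ?_)
    simpa [commutatorElement_def] using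
      (hZc _ (hDZ (Subgroup.commutator_mem_commutator (hT₀W hx) (hT₀W hy))) w (hT₀W hw)).symm
  have hIne : I ≠ ⊥ := fun e => by
    refine hnot (hcent W hPW ?_)
    have hT : ⁅W, zpowers a⁆ ≤ D := by
      rw [Subgroup.commutator_le]
      intro w hw g hg
      obtain ⟨i, rfl⟩ := hg
      have h1 : prj D ⁅(⟨w, hWD hw⟩ : normalizer (D : Set Γ)), a' ^ i⁆ ∈ I := by
        rw [map_commutatorElement, map_zpow]
        exact Subgroup.commutator_mem_commutator (prj_mem_img hw) (zpow_mem (mem_zpowers _) i)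
      rw [e, Subgroup.mem_bot, prj_eq_one] at h1
      simpa [a', commutatorElement_def] using h1
    have h2 : ⁅⁅W, zpowers a⁆, zpowers a⁆ = ⊥ := Subgroup.commutator_eq_bot_iff_le_centralizer.2
      ((hT.trans hDZ).trans (hZa.trans (by
        rw [Subgroup.zpowers_eq_closure, Subgroup.centralizer_closure])))
    have hcop : (Nat.card (zpowers a)).Coprime (Nat.card W) := cop h hWX
    have h3 := Subgroup.le_centralizer_iff.1 (le_centralizer_of_commutator_commutator_eq_bot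
      (zpowers_le.2 aW) hcop (Or.inl (isSolvable_zpowers a)) h2)
    rwa [Subgroup.zpowers_eq_closure, Subgroup.centralizer_closure] at h3
  have hcomeq : commutator Q = Subgroup.center Q := by
    refine Subgroup.eq_of_le_of_card_ge hcomle ?_
    rw [hcen2]
    refine (Finite.one_lt_card_iff_nontrivial.2 ((Subgroup.nontrivial_iff_ne_bot _).2 fun e => ?_))
    refine hIne (eq_bot_iff.2 fun q hq => ?_)
    obtain ⟨t, ht, rfl⟩ := mem_img.1 (hT₀img.symm ▸ hq)
    refine Subgroup.mem_bot.2 (prj_eq_one.2 (hZD.le (hrad t ht fun s hs => ?_)))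
    let qt : Q := ⟨prj lam ⟨t, hT₀L ht⟩, prj_mem_img ht⟩
    let qs : Q := ⟨prj lam ⟨s, hT₀L hs⟩, prj_mem_img hs⟩
    have h1 : ⁅qt, qs⁆ = (1 : Q) := by
      rw [← Subgroup.mem_bot, ← e, _root_.commutator_def]
      exact Subgroup.commutator_mem_commutator (Subgroup.mem_top _) (Subgroup.mem_top _)
    exact prj_comm.1 (congrArg Subtype.val (commutatorElement_eq_one_iff_mul_comm.1 h1))
  have hfrat : frattini Q = Subgroup.center Q := by
    refine le_antisymm (PGroupsBasic.frattini_le_of_elementary_quotient (p := 2) hcomeq.le ?_)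
      (hcomeq ▸ PGroupsBasic.commutator_le_frattini hQ2)
    rintro ⟨q, hq⟩
    obtain ⟨t, ht, rfl⟩ := mem_img.1 hq
    rw [Subgroup.mem_center_iff]
    rintro ⟨w', hw'⟩
    obtain ⟨w, hw, rfl⟩ := mem_img.1 hw'
    refine Subtype.ext ?_
    show prj lam w * prj lam t ^ 2 = prj lam t ^ 2 * prj lam w
    rw [← map_pow, ← map_mul, ← map_mul]
    refine congrArg _ (Subtype.ext ?_)
    simpa [sq] using (hZc _ (hsqZ t (hT₀W ht)) w (hT₀W hw)).symm
  have haT : a ∈ normalizer (T₀ : Set Γ) := mem_normalizer_of_conj fun t ht => by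
    let t' : normalizer (D : Set Γ) := ⟨t, hT₀D ht⟩
    have h1 : prj D a' * prj D t' * (prj D a')⁻¹ ∈ I := conj_mem
      (Subgroup.normalizer_commutator_ge_right A E (mem_zpowers _)) ((hmemT t').1 ht)
    rw [← map_inv, ← map_mul, ← map_mul] at h1
    simpa [a', t'] using (hmemT _).2 h1
  have hUab : Cfsg.IsElementaryAbelian p U := by
    refine ⟨⟨⟨fun x y => Subtype.ext ?_⟩⟩, fun x hx => ?_⟩
    · obtain ⟨x', hx', ex⟩ := mem_img.1 x.2
      obtain ⟨y', hy', ey⟩ := mem_img.1 y.2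
      show (x : Quo lam) * y = y * x
      rw [← ex, ← ey, ← map_mul, ← map_mul]
      exact congrArg _ (Subtype.ext (h.Vcomm _ hx'.1 _ hy'.1))
    · obtain ⟨x', hx', rfl⟩ := mem_img.1 hx
      rw [← map_pow]
      exact prj_eq_one.2 (by simp [h.Vexp _ hx'.1])
  have hfaith : Q ⊓ centralizer (U : Set (Quo lam)) = ⊥ := by
    rw [eq_bot_iff]
    rintro q ⟨hq, hqU⟩
    obtain ⟨t, ht, rfl⟩ := mem_img.1 hq
    refine Subgroup.mem_bot.2 (prj_eq_one.2 (hK₀l ⟨hT₀W ht, Subgroup.mem_centralizer_iff.2 ?_⟩))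
    intro u hu
    have h1 : ⁅u, (t : Γ)⁆ ∈ lam := (prj_comm (x := ⟨u, hU₀L hu⟩) (y := t)).1
      (Subgroup.mem_centralizer_iff.1 hqU _ (prj_mem_img (x := ⟨u, hU₀L hu⟩) hu))
    have htU : (t : Γ) ∈ normalizer (U₀ : Set Γ) :=
      hUnorm _ (h.XV (hWX (hT₀W ht))) t.2
    have h2 : ⁅u, (t : Γ)⁆ ∈ U₀ := by
      rw [commutatorElement_def, mul_assoc u, mul_assoc u]
      exact U₀.mul_mem hu (conj_mem htU (U₀.inv_mem hu))
    exact commutatorElement_eq_one_iff_mul_comm.1 (hdisj _ h2 h1)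
  have hCV : U ⊓ centralizer ({prj lam a₂} : Set (Quo lam)) = ⊥ := by
    rw [eq_bot_iff]
    rintro q ⟨hq, hqa⟩
    obtain ⟨u, hu, rfl⟩ := mem_img.1 hq
    have h1 : ⁅a, (u : Γ)⁆ ∈ lam := (prj_comm (x := a₂) (y := u)).1
      (Subgroup.mem_centralizer_singleton_iff.1 hqa).symm
    have h2 : ⁅a, (u : Γ)⁆ ∈ U₀ := by
      rw [commutatorElement_def]
      exact U₀.mul_mem (conj_mem (hUnorm a h.aV aL) hu) (U₀.inv_mem hu)
    have h3 := commutatorElement_eq_one_iff_mul_comm.1 (hdisj _ h2 h1)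
    have h4 : (u : Γ) ∈ V ⊓ centralizer ({a} : Set Γ) :=
      ⟨hu.1, Subgroup.mem_centralizer_singleton_iff.2 h3.symm⟩
    rw [h.fixV, Subgroup.mem_bot] at h4
    exact Subgroup.mem_bot.2 (prj_eq_one.2 (h4 ▸ lam.one_mem))
  have hCQ : Q ⊓ centralizer ({prj lam a₂} : Set (Quo lam)) =
      (Subgroup.center Q).map Q.subtype := by
    refine le_antisymm ?_ (hCeq ▸ zpowers_le.2 ⟨prj_mem_img hz₀T,
      Subgroup.mem_centralizer_singleton_iff.2 ?_⟩)
    · rintro q ⟨hq, hqa⟩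
      obtain ⟨t, ht, rfl⟩ := mem_img.1 hq
      have h1 : ⁅a, (t : Γ)⁆ ∈ lam := (prj_comm (x := a₂) (y := t)).1
        (Subgroup.mem_centralizer_singleton_iff.1 hqa).symm
      have h1D : ⁅a, (t : Γ)⁆ ∈ D := hZD.le (hlZ h1)
      let t' : normalizer (D : Set Γ) := ⟨t, hT₀D ht⟩
      have h2 : prj D t' ∈ C ⊓ I := by
        refine ⟨⟨hIA ((hmemT t').1 ht), ?_⟩, (hmemT t').1 ht⟩
        show prj D t' ∈ centralizer (E : Set (Quo D))
        rw [hEc, Subgroup.mem_centralizer_singleton_iff]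
        exact ((prj_comm (x := a') (y := t')).2 h1D).symm
      rw [hIC, Subgroup.mem_bot] at h2
      have htZ : (t : Γ) ∈ Z := hZD.ge (prj_eq_one.1 h2)
      rw [hCeq]
      rcases hdich _ htZ with h5 | h5
      · rw [prj_eq_one.2 h5]
        exact one_mem _
      · have h6 : prj lam z₂ * prj lam t = 1 := by rw [← map_mul]; exact prj_eq_one.2 h5
        rw [eq_inv_of_mul_eq_one_right h6]
        exact inv_mem (mem_zpowers _)
    · rw [← map_mul, ← map_mul]
      exact congrArg _ (Subtype.ext (Subgroup.mem_centralizer_singleton_iff.1 (hZa hz₀)))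
  obtain ⟨-, m, hm, hQcard⟩ := Cfsg.Agent.S3764.main h.hp Nat.prime_two h.hr h.hp2 hr2.symm
    (prj lam a₂) Q U hord₂ hQ2 hcomeq hfrat hcen2 (prj_normalizes haT) hCQ hUab
    (prj_normalizes (hUnorm a h.aV aL))
    (img_le_normalizer fun t ht => hUnorm t (h.XV (hWX (hT₀W ht))) (hT₀L ht)) hfaith hCV
  -- counting
  have hZcard : Nat.card (img lam Z) = 2 := by
    rw [← hz₂ord, ← Nat.card_zpowers]
    refine congrArg (fun H : Subgroup (Quo lam) => Nat.card H) (le_antisymm (fun q hq => ?_)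
      (zpowers_le.2 (prj_mem_img hz₀)))
    obtain ⟨t, ht, rfl⟩ := mem_img.1 hq
    rcases hdich _ ht with h5 | h5
    · rw [prj_eq_one.2 h5]
      exact one_mem _
    · have h6 : prj lam z₂ * prj lam t = 1 := by rw [← map_mul]; exact prj_eq_one.2 h5
      rw [eq_inv_of_mul_eq_one_right h6]
      exact inv_mem (mem_zpowers _)
  have e1 := card_img hlT hT₀L
  have e2 := card_img hlZ (hZW.trans hWL)
  rw [hZcard, hZD] at e2
  rw [← hT₀card, ← e2, ← hQ, hQcard] at e1
  have e3 : Nat.card I = 2 ^ (2 * m) := by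
    apply Nat.eq_of_mul_eq_mul_right (show 0 < 2 * Nat.card lam from Nat.mul_pos two_pos Nat.card_pos)
    calc Nat.card I * (2 * Nat.card lam) = 2 ^ (2 * m + 1) * Nat.card lam := e1.symm
      _ = 2 ^ (2 * m) * (2 * Nat.card lam) := by ring
  have hm1 : 1 ≤ m := by
    rcases Nat.eq_zero_or_pos m with rfl | h0
    · exact absurd (by simpa using hm) hr2
    · exact h0
  -- a normal subgroup of `P` moves all of `W / D`
  have hY : ∀ Y : Subgroup Γ, Y ≤ P → Y ≠ ⊥ → a ∈ normalizer (Y : Set Γ) →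
      P ≤ normalizer (Y : Set Γ) → ∀ w ∈ W, (∀ x ∈ Y, ⁅w, x⁆ ∈ D) → w ∈ D := by
    intro Y hYP hYne aY hPY
    set R₁ : Subgroup Γ := W ⊓ ((centralizer (img D Y : Set (Quo D))).comap (prj D)).map
      (normalizer (D : Set Γ)).subtype with hR₁
    have hR₁mem : ∀ w, w ∈ R₁ ↔ w ∈ W ∧ ∀ x ∈ Y, ⁅w, x⁆ ∈ D := by
      intro w
      constructor
      · rintro ⟨hw, y, hy, rfl⟩
        exact ⟨hw, fun x hx => (prj_comm (x := y) (y := ⟨x, hPD (hYP hx)⟩)).1
          (Subgroup.mem_centralizer_iff.1 hy _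
            (prj_mem_img (x := ⟨x, hPD (hYP hx)⟩) hx)).symm⟩
      · rintro ⟨hw, hx⟩
        refine ⟨hw, ⟨w, hWD hw⟩, Subgroup.mem_centralizer_iff.2 fun q hq => ?_, rfl⟩
        obtain ⟨y, hy, rfl⟩ := mem_img.1 hq
        exact (prj_comm.2 (hx y hy)).symm
    have hR₁norm : ∀ g, g ∈ normalizer (W : Set Γ) → g ∈ normalizer (D : Set Γ) →
        g ∈ normalizer (Y : Set Γ) → g ∈ normalizer (R₁ : Set Γ) := by
      intro g hgW hgD hgY
      refine mem_normalizer_of_conj fun w hw => (hR₁mem _).2 ?_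
      obtain ⟨hwW, hwx⟩ := (hR₁mem w).1 hw
      refine ⟨conj_mem hgW hwW, fun x hx => ?_⟩
      have h1 := conj_mem hgD (hwx (g⁻¹ * x * g) (conj_mem' hgY hx))
      rwa [show g * ⁅w, g⁻¹ * x * g⁆ * g⁻¹ = ⁅g * w * g⁻¹, x⁆ by
        simp [commutatorElement_def, mul_assoc]] at h1
    have hne : R₁ ≠ W := by
      intro e
      refine hYne (eq_bot_iff.2 (hPfaith ▸ le_inf hYP ?_))
      have h1 : ⁅W, Y⁆ ≤ D := Subgroup.commutator_le.2 fun w hw x hx =>
        ((hR₁mem w).1 (e.ge hw)).2 x hx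
      have h2 : ⁅⁅W, Y⁆, Y⁆ = ⊥ := Subgroup.commutator_eq_bot_iff_le_centralizer.2
        ((h1.trans hDZ).trans (hZP.trans (Subgroup.centralizer_le hYP)))
      exact le_centralizer_of_commutator_commutator_eq_bot (hYP.trans hPW)
        (IsPGroup.coprime_card_of_ne p 2 h.hp2 Y W (hPp.to_le hYP) hW2)
        (Or.inl (isSolvable_of_isPGroup (hPp.to_le hYP))) h2
    have hR₁P : R₁ ≤ centralizer (P : Set Γ) := hprop R₁ inf_le_left hne (hR₁norm a aW aD aY)
      fun x hx => hR₁norm x (hPW hx) (hPD hx) (hPY hx)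
    intro w hw hwx
    exact hfixD w hw fun x hx => Subgroup.mem_centralizer_iff.1 (hR₁P ((hR₁mem w).2 ⟨hw, hwx⟩)) x hx
  -- the centre of `P` is moved
  set Zp : Subgroup Γ := P ⊓ centralizer (P : Set Γ) with hZp
  have hZpc : ∀ x ∈ Zp, ∀ y ∈ P, x * y = y * x := fun x hx y hy =>
    (Subgroup.mem_centralizer_iff.1 hx.2 y hy).symm
  have aZp : a ∈ normalizer (Zp : Set Γ) := normalizes_inf aP (normalizes_centralizer aP)
  set P₁ : Subgroup Γ := ⁅Zp, zpowers a⁆ with hP₁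
  have hP₁Z : P₁ ≤ Zp := commutator_le_self_of_le_normalizer (zpowers_le.2 aZp)
  have hcentN : ∀ Y : Subgroup Γ, Y ≤ Zp → P ≤ normalizer (Y : Set Γ) := fun Y hYZ x hx =>
    mem_normalizer_of_conj fun y hy => by
      rw [← hZpc y (hYZ hy) x hx, mul_inv_cancel_right]; exact hy
  have hP₁ne : P₁ ≠ ⊥ := by
    intro e
    have hfix : Zp ≤ centralizer ({a} : Set Γ) := by
      have h1 := Subgroup.commutator_eq_bot_iff_le_centralizer.1 e
      rwa [Subgroup.zpowers_eq_closure, Subgroup.centralizer_closure] at h1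
    have : Nontrivial P := (Subgroup.nontrivial_iff_ne_bot P).2 hPne
    have := hPp.center_nontrivial
    obtain ⟨⟨x, hx⟩, hx1⟩ := exists_ne (1 : Subgroup.center P)
    have hxZ : (x : Γ) ∈ Zp := ⟨x.2, Subgroup.mem_centralizer_iff.2 fun y hy =>
      congrArg Subtype.val (Subgroup.mem_center_iff.1 hx ⟨y, hy⟩)⟩
    obtain ⟨i, hi⟩ := IsPGroup.iff_orderOf.1 hPp x
    have hi0 : i ≠ 0 := fun e0 => hx1 (Subtype.ext (orderOf_eq_one_iff.1 (by rw [hi, e0, pow_zero])))
    obtain ⟨c, hcZ, hco⟩ : ∃ c ∈ Zp, orderOf c = p := by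
      refine ⟨(x : Γ) ^ p ^ (i - 1), pow_mem hxZ _, ?_⟩
      rw [orderOf_pow' _ (pow_ne_zero _ h.hp.ne_zero), Subgroup.orderOf_coe, hi,
        Nat.gcd_eq_right (pow_dvd_pow p (Nat.sub_le i 1)),
        Nat.pow_div (Nat.sub_le i 1) h.hp.pos, show i - (i - 1) = 1 by omega, pow_one]
    have hcP : c ∈ P := hcZ.1
    have hca : Commute c a := Subgroup.mem_centralizer_singleton_iff.1 (hfix hcZ)
    let c₂ : normalizer (lam : Set Γ) := ⟨c, hPL hcP⟩
    let c' : normalizer (D : Set Γ) := ⟨c, hPD hcP⟩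
    have hcT : c ∈ normalizer (T₀ : Set Γ) := mem_normalizer_of_conj fun t ht => by
      let t' : normalizer (D : Set Γ) := ⟨t, hT₀D ht⟩
      have hcE : prj D c' ∈ centralizer (E : Set (Quo D)) := by
        rw [hEc, Subgroup.mem_centralizer_singleton_iff, ← map_mul, ← map_mul]
        exact congrArg _ (Subtype.ext hca.eq)
      have hn : prj D c' ∈ normalizer (I : Set (Quo D)) :=
        normalizes_commutator (prj_normalizes (hPW hcP)) (mem_normalizer_of_conj fun e he => by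
          rw [← Subgroup.mem_centralizer_iff.1 hcE e he, mul_inv_cancel_right]; exact he)
      have h1 : prj D c' * prj D t' * (prj D c')⁻¹ ∈ I := conj_mem hn ((hmemT t').1 ht)
      rw [← map_inv, ← map_mul, ← map_mul] at h1
      simpa [c', t'] using (hmemT _).2 h1
    have hfixQ := FlavellGauss8.fixed_centralises (a := prj lam a₂) (c := prj lam c₂) h.hp h.hp2 h.hr
      hm1 hm (Ne.symm h.hrp) Q hcen2
      (fun d => by rw [← hfrat, ← pow_two]; exact PGroupsBasic.pow_mem_frattini hQ2 d)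
      (fun d e => hcomeq ▸ Subgroup.commutator_mem_commutator (Subgroup.mem_top d) (Subgroup.mem_top e))
      hQcard (by rw [← hord₂, pow_orderOf_eq_one])
      (by rw [← map_pow]; exact prj_eq_one.2 (by simp [c₂, ← hco, pow_orderOf_eq_one]))
      (fun q hq => conj_mem (prj_normalizes haT) hq)
      (fun q hq => conj_mem (prj_normalizes hcT) hq)
      (by
        show _ * _ = _ * _
        rw [← map_mul, ← map_mul]; exact congrArg _ (Subtype.ext hca.eq.symm))
      (fun q hq => by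
        rw [mul_inv_eq_iff_eq_mul, ← hCQ, Subgroup.mem_inf, Subgroup.mem_centralizer_singleton_iff]
        exact ⟨fun e => ⟨hq, e.symm⟩, fun e => e.2.symm⟩)
      (fun q hq => by
        rw [hCeq] at hq
        obtain ⟨j, rfl⟩ := mem_zpowers_iff.1 hq
        have h1 : Commute (prj lam c₂) (prj lam z₂) := by
          show _ * _ = _ * _
          rw [← map_mul, ← map_mul]
          exact congrArg _ (Subtype.ext (Subgroup.mem_centralizer_iff.1 (hZP hz₀) c hcP))
        rw [(h1.zpow_right j).eq, mul_inv_cancel_right])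
    refine hIne (eq_bot_iff.2 fun q hq => ?_)
    obtain ⟨t, ht, rfl⟩ := mem_img.1 (hT₀img.symm ▸ hq)
    refine Subgroup.mem_bot.2 (prj_eq_one.2 (hY (zpowers c) (zpowers_le.2 hcP) ?_ ?_
      (hcentN _ (zpowers_le.2 hcZ)) t (hT₀W ht) fun y hy => ?_))
    · exact fun e => h.hp.one_lt.ne' (by
        rw [← hco, orderOf_eq_one_iff]; exact Subgroup.zpowers_eq_bot.1 e)
    · exact mem_normalizer_of_conj fun y hy => by
        obtain ⟨j, rfl⟩ := mem_zpowers_iff.1 hy
        rw [← (hca.zpow_left j).eq, mul_inv_cancel_right]; exact hy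
    -- `c` centralises `T₀`
    let t₂ : normalizer (lam : Set Γ) := ⟨t, hT₀L ht⟩
    have h1 := hfixQ (prj lam t₂) (prj_mem_img ht)
    rw [mul_inv_eq_iff_eq_mul] at h1
    have h2 : ⁅c, (t : Γ)⁆ ∈ lam := (prj_comm (x := c₂) (y := t₂)).1 h1
    set l := ⁅c, (t : Γ)⁆ with hl
    have hcl : Commute c l :=
      (Subgroup.mem_centralizer_iff.1 (hZP (hlZ h2)) c hcP)
    have hit : ∀ j : ℕ, c ^ j * (t : Γ) * (c ^ j)⁻¹ = l ^ j * t := by
      intro j
      induction j with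
      | zero => simp
      | succ j ihj =>
        calc c ^ (j + 1) * (t : Γ) * (c ^ (j + 1))⁻¹
            = c * (c ^ j * (t : Γ) * (c ^ j)⁻¹) * c⁻¹ := by rw [pow_succ']; group
          _ = (c * l ^ j * c⁻¹) * (c * t * c⁻¹) := by rw [ihj]; group
          _ = l ^ j * (l * t) := by
              rw [(hcl.pow_right j).eq, mul_inv_cancel_right, hl]
              congr 1
              simp [commutatorElement_def, mul_assoc]
          _ = _ := by rw [← mul_assoc, ← pow_succ]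
    have hlp : l ^ p = 1 := by
      have h3 := hit p
      rw [show c ^ p = 1 by rw [← hco]; exact pow_orderOf_eq_one c, one_mul, inv_one, mul_one,
        eq_comm, mul_eq_right] at h3
      exact h3
    have hl1 : l = 1 := orderOf_eq_one_iff.1 (Nat.eq_one_of_dvd_coprimes
      ((Nat.coprime_primes h.hp Nat.prime_two).2 h.hp2) (orderOf_dvd_of_pow_eq_one hlp)
      (orderOf_dvd_of_pow_eq_one (by rw [sq]; exact hZ2 l (hlZ h2))))
    have hct : Commute c (t : Γ) := commutatorElement_eq_one_iff_mul_comm.1 hl1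
    obtain ⟨j, rfl⟩ := mem_zpowers_iff.1 hy
    rw [commutatorElement_eq_one_iff_mul_comm.2 (hct.zpow_left j).symm.eq]
    exact D.one_mem
  -- the Frobenius count
  have hP₁P : P₁ ≤ P := hP₁Z.trans inf_le_left
  have aP₁ : a ∈ normalizer (P₁ : Set Γ) :=
    normalizes_commutator aZp (Subgroup.le_normalizer (mem_zpowers a))
  have hcopP : (Nat.card (zpowers a)).Coprime (Nat.card Zp) := cop h (inf_le_left.trans hP)
  have : IsMulCommutative Zp := ⟨⟨fun x y => Subtype.ext (hZpc x x.2 y y.2.1)⟩⟩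
  have hfix₁ : ∀ x ∈ P₁, a * x = x * a → x = 1 := by
    intro x hx hax
    have h1 : x ∈ Zp ⊓ centralizer (zpowers a : Set Γ) ⊓ ⁅Zp, zpowers a⁆ := by
      refine ⟨⟨hP₁Z hx, ?_⟩, hx⟩
      rw [Subgroup.zpowers_eq_closure, Subgroup.centralizer_closure]
      exact Subgroup.mem_centralizer_singleton_iff.2 hax.symm
    rwa [inf_centralizer_inf_commutator_eq_bot (zpowers_le.2 aZp) hcopP, Subgroup.mem_bot] at h1
  set U₁ := img D P₁ with hU₁
  have hU₁p : IsPGroup p U₁ := img_isPGroup (hPp.to_le hP₁P)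
  have hU₁A : U₁ ≤ normalizer (A : Set (Quo D)) := img_le_normalizer (hP₁P.trans hPW)
  have hfpf : ∀ e ∈ E, e ≠ 1 → ∀ u ∈ U₁, e * u = u * e → u = 1 := by
    intro e he hne u hu heu
    have := Fact.mk h.hr
    obtain ⟨i, hi⟩ := mem_zpowers_of_prime_card (g := (⟨e, he⟩ : E))
      (g' := ⟨prj D a', mem_zpowers _⟩) hEcard (fun e' => hne (congrArg Subtype.val e'))
    have hi' : e ^ i = prj D a' := congrArg Subtype.val hi
    have h1 : prj D a' * u = u * prj D a' := hi' ▸ (Commute.zpow_left heu i).eq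
    obtain ⟨x, hx, rfl⟩ := mem_img.1 hu
    have h2 := prj_comm.1 h1
    have h3 : ⁅a, (x : Γ)⁆ ∈ P ⊓ W := by
      refine ⟨?_, hDW h2⟩
      rw [commutatorElement_def]
      exact P.mul_mem (conj_mem aP (hP₁P hx)) (P.inv_mem (hP₁P hx))
    rw [(Subgroup.inf_eq_bot_of_coprime hcopPW), Subgroup.mem_bot,
      commutatorElement_eq_one_iff_mul_comm] at h3
    exact prj_eq_one.2 (hfix₁ _ hx h3 ▸ D.one_mem)
  have hCP₁ : A ⊓ centralizer (U₁ : Set (Quo D)) = ⊥ := by
    rw [eq_bot_iff]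
    rintro q ⟨hq, hqc⟩
    obtain ⟨w, hw, rfl⟩ := mem_img.1 hq
    refine Subgroup.mem_bot.2 (prj_eq_one.2 (hY P₁ hP₁P hP₁ne aP₁ (hcentN _ hP₁Z) w hw fun x hx => ?_))
    exact (prj_comm (x := w) (y := ⟨x, hPD (hP₁P hx)⟩)).1
      (Subgroup.mem_centralizer_iff.1 hqc _ (prj_mem_img (x := ⟨x, hPD (hP₁P hx)⟩) hx)).symm
  have hp2' : ¬ 2 ∣ Nat.card U₁ := by
    obtain ⟨k, hk⟩ := IsPGroup.iff_card.1 hU₁p
    rw [hk]
    exact fun hd => h.hp2 ((Nat.prime_dvd_prime_iff_eq Nat.prime_two h.hp).1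
      (Nat.prime_two.dvd_of_dvd_pow hd)).symm
  have hcard := FrobeniusFixedPoints.card_of_fixedPointFree (U := U₁) (E := E) (V := A)
    (zpowers_le.2 (prj_normalizes aP₁)) hfpf hU₁p.isNilpotent Nat.prime_two hAc hA2e hU₁A hEA
    hp2' hCP₁
  rw [hEcard] at hcard
  have hk2 : 2 ≤ k := by
    by_contra hlt
    rcases (show k = 0 ∨ k = 1 by omega) with rfl | rfl
    · rw [pow_zero] at hk
      rw [hk, one_pow] at hcard
      refine hWD' fun w hw => ?_
      have h1 : prj D ⟨w, hWD hw⟩ ∈ A := prj_mem_img hw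
      rw [Subgroup.card_eq_one.1 hcard, Subgroup.mem_bot] at h1
      exact prj_eq_one.1 h1
    · rw [pow_one] at hk
      have hCne : C ≠ ⊥ := fun e => by rw [hC] at e; rw [e, Subgroup.card_bot] at hk; omega
      obtain ⟨γ, hγ, hγ1⟩ := C.bot_or_exists_ne_one.resolve_left hCne
      obtain ⟨c, hc, rfl⟩ := mem_img.1 hγ.1
      have hac : ⁅a, (c : Γ)⁆ ∈ D := (prj_comm (x := a') (y := c)).1
        (Subgroup.mem_centralizer_iff.1 hγ.2 _ (mem_zpowers _))
      refine hγ1 (prj_eq_one.2 (hZD.le ?_))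
      refine ⟨hc, Subgroup.mem_centralizer_iff.2 fun w hw => ?_⟩
      obtain ⟨t, ht, c₁, hc₁, -, hcL, hcC, rfl⟩ := hdec w hw
      have h1 := horth c hc hac t ht
      have hC2 : ∀ q ∈ C, q = 1 ∨ q = prj D c := by
        intro q hq
        by_contra hcon
        rw [not_or] at hcon
        have := Fintype.ofFinite C
        have h3 : ({⟨1, C.one_mem⟩, ⟨prj D c, hγ⟩, ⟨q, hq⟩} : Finset C).card = 3 := by
          rw [Finset.card_eq_three]
          exact ⟨_, _, _, fun e => hγ1 (congrArg Subtype.val e).symm,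
            fun e => hcon.1 (congrArg Subtype.val e).symm,
            fun e => hcon.2 (congrArg Subtype.val e).symm, rfl⟩
        have h4 := Finset.card_le_univ ({⟨1, C.one_mem⟩, ⟨prj D c, hγ⟩, ⟨q, hq⟩} : Finset C)
        rw [h3, ← Nat.card_eq_fintype_card, hk] at h4
        omega
      have h2 : (c : Γ) * c₁ = c₁ * c := by
        rcases hC2 _ hcC with e | e
        · exact (hZc c₁ (hDZ (prj_eq_one.1 e)) c hc).symm
        · have hd : c₁⁻¹ * (c : Γ) ∈ D := prj_eq.1 e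
          have := hZc _ (hDZ hd) (c₁⁻¹ * c) (W.mul_mem (W.inv_mem hc₁) hc)
          have h5 := hZc _ (hDZ hd) c₁ hc₁
          calc (c : Γ) * c₁ = c₁ * ((c₁⁻¹ * c) * c₁) := by group
            _ = c₁ * (c₁ * (c₁⁻¹ * c)) := by rw [h5]
            _ = c₁ * c := by group
      calc t * c₁ * (c : Γ) = t * (c * c₁) := by rw [h2, mul_assoc]
        _ = c * (t * c₁) := by rw [← mul_assoc, ← h1, mul_assoc]
  rw [hAIC, hk, e3, ← pow_mul, ← pow_add] at hcard
  have e4 := Nat.pow_right_injective le_rfl hcard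
  rw [hm, Nat.mul_add, mul_one] at e4
  have e5 : m < 2 ^ m := Nat.lt_two_pow_self
  have e6 : 2 * 2 ^ m ≤ k * 2 ^ m := Nat.mul_le_mul_right _ hk2
  omega

end Cfsg.Agent.Flavell8
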