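import Mathlib

/-!
The weighted count behind `k(GL(n,q)) ≤ q^n`.
-/

set_option autoImplicit false

namespace Cfsg.Agent.GLClassCount53

/-- number of monic polynomials of degree `d` with nonzero constant term -/
def cnt (q d : ℕ) : ℕ := if d = 0 then 1 else (q - 1) * q ^ (d - 1)

/-- number of `k`-tuples of such polynomials of weighted degree `m` -/
def tot (q : ℕ) : ℕ → ℕ → ℕ
  | 0, m => if m = 0 then 1 else 0
  | k + 1, m => ∑ d ∈ Finset.range (m / (k + 1) + 1), cnt q d * tot q k (m - d * (k + 1))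

theorem tot_zero (q k : ℕ) : tot q k 0 = 1 := by
  induction k with
  | zero => simp [tot]
  | succ k ih => simp [tot, cnt, ih]

theorem cnt_pos {q : ℕ} (hq : 2 ≤ q) {d : ℕ} (hd : 0 < d) :
    (cnt q d : ℚ) = (1 - 1 / (q : ℚ)) * (q : ℚ) ^ d := by
  obtain ⟨e, rfl⟩ : ∃ e, d = e + 1 := ⟨d - 1, by omega⟩
  have h0 : (q : ℚ) ≠ 0 := by positivity
  simp only [cnt, Nat.succ_ne_zero, if_false, Nat.add_sub_cancel]
  push_cast [Nat.cast_sub (by omega : 1 ≤ q)]
  rw [pow_succ]
  field_simp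

theorem geom_id {q : ℕ} (hq : 2 ≤ q) (k m : ℕ) : ∀ L, L * (k + 2) ≤ m →
    ∑ d ∈ Finset.range (L + 1), (cnt q d : ℚ) * ((q : ℚ) ^ (m - d * (k + 2)) * (1 - (1 / (q : ℚ)) ^ (k + 1)))
      = (q : ℚ) ^ m * (1 - 1 / (q : ℚ) * (1 / (q : ℚ)) ^ (k + 1) -
          (1 - 1 / (q : ℚ)) * ((1 / (q : ℚ)) ^ (k + 1)) ^ (L + 1)) := by
  intro L
  induction L with
  | zero =>
    intro _
    simp only [zero_add, Finset.sum_range_one, zero_mul, Nat.sub_zero, pow_one]
    simp only [cnt, if_true, Nat.cast_one]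
    ring
  | succ L ih =>
    intro hL
    rw [Finset.sum_range_succ, ih (le_trans (Nat.mul_le_mul_right _ (Nat.le_succ L)) hL),
      cnt_pos hq (Nat.succ_pos L), Nat.succ_eq_add_one]
    have h0 : (q : ℚ) ≠ 0 := by positivity
    have hp : (q : ℚ) ^ (L + 1) * (q : ℚ) ^ (m - (L + 1) * (k + 2)) =
        (q : ℚ) ^ m * ((1 / (q : ℚ)) ^ (k + 1)) ^ (L + 1) := by
      rw [one_div_pow, one_div_pow, ← pow_mul, ← pow_add, mul_one_div, eq_div_iff (pow_ne_zero _ h0), ← pow_add]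
      congr 1
      have : (L + 1) * (k + 2) = (k + 1) * (L + 1) + (L + 1) := by ring
      omega
    linear_combination (1 - 1 / (q : ℚ)) * (1 - (1 / (q : ℚ)) ^ (k + 1)) * hp

theorem tot_le_rat {q : ℕ} (hq : 2 ≤ q) : ∀ k m, 0 < m →
    (tot q (k + 1) m : ℚ) ≤ (q : ℚ) ^ m * (1 - (1 / (q : ℚ)) ^ (k + 1)) := by
  intro k
  induction k with
  | zero =>
    intro m hm
    refine le_of_eq ?_
    simp only [tot, zero_add, Nat.div_one, mul_one, pow_one]
    rw [Finset.sum_range_succ, Finset.sum_eq_zero (fun d hd => ?_), zero_add, Nat.sub_self, if_pos rfl,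
      mul_one, cnt_pos hq hm]
    · ring
    · rw [Finset.mem_range] at hd
      rw [if_neg (by omega), mul_zero]
  | succ k ih =>
    intro m hm
    have hx1 : (0 : ℚ) ≤ 1 - 1 / (q : ℚ) := by
      rw [sub_nonneg, div_le_one (by positivity)]
      exact_mod_cast Nat.le_of_lt hq
    have hx0 : (0 : ℚ) ≤ (1 / (q : ℚ)) ^ (k + 1) := by positivity
    have hk2 : k + 1 + 1 = k + 2 := rfl
    rw [tot, hk2]
    push_cast
    have hD : m / (k + 2) * (k + 2) ≤ m := Nat.div_mul_le_self _ _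
    set D := m / (k + 2) with hDdef
    have hpw : (1 / (q : ℚ)) ^ (k + 2) = 1 / (q : ℚ) * (1 / (q : ℚ)) ^ (k + 1) := pow_succ' _ _
    rw [hpw]
    have hlow : ∀ d ∈ Finset.range D, (cnt q d : ℚ) * (tot q (k + 1) (m - d * (k + 2)) : ℚ) ≤
        (cnt q d : ℚ) * ((q : ℚ) ^ (m - d * (k + 2)) * (1 - (1 / (q : ℚ)) ^ (k + 1))) := by
      intro d hd
      rw [Finset.mem_range] at hd
      refine mul_le_mul_of_nonneg_left (ih _ ?_) (Nat.cast_nonneg _)
      have : (d + 1) * (k + 2) ≤ D * (k + 2) := Nat.mul_le_mul_right _ hd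
      rw [add_mul, one_mul] at this
      omega
    by_cases hex : D * (k + 2) = m
    · rw [Finset.sum_range_succ]
      have h1 := Finset.sum_le_sum hlow
      have hDpos : 0 < D := by
        rcases Nat.eq_zero_or_pos D with h | h
        · rw [h] at hex; omega
        · exact h
      obtain ⟨L, hL⟩ : ∃ L, D = L + 1 := ⟨D - 1, by omega⟩
      rw [hL, geom_id hq k m L (by rw [hL, add_mul] at hD; omega)] at h1
      have hlast : (cnt q D : ℚ) * (tot q (k + 1) (m - D * (k + 2)) : ℚ) =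
          (q : ℚ) ^ m * ((1 - 1 / (q : ℚ)) * ((1 / (q : ℚ)) ^ (k + 1)) ^ D) := by
        rw [hex, Nat.sub_self, tot_zero, Nat.cast_one, mul_one, cnt_pos hq hDpos, ← hex]
        have h0 : (q : ℚ) ≠ 0 := by positivity
        have : (q : ℚ) ^ D = (q : ℚ) ^ (D * (k + 2)) * ((1 / (q : ℚ)) ^ (k + 1)) ^ D := by
          rw [← pow_mul, one_div_pow, mul_one_div, eq_div_iff (pow_ne_zero _ h0), ← pow_add]
          congr 1
          ring
        rw [this]
        ring
      rw [hlast, hL]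
      rw [← hL]
      rw [← hL] at h1
      linarith
    · have h1 : ∑ d ∈ Finset.range (D + 1), (cnt q d : ℚ) * (tot q (k + 1) (m - d * (k + 2)) : ℚ) ≤
          ∑ d ∈ Finset.range (D + 1),
            (cnt q d : ℚ) * ((q : ℚ) ^ (m - d * (k + 2)) * (1 - (1 / (q : ℚ)) ^ (k + 1))) := by
        refine Finset.sum_le_sum fun d hd => ?_
        rw [Finset.mem_range] at hd
        refine mul_le_mul_of_nonneg_left (ih _ ?_) (Nat.cast_nonneg _)
        have : d * (k + 2) ≤ D * (k + 2) := Nat.mul_le_mul_right _ (by omega)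
        omega
      rw [geom_id hq k m D hD] at h1
      refine h1.trans ?_
      have : (0 : ℚ) ≤ (q : ℚ) ^ m * ((1 - 1 / (q : ℚ)) * ((1 / (q : ℚ)) ^ (k + 1)) ^ (D + 1)) := by
        positivity
      linarith

theorem tot_le {q : ℕ} (hq : 2 ≤ q) (k m : ℕ) (hm : 0 < m) : tot q k m ≤ q ^ m := by
  cases k with
  | zero => simp [tot, hm.ne']
  | succ k =>
    have h := tot_le_rat hq k m hm
    have h0 : (0 : ℚ) ≤ (q : ℚ) ^ m * (1 / (q : ℚ)) ^ (k + 1) := by positivity
    have : (tot q (k + 1) m : ℚ) ≤ (q : ℚ) ^ m := by linarith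
    exact_mod_cast this

end Cfsg.Agent.GLClassCount53
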