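import Mathlib
import Cfsg.Agent.Lib.GLClassCount53

/-!
Similarity classes of invertible matrices as exponent-graded tuples of polynomials.
-/

set_option autoImplicit false

open Polynomial

namespace Cfsg.Agent.GLClassBound53

universe u

variable {F : Type u} [Field F]

def Good (p : F[X]) : Prop := p.Monic ∧ p.coeff 0 ≠ 0

abbrev P (F : Type u) [Field F] (d : ℕ) : Type u := {p : F[X] // Good p ∧ p.natDegree = d}

abbrev T (F : Type u) [Field F] (k m : ℕ) : Type u :=
  {h : Fin k → F[X] // (∀ j, Good (h j)) ∧ ∑ j : Fin k, ((j : ℕ) + 1) * (h j).natDegree = m}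

theorem card_P_zero : Nat.card (P F 0) = 1 := by
  haveI : Unique (P F 0) :=
    { default := ⟨1, ⟨monic_one, by simp⟩, natDegree_one⟩
      uniq := fun p => Subtype.ext (p.2.1.1.natDegree_eq_zero.1 p.2.2) }
  exact Nat.card_unique

noncomputable def coeffEquiv (d : ℕ) :
    {p : F[X] // p.Monic ∧ p.natDegree = d} ≃ (Fin d → F) :=
  (monicEquivDegreeLT d).trans (degreeLTEquiv F d).toEquiv

theorem coeffEquiv_apply {d : ℕ} (p : {p : F[X] // p.Monic ∧ p.natDegree = d}) (i : Fin d) :
    coeffEquiv d p i = p.1.coeff i := by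
  show (p.1.eraseLead).coeff i = _
  rw [eraseLead_coeff_of_ne]
  rw [p.2.2]
  exact ne_of_lt i.2

noncomputable def PEquiv (d : ℕ) : P F (d + 1) ≃ {a : F // a ≠ 0} × (Fin d → F) :=
  ({ toFun := fun p => ⟨coeffEquiv (d + 1) ⟨p.1, p.2.1.1, p.2.2⟩, by
        rw [coeffEquiv_apply]; exact p.2.1.2⟩
     invFun := fun v => ⟨((coeffEquiv (d + 1)).symm v.1).1,
        ⟨((coeffEquiv (d + 1)).symm v.1).2.1, by
          have h := coeffEquiv_apply ((coeffEquiv (F := F) (d + 1)).symm v.1) 0
          rw [Equiv.apply_symm_apply] at h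
          intro h0
          exact v.2 (h.trans h0)⟩, ((coeffEquiv (d + 1)).symm v.1).2.2⟩
     left_inv := fun p => by apply Subtype.ext; simp
     right_inv := fun v => by apply Subtype.ext; simp } :
    P F (d + 1) ≃ {v : Fin (d + 1) → F // v 0 ≠ 0}).trans
  { toFun := fun v => (⟨v.1 0, v.2⟩, fun i => v.1 i.succ)
    invFun := fun w => ⟨Fin.cons w.1.1 w.2, by simpa using w.1.2⟩
    left_inv := fun v => Subtype.ext (by simp [← Fin.tail_def, Fin.cons_self_tail])
    right_inv := fun w => by simp }

instance instFiniteP [Finite F] (d : ℕ) : Finite (P F d) := by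
  cases d with
  | zero => exact (Nat.card_pos_iff.1 (by rw [card_P_zero]; norm_num)).2
  | succ d => exact Finite.of_equiv _ (PEquiv d).symm

theorem card_P [Fintype F] (d : ℕ) : Nat.card (P F d) = GLClassCount53.cnt (Fintype.card F) d := by
  classical
  cases d with
  | zero => simp [card_P_zero, GLClassCount53.cnt]
  | succ d =>
    rw [Nat.card_congr (PEquiv d), Nat.card_prod, Nat.card_eq_fintype_card, Nat.card_eq_fintype_card,
      Fintype.card_subtype_compl, Fintype.card_subtype_eq, Fintype.card_fun, Fintype.card_fin]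
    simp [GLClassCount53.cnt]

theorem finite_T [Fintype F] : ∀ k m : ℕ, Finite (T F k m) ∧
    Nat.card (T F k m) ≤ GLClassCount53.tot (Fintype.card F) k m := by
  intro k
  induction k with
  | zero =>
    intro m
    haveI : Subsingleton (T F 0 m) := ⟨fun a b => Subtype.ext (funext fun j => Fin.elim0 j)⟩
    refine ⟨inferInstance, ?_⟩
    by_cases hm : m = 0
    · simp only [GLClassCount53.tot, hm, if_true]
      exact Finite.card_le_one_iff_subsingleton.2 inferInstance
    · haveI : IsEmpty (T F 0 m) := ⟨fun a => hm (by simpa using a.2.2.symm)⟩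
      simp
  | succ k ih =>
    intro m
    haveI := fun j => (ih j).1
    let S := Σ d : Fin (m / (k + 1) + 1), P F (d : ℕ) × T F k (m - (d : ℕ) * (k + 1))
    have hsplit : ∀ h : T F (k + 1) m,
        ∑ j : Fin k, ((j : ℕ) + 1) * (h.1 j.castSucc).natDegree + (k + 1) * (h.1 (Fin.last k)).natDegree = m := by
      intro h
      have := h.2.2
      rw [Fin.sum_univ_castSucc] at this
      simpa using this
    let f : T F (k + 1) m → S := fun h =>
      ⟨⟨(h.1 (Fin.last k)).natDegree, by
          have := hsplit h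
          have h2 : (h.1 (Fin.last k)).natDegree ≤ m / (k + 1) :=
            (Nat.le_div_iff_mul_le k.succ_pos).2 (by rw [Nat.succ_eq_add_one, mul_comm]; exact le_trans (Nat.le_add_left _ _) this.le)
          omega⟩,
        ⟨h.1 (Fin.last k), h.2.1 _, rfl⟩, ⟨fun j => h.1 j.castSucc, fun j => h.2.1 _, by
          have := hsplit h
          show _ = m - (h.1 (Fin.last k)).natDegree * (k + 1)
          rw [mul_comm _ (k + 1)]
          exact Nat.eq_sub_of_add_eq this⟩⟩
    have hf : Function.Injective f := by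
      intro a b hab
      have h1 := congrArg (fun s : S => s.2.1.1) hab
      have h2 := congrArg (fun s : S => s.2.2.1) hab
      refine Subtype.ext (funext fun j => ?_)
      refine Fin.lastCases ?_ (fun i => ?_) j
      · exact h1
      · exact congrFun h2 i
    refine ⟨Finite.of_injective f hf, (Nat.card_le_card_of_injective f hf).trans ?_⟩
    rw [Nat.card_sigma, GLClassCount53.tot, Finset.sum_range]
    refine Finset.sum_le_sum fun d _ => ?_
    rw [Nat.card_prod, card_P]
    exact Nat.mul_le_mul_left _ (ih _).2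

variable {n : ℕ}

abbrev Md (g : Matrix (Fin n) (Fin n) F) : Type u := Module.AEval' (Matrix.toLin' g)

abbrev Q (f : F[X]) : Type u := F[X] ⧸ (F[X] ∙ f)

theorem finrank_Q {f : F[X]} (hf : f ≠ 0) : Module.finrank F (Q f) = f.natDegree := by
  have h := (AdjoinRoot.powerBasis hf).finrank
  rw [AdjoinRoot.powerBasis_dim] at h
  exact h

theorem isConj_of_iso (g h : GL (Fin n) F) (E : Md (g : Matrix (Fin n) (Fin n) F) ≃ₗ[F[X]] Md (h : Matrix (Fin n) (Fin n) F)) :
    IsConj g h := by
  classical
  let φ : (Fin n → F) ≃ₗ[F] (Fin n → F) :=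
    ((Module.AEval'.of (Matrix.toLin' (g : Matrix (Fin n) (Fin n) F))).trans (E.restrictScalars F)).trans
      (Module.AEval'.of (Matrix.toLin' (h : Matrix (Fin n) (Fin n) F))).symm
  have hc : φ.toLinearMap ∘ₗ Matrix.toLin' (g : Matrix (Fin n) (Fin n) F) =
      Matrix.toLin' (h : Matrix (Fin n) (Fin n) F) ∘ₗ φ.toLinearMap := by
    refine LinearMap.ext fun v => ?_
    simp only [LinearMap.comp_apply, LinearEquiv.coe_coe, φ, LinearEquiv.trans_apply,
      LinearEquiv.restrictScalars_apply]
    rw [← Module.AEval'.X_smul_of, map_smul, Module.AEval'.of_symm_X_smul]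
  have hm := congrArg LinearMap.toMatrix' hc
  rw [LinearMap.toMatrix'_comp, LinearMap.toMatrix'_comp, LinearMap.toMatrix'_toLin',
    LinearMap.toMatrix'_toLin'] at hm
  have hu : IsUnit (LinearMap.toMatrix' φ.toLinearMap).det := by
    rw [LinearMap.det_toMatrix']
    exact LinearEquiv.isUnit_det' φ
  refine ⟨toUnits (Matrix.GeneralLinearGroup.mkOfDetNeZero _ hu.ne_zero), ?_⟩
  exact Units.ext hm

theorem exists_decomp (hn : 1 ≤ n) (g : GL (Fin n) F) :
    ∃ (ι : Type u) (_ : Fintype ι) (p : ι → F[X]) (e : ι → ℕ) (lev : ι → Fin n),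
      (∀ i, Irreducible (p i) ∧ Good (p i) ∧ (lev i : ℕ) + 1 = e i) ∧
      ∑ i, e i * (p i).natDegree = n ∧
      Nonempty (Md (g : Matrix (Fin n) (Fin n) F) ≃ₗ[F[X]] ((i : ι) → Q (p i ^ e i))) := by
  classical
  obtain ⟨ι₀, _, p₀, hp₀, e₀, ⟨E₀⟩⟩ := Module.equiv_directSum_of_isTorsion (R := F[X])
    (M := Md (g : Matrix (Fin n) (Fin n) F)) (Module.AEval.isTorsion_of_finiteDimensional F _ _)
  let ι := {i : ι₀ // e₀ i ≠ 0}
  let p : ι → F[X] := fun i => normalize (p₀ i.1)
  let e : ι → ℕ := fun i => e₀ i.1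
  let R : ((i : ι₀) → Q (p₀ i ^ e₀ i)) →ₗ[F[X]] ((i : ι) → Q (p₀ i.1 ^ e i)) :=
    LinearMap.pi fun i => LinearMap.proj i.1
  have hR : Function.Bijective R := by
    constructor
    · intro a b hab
      funext i
      by_cases hi : e₀ i = 0
      · haveI : Subsingleton (Q (p₀ i ^ e₀ i)) := by
          rw [Submodule.Quotient.subsingleton_iff, hi, pow_zero]
          exact Ideal.span_singleton_one
        exact Subsingleton.elim _ _
      · exact congrFun hab ⟨i, hi⟩
    · intro y
      refine ⟨fun i => if hi : e₀ i = 0 then 0 else y ⟨i, hi⟩, funext fun i => ?_⟩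
      show (if hi : e₀ i.1 = 0 then _ else y ⟨i.1, hi⟩) = y i
      rw [dif_neg i.2]
  have hass : ∀ i : ι, (F[X] ∙ p₀ i.1 ^ e i) = (F[X] ∙ p i ^ e i) := fun i =>
    Ideal.span_singleton_eq_span_singleton.2 ((normalize_associated _).symm.pow_pow)
  let E : Md (g : Matrix (Fin n) (Fin n) F) ≃ₗ[F[X]] ((i : ι) → Q (p i ^ e i)) :=
    ((E₀.trans (DirectSum.linearEquivFunOnFintype F[X] ι₀ fun i => Q (p₀ i ^ e₀ i))).trans
      (LinearEquiv.ofBijective R hR)).trans (LinearEquiv.piCongrRight fun i => Submodule.quotEquivOfEq _ _ (hass i))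
  have hmon : ∀ i, (p i).Monic := fun i => monic_normalize (hp₀ i.1).ne_zero
  have hirr : ∀ i, Irreducible (p i) := fun i => (normalize_associated _).symm.irreducible (hp₀ i.1)
  have hdim : ∑ i, e i * (p i).natDegree = n := by
    have h := LinearEquiv.finrank_eq (E.restrictScalars F)
    rw [← LinearEquiv.finrank_eq (Module.AEval'.of (Matrix.toLin' (g : Matrix (Fin n) (Fin n) F))),
      Module.finrank_fintype_fun_eq_card, Fintype.card_fin] at h
    haveI : ∀ i, Module.Finite F (Q (p i ^ e i)) := fun i =>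
      Module.Finite.of_basis (AdjoinRoot.powerBasis (pow_ne_zero (e i) (hmon i).ne_zero)).basis
    rw [Module.finrank_pi_fintype] at h
    rw [h]
    exact Finset.sum_congr rfl fun i _ => by rw [finrank_Q (pow_ne_zero _ (hmon i).ne_zero), natDegree_pow]
  have hle : ∀ i, e i ≤ n := fun i => by
    have h1 : e i * (p i).natDegree ≤ n :=
      hdim ▸ Finset.single_le_sum (f := fun i => e i * (p i).natDegree) (fun _ _ => Nat.zero_le _) (Finset.mem_univ i)
    exact le_trans (Nat.le_mul_of_pos_right _ (hirr i).natDegree_pos) h1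
  have hcoeff : ∀ i, (p i).coeff 0 ≠ 0 := by
    intro i hi
    let v : (i : ι) → Q (p i ^ e i) := Pi.single i (Submodule.Quotient.mk 1)
    have h0 : (g : Matrix (Fin n) (Fin n) F).charpoly • E.symm v = 0 := by
      obtain ⟨w, hw⟩ := (Module.AEval'.of (Matrix.toLin' (g : Matrix (Fin n) (Fin n) F))).surjective (E.symm v)
      rw [← hw, ← Module.AEval.of_aeval_smul]
      simp [← Matrix.toLinAlgEquiv'_apply, Matrix.aeval_self_charpoly, ← Matrix.charpoly_toLin', LinearMap.aeval_self_charpoly]
    have h1 := congrFun (congrArg E h0) i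
    rw [map_smul, LinearEquiv.apply_symm_apply, map_zero, Pi.smul_apply, Pi.zero_apply] at h1
    simp only [v, Pi.single_eq_same] at h1
    rw [← Submodule.Quotient.mk_smul, Submodule.Quotient.mk_eq_zero, smul_eq_mul, mul_one,
      Submodule.mem_span_singleton] at h1
    obtain ⟨r, hr⟩ := h1
    have h2 : (g : Matrix (Fin n) (Fin n) F).charpoly.coeff 0 = 0 := by
      rw [← hr, smul_eq_mul, mul_coeff_zero, coeff_zero_eq_eval_zero (p i ^ e i), eval_pow,
        ← coeff_zero_eq_eval_zero, hi, zero_pow i.2, mul_zero]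
    have h3 := Matrix.det_eq_sign_charpoly_coeff (g : Matrix (Fin n) (Fin n) F)
    rw [h2, mul_zero] at h3
    exact Matrix.GeneralLinearGroup.det_ne_zero g h3
  refine ⟨ι, inferInstance, p, e, fun i => ⟨e i - 1, by have := hle i; omega⟩,
    fun i => ⟨hirr i, ⟨hmon i, hcoeff i⟩, ?_⟩, hdim, ⟨E⟩⟩
  have : e i ≠ 0 := i.2
  simp only
  omega

theorem card_conjClasses_le [Fintype F] (hn : 1 ≤ n) :
    Nat.card (ConjClasses (GL (Fin n) F)) ≤ Nat.card (T F n n) := by
  classical
  haveI := (finite_T (F := F) n n).1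
  choose ι _ p e lev hpe hsum hiso using fun x : ConjClasses (GL (Fin n) F) => exists_decomp hn x.out
  let M : ConjClasses (GL (Fin n) F) → Fin n → Multiset F[X] := fun x j =>
    (Finset.univ.filter fun i => lev x i = j).val.map (p x)
  have hM : ∀ x j, ∀ f ∈ M x j, Irreducible f ∧ Good f := by
    intro x j f hf
    obtain ⟨i, -, rfl⟩ := Multiset.mem_map.1 hf
    exact ⟨(hpe x i).1, (hpe x i).2.1⟩
  have hgood : ∀ x j, Good (M x j).prod := by
    intro x j
    refine ⟨by simpa using monic_multiset_prod_of_monic (M x j) id (fun f hf => (hM x j f hf).2.1), ?_⟩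
    rw [coeff_zero_multiset_prod]
    simp only [ne_eq, Multiset.prod_eq_zero_iff, Multiset.mem_map, not_exists, not_and]
    intro f hf
    exact (hM x j f hf).2.2
  have hdeg : ∀ x, ∑ j : Fin n, ((j : ℕ) + 1) * (M x j).prod.natDegree = n := by
    intro x
    refine Eq.trans ?_ (hsum x)
    rw [← Finset.sum_fiberwise Finset.univ (lev x) (fun i => e x i * (p x i).natDegree)]
    refine Finset.sum_congr rfl fun j _ => ?_
    rw [natDegree_multiset_prod_of_monic _ (fun f hf => (hM x j f hf).2.1), Multiset.map_map]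
    show _ * ∑ i ∈ Finset.univ.filter (fun i => lev x i = j), (p x i).natDegree = _
    rw [Finset.mul_sum]
    refine Finset.sum_congr rfl fun i hi => ?_
    rw [← (Finset.mem_filter.1 hi).2, (hpe x i).2.2]
  let f : ConjClasses (GL (Fin n) F) → T F n n := fun x => ⟨fun j => (M x j).prod, hgood x, hdeg x⟩
  refine Nat.card_le_card_of_injective f fun x y hxy => ?_
  have hMeq : ∀ j, M x j = M y j := by
    intro j
    have hnf : ∀ z, UniqueFactorizationMonoid.normalizedFactors (M z j).prod = M z j := by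
      intro z
      rw [UniqueFactorizationMonoid.normalizedFactors_multiset_prod _
        (fun h => not_irreducible_zero (hM z j 0 h).1)]
      rw [Multiset.map_congr rfl fun f hf => (show UniqueFactorizationMonoid.normalizedFactors f = {f} by
        rw [UniqueFactorizationMonoid.normalizedFactors_irreducible (hM z j f hf).1, (hM z j f hf).2.1.normalize_eq_self])]
      exact Multiset.sum_map_singleton _
    rw [← hnf x, ← hnf y]
    exact congrArg (fun t : T F n n => UniqueFactorizationMonoid.normalizedFactors (t.1 j)) hxy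
  have hfib : ∀ c : F[X] × Fin n, Nat.card {i // (p x i, lev x i) = c} = Nat.card {i // (p y i, lev y i) = c} := by
    intro c
    have key : ∀ z, Nat.card {i // (p z i, lev z i) = c} = (M z c.2).count c.1 := by
      intro z
      rw [Nat.card_eq_fintype_card, Fintype.card_subtype, Multiset.count_map, ← Finset.filter_val,
        Finset.filter_filter, Finset.card_val]
      congr 1
      ext i
      simp [Prod.ext_iff, and_comm, eq_comm]
    rw [key, key, hMeq]
  let σ : ι x ≃ ι y := Equiv.ofFiberEquiv (f := fun i => (p x i, lev x i)) (g := fun i => (p y i, lev y i))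
    fun c => Fintype.equivOfCardEq
    (by rw [← Nat.card_eq_fintype_card, ← Nat.card_eq_fintype_card]; exact hfib c)
  have hσ : ∀ i, p y (σ i) = p x i ∧ lev y (σ i) = lev x i := fun i =>
    Prod.ext_iff.1 (Equiv.ofFiberEquiv_map (f := fun i => (p x i, lev x i)) (g := fun i => (p y i, lev y i)) _ i)
  have hq : ∀ i, (F[X] ∙ p x i ^ e x i) = (F[X] ∙ p y (σ i) ^ e y (σ i)) := by
    intro i
    rw [← (hpe x i).2.2, ← (hpe y (σ i)).2.2, (hσ i).1, (hσ i).2]
  let E : Md (x.out : Matrix (Fin n) (Fin n) F) ≃ₗ[F[X]] Md (y.out : Matrix (Fin n) (Fin n) F) :=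
    (((hiso x).some.trans (LinearEquiv.piCongrRight fun i => Submodule.quotEquivOfEq _ _ (hq i))).trans
      (LinearEquiv.piCongrLeft F[X] (fun j => Q (p y j ^ e y j)) σ)).trans (hiso y).some.symm
  rw [← Quotient.out_eq x, ← Quotient.out_eq y]
  exact Quotient.sound (isConj_of_iso _ _ E)

theorem cnt_le_card_conjClasses [Fintype F] (hn : 1 ≤ n) :
    GLClassCount53.cnt (Fintype.card F) n ≤ Nat.card (ConjClasses (GL (Fin n) F)) := by
  classical
  rw [← card_P]
  have key : ∀ f : P F n, ∃ g : GL (Fin n) F, (g : Matrix (Fin n) (Fin n) F).charpoly = f.1 := by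
    intro f
    have hf0 : f.1 ≠ 0 := f.2.1.1.ne_zero
    let pb := (AdjoinRoot.powerBasis hf0)
    have hdim : pb.dim = n := by simp [pb, f.2.2]
    let N := Matrix.reindex (finCongr hdim) (finCongr hdim) (Algebra.leftMulMatrix pb.basis pb.gen)
    have hN : N.charpoly = f.1 := by
      rw [Matrix.charpoly_reindex, charpoly_leftMulMatrix, AdjoinRoot.powerBasis_gen,
        AdjoinRoot.minpoly_root hf0, f.2.1.1.leadingCoeff, inv_one, C_1, mul_one]
    refine ⟨Matrix.GeneralLinearGroup.mkOfDetNeZero N ?_, hN⟩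
    rw [Matrix.det_eq_sign_charpoly_coeff, hN]
    exact mul_ne_zero (pow_ne_zero _ (neg_ne_zero.2 one_ne_zero)) f.2.1.2
  choose g hg using key
  refine Nat.card_le_card_of_injective (fun f => ConjClasses.mk (g f)) fun a b hab => ?_
  obtain ⟨c, hc⟩ := isConj_iff.1 (ConjClasses.mk_eq_mk_iff_isConj.1 hab)
  refine Subtype.ext ?_
  rw [← hg a, ← hg b, ← hc, Units.val_mul, Units.val_mul]
  rw [Matrix.coe_units_inv]
  exact (Matrix.charpoly_units_conj c _).symm

end Cfsg.Agent.GLClassBound53
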