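import Mathlib
import Cfsg.Agent.Lib.GLClassBound53

/-!
Arithmetic and tuple counting for the class numbers of `SL(n,q)` and `PSL(n,q)`.
-/

set_option autoImplicit false

open Polynomial
open Cfsg.Agent.GLClassBound53

namespace Cfsg.Agent.SLClassCount53

universe u

/-- solution of `W (m+3) = W (m+2) + q W (m+1)` -/
def W (q : ℕ) : ℕ → ℕ
  | 0 => 1
  | 1 => 0
  | 2 => q
  | m + 3 => W q (m + 2) + q * W q (m + 1)

theorem W_sum (q : ℕ) : ∀ m, W q (m + 2) = q * ∑ i ∈ Finset.range (m + 1), W q i := by
  intro m
  induction m with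
  | zero => simp [W]
  | succ m ih => rw [W, ih, Finset.sum_range_succ (n := m + 1), mul_add]

theorem W_le_pow (q : ℕ) (hq : 2 ≤ q) : ∀ m, W q (m + 1) ≤ q ^ m := by
  intro m
  induction m using Nat.strong_induction_on with
  | _ m ih =>
    match m with
    | 0 => simp [W]
    | 1 => simp [W]
    | k + 2 =>
      have h1 := ih (k + 1) (by omega)
      have h2 := Nat.mul_le_mul_left q (ih k (by omega))
      have e1 : q * q ^ k = q ^ (k + 1) := (pow_succ' q k).symm
      have e2 : 2 * q ^ (k + 1) ≤ q ^ (k + 2) := by
        rw [pow_succ' q (k + 1)]; exact Nat.mul_le_mul_right _ hq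
      show W q (k + 3) ≤ _
      replace h1 : W q (k + 2) ≤ q ^ (k + 1) := h1
      replace h2 : q * W q (k + 1) ≤ q * q ^ k := h2
      rw [W]
      linarith

theorem W_le (q : ℕ) (hq : 3 ≤ q) : ∀ m, 2 * ((q - 1) * W q (m + 6)) ≤ 3 * q ^ (m + 4) := by
  intro m
  induction m using Nat.strong_induction_on with
  | _ m ih =>
    obtain ⟨r, rfl⟩ : ∃ r, q = r + 3 := ⟨q - 3, by omega⟩
    match m with
    | 0 =>
      simp only [W, zero_add]
      rw [show r + 3 - 1 = r + 2 by omega]
      have h : 4 * (r + 3) ^ 3 ≤ (r + 3) ^ 4 + 4 * (r + 3) ^ 2 := by nlinarith [sq_nonneg ((r : ℤ) + 1)]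
      nlinarith
    | 1 =>
      simp only [Nat.reduceAdd, W]
      rw [show r + 3 - 1 = r + 2 by omega]
      have h : 6 * (r + 3) ^ 4 + 2 * (r + 3) ^ 3 ≤ 3 * (r + 3) ^ 5 := by
        have : (r + 3) ^ 3 ≤ (r + 3) ^ 4 := Nat.pow_le_pow_right (by omega) (by norm_num)
        have : 8 * (r + 3) ^ 4 ≤ 3 * (r + 3) * (r + 3) ^ 4 := Nat.mul_le_mul_right _ (by omega)
        nlinarith
      nlinarith
    | k + 2 =>
      have h1 := ih (k + 1) (by omega)
      have h2 := Nat.mul_le_mul_left (r + 3) (ih k (by omega))
      rw [show k + 2 + 6 = (k + 5) + 3 by omega, W, show k + 5 + 2 = k + 1 + 6 by omega,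
        show k + 5 + 1 = k + 6 by omega, mul_add, mul_add]
      have e1 : (r + 3) * (3 * (r + 3) ^ (k + 4)) = 3 * (r + 3) ^ (k + 5) := by ring
      have e2 : (r + 3) * (2 * ((r + 3 - 1) * W (r + 3) (k + 6))) =
          2 * ((r + 3 - 1) * ((r + 3) * W (r + 3) (k + 6))) := by ring
      have e3 : 2 * (r + 3) ^ (k + 5) ≤ (r + 3) ^ (k + 2 + 4) := by
        rw [show k + 2 + 4 = (k + 5) + 1 by omega, pow_succ' (r + 3) (k + 5)]
        exact Nat.mul_le_mul_right _ (by omega)
      rw [show k + 1 + 4 = k + 5 by omega] at h1
      linarith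

variable {F : Type u} [Field F]

/-- constant term with sign -/
noncomputable def cst (p : F[X]) : F := (-1) ^ p.natDegree * p.coeff 0

theorem cst_one : cst (1 : F[X]) = 1 := by simp [cst]

theorem cst_mul {p r : F[X]} (hp : p.Monic) (hr : r.Monic) : cst (p * r) = cst p * cst r := by
  rw [cst, hp.natDegree_mul hr, mul_coeff_zero, pow_add]
  simp only [cst]
  ring

theorem cst_multiset_prod (s : Multiset F[X]) (hs : ∀ p ∈ s, p.Monic) : cst s.prod = (s.map cst).prod := by
  induction s using Multiset.induction_on with
  | empty => simp [cst_one]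
  | cons a t ih =>
    rw [Multiset.prod_cons, Multiset.map_cons, Multiset.prod_cons, cst_mul (hs a (Multiset.mem_cons_self a t)),
      ih fun p hp => hs p (Multiset.mem_cons_of_mem hp)]
    exact monic_multiset_prod_of_monic _ _ (fun p hp => hs p (Multiset.mem_cons_of_mem hp)) |> (by simpa using ·)

/-- determinant attached to a tuple -/
noncomputable def chi {k : ℕ} (h : Fin k → F[X]) : F := ∏ j : Fin k, cst (h j) ^ ((j : ℕ) + 1)

/-- tuples without polynomials of exponent one -/
abbrev T2 (F : Type u) [Field F] (k m : ℕ) : Type u :=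
  {h : T F k m // ∀ j : Fin k, (j : ℕ) = 0 → h.1 j = 1}

variable [Fintype F]

theorem card_P_succ_le (d : ℕ) : Nat.card (P F (d + 1)) ≤ Fintype.card F * Nat.card (P F d) := by
  rw [card_P, card_P]
  simp only [GLClassCount53.cnt, Nat.succ_ne_zero, if_false, Nat.add_sub_cancel]
  cases d with
  | zero => simp
  | succ d =>
    rw [if_neg (Nat.succ_ne_zero d), Nat.add_sub_cancel, pow_succ']
    exact le_of_eq (Nat.mul_left_comm _ _ _)

theorem card_T2_le (k : ℕ) : ∀ m, Nat.card (T2 F k m) ≤ W (Fintype.card F) m := by
  classical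
  intro m
  induction m using Nat.strong_induction_on with
  | _ m ih =>
    haveI := fun j => (finite_T (F := F) k j).1
    match m with
    | 0 =>
      haveI : Subsingleton (T2 F k 0) := ⟨fun a b => by
        refine Subtype.ext (Subtype.ext (funext fun j => ?_))
        have key : ∀ c : T F k 0, c.1 j = 1 := fun c => by
          have h := c.2.2
          rw [Finset.sum_eq_zero_iff] at h
          have := h j (Finset.mem_univ _)
          rw [mul_eq_zero] at this
          exact (c.2.1 j).1.natDegree_eq_zero.1 (this.resolve_left (Nat.succ_ne_zero _))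
        rw [key a.1, key b.1]⟩
      exact Finite.card_le_one_iff_subsingleton.2 inferInstance
    | 1 =>
      haveI : IsEmpty (T2 F k 1) := ⟨fun a => by
        have h := a.1.2.2
        have h0 : ∀ j : Fin k, ((j : ℕ) + 1) * (a.1.1 j).natDegree = 0 := by
          intro j
          have hle := Finset.single_le_sum (f := fun j : Fin k => ((j : ℕ) + 1) * (a.1.1 j).natDegree)
            (fun _ _ => Nat.zero_le _) (Finset.mem_univ j)
          rw [h] at hle
          by_cases hj : (j : ℕ) = 0
          · rw [a.2 j hj]; simp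
          · rcases Nat.eq_zero_or_pos (a.1.1 j).natDegree with hd | hd
            · rw [hd, mul_zero]
            · have : 2 * 1 ≤ ((j : ℕ) + 1) * (a.1.1 j).natDegree := Nat.mul_le_mul (by omega) hd
              omega
        rw [Finset.sum_eq_zero fun j _ => h0 j] at h
        omega⟩
      simp
    | m + 2 =>
      have hemb : ∀ d, Nonempty (P F (d + 1) ↪ F × P F d) := fun d => by
        have hc := card_P_succ_le (F := F) d
        haveI := Fintype.ofFinite (P F (d + 1))
        haveI := Fintype.ofFinite (P F d)
        exact Function.Embedding.nonempty_of_card_le (by simpa [Nat.card_eq_fintype_card] using hc)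
      let emb := fun d => (hemb d).some
      have hex : ∀ h : T2 F k (m + 2), ∃ j : Fin k, h.1.1 j ≠ 1 := by
        intro h
        by_contra hne
        push Not at hne
        have := h.1.2.2
        simp [hne] at this
      choose J hJ using hex
      have hJ0 : ∀ h : T2 F k (m + 2), (J h : ℕ) ≠ 0 := fun h h0 => hJ h (h.2 _ h0)
      have hdeg : ∀ h : T2 F k (m + 2), 1 ≤ (h.1.1 (J h)).natDegree := fun h =>
        Nat.one_le_iff_ne_zero.2 fun h0 => hJ h ((h.1.2.1 _).1.natDegree_eq_zero.1 h0)
      have hsum : ∀ h : T2 F k (m + 2), ((J h : ℕ) + 1) * (h.1.1 (J h)).natDegree +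
          ∑ i ∈ Finset.univ.erase (J h), ((i : ℕ) + 1) * (h.1.1 i).natDegree = m + 2 := by
        intro h
        exact (Finset.add_sum_erase _ (fun i : Fin k => ((i : ℕ) + 1) * (h.1.1 i).natDegree)
          (Finset.mem_univ (J h))).trans h.1.2.2
      have hJm : ∀ h : T2 F k (m + 2), (J h : ℕ) - 1 < m + 1 := fun h => by
        have := hsum h
        have : ((J h : ℕ) + 1) * 1 ≤ ((J h : ℕ) + 1) * (h.1.1 (J h)).natDegree := Nat.mul_le_mul_left _ (hdeg h)
        omega
      let red : ∀ h : T2 F k (m + 2), F × P F ((h.1.1 (J h)).natDegree - 1) := fun h =>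
        emb ((h.1.1 (J h)).natDegree - 1) ⟨h.1.1 (J h), h.1.2.1 _, by have := hdeg h; omega⟩
      let f : T2 F k (m + 2) → Σ e : Fin (m + 1), F × T2 F k (m - (e : ℕ)) := fun h =>
        ⟨⟨(J h : ℕ) - 1, hJm h⟩, (red h).1, ⟨⟨Function.update h.1.1 (J h) (red h).2.1, fun i => by
            by_cases hi : i = J h
            · subst hi; rw [Function.update_self]; exact (red h).2.2.1
            · rw [Function.update_of_ne hi]; exact h.1.2.1 i, by
            rw [← Finset.add_sum_erase _ _ (Finset.mem_univ (J h)), Function.update_self,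
              Finset.sum_congr rfl fun i hi => by rw [Function.update_of_ne (Finset.ne_of_mem_erase hi)]]
            rw [(red h).2.2.2]
            have := hsum h
            have h1 := hdeg h
            have h2 := hJ0 h
            rw [Nat.mul_sub, mul_one]
            have : ((J h : ℕ) + 1) * 1 ≤ ((J h : ℕ) + 1) * (h.1.1 (J h)).natDegree := Nat.mul_le_mul_left _ h1
            simp only
            omega⟩, fun i hi => by
            show Function.update h.1.1 (J h) (red h).2.1 i = 1
            rw [Function.update_of_ne (fun e => hJ0 h (by rw [← e]; exact hi))]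
            exact h.2 i hi⟩⟩
      have hf : Function.Injective f := by
        intro a b hab
        have h1 : (J a : ℕ) - 1 = (J b : ℕ) - 1 := congrArg (fun s : Σ e : Fin (m + 1), F × T2 F k (m - (e : ℕ)) => (s.1 : ℕ)) hab
        have hJe : J a = J b := Fin.ext (by have := hJ0 a; have := hJ0 b; omega)
        have h2 : (red a).1 = (red b).1 := congrArg (fun s : Σ e : Fin (m + 1), F × T2 F k (m - (e : ℕ)) => s.2.1) hab
        have h3 : Function.update a.1.1 (J a) (red a).2.1 = Function.update b.1.1 (J b) (red b).2.1 :=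
          congrArg (fun s : Σ e : Fin (m + 1), F × T2 F k (m - (e : ℕ)) => s.2.2.1.1) hab
        have h4 : (red a).2.1 = (red b).2.1 := by
          have := congrFun h3 (J a)
          rw [Function.update_self] at this
          exact this.trans ((congrArg (Function.update b.1.1 (J b) (red b).2.1) hJe).trans (Function.update_self ..))
        have h5 : (a.1.1 (J a)).natDegree - 1 = (b.1.1 (J b)).natDegree - 1 := by
          rw [← (red a).2.2.2, ← (red b).2.2.2, h4]
        have key : ∀ (d d' : ℕ) (x : P F (d + 1)) (y : P F (d' + 1)), d = d' → (emb d x).1 = (emb d' y).1 →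
            (emb d x).2.1 = (emb d' y).2.1 → x.1 = y.1 := by
          rintro d d' x y rfl e1 e2
          rw [(emb d).injective (Prod.ext e1 (Subtype.ext e2))]
        refine Subtype.ext (Subtype.ext (funext fun i => ?_))
        by_cases hi : i = J a
        · subst hi
          conv_rhs => rw [hJe]
          exact key _ _ _ _ h5 h2 h4
        · have := congrFun h3 i
          rwa [Function.update_of_ne hi, Function.update_of_ne (hJe ▸ hi)] at this
      refine (Nat.card_le_card_of_injective f hf).trans ?_
      rw [Nat.card_sigma, W_sum, Finset.mul_sum, ← Finset.sum_range_reflect, Finset.sum_range]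
      refine Finset.sum_le_sum fun e _ => ?_
      rw [Nat.card_prod, Nat.card_eq_fintype_card (α := F), Nat.add_sub_cancel]
      exact Nat.mul_le_mul_left _ (ih _ (by omega))

end Cfsg.Agent.SLClassCount53
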