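import Mathlib

/-!
Arithmetic for the class number bound of the unitary groups: the product `∏ (1+q^{-j})/(1-q^{1-j})`.
-/

set_option autoImplicit false

namespace Cfsg.Agent.UnitaryCountArith53

/-- number of self-dual monic polynomials of degree `d` (or a bound for it) -/
def cnt (q d : ℕ) : ℕ := if d = 0 then 1 else (q + 1) * q ^ (d - 1)

/-- weighted count of `k`-tuples with weights `s, s+1, …` -/
def tot (q : ℕ) : ℕ → ℕ → ℕ → ℕ
  | _, 0, m => if m = 0 then 1 else 0
  | s, k + 1, m => ∑ d ∈ Finset.range (m + 1), if d * s ≤ m then cnt q d * tot q (s + 1) k (m - d * s) else 0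

/-- the factor `(1+q^{-j})/(1-q^{1-j})` -/
def fac (q j : ℕ) : ℚ := (1 + (1 / (q : ℚ)) ^ j) / (1 - (q : ℚ) * (1 / (q : ℚ)) ^ j)

theorem pow_lt_one {q : ℕ} (hq : 2 ≤ q) {j : ℕ} (hj : 2 ≤ j) :
    (q : ℚ) * (1 / (q : ℚ)) ^ j ≤ 1 / 2 := by
  have hq0 : (0 : ℚ) < q := by positivity
  obtain ⟨i, rfl⟩ : ∃ i, j = i + 2 := ⟨j - 2, by omega⟩
  rw [pow_succ', ← mul_assoc, mul_one_div, div_self hq0.ne', one_mul]
  have h1 : 1 / (q : ℚ) ≤ 1 / 2 := by
    apply one_div_le_one_div_of_le (by norm_num)
    exact_mod_cast hq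
  calc (1 / (q : ℚ)) ^ (i + 1) ≤ (1 / 2 : ℚ) ^ (i + 1) := by gcongr
    _ ≤ (1 / 2 : ℚ) ^ 1 := pow_le_pow_of_le_one (by norm_num) (by norm_num) (by omega)
    _ = _ := pow_one _

theorem fac_nonneg {q : ℕ} (hq : 2 ≤ q) {j : ℕ} (hj : 2 ≤ j) : 0 ≤ fac q j := by
  have := pow_lt_one hq hj
  exact div_nonneg (by positivity) (by linarith)

theorem fac_le_two {q : ℕ} (hq : 2 ≤ q) {j : ℕ} (hj : 2 ≤ j) : fac q j ≤ fac 2 j := by
  have h2 : (2 : ℕ) ≤ 2 := le_rfl
  have hA := pow_lt_one hq hj
  have hB := pow_lt_one h2 hj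
  obtain ⟨i, rfl⟩ : ∃ i, j = i + 2 := ⟨j - 2, by omega⟩
  have hqq : (2 : ℚ) ≤ q := by exact_mod_cast hq
  have h1 : 1 / (q : ℚ) ≤ 1 / 2 := one_div_le_one_div_of_le (by norm_num) hqq
  have e : ∀ r : ℕ, 2 ≤ r → (r : ℚ) * (1 / (r : ℚ)) ^ (i + 2) = (1 / (r : ℚ)) ^ (i + 1) := by
    intro r hr
    have : (r : ℚ) ≠ 0 := by positivity
    rw [pow_succ' (1 / (r : ℚ)) (i + 1), ← mul_assoc, mul_one_div, div_self this, one_mul]
  simp only [fac]
  rw [e q hq, e 2 le_rfl] at *
  push_cast at *
  have hb1 : (1 / (q : ℚ)) ^ (i + 1) ≤ (1 / 2 : ℚ) ^ (i + 1) := by gcongr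
  have hb2 : (1 / (q : ℚ)) ^ (i + 2) ≤ (1 / 2 : ℚ) ^ (i + 2) := by gcongr
  exact div_le_div₀ (by positivity) (by linarith) (by linarith) (by linarith)

/-- partial sums of `tot` are bounded by the product -/
theorem sum_tot_le {q : ℕ} (hq : 2 ≤ q) : ∀ k s, 2 ≤ s → ∀ m,
    ∑ w ∈ Finset.range m, (tot q s k w : ℚ) * (1 / (q : ℚ)) ^ w ≤ ∏ i ∈ Finset.range k, fac q (s + i) := by
  intro k
  induction k with
  | zero =>
    intro s _ m
    rw [Finset.prod_range_zero]
    rcases m with _ | m
    · simp
    · rw [Finset.sum_range_succ', Finset.sum_eq_zero (fun w _ => by simp [tot])]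
      simp [tot]
  | succ k ih =>
    intro s hs m
    have hq0 : (0 : ℚ) < q := by positivity
    have hP : 0 ≤ ∏ i ∈ Finset.range k, fac q (s + 1 + i) :=
      Finset.prod_nonneg fun i _ => fac_nonneg hq (by omega)
    set x : ℚ := 1 / (q : ℚ) with hx
    have hy := pow_lt_one hq hs
    rw [← hx] at hy
    have hgeo : ∀ D, ∑ d ∈ Finset.range D, (cnt q d : ℚ) * x ^ (d * s) ≤ fac q s := by
      intro D
      have hr0 : (0 : ℚ) ≤ q * x ^ s := by positivity
      have hkey : ∀ D, ∑ d ∈ Finset.range (D + 1), (cnt q d : ℚ) * x ^ (d * s) =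
          (1 + x ^ s - (q + 1 : ℚ) * x ^ s * (q * x ^ s) ^ D) / (1 - q * x ^ s) := by
        intro D
        induction D with
        | zero =>
          rw [eq_div_iff (by linarith)]
          simp [cnt]
          ring
        | succ D ihD =>
          rw [Finset.sum_range_succ, ihD, eq_div_iff (by linarith), add_mul, div_mul_cancel₀ _ (by linarith)]
          have hc : (cnt q (D + 1) : ℚ) = (q + 1 : ℚ) * (q : ℚ) ^ D := by
            simp [cnt]
          rw [hc, mul_pow, mul_pow, ← pow_mul, ← pow_mul,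
            show (D + 1) * s = s + s * D by ring, show s * (D + 1) = s + s * D by ring, pow_add]
          ring
      rcases D with _ | D
      · simpa using fac_nonneg hq hs
      · rw [hkey]
        show _ ≤ (1 + x ^ s) / (1 - q * x ^ s)
        apply div_le_div_of_nonneg_right _ (by linarith)
        have : (0 : ℚ) ≤ (q + 1 : ℚ) * x ^ s * (q * x ^ s) ^ D := by positivity
        linarith
    calc ∑ w ∈ Finset.range m, (tot q s (k + 1) w : ℚ) * x ^ w
        = ∑ w ∈ Finset.range m, ∑ d ∈ Finset.range m, (if d * s ≤ w then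
            (cnt q d : ℚ) * x ^ (d * s) * ((tot q (s + 1) k (w - d * s) : ℚ) * x ^ (w - d * s)) else 0) := by
          refine Finset.sum_congr rfl fun w hw => ?_
          rw [Finset.mem_range] at hw
          rw [tot]
          push_cast
          rw [Finset.sum_mul]
          refine Finset.sum_subset_zero_on_sdiff (Finset.range_mono hw) ?_ ?_
          · intro d hd
            rw [Finset.mem_sdiff, Finset.mem_range, Finset.mem_range] at hd
            rw [if_neg]
            intro h
            have : d * 1 ≤ d * s := Nat.mul_le_mul_left _ (by omega)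
            omega
          · intro d _
            split_ifs with h
            · have e : x ^ w = x ^ (d * s) * x ^ (w - d * s) := by rw [← pow_add, Nat.add_sub_cancel' h]
              rw [e]
              ring
            · simp
      _ ≤ ∑ d ∈ Finset.range m, (cnt q d : ℚ) * x ^ (d * s) * ∏ i ∈ Finset.range k, fac q (s + 1 + i) := by
          rw [Finset.sum_comm]
          refine Finset.sum_le_sum fun d _ => ?_
          rw [← Finset.sum_filter, ← Finset.mul_sum]
          refine mul_le_mul_of_nonneg_left ?_ (by positivity)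
          refine le_trans ?_ (ih (s + 1) (by omega) m)
          have hinj : Set.InjOn (fun w => w - d * s) ((Finset.range m).filter fun w => d * s ≤ w) := by
            intro a ha b hb hab
            simp only [Finset.coe_filter, Finset.mem_range, Set.mem_setOf_eq] at ha hb
            simp only at hab
            omega
          rw [← Finset.sum_image (f := fun w => (tot q (s + 1) k w : ℚ) * x ^ w) hinj]
          refine Finset.sum_le_sum_of_subset_of_nonneg ?_ (fun _ _ _ => by positivity)
          intro w hw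
          simp only [Finset.mem_image, Finset.mem_filter, Finset.mem_range] at hw ⊢
          obtain ⟨a, ha, rfl⟩ := hw
          omega
      _ ≤ fac q s * ∏ i ∈ Finset.range k, fac q (s + 1 + i) := by
          rw [← Finset.sum_mul]
          exact mul_le_mul_of_nonneg_right (hgeo m) hP
      _ = _ := by
          rw [Finset.prod_range_succ' (fun i => fac q (s + i)), mul_comm]
          simp only [add_zero]
          congr 1
          exact Finset.prod_congr rfl fun i _ => by rw [add_right_comm, add_assoc]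

theorem prod_le_two : ∀ k, ∏ i ∈ Finset.range k, fac 2 (2 + i) ≤ (552 / 100 : ℚ) := by
  have key : ∀ k, (∏ i ∈ Finset.range (k + 5), fac 2 (2 + i)) * (1 + 32 / 10 * (1 / 2 : ℚ) ^ (k + 6)) ≤ 552 / 100 := by
    intro k
    induction k with
    | zero => norm_num [Finset.prod_range_succ, fac]
    | succ k ih =>
      rw [show k + 1 + 5 = (k + 5) + 1 by omega, Finset.prod_range_succ, mul_assoc]
      refine le_trans (mul_le_mul_of_nonneg_left ?_ (Finset.prod_nonneg fun i _ => fac_nonneg le_rfl (by omega))) ih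
      rw [show 2 + (k + 5) = k + 7 by omega, show k + 1 + 6 = k + 7 by omega]
      have hx : (1 / 2 : ℚ) ^ (k + 7) ≤ 1 / 128 := by
        rw [show (1 / 128 : ℚ) = (1 / 2) ^ 7 by norm_num]
        exact pow_le_pow_of_le_one (by norm_num) (by norm_num) (by omega)
      have e : (1 / 2 : ℚ) ^ (k + 6) = 2 * (1 / 2 : ℚ) ^ (k + 7) := by rw [pow_succ]; ring
      rw [e]
      have h0 : (0 : ℚ) ≤ (1 / 2 : ℚ) ^ (k + 7) := by positivity
      simp only [fac, Nat.cast_ofNat]
      rw [div_mul_eq_mul_div, div_le_iff₀ (by linarith)]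
      nlinarith
  intro k
  have hmono : ∀ a b, a ≤ b → ∏ i ∈ Finset.range a, fac 2 (2 + i) ≤ ∏ i ∈ Finset.range b, fac 2 (2 + i) := by
    intro a b hab
    induction b, hab using Nat.le_induction with
    | base => exact le_rfl
    | succ b _ ihb =>
      rw [Finset.prod_range_succ]
      refine ihb.trans (le_mul_of_one_le_right (Finset.prod_nonneg fun i _ => fac_nonneg le_rfl (by omega)) ?_)
      have := pow_lt_one (le_refl 2) (show 2 ≤ 2 + b by omega)
      rw [fac, le_div_iff₀ (by linarith)]
      have : (0 : ℚ) ≤ (1 / (2 : ℕ) : ℚ) ^ (2 + b) := by positivity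
      linarith
  refine (hmono k (k + 5) (by omega)).trans (le_trans (le_mul_of_one_le_right
    (Finset.prod_nonneg fun i _ => fac_nonneg le_rfl (by omega)) ?_) (key k))
  have : (0 : ℚ) ≤ (1 / 2 : ℚ) ^ (k + 6) := by positivity
  linarith

theorem sum_tot_two_le {q : ℕ} (hq : 2 ≤ q) (k m : ℕ) :
    ∑ w ∈ Finset.range m, (tot q 2 k w : ℚ) * (1 / (q : ℚ)) ^ w ≤ 552 / 100 := by
  refine (sum_tot_le hq k 2 le_rfl m).trans (le_trans ?_ (prod_le_two k))
  exact Finset.prod_le_prod (fun i _ => fac_nonneg hq (by omega)) (fun i _ => fac_le_two hq (by omega))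

/-- `tot ≤` a linear recursion -/
theorem tot_le_rec {q : ℕ} (s₀ : ℕ) (hs₀ : 1 ≤ s₀) (U : ℕ → ℕ) (h0 : 1 ≤ U 0)
    (hU : ∀ m s, s₀ ≤ s → s ≤ m → (q + 1) * ∑ i ∈ Finset.range (m - s + 1), U i ≤ U m) :
    ∀ m k s, s₀ ≤ s → tot q s k m ≤ U m := by
  have key : ∀ m k s, s₀ ≤ s → tot q s k m ≤ (if m = 0 then 1 else 0) +
      if s ≤ m then (q + 1) * ∑ i ∈ Finset.range (m - s + 1), U i else 0 := by
    intro m
    induction m using Nat.strong_induction_on with
    | _ m ih =>
      intro k
      induction k with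
      | zero => intro s _; exact le_add_right (le_refl _)
      | succ k ihk =>
        intro s hs
        have hUle : ∀ m' < m, ∀ k' s', s₀ ≤ s' → tot q s' k' m' ≤ U m' := by
          intro m' hm' k' s' hs'
          refine (ih m' hm' k' s' hs').trans ?_
          by_cases h : m' = 0
          · subst h
            rw [if_pos rfl, if_neg (by omega)]
            exact h0
          · rw [if_neg h, zero_add]
            split_ifs with h2
            · exact hU m' s' hs' h2
            · exact Nat.zero_le _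
        by_cases hsm : s ≤ m
        · have hrec : tot q s (k + 1) m ≤ tot q (s + 1) k m + (q + 1) * tot q s (k + 1) (m - s) := by
            rw [tot, Finset.sum_range_succ', tot, Finset.mul_sum, add_comm]
            refine Nat.add_le_add (by simp [cnt]) ?_
            have hsub : Finset.range (m - s + 1) ⊆ Finset.range m := Finset.range_mono (by omega)
            rw [← Finset.sum_subset hsub]
            · refine Finset.sum_le_sum fun d hd => ?_
              by_cases h1 : (d + 1) * s ≤ m
              · have h2 : d * s ≤ m - s := by rw [add_mul, one_mul] at h1; omega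
                rw [if_pos h1, if_pos h2, show m - (d + 1) * s = m - s - d * s by rw [add_mul, one_mul]; omega,
                  ← mul_assoc]
                refine Nat.mul_le_mul_right _ ?_
                rcases d with _ | d
                · simp [cnt]
                · simp only [cnt, Nat.succ_ne_zero, if_false, Nat.add_sub_cancel]
                  rw [pow_succ', ← mul_assoc, mul_assoc]
                  exact Nat.mul_le_mul_left _ (Nat.mul_le_mul_right _ (by omega))
              · rw [if_neg h1]; exact Nat.zero_le _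
            · intro d _ hd
              rw [Finset.mem_range] at hd
              rw [if_neg]
              intro h1
              have : d * 1 ≤ d * s := Nat.mul_le_mul_left _ (by omega)
              rw [add_mul, one_mul] at h1
              omega
          have h1 := ihk (s + 1) (by omega)
          have h2 := hUle (m - s) (by omega) (k + 1) s hs
          have h3 : (q + 1) * tot q s (k + 1) (m - s) ≤ (q + 1) * U (m - s) := Nat.mul_le_mul_left _ h2
          rw [if_neg (by omega : ¬ m = 0), zero_add] at h1 ⊢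
          rw [if_pos hsm, Finset.sum_range_succ, mul_add]
          refine hrec.trans (Nat.add_le_add (h1.trans ?_) h3)
          split_ifs with h4
          · rw [show m - (s + 1) + 1 = m - s by omega]
          · exact Nat.zero_le _
        · rw [if_neg hsm, add_zero, tot, Finset.sum_range_succ', Finset.sum_eq_zero (fun d _ => if_neg (by
            rw [add_mul, one_mul]; omega)), zero_add]
          simp only [zero_mul, zero_le, if_true, Nat.sub_zero]
          have := ihk (s + 1) (by omega)
          rw [if_neg (by omega : ¬ s + 1 ≤ m), add_zero] at this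
          simpa [cnt] using this
  intro m k s hs
  refine (key m k s hs).trans ?_
  by_cases h : m = 0
  · subst h
    rw [if_pos rfl, if_neg (by omega)]
    exact h0
  · rw [if_neg h, zero_add]
    split_ifs with h2
    · exact hU m s hs h2
    · exact Nat.zero_le _

/-- `U(m) = U(m-1) + (q+1) U(m-2)` -/
def U (q : ℕ) : ℕ → ℕ
  | 0 => 1
  | 1 => 0
  | 2 => q + 1
  | m + 3 => U q (m + 2) + (q + 1) * U q (m + 1)

/-- `V(m) = V(m-1) + 3 V(m-3)` -/
def V : ℕ → ℕ
  | 0 => 1
  | 1 => 0
  | 2 => 0
  | 3 => 3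
  | m + 4 => V (m + 3) + 3 * V (m + 1)

theorem U_sum (q : ℕ) : ∀ m, U q (m + 2) = (q + 1) * ∑ i ∈ Finset.range (m + 1), U q i := by
  intro m
  induction m with
  | zero => simp [U]
  | succ m ih => rw [U, ih, Finset.sum_range_succ (n := m + 1), mul_add]

theorem V_sum : ∀ m, V (m + 3) = 3 * ∑ i ∈ Finset.range (m + 1), V i := by
  intro m
  induction m with
  | zero => simp [V]
  | succ m ih => rw [V, ih, Finset.sum_range_succ (n := m + 1), mul_add]

theorem tot_le_U (q k m : ℕ) : tot q 2 k m ≤ U q m := by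
  refine tot_le_rec 2 (by norm_num) (U q) le_rfl (fun m s hs hsm => ?_) m k 2 le_rfl
  obtain ⟨j, rfl⟩ : ∃ j, m = j + 2 := ⟨m - 2, by omega⟩
  rw [U_sum]
  exact Nat.mul_le_mul_left _ (Finset.sum_le_sum_of_subset (Finset.range_mono (by omega)))

theorem tot_three_le_V (k m : ℕ) : tot 2 3 k m ≤ V m := by
  refine tot_le_rec 3 (by norm_num) V le_rfl (fun m s hs hsm => ?_) m k 3 le_rfl
  obtain ⟨j, rfl⟩ : ∃ j, m = j + 3 := ⟨m - 3, by omega⟩
  rw [V_sum]
  exact Nat.mul_le_mul_left _ (Finset.sum_le_sum_of_subset (Finset.range_mono (by omega)))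

theorem tot_two_step (k m : ℕ) :
    tot 2 2 (k + 1) (m + 2) ≤ V (m + 2) + V m + 2 * tot 2 2 (k + 1) m := by
  have hV := tot_three_le_V k
  rw [tot, Finset.sum_range_succ', tot, Finset.mul_sum]
  simp only [zero_mul, zero_le, if_true, Nat.sub_zero, show cnt 2 0 = 1 from rfl, one_mul]
  rw [Finset.sum_range_succ' (fun d => 2 * if d * 2 ≤ m then cnt 2 d * tot 2 (2 + 1) k (m - d * 2) else 0)]
  simp only [zero_mul, zero_le, if_true, Nat.sub_zero, show cnt 2 0 = 1 from rfl, one_mul]
  rw [show m + 2 = (m + 1) + 1 from rfl, Finset.sum_range_succ']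
  simp only [zero_add, one_mul, show 2 ≤ m + 1 + 1 by omega, if_true, show cnt 2 1 = 3 from rfl,
    show m + 1 + 1 - 2 = m by omega]
  have e : ∀ d, (if (d + 1 + 1) * 2 ≤ m + 1 + 1 then cnt 2 (d + 1 + 1) * tot 2 (2 + 1) k (m + 1 + 1 - (d + 1 + 1) * 2) else 0) =
      2 * if (d + 1) * 2 ≤ m then cnt 2 (d + 1) * tot 2 (2 + 1) k (m - (d + 1) * 2) else 0 := by
    intro d
    by_cases h : (d + 1) * 2 ≤ m
    · rw [if_pos h, if_pos (by omega), show m + 1 + 1 - (d + 1 + 1) * 2 = m - (d + 1) * 2 by omega, ← mul_assoc]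
      congr 1
      simp [cnt, pow_succ]
      ring
    · rw [if_neg h, if_neg (by omega), mul_zero]
  rw [Finset.sum_congr rfl (fun d _ => e d), Finset.sum_range_succ (n := m)]
  rw [if_neg (show ¬ (m + 1) * 2 ≤ m by omega), mul_zero, add_zero]
  have h1 := hV (m + 1 + 1)
  have h2 := hV m
  linarith

theorem V_le : ∀ m, 16 * V (m + 4) ≤ 3 * 2 ^ (m + 4) := by
  intro m
  induction m using Nat.strong_induction_on with
  | _ m ih =>
    match m with
    | 0 => simp [V]
    | 1 => simp [V]
    | 2 => simp [V]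
    | j + 3 =>
      have h1 := ih j (by omega)
      have h3 := ih (j + 2) (by omega)
      rw [show j + 3 + 4 = (j + 3) + 4 from rfl, V, show j + 3 + 3 = j + 2 + 4 by omega, show j + 3 + 1 = j + 4 by omega]
      have e1 : 2 ^ (j + 3 + 4) = 8 * 2 ^ (j + 4) := by rw [show j + 3 + 4 = (j + 4) + 3 by omega, pow_add]; ring
      have e3 : 2 ^ (j + 2 + 4) = 4 * 2 ^ (j + 4) := by rw [show j + 2 + 4 = (j + 4) + 2 by omega, pow_add]; ring
      omega

/-- for `q = 2` the last term is small -/
theorem tot_two_le (k : ℕ) : ∀ m, 125 * tot 2 2 (k + 1) (m + 5) ≤ 68 * 2 ^ (m + 5) := by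
  intro m
  induction m using Nat.strong_induction_on with
  | _ m ih =>
    have hs : ∀ j, tot 2 2 (k + 1) (j + 2) ≤ V (j + 2) + V j + 2 * tot 2 2 (k + 1) j := tot_two_step k
    have h0 : tot 2 2 (k + 1) 0 ≤ 1 := by
      have := tot_le_U 2 (k + 1) 0; simpa [U] using this
    have h1 : tot 2 2 (k + 1) 1 ≤ 0 := by
      have := tot_le_U 2 (k + 1) 1; simpa [U] using this
    match m with
    | 0 =>
      have a := hs 1
      have b := hs 3
      simp only [Nat.reduceAdd, V] at a b ⊢
      omega
    | 1 =>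
      have a := hs 0
      have b := hs 2
      have c := hs 4
      simp only [Nat.reduceAdd, V] at a b c ⊢
      omega
    | j + 2 =>
      have a := hs (j + 5)
      have b := ih j (by omega)
      have c := V_le (j + 3)
      have d := V_le (j + 1)
      rw [show j + 3 + 4 = j + 5 + 2 by omega] at c
      rw [show j + 1 + 4 = j + 5 by omega] at d
      rw [show j + 2 + 5 = j + 5 + 2 by omega]
      have e : 2 ^ (j + 5 + 2) = 4 * 2 ^ (j + 5) := by rw [pow_add]; ring
      omega

/-- `q ≥ 3` -/
theorem U_le {q : ℕ} (hq : 3 ≤ q) : ∀ m, 10 * ((q + 1) * U q (m + 5)) ≤ 27 * q ^ (m + 4) := by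
  intro m
  induction m using Nat.strong_induction_on with
  | _ m ih =>
    obtain ⟨r, rfl⟩ : ∃ r, q = r + 3 := ⟨q - 3, by omega⟩
    match m with
    | 0 =>
      simp only [Nat.reduceAdd, U]
      have : 0 ≤ r ^ 4 := Nat.zero_le _
      ring_nf
      nlinarith [Nat.zero_le r, Nat.zero_le (r ^ 2), Nat.zero_le (r ^ 3)]
    | 1 =>
      simp only [Nat.reduceAdd, U]
      ring_nf
      nlinarith [Nat.zero_le r, Nat.zero_le (r ^ 2), Nat.zero_le (r ^ 3), Nat.zero_le (r ^ 4), Nat.zero_le (r ^ 5)]
    | j + 2 =>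
      have h1 := ih (j + 1) (by omega)
      have h2 := Nat.mul_le_mul_left (r + 4) (ih j (by omega))
      rw [show j + 2 + 5 = (j + 4) + 3 by omega, U, show j + 4 + 2 = j + 1 + 5 by omega, show j + 4 + 1 = j + 5 by omega]
      rw [show j + 1 + 4 = j + 4 + 1 by omega, pow_succ] at h1
      rw [show j + 2 + 4 = j + 4 + 2 by omega, pow_add]
      generalize (r + 3) ^ (j + 4) = Y at h1 h2 ⊢
      have h3 : (2 * r + 7) * Y ≤ (r + 3) ^ 2 * Y := Nat.mul_le_mul_right _ (by nlinarith)
      linarith

end Cfsg.Agent.UnitaryCountArith53
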