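import Mathlib
import Cfsg.Agent.Lib.GLClassBound53
import Cfsg.Agent.Lib.SLClassCount53
import Cfsg.Agent.Lib.UnitaryCountArith53

/-!
Conjugate-reciprocal monic polynomials and tuples of them.
-/

set_option autoImplicit false

open Polynomial
open Cfsg.Agent.GLClassBound53 Cfsg.Agent.SLClassCount53 Cfsg.Agent.UnitaryCountArith53

namespace Cfsg.Agent.UnitaryPolys53

universe u

variable {F : Type u} [Field F]

/-- conjugate reciprocal -/
noncomputable def tau (σ : F →+* F) (p : F[X]) : F[X] := C (σ (p.coeff 0))⁻¹ * (p.map σ).reverse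

theorem coeff_tau (σ : F →+* F) (p : F[X]) (i : ℕ) :
    (tau σ p).coeff i = (σ (p.coeff 0))⁻¹ * σ (p.coeff (revAt p.natDegree i)) := by
  rw [tau, coeff_C_mul, coeff_reverse, coeff_map, natDegree_map]

variable (σ : F →+* F)

theorem tau_good {p : F[X]} (hp : Good p) : Good (tau σ p) ∧ (tau σ p).natDegree = p.natDegree := by
  have h0 : σ (p.coeff 0) ≠ 0 := fun h => hp.2 (σ.injective (by rw [h, map_zero]))
  have h1 : (tau σ p).coeff p.natDegree = 1 := by
    rw [coeff_tau, revAt_le le_rfl, Nat.sub_self, inv_mul_cancel₀ h0]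
  have hle : (tau σ p).natDegree ≤ p.natDegree := natDegree_le_iff_coeff_eq_zero.2 fun i hi => by
    have : revAt p.natDegree i = i := by
      rw [show (revAt p.natDegree i) = revAtFun p.natDegree i from rfl, revAtFun, if_neg (by omega)]
    rw [coeff_tau, this, coeff_eq_zero_of_natDegree_lt hi, map_zero, mul_zero]
  have heq := natDegree_eq_of_le_of_coeff_ne_zero hle (by rw [h1]; exact one_ne_zero)
  refine ⟨⟨by rw [Monic, leadingCoeff, heq, h1], ?_⟩, heq⟩
  rw [coeff_tau, revAt_le (Nat.zero_le _), Nat.sub_zero, hp.1.coeff_natDegree, map_one, mul_one]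
  exact inv_ne_zero h0

theorem tau_mul (p r : F[X]) : tau σ (p * r) = tau σ p * tau σ r := by
  rw [tau, Polynomial.map_mul, reverse_mul_of_domain, mul_coeff_zero, map_mul, mul_inv, C_mul, tau, tau]
  ring

theorem tau_one : tau σ (1 : F[X]) = 1 := by simp [tau, reverse]

theorem tau_prod (s : Multiset F[X]) : tau σ s.prod = (s.map (tau σ)).prod := by
  induction s using Multiset.induction_on with
  | empty => simp [tau_one]
  | cons b t ih => rw [Multiset.prod_cons, Multiset.map_cons, Multiset.prod_cons, tau_mul, ih]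

theorem tau_tau (hσ : ∀ x, σ (σ x) = x) {p : F[X]} (hp : Good p) : tau σ (tau σ p) = p := by
  ext i
  rw [coeff_tau, coeff_tau, coeff_tau, (tau_good σ hp).2, revAt_le (Nat.zero_le _), Nat.sub_zero,
    hp.1.coeff_natDegree, revAt_invol, map_one, mul_one, map_mul, hσ, map_inv₀, hσ, inv_inv]
  rw [← mul_assoc, mul_inv_cancel₀ hp.2, one_mul]

theorem good_of_dvd {p a : F[X]} (hp : Good p) (ha : a.Monic) (h : a ∣ p) : Good a := by
  obtain ⟨b, rfl⟩ := h
  refine ⟨ha, fun h0 => hp.2 ?_⟩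
  rw [mul_coeff_zero, h0, zero_mul]

theorem tau_irreducible (hσ : ∀ x, σ (σ x) = x) {p : F[X]} (hp : Good p) (hirr : Irreducible p) :
    Irreducible (tau σ p) := by
  obtain ⟨hg, hd⟩ := tau_good σ hp
  rw [hg.1.irreducible_iff_natDegree]
  refine ⟨fun h1 => ?_, fun a b ha hb hab => ?_⟩
  · have h2 := hirr.natDegree_pos
    rw [← hd, h1, natDegree_one] at h2
    exact lt_irrefl 0 h2
  · have hga := good_of_dvd hg ha ⟨b, hab.symm⟩
    have hgb := good_of_dvd hg hb ⟨a, by rw [← hab, mul_comm]⟩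
    have h := tau_tau σ hσ hp
    rw [← hab, tau_mul] at h
    obtain ⟨hga', hda⟩ := tau_good σ hga
    obtain ⟨hgb', hdb⟩ := tau_good σ hgb
    have := (hp.1.irreducible_iff_natDegree.1 hirr).2 _ _ hga'.1 hgb'.1 h
    omega

/-- fixed polynomials: good and self conjugate-reciprocal -/
def Fixed (p : F[X]) : Prop := Good p ∧ tau σ p = p

theorem fixed_norm {p : F[X]} (hp : Fixed σ p) : σ (p.coeff 0) * p.coeff 0 = 1 := by
  have h := congrArg (fun t : F[X] => t.coeff 0) hp.2
  simp only [coeff_tau, revAt_le (Nat.zero_le _), Nat.sub_zero, hp.1.1.coeff_natDegree, map_one, mul_one] at h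
  nth_rewrite 2 [← h]
  exact mul_inv_cancel₀ fun h0 => hp.1.2 (σ.injective (by rw [h0, map_zero]))

theorem fixed_cst_norm {p : F[X]} (hp : Fixed σ p) : σ (cst p) * cst p = 1 := by
  rw [cst, map_mul, map_pow, map_neg, map_one, mul_mul_mul_comm, fixed_norm σ hp, mul_one, ← pow_add,
    Even.neg_one_pow (Even.add_self _)]

theorem fixed_one : Fixed σ (1 : F[X]) := ⟨⟨monic_one, by simp⟩, tau_one σ⟩

/-- the fixed vectors of the semilinear involution `v ↦ ν · σ(v ∘ rev)` -/
abbrev Fix (ν : F) (d : ℕ) : Type u := {v : Fin d → F // ∀ i, v i = ν * σ (v (Fin.rev i))}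

variable [Fintype F] {q : ℕ}

theorem card_fix (hσ : ∀ x, σ (σ x) = x) (hns : ∃ c, σ c ≠ c) (hF : Fintype.card F = q ^ 2)
    {ν : F} (hν : σ ν * ν = 1) (d : ℕ) : Nat.card (Fix σ ν d) = q ^ d := by
  obtain ⟨c, hc⟩ := hns
  let T : (Fin d → F) → (Fin d → F) := fun v i => ν * σ (v (Fin.rev i))
  have hTT : ∀ v, T (T v) = v := fun v => funext fun i => by
    simp only [T, Fin.rev_rev, map_mul, hσ]
    rw [← mul_assoc, mul_comm ν, hν, one_mul]
  have hfix : ∀ v : Fix σ ν d, T v.1 = v.1 := fun v => funext fun i => (v.2 i).symm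
  let Φ : Fix σ ν d × Fix σ ν d → (Fin d → F) := fun x i => x.1.1 i + c * x.2.1 i
  have hTΦ : ∀ (y z : Fix σ ν d), T (Φ (y, z)) = fun i => y.1 i + σ c * z.1 i := fun y z => funext fun i => by
    simp only [T, Φ, map_add, map_mul, mul_add]
    rw [← y.2 i, mul_left_comm, ← z.2 i]
  have hbij : Function.Bijective Φ := by
    constructor
    · rintro ⟨y, z⟩ ⟨y', z'⟩ h
      have h2 := congrArg T h
      rw [hTΦ, hTΦ] at h2
      have hz : z = z' := Subtype.ext (funext fun i => by
        have e1 : y.1 i + c * z.1 i = y'.1 i + c * z'.1 i := congrFun h i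
        have e2 : y.1 i + σ c * z.1 i = y'.1 i + σ c * z'.1 i := congrFun h2 i
        have : (c - σ c) * z.1 i = (c - σ c) * z'.1 i := by linear_combination e1 - e2
        exact mul_left_cancel₀ (sub_ne_zero.2 (Ne.symm hc)) this)
      subst hz
      refine Prod.ext (Subtype.ext (funext fun i => ?_)) rfl
      exact add_right_cancel (congrFun h i)
    · intro v
      let z : Fin d → F := fun i => (c - σ c)⁻¹ * (v i - T v i)
      have hz : ∀ i, z i = ν * σ (z (Fin.rev i)) := by
        intro i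
        simp only [z, map_mul, map_inv₀, map_sub, hσ]
        have h := congrFun (hTT v) i
        simp only [T, Fin.rev_rev, map_mul, hσ] at h ⊢
        rw [show σ c - c = -(c - σ c) by ring, inv_neg]
        linear_combination ((c - σ c)⁻¹) * (-h)
      have hy : ∀ i, v i - c * z i = ν * σ (v (Fin.rev i) - c * z (Fin.rev i)) := by
        intro i
        rw [map_sub, map_mul, mul_sub, mul_left_comm ν (σ c), ← hz i]
        simp only [z, T]
        have : (c - σ c) ≠ 0 := sub_ne_zero.2 (Ne.symm hc)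
        field_simp
        ring
      exact ⟨(⟨fun i => v i - c * z i, hy⟩, ⟨z, hz⟩), funext fun i => sub_add_cancel _ _⟩
  have h := Nat.card_eq_of_bijective Φ hbij
  rw [Nat.card_prod, Nat.card_eq_fintype_card (α := Fin d → F), Fintype.card_fun, Fintype.card_fin, hF,
    ← pow_mul, mul_comm 2 d, pow_mul, ← sq] at h
  exact Nat.pow_left_injective two_ne_zero h

/-- fixed polynomials of degree `d + 1` with given constant term -/
theorem card_fixed_const_le (hσ : ∀ x, σ (σ x) = x) (hns : ∃ c, σ c ≠ c) (hF : Fintype.card F = q ^ 2)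
    (ν : F) (d : ℕ) : Nat.card {p : P F (d + 1) // Fixed σ p.1 ∧ p.1.coeff 0 = ν} ≤ q ^ d := by
  rcases isEmpty_or_nonempty {p : P F (d + 1) // Fixed σ p.1 ∧ p.1.coeff 0 = ν} with h | ⟨⟨p0⟩⟩
  · simp
  have hν : σ ν * ν = 1 := by rw [← p0.2.2]; exact fixed_norm σ p0.2.1
  rw [← card_fix σ hσ hns hF hν d]
  refine Nat.card_le_card_of_injective (fun p => (⟨fun i => p.1.1.coeff ((i : ℕ) + 1), fun i => ?_⟩ : Fix σ ν d))
    fun p r h => ?_
  · have h := congrArg (fun t : F[X] => t.coeff ((i : ℕ) + 1)) p.2.1.2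
    simp only [coeff_tau, p.1.2.2, p.2.2] at h
    rw [revAt_le (by omega), show d + 1 - ((i : ℕ) + 1) = ((Fin.rev i : Fin d) : ℕ) + 1 by simp; omega] at h
    show p.1.1.coeff ((i : ℕ) + 1) = ν * σ (p.1.1.coeff (((Fin.rev i : Fin d) : ℕ) + 1))
    have hi : (σ ν)⁻¹ = ν := inv_eq_of_mul_eq_one_right hν
    rw [← h, hi]
  · refine Subtype.ext (Subtype.ext (Polynomial.ext fun i => ?_))
    have h' : ∀ j : Fin d, p.1.1.coeff ((j : ℕ) + 1) = r.1.1.coeff ((j : ℕ) + 1) := fun j =>
      congrFun (congrArg Subtype.val h) j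
    rcases i with _ | i
    · rw [p.2.2, r.2.2]
    · rcases lt_trichotomy i d with hi | rfl | hi
      · exact h' ⟨i, hi⟩
      · have e1 := p.1.2.1.1.coeff_natDegree
        have e2 := r.1.2.1.1.coeff_natDegree
        rw [p.1.2.2] at e1
        rw [r.1.2.2] at e2
        rw [e1, e2]
      · rw [coeff_eq_zero_of_natDegree_lt (by rw [p.1.2.2]; omega), coeff_eq_zero_of_natDegree_lt (by rw [r.1.2.2]; omega)]

theorem exists_fixed_of_vec (hσ : ∀ x, σ (σ x) = x) {ν : F} (hν : σ ν * ν = 1) {d : ℕ} (v : Fix σ ν d) :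
    ∃ p : F[X], Fixed σ p ∧ p.natDegree = d + 1 ∧ p.coeff 0 = ν ∧ ∀ i : Fin d, p.coeff ((i : ℕ) + 1) = v.1 i := by
  let p := ((coeffEquiv (F := F) (d + 1)).symm (Fin.cons ν v.1))
  have hc : ∀ i : Fin (d + 1), p.1.coeff i = (Fin.cons ν v.1 : Fin (d + 1) → F) i := fun i => by
    rw [← coeffEquiv_apply]
    exact congrFun ((coeffEquiv (F := F) (d + 1)).apply_symm_apply _) i
  have h0 : p.1.coeff 0 = ν := by simpa using hc 0
  have hs : ∀ i : Fin d, p.1.coeff ((i : ℕ) + 1) = v.1 i := fun i => by simpa using hc i.succ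
  have hν0 : ν ≠ 0 := fun h => by rw [h, mul_zero] at hν; exact zero_ne_one hν
  have hg : Good p.1 := ⟨p.2.1, by rw [h0]; exact hν0⟩
  refine ⟨p.1, ⟨hg, Polynomial.ext fun i => ?_⟩, p.2.2, h0, hs⟩
  have hi : (σ ν)⁻¹ = ν := inv_eq_of_mul_eq_one_right hν
  rw [coeff_tau, p.2.2, h0, hi]
  have hlead : p.1.coeff (d + 1) = 1 := by
    have := p.2.1.coeff_natDegree
    rwa [p.2.2] at this
  rcases i with _ | i
  · rw [revAt_le (Nat.zero_le _), Nat.sub_zero, hlead, map_one, mul_one, h0]
  · rcases lt_trichotomy i d with hid | rfl | hid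
    · rw [revAt_le (by omega), show d + 1 - (i + 1) = ((Fin.rev ⟨i, hid⟩ : Fin d) : ℕ) + 1 by simp; omega, hs,
        hs ⟨i, hid⟩]
      exact (v.2 ⟨i, hid⟩).symm
    · rw [revAt_le le_rfl, Nat.sub_self, h0, mul_comm, hν, hlead]
    · rw [show revAt (d + 1) (i + 1) = i + 1 by
        rw [show (revAt (d + 1) (i + 1)) = revAtFun (d + 1) (i + 1) from rfl, revAtFun, if_neg (by omega)]]
      rw [coeff_eq_zero_of_natDegree_lt (by rw [p.2.2]; omega), map_zero, mul_zero]

theorem card_norm_one_le (hq : ∀ x, σ x = x ^ q) (hF : Fintype.card F = q ^ 2) :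
    Nat.card {ν : F // σ ν * ν = 1} ≤ q + 1 := by
  classical
  have hroots : ∀ ν : F, σ ν * ν = 1 → ν ∈ (X ^ (q + 1) - C (1 : F)).roots.toFinset := by
    intro ν h
    rw [Multiset.mem_toFinset, mem_roots (X_pow_sub_C_ne_zero (Nat.succ_pos q) 1), IsRoot, eval_sub, eval_pow,
      eval_X, eval_C, pow_succ, ← hq, h, sub_self]
  rw [Nat.card_eq_fintype_card, Fintype.card_subtype]
  refine le_trans (Finset.card_le_card fun ν h => hroots ν (Finset.mem_filter.1 h).2) ?_
  refine le_trans (Multiset.toFinset_card_le _) (le_trans (card_roots' _) ?_)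
  rw [natDegree_X_pow_sub_C]

theorem card_fixed_le (hσ : ∀ x, σ (σ x) = x) (hns : ∃ c, σ c ≠ c) (hq : ∀ x, σ x = x ^ q)
    (hF : Fintype.card F = q ^ 2) (d : ℕ) : Nat.card {p : P F d // Fixed σ p.1} ≤ cnt q d := by
  classical
  rcases d with _ | d
  · rw [show cnt q 0 = Nat.card (P F 0) by rw [card_P_zero]; rfl]
    exact Finite.card_subtype_le _
  · let f : {p : P F (d + 1) // Fixed σ p.1} →
        Σ ν : {ν : F // σ ν * ν = 1}, {p : P F (d + 1) // Fixed σ p.1 ∧ p.1.coeff 0 = ν.1} :=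
      fun p => ⟨⟨p.1.1.coeff 0, fixed_norm σ p.2⟩, ⟨p.1, p.2, rfl⟩⟩
    have hf : Function.Injective f := fun a b h => Subtype.ext
      (congrArg (fun t : Σ ν : {ν : F // σ ν * ν = 1}, {p : P F (d + 1) // Fixed σ p.1 ∧ p.1.coeff 0 = ν.1} => t.2.1) h)
    refine (Nat.card_le_card_of_injective f hf).trans ?_
    rw [Nat.card_sigma]
    refine (Finset.sum_le_sum fun ν _ => card_fixed_const_le σ hσ hns hF ν.1 d).trans ?_
    rw [Finset.sum_const, Finset.card_univ, smul_eq_mul, cnt, if_neg (Nat.succ_ne_zero d), Nat.add_sub_cancel,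
      ← Nat.card_eq_fintype_card]
    exact Nat.mul_le_mul_right _ (card_norm_one_le σ hq hF)

/-- fixed tuples with weights `s, s+1, …` -/
abbrev TS (s k m : ℕ) : Type u :=
  {h : Fin k → F[X] // (∀ j, Fixed σ (h j)) ∧ ∑ j : Fin k, (s + (j : ℕ)) * (h j).natDegree = m}

theorem card_TS_le (hσ : ∀ x, σ (σ x) = x) (hns : ∃ c, σ c ≠ c) (hq : ∀ x, σ x = x ^ q)
    (hF : Fintype.card F = q ^ 2) : ∀ k s, 1 ≤ s → ∀ m,
    Finite (TS σ s k m) ∧ Nat.card (TS σ s k m) ≤ tot q s k m := by
  classical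
  intro k
  induction k with
  | zero =>
    intro s _ m
    haveI : Subsingleton (TS σ s 0 m) := ⟨fun a b => Subtype.ext (funext fun j => j.elim0)⟩
    refine ⟨inferInstance, ?_⟩
    by_cases hm : m = 0
    · simp only [tot, hm, if_true]
      exact Finite.card_le_one_iff_subsingleton.2 inferInstance
    · haveI : IsEmpty (TS σ s 0 m) := ⟨fun a => hm (by simpa using a.2.2.symm)⟩
      simp
  | succ k ih =>
    intro s hs m
    haveI := fun j => (ih (s + 1) (by omega) j).1
    let D := (Finset.range (m + 1)).filter fun d => d * s ≤ m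
    let S := Σ d : D, {p : P F (d : ℕ) // Fixed σ p.1} × TS σ (s + 1) k (m - (d : ℕ) * s)
    have hsum : ∀ h : TS σ s (k + 1) m, (h.1 0).natDegree * s +
        ∑ j : Fin k, (s + 1 + (j : ℕ)) * (h.1 j.succ).natDegree = m := by
      intro h
      refine Eq.trans ?_ h.2.2
      rw [Fin.sum_univ_succ, Fin.val_zero, add_zero, mul_comm s]
      exact congrArg _ (Finset.sum_congr rfl fun j _ => by rw [Fin.val_succ, add_right_comm, add_assoc])
    let f : TS σ s (k + 1) m → S := fun h =>
      ⟨⟨(h.1 0).natDegree, by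
          have := hsum h
          have h2 : (h.1 0).natDegree * 1 ≤ (h.1 0).natDegree * s := Nat.mul_le_mul_left _ hs
          exact Finset.mem_filter.2 ⟨Finset.mem_range.2 (by omega), by omega⟩⟩,
        ⟨⟨h.1 0, (h.2.1 0).1, rfl⟩, h.2.1 0⟩, ⟨fun j => h.1 j.succ, fun j => h.2.1 _, by
          have := hsum h
          show _ = m - (h.1 0).natDegree * s
          exact Nat.eq_sub_of_add_eq (by rw [add_comm]; exact this)⟩⟩
    have hf : Function.Injective f := by
      intro a b hab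
      have h1 := congrArg (fun t : S => t.2.1.1.1) hab
      have h2 := congrArg (fun t : S => t.2.2.1) hab
      refine Subtype.ext (funext fun j => ?_)
      refine Fin.cases ?_ (fun i => ?_) j
      · exact h1
      · exact congrFun h2 i
    refine ⟨Finite.of_injective f hf, (Nat.card_le_card_of_injective f hf).trans ?_⟩
    rw [Nat.card_sigma, tot, ← Finset.sum_filter]
    rw [← Finset.sum_coe_sort D fun d => cnt q d * tot q (s + 1) k (m - d * s)]
    refine Finset.sum_le_sum fun d _ => ?_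
    rw [Nat.card_prod]
    exact Nat.mul_le_mul (card_fixed_le σ hσ hns hq hF d) (ih _ (by omega) _).2

end Cfsg.Agent.UnitaryPolys53
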