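import Mathlib
import Cfsg.Agent.Lib.UnitaryPolys53
import Cfsg.Agent.Lib.SymplecticAlt

/-!
Spaces with a nondegenerate symmetric or alternating form and an isometry:
kernels of polynomials in the isometry and their dimensions.
-/

set_option autoImplicit false

open Polynomial
open LinearMap (BilinForm)
open Cfsg.Agent.GLClassBound53 Cfsg.Agent.UnitaryPolys53

namespace Cfsg.Agent.FormSys53

universe u

/-- a `δ`-symmetric nondegenerate form with an isometry -/
structure Sys (F : Type u) [Field F] (δ : F) where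
  V : Type u
  [add : AddCommGroup V]
  [mod : Module F V]
  [fd : FiniteDimensional F V]
  g : Module.End F V
  B : BilinForm F V
  sym : ∀ x y, B y x = δ * B x y
  nd : ∀ x, (∀ y, B x y = 0) → x = 0
  inv : ∀ x y, B (g x) (g y) = B x y

attribute [instance] Sys.add Sys.mod Sys.fd

variable {F : Type u} [Field F] {δ : F}

/-- monic reciprocal -/
noncomputable def rec' (p : F[X]) : F[X] := tau (RingHom.id F) p

theorem rec_rec {p : F[X]} (hp : Good p) : rec' (rec' p) = p := tau_tau _ (fun _ => rfl) hp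

theorem rec_good {p : F[X]} (hp : Good p) : Good (rec' p) := (tau_good _ hp).1

theorem rec_natDegree {p : F[X]} (hp : Good p) : (rec' p).natDegree = p.natDegree := (tau_good _ hp).2

theorem rec_irreducible {p : F[X]} (hp : Good p) (h : Irreducible p) : Irreducible (rec' p) :=
  tau_irreducible _ (fun _ => rfl) hp h

theorem lin_good {ε : F} (hε : ε * ε = 1) : Good (X - C ε) := ⟨monic_X_sub_C ε, by
  simp only [coeff_sub, coeff_X_zero, coeff_C_zero, zero_sub, ne_eq, neg_eq_zero]
  rintro rfl; simp at hε⟩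

theorem rec_lin {ε : F} (hε : ε * ε = 1) : rec' (X - C ε) = X - C ε := by
  have hd : (rec' (X - C ε)).natDegree = 1 := by rw [rec_natDegree (lin_good hε), natDegree_X_sub_C]
  rw [(rec_good (lin_good hε)).1.eq_X_add_C hd]
  conv_rhs => rw [sub_eq_add_neg, ← C_neg]
  congr 2
  rw [rec', coeff_tau, natDegree_X_sub_C, revAt_le (Nat.zero_le _)]
  simp [inv_eq_of_mul_eq_one_right hε]

/-- equivariant isometry -/
def Iso (S S' : Sys F δ) : Prop :=
  ∃ T : S.V ≃ₗ[F] S'.V, (∀ x, T (S.g x) = S'.g (T x)) ∧ ∀ x y, S'.B (T x) (T y) = S.B x y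

theorem Iso.refl (S : Sys F δ) : Iso S S := ⟨LinearEquiv.refl F _, fun _ => rfl, fun _ _ => rfl⟩

theorem Iso.symm {S S' : Sys F δ} (h : Iso S S') : Iso S' S := by
  obtain ⟨T, h1, h2⟩ := h
  refine ⟨T.symm, fun x => ?_, fun x y => ?_⟩
  · apply T.injective
    rw [h1, T.apply_symm_apply, T.apply_symm_apply]
  · rw [← h2, T.apply_symm_apply, T.apply_symm_apply]

theorem Iso.trans {S S' S'' : Sys F δ} (h : Iso S S') (h' : Iso S' S'') : Iso S S'' := by
  obtain ⟨T, h1, h2⟩ := h
  obtain ⟨T', h1', h2'⟩ := h'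
  exact ⟨T.trans T', fun x => by simp [h1, h1'], fun x y => by simp [h2', h2]⟩

variable (S : Sys F δ)

theorem nd' {y : S.V} (h : ∀ x, S.B x y = 0) : y = 0 :=
  S.nd y fun x => by rw [S.sym, h, mul_zero]

theorem g_injective : Function.Injective S.g := by
  intro a b hab
  refine sub_eq_zero.1 (S.nd _ fun y => ?_)
  rw [← S.inv, map_sub, hab, sub_self, map_zero, LinearMap.zero_apply]

/-- the isometry as an equivalence -/
noncomputable def gEquiv : S.V ≃ₗ[F] S.V := LinearEquiv.ofInjectiveEndo S.g (g_injective S)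

/-- the inverse of the isometry -/
noncomputable def gi : Module.End F S.V := (gEquiv S).symm.toLinearMap

theorem g_gi : S.g * gi S = 1 := LinearMap.ext fun x => (gEquiv S).apply_symm_apply x

theorem gi_g : gi S * S.g = 1 := LinearMap.ext fun x => (gEquiv S).symm_apply_apply x

theorem g_gi_apply (x : S.V) : S.g (gi S x) = x := LinearMap.congr_fun (g_gi S) x

theorem gi_g_apply (x : S.V) : gi S (S.g x) = x := LinearMap.congr_fun (gi_g S) x

theorem commute_g_gi : Commute S.g (gi S) := (g_gi S).trans (gi_g S).symm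

/-- the value of a polynomial at the isometry -/
noncomputable abbrev ev (r : F[X]) : Module.End F S.V := aeval S.g r

/-- the value at the inverse -/
noncomputable abbrev evi (r : F[X]) : Module.End F S.V := aeval (gi S) r

theorem ev_mul (r s : F[X]) (x : S.V) : ev S (r * s) x = ev S r (ev S s x) := by
  simp only [ev, map_mul, Module.End.mul_apply]

theorem evi_mul (r s : F[X]) (x : S.V) : evi S (r * s) x = evi S r (evi S s x) := by
  simp only [evi, map_mul, Module.End.mul_apply]

theorem ev_comm (r s : F[X]) (x : S.V) : ev S r (ev S s x) = ev S s (ev S r x) := by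
  rw [← ev_mul, ← ev_mul, mul_comm]

theorem evi_ev_comm (r s : F[X]) (x : S.V) : evi S r (ev S s x) = ev S s (evi S r x) := by
  have h : Commute (evi S r) (ev S s) :=
    Algebra.commute_of_mem_adjoin_singleton_of_commute (Polynomial.aeval_mem_adjoin_singleton _ _)
      (Algebra.commute_of_mem_adjoin_singleton_of_commute (Polynomial.aeval_mem_adjoin_singleton _ _)
        (commute_g_gi S)).symm
  exact LinearMap.congr_fun h.eq x

theorem ev_lin (ε : F) (x : S.V) : ev S (X - C ε) x = S.g x - ε • x := by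
  simp [ev, Algebra.algebraMap_eq_smul_one]

theorem evi_lin (ε : F) (x : S.V) : evi S (X - C ε) x = gi S x - ε • x := by
  simp [evi, Algebra.algebraMap_eq_smul_one]

theorem B_gi (x y : S.V) : S.B (S.g x) y = S.B x (gi S y) := by
  conv_lhs => rw [← g_gi_apply S y]
  exact S.inv _ _

theorem adjoint (r : F[X]) (x y : S.V) : S.B (ev S r x) y = S.B x (evi S r y) := by
  induction r using Polynomial.induction_on' generalizing x y with
  | add a b ha hb =>
    simp only [ev, evi, map_add, LinearMap.add_apply]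
    rw [ha, hb]
  | monomial m a =>
    have hp : ∀ m x y, S.B ((S.g ^ m) x) y = S.B x ((gi S ^ m) y) := by
      intro m
      induction m with
      | zero => intro x y; rfl
      | succ m ih =>
        intro x y
        rw [pow_succ, pow_succ', Module.End.mul_apply, Module.End.mul_apply, ih, B_gi]
    simp only [ev, evi, aeval_monomial, Module.End.mul_apply, Module.algebraMap_end_apply,
      map_smul, LinearMap.smul_apply, smul_eq_mul, hp]

theorem adjoint' (r : F[X]) (x y : S.V) : S.B (evi S r x) y = S.B x (ev S r y) := by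
  rw [S.sym y (evi S r x), ← adjoint, ← S.sym]

/-- `p(g⁻¹) = p₀ g^{-d} p*(g)` -/
theorem evi_eq {p : F[X]} (hp : Good p) :
    evi S p = p.coeff 0 • (gi S ^ p.natDegree * ev S (rec' p)) := by
  have h0 : p.coeff 0 ≠ 0 := hp.2
  have hrev : ev S p.reverse = S.g ^ p.natDegree * evi S p := by
    simp only [ev, evi]
    rw [aeval_eq_sum_range' (show p.reverse.natDegree < p.natDegree + 1 from
        Nat.lt_succ_of_le (reverse_natDegree_le _)),
      aeval_eq_sum_range' (show p.natDegree < p.natDegree + 1 from Nat.lt_succ_self _),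
      Finset.mul_sum, ← Finset.sum_range_reflect]
    refine Finset.sum_congr rfl fun i hi => ?_
    rw [Finset.mem_range] at hi
    rw [coeff_reverse, revAt_le (by omega), show p.natDegree - (p.natDegree + 1 - 1 - i) = i by omega,
      mul_smul_comm]
    congr 1
    have e : S.g ^ p.natDegree = S.g ^ (p.natDegree - i) * S.g ^ i := by
      rw [← pow_add, Nat.sub_add_cancel (by omega)]
    rw [e, mul_assoc, ← (commute_g_gi S).mul_pow, g_gi, one_pow, mul_one,
      show p.natDegree + 1 - 1 - i = p.natDegree - i by omega]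
  rw [rec', tau, Polynomial.map_id, RingHom.id_apply]
  simp only [ev] at hrev ⊢
  rw [map_mul, aeval_C, hrev, ← Algebra.smul_def, mul_smul_comm, smul_smul, mul_inv_cancel₀ h0, one_smul,
    ← mul_assoc, ← (commute_g_gi S).symm.mul_pow, gi_g, one_pow, one_mul]

theorem gi_pow_injective (m : ℕ) : Function.Injective (gi S ^ m : Module.End F S.V) := by
  induction m with
  | zero => exact fun a b h => h
  | succ m ih =>
    rw [pow_succ']
    exact (gEquiv S).symm.injective.comp ih

theorem evi_apply_eq_zero {p : F[X]} (hp : Good p) {x : S.V} : evi S p x = 0 ↔ ev S (rec' p) x = 0 := by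
  rw [evi_eq S hp, LinearMap.smul_apply, smul_eq_zero_iff_right hp.2, Module.End.mul_apply]
  exact ⟨fun h => gi_pow_injective S _ (h.trans (map_zero _).symm), fun h => by rw [h, map_zero]⟩

theorem evi_pow_eq_zero {p : F[X]} (hp : Good p) (k : ℕ) {x : S.V} :
    evi S (p ^ k) x = 0 ↔ ev S (rec' p ^ k) x = 0 := by
  induction k generalizing x with
  | zero => simp [evi, ev]
  | succ k ih =>
    rw [pow_succ', pow_succ', evi_mul, ev_mul, evi_apply_eq_zero S hp, ← evi_ev_comm, ih, ev_comm]

/-- kernel of a power -/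
noncomputable abbrev K (p : F[X]) (k : ℕ) : Submodule F S.V := LinearMap.ker (ev S (p ^ k))

theorem mem_K {p : F[X]} {k : ℕ} {x : S.V} : x ∈ K S p k ↔ ev S (p ^ k) x = 0 := LinearMap.mem_ker

/-- dimension of the kernel of a power -/
noncomputable def kd (p : F[X]) (k : ℕ) : ℕ := Module.finrank F (K S p k)

theorem kd_zero (p : F[X]) : kd S p 0 = 0 := by
  have : K S p 0 = ⊥ := by
    ext x
    simp [mem_K, ev]
  rw [kd, this, finrank_bot]

theorem K_mono (p : F[X]) {a b : ℕ} (h : a ≤ b) : K S p a ≤ K S p b := by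
  intro x hx
  rw [mem_K] at hx ⊢
  rw [← Nat.sub_add_cancel h, pow_add, ev_mul, hx, map_zero]

/-- the orthogonal of the image is the kernel of the adjoint -/
theorem orth_range (r : F[X]) (y : S.V) :
    (∀ x ∈ LinearMap.range (ev S r), S.B x y = 0) ↔ evi S r y = 0 := by
  constructor
  · intro h
    refine nd' S fun x => ?_
    rw [← adjoint]
    exact h _ (LinearMap.mem_range_self _ x)
  · rintro h _ ⟨x, rfl⟩
    rw [adjoint, h, map_zero]

theorem B_nondegenerate : S.B.Nondegenerate :=
  ⟨S.nd, fun _ h => nd' S h⟩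

theorem B_isRefl : S.B.IsRefl := fun x y h => by rw [S.sym, h, mul_zero]

theorem finrank_ker_adjoint (r : F[X]) :
    Module.finrank F (LinearMap.ker (evi S r)) = Module.finrank F (LinearMap.ker (ev S r)) := by
  have h : LinearMap.ker (evi S r) = S.B.orthogonal (LinearMap.range (ev S r)) := by
    ext y
    rw [LinearMap.mem_ker, ← orth_range]
    rfl
  rw [h, LinearMap.BilinForm.finrank_orthogonal (B_nondegenerate S)]
  have := LinearMap.finrank_range_add_finrank_ker (ev S r)
  omega

/-- self-duality of the kernel dimensions -/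
theorem kd_rec {p : F[X]} (hp : Good p) (k : ℕ) : kd S (rec' p) k = kd S p k := by
  rw [kd, kd]
  refine Eq.trans ?_ (finrank_ker_adjoint S (p ^ k))
  rw [show K S (rec' p) k = LinearMap.ker (evi S (p ^ k)) from
    Submodule.ext fun x => (evi_pow_eq_zero S hp k).symm]

/-- an element orthogonal to the kernel of the adjoint is in the image -/
theorem mem_range_of_orth (r : F[X]) {x : S.V} (h : ∀ y, evi S r y = 0 → S.B x y = 0) :
    x ∈ LinearMap.range (ev S r) := by
  rw [← LinearMap.BilinForm.orthogonal_orthogonal (B_nondegenerate S) (B_isRefl S) (LinearMap.range (ev S r))]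
  intro y hy
  exact B_isRefl S x y (h y ((orth_range S r y).1 fun z hz => hy z hz))

/-- the radical of the level `j` form: `K_{j-1} + p K_{j+1}` -/
noncomputable def rad (p : F[X]) (j : ℕ) : Submodule F S.V :=
  K S p (j - 1) ⊔ (K S p (j + 1)).map (ev S p)

theorem rad_le (p : F[X]) {j : ℕ} : rad S p j ≤ K S p j := by
  refine sup_le (K_mono S p (Nat.sub_le _ _)) ?_
  rintro _ ⟨x, hx, rfl⟩
  rw [mem_K, ← ev_mul, ← pow_succ]
  exact hx

theorem finrank_map_K (p : F[X]) (j : ℕ) :
    Module.finrank F ((K S p (j + 1)).map (ev S p)) + kd S p 1 = kd S p (j + 1) := by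
  have h := LinearMap.finrank_range_add_finrank_ker ((ev S p).domRestrict (K S p (j + 1)))
  rw [LinearMap.range_domRestrict, LinearMap.ker_domRestrict] at h
  rw [kd, kd, ← h]
  congr 1
  have hle : K S p 1 ≤ K S p (j + 1) := K_mono S p (by omega)
  rw [← (Submodule.comapSubtypeEquivOfLe hle).finrank_eq]
  have : (K S p 1) = LinearMap.ker (ev S p) := by
    show LinearMap.ker (ev S (p ^ 1)) = _
    rw [pow_one]
  rw [this]

theorem finrank_rad (p : F[X]) {j : ℕ} (hj : 1 ≤ j) :
    Module.finrank F (rad S p j) + kd S p j = kd S p (j - 1) + kd S p (j + 1) := by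
  have h := Submodule.finrank_sup_add_finrank_inf_eq (K S p (j - 1)) ((K S p (j + 1)).map (ev S p))
  have hi : K S p (j - 1) ⊓ (K S p (j + 1)).map (ev S p) = (K S p j).map (ev S p) := by
    ext x
    simp only [Submodule.mem_inf, Submodule.mem_map]
    constructor
    · rintro ⟨hx, w, hw, rfl⟩
      refine ⟨w, ?_, rfl⟩
      rw [mem_K] at hx ⊢
      rw [← Nat.sub_add_cancel hj, pow_succ, ev_mul]
      exact hx
    · rintro ⟨w, hw, rfl⟩
      refine ⟨?_, w, K_mono S p (Nat.le_succ j) hw, rfl⟩
      rw [mem_K] at hw ⊢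
      rw [← ev_mul, ← pow_succ, Nat.sub_add_cancel hj]
      exact hw
  rw [hi] at h
  have e1 := finrank_map_K S p j
  have e2 := finrank_map_K S p (j - 1)
  rw [Nat.sub_add_cancel hj] at e2
  rw [rad]
  simp only [kd] at *
  omega

/-- concavity of the kernel dimensions -/
theorem kd_concave (p : F[X]) {j : ℕ} (hj : 1 ≤ j) : kd S p (j - 1) + kd S p (j + 1) ≤ 2 * kd S p j := by
  have h := finrank_rad S p hj
  have h2 := Submodule.finrank_mono (rad_le S p (j := j))
  simp only [kd] at *
  omega

theorem g_of_killed {ε : F} {x : S.V} (h : ev S (X - C ε) x = 0) : S.g x = ε • x := by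
  rwa [ev_lin, sub_eq_zero] at h

theorem gi_of_killed {ε : F} (hε : ε * ε = 1) {x : S.V} (h : ev S (X - C ε) x = 0) : gi S x = ε • x := by
  conv_lhs => rw [← one_smul F x, ← hε, mul_smul, ← g_of_killed S h, map_smul, gi_g_apply]

theorem ev_gi_comm (r : F[X]) (x : S.V) : ev S r (gi S x) = gi S (ev S r x) := by
  have := evi_ev_comm S X r x
  simp only [evi, aeval_X] at this
  exact this.symm

/-- on the kernel of `(g-ε)^(m+1)`, the adjoint of `(g-ε)^m` is `(-1)^m` times itself -/
theorem evi_lin_pow {ε : F} (hε : ε * ε = 1) : ∀ (m : ℕ) {x : S.V}, ev S ((X - C ε) ^ (m + 1)) x = 0 →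
    evi S ((X - C ε) ^ m) x = (-1 : F) ^ m • ev S ((X - C ε) ^ m) x := by
  intro m
  induction m with
  | zero => intro x _; simp [evi, ev]
  | succ m ih =>
    intro x hx
    have h2 : evi S (X - C ε) x = -ε • gi S (ev S (X - C ε) x) := by
      rw [evi_lin, ev_lin, map_sub, gi_g_apply, map_smul, smul_sub, smul_smul, neg_mul, hε, neg_smul, neg_smul,
        one_smul, sub_neg_eq_add, neg_add_eq_sub]
    set y := ev S (X - C ε) x with hy
    have hy0 : ev S ((X - C ε) ^ (m + 1)) y = 0 := by
      rw [hy, ← ev_mul, ← pow_succ]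
      exact hx
    have hgy : ev S ((X - C ε) ^ (m + 1)) (gi S y) = 0 := by rw [ev_gi_comm, hy0, map_zero]
    have hz : ev S (X - C ε) (ev S ((X - C ε) ^ m) y) = 0 := by
      rw [← ev_mul, ← pow_succ']
      exact hy0
    rw [pow_succ (X - C ε) m, evi_mul, h2, map_smul, ih hgy, ev_mul, ← hy, ev_gi_comm,
      gi_of_killed S hε hz, smul_smul, smul_smul]
    congr 1
    rw [pow_succ (-1 : F) m]
    linear_combination -((-1 : F) ^ m) * hε

/-- the level form -/
noncomputable def h (p : F[X]) (j : ℕ) (x y : S.V) : F := S.B x (ev S (p ^ (j - 1)) y)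

theorem h_symm {ε : F} (hε : ε * ε = 1) {j : ℕ} (hj : 1 ≤ j) {x y : S.V} (hx : x ∈ K S (X - C ε) j) :
    h S (X - C ε) j y x = δ * (-1) ^ (j - 1) * h S (X - C ε) j x y := by
  have hx' : ev S ((X - C ε) ^ (j - 1 + 1)) x = 0 := by rw [Nat.sub_add_cancel hj]; exact (mem_K S).1 hx
  rw [h, h, S.sym (ev S ((X - C ε) ^ (j - 1)) x) y, ← adjoint' S _ x y, evi_lin_pow S hε _ hx', map_smul,
    LinearMap.smul_apply, smul_eq_mul]
  rcases neg_one_pow_eq_or F (j - 1) with e | e <;> rw [e] <;> ring

/-- the radical of the level form is `rad` -/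
theorem h_radical {ε : F} (hε : ε * ε = 1) {j : ℕ} (hj : 1 ≤ j) {x : S.V} (hx : x ∈ K S (X - C ε) j)
    (h0 : ∀ y ∈ K S (X - C ε) j, h S (X - C ε) j x y = 0) : x ∈ rad S (X - C ε) j := by
  have hmem : ev S ((X - C ε) ^ (j - 1)) x ∈ LinearMap.range (ev S ((X - C ε) ^ j)) := by
    refine mem_range_of_orth S _ fun y hy => ?_
    rw [evi_pow_eq_zero S (lin_good hε), rec_lin hε] at hy
    have hy' : y ∈ K S (X - C ε) j := hy
    have e := h_symm S hε hj (x := x) (y := y) hx
    rw [h0 y hy', mul_zero, h] at e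
    exact B_isRefl S _ _ e
  obtain ⟨w, hw⟩ := hmem
  have hw1 : w ∈ K S (X - C ε) (j + 1) := by
    rw [mem_K, pow_succ', ev_mul, hw, ← ev_mul, ← pow_succ', Nat.sub_add_cancel hj]
    exact hx
  have hd : x - ev S (X - C ε) w ∈ K S (X - C ε) (j - 1) := by
    rw [mem_K, map_sub, ← ev_mul, ← pow_succ, Nat.sub_add_cancel hj, hw, sub_self]
  rw [← sub_add_cancel x (ev S (X - C ε) w)]
  exact Submodule.add_mem_sup hd ⟨w, hw1, rfl⟩

theorem h_rad_eq_zero {ε : F} (hε : ε * ε = 1) {j : ℕ} (hj : 1 ≤ j) {x y : S.V}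
    (hx : x ∈ rad S (X - C ε) j) (hy : y ∈ K S (X - C ε) j) : h S (X - C ε) j y x = 0 := by
  obtain ⟨a, ha, b, ⟨w, -, rfl⟩, rfl⟩ := Submodule.mem_sup.1 hx
  have hy' : evi S ((X - C ε) ^ j) y = 0 := by
    rw [evi_pow_eq_zero S (lin_good hε), rec_lin hε]
    exact hy
  rw [h, map_add, (mem_K S).1 ha, zero_add, ← ev_mul, ← pow_succ, Nat.sub_add_cancel hj, ← adjoint',
    hy', map_zero, LinearMap.zero_apply]

/-- at levels where the form is alternating the multiplicity is even -/
theorem even_mult (h2 : (2 : F) ≠ 0) {ε : F} (hε : ε * ε = 1) {j : ℕ} (hj : 1 ≤ j)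
    (hs : δ * (-1) ^ (j - 1) = -1) :
    Even (2 * kd S (X - C ε) j - (kd S (X - C ε) (j - 1) + kd S (X - C ε) (j + 1))) := by
  let W := K S (X - C ε) j
  let β : W →ₗ[F] W →ₗ[F] F := (S.B.compl₂ (ev S ((X - C ε) ^ (j - 1)))).compl₁₂ W.subtype W.subtype
  have hβ : ∀ x y : W, β x y = h S (X - C ε) j x y := fun x y => rfl
  have halt : ∀ x : W, β x x = 0 := by
    intro x
    have e := h_symm S hε hj (x := (x : S.V)) (y := (x : S.V)) x.2
    rw [hs, neg_one_mul] at e
    rw [hβ]
    exact (mul_eq_zero.1 (show (2 : F) * h S (X - C ε) j x x = 0 by linear_combination e)).resolve_left h2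
  obtain ⟨k, hk⟩ := SymplecticAlt.even_finrank_range β halt
  have hker : LinearMap.ker β = (rad S (X - C ε) j).comap W.subtype := by
    ext x
    constructor
    · intro hx
      exact h_radical S hε hj x.2 fun y hy => LinearMap.congr_fun (LinearMap.mem_ker.1 hx) ⟨y, hy⟩
    · intro hx
      refine LinearMap.mem_ker.2 (LinearMap.ext fun y => ?_)
      have e := h_symm S hε hj (x := (x : S.V)) (y := (y : S.V)) x.2
      rw [h_rad_eq_zero S hε hj (show (x : S.V) ∈ rad S (X - C ε) j from hx) y.2, hs, neg_one_mul, zero_eq_neg] at e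
      rw [hβ, LinearMap.zero_apply, e]
  have h1 := β.finrank_range_add_finrank_ker
  rw [hker, (Submodule.comapSubtypeEquivOfLe (rad_le S (X - C ε))).finrank_eq] at h1
  have h3 := finrank_rad S (X - C ε) hj
  refine ⟨k, ?_⟩
  simp only [kd, W] at *
  omega

end Cfsg.Agent.FormSys53
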