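import Mathlib
import Cfsg.Agent.Lib.FormSys53
import Cfsg.Agent.Lib.NormHilbert90
import Cfsg.Agent.Lib.FiniteFormClass

/-!
Sub-systems, orthogonal decompositions, discriminants and the two comparison lemmas.
-/

set_option autoImplicit false

open Polynomial
open LinearMap (BilinForm)
open Cfsg.Agent.GLClassBound53

namespace Cfsg.Agent.FormSub53

open Cfsg.Agent.FormSys53

universe u

variable {F : Type u} [Field F] {δ : F} (S : Sys F δ)

/-- an invariant subspace with nondegenerate restriction -/
structure Piece where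
  W : Submodule F S.V
  stable : ∀ x ∈ W, S.g x ∈ W
  nondeg : ∀ x ∈ W, (∀ y ∈ W, S.B x y = 0) → x = 0

variable {S}

/-- the system on a piece -/
noncomputable abbrev Piece.sys (P : Piece S) : Sys F δ where
  V := P.W
  g := S.g.restrict P.stable
  B := S.B.compl₁₂ P.W.subtype P.W.subtype
  sym x y := S.sym x y
  nd x h := Subtype.ext (P.nondeg x x.2 fun y hy => h ⟨y, hy⟩)
  inv x y := S.inv x y

theorem Piece.g_coe (P : Piece S) (x : P.W) : ((P.sys.g x : P.W) : S.V) = S.g x := rfl

theorem Piece.B_coe (P : Piece S) (x y : P.W) : P.sys.B x y = S.B (x : S.V) y := rfl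

theorem Piece.ev_mem (P : Piece S) (r : F[X]) {x : S.V} (hx : x ∈ P.W) : ev S r x ∈ P.W := by
  induction r using Polynomial.induction_on' with
  | add a b ha hb =>
    simp only [ev, map_add, LinearMap.add_apply]
    exact P.W.add_mem ha hb
  | monomial m a =>
    simp only [ev, aeval_monomial, Module.End.mul_apply, Module.algebraMap_end_apply]
    refine P.W.smul_mem _ ?_
    clear a
    induction m with
    | zero => exact hx
    | succ m ih => rw [pow_succ', Module.End.mul_apply]; exact P.stable _ ih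

theorem Piece.ev_coe (P : Piece S) (r : F[X]) (x : P.W) : ((ev P.sys r x : P.W) : S.V) = ev S r (x : S.V) := by
  induction r using Polynomial.induction_on' with
  | add a b ha hb =>
    simp only [ev, map_add, LinearMap.add_apply] at *
    rw [← ha, ← hb]
    rfl
  | monomial m a =>
    simp only [ev, aeval_monomial, Module.End.mul_apply, Module.algebraMap_end_apply]
    refine (congrArg (fun t : S.V => a • t) ?_)
    clear a
    induction m with
    | zero => rfl
    | succ m ih =>
      rw [pow_succ', pow_succ', Module.End.mul_apply, Module.End.mul_apply, ← ih]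
      rfl

theorem Piece.gi_mem (P : Piece S) {x : S.V} (hx : x ∈ P.W) : gi S x ∈ P.W := by
  obtain ⟨y, hy⟩ := (gEquiv P.sys).surjective ⟨x, hx⟩
  have : S.g (y : S.V) = x := congrArg Subtype.val hy
  rw [← this, gi_g_apply]
  exact y.2

theorem Piece.B_swap_zero (P : Piece S) {x y : S.V} (h : S.B x y = 0) : S.B y x = 0 := B_isRefl S x y h

/-- the orthogonal piece -/
noncomputable def Piece.compl (P : Piece S) : Piece S where
  W := S.B.orthogonal P.W
  stable x hx w hw := by
    show S.B w (S.g x) = 0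
    rw [← g_gi_apply S w, S.inv]
    exact hx _ (P.gi_mem hw)
  nondeg x hx h := by
    have hc : IsCompl P.W (S.B.orthogonal P.W) :=
      (LinearMap.BilinForm.isCompl_orthogonal_iff_disjoint (B_isRefl S)).2
        (Submodule.disjoint_def.2 fun z hz hz' => P.nondeg z hz fun y hy => B_isRefl S y z (hz' y hy))
    refine S.nd x fun z => ?_
    obtain ⟨a, ha, b, hb, rfl⟩ := Submodule.mem_sup.1 (show z ∈ P.W ⊔ S.B.orthogonal P.W by
      rw [hc.sup_eq_top]; trivial)
    rw [map_add, B_isRefl S a x (hx a ha), h b hb, add_zero]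

theorem Piece.isCompl (P : Piece S) : IsCompl P.W P.compl.W :=
  (LinearMap.BilinForm.isCompl_orthogonal_iff_disjoint (B_isRefl S)).2
    (Submodule.disjoint_def.2 fun z hz hz' => P.nondeg z hz fun y hy => B_isRefl S y z (hz' y hy))

/-- coordinates in an orthogonal decomposition -/
noncomputable def Piece.split (P : Piece S) : (P.W × P.compl.W) ≃ₗ[F] S.V :=
  Submodule.prodEquivOfIsCompl _ _ P.isCompl

theorem Piece.split_apply (P : Piece S) (z : P.W × P.compl.W) : P.split z = (z.1 : S.V) + z.2 :=
  Submodule.coe_prodEquivOfIsCompl' _ _ _ z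

theorem Piece.split_B (P : Piece S) (z z' : P.W × P.compl.W) :
    S.B (P.split z) (P.split z') = P.sys.B z.1 z'.1 + P.compl.sys.B z.2 z'.2 := by
  have h1 : S.B (z.1 : S.V) z'.2 = 0 := z'.2.2 _ z.1.2
  have h2 : S.B (z.2 : S.V) z'.1 = 0 := B_isRefl S _ _ (z.2.2 _ z'.1.2)
  rw [P.split_apply, P.split_apply, map_add, map_add, LinearMap.add_apply, LinearMap.add_apply, h1, h2,
    P.B_coe, P.compl.B_coe]
  abel

theorem Piece.split_g (P : Piece S) (z : P.W × P.compl.W) :
    S.g (P.split z) = P.split (P.sys.g z.1, P.compl.sys.g z.2) := by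
  rw [P.split_apply, P.split_apply, map_add]
  rfl

/-- two systems with isometric pieces and isometric complements are isometric -/
theorem iso_of_pieces {S' : Sys F δ} (P : Piece S) (P' : Piece S') (h1 : Iso P.sys P'.sys)
    (h2 : Iso P.compl.sys P'.compl.sys) : Iso S S' := by
  obtain ⟨T1, g1, b1⟩ := h1
  obtain ⟨T2, g2, b2⟩ := h2
  have g1' : ∀ x : P.W, T1 (P.sys.g x) = P'.sys.g (T1 x) := g1
  have g2' : ∀ x : P.compl.W, T2 (P.compl.sys.g x) = P'.compl.sys.g (T2 x) := g2
  refine ⟨P.split.symm.trans ((T1.prodCongr T2).trans P'.split), fun x => ?_, fun x y => ?_⟩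
  · obtain ⟨z, rfl⟩ := P.split.surjective x
    simp only [LinearEquiv.trans_apply]
    rw [P.split.symm_apply_apply, P'.split_g, P.split_g, P.split.symm_apply_apply]
    exact congrArg P'.split (Prod.ext (g1' z.1) (g2' z.2))
  · obtain ⟨z, rfl⟩ := P.split.surjective x
    obtain ⟨z', rfl⟩ := P.split.surjective y
    simp only [LinearEquiv.trans_apply]
    rw [P.split.symm_apply_apply, P.split.symm_apply_apply, P'.split_B, P.split_B]
    exact congrArg₂ (· + ·) (b1 z.1 z'.1) (b2 z.2 z'.2)

theorem Piece.kd_add (P : Piece S) (p : F[X]) (k : ℕ) : kd S p k = kd P.sys p k + kd P.compl.sys p k := by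
  have hsplit : ∀ z : P.W × P.compl.W,
      ev S (p ^ k) (P.split z) = P.split (ev P.sys (p ^ k) z.1, ev P.compl.sys (p ^ k) z.2) := by
    intro z
    rw [P.split_apply, P.split_apply, map_add, ← P.ev_coe, ← P.compl.ev_coe]
  have e : K S p k = ((K P.sys p k).prod (K P.compl.sys p k) : Submodule F (P.W × P.compl.W)).map P.split.toLinearMap := by
    ext x
    obtain ⟨z, rfl⟩ := P.split.surjective x
    rw [Submodule.mem_map_equiv, LinearEquiv.symm_apply_apply, mem_K, hsplit, LinearEquiv.map_eq_zero_iff]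
    exact Prod.mk_eq_zero
  rw [kd, e, P.split.finrank_map_eq]
  let e : ((K P.sys p k).prod (K P.compl.sys p k) : Submodule F (P.W × P.compl.W)) ≃ₗ[F]
      (K P.sys p k) × (K P.compl.sys p k) :=
    { toFun := fun z => (⟨z.1.1, z.2.1⟩, ⟨z.1.2, z.2.2⟩)
      invFun := fun w => ⟨(w.1.1, w.2.1), w.1.2, w.2.2⟩
      map_add' := fun _ _ => rfl
      map_smul' := fun _ _ => rfl
      left_inv := fun _ => rfl
      right_inv := fun _ => rfl }
  rw [e.finrank_eq, Module.finrank_prod]
  rfl

theorem Piece.finrank_add (P : Piece S) :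
    Module.finrank F P.sys.V + Module.finrank F P.compl.sys.V = Module.finrank F S.V :=
  (Module.finrank_prod (R := F) (M := P.W) (M' := P.compl.W)).symm.trans P.split.finrank_eq

theorem kd_of_equiv {S' : Sys F δ} (φ : S.V ≃ₗ[F] S'.V) (hφ : ∀ x, φ (S.g x) = S'.g (φ x)) (p : F[X]) (k : ℕ) :
    kd S p k = kd S' p k := by
  have hev : ∀ r x, φ (ev S r x) = ev S' r (φ x) := by
    intro r
    induction r using Polynomial.induction_on' with
    | add a b ha hb => intro x; simp only [ev, map_add, LinearMap.add_apply] at *; rw [ha, hb]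
    | monomial m a =>
      intro x
      simp only [ev, aeval_monomial, Module.End.mul_apply, Module.algebraMap_end_apply, map_smul]
      congr 1
      induction m generalizing x with
      | zero => rfl
      | succ m ih => rw [pow_succ, pow_succ, Module.End.mul_apply, Module.End.mul_apply, ih, hφ]
  have e : K S' p k = (K S p k).map φ.toLinearMap := by
    ext x
    obtain ⟨z, rfl⟩ := φ.surjective x
    rw [Submodule.mem_map_equiv, LinearEquiv.symm_apply_apply, mem_K, mem_K, ← hev, LinearEquiv.map_eq_zero_iff]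
  rw [kd, kd, e, φ.finrank_map_eq]

theorem kd_of_iso {S' : Sys F δ} (h : Iso S S') (p : F[X]) (k : ℕ) : kd S p k = kd S' p k := by
  obtain ⟨T, h1, -⟩ := h
  exact kd_of_equiv T h1 p k

section disc

variable [Fintype F] [DecidableEq F]

/-- the discriminant -/
noncomputable def disc (S : Sys F δ) : ℤ :=
  quadraticChar F (LinearMap.BilinForm.toMatrix (Module.finBasis F S.V) S.B).det

theorem disc_eq {ι : Type*} [Fintype ι] [DecidableEq ι] (b : Module.Basis ι F S.V) :
    disc S = quadraticChar F (LinearMap.BilinForm.toMatrix b S.B).det := by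
  obtain ⟨s, hs, e⟩ := FiniteFormClass.det_congr S.B b (Module.finBasis F S.V)
  rw [disc, e, map_mul, quadraticChar_sq_one' hs, one_mul]

theorem det_ne_zero {ι : Type*} [Fintype ι] [DecidableEq ι] (b : Module.Basis ι F S.V) :
    (LinearMap.BilinForm.toMatrix b S.B).det ≠ 0 :=
  (LinearMap.BilinForm.nondegenerate_iff_det_ne_zero b).1 (B_nondegenerate S)

theorem disc_ne_zero : disc S ≠ 0 := by
  rw [disc, ne_eq, quadraticChar_eq_zero_iff]
  exact det_ne_zero _

theorem disc_mul (P : Piece S) : disc S = disc P.sys * disc P.compl.sys := by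
  let b1 := Module.finBasis F P.sys.V
  let b2 := Module.finBasis F P.compl.sys.V
  let b : Module.Basis _ F S.V := (b1.prod b2).map P.split
  have e : LinearMap.BilinForm.toMatrix b S.B = Matrix.fromBlocks (LinearMap.BilinForm.toMatrix b1 P.sys.B) 0 0
      (LinearMap.BilinForm.toMatrix b2 P.compl.sys.B) := by
    ext i j
    rw [LinearMap.BilinForm.toMatrix_apply]
    rcases i with i | i <;> rcases j with j | j <;>
      simp [b, P.split_B, LinearMap.BilinForm.toMatrix_apply, Module.Basis.prod_apply]
  rw [disc_eq b, e, Matrix.det_fromBlocks_zero₂₁, map_mul]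
  rfl

theorem disc_of_iso {S' : Sys F δ} (h : Iso S S') : disc S = disc S' := by
  obtain ⟨T, -, h2⟩ := h
  rw [disc_eq (S := S') ((Module.finBasis F S.V).map T), disc]
  congr 2
  ext i j
  simp [LinearMap.BilinForm.toMatrix_apply, h2]

end disc

/-- the ratio of two forms along a linear isomorphism commuting with the isometries -/
theorem exists_ratio {S' : Sys F δ} (φ : S.V ≃ₗ[F] S'.V) (hφ : ∀ x, φ (S.g x) = S'.g (φ x)) :
    ∃ A : Module.End F S.V, (∀ x y, S.B (A x) y = S'.B (φ x) (φ y)) ∧ A * S.g = S.g * A ∧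
      (∀ x y, S.B (A x) y = S.B x (A y)) ∧ Function.Injective A := by
  let B' : BilinForm F S.V := S'.B.compl₁₂ φ.toLinearMap φ.toLinearMap
  have hb : S.B.Nondegenerate := B_nondegenerate S
  refine ⟨B'.symmCompOfNondegenerate S.B hb, ?_⟩
  have hA : ∀ x y, S.B (B'.symmCompOfNondegenerate S.B hb x) y = S'.B (φ x) (φ y) := fun x y =>
    B'.symmCompOfNondegenerate_left_apply hb y x
  refine ⟨hA, LinearMap.ext fun x => sub_eq_zero.1 (S.nd _ fun y => ?_), fun x y => ?_, fun x y hxy => ?_⟩
  · obtain ⟨w, rfl⟩ : ∃ w, S.g w = y := ⟨gi S y, g_gi_apply S y⟩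
    rw [map_sub, LinearMap.sub_apply, Module.End.mul_apply, Module.End.mul_apply, S.inv, hA, hA, hφ, hφ, S'.inv,
      sub_self]
  · rw [hA, S.sym _ x, hA, ← S'.sym]
  · refine φ.injective (sub_eq_zero.1 (S'.nd _ fun z => ?_))
    obtain ⟨w, rfl⟩ := φ.surjective z
    rw [map_sub, LinearMap.sub_apply, ← hA, ← hA, hxy, sub_self]

variable [Finite F]

/-- if the ratio is unipotent, the systems are isometric -/
theorem iso_of_unipotent (h2 : (2 : F) ≠ 0) {S' : Sys F δ} (φ : S.V ≃ₗ[F] S'.V)
    (hφ : ∀ x, φ (S.g x) = S'.g (φ x)) {A : Module.End F S.V} (hA : ∀ x y, S.B (A x) y = S'.B (φ x) (φ y))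
    (hAg : A * S.g = S.g * A) (hself : ∀ x y, S.B (A x) y = S.B x (A y)) (hnil : IsNilpotent (A - 1)) :
    Iso S S' := by
  obtain ⟨q, hq⟩ := CharP.exists F
  have hqp : q.Prime := (CharP.char_is_prime_or_zero F q).resolve_right fun h => by
    subst h
    haveI := CharP.charP_to_charZero F
    exact (Infinite.of_injective _ (Nat.cast_injective (R := F))).not_finite inferInstance
  haveI := Fact.mk hqp
  have hqodd : Odd q := hqp.odd_of_ne_two fun h => h2 (by
    subst h
    exact_mod_cast CharP.cast_eq_zero F 2)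
  obtain ⟨m, hm⟩ := hnil
  obtain ⟨k, hk⟩ : ∃ k, m ≤ q ^ k := ⟨m, (Nat.lt_pow_self hqp.one_lt).le⟩
  have hpow : A ^ (q ^ k) = 1 := by
    have h := congrArg (aeval (A - 1)) (add_pow_char_pow (R := F[X]) (p := q) (n := k) X 1)
    simp only [map_pow, map_add, aeval_X, map_one, one_pow, sub_add_cancel] at h
    rw [h, ← Nat.sub_add_cancel hk, pow_add, hm, mul_zero, zero_add]
  obtain ⟨c, hc⟩ := (hqodd.pow (n := k))
  let Y := A ^ (c + 1)
  have hY2 : Y * Y = A := by
    rw [← pow_add, show c + 1 + (c + 1) = 2 * c + 1 + 1 by ring, pow_succ, ← hc, hpow, one_mul]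
  have hYself : ∀ x y, S.B (Y x) y = S.B x (Y y) := by
    have : ∀ j x y, S.B ((A ^ j) x) y = S.B x ((A ^ j) y) := by
      intro j
      induction j with
      | zero => intro x y; rfl
      | succ j ih => intro x y; rw [pow_succ, Module.End.mul_apply, ih, hself, ← Module.End.mul_apply, ← pow_succ', pow_succ]
    exact this _
  have hYg : Commute Y S.g := (show Commute A S.g from hAg).pow_left _
  have hYinj : Function.Injective Y := by
    intro x y hxy
    have h1 : A x = A y := by rw [← hY2, Module.End.mul_apply, Module.End.mul_apply, hxy]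
    refine φ.injective (sub_eq_zero.1 (S'.nd _ fun z => ?_))
    obtain ⟨w, rfl⟩ := φ.surjective z
    rw [map_sub, LinearMap.sub_apply, ← hA, ← hA, h1, sub_self]
  have hiso : ∀ x y, S.B (Y x) (Y y) = S'.B (φ x) (φ y) := by
    intro x y
    rw [← hA, ← hY2, Module.End.mul_apply, hYself (Y x) y]
  let E := LinearEquiv.ofInjectiveEndo Y hYinj
  refine ⟨E.symm.trans φ, fun x => ?_, fun x y => ?_⟩
  · obtain ⟨w, rfl⟩ := E.surjective x
    have : S.g (E w) = E (S.g w) := (LinearMap.congr_fun hYg.eq w).symm
    rw [LinearEquiv.trans_apply, LinearEquiv.trans_apply, this, E.symm_apply_apply, E.symm_apply_apply, hφ]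
  · obtain ⟨w, rfl⟩ := E.surjective x
    obtain ⟨w', rfl⟩ := E.surjective y
    rw [LinearEquiv.trans_apply, LinearEquiv.trans_apply, E.symm_apply_apply, E.symm_apply_apply, ← hiso]
    rfl

/-- without eigenvalue `±1`, a linear isomorphism can be corrected to an isometry -/
theorem iso_of_regular {S' : Sys F δ} (hfix : ∀ x, S.g (S.g x) = x → x = 0) (φ : S.V ≃ₗ[F] S'.V)
    (hφ : ∀ x, φ (S.g x) = S'.g (φ x)) : Iso S S' := by
  haveI : Finite S.V := Module.finite_of_finite F
  haveI : Finite (Module.End F S.V) := Finite.of_injective _ DFunLike.coe_injective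
  obtain ⟨A, hA, hAg, hself, hAinj⟩ := exists_ratio φ hφ
  have hb := B_nondegenerate S
  have hext : ∀ f f' : Module.End F S.V, (∀ x y, S.B (f x) y = S.B (f' x) y) → f = f' := fun f f' h =>
    LinearMap.ext fun x => sub_eq_zero.1 (S.nd _ fun y => by simp [h x y])
  let τ : Module.End F S.V → Module.End F S.V := fun f => S.B.leftAdjointOfNondegenerate hb f
  have hτ : ∀ f x y, S.B (τ f x) y = S.B x (f y) := fun f x y =>
    S.B.isAdjointPairLeftAdjointOfNondegenerate hb f x y
  have hττ : ∀ f, τ (τ f) = f := fun f => hext _ _ fun x y => by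
    rw [hτ, S.sym _ x, hτ, ← S.sym]
  have hτadd : ∀ f f', τ (f + f') = τ f + τ f' := fun f f' => hext _ _ fun x y => by simp [hτ]
  have hτmul : ∀ f f', τ (f * f') = τ f' * τ f := fun f f' => hext _ _ fun x y => by
    rw [hτ, Module.End.mul_apply, Module.End.mul_apply, hτ, hτ]
  have hτalg : ∀ c : F, τ (algebraMap F _ c) = algebraMap F _ c := fun c => hext _ _ fun x y => by
    simp [hτ]
  have hτg : τ S.g = gi S := hext _ _ fun x y => by
    rw [hτ]
    conv_lhs => rw [← g_gi_apply S x]
    exact S.inv _ _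
  have hτA : τ A = A := hext _ _ fun x y => by rw [hτ, hself]
  have hgiA : gi S * A = A * gi S := by
    calc gi S * A = gi S * A * (S.g * gi S) := by rw [g_gi, mul_one]
      _ = gi S * (A * S.g) * gi S := by simp only [mul_assoc]
      _ = A * gi S := by rw [hAg, ← mul_assoc, gi_g, one_mul]
  let R := Algebra.adjoin F ({S.g, gi S, A} : Set (Module.End F S.V))
  letI : CommRing R := Algebra.adjoinCommRingOfComm F (by
    rintro a (rfl | rfl | rfl) b (rfl | rfl | rfl) <;>
      first
      | rfl
      | exact (commute_g_gi S).eq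
      | exact (commute_g_gi S).eq.symm
      | exact hAg
      | exact hAg.symm
      | exact hgiA
      | exact hgiA.symm)
  have hgR : S.g ∈ R := Algebra.subset_adjoin (by simp)
  have hgiR : gi S ∈ R := Algebra.subset_adjoin (by simp)
  have hAR : A ∈ R := Algebra.subset_adjoin (by simp)
  have hR : ∀ x ∈ R, τ x ∈ R := fun x hx => by
    induction hx using Algebra.adjoin_induction with
    | mem y hy =>
      rcases hy with rfl | rfl | rfl
      · rw [hτg]; exact hgiR
      · rw [← hτg, hττ]; exact hgR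
      · rw [hτA]; exact hAR
    | algebraMap c => rw [hτalg]; exact R.algebraMap_mem _
    | add y z _ _ hy hz => rw [hτadd]; exact R.add_mem hy hz
    | mul y z _ _ hy hz => rw [hτmul]; exact R.mul_mem hz hy
  let τR : R →+* R :=
    { toFun := fun x => ⟨τ x.1, hR x.1 x.2⟩
      map_one' := Subtype.ext (by simpa using hτalg 1)
      map_mul' := fun x y => by
        rw [mul_comm (⟨τ x.1, _⟩ : R)]
        exact Subtype.ext (hτmul x.1 y.1)
      map_zero' := Subtype.ext (by simpa using hτalg 0)
      map_add' := fun x y => Subtype.ext (hτadd x.1 y.1) }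
  have hunit : ∀ r : R, (∀ x, r.1 x = 0 → x = 0) → IsUnit r := fun r hr => by
    have hinj : Function.Injective fun z : R => r * z := fun a b h => by
      refine Subtype.ext (LinearMap.ext fun x => ?_)
      have h' : r.1 (a.1 x) = r.1 (b.1 x) := LinearMap.congr_fun (congrArg Subtype.val h) x
      exact sub_eq_zero.1 (hr _ (by rw [map_sub, h', sub_self]))
    obtain ⟨z, hz⟩ := Finite.injective_iff_surjective.1 hinj 1
    exact IsUnit.of_mul_eq_one z hz
  let a : R := ⟨S.g, hgR⟩
  have hc : IsUnit (a - τR a) := hunit _ fun x hx => by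
    refine hfix x ?_
    have hx' : S.g x - τ S.g x = 0 := hx
    rw [sub_eq_zero, hτg] at hx'
    rw [hx', g_gi_apply]
  have hs : IsUnit (⟨A, hAR⟩ : R) := hunit _ fun x hx => hAinj (hx.trans (map_zero A).symm)
  obtain ⟨t, htu, ht⟩ := NormHilbert90.exists_norm_eq τR (fun x => Subtype.ext (hττ x.1)) a hc ⟨A, hAR⟩ hs
    (Subtype.ext hτA)
  have htinj : Function.Injective t.1 := by
    intro x y hxy
    obtain ⟨u, hu⟩ := htu.exists_left_inv
    have := congrArg (fun z => (u : Module.End F S.V) z) hxy
    rwa [← Module.End.mul_apply, ← Module.End.mul_apply,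
      show (u : Module.End F S.V) * t.1 = 1 from congrArg Subtype.val hu] at this
  have htg : t.1 * S.g = S.g * t.1 := congrArg Subtype.val (mul_comm t a)
  have hiso : ∀ x y, S.B (t.1 x) (t.1 y) = S'.B (φ x) (φ y) := by
    intro x y
    rw [← hτ, ← Module.End.mul_apply, show τ t.1 * t.1 = A from congrArg Subtype.val ((mul_comm _ _).trans ht), hA]
  let E := LinearEquiv.ofInjectiveEndo t.1 htinj
  refine ⟨E.symm.trans φ, fun x => ?_, fun x y => ?_⟩
  · obtain ⟨w, rfl⟩ := E.surjective x
    have : S.g (E w) = E (S.g w) := (LinearMap.congr_fun htg w).symm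
    rw [LinearEquiv.trans_apply, LinearEquiv.trans_apply, this, E.symm_apply_apply, E.symm_apply_apply, hφ]
  · obtain ⟨w, rfl⟩ := E.surjective x
    obtain ⟨w', rfl⟩ := E.surjective y
    rw [LinearEquiv.trans_apply, LinearEquiv.trans_apply, E.symm_apply_apply, E.symm_apply_apply, ← hiso]
    rfl

end Cfsg.Agent.FormSub53
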