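import Mathlib
import Cfsg.Agent.Lib.FormSub53

/-!
Pieces generated by vectors with invertible top Gram matrix at an eigenvalue `±1`.
-/

set_option autoImplicit false

open Polynomial
open LinearMap (BilinForm)
open Cfsg.Agent.GLClassBound53

namespace Cfsg.Agent.FormGen53

open Cfsg.Agent.FormSys53 Cfsg.Agent.FormSub53

universe u

variable {F : Type u} [Field F] {δ : F}

theorem aeval_eigen {V : Type*} [AddCommGroup V] [Module F V] {T : Module.End F V} {c : F} {z : V}
    (hz : T z = c • z) (r : F[X]) : aeval T r z = r.eval c • z := by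
  induction r using Polynomial.induction_on' with
  | add a b ha hb => rw [map_add, LinearMap.add_apply, ha, hb, eval_add, add_smul]
  | monomial m a =>
    rw [aeval_monomial, Module.End.mul_apply, Module.algebraMap_end_apply, eval_monomial, mul_smul]
    congr 1
    induction m with
    | zero => simp
    | succ m ih => rw [pow_succ', Module.End.mul_apply, ih, map_smul, hz, smul_smul, pow_succ]

theorem gi_stable (S : Sys F δ) {W : Submodule F S.V} (hW : ∀ x ∈ W, S.g x ∈ W) :
    ∀ x ∈ W, gi S x ∈ W := by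
  intro x hx
  have hs : Function.Surjective (S.g.restrict hW) :=
    LinearMap.surjective_of_injective fun a b h => Subtype.ext (g_injective S (congrArg Subtype.val h))
  obtain ⟨y, hy⟩ := hs ⟨x, hx⟩
  rw [← show S.g (y : S.V) = x from congrArg Subtype.val hy, gi_g_apply]
  exact y.2

theorem evi_stable (S : Sys F δ) {W : Submodule F S.V} (hW : ∀ x ∈ W, S.g x ∈ W) (r : F[X]) :
    ∀ x ∈ W, evi S r x ∈ W := by
  intro x hx
  induction r using Polynomial.induction_on' with
  | add a b ha hb => simp only [evi, map_add, LinearMap.add_apply]; exact W.add_mem ha hb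
  | monomial m a =>
    simp only [evi, aeval_monomial, Module.End.mul_apply, Module.algebraMap_end_apply]
    refine W.smul_mem _ ?_
    clear a
    induction m with
    | zero => exact hx
    | succ m ih => rw [pow_succ', Module.End.mul_apply]; exact gi_stable S hW _ ih

/-- generators with invertible top Gram matrix -/
structure Gen (S : Sys F δ) (ε : F) (e k : ℕ) where
  hε : ε * ε = 1
  he : 1 ≤ e
  u : Fin k → S.V
  kill : ∀ i, ev S ((X - C ε) ^ e) (u i) = 0
  det : (Matrix.of fun i j => FormSys53.h S (X - C ε) e (u i) (u j)).det ≠ 0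

variable {S : Sys F δ} {ε : F} {e k : ℕ} (G : Gen S ε e k)

/-- the top Gram matrix -/
noncomputable def Gen.H : Matrix (Fin k) (Fin k) F := Matrix.of fun i j => FormSys53.h S (X - C ε) e (G.u i) (G.u j)

/-- the spanning map -/
noncomputable def Gen.Φ : (Fin k → F[X]) →ₗ[F] S.V where
  toFun r := ∑ i, ev S (r i) (G.u i)
  map_add' r s := by
    rw [← Finset.sum_add_distrib]
    exact Finset.sum_congr rfl fun i _ => by simp [ev]
  map_smul' c r := by
    rw [Finset.smul_sum]
    exact Finset.sum_congr rfl fun i _ => by simp [ev]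

theorem Gen.Φ_apply (r : Fin k → F[X]) : G.Φ r = ∑ i, ev S (r i) (G.u i) := rfl

theorem Gen.ev_Φ (t : F[X]) (r : Fin k → F[X]) : ev S t (G.Φ r) = G.Φ (fun i => t * r i) := by
  rw [G.Φ_apply, G.Φ_apply, map_sum]
  exact Finset.sum_congr rfl fun i _ => (ev_mul S t (r i) _).symm

theorem Gen.g_Φ (r : Fin k → F[X]) : S.g (G.Φ r) = G.Φ (fun i => X * r i) := by
  rw [← G.ev_Φ]
  simp [ev]

/-- the top of a generator is killed by `g - ε` -/
theorem Gen.top_killed (i : Fin k) : S.g (ev S ((X - C ε) ^ (e - 1)) (G.u i)) = ε • ev S ((X - C ε) ^ (e - 1)) (G.u i) := by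
  refine g_of_killed S ?_
  rw [← ev_mul, ← pow_succ', Nat.sub_add_cancel G.he]
  exact G.kill i

theorem Gen.gi_top_killed (i : Fin k) :
    gi S (ev S ((X - C ε) ^ (e - 1)) (G.u i)) = ε • ev S ((X - C ε) ^ (e - 1)) (G.u i) := by
  refine gi_of_killed S G.hε ?_
  rw [← ev_mul, ← pow_succ', Nat.sub_add_cancel G.he]
  exact G.kill i

/-- the top form on the span -/
theorem Gen.top_form (r s : Fin k → F[X]) :
    FormSys53.h S (X - C ε) e (G.Φ r) (G.Φ s) =
      ∑ l, ∑ i, (r l).eval ε * (s i).eval ε * G.H l i := by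
  rw [FormSys53.h, G.Φ_apply, G.Φ_apply, map_sum, map_sum, LinearMap.sum_apply]
  refine Finset.sum_congr rfl fun l _ => ?_
  rw [map_sum]
  refine Finset.sum_congr rfl fun i _ => ?_
  rw [ev_comm, ev, aeval_eigen (G.top_killed i), map_smul, smul_eq_mul, adjoint, evi,
    aeval_eigen (G.gi_top_killed i), map_smul, smul_eq_mul]
  show _ = _ * S.B (G.u l) (ev S ((X - C ε) ^ (e - 1)) (G.u i))
  ring

/-- a combination not killed pairs nontrivially -/
theorem Gen.exists_pair {r : Fin k → F[X]} (hr : ¬ ∀ i, (X - C ε) ^ e ∣ r i) :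
    ∃ (t : F[X]) (l : Fin k), S.B (G.u l) (ev S t (G.Φ r)) ≠ 0 := by
  classical
  push Not at hr
  obtain ⟨i0, hi0⟩ := hr
  let P : ℕ → Prop := fun m => ∃ i, ¬ (X - C ε) ^ e ∣ (X - C ε) ^ m * r i
  have h0 : P 0 := ⟨i0, by simpa using hi0⟩
  set m := Nat.findGreatest P e with hm
  obtain ⟨i1, hi1⟩ : P m := Nat.findGreatest_spec (Nat.zero_le e) h0
  have hme : m < e := by
    by_contra hcon
    exact hi1 (Dvd.dvd.mul_right (pow_dvd_pow _ (by omega)) _)
  have hall : ∀ i, (X - C ε) ^ (e - 1) ∣ (X - C ε) ^ m * r i := by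
    intro i
    have h := Nat.findGreatest_is_greatest (P := P) (n := e) (Nat.lt_succ_self m) (by omega)
    simp only [P, not_exists, not_not] at h
    have h' := h i
    rw [pow_succ', mul_assoc] at h'
    rw [← Nat.sub_add_cancel G.he, pow_succ'] at h'
    exact (mul_dvd_mul_iff_left (X_sub_C_ne_zero ε)).1 h'
  choose a ha using hall
  have hv : (fun i => (a i).eval ε) ≠ 0 := by
    intro h
    refine hi1 ?_
    rw [ha, ← Nat.sub_add_cancel G.he, pow_succ, Nat.add_sub_cancel]
    exact mul_dvd_mul_left _ (dvd_iff_isRoot.2 (congrFun h i1))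
  have hz : G.H.mulVec (fun i => (a i).eval ε) ≠ 0 := fun h => hv (Matrix.eq_zero_of_mulVec_eq_zero G.det h)
  obtain ⟨l, hl⟩ := Function.ne_iff.1 hz
  refine ⟨(X - C ε) ^ m, l, ?_⟩
  rw [G.ev_Φ]
  intro h
  apply hl
  rw [Pi.zero_apply, ← h, G.Φ_apply, map_sum, Matrix.mulVec, dotProduct]
  refine Finset.sum_congr rfl fun i _ => ?_
  rw [ha, mul_comm ((X - C ε) ^ (e - 1)), ev_mul, ev, aeval_eigen (G.top_killed i), map_smul, smul_eq_mul, mul_comm]
  rfl

theorem Gen.Φ_eq_zero {r : Fin k → F[X]} : G.Φ r = 0 ↔ ∀ i, (X - C ε) ^ e ∣ r i := by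
  constructor
  · intro h
    by_contra hr
    obtain ⟨t, l, h'⟩ := G.exists_pair hr
    rw [h, map_zero, map_zero] at h'
    exact h' rfl
  · intro h
    rw [G.Φ_apply]
    refine Finset.sum_eq_zero fun i _ => ?_
    obtain ⟨c, hc⟩ := h i
    rw [hc, mul_comm, ev_mul, G.kill, map_zero]

/-- the piece spanned by the generators -/
noncomputable abbrev Gen.piece : Piece S where
  W := LinearMap.range G.Φ
  stable := by
    rintro _ ⟨r, rfl⟩
    exact ⟨_, (G.g_Φ r).symm⟩
  nondeg := by
    rintro _ ⟨r, rfl⟩ h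
    rw [G.Φ_eq_zero]
    by_contra hr
    obtain ⟨t, l, h'⟩ := G.exists_pair hr
    refine h' ?_
    have hst : ∀ x ∈ LinearMap.range G.Φ, S.g x ∈ LinearMap.range G.Φ := by
      rintro _ ⟨s, rfl⟩
      exact ⟨_, (G.g_Φ s).symm⟩
    have hu : G.u l ∈ LinearMap.range G.Φ := by
      refine ⟨Pi.single l 1, ?_⟩
      rw [G.Φ_apply, Finset.sum_eq_single l]
      · simp [ev]
      · intro i _ hi; simp [ev, hi]
      · simp
    rw [← adjoint']
    exact B_isRefl S _ _ (h _ (evi_stable S hst t _ hu))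

/-- elements of the piece -/
noncomputable def Gen.el (r : Fin k → F[X]) : G.piece.W := ⟨G.Φ r, LinearMap.mem_range_self _ r⟩

theorem Gen.el_surjective (x : G.piece.W) : ∃ r, G.el r = x := by
  obtain ⟨_, r, rfl⟩ := x
  exact ⟨r, rfl⟩

theorem Gen.exists_linear {S' : Sys F δ} (G' : Gen S' ε e k) :
    ∃ φ : G.piece.W ≃ₗ[F] G'.piece.W, (∀ r, φ (G.el r) = G'.el r) ∧
      ∀ x, φ (G.piece.sys.g x) = G'.piece.sys.g (φ x) := by
  have hker : LinearMap.ker G.Φ = LinearMap.ker G'.Φ := by
    ext r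
    rw [LinearMap.mem_ker, LinearMap.mem_ker, G.Φ_eq_zero, G'.Φ_eq_zero]
  let φ : G.piece.W ≃ₗ[F] G'.piece.W :=
    G.Φ.quotKerEquivRange.symm.trans ((Submodule.quotEquivOfEq _ _ hker).trans G'.Φ.quotKerEquivRange)
  have hφ : ∀ r, φ (G.el r) = G'.el r := by
    intro r
    simp only [φ, Gen.el, LinearEquiv.trans_apply, LinearMap.quotKerEquivRange_symm_apply_image,
      Submodule.mkQ_apply, Submodule.quotEquivOfEq_mk]
    rfl
  refine ⟨φ, hφ, fun x => ?_⟩
  obtain ⟨r, rfl⟩ := G.el_surjective x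
  have e1 : G.piece.sys.g (G.el r) = G.el (fun i => X * r i) := Subtype.ext (G.g_Φ r)
  have e2 : G'.piece.sys.g (G'.el r) = G'.el (fun i => X * r i) := Subtype.ext (G'.g_Φ r)
  rw [e1, hφ, hφ, e2]

/-- pieces of the same shape and top form are isometric -/
theorem Gen.iso [Finite F] (h2 : (2 : F) ≠ 0) {S' : Sys F δ} (G' : Gen S' ε e k) (hH : G.H = G'.H) :
    Iso G.piece.sys G'.piece.sys := by
  set p := X - C ε with hp
  set W := G.piece.sys with hWdef
  obtain ⟨φ, hφ, hφg⟩ := G.exists_linear G'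
  obtain ⟨A, hA, hAg, hself, -⟩ := exists_ratio (S := G.piece.sys) (S' := G'.piece.sys) φ hφg
  refine iso_of_unipotent h2 φ hφg hA hAg hself ⟨e, ?_⟩
  have htop : ∀ z y, W.B ((A - 1) z) (ev W (p ^ (e - 1)) y) = 0 := by
    intro z y
    obtain ⟨r, rfl⟩ := G.el_surjective z
    obtain ⟨s, rfl⟩ := G.el_surjective y
    have e1 : ev W (p ^ (e - 1)) (G.el s) = G.el (fun i => p ^ (e - 1) * s i) :=
      Subtype.ext ((G.piece.ev_coe _ _).trans (G.ev_Φ _ s))
    rw [LinearMap.sub_apply, map_sub, LinearMap.sub_apply, Module.End.one_apply, hA, e1, hφ, hφ]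
    have e2 : G'.piece.sys.B (G'.el r) (G'.el fun i => p ^ (e - 1) * s i) =
        FormSys53.h S' p e (G'.Φ r) (G'.Φ s) := by
      rw [FormSys53.h, G'.ev_Φ]; rfl
    have e3 : W.B (G.el r) (G.el fun i => p ^ (e - 1) * s i) = FormSys53.h S p e (G.Φ r) (G.Φ s) := by
      rw [FormSys53.h, G.ev_Φ]; rfl
    rw [e2, e3, G.top_form, G'.top_form, hH, sub_self]
  have hstep : ∀ z, ∃ w, (A - 1) z = ev W p w := by
    intro z
    have h1 : evi W (p ^ (e - 1)) ((A - 1) z) = 0 :=
      W.nd _ fun y => by rw [adjoint', htop]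
    rw [evi_pow_eq_zero W (lin_good G.hε), rec_lin G.hε] at h1
    obtain ⟨r, hr⟩ := G.el_surjective ((A - 1) z)
    rw [← hr] at h1 ⊢
    have h2' : G.Φ (fun i => p ^ (e - 1) * r i) = 0 := by
      rw [← G.ev_Φ]
      exact (G.piece.ev_coe _ _).symm.trans (congrArg Subtype.val h1)
    rw [G.Φ_eq_zero] at h2'
    have hdiv : ∀ i, p ∣ r i := fun i => by
      have := h2' i
      rw [← hp, show p ^ e = p ^ (e - 1) * p by rw [← pow_succ, Nat.sub_add_cancel G.he]] at this
      exact (mul_dvd_mul_iff_left (pow_ne_zero _ (X_sub_C_ne_zero ε))).1 this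
    choose s hs using hdiv
    refine ⟨G.el s, Subtype.ext ?_⟩
    rw [G.piece.ev_coe]
    show G.Φ r = ev S p (G.Φ s)
    rw [G.ev_Φ]
    exact congrArg G.Φ (funext hs)
  have hcomm : Commute (A - 1) (ev W p) :=
    Algebra.commute_of_mem_adjoin_singleton_of_commute (Polynomial.aeval_mem_adjoin_singleton _ _)
      ((show Commute A W.g from hAg).sub_left (Commute.one_left _))
  have hpow : ∀ m z, ∃ w, ((A - 1) ^ m) z = ev W (p ^ m) w := by
    intro m
    induction m with
    | zero => intro z; exact ⟨z, by simp [ev]⟩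
    | succ m ih =>
      intro z
      obtain ⟨w, hw⟩ := ih z
      obtain ⟨w', hw'⟩ := hstep w
      refine ⟨w', ?_⟩
      rw [pow_succ' (A - 1) m, Module.End.mul_apply, hw, pow_succ p m, ev_mul, ← hw']
      exact LinearMap.congr_fun ((Algebra.commute_of_mem_adjoin_singleton_of_commute
        (Polynomial.aeval_mem_adjoin_singleton _ _)
        ((show Commute A W.g from hAg).sub_left (Commute.one_left _))).eq) w
  refine LinearMap.ext fun z => ?_
  obtain ⟨w, hw⟩ := hpow e z
  rw [hw, LinearMap.zero_apply]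
  obtain ⟨r, rfl⟩ := G.el_surjective w
  refine Subtype.ext ((G.piece.ev_coe _ _).trans ?_)
  show ev S (p ^ e) (G.Φ r) = 0
  rw [G.ev_Φ, G.Φ_eq_zero]
  exact fun i => dvd_mul_right _ _

/-- dimension of a cyclic piece -/
theorem Gen.finrank_one {G : Gen S ε e 1} : Module.finrank F G.piece.W = e := by
  let f : degreeLT F e →ₗ[F] G.piece.W :=
    { toFun := fun r => G.el fun _ => (r : F[X])
      map_add' := fun r s => Subtype.ext (G.Φ.map_add _ _)
      map_smul' := fun c r => Subtype.ext (G.Φ.map_smul c _) }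
  have hp : ((X - C ε) ^ e).degree = (e : WithBot ℕ) := by rw [degree_pow, degree_X_sub_C, nsmul_one]
  have hbij : Function.Bijective f := by
    refine ⟨(injective_iff_map_eq_zero f).2 fun r hr => ?_, fun x => ?_⟩
    · have := (G.Φ_eq_zero).1 (congrArg Subtype.val hr) 0
      refine Subtype.ext (eq_zero_of_dvd_of_degree_lt this ?_)
      rw [hp]
      exact mem_degreeLT.1 r.2
    · obtain ⟨s, rfl⟩ := G.el_surjective x
      refine ⟨⟨s 0 %ₘ (X - C ε) ^ e, ?_⟩, Subtype.ext (sub_eq_zero.1 ?_)⟩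
      · rw [mem_degreeLT, ← hp]
        exact degree_modByMonic_lt _ ((monic_X_sub_C ε).pow e)
      · show G.Φ _ - G.Φ s = 0
        rw [← map_sub, G.Φ_eq_zero]
        intro i
        rw [Fin.fin_one_eq_zero i, Pi.sub_apply]
        exact ⟨-(s 0 /ₘ (X - C ε) ^ e), by linear_combination (modByMonic_add_div (s 0) ((X - C ε) ^ e))⟩
  rw [← (LinearEquiv.ofBijective f hbij).finrank_eq, (degreeLTEquiv F e).finrank_eq, Module.finrank_fin_fun]

/-- the top of a nonempty piece is not killed by `(g-ε)^(e-1)` -/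
theorem Gen.kd_lt (G : Gen S ε e k) (hk : 0 < k) :
    kd G.piece.sys (X - C ε) (e - 1) < Module.finrank F G.piece.sys.V := by
  refine Submodule.finrank_lt fun htop => ?_
  let l : Fin k := ⟨0, hk⟩
  have hx : G.el (Pi.single l 1) ∈ K G.piece.sys (X - C ε) (e - 1) := by rw [htop]; trivial
  rw [mem_K] at hx
  have h1 : G.Φ (fun i => (X - C ε) ^ (e - 1) * (Pi.single l (1 : F[X]) : Fin k → F[X]) i) = 0 := by
    rw [← G.ev_Φ]
    exact (G.piece.ev_coe _ _).symm.trans (congrArg Subtype.val hx)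
  have := (G.Φ_eq_zero).1 h1 l
  rw [Pi.single_eq_same, mul_one, pow_dvd_pow_iff (X_sub_C_ne_zero ε) (not_isUnit_X_sub_C ε)] at this
  have := G.he
  omega

theorem Gen.kd_eq_finrank (G : Gen S ε e k) {m : ℕ} (hm : e ≤ m) :
    kd G.piece.sys (X - C ε) m = Module.finrank F G.piece.sys.V := by
  have : K G.piece.sys (X - C ε) m = ⊤ := by
    refine Submodule.eq_top_iff'.2 fun x => ?_
    refine K_mono _ _ hm ?_
    obtain ⟨r, rfl⟩ := G.el_surjective x
    rw [mem_K]
    refine Subtype.ext ((G.piece.ev_coe _ _).trans ?_)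
    show ev S _ (G.Φ r) = 0
    rw [G.ev_Φ, G.Φ_eq_zero]
    exact fun i => dvd_mul_right _ _
  rw [kd, this, finrank_top]

end Cfsg.Agent.FormGen53
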