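import Mathlib
import Cfsg.Agent.Lib.FormGen53

/-!
At one eigenvalue `±1`: at most `2^s` isometry classes with given kernel dimensions, where `s` is the number
of levels carrying a symmetric form; at most `2^(s-1)` when the discriminant is also given.
-/

set_option autoImplicit false

open Polynomial
open LinearMap (BilinForm)
open Cfsg.Agent.GLClassBound53

namespace Cfsg.Agent.FormFibre53

open Cfsg.Agent.FormSys53 Cfsg.Agent.FormSub53 Cfsg.Agent.FormGen53

universe u v

variable {F : Type u} [Field F] {δ : F}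

/-- the scaled system -/
noncomputable abbrev scale (S : Sys F δ) (c : F) (hc : c ≠ 0) : Sys F δ where
  V := S.V
  g := S.g
  B := c • S.B
  sym x y := by simp only [LinearMap.smul_apply, smul_eq_mul, S.sym x y]; ring
  nd x h := S.nd x fun y => (mul_eq_zero.1 (h y)).resolve_left hc
  inv x y := by simp [S.inv]

/-- scaled generators -/
noncomputable abbrev scaleGen {S : Sys F δ} {ε : F} {e k : ℕ} (G : Gen S ε e k) (c : F) (hc : c ≠ 0) :
    Gen (scale S c hc) ε e k where
  hε := G.hε
  he := G.he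
  u := G.u
  kill := G.kill
  det := by
    have : (Matrix.of fun i j => FormSys53.h (scale S c hc) (X - C ε) e (G.u i) (G.u j)) = c • G.H := by
      ext i j
      simp [FormSys53.h, Gen.H]
    rw [this, Matrix.det_smul]
    exact mul_ne_zero (pow_ne_zero _ hc) G.det

theorem disc_scale_piece [Fintype F] [DecidableEq F] {S : Sys F δ} {ε : F} {e : ℕ} (G : Gen S ε e 1)
    (c : F) (hc : c ≠ 0) :
    disc (scaleGen G c hc).piece.sys = quadraticChar F c ^ e * disc G.piece.sys := by
  let b := Module.finBasis F G.piece.sys.V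
  rw [disc_eq (S := (scaleGen G c hc).piece.sys) b]
  refine (congrArg (fun M => quadraticChar F (Matrix.det M)) (show LinearMap.BilinForm.toMatrix b (scaleGen G c hc).piece.sys.B =
      c • LinearMap.BilinForm.toMatrix b G.piece.sys.B by
      ext i j
      erw [LinearMap.BilinForm.toMatrix_apply]
      rw [Matrix.smul_apply, LinearMap.BilinForm.toMatrix_apply]
      rfl)).trans ?_
  rw [Matrix.det_smul, map_mul, map_pow, Fintype.card_fin]
  congr 1
  congr 1
  exact Gen.finrank_one

/-- levels with a symmetric form -/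
def lev (δ : F) (D : ℕ → ℕ) (j : ℕ) : Prop := δ * (-1) ^ (j - 1) = 1 ∧ D (j - 1) + D (j + 1) < 2 * D j

open scoped Classical in
/-- the set of such levels -/
noncomputable def kset (δ : F) (D : ℕ → ℕ) (N : ℕ) : Finset ℕ := (Finset.Icc 1 N).filter (lev δ D)

theorem mem_kset {D : ℕ → ℕ} {N j : ℕ} : j ∈ kset δ D N ↔ (1 ≤ j ∧ j ≤ N) ∧ lev δ D j := by
  classical
  simp [kset]

variable [Fintype F] [DecidableEq F]

/-- the conclusion at dimension `n` -/
def Bound (δ ε : F) (n : ℕ) : Prop :=
  ∀ (N : ℕ) (D : ℕ → ℕ) (ι : Type v) [Fintype ι] (S : ι → Sys F δ),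
    (∀ i j, Iso (S i) (S j) → i = j) → (∀ i k, kd (S i) (X - C ε) k = D k) →
    (∀ i, Module.finrank F (S i).V = n) → D N = n →
    Fintype.card ι ≤ 2 ^ (kset δ D N).card ∧
      (δ = 1 → (∀ i j, disc (S i) = disc (S j)) → Fintype.card ι ≤ 2 ^ ((kset δ D N).card - 1))

variable {ε : F}

theorem iso_of_finrank_zero {S S' : Sys F δ} (h : Module.finrank F S.V = 0) (h' : Module.finrank F S'.V = 0) :
    Iso S S' := by
  haveI : Subsingleton S.V := Module.finrank_zero_iff.1 h
  haveI : Subsingleton S'.V := Module.finrank_zero_iff.1 h'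
  exact ⟨LinearEquiv.ofFinrankEq _ _ (h.trans h'.symm), fun x => Subsingleton.elim _ _, fun x y => by
    rw [Subsingleton.elim x 0, Subsingleton.elim y 0]; simp⟩

/-- removing pieces with the same top form -/
theorem step (h2 : (2 : F) ≠ 0) {n N e k : ℕ} (hk : 0 < k) (he : e ≤ N)
    (ih : ∀ m < n, Bound.{u, v} δ ε m) {D : ℕ → ℕ} {ι : Type v} [Fintype ι] (S : ι → Sys F δ)
    (hne : ∀ i j, Iso (S i) (S j) → i = j) (hD : ∀ i k, kd (S i) (X - C ε) k = D k)
    (hn : ∀ i, Module.finrank F (S i).V = n) (hN : D N = n)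
    (hmax : ∀ l, e ≤ l → D l = n)
    (G : ∀ i, Gen (S i) ε e k) (hH : ∀ i j, (G i).H = (G j).H) (i₀ : ι) :
    let D' := fun l => kd (G i₀).piece.compl.sys (X - C ε) l
    Fintype.card ι ≤ 2 ^ (kset δ D' N).card ∧
      (δ = 1 → (∀ i j, disc (S i) = disc (S j)) → Fintype.card ι ≤ 2 ^ ((kset δ D' N).card - 1)) ∧
      kset δ D' N ⊆ kset δ D N ∧ (D (e - 1) + 1 = n → e ∉ kset δ D' N) := by
  intro D'
  have hW : ∀ i, Iso (G i).piece.sys (G i₀).piece.sys := fun i => (G i).iso h2 (G i₀) (hH i i₀)
  have hadd : ∀ i l, D l = kd (G i).piece.sys (X - C ε) l + kd (G i).piece.compl.sys (X - C ε) l :=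
    fun i l => (hD i l).symm.trans ((G i).piece.kd_add _ l)
  have hD' : ∀ i l, kd (G i).piece.compl.sys (X - C ε) l = D' l := by
    intro i l
    have h1 := hadd i l
    have h2' := hadd i₀ l
    have h3 := kd_of_iso (hW i) (X - C ε) l
    show _ = kd (G i₀).piece.compl.sys (X - C ε) l
    omega
  have hdimW : ∀ i, Module.finrank F (G i).piece.sys.V = Module.finrank F (G i₀).piece.sys.V := fun i => by
    obtain ⟨T, -, -⟩ := hW i
    exact T.finrank_eq
  set n' := Module.finrank F (G i₀).piece.compl.sys.V with hn'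
  have hfin : ∀ i, Module.finrank F (G i).piece.compl.sys.V = n' := fun i => by
    have h1 := (G i).piece.finrank_add
    have h2' := (G i₀).piece.finrank_add
    have h3 := hdimW i
    rw [hn i] at h1
    rw [hn i₀] at h2'
    omega
  have hWpos := (G i₀).kd_lt hk
  have hWN := (G i₀).kd_eq_finrank he
  have hsum := (G i₀).piece.finrank_add
  rw [hn i₀] at hsum
  have hlt : n' < n := by omega
  have hN' : D' N = n' := by
    have := hadd i₀ N
    show kd (G i₀).piece.compl.sys (X - C ε) N = n'
    omega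
  have hne' : ∀ i j, Iso (G i).piece.compl.sys (G j).piece.compl.sys → i = j := fun i j h =>
    hne i j (iso_of_pieces _ _ ((hW i).trans (hW j).symm) h)
  obtain ⟨b1, b2⟩ := ih n' hlt N D' ι (fun i => (G i).piece.compl.sys) hne' hD' hfin hN'
  refine ⟨b1, fun hδ hd => b2 hδ fun i j => ?_, fun l hl => ?_, fun ht hmem => ?_⟩
  · have h1 := disc_mul (G i).piece
    have h2' := disc_mul (G j).piece
    rw [hd i j, h2', disc_of_iso (hW i), disc_of_iso (hW j)] at h1
    exact (mul_left_cancel₀ (disc_ne_zero (S := (G i₀).piece.sys)) h1).symm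
  · rw [mem_kset] at hl ⊢
    obtain ⟨hl1, hl2, hl3⟩ := hl
    refine ⟨hl1, hl2, ?_⟩
    have c := kd_concave (G i₀).piece.sys (X - C ε) hl1.1
    rw [hadd i₀ (l - 1), hadd i₀ (l + 1), hadd i₀ l]
    simp only [D'] at hl3
    omega
  · rw [mem_kset] at hmem
    obtain ⟨⟨he1, -⟩, -, hl3⟩ := hmem
    have e0 := hadd i₀ (e - 1)
    have e1 := hadd i₀ e
    have e2 := hadd i₀ (e + 1)
    have w1 := (G i₀).kd_eq_finrank (le_refl e)
    have w2 := (G i₀).kd_eq_finrank (show e ≤ e + 1 by omega)
    have m1 := hmax e le_rfl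
    have m2 := hmax (e + 1) (Nat.le_succ e)
    change kd (G i₀).piece.compl.sys (X - C ε) (e - 1) + kd (G i₀).piece.compl.sys (X - C ε) (e + 1) <
      2 * kd (G i₀).piece.compl.sys (X - C ε) e at hl3
    omega

theorem exists_nonsquare (h2 : (2 : F) ≠ 0) : ∃ ν : F, ν ≠ 0 ∧ ¬ IsSquare ν := by
  obtain ⟨ν, hν⟩ := FiniteField.exists_nonsquare (F := F) fun h => h2 (by
    haveI : CharP F 2 := ringChar.of_eq h
    exact CharTwo.two_eq_zero)
  exact ⟨ν, fun h => hν (h ▸ IsSquare.zero), hν⟩

theorem sq_or_nonsq (h2 : (2 : F) ≠ 0) {ν : F} (hν0 : ν ≠ 0) (hν : ¬ IsSquare ν) {c : F} (hc : c ≠ 0) :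
    (∃ r, r ≠ 0 ∧ c = r ^ 2) ∨ ∃ r, r ≠ 0 ∧ c = ν * r ^ 2 := by
  have h2' : ringChar F ≠ 2 := fun h => h2 (by
    haveI : CharP F 2 := ringChar.of_eq h
    exact CharTwo.two_eq_zero)
  by_cases hs : IsSquare c
  · obtain ⟨r, hr⟩ := hs
    exact Or.inl ⟨r, fun h => hc (by rw [hr, h, mul_zero]), by rw [hr, sq]⟩
  · refine Or.inr ?_
    have hd : c / ν ≠ 0 := div_ne_zero hc hν0
    obtain ⟨r, hr⟩ : IsSquare (c / ν) := by
      rw [← quadraticChar_one_iff_isSquare hd, div_eq_mul_inv, map_mul,
        (quadraticChar_neg_one_iff_not_isSquare (F := F)).2 hs,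
        (quadraticChar_neg_one_iff_not_isSquare (F := F)).2 (show ¬ IsSquare ν⁻¹ from fun h => hν (by simpa using h.inv))]
      norm_num
    exact ⟨r, fun h => hd (by rw [hr, h, mul_zero]), by rw [sq, ← hr, mul_div_cancel₀ _ hν0]⟩

section choice

variable (S : Sys F δ) {e : ℕ}

/-- a pair with top value one -/
theorem exists_pair_gen (hε : ε * ε = 1) (he : 1 ≤ e) (hδ : δ * (-1) ^ (e - 1) = -1) (h2 : (2 : F) ≠ 0)
    (htop : K S (X - C ε) e = ⊤) (hlow : K S (X - C ε) (e - 1) ≠ ⊤) :
    ∃ G : Gen S ε e 2, G.H = !![0, 1; -1, 0] := by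
  have hk : ∀ x, ev S ((X - C ε) ^ e) x = 0 := fun x => (mem_K S).1 (by rw [htop]; trivial)
  obtain ⟨y, hy⟩ : ∃ y, ev S ((X - C ε) ^ (e - 1)) y ≠ 0 := by
    by_contra hcon
    push Not at hcon
    exact hlow (Submodule.eq_top_iff'.2 fun x => (mem_K S).2 (hcon x))
  obtain ⟨x, hx⟩ : ∃ x, S.B x (ev S ((X - C ε) ^ (e - 1)) y) ≠ 0 := by
    by_contra hcon
    push Not at hcon
    exact hy (nd' S hcon)
  have hsym : ∀ a b, FormSys53.h S (X - C ε) e b a = - FormSys53.h S (X - C ε) e a b := fun a b => by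
    rw [h_symm S hε he ((mem_K S).2 (hk a)), hδ, neg_one_mul]
  have hself : ∀ a, FormSys53.h S (X - C ε) e a a = 0 := fun a =>
    (mul_eq_zero.1 (show (2 : F) * FormSys53.h S (X - C ε) e a a = 0 by linear_combination hsym a a)).resolve_left h2
  let c := FormSys53.h S (X - C ε) e x y
  have hxy : FormSys53.h S (X - C ε) e x (c⁻¹ • y) = 1 := by
    simp only [FormSys53.h, map_smul, smul_eq_mul]
    exact inv_mul_cancel₀ hx
  have hM : (Matrix.of fun i j => FormSys53.h S (X - C ε) e (![x, c⁻¹ • y] i) (![x, c⁻¹ • y] j)) = !![0, 1; -1, 0] := by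
    ext i j
    fin_cases i <;> fin_cases j <;> simp [hself, hxy, hsym x (c⁻¹ • y)]
  refine ⟨⟨hε, he, ![x, c⁻¹ • y], fun i => hk _, ?_⟩, hM⟩
  rw [hM]
  simp [Matrix.det_fin_two]

/-- a cyclic generator with top value `1`, or `ν` when the top has dimension one -/
theorem exists_sign_gen (hε : ε * ε = 1) (he : 1 ≤ e) (hδ : δ * (-1) ^ (e - 1) = 1) (h2 : (2 : F) ≠ 0)
    (htop : K S (X - C ε) e = ⊤) (hlow : K S (X - C ε) (e - 1) ≠ ⊤) {ν : F} (hν0 : ν ≠ 0) (hν : ¬ IsSquare ν) :
    ∃ G : Gen S ε e 1, G.H = !![1] ∨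
      (G.H = !![ν] ∧ kd S (X - C ε) (e - 1) + 1 = Module.finrank F S.V) := by
  have hk : ∀ x, ev S ((X - C ε) ^ e) x = 0 := fun x => (mem_K S).1 (by rw [htop]; trivial)
  let b := fun x y => FormSys53.h S (X - C ε) e x y
  have hsym : ∀ a c, b c a = b a c := fun a c => by
    show FormSys53.h S (X - C ε) e c a = _
    rw [h_symm S hε he ((mem_K S).2 (hk a)), hδ, one_mul]
  have hrad : ∀ y, (∀ x, b x y = 0) → y ∈ K S (X - C ε) (e - 1) := fun y hy => (mem_K S).2 (nd' S hy)
  have badd : ∀ x x' y, b (x + x') y = b x y + b x' y := fun x x' y => by simp [b, FormSys53.h]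
  have badd' : ∀ x y y', b x (y + y') = b x y + b x y' := fun x y y' => by simp [b, FormSys53.h]
  have bsmul : ∀ (r : F) x y, b (r • x) y = r * b x y := fun r x y => by simp [b, FormSys53.h]
  have bsmul' : ∀ (r : F) x y, b x (r • y) = r * b x y := fun r x y => by simp [b, FormSys53.h]
  obtain ⟨a, ha⟩ : ∃ a, b a a ≠ 0 := by
    by_contra hcon
    push Not at hcon
    refine hlow (Submodule.eq_top_iff'.2 fun y => hrad y fun x => ?_)
    have h := hcon (x + y)
    rw [badd, badd', badd', hcon, hcon, hsym x y] at h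
    exact (mul_eq_zero.1 (show (2 : F) * b x y = 0 by linear_combination h)).resolve_left h2
  have mk : ∀ w : S.V, b w w ≠ 0 → ∃ G : Gen S ε e 1, G.H = !![b w w] := by
    intro w hw
    have hM : (Matrix.of fun i j => FormSys53.h S (X - C ε) e ((fun _ : Fin 1 => w) i) ((fun _ : Fin 1 => w) j)) =
        !![b w w] := by
      ext i j
      fin_cases i; fin_cases j; rfl
    refine ⟨⟨hε, he, fun _ => w, fun _ => hk _, ?_⟩, hM⟩
    rw [hM]
    simpa using hw
  by_cases hbig : ∃ w, b a w = 0 ∧ b w w ≠ 0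
  · obtain ⟨w, haw, hw⟩ := hbig
    obtain ⟨s, t, hst⟩ := FiniteFormClass.exists_sq_add h2 ha hw 1
    have hval : b (s • a + t • w) (s • a + t • w) = 1 := by
      rw [badd, badd', badd', bsmul, bsmul, bsmul, bsmul, bsmul', bsmul', bsmul', bsmul', hsym a w, haw]
      linear_combination hst
    obtain ⟨G, hG⟩ := mk _ (by rw [hval]; exact one_ne_zero)
    exact ⟨G, Or.inl (by rw [hG, hval])⟩
  · push Not at hbig
    -- every vector orthogonal to `a` is in the radical
    have hperp : ∀ w, b a w = 0 → w ∈ K S (X - C ε) (e - 1) := by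
      intro w hw
      refine hrad w fun x => ?_
      let x' := x - (b a x / b a a) • a
      have hx' : b a x' = 0 := by
        show b a (x - _) = 0
        rw [sub_eq_add_neg, ← neg_smul, badd', bsmul', neg_mul, div_mul_cancel₀ _ ha, add_neg_cancel]
      have h0 := hbig (x' + w) (by rw [badd', hx', hw, add_zero])
      rw [badd, badd', badd', hbig x' hx', hbig w hw, hsym x' w] at h0
      have hxw : b x' w = 0 :=
        (mul_eq_zero.1 (show (2 : F) * b x' w = 0 by linear_combination h0)).resolve_left h2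
      have hx : x = x' + (b a x / b a a) • a := (sub_add_cancel _ _).symm
      rw [hx, badd, bsmul, hxw, hw, mul_zero, add_zero]
    have hdim : kd S (X - C ε) (e - 1) + 1 = Module.finrank F S.V := by
      refine le_antisymm (Submodule.finrank_lt hlow) ?_
      have hsup : K S (X - C ε) (e - 1) ⊔ Submodule.span F {a} = ⊤ := by
        refine Submodule.eq_top_iff'.2 fun x => ?_
        have hx' : b a (x + -(b a x / b a a) • a) = 0 := by
          rw [badd', bsmul', neg_mul, div_mul_cancel₀ _ ha, add_neg_cancel]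
        have : x = (x + -(b a x / b a a) • a) + (b a x / b a a) • a := by rw [neg_smul, neg_add_cancel_right]
        rw [this]
        exact Submodule.add_mem_sup (hperp _ hx') (Submodule.smul_mem _ _ (Submodule.mem_span_singleton_self a))
      have h1 := Submodule.finrank_add_le_finrank_add_finrank (K S (X - C ε) (e - 1)) (Submodule.span F {a})
      rw [hsup, finrank_top, finrank_span_singleton (show a ≠ 0 from fun h => ha (by simp [h, b, FormSys53.h]))] at h1
      exact h1
    rcases sq_or_nonsq h2 hν0 hν ha with ⟨r, hr, hc⟩ | ⟨r, hr, hc⟩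
    · have hval : b (r⁻¹ • a) (r⁻¹ • a) = 1 := by rw [bsmul, bsmul', hc]; field_simp
      obtain ⟨G, hG⟩ := mk _ (by rw [hval]; exact one_ne_zero)
      exact ⟨G, Or.inl (by rw [hG, hval])⟩
    · have hval : b (r⁻¹ • a) (r⁻¹ • a) = ν := by rw [bsmul, bsmul', hc]; field_simp
      obtain ⟨G, hG⟩ := mk _ (by rw [hval]; exact hν0)
      exact ⟨G, Or.inr ⟨by rw [hG, hval], hdim⟩⟩

end choice

/-- at most `2^s` classes, and half of that with the discriminant fixed -/
theorem bound (h2 : (2 : F) ≠ 0) (hδ : δ = 1 ∨ δ = -1) (hε : ε * ε = 1) :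
    ∀ n, Bound.{u, v} δ ε n := by
  intro n
  induction n using Nat.strong_induction_on with
  | _ n ih =>
  intro N D ι _ S hne hD hn hN
  classical
  have one : (∀ i j : ι, Iso (S i) (S j)) → Fintype.card ι ≤ 2 ^ (kset δ D N).card ∧
      (δ = 1 → (∀ i j, disc (S i) = disc (S j)) → Fintype.card ι ≤ 2 ^ ((kset δ D N).card - 1)) := fun h => by
    have : Fintype.card ι ≤ 1 := Fintype.card_le_one_iff.2 fun i j => hne i j (h i j)
    exact ⟨this.trans (Nat.one_le_two_pow), fun _ _ => this.trans (Nat.one_le_two_pow)⟩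
  rcases isEmpty_or_nonempty ι with hι | ⟨⟨i₀⟩⟩
  · exact one fun i => isEmptyElim i
  rcases Nat.eq_zero_or_pos n with rfl | hnpos
  · exact one fun i j => iso_of_finrank_zero (hn i) (hn j)
  have hex : ∃ e, D e = n := ⟨N, hN⟩
  set e := Nat.find hex with he_def
  have heq : D e = n := Nat.find_spec hex
  have heN : e ≤ N := Nat.find_min' hex hN
  have hmax : ∀ l, e ≤ l → D l = n := fun l hl => by
    refine le_antisymm ?_ ?_
    · rw [← hD i₀, ← hn i₀]; exact Submodule.finrank_le _
    · rw [← heq, ← hD i₀, ← hD i₀]; exact Submodule.finrank_mono (K_mono _ _ hl)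
  have he1 : 1 ≤ e := by
    by_contra h
    rw [show e = 0 by omega, ← hD i₀, kd_zero] at heq
    omega
  have htop : ∀ i, K (S i) (X - C ε) e = ⊤ := fun i =>
    Submodule.eq_top_of_finrank_eq (by rw [hn i, ← heq, ← hD i]; rfl)
  have hlow : ∀ i, K (S i) (X - C ε) (e - 1) ≠ ⊤ := fun i h => by
    have h1 : D (e - 1) = n := by rw [← hD i, kd, h, finrank_top, hn i]
    exact Nat.find_min hex (show e - 1 < e by omega) h1
  rcases neg_one_pow_eq_or F (e - 1) with hs | hs <;> rcases hδ with hd | hd
  case inl.inr | inr.inl =>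
    have hsgn : δ * (-1) ^ (e - 1) = -1 := by rw [hs, hd]; ring
    choose G hG using fun i => exists_pair_gen (S i) hε he1 hsgn h2 (htop i) (hlow i)
    obtain ⟨b1, b2, hsub, -⟩ := step h2 two_pos heN ih S hne hD hn hN hmax G (fun i j => by rw [hG i, hG j]) i₀
    exact ⟨b1.trans (Nat.pow_le_pow_right two_pos (Finset.card_le_card hsub)), fun h1 h2' => (b2 h1 h2').trans
      (Nat.pow_le_pow_right two_pos (Nat.sub_le_sub_right (Finset.card_le_card hsub) 1))⟩
  all_goals
    have hsgn : δ * (-1) ^ (e - 1) = 1 := by rw [hs, hd]; ring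
    obtain ⟨ν, hν0, hν⟩ := exists_nonsquare h2
    choose G hG using fun i => exists_sign_gen (S i) hε he1 hsgn h2 (htop i) (hlow i) hν0 hν
    by_cases ht : D (e - 1) + 1 = n
    swap
    · have hH : ∀ i, (G i).H = !![1] := fun i => (hG i).resolve_right fun h => ht (by rw [← hD i, ← hn i]; exact h.2)
      obtain ⟨b1, b2, hsub, -⟩ :=
        step h2 one_pos heN ih S hne hD hn hN hmax G (fun i j => by rw [hH i, hH j]) i₀
      exact ⟨b1.trans (Nat.pow_le_pow_right two_pos (Finset.card_le_card hsub)), fun h1 h2' => (b2 h1 h2').trans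
        (Nat.pow_le_pow_right two_pos (Nat.sub_le_sub_right (Finset.card_le_card hsub) 1))⟩
    have hemem : e ∈ kset δ D N := by
      rw [mem_kset]
      refine ⟨⟨he1, heN⟩, hsgn, ?_⟩
      rw [hmax e le_rfl, hmax (e + 1) (Nat.le_succ e)]
      omega
    set s := (kset δ D N).card with hs_def
    have hs1 : 1 ≤ s := Finset.card_pos.2 ⟨e, hemem⟩
    let P : ι → Prop := fun i => (G i).H = !![1]
    have hνH : ∀ i, ¬ P i → (G i).H = !![ν] := fun i hi => ((hG i).resolve_left hi).1
    have part : ∀ (Q : ι → Prop) [DecidablePred Q] (M : Matrix (Fin 1) (Fin 1) F) (hQ : ∀ i, Q i → (G i).H = M),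
        Fintype.card {i // Q i} ≤ 2 ^ (s - 1) ∧
        (δ = 1 → (∀ i j, disc (S i) = disc (S j)) → Fintype.card {i // Q i} ≤ 2 ^ (s - 1 - 1)) := by
      intro Q _ M hQ
      rcases isEmpty_or_nonempty {i // Q i} with h | ⟨⟨j₀⟩⟩
      · simp
      obtain ⟨b1, b2, hsub, hout⟩ := step h2 one_pos heN ih (fun i : {i // Q i} => S i.1)
        (fun i j h => Subtype.ext (hne _ _ h)) (fun i => hD i.1) (fun i => hn i.1) hN hmax (fun i => G i.1)
        (fun i j => by rw [hQ _ i.2, hQ _ j.2]) j₀
      have hc := Finset.card_le_card (Finset.subset_erase.2 ⟨hsub, hout ht⟩)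
      rw [Finset.card_erase_of_mem hemem] at hc
      exact ⟨b1.trans (Nat.pow_le_pow_right two_pos hc), fun h1 h2' => (b2 h1 fun i j => h2' i.1 j.1).trans
        (Nat.pow_le_pow_right two_pos (Nat.sub_le_sub_right hc 1))⟩
    have hcard : Fintype.card ι = Fintype.card {i // P i} + Fintype.card {i // ¬ P i} := by
      rw [Fintype.card_subtype_compl]
      have := Fintype.card_subtype_le P
      omega
    obtain ⟨p1, p2⟩ := part P _ fun i h => h
    obtain ⟨q1, q2⟩ := part (fun i => ¬ P i) _ hνH
    refine ⟨?_, fun hd1 hdisc => ?_⟩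
    · rw [show (2 : ℕ) ^ s = 2 * 2 ^ (s - 1) by rw [← pow_succ', Nat.sub_add_cancel hs1]]
      omega
    · by_cases hs2 : 2 ≤ s
      · have e2 : 2 ^ (s - 1) = 2 * 2 ^ (s - 1 - 1) := by rw [← pow_succ', Nat.sub_add_cancel (by omega)]
        have := p2 hd1 hdisc
        have := q2 hd1 hdisc
        omega
      have hs1' : s - 1 = 0 := by omega
      rw [hs1'] at p1 q1 ⊢
      simp only [pow_zero] at p1 q1 ⊢
      by_contra hcon
      obtain ⟨⟨i, hi⟩⟩ : Nonempty {i // P i} := Fintype.card_pos_iff.1 (by omega)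
      obtain ⟨⟨j, hj⟩⟩ : Nonempty {i // ¬ P i} := Fintype.card_pos_iff.1 (by omega)
      -- the two remainders have the same kernels and no symmetric level, hence are isometric
      let G' := scaleGen (G i) ν hν0
      have hWj : Iso (G j).piece.sys G'.piece.sys := (G j).iso h2 G' (by
        rw [hνH j hj]
        ext a b
        have : (G i).H a b = (!![1] : Matrix (Fin 1) (Fin 1) F) a b := by rw [show (G i).H = !![1] from hi]
        fin_cases a; fin_cases b
        simp [G', Gen.H, FormSys53.h] at this ⊢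
        rw [this, mul_one])
      obtain ⟨φ, -, hφ⟩ := (G j).exists_linear (G i)
      have hkW : ∀ l, kd (G j).piece.sys (X - C ε) l = kd (G i).piece.sys (X - C ε) l :=
        fun l => kd_of_equiv φ hφ _ l
      have hdimW : Module.finrank F (G j).piece.sys.V = Module.finrank F (G i).piece.sys.V := φ.finrank_eq
      let Ri := (G i).piece.compl.sys
      let Rj := (G j).piece.compl.sys
      have haddi := fun l => (hD i l).symm.trans ((G i).piece.kd_add (X - C ε) l)
      have haddj := fun l => (hD j l).symm.trans ((G j).piece.kd_add (X - C ε) l)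
      obtain ⟨-, -, hsub, hout⟩ := step h2 one_pos heN ih (fun _ : {l // l = i} => S i)
        (fun a b _ => Subtype.ext (a.2.trans b.2.symm)) (fun _ => hD i) (fun _ => hn i) hN hmax (fun _ => G i)
        (fun _ _ => rfl) ⟨i, rfl⟩
      have hk0 : (kset δ (fun l => kd Ri (X - C ε) l) N).card = 0 := by
        have hc := Finset.card_le_card (Finset.subset_erase.2 ⟨hsub, hout ht⟩)
        rw [Finset.card_erase_of_mem hemem] at hc
        show (kset δ (fun l => kd (G i).piece.compl.sys (X - C ε) l) N).card = 0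
        omega
      have hdimj := (G j).piece.finrank_add
      have hdimi := (G i).piece.finrank_add
      rw [hn j] at hdimj
      rw [hn i] at hdimi
      have hWpos := (G i).kd_lt Nat.one_pos
      have hR : Iso Rj Ri := by
        by_contra hR
        let fam : ULift.{v} Bool → Sys F δ := fun b => if b.down then Rj else Ri
        obtain ⟨hb, -⟩ := ih (Module.finrank F Ri.V) (by show Module.finrank F (G i).piece.compl.sys.V < n; omega)
          N (fun l => kd Ri (X - C ε) l) (ULift.{v} Bool) fam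
          (by
            rintro ⟨(_ | _)⟩ ⟨(_ | _)⟩ h <;> first | rfl | exact absurd h hR | exact absurd h.symm hR)
          (by
            rintro ⟨(_ | _)⟩ l
            · rfl
            · have := haddi l; have := haddj l; have := hkW l
              show kd (G j).piece.compl.sys (X - C ε) l = kd (G i).piece.compl.sys (X - C ε) l
              omega)
          (by
            rintro ⟨(_ | _)⟩
            · rfl
            · show Module.finrank F (G j).piece.compl.sys.V = Module.finrank F (G i).piece.compl.sys.V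
              omega)
          (by
            have := haddi N
            have := (G i).kd_eq_finrank heN
            show kd (G i).piece.compl.sys (X - C ε) N = Module.finrank F (G i).piece.compl.sys.V
            omega)
        rw [hk0] at hb
        simp at hb
      have hodd : quadraticChar F ν ^ e = -1 := by
        rw [(quadraticChar_neg_one_iff_not_isSquare (F := F)).2 hν]
        rw [hd1, one_mul] at hsgn
        have hev : Even (e - 1) := by
          by_contra h
          rw [(Nat.not_even_iff_odd.1 h).neg_one_pow] at hsgn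
          exact h2 (by linear_combination -hsgn)
        rw [show e = (e - 1) + 1 by omega, pow_succ, hev.neg_one_pow, one_mul]
      have h1 := disc_mul (G i).piece
      have h3 := disc_mul (G j).piece
      rw [hdisc j i, h1, disc_of_iso hWj, disc_scale_piece, hodd, disc_of_iso hR, neg_one_mul] at h3
      have := disc_ne_zero (S := (G i).piece.sys)
      have := disc_ne_zero (S := Ri)
      have h4 := mul_right_cancel₀ this h3
      omega

end Cfsg.Agent.FormFibre53
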