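import Mathlib
import Cfsg.Agent.Lib.FormFibre53

/-!
Isometry classes within a linear class: at most `2^s` with `s` the number of levels at `±1` carrying a
symmetric form, at most `2^(s-1)` with given discriminant.
-/

set_option autoImplicit false

open Polynomial
open LinearMap (BilinForm)
open Cfsg.Agent.GLClassBound53

namespace Cfsg.Agent.FormCombine53

open Cfsg.Agent.FormSys53 Cfsg.Agent.FormSub53 Cfsg.Agent.FormFibre53

universe u v

variable {F : Type u} [Field F] {δ : F}

theorem K_stab (S : Sys F δ) (p : F[X]) {m : ℕ} (hm : Module.finrank F S.V ≤ m) :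
    K S p m = K S p (Module.finrank F S.V) := by
  simp only [K, ev, map_pow]
  exact Module.End.ker_pow_eq_ker_pow_finrank_of_le hm

/-- the generalised kernel of a self-reciprocal polynomial -/
noncomputable abbrev primary (S : Sys F δ) {p : F[X]} (hp : Good p) (hr : rec' p = p) : Piece S where
  W := K S p (Module.finrank F S.V)
  stable x hx := by
    rw [mem_K] at hx ⊢
    have := ev_comm S (p ^ Module.finrank F S.V) X x
    simp only [ev, aeval_X] at this hx ⊢
    rw [this, hx, map_zero]
  nondeg x hx h := by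
    obtain ⟨w, rfl⟩ := mem_range_of_orth S (p ^ Module.finrank F S.V) (x := x) fun y hy => h y (by
      rw [evi_pow_eq_zero S hp, hr] at hy
      exact hy)
    rw [mem_K, ← ev_mul, ← pow_add] at hx
    have : w ∈ K S p (Module.finrank F S.V + Module.finrank F S.V) := hx
    rw [K_stab S p (Nat.le_add_right _ _)] at this
    exact this

theorem primary_compl_kd (S : Sys F δ) {p : F[X]} (hp : Good p) (hr : rec' p = p) (k : ℕ) :
    kd (primary S hp hr).compl.sys p k = 0 := by
  set P := primary S hp hr
  have : K P.compl.sys p k = ⊥ := by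
    refine (Submodule.eq_bot_iff _).2 fun x hx => Subtype.ext ?_
    refine Submodule.disjoint_def.1 P.isCompl.disjoint (x : S.V) ?_ x.2
    show (x : S.V) ∈ K S p _
    rw [← K_stab S p (Nat.le_add_left (Module.finrank F S.V) k)]
    refine K_mono S p (Nat.le_add_right k _) ?_
    rw [mem_K, ← P.compl.ev_coe, (mem_K _).1 hx]
    rfl
  rw [kd, this, finrank_bot]

theorem primary_kd (S : Sys F δ) {p : F[X]} (hp : Good p) (hr : rec' p = p) (k : ℕ) :
    kd (primary S hp hr).sys p k = kd S p k := by
  rw [(primary S hp hr).kd_add p k, primary_compl_kd, add_zero]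

theorem primary_other_kd (S : Sys F δ) {p r : F[X]} (hp : Good p) (hr : rec' p = p) (hpr : IsCoprime p r) (k : ℕ) :
    kd (primary S hp hr).sys r k = 0 := by
  set P := primary S hp hr
  have : K P.sys r k = ⊥ := by
    refine (Submodule.eq_bot_iff _).2 fun x hx => Subtype.ext ?_
    obtain ⟨a, b, hab⟩ := hpr.pow (m := Module.finrank F S.V) (n := k)
    have h1 : ev S (p ^ Module.finrank F S.V) (x : S.V) = 0 := (mem_K S).1 x.2
    have h2 : ev S (r ^ k) (x : S.V) = 0 := by rw [← P.ev_coe, (mem_K _).1 hx]; rfl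
    have := congrArg (fun t => ev S t (x : S.V)) hab
    simp only [ev, map_add, map_mul, LinearMap.add_apply, Module.End.mul_apply, map_one, Module.End.one_apply] at this h1 h2
    rw [h1, h2, map_zero, map_zero, add_zero] at this
    rw [ZeroMemClass.coe_zero, ← this]
  rw [kd, this, finrank_bot]

/-- the polynomials at `±1` -/
theorem one_sq : (1 : F) * 1 = 1 := mul_one 1

theorem neg_one_sq' : (-1 : F) * -1 = 1 := by norm_num

/-- plus part -/
noncomputable abbrev plus (S : Sys F δ) : Piece S := primary S (lin_good one_sq) (rec_lin one_sq)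

/-- minus part, inside the complement of the plus part -/
noncomputable abbrev minus (S : Sys F δ) : Piece (plus S).compl.sys :=
  primary (plus S).compl.sys (lin_good neg_one_sq') (rec_lin neg_one_sq')

theorem coprime_pm (h2 : (2 : F) ≠ 0) : IsCoprime (X - C (1 : F)) (X - C (-1)) :=
  isCoprime_X_sub_C_of_isUnit_sub (by
    rw [sub_neg_eq_add, one_add_one_eq_two]
    exact h2.isUnit)

theorem plus_kd (S : Sys F δ) (k : ℕ) : kd (plus S).sys (X - C 1) k = kd S (X - C 1) k := primary_kd S _ _ k

theorem minus_kd (h2 : (2 : F) ≠ 0) (S : Sys F δ) (k : ℕ) : kd (minus S).sys (X - C (-1)) k = kd S (X - C (-1)) k := by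
  have e := primary_kd (plus S).compl.sys (lin_good neg_one_sq') (rec_lin (F := F) neg_one_sq') k
  rw [(plus S).kd_add (X - C (-1)) k, primary_other_kd S _ _ (coprime_pm h2) k, zero_add]
  exact e

theorem plus_finrank (S : Sys F δ) : Module.finrank F (plus S).sys.V = kd S (X - C 1) (Module.finrank F S.V) := rfl

theorem minus_finrank (h2 : (2 : F) ≠ 0) (S : Sys F δ) :
    Module.finrank F (minus S).sys.V = kd S (X - C (-1)) (Module.finrank F S.V) := by
  have hle : Module.finrank F (plus S).compl.sys.V ≤ Module.finrank F S.V := Submodule.finrank_le _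
  have h := minus_kd h2 S (Module.finrank F S.V)
  rw [← h]
  have htop : K (minus S).sys (X - C (-1)) (Module.finrank F S.V) = ⊤ := by
    refine Submodule.eq_top_iff'.2 fun x => K_mono _ _ hle ?_
    rw [mem_K]
    refine Subtype.ext ?_
    rw [(minus S).ev_coe]
    exact (mem_K _).1 x.2
  rw [kd, htop, finrank_top]

/-- the part without eigenvalue `±1` -/
noncomputable abbrev rest (S : Sys F δ) : Piece (plus S).compl.sys := (minus S).compl

theorem rest_fix (h2 : (2 : F) ≠ 0) (S : Sys F δ) :
    ∀ x, (rest S).sys.g ((rest S).sys.g x) = x → x = 0 := by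
  intro x hx
  have hzero : ∀ ε : F, (ε = 1 ∨ ε = -1) → ∀ y : (rest S).sys.V, ev (rest S).sys (X - C ε) y = 0 → y = 0 := by
    intro ε hε y hy
    have hk : kd (rest S).sys (X - C ε) 1 = 0 := by
      rcases hε with rfl | rfl
      · have h1 := primary_compl_kd S (lin_good one_sq) (rec_lin (F := F) one_sq) 1
        rw [(minus S).kd_add (X - C 1) 1] at h1
        show kd (minus S).compl.sys (X - C 1) 1 = 0
        omega
      · exact primary_compl_kd (plus S).compl.sys _ _ 1
    have hb : K (rest S).sys (X - C ε) 1 = ⊥ := Submodule.finrank_eq_zero.1 hk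
    have : y ∈ K (rest S).sys (X - C ε) 1 := by rw [mem_K, pow_one]; exact hy
    rwa [hb, Submodule.mem_bot] at this
  have h1 : ev (rest S).sys (X - C (-1)) (ev (rest S).sys (X - C 1) x) = 0 := by
    rw [ev_lin, ev_lin, map_sub, one_smul, hx, neg_smul, one_smul, sub_neg_eq_add]
    abel
  exact hzero 1 (Or.inl rfl) x (hzero (-1) (Or.inr rfl) _ h1)

/-- the polynomial cutting out the part without `±1` -/
noncomputable def cut (F : Type u) [Field F] (N : ℕ) : F[X] := (X - C (-1)) ^ N * (X - C 1) ^ N

theorem rest_mem_iff (h2 : (2 : F) ≠ 0) (S : Sys F δ) (x : S.V) :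
    (∃ y : (rest S).sys.V, ((y : (plus S).compl.sys.V) : S.V) = x) ↔
      x ∈ LinearMap.range (ev S (cut F (Module.finrank F S.V))) := by
  set N := Module.finrank F S.V with hN
  constructor
  · rintro ⟨y, rfl⟩
    have hinj : Function.Injective (ev (rest S).sys (cut F N)) := by
      have hlin : ∀ ε : F, (ε = 1 ∨ ε = -1) → Function.Injective (ev (rest S).sys (X - C ε)) := by
        intro ε hε
        refine (injective_iff_map_eq_zero _).2 fun z hz => rest_fix h2 S z ?_
        have hg := g_of_killed (rest S).sys hz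
        rw [hg, map_smul, hg, smul_smul]
        rcases hε with rfl | rfl <;> simp
      rw [cut]
      simp only [ev, map_mul, map_pow, Module.End.coe_mul]
      refine Function.Injective.comp ?_ ?_
      · rw [Module.End.coe_pow]; exact (hlin (-1) (Or.inr rfl)).iterate N
      · rw [Module.End.coe_pow]; exact (hlin 1 (Or.inl rfl)).iterate N
    obtain ⟨z, rfl⟩ := (LinearMap.injective_iff_surjective.1 hinj) y
    refine ⟨((z : (plus S).compl.sys.V) : S.V), ?_⟩
    rw [(rest S).ev_coe, (plus S).compl.ev_coe]
  · rintro ⟨w, rfl⟩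
    have horth : ∀ (ε : F), ε * ε = 1 → ∀ (r : F[X]), ∀ k ∈ K S (X - C ε) N,
        S.B k (ev S ((X - C ε) ^ N * r) w) = 0 := by
      intro ε hε r k hk
      have hk' : evi S ((X - C ε) ^ N) k = 0 := by
        rw [evi_pow_eq_zero S (lin_good hε), rec_lin hε]
        exact hk
      rw [ev_mul, ← adjoint', hk', map_zero, LinearMap.zero_apply]
    have hmem : ev S (cut F N) w ∈ (plus S).compl.W := fun k hk => by
      rw [cut, mul_comm]
      exact horth 1 one_sq _ k hk
    refine ⟨⟨⟨_, hmem⟩, fun k hk => ?_⟩, rfl⟩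
    show S.B (k : S.V) (ev S (cut F N) w) = 0
    refine horth (-1) neg_one_sq' _ _ ?_
    have hk' := congrArg Subtype.val ((mem_K _).1 hk)
    rw [(plus S).compl.ev_coe] at hk'
    rw [mem_K]
    have hle : Module.finrank F (plus S).compl.sys.V ≤ N := Submodule.finrank_le _
    rw [← Nat.sub_add_cancel hle, pow_add, ev_mul, hk']
    exact map_zero _

variable [Fintype F]

theorem rest_iso (h2 : (2 : F) ≠ 0) {S S' : Sys F δ} (φ : S.V ≃ₗ[F] S'.V) (hφ : ∀ x, φ (S.g x) = S'.g (φ x)) :
    Iso (rest S).sys (rest S').sys := by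
  have hN : Module.finrank F S.V = Module.finrank F S'.V := φ.finrank_eq
  have hev : ∀ r x, φ (ev S r x) = ev S' r (φ x) := by
    intro r
    induction r using Polynomial.induction_on' with
    | add a b ha hb => intro x; simp only [ev, map_add, LinearMap.add_apply] at *; rw [ha, hb]
    | monomial m a =>
      intro x
      simp only [ev, aeval_monomial, Module.End.mul_apply, Module.algebraMap_end_apply, map_smul]
      congr 1
      induction m generalizing x with
      | zero => rfl
      | succ m ih => rw [pow_succ, pow_succ, Module.End.mul_apply, Module.End.mul_apply, ih, hφ]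
  have hex : ∀ y : (rest S).sys.V, ∃ z : (rest S').sys.V,
      ((z : (plus S').compl.sys.V) : S'.V) = φ ((y : (plus S).compl.sys.V) : S.V) := fun y =>
    (rest_mem_iff h2 S' _).2 (by
      obtain ⟨w, hw⟩ := (rest_mem_iff h2 S _).1 ⟨y, rfl⟩
      exact ⟨φ w, by rw [← hN, ← hev, hw]⟩)
  choose f0 hf using hex
  let f : (rest S).sys.V →ₗ[F] (rest S').sys.V :=
    { toFun := f0
      map_add' := fun y y' => Subtype.ext (Subtype.ext (by
        refine (hf (y + y')).trans ?_
        show φ ((((y : (plus S).compl.sys.V) : S.V)) + ((y' : (plus S).compl.sys.V) : S.V)) = _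
        rw [map_add, ← hf, ← hf]
        rfl))
      map_smul' := fun c y => Subtype.ext (Subtype.ext (by
        refine (hf (c • y)).trans ?_
        show φ (c • ((y : (plus S).compl.sys.V) : S.V)) = _
        rw [map_smul, ← hf]
        rfl)) }
  have hbij : Function.Bijective f := by
    refine ⟨fun a b h => Subtype.ext (Subtype.ext (φ.injective ?_)), fun z => ?_⟩
    · rw [← hf, ← hf, show f0 a = f0 b from h]
    · obtain ⟨w, hw⟩ := (rest_mem_iff h2 S' _).1 ⟨z, rfl⟩
      obtain ⟨y, hy⟩ := (rest_mem_iff h2 S (φ.symm ((z : (plus S').compl.sys.V) : S'.V))).2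
        ⟨φ.symm w, φ.injective (by rw [hev, φ.apply_symm_apply, φ.apply_symm_apply, hN, hw])⟩
      exact ⟨y, Subtype.ext (Subtype.ext ((hf y).trans (by rw [hy, φ.apply_symm_apply])))⟩
  refine iso_of_regular (rest_fix h2 S) (LinearEquiv.ofBijective f hbij) fun y => ?_
  refine Subtype.ext (Subtype.ext ?_)
  show ((f0 _ : (plus S').compl.sys.V) : S'.V) = S'.g ((f0 y : (plus S').compl.sys.V) : S'.V)
  rw [hf, hf, ← hφ]
  rfl

variable [DecidableEq F]

theorem iso_of_parts {S S' : Sys F δ} (h1 : Iso (plus S).sys (plus S').sys) (h2' : Iso (minus S).sys (minus S').sys)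
    (h3 : Iso (rest S).sys (rest S').sys) : Iso S S' :=
  iso_of_pieces _ _ h1 (iso_of_pieces _ _ h2' h3)

/-- number of symmetric levels at both eigenvalues -/
noncomputable def sigma (S : Sys F δ) : ℕ :=
  (kset δ (fun k => kd S (X - C 1) k) (Module.finrank F S.V)).card +
    (kset δ (fun k => kd S (X - C (-1)) k) (Module.finrank F S.V)).card

theorem class_bound (h2 : (2 : F) ≠ 0) (hδ : δ = 1 ∨ δ = -1) {ι : Type v} [Fintype ι] (S : ι → Sys F δ)
    (i₀ : ι) (hne : ∀ i j, Iso (S i) (S j) → i = j)
    (φ : ∀ i, (S i).V ≃ₗ[F] (S i₀).V) (hφ : ∀ i x, φ i ((S i).g x) = (S i₀).g (φ i x)) :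
    Fintype.card ι ≤ 2 ^ sigma (S i₀) ∧
      (δ = 1 → (∀ i j, disc (S i) = disc (S j)) → Fintype.card ι ≤ 2 ^ (sigma (S i₀) - 1)) := by
  classical
  set N := Module.finrank F (S i₀).V
  set Dp := fun k => kd (S i₀) (X - C 1) k
  set Dm := fun k => kd (S i₀) (X - C (-1)) k
  set a := (kset δ Dp N).card
  set b := (kset δ Dm N).card
  have hN : ∀ i, Module.finrank F (S i).V = N := fun i => (φ i).finrank_eq
  have hkd : ∀ i p k, kd (S i) p k = kd (S i₀) p k := fun i p k => kd_of_equiv (φ i) (hφ i) p k
  have hrest : ∀ i j, Iso (rest (S i)).sys (rest (S j)).sys := fun i j =>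
    (rest_iso h2 (φ i) (hφ i)).trans (rest_iso h2 (φ j) (hφ j)).symm
  have hp := fun (κ : Type v) [Fintype κ] (r : κ → ι) (hr : ∀ x y, Iso (plus (S (r x))).sys (plus (S (r y))).sys → x = y) =>
    bound.{u, v} h2 hδ one_sq (Dp N) N Dp κ (fun x => (plus (S (r x))).sys) hr
      (fun x k => (plus_kd _ k).trans (hkd _ _ k))
      (fun x => by rw [plus_finrank, hkd, hN]) rfl
  have hm := fun (κ : Type v) [Fintype κ] (r : κ → ι) (hr : ∀ x y, Iso (minus (S (r x))).sys (minus (S (r y))).sys → x = y) =>
    bound.{u, v} h2 hδ neg_one_sq' (Dm N) N Dm κ (fun x => (minus (S (r x))).sys) hr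
      (fun x k => (minus_kd h2 _ k).trans (hkd _ _ k))
      (fun x => by rw [minus_finrank h2, hkd, hN]) rfl
  let st : Setoid ι := ⟨fun i j => Iso (minus (S i)).sys (minus (S j)).sys,
    ⟨fun i => Iso.refl _, fun h => h.symm, fun h h' => h.trans h'⟩⟩
  let κ := Quotient st
  let out : κ → ι := Quotient.out
  have hout : ∀ i, Iso (minus (S (out ⟦i⟧))).sys (minus (S i)).sys := fun i => Quotient.mk_out i
  have hκ : ∀ x y, Iso (minus (S (out x))).sys (minus (S (out y))).sys → x = y := fun x y h => by
    rw [← Quotient.out_eq x, ← Quotient.out_eq y]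
    exact Quotient.sound h
  have hfib : ∀ c : κ, ∀ x y : {i // ⟦i⟧ = c}, Iso (plus (S x.1)).sys (plus (S y.1)).sys → x = y := by
    intro c x y h
    refine Subtype.ext (hne _ _ (iso_of_parts h ?_ (hrest _ _)))
    exact Quotient.exact (x.2.trans y.2.symm)
  have hcard : Fintype.card ι = ∑ c : κ, Fintype.card {i // ⟦i⟧ = c} := by
    rw [← Fintype.card_sigma]
    exact Fintype.card_congr (Equiv.sigmaFiberEquiv fun i => (⟦i⟧ : κ)).symm
  obtain ⟨k1, k2⟩ := hm κ out hκ
  refine ⟨?_, fun h1 hdisc => ?_⟩
  · show _ ≤ 2 ^ (a + b)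
    rw [hcard, pow_add, mul_comm]
    refine (Finset.sum_le_card_nsmul _ _ (2 ^ a) fun c _ => (hp _ Subtype.val (hfib c)).1).trans ?_
    rw [smul_eq_mul, Finset.card_univ]
    exact Nat.mul_le_mul_right _ k1
  · show _ ≤ 2 ^ (a + b - 1)
    have hd : ∀ c : κ, ∀ x y : {i // ⟦i⟧ = c}, disc (plus (S x.1)).sys = disc (plus (S y.1)).sys := by
      intro c x y
      have e1 := disc_mul (plus (S x.1))
      have e2 := disc_mul (plus (S y.1))
      have h3 : Iso (plus (S x.1)).compl.sys (plus (S y.1)).compl.sys :=
        iso_of_pieces (minus (S x.1)) (minus (S y.1)) (Quotient.exact (x.2.trans y.2.symm)) (hrest _ _)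
      rw [hdisc x.1 y.1, e2, disc_of_iso h3] at e1
      exact (mul_right_cancel₀ disc_ne_zero e1).symm
    by_cases ha : a = 0
    · -- the plus parts are all isometric, so the minus parts share the discriminant
      have hall : ∀ i j, Iso (plus (S i)).sys (plus (S j)).sys := by
        intro i j
        by_contra hij
        obtain ⟨h, -⟩ := hp (ULift.{v} Bool) (fun b => if b.down then i else j) (by
          rintro ⟨(_ | _)⟩ ⟨(_ | _)⟩ h <;> first | rfl | exact absurd h hij | exact absurd h.symm hij)
        rw [show (kset δ Dp N).card = a from rfl, ha] at h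
        simp at h
      have hinj : ∀ i j, Iso (minus (S i)).sys (minus (S j)).sys → i = j := fun i j h =>
        hne i j (iso_of_parts (hall i j) h (hrest i j))
      have hdm : ∀ i j, disc (minus (S i)).sys = disc (minus (S j)).sys := by
        intro i j
        have e1 := disc_mul (plus (S i))
        have e2 := disc_mul (plus (S j))
        have f1 := disc_mul (minus (S i))
        have f2 := disc_mul (minus (S j))
        rw [hdisc i j, e2, f1, f2, disc_of_iso (hall i j), disc_of_iso (hrest i j)] at e1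
        exact (mul_right_cancel₀ disc_ne_zero (mul_left_cancel₀ disc_ne_zero e1)).symm
      have := (hm ι id hinj).2 h1 hdm
      rw [ha, zero_add]
      exact this
    · rw [show a + b - 1 = b + (a - 1) by omega, pow_add, hcard]
      refine (Finset.sum_le_card_nsmul _ _ (2 ^ (a - 1)) fun c _ => (hp _ Subtype.val (hfib c)).2 h1 (hd c)).trans ?_
      rw [smul_eq_mul, Finset.card_univ]
      exact Nat.mul_le_mul_right _ k1

end Cfsg.Agent.FormCombine53
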