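import Mathlib

/-!
The weighted counts behind the class number bounds for forms in odd characteristic.
-/

set_option autoImplicit false

namespace Cfsg.Agent.FormCountArith53

/-- decorations: which of the four extra linear factors occur -/
abbrev Rd : Type := (Bool × Bool) × (Bool × Bool)

/-- number of extra factors -/
def wt (r : Rd) : ℕ := r.1.1.toNat + r.1.2.toNat + (r.2.1.toNat + r.2.2.toNat)

/-- per level count -/
def cLev (q : ℕ) (dd : ℕ → Bool) (s d : ℕ) : ℕ :=
  if dd s then ∑ r : Rd, (if wt r ≤ d ∧ (d - wt r) % 2 = 0 then q ^ ((d - wt r) / 2) else 0)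
  else if d % 2 = 0 then q ^ (d / 2) else 0

/-- number of tuples with levels `s, …, s+k-1` and weighted degree `m` -/
def tot (q : ℕ) (dd : ℕ → Bool) : ℕ → ℕ → ℕ → ℕ
  | _, 0, m => if m = 0 then 1 else 0
  | s, k + 1, m =>
    ∑ d ∈ Finset.range (m + 1), if d * s ≤ m then cLev q dd s d * tot q dd (s + 1) k (m - d * s) else 0

/-- decorations present at a level -/
def lvl (dd : ℕ → Bool) (s : ℕ) : Finset Rd := if dd s then Finset.univ else {((false, false), (false, false))}

theorem cLev_eq (q : ℕ) (dd : ℕ → Bool) (s d : ℕ) :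
    cLev q dd s d = ∑ r ∈ lvl dd s, (if wt r ≤ d ∧ (d - wt r) % 2 = 0 then q ^ ((d - wt r) / 2) else 0) := by
  unfold cLev lvl
  split
  · rfl
  · simp [wt]

/-- numerator of a level, by parity -/
def num (dd : ℕ → Bool) (s p : ℕ) (y : ℚ) : ℚ :=
  ∑ r ∈ lvl dd s, if wt r * s % 2 = p then y ^ (wt r * s / 2) else 0

theorem num_nonneg (dd : ℕ → Bool) (s p : ℕ) {y : ℚ} (hy : 0 ≤ y) : 0 ≤ num dd s p y :=
  Finset.sum_nonneg fun r _ => by split <;> positivity

theorem num_mono (dd : ℕ → Bool) (s p : ℕ) {y y' : ℚ} (hy : 0 ≤ y) (h : y ≤ y') :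
    num dd s p y ≤ num dd s p y' :=
  Finset.sum_le_sum fun r _ => by
    split
    · exact pow_le_pow_left₀ hy h _
    · exact le_rfl

variable {q : ℕ} (dd : ℕ → Bool)

/-- weighted partial sums of a parity -/
def Wsum (q : ℕ) (t : ℕ → ℕ) (p M : ℕ) : ℚ :=
  ∑ m ∈ Finset.range M, if m % 2 = p then (t m : ℚ) * ((1 : ℚ) / q) ^ (m / 2) else 0

theorem geom_bound {x : ℚ} (h0 : 0 ≤ x) (h1 : x < 1) (M : ℕ) : ∑ i ∈ Finset.range M, x ^ i ≤ 1 / (1 - x) := by
  rw [le_div_iff₀ (by linarith), mul_comm, mul_neg_geom_sum]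
  linarith [pow_nonneg h0 M]

/-- the sum over one level -/
def lsum (q : ℕ) (s p M : ℕ) : ℚ :=
  ∑ d ∈ Finset.range M, if d * s % 2 = p then (cLev q dd s d : ℚ) * ((1 : ℚ) / q) ^ (d * s / 2) else 0

theorem lsum_le' {Q : ℕ} (hQ : 2 ≤ Q) (hq : Q ≤ q) {s : ℕ} (hs : 2 ≤ s) (p M : ℕ) :
    lsum dd q s p M ≤ num dd s p (1 / Q) * (1 / (1 - (1 / Q : ℚ) ^ (s - 1))) := by
  classical
  have hq0 : (0 : ℚ) < q := by exact_mod_cast (by omega : 0 < q)
  set z : ℚ := 1 / q with hz
  have hz0 : 0 ≤ z := by positivity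
  have hz3 : z ≤ 1 / Q := one_div_le_one_div_of_le (by exact_mod_cast (by omega : 0 < Q)) (by exact_mod_cast hq)
  have hx1 : (1 / Q : ℚ) ^ (s - 1) < 1 := pow_lt_one₀ (by positivity) (by rw [div_lt_one (by exact_mod_cast (by omega : 0 < Q))]; exact_mod_cast (by omega : 1 < Q)) (by omega)
  have hx0 : z ^ (s - 1) ≤ (1 / Q : ℚ) ^ (s - 1) := pow_le_pow_left₀ hz0 hz3 _
  have key : ∀ r ∈ lvl dd s,
      (∑ d ∈ Finset.range M, if d * s % 2 = p ∧ wt r ≤ d ∧ (d - wt r) % 2 = 0 then
          ((q : ℚ) ^ ((d - wt r) / 2)) * z ^ (d * s / 2) else 0) ≤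
        (if wt r * s % 2 = p then (1 / Q : ℚ) ^ (wt r * s / 2) else 0) * (1 / (1 - (1 / Q : ℚ) ^ (s - 1))) := by
    intro r _
    set w := wt r
    rw [← Finset.sum_filter]
    by_cases hp : w * s % 2 = p
    · rw [if_pos hp]
      have hval : ∀ d ∈ (Finset.range M).filter (fun d => d * s % 2 = p ∧ w ≤ d ∧ (d - w) % 2 = 0),
          (q : ℚ) ^ ((d - w) / 2) * z ^ (d * s / 2) = z ^ (w * s / 2) * (z ^ (s - 1)) ^ ((d - w) / 2) := by
        intro d hd
        obtain ⟨-, -, hwd, hev⟩ := Finset.mem_filter.1 hd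
        obtain ⟨i, hi⟩ : ∃ i, d = w + 2 * i := ⟨(d - w) / 2, by omega⟩
        subst hi
        have e1 : (w + 2 * i - w) / 2 = i := by omega
        have e2 : (w + 2 * i) * s / 2 = w * s / 2 + ((s - 1) * i + i) := by
          have : (w + 2 * i) * s = w * s + 2 * (i * s) := by ring
          rw [this, Nat.add_mul_div_left _ _ (by norm_num : 0 < 2)]
          congr 1
          rw [Nat.sub_mul, one_mul, Nat.sub_add_cancel (Nat.le_mul_of_pos_left _ (by omega)), mul_comm]
        have e3 : (q : ℚ) ^ i * z ^ i = 1 := by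
          rw [← mul_pow, hz, mul_one_div, div_self hq0.ne', one_pow]
        rw [e1, e2, pow_add, pow_add, ← pow_mul]
        linear_combination (z ^ (w * s / 2) * z ^ ((s - 1) * i)) * e3
      rw [Finset.sum_congr rfl hval, ← Finset.mul_sum]
      refine mul_le_mul (pow_le_pow_left₀ hz0 hz3 _) ?_ (Finset.sum_nonneg fun _ _ => by positivity) (by positivity)
      refine le_trans ?_ ((geom_bound (pow_nonneg hz0 _) (lt_of_le_of_lt hx0 hx1) M).trans
        (one_div_le_one_div_of_le (by linarith) (by linarith)))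
      rw [← Finset.sum_image (f := fun i => (z ^ (s - 1)) ^ i) (g := fun d => (d - w) / 2) (fun a ha b hb h => by
        obtain ⟨-, -, h1, h2⟩ := Finset.mem_filter.1 ha
        obtain ⟨-, -, h3, h4⟩ := Finset.mem_filter.1 hb
        simp only at h
        omega)]
      refine Finset.sum_le_sum_of_subset_of_nonneg (fun i hi => ?_) (fun _ _ _ => by positivity)
      obtain ⟨d, hd, rfl⟩ := Finset.mem_image.1 hi
      rw [Finset.mem_range]
      have := Finset.mem_range.1 (Finset.mem_filter.1 hd).1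
      omega
    · rw [if_neg hp, zero_mul]
      refine le_of_eq (Finset.sum_eq_zero fun d hd => ?_)
      obtain ⟨-, hd2, hwd, hev⟩ := Finset.mem_filter.1 hd
      exfalso
      apply hp
      rw [← hd2, Nat.mul_mod w, Nat.mul_mod d, show w % 2 = d % 2 by omega]
  calc lsum dd q s p M
      = ∑ r ∈ lvl dd s, ∑ d ∈ Finset.range M, if d * s % 2 = p ∧ wt r ≤ d ∧ (d - wt r) % 2 = 0 then
          ((q : ℚ) ^ ((d - wt r) / 2)) * z ^ (d * s / 2) else 0 := by
        rw [Finset.sum_comm, lsum]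
        refine Finset.sum_congr rfl fun d _ => ?_
        rw [cLev_eq]
        push_cast
        rw [Finset.sum_mul]
        split
        · rename_i h
          refine Finset.sum_congr rfl fun r _ => ?_
          by_cases hc : wt r ≤ d ∧ (d - wt r) % 2 = 0
          · rw [if_pos hc, if_pos ⟨h, hc⟩]
          · rw [if_neg hc, if_neg fun hh => hc hh.2, zero_mul]
        · rename_i h
          refine (Finset.sum_eq_zero fun r _ => if_neg fun hh => h hh.1).symm
    _ ≤ ∑ r ∈ lvl dd s, (if wt r * s % 2 = p then (1 / Q : ℚ) ^ (wt r * s / 2) else 0) *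
          (1 / (1 - (1 / Q : ℚ) ^ (s - 1))) := Finset.sum_le_sum key
    _ = _ := by rw [num, Finset.sum_mul]

theorem lsum_le (hq : 3 ≤ q) {s : ℕ} (hs : 2 ≤ s) (p M : ℕ) :
    lsum dd q s p M ≤ num dd s p (1 / 3) * (1 / (1 - (1 / 3 : ℚ) ^ (s - 1))) := by
  simpa using lsum_le' dd (Q := 3) (by norm_num) hq hs p M

theorem W_step (hq : 3 ≤ q) {s : ℕ} (hs : 1 ≤ s) (k M : ℕ) :
    Wsum q (tot q dd s (k + 1)) 0 M ≤
        lsum dd q s 0 M * Wsum q (tot q dd (s + 1) k) 0 M +
          1 / q * (lsum dd q s 1 M * Wsum q (tot q dd (s + 1) k) 1 M) ∧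
      Wsum q (tot q dd s (k + 1)) 1 M ≤
        lsum dd q s 0 M * Wsum q (tot q dd (s + 1) k) 1 M +
          lsum dd q s 1 M * Wsum q (tot q dd (s + 1) k) 0 M := by
  classical
  set t := tot q dd (s + 1) k
  set z : ℚ := 1 / q with hz
  have hz0 : 0 ≤ z := by positivity
  let T : ℕ → ℕ × ℕ → ℚ := fun p x =>
    if (x.1 * s + x.2) % 2 = p then (cLev q dd s x.1 : ℚ) * t x.2 * z ^ ((x.1 * s + x.2) / 2) else 0
  have hT0 : ∀ p x, 0 ≤ T p x := fun p x => by simp only [T]; split <;> positivity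
  have hmain : ∀ p, Wsum q (tot q dd s (k + 1)) p M ≤ ∑ x ∈ Finset.range M ×ˢ Finset.range M, T p x := by
    intro p
    rw [← Finset.sum_filter_add_sum_filter_not (Finset.range M ×ˢ Finset.range M) (fun x => x.1 * s + x.2 < M)]
    refine le_add_of_le_of_nonneg (le_of_eq ?_) (Finset.sum_nonneg fun x _ => hT0 p x)
    rw [Wsum, ← Finset.sum_fiberwise_of_maps_to (g := fun x : ℕ × ℕ => x.1 * s + x.2) (t := Finset.range M)
      (fun x hx => Finset.mem_range.2 (Finset.mem_filter.1 hx).2)]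
    refine Finset.sum_congr rfl fun m hm => ?_
    rw [Finset.mem_range] at hm
    rw [Finset.filter_filter]
    split
    · rename_i hp
      rw [tot, ← Finset.sum_filter]
      push_cast
      rw [Finset.sum_mul]
      refine Finset.sum_bij' (fun d _ => (d, m - d * s)) (fun x _ => x.1) (fun d hd => ?_) (fun x hx => ?_)
        (fun d _ => rfl) (fun x hx => ?_) (fun d hd => ?_)
      · obtain ⟨h1, h2⟩ := Finset.mem_filter.1 hd
        rw [Finset.mem_range] at h1
        refine Finset.mem_filter.2 ⟨Finset.mem_product.2 ⟨Finset.mem_range.2 ?_, Finset.mem_range.2 ?_⟩, ?_, ?_⟩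
        · omega
        · show m - d * s < M; omega
        · show d * s + (m - d * s) < M; omega
        · show d * s + (m - d * s) = m; omega
      · obtain ⟨-, -, h2⟩ := Finset.mem_filter.1 hx
        have h3 : x.1 ≤ x.1 * s := Nat.le_mul_of_pos_right _ hs
        exact Finset.mem_filter.2 ⟨Finset.mem_range.2 (by omega), by omega⟩
      · obtain ⟨-, -, h2⟩ := Finset.mem_filter.1 hx
        exact Prod.ext rfl (show m - x.1 * s = x.2 by omega)
      · obtain ⟨-, h2⟩ := Finset.mem_filter.1 hd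
        simp only [T, Nat.add_sub_cancel' h2, if_pos hp]
        rfl
    · rename_i hp
      refine (Finset.sum_eq_zero fun x hx => ?_).symm
      obtain ⟨-, -, h2⟩ := Finset.mem_filter.1 hx
      simp only [T]
      rw [if_neg (by rw [h2]; exact hp)]
  refine ⟨(hmain 0).trans (le_of_eq ?_), (hmain 1).trans (le_of_eq ?_)⟩
  · rw [Wsum, Wsum, lsum, lsum, Finset.sum_mul_sum, Finset.sum_mul_sum, Finset.mul_sum, ← Finset.sum_add_distrib,
      Finset.sum_product]
    refine Finset.sum_congr rfl fun d _ => ?_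
    rw [Finset.mul_sum, ← Finset.sum_add_distrib]
    refine Finset.sum_congr rfl fun l _ => ?_
    rcases Nat.mod_two_eq_zero_or_one (d * s) with h1 | h1 <;> rcases Nat.mod_two_eq_zero_or_one l with h2 | h2
    · have e : (d * s + l) / 2 = d * s / 2 + l / 2 := by omega
      simp [T, h1, h2, Nat.add_mod, e, pow_add, hz]; ring
    · simp [T, h1, h2, Nat.add_mod]
    · simp [T, h1, h2, Nat.add_mod]
    · have e : (d * s + l) / 2 = d * s / 2 + l / 2 + 1 := by omega
      simp [T, h1, h2, Nat.add_mod, e, pow_add, hz]; ring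
  · rw [Wsum, Wsum, lsum, lsum, Finset.sum_mul_sum, Finset.sum_mul_sum, ← Finset.sum_add_distrib, Finset.sum_product]
    refine Finset.sum_congr rfl fun d _ => ?_
    rw [← Finset.sum_add_distrib]
    refine Finset.sum_congr rfl fun l _ => ?_
    rcases Nat.mod_two_eq_zero_or_one (d * s) with h1 | h1 <;> rcases Nat.mod_two_eq_zero_or_one l with h2 | h2
    · simp [T, h1, h2, Nat.add_mod]
    · have e : (d * s + l) / 2 = d * s / 2 + l / 2 := by omega
      simp [T, h1, h2, Nat.add_mod, e, pow_add, hz]; ring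
    · have e : (d * s + l) / 2 = d * s / 2 + l / 2 := by omega
      simp [T, h1, h2, Nat.add_mod, e, pow_add, hz]; ring
    · simp [T, h1, h2, Nat.add_mod]

theorem W_zero (q : ℕ) (s M : ℕ) :
    Wsum q (tot q dd s 0) 0 M ≤ 1 ∧ Wsum q (tot q dd s 0) 1 M ≤ 0 := by
  refine ⟨?_, le_of_eq (Finset.sum_eq_zero fun m _ => ?_)⟩
  · rw [Wsum]
    refine le_trans (Finset.sum_le_sum fun m _ => (?_ : _ ≤ if m = 0 then (1 : ℚ) else 0)) ?_
    · rcases m with _ | m
      · simp [tot]
      · simp [tot]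
    · rw [Finset.sum_ite_eq']
      split <;> norm_num
  · rcases m with _ | m <;> simp [tot]

theorem W_nonneg (q : ℕ) (t : ℕ → ℕ) (p M : ℕ) : 0 ≤ Wsum q t p M :=
  Finset.sum_nonneg fun m _ => by split <;> positivity

/-- tail error -/
def A (s : ℕ) : ℚ := (if s % 2 = 0 then 30 else 24) * (1 / 3) ^ (s / 2)

theorem A_le {s : ℕ} (hs : 24 ≤ s) : A s ≤ 30 * (1 / 3) ^ 12 := by
  have h : (1 / 3 : ℚ) ^ (s / 2) ≤ (1 / 3) ^ 12 := pow_le_pow_of_le_one (by norm_num) (by norm_num) (by omega)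
  unfold A
  split <;> nlinarith [pow_nonneg (show (0 : ℚ) ≤ 1 / 3 by norm_num) (s / 2)]

theorem A_step (s : ℕ) : A (s + 1) + 6 * (1 / 3) ^ (s / 2) ≤ A s := by
  have h : (0 : ℚ) ≤ (1 / 3) ^ (s / 2) := by positivity
  unfold A
  rcases Nat.mod_two_eq_zero_or_one s with h2 | h2
  · rw [if_pos h2, if_neg (show ¬ (s + 1) % 2 = 0 by omega), show (s + 1) / 2 = s / 2 by omega]
    linarith
  · rw [if_neg (show ¬ s % 2 = 0 by omega), if_pos (show (s + 1) % 2 = 0 by omega), show (s + 1) / 2 = s / 2 + 1 by omega,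
      pow_succ]
    linarith

theorem one_le_num (s : ℕ) {y : ℚ} (hy : 0 ≤ y) : 1 ≤ num dd s 0 y := by
  rw [num]
  refine le_trans (le_of_eq ?_) (Finset.single_le_sum (fun r _ => by split <;> positivity)
    (show ((false, false), (false, false)) ∈ lvl dd s by unfold lvl; split <;> simp))
  simp [wt]

theorem num_total {s : ℕ} (hs : 24 ≤ s) :
    num dd s 0 (1 / 3) + num dd s 1 (1 / 3) ≤ (1 + 6 * (1 / 3) ^ (s / 2)) * (1 - (1 / 3) ^ (s - 1)) := by
  set Y : ℚ := (1 / 3) ^ (s / 2) with hY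
  have hY0 : 0 ≤ Y := by positivity
  have hY1 : Y ≤ (1 / 3) ^ 12 := pow_le_pow_of_le_one (by norm_num) (by norm_num) (by omega)
  have h3 : (1 / 3 : ℚ) ^ (s - 1) ≤ 3 * Y ^ 2 := by
    have e : (1 / 3 : ℚ) ^ (s - 1) = 3 * (1 / 3) ^ s := by
      conv_rhs => rw [show s = s - 1 + 1 by omega, pow_succ]
      ring
    rw [e, hY, ← pow_mul]
    exact mul_le_mul_of_nonneg_left (pow_le_pow_of_le_one (by norm_num) (by norm_num) (by omega)) (by norm_num)
  have hw : ∀ r : Rd, (if wt r * s % 2 = 0 then (1 / 3 : ℚ) ^ (wt r * s / 2) else 0) +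
      (if wt r * s % 2 = 1 then (1 / 3 : ℚ) ^ (wt r * s / 2) else 0) = (1 / 3 : ℚ) ^ (wt r * s / 2) := by
    intro r
    rcases Nat.mod_two_eq_zero_or_one (wt r * s) with h | h <;> simp [h]
  have hsum : num dd s 0 (1 / 3) + num dd s 1 (1 / 3) ≤ ∑ r : Rd, (1 / 3 : ℚ) ^ (wt r * s / 2) := by
    rw [num, num, ← Finset.sum_add_distrib, Finset.sum_congr rfl fun r _ => hw r]
    exact Finset.sum_le_sum_of_subset_of_nonneg (Finset.subset_univ _) fun _ _ _ => by positivity
  have h2 : ∀ w, 2 ≤ w → (1 / 3 : ℚ) ^ (w * s / 2) ≤ Y * Y := fun w hw' => by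
    rw [hY, ← pow_add]
    refine pow_le_pow_of_le_one (by norm_num) (by norm_num) ?_
    have : 2 * s ≤ w * s := Nat.mul_le_mul_right _ hw'
    omega
  refine hsum.trans ?_
  have a2 := h2 2 le_rfl
  have a3 := h2 3 (by norm_num)
  have a4 := h2 4 (by norm_num)
  simp only [Fintype.sum_prod_type, Fintype.sum_bool, wt, Bool.toNat_true, Bool.toNat_false]
  norm_num at a2 a3 a4 ⊢
  rw [← hY]
  nlinarith [mul_le_mul_of_nonneg_left hY1 hY0]

theorem W_tail (hq : 3 ≤ q) : ∀ k s, 24 ≤ s → ∀ M,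
    Wsum q (tot q dd s k) 0 M ≤ 1 / (1 - A s) ∧ Wsum q (tot q dd s k) 1 M ≤ 1 / (1 - A s) - 1 := by
  intro k
  induction k with
  | zero =>
    intro s hs M
    have := A_le hs
    have hA : 0 ≤ A s := by unfold A; split <;> positivity
    have h1 : 1 ≤ 1 / (1 - A s) := by rw [le_div_iff₀ (by norm_num at this; linarith)]; linarith
    have h := W_zero dd q s M
    exact ⟨h.1.trans h1, h.2.trans (by linarith)⟩
  | succ k ih =>
    intro s hs M
    obtain ⟨iE, iO⟩ := ih (s + 1) (by omega) M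
    obtain ⟨hE, hO⟩ := W_step dd hq (show 1 ≤ s by omega) k M
    set x : ℚ := (1 / 3 : ℚ) ^ (s - 1) with hx
    set T' := 1 / (1 - A (s + 1))
    set E := Wsum q (tot q dd (s + 1) k) 0 M
    set O := Wsum q (tot q dd (s + 1) k) 1 M
    have hx1 : x < 1 := pow_lt_one₀ (by norm_num) (by norm_num) (by omega)
    set g0 := num dd s 0 (1 / 3) * (1 / (1 - x))
    set g1 := num dd s 1 (1 / 3) * (1 / (1 - x))
    have hg0 : 1 ≤ g0 := by
      have h1 := one_le_num dd s (show (0 : ℚ) ≤ 1 / 3 by norm_num)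
      have h2 : 1 ≤ 1 / (1 - x) := by
        rw [le_div_iff₀ (by linarith)]
        linarith [show (0 : ℚ) ≤ x from by positivity]
      exact one_le_mul_of_one_le_of_one_le h1 h2
    have hg1 : 0 ≤ g1 := mul_nonneg (num_nonneg dd s 1 (by norm_num)) (by
      rw [one_div_nonneg]; linarith)
    have hl0 : lsum dd q s 0 M ≤ g0 := lsum_le dd hq (by omega) 0 M
    have hl1 : lsum dd q s 1 M ≤ g1 := lsum_le dd hq (by omega) 1 M
    have hlnn : ∀ p, 0 ≤ lsum dd q s p M := fun p => Finset.sum_nonneg fun d _ => by split <;> positivity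
    have hA1 : A (s + 1) < 1 := lt_of_le_of_lt (A_le (by omega)) (by norm_num)
    have hAnn : 0 ≤ A (s + 1) := by unfold A; split <;> positivity
    have hT1 : 1 ≤ T' := by rw [le_div_iff₀ (by linarith)]; linarith
    have hEn := W_nonneg q (tot q dd (s + 1) k) 0 M
    have hOn := W_nonneg q (tot q dd (s + 1) k) 1 M
    have hz : (1 : ℚ) / q ≤ 1 := by
      rw [div_le_one (by exact_mod_cast (by omega : 0 < q))]
      exact_mod_cast (by omega : 1 ≤ q)
    have hsum : g0 + g1 ≤ 1 + 6 * (1 / 3) ^ (s / 2) := by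
      rw [← add_mul, mul_one_div, div_le_iff₀ (by linarith)]
      exact num_total dd hs
    have hfin : (g0 + g1) * T' ≤ 1 / (1 - A s) := by
      refine (mul_le_mul_of_nonneg_right hsum (by linarith)).trans ?_
      have hA := A_step s
      have hAs : A s < 1 := lt_of_le_of_lt (A_le hs) (by norm_num)
      rw [mul_one_div, div_le_div_iff₀ (by linarith) (by linarith)]
      nlinarith [show (0 : ℚ) ≤ (1 / 3) ^ (s / 2) by positivity]
    refine ⟨hE.trans ?_, hO.trans ?_⟩
    · have b1 : lsum dd q s 0 M * E ≤ g0 * T' := mul_le_mul hl0 iE hEn (by linarith)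
      have b2 : 1 / (q : ℚ) * (lsum dd q s 1 M * O) ≤ g1 * T' := by
        refine (mul_le_of_le_one_left (mul_nonneg (hlnn 1) hOn) hz).trans ?_
        exact mul_le_mul hl1 (by linarith) hOn hg1
      linarith
    · have b1 : lsum dd q s 0 M * O ≤ g0 * (T' - 1) := mul_le_mul hl0 iO hOn (by linarith)
      have b2 : lsum dd q s 1 M * E ≤ g1 * T' := mul_le_mul hl1 iE hEn hg1
      nlinarith

/-- integer numerator -/
def Nn (dd : ℕ → Bool) (s p : ℕ) : ℕ :=
  ∑ r ∈ lvl dd s, if wt r * s % 2 = p then 3 ^ (2 * s - wt r * s / 2) else 0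

/-- ceiling division -/
def cdiv (a b : ℕ) : ℕ := (a + b - 1) / b

/-- scaled bounds `(24-i)` -/
def U (dd : ℕ → Bool) : ℕ → ℕ × ℕ
  | 0 => (1000057, 57)
  | i + 1 =>
    let s := 23 - i
    let a := 3 ^ (s - 1)
    let den := 3 ^ (2 * s) * (a - 1)
    (max 1000000 (cdiv (a * (3 * Nn dd s 0 * (U dd i).1 + Nn dd s 1 * (U dd i).2)) (3 * den)),
      cdiv (a * (Nn dd s 0 * (U dd i).2 + Nn dd s 1 * (U dd i).1)) den)

theorem cdiv_le (a : ℕ) {b : ℕ} (hb : 0 < b) : (a : ℚ) / b ≤ cdiv a b := by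
  rw [div_le_iff₀ (by exact_mod_cast hb)]
  have h1 := Nat.div_add_mod (a + b - 1) b
  have h2 := Nat.mod_lt (a + b - 1) hb
  have : a ≤ cdiv a b * b := by
    rw [cdiv, mul_comm]
    omega
  exact_mod_cast this

theorem num_eq_Nn (s p : ℕ) : num dd s p (1 / 3) = (Nn dd s p : ℚ) / 3 ^ (2 * s) := by
  rw [num, Nn, Nat.cast_sum, Finset.sum_div]
  refine Finset.sum_congr rfl fun r _ => ?_
  split
  · have hw : wt r * s / 2 ≤ 2 * s := by
      have : wt r ≤ 4 := by
        unfold wt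
        have := Bool.toNat_le r.1.1; have := Bool.toNat_le r.1.2
        have := Bool.toNat_le r.2.1; have := Bool.toNat_le r.2.2
        omega
      have : wt r * s ≤ 4 * s := Nat.mul_le_mul_right _ this
      omega
    obtain ⟨e, he⟩ := Nat.exists_eq_add_of_le hw
    rw [he, Nat.add_sub_cancel_left, Nat.cast_pow, pow_add, one_div_pow, Nat.cast_ofNat]
    field_simp
  · simp

theorem W_U (hq : 3 ≤ q) : ∀ i, i ≤ 22 → ∀ k M,
    Wsum q (tot q dd (24 - i) k) 0 M ≤ (U dd i).1 / 1000000 ∧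
      Wsum q (tot q dd (24 - i) k) 1 M ≤ (U dd i).2 / 1000000 := by
  intro i
  induction i with
  | zero =>
    intro _ k M
    obtain ⟨h1, h2⟩ := W_tail dd hq k 24 le_rfl M
    refine ⟨h1.trans ?_, h2.trans ?_⟩ <;> norm_num [A, U]
  | succ i ih =>
    intro hi k M
    obtain ⟨s, rfl⟩ : ∃ s, s = 23 - i := ⟨_, rfl⟩
    rw [show 24 - (i + 1) = 23 - i by omega]
    set s := 23 - i with hs
    rcases k with _ | k
    · have h := W_zero dd q s M
      refine ⟨h.1.trans ?_, h.2.trans (by positivity)⟩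
      rw [le_div_iff₀ (by norm_num), one_mul]
      exact_mod_cast (le_max_left _ _ : 1000000 ≤ (U dd (i + 1)).1)
    obtain ⟨iE, iO⟩ := ih (by omega) k M
    rw [show 24 - i = s + 1 by omega] at iE iO
    obtain ⟨hE, hO⟩ := W_step dd hq (show 1 ≤ s by omega) k M
    have hl0 := lsum_le dd hq (show 2 ≤ s by omega) 0 M
    have hl1 := lsum_le dd hq (show 2 ≤ s by omega) 1 M
    have hlnn : ∀ p, 0 ≤ lsum dd q s p M := fun p => Finset.sum_nonneg fun d _ => by split <;> positivity
    have hz0 : (0 : ℚ) ≤ 1 / q := by positivity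
    have hz : (1 : ℚ) / q ≤ 1 / 3 := one_div_le_one_div_of_le (by norm_num) (by exact_mod_cast hq)
    have hEn := W_nonneg q (tot q dd (s + 1) k) 0 M
    have hOn := W_nonneg q (tot q dd (s + 1) k) 1 M
    set a := 3 ^ (s - 1) with ha
    set den := 3 ^ (2 * s) * (a - 1) with hden
    have ha3 : 3 ≤ a := by rw [ha]; exact Nat.le_self_pow (by omega) 3
    have hdenpos : 0 < den := Nat.mul_pos (Nat.pow_pos (by norm_num)) (by omega)
    have hfrac : ∀ p, num dd s p (1 / 3) * (1 / (1 - (1 / 3 : ℚ) ^ (s - 1))) = (Nn dd s p : ℚ) * a / den := by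
      intro p
      have ha' : (a : ℚ) = 3 ^ (s - 1) := by rw [ha]; push_cast; rfl
      have ha1 : (1 : ℚ) ≤ a := by exact_mod_cast (by omega : 1 ≤ a)
      rw [num_eq_Nn, one_div_pow, ← ha', hden, Nat.cast_mul, Nat.cast_sub (by omega), Nat.cast_pow, Nat.cast_ofNat,
        Nat.cast_one]
      have : (a : ℚ) - 1 ≠ 0 := by
        have : (3 : ℚ) ≤ a := by exact_mod_cast ha3
        linarith
      push_cast
      field_simp
    rw [hfrac] at hl0 hl1
    refine ⟨hE.trans ?_, hO.trans ?_⟩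
    · have b1 := mul_le_mul hl0 iE hEn (le_trans (hlnn 0) hl0)
      have b2 := mul_le_mul hz (mul_le_mul hl1 iO hOn (le_trans (hlnn 1) hl1)) (mul_nonneg (hlnn 1) hOn) (by norm_num)
      refine (add_le_add b1 b2).trans ?_
      show _ ≤ ((max 1000000 (cdiv (a * (3 * Nn dd s 0 * (U dd i).1 + Nn dd s 1 * (U dd i).2)) (3 * den)) : ℕ) : ℚ) /
        1000000
      refine le_trans ?_ (div_le_div_of_nonneg_right
        ((cdiv_le _ (by omega : 0 < 3 * den)).trans (Nat.cast_le.2 (le_max_right _ _))) (by norm_num))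
      push_cast
      refine le_of_eq ?_
      field_simp
    · have b1 := mul_le_mul hl0 iO hOn (le_trans (hlnn 0) hl0)
      have b2 := mul_le_mul hl1 iE hEn (le_trans (hlnn 1) hl1)
      refine (add_le_add b1 b2).trans ?_
      show _ ≤ ((cdiv (a * (Nn dd s 0 * (U dd i).2 + Nn dd s 1 * (U dd i).1)) den : ℕ) : ℚ) / 1000000
      refine le_trans ?_ (div_le_div_of_nonneg_right (cdiv_le _ hdenpos) (by norm_num))
      push_cast
      refine le_of_eq ?_
      field_simp

/-- level one, from bounds on the higher levels -/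
theorem tot_one_le' {Q : ℕ} (hQ : 0 < Q) (hq : Q ≤ q) {E O : ℚ} (hW : ∀ k M, Wsum q (tot q dd 2 k) 0 M ≤ E ∧ Wsum q (tot q dd 2 k) 1 M ≤ O) (k m : ℕ) (hk : 1 ≤ k) :
    (tot q dd 1 k m : ℚ) ≤ (q : ℚ) ^ (m / 2) *
      if m % 2 = 0 then num dd 1 0 (1 / Q) * E + 1 / Q * (num dd 1 1 (1 / Q) * O)
      else num dd 1 0 (1 / Q) * O + num dd 1 1 (1 / Q) * E := by
  classical
  obtain ⟨k, rfl⟩ := Nat.exists_eq_add_of_le' hk
  obtain ⟨bE, bO⟩ := hW k (m + 1)
  set t := tot q dd 2 k
  set z : ℚ := 1 / q with hzdef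
  have hq0 : (0 : ℚ) < q := by exact_mod_cast (by omega : 0 < q)
  have hz0 : (0 : ℚ) ≤ z := by positivity
  have hz : z ≤ 1 / Q := one_div_le_one_div_of_le (by exact_mod_cast hQ) (by exact_mod_cast hq)
  let par : ℕ → ℕ := fun w => (m + w) % 2
  have hterm : ∀ r ∈ lvl dd 1,
      (∑ d ∈ Finset.range (m + 1), if wt r ≤ d ∧ (d - wt r) % 2 = 0 then (q : ℚ) ^ ((d - wt r) / 2) * t (m - d) else 0)
        ≤ (q : ℚ) ^ (m / 2) * z ^ (if m % 2 = 0 then (wt r + 1) / 2 else wt r / 2) * Wsum q t (par (wt r)) (m + 1) := by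
    intro r _
    set w := wt r
    rw [Wsum, Finset.mul_sum, ← Finset.sum_filter]
    refine le_trans (le_of_eq ?_) (Finset.sum_le_sum_of_subset_of_nonneg
      (s := ((Finset.range (m + 1)).filter fun d => w ≤ d ∧ (d - w) % 2 = 0).image fun d => m - d) ?_ ?_)
    · rw [Finset.sum_image]
      · refine Finset.sum_congr rfl fun d hd => ?_
        obtain ⟨h0, h1, h2⟩ := Finset.mem_filter.1 hd
        rw [Finset.mem_range] at h0
        have hp : (m - d) % 2 = par w := by simp only [par]; omega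
        rw [if_pos hp]
        have hexp : m / 2 = (d - w) / 2 + ((if m % 2 = 0 then (w + 1) / 2 else w / 2) + (m - d) / 2) := by
          split <;> omega
        conv_rhs => rw [hexp]
        have e3 : ∀ j, (q : ℚ) ^ j * z ^ j = 1 := fun j => by
          rw [← mul_pow, hzdef, mul_one_div, div_self hq0.ne', one_pow]
        rw [pow_add, pow_add]
        linear_combination -((q : ℚ) ^ ((d - w) / 2) * t (m - d)) *
          ((q : ℚ) ^ ((m - d) / 2) * z ^ ((m - d) / 2) * e3 (if m % 2 = 0 then (w + 1) / 2 else w / 2) +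
            e3 ((m - d) / 2))
      · intro a ha b hb h
        obtain ⟨h0, -⟩ := Finset.mem_filter.1 ha
        obtain ⟨h1, -⟩ := Finset.mem_filter.1 hb
        rw [Finset.mem_range] at h0 h1
        simp only at h
        omega
    · intro i hi
      obtain ⟨d, -, rfl⟩ := Finset.mem_image.1 hi
      rw [Finset.mem_range]
      omega
    · intro i _ _
      split <;> positivity
  have hsum : (tot q dd 1 (k + 1) m : ℚ) =
      ∑ r ∈ lvl dd 1, ∑ d ∈ Finset.range (m + 1),
        if wt r ≤ d ∧ (d - wt r) % 2 = 0 then (q : ℚ) ^ ((d - wt r) / 2) * t (m - d) else 0 := by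
    rw [Finset.sum_comm, tot]
    push_cast
    refine Finset.sum_congr rfl fun d hd => ?_
    rw [Finset.mem_range] at hd
    rw [mul_one, if_pos (by omega), cLev_eq]
    push_cast
    rw [Finset.sum_mul]
    exact Finset.sum_congr rfl fun r _ => by split <;> simp [t]
  rw [hsum]
  refine (Finset.sum_le_sum hterm).trans ?_
  simp only [mul_assoc]
  rw [← Finset.mul_sum]
  refine mul_le_mul_of_nonneg_left ?_ (by positivity)
  have hb : ∀ p, p < 2 → Wsum q t p (m + 1) ≤ (if p = 0 then E else O) := fun p hp => by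
    interval_cases p
    · exact bE
    · exact bO
  rcases Nat.mod_two_eq_zero_or_one m with hm | hm
  · rw [if_pos hm]
    simp only [num, Finset.sum_mul, Finset.mul_sum, ← Finset.sum_add_distrib, if_pos hm]
    refine Finset.sum_le_sum fun r _ => ?_
    rcases Nat.mod_two_eq_zero_or_one (wt r) with hw | hw
    · rw [mul_one, if_pos hw, if_neg (by omega), zero_mul, mul_zero, add_zero,
        show (wt r + 1) / 2 = wt r / 2 by omega]
      refine mul_le_mul (pow_le_pow_left₀ hz0 hz _) ?_ (W_nonneg _ _ _ _) (by positivity)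
      have := hb (par (wt r)) (Nat.mod_lt _ two_pos)
      rw [show par (wt r) = 0 by simp only [par]; omega] at this ⊢
      rwa [if_pos rfl] at this
    · rw [mul_one, if_neg (by omega), if_pos hw, zero_mul, zero_add, show (wt r + 1) / 2 = wt r / 2 + 1 by omega,
        pow_succ', mul_assoc]
      refine mul_le_mul hz (mul_le_mul (pow_le_pow_left₀ hz0 hz _) ?_ (W_nonneg _ _ _ _) (by positivity))
        (mul_nonneg (by positivity) (W_nonneg _ _ _ _)) (by positivity)
      have := hb (par (wt r)) (Nat.mod_lt _ two_pos)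
      rw [show par (wt r) = 1 by simp only [par]; omega] at this ⊢
      rwa [if_neg one_ne_zero] at this
  · rw [if_neg (by omega)]
    simp only [num, Finset.sum_mul, ← Finset.sum_add_distrib, if_neg (show ¬ m % 2 = 0 by omega)]
    refine Finset.sum_le_sum fun r _ => ?_
    rcases Nat.mod_two_eq_zero_or_one (wt r) with hw | hw
    · rw [mul_one, if_pos hw, if_neg (by omega), zero_mul, add_zero]
      refine mul_le_mul (pow_le_pow_left₀ hz0 hz _) ?_ (W_nonneg _ _ _ _) (by positivity)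
      have := hb (par (wt r)) (Nat.mod_lt _ two_pos)
      rw [show par (wt r) = 1 by simp only [par]; omega] at this ⊢
      rwa [if_neg one_ne_zero] at this
    · rw [mul_one, if_neg (by omega), if_pos hw, zero_mul, zero_add]
      refine mul_le_mul (pow_le_pow_left₀ hz0 hz _) ?_ (W_nonneg _ _ _ _) (by positivity)
      have := hb (par (wt r)) (Nat.mod_lt _ two_pos)
      rw [show par (wt r) = 0 by simp only [par]; omega] at this ⊢
      rwa [if_pos rfl] at this

/-- level one: the total is at most `q^(m/2)` times the weighted sum -/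
theorem tot_one_le (hq : 3 ≤ q) (k m : ℕ) (hk : 1 ≤ k) :
    (tot q dd 1 k m : ℚ) ≤ (q : ℚ) ^ (m / 2) *
      if m % 2 = 0 then num dd 1 0 (1 / 3) * ((U dd 22).1 / 1000000) + 1 / 3 * (num dd 1 1 (1 / 3) * ((U dd 22).2 / 1000000))
      else num dd 1 0 (1 / 3) * ((U dd 22).2 / 1000000) + num dd 1 1 (1 / 3) * ((U dd 22).1 / 1000000) := by
  simpa using tot_one_le' dd (Q := 3) (by norm_num) hq (fun k M => W_U dd hq 22 le_rfl k M) k m hk

theorem U_symp : U (fun s => s % 2 == 0) 22 = (10708371, 792) := by decide +kernel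

theorem U_orth : U (fun s => s % 2 == 1) 22 = (2884814, 4110263) := by decide +kernel

theorem U_plain : U (fun _ => false) 22 = (1785438, 134) := by decide +kernel

theorem num_one_orth : num (fun s => s % 2 == 1) 1 0 (1 / 3) = 28 / 9 ∧
    num (fun s => s % 2 == 1) 1 1 (1 / 3) = 16 / 3 := by
  constructor <;>
  · simp only [num, lvl, Nat.one_mod, BEq.rfl, if_true, Fintype.sum_prod_type, Fintype.sum_bool, wt,
      Bool.toNat_true, Bool.toNat_false]
    norm_num

theorem num_one_plain (f : ℕ → Bool) (hf : f 1 = false) : num f 1 0 (1 / 3) = 1 ∧ num f 1 1 (1 / 3) = 0 := by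
  simp [num, lvl, hf, wt]

/-- symplectic case -/
theorem symp_le (hq : 3 ≤ q) (k n : ℕ) (hk : 1 ≤ k) :
    5 * tot q (fun s => s % 2 == 0) 1 k (2 * n) ≤ 54 * q ^ n := by
  have h := tot_one_le (fun s => s % 2 == 0) hq k (2 * n) hk
  obtain ⟨e0, e1⟩ := num_one_plain (fun s => s % 2 == 0) rfl
  rw [if_pos (by omega), e0, e1, U_symp, show 2 * n / 2 = n by omega] at h
  have hp : (0 : ℚ) ≤ (q : ℚ) ^ n := by positivity
  have : (5 * tot q (fun s => s % 2 == 0) 1 k (2 * n) : ℚ) ≤ 54 * (q : ℚ) ^ n := by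
    norm_num at h ⊢
    nlinarith
  exact_mod_cast this

/-- orthogonal case, even dimension: all tuples plus the undecorated ones -/
theorem orth_even_le (hq : 3 ≤ q) (k n : ℕ) (hk : 1 ≤ k) :
    tot q (fun s => s % 2 == 1) 1 k (2 * n) + tot q (fun _ => false) 1 k (2 * n) ≤ 19 * q ^ n := by
  have h := tot_one_le (fun s => s % 2 == 1) hq k (2 * n) hk
  have h' := tot_one_le (fun _ => false) hq k (2 * n) hk
  obtain ⟨e0, e1⟩ := num_one_plain (fun _ => false) rfl
  rw [if_pos (by omega), num_one_orth.1, num_one_orth.2, U_orth, show 2 * n / 2 = n by omega] at h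
  rw [if_pos (by omega), e0, e1, U_plain, show 2 * n / 2 = n by omega] at h'
  have hp : (0 : ℚ) ≤ (q : ℚ) ^ n := by positivity
  have : ((tot q (fun s => s % 2 == 1) 1 k (2 * n) + tot q (fun _ => false) 1 k (2 * n) : ℕ) : ℚ) ≤
      19 * (q : ℚ) ^ n := by
    push_cast
    norm_num at h h' ⊢
    nlinarith
  exact_mod_cast this

/-- orthogonal case, odd dimension -/
theorem orth_odd_le (hq : 3 ≤ q) (k n : ℕ) (hk : 1 ≤ k) :
    100 * tot q (fun s => s % 2 == 1) 1 k (2 * n + 1) ≤ 2820 * q ^ n := by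
  have h := tot_one_le (fun s => s % 2 == 1) hq k (2 * n + 1) hk
  rw [if_neg (by omega), num_one_orth.1, num_one_orth.2, U_orth, show (2 * n + 1) / 2 = n by omega] at h
  have hp : (0 : ℚ) ≤ (q : ℚ) ^ n := by positivity
  have : ((100 * tot q (fun s => s % 2 == 1) 1 k (2 * n + 1) : ℕ) : ℚ) ≤ 2820 * (q : ℚ) ^ n := by
    push_cast
    norm_num at h ⊢
    nlinarith
  exact_mod_cast this

/-- sharper bound for the higher levels when `5 ≤ q` -/
theorem W_five (hq : 5 ≤ q) (k M : ℕ) :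
    Wsum q (tot q (fun s => s % 2 == 1) 2 k) 0 M ≤ 17 / 10 ∧
      Wsum q (tot q (fun s => s % 2 == 1) 2 k) 1 M ≤ 22 / 10 := by
  set dd : ℕ → Bool := fun s => s % 2 == 1 with hdd
  have hz : (1 : ℚ) / q ≤ 1 / 5 := one_div_le_one_div_of_le (by norm_num) (by exact_mod_cast hq)
  have hz0 : (0 : ℚ) ≤ 1 / q := by positivity
  have hlnn : ∀ s p, 0 ≤ lsum dd q s p M := fun s p => Finset.sum_nonneg fun d _ => by split <;> positivity
  have U4 : U dd 20 = (1127045, 717009) := by rw [hdd]; decide +kernel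
  have h4 : ∀ k, Wsum q (tot q dd 4 k) 0 M ≤ 1127045 / 1000000 ∧ Wsum q (tot q dd 4 k) 1 M ≤ 717009 / 1000000 := by
    intro k
    have := W_U dd (show 3 ≤ q by omega) 20 (by norm_num) k M
    rw [U4] at this
    simpa using this
  have step : ∀ s, 2 ≤ s → ∀ E O E' O' : ℚ, 1 ≤ E' → 0 ≤ O' →
      num dd s 0 (1 / 5) * (1 / (1 - (1 / 5) ^ (s - 1))) * E +
        1 / 5 * (num dd s 1 (1 / 5) * (1 / (1 - (1 / 5) ^ (s - 1))) * O) ≤ E' →
      num dd s 0 (1 / 5) * (1 / (1 - (1 / 5) ^ (s - 1))) * O +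
        num dd s 1 (1 / 5) * (1 / (1 - (1 / 5) ^ (s - 1))) * E ≤ O' →
      (∀ k, Wsum q (tot q dd (s + 1) k) 0 M ≤ E ∧ Wsum q (tot q dd (s + 1) k) 1 M ≤ O) →
      ∀ k, Wsum q (tot q dd s k) 0 M ≤ E' ∧ Wsum q (tot q dd s k) 1 M ≤ O' := by
    intro s hs E O E' O' hE1 hO1 h0 h1 ih k
    rcases k with _ | k
    · exact ⟨(W_zero dd q s M).1.trans hE1, (W_zero dd q s M).2.trans hO1⟩
    obtain ⟨hE, hO⟩ := W_step dd (show 3 ≤ q by omega) (show 1 ≤ s by omega) k M
    obtain ⟨iE, iO⟩ := ih k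
    have a0 : lsum dd q s 0 M ≤ num dd s 0 (1 / 5) * (1 / (1 - (1 / 5) ^ (s - 1))) := by
      simpa using lsum_le' dd (Q := 5) (by norm_num) hq hs 0 M
    have a1 : lsum dd q s 1 M ≤ num dd s 1 (1 / 5) * (1 / (1 - (1 / 5) ^ (s - 1))) := by
      simpa using lsum_le' dd (Q := 5) (by norm_num) hq hs 1 M
    refine ⟨hE.trans (le_trans ?_ h0), hO.trans (le_trans ?_ h1)⟩
    · exact add_le_add (mul_le_mul a0 iE (W_nonneg _ _ _ _) ((hlnn s 0).trans a0))
        (mul_le_mul hz (mul_le_mul a1 iO (W_nonneg _ _ _ _) ((hlnn s 1).trans a1))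
          (mul_nonneg (hlnn s 1) (W_nonneg _ _ _ _)) (by norm_num))
    · exact add_le_add (mul_le_mul a0 iO (W_nonneg _ _ _ _) ((hlnn s 0).trans a0))
        (mul_le_mul a1 iE (W_nonneg _ _ _ _) ((hlnn s 1).trans a1))
  have h3 := step 3 (by norm_num) _ _ (136 / 100) (176 / 100) (by norm_num) (by norm_num)
    (by norm_num [num, lvl, hdd]; simp only [Fintype.sum_prod_type, Fintype.sum_bool, wt, Bool.toNat_true, Bool.toNat_false]; norm_num)
    (by norm_num [num, lvl, hdd]; simp only [Fintype.sum_prod_type, Fintype.sum_bool, wt, Bool.toNat_true, Bool.toNat_false]; norm_num) h4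
  exact step 2 (by norm_num) _ _ _ _ (by norm_num) (by norm_num)
    (by simp only [num, lvl, hdd, wt, Bool.toNat_false]; norm_num)
    (by simp only [num, lvl, hdd, wt, Bool.toNat_false]; norm_num) h3 k

/-- orthogonal case, odd dimension, `5 ≤ q` -/
theorem orth_odd_five (hq : 5 ≤ q) (k n : ℕ) (hk : 1 ≤ k) :
    10 * tot q (fun s => s % 2 == 1) 1 k (2 * n + 1) ≤ 146 * q ^ n := by
  have h := tot_one_le' (fun s => s % 2 == 1) (Q := 5) (by norm_num) hq (W_five hq) k (2 * n + 1) hk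
  have e : num (fun s => s % 2 == 1) 1 0 (1 / (5 : ℕ)) = 56 / 25 ∧
      num (fun s => s % 2 == 1) 1 1 (1 / (5 : ℕ)) = 24 / 5 := by
    constructor <;>
    · simp only [num, lvl, Nat.one_mod, BEq.rfl, if_true, Fintype.sum_prod_type, Fintype.sum_bool, wt,
        Bool.toNat_true, Bool.toNat_false]
      norm_num
  rw [if_neg (by omega), e.1, e.2, show (2 * n + 1) / 2 = n by omega] at h
  have hp : (0 : ℚ) ≤ (q : ℚ) ^ n := by positivity
  have : ((10 * tot q (fun s => s % 2 == 1) 1 k (2 * n + 1) : ℕ) : ℚ) ≤ 146 * (q : ℚ) ^ n := by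
    push_cast
    nlinarith
  exact_mod_cast this

end Cfsg.Agent.FormCountArith53
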