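import Mathlib
import Cfsg.Agent.Lib.FormCountArith53

/-!
The weighted count with both eigenspaces of dimension at most one: definitions and small values.
-/

set_option autoImplicit false

namespace Cfsg.Agent.FormCountThree53

open Cfsg.Agent.FormCountArith53

/-- levels from two on -/
def t (k m : ℕ) : ℕ := tot 3 (fun s => s % 2 == 1) 2 k m

/-- first level with at most one decorated root at each sign -/
def A (k j : ℕ) : ℕ := t k (2 * j + 1) + 4 * t k (2 * j) + if j = 0 then 0 else 4 * t k (2 * j - 1)

/-- nine times the bound for the polynomials without roots at the signs -/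
def c (i : ℕ) : ℕ := if i = 0 then 9 else 4 * 3 ^ i

/-- nine times the restricted count -/
def X (k n : ℕ) : ℕ := ∑ i ∈ Finset.range (n + 1), c i * A k (n - i)

theorem tot_mono (q : ℕ) (dd : ℕ → Bool) : ∀ k s m, tot q dd s k m ≤ tot q dd s (k + 1) m := by
  intro k
  induction k with
  | zero =>
    intro s m
    by_cases hm : m = 0
    · subst hm
      simp only [tot]
      rw [Finset.sum_range_one]
      simp only [zero_mul, le_refl, if_true, Nat.sub_zero, mul_one]
      rw [cLev_eq]
      refine le_trans (le_of_eq ?_) (Finset.single_le_sum (fun r _ => Nat.zero_le _)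
        (show ((false, false), (false, false)) ∈ lvl dd s by unfold lvl; split <;> simp))
      simp [wt]
    · simp [tot, hm]
  | succ k ih =>
    intro s m
    rw [tot, tot]
    refine Finset.sum_le_sum fun d _ => ?_
    split
    · exact Nat.mul_le_mul_left _ (ih _ _)
    · exact le_rfl

theorem A_mono {k k' : ℕ} (h : k ≤ k') (j : ℕ) : A k j ≤ A k' j := by
  have ht : ∀ m, t k m ≤ t k' m := fun m =>
    monotone_nat_of_le_succ (f := fun k => t k m) (fun i => tot_mono 3 _ i 2 m) h
  unfold A
  have h1 := ht (2 * j + 1)
  have h2 := ht (2 * j)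
  have h3 := ht (2 * j - 1)
  split <;> omega

theorem small : ∀ n ≤ 10, 50 * X 20 n ≤ 4530 * 3 ^ n := by decide +kernel

theorem prefix_ge : 20322 * 3 ^ 10 ≤ 1000 * ∑ j ∈ Finset.range 11, 3 ^ (10 - j) * A 20 j := by decide +kernel

end Cfsg.Agent.FormCountThree53
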