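import Mathlib
import Cfsg.Agent.Lib.FormCountThreeData53

/-!
The weighted count with both eigenspaces of dimension at most one, over the field of three elements.
-/

set_option autoImplicit false

namespace Cfsg.Agent.FormCountThree53

open Cfsg.Agent.FormCountArith53

theorem X_eq (k n : ℕ) : X k n ≤ 4 * (∑ i ∈ Finset.range (n + 1), 3 ^ i * A k (n - i)) + 5 * A k n := by
  have h : ∀ i, c i * A k (n - i) ≤ 4 * (3 ^ i * A k (n - i)) + if i = 0 then 5 * A k n else 0 := by
    intro i
    unfold c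
    split
    · rename_i h; subst h; simp; omega
    · rw [add_zero, mul_assoc]
  refine (Finset.sum_le_sum fun i _ => h i).trans (le_of_eq ?_)
  rw [Finset.sum_add_distrib, ← Finset.mul_sum, Finset.sum_ite_eq', if_pos (by simp)]

/-- cumulative weights -/
def S (k N : ℕ) : ℚ := ∑ j ∈ Finset.range N, (A k j : ℚ) / 3 ^ j

theorem term (k j : ℕ) : (A k j : ℚ) / 3 ^ j =
    (t k (2 * j + 1) : ℚ) * (1 / 3) ^ j + 4 * ((t k (2 * j) : ℚ) * (1 / 3) ^ j) +
      (if j = 0 then 0 else 4 / 3 * ((t k (2 * (j - 1) + 1) : ℚ) * (1 / 3) ^ (j - 1))) := by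
  rcases j with _ | j
  · simp [A]
  · simp only [A, if_neg (Nat.succ_ne_zero j), Nat.add_sub_cancel, show 2 * (j + 1) - 1 = 2 * j + 1 by omega]
    rw [one_div_pow, one_div_pow, pow_succ]
    push_cast
    field_simp

theorem S_le (k N : ℕ) : S k N ≤ 2113 / 100 := by
  obtain ⟨-, bO⟩ := W_U (fun s => s % 2 == 1) (q := 3) le_rfl 22 le_rfl k (2 * N + 2)
  obtain ⟨bE, -⟩ := W_U (fun s => s % 2 == 1) (q := 3) le_rfl 22 le_rfl k (2 * N + 2)
  rw [show 24 - 22 = 2 by norm_num, U_orth] at bE bO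
  have hW : ∀ p, p < 2 → ∀ M, M ≤ N + 1 → ∑ j ∈ Finset.range M, (t k (2 * j + p) : ℚ) * (1 / 3) ^ j ≤
      Wsum 3 (tot 3 (fun s => s % 2 == 1) 2 k) p (2 * N + 2) := by
    intro p hp M hM
    rw [Wsum, ← Finset.sum_filter]
    refine le_trans (le_of_eq ?_) (Finset.sum_le_sum_of_subset_of_nonneg
      (s := (Finset.range M).image fun j => 2 * j + p) (fun x hx => ?_) fun _ _ _ => by positivity)
    · rw [Finset.sum_image fun a _ b _ (h : 2 * a + p = 2 * b + p) => by omega]
      refine Finset.sum_congr rfl fun j _ => ?_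
      rw [show (2 * j + p) / 2 = j by omega]
      norm_num [t]
    · obtain ⟨j, hj, rfl⟩ := Finset.mem_image.1 hx
      rw [Finset.mem_range] at hj
      exact Finset.mem_filter.2 ⟨Finset.mem_range.2 (by omega), by omega⟩
  have hO := hW 1 one_lt_two N (Nat.le_succ N)
  have hE := hW 0 two_pos N (Nat.le_succ N)
  have hsh : ∑ j ∈ Finset.range N, (if j = 0 then (0 : ℚ) else 4 / 3 * ((t k (2 * (j - 1) + 1) : ℚ) * (1 / 3) ^ (j - 1)))
      ≤ 4 / 3 * ∑ j ∈ Finset.range N, (t k (2 * j + 1) : ℚ) * (1 / 3) ^ j := by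
    rcases N with _ | N
    · simp
    · rw [Finset.sum_range_succ', Finset.mul_sum]
      simp only [Nat.succ_ne_zero, if_false, Nat.add_sub_cancel, if_true, add_zero, reduceIte]
      exact Finset.sum_le_sum_of_subset_of_nonneg (Finset.range_mono (Nat.le_succ N)) fun _ _ _ => by positivity
  rw [S, Finset.sum_congr rfl fun j _ => term k j, Finset.sum_add_distrib, Finset.sum_add_distrib, ← Finset.mul_sum]
  norm_num at bE bO hO hE hsh ⊢
  linarith

theorem X_le {k n : ℕ} (hn : 2 ≤ n) (hk : k = 2 * n) : 50 * X k n ≤ 4530 * 3 ^ n := by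
  by_cases h : n ≤ 10
  · refine le_trans (Nat.mul_le_mul_left _ (Finset.sum_le_sum fun i _ => Nat.mul_le_mul_left _ (A_mono ?_ _))) (small n h)
    omega
  · have h20 : 20 ≤ k := by omega
    have h1 : (20322 : ℚ) / 1000 ≤ S k 11 := by
      have hp : (20322 : ℚ) * 3 ^ 10 ≤ 1000 * ∑ j ∈ Finset.range 11, (3 : ℚ) ^ (10 - j) * A k j := by
        refine le_trans (b := (1000 : ℚ) * ∑ j ∈ Finset.range 11, (3 : ℚ) ^ (10 - j) * A 20 j) (by exact_mod_cast prefix_ge) ?_
        exact mul_le_mul_of_nonneg_left (Finset.sum_le_sum fun j _ =>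
          mul_le_mul_of_nonneg_left (Nat.cast_le.2 (A_mono h20 j)) (by positivity)) (by norm_num)
      have e : S k 11 * 3 ^ 10 = ∑ j ∈ Finset.range 11, (3 : ℚ) ^ (10 - j) * A k j := by
        rw [S, Finset.sum_mul]
        refine Finset.sum_congr rfl fun j hj => ?_
        rw [Finset.mem_range] at hj
        rw [← Nat.sub_add_cancel (show j ≤ 10 by omega), pow_add, Nat.add_sub_cancel]
        field_simp
      have hpos : (0 : ℚ) < 3 ^ 10 := by positivity
      nlinarith
    have h2 : S k 11 + (A k n : ℚ) / 3 ^ n ≤ S k (n + 1) := by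
      rw [S, S, Finset.sum_range_succ (fun j => (A k j : ℚ) / 3 ^ j) n]
      gcongr ?_ + _
      exact Finset.sum_le_sum_of_subset_of_nonneg (Finset.range_mono (by omega)) fun _ _ _ => by positivity
    have h3 := S_le k (n + 1)
    have e : ((∑ i ∈ Finset.range (n + 1), 3 ^ i * A k (n - i) : ℕ) : ℚ) = S k (n + 1) * 3 ^ n := by
      rw [← Finset.sum_range_reflect, S, Finset.sum_mul]
      push_cast
      refine Finset.sum_congr rfl fun j hj => ?_
      rw [Finset.mem_range] at hj
      rw [show n - (n - j) = j by omega]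
      conv_rhs => rw [← Nat.sub_add_cancel (show j ≤ n by omega), pow_add]
      field_simp
    have hx : (X k n : ℚ) ≤ 4 * (S k (n + 1) * 3 ^ n) + 5 * A k n := by
      rw [← e]
      exact_mod_cast X_eq k n
    have hA : (A k n : ℚ) / 3 ^ n * 3 ^ n = A k n := div_mul_cancel₀ _ (by positivity)
    have hp : (0 : ℚ) ≤ 3 ^ n := by positivity
    have : ((50 * X k n : ℕ) : ℚ) ≤ 4530 * (3 : ℚ) ^ n := by
      push_cast
      nlinarith
    exact_mod_cast this

end Cfsg.Agent.FormCountThree53
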