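import Mathlib
import Cfsg.Agent.Lib.GLClassBound53

/-!
Invariants of the module of a matrix: multiplicities from kernel sizes, and determinants of
module endomorphisms.
-/

set_option autoImplicit false

open Polynomial
open Cfsg.Agent.GLClassBound53

namespace Cfsg.Agent.GLInvariants53

universe u

variable {F : Type u} [Field F]

/-- `det` of the action of `r` on `F[X]/(f)` -/
noncomputable def nrm (f : F[X]) : F[X] →* F where
  toFun r := LinearMap.det ((LinearMap.lsmul F[X] (Q f) r).restrictScalars F)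
  map_one' := by
    rw [show (LinearMap.lsmul F[X] (Q f) 1).restrictScalars F = 1 from LinearMap.ext fun x => by simp, map_one]
  map_mul' r s := by
    rw [← map_mul]
    exact congrArg LinearMap.det (LinearMap.ext fun x => by simp [mul_smul, smul_comm r s x])

theorem aeval_leftMul {f : F[X]} (hf : f ≠ 0) (r : F[X]) :
    aeval (Algebra.leftMulMatrix (AdjoinRoot.powerBasis hf).basis (AdjoinRoot.powerBasis hf).gen) r =
      Algebra.leftMulMatrix (AdjoinRoot.powerBasis hf).basis (AdjoinRoot.mk f r) := by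
  rw [aeval_algHom_apply, AdjoinRoot.powerBasis_gen, AdjoinRoot.aeval_eq]

theorem nrm_eq_norm {f : F[X]} (hf : f ≠ 0) (r : F[X]) :
    nrm f r = Algebra.norm F (AdjoinRoot.mk f r) := by
  rw [Algebra.norm_apply]
  show LinearMap.det _ = _
  refine congrArg LinearMap.det ?_
  refine LinearMap.ext fun x => ?_
  obtain ⟨y, rfl⟩ := Submodule.Quotient.mk_surjective _ x
  rfl

theorem nrm_eq_det {f : F[X]} (hf : f ≠ 0) (r : F[X]) :
    nrm f r =
      (aeval (Algebra.leftMulMatrix (AdjoinRoot.powerBasis hf).basis (AdjoinRoot.powerBasis hf).gen) r).det := by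
  rw [aeval_leftMul hf r, ← Algebra.norm_eq_matrix_det, nrm_eq_norm hf]

/-- the companion charpoly determines the norm: powers -/
theorem nrm_pow {p : F[X]} (hp : p.Monic) (e : ℕ) (r : F[X]) : nrm (p ^ e) r = nrm p r ^ e := by
  classical
  have hp0 := hp.ne_zero
  let K := AlgebraicClosure F
  let i : F →+* K := algebraMap F K
  have key : ∀ (f : F[X]) (hf : f.Monic), ∀ s : K[X], s ≠ 0 →
      (aeval ((Algebra.leftMulMatrix (AdjoinRoot.powerBasis hf.ne_zero).basis
          (AdjoinRoot.powerBasis hf.ne_zero).gen).map i) s).det =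
        s.leadingCoeff ^ f.natDegree * (s.roots.map fun a => (-1) ^ f.natDegree * (f.map i).eval a).prod := by
    intro f hf s hs
    set A := (Algebra.leftMulMatrix (AdjoinRoot.powerBasis hf.ne_zero).basis
          (AdjoinRoot.powerBasis hf.ne_zero).gen).map i with hA
    have hdim : Fintype.card (Fin (AdjoinRoot.powerBasis hf.ne_zero).dim) = f.natDegree := by simp
    have hcp : A.charpoly = f.map i := by
      rw [hA, Matrix.charpoly_map, charpoly_leftMulMatrix, AdjoinRoot.powerBasis_gen,
        AdjoinRoot.minpoly_root hf.ne_zero, hf.leadingCoeff, inv_one, C_1, mul_one]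
    conv_lhs => rw [(IsAlgClosed.splits s).eq_prod_roots]
    rw [map_mul, Matrix.det_mul, aeval_C, Algebra.algebraMap_eq_smul_one, Matrix.det_smul, Matrix.det_one, mul_one,
      hdim]
    congr 1
    let φ : K[X] →* K := (Matrix.detMonoidHom).comp (aeval A).toRingHom.toMonoidHom
    show φ _ = _
    rw [map_multiset_prod, Multiset.map_map]
    refine congrArg Multiset.prod (Multiset.map_congr rfl fun a _ => ?_)
    show (aeval A (X - C a)).det = _
    rw [map_sub, aeval_X, aeval_C, ← hcp, Matrix.eval_charpoly, ← hdim, ← Matrix.det_neg, neg_sub,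
      Matrix.scalar_apply, Algebra.algebraMap_eq_smul_one, Matrix.smul_one_eq_diagonal]
  apply (algebraMap F K).injective
  by_cases hr : r = 0
  · subst hr
    rcases Nat.eq_zero_or_pos e with rfl | he
    · rw [pow_zero, nrm_eq_det one_ne_zero]
      haveI : IsEmpty (Fin (AdjoinRoot.powerBasis (one_ne_zero (α := F[X]))).dim) := by simp; infer_instance
      simp
    · rcases Nat.eq_zero_or_pos p.natDegree with hd | hd
      · obtain rfl := hp.natDegree_eq_zero.1 hd
        simp only [one_pow]
        rw [nrm_eq_det one_ne_zero]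
        haveI : IsEmpty (Fin (AdjoinRoot.powerBasis (one_ne_zero (α := F[X]))).dim) := by simp; infer_instance
        simp
      · rw [nrm_eq_det hp0, nrm_eq_det (pow_ne_zero e hp0), map_zero, map_zero]
        haveI : Nonempty (Fin (AdjoinRoot.powerBasis (pow_ne_zero e hp0)).dim) :=
          ⟨⟨0, by simpa [natDegree_pow] using Nat.mul_pos he hd⟩⟩
        haveI : Nonempty (Fin (AdjoinRoot.powerBasis hp0).dim) := ⟨⟨0, by simpa using hd⟩⟩
        rw [Matrix.det_zero, Matrix.det_zero, map_pow, map_zero, zero_pow he.ne']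
  have hr' : r.map i ≠ 0 := (Polynomial.map_ne_zero_iff i.injective).2 hr
  have conv : ∀ (f : F[X]) (hf : f.Monic), i (nrm f r) =
      (aeval ((Algebra.leftMulMatrix (AdjoinRoot.powerBasis hf.ne_zero).basis
          (AdjoinRoot.powerBasis hf.ne_zero).gen).map i) (r.map i)).det := by
    intro f hf
    rw [nrm_eq_det hf.ne_zero, RingHom.map_det, RingHom.mapMatrix_apply, aeval_map_algebraMap]
    exact congrArg Matrix.det (aeval_algHom_apply (Algebra.ofId F K).mapMatrix _ r).symm
  rw [conv (p ^ e) (hp.pow e), key _ (hp.pow e) _ hr', map_pow, conv p hp, key _ hp _ hr', mul_pow,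
    ← Multiset.prod_map_pow, natDegree_pow, mul_comm e, ← pow_mul]
  congr 1
  refine congrArg Multiset.prod (Multiset.map_congr rfl fun a _ => ?_)
  rw [Polynomial.map_pow, eval_pow, mul_pow, ← pow_mul]

theorem nrm_X {p : F[X]} (hp : p.Monic) : nrm p X = (-1) ^ p.natDegree * p.coeff 0 := by
  rw [nrm_eq_det hp.ne_zero, aeval_X, Matrix.det_eq_sign_charpoly_coeff, charpoly_leftMulMatrix,
    AdjoinRoot.powerBasis_gen, AdjoinRoot.minpoly_root hp.ne_zero, hp.leadingCoeff, inv_one, C_1, mul_one]
  simp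

theorem nrm_C {p : F[X]} (hp : p.Monic) (a : F) : nrm p (C a) = a ^ p.natDegree := by
  rw [nrm_eq_det hp.ne_zero, aeval_C, Algebra.algebraMap_eq_smul_one, Matrix.det_smul, Matrix.det_one, mul_one]
  simp

theorem exists_nrm_eq [Finite F] {p : F[X]} (hirr : Irreducible p) (a : F) : ∃ r, nrm p r = a := by
  haveI := Fact.mk hirr
  haveI : Module.Finite F (AdjoinRoot p) := (AdjoinRoot.powerBasis hirr.ne_zero).finite
  haveI : Finite (AdjoinRoot p) := Module.finite_of_finite F
  obtain ⟨x, hx⟩ := FiniteField.norm_surjective F (AdjoinRoot p) a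
  obtain ⟨r, rfl⟩ := AdjoinRoot.mk_surjective x
  exact ⟨r, (nrm_eq_norm hirr.ne_zero r).trans hx⟩

section pi

variable {ι : Type u} [Fintype ι] (f : ι → F[X])

/-- componentwise action on a product of cyclic modules -/
noncomputable def act : (ι → F[X]) →* Module.End F ((i : ι) → Q (f i)) where
  toFun r := LinearMap.restrictScalars F (LinearMap.pi fun i => r i • LinearMap.proj i :
    ((i : ι) → Q (f i)) →ₗ[F[X]] ((i : ι) → Q (f i)))
  map_one' := LinearMap.ext fun x => funext fun i => by simp
  map_mul' r s := LinearMap.ext fun x => funext fun i => by simp [mul_smul]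

theorem act_apply (r : ι → F[X]) (x : (i : ι) → Q (f i)) (i : ι) : act f r x i = r i • x i := by simp [act]

theorem det_act_mulSingle [DecidableEq ι] (hf : ∀ i, f i ≠ 0) (i : ι) (s : F[X]) :
    LinearMap.det (act f (Pi.mulSingle i s)) = nrm (f i) s := by
  haveI : ∀ j, Module.Finite F (Q (f j)) := fun j =>
    Module.Finite.of_basis (AdjoinRoot.powerBasis (hf j)).basis
  let e : ((j : ι) → Q (f j)) ≃ₗ[F] Q (f i) × ((j : {j // j ≠ i}) → Q (f j)) :=
    { Equiv.piSplitAt i (fun j => Q (f j)) with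
      map_add' := fun x y => rfl
      map_smul' := fun c x => rfl }
  have hsym : ∀ y, e (e.symm y) = y := e.apply_symm_apply
  have h : e.toLinearMap ∘ₗ act f (Pi.mulSingle i s) ∘ₗ e.symm.toLinearMap =
      LinearMap.prodMap ((LinearMap.lsmul F[X] (Q (f i)) s).restrictScalars F) 1 := by
    refine LinearMap.ext fun y => ?_
    refine Prod.ext ?_ (funext fun j => ?_)
    · show (Pi.mulSingle i s : ι → F[X]) i • (e.symm y) i = s • y.1
      rw [Pi.mulSingle_eq_same, show (e.symm y) i = y.1 from congrArg Prod.fst (hsym y)]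
    · show (Pi.mulSingle i s : ι → F[X]) j.1 • (e.symm y) j.1 = y.2 j
      rw [Pi.mulSingle_eq_of_ne j.2, one_smul]
      exact congrFun (congrArg Prod.snd (hsym y)) j
  rw [← LinearMap.det_conj (act f (Pi.mulSingle i s)) e, h, LinearMap.det_prodMap, map_one, mul_one]
  rfl

theorem det_act (hf : ∀ i, f i ≠ 0) (r : ι → F[X]) :
    LinearMap.det (act f r) = ∏ i, nrm (f i) (r i) := by
  classical
  conv_lhs => rw [← Finset.univ_prod_mulSingle r]
  let φ : (ι → F[X]) →* F := (LinearMap.det).comp (act f)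
  show φ _ = _
  rw [map_prod]
  exact Finset.prod_congr rfl fun i _ => det_act_mulSingle f hf i (r i)

end pi

/-- a decomposition of the module of `g` -/
structure Dec {n : ℕ} (g : GL (Fin n) F) where
  ι : Type u
  fin : Fintype ι
  p : ι → F[X]
  e : ι → ℕ
  lev : ι → Fin n
  irr : ∀ i, Irreducible (p i)
  good : ∀ i, Good (p i)
  hlev : ∀ i, (lev i : ℕ) + 1 = e i
  hsum : ∑ i, e i * (p i).natDegree = n
  iso : Md (g : Matrix (Fin n) (Fin n) F) ≃ₗ[F[X]] ((i : ι) → Q (p i ^ e i))

attribute [instance] Dec.fin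

variable {n : ℕ}

theorem nonempty_dec (hn : 1 ≤ n) (g : GL (Fin n) F) : Nonempty (Dec g) := by
  obtain ⟨ι, hι, p, e, lev, h, hsum, ⟨E⟩⟩ := exists_decomp hn g
  exact ⟨⟨ι, hι, p, e, lev, fun i => (h i).1, fun i => (h i).2.1, fun i => (h i).2.2, hsum, E⟩⟩

theorem Dec.pow_ne_zero {g : GL (Fin n) F} (d : Dec g) (i : d.ι) : d.p i ^ d.e i ≠ 0 :=
  _root_.pow_ne_zero _ (d.irr i).ne_zero

/-- transported action: a matrix commuting with `g` -/
theorem Dec.exists_centralizing {g : GL (Fin n) F} (d : Dec g) (r : d.ι → F[X]) :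
    ∃ c : Matrix (Fin n) (Fin n) F, c * (g : Matrix (Fin n) (Fin n) F) = (g : Matrix (Fin n) (Fin n) F) * c ∧
      c.det = ∏ i, nrm (d.p i) (r i) ^ d.e i := by
  classical
  let T := Matrix.toLin' (g : Matrix (Fin n) (Fin n) F)
  let e : (Fin n → F) ≃ₗ[F] ((i : d.ι) → Q (d.p i ^ d.e i)) :=
    (Module.AEval'.of T).trans (d.iso.restrictScalars F)
  let φ : (Fin n → F) →ₗ[F] (Fin n → F) :=
    e.symm.toLinearMap ∘ₗ act (fun i => d.p i ^ d.e i) r ∘ₗ e.toLinearMap
  refine ⟨LinearMap.toMatrix' φ, ?_, ?_⟩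
  · have hT : ∀ v, e (T v) = (X : F[X]) • e v := by
      intro v
      simp only [e, LinearEquiv.trans_apply, LinearEquiv.restrictScalars_apply]
      rw [← Module.AEval'.X_smul_of, map_smul]
    have hc : φ ∘ₗ T = T ∘ₗ φ := by
      refine LinearMap.ext fun v => e.injective ?_
      simp only [φ, LinearMap.comp_apply, LinearEquiv.coe_coe, LinearEquiv.apply_symm_apply, hT]
      funext i
      simp only [act_apply, Pi.smul_apply, smul_smul, mul_comm (X : F[X])]
    have hm := congrArg LinearMap.toMatrix' hc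
    rwa [LinearMap.toMatrix'_comp, LinearMap.toMatrix'_comp, LinearMap.toMatrix'_toLin'] at hm
  · rw [LinearMap.det_toMatrix']
    show LinearMap.det (e.symm.toLinearMap ∘ₗ _ ∘ₗ e.toLinearMap) = _
    have := LinearMap.det_conj (act (fun i => d.p i ^ d.e i) r) e.symm
    rw [LinearEquiv.symm_symm] at this
    rw [this, det_act _ d.pow_ne_zero]
    exact Finset.prod_congr rfl fun i _ => nrm_pow (d.good i).1 _ _

theorem Dec.det_eq {g : GL (Fin n) F} (d : Dec g) :
    (g : Matrix (Fin n) (Fin n) F).det = ∏ i, ((-1) ^ (d.p i).natDegree * (d.p i).coeff 0) ^ d.e i := by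
  classical
  let T := Matrix.toLin' (g : Matrix (Fin n) (Fin n) F)
  let e : (Fin n → F) ≃ₗ[F] ((i : d.ι) → Q (d.p i ^ d.e i)) :=
    (Module.AEval'.of T).trans (d.iso.restrictScalars F)
  have h : e.toLinearMap ∘ₗ T ∘ₗ e.symm.toLinearMap =
      act (fun i => d.p i ^ d.e i) (fun _ => X) := by
    refine LinearMap.ext fun y => ?_
    simp only [e, LinearMap.comp_apply, LinearEquiv.coe_coe, LinearEquiv.trans_apply,
      LinearEquiv.restrictScalars_apply]
    rw [← Module.AEval'.X_smul_of, map_smul]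
    funext i
    simp [act_apply, e]
  rw [← LinearMap.det_toLin', ← LinearMap.det_conj T e, h, det_act _ d.pow_ne_zero]
  exact Finset.prod_congr rfl fun i _ => by rw [nrm_pow (d.good i).1, nrm_X (d.good i).1]

/-- the polynomials of exponent `j + 1` -/
noncomputable def Dec.M {g : GL (Fin n) F} (d : Dec g) (j : Fin n) : Multiset F[X] := by
  classical exact (Finset.univ.filter fun i => d.lev i = j).val.map d.p

theorem Dec.mem_M {g : GL (Fin n) F} (d : Dec g) {j : Fin n} {f : F[X]} (hf : f ∈ d.M j) :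
    Irreducible f ∧ Good f := by
  classical
  obtain ⟨i, -, rfl⟩ := Multiset.mem_map.1 hf
  exact ⟨d.irr i, d.good i⟩

theorem Dec.isConj {g h : GL (Fin n) F} (d : Dec g) (d' : Dec h) (hM : ∀ j, d.M j = d'.M j) : IsConj g h := by
  classical
  have hfib : ∀ c : F[X] × Fin n,
      Nat.card {i // (d.p i, d.lev i) = c} = Nat.card {i // (d'.p i, d'.lev i) = c} := by
    intro c
    have key : ∀ {g : GL (Fin n) F} (d : Dec g),
        Nat.card {i // (d.p i, d.lev i) = c} = (d.M c.2).count c.1 := by
      intro g d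
      rw [Nat.card_eq_fintype_card, Fintype.card_subtype, Dec.M, Multiset.count_map, ← Finset.filter_val,
        Finset.filter_filter, Finset.card_val]
      congr 1
      ext i
      simp [Prod.ext_iff, and_comm, eq_comm]
    rw [key, key, hM]
  let σ : d.ι ≃ d'.ι := Equiv.ofFiberEquiv (f := fun i => (d.p i, d.lev i)) (g := fun i => (d'.p i, d'.lev i))
    fun c => Fintype.equivOfCardEq (by rw [← Nat.card_eq_fintype_card, ← Nat.card_eq_fintype_card]; exact hfib c)
  have hσ : ∀ i, d'.p (σ i) = d.p i ∧ d'.lev (σ i) = d.lev i := fun i =>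
    Prod.ext_iff.1 (Equiv.ofFiberEquiv_map (f := fun i => (d.p i, d.lev i)) (g := fun i => (d'.p i, d'.lev i)) _ i)
  have hq : ∀ i, (F[X] ∙ d.p i ^ d.e i) = (F[X] ∙ d'.p (σ i) ^ d'.e (σ i)) := by
    intro i
    rw [← d.hlev, ← d'.hlev, (hσ i).1, (hσ i).2]
  exact isConj_of_iso g h (((d.iso.trans (LinearEquiv.piCongrRight fun i => Submodule.quotEquivOfEq _ _ (hq i))).trans
      (LinearEquiv.piCongrLeft F[X] (fun j => Q (d'.p j ^ d'.e j)) σ)).trans d'.iso.symm)

/-- the number of vectors killed by `P(g)^k` -/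
noncomputable def kerCard (g : GL (Fin n) F) (P : F[X]) (k : ℕ) : ℕ :=
  Nat.card {v : Fin n → F // aeval (Matrix.toLin' (g : Matrix (Fin n) (Fin n) F)) (P ^ k) v = 0}

open scoped Classical in
theorem card_killed [Fintype F] {p P : F[X]} (hp : Irreducible p) (hpm : p.Monic) (hP : Irreducible P) (hPm : P.Monic)
    (e k : ℕ) : Nat.card {x : Q (p ^ e) // P ^ k • x = 0} =
      Fintype.card F ^ (P.natDegree * (if p = P then min k e else 0)) := by
  classical
  have hkill : ∀ x : Q (p ^ e), p ^ e • x = 0 := by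
    intro x
    obtain ⟨y, rfl⟩ := Submodule.Quotient.mk_surjective _ x
    rw [← Submodule.Quotient.mk_smul, Submodule.Quotient.mk_eq_zero, Submodule.mem_span_singleton]
    exact ⟨y, by rw [smul_eq_mul, smul_eq_mul, mul_comm]⟩
  by_cases hpP : p = P
  · subst hpP
    rw [if_pos rfl]
    obtain ⟨d, hd⟩ : ∃ d, e = min k e + d := ⟨e - min k e, by omega⟩
    set j := min k e with hj
    have hmem : ∀ x, p ^ k • (x : Q (p ^ e)) = 0 ↔ p ^ j • x = 0 := by
      intro x
      by_cases hke : k ≤ e
      · rw [hj, min_eq_left hke]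
      · rw [hj, min_eq_right (by omega)]
        refine iff_of_true ?_ (hkill x)
        rw [← Nat.sub_add_cancel (by omega : e ≤ k), pow_add, mul_smul, hkill, smul_zero]
    rw [Nat.card_congr (Equiv.subtypeEquivRight hmem)]
    let φ : Q (p ^ j) →ₗ[F[X]] Q (p ^ e) := Submodule.mapQ _ _ (LinearMap.lsmul F[X] F[X] (p ^ d)) (by
      rw [Submodule.span_singleton_le_iff_mem, Submodule.mem_comap, LinearMap.lsmul_apply, Submodule.mem_span_singleton]
      exact ⟨1, by rw [one_smul, smul_eq_mul, ← pow_add, add_comm, ← hd]⟩)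
    have hφ : ∀ y, φ (Submodule.Quotient.mk y) = Submodule.Quotient.mk (p ^ d * y) := fun y => rfl
    have hinj : Function.Injective φ := by
      rw [← LinearMap.ker_eq_bot, Submodule.eq_bot_iff]
      intro x hx
      obtain ⟨y, rfl⟩ := Submodule.Quotient.mk_surjective _ x
      rw [LinearMap.mem_ker, hφ, Submodule.Quotient.mk_eq_zero, Submodule.mem_span_singleton] at hx
      obtain ⟨c, hc⟩ := hx
      rw [Submodule.Quotient.mk_eq_zero, Submodule.mem_span_singleton]
      refine ⟨c, mul_left_cancel₀ (_root_.pow_ne_zero d hp.ne_zero) ?_⟩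
      rw [← hc, smul_eq_mul, smul_eq_mul, hd, pow_add]
      ring
    have hrange : ∀ x, p ^ j • (x : Q (p ^ e)) = 0 ↔ x ∈ Set.range φ := by
      intro x
      obtain ⟨y, rfl⟩ := Submodule.Quotient.mk_surjective _ x
      constructor
      · intro h
        rw [← Submodule.Quotient.mk_smul, Submodule.Quotient.mk_eq_zero, Submodule.mem_span_singleton] at h
        obtain ⟨c, hc⟩ := h
        refine ⟨Submodule.Quotient.mk c, ?_⟩
        rw [hφ]
        congr 1
        refine mul_left_cancel₀ (_root_.pow_ne_zero j hp.ne_zero) ?_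
        rw [smul_eq_mul, smul_eq_mul, hd, pow_add] at hc
        rw [← hc]
        ring
      · rintro ⟨z, hz⟩
        rw [← hz, ← map_smul]
        obtain ⟨w, rfl⟩ := Submodule.Quotient.mk_surjective _ z
        rw [← Submodule.Quotient.mk_smul, hφ, Submodule.Quotient.mk_eq_zero, Submodule.mem_span_singleton]
        exact ⟨w, by rw [smul_eq_mul, smul_eq_mul, hd, pow_add]; ring⟩
    rw [Nat.card_congr (Equiv.subtypeEquivRight hrange), ← Nat.card_congr (Equiv.ofInjective φ hinj)]
    haveI : Module.Finite F (Q (p ^ j)) := Module.Finite.of_basis (AdjoinRoot.powerBasis (_root_.pow_ne_zero j hp.ne_zero)).basis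
    rw [Module.natCard_eq_pow_finrank (K := F), finrank_Q (_root_.pow_ne_zero j hp.ne_zero), natDegree_pow, mul_comm,
      Nat.card_eq_fintype_card]
  · rw [if_neg hpP, mul_zero, pow_zero]
    have hco : IsCoprime (P ^ k) (p ^ e) := by
      refine IsCoprime.pow ((hP.coprime_iff_not_dvd).2 fun h => hpP ?_)
      exact (eq_of_monic_of_associated hPm hpm (hP.associated_of_dvd hp h)).symm
    obtain ⟨a, b, hab⟩ := hco
    haveI : Unique {x : Q (p ^ e) // P ^ k • x = 0} :=
      { default := ⟨0, smul_zero _⟩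
        uniq := fun x => Subtype.ext (by
          have h1 : (a * P ^ k + b * p ^ e) • (x : Q (p ^ e)) = 0 := by
            rw [add_smul, mul_smul, mul_smul, x.2, hkill, smul_zero, smul_zero, add_zero]
          rwa [hab, one_smul] at h1) }
    exact Nat.card_unique

open scoped Classical in
theorem Dec.kerCard_eq [Fintype F] {g : GL (Fin n) F} (d : Dec g) {P : F[X]} (hP : Irreducible P) (hPm : P.Monic)
    (k : ℕ) : kerCard g P k =
      Fintype.card F ^ (P.natDegree * ∑ i, if d.p i = P then min k (d.e i) else 0) := by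
  classical
  let T := Matrix.toLin' (g : Matrix (Fin n) (Fin n) F)
  let E : (Fin n → F) ≃ ((i : d.ι) → Q (d.p i ^ d.e i)) :=
    (Module.AEval'.of T).toEquiv.trans d.iso.toEquiv
  have h : ∀ v, aeval T (P ^ k) v = 0 ↔ ∀ i, P ^ k • E v i = 0 := by
    intro v
    rw [show (∀ i, P ^ k • E v i = 0) ↔ P ^ k • E v = 0 from funext_iff.symm]
    show _ ↔ P ^ k • d.iso (Module.AEval'.of T v) = 0
    rw [← map_smul, LinearEquiv.map_eq_zero_iff, ← Module.AEval.of_aeval_smul, LinearEquiv.map_eq_zero_iff]
    rfl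
  unfold kerCard
  rw [Nat.card_congr ((E.subtypeEquiv (q := fun x => ∀ i, P ^ k • x i = 0) h).trans
      (Equiv.subtypePiEquivPi (p := fun i (x : Q (d.p i ^ d.e i)) => P ^ k • x = 0))), Nat.card_pi, Finset.mul_sum, ← Finset.prod_pow_eq_pow_sum]
  exact Finset.prod_congr rfl fun i _ => card_killed (d.irr i) (d.good i).1 hP hPm _ _

theorem Dec.count_eq [Fintype F] [DecidableEq F[X]] {g : GL (Fin n) F} (d : Dec g) {g' : GL (Fin n) F} (d' : Dec g')
    {P P' : F[X]} (hP : Irreducible P) (hPm : P.Monic) (hP' : Irreducible P') (hPm' : P'.Monic)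
    (hdeg : P.natDegree = P'.natDegree) (hker : ∀ k, kerCard g P k = kerCard g' P' k) (j : Fin n) :
    (d.M j).count P = (d'.M j).count P' := by
  classical
  have hq : 2 ≤ Fintype.card F := Fintype.one_lt_card
  have hS : ∀ k, (∑ i, if d.p i = P then min k (d.e i) else 0) = ∑ i, if d'.p i = P' then min k (d'.e i) else 0 := by
    intro k
    have := hker k
    rw [d.kerCard_eq hP hPm, d'.kerCard_eq hP' hPm', hdeg] at this
    convert Nat.eq_of_mul_eq_mul_left hP'.natDegree_pos (Nat.pow_right_injective hq this) using 3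
  have step : ∀ {g : GL (Fin n) F} (d : Dec g) (P : F[X]),
      (d.M j).count P + ((∑ i, if d.p i = P then min ((j : ℕ) + 2) (d.e i) else 0) +
        ∑ i, if d.p i = P then min (j : ℕ) (d.e i) else 0) =
      2 * ∑ i, if d.p i = P then min ((j : ℕ) + 1) (d.e i) else 0 := by
    intro g d P
    have hc : (d.M j).count P = ∑ i, if d.lev i = j ∧ P = d.p i then 1 else 0 := by
      rw [Dec.M, Multiset.count_map, ← Finset.filter_val, Finset.filter_filter, Finset.card_val, Finset.card_filter]
    rw [hc, Finset.mul_sum, ← Finset.sum_add_distrib, ← Finset.sum_add_distrib]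
    refine Finset.sum_congr rfl fun i _ => ?_
    have := d.hlev i
    by_cases hp : d.p i = P
    · rw [if_pos hp, if_pos hp, if_pos hp]
      by_cases hl : d.lev i = j
      · rw [if_pos ⟨hl, hp.symm⟩]
        rw [hl] at this
        omega
      · rw [if_neg (fun h => hl h.1)]
        have : (d.lev i : ℕ) ≠ (j : ℕ) := fun h => hl (Fin.ext h)
        omega
    · simp [hp, Ne.symm hp]
  have h1 := step d P
  have h2 := step d' P'
  rw [hS, hS, hS] at h1
  omega

theorem kerCard_conj (g c : GL (Fin n) F) (P : F[X]) (k : ℕ) : kerCard (c * g * c⁻¹) P k = kerCard g P k := by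
  classical
  let C' : Matrix (Fin n) (Fin n) F ≃ₐ[F] Module.End F (Fin n → F) := Matrix.toLinAlgEquiv'
  have h : ∀ (x : GL (Fin n) F), aeval (Matrix.toLin' (x : Matrix (Fin n) (Fin n) F)) (P ^ k) =
      C' (aeval (x : Matrix (Fin n) (Fin n) F) (P ^ k)) := fun x =>
    (aeval_algHom_apply C'.toAlgHom _ _)
  have hc : aeval ((c * g * c⁻¹ : GL (Fin n) F) : Matrix (Fin n) (Fin n) F) (P ^ k) =
      (c : Matrix (Fin n) (Fin n) F) * aeval (g : Matrix (Fin n) (Fin n) F) (P ^ k) * ((c⁻¹ : GL (Fin n) F) : Matrix (Fin n) (Fin n) F) := by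
    induction (P ^ k) using Polynomial.induction_on' with
    | add a b ha hb => rw [map_add, map_add, ha, hb, mul_add, add_mul]
    | monomial m a =>
      rw [aeval_monomial, aeval_monomial, ← Units.val_pow_eq_pow_val, conj_pow, Units.val_mul, Units.val_mul,
        Units.val_pow_eq_pow_val, Algebra.algebraMap_eq_smul_one, smul_one_mul, smul_one_mul, mul_smul_comm,
        smul_mul_assoc]
  have h1 : ∀ v, ((c⁻¹ : GL (Fin n) F) : Matrix (Fin n) (Fin n) F).mulVec ((c : Matrix (Fin n) (Fin n) F).mulVec v) = v := by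
    intro v
    rw [Matrix.mulVec_mulVec, ← Units.val_mul, inv_mul_cancel, Units.val_one, Matrix.one_mulVec]
  have h2 : ∀ v, (c : Matrix (Fin n) (Fin n) F).mulVec (((c⁻¹ : GL (Fin n) F) : Matrix (Fin n) (Fin n) F).mulVec v) = v := by
    intro v
    rw [Matrix.mulVec_mulVec, ← Units.val_mul, mul_inv_cancel, Units.val_one, Matrix.one_mulVec]
  let e : (Fin n → F) ≃ (Fin n → F) :=
    ⟨fun v => ((c⁻¹ : GL (Fin n) F) : Matrix (Fin n) (Fin n) F).mulVec v,
      fun v => (c : Matrix (Fin n) (Fin n) F).mulVec v, h2, h1⟩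
  refine Nat.card_congr (e.subtypeEquiv fun v => ?_)
  rw [h, h, hc]
  simp only [C', Matrix.toLinAlgEquiv'_apply, ← Matrix.mulVec_mulVec, e, Equiv.coe_fn_mk]
  constructor
  · intro hv
    have := congrArg (fun w => ((c⁻¹ : GL (Fin n) F) : Matrix (Fin n) (Fin n) F).mulVec w) hv
    simpa only [h1, Matrix.mulVec_zero] using this
  · intro hv
    rw [hv, Matrix.mulVec_zero]

end Cfsg.Agent.GLInvariants53
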