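import Mathlib
import Cfsg.Agent.Lib.GLInvariants53
import Cfsg.Agent.Lib.SLClassCount53

/-!
Conjugacy classes of `SL(n,q)` through tuples.
-/

set_option autoImplicit false

open Polynomial
open Cfsg.Agent.GLClassBound53 Cfsg.Agent.GLInvariants53 Cfsg.Agent.SLClassCount53

namespace Cfsg.Agent.SLClasses53

universe u

variable {F : Type u} [Field F] {n : ℕ} [NeZero n]

local notation "SLn" => Matrix.SpecialLinearGroup (Fin n) F

noncomputable def dec (g : GL (Fin n) F) : Dec g := (nonempty_dec (NeZero.one_le) g).some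

noncomputable def tup (g : GL (Fin n) F) (j : Fin n) : F[X] := ((dec g).M j).prod

theorem good_prod {g : GL (Fin n) F} (j : Fin n) : Good (tup g j) := by
  refine ⟨by simpa using! monic_multiset_prod_of_monic ((dec g).M j) id (fun f hf => ((dec g).mem_M hf).2.1), ?_⟩
  rw [tup, coeff_zero_multiset_prod]
  simp only [ne_eq, Multiset.prod_eq_zero_iff, Multiset.mem_map, not_exists, not_and]
  exact fun f hf => ((dec g).mem_M hf).2.2

theorem weight_tup (g : GL (Fin n) F) : ∑ j : Fin n, ((j : ℕ) + 1) * (tup g j).natDegree = n := by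
  classical
  refine Eq.trans ?_ (dec g).hsum
  rw [← Finset.sum_fiberwise Finset.univ (dec g).lev (fun i => (dec g).e i * ((dec g).p i).natDegree)]
  refine Finset.sum_congr rfl fun j _ => ?_
  rw [tup, natDegree_multiset_prod_of_monic _ (fun f hf => ((dec g).mem_M hf).2.1), Dec.M, Multiset.map_map]
  show _ * ∑ i ∈ Finset.univ.filter (fun i => (dec g).lev i = j), ((dec g).p i).natDegree = _
  rw [Finset.mul_sum]
  refine Finset.sum_congr rfl fun i hi => ?_
  rw [← (Finset.mem_filter.1 hi).2, (dec g).hlev]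

noncomputable def tupT (g : GL (Fin n) F) : T F n n := ⟨tup g, fun j => good_prod j, weight_tup g⟩

theorem det_eq_chi (g : GL (Fin n) F) : (g : Matrix (Fin n) (Fin n) F).det = chi (tup g) := by
  classical
  rw [(dec g).det_eq, chi, ← Finset.prod_fiberwise Finset.univ (dec g).lev]
  refine Finset.prod_congr rfl fun j _ => ?_
  rw [tup, cst_multiset_prod _ (fun f hf => ((dec g).mem_M hf).2.1), Dec.M, Multiset.map_map,
    ← Multiset.prod_map_pow]
  refine Finset.prod_congr rfl fun i hi => ?_
  rw [← (dec g).hlev i, (Finset.mem_filter.1 hi).2]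
  rfl

theorem exists_lev {g : GL (Fin n) F} {j : Fin n} (h : tup g j ≠ 1) : ∃ i, (dec g).lev i = j := by
  classical
  by_contra hne
  push Not at hne
  apply h
  rw [tup, Dec.M, show (Finset.univ.filter fun i => (dec g).lev i = j) = ∅ from
    Finset.filter_eq_empty_iff.2 fun i _ => hne i]
  simp

theorem normalizedFactors_tup (g : GL (Fin n) F) [DecidableEq F] (j : Fin n) :
    UniqueFactorizationMonoid.normalizedFactors (tup g j) = (dec g).M j := by
  classical
  rw [tup, UniqueFactorizationMonoid.normalizedFactors_multiset_prod _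
    (fun h => not_irreducible_zero ((dec g).mem_M h).1)]
  rw [Multiset.map_congr rfl fun f hf => (show UniqueFactorizationMonoid.normalizedFactors f = {f} by
    rw [UniqueFactorizationMonoid.normalizedFactors_irreducible ((dec g).mem_M hf).1,
      ((dec g).mem_M hf).2.1.normalize_eq_self])]
  exact Multiset.sum_map_singleton _

theorem M_eq_of_tup {g h : GL (Fin n) F} (e : tup g = tup h) (j : Fin n) : (dec g).M j = (dec h).M j := by
  classical
  rw [← normalizedFactors_tup g j, ← normalizedFactors_tup h j, e]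

variable [Fintype F]

theorem M_eq_of_conj {g h : GL (Fin n) F} (hc : IsConj g h) (j : Fin n) : (dec g).M j = (dec h).M j := by
  classical
  obtain ⟨c, hc⟩ := isConj_iff.1 hc
  refine Multiset.ext.2 fun P => ?_
  by_cases hP : Irreducible P ∧ P.Monic
  · refine (dec g).count_eq (dec h) hP.1 hP.2 hP.1 hP.2 rfl (fun k => ?_) j
    rw [← hc, kerCard_conj]
  · rw [Multiset.count_eq_zero.2 fun hm => hP ⟨((dec g).mem_M hm).1, ((dec g).mem_M hm).2.1⟩,
      Multiset.count_eq_zero.2 fun hm => hP ⟨((dec h).mem_M hm).1, ((dec h).mem_M hm).2.1⟩]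

theorem tup_eq_of_conj {g h : GL (Fin n) F} (hc : IsConj g h) : tup g = tup h :=
  funext fun j => by rw [tup, tup, M_eq_of_conj hc j]

/-- normalised substitution `X ↦ aX` -/
noncomputable def scale (a : F) (p : F[X]) : F[X] := C (a ^ p.natDegree)⁻¹ * p.comp (C a * X)

theorem coeff_scale (a : F) (p : F[X]) (i : ℕ) : (scale a p).coeff i = (a ^ p.natDegree)⁻¹ * (a ^ i * p.coeff i) := by
  rw [scale, coeff_C_mul]
  congr 1
  rw [comp_C_mul_X_coeff, mul_comm]

theorem scale_monic {a : F} (ha : a ≠ 0) {p : F[X]} (hp : p.Monic) :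
    (scale a p).Monic ∧ (scale a p).natDegree = p.natDegree := by
  have hle : (scale a p).natDegree ≤ p.natDegree := natDegree_le_iff_coeff_eq_zero.2 fun i hi => by
    rw [coeff_scale, coeff_eq_zero_of_natDegree_lt hi, mul_zero, mul_zero]
  have h1 : (scale a p).coeff p.natDegree = 1 := by
    rw [coeff_scale, hp.coeff_natDegree, mul_one, inv_mul_cancel₀ (pow_ne_zero _ ha)]
  have heq := natDegree_eq_of_le_of_coeff_ne_zero hle (by rw [h1]; exact one_ne_zero)
  exact ⟨by rw [Monic, leadingCoeff, heq, h1], heq⟩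

theorem scale_mul {p r : F[X]} (hp : p.Monic) (hr : r.Monic) (a : F) : scale a (p * r) = scale a p * scale a r := by
  rw [scale, hp.natDegree_mul hr, pow_add, mul_inv, C_mul, mul_comp, scale, scale]
  ring

theorem scale_prod (a : F) (s : Multiset F[X]) (hs : ∀ p ∈ s, p.Monic) : scale a s.prod = (s.map (scale a)).prod := by
  induction s using Multiset.induction_on with
  | empty => simp [scale]
  | cons b t ih =>
    rw [Multiset.prod_cons, Multiset.map_cons, Multiset.prod_cons, scale_mul (hs b (Multiset.mem_cons_self b t))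
      (by simpa using! monic_multiset_prod_of_monic t id fun p hp => hs p (Multiset.mem_cons_of_mem hp)),
      ih fun p hp => hs p (Multiset.mem_cons_of_mem hp)]

theorem scale_scale {a : F} (ha : a ≠ 0) {p : F[X]} (hp : p.Monic) : scale a⁻¹ (scale a p) = p := by
  ext i
  rw [coeff_scale, coeff_scale, (scale_monic ha hp).2, inv_pow, inv_inv, inv_pow]
  field_simp

theorem scale_irreducible {a : F} (ha : a ≠ 0) {p : F[X]} (hp : Irreducible p) : Irreducible (scale a p) := by
  haveI : Invertible a := invertibleOfNonzero ha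
  have h1 : Irreducible (algEquivCMulXAddC a 0 p) := hp.map (algEquivCMulXAddC a 0)
  simp only [algEquivCMulXAddC_apply, map_zero, add_zero] at h1
  rw [scale, irreducible_isUnit_mul (isUnit_C.2 (inv_ne_zero (pow_ne_zero _ ha)).isUnit)]
  rwa [show p.comp (C a * X) = aeval (C a * X) p by simp [comp, aeval_def]] at *

theorem kerCard_smul {a : F} (ha : a ≠ 0) (g g' : GL (Fin n) F)
    (hg : (g' : Matrix (Fin n) (Fin n) F) = a • (g : Matrix (Fin n) (Fin n) F)) (P : F[X]) (k : ℕ) :
    kerCard g' P k = kerCard g (scale a P) k := by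
  refine Nat.card_congr (Equiv.subtypeEquivRight fun v => ?_)
  rw [hg, show Matrix.toLin' (a • (g : Matrix (Fin n) (Fin n) F)) = aeval (Matrix.toLin' (g : Matrix (Fin n) (Fin n) F)) (C a * X) by
    rw [map_mul, aeval_C, aeval_X, map_smul, Algebra.smul_def], ← aeval_comp, scale, mul_pow, map_mul, ← C_pow, aeval_C,
    ← Algebra.smul_def, pow_comp, LinearMap.smul_apply, smul_eq_zero_iff_right (pow_ne_zero _ (inv_ne_zero (pow_ne_zero _ ha)))]

/-- a tuple of a class fixed by scaling is fixed by scaling -/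
theorem scale_tup {a : F} (ha : a ≠ 0) (g g' : GL (Fin n) F)
    (hg : (g' : Matrix (Fin n) (Fin n) F) = a • (g : Matrix (Fin n) (Fin n) F)) (hc : IsConj g g') (j : Fin n) :
    scale a (tup g j) = tup g j := by
  classical
  obtain ⟨c, hc⟩ := isConj_iff.1 hc
  have hker : ∀ P k, kerCard g P k = kerCard g (scale a P) k := fun P k => by
    rw [← kerCard_smul ha g g' hg, ← hc, kerCard_conj]
  rw [tup, scale_prod a _ (fun f hf => ((dec g).mem_M hf).2.1)]
  congr 1
  refine Multiset.ext.2 fun x => ?_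
  have hmem : ∀ y ∈ ((dec g).M j).map (scale a), Irreducible y ∧ y.Monic := by
    intro y hy
    obtain ⟨z, hz, rfl⟩ := Multiset.mem_map.1 hy
    exact ⟨scale_irreducible ha ((dec g).mem_M hz).1, (scale_monic ha ((dec g).mem_M hz).2.1).1⟩
  by_cases hx : Irreducible x ∧ x.Monic
  · set y := scale a⁻¹ x with hy
    have hyx : scale a y = x := by simpa using scale_scale (inv_ne_zero ha) hx.2
    have hym := scale_monic (inv_ne_zero ha) hx.2
    have h1 : (((dec g).M j).map (scale a)).count x = ((dec g).M j).count y := by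
      by_cases hm : y ∈ (dec g).M j
      · rw [← hyx]
        refine Multiset.count_map_eq_count _ _ (fun u hu v hv huv => ?_) y hm
        rw [← scale_scale ha ((dec g).mem_M hu).2.1, ← scale_scale ha ((dec g).mem_M hv).2.1, huv]
      · rw [Multiset.count_eq_zero.2 hm, Multiset.count_eq_zero]
        intro hx'
        obtain ⟨u, hu, hux⟩ := Multiset.mem_map.1 hx'
        refine hm ?_
        rw [hy, ← hux, scale_scale ha ((dec g).mem_M hu).2.1]
        exact hu
    rw [h1]
    refine (dec g).count_eq (dec g) (scale_irreducible (inv_ne_zero ha) hx.1) hym.1 hx.1 hx.2 hym.2 (fun k => ?_) j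
    rw [hker y k, hyx]
  · rw [Multiset.count_eq_zero.2 fun hm => hx (hmem x hm),
      Multiset.count_eq_zero.2 fun hm => hx ⟨((dec g).mem_M hm).1, ((dec g).mem_M hm).2.1⟩]

theorem zpow_gcd_mem {G : Type*} [Group G] (D : Subgroup G) (x : G) {a b : ℕ} (ha : x ^ a ∈ D) (hb : x ^ b ∈ D) :
    x ^ Nat.gcd a b ∈ D := by
  have h : x ^ ((Nat.gcd a b : ℕ) : ℤ) ∈ D := by
    rw [Nat.gcd_eq_gcd_ab, zpow_add, zpow_mul, zpow_mul]
    exact D.mul_mem (D.zpow_mem (by simpa using ha) _) (D.zpow_mem (by simpa using hb) _)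
  simpa using h

/-- bound on the number of `SL` classes in a `GL` class -/
noncomputable def split (h : Fin n → F[X]) : ℕ := by
  classical exact Nat.gcd (Nat.gcd n (Fintype.card F - 1)) ((Finset.univ.filter fun j : Fin n => h j ≠ 1).gcd fun j => (j : ℕ) + 1)

theorem split_pos (h : Fin n → F[X]) : 0 < split h :=
  Nat.gcd_pos_of_pos_left _ (Nat.gcd_pos_of_pos_left _ (Nat.pos_of_ne_zero (NeZero.ne n)))

theorem split_le (h : Fin n → F[X]) : split h ≤ Nat.gcd n (Fintype.card F - 1) :=
  Nat.gcd_le_left _ (Nat.gcd_pos_of_pos_left _ (Nat.pos_of_ne_zero (NeZero.ne n)))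

theorem split_le_exp {h : Fin n → F[X]} {j : Fin n} (hj : h j ≠ 1) :
    split h ≤ Nat.gcd (Nat.gcd n (Fintype.card F - 1)) ((j : ℕ) + 1) := by
  classical
  refine Nat.le_of_dvd (Nat.gcd_pos_of_pos_left _ (Nat.gcd_pos_of_pos_left _ (Nat.pos_of_ne_zero (NeZero.ne n))))
    (Nat.gcd_dvd_gcd_of_dvd_right _ (Finset.gcd_dvd (Finset.mem_filter.2 ⟨Finset.mem_univ j, hj⟩)))

theorem split_eq_one {h : Fin n → F[X]} (h0 : h 0 ≠ 1) : split h = 1 := by
  have := split_le_exp h0
  have := split_pos h
  simp at *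
  omega

/-- determinants of the centraliser -/
noncomputable def detCent (g : GL (Fin n) F) : Subgroup Fˣ :=
  (Subgroup.centralizer ({g} : Set (GL (Fin n) F))).map Matrix.GeneralLinearGroup.det

theorem index_detCent_le (g : GL (Fin n) F) : Nat.card (Fˣ ⧸ detCent g) ≤ split (tup g) := by
  classical
  obtain ⟨u, hu⟩ := IsCyclic.exists_generator (α := Fˣ)
  have hexp : ∀ j : Fin n, tup g j ≠ 1 → ∀ a : Fˣ, a ^ ((j : ℕ) + 1) ∈ detCent g := by
    intro j hj a
    obtain ⟨i, hi⟩ := exists_lev hj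
    obtain ⟨r, hr⟩ := exists_nrm_eq ((dec g).irr i) (a : F)
    obtain ⟨c, hc, hdet⟩ := (dec g).exists_centralizing (Pi.mulSingle i r)
    rw [Finset.prod_eq_single i (fun b _ hb => by rw [Pi.mulSingle_eq_of_ne hb, map_one, one_pow])
      (fun h => absurd (Finset.mem_univ i) h), Pi.mulSingle_eq_same, hr, ← (dec g).hlev i, hi] at hdet
    refine Subgroup.mem_map.2 ⟨Matrix.GeneralLinearGroup.mkOfDetNeZero c (by rw [hdet]; exact pow_ne_zero _ a.ne_zero),
      Subgroup.mem_centralizer_singleton_iff.2 (Units.ext hc), Units.ext ?_⟩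
    rw [Units.val_pow_eq_pow_val]
    exact hdet
  have hn : ∀ a : Fˣ, a ^ n ∈ detCent g := by
    intro a
    have hd : ((a : F) • (1 : Matrix (Fin n) (Fin n) F)).det = (a : F) ^ n := by simp
    refine Subgroup.mem_map.2 ⟨Matrix.GeneralLinearGroup.mkOfDetNeZero ((a : F) • 1) (by rw [hd]; exact pow_ne_zero _ a.ne_zero),
      Subgroup.mem_centralizer_singleton_iff.2 (Units.ext ?_), Units.ext ?_⟩
    · show ((a : F) • (1 : Matrix (Fin n) (Fin n) F)) * _ = _ * ((a : F) • (1 : Matrix (Fin n) (Fin n) F))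
      rw [smul_one_mul, mul_smul_one]
    · rw [Units.val_pow_eq_pow_val]
      exact hd
  have hG : u ^ split (tup g) ∈ detCent g := by
    refine zpow_gcd_mem _ u (zpow_gcd_mem _ u (hn u) ?_) ?_
    · rw [← Fintype.card_units, pow_card_eq_one]
      exact one_mem _
    · have key : ∀ s : Finset (Fin n), (∀ j ∈ s, tup g j ≠ 1) → u ^ (s.gcd fun j => (j : ℕ) + 1) ∈ detCent g := by
        intro s
        induction s using Finset.induction_on with
        | empty => intro _; simp
        | insert j s _ ih =>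
          intro hs
          rw [Finset.gcd_insert]
          exact zpow_gcd_mem _ u (hexp j (hs j (Finset.mem_insert_self j s)) u)
            (ih fun i hi => hs i (Finset.mem_insert_of_mem hi))
      exact key _ fun j hj => (Finset.mem_filter.1 hj).2
  have hgen : ∀ x : Fˣ ⧸ detCent g, x ∈ Subgroup.zpowers ((u : Fˣ) : Fˣ ⧸ detCent g) := by
    intro x
    obtain ⟨a, rfl⟩ := QuotientGroup.mk_surjective x
    obtain ⟨m, rfl⟩ := Subgroup.mem_zpowers_iff.1 (hu a)
    exact Subgroup.mem_zpowers_iff.2 ⟨m, rfl⟩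
  rw [← orderOf_eq_card_of_forall_mem_zpowers hgen]
  exact Nat.le_of_dvd (split_pos _) (orderOf_dvd_of_pow_eq_one (by rw [← QuotientGroup.mk_pow]; exact (QuotientGroup.eq_one_iff _).2 hG))

noncomputable def gl : SLn →* GL (Fin n) F := Matrix.SpecialLinearGroup.toGL

theorem gl_val (g : SLn) : ((gl g : GL (Fin n) F) : Matrix (Fin n) (Fin n) F) = (g : Matrix (Fin n) (Fin n) F) := rfl

/-- the tuple of an `SL` class -/
noncomputable def tupC : ConjClasses SLn → T F n n :=
  Quotient.lift (fun g => tupT (gl g)) fun _ _ h => Subtype.ext (tup_eq_of_conj (gl.map_isConj h))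

theorem tupC_mk (g : SLn) : (tupC (ConjClasses.mk g)).1 = tup (gl g) := rfl

theorem chi_tupC (c : ConjClasses SLn) : chi (tupC c).1 = 1 := by
  obtain ⟨g, rfl⟩ := Quotient.exists_rep c
  show chi (tup (gl g)) = 1
  rw [← det_eq_chi, gl_val, g.2]

theorem card_fiber_le (h : T F n n) : Nat.card {c : ConjClasses SLn // tupC c = h} ≤ split h.1 := by
  classical
  rcases isEmpty_or_nonempty {c : ConjClasses SLn // tupC c = h} with hE | ⟨⟨c₀, hc₀⟩⟩
  · simp
  obtain ⟨g₀, rfl⟩ := Quotient.exists_rep c₀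
  subst hc₀
  have hconj : ∀ c : {c : ConjClasses SLn // tupC c = tupC (Quotient.mk _ g₀)}, ∃ x : SLn, ConjClasses.mk x = c.1 ∧
      ∃ w : GL (Fin n) F, w * gl g₀ * w⁻¹ = gl x := by
    rintro ⟨c, hc⟩
    obtain ⟨x, rfl⟩ := Quotient.exists_rep c
    refine ⟨x, rfl, isConj_iff.1 ((dec (gl g₀)).isConj (dec (gl x)) (M_eq_of_tup ?_))⟩
    exact (congrArg Subtype.val hc).symm
  choose x hx w hw using hconj
  refine (Nat.card_le_card_of_injective
    (fun c => ((Matrix.GeneralLinearGroup.det (w c) : Fˣ) : Fˣ ⧸ detCent (gl g₀))) fun c d hcd => ?_).trans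
    (index_detCent_le (gl g₀))
  obtain ⟨z, hz, hzd⟩ := Subgroup.mem_map.1 (QuotientGroup.eq.1 hcd)
  rw [Subgroup.mem_centralizer_singleton_iff] at hz
  set v := w d * z⁻¹ * (w c)⁻¹ with hv
  have hv1 : Matrix.GeneralLinearGroup.det v = 1 := by
    rw [hv, map_mul, map_mul, map_inv, map_inv, hzd, mul_inv_rev, inv_inv]
    simp [mul_comm, mul_left_comm]
  let s : SLn := ⟨(v : Matrix (Fin n) (Fin n) F), by simpa using congrArg Units.val hv1⟩
  have hs : gl s = v := Units.ext rfl
  have hz' : z⁻¹ * gl g₀ * z = gl g₀ := by rw [mul_assoc, ← hz]; group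
  have key : s * x c * s⁻¹ = x d := by
    apply Matrix.SpecialLinearGroup.toGL_injective
    show gl (s * x c * s⁻¹) = gl (x d)
    rw [map_mul, map_mul, map_inv, hs, ← hw c, ← hw d, hv]
    calc _ = w d * (z⁻¹ * gl g₀ * z) * (w d)⁻¹ := by group
      _ = _ := by rw [hz']
  apply Subtype.ext
  rw [← hx c, ← hx d, ConjClasses.mk_eq_mk_iff_isConj]
  exact isConj_iff.2 ⟨s, key⟩

omit [NeZero n] in
theorem finite_TT (k m : ℕ) : Finite (T F k m) := (finite_T (F := F) k m).1

theorem card_classes_le (S : Set (ConjClasses SLn)) (A : Finset (T F n n)) (hA : ∀ c ∈ S, tupC c ∈ A) :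
    Nat.card S ≤ ∑ h ∈ A, split h.1 := by
  classical
  let f : S → Σ h : A, {c : ConjClasses SLn // tupC c = h.1} := fun c => ⟨⟨tupC c.1, hA c.1 c.2⟩, ⟨c.1, rfl⟩⟩
  have hf : Function.Injective f := fun a b hab =>
    Subtype.ext (congrArg (fun t : Σ h : A, {c : ConjClasses SLn // tupC c = h.1} => t.2.1) hab)
  refine (Nat.card_le_card_of_injective f hf).trans ?_
  rw [Nat.card_sigma, ← Finset.sum_coe_sort A]
  exact Finset.sum_le_sum fun h _ => card_fiber_le h.1

end Cfsg.Agent.SLClasses53
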