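import Mathlib
import Cfsg.Agent.Lib.FormCombine53
import Cfsg.Agent.Lib.SLClasses53

/-!
Classes of the group of a form, counted through tuples of self-reciprocal polynomials.
-/

set_option autoImplicit false

open Polynomial
open LinearMap (BilinForm)
open Cfsg.Agent.GLClassBound53 Cfsg.Agent.GLInvariants53 Cfsg.Agent.UnitaryPolys53

namespace Cfsg.Agent.FormMatrix53

open Cfsg.Agent.FormSys53 Cfsg.Agent.FormSub53 Cfsg.Agent.FormFibre53 Cfsg.Agent.FormCombine53

universe u v

variable {F : Type u} [Field F] {δ : F} {n : ℕ}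

/-- the form data -/
structure Std (F : Type u) [Field F] (δ : F) (n : ℕ) where
  B : BilinForm F (Fin n → F)
  sym : ∀ x y, B y x = δ * B x y
  nd : ∀ x, (∀ y, B x y = 0) → x = 0

/-- preserving the form -/
def Pres (Φ : Std F δ n) (g : GL (Fin n) F) : Prop :=
  ∀ x y, Φ.B ((g : Matrix (Fin n) (Fin n) F).mulVec x) ((g : Matrix (Fin n) (Fin n) F).mulVec y) = Φ.B x y

/-- the system of an element -/
noncomputable abbrev sysOf (Φ : Std F δ n) {g : GL (Fin n) F} (hg : Pres Φ g) : Sys F δ where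
  V := Fin n → F
  g := Matrix.toLin' (g : Matrix (Fin n) (Fin n) F)
  B := Φ.B
  sym := Φ.sym
  nd := Φ.nd
  inv x y := by simpa only [Matrix.toLin'_apply] using hg x y

/-- symmetric level -/
def sign (δ : F) (s : ℕ) : Prop := δ * (-1) ^ (s - 1) = 1

/-- admissible entry at level `s` -/
def Ok (δ : F) (s : ℕ) (p : F[X]) : Prop :=
  Fixed (RingHom.id F) p ∧ (¬ sign δ s → Even (p.rootMultiplicity 1) ∧ Even (p.rootMultiplicity (-1)))

/-- tuples -/
abbrev OkT (δ : F) (n : ℕ) : Type u :=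
  {t : Fin n → F[X] // (∀ j : Fin n, Ok δ ((j : ℕ) + 1) (t j)) ∧ ∑ j : Fin n, ((j : ℕ) + 1) * (t j).natDegree = n}

open scoped Classical in
/-- roots `±1` at symmetric levels -/
noncomputable def sig (δ : F) (t : Fin n → F[X]) : ℕ :=
  (Finset.univ.filter fun x : Fin n × Bool =>
    sign δ ((x.1 : ℕ) + 1) ∧ (t x.1).eval (if x.2 then 1 else -1) = 0).card

variable [Fintype F]

theorem finite_OkT (δ : F) (n : ℕ) : Finite (OkT δ n) := by
  haveI := (finite_T (F := F) n n).1
  exact Finite.of_injective (fun t : OkT δ n => (⟨t.1, fun j => (t.2.1 j).1.1, t.2.2⟩ : T F n n))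
    fun a b h => Subtype.ext (congrArg (fun z : T F n n => z.1) h)

variable (Φ : Std F δ n) {g : GL (Fin n) F} (hg : Pres Φ g)

theorem kerCard_eq_pow (p : F[X]) (k : ℕ) : kerCard g p k = Fintype.card F ^ kd (sysOf Φ hg) p k := by
  rw [kd, ← Nat.card_eq_fintype_card, ← Module.natCard_eq_pow_finrank (K := F)]
  exact Nat.card_congr (Equiv.subtypeEquivRight fun v => LinearMap.mem_ker.symm)

include hg in
theorem kerCard_rec {P : F[X]} (hP : Good P) (k : ℕ) :
    kerCard g P k = kerCard g (tau (RingHom.id F) P) k := by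
  rw [kerCard_eq_pow Φ hg, kerCard_eq_pow Φ hg, ← kd_rec (sysOf Φ hg) hP k]
  rfl

include hg in
theorem tau_tup [NeZero n] (j : Fin n) : Fixed (RingHom.id F) (SLClasses53.tup g j) := by
  classical
  set σ := RingHom.id F
  have hσ : ∀ x, σ (σ x) = x := fun _ => rfl
  refine ⟨SLClasses53.good_prod j, ?_⟩
  rw [SLClasses53.tup, tau_prod]
  congr 1
  refine Multiset.ext.2 fun x => ?_
  set M := (SLClasses53.dec g).M j with hM
  have hmem : ∀ y ∈ M.map (tau σ), Irreducible y ∧ Good y := by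
    intro y hy
    obtain ⟨z, hz, rfl⟩ := Multiset.mem_map.1 hy
    exact ⟨tau_irreducible σ hσ ((SLClasses53.dec g).mem_M hz).2 ((SLClasses53.dec g).mem_M hz).1,
      (tau_good σ ((SLClasses53.dec g).mem_M hz).2).1⟩
  by_cases hx : Irreducible x ∧ Good x
  · set y := tau σ x with hy
    have hyg := tau_good σ hx.2
    have hyx : tau σ y = x := tau_tau σ hσ hx.2
    have h1 : (M.map (tau σ)).count x = M.count y := by
      by_cases hm : y ∈ M
      · rw [← hyx]
        refine Multiset.count_map_eq_count _ _ (fun a ha b hb hab => ?_) y hm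
        rw [← tau_tau σ hσ ((SLClasses53.dec g).mem_M ha).2, ← tau_tau σ hσ ((SLClasses53.dec g).mem_M hb).2, hab]
      · rw [Multiset.count_eq_zero.2 hm, Multiset.count_eq_zero]
        intro hx'
        obtain ⟨a, ha, hax⟩ := Multiset.mem_map.1 hx'
        refine hm ?_
        rw [hy, ← hax, tau_tau σ hσ ((SLClasses53.dec g).mem_M ha).2]
        exact ha
    rw [h1]
    exact ((SLClasses53.dec g).count_eq (SLClasses53.dec g) hx.1 hx.2.1 (tau_irreducible σ hσ hx.2 hx.1) hyg.1.1
      hyg.2.symm (fun k => kerCard_rec Φ hg hx.2 k) j).symm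
  · rw [Multiset.count_eq_zero.2 fun hm => hx (hmem x hm),
      Multiset.count_eq_zero.2 fun hm => hx ((SLClasses53.dec g).mem_M hm)]

omit [Fintype F] in
/-- multiplicity of a root in a product of irreducibles -/
theorem rootMultiplicity_prod [DecidableEq F[X]] (M : Multiset F[X]) (hM : ∀ f ∈ M, Irreducible f ∧ Good f) (a : F) :
    M.prod.rootMultiplicity a = M.count (X - C a) := by
  classical
  induction M using Multiset.induction_on with
  | empty => simp [rootMultiplicity_eq_zero]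
  | cons f M ih =>
    obtain ⟨hf, hfg⟩ := hM f (Multiset.mem_cons_self _ _)
    have hM' : ∀ f ∈ M, Irreducible f ∧ Good f := fun x hx => hM x (Multiset.mem_cons_of_mem hx)
    have hne : M.prod ≠ 0 := Multiset.prod_ne_zero fun h => not_irreducible_zero (hM' 0 h).1
    rw [Multiset.prod_cons, rootMultiplicity_mul (mul_ne_zero hf.ne_zero hne), ih hM', Multiset.count_cons]
    by_cases h : f.eval a = 0
    · have he : f = X - C a :=
        eq_of_monic_of_associated hfg.1 (monic_X_sub_C a)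
          (((irreducible_X_sub_C a).associated_of_dvd hf (dvd_iff_isRoot.2 h)).symm)
      subst he
      rw [if_pos rfl, rootMultiplicity_X_sub_C_self, add_comm]
    · have hne' : X - C a ≠ f := fun he => h (by rw [← he]; simp)
      rw [if_neg hne', add_zero, rootMultiplicity_eq_zero h, zero_add]

variable [NeZero n]

theorem kd_mult (ε : F) (hε : ε * ε = 1) (j : ℕ) (hj : 1 ≤ j) (hjn : j ≤ n) :
    2 * kd (sysOf Φ hg) (X - C ε) j =
      kd (sysOf Φ hg) (X - C ε) (j - 1) + kd (sysOf Φ hg) (X - C ε) (j + 1) +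
        (SLClasses53.tup g ⟨j - 1, by omega⟩).rootMultiplicity ε := by
  classical
  set d := SLClasses53.dec g
  set P := X - C ε with hP
  have hq : 2 ≤ Fintype.card F := Fintype.one_lt_card
  have hk : ∀ k, kd (sysOf Φ hg) P k = ∑ i, if d.p i = P then min k (d.e i) else 0 := by
    intro k
    have h := d.kerCard_eq (P := P) (irreducible_X_sub_C ε) (monic_X_sub_C ε) k
    rw [kerCard_eq_pow Φ hg, natDegree_X_sub_C, one_mul] at h
    convert Nat.pow_right_injective hq h using 3
  rw [SLClasses53.tup, rootMultiplicity_prod _ (fun f hf => d.mem_M hf), hk, hk, hk, Dec.M, Multiset.count_map,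
    ← Finset.filter_val, Finset.filter_filter, Finset.card_val, Finset.card_filter, Finset.mul_sum,
    ← Finset.sum_add_distrib, ← Finset.sum_add_distrib]
  refine Finset.sum_congr rfl fun i _ => ?_
  have := d.hlev i
  by_cases hp : d.p i = P
  · rw [if_pos hp, if_pos hp, if_pos hp]
    by_cases hl : d.lev i = ⟨j - 1, by omega⟩
    · rw [if_pos ⟨hl, hp.symm⟩]
      have hl' : (d.lev i : ℕ) = j - 1 := congrArg Fin.val hl
      omega
    · rw [if_neg (fun h => hl h.1)]
      have : (d.lev i : ℕ) ≠ j - 1 := fun h => hl (Fin.ext h)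
      omega
  · rw [if_neg hp, if_neg hp, if_neg hp, if_neg (fun h => hp h.2.symm)]
    rfl

variable (hδ : δ = 1 ∨ δ = -1)

include hg hδ in
theorem ok_tup (h2 : (2 : F) ≠ 0) (j : Fin n) : Ok δ ((j : ℕ) + 1) (SLClasses53.tup g j) := by
  refine ⟨tau_tup Φ hg j, fun hs => ?_⟩
  have hs' : δ * (-1) ^ ((j : ℕ) + 1 - 1) = -1 := by
    unfold sign at hs
    rcases neg_one_pow_eq_or F ((j : ℕ) + 1 - 1) with h | h <;> rcases hδ with hd | hd
    · exact absurd (by rw [h, hd, one_mul]) hs
    · rw [h, hd, mul_one]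
    · rw [h, hd, one_mul]
    · exact absurd (by rw [h, hd]; ring) hs
  have key : ∀ ε : F, ε * ε = 1 → Even ((SLClasses53.tup g j).rootMultiplicity ε) := by
    intro ε hε
    have h1 := even_mult (sysOf Φ hg) h2 hε (Nat.succ_le_succ (Nat.zero_le _)) hs'
    have h2' := kd_mult Φ hg ε hε ((j : ℕ) + 1) (by omega) (by omega)
    simp only [Nat.add_sub_cancel, Fin.eta] at h2'
    rw [show (j : ℕ).succ = (j : ℕ) + 1 from rfl, Nat.add_sub_cancel] at h1
    rw [h2', Nat.add_sub_cancel_left] at h1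
    exact h1
  exact ⟨key 1 (one_mul 1), key (-1) (by norm_num)⟩

theorem sigma_le (h2 : (2 : F) ≠ 0) : sigma (sysOf Φ hg) ≤ sig δ (SLClasses53.tup g) := by
  classical
  have hdim : Module.finrank F (sysOf Φ hg).V = n := Module.finrank_fin_fun F
  have key : ∀ b : Bool, ∀ j ∈ kset δ (fun k => kd (sysOf Φ hg) (X - C (if b then 1 else -1)) k) n,
      ∃ (hj : j - 1 < n), 1 ≤ j ∧
        ((⟨j - 1, hj⟩, b) : Fin n × Bool) ∈ (Finset.univ.filter fun x : Fin n × Bool =>
          sign δ ((x.1 : ℕ) + 1) ∧ (SLClasses53.tup g x.1).eval (if x.2 then 1 else -1) = 0) := by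
    intro b j hj
    rw [mem_kset] at hj
    obtain ⟨⟨h1, hn⟩, hs, hlt⟩ := hj
    simp only at hlt
    refine ⟨by omega, h1, Finset.mem_filter.2 ⟨Finset.mem_univ _, ?_, ?_⟩⟩
    · show sign δ (j - 1 + 1)
      rw [Nat.sub_add_cancel h1]
      exact hs
    · have hε : (if b then (1 : F) else -1) * (if b then 1 else -1) = 1 := by cases b <;> simp
      have h := kd_mult Φ hg _ hε j h1 hn
      refine (rootMultiplicity_pos (p := SLClasses53.tup g ⟨j - 1, by omega⟩) ?_).1 ?_
      · exact (SLClasses53.good_prod (g := g) ⟨j - 1, by omega⟩).1.ne_zero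
      · show 0 < Polynomial.rootMultiplicity (if b then (1 : F) else -1) _
        omega
  rw [sigma, hdim, sig]
  have e : (kset δ (fun k => kd (sysOf Φ hg) (X - C (1 : F)) k) n).card +
      (kset δ (fun k => kd (sysOf Φ hg) (X - C (-1 : F)) k) n).card =
      (Finset.univ.sigma fun b : Bool => kset δ (fun k => kd (sysOf Φ hg) (X - C (if b then 1 else -1)) k) n).card := by
    rw [Finset.card_sigma, Fintype.sum_bool]
    simp
  rw [e]
  refine Finset.card_le_card_of_injOn
    (fun x : (_ : Bool) × ℕ => if h : x.2 - 1 < n then ((⟨x.2 - 1, h⟩, x.1) : Fin n × Bool) else (⟨0, Nat.pos_of_neZero n⟩, x.1))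
    (fun x hx => ?_) (fun x hx y hy hxy => ?_)
  · obtain ⟨h, -, hmem⟩ := key x.1 x.2 (Finset.mem_sigma.1 hx).2
    simp only [dif_pos h]
    exact hmem
  · obtain ⟨h, h1, -⟩ := key x.1 x.2 (Finset.mem_sigma.1 hx).2
    obtain ⟨h', h1', -⟩ := key y.1 y.2 (Finset.mem_sigma.1 hy).2
    simp only [dif_pos h, dif_pos h', Prod.mk.injEq, Fin.mk.injEq] at hxy
    obtain ⟨xb, xj⟩ := x
    obtain ⟨yb, yj⟩ := y
    obtain ⟨e1, rfl⟩ := hxy
    simp only at h1 h1' e1
    have : xj = yj := by omega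
    rw [this]

variable {H : Type v} [Group H] (f : H →* GL (Fin n) F)

include hδ

/-- pairwise non-conjugate elements with a property of the tuple -/
theorem card_family_le [Finite H] (h2 : (2 : F) ≠ 0) (hf : Function.Injective f) (hmem : ∀ x, Pres Φ (f x))
    (hall : ∀ x, Pres Φ x → ∃ y, f y = x) {κ : Type v} [Finite κ] (rep : κ → H)
    (hrep : ∀ i j, IsConj (rep i) (rep j) → i = j) (P : (Fin n → F[X]) → Prop)
    (hP : ∀ i, P (SLClasses53.tup (f (rep i)))) :
    haveI := finite_OkT δ n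
    Nat.card κ ≤ ∑ᶠ t : {t : OkT δ n // P t.1}, 2 ^ sig δ t.1.1 ∧
      (δ = 1 → Nat.card κ ≤ ∑ᶠ t : {t : OkT δ n // P t.1}, 2 ^ (sig δ t.1.1 - 1)) := by
  classical
  haveI := finite_OkT δ n
  haveI : Fintype {t : OkT δ n // P t.1} := Fintype.ofFinite _
  haveI : Fintype κ := Fintype.ofFinite _
  let tt : κ → {t : OkT δ n // P t.1} := fun x => ⟨⟨SLClasses53.tup (f (rep x)),
    fun j => ok_tup Φ (hmem _) hδ h2 j, SLClasses53.weight_tup _⟩, hP x⟩
  have key : ∀ t : {t : OkT δ n // P t.1}, Fintype.card {x // tt x = t} ≤ 2 ^ sig δ t.1.1 ∧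
      (δ = 1 → Fintype.card {x // tt x = t} ≤ 2 ^ (sig δ t.1.1 - 1)) := by
    intro t
    rcases isEmpty_or_nonempty {x // tt x = t} with h | ⟨⟨x₀⟩⟩
    · simp
    let S : {x // tt x = t} → Sys F δ := fun x => sysOf Φ (hmem (rep x.1))
    have hconj : ∀ x : {x // tt x = t}, IsConj (f (rep x.1)) (f (rep x₀.1)) := fun x =>
      (SLClasses53.dec _).isConj (SLClasses53.dec _) fun j => SLClasses53.M_eq_of_tup
        (congrArg (fun z : {t : OkT δ n // P t.1} => z.1.1) (x.2.trans x₀.2.symm)) j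
    choose c hc using fun x => isConj_iff.1 (hconj x)
    have hne : ∀ x y, Iso (S x) (S y) → x = y := by
      rintro x y ⟨T, hTg, hTB⟩
      refine Subtype.ext ?_
      let TM := LinearMap.toMatrix' T.toLinearMap
      have hTM : ∀ v, TM.mulVec v = T v := fun v => by
        rw [← Matrix.toLin'_apply]; simp [TM]
      have hu : IsUnit TM.det := by
        simp only [TM, LinearMap.det_toMatrix']
        exact T.isUnit_det'
      let Tu : GL (Fin n) F := Matrix.GeneralLinearGroup.mkOfDetNeZero TM hu.ne_zero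
      obtain ⟨h, hh⟩ := hall Tu fun u w => by
        show Φ.B (TM.mulVec u) (TM.mulVec w) = Φ.B u w
        rw [hTM, hTM]
        exact hTB u w
      refine hrep _ _ (isConj_iff.2 ⟨h, hf ?_⟩)
      rw [map_mul, map_mul, map_inv, hh, mul_inv_eq_iff_eq_mul]
      refine Units.ext (Matrix.toLin'.injective (LinearMap.ext fun v => ?_))
      show (TM * (f (rep x.1) : Matrix (Fin n) (Fin n) F)).mulVec v = ((f (rep y.1) : Matrix (Fin n) (Fin n) F) * TM).mulVec v
      rw [← Matrix.mulVec_mulVec, ← Matrix.mulVec_mulVec, hTM, hTM]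
      have := hTg v
      simpa only [S, Matrix.toLin'_apply] using this
    let φ : ∀ x, (S x).V ≃ₗ[F] (S x₀).V := fun x =>
      (LinearMap.GeneralLinearGroup.generalLinearEquiv F (Fin n → F))
        (Units.map (Matrix.toLinAlgEquiv' : Matrix (Fin n) (Fin n) F ≃ₐ[F] _).toRingEquiv.toRingHom.toMonoidHom (c x))
    have hφ : ∀ x v, φ x ((S x).g v) = (S x₀).g (φ x v) := by
      intro x v
      have e : c x * f (rep x.1) = f (rep x₀.1) * c x := mul_inv_eq_iff_eq_mul.1 (hc x)
      show ((c x : Matrix (Fin n) (Fin n) F)).mulVec ((f (rep x.1) : Matrix (Fin n) (Fin n) F).mulVec v) =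
        (f (rep x₀.1) : Matrix (Fin n) (Fin n) F).mulVec ((c x : Matrix (Fin n) (Fin n) F).mulVec v)
      rw [Matrix.mulVec_mulVec, Matrix.mulVec_mulVec, ← Units.val_mul, ← Units.val_mul, e]
    obtain ⟨b1, b2⟩ := class_bound h2 hδ S x₀ hne φ hφ
    have hs : sigma (S x₀) ≤ sig δ t.1.1 := by
      have h := sigma_le Φ (hmem (rep x₀.1)) h2
      rwa [show SLClasses53.tup (f (rep x₀.1)) = t.1.1 from congrArg (fun z : {t : OkT δ n // P t.1} => z.1.1) x₀.2] at h
    refine ⟨b1.trans (Nat.pow_le_pow_right two_pos hs), fun h1 => (b2 h1 fun x y => ?_).trans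
      (Nat.pow_le_pow_right two_pos (Nat.sub_le_sub_right hs 1))⟩
    rfl
  have hcard : Nat.card κ = ∑ t : {t : OkT δ n // P t.1}, Fintype.card {x // tt x = t} := by
    rw [Nat.card_eq_fintype_card, ← Fintype.card_sigma]
    exact Fintype.card_congr (Equiv.sigmaFiberEquiv tt).symm
  simp only [finsum_eq_sum_of_fintype, hcard]
  exact ⟨Finset.sum_le_sum fun t _ => (key t).1, fun h1 => Finset.sum_le_sum fun t _ => (key t).2 h1⟩

/-- the classes of the group of the form -/
theorem card_classes_le [Finite H] (h2 : (2 : F) ≠ 0) (hf : Function.Injective f) (hmem : ∀ x, Pres Φ (f x))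
    (hall : ∀ x, Pres Φ x → ∃ y, f y = x) :
    haveI := finite_OkT δ n
    Nat.card (ConjClasses H) ≤ ∑ᶠ t : OkT δ n, 2 ^ sig δ t.1 ∧
      (δ = 1 → Nat.card (ConjClasses H) ≤ ∑ᶠ t : OkT δ n, 2 ^ (sig δ t.1 - 1)) := by
  obtain ⟨h1, h2'⟩ := card_family_le Φ hδ f h2 hf hmem hall (Quotient.out : ConjClasses H → H)
    (fun i j h => (Quotient.out_eq i).symm.trans ((Quotient.sound h).trans (Quotient.out_eq j)))
    (fun _ => True) fun _ => trivial
  let e := Equiv.subtypeUnivEquiv (p := fun _ : OkT δ n => True) fun _ => trivial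
  exact ⟨h1.trans (finsum_comp_equiv e (f := fun t : OkT δ n => 2 ^ sig δ t.1)).le, fun hd => (h2' hd).trans (finsum_comp_equiv e (f := fun t : OkT δ n => 2 ^ (sig δ t.1 - 1))).le⟩

end Cfsg.Agent.FormMatrix53
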