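import Mathlib
import Cfsg.Agent.Lib.FormMatrix53

/-!
An eigenvalue `±1` of multiplicity at least two at the first level has eigenvectors of every value.
-/

set_option autoImplicit false

open Polynomial
open LinearMap (BilinForm)
open Cfsg.Agent.GLClassBound53 Cfsg.Agent.UnitaryPolys53

namespace Cfsg.Agent.FormEigen53

open Cfsg.Agent.FormSys53 Cfsg.Agent.FormMatrix53

universe u

variable {F : Type u} [Field F] (S : Sys F (1 : F))

theorem mem_K_one {ε : F} {x : S.V} : x ∈ K S (X - C ε) 1 ↔ S.g x = ε • x := by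
  simp [mem_K, ev, sub_eq_zero]

/-- eigenvectors of every value -/
theorem exists_value [Fintype F] (h2 : (2 : F) ≠ 0) {ε : F} (hε : ε * ε = 1)
    (hk : kd S (X - C ε) 2 + 2 ≤ 2 * kd S (X - C ε) 1) (c : F) : ∃ v, S.g v = ε • v ∧ S.B v v = c := by
  classical
  have hsym : ∀ x y, S.B x y = S.B y x := fun x y => by rw [S.sym x y, one_mul]
  set W := K S (X - C ε) 1 with hW
  have hr := finrank_rad S (X - C ε) (j := 1) le_rfl
  rw [Nat.sub_self, kd_zero, zero_add, show (1 : ℕ) + 1 = 2 from rfl] at hr
  have hrad : ∀ x ∈ W, (∀ y ∈ W, S.B x y = 0) → x ∈ rad S (X - C ε) 1 := fun x hx h0 =>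
    h_radical S hε le_rfl hx fun y hy => by
      simpa [FormSys53.h, ev] using h0 y hy
  have pol : ∀ U : Submodule F S.V, (∀ a ∈ U, S.B a a = 0) → ∀ a ∈ U, ∀ b ∈ U, S.B a b = 0 := by
    intro U hU a ha b hb
    have h := hU (a + b) (U.add_mem ha hb)
    simp only [map_add, LinearMap.add_apply, hU a ha, hU b hb, zero_add, add_zero, hsym b a] at h
    exact (mul_eq_zero.1 (show (2 : F) * S.B a b = 0 by linear_combination h)).resolve_left h2
  obtain ⟨a, ha, haa⟩ : ∃ a ∈ W, S.B a a ≠ 0 := by
    by_contra hne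
    push Not at hne
    have hle : W ≤ rad S (X - C ε) 1 := fun x hx => hrad x hx (pol W hne x hx)
    have := Submodule.finrank_mono hle
    have e1 : kd S (X - C ε) 1 = Module.finrank F W := rfl
    omega
  set U := W ⊓ LinearMap.ker (S.B a) with hU
  obtain ⟨b, hb, hbb⟩ : ∃ b ∈ U, S.B b b ≠ 0 := by
    by_contra hne
    push Not at hne
    have hle : U ≤ rad S (X - C ε) 1 := by
      intro x hx
      refine hrad x (Submodule.mem_inf.1 hx).1 fun y hy => ?_
      have hax : S.B a x = 0 := LinearMap.mem_ker.1 (Submodule.mem_inf.1 hx).2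
      have hyU : y - (S.B a y / S.B a a) • a ∈ U := by
        refine Submodule.mem_inf.2 ⟨W.sub_mem hy (W.smul_mem _ ha), LinearMap.mem_ker.2 ?_⟩
        rw [map_sub, map_smul, smul_eq_mul, div_mul_cancel₀ _ haa, sub_self]
      have h := pol U hne x hx _ hyU
      rw [map_sub, map_smul, hsym x a, hax, smul_zero, sub_zero] at h
      exact h
    have h1 := Submodule.finrank_mono hle
    have h3 := Submodule.finrank_sup_add_finrank_inf_eq W (LinearMap.ker (S.B a))
    have h4 := Submodule.finrank_le (W ⊔ LinearMap.ker (S.B a))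
    have h5 := LinearMap.finrank_range_add_finrank_ker (S.B a)
    have h6 := Submodule.finrank_le (LinearMap.range (S.B a))
    rw [Module.finrank_self] at h6
    have e1 : kd S (X - C ε) 1 = Module.finrank F W := rfl
    have e2 : Module.finrank F U = Module.finrank F (W ⊓ LinearMap.ker (S.B a) : Submodule F S.V) := rfl
    omega
  obtain ⟨hbW, hab⟩ := Submodule.mem_inf.1 hb
  rw [LinearMap.mem_ker] at hab
  have hR : Fintype.card F % 2 = 1 := FiniteField.odd_card_of_char_ne_two (F := F) fun h => h2 (by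
    haveI := ringChar.of_eq h
    exact CharTwo.two_eq_zero)
  obtain ⟨s, r, hsr⟩ := FiniteField.exists_root_sum_quadratic (R := F) (f := C (S.B a a) * X ^ 2 - C c)
    (g := C (S.B b b) * X ^ 2) (by
      rw [degree_sub_eq_left_of_degree_lt] <;> rw [degree_C_mul_X_pow _ haa]
      · rfl
      · exact lt_of_le_of_lt degree_C_le (by norm_num))
    (by rw [degree_C_mul_X_pow _ hbb]; rfl) hR
  simp only [eval_sub, eval_mul, eval_C, eval_pow, eval_X] at hsr
  refine ⟨s • a + r • b, mem_K_one S |>.1 (W.add_mem (W.smul_mem _ ha) (W.smul_mem _ hbW)), ?_⟩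
  simp only [map_add, map_smul, LinearMap.add_apply, LinearMap.smul_apply, smul_eq_mul, hab, hsym b a]
  linear_combination hsr

end Cfsg.Agent.FormEigen53
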