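import Mathlib
import Cfsg.Agent.Lib.FormMatrix53
import Cfsg.Agent.Lib.FormCountArith53

/-!
Counting decorated tuples of self-reciprocal polynomials.
-/

set_option autoImplicit false

open Polynomial
open Cfsg.Agent.GLClassBound53 Cfsg.Agent.UnitaryPolys53

namespace Cfsg.Agent.FormTuples53

open Cfsg.Agent.FormSys53 Cfsg.Agent.FormMatrix53 Cfsg.Agent.FormCountArith53

universe u

variable {F : Type u} [Field F]

/-- self-reciprocal of even degree with constant term one -/
def Plain (p : F[X]) : Prop := Fixed (RingHom.id F) p ∧ Even p.natDegree ∧ p.coeff 0 = 1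

theorem eval_fixed {p : F[X]} (hp : Fixed (RingHom.id F) p) {ε : F} (hε : ε * ε = 1) :
    p.coeff 0 * p.eval ε * ε ^ p.natDegree = p.eval ε := by
  have h0 : p.coeff 0 ≠ 0 := hp.1.2
  have hrev : p.reverse = C (p.coeff 0) * p := by
    have h := hp.2
    rw [tau, Polynomial.map_id, RingHom.id_apply] at h
    have h' := congrArg (fun t => C (p.coeff 0) * t) h
    simp only [← mul_assoc, ← C_mul, mul_inv_cancel₀ h0, C_1, one_mul] at h'
    exact h'
  letI : Invertible ε := invertibleOfLeftInverse ε ε hε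
  have h : p.reverse.eval ε * ε ^ p.natDegree = p.eval ε := eval₂_reverse_mul_pow (RingHom.id F) ε p
  rw [hrev, eval_mul, eval_C] at h
  exact h

theorem plain_of_no_root (h2 : (2 : F) ≠ 0) {p : F[X]} (hp : Fixed (RingHom.id F) p)
    (h1 : p.eval 1 ≠ 0) (h1' : p.eval (-1) ≠ 0) : Plain p := by
  have e1 := eval_fixed hp (one_mul 1)
  rw [one_pow, mul_one] at e1
  have hc : p.coeff 0 = 1 := mul_right_cancel₀ h1 (e1.trans (one_mul _).symm)
  refine ⟨hp, ?_, hc⟩
  have e2 := eval_fixed hp (show (-1 : F) * -1 = 1 by norm_num)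
  rw [hc, one_mul] at e2
  by_contra hodd
  rw [(Nat.not_even_iff_odd.1 hodd).neg_one_pow] at e2
  exact h1' ((mul_eq_zero.1 (show (2 : F) * p.eval (-1) = 0 by linear_combination -e2)).resolve_left h2)

theorem fixed_mul {p r : F[X]} (hp : Fixed (RingHom.id F) p) (hr : Fixed (RingHom.id F) r) :
    Fixed (RingHom.id F) (p * r) :=
  ⟨⟨hp.1.1.mul hr.1.1, by rw [mul_coeff_zero]; exact mul_ne_zero hp.1.2 hr.1.2⟩, by rw [tau_mul, hp.2, hr.2]⟩

theorem fixed_lin_pow {ε : F} (hε : ε * ε = 1) (a : ℕ) : Fixed (RingHom.id F) ((X - C ε) ^ a) := by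
  induction a with
  | zero => rw [pow_zero]; exact fixed_one _
  | succ a ih => rw [pow_succ]; exact fixed_mul ih ⟨lin_good hε, rec_lin hε⟩

theorem fixed_cancel {p r : F[X]} (hp : Fixed (RingHom.id F) p) (h : Fixed (RingHom.id F) (p * r)) :
    Fixed (RingHom.id F) r := by
  have hr : Good r := ⟨hp.1.1.of_mul_monic_left h.1.1, fun h0 => h.1.2 (by rw [mul_coeff_zero, h0, mul_zero])⟩
  refine ⟨hr, mul_left_cancel₀ hp.1.1.ne_zero ?_⟩
  have e := h.2
  rwa [tau_mul, hp.2] at e

theorem exists_split (h2 : (2 : F) ≠ 0) {p : F[X]} (hp : Fixed (RingHom.id F) p) :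
    ∃ N : F[X], Plain N ∧ p = (X - C 1) ^ p.rootMultiplicity 1 * (X - C (-1)) ^ p.rootMultiplicity (-1) * N := by
  have hne := hp.1.1.ne_zero
  obtain ⟨r, hr, hr1⟩ := exists_eq_pow_rootMultiplicity_mul_and_not_dvd p hne 1
  have hrne : r ≠ 0 := fun h => hne (by rw [hr, h, mul_zero])
  obtain ⟨N, hN, hN1⟩ := exists_eq_pow_rootMultiplicity_mul_and_not_dvd r hrne (-1)
  have h1ne : (1 : F) ≠ -1 := fun h => h2 (by linear_combination h)
  have hm : r.rootMultiplicity (-1) = p.rootMultiplicity (-1) := by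
    conv_rhs => rw [hr]
    rw [rootMultiplicity_mul (by rw [← hr]; exact hne), rootMultiplicity_eq_zero (p := (X - C (1 : F)) ^ _), zero_add]
    rw [IsRoot.def, eval_pow, eval_sub, eval_X, eval_C]
    exact pow_ne_zero _ (sub_ne_zero.2 (Ne.symm h1ne))
  have hrf : Fixed (RingHom.id F) r := fixed_cancel (fixed_lin_pow (one_mul 1) _) (hr ▸ hp)
  have hNf : Fixed (RingHom.id F) N := fixed_cancel (fixed_lin_pow (by norm_num) _) (hN ▸ hrf)
  refine ⟨N, plain_of_no_root h2 hNf (fun h => hr1 ?_) (fun h => hN1 (dvd_iff_isRoot.2 h)), ?_⟩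
  · rw [hN]
    exact dvd_mul_of_dvd_right (dvd_iff_isRoot.2 h) _
  · conv_lhs => rw [hr, hN]
    rw [hm, mul_assoc]

variable [Fintype F]

theorem finite_plain (d : ℕ) : Finite {p : F[X] // Plain p ∧ p.natDegree = d} :=
  Finite.of_injective (fun p => (⟨p.1, p.2.1.1.1, p.2.2⟩ : P F d)) fun a b h =>
    Subtype.ext (congrArg (fun z : P F d => z.1) h)

theorem card_plain (d : ℕ) :
    Nat.card {p : F[X] // Plain p ∧ p.natDegree = d} ≤ if d % 2 = 0 then Fintype.card F ^ (d / 2) else 0 := by
  haveI := finite_plain (F := F) d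
  by_cases hd : d % 2 = 0
  · rw [if_pos hd]
    refine le_trans (Nat.card_le_card_of_injective (β := Fin (d / 2) → F)
      (fun p i => p.1.coeff ((i : ℕ) + 1)) fun p r h => Subtype.ext (Polynomial.ext fun i => ?_)) ?_
    · have low : ∀ j, j ≤ d / 2 → p.1.coeff j = r.1.coeff j := by
        intro j hj
        rcases j with _ | j
        · rw [p.2.1.2.2, r.2.1.2.2]
        · exact congrFun h ⟨j, by omega⟩
      have sym : ∀ (x : {p : F[X] // Plain p ∧ p.natDegree = d}) j, j ≤ d → x.1.coeff j = x.1.coeff (d - j) := by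
        intro x j hj
        have e := congrArg (fun t : F[X] => t.coeff j) x.2.1.1.2
        simp only [coeff_tau, x.2.2, revAt_le hj, x.2.1.2.2, RingHom.id_apply, inv_one, one_mul] at e
        exact e.symm
      by_cases hi : i ≤ d / 2
      · exact low i hi
      by_cases hid : i ≤ d
      · rw [sym p i hid, sym r i hid]
        exact low _ (by omega)
      · rw [coeff_eq_zero_of_natDegree_lt (by rw [p.2.2]; omega), coeff_eq_zero_of_natDegree_lt (by rw [r.2.2]; omega)]
    · rw [Nat.card_eq_fintype_card, Fintype.card_fun, Fintype.card_fin]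
  · rw [if_neg hd]
    haveI : IsEmpty {p : F[X] // Plain p ∧ p.natDegree = d} :=
      ⟨fun p => hd (by obtain ⟨k, hk⟩ := p.2.1.2.1; have := p.2.2; omega)⟩
    simp

/-- a decorated entry -/
def DOk (dd : ℕ → Bool) (s : ℕ) (x : F[X] × (Bool × Bool)) : Prop :=
  if dd s then Fixed (RingHom.id F) x.1 ∧ (x.2.1 = true → x.1.eval 1 = 0) ∧ (x.2.2 = true → x.1.eval (-1) = 0)
  else Plain x.1 ∧ x.2 = (false, false)

theorem DOk.good {dd : ℕ → Bool} {s : ℕ} {x : F[X] × (Bool × Bool)} (h : DOk dd s x) : Good x.1 := by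
  unfold DOk at h
  split at h
  · exact h.1.1
  · exact h.1.1.1

theorem finite_DOk (dd : ℕ → Bool) (s d : ℕ) :
    Finite {x : F[X] × (Bool × Bool) // DOk dd s x ∧ x.1.natDegree = d} := by
  refine Finite.of_injective (fun x => ((⟨x.1.1, x.2.1.good, x.2.2⟩ : P F d), x.1.2)) fun a b h => ?_
  simp only [Prod.mk.injEq, Subtype.mk.injEq] at h
  exact Subtype.ext (Prod.ext h.1 h.2)

/-- choice of extra factors for a multiplicity and a sign -/
def enc (a : ℕ) (s : Bool) : Bool × Bool := if a % 2 = 1 then (!s, s) else (s, s)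

theorem enc_spec (a : ℕ) (s : Bool) (h : s = true → 0 < a) :
    (enc a s).2 = s ∧ (enc a s).1.toNat + (enc a s).2.toNat ≤ a ∧
      (a - ((enc a s).1.toNat + (enc a s).2.toNat)) % 2 = 0 := by
  unfold enc
  cases s <;> simp at h ⊢ <;> split <;> simp <;> omega

theorem card_DOk (h2 : (2 : F) ≠ 0) (dd : ℕ → Bool) (s d : ℕ) :
    Nat.card {x : F[X] × (Bool × Bool) // DOk dd s x ∧ x.1.natDegree = d} ≤ cLev (Fintype.card F) dd s d := by
  classical
  haveI := finite_DOk (F := F) dd s d
  unfold cLev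
  cases hdd : dd s
  · simp only [Bool.false_eq_true, if_false]
    haveI := finite_plain (F := F) d
    refine le_trans (Nat.card_le_card_of_injective (β := {p : F[X] // Plain p ∧ p.natDegree = d})
      (fun x => ⟨x.1.1, ?_, x.2.2⟩) fun a b h => ?_) (card_plain d)
    · have h := x.2.1
      rw [DOk, hdd] at h
      exact h.1
    · have ha := a.2.1
      have hb := b.2.1
      rw [DOk, hdd] at ha hb
      simp only [Subtype.mk.injEq] at h
      exact Subtype.ext (Prod.ext h (ha.2.trans hb.2.symm))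
  · simp only [if_true]
    haveI := fun e => finite_plain (F := F) e
    let src := Σ r : {r : Rd // wt r ≤ d}, {p : F[X] // Plain p ∧ p.natDegree = d - wt r.1}
    let dec : src → F[X] × (Bool × Bool) := fun x =>
      ((X - C 1) ^ (x.1.1.1.1.toNat + x.1.1.1.2.toNat) * (X - C (-1)) ^ (x.1.1.2.1.toNat + x.1.1.2.2.toNat) * x.2.1,
        (x.1.1.1.2, x.1.1.2.2))
    have hsub : ∀ x : {x : F[X] × (Bool × Bool) // DOk dd s x ∧ x.1.natDegree = d}, ∃ y : src, dec y = x.1 := by
      rintro ⟨⟨p, s1, s2⟩, hx, hdeg⟩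
      rw [DOk, hdd] at hx
      obtain ⟨hp, hs1, hs2⟩ := hx
      simp only at hs1 hs2 hp hdeg
      obtain ⟨N, hN, hpN⟩ := exists_split h2 hp
      set a := p.rootMultiplicity 1
      set b := p.rootMultiplicity (-1)
      have hne := hp.1.1.ne_zero
      obtain ⟨ea1, ea2, ea3⟩ := enc_spec a s1 fun h => (rootMultiplicity_pos hne).2 (hs1 h)
      obtain ⟨eb1, eb2, eb3⟩ := enc_spec b s2 fun h => (rootMultiplicity_pos hne).2 (hs2 h)
      set r : Rd := (enc a s1, enc b s2)
      set wa := (enc a s1).1.toNat + (enc a s1).2.toNat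
      set wb := (enc b s2).1.toNat + (enc b s2).2.toNat
      have hM : Plain ((X - C (1 : F)) ^ (a - wa) * (X - C (-1)) ^ (b - wb) * N) := by
        refine ⟨fixed_mul (fixed_mul (fixed_lin_pow (one_mul 1) _) (fixed_lin_pow (by norm_num) _)) hN.1, ?_, ?_⟩
        · rw [((((monic_X_sub_C (1 : F)).pow _).mul ((monic_X_sub_C _).pow _))).natDegree_mul hN.1.1.1,
            ((monic_X_sub_C (1 : F)).pow _).natDegree_mul ((monic_X_sub_C _).pow _), natDegree_pow, natDegree_pow,
            natDegree_X_sub_C, natDegree_X_sub_C, mul_one, mul_one]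
          exact ((Nat.even_iff.2 ea3).add (Nat.even_iff.2 eb3)).add hN.2.1
        · rw [mul_coeff_zero, mul_coeff_zero, coeff_zero_eq_eval_zero ((X - C (1 : F)) ^ _),
            coeff_zero_eq_eval_zero ((X - C (-1 : F)) ^ _), eval_pow, eval_pow, eval_sub, eval_sub, eval_X, eval_C,
            eval_C, hN.2.2, zero_sub, zero_sub, neg_neg, one_pow, (Nat.even_iff.2 ea3).neg_one_pow, one_mul, one_mul]
      have hd : d = a + b + N.natDegree := by
        rw [← hdeg, hpN, ((((monic_X_sub_C (1 : F)).pow _).mul ((monic_X_sub_C _).pow _))).natDegree_mul hN.1.1.1,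
          ((monic_X_sub_C (1 : F)).pow _).natDegree_mul ((monic_X_sub_C _).pow _), natDegree_pow, natDegree_pow,
          natDegree_X_sub_C, natDegree_X_sub_C, mul_one, mul_one]
      have hw : wt r = wa + wb := rfl
      refine ⟨⟨⟨r, by omega⟩, ⟨_, hM, ?_⟩⟩, ?_⟩
      · rw [((((monic_X_sub_C (1 : F)).pow _).mul ((monic_X_sub_C _).pow _))).natDegree_mul hN.1.1.1,
            ((monic_X_sub_C (1 : F)).pow _).natDegree_mul ((monic_X_sub_C _).pow _), natDegree_pow, natDegree_pow,
            natDegree_X_sub_C, natDegree_X_sub_C, mul_one, mul_one]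
        show a - wa + (b - wb) + N.natDegree = d - wt r
        omega
      · refine Prod.ext ?_ (Prod.ext ea1 eb1)
        show (X - C (1 : F)) ^ wa * (X - C (-1)) ^ wb *
          ((X - C 1) ^ (a - wa) * (X - C (-1)) ^ (b - wb) * N) = p
        rw [hpN, show a = wa + (a - wa) by omega, show b = wb + (b - wb) by omega, pow_add, pow_add]
        simp only [Nat.add_sub_cancel_left]
        ring
    choose g hg using hsub
    haveI : Finite src := inferInstance
    refine le_trans (Nat.card_le_card_of_injective g fun x y h => Subtype.ext (by rw [← hg x, ← hg y, h])) ?_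
    rw [Nat.card_sigma]
    refine le_trans (Finset.sum_le_sum fun r _ => card_plain (d - wt r.1)) ?_
    refine le_of_eq ?_
    rw [← Finset.sum_subtype (Finset.univ.filter fun r : Rd => wt r ≤ d) (by simp)
      (fun r => if (d - wt r) % 2 = 0 then Fintype.card F ^ ((d - wt r) / 2) else 0), Finset.sum_filter]
    refine Finset.sum_congr rfl fun r _ => ?_
    by_cases hr : wt r ≤ d <;> simp [hr]

/-- decorated tuples with levels `s, s+1, …` -/
abbrev DT (F : Type u) [Field F] (dd : ℕ → Bool) (s k m : ℕ) : Type u :=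
  {h : Fin k → F[X] × (Bool × Bool) //
    (∀ j : Fin k, DOk dd (s + (j : ℕ)) (h j)) ∧ ∑ j : Fin k, (s + (j : ℕ)) * (h j).1.natDegree = m}

theorem card_DT_le (h2 : (2 : F) ≠ 0) (dd : ℕ → Bool) : ∀ k s, 1 ≤ s → ∀ m,
    Finite (DT F dd s k m) ∧ Nat.card (DT F dd s k m) ≤ tot (Fintype.card F) dd s k m := by
  classical
  intro k
  induction k with
  | zero =>
    intro s _ m
    haveI : Subsingleton (DT F dd s 0 m) := ⟨fun a b => Subtype.ext (funext fun j => j.elim0)⟩
    refine ⟨inferInstance, ?_⟩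
    by_cases hm : m = 0
    · simp only [tot, hm, if_true]
      exact Finite.card_le_one_iff_subsingleton.2 inferInstance
    · haveI : IsEmpty (DT F dd s 0 m) := ⟨fun a => hm (by simpa using a.2.2.symm)⟩
      simp
  | succ k ih =>
    intro s hs m
    haveI := fun j => (ih (s + 1) (by omega) j).1
    haveI := fun d => finite_DOk (F := F) dd s d
    let D := (Finset.range (m + 1)).filter fun d => d * s ≤ m
    let S := Σ d : D, {x : F[X] × (Bool × Bool) // DOk dd s x ∧ x.1.natDegree = (d : ℕ)} ×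
      DT F dd (s + 1) k (m - (d : ℕ) * s)
    have hsum : ∀ h : DT F dd s (k + 1) m, (h.1 0).1.natDegree * s +
        ∑ j : Fin k, (s + 1 + (j : ℕ)) * (h.1 j.succ).1.natDegree = m := by
      intro h
      refine Eq.trans ?_ h.2.2
      rw [Fin.sum_univ_succ, Fin.val_zero, add_zero, mul_comm s]
      exact congrArg _ (Finset.sum_congr rfl fun j _ => by rw [Fin.val_succ, add_right_comm, add_assoc])
    let f : DT F dd s (k + 1) m → S := fun h =>
      ⟨⟨(h.1 0).1.natDegree, by
          have := hsum h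
          have h2 : (h.1 0).1.natDegree * 1 ≤ (h.1 0).1.natDegree * s := Nat.mul_le_mul_left _ hs
          exact Finset.mem_filter.2 ⟨Finset.mem_range.2 (by omega), by omega⟩⟩,
        ⟨⟨h.1 0, by simpa using h.2.1 0, rfl⟩, ⟨fun j => h.1 j.succ,
          fun j => by simpa [add_comm, add_left_comm] using h.2.1 j.succ, by
          have := hsum h
          show _ = m - (h.1 0).1.natDegree * s
          exact Nat.eq_sub_of_add_eq (by rw [add_comm]; exact this)⟩⟩⟩
    have hf : Function.Injective f := by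
      intro a b hab
      have h1 := congrArg (fun t : S => t.2.1.1) hab
      have h2 := congrArg (fun t : S => t.2.2.1) hab
      refine Subtype.ext (funext fun j => ?_)
      refine Fin.cases ?_ (fun i => ?_) j
      · exact h1
      · exact congrFun h2 i
    refine ⟨Finite.of_injective f hf, (Nat.card_le_card_of_injective f hf).trans ?_⟩
    rw [Nat.card_sigma, tot, ← Finset.sum_filter]
    rw [← Finset.sum_coe_sort D fun d => cLev (Fintype.card F) dd s d * tot (Fintype.card F) dd (s + 1) k (m - d * s)]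
    refine Finset.sum_le_sum fun d _ => ?_
    rw [Nat.card_prod]
    exact Nat.mul_le_mul (card_DOk h2 dd s d) (ih _ (by omega) _).2

variable {δ : F} {n : ℕ}

/-- weights of the tuples with a property are bounded by decorated tuples with it -/
theorem sum_pow_sig_where_le (h2 : (2 : F) ≠ 0) (dd : ℕ → Bool) (hdd : ∀ s, 1 ≤ s → (dd s = true ↔ sign δ s))
    (P : (Fin n → F[X]) → Prop) :
    ∑ᶠ t : {t : OkT δ n // P t.1}, 2 ^ sig δ t.1.1 ≤
      Nat.card {h : DT F dd 1 n n // P fun j => (h.1 j).1} := by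
  classical
  haveI := finite_OkT δ n
  haveI := (card_DT_le (F := F) h2 dd n 1 le_rfl n).1
  haveI : Fintype {t : OkT δ n // P t.1} := Fintype.ofFinite _
  rw [finsum_eq_sum_of_fintype]
  let S := fun t : {t : OkT δ n // P t.1} => {x : Fin n × Bool //
    sign δ ((x.1 : ℕ) + 1) ∧ (t.1.1 x.1).eval (if x.2 then 1 else -1) = 0}
  have hS : ∀ t, 2 ^ sig δ t.1.1 = Fintype.card (S t → Bool) := fun t => by
    rw [Fintype.card_fun, Fintype.card_bool, Fintype.card_subtype, sig]
  rw [Finset.sum_congr rfl fun t _ => hS t, ← Fintype.card_sigma, ← Nat.card_eq_fintype_card]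
  let g : (Σ t : {t : OkT δ n // P t.1}, (S t → Bool)) → Fin n × Bool → Bool := fun z x =>
    if h : sign δ ((x.1 : ℕ) + 1) ∧ (z.1.1.1 x.1).eval (if x.2 then 1 else -1) = 0 then z.2 ⟨x, h⟩ else false
  have hplain : ∀ (z : Σ t : {t : OkT δ n // P t.1}, (S t → Bool)) (j : Fin n), DOk dd (1 + (j : ℕ)) (z.1.1.1 j, (g z (j, true), g z (j, false))) := by
    intro z j
    obtain ⟨hfix, heven⟩ := z.1.1.2.1 j
    unfold DOk
    by_cases hs : sign δ ((j : ℕ) + 1)
    · rw [if_pos ((hdd _ (by omega)).2 (by rw [add_comm]; exact hs))]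
      refine ⟨hfix, fun h => ?_, fun h => ?_⟩
      · by_contra hne
        simp [g, hne] at h
      · by_contra hne
        simp [g, hne] at h
    · rw [if_neg fun h => hs (by rw [add_comm]; exact (hdd _ (by omega)).1 h)]
      refine ⟨?_, ?_⟩
      · obtain ⟨N, hN, hpN⟩ := exists_split h2 hfix
        obtain ⟨ha, hb⟩ := heven hs
        refine ⟨hfix, ?_, ?_⟩
        · rw [hpN, ((((monic_X_sub_C (1 : F)).pow _).mul ((monic_X_sub_C _).pow _))).natDegree_mul hN.1.1.1,
            ((monic_X_sub_C (1 : F)).pow _).natDegree_mul ((monic_X_sub_C _).pow _), natDegree_pow, natDegree_pow,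
            natDegree_X_sub_C, natDegree_X_sub_C, mul_one, mul_one]
          exact (ha.add hb).add hN.2.1
        · show (z.1.1.1 j).coeff 0 = 1
          rw [hpN, mul_coeff_zero, mul_coeff_zero, coeff_zero_eq_eval_zero ((X - C (1 : F)) ^ _),
            coeff_zero_eq_eval_zero ((X - C (-1 : F)) ^ _), eval_pow, eval_pow, eval_sub, eval_sub, eval_X, eval_C,
            eval_C, hN.2.2, zero_sub, zero_sub, neg_neg, one_pow, ha.neg_one_pow, one_mul, one_mul]
      · simp [g, hs]
  refine Nat.card_le_card_of_injective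
    (fun z => (⟨⟨fun j => (z.1.1.1 j, (g z (j, true), g z (j, false))), hplain z, by
      simpa [add_comm] using z.1.1.2.2⟩, z.1.2⟩ : {h : DT F dd 1 n n // P fun j => (h.1 j).1})) ?_
  rintro ⟨t, a⟩ ⟨t', a'⟩ h
  have h0 := congrArg Subtype.val (congrArg Subtype.val h)
  have ht : t = t' := Subtype.ext <| Subtype.ext (funext fun j => congrArg Prod.fst (congrFun h0 j))
  subst ht
  refine Sigma.ext rfl (heq_of_eq (funext fun ⟨⟨j, b⟩, hx⟩ => ?_))
  have h1 := congrArg Prod.snd (congrFun h0 j)
  cases b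
  · have := congrArg Prod.snd h1
    simp only [g, dif_pos hx] at this
    exact this
  · have := congrArg Prod.fst h1
    simp only [g, dif_pos hx] at this
    exact this

/-- all weights together are bounded by the decorated count -/
theorem sum_pow_sig_le (h2 : (2 : F) ≠ 0) (dd : ℕ → Bool) (hdd : ∀ s, 1 ≤ s → (dd s = true ↔ sign δ s)) :
    ∑ᶠ t : OkT δ n, 2 ^ sig δ t.1 ≤ tot (Fintype.card F) dd 1 n n := by
  obtain ⟨hfin, hcard⟩ := card_DT_le (F := F) h2 dd n 1 le_rfl n
  refine le_trans (le_of_eq ?_) ((sum_pow_sig_where_le h2 dd hdd (fun _ => True)).trans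
    ((Finite.card_subtype_le _).trans hcard))
  exact (finsum_comp_equiv (Equiv.subtypeUnivEquiv (p := fun _ : OkT δ n => True) fun _ => trivial)).symm

/-- with a fixed discriminant -/
theorem sum_pow_sig_pred_le (h2 : (2 : F) ≠ 0) (dd : ℕ → Bool) (hdd : ∀ s, 1 ≤ s → (dd s = true ↔ sign δ s)) :
    2 * (∑ᶠ t : OkT δ n, 2 ^ (sig δ t.1 - 1)) ≤
      tot (Fintype.card F) dd 1 n n + tot (Fintype.card F) (fun _ => false) 1 n n := by
  classical
  haveI := finite_OkT δ n
  haveI : Fintype (OkT δ n) := Fintype.ofFinite _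
  obtain ⟨hfin, hcard⟩ := card_DT_le (F := F) h2 (fun _ => false) n 1 le_rfl n
  refine le_trans ?_ (add_le_add (sum_pow_sig_le h2 dd hdd) hcard)
  simp only [finsum_eq_sum_of_fintype, Finset.mul_sum]
  have h : ∀ t : OkT δ n, 2 * 2 ^ (sig δ t.1 - 1) = 2 ^ sig δ t.1 + (if sig δ t.1 = 0 then 1 else 0) := by
    intro t
    rcases Nat.eq_zero_or_pos (sig δ t.1) with h0 | h0
    · simp [h0]
    · rw [if_neg h0.ne', add_zero, ← pow_succ', Nat.sub_add_cancel h0]
  rw [Finset.sum_congr rfl fun t _ => h t, Finset.sum_add_distrib]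
  refine Nat.add_le_add_left ?_ _
  rw [Finset.sum_boole, Nat.cast_id, ← Fintype.card_subtype, ← Nat.card_eq_fintype_card]
  have hplain : ∀ (t : {t : OkT δ n // sig δ t.1 = 0}) (j : Fin n), Plain (t.1.1 j) := by
    rintro ⟨t, ht⟩ j
    obtain ⟨hfix, heven⟩ := t.2.1 j
    obtain ⟨N, hN, hpN⟩ := exists_split h2 hfix
    have hev : Even ((t.1 j).rootMultiplicity 1) ∧ Even ((t.1 j).rootMultiplicity (-1)) := by
      by_cases hs : sign δ ((j : ℕ) + 1)
      · rw [sig, Finset.card_eq_zero, Finset.filter_eq_empty_iff] at ht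
        have h1 := ht (x := (j, true)) (Finset.mem_univ _)
        have h1' := ht (x := (j, false)) (Finset.mem_univ _)
        simp only [not_and, if_true, Bool.false_eq_true, if_false] at h1 h1'
        rw [rootMultiplicity_eq_zero (h1 hs), rootMultiplicity_eq_zero (h1' hs)]
        exact ⟨⟨0, rfl⟩, ⟨0, rfl⟩⟩
      · exact heven hs
    refine ⟨hfix, ?_, ?_⟩
    · show Even (t.1 j).natDegree
      rw [hpN, ((((monic_X_sub_C (1 : F)).pow _).mul ((monic_X_sub_C _).pow _))).natDegree_mul hN.1.1.1,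
        ((monic_X_sub_C (1 : F)).pow _).natDegree_mul ((monic_X_sub_C _).pow _), natDegree_pow, natDegree_pow,
        natDegree_X_sub_C, natDegree_X_sub_C, mul_one, mul_one]
      exact (hev.1.add hev.2).add hN.2.1
    · show (t.1 j).coeff 0 = 1
      rw [hpN, mul_coeff_zero, mul_coeff_zero, coeff_zero_eq_eval_zero ((X - C (1 : F)) ^ _),
        coeff_zero_eq_eval_zero ((X - C (-1 : F)) ^ _), eval_pow, eval_pow, eval_sub, eval_sub, eval_X, eval_C,
        eval_C, hN.2.2, zero_sub, zero_sub, neg_neg, one_pow, hev.1.neg_one_pow, one_mul, one_mul]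
  refine Nat.card_le_card_of_injective
    (fun t => (⟨fun j => (t.1.1 j, (false, false)), fun j => ⟨hplain t j, rfl⟩, by
      simpa [add_comm] using t.1.2.2⟩ : DT F (fun _ => false) 1 n n)) ?_
  intro a b h
  exact Subtype.ext (Subtype.ext (funext fun j => congrArg Prod.fst (congrFun (congrArg Subtype.val h) j)))

end Cfsg.Agent.FormTuples53
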