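import Mathlib
import Cfsg.Agent.Lib.FormTuples53
import Cfsg.Agent.Lib.FormCountThree53

/-!
Tuples with both signs at most simple roots at the first level, over the field of three elements.
-/

set_option autoImplicit false

open Polynomial
open Cfsg.Agent.GLClassBound53 Cfsg.Agent.UnitaryPolys53

namespace Cfsg.Agent.FormLe1Count53

open Cfsg.Agent.FormSys53 Cfsg.Agent.FormMatrix53 Cfsg.Agent.FormTuples53
open Cfsg.Agent.FormCountThree53 (c t A A_mono)

universe u

variable {F : Type u} [Field F]

/-- both signs are at most simple roots -/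
def Le1 (p : F[X]) : Prop := p.rootMultiplicity 1 ≤ 1 ∧ p.rootMultiplicity (-1) ≤ 1

/-- plain, of degree `2i`, without roots at the signs -/
abbrev Rt (F : Type u) [Field F] (i : ℕ) : Type u :=
  {p : F[X] // (Plain p ∧ p.natDegree = 2 * i) ∧ p.eval 1 ≠ 0 ∧ p.eval (-1) ≠ 0}

theorem sym_coeff {i : ℕ} (x : Rt F i) {j : ℕ} (hj : j ≤ 2 * i) : x.1.coeff j = x.1.coeff (2 * i - j) := by
  have e := congrArg (fun t : F[X] => t.coeff j) x.2.1.1.1.2
  simp only [coeff_tau, x.2.1.2, revAt_le hj, x.2.1.1.2.2, RingHom.id_apply, inv_one, one_mul] at e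
  exact e.symm

theorem exists_split_le1 (h2 : (2 : F) ≠ 0) {p : F[X]} (hp : Fixed (RingHom.id F) p) (hle : Le1 p) :
    ∃ (i : ℕ) (N : Rt F i),
      p = (X - C 1) ^ p.rootMultiplicity 1 * (X - C (-1)) ^ p.rootMultiplicity (-1) * N.1 ∧
      p.natDegree = p.rootMultiplicity 1 + p.rootMultiplicity (-1) + 2 * i := by
  obtain ⟨N, hN, hpN⟩ := exists_split h2 hp
  have hne := hp.1.1.ne_zero
  obtain ⟨i, hi⟩ := hN.2.1
  have h1ne : (1 : F) ≠ -1 := fun h => h2 (by linear_combination h)
  have hm : ∀ ε, p.rootMultiplicity ε = ((X - C (1 : F)) ^ p.rootMultiplicity 1 *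
      (X - C (-1)) ^ p.rootMultiplicity (-1)).rootMultiplicity ε + N.rootMultiplicity ε := by
    intro ε
    conv_lhs => rw [hpN]
    exact rootMultiplicity_mul (by rw [← hpN]; exact hne)
  have hprod : ((X - C (1 : F)) ^ p.rootMultiplicity 1 * (X - C (-1)) ^ p.rootMultiplicity (-1)) ≠ 0 :=
    mul_ne_zero (pow_ne_zero _ (X_sub_C_ne_zero _)) (pow_ne_zero _ (X_sub_C_ne_zero _))
  refine ⟨i, ⟨N, ⟨hN, by omega⟩, fun h => ?_, fun h => ?_⟩, hpN, ?_⟩
  · have h' := hm 1
    rw [rootMultiplicity_mul hprod, rootMultiplicity_X_sub_C_pow,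
      rootMultiplicity_eq_zero (p := (X - C (-1 : F)) ^ _) (by
        rw [IsRoot.def, eval_pow, eval_sub, eval_X, eval_C]; exact pow_ne_zero _ (sub_ne_zero.2 h1ne))] at h'
    have := (rootMultiplicity_pos hN.1.1.1.ne_zero).2 h
    omega
  · have h' := hm (-1)
    rw [rootMultiplicity_mul hprod, rootMultiplicity_X_sub_C_pow,
      rootMultiplicity_eq_zero (p := (X - C (1 : F)) ^ _) (by
        rw [IsRoot.def, eval_pow, eval_sub, eval_X, eval_C]; exact pow_ne_zero _ (sub_ne_zero.2 h1ne.symm))] at h'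
    have := (rootMultiplicity_pos hN.1.1.1.ne_zero).2 h
    omega
  · conv_lhs => rw [hpN, ((((monic_X_sub_C (1 : F)).pow _).mul ((monic_X_sub_C _).pow _))).natDegree_mul hN.1.1.1,
      ((monic_X_sub_C (1 : F)).pow _).natDegree_mul ((monic_X_sub_C _).pow _), natDegree_pow, natDegree_pow,
      natDegree_X_sub_C, natDegree_X_sub_C, mul_one, mul_one]
    omega

variable [Fintype F]

theorem finite_Rt (i : ℕ) : Finite (Rt F i) := by
  haveI := finite_plain (F := F) (2 * i)
  exact Finite.of_injective (fun p : Rt F i => (⟨p.1, p.2.1⟩ : {p : F[X] // Plain p ∧ p.natDegree = 2 * i}))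
    fun a b h => Subtype.ext (congrArg (fun z => z.1) h)

theorem card_Rt (h3 : Fintype.card F = 3) (h2 : (2 : F) ≠ 0) (i : ℕ) : 9 * Nat.card (Rt F i) ≤ c i := by
  classical
  haveI := finite_Rt (F := F) i
  haveI := finite_plain (F := F) (2 * i)
  have three : (3 : F) = 0 := by
    have := FiniteField.cast_card_eq_zero F
    rwa [h3, Nat.cast_ofNat] at this
  rcases i with _ | _ | i
  · have : Nat.card (Rt F 0) ≤ 1 := by
      refine (Nat.card_le_card_of_injective (fun p : Rt F 0 => (⟨p.1, p.2.1⟩ : {p : F[X] // Plain p ∧ p.natDegree = 2 * 0}))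
        fun a b h => Subtype.ext (congrArg (fun z => z.1) h)).trans ((card_plain _).trans ?_)
      simp
    simp only [c, if_true]
    omega
  · have hsub : Subsingleton (Rt F 1) := by
      have key : ∀ p : Rt F 1, p.1.coeff 1 = 0 := by
        intro p
        by_contra hc
        have e : p.1 = X ^ 2 + C (p.1.coeff 1) * X + 1 := by
          refine Polynomial.ext fun j => ?_
          rcases j with _ | _ | _ | j
          · simp [p.2.1.1.2.2]
          · simp [coeff_one, coeff_X_pow]
          · have := sym_coeff p (j := 2) le_rfl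
            rw [this]
            simp [p.2.1.1.2.2, coeff_one, coeff_X]
          · rw [coeff_eq_zero_of_natDegree_lt (by rw [p.2.1.2]; omega)]
            simp [coeff_one, coeff_X, coeff_X_pow]
        have hsq : p.1.coeff 1 ^ 2 = 1 := by
          have := FiniteField.pow_card_sub_one_eq_one _ hc
          rwa [h3] at this
        obtain ⟨h1, h1'⟩ := p.2.2
        rw [e] at h1 h1'
        simp only [eval_add, eval_pow, eval_X, eval_mul, eval_C, eval_one] at h1 h1'
        exact mul_ne_zero h1 h1' (by linear_combination -hsq + three)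
      refine ⟨fun a b => Subtype.ext (Polynomial.ext fun j => ?_)⟩
      rcases j with _ | _ | _ | j
      · rw [a.2.1.1.2.2, b.2.1.1.2.2]
      · rw [key, key]
      · rw [sym_coeff a (j := 2) le_rfl, sym_coeff b (j := 2) le_rfl]
        simp [a.2.1.1.2.2, b.2.1.1.2.2]
      · rw [coeff_eq_zero_of_natDegree_lt (by rw [a.2.1.2]; omega),
          coeff_eq_zero_of_natDegree_lt (by rw [b.2.1.2]; omega)]
    have := Finite.card_le_one_iff_subsingleton.2 hsub
    simp only [c]
    norm_num
    omega
  · refine le_trans (Nat.mul_le_mul_left 9 (Nat.card_le_card_of_injective (β := (Fin i → F) × (Fˣ × Fˣ))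
      (fun p => (fun j => p.1.coeff ((j : ℕ) + 1), (Units.mk0 _ p.2.2.1, Units.mk0 _ p.2.2.2))) fun p r h => ?_)) ?_
    · simp only [Prod.mk.injEq, Units.mk0_inj] at h
      obtain ⟨hc, he1, he2⟩ := h
      have low : ∀ j, j ≤ i → p.1.coeff j = r.1.coeff j := by
        intro j hj
        rcases j with _ | j
        · rw [p.2.1.1.2.2, r.2.1.1.2.2]
        · exact congrFun hc ⟨j, by omega⟩
      set α := p.1.coeff (i + 1) - r.1.coeff (i + 1) with hα
      set β := p.1.coeff (i + 2) - r.1.coeff (i + 2) with hβ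
      have e : p.1 - r.1 = C α * X ^ (i + 1) + C β * X ^ (i + 2) + C α * X ^ (i + 3) := by
        refine Polynomial.ext fun j => ?_
        simp only [coeff_sub, coeff_add, coeff_C_mul, coeff_X_pow]
        by_cases h1 : j = i + 1
        · subst h1; simp [hα]
        by_cases h2' : j = i + 2
        · subst h2'; simp [hβ]
        by_cases h3' : j = i + 3
        · subst h3'
          rw [sym_coeff p (j := i + 3) (by omega), sym_coeff r (j := i + 3) (by omega),
            show 2 * (i + 2) - (i + 3) = i + 1 by omega]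
          simp [hα]
        rw [if_neg h1, if_neg h2', if_neg h3']
        simp only [mul_zero, add_zero]
        by_cases hj : j ≤ i
        · rw [low j hj, sub_self]
        by_cases hj' : j ≤ 2 * (i + 2)
        · rw [sym_coeff p hj', sym_coeff r hj', low _ (by omega), sub_self]
        · rw [coeff_eq_zero_of_natDegree_lt (by rw [p.2.1.2]; omega),
            coeff_eq_zero_of_natDegree_lt (by rw [r.2.1.2]; omega), sub_self]
      have f1 : 2 * α + β = 0 := by
        have := congrArg (Polynomial.eval 1) e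
        simp only [eval_sub, he1, sub_self, eval_add, eval_mul, eval_C, eval_pow, eval_X, one_pow] at this
        linear_combination -this
      have f2 : -2 * α + β = 0 := by
        have := congrArg (Polynomial.eval (-1)) e
        simp only [eval_sub, he2, sub_self, eval_add, eval_mul, eval_C, eval_pow, eval_X] at this
        have h' : (-1 : F) ^ i * (-2 * α + β) = 0 := by rw [pow_add, pow_add, pow_add] at this; linear_combination -this
        exact (mul_eq_zero.1 h').resolve_left (pow_ne_zero _ (neg_ne_zero.2 one_ne_zero))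
      have ha : α = 0 := by
        have h' : (2 * 2) * α = 0 := by linear_combination f1 - f2
        exact (mul_eq_zero.1 h').resolve_left (mul_ne_zero h2 h2)
      rw [ha, mul_zero, zero_add] at f1
      rw [ha, f1, C_0, zero_mul, zero_mul, zero_mul, add_zero, add_zero, sub_eq_zero] at e
      exact Subtype.ext e
    · have hu : Fintype.card Fˣ = 2 := by rw [Fintype.card_units, h3]
      rw [Nat.card_eq_fintype_card, Fintype.card_prod, Fintype.card_prod, Fintype.card_fun, Fintype.card_fin, hu, h3,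
        c, if_neg (by omega)]
      rw [pow_succ, pow_succ]
      omega

/-- encoded root at a sign -/
def optw : Option Bool → ℕ := fun o => o.elim 0 fun _ => 1

/-- decode -/
noncomputable def mkp {i : ℕ} (o : Option Bool × Option Bool) (N : Rt F i) : F[X] × (Bool × Bool) :=
  ((X - C 1) ^ optw o.1 * (X - C (-1)) ^ optw o.2 * N.1, (o.1.getD false, o.2.getD false))

/-- nine times the restricted weight count -/
theorem card_le (h3 : Fintype.card F = 3) (h2 : (2 : F) ≠ 0) (m k : ℕ) :
    9 * Nat.card {h : DT F (fun s => s % 2 == 1) 1 (k + 1) (2 * m + 1) // Le1 (h.1 0).1} ≤ FormCountThree53.X k m := by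
  classical
  set dd : ℕ → Bool := fun s => s % 2 == 1 with hdd
  haveI := fun j => (card_DT_le (F := F) h2 dd k 2 (by norm_num) j).1
  haveI := finite_Rt (F := F)
  let I := {z : Fin (m + 1) × (Option Bool × Option Bool) // optw z.2.1 + optw z.2.2 + 2 * (z.1 : ℕ) ≤ 2 * m + 1}
  let S := Σ z : I, Rt F (z.1.1 : ℕ) × DT F dd 2 k (2 * m + 1 - (optw z.1.2.1 + optw z.1.2.2 + 2 * (z.1.1 : ℕ)))
  let T := {h : DT F dd 1 (k + 1) (2 * m + 1) // Le1 (h.1 0).1}
  let dec : S → (Fin (k + 1) → F[X] × (Bool × Bool)) := fun y => Fin.cons (mkp y.1.1.2 y.2.1) y.2.2.1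
  have hsub : ∀ h : T, ∃ y : S, dec y = h.1.1 := by
    rintro ⟨⟨h, hok, hsum⟩, hle⟩
    simp only at hle
    have h0 := hok 0
    rw [Fin.val_zero, add_zero, DOk, if_pos (by rfl)] at h0
    obtain ⟨hfix, hs1, hs2⟩ := h0
    obtain ⟨i, N, hN, hdeg⟩ := exists_split_le1 h2 hfix hle
    set p := (h 0).1 with hp
    let o : Option Bool × Option Bool :=
      (if p.rootMultiplicity 1 = 1 then some (h 0).2.1 else none,
        if p.rootMultiplicity (-1) = 1 then some (h 0).2.2 else none)
    have hne := hfix.1.1.ne_zero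
    have ea : optw o.1 = p.rootMultiplicity 1 ∧ o.1.getD false = (h 0).2.1 := by
      have := hle.1
      by_cases hc : p.rootMultiplicity 1 = 1
      · simp [o, optw, hc]
      · refine ⟨by simp [o, optw, hc]; omega, ?_⟩
        simp only [o, if_neg hc, Option.getD_none]
        symm
        by_contra hb
        have := (rootMultiplicity_pos hne).2 (hs1 (Bool.not_eq_false _ ▸ hb))
        omega
    have eb : optw o.2 = p.rootMultiplicity (-1) ∧ o.2.getD false = (h 0).2.2 := by
      have := hle.2
      by_cases hc : p.rootMultiplicity (-1) = 1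
      · simp [o, optw, hc]
      · refine ⟨by simp [o, optw, hc]; omega, ?_⟩
        simp only [o, if_neg hc, Option.getD_none]
        symm
        by_contra hb
        have := (rootMultiplicity_pos hne).2 (hs2 (Bool.not_eq_false _ ▸ hb))
        omega
    have hrest : p.natDegree + ∑ j : Fin k, (2 + (j : ℕ)) * (h j.succ).1.natDegree = 2 * m + 1 := by
      refine Eq.trans ?_ hsum
      rw [Fin.sum_univ_succ, Fin.val_zero, add_zero, one_mul]
      exact congrArg _ (Finset.sum_congr rfl fun j _ => by rw [Fin.val_succ]; ring_nf)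
    refine ⟨⟨⟨(⟨i, by omega⟩, o), by simp only; omega⟩, (N, ⟨fun j => h j.succ, fun j => ?_, ?_⟩)⟩, ?_⟩
    · have := hok j.succ
      rw [Fin.val_succ] at this
      rwa [show 2 + (j : ℕ) = 1 + ((j : ℕ) + 1) by omega]
    · show ∑ j : Fin k, (2 + (j : ℕ)) * (h j.succ).1.natDegree = 2 * m + 1 - (optw o.1 + optw o.2 + 2 * i)
      omega
    · funext j
      refine Fin.cases ?_ (fun j => ?_) j
      · show (dec _) 0 = h 0
        simp only [dec, Fin.cons_zero, mkp]
        rw [ea.1, eb.1, ea.2, eb.2, ← hN]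
      · simp only [dec, Fin.cons_succ]
  choose g hg using hsub
  haveI : Finite S := inferInstance
  refine le_trans (Nat.mul_le_mul_left 9 (Nat.card_le_card_of_injective g fun a b hab =>
    Subtype.ext (Subtype.ext (by rw [← hg a, ← hg b, hab])))) ?_
  rw [Nat.card_sigma, Finset.mul_sum]
  refine le_trans (Finset.sum_le_sum fun z _ => (?_ :
    _ ≤ c (z.1.1 : ℕ) * t k (2 * m + 1 - (optw z.1.2.1 + optw z.1.2.2 + 2 * (z.1.1 : ℕ))))) ?_
  · rw [Nat.card_prod, ← mul_assoc]
    refine Nat.mul_le_mul (card_Rt h3 h2 _) ((card_DT_le h2 dd k 2 (by norm_num) _).2.trans (le_of_eq ?_))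
    rw [h3]; rfl
  refine le_of_eq ?_
  let G : Fin (m + 1) × (Option Bool × Option Bool) → ℕ := fun z =>
    c (z.1 : ℕ) * t k (2 * m + 1 - (optw z.2.1 + optw z.2.2 + 2 * (z.1 : ℕ)))
  show ∑ z : I, G z.1 = FormCountThree53.X k m
  rw [← Finset.sum_subtype (Finset.univ.filter fun z : Fin (m + 1) × (Option Bool × Option Bool) =>
      optw z.2.1 + optw z.2.2 + 2 * (z.1 : ℕ) ≤ 2 * m + 1) (by simp) G,
    Finset.sum_filter, Fintype.sum_prod_type, FormCountThree53.X, ← Fin.sum_univ_eq_sum_range (fun i => c i * A k (m - i)) (m + 1)]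
  refine Finset.sum_congr rfl fun i _ => ?_
  have := i.2
  simp only [Fintype.sum_prod_type, Fintype.sum_option, Fintype.sum_bool, optw, Option.elim, G]
  unfold A
  simp only [show 2 * m + 1 - (0 + 0 + 2 * (i : ℕ)) = 2 * (m - i) + 1 by omega,
    show 2 * m + 1 - (0 + 1 + 2 * (i : ℕ)) = 2 * (m - i) by omega,
    show 2 * m + 1 - (1 + 0 + 2 * (i : ℕ)) = 2 * (m - i) by omega,
    show 2 * m + 1 - (1 + 1 + 2 * (i : ℕ)) = 2 * (m - i) - 1 by omega,
    show 0 + 0 + 2 * (i : ℕ) ≤ 2 * m + 1 by omega, show 0 + 1 + 2 * (i : ℕ) ≤ 2 * m + 1 by omega,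
    show 1 + 0 + 2 * (i : ℕ) ≤ 2 * m + 1 by omega, if_true]
  by_cases hi : m - (i : ℕ) = 0
  · simp only [if_pos hi, if_neg (show ¬ 1 + 1 + 2 * (i : ℕ) ≤ 2 * m + 1 by omega)]
    ring
  · simp only [if_neg hi, if_pos (show 1 + 1 + 2 * (i : ℕ) ≤ 2 * m + 1 by omega)]
    ring

end Cfsg.Agent.FormLe1Count53
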