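import Mathlib
import Cfsg.Agent.Lib.NormHilbert90
import Cfsg.Agent.Lib.SymplecticAlt

/-!
Over a finite field, two nondegenerate alternating forms invariant under an element of order prime
to the characteristic differ by an isomorphism commuting with it.
-/

set_option autoImplicit false

namespace Cfsg.Agent.SympSemisimpleForms

open LinearMap (BilinForm)

universe u v

variable {F : Type u} [Field F] {V : Type v} [AddCommGroup V] [Module F V]

/-- alternating, nondegenerate and invariant under `A` -/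
structure Good (A : Module.End F V) (B : BilinForm F V) : Prop where
  alt : ∀ x, B x x = 0
  nondeg : ∀ x, (∀ y, B x y = 0) → x = 0
  inv : ∀ x y, B (A x) (A y) = B x y

/-- the conclusion -/
def Isom (A : Module.End F V) (B B' : BilinForm F V) : Prop :=
  ∃ T : Module.End F V, T * A = A * T ∧ ∀ x y, B (T x) (T y) = B' x y

theorem swap {B : BilinForm F V} (h : ∀ x, B x x = 0) (x y : V) : B x y = - B y x := by
  have := h (x + y)
  simp only [map_add, LinearMap.add_apply, h x, h y, zero_add, add_zero] at this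
  exact eq_neg_of_add_eq_zero_left (by rwa [add_comm] at this)

/-- If `A` has no eigenvalue `±1`, both forms differ by an element of the commutative algebra
generated by `A` and the quotient of the forms. -/
theorem isom_regular [Finite F] [FiniteDimensional F V] {A : Module.End F V} {N : ℕ}
    (hN : 0 < N) (hA : A ^ N = 1) (hfix : ∀ x, A (A x) = x → x = 0) {B B' : BilinForm F V}
    (hB : Good A B) (hB' : Good A B') : Isom A B B' := by
  haveI : Finite V := Module.finite_of_finite F
  haveI : Finite (Module.End F V) := Finite.of_injective _ DFunLike.coe_injective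
  obtain ⟨k, rfl⟩ : ∃ k, N = k + 1 := ⟨N - 1, by omega⟩
  have hAl : ∀ x, (A ^ k) (A x) = x := fun x => by
    rw [← Module.End.mul_apply, ← pow_succ, hA]; rfl
  have hAr : ∀ x, A ((A ^ k) x) = x := fun x => by
    rw [← Module.End.mul_apply, ← pow_succ', hA]; rfl
  have hb : B.Nondegenerate :=
    ⟨fun x h => hB.nondeg x h, fun y h => hB.nondeg y fun x => by rw [swap hB.alt]; simp [h x]⟩
  have hext : ∀ f g : Module.End F V, (∀ x y, B (f x) y = B (g x) y) → f = g := fun f g h => by
    refine LinearMap.ext fun x => sub_eq_zero.1 (hB.nondeg _ fun y => ?_)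
    simp [h x y]
  let τ : Module.End F V → Module.End F V := fun φ => B.leftAdjointOfNondegenerate hb φ
  have hτ : ∀ φ x y, B (τ φ x) y = B x (φ y) := fun φ x y =>
    B.isAdjointPairLeftAdjointOfNondegenerate hb φ x y
  have hττ : ∀ φ, τ (τ φ) = φ := fun φ => hext _ _ fun x y => by
    rw [hτ, swap hB.alt, hτ, ← swap hB.alt]
  have hτadd : ∀ f g, τ (f + g) = τ f + τ g := fun f g => hext _ _ fun x y => by simp [hτ]
  have hτmul : ∀ f g, τ (f * g) = τ g * τ f := fun f g => hext _ _ fun x y => by
    rw [hτ, Module.End.mul_apply, Module.End.mul_apply, hτ, hτ]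
  have hτalg : ∀ c : F, τ (algebraMap F _ c) = algebraMap F _ c := fun c => hext _ _ fun x y => by
    simp [hτ]
  obtain ⟨S, hS⟩ : ∃ S : Module.End F V, ∀ x y, B (S x) y = B' x y :=
    ⟨B'.symmCompOfNondegenerate B hb, fun x y => B'.symmCompOfNondegenerate_left_apply hb y x⟩
  have hτA : τ A = A ^ k := hext _ _ fun x y => by
    rw [hτ, ← hB.inv ((A ^ k) x) y, hAr]
  have hτS : τ S = S := hext _ _ fun x y => by
    rw [hτ, hS, swap hB.alt, hS, ← swap hB'.alt]
  have hSA : A * S = S * A := hext _ _ fun x y => by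
    rw [← hAr y]
    simp only [Module.End.mul_apply]
    rw [hB.inv, hS, hS, hB'.inv]
  let R := Algebra.adjoin F ({A, S} : Set (Module.End F V))
  letI : CommRing R := Algebra.adjoinCommRingOfComm F (by
    rintro a (rfl | rfl) b (rfl | rfl) <;> first | rfl | exact hSA | exact hSA.symm)
  have hAR : A ∈ R := Algebra.subset_adjoin (by simp)
  have hSR : S ∈ R := Algebra.subset_adjoin (by simp)
  have hR : ∀ x ∈ R, τ x ∈ R := fun x hx => by
    induction hx using Algebra.adjoin_induction with
    | mem y hy =>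
      rcases hy with rfl | rfl
      · rw [hτA]; exact R.pow_mem hAR _
      · rw [hτS]; exact hSR
    | algebraMap c => rw [hτalg]; exact R.algebraMap_mem _
    | add y z _ _ hy hz => rw [hτadd]; exact R.add_mem hy hz
    | mul y z _ _ hy hz => rw [hτmul]; exact R.mul_mem hz hy
  let τR : R →+* R :=
    { toFun := fun x => ⟨τ x.1, hR x.1 x.2⟩
      map_one' := Subtype.ext (by simpa using hτalg 1)
      map_mul' := fun x y => by
        rw [mul_comm (⟨τ x.1, _⟩ : R)]
        exact Subtype.ext (hτmul x.1 y.1)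
      map_zero' := Subtype.ext (by simpa using hτalg 0)
      map_add' := fun x y => Subtype.ext (hτadd x.1 y.1) }
  have hunit : ∀ r : R, (∀ x, r.1 x = 0 → x = 0) → IsUnit r := fun r hr => by
    have hinj : Function.Injective fun z : R => r * z := fun a b h => by
      refine Subtype.ext (LinearMap.ext fun x => ?_)
      have h' : r.1 (a.1 x) = r.1 (b.1 x) := LinearMap.congr_fun (congrArg Subtype.val h) x
      exact sub_eq_zero.1 (hr _ (by rw [map_sub, h', sub_self]))
    obtain ⟨z, hz⟩ := Finite.injective_iff_surjective.1 hinj 1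
    exact IsUnit.of_mul_eq_one z hz
  let a : R := ⟨A, hAR⟩
  let s : R := ⟨S, hSR⟩
  have hc : IsUnit (a - τR a) := hunit _ fun x hx => by
    refine hfix x ?_
    have hx' : A x - τ A x = 0 := hx
    rw [sub_eq_zero, hτA] at hx'
    rw [hx', hAr]
  have hs : IsUnit s := hunit _ fun x hx => hB'.nondeg x fun y => by
    rw [← hS, show S x = 0 from hx]; simp
  obtain ⟨t, -, ht⟩ := NormHilbert90.exists_norm_eq τR (fun x => Subtype.ext (hττ x.1)) a hc s hs
    (Subtype.ext hτS)
  refine ⟨t.1, congrArg Subtype.val (mul_comm t a), fun x y => ?_⟩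
  rw [mul_comm] at ht
  rw [← hτ, ← Module.End.mul_apply, show τ t.1 * t.1 = S from congrArg Subtype.val ht, hS]

/-- A scalar `A`. -/
theorem isom_scalar [FiniteDimensional F V] {A : Module.End F V} {a : F} (ha : ∀ x, A x = a • x)
    {B B' : BilinForm F V} (hB : Good A B) (hB' : Good A B') : Isom A B B' := by
  have key : ∀ C : BilinForm F V, Good A C → ∃ k, Module.finrank F V = 2 * k ∧
      ∃ e : Fin k ⊕ Fin k → V,
        ∀ s t, C (e s) (e t) = sympForm k F (Pi.single s 1) (Pi.single t 1) := fun C hC => by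
    obtain ⟨k, hk, e, -, he⟩ := SymplecticAlt.exists_symp_basis C hC.alt _ ⊤ (finrank_top F V)
      (fun u _ h => hC.nondeg u fun v => h v trivial)
    exact ⟨k, hk, e, he⟩
  obtain ⟨k, hk, e, he⟩ := key B hB
  obtain ⟨k', hk', e', he'⟩ := key B' hB'
  obtain rfl : k = k' := by omega
  have hli : LinearIndependent F e' := by
    rw [Fintype.linearIndependent_iff]
    intro g hg s
    have hsum : ∀ t, B' (∑ j, g j • e' j) (e' t) = sympForm k F g (Pi.single t 1) := fun t => by
      simp only [map_sum, map_smul, LinearMap.sum_apply, LinearMap.smul_apply, he', smul_eq_mul]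
      conv_rhs => rw [show g = ∑ j, g j • Pi.single (M := fun _ => F) j 1 from by
        funext j; simp [Finset.sum_apply, Pi.single_apply]]
      simp [sympForm, sum_dotProduct, Finset.sum_apply]
    rcases s with i | i
    · simpa [hg, SymplecticBasic.form_single_inr_right] using (hsum (Sum.inr i)).symm
    · simpa [hg, SymplecticBasic.form_single_inl_right] using (hsum (Sum.inl i)).symm
  let b' := basisOfLinearIndependentOfCardEqFinrank' e' hli (by simp [hk, two_mul])
  have hb' : ∀ s, b' s = e' s := fun s => by simp [b', basisOfLinearIndependentOfCardEqFinrank']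
  refine ⟨b'.constr F e, LinearMap.ext fun x => by simp [ha], fun x y => ?_⟩
  have : B.compl₁₂ (b'.constr F e) (b'.constr F e) = B' := by
    refine LinearMap.ext_basis b' b' fun s t => ?_
    simp only [LinearMap.compl₁₂_apply, Module.Basis.constr_basis, he]
    rw [hb', hb', he']
  exact LinearMap.congr_fun₂ this x y

/-- Gluing along an orthogonal invariant decomposition. -/
theorem isom_glue {A : Module.End F V} {B B' : BilinForm F V} {W₁ W₂ : Submodule F V}
    (hc : IsCompl W₁ W₂) (hA₁ : ∀ x ∈ W₁, A x ∈ W₁) (hA₂ : ∀ x ∈ W₂, A x ∈ W₂)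
    (hB : ∀ x, B x x = 0) (hB' : ∀ x, B' x x = 0)
    (horth : ∀ x ∈ W₁, ∀ y ∈ W₂, B x y = 0 ∧ B' x y = 0)
    (h₁ : Isom (A.restrict hA₁) (B.restrict W₁) (B'.restrict W₁))
    (h₂ : Isom (A.restrict hA₂) (B.restrict W₂) (B'.restrict W₂)) : Isom A B B' := by
  obtain ⟨T₁, hT₁, hI₁⟩ := h₁
  obtain ⟨T₂, hT₂, hI₂⟩ := h₂
  let T : Module.End F V := LinearMap.ofIsCompl hc (W₁.subtype ∘ₗ T₁) (W₂.subtype ∘ₗ T₂)
  have hT : ∀ (u : W₁) (v : W₂), T (u + v) = (T₁ u : V) + T₂ v := fun u v => by simp [T]
  have hdec : ∀ x : V, ∃ (u : W₁) (v : W₂), x = u + v := fun x => by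
    obtain ⟨u, hu, v, hv, huv⟩ := Submodule.mem_sup.1 (hc.sup_eq_top ▸ Submodule.mem_top (x := x))
    exact ⟨⟨u, hu⟩, ⟨v, hv⟩, huv.symm⟩
  refine ⟨T, LinearMap.ext fun x => ?_, fun x y => ?_⟩
  · obtain ⟨u, v, rfl⟩ := hdec x
    have h1 : (T₁ (A.restrict hA₁ u) : V) = A (T₁ u : V) :=
      congrArg Subtype.val (LinearMap.congr_fun hT₁ u)
    have h2 : (T₂ (A.restrict hA₂ v) : V) = A (T₂ v : V) :=
      congrArg Subtype.val (LinearMap.congr_fun hT₂ v)
    have e : A (u + v : V) = (A.restrict hA₁ u : V) + (A.restrict hA₂ v : V) := by simp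
    simp only [Module.End.mul_apply]
    rw [e, hT, hT, map_add, h1, h2]
  · obtain ⟨u, v, rfl⟩ := hdec x
    obtain ⟨u', v', rfl⟩ := hdec y
    have hzero : ∀ (a : W₁) (b : W₂), B a b = 0 ∧ B b a = 0 ∧ B' a b = 0 ∧ B' b a = 0 := fun a b => by
      obtain ⟨h, h'⟩ := horth a a.2 b b.2
      exact ⟨h, by rw [swap hB]; simp [h], h', by rw [swap hB']; simp [h']⟩
    have e1 : B (T₁ u : V) (T₁ u' : V) = B' u u' := hI₁ u u'
    have e2 : B (T₂ v : V) (T₂ v' : V) = B' v v' := hI₂ v v'
    rw [hT, hT]
    simp only [map_add, LinearMap.add_apply, e1, e2, (hzero (T₁ u) (T₂ v')).1,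
      (hzero (T₁ u') (T₂ v)).2.1, (hzero u v').2.2.1, (hzero u' v).2.2.2]

theorem restrict_pow_eq_one {A : Module.End F V} {W : Submodule F V} (hW : ∀ x ∈ W, A x ∈ W)
    {N : ℕ} (hA : A ^ N = 1) : (A.restrict hW) ^ N = 1 := by
  rw [Module.End.pow_restrict]
  refine LinearMap.ext fun x => Subtype.ext ?_
  simp [hA]

/-- Split off the eigenspace of `a = ±1`. -/
theorem isom_split [FiniteDimensional F V] {A : Module.End F V} {N : ℕ} (hA : A ^ N = 1)
    (hN : (N : F) ≠ 0) {a : F} (ha : a * a = 1) {B B' : BilinForm F V} (hB : Good A B)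
    (hB' : Good A B')
    (h : ∀ (W : Submodule F V) (hW : ∀ x ∈ W, A x ∈ W), (∀ x : W, (A x : V) = a • (x : V) → x = 0) →
      Good (A.restrict hW) (B.restrict W) → Good (A.restrict hW) (B'.restrict W) →
      Isom (A.restrict hW) (B.restrict W) (B'.restrict W)) : Isom A B B' := by
  let M : Module.End F V := A - a • 1
  have hM : ∀ x, M x = A x - a • x := fun x => by simp [M]
  have hker : ∀ x, x ∈ LinearMap.ker M ↔ A x = a • x := fun x => by
    rw [LinearMap.mem_ker, hM, sub_eq_zero]
  have hdisj : Disjoint (LinearMap.ker M) (LinearMap.range M) := by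
    rw [Submodule.disjoint_def]
    rintro x hx ⟨y, rfl⟩
    rw [hker] at hx
    have key : ∀ n : ℕ, (A ^ (n + 1)) y = a ^ (n + 1) • y + ((n + 1 : ℕ) * a ^ n : F) • M y := by
      intro n
      induction n with
      | zero => simp [hM]
      | succ n ih =>
        rw [pow_succ' A, Module.End.mul_apply, ih, map_add, map_smul, map_smul, hx,
          show A y = a • y + M y from by rw [hM]; abel]
        push_cast
        module
    have hpow : ∀ n : ℕ, (A ^ n) (M y) = a ^ n • M y := fun n => by
      induction n with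
      | zero => simp
      | succ n ih => rw [pow_succ', Module.End.mul_apply, ih, map_smul, hx, smul_smul, ← pow_succ]
    by_contra hne
    have h1 : a ^ N = 1 := by
      have := hpow N
      rw [hA, Module.End.one_apply] at this
      refine (sub_eq_zero.1 ((smul_eq_zero.1 ?_).resolve_right hne))
      rw [sub_smul, one_smul, ← this, sub_self]
    obtain ⟨n, rfl⟩ : ∃ n, N = n + 1 := ⟨N - 1, by rcases N with _ | k <;> simp_all⟩
    have := key n
    rw [hA, h1, one_smul, Module.End.one_apply, eq_comm, add_eq_left, smul_eq_zero] at this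
    refine this.elim (fun h => ?_) hne
    rcases mul_eq_zero.1 h with h | h
    · exact hN h
    · exact one_ne_zero (ha.symm.trans (by rw [pow_eq_zero_iff'.1 h |>.1]; simp))
  have hc : IsCompl (LinearMap.ker M) (LinearMap.range M) :=
    Submodule.isCompl_iff_disjoint _ _ (by rw [add_comm, M.finrank_range_add_finrank_ker]) |>.2 hdisj
  have hA₁ : ∀ x ∈ LinearMap.ker M, A x ∈ LinearMap.ker M := fun x hx => by
    rw [hker] at hx ⊢; rw [hx, map_smul, hx]
  have hA₂ : ∀ x ∈ LinearMap.range M, A x ∈ LinearMap.range M := by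
    rintro _ ⟨y, rfl⟩
    exact ⟨A y, by simp [hM, map_sub, map_smul]⟩
  have horth1 : ∀ C : BilinForm F V, Good A C →
      ∀ x ∈ LinearMap.ker M, ∀ y ∈ LinearMap.range M, C x y = 0 := by
    rintro C hC x hx _ ⟨y, rfl⟩
    rw [hker] at hx
    rw [hM, map_sub, map_smul, smul_eq_mul]
    have := hC.inv x y
    rw [hx, map_smul, LinearMap.smul_apply, smul_eq_mul] at this
    linear_combination a * this - C x (A y) * ha
  have hgood : ∀ C : BilinForm F V, Good A C →
      Good (A.restrict hA₁) (C.restrict (LinearMap.ker M)) ∧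
      Good (A.restrict hA₂) (C.restrict (LinearMap.range M)) := fun C hC => by
    have hdec : ∀ y : V, ∃ u ∈ LinearMap.ker M, ∃ v ∈ LinearMap.range M, u + v = y := fun y =>
      Submodule.mem_sup.1 (hc.sup_eq_top ▸ Submodule.mem_top (x := y))
    refine ⟨⟨fun x => hC.alt x, fun x hx => Subtype.ext (hC.nondeg _ fun y => ?_),
      fun x y => hC.inv x y⟩, ⟨fun x => hC.alt x, fun x hx => Subtype.ext (hC.nondeg _ fun y => ?_),
      fun x y => hC.inv x y⟩⟩
    · obtain ⟨u, hu, v, hv, rfl⟩ := hdec y
      rw [map_add, horth1 C hC x x.2 v hv, show C x u = 0 from hx ⟨u, hu⟩, add_zero]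
    · obtain ⟨u, hu, v, hv, rfl⟩ := hdec y
      rw [map_add, show C x v = 0 from hx ⟨v, hv⟩, swap hC.alt, horth1 C hC u hu x x.2]
      simp
  refine isom_glue hc hA₁ hA₂ hB.alt hB'.alt
    (fun x hx y hy => ⟨horth1 B hB x hx y hy, horth1 B' hB' x hx y hy⟩) ?_
    (h _ hA₂ (fun x hx => ?_) (hgood B hB).2 (hgood B' hB').2)
  · exact isom_scalar (a := a) (fun x => Subtype.ext ((hker x).1 x.2)) (hgood B hB).1 (hgood B' hB').1
  · exact Subtype.ext (Submodule.disjoint_def.1 hdisj x ((hker x).2 hx) x.2)

/-- Main theorem. -/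
theorem isom [Finite F] [FiniteDimensional F V] {A : Module.End F V} {N : ℕ} (hA : A ^ N = 1)
    (hN : (N : F) ≠ 0) {B B' : BilinForm F V} (hB : Good A B) (hB' : Good A B') : Isom A B B' := by
  have hN0 : 0 < N := Nat.pos_of_ne_zero fun h => hN (by simp [h])
  refine isom_split hA hN (mul_one 1) hB hB' fun W hW h1 hG hG' => ?_
  refine isom_split (restrict_pow_eq_one hW hA) hN (a := -1) (by ring) hG hG'
    fun U hU h2 hH hH' => ?_
  refine isom_regular hN0 (restrict_pow_eq_one hU (restrict_pow_eq_one hW hA)) (fun x hx => ?_) hH hH'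
  have hx' : A (A ((x : W) : V)) = ((x : W) : V) := congrArg Subtype.val (congrArg Subtype.val hx)
  have hy : (A.restrict hW x.1 + x.1 : W) = 0 := by
    refine h1 _ ?_
    simp [hx', add_comm]
  exact h2 x (by simpa using eq_neg_of_add_eq_zero_left hy)

end Cfsg.Agent.SympSemisimpleForms
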