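import Mathlib
import Cfsg.Agent.Lib.SymplecticBasic
import Cfsg.Agent.Lib.SympSemisimpleForms
import Cfsg.Agent.Lib.SemisimpleConjGL

/-!
Semisimple classes of symplectic groups over finite fields: they are given by the characteristic
polynomial, and there are `q ^ n` of them.
-/

set_option autoImplicit false

open Matrix Polynomial

namespace Cfsg.Agent.SympSemisimpleClasses

open Cfsg.Agent.SymplecticBasic

variable {F : Type*} [Field F] {n : ℕ}

/-- The inclusion into the units of the matrix ring. -/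
def unitsHom (n : ℕ) (F : Type*) [Field F] :
    ↥(symplecticGroup (Fin n) F) →* (Matrix (Fin n ⊕ Fin n) (Fin n ⊕ Fin n) F)ˣ :=
  (Submonoid.subtype (symplecticGroup (Fin n) F)).toHomUnits

theorem coe_unitsHom (g : ↥(symplecticGroup (Fin n) F)) :
    (unitsHom n F g : Matrix (Fin n ⊕ Fin n) (Fin n ⊕ Fin n) F) = g := rfl

/-- An element of order prime to `p` is conjugate to every element linearly conjugate to it. -/
theorem isConj_of_linear [Finite F] {p : ℕ} [Fact p.Prime] [CharP F p]
    (g h : ↥(symplecticGroup (Fin n) F)) (hg : (orderOf g).Coprime p)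
    (P : (Matrix (Fin n ⊕ Fin n) (Fin n ⊕ Fin n) F)ˣ)
    (hP : (P : Matrix (Fin n ⊕ Fin n) (Fin n ⊕ Fin n) F) * g.1 = h.1 * P) : IsConj g h := by
  let f : LinearMap.BilinForm F (Fin n ⊕ Fin n → F) := LinearMap.mk₂ F (sympForm n F)
    form_add_left form_smul_left form_add_right form_smul_right
  have hf : ∀ u v, f u v = sympForm n F u v := fun _ _ => rfl
  let L := fun A : Matrix (Fin n ⊕ Fin n) (Fin n ⊕ Fin n) F => Matrix.toLin' A
  have hgood : SympSemisimpleForms.Good (L g.1) f := ⟨form_self, fun x h => form_nondeg h,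
    fun x y => mem_sp_iff_form.1 g.2 x y⟩
  have hgood' : SympSemisimpleForms.Good (L g.1) (f.compl₁₂ (L P.1) (L P.1)) := by
    refine ⟨fun x => form_self _, fun x hx => ?_, fun x y => ?_⟩
    · have : (P : Matrix (Fin n ⊕ Fin n) (Fin n ⊕ Fin n) F) *ᵥ x = 0 := form_nondeg fun v => by
        have := hx ((P⁻¹ : (Matrix (Fin n ⊕ Fin n) (Fin n ⊕ Fin n) F)ˣ).1 *ᵥ v)
        simpa [hf, L, Matrix.mulVec_mulVec] using this
      have := congrArg ((P⁻¹ : (Matrix (Fin n ⊕ Fin n) (Fin n ⊕ Fin n) F)ˣ).1 *ᵥ ·) this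
      simpa [Matrix.mulVec_mulVec] using this
    · simp only [LinearMap.compl₁₂_apply, hf, L, Matrix.toLin'_apply, Matrix.mulVec_mulVec, hP]
      rw [← Matrix.mulVec_mulVec, ← Matrix.mulVec_mulVec, mem_sp_iff_form.1 h.2]
  have hNF : ((orderOf g : ℕ) : F) ≠ 0 := by
    rw [Ne, CharP.cast_eq_zero_iff F p]
    exact (Fact.out : p.Prime).coprime_iff_not_dvd.1 hg.symm
  have hAN : (L g.1) ^ orderOf g = 1 := by
    show (Matrix.toLin' g.1) ^ orderOf g = 1
    rw [← Matrix.toLin'_pow, ← SubmonoidClass.coe_pow, pow_orderOf_eq_one, OneMemClass.coe_one,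
      Matrix.toLin'_one]
    rfl
  obtain ⟨T, hT, hI⟩ := SympSemisimpleForms.isom hAN hNF hgood hgood'
  let t := LinearMap.toMatrix' T
  have htT : ∀ x, t *ᵥ x = T x := fun x => by
    rw [← Matrix.toLin'_apply]; simp [t]
  have htg : t * g.1 = g.1 * t := by
    refine Matrix.toLin'.injective ?_
    simp only [Matrix.toLin'_mul, t, Matrix.toLin'_toMatrix']
    exact hT
  have hinj : ∀ x, t *ᵥ x = 0 → x = 0 := fun x hx => hgood'.nondeg x fun y => by
    rw [← hI, ← htT, hx]; simp
  obtain ⟨t', ht'⟩ : IsUnit t := Matrix.mulVec_injective_iff_isUnit.1 fun x y hxy =>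
    sub_eq_zero.1 (hinj _ (by rw [Matrix.mulVec_sub, hxy, sub_self]))
  let Q := P * t'⁻¹
  have hQ : Q.1 ∈ symplecticGroup (Fin n) F := mem_sp_iff_form.2 fun u v => by
    have := hI (t'⁻¹.1 *ᵥ u) (t'⁻¹.1 *ᵥ v)
    rw [← htT, ← htT, Matrix.mulVec_mulVec, Matrix.mulVec_mulVec, ← ht', Units.mul_inv,
      Matrix.one_mulVec, Matrix.one_mulVec] at this
    rw [← hf u v, this]
    simp [hf, L, Q, Matrix.mulVec_mulVec]
  refine isConj_iff.2 ⟨⟨Q.1, hQ⟩, ?_⟩
  rw [mul_inv_eq_iff_eq_mul]
  refine Subtype.ext ?_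
  show Q.1 * g.1 = h.1 * Q.1
  have hg' : t'⁻¹.1 * g.1 = g.1 * t'⁻¹.1 :=
    (Commute.units_inv_left (show Commute t'.1 g.1 by rw [ht']; exact htg)).eq
  simp only [Q, Units.val_mul]
  rw [mul_assoc, hg', ← mul_assoc, hP, mul_assoc]

/-- Elements of order prime to `p` with equal characteristic polynomials are conjugate. -/
theorem isConj_of_charpoly [Finite F] {p : ℕ} [Fact p.Prime] [CharP F p]
    (g h : ↥(symplecticGroup (Fin n) F)) (hg : (orderOf g).Coprime p) (hh : (orderOf h).Coprime p)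
    (hc : g.1.charpoly = h.1.charpoly) : IsConj g h := by
  obtain ⟨P, hP⟩ := SemisimpleConjGL.exists_gl_conj
    (SemisimpleConjGL.isSemisimple_of_coprime (unitsHom n F) hg)
    (SemisimpleConjGL.isSemisimple_of_coprime (unitsHom n F) hh) hc
  exact isConj_of_linear g h hg P hP

/-- The characteristic polynomial of a symplectic matrix is palindromic. -/
theorem charpoly_coeff_palindromic {A : Matrix (Fin n ⊕ Fin n) (Fin n ⊕ Fin n) F}
    (hA : A ∈ symplecticGroup (Fin n) F) {k : ℕ} (hk : k ≤ 2 * n) :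
    A.charpoly.coeff k = A.charpoly.coeff (2 * n - k) := by
  have hdet : A.det = 1 := SymplecticGroup.det_eq_one hA
  have hu : IsUnit A := (Matrix.isUnit_iff_isUnit_det A).2 (hdet ▸ isUnit_one)
  have hJ : IsUnit (J (Fin n) F) := (Matrix.isUnit_iff_isUnit_det _).2 (Matrix.isUnit_det_J _ _)
  have hinv : A⁻¹ = -J (Fin n) F * Aᵀ * J (Fin n) F := by
    have := SymplecticGroup.coe_inv' (⟨A, hA⟩ : ↥(symplecticGroup (Fin n) F))
    rw [← this, SymplecticGroup.coe_inv]
  have h1 : A⁻¹.charpoly = A.charpoly := by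
    obtain ⟨U, hU⟩ := hJ
    have hUinv : U⁻¹.1 = -J (Fin n) F := by
      refine Units.inv_eq_of_mul_eq_one_right ?_
      rw [hU, mul_neg, Matrix.J_squared, neg_neg]
    rw [hinv, ← hUinv, ← hU, Matrix.coe_units_inv, Matrix.charpoly_units_conj', Matrix.charpoly_transpose]
  have hcard : Fintype.card (Fin n ⊕ Fin n) = 2 * n := by simp [two_mul]
  have h2 : A.charpoly = A.charpoly.reverse := by
    conv_lhs => rw [← h1, Matrix.charpoly_inv A hu, hcard, hdet]
    simp [pow_mul, Matrix.reverse_charpoly]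
  conv_lhs => rw [h2, Polynomial.coeff_reverse, Matrix.charpoly_natDegree_eq_dim, hcard,
    Polynomial.revAt_le hk]

/-- The coefficients `1, ..., n` of the characteristic polynomial. -/
noncomputable def halfCoeffs (A : Matrix (Fin n ⊕ Fin n) (Fin n ⊕ Fin n) F) : Fin n → F :=
  fun i => A.charpoly.coeff (i + 1)

theorem charpoly_eq_of_halfCoeffs {A B : Matrix (Fin n ⊕ Fin n) (Fin n ⊕ Fin n) F}
    (hA : A ∈ symplecticGroup (Fin n) F) (hB : B ∈ symplecticGroup (Fin n) F)
    (h : halfCoeffs A = halfCoeffs B) : A.charpoly = B.charpoly := by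
  have hcard : Fintype.card (Fin n ⊕ Fin n) = 2 * n := by simp [two_mul]
  have htop : ∀ C : Matrix (Fin n ⊕ Fin n) (Fin n ⊕ Fin n) F, C.charpoly.coeff (2 * n) = 1 :=
    fun C => by
    have := (Matrix.charpoly_monic C).coeff_natDegree
    rwa [Matrix.charpoly_natDegree_eq_dim, hcard] at this
  have hlow : ∀ k ≤ n, A.charpoly.coeff k = B.charpoly.coeff k := fun k hk => by
    rcases k with _ | j
    · rw [charpoly_coeff_palindromic hA (Nat.zero_le _), charpoly_coeff_palindromic hB (Nat.zero_le _),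
        Nat.sub_zero, htop, htop]
    · exact congrFun h ⟨j, hk⟩
  ext k
  rcases le_or_gt k n with hk | hk
  · exact hlow k hk
  rcases le_or_gt k (2 * n) with hk' | hk'
  · rw [charpoly_coeff_palindromic hA hk', charpoly_coeff_palindromic hB hk', hlow _ (by omega)]
  · rw [coeff_eq_zero_of_natDegree_lt (by rw [Matrix.charpoly_natDegree_eq_dim, hcard]; exact hk'),
      coeff_eq_zero_of_natDegree_lt (by rw [Matrix.charpoly_natDegree_eq_dim, hcard]; exact hk')]

/-- A companion matrix is self-adjoint for a nondegenerate symmetric form. -/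
theorem exists_symm_companion (f : F[X]) (hf : f.Monic) {n : ℕ} (hd : f.natDegree = n) :
    ∃ D B : Matrix (Fin n) (Fin n) F,
      D.charpoly = f ∧ Bᵀ = B ∧ IsUnit B.det ∧ (B * D)ᵀ = B * D := by
  subst hd
  let pb := AdjoinRoot.powerBasis' hf
  let D : Matrix (Fin f.natDegree) (Fin f.natDegree) F := Algebra.leftMulMatrix pb.basis pb.gen
  let lam : AdjoinRoot f →ₗ[F] F :=
    ∑ i : Fin f.natDegree, if (i : ℕ) + 1 = f.natDegree then pb.basis.coord i else 0
  let B : Matrix (Fin f.natDegree) (Fin f.natDegree) F := fun i j => lam (pb.gen ^ ((i : ℕ) + j))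
  have hb : ∀ i : Fin f.natDegree, pb.basis i = pb.gen ^ (i : ℕ) := fun i => pb.basis_eq_pow i
  have hlam : ∀ k : Fin f.natDegree, lam (pb.gen ^ (k : ℕ)) = if (k : ℕ) + 1 = f.natDegree then 1 else 0 := by
    intro k
    rw [← hb, LinearMap.sum_apply, Finset.sum_eq_single k]
    · split_ifs
      · exact (DFunLike.congr_fun (pb.basis.repr_self k) k).trans Finsupp.single_eq_same
      · rfl
    · intro i _ hik
      split_ifs
      · exact (DFunLike.congr_fun (pb.basis.repr_self k) i).trans (Finsupp.single_eq_of_ne hik)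
      · rfl
    · exact fun h => absurd (Finset.mem_univ k) h
  have hBD : ∀ i j, (B * D) i j = lam (pb.gen ^ ((i : ℕ) + j + 1)) := fun i j => by
    have hrep := pb.basis.sum_repr (pb.gen * pb.basis j)
    have : pb.gen ^ ((i : ℕ) + j + 1) = ∑ k, pb.basis.repr (pb.gen * pb.basis j) k • pb.gen ^ ((i : ℕ) + k) := by
      calc pb.gen ^ ((i : ℕ) + j + 1) = pb.gen ^ (i : ℕ) * (pb.gen * pb.basis j) := by
            rw [hb]; ring
        _ = _ := by
            conv_lhs => rw [← hrep, Finset.mul_sum]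
            refine Finset.sum_congr rfl fun k _ => ?_
            rw [mul_smul_comm, pb.basis_eq_pow k, ← pow_add]
    rw [this, map_sum, Matrix.mul_apply]
    refine Finset.sum_congr rfl fun k _ => ?_
    rw [map_smul, smul_eq_mul, mul_comm]
    show D k j * lam _ = _
    rw [show D k j = pb.basis.repr (pb.gen * pb.basis j) k from Algebra.leftMulMatrix_eq_repr_mul _ _ _ _]
  refine ⟨D, B, ?_, ?_, ?_, ?_⟩
  · have h := charpoly_leftMulMatrix pb
    rw [AdjoinRoot.powerBasis'_gen, AdjoinRoot.minpoly_root hf.ne_zero, hf.leadingCoeff, inv_one,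
      map_one, mul_one] at h
    exact h
  · ext i j
    show lam _ = lam _
    rw [add_comm (j : ℕ)]
  · let B' := B.submatrix id Fin.revPerm
    have hlt : B'.BlockTriangular OrderDual.toDual := by
      intro i j hij
      have hij' : (i : ℕ) < j := hij
      have hb' : (i : ℕ) + (Fin.rev j : ℕ) < f.natDegree := by rw [Fin.val_rev]; omega
      show lam (pb.gen ^ ((i : ℕ) + (Fin.rev j : ℕ))) = 0
      rw [hlam ⟨_, hb'⟩, if_neg]
      simp only [Fin.val_rev]
      omega
    have hdiag : ∀ i, B' i i = 1 := fun i => by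
      have hb' : (i : ℕ) + (Fin.rev i : ℕ) < f.natDegree := by rw [Fin.val_rev]; omega
      show lam (pb.gen ^ ((i : ℕ) + (Fin.rev i : ℕ))) = 1
      rw [hlam ⟨_, hb'⟩, if_pos]
      simp only [Fin.val_rev]
      omega
    have hdet : B'.det = 1 := by rw [Matrix.det_of_isLowerTriangular B' hlt]; simp [hdiag]
    rw [Matrix.det_permute'] at hdet
    exact IsUnit.of_mul_eq_one_right _ hdet
  · ext i j
    rw [Matrix.transpose_apply, hBD, hBD, add_comm (j : ℕ)]

/-- A symplectic matrix from a pair `(D, B)`. -/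
theorem exists_sp_element {D B : Matrix (Fin n) (Fin n) F} (hB : Bᵀ = B) (hdet : IsUnit B.det)
    (hBD : (B * D)ᵀ = B * D) :
    Matrix.fromBlocks 0 B (-B⁻¹) D ∈ symplecticGroup (Fin n) F := by
  have hBi : B⁻¹ᵀ = B⁻¹ := by rw [Matrix.transpose_nonsing_inv, hB]
  have h1 : B * B⁻¹ = 1 := Matrix.mul_nonsing_inv _ hdet
  have h2 : B⁻¹ * B = 1 := Matrix.nonsing_inv_mul _ hdet
  have hsym : D * B⁻¹ = B⁻¹ * Dᵀ := by
    rw [Matrix.transpose_mul, hB] at hBD
    calc D * B⁻¹ = B⁻¹ * (B * D) * B⁻¹ := by rw [← mul_assoc, h2, one_mul]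
      _ = B⁻¹ * Dᵀ := by rw [← hBD, ← mul_assoc, mul_assoc, h1, mul_one]
  rw [SymplecticGroup.mem_iff, Matrix.J, Matrix.fromBlocks_transpose, Matrix.fromBlocks_multiply,
    Matrix.fromBlocks_multiply]
  simp [hB, hBi, h1, h2, hsym, Matrix.transpose_neg]

theorem eval_charpoly_fromBlocks {K : Type*} [Field K] (D B C : Matrix (Fin n) (Fin n) K)
    (hCB : C * B = 1) {x : K} (hx : x ≠ 0) :
    (Matrix.fromBlocks 0 B (-C) D).charpoly.eval x = x ^ n * D.charpoly.eval (x + x⁻¹) := by
  rw [Matrix.eval_charpoly, Matrix.eval_charpoly]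
  have hs : Matrix.scalar (Fin n ⊕ Fin n) x =
      Matrix.fromBlocks (x • (1 : Matrix (Fin n) (Fin n) K)) 0 0 (x • 1) := by
    ext (i | i) (j | j) <;> simp [Matrix.diagonal_apply, Matrix.one_apply]
  rw [hs, sub_eq_add_neg, Matrix.fromBlocks_neg, Matrix.fromBlocks_add]
  simp only [neg_zero, add_zero, zero_add, neg_neg, ← sub_eq_add_neg]
  apply mul_right_cancel₀ (pow_ne_zero n hx)
  have hR : (Matrix.fromBlocks (1 : Matrix (Fin n) (Fin n) K) B 0 (x • 1)).det = x ^ n := by
    rw [Matrix.det_fromBlocks_zero₂₁]; simp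
  conv_lhs => rw [← hR, ← Matrix.det_mul, Matrix.fromBlocks_multiply]
  have e : C * B + (x • (1 : Matrix (Fin n) (Fin n) K) - D) * (x • 1) =
      x • (Matrix.scalar (Fin n) (x + x⁻¹) - D) := by
    rw [hCB, Matrix.scalar_apply, ← Matrix.smul_one_eq_diagonal]
    simp [smul_sub, smul_smul, mul_add, mul_inv_cancel₀ hx, add_smul]
    abel
  simp only [Matrix.mul_one, Matrix.mul_zero, add_zero, Matrix.smul_mul, Matrix.one_mul,
    Matrix.neg_mul, Matrix.mul_smul] at e ⊢
  rw [e, zero_sub, smul_neg, add_neg_cancel, Matrix.det_fromBlocks_zero₁₂]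
  simp [Matrix.det_smul]
  ring

/-- Every coefficient vector is attained. -/
theorem exists_halfCoeffs [Finite F] (v : Fin n → F) :
    ∃ g : ↥(symplecticGroup (Fin n) F), halfCoeffs g.1 = v := by
  revert v
  have hex : ∀ w : Fin n → F, ∃ (g : ↥(symplecticGroup (Fin n) F)) (D B : Matrix (Fin n) (Fin n) F),
      IsUnit B.det ∧ SemisimpleConjGL.charCoeffs D = w ∧ g.1 = Matrix.fromBlocks 0 B (-B⁻¹) D := by
    intro w
    obtain ⟨A, hA⟩ := SemisimpleConjGL.exists_charCoeffs w
    obtain ⟨D, B, hD, hB, hdet, hBD⟩ := exists_symm_companion A.charpoly (Matrix.charpoly_monic A)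
      (by rw [Matrix.charpoly_natDegree_eq_dim, Fintype.card_fin])
    refine ⟨⟨_, exists_sp_element hB hdet hBD⟩, D, B, hdet, ?_, rfl⟩
    funext i
    rw [SemisimpleConjGL.charCoeffs, hD, ← hA]
    rfl
  choose g D B hdet hD hg using hex
  have hinj : Function.Injective fun w => halfCoeffs (g w).1 := by
    intro w w' hww
    have hc : (g w).1.charpoly = (g w').1.charpoly := charpoly_eq_of_halfCoeffs (g w).2 (g w').2 hww
    let K := AlgebraicClosure F
    let φ := algebraMap F K
    have key : ∀ (w : Fin n → F) (x : K), x ≠ 0 →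
        ((g w).1.charpoly.map φ).eval x = x ^ n * ((D w).charpoly.map φ).eval (x + x⁻¹) := by
      intro w x hx
      rw [← Matrix.charpoly_map, ← Matrix.charpoly_map, hg w, Matrix.fromBlocks_map]
      rw [show (-(B w)⁻¹).map φ = -((B w)⁻¹.map φ) from Matrix.map_neg _ (map_neg φ) _,
        Matrix.map_zero _ (map_zero φ)]
      refine eval_charpoly_fromBlocks _ _ _ ?_ hx
      rw [← Matrix.map_mul, Matrix.nonsing_inv_mul _ (hdet w), Matrix.map_one _ (map_zero φ) (map_one φ)]
    have heq : (D w).charpoly.map φ = (D w').charpoly.map φ := by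
      refine Polynomial.funext fun y => ?_
      obtain ⟨x, hx⟩ := IsAlgClosed.exists_eval₂_eq_zero (RingHom.id K) (X ^ 2 - C y * X + 1)
        (by
          have : (X ^ 2 - C y * X + 1 : K[X]).degree = 2 := by compute_degree!
          rw [this]; exact two_ne_zero)
      simp only [eval₂_id, eval_add, eval_sub, eval_pow, eval_X, eval_mul, eval_C, eval_one] at hx
      have hx0 : x ≠ 0 := fun h => (one_ne_zero : (1 : K) ≠ 0) (by rw [h] at hx; simpa using hx)
      have hy : x + x⁻¹ = y := by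
        apply mul_right_cancel₀ hx0
        rw [add_mul, inv_mul_cancel₀ hx0]
        linear_combination hx
      have := key w x hx0
      rw [hc, key w' x hx0, hy] at this
      exact (mul_left_cancel₀ (pow_ne_zero n hx0) this).symm
    have := Polynomial.map_injective φ φ.injective heq
    rw [← hD w, ← hD w']
    funext i
    simp only [SemisimpleConjGL.charCoeffs, this]
  intro v
  obtain ⟨w, hw⟩ := Finite.injective_iff_surjective.1 hinj v
  exact ⟨g w, hw⟩

/-- `q ^ n` classes of elements of order prime to `p`. -/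
theorem card_classes [Fintype F] {p : ℕ} [Fact p.Prime] [CharP F p] :
    Nat.card {c : ConjClasses ↥(symplecticGroup (Fin n) F) //
      ∃ g, ConjClasses.mk g = c ∧ (orderOf g).Coprime p} = Fintype.card F ^ n := by
  classical
  haveI : Finite ↥(symplecticGroup (Fin n) F) := inferInstance
  have hexist := exists_halfCoeffs (F := F) (n := n)
  rw [show Fintype.card F ^ n = Nat.card (Fin n → F) by simp]
  refine Nat.card_congr (Equiv.ofBijective (fun c => halfCoeffs c.2.choose.1) ⟨?_, ?_⟩)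
  · intro c d hcd
    have h1 := c.2.choose_spec
    have h2 := d.2.choose_spec
    refine Subtype.ext ?_
    rw [← h1.1, ← h2.1, ConjClasses.mk_eq_mk_iff_isConj]
    exact isConj_of_charpoly _ _ h1.2 h2.2 (charpoly_eq_of_halfCoeffs (Subtype.coe_prop _) (Subtype.coe_prop _) hcd)
  · intro v
    obtain ⟨g, hgv⟩ := hexist v
    obtain ⟨a, k, hcop, hpow⟩ := SemisimpleConjGL.exists_regular_part p g
    let c : {c : ConjClasses ↥(symplecticGroup (Fin n) F) //
        ∃ g, ConjClasses.mk g = c ∧ (orderOf g).Coprime p} := ⟨ConjClasses.mk (g ^ a), g ^ a, rfl, hcop⟩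
    refine ⟨c, Eq.trans ?_ hgv⟩
    have h1 := SemisimpleConjGL.charpoly_eq_of_isConj_val (unitsHom n F)
      (ConjClasses.mk_eq_mk_iff_isConj.1 c.2.choose_spec.1)
    have h2 : (g ^ a).1.charpoly = g.1.charpoly := by
      refine SemisimpleConjGL.charpoly_eq_of_pow_eq (p := p) (k := k) ?_
      rw [← SubmonoidClass.coe_pow, ← SubmonoidClass.coe_pow, hpow]
    funext i
    simp only [halfCoeffs]
    rw [show c.2.choose.1.charpoly = (g ^ a).1.charpoly from h1, h2]

end Cfsg.Agent.SympSemisimpleClasses
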