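import Mathlib
import Cfsg.Agent.Lib.FormTuples53
import Cfsg.Agent.Lib.SympSemisimpleClasses

/-!
Isometries of symmetric forms with prescribed characteristic polynomial and discriminant.
-/

set_option autoImplicit false

open Polynomial
open LinearMap (BilinForm)
open Cfsg.Agent.GLClassBound53 Cfsg.Agent.UnitaryPolys53

namespace Cfsg.Agent.FormRealise53

open Cfsg.Agent.FormSys53 Cfsg.Agent.FormSub53 Cfsg.Agent.FormMatrix53 Cfsg.Agent.FormTuples53
open Cfsg.Agent.SymplecticBasic

universe u

variable {F : Type u} [Field F]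

/-- orthogonal sum -/
noncomputable abbrev sumSys (S S' : Sys F (1 : F)) : Sys F (1 : F) where
  V := S.V × S'.V
  g := S.g.prodMap S'.g
  B := (S.B.compl₁₂ (LinearMap.fst F S.V S'.V) (LinearMap.fst F S.V S'.V)) +
    (S'.B.compl₁₂ (LinearMap.snd F S.V S'.V) (LinearMap.snd F S.V S'.V))
  sym x y := by simp [S.sym x.1 y.1, S'.sym x.2 y.2]
  nd x h := Prod.ext (S.nd x.1 fun y => by simpa using h (y, 0)) (S'.nd x.2 fun y => by simpa using h (0, y))
  inv x y := by simp [S.inv, S'.inv]

/-- `ε` times the identity on the plane with form `x₀y₀ + c x₁y₁` -/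
noncomputable abbrev planeSys (ε c : F) (hε : ε * ε = 1) (hc : c ≠ 0) : Sys F (1 : F) where
  V := Fin 2 → F
  g := ε • LinearMap.id
  B := LinearMap.mk₂ F (fun x y => x 0 * y 0 + c * (x 1 * y 1))
    (fun x x' y => by simp; ring) (fun r x y => by simp; ring) (fun x y y' => by simp; ring)
    (fun r x y => by simp; ring)
  sym x y := by simp; ring
  nd x h := by
    have h0 := h ![1, 0]
    have h1 := h ![0, 1]
    simp at h0 h1
    funext i
    fin_cases i
    · exact h0
    · exact h1.resolve_left hc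
  inv x y := by
    simp
    linear_combination (x 0 * y 0 + c * (x 1 * y 1)) * hε

variable [Fintype F] [DecidableEq F]

theorem disc_sum (S S' : Sys F (1 : F)) : disc (sumSys S S') = disc S * disc S' := by
  let b1 := Module.finBasis F S.V
  let b2 := Module.finBasis F S'.V
  have e : LinearMap.BilinForm.toMatrix (b1.prod b2) (sumSys S S').B =
      Matrix.fromBlocks (LinearMap.BilinForm.toMatrix b1 S.B) 0 0 (LinearMap.BilinForm.toMatrix b2 S'.B) := by
    ext i j
    rw [LinearMap.BilinForm.toMatrix_apply]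
    rcases i with i | i <;> rcases j with j | j <;>
      simp [LinearMap.BilinForm.toMatrix_apply, Module.Basis.prod_apply]
  rw [disc_eq (S := sumSys S S') (b1.prod b2), e, Matrix.det_fromBlocks_zero₂₁, map_mul]
  rfl

theorem disc_plane (ε c : F) (hε : ε * ε = 1) (hc : c ≠ 0) :
    disc (planeSys ε c hε hc) = quadraticChar F c := by
  rw [disc_eq (S := planeSys ε c hε hc) (Pi.basisFun F (Fin 2))]
  congr 1
  simp [Matrix.det_fin_two, LinearMap.BilinForm.toMatrix_apply]

omit [Fintype F] [DecidableEq F] in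
theorem charpoly_plane (ε c : F) (hε : ε * ε = 1) (hc : c ≠ 0) :
    (planeSys ε c hε hc).g.charpoly = (X - C ε) ^ 2 := by
  show (ε • (LinearMap.id : (Fin 2 → F) →ₗ[F] (Fin 2 → F))).charpoly = _
  rw [← LinearMap.charpoly_toMatrix _ (Pi.basisFun F (Fin 2)),
    show LinearMap.toMatrix (Pi.basisFun F (Fin 2)) (Pi.basisFun F (Fin 2))
      (ε • (LinearMap.id : (Fin 2 → F) →ₗ[F] (Fin 2 → F))) = Matrix.diagonal fun _ : Fin 2 => ε by
      rw [map_smul, LinearMap.toMatrix_id, Matrix.smul_one_eq_diagonal],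
    Matrix.charpoly_diagonal]
  simp

variable {m : ℕ}

/-- the polynomial of a symplectic element is plain -/
theorem plain_charpoly (A : ↥(Matrix.symplecticGroup (Fin m) F)) :
    Plain A.1.charpoly ∧ A.1.charpoly.natDegree = 2 * m := by
  have hd : A.1.charpoly.natDegree = 2 * m := by rw [Matrix.charpoly_natDegree_eq_dim]; simp [two_mul]
  have htop : A.1.charpoly.coeff (2 * m) = 1 := by
    have := (Matrix.charpoly_monic A.1).coeff_natDegree
    rwa [hd] at this
  have h0 : A.1.charpoly.coeff 0 = 1 := by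
    rw [SympSemisimpleClasses.charpoly_coeff_palindromic A.2 (Nat.zero_le _), Nat.sub_zero, htop]
  refine ⟨⟨⟨⟨Matrix.charpoly_monic _, by rw [h0]; exact one_ne_zero⟩, ?_⟩, ⟨m, by rw [hd, two_mul]⟩, h0⟩, hd⟩
  ext i
  rw [coeff_tau, h0, hd]
  simp only [RingHom.id_apply, inv_one, one_mul]
  by_cases hi : i ≤ 2 * m
  · rw [revAt_le hi]
    exact (SympSemisimpleClasses.charpoly_coeff_palindromic A.2 hi).symm
  · rw [show revAt (2 * m) i = i by
      rw [show (revAt (2 * m) i) = revAtFun (2 * m) i from rfl, revAtFun, if_neg (by omega)]]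

omit [DecidableEq F] in
theorem finite_plainT (m : ℕ) : Finite {p : F[X] // Plain p ∧ p.natDegree = 2 * m} := finite_plain _

theorem exists_charpoly (f : F[X]) (hf : Plain f) (hd : f.natDegree = 2 * m) :
    ∃ A : ↥(Matrix.symplecticGroup (Fin m) F), A.1.charpoly = f := by
  obtain ⟨A, hA⟩ := SympSemisimpleClasses.exists_halfCoeffs (fun i : Fin m => f.coeff ((i : ℕ) + 1))
  obtain ⟨hAp, hAd⟩ := plain_charpoly A
  refine ⟨A, Polynomial.ext fun i => ?_⟩
  have sym : ∀ p : F[X], Plain p → p.natDegree = 2 * m → ∀ j, j ≤ 2 * m → p.coeff j = p.coeff (2 * m - j) := by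
    intro p hp hpd j hj
    have e := congrArg (fun t : F[X] => t.coeff j) hp.1.2
    simp only [coeff_tau, hpd, revAt_le hj, hp.2.2, RingHom.id_apply, inv_one, one_mul] at e
    exact e.symm
  have low : ∀ j, j ≤ m → A.1.charpoly.coeff j = f.coeff j := by
    intro j hj
    rcases j with _ | j
    · rw [hAp.2.2, hf.2.2]
    · exact congrFun hA ⟨j, hj⟩
  by_cases hi : i ≤ m
  · exact low i hi
  by_cases hid : i ≤ 2 * m
  · rw [sym _ hAp hAd i hid, sym f hf hd i hid]
    exact low _ (by omega)
  · rw [coeff_eq_zero_of_natDegree_lt (by rw [hAd]; omega), coeff_eq_zero_of_natDegree_lt (by rw [hd]; omega)]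

/-- a regular plain polynomial, in the discriminant it forces -/
theorem exists_regular (f : F[X]) (hf : Plain f) (hd : f.natDegree = 2 * m) (h1 : f.eval 1 ≠ 0)
    (h1' : f.eval (-1) ≠ 0) :
    ∃ S : Sys F (1 : F), Module.finrank F S.V = 2 * m ∧ S.g.charpoly = f ∧
      disc S = quadraticChar F (f.eval 1 * f.eval (-1)) := by
  obtain ⟨A, hA⟩ := exists_charpoly f hf hd
  let M : Matrix (Fin m ⊕ Fin m) (Fin m ⊕ Fin m) F := A.1
  let M' : Matrix (Fin m ⊕ Fin m) (Fin m ⊕ Fin m) F := (A⁻¹ : ↥(Matrix.symplecticGroup (Fin m) F)).1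
  have hMM : M * M' = 1 := congrArg Subtype.val (mul_inv_cancel A)
  have hM'M : M' * M = 1 := congrArg Subtype.val (inv_mul_cancel A)
  let D : Matrix (Fin m ⊕ Fin m) (Fin m ⊕ Fin m) F := M - M'
  have hd1 : Fintype.card (Fin m ⊕ Fin m) = 2 * m := by simp [two_mul]
  have hdetM : M.det = 1 := SymplecticGroup.det_eq_one A.2
  have hDdet : D.det = f.eval 1 * f.eval (-1) := by
    have e : (Matrix.scalar _ (1 : F) - M) * (Matrix.scalar _ (-1 : F) - M) = M * D := by
      simp only [D, mul_sub, map_one, map_neg, hMM]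
      noncomm_ring
    have h := congrArg Matrix.det e
    rw [Matrix.det_mul, Matrix.det_mul, ← Matrix.eval_charpoly, ← Matrix.eval_charpoly, hdetM, one_mul] at h
    rw [← h, show M.charpoly = f from hA]
  have hD0 : D.det ≠ 0 := by rw [hDdet]; exact mul_ne_zero h1 h1'
  let Bs : BilinForm F (Fin m ⊕ Fin m → F) := LinearMap.mk₂ F (fun x y => Cfsg.sympForm m F x (D.mulVec y))
    (fun x x' y => form_add_left _ _ _) (fun r x y => form_smul_left _ _ _)
    (fun x y y' => by rw [Matrix.mulVec_add, form_add_right])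
    (fun r x y => by rw [Matrix.mulVec_smul, form_smul_right]; rfl)
  have hinv : ∀ x y, Cfsg.sympForm m F x (M'.mulVec y) = Cfsg.sympForm m F (M.mulVec x) y := by
    intro x y
    have h := mem_sp_iff_form.1 A.2 x (M'.mulVec y)
    rw [Matrix.mulVec_mulVec, hMM, Matrix.one_mulVec] at h
    exact h.symm
  have hinv' : ∀ x y, Cfsg.sympForm m F x (M.mulVec y) = Cfsg.sympForm m F (M'.mulVec x) y := by
    intro x y
    have h := mem_sp_iff_form.1 A.2 (M'.mulVec x) y
    rw [Matrix.mulVec_mulVec, hMM, Matrix.one_mulVec] at h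
    exact h
  have hDg : D * M = M * D := by simp only [D, sub_mul, mul_sub, hMM, hM'M]
  let S : Sys F (1 : F) :=
    { V := Fin m ⊕ Fin m → F
      g := Matrix.toLin' M
      B := Bs
      sym := fun x y => by
        show Cfsg.sympForm m F y (D.mulVec x) = 1 * Cfsg.sympForm m F x (D.mulVec y)
        rw [one_mul, form_swap (D.mulVec x) y]
        simp only [D, Matrix.sub_mulVec, form_sub_left, form_sub_right, hinv, hinv']
        ring
      nd := fun x h => by
        obtain ⟨Du, hDu⟩ := (Matrix.isUnit_iff_isUnit_det D).2 hD0.isUnit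
        refine form_nondeg fun v => ?_
        have := h ((Du⁻¹ : (Matrix (Fin m ⊕ Fin m) (Fin m ⊕ Fin m) F)ˣ).1.mulVec v)
        simpa [Bs, ← hDu, Matrix.mulVec_mulVec] using this
      inv := fun x y => by
        show Cfsg.sympForm m F (Matrix.toLin' M x) (D.mulVec (Matrix.toLin' M y)) = Cfsg.sympForm m F x (D.mulVec y)
        rw [Matrix.toLin'_apply, Matrix.toLin'_apply, Matrix.mulVec_mulVec, hDg, ← Matrix.mulVec_mulVec]
        exact mem_sp_iff_form.1 A.2 x _ }
  refine ⟨S, ?_, ?_, ?_⟩
  · show Module.finrank F (Fin m ⊕ Fin m → F) = _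
    rw [Module.finrank_fintype_fun_eq_card, hd1]
  · show (Matrix.toLin' M).charpoly = f
    rw [Matrix.charpoly_toLin']
    exact hA
  · rw [disc_eq (S := S) (Pi.basisFun F (Fin m ⊕ Fin m))]
    have e : LinearMap.BilinForm.toMatrix (Pi.basisFun F (Fin m ⊕ Fin m)) S.B = Matrix.J (Fin m) F * D := by
      ext i j
      erw [LinearMap.BilinForm.toMatrix_apply]
      show Cfsg.sympForm m F (Pi.basisFun F _ i) (D.mulVec (Pi.basisFun F _ j)) = _
      simp [Cfsg.sympForm, Matrix.mulVec_single_one, Matrix.mulVec_mulVec]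
      rfl
    rw [e, Matrix.det_mul, map_mul, hDdet]
    have hJ : quadraticChar F (Matrix.J (Fin m) F).det = 1 := by
      have h1 : (Matrix.J (Fin m) F).det = 1 := by
        have e : Matrix.J (Fin m) F = Matrix.fromBlocks 1 (-1) 0 1 * Matrix.fromBlocks 1 0 1 1 *
            Matrix.fromBlocks 1 (-1) 0 1 := by
          rw [Matrix.fromBlocks_multiply, Matrix.fromBlocks_multiply, Matrix.J]
          simp
        rw [e, Matrix.det_mul, Matrix.det_mul, Matrix.det_fromBlocks_zero₂₁, Matrix.det_fromBlocks_zero₁₂]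
        simp
      rw [h1, map_one]
    rw [hJ, one_mul]

variable (F) in
/-- forms of every discriminant -/
theorem exists_any_disc (h2 : (2 : F) ≠ 0) (e : ℤ) (he : e = 1 ∨ e = -1) :
    ∃ c : F, c ≠ 0 ∧ quadraticChar F c = e := by
  rcases he with rfl | rfl
  · exact ⟨1, one_ne_zero, map_one _⟩
  · obtain ⟨ν, hν0, hν⟩ := FormFibre53.exists_nonsquare h2
    exact ⟨ν, hν0, quadraticChar_neg_one_iff_not_isSquare.2 hν⟩

/-- all plain polynomials with a root `±1`, and the regular ones in their discriminant -/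
theorem exists_sys (h2 : (2 : F) ≠ 0) : ∀ (m : ℕ) (f : F[X]), Plain f → f.natDegree = 2 * m →
    ∀ e : ℤ, (e = 1 ∨ e = -1) → (f.eval 1 * f.eval (-1) = 0 ∨ quadraticChar F (f.eval 1 * f.eval (-1)) = e) →
    ∃ S : Sys F (1 : F), Module.finrank F S.V = 2 * m ∧ S.g.charpoly = f ∧ disc S = e := by
  intro m
  induction m with
  | zero =>
    intro f hf hd e he h
    have h1 : f = 1 := hf.1.1.1.natDegree_eq_zero.1 (by rw [hd])
    have hne : f.eval 1 ≠ 0 ∧ f.eval (-1) ≠ 0 := by simp [h1]
    obtain ⟨S, hS1, hS2, hS3⟩ := exists_regular f hf hd hne.1 hne.2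
    exact ⟨S, hS1, hS2, hS3.trans (h.resolve_left (mul_ne_zero hne.1 hne.2))⟩
  | succ m ih =>
    intro f hf hd e he h
    by_cases hroot : f.eval 1 * f.eval (-1) = 0
    swap
    · obtain ⟨S, hS1, hS2, hS3⟩ := exists_regular f hf hd (left_ne_zero_of_mul hroot) (right_ne_zero_of_mul hroot)
      exact ⟨S, hS1, hS2, hS3.trans (h.resolve_left hroot)⟩
    obtain ⟨N, hN, hfN⟩ := exists_split h2 hf.1
    have hne := hf.1.1.1.ne_zero
    set a := f.rootMultiplicity 1
    set b := f.rootMultiplicity (-1)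
    have hdeg : 2 * (m + 1) = a + b + N.natDegree := by
      rw [← hd, hfN, ((((monic_X_sub_C (1 : F)).pow _).mul ((monic_X_sub_C _).pow _))).natDegree_mul hN.1.1.1,
        ((monic_X_sub_C (1 : F)).pow _).natDegree_mul ((monic_X_sub_C _).pow _), natDegree_pow, natDegree_pow,
        natDegree_X_sub_C, natDegree_X_sub_C, mul_one, mul_one]
    have hca : (-1 : F) ^ a = 1 := by
      have h0 := hf.2.2
      rw [hfN, mul_coeff_zero, mul_coeff_zero, coeff_zero_eq_eval_zero ((X - C (1 : F)) ^ _),
        coeff_zero_eq_eval_zero ((X - C (-1 : F)) ^ _), eval_pow, eval_pow, eval_sub, eval_sub, eval_X, eval_C,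
        eval_C, hN.2.2, zero_sub, zero_sub, neg_neg, one_pow, mul_one, mul_one] at h0
      exact h0
    have ha : Even a := by
      by_contra hodd
      rw [(Nat.not_even_iff_odd.1 hodd).neg_one_pow] at hca
      exact h2 (by linear_combination -hca)
    have hb : Even b := by
      obtain ⟨r, hr⟩ := ha
      obtain ⟨r', hr'⟩ := hN.2.1
      exact ⟨(m + 1) - r - r', by omega⟩
    obtain ⟨ε, hε, hεf⟩ : ∃ ε : F, (ε = 1 ∨ ε = -1) ∧ f.eval ε = 0 := by
      rcases mul_eq_zero.1 hroot with h0 | h0
      · exact ⟨1, Or.inl rfl, h0⟩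
      · exact ⟨-1, Or.inr rfl, h0⟩
    have hε2 : ε * ε = 1 := by rcases hε with rfl | rfl <;> norm_num
    have hdvd : (X - C ε) ^ 2 ∣ f := by
      have hpos : 0 < f.rootMultiplicity ε := (rootMultiplicity_pos hne).2 hεf
      have hev : Even (f.rootMultiplicity ε) := by rcases hε with rfl | rfl <;> assumption
      exact (pow_dvd_pow _ (by obtain ⟨r, hr⟩ := hev; omega)).trans (pow_rootMultiplicity_dvd f ε)
    obtain ⟨f', hf'⟩ := hdvd
    have hfix' : Fixed (RingHom.id F) f' := fixed_cancel (fixed_lin_pow hε2 2) (hf' ▸ hf.1)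
    have hd' : f'.natDegree = 2 * m := by
      have h0 := hd
      rw [hf', ((monic_X_sub_C ε).pow 2).natDegree_mul hfix'.1.1, natDegree_pow, natDegree_X_sub_C] at h0
      omega
    have hf'p : Plain f' := by
      refine ⟨hfix', ⟨m, by omega⟩, ?_⟩
      have h0 := hf.2.2
      rw [hf', mul_coeff_zero, coeff_zero_eq_eval_zero ((X - C ε) ^ 2), eval_pow, eval_sub, eval_X, eval_C,
        zero_sub, neg_sq, sq, hε2, one_mul] at h0
      exact h0
    obtain ⟨e', he', hok⟩ : ∃ e' : ℤ, (e' = 1 ∨ e' = -1) ∧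
        (f'.eval 1 * f'.eval (-1) = 0 ∨ quadraticChar F (f'.eval 1 * f'.eval (-1)) = e') := by
      by_cases h0 : f'.eval 1 * f'.eval (-1) = 0
      · exact ⟨1, Or.inl rfl, Or.inl h0⟩
      · exact ⟨_, quadraticChar_dichotomy h0, Or.inr rfl⟩
    obtain ⟨S, hS1, hS2, hS3⟩ := ih f' hf'p hd' e' he' hok
    obtain ⟨c, hc, hce⟩ := exists_any_disc F h2 (e' * e) (by rcases he' with rfl | rfl <;> rcases he with rfl | rfl <;> simp)
    refine ⟨sumSys (planeSys ε c hε2 hc) S, ?_, ?_, ?_⟩
    · show Module.finrank F ((Fin 2 → F) × S.V) = _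
      rw [Module.finrank_prod, Module.finrank_fin_fun, hS1]
      omega
    · show (LinearMap.prodMap (planeSys ε c hε2 hc).g S.g).charpoly = f
      rw [LinearMap.charpoly_prodMap, charpoly_plane, hS2, hf']
    · rw [disc_sum, disc_plane, hce, hS3, mul_comm e', mul_assoc]
      rcases he' with rfl | rfl <;> simp

omit [DecidableEq F] in
/-- the number of plain polynomials -/
theorem card_plain_ge (m : ℕ) :
    Fintype.card F ^ m ≤ Nat.card {p : F[X] // Plain p ∧ p.natDegree = 2 * m} := by
  classical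
  haveI := finite_plainT (F := F) m
  choose A hA using fun v => SympSemisimpleClasses.exists_halfCoeffs (F := F) (n := m) v
  refine le_trans (le_of_eq ?_) (Nat.card_le_card_of_injective
    (fun v => (⟨(A v).1.charpoly, plain_charpoly (A v)⟩ : {p : F[X] // Plain p ∧ p.natDegree = 2 * m}))
    fun v w h => ?_)
  · rw [Nat.card_eq_fintype_card, Fintype.card_fun, Fintype.card_fin]
  · rw [← hA v, ← hA w]
    funext i
    simp only [SympSemisimpleClasses.halfCoeffs]
    rw [show (A v).1.charpoly = (A w).1.charpoly from congrArg Subtype.val h]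

/-- at least half of them are realised in each discriminant -/
theorem card_realised_ge (h2 : (2 : F) ≠ 0) {m : ℕ} (hm : 2 ≤ m) (e : ℤ) (he : e = 1 ∨ e = -1) :
    Fintype.card F ^ m ≤ 2 * Nat.card {p : F[X] // (Plain p ∧ p.natDegree = 2 * m) ∧
      (p.eval 1 * p.eval (-1) = 0 ∨ quadraticChar F (p.eval 1 * p.eval (-1)) = e)} := by
  classical
  haveI := finite_plainT (F := F) m
  haveI : Fintype {p : F[X] // Plain p ∧ p.natDegree = 2 * m} := Fintype.ofFinite _
  let good : {p : F[X] // Plain p ∧ p.natDegree = 2 * m} → Prop := fun p =>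
    p.1.eval 1 * p.1.eval (-1) = 0 ∨ quadraticChar F (p.1.eval 1 * p.1.eval (-1)) = e
  rw [show Nat.card {p : F[X] // (Plain p ∧ p.natDegree = 2 * m) ∧
      (p.eval 1 * p.eval (-1) = 0 ∨ quadraticChar F (p.eval 1 * p.eval (-1)) = e)} =
      Nat.card {p : {p : F[X] // Plain p ∧ p.natDegree = 2 * m} // good p} from
    Nat.card_congr (Equiv.subtypeSubtypeEquivSubtypeInter _
      (fun p : F[X] => p.eval 1 * p.eval (-1) = 0 ∨ quadraticChar F (p.eval 1 * p.eval (-1)) = e)).symm,
    Nat.card_eq_fintype_card]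
  refine (card_plain_ge (F := F) m).trans ?_
  rw [Nat.card_eq_fintype_card]
  obtain ⟨ν, hν0, hν⟩ := FormFibre53.exists_nonsquare h2
  have h4 : (4 : F) ≠ 0 := by
    rw [show (4 : F) = 2 * 2 by norm_num]
    exact mul_ne_zero h2 h2
  let T : F[X] → F[X] := fun p => p + C ((ν - 1) * p.eval 1 / 4) * (X ^ (m - 1) * (X + 1) ^ 2)
  have hT1 : ∀ p : F[X], (T p).eval 1 = ν * p.eval 1 := by
    intro p
    simp only [T, eval_add, eval_mul, eval_C, eval_pow, eval_X, eval_one, one_pow, one_mul]
    field_simp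
    ring
  have hT1' : ∀ p : F[X], (T p).eval (-1) = p.eval (-1) := by
    intro p
    simp [T]
  have hTmem : ∀ p, Plain p ∧ p.natDegree = 2 * m → Plain (T p) ∧ (T p).natDegree = 2 * m := by
    rintro p ⟨hp, hpd⟩
    set k := (ν - 1) * p.eval 1 / 4
    have hw : (X : F[X]) ^ (m - 1) * (X + 1) ^ 2 = X ^ (m + 1) + C 2 * X ^ m + X ^ (m - 1) := by
      obtain ⟨r, rfl⟩ : ∃ r, m = r + 1 := ⟨m - 1, by omega⟩
      simp only [Nat.add_sub_cancel, map_ofNat]
      ring
    have hco : ∀ i, (T p).coeff i = p.coeff i + k * ((if i = m + 1 then 1 else 0) + 2 * (if i = m then 1 else 0) +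
        if i = m - 1 then 1 else 0) := by
      intro i
      simp only [T, coeff_add, coeff_C_mul, hw, coeff_X_pow]
      rfl
    have hc0 : (T p).coeff 0 = 1 := by
      rw [hco, if_neg (by omega), if_neg (by omega), if_neg (by omega), hp.2.2]; ring
    have hct : (T p).coeff (2 * m) = 1 := by
      rw [hco, if_neg (by omega), if_neg (by omega), if_neg (by omega)]
      have := hp.1.1.1.coeff_natDegree
      rw [hpd] at this
      rw [this]; ring
    have hhi : ∀ i, 2 * m < i → (T p).coeff i = 0 := by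
      intro i hi
      rw [hco, if_neg (by omega), if_neg (by omega), if_neg (by omega),
        coeff_eq_zero_of_natDegree_lt (by rw [hpd]; exact hi)]
      ring
    have hd : (T p).natDegree = 2 * m :=
      natDegree_eq_of_le_of_coeff_ne_zero (natDegree_le_iff_coeff_eq_zero.2 hhi) (by rw [hct]; exact one_ne_zero)
    refine ⟨⟨⟨⟨by rw [Monic, leadingCoeff, hd, hct], by rw [hc0]; exact one_ne_zero⟩, ?_⟩, ⟨m, by omega⟩, hc0⟩, hd⟩
    ext i
    rw [coeff_tau, hd, hc0]
    simp only [RingHom.id_apply, inv_one, one_mul]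
    by_cases hi : i ≤ 2 * m
    · rw [revAt_le hi, hco, hco]
      have e := congrArg (fun t : F[X] => t.coeff i) hp.1.2
      simp only [coeff_tau, hpd, revAt_le hi, hp.2.2, RingHom.id_apply, inv_one, one_mul] at e
      rw [e]
      by_cases h1 : i = m + 1
      · rw [if_pos h1, if_neg (show ¬ i = m by omega), if_neg (show ¬ i = m - 1 by omega),
          if_neg (show ¬ 2 * m - i = m + 1 by omega), if_neg (show ¬ 2 * m - i = m by omega),
          if_pos (show 2 * m - i = m - 1 by omega)]
        ring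
      by_cases h3 : i = m
      · rw [if_neg h1, if_pos h3, if_neg (show ¬ i = m - 1 by omega),
          if_neg (show ¬ 2 * m - i = m + 1 by omega), if_pos (show 2 * m - i = m by omega),
          if_neg (show ¬ 2 * m - i = m - 1 by omega)]
      by_cases h5 : i = m - 1
      · rw [if_neg h1, if_neg h3, if_pos h5, if_pos (show 2 * m - i = m + 1 by omega),
          if_neg (show ¬ 2 * m - i = m by omega), if_neg (show ¬ 2 * m - i = m - 1 by omega)]
        ring
      rw [if_neg h1, if_neg h3, if_neg h5, if_neg (show ¬ 2 * m - i = m + 1 by omega),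
        if_neg (show ¬ 2 * m - i = m by omega), if_neg (show ¬ 2 * m - i = m - 1 by omega)]
    · rw [show revAt (2 * m) i = i by
        rw [show (revAt (2 * m) i) = revAtFun (2 * m) i from rfl, revAtFun, if_neg (by omega)]]
  have hbad : Fintype.card {p // ¬ good p} ≤ Fintype.card {p // good p} := by
    refine Fintype.card_le_of_injective (fun p => ⟨⟨T p.1.1, hTmem _ p.1.2⟩, ?_⟩) ?_
    · obtain ⟨p, hp⟩ := p
      simp only [good, not_or] at hp
      refine Or.inr ?_
      show quadraticChar F ((T p.1).eval 1 * (T p.1).eval (-1)) = e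
      rw [hT1, hT1', mul_assoc, map_mul, quadraticChar_neg_one_iff_not_isSquare.2 hν]
      rcases quadraticChar_dichotomy hp.1 with h | h <;> rcases he with rfl | rfl <;> rw [h] at hp ⊢ <;>
        first | (exact absurd rfl hp.2) | norm_num
    · rintro ⟨⟨p, hp⟩, hp'⟩ ⟨⟨r, hr⟩, hr'⟩ h
      simp only [Subtype.mk.injEq] at h ⊢
      have h1 : p.eval 1 = r.eval 1 := by
        have := congrArg (fun t : F[X] => t.eval 1) h
        simp only [hT1] at this
        exact mul_left_cancel₀ hν0 this
      simp only [T, h1] at h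
      exact add_right_cancel h
  rw [Fintype.card_subtype_compl] at hbad
  have := Fintype.card_subtype_le good
  omega

end Cfsg.Agent.FormRealise53
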