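import Mathlib
import Cfsg.Agent.Lib.FormTuples53

/-!
Transport to groups of matrices on arbitrary index types.
-/

set_option autoImplicit false

open Polynomial
open LinearMap (BilinForm)

namespace Cfsg.Agent.FormTransport53

open Cfsg.Agent.FormMatrix53

universe u v

variable {F : Type u} [Field F] {ι : Type} [Fintype ι] [DecidableEq ι] {n : ℕ} (e : ι ≃ Fin n)

/-- reindexed units -/
noncomputable def toGL : GL ι F →* GL (Fin n) F :=
  Units.map (Matrix.reindexAlgEquiv F F e).toAlgHom.toRingHom.toMonoidHom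

theorem toGL_mulVec (g : GL ι F) (x : Fin n → F) :
    ((toGL e g : GL (Fin n) F) : Matrix (Fin n) (Fin n) F).mulVec x =
      ((g : Matrix ι ι F).mulVec (x ∘ e)) ∘ e.symm := by
  show (Matrix.reindex e e (g : Matrix ι ι F)).mulVec x = _
  funext i
  simp only [Matrix.reindex_apply, Function.comp_apply, Matrix.mulVec, dotProduct, Matrix.submatrix_apply]
  exact (Fintype.sum_equiv e _ _ (fun j => by simp)).symm

theorem toGL_injective : Function.Injective (toGL (F := F) e) := by
  intro a b h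
  refine Units.ext ?_
  exact (Matrix.reindexAlgEquiv F F e).injective (congrArg Units.val h)

theorem toGL_surjective : Function.Surjective (toGL (F := F) e) := by
  intro a
  refine ⟨Units.map (Matrix.reindexAlgEquiv F F e).symm.toAlgHom.toRingHom.toMonoidHom a, Units.ext ?_⟩
  exact (Matrix.reindexAlgEquiv F F e).apply_symm_apply _

/-- the form on `Fin n` -/
noncomputable def stdOf {δ : F} (B : BilinForm F (ι → F)) (hs : ∀ x y, B y x = δ * B x y)
    (hn : ∀ x, (∀ y, B x y = 0) → x = 0) : Std F δ n where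
  B := B.compl₁₂ (LinearMap.funLeft F F e) (LinearMap.funLeft F F e)
  sym x y := hs _ _
  nd x h := by
    have h' := hn (x ∘ e) fun y => by
      have := h (y ∘ e.symm)
      simpa [LinearMap.funLeft, Function.comp_def] using this
    funext i
    simpa using congrFun h' (e.symm i)

variable [Fintype F]

include e in
/-- bound for non-conjugate elements with a property of the tuple -/
theorem card_family_le {δ : F} (hδ : δ = 1 ∨ δ = -1) (h2 : (2 : F) ≠ 0) [NeZero n] {H : Type v} [Group H] [Finite H]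
    (f : H →* GL ι F) (hf : Function.Injective f) (B : BilinForm F (ι → F)) (hs : ∀ x y, B y x = δ * B x y)
    (hn : ∀ x, (∀ y, B x y = 0) → x = 0)
    (hmem : ∀ (h : H) x y, B ((f h : Matrix ι ι F).mulVec x) ((f h : Matrix ι ι F).mulVec y) = B x y)
    (hall : ∀ g : GL ι F, (∀ x y, B ((g : Matrix ι ι F).mulVec x) ((g : Matrix ι ι F).mulVec y) = B x y) →
      ∃ h, f h = g)
    {κ : Type v} [Finite κ] (rep : κ → H) (hrep : ∀ i j, IsConj (rep i) (rep j) → i = j)
    (P : (Fin n → F[X]) → Prop) (hP : ∀ i, P (SLClasses53.tup (toGL e (f (rep i))))) :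
    Nat.card κ ≤ ∑ᶠ t : {t : OkT δ n // P t.1}, 2 ^ sig δ t.1.1 ∧
      (δ = 1 → Nat.card κ ≤ ∑ᶠ t : {t : OkT δ n // P t.1}, 2 ^ (sig δ t.1.1 - 1)) := by
  have key : ∀ (g : GL ι F) (x y : Fin n → F),
      (stdOf e B hs hn).B (((toGL e g : GL (Fin n) F) : Matrix (Fin n) (Fin n) F).mulVec x)
        (((toGL e g : GL (Fin n) F) : Matrix (Fin n) (Fin n) F).mulVec y) =
      B ((g : Matrix ι ι F).mulVec (x ∘ e)) ((g : Matrix ι ι F).mulVec (y ∘ e)) := by
    intro g x y
    rw [toGL_mulVec, toGL_mulVec]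
    simp [stdOf, LinearMap.funLeft, Function.comp_def]
  refine FormMatrix53.card_family_le (stdOf e B hs hn) hδ ((toGL e).comp f) h2 ((toGL_injective e).comp hf)
    (fun h x y => ?_) (fun g hg => ?_) rep hrep P hP
  · show (stdOf e B hs hn).B _ _ = _
    rw [MonoidHom.comp_apply, key, hmem]
    rfl
  · obtain ⟨g', rfl⟩ := toGL_surjective e g
    obtain ⟨h, rfl⟩ := hall g' fun x y => by
      have := hg (x ∘ e.symm) (y ∘ e.symm)
      rw [key] at this
      simpa [stdOf, LinearMap.funLeft, Function.comp_def] using this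
    exact ⟨h, rfl⟩

include e in
/-- class bound for the group preserving a form -/
theorem card_classes_le {δ : F} (hδ : δ = 1 ∨ δ = -1) (h2 : (2 : F) ≠ 0) [NeZero n] {H : Type v} [Group H] [Finite H]
    (f : H →* GL ι F) (hf : Function.Injective f) (B : BilinForm F (ι → F)) (hs : ∀ x y, B y x = δ * B x y)
    (hn : ∀ x, (∀ y, B x y = 0) → x = 0)
    (hmem : ∀ (h : H) x y, B ((f h : Matrix ι ι F).mulVec x) ((f h : Matrix ι ι F).mulVec y) = B x y)
    (hall : ∀ g : GL ι F, (∀ x y, B ((g : Matrix ι ι F).mulVec x) ((g : Matrix ι ι F).mulVec y) = B x y) →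
      ∃ h, f h = g) :
    Nat.card (ConjClasses H) ≤ ∑ᶠ t : OkT δ n, 2 ^ sig δ t.1 ∧
      (δ = 1 → Nat.card (ConjClasses H) ≤ ∑ᶠ t : OkT δ n, 2 ^ (sig δ t.1 - 1)) := by
  obtain ⟨h1, h2'⟩ := card_family_le e hδ h2 f hf B hs hn hmem hall (Quotient.out : ConjClasses H → H)
    (fun i j h => (Quotient.out_eq i).symm.trans ((Quotient.sound h).trans (Quotient.out_eq j)))
    (fun _ => True) fun _ => trivial
  let eq := Equiv.subtypeUnivEquiv (p := fun _ : OkT δ n => True) fun _ => trivial
  exact ⟨h1.trans (finsum_comp_equiv eq (f := fun t : OkT δ n => 2 ^ sig δ t.1)).le,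
    fun hd => (h2' hd).trans (finsum_comp_equiv eq (f := fun t : OkT δ n => 2 ^ (sig δ t.1 - 1))).le⟩

end Cfsg.Agent.FormTransport53
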