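import Mathlib
import Cfsg.Prelude.Def_Classical
import Cfsg.Agent.Lib.FormTransport53
import Cfsg.Agent.Lib.FormRealise53

/-!
Class numbers of orthogonal groups in odd characteristic.
-/

set_option autoImplicit false

open Polynomial
open LinearMap (BilinForm)
open scoped Matrix

namespace Cfsg.Agent.FormOrth53

open Cfsg.Agent.FormSys53 Cfsg.Agent.FormSub53 Cfsg.Agent.FormMatrix53

universe u

variable {F : Type u} [Field F] [Fintype F] {ι : Type} [Fintype ι] [DecidableEq ι]
  {Q : QuadraticForm F (ι → F)}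

omit [Fintype F] [Fintype ι] [DecidableEq ι] in
theorem polar_comm' (x y : ι → F) :
    QuadraticMap.polarBilin Q y x = 1 * QuadraticMap.polarBilin Q x y := by
  rw [one_mul, QuadraticMap.polarBilin_apply_apply, QuadraticMap.polarBilin_apply_apply, QuadraticMap.polar_comm]

omit [Fintype F] in
theorem mem_iff_polar (h2 : (2 : F) ≠ 0) (g : GL ι F) :
    g ∈ Cfsg.isometryGroup F ⇑Q ↔ ∀ x y, QuadraticMap.polarBilin Q ((g : Matrix ι ι F) *ᵥ x)
      ((g : Matrix ι ι F) *ᵥ y) = QuadraticMap.polarBilin Q x y := by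
  constructor
  · intro h x y
    simp only [QuadraticMap.polarBilin_apply_apply, QuadraticMap.polar, ← Matrix.mulVec_add]
    have h' : ∀ z, Q ((g : Matrix ι ι F) *ᵥ z) = Q z := fun z => h z z
    rw [h', h', h']
  · intro h u v
    have := h u u
    simp only [QuadraticMap.polarBilin_apply_apply, QuadraticMap.polar_self, nsmul_eq_mul, Nat.cast_ofNat] at this
    exact mul_left_cancel₀ h2 this

theorem two_ne (hodd : Odd (Fintype.card F)) : (2 : F) ≠ 0 := by
  intro h
  haveI : CharP F 2 := CharTwo.of_one_ne_zero_of_two_eq_zero one_ne_zero h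
  have := FiniteField.even_card_of_char_two (F := F) (ringChar.eq F 2)
  rw [Nat.odd_iff] at hodd
  omega

theorem sign_iff_odd (h2 : (2 : F) ≠ 0) (s : ℕ) (hs : 1 ≤ s) : ((s % 2 == 1) = true ↔ sign (1 : F) s) := by
  simp only [sign, beq_iff_eq, one_mul]
  rcases Nat.even_or_odd (s - 1) with he | he
  · exact ⟨fun _ => he.neg_one_pow, fun _ => by obtain ⟨k, hk⟩ := he; omega⟩
  · refine ⟨fun h => by obtain ⟨k, hk⟩ := he; omega, fun h => absurd ?_ h2⟩
    rw [he.neg_one_pow] at h
    linear_combination -h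

theorem upper (hodd : Odd (Fintype.card F)) (hnd : (QuadraticMap.polarBilin Q).Nondegenerate) {m : ℕ}
    (hdim : Fintype.card ι = 2 * m) (hm : 1 ≤ m) :
    2 * Nat.card (ConjClasses ↥(Cfsg.isometryGroup F ⇑Q)) ≤ 19 * Fintype.card F ^ m := by
  classical
  have h2 := two_ne hodd
  have hq : 3 ≤ Fintype.card F := by
    have := Fintype.one_lt_card (α := F)
    rw [Nat.odd_iff] at hodd
    omega
  haveI : NeZero (2 * m) := ⟨by omega⟩
  obtain ⟨-, h⟩ := FormTransport53.card_classes_le ((Fintype.equivFin ι).trans (finCongr hdim)) (δ := (1 : F))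
    (Or.inl rfl) h2 (Subgroup.subtype (Cfsg.isometryGroup F ⇑Q)) (Subgroup.subtype_injective _)
    (QuadraticMap.polarBilin Q) polar_comm' (fun x hx => hnd.1 x hx)
    (fun g x y => (mem_iff_polar h2 g.1).1 g.2 x y) (fun g hg => ⟨⟨g, (mem_iff_polar h2 g).2 hg⟩, rfl⟩)
  have h' := FormTuples53.sum_pow_sig_pred_le (δ := (1 : F)) (n := 2 * m) h2 (fun s => s % 2 == 1)
    (sign_iff_odd h2)
  have := FormCountArith53.orth_even_le hq (2 * m) m (by omega)
  have := h rfl
  omega

theorem lower (hodd : Odd (Fintype.card F)) (hnd : (QuadraticMap.polarBilin Q).Nondegenerate) {m : ℕ}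
    (hdim : Fintype.card ι = 2 * m) (hm : 2 ≤ m) :
    Fintype.card F ^ m ≤ 2 * Nat.card (ConjClasses ↥(Cfsg.isometryGroup F ⇑Q)) := by
  classical
  have h2 := two_ne hodd
  set B := QuadraticMap.polarBilin Q with hB
  let b₀ := Pi.basisFun F ι
  set e := quadraticChar F (LinearMap.BilinForm.toMatrix b₀ B).det with he_def
  have hd0 : (LinearMap.BilinForm.toMatrix b₀ B).det ≠ 0 :=
    (LinearMap.BilinForm.nondegenerate_iff_det_ne_zero b₀).1 hnd
  have he : e = 1 ∨ e = -1 := quadraticChar_dichotomy hd0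
  refine (FormRealise53.card_realised_ge h2 hm e he).trans (Nat.mul_le_mul_left _ ?_)
  have hex : ∀ p : {p : F[X] // (FormTuples53.Plain p ∧ p.natDegree = 2 * m) ∧
      (p.eval 1 * p.eval (-1) = 0 ∨ quadraticChar F (p.eval 1 * p.eval (-1)) = e)},
      ∃ g : ↥(Cfsg.isometryGroup F ⇑Q), (g.1 : Matrix ι ι F).charpoly = p.1 := by
    rintro ⟨p, ⟨hp, hpd⟩, hok⟩
    obtain ⟨S, hS1, hS2, hS3⟩ := FormRealise53.exists_sys h2 m p hp hpd e he hok
    let b₁ := Module.finBasis F S.V
    obtain ⟨T, hT⟩ := FiniteFormClass.exists_isometry h2 S.B B (fun x y => by rw [S.sym y x, one_mul])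
      (fun x y => by rw [hB, polar_comm' y x, one_mul]) (B_nondegenerate S) hnd (n := 2 * m - 1)
      (hS1.trans (by omega)) (by rw [Module.finrank_fintype_fun_eq_card, hdim]; omega) b₁ b₀ (by
        have hd1 : (LinearMap.BilinForm.toMatrix b₁ S.B).det ≠ 0 := det_ne_zero b₁
        rw [← quadraticChar_one_iff_isSquare (mul_ne_zero hd1 hd0), map_mul]
        show disc S * e = 1
        rw [hS3]
        rcases he with h | h <;> rw [h] <;> norm_num)
    let L : (ι → F) →ₗ[F] (ι → F) := T.toLinearMap ∘ₗ S.g ∘ₗ T.symm.toLinearMap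
    have hchar : (LinearMap.toMatrix' L).charpoly = p := by
      rw [← LinearMap.toMatrix_eq_toMatrix', LinearMap.charpoly_toMatrix]
      exact (LinearEquiv.charpoly_conj T S.g).trans hS2
    have hunit : IsUnit (LinearMap.toMatrix' L).det := by
      rw [Matrix.det_eq_sign_charpoly_coeff, hchar, hp.2.2, mul_one]
      exact (isUnit_one.neg).pow _
    let g : GL ι F := Matrix.GeneralLinearGroup.mkOfDetNeZero (LinearMap.toMatrix' L) hunit.ne_zero
    refine ⟨⟨g, (mem_iff_polar h2 g).2 fun x y => ?_⟩, hchar⟩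
    show B ((LinearMap.toMatrix' L) *ᵥ x) ((LinearMap.toMatrix' L) *ᵥ y) = B x y
    rw [LinearMap.toMatrix'_mulVec, LinearMap.toMatrix'_mulVec]
    simp only [L, LinearMap.comp_apply, LinearEquiv.coe_coe]
    rw [hT, S.inv, ← hT, T.apply_symm_apply, T.apply_symm_apply]
  choose g hg using hex
  refine Nat.card_le_card_of_injective (fun p => ConjClasses.mk (g p)) fun a b hab => ?_
  obtain ⟨c, hc⟩ := isConj_iff.1 (ConjClasses.mk_eq_mk_iff_isConj.1 hab)
  refine Subtype.ext ?_
  rw [← hg a, ← hg b, ← hc]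
  simp only [Subgroup.coe_mul, Subgroup.coe_inv, Units.val_mul]
  rw [Matrix.coe_units_inv]
  exact (Matrix.charpoly_units_conj c.1 _).symm

end Cfsg.Agent.FormOrth53
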