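import Mathlib

/-!
Class numbers of a subgroup given as the kernel of a character onto `{±1}`.
-/

set_option autoImplicit false

namespace Cfsg.Agent.IndexTwoClasses53

universe u

variable {G : Type u} [Group G] [Finite G] (χ : G →* ℤˣ)

/-- the centraliser is contained in the kernel -/
def Inert (x : G) : Prop := ∀ y, Commute x y → χ y = 1

omit [Finite G] in
theorem inert_conj {x y : G} (h : Inert χ x) (hxy : IsConj x y) : Inert χ y := by
  obtain ⟨c, rfl⟩ := isConj_iff.1 hxy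
  intro z hz
  have h' : Commute x (c⁻¹ * z * c) := by
    have := hz.map (MulAut.conj c⁻¹).toMonoidHom
    simpa [mul_assoc] using this
  have := h _ h'
  rw [map_mul, map_mul, mul_comm (χ c⁻¹), mul_assoc, ← map_mul, inv_mul_cancel, map_one, mul_one] at this
  exact this

/-- commuting pairs whose first entry has its centraliser in the kernel are at most classes times order -/
theorem card_inert_le :
    Nat.card {p : G × G // Commute p.1 p.2 ∧ Inert χ p.1} ≤
      Nat.card {c : ConjClasses G // Inert χ c.out} * Nat.card G := by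
  classical
  rw [← Nat.card_prod]
  have hrep : ∀ x : G, ∃ h : G, h * (ConjClasses.mk x).out * h⁻¹ = x := fun x =>
    isConj_iff.1 (ConjClasses.mk_eq_mk_iff_isConj.1 (Quotient.out_eq (ConjClasses.mk x)))
  choose h hh using hrep
  refine Nat.card_le_card_of_injective (fun p => (⟨ConjClasses.mk p.1.1, ?_⟩, p.1.2 * h p.1.1)) ?_
  · refine inert_conj χ p.2.2 ?_
    exact (isConj_iff.2 ⟨_, hh p.1.1⟩).symm
  · rintro ⟨⟨x, y⟩, hxy, hx⟩ ⟨⟨x', y'⟩, hxy', hx'⟩ e
    simp only [Prod.mk.injEq, Subtype.mk.injEq] at e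
    obtain ⟨e1, e2⟩ := e
    have k : x = x' := by
      calc x = y * (h x * (ConjClasses.mk x).out * (h x)⁻¹) * y⁻¹ := by
            rw [hh, ← hxy.eq, mul_inv_cancel_right]
        _ = (y * h x) * (ConjClasses.mk x).out * (y * h x)⁻¹ := by group
        _ = (y' * h x') * (ConjClasses.mk x').out * (y' * h x')⁻¹ := by rw [e1, e2]
        _ = y' * (h x' * (ConjClasses.mk x').out * (h x')⁻¹) * y'⁻¹ := by group
        _ = x' := by rw [hh, ← hxy'.eq, mul_inv_cancel_right]
    subst k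
    exact Subtype.ext (Prod.ext rfl (mul_right_cancel e2))

/-- class numbers of the group and of the kernel -/
theorem card_classes (hχ : ∃ g, χ g = -1) :
    Nat.card (ConjClasses G) ≤ 2 * Nat.card (ConjClasses χ.ker) ∧
      2 * Nat.card (ConjClasses χ.ker) ≤
        Nat.card (ConjClasses G) + 3 * Nat.card {c : ConjClasses G // Inert χ c.out} := by
  classical
  haveI := Fintype.ofFinite G
  have hcases : ∀ g, χ g = 1 ∨ χ g = -1 := fun g => Int.units_eq_one_or _
  let cnt : (G → G → Prop) → ℕ := fun P => Nat.card {p : G × G // Commute p.1 p.2 ∧ P p.1 p.2}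
  have hsplit : ∀ (P : G → G → Prop) (Q : G → G → Prop), cnt P = cnt (fun x y => P x y ∧ Q x y) + cnt (fun x y => P x y ∧ ¬ Q x y) := by
    intro P Q
    simp only [cnt, Nat.card_eq_fintype_card, Fintype.card_subtype]
    rw [← Finset.card_filter_add_card_filter_not (fun p : G × G => Q p.1 p.2), Finset.filter_filter, Finset.filter_filter]
    congr 2 <;> ext p <;> simp [and_assoc]
  have hbij : ∀ (P Q : G → G → Prop) (f f' : G × G → G × G),
      (∀ x y, Commute x y → P x y → Commute (f (x, y)).1 (f (x, y)).2 ∧ Q (f (x, y)).1 (f (x, y)).2 ∧ f' (f (x, y)) = (x, y)) →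
      (∀ x y, Commute x y → Q x y → Commute (f' (x, y)).1 (f' (x, y)).2 ∧ P (f' (x, y)).1 (f' (x, y)).2 ∧ f (f' (x, y)) = (x, y)) →
      cnt P = cnt Q := by
    intro P Q f f' h1 h2
    exact Nat.card_congr
      { toFun := fun p => ⟨f p.1, (h1 _ _ p.2.1 p.2.2).1, (h1 _ _ p.2.1 p.2.2).2.1⟩
        invFun := fun p => ⟨f' p.1, (h2 _ _ p.2.1 p.2.2).1, (h2 _ _ p.2.1 p.2.2).2.1⟩
        left_inv := fun p => Subtype.ext (h1 _ _ p.2.1 p.2.2).2.2
        right_inv := fun p => Subtype.ext (h2 _ _ p.2.1 p.2.2).2.2 }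
  set T := cnt fun _ _ => True with hT
  set NN := cnt fun x y => χ x = 1 ∧ χ y = 1 with hNN
  set NO := cnt fun x y => χ x = 1 ∧ ¬ χ y = 1 with hNO
  set ON := cnt fun x y => ¬ χ x = 1 ∧ χ y = 1 with hON
  set OO := cnt fun x y => ¬ χ x = 1 ∧ ¬ χ y = 1 with hOO
  have eT : T = NN + NO + (ON + OO) := by
    have a := hsplit (fun _ _ => True) (fun x _ => χ x = 1)
    have b := hsplit (fun x _ => χ x = 1) (fun _ y => χ y = 1)
    have c := hsplit (fun x _ => ¬ χ x = 1) (fun _ y => χ y = 1)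
    simp only [true_and] at a
    omega
  have e1 : NO = ON := hbij (fun x y => χ x = 1 ∧ ¬ χ y = 1) (fun x y => ¬ χ x = 1 ∧ χ y = 1) Prod.swap Prod.swap (fun x y h hP => ⟨h.symm, ⟨hP.2, hP.1⟩, rfl⟩)
    (fun x y h hP => ⟨h.symm, ⟨hP.2, hP.1⟩, rfl⟩)
  have e2 : ON = OO := by
    refine hbij (fun x y => ¬ χ x = 1 ∧ χ y = 1) (fun x y => ¬ χ x = 1 ∧ ¬ χ y = 1) (fun p => (p.1, p.1 * p.2)) (fun p => (p.1, p.1⁻¹ * p.2)) (fun x y h hP => ?_) (fun x y h hP => ?_)
    · refine ⟨(Commute.refl x).mul_right h, ⟨hP.1, ?_⟩, by simp⟩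
      show ¬ χ (x * y) = 1
      rw [map_mul, hP.2, mul_one]
      exact hP.1
    · refine ⟨((Commute.refl x).inv_right).mul_right h, ⟨hP.1, ?_⟩, by simp⟩
      show χ (x⁻¹ * y) = 1
      rw [map_mul, map_inv, (hcases x).resolve_left hP.1, (hcases y).resolve_left hP.2]
      decide
  set I := cnt fun x y => (χ x = 1 ∧ χ y = 1) ∧ Inert χ x with hI
  have hex : ∀ x : G, ∃ c, ¬ Inert χ x → Commute x c ∧ χ c = -1 := by
    intro x
    by_cases hx : Inert χ x
    · exact ⟨1, fun h => absurd hx h⟩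
    · simp only [Inert, not_forall] at hx
      obtain ⟨c, hc, hc'⟩ := hx
      exact ⟨c, fun _ => ⟨hc, (hcases c).resolve_left hc'⟩⟩
  choose w hw using hex
  have e3 : cnt (fun x y => (χ x = 1 ∧ χ y = 1) ∧ ¬ Inert χ x) = NO := by
    refine hbij (fun x y => (χ x = 1 ∧ χ y = 1) ∧ ¬ Inert χ x) (fun x y => χ x = 1 ∧ ¬ χ y = 1) (fun p => (p.1, w p.1 * p.2)) (fun p => (p.1, (w p.1)⁻¹ * p.2)) (fun x y h hP => ?_) (fun x y h hP => ?_)
    · obtain ⟨hc, hc'⟩ := hw x hP.2
      refine ⟨hc.mul_right h, ⟨hP.1.1, ?_⟩, by simp⟩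
      show ¬ χ (w x * y) = 1
      rw [map_mul, hc', hP.1.2]
      decide
    · have hni : ¬ Inert χ x := fun hi => hP.2 (hi y h)
      obtain ⟨hc, hc'⟩ := hw x hni
      refine ⟨(hc.inv_right).mul_right h, ⟨⟨hP.1, ?_⟩, hni⟩, by simp⟩
      show χ ((w x)⁻¹ * y) = 1
      rw [map_mul, map_inv, hc', (hcases y).resolve_left hP.2]
      decide
  have e4 : NN = I + NO := by rw [← e3]; exact hsplit (fun x y => χ x = 1 ∧ χ y = 1) (fun x _ => Inert χ x)
  have eG : T = Nat.card (ConjClasses G) * Nat.card G := by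
    rw [← card_comm_eq_card_conjClasses_mul_card]
    exact Nat.card_congr (Equiv.subtypeEquivRight fun p => by simp)
  have eN : NN = Nat.card (ConjClasses χ.ker) * Nat.card χ.ker := by
    rw [← card_comm_eq_card_conjClasses_mul_card]
    exact Nat.card_congr
      { toFun := fun p => ⟨(⟨p.1.1, p.2.2.1⟩, ⟨p.1.2, p.2.2.2⟩), Subtype.ext p.2.1.eq⟩
        invFun := fun p => ⟨(p.1.1.1, p.1.2.1), congrArg Subtype.val p.2.eq, p.1.1.2, p.1.2.2⟩
        left_inv := fun p => rfl
        right_inv := fun p => rfl }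
  have hidx : χ.ker.index = 2 := by
    obtain ⟨g, hg⟩ := hχ
    rw [Subgroup.index_ker, MonoidHom.range_eq_top.2 fun z => by
      rcases Int.units_eq_one_or z with rfl | rfl
      · exact ⟨1, map_one χ⟩
      · exact ⟨g, hg⟩, Subgroup.card_top, Nat.card_eq_fintype_card]
    decide
  have hG : Nat.card G = Nat.card χ.ker * 2 := by rw [← hidx, Subgroup.card_mul_index]
  have hIle : I ≤ Nat.card {c : ConjClasses G // Inert χ c.out} * Nat.card G := by
    refine le_trans ?_ (card_inert_le χ)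
    exact Nat.card_le_card_of_injective (fun p => ⟨p.1, p.2.1, p.2.2.2⟩) fun a b h => Subtype.ext (congrArg (fun z => z.1) h)
  have hpos : 0 < Nat.card χ.ker := Nat.card_pos
  set kG := Nat.card (ConjClasses G)
  set kN := Nat.card (ConjClasses χ.ker)
  set b := Nat.card {c : ConjClasses G // Inert χ c.out}
  set m := Nat.card χ.ker
  rw [hG] at eG hIle
  constructor
  · refine Nat.le_of_mul_le_mul_right ?_ hpos
    nlinarith
  · refine Nat.le_of_mul_le_mul_right ?_ hpos
    nlinarith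

end Cfsg.Agent.IndexTwoClasses53
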