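import Mathlib
import Cfsg.Prelude.Def_Classical
import Cfsg.Agent.Lib.FormOrth53
import Cfsg.Agent.Lib.FormEigen53
import Cfsg.Agent.Lib.FormLe1Count53
import Cfsg.Agent.Lib.IndexTwoClasses53
import Cfsg.Agent.Lib.OmegaClasses

/-!
Class numbers of the commutator subgroup of an orthogonal group in odd dimension.
-/

set_option autoImplicit false

open Polynomial
open LinearMap (BilinForm)
open scoped Matrix
open Cfsg.Agent.GLClassBound53 Cfsg.Agent.UnitaryPolys53

namespace Cfsg.Agent.FormOmega53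

open Cfsg.Agent.FormSys53 Cfsg.Agent.FormSub53 Cfsg.Agent.FormMatrix53 Cfsg.Agent.FormTuples53
open Cfsg.Agent.FormCountArith53 (tot)
open Cfsg.Agent.OrthUnitaryQuad Cfsg.Agent.OrthUnitaryOmega Cfsg.Agent.OrthUnitaryPrelude

universe u

variable {F : Type u} [Field F] [Fintype F] {ι : Type} [Fintype ι] [DecidableEq ι]
  {Q : QuadraticForm F (ι → F)}

/-- determinant -/
noncomputable def detO (Q : QuadraticForm F (ι → F)) : ↥(Cfsg.isometryGroup F ⇑Q) →* Fˣ :=
  (detHom Q).comp (iso Q).toMonoidHom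

/-- the special group -/
noncomputable abbrev SO (Q : QuadraticForm F (ι → F)) : Subgroup ↥(Cfsg.isometryGroup F ⇑Q) := (detO Q).ker

/-- the spinor character -/
noncomputable def chi (Q : QuadraticForm F (ι → F)) : ↥(SO Q) →* ℤˣ :=
  ((theta Q).comp (iso Q).toMonoidHom).comp (SO Q).subtype

theorem mem_Omega (h2 : (2 : F) ≠ 0) (hnd : (QuadraticMap.polarBilin Q).Nondegenerate)
    (g : ↥(Cfsg.isometryGroup F ⇑Q)) :
    g ∈ Cfsg.Omega F ⇑Q ↔ detO Q g = 1 ∧ theta Q (iso Q g) = 1 := by
  rw [mem_Omega_iff, (odd_main h2 (isReg_of_nondegenerate hnd)).1]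
  rfl

/-- the commutator subgroup as the kernel of the spinor character -/
noncomputable def omegaEquiv (h2 : (2 : F) ≠ 0) (hnd : (QuadraticMap.polarBilin Q).Nondegenerate) :
    ↥(Cfsg.Omega F ⇑Q) ≃* ↥(chi Q).ker where
  toFun x := ⟨⟨x.1, ((mem_Omega h2 hnd x.1).1 x.2).1⟩, ((mem_Omega h2 hnd x.1).1 x.2).2⟩
  invFun y := ⟨y.1.1, (mem_Omega h2 hnd y.1.1).2 ⟨y.1.2, y.2⟩⟩
  left_inv _ := rfl
  right_inv _ := rfl
  map_mul' _ _ := rfl

omit [Fintype F] in
theorem neg_mem (Q : QuadraticForm F (ι → F)) : (-1 : GL ι F) ∈ Cfsg.isometryGroup F ⇑Q := by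
  intro u _
  show Q (((-1 : GL ι F) : Matrix ι ι F) *ᵥ u) = Q u
  rw [Units.val_neg, Units.val_one, Matrix.neg_mulVec, Matrix.one_mulVec, QuadraticMap.map_neg]

/-- minus one -/
noncomputable def negO (Q : QuadraticForm F (ι → F)) : ↥(Cfsg.isometryGroup F ⇑Q) := ⟨-1, neg_mem Q⟩

omit [Fintype F] in
theorem negO_comm (x : ↥(Cfsg.isometryGroup F ⇑Q)) : Commute (negO Q) x :=
  Subtype.ext (by simp [negO])

theorem detO_negO {m : ℕ} (hdim : Fintype.card ι = 2 * m + 1) : detO Q (negO Q) = -1 := by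
  apply Units.ext
  show ((detHom Q (iso Q (negO Q)) : Fˣ) : F) = _
  rw [← det_mat, Units.val_neg, Units.val_one, show mat (negO Q) = -1 from rfl, Matrix.det_neg, Matrix.det_one,
    mul_one, hdim, pow_succ, pow_mul, neg_one_sq, one_pow, one_mul]

theorem neg_one_ne (h2 : (2 : F) ≠ 0) : (-1 : Fˣ) ≠ 1 := fun h => h2 (by
  have := congrArg Units.val h
  simp only [Units.val_neg, Units.val_one] at this
  linear_combination -this)

/-- the element times a sign -/
noncomputable def sgn (Q : QuadraticForm F (ι → F)) (b : Bool) (x : ↥(SO Q)) : ↥(Cfsg.isometryGroup F ⇑Q) :=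
  if b then negO Q * x.1 else x.1

theorem detO_cases (h2 : (2 : F) ≠ 0) (hnd : (QuadraticMap.polarBilin Q).Nondegenerate)
    (c : ↥(Cfsg.isometryGroup F ⇑Q)) : detO Q c = 1 ∨ detO Q c = -1 := by
  obtain ⟨vs, hvs, hg⟩ := OmegaClasses.exists_rprod (OmegaClasses.reflGroup_top hnd
    (Or.inl fun h => h2 (by
      have := FiniteField.cast_card_eq_zero F
      rwa [h, Nat.cast_ofNat] at this))) (iso Q c)
  show detHom Q (iso Q c) = 1 ∨ detHom Q (iso Q c) = -1
  rw [hg, OmegaClasses.detHom_rprod hvs]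
  exact neg_one_pow_eq_or _ _

theorem sgn_inj (h2 : (2 : F) ≠ 0) (hnd : (QuadraticMap.polarBilin Q).Nondegenerate) {m : ℕ} (hdim : Fintype.card ι = 2 * m + 1) {b b' : Bool} {x y : ↥(SO Q)}
    (h : IsConj (sgn Q b x) (sgn Q b' y)) : b = b' ∧ IsConj x y := by
  obtain ⟨c, hc⟩ := isConj_iff.1 h
  have hd := congrArg (detO Q) hc
  rw [map_mul, map_mul, mul_comm (detO Q c), mul_assoc, ← map_mul, mul_inv_cancel, map_one, mul_one] at hd
  have hval : ∀ (b : Bool) (z : ↥(SO Q)), detO Q (sgn Q b z) = if b then -1 else 1 := by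
    intro b z
    cases b
    · exact z.2
    · show detO Q (negO Q * z.1) = _
      rw [map_mul, detO_negO hdim, show detO Q z.1 = 1 from z.2, mul_one]
      rfl
  rw [hval, hval] at hd
  have hb : b = b' := by
    cases b <;> cases b' <;> simp at hd ⊢
    · exact neg_one_ne h2 hd.symm
    · exact neg_one_ne h2 hd
  subst hb
  have hcc : c * x.1 * c⁻¹ = y.1 := by
    cases b
    · exact hc
    · simp only [sgn, if_true] at hc
      rw [← mul_assoc, ← (negO_comm c).eq, mul_assoc, mul_assoc, ← mul_assoc c] at hc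
      exact mul_left_cancel hc
  refine ⟨rfl, ?_⟩
  obtain ⟨c', hc'1, hc'2⟩ : ∃ c', detO Q c' = 1 ∧ c' * x.1 * c'⁻¹ = y.1 := by
    by_cases hdc : detO Q c = 1
    · exact ⟨c, hdc, hcc⟩
    · refine ⟨negO Q * c, ?_, ?_⟩
      · rw [map_mul, detO_negO hdim, (detO_cases h2 hnd c).resolve_left hdc, neg_mul_neg, one_mul]
      · rw [mul_inv_rev, mul_assoc, mul_assoc, ← mul_assoc x.1, ← mul_assoc c, ← mul_assoc c, hcc, ← mul_assoc,
          (negO_comm y.1).eq, mul_inv_cancel_right]
  exact isConj_iff.2 ⟨⟨c', hc'1⟩, Subtype.ext hc'2⟩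

theorem card_SO_le (h2 : (2 : F) ≠ 0) (hnd : (QuadraticMap.polarBilin Q).Nondegenerate) {m : ℕ}
    (hdim : Fintype.card ι = 2 * m + 1) :
    2 * Nat.card (ConjClasses ↥(SO Q)) ≤ Nat.card (ConjClasses ↥(Cfsg.isometryGroup F ⇑Q)) := by
  rw [mul_comm, ← show Nat.card Bool = 2 by simp, ← Nat.card_prod]
  refine Nat.card_le_card_of_injective (fun p => ConjClasses.mk (sgn Q p.2 p.1.out)) fun p r h => ?_
  obtain ⟨hb, hc⟩ := sgn_inj h2 hnd hdim (ConjClasses.mk_eq_mk_iff_isConj.1 h)
  exact Prod.ext ((Quotient.out_eq p.1).symm.trans ((Quotient.sound hc).trans (Quotient.out_eq r.1))) hb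

/-- no two eigenvectors for the same sign have values in different square classes -/
theorem inert_eigen (h2 : (2 : F) ≠ 0) (hnd : (QuadraticMap.polarBilin Q).Nondegenerate) {x : ↥(SO Q)}
    (hx : IndexTwoClasses53.Inert (chi Q) x) {ε : F} {v w : ι → F}
    (hv : mat x.1 *ᵥ v = ε • v) (hw : mat x.1 *ᵥ w = ε • w) (hε : ε * ε = 1) (hv1 : Q v = 1)
    (hns : ¬ IsSquare (Q w)) : False := by
  have hw0 : Q w ≠ 0 := fun h => hns (by rw [h]; exact IsSquare.zero)
  have hvs : OmegaClasses.NS Q [v, w] := by simp [OmegaClasses.NS, hv1, hw0]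
  obtain ⟨k, hk⟩ : ∃ k, k = OmegaClasses.rprod Q [v, w] := ⟨_, rfl⟩
  have hcom : ∀ (u : ι → F) (hu : Q u ≠ 0), mat x.1 *ᵥ u = ε • u → Commute (iso Q x.1) (refl Q u hu) := by
    intro u hu he
    refine Subtype.ext (LinearEquiv.ext fun y => ?_)
    show (iso Q x.1).1 ((refl Q u hu).1 y) = (refl Q u hu).1 ((iso Q x.1).1 y)
    have hux : (iso Q x.1).1 u = ε • u := by rw [iso_apply, he]
    have hp : QuadraticMap.polar Q u ((iso Q x.1).1 y) = ε * QuadraticMap.polar Q u y := by
      have h := QuadraticMap.polar_smul_left Q ε u ((iso Q x.1).1 y)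
      rw [← hux, smul_eq_mul] at h
      have e : QuadraticMap.polar Q ((iso Q x.1).1 u) ((iso Q x.1).1 y) = QuadraticMap.polar Q u y := by
        simp only [QuadraticMap.polar, ← map_add, map_orth (iso Q x.1)]
      rw [e] at h
      rw [h, ← mul_assoc, hε, one_mul]
    rw [refl_apply, refl_apply, map_sub, map_smul, hux, hp, smul_smul]
    congr 2
    ring
  have hrefl : k = refl Q v (hvs.head) * refl Q w hw0 := by
    rw [hk, OmegaClasses.rprod_cons hvs.head, OmegaClasses.rprod_singleton hw0]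
  obtain ⟨c, hck⟩ : ∃ c, iso Q c = k := ⟨_, MulEquiv.apply_symm_apply (iso Q) k⟩
  have hdet : detO Q c = 1 := by
    show detHom Q (iso Q c) = 1
    rw [hck, hk, OmegaClasses.detHom_rprod hvs]
    simp
  have hcomm : Commute x ⟨c, hdet⟩ := by
    refine Subtype.ext ((iso Q).injective ?_)
    show iso Q (x.1 * c) = iso Q (c * x.1)
    rw [map_mul, map_mul, hck, hrefl]
    exact (hcom v _ hv).mul_right (hcom w _ hw)
  have hth : theta Q (iso Q c) = 1 := by
    have h := hx _ hcomm
    simpa only [chi, MonoidHom.comp_apply, Subgroup.coe_subtype, MulEquiv.coe_toMonoidHom] using h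
  have hmem := (mem_Omega h2 hnd c).2 ⟨hdet, hth⟩
  rw [mem_Omega_iff, hck, hk, OmegaClasses.rprod_mem_iff hnd (Or.inl fun h => h2 (by
      have := FiniteField.cast_card_eq_zero F
      rwa [h, Nat.cast_ofNat] at this)) hvs] at hmem
  have := hmem.2
  simp only [List.map_cons, List.map_nil, List.prod_cons, List.prod_nil, hv1, one_mul, mul_one] at this
  exact hns this

omit [Fintype ι] [DecidableEq ι] in
theorem sig_pos (h2 : (2 : F) ≠ 0) {m : ℕ} (t : OkT (1 : F) (2 * m + 1)) : 1 ≤ sig (1 : F) t.1 := by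
  classical
  by_contra h
  have h0 : sig (1 : F) t.1 = 0 := by omega
  rw [sig, Finset.card_eq_zero, Finset.filter_eq_empty_iff] at h0
  have hev : ∀ j : Fin (2 * m + 1), 2 ∣ ((j : ℕ) + 1) * (t.1 j).natDegree := by
    intro j
    rcases Nat.even_or_odd ((j : ℕ) + 1) with he | ho
    · exact dvd_mul_of_dvd_left he.two_dvd _
    · have hs := (FormOrth53.sign_iff_odd h2 ((j : ℕ) + 1) (by omega)).1 (by simp [Nat.odd_iff.1 ho])
      have h1 := h0 (x := (j, true)) (Finset.mem_univ _)
      have h1' := h0 (x := (j, false)) (Finset.mem_univ _)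
      simp only [not_and, if_true, Bool.false_eq_true, if_false] at h1 h1'
      obtain ⟨N, hN, hpN⟩ := exists_split h2 (t.2.1 j).1
      rw [rootMultiplicity_eq_zero (h1 hs), rootMultiplicity_eq_zero (h1' hs), pow_zero, pow_zero, one_mul,
        one_mul] at hpN
      rw [hpN]
      exact dvd_mul_of_dvd_right hN.2.1.two_dvd _
  have := Finset.dvd_sum (s := Finset.univ) fun j _ => hev j
  rw [t.2.2] at this
  omega

omit [Fintype ι] [DecidableEq ι] in
theorem two_mul_sum_pred (h2 : (2 : F) ≠ 0) {m : ℕ} (P : (Fin (2 * m + 1) → F[X]) → Prop) :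
    2 * ∑ᶠ t : {t : OkT (1 : F) (2 * m + 1) // P t.1}, 2 ^ (sig (1 : F) t.1.1 - 1) =
      ∑ᶠ t : {t : OkT (1 : F) (2 * m + 1) // P t.1}, 2 ^ sig (1 : F) t.1.1 := by
  haveI := finite_OkT (1 : F) (2 * m + 1)
  haveI : Fintype {t : OkT (1 : F) (2 * m + 1) // P t.1} := Fintype.ofFinite _
  simp only [finsum_eq_sum_of_fintype, Finset.mul_sum]
  exact Finset.sum_congr rfl fun t _ => by rw [← pow_succ', Nat.sub_add_cancel (sig_pos h2 t.1)]

theorem card_O_le (h2 : (2 : F) ≠ 0) (hnd : (QuadraticMap.polarBilin Q).Nondegenerate) {m : ℕ}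
    (hdim : Fintype.card ι = 2 * m + 1) :
    2 * Nat.card (ConjClasses ↥(Cfsg.isometryGroup F ⇑Q)) ≤
      tot (Fintype.card F) (fun s => s % 2 == 1) 1 (2 * m + 1) (2 * m + 1) := by
  obtain ⟨-, h⟩ := FormTransport53.card_classes_le ((Fintype.equivFin ι).trans (finCongr hdim)) (δ := (1 : F))
    (Or.inl rfl) h2 (Subgroup.subtype (Cfsg.isometryGroup F ⇑Q)) (Subgroup.subtype_injective _)
    (QuadraticMap.polarBilin Q) FormOrth53.polar_comm' (fun x hx => hnd.1 x hx)
    (fun g x y => (FormOrth53.mem_iff_polar h2 g.1).1 g.2 x y)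
    (fun g hg => ⟨⟨g, (FormOrth53.mem_iff_polar h2 g).2 hg⟩, rfl⟩)
  refine (Nat.mul_le_mul_left 2 (h rfl)).trans ?_
  refine le_trans (le_of_eq ?_) (sum_pow_sig_le h2 _ (FormOrth53.sign_iff_odd h2))
  let e := Equiv.subtypeUnivEquiv (p := fun _ : OkT (1 : F) (2 * m + 1) => True) fun _ => trivial
  rw [← finsum_comp_equiv e (f := fun t : OkT (1 : F) (2 * m + 1) => 2 ^ (sig (1 : F) t.1 - 1))]
  refine (two_mul_sum_pred h2 (fun _ => True)).trans ?_
  exact finsum_comp_equiv e (f := fun t : OkT (1 : F) (2 * m + 1) => 2 ^ sig (1 : F) t.1)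

theorem card_inert (h2 : (2 : F) ≠ 0) (h3 : Fintype.card F = 3) (hnd : (QuadraticMap.polarBilin Q).Nondegenerate)
    {m : ℕ} (hdim : Fintype.card ι = 2 * m + 1) :
    36 * Nat.card {c : ConjClasses ↥(SO Q) // IndexTwoClasses53.Inert (chi Q) c.out} ≤
      FormCountThree53.X (2 * m) m := by
  classical
  set e := (Fintype.equivFin ι).trans (finCongr hdim) with he
  let κ := {c : ConjClasses ↥(SO Q) // IndexTwoClasses53.Inert (chi Q) c.out} × Bool
  let rep : κ → ↥(Cfsg.isometryGroup F ⇑Q) := fun p => sgn Q p.2 p.1.1.out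
  obtain ⟨-, h⟩ := FormTransport53.card_family_le e (δ := (1 : F))
    (Or.inl rfl) h2 (Subgroup.subtype (Cfsg.isometryGroup F ⇑Q)) (Subgroup.subtype_injective _)
    (QuadraticMap.polarBilin Q) FormOrth53.polar_comm' (fun x hx => hnd.1 x hx)
    (fun g x y => (FormOrth53.mem_iff_polar h2 g.1).1 g.2 x y)
    (fun g hg => ⟨⟨g, (FormOrth53.mem_iff_polar h2 g).2 hg⟩, rfl⟩) rep
    (fun p r hpr => by
      obtain ⟨hb, hc⟩ := sgn_inj h2 hnd hdim hpr
      exact Prod.ext (Subtype.ext ((Quotient.out_eq p.1.1).symm.trans ((Quotient.sound hc).trans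
        (Quotient.out_eq r.1.1)))) hb)
    (fun t => FormLe1Count53.Le1 (t 0)) (fun p => by
      obtain ⟨⟨c, hc⟩, b⟩ := p
      set x : ↥(SO Q) := c.out with hx
      let Φ : Std F (1 : F) (2 * m + 1) := FormTransport53.stdOf e (QuadraticMap.polarBilin Q)
        FormOrth53.polar_comm' (fun x hx => hnd.1 x hx)
      set g := (rep (⟨c, hc⟩, b) : ↥(Cfsg.isometryGroup F ⇑Q)) with hgdef
      have hg : Pres Φ (FormTransport53.toGL e g.1) := by
        intro u w
        show QuadraticMap.polarBilin Q _ _ = QuadraticMap.polarBilin Q _ _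
        rw [FormTransport53.toGL_mulVec, FormTransport53.toGL_mulVec]
        simp only [LinearMap.funLeft, Function.comp_def, LinearMap.coe_mk, AddHom.coe_mk, Equiv.symm_apply_apply]
        exact (FormOrth53.mem_iff_polar h2 g.1).1 g.2 _ _
      have key : ∀ ε : F, ε * ε = 1 →
          (SLClasses53.tup (FormTransport53.toGL e g.1) 0).rootMultiplicity ε ≤ 1 := by
        intro ε hε
        by_contra hcon
        have hk := kd_mult Φ hg ε hε 1 le_rfl (by omega)
        have hk' : 2 * kd (sysOf Φ hg) (X - C ε) 1 = kd (sysOf Φ hg) (X - C ε) 0 + kd (sysOf Φ hg) (X - C ε) 2 +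
            (SLClasses53.tup (FormTransport53.toGL e g.1) 0).rootMultiplicity ε := hk
        rw [kd_zero, zero_add] at hk'
        have hge : kd (sysOf Φ hg) (X - C ε) 2 + 2 ≤ 2 * kd (sysOf Φ hg) (X - C ε) 1 := by omega
        obtain ⟨ν, hν0, hν⟩ := FormFibre53.exists_nonsquare h2
        obtain ⟨v, hv, hv1⟩ := FormEigen53.exists_value (sysOf Φ hg) h2 hε hge 2
        obtain ⟨w, hw, hw1⟩ := FormEigen53.exists_value (sysOf Φ hg) h2 hε hge (2 * ν)
        have back : ∀ u : Fin (2 * m + 1) → F, (sysOf Φ hg).g u = ε • u →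
            (mat g *ᵥ (u ∘ e) = ε • (u ∘ e)) := by
          intro u hu
          have hu' : ((FormTransport53.toGL e g.1 : GL (Fin (2 * m + 1)) F) :
              Matrix (Fin (2 * m + 1)) (Fin (2 * m + 1)) F) *ᵥ u = ε • u := by
            rw [← Matrix.toLin'_apply]; exact hu
          rw [FormTransport53.toGL_mulVec] at hu'
          funext i
          have := congrFun hu' (e i)
          simpa using this
        have val : ∀ u : Fin (2 * m + 1) → F, (sysOf Φ hg).B u u = 2 * Q (u ∘ e) := by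
          intro u
          show QuadraticMap.polarBilin Q (u ∘ e) (u ∘ e) = _
          rw [QuadraticMap.polarBilin_apply_apply, QuadraticMap.polar_self]
          simp
        rw [val] at hv1 hw1
        have q1 : Q (v ∘ e) = 1 := mul_left_cancel₀ h2 (hv1.trans (mul_one 2).symm)
        have qν : Q (w ∘ e) = ν := mul_left_cancel₀ h2 hw1
        have hvx := back v hv
        have hwx := back w hw
        cases b
        · exact inert_eigen h2 hnd hc hvx hwx hε q1 (qν ▸ hν)
        · have hm : mat g = - mat x.1 := by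
            show ((-1 : GL ι F) * x.1.1 : GL ι F).1 = _
            rw [Units.val_mul, Units.val_neg, Units.val_one, neg_one_mul]
          rw [hm, Matrix.neg_mulVec, neg_eq_iff_eq_neg, ← neg_smul] at hvx hwx
          exact inert_eigen h2 hnd hc hvx hwx (by rw [neg_mul_neg, hε]) q1 (qν ▸ hν)
      exact ⟨key 1 (one_mul 1), key (-1) (by norm_num)⟩)
  have h' := h rfl
  have hcard : Nat.card κ = Nat.card {c : ConjClasses ↥(SO Q) // IndexTwoClasses53.Inert (chi Q) c.out} * 2 := by
    rw [Nat.card_prod]; simp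
  have h4 := two_mul_sum_pred h2 (m := m) fun t : Fin (2 * m + 1) → F[X] => FormLe1Count53.Le1 (t 0)
  have h5 := sum_pow_sig_where_le (δ := (1 : F)) h2 (fun s => s % 2 == 1) (FormOrth53.sign_iff_odd h2)
    (fun t : Fin (2 * m + 1) → F[X] => FormLe1Count53.Le1 (t 0))
  have h6 := FormLe1Count53.card_le h3 h2 m (2 * m)
  have h7 : Nat.card κ * 2 ≤ Nat.card {h : DT F (fun s => s % 2 == 1) 1 (2 * m + 1) (2 * m + 1) //
      FormLe1Count53.Le1 (h.1 0).1} := by
    refine le_trans ?_ h5
    rw [mul_comm, ← h4]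
    exact Nat.mul_le_mul_left 2 h'
  omega

theorem card_SO_ge (h2 : (2 : F) ≠ 0) (hnd : (QuadraticMap.polarBilin Q).Nondegenerate) {m : ℕ}
    (hdim : Fintype.card ι = 2 * m + 1) :
    Fintype.card F ^ m ≤ Nat.card (ConjClasses ↥(SO Q)) := by
  classical
  set B := QuadraticMap.polarBilin Q with hB
  let b₀ := Pi.basisFun F ι
  set d := quadraticChar F (LinearMap.BilinForm.toMatrix b₀ B).det with hd_def
  have hd0 : (LinearMap.BilinForm.toMatrix b₀ B).det ≠ 0 :=
    (LinearMap.BilinForm.nondegenerate_iff_det_ne_zero b₀).1 hnd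
  have hd : d = 1 ∨ d = -1 := quadraticChar_dichotomy hd0
  refine (FormRealise53.card_plain_ge (F := F) m).trans ?_
  have hex : ∀ p : {p : F[X] // Plain p ∧ p.natDegree = 2 * m},
      ∃ g : ↥(SO Q), (mat g.1).charpoly = p.1 * (X - C 1) := by
    rintro ⟨p, hp, hpd⟩
    obtain ⟨e, he, hok⟩ : ∃ e : ℤ, (e = 1 ∨ e = -1) ∧
        (p.eval 1 * p.eval (-1) = 0 ∨ quadraticChar F (p.eval 1 * p.eval (-1)) = e) := by
      by_cases h0 : p.eval 1 * p.eval (-1) = 0
      · exact ⟨1, Or.inl rfl, Or.inl h0⟩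
      · exact ⟨_, quadraticChar_dichotomy h0, Or.inr rfl⟩
    obtain ⟨S, hS1, hS2, hS3⟩ := FormRealise53.exists_sys h2 m p hp hpd e he hok
    obtain ⟨c, hc, hce⟩ := FormRealise53.exists_any_disc F h2 (e * d)
      (by rcases he with rfl | rfl <;> rcases hd with h | h <;> rw [h] <;> simp)
    let L : Sys F (1 : F) :=
      { V := F
        g := LinearMap.id
        B := LinearMap.mk₂ F (fun x y => c * (x * y)) (fun x x' y => by ring) (fun r x y => by simp; ring)
          (fun x y y' => by ring) (fun r x y => by simp; ring)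
        sym := fun x y => by
          show c * (y * x) = 1 * (c * (x * y))
          ring
        nd := fun x h => by
          have := h 1
          simp [hc] at this
          exact this
        inv := fun x y => rfl }
    let T := FormRealise53.sumSys S L
    have hLd : disc L = quadraticChar F c := by
      rw [disc_eq (S := L) (Module.Basis.singleton Unit F)]
      congr 1
      simp [LinearMap.BilinForm.toMatrix_apply, L, Matrix.det_unique]
    have hLc : L.g.charpoly = X - C 1 := by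
      show (LinearMap.id : F →ₗ[F] F).charpoly = _
      rw [← LinearMap.charpoly_toMatrix _ (Module.Basis.singleton Unit F), LinearMap.toMatrix_id, Matrix.charpoly_one,
        Fintype.card_unit, pow_one, map_one]
    have hT1 : Module.finrank F T.V = 2 * m + 1 := by
      show Module.finrank F (S.V × F) = _
      rw [Module.finrank_prod, hS1, Module.finrank_self]
    have hT2 : T.g.charpoly = p * (X - C 1) := by
      show (LinearMap.prodMap S.g L.g).charpoly = _
      rw [LinearMap.charpoly_prodMap, hS2, hLc]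
    have hT3 : disc T = d := by
      rw [FormRealise53.disc_sum, hS3, hLd, hce, ← mul_assoc]
      rcases he with rfl | rfl <;> simp
    let b₁ := Module.finBasis F T.V
    obtain ⟨E, hE⟩ := FiniteFormClass.exists_isometry h2 T.B B (fun x y => by rw [T.sym y x, one_mul])
      (fun x y => by rw [hB, FormOrth53.polar_comm' y x, one_mul]) (B_nondegenerate T) hnd (n := 2 * m)
      hT1 (by rw [Module.finrank_fintype_fun_eq_card, hdim]) b₁ b₀ (by
        have hd1 : (LinearMap.BilinForm.toMatrix b₁ T.B).det ≠ 0 := det_ne_zero b₁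
        rw [← quadraticChar_one_iff_isSquare (mul_ne_zero hd1 hd0), map_mul]
        show disc T * d = 1
        rw [hT3]
        rcases hd with h | h <;> rw [h] <;> norm_num)
    let M : (ι → F) →ₗ[F] (ι → F) := E.toLinearMap ∘ₗ T.g ∘ₗ E.symm.toLinearMap
    have hchar : (LinearMap.toMatrix' M).charpoly = p * (X - C 1) := by
      rw [← LinearMap.toMatrix_eq_toMatrix', LinearMap.charpoly_toMatrix]
      exact (LinearEquiv.charpoly_conj E T.g).trans hT2
    have hdet : (LinearMap.toMatrix' M).det = 1 := by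
      rw [Matrix.det_eq_sign_charpoly_coeff, hchar, mul_coeff_zero, hp.2.2, hdim, one_mul, coeff_sub, coeff_X_zero,
        coeff_C_zero, zero_sub, pow_succ, pow_mul, neg_one_sq, one_pow, one_mul, neg_mul_neg, one_mul]
    let g : GL ι F := Matrix.GeneralLinearGroup.mkOfDetNeZero (LinearMap.toMatrix' M) (by rw [hdet]; exact one_ne_zero)
    have hgmem : g ∈ Cfsg.isometryGroup F ⇑Q := (FormOrth53.mem_iff_polar h2 g).2 fun x y => by
      show B ((LinearMap.toMatrix' M) *ᵥ x) ((LinearMap.toMatrix' M) *ᵥ y) = B x y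
      rw [LinearMap.toMatrix'_mulVec, LinearMap.toMatrix'_mulVec]
      simp only [M, LinearMap.comp_apply, LinearEquiv.coe_coe]
      rw [hE, T.inv, ← hE, E.apply_symm_apply, E.apply_symm_apply]
    refine ⟨⟨⟨g, hgmem⟩, ?_⟩, hchar⟩
    rw [MonoidHom.mem_ker]
    apply Units.ext
    show ((detHom Q (iso Q ⟨g, hgmem⟩) : Fˣ) : F) = 1
    rw [← det_mat]
    exact hdet
  choose g hg using hex
  haveI := FormRealise53.finite_plainT (F := F) m
  refine Nat.card_le_card_of_injective (fun p => ConjClasses.mk (g p)) fun a b hab => ?_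
  obtain ⟨c, hc⟩ := isConj_iff.1 (ConjClasses.mk_eq_mk_iff_isConj.1 hab)
  refine Subtype.ext (mul_right_cancel₀ (X_sub_C_ne_zero (1 : F)) ?_)
  rw [← hg a, ← hg b, ← hc]
  simp only [mat, Subgroup.coe_mul, Subgroup.coe_inv, Units.val_mul]
  rw [Matrix.coe_units_inv]
  exact (Matrix.charpoly_units_conj c.1.1 _).symm

theorem exists_chi (h2 : (2 : F) ≠ 0) (hnd : (QuadraticMap.polarBilin Q).Nondegenerate) {m : ℕ}
    (hdim : Fintype.card ι = 2 * m + 1) (hm : 1 ≤ m) : ∃ g, chi Q g = -1 := by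
  classical
  obtain ⟨ν, hν0, hν⟩ := FormFibre53.exists_nonsquare h2
  have hU : QuadClassify.Nondeg Q ⊤ := fun x _ hx => hnd.1 x fun y => hx y Submodule.mem_top
  have hfr : 2 ≤ Module.finrank F (⊤ : Submodule F (ι → F)) := by
    rw [finrank_top, Module.finrank_fintype_fun_eq_card, hdim]; omega
  obtain ⟨v, -, hv⟩ := OmegaClasses.nondeg_represents (Q := Q) hU hfr 1
  obtain ⟨w, -, hw⟩ := OmegaClasses.nondeg_represents (Q := Q) hU hfr ν
  have hvs : OmegaClasses.NS Q [v, w] := by simp [OmegaClasses.NS, hv, hw, hν0]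
  set c := (iso Q).symm (OmegaClasses.rprod Q [v, w]) with hc
  have hck : iso Q c = OmegaClasses.rprod Q [v, w] := MulEquiv.apply_symm_apply _ _
  have hdet : detO Q c = 1 := by
    show detHom Q (iso Q c) = 1
    rw [hck, OmegaClasses.detHom_rprod hvs]
    simp
  refine ⟨⟨c, hdet⟩, (Int.units_eq_one_or _).resolve_left fun h => ?_⟩
  have hmem := (mem_Omega h2 hnd c).2 ⟨hdet, h⟩
  rw [mem_Omega_iff, hck, OmegaClasses.rprod_mem_iff hnd (Or.inl fun h => h2 (by
      have := FiniteField.cast_card_eq_zero F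
      rwa [h, Nat.cast_ofNat] at this)) hvs] at hmem
  have := hmem.2
  simp only [List.map_cons, List.map_nil, List.prod_cons, List.prod_nil, hv, hw, one_mul, mul_one] at this
  exact hν this

theorem bounds (hodd : Odd (Fintype.card F)) (hnd : (QuadraticMap.polarBilin Q).Nondegenerate) {m : ℕ}
    (hdim : Fintype.card ι = 2 * m + 1) (hm : 2 ≤ m) :
    Fintype.card F ^ m ≤ 2 * Nat.card (ConjClasses ↥(Cfsg.Omega F ⇑Q)) ∧
      10 * Nat.card (ConjClasses ↥(Cfsg.Omega F ⇑Q)) ≤ 73 * Fintype.card F ^ m := by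
  classical
  have h2 := FormOrth53.two_ne hodd
  let eC : ConjClasses ↥(Cfsg.Omega F ⇑Q) ≃ ConjClasses ↥(chi Q).ker :=
    Quotient.congr (omegaEquiv h2 hnd).toEquiv fun a b => ⟨fun h => (omegaEquiv h2 hnd).toMonoidHom.map_isConj h,
      fun h => by
        have h' : IsConj ((omegaEquiv h2 hnd).symm ((omegaEquiv h2 hnd) a)) ((omegaEquiv h2 hnd).symm ((omegaEquiv h2 hnd) b)) :=
          (omegaEquiv h2 hnd).symm.toMonoidHom.map_isConj h
        rw [MulEquiv.symm_apply_apply, MulEquiv.symm_apply_apply] at h'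
        exact h'⟩
  rw [Nat.card_congr eC]
  obtain ⟨i1, i2⟩ := IndexTwoClasses53.card_classes (chi Q) (exists_chi h2 hnd hdim (by omega))
  have hge := card_SO_ge h2 hnd hdim
  have hSO := card_SO_le h2 hnd hdim
  have hO := card_O_le h2 hnd hdim
  refine ⟨hge.trans i1, ?_⟩
  have hb : Nat.card {c : ConjClasses ↥(SO Q) // IndexTwoClasses53.Inert (chi Q) c.out} ≤
      Nat.card (ConjClasses ↥(SO Q)) := Finite.card_subtype_le _
  have hq : Fintype.card F = 3 ∨ 5 ≤ Fintype.card F := by
    have := Fintype.one_lt_card (α := F)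
    rw [Nat.odd_iff] at hodd
    omega
  rcases hq with h3 | h5
  · have h6 := card_inert h2 h3 hnd hdim
    have h7 := FormCountThree53.X_le (k := 2 * m) hm rfl
    have h8 := FormCountArith53.orth_odd_le (q := Fintype.card F) (by omega) (2 * m + 1) m (by omega)
    rw [h3] at h8 hO ⊢
    omega
  · have h8 := FormCountArith53.orth_odd_five h5 (2 * m + 1) m (by omega)
    omega

end Cfsg.Agent.FormOmega53
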