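import Mathlib
import Cfsg.Prelude.Def_Transfer
import Cfsg.Agent.Lib.FourActionTernaryA27
import Cfsg.Agent.Lib.PGroupsBasic

/-!
The `2`-groups `R = [R, b]` containing the four-group: a four-group or extraspecial of order 32.
-/

set_option autoImplicit false

namespace Cfsg.Agent.FourActionTernaryB27

open Subgroup
open Cfsg.Agent.FourCommutatorAction27 (del dSub del_mem)
open Cfsg.Agent.FourActionTernaryA27

variable {V : Type*} [CommGroup V] [Finite V]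

/-- An element of `2`-power order fixing `g v / v` fixes `v`. -/
theorem fix_of_two (hV : ∀ v : V, v ^ 3 = 1) {g : MulAut V} {k : ℕ} (hg : g ^ 2 ^ k = 1) {v : V}
    (h : g (g v / v) = g v / v) : g v = v := by
  have h0 : g v = g v / v * v := by simp
  generalize g v / v = w at h h0
  have hpow : ∀ n : ℕ, (g ^ n) v = w ^ n * v := fun n => by
    induction n with
    | zero => simp
    | succ n ih => rw [pow_succ', MulAut.mul_apply, ih, map_mul, map_pow, h, h0, pow_succ, mul_assoc]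
  have h1 := hpow (2 ^ k)
  rw [hg, MulAut.one_apply, right_eq_mul] at h1
  have hw : orderOf w ∣ Nat.gcd (2 ^ k) 3 :=
    Nat.dvd_gcd (orderOf_dvd_of_pow_eq_one h1) (orderOf_dvd_of_pow_eq_one (hV w))
  rw [Nat.Coprime.pow_left k (by norm_num : Nat.Coprime 2 3), Nat.dvd_one, orderOf_eq_one_iff] at hw
  rw [h0, hw, one_mul]

omit [Finite V] in
theorem fix_or_invert {g : MulAut V} {L : Subgroup V} (hL : Nat.card L = 3) (hg : ∀ l ∈ L, g l ∈ L) :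
    (∀ l ∈ L, g l = l) ∨ ∀ l ∈ L, g l = l⁻¹ := by
  haveI := Fact.mk Nat.prime_three
  haveI : IsCyclic L := isCyclic_of_prime_card hL
  obtain ⟨⟨l, hl⟩, hgen⟩ := IsCyclic.exists_generator (α := L)
  have hl' : ∀ x ∈ L, ∃ n : ℤ, l ^ n = x := fun x hx => by
    obtain ⟨n, hn⟩ := hgen ⟨x, hx⟩
    exact ⟨n, congrArg Subtype.val hn⟩
  have hl3 : l ^ (3 : ℤ) = 1 := by
    have := pow_card_eq_one' (x := (⟨l, hl⟩ : L))
    rw [hL] at this
    rw [show (3 : ℤ) = ((3 : ℕ) : ℤ) by norm_num, zpow_natCast]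
    simpa using congrArg Subtype.val this
  obtain ⟨n, hn⟩ := hl' _ (hg l hl)
  have hmod : l ^ n = l ^ (n % 3) := by
    conv_lhs => rw [← Int.emod_add_ediv_mul n 3, zpow_add, mul_comm (n / 3) 3, zpow_mul, hl3, one_zpow,
      mul_one]
  have h012 : n % 3 = 0 ∨ n % 3 = 1 ∨ n % 3 = 2 := by omega
  rcases h012 with e | e | e <;> rw [e] at hmod
  · exfalso
    rw [zpow_zero] at hmod
    have : l = 1 := g.injective (by rw [← hn, hmod, map_one])
    subst this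
    have hbot : L = ⊥ := by
      rw [eq_bot_iff_forall]
      intro x hx
      obtain ⟨m, rfl⟩ := hl' x hx
      exact one_zpow m
    rw [hbot, card_bot] at hL
    omega
  · refine Or.inl fun x hx => ?_
    obtain ⟨m, rfl⟩ := hl' x hx
    rw [map_zpow, ← hn, hmod, zpow_one]
  · refine Or.inr fun x hx => ?_
    obtain ⟨m, rfl⟩ := hl' x hx
    have h2 : l ^ (2 : ℤ) = l⁻¹ := by
      rw [show (2 : ℤ) = 3 + (-1) by norm_num, zpow_add, hl3, one_mul, zpow_neg_one]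
    rw [map_zpow, ← hn, hmod, h2, inv_zpow]

/-- The four-group. -/
def qSub {b z₁ z₂ : MulAut V} (h : Data b z₁ z₂) : Subgroup (MulAut V) where
  carrier := {g | g = 1 ∨ g = z₁ ∨ g = z₂ ∨ g = z₁ * z₂}
  one_mem' := Or.inl rfl
  mul_mem' {x y} hx hy := by
    have h11 : z₁ * z₁ = 1 := by rw [← pow_two, h.sq₁]
    have h22 : z₂ * z₂ = 1 := by rw [← pow_two, h.sq₂]
    have h21 : z₂ * z₁ = z₁ * z₂ := h.comm.symm.eq
    have e1 : z₁ * (z₁ * z₂) = z₂ := by rw [← mul_assoc, h11, one_mul]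
    have e2 : z₂ * (z₁ * z₂) = z₁ := by rw [← mul_assoc, h21, mul_assoc, h22, mul_one]
    have e3 : z₁ * z₂ * z₁ = z₂ := by rw [mul_assoc, h21, e1]
    have e4 : z₁ * z₂ * z₂ = z₁ := by rw [mul_assoc, h22, mul_one]
    have e5 : z₁ * z₂ * (z₁ * z₂) = 1 := by rw [mul_assoc, e2, h11]
    rcases hx with rfl | rfl | rfl | rfl <;> rcases hy with rfl | rfl | rfl | rfl <;>
      simp [h11, h22, h21, e1, e2, e3, e4, e5]
  inv_mem' {x} hx := by
    have h3 := h.sq₃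
    have i1 : z₁⁻¹ = z₁ := inv_eq_of_mul_eq_one_right (by rw [← pow_two, h.sq₁])
    have i2 : z₂⁻¹ = z₂ := inv_eq_of_mul_eq_one_right (by rw [← pow_two, h.sq₂])
    have i3 : (z₁ * z₂)⁻¹ = z₁ * z₂ := inv_eq_of_mul_eq_one_right (by rw [← pow_two, h3])
    rcases hx with rfl | rfl | rfl | rfl
    · exact Or.inl inv_one
    · exact Or.inr (Or.inl i1)
    · exact Or.inr (Or.inr (Or.inl i2))
    · exact Or.inr (Or.inr (Or.inr i3))

theorem mem_qSub {b z₁ z₂ : MulAut V} {h : Data b z₁ z₂} {g : MulAut V} :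
    g ∈ qSub h ↔ g = 1 ∨ g = z₁ ∨ g = z₂ ∨ g = z₁ * z₂ := Iff.rfl

theorem card_qSub_le {b z₁ z₂ : MulAut V} (h : Data b z₁ z₂) : Nat.card (qSub h) ≤ 4 := by
  have hsurj : Function.Surjective
      (![⟨1, Or.inl rfl⟩, ⟨z₁, Or.inr (Or.inl rfl)⟩, ⟨z₂, Or.inr (Or.inr (Or.inl rfl))⟩,
        ⟨z₁ * z₂, Or.inr (Or.inr (Or.inr rfl))⟩] : Fin 4 → qSub h) := by
    rintro ⟨g, hg⟩
    rcases hg with rfl | rfl | rfl | rfl
    · exact ⟨0, rfl⟩
    · exact ⟨1, rfl⟩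
    · exact ⟨2, rfl⟩
    · exact ⟨3, rfl⟩
  simpa using Nat.card_le_card_of_surjective _ hsurj

namespace Axes

variable {b z₁ z₂ : MulAut V} (h : Data b z₁ z₂)
include h

theorem third : z₂ * (z₁ * z₂) = z₁ := by
  rw [← mul_assoc, h.comm.symm.eq, mul_assoc, ← pow_two, h.sq₂, mul_one]

theorem card₂ : Nat.card (axis₁ z₂ (z₁ * z₂)) = 3 := h.rotate.card_axis₁

theorem card₃ : Nat.card (axis₁ (z₁ * z₂) z₁) = 3 := by
  have := h.rotate.rotate.card_axis₁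
  rwa [third h] at this

/-- The four-group on the axes. -/
theorem signs₁ {v : V} (hv : v ∈ axis₁ z₁ z₂) : z₁ v = v ∧ z₂ v = v⁻¹ := hv

theorem signs₂ {v : V} (hv : v ∈ axis₁ z₂ (z₁ * z₂)) : z₁ v = v⁻¹ ∧ z₂ v = v := by
  refine ⟨?_, hv.1⟩
  have h2 : z₁ (z₂ v) = v⁻¹ := hv.2
  rwa [mem_fixS.1 hv.1] at h2

theorem signs₃ {v : V} (hv : v ∈ axis₁ (z₁ * z₂) z₁) : z₁ v = v⁻¹ ∧ z₂ v = v⁻¹ := by
  have := (h.invS_inf_invS ▸ hv : v ∈ invS z₁ ⊓ invS z₂)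
  exact this

theorem uSub_le {S : Subgroup V} (h1 : axis₁ z₁ z₂ ≤ S) (h2 : axis₁ z₂ (z₁ * z₂) ≤ S)
    (h3 : axis₁ (z₁ * z₂) z₁ ≤ S) : uSub z₁ z₂ ≤ S := by
  refine sup_le ?_ h1
  rw [h.invS_eq, h.invS_inf_invS]
  exact sup_le h2 h3

theorem le₁ : axis₁ z₁ z₂ ≤ uSub z₁ z₂ := le_sup_right

theorem le₂ : axis₁ z₂ (z₁ * z₂) ≤ uSub z₁ z₂ :=
  (h.invS_eq ▸ le_sup_left : axis₁ z₂ (z₁ * z₂) ≤ invS z₁).trans le_sup_left

theorem le₃ : axis₁ (z₁ * z₂) z₁ ≤ uSub z₁ z₂ := fun _ hv => le_sup_left (a := invS z₁) hv.2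

/-- An automorphism is determined on the three axes and the fixed space. -/
theorem ext {g g' : MulAut V} (h1 : ∀ v ∈ axis₁ z₁ z₂, g v = g' v)
    (h2 : ∀ v ∈ axis₁ z₂ (z₁ * z₂), g v = g' v) (h3 : ∀ v ∈ axis₁ (z₁ * z₂) z₁, g v = g' v)
    (h4 : ∀ v ∈ cSub z₁ z₂, g v = g' v) : g = g' := by
  let S : Subgroup V := MonoidHom.eqLocus g.toMonoidHom g'.toMonoidHom
  have hU : uSub z₁ z₂ ≤ S := uSub_le h h1 h2 h3
  have htop : (⊤ : Subgroup V) ≤ S := h.uSub_sup_cSub ▸ sup_le hU h4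
  exact MulEquiv.ext fun v => htop (mem_top v)

theorem b_axis₁ {v : V} (hv : v ∈ axis₁ z₁ z₂) : b v ∈ axis₁ z₂ (z₁ * z₂) :=
  ⟨(h.apply_mem h.conj₁).1 hv.1, (h.apply_mem h.conj₂).2 hv.2⟩

theorem b_axis₂ {v : V} (hv : v ∈ axis₁ z₂ (z₁ * z₂)) : b v ∈ axis₁ (z₁ * z₂) z₁ :=
  ⟨(h.apply_mem h.conj₂).1 hv.1, (h.apply_mem h.z₁_conj).2 hv.2⟩

theorem b_axis₃ {v : V} (hv : v ∈ axis₁ (z₁ * z₂) z₁) : b v ∈ axis₁ z₁ z₂ :=
  ⟨(h.apply_mem h.z₁_conj).1 hv.1, (h.apply_mem h.conj₁).2 hv.2⟩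

omit h in
theorem preserves {g : MulAut V} {w w' : MulAut V} (h1 : Commute g w) (h2 : Commute g w') {v : V}
    (hv : v ∈ axis₁ w w') : g v ∈ axis₁ w w' :=
  ⟨apply_mem_fixS h1.symm hv.1, apply_mem_invS h2.symm hv.2⟩

/-- Signs of `g` on the axes. -/
theorem sign_cases {g : MulAut V} (h1 : Commute g z₁) (h2 : Commute g z₂) :
    ((∀ v ∈ axis₁ z₁ z₂, g v = v) ∨ ∀ v ∈ axis₁ z₁ z₂, g v = v⁻¹) ∧
    ((∀ v ∈ axis₁ z₂ (z₁ * z₂), g v = v) ∨ ∀ v ∈ axis₁ z₂ (z₁ * z₂), g v = v⁻¹) ∧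
    ((∀ v ∈ axis₁ (z₁ * z₂) z₁, g v = v) ∨ ∀ v ∈ axis₁ (z₁ * z₂) z₁, g v = v⁻¹) :=
  ⟨fix_or_invert h.card_axis₁ fun _ hv => preserves h1 h2 hv,
    fix_or_invert (card₂ h) fun _ hv => preserves h2 (h1.mul_right h2) hv,
    fix_or_invert (card₃ h) fun _ hv => preserves (h1.mul_right h2) h1 hv⟩

/-- `[C(Q), b] ≤ Q`. -/
theorem commutator_mem {x : MulAut V} (h1 : Commute x z₁) (h2 : Commute x z₂) :
    b * x * b⁻¹ * x⁻¹ ∈ qSub h := by
  set t := b * x * b⁻¹ * x⁻¹ with ht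
  have hbi : ∀ v, b (b⁻¹ v) = v := fun v => MulAut.apply_inv_self V b v
  have hxi : ∀ {v : V}, x v = v → x⁻¹ v = v := fun {v} hv => by
    conv_lhs => rw [← hv]
    simp
  have hxn : ∀ {v : V}, x v = v⁻¹ → x⁻¹ v = v⁻¹ := fun {v} hv => by
    have := congrArg (fun w => x⁻¹ w) hv
    simp only [MulAut.inv_apply_self, map_inv] at this
    exact (inv_eq_iff_eq_inv.1 this.symm)
  -- transport along `b`
  have back : ∀ {w w' u u' : MulAut V}, b * w * b⁻¹ = u → b * w' * b⁻¹ = u' →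
      ∀ v ∈ axis₁ u u', b⁻¹ v ∈ axis₁ w w' := by
    intro w w' u u' hu hu' v hv
    subst hu hu'
    obtain ⟨v', rfl⟩ := b.surjective v
    obtain ⟨hv1, hv2⟩ := hv
    refine ⟨?_, ?_⟩
    · simpa using hv1
    · simpa [← map_inv] using hv2
  have b1 : ∀ v ∈ axis₁ z₁ z₂, b⁻¹ v ∈ axis₁ (z₁ * z₂) z₁ := back h.z₁_conj h.conj₁
  have b2 : ∀ v ∈ axis₁ z₂ (z₁ * z₂), b⁻¹ v ∈ axis₁ z₁ z₂ := back h.conj₁ h.conj₂
  have b3 : ∀ v ∈ axis₁ (z₁ * z₂) z₁, b⁻¹ v ∈ axis₁ z₂ (z₁ * z₂) := back h.conj₂ h.z₁_conj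
  have htC : ∀ v ∈ cSub z₁ z₂, t v = v := fun v hv => by
    have hxv : x⁻¹ v ∈ cSub z₁ z₂ :=
      ⟨apply_mem_fixS h1.inv_left.symm hv.1, apply_mem_fixS h2.inv_left.symm hv.2⟩
    have hbinv : b⁻¹ (x⁻¹ v) = x⁻¹ v := by
      conv_lhs => rw [← h.b_fix hxv]
      simp
    rw [ht, MulAut.mul_apply, MulAut.mul_apply, MulAut.mul_apply, hbinv, MulAut.apply_inv_self,
      h.b_fix hv]
  obtain ⟨s1, s2, s3⟩ := sign_cases h h1 h2
  -- value of `t` on an axis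
  have pp : ∀ {A B : Subgroup V}, (∀ v ∈ A, b⁻¹ v ∈ B) → (∀ v ∈ A, x v = v) →
      (∀ v ∈ B, x v = v) → ∀ v ∈ A, t v = v := fun hAB hA hB v hv => by
    rw [ht, MulAut.mul_apply, MulAut.mul_apply, MulAut.mul_apply, hxi (hA v hv),
      hB _ (hAB v hv), hbi]
  have pn : ∀ {A B : Subgroup V}, (∀ v ∈ A, b⁻¹ v ∈ B) → (∀ v ∈ A, x v = v) →
      (∀ v ∈ B, x v = v⁻¹) → ∀ v ∈ A, t v = v⁻¹ := fun hAB hA hB v hv => by
    rw [ht, MulAut.mul_apply, MulAut.mul_apply, MulAut.mul_apply, hxi (hA v hv),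
      hB _ (hAB v hv), map_inv, hbi]
  have np : ∀ {A B : Subgroup V}, (∀ v ∈ A, b⁻¹ v ∈ B) → (∀ v ∈ A, x v = v⁻¹) →
      (∀ v ∈ B, x v = v) → ∀ v ∈ A, t v = v⁻¹ := fun hAB hA hB v hv => by
    rw [ht, MulAut.mul_apply, MulAut.mul_apply, MulAut.mul_apply, hxn (hA v hv), map_inv, map_inv,
      hB _ (hAB v hv), map_inv, hbi]
  have nn : ∀ {A B : Subgroup V}, (∀ v ∈ A, b⁻¹ v ∈ B) → (∀ v ∈ A, x v = v⁻¹) →
      (∀ v ∈ B, x v = v⁻¹) → ∀ v ∈ A, t v = v := fun hAB hA hB v hv => by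
    rw [ht, MulAut.mul_apply, MulAut.mul_apply, MulAut.mul_apply, hxn (hA v hv), map_inv, map_inv,
      hB _ (hAB v hv), inv_inv, hbi]
  have zc : ∀ v ∈ cSub z₁ z₂, z₁ v = v ∧ z₂ v = v := fun v hv => hv
  have is1 : (∀ v ∈ axis₁ z₁ z₂, t v = v) → (∀ v ∈ axis₁ z₂ (z₁ * z₂), t v = v⁻¹) →
      (∀ v ∈ axis₁ (z₁ * z₂) z₁, t v = v⁻¹) → t = z₁ := fun e1 e2 e3 => ext h
    (fun v hv => by rw [e1 v hv, (signs₁ h hv).1]) (fun v hv => by rw [e2 v hv, (signs₂ h hv).1])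
    (fun v hv => by rw [e3 v hv, (signs₃ h hv).1]) (fun v hv => by rw [htC v hv, (zc v hv).1])
  have is2 : (∀ v ∈ axis₁ z₁ z₂, t v = v⁻¹) → (∀ v ∈ axis₁ z₂ (z₁ * z₂), t v = v) →
      (∀ v ∈ axis₁ (z₁ * z₂) z₁, t v = v⁻¹) → t = z₂ := fun e1 e2 e3 => ext h
    (fun v hv => by rw [e1 v hv, (signs₁ h hv).2]) (fun v hv => by rw [e2 v hv, (signs₂ h hv).2])
    (fun v hv => by rw [e3 v hv, (signs₃ h hv).2]) (fun v hv => by rw [htC v hv, (zc v hv).2])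
  have is3 : (∀ v ∈ axis₁ z₁ z₂, t v = v⁻¹) → (∀ v ∈ axis₁ z₂ (z₁ * z₂), t v = v⁻¹) →
      (∀ v ∈ axis₁ (z₁ * z₂) z₁, t v = v) → t = z₁ * z₂ := fun e1 e2 e3 => ext h
    (fun v hv => by rw [e1 v hv, MulAut.mul_apply, (signs₁ h hv).2, map_inv, (signs₁ h hv).1])
    (fun v hv => by rw [e2 v hv, MulAut.mul_apply, (signs₂ h hv).2, (signs₂ h hv).1])
    (fun v hv => by rw [e3 v hv, MulAut.mul_apply, (signs₃ h hv).2, map_inv, (signs₃ h hv).1,
      inv_inv])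
    (fun v hv => by rw [htC v hv, MulAut.mul_apply, (zc v hv).2, (zc v hv).1])
  have is0 : (∀ v ∈ axis₁ z₁ z₂, t v = v) → (∀ v ∈ axis₁ z₂ (z₁ * z₂), t v = v) →
      (∀ v ∈ axis₁ (z₁ * z₂) z₁, t v = v) → t = 1 := fun e1 e2 e3 => ext h e1 e2 e3 htC
  rcases s1 with a1 | a1 <;> rcases s2 with a2 | a2 <;> rcases s3 with a3 | a3
  · exact Or.inl (is0 (pp b1 a1 a3) (pp b2 a2 a1) (pp b3 a3 a2))
  · exact Or.inr (Or.inr (Or.inl (is2 (pn b1 a1 a3) (pp b2 a2 a1) (np b3 a3 a2))))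
  · exact Or.inr (Or.inl (is1 (pp b1 a1 a3) (np b2 a2 a1) (pn b3 a3 a2)))
  · exact Or.inr (Or.inr (Or.inr (is3 (pn b1 a1 a3) (np b2 a2 a1) (nn b3 a3 a2))))
  · exact Or.inr (Or.inr (Or.inr (is3 (np b1 a1 a3) (pn b2 a2 a1) (pp b3 a3 a2))))
  · exact Or.inr (Or.inl (is1 (nn b1 a1 a3) (pn b2 a2 a1) (np b3 a3 a2)))
  · exact Or.inr (Or.inr (Or.inl (is2 (np b1 a1 a3) (nn b2 a2 a1) (pn b3 a3 a2))))
  · exact Or.inl (is0 (nn b1 a1 a3) (nn b2 a2 a1) (nn b3 a3 a2))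

/-- A nontrivial invariant subgroup of `U` is `U`. -/
theorem uSub_le_of_mem {N : Subgroup V} (h1 : ∀ v ∈ N, z₁ v ∈ N) (h2 : ∀ v ∈ N, z₂ v ∈ N)
    (hb : ∀ v ∈ N, b v ∈ N) {v : V} (hv : v ∈ N) (hvC : v ∉ cSub z₁ z₂) : uSub z₁ z₂ ≤ N := by
  have hb2 : ∀ {A : Subgroup V}, Nat.card A = 3 → ∀ {a : V}, a ∈ A → a ∈ N → a ≠ 1 → A ≤ N := by
    intro A hA a ha haN ha1
    haveI := Fact.mk Nat.prime_three
    have hle : zpowers a ≤ A ⊓ N := zpowers_le.2 ⟨ha, haN⟩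
    have h3 : orderOf a = 3 := orderOf_eq_prime (h.exp a) ha1
    exact (eq_of_le_of_card_ge (hle.trans inf_le_left)
      (by rw [Nat.card_zpowers, h3, hA])).ge.trans (hle.trans inf_le_right)
  have fill : ∀ {a : V}, a ∈ axis₁ z₁ z₂ → a ∈ N → a ≠ 1 → uSub z₁ z₂ ≤ N := by
    intro a ha haN ha1
    have hne : b a ≠ 1 := fun e => ha1 (b.injective (e.trans (map_one b).symm))
    exact uSub_le h (hb2 h.card_axis₁ ha haN ha1)
      (hb2 (card₂ h) (b_axis₁ h ha) (hb _ haN) hne)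
      (hb2 (card₃ h) (b_axis₂ h (b_axis₁ h ha)) (hb _ (hb _ haN))
        fun e => hne (b.injective (e.trans (map_one b).symm)))
  have fill' : ∀ {a : V}, a ∈ invS z₁ → a ∈ N → a ≠ 1 → uSub z₁ z₂ ≤ N := by
    intro a ha haN ha1
    have hh1 : z₂ a * a⁻¹ ∈ invS z₁ :=
      mul_mem (apply_mem_invS h.comm ha) (inv_mem ha)
    by_cases hc : z₂ a = a
    · have ha2 : a ∈ axis₁ z₂ (z₁ * z₂) := by
        refine ⟨hc, ?_⟩
        show z₁ (z₂ a) = a⁻¹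
        rw [hc, mem_invS.1 ha]
      exact fill (b_axis₃ h (b_axis₂ h ha2)) (hb _ (hb _ haN)) fun e =>
        ha1 (b.injective (b.injective (by rw [e, map_one, map_one])))
    · have hd : z₂ a * a⁻¹ ∈ axis₁ (z₁ * z₂) z₁ := by
        rw [show axis₁ (z₁ * z₂) z₁ = invS z₁ ⊓ invS z₂ from h.invS_inf_invS.symm]
        refine ⟨hh1, ?_⟩
        have hgg : z₂ (z₂ a) = a := by rw [← MulAut.mul_apply, ← pow_two, h.sq₂, MulAut.one_apply]
        show z₂ (z₂ a * a⁻¹) = (z₂ a * a⁻¹)⁻¹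
        rw [map_mul, map_inv, hgg, mul_inv, inv_inv, mul_comm]
      have hdN : z₂ a * a⁻¹ ∈ N := mul_mem (h2 _ haN) (inv_mem haN)
      exact fill (b_axis₃ h hd) (hb _ hdN) fun e => hc (mul_inv_eq_one.1
        (b.injective (e.trans (map_one b).symm)))
  by_cases hc1 : z₁ v = v
  · have hc2 : z₂ v ≠ v := fun e => hvC ⟨hc1, e⟩
    refine fill (a := z₂ v * v⁻¹) ⟨?_, ?_⟩ (mul_mem (h2 _ hv) (inv_mem hv))
      fun e => hc2 (mul_inv_eq_one.1 e)
    · exact Subgroup.mul_mem _ (apply_mem_fixS h.comm hc1) (Subgroup.inv_mem _ (mem_fixS.2 hc1))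
    · have hgg : z₂ (z₂ v) = v := by rw [← MulAut.mul_apply, ← pow_two, h.sq₂, MulAut.one_apply]
      show z₂ (z₂ v * v⁻¹) = (z₂ v * v⁻¹)⁻¹
      rw [map_mul, map_inv, hgg, mul_inv, inv_inv, mul_comm]
  · refine fill' (a := z₁ v * v⁻¹) ?_ (mul_mem (h1 _ hv) (inv_mem hv))
      fun e => hc1 (mul_inv_eq_one.1 e)
    have hgg : z₁ (z₁ v) = v := by rw [← MulAut.mul_apply, ← pow_two, h.sq₁, MulAut.one_apply]
    show z₁ (z₁ v * v⁻¹) = (z₁ v * v⁻¹)⁻¹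
    rw [map_mul, map_inv, hgg, mul_inv, inv_inv, mul_comm]

end Axes

/-- A `2`-group `R = [R, b]` without reflections containing the four-group. -/
structure RData (b : MulAut V) (R : Subgroup (MulAut V)) : Prop where
  two : IsPGroup 2 R
  inv : ∀ r ∈ R, b * r * b⁻¹ ∈ R
  gen : R ≤ closure {t | ∃ r ∈ R, t = b * r * b⁻¹ * r⁻¹}
  noRefl : ∀ c ∈ R, c ^ 2 = 1 → Nat.card (dSub c) ≠ 3

/-- The conclusion. -/
structure Shape (b : MulAut V) (R : Subgroup (MulAut V)) : Prop where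
  iso : (Cfsg.IsElementaryAbelian 2 R ∧ Nat.card R = 4) ∨
    (Cfsg.IsExtraspecial 2 ↥R ∧ Nat.card R = 32 ∧
      ∃ A : Subgroup (MulAut V), A ≤ R ∧ Cfsg.IsElementaryAbelian 2 A ∧ Nat.card A = 8)
  split : ∃ F₀ F₁ : Subgroup V, F₀ ⊓ F₁ = ⊥ ∧ F₀ ⊔ F₁ = ⊤ ∧
    (∀ r ∈ R, ∀ v ∈ F₁, r v = v) ∧ (∀ r ∈ R, ∀ v ∈ F₀, r v ∈ F₀) ∧ (∀ v ∈ F₀, b v ∈ F₀) ∧
    (∃ v ∈ F₀, b v ≠ v) ∧
    ∀ N : Subgroup V, N ≤ F₀ → (∀ r ∈ R, ∀ v ∈ N, r v ∈ N) → (∀ v ∈ N, b v ∈ N) →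
      N = ⊥ ∨ N = F₀

section shape

variable {b z₁ z₂ : MulAut V} {R : Subgroup (MulAut V)}

theorem qSub_le (h : Data b z₁ z₂) (h₁ : z₁ ∈ R) (h₂ : z₂ ∈ R) : qSub h ≤ R := by
  rintro g (rfl | rfl | rfl | rfl)
  · exact one_mem _
  · exact h₁
  · exact h₂
  · exact mul_mem h₁ h₂

/-- If `R` centralises a four-group it is that four-group. -/
theorem eq_qSub (h : Data b z₁ z₂) (hR : RData b R) (h₁ : z₁ ∈ R) (h₂ : z₂ ∈ R)
    (hc : ∀ r ∈ R, Commute r z₁ ∧ Commute r z₂) : R = qSub h := by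
  refine le_antisymm (hR.gen.trans ((closure_le _).2 ?_)) (qSub_le h h₁ h₂)
  rintro _ ⟨r, hr, rfl⟩
  exact Axes.commutator_mem h (hc r hr).1 (hc r hr).2

theorem shape_four (h : Data b z₁ z₂) (hR : R = qSub h) : Shape b R := by
  subst hR
  have hne : ∀ v ∈ axis₁ z₁ z₂, v ≠ 1 → b v ≠ v := by
    intro v hv hv1 e
    have h2 := Axes.b_axis₁ h hv
    rw [e] at h2
    exact hv1 (mem_bot.1 (h.axis_inf ▸ mem_inf.2 ⟨hv, h2⟩))
  obtain ⟨v, hv, hv1⟩ := ((axis₁ z₁ z₂).bot_or_exists_ne_one).resolve_left fun e => by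
    have := h.card_axis₁
    rw [e, card_bot] at this
    omega
  refine ⟨Or.inl ⟨⟨?_, ?_⟩, ?_⟩, uSub z₁ z₂, cSub z₁ z₂, h.uSub_inf_cSub, h.uSub_sup_cSub, ?_, ?_,
    fun w hw => h.apply_mem_uSub hw, ⟨v, Axes.le₁ h hv, hne v hv hv1⟩, ?_⟩
  · refine PGroupsBasic.isMulCommutative_of_forall ?_
    have hc := h.comm.eq
    rintro a (rfl | rfl | rfl | rfl) c (rfl | rfl | rfl | rfl) <;>
      simp [mul_assoc, hc, h.comm.left_comm]
  · rintro a (rfl | rfl | rfl | rfl)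
    exacts [one_pow 2, h.sq₁, h.sq₂, h.sq₃]
  · refine le_antisymm (card_qSub_le h) ?_
    have h3 : z₁ * z₂ ≠ 1 := h.rotate.rotate.ne
    have h12 : z₁ ≠ z₂ := fun e => h3 (by rw [e, ← pow_two, h.sq₂])
    let f : Fin 4 → qSub h := ![⟨1, Or.inl rfl⟩, ⟨z₁, Or.inr (Or.inl rfl)⟩,
      ⟨z₂, Or.inr (Or.inr (Or.inl rfl))⟩, ⟨z₁ * z₂, Or.inr (Or.inr (Or.inr rfl))⟩]
    refine (Nat.card_fin 4).symm.le.trans (Nat.card_le_card_of_injective f fun i j hij => ?_)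
    fin_cases i <;> fin_cases j <;>
      simp [f, Subtype.ext_iff, h.ne, h.rotate.ne, h3, h12, Ne.symm h.ne, Ne.symm h.rotate.ne,
        Ne.symm h3, Ne.symm h12] at hij ⊢
  · rintro r (rfl | rfl | rfl | rfl) w hw
    · rfl
    · exact hw.1
    · exact hw.2
    · rw [MulAut.mul_apply, mem_fixS.1 hw.2, mem_fixS.1 hw.1]
  · have hz₁ : ∀ w ∈ uSub z₁ z₂, z₁ w ∈ uSub z₁ z₂ := fun w hw => by
      obtain ⟨a, ha, l, hl, rfl⟩ := mem_sup.1 hw
      rw [map_mul]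
      exact mul_mem_sup (apply_mem_invS (Commute.refl z₁) ha)
        (Axes.preserves (Commute.refl z₁) h.comm hl)
    have hz₂ : ∀ w ∈ uSub z₁ z₂, z₂ w ∈ uSub z₁ z₂ := fun w hw => by
      obtain ⟨a, ha, l, hl, rfl⟩ := mem_sup.1 hw
      rw [map_mul]
      exact mul_mem_sup (apply_mem_invS h.comm ha)
        (Axes.preserves h.comm.symm (Commute.refl z₂) hl)
    rintro r (rfl | rfl | rfl | rfl) w hw
    exacts [hw, hz₁ w hw, hz₂ w hw, hz₁ _ (hz₂ w hw)]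
  · intro N hN hinv hb
    by_cases hN1 : N = ⊥
    · exact Or.inl hN1
    obtain ⟨w, hw, hw1⟩ := (N.bot_or_exists_ne_one).resolve_left hN1
    refine Or.inr (le_antisymm hN (Axes.uSub_le_of_mem h
      (hinv _ (Or.inr (Or.inl rfl))) (hinv _ (Or.inr (Or.inr (Or.inl rfl)))) hb hw fun hc => hw1 ?_))
    exact mem_bot.1 (h.uSub_inf_cSub ▸ mem_inf.2 ⟨hN hw, hc⟩)

end shape

/-- A central involution of `R` inverting the moved space of every four-group. -/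
structure Central {b : MulAut V} {R : Subgroup (MulAut V)} (ζ : MulAut V) : Prop where
  mem : ζ ∈ R
  sq : ζ ^ 2 = 1
  ne : ζ ≠ 1
  comm : ∀ r ∈ R, Commute r ζ
  comm_b : Commute b ζ
  triv : ∀ r ∈ R, ∀ v ∈ fixS ζ, r v = v

section main

variable {b z₁ z₂ : MulAut V} {R : Subgroup (MulAut V)}
variable (h : Data b z₁ z₂) (hR : RData b R) (h₁ : z₁ ∈ R) (h₂ : z₂ ∈ R) (hne : R ≠ qSub h)
include h hR h₁ h₂ hne

/-- Central elements commute with `b`. -/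
theorem central_comm_b {w : MulAut V} (hw : w ∈ R) (hc : ∀ r ∈ R, Commute r w) : Commute b w := by
  set t := b * w * b⁻¹ * w⁻¹ with ht
  suffices t = 1 by
    rw [ht, mul_inv_eq_one] at this
    exact mul_inv_eq_iff_eq_mul.1 this
  by_contra ht1
  have hbr : ∀ r ∈ R, b⁻¹ * r * b ∈ R := fun r hr => by
    have hbi : b⁻¹ = b ^ 2 := inv_eq_of_mul_eq_one_right (by rw [← pow_succ', h.pow_b])
    have := hR.inv _ (hR.inv r hr)
    rw [show b⁻¹ * r * b = b ^ 2 * r * (b ^ 2)⁻¹ by rw [← hbi, inv_inv],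
      show b ^ 2 * r * (b ^ 2)⁻¹ = b * (b * r * b⁻¹) * b⁻¹ by
        rw [pow_two, mul_inv_rev]; simp [mul_assoc]]
    exact this
  have htc : ∀ r ∈ R, Commute r t := fun r hr => by
    have e : Commute r (b * w * b⁻¹) := by
      have h0 : Commute (b * (b⁻¹ * r * b) * b⁻¹) (b * w * b⁻¹) :=
        (hc _ (hbr r hr)).map (MulAut.conj b).toMonoidHom
      rwa [show b * (b⁻¹ * r * b) * b⁻¹ = r by group] at h0
    exact e.mul_right (hc r hr).inv_right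
  have key : ∀ z₀ : MulAut V, z₀ = t → (∀ z' : MulAut V, b * z₀ * b⁻¹ = z' →
      (∀ r ∈ R, Commute r z') ) := fun z₀ e z' e' r hr => by
    subst e
    rw [← e']
    have h0 : Commute (b * (b⁻¹ * r * b) * b⁻¹) (b * t * b⁻¹) :=
      (htc _ (hbr r hr)).map (MulAut.conj b).toMonoidHom
    rwa [show b * (b⁻¹ * r * b) * b⁻¹ = r by group] at h0
  -- `t` lies in the four-group, so the whole four-group is central
  refine hne (eq_qSub h hR h₁ h₂ ?_)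
  rcases Axes.commutator_mem h (hc z₁ h₁).symm (hc z₂ h₂).symm with e | e | e | e
  · exact absurd e ht1
  · exact fun r hr => ⟨e ▸ htc r hr, key z₁ e.symm z₂ h.conj₁ r hr⟩
  · intro r hr
    have h3 := key z₂ e.symm (z₁ * z₂) h.conj₂ r hr
    have h2 : Commute r z₂ := e ▸ htc r hr
    refine ⟨?_, h2⟩
    have := h3.mul_right h2
    rwa [mul_assoc, ← pow_two, h.sq₂, mul_one] at this
  · intro r hr
    have h3 : Commute r (z₁ * z₂) := e ▸ htc r hr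
    have h1 := key (z₁ * z₂) e.symm z₁ h.z₁_conj r hr
    refine ⟨h1, ?_⟩
    have := h1.mul_right h3
    rwa [← mul_assoc, ← pow_two, h.sq₁, one_mul] at this

/-- Existence of `ζ`. -/
theorem exists_central : ∃ ζ, Central (b := b) (R := R) ζ := by
  haveI := Fact.mk Nat.prime_two
  haveI : Nontrivial R := ⟨⟨⟨z₁, h₁⟩, 1, fun e => h.ne (congrArg Subtype.val e)⟩⟩
  haveI hnt := hR.two.center_nontrivial
  obtain ⟨z, hz⟩ := exists_prime_orderOf_dvd_card' (G := center R) 2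
    ((hR.two.to_subgroup (center R)).card_eq_or_dvd.resolve_left fun e => by
      exact not_subsingleton _ ((Nat.card_eq_one_iff_unique.1 e).1))
  have hζR : ((z : R) : MulAut V) ∈ R := (z : R).2
  have hζ2 : ((z : R) : MulAut V) ^ 2 = 1 := by
    have := pow_orderOf_eq_one z
    rw [hz] at this
    exact congrArg (fun x : center R => ((x : R) : MulAut V)) this
  have hζ1 : ((z : R) : MulAut V) ≠ 1 := fun e => by
    have : z = 1 := Subtype.ext (Subtype.ext e)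
    rw [this, orderOf_one] at hz
    omega
  have hζc : ∀ r ∈ R, Commute r ((z : R) : MulAut V) := fun r hr =>
    congrArg Subtype.val (mem_center_iff.1 z.2 ⟨r, hr⟩)
  generalize ((z : R) : MulAut V) = ζ at hζR hζ2 hζ1 hζc
  have hb := central_comm_b h hR h₁ h₂ hne hζR hζc
  refine ⟨ζ, hζR, hζ2, hζ1, hζc, hb, ?_⟩
  -- `R` is trivial on an eigenspace on which `b` is trivial
  have triv : ∀ (S : Subgroup V), (∀ r ∈ R, ∀ v ∈ S, r v ∈ S) → (∀ v ∈ S, b v = v) →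
      ∀ r ∈ R, ∀ v ∈ S, r v = v := by
    intro S hS hbS r hr v hv
    let H : Subgroup (MulAut V) :=
      { carrier := {g | ∀ v ∈ S, g v = v}
        one_mem' := fun v _ => rfl
        mul_mem' := fun {x y} hx hy v hv => by rw [MulAut.mul_apply, hy v hv, hx v hv]
        inv_mem' := fun {x} hx v hv => by
          conv_lhs => rw [← hx v hv]
          simp }
    suffices hle : R ≤ H from hle hr v hv
    refine hR.gen.trans ((closure_le _).2 ?_)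
    rintro _ ⟨x, hx, rfl⟩ w hw
    have h1 := hS _ (inv_mem hx) w hw
    have h2 : b⁻¹ (x⁻¹ w) = x⁻¹ w := by
      conv_lhs => rw [← hbS _ h1]
      simp
    show (b * x * b⁻¹ * x⁻¹) w = w
    rw [MulAut.mul_apply, MulAut.mul_apply, MulAut.mul_apply, h2, MulAut.apply_inv_self, hbS w hw]
  have hfixS : ∀ r ∈ R, ∀ v ∈ fixS ζ, r v ∈ fixS ζ := fun r hr v hv =>
    apply_mem_fixS (hζc r hr).symm hv
  have hinvS : ∀ r ∈ R, ∀ v ∈ invS ζ, r v ∈ invS ζ := fun r hr v hv =>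
    apply_mem_invS (hζc r hr).symm hv
  obtain ⟨s1, s2, s3⟩ := Axes.sign_cases h (hζc z₁ h₁).symm (hζc z₂ h₂).symm
  have hbb : ∀ {A B : Subgroup V}, (∀ v ∈ A, b v ∈ B) → ∀ {a : V}, a ∈ A → a ≠ 1 →
      (ζ a = a → ¬ ∀ v ∈ B, ζ v = v⁻¹) ∧ (ζ a = a⁻¹ → ¬ ∀ v ∈ B, ζ v = v) := by
    intro A B hAB a ha ha1
    have hzb : ζ (b a) = b (ζ a) := by rw [← MulAut.mul_apply, ← hb.eq, MulAut.mul_apply]
    constructor
    · intro e hB
      refine ha1 (b.injective ?_)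
      rw [map_one]
      refine eq_one_of_inv_eq h.exp ?_
      rw [← hB _ (hAB a ha), hzb, e]
    · intro e hB
      refine ha1 (b.injective ?_)
      rw [map_one]
      refine eq_one_of_inv_eq h.exp ?_
      rw [← map_inv, ← e, ← hzb, hB _ (hAB a ha)]
  obtain ⟨a, ha, ha1⟩ := ((axis₁ z₁ z₂).bot_or_exists_ne_one).resolve_left fun e => by
    have := h.card_axis₁
    rw [e, card_bot] at this
    omega
  have hba := Axes.b_axis₁ h ha
  have hba1 : b a ≠ 1 := fun e => ha1 (b.injective (e.trans (map_one b).symm))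
  intro r hr v hv
  rcases s1 with a1 | a1
  · -- `ζ` fixes the moved space, so it is trivial
    exfalso
    have a2 := s2.resolve_right ((hbb (fun v hv => Axes.b_axis₁ h hv) ha ha1).1 (a1 a ha))
    have a3 := s3.resolve_right ((hbb (fun v hv => Axes.b_axis₂ h hv) hba hba1).1 (a2 _ hba))
    have hU : uSub z₁ z₂ ≤ fixS ζ := Axes.uSub_le h a1 a2 a3
    have hfix : ∀ w ∈ invS ζ, b w = w := by
      intro w hw
      obtain ⟨u, hu, c, hc, rfl⟩ :=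
        mem_sup.1 (h.uSub_sup_cSub ▸ mem_top w : w ∈ uSub z₁ z₂ ⊔ cSub z₁ z₂)
      have hzc : ζ c ∈ cSub z₁ z₂ :=
        ⟨apply_mem_fixS (hζc z₁ h₁) hc.1, apply_mem_fixS (hζc z₂ h₂) hc.2⟩
      have e : ζ (u * c) = (u * c)⁻¹ := hw
      rw [map_mul, mem_fixS.1 (hU hu)] at e
      have huu : u * u = (ζ c)⁻¹ * c⁻¹ := by
        calc u * u = u * (u * ζ c) * (ζ c)⁻¹ := by group
          _ = u * (u * c)⁻¹ * (ζ c)⁻¹ := by rw [e]
          _ = (ζ c)⁻¹ * c⁻¹ := by rw [mul_inv]; simp [mul_comm]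
      have hu2 : u * u = 1 := mem_bot.1 (h.uSub_inf_cSub ▸
        mem_inf.2 ⟨mul_mem hu hu, huu ▸ mul_mem (inv_mem hzc) (inv_mem hc)⟩)
      have hu1 : u = 1 := eq_one_of_inv_eq h.exp (inv_eq_of_mul_eq_one_right hu2)
      rw [hu1, one_mul]
      exact h.b_fix hc
    apply hζ1
    ext w
    obtain ⟨p, hp, c, hc, rfl⟩ := exists_decomp h.exp hζ2 w
    have hp1 : p = 1 := eq_one_of_inv_eq h.exp
      ((mem_invS.1 hp).symm.trans (triv _ hinvS hfix ζ hζR p hp))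
    rw [hp1, one_mul, MulAut.one_apply]
    exact hc
  · have a2 := s2.resolve_left ((hbb (fun v hv => Axes.b_axis₁ h hv) ha ha1).2 (a1 a ha))
    have a3 := s3.resolve_left ((hbb (fun v hv => Axes.b_axis₂ h hv) hba hba1).2 (a2 _ hba))
    have hU : uSub z₁ z₂ ≤ invS ζ := Axes.uSub_le h a1 a2 a3
    refine triv _ hfixS (fun w hw => ?_) r hr v hv
    obtain ⟨u, hu, c, hc, rfl⟩ :=
      mem_sup.1 (h.uSub_sup_cSub ▸ mem_top w : w ∈ uSub z₁ z₂ ⊔ cSub z₁ z₂)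
    have hzc : ζ c ∈ cSub z₁ z₂ :=
      ⟨apply_mem_fixS (hζc z₁ h₁) hc.1, apply_mem_fixS (hζc z₂ h₂) hc.2⟩
    have e : ζ (u * c) = u * c := hw
    rw [map_mul, mem_invS.1 (hU hu)] at e
    have huu : u * u = ζ c * c⁻¹ := by
      calc u * u = u * (u * c) * c⁻¹ := by group
        _ = u * (u⁻¹ * ζ c) * c⁻¹ := by rw [e]
        _ = ζ c * c⁻¹ := by group
    have hu2 : u * u = 1 := mem_bot.1 (h.uSub_inf_cSub ▸
      mem_inf.2 ⟨mul_mem hu hu, huu ▸ mul_mem hzc (inv_mem hc)⟩)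
    rw [eq_one_of_inv_eq h.exp (inv_eq_of_mul_eq_one_right hu2), one_mul]
    exact h.b_fix hc

omit hR hne in
/-- `ζ` inverts the moved space of every four-group in `R`. -/
theorem uSub_le_invS {ζ : MulAut V} (hζ : Central (b := b) (R := R) ζ) : uSub z₁ z₂ ≤ invS ζ := by
  have inv' : ∀ {w w' : MulAut V}, w' ∈ R → Commute w ζ → Commute w' ζ →
      Nat.card (axis₁ w w') = 3 → axis₁ w w' ≤ invS ζ := by
    intro w w' hw' hc hc' hcard
    refine (fix_or_invert hcard fun v hv => Axes.preserves hc.symm hc'.symm hv).elim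
      (fun hfix v hv => ?_) fun hinv => hinv
    have hv1 : v = 1 := eq_one_of_inv_eq h.exp
      ((mem_invS.1 hv.2).symm.trans (hζ.triv w' hw' v (hfix v hv)))
    rw [hv1]
    exact one_mem _
  have h3 : z₁ * z₂ ∈ R := mul_mem h₁ h₂
  exact Axes.uSub_le h (inv' h₂ (hζ.comm _ h₁) (hζ.comm _ h₂) h.card_axis₁)
    (inv' h3 (hζ.comm _ h₂) (hζ.comm _ h3) (Axes.card₂ h))
    (inv' h₁ (hζ.comm _ h3) (hζ.comm _ h₁) (Axes.card₃ h))

omit hR hne in
theorem central_not_mem_qSub {ζ : MulAut V} (hζ : Central (b := b) (R := R) ζ) : ζ ∉ qSub h := by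
  obtain ⟨a, ha, ha1⟩ := ((axis₁ z₁ z₂).bot_or_exists_ne_one).resolve_left fun e => by
    have := h.card_axis₁
    rw [e, card_bot] at this
    omega
  obtain ⟨a', ha', ha'1⟩ : ∃ a' ∈ axis₁ z₂ (z₁ * z₂), a' ≠ 1 :=
    ⟨b a, Axes.b_axis₁ h ha, fun e => ha1 (b.injective (e.trans (map_one b).symm))⟩
  obtain ⟨a'', ha'', ha''1⟩ : ∃ a'' ∈ axis₁ (z₁ * z₂) z₁, a'' ≠ 1 :=
    ⟨b a', Axes.b_axis₂ h ha', fun e => ha'1 (b.injective (e.trans (map_one b).symm))⟩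
  rintro (e | e | e | e)
  · exact hζ.ne e
  · refine ha1 (eq_one_of_inv_eq h.exp ?_)
    rw [← mem_invS.1 (uSub_le_invS h h₁ h₂ hζ (Axes.le₁ h ha)), e, (Axes.signs₁ h ha).1]
  · refine ha'1 (eq_one_of_inv_eq h.exp ?_)
    rw [← mem_invS.1 (uSub_le_invS h h₁ h₂ hζ (Axes.le₂ h ha')), e, (Axes.signs₂ h ha').2]
  · refine ha''1 (eq_one_of_inv_eq h.exp ?_)
    rw [← mem_invS.1 (uSub_le_invS h h₁ h₂ hζ (Axes.le₃ h ha'')), e, MulAut.mul_apply,
      (Axes.signs₃ h ha'').2, map_inv, (Axes.signs₃ h ha'').1, inv_inv]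

/-- The central involution is unique. -/
theorem central_unique {ζ : MulAut V} (hζ : Central (b := b) (R := R) ζ) {w : MulAut V}
    (hw : w ∈ R) (hw2 : w ^ 2 = 1) (hc : ∀ r ∈ R, Commute r w) : w = 1 ∨ w = ζ := by
  by_contra hcon
  push Not at hcon
  -- both `w` and `w ζ` would invert the moved space
  have mk : ∀ {u : MulAut V}, u ∈ R → u ^ 2 = 1 → u ≠ 1 → (∀ r ∈ R, Commute r u) →
      ∀ v ∈ uSub z₁ z₂, u v = v⁻¹ := by
    intro u hu hu2 hu1 huc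
    have hub := central_comm_b h hR h₁ h₂ hne hu huc
    obtain ⟨s1, s2, s3⟩ := Axes.sign_cases h (huc z₁ h₁).symm (huc z₂ h₂).symm
    obtain ⟨a, ha, ha1⟩ := ((axis₁ z₁ z₂).bot_or_exists_ne_one).resolve_left fun e => by
      have := h.card_axis₁
      rw [e, card_bot] at this
      omega
    have hcommv : ∀ x, u (b x) = b (u x) := fun x => by
      rw [← MulAut.mul_apply, ← hub.eq, MulAut.mul_apply]
    rcases s1 with a1 | a1
    · exfalso
      -- `u` fixes the moved space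
      have b1 : ∀ v ∈ axis₁ z₂ (z₁ * z₂), u v = v := by
        refine s2.resolve_right fun hn => ha1 (b.injective ?_)
        rw [map_one]
        exact eq_one_of_inv_eq h.exp ((hn _ (Axes.b_axis₁ h ha)).symm.trans
          (by rw [hcommv, a1 a ha]))
      have b2 : ∀ v ∈ axis₁ (z₁ * z₂) z₁, u v = v := by
        refine s3.resolve_right fun hn => ha1 (b.injective (b.injective ?_))
        rw [map_one, map_one]
        exact eq_one_of_inv_eq h.exp ((hn _ (Axes.b_axis₂ h (Axes.b_axis₁ h ha))).symm.trans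
          (by rw [hcommv, b1 _ (Axes.b_axis₁ h ha)]))
      have hU : uSub z₁ z₂ ≤ fixS u := Axes.uSub_le h a1 b1 b2
      -- so it inverts only fixed points of `b`, which `R` fixes
      have hfix : ∀ r ∈ R, ∀ v ∈ invS u, r v = v := by
        intro r hr v hv
        let H : Subgroup (MulAut V) :=
          { carrier := {g | ∀ v ∈ invS u, g v = v}
            one_mem' := fun v _ => rfl
            mul_mem' := fun {x y} hx hy v hv => by rw [MulAut.mul_apply, hy v hv, hx v hv]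
            inv_mem' := fun {x} hx v hv => by
              conv_lhs => rw [← hx v hv]
              simp }
        have hbfix : ∀ w ∈ invS u, b w = w := by
          intro w hw
          have hd : b w / w ∈ uSub z₁ z₂ := h.dSub_b_le (del_mem b w)
          have h1 : u (b w / w) = (b w / w)⁻¹ := by
            rw [map_div, hcommv, mem_invS.1 hw, map_inv]
            simp [inv_mul_eq_div]
          exact div_eq_one.1 (eq_one_of_inv_eq h.exp (h1.symm.trans (hU hd)))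
        suffices hle : R ≤ H from hle hr v hv
        refine hR.gen.trans ((closure_le _).2 ?_)
        rintro _ ⟨x, hx, rfl⟩ w hw
        have h1 : x⁻¹ w ∈ invS u := apply_mem_invS (huc _ (inv_mem hx)).symm hw
        have h2 : b⁻¹ (x⁻¹ w) = x⁻¹ w := by
          conv_lhs => rw [← hbfix _ h1]
          simp
        show (b * x * b⁻¹ * x⁻¹) w = w
        rw [MulAut.mul_apply, MulAut.mul_apply, MulAut.mul_apply, h2, MulAut.apply_inv_self,
          hbfix w hw]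
      apply hu1
      ext x
      obtain ⟨p, hp, c, hc, rfl⟩ := exists_decomp h.exp hu2 x
      rw [eq_one_of_inv_eq h.exp ((mem_invS.1 hp).symm.trans (hfix u hu p hp)), one_mul,
        MulAut.one_apply]
      exact hc
    · have b1 : ∀ v ∈ axis₁ z₂ (z₁ * z₂), u v = v⁻¹ := by
        refine s2.resolve_left fun hn => ha1 (b.injective ?_)
        rw [map_one]
        refine eq_one_of_inv_eq h.exp ?_
        rw [← map_inv, ← a1 a ha, ← hcommv]
        exact hn _ (Axes.b_axis₁ h ha)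
      have b2 : ∀ v ∈ axis₁ (z₁ * z₂) z₁, u v = v⁻¹ := by
        refine s3.resolve_left fun hn => ha1 (b.injective (b.injective ?_))
        rw [map_one, map_one]
        refine eq_one_of_inv_eq h.exp ?_
        rw [← map_inv, ← b1 _ (Axes.b_axis₁ h ha), ← hcommv]
        exact hn _ (Axes.b_axis₂ h (Axes.b_axis₁ h ha))
      exact fun v hv => mem_invS.1 (Axes.uSub_le h (S := invS u) a1 b1 b2 hv)
  obtain ⟨a, ha, ha1⟩ := ((axis₁ z₁ z₂).bot_or_exists_ne_one).resolve_left fun e => by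
    have := h.card_axis₁
    rw [e, card_bot] at this
    omega
  have hU := Axes.le₁ h ha
  have hwζ : (w * ζ) ^ 2 = 1 := by rw [(hζ.comm w hw).mul_pow, hw2, hζ.sq, one_mul]
  have hne1 : w * ζ ≠ 1 := fun e => hcon.2 <| by
    rw [eq_inv_of_mul_eq_one_left e]
    exact inv_eq_of_mul_eq_one_right (by rw [← pow_two, hζ.sq])
  have e := mk (mul_mem hw hζ.mem) hwζ hne1 (fun r hr => (hc r hr).mul_right (hζ.comm r hr)) a hU
  rw [MulAut.mul_apply, mk hζ.mem hζ.sq hζ.ne hζ.comm a hU, map_inv,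
    mk hw hw2 hcon.1 hc a hU, inv_inv] at e
  exact ha1 (eq_one_of_inv_eq h.exp e.symm)

end main

/-- The second centre. -/
def zTwo (R : Subgroup (MulAut V)) (ζ : MulAut V) (hζ : ∀ r ∈ R, Commute r ζ) : Subgroup (MulAut V) where
  carrier := {x | x ∈ R ∧ ∀ r ∈ R, x * r * x⁻¹ * r⁻¹ ∈ zpowers ζ}
  one_mem' := ⟨one_mem _, fun r _ => by simp⟩
  mul_mem' {x y} hx hy := ⟨mul_mem hx.1 hy.1, fun r hr => by
    have hcen : ∀ g ∈ R, ∀ c ∈ zpowers ζ, g * c * g⁻¹ = c := fun g hg c hc => by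
      obtain ⟨i, rfl⟩ := hc
      show g * ζ ^ i * g⁻¹ = ζ ^ i
      rw [((hζ g hg).zpow_right i).eq, mul_inv_cancel_right]
    rw [show x * y * r * (x * y)⁻¹ * r⁻¹ = x * (y * r * y⁻¹ * r⁻¹) * x⁻¹ * (x * r * x⁻¹ * r⁻¹) by
      group, hcen x hx.1 _ (hy.2 r hr)]
    exact mul_mem (hy.2 r hr) (hx.2 r hr)⟩
  inv_mem' {x} hx := ⟨inv_mem hx.1, fun r hr => by
    have h1 := hx.2 (x⁻¹ * r * x) (mul_mem (mul_mem (inv_mem hx.1) hr) hx.1)
    rw [show x * (x⁻¹ * r * x) * x⁻¹ * (x⁻¹ * r * x)⁻¹ = r * x⁻¹ * r⁻¹ * x by group] at h1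
    have h2 := inv_mem h1
    rw [show (r * x⁻¹ * r⁻¹ * x)⁻¹ = x⁻¹ * r * x * r⁻¹ by group] at h2
    rw [inv_inv]
    exact h2⟩

end Cfsg.Agent.FourActionTernaryB27
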