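import Mathlib
import Cfsg.Agent.Lib.FourActionTernaryB27

/-!
`2`-groups `R = [R, b]` other than the four-group: they are extraspecial of order 32.
-/

set_option autoImplicit false

namespace Cfsg.Agent.FourActionTernaryC27

open Subgroup
open Cfsg.Agent.FourCommutatorAction27 (del dSub del_mem dSub_invariant)
open Cfsg.Agent.FourActionTernaryA27
open Cfsg.Agent.FourActionTernaryB27

/-- A nontrivial layer above a normal subgroup of a `2`-group. -/
theorem exists_lift {G : Type*} [Group G] [Finite G] (hG : IsPGroup 2 G) (N K : Subgroup G)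
    [N.Normal] [K.Normal] (hNK : ¬ N ≤ K) :
    ∃ n ∈ N, n ∉ K ∧ n ^ 2 ∈ K ∧ ∀ g : G, n * g * n⁻¹ * g⁻¹ ∈ K := by
  haveI := Fact.mk Nat.prime_two
  set π := QuotientGroup.mk' K
  haveI : (N.map π).Normal := Subgroup.Normal.map ‹_› π (QuotientGroup.mk'_surjective K)
  have hne : N.map π ≠ ⊥ := fun e => hNK (by
    rw [Subgroup.map_eq_bot_iff, QuotientGroup.ker_mk'] at e
    exact e)
  have hQ := hG.to_quotient K
  obtain ⟨x, ⟨⟨n, hn, rfl⟩, hxc⟩, hx⟩ := PGroupsBasic.exists_orderOf_eq_of_ne_bot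
    (hQ.to_subgroup (N.map π ⊓ center (G ⧸ K))) (PGroupsBasic.inf_center_ne_bot hQ hne)
  refine ⟨n, hn, fun e => ?_, ?_, fun g => ?_⟩
  · rw [show π n = 1 from (QuotientGroup.eq_one_iff n).2 e, orderOf_one] at hx
    omega
  · rw [← QuotientGroup.eq_one_iff, ← QuotientGroup.mk'_apply, map_pow, ← hx, pow_orderOf_eq_one]
  · rw [← QuotientGroup.eq_one_iff, ← QuotientGroup.mk'_apply, map_mul, map_mul, map_mul, map_inv,
      map_inv]
    have hcg := mem_center_iff.1 hxc (π g)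
    simp only [π] at hcg ⊢
    rw [← hcg]
    group

variable {V : Type*} [CommGroup V] [Finite V]

omit [Finite V] in
theorem map_invS (r z : MulAut V) : (invS z).map r.toMonoidHom = invS (r * z * r⁻¹) := by
  ext w
  constructor
  · rintro ⟨v, hv, rfl⟩
    show r (z (r⁻¹ (r v))) = (r v)⁻¹
    rw [MulAut.inv_apply_self, mem_invS.1 hv, map_inv]
  · intro hw
    refine ⟨r⁻¹ w, r.injective ?_, MulAut.apply_inv_self V r w⟩
    rw [map_inv, MulAut.apply_inv_self]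
    exact hw

omit [Finite V] in
theorem del_del (hV : ∀ v : V, v ^ 3 = 1) (b : MulAut V) (x : V) :
    del b (del b x) = b (b x) * b x * x := by
  rw [FourCommutatorAction27.del_apply, FourCommutatorAction27.del_apply, map_div]
  have e : (b x)⁻¹ * (b x)⁻¹ = b x := by
    rw [← inv_mul_inv_eq hV (b x)⁻¹, inv_inv]
  calc b (b x) / b x / (b x / x) = b (b x) * ((b x)⁻¹ * (b x)⁻¹) * x := by
        simp [div_eq_mul_inv, mul_comm, mul_left_comm]
    _ = b (b x) * b x * x := by rw [e]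

/-- The situation `R ≠` four-group, with the central involution. -/
structure Setting (b z₁ z₂ : MulAut V) (R : Subgroup (MulAut V)) (ζ : MulAut V) : Prop where
  data : Data b z₁ z₂
  rd : RData b R
  m₁ : z₁ ∈ R
  m₂ : z₂ ∈ R
  ne : R ≠ qSub data
  cen : Central (b := b) (R := R) ζ

namespace Setting

variable {b z₁ z₂ ζ : MulAut V} {R : Subgroup (MulAut V)} (S : Setting b z₁ z₂ R ζ)
include S

omit [Finite V] in
theorem ζ_mul : ζ * ζ = 1 := by rw [← pow_two, S.cen.sq]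

omit [Finite V] in
theorem ζ_inv : ζ⁻¹ = ζ := inv_eq_of_mul_eq_one_right S.ζ_mul

omit [Finite V] in
theorem mem_zp {c : MulAut V} : c ∈ zpowers ζ ↔ c = 1 ∨ c = ζ := by
  refine ⟨?_, ?_⟩
  · rintro ⟨i, rfl⟩
    rcases Int.even_or_odd' i with ⟨j, rfl | rfl⟩
    · left
      show ζ ^ (2 * j) = 1
      rw [zpow_mul, show ζ ^ (2 : ℤ) = 1 by rw [zpow_ofNat, S.cen.sq], one_zpow]
    · right
      show ζ ^ (2 * j + 1) = ζ
      rw [zpow_add, zpow_mul, show ζ ^ (2 : ℤ) = 1 by rw [zpow_ofNat, S.cen.sq], one_zpow, one_mul,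
        zpow_one]
  · rintro (rfl | rfl)
    exacts [one_mem _, mem_zpowers _]

omit [Finite V] in
theorem zp_comm {c : MulAut V} (hc : c ∈ zpowers ζ) {r : MulAut V} (hr : r ∈ R) : Commute r c := by
  rcases S.mem_zp.1 hc with rfl | rfl
  exacts [Commute.one_right r, S.cen.comm r hr]

omit [Finite V] in
theorem inv' {r : MulAut V} (hr : r ∈ R) : b⁻¹ * r * b ∈ R := by
  have hbi : b⁻¹ = b ^ 2 := inv_eq_of_mul_eq_one_right (by rw [← pow_succ', S.data.pow_b])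
  have := S.rd.inv _ (S.rd.inv r hr)
  rw [show b⁻¹ * r * b = b ^ 2 * r * (b ^ 2)⁻¹ by rw [← hbi, inv_inv],
    show b ^ 2 * r * (b ^ 2)⁻¹ = b * (b * r * b⁻¹) * b⁻¹ by
      rw [pow_two, mul_inv_rev]; simp [mul_assoc]]
  exact this

omit [Finite V] in
theorem b_ζ : b * ζ * b⁻¹ = ζ := by rw [S.cen.comm_b.eq, mul_inv_cancel_right]

/-- The second centre. -/
abbrev z2 : Subgroup (MulAut V) := zTwo R ζ S.cen.comm

omit [Finite V] in
theorem mem_z2 {x : MulAut V} :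
    x ∈ S.z2 ↔ x ∈ R ∧ ∀ r ∈ R, x * r * x⁻¹ * r⁻¹ ∈ zpowers ζ := Iff.rfl

omit [Finite V] in
theorem z2_b {x : MulAut V} (hx : x ∈ S.z2) : b * x * b⁻¹ ∈ S.z2 := by
  refine ⟨S.rd.inv x hx.1, fun r hr => ?_⟩
  have h1 := hx.2 _ (S.inv' hr)
  rw [show b * x * b⁻¹ * r * (b * x * b⁻¹)⁻¹ * r⁻¹ =
    b * (x * (b⁻¹ * r * b) * x⁻¹ * (b⁻¹ * r * b)⁻¹) * b⁻¹ by group]
  rcases S.mem_zp.1 h1 with e | e <;> rw [e]
  · simp
  · rw [S.b_ζ]
    exact mem_zpowers ζ

omit [Finite V] in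
/-- Conjugates of an element of the second centre. -/
theorem conj_cases {x : MulAut V} (hx : x ∈ S.z2) {r : MulAut V} (hr : r ∈ R) :
    r * x * r⁻¹ = x ∨ r * x * r⁻¹ = ζ * x := by
  rcases S.mem_zp.1 (hx.2 r hr) with e | e
  · left
    rw [mul_inv_eq_one, mul_inv_eq_iff_eq_mul] at e
    rw [← e, mul_inv_cancel_right]
  · right
    rw [mul_inv_eq_iff_eq_mul, mul_inv_eq_iff_eq_mul] at e
    have e' : r * x = ζ⁻¹ * (x * r) := by rw [e]; group
    rw [e', S.ζ_inv, ← mul_assoc, mul_inv_cancel_right]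

/-- Central involutions. -/
theorem invol_central {w : MulAut V} (hw : w ∈ R) (hw2 : w ^ 2 = 1) (hc : ∀ r ∈ R, Commute r w) :
    w = 1 ∨ w = ζ :=
  central_unique S.data S.rd S.m₁ S.m₂ S.ne S.cen hw hw2 hc

theorem uSub_le : uSub z₁ z₂ ≤ invS ζ := uSub_le_invS S.data S.m₁ S.m₂ S.cen

theorem ζ_not_mem : ζ ∉ qSub S.data := central_not_mem_qSub S.data S.m₁ S.m₂ S.cen

theorem not_comm_z : ∃ r ∈ R, ¬ Commute r z₁ ∨ ¬ Commute r z₂ := by
  by_contra hcon
  push Not at hcon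
  exact S.ne (eq_qSub S.data S.rd S.m₁ S.m₂ hcon)

/-- A noncentral element of the second centre. -/
theorem exists_noncentral : ∃ x ∈ S.z2, ∃ r ∈ R, ¬ Commute r x := by
  haveI := Fact.mk Nat.prime_two
  obtain ⟨n, -, hn, hn2, hnc⟩ := exists_lift S.rd.two (⊤ : Subgroup R) (center R) fun hle => by
    obtain ⟨r, hr, hcz⟩ := S.not_comm_z
    rcases hcz with hcz | hcz
    · exact hcz (congrArg Subtype.val (mem_center_iff.1 (hle (mem_top (⟨z₁, S.m₁⟩ : R))) ⟨r, hr⟩))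
    · exact hcz (congrArg Subtype.val (mem_center_iff.1 (hle (mem_top (⟨z₂, S.m₂⟩ : R))) ⟨r, hr⟩))
  refine ⟨n, ⟨n.2, fun r hr => ?_⟩, ?_⟩
  · set c := n * (⟨r, hr⟩ : R) * n⁻¹ * (⟨r, hr⟩ : R)⁻¹ with hcdef
    have hc := hnc ⟨r, hr⟩
    rw [← hcdef] at hc
    have hsq : c ^ 2 = 1 := by
      have h1 : n * c * n⁻¹ = c := by rw [mem_center_iff.1 hc n, mul_inv_cancel_right]
      have h2 : n ^ 2 * (⟨r, hr⟩ : R) * (n ^ 2)⁻¹ * (⟨r, hr⟩ : R)⁻¹ = 1 := by
        rw [← mem_center_iff.1 hn2 ⟨r, hr⟩]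
        group
      rw [pow_two, ← h2]
      nth_rw 1 [← h1]
      rw [hcdef, pow_two]
      group
    rw [S.mem_zp]
    exact S.invol_central c.2 (congrArg Subtype.val hsq)
      fun s hs => congrArg Subtype.val (mem_center_iff.1 hc ⟨s, hs⟩)
  · by_contra hcon
    push Not at hcon
    exact hn (mem_center_iff.2 fun g => Subtype.ext (hcon g g.2))

omit [Finite V] in
/-- An element of the second centre commuting with `b` is central. -/
theorem central_of_comm_b {x : MulAut V} (hx : x ∈ S.z2) (e : Commute b x) :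
    ∀ r ∈ R, Commute r x := by
  let H : Subgroup (MulAut V) := centralizer {x}
  suffices hle : R ≤ H from fun r hr => SFTGroup.mem_centralizer_singleton.1 (hle hr)
  refine S.rd.gen.trans ((closure_le _).2 ?_)
  rintro _ ⟨r, hr, rfl⟩
  refine SFTGroup.mem_centralizer_singleton.2 ?_
  have h1 := hx.2 r hr
  generalize hc : x * r * x⁻¹ * r⁻¹ = c at h1
  have hbc : b * c * b⁻¹ = c := by
    rcases S.mem_zp.1 h1 with e' | e' <;> rw [e']
    · simp
    · exact S.b_ζ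
  have hcom : Commute c (b * r * b⁻¹ * r⁻¹) :=
    (S.zp_comm h1 (mul_mem (S.rd.inv r hr) (inv_mem hr))).symm
  have e2 : x * b * x⁻¹ = b := by rw [← e.eq, mul_inv_cancel_right]
  have e3 : x * r * x⁻¹ = c * r := by rw [← hc]; group
  have h2 : x * (b * r * b⁻¹ * r⁻¹) * x⁻¹ = b * r * b⁻¹ * r⁻¹ :=
    calc x * (b * r * b⁻¹ * r⁻¹) * x⁻¹
        = (x * b * x⁻¹) * (x * r * x⁻¹) * (x * b * x⁻¹)⁻¹ * (x * r * x⁻¹)⁻¹ := by group
      _ = b * (c * r) * b⁻¹ * (c * r)⁻¹ := by rw [e2, e3]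
      _ = (b * c * b⁻¹) * (b * r * b⁻¹ * r⁻¹) * c⁻¹ := by group
      _ = b * r * b⁻¹ * r⁻¹ := by rw [hbc, hcom.eq, mul_inv_cancel_right]
  exact (mul_inv_eq_iff_eq_mul.1 h2).symm

/-- `L`: the fixed space of the four-group on the moved eigenspace. -/
theorem card_L : Nat.card (invS ζ ⊓ cSub z₁ z₂ : Subgroup V) = 3 := by
  haveI := Fact.mk Nat.prime_three
  have aux : ∀ {w w' : MulAut V}, Data b w w' → w ∈ R → w' ∈ R →
      (∃ r ∈ R, r * w * r⁻¹ = ζ * w) → Nat.card (invS ζ ⊓ cSub w w' : Subgroup V) = 3 := by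
    rintro w w' h hw hw' ⟨r, -, hrw⟩
    have hV := h.exp
    have h3 : axis₁ w' (w * w') ⊓ (invS w ⊓ invS w') = ⊥ := by
      rw [eq_bot_iff, ← fixS_inf_invS hV w']
      exact fun v hv => ⟨hv.1.1, hv.2.2⟩
    have h9 : Nat.card (invS w) = 9 := by
      rw [h.invS_eq, PGroupsBasic.card_sup_of_normal h3, Axes.card₂ h, h.invS_inf_invS,
        Axes.card₃ h]
    have hW : invS (ζ * w) = invS ζ ⊓ fixS w := by
      ext v
      constructor
      · intro hv
        obtain ⟨p, hp, c, hc, rfl⟩ := exists_decomp hV S.cen.sq v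
        have e : ζ (w (p * c)) = (p * c)⁻¹ := hv
        rw [map_mul, S.cen.triv w hw c hc, map_mul,
          mem_invS.1 (apply_mem_invS (S.cen.comm w hw).symm hp), mem_fixS.1 hc, mul_inv] at e
        have e1 : c * c = w p * p⁻¹ := by
          calc c * c = w p * ((w p)⁻¹ * c) * c := by group
            _ = w p * (p⁻¹ * c⁻¹) * c := by rw [e]
            _ = w p * p⁻¹ := by group
        have hcc : c * c = 1 := mem_bot.1 (fixS_inf_invS hV ζ ▸ mem_inf.2 ⟨mul_mem hc hc, e1 ▸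
          mul_mem (apply_mem_invS (S.cen.comm w hw).symm hp) (inv_mem hp)⟩)
        have hc1 : c = 1 := eq_one_of_inv_eq hV (inv_eq_of_mul_eq_one_right hcc)
        rw [hcc, eq_comm, mul_inv_eq_one] at e1
        rw [hc1, mul_one]
        exact ⟨hp, e1⟩
      · rintro ⟨hv1, hv2⟩
        show ζ (w v) = v⁻¹
        rw [mem_fixS.1 hv2, mem_invS.1 hv1]
    have hle : axis₁ w w' ≤ invS ζ :=
      le_trans (Axes.le₁ h) (uSub_le_invS h hw hw' S.cen)
    have hdec : invS ζ ⊓ fixS w = axis₁ w w' ⊔ (invS ζ ⊓ cSub w w') := by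
      refine le_antisymm (fun v hv => ?_) (sup_le (fun v hv => ⟨hle hv, hv.1⟩) fun v hv =>
        ⟨hv.1, hv.2.1⟩)
      obtain ⟨hv1, hv2⟩ := hv
      have a1 : w' v ∈ invS ζ ⊓ fixS w :=
        ⟨apply_mem_invS (S.cen.comm w' hw').symm hv1, apply_mem_fixS h.comm hv2⟩
      have hgg : w' (w' v) = v := by rw [← MulAut.mul_apply, ← pow_two, h.sq₂, MulAut.one_apply]
      rw [show v = w' v * v⁻¹ * (v⁻¹ * (w' v)⁻¹) by
        calc v = v⁻¹ * v⁻¹ := by rw [← inv_mul_inv_eq hV v⁻¹, inv_inv]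
          _ = _ := by simp [mul_comm, mul_left_comm]]
      refine mul_mem_sup ⟨Subgroup.mul_mem _ a1.2 (Subgroup.inv_mem _ hv2), ?_⟩
        ⟨Subgroup.mul_mem _ (Subgroup.inv_mem _ hv1) (Subgroup.inv_mem _ a1.1),
          Subgroup.mul_mem _ (Subgroup.inv_mem _ hv2) (Subgroup.inv_mem _ a1.2), ?_⟩
      · show w' (w' v * v⁻¹) = (w' v * v⁻¹)⁻¹
        rw [map_mul, map_inv, hgg, mul_inv, inv_inv, mul_comm]
      · show w' (v⁻¹ * (w' v)⁻¹) = v⁻¹ * (w' v)⁻¹
        rw [map_mul, map_inv, map_inv, hgg, mul_comm]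
    have h1 : axis₁ w w' ⊓ (invS ζ ⊓ cSub w w') = ⊥ := by
      rw [eq_bot_iff, ← h.uSub_inf_cSub]
      exact fun v hv => ⟨Axes.le₁ h hv.1, hv.2.2⟩
    have hcard := card_map_of_injective (K := invS w) (f := r.toMonoidHom)
      (show Function.Injective r.toMonoidHom from r.injective)
    rw [map_invS, hrw, hW, hdec, PGroupsBasic.card_sup_of_normal h1, h.card_axis₁, h9] at hcard
    omega
  have rot : cSub z₂ (z₁ * z₂) = cSub z₁ z₂ := by
    ext v
    constructor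
    · rintro ⟨h2, h3⟩
      have h3' : z₁ (z₂ v) = v := h3
      rw [mem_fixS.1 h2] at h3'
      exact ⟨h3', h2⟩
    · rintro ⟨h1, h2⟩
      refine ⟨h2, ?_⟩
      show z₁ (z₂ v) = v
      rw [mem_fixS.1 h2, mem_fixS.1 h1]
  have rot' : cSub (z₁ * z₂) z₁ = cSub z₁ z₂ := by
    ext v
    constructor
    · rintro ⟨h3, h1⟩
      refine ⟨h1, z₁.injective ?_⟩
      have h3' : z₁ (z₂ v) = v := h3
      rw [h3', mem_fixS.1 h1]
    · rintro ⟨h1, h2⟩
      refine ⟨?_, h1⟩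
      show z₁ (z₂ v) = v
      rw [mem_fixS.1 h2, mem_fixS.1 h1]
  suffices hmain : ∃ z ∈ ({z₁, z₂, z₁ * z₂} : Set (MulAut V)), ∃ r ∈ R, r * z * r⁻¹ = ζ * z by
    obtain ⟨z, hz, hr⟩ := hmain
    rcases hz with rfl | rfl | rfl
    · exact aux S.data S.m₁ S.m₂ hr
    · rw [← rot]
      exact aux S.data.rotate S.m₂ (mul_mem S.m₁ S.m₂) hr
    · rw [← rot']
      have h := S.data.rotate.rotate
      rw [Axes.third S.data] at h
      exact aux h (mul_mem S.m₁ S.m₂) S.m₁ hr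
  obtain ⟨x, hx, r, hr, hnc⟩ := S.exists_noncentral
  have move : ∀ {z}, z ∈ R → ¬ Commute x z → x * z * x⁻¹ = ζ * z := by
    intro z hz hn
    rcases S.mem_zp.1 (hx.2 z hz) with e | e
    · exact absurd (mul_inv_eq_iff_eq_mul.1 (mul_inv_eq_one.1 e)) hn
    · exact mul_inv_eq_iff_eq_mul.1 e
  by_cases h1 : Commute x z₁
  swap
  · exact ⟨z₁, Or.inl rfl, x, hx.1, move S.m₁ h1⟩
  by_cases h2 : Commute x z₂
  swap
  · exact ⟨z₂, Or.inr (Or.inl rfl), x, hx.1, move S.m₂ h2⟩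
  set t := b * x * b⁻¹ * x⁻¹ with ht
  have ht2 : t ∈ S.z2 := mul_mem (S.z2_b hx) (inv_mem hx)
  have htq : t ∈ qSub S.data := Axes.commutator_mem S.data h1 h2
  have ht1 : t ≠ 1 := by
    intro e
    rw [ht, mul_inv_eq_one, mul_inv_eq_iff_eq_mul] at e
    exact hnc (S.central_of_comm_b hx e r hr)
  -- so `t` is moved
  obtain ⟨s, hs, hst⟩ : ∃ s ∈ R, s * t * s⁻¹ ≠ t := by
    by_contra hcon
    push Not at hcon
    have hsq : t ^ 2 = 1 := by
      rcases htq with e | e | e | e <;> simp [e, S.data.sq₁, S.data.sq₂, S.data.sq₃]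
    rcases S.invol_central ht2.1 hsq fun s hs => mul_inv_eq_iff_eq_mul.1 (hcon s hs) with e | e
    · exact ht1 e
    · exact S.ζ_not_mem (e ▸ htq)
  have hs' := (S.conj_cases ht2 hs).resolve_left hst
  rcases htq with e | e | e | e
  · exact absurd e ht1
  · exact ⟨z₁, Or.inl rfl, s, hs, e ▸ hs'⟩
  · exact ⟨z₂, Or.inr (Or.inl rfl), s, hs, e ▸ hs'⟩
  · exact ⟨z₁ * z₂, Or.inr (Or.inr rfl), s, hs, e ▸ hs'⟩

end Setting

end Cfsg.Agent.FourActionTernaryC27
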