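import Mathlib
import Cfsg.Agent.Lib.FourActionTernaryC27

/-!
Centralisers of `b` and of four-groups in the `2`-group `R`.
-/

set_option autoImplicit false

namespace Cfsg.Agent.FourActionTernaryD27

open Subgroup
open Cfsg.Agent.FourCommutatorAction27 (del dSub del_mem dSub_invariant)
open Cfsg.Agent.FourActionTernaryA27
open Cfsg.Agent.FourActionTernaryB27
open Cfsg.Agent.FourActionTernaryC27

variable {V : Type*} [CommGroup V] [Finite V]

theorem exists_two_pow {R : Subgroup (MulAut V)} (hR : IsPGroup 2 R) {g : MulAut V} (hg : g ∈ R) :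
    ∃ k : ℕ, g ^ 2 ^ k = 1 := by
  obtain ⟨k, hk⟩ := hR ⟨g, hg⟩
  exact ⟨k, congrArg Subtype.val hk⟩

omit [Finite V] in
theorem eq_or_inv_of_card {L : Subgroup V} (hL : Nat.card L = 3) {l x : V} (hl : l ∈ L) (hl1 : l ≠ 1)
    (hx : x ∈ L) : x = 1 ∨ x = l ∨ x = l⁻¹ := by
  haveI := Fact.mk Nat.prime_three
  haveI : Finite L := Nat.finite_of_card_ne_zero (by omega)
  have h3 : l ^ 3 = 1 := PGroupsBasic.pow_eq_one_of_card hL hl
  have hzp : zpowers l = L := eq_of_le_of_card_ge (zpowers_le.2 hl)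
    (by rw [Nat.card_zpowers, orderOf_eq_prime h3 hl1, hL])
  obtain ⟨i, rfl⟩ := hzp.symm ▸ hx
  show l ^ i = 1 ∨ l ^ i = l ∨ l ^ i = l⁻¹
  have h3' : l ^ (3 : ℤ) = 1 := by rw [zpow_ofNat]; exact h3
  have hmod : l ^ i = l ^ (i % 3) := by
    conv_lhs => rw [← Int.emod_add_ediv_mul i 3, zpow_add, mul_comm (i / 3) 3, zpow_mul, h3',
      one_zpow, mul_one]
  have h012 : i % 3 = 0 ∨ i % 3 = 1 ∨ i % 3 = 2 := by omega
  rcases h012 with e | e | e <;> rw [hmod, e]
  · exact Or.inl (zpow_zero l)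
  · exact Or.inr (Or.inl (zpow_one l))
  · refine Or.inr (Or.inr ?_)
    rw [show (2 : ℤ) = 3 + (-1) by norm_num, zpow_add, h3', one_mul, zpow_neg_one]

omit [Finite V] in
/-- The square of an automorphism preserving `K ≤ D ⊔ L`, fixing `D`, with `|L| = 3`. -/
theorem sq_mem {g : MulAut V} {D L : Subgroup V} (hL : Nat.card L = 3)
    (hD : ∀ d ∈ D, g d = d) {l : V} (hl : l ∈ L) (hgl : g l ∈ D ⊔ L) : g (g l) / l ∈ D := by
  by_cases hl1 : l = 1
  · subst hl1
    simp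
  obtain ⟨d, hd, x, hx, e⟩ := mem_sup.1 hgl
  rcases eq_or_inv_of_card hL hl hl1 hx with rfl | rfl | rfl
  · rw [mul_one] at e
    have : l = d := g.injective (by rw [← e, hD d hd])
    rw [← e, hD d hd, this, div_self']
    exact one_mem _
  · have hgg : g (g x) = d * d * x := by rw [← e, map_mul, hD d hd, ← e, mul_assoc]
    rw [hgg, mul_div_cancel_right]
    exact mul_mem hd hd
  · have hgg : g (g l) = l := by
      rw [← e, map_mul, map_inv, hD d hd, ← e]
      simp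
    rw [hgg, div_self']
    exact one_mem _

variable {b z₁ z₂ ζ : MulAut V} {R : Subgroup (MulAut V)}

theorem centralizer_b_core (S : Setting b z₁ z₂ R ζ) {c : MulAut V} (hc : c ∈ R) (hcb : Commute b c)
    (hfix : ∀ v ∈ uSub z₁ z₂ ⊓ fixS b, c v = v) : c = 1 := by
  set D₁ := uSub z₁ z₂ ⊓ fixS b with hD₁
  set L := invS ζ ⊓ cSub z₁ z₂ with hLdef
  set Kb := invS ζ ⊓ fixS b with hKb
  have hV := S.data.exp
  have hL : Nat.card L = 3 := S.card_L
  obtain ⟨k, hk⟩ := exists_two_pow S.rd.two hc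
  have hinvS : ∀ v ∈ invS ζ, c v ∈ invS ζ := fun v hv => apply_mem_invS (S.cen.comm c hc).symm hv
  have hb3 : ∀ v, b (b (b v)) = v := fun v => by
    have := DFunLike.congr_fun S.data.pow_b v
    simpa [pow_succ, MulAut.mul_apply] using this
  -- `c` fixes `[V, b]`
  have hcD : ∀ v ∈ dSub b, c v = v := by
    intro v hv
    refine fix_of_two hV hk (hfix _ ?_)
    refine mem_inf.2 ⟨S.data.dSub_b_le (Subgroup.div_mem _ (dSub_invariant hcb hv) hv), ?_⟩
    obtain ⟨w, rfl⟩ := hv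
    have hdd : b (del b (del b w)) = del b (del b w) := by
      rw [del_del hV, map_mul, map_mul, hb3]
      simp [mul_comm, mul_left_comm]
    have hmem : del b (del b w) ∈ D₁ := mem_inf.2 ⟨S.data.dSub_b_le (del_mem b _), hdd⟩
    have e : del b (c (del b w)) = del b (del b w) := by
      conv_rhs => rw [← hfix _ hmem]
      have hcomm : ∀ x, b (c x) = c (b x) := fun x => DFunLike.congr_fun hcb.eq x
      simp only [FourCommutatorAction27.del_apply, map_div, hcomm]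
    rw [mem_fixS, ← div_eq_one, ← FourCommutatorAction27.del_apply, map_div (del b), e, div_self']
  -- images in `Kb`
  have hmov : ∀ g, g ∈ R → Commute b g → (∀ v ∈ dSub b, g v = v) → ∀ v ∈ invS ζ, g v / v ∈ Kb := by
    intro g hg hgb hgD v hv
    refine mem_inf.2
      ⟨Subgroup.div_mem _ (apply_mem_invS (S.cen.comm g hg).symm hv) hv, ?_⟩
    have e : b (g v) / g v = b v / v := by
      rw [← MulAut.mul_apply, hgb.eq, MulAut.mul_apply, ← map_div, hgD _ (del_mem b v)]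
    rw [mem_fixS, map_div, ← div_eq_one, div_div_div_comm, e, div_self']
  have hKle : Kb ≤ D₁ ⊔ L := by
    rintro w ⟨hw1, hw2⟩
    obtain ⟨u, hu, l, hl, rfl⟩ :=
      mem_sup.1 (S.data.uSub_sup_cSub ▸ mem_top w : w ∈ uSub z₁ z₂ ⊔ cSub z₁ z₂)
    have hl1 : l ∈ invS ζ := by
      rw [show l = u⁻¹ * (u * l) by group]
      exact mul_mem (inv_mem (S.uSub_le hu)) hw1
    have hu2 : b u = u := by
      have h0 : b (u * l) = u * l := hw2
      rwa [map_mul, S.data.b_fix hl, mul_left_inj] at h0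
    exact mul_mem_sup ⟨hu, hu2⟩ ⟨hl1, hl⟩
  have hLK : L ≤ Kb := fun l hl => ⟨hl.1, S.data.b_fix hl.2⟩
  have hD₁K : D₁ ≤ Kb := fun v hv => ⟨S.uSub_le hv.1, hv.2⟩
  have hcK : ∀ v ∈ Kb, c v ∈ Kb := fun v hv =>
    ⟨hinvS v hv.1, apply_mem_fixS hcb hv.2⟩
  -- `c ^ 2` fixes `Kb`
  have hk2 : (c ^ 2) ^ 2 ^ k = 1 := by rw [← pow_mul, mul_comm, pow_mul, hk, one_pow]
  have hcc : ∀ v, (c ^ 2) v = c (c v) := fun v => by rw [pow_two, MulAut.mul_apply]
  have hsqK : ∀ v ∈ Kb, (c ^ 2) v = v := by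
    intro v hv
    obtain ⟨d, hd, l, hl, rfl⟩ := mem_sup.1 (hKle hv)
    have hmem := sq_mem hL hfix hl (hKle (hcK l (hLK hl)))
    rw [map_mul, hcc d, hfix d hd, hfix d hd, mul_right_inj]
    exact fix_of_two hV hk2 (by rw [hcc l, hcc (c (c l) / l), hfix _ hmem, hfix _ hmem])
  have hc2 : c ^ 2 = 1 := by
    ext v
    obtain ⟨p, hp, q, hq, rfl⟩ := exists_decomp hV S.cen.sq v
    rw [map_mul, S.cen.triv _ (pow_mem hc 2) q hq, MulAut.one_apply, mul_left_inj]
    exact fix_of_two hV hk2 (hsqK _ (hmov _ (pow_mem hc 2) (hcb.pow_right 2)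
      (fun w hw => by rw [hcc, hcD w hw, hcD w hw]) p hp))
  have hle : dSub c ≤ Kb := by
    rintro _ ⟨v, rfl⟩
    obtain ⟨p, hp, q, hq, rfl⟩ := exists_decomp hV S.cen.sq v
    rw [FourCommutatorAction27.del_apply, map_mul, S.cen.triv c hc q hq, mul_div_mul_right_eq_div]
    exact hmov c hc hcb hcD p hp
  have hinf : dSub c ⊓ D₁ = ⊥ := by
    rw [eq_bot_iff_forall]
    intro v hv
    rw [dSub_eq_invS hV hc2] at hv
    exact eq_one_of_inv_eq hV ((mem_invS.1 hv.1).symm.trans (hfix v hv.2))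
  have hcard : Nat.card (dSub c) ≤ 3 := by
    have h1 := PGroupsBasic.card_sup_of_normal hinf
    have h2 : Nat.card (dSub c ⊔ D₁ : Subgroup V) ≤ Nat.card D₁ * Nat.card L :=
      ((card_le_of_le (sup_le hle hD₁K)).trans (card_le_of_le hKle)).trans (card_sup_le' _ _)
    rw [h1, hL, mul_comm] at h2
    exact Nat.le_of_mul_le_mul_left h2 Nat.card_pos
  obtain ⟨j, hj⟩ := exists_card_pow hV (dSub c)
  have hj1 : j ≤ 1 := (Nat.pow_le_pow_iff_right (by norm_num : 1 < 3)).1 (by simpa [hj] using hcard)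
  interval_cases j
  · rw [pow_zero] at hj
    ext v
    have : c v / v ∈ (⊥ : Subgroup V) := card_eq_one.1 hj ▸ del_mem c v
    exact div_eq_one.1 (mem_bot.1 this)
  · exact absurd (by simpa using hj) (S.rd.noRefl c hc hc2)

/-- The fixed points of `b` on the moved space. -/
theorem exists_axis (h : Data b z₁ z₂) {v : V} (hv : v ∈ uSub z₁ z₂) (hv2 : b v = v) :
    ∃ x ∈ axis₁ z₁ z₂, v = del b (del b x) := by
  have hV := h.exp
  obtain ⟨p, hp, x, hx, rfl⟩ := mem_sup.1 hv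
  rw [h.invS_eq, h.invS_inf_invS] at hp
  obtain ⟨y, hy, w, hw, rfl⟩ := mem_sup.1 hp
  have e : b (y * w * x) = y * w * x := hv2
  rw [map_mul, map_mul] at e
  have hy' := Axes.b_axis₂ h hy
  have hw' := Axes.b_axis₃ h hw
  have hx' := Axes.b_axis₁ h hx
  have hinj := Subgroup.mul_injective_of_disjoint (disjoint_iff.2
    (fixS_inf_invS hV z₁))
    (a₁ := (⟨b w, hw'.1⟩, ⟨b x * b y, mul_mem (Axes.signs₂ h hx').1 (Axes.signs₃ h hy').1⟩))
    (a₂ := (⟨x, hx.1⟩, ⟨y * w, mul_mem (Axes.signs₂ h hy).1 (Axes.signs₃ h hw).1⟩))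
    (by
      show b w * (b x * b y) = x * (y * w)
      rw [mul_comm x, ← e]
      simp [mul_comm, mul_left_comm])
  have e1 : b w = x := congrArg (fun a => (a.1 : V)) hinj
  have e2 : b x * b y = y * w := congrArg (fun a => (a.2 : V)) hinj
  have hinj2 := Subgroup.mul_injective_of_disjoint (disjoint_iff.2
    (fixS_inf_invS hV z₂))
    (a₁ := (⟨b x, hx'.1⟩, ⟨b y, (Axes.signs₃ h hy').2⟩))
    (a₂ := (⟨y, hy.1⟩, ⟨w, (Axes.signs₃ h hw).2⟩)) e2
  have e3 : b x = y := congrArg (fun a => (a.1 : V)) hinj2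
  have e4 : b y = w := congrArg (fun a => (a.2 : V)) hinj2
  refine ⟨x, hx, ?_⟩
  rw [del_del hV, e3, e4]
  simp [mul_comm, mul_left_comm]

/-- `C_R(b) = ⟨ζ⟩`. -/
theorem centralizer_b (S : Setting b z₁ z₂ R ζ) {c : MulAut V} (hc : c ∈ R) (hcb : Commute b c) :
    c = 1 ∨ c = ζ := by
  set D₁ := uSub z₁ z₂ ⊓ fixS b
  have hV := S.data.exp
  have hpres : ∀ v ∈ D₁, c v ∈ D₁ := by
    rintro v ⟨hv, hv2⟩
    refine mem_inf.2 ⟨?_, apply_mem_fixS hcb hv2⟩
    -- such `v` lies in `[V, b]`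
    obtain ⟨x, -, rfl⟩ := exists_axis S.data hv hv2
    exact S.data.dSub_b_le (dSub_invariant hcb (del_mem b _))
  have key : ∀ v ∈ D₁, ζ v = v⁻¹ := fun v hv => S.uSub_le hv.1
  have hcases : (∀ v ∈ D₁, c v = v) ∨ ∀ v ∈ D₁, c v = v⁻¹ := by
    have hcard : Nat.card D₁ ≤ 3 := by
      refine (Nat.card_le_card_of_injective (fun v : D₁ => (⟨v.1, ?_⟩ :
        (axis₁ z₁ z₂).map ((del b).comp (del b)))) ?_).trans
        ((Nat.le_of_dvd Nat.card_pos (card_map_dvd _ _)).trans S.data.card_axis₁.le)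
      · obtain ⟨x, hx, e⟩ := exists_axis S.data v.2.1 v.2.2
        exact ⟨x, hx, e.symm⟩
      · intro u v huv
        have := congrArg Subtype.val huv
        exact Subtype.ext this
    obtain ⟨j, hj⟩ := exists_card_pow hV D₁
    have hj1 : j ≤ 1 := (Nat.pow_le_pow_iff_right (by norm_num : 1 < 3)).1 (by simpa [hj] using hcard)
    interval_cases j
    · refine Or.inl fun v hv => ?_
      have hv1 : v = 1 := mem_bot.1 ((card_eq_one.1 (by simpa using hj) : D₁ = ⊥) ▸ hv)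
      rw [hv1, map_one]
    · exact fix_or_invert (by simpa using hj) hpres
  rcases hcases with hfix | hinv
  · exact Or.inl (centralizer_b_core S hc hcb hfix)
  · right
    have h1 := centralizer_b_core S (mul_mem hc S.cen.mem) (hcb.mul_right S.cen.comm_b)
      fun v hv => by rw [MulAut.mul_apply, key v hv, map_inv, hinv v hv, inv_inv]
    rw [eq_inv_of_mul_eq_one_left h1, S.ζ_inv]

end Cfsg.Agent.FourActionTernaryD27
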