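import Mathlib
import Cfsg.Agent.Lib.FourActionTernaryD27

/-!
`R` is extraspecial of order 32 and acts irreducibly with `b` on its moved space.
-/

set_option autoImplicit false

namespace Cfsg.Agent.FourActionTernaryE27

open Subgroup
open Cfsg.Agent.FourCommutatorAction27 (del dSub del_mem)
open Cfsg.Agent.FourActionTernaryA27
open Cfsg.Agent.FourActionTernaryB27
open Cfsg.Agent.FourActionTernaryC27
open Cfsg.Agent.FourActionTernaryD27

variable {V : Type*} [CommGroup V] [Finite V]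
variable {b z₁ z₂ ζ : MulAut V} {R : Subgroup (MulAut V)}

/-- An element of `R` inverting a single piece is impossible. -/
theorem refl_false (S : Setting b z₁ z₂ R ζ) {g : MulAut V} (hg : g ∈ R) {A : Subgroup V}
    (hA : Nat.card A = 3) (hinv : ∀ v ∈ A, g v = v⁻¹)
    (p₁ : ∀ v ∈ axis₁ z₁ z₂, g v = v ∨ (g v = v⁻¹ ∧ v ∈ A))
    (p₂ : ∀ v ∈ axis₁ z₂ (z₁ * z₂), g v = v ∨ (g v = v⁻¹ ∧ v ∈ A))
    (p₃ : ∀ v ∈ axis₁ (z₁ * z₂) z₁, g v = v ∨ (g v = v⁻¹ ∧ v ∈ A))
    (p₄ : ∀ v ∈ invS ζ ⊓ cSub z₁ z₂, g v = v ∨ (g v = v⁻¹ ∧ v ∈ A)) : False := by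
  have hV := S.data.exp
  let T : Subgroup V := A.comap (del g)
  have hT : ∀ {v}, g v = v ∨ (g v = v⁻¹ ∧ v ∈ A) → g (g v) = v ∧ v ∈ T := by
    rintro v (e | ⟨e, hv⟩)
    · refine ⟨by rw [e, e], ?_⟩
      show g v / v ∈ A
      rw [e, div_self']
      exact one_mem _
    · refine ⟨by rw [e, map_inv, e, inv_inv], ?_⟩
      show g v / v ∈ A
      rw [e]
      exact Subgroup.div_mem _ (inv_mem hv) hv
  have hC : ∀ v ∈ cSub z₁ z₂, g (g v) = v ∧ v ∈ T := by
    intro v hv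
    obtain ⟨p, hp, q, hq, rfl⟩ := exists_decomp hV S.cen.sq v
    have hpC : p ∈ cSub z₁ z₂ := by
      refine ⟨?_, ?_⟩
      · have h1 : z₁ (p * q) = p * q := hv.1
        rwa [map_mul, S.cen.triv z₁ S.m₁ q hq, mul_left_inj] at h1
      · have h1 : z₂ (p * q) = p * q := hv.2
        rwa [map_mul, S.cen.triv z₂ S.m₂ q hq, mul_left_inj] at h1
    have hgq := S.cen.triv g hg q hq
    obtain ⟨hgg, hpT⟩ := hT (p₄ p ⟨hp, hpC⟩)
    refine ⟨by rw [map_mul, map_mul, hgq, hgq, hgg], mul_mem hpT ?_⟩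
    show g q / q ∈ A
    rw [hgq, div_self']
    exact one_mem _
  have hg2 : g ^ 2 = 1 := Axes.ext S.data
    (fun v hv => by rw [pow_two, MulAut.mul_apply, (hT (p₁ v hv)).1, MulAut.one_apply])
    (fun v hv => by rw [pow_two, MulAut.mul_apply, (hT (p₂ v hv)).1, MulAut.one_apply])
    (fun v hv => by rw [pow_two, MulAut.mul_apply, (hT (p₃ v hv)).1, MulAut.one_apply])
    (fun v hv => by rw [pow_two, MulAut.mul_apply, (hC v hv).1, MulAut.one_apply])
  have htop : (⊤ : Subgroup V) ≤ T := S.data.uSub_sup_cSub ▸ sup_le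
    (Axes.uSub_le S.data (fun v hv => (hT (p₁ v hv)).2) (fun v hv => (hT (p₂ v hv)).2)
      fun v hv => (hT (p₃ v hv)).2) fun v hv => (hC v hv).2
  have hle : dSub g ≤ A := by
    rintro _ ⟨v, rfl⟩
    exact htop (mem_top v)
  refine S.rd.noRefl g hg hg2 ?_
  rw [← hA]
  refine le_antisymm (card_le_of_le hle) (card_le_of_le fun a ha => ?_)
  rw [dSub_eq_invS hV hg2]
  exact hinv a ha

/-- Elements commuting with the four-group and fixing `L`. -/
theorem mem_qSub_of_fix (S : Setting b z₁ z₂ R ζ) {g : MulAut V} (hg : g ∈ R) (h1 : Commute g z₁)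
    (h2 : Commute g z₂) (hfix : ∀ v ∈ invS ζ ⊓ cSub z₁ z₂, g v = v) : g ∈ qSub S.data := by
  have h := S.data
  have hV := h.exp
  have hC : ∀ v ∈ cSub z₁ z₂, g v = v := by
    intro v hv
    obtain ⟨p, hp, q, hq, rfl⟩ := exists_decomp hV S.cen.sq v
    have hpC : p ∈ cSub z₁ z₂ := by
      refine ⟨?_, ?_⟩
      · have h1 : z₁ (p * q) = p * q := hv.1
        rwa [map_mul, S.cen.triv z₁ S.m₁ q hq, mul_left_inj] at h1
      · have h1 : z₂ (p * q) = p * q := hv.2
        rwa [map_mul, S.cen.triv z₂ S.m₂ q hq, mul_left_inj] at h1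
    rw [map_mul, hfix p ⟨hp, hpC⟩, S.cen.triv g hg q hq]
  have hc1 : ∀ v ∈ cSub z₁ z₂, z₁ v = v := fun v hv => hv.1
  have hc2 : ∀ v ∈ cSub z₁ z₂, z₂ v = v := fun v hv => hv.2
  have hL : ∀ {A : Subgroup V}, ∀ v ∈ invS ζ ⊓ cSub z₁ z₂, g v = v ∨ (g v = v⁻¹ ∧ v ∈ A) :=
    fun v hv => Or.inl (hfix v hv)
  obtain ⟨s1, s2, s3⟩ := Axes.sign_cases h h1 h2
  rcases s1 with a1 | a1 <;> rcases s2 with a2 | a2 <;> rcases s3 with a3 | a3
  · exact Or.inl (Axes.ext h a1 a2 a3 hC)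
  · exact (refl_false S hg (Axes.card₃ h) a3 (fun v hv => Or.inl (a1 v hv))
      (fun v hv => Or.inl (a2 v hv)) (fun v hv => Or.inr ⟨a3 v hv, hv⟩) hL).elim
  · exact (refl_false S hg (Axes.card₂ h) a2 (fun v hv => Or.inl (a1 v hv))
      (fun v hv => Or.inr ⟨a2 v hv, hv⟩) (fun v hv => Or.inl (a3 v hv)) hL).elim
  · exact Or.inr (Or.inl (Axes.ext h
      (fun v hv => by rw [a1 v hv, (Axes.signs₁ h hv).1])
      (fun v hv => by rw [a2 v hv, (Axes.signs₂ h hv).1])
      (fun v hv => by rw [a3 v hv, (Axes.signs₃ h hv).1])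
      fun v hv => by rw [hC v hv, hc1 v hv]))
  · exact (refl_false S hg h.card_axis₁ a1 (fun v hv => Or.inr ⟨a1 v hv, hv⟩)
      (fun v hv => Or.inl (a2 v hv)) (fun v hv => Or.inl (a3 v hv)) hL).elim
  · exact Or.inr (Or.inr (Or.inl (Axes.ext h
      (fun v hv => by rw [a1 v hv, (Axes.signs₁ h hv).2])
      (fun v hv => by rw [a2 v hv, (Axes.signs₂ h hv).2])
      (fun v hv => by rw [a3 v hv, (Axes.signs₃ h hv).2])
      fun v hv => by rw [hC v hv, hc2 v hv])))
  · exact Or.inr (Or.inr (Or.inr (Axes.ext h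
      (fun v hv => by rw [a1 v hv, MulAut.mul_apply, (Axes.signs₁ h hv).2, map_inv,
        (Axes.signs₁ h hv).1])
      (fun v hv => by rw [a2 v hv, MulAut.mul_apply, (Axes.signs₂ h hv).2, (Axes.signs₂ h hv).1])
      (fun v hv => by rw [a3 v hv, MulAut.mul_apply, (Axes.signs₃ h hv).2, map_inv,
        (Axes.signs₃ h hv).1, inv_inv])
      fun v hv => by rw [hC v hv, MulAut.mul_apply, hc2 v hv, hc1 v hv])))
  · -- here `g ζ` inverts only `L`
    exfalso
    have hval : ∀ {v}, v ∈ invS ζ → g v = v⁻¹ → (g * ζ) v = v := fun {v} hv e => by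
      rw [MulAut.mul_apply, mem_invS.1 hv, map_inv, e, inv_inv]
    have hU := S.uSub_le
    have hval' : ∀ v ∈ invS ζ ⊓ cSub z₁ z₂, (g * ζ) v = v⁻¹ := fun v hv => by
      rw [MulAut.mul_apply, mem_invS.1 hv.1, map_inv, hfix v hv]
    exact refl_false S (mul_mem hg S.cen.mem) S.card_L hval'
      (fun v hv => Or.inl (hval (hU (Axes.le₁ h hv)) (a1 v hv)))
      (fun v hv => Or.inl (hval (hU (Axes.le₂ h hv)) (a2 v hv)))
      (fun v hv => Or.inl (hval (hU (Axes.le₃ h hv)) (a3 v hv)))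
      fun v hv => Or.inr ⟨hval' v hv, hv⟩

/-- `C_R(Q) = Q × ⟨ζ⟩`. -/
theorem mem_of_commute (S : Setting b z₁ z₂ R ζ) {g : MulAut V} (hg : g ∈ R) (h1 : Commute g z₁)
    (h2 : Commute g z₂) : g ∈ qSub S.data ∨ g * ζ ∈ qSub S.data := by
  have hz1 := (S.cen.comm z₁ S.m₁).symm
  have hz2 := (S.cen.comm z₂ S.m₂).symm
  have hpres : ∀ v ∈ invS ζ ⊓ cSub z₁ z₂, g v ∈ invS ζ ⊓ cSub z₁ z₂ := fun v hv =>
    ⟨apply_mem_invS (S.cen.comm g hg).symm hv.1,
      apply_mem_fixS h1.symm hv.2.1, apply_mem_fixS h2.symm hv.2.2⟩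
  rcases fix_or_invert S.card_L hpres with hfix | hinv
  · exact Or.inl (mem_qSub_of_fix S hg h1 h2 hfix)
  · exact Or.inr (mem_qSub_of_fix S (mul_mem hg S.cen.mem) (h1.mul_left hz1) (h2.mul_left hz2)
      fun v hv => by rw [MulAut.mul_apply, mem_invS.1 hv.1, map_inv, hinv v hv, inv_inv])

omit [Finite V] in
theorem qSub_sq (h : Data b z₁ z₂) {g : MulAut V} (hg : g ∈ qSub h) : g ^ 2 = 1 := by
  rcases hg with e | e | e | e <;> simp [e, h.sq₁, h.sq₂, h.sq₃]

theorem sq_of_commute (S : Setting b z₁ z₂ R ζ) {g : MulAut V} (hg : g ∈ R) (h1 : Commute g z₁)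
    (h2 : Commute g z₂) : g ^ 2 = 1 := by
  rcases mem_of_commute S hg h1 h2 with e | e
  · exact qSub_sq S.data e
  · have h3 := qSub_sq S.data e
    rwa [(S.cen.comm g hg).mul_pow, S.cen.sq, mul_one] at h3

/-- The centre. -/
theorem center_eq (S : Setting b z₁ z₂ R ζ) {w : MulAut V} (hw : w ∈ R)
    (hc : ∀ r ∈ R, Commute r w) : w = 1 ∨ w = ζ :=
  centralizer_b S hw (central_comm_b S.data S.rd S.m₁ S.m₂ S.ne hw hc)

/-- A noncentral involution of the second centre. -/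
theorem exists_invol (S : Setting b z₁ z₂ R ζ) : ∃ ξ ∈ S.z2, ξ ^ 2 = 1 ∧ ξ ≠ 1 ∧ ξ ≠ ζ := by
  by_contra hcon
  push Not at hcon
  have hsq : ∀ x ∈ S.z2, x ^ 2 = 1 ∨ x ^ 2 = ζ := by
    intro x hx
    refine center_eq S (pow_mem hx.1 2) fun r hr => ?_
    refine mul_inv_eq_iff_eq_mul.1 ?_
    rw [← conj_pow]
    rcases S.conj_cases hx hr with e | e <;> rw [e]
    rw [(S.cen.comm x hx.1).symm.mul_pow, S.cen.sq, one_mul]
  have hnon : ∀ x ∈ S.z2, x ≠ 1 → x ≠ ζ → x ^ 2 = ζ := fun x hx h1 hz =>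
    (hsq x hx).resolve_left fun e => hz (hcon x hx e h1)
  obtain ⟨x, hx, r, hr, hnc⟩ := S.exists_noncentral
  have hx1 : x ≠ 1 := fun e => hnc (e ▸ Commute.one_right r)
  have hxz : x ≠ ζ := fun e => hnc (e ▸ S.cen.comm r hr)
  have hx2 := hnon x hx hx1 hxz
  set y := b * x * b⁻¹ with hy
  have hy2 : y ∈ S.z2 := S.z2_b hx
  have hysq : y ^ 2 = ζ := by rw [hy, conj_pow, hx2, S.b_ζ]
  have hxy : y * x * y⁻¹ = ζ * x := by
    refine (S.conj_cases hx hy2.1).resolve_left fun e => ?_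
    have hc : Commute x y⁻¹ := (Commute.inv_right (mul_inv_eq_iff_eq_mul.1 e).symm)
    have h2 : (x * y⁻¹) ^ 2 = 1 := by rw [hc.mul_pow, inv_pow, hx2, hysq, mul_inv_cancel]
    have hxy' : x * y⁻¹ = 1 ∨ x * y⁻¹ = ζ := by
      by_cases h1 : x * y⁻¹ = 1
      · exact Or.inl h1
      · exact Or.inr (hcon _ (mul_mem hx (inv_mem hy2)) h2 h1)
    rcases hxy' with e' | e'
    · have e'' : Commute b x := mul_inv_eq_iff_eq_mul.1 (mul_inv_eq_one.1 e').symm
      exact (centralizer_b S hx.1 e'').elim hx1 hxz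
    · rw [mul_inv_eq_iff_eq_mul] at e'
      have hb : b * x * b⁻¹ = ζ * x := by
        calc b * x * b⁻¹ = y := rfl
          _ = ζ * (ζ * y) := by rw [← mul_assoc, S.ζ_mul, one_mul]
          _ = ζ * x := by rw [← e']
      have hstep : ∀ g, b * (ζ * g) * b⁻¹ = ζ * (b * g * b⁻¹) := fun g => by
        rw [← conj_mul, S.b_ζ]
      have h3 : b ^ 3 * x * (b ^ 3)⁻¹ = ζ * x := by
        rw [show b ^ 3 * x * (b ^ 3)⁻¹ = b * (b * (b * x * b⁻¹) * b⁻¹) * b⁻¹ by
          simp [pow_succ, mul_assoc], hb, hstep, hb, ← mul_assoc ζ ζ, S.ζ_mul, one_mul, hb]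
      rw [S.data.pow_b, one_mul, inv_one, mul_one, right_eq_mul] at h3
      exact S.cen.ne h3
  have hyx : x * y * x⁻¹ = ζ * y := by
    refine (S.conj_cases hy2 hx.1).resolve_left fun e => ?_
    have e2 : x * y = y * x := mul_inv_eq_iff_eq_mul.1 e
    rw [← e2, mul_inv_cancel_right, right_eq_mul] at hxy
    exact S.cen.ne hxy
  set C := R ⊓ centralizer ({x, y} : Set (MulAut V)) with hC
  have memC : ∀ {g}, g ∈ R → g * x * g⁻¹ = x → g * y * g⁻¹ = y → g ∈ C := by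
    intro g hg e1 e2
    refine mem_inf.2 ⟨hg, mem_centralizer_iff.2 ?_⟩
    rintro w (rfl | rfl)
    exacts [(mul_inv_eq_iff_eq_mul.1 e1).symm, (mul_inv_eq_iff_eq_mul.1 e2).symm]
  have Ccomm : ∀ {g}, g ∈ C → ∀ w, (w = x ∨ w = y) → g * w = w * g := by
    intro g hg w hw
    exact ((mem_centralizer_iff.1 (mem_inf.1 hg).2) w (by
      rcases hw with rfl | rfl <;> simp)).symm
  by_cases hbig : ∃ g ∈ C, g ≠ 1 ∧ g ≠ ζ
  · haveI := Fact.mk Nat.prime_two
    obtain ⟨g, hg, hg1, hgz⟩ := hbig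
    haveI : (C.subgroupOf R).Normal := by
      refine ⟨fun c hc s => ?_⟩
      rw [mem_subgroupOf] at hc ⊢
      have key : ∀ w, w ∈ S.z2 → (c : MulAut V) * w = w * c →
          (s : MulAut V) * c * (s : MulAut V)⁻¹ * w * ((s : MulAut V) * c * (s : MulAut V)⁻¹)⁻¹ = w := by
        intro w hw hcw
        have hcw' : (c : MulAut V) * ((s : MulAut V)⁻¹ * w * s) = ((s : MulAut V)⁻¹ * w * s) * c := by
          rcases S.conj_cases hw (inv_mem s.2) with e | e <;> rw [inv_inv] at e <;> rw [e]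
          · exact hcw
          · exact ((S.cen.comm _ c.2).mul_right hcw).eq
        calc (s : MulAut V) * c * (s : MulAut V)⁻¹ * w * ((s : MulAut V) * c * (s : MulAut V)⁻¹)⁻¹
            = (s : MulAut V) * ((c : MulAut V) * ((s : MulAut V)⁻¹ * w * s)) * (c : MulAut V)⁻¹ *
              (s : MulAut V)⁻¹ := by group
          _ = w := by rw [hcw']; group
      exact memC (mul_mem (mul_mem s.2 c.2) (inv_mem s.2)) (key x hx (Ccomm hc x (Or.inl rfl)))
        (key y hy2 (Ccomm hc y (Or.inr rfl)))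
    haveI : (zpowers (⟨ζ, S.cen.mem⟩ : R)).Normal := PGroupsBasic.normal_of_le_center
      (zpowers_le.2 (mem_center_iff.2 fun s => Subtype.ext (S.cen.comm s s.2).eq))
    have hmemK : ∀ {u : R}, u ∈ zpowers (⟨ζ, S.cen.mem⟩ : R) ↔ (u : MulAut V) ∈ zpowers ζ := by
      intro u
      rw [← mem_map_iff_mem R.subtype_injective (K := zpowers (⟨ζ, S.cen.mem⟩ : R)),
        MonoidHom.map_zpowers]
      rfl
    obtain ⟨n, hn, hnK, -, hnc'⟩ := exists_lift S.rd.two (C.subgroupOf R)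
      (zpowers (⟨ζ, S.cen.mem⟩ : R)) fun hle => by
        rcases S.mem_zp.1 (hmemK.1 (hle (show (⟨g, hg.1⟩ : R) ∈ C.subgroupOf R from
          mem_subgroupOf.2 hg))) with e | e
        exacts [hg1 e, hgz e]
    rw [mem_subgroupOf] at hn
    have hnz : (n : MulAut V) ∈ S.z2 := ⟨n.2, fun s hs => hmemK.1 (hnc' ⟨s, hs⟩)⟩
    have hn1 : (n : MulAut V) ≠ 1 ∧ (n : MulAut V) ≠ ζ := by
      rw [← not_or, ← S.mem_zp, ← hmemK]
      exact hnK
    have hnx : Commute (n : MulAut V) x := Ccomm hn x (Or.inl rfl)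
    have hprod : (n : MulAut V) * x = 1 ∨ (n : MulAut V) * x = ζ := by
      by_cases h1 : (n : MulAut V) * x = 1
      · exact Or.inl h1
      · refine Or.inr (hcon _ (mul_mem hnz hx) ?_ h1)
        rw [hnx.mul_pow, hnon _ hnz hn1.1 hn1.2, hx2, S.ζ_mul]
    have hny : Commute (n : MulAut V) y := Ccomm hn y (Or.inr rfl)
    have hxy' : Commute x y := by
      have hnxy : Commute ((n : MulAut V) * x) y := by
        rcases hprod with e | e <;> rw [e]
        exacts [Commute.one_left y, (S.cen.comm y hy2.1).symm]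
      have := hny.inv_left.mul_left hnxy
      rwa [inv_mul_cancel_left] at this
    rw [← hxy'.eq, mul_inv_cancel_right, right_eq_mul] at hxy
    exact S.cen.ne hxy
  · push Not at hbig
    -- then `R` is its own second centre
    have hall : ∀ g ∈ R, g ∈ S.z2 := by
      intro g hg
      have hCz : ∀ {w}, w ∈ C → w ∈ S.z2 := fun {w} hw => by
        by_cases h1 : w = 1
        · exact h1 ▸ one_mem _
        · rw [hbig w hw h1]
          exact ⟨S.cen.mem, fun s hs => by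
            rw [(S.cen.comm s hs).eq.symm, mul_inv_cancel_right, mul_inv_cancel]; exact one_mem _⟩
      have hconj : ∀ u v w : MulAut V, u * v * w * (u * v)⁻¹ = u * (v * w * v⁻¹) * u⁻¹ :=
        fun u v w => by group
      have hζc : ∀ w, g * (ζ * w) * g⁻¹ = ζ * (g * w * g⁻¹) := fun w => by
        rw [← mul_assoc g ζ w, (S.cen.comm g hg).eq]; group
      have hζx : ζ * (ζ * x) = x := by rw [← mul_assoc, S.ζ_mul, one_mul]
      have hζy : ζ * (ζ * y) = y := by rw [← mul_assoc, S.ζ_mul, one_mul]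
      rcases S.conj_cases hx hg with e1 | e1 <;> rcases S.conj_cases hy2 hg with e2 | e2
      · exact hCz (memC hg e1 e2)
      · have h := hCz (memC (mul_mem hg hx.1) (by rw [hconj, mul_inv_cancel_right, e1])
          (by rw [hconj, hyx, hζc, e2, hζy]))
        exact (mul_mem_cancel_right hx).1 h
      · have h := hCz (memC (mul_mem hg hy2.1) (by rw [hconj, hxy, hζc, e1, hζx])
          (by rw [hconj, mul_inv_cancel_right, e2]))
        exact (mul_mem_cancel_right hy2).1 h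
      · have h := hCz (memC (mul_mem hg (mul_mem hx.1 hy2.1))
          (by
            rw [show g * (x * y) * x * (g * (x * y))⁻¹ = g * (x * (y * x * y⁻¹) * x⁻¹) * g⁻¹ by group,
              hxy, ← mul_assoc x ζ x, (S.cen.comm x hx.1).eq, mul_assoc ζ x x, mul_assoc ζ,
              mul_inv_cancel_right, hζc, e1, hζx])
          (by
            rw [show g * (x * y) * y * (g * (x * y))⁻¹ = g * (x * y * x⁻¹) * g⁻¹ by group,
              hyx, hζc, e2, hζy]))
        exact (mul_mem_cancel_right (mul_mem hx hy2)).1 h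
    have h1 := hcon z₁ (hall z₁ S.m₁) S.data.sq₁ S.data.ne
    exact S.ζ_not_mem (Or.inr (Or.inl h1.symm))

end Cfsg.Agent.FourActionTernaryE27
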