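import Mathlib
import Cfsg.Agent.Lib.FourActionTernaryE27

/-!
The shape of the `2`-groups `R = [R, b]` without reflections containing the four-group.
-/

set_option autoImplicit false

namespace Cfsg.Agent.FourActionTernaryF27

open Subgroup
open scoped commutatorElement
open Cfsg.Agent.FourCommutatorAction27 (del dSub del_mem)
open Cfsg.Agent.FourActionTernaryA27
open Cfsg.Agent.FourActionTernaryB27
open Cfsg.Agent.FourActionTernaryC27
open Cfsg.Agent.FourActionTernaryD27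
open Cfsg.Agent.FourActionTernaryE27

variable {V : Type*} [CommGroup V] [Finite V]
variable {b z₁ z₂ ζ : MulAut V} {R : Subgroup (MulAut V)}

/-- Passing to a four-group inside the second centre. -/
theorem exists_second (S : Setting b z₁ z₂ R ζ) :
    ∃ t t', Setting b t t' R ζ ∧ t ∈ S.z2 ∧ t' ∈ S.z2 := by
  obtain ⟨ξ, hξ, hξ2, hξ1, hξz⟩ := exists_invol S
  set ξ' := b * ξ * b⁻¹ with hξ'
  set ξ'' := b * ξ' * b⁻¹ with hξ''
  have hξ'm : ξ' ∈ S.z2 := S.z2_b hξ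
  have hξ''m : ξ'' ∈ S.z2 := S.z2_b hξ'm
  have hξ'2 : ξ' ^ 2 = 1 := by rw [hξ', conj_pow, hξ2, mul_one, mul_inv_cancel]
  have hξ''2 : ξ'' ^ 2 = 1 := by rw [hξ'', conj_pow, hξ'2, mul_one, mul_inv_cancel]
  have h3 : b * ξ'' * b⁻¹ = ξ := by
    have := S.data.pow_b
    rw [hξ'', hξ', show b * (b * (b * ξ * b⁻¹) * b⁻¹) * b⁻¹ = b ^ 3 * ξ * (b ^ 3)⁻¹ by
      simp [pow_succ, mul_assoc], this, one_mul, inv_one, mul_one]
  have i1 : ξ⁻¹ = ξ := inv_eq_of_mul_eq_one_right (by rw [← pow_two, hξ2])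
  have i2 : ξ'⁻¹ = ξ' := inv_eq_of_mul_eq_one_right (by rw [← pow_two, hξ'2])
  have i3 : ξ''⁻¹ = ξ'' := inv_eq_of_mul_eq_one_right (by rw [← pow_two, hξ''2])
  -- `ξ' ξ = e ξ ξ'` and `ξ'' ξ' = e ξ' ξ''` and `ξ ξ'' = e ξ'' ξ`
  obtain ⟨e, he, e1⟩ : ∃ e ∈ zpowers ζ, ξ' * ξ = e * (ξ * ξ') := by
    rcases S.conj_cases hξ hξ'm.1 with e | e
    · exact ⟨1, one_mem _, by rw [one_mul]; exact mul_inv_eq_iff_eq_mul.1 e⟩
    · exact ⟨ζ, mem_zpowers ζ, by rw [← mul_assoc]; exact mul_inv_eq_iff_eq_mul.1 e⟩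
  have hec : ∀ g ∈ R, Commute g e := fun g hg => S.zp_comm he hg
  have hee : e * e = 1 := by
    rcases S.mem_zp.1 he with rfl | rfl
    exacts [one_mul _, S.ζ_mul]
  have hbe : b * e * b⁻¹ = e := by
    rcases S.mem_zp.1 he with rfl | rfl
    · simp
    · exact S.b_ζ
  have conjmul : ∀ p q : MulAut V, b * (p * q) * b⁻¹ = (b * p * b⁻¹) * (b * q * b⁻¹) :=
    fun p q => (conj_mul).symm
  have e2 : ξ'' * ξ' = e * (ξ' * ξ'') := by
    have := congrArg (fun g => b * g * b⁻¹) e1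
    simp only [conjmul, hbe] at this
    exact this
  have e3 : ξ * ξ'' = e * (ξ'' * ξ) := by
    have := congrArg (fun g => b * g * b⁻¹) e2
    simp only [conjmul, hbe, h3] at this
    exact this
  set η := ξ * ξ' * ξ'' with hη
  have hbη : b * η * b⁻¹ = η := by
    have e3' : ξ'' * ξ = e * (ξ * ξ'') := by rw [e3, ← mul_assoc, hee, one_mul]
    rw [hη, conjmul, conjmul, h3, ← hξ', ← hξ'']
    calc ξ' * ξ'' * ξ = ξ' * (e * (ξ * ξ'')) := by rw [mul_assoc, e3']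
      _ = e * (ξ' * ξ) * ξ'' := by
        rw [← mul_assoc, (hec ξ' hξ'm.1).eq]
        simp [mul_assoc]
      _ = ξ * ξ' * ξ'' := by rw [e1, ← mul_assoc e e, hee, one_mul]
  have hηz := centralizer_b S (mul_mem (mul_mem hξ.1 hξ'm.1) hξ''m.1)
    (mul_inv_eq_iff_eq_mul.1 hbη)
  have hηc : ∀ g ∈ R, Commute g η := by
    intro g hg
    rcases hηz with e' | e' <;> rw [← hη] at e' <;> rw [e']
    exacts [Commute.one_right g, S.cen.comm g hg]
  have hηη : η * η = 1 := by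
    rcases hηz with e' | e' <;> rw [← hη] at e' <;> rw [e']
    exacts [one_mul _, S.ζ_mul]
  have hη2 : η ∈ S.z2 := mul_mem (mul_mem hξ hξ'm) hξ''m
  have hbη' : ∀ g, b * (g * η) * b⁻¹ = b * g * b⁻¹ * η := fun g => by rw [conjmul, hbη]
  have h'' : ξ'' = ξ' * ξ * η := by
    rw [hη]
    simp only [mul_assoc]
    rw [← mul_assoc ξ ξ, ← pow_two, hξ2, one_mul, ← mul_assoc, ← pow_two, hξ'2, one_mul]
  -- `ξ` and `ξ'` commute
  have he1 : e = 1 := by
    have hsq : (ξ' * ξ) * (ξ' * ξ) = 1 := by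
      have hc : Commute (ξ' * ξ) η := hηc _ (mul_mem hξ'm.1 hξ.1)
      have := hξ''2
      rwa [h'', hc.mul_pow, pow_two η, hηη, mul_one, pow_two] at this
    nth_rw 1 [e1] at hsq
    rwa [show e * (ξ * ξ') * (ξ' * ξ) = e * (ξ * (ξ' * ξ') * ξ) by simp [mul_assoc], ← pow_two,
      hξ'2, mul_one, ← pow_two, hξ2, mul_one] at hsq
  rw [he1, one_mul] at e1
  have hcomm : Commute ξ ξ' := e1.symm
  have hdata : Data b (ξ * η) (ξ' * η) := {
    exp := S.data.exp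
    pow_b := S.data.pow_b
    sq₁ := by rw [(hηc ξ hξ.1).mul_pow, hξ2, pow_two, hηη, one_mul]
    sq₂ := by rw [(hηc ξ' hξ'm.1).mul_pow, hξ'2, pow_two, hηη, one_mul]
    comm := ((hcomm.mul_left (hηc ξ' hξ'm.1).symm).mul_right
      ((hηc ξ hξ.1).mul_left (Commute.refl η)))
    ne := fun e' => by
      have : ξ = η := by
        rw [eq_inv_of_mul_eq_one_left e', inv_eq_of_mul_eq_one_right hηη]
      rcases hηz with h | h <;> rw [← hη, ← this] at h
      exacts [hξ1 h, hξz h]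
    conj₁ := hbη' ξ
    conj₂ := by
      rw [hbη', ← hξ'', h'', mul_assoc (ξ' * ξ) η η, hηη, mul_one, e1]
      rw [show ξ * η * (ξ' * η) = ξ * (η * ξ') * η by simp [mul_assoc], ← (hηc ξ' hξ'm.1).eq]
      simp [mul_assoc, hηη]
    small := S.data.small }
  refine ⟨ξ * η, ξ' * η, ⟨hdata, S.rd, mul_mem hξ.1 hη2.1, mul_mem hξ'm.1 hη2.1, ?_, S.cen⟩,
    mul_mem hξ hη2, mul_mem hξ'm hη2⟩
  intro hR
  refine S.ne (eq_qSub S.data S.rd S.m₁ S.m₂ fun r hr => ?_)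
  have hab : ∀ p ∈ R, ∀ q ∈ R, Commute p q := by
    rw [hR]
    intro p hp q hq
    rcases (shape_four (R := qSub hdata) hdata rfl).iso with hh | hh
    · exact PGroupsBasic.comm_of_isMulCommutative hh.1.1 hp hq
    · have := card_qSub_le hdata
      omega
  exact ⟨hab r hr z₁ S.m₁, hab r hr z₂ S.m₂⟩

/-- Elements of `R` moving the generators of a four-group of the second centre. -/
theorem conj_move (S : Setting b z₁ z₂ R ζ) {z g : MulAut V} (hz : z ∈ S.z2) (hg : g ∈ R)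
    (h : ¬ Commute g z) : g * z * g⁻¹ = ζ * z :=
  (S.conj_cases hz hg).resolve_left fun e => h (mul_inv_eq_iff_eq_mul.1 e)

theorem comm_commute (S : Setting b z₁ z₂ R ζ) {z g k : MulAut V} (hz : z ∈ S.z2) (hg : g ∈ R)
    (hk : k ∈ R) : Commute (g * k * g⁻¹ * k⁻¹) z := by
  have key : ∀ {g : MulAut V}, g ∈ R → ∃ e ∈ zpowers ζ, g * z * g⁻¹ = e * z ∧
      ∀ p ∈ zpowers ζ, g * (p * z) * g⁻¹ = p * (e * z) := by
    intro g hg
    obtain ⟨e, he, h⟩ : ∃ e ∈ zpowers ζ, g * z * g⁻¹ = e * z := by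
      rcases S.conj_cases hz hg with e | e
      · exact ⟨1, one_mem _, e.trans (one_mul z).symm⟩
      · exact ⟨ζ, mem_zpowers ζ, e⟩
    refine ⟨e, he, h, fun p hp => ?_⟩
    rw [← h, ← mul_assoc g p z, (S.zp_comm hp hg).eq]
    simp [mul_assoc]
  obtain ⟨e, he, h1, h1'⟩ := key hg
  obtain ⟨f, hf, h2, h2'⟩ := key hk
  refine mul_inv_eq_iff_eq_mul.1 ?_
  have hgi : g⁻¹ * z * g = e⁻¹ * z := by
    have := h1' e⁻¹ (inv_mem he)
    rw [inv_mul_cancel_left] at this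
    rw [show e⁻¹ * z = g⁻¹ * (g * (e⁻¹ * z) * g⁻¹) * g by group, this]
  have hki : k⁻¹ * z * k = f⁻¹ * z := by
    have := h2' f⁻¹ (inv_mem hf)
    rw [inv_mul_cancel_left] at this
    rw [show f⁻¹ * z = k⁻¹ * (k * (f⁻¹ * z) * k⁻¹) * k by group, this]
  have hgi' : g⁻¹ * (f⁻¹ * z) * g = f⁻¹ * (e⁻¹ * z) := by
    rw [← hgi, ← mul_assoc g⁻¹ f⁻¹ z, (S.zp_comm (inv_mem hf) (inv_mem hg)).eq]
    simp [mul_assoc]
  rw [show g * k * g⁻¹ * k⁻¹ * z * (g * k * g⁻¹ * k⁻¹)⁻¹ =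
    g * (k * (g⁻¹ * (k⁻¹ * z * k) * g) * k⁻¹) * g⁻¹ by group, hki, hgi', ← mul_assoc f⁻¹ e⁻¹ z,
    h2' _ (mul_mem (inv_mem hf) (inv_mem he)), ← mul_assoc (f⁻¹ * e⁻¹) f z,
    h1' _ (mul_mem (mul_mem (inv_mem hf) (inv_mem he)) hf)]
  have hc : f⁻¹ * e⁻¹ * f = e⁻¹ := by
    rw [(S.zp_comm (inv_mem he) (inv_mem (S.mem_zp.1 hf |>.elim (fun e => e ▸ one_mem R)
      (fun e => e ▸ S.cen.mem)))).eq, inv_mul_cancel_right]
  rw [hc, inv_mul_cancel_left]

/-- The main structure, for a four-group in the second centre. -/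
theorem shape_of_mem (S : Setting b z₁ z₂ R ζ) (hz₁ : z₁ ∈ S.z2) (hz₂ : z₂ ∈ S.z2) : Shape b R := by
  have h := S.data
  have hb3 : ∀ g, b * (b * (b * g * b⁻¹) * b⁻¹) * b⁻¹ = g := fun g => by
    rw [show b * (b * (b * g * b⁻¹) * b⁻¹) * b⁻¹ = b ^ 3 * g * (b ^ 3)⁻¹ by
      simp [pow_succ, mul_assoc], h.pow_b, one_mul, inv_one, mul_one]
  have hz₃ : z₁ * z₂ ∈ S.z2 := mul_mem hz₁ hz₂
  have hbcomm : ∀ {g z z' : MulAut V}, b * z * b⁻¹ = z' →
      (Commute (b * g * b⁻¹) z' ↔ Commute g z) := by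
    rintro g z z' rfl
    exact (commute_map_iff (f := (MulAut.conj b).toMonoidHom) (MulAut.conj b).injective)
  have hmm : ∀ {g k z}, z ∈ S.z2 → g ∈ R → k ∈ R → ¬ Commute g z → ¬ Commute k z →
      Commute (g * k) z := by
    intro g k z hz hg hk h1 h2
    refine mul_inv_eq_iff_eq_mul.1 ?_
    rw [show g * k * z * (g * k)⁻¹ = g * (k * z * k⁻¹) * g⁻¹ by group, conj_move S hz hk h2,
      ← mul_assoc g ζ z, (S.cen.comm g hg).eq, mul_assoc ζ g z, mul_assoc,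
      conj_move S hz hg h1, ← mul_assoc, S.ζ_mul, one_mul]
  have hfix : ∀ {g k z : MulAut V}, Commute g z → ¬ Commute k z → ¬ Commute (g * k) z :=
    fun h1 h2 h3 => h2 (by
      have := h1.inv_left.mul_left h3
      rwa [inv_mul_cancel_left] at this)
  have hfix' : ∀ {g k z : MulAut V}, ¬ Commute g z → Commute k z → ¬ Commute (g * k) z :=
    fun h1 h2 h3 => h1 (by
      have := h3.mul_left h2.inv_left
      rwa [mul_inv_cancel_right] at this)
  have h3of : ∀ {g}, Commute g z₁ → ¬ Commute g z₂ → ¬ Commute g (z₁ * z₂) := fun h1 h2 h3 => h2 (by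
    have := h1.inv_right.mul_right h3
    rwa [inv_mul_cancel_left] at this)
  have h3of' : ∀ {g}, ¬ Commute g z₁ → Commute g z₂ → ¬ Commute g (z₁ * z₂) := fun h1 h2 h3 => h1 (by
    have := h3.mul_right h2.inv_right
    rwa [mul_inv_cancel_right] at this)
  have h3of'' : ∀ {g}, g ∈ R → ¬ Commute g z₁ → ¬ Commute g z₂ → Commute g (z₁ * z₂) := by
    intro g hg h1 h2
    refine mul_inv_eq_iff_eq_mul.1 ?_
    rw [← conj_mul, conj_move S hz₁ hg h1, conj_move S hz₂ hg h2, mul_assoc ζ z₁,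
      ← mul_assoc z₁ ζ, (S.cen.comm z₁ S.m₁).eq, mul_assoc ζ z₁, ← mul_assoc, S.ζ_mul, one_mul]
  -- an element moving `z₁` only
  obtain ⟨r, hr, hr1⟩ : ∃ r ∈ R, ¬ Commute r z₁ := by
    by_contra hcon
    push Not at hcon
    rcases center_eq S S.m₁ hcon with e | e
    exacts [h.ne e, S.ζ_not_mem (e ▸ Or.inr (Or.inl rfl))]
  obtain ⟨u, hu, hu1, hu2⟩ : ∃ u ∈ R, ¬ Commute u z₁ ∧ Commute u z₂ := by
    by_cases hr2 : Commute r z₂
    · exact ⟨r, hr, hr1, hr2⟩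
    have a1 : Commute (b * r * b⁻¹) z₁ := (hbcomm h.z₁_conj).2 (h3of'' hr hr1 hr2)
    have a2 : ¬ Commute (b * r * b⁻¹) z₂ := fun e => hr1 ((hbcomm h.conj₁).1 e)
    exact ⟨r * (b * r * b⁻¹), mul_mem hr (S.rd.inv r hr), hfix' hr1 a1,
      hmm hz₂ hr (S.rd.inv r hr) hr2 a2⟩
  set v := b * u * b⁻¹ with hv
  have hvR : v ∈ R := S.rd.inv u hu
  have hv1 : ¬ Commute v z₁ := fun e => h3of' hu1 hu2 ((hbcomm h.z₁_conj).1 e)
  have hv2 : ¬ Commute v z₂ := fun e => hu1 ((hbcomm h.conj₁).1 e)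
  set w := b * v * b⁻¹ with hw
  have hwR : w ∈ R := S.rd.inv v hvR
  have hw1 : Commute w z₁ := (hbcomm h.z₁_conj).2 (h3of'' hvR hv1 hv2)
  have hw2 : ¬ Commute w z₂ := fun e => hv1 ((hbcomm h.conj₁).1 e)
  have huv1 : Commute (u * v) z₁ := hmm hz₁ hu hvR hu1 hv1
  have huv2 : ¬ Commute (u * v) z₂ := hfix hu2 hv2
  -- the subgroup `M`
  set M := R ⊓ centralizer ({z₁, z₂} : Set (MulAut V)) with hMdef
  have memM : ∀ {g}, g ∈ M ↔ g ∈ R ∧ Commute g z₁ ∧ Commute g z₂ := by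
    intro g
    rw [hMdef, mem_inf, mem_centralizer_iff]
    constructor
    · rintro ⟨h0, hc⟩
      exact ⟨h0, (hc z₁ (Or.inl rfl)).symm, (hc z₂ (Or.inr rfl)).symm⟩
    · rintro ⟨h0, h1, h2⟩
      refine ⟨h0, ?_⟩
      rintro _ (rfl | rfl)
      exacts [h1.symm.eq, h2.symm.eq]
  have hMel : ∀ {g}, g ∈ M → g ∈ qSub h ∨ g * ζ ∈ qSub h := fun hg =>
    mem_of_commute S (memM.1 hg).1 (memM.1 hg).2.1 (memM.1 hg).2.2
  have hMsq : ∀ g ∈ M, g ^ 2 = 1 := fun g hg =>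
    sq_of_commute S (memM.1 hg).1 (memM.1 hg).2.1 (memM.1 hg).2.2
  have hMab : ∀ g ∈ M, ∀ k ∈ M, g * k = k * g := by
    intro g hg k hk
    have e1 : g⁻¹ = g := inv_eq_of_mul_eq_one_right (by rw [← pow_two, hMsq g hg])
    have e2 : k⁻¹ = k := inv_eq_of_mul_eq_one_right (by rw [← pow_two, hMsq k hk])
    have e3 : (g * k)⁻¹ = g * k := inv_eq_of_mul_eq_one_right
      (by rw [← pow_two, hMsq _ (mul_mem hg hk)])
    rw [mul_inv_rev, e1, e2] at e3
    exact e3.symm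
  have hqz : qSub h ≤ S.z2 := by
    rintro g (rfl | rfl | rfl | rfl)
    exacts [one_mem _, hz₁, hz₂, hz₃]
  have hζz : ζ ∈ S.z2 := ⟨S.cen.mem, fun s hs => by
    rw [(S.cen.comm s hs).eq.symm, mul_inv_cancel_right, mul_inv_cancel]; exact one_mem _⟩
  have hMz : M ≤ S.z2 := by
    intro g hg
    rcases hMel hg with e | e
    · exact hqz e
    · exact (mul_mem_cancel_right hζz).1 (hqz e)
  -- the four cosets of `M`
  have hcos : ∀ g ∈ R, ∃ m ∈ M, g = m ∨ g = m * u ∨ g = m * v ∨ g = m * (u * v) := by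
    intro g hg
    have hi : ∀ {k : MulAut V}, k ∈ R → ∀ {z}, ¬ Commute k z → ¬ Commute k⁻¹ z := fun _ _ hk e =>
      hk (Commute.inv_left_iff.1 e)
    have back : ∀ {k}, g * k⁻¹ ∈ M → ∃ m ∈ M, g = m * k := fun {k} hm =>
      ⟨_, hm, (inv_mul_cancel_right g k).symm⟩
    by_cases h1 : Commute g z₁ <;> by_cases h2 : Commute g z₂
    · exact ⟨g, memM.2 ⟨hg, h1, h2⟩, Or.inl rfl⟩
    · obtain ⟨m, hm, e⟩ := back (memM.2 ⟨mul_mem hg (inv_mem (mul_mem hu hvR)),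
        h1.mul_left huv1.inv_left, hmm hz₂ hg (inv_mem (mul_mem hu hvR)) h2 (hi (mul_mem hu hvR) huv2)⟩)
      exact ⟨m, hm, Or.inr (Or.inr (Or.inr e))⟩
    · obtain ⟨m, hm, e⟩ := back (memM.2 ⟨mul_mem hg (inv_mem hu),
        hmm hz₁ hg (inv_mem hu) h1 (hi hu hu1), h2.mul_left hu2.inv_left⟩)
      exact ⟨m, hm, Or.inr (Or.inl e)⟩
    · obtain ⟨m, hm, e⟩ := back (memM.2 ⟨mul_mem hg (inv_mem hvR),
        hmm hz₁ hg (inv_mem hvR) h1 (hi hvR hv1), hmm hz₂ hg (inv_mem hvR) h2 (hi hvR hv2)⟩)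
      exact ⟨m, hm, Or.inr (Or.inr (Or.inl e))⟩
  -- the commutator of `u` and `v`
  set m := u * v * u⁻¹ * v⁻¹ with hm
  have hmM : m ∈ M := memM.2 ⟨mul_mem (mul_mem (mul_mem hu hvR) (inv_mem hu)) (inv_mem hvR),
    comm_commute S hz₁ hu hvR, comm_commute S hz₂ hu hvR⟩
  obtain ⟨m', hm', hwm⟩ : ∃ m' ∈ M, w = m' * (u * v) := by
    refine ⟨w * (u * v)⁻¹, memM.2 ⟨mul_mem hwR (inv_mem (mul_mem hu hvR)),
      hw1.mul_left huv1.inv_left, hmm hz₂ hwR (inv_mem (mul_mem hu hvR)) hw2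
        fun e => huv2 (Commute.inv_left_iff.1 e)⟩, by group⟩
  obtain ⟨e, he, hbm⟩ : ∃ e ∈ zpowers ζ, b * m * b⁻¹ = e * m := by
    have hvm : v * m' * v⁻¹ * m'⁻¹ ∈ zpowers ζ := by
      have h1 := inv_mem ((hMz hm').2 v hvR)
      rwa [show (m' * v * m'⁻¹ * v⁻¹)⁻¹ = v * m' * v⁻¹ * m'⁻¹ by group] at h1
    refine ⟨_, hvm, ?_⟩
    have hminv : m⁻¹ = m := inv_eq_of_mul_eq_one_right (by rw [← pow_two, hMsq m hmM])
    calc b * m * b⁻¹ = v * w * v⁻¹ * w⁻¹ := by rw [hm, hw, hv]; group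
      _ = v * m' * v⁻¹ * m'⁻¹ * (m' * m⁻¹ * m'⁻¹) := by rw [hwm, hm]; group
      _ = v * m' * v⁻¹ * m'⁻¹ * m := by rw [hminv, hMab m' hm' m hmM, mul_inv_cancel_right]
  have hmb : Commute b m := by
    rcases S.mem_zp.1 he with e' | e' <;> rw [e'] at hbm
    · exact mul_inv_eq_iff_eq_mul.1 (by rw [hbm, one_mul])
    · exfalso
      have h3 := hb3 m
      have hstep : ∀ g, b * (ζ * g) * b⁻¹ = ζ * (b * g * b⁻¹) := fun g => by
        rw [← conj_mul, S.b_ζ]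
      rw [hbm, hstep, hbm, ← mul_assoc ζ ζ, S.ζ_mul, one_mul, hbm, mul_eq_right] at h3
      exact S.cen.ne h3
  have hmz : m ∈ zpowers ζ := S.mem_zp.2 (centralizer_b S (memM.1 hmM).1 hmb)
  -- `R` is its own second centre
  have huz : u ∈ S.z2 := by
    refine ⟨hu, fun s hs => ?_⟩
    obtain ⟨k, hk, hcase⟩ := hcos s hs
    have hk0 : u * k * u⁻¹ * k⁻¹ ∈ zpowers ζ := by
      have h1 := inv_mem ((hMz hk).2 u hu)
      rwa [show (k * u * k⁻¹ * u⁻¹)⁻¹ = u * k * u⁻¹ * k⁻¹ by group] at h1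
    rcases hcase with rfl | rfl | rfl | rfl
    · exact hk0
    · rwa [show u * (k * u) * u⁻¹ * (k * u)⁻¹ = u * k * u⁻¹ * k⁻¹ by group]
    · rw [show u * (k * v) * u⁻¹ * (k * v)⁻¹ = u * k * u⁻¹ * k⁻¹ * (k * m * k⁻¹) by rw [hm]; group,
        (S.zp_comm hmz (memM.1 hk).1).eq, mul_inv_cancel_right]
      exact mul_mem hk0 hmz
    · rw [show u * (k * (u * v)) * u⁻¹ * (k * (u * v))⁻¹ =
          u * k * u⁻¹ * k⁻¹ * (k * (u * m * u⁻¹) * k⁻¹) by rw [hm]; group,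
        (S.zp_comm hmz hu).eq, mul_inv_cancel_right, (S.zp_comm hmz (memM.1 hk).1).eq,
        mul_inv_cancel_right]
      exact mul_mem hk0 hmz
  have hvz : v ∈ S.z2 := S.z2_b huz
  have hall : ∀ g ∈ R, g ∈ S.z2 := by
    intro g hg
    obtain ⟨k, hk, hcase⟩ := hcos g hg
    rcases hcase with rfl | rfl | rfl | rfl
    exacts [hMz hk, mul_mem (hMz hk) huz, mul_mem (hMz hk) hvz, mul_mem (hMz hk) (mul_mem huz hvz)]
  -- `|M| = 8`
  have hMcard : Nat.card M = 8 := by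
    have hq4 : Nat.card (qSub h) = 4 := by
      rcases (shape_four (R := qSub h) h rfl).iso with hh | hh
      · exact hh.2
      · have := card_qSub_le h
        omega
    have hz2 : Nat.card (zpowers ζ) = 2 := by
      haveI := Fact.mk Nat.prime_two
      rw [Nat.card_zpowers, orderOf_eq_prime S.cen.sq S.cen.ne]
    rw [show 8 = Nat.card (qSub h × zpowers ζ) by rw [Nat.card_prod, hq4, hz2]]
    refine (Nat.card_congr (Equiv.ofBijective (fun p : qSub h × zpowers ζ => (⟨p.1 * p.2, ?_⟩ : M))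
      ⟨?_, ?_⟩)).symm
    · have hqM : ∀ g ∈ qSub h, g ∈ M := by
        rintro g (rfl | rfl | rfl | rfl)
        · exact one_mem _
        · exact memM.2 ⟨S.m₁, Commute.refl _, h.comm⟩
        · exact memM.2 ⟨S.m₂, h.comm.symm, Commute.refl _⟩
        · exact memM.2 ⟨mul_mem S.m₁ S.m₂, (Commute.refl z₁).mul_left h.comm.symm,
            h.comm.mul_left (Commute.refl z₂)⟩
      refine mul_mem (hqM _ p.1.2) ?_
      rcases S.mem_zp.1 p.2.2 with e | e <;> rw [e]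
      exacts [one_mem _, memM.2 ⟨S.cen.mem, (S.cen.comm z₁ S.m₁).symm, (S.cen.comm z₂ S.m₂).symm⟩]
    · rintro p p' hpp
      have hd : qSub h ⊓ zpowers ζ = ⊥ := by
        rw [eq_bot_iff_forall]
        rintro g ⟨hg1, hg2⟩
        exact (S.mem_zp.1 hg2).resolve_right fun e => S.ζ_not_mem (e ▸ hg1)
      exact Subgroup.mul_injective_of_disjoint (disjoint_iff.2 hd) (congrArg Subtype.val hpp)
    · rintro ⟨g, hg⟩
      rcases hMel hg with e | e
      · exact ⟨(⟨g, e⟩, 1), Subtype.ext (mul_one g)⟩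
      · refine ⟨(⟨g * ζ, e⟩, ⟨ζ, mem_zpowers ζ⟩), Subtype.ext ?_⟩
        show g * ζ * ζ = g
        rw [mul_assoc, S.ζ_mul, mul_one]
  -- `|R| = 32`
  have hcard : Nat.card R = 32 := by
    let rep : Fin 4 → MulAut V := ![1, u, v, u * v]
    have hrep : ∀ i, rep i ∈ R := by
      intro i
      fin_cases i <;> simp [rep, hu, hvR, mul_mem hu hvR, one_mem]
    rw [show 32 = Nat.card (M × Fin 4) by rw [Nat.card_prod, hMcard, Nat.card_fin]]
    refine (Nat.card_congr (Equiv.ofBijective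
      (fun p : M × Fin 4 => (⟨p.1 * rep p.2, mul_mem (memM.1 p.1.2).1 (hrep p.2)⟩ : R)) ⟨?_, ?_⟩)).symm
    · rintro ⟨k, i⟩ ⟨k', j⟩ hij
      have hij' : (k : MulAut V) * rep i = k' * rep j := congrArg Subtype.val hij
      have hkk := memM.1 ((k'⁻¹ * k : M)).2
      have hrel : rep j = ((k'⁻¹ * k : M) : MulAut V) * rep i := by
        rw [Subgroup.coe_mul, Subgroup.coe_inv, mul_assoc, hij', inv_mul_cancel_left]
      have sigs : ∀ z, Commute ((k'⁻¹ * k : M) : MulAut V) z →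
          (Commute (rep j) z ↔ Commute (rep i) z) := by
        intro z hz
        rw [hrel]
        exact ⟨fun e => by
          have := hz.inv_left.mul_left e
          rwa [inv_mul_cancel_left] at this, fun e => hz.mul_left e⟩
      have h1 := sigs z₁ hkk.2.1
      have h2 := sigs z₂ hkk.2.2
      have hij2 : i = j := by
        fin_cases i <;> fin_cases j <;>
          simp [rep, hu1, hu2, hv1, hv2, huv1, huv2, Commute.one_left] at h1 h2 ⊢
      subst hij2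
      exact Prod.ext (Subtype.ext (mul_right_cancel hij')) rfl
    · rintro ⟨g, hg⟩
      obtain ⟨k, hk, hcase⟩ := hcos g hg
      rcases hcase with e | e | e | e
      · exact ⟨(⟨k, hk⟩, 0), Subtype.ext (by simp [rep, e])⟩
      · exact ⟨(⟨k, hk⟩, 1), Subtype.ext (by simp [rep, e])⟩
      · exact ⟨(⟨k, hk⟩, 2), Subtype.ext (by simp [rep, e])⟩
      · exact ⟨(⟨k, hk⟩, 3), Subtype.ext (by simp [rep, e])⟩
  -- extraspecial
  haveI := Fact.mk Nat.prime_two
  have hcenter : center R = zpowers (⟨ζ, S.cen.mem⟩ : R) := by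
    refine le_antisymm (fun g hg => ?_) (zpowers_le.2 (mem_center_iff.2 fun s =>
      Subtype.ext (S.cen.comm s s.2).eq))
    rcases center_eq S g.2 (fun s hs => congrArg Subtype.val (mem_center_iff.1 hg ⟨s, hs⟩)) with e | e
    · rw [show g = 1 from Subtype.ext e]
      exact one_mem _
    · rw [show g = ⟨ζ, S.cen.mem⟩ from Subtype.ext e]
      exact mem_zpowers _
  have hcc : Nat.card (center R) = 2 := by
    rw [hcenter, Nat.card_zpowers, orderOf_eq_prime (p := 2) (Subtype.ext (by simpa using S.cen.sq))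
      fun e => S.cen.ne (congrArg Subtype.val e)]
  have hcentral : ∀ {g : R}, (g : MulAut V) ∈ zpowers ζ → g ∈ center R := fun {g} hg =>
    mem_center_iff.2 fun s => Subtype.ext (S.zp_comm hg s.2).eq
  have hder : commutator R ≤ center R := by
    rw [_root_.commutator_def, commutator_le]
    intro g _ k _
    exact hcentral ((hall g g.2).2 k k.2)
  have hder' : commutator R = center R := by
    refine eq_of_le_of_card_ge hder ?_
    rcases PGroupsBasic.le_or_inf_eq_bot (p := 2) hcc (commutator R) with e | e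
    · exact card_le_of_le e
    · exfalso
      rw [inf_eq_right.2 hder] at e
      apply hr1
      have hmem : ⁅(⟨r, hr⟩ : R), (⟨z₁, S.m₁⟩ : R)⁆ ∈ commutator R := by
        rw [_root_.commutator_def]
        exact commutator_mem_commutator (mem_top _) (mem_top _)
      rw [e, mem_bot, commutatorElement_eq_one_iff_mul_comm] at hmem
      exact congrArg Subtype.val hmem
  have hsqc : ∀ g : R, g ^ 2 ∈ center R := by
    intro g
    refine mem_center_iff.2 fun s => Subtype.ext (?_ : (s : MulAut V) * (g : MulAut V) ^ 2 = _)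
    refine mul_inv_eq_iff_eq_mul.1 ?_
    rw [← conj_pow]
    rcases S.conj_cases (hall g g.2) s.2 with e | e <;> rw [e]
    · rfl
    · rw [(S.cen.comm g g.2).symm.mul_pow, S.cen.sq, one_mul]
      rfl
  have hspecial : Cfsg.IsExtraspecial 2 R := by
    refine ⟨⟨S.rd.two, le_antisymm (PGroupsBasic.frattini_le_of_elementary_quotient hder hsqc) ?_,
      hder'⟩, hcc⟩
    rw [← hder']
    exact PGroupsBasic.commutator_le_frattini S.rd.two
  -- the eigenspaces of `ζ`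
  refine ⟨Or.inr ⟨hspecial, hcard, M, inf_le_left, ⟨PGroupsBasic.isMulCommutative_of_forall hMab,
    hMsq⟩, hMcard⟩, invS ζ, fixS ζ, by rw [inf_comm]; exact fixS_inf_invS h.exp ζ, ?_,
    fun g hg x hx => S.cen.triv g hg x hx,
    fun g hg x hx => apply_mem_invS (S.cen.comm g hg).symm hx,
    fun x hx => apply_mem_invS S.cen.comm_b.symm hx, ?_, ?_⟩
  · rw [eq_top_iff]
    intro x _
    obtain ⟨p, hp, q, hq, rfl⟩ := exists_decomp h.exp S.cen.sq x
    exact mul_mem_sup hp hq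
  · obtain ⟨a, ha, ha1⟩ := ((axis₁ z₁ z₂).bot_or_exists_ne_one).resolve_left fun e' => by
      have := h.card_axis₁
      rw [e', card_bot] at this
      omega
    refine ⟨a, S.uSub_le (Axes.le₁ h ha), fun e' => ha1 ?_⟩
    have h2 := Axes.b_axis₁ h ha
    rw [e'] at h2
    exact mem_bot.1 (h.axis_inf ▸ mem_inf.2 ⟨ha, h2⟩)
  · intro N hN hinv hb
    by_cases hN1 : N = ⊥
    · exact Or.inl hN1
    right
    obtain ⟨x, hx, hx1⟩ := (N.bot_or_exists_ne_one).resolve_left hN1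
    have hum := conj_move S hz₁ hu hu1
    -- a vector outside the fixed space
    obtain ⟨y, hy, hyC⟩ : ∃ y ∈ N, y ∉ cSub z₁ z₂ := by
      by_cases hxC : x ∈ cSub z₁ z₂
      swap
      · exact ⟨x, hx, hxC⟩
      refine ⟨u x, hinv u hu x hx, fun hC => hx1 ?_⟩
      have e1 : z₁ (u x) = u x := hC.1
      have e2 : z₁ * u = ζ * (u * z₁) := by
        have h0 : u * z₁ = ζ * z₁ * u := mul_inv_eq_iff_eq_mul.1 hum
        rw [h0, ← mul_assoc, ← mul_assoc, S.ζ_mul, one_mul]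
      rw [← MulAut.mul_apply, e2, MulAut.mul_apply, MulAut.mul_apply, mem_fixS.1 hxC.1,
        mem_invS.1 (apply_mem_invS (S.cen.comm u hu).symm (hN hx))] at e1
      exact u.injective ((eq_one_of_inv_eq h.exp e1).trans (map_one u).symm)
    have hU : uSub z₁ z₂ ≤ N :=
      Axes.uSub_le_of_mem h (hinv z₁ S.m₁) (hinv z₂ S.m₂) hb hy hyC
    refine le_antisymm hN fun x' hx' => ?_
    obtain ⟨p, hp, c, hc, rfl⟩ :=
      mem_sup.1 (h.uSub_sup_cSub ▸ mem_top x' : x' ∈ uSub z₁ z₂ ⊔ cSub z₁ z₂)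
    refine mul_mem (hU hp) ?_
    have hc1 : c ∈ invS ζ := by
      rw [show c = p⁻¹ * (p * c) by group]
      exact mul_mem (inv_mem (S.uSub_le hp)) hx'
    have hmem : u⁻¹ c ∈ invS z₁ := by
      have e2 : z₁ * u⁻¹ = u⁻¹ * (ζ * z₁) := by rw [← hum]; group
      rw [mem_invS, ← MulAut.mul_apply, e2, MulAut.mul_apply, MulAut.mul_apply, mem_fixS.1 hc.1,
        mem_invS.1 hc1, map_inv]
    have := hinv u hu _ (hU (mem_sup_left hmem : u⁻¹ c ∈ uSub z₁ z₂))
    rwa [MulAut.apply_inv_self] at this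

/-- The shape of `R`. -/
theorem shape (h : Data b z₁ z₂) (hR : RData b R) (h₁ : z₁ ∈ R) (h₂ : z₂ ∈ R) : Shape b R := by
  by_cases hne : R = qSub h
  · exact shape_four h hne
  obtain ⟨ζ, hζ⟩ := exists_central h hR h₁ h₂ hne
  have S : Setting b z₁ z₂ R ζ := ⟨h, hR, h₁, h₂, hne, hζ⟩
  obtain ⟨t, t', S', ht, ht'⟩ := exists_second S
  exact shape_of_mem S' ht ht'

end Cfsg.Agent.FourActionTernaryF27
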