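import Mathlib
import Cfsg.Prelude.Def_Solvable
import Cfsg.Agent.Lib.FourActionTernaryF27
import Cfsg.Agent.Lib.ZassenhausEven
import Cfsg.Agent.Lib.HallCore
import Cfsg.Agent.Lib.ComponentsP
import Cfsg.Agent.Lib.ComponentsFitting
import Cfsg.Agent.Lib.GenExtraspecialSplit

/-!
From a solvable group on a ternary module to the shape of `[O_{3'}(S), B]`.
-/

set_option autoImplicit false

namespace Cfsg.Agent.FourActionTernaryG27

open Subgroup
open scoped commutatorElement
open Cfsg.Agent.FourCommutatorAction27 (del dSub del_mem)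
open Cfsg.Agent.FourActionTernaryA27
open Cfsg.Agent.FourActionTernaryB27

variable {S : Type*} [Group S] {E : Type*} [AddCommGroup E] [Module (ZMod 3) E]

/-- The action as automorphisms of `Multiplicative E`. -/
def actHom (ρ : Representation (ZMod 3) S E) : S →* MulAut (Multiplicative E) where
  toFun s :=
    { toFun := fun v => Multiplicative.ofAdd (ρ s v.toAdd)
      invFun := fun v => Multiplicative.ofAdd (ρ s⁻¹ v.toAdd)
      left_inv := fun v => by simp [← Module.End.mul_apply, ← map_mul]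
      right_inv := fun v => by simp [← Module.End.mul_apply, ← map_mul]
      map_mul' := fun v w => by simp }
  map_one' := MulEquiv.ext fun v => by simp
  map_mul' s t := MulEquiv.ext fun v => by simp [Module.End.mul_apply]

theorem actHom_apply (ρ : Representation (ZMod 3) S E) (s : S) (v : Multiplicative E) :
    actHom ρ s v = Multiplicative.ofAdd (ρ s v.toAdd) := rfl

theorem actHom_injective {ρ : Representation (ZMod 3) S E} (h : Function.Injective ρ) :
    Function.Injective (actHom ρ) := fun s t e => h (LinearMap.ext fun v => by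
  have := congrArg (fun f : MulAut (Multiplicative E) => (f (Multiplicative.ofAdd v)).toAdd) e
  simpa [actHom_apply] using this)

theorem exp_three (v : Multiplicative E) : v ^ 3 = 1 := by
  apply Multiplicative.toAdd.injective
  rw [toAdd_pow, toAdd_one, ← Nat.cast_smul_eq_nsmul (ZMod 3), show ((3 : ℕ) : ZMod 3) = 0 from
    ZMod.natCast_self 3, zero_smul]

variable {V : Type*} [CommGroup V] [Finite V]

/-- The sign of an automorphism as a permutation. -/
noncomputable def signHom : MulAut V →* ℤˣ := by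
  classical
  exact letI := Fintype.ofFinite V
    Equiv.Perm.sign.comp
      { toFun := fun g => g.toEquiv
        map_one' := rfl
        map_mul' := fun _ _ => rfl }

/-- Reflections are odd. -/
theorem no_refl (hV : ∀ v : V, v ^ 3 = 1) {c : MulAut V} (hc : c ^ 2 = 1) (hs : signHom c = 1) :
    Nat.card (dSub c) ≠ 3 := by
  classical
  letI := Fintype.ofFinite V
  intro h3
  rw [dSub_eq_invS hV hc] at h3
  have htop : invS c ⊔ fixS c = ⊤ := eq_top_iff.2 fun v _ => by
    obtain ⟨p, hp, q, hq, rfl⟩ := exists_decomp hV hc v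
    exact mul_mem_sup hp hq
  have hcard := PGroupsBasic.card_sup_of_normal
    (show invS c ⊓ fixS c = ⊥ by rw [inf_comm]; exact fixS_inf_invS hV c)
  rw [htop, card_top, h3] at hcard
  obtain ⟨j, hj⟩ := exists_card_pow hV (fixS c)
  have hn : {x : V | (c.toEquiv : Equiv.Perm V) x = x}.ncard = 3 ^ j := by
    rw [← hj, ← Nat.card_coe_set_eq]
    rfl
  have hsign := Zassenhaus.sign_involution (σ := (c.toEquiv : Equiv.Perm V)) (m := 3 ^ j)
    (Equiv.ext fun x => by
      have := DFunLike.congr_fun hc x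
      simpa [pow_two, MulAut.mul_apply] using this)
    (by rw [hn, ← Nat.card_eq_fintype_card, hcard, hj]; ring)
  have hs' : Equiv.Perm.sign (c.toEquiv : Equiv.Perm V) = 1 := by
    unfold signHom at hs
    rw [MonoidHom.comp_apply] at hs
    exact hs
  rw [hs', (Odd.pow (by decide : Odd 3)).neg_one_pow] at hsign
  exact absurd hsign (by decide)

variable [Finite S]

/-- An element of order three of a solvable group centralising a Sylow `3`-subgroup sends the
four-groups it normalises into the `3'`-core. -/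
theorem commutator_mem_core [Group.IsSolvable S] {b z : S} (P : Sylow 3 S)
    (hbP : ∀ x ∈ (P : Subgroup S), x * b = b * x) (hb : b ^ 3 = 1)
    (hz : (b * z * b⁻¹ * z⁻¹) ^ 2 = 1) : b * z * b⁻¹ * z⁻¹ ∈ Cfsg.pPrimeCore 3 S := by
  haveI := Fact.mk Nat.prime_three
  set O := Cfsg.pPrimeCore 3 S
  haveI : O.Normal := HallCore.pPrimeCore_normal 3 S
  set π := QuotientGroup.mk' O
  haveI : Group.IsSolvable (S ⧸ O) := Group.isSolvable_of_surjective (QuotientGroup.mk'_surjective O)
  have hF : centralizer (Cfsg.pCore 3 (S ⧸ O) : Set (S ⧸ O)) ≤ Cfsg.pCore 3 (S ⧸ O) := by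
    rw [← ComponentsP.fitting_eq_pCore_of_bot (HallCore.pPrimeCore_quotient_self 3 S)]
    exact ComponentsFitting.centralizer_fitting_le_of_solvable
  haveI : (Cfsg.pCore 3 (S ⧸ O)).Normal := HallCore.pCore_normal 3 _
  have hPl : Cfsg.pCore 3 (S ⧸ O) ≤ ((P.mapSurjective (QuotientGroup.mk'_surjective O) :
      Sylow 3 (S ⧸ O)) : Subgroup (S ⧸ O)) :=
    (HallCore.isPGroup_pCore 3 _).le_sylow_of_normal _
  have hbF : π b ∈ Cfsg.pCore 3 (S ⧸ O) := by
    refine hF (mem_centralizer_iff.2 fun y hy => ?_)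
    obtain ⟨x, hx, rfl⟩ := hPl hy
    exact ((map_mul π x b).symm.trans (congrArg π (hbP x hx))).trans (map_mul π b x)
  have hmem : π (b * z * b⁻¹ * z⁻¹) ∈ Cfsg.pCore 3 (S ⧸ O) := by
    rw [show b * z * b⁻¹ * z⁻¹ = b * (z * b⁻¹ * z⁻¹) by group, map_mul, map_mul, map_mul, map_inv,
      map_inv]
    exact mul_mem hbF ((HallCore.pCore_normal 3 _).conj_mem _ (inv_mem hbF) _)
  obtain ⟨k, hk⟩ := (HallCore.isPGroup_pCore 3 (S ⧸ O)) ⟨_, hmem⟩
  have h1 : orderOf (π (b * z * b⁻¹ * z⁻¹)) ∣ 3 ^ k :=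
    orderOf_dvd_of_pow_eq_one (congrArg Subtype.val hk)
  have h2 : orderOf (π (b * z * b⁻¹ * z⁻¹)) ∣ 2 :=
    orderOf_dvd_of_pow_eq_one (by rw [← map_pow, hz, map_one])
  exact (QuotientGroup.eq_one_iff _).1
    (orderOf_eq_one_iff.1 (Nat.eq_one_of_dvd_coprimes (Nat.Coprime.pow_left k (by norm_num)) h1 h2))

/-- `[K, B]` is a `2`-group if `B` centralises invariant Sylow subgroups for the other primes. -/
theorem isPGroup_commutator {b : S} {K : Subgroup S} (hb : orderOf b = 3)
    (hK : zpowers b ≤ normalizer (K : Set S)) (h3 : ¬ 3 ∣ Nat.card K)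
    (hcen : ∀ q : ℕ, q.Prime → 5 ≤ q → ∀ X : Subgroup S, X ≤ K → IsPGroup q X →
      (∀ x ∈ X, b * x * b⁻¹ ∈ X) → ∀ x ∈ X, Commute x b) :
    IsPGroup 2 (⁅K, zpowers b⁆ : Subgroup S) := by
  haveI := Fact.mk Nat.prime_two
  set A := zpowers b
  set C := K ⊓ centralizer (A : Set S) with hC
  have hcop : (Nat.card A).Coprime (Nat.card K) := by
    rw [Nat.card_zpowers, hb]
    exact (Nat.Prime.coprime_iff_not_dvd Nat.prime_three).2 h3
  have hsolv : Group.IsSolvable A ∨ Group.IsSolvable K :=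
    Or.inl (CoprimeAction.isSolvable_zpowers b)
  obtain ⟨T₀, hT₀⟩ := CoprimeAction.exists_invariant_sylow hK hcop hsolv 2
  set T := (T₀ : Subgroup K).map K.subtype with hT
  have hTK : T ≤ K := Subgroup.map_subtype_le _
  have hT2 : IsPGroup 2 T := T₀.2.map _
  obtain ⟨j, hj⟩ := IsPGroup.iff_card.1 (hT2.to_le (inf_le_left : T ⊓ C ≤ T))
  -- counting
  have hdvd : Nat.card K * Nat.card (T ⊓ C : Subgroup S) ∣ Nat.card T * Nat.card C := by
    have hTC : Nat.card (T ⊓ C : Subgroup S) ∣ Nat.card C := card_dvd_of_le inf_le_right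
    refine (Nat.dvd_iff_prime_pow_dvd_dvd _ _).2 fun p k hp hd => ?_
    by_cases hp2 : p = 2
    · subst hp2
      have hd' : 2 ^ k ∣ 2 ^ (Nat.card K).factorization 2 * 2 ^ j := by
        rw [← pow_add]
        refine Nat.pow_dvd_pow 2 ?_
        have h := (Nat.Prime.pow_dvd_iff_le_factorization hp
          (Nat.mul_ne_zero Nat.card_pos.ne' Nat.card_pos.ne')).1 hd
        rwa [Nat.factorization_mul Nat.card_pos.ne' Nat.card_pos.ne', Finsupp.add_apply, hj,
          hp.factorization_pow, Finsupp.single_eq_same] at h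
      rw [← hj, ← CoprimeAction.card_map_sylow T₀] at hd'
      exact hd'.trans (Nat.mul_dvd_mul_left _ hTC)
    · have hcp : (p ^ k).Coprime (Nat.card (T ⊓ C : Subgroup S)) := by
        rw [hj]
        exact ((Nat.coprime_primes hp Nat.prime_two).2 hp2).pow _ _
      have hdK : p ^ k ∣ Nat.card K := hcp.dvd_of_dvd_mul_right hd
      rcases Nat.eq_zero_or_pos k with rfl | hk
      · simp
      by_cases hp3 : p = 3
      · subst hp3
        exact absurd ((dvd_pow_self 3 hk.ne').trans hdK) h3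
      haveI := Fact.mk hp
      have hp5 : 5 ≤ p := by
        have := hp.two_le
        by_contra hlt
        interval_cases p <;> simp_all (config := { decide := true })
      obtain ⟨X₀, hX₀⟩ := CoprimeAction.exists_invariant_sylow hK hcop hsolv p
      set X := (X₀ : Subgroup K).map K.subtype with hX
      have hXC : X ≤ C := by
        intro x hx
        refine mem_inf.2 ⟨Subgroup.map_subtype_le _ hx, mem_centralizer_iff.2 ?_⟩
        rintro _ ⟨i, rfl⟩
        have hc := hcen p hp hp5 X (Subgroup.map_subtype_le _) (X₀.2.map _)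
          (fun y hy => CoprimeAction.conj_mem (hX₀ (mem_zpowers b)) hy) x hx
        exact (hc.zpow_right i).symm.eq
      refine (((Nat.Prime.pow_dvd_iff_le_factorization hp Nat.card_pos.ne').1 hdK |>
        Nat.pow_dvd_pow p).trans ?_).trans (Dvd.dvd.mul_left (card_dvd_of_le hXC) _)
      rw [hX, CoprimeAction.card_map_sylow X₀]
  -- `K = T C`
  let f : T × C → S := fun x => x.1 * x.2
  have hrange : Set.range f ⊆ K := by
    rintro _ ⟨x, rfl⟩
    exact mul_mem (hTK x.1.2) (mem_inf.1 x.2.2).1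
  have hfull : Set.range f = K := by
    refine Set.eq_of_subset_of_ncard_le hrange ?_
    have hinj : Nat.card (T × C) ≤ Nat.card (Set.range f × (T ⊓ C : Subgroup S)) := by
      classical
      let g : T × C → Set.range f × (T ⊓ C : Subgroup S) := fun x =>
        (⟨f x, Set.mem_range_self x⟩,
          ⟨((Set.rangeSplitting f ⟨f x, Set.mem_range_self x⟩).1 : S)⁻¹ * x.1, by
            set y := Set.rangeSplitting f ⟨f x, Set.mem_range_self x⟩ with hy
            have e : (y.1 : S) * y.2 = x.1 * x.2 :=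
              Set.apply_rangeSplitting f ⟨f x, Set.mem_range_self x⟩
            refine mem_inf.2 ⟨mul_mem (inv_mem y.1.2) x.1.2, ?_⟩
            rw [show (y.1 : S)⁻¹ * x.1 = y.2 * (x.2 : S)⁻¹ by
              rw [eq_mul_inv_iff_mul_eq, mul_assoc, ← e, inv_mul_cancel_left]]
            exact mul_mem y.2.2 (inv_mem x.2.2)⟩)
      refine Nat.card_le_card_of_injective g fun x y hxy => ?_
      simp only [g, Prod.mk.injEq, Subtype.mk.injEq] at hxy
      obtain ⟨h1, h2⟩ := hxy
      rw [show (⟨f x, Set.mem_range_self x⟩ : Set.range f) = ⟨f y, Set.mem_range_self y⟩ from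
        Subtype.ext h1] at h2
      have h3 : x.1 = y.1 := Subtype.ext (mul_left_cancel h2)
      refine Prod.ext h3 (Subtype.ext (mul_left_cancel (a := (x.1 : S)) ?_))
      have h1' : (x.1 : S) * x.2 = y.1 * y.2 := h1
      rw [h1', h3]
    rw [Nat.card_prod, Nat.card_prod, Nat.card_coe_set_eq] at hinj
    rw [← Nat.card_coe_set_eq]
    exact Nat.le_of_mul_le_mul_right
      ((Nat.le_of_dvd (Nat.mul_pos Nat.card_pos Nat.card_pos) hdvd).trans hinj) Nat.card_pos
  refine hT2.to_le ?_
  rw [commutator_le]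
  intro o ho a ha
  obtain ⟨⟨x, c⟩, rfl⟩ : o ∈ Set.range f := hfull.symm ▸ ho
  have e : ⁅(x : S) * c, a⁆ = x * (a * (x : S)⁻¹ * a⁻¹) := by
    have hca : (c : S) * a * (c : S)⁻¹ = a := by
      rw [← mem_centralizer_iff.1 (mem_inf.1 c.2).2 a ha, mul_inv_cancel_right]
    calc ⁅(x : S) * c, a⁆ = x * (c * a * (c : S)⁻¹) * (x : S)⁻¹ * a⁻¹ := by
          simp [commutatorElement_def, mul_assoc]
      _ = _ := by rw [hca]; group
  show ⁅(x : S) * c, a⁆ ∈ T
  rw [e]
  exact mul_mem x.2 (CoprimeAction.conj_mem (hT₀ ha) (inv_mem x.2))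

/-- Generators of a coprime commutator. -/
theorem le_closure_commutators {b : S} {R : Subgroup S} (hR : ⁅R, zpowers b⁆ = R)
    (hb : ∀ r ∈ R, b * r * b⁻¹ ∈ R) :
    R ≤ closure {t | ∃ r ∈ R, t = b * r * b⁻¹ * r⁻¹} := by
  set T := closure {t | ∃ r ∈ R, t = b * r * b⁻¹ * r⁻¹}
  have key : ∀ (n : ℕ), ∀ r ∈ R, b ^ n * r * (b ^ n)⁻¹ ∈ R ∧ b ^ n * r * (b ^ n)⁻¹ * r⁻¹ ∈ T := by
    intro n r hr
    induction n with
    | zero => simp [hr]
    | succ n ih =>
      refine ⟨?_, ?_⟩
      · rw [show b ^ (n + 1) * r * (b ^ (n + 1))⁻¹ = b * (b ^ n * r * (b ^ n)⁻¹) * b⁻¹ by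
          rw [pow_succ']; group]
        exact hb _ ih.1
      · rw [show b ^ (n + 1) * r * (b ^ (n + 1))⁻¹ * r⁻¹ =
          (b * (b ^ n * r * (b ^ n)⁻¹) * b⁻¹ * (b ^ n * r * (b ^ n)⁻¹)⁻¹) *
            (b ^ n * r * (b ^ n)⁻¹ * r⁻¹) by rw [pow_succ']; group]
        exact mul_mem (subset_closure ⟨_, ih.1, rfl⟩) ih.2
  conv_lhs => rw [← hR]
  rw [commutator_le]
  intro r hr a ha
  obtain ⟨n, rfl⟩ := mem_powers_iff_mem_zpowers.2 ha
  show ⁅r, b ^ n⁆ ∈ T
  rw [← commutatorElement_inv, commutatorElement_def]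
  exact inv_mem (key n r hr).2

/-- `[V, b]` is small when `b` has one Jordan block of size three. -/
theorem small_dSub {b : MulAut V} (hV : ∀ v : V, v ^ 3 = 1) (hb : b ^ 3 = 1) {U W : Subgroup V}
    (hUW : U ⊔ W = ⊤) (hW : ∀ w ∈ W, b w = w) (hU : ∀ u ∈ U, b u ∈ U) (hcard : Nat.card U = 27) :
    Nat.card (dSub b) ≤ 9 := by
  set f := (del b).comp U.subtype
  have hr : dSub b = f.range := by
    refine le_antisymm ?_ ?_
    · rintro _ ⟨v, rfl⟩
      obtain ⟨u, hu, w, hw, rfl⟩ := mem_sup.1 (hUW ▸ mem_top v : v ∈ U ⊔ W)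
      refine ⟨⟨u, hu⟩, ?_⟩
      show del b u = del b (u * w)
      rw [map_mul, FourCommutatorAction27.del_apply b w, hW w hw, div_self', mul_one]
    · rintro _ ⟨u, rfl⟩
      exact ⟨u, rfl⟩
  have hker : f.ker ≠ ⊥ := by
    intro e
    have hinj : ∀ u ∈ U, del b u = 1 → u = 1 := fun u hu h0 =>
      (by
        have h1 : (⟨u, hu⟩ : U) ∈ f.ker := h0
        rw [e, mem_bot] at h1
        exact congrArg Subtype.val h1)
    have hmem : ∀ u ∈ U, del b u ∈ U := fun u hu => Subgroup.div_mem _ (hU u hu) hu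
    have hb3 : ∀ v, b (b (b v)) = v := fun v => by
      have := DFunLike.congr_fun hb v
      simpa [pow_succ, MulAut.mul_apply] using this
    have hbot : U = ⊥ := by
      rw [eq_bot_iff_forall]
      intro u hu
      refine hinj u hu (hinj _ (hmem u hu) (hinj _ (hmem _ (hmem u hu)) ?_))
      rw [FourActionTernaryC27.del_del hV, FourCommutatorAction27.del_apply]
      simp only [map_div, hb3]
      simp [div_eq_mul_inv, mul_comm, mul_left_comm]
    rw [hbot, card_bot] at hcard
    omega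
  have h2 : 2 ≤ Nat.card f.ker := by
    have h0 : Nat.card f.ker ≠ 1 := fun e => hker (card_eq_one.1 e)
    have := Nat.card_pos (α := f.ker)
    omega
  have hmul : Nat.card f.ker * Nat.card f.range = 27 := by
    rw [← index_ker f, card_mul_index, hcard]
  obtain ⟨j, hj⟩ := exists_card_pow hV (dSub b)
  rw [← hr, hj] at hmul
  rw [hj]
  have hj2 : j ≤ 2 := by
    by_contra hj3
    have := Nat.pow_le_pow_right (n := 3) (by norm_num) (show 3 ≤ j by omega)
    nlinarith
  exact (Nat.pow_le_pow_right (by norm_num) hj2).trans (by norm_num)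

end Cfsg.Agent.FourActionTernaryG27
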