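import Mathlib

/-!
Small facts about `GL(3, 2)` for the four-centre argument.
-/

set_option autoImplicit false

namespace Cfsg.Agent.FourCentral81

open Matrix

/-- `GL(3, 2)`. -/
abbrev GL32 := GL (Fin 3) (ZMod 2)

abbrev V32 := Fin 3 → ZMod 2

def ev (i : Fin 3) : V32 := Pi.single i 1

/-- The linear action of a matrix on a vector. -/
abbrev app (g : GL32) (v : V32) : V32 := (g : Matrix (Fin 3) (Fin 3) (ZMod 2)) *ᵥ v

theorem app_mul (g h : GL32) (v : V32) : app (g * h) v = app g (app h v) := by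
  simp [app, mulVec_mulVec]

theorem app_one (v : V32) : app 1 v = v := by simp [app]

theorem app_inv (g : GL32) (v : V32) : app g⁻¹ (app g v) = v := by
  rw [← app_mul, inv_mul_cancel, app_one]

theorem app_inj (g : GL32) {v w : V32} (h : app g v = app g w) : v = w := by
  rw [← app_inv g v, h, app_inv]

/-- Elementary matrices. -/
def el (i j : Fin 3) (h : i ≠ j) : GL32 :=
  ⟨Matrix.transvection i j 1, Matrix.transvection i j 1,
    by rw [Matrix.transvection_mul_transvection_same i j h,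
        show (1 : ZMod 2) + 1 = 0 by decide, Matrix.transvection_zero],
    by rw [Matrix.transvection_mul_transvection_same i j h,
        show (1 : ZMod 2) + 1 = 0 by decide, Matrix.transvection_zero]⟩

def x01 : GL32 := el 0 1 (by decide)
def x12 : GL32 := el 1 2 (by decide)
def x02 : GL32 := el 0 2 (by decide)

theorem x01_x12_not_comm : x01 * x12 ≠ x12 * x01 := by
  intro h
  have := congrArg (fun g : GL32 => (g : Matrix (Fin 3) (Fin 3) (ZMod 2)) 0 2) h
  simp [x01, x12, el, Matrix.transvection, Matrix.mul_apply, Fin.sum_univ_three, Matrix.single] at this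

theorem comm_x01_x12 : x01 * x12 * x01⁻¹ * x12⁻¹ = x02 := by
  apply Units.ext
  change (transvection (0 : Fin 3) 1 (1 : ZMod 2)) * transvection 1 2 1 * transvection 0 1 1 *
    transvection 1 2 1 = transvection 0 2 1
  decide

/-- Upper unitriangular elements. -/
def IsUT (g : GL32) : Prop :=
  ∀ i j : Fin 3, j ≤ i → (g : Matrix (Fin 3) (Fin 3) (ZMod 2)) i j = if i = j then 1 else 0

theorem isUT_ext {g h : GL32} (hg : IsUT g) (hh : IsUT h)
    (h01 : (g : Matrix (Fin 3) (Fin 3) (ZMod 2)) 0 1 = (h : Matrix (Fin 3) (Fin 3) (ZMod 2)) 0 1)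
    (h02 : (g : Matrix (Fin 3) (Fin 3) (ZMod 2)) 0 2 = (h : Matrix (Fin 3) (Fin 3) (ZMod 2)) 0 2)
    (h12 : (g : Matrix (Fin 3) (Fin 3) (ZMod 2)) 1 2 = (h : Matrix (Fin 3) (Fin 3) (ZMod 2)) 1 2) :
    g = h := by
  apply Units.ext
  ext i j
  rcases le_or_gt j i with hji | hij
  · rw [hg i j hji, hh i j hji]
  · fin_cases i <;> fin_cases j <;> first | (exfalso; revert hij; decide) | assumption

/-- A subgroup of unitriangular matrices has order at most 8, and order 8 means all of them. -/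
theorem ut_subgroup (E : Subgroup GL32) (hE : ∀ g ∈ E, IsUT g) :
    Nat.card E ≤ 8 ∧ (8 ≤ Nat.card E → x01 ∈ E ∧ x12 ∈ E ∧ x02 ∈ E) := by
  let f : E → ZMod 2 × ZMod 2 × ZMod 2 := fun g =>
    ((g.1 : Matrix (Fin 3) (Fin 3) (ZMod 2)) 0 1, (g.1 : Matrix (Fin 3) (Fin 3) (ZMod 2)) 0 2,
      (g.1 : Matrix (Fin 3) (Fin 3) (ZMod 2)) 1 2)
  have hf : Function.Injective f := by
    intro a b h
    simp only [f, Prod.mk.injEq] at h
    exact Subtype.ext (isUT_ext (hE _ a.2) (hE _ b.2) h.1 h.2.1 h.2.2)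
  have h8 : Nat.card (ZMod 2 × ZMod 2 × ZMod 2) = 8 := by simp [Nat.card_prod]
  refine ⟨h8 ▸ Nat.card_le_card_of_injective f hf, fun hge => ?_⟩
  have hb : Function.Bijective f :=
    hf.bijective_of_nat_card_le (by rw [h8]; exact hge)
  have get : ∀ (x : GL32), IsUT x → x ∈ E := by
    intro x hx
    obtain ⟨a, ha⟩ := hb.2 ((x : Matrix (Fin 3) (Fin 3) (ZMod 2)) 0 1,
      (x : Matrix (Fin 3) (Fin 3) (ZMod 2)) 0 2, (x : Matrix (Fin 3) (Fin 3) (ZMod 2)) 1 2)
    simp only [f, Prod.mk.injEq] at ha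
    rw [← isUT_ext (hE _ a.2) hx ha.1 ha.2.1 ha.2.2]
    exact a.2
  refine ⟨get _ ?_, get _ ?_, get _ ?_⟩ <;>
    (intro i j; fin_cases i <;> fin_cases j <;> simp [x01, x12, x02, el, transvection])

theorem ut_comm_card (E : Subgroup GL32) (hE : ∀ g ∈ E, IsUT g)
    (hc : ∀ a ∈ E, ∀ b ∈ E, a * b = b * a) : Nat.card E < 8 := by
  by_contra h
  obtain ⟨h1, h2, -⟩ := (ut_subgroup E hE).2 (not_lt.1 h)
  exact x01_x12_not_comm (hc _ h1 _ h2)

theorem conj_transvection (g : GL32) (v f : V32) :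
    (g : Matrix (Fin 3) (Fin 3) (ZMod 2)) * (1 + vecMulVec v (f ᵥ* (g : Matrix (Fin 3) (Fin 3) (ZMod 2)))) *
      ((g⁻¹ : GL32) : Matrix (Fin 3) (Fin 3) (ZMod 2)) = 1 + vecMulVec (app g v) f := by
  rw [mul_add, add_mul, mul_one, Units.mul_inv, mul_vecMulVec, vecMulVec_mul, vecMul_vecMul,
    Units.mul_inv, vecMul_one]

theorem aux_plane : ∀ v : V32, v ≠ ev 0 → v 2 = 0 → v ≠ 0 → v = ev 1 ∨ app x01 v = ev 1 := by
  decide

theorem aux_out : ∀ v : V32, v 2 ≠ 0 → v = ev 2 ∨ app x02 v = ev 2 ∨ app x12 v = ev 2 ∨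
    app x02 (app x12 v) = ev 2 := by
  decide

theorem aux_out' : ∀ v : V32, v 2 ≠ 0 → v = ev 2 ∨ v = app x02 (ev 2) ∨ v = app x12 (ev 2) ∨
    v = app x02 (app x12 (ev 2)) := by
  decide

theorem aux_split : ∀ v : V32, v 2 = 0 → v = v 0 • ev 0 + v 1 • ev 1 := by decide

theorem aux_sum : ∀ a b : V32, a ≠ 0 → b ≠ 0 → a + b ≠ 0 → b ≠ ev 0 → b 2 = 0 → a + b ≠ ev 0 →
    (a + b) 2 = 0 → a = ev 0 := by
  decide

theorem aux_row : ∀ v : V32, v 0 = 0 → v = 0 ∨ v = ev 1 ∨ v = ev 2 ∨ v = ev 1 + ev 2 := by decide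

/-- The criterion for a subgroup to be all of `GL(3, 2)`. -/
theorem eq_top_of_orbit (F : Subgroup GL32) (h01 : x01 ∈ F) (h12 : x12 ∈ F) (h02 : x02 ∈ F)
    (h1 : ∃ g ∈ F, app g (ev 0) ≠ ev 0)
    (h2 : ∃ g ∈ F, ∃ v : V32, v 2 = 0 ∧ app g v 2 ≠ 0) : F = ⊤ := by
  -- the orbit of the first basis vector
  let O : V32 → Prop := fun v => ∃ g ∈ F, app g (ev 0) = v
  have hclosed : ∀ g ∈ F, ∀ v, O v → O (app g v) := by
    rintro g hg v ⟨k, hk, rfl⟩
    exact ⟨g * k, F.mul_mem hg hk, app_mul g k _⟩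
  have hO0 : O (ev 0) := ⟨1, F.one_mem, app_one _⟩
  have hne : ∀ v, O v → v ≠ 0 := by
    rintro _ ⟨g, -, rfl⟩ h
    have : app g (ev 0) = app g 0 := by rw [h]; simp [app]
    exact absurd (app_inj g this) (by decide)
  have a1 := hclosed _ h01
  have a2 := hclosed _ h12
  -- the plane and its complement
  have hO1 : ∀ v : V32, v ≠ ev 0 → v 2 = 0 → O v → O (ev 1) := by
    intro v hv hv2 hOv
    have hv0 := hne v hOv
    have := aux_plane v hv hv2 hv0
    rcases this with h | h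
    · exact h ▸ hOv
    · exact h ▸ a1 v hOv
  have hO2 : ∀ v : V32, v 2 ≠ 0 → O v → O (ev 2) := by
    intro v hv2 hOv
    have := aux_out v hv2
    rcases this with h | h | h | h
    · exact h ▸ hOv
    · exact h ▸ hclosed _ h02 v hOv
    · exact h ▸ a2 v hOv
    · exact h ▸ hclosed _ h02 _ (a2 v hOv)
  have hO3 : O (ev 2) → ∀ v : V32, v 2 ≠ 0 → O v := by
    intro h v hv2
    have := aux_out' v hv2
    rcases this with e | e | e | e <;> subst e
    · exact h
    · exact hclosed _ h02 _ h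
    · exact a2 _ h
    · exact hclosed _ h02 _ (a2 _ h)
  obtain ⟨g1, hg1, hne1⟩ := h1
  obtain ⟨g2, hg2, v2, hv2, hgv2⟩ := h2
  have hB : O (ev 1) ∧ O (ev 2) := by
    have hOg : O (app g1 (ev 0)) := ⟨g1, hg1, rfl⟩
    by_cases hb1 : O (ev 1)
    · refine ⟨hb1, ?_⟩
      by_contra hb2
      apply hgv2
      have hz : ∀ w, O w → w 2 = 0 := fun w hw => by
        by_contra h; exact hb2 (hO2 w h hw)
      have e0 := hz _ (hclosed _ hg2 _ hO0)
      have e1 := hz _ (hclosed _ hg2 _ hb1)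
      have hsplit := aux_split v2 hv2
      rw [hsplit]
      simp [app, mulVec_add, mulVec_smul] at e0 e1 ⊢
      simp [e0, e1]
    · exfalso
      have hb2 : O (ev 2) := hO2 _ (fun h => hb1 (hO1 _ hne1 h hOg)) hOg
      have hiff : ∀ w : V32, O w ↔ w = ev 0 ∨ w 2 ≠ 0 := by
        intro w
        refine ⟨fun hw => ?_, fun hw => hw.elim (fun h => h ▸ hO0) (hO3 hb2 w)⟩
        by_contra h
        push Not at h
        exact hb1 (hO1 w h.1 h.2 hw)
      have hcompl : ∀ w : V32, ¬ O w → w ≠ 0 → ¬ O (app g1 w) := by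
        intro w hw _ h
        apply hw
        have := hclosed _ (F.inv_mem hg1) _ h
        rwa [app_inv] at this
      have n1 := hcompl (ev 1) hb1 (by decide)
      have n2 := hcompl (ev 0 + ev 1) (fun h => by
        have : ev 0 + ev 1 = ev 0 ∨ (ev 0 + ev 1) 2 ≠ 0 := (hiff _).1 h
        revert this; decide) (by decide)
      rw [hiff] at n1 n2
      push Not at n1 n2
      have hsum : app g1 (ev 0 + ev 1) = app g1 (ev 0) + app g1 (ev 1) := by
        simp [app, mulVec_add]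
      apply hne1
      have z1 : app g1 (ev 1) ≠ 0 := fun h => by
        have : app g1 (ev 1) = app g1 0 := by rw [h]; simp [app]
        exact absurd (app_inj g1 this) (by decide)
      have z2 : app g1 (ev 0 + ev 1) ≠ 0 := fun h => by
        have : app g1 (ev 0 + ev 1) = app g1 0 := by rw [h]; simp [app]
        exact absurd (app_inj g1 this) (by decide)
      have z0 : app g1 (ev 0) ≠ 0 := hne _ hOg
      rw [hsum] at n2 z2
      generalize app g1 (ev 0) = a at n2 z2 z0 ⊢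
      generalize app g1 (ev 1) = b at n1 n2 z1 z2
      obtain ⟨n1a, n1b⟩ := n1
      obtain ⟨n2a, n2b⟩ := n2
      exact aux_sum a b z0 z1 z2 n1a n1b n2a n2b
  have hall : ∀ (i : Fin 3), O (ev i) := by
    intro i; fin_cases i
    · exact hO0
    · exact hB.1
    · exact hB.2
  -- all elementary matrices
  have hel : ∀ i j (h : i ≠ j), el i j h ∈ F := by
    intro i j h
    obtain ⟨g, hg, hgv⟩ := hall i
    let f : V32 := ev j ᵥ* (g : Matrix (Fin 3) (Fin 3) (ZMod 2))
    have hf0 : f 0 = 0 := by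
      have : f ⬝ᵥ ev 0 = 0 := by
        rw [show f ⬝ᵥ ev 0 = ev j ⬝ᵥ app g (ev 0) from (dotProduct_mulVec _ _ _).symm, hgv]
        simp [ev, h.symm]
      simpa [ev] using this
    have hTmem : ∀ φ : V32, φ 0 = 0 →
        ∃ u ∈ F, (u : Matrix (Fin 3) (Fin 3) (ZMod 2)) = 1 + vecMulVec (ev 0) φ := by
      intro φ hφ
      have h4 := aux_row φ hφ
      rcases h4 with e | e | e | e <;> subst e
      · exact ⟨1, F.one_mem, by simp⟩
      · exact ⟨x01, h01, by simp [x01, el, transvection, ev, single_eq_single_vecMulVec_single]⟩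
      · exact ⟨x02, h02, by simp [x02, el, transvection, ev, single_eq_single_vecMulVec_single]⟩
      · refine ⟨x01 * x02, F.mul_mem h01 h02, ?_⟩
        change transvection 0 1 (1 : ZMod 2) * transvection 0 2 1 = _
        decide
    obtain ⟨u, hu, hue⟩ := hTmem f hf0
    have : el i j h = g * u * g⁻¹ := by
      apply Units.ext
      rw [Units.val_mul, Units.val_mul, hue, conj_transvection, hgv]
      simp [el, transvection, ev, single_eq_single_vecMulVec_single]
    rw [this]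
    exact F.mul_mem (F.mul_mem hg hu) (F.inv_mem hg)
  rw [eq_top_iff]
  intro g _
  let P : Matrix (Fin 3) (Fin 3) (ZMod 2) → Prop := fun A =>
    ∃ u ∈ F, (u : Matrix (Fin 3) (Fin 3) (ZMod 2)) = A
  have hz : ∀ c : ZMod 2, c = 0 ∨ c = 1 := by decide
  obtain ⟨u, hu, hue⟩ : P (g : Matrix (Fin 3) (Fin 3) (ZMod 2)) := by
    refine diagonal_transvection_induction_of_det_ne_zero P _ ?_ ?_ ?_ ?_
    · exact (Matrix.isUnits_det_units g).ne_zero
    · intro D hD
      refine ⟨1, F.one_mem, ?_⟩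
      have : D = fun _ => 1 := by
        funext i
        rcases hz (D i) with h | h
        · exact absurd (by rw [det_diagonal]; exact Finset.prod_eq_zero (Finset.mem_univ i) h) hD
        · exact h
      rw [this]; simp
    · rintro ⟨i, j, hij, c⟩
      rcases hz c with rfl | rfl
      · exact ⟨1, F.one_mem, by simp [TransvectionStruct.toMatrix]⟩
      · exact ⟨el i j hij, hel i j hij, rfl⟩
    · rintro A B _ _ ⟨a, ha, rfl⟩ ⟨b, hb, rfl⟩
      exact ⟨a * b, F.mul_mem ha hb, rfl⟩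
  rwa [← Units.ext hue]

/-- A normal subgroup containing one transvection contains the others. -/
theorem mem_of_normal (L : Subgroup GL32) [L.Normal] (h : x02 ∈ L) : x01 ∈ L ∧ x12 ∈ L := by
  have key : ∀ (a b : Fin 3) (s : Equiv.Perm (Fin 3)) (hab : a ≠ b)
      (hsq : (s.permMatrix (ZMod 2)) * (s.permMatrix (ZMod 2)) = 1)
      (_ : (s.permMatrix (ZMod 2)) * transvection 0 2 (1 : ZMod 2) * (s.permMatrix (ZMod 2)) =
        transvection a b 1), el a b hab ∈ L := by
    intro a b s hab hsq he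
    let u : GL32 := ⟨s.permMatrix (ZMod 2), s.permMatrix (ZMod 2), hsq, hsq⟩
    have := Subgroup.Normal.conj_mem inferInstance x02 h u
    have e : u * x02 * u⁻¹ = el a b hab := Units.ext he
    rwa [e] at this
  exact ⟨key 0 1 (Equiv.swap 1 2) (by decide) (by decide) (by decide),
    key 1 2 (Equiv.swap 0 1) (by decide) (by decide) (by decide)⟩

/-- The only normal subgroup containing a transvection is everything. -/
theorem normal_eq_top (L : Subgroup GL32) [L.Normal] (h : x02 ∈ L) : L = ⊤ := by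
  obtain ⟨h01, h12⟩ := mem_of_normal L h
  have key : ∀ (s : Equiv.Perm (Fin 3)) (x : GL32), x ∈ L →
      (s.permMatrix (ZMod 2)) * (s.permMatrix (ZMod 2)) = 1 →
      ∃ g ∈ L, (g : Matrix (Fin 3) (Fin 3) (ZMod 2)) =
        (s.permMatrix (ZMod 2)) * (x : Matrix (Fin 3) (Fin 3) (ZMod 2)) * (s.permMatrix (ZMod 2)) := by
    intro s x hx hsq
    let u : GL32 := ⟨s.permMatrix (ZMod 2), s.permMatrix (ZMod 2), hsq, hsq⟩
    exact ⟨u * x * u⁻¹, Subgroup.Normal.conj_mem inferInstance x hx u, rfl⟩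
  obtain ⟨g1, hg1, he1⟩ := key (Equiv.swap 0 1) x01 h01 (by decide)
  obtain ⟨g2, hg2, he2⟩ := key (Equiv.swap 1 2) x12 h12 (by decide)
  refine eq_top_of_orbit L h01 h12 h ⟨g1, hg1, ?_⟩ ⟨g2, hg2, ev 1, by decide, ?_⟩
  · rw [app, he1]; decide
  · rw [app, he2]; decide

/-- A sign character on the stabiliser of the first basis vector. -/
theorem exists_sign_of_fix (F : Subgroup GL32) (hF : ∀ g ∈ F, app g (ev 0) = ev 0)
    (h12 : x12 ∈ F) : ∃ χ : F →* ℤˣ, χ ⟨x12, h12⟩ ≠ 1 := by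
  let S := {f : V32 // f 0 = 0 ∧ f ≠ 0}
  have hmem : ∀ g ∈ F, ∀ f : V32, f 0 = 0 → (f ᵥ* (g : Matrix (Fin 3) (Fin 3) (ZMod 2))) 0 = 0 := by
    intro g hg f hf
    have : (f ᵥ* (g : Matrix (Fin 3) (Fin 3) (ZMod 2))) ⬝ᵥ ev 0 = f ⬝ᵥ ev 0 := by
      rw [← dotProduct_mulVec]; exact congrArg (f ⬝ᵥ ·) (hF g hg)
    simpa [ev, hf] using this
  have hne : ∀ (g : GL32) (f : V32), f ≠ 0 → f ᵥ* (g : Matrix (Fin 3) (Fin 3) (ZMod 2)) ≠ 0 := by
    intro g f hf h
    apply hf
    have := congrArg (· ᵥ* ((g⁻¹ : GL32) : Matrix (Fin 3) (Fin 3) (ZMod 2))) h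
    simpa [vecMul_vecMul] using this
  letI : MulAction F S :=
    { smul := fun g f => ⟨f.1 ᵥ* ((g.1⁻¹ : GL32) : Matrix (Fin 3) (Fin 3) (ZMod 2)),
        hmem _ (F.inv_mem g.2) _ f.2.1, hne _ _ f.2.2⟩
      one_smul := fun f => Subtype.ext (by
        change f.1 ᵥ* ((1⁻¹ : GL32) : Matrix (Fin 3) (Fin 3) (ZMod 2)) = f.1; simp)
      mul_smul := fun g h f => Subtype.ext (by
        change f.1 ᵥ* (((g.1 * h.1)⁻¹ : GL32) : Matrix (Fin 3) (Fin 3) (ZMod 2)) =
          (f.1 ᵥ* ((h.1⁻¹ : GL32) : Matrix (Fin 3) (Fin 3) (ZMod 2))) ᵥ*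
            ((g.1⁻¹ : GL32) : Matrix (Fin 3) (Fin 3) (ZMod 2))
        rw [vecMul_vecMul, ← Units.val_mul, _root_.mul_inv_rev]) }
  classical
  refine ⟨Equiv.Perm.sign.comp (MulAction.toPermHom F S), ?_⟩
  have hs : MulAction.toPermHom F S ⟨x12, h12⟩ =
      Equiv.swap ⟨ev 1, by decide⟩ ⟨ev 1 + ev 2, by decide⟩ := by
    apply Equiv.ext
    rintro ⟨f, hf⟩
    apply Subtype.ext
    change f ᵥ* transvection 1 2 (1 : ZMod 2) = _
    revert hf; revert f; decide
  rw [MonoidHom.comp_apply, hs, Equiv.Perm.sign_swap (by decide)]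
  decide

/-- A sign character on the stabiliser of the plane. -/
theorem exists_sign_of_plane (F : Subgroup GL32) (hF : ∀ g ∈ F, ∀ v : V32, v 2 = 0 → app g v 2 = 0)
    (h01 : x01 ∈ F) : ∃ χ : F →* ℤˣ, χ ⟨x01, h01⟩ ≠ 1 := by
  let S := {v : V32 // v 2 = 0 ∧ v ≠ 0}
  letI : MulAction F S :=
    { smul := fun g v => ⟨app g.1 v.1, hF _ g.2 _ v.2.1, fun h => v.2.2 (app_inj g.1 (by
        rw [h]; simp [app]))⟩
      one_smul := fun v => Subtype.ext (app_one _)
      mul_smul := fun g h v => Subtype.ext (app_mul _ _ _) }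
  classical
  refine ⟨Equiv.Perm.sign.comp (MulAction.toPermHom F S), ?_⟩
  have hs : MulAction.toPermHom F S ⟨x01, h01⟩ =
      Equiv.swap ⟨ev 1, by decide⟩ ⟨ev 0 + ev 1, by decide⟩ := by
    apply Equiv.ext
    rintro ⟨v, hv⟩
    apply Subtype.ext
    change transvection 0 1 (1 : ZMod 2) *ᵥ v = _
    revert hv; revert v; decide
  rw [MonoidHom.comp_apply, hs, Equiv.Perm.sign_swap (by decide)]
  decide

end Cfsg.Agent.FourCentral81
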