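import Mathlib
import Cfsg.Agent.Lib.FourCentralGL81

/-!
The matrix representation of the normaliser of an elementary abelian group of order eight.
-/

set_option autoImplicit false
set_option linter.style.haveILetI false

namespace Cfsg.Agent.FourCentral81

open Subgroup Matrix

theorem exists_rep {G : Type*} [Group G] [Finite G] (D : Subgroup G) (hD : Nat.card D = 8)
    (hexp : ∀ d ∈ D, d * d = 1) (e : Fin 3 → G) (he : ∀ i, e i ∈ D) (h0 : e 0 ≠ 1)
    (h1 : e 1 ∉ zpowers (e 0)) (h2 : e 2 ∉ zpowers (e 0) ⊔ zpowers (e 1)) :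
    ∃ (φ : ↥(normalizer (D : Set G)) →* GL32) (ψ : V32 → G), Function.Injective ψ ∧
      (∀ v, ψ v ∈ D) ∧ (∀ d ∈ D, ∃ v, ψ v = d) ∧ (∀ v w, ψ (v + w) = ψ v * ψ w) ∧
      (∀ i, ψ (ev i) = e i) ∧
      ∀ (m : ↥(normalizer (D : Set G))) v, ψ (app (φ m) v) = (m : G) * ψ v * (m : G)⁻¹ := by
  classical
  have hcomm : ∀ a ∈ D, ∀ b ∈ D, a * b = b * a := by
    intro a ha b hb
    have h := hexp _ (D.mul_mem ha hb)
    calc a * b = a * ((a * b) * (a * b)) * b := by rw [h, mul_one]
      _ = (a * a) * (b * a) * (b * b) := by group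
      _ = b * a := by rw [hexp a ha, hexp b hb, one_mul, mul_one]
  have hp : ∀ (x : G) (a b : ZMod 2), x * x = 1 →
      x ^ (a + b).val = x ^ a.val * x ^ b.val := by
    intro x a b hx
    have hc : ∀ c : ZMod 2, c = 0 ∨ c = 1 := by decide
    have e11 : (1 : ZMod 2) + 1 = 0 := by decide
    rcases hc a with rfl | rfl <;> rcases hc b with rfl | rfl <;> simp [ZMod.val_one, hx, e11]
  let ψ : V32 → G := fun v => e 0 ^ (v 0).val * e 1 ^ (v 1).val * e 2 ^ (v 2).val
  have hψD : ∀ v, ψ v ∈ D := fun v =>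
    D.mul_mem (D.mul_mem (D.pow_mem (he 0) _) (D.pow_mem (he 1) _)) (D.pow_mem (he 2) _)
  have hadd : ∀ v w, ψ (v + w) = ψ v * ψ w := by
    intro v w
    have m0 := D.pow_mem (he 0) (w 0).val
    have m1 := D.pow_mem (he 1) (v 1).val
    have m2 := D.pow_mem (he 2) (v 2).val
    have m4 := D.mul_mem m0 (D.pow_mem (he 1) (w 1).val)
    simp only [ψ, Pi.add_apply, hp _ _ _ (hexp _ (he _))]
    generalize e 0 ^ (v 0).val = a0 at *
    generalize e 0 ^ (w 0).val = b0 at *
    generalize e 1 ^ (v 1).val = a1 at *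
    generalize e 1 ^ (w 1).val = b1 at *
    generalize e 2 ^ (v 2).val = a2 at *
    calc a0 * b0 * (a1 * b1) * (a2 * e 2 ^ (w 2).val)
        = a0 * (b0 * a1) * b1 * a2 * e 2 ^ (w 2).val := by group
      _ = a0 * (a1 * b0) * b1 * a2 * e 2 ^ (w 2).val := by rw [hcomm b0 m0 a1 m1]
      _ = a0 * a1 * ((b0 * b1) * a2) * e 2 ^ (w 2).val := by group
      _ = a0 * a1 * (a2 * (b0 * b1)) * e 2 ^ (w 2).val := by rw [hcomm _ m4 a2 m2]
      _ = _ := by group
  have hz : ψ 0 = 1 := by simp [ψ]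
  have hev : ∀ i, ψ (ev i) = e i := by
    intro i; fin_cases i <;> simp [ψ, ev, ZMod.val_one]
  have hker : ∀ v, ψ v = 1 → v = 0 := by
    intro v hv
    have hc : ∀ a : ZMod 2, a = 0 ∨ a = 1 := by decide
    by_contra hne
    rcases hc (v 2) with a2 | a2
    · rcases hc (v 1) with a1 | a1
      · rcases hc (v 0) with a0 | a0
        · exact hne (by funext i; fin_cases i <;> assumption)
        · exact h0 (by simpa [ψ, a0, a1, a2, ZMod.val_one] using hv)
      · apply h1
        have : e 1 = (e 0 ^ (v 0).val)⁻¹ :=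
          eq_inv_of_mul_eq_one_right (by simpa [ψ, a1, a2, ZMod.val_one] using hv)
        rw [this]; exact inv_mem (pow_mem (mem_zpowers _) _)
    · apply h2
      have : e 2 = (e 0 ^ (v 0).val * e 1 ^ (v 1).val)⁻¹ :=
        eq_inv_of_mul_eq_one_right (by simpa [ψ, a2, ZMod.val_one] using hv)
      rw [this]
      exact inv_mem (mul_mem ((le_sup_left : zpowers (e 0) ≤ zpowers (e 0) ⊔ zpowers (e 1))
        (pow_mem (mem_zpowers _) _)) ((le_sup_right : zpowers (e 1) ≤ zpowers (e 0) ⊔ zpowers (e 1))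
        (pow_mem (mem_zpowers _) _)))
  have hneg : ∀ v : V32, v + v = 0 := fun v => by
    funext i; exact CharTwo.add_self_eq_zero _
  have hinj : Function.Injective ψ := by
    intro v w h
    have h' : ψ (v + w) = 1 := by rw [hadd, h, hexp _ (hψD w)]
    have := hker _ h'
    calc v = v + (w + w) := by rw [hneg, add_zero]
      _ = w := by rw [← add_assoc, this, zero_add]
  let ψ' : V32 → D := fun v => ⟨ψ v, hψD v⟩
  have hb : Function.Bijective ψ' :=
    (Function.Injective.bijective_of_nat_card_le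
      (fun v w h => hinj (congrArg Subtype.val h)) (by rw [hD]; simp))
  have hsurj : ∀ d ∈ D, ∃ v, ψ v = d := fun d hd => by
    obtain ⟨v, hv⟩ := hb.2 ⟨d, hd⟩
    exact ⟨v, congrArg Subtype.val hv⟩
  have hconj : ∀ (m : ↥(normalizer (D : Set G))) v, ∃ w, ψ w = (m : G) * ψ v * (m : G)⁻¹ :=
    fun m v => hsurj _ ((mem_normalizer_iff.1 m.2 _).1 (hψD v))
  choose σ hσ using hconj
  let L : ↥(normalizer (D : Set G)) → (V32 →ₗ[ZMod 2] V32) := fun m =>
    AddMonoidHom.toZModLinearMap 2 (AddMonoidHom.mk' (σ m) fun v w => hinj (by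
      simp only [hadd, hσ]; group))
  have hL : ∀ m v, L m v = σ m v := fun m v => rfl
  let f : ↥(normalizer (D : Set G)) →* Matrix (Fin 3) (Fin 3) (ZMod 2) :=
    { toFun := fun m => LinearMap.toMatrix' (L m)
      map_one' := by
        rw [show L 1 = LinearMap.id from LinearMap.ext fun v => hinj (by
          rw [hL, hσ]; simp), LinearMap.toMatrix'_id]
      map_mul' := fun m n => by
        rw [← LinearMap.toMatrix'_comp]
        congr 1
        refine LinearMap.ext fun v => hinj ?_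
        rw [LinearMap.comp_apply, hL, hL, hL, hσ, hσ, hσ]
        simp only [Subgroup.coe_mul]; group }
  refine ⟨f.toHomUnits, ψ, hinj, hψD, hsurj, hadd, hev, fun m v => ?_⟩
  rw [← hσ m v]
  congr 1
  exact LinearMap.toMatrix'_mulVec (L m) v

end Cfsg.Agent.FourCentral81
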