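import Mathlib
import Cfsg.Agent.Lib.CoprimeGen

/-!
Odd normal automorphism groups of a 2-group module with a unique fixed point are trivial when the
2-group is "perfectly fused".
-/

set_option autoImplicit false
set_option linter.style.haveILetI false

namespace Cfsg.Agent.FourCentral81

open Subgroup

variable {V : Type*} [CommGroup V]

/-- Common fixed points of a group of automorphisms. -/
def fixP (X : Subgroup (MulAut V)) : Subgroup V where
  carrier := {v | ∀ x ∈ X, x v = v}
  one_mem' := fun x _ => map_one x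
  mul_mem' := fun ha hb x hx => by rw [map_mul, ha x hx, hb x hx]
  inv_mem' := fun ha x hx => by rw [map_inv, ha x hx]

theorem mem_fixP {X : Subgroup (MulAut V)} {v : V} : v ∈ fixP X ↔ ∀ x ∈ X, x v = v := Iff.rfl

theorem fixP_anti {X Y : Subgroup (MulAut V)} (h : X ≤ Y) : fixP Y ≤ fixP X :=
  fun _ hv x hx => hv x (h hx)

theorem mem_fixP_sup {X Y : Subgroup (MulAut V)} {v : V} (hx : v ∈ fixP X) (hy : v ∈ fixP Y) :
    v ∈ fixP (X ⊔ Y) := by
  let S : Subgroup (MulAut V) :=
    { carrier := {g | g v = v}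
      one_mem' := rfl
      mul_mem' := fun {a b} ha hb => by
        change a (b v) = v
        rw [show b v = v from hb]; exact ha
      inv_mem' := fun {a} ha => by
        change a⁻¹ v = v
        conv_lhs => rw [show v = a v from (show a v = v from ha).symm]
        exact a.symm_apply_apply v }
  have h : X ⊔ Y ≤ S := sup_le (fun g hg => hx g hg) (fun g hg => hy g hg)
  exact fun g hg => h hg

theorem apply_mem_fixP {X : Subgroup (MulAut V)} (g : MulAut V) (h : ∀ x ∈ X, g⁻¹ * x * g ∈ X)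
    {v : V} (hv : v ∈ fixP X) : g v ∈ fixP X := by
  intro x hx
  have := congrArg g (hv _ (h x hx))
  simpa [MulAut.mul_apply] using this

/-- The product over a finite group of automorphisms. -/
noncomputable def nm [Finite V] (X : Subgroup (MulAut V)) : V →* V :=
  haveI : Fintype X := Fintype.ofFinite X
  { toFun := fun v => ∏ x : X, (x : MulAut V) v
    map_one' := by simp
    map_mul' := fun a b => by simp only [map_mul, Finset.prod_mul_distrib] }

theorem nm_mem_fixP [Finite V] (X : Subgroup (MulAut V)) (v : V) : nm X v ∈ fixP X := by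
  intro y hy
  letI := Fintype.ofFinite X
  simp only [nm, MonoidHom.coe_mk, OneHom.coe_mk, map_prod]
  exact Fintype.prod_equiv (Equiv.mulLeft (⟨y, hy⟩ : X)) _ _ fun x => rfl

theorem nm_apply [Finite V] (X : Subgroup (MulAut V)) (g : MulAut V)
    (hg : ∀ x ∈ X, g * x * g⁻¹ ∈ X) (v : V) : nm X (g v) = g (nm X v) := by
  letI := Fintype.ofFinite X
  simp only [nm, MonoidHom.coe_mk, OneHom.coe_mk, map_prod]
  symm
  let f : X → X := fun x => ⟨g * x * g⁻¹, hg x x.2⟩
  have hf : Function.Injective f := fun a b hab => by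
    have := congrArg Subtype.val hab
    exact Subtype.ext (by simpa [f] using this)
  refine Fintype.prod_equiv (Equiv.ofBijective f (Finite.injective_iff_bijective.1 hf)) _ _ fun x => ?_
  change g ((x : MulAut V) v) = (g * x * g⁻¹ : MulAut V) (g v)
  simp [MulAut.mul_apply]

theorem nm_fixed [Finite V] (hV : ∀ v : V, v * v = 1) (X : Subgroup (MulAut V))
    (hX : Odd (Nat.card X)) {v : V} (hv : v ∈ fixP X) : nm X v = v := by
  letI := Fintype.ofFinite X
  simp only [nm, MonoidHom.coe_mk, OneHom.coe_mk]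
  rw [Finset.prod_congr rfl (fun (x : X) _ => hv x x.2), Finset.prod_const, Finset.card_univ,
    ← Nat.card_eq_fintype_card]
  obtain ⟨k, hk⟩ := hX
  rw [hk, pow_succ, pow_mul, pow_two, hV, one_pow, one_mul]

theorem exists_fixed_in [Finite V] (hV : ∀ v : V, v * v = 1) {T : Subgroup (MulAut V)}
    (hT : IsPGroup 2 T) (X : Subgroup V) (hX : X ≠ ⊥) (hinv : ∀ t ∈ T, ∀ x ∈ X, t x ∈ X) :
    ∃ a ∈ X, a ≠ 1 ∧ ∀ t ∈ T, t a = a := by
  haveI : Fact (Nat.Prime 2) := ⟨Nat.prime_two⟩
  letI : MulAction T X :=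
    { smul := fun t x => ⟨(t : MulAut V) x, hinv t t.2 x x.2⟩
      one_smul := fun x => Subtype.ext rfl
      mul_smul := fun s t x => Subtype.ext rfl }
  have hXp : IsPGroup 2 X := fun v => ⟨1, Subtype.ext (by simpa [pow_two] using hV v)⟩
  have h2X : 2 ∣ Nat.card X := by
    obtain ⟨k, hk⟩ := IsPGroup.iff_card.1 hXp
    have hXc : 1 < Nat.card X := X.one_lt_card_iff_ne_bot.2 hX
    rcases k with _ | k
    · rw [pow_zero] at hk; rw [hk] at hXc; omega
    · rw [hk]; exact dvd_pow_self 2 (by omega)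
  obtain ⟨a, ha, hne⟩ := hT.exists_fixed_point_of_prime_dvd_card_of_fixed_point X h2X
    (a := (1 : X)) (fun t => Subtype.ext (map_one (t : MulAut V)))
  exact ⟨a, a.2, fun h => hne (Subtype.ext h.symm), fun t ht => congrArg Subtype.val (ha ⟨t, ht⟩)⟩

/-- An invariant elementary abelian odd group of automorphisms is trivial. -/
theorem abelian_bot [Finite V] (hV : ∀ v : V, v * v = 1) (hV8 : Nat.card V ≤ 256)
    (H T A : Subgroup (MulAut V)) (hTH : T ≤ H) (hT : IsPGroup 2 T)
    {r : ℕ} [Fact r.Prime] (hr2 : r ≠ 2) (hAr : ∀ a ∈ A, a ^ r = 1)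
    (hAc : ∀ a ∈ A, ∀ b ∈ A, a * b = b * a) (hAn : ∀ h ∈ H, ∀ a ∈ A, h * a * h⁻¹ ∈ A)
    (hfix : ∀ a b : V, (∀ t ∈ T, t a = a) → (∀ t ∈ T, t b = b) → a ≠ 1 → b ≠ 1 → a = b)
    (hprop : ∀ L : Subgroup (MulAut V), L ≤ H → (∀ h ∈ H, ∀ l ∈ L, h * l * h⁻¹ ∈ L) →
      (∀ a ∈ T, ∀ b ∈ T, a * b * a⁻¹ * b⁻¹ ∈ L) → T ≤ L) :
    A = ⊥ := by
  classical
  by_contra hA1
  have hrP : r.Prime := Fact.out
  haveI : Fact (Nat.Prime 2) := ⟨Nat.prime_two⟩
  have hodd : ∀ B : Subgroup (MulAut V), B ≤ A → Odd (Nat.card B) := by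
    intro B hB
    have : IsPGroup r B := fun b => ⟨1, Subtype.ext (by simpa using hAr b (hB b.2))⟩
    obtain ⟨k, hk⟩ := IsPGroup.iff_card.1 this
    rw [hk]; exact (hrP.odd_of_ne_two hr2).pow
  have hAinv : ∀ h ∈ H, ∀ a ∈ A, h⁻¹ * a * h ∈ A := fun h hh a ha => by
    simpa using hAn h⁻¹ (H.inv_mem hh) a ha
  have hTinv : ∀ t ∈ T, ∀ v ∈ fixP A, t v ∈ fixP A :=
    fun t ht v hv => apply_mem_fixP t (hAinv t (hTH ht)) hv
  -- no fixed points
  have hfA : fixP A = ⊥ := by
    by_contra hne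
    have hker : (nm A).ker ≠ ⊥ := by
      intro hb
      apply hA1
      rw [eq_bot_iff]
      intro a ha
      have hz : ∀ v, a v = v := by
        intro v
        have hmem : v⁻¹ * a v ∈ (nm A).ker := by
          rw [MonoidHom.mem_ker, map_mul, map_inv,
            nm_apply A a (fun x hx => A.mul_mem (A.mul_mem ha hx) (A.inv_mem ha)) v,
            nm_mem_fixP A v a ha, inv_mul_cancel]
        rw [hb, mem_bot] at hmem
        exact (inv_mul_eq_one.1 hmem).symm
      exact Subgroup.mem_bot.2 (MulEquiv.ext hz)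
    obtain ⟨w, hw, hw1, hwf⟩ := exists_fixed_in hV hT _ hker (fun t ht x hx => by
      rw [MonoidHom.mem_ker] at hx ⊢
      rw [nm_apply A t (hAn t (hTH ht)) x, hx, map_one])
    obtain ⟨u, hu, hu1, huf⟩ := exists_fixed_in hV hT _ hne hTinv
    have := hfix w u hwf huf hw1 hu1
    subst this
    exact hw1 ((nm_fixed hV A (hodd A le_rfl) hu).symm.trans hw)
  haveI : Nontrivial V := by
    by_contra h
    rw [not_nontrivial_iff_subsingleton] at h
    apply hA1
    rw [eq_bot_iff]
    intro a _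
    exact Subgroup.mem_bot.2 (MulEquiv.ext fun v => Subsingleton.elim _ _)
  have hVp : IsPGroup 2 V := fun v => ⟨1, by simpa [pow_two] using hV v⟩
  -- maximal subgroups with fixed points
  let P : Subgroup (MulAut V) → Prop := fun B => B ≤ A ∧ fixP B ≠ ⊥
  let Om := {B : Subgroup (MulAut V) // Maximal P B}
  have hext : ∀ B, P B → ∃ C : Om, B ≤ C.1 := by
    intro B hB
    obtain ⟨C, hBC, hC⟩ := Set.Finite.exists_le_maximal (Set.toFinite {B | P B}) hB
    exact ⟨⟨C, hC⟩, hBC⟩
  have hbotP : P ⊥ := by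
    refine ⟨bot_le, fun h => ?_⟩
    obtain ⟨v, hv⟩ := exists_ne (1 : V)
    apply hv
    have : v ∈ fixP (⊥ : Subgroup (MulAut V)) := fun x hx => by
      rw [mem_bot] at hx; subst hx; rfl
    rwa [h, mem_bot] at this
  have hdisj : ∀ B C : Om, B ≠ C → ∀ v, v ∈ fixP B.1 → v ∈ fixP C.1 → v = 1 := by
    intro B C hBC v hb hc
    by_contra hv
    have hP : P (B.1 ⊔ C.1) := ⟨sup_le B.2.1.1 C.2.1.1, fun h => hv (by
      have := mem_fixP_sup hb hc; rwa [h, mem_bot] at this)⟩
    have h1 := B.2.2 hP le_sup_left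
    have h2 := C.2.2 hP le_sup_right
    exact hBC (Subtype.ext (le_antisymm (le_sup_left.trans h2) (le_sup_right.trans h1)))
  have hAconj : ∀ B : Om, ∀ a ∈ A, ∀ x ∈ B.1, a⁻¹ * x * a ∈ B.1 := fun B a ha x hx => by
    rwa [mul_assoc, hAc x (B.2.1.1 hx) a ha, inv_mul_cancel_left]
  have hkill : ∀ B C : Om, B ≠ C → ∀ v ∈ fixP C.1, nm B.1 v = 1 := by
    intro B C hBC v hv
    refine hdisj B C hBC _ (nm_mem_fixP _ _) ?_
    intro x hx
    rw [← nm_apply B.1 x (fun y hy => by
      rw [hAc x (C.2.1.1 hx) y (B.2.1.1 hy), mul_inv_cancel_right]; exact hy), hv x hx]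
  have hfour : ∀ B : Om, 4 ≤ Nat.card (fixP B.1) := by
    intro B
    obtain ⟨k, hk⟩ := IsPGroup.iff_card.1 (hVp.to_subgroup (fixP B.1))
    have h1 : 1 < Nat.card (fixP B.1) := (one_lt_card_iff_ne_bot _).2 B.2.1.2
    rcases Nat.lt_or_ge k 2 with hk2 | hk2
    · exfalso
      interval_cases k
      · simp at hk; rw [hk, Subgroup.card_bot] at h1; omega
      · -- a fixed space of order two would be centralised by A
        obtain ⟨u, hu, hu1⟩ := (fixP B.1).ne_bot_iff_exists_ne_one.1 B.2.1.2 |> fun ⟨u, hu⟩ =>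
          (⟨u.1, u.2, fun h => hu (Subtype.ext h)⟩ : ∃ u, u ∈ fixP B.1 ∧ u ≠ 1)
        have : u ∈ fixP A := by
          intro a ha
          have hau := apply_mem_fixP a (hAconj B a ha) hu
          have hau1 : a u ≠ 1 := fun h => hu1 (by simpa using congrArg a.symm h)
          obtain ⟨z, -, huniq⟩ := (Nat.card_eq_two_iff' (1 : fixP B.1)).1 (by simpa using hk)
          exact congrArg Subtype.val ((huniq ⟨a u, hau⟩ (fun h => hau1 (congrArg Subtype.val h))).trans
            (huniq ⟨u, hu⟩ (fun h => hu1 (congrArg Subtype.val h))).symm)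
        rw [hfA, mem_bot] at this
        exact hu1 this
    · rw [hk]; calc 4 = 2 ^ 2 := by norm_num
        _ ≤ 2 ^ k := Nat.pow_le_pow_right (by norm_num) hk2
  letI := Fintype.ofFinite Om
  have hm4 : Nat.card Om ≤ 4 := by
    let F : (∀ B : Om, fixP B.1) → V := fun f => ∏ B, (f B : V)
    have hF : Function.Injective F := by
      intro f g hfg
      funext B
      apply Subtype.ext
      have key : ∀ h : (∀ B : Om, fixP B.1), nm B.1 (F h) = h B := by
        intro h
        simp only [F, map_prod]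
        rw [Finset.prod_eq_single B (fun C _ hC => hkill B C (Ne.symm hC) _ (h C).2)
          (fun hB => absurd (Finset.mem_univ B) hB), nm_fixed hV _ (hodd _ B.2.1.1) (h B).2]
      rw [← key f, ← key g, hfg]
    have h1 := Nat.card_le_card_of_injective F hF
    rw [Nat.card_pi] at h1
    have h2 : 4 ^ Nat.card Om ≤ ∏ B : Om, Nat.card (fixP B.1) := by
      rw [Nat.card_eq_fintype_card, ← Finset.card_univ, ← Finset.prod_const]
      exact Finset.prod_le_prod (fun _ _ => Nat.zero_le _) (fun B _ => hfour B)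
    have h3 : 4 ^ Nat.card Om ≤ 4 ^ 4 := (h2.trans h1).trans hV8
    exact (Nat.pow_le_pow_iff_right (by norm_num)).1 h3
  -- the action on the maximal subgroups
  have hPconj : ∀ h ∈ H, ∀ B, P B → P (B.map (MulAut.conj h).toMonoidHom) := by
    intro h hh B hB
    refine ⟨?_, ?_⟩
    · rintro _ ⟨b, hb, rfl⟩; exact hAn h hh b (hB.1 hb)
    · intro hbot
      apply hB.2
      rw [eq_bot_iff]
      intro v hv
      have : h v ∈ fixP (B.map (MulAut.conj h).toMonoidHom) := by
        rintro _ ⟨b, hb, rfl⟩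
        change (h * b * h⁻¹ : MulAut V) (h v) = h v
        simp [MulAut.mul_apply, hv b hb]
      rw [hbot, mem_bot] at this
      exact mem_bot.2 (by simpa using congrArg h.symm this)
  have hMconj : ∀ h ∈ H, ∀ B, Maximal P B → Maximal P (B.map (MulAut.conj h).toMonoidHom) := by
    intro h hh B hB
    refine ⟨hPconj h hh B hB.1, fun C hC hle => ?_⟩
    have h1 := hPconj h⁻¹ (H.inv_mem hh) C hC
    have h2 : B ≤ C.map (MulAut.conj h⁻¹).toMonoidHom := fun b hb =>
      ⟨h * b * h⁻¹, hle ⟨b, hb, rfl⟩, by simp [mul_assoc]⟩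
    intro c hc
    have h3 := hB.2 h1 h2 ⟨c, hc, rfl⟩
    exact ⟨_, h3, by simp [mul_assoc]⟩
  letI : MulAction H Om :=
    { smul := fun h B => ⟨B.1.map (MulAut.conj (h : MulAut V)).toMonoidHom, hMconj h h.2 _ B.2⟩
      one_smul := fun B => Subtype.ext (by
        change B.1.map (MulAut.conj ((1 : H) : MulAut V)).toMonoidHom = B.1
        ext x; simp)
      mul_smul := fun g h B => Subtype.ext (by
        change B.1.map (MulAut.conj ((g * h : H) : MulAut V)).toMonoidHom =
          (B.1.map (MulAut.conj (h : MulAut V)).toMonoidHom).map (MulAut.conj (g : MulAut V)).toMonoidHom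
        rw [Subgroup.map_map]
        congr 1) }
  let ψ : H →* Equiv.Perm Om := MulAction.toPermHom H Om
  have hlift : ∀ f : Subgroup H, f.Normal → (∀ a b : H, (a : MulAut V) ∈ T → (b : MulAut V) ∈ T →
      a * b * a⁻¹ * b⁻¹ ∈ f) → ∀ t : H, (t : MulAut V) ∈ T → t ∈ f := by
    intro f hf hc t ht
    have := hprop (f.map H.subtype) (map_subtype_le f) (fun h hh l hl => by
      obtain ⟨l, hl, rfl⟩ := hl
      exact ⟨_, hf.conj_mem l hl ⟨h, hh⟩, rfl⟩)
      (fun a ha b hb => ⟨_, hc ⟨a, hTH ha⟩ ⟨b, hTH hb⟩ ha hb, rfl⟩) ht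
    obtain ⟨t', ht', he⟩ := this
    rwa [Subtype.ext he] at ht'
  let T' : Subgroup H := T.subgroupOf H
  have hT'2 : IsPGroup 2 T' := hT.of_equiv (subgroupOfEquivOfLe hTH).symm
  have htriv : ∀ t : H, (t : MulAut V) ∈ T → ψ t = 1 := by
    have hsign : ∀ t : H, (t : MulAut V) ∈ T → Equiv.Perm.sign (ψ t) = 1 :=
      hlift (Equiv.Perm.sign.comp ψ).ker inferInstance (fun a b _ _ => by
        rw [MonoidHom.mem_ker, map_mul, map_mul, map_mul, map_inv, map_inv,
          mul_comm (Equiv.Perm.sign.comp ψ a), mul_inv_cancel_right, mul_inv_cancel])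
    let I : Subgroup (Equiv.Perm Om) := T'.map ψ
    have hI2 : IsPGroup 2 I := hT'2.map ψ
    have hIalt : I ≤ alternatingGroup Om := by
      rintro _ ⟨t, ht, rfl⟩; exact hsign t ht
    have hI4 : Nat.card I ≤ 4 := by
      obtain ⟨k, hk⟩ := IsPGroup.iff_card.1 hI2
      have hdvd : Nat.card I ∣ Nat.card (alternatingGroup Om) := card_dvd_of_le hIalt
      by_cases hn : Nontrivial Om
      · have h2 : 2 * Nat.card (alternatingGroup Om) = Nat.factorial (Nat.card Om) := by
          rw [Nat.card_eq_fintype_card, two_mul_card_alternatingGroup, Fintype.card_perm,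
            Nat.card_eq_fintype_card]
        have hd : 2 * Nat.card I ∣ Nat.factorial 4 :=
          (Nat.mul_dvd_mul_left 2 hdvd).trans (h2 ▸ Nat.factorial_dvd_factorial hm4)
        rw [hk] at hd ⊢
        by_contra hlt
        have h3 : 3 ≤ k := by
          by_contra h
          have := Nat.pow_le_pow_right (show 0 < 2 by norm_num) (show k ≤ 2 by omega)
          omega
        have h8 : 2 ^ 3 ∣ 2 ^ k := pow_dvd_pow 2 h3
        have := (Nat.mul_dvd_mul_left 2 h8).trans hd
        norm_num [Nat.factorial] at this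
      · rw [not_nontrivial_iff_subsingleton] at hn
        have : Subsingleton (Equiv.Perm Om) := inferInstance
        rw [Nat.card_of_subsingleton (1 : I)]; norm_num
    have hIc : ∀ a b : I, a * b = b * a := by
      obtain ⟨k, hk⟩ := IsPGroup.iff_card.1 hI2
      have hk2 : k ≤ 2 := by
        by_contra h
        have := Nat.pow_le_pow_right (show 0 < 2 by norm_num) (show 3 ≤ k by omega)
        omega
      interval_cases k
      · haveI : Subsingleton I := (Nat.card_eq_one_iff_unique.1 hk).1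
        exact fun a b => Subsingleton.elim _ _
      · haveI : IsCyclic I := isCyclic_of_prime_card (p := 2) (hk.trans (pow_one 2))
        exact fun a b => (IsCyclic.commGroup (α := I)).mul_comm a b
      · exact fun a b => (IsPGroup.isMulCommutative_of_card_eq_prime_sq hk).is_comm.comm a b
    exact hlift ψ.ker inferInstance (fun a b ha hb => by
      have := congrArg Subtype.val (hIc ⟨ψ a, mem_map_of_mem ψ ha⟩ ⟨ψ b, mem_map_of_mem ψ hb⟩)
      simp only [Subgroup.coe_mul] at this
      rw [MonoidHom.mem_ker, map_mul, map_mul, map_mul, map_inv, map_inv, this, mul_inv_cancel_right,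
        mul_inv_cancel])
  have hfixB : ∀ B : Om, ∀ t ∈ T, ∀ x ∈ B.1, t⁻¹ * x * t ∈ B.1 := by
    intro B t ht x hx
    have := htriv ⟨t, hTH ht⟩ ht
    have hB : B.1.map (MulAut.conj t).toMonoidHom = B.1 := congrArg Subtype.val (Equiv.ext_iff.1 this B)
    obtain ⟨y, hy, hyx⟩ := hB.symm ▸ hx
    rw [← hyx]; simpa [mul_assoc] using hy
  have huniq : ∀ B C : Om, B = C := by
    intro B C
    by_contra hBC
    obtain ⟨u, hu, hu1, huf⟩ := exists_fixed_in hV hT _ B.2.1.2
      (fun t ht v hv => apply_mem_fixP t (hfixB B t ht) hv)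
    obtain ⟨w, hw, hw1, hwf⟩ := exists_fixed_in hV hT _ C.2.1.2
      (fun t ht v hv => apply_mem_fixP t (hfixB C t ht) hv)
    exact hu1 (hdisj B C hBC u hu (hfix u w huf hwf hu1 hw1 ▸ hw))
  obtain ⟨B0, -⟩ := hext ⊥ hbotP
  have hB0A : B0.1 ≠ A := fun h => B0.2.1.2 (h.symm ▸ hfA)
  have helt : ∀ a ∈ A, a ∉ B0.1 → ∀ v, a v = v → v = 1 := by
    intro a ha hna v hv
    by_contra hv1
    obtain ⟨C, hC⟩ := hext (zpowers a) ⟨zpowers_le.2 ha, fun h => hv1 (by
      have : v ∈ fixP (zpowers a) := by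
        rintro _ ⟨n, rfl⟩
        have hm : a ∈ (MulAction.stabilizer (MulAut V) v) := hv
        exact Subgroup.zpow_mem _ hm n
      rwa [h, mem_bot] at this)⟩
    exact hna (huniq C B0 ▸ hC (mem_zpowers a))
  have hVr : ∀ v : V, v ^ r = v := by
    intro v
    obtain ⟨k, hk⟩ := hrP.odd_of_ne_two hr2
    rw [hk, pow_succ, pow_mul, pow_two, hV, one_pow, one_mul]
  have hpowmem : ∀ x ∈ B0.1, x ≠ 1 → ∀ (j : ℕ), 0 < j → j < r → x ∈ zpowers (x ^ j) := by
    intro x hx hx1 j hj hjr
    have hord : orderOf x = r :=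
      (orderOf_eq_prime (hAr x (B0.2.1.1 hx)) hx1)
    exact mem_zpowers_pow_iff.2 (by
      rw [hord]; exact Nat.coprime_comm.1 (hrP.coprime_iff_not_dvd.2 (Nat.not_dvd_of_pos_of_lt hj hjr)))
  obtain ⟨α, hαA, hαB⟩ := SetLike.exists_of_lt (lt_of_le_of_ne B0.2.1.1 hB0A)
  have hB0 : B0.1 = ⊥ := by
    rw [eq_bot_iff]
    intro β hβ
    rw [mem_bot]
    by_contra hβ1
    let S : Subgroup V := fixP (zpowers β)
    have key : ∀ v : V, v ^ r ∈ S := fun v =>
      CoprimeGen.pow_mem_of_fixed α β (hAc α hαA β (B0.2.1.1 hβ)) r hrP.pos (hAr α hαA)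
        (hAr β (B0.2.1.1 hβ)) S
        (fun i _ y hy => by
          have : y = 1 := helt _ (A.mul_mem hαA (A.pow_mem (B0.2.1.1 hβ) i))
            (fun h => hαB (by simpa using B0.1.mul_mem h (B0.1.inv_mem (B0.1.pow_mem hβ i)))) y hy
          rw [this]; exact S.one_mem)
        (fun j hj hjr y hy => by
          intro x hx
          have hm : β ^ j ∈ MulAction.stabilizer (MulAut V) y := hy
          have : zpowers β ≤ MulAction.stabilizer (MulAut V) y :=
            zpowers_le.2 (zpowers_le.2 hm (hpowmem β hβ hβ1 j hj hjr))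
          exact this hx) v
    apply hβ1
    refine MulEquiv.ext fun v => ?_
    have := key v
    rw [hVr] at this
    exact this β (mem_zpowers β)
  have hcyc : ∀ a ∈ A, a ≠ 1 → ∀ b ∈ A, b ∈ zpowers a := by
    intro a ha ha1 b hb
    by_contra hba
    have hne : ∀ i : ℕ, b * a ^ i ≠ 1 := fun i h => hba (by
      rw [mul_eq_one_iff_eq_inv] at h; rw [h]; exact inv_mem (pow_mem (mem_zpowers a) i))
    have key : ∀ v : V, v ^ r ∈ (⊥ : Subgroup V) := fun v =>
      CoprimeGen.pow_mem_of_fixed b a (hAc b hb a ha) r hrP.pos (hAr b hb) (hAr a ha) ⊥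
        (fun i _ y hy => mem_bot.2 (helt _ (A.mul_mem hb (A.pow_mem ha i))
          (by rw [hB0, mem_bot]; exact hne i) y hy))
        (fun j hj hjr y hy => mem_bot.2 (helt _ (A.pow_mem ha j) (by
          rw [hB0, mem_bot]
          intro h
          have := Nat.le_of_dvd hj (orderOf_dvd_of_pow_eq_one h)
          rw [orderOf_eq_prime (hAr a ha) ha1] at this; omega) y hy)) v
    obtain ⟨v, hv⟩ := exists_ne (1 : V)
    exact hv (by simpa [hVr] using key v)
  obtain ⟨a, ha, ha1⟩ : ∃ a ∈ A, a ≠ 1 := ⟨α, hαA, fun h => hαB (h ▸ B0.1.one_mem)⟩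
  let Ca : Subgroup H := (centralizer {a}).subgroupOf H
  have hpow : ∀ g : H, ∃ n : ℤ, (g : MulAut V) * a * (g : MulAut V)⁻¹ = a ^ n := fun g => by
    obtain ⟨n, hn⟩ := hcyc a ha ha1 _ (hAn g g.2 a ha)
    exact ⟨n, hn.symm⟩
  have hCa : Ca.Normal := by
    refine ⟨fun c hc g => ?_⟩
    simp only [Ca, mem_subgroupOf, mem_centralizer_singleton_iff, Subgroup.coe_mul, Subgroup.coe_inv] at hc ⊢
    obtain ⟨n, hn⟩ := hpow g⁻¹
    simp only [Subgroup.coe_inv, inv_inv] at hn
    have hcn : Commute (c : MulAut V) (a ^ n) := (Commute.zpow_right hc n)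
    have e1 : a = (g : MulAut V) * a ^ n * (g : MulAut V)⁻¹ := by rw [← hn]; group
    change Commute _ a
    rw [e1]
    exact (Commute.conj_iff _).2 hcn
  have hTa : ∀ t ∈ T, t * a = a * t := by
    intro t ht
    have := hlift Ca hCa (fun x y _ _ => by
      simp only [Ca, mem_subgroupOf, mem_centralizer_singleton_iff, Subgroup.coe_mul, Subgroup.coe_inv]
      obtain ⟨n, hn⟩ := hpow x⁻¹
      obtain ⟨m, hm⟩ := hpow y⁻¹
      simp only [Subgroup.coe_inv] at hn hm
      generalize (x : MulAut V) = X at hn ⊢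
      generalize (y : MulAut V) = Y at hm ⊢
      have h2 : MulAut.conj X⁻¹ (MulAut.conj Y⁻¹ a) = MulAut.conj Y⁻¹ (MulAut.conj X⁻¹ a) := by
        rw [show MulAut.conj Y⁻¹ a = a ^ m from hm, show MulAut.conj X⁻¹ a = a ^ n from hn,
          map_zpow, map_zpow,
          show MulAut.conj Y⁻¹ a = a ^ m from hm, show MulAut.conj X⁻¹ a = a ^ n from hn,
          ← zpow_mul, ← zpow_mul, mul_comm]
      simp only [MulAut.conj_apply, inv_inv] at h2
      calc X * Y * X⁻¹ * Y⁻¹ * a
          = X * Y * (X⁻¹ * (Y⁻¹ * a * Y) * X) * X⁻¹ * Y⁻¹ := by group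
        _ = X * Y * (Y⁻¹ * (X⁻¹ * a * X) * Y) * X⁻¹ * Y⁻¹ := by rw [h2]
        _ = a * (X * Y * X⁻¹ * Y⁻¹) := by group) ⟨t, hTH ht⟩ ht
    simpa [Ca, mem_subgroupOf, mem_centralizer_singleton_iff] using this
  obtain ⟨u, -, hu1, huf⟩ := exists_fixed_in hV hT ⊤ top_ne_bot (fun _ _ _ _ => trivial)
  have hau : ∀ t ∈ T, t (a u) = a u := fun t ht => by
    rw [← MulAut.mul_apply, hTa t ht, MulAut.mul_apply, huf t ht]
  have hau1 : a u ≠ 1 := fun h => hu1 (by simpa using congrArg a.symm h)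
  exact hu1 (helt a ha (by rw [hB0, mem_bot]; exact ha1) u (hfix _ _ hau huf hau1 hu1))

/-- An odd normal subgroup of automorphisms is trivial. -/
theorem odd_normal_bot [Finite V] (hV : ∀ v : V, v * v = 1) (hV8 : Nat.card V ≤ 256)
    (H T K : Subgroup (MulAut V)) (hTH : T ≤ H) (hT : IsPGroup 2 T) (hKH : K ≤ H)
    (hKn : ∀ h ∈ H, ∀ k ∈ K, h * k * h⁻¹ ∈ K) (hK : Odd (Nat.card K))
    (hfix : ∀ a b : V, (∀ t ∈ T, t a = a) → (∀ t ∈ T, t b = b) → a ≠ 1 → b ≠ 1 → a = b)
    (hprop : ∀ H1 : Subgroup (MulAut V), T ≤ H1 → H1 ≤ H → H ≤ H1 ⊔ K →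
      ∀ L : Subgroup (MulAut V), L ≤ H1 → (∀ h ∈ H1, ∀ l ∈ L, h * l * h⁻¹ ∈ L) →
      (∀ a ∈ T, ∀ b ∈ T, a * b * a⁻¹ * b⁻¹ ∈ L) → T ≤ L) :
    K = ⊥ := by
  classical
  rw [← Subgroup.card_eq_one]
  by_contra hK1
  obtain ⟨r, hr, hrK⟩ := Nat.exists_prime_and_dvd hK1
  haveI : Fact r.Prime := ⟨hr⟩
  haveI : Fact (Nat.Prime 2) := ⟨Nat.prime_two⟩
  have hr2 : r ≠ 2 := by
    rintro rfl
    exact (Nat.not_even_iff_odd.2 hK) (even_iff_two_dvd.2 hrK)
  -- T acts on the Sylow r-subgroups of K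
  let conjK : T →* MulAut K :=
    { toFun := fun t =>
        { toFun := fun k => ⟨(t : MulAut V) * k * (t : MulAut V)⁻¹, hKn _ (hTH t.2) _ k.2⟩
          invFun := fun k => ⟨(t : MulAut V)⁻¹ * k * (t : MulAut V), by
            simpa using hKn _ (H.inv_mem (hTH t.2)) _ k.2⟩
          left_inv := fun k => Subtype.ext (by simp [mul_assoc])
          right_inv := fun k => Subtype.ext (by simp [mul_assoc])
          map_mul' := fun a b => Subtype.ext (by simp [mul_assoc]) }
      map_one' := by ext k : 2; simp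
      map_mul' := fun a b => by ext k : 2; simp [mul_assoc] }
  letI : MulDistribMulAction T K := MulDistribMulAction.compHom K conjK
  have hns : ¬ 2 ∣ Nat.card (Sylow r K) := by
    intro h
    let R : Sylow r K := default
    have h2 : 2 ∣ Nat.card K := by
      rw [Sylow.card_eq_index_normalizer R] at h
      exact h.trans (Subgroup.index_dvd_card _)
    exact (Nat.not_even_iff_odd.2 hK) (even_iff_two_dvd.2 h2)
  obtain ⟨R, hR⟩ := hT.nonempty_fixed_point_of_prime_not_dvd_card (Sylow r K) hns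
  let R' : Subgroup (MulAut V) := (R : Subgroup K).map K.subtype
  have hR'K : R' ≤ K := map_subtype_le _
  have hTR : ∀ t ∈ T, ∀ x ∈ R', t * x * t⁻¹ ∈ R' := by
    rintro t ht _ ⟨x, hx, rfl⟩
    have h := hR ⟨t, ht⟩
    have hm : (⟨t, ht⟩ : T) • x ∈ (((⟨t, ht⟩ : T) • R : Sylow r K) : Subgroup K) :=
      Subgroup.smul_mem_pointwise_smul x (⟨t, ht⟩ : T) (R : Subgroup K) hx
    rw [h] at hm
    exact ⟨_, hm, rfl⟩
  let H1 : Subgroup (MulAut V) := H ⊓ Subgroup.normalizer (R' : Set (MulAut V))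
  have hTinH1 : T ≤ H1 := fun t ht => ⟨hTH ht, Subgroup.mem_normalizer_iff.2 fun x =>
    ⟨hTR t ht x, fun hx => by
      simpa [mul_assoc] using hTR t⁻¹ (T.inv_mem ht) _ hx⟩⟩
  have hfr : H ≤ H1 ⊔ K := by
    intro h hh
    let c : K ≃* K :=
      { toFun := fun k => ⟨h * k * h⁻¹, hKn _ hh _ k.2⟩
        invFun := fun k => ⟨h⁻¹ * k * h, by simpa using hKn _ (H.inv_mem hh) _ k.2⟩
        left_inv := fun k => Subtype.ext (by simp [mul_assoc])
        right_inv := fun k => Subtype.ext (by simp [mul_assoc])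
        map_mul' := fun a b => Subtype.ext (by simp [mul_assoc]) }
    let R2 : Sylow r K := R.comapOfInjective c.toMonoidHom c.injective
      (by rw [MonoidHom.range_eq_top.2 c.surjective]; exact le_top)
    obtain ⟨k, hk⟩ := MulAction.exists_smul_eq K R R2
    -- h * k normalises R'
    have hmem : h * k ∈ Subgroup.normalizer (R' : Set (MulAut V)) := by
      rw [Subgroup.mem_normalizer_iff]
      have key : ∀ y : K, y ∈ (R : Subgroup K) ↔ c (k * y * k⁻¹) ∈ (R : Subgroup K) := by
        intro y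
        have e : (R2 : Subgroup K) = (R : Subgroup K).comap c.toMonoidHom := rfl
        rw [← hk] at e
        constructor
        · intro hy
          have : k * y * k⁻¹ ∈ ((k • R : Sylow r K) : Subgroup K) := by
            rw [Sylow.coe_subgroup_smul]
            exact ⟨y, hy, rfl⟩
          rw [e] at this; exact this
        · intro hy
          have hy' : k * y * k⁻¹ ∈ (R : Subgroup K).comap c.toMonoidHom := hy
          rw [← e, Sylow.coe_subgroup_smul] at hy'
          obtain ⟨z, hz, he⟩ := hy'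
          simp only [MulDistribMulAction.toMonoidEnd_apply, MulDistribMulAction.toMonoidHom_apply,
            MulAut.smul_def, MulAut.conj_apply, mul_left_inj, mul_right_inj] at he
          exact he ▸ hz
      intro x
      constructor
      · rintro ⟨y, hy, rfl⟩
        exact ⟨_, (key y).1 hy, by simp [c, mul_assoc]⟩
      · rintro ⟨y, hy, he⟩
        have hxK : x ∈ K := by
          have : x = (k : MulAut V)⁻¹ * (h⁻¹ * (y : MulAut V) * h) * k := by
            rw [show (y : MulAut V) = h * k * x * (h * k)⁻¹ from he]; group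
          rw [this]
          exact K.mul_mem (K.mul_mem (K.inv_mem k.2)
            (by simpa using hKn _ (H.inv_mem hh) _ y.2)) k.2
        refine ⟨⟨x, hxK⟩, (key _).2 ?_, rfl⟩
        have e : c (k * ⟨x, hxK⟩ * k⁻¹) = y := by
          apply Subtype.ext
          simpa [c, mul_assoc] using he.symm
        rw [e]; exact hy
    have : h = (h * k) * (k : MulAut V)⁻¹ := by group
    rw [this]
    exact Subgroup.mul_mem_sup ⟨H.mul_mem hh (hKH k.2), hmem⟩ (K.inv_mem k.2)
  -- the elements of order dividing r in the centre of R'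
  let A : Subgroup (MulAut V) :=
    { carrier := {a | a ∈ R' ∧ a ^ r = 1 ∧ ∀ x ∈ R', a * x = x * a}
      one_mem' := ⟨R'.one_mem, one_pow r, fun x _ => by simp⟩
      mul_mem' := fun {a b} ⟨ha, har, hac⟩ ⟨hb, hbr, hbc⟩ => ⟨R'.mul_mem ha hb,
        by rw [(show Commute a b from hac b hb).mul_pow, har, hbr, one_mul],
        fun x hx => ((show Commute a x from hac x hx).mul_left (hbc x hx)).eq⟩
      inv_mem' := fun {a} ⟨ha, har, hac⟩ => ⟨R'.inv_mem ha, by rw [inv_pow, har, inv_one],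
        fun x hx => (show Commute a x from hac x hx).inv_left.eq⟩ }
  have hA : A = ⊥ := by
    refine abelian_bot hV hV8 H1 T A hTinH1 hT hr2 (fun a ha => ha.2.1)
      (fun a ha b hb => ha.2.2 b hb.1) (fun h hh a ha => ?_) hfix (hprop H1 hTinH1 inf_le_left hfr)
    have hn := Subgroup.mem_normalizer_iff.1 hh.2
    refine ⟨(hn a).1 ha.1, by rw [conj_pow, ha.2.1, mul_one, mul_inv_cancel], fun x hx => ?_⟩
    have hx' : h⁻¹ * x * h ∈ R' := (hn _).2 (by simpa [mul_assoc] using hx)
    have := ha.2.2 _ hx'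
    calc h * a * h⁻¹ * x = h * (a * (h⁻¹ * x * h)) * h⁻¹ := by group
      _ = h * ((h⁻¹ * x * h) * a) * h⁻¹ := by rw [this]
      _ = x * (h * a * h⁻¹) := by group
  have hRne : (R : Subgroup K) ≠ ⊥ := R.ne_bot_of_dvd_card hrK
  haveI : Nontrivial (R : Subgroup K) := (Subgroup.nontrivial_iff_ne_bot _).2 hRne
  haveI := R.isPGroup'.center_nontrivial
  obtain ⟨m, hm⟩ := IsPGroup.iff_card.1 ((R.isPGroup').to_subgroup (center (R : Subgroup K)))
  have hdvd : r ∣ Nat.card (center (R : Subgroup K)) := by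
    rw [hm]
    refine dvd_pow_self r fun h => ?_
    subst h
    rw [pow_zero] at hm
    have := Finite.one_lt_card (α := center (R : Subgroup K))
    omega
  obtain ⟨z, hz⟩ := exists_prime_orderOf_dvd_card' r hdvd
  have hzA : ((z.1.1 : K) : MulAut V) ∈ A := by
    refine ⟨⟨_, z.1.2, rfl⟩, ?_, ?_⟩
    · have := pow_orderOf_eq_one z
      rw [hz] at this
      exact congrArg (fun w : center (R : Subgroup K) => ((w.1.1 : K) : MulAut V)) this
    · rintro _ ⟨x, hx, rfl⟩
      have := mem_center_iff.1 z.2 ⟨x, hx⟩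
      exact (congrArg (fun w : (R : Subgroup K) => ((w.1 : K) : MulAut V)) this).symm
  rw [hA, mem_bot] at hzA
  have : z = 1 := Subtype.ext (Subtype.ext (Subtype.ext hzA))
  rw [this, orderOf_one] at hz
  exact hr.one_lt.ne' hz.symm

end Cfsg.Agent.FourCentral81
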