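import Mathlib

/-!
Structure of a 2-group whose fourth centre has order 16 and which has a large self-centralising
"saturated" subgroup `W = C(Z₃)`.
-/

set_option autoImplicit false
set_option linter.style.haveILetI false

namespace Cfsg.Agent.FourCentral81

open Subgroup
open scoped commutatorElement

/-- If every subgroup of index at most two containing `N` contains `x`, and all squares lie in the
normal subgroup `N` of a finite 2-group, then `x ∈ N`. -/
theorem mem_of_forall_index_le_two {K : Type*} [Group K] [Finite K] (hK : IsPGroup 2 K)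
    (N : Subgroup K) [N.Normal] (hsq : ∀ y : K, y * y ∈ N) (x : K)
    (h : ∀ U : Subgroup K, U.index ≤ 2 → N ≤ U → x ∈ U) : x ∈ N := by
  by_contra hx
  let s : Set (Subgroup K) := {U | N ≤ U ∧ x ∉ U}
  obtain ⟨U, ⟨hNU, hxU⟩, hmax⟩ := Set.Finite.exists_maximal s.toFinite ⟨N, le_rfl, hx⟩
  have hnorm : U.Normal := by
    refine ⟨fun u hu g => ?_⟩
    have hab : g * u * g⁻¹ * u⁻¹ ∈ N := by
      have e : g * u * g⁻¹ * u⁻¹ = (g * g) * ((g⁻¹ * u) * (g⁻¹ * u)) * (u⁻¹ * u⁻¹) := by group
      rw [e]
      exact N.mul_mem (N.mul_mem (hsq g) (hsq _)) (hsq _)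
    simpa using U.mul_mem (hNU hab) hu
  have hcard : Nat.card (K ⧸ U) ≤ 2 := by
    have hall : ∀ q : K ⧸ U, q = 1 ∨ q = (x : K ⧸ U) := by
      intro q
      induction q using QuotientGroup.induction_on with
      | _ y =>
      by_cases hy : y ∈ U
      · exact Or.inl ((QuotientGroup.eq_one_iff y).2 hy)
      right
      -- x ∈ U ⊔ ⟨y⟩ by maximality
      have hxmem : x ∈ U ⊔ zpowers y := by
        by_contra hc
        have : U ⊔ zpowers y ≤ U := hmax ⟨hNU.trans le_sup_left, hc⟩ le_sup_left
        exact hy (this ((le_sup_right : zpowers y ≤ U ⊔ zpowers y) (mem_zpowers y)))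
      rw [← SetLike.mem_coe, normal_mul] at hxmem
      obtain ⟨u, hu, z, ⟨n, rfl⟩, rfl⟩ := hxmem
      have hy2 : (y : K ⧸ U) * y = 1 := (QuotientGroup.eq_one_iff _).2 (hNU (hsq y))
      have hu1 : (u : K ⧸ U) = 1 := (QuotientGroup.eq_one_iff u).2 hu
      simp only [QuotientGroup.mk_mul, hu1, one_mul, QuotientGroup.mk_zpow]
      rcases Int.even_or_odd' n with ⟨k, rfl | rfl⟩
      · exfalso; apply hxU
        rw [← QuotientGroup.eq_one_iff]
        simp only [QuotientGroup.mk_mul, hu1, one_mul, QuotientGroup.mk_zpow]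
        rw [zpow_mul, show ((y : K ⧸ U) ^ (2 : ℤ)) = 1 by rw [zpow_two, hy2], one_zpow]
      · rw [zpow_add, zpow_mul, show ((y : K ⧸ U) ^ (2 : ℤ)) = 1 by rw [zpow_two, hy2], one_zpow,
          one_mul, zpow_one]
    have := Fintype.ofFinite (K ⧸ U)
    classical
    rw [Nat.card_eq_fintype_card, ← Finset.card_univ]
    calc (Finset.univ : Finset (K ⧸ U)).card ≤ ({1, (x : K ⧸ U)} : Finset (K ⧸ U)).card :=
          Finset.card_le_card fun q _ => by rcases hall q with r | r <;> simp [r]
      _ ≤ 2 := Finset.card_le_two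
  exact hxU (h U (by rw [index_eq_card]; exact hcard) hNU)

/-- A 2-group acting on an elementary abelian 2-group with at most one nontrivial fixed point:
the order is bounded by the regular module. -/
theorem card_le_two_pow {Q V : Type*} [Group Q] [Finite Q] [CommGroup V] [Finite V]
    (hQ : IsPGroup 2 Q) (hV : ∀ v : V, v * v = 1) (f : Q →* MulAut V)
    (hfix : ∀ a b : V, (∀ g, f g a = a) → (∀ g, f g b = b) → a ≠ 1 → b ≠ 1 → a = b) :
    Nat.card V ≤ 2 ^ Nat.card Q := by
  letI : MulDistribMulAction Q V := MulDistribMulAction.compHom V f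
  have hVp : IsPGroup 2 V := fun v => ⟨1, by simpa [pow_two] using hV v⟩
  by_cases h1 : Nat.card V = 1
  · rw [h1]; exact Nat.one_le_two_pow
  haveI : Nontrivial V := (Finite.one_lt_card_iff_nontrivial).1 (by have := Nat.card_pos (α := V); omega)
  obtain ⟨n, hn⟩ := IsPGroup.iff_card.1 hVp
  have h2V : 2 ∣ Nat.card V := by
    rw [hn]
    rcases n with _ | n
    · rw [pow_zero] at hn; exact absurd hn h1
    · exact dvd_pow_self 2 (by omega)
  haveI : Fact (Nat.Prime 2) := ⟨Nat.prime_two⟩
  have hfixpt : ∀ X : Subgroup V, X ≠ ⊥ → (∀ g : Q, ∀ x ∈ X, f g x ∈ X) →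
      ∃ a ∈ X, a ≠ 1 ∧ ∀ g, f g a = a := by
    intro X hX hinv
    letI : MulAction Q X :=
      { smul := fun g x => ⟨f g x, hinv g _ x.2⟩
        one_smul := fun x => Subtype.ext (by change f 1 (x : V) = x; rw [map_one]; rfl)
        mul_smul := fun g h x => Subtype.ext (by
          change f (g * h) (x : V) = f g (f h x); rw [map_mul]; rfl) }
    have h2X : 2 ∣ Nat.card X := by
      obtain ⟨k, hk⟩ := IsPGroup.iff_card.1 (hVp.to_subgroup X)
      have hXc : 1 < Nat.card X := X.one_lt_card_iff_ne_bot.2 hX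
      rcases k with _ | k
      · rw [pow_zero] at hk; rw [hk] at hXc; omega
      · rw [hk]; exact dvd_pow_self 2 (by omega)
    obtain ⟨a, ha, hne⟩ := hQ.exists_fixed_point_of_prime_dvd_card_of_fixed_point X h2X
      (a := (1 : X)) (fun g => Subtype.ext (map_one (f g)))
    exact ⟨a, a.2, fun h => hne (Subtype.ext h.symm), fun g => congrArg Subtype.val (ha g)⟩
  obtain ⟨v0, -, hv0, hv0f⟩ := hfixpt ⊤ top_ne_bot (fun _ _ _ => trivial)
  -- a maximal subgroup avoiding `v0`
  obtain ⟨U, hU, hUmax⟩ := Set.Finite.exists_maximal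
    ({U : Subgroup V | v0 ∉ U} : Set (Subgroup V)).toFinite ⟨⊥, by simpa using hv0⟩
  have hUind : ∀ v : V, v ∈ U ∨ v * v0 ∈ U := by
    intro v
    by_cases hv : v ∈ U
    · exact Or.inl hv
    right
    have hmem : v0 ∈ U ⊔ zpowers v := by
      by_contra hc
      exact hv (hUmax hc le_sup_left ((le_sup_right : zpowers v ≤ U ⊔ zpowers v) (mem_zpowers v)))
    rw [mem_sup] at hmem
    obtain ⟨u, hu, z, ⟨k, rfl⟩, hz⟩ := hmem
    dsimp only at hz
    rcases Int.even_or_odd' k with ⟨j, rfl | rfl⟩
    · exfalso; apply hU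
      rw [← hz, zpow_mul, show v ^ (2 : ℤ) = 1 by rw [zpow_two, hV], one_zpow, mul_one]; exact hu
    · rw [zpow_add, zpow_mul, show v ^ (2 : ℤ) = 1 by rw [zpow_two, hV], one_zpow, one_mul,
        zpow_one] at hz
      rw [← hz, mul_comm u v, ← mul_assoc, hV, one_mul]; exact hu
  classical
  let lam : V → Bool := fun v => decide (v ∈ U)
  let F : V → Q → Bool := fun v g => lam (f g v)
  have hF : Function.Injective F := by
    intro a b hab
    let X : Subgroup V :=
      { carrier := {v | ∀ g, f g v ∈ U}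
        mul_mem' := fun hx hy g => by rw [map_mul]; exact U.mul_mem (hx g) (hy g)
        one_mem' := fun g => by rw [map_one]; exact U.one_mem
        inv_mem' := fun hx g => by rw [map_inv]; exact U.inv_mem (hx g) }
    have hXbot : X = ⊥ := by
      by_contra hX
      obtain ⟨c, hcX, hc1, hcf⟩ := hfixpt X hX (fun g x hx h => by
        have := hx (h * g); rw [map_mul] at this; exact this)
      have hc := hfix c v0 hcf hv0f hc1 hv0
      have := hcX 1
      rw [map_one] at this
      exact hU (hc ▸ this)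
    have hab' : a * b ∈ X := by
      intro g
      rw [map_mul]
      have he : lam (f g a) = lam (f g b) := congrFun hab g
      simp only [lam, decide_eq_decide] at he
      rcases hUind (f g a) with h | h
      · exact U.mul_mem h (he.1 h)
      · rcases hUind (f g b) with h' | h'
        · exact U.mul_mem (he.2 h') h'
        · have := U.mul_mem h h'
          rwa [mul_mul_mul_comm, hV v0, mul_one] at this
    rw [hXbot, mem_bot] at hab'
    calc a = a * (b * b) := by rw [hV, mul_one]
      _ = b := by rw [← mul_assoc, hab', one_mul]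
  have := Nat.card_le_card_of_injective F hF
  simpa [Nat.card_fun] using this

section Structure

variable {P : Type*} [Group P] [Finite P]

theorem ucs_lt_succ (hP : IsPGroup 2 P) (i : ℕ) (h : Subgroup.upperCentralSeries P i ≠ ⊤) :
    Subgroup.upperCentralSeries P i < Subgroup.upperCentralSeries P (i + 1) := by
  haveI : Fact (Nat.Prime 2) := ⟨Nat.prime_two⟩
  haveI : Group.IsNilpotent P := hP.isNilpotent
  refine lt_of_le_of_ne (Subgroup.upperCentralSeries_mono P (Nat.le_succ i)) fun he => h ?_
  obtain ⟨n, hn⟩ := Group.IsNilpotent.nilpotent P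
  have hstab : ∀ j, Subgroup.upperCentralSeries P (i + j) = Subgroup.upperCentralSeries P i := by
    intro j
    induction j with
    | zero => rfl
    | succ j ih =>
      apply le_antisymm _ (Subgroup.upperCentralSeries_mono P (by omega))
      intro x hx
      have hx' : x ∈ Subgroup.upperCentralSeries P (i + j + 1) := hx
      rw [Subgroup.mem_upperCentralSeries_succ_iff] at hx'
      rw [he, Subgroup.mem_upperCentralSeries_succ_iff]
      intro y; rw [← ih]; exact hx' y
  rcases Nat.le_total n i with hle | hle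
  · exact top_le_iff.1 (hn ▸ Subgroup.upperCentralSeries_mono P hle)
  · obtain ⟨j, rfl⟩ := Nat.exists_eq_add_of_le hle
    rw [← hstab j]; exact hn

theorem card_double_of_lt {H K : Subgroup P} (hP : IsPGroup 2 P) (h : H < K) :
    2 * Nat.card H ≤ Nat.card K := by
  haveI : Fact (Nat.Prime 2) := ⟨Nat.prime_two⟩
  obtain ⟨a, ha⟩ := IsPGroup.iff_card.1 (hP.to_subgroup H)
  obtain ⟨b, hb⟩ := IsPGroup.iff_card.1 (hP.to_subgroup K)
  have hlt : Nat.card H < Nat.card K := by
    rcases Nat.lt_or_ge (Nat.card H) (Nat.card K) with h1 | h1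
    · exact h1
    · exact absurd (Subgroup.eq_of_le_of_card_ge h.le h1) h.ne
  rw [ha, hb] at hlt ⊢
  have := (Nat.pow_lt_pow_iff_right (by norm_num : 1 < 2)).1 hlt
  calc 2 * 2 ^ a = 2 ^ (a + 1) := by rw [pow_succ, mul_comm]
    _ ≤ 2 ^ b := Nat.pow_le_pow_right (by norm_num) (by omega)

theorem ucs_card (hP : IsPGroup 2 P) (ha : 2 ^ 14 ≤ Nat.card P)
    (hb : Nat.card (Subgroup.upperCentralSeries P 4) = 16) (i : ℕ) (hi : i ≤ 4) :
    Nat.card (Subgroup.upperCentralSeries P i) = 2 ^ i := by
  have h4 : Subgroup.upperCentralSeries P 4 ≠ ⊤ := fun h => by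
    rw [h, Subgroup.card_top] at hb; omega
  have hne : ∀ j ≤ 4, Subgroup.upperCentralSeries P j ≠ ⊤ := fun j hj h =>
    h4 (top_le_iff.1 (h ▸ Subgroup.upperCentralSeries_mono P hj))
  have h0 : Nat.card (Subgroup.upperCentralSeries P 0) = 1 := by
    rw [Subgroup.upperCentralSeries_zero]; exact Subgroup.card_bot
  have step : ∀ j, j < 4 → 2 * Nat.card (Subgroup.upperCentralSeries P j) ≤
      Nat.card (Subgroup.upperCentralSeries P (j + 1)) :=
    fun j hj => card_double_of_lt hP (ucs_lt_succ hP j (hne j hj.le))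
  have s0 := step 0 (by omega)
  have s1 := step 1 (by omega)
  have s2 := step 2 (by omega)
  have s3 := step 3 (by omega)
  simp only [zero_add, show 1 + 1 = 2 from rfl, show 2 + 1 = 3 from rfl, show 3 + 1 = 4 from rfl]
    at s0 s1 s2 s3
  interval_cases i <;> omega

theorem exists_le_ucs (hP : IsPGroup 2 P) :
    ∀ (j : ℕ) (N : Subgroup P), N.Normal → Nat.card N ≤ 2 ^ j → N ≤ Subgroup.upperCentralSeries P j := by
  intro j
  induction j with
  | zero =>
    intro N _ hc
    have : N = ⊥ := Subgroup.card_eq_one.1 (le_antisymm (by simpa using hc) Nat.card_pos)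
    rw [this]; exact bot_le
  | succ j ih =>
    intro N hN hc x hx
    rw [Subgroup.mem_upperCentralSeries_succ_iff]
    intro y
    -- the commutator subgroup of N with ⊤ is a proper normal subgroup
    let M : Subgroup P := ⁅N, (⊤ : Subgroup P)⁆
    have hMN : M ≤ N := commutator_le_left N ⊤
    have hxy : ⁅x, y⁆ ∈ M := commutator_mem_commutator hx (mem_top y)
    by_cases hN1 : N = ⊥
    · rw [hN1, mem_bot] at hx; subst hx; simp
    have hne : M ≠ N := by
      intro he
      haveI : Fact (Nat.Prime 2) := ⟨Nat.prime_two⟩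
      haveI : Group.IsNilpotent P := hP.isNilpotent
      obtain ⟨n, hn⟩ := Group.IsNilpotent.nilpotent P
      have hdown : ∀ k i, i + k = n → ∀ z ∈ N, z ∈ Subgroup.upperCentralSeries P i := by
        intro k
        induction k with
        | zero => intro i hi z _; rw [show i = n by omega, hn]; trivial
        | succ k ihk =>
          intro i hi z hz
          have hle : M ≤ Subgroup.upperCentralSeries P i := by
            refine (commutator_mono (fun w hw => ihk (i + 1) (by omega) w hw) le_rfl).trans ?_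
            exact Subgroup.commutator_upperCentralSeries_top_le P i
          exact hle (he.symm ▸ hz)
      apply hN1
      rw [eq_bot_iff]
      intro z hz
      simpa using hdown n 0 (by omega) z hz
    have hMc : Nat.card M ≤ 2 ^ j := by
      have := card_double_of_lt hP (lt_of_le_of_ne hMN hne)
      rw [pow_succ] at hc; omega
    exact ih M (Subgroup.commutator_normal N ⊤) hMc hxy

theorem ucs_one_fix {x : P} (hx : x ∈ Subgroup.upperCentralSeries P 1) (y : P) : x * y = y * x := by
  rw [Subgroup.upperCentralSeries_one, mem_center_iff] at hx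
  exact (hx y).symm

/-- The main structural consequences. -/
theorem structure_of_four (hP : IsPGroup 2 P) (ha : 2 ^ 14 ≤ Nat.card P)
    (hb : Nat.card (Subgroup.upperCentralSeries P 4) = 16) (W : Subgroup P)
    (hW : W = centralizer ((Subgroup.upperCentralSeries P 3 : Subgroup P) : Set P))
    (hc : Nat.card (frattini W) ≤ 8) (hd : ∀ U : Subgroup W, U.index ≤ 16 → frattini W ≤ U) :
    W.Normal ∧ W.index = 8 ∧ Nat.card W = 2 ^ 11 ∧
      (commutator W).map W.subtype = Subgroup.upperCentralSeries P 3 ∧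
      Subgroup.upperCentralSeries P 3 ≤ W ∧
      (∀ w ∈ W, w * w ∈ Subgroup.upperCentralSeries P 3) ∧
      (∀ X : Subgroup P, X ≤ W → X.relIndex W ≤ 16 → Subgroup.upperCentralSeries P 3 ≤ X) ∧
      (∀ z ∈ Subgroup.upperCentralSeries P 3, z * z = 1) ∧
      (∀ a b : P, a ∈ W → b ∈ W → (∀ x, ⁅a, x⁆ ∈ Subgroup.upperCentralSeries P 3) →
        (∀ x, ⁅b, x⁆ ∈ Subgroup.upperCentralSeries P 3) → a ∉ Subgroup.upperCentralSeries P 3 →
        b ∉ Subgroup.upperCentralSeries P 3 → a * b⁻¹ ∈ Subgroup.upperCentralSeries P 3) := by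
  haveI : Fact (Nat.Prime 2) := ⟨Nat.prime_two⟩
  have hWn : W.Normal := by
    rw [hW]; exact Subgroup.normal_centralizer
  -- Φ(W) inside P
  let Φ : Subgroup P := (frattini W).map W.subtype
  have hΦc : Nat.card Φ = Nat.card (frattini W) :=
    Nat.card_congr ((frattini W).equivMapOfInjective _ (W.subtype_injective)).toEquiv.symm
  have hΦn : Φ.Normal := ConjAct.normal_of_characteristic_of_normal
  have hΦ3 : Φ ≤ (Subgroup.upperCentralSeries P 3) := exists_le_ucs hP 3 Φ hΦn (by rw [hΦc]; simpa using hc)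
  obtain ⟨k, hk⟩ := IsPGroup.iff_card.1 (hP.to_subgroup Φ)
  have hk3 : k ≤ 3 := by
    have : (2 : ℕ) ^ k ≤ 2 ^ 3 := by rw [← hk, hΦc]; simpa using hc
    exact (Nat.pow_le_pow_iff_right (by norm_num)).1 this
  have hΦk : Φ = (Subgroup.upperCentralSeries P k) := Subgroup.eq_of_le_of_card_ge
    (exists_le_ucs hP k Φ hΦn hk.le) (by rw [hk, ucs_card hP ha hb k (by omega)])
  have hsq : ∀ w ∈ W, w * w ∈ Φ := by
    intro w hw
    refine ⟨⟨w, hw⟩ * ⟨w, hw⟩, ?_, rfl⟩
    change _ ∈ frattini W
    simp only [frattini, Order.radical, Subgroup.mem_iInf]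
    intro U hU
    haveI : U.Normal :=
      (hP.to_subgroup W).isNilpotent |> fun hn => by
        haveI := hn; exact Group.normalizerCondition_of_isNilpotent.normal_of_coatom U hU
    have hidx : U.index = 2 := by
      obtain ⟨m, hm⟩ := (hP.to_subgroup W).index U
      have hm0 : m ≠ 0 := by
        rintro rfl; rw [pow_zero, index_eq_one] at hm; exact hU.1 hm
      obtain ⟨K, hK⟩ := Sylow.exists_subgroup_card_pow_prime 2 (G := W ⧸ U) (n := 1)
        (by rw [pow_one, ← index_eq_card, hm]; exact dvd_pow_self 2 hm0)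
      rw [pow_one] at hK
      have hlt : U < K.comap (QuotientGroup.mk' U) := by
        refine lt_of_le_of_ne (fun u hu => ?_) fun he => ?_
        · simp [(QuotientGroup.eq_one_iff u).2 hu]
        · have : K = ⊥ := by
            rw [← map_comap_eq_self_of_surjective (QuotientGroup.mk'_surjective U) K, ← he,
              QuotientGroup.map_mk'_self]
          rw [this] at hK; simp at hK
      have htop := hU.2 _ hlt
      have hKt : K = ⊤ := by
        rw [← map_comap_eq_self_of_surjective (QuotientGroup.mk'_surjective U) K, htop,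
          map_top_of_surjective _ (QuotientGroup.mk'_surjective U)]
      rw [index_eq_card, ← Subgroup.card_top (G := W ⧸ U), ← hKt, hK]
    exact Subgroup.mul_self_mem_of_index_two hidx _
  -- action of P on W/Φ
  let φ' : Subgroup W := Φ.subgroupOf W
  haveI : φ'.Normal := hΦn.subgroupOf W
  have hcomm : ∀ a b : W, a * b * a⁻¹ * b⁻¹ ∈ φ' := by
    intro a b
    have e : a * b * a⁻¹ * b⁻¹ = (a * a) * ((a⁻¹ * b) * (a⁻¹ * b)) * (b⁻¹ * b⁻¹) := by group
    rw [e]
    exact φ'.mul_mem (φ'.mul_mem (hsq _ a.2) (hsq _ (a⁻¹ * b).2)) (hsq _ (b⁻¹).2)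
  letI : CommGroup (W ⧸ φ') :=
    { (inferInstance : Group (W ⧸ φ')) with
      mul_comm := fun x y => by
        induction x using QuotientGroup.induction_on with
        | _ a =>
        induction y using QuotientGroup.induction_on with
        | _ b =>
        rw [← QuotientGroup.mk_mul, ← QuotientGroup.mk_mul, QuotientGroup.eq]
        have := hcomm b⁻¹ a⁻¹
        simpa [mul_assoc] using this }
  have hV2 : ∀ v : W ⧸ φ', v * v = 1 := by
    intro v
    induction v using QuotientGroup.induction_on with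
    | _ a => rw [← QuotientGroup.mk_mul, QuotientGroup.eq_one_iff]; exact hsq _ a.2
  have hfixmem : ∀ (x : P), (MulAut.conjNormal x : MulAut W) '' (φ' : Set W) ⊆ φ' := by
    rintro x _ ⟨a, ha', rfl⟩
    simp only [φ', SetLike.mem_coe, mem_subgroupOf, MulAut.conjNormal_apply] at ha' ⊢
    exact hΦn.conj_mem _ ha' x
  let act : P →* MulAut (W ⧸ φ') :=
    { toFun := fun x => QuotientGroup.congr φ' φ' (MulAut.conjNormal x) (by
        apply le_antisymm
        · exact (SetLike.coe_subset_coe).1 (by rw [coe_map]; exact hfixmem x)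
        · intro a ha'
          refine ⟨MulAut.conjNormal x⁻¹ a, hfixmem x⁻¹ ⟨a, ha', rfl⟩, ?_⟩
          apply Subtype.ext; simp [mul_assoc])
      map_one' := by
        ext v
        induction v using QuotientGroup.induction_on with
        | _ a => simp [QuotientGroup.congr_mk]
      map_mul' := fun x y => by
        ext v
        induction v using QuotientGroup.induction_on with
        | _ a => simp [QuotientGroup.congr_mk] }
  have hker : W ≤ act.ker := by
    intro w hw
    rw [MonoidHom.mem_ker]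
    ext v
    induction v using QuotientGroup.induction_on with
    | _ a =>
      change ((MulAut.conjNormal w a : W) : W ⧸ φ') = (a : W ⧸ φ')
      rw [QuotientGroup.eq]
      have := hcomm ⟨w, hw⟩ a⁻¹
      have e : ((MulAut.conjNormal w : MulAut W) a)⁻¹ * a = ⟨w, hw⟩ * a⁻¹ * ⟨w, hw⟩⁻¹ * a⁻¹⁻¹ := by
        apply Subtype.ext; simp [mul_assoc]
      rwa [e]
  have hZW : ∀ x : P, x ∈ W ↔ ∀ z ∈ (Subgroup.upperCentralSeries P 3), z * x = x * z := by
    intro x; rw [hW, mem_centralizer_iff]; rfl
  -- fixed points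
  have hfix : ∀ a : W, (∀ x : P, act x (a : W ⧸ φ') = a) → ∀ x : P, ⁅(a : P), x⁆ ∈ Φ := by
    intro a ha' x
    have h1 := ha' x
    change ((MulAut.conjNormal x a : W) : W ⧸ φ') = (a : W ⧸ φ') at h1
    rw [QuotientGroup.eq, mem_subgroupOf] at h1
    simp only [Subgroup.coe_mul, Subgroup.coe_inv, MulAut.conjNormal_apply] at h1
    have h2 := hΦn.conj_mem _ h1 (a : P)
    have e : (a : P) * ((x * a * x⁻¹)⁻¹ * a) * (a : P)⁻¹ = ⁅(a : P), x⁆ := by
      rw [commutatorElement_def]; group
    rwa [e] at h2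
  have hfix2 : ∀ a b : W, (∀ x, act x (a : W ⧸ φ') = a) → (∀ x, act x (b : W ⧸ φ') = b) →
      (a : W ⧸ φ') ≠ 1 → (b : W ⧸ φ') ≠ 1 → (a : W ⧸ φ') = b := by
    intro a b hfa hfb ha1 hb1
    rw [Ne, QuotientGroup.eq_one_iff, mem_subgroupOf, hΦk] at ha1 hb1
    have ham : (a : P) ∈ (Subgroup.upperCentralSeries P (k + 1)) :=
      Subgroup.mem_upperCentralSeries_succ_iff.2 fun x => hΦk ▸ hfix a hfa x
    have hbm : (b : P) ∈ (Subgroup.upperCentralSeries P (k + 1)) :=
      Subgroup.mem_upperCentralSeries_succ_iff.2 fun x => hΦk ▸ hfix b hfb x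
    have hi : (((Subgroup.upperCentralSeries P k)).subgroupOf ((Subgroup.upperCentralSeries P (k + 1)))).index = 2 := by
      have h1 := (((Subgroup.upperCentralSeries P k)).subgroupOf ((Subgroup.upperCentralSeries P (k + 1)))).index_mul_card
      rw [Nat.card_congr (subgroupOfEquivOfLe (Subgroup.upperCentralSeries_mono P (Nat.le_succ k))).toEquiv,
        ucs_card hP ha hb k (by omega), ucs_card hP ha hb (k + 1) (by omega), pow_succ'] at h1
      exact Nat.eq_of_mul_eq_mul_right (by positivity) h1
    have := (mul_mem_iff_of_index_two hi (a := ⟨_, ((Subgroup.upperCentralSeries P (k+1))).inv_mem ham⟩) (b := ⟨_, hbm⟩)).2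
      (by simp only [mem_subgroupOf]; exact iff_of_false (fun h => ha1 (by simpa using inv_mem h)) hb1)
    rw [QuotientGroup.eq, mem_subgroupOf, hΦk]
    simpa [mem_subgroupOf] using this
  -- card of W/Φ
  let actq : (P ⧸ W) →* MulAut (W ⧸ φ') := QuotientGroup.lift W act hker
  have hq : ∀ x : P, actq (x : P ⧸ W) = act x := fun x => rfl
  have hVle : Nat.card (W ⧸ φ') ≤ 2 ^ Nat.card (P ⧸ W) := by
    refine card_le_two_pow (hP.to_quotient W) hV2 actq ?_
    intro a b
    induction a using QuotientGroup.induction_on with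
    | _ a =>
    induction b using QuotientGroup.induction_on with
    | _ b => exact fun hfa hfb => hfix2 a b (fun x => hq x ▸ hfa x) (fun x => hq x ▸ hfb x)
  -- [P : W] ≤ 8
  obtain ⟨e2, he2⟩ : ∃ e, e ∈ (Subgroup.upperCentralSeries P 2) ∧ e ∉ (Subgroup.upperCentralSeries P 1) := SetLike.exists_of_lt (ucs_lt_succ hP 1 fun h => by
    have := ucs_card hP ha hb 1 (by omega); rw [h, Subgroup.card_top] at this; omega)
  obtain ⟨e3, he3⟩ : ∃ e, e ∈ (Subgroup.upperCentralSeries P 3) ∧ e ∉ (Subgroup.upperCentralSeries P 2) := SetLike.exists_of_lt (ucs_lt_succ hP 2 fun h => by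
    have := ucs_card hP ha hb 2 (by omega); rw [h, Subgroup.card_top] at this; omega)
  have hgen : (Subgroup.upperCentralSeries P 3) = (Subgroup.upperCentralSeries P 1) ⊔ zpowers e2 ⊔ zpowers e3 := by
    have h2 : (Subgroup.upperCentralSeries P 2) = (Subgroup.upperCentralSeries P 1) ⊔ zpowers e2 := by
      symm
      refine Subgroup.eq_of_le_of_card_ge (sup_le (Subgroup.upperCentralSeries_mono P (by omega))
        (zpowers_le.2 he2.1)) ?_
      have := card_double_of_lt hP (show (Subgroup.upperCentralSeries P 1) < (Subgroup.upperCentralSeries P 1) ⊔ zpowers e2 from lt_of_le_of_ne le_sup_left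
        fun h => he2.2 (h.symm ▸ (le_sup_right : zpowers e2 ≤ (Subgroup.upperCentralSeries P 1) ⊔ zpowers e2) (mem_zpowers e2)))
      rw [ucs_card hP ha hb 1 (by omega)] at this
      rw [ucs_card hP ha hb 2 (by omega)]; omega
    rw [← h2]; symm
    refine Subgroup.eq_of_le_of_card_ge (sup_le (Subgroup.upperCentralSeries_mono P (by omega))
      (zpowers_le.2 he3.1)) ?_
    have := card_double_of_lt hP (show (Subgroup.upperCentralSeries P 2) < (Subgroup.upperCentralSeries P 2) ⊔ zpowers e3 from lt_of_le_of_ne le_sup_left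
      fun h => he3.2 (h.symm ▸ (le_sup_right : zpowers e3 ≤ (Subgroup.upperCentralSeries P 2) ⊔ zpowers e3) (mem_zpowers e3)))
    rw [ucs_card hP ha hb 2 (by omega)] at this
    rw [ucs_card hP ha hb 3 (by omega)]; omega
  have hi8 : Nat.card (P ⧸ W) ≤ 8 := by
    let g : P ⧸ W → (Subgroup.upperCentralSeries P 1) × (Subgroup.upperCentralSeries P 2) := fun q =>
      (⟨⁅e2, q.out⁆, Subgroup.mem_upperCentralSeries_succ_iff.1 he2.1 _⟩,
       ⟨⁅e3, q.out⁆, Subgroup.mem_upperCentralSeries_succ_iff.1 he3.1 _⟩)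
    have hg : Function.Injective g := by
      intro p q hpq
      simp only [g, Prod.mk.injEq, Subtype.mk.injEq] at hpq
      rw [← Quotient.out_eq' p, ← Quotient.out_eq' q, QuotientGroup.eq, hZW]
      intro z hz
      have key : ∀ e x y : P, ⁅e, x⁆ = ⁅e, y⁆ → e * (x⁻¹ * y) = x⁻¹ * y * e := by
        intro e x y h
        simp only [commutatorElement_def] at h
        have h' : x * e⁻¹ * x⁻¹ = y * e⁻¹ * y⁻¹ :=
          mul_left_cancel (by simpa [mul_assoc] using h : e * (x * e⁻¹ * x⁻¹) = e * (y * e⁻¹ * y⁻¹))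
        have h'' : x * e * x⁻¹ = y * e * y⁻¹ := by simpa [mul_assoc] using congrArg (·⁻¹) h'
        calc e * (x⁻¹ * y) = x⁻¹ * (x * e * x⁻¹) * y := by group
          _ = x⁻¹ * y * e := by rw [h'']; group
      rw [hgen] at hz
      have hle : (Subgroup.upperCentralSeries P 1) ⊔ zpowers e2 ⊔ zpowers e3 ≤ centralizer {p.out⁻¹ * q.out} :=
        sup_le (sup_le (fun w hw => mem_centralizer_singleton_iff.2 (ucs_one_fix hw _))
          (zpowers_le.2 (mem_centralizer_singleton_iff.2 (key _ _ _ hpq.1))))
          (zpowers_le.2 (mem_centralizer_singleton_iff.2 (key _ _ _ hpq.2)))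
      exact mem_centralizer_singleton_iff.1 (hle hz)
    have := Nat.card_le_card_of_injective g hg
    rwa [Nat.card_prod, ucs_card hP ha hb 1 (by omega), ucs_card hP ha hb 2 (by omega)] at this
  have hcW : Nat.card (W ⧸ φ') * 2 ^ k = Nat.card W := by
    rw [← index_eq_card, ← hk, ← Nat.card_congr (subgroupOfEquivOfLe (show Φ ≤ W from map_subtype_le _)).toEquiv,
      index_mul_card]
  have hcP : Nat.card (P ⧸ W) * Nat.card W = Nat.card P := by rw [← index_eq_card, index_mul_card]
  have hk3' : k = 3 ∧ Nat.card (P ⧸ W) = 8 ∧ Nat.card W = 2 ^ 11 := by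
    have hq8 : 2 ^ Nat.card (P ⧸ W) ≤ 2 ^ 8 := Nat.pow_le_pow_right (by norm_num) hi8
    have hV8 : Nat.card (W ⧸ φ') ≤ 256 := hVle.trans hq8
    have h2k : 2 ^ k ≤ 8 := (Nat.pow_le_pow_right (by norm_num) hk3 : 2 ^ k ≤ 2 ^ 3)
    have hW11 : Nat.card W ≤ 2 ^ 11 := by rw [← hcW]; exact (Nat.mul_le_mul hV8 h2k).trans (by norm_num)
    have hq : Nat.card (P ⧸ W) = 8 := by
      by_contra hne
      have : Nat.card (P ⧸ W) * Nat.card W ≤ 7 * 2 ^ 11 := Nat.mul_le_mul (by omega) hW11
      omega
    rw [hq] at hcP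
    refine ⟨?_, hq, by omega⟩
    by_contra hne
    have hk2 : 2 ^ k ≤ 4 := (Nat.pow_le_pow_right (by norm_num) (show k ≤ 2 by omega) : 2 ^ k ≤ 2 ^ 2)
    have : Nat.card W ≤ 256 * 4 := by rw [← hcW]; exact Nat.mul_le_mul hV8 hk2
    omega
  obtain ⟨hk3e, hq8, hW11⟩ := hk3'
  subst hk3e
  have hZ3W : (Subgroup.upperCentralSeries P 3) ≤ W := hΦk ▸ map_subtype_le _
  have hsat : ∀ X : Subgroup P, X ≤ W → X.relIndex W ≤ 16 → (Subgroup.upperCentralSeries P 3) ≤ X := by
    intro X hX hi z hz
    rw [← hΦk] at hz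
    obtain ⟨a, ha', rfl⟩ := hz
    exact hd (X.subgroupOf W) hi ha'
  -- commutators
  have hcen : ∀ z ∈ (Subgroup.upperCentralSeries P 3), ∀ w ∈ W, z * w = w * z := fun z hz w hw => (hZW w).1 hw z hz
  let C : Subgroup P := (commutator W).map W.subtype
  have hCn : C.Normal := ConjAct.normal_of_characteristic_of_normal
  have hC3 : C ≤ (Subgroup.upperCentralSeries P 3) := by
    rw [← hΦk]
    refine map_mono ?_
    rw [_root_.commutator_def, Subgroup.commutator_le]
    intro a _ b _
    have := hcomm a b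
    rw [mem_subgroupOf] at this
    obtain ⟨c, hc', he⟩ := this
    rw [commutatorElement_def]
    rwa [Subtype.ext (he) ] at hc'
  have hC : C = (Subgroup.upperCentralSeries P 3) := by
    by_contra hne
    have hlt : C < (Subgroup.upperCentralSeries P 3) := lt_of_le_of_ne hC3 hne
    have hC2 : C ≤ (Subgroup.upperCentralSeries P 2) := by
      refine exists_le_ucs hP 2 C hCn ?_
      have := card_double_of_lt hP hlt
      rw [ucs_card hP ha hb 3 (by omega)] at this; omega
    let N2 : Subgroup W := ((Subgroup.upperCentralSeries P 2)).subgroupOf W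
    haveI : N2.Normal := (inferInstance : (Subgroup.upperCentralSeries P 2).Normal).subgroupOf W
    have hcm : ∀ a b : W, a * b * a⁻¹ * b⁻¹ ∈ N2 := fun a b =>
      mem_subgroupOf.2 (hC2 ⟨⁅a, b⁆, commutator_mem_commutator (mem_top _) (mem_top _), rfl⟩)
    -- squares modulo (Subgroup.upperCentralSeries P 2) form a homomorphism into a group of order two
    let K : Subgroup W :=
      { carrier := {a | a * a ∈ N2}
        one_mem' := by simp
        mul_mem' := fun {a b} ha' hb' => by
          have h1 := hcm b a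
          have e : (a * b) * (a * b) = a * (b * a * b⁻¹ * a⁻¹) * a⁻¹ * (a * a) * (b * b) := by
            group
          change (a * b) * (a * b) ∈ N2
          rw [e]
          exact N2.mul_mem (N2.mul_mem (Subgroup.Normal.conj_mem inferInstance _ h1 a) ha') hb'
        inv_mem' := fun {a} ha' => by
          change a⁻¹ * a⁻¹ ∈ N2
          rw [← mul_inv_rev]; exact N2.inv_mem ha' }
    have h2i : (((Subgroup.upperCentralSeries P 2)).subgroupOf ((Subgroup.upperCentralSeries P 3))).index = 2 := by
      have h1 := (((Subgroup.upperCentralSeries P 2)).subgroupOf ((Subgroup.upperCentralSeries P 3))).index_mul_card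
      rw [Nat.card_congr (subgroupOfEquivOfLe (Subgroup.upperCentralSeries_mono P (by omega))).toEquiv,
        ucs_card hP ha hb 2 (by omega), ucs_card hP ha hb 3 (by omega)] at h1
      omega
    have hKi : K.index ≤ 2 := by
      by_cases hall : ∀ a : W, a ∈ K
      · rw [show K = ⊤ from eq_top_iff.2 fun a _ => hall a]; simp
      push Not at hall
      obtain ⟨a, ha'⟩ := hall
      refine le_of_eq (index_eq_two_iff.2 ⟨a, fun b => ?_⟩)
      by_cases hbK : b ∈ K
      · exact Or.inr ⟨hbK, fun h => ha' ((K.mul_mem_cancel_left hbK).1 h)⟩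
      · refine Or.inl ⟨?_, hbK⟩
        change (b * a) * (b * a) ∈ N2
        have h1 := hcm a b
        have e : (b * a) * (b * a) = b * (a * b * a⁻¹ * b⁻¹) * b⁻¹ * ((b * b) * (a * a)) := by
          group
        rw [e]
        refine N2.mul_mem (Subgroup.Normal.conj_mem inferInstance _ h1 b) ?_
        rw [mem_subgroupOf, Subgroup.coe_mul]
        have m := (mul_mem_iff_of_index_two h2i (a := ⟨_, hΦk ▸ hsq _ b.2⟩)
          (b := ⟨_, hΦk ▸ hsq _ a.2⟩)).2 (iff_of_false hbK ha')
        exact m
    have he3K : (⟨e3, hZ3W he3.1⟩ : W) ∈ K := by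
      rw [show (K : Subgroup W) = K from rfl]
      exact hd K (le_trans hKi (by norm_num)) (by
        have : e3 ∈ Φ := hΦk.symm ▸ he3.1
        obtain ⟨c, hc', hce⟩ := this
        rwa [show (⟨e3, hZ3W he3.1⟩ : W) = c from Subtype.ext hce.symm])
    haveI : (N2.subgroupOf K).Normal := inferInstance
    apply he3.2
    have := mem_of_forall_index_le_two ((hP.to_subgroup W).to_subgroup K) (N2.subgroupOf K)
      (fun y => y.2) ⟨_, he3K⟩ (fun U hU hNU => by
        have hdd := hd (U.map K.subtype) (by
          rw [index_map, K.ker_subtype, sup_bot_eq, K.range_subtype]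
          exact le_trans (Nat.mul_le_mul hU hKi) (by norm_num))
        obtain ⟨c, hc', hce⟩ : e3 ∈ Φ := hΦk.symm ▸ he3.1
        obtain ⟨u, hu, hue⟩ := hdd hc'
        rwa [show (⟨_, he3K⟩ : K) = u from Subtype.ext (Subtype.ext
          (hce.symm.trans (congrArg Subtype.val hue.symm)))])
    exact this
  have hexp : ∀ z ∈ (Subgroup.upperCentralSeries P 3), z * z = 1 := by
    intro z hz
    rw [← hC] at hz
    obtain ⟨c, hc', rfl⟩ := hz
    rw [commutator_eq_closure] at hc'
    have hcent : ∀ u : W, u ∈ commutator W → ∀ v : W, u * v = v * u := fun u hu v =>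
      Subtype.ext (hcen _ (hC3 ⟨u, hu, rfl⟩) _ v.2)
    suffices c * c = 1 from congrArg Subtype.val this
    induction hc' using closure_induction with
    | mem u hu =>
      obtain ⟨a, b, rfl⟩ := hu
      have hab : ∀ v : W, ⁅a, b⁆ * v = v * ⁅a, b⁆ :=
        hcent _ (commutator_mem_commutator (mem_top _) (mem_top _))
      have ha2 : (a * a) * b = b * (a * a) :=
        Subtype.ext (hcen _ (hΦk ▸ hsq _ a.2) _ b.2)
      calc ⁅a, b⁆ * ⁅a, b⁆ = a * ⁅a, b⁆ * a⁻¹ * ⁅a, b⁆ := by
            rw [← hab a, mul_inv_cancel_right]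
        _ = (a * a) * b * (a * a)⁻¹ * b⁻¹ := by rw [commutatorElement_def]; group
        _ = 1 := by rw [ha2]; group
    | one => simp
    | mul u v hu hv h1 h2 =>
      rw [← commutator_eq_closure] at hu
      calc (u * v) * (u * v) = u * (v * u) * v := by group
        _ = u * (u * v) * v := by rw [hcent u hu v]
        _ = (u * u) * (v * v) := by group
        _ = 1 := by rw [h1, h2, one_mul]
    | inv u _ h1 => rw [← mul_inv_rev, h1, inv_one]
  refine ⟨hWn, by rw [index_eq_card, hq8], hW11, hC, hZ3W, fun w hw => hΦk ▸ hsq w hw, hsat,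
    hexp, ?_⟩
  intro a b _ _ haf hbf ha1 hb1
  have hi : (((Subgroup.upperCentralSeries P 3)).subgroupOf ((Subgroup.upperCentralSeries P 4))).index = 2 := by
    have h1 := (((Subgroup.upperCentralSeries P 3)).subgroupOf ((Subgroup.upperCentralSeries P 4))).index_mul_card
    rw [Nat.card_congr (subgroupOfEquivOfLe (Subgroup.upperCentralSeries_mono P (by omega))).toEquiv,
      ucs_card hP ha hb 3 (by omega), ucs_card hP ha hb 4 (by omega)] at h1
    omega
  have hb' : (b : P) ∈ (Subgroup.upperCentralSeries P 4) := Subgroup.mem_upperCentralSeries_succ_iff.2 hbf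
  have := (mul_mem_iff_of_index_two hi (a := ⟨a, Subgroup.mem_upperCentralSeries_succ_iff.2 haf⟩)
    (b := ⟨_, ((Subgroup.upperCentralSeries P 4)).inv_mem hb'⟩)).2 (iff_of_false ha1 fun h => hb1 (by
      simpa [mem_subgroupOf] using inv_mem h))
  exact this

end Structure

end Cfsg.Agent.FourCentral81
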