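import Mathlib

/-!
A transfer argument: a sign character of `M` is trivial on elements inverting a saturated
2-subgroup when `G` has no subgroup of index two.
-/

set_option autoImplicit false
set_option linter.style.haveILetI false
set_option linter.unusedSectionVars false

namespace Cfsg.Agent.FourCentral81

open Subgroup

variable {G : Type*} [Group G]

/-- Two elements and an index two subgroup. -/
theorem rel_two {X Y : Subgroup G} (h : X.relIndex Y = 2) {u : G} (hu : u ∈ Y) (hu' : u ∉ X) :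
    (∀ y ∈ Y, y ∈ X ∨ u⁻¹ * y ∈ X) ∧ (∀ y ∈ Y, y * y ∈ X) ∧
      (∀ y ∈ Y, ∀ s ∈ X, s ∈ Y → y⁻¹ * s * y ∈ X) := by
  have hi : (X.subgroupOf Y).index = 2 := h
  refine ⟨fun y hy => ?_, fun y hy => ?_, fun y hy s hs hsY => ?_⟩
  · by_cases hyX : y ∈ X
    · exact Or.inl hyX
    · right
      have := (mul_mem_iff_of_index_two hi (a := ⟨u⁻¹, Y.inv_mem hu⟩) (b := ⟨y, hy⟩)).2
        (iff_of_false (by simpa [mem_subgroupOf] using hu') (by simpa [mem_subgroupOf] using hyX))
      exact this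
  · exact Subgroup.mul_self_mem_of_index_two hi ⟨y, hy⟩
  · have h1 := (mul_mem_iff_of_index_two hi (a := ⟨y⁻¹, Y.inv_mem hy⟩ * ⟨s, hsY⟩) (b := ⟨y, hy⟩)).2
      (by
        rw [mul_mem_iff_of_index_two hi]
        simp [mem_subgroupOf, hs])
    exact h1

theorem ri_ne0 [Finite G] (X Y : Subgroup G) : X.relIndex Y ≠ 0 :=
  index_ne_zero_of_finite (H := X.subgroupOf Y)

theorem exists_rel_two [Finite G] {T R : Subgroup G} (hT : IsPGroup 2 T) (hR : R ≤ T) (hne : R ≠ T) :
    ∃ X : Subgroup G, R ≤ X ∧ X ≤ T ∧ X.relIndex T = 2 := by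
  haveI : Fact (Nat.Prime 2) := ⟨Nat.prime_two⟩
  obtain ⟨a, ha⟩ := IsPGroup.iff_card.1 hT
  obtain ⟨n, hn⟩ := IsPGroup.iff_card.1 (hT.to_subgroup (R.subgroupOf T))
  have hlt : n < a := by
    by_contra h
    apply hne
    have htop : R.subgroupOf T = ⊤ := Subgroup.eq_top_of_le_card _ (by
      rw [hn, ha]; exact Nat.pow_le_pow_right (by norm_num) (not_lt.1 h))
    exact le_antisymm hR (subgroupOf_eq_top.1 htop)
  obtain ⟨K, hK, hRK⟩ := Sylow.exists_subgroup_card_pow_prime_le 2 (G := T) (m := a - 1)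
    (by rw [ha]; exact pow_dvd_pow 2 (by omega)) (R.subgroupOf T) hn (by omega)
  refine ⟨K.map T.subtype, fun r hr => ⟨⟨r, hR hr⟩, hRK hr, rfl⟩, map_subtype_le K, ?_⟩
  have : (K.map T.subtype).subgroupOf T = K :=
    comap_map_eq_self_of_injective T.subtype_injective K
  rw [relIndex, this]
  have h1 := K.index_mul_card
  rw [hK, ha, show a = (a - 1) + 1 by omega, pow_succ'] at h1
  simp only [Nat.add_sub_cancel] at h1
  exact Nat.eq_of_mul_eq_mul_right (by positivity) h1

section Cocycle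

variable (M : Subgroup G) (θ : M →* ℤˣ)

theorem coset_mem (g : G) (p : G ⧸ M) : (g • p).out⁻¹ * (g * p.out) ∈ M := by
  rw [← QuotientGroup.eq]
  exact (QuotientGroup.out_eq' _).trans (congrArg (g • ·) (QuotientGroup.out_eq' p)).symm

/-- The transfer cocycle. -/
noncomputable def coc (g : G) (p : G ⧸ M) : ℤˣ := θ ⟨_, coset_mem M g p⟩

theorem coc_mul (g h : G) (p : G ⧸ M) :
    coc M θ (g * h) p = coc M θ g (h • p) * coc M θ h p := by
  rw [coc, coc, coc, ← map_mul]
  congr 1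
  apply Subtype.ext
  simp only [Subgroup.coe_mul, mul_smul]
  group

/-- The product of the cocycle over a set of cosets. -/
noncomputable def cocP (B : Finset (G ⧸ M)) (g : G) : ℤˣ := ∏ p ∈ B, coc M θ g p

variable [DecidableEq (G ⧸ M)]
set_option linter.unusedSectionVars false

theorem cocP_mul' (B : Finset (G ⧸ M)) (g h : G) :
    cocP M θ B (g * h) = cocP M θ (B.image (h • ·)) g * cocP M θ B h := by
  unfold cocP
  rw [Finset.prod_image (fun a _ b _ hab => MulAction.injective h hab), ← Finset.prod_mul_distrib]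
  exact Finset.prod_congr rfl fun p _ => coc_mul M θ g h p

variable [Fintype (G ⧸ M)]

/-- An orbit of a subgroup. -/
noncomputable def orb (X : Subgroup G) (p : G ⧸ M) : Finset (G ⧸ M) :=
  @Finset.filter _ (fun q => ∃ t ∈ X, t • p = q) (Classical.decPred _) Finset.univ

theorem mem_orb {X : Subgroup G} {p q : G ⧸ M} : q ∈ orb M X p ↔ ∃ t ∈ X, t • p = q := by
  simp [orb]

theorem orb_image {X : Subgroup G} {p : G ⧸ M} {h : G} (hh : h ∈ X) :
    (orb M X p).image (h • ·) = orb M X p := by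
  ext q
  simp only [Finset.mem_image, mem_orb]
  constructor
  · rintro ⟨_, ⟨t, ht, rfl⟩, rfl⟩
    exact ⟨h * t, X.mul_mem hh ht, mul_smul _ _ _⟩
  · rintro ⟨t, ht, rfl⟩
    exact ⟨(h⁻¹ * t) • p, ⟨_, X.mul_mem (X.inv_mem hh) ht, rfl⟩, by rw [← mul_smul, mul_inv_cancel_left]⟩

theorem cocP_mul {X : Subgroup G} {p : G ⧸ M} {g h : G} (hh : h ∈ X) :
    cocP M θ (orb M X p) (g * h) = cocP M θ (orb M X p) g * cocP M θ (orb M X p) h := by
  rw [cocP_mul', orb_image M hh]

theorem cocP_one {X : Subgroup G} {p : G ⧸ M} : cocP M θ (orb M X p) 1 = 1 := by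
  have h := cocP_mul M θ (p := p) (g := 1) (X.one_mem)
  rw [one_mul] at h
  exact mul_eq_right.1 h.symm

/-- Doubling an orbit. -/
theorem cocP_step {X Y : Subgroup G} {p : G ⧸ M} (hXY : X ≤ Y) (h : X.relIndex Y = 2)
    (hstab : ∀ t ∈ Y, t • p = p → t ∈ X) {u : G} (hu : u ∈ Y) (hu' : u ∉ X) :
    cocP M θ (orb M Y p) u = cocP M θ (orb M X p) (u * u) ∧
      ∀ s ∈ X, cocP M θ (orb M Y p) s = cocP M θ (orb M X p) (s * (u⁻¹ * s * u)) := by
  obtain ⟨hsplit, -, hnorm⟩ := rel_two h hu hu'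
  have hY : orb M Y p = orb M X p ∪ (orb M X p).image (u • ·) := by
    ext q
    simp only [Finset.mem_union, Finset.mem_image, mem_orb]
    constructor
    · rintro ⟨t, ht, rfl⟩
      rcases hsplit t ht with h1 | h1
      · exact Or.inl ⟨t, h1, rfl⟩
      · exact Or.inr ⟨_, ⟨_, h1, rfl⟩, by rw [← mul_smul, mul_inv_cancel_left]⟩
    · rintro (⟨t, ht, rfl⟩ | ⟨_, ⟨t, ht, rfl⟩, rfl⟩)
      · exact ⟨t, hXY ht, rfl⟩
      · exact ⟨u * t, Y.mul_mem hu (hXY ht), mul_smul _ _ _⟩
  have hd : Disjoint (orb M X p) ((orb M X p).image (u • ·)) := by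
    rw [Finset.disjoint_left]
    simp only [Finset.mem_image, mem_orb]
    rintro q ⟨t, ht, rfl⟩ ⟨_, ⟨t', ht', rfl⟩, he⟩
    rw [← mul_smul] at he
    have h1 : (t⁻¹ * (u * t')) • p = p := by rw [mul_smul, he, inv_smul_smul]
    have h2 := hstab _ (Y.mul_mem (Y.inv_mem (hXY ht)) (Y.mul_mem hu (hXY ht'))) h1
    rw [X.mul_mem_cancel_left (X.inv_mem ht), X.mul_mem_cancel_right ht'] at h2
    exact hu' h2
  have hsum : ∀ g, cocP M θ (orb M Y p) g =
      cocP M θ (orb M X p) g * cocP M θ ((orb M X p).image (u • ·)) g := by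
    intro g; rw [hY]; exact Finset.prod_union hd
  refine ⟨by rw [hsum, cocP_mul', mul_comm], fun s hs => ?_⟩
  have hc : u⁻¹ * s * u ∈ X := hnorm u hu s hs (hXY hs)
  have h1 := cocP_mul' M θ (orb M X p) s u
  have h2 := cocP_mul M θ (p := p) (g := u) hc
  rw [show u * (u⁻¹ * s * u) = s * u by group, h1, mul_comm] at h2
  rw [hsum, cocP_mul M θ hc, mul_left_cancel h2]

end Cocycle

variable [Finite G] {M : Subgroup G} (θ : M →* ℤˣ)
variable (T W D : Subgroup G)

/-- A sign character is trivial on subgroups of small index containing `D`. -/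
theorem sign_kills (hsat : ∀ X : Subgroup G, X ≤ W → X.relIndex W ≤ 16 → D ≤ X)
    [DecidableEq (G ⧸ M)] [Fintype (G ⧸ M)] (X : Subgroup G) (p : G ⧸ M)
    (hX : X.relIndex W ≤ 4) {d : G} (hd : d ∈ D) : d ∈ X ∧ cocP M θ (orb M X p) d = 1 := by
  let f : ↥(W ⊓ X) →* ℤˣ :=
    { toFun := fun g => cocP M θ (orb M X p) g
      map_one' := cocP_one M θ
      map_mul' := fun g h => cocP_mul M θ h.2.2 }
  let K : Subgroup G := f.ker.map (W ⊓ X).subtype
  have hKle : K ≤ W ⊓ X := map_subtype_le _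
  have h1 : K.relIndex (W ⊓ X) ≤ 2 := by
    have : K.subgroupOf (W ⊓ X) = f.ker :=
      comap_map_eq_self_of_injective (W ⊓ X).subtype_injective _
    rw [relIndex, this, index_ker]
    calc Nat.card f.range ≤ Nat.card ℤˣ := Subgroup.card_le_card_group _
      _ = 2 := by rw [Nat.card_eq_fintype_card, Fintype.card_units_int]
  have h2 : (W ⊓ X).relIndex W ≤ 4 := by rwa [inf_relIndex_left]
  have h3 := relIndex_mul_relIndex K (W ⊓ X) W hKle inf_le_left
  have hKW : K.relIndex W ≤ 16 := by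
    rw [← h3]; exact (Nat.mul_le_mul h1 h2).trans (by norm_num)
  obtain ⟨k, hk, rfl⟩ := hsat K (hKle.trans inf_le_left) hKW hd
  exact ⟨k.2.2, hk⟩

/-- The contribution of a long orbit is trivial. -/
theorem orbit_one (hT : IsPGroup 2 T) (hWT : W ≤ T) (hW2 : W.relIndex T = 2)
    (hsq : ∀ w ∈ W, w * w ∈ D) (hsat : ∀ X : Subgroup G, X ≤ W → X.relIndex W ≤ 16 → D ≤ X)
    [DecidableEq (G ⧸ M)] [Fintype (G ⧸ M)] {x : G} (hx : x ∈ T) (hxW : x ∉ W) (p : G ⧸ M)
    (hp : 2 < (MulAction.stabilizer G p).relIndex W) : cocP M θ (orb M T p) x = 1 := by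
  have hsig : ∀ a : ℤˣ, a * a = 1 := Int.units_mul_self
  have hcomm : ∀ a ∈ W, ∀ b ∈ W, a⁻¹ * b⁻¹ * a * b ∈ D := by
    intro a ha b hb
    rw [show a⁻¹ * b⁻¹ * a * b = (a⁻¹ * a⁻¹) * ((a * b⁻¹) * (a * b⁻¹)) * (b * b) by group]
    exact D.mul_mem (D.mul_mem (hsq _ (W.inv_mem ha)) (hsq _ (W.mul_mem ha (W.inv_mem hb)))) (hsq _ hb)
  by_cases hR : T ⊓ MulAction.stabilizer G p ≤ W
  · -- all stabilising elements lie in `W`
    have hR' : W ⊓ MulAction.stabilizer G p ≠ W := by
      intro h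
      have := relIndex_eq_one.2 (inf_eq_left.1 h)
      omega
    obtain ⟨X, hRX, hXW, hX2⟩ := exists_rel_two (hT.to_le hWT) inf_le_left hR'
    have hstab : ∀ t ∈ W, t • p = p → t ∈ X := fun t ht he => hRX ⟨ht, he⟩
    obtain ⟨u, hu, hu'⟩ := SetLike.exists_of_lt (lt_of_le_of_ne hXW fun h => by
      rw [h, relIndex_self] at hX2; omega)
    obtain ⟨hfu, hfs⟩ := cocP_step M θ hXW hX2 hstab hu hu'
    have hk : ∀ d ∈ D, d ∈ X ∧ cocP M θ (orb M X p) d = 1 := fun d hd =>
      sign_kills θ W D hsat X p (by omega) hd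
    obtain ⟨hsplit, -, -⟩ := rel_two hX2 hu hu'
    have hkillX : ∀ s ∈ X, cocP M θ (orb M W p) s = 1 := by
      intro s hs
      rw [hfs s hs, show s * (u⁻¹ * s * u) = (s * s) * (s⁻¹ * u⁻¹ * s * u) by group,
        cocP_mul M θ (hk _ (hcomm s (hXW hs) u hu)).1, (hk _ (hsq s (hXW hs))).2,
        (hk _ (hcomm s (hXW hs) u hu)).2, one_mul]
    have hkillW : ∀ w ∈ W, cocP M θ (orb M W p) w = 1 := by
      intro w hw
      rcases hsplit w hw with h | h
      · exact hkillX w h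
      · rw [show w = u * (u⁻¹ * w) by group, cocP_mul M θ (hXW h), hfu,
          (hk _ (hsq u hu)).2, hkillX _ h, one_mul]
    obtain ⟨-, hxx, -⟩ := rel_two hW2 hx hxW
    rw [(cocP_step M θ hWT hW2 (fun t ht he => hR ⟨ht, he⟩) hx hxW).1]
    exact hkillW _ (hxx x hx)
  · obtain ⟨r, hr, hrW⟩ := SetLike.not_le_iff_exists.1 hR
    obtain ⟨hTsplit, -, -⟩ := rel_two hW2 hr.1 hrW
    have hRT : T ⊓ MulAction.stabilizer G p ≠ T := by
      intro h
      have := relIndex_eq_one.2 (hWT.trans (inf_eq_left.1 h))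
      omega
    obtain ⟨M1, hRM1, hM1T, hM12⟩ := exists_rel_two hT inf_le_left hRT
    have hR1 : T ⊓ MulAction.stabilizer G p ≠ M1 := by
      intro h
      have h1 : (MulAction.stabilizer G p).relIndex W ≤ M1.relIndex W :=
        relIndex_le_of_le_left (h ▸ inf_le_right) (ri_ne0 _ _)
      have h2 : M1.relIndex W ≤ M1.relIndex T := relIndex_le_of_le_right hWT (ri_ne0 _ _)
      omega
    obtain ⟨M2, hRM2, hM21, hM22⟩ := exists_rel_two (hT.to_le hM1T) hRM1 hR1
    have hrM2 : r ∈ M2 := hRM2 hr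
    obtain ⟨u, hu, hu'⟩ : ∃ u ∈ W, u ∉ M1 := by
      by_contra h
      push Not at h
      have : T ≤ M1 := fun t ht => by
        rcases hTsplit t ht with h1 | h1
        · exact h t h1
        · exact (M1.mul_mem_cancel_left (M1.inv_mem (hRM1 hr))).1 (h _ h1)
      have := relIndex_eq_one.2 this
      omega
    obtain ⟨v, hv, hv1, hv'⟩ : ∃ v ∈ W, v ∈ M1 ∧ v ∉ M2 := by
      by_contra h
      push Not at h
      have : M1 ≤ M2 := fun t ht => by
        rcases hTsplit t (hM1T ht) with h1 | h1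
        · exact h t h1 ht
        · exact (M2.mul_mem_cancel_left (M2.inv_mem hrM2)).1
            (h _ h1 (M1.mul_mem (M1.inv_mem (hRM1 hr)) ht))
      have := relIndex_eq_one.2 this
      omega
    obtain ⟨hsplit1, -, -⟩ := rel_two hM22 hv1 hv'
    obtain ⟨hfv, hfs⟩ := cocP_step M θ hM21 hM22
      (fun t ht he => hRM2 ⟨hM1T ht, he⟩) hv1 hv'
    have hM2W : M2.relIndex W ≤ 4 := by
      have h1 : M2.relIndex W ≤ M2.relIndex T := relIndex_le_of_le_right hWT (ri_ne0 _ _)
      rw [← relIndex_mul_relIndex M2 M1 T hM21 hM1T, hM22, hM12] at h1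
      exact h1
    have hk : ∀ d ∈ D, d ∈ M2 ∧ cocP M θ (orb M M2 p) d = 1 := fun d hd =>
      sign_kills θ W D hsat M2 p hM2W hd
    have hkill2 : ∀ s ∈ W, s ∈ M2 → cocP M θ (orb M M1 p) s = 1 := by
      intro s hsW hs
      rw [hfs s hs, show s * (v⁻¹ * s * v) = (s * s) * (s⁻¹ * v⁻¹ * s * v) by group,
        cocP_mul M θ (hk _ (hcomm s hsW v hv)).1, (hk _ (hsq s hsW)).2,
        (hk _ (hcomm s hsW v hv)).2, one_mul]
    have hkill1 : ∀ s ∈ W, s ∈ M1 → cocP M θ (orb M M1 p) s = 1 := by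
      intro s hsW hs
      rcases hsplit1 s hs with h | h
      · exact hkill2 s hsW h
      · rw [show s = v * (v⁻¹ * s) by group, cocP_mul M θ (hM21 h), hfv, (hk _ (hsq v hv)).2,
          hkill2 _ (W.mul_mem (W.inv_mem hv) hsW) h, one_mul]
    obtain ⟨hgu, hgs⟩ := cocP_step M θ hM1T hM12
      (fun t ht he => hRM1 ⟨ht, he⟩) (hWT hu) hu'
    obtain ⟨hsplit, hT1sq, hM1n⟩ := rel_two hM12 (hWT hu) hu'
    obtain ⟨-, hWsq, hWn⟩ := rel_two hW2 hx hxW
    have hkillM1 : ∀ s ∈ M1, cocP M θ (orb M T p) s = 1 := by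
      intro s hs
      have hc1 : s⁻¹ * u⁻¹ * s * u ∈ W := by
        have := hWn s (hM1T hs) u⁻¹ (W.inv_mem hu) (hWT (W.inv_mem hu))
        exact W.mul_mem this hu
      have hc2 : s⁻¹ * u⁻¹ * s * u ∈ M1 := by
        rw [show s⁻¹ * u⁻¹ * s * u = s⁻¹ * (u⁻¹ * s * u) by group]
        exact M1.mul_mem (M1.inv_mem hs) (hM1n u (hWT hu) s hs (hM1T hs))
      rw [hgs s hs, show s * (u⁻¹ * s * u) = s * s * (s⁻¹ * u⁻¹ * s * u) by group,
        cocP_mul M θ hc2, cocP_mul M θ hs, hsig, hkill1 _ hc1 hc2, one_mul]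
    rcases hsplit x hx with h | h
    · exact hkillM1 x h
    · rw [show x = u * (u⁻¹ * x) by group, cocP_mul M θ (hM1T h), hgu,
        hkill1 _ (W.mul_mem hu hu) (hT1sq u (hWT hu)), hkillM1 _ h, one_mul]

/-- The transfer criterion. -/
theorem sign_eq_one (h2 : ∀ H : Subgroup G, H.index ≠ 2) (hT : IsPGroup 2 T) (hWT : W ≤ T)
    (hTM : T ≤ M) (hW2 : W.relIndex T = 2)
    (hsq : ∀ w ∈ W, w * w ∈ D) (hsat : ∀ X : Subgroup G, X ≤ W → X.relIndex W ≤ 16 → D ≤ X)
    (hlong : ∀ g : G, g ∉ M → 2 < (MulAction.stabilizer G (g : G ⧸ M)).relIndex W)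
    {x : G} (hx : x ∈ T) (hxW : x ∉ W) : θ ⟨x, hTM hx⟩ = 1 := by
  classical
  letI : Fintype (G ⧸ M) := Fintype.ofFinite _
  let V : G →* ℤˣ :=
    { toFun := fun g => cocP M θ Finset.univ g
      map_one' := by
        have h := cocP_mul' M θ Finset.univ (1 : G) 1
        have e : (Finset.univ : Finset (G ⧸ M)).image ((1 : G) • ·) = Finset.univ := by
          simp
        rw [one_mul, e] at h
        exact mul_eq_right.1 h.symm
      map_mul' := fun g h => by
        rw [cocP_mul' M θ Finset.univ g h, Finset.image_univ_of_surjective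
          (MulAction.surjective h)] }
  let e0 : G ⧸ M := ((1 : G) : G ⧸ M)
  have hxe : x • e0 = e0 := by
    change ((x * 1 : G) : G ⧸ M) = ((1 : G) : G ⧸ M)
    rw [QuotientGroup.eq]; simpa using hTM hx
  have hrest : ∀ n (S : Finset (G ⧸ M)), S.card = n → e0 ∉ S →
      (∀ t ∈ T, ∀ q ∈ S, t • q ∈ S) → cocP M θ S x = 1 := by
    intro n
    induction n using Nat.strong_induction_on with
    | _ n ih =>
      intro S hn he hinv
      rcases S.eq_empty_or_nonempty with rfl | ⟨q, hq⟩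
      · rfl
      have hsub : orb M T q ⊆ S := by
        intro q' hq'
        obtain ⟨t, ht, rfl⟩ := (mem_orb M).1 hq'
        exact hinv t ht q hq
      unfold cocP
      rw [← Finset.prod_sdiff hsub]
      have h1 : ∏ p ∈ orb M T q, coc M θ x p = 1 := by
        refine orbit_one θ T W D hT hWT hW2 hsq hsat hx hxW q ?_
        obtain ⟨g, rfl⟩ := QuotientGroup.mk_surjective q
        exact hlong g fun hg => he (by
          have : ((g : G) : G ⧸ M) = e0 := by rw [QuotientGroup.eq]; simpa using hg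
          rwa [this] at hq)
      rw [h1, mul_one]
      have hq' : q ∈ orb M T q := (mem_orb M).2 ⟨1, T.one_mem, one_smul _ _⟩
      refine ih _ ?_ _ rfl (fun h => he (Finset.sdiff_subset h)) ?_
      · rw [← hn]
        exact Finset.card_lt_card (Finset.ssubset_iff_of_subset Finset.sdiff_subset |>.2
          ⟨q, hq, by simp [hq']⟩)
      · intro t ht p hp
        rw [Finset.mem_sdiff] at hp ⊢
        refine ⟨hinv t ht p hp.1, fun h => hp.2 ?_⟩
        obtain ⟨s, hs, he'⟩ := (mem_orb M).1 h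
        exact (mem_orb M).2 ⟨t⁻¹ * s, T.mul_mem (T.inv_mem ht) hs, by
          rw [mul_smul, he', inv_smul_smul]⟩
  have hVx : V x = θ ⟨x, hTM hx⟩ := by
    change cocP M θ Finset.univ x = _
    unfold cocP
    rw [← Finset.mul_prod_erase Finset.univ _ (Finset.mem_univ e0)]
    have h1 : ∏ p ∈ Finset.univ.erase e0, coc M θ x p = 1 :=
      hrest _ (Finset.univ.erase e0) rfl (Finset.notMem_erase _ _) fun t ht q hq => by
        simp only [Finset.mem_erase, Finset.mem_univ, and_true] at hq ⊢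
        intro h; apply hq
        have ht' : t⁻¹ • e0 = e0 := by
          change ((t⁻¹ * 1 : G) : G ⧸ M) = ((1 : G) : G ⧸ M)
          rw [QuotientGroup.eq]; simpa using hTM ht
        calc q = t⁻¹ • (t • q) := (inv_smul_smul _ _).symm
          _ = e0 := by rw [h, ht']
    rw [h1, mul_one, coc]
    have hout : e0.out ∈ M := by
      have := Quotient.out_eq' e0
      have h' : ((e0.out : G) : G ⧸ M) = ((1 : G) : G ⧸ M) := this
      rw [QuotientGroup.eq] at h'; simpa using h'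
    have e : (⟨_, coset_mem M x e0⟩ : M) = ⟨e0.out, hout⟩⁻¹ * (⟨x, hTM hx⟩ * ⟨e0.out, hout⟩) :=
      Subtype.ext (by simp [hxe])
    rw [e, map_mul, map_mul, map_inv, mul_left_comm, inv_mul_cancel, mul_one]
  rw [← hVx]
  by_contra hne
  refine h2 V.ker ?_
  rw [index_ker]
  have htop : V.range = ⊤ := by
    rw [eq_top_iff]
    intro a _
    rcases Int.units_eq_one_or a with rfl | rfl
    · exact one_mem _
    · exact ⟨x, by rcases Int.units_eq_one_or (V x) with h | h
                   · exact absurd h hne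
                   · exact h⟩
  rw [htop, card_top, Nat.card_eq_fintype_card, Fintype.card_units_int]

end Cfsg.Agent.FourCentral81
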