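import Mathlib
import Cfsg.Agent.Lib.FourCentralGL81
import Cfsg.Agent.Lib.FourCentralRep81
import Cfsg.Agent.Lib.FourCentralRigid81
import Cfsg.Agent.Lib.FourCentralTransfer81
import Cfsg.Agent.Lib.FourCentralStruct81

/-!
Fusion of a saturated subgroup of index eight in a Sylow 2-subgroup.
-/

set_option autoImplicit false
set_option linter.style.haveILetI false
set_option linter.unusedSectionVars false

namespace Cfsg.Agent.FourCentral81

open Subgroup Matrix
open scoped commutatorElement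

variable {G : Type*} [Group G] [Finite G]

/-- The local data extracted from the Sylow 2-subgroup. -/
structure Cfg (T : Sylow 2 G) (W D : Subgroup G) : Prop where
  hWT : W ≤ (T : Subgroup G)
  hDW : D ≤ W
  hTW : (T : Subgroup G) ≤ normalizer (W : Set G)
  hND : normalizer (W : Set G) ≤ normalizer (D : Set G)
  hcent : ∀ t ∈ (T : Subgroup G), (t ∈ W ↔ ∀ d ∈ D, d * t = t * d)
  hidx : W.relIndex (T : Subgroup G) = 8
  hcardW : Nat.card W = 2 ^ 11
  hcardD : Nat.card D = 8
  hexp : ∀ d ∈ D, d * d = 1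
  hsq : ∀ w ∈ W, w * w ∈ D
  hsat : ∀ X : Subgroup G, X ≤ W → X.relIndex W ≤ 16 → D ≤ X
  huniq : ∀ a b : G, a ∈ W → b ∈ W → (∀ t ∈ (T : Subgroup G), ⁅a, t⁆ ∈ D) →
    (∀ t ∈ (T : Subgroup G), ⁅b, t⁆ ∈ D) → a ∉ D → b ∉ D → a * b⁻¹ ∈ D
  hflag : ∃ e : Fin 3 → G, (∀ i, e i ∈ D) ∧ e 0 ≠ 1 ∧ e 1 ∉ zpowers (e 0) ∧
    e 2 ∉ zpowers (e 0) ⊔ zpowers (e 1) ∧
    ∀ t ∈ (T : Subgroup G), t * e 0 * t⁻¹ = e 0 ∧ ⁅t, e 1⁆ ∈ zpowers (e 0) ∧
      ⁅t, e 2⁆ ∈ zpowers (e 0) ⊔ zpowers (e 1)

theorem mem_normalizer_of_conj_le {H : Subgroup G} {k : G} (h : ∀ x ∈ H, k * x * k⁻¹ ∈ H) :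
    k ∈ normalizer (H : Set G) := by
  have hmap : H.map (MulAut.conj k).toMonoidHom = H := by
    refine Subgroup.eq_of_le_of_card_ge (by rintro _ ⟨x, hx, rfl⟩; exact h x hx) (le_of_eq ?_)
    exact Nat.card_congr (H.equivMapOfInjective _ (MulAut.conj k).injective).toEquiv
  refine mem_normalizer_iff.2 fun x => ⟨h x, fun hx => ?_⟩
  rw [← hmap] at hx
  obtain ⟨y, hy, he⟩ := hx
  rwa [show x = y from ((MulAut.conj k).injective (by simpa using he)).symm]

theorem map_eq_one_of_odd {X P : Type*} [Group X] [Group P] (hP : IsPGroup 2 P) (f : X →* P)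
    {x : X} {j : ℕ} (hj : Odd j) (hx : x ^ j = 1) : f x = 1 := by
  haveI : Fact (Nat.Prime 2) := ⟨Nat.prime_two⟩
  obtain ⟨k, hk⟩ := IsPGroup.iff_orderOf.1 hP (f x)
  have h1 : orderOf (f x) ∣ j := orderOf_dvd_of_pow_eq_one (by rw [← map_pow, hx, map_one])
  rw [hk] at h1
  rcases k with _ | k
  · exact orderOf_eq_one_iff.1 (by simpa using hk)
  · exact absurd ((dvd_pow_self 2 k.succ_ne_zero).trans h1) hj.not_two_dvd_nat

variable {T : Sylow 2 G} {W D : Subgroup G}

namespace Cfg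

variable (h : Cfg T W D)
include h

theorem hTD : (T : Subgroup G) ≤ normalizer (D : Set G) := h.hTW.trans h.hND

theorem pT : IsPGroup 2 (T : Subgroup G) := T.isPGroup'

theorem cen {w d : G} (hw : w ∈ W) (hd : d ∈ D) : d * w = w * d :=
  (h.hcent w (h.hWT hw)).1 hw d hd

theorem comm_mem {a b : G} (ha : a ∈ W) (hb : b ∈ W) : ⁅a, b⁆ ∈ D := by
  rw [commutatorElement_def, show a * b * a⁻¹ * b⁻¹ = (a * a) * ((a⁻¹ * b) * (a⁻¹ * b)) * (b⁻¹ * b⁻¹) by group]
  exact D.mul_mem (D.mul_mem (h.hsq _ ha) (h.hsq _ (W.mul_mem (W.inv_mem ha) hb))) (h.hsq _ (W.inv_mem hb))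

theorem W_le_C : W ≤ centralizer (D : Set G) := fun _ hw => mem_centralizer_iff.2 fun _ hd => h.cen hw hd

theorem W_le_M : W ≤ normalizer (D : Set G) := h.hWT.trans h.hTD

/-- The representation. -/
theorem exists_phi : ∃ φ : ↥(normalizer (D : Set G)) →* GL32,
    (∀ m, φ m = 1 ↔ ∀ d ∈ D, d * (m : G) = m * d) ∧
    ∀ t (ht : t ∈ (T : Subgroup G)), IsUT (φ ⟨t, h.hTD ht⟩) := by
  obtain ⟨e, he, h0, h1, h2, hfl⟩ := h.hflag
  obtain ⟨φ, ψ, hinj, hψD, hsurj, hadd, hev, hφ⟩ := exists_rep D h.hcardD h.hexp e he h0 h1 h2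
  have hψ0 : ψ 0 = 1 := by
    have := hadd 0 0; rw [add_zero] at this; exact mul_eq_left.1 this.symm
  refine ⟨φ, fun m => ⟨fun hm d hd => ?_, fun hm => ?_⟩, fun t ht => ?_⟩
  · obtain ⟨v, rfl⟩ := hsurj d hd
    have h3 := hφ m v
    rw [hm, app_one] at h3
    conv_lhs => rw [h3]
    group
  · apply Units.ext
    apply Matrix.ext_of_mulVec_single
    intro i
    have h3 := hφ m (ev i)
    rw [← hm _ (hψD _), mul_inv_cancel_right] at h3
    exact (hinj h3).trans (app_one (ev i)).symm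
  · -- the flag is stable
    obtain ⟨f0, f1, f2⟩ := hfl t ht
    let g := φ ⟨t, h.hTD ht⟩
    let S0 : Subgroup G :=
      { carrier := {d | ∃ v : V32, (v 1 = 0 ∧ v 2 = 0) ∧ ψ v = d}
        one_mem' := ⟨0, ⟨rfl, rfl⟩, hψ0⟩
        mul_mem' := by
          rintro _ _ ⟨v, hv, rfl⟩ ⟨w, hw, rfl⟩
          exact ⟨v + w, ⟨by simp [hv.1, hw.1], by simp [hv.2, hw.2]⟩, hadd v w⟩
        inv_mem' := by
          rintro _ ⟨v, hv, rfl⟩
          exact ⟨v, hv, eq_inv_of_mul_eq_one_right (h.hexp _ (hψD v))⟩ }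
    let S1 : Subgroup G :=
      { carrier := {d | ∃ v : V32, v 2 = 0 ∧ ψ v = d}
        one_mem' := ⟨0, rfl, hψ0⟩
        mul_mem' := by
          rintro _ _ ⟨v, hv, rfl⟩ ⟨w, hw, rfl⟩
          exact ⟨v + w, by simp [hv, hw], hadd v w⟩
        inv_mem' := by
          rintro _ ⟨v, hv, rfl⟩
          exact ⟨v, hv, eq_inv_of_mul_eq_one_right (h.hexp _ (hψD v))⟩ }
    have hS0 : zpowers (e 0) ≤ S0 := zpowers_le.2 ⟨ev 0, ⟨rfl, rfl⟩, hev 0⟩
    have hS1 : zpowers (e 0) ⊔ zpowers (e 1) ≤ S1 :=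
      sup_le (zpowers_le.2 ⟨ev 0, rfl, hev 0⟩) (zpowers_le.2 ⟨ev 1, rfl, hev 1⟩)
    obtain ⟨v1, hv1, hv1e⟩ := hS0 f1
    obtain ⟨v2, hv2, hv2e⟩ := hS1 f2
    have c0 : app g (ev 0) = ev 0 := hinj (by rw [hφ, hev]; exact f0)
    have c1 : app g (ev 1) = v1 + ev 1 :=
      hinj (by rw [hφ, hadd, hev, hv1e, commutatorElement_def]; group)
    have c2 : app g (ev 2) = v2 + ev 2 :=
      hinj (by rw [hφ, hadd, hev, hv2e, commutatorElement_def]; group)
    have col : ∀ i j, (g : Matrix (Fin 3) (Fin 3) (ZMod 2)) i j = app g (ev j) i := by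
      intro i j; simp [app, ev]
    have key : ∀ j, app g (ev j) = (![ev 0, v1 + ev 1, v2 + ev 2] : Fin 3 → V32) j := by
      intro j; fin_cases j
      · exact c0
      · exact c1
      · exact c2
    intro i j hji
    rw [col, key]
    fin_cases j <;> fin_cases i <;> first
      | (exfalso; revert hji; decide)
      | simp [ev, hv1.1, hv1.2, hv2]

variable (φ : ↥(normalizer (D : Set G)) →* GL32)
  (hker : ∀ m, φ m = 1 ↔ ∀ d ∈ D, d * (m : G) = m * d)
  (hut : ∀ t (ht : t ∈ (T : Subgroup G)), IsUT (φ ⟨t, h.hTD ht⟩))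

/-- The representation on `T`. -/
noncomputable def phiT : ↥(T : Subgroup G) →* GL32 := φ.comp (inclusion h.hTD)

include hker in
theorem phiT_ker : (h.phiT φ).ker = W.subgroupOf (T : Subgroup G) := by
  ext t
  rw [MonoidHom.mem_ker, mem_subgroupOf, h.hcent t t.2]
  exact hker _

include hker hut in
theorem phiT_range : x01 ∈ (h.phiT φ).range ∧ x12 ∈ (h.phiT φ).range ∧ x02 ∈ (h.phiT φ).range ∧
    Nat.card (h.phiT φ).range = 8 := by
  have hc : Nat.card (h.phiT φ).range = 8 := by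
    rw [← index_ker, h.phiT_ker φ hker]; exact h.hidx
  obtain ⟨a, b, c⟩ := (ut_subgroup _ (by rintro _ ⟨t, rfl⟩; exact hut t t.2)).2 hc.ge
  exact ⟨a, b, c, hc⟩

include hker hut in
theorem long_orbit (g : G) (hg : g ∉ normalizer (D : Set G)) :
    2 < (MulAction.stabilizer G (g : G ⧸ normalizer (D : Set G))).relIndex W := by
  haveI : Fact (Nat.Prime 2) := ⟨Nat.prime_two⟩
  by_contra hle
  rw [not_lt, ← inf_relIndex_left] at hle
  set U : Subgroup G := W ⊓ MulAction.stabilizer G (g : G ⧸ (normalizer (D : Set G))) with hU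
  have hUW : U ≤ W := inf_le_left
  have hpU : IsPGroup 2 U := h.pT.to_le (hUW.trans h.hWT)
  have hUg : ∀ u ∈ U, g⁻¹ * u * g ∈ (normalizer (D : Set G)) := by
    intro u hu
    have he : ((u * g : G) : G ⧸ (normalizer (D : Set G))) = (g : G ⧸ (normalizer (D : Set G))) := hu.2
    rw [QuotientGroup.eq] at he
    simpa [mul_assoc] using (normalizer (D : Set G)).inv_mem he
  let c0 : U →* (normalizer (D : Set G)) :=
    { toFun := fun u => ⟨g⁻¹ * u * g, hUg u u.2⟩
      map_one' := Subtype.ext (by simp)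
      map_mul' := fun a b => Subtype.ext (by simp [mul_assoc]) }
  obtain ⟨Q, hQ⟩ := (hpU.of_surjective c0.rangeRestrict c0.rangeRestrict_surjective).exists_le_sylow
  obtain ⟨m, hm⟩ := MulAction.exists_smul_eq (normalizer (D : Set G)) Q (T.subtype h.hTD)
  have hmem : ∀ u : U, ((m : G) * g⁻¹) * u * ((m : G) * g⁻¹)⁻¹ ∈ (T : Subgroup G) := by
    intro u
    have h1 : m * c0 u * m⁻¹ ∈ ((m • Q : Sylow 2 (normalizer (D : Set G))) : Subgroup (normalizer (D : Set G))) := by
      rw [Sylow.coe_subgroup_smul]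
      exact ⟨c0 u, hQ ⟨u, rfl⟩, rfl⟩
    rw [hm] at h1
    have h2 : ((m * c0 u * m⁻¹ : (normalizer (D : Set G))) : G) ∈ (T : Subgroup G) := h1
    simpa [c0, mul_assoc] using h2
  set k : G := (m : G) * g⁻¹ with hk
  have hkM : k ∉ (normalizer (D : Set G)) := fun hc => hg (by
    have := (normalizer (D : Set G)).mul_mem ((normalizer (D : Set G)).inv_mem m.2) hc
    rw [hk, inv_mul_cancel_left] at this
    simpa using (normalizer (D : Set G)).inv_mem this)
  let f : U →* GL32 := (h.phiT φ).comp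
    { toFun := fun u => ⟨k * u * k⁻¹, hmem u⟩
      map_one' := Subtype.ext (by simp)
      map_mul' := fun a b => Subtype.ext (by simp [mul_assoc]) }
  have hfker : ∀ u : U, u ∈ f.ker ↔ k * u * k⁻¹ ∈ W := by
    intro u
    change _ ∈ (h.phiT φ).ker ↔ _
    rw [h.phiT_ker φ hker]
    rfl
  have hEut : ∀ x ∈ f.range, IsUT x := by
    rintro _ ⟨u, rfl⟩; exact hut _ (hmem u)
  let X0 : Subgroup G := f.ker.map U.subtype
  have hX0U : X0 ≤ U := map_subtype_le _
  have hX0 : X0.relIndex W ≤ Nat.card f.range * 2 := by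
    rw [← relIndex_mul_relIndex X0 U W hX0U hUW]
    refine Nat.mul_le_mul ?_ hle
    rw [relIndex, show X0.subgroupOf U = f.ker from comap_map_eq_self_of_injective U.subtype_injective _,
      index_ker]
  have hDk : ∀ d ∈ D, ∃ hd : d ∈ U, k * d * k⁻¹ ∈ W := by
    intro d hd
    obtain ⟨u, hu, rfl⟩ := h.hsat X0 (hX0U.trans hUW)
      (hX0.trans (by have := (ut_subgroup _ hEut).1; omega)) hd
    exact ⟨u.2, (hfker u).1 hu⟩
  have habel : ∀ a ∈ f.range, ∀ b ∈ f.range, a * b = b * a := by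
    rintro _ ⟨a, rfl⟩ _ ⟨b, rfl⟩
    obtain ⟨hd, hd'⟩ := hDk _ (h.comm_mem (hUW a.2) (hUW b.2))
    have h1 : f ⁅a, b⁆ = 1 := (hfker _).2 hd'
    rw [map_commutatorElement] at h1
    exact commutatorElement_eq_one_iff_mul_comm.1 h1
  have h4 : Nat.card f.range ≤ 4 := by
    have h8 := ut_comm_card _ hEut habel
    obtain ⟨n, hn⟩ := IsPGroup.iff_card.1 (hpU.of_surjective f.rangeRestrict f.rangeRestrict_surjective)
    rw [hn] at h8 ⊢
    have : n ≤ 2 := by
      by_contra hh
      have := Nat.pow_le_pow_right (show 0 < 2 by norm_num) (show 3 ≤ n by omega)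
      omega
    exact (Nat.pow_le_pow_right (by norm_num) this).trans (by norm_num)
  -- squares
  let cK : f.ker →* G := (MulAut.conj k).toMonoidHom.comp (U.subtype.comp f.ker.subtype)
  have hcKW : ∀ a : f.ker, cK a ∈ W := fun a => (hfker a.1).1 a.2
  haveI : (D.comap cK).Normal := ⟨fun n hn a => by
    rw [mem_comap, map_mul, map_mul, map_inv, ← h.cen (hcKW a) hn, mul_inv_cancel_right]
    exact hn⟩
  have hkey : ∀ d ∈ D, k * d * k⁻¹ ∈ D := by
    intro d hd
    obtain ⟨hdU, hdW⟩ := hDk d hd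
    refine mem_of_forall_index_le_two (hpU.to_subgroup f.ker) (D.comap cK)
      (fun y => by rw [mem_comap, map_mul]; exact h.hsq _ (hcKW y))
      ⟨⟨d, hdU⟩, (hfker _).2 hdW⟩ fun U1 hU1 _ => ?_
    let j : f.ker →* G := U.subtype.comp f.ker.subtype
    have hj : Function.Injective j := U.subtype_injective.comp f.ker.subtype_injective
    have hle' : U1.map j ≤ X0 := by
      rintro _ ⟨a, -, rfl⟩; exact ⟨a.1, a.2, rfl⟩
    have hrel : (U1.map j).relIndex X0 = U1.index := by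
      have : X0 = (⊤ : Subgroup f.ker).map j := by
        rw [← Subgroup.map_map, ← MonoidHom.range_eq_map, Subgroup.range_subtype]
      rw [this, relIndex_map_map_of_injective _ _ hj, relIndex_top_right]
    obtain ⟨a, ha, hae⟩ := h.hsat (U1.map j) (hle'.trans (hX0U.trans hUW)) (by
      rw [← relIndex_mul_relIndex _ X0 W hle' (hX0U.trans hUW), hrel]
      exact (Nat.mul_le_mul hU1 (hX0.trans (Nat.mul_le_mul h4 le_rfl))).trans (by norm_num)) hd
    rwa [show (⟨⟨d, hdU⟩, (hfker _).2 hdW⟩ : f.ker) = a from hj hae.symm]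
  exact hkM (mem_normalizer_of_conj_le hkey)

include hker hut in
theorem phi_surj (h2 : ∀ H : Subgroup G, H.index ≠ 2) : φ.range = ⊤ := by
  obtain ⟨r01, r12, r02, -⟩ := h.phiT_range φ hker hut
  have hle : ∀ y ∈ (h.phiT φ).range, y ∈ φ.range := by rintro _ ⟨t, rfl⟩; exact ⟨_, rfl⟩
  have key : ∀ y, y ∈ (h.phiT φ).range → y * y = 1 → y ≠ 1 → ∀ (hy : y ∈ φ.range)
      (χ : φ.range →* ℤˣ), χ ⟨y, hy⟩ = 1 := by
    intro y hyT hy2 hy1 hy χ
    obtain ⟨x, rfl⟩ := hyT
    let T1' : Subgroup (T : Subgroup G) := (zpowers (h.phiT φ x)).comap (h.phiT φ)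
    let T1 : Subgroup G := T1'.map (T : Subgroup G).subtype
    have hWT1 : W ≤ T1 := fun w hw => ⟨⟨w, h.hWT hw⟩, by
      have : (⟨w, h.hWT hw⟩ : (T : Subgroup G)) ∈ (h.phiT φ).ker := by
        rw [h.phiT_ker φ hker]; exact hw
      change h.phiT φ _ ∈ zpowers _
      rw [MonoidHom.mem_ker.1 this]; exact one_mem _, rfl⟩
    have hrel : W.relIndex T1 = 2 := by
      have hW : W = (W.subgroupOf (T : Subgroup G)).map (T : Subgroup G).subtype := by
        rw [subgroupOf_map_subtype, inf_eq_left.2 h.hWT]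
      rw [hW, relIndex_map_map_of_injective _ _ (Subgroup.subtype_injective _), ← h.phiT_ker φ hker,
        relIndex_ker, map_comap_eq_self (zpowers_le.2 ⟨x, rfl⟩), Nat.card_zpowers]
      exact orderOf_eq_prime (by rw [pow_two, hy2]) hy1
    have hxW : (x : G) ∉ W := fun hx => hy1 (by
      have : x ∈ (h.phiT φ).ker := by rw [h.phiT_ker φ hker]; exact hx
      exact this)
    have := sign_eq_one (χ.comp φ.rangeRestrict) T1 W D h2 (h.pT.to_le (map_subtype_le _)) hWT1
      ((map_subtype_le _).trans h.hTD) hrel h.hsq h.hsat (h.long_orbit φ hker hut)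
      (x := x) ⟨x, mem_zpowers _, rfl⟩ hxW
    exact this
  refine eq_top_of_orbit _ (hle _ r01) (hle _ r12) (hle _ r02) ?_ ?_
  · by_contra hc
    push Not at hc
    obtain ⟨χ, hχ⟩ := exists_sign_of_fix φ.range hc (hle _ r12)
    refine hχ (key _ r12 ?_ ?_ _ χ)
    · exact Units.ext (x12).val_inv
    · intro he; have := congrArg (fun g : GL32 => app g (ev 2)) he; revert this; decide
  · by_contra hc
    push Not at hc
    obtain ⟨χ, hχ⟩ := exists_sign_of_plane φ.range hc (hle _ r01)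
    refine hχ (key _ r01 ?_ ?_ _ χ)
    · exact Units.ext (x01).val_inv
    · intro he; have := congrArg (fun g : GL32 => app g (ev 1)) he; revert this; decide

variable (hsurj : φ.range = ⊤)

include hker in
theorem ker_eq : φ.ker = (centralizer (D : Set G)).subgroupOf (normalizer (D : Set G)) := by
  ext m
  rw [MonoidHom.mem_ker, hker, mem_subgroupOf, mem_centralizer_iff]
  rfl

include hker hut hsurj in
theorem odd_C : Odd (W.relIndex (centralizer (D : Set G))) := by
  haveI : Fact (Nat.Prime 2) := ⟨Nat.prime_two⟩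
  obtain ⟨-, -, -, h8⟩ := h.phiT_range φ hker hut
  have hd8 : 8 ∣ Nat.card GL32 := h8 ▸ (h.phiT φ).range.card_subgroup_dvd_card
  have hCM : centralizer (D : Set G) ≤ normalizer (D : Set G) := Subgroup.centralizer_le_normalizer _
  have hcardM := φ.ker.index_mul_card
  rw [index_ker, hsurj, Subgroup.card_top, h.ker_eq φ hker,
    Nat.card_congr (subgroupOfEquivOfLe hCM).toEquiv] at hcardM
  have h1 := relIndex_mul_relIndex ⊥ W (centralizer (D : Set G)) bot_le h.W_le_C
  rw [relIndex_bot_left, relIndex_bot_left] at h1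
  rw [Nat.odd_iff, ← Nat.two_dvd_ne_zero]
  intro hev
  apply T.not_dvd_index
  have hT14 : Nat.card (T : Subgroup G) = 8 * Nat.card W := by
    have h3 := relIndex_mul_relIndex ⊥ W (T : Subgroup G) bot_le h.hWT
    rw [relIndex_bot_left, relIndex_bot_left, h.hidx] at h3
    rw [← h3, mul_comm]
  have h4 : 2 * Nat.card (T : Subgroup G) ∣ Nat.card G := by
    refine dvd_trans ?_ (normalizer (D : Set G)).card_subgroup_dvd_card
    rw [← hcardM, hT14, ← h1, show 2 * (8 * Nat.card W) = 8 * (Nat.card W * 2) by ring]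
    exact Nat.mul_dvd_mul hd8 (Nat.mul_dvd_mul_left _ hev)
  rw [← (T : Subgroup G).index_mul_card] at h4
  exact Nat.dvd_of_mul_dvd_mul_right Nat.card_pos h4

include hker hut hsurj in
theorem frattini_M : ∀ m ∈ normalizer (D : Set G), ∃ n ∈ normalizer (W : Set G),
    ∃ c ∈ centralizer (D : Set G), m = n * c := by
  haveI : Fact (Nat.Prime 2) := ⟨Nat.prime_two⟩
  intro m hm
  have hWk : W.subgroupOf (normalizer (D : Set G)) ≤ φ.ker := by
    rw [h.ker_eq φ hker]; exact fun x hx => h.W_le_C hx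
  let P' : Subgroup φ.ker := (W.subgroupOf (normalizer (D : Set G))).subgroupOf φ.ker
  have hpW : IsPGroup 2 W := h.pT.to_le h.hWT
  have hP2 : IsPGroup 2 P' := (hpW.of_equiv (subgroupOfEquivOfLe h.W_le_M).symm).of_equiv
    (subgroupOfEquivOfLe hWk).symm
  have hPi : ¬ 2 ∣ P'.index := by
    change ¬ 2 ∣ (W.subgroupOf (normalizer (D : Set G))).relIndex φ.ker
    rw [h.ker_eq φ hker, relIndex_subgroupOf (Subgroup.centralizer_le_normalizer _)]
    exact (h.odd_C φ hker hut hsurj).not_two_dvd_nat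
  have hfr := Sylow.normalizer_sup_eq_top (hP2.toSylow hPi)
  have hmem : (⟨m, hm⟩ : normalizer (D : Set G)) ∈ normalizer
      ((hP2.toSylow hPi : Subgroup φ.ker).map φ.ker.subtype : Set (normalizer (D : Set G))) ⊔ φ.ker := by
    rw [hfr]; trivial
  obtain ⟨n, hn, c, hc, he⟩ := mem_sup_of_normal_right.1 hmem
  refine ⟨n, ?_, c, ?_, (congrArg Subtype.val he).symm⟩
  · change n ∈ normalizer ((P'.map φ.ker.subtype : Subgroup (normalizer (D : Set G))) :
      Set (normalizer (D : Set G))) at hn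
    rw [subgroupOf_map_subtype, inf_eq_left.2 hWk] at hn
    exact mem_normalizer_of_conj_le fun x hx => (mem_normalizer_iff.1 hn ⟨x, h.W_le_M hx⟩).1 hx
  · rw [h.ker_eq φ hker] at hc; exact hc

/-- The representation on the normaliser of `W`. -/
noncomputable def phiN : ↥(normalizer (W : Set G)) →* GL32 := φ.comp (inclusion h.hND)

include hker in
theorem phiN_ker : (h.phiN φ).ker = (centralizer (D : Set G)).subgroupOf (normalizer (W : Set G)) := by
  ext n
  change inclusion h.hND n ∈ φ.ker ↔ _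
  rw [h.ker_eq φ hker]
  rfl

include hker hut hsurj in
theorem phiN_surj : Function.Surjective (h.phiN φ) := by
  intro g
  obtain ⟨m, rfl⟩ := MonoidHom.range_eq_top.1 hsurj g
  obtain ⟨n, hn, c, hc, he⟩ := h.frattini_M φ hker hut hsurj m m.2
  refine ⟨⟨n, hn⟩, ?_⟩
  have hc' : φ ⟨c, Subgroup.centralizer_le_normalizer _ hc⟩ = 1 :=
    (hker _).2 (mem_centralizer_iff.1 hc)
  have hm : m = inclusion h.hND ⟨n, hn⟩ * ⟨c, Subgroup.centralizer_le_normalizer _ hc⟩ := Subtype.ext he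
  rw [hm, map_mul, hc', mul_one]
  rfl

include hker hut hsurj in
theorem acts_trivially : ∀ c ∈ centralizer (D : Set G), c ∈ normalizer (W : Set G) →
    ∀ w ∈ W, (c * w * c⁻¹)⁻¹ * w ∈ D := by
  haveI : Fact (Nat.Prime 2) := ⟨Nat.prime_two⟩
  let Dw : Subgroup W := D.subgroupOf W
  haveI hDwn : Dw.Normal := ⟨fun n hn a => by
    change (a : G) * n * (a : G)⁻¹ ∈ D
    rw [show (a : G) * n = n * a from (h.cen a.2 hn).symm, mul_inv_cancel_right]
    exact hn⟩
  letI : CommGroup (W ⧸ Dw) :=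
    { (inferInstance : Group (W ⧸ Dw)) with
      mul_comm := fun x y => by
        induction x using QuotientGroup.induction_on with
        | _ a =>
        induction y using QuotientGroup.induction_on with
        | _ b =>
        rw [← QuotientGroup.mk_mul, ← QuotientGroup.mk_mul, QuotientGroup.eq]
        change ((a : G) * b)⁻¹ * ((b : G) * a) ∈ D
        have := h.comm_mem (W.inv_mem b.2) (W.inv_mem a.2)
        rw [commutatorElement_def] at this
        simpa [mul_assoc] using this }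
  let N : Subgroup G := normalizer (W : Set G)
  have hnW : ∀ (n : N) (w : W), (n : G) * w * (n : G)⁻¹ ∈ W :=
    fun n w => (mem_normalizer_iff.1 n.2 _).1 w.2
  have hnW' : ∀ (n : N) (w : W), (n : G)⁻¹ * w * (n : G) ∈ W := fun n w => by
    simpa using hnW n⁻¹ w
  let a : N →* MulAut W :=
    { toFun := fun n =>
        { toFun := fun w => ⟨(n : G) * w * (n : G)⁻¹, hnW n w⟩
          invFun := fun w => ⟨(n : G)⁻¹ * w * (n : G), hnW' n w⟩
          left_inv := fun w => Subtype.ext (by simp [mul_assoc])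
          right_inv := fun w => Subtype.ext (by simp [mul_assoc])
          map_mul' := fun u v => Subtype.ext (by simp [mul_assoc]) }
      map_one' := MulEquiv.ext fun w => Subtype.ext (by simp)
      map_mul' := fun m n => MulEquiv.ext fun w => Subtype.ext (by simp [mul_assoc]) }
  have hstab : ∀ (n : N), ∀ w : W, w ∈ Dw → a n w ∈ Dw := fun n w hw =>
    (mem_normalizer_iff.1 (h.hND n.2) _).1 hw
  let ρ : N →* MulAut (W ⧸ Dw) :=
    { toFun := fun n => QuotientGroup.congr Dw Dw (a n) (by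
        apply le_antisymm
        · rintro _ ⟨w, hw, rfl⟩; exact hstab n w hw
        · intro w hw
          exact ⟨a n⁻¹ w, hstab n⁻¹ w hw, by
            change a n (a n⁻¹ w) = w
            rw [← MulAut.mul_apply, ← map_mul, mul_inv_cancel, map_one, MulAut.one_apply]⟩)
      map_one' := by
        ext v
        induction v using QuotientGroup.induction_on with
        | _ w => simp [QuotientGroup.congr_mk]
      map_mul' := fun m n => by
        ext v
        induction v using QuotientGroup.induction_on with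
        | _ w => simp [QuotientGroup.congr_mk] }
  have hρ : ∀ (n : N) (w : W), ρ n (w : W ⧸ Dw) = ((a n w : W) : W ⧸ Dw) := fun n w => rfl
  have hρW : ∀ n : N, (n : G) ∈ W → n ∈ ρ.ker := by
    intro n hn
    ext v
    induction v using QuotientGroup.induction_on with
    | _ w =>
      rw [hρ]
      change ((a n w : W) : W ⧸ Dw) = (w : W ⧸ Dw)
      rw [QuotientGroup.eq]
      change ((n : G) * w * (n : G)⁻¹)⁻¹ * w ∈ D
      have := h.comm_mem hn (W.inv_mem w.2)
      rw [commutatorElement_def] at this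
      simpa [mul_assoc] using this
  let CN : Subgroup N := (centralizer (D : Set G)).subgroupOf N
  haveI hCNn : CN.Normal := by
    rw [show CN = (h.phiN φ).ker from (h.phiN_ker φ hker).symm]; infer_instance
  let K : Subgroup (MulAut (W ⧸ Dw)) := CN.map ρ
  let Timg : Subgroup (MulAut (W ⧸ Dw)) := ((T : Subgroup G).subgroupOf N).map ρ
  have hTN : (T : Subgroup G) ≤ N := h.hTW
  have hKodd : Odd (Nat.card K) := by
    have hd1 : Nat.card K ∣ (W.subgroupOf N).relIndex CN := by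
      change Nat.card (CN.map ρ) ∣ _
      rw [← relIndex_ker]
      exact relIndex_dvd_of_le_left CN (fun n hn => hρW n hn)
    have hd2 : (W.subgroupOf N).relIndex CN ∣ W.relIndex (centralizer (D : Set G)) := by
      change (W.subgroupOf N).relIndex ((centralizer (D : Set G)).subgroupOf N) ∣ _
      rw [← inf_subgroupOf_right (centralizer (D : Set G)) N, relIndex_subgroupOf inf_le_right]
      exact ⟨_, (relIndex_mul_relIndex W ((centralizer (D : Set G)) ⊓ N) (centralizer (D : Set G))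
        (le_inf h.W_le_C Subgroup.le_normalizer) inf_le_left).symm⟩
    exact Odd.of_dvd_nat (h.odd_C φ hker hut hsurj) (hd1.trans hd2)
  have hV : ∀ v : W ⧸ Dw, v * v = 1 := by
    intro v
    induction v using QuotientGroup.induction_on with
    | _ w => rw [← QuotientGroup.mk_mul, QuotientGroup.eq_one_iff]; exact h.hsq _ w.2
  have hV8 : Nat.card (W ⧸ Dw) ≤ 256 := by
    have := Dw.index_mul_card
    rw [Nat.card_congr (subgroupOfEquivOfLe h.hDW).toEquiv, h.hcardD, h.hcardW, index_eq_card] at this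
    omega
  have hKbot : K = ⊥ := by
    refine odd_normal_bot hV hV8 ρ.range Timg K (map_le_range ρ _)
      ((h.pT.of_equiv (subgroupOfEquivOfLe hTN).symm).map ρ) (map_le_range ρ _) ?_ hKodd ?_ ?_
    · rintro _ ⟨n, rfl⟩ _ ⟨c, hc, rfl⟩
      exact ⟨n * c * n⁻¹, hCNn.conj_mem c hc n, by simp⟩
    · intro u v
      induction u using QuotientGroup.induction_on with
      | _ u =>
      induction v using QuotientGroup.induction_on with
      | _ v =>
      intro hu hv hu1 hv1
      have hcomm : ∀ z : W, (∀ t ∈ Timg, t (z : W ⧸ Dw) = z) →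
          ∀ t ∈ (T : Subgroup G), ⁅(z : G), t⁆ ∈ D := by
        intro z hz t ht
        have h1 := hz _ ⟨⟨t, hTN ht⟩, ht, rfl⟩
        rw [hρ, QuotientGroup.eq] at h1
        have h1' : (t * (z : G) * t⁻¹)⁻¹ * z ∈ D := h1
        have h2 := (mem_normalizer_iff.1 (h.W_le_M z.2) _).1 h1'
        rw [commutatorElement_def]
        simpa [mul_assoc] using h2
      rw [Ne, QuotientGroup.eq_one_iff] at hu1 hv1
      have h3 := h.huniq u v u.2 v.2 (hcomm u hu) (hcomm v hv) hu1 hv1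
      rw [QuotientGroup.eq]
      change (u : G)⁻¹ * v ∈ D
      have h4 := (mem_normalizer_iff.1 (h.W_le_M (W.inv_mem u.2)) _).1 (D.inv_mem h3)
      simpa [mul_assoc] using h4
    · intro H1 hTH1 hH1 hsup L hLH hLn hLc
      let N1 : Subgroup N := H1.comap ρ
      let ψ : N →* GL32 := h.phiN φ
      have hψsurj := h.phiN_surj φ hker hut hsurj
      have hkerN1 : ρ.ker ≤ N1 := fun x hx => by
        change ρ x ∈ H1; rw [MonoidHom.mem_ker.1 hx]; exact one_mem _
      have hψCN : ∀ c ∈ CN, ψ c = 1 := fun c hc => by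
        rw [← MonoidHom.mem_ker, h.phiN_ker φ hker]; exact hc
      -- `N1` covers `GL(3, 2)`
      have hN1 : N1.map ψ = ⊤ := by
        rw [eq_top_iff]
        intro g _
        obtain ⟨n, rfl⟩ := hψsurj g
        let S : Subgroup N := (N1.map ψ).comap ψ
        have hS : N1 ≤ S := fun x hx => ⟨x, hx, rfl⟩
        have h1 : ρ n ∈ S.map ρ := by
          refine (sup_le ?_ (map_mono ?_)) (hsup ⟨n, rfl⟩)
          · intro x hx
            obtain ⟨y, rfl⟩ := hH1 hx
            exact ⟨y, hS hx, rfl⟩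
          · intro c hc
            change ψ c ∈ N1.map ψ
            rw [hψCN c hc]; exact one_mem _
        obtain ⟨s, hs, hse⟩ := h1
        have h2 : s⁻¹ * n ∈ S := hS (hkerN1 (by
          rw [MonoidHom.mem_ker, map_mul, map_inv, hse, inv_mul_cancel]))
        have h3 := S.mul_mem hs h2
        rw [mul_inv_cancel_left] at h3
        exact h3
      let L1 : Subgroup N := L.comap ρ
      have hL1 : L1 ≤ N1 := fun x hx => hLH hx
      haveI hLgn : (L1.map ψ).Normal := ⟨by
        rintro _ ⟨l, hl, rfl⟩ g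
        obtain ⟨n, hn, rfl⟩ : g ∈ N1.map ψ := hN1 ▸ mem_top g
        refine ⟨n * l * n⁻¹, ?_, by simp⟩
        change ρ _ ∈ L
        rw [map_mul, map_mul, map_inv]
        exact hLn _ hn _ hl⟩
      obtain ⟨r01, r12, -, -⟩ := h.phiT_range φ hker hut
      obtain ⟨t1, ht1⟩ := r01
      obtain ⟨t2, ht2⟩ := r12
      have e1 : ψ ⟨t1, hTN t1.2⟩ = x01 := ht1
      have e2 : ψ ⟨t2, hTN t2.2⟩ = x12 := ht2
      have h02 : x02 ∈ L1.map ψ := by
        refine ⟨⟨t1, hTN t1.2⟩ * ⟨t2, hTN t2.2⟩ * ⟨t1, hTN t1.2⟩⁻¹ * ⟨t2, hTN t2.2⟩⁻¹, ?_, ?_⟩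
        · change ρ _ ∈ L
          rw [map_mul, map_mul, map_mul, map_inv, map_inv]
          exact hLc _ ⟨⟨t1, hTN t1.2⟩, t1.2, rfl⟩ _ ⟨⟨t2, hTN t2.2⟩, t2.2, rfl⟩
        · rw [map_mul, map_mul, map_mul, map_inv, map_inv, e1, e2, comm_x01_x12]
      have hLtop : L1.map ψ = ⊤ := normal_eq_top _ h02
      rintro _ ⟨t, ht, rfl⟩
      obtain ⟨l, hl, hle⟩ : ψ t ∈ L1.map ψ := hLtop ▸ mem_top _
      have hc : l⁻¹ * t ∈ CN := by
        change l⁻¹ * t ∈ (centralizer (D : Set G)).subgroupOf _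
        rw [← h.phiN_ker φ hker, MonoidHom.mem_ker, map_mul, map_inv]
        change (ψ l)⁻¹ * ψ t = 1
        rw [hle, inv_mul_cancel]
      have htH : ρ t ∈ H1 := hTH1 ⟨t, ht, rfl⟩
      have hlH : ρ l ∈ H1 := hLH hl
      haveI : (L.subgroupOf H1).Normal := ⟨fun x hx g => hLn _ g.2 _ hx⟩
      let q := QuotientGroup.mk' (L.subgroupOf H1)
      have h5 : q ⟨ρ l, hlH⟩ = 1 := (QuotientGroup.eq_one_iff _).2 hl
      have hpow : (⟨ρ l, hlH⟩⁻¹ * ⟨ρ t, htH⟩ : H1) ^ Nat.card K = 1 := by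
        apply Subtype.ext
        have hmem : ρ (l⁻¹ * t) ∈ K := ⟨_, hc, rfl⟩
        have h6 := congrArg Subtype.val (pow_card_eq_one' (x := (⟨_, hmem⟩ : K)))
        simpa only [Subgroup.coe_pow, Subgroup.coe_one, Subgroup.coe_mul, Subgroup.coe_inv, map_mul, map_inv] using h6
      have h7 : (q ⟨ρ t, htH⟩) ^ Nat.card K = 1 := by
        have := congrArg q hpow
        rw [map_one, map_pow, map_mul, map_inv, h5, inv_one, one_mul] at this
        exact this
      obtain ⟨k, hk⟩ := (IsPGroup.iff_orderOf.1 h.pT) (⟨(t : G), ht⟩ : (T : Subgroup G))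
      have h8 : (q ⟨ρ t, htH⟩) ^ (2 ^ k) = 1 := by
        have h9 : ((t : G)) ^ (2 ^ k) = 1 := by
          have := congrArg Subtype.val (pow_orderOf_eq_one (⟨(t : G), ht⟩ : (T : Subgroup G)))
          rwa [hk] at this
        rw [← map_pow, show (⟨ρ t, htH⟩ : H1) ^ (2 ^ k) = 1 from Subtype.ext (by
          change ρ t ^ (2 ^ k) = 1
          rw [← map_pow, show t ^ (2 ^ k) = 1 from Subtype.ext h9, map_one]), map_one]
      have h10 : q ⟨ρ t, htH⟩ = 1 := by
        rw [← pow_one (q ⟨ρ t, htH⟩), ← (Nat.Coprime.pow_right k hKodd.coprime_two_right).gcd_eq_one,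
          pow_gcd_eq_one]
        exact ⟨h7, h8⟩
      exact (QuotientGroup.eq_one_iff (N := L.subgroupOf H1) (⟨ρ t, htH⟩ : H1)).1 h10
  intro c hc hcN w hw
  have h1 : ρ ⟨c, hcN⟩ = 1 := by
    rw [← mem_bot, ← hKbot]; exact ⟨_, hc, rfl⟩
  have h2 := hρ ⟨c, hcN⟩ ⟨w, hw⟩
  rw [h1, MulAut.one_apply, eq_comm, QuotientGroup.eq] at h2
  exact h2

include hker hut hsurj in
theorem exists_core : ∃ Q : Subgroup G, Q ≤ centralizer (D : Set G) ∧ Odd (Nat.card Q) ∧
    (∀ m ∈ normalizer (D : Set G), ∀ x ∈ Q, m * x * m⁻¹ ∈ Q) ∧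
    ∀ c ∈ centralizer (D : Set G), ∃ x ∈ Q, ∃ w ∈ W, c = x * w := by
  haveI : Fact (Nat.Prime 2) := ⟨Nat.prime_two⟩
  have htriv := h.acts_trivially φ hker hut hsurj
  have hDC : D ≤ centralizer (D : Set G) := h.hDW.trans h.W_le_C
  set C : Subgroup G := centralizer (D : Set G) with hC
  let Dc : Subgroup C := D.subgroupOf C
  have hcD : ∀ (c : C) (d : C), d ∈ Dc → d * c = c * d := fun c d hd =>
    Subtype.ext (mem_centralizer_iff.1 c.2 _ hd)
  haveI hDcn : Dc.Normal := ⟨fun n hn g => by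
    rw [← hcD g n hn, mul_inv_cancel_right]; exact hn⟩
  let q := QuotientGroup.mk' Dc
  have hpW : IsPGroup 2 W := h.pT.to_le h.hWT
  have hWc : IsPGroup 2 (W.subgroupOf C) := hpW.of_equiv (subgroupOfEquivOfLe h.W_le_C).symm
  let WS : Sylow 2 C := hWc.toSylow (by
    exact (h.odd_C φ hker hut hsurj).not_two_dvd_nat)
  let PS : Sylow 2 (C ⧸ Dc) := WS.mapSurjective (QuotientGroup.mk'_surjective Dc)
  have hPS : ∀ z, z ∈ (PS : Subgroup (C ⧸ Dc)) ↔ ∃ a : C, (a : G) ∈ W ∧ q a = z := fun z => Iff.rfl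
  have hPSmem : ∀ a : C, q a ∈ (PS : Subgroup (C ⧸ Dc)) → (a : G) ∈ W := by
    intro a ha
    obtain ⟨b, hb, hbe⟩ := (hPS _).1 ha
    have h1 : b⁻¹ * a ∈ Dc := by
      rw [← QuotientGroup.eq]; exact hbe
    have h2 := W.mul_mem hb (h.hDW h1)
    simpa using h2
  have hP : normalizer (PS : Set (C ⧸ Dc)) ≤ centralizer (PS : Set (C ⧸ Dc)) := by
    intro z hz
    obtain ⟨c, rfl⟩ := QuotientGroup.mk'_surjective Dc z
    have hcN : (c : G) ∈ normalizer (W : Set G) := mem_normalizer_of_conj_le fun w hw => by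
      have h1 := (mem_normalizer_iff.1 hz (q ⟨w, h.W_le_C hw⟩)).1 ((hPS _).2 ⟨_, hw, rfl⟩)
      have h2 := hPSmem (c * ⟨w, h.W_le_C hw⟩ * c⁻¹) (by simpa [q] using h1)
      exact h2
    rw [mem_centralizer_iff]
    intro y hy
    obtain ⟨a, ha, rfl⟩ := (hPS y).1 hy
    have h1 : (c * a * c⁻¹)⁻¹ * a ∈ Dc := htriv c c.2 hcN a ha
    have h2 : q (c * a * c⁻¹) = q a := QuotientGroup.eq.2 h1
    rw [map_mul, map_mul, map_inv] at h2
    calc q a * q c = (q c * q a * (q c)⁻¹) * q c := by rw [h2]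
      _ = q c * q a := by group
  have hcomp := MonoidHom.ker_transferSylow_isComplement' PS hP
  let τ := MonoidHom.transferSylow PS hP
  have hL0odd : Odd (Nat.card τ.ker) := by
    rw [← hcomp.index_eq_card, Nat.odd_iff, ← Nat.two_dvd_ne_zero]
    exact PS.not_dvd_index
  let L : Subgroup C := τ.ker.comap q
  have hDL : Dc ≤ L := fun d hd => by
    change q d ∈ τ.ker
    rw [(QuotientGroup.eq_one_iff d).2 hd |> fun e => (e : q d = 1)]
    exact one_mem _
  have hDc2 : IsPGroup 2 Dc := (hpW.to_le h.hDW).of_equiv (subgroupOfEquivOfLe hDC).symm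
  let DS : Sylow 2 L := (hDc2.of_equiv (subgroupOfEquivOfLe hDL).symm).toSylow (p := 2) (by
    change ¬ 2 ∣ Dc.relIndex L
    have e : q.ker.relIndex L = Nat.card τ.ker := by
      rw [relIndex_ker, map_comap_eq_self_of_surjective (QuotientGroup.mk'_surjective Dc)]
    rw [QuotientGroup.ker_mk'] at e
    rw [e]; exact hL0odd.not_two_dvd_nat)
  have hP' : normalizer (DS : Set L) ≤ centralizer (DS : Set L) := by
    intro l _
    rw [mem_centralizer_iff]
    intro d hd
    exact Subtype.ext (hcD l d hd)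
  have hcomp' := MonoidHom.ker_transferSylow_isComplement' DS hP'
  let τ' := MonoidHom.transferSylow DS hP'
  have hQ0odd : Odd (Nat.card τ'.ker) := by
    rw [← hcomp'.index_eq_card, Nat.odd_iff, ← Nat.two_dvd_ne_zero]
    exact DS.not_dvd_index
  let Q : Subgroup G := τ'.ker.map (C.subtype.comp L.subtype)
  have hQle : Q ≤ C := by rintro _ ⟨x, -, rfl⟩; exact x.1.2
  have hQcard : Nat.card Q = Nat.card τ'.ker :=
    Nat.card_congr (τ'.ker.equivMapOfInjective _ (C.subtype_injective.comp L.subtype_injective)).toEquiv.symm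
  have hQmem : ∀ (x : C) (j : ℕ), Odd j → x ^ j = 1 → (x : G) ∈ Q := by
    intro x j hj hx
    have h1 : x ∈ L := map_eq_one_of_odd PS.isPGroup' τ hj (x := q x) (by rw [← map_pow, hx, map_one])
    exact ⟨⟨x, h1⟩, map_eq_one_of_odd DS.isPGroup' τ' hj (x := (⟨x, h1⟩ : L)) (Subtype.ext hx), rfl⟩
  refine ⟨Q, hQle, hQcard ▸ hQ0odd, fun m hm x hx => ?_, fun c hc => ?_⟩
  · have h1 : m * x * m⁻¹ ∈ C := by
      rw [hC, mem_centralizer_iff]
      intro d hd
      have hd' : m⁻¹ * d * m ∈ D := by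
        have := (mem_normalizer_iff.1 (inv_mem hm) d).1 hd
        simpa using this
      have h3 := mem_centralizer_iff.1 (hQle hx) _ hd'
      calc d * (m * x * m⁻¹) = m * ((m⁻¹ * d * m) * x) * m⁻¹ := by group
        _ = m * (x * (m⁻¹ * d * m)) * m⁻¹ := by rw [h3]
        _ = m * x * m⁻¹ * d := by group
    refine hQmem ⟨_, h1⟩ (Nat.card Q) (hQcard ▸ hQ0odd) (Subtype.ext ?_)
    have h2 : x ^ Nat.card Q = 1 := congrArg Subtype.val (pow_card_eq_one' (x := (⟨x, hx⟩ : Q)))
    rw [Subgroup.coe_pow, conj_pow, h2, mul_one, mul_inv_cancel]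
    rfl
  · obtain ⟨l0, hl0, p, hp, he⟩ := mem_sup_of_normal_left.1
      (show q ⟨c, hc⟩ ∈ τ.ker ⊔ (PS : Subgroup (C ⧸ Dc)) by rw [hcomp.sup_eq_top]; trivial)
    obtain ⟨a, ha, rfl⟩ := (hPS p).1 hp
    have hl : (⟨c, hc⟩ : C) * a⁻¹ ∈ L := by
      change q _ ∈ τ.ker
      rw [map_mul, map_inv, ← he, mul_inv_cancel_right]
      exact hl0
    obtain ⟨x, hx, d, hd, he'⟩ := mem_sup_of_normal_left.1
      (show (⟨_, hl⟩ : L) ∈ τ'.ker ⊔ (DS : Subgroup L) by rw [hcomp'.sup_eq_top]; trivial)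
    refine ⟨_, ⟨x, hx, rfl⟩, ((d.1 : C) : G) * (a : G), W.mul_mem (h.hDW hd) ha, ?_⟩
    have := congrArg (fun y : L => ((y.1 : C) : G)) he'
    simp only [Subgroup.coe_mul, Subgroup.coe_inv] at this
    simp only [MonoidHom.coe_comp, Function.comp_apply, Subgroup.coe_subtype]
    rw [← mul_assoc, this, inv_mul_cancel_right]

end Cfg

end Cfsg.Agent.FourCentral81
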