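import Mathlib
import Cfsg.Agent.S3279

/-!
Groups in which all involutions are conjugate with centraliser a four-group: the order is 60
(or there are only three involutions), by counting pairs of involutions.
-/

set_option autoImplicit false

namespace Cfsg.Agent.FourCentralizer

open Cfsg.Agent.S3279 (inv_mul_self_eq inv_eq inv_ne_one order_conj commute_conj order_mul)

variable {G : Type*} [Group G]

/-- `u` inverts every element of `A`. -/
def Inverts (u : G) (A : Subgroup G) : Prop := ∀ a ∈ A, u * a * u⁻¹ = a⁻¹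

/-- the centralisers of the real elements of order greater than two -/
def IsTorus (A : Subgroup G) : Prop :=
  ∃ u r : G, orderOf u = 2 ∧ r * r ≠ 1 ∧ u * r * u⁻¹ = r⁻¹ ∧
    A = Subgroup.centralizer ({r} : Set G)

/-- all involutions have a centraliser which is a four-group -/
def FourCentralizers (G : Type*) [Group G] : Prop :=
  ∀ u : G, orderOf u = 2 → Nat.card ↥(Subgroup.centralizer ({u} : Set G)) = 4 ∧
    ∀ c ∈ Subgroup.centralizer ({u} : Set G), c ^ 2 = 1

theorem sq_of_commute (hV : FourCentralizers G) {u c : G} (hu : orderOf u = 2) (hc : Commute c u) :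
    c * c = 1 := by
  rw [← pow_two]
  exact (hV u hu).2 c (Subgroup.mem_centralizer_singleton_iff.2 hc.eq)

variable [Finite G]

theorem torus_aux (hV : FourCentralizers G) {u r : G} (hu : orderOf u = 2) (hr : r * r ≠ 1)
    (hi : u * r * u⁻¹ = r⁻¹) :
    Odd (Nat.card ↥(Subgroup.centralizer ({r} : Set G))) ∧
      Inverts u (Subgroup.centralizer ({r} : Set G)) ∧
      ∀ a ∈ Subgroup.centralizer ({r} : Set G), ∀ b ∈ Subgroup.centralizer ({r} : Set G), a * b = b * a := by
  set A := Subgroup.centralizer ({r} : Set G)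
  have hodd : Odd (Nat.card A) := by
    rw [← Nat.not_even_iff_odd, even_iff_two_dvd]
    intro h
    haveI : Fact (Nat.Prime 2) := ⟨Nat.prime_two⟩
    obtain ⟨w, hw⟩ := exists_prime_orderOf_dvd_card' 2 h
    rw [← Subgroup.orderOf_coe] at hw
    have hwr : Commute (w : G) r := Subgroup.mem_centralizer_singleton_iff.1 w.2
    exact hr (sq_of_commute hV hw hwr.symm)
  have hstab : ∀ a ∈ A, u * a * u⁻¹ ∈ A := by
    intro a ha
    have h : Commute a r := Subgroup.mem_centralizer_singleton_iff.1 ha
    have h' := commute_conj u h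
    rw [hi] at h'
    exact Subgroup.mem_centralizer_singleton_iff.2 (Commute.inv_right_iff.1 h').eq
  let φ : A →* A := MonoidHom.mk' (fun a => ⟨u * a * u⁻¹, hstab a a.2⟩) (fun a b => by
    refine Subtype.ext ?_
    show u * ((a : G) * b) * u⁻¹ = u * a * u⁻¹ * (u * b * u⁻¹)
    group)
  have hfpf : MonoidHom.FixedPointFree φ := by
    intro a ha
    have h1 : u * (a : G) * u⁻¹ = a := congrArg Subtype.val ha
    have h2 : a * a = 1 := Subtype.ext (sq_of_commute hV hu (mul_inv_eq_iff_eq_mul.1 h1).symm)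
    have h3 : orderOf a ∣ 2 := orderOf_dvd_of_pow_eq_one (by rw [pow_two, h2])
    rcases (Nat.dvd_prime Nat.prime_two).1 h3 with h4 | h4
    · exact orderOf_eq_one_iff.1 h4
    · exact absurd (h4 ▸ orderOf_dvd_natCard a) hodd.not_two_dvd_nat
  have hinv : Function.Involutive φ := by
    intro a
    refine Subtype.ext ?_
    show u * (u * (a : G) * u⁻¹) * u⁻¹ = a
    rw [inv_eq hu]
    calc u * (u * (a : G) * u) * u = (u * u) * a * (u * u) := by group
      _ = a := by rw [inv_mul_self_eq hu, one_mul, mul_one]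
  refine ⟨hodd, fun a ha => ?_, fun a ha b hb => ?_⟩
  · exact congrArg Subtype.val (congrFun (hfpf.coe_eq_inv_of_involutive hinv) ⟨a, ha⟩)
  · exact congrArg Subtype.val (hfpf.commute_all_of_involutive hinv ⟨a, ha⟩ ⟨b, hb⟩).eq

theorem IsTorus.odd (hV : FourCentralizers G) {A : Subgroup G} (hA : IsTorus A) :
    Odd (Nat.card A) := by
  obtain ⟨u, r, hu, hr, hi, rfl⟩ := hA
  exact (torus_aux hV hu hr hi).1

theorem IsTorus.three_le (hV : FourCentralizers G) {A : Subgroup G} (hA : IsTorus A) :
    3 ≤ Nat.card A := by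
  have h := hA.odd hV
  obtain ⟨u, r, hu, hr, hi, rfl⟩ := hA
  have h1 : Nat.card ↥(Subgroup.centralizer ({r} : Set G)) ≠ 1 := by
    intro hc
    have hr1 : r = 1 := Subgroup.mem_bot.1
      (Subgroup.eq_bot_of_card_eq _ hc ▸ Subgroup.mem_centralizer_singleton_iff.2 rfl)
    simp [hr1] at hr
  obtain ⟨k, hk⟩ := h
  omega

theorem IsTorus.sq_eq_one (hV : FourCentralizers G) {A : Subgroup G} (hA : IsTorus A) {a : G}
    (ha : a ∈ A) (h : a * a = 1) : a = 1 := by
  have h3 : orderOf (⟨a, ha⟩ : A) ∣ 2 :=
    orderOf_dvd_of_pow_eq_one (Subtype.ext (by simpa [pow_two] using h))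
  rcases (Nat.dvd_prime Nat.prime_two).1 h3 with h4 | h4
  · exact congrArg Subtype.val (orderOf_eq_one_iff.1 h4)
  · exact absurd (h4 ▸ orderOf_dvd_natCard _) (hA.odd hV).not_two_dvd_nat

theorem IsTorus.eq_centralizer (hV : FourCentralizers G) {A : Subgroup G} (hA : IsTorus A) {s : G}
    (hs : s ∈ A) (hs1 : s ≠ 1) : A = Subgroup.centralizer ({s} : Set G) := by
  have hss : s * s ≠ 1 := fun h => hs1 (hA.sq_eq_one hV hs h)
  obtain ⟨u, r, hu, hr, hi, rfl⟩ := hA
  obtain ⟨-, h2, h3⟩ := torus_aux hV hu hr hi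
  obtain ⟨-, -, h6⟩ := torus_aux hV hu hss (h2 s hs)
  ext a
  refine ⟨fun ha => Subgroup.mem_centralizer_singleton_iff.2 (h3 a ha s hs), fun ha => ?_⟩
  refine Subgroup.mem_centralizer_singleton_iff.2 (h6 a ha r ?_)
  exact Subgroup.mem_centralizer_singleton_iff.2 (h3 r (Subgroup.mem_centralizer_singleton_iff.2 rfl) s hs)

theorem IsTorus.comm (hV : FourCentralizers G) {A : Subgroup G} (hA : IsTorus A) {a b : G}
    (ha : a ∈ A) (hb : b ∈ A) : a * b = b * a := by
  obtain ⟨u, r, hu, hr, hi, rfl⟩ := hA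
  exact (torus_aux hV hu hr hi).2.2 a ha b hb

theorem IsTorus.conj {A : Subgroup G} (hA : IsTorus A) (g : G) :
    IsTorus (A.map (MulAut.conj g).toMonoidHom) := by
  obtain ⟨u, r, hu, hr, hi, rfl⟩ := hA
  refine ⟨g * u * g⁻¹, g * r * g⁻¹, by rw [order_conj, hu], fun h => hr ?_, ?_, ?_⟩
  · have : g * (r * r) * g⁻¹ = 1 := by rw [← h]; group
    exact conj_eq_one_iff.1 this
  · calc g * u * g⁻¹ * (g * r * g⁻¹) * (g * u * g⁻¹)⁻¹ = g * (u * r * u⁻¹) * g⁻¹ := by group
      _ = _ := by rw [hi]; group
  · ext a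
    constructor
    · rintro ⟨b, hb, rfl⟩
      exact Subgroup.mem_centralizer_singleton_iff.2
        (commute_conj g (Subgroup.mem_centralizer_singleton_iff.1 hb)).eq
    · intro ha
      have h : Commute a (g * r * g⁻¹) := Subgroup.mem_centralizer_singleton_iff.1 ha
      refine ⟨g⁻¹ * a * g, Subgroup.mem_centralizer_singleton_iff.2 ?_, by simp [mul_assoc]⟩
      have h' := commute_conj g⁻¹ h
      simpa [mul_assoc] using h'.eq

theorem inverts_conj {A : Subgroup G} {u : G} (hu : Inverts u A) (g : G) :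
    Inverts (g * u * g⁻¹) (A.map (MulAut.conj g).toMonoidHom) := by
  rintro _ ⟨a, ha, rfl⟩
  show g * u * g⁻¹ * (g * a * g⁻¹) * (g * u * g⁻¹)⁻¹ = (g * a * g⁻¹)⁻¹
  calc g * u * g⁻¹ * (g * a * g⁻¹) * (g * u * g⁻¹)⁻¹ = g * (u * a * u⁻¹) * g⁻¹ := by group
    _ = _ := by rw [hu a ha]; group

/-- The involutions inverting a torus form a coset of it. -/
theorem card_inverting (hV : FourCentralizers G) {A : Subgroup G} (hA : IsTorus A) :
    Nat.card {v : G // orderOf v = 2 ∧ Inverts v A} = Nat.card A := by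
  obtain ⟨u, r, hu, hr, hi, rfl⟩ := id hA
  obtain ⟨-, h2, -⟩ := torus_aux hV hu hr hi
  set A := Subgroup.centralizer ({r} : Set G)
  refine (Nat.card_congr (Equiv.ofBijective
    (fun a : A => (⟨u * a, ?_, ?_⟩ : {v : G // orderOf v = 2 ∧ Inverts v A})) ⟨?_, ?_⟩)).symm
  · refine orderOf_eq_prime ?_ fun h => ?_
    · have := h2 a a.2
      rw [inv_eq hu] at this
      rw [pow_two]
      calc u * a * (u * a) = (u * a * u) * a := by group
        _ = 1 := by rw [this, inv_mul_cancel]
    · have hua : (a : G) = u := by rw [eq_inv_of_mul_eq_one_right h, inv_eq hu]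
      exact inv_ne_one hu (hua ▸ hA.sq_eq_one hV a.2 (by rw [hua]; exact inv_mul_self_eq hu))
  · intro b hb
    calc u * a * b * (u * a)⁻¹ = u * ((a : G) * b * (a : G)⁻¹) * u⁻¹ := by group
      _ = u * b * u⁻¹ := by rw [hA.comm hV a.2 hb, mul_inv_cancel_right]
      _ = b⁻¹ := h2 b hb
  · intro a b h
    exact Subtype.ext (mul_left_cancel (congrArg Subtype.val h))
  · rintro ⟨v, hv, hvA⟩
    refine ⟨⟨u⁻¹ * v, Subgroup.mem_centralizer_singleton_iff.2 ?_⟩, Subtype.ext (mul_inv_cancel_left u v)⟩
    have h5 : v * r * v⁻¹ = r⁻¹ := hvA r (Subgroup.mem_centralizer_singleton_iff.2 rfl)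
    refine mul_inv_eq_iff_eq_mul.1 ?_
    calc u⁻¹ * v * r * (u⁻¹ * v)⁻¹ = u⁻¹ * (v * r * v⁻¹) * u := by group
      _ = u⁻¹ * (u * r * u⁻¹) * u := by rw [h5, hi]
      _ = r := by group

section Counting

open scoped Classical

variable [Fintype G]

/-- the involutions -/
noncomputable def invs (G : Type*) [Group G] [Fintype G] : Finset G :=
  Finset.univ.filter fun v => orderOf v = 2

/-- the tori inverted by an involution -/
noncomputable def torSet (u : G) : Finset (Subgroup G) :=
  Finset.univ.filter fun A => IsTorus A ∧ Inverts u A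

theorem mem_invs {v : G} : v ∈ invs G ↔ orderOf v = 2 := by
  classical simp [invs]

theorem mem_torSet {u : G} {A : Subgroup G} : A ∈ torSet u ↔ IsTorus A ∧ Inverts u A := by
  classical simp [torSet]

/-- Double counting of incidences involution/torus. -/
theorem double_count (hV : FourCentralizers G)
    (hconj : ∀ u v : G, orderOf u = 2 → orderOf v = 2 → IsConj u v) {u : G} (hu : orderOf u = 2)
    (T : Finset (Subgroup G)) (hT : ∀ A ∈ T, IsTorus A)
    (hTconj : ∀ A ∈ T, ∀ g : G, A.map (MulAut.conj g).toMonoidHom ∈ T)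
    (f : Subgroup G → ℚ) (hf : ∀ A (g : G), f (A.map (MulAut.conj g).toMonoidHom) = f A) :
    ∑ A ∈ T, f A * (Nat.card A : ℚ) = ((invs G).card : ℚ) * ∑ A ∈ T ∩ torSet u, f A := by
  classical
  have h1 : ∀ A ∈ T, f A * (Nat.card A : ℚ) = ∑ v ∈ invs G, if Inverts v A then f A else 0 := by
    intro A hA
    have e : ((invs G).filter fun v => Inverts v A).card = Nat.card A := by
      rw [← card_inverting hV (hT A hA), Nat.card_eq_fintype_card, Fintype.card_subtype]
      congr 1
      ext v
      simp [invs]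
    rw [← Finset.sum_filter, Finset.sum_const, e, nsmul_eq_mul, mul_comm]
  rw [Finset.sum_congr rfl h1, Finset.sum_comm]
  refine (Finset.sum_congr rfl (g := fun _ => ∑ A ∈ T ∩ torSet u, f A) ?_).trans
    (by rw [Finset.sum_const, nsmul_eq_mul])
  intro v hv
  rw [← Finset.sum_filter]
  obtain ⟨g, hg⟩ := isConj_iff.1 (hconj u v hu (mem_invs.1 hv))
  subst hg
  refine (Finset.sum_nbij' (fun A => A.map (MulAut.conj g).toMonoidHom)
    (fun A => A.map (MulAut.conj g⁻¹).toMonoidHom) ?_ ?_ ?_ ?_ ?_).symm
  · intro A hA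
    simp only [Finset.mem_inter, mem_torSet] at hA
    exact Finset.mem_filter.2 ⟨hTconj A hA.1 g, inverts_conj hA.2.2 g⟩
  · intro A hA
    obtain ⟨h2, h3⟩ := Finset.mem_filter.1 hA
    simp only [Finset.mem_inter, mem_torSet]
    refine ⟨hTconj A h2 g⁻¹, (hT A h2).conj g⁻¹, ?_⟩
    have := inverts_conj h3 g⁻¹
    simpa [mul_assoc] using this
  · intro A _
    ext a
    simp [Subgroup.mem_map, mul_assoc]
  · intro A _
    ext a
    simp [Subgroup.mem_map, mul_assoc]
  · intro A _
    exact (hf A g).symm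

/-- The involutions not commuting with `u` correspond to the real elements inverted by `u`. -/
theorem card_invs_eq (hV : FourCentralizers G) {u : G} (hu : orderOf u = 2) :
    ((invs G).card : ℚ) = 3 + ∑ A ∈ torSet u, ((Nat.card A : ℚ) - 1) := by
  classical
  have hcomm : ((invs G).filter fun v => Commute v u).card = 3 := by
    have h : (invs G).filter (fun v => Commute v u) =
        (Finset.univ.filter fun v => v ∈ Subgroup.centralizer ({u} : Set G)).erase 1 := by
      ext v
      simp only [Finset.mem_filter, mem_invs, Finset.mem_erase, Finset.mem_univ, true_and,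
        Subgroup.mem_centralizer_singleton_iff]
      refine ⟨fun ⟨h1, h2⟩ => ⟨inv_ne_one h1, h2⟩, fun ⟨h1, h2⟩ => ⟨?_, h2⟩⟩
      exact orderOf_eq_prime (by rw [pow_two]; exact sq_of_commute hV hu h2) h1
    rw [h, Finset.card_erase_of_mem (by simp [Subgroup.mem_centralizer_singleton_iff]),
      ← Fintype.card_subtype, ← Nat.card_eq_fintype_card]
    rw [show Nat.card {v // v ∈ Subgroup.centralizer ({u} : Set G)} = 4 from (hV u hu).1]
  have hnon : ((invs G).filter fun v => ¬ Commute v u).card =
      ∑ A ∈ torSet u, ((Finset.univ.filter fun a => a ∈ A).erase 1).card := by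
    rw [← Finset.card_sigma]
    have hr2 : ∀ v, orderOf v = 2 → ¬ Commute v u → (u * v) * (u * v) ≠ 1 := by
      intro v hv hnc h
      apply hnc
      show v * u = u * v
      calc v * u = (u * v)⁻¹ := by rw [mul_inv_rev, inv_eq hu, inv_eq hv]
        _ = u * v := inv_eq_of_mul_eq_one_right h
    have hui : ∀ v, orderOf v = 2 → u * (u * v) * u⁻¹ = (u * v)⁻¹ := by
      intro v hv
      rw [mul_inv_rev, inv_eq hu, inv_eq hv, ← mul_assoc, inv_mul_self_eq hu, one_mul]
    refine Finset.card_bij'
      (fun v _ => (⟨Subgroup.centralizer ({u * v} : Set G), u * v⟩ : (_ : Subgroup G) × G))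
      (fun p _ => u * p.2) ?_ ?_ ?_ ?_
    · intro v hv
      simp only [Finset.mem_filter, mem_invs] at hv
      simp only [Finset.mem_sigma, mem_torSet, Finset.mem_erase, Finset.mem_filter,
        Finset.mem_univ, true_and, Subgroup.mem_centralizer_singleton_iff, and_true]
      refine ⟨⟨⟨u, u * v, hu, hr2 v hv.1 hv.2, hui v hv.1, rfl⟩,
        (torus_aux hV hu (hr2 v hv.1 hv.2) (hui v hv.1)).2.1⟩, fun h => ?_⟩
      exact hr2 v hv.1 hv.2 (by rw [h, one_mul])
    · rintro ⟨A, a⟩ hp
      simp only [Finset.mem_sigma, mem_torSet, Finset.mem_erase, Finset.mem_filter,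
        Finset.mem_univ, true_and] at hp
      obtain ⟨⟨hA, hAu⟩, ha1, ha⟩ := hp
      have haa : a * a ≠ 1 := fun h => ha1 (hA.sq_eq_one hV ha h)
      have hinva : u * a * u = a⁻¹ := by simpa [inv_eq hu] using hAu a ha
      simp only [Finset.mem_filter, mem_invs]
      refine ⟨orderOf_eq_prime ?_ fun h => ?_, fun h => haa ?_⟩
      · rw [pow_two]
        calc u * a * (u * a) = (u * a * u) * a := by group
          _ = 1 := by rw [hinva, inv_mul_cancel]
      · have hua : a = u := by rw [eq_inv_of_mul_eq_one_right h, inv_eq hu]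
        exact haa (hua ▸ inv_mul_self_eq hu)
      · have h2 : Commute a u := by
          have := (Commute.refl u).inv_left.mul_left h
          rwa [inv_mul_cancel_left] at this
        exact sq_of_commute hV hu h2
    · intro v hv
      simp [← mul_assoc, inv_mul_self_eq hu]
    · rintro ⟨A, a⟩ hp
      simp only [Finset.mem_sigma, mem_torSet, Finset.mem_erase, Finset.mem_filter,
        Finset.mem_univ, true_and] at hp
      obtain ⟨⟨hA, -⟩, ha1, ha⟩ := hp
      have e : u * (u * a) = a := by rw [← mul_assoc, inv_mul_self_eq hu, one_mul]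
      simp only [e, ← hA.eq_centralizer hV ha ha1]
  have hsplit := Finset.card_filter_add_card_filter_not (s := invs G) (fun v => Commute v u)
  rw [← hsplit, hcomm, hnon]
  push_cast
  congr 1
  refine Finset.sum_congr rfl fun A _ => ?_
  rw [Finset.card_erase_of_mem (by simp), ← Fintype.card_subtype, ← Nat.card_eq_fintype_card,
    Nat.cast_sub Nat.card_pos]
  simp

/-- The group order is four times the number of involutions. -/
theorem card_eq_four_mul (hV : FourCentralizers G)
    (hconj : ∀ u v : G, orderOf u = 2 → orderOf v = 2 → IsConj u v) {u : G} (hu : orderOf u = 2) :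
    Nat.card G = 4 * (invs G).card := by
  classical
  rw [← (Subgroup.centralizer ({u} : Set G)).card_mul_index, (hV u hu).1]
  congr 1
  have e : (G ⧸ Subgroup.centralizer ({u} : Set G)) ≃ {v // v ∈ invs G} := by
    refine Equiv.ofBijective (fun q => Quotient.liftOn' q
      (fun g => (⟨g * u * g⁻¹, mem_invs.2 (by rw [order_conj, hu])⟩ : {v // v ∈ invs G}))
      (fun a b h => ?_)) ⟨?_, ?_⟩
    · have h' : Commute (a⁻¹ * b) u :=
        Subgroup.mem_centralizer_singleton_iff.1 (QuotientGroup.leftRel_apply.1 h)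
      refine Subtype.ext ?_
      calc a * u * a⁻¹ = a * (u * (a⁻¹ * b)) * b⁻¹ := by group
        _ = a * ((a⁻¹ * b) * u) * b⁻¹ := by rw [h'.eq]
        _ = b * u * b⁻¹ := by group
    · intro a b
      induction a using QuotientGroup.induction_on with | _ a => ?_
      induction b using QuotientGroup.induction_on with | _ b => ?_
      intro h
      have h' : a * u * a⁻¹ = b * u * b⁻¹ := congrArg Subtype.val h
      refine QuotientGroup.eq.2 (Subgroup.mem_centralizer_singleton_iff.2 ?_)
      calc a⁻¹ * b * u = a⁻¹ * (b * u * b⁻¹) * b := by group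
        _ = a⁻¹ * (a * u * a⁻¹) * b := by rw [h']
        _ = u * (a⁻¹ * b) := by group
    · rintro ⟨v, hv⟩
      obtain ⟨g, hg⟩ := isConj_iff.1 (hconj u v hu (mem_invs.1 hv))
      exact ⟨(g : G ⧸ Subgroup.centralizer ({u} : Set G)), Subtype.ext hg⟩
  rw [Subgroup.index, Nat.card_congr e, Nat.card_eq_fintype_card, Fintype.card_coe]

end Counting

/-- **Counting theorem**: all involutions conjugate, four-group centralisers and more than three
involutions force the order 60. -/
theorem card_eq_sixty (hV : FourCentralizers G)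
    (hconj : ∀ u v : G, orderOf u = 2 → orderOf v = 2 → IsConj u v) {u : G} (hu : orderOf u = 2)
    (h3 : Nat.card {v : G // orderOf v = 2} ≠ 3) :
    Nat.card G = 60 ∧ Nat.card {v : G // orderOf v = 2} = 15 := by
  classical
  haveI := Fintype.ofFinite G
  have hn : Nat.card {v : G // orderOf v = 2} = (invs G).card := by
    rw [Nat.card_eq_fintype_card, Fintype.card_subtype]
    congr 1
  rw [hn] at h3 ⊢
  set n := (invs G).card with hndef
  set P := torSet u with hPdef
  have hG := card_eq_four_mul hV hconj hu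
  have hsum : (n : ℚ) = 3 + ∑ A ∈ P, ((Nat.card A : ℚ) - 1) := card_invs_eq hV hu
  set T : Finset (Subgroup G) := Finset.univ.filter fun A => IsTorus A with hTdef
  have hT : ∀ A ∈ T, IsTorus A := fun A hA => (Finset.mem_filter.1 hA).2
  have hTconj : ∀ A ∈ T, ∀ g : G, A.map (MulAut.conj g).toMonoidHom ∈ T := fun A hA g =>
    Finset.mem_filter.2 ⟨Finset.mem_univ _, (hT A hA).conj g⟩
  have hcardmap : ∀ (A : Subgroup G) (g : G),
      Nat.card ↥(A.map (MulAut.conj g).toMonoidHom) = Nat.card A := fun A g =>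
    Subgroup.card_map_of_injective (MulAut.conj g).injective
  -- the tori cover less than three quarters of the group
  have hbound : (n : ℚ) * ∑ A ∈ P, (((Nat.card A : ℚ) - 1) / Nat.card A) ≤ 3 * n - 1 := by
    have hTP : T ∩ torSet u = P := by
      ext A
      simp [hTdef, hPdef, mem_torSet]
    have h := double_count hV hconj hu T hT hTconj (fun A => ((Nat.card A : ℚ) - 1) / Nat.card A)
      (fun A g => by simp only [hcardmap])
    rw [hTP] at h
    rw [hndef, ← h]
    have hne : ∀ A ∈ T, ((Nat.card A : ℚ) - 1) / Nat.card A * Nat.card A =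
        (((Finset.univ.filter fun a => a ∈ A).erase 1).card : ℚ) := by
      intro A _
      have hpos : (Nat.card A : ℚ) ≠ 0 := Nat.cast_ne_zero.2 Nat.card_pos.ne'
      rw [div_mul_cancel₀ _ hpos, Finset.card_erase_of_mem (by simp), ← Fintype.card_subtype,
        ← Nat.card_eq_fintype_card, Nat.cast_sub Nat.card_pos]
      simp
    rw [Finset.sum_congr rfl hne, ← Nat.cast_sum, ← Finset.card_biUnion ?_]
    · have hle : (T.biUnion fun A => (Finset.univ.filter fun a => a ∈ A).erase 1).card + (n + 1)
          ≤ 4 * n := by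
        rw [← hG, Nat.card_eq_fintype_card]
        have hd : Disjoint (T.biUnion fun A => (Finset.univ.filter fun a => a ∈ A).erase 1)
            (insert 1 (invs G)) := by
          rw [Finset.disjoint_left]
          intro a ha ha'
          simp only [Finset.mem_biUnion, Finset.mem_erase, Finset.mem_filter, Finset.mem_univ,
            true_and] at ha
          obtain ⟨A, hA, ha1, haA⟩ := ha
          rcases Finset.mem_insert.1 ha' with h' | h'
          · exact ha1 h'
          · exact ha1 ((hT A hA).sq_eq_one hV haA (inv_mul_self_eq (mem_invs.1 h')))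
        have h1 : (insert 1 (invs G)).card = n + 1 :=
          Finset.card_insert_of_notMem (by simp [mem_invs])
        rw [← h1, ← Finset.card_union_of_disjoint hd]
        exact Finset.card_le_univ _
      have hle' : (((T.biUnion fun A => (Finset.univ.filter fun a => a ∈ A).erase 1).card : ℕ) : ℚ)
          + ((n : ℚ) + 1) ≤ 4 * n := by exact_mod_cast hle
      linarith
    · intro A hA B hB hAB
      rw [Function.onFun, Finset.disjoint_left]
      intro a ha hb
      simp only [Finset.mem_erase, Finset.mem_filter, Finset.mem_univ, true_and] at ha hb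
      exact hAB (((hT A hA).eq_centralizer hV ha.2 ha.1).trans
        ((hT B hB).eq_centralizer hV hb.2 hb.1).symm)
  -- a fixed element of the centraliser pairs the tori inverted by u
  obtain ⟨c, hc, hc1, hcu⟩ : ∃ c, Commute c u ∧ c ≠ 1 ∧ c ≠ u := by
    by_contra h
    push Not at h
    have hle : Subgroup.centralizer ({u} : Set G) ≤ Subgroup.zpowers u := fun c hc => by
      by_cases h1 : c = 1
      · simp [h1]
      · rw [h c (Subgroup.mem_centralizer_singleton_iff.1 hc) h1]
        exact Subgroup.mem_zpowers u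
    have := Subgroup.card_le_of_le hle
    rw [(hV u hu).1, Nat.card_zpowers, hu] at this
    omega
  have hc2 : orderOf c = 2 := orderOf_eq_prime (by rw [pow_two]; exact sq_of_commute hV hu hc) hc1
  have hfour : ∀ k, Commute k u → k = 1 ∨ k = u ∨ k = c ∨ k = c * u := by
    intro k hk
    by_contra hcon
    push Not at hcon
    have hs : ({1, u, c, c * u, k} : Finset G) ⊆
        Finset.univ.filter fun v => v ∈ Subgroup.centralizer ({u} : Set G) := by
      intro v hv
      simp only [Finset.mem_insert, Finset.mem_singleton] at hv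
      simp only [Finset.mem_filter, Finset.mem_univ, true_and,
        Subgroup.mem_centralizer_singleton_iff]
      rcases hv with rfl | rfl | rfl | rfl | rfl
      · simp
      · rfl
      · exact hc.eq
      · exact (hc.mul_left (Commute.refl u)).eq
      · exact hk.eq
    have h5 : ({1, u, c, c * u, k} : Finset G).card = 5 := by
      have e1 : c * u ≠ 1 := fun h => hcu (by rw [eq_inv_of_mul_eq_one_left h, inv_eq hu])
      have e2 : c * u ≠ u := fun h => hc1 (by simpa using h)
      have e3 : c * u ≠ c := fun h => inv_ne_one hu (by simpa using h)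
      simp [hc1.symm, hcu.symm, e1.symm, e2.symm, e3.symm, hcon.1.symm, hcon.2.1.symm,
        hcon.2.2.1.symm, hcon.2.2.2.symm, (inv_ne_one hu).symm]
    have := Finset.card_le_card hs
    rw [h5, ← Fintype.card_subtype, ← Nat.card_eq_fintype_card,
      show Nat.card {v // v ∈ Subgroup.centralizer ({u} : Set G)} = 4 from (hV u hu).1] at this
    omega
  let σ : Subgroup G → Subgroup G := fun A => A.map (MulAut.conj c).toMonoidHom
  have hσP : ∀ A ∈ P, σ A ∈ P := by
    intro A hA
    obtain ⟨h1, h2⟩ := mem_torSet.1 hA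
    refine mem_torSet.2 ⟨h1.conj c, ?_⟩
    have h3 := inverts_conj h2 c
    rwa [show c * u * c⁻¹ = u by rw [hc.eq, mul_inv_cancel_right]] at h3
  have hσne : ∀ A ∈ P, σ A ≠ A := by
    intro A hA hfix
    obtain ⟨h1, h2⟩ := mem_torSet.1 hA
    obtain ⟨u', r, hu', hr, hi', rfl⟩ := id h1
    set A := Subgroup.centralizer ({r} : Set G)
    have hmem : ∀ a ∈ A, c * a * c⁻¹ ∈ A := fun a ha => hfix ▸ (⟨a, ha, rfl⟩ : c * a * c⁻¹ ∈ σ A)
    have hinvc : Inverts c A := by
      let φ : A →* A := MonoidHom.mk' (fun a => ⟨c * a * c⁻¹, hmem a a.2⟩) (fun a b => by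
        refine Subtype.ext ?_
        show c * ((a : G) * b) * c⁻¹ = c * a * c⁻¹ * (c * b * c⁻¹)
        group)
      have hfpf : MonoidHom.FixedPointFree φ := by
        intro a ha
        have e : c * (a : G) * c⁻¹ = a := congrArg Subtype.val ha
        exact Subtype.ext (h1.sq_eq_one hV a.2
          (sq_of_commute hV hc2 (mul_inv_eq_iff_eq_mul.1 e).symm))
      have hinv : Function.Involutive φ := by
        intro a
        refine Subtype.ext ?_
        show c * (c * (a : G) * c⁻¹) * c⁻¹ = a
        rw [inv_eq hc2]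
        calc c * (c * (a : G) * c) * c = (c * c) * a * (c * c) := by group
          _ = a := by rw [inv_mul_self_eq hc2, one_mul, mul_one]
      intro a ha
      exact congrArg Subtype.val (congrFun (hfpf.coe_eq_inv_of_involutive hinv) ⟨a, ha⟩)
    have hrA : r ∈ A := Subgroup.mem_centralizer_singleton_iff.2 rfl
    have hcur : Commute (c * u) r := by
      refine mul_inv_eq_iff_eq_mul.1 ?_
      calc c * u * r * (c * u)⁻¹ = c * (u * r * u⁻¹) * c⁻¹ := by group
        _ = c * r⁻¹ * c⁻¹ := by rw [h2 r hrA]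
        _ = (c * r * c⁻¹)⁻¹ := by group
        _ = r := by rw [hinvc r hrA, inv_inv]
    exact hr (sq_of_commute hV (order_mul hc2 hu hc hcu) hcur.symm)
  -- a class of tori meets P in a pair
  have hcls : ∀ A ∈ P, ∀ g : G, A.map (MulAut.conj g).toMonoidHom ∈ P →
      A.map (MulAut.conj g).toMonoidHom = A ∨ A.map (MulAut.conj g).toMonoidHom = σ A := by
    intro A hA g hg
    obtain ⟨h1, h2⟩ := mem_torSet.1 hA
    obtain ⟨-, h2'⟩ := mem_torSet.1 hg
    have h3 : Inverts (g⁻¹ * u * g) A := by
      have h := inverts_conj h2' g⁻¹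
      have e : (A.map (MulAut.conj g).toMonoidHom).map (MulAut.conj g⁻¹).toMonoidHom = A := by
        ext a
        simp [Subgroup.mem_map, mul_assoc]
      rwa [e, inv_inv] at h
    -- u⁻¹ (g⁻¹ u g) centralises A
    obtain ⟨u', r, hu', hr, hi', rfl⟩ := id h1
    set A := Subgroup.centralizer ({r} : Set G)
    have hrA : r ∈ A := Subgroup.mem_centralizer_singleton_iff.2 rfl
    have haA : u⁻¹ * (g⁻¹ * u * g) ∈ A := by
      refine Subgroup.mem_centralizer_singleton_iff.2 (mul_inv_eq_iff_eq_mul.1 ?_)
      calc u⁻¹ * (g⁻¹ * u * g) * r * (u⁻¹ * (g⁻¹ * u * g))⁻¹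
          = u⁻¹ * ((g⁻¹ * u * g) * r * (g⁻¹ * u * g)⁻¹) * u := by group
        _ = u⁻¹ * (u * r * u⁻¹) * u := by rw [h3 r hrA, h2 r hrA]
        _ = r := by group
    set a := u⁻¹ * (g⁻¹ * u * g)
    obtain ⟨b, hb, hbb⟩ : ∃ b ∈ A, b * b = a := by
      obtain ⟨k, hk⟩ := h1.odd hV
      refine ⟨a ^ (k + 1), A.pow_mem haA _, ?_⟩
      have hpow : (⟨a, haA⟩ : A) ^ (2 * k + 1) = 1 := by rw [← hk]; exact pow_card_eq_one'
      calc a ^ (k + 1) * a ^ (k + 1) = a ^ (2 * k + 1) * a := by
            rw [← pow_add, ← pow_succ]; congr 1; omega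
        _ = a := by
            have := congrArg Subtype.val hpow
            simp only [SubmonoidClass.coe_pow, OneMemClass.coe_one] at this
            rw [this, one_mul]
    have hub : b⁻¹ * u * b = g⁻¹ * u * g := by
      have h4 : u * b⁻¹ * u⁻¹ = b := by rw [h2 _ (A.inv_mem hb), inv_inv]
      calc b⁻¹ * u * b = u * (u⁻¹ * b⁻¹ * u) * b := by group
        _ = u * (u * b⁻¹ * u⁻¹) * b := by rw [inv_eq hu]
        _ = u * a := by rw [h4, mul_assoc, hbb]
        _ = _ := by simp [a]
    have hk : Commute (g * b⁻¹) u := by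
      show g * b⁻¹ * u = u * (g * b⁻¹)
      calc g * b⁻¹ * u = g * (b⁻¹ * u * b) * b⁻¹ := by group
        _ = g * (g⁻¹ * u * g) * b⁻¹ := by rw [hub]
        _ = _ := by group
    have hbA : A.map (MulAut.conj b⁻¹).toMonoidHom = A := by
      ext y
      constructor
      · rintro ⟨z, hz, rfl⟩
        exact A.mul_mem (A.mul_mem (A.inv_mem hb) hz) (by simpa using hb)
      · intro hy
        exact ⟨b * y * b⁻¹, A.mul_mem (A.mul_mem hb hy) (A.inv_mem hb), by simp [mul_assoc]⟩
    have hgA : A.map (MulAut.conj g).toMonoidHom = A.map (MulAut.conj (g * b⁻¹)).toMonoidHom := by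
      conv_rhs => rw [show (MulAut.conj (g * b⁻¹)).toMonoidHom =
        (MulAut.conj g).toMonoidHom.comp (MulAut.conj b⁻¹).toMonoidHom by
          ext y; simp [mul_assoc], ← Subgroup.map_map, hbA]
    rw [hgA]
    have hu_fix : A.map (MulAut.conj u).toMonoidHom = A := by
      ext y
      constructor
      · rintro ⟨z, hz, rfl⟩
        show u * z * u⁻¹ ∈ A
        rw [h2 z hz]
        exact A.inv_mem hz
      · intro hy
        exact ⟨y⁻¹, A.inv_mem hy, by simpa using h2 _ (A.inv_mem hy)⟩
    rcases hfour _ hk with h | h | h | h <;> rw [h]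
    · left
      ext y
      simp [Subgroup.mem_map]
    · exact Or.inl hu_fix
    · exact Or.inr rfl
    · right
      rw [show (MulAut.conj (c * u)).toMonoidHom =
        (MulAut.conj c).toMonoidHom.comp (MulAut.conj u).toMonoidHom by
          ext y; simp [mul_assoc], ← Subgroup.map_map, hu_fix]
  -- the order of a torus divides twice the number of involutions
  have hdvd : ∀ A ∈ P, Nat.card A ∣ 2 * n := by
    intro A hA
    set O : Finset (Subgroup G) := Finset.univ.image fun g : G => A.map (MulAut.conj g).toMonoidHom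
    have hOt : ∀ B ∈ O, IsTorus B := by
      intro B hB
      obtain ⟨g, -, rfl⟩ := Finset.mem_image.1 hB
      exact (mem_torSet.1 hA).1.conj g
    have hOc : ∀ B ∈ O, ∀ g : G, B.map (MulAut.conj g).toMonoidHom ∈ O := by
      intro B hB g
      obtain ⟨k, -, rfl⟩ := Finset.mem_image.1 hB
      refine Finset.mem_image.2 ⟨g * k, Finset.mem_univ _, ?_⟩
      rw [Subgroup.map_map]
      congr 1
      ext y
      simp [mul_assoc]
    have hA1 : A ∈ O := Finset.mem_image.2 ⟨1, Finset.mem_univ _, by ext y; simp [Subgroup.mem_map]⟩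
    have hOP : O ∩ torSet u = {A, σ A} := by
      ext B
      simp only [Finset.mem_inter, Finset.mem_insert, Finset.mem_singleton]
      constructor
      · rintro ⟨hB, hBP⟩
        obtain ⟨g, -, rfl⟩ := Finset.mem_image.1 hB
        exact hcls A hA g hBP
      · rintro (rfl | rfl)
        · exact ⟨hA1, hA⟩
        · exact ⟨hOc A hA1 c, hσP A hA⟩
    have h := double_count hV hconj hu O hOt hOc (fun _ => 1) (fun _ _ => rfl)
    rw [hOP, Finset.sum_const, Finset.card_pair (hσne A hA).symm] at h
    have hcast : ∀ B ∈ O, (1 : ℚ) * (Nat.card B : ℚ) = (Nat.card A : ℚ) := by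
      intro B hB
      obtain ⟨g, -, rfl⟩ := Finset.mem_image.1 hB
      rw [one_mul, hcardmap]
    rw [Finset.sum_congr rfl hcast, Finset.sum_const] at h
    simp only [nsmul_eq_mul, mul_one, ← hndef] at h
    refine ⟨O.card, ?_⟩
    have : ((O.card * Nat.card A : ℕ) : ℚ) = ((n * 2 : ℕ) : ℚ) := by
      push_cast at h ⊢
      exact h
    have := Nat.cast_injective this
    linarith
  have hσcard : ∀ A, Nat.card (σ A) = Nat.card A := fun A => hcardmap A c
  have hterm : ∀ A ∈ P, (2 : ℚ) / 3 ≤ ((Nat.card A : ℚ) - 1) / Nat.card A := by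
    intro A hA
    have h : (3 : ℚ) ≤ Nat.card A := by exact_mod_cast (mem_torSet.1 hA).1.three_le hV
    rw [div_le_div_iff₀ (by norm_num) (by linarith)]
    linarith
  have hσσ : ∀ A, σ (σ A) = A := by
    intro A
    simp only [σ, Subgroup.map_map]
    conv_rhs => rw [← Subgroup.map_id A]
    congr 1
    ext y
    have e : c * c = 1 := inv_mul_self_eq hc2
    show c * (c * y * c⁻¹) * c⁻¹ = y
    calc c * (c * y * c⁻¹) * c⁻¹ = (c * c) * y * (c * c)⁻¹ := by group
      _ = y := by rw [e]; simp
  rcases P.eq_empty_or_nonempty with hP | ⟨A, hA⟩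
  · exfalso
    rw [hP, Finset.sum_empty, add_zero] at hsum
    exact h3 (by exact_mod_cast hsum)
  have hAσ := hσne A hA
  obtain ⟨h3a, hoddA, hdA⟩ : 3 ≤ Nat.card A ∧ Odd (Nat.card A) ∧ Nat.card A ∣ 2 * n :=
    ⟨(mem_torSet.1 hA).1.three_le hV, (mem_torSet.1 hA).1.odd hV, hdvd A hA⟩
  by_cases hone : P = {A, σ A}
  · exfalso
    rw [hone, Finset.sum_pair hAσ.symm, hσcard] at hsum
    set a := Nat.card A
    have : n = 2 * a + 1 := by
      have : (n : ℚ) = ((2 * a + 1 : ℕ) : ℚ) := by push_cast; linarith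
      exact_mod_cast this
    have hd : a ∣ 2 := by
      have h' : a ∣ 2 * n := hdA
      rw [this, show 2 * (2 * a + 1) = a * 4 + 2 by ring] at h'
      exact (Nat.dvd_add_right (dvd_mul_right a 4)).1 h'
    have := Nat.le_of_dvd (by norm_num) hd
    omega
  obtain ⟨B, hB, hBA, hBσ⟩ : ∃ B ∈ P, B ≠ A ∧ B ≠ σ A := by
    by_contra h
    push Not at h
    refine hone (Finset.Subset.antisymm (fun B hB => ?_) (fun B hB => ?_))
    · simp only [Finset.mem_insert, Finset.mem_singleton]
      by_cases hBA : B = A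
      · exact Or.inl hBA
      · exact Or.inr (h B hB hBA)
    · simp only [Finset.mem_insert, Finset.mem_singleton] at hB
      rcases hB with rfl | rfl
      · exact hA
      · exact hσP A hA
  have hσB1 : σ B ≠ A := fun h => hBσ (by rw [← h, hσσ])
  have hσB2 : σ B ≠ σ A := fun h => hBA (by rw [← hσσ B, h, hσσ])
  have hall : P = {A, σ A, B, σ B} := by
    refine Finset.Subset.antisymm (fun D hD => ?_) (fun D hD => ?_)
    · by_contra hD'
      simp only [Finset.mem_insert, Finset.mem_singleton, not_or] at hD'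
      obtain ⟨d1, d2, d3, d4⟩ := hD'
      have e1 : σ D ≠ A := fun h => d2 (by rw [← h, hσσ])
      have e2 : σ D ≠ σ A := fun h => d1 (by rw [← hσσ D, h, hσσ])
      have e3 : σ D ≠ B := fun h => d4 (by rw [← h, hσσ])
      have e4 : σ D ≠ σ B := fun h => d3 (by rw [← hσσ D, h, hσσ])
      have hsub : ({A, σ A, B, σ B, D, σ D} : Finset _) ⊆ P := by
        intro E hE
        simp only [Finset.mem_insert, Finset.mem_singleton] at hE
        rcases hE with rfl | rfl | rfl | rfl | rfl | rfl <;>
          first | assumption | exact hσP _ (by assumption)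
      have h6 : ({A, σ A, B, σ B, D, σ D} : Finset _).card = 6 := by
        simp [hAσ.symm, hBA.symm, hBσ.symm, hσB1.symm, hσB2.symm, (hσne B hB).symm, Ne.symm d1,
          Ne.symm d2, Ne.symm d3, Ne.symm d4, e1.symm, e2.symm, e3.symm, e4.symm,
          (hσne D hD).symm]
      have hn0 : (0 : ℚ) < n := by
        have : 0 < n := Finset.card_pos.2 ⟨u, mem_invs.2 hu⟩
        exact_mod_cast this
      have h1 : (6 : ℕ) ≤ P.card := h6 ▸ Finset.card_le_card hsub
      have h2 : (P.card : ℚ) * (2 / 3) ≤ ∑ A ∈ P, ((Nat.card A : ℚ) - 1) / Nat.card A := by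
        have := Finset.card_nsmul_le_sum P (fun A => ((Nat.card A : ℚ) - 1) / Nat.card A) _ hterm
        rwa [nsmul_eq_mul] at this
      have h1' : (6 : ℚ) ≤ P.card := by exact_mod_cast h1
      nlinarith
    · simp only [Finset.mem_insert, Finset.mem_singleton] at hD
      rcases hD with rfl | rfl | rfl | rfl <;> first | assumption | exact hσP _ (by assumption)
  have hdisj1 : A ∉ ({σ A, B, σ B} : Finset _) := by simp [hAσ.symm, hBA.symm, hσB1.symm]
  have hdisj2 : σ A ∉ ({B, σ B} : Finset _) := by simp [hBσ.symm, hσB2.symm]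
  rw [hall, Finset.sum_insert hdisj1, Finset.sum_insert hdisj2,
    Finset.sum_pair (hσne B hB).symm, hσcard, hσcard] at hsum hbound
  obtain ⟨h3b, hoddB, hdB⟩ : 3 ≤ Nat.card B ∧ Odd (Nat.card B) ∧ Nat.card B ∣ 2 * n :=
    ⟨(mem_torSet.1 hB).1.three_le hV, (mem_torSet.1 hB).1.odd hV, hdvd B hB⟩
  set a := Nat.card A
  set b := Nat.card B
  have hn2 : n + 1 = 2 * a + 2 * b := by
    have : ((n + 1 : ℕ) : ℚ) = ((2 * a + 2 * b : ℕ) : ℚ) := by push_cast; linarith
    exact_mod_cast this
  have hab : a * b < 2 * a + 2 * b := by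
    have hn0 : (0 : ℚ) < n := by
      have : 0 < n := Finset.card_pos.2 ⟨u, mem_invs.2 hu⟩
      exact_mod_cast this
    have ha0 : (0 : ℚ) < a := by exact_mod_cast (show 0 < a by omega)
    have hb0 : (0 : ℚ) < b := by exact_mod_cast (show 0 < b by omega)
    have : (a : ℚ) * b < 2 * a + 2 * b := by
      have e : ((a : ℚ) - 1) / a = 1 - 1 / a := by field_simp
      have e' : ((b : ℚ) - 1) / b = 1 - 1 / b := by field_simp
      rw [e, e'] at hbound
      have h4 : (1 : ℚ) / 2 < 1 / a + 1 / b := by nlinarith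
      rw [div_add_div _ _ ha0.ne' hb0.ne', div_lt_div_iff₀ (by norm_num) (by positivity)] at h4
      linarith
    exact_mod_cast this
  have hb5 : b ≤ 5 := by nlinarith
  have ha5 : a ≤ 5 := by nlinarith
  obtain ⟨k, hk⟩ := hoddA
  obtain ⟨l, hl⟩ := hoddB
  rw [hG]
  have hn' : n = 2 * a + 2 * b - 1 := by omega
  rw [hn'] at hdA hdB ⊢
  interval_cases a <;> interval_cases b <;> omega

end Cfsg.Agent.FourCentralizer
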