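import Mathlib

/-!
Endomorphisms of a four-group as pairs of columns over `ZMod 2`, and the finite facts about
subgroups of them used for the four generator theorem.
-/

set_option autoImplicit false

namespace Cfsg.Agent.FourGenCoord94

/-- Coordinates in a four-group. -/
abbrev V : Type := ZMod 2 × ZMod 2

/-- Endomorphisms of `V`, by columns. -/
abbrev Mat : Type := V × V

/-- Application. -/
def ap (X : Mat) (v : V) : V :=
  (v.1 * X.1.1 + v.2 * X.2.1, v.1 * X.1.2 + v.2 * X.2.2)

/-- The transvection fixing the first coordinate vector. -/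
def tau (v : V) : V := (v.1 + v.2, v.2)

/-- Conjugation by `tau`. -/
def conjT (X : Mat) : Mat := (tau X.1, tau (X.1 + X.2))

/-- The nilpotent endomorphism commuting with `tau`. -/
def nilp : Mat := ((0, 0), (1, 0))

/-- `1 + X` is bijective and `X` is nonzero. -/
def Good (X : Mat) : Prop := X ≠ 0 ∧ ∀ v : V, ap X v = v → v = 0

/-- `X` and `1 + X` are bijective. -/
def Fpf (X : Mat) : Prop := Good X ∧ ∀ v : V, ap X v = 0 → v = 0

instance (X : Mat) : Decidable (Good X) := inferInstanceAs (Decidable (_ ∧ _))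
instance (X : Mat) : Decidable (Fpf X) := inferInstanceAs (Decidable (_ ∧ _))

/-- The linear functional given by `c`. -/
def dot (c X : Mat) : ZMod 2 :=
  c.1.1 * X.1.1 + c.1.2 * X.1.2 + c.2.1 * X.2.1 + c.2.2 * X.2.2

theorem good_nilp : Good nilp := by decide
theorem conjT_nilp : conjT nilp = nilp := by decide
theorem fpf_example : Fpf ((0, 1), (1, 1)) := by decide

theorem good_surj : ∀ X : Mat, Good X → ∀ c : V, ∃ v : V, c + ap X v + v = 0 := by decide

theorem hyperplane_good : ∀ c : Mat, ∃ X : Mat, dot c X = 0 ∧ Good X := by decide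

theorem hyperplane_orbit : ∀ c : Mat, dot c nilp ≠ 0 →
    (∃ X Y : Mat, dot c X = 0 ∧ dot c Y = 0 ∧ X + conjT Y = nilp) ∧
      (∃ X Y : Mat, dot c X = 0 ∧ dot c Y = 0 ∧ Fpf (X + conjT Y)) := by decide

theorem fixed_cases : ∀ X : Mat, conjT X = X →
    X = 0 ∨ X = ((1, 0), (0, 1)) ∨ X = nilp ∨ X = ((1, 0), (1, 1)) := by decide

theorem split_mat : ∀ a b c d : ZMod 2, (((a, b), (c, d)) : Mat) =
    a.val • ((1, 0), (0, 0)) + b.val • ((0, 1), (0, 0)) +
      c.val • ((0, 0), (1, 0)) + d.val • ((0, 0), (0, 1)) := by decide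

theorem card_mat : Nat.card Mat = 16 := by
  simp [Nat.card_eq_fintype_card, Mat, V]

open Classical in
theorem exists_hyperplane (R : AddSubgroup Mat) (h : 8 ≤ Nat.card R) :
    ∃ c : Mat, ∀ X, dot c X = 0 → X ∈ R := by
  have h1 := R.card_mul_index
  rw [card_mat] at h1
  have h2 : R.index ≤ 2 := by nlinarith
  have h3 : R.index ≠ 0 := fun e => by rw [e, mul_zero] at h1; omega
  by_cases h4 : R.index = 1
  · refine ⟨0, fun X _ => ?_⟩
    rw [AddSubgroup.index_eq_one.mp h4]
    exact AddSubgroup.mem_top X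
  have hidx : R.index = 2 := by omega
  let χ : Mat → ZMod 2 := fun X => if X ∈ R then 0 else 1
  have hadd : ∀ X Y, χ (X + Y) = χ X + χ Y := fun X Y => by
    have := R.add_mem_iff_of_index_two hidx (a := X) (b := Y)
    simp only [χ]
    by_cases hX : X ∈ R <;> by_cases hY : Y ∈ R <;> simp_all <;> decide
  let χh : Mat →+ ZMod 2 := AddMonoidHom.mk' χ hadd
  refine ⟨((χ ((1, 0), (0, 0)), χ ((0, 1), (0, 0))), (χ ((0, 0), (1, 0)), χ ((0, 0), (0, 1)))),
    fun X hX => ?_⟩
  have hχ : χ X = 0 := by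
    obtain ⟨⟨a, b⟩, ⟨c, d⟩⟩ := X
    show χh ((a, b), (c, d)) = 0
    refine Eq.trans ?_ hX
    rw [split_mat a b c d, map_add, map_add, map_add, map_nsmul, map_nsmul, map_nsmul, map_nsmul,
      ← split_mat a b c d]
    simp only [dot, nsmul_eq_mul, ZMod.natCast_val, ZMod.cast_id, id, χh, AddMonoidHom.mk'_apply]
    ring
  by_contra hc
  simp [χ, hc] at hχ

open Classical in
theorem card_le_of_fixed (R : AddSubgroup Mat) (h : ∀ X ∈ R, conjT X = X) :
    Nat.card R ≤ 4 ∧ (4 ≤ Nat.card R → nilp ∈ R) := by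
  let S : Finset Mat := {0, ((1, 0), (0, 1)), nilp, ((1, 0), (1, 1))}
  have hsub : ∀ X, X ∈ R → X ∈ S := fun X hX => by
    rcases fixed_cases X (h X hX) with rfl | rfl | rfl | rfl <;> decide
  have hcard : Nat.card R = (Finset.univ.filter (fun X => X ∈ R)).card := by
    rw [Nat.card_eq_fintype_card, ← Fintype.card_subtype]
  have hle : (Finset.univ.filter (fun X => X ∈ R)) ⊆ S := fun X hX =>
    hsub X (by simpa using hX)
  refine ⟨hcard ▸ le_trans (Finset.card_le_card hle) (by decide), fun h4 => ?_⟩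
  have := Finset.eq_of_subset_of_card_le hle (le_trans (by decide) (hcard ▸ h4))
  have hn : nilp ∈ S := by decide
  rw [← this] at hn
  simpa using hn

end Cfsg.Agent.FourGenCoord94
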