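import Mathlib
import Cfsg.Prelude.Def_CaseTheorems

/-!
2-groups `S` with a self-centralising elementary abelian subgroup `T` of order 16 and a four-group
`B ≤ T` with `C_S(b) = T` for all nonidentity `b ∈ B`: every subgroup of `S` has Frattini quotient
of order at most 16. Also the reduction of the sectional 2-rank to such a statement for a Sylow
2-subgroup.
-/

set_option autoImplicit false

namespace Cfsg.Agent.SectionalFourGroup

variable {G : Type*} [Group G]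

/-- `U` modulo any subgroup containing its squares has order at most `2 ^ k`. -/
def FrattiniLE (k : ℕ) (U : Subgroup G) : Prop :=
  ∀ K : Subgroup G, K ≤ U → (∀ u ∈ U, u * u ∈ K) → K.relIndex U ≤ 2 ^ k

theorem conj_mem_of_sq {U K : Subgroup G} (hKU : K ≤ U) (hsq : ∀ u ∈ U, u * u ∈ K) {u k : G}
    (hu : u ∈ U) (hk : k ∈ K) : u * k * u⁻¹ ∈ K := by
  have h : u * k * u⁻¹ = (u * k * (u * k)) * k⁻¹ * (u * u)⁻¹ := by group
  rw [h]
  exact mul_mem (mul_mem (hsq _ (mul_mem hu (hKU hk))) (inv_mem hk)) (inv_mem (hsq u hu))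

theorem comm_mem_of_sq {U K : Subgroup G} (hsq : ∀ u ∈ U, u * u ∈ K) {u v : G}
    (hu : u ∈ U) (hv : v ∈ U) : u * v * u⁻¹ * v⁻¹ ∈ K := by
  have h : u * v * u⁻¹ * v⁻¹ = (u * u) * ((u⁻¹ * v) * (u⁻¹ * v)) * (v * v)⁻¹ := by group
  rw [h]
  exact mul_mem (mul_mem (hsq u hu) (hsq _ (mul_mem (inv_mem hu) hv))) (inv_mem (hsq v hv))

theorem sectional_of_sylow [Finite G] {k : ℕ} (S : Sylow 2 G)
    (h : ∀ U : Subgroup G, U ≤ (S : Subgroup G) → FrattiniLE k U) :
    Cfsg.SectionalPRankLE 2 k G := by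
  haveI := Fact.mk Nat.prime_two
  intro H N _ A _ hA
  let H' : Subgroup H := A.comap (QuotientGroup.mk' N)
  obtain ⟨P⟩ : Nonempty (Sylow 2 H') := inferInstance
  let φ : H' →* A := (QuotientGroup.mk' N).subgroupComap A
  have hφ : Function.Surjective φ := fun a => by
    obtain ⟨x, hx⟩ := QuotientGroup.mk'_surjective N (a : H ⧸ N)
    exact ⟨⟨x, show QuotientGroup.mk' N x ∈ A from hx ▸ a.2⟩, Subtype.ext hx⟩
  have hAp : IsPGroup 2 A := fun a => ⟨1, Subtype.ext (by simpa using hA a a.2)⟩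
  have hPA : (P : Subgroup H').map φ = ⊤ := by
    have h1 := (P.mapSurjective hφ).3 (Q := ⊤)
      (hAp.of_injective _ (⊤ : Subgroup A).subtype_injective) le_top
    simpa using h1.symm
  let ι : H' →* G := H.subtype.comp H'.subtype
  have hι : Function.Injective ι := H.subtype_injective.comp H'.subtype_injective
  have hP' : IsPGroup 2 ((P : Subgroup H').map ι) := P.isPGroup'.map _
  obtain ⟨Q, hQ⟩ := hP'.exists_le_sylow
  obtain ⟨g, hg⟩ := MulAction.exists_smul_eq G Q S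
  let c : H' →* G := (MulAut.conj g).toMonoidHom.comp ι
  have hc : Function.Injective c := (MulAut.conj g).injective.comp hι
  have hU : (P : Subgroup H').map c ≤ (S : Subgroup G) := by
    rintro _ ⟨x, hx, rfl⟩
    rw [← hg, Sylow.coe_subgroup_smul]
    exact ⟨ι x, hQ ⟨x, hx, rfl⟩, rfl⟩
  have hk := h _ hU ((((P : Subgroup H') ⊓ φ.ker)).map c) (Subgroup.map_mono inf_le_left) (by
    rintro _ ⟨x, hx, rfl⟩
    refine ⟨x * x, ⟨mul_mem hx hx, ?_⟩, map_mul _ _ _⟩
    show φ (x * x) = 1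
    rw [map_mul]
    apply Subtype.ext
    have := hA (φ x) (φ x).2
    rw [sq] at this
    simpa using this)
  rw [Subgroup.relIndex_map_map_of_injective _ _ hc, inf_comm, Subgroup.inf_relIndex_right,
    Subgroup.relIndex_ker] at hk
  have e : (P : Subgroup H').map φ = ⊤ := hPA
  rw [e, Subgroup.card_top] at hk
  exact hk

/-! ### counting -/

theorem ncard_le_of_fibres [Finite G] (A : Set G) (L : Subgroup G) (f : G → G) (O : Set G)
    (hO : ∀ s ∈ A, f s ∈ O) (hf : ∀ s ∈ A, ∀ r ∈ A, f s = f r → r⁻¹ * s ∈ L) :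
    A.ncard ≤ Nat.card L * O.ncard := by
  classical
  have : Fintype G := Fintype.ofFinite G
  rw [Set.ncard_eq_toFinset_card' A, Set.ncard_eq_toFinset_card' O]
  refine Finset.card_le_mul_card_image_of_maps_to (f := f) (by simpa using hO) _ fun o _ => ?_
  by_cases hne : (A.toFinset.filter fun s => f s = o).Nonempty
  · obtain ⟨r, hr⟩ := hne
    simp only [Finset.mem_filter, Set.mem_toFinset] at hr
    calc _ ≤ ((L : Set G).toFinset.image (r * ·)).card := by
          refine Finset.card_le_card fun s hs => ?_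
          simp only [Finset.mem_filter, Set.mem_toFinset] at hs
          simp only [Finset.mem_image, Set.mem_toFinset]
          exact ⟨r⁻¹ * s, hf s hs.1 r hr.1 (hs.2.trans hr.2.symm), by group⟩
      _ ≤ _ := Finset.card_image_le
      _ = Nat.card L := by
          rw [← Set.ncard_eq_toFinset_card', ← Nat.card_coe_set_eq]
          rfl
  · simp [Finset.not_nonempty_iff_eq_empty.1 hne]

theorem ncard_coe (H : Subgroup G) : (H : Set G).ncard = Nat.card H :=
  (Nat.card_coe_set_eq (H : Set G)).symm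

theorem card_mul_relIndex {H K : Subgroup G} (h : H ≤ K) :
    Nat.card H * H.relIndex K = Nat.card K := by
  rw [← Subgroup.relIndex_bot_left, Subgroup.relIndex_mul_relIndex _ _ _ bot_le h,
    Subgroup.relIndex_bot_left]

theorem two_pow_card [Finite G] {S H : Subgroup G} (hS : IsPGroup 2 S) (h : H ≤ S) :
    ∃ k, Nat.card H = 2 ^ k := by
  haveI := Fact.mk Nat.prime_two
  exact IsPGroup.iff_card.1 (hS.to_le h)

theorem two_pow_relIndex [Finite G] {S H K : Subgroup G} (hS : IsPGroup 2 S) (hK : K ≤ S) :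
    ∃ k, H.relIndex K = 2 ^ k := by
  obtain ⟨k, hk⟩ := two_pow_card hS hK
  rw [← Subgroup.inf_relIndex_right]
  have h := card_mul_relIndex (inf_le_right : H ⊓ K ≤ K)
  obtain ⟨j, -, hj⟩ := (Nat.dvd_prime_pow Nat.prime_two).1 (hk ▸ Dvd.intro_left _ h)
  exact ⟨j, hj⟩

theorem exists_normalizing [Finite G] {S H : Subgroup G} (hS : IsPGroup 2 S) (hHS : H ≤ S)
    (hne : H ≠ S) : ∃ g ∈ S, g ∉ H ∧ ∀ h ∈ H, g * h * g⁻¹ ∈ H := by
  haveI := Fact.mk Nat.prime_two
  haveI : Group.IsNilpotent S := hS.isNilpotent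
  have h1 : H.subgroupOf S < ⊤ := lt_top_iff_ne_top.2 fun h => hne
    (le_antisymm hHS (Subgroup.subgroupOf_eq_top.1 h))
  obtain ⟨g, hg, hgH⟩ := SetLike.exists_of_lt (Group.normalizerCondition_of_isNilpotent _ h1)
  refine ⟨g, g.2, fun h => hgH h, fun h hh => ?_⟩
  have := (Subgroup.mem_normalizer_iff.1 hg ⟨h, hHS hh⟩).1 (by exact hh)
  exact this

/-! ### the good subgroup -/

/-- `T` is elementary abelian of order 16 and contains a four-group whose nonidentity elements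
have centralizer `T` in `S`. -/
def Good (S T : Subgroup G) : Prop :=
  T ≤ S ∧ Nat.card T = 16 ∧ (∀ a ∈ T, a * a = 1) ∧
    ∃ B : Subgroup G, B ≤ T ∧ Nat.card B = 4 ∧ ∀ b ∈ B, b ≠ 1 → ∀ s ∈ S, s * b = b * s → s ∈ T

/-- The elements of `T` commuting with `s`. -/
def fix (T : Subgroup G) (s : G) : Subgroup G := T ⊓ Subgroup.centralizer ({s} : Set G)

theorem mem_fix {T : Subgroup G} {s t : G} : t ∈ fix T s ↔ t ∈ T ∧ s * t = t * s := by
  rw [fix, Subgroup.mem_inf, Subgroup.mem_centralizer_iff]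
  simp

/-- `S ∩ N(T)`. -/
def nor (S T : Subgroup G) : Subgroup G := S ⊓ Subgroup.normalizer (T : Set G)

variable [Finite G]

theorem mem_nor {S T : Subgroup G} {s : G} :
    s ∈ nor S T ↔ s ∈ S ∧ ∀ t ∈ T, s * t * s⁻¹ ∈ T := by
  rw [nor, Subgroup.mem_inf]
  refine and_congr_right fun _ => ⟨fun h t ht => (Subgroup.mem_normalizer_iff.1 h t).1 ht,
    fun h => Subgroup.mem_normalizer_iff.2 fun x => ⟨h x, fun hx => ?_⟩⟩
  have e : T.map (MulAut.conj s).toMonoidHom = T :=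
    Subgroup.eq_of_le_of_card_ge (by rintro _ ⟨t, ht, rfl⟩; exact h t ht)
      (Subgroup.card_map_of_injective (MulAut.conj s).injective).ge
  have hx' : s * x * s⁻¹ ∈ T.map (MulAut.conj s).toMonoidHom := by rw [e]; exact hx
  obtain ⟨t, ht, htx⟩ := hx'
  rwa [← (MulAut.conj s).injective htx]

variable {S T : Subgroup G}

theorem comm_of (hT : Good S T) {a b : G} (ha : a ∈ T) (hb : b ∈ T) : a * b = b * a := by
  have e : ∀ x ∈ T, x⁻¹ = x := fun x hx => inv_eq_of_mul_eq_one_right (hT.2.2.1 x hx)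
  calc a * b = (a * b)⁻¹ := (e _ (mul_mem ha hb)).symm
    _ = b * a := by rw [mul_inv_rev, e a ha, e b hb]

theorem inv_of (hT : Good S T) {a : G} (ha : a ∈ T) : a⁻¹ = a :=
  inv_eq_of_mul_eq_one_right (hT.2.2.1 a ha)

theorem le_nor (hT : Good S T) : T ≤ nor S T := fun t ht =>
  mem_nor.2 ⟨hT.1 ht, fun x hx => mul_mem (mul_mem ht hx) (inv_mem ht)⟩

theorem good_conj (hT : Good S T) {g : G} (hg : g ∈ S) :
    Good S (T.map (MulAut.conj g).toMonoidHom) := by
  obtain ⟨h1, h2, h3, B, hB1, hB2, hB3⟩ := hT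
  refine ⟨?_, by rwa [Subgroup.card_map_of_injective (MulAut.conj g).injective], ?_,
    B.map (MulAut.conj g).toMonoidHom, Subgroup.map_mono hB1,
    by rwa [Subgroup.card_map_of_injective (MulAut.conj g).injective], ?_⟩
  · rintro _ ⟨t, ht, rfl⟩
    exact mul_mem (mul_mem hg (h1 ht)) (inv_mem hg)
  · rintro _ ⟨t, ht, rfl⟩
    rw [← map_mul, h3 t ht, map_one]
  · rintro _ ⟨b, hb, rfl⟩ hne s hs hc
    have hb1 : b ≠ 1 := fun h => hne (by rw [h, map_one])
    refine ⟨g⁻¹ * s * g, hB3 b hb hb1 _ (mul_mem (mul_mem (inv_mem hg) hs) hg) ?_, ?_⟩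
    · calc g⁻¹ * s * g * b = g⁻¹ * (s * (g * b * g⁻¹)) * g := by group
        _ = g⁻¹ * ((g * b * g⁻¹) * s) * g := by
          simp only [MulEquiv.coe_toMonoidHom, MulAut.conj_apply] at hc; rw [hc]
        _ = b * (g⁻¹ * s * g) := by group
    · simp only [MulEquiv.coe_toMonoidHom, MulAut.conj_apply]; group

theorem card_fix_le (hT : Good S T) {s : G} (hs : s ∈ S) (hsT : s ∉ T) :
    Nat.card (fix T s) ≤ 4 := by
  obtain ⟨_, h2, _, B, hB1, hB2, hB3⟩ := id hT
  have hdis : fix T s ⊓ B = ⊥ := (Subgroup.eq_bot_iff_forall _).2 fun x hx => by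
    by_contra hne
    exact hsT (hB3 x hx.2 hne s hs (mem_fix.1 hx.1).2)
  have h := Nat.card_le_card_of_injective
    (fun p : fix T s × B => (⟨(p.1 : G) * p.2, mul_mem (mem_fix.1 p.1.2).1 (hB1 p.2.2)⟩ : T))
    (fun p q h => by
      apply Subgroup.mul_injective_of_disjoint (disjoint_iff.2 hdis)
      exact congrArg Subtype.val h)
  rw [Nat.card_prod, hB2, h2] at h
  omega

theorem comm_facts (hT : Good S T) {s : G} (hs : s ∈ nor S T) (hsT : s ∉ T) (hss : s * s ∈ T) :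
    Nat.card (fix T s) = 4 ∧ (∀ t ∈ T, s * t * s⁻¹ * t⁻¹ ∈ fix T s) ∧
      ∀ z ∈ fix T s, ∃ t ∈ T, s * t * s⁻¹ * t⁻¹ = z := by
  obtain ⟨hsS, hn⟩ := mem_nor.1 hs
  let d : T →* G := MonoidHom.mk' (fun t => s * (t : G) * s⁻¹ * (t : G)⁻¹) (fun a b => by
    have h1 : s * (b : G) * s⁻¹ * (b : G)⁻¹ ∈ T := mul_mem (hn b b.2) (inv_mem b.2)
    calc s * ((a * b : T) : G) * s⁻¹ * ((a * b : T) : G)⁻¹
        = (s * a * s⁻¹) * (s * b * s⁻¹ * (b : G)⁻¹) * (a : G)⁻¹ := by
          rw [Subgroup.coe_mul]; group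
      _ = (s * a * s⁻¹) * ((a : G)⁻¹ * (s * b * s⁻¹ * (b : G)⁻¹)) := by
          rw [mul_assoc, comm_of hT h1 (inv_mem a.2)]
      _ = _ := by group)
  have hrange : d.range ≤ fix T s := by
    rintro _ ⟨t, rfl⟩
    have h1 : s * (t : G) * s⁻¹ * (t : G)⁻¹ ∈ T := mul_mem (hn t t.2) (inv_mem t.2)
    refine mem_fix.2 ⟨h1, ?_⟩
    have h2 : s * s * (t : G) = t * (s * s) := comm_of hT hss t.2
    have h3 : s * (t : G)⁻¹ * s⁻¹ ∈ T := hn _ (inv_mem t.2)
    have key : s * (s * t * s⁻¹ * (t : G)⁻¹) * s⁻¹ = s * t * s⁻¹ * (t : G)⁻¹ := by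
      calc s * (s * t * s⁻¹ * (t : G)⁻¹) * s⁻¹
          = (s * s * t) * (s * s)⁻¹ * (s * (t : G)⁻¹ * s⁻¹) := by group
        _ = t * (s * (t : G)⁻¹ * s⁻¹) := by rw [h2]; group
        _ = (s * (t : G)⁻¹ * s⁻¹) * t := comm_of hT t.2 h3
        _ = (s * (t : G) * s⁻¹)⁻¹ * ((t : G)⁻¹)⁻¹ := by group
        _ = _ := by rw [inv_of hT (hn t t.2), inv_of hT (inv_mem t.2)]
    show s * (s * t * s⁻¹ * (t : G)⁻¹) = (s * t * s⁻¹ * (t : G)⁻¹) * s
    calc s * (s * t * s⁻¹ * (t : G)⁻¹)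
        = (s * (s * t * s⁻¹ * (t : G)⁻¹) * s⁻¹) * s := by group
      _ = _ := by rw [key]
  have hker : Nat.card d.ker ≤ Nat.card (fix T s) :=
    Nat.card_le_card_of_injective
      (fun x : d.ker => (⟨((x : T) : G), mem_fix.2 ⟨(x : T).2, by
        have h : s * ((x : T) : G) * s⁻¹ * ((x : T) : G)⁻¹ = 1 := x.2
        rwa [mul_inv_eq_one, mul_inv_eq_iff_eq_mul] at h⟩⟩ : fix T s))
      (fun a b h => Subtype.ext (Subtype.ext (congrArg (fun z : fix T s => (z : G)) h)))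
  have h4 := card_fix_le hT hsS hsT
  have hmul : Nat.card d.ker * Nat.card d.range = 16 := by
    rw [← Subgroup.index_ker, Subgroup.card_mul_index, hT.2.1]
  have hr := Subgroup.card_le_of_le hrange
  have h16 : 16 ≤ Nat.card (fix T s) * Nat.card d.range :=
    hmul ▸ Nat.mul_le_mul_right _ hker
  have hr4 : 4 ≤ Nat.card d.range := by nlinarith
  have heq : d.range = fix T s := Subgroup.eq_of_le_of_card_ge hrange (by omega)
  refine ⟨by omega, fun t ht => hrange ⟨⟨t, ht⟩, rfl⟩, fun z hz => ?_⟩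
  rw [← heq] at hz
  obtain ⟨t, ht⟩ := hz
  exact ⟨t, t.2, ht⟩

/-- `s` normalises `T`, centralises `Z` and centralises `T/Z`. -/
def InK (S T Z : Subgroup G) (s : G) : Prop :=
  s ∈ nor S T ∧ (∀ z ∈ Z, s * z = z * s) ∧ ∀ t ∈ T, s * t * s⁻¹ * t⁻¹ ∈ Z

theorem inK_ncard (hT : Good S T) {Z : Subgroup G} (hZ : Nat.card Z ≤ 4) (A : Set G)
    (hA : ∀ s ∈ A, InK S T Z s) : A.ncard ≤ 64 := by
  obtain ⟨_, h2, _, B, hB1, hB2, hB3⟩ := id hT
  have hB : B ≠ ⊥ := fun h => by rw [h, Subgroup.card_bot] at hB2; omega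
  obtain ⟨b, hb, hb1⟩ := (Subgroup.ne_bot_iff_exists_ne_one.1 hB).elim fun x hx =>
    (⟨x.1, x.2, fun h => hx (Subtype.ext h)⟩ : ∃ b ∈ B, b ≠ 1)
  have h := ncard_le_of_fibres A T (fun s => s * b * s⁻¹ * b⁻¹) (Z : Set G)
    (fun s hs => (hA s hs).2.2 b (hB1 hb)) (fun s hs r hr h => by
      have e := mul_right_cancel h
      refine hB3 b hb hb1 _ (mul_mem (inv_mem (mem_nor.1 (hA r hr).1).1)
        (mem_nor.1 (hA s hs).1).1) ?_
      calc r⁻¹ * s * b = r⁻¹ * (s * b * s⁻¹) * s := by group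
        _ = r⁻¹ * (r * b * r⁻¹) * s := by rw [e]
        _ = b * (r⁻¹ * s) := by group)
  rw [ncard_coe, h2] at h
  omega

theorem conj_fix (hT : Good S T) {s h x τ : G} (hτ : τ ∈ T) (hc : h * s * h⁻¹ = τ * s)
    (hx : x ∈ T) (hsx : s * x = x * s) (hhx : h * x * h⁻¹ ∈ T) :
    s * (h * x * h⁻¹) = h * x * h⁻¹ * s := by
  calc s * (h * x * h⁻¹) = τ⁻¹ * ((τ * s) * (h * x * h⁻¹)) := by group
    _ = τ⁻¹ * ((h * s * h⁻¹) * (h * x * h⁻¹)) := by rw [hc]
    _ = τ⁻¹ * (h * (s * x) * h⁻¹) := by group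
    _ = (τ⁻¹ * (h * x * h⁻¹)) * (h * s * h⁻¹) := by rw [hsx]; group
    _ = ((h * x * h⁻¹) * τ⁻¹) * (τ * s) := by rw [comm_of hT (inv_mem hτ) hhx, hc]
    _ = _ := by group

/-- No subgroup of order 128 between `T` and `N_S(T)` has all its squares in `T`. -/
theorem no_elem128 (hT : Good S T) {H : Subgroup G} (hTH : T ≤ H) (hH : H ≤ nor S T)
    (hsq : ∀ h ∈ H, h * h ∈ T) (hcard : Nat.card H = 128) : False := by
  classical
  have h16 := hT.2.1
  have hSH : ∀ h ∈ H, h ∈ S := fun h hh => (mem_nor.1 (hH hh)).1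
  have hn : ∀ h ∈ H, ∀ t ∈ T, h * t * h⁻¹ ∈ T := fun h hh => (mem_nor.1 (hH hh)).2
  -- conjugation by members of H preserves fixed subgroups
  have hinv : ∀ k ∈ H, ∀ h ∈ H, ∀ x ∈ fix T k, h * x * h⁻¹ ∈ fix T k := by
    intro k hk h hh x hx
    obtain ⟨hxT, hkx⟩ := mem_fix.1 hx
    refine mem_fix.2 ⟨hn h hh x hxT, conj_fix hT (τ := h * k * h⁻¹ * k⁻¹) ?_ (by group) hxT hkx
      (hn h hh x hxT)⟩
    exact comm_mem_of_sq hsq hh hk
  obtain ⟨q, hq, hqT⟩ : ∃ q ∈ H, q ∉ T := by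
    by_contra hcon
    push Not at hcon
    have := Subgroup.card_le_of_le (show H ≤ T from hcon)
    omega
  obtain ⟨hZ4, hZ1, -⟩ := comm_facts hT (hH hq) hqT (hsq q hq)
  set Z := fix T q with hZ
  have hZT : Z ≤ T := fun x hx => (mem_fix.1 hx).1
  have hmul : ∀ h x y : G, h * (x * y) * h⁻¹ * (x * y)⁻¹
      = (h * x * h⁻¹) * (h * y * h⁻¹ * y⁻¹) * x⁻¹ := fun h x y => by group
  -- a coset of Z fixed by H
  obtain ⟨c, hc, hcZ, hcH⟩ : ∃ c ∈ T, c ∉ Z ∧ ∀ h ∈ H, h * c * h⁻¹ * c⁻¹ ∈ Z := by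
    by_cases hall : ∀ h ∈ H, ∀ t ∈ T, h * t * h⁻¹ * t⁻¹ ∈ Z
    · obtain ⟨c, hc, hcZ⟩ : ∃ c ∈ T, c ∉ Z := by
        by_contra hcon
        push Not at hcon
        have := Subgroup.card_le_of_le (show T ≤ Z from hcon)
        omega
      exact ⟨c, hc, hcZ, fun h hh => hall h hh c hc⟩
    push Not at hall
    obtain ⟨h1, hh1, t1, ht1, hbad⟩ := hall
    have hh1T : h1 ∉ T := fun h => hbad (by
      rw [comm_of hT h ht1, mul_inv_cancel_right, mul_inv_cancel]; exact one_mem _)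
    obtain ⟨hF4, hF1, -⟩ := comm_facts hT (hH hh1) hh1T (hsq h1 hh1)
    set F := fix T h1
    set c := h1 * t1 * h1⁻¹ * t1⁻¹ with hcdef
    obtain ⟨z0, hz0Z, hz0F, hz01⟩ : ∃ z0 ∈ Z, z0 ∈ F ∧ z0 ≠ 1 := by
      by_cases hfixall : ∀ z ∈ Z, h1 * z * h1⁻¹ * z⁻¹ = 1
      · obtain ⟨z, hz, hz1⟩ : ∃ z ∈ Z, z ≠ 1 := by
          by_contra hcon
          push Not at hcon
          have : Z = ⊥ := (Subgroup.eq_bot_iff_forall _).2 hcon
          rw [this, Subgroup.card_bot] at hZ4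
          omega
        refine ⟨z, hz, mem_fix.2 ⟨hZT hz, ?_⟩, hz1⟩
        have := hfixall z hz
        rwa [mul_inv_eq_one, mul_inv_eq_iff_eq_mul] at this
      · push Not at hfixall
        obtain ⟨z, hz, hz1⟩ := hfixall
        exact ⟨_, mul_mem (hinv q hq h1 hh1 z hz) (inv_mem hz), hF1 z (hZT hz), hz1⟩
    refine ⟨c, (mem_fix.1 (hF1 t1 ht1)).1, hbad, fun h hh => ?_⟩
    have hcF : c ∈ F := hF1 t1 ht1
    have hcT : c ∈ T := (mem_fix.1 hcF).1
    have hd : h * c * h⁻¹ ∈ F := hinv h1 hh1 h hh c hcF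
    have hsub : (F : Set G) ⊆ {1, z0, c, c * z0} := by
      have hs : ({1, z0, c, c * z0} : Set G) ⊆ (F : Set G) := by
        rintro x (rfl | rfl | rfl | rfl)
        · exact one_mem F
        · exact hz0F
        · exact hcF
        · exact mul_mem hcF hz0F
      refine (Set.eq_of_subset_of_ncard_le hs ?_).symm.subset
      rw [ncard_coe, hF4]
      have e1 : c ≠ 1 := fun h => hbad (h ▸ one_mem Z)
      have e2 : c ≠ z0 := fun h => hbad (h ▸ hz0Z)
      have e3 : c * z0 ≠ 1 := fun h => hbad (by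
        rw [eq_inv_of_mul_eq_one_left h]; exact inv_mem hz0Z)
      have e4 : c * z0 ≠ z0 := fun h => e1 (mul_eq_right.1 h)
      have e5 : c * z0 ≠ c := fun h => hz01 (mul_eq_left.1 h)
      rw [Set.ncard_insert_of_notMem (by simp [hz01.symm, e1.symm, e3.symm]),
        Set.ncard_insert_of_notMem (by simp [e2.symm, e4.symm]),
        Set.ncard_insert_of_notMem (by simp [e5.symm]), Set.ncard_singleton]
    have hnotZ : h * c * h⁻¹ ∉ Z := fun hz => hbad (by
      have := hinv q hq h⁻¹ (inv_mem hh) _ hz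
      rwa [show h⁻¹ * (h * c * h⁻¹) * h⁻¹⁻¹ = c by group] at this)
    rcases hsub hd with h1' | h1' | h1' | h1'
    · exact absurd (h1' ▸ one_mem Z) hnotZ
    · exact absurd (h1' ▸ hz0Z) hnotZ
    · rw [h1', mul_inv_cancel]; exact one_mem Z
    · rw [Set.mem_singleton_iff] at h1'
      rw [h1', comm_of hT hcT (hZT hz0Z), mul_inv_cancel_right]; exact hz0Z
  -- the stabiliser of c
  set Hc := H ⊓ Subgroup.centralizer ({c} : Set G) with hHc
  have hHcmem : ∀ {x : G}, x ∈ Hc ↔ x ∈ H ∧ x * c = c * x := by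
    intro x
    rw [hHc, Subgroup.mem_inf, Subgroup.mem_centralizer_iff]
    simp [eq_comm]
  have hTHc : T ≤ Hc := fun t ht => hHcmem.2 ⟨hTH ht, comm_of hT ht hc⟩
  let O : Set G := (fun h => h * c * h⁻¹) '' (H : Set G)
  have hOle : O.ncard ≤ 4 := by
    calc O.ncard ≤ ((fun z => z * c) '' (Z : Set G)).ncard := by
          refine Set.ncard_le_ncard ?_
          rintro _ ⟨h, hh, rfl⟩
          exact ⟨_, hcH h hh, by group⟩
      _ ≤ (Z : Set G).ncard := Set.ncard_image_le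
      _ = 4 := by rw [ncard_coe, hZ4]
  have hHle : 128 ≤ Nat.card Hc * O.ncard := by
    rw [← hcard, ← ncard_coe H]
    refine ncard_le_of_fibres _ Hc (fun h => h * c * h⁻¹) O (fun h hh => ⟨h, hh, rfl⟩)
      fun s hs r hr h => hHcmem.2 ⟨mul_mem (inv_mem hr) hs, ?_⟩
    calc r⁻¹ * s * c = r⁻¹ * (s * c * s⁻¹) * s := by group
      _ = r⁻¹ * (r * c * r⁻¹) * s := by
        have h' : s * c * s⁻¹ = r * c * r⁻¹ := h
        rw [h']
      _ = _ := by group
  -- members of H commute on T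
  have hact : ∀ k ∈ H, ∀ h ∈ H, ∀ x ∈ T, k * x = x * k →
      k * (h * x * h⁻¹) = h * x * h⁻¹ * k := fun k hk h hh x hx hkx =>
    (mem_fix.1 (hinv k hk h hh x (mem_fix.2 ⟨hx, hkx⟩))).2
  obtain ⟨j, hj⟩ : ∃ j, Nat.card Hc = 2 ^ j := by
    have hd : Nat.card Hc ∣ 2 ^ 7 := by
      rw [show (2 : ℕ) ^ 7 = 128 by norm_num, ← hcard]; exact Subgroup.card_dvd_of_le inf_le_left
    exact ((Nat.dvd_prime_pow Nat.prime_two).1 hd).imp fun _ h => h.2
  by_cases h64 : 64 ≤ Nat.card Hc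
  swap
  · -- the orbit is the whole coset
    have hle32 : Nat.card Hc ≤ 32 := by
      rw [hj] at h64 ⊢
      have : j < 6 := by
        by_contra hcon
        exact h64 (le_trans (by norm_num) (Nat.pow_le_pow_right two_pos (not_lt.1 hcon)))
      exact le_trans (Nat.pow_le_pow_right two_pos (show j ≤ 5 by omega)) (by norm_num)
    have hO4 : 4 ≤ O.ncard := by nlinarith
    obtain ⟨r, hr, hrT⟩ : ∃ r ∈ Hc, r ∉ T := by
      by_contra hcon
      push Not at hcon
      have := Subgroup.card_le_of_le (show Hc ≤ T from hcon)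
      nlinarith
    obtain ⟨hrH, hrc⟩ := hHcmem.1 hr
    have hOfix : O ⊆ (fix T r : Set G) := by
      rintro _ ⟨h, hh, rfl⟩
      exact mem_fix.2 ⟨hn h hh c hc, hact r hrH h hh c hc hrc⟩
    have h4 := card_fix_le hT (hSH r hrH) hrT
    have heq : O = (fix T r : Set G) :=
      Set.eq_of_subset_of_ncard_le hOfix (by rw [ncard_coe]; omega)
    obtain ⟨h, hh, h1⟩ : (1 : G) ∈ O := heq ▸ one_mem (fix T r)
    have : c = 1 := by simpa using h1
    exact hcZ (this ▸ one_mem Z)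
  -- large stabiliser
  obtain ⟨k0, hk0, hk0T⟩ : ∃ k0 ∈ Hc, k0 ∉ T := by
    by_contra hcon
    push Not at hcon
    have := Subgroup.card_le_of_le (show Hc ≤ T from hcon)
    omega
  obtain ⟨hk0H, hk0c⟩ := hHcmem.1 hk0
  set d := q * c * q⁻¹ * c⁻¹ with hddef
  have hdZ : d ∈ Z := hcH q hq
  have hd1 : d ≠ 1 := fun h => hcZ (mem_fix.2 ⟨hc, by
    rwa [hddef, mul_inv_eq_one, mul_inv_eq_iff_eq_mul] at h⟩)
  have hfixk : ∀ k ∈ Hc, k ∉ T → (fix T k : Set G) = {1, c, d, c * d} := by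
    intro k hk hkT
    obtain ⟨hkH, hkc⟩ := hHcmem.1 hk
    have hcF : c ∈ fix T k := mem_fix.2 ⟨hc, hkc⟩
    have hdF : d ∈ fix T k := mul_mem (hinv k hkH q hq c hcF) (inv_mem hcF)
    refine (Set.eq_of_subset_of_ncard_le ?_ ?_).symm
    · rintro x (rfl | rfl | rfl | rfl)
      · exact one_mem (fix T k)
      · exact hcF
      · exact hdF
      · exact mul_mem hcF hdF
    · rw [ncard_coe, (comm_facts hT (hH hkH) hkT (hsq k hkH)).1]
      have e1 : c ≠ 1 := fun h => hcZ (h ▸ one_mem Z)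
      have e2 : c ≠ d := fun h => hcZ (h ▸ hdZ)
      have e3 : c * d ≠ 1 := fun h => hcZ (by
        rw [eq_inv_of_mul_eq_one_left h]; exact inv_mem hdZ)
      have e4 : c * d ≠ d := fun h => e1 (mul_eq_right.1 h)
      have e5 : c * d ≠ c := fun h => hd1 (mul_eq_left.1 h)
      rw [Set.ncard_insert_of_notMem (by simp [hd1.symm, e1.symm, e3.symm]),
        Set.ncard_insert_of_notMem (by simp [e2, e5.symm]),
        Set.ncard_insert_of_notMem (by simp [e4.symm]), Set.ncard_singleton]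
  set Z' := fix T k0
  have hZ'4 : Nat.card Z' = 4 := (comm_facts hT (hH hk0H) hk0T (hsq k0 hk0H)).1
  have hZ'eq : ∀ k ∈ Hc, k ∉ T → fix T k = Z' := fun k hk hkT => SetLike.coe_injective
    ((hfixk k hk hkT).trans (hfixk k0 hk0 hk0T).symm)
  have hHcK : ∀ k ∈ Hc, InK S T Z' k := by
    intro k hk
    obtain ⟨hkH, -⟩ := hHcmem.1 hk
    refine ⟨hH hkH, ?_⟩
    by_cases hkT : k ∈ T
    · exact ⟨fun z hz => comm_of hT hkT (mem_fix.1 hz).1, fun t ht => by
        rw [comm_of hT hkT ht, mul_inv_cancel_right, mul_inv_cancel]; exact one_mem _⟩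
    · rw [← hZ'eq k hk hkT]
      exact ⟨fun z hz => (mem_fix.1 hz).2, (comm_facts hT (hH hkH) hkT (hsq k hkH)).2.1⟩
  have hHHc : H ≤ Hc := by
    intro h hh
    obtain ⟨w, hw, hwZ, hwh⟩ : ∃ w ∈ T, w ∉ Z' ∧ h * w * h⁻¹ * w⁻¹ ∈ Z' := by
      obtain ⟨t, ht, htZ⟩ : ∃ t ∈ T, t ∉ Z' := by
        by_contra hcon
        push Not at hcon
        have := Subgroup.card_le_of_le (show T ≤ Z' from hcon)
        omega
      by_cases h' : h * t * h⁻¹ * t⁻¹ ∈ Z'
      · exact ⟨t, ht, htZ, h'⟩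
      refine ⟨_, mul_mem (hn h hh t ht) (inv_mem ht), h', ?_⟩
      have hhT : h ∉ T := fun hhT => h' (by
        rw [comm_of hT hhT ht, mul_inv_cancel_right, mul_inv_cancel]; exact one_mem _)
      have := (mem_fix.1 ((comm_facts hT (hH hh) hhT (hsq h hh)).2.1 t ht)).2
      rw [this, mul_inv_cancel_right, mul_inv_cancel]
      exact one_mem _
    let f : G → G := fun k => k * w * k⁻¹ * w⁻¹
    have himg : f '' (Hc : Set G) = (Z' : Set G) := by
      refine Set.eq_of_subset_of_ncard_le ?_ ?_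
      · rintro _ ⟨k, hk, rfl⟩; exact (hHcK k hk).2.2 w hw
      · have h1 := ncard_le_of_fibres (Hc : Set G) T f (f '' (Hc : Set G))
          (fun k hk => ⟨k, hk, rfl⟩) (fun s hs r hr he => by
            by_contra hnot
            have hrs : r⁻¹ * s ∈ Hc := mul_mem (inv_mem hr) hs
            refine hwZ (hZ'eq _ hrs hnot ▸ mem_fix.2 ⟨hw, ?_⟩)
            have he' : s * w * s⁻¹ = r * w * r⁻¹ := mul_right_cancel he
            calc r⁻¹ * s * w = r⁻¹ * (s * w * s⁻¹) * s := by group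
              _ = r⁻¹ * (r * w * r⁻¹) * s := by rw [he']
              _ = _ := by group)
        rw [ncard_coe, hT.2.1] at h1
        rw [ncard_coe, hZ'4]
        omega
    obtain ⟨k, hk, hkw⟩ : h * w * h⁻¹ * w⁻¹ ∈ f '' (Hc : Set G) := himg ▸ hwh
    have hkH := (hHcmem.1 hk).1
    by_contra hnot
    set r := k⁻¹ * h with hr
    have hrH : r ∈ H := mul_mem (inv_mem hkH) hh
    have hrT : r ∉ T := fun hrT => hnot (by
      rw [show h = k * r by rw [hr]; group]; exact mul_mem hk (hTHc hrT))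
    have hrw : r * w = w * r := by
      have he : k * w * k⁻¹ = h * w * h⁻¹ := mul_right_cancel hkw
      calc k⁻¹ * h * w = k⁻¹ * (h * w * h⁻¹) * h := by group
        _ = k⁻¹ * (k * w * k⁻¹) * h := by rw [he]
        _ = _ := by rw [hr]; group
    have hwF : w ∈ fix T r := mem_fix.2 ⟨hw, hrw⟩
    have hZF : Z' ≤ fix T r := fun z hz => by
      have hz' : z ∈ f '' (Hc : Set G) := himg ▸ hz
      obtain ⟨k', hk', rfl⟩ := hz'
      exact mul_mem (hinv r hrH k' (hHcmem.1 hk').1 w hwF) (inv_mem hwF)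
    have heq := Subgroup.eq_of_le_of_card_ge hZF (by
      have := card_fix_le hT (hSH r hrH) hrT; omega)
    exact hwZ (heq ▸ hwF)
  have := inK_ncard hT (hZ'4).le (H : Set G) fun h hh => hHcK h (hHHc hh)
  rw [ncard_coe, hcard] at this
  omega

theorem card_nor_le (hS : IsPGroup 2 S) (hT : Good S T) : Nat.card (nor S T) ≤ 128 := by
  haveI := Fact.mk Nat.prime_two
  obtain ⟨_, h2, _, B, hB1, hB2, hB3⟩ := id hT
  by_cases hNT : nor S T = T
  · rw [hNT]; omega
  have hTN := le_nor hT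
  let N := nor S T
  let T' : Subgroup N := T.subgroupOf N
  haveI hnormal : T'.Normal := ⟨fun x hx n => (mem_nor.1 n.2).2 x hx⟩
  have hNp : IsPGroup 2 N := hS.to_le inf_le_left
  haveI : Nontrivial (N ⧸ T') := by
    rw [← Finite.one_lt_card_iff_nontrivial]
    have h1 : T'.index ≠ 1 := fun h => hNT (le_antisymm
      (Subgroup.subgroupOf_eq_top.1 (Subgroup.index_eq_one.1 h)) hTN)
    have h2 : T'.index ≠ 0 := Subgroup.index_ne_zero_of_finite
    rw [← Subgroup.index_eq_card]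
    omega
  haveI := (hNp.to_quotient T').center_nontrivial
  obtain ⟨k, hk⟩ := IsPGroup.iff_card.1 ((hNp.to_quotient T').to_subgroup (Subgroup.center _))
  have hk0 : k ≠ 0 := fun h => by
    rw [h] at hk
    have := Finite.one_lt_card_iff_nontrivial.2 (inferInstance : Nontrivial (Subgroup.center (N ⧸ T')))
    omega
  obtain ⟨y, hy⟩ := exists_prime_orderOf_dvd_card' (G := Subgroup.center (N ⧸ T')) 2
    (hk ▸ dvd_pow_self 2 hk0)
  obtain ⟨q, hq⟩ := QuotientGroup.mk'_surjective T' (y : N ⧸ T')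
  have hqT : (q : G) ∉ T := fun h => by
    have : QuotientGroup.mk' T' q = 1 := (QuotientGroup.eq_one_iff q).2 h
    rw [hq] at this
    have : y = 1 := Subtype.ext this
    rw [this, orderOf_one] at hy
    omega
  have hqq : (q : G) * q ∈ T := by
    have h1 : QuotientGroup.mk' T' (q * q) = 1 := by
      rw [map_mul, hq, ← Subgroup.coe_mul, ← sq, ← hy, pow_orderOf_eq_one, Subgroup.coe_one]
    exact (QuotientGroup.eq_one_iff (q * q)).1 h1
  have hcent : ∀ n ∈ N, n * (q : G) * n⁻¹ * (q : G)⁻¹ ∈ T := fun n hn => by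
    obtain ⟨n', rfl⟩ : ∃ n' : N, (n' : G) = n := ⟨⟨n, hn⟩, rfl⟩
    have h1 : QuotientGroup.mk' T' (n' * q * n'⁻¹ * q⁻¹) = 1 := by
      rw [map_mul, map_mul, map_mul, map_inv, map_inv, hq,
        Subgroup.mem_center_iff.1 y.2 _, mul_inv_cancel_right, mul_inv_cancel]
    exact (QuotientGroup.eq_one_iff (n' * q * n'⁻¹ * q⁻¹)).1 h1
  obtain ⟨hZ4, -, -⟩ := comm_facts hT q.2 hqT hqq
  obtain ⟨b, hb, hb1⟩ : ∃ b ∈ B, b ≠ 1 := by
    by_contra hcon
    push Not at hcon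
    rw [(Subgroup.eq_bot_iff_forall _).2 hcon, Subgroup.card_bot] at hB2
    omega
  have h := ncard_le_of_fibres (N : Set G) T (fun n => n * b * n⁻¹)
    ((T : Set G) \ (fix T (q : G) : Set G))
    (fun n hn => ⟨(mem_nor.1 hn).2 b (hB1 hb), fun hf => hqT (hB3 b hb hb1 _ (mem_nor.1 q.2).1 (by
      have hb' : n⁻¹ * (n * b * n⁻¹) * n⁻¹⁻¹ = b := by group
      have := conj_fix hT (hcent n⁻¹ (inv_mem hn)) (by group) ((mem_nor.1 hn).2 b (hB1 hb))
        (mem_fix.1 hf).2 (hb'.symm ▸ hB1 hb)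
      rwa [hb'] at this))⟩)
    (fun s hs r hr he => hB3 b hb hb1 _ (mul_mem (inv_mem (mem_nor.1 hr).1) (mem_nor.1 hs).1) (by
      have he' : s * b * s⁻¹ = r * b * r⁻¹ := he
      calc r⁻¹ * s * b = r⁻¹ * (s * b * s⁻¹) * s := by group
        _ = r⁻¹ * (r * b * r⁻¹) * s := by rw [he']
        _ = _ := by group))
  rw [Set.ncard_diff (fun x hx => (mem_fix.1 hx).1), ncard_coe, ncard_coe, ncard_coe, hZ4, h2] at h
  obtain ⟨m, hm⟩ : ∃ m, Nat.card (nor S T) = 2 ^ m :=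
    two_pow_card hS (inf_le_left : S ⊓ Subgroup.normalizer (T : Set G) ≤ S)
  rw [show Nat.card N = 2 ^ m from hm] at h
  rw [show Nat.card (nor S T) = 2 ^ m from hm]
  have : m < 8 := by
    by_contra hcon
    have : 2 ^ 8 ≤ 2 ^ m := Nat.pow_le_pow_right two_pos (not_lt.1 hcon)
    omega
  exact le_trans (Nat.pow_le_pow_right two_pos (show m ≤ 7 by omega)) (by norm_num)

end Cfsg.Agent.SectionalFourGroup
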