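import Mathlib

/-!
Finite 2-groups in which every element of order dividing 4 is central: the squares form a subgroup
of index at most the number of solutions of `x * x = 1`.
-/

set_option autoImplicit false
set_option linter.unusedSectionVars false

open Subgroup

namespace Cfsg.Agent.TwoCentral94

variable {X : Type*} [Group X]

/-- Every element of order dividing 4 is central. -/
def Hyp (X : Type*) [Group X] : Prop := ∀ x : X, x ^ 4 = 1 → x ∈ center X

theorem pow_four (x : X) : x ^ 4 = x * x * (x * x) := by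
  rw [← pow_two, ← pow_two, ← pow_mul]

theorem four_of_two {x : X} (hx : x * x = 1) : x ^ 4 = 1 := by
  rw [pow_four, hx, mul_one]

/-- An element of 2-power order inverted by conjugation has order at most 2. -/
theorem sq_eq_one_of_inverted (h : Hyp X) (hX : IsPGroup 2 X) {d e : X}
    (he : d * e * d⁻¹ = e⁻¹) : e * e = 1 := by
  obtain ⟨k, hk⟩ := hX e
  induction k generalizing e with
  | zero => rw [pow_zero, pow_one] at hk; rw [hk, one_mul]
  | succ k ih =>
    have h2 : e * e * (e * e) = 1 := by
      refine ih (e := e * e) ?_ ?_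
      · calc d * (e * e) * d⁻¹ = (d * e * d⁻¹) * (d * e * d⁻¹) := by group
          _ = _ := by rw [he, mul_inv_rev]
      · rw [← pow_two, ← pow_mul, ← pow_succ']
        exact hk
    have hc : d * e = e * d := mem_center_iff.mp (h e (by rw [pow_four]; exact h2)) d
    rw [hc, mul_inv_cancel_right] at he
    exact mul_eq_one_iff_eq_inv.mpr he

/-- The solutions of `x * x = 1`. -/
def omega (h : Hyp X) : Subgroup X where
  carrier := {x | x * x = 1}
  one_mem' := one_mul 1
  mul_mem' {x y} (hx : x * x = 1) (hy : y * y = 1) := show x * y * (x * y) = 1 by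
    have hc : y * x = x * y := mem_center_iff.mp (h x (four_of_two hx)) y
    calc x * y * (x * y) = x * (y * x) * y := by group
      _ = x * x * (y * y) := by rw [hc]; group
      _ = 1 := by rw [hx, hy, one_mul]
  inv_mem' {x} (hx : x * x = 1) := show x⁻¹ * x⁻¹ = 1 by rw [← mul_inv_rev, hx, inv_one]

theorem mem_omega (h : Hyp X) {x : X} : x ∈ omega h ↔ x * x = 1 := Iff.rfl

theorem omega_central (h : Hyp X) : omega h ≤ center X := fun _ hx => h _ (four_of_two hx)

instance omega_normal (h : Hyp X) : (omega h).Normal :=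
  ⟨fun x hx g => by
    rw [mem_center_iff.mp (omega_central h hx) g, mul_inv_cancel_right]; exact hx⟩

/-- The solutions of `x ^ 4 = 1`. -/
def omegaTwo (h : Hyp X) : Subgroup X where
  carrier := {x | x ^ 4 = 1}
  one_mem' := one_pow 4
  mul_mem' {x y} (hx : x ^ 4 = 1) (hy : y ^ 4 = 1) := show (x * y) ^ 4 = 1 by
    rw [(show Commute x y from (mem_center_iff.mp (h x hx) y).symm).mul_pow, hx, hy, one_mul]
  inv_mem' {x} (hx : x ^ 4 = 1) := show x⁻¹ ^ 4 = 1 by rw [inv_pow, hx, inv_one]

theorem mem_omegaTwo (h : Hyp X) {x : X} : x ∈ omegaTwo h ↔ x ^ 4 = 1 := Iff.rfl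

/-- Squaring on the solutions of `x ^ 4 = 1`. -/
def sqHom (h : Hyp X) : omegaTwo h →* X :=
  MonoidHom.mk' (fun x => (x : X) * x) fun a b => by
    have hc : (b : X) * a = a * b := mem_center_iff.mp (h a a.2) b
    show (a : X) * b * (a * b) = _
    calc (a : X) * b * (a * b) = a * ((b : X) * a) * b := by group
      _ = _ := by rw [hc]; group

theorem range_le (h : Hyp X) : (sqHom h).range ≤ omega h := by
  rintro _ ⟨x, rfl⟩
  show (x : X) * x * (x * x) = 1
  rw [← pow_four]; exact x.2

theorem quot_mk_sq {h : Hyp X} {x : X}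
    (hx : (QuotientGroup.mk x : X ⧸ omega h) * QuotientGroup.mk x = 1) : x ∈ omegaTwo h := by
  rw [← QuotientGroup.mk_mul, QuotientGroup.eq_one_iff, mem_omega] at hx
  rw [mem_omegaTwo, pow_four]; exact hx

theorem hyp_quotient (h : Hyp X) (hX : IsPGroup 2 X) : Hyp (X ⧸ omega h) := by
  intro q hq
  induction q using QuotientGroup.induction_on with
  | _ x =>
    rw [← QuotientGroup.mk_pow, QuotientGroup.eq_one_iff, mem_omega] at hq
    have hc : x * x ∈ center X := h _ (by
      rw [pow_four, show x * x * (x * x) = x ^ 4 from (pow_four x).symm]; exact hq)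
    rw [mem_center_iff]
    intro q'
    induction q' using QuotientGroup.induction_on with
    | _ y =>
      set e := x⁻¹ * (y * x * y⁻¹) with he
      have h1 : x * e * (x * e) = x * x := by
        calc x * e * (x * e) = y * (x * x) * y⁻¹ := by rw [he]; group
          _ = x * x := by rw [mem_center_iff.mp hc y, mul_inv_cancel_right]
      have h2 : x⁻¹ * e * x⁻¹⁻¹ = e⁻¹ := by
        rw [inv_inv, eq_inv_iff_mul_eq_one]
        calc x⁻¹ * e * x * e = x⁻¹ * (x⁻¹ * (x * e * (x * e))) := by group
          _ = 1 := by rw [h1]; group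
      have h3 : e ∈ omega h := (mem_omega h).mpr (sq_eq_one_of_inverted h hX h2)
      rw [← QuotientGroup.mk_mul, ← QuotientGroup.mk_mul, QuotientGroup.eq]
      have h4 : (y * x)⁻¹ * (x * y) = y⁻¹ * e⁻¹ * y⁻¹⁻¹ := by rw [he]; group
      rw [h4]
      exact (omega_normal h).conj_mem _ (inv_mem h3) _

variable [Finite X]

theorem card_omega_quotient (h : Hyp X) (h' : Hyp (X ⧸ omega h)) :
    Nat.card (omega h') ≤ Nat.card (sqHom h).range := by
  let f : omegaTwo h →* X ⧸ omega h := (QuotientGroup.mk' (omega h)).comp (omegaTwo h).subtype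
  have h1 : omega h' ≤ f.range := fun q hq => by
    induction q using QuotientGroup.induction_on with
    | _ x => exact ⟨⟨x, quot_mk_sq ((mem_omega h').mp hq)⟩, rfl⟩
  have h2 : f.ker = (sqHom h).ker := by
    ext x
    exact (QuotientGroup.eq_one_iff (x : X))
  refine (Subgroup.card_le_of_le h1).trans ?_
  rw [← Subgroup.index_ker, h2, Subgroup.index_ker]

theorem card_quotient_lt (h : Hyp X) (hX : IsPGroup 2 X) (hne : Nontrivial X) :
    Nat.card (X ⧸ omega h) < Nat.card X := by
  haveI := Fact.mk Nat.prime_two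
  obtain ⟨n, hn⟩ := IsPGroup.iff_card.mp hX
  have hn0 : n ≠ 0 := fun h0 => by
    have := Finite.one_lt_card (α := X)
    rw [hn, h0, pow_zero] at this; omega
  obtain ⟨x, hx⟩ := exists_prime_orderOf_dvd_card' (G := X) 2 (hn ▸ dvd_pow_self 2 hn0)
  have hm : x ∈ omega h := by
    rw [mem_omega, ← pow_two, ← hx]; exact pow_orderOf_eq_one x
  have h2 : 1 < Nat.card (omega h) := by
    refine Finite.one_lt_card_iff_nontrivial.mpr ⟨⟨⟨x, hm⟩, 1, fun e => ?_⟩⟩
    have : x = 1 := congrArg Subtype.val e
    rw [this, orderOf_one] at hx; omega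
  have h3 := (omega h).card_mul_index
  rw [Subgroup.index_eq_card] at h3
  have h4 : 0 < Nat.card (X ⧸ omega h) := Nat.card_pos
  nlinarith

omit [Finite X] in
theorem isCyclic_of_card_omega_aux (n : ℕ) : ∀ (X : Type u_1) [Group X] [Finite X],
    Nat.card X = n → ∀ (h : Hyp X), IsPGroup 2 X → Nat.card (omega h) ≤ 2 → IsCyclic X := by
  induction n using Nat.strong_induction_on with
  | _ n ih =>
    intro X _ _ hn h hX hE
    haveI := Fact.mk Nat.prime_two
    rcases subsingleton_or_nontrivial X with hs | hne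
    · exact isCyclic_of_subsingleton
    have h' := hyp_quotient h hX
    have hcyc : IsCyclic (X ⧸ omega h) :=
      ih _ (hn ▸ card_quotient_lt h hX hne) _ rfl h' (hX.to_quotient _)
        ((card_omega_quotient h h').trans ((Subgroup.card_le_of_le (range_le h)).trans hE))
    obtain ⟨q, hq⟩ := hcyc.exists_generator
    obtain ⟨x, rfl⟩ := QuotientGroup.mk_surjective q
    have hdec : ∀ y : X, ∃ i : ℤ, x ^ (-i) * y ∈ omega h := fun y => by
      obtain ⟨i, hi⟩ := Subgroup.mem_zpowers_iff.mp (hq (QuotientGroup.mk y))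
      refine ⟨i, (QuotientGroup.eq_one_iff _).mp ?_⟩
      rw [QuotientGroup.mk_mul, QuotientGroup.mk_zpow, ← hi, zpow_neg, inv_mul_cancel]
    by_cases hx1 : x = 1
    · have hall : ∀ y : X, y ∈ omega h := fun y => by
        obtain ⟨i, hi⟩ := hdec y
        simpa [hx1] using hi
      have htop : omega h = ⊤ := eq_top_iff.mpr fun y _ => hall y
      rw [htop, Subgroup.card_top] at hE
      have h1 := Finite.one_lt_card (α := X)
      exact isCyclic_of_prime_card (p := 2) (by omega)
    obtain ⟨k, -, hk⟩ := (Nat.dvd_prime_pow Nat.prime_two).mp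
      (orderOf_dvd_of_pow_eq_one (hX x).choose_spec)
    have hk0 : k ≠ 0 := fun h0 => hx1 (orderOf_eq_one_iff.mp (by rw [hk, h0, pow_zero]))
    obtain ⟨j, rfl⟩ := Nat.exists_eq_succ_of_ne_zero hk0
    set z := x ^ (2 ^ j) with hz
    have hzE : z ∈ omega h := by
      rw [mem_omega, ← pow_two, hz, ← pow_mul, ← pow_succ, ← hk, pow_orderOf_eq_one]
    have hz1 : z ≠ 1 := fun e => by
      have := orderOf_dvd_of_pow_eq_one e
      rw [hk] at this
      have := (Nat.pow_dvd_pow_iff_le_right (show 1 < 2 by norm_num)).mp this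
      omega
    have hEz : ∀ e ∈ omega h, e ∈ zpowers x := by
      intro e he
      by_cases he1 : e = 1
      · exact he1 ▸ one_mem _
      by_cases hez : e = z
      · exact hez ▸ npow_mem_zpowers x _
      exfalso
      have hinj : Function.Injective (![⟨1, one_mem _⟩, ⟨z, hzE⟩, ⟨e, he⟩] : Fin 3 → omega h) := by
        intro a b hab
        fin_cases a <;> fin_cases b <;> simp_all [eq_comm]
      have := Nat.card_le_card_of_injective _ hinj
      rw [Nat.card_fin] at this; omega
    refine ⟨x, fun y => ?_⟩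
    obtain ⟨i, hi⟩ := hdec y
    have := mul_mem (zpow_mem (mem_zpowers x) i) (hEz _ hi)
    rwa [← mul_assoc, ← zpow_add, add_neg_cancel, zpow_zero, one_mul] at this

theorem comm_of_quotient_cyclic (h : Hyp X) (hc : IsCyclic (X ⧸ omega h)) (a b : X) :
    a * b = b * a :=
  commutative_of_cyclic_center_quotient (QuotientGroup.mk' (omega h))
    (by rw [QuotientGroup.ker_mk']; exact omega_central h) a b

/-- The squares form a subgroup of index at most the number of solutions of `x * x = 1`. -/
theorem squares_aux (n : ℕ) : ∀ (X : Type u_1) [Group X] [Finite X],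
    Nat.card X = n → ∀ (h : Hyp X), IsPGroup 2 X → Nat.card (omega h) ≤ 4 →
      ∃ Q : Subgroup X, (∀ y, y ∈ Q ↔ ∃ x, x * x = y) ∧ Q.index ≤ Nat.card (omega h) := by
  induction n using Nat.strong_induction_on with
  | _ n ih =>
    intro X _ _ hn h hX hE
    haveI := Fact.mk Nat.prime_two
    rcases subsingleton_or_nontrivial X with hs | hne
    · exact ⟨⊤, fun y => ⟨fun _ => ⟨y, Subsingleton.elim _ _⟩, fun _ => mem_top _⟩,
        by rw [Subgroup.index_top]; exact Nat.card_pos⟩
    have h' := hyp_quotient h hX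
    have hle := card_omega_quotient h h'
    have hrle := Subgroup.card_le_of_le (range_le h)
    by_cases hon : omega h ≤ (sqHom h).range
    · obtain ⟨Q', hQ', hi⟩ := ih _ (hn ▸ card_quotient_lt h hX hne) _ rfl h' (hX.to_quotient _)
        (hle.trans (hrle.trans hE))
      refine ⟨Q'.comap (QuotientGroup.mk' _), fun y => ⟨fun hy => ?_, ?_⟩, ?_⟩
      · obtain ⟨q, hq⟩ := (hQ' _).mp hy
        obtain ⟨d, rfl⟩ := QuotientGroup.mk_surjective q
        have he : (d * d)⁻¹ * y ∈ omega h := by
          rw [← QuotientGroup.eq, QuotientGroup.mk_mul]; exact hq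
        obtain ⟨m, hm⟩ := hon he
        refine ⟨d * m, ?_⟩
        have hc : (m : X) * d = d * m := (mem_center_iff.mp (h m m.2) d).symm
        have hm' : (m : X) * m = (d * d)⁻¹ * y := hm
        calc d * (m : X) * (d * m) = d * ((m : X) * d) * m := by group
          _ = d * d * ((m : X) * m) := by rw [hc]; group
          _ = y := by rw [hm']; group
      · rintro ⟨x, rfl⟩
        exact (hQ' _).mpr ⟨QuotientGroup.mk x, rfl⟩
      · rw [Subgroup.index_comap_of_surjective _ (QuotientGroup.mk'_surjective _)]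
        exact hi.trans (hle.trans hrle)
    have hr2 : Nat.card (sqHom h).range ≤ 2 := by
      have hlt : Nat.card (sqHom h).range < Nat.card (omega h) := by
        by_contra hc
        exact hon (Subgroup.eq_of_le_of_card_ge (range_le h) (not_lt.mp hc)).ge
      have hdvd := Subgroup.card_dvd_of_le (range_le h)
      obtain ⟨c, hc⟩ := hdvd
      have hc2 : 2 ≤ c := by
        by_contra hc'
        interval_cases c <;> omega
      have := Nat.mul_le_mul_left (Nat.card (sqHom h).range) hc2
      omega
    have hcyc : IsCyclic (X ⧸ omega h) :=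
      isCyclic_of_card_omega_aux _ _ rfl h' (hX.to_quotient _) (hle.trans hr2)
    have hcomm := comm_of_quotient_cyclic h hcyc
    let f : X →* X := MonoidHom.mk' (fun x => x * x) fun a b => by
      calc a * b * (a * b) = a * (b * a) * b := by group
        _ = _ := by rw [hcomm b a]; group
    refine ⟨f.range, fun y => Iff.rfl, ?_⟩
    have hk : f.ker = omega h := by ext; rfl
    have h1 := f.range.card_mul_index
    have h2 := f.ker.card_mul_index
    rw [Subgroup.index_ker, hk] at h2
    rw [← h2, mul_comm (Nat.card (omega h))] at h1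
    exact (Nat.eq_of_mul_eq_mul_left Nat.card_pos h1).le

/-- A subgroup containing all squares has index at most the number of solutions of `x * x = 1`. -/
theorem index_le_of_squares (h : Hyp X) (hX : IsPGroup 2 X) (hE : Nat.card (omega h) ≤ 4)
    (K : Subgroup X) (hK : ∀ x, x * x ∈ K) : K.index ≤ Nat.card (omega h) := by
  obtain ⟨Q, hQ, hi⟩ := squares_aux _ X rfl h hX hE
  have hle : Q ≤ K := fun y hy => by obtain ⟨x, rfl⟩ := (hQ y).mp hy; exact hK x
  exact (Nat.le_of_dvd (Nat.pos_of_ne_zero Subgroup.index_ne_zero_of_finite)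
    (Subgroup.index_dvd_of_le hle)).trans hi

/-- With a non-square in it, the index drops to half. -/
theorem index_le_two (h : Hyp X) (hX : IsPGroup 2 X) (hE : Nat.card (omega h) ≤ 4)
    (K : Subgroup X) (hK : ∀ x, x * x ∈ K) {c : X} (hc : c ∈ K) (hns : ∀ x, x * x ≠ c) :
    K.index ≤ 2 := by
  obtain ⟨Q, hQ, hi⟩ := squares_aux _ X rfl h hX hE
  have hle : Q ≤ K := fun y hy => by obtain ⟨x, rfl⟩ := (hQ y).mp hy; exact hK x
  have h1 := Subgroup.relIndex_mul_index hle
  have h2 : Q.relIndex K ≠ 1 := fun e => by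
    obtain ⟨x, hx⟩ := (hQ c).mp (Subgroup.relIndex_eq_one.mp e hc)
    exact hns x hx
  have h3 : Q.relIndex K ≠ 0 := Subgroup.index_ne_zero_of_finite
  have h4 : 2 * K.index ≤ Q.relIndex K * K.index :=
    Nat.mul_le_mul_right _ (by omega)
  omega

end Cfsg.Agent.TwoCentral94
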