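import Mathlib
import Cfsg.Agent.Lib.PGroupsCritical
import Cfsg.Agent.Lib.TwoCentral94
import Cfsg.Agent.Lib.FourGenCoord94
import Cfsg.Agent.Lib.SectionalFourGroup

/-!
The four generator theorem: in a finite 2-group whose normal elementary abelian subgroups have order
at most 4, every subgroup modulo its squares has order at most 16.
-/

set_option autoImplicit false
set_option linter.unusedSectionVars false
set_option linter.unusedVariables false
set_option linter.style.haveILetI false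

open Subgroup

namespace Cfsg.Agent.FourGenerator94

open FourGenCoord94

variable {P : Type*} [Group P]

/-! ### Counting cosets -/

theorem index_le_ncard {H : Subgroup P} {α : Type*} (φ : P → α) (S : Set α) [Finite S]
    (hS : ∀ g, φ g ∈ S) (hinj : ∀ g h, φ g = φ h → g⁻¹ * h ∈ H) : H.index ≤ S.ncard := by
  rw [Subgroup.index_eq_card, ← Nat.card_coe_set_eq]
  refine Nat.card_le_card_of_injective (fun q : P ⧸ H => (⟨φ q.out, hS _⟩ : S)) fun q q' h => ?_
  rw [← q.out_eq, ← q'.out_eq]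
  exact QuotientGroup.eq.mpr (hinj _ _ (congrArg Subtype.val h))

theorem surj_of_index {H : Subgroup P} [Finite P] {α : Type*} (φ : P → α) (S : Set α) [Finite S]
    (hS : ∀ g, φ g ∈ S) (hinj : ∀ g h, φ g = φ h → g⁻¹ * h ∈ H) (hc : S.ncard ≤ H.index) :
    ∀ s ∈ S, ∃ g, φ g = s := by
  intro s hs
  let f : P ⧸ H → S := fun q => ⟨φ q.out, hS _⟩
  have hf : Function.Injective f := fun q q' h => by
    rw [← q.out_eq, ← q'.out_eq]
    exact QuotientGroup.eq.mpr (hinj _ _ (congrArg Subtype.val h))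
  have hb : Function.Bijective f := by
    refine hf.bijective_of_nat_card_le ?_
    rw [Nat.card_coe_set_eq, ← Subgroup.index_eq_card]; exact hc
  obtain ⟨q, hq⟩ := hb.2 ⟨s, hs⟩
  exact ⟨q.out, congrArg Subtype.val hq⟩

/-! ### The maximal normal abelian subgroup of exponent 4 -/

/-- The normal abelian subgroup and the hypothesis of the theorem. -/
structure Setup (P : Type*) [Group P] where
  M : Subgroup P
  normal : M.Normal
  comm : ∀ a ∈ M, ∀ b ∈ M, a * b = b * a
  expFour : ∀ m ∈ M, m ^ 4 = 1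
  alperin : ∀ x ∈ centralizer (M : Set P), x ^ 4 = 1 → x ∈ M
  hP : IsPGroup 2 P
  small : ∀ A : Subgroup P, A.Normal → (∀ a ∈ A, ∀ b ∈ A, a * b = b * a) → (∀ a ∈ A, a * a = 1) →
    Nat.card A ≤ 4

theorem exists_setup [Finite P] (hP : IsPGroup 2 P)
    (h : ∀ A : Subgroup P, A.Normal → IsMulCommutative A → (∀ a ∈ A, a ^ 2 = 1) → Nat.card A ≤ 4) :
    Nonempty (Setup P) := by
  haveI := Fact.mk Nat.prime_two
  obtain ⟨M, ⟨hn, hc, he⟩, hmax⟩ := Set.Finite.exists_maximal
    (Set.toFinite {M : Subgroup P | M.Normal ∧ IsMulCommutative M ∧ ∀ m ∈ M, m ^ 2 ^ 2 = 1})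
    ⟨⊥, inferInstance, ⟨⟨fun a b => Subsingleton.elim _ _⟩⟩, fun m hm => by rw [mem_bot.mp hm, one_pow]⟩
  haveI := hn
  refine ⟨⟨M, hn, fun a ha b hb => congrArg Subtype.val (hc.is_comm.comm ⟨a, ha⟩ ⟨b, hb⟩),
    fun m hm => by simpa using he m hm, fun x hx hx4 => ?_, hP, fun A hA hAc hA2 =>
      h A hA ⟨⟨fun a b => Subtype.ext (hAc a a.2 b b.2)⟩⟩ fun a ha => by rw [sq]; exact hA2 a ha⟩⟩
  refine PGroupsCritical.mem_of_maximal_exponent hP 2 (by norm_num) M hc he
    (fun B hB hBc hBe hle => le_antisymm (hmax ⟨hB, hBc, hBe⟩ hle) hle) hx (by simpa using hx4)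

variable (s : Setup P)

/-- The centraliser of `M`. -/
def Setup.C : Subgroup P := centralizer (s.M : Set P)

/-- The involutions of `M`. -/
def Setup.W : Subgroup P where
  carrier := {m | m ∈ s.M ∧ m * m = 1}
  one_mem' := ⟨one_mem _, one_mul 1⟩
  mul_mem' {x y} hx hy := ⟨mul_mem hx.1 hy.1, by
    calc x * y * (x * y) = x * (y * x) * y := by group
      _ = x * x * (y * y) := by rw [s.comm y hy.1 x hx.1]; group
      _ = 1 := by rw [hx.2, hy.2, one_mul]⟩
  inv_mem' {x} hx := ⟨inv_mem hx.1, by rw [← mul_inv_rev, hx.2, inv_one]⟩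

theorem mem_W {x : P} : x ∈ s.W ↔ x ∈ s.M ∧ x * x = 1 := Iff.rfl

theorem mem_C {x : P} : x ∈ s.C ↔ ∀ m ∈ s.M, m * x = x * m := mem_centralizer_iff

theorem M_le_C : s.M ≤ s.C := fun m hm => (mem_C s).mpr fun m' hm' => s.comm m' hm' m hm

theorem conj_M {m : P} (hm : m ∈ s.M) (g : P) : g * m * g⁻¹ ∈ s.M := s.normal.conj_mem m hm g

theorem conj_W {m : P} (hm : m ∈ s.W) (g : P) : g * m * g⁻¹ ∈ s.W :=
  ⟨conj_M s hm.1 g, by
    calc g * m * g⁻¹ * (g * m * g⁻¹) = g * (m * m) * g⁻¹ := by group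
      _ = 1 := by rw [hm.2]; group⟩

theorem sq_mem_W {m : P} (hm : m ∈ s.M) : m * m ∈ s.W :=
  ⟨mul_mem hm hm, by rw [← TwoCentral94.pow_four]; exact s.expFour m hm⟩

theorem W_inv {w : P} (hw : w ∈ s.W) : w⁻¹ = w := inv_eq_of_mul_eq_one_right hw.2

variable [Finite P]

theorem card_W_le : Nat.card s.W ≤ 4 :=
  s.small s.W ⟨fun m hm g => conj_W s hm g⟩ (fun a ha b hb => s.comm a ha.1 b hb.1) fun a ha => ha.2

theorem hyp_of_le {D : Subgroup P} (hD : D ≤ s.C) : TwoCentral94.Hyp D := by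
  intro x hx
  have hM : (x : P) ∈ s.M := s.alperin x (hD x.2) (by simpa using congrArg Subtype.val hx)
  exact mem_center_iff.mpr fun y => Subtype.ext ((mem_C s).mp (hD y.2) x hM).symm

theorem card_omega_le {D : Subgroup P} (hD : D ≤ s.C) :
    Nat.card (TwoCentral94.omega (hyp_of_le s hD)) ≤ Nat.card s.W := by
  refine Nat.card_le_card_of_injective (fun x => (⟨((x : D) : P),
    s.alperin _ (hD (x : D).2) (TwoCentral94.four_of_two ?_), ?_⟩ : s.W))
    fun x y h => Subtype.ext (Subtype.ext (congrArg (fun z : s.W => (z : P)) h))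
  · simpa using congrArg Subtype.val x.2
  · simpa using congrArg Subtype.val x.2

/-! ### Inside a subgroup -/

variable {U : Subgroup P} {K : Subgroup U} (hK : ∀ u : U, u * u ∈ K)

include hK in
theorem K_normal : K.Normal := ⟨fun k hk u => by
  have h : u * k * u⁻¹ = (u * k * (u * k)) * k⁻¹ * (u * u)⁻¹ := by group
  rw [h]
  exact mul_mem (mul_mem (hK _) (inv_mem hk)) (inv_mem (hK u))⟩

include hK in
theorem comm_mem_K (u v : U) : u * v * u⁻¹ * v⁻¹ ∈ K := by
  have h : u * v * u⁻¹ * v⁻¹ = (u * u) * ((u⁻¹ * v) * (u⁻¹ * v)) * (v * v)⁻¹ := by group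
  rw [h]
  exact mul_mem (mul_mem (hK u) (hK _)) (inv_mem (hK v))

theorem subgroupOf_C_normal : (s.C.subgroupOf U).Normal := by
  haveI := s.normal
  haveI : s.C.Normal := inferInstanceAs (centralizer (s.M : Set P)).Normal
  exact inferInstance

/-- `C ∩ U`. -/
def CU (U : Subgroup P) : Subgroup U := s.C.subgroupOf U

theorem hyp_CU : TwoCentral94.Hyp (CU s U) := by
  intro x hx
  have hM : ((x : U) : P) ∈ s.M := s.alperin _ x.2 (by
    simpa using congrArg (fun z : CU s U => ((z : U) : P)) hx)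
  exact mem_center_iff.mpr fun y => Subtype.ext (Subtype.ext ((mem_C s).mp y.2 _ hM).symm)

theorem pgroup_CU : IsPGroup 2 (CU s U) := (s.hP.to_subgroup U).to_subgroup _

theorem card_omega_CU : Nat.card (TwoCentral94.omega (hyp_CU s (U := U))) ≤ Nat.card s.W := by
  refine Nat.card_le_card_of_injective (fun x => (⟨(((x : CU s U) : U) : P),
    s.alperin _ (x : CU s U).2 (TwoCentral94.four_of_two ?_), ?_⟩ : s.W))
    fun x y h => Subtype.ext (Subtype.ext (Subtype.ext (congrArg (fun z : s.W => (z : P)) h)))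
  · simpa using congrArg (fun z : CU s U => ((z : U) : P)) x.2
  · simpa using congrArg (fun z : CU s U => ((z : U) : P)) x.2

include hK in
theorem relIndex_CU_le : K.relIndex (CU s U) ≤ Nat.card s.W :=
  (TwoCentral94.index_le_of_squares (hyp_CU s) (pgroup_CU s)
    ((card_omega_CU s).trans (card_W_le s)) (K.subgroupOf (CU s U)) fun x =>
      show ((x * x : CU s U) : U) ∈ K from hK (x : U)).trans (card_omega_CU s)

include hK in
theorem relIndex_CU_le_two {k : U} (hkC : ((k : P) * k) ∈ s.C)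
    (hns : ∀ d ∈ s.C, d * d ≠ (k : P) * k) : K.relIndex (CU s U) ≤ 2 :=
  TwoCentral94.index_le_two (hyp_CU s) (pgroup_CU s)
    ((card_omega_CU s).trans (card_W_le s)) (K.subgroupOf (CU s U))
    (fun x => show ((x * x : CU s U) : U) ∈ K from hK (x : U))
    (c := ⟨k * k, hkC⟩) (show k * k ∈ K from hK k)
    fun x e => hns _ x.2 (congrArg (fun z : CU s U => ((z : U) : P)) e)

include hK in
theorem index_K : K.index = K.relIndex (CU s U) * (CU s U ⊔ K).index := by
  haveI := K_normal hK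
  rw [← Subgroup.relIndex_sup_right (H := CU s U) (K := K),
    Subgroup.relIndex_mul_index le_sup_right]

theorem sup_index_le : (CU s U ⊔ K).index ≤ (CU s U).index :=
  Nat.le_of_dvd (Nat.pos_of_ne_zero Subgroup.index_ne_zero_of_finite)
    (Subgroup.index_dvd_of_le le_sup_left)

theorem sup_index_half (h : ¬ K ≤ CU s U) : 2 * (CU s U ⊔ K).index ≤ (CU s U).index := by
  rw [← Subgroup.relIndex_mul_index (le_sup_left : CU s U ≤ CU s U ⊔ K)]
  refine Nat.mul_le_mul_right _ ?_
  have h1 : (CU s U).relIndex (CU s U ⊔ K) ≠ 1 := fun e =>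
    h (le_sup_right.trans (Subgroup.relIndex_eq_one.mp e))
  have h2 : (CU s U).relIndex (CU s U ⊔ K) ≠ 0 := Subgroup.index_ne_zero_of_finite
  omega

/-! ### A basis adapted to the action -/

/-- Elements `a`, `b` of order 4 whose squares form a basis of `W`, the first square being central. -/
structure Frame (s : Setup P) where
  a : P
  b : P
  ha : a ∈ s.M
  hb : b ∈ s.M
  ne1 : a * a ≠ 1
  ne2 : b * b ≠ 1
  ne : a * a ≠ b * b
  central : ∀ g : P, g * (a * a) * g⁻¹ = a * a

variable {s} (f : Frame s)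

theorem zmod_two : ∀ x : ZMod 2, x = 0 ∨ x = 1 := by decide

/-- The element of `W` with given coordinates. -/
def Frame.wv (v : V) : P := (f.a * f.a) ^ v.1.val * (f.b * f.b) ^ v.2.val

theorem e1_mem : f.a * f.a ∈ s.W := sq_mem_W s f.ha

theorem e2_mem : f.b * f.b ∈ s.W := sq_mem_W s f.hb

theorem wv_mem (v : V) : f.wv v ∈ s.W := mul_mem (pow_mem (e1_mem f) _) (pow_mem (e2_mem f) _)

theorem wv00 : f.wv (0, 0) = 1 := by simp [Frame.wv]

theorem wv10 : f.wv (1, 0) = f.a * f.a := by simp [Frame.wv, ZMod.val_one]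

theorem wv01 : f.wv (0, 1) = f.b * f.b := by simp [Frame.wv, ZMod.val_one]

theorem wv11 : f.wv (1, 1) = f.a * f.a * (f.b * f.b) := by simp [Frame.wv, ZMod.val_one]

theorem wv_zero : f.wv 0 = 1 := wv00 f

theorem W_comm {x y : P} (hx : x ∈ s.W) (hy : y ∈ s.W) : x * y = y * x := s.comm x hx.1 y hy.1

theorem wv_add (v w : V) : f.wv (v + w) = f.wv v * f.wv w := by
  have hp : ∀ e : P, e * e = 1 → ∀ x y : ZMod 2, e ^ (x + y).val = e ^ x.val * e ^ y.val := by
    intro e he x y
    rcases zmod_two x with rfl | rfl <;> rcases zmod_two y with rfl | rfl <;>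
      simp [ZMod.val_one, show (1 + 1 : ZMod 2) = 0 from rfl, he]
  simp only [Frame.wv, Prod.fst_add, Prod.snd_add, hp _ (e1_mem f).2, hp _ (e2_mem f).2]
  have h := W_comm (pow_mem (e1_mem f) w.1.val) (pow_mem (e2_mem f) v.2.val)
  calc _ = (f.a * f.a) ^ v.1.val * ((f.a * f.a) ^ w.1.val * (f.b * f.b) ^ v.2.val) *
        (f.b * f.b) ^ w.2.val := by group
    _ = _ := by rw [h]; group

theorem wv_inj : Function.Injective f.wv := by
  have key : ∀ v, f.wv v = 1 → v = 0 := by
    rintro ⟨x, y⟩ h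
    rcases zmod_two x with rfl | rfl <;> rcases zmod_two y with rfl | rfl
    · rfl
    · rw [wv01] at h; exact absurd h f.ne2
    · rw [wv10] at h; exact absurd h f.ne1
    · rw [wv11] at h
      refine absurd ?_ f.ne
      rw [mul_eq_one_iff_eq_inv, W_inv s (e2_mem f)] at h
      exact h
  intro v w h
  have h1 := key (v + w) (by rw [wv_add, h]; exact (wv_mem f w).2)
  have h2 : ∀ v w : V, v + w = 0 → v = w := by decide
  exact h2 v w h1

theorem wv_surj {w : P} (hw : w ∈ s.W) : ∃ v, f.wv v = w := by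
  have hb : Function.Bijective (fun v : V => (⟨f.wv v, wv_mem f v⟩ : s.W)) := by
    refine Function.Injective.bijective_of_nat_card_le
      (fun v w h => wv_inj f (congrArg Subtype.val h)) ?_
    exact (card_W_le s).trans (by simp [Nat.card_eq_fintype_card, V])
  obtain ⟨v, hv⟩ := hb.2 ⟨w, hw⟩
  exact ⟨v, congrArg Subtype.val hv⟩

/-- Coordinates. -/
noncomputable def Frame.co (w : P) : V := Function.invFun f.wv w

theorem co_wv (v : V) : f.co (f.wv v) = v := Function.leftInverse_invFun (wv_inj f) v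

theorem wv_co {w : P} (hw : w ∈ s.W) : f.wv (f.co w) = w := by
  obtain ⟨v, rfl⟩ := wv_surj f hw
  rw [co_wv]

/-- The elements fixing `W`. -/
def Frame.J : Subgroup P := centralizer ({f.b * f.b} : Set P)

theorem mem_J {g : P} : g ∈ f.J ↔ g * (f.b * f.b) * g⁻¹ = f.b * f.b := by
  rw [Frame.J, mem_centralizer_iff, mul_inv_eq_iff_eq_mul]
  simp only [Set.mem_singleton_iff, forall_eq]
  exact eq_comm

theorem fix_wv {g : P} (hg : g ∈ f.J) (v : V) : g * f.wv v * g⁻¹ = f.wv v := by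
  rw [Frame.wv, ← conj_mul, ← conj_pow, ← conj_pow, f.central g, (mem_J f).mp hg]

theorem fix_W {g w : P} (hg : g ∈ f.J) (hw : w ∈ s.W) : g * w * g⁻¹ = w := by
  rw [← wv_co f hw, fix_wv f hg]

theorem C_le_J : s.C ≤ f.J := fun g hg =>
  (mem_J f).mpr (by rw [← (mem_C s).mp hg _ (e2_mem f).1, mul_inv_cancel_right])

theorem moved {g : P} (hg : g ∉ f.J) : g * (f.b * f.b) * g⁻¹ = f.a * f.a * (f.b * f.b) := by
  obtain ⟨⟨x, y⟩, hv⟩ := wv_surj f (conj_W s (e2_mem f) g)
  rcases zmod_two x with rfl | rfl <;> rcases zmod_two y with rfl | rfl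
  · rw [wv00] at hv
    refine absurd ?_ f.ne2
    have := congrArg (fun z => g⁻¹ * z * g) hv
    simpa [mul_assoc] using this.symm
  · rw [wv01] at hv; exact absurd ((mem_J f).mpr hv.symm) hg
  · rw [wv10] at hv
    refine absurd ?_ f.ne
    rw [← f.central g] at hv
    exact mul_left_cancel (mul_right_cancel hv)
  · rw [wv11] at hv; exact hv.symm

theorem tau_wv {g : P} (hg : g ∉ f.J) (v : V) : g * f.wv v * g⁻¹ = f.wv (tau v) := by
  obtain ⟨x, y⟩ := v
  have h : f.wv (x, y) = (f.a * f.a) ^ x.val * (f.b * f.b) ^ y.val := rfl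
  rw [h, ← conj_mul, ← conj_pow, ← conj_pow, f.central g, moved f hg]
  rcases zmod_two x with rfl | rfl <;> rcases zmod_two y with rfl | rfl <;>
    simp [Frame.wv, tau, ZMod.val_one, show (1 + 1 : ZMod 2) = 0 from rfl, ← mul_assoc,
      (show f.a * f.a * f.a * f.a = 1 by rw [mul_assoc]; exact (e1_mem f).2)]

theorem J_conj {x : P} (hx : x ∈ f.J) (g : P) : g * x * g⁻¹ ∈ f.J := by
  rw [mem_J]
  have h := fix_W f hx (conj_W s (e2_mem f) g⁻¹)
  calc g * x * g⁻¹ * (f.b * f.b) * (g * x * g⁻¹)⁻¹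
      = g * (x * (g⁻¹ * (f.b * f.b) * g⁻¹⁻¹) * x⁻¹) * g⁻¹ := by group
    _ = _ := by rw [h]; group

/-- The commutator with an element of `M`. -/
def del (g m : P) : P := g * m * g⁻¹ * m⁻¹

theorem del_mem {g m : P} (hg : g ∈ f.J) (hm : m ∈ s.M) : del g m ∈ s.W := by
  refine ⟨mul_mem (conj_M s hm g) (inv_mem hm), ?_⟩
  have hc := s.comm m⁻¹ (inv_mem hm) _ (conj_M s hm g)
  have hf := fix_W f hg (sq_mem_W s hm)
  calc del g m * del g m = g * m * g⁻¹ * (m⁻¹ * (g * m * g⁻¹)) * m⁻¹ := by unfold del; group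
    _ = g * (m * m) * g⁻¹ * (m * m)⁻¹ := by rw [hc]; group
    _ = 1 := by rw [hf, mul_inv_cancel]

theorem del_mul {g m n : P} (hm : m ∈ s.M) (hn : n ∈ s.M) :
    del g (m * n) = del g m * del g n := by
  have hc := s.comm m⁻¹ (inv_mem hm) (g * n * g⁻¹ * n⁻¹) (mul_mem (conj_M s hn g) (inv_mem hn))
  calc del g (m * n) = g * m * g⁻¹ * (g * n * g⁻¹ * n⁻¹ * m⁻¹) := by unfold del; group
    _ = g * m * g⁻¹ * (m⁻¹ * (g * n * g⁻¹ * n⁻¹)) := by rw [hc]
    _ = _ := by unfold del; group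

theorem del_W {g w : P} (hg : g ∈ f.J) (hw : w ∈ s.W) : del g w = 1 := by
  unfold del; rw [fix_W f hg hw, mul_inv_cancel]

/-- The endomorphism of `W` induced by an element fixing `W`. -/
noncomputable def Frame.j (g : P) : Mat := (f.co (del g f.a), f.co (del g f.b))

theorem ap_eq : ∀ (X : Mat), ap X (0, 0) = 0 ∧ ap X (1, 0) = X.1 ∧ ap X (0, 1) = X.2 ∧
    ap X (1, 1) = X.1 + X.2 := by decide

theorem del_eq {g m : P} (hg : g ∈ f.J) (hm : m ∈ s.M) :
    del g m = f.wv (ap (f.j g) (f.co (m * m))) := by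
  set v := f.co (m * m) with hv
  set u := f.a ^ v.1.val * f.b ^ v.2.val with hu
  have huM : u ∈ s.M := mul_mem (pow_mem f.ha _) (pow_mem f.hb _)
  have hsq : u * u = f.wv v := by
    have hc := s.comm (f.b ^ v.2.val) (pow_mem f.hb _) (f.a ^ v.1.val) (pow_mem f.ha _)
    calc u * u = f.a ^ v.1.val * (f.b ^ v.2.val * f.a ^ v.1.val) * f.b ^ v.2.val := by
          rw [hu]; group
      _ = f.a ^ v.1.val * f.a ^ v.1.val * (f.b ^ v.2.val * f.b ^ v.2.val) := by rw [hc]; group
      _ = _ := by rw [← pow_add, ← pow_add, ← two_mul, ← two_mul, pow_mul, pow_mul, pow_two, pow_two]; rfl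
  have hw : u⁻¹ * m ∈ s.W := by
    refine ⟨mul_mem (inv_mem huM) hm, ?_⟩
    have hc := s.comm m hm u⁻¹ (inv_mem huM)
    calc u⁻¹ * m * (u⁻¹ * m) = u⁻¹ * (m * u⁻¹) * m := by group
      _ = (u * u)⁻¹ * (m * m) := by rw [hc]; group
      _ = 1 := by rw [hsq, hv, wv_co f (sq_mem_W s hm), inv_mul_cancel]
  have h1 : del g m = del g u := by
    rw [show m = u * (u⁻¹ * m) by group, del_mul huM hw.1, del_W f hg hw, mul_one]
  obtain ⟨a0, a1, a2, a3⟩ := ap_eq (f.j g)
  have ja := wv_co f (del_mem f hg f.ha)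
  have jb := wv_co f (del_mem f hg f.hb)
  rw [h1, hu]
  rcases zmod_two v.1 with e1 | e1 <;> rcases zmod_two v.2 with e2 | e2 <;>
    rw [show v = (v.1, v.2) from rfl, e1, e2]
  · rw [a0, wv_zero]; simp [del]
  · rw [a2]; simpa [ZMod.val_one, Frame.j] using jb.symm
  · rw [a1]; simpa [ZMod.val_one, Frame.j] using ja.symm
  · rw [a3, wv_add]
    simp only [ZMod.val_one, pow_one]
    rw [del_mul f.ha f.hb]
    simp [Frame.j, ja, jb]

theorem j_mul {x y : P} (hx : x ∈ f.J) (hy : y ∈ f.J) : f.j (x * y) = f.j x + f.j y := by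
  have key : ∀ m ∈ s.M, f.co (del (x * y) m) = f.co (del x m) + f.co (del y m) := by
    intro m hm
    have hd := del_mem f hy hm
    have h : del (x * y) m = del x m * del y m := by
      calc del (x * y) m = x * (del y m) * x⁻¹ * del x m := by unfold del; group
        _ = del y m * del x m := by rw [fix_W f hx hd]
        _ = _ := W_comm hd (del_mem f hx hm)
    apply wv_inj f
    rw [wv_add, wv_co f (del_mem f hx hm), wv_co f hd, wv_co f (del_mem f (mul_mem hx hy) hm), h]
  exact Prod.ext (key _ f.ha) (key _ f.hb)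

theorem j_C {x : P} (hx : x ∈ s.C) : f.j x = 0 := by
  have h0 : ∀ m ∈ s.M, f.co (del x m) = 0 := fun m hm => by
    have : del x m = f.wv 0 := by
      rw [wv_zero]; unfold del
      rw [← (mem_C s).mp hx m hm, mul_inv_cancel_right, mul_inv_cancel]
    rw [this, co_wv]
  exact Prod.ext (h0 _ f.ha) (h0 _ f.hb)

theorem C_of_j {x : P} (hx : x ∈ f.J) (h : f.j x = 0) : x ∈ s.C :=
  (mem_C s).mpr fun m hm => by
    have h1 := del_eq f hx hm
    rw [h, show ap (0 : Mat) (f.co (m * m)) = 0 by simp [ap], wv_zero] at h1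
    rw [del, mul_inv_eq_one, mul_inv_eq_iff_eq_mul] at h1
    exact h1.symm

theorem mat_add_self : ∀ X : Mat, X + X = 0 := by decide

theorem j_one : f.j 1 = 0 := j_C f (one_mem _)

theorem j_inv {x : P} (hx : x ∈ f.J) : f.j x⁻¹ = f.j x := by
  have h := j_mul f hx (inv_mem hx)
  rw [mul_inv_cancel, j_one] at h
  have h2 : ∀ A B : Mat, 0 = A + B → B = A := by decide
  exact h2 _ _ h

theorem j_conj_J {g x : P} (hg : g ∈ f.J) (hx : x ∈ f.J) : f.j (g * x * g⁻¹) = f.j x := by
  rw [j_mul f (mul_mem hg hx) (inv_mem hg), j_mul f hg hx, j_inv f hg]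
  have h : ∀ A B : Mat, A + B + A = B := by decide
  exact h _ _

theorem j_conj_T {g x : P} (hg : g ∉ f.J) (hx : x ∈ f.J) :
    f.j (g * x * g⁻¹) = conjT (f.j x) := by
  have hg' : g⁻¹ ∉ f.J := fun h => hg (by simpa using inv_mem h)
  have key : ∀ m ∈ s.M,
      f.co (del (g * x * g⁻¹) m) = tau (ap (f.j x) (tau (f.co (m * m)))) := by
    intro m hm
    have hm' : g⁻¹ * m * g ∈ s.M := by simpa using conj_M s hm g⁻¹
    have h1 : del (g * x * g⁻¹) m = g * del x (g⁻¹ * m * g) * g⁻¹ := by unfold del; group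
    have h2 : f.co (g⁻¹ * m * g * (g⁻¹ * m * g)) = tau (f.co (m * m)) := by
      rw [show g⁻¹ * m * g * (g⁻¹ * m * g) = g⁻¹ * (m * m) * g⁻¹⁻¹ by group,
        ← wv_co f (sq_mem_W s hm), tau_wv f hg', co_wv, co_wv]
    rw [h1, del_eq f hx hm', h2, tau_wv f hg, co_wv]
  refine Prod.ext ?_ ?_
  · show f.co (del _ f.a) = _
    rw [key _ f.ha, ← wv10 f, co_wv, show tau ((1, 0) : V) = (1, 0) by decide, (ap_eq _).2.1]
    rfl
  · show f.co (del _ f.b) = _
    rw [key _ f.hb, ← wv01 f, co_wv, show tau ((0, 1) : V) = (1, 1) by decide, (ap_eq _).2.2.2]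
    rfl

theorem sq_mem_C {k : P} (hk : k ∈ f.J) : k * k ∈ s.C :=
  C_of_j f (mul_mem hk hk) (by rw [j_mul f hk hk, mat_add_self])

/-! ### Elements with a good image -/

theorem inverted {u y : P} (hu : u ∈ f.J) (hg : Good (f.j u)) (hy : y ∈ s.C)
    (h : u * y * u⁻¹ = y⁻¹) : y * y = 1 := by
  obtain ⟨k, hk⟩ := s.hP y
  induction k generalizing y with
  | zero => rw [pow_zero, pow_one] at hk; rw [hk, one_mul]
  | succ k ih =>
    have h4 : y ^ 4 = 1 := by
      rw [TwoCentral94.pow_four]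
      refine ih (mul_mem hy hy) ?_ ?_
      · calc u * (y * y) * u⁻¹ = u * y * u⁻¹ * (u * y * u⁻¹) := by group
          _ = _ := by rw [h, mul_inv_rev]
      · rw [← pow_two, ← pow_mul, ← pow_succ']; exact hk
    have hM := s.alperin y hy h4
    have hd : del u y = y * y := by
      rw [del, h, ← mul_inv_rev]; exact W_inv s (sq_mem_W s hM)
    have h1 := del_eq f hu hM
    rw [hd] at h1
    have h2 := congrArg f.co h1
    rw [co_wv] at h2
    have h3 := hg.2 _ h2.symm
    rw [← wv_co f (sq_mem_W s hM), h3, wv_zero]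

theorem fixed_elt {k c : P} (hk : k ∈ f.J) (hF : Fpf (f.j k)) (hc : c ∈ s.C)
    (h : k * c * k⁻¹ = c) : c * c = 1 := by
  obtain ⟨n, hn⟩ := s.hP c
  induction n generalizing c with
  | zero => rw [pow_zero, pow_one] at hn; rw [hn, one_mul]
  | succ n ih =>
    have h4 : c ^ 4 = 1 := by
      rw [TwoCentral94.pow_four]
      refine ih (mul_mem hc hc) ?_ ?_
      · calc k * (c * c) * k⁻¹ = k * c * k⁻¹ * (k * c * k⁻¹) := by group
          _ = _ := by rw [h]
      · rw [← pow_two, ← pow_mul, ← pow_succ']; exact hn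
    have hM := s.alperin c hc h4
    have h1 := del_eq f hk hM
    rw [del, h, mul_inv_cancel] at h1
    have h2 := congrArg f.co h1
    rw [co_wv, ← wv_zero f, co_wv] at h2
    rw [← wv_co f (sq_mem_W s hM), hF.2 _ h2.symm, wv_zero]

/-- The image is fixed by conjugation. -/
def Frame.Central (X : Mat) : Prop := ∀ g : P, g ∉ f.J → conjT X = X

theorem central_conj {X : Mat} (hX : f.Central X) {k : P} (hk : k ∈ f.J) (hj : f.j k = X) (g : P) :
    f.j (g * k * g⁻¹) = X := by
  by_cases hg : g ∈ f.J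
  · rw [j_conj_J f hg hk, hj]
  · rw [j_conj_T f hg hk, hj, hX g hg]

theorem no_involution {u : P} (hu : u ∈ f.J) (hg : Good (f.j u)) (hc : f.Central (f.j u)) :
    u * u ≠ 1 := by
  intro h2
  have hinv : u⁻¹ = u := inv_eq_of_mul_eq_one_right h2
  have hfix : ∀ w ∈ s.W, u * w = w * u := fun w hw => by
    have := fix_W f hu hw
    rwa [mul_inv_eq_iff_eq_mul] at this
  let E : Subgroup P :=
    { carrier := {x | x ∈ s.W ∨ u * x ∈ s.W}
      one_mem' := Or.inl (one_mem _)
      mul_mem' := by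
        rintro x y (hx | hx) (hy | hy)
        · exact Or.inl (mul_mem hx hy)
        · refine Or.inr ?_
          rw [show u * (x * y) = x * (u * y) by rw [← mul_assoc, hfix x hx, mul_assoc]]
          exact mul_mem hx hy
        · refine Or.inr ?_
          rw [← mul_assoc]; exact mul_mem hx hy
        · refine Or.inl ?_
          have e : x * y = (u * x) * (u * y) := by
            have h1 := hfix _ hx
            calc x * y = u⁻¹ * (u * x) * y := by group
              _ = (u * x) * u * y := by rw [hinv, h1]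
              _ = _ := by group
          rw [e]; exact mul_mem hx hy
      inv_mem' := by
        rintro x (hx | hx)
        · exact Or.inl (inv_mem hx)
        · refine Or.inr ?_
          have h1 : u * x⁻¹ = u * (u * x)⁻¹ * u := by group
          rw [h1, hfix _ (inv_mem hx), mul_assoc, h2, mul_one]
          exact inv_mem hx }
  have hmem : ∀ x, x ∈ E ↔ x ∈ s.W ∨ u * x ∈ s.W := fun x => Iff.rfl
  have hE2 : ∀ x ∈ E, x * x = 1 := by
    intro x hx
    rcases (hmem x).mp hx with hx | hx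
    · exact hx.2
    · have h1 := hfix _ hx
      calc x * x = u⁻¹ * (u * x) * (u⁻¹ * (u * x)) := by group
        _ = u * ((u * x) * u) * (u * x) := by rw [hinv]; group
        _ = u * (u * (u * x)) * (u * x) := by rw [h1]
        _ = (u * u) * ((u * x) * (u * x)) := by group
        _ = 1 := by rw [h2, hx.2, mul_one]
  have hEn : E.Normal := ⟨fun x hx g => by
    rcases (hmem x).mp hx with hx | hx
    · exact Or.inl (conj_W s hx g)
    · refine Or.inr ?_
      have hgu : g * u * g⁻¹ * (g * u * g⁻¹) = 1 := by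
        rw [show g * u * g⁻¹ * (g * u * g⁻¹) = g * (u * u) * g⁻¹ by group, h2, mul_one,
          mul_inv_cancel]
      have hy : u * (g * u * g⁻¹) ∈ s.C := C_of_j f (mul_mem hu (J_conj f hu g)) (by
        rw [j_mul f hu (J_conj f hu g), central_conj f hc hu rfl g, mat_add_self])
      have hyy : u * (u * (g * u * g⁻¹)) * u⁻¹ = (u * (g * u * g⁻¹))⁻¹ := by
        rw [mul_inv_rev, inv_eq_of_mul_eq_one_right hgu, ← mul_assoc u u, h2, one_mul]
      have hy2 := inverted f hu hg hy hyy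
      have hyW : u * (g * u * g⁻¹) ∈ s.W := ⟨s.alperin _ hy (TwoCentral94.four_of_two hy2), hy2⟩
      have e : u * (g * x * g⁻¹) = u * (g * u * g⁻¹) * (g * (u * x) * g⁻¹) := by
        have e1 : g * (u * x) * g⁻¹ = g * u * g⁻¹ * (g * x * g⁻¹) := by group
        calc u * (g * x * g⁻¹) = u * (g * u * g⁻¹ * (g * u * g⁻¹)) * (g * x * g⁻¹) := by rw [hgu, mul_one]
          _ = _ := by rw [e1]; group
      rw [e]; exact mul_mem hyW (conj_W s hx g)⟩
  have hc' : ∀ a ∈ E, ∀ b ∈ E, a * b = b * a := fun a ha b hb => by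
    have h1 := hE2 (a * b) (mul_mem ha hb)
    have h3 := inv_eq_of_mul_eq_one_right h1
    rw [mul_inv_rev, inv_eq_of_mul_eq_one_right (hE2 a ha),
      inv_eq_of_mul_eq_one_right (hE2 b hb)] at h3
    exact h3.symm
  have hcard := s.small E hEn hc' hE2
  have huC : u ∉ s.W := fun h => hg.1 (j_C f (M_le_C s h.1))
  let φ : Fin 2 × V → E := fun p => if p.1 = 0 then ⟨f.wv p.2, Or.inl (wv_mem f _)⟩
    else ⟨u * f.wv p.2, Or.inr (by rw [← mul_assoc, h2, one_mul]; exact wv_mem f _)⟩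
  have hφ : Function.Injective φ := by
    rintro ⟨i, v⟩ ⟨i', v'⟩ e
    fin_cases i <;> fin_cases i' <;> simp [φ] at e
    · simp [wv_inj f e]
    · refine absurd ?_ huC
      have : u = f.wv v * (f.wv v')⁻¹ := by rw [e]; group
      rw [this]; exact mul_mem (wv_mem f _) (inv_mem (wv_mem f _))
    · refine absurd ?_ huC
      have : u = f.wv v' * (f.wv v)⁻¹ := by rw [← e]; group
      rw [this]; exact mul_mem (wv_mem f _) (inv_mem (wv_mem f _))
    · simp [wv_inj f e]
  have := Nat.card_le_card_of_injective φ hφ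
  simp [Nat.card_eq_fintype_card, V] at this
  omega

theorem not_square {k : P} (hk : k ∈ f.J) (hg : Good (f.j k)) (hc : f.Central (f.j k))
    {d : P} (hd : d ∈ s.C) : d * d ≠ k * k := by
  intro hdd
  set e := d⁻¹ * (k * d * k⁻¹) with he
  have hde : d * e = k * d * k⁻¹ := by rw [he]; group
  have hkd : k * d * k⁻¹ ∈ s.C := by
    haveI := s.normal
    exact (inferInstance : (centralizer (s.M : Set P)).Normal).conj_mem d hd k
  have heC : e ∈ s.C := mul_mem (inv_mem hd) hkd
  have h1 : d * e * (d * e) = d * d := by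
    calc d * e * (d * e) = k * (d * d) * k⁻¹ := by rw [hde]; group
      _ = d * d := by rw [hdd]; group
  have h2 : d⁻¹ * e * d⁻¹⁻¹ = e⁻¹ := by
    rw [inv_inv, eq_inv_iff_mul_eq_one]
    calc d⁻¹ * e * d * e = d⁻¹ * (d⁻¹ * (d * e * (d * e))) := by group
      _ = 1 := by rw [h1]; group
  have he2 : e * e = 1 := by
    have := TwoCentral94.sq_eq_one_of_inverted (hyp_of_le s le_rfl) (s.hP.to_subgroup s.C)
      (d := ⟨d⁻¹, inv_mem hd⟩) (e := ⟨e, heC⟩) (Subtype.ext h2)
    simpa using congrArg Subtype.val this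
  have heW : e ∈ s.W := ⟨s.alperin e heC (TwoCentral94.four_of_two he2), he2⟩
  set y := k * d⁻¹ with hy
  have hyJ : y ∈ f.J := mul_mem hk (C_le_J f (inv_mem hd))
  have hjy : f.j y = f.j k := by
    rw [hy, j_mul f hk (C_le_J f (inv_mem hd)), j_C f (inv_mem hd), add_zero]
  have hyy : y * y = e⁻¹ := by
    calc y * y = (k * d * k⁻¹)⁻¹ * (k * k) * d⁻¹ := by rw [hy]; group
      _ = _ := by rw [← hde, ← hdd]; group
  obtain ⟨v, hv⟩ := good_surj (f.j k) hg (f.co e⁻¹)
  set m := f.a ^ v.1.val * f.b ^ v.2.val with hm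
  have hmM : m ∈ s.M := mul_mem (pow_mem f.ha _) (pow_mem f.hb _)
  have hmm : m * m = f.wv v := by
    have hcm := s.comm (f.b ^ v.2.val) (pow_mem f.hb _) (f.a ^ v.1.val) (pow_mem f.ha _)
    calc m * m = f.a ^ v.1.val * (f.b ^ v.2.val * f.a ^ v.1.val) * f.b ^ v.2.val := by
          rw [hm]; group
      _ = f.a ^ v.1.val * f.a ^ v.1.val * (f.b ^ v.2.val * f.b ^ v.2.val) := by rw [hcm]; group
      _ = _ := by
        rw [← pow_add, ← pow_add, ← two_mul, ← two_mul, pow_mul, pow_mul, pow_two, pow_two]; rfl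
  refine no_involution f (u := y * m) (mul_mem hyJ (C_le_J f (M_le_C s hmM))) ?_ ?_ ?_
  · rw [j_mul f hyJ (C_le_J f (M_le_C s hmM)), j_C f (M_le_C s hmM), add_zero, hjy]; exact hg
  · rw [j_mul f hyJ (C_le_J f (M_le_C s hmM)), j_C f (M_le_C s hmM), add_zero, hjy]; exact hc
  · calc y * m * (y * m) = y * y * del y⁻¹ m * (m * m) := by unfold del; group
      _ = f.wv (f.co e⁻¹ + ap (f.j k) v + v) := by
        rw [hyy, del_eq f (inv_mem hyJ) hmM, j_inv f hyJ, hjy, hmm, co_wv, wv_add, wv_add,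
          wv_co f (inv_mem heW)]
      _ = 1 := by rw [hv, wv_zero]

theorem sq_eq_square (f : Frame s) {w : P} (hw : w ∈ s.W) : ∃ d ∈ s.C, d * d = w := by
  obtain ⟨⟨x, y⟩, rfl⟩ := wv_surj f hw
  refine ⟨f.a ^ x.val * f.b ^ y.val, M_le_C s (mul_mem (pow_mem f.ha _) (pow_mem f.hb _)), ?_⟩
  rcases zmod_two x with rfl | rfl <;> rcases zmod_two y with rfl | rfl
  · simp [wv00]
  · simp [wv01, ZMod.val_one]
  · simp [wv10, ZMod.val_one]
  · simp only [wv11, ZMod.val_one, pow_one]
    calc f.a * f.b * (f.a * f.b) = f.a * (f.b * f.a) * f.b := by group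
      _ = _ := by rw [s.comm _ f.hb _ f.ha]; group

theorem fpf_sq {k : P} (hk : k ∈ f.J) (hF : Fpf (f.j k)) : k * k ∈ s.W := by
  have h := fixed_elt f hk hF (sq_mem_C f hk) (by group)
  exact ⟨s.alperin _ (sq_mem_C f hk) (TwoCentral94.four_of_two h), h⟩

theorem no_central_fpf {k : P} (hk : k ∈ f.J) (hF : Fpf (f.j k)) : ¬ f.Central (f.j k) := by
  intro hc
  obtain ⟨d, hd, hdd⟩ := sq_eq_square f (fpf_sq f hk hF)
  exact not_square f hk hF.1 hc hd hdd

theorem C_le_M {k : P} (hk : k ∈ f.J) (hF : Fpf (f.j k)) {x : P} (hx : x ∈ s.C) : x ∈ s.M := by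
  have hw := fpf_sq f hk hF
  set y := x⁻¹ * (k * x * k⁻¹) with hy
  have hkx : k * x * k⁻¹ ∈ s.C := by
    haveI := s.normal
    exact (inferInstance : (centralizer (s.M : Set P)).Normal).conj_mem x hx k
  have hyC : y ∈ s.C := mul_mem (inv_mem hx) hkx
  have hy1 : k * y * k⁻¹ = y⁻¹ := by
    have h1 : k * k * x * (k * k)⁻¹ = x := by
      rw [(mem_C s).mp hx _ hw.1, mul_inv_cancel_right]
    calc k * y * k⁻¹ = (k * x * k⁻¹)⁻¹ * (k * k * x * (k * k)⁻¹) := by rw [hy]; group
      _ = _ := by rw [h1, hy]; group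
  have hy2 := inverted f hk hF.1 hyC hy1
  have hyM : y ∈ s.M := s.alperin y hyC (TwoCentral94.four_of_two hy2)
  have h1 : k * (x * x) * k⁻¹ = x * x := by
    have hxy : x * y = y * x := ((mem_C s).mp hx y hyM).symm
    calc k * (x * x) * k⁻¹ = (x * y) * (x * y) := by rw [hy]; group
      _ = x * (y * x) * y := by group
      _ = x * (x * y) * y := by rw [← hxy]
      _ = x * x * (y * y) := by group
      _ = x * x := by rw [hy2, mul_one]
  exact s.alperin x hx (by rw [TwoCentral94.pow_four]; exact fixed_elt f hk hF (mul_mem hx hx) h1)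

theorem no_nilp_fpf {k u : P} (hk : k ∈ f.J) (hN : f.j k = nilp) (hu : u ∈ f.J)
    (hF : Fpf (f.j u)) : False := by
  have hc : k * k ∈ s.M := C_le_M f hu hF (sq_mem_C f hk)
  set n := k⁻¹ * (u * k * u⁻¹) with hn
  have hnM : n ∈ s.M := by
    refine C_le_M f hu hF (C_of_j f (mul_mem (inv_mem hk) (J_conj f hk u)) ?_)
    rw [hn, j_mul f (inv_mem hk) (J_conj f hk u), j_inv f hk, j_conj_J f hu hk, mat_add_self]
  have hkn : u * k * u⁻¹ = k * n := by rw [hn]; group
  have h1 : n * (u * n * u⁻¹) = 1 := by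
    have h2 := fix_W f hk (fpf_sq f hu hF)
    have h3 : u * u * k * (u * u)⁻¹ = k := by
      have h4 : u * u * k = k * (u * u) := (mul_inv_eq_iff_eq_mul.mp h2).symm
      rw [h4, mul_inv_cancel_right]
    have h5 : u * u * k * (u * u)⁻¹ = k * n * (u * n * u⁻¹) := by
      rw [← hkn]; rw [hn]; group
    rw [h3, mul_assoc] at h5
    exact (mul_eq_left.mp h5.symm)
  have hv : f.co (n * n) = 0 := by
    have h2 : f.wv (ap (f.j u) (f.co (n * n))) * (n * n) = 1 := by
      rw [← del_eq f hu hnM]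
      calc del u n * (n * n) = u * n * u⁻¹ * n := by unfold del; group
        _ = 1 := mul_eq_one_comm.mp h1
    have h6 := congrArg f.co h2
    rw [← wv_co f (sq_mem_W s hnM), ← wv_add, co_wv, co_wv, ← wv_zero f, co_wv] at h6
    refine hF.1.2 _ ?_
    have h7 : ∀ A B : V, A + B = 0 → A = B := by decide
    exact h7 _ _ h6
  have hnW : n ∈ s.W := ⟨hnM, by rw [← wv_co f (sq_mem_W s hnM), hv, wv_zero]⟩
  have hcu : u * (k * k) * u⁻¹ = k * k := by
    have hkn2 : n * k = k * n := (mul_inv_eq_iff_eq_mul.mp (fix_W f hk hnW)).symm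
    calc u * (k * k) * u⁻¹ = (u * k * u⁻¹) * (u * k * u⁻¹) := by group
      _ = k * (n * k) * n := by rw [hkn]; group
      _ = k * k * (n * n) := by rw [hkn2]; group
      _ = k * k := by rw [hnW.2, mul_one]
  have h2 := fixed_elt f hu hF (M_le_C s hc) hcu
  obtain ⟨d, hd, hdd⟩ := sq_eq_square f (show k * k ∈ s.W from ⟨hc, h2⟩)
  exact not_square f hk (hN ▸ good_nilp) (fun g _ => by rw [hN, conjT_nilp]) hd hdd

/-! ### The bound when `M` is homocyclic of order 16 -/

/-- The images of the elements of `U` fixing `W`. -/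
def Frame.R (U : Subgroup P) : AddSubgroup Mat where
  carrier := {X | ∃ x : U, (x : P) ∈ f.J ∧ f.j x = X}
  zero_mem' := ⟨1, one_mem _, j_one f⟩
  add_mem' := by
    rintro _ _ ⟨x, hx, rfl⟩ ⟨y, hy, rfl⟩
    exact ⟨x * y, mul_mem hx hy, j_mul f hx hy⟩
  neg_mem' := by
    rintro _ ⟨x, hx, rfl⟩
    refine ⟨x, hx, ?_⟩
    have h : ∀ A : Mat, A = -A := by decide
    exact h _

/-- `J ∩ U`. -/
def Frame.JU (U : Subgroup P) : Subgroup U := f.J.subgroupOf U

theorem relIndex_JU : (CU s U).relIndex (f.JU U) = Nat.card (f.R U) := by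
  let φ : f.JU U →* Multiplicative Mat := MonoidHom.mk' (fun x => Multiplicative.ofAdd (f.j ((x : U) : P)))
    fun x y => by
      show Multiplicative.ofAdd (f.j (((x : U) : P) * ((y : U) : P))) = _
      rw [j_mul f (mem_subgroupOf.mp x.2) (mem_subgroupOf.mp y.2)]; rfl
  have hker : φ.ker = (CU s U).subgroupOf (f.JU U) := by
    ext x
    refine ⟨fun h => C_of_j f x.2 (Multiplicative.ofAdd.injective h), fun h => ?_⟩
    exact congrArg Multiplicative.ofAdd (j_C f h)
  rw [Subgroup.relIndex, ← hker, Subgroup.index_ker]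
  refine Nat.card_congr (Equiv.subtypeEquiv Multiplicative.toAdd fun X => ?_)
  constructor
  · rintro ⟨x, rfl⟩; exact ⟨(x : U), x.2, rfl⟩
  · rintro ⟨x, hx, h⟩; exact ⟨⟨x, hx⟩, h⟩

theorem index_JU_le : (f.JU U).index ≤ 2 := by
  refine (index_le_ncard (fun g : U => (g : P) * (f.b * f.b) * (g : P)⁻¹)
    {f.b * f.b, f.a * f.a * (f.b * f.b)} (fun g => ?_) fun g h e => ?_).trans
      ((Set.ncard_insert_le _ _).trans (by rw [Set.ncard_singleton]))
  · by_cases hg : (g : P) ∈ f.J
    · exact Or.inl ((mem_J f).mp hg)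
    · exact Or.inr (moved f hg)
  · refine (mem_J f).mpr ?_
    push_cast
    calc (g : P)⁻¹ * h * (f.b * f.b) * ((g : P)⁻¹ * h)⁻¹
        = (g : P)⁻¹ * ((h : P) * (f.b * f.b) * (h : P)⁻¹) * g := by group
      _ = _ := by rw [← e]; group

theorem index_CU : (CU s U).index = Nat.card (f.R U) * (f.JU U).index := by
  rw [← relIndex_JU f]
  exact (Subgroup.relIndex_mul_index (show CU s U ≤ f.JU U from fun x hx => C_le_J f hx)).symm

theorem central_of_trivial (h : ∀ g : P, g ∈ f.J) (X : Mat) : f.Central X :=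
  fun g hg => absurd (h g) hg

theorem combine {g x y : P} (hg : g ∉ f.J) (hx : x ∈ f.J) (hy : y ∈ f.J) :
    x * (g * y * g⁻¹) ∈ f.J ∧ f.j (x * (g * y * g⁻¹)) = f.j x + conjT (f.j y) :=
  ⟨mul_mem hx (J_conj f hy g), by rw [j_mul f hx (J_conj f hy g), j_conj_T f hg hy]⟩

theorem card_R_le : Nat.card (f.R U) ≤ 8 := by
  by_contra h
  have hdvd : Nat.card (f.R U) ∣ 16 := by
    rw [← card_mat]; exact AddSubgroup.card_addSubgroup_dvd_card _
  have h16 : Nat.card (f.R U) = 16 := by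
    have := Nat.le_of_dvd (by norm_num) hdvd
    interval_cases hh : Nat.card (f.R U) <;> omega
  have htop : f.R U = ⊤ :=
    AddSubgroup.eq_top_of_card_eq _ (by rw [h16, card_mat])
  have hmem : ∀ X, X ∈ f.R U := fun X => htop ▸ AddSubgroup.mem_top X
  obtain ⟨u, hu, hju⟩ := hmem ((0, 1), (1, 1))
  have hF : Fpf (f.j u) := hju ▸ fpf_example
  by_cases hT : ∀ g : P, g ∈ f.J
  · exact no_central_fpf f hu hF (central_of_trivial f hT _)
  · obtain ⟨k, hk, hjk⟩ := hmem nilp
    exact no_nilp_fpf f hk hjk hu hF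

theorem exists_good (h : 8 ≤ Nat.card (f.R U)) :
    ∃ k : U, (k : P) ∈ f.J ∧ Good (f.j k) ∧ f.Central (f.j k) := by
  obtain ⟨c, hc⟩ := exists_hyperplane _ h
  by_cases hT : ∀ g : P, g ∈ f.J
  · obtain ⟨X, hX, hg⟩ := hyperplane_good c
    obtain ⟨k, hk, hjk⟩ := hc X hX
    exact ⟨k, hk, hjk ▸ hg, central_of_trivial f hT _⟩
  push_neg at hT
  obtain ⟨g, hg⟩ := hT
  by_cases hn : dot c nilp = 0
  · obtain ⟨k, hk, hjk⟩ := hc _ hn
    exact ⟨k, hk, hjk ▸ good_nilp, fun g _ => by rw [hjk, conjT_nilp]⟩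
  exfalso
  obtain ⟨⟨X, Y, hX, hY, hXY⟩, X', Y', hX', hY', hF⟩ := hyperplane_orbit c hn
  obtain ⟨x, hx, rfl⟩ := hc X hX
  obtain ⟨y, hy, rfl⟩ := hc Y hY
  obtain ⟨x', hx', rfl⟩ := hc X' hX'
  obtain ⟨y', hy', rfl⟩ := hc Y' hY'
  obtain ⟨h1, h2⟩ := combine f hg hx hy
  obtain ⟨h3, h4⟩ := combine f hg hx' hy'
  exact no_nilp_fpf f h1 (h2.trans hXY) h3 (h4 ▸ hF)

include hK in
theorem fixed_of_le (hle : K ≤ CU s U) {g : U} (hg : (g : P) ∉ f.J) :
    ∀ X ∈ f.R U, conjT X = X := by
  rintro _ ⟨x, hx, rfl⟩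
  have h1 : ((g * x * g⁻¹ * x⁻¹ : U) : P) ∈ s.C := hle (comm_mem_K hK g x)
  push_cast at h1
  have h2 := j_C f h1
  rw [j_mul f (J_conj f hx g) (inv_mem hx), j_inv f hx, j_conj_T f hg hx] at h2
  have h3 : ∀ A B : Mat, A + B = 0 → A = B := by decide
  exact h3 _ _ h2

include hK f in
theorem bound_frame : K.index ≤ 16 := by
  rw [index_K s hK]
  have h4 : K.relIndex (CU s U) ≤ 4 := (relIndex_CU_le s hK).trans (card_W_le s)
  have hC := index_CU f (U := U)
  have hJ := index_JU_le f (U := U)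
  have hR := card_R_le f (U := U)
  have hsup := sup_index_le s (K := K) (U := U)
  have hdvd : Nat.card (f.R U) ∣ 16 := by
    rw [← card_mat]; exact AddSubgroup.card_addSubgroup_dvd_card _
  have hvals : Nat.card (f.R U) = 1 ∨ Nat.card (f.R U) = 2 ∨ Nat.card (f.R U) = 4 ∨
      Nat.card (f.R U) = 8 := by
    obtain ⟨i, hi, e⟩ := (Nat.dvd_prime_pow Nat.prime_two).mp
      (show Nat.card (f.R U) ∣ 2 ^ 4 from hdvd)
    rw [e] at hR ⊢
    interval_cases i <;> simp at *
  have hfull : K ≤ CU s U → (f.JU U).index = 2 →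
      Nat.card (f.R U) ≤ 4 ∧ (4 ≤ Nat.card (f.R U) → nilp ∈ f.R U) := by
    intro hle h2
    obtain ⟨g, hg⟩ : ∃ g : U, g ∉ f.JU U := by
      by_contra hcon
      push_neg at hcon
      have : f.JU U = ⊤ := eq_top_iff.mpr fun x _ => hcon x
      rw [this, Subgroup.index_top] at h2; omega
    exact card_le_of_fixed _ (fixed_of_le hK f hle hg)
  by_cases hgood : ∃ k : U, (k : P) ∈ f.J ∧ Good (f.j k) ∧ f.Central (f.j k)
  · obtain ⟨k, hk, hg, hc⟩ := hgood
    have h2 := relIndex_CU_le_two s hK (sq_mem_C f hk) fun d hd => not_square f hk hg hc hd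
    have h8 : (CU s U ⊔ K).index ≤ 8 := by
      by_cases hle : K ≤ CU s U
      · by_cases hidx : (f.JU U).index = 2
        · have := (hfull hle hidx).1
          nlinarith
        · have : (f.JU U).index ≤ 1 := by omega
          nlinarith
      · have := sup_index_half s hle
        nlinarith
    nlinarith
  have hR4 : Nat.card (f.R U) ≤ 4 := by
    by_contra h
    have h8 : 8 ≤ Nat.card (f.R U) := by omega
    exact hgood (exists_good f h8)
  have hsup4 : (CU s U ⊔ K).index ≤ 4 := by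
    by_cases hle : K ≤ CU s U
    · by_cases hidx : (f.JU U).index = 2
      · by_cases h : 4 ≤ Nat.card (f.R U)
        · obtain ⟨k, hk, hjk⟩ := (hfull hle hidx).2 h
          exact absurd ⟨k, hk, hjk ▸ good_nilp, fun g _ => by rw [hjk, conjT_nilp]⟩ hgood
        · have : Nat.card (f.R U) ≤ 2 := by omega
          rw [hidx] at hC
          omega
      · have : (f.JU U).index ≤ 1 := by omega
        nlinarith
    · have := sup_index_half s hle
      nlinarith
  nlinarith

/-! ### The small cases and the theorem -/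

section final

variable (s : Setup P)

theorem exists_central (h : ∃ w ∈ s.W, w ≠ 1) :
    ∃ z ∈ s.W, z ≠ 1 ∧ ∀ g : P, g * z * g⁻¹ = z := by
  haveI := Fact.mk Nat.prime_two
  haveI : s.W.Normal := ⟨fun m hm g => conj_W s hm g⟩
  obtain ⟨w, hw, hw1⟩ := h
  have hne := PGroupsBasic.inf_center_ne_bot (p := 2) s.hP (N := s.W) fun e =>
    hw1 (mem_bot.mp (e ▸ hw))
  obtain ⟨z, hz, hz1⟩ := (Subgroup.ne_bot_iff_exists_ne_one (H := s.W ⊓ center P)).mp hne |>
    fun ⟨z, hz1⟩ => (⟨(z : P), z.2, fun e => hz1 (Subtype.ext e)⟩ :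
      ∃ z : P, z ∈ s.W ⊓ center P ∧ z ≠ 1)
  exact ⟨z, hz.1, hz1, fun g => by rw [mem_center_iff.mp hz.2 g, mul_inv_cancel_right]⟩

theorem four_cases {z b w : P} (hz : z ∈ s.W) (hb : b ∈ s.W) (hw : w ∈ s.W) (hz1 : z ≠ 1)
    (hb1 : b ≠ 1) (hbz : b ≠ z) : w = 1 ∨ w = z ∨ w = b ∨ w = z * b := by
  by_contra hcon
  push_neg at hcon
  obtain ⟨h1, h2, h3, h4⟩ := hcon
  have hzb1 : z * b ≠ 1 := fun e => hbz (by
    have := mul_eq_one_iff_inv_eq.mp e
    rw [W_inv s hz] at this; exact this.symm)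
  have hzbz : z * b ≠ z := fun e => hb1 (mul_eq_left.mp e)
  have hzbb : z * b ≠ b := fun e => hz1 (mul_eq_right.mp e)
  have hinj : Function.Injective (![⟨1, one_mem _⟩, ⟨z, hz⟩, ⟨b, hb⟩, ⟨z * b, mul_mem hz hb⟩,
      ⟨w, hw⟩] : Fin 5 → s.W) := by
    intro i j e
    fin_cases i <;> fin_cases j <;> simp_all [Subtype.ext_iff, eq_comm]
  have := (Nat.card_le_card_of_injective _ hinj).trans (card_W_le s)
  rw [Nat.card_fin] at this
  omega

/-- Commuting with generators of `M` modulo `W` puts an element into `C`. -/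
theorem mem_C_of_gens {a b g : P} (hgen : ∀ m ∈ s.M, m ∈ Subgroup.closure ({a, b} : Set P))
    (ha : g * a * g⁻¹ = a) (hb : g * b * g⁻¹ = b) : g ∈ s.C := by
  rw [mem_C]
  intro m hm
  have hle : Subgroup.closure ({a, b} : Set P) ≤ centralizer ({g} : Set P) := by
    rw [Subgroup.closure_le]
    rintro x (rfl | rfl) <;>
      simp only [SetLike.mem_coe, mem_centralizer_iff, Set.mem_singleton_iff, forall_eq]
    · exact mul_inv_eq_iff_eq_mul.mp ha
    · exact mul_inv_eq_iff_eq_mul.mp hb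
  exact (mem_centralizer_iff.mp (hle (hgen m hm)) g rfl).symm

theorem conj_pair {a b : P} (hgen : ∀ m ∈ s.M, m ∈ Subgroup.closure ({a, b} : Set P)) (g h : U)
    (e : (((g : P) * a * (g : P)⁻¹, (g : P) * b * (g : P)⁻¹) : P × P) =
      ((h : P) * a * (h : P)⁻¹, (h : P) * b * (h : P)⁻¹)) : g⁻¹ * h ∈ CU s U := by
  rw [Prod.ext_iff] at e
  obtain ⟨e1, e2⟩ := e
  refine mem_C_of_gens s hgen ?_ ?_ <;> simp only at e1 e2 <;> push_cast
  · calc (g : P)⁻¹ * h * a * ((g : P)⁻¹ * h)⁻¹ = (g : P)⁻¹ * ((h : P) * a * (h : P)⁻¹) * g := by group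
      _ = a := by rw [← e1]; group
  · calc (g : P)⁻¹ * h * b * ((g : P)⁻¹ * h)⁻¹ = (g : P)⁻¹ * ((h : P) * b * (h : P)⁻¹) * g := by group
      _ = b := by rw [← e2]; group

include hK in
theorem bound_elementary (h : ∀ m ∈ s.M, m * m = 1) : K.index ≤ 16 := by
  rw [index_K s hK]
  have h4 : K.relIndex (CU s U) ≤ 4 := (relIndex_CU_le s hK).trans (card_W_le s)
  have hsup := sup_index_le s (K := K) (U := U)
  suffices (CU s U).index ≤ 2 by nlinarith
  have hMW : ∀ m ∈ s.M, m ∈ s.W := fun m hm => ⟨hm, h m hm⟩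
  by_cases hW : ∃ w ∈ s.W, w ≠ 1
  · obtain ⟨z, hz, hz1, hzc⟩ := exists_central s hW
    by_cases hb : ∃ b ∈ s.W, b ≠ 1 ∧ b ≠ z
    · obtain ⟨b, hb, hb1, hbz⟩ := hb
      refine (index_le_ncard (fun g : U => (((g : P) * z * (g : P)⁻¹, (g : P) * b * (g : P)⁻¹) : P × P))
        {(z, b), (z, z * b)} (fun g => ?_) fun g h e => conj_pair s ?_ g h e).trans
          ((Set.ncard_insert_le _ _).trans (by rw [Set.ncard_singleton]))
      · simp only [Set.mem_insert_iff, Set.mem_singleton_iff, Prod.mk.injEq, hzc, true_and]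
        rcases four_cases s hz hb (conj_W s hb (g : P)) hz1 hb1 hbz with e | e | e | e
        · exact absurd (conj_eq_one_iff.mp e) hb1
        · refine absurd ?_ hbz
          rw [← hzc (g : P)] at e
          exact mul_left_cancel (mul_right_cancel e)
        · exact Or.inl e
        · exact Or.inr e
      · intro m hm
        rcases four_cases s hz hb (hMW m hm) hz1 hb1 hbz with rfl | rfl | rfl | rfl
        · exact one_mem _
        · exact subset_closure (by simp)
        · exact subset_closure (by simp)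
        · exact mul_mem (subset_closure (by simp)) (subset_closure (by simp))
    · push_neg at hb
      have : CU s U = ⊤ := eq_top_iff.mpr fun g _ => (mem_C s).mpr fun m hm => by
        by_cases hm1 : m = 1
        · simp [hm1]
        · rw [hb m (hMW m hm) hm1]
          exact (mul_inv_eq_iff_eq_mul.mp (hzc (g : P))).symm
      rw [this, Subgroup.index_top]; norm_num
  · push_neg at hW
    have : CU s U = ⊤ := eq_top_iff.mpr fun g _ => (mem_C s).mpr fun m hm => by
      simp [hW m (hMW m hm)]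
    rw [this, Subgroup.index_top]; norm_num

include hK in
theorem bound_one_square {z a : P} (ha : a ∈ s.M) (haz : a * a = z) (hz1 : z ≠ 1)
    (hzc : ∀ g : P, g * z * g⁻¹ = z) (hall : ∀ m ∈ s.M, m * m = 1 ∨ m * m = z) : K.index ≤ 16 := by
  rw [index_K s hK]
  have hsup := sup_index_le s (K := K) (U := U)
  have hzW : z ∈ s.W := haz ▸ sq_mem_W s ha
  have h4 : K.relIndex (CU s U) ≤ Nat.card s.W := relIndex_CU_le s hK
  have hW4 := card_W_le s
  set A := {m : P | m ∈ s.M ∧ m * m = z} with hA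
  have hAle : A.ncard ≤ Nat.card s.W := by
    have hsub : A ⊆ (fun w => a * w) '' (s.W : Set P) := fun m hm => by
      refine ⟨a⁻¹ * m, ⟨mul_mem (inv_mem ha) hm.1, ?_⟩, by simp⟩
      have hc := s.comm m hm.1 a⁻¹ (inv_mem ha)
      calc a⁻¹ * m * (a⁻¹ * m) = a⁻¹ * (m * a⁻¹) * m := by group
        _ = (a * a)⁻¹ * (m * m) := by rw [hc]; group
        _ = 1 := by rw [haz, hm.2, inv_mul_cancel]
    refine (Set.ncard_le_ncard hsub (Set.toFinite _)).trans ?_
    refine (Set.ncard_image_le (Set.toFinite _)).trans ?_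
    rw [← Nat.card_coe_set_eq]
    exact le_rfl
  have haA : ∀ g : P, g * a * g⁻¹ ∈ A := fun g => ⟨conj_M s ha g, by
    rw [show g * a * g⁻¹ * (g * a * g⁻¹) = g * (a * a) * g⁻¹ by group, haz, hzc]⟩
  by_cases hb : ∃ b ∈ s.W, b ≠ 1 ∧ b ≠ z
  · obtain ⟨b, hb, hb1, hbz⟩ := hb
    have hgen : ∀ m ∈ s.M, m ∈ Subgroup.closure ({a, b} : Set P) := by
      intro m hm
      have hz' : z ∈ Subgroup.closure ({a, b} : Set P) :=
        haz ▸ mul_mem (subset_closure (by simp)) (subset_closure (by simp))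
      have hWle : ∀ w ∈ s.W, w ∈ Subgroup.closure ({a, b} : Set P) := fun w hw => by
        rcases four_cases s hzW hb hw hz1 hb1 hbz with rfl | rfl | rfl | rfl
        · exact one_mem _
        · exact hz'
        · exact subset_closure (by simp)
        · exact mul_mem hz' (subset_closure (by simp))
      rcases hall m hm with h | h
      · exact hWle m ⟨hm, h⟩
      · have hw : a⁻¹ * m ∈ s.W := ⟨mul_mem (inv_mem ha) hm, by
          have hc := s.comm m hm a⁻¹ (inv_mem ha)
          calc a⁻¹ * m * (a⁻¹ * m) = a⁻¹ * (m * a⁻¹) * m := by group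
            _ = (a * a)⁻¹ * (m * m) := by rw [hc]; group
            _ = 1 := by rw [haz, h, inv_mul_cancel]⟩
        have := mul_mem (subset_closure (show a ∈ ({a, b} : Set P) by simp)) (hWle _ hw)
        rwa [mul_inv_cancel_left] at this
    let φ : U → P × P := fun g => ((g : P) * a * (g : P)⁻¹, (g : P) * b * (g : P)⁻¹)
    have hφ : ∀ g, φ g ∈ A ×ˢ ({b, z * b} : Set P) := fun g => ⟨haA g, by
      rcases four_cases s hzW hb (conj_W s hb (g : P)) hz1 hb1 hbz with e | e | e | e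
      · exact absurd (conj_eq_one_iff.mp e) hb1
      · refine absurd ?_ hbz
        rw [← hzc (g : P)] at e
        exact mul_left_cancel (mul_right_cancel e)
      · exact Or.inl e
      · exact Or.inr e⟩
    have hS : (A ×ˢ ({b, z * b} : Set P)).ncard ≤ 8 := by
      rw [Set.ncard_prod]
      have := (Set.ncard_insert_le b ({z * b} : Set P))
      rw [Set.ncard_singleton] at this
      calc _ ≤ 4 * 2 := Nat.mul_le_mul (hAle.trans hW4) this
        _ = 8 := by norm_num
    have hidx : (CU s U).index ≤ 8 :=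
      (index_le_ncard φ _ hφ fun g h e => conj_pair s hgen g h e).trans hS
    by_cases hle : K ≤ CU s U
    · have h8 : (CU s U).index < 8 := by
        by_contra hcon
        have hsur := surj_of_index φ _ hφ (fun g h e => conj_pair s hgen g h e)
          (hS.trans (not_lt.mp hcon))
        have hab : a * b ∈ A := ⟨mul_mem ha hb.1, by
          calc a * b * (a * b) = a * (b * a) * b := by group
            _ = a * a * (b * b) := by rw [s.comm b hb.1 a ha]; group
            _ = z := by rw [haz, hb.2, mul_one]⟩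
        obtain ⟨g, hg⟩ := hsur (a * b, b) ⟨hab, Or.inl rfl⟩
        obtain ⟨x, hx⟩ := hsur (a, z * b) ⟨⟨ha, haz⟩, Or.inr rfl⟩
        simp only [φ, Prod.mk.injEq] at hg hx
        have hmem : ((g * x * g⁻¹ * x⁻¹ : U) : P) ∈ s.C := hle (comm_mem_K hK g x)
        push_cast at hmem
        have h0 := (mem_C s).mp hmem ((x : P) * ((g : P) * a * (g : P)⁻¹) * (x : P)⁻¹)
          (conj_M s (conj_M s ha _) _)
        have h1 : (g : P) * ((x : P) * a * (x : P)⁻¹) * (g : P)⁻¹ =
            (x : P) * ((g : P) * a * (g : P)⁻¹) * (x : P)⁻¹ := by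
          calc (g : P) * ((x : P) * a * (x : P)⁻¹) * (g : P)⁻¹ = ((g : P) * x * (g : P)⁻¹ * (x : P)⁻¹) *
                ((x : P) * ((g : P) * a * (g : P)⁻¹) * (x : P)⁻¹) *
                ((g : P) * x * (g : P)⁻¹ * (x : P)⁻¹)⁻¹ := by group
            _ = _ := by rw [← h0, mul_inv_cancel_right]
        rw [hx.1, hg.1] at h1
        rw [← conj_mul, hx.1, hx.2] at h1
        refine hz1 ?_
        have h2 := mul_left_cancel h1
        exact mul_eq_right.mp h2.symm
      have h9 : (CU s U).index ≤ 4 := by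
        haveI : IsPGroup 2 U := s.hP.to_subgroup U
        haveI := Fact.mk Nat.prime_two
        obtain ⟨i, hi⟩ := IsPGroup.index (s.hP.to_subgroup U) (CU s U)
        rw [hi] at h8 ⊢
        have h3 : i < 3 := (Nat.pow_lt_pow_iff_right (by norm_num : 1 < 2)).mp h8
        exact (Nat.pow_le_pow_right two_pos (by omega : i ≤ 2)).trans (by norm_num)
      nlinarith
    · have := sup_index_half s hle
      nlinarith
  · push_neg at hb
    have hW2 : Nat.card s.W ≤ 2 := by
      have hsub : (s.W : Set P) ⊆ {1, z} := fun w hw => by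
        by_cases h1 : w = 1
        · exact Or.inl h1
        · exact Or.inr (hb w hw h1)
      rw [← SetLike.coe_sort_coe, Nat.card_coe_set_eq]
      exact (Set.ncard_le_ncard hsub).trans ((Set.ncard_insert_le _ _).trans (by simp))
    have hidx : (CU s U).index ≤ 2 := by
      refine (index_le_ncard (fun g : U => (g : P) * a * (g : P)⁻¹) A (fun g => haA g)
        fun g h e => conj_pair s (a := a) (b := z) ?_ g h ?_).trans (hAle.trans hW2)
      · intro m hm
        have hz' : z ∈ Subgroup.closure ({a, z} : Set P) := subset_closure (by simp)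
        rcases hall m hm with h | h
        · by_cases h1 : m = 1
          · exact h1 ▸ one_mem _
          · exact (hb m ⟨hm, h⟩ h1) ▸ hz'
        · have hw : a⁻¹ * m ∈ s.W := ⟨mul_mem (inv_mem ha) hm, by
            have hc := s.comm m hm a⁻¹ (inv_mem ha)
            calc a⁻¹ * m * (a⁻¹ * m) = a⁻¹ * (m * a⁻¹) * m := by group
              _ = (a * a)⁻¹ * (m * m) := by rw [hc]; group
              _ = 1 := by rw [haz, h, inv_mul_cancel]⟩
          have ha' : a ∈ Subgroup.closure ({a, z} : Set P) := subset_closure (by simp)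
          by_cases h1 : a⁻¹ * m = 1
          · rw [← inv_mul_eq_one.mp h1]; exact ha'
          · have hmz : m = a * z := by rw [← hb _ hw h1, mul_inv_cancel_left]
            exact hmz ▸ mul_mem ha' hz'
      · simp only [Prod.mk.injEq, hzc, and_true]; exact e
    nlinarith

include hK s in
theorem index_le_sixteen : K.index ≤ 16 := by
  by_cases h1 : ∀ m ∈ s.M, m * m = 1
  · exact bound_elementary hK s h1
  push_neg at h1
  obtain ⟨a₀, ha₀, ha₀1⟩ := h1
  by_cases h2 : ∀ m ∈ s.M, m * m = 1 ∨ m * m = a₀ * a₀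
  · refine bound_one_square hK s ha₀ rfl ha₀1 (fun g => ?_) h2
    have he : g * (a₀ * a₀) * g⁻¹ = g * a₀ * g⁻¹ * (g * a₀ * g⁻¹) := by group
    rcases h2 _ (conj_M s ha₀ g) with h | h
    · exact absurd (conj_eq_one_iff.mp (he.trans h)) ha₀1
    · exact he.trans h
  push_neg at h2
  obtain ⟨b₀, hb₀, hb₀1, hne⟩ := h2
  obtain ⟨z, hz, hz1, hzc⟩ := exists_central s ⟨_, sq_mem_W s ha₀, ha₀1⟩
  have hsq : a₀ * b₀ * (a₀ * b₀) = a₀ * a₀ * (b₀ * b₀) := by
    calc a₀ * b₀ * (a₀ * b₀) = a₀ * (b₀ * a₀) * b₀ := by group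
      _ = _ := by rw [s.comm b₀ hb₀ a₀ ha₀]; group
  obtain ⟨a, ha, haz⟩ : ∃ a ∈ s.M, a * a = z := by
    rcases four_cases s (sq_mem_W s ha₀) (sq_mem_W s hb₀) hz ha₀1 hb₀1 hne with h | h | h | h
    · exact absurd h hz1
    · exact ⟨a₀, ha₀, h.symm⟩
    · exact ⟨b₀, hb₀, h.symm⟩
    · exact ⟨a₀ * b₀, mul_mem ha₀ hb₀, hsq.trans h.symm⟩
  obtain ⟨b, hb, hb1, hbz⟩ : ∃ b ∈ s.M, b * b ≠ 1 ∧ b * b ≠ z := by
    by_cases h : a₀ * a₀ = z
    · exact ⟨b₀, hb₀, hb₀1, fun e => hne (e.trans h.symm)⟩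
    · exact ⟨a₀, ha₀, ha₀1, h⟩
  exact bound_frame hK (⟨a, b, ha, hb, haz ▸ hz1, hb1, fun e => hbz (e.symm.trans haz),
    fun g => by rw [haz]; exact hzc g⟩ : Frame s)

end final

/-- The four generator theorem. -/
theorem frattiniLE_four (hP : IsPGroup 2 P)
    (h : ∀ A : Subgroup P, A.Normal → IsMulCommutative A → (∀ a ∈ A, a ^ 2 = 1) → Nat.card A ≤ 4)
    (U : Subgroup P) : SectionalFourGroup.FrattiniLE 4 U := by
  obtain ⟨s⟩ := exists_setup hP h
  intro K hKU hsq
  exact index_le_sixteen (U := U) (K := K.subgroupOf U) (s := s) (fun u => hsq u u.2)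


end Cfsg.Agent.FourGenerator94
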