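import Mathlib
import Cfsg.Agent.Lib.CoprimeAction
import Cfsg.Agent.Lib.CoprimeGen
import Cfsg.Agent.Lib.PGroupsBasic
import Cfsg.Agent.Lib.PGroupsCritical
import Cfsg.Agent.Lib.OddLocalBase

/-!
# Tools for fixed-point arguments with pairs of elements of prime order

`Pair2 x a b`: an elementary abelian pair of order `x * x`, `Span a b` its elements.
`frob`: a group with fixed-point-free complement acting coprimely on an abelian group.
`exists_conj_translate`: in a `t`-group with cyclic socle of the centre some element of order `t`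
is conjugate to all its translates by that socle.
-/

set_option autoImplicit false
set_option linter.style.haveILetI false
set_option linter.unusedSectionVars false
set_option linter.unusedVariables false

open scoped commutatorElement

namespace Cfsg.Agent.FourPrimes

open Subgroup

variable {G : Type*} [Group G]

/-- two independent commuting elements of order `x` -/
def Pair2 (x : ℕ) (a b : G) : Prop :=
  orderOf a = x ∧ orderOf b = x ∧ Commute a b ∧ b ∉ zpowers a

/-- the elements of the group generated by a pair -/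
def Span (a b : G) : Set G := {e | ∃ i j : ℕ, a ^ i * b ^ j = e}

theorem mem_zpowers_self' {x : ℕ} [hx : Fact x.Prime] {a e : G} (ha : orderOf a = x)
    (he : e ∈ zpowers a) (he1 : e ≠ 1) : a ∈ zpowers e := by
  obtain ⟨k, rfl⟩ := mem_zpowers_iff.mp he
  have h : zpowers (a ^ k) = zpowers a := by
    rcases PGroupsBasic.le_or_inf_eq_bot (p := x) (H := zpowers a) (by rw [Nat.card_zpowers, ha])
      (zpowers (a ^ k)) with h1 | h1
    · exact le_antisymm (zpowers_le.mpr he) h1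
    · exfalso
      have : a ^ k ∈ zpowers a ⊓ zpowers (a ^ k) := ⟨he, mem_zpowers _⟩
      rw [h1, mem_bot] at this
      exact he1 this
  rw [h]
  exact mem_zpowers a

theorem commute_of_mem_zpowers {a e g : G} (he : e ∈ zpowers a) (h : Commute g a) :
    Commute g e := by
  obtain ⟨k, rfl⟩ := mem_zpowers_iff.mp he
  exact h.zpow_right k

namespace Pair2

variable {x : ℕ} {a b : G}

theorem left_ne [hx : Fact x.Prime] (h : Pair2 x a b) : a ≠ 1 := by
  intro e
  have := h.1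
  rw [e, orderOf_one] at this
  exact hx.out.ne_one this.symm

theorem right_ne [hx : Fact x.Prime] (h : Pair2 x a b) : b ≠ 1 := by
  intro e
  exact h.2.2.2 (e ▸ one_mem _)

theorem symm [hx : Fact x.Prime] (h : Pair2 x a b) : Pair2 x b a :=
  ⟨h.2.1, h.1, h.2.2.1.symm, fun e => h.2.2.2 (mem_zpowers_self' h.2.1 e h.left_ne)⟩

theorem pow_left (h : Pair2 x a b) : a ^ x = 1 := by rw [← h.1]; exact pow_orderOf_eq_one a

theorem pow_right (h : Pair2 x a b) : b ^ x = 1 := by rw [← h.2.1]; exact pow_orderOf_eq_one b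

theorem left_mem (_h : Pair2 x a b) : a ∈ Span a b := ⟨1, 0, by simp⟩

theorem right_mem (_h : Pair2 x a b) : b ∈ Span a b := ⟨0, 1, by simp⟩

theorem span_mem_pair (h : Pair2 x a b) {e : G} (he : e ∈ CoprimeGen.pairSubgroup a b h.2.2.1)
    [hx : Fact x.Prime] : e ∈ Span a b := by
  obtain ⟨m, n, rfl⟩ := CoprimeGen.mem_pairSubgroup_iff.mp he
  have hm : ∀ (u : G) (k : ℤ), orderOf u = x → ∃ i : ℕ, u ^ k = u ^ i := fun u k hu => by
    refine ⟨(k % (x : ℤ)).toNat, ?_⟩
    rw [← zpow_natCast, Int.toNat_of_nonneg (Int.emod_nonneg _ (by exact_mod_cast hx.out.ne_zero)),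
      ← hu, zpow_mod_orderOf]
  obtain ⟨i, hi⟩ := hm a m h.1
  obtain ⟨j, hj⟩ := hm b n h.2.1
  exact ⟨i, j, by rw [hi, hj]⟩

theorem mem_pair_of_span (h : Pair2 x a b) {e : G} (he : e ∈ Span a b) :
    e ∈ CoprimeGen.pairSubgroup a b h.2.2.1 := by
  obtain ⟨i, j, rfl⟩ := he
  exact CoprimeGen.mem_pairSubgroup_iff.mpr ⟨i, j, by simp⟩

theorem span_pow (h : Pair2 x a b) {e : G} (he : e ∈ Span a b) : e ^ x = 1 := by
  obtain ⟨i, j, rfl⟩ := he
  rw [(h.2.2.1.pow_pow i j).mul_pow, ← pow_mul, ← pow_mul, mul_comm i, mul_comm j, pow_mul,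
    pow_mul, h.pow_left, h.pow_right, one_pow, one_pow, one_mul]

theorem span_order [hx : Fact x.Prime] (h : Pair2 x a b) {e : G} (he : e ∈ Span a b)
    (he1 : e ≠ 1) : orderOf e = x := orderOf_eq_prime (h.span_pow he) he1

theorem span_commute (h : Pair2 x a b) {e f : G} (he : e ∈ Span a b) (hf : f ∈ Span a b) :
    Commute e f := by
  obtain ⟨i, j, rfl⟩ := he
  obtain ⟨k, l, rfl⟩ := hf
  exact Commute.mul_left (((Commute.refl a).pow_pow i k).mul_right (h.2.2.1.pow_pow i l))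
    ((h.2.2.1.symm.pow_pow j k).mul_right ((Commute.refl b).pow_pow j l))

theorem span_mem (_h : Pair2 x a b) {H : Subgroup G} (ha : a ∈ H) (hb : b ∈ H) {e : G}
    (he : e ∈ Span a b) : e ∈ H := by
  obtain ⟨i, j, rfl⟩ := he
  exact mul_mem (pow_mem ha i) (pow_mem hb j)

theorem span_commute' (_h : Pair2 x a b) {g : G} (ha : Commute g a) (hb : Commute g b) {e : G}
    (he : e ∈ Span a b) : Commute g e := by
  obtain ⟨i, j, rfl⟩ := he
  exact (ha.pow_right i).mul_right (hb.pow_right j)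

theorem mul_pow_ne [hx : Fact x.Prime] (h : Pair2 x a b) (i : ℕ) : a * b ^ i ≠ 1 := by
  intro e
  refine h.symm.2.2.2 ?_
  rw [eq_inv_of_mul_eq_one_left e]
  exact inv_mem (pow_mem (mem_zpowers b) i)

theorem pow_ne [hx : Fact x.Prime] (h : Pair2 x a b) {j : ℕ} (hj : 0 < j) (hjx : j < x) :
    b ^ j ≠ 1 := by
  intro e
  have := Nat.le_of_dvd hj (h.2.1 ▸ orderOf_dvd_of_pow_eq_one e)
  omega

/-- Two independent elements of the span generate it. -/
theorem mem_of_span [Finite G] [hx : Fact x.Prime] (h : Pair2 x a b) {H : Subgroup G} {e f : G}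
    (he : e ∈ Span a b) (hf : f ∈ Span a b) (heH : e ∈ H) (hfH : f ∈ H) (he1 : e ≠ 1)
    (hfe : f ∉ zpowers e) : a ∈ H ∧ b ∈ H := by
  set N := CoprimeGen.pairSubgroup a b h.2.2.1 with hN
  have hdvd : Nat.card N ∣ x ^ 2 := by
    have := CoprimeGen.card_pairSubgroup_dvd a b h.2.2.1
    have e1 := h.1
    have e2 := h.2.1
    calc Nat.card N ∣ orderOf a * orderOf b := this
      _ = x ^ 2 := by rw [e1, e2, pow_two]
  have hd' : Nat.card (N ⊓ H : Subgroup G) ∣ x ^ 2 :=
    (card_dvd_of_le inf_le_left).trans hdvd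
  obtain ⟨k, hk, hkc⟩ := (Nat.dvd_prime_pow hx.out).mp hd'
  have hle : zpowers e ≤ N ⊓ H := zpowers_le.mpr ⟨h.mem_pair_of_span he, heH⟩
  have hne : Nat.card (zpowers e) < Nat.card (N ⊓ H : Subgroup G) := by
    refine lt_of_le_of_ne (card_le_of_le hle) fun hc => hfe ?_
    rw [eq_of_le_of_card_ge hle hc.ge]
    exact ⟨h.mem_pair_of_span hf, hfH⟩
  rw [Nat.card_zpowers, h.span_order he he1, hkc] at hne
  have hk2 : k = 2 := by
    have h1 : 1 < k := by
      by_contra hk1
      have := Nat.pow_le_pow_right hx.out.pos (show k ≤ 1 by omega)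
      rw [pow_one] at this
      omega
    omega
  have hNH : N ⊓ H = N := eq_of_le_of_card_ge inf_le_left
    (by rw [hkc, hk2]; exact Nat.le_of_dvd (pow_pos hx.out.pos 2) hdvd)
  exact ⟨(inf_eq_left.mp hNH) (CoprimeGen.left_mem_pairSubgroup a b h.2.2.1),
    (inf_eq_left.mp hNH) (CoprimeGen.right_mem_pairSubgroup a b h.2.2.1)⟩

/-- A subgroup not containing the pair meets the span inside a cyclic group. -/
theorem exists_line [Finite G] [hx : Fact x.Prime] (h : Pair2 x a b) {H : Subgroup G}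
    (hH : ¬ (a ∈ H ∧ b ∈ H)) :
    ∃ e0 ∈ Span a b, e0 ∈ H ∧ ∀ e ∈ Span a b, e ∈ H → e ∈ zpowers e0 := by
  by_cases hex : ∃ e0 ∈ Span a b, e0 ∈ H ∧ e0 ≠ 1
  · obtain ⟨e0, h0, h0H, h01⟩ := hex
    exact ⟨e0, h0, h0H, fun e he heH =>
      Classical.byContradiction fun hn => hH (h.mem_of_span h0 he h0H heH h01 hn)⟩
  · refine ⟨1, ⟨0, 0, by simp⟩, one_mem _, fun e he heH => ?_⟩
    have : e = 1 := Classical.byContradiction fun hn => hex ⟨e, he, heH, hn⟩
    rw [this]
    exact one_mem _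

/-- generation of a subgroup by centralisers -/
theorem gen_group [Finite G] [hx : Fact x.Prime] (h : Pair2 x a b) (K H : Subgroup G)
    (hK : ¬ x ∣ Nat.card K) (ha : a ∈ normalizer (K : Set G)) (hb : b ∈ normalizer (K : Set G))
    (hf : ∀ e ∈ Span a b, e ≠ 1 → ∀ k ∈ K, Commute e k → k ∈ H) : K ≤ H :=
  CoprimeGen.le_of_pair_centralizers (p := x) (a := a) (b := b)
    ⟨h.2.2.1, h.pow_left, h.pow_right, h.right_ne, h.symm.2.2.2, ha, hb⟩ hK
    (fun e he he1 k hk => hf e (h.span_mem_pair he) he1 k hk.1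
      (mem_centralizer_iff.mp hk.2 e (Set.mem_singleton e)))

end Pair2

section Module

variable {M : Type*} [CommGroup M] [MulDistribMulAction G M]

/-- fixed point free on `M` -/
def Fpf (g : G) (M : Type*) [CommGroup M] [MulDistribMulAction G M] : Prop :=
  ∀ m : M, g • m = m → m = 1

theorem not_fpf_iff {g : G} : ¬ Fpf g M ↔ ∃ m : M, g • m = m ∧ m ≠ 1 := by
  simp [Fpf]

/-- the points fixed by a set -/
def fixedBy' (M : Type*) [CommGroup M] [MulDistribMulAction G M] (S : Set G) : Subgroup M where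
  carrier := {m | ∀ g ∈ S, g • m = m}
  one_mem' g _ := smul_one g
  mul_mem' {u v} hu hv g hg := by rw [smul_mul', hu g hg, hv g hg]
  inv_mem' {u} hu g hg := by rw [smul_inv', hu g hg]

theorem smul_eq_of_mem_zpowers {g a : G} (hg : g ∈ zpowers a) {m : M} (hm : a • m = m) :
    g • m = m := by
  have : g ∈ MulAction.stabilizer G m :=
    (zpowers_le.mpr (show a ∈ MulAction.stabilizer G m from hm)) hg
  exact this

theorem smul_fixed_of_commute {e g : G} (h : Commute e g) {m : M} (hm : g • m = m) :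
    g • e • m = e • m := by rw [← mul_smul, ← h.eq, mul_smul, hm]

variable [Finite M]

theorem eq_of_pow_eq {n : ℕ} (h : (Nat.card M).Coprime n) {u v : M} (huv : u ^ n = v ^ n) :
    u = v :=
  (powCoprime h).injective huv

/-- An abelian group acted on by a pair is generated by fixed points. -/
theorem Pair2.gen {x : ℕ} [hx : Fact x.Prime] {a b : G} (h : Pair2 x a b)
    (hM : ¬ x ∣ Nat.card M) (S H : Subgroup M) (hSa : ∀ m ∈ S, a • m ∈ S)
    (hSb : ∀ m ∈ S, b • m ∈ S)
    (hf : ∀ e ∈ Span a b, e ≠ 1 → ∀ m ∈ S, e • m = m → m ∈ H) : S ≤ H := by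
  intro v hv
  have hSg : ∀ e ∈ Span a b, ∀ m ∈ S, e • m ∈ S := by
    rintro e ⟨i, j, rfl⟩ m hm
    have hp : ∀ (u : G), (∀ n ∈ S, u • n ∈ S) → ∀ (k : ℕ), ∀ n ∈ S, u ^ k • n ∈ S := by
      intro u hu k
      induction k with
      | zero => simp
      | succ k ih => intro n hn; rw [pow_succ', mul_smul]; exact hu _ (ih n hn)
    rw [mul_smul]
    exact hp a hSa i _ (hp b hSb j m hm)
  have hshift : ∀ γ : G, γ ^ x = 1 → ∀ u : M,
      γ • (∏ j ∈ Finset.range x, (γ ^ j) • u) = ∏ j ∈ Finset.range x, (γ ^ j) • u := by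
    intro γ hγ u
    rw [Finset.smul_prod']
    obtain ⟨q, hq⟩ : ∃ q, x = q + 1 := ⟨x - 1, by have := hx.out.pos; omega⟩
    rw [hq] at hγ ⊢
    simp only [← mul_smul, ← pow_succ']
    have h1 : (γ ^ (q + 1)) • u = (γ ^ 0) • u := by simp [hγ]
    rw [Finset.prod_range_succ, h1, Finset.prod_range_succ' (fun j => (γ ^ j) • u) q]
  have hspanpow : ∀ i j : ℕ, (a * b ^ i) ^ j ∈ Span a b := fun i j =>
    ⟨j, i * j, by rw [(h.2.2.1.pow_right i).mul_pow, ← pow_mul]⟩
  have hall : (∏ i ∈ Finset.range x, ∏ j ∈ Finset.range x, ((a * b ^ i) ^ j) • v) ∈ H := by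
    refine Subgroup.prod_mem _ fun i _ => hf (a * b ^ i) ⟨1, i, by simp⟩ (h.mul_pow_ne i) _
      (Subgroup.prod_mem _ fun j _ => hSg _ (hspanpow i j) v hv) (hshift _ ?_ v)
    exact h.span_pow ⟨1, i, by simp⟩
  rw [Finset.prod_comm] at hall
  have hx2 := hx.out.pos
  obtain ⟨q, hq⟩ : ∃ q, x = q + 1 := ⟨x - 1, by omega⟩
  rw [hq, Finset.prod_range_succ' (fun j => ∏ i ∈ Finset.range (q + 1), ((a * b ^ i) ^ j) • v) q]
    at hall
  simp only [pow_zero, one_smul, Finset.prod_const, Finset.card_range] at hall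
  have hpx : v ^ x ∈ H := by
    rw [hq]
    refine (Subgroup.mul_mem_cancel_left _ (Subgroup.prod_mem _ fun j hj => ?_)).1 hall
    have hj' : j + 1 < x := by
      have := Finset.mem_range.1 hj
      omega
    refine hf (b ^ (j + 1)) ⟨0, j + 1, by simp⟩ (h.pow_ne (Nat.succ_pos _) hj') _
      (Subgroup.prod_mem _ fun i _ => hSg _ (hspanpow i (j + 1)) v hv) ?_
    have hexp : ∀ i, ((a * b ^ i) ^ (j + 1)) • v
        = (a ^ (j + 1)) • (((b ^ (j + 1)) ^ i) • v) := fun i => by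
      rw [(h.2.2.1.pow_right i).mul_pow, ← pow_mul, mul_comm i, pow_mul, mul_smul]
    simp only [hexp]
    rw [← Finset.smul_prod', ← mul_smul, (h.2.2.1.pow_pow (j + 1) (j + 1)).symm.eq, mul_smul,
      ← hq, hshift _ (by rw [← pow_mul, mul_comm, pow_mul, h.pow_right, one_pow]) v]
  have hco : (Nat.card H).Coprime x := by
    rw [Nat.coprime_comm, hx.out.coprime_iff_not_dvd]
    exact fun hd => hM (hd.trans (Subgroup.card_subgroup_dvd_card _))
  have hcoM : (Nat.card M).Coprime x := by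
    rw [Nat.coprime_comm, hx.out.coprime_iff_not_dvd]; exact hM
  obtain ⟨⟨u, hu⟩, huv⟩ := (powCoprime hco).surjective ⟨v ^ x, hpx⟩
  have : u ^ x = v ^ x := congrArg Subtype.val huv
  rw [← eq_of_pow_eq hcoM this]
  exact hu

/-- A pair cannot act fixed point freely. -/
theorem Pair2.exists_fixed {x : ℕ} [hx : Fact x.Prime] {a b : G} (h : Pair2 x a b)
    (hM : ¬ x ∣ Nat.card M) (S : Subgroup M) (hSa : ∀ m ∈ S, a • m ∈ S)
    (hSb : ∀ m ∈ S, b • m ∈ S) (hS : S ≠ ⊥) :
    ∃ e ∈ Span a b, e ≠ 1 ∧ ∃ m ∈ S, e • m = m ∧ m ≠ 1 := by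
  by_contra hno
  exact hS (le_bot_iff.mp (h.gen hM S ⊥ hSa hSb fun e he he1 m hm hfix => mem_bot.mpr
    (Classical.byContradiction fun hm1 => hno ⟨e, he, he1, m, hm, hfix, hm1⟩)))

/-- A group with fixed point free complement: if the complement fixes no point, the kernel
acts trivially. -/
theorem frob [Finite G] (Z C : Subgroup G) (hn : ∀ c ∈ C, ∀ z ∈ Z, c * z * c⁻¹ ∈ Z)
    (hcop : (Nat.card M).Coprime (Nat.card Z))
    (hfree : ∀ c ∈ C, c ≠ 1 → ∀ z ∈ Z, Commute c z → z = 1) (S : Subgroup M)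
    (hSZ : ∀ z ∈ Z, ∀ m ∈ S, z • m ∈ S) (hSC : ∀ c ∈ C, ∀ m ∈ S, c • m ∈ S)
    (hfix : ∀ m ∈ S, (∀ c ∈ C, c • m = m) → m = 1) :
    ∀ z ∈ Z, ∀ m ∈ S, z • m = m := by
  classical
  haveI := Fintype.ofFinite Z
  haveI := Fintype.ofFinite C
  intro z0 hz0 v hv
  let N : M → M := fun u => ∏ w : Z, (w : G) • u
  have hC0 : ∀ u ∈ S, (∏ c : C, (c : G) • u) = 1 := fun u hu => by
    refine hfix _ (Subgroup.prod_mem _ fun c _ => hSC c c.2 u hu) fun c hc => ?_
    rw [Finset.smul_prod']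
    exact Fintype.prod_equiv (Equiv.mulLeft ⟨c, hc⟩) _ _ fun d => by simp [mul_smul]
  have hNC : ∀ u : M, ∀ c : C, c ≠ 1 →
      (∏ z : Z, ((z : G) * c * (z : G)⁻¹) • u) = N ((c : G) • u) := by
    intro u c hc
    have hmem : ∀ z : Z, (z : G) * ((c : G) * (z : G)⁻¹ * (c : G)⁻¹) ∈ Z := fun z =>
      mul_mem z.2 (hn c c.2 _ (inv_mem z.2))
    let f : Z → Z := fun z => ⟨_, hmem z⟩
    have hinj : Function.Injective f := by
      intro z1 z2 h12
      have h' : (z1 : G) * ((c : G) * (z1 : G)⁻¹ * (c : G)⁻¹)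
          = (z2 : G) * ((c : G) * (z2 : G)⁻¹ * (c : G)⁻¹) := congrArg Subtype.val h12
      have hcc : Commute (c : G) ((z2 : G)⁻¹ * (z1 : G)) := by
        have h2 : (z1 : G) * (c : G) * (z1 : G)⁻¹ = (z2 : G) * (c : G) * (z2 : G)⁻¹ := by
          have := congrArg (· * (c : G)) h'
          simpa [mul_assoc] using this
        have h3 := congrArg (fun g => (z2 : G)⁻¹ * g * (z1 : G)) h2
        have h4 : (z2 : G)⁻¹ * (z1 : G) * (c : G) = (c : G) * ((z2 : G)⁻¹ * (z1 : G)) := by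
          simpa [mul_assoc] using h3
        exact h4.symm
      have := hfree c c.2 (fun e => hc (Subtype.ext e)) _ (mul_mem (inv_mem z2.2) z1.2) hcc
      exact Subtype.ext (inv_mul_eq_one.mp this).symm
    refine Fintype.prod_bijective f ((Finite.injective_iff_bijective).mp hinj) _ _ fun z => ?_
    change ((z : G) * c * (z : G)⁻¹) • u
      = ((z : G) * ((c : G) * (z : G)⁻¹ * (c : G)⁻¹)) • ((c : G) • u)
    rw [← mul_smul]
    congr 1
    group
  have htot : (∏ c : C, ∏ z : Z, ((z : G) * c * (z : G)⁻¹) • v) = 1 := by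
    rw [Finset.prod_comm]
    refine Finset.prod_eq_one fun z _ => ?_
    simp only [mul_smul]
    rw [← Finset.smul_prod', hC0 _ (hSZ _ (inv_mem z.2) v hv), smul_one]
  have hsum : (∏ c : C, N ((c : G) • v)) = 1 := by
    change (∏ c : C, ∏ w : Z, (w : G) • (c : G) • v) = 1
    rw [Finset.prod_comm]
    refine Finset.prod_eq_one fun w _ => ?_
    rw [← Finset.smul_prod', hC0 v hv, smul_one]
  rw [← Finset.mul_prod_erase _ _ (Finset.mem_univ (1 : C))] at htot hsum
  have h1 : (∏ z : Z, ((z : G) * ((1 : C) : G) * (z : G)⁻¹) • v) = v ^ Nat.card Z := by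
    simp [Nat.card_eq_fintype_card]
  rw [h1, Finset.prod_congr rfl (fun c hc => hNC v c (Finset.ne_of_mem_erase hc))] at htot
  have hkey : v ^ Nat.card Z = N v := by
    have := htot.trans hsum.symm
    simpa using mul_right_cancel this
  have hN : z0 • N v = N v := by
    simp only [N, Finset.smul_prod']
    exact Fintype.prod_equiv (Equiv.mulLeft ⟨z0, hz0⟩) _ _ fun w => by simp [mul_smul]
  refine eq_of_pow_eq hcop ?_
  rw [← smul_pow', hkey, hN]

/-- An element of prime order acting without fixed points on both. -/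
theorem frob_one [Finite G] {r : ℕ} [hr : Fact r.Prime] (Z : Subgroup G) {e : G}
    (he : orderOf e = r) (hn : ∀ z ∈ Z, e * z * e⁻¹ ∈ Z)
    (hcop : (Nat.card M).Coprime (Nat.card Z))
    (hfree : ∀ z ∈ Z, Commute e z → z = 1) (S : Subgroup M)
    (hSZ : ∀ z ∈ Z, ∀ m ∈ S, z • m ∈ S) (hSe : ∀ m ∈ S, e • m ∈ S)
    (hfix : ∀ m ∈ S, e • m = m → m = 1) : ∀ z ∈ Z, ∀ m ∈ S, z • m = m := by
  have hpow : ∀ k : ℕ, (∀ z ∈ Z, e ^ k * z * (e ^ k)⁻¹ ∈ Z) ∧ ∀ m ∈ S, e ^ k • m ∈ S := by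
    intro k
    induction k with
    | zero => simp
    | succ k ih =>
      refine ⟨fun z hz => ?_, fun m hm => ?_⟩
      · have := hn _ (ih.1 z hz)
        simpa [pow_succ', mul_assoc] using this
      · rw [pow_succ', mul_smul]
        exact hSe _ (ih.2 m hm)
  have hz : ∀ c ∈ zpowers e, ∃ k : ℕ, e ^ k = c := fun c hc =>
    (mem_powers_iff_mem_zpowers (x := e)).mpr hc
  refine frob Z (zpowers e) (fun c hc z hzZ => ?_) hcop (fun c hc hc1 z hzZ hcz => ?_) S hSZ
    (fun c hc m hm => ?_) fun m hm h => hfix m hm (h e (mem_zpowers e))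
  · obtain ⟨k, rfl⟩ := hz c hc
    exact (hpow k).1 z hzZ
  · exact hfree z hzZ (commute_of_mem_zpowers (mem_zpowers_self' he hc hc1) hcz.symm).symm
  · obtain ⟨k, rfl⟩ := hz c hc
    exact (hpow k).2 m hm

/-- An element without fixed points centralises what it normalises, modulo the kernel. -/
theorem comm_fixes_of_fpf [Finite G] {r : ℕ} [hr : Fact r.Prime] (Z : Subgroup G)
    [IsMulCommutative Z] {e : G} (he : orderOf e = r) (hn : e ∈ normalizer (Z : Set G))
    (hrZ : ¬ r ∣ Nat.card Z) (hcop : (Nat.card M).Coprime (Nat.card Z)) (hfpf : Fpf e M) :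
    ∀ z ∈ Z, ∀ m : M, ⁅z, e⁆ • m = m := by
  have hA : zpowers e ≤ normalizer (Z : Set G) := zpowers_le.mpr hn
  have hce : (Nat.card (zpowers e)).Coprime (Nat.card Z) := by
    rw [Nat.card_zpowers, he]; exact hr.out.coprime_iff_not_dvd.mpr hrZ
  set W := ⁅Z, zpowers e⁆ with hW
  have hWZ : W ≤ Z := CoprimeAction.commutator_le_self_of_le_normalizer hA
  have hWn : e ∈ normalizer (W : Set G) :=
    Subgroup.normalizer_commutator_ge_right Z (zpowers e) (mem_zpowers e)
  intro z hz m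
  refine frob_one W he (fun w hw => (mem_normalizer_iff.mp hWn w).mp hw)
    (hcop.coprime_dvd_right (card_dvd_of_le hWZ)) (fun w hw hew => ?_) ⊤
    (fun _ _ _ _ => mem_top _) (fun _ _ => mem_top _) (fun m _ h => hfpf m h)
    ⁅z, e⁆ (commutator_mem_commutator hz (mem_zpowers e)) m (mem_top m)
  have : w ∈ (Z ⊓ centralizer (zpowers e : Set G)) ⊓ ⁅Z, zpowers e⁆ :=
    ⟨⟨hWZ hw, mem_centralizer_iff.mpr fun c hc =>
      (commute_of_mem_zpowers hc hew.symm).symm⟩, hw⟩
  rwa [CoprimeAction.inf_centralizer_inf_commutator_eq_bot hA hce, mem_bot] at this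

/-- If the fixed points of `x` are fixed by `y` and `x` is conjugate to all `x w`, `w ∈ ⟨y⟩`, then
`y` acts trivially. -/
theorem translate_fixed {t : ℕ} [ht : Fact t.Prime] {x y : G} (hp : Pair2 t x y)
    (hM : ¬ t ∣ Nat.card M)
    (htr : ∀ w ∈ zpowers y, ∃ g : G, g * x * g⁻¹ = x * w ∧ Commute g y)
    (hsub : ∀ m : M, x • m = m → y • m = m) : ∀ m : M, y • m = m := by
  have hgen : (⊤ : Subgroup M) ≤ fixedBy' M {y} := by
    refine hp.gen hM ⊤ _ (fun _ _ => mem_top _) (fun _ _ => mem_top _) fun e he he1 m _ hm => ?_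
    intro y' hy'
    rw [Set.mem_singleton_iff] at hy'
    subst hy'
    obtain ⟨i, j, rfl⟩ := he
    by_cases hi : x ^ i = 1
    · rw [hi, one_mul] at he1 hm
      exact smul_eq_of_mem_zpowers (mem_zpowers_self' hp.2.1 (pow_mem (mem_zpowers _) j) he1) hm
    · have hxi : x ∈ zpowers (x ^ i) := mem_zpowers_self' hp.1 (pow_mem (mem_zpowers x) i) hi
      obtain ⟨k, hk⟩ := mem_zpowers_iff.mp hxi
      have hek : (x ^ i * y' ^ j) ^ k • m = m :=
        smul_eq_of_mem_zpowers (zpow_mem (mem_zpowers _) k) hm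
      rw [(hp.2.2.1.pow_pow i j).mul_zpow, hk] at hek
      obtain ⟨g, hg, hgy⟩ := htr _ (zpow_mem (pow_mem (mem_zpowers y') j) k)
      rw [← hg] at hek
      have hx' : x • g⁻¹ • m = g⁻¹ • m := by
        have := congrArg (g⁻¹ • ·) hek
        simpa [mul_smul] using this
      have hy := hsub _ hx'
      rw [← mul_smul, hgy.symm.inv_right.eq, mul_smul] at hy
      exact smul_left_cancel g⁻¹ hy
  exact fun m => hgen (mem_top m) y (Set.mem_singleton y)

end Module

/-- In a `t`-group whose central elements of order `t` lie in `⟨y⟩`, any further element of order `t`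
gives one conjugate to all its translates by `⟨y⟩`. -/
theorem exists_conj_translate [Finite G] {t : ℕ} [ht : Fact t.Prime] (hG : IsPGroup t G) {y : G}
    (hy : orderOf y = t) (hyc : ∀ g : G, Commute g y)
    (hΩ : ∀ z : G, (∀ g : G, Commute g z) → z ^ t = 1 → z ∈ zpowers y)
    {x0 : G} (hx0 : x0 ^ t = 1) (hx0y : x0 ∉ zpowers y) :
    ∃ x : G, orderOf x = t ∧ x ∉ zpowers y ∧ ∀ w ∈ zpowers y, ∃ g : G, g * x * g⁻¹ = x * w := by
  obtain ⟨x1, ⟨hx1, hx1y⟩, hmax⟩ := Set.Finite.exists_maximalFor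
    (fun x : G => Nat.card (centralizer ({x} : Set G))) {x : G | x ^ t = 1 ∧ x ∉ zpowers y}
    (Set.toFinite _) ⟨x0, hx0, hx0y⟩
  set C := centralizer ({x1} : Set G) with hC
  have hCtop : C ≠ ⊤ := fun h => hx1y (hΩ x1
    (fun g => (mem_centralizer_iff.mp (h.ge (mem_top g)) x1 rfl).symm) hx1)
  set N := normalizer (C : Set G) with hN
  obtain ⟨g0, hg0N, hg0C⟩ := SetLike.exists_of_lt (PGroupsBasic.lt_normalizer hG hCtop)
  let X : Subgroup G :=
    { carrier := {z | z ∈ C ∧ (∀ c ∈ C, Commute c z) ∧ z ^ t = 1}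
      one_mem' := ⟨one_mem _, fun c _ => Commute.one_right c, one_pow _⟩
      mul_mem' := fun {u v} hu hv => ⟨mul_mem hu.1 hv.1, fun c hc => (hu.2.1 c hc).mul_right
        (hv.2.1 c hc), by rw [(hv.2.1 u hu.1).mul_pow, hu.2.2, hv.2.2, one_mul]⟩
      inv_mem' := fun {u} hu => ⟨inv_mem hu.1, fun c hc => (hu.2.1 c hc).inv_right,
        by rw [inv_pow, hu.2.2, inv_one]⟩ }
  have hyX : y ∈ X := ⟨mem_centralizer_iff.mpr fun c hc => by
      rw [Set.mem_singleton_iff.mp hc]; exact hyc x1,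
    fun c _ => hyc c, hy ▸ pow_orderOf_eq_one y⟩
  have hx1X : x1 ∈ X := ⟨mem_centralizer_iff.mpr fun c hc => by
      rw [Set.mem_singleton_iff.mp hc],
    fun c hc => (mem_centralizer_iff.mp hc x1 rfl).symm, hx1⟩
  haveI hXn : (X.subgroupOf N).Normal := ⟨fun z hz n => by
    rw [mem_subgroupOf] at hz ⊢
    have hnN := mem_normalizer_iff.mp n.2
    refine ⟨(hnN _).mp hz.1, fun c hc => ?_, ?_⟩
    · have hc' : (n : G)⁻¹ * c * n ∈ C := by
        refine (hnN _).mpr ?_
        simpa [mul_assoc] using hc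
      have := (hz.2.1 _ hc').eq
      have e := congrArg (fun g => (n : G) * g * (n : G)⁻¹) this
      change c * _ = _ * c
      simpa [mul_assoc] using e
    · simp only [Subgroup.coe_mul, InvMemClass.coe_inv]
      rw [conj_pow, hz.2.2, mul_one, mul_inv_cancel]⟩
  haveI hYn : ((zpowers y).subgroupOf N).Normal := ⟨fun z hz n => by
    rw [mem_subgroupOf] at hz ⊢
    have := (commute_of_mem_zpowers hz (hyc (n : G))).eq
    simp only [Subgroup.coe_mul, InvMemClass.coe_inv]
    rwa [this, mul_inv_cancel_right]⟩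
  have hlt : (zpowers y).subgroupOf N < X.subgroupOf N := by
    refine SetLike.lt_iff_le_and_exists.mpr ⟨comap_mono (zpowers_le.mpr hyX),
      ⟨⟨x1, le_normalizer hx1X.1⟩, hx1X, hx1y⟩⟩
  obtain ⟨D, hDn, hD1, hD2, hDc⟩ := PGroupsBasic.exists_normal_succ (hG.to_subgroup N) hlt
  haveI := hDn
  obtain ⟨d, hdD, hdy⟩ := PGroupsCritical.exists_succ_not_le hD1 hDc
  have hdX : (d : G) ∈ X := hD2 hdD
  have hdy' : (d : G) ∉ zpowers y := hdy
  have hd1 : (d : G) ≠ 1 := fun e => hdy' (e ▸ one_mem _)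
  have hCd : C ≤ centralizer ({(d : G)} : Set G) := fun c hc =>
    mem_centralizer_iff.mpr fun u hu => by
      rw [Set.mem_singleton_iff.mp hu]; exact (hdX.2.1 c hc).symm.eq
  have hCeq : centralizer ({(d : G)} : Set G) = C :=
    (eq_of_le_of_card_ge hCd (hmax ⟨hdX.2.2, hdy'⟩ (card_le_of_le hCd))).symm
  set g : N := ⟨g0, hg0N⟩
  have hcomm : ⁅g, d⁆ ∈ (zpowers y).subgroupOf N :=
    PGroupsCritical.commutator_mem_of_succ (hG.to_subgroup N) hD1 hDc hdD g
  rw [mem_subgroupOf] at hcomm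
  have hcomm' : ⁅g0, (d : G)⁆ ∈ zpowers y := hcomm
  have hne : ⁅g0, (d : G)⁆ ≠ 1 := fun e => hg0C (hCeq.le (mem_centralizer_iff.mpr fun u hu => by
    rw [Set.mem_singleton_iff.mp hu]; exact (commutatorElement_eq_one_iff_commute.mp e).symm.eq))
  refine ⟨d, orderOf_eq_prime hdX.2.2 hd1, hdy', fun w hw => ?_⟩
  set c := ⁅g0, (d : G)⁆ with hc
  have hdc : Commute (d : G) c := commute_of_mem_zpowers hcomm' (hyc _)
  have hgc : Commute g0 c := commute_of_mem_zpowers hcomm' (hyc _)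
  have hconj : g0 * d * g0⁻¹ = d * c := by
    rw [hdc.eq, hc, commutatorElement_def]
    group
  obtain ⟨k, hk⟩ := (mem_powers_iff_mem_zpowers (x := c)).mpr
    ((zpowers_le.mpr (mem_zpowers_self' hy hcomm' hne)) hw)
  exact ⟨g0 ^ k, by rw [OddLocalBase.conj_pow_eq g0 (d : G) c hconj hgc.eq k, ← hk]⟩

end Cfsg.Agent.FourPrimes
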