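import Cfsg.Agent.Lib.FourPrimesBasic
import Cfsg.Agent.Lib.ComponentsFitting
import Cfsg.Agent.Lib.HallSolvable
import Cfsg.Agent.Lib.HallCore
import Cfsg.Agent.Lib.OmegaCoprime

/-!
# Two commuting modules over a solvable `{t, r}`-group

No element of prime order fixes points in both modules, and commuting elements of orders `t`, `r`
fix no common point: then one of the two primes has rank one.
-/

set_option autoImplicit false
set_option linter.style.haveILetI false
set_option linter.unusedSectionVars false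
set_option linter.unusedVariables false

open scoped commutatorElement

namespace Cfsg.Agent.FourPrimes

open Subgroup

variable {L : Type*} [Group L] [Finite L]

/-- the hypotheses on one of the two modules -/
structure ModHyp (t r : ℕ) (L M : Type*) [Group L] [CommGroup M] [MulDistribMulAction L M] :
    Prop where
  nontriv : Nontrivial M
  ht : ¬ t ∣ Nat.card M
  hr : ¬ r ∣ Nat.card M
  nf : ∀ a b : L, orderOf a = t → orderOf b = r → Commute a b →
    ∀ m : M, a • m = m → b • m = m → m = 1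

theorem ModHyp.symm {t r : ℕ} {M : Type*} [CommGroup M] [MulDistribMulAction L M]
    (h : ModHyp t r L M) : ModHyp r t L M :=
  ⟨h.nontriv, h.hr, h.ht, fun a b ha hb hc m hma hmb => h.nf b a hb ha hc.symm m hmb hma⟩

theorem coprime_of_pow {t n : ℕ} [ht : Fact t.Prime] {Y : Subgroup L}
    (hY : ∀ y ∈ Y, y ^ t = 1) (hn : ¬ t ∣ n) : n.Coprime (Nat.card Y) := by
  obtain ⟨k, hk⟩ := IsPGroup.iff_card.mp
    (show IsPGroup t Y from fun y => ⟨1, by rw [pow_one]; exact Subtype.ext (hY y y.2)⟩)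
  rw [hk]
  exact ((ht.out.coprime_iff_not_dvd.mpr hn).pow_left k).symm

theorem not_dvd_card_of_pow {t r : ℕ} [ht : Fact t.Prime] [hr : Fact r.Prime] (htr : t ≠ r)
    {Y : Subgroup L} (hY : ∀ y ∈ Y, y ^ t = 1) : ¬ r ∣ Nat.card Y := by
  intro hd
  obtain ⟨y, hy⟩ := exists_prime_orderOf_dvd_card' r hd
  have h1 : (y : Y) ^ t = 1 := Subtype.ext (hY y y.2)
  have := orderOf_dvd_of_pow_eq_one h1
  rw [hy, Nat.prime_dvd_prime_iff_eq hr.out ht.out] at this
  exact htr this.symm

variable {V W : Type*} [CommGroup V] [Finite V] [MulDistribMulAction L V] [CommGroup W] [Finite W]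
  [MulDistribMulAction L W]

/-- A normal elementary abelian subgroup fixes no point. -/
theorem fixed_eq_bot {t r : ℕ} [ht : Fact t.Prime] [hr : Fact r.Prime] (htr : t ≠ r)
    (hV : ModHyp t r L V) (hW : ModHyp t r L W)
    (excl : ∀ e : L, (orderOf e).Prime → Fpf e V ∨ Fpf e W) {a b : L} (hp : Pair2 r a b)
    (Y : Subgroup L) [Y.Normal] (hY : ∀ y ∈ Y, y ^ t = 1)
    (hYc : ∀ x ∈ Y, ∀ y ∈ Y, Commute x y) (hY1 : Y ≠ ⊥) : fixedBy' V (Y : Set L) = ⊥ := by
  by_contra hne
  obtain ⟨v, hv, hv1⟩ := (Subgroup.ne_bot_iff_exists_ne_one).mp hne |>.elim fun x hx =>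
    (⟨x.1, x.2, fun e => hx (Subtype.ext e)⟩ : ∃ v ∈ fixedBy' V (Y : Set L), v ≠ 1)
  have hord : ∀ y ∈ Y, y ≠ 1 → orderOf y = t := fun y hy hy1 => orderOf_eq_prime (hY y hy) hy1
  have hWf : ∀ y ∈ Y, y ≠ 1 → Fpf y W := fun y hy hy1 => by
    rcases excl y (by rw [hord y hy hy1]; exact ht.out) with h | h
    · exact absurd (h v (hv y hy)) hv1
    · exact h
  obtain ⟨y', hy'⟩ := Subgroup.ne_bot_iff_exists_ne_one.mp hY1
  set y := (y' : L) with hydef
  have hy : y ∈ Y := y'.2
  have hy1 : y ≠ 1 := fun e => hy' (Subtype.ext e)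
  have hYy : ∀ z ∈ Y, z ∈ zpowers y := by
    intro z hz
    by_contra hzy
    have hz1 : z ≠ 1 := fun e => hzy (e ▸ one_mem _)
    have hp' : Pair2 t y z := ⟨hord y hy hy1, hord z hz hz1, hYc y hy z hz, hzy⟩
    haveI := hW.nontriv
    obtain ⟨e, he, he1, m, -, hm, hm1⟩ := hp'.exists_fixed hW.ht ⊤ (fun _ _ => mem_top _)
      (fun _ _ => mem_top _) top_ne_bot
    exact hm1 (hWf e (hp'.span_mem hy hz he) he1 m hm)
  have hinv : ∀ g : L, ∀ m ∈ fixedBy' V (Y : Set L), g • m ∈ fixedBy' V (Y : Set L) := by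
    intro g m hm z hz
    have := hm _ ((inferInstance : Y.Normal).conj_mem z hz g⁻¹)
    have e := congrArg (g • ·) this
    simpa [← mul_smul, mul_assoc] using e
  obtain ⟨e, he, he1, m, hm, hem, hm1⟩ := hp.exists_fixed hV.hr _ (hinv a) (hinv b) hne
  have heo : orderOf e = r := hp.span_order he he1
  by_cases hc : Commute y e
  · exact hm1 (hV.nf y e (hord y hy hy1) heo hc m (hm y hy) hem)
  have hfree : ∀ z ∈ Y, Commute e z → z = 1 := fun z hz hez => by
    by_contra hz1
    exact hc (commute_of_mem_zpowers (mem_zpowers_self' (hord y hy hy1) (hYy z hz) hz1) hez).symm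
  rcases excl e (by rw [heo]; exact hr.out) with h | h
  · exact hm1 (h m hem)
  · haveI := hW.nontriv
    obtain ⟨w, hw⟩ := exists_ne (1 : W)
    exact hw (hWf y hy hy1 w (frob_one Y heo (fun z hz => (inferInstance : Y.Normal).conj_mem z hz e)
      (coprime_of_pow hY hW.ht) hfree ⊤ (fun _ _ _ _ => mem_top _) (fun _ _ => mem_top _)
      (fun m _ hm => h m hm) y hy w (mem_top w)))

/-- A normal elementary abelian subgroup acts faithfully. -/
theorem eq_one_of_fixes {t r : ℕ} [ht : Fact t.Prime] [hr : Fact r.Prime] (htr : t ≠ r)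
    (hV : ModHyp t r L V) (hW : ModHyp t r L W)
    (excl : ∀ e : L, (orderOf e).Prime → Fpf e V ∨ Fpf e W) {a b : L} (hp : Pair2 r a b)
    (Y : Subgroup L) [hYn : Y.Normal] (hY : ∀ y ∈ Y, y ^ t = 1)
    (hYc : ∀ x ∈ Y, ∀ y ∈ Y, Commute x y) {z : L} (hz : z ∈ Y) (hzf : ∀ m : V, z • m = m) :
    z = 1 := by
  by_contra hz1
  let K : Subgroup L :=
    { carrier := {u | u ∈ Y ∧ ∀ m : V, u • m = m}
      one_mem' := ⟨one_mem _, fun m => one_smul _ m⟩
      mul_mem' := fun {u v} hu hv => ⟨mul_mem hu.1 hv.1, fun m => by rw [mul_smul, hv.2, hu.2]⟩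
      inv_mem' := fun {u} hu => ⟨inv_mem hu.1, fun m => by
        rw [inv_smul_eq_iff]; exact (hu.2 m).symm⟩ }
  haveI : K.Normal := ⟨fun u hu g => ⟨hYn.conj_mem u hu.1 g, fun m => by
    rw [mul_smul, mul_smul, hu.2, smul_inv_smul]⟩⟩
  have h := fixed_eq_bot (V := V) (W := W) htr hV hW excl hp K (fun u hu => hY u hu.1)
    (fun u hu w hw => hYc u hu.1 w hw.1)
    (fun hb => hz1 (mem_bot.mp (hb ▸ (⟨hz, hzf⟩ : z ∈ K))))
  haveI := hV.nontriv
  obtain ⟨m, hm⟩ := exists_ne (1 : V)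
  exact hm (mem_bot.mp (h ▸ (fun u hu => hu.2 m : m ∈ fixedBy' V (K : Set L))))

/-- A normal elementary abelian subgroup is cyclic, fixed point free and centralised by all
elements of order `r`. -/
theorem elem_cyclic {t r : ℕ} [ht : Fact t.Prime] [hr : Fact r.Prime] (htr : t ≠ r)
    (hV : ModHyp t r L V) (hW : ModHyp t r L W)
    (excl : ∀ e : L, (orderOf e).Prime → Fpf e V ∨ Fpf e W) {a b : L} (hp : Pair2 r a b)
    (Y : Subgroup L) [hYn : Y.Normal] (hY : ∀ y ∈ Y, y ^ t = 1)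
    (hYc : ∀ x ∈ Y, ∀ y ∈ Y, Commute x y) (hY1 : Y ≠ ⊥) :
    ∃ y ∈ Y, orderOf y = t ∧ Y = zpowers y ∧ Fpf y V ∧ Fpf y W ∧
      ∀ e : L, orderOf e = r → Commute e y := by
  have excl' : ∀ e : L, (orderOf e).Prime → Fpf e W ∨ Fpf e V := fun e he => (excl e he).symm
  have hfV := fixed_eq_bot htr hV hW excl hp Y hY hYc hY1
  have hord : ∀ y ∈ Y, y ≠ 1 → orderOf y = t := fun y hy hy1 => orderOf_eq_prime (hY y hy) hy1
  haveI hYm : IsMulCommutative Y := ⟨⟨fun u v => Subtype.ext (hYc u u.2 v v.2).eq⟩⟩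
  have hcomm : ∀ e : L, orderOf e = r → ∀ z ∈ Y, Commute z e := by
    intro e he z hz
    have hne : e ∈ normalizer (Y : Set L) := by
      rw [normalizer_eq_top_iff.mpr hYn]; exact mem_top _
    have hmem : ⁅z, e⁆ ∈ Y := by
      rw [commutatorElement_def, mul_assoc, mul_assoc]
      refine mul_mem hz ?_
      rw [← mul_assoc]
      exact hYn.conj_mem _ (inv_mem hz) e
    refine commutatorElement_eq_one_iff_commute.mp ?_
    rcases excl e (by rw [he]; exact hr.out) with h | h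
    · exact eq_one_of_fixes htr hV hW excl hp Y hY hYc hmem fun m =>
        comm_fixes_of_fpf Y he hne (not_dvd_card_of_pow htr hY) (coprime_of_pow hY hV.ht) h z hz m
    · exact eq_one_of_fixes htr hW hV excl' hp Y hY hYc hmem fun m =>
        comm_fixes_of_fpf Y he hne (not_dvd_card_of_pow htr hY) (coprime_of_pow hY hW.ht) h z hz m
  haveI := hV.nontriv
  obtain ⟨e, he, he1, m, -, hem, hm1⟩ := hp.exists_fixed hV.hr ⊤ (fun _ _ => mem_top _)
    (fun _ _ => mem_top _) top_ne_bot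
  have heo := hp.span_order he he1
  obtain ⟨y', hy'⟩ := Subgroup.ne_bot_iff_exists_ne_one.mp hY1
  set y := (y' : L) with hydef
  have hy : y ∈ Y := y'.2
  have hy1 : y ≠ 1 := fun e => hy' (Subtype.ext e)
  have hYy : Y = zpowers y := by
    refine le_antisymm (fun z hz => ?_) (zpowers_le.mpr hy)
    by_contra hzy
    have hz1 : z ≠ 1 := fun e => hzy (e ▸ one_mem _)
    have hp' : Pair2 t y z := ⟨hord y hy hy1, hord z hz hz1, hYc y hy z hz, hzy⟩
    have hmS : m ∈ fixedBy' V ({e} : Set L) := fun u hu => by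
      rw [Set.mem_singleton_iff.mp hu]; exact hem
    obtain ⟨f, hf, hf1, n, hn, hfn, hn1⟩ := hp'.exists_fixed hV.ht (fixedBy' V ({e} : Set L))
      (fun n hn u hu => by
        rw [Set.mem_singleton_iff.mp hu]
        exact smul_fixed_of_commute (hcomm e heo y hy) (hn e rfl))
      (fun n hn u hu => by
        rw [Set.mem_singleton_iff.mp hu]
        exact smul_fixed_of_commute (hcomm e heo z hz) (hn e rfl))
      (fun hb => hm1 (mem_bot.mp (hb ▸ hmS)))
    have hfY := hp'.span_mem hy hz hf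
    exact hn1 (hV.nf f e (hord f hfY hf1) heo (hcomm e heo f hfY) n hfn (hn e rfl))
  have hfW := fixed_eq_bot htr hW hV excl' hp Y hY hYc hY1
  refine ⟨y, hy, hord y hy hy1, hYy, fun n hn => ?_, fun n hn => ?_,
    fun e he => (hcomm e he y hy).symm⟩
  · exact mem_bot.mp (hfV ▸ (fun z hz => smul_eq_of_mem_zpowers (hYy ▸ hz) hn :
      n ∈ fixedBy' V (Y : Set L)))
  · exact mem_bot.mp (hfW ▸ (fun z hz => smul_eq_of_mem_zpowers (hYy ▸ hz) hn :
      n ∈ fixedBy' W (Y : Set L)))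

/-- A `t`-subgroup with socle of the centre fixed point free on both has rank one. -/
theorem socle_unique {t r : ℕ} [ht : Fact t.Prime] (hV : ModHyp t r L V) (hW : ModHyp t r L W)
    (excl : ∀ e : L, (orderOf e).Prime → Fpf e V ∨ Fpf e W) (P : Subgroup L) (hP : IsPGroup t P)
    {y : L} (hyP : y ∈ P) (hy : orderOf y = t) (hyc : ∀ g ∈ P, Commute g y) (hyV : Fpf y V)
    (hyW : Fpf y W)
    (hΩ : ∀ z ∈ P, (∀ g ∈ P, Commute g z) → z ^ t = 1 → z ∈ zpowers y) :
    ∀ x ∈ P, x ^ t = 1 → x ∈ zpowers y := by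
  intro x0 hx0 hx0t
  by_contra hx0y
  have hco : ∀ {u w : P}, (u : L) ∈ zpowers (w : L) ↔ u ∈ zpowers w := by
    intro u w
    constructor
    · rintro ⟨k, hk⟩
      exact ⟨k, Subtype.ext (by simpa using hk)⟩
    · rintro ⟨k, rfl⟩
      exact ⟨k, by simp⟩
  obtain ⟨x, hxo, hxy, htr'⟩ := exists_conj_translate (G := P) hP (y := ⟨y, hyP⟩)
    (by rw [Subgroup.orderOf_mk]; exact hy) (fun g => Subtype.ext (hyc g g.2).eq)
    (fun z hzc hzt => hco.mp (hΩ z z.2 (fun g hg => congrArg Subtype.val (hzc ⟨g, hg⟩).eq)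
      (by simpa using congrArg Subtype.val hzt)))
    (x0 := ⟨x0, hx0⟩) (Subtype.ext (by simpa using hx0t)) (fun h => hx0y (hco.mpr h))
  have hxy' : (x : L) ∉ zpowers y := fun h => hxy (hco.mp h)
  have hxoL : orderOf (x : L) = t := by rw [orderOf_coe]; exact hxo
  have hpair : Pair2 t (x : L) y := by
    refine Pair2.symm ⟨hy, hxoL, (hyc _ x.2).symm, hxy'⟩
  have htr2 : ∀ w ∈ zpowers y, ∃ g : L, g * x * g⁻¹ = x * w ∧ Commute g y := by
    intro w hw
    have hwP : w ∈ P := zpowers_le.mpr hyP hw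
    obtain ⟨g, hg⟩ := htr' ⟨w, hwP⟩ (hco.mp hw)
    exact ⟨g, congrArg Subtype.val hg, hyc g g.2⟩
  rcases excl (x : L) (by rw [hxoL]; exact ht.out) with h | h
  · haveI := hV.nontriv
    obtain ⟨m, hm⟩ := exists_ne (1 : V)
    exact hm (hyV m (translate_fixed hpair hV.ht htr2
      (fun n hn => by rw [h n hn, smul_one]) m))
  · haveI := hW.nontriv
    obtain ⟨m, hm⟩ := exists_ne (1 : W)
    exact hm (hyW m (translate_fixed hpair hW.ht htr2
      (fun n hn => by rw [h n hn, smul_one]) m))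

/-- the elements of order dividing `t` in the centre of a normal subgroup -/
def socleCenter (t : ℕ) (N : Subgroup L) : Subgroup L where
  carrier := {z | z ∈ N ∧ (∀ g ∈ N, Commute g z) ∧ z ^ t = 1}
  one_mem' := ⟨one_mem _, fun g _ => Commute.one_right g, one_pow _⟩
  mul_mem' {u v} hu hv := ⟨mul_mem hu.1 hv.1, fun g hg => (hu.2.1 g hg).mul_right (hv.2.1 g hg),
    by rw [(hv.2.1 u hu.1).mul_pow, hu.2.2, hv.2.2, one_mul]⟩
  inv_mem' {u} hu := ⟨inv_mem hu.1, fun g hg => (hu.2.1 g hg).inv_right,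
    by rw [inv_pow, hu.2.2, inv_one]⟩

theorem socleCenter_normal (t : ℕ) (N : Subgroup L) [hN : N.Normal] : (socleCenter t N).Normal := by
  refine ⟨fun z hz g => ⟨hN.conj_mem z hz.1 g, fun n hn => ?_, ?_⟩⟩
  · have h := (hz.2.1 _ (hN.conj_mem n hn g⁻¹)).eq
    have e := congrArg (fun u => g * u * g⁻¹) h
    change n * _ = _ * n
    simpa [mul_assoc] using e
  · rw [conj_pow, hz.2.2, mul_one, mul_inv_cancel]

theorem socleCenter_ne_bot {t : ℕ} [ht : Fact t.Prime] {N : Subgroup L} (hN : IsPGroup t N)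
    (hne : N ≠ ⊥) : socleCenter t N ≠ ⊥ := by
  haveI : Nontrivial N := N.nontrivial_iff_ne_bot.mpr hne
  haveI := hN.center_nontrivial
  obtain ⟨z, hz⟩ : ∃ z : center (N : Type _), orderOf z = t :=
    exists_prime_orderOf_dvd_card' t (by
      obtain ⟨k, hk⟩ := IsPGroup.iff_card.mp (hN.to_subgroup (center (N : Type _)))
      rw [hk]
      refine dvd_pow_self t fun h0 => ?_
      rw [h0, pow_zero] at hk
      exact (Finite.one_lt_card (α := center (N : Type _))).ne' hk)
  intro hb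
  have hmem : ((z : N) : L) ∈ socleCenter t N := by
    refine ⟨(z : N).2, fun g hg => congrArg Subtype.val (mem_center_iff.mp z.2 ⟨g, hg⟩), ?_⟩
    have := congrArg (fun u : center (N : Type _) => ((u : N) : L)) (hz ▸ pow_orderOf_eq_one z)
    simpa using this
  rw [hb, mem_bot] at hmem
  have : z = 1 := Subtype.ext (Subtype.ext hmem)
  rw [this, orderOf_one] at hz
  exact ht.out.ne_one hz.symm

/-- No solvable `{t,r}`-group with pairs for both primes acts so. -/
theorem caseA [Group.IsSolvable L] {t r : ℕ} [ht : Fact t.Prime] [hr : Fact r.Prime] (htr : t ≠ r)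
    (hprimes : ∀ s : ℕ, s.Prime → s ∣ Nat.card L → s = t ∨ s = r)
    (hV : ModHyp t r L V) (hW : ModHyp t r L W)
    (excl : ∀ e : L, (orderOf e).Prime → Fpf e V ∨ Fpf e W)
    {a b : L} (hpt : Pair2 t a b) {c d : L} (hpr : Pair2 r c d)
    (hT0 : Cfsg.pCore t L ≠ ⊥) (hR0 : Cfsg.pCore r L = ⊥ ∨ r ≠ 2) : False := by
  haveI := HallCore.pCore_normal t L
  haveI := HallCore.pCore_normal r L
  haveI := socleCenter_normal t (Cfsg.pCore t L)
  haveI := socleCenter_normal r (Cfsg.pCore r L)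
  have hTp := HallCore.isPGroup_pCore t L
  have hRp := HallCore.isPGroup_pCore r L
  obtain ⟨y, hyS, hy, hSy, hyV, hyW, hyr⟩ := elem_cyclic htr hV hW excl hpr
    (socleCenter t (Cfsg.pCore t L)) (fun z hz => hz.2.2) (fun u hu v hv => (hv.2.1 u hu.1))
    (socleCenter_ne_bot hTp hT0)
  obtain ⟨x, hx, hxy⟩ : ∃ x : L, orderOf x = t ∧ x ∉ zpowers y := by
    by_cases ha : a ∈ zpowers y
    · exact ⟨b, hpt.2.1, fun hb => hpt.2.2.2
        ((zpowers_le.mpr (mem_zpowers_self' hy ha hpt.left_ne)) hb)⟩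
    · exact ⟨a, hpt.1, ha⟩
  obtain ⟨T, hxT⟩ := (IsPGroup.of_card (p := t) (n := 1)
    (by rw [Nat.card_zpowers, hx, pow_one]) : IsPGroup t (zpowers x)).exists_le_sylow
  have hT0T : Cfsg.pCore t L ≤ T := HallCore.pCore_le_sylow T
  have hyT : y ∈ (T : Subgroup L) := hT0T hyS.1
  have hyc : ∀ g ∈ (T : Subgroup L), Commute g y := by
    intro g hg
    haveI : ((zpowers y).subgroupOf (T : Subgroup L)).Normal := by
      rw [← hSy]; infer_instance
    have hcard : Nat.card ((zpowers y).subgroupOf (T : Subgroup L)) = t := by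
      rw [Nat.card_congr (subgroupOfEquivOfLe (zpowers_le.mpr hyT)).toEquiv, Nat.card_zpowers, hy]
    have := PGroupsBasic.le_center_of_card_eq_prime T.2 hcard
      (show (⟨y, hyT⟩ : (T : Subgroup L)) ∈ _ from mem_subgroupOf.mpr (mem_zpowers y))
    exact congrArg Subtype.val (mem_center_iff.mp this ⟨g, hg⟩)
  refine hxy (socle_unique hV hW excl (T : Subgroup L) T.2 hyT hy hyc hyV hyW (fun z hz hzc hzt => ?_)
    x (hxT (mem_zpowers x)) (hx ▸ pow_orderOf_eq_one x))
  by_cases hz1 : z = 1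
  · rw [hz1]; exact one_mem _
  have hzo : orderOf z = t := orderOf_eq_prime hzt hz1
  have hzT : ∀ g ∈ Cfsg.pCore t L, Commute z g := fun g hg => (hzc g (hT0T hg)).symm
  have hzR : ∀ g ∈ Cfsg.pCore r L, Commute z g := by
    intro g hg
    by_cases hR : Cfsg.pCore r L = ⊥
    · rw [hR, mem_bot] at hg
      rw [hg]; exact Commute.one_right z
    have hr2 : r ≠ 2 := hR0.resolve_left hR
    obtain ⟨y', hy'S, hy', hSy', hy'V, hy'W, hy't⟩ := elem_cyclic htr.symm hV.symm hW.symm excl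
      hpt (socleCenter r (Cfsg.pCore r L)) (fun u hu => hu.2.2)
      (fun u hu v hv => (hv.2.1 u hu.1)) (socleCenter_ne_bot hRp hR)
    refine OmegaCoprime.commute_of_forall_pow_eq_one hr2
      (by rw [hzo]; exact (Nat.coprime_primes ht.out hr.out).mpr htr) _ hRp
      (fun u hu => (HallCore.pCore_normal r L).conj_mem u hu z) (fun u hu hur => ?_) g hg
    refine commute_of_mem_zpowers (socle_unique hV.symm hW.symm excl (Cfsg.pCore r L) hRp hy'S.1 hy'
      hy'S.2.1 hy'V hy'W (fun w hw hwc hwt => hSy' ▸ (⟨hw, hwc, hwt⟩ :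
        w ∈ socleCenter r (Cfsg.pCore r L))) u hu hur) (hy't z hzo)
  set F := Cfsg.fittingSubgroup L with hF
  set C := centralizer (F : Set L) with hC
  have hzC : z ∈ C := by
    have hle : F ≤ centralizer ({z} : Set L) := by
      rw [hF, ComponentsFitting.fittingSubgroup_eq_iSup]
      refine iSup_le fun s g hg => mem_centralizer_iff.mpr fun u hu => ?_
      rw [Set.mem_singleton_iff.mp hu]
      rcases hprimes s (Nat.prime_of_mem_primeFactors s.2) (Nat.dvd_of_mem_primeFactors s.2)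
        with hs | hs
      · exact (hzT g (hs ▸ hg)).eq
      · exact (hzR g (hs ▸ hg)).eq
    exact mem_centralizer_iff.mpr fun g hg => (mem_centralizer_iff.mp (hle hg) z rfl).symm
  haveI : F.Normal := by rw [hF]; infer_instance
  haveI hCn : C.Normal := by rw [hC]; infer_instance
  have hCF : C ≤ F := HallSolvable.centralizer_fitting_le
  let K : Subgroup L :=
    { carrier := {u | u ∈ C ∧ u ^ t = 1}
      one_mem' := ⟨one_mem _, one_pow _⟩
      mul_mem' := fun {u v} hu hv => ⟨mul_mem hu.1 hv.1, by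
        have h : Commute u v := mem_centralizer_iff.mp hv.1 u (hCF hu.1)
        rw [h.mul_pow, hu.2, hv.2, one_mul]⟩
      inv_mem' := fun {u} hu => ⟨inv_mem hu.1, by rw [inv_pow, hu.2, inv_one]⟩ }
  haveI : K.Normal := ⟨fun u hu g => ⟨hCn.conj_mem u hu.1 g, by
    rw [conj_pow, hu.2, mul_one, mul_inv_cancel]⟩⟩
  have hKT : K ≤ Cfsg.pCore t L := HallCore.le_pCore
    (fun u => ⟨1, by rw [pow_one]; exact Subtype.ext u.2.2⟩)
  exact hSy ▸ (⟨hKT ⟨hzC, hzt⟩, fun g hg => (hzT g hg).symm, hzt⟩ :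
    z ∈ socleCenter t (Cfsg.pCore t L))

end Cfsg.Agent.FourPrimes
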