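import Cfsg.Agent.Lib.FourPrimesMain
import Cfsg.Agent.Lib.HallTheorem
import Cfsg.Agent.Lib.OmegaCoprime
import Cfsg.Agent.Lib.OddLocalBase

/-!
# A three-prime group acting faithfully, with no two-prime element fixing a point
-/

set_option autoImplicit false
set_option linter.style.haveILetI false
set_option linter.unusedSectionVars false
set_option linter.unusedVariables false

open scoped commutatorElement

namespace Cfsg.Agent.FourPrimes

open Subgroup

/-- A pair passes to every Hall subgroup for a set containing its prime. -/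
theorem pair_in_hall {G : Type*} [Group G] [Finite G] [Group.IsSolvable G] {π : Set ℕ}
    {H : Subgroup G} (hH : Cfsg.IsPiHall π H) {x : ℕ} [hx : Fact x.Prime] (hxπ : x ∈ π) {a b : G}
    (hp : Pair2 x a b) : ∃ a' b' : H, Pair2 x a' b' := by
  have hU : Cfsg.Agent.HallCore.PiNat π (Nat.card (CoprimeGen.pairSubgroup a b hp.2.2.1)) := by
    intro s hs hd
    have h1 := hd.trans (CoprimeGen.card_pairSubgroup_dvd a b hp.2.2.1)
    have ea := hp.1
    have eb := hp.2.1
    rw [ea, eb, hs.dvd_mul, Nat.prime_dvd_prime_iff_eq hs hx.out, or_self] at h1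
    exact h1 ▸ hxπ
  obtain ⟨g, hg⟩ := HallTheorem.le_conj_isPiHall (HallSolvable.isPiSeparable_of_solvable π)
    (HallTheorem.complSolvable_of_solvable π) hU hH
  have hmem : ∀ u ∈ CoprimeGen.pairSubgroup a b hp.2.2.1, (MulAut.conj g)⁻¹ u ∈ H := fun u hu =>
    Subgroup.mem_pointwise_smul_iff_inv_smul_mem.mp (hg hu)
  refine ⟨⟨_, hmem a (CoprimeGen.left_mem_pairSubgroup a b hp.2.2.1)⟩,
    ⟨_, hmem b (CoprimeGen.right_mem_pairSubgroup a b hp.2.2.1)⟩, ?_, ?_, ?_, ?_⟩
  · rw [orderOf_mk, MulEquiv.orderOf_eq, hp.1]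
  · rw [orderOf_mk, MulEquiv.orderOf_eq, hp.2.1]
  · exact Subtype.ext (hp.2.2.1.map ((MulAut.conj g)⁻¹)).eq
  · rintro ⟨k, hk⟩
    refine hp.2.2.2 ⟨k, ?_⟩
    have hk' : ((MulAut.conj g)⁻¹ a) ^ k = (MulAut.conj g)⁻¹ b := by
      simpa using congrArg Subtype.val hk
    exact ((MulAut.conj g)⁻¹).injective (by rw [map_zpow, hk'])

/-- An element of prime order lies in a pair. -/
theorem exists_partner {G : Type*} [Group G] [Finite G] {x : ℕ} [hx : Fact x.Prime] {a b e : G}
    (hp : Pair2 x a b) (he : orderOf e = x) : ∃ f : G, Pair2 x e f := by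
  by_contra hno
  have he' : IsPGroup x (zpowers e) :=
    IsPGroup.of_card (n := 1) (by rw [Nat.card_zpowers, he, pow_one])
  obtain ⟨R, heR⟩ := he'.exists_le_sylow
  have heR' : e ∈ (R : Subgroup G) := heR (mem_zpowers e)
  obtain ⟨z, hz, hzc, hzt⟩ : ∃ z : G, z ∈ (R : Subgroup G) ∧
      (∀ g ∈ (R : Subgroup G), Commute g z) ∧ orderOf z = x := by
    obtain ⟨z, hz⟩ := Subgroup.ne_bot_iff_exists_ne_one.mp
      (socleCenter_ne_bot (t := x) R.2 (fun h => by
        rw [h, mem_bot] at heR'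
        rw [heR', orderOf_one] at he
        exact hx.out.ne_one he.symm))
    exact ⟨z, z.2.1, z.2.2.1, orderOf_eq_prime z.2.2.2 (fun h => hz (Subtype.ext h))⟩
  have hze : z ∈ zpowers e := by
    by_contra h
    exact hno ⟨z, he, hzt, hzc e heR', h⟩
  have hez : e ∈ zpowers z := mem_zpowers_self' he hze (fun h => hx.out.ne_one
    (by rw [← hzt, h, orderOf_one]))
  have hall : ∀ u ∈ (R : Subgroup G), orderOf u = x → u ∈ zpowers e := fun u hu huo => by
    by_contra h
    exact hno ⟨u, he, huo, (commute_of_mem_zpowers hez (hzc u hu)).symm, h⟩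
  obtain ⟨a', b', hp'⟩ : ∃ a' b' : G, Pair2 x a' b' ∧ a' ∈ (R : Subgroup G) ∧ b' ∈ (R : Subgroup G) := by
    have hq : IsPGroup x (CoprimeGen.pairSubgroup a b hp.2.2.1) := fun u => ⟨1, by
      rw [pow_one]
      exact Subtype.ext (hp.span_pow (hp.span_mem_pair u.2))⟩
    obtain ⟨R', hR'⟩ := hq.exists_le_sylow
    obtain ⟨g, hg⟩ := MulAction.exists_smul_eq G R' R
    have hmem : ∀ u ∈ (R' : Subgroup G), MulAut.conj g u ∈ (R : Subgroup G) := fun u hu => by
      rw [← hg]
      exact ⟨u, hu, rfl⟩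
    refine ⟨MulAut.conj g a, MulAut.conj g b, ⟨?_, ?_, hp.2.2.1.map _, ?_⟩,
      hmem a (hR' (CoprimeGen.left_mem_pairSubgroup a b hp.2.2.1)),
      hmem b (hR' (CoprimeGen.right_mem_pairSubgroup a b hp.2.2.1))⟩
    · rw [MulEquiv.orderOf_eq, hp.1]
    · rw [MulEquiv.orderOf_eq, hp.2.1]
    · rintro ⟨k, hk⟩
      exact hp.2.2.2 ⟨k, (MulAut.conj g).injective (by rw [map_zpow]; exact hk)⟩
  obtain ⟨hp'', ha', hb'⟩ := hp'
  exact hp''.2.2.2 ((zpowers_le.mpr (mem_zpowers_self' he (hall a' ha' hp''.1) hp''.left_ne))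
    (hall b' hb' hp''.2.1))

variable {K : Type*} [Group K] [Finite K] {M : Type*} [CommGroup M] [Finite M]
  [MulDistribMulAction K M]

/-- the hypotheses -/
structure Three (K M : Type*) [Group K] [Finite K] [CommGroup M] [MulDistribMulAction K M] :
    Prop where
  faith : ∀ g : K, (∀ m : M, g • m = m) → g = 1
  nt : ∀ a b c : K, (orderOf a).Prime → (orderOf b).Prime → (orderOf c).Prime →
    orderOf a ≠ orderOf b → orderOf b ≠ orderOf c → orderOf a ≠ orderOf c →
    Commute a b → Commute a c → Commute b c → False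
  nf : ∀ a b : K, (orderOf a).Prime → (orderOf b).Prime → orderOf a ≠ orderOf b → Commute a b →
    ∀ m : M, a • m = m → b • m = m → m = 1
  cop : ∀ s : ℕ, s.Prime → s ∣ Nat.card K → ¬ s ∣ Nat.card M
  three : ∃ p1 p2 p3 : ℕ, p1 ≠ p2 ∧ p1 ≠ p3 ∧ p2 ≠ p3 ∧
    ∀ s : ℕ, (s.Prime ∧ s ∣ Nat.card K) ↔ (s = p1 ∨ s = p2 ∨ s = p3)
  rank : ∀ s : ℕ, s.Prime → s ∣ Nat.card K → ∃ a b : K, Pair2 s a b
  edge : ∀ s s' : ℕ, s.Prime → s ∣ Nat.card K → s'.Prime → s' ∣ Nat.card K → s ≠ s' →
    ∃ a b : K, orderOf a = s ∧ orderOf b = s' ∧ Commute a b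

theorem Three.others (h : Three K M) {q : ℕ} (hq : q.Prime) (hqd : q ∣ Nat.card K) :
    ∃ t r : ℕ, t.Prime ∧ r.Prime ∧ t ∣ Nat.card K ∧ r ∣ Nat.card K ∧ q ≠ t ∧ q ≠ r ∧ t ≠ r ∧
      ∀ s : ℕ, s.Prime → s ∣ Nat.card K → s = q ∨ s = t ∨ s = r := by
  obtain ⟨p1, p2, p3, h12, h13, h23, hiff⟩ := h.three
  obtain ⟨P1, D1⟩ := (hiff p1).mpr (Or.inl rfl)
  obtain ⟨P2, D2⟩ := (hiff p2).mpr (Or.inr (Or.inl rfl))
  obtain ⟨P3, D3⟩ := (hiff p3).mpr (Or.inr (Or.inr rfl))
  have hall := fun (s : ℕ) (hs : s.Prime) (hd : s ∣ Nat.card K) => (hiff s).mp ⟨hs, hd⟩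
  rcases hall q hq hqd with rfl | rfl | rfl
  · exact ⟨p2, p3, P2, P3, D2, D3, h12, h13, h23, hall⟩
  · refine ⟨p1, p3, P1, P3, D1, D3, h12.symm, h23, h13, fun s hs hd => ?_⟩
    rcases hall s hs hd with h | h | h
    exacts [Or.inr (Or.inl h), Or.inl h, Or.inr (Or.inr h)]
  · refine ⟨p1, p2, P1, P2, D1, D2, h13.symm, h23.symm, h12, fun s hs hd => ?_⟩
    rcases hall s hs hd with h | h | h
    exacts [Or.inr (Or.inl h), Or.inr (Or.inr h), Or.inl h]

theorem dvd_of_order {t : ℕ} {a : K} (ha : orderOf a = t) : t ∣ Nat.card K :=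
  ha ▸ orderOf_dvd_natCard a

/-- the key alternative -/
theorem split_key (h : Three K M) {q t r : ℕ} [hq : Fact q.Prime] [ht : Fact t.Prime]
    [hr : Fact r.Prime] (hqt : q ≠ t) (hqr : q ≠ r) (htr : t ≠ r) (hqd : q ∣ Nat.card K)
    (Z : Subgroup K) [hZn : Z.Normal] (hZ : ∀ z ∈ Z, z ^ q = 1)
    (hZc : ∀ x ∈ Z, ∀ y ∈ Z, Commute x y) {a b : K} (ha : orderOf a = t) (hb : orderOf b = r)
    (hab : Commute a b) {z : K} (hz : z ∈ Z) (hz1 : z ≠ 1) (haz : Commute a z) :
    (∀ w ∈ Z, Commute a w) ∧ Fpf a M ∧ ∀ w ∈ Z, Commute b w → w = 1 := by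
  have hord : ∀ w ∈ Z, w ≠ 1 → orderOf w = q := fun w hw hw1 => orderOf_eq_prime (hZ w hw) hw1
  have hqM := h.cop q hq.out hqd
  have hfa : Fpf a M := by
    intro m hm
    let X : Subgroup K := Z ⊓ centralizer ({a} : Set K)
    have hX : ∀ w ∈ X, Commute a w := fun w hw => (mem_centralizer_iff.mp hw.2 a rfl)
    have hmS : m ∈ fixedBy' M ({a} : Set K) := fun u hu => by
      rw [Set.mem_singleton_iff.mp hu]; exact hm
    have hzm := frob_one (r := r) X hb (fun w hw => ⟨hZn.conj_mem w hw.1 b,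
        mem_centralizer_iff.mpr fun u hu => by
          rw [Set.mem_singleton_iff.mp hu]
          exact ((hab.mul_right (hX w hw)).mul_right hab.inv_right).eq⟩)
      (coprime_of_pow (t := q) (fun w hw => hZ w hw.1) hqM)
      (fun w hw hbw => Classical.byContradiction fun hw1 => h.nt w a b
        (by rw [hord w hw.1 hw1]; exact hq.out) (by rw [ha]; exact ht.out)
        (by rw [hb]; exact hr.out) (by rw [hord w hw.1 hw1, ha]; exact hqt)
        (by rw [ha, hb]; exact htr) (by rw [hord w hw.1 hw1, hb]; exact hqr)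
        (hX w hw).symm hbw.symm hab)
      (fixedBy' M ({a} : Set K))
      (fun w hw n hn u hu => by
        rw [Set.mem_singleton_iff.mp hu]; exact smul_fixed_of_commute (hX w hw).symm (hn a rfl))
      (fun n hn u hu => by
        rw [Set.mem_singleton_iff.mp hu]; exact smul_fixed_of_commute hab.symm (hn a rfl))
      (fun n hn hbn => h.nf a b (by rw [ha]; exact ht.out) (by rw [hb]; exact hr.out)
        (by rw [ha, hb]; exact htr) hab n (hn a rfl) hbn)
      z ⟨hz, mem_centralizer_iff.mpr fun u hu => by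
        rw [Set.mem_singleton_iff.mp hu]; exact haz.eq⟩ m hmS
    exact h.nf z a (by rw [hord z hz hz1]; exact hq.out) (by rw [ha]; exact ht.out)
      (by rw [hord z hz hz1, ha]; exact hqt) haz.symm m hzm hm
  haveI : IsMulCommutative Z := ⟨⟨fun u v => Subtype.ext (hZc u u.2 v v.2).eq⟩⟩
  have hcen : ∀ w ∈ Z, Commute a w := by
    intro w hw
    refine (commutatorElement_eq_one_iff_commute.mp (h.faith _ fun m =>
      comm_fixes_of_fpf Z ha (by rw [normalizer_eq_top_iff.mpr hZn]; exact mem_top _)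
        (not_dvd_card_of_pow hqt hZ) (coprime_of_pow hZ hqM) hfa w hw m)).symm
  exact ⟨hcen, hfa, fun w hw hbw => Classical.byContradiction fun hw1 => h.nt w a b
    (by rw [hord w hw hw1]; exact hq.out) (by rw [ha]; exact ht.out) (by rw [hb]; exact hr.out)
    (by rw [hord w hw hw1, ha]; exact hqt) (by rw [ha, hb]; exact htr)
    (by rw [hord w hw hw1, hb]; exact hqr) (hcen w hw).symm hbw.symm hab⟩

/-- exactly one member of a commuting pair centralises `Z` -/
theorem pair_split (h : Three K M) {q t r : ℕ} [hq : Fact q.Prime] [ht : Fact t.Prime]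
    [hr : Fact r.Prime] (hqt : q ≠ t) (hqr : q ≠ r) (htr : t ≠ r) (hqd : q ∣ Nat.card K)
    (Z : Subgroup K) [hZn : Z.Normal] (hZ : ∀ z ∈ Z, z ^ q = 1)
    (hZc : ∀ x ∈ Z, ∀ y ∈ Z, Commute x y) (hZ1 : Z ≠ ⊥) {a b : K} (ha : orderOf a = t)
    (hb : orderOf b = r) (hab : Commute a b) :
    ((∀ w ∈ Z, Commute a w) ∧ Fpf a M ∧ ∀ w ∈ Z, Commute b w → w = 1) ∨
    ((∀ w ∈ Z, Commute b w) ∧ Fpf b M ∧ ∀ w ∈ Z, Commute a w → w = 1) := by
  by_cases h1 : ∃ z ∈ Z, z ≠ 1 ∧ Commute a z
  · obtain ⟨z, hz, hz1, haz⟩ := h1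
    exact Or.inl (split_key h hqt hqr htr hqd Z hZ hZc ha hb hab hz hz1 haz)
  by_cases h2 : ∃ z ∈ Z, z ≠ 1 ∧ Commute b z
  · obtain ⟨z, hz, hz1, hbz⟩ := h2
    exact Or.inr (split_key h hqr hqt htr.symm hqd Z hZ hZc hb ha hab.symm hz hz1 hbz)
  exfalso
  obtain ⟨z, hz⟩ := Subgroup.ne_bot_iff_exists_ne_one.mp hZ1
  refine hz (Subtype.ext (h.faith z fun m => frob Z (CoprimeGen.pairSubgroup a b hab)
    (fun c _ w hw => hZn.conj_mem w hw c) (coprime_of_pow hZ (h.cop q hq.out hqd)) ?_ ⊤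
    (fun _ _ _ _ => mem_top _) (fun _ _ _ _ => mem_top _)
    (fun n _ hn => h.nf a b (by rw [ha]; exact ht.out) (by rw [hb]; exact hr.out)
      (by rw [ha, hb]; exact htr) hab n (hn a (CoprimeGen.left_mem_pairSubgroup a b hab))
      (hn b (CoprimeGen.right_mem_pairSubgroup a b hab))) z z.2 m (mem_top m)))
  intro c hc hc1 w hw hcw
  by_contra hw1
  obtain ⟨i, j, rfl⟩ := CoprimeGen.mem_pairSubgroup_iff.mp hc
  by_cases hbj : b ^ j = 1
  · rw [hbj, mul_one] at hc1 hcw
    exact h1 ⟨w, hw, hw1, (commute_of_mem_zpowers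
      (mem_zpowers_self' ha (zpow_mem (mem_zpowers a) i) hc1) hcw.symm).symm⟩
  · have hat : (a ^ i) ^ t = 1 := by
      rw [← zpow_natCast, ← zpow_mul, mul_comm, zpow_mul, zpow_natCast, ← ha, pow_orderOf_eq_one,
        one_zpow]
    have hpw : (a ^ i * b ^ j) ^ t = (b ^ j) ^ t := by
      rw [(hab.zpow_zpow i j).mul_pow, hat, one_mul]
    have hne : (b ^ j) ^ t ≠ 1 := by
      intro e
      have h3 : (b ^ j) ^ r = 1 := by
        rw [← zpow_natCast, ← zpow_mul, mul_comm, zpow_mul, zpow_natCast, ← hb, pow_orderOf_eq_one,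
          one_zpow]
      have := pow_gcd_eq_one.mpr ⟨e, h3⟩
      rw [(Nat.coprime_primes ht.out hr.out).mpr htr, pow_one] at this
      exact hbj this
    have hcw' : Commute ((b ^ j) ^ t) w := hpw ▸ hcw.pow_left t
    exact h2 ⟨w, hw, hw1, (commute_of_mem_zpowers
      (mem_zpowers_self' hb (pow_mem (zpow_mem (mem_zpowers b) j) t) hne) hcw'.symm).symm⟩

/-- No noncyclic normal elementary abelian subgroup. -/
theorem no_noncyclic [Group.IsSolvable K] (h : Three K M) {q : ℕ} [hq : Fact q.Prime]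
    (Z : Subgroup K) [hZn : Z.Normal] (hZ : ∀ z ∈ Z, z ^ q = 1)
    (hZc : ∀ x ∈ Z, ∀ y ∈ Z, Commute x y) {z1 z2 : K} (h1 : z1 ∈ Z) (h2 : z2 ∈ Z)
    (hzp : Pair2 q z1 z2) : False := by
  have hqd : q ∣ Nat.card K := dvd_of_order hzp.1
  obtain ⟨t, r, htp, hrp, htd, hrd, hqt, hqr, htr, hall⟩ := h.others hq.out hqd
  haveI := Fact.mk htp
  haveI := Fact.mk hrp
  have hZ1 : Z ≠ ⊥ := fun hb => hzp.left_ne (mem_bot.mp (hb ▸ h1))
  obtain ⟨a, b, ha, hb, hab⟩ := h.edge t r htp htd hrp hrd htr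
  suffices ∀ (t r : ℕ) [Fact t.Prime] [Fact r.Prime], q ≠ t → q ≠ r → t ≠ r →
      t ∣ Nat.card K → r ∣ Nat.card K →
      (∀ s : ℕ, s.Prime → s ∣ Nat.card K → s = q ∨ s = t ∨ s = r) →
      ∀ a b : K, orderOf a = t → orderOf b = r → Commute a b → (∀ w ∈ Z, Commute a w) → False by
    rcases pair_split h hqt hqr htr hqd Z hZ hZc hZ1 ha hb hab with ⟨hc, -, -⟩ | ⟨hc, -, -⟩
    · exact this t r hqt hqr htr htd hrd hall a b ha hb hab hc
    · exact this r t hqr hqt htr.symm hrd htd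
        (fun s hs hd => (hall s hs hd).imp_right Or.symm) b a hb ha hab.symm hc
  clear! t r
  intro t r ht hr hqt hqr htr htd hrd hall a b ha hb hab haZ
  have hU : Cfsg.Agent.HallCore.PiNat {s | s = t ∨ s = r}
      (Nat.card (CoprimeGen.pairSubgroup a b hab)) := by
    intro s hs hd
    have h1 := hd.trans (CoprimeGen.card_pairSubgroup_dvd a b hab)
    rw [ha, hb, hs.dvd_mul] at h1
    exact h1.imp (Nat.prime_dvd_prime_iff_eq hs ht.out).mp (Nat.prime_dvd_prime_iff_eq hs hr.out).mp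
  obtain ⟨L, hL, hUL⟩ := HallTheorem.exists_isPiHall_ge_of_solvable hU
  letI : CommGroup Z :=
    { (inferInstance : Group Z) with mul_comm := fun u v => Subtype.ext (hZc u u.2 v v.2).eq }
  letI : MulDistribMulAction L Z := MulDistribMulAction.compHom _
    ((MulAut.conjNormal : K →* MulAut Z).comp L.subtype)
  have hact : ∀ (g : L) (w : Z), ((g • w : Z) : K) = (g : K) * w * (g : K)⁻¹ := fun g w =>
    MulAut.conjNormal_apply _ _
  have hfix : ∀ (g : L) (w : Z), g • w = w ↔ Commute (g : K) w := fun g w => by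
    rw [Subtype.ext_iff, hact, mul_inv_eq_iff_eq_mul]
    rfl
  have hallL : ∀ s : ℕ, s.Prime → s ∣ Nat.card L → s = t ∨ s = r := fun s hs hd => hL.1 s hs hd
  obtain ⟨u, v, huv⟩ := h.rank t ht.out htd
  obtain ⟨c, d, hcd⟩ := h.rank r hr.out hrd
  obtain ⟨u', v', huv'⟩ := pair_in_hall hL (show t ∈ {s | s = t ∨ s = r} from Or.inl rfl) huv
  obtain ⟨c', d', hcd'⟩ := pair_in_hall hL (show r ∈ {s | s = t ∨ s = r} from Or.inr rfl) hcd
  have hmL : ∀ g : L, g ≠ 1 → (orderOf g).Prime → (orderOf (g : K)).Prime := fun g _ hp => by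
    rwa [orderOf_coe]
  haveI : Nontrivial Z := Z.nontrivial_iff_ne_bot.mpr hZ1
  refine main_aux (L := L) (M := M) (Zt := Z) (t := t) (r := r) htr hallL (h.cop t ht.out htd)
    (h.cop r hr.out hrd) (not_dvd_card_of_pow hqr hZ) inferInstance
    (fun g hg => Subtype.ext (h.faith g hg)) ?_ ?_
    (a := ⟨a, hUL (CoprimeGen.left_mem_pairSubgroup a b hab)⟩)
    (b := ⟨b, hUL (CoprimeGen.right_mem_pairSubgroup a b hab)⟩)
    (by rw [orderOf_mk, ha]) (by rw [orderOf_mk, hb]) (Subtype.ext hab.eq)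
    (fun w => (hfix _ w).mpr (haZ w w.2)) huv' hcd'
  · intro e he hez m hm
    by_contra hm1
    have heq : orderOf e ≠ q := by
      intro hq'
      rcases hallL _ he (orderOf_dvd_natCard e) with h' | h'
      · exact hqt (hq'.symm.trans h')
      · exact hqr (hq'.symm.trans h')
    have hcom : ∀ w ∈ Z, Commute (e : K) w := fun w hw => (hfix e ⟨w, hw⟩).mp (hez ⟨w, hw⟩)
    have hinv : ∀ w ∈ Z, ∀ n ∈ fixedBy' M ({(e : K)} : Set K),
        w • n ∈ fixedBy' M ({(e : K)} : Set K) := fun w hw n hn u hu => by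
      rw [Set.mem_singleton_iff.mp hu]
      exact smul_fixed_of_commute (hcom w hw).symm (hn _ rfl)
    have hmS : m ∈ fixedBy' M ({(e : K)} : Set K) := fun u hu => by
      rw [Set.mem_singleton_iff.mp hu]; exact hm
    obtain ⟨f, hf, hf1, n, hn, hfn, hn1⟩ := hzp.exists_fixed (h.cop q hq.out hqd)
      _ (hinv z1 h1) (hinv z2 h2) (fun hb => hm1 (mem_bot.mp (hb ▸ hmS)))
    exact hn1 (h.nf (e : K) f (by rwa [orderOf_coe]) (by rw [hzp.span_order hf hf1]; exact hq.out)
      (by rw [orderOf_coe, hzp.span_order hf hf1]; exact heq) (hcom f (hzp.span_mem h1 h2 hf)) n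
      (hn _ rfl) hfn)
  · intro x y hx hy hxy
    rcases pair_split h hqt hqr htr hqd Z hZ hZc hZ1 (a := (x : K)) (b := (y : K))
      (by rw [orderOf_coe, hx]) (by rw [orderOf_coe, hy]) (congrArg Subtype.val hxy.eq) with
      ⟨h1, -, h3⟩ | ⟨h1, -, h3⟩
    · exact Or.inl ⟨fun w => (hfix x w).mpr (h1 w w.2),
        fun w hw => Subtype.ext (h3 w w.2 ((hfix y w).mp hw))⟩
    · exact Or.inr ⟨fun w => (hfix y w).mpr (h1 w w.2),
        fun w hw => Subtype.ext (h3 w w.2 ((hfix x w).mp hw))⟩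

/-- The socle of the centre of a nontrivial core is of prime order. -/
theorem exists_socle_gen [Group.IsSolvable K] (h : Three K M) {q : ℕ} [hq : Fact q.Prime]
    (hQ : Cfsg.pCore q K ≠ ⊥) :
    ∃ z : K, orderOf z = q ∧ z ∈ Cfsg.pCore q K ∧ (∀ g ∈ Cfsg.pCore q K, Commute g z) ∧
      (zpowers z).Normal := by
  haveI := HallCore.pCore_normal q K
  haveI hSn := socleCenter_normal q (Cfsg.pCore q K)
  obtain ⟨z', hz'⟩ := Subgroup.ne_bot_iff_exists_ne_one.mp
    (socleCenter_ne_bot (HallCore.isPGroup_pCore q K) hQ)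
  have hz1 : (z' : K) ≠ 1 := fun e => hz' (Subtype.ext e)
  have hzo : orderOf (z' : K) = q := orderOf_eq_prime z'.2.2.2 hz1
  have hS : socleCenter q (Cfsg.pCore q K) = zpowers (z' : K) := by
    refine le_antisymm (fun w hw => ?_) (zpowers_le.mpr z'.2)
    by_contra hwz
    have hw1 : w ≠ 1 := fun e => hwz (e ▸ one_mem _)
    exact no_noncyclic h (socleCenter q (Cfsg.pCore q K)) (fun u hu => hu.2.2)
      (fun u hu v hv => hv.2.1 u hu.1) z'.2 hw
      ⟨hzo, orderOf_eq_prime hw.2.2 hw1, hw.2.1 _ z'.2.1, hwz⟩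
  exact ⟨z', hzo, z'.2.1, z'.2.2.1, hS ▸ hSn⟩

/-- A critical subgroup of `O_q`, with the translation property. -/
theorem exists_crit [Group.IsSolvable K] (h : Three K M) {q : ℕ} [hq : Fact q.Prime] {z : K}
    (hz : orderOf z = q) (hzQ : z ∈ Cfsg.pCore q K)
    (hzc : ∀ g ∈ Cfsg.pCore q K, Commute g z) :
    ∃ C : Subgroup K, C.Normal ∧ C ≤ Cfsg.pCore q K ∧
      (∀ g ∈ Cfsg.pCore q K, (∀ c ∈ C, Commute g c) → g ∈ C) ∧
      ∀ x ∈ C, x ^ q = 1 → x ∉ zpowers z →
        Pair2 q x z ∧ ∀ w ∈ zpowers z, ∃ g : K, g * x * g⁻¹ = x * w ∧ Commute g z := by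
  haveI := HallCore.pCore_normal q K
  set Q := Cfsg.pCore q K with hQ
  have hQp : IsPGroup q Q := HallCore.isPGroup_pCore q K
  obtain ⟨H, hHc, -, hH2, hH3⟩ := PGroupsCritical.exists_critical hQp
  haveI := hHc
  set C := H.map Q.subtype with hC
  haveI hCn : C.Normal := inferInstance
  have hCQ : C ≤ Q := map_subtype_le _
  have hself : ∀ g ∈ Q, (∀ c ∈ C, Commute g c) → g ∈ C := fun g hg hgc =>
    ⟨⟨g, hg⟩, hH3 (mem_centralizer_iff.mpr fun u hu =>
      Subtype.ext (hgc u ⟨u, hu, rfl⟩).eq.symm), rfl⟩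
  have hzC : z ∈ C := hself z hzQ fun c hc => (hzc c (hCQ hc)).symm
  refine ⟨C, hCn, hCQ, hself, fun x hx hxq hxz => ?_⟩
  have hS : socleCenter q C ≤ zpowers z := by
    intro w hw
    by_contra hwz
    have hw1 : w ≠ 1 := fun e => hwz (e ▸ one_mem _)
    haveI := socleCenter_normal q C
    exact no_noncyclic h (socleCenter q C) (fun u hu => hu.2.2) (fun u hu v hv => hv.2.1 u hu.1)
      (⟨hzC, fun g hg => hzc g (hCQ hg), hz ▸ pow_orderOf_eq_one z⟩ : z ∈ socleCenter q C) hw
      ⟨hz, orderOf_eq_prime hw.2.2 hw1, hw.2.1 z hzC, hwz⟩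
  obtain ⟨g, hg, hgx⟩ : ∃ g ∈ C, ¬ Commute g x := by
    by_contra hall
    exact hxz (hS ⟨hx, fun g hg => Classical.byContradiction fun hn => hall ⟨g, hg, hn⟩, hxq⟩)
  have hx1 : x ≠ 1 := fun e => hxz (e ▸ one_mem _)
  have hp : Pair2 q x z := Pair2.symm ⟨hz, orderOf_eq_prime hxq hx1, (hzc x (hCQ hx)).symm, hxz⟩
  refine ⟨hp, fun w hw => ?_⟩
  have hmemZ : ∀ u ∈ C, ∀ v ∈ C, ⁅u, v⁆ ∈ C ∧ ∀ c ∈ C, Commute c ⁅u, v⁆ := by
    rintro _ ⟨u, hu, rfl⟩ _ ⟨v, hv, rfl⟩
    have h1 := hH2 (commutator_mem_commutator hu (mem_top v))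
    refine ⟨⟨⁅u, v⁆, h1.1, by simp [commutatorElement_def]⟩, ?_⟩
    rintro _ ⟨c, hc, rfl⟩
    have := congrArg Subtype.val (mem_centralizer_iff.mp h1.2 c hc)
    simpa [commutatorElement_def, mul_assoc, Commute, SemiconjBy] using this
  obtain ⟨hdC, hdc⟩ := hmemZ g hg x hx
  set d := ⁅g, x⁆ with hd
  have hconj : g * x * g⁻¹ = x * d := by
    rw [(hdc x hx).eq, hd, commutatorElement_def]
    group
  have hdq : d ^ q = 1 := by
    have h1 : (g * x * g⁻¹) ^ q = (x * d) ^ q := by rw [hconj]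
    rw [conj_pow, hxq, mul_one, mul_inv_cancel, (hdc x hx).mul_pow, hxq, one_mul] at h1
    exact h1.symm
  have hd1 : d ≠ 1 := fun e => hgx (commutatorElement_eq_one_iff_commute.mp e)
  have hdz : d ∈ zpowers z := hS ⟨hdC, hdc, hdq⟩
  obtain ⟨k, hk⟩ := (mem_powers_iff_mem_zpowers (x := d)).mpr
    (zpowers_le.mpr (mem_zpowers_self' hz hdz hd1) hw)
  exact ⟨g ^ k, by rw [OddLocalBase.conj_pow_eq g x d hconj (hdc g hg).eq k, ← hk],
    (hzc g (hCQ hg)).pow_left k⟩

/-- If fixed points of `x` are fixed by `z`, the translations are impossible. -/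
theorem no_translate (h : Three K M) {q : ℕ} [hq : Fact q.Prime] {x z : K} (hp : Pair2 q x z)
    (htr : ∀ w ∈ zpowers z, ∃ g : K, g * x * g⁻¹ = x * w ∧ Commute g z)
    (hsub : ∀ m : M, x • m = m → z • m = m) : False :=
  hp.right_ne (h.faith z (translate_fixed hp (h.cop q hq.out (dvd_of_order hp.1)) htr hsub))

/-- An element centralising the critical subgroup centralises the core. -/
theorem cent_core {q : ℕ} [hq : Fact q.Prime] {C : Subgroup K} (hC : C ≤ Cfsg.pCore q K)
    (hself : ∀ g ∈ Cfsg.pCore q K, (∀ c ∈ C, Commute g c) → g ∈ C) {e : K}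
    (he : (orderOf e).Coprime q) (hec : ∀ c ∈ C, Commute e c) :
    ∀ g ∈ Cfsg.pCore q K, Commute e g := by
  have hQp : IsPGroup q (Cfsg.pCore q K) := HallCore.isPGroup_pCore q K
  haveI := HallCore.pCore_normal q K
  have hcop : (Nat.card (zpowers e)).Coprime (Nat.card (Cfsg.pCore q K)) := by
    obtain ⟨k, hk⟩ := IsPGroup.iff_card.mp hQp
    rw [Nat.card_zpowers, hk]
    exact he.pow_right k
  have hle : zpowers e ≤ centralizer (Cfsg.pCore q K : Set K) := by
    refine OddLocalBase.le_centralizer_of_centralizer_le _ _ hQp.isNilpotent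
      (by rw [normalizer_eq_top_iff.mpr inferInstance]; exact le_top) hcop fun g hg => ?_
    have hgC : g ∈ C := hself g hg.1 fun c hc => (mem_centralizer_iff.mp hg.2 c
      ⟨hC hc, mem_centralizer_iff.mpr fun u hu =>
        (commute_of_mem_zpowers hu (hec c hc).symm).symm.eq⟩).symm
    exact ⟨hg.1, mem_centralizer_iff.mpr fun u hu =>
      (commute_of_mem_zpowers hu (hec g hgC).symm).symm.eq⟩
  exact fun g hg => (mem_centralizer_iff.mp (hle (mem_zpowers e)) g hg).symm

/-- A power of prime order. -/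
theorem exists_order_pow {q : ℕ} [hq : Fact q.Prime] {k : K} {j : ℕ} (hk : orderOf k = q ^ j)
    (hk1 : k ≠ 1) : ∃ l : ℕ, orderOf (k ^ l) = q := by
  obtain ⟨i, rfl⟩ : ∃ i, j = i + 1 := by
    refine ⟨j - 1, ?_⟩
    have : j ≠ 0 := fun h0 => hk1 (orderOf_eq_one_iff.mp (by rw [hk, h0, pow_zero]))
    omega
  refine ⟨q ^ i, ?_⟩
  rw [orderOf_pow' k (pow_ne_zero i hq.out.ne_zero), hk,
    Nat.gcd_eq_right (pow_dvd_pow q (Nat.le_succ i)), pow_succ, Nat.mul_div_cancel_left _
      (pow_pos hq.out.pos i)]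

/-- The line of a pair centralising the generator centralises the critical subgroup. -/
theorem line_cent {q r : ℕ} [hq : Fact q.Prime] [hr : Fact r.Prime] (hqr : q ≠ r) {z : K}
    {C : Subgroup K} [C.Normal] (hCp : IsPGroup q C) {c d : K} (hp : Pair2 r c d) {e0 : K}
    (he0 : e0 ∈ Span c d)
    (hline : ∀ e ∈ Span c d, Commute e z → e ∈ zpowers e0)
    (hfree : ∀ e ∈ Span c d, e ≠ 1 → ¬ Commute e z → ∀ x ∈ C, orderOf x = q → Commute e x → False) :
    ∀ x ∈ C, Commute e0 x := by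
  have hle : C ≤ centralizer ({e0} : Set K) := by
    refine hp.gen_group _ _ ?_ (by rw [normalizer_eq_top_iff.mpr inferInstance]; exact mem_top _)
      (by rw [normalizer_eq_top_iff.mpr inferInstance]; exact mem_top _) fun e he he1 k hk hek => ?_
    · obtain ⟨n, hn⟩ := IsPGroup.iff_card.mp hCp
      rw [hn]
      exact fun hd => hqr ((Nat.prime_dvd_prime_iff_eq hr.out hq.out).mp (hr.out.dvd_of_dvd_pow hd)).symm
    refine mem_centralizer_iff.mpr fun w hw => ?_
    rw [Set.mem_singleton_iff.mp hw]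
    by_cases hk1 : k = 1
    · rw [hk1, mul_one, one_mul]
    by_cases hez : Commute e z
    · have h1 := hline e he hez
      have he01 : e0 ≠ 1 := fun h => he1 (by simpa [h] using h1)
      exact (commute_of_mem_zpowers (mem_zpowers_self' (hp.span_order he0 he01) h1 he1)
        hek.symm).symm.eq
    · obtain ⟨j, hj⟩ := IsPGroup.iff_orderOf.mp hCp ⟨k, hk⟩
      rw [orderOf_mk] at hj
      obtain ⟨l, hl⟩ := exists_order_pow hj hk1
      exact (hfree e he he1 hez _ (pow_mem hk l) hl (hek.pow_right l)).elim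
  exact fun x hx => (mem_centralizer_iff.mp (hle hx) e0 rfl)

/-- the line is nontrivial -/
theorem exists_comm_line {q r : ℕ} [hq : Fact q.Prime] [hr : Fact r.Prime] (hqr : q ≠ r) {z : K}
    (hz : orderOf z = q) (hzn : (zpowers z).Normal) {c d : K} (hp : Pair2 r c d) :
    ∃ e ∈ Span c d, e ≠ 1 ∧ Commute e z := by
  by_contra hno
  have : zpowers z ≤ ⊥ := by
    refine hp.gen_group _ _ ?_ (by rw [normalizer_eq_top_iff.mpr hzn]; exact mem_top _)
      (by rw [normalizer_eq_top_iff.mpr hzn]; exact mem_top _) fun e he he1 k hk hek => ?_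
    · rw [Nat.card_zpowers, hz]
      exact fun hd => hqr ((Nat.prime_dvd_prime_iff_eq hr.out hq.out).mp hd).symm
    refine mem_bot.mpr (Classical.byContradiction fun hk1 => hno ⟨e, he, he1, ?_⟩)
    exact commute_of_mem_zpowers (mem_zpowers_self' hz hk hk1) hek
  have h1 := mem_bot.mp (this (mem_zpowers z))
  rw [h1, orderOf_one] at hz
  exact hq.out.ne_one hz.symm

theorem mem_centralizer_singleton' {a g : K} :
    g ∈ centralizer ({a} : Set K) ↔ Commute g a := by
  rw [mem_centralizer_iff]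
  exact ⟨fun h => (h a rfl).symm, fun h w hw => by rw [Set.mem_singleton_iff.mp hw]; exact h.eq.symm⟩

/-- Only `q` in the Fitting subgroup. -/
theorem single_case [Group.IsSolvable K] (h : Three K M) {q t r : ℕ} [hq : Fact q.Prime]
    [ht : Fact t.Prime] [hr : Fact r.Prime] (hqt : q ≠ t) (hqr : q ≠ r) (htr : t ≠ r)
    (hall : ∀ s : ℕ, s.Prime → s ∣ Nat.card K → s = q ∨ s = t ∨ s = r)
    (hQ : Cfsg.pCore q K ≠ ⊥) (hT : Cfsg.pCore t K = ⊥) (hR : Cfsg.pCore r K = ⊥)
    {a b : K} (ha : orderOf a = t) (hb : orderOf b = r) (hab : Commute a b) : False := by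
  obtain ⟨z, hz, hzQ, hzc, hzn⟩ := exists_socle_gen h hQ
  suffices ∀ (r : ℕ) [Fact r.Prime], q ≠ r → ∀ b : K, orderOf b = r → ¬ Commute b z → False by
    have hqd := dvd_of_order hz
    have hz1 : zpowers z ≠ ⊥ := by
      rw [Ne, zpowers_eq_bot]
      intro e
      rw [e, orderOf_one] at hz
      exact hq.out.ne_one hz.symm
    rcases pair_split h hqt hqr htr hqd (zpowers z)
      (fun w hw => by
        obtain ⟨k, rfl⟩ := mem_zpowers_iff.mp hw
        rw [← zpow_natCast, ← zpow_mul, mul_comm, zpow_mul, zpow_natCast, ← hz,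
          pow_orderOf_eq_one, one_zpow])
      (fun x hx y hy => commute_of_mem_zpowers hy (commute_of_mem_zpowers hx (Commute.refl z)).symm)
      hz1 ha hb hab with ⟨-, -, h3⟩ | ⟨-, -, h3⟩
    · exact this r hqr b hb fun hc => hz1 (zpowers_eq_bot.mpr (h3 z (mem_zpowers z) hc))
    · exact this t hqt a ha fun hc => hz1 (zpowers_eq_bot.mpr (h3 z (mem_zpowers z) hc))
  have hpc : Cfsg.pPrimeCore q K = ⊥ := by
    by_contra hne
    haveI := HallCore.pPrimeCore_normal q K
    obtain ⟨N, hN, hNP⟩ := HallSolvable.exists_minNormal_le hne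
    haveI := hN.normal
    obtain ⟨s, hs, hNel, hNp⟩ := hN.exists_prime
    haveI := Fact.mk hs
    obtain ⟨k, hk⟩ := IsPGroup.iff_card.mp hNp
    have hk0 : k ≠ 0 := fun h0 => hN.ne_bot (card_eq_one.mp (by rw [hk, h0, pow_zero]))
    have hd : s ∣ Nat.card N := (dvd_pow_self s hk0).trans (dvd_of_eq hk.symm)
    have hle : N ≤ Cfsg.pCore s K := HallCore.le_pCore hNp
    rcases hall s hs (hd.trans (card_subgroup_dvd_card N)) with h' | h' | h' <;> rw [h'] at hle hd
    · exact HallCore.not_dvd_card_pPrimeCore q K (hd.trans (card_dvd_of_le hNP))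
    · exact hN.ne_bot (le_bot_iff.mp (hle.trans hT.le))
    · exact hN.ne_bot (le_bot_iff.mp (hle.trans hR.le))
  have hCQ : centralizer (Cfsg.pCore q K : Set K) ≤ Cfsg.pCore q K :=
    HallSolvable.centralizer_pCore_le (HallSolvable.isPSolvable_of_solvable q) hpc
  obtain ⟨C, hCn, hCle, hself, hcrit⟩ := exists_crit h hz hzQ hzc
  intro r' hr' hqr' b' hb' hbz
  obtain ⟨u, v, huv⟩ := h.rank r' hr'.out (dvd_of_order hb')
  obtain ⟨c, hp⟩ := exists_partner huv hb'
  obtain ⟨e0, he0, he0z, hline⟩ := hp.exists_line (H := centralizer ({z} : Set K))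
    (fun hh => hbz (mem_centralizer_singleton'.mp hh.1))
  haveI := hzn
  have hcent := line_cent (q := q) hqr' (C := C)
    ((HallCore.isPGroup_pCore q K).to_le hCle) hp he0
    (fun e he hez => hline e he (mem_centralizer_singleton'.mpr hez))
    (fun e he he1 hez x hx hxo hex => by
      have hxz : x ∉ zpowers z := by
        intro hxz
        have hx1 : x ≠ 1 := fun e' => hq.out.ne_one (by rw [← hxo, e', orderOf_one])
        exact hez (commute_of_mem_zpowers (mem_zpowers_self' hz hxz hx1) hex)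
      obtain ⟨hp', htr'⟩ := hcrit x hx (hxo ▸ pow_orderOf_eq_one x) hxz
      have heo := hp.span_order he he1
      refine no_translate h hp' htr' fun m hm => frob_one (r := r') (zpowers z) heo
        (fun w hw => hzn.conj_mem w hw e) ?_ ?_ (fixedBy' M ({x} : Set K)) ?_ ?_ ?_ z
        (mem_zpowers z) m (fun w hw => by rw [Set.mem_singleton_iff.mp hw]; exact hm)
      · rw [Nat.card_zpowers, hz, Nat.coprime_comm, hq.out.coprime_iff_not_dvd]
        exact h.cop q hq.out (dvd_of_order hz)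
      · intro w hw hew
        by_contra hw1
        exact hez (commute_of_mem_zpowers (mem_zpowers_self' hz hw hw1) hew)
      · intro w hw n hn u hu
        rw [Set.mem_singleton_iff.mp hu]
        exact smul_fixed_of_commute (commute_of_mem_zpowers hw hp'.2.2.1).symm (hn x rfl)
      · intro n hn u hu
        rw [Set.mem_singleton_iff.mp hu]
        exact smul_fixed_of_commute hex (hn x rfl)
      · intro n hn hen
        exact h.nf x e (by rw [hxo]; exact hq.out) (by rw [heo]; exact hr'.out)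
          (by rw [hxo, heo]; exact hqr') hex.symm n (hn x rfl) hen)
  obtain ⟨e, he, he1, hez⟩ := exists_comm_line hqr' hz hzn hp
  have hee0 := hline e he (mem_centralizer_singleton'.mpr hez)
  have he01 : e0 ≠ 1 := fun h' => he1 (by simpa [h'] using hee0)
  have he0o := hp.span_order he0 he01
  have hmem : e0 ∈ Cfsg.pCore q K := hCQ (mem_centralizer_iff.mpr fun g hg =>
    (cent_core hCle hself (by rw [he0o]; exact (Nat.coprime_primes hr'.out hq.out).mpr hqr'.symm)
      hcent g hg).symm.eq)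
  obtain ⟨j, hj⟩ := IsPGroup.iff_orderOf.mp (HallCore.isPGroup_pCore q K) ⟨e0, hmem⟩
  rw [orderOf_mk, he0o] at hj
  exact hqr' ((Nat.prime_dvd_prime_iff_eq hr'.out hq.out).mp
    (hr'.out.dvd_of_dvd_pow (dvd_of_eq hj))).symm

/-- Elements of prime power order in `C(F)` lie in the core. -/
theorem mem_pCore_of_centralizes [Group.IsSolvable K] {s : ℕ} [hs : Fact s.Prime] {y : K} {j : ℕ}
    (hy : orderOf y = s ^ j)
    (hc : ∀ x : ℕ, x.Prime → x ∣ Nat.card K → ∀ g ∈ Cfsg.pCore x K, Commute y g) :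
    y ∈ Cfsg.pCore s K := by
  set F := Cfsg.fittingSubgroup K with hF
  haveI : F.Normal := by rw [hF]; infer_instance
  set C := centralizer (F : Set K) with hC
  haveI hCn : C.Normal := by rw [hC]; infer_instance
  have hle : F ≤ centralizer ({y} : Set K) := by
    rw [hF, ComponentsFitting.fittingSubgroup_eq_iSup]
    refine iSup_le fun x g hg => mem_centralizer_singleton'.mpr ?_
    exact (hc x (Nat.prime_of_mem_primeFactors x.2) (Nat.dvd_of_mem_primeFactors x.2) g hg).symm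
  have hyC : y ∈ C := mem_centralizer_iff.mpr fun g hg => (mem_centralizer_singleton'.mp (hle hg)).eq
  have hCF : C ≤ F := HallSolvable.centralizer_fitting_le
  let P : Subgroup K :=
    { carrier := {u | u ∈ C ∧ ∃ k : ℕ, u ^ (s ^ k) = 1}
      one_mem' := ⟨one_mem _, 0, one_pow _⟩
      mul_mem' := fun {u v} ⟨hu, i, hi⟩ ⟨hv, k, hk⟩ => ⟨mul_mem hu hv, i + k, by
        have h : Commute u v := mem_centralizer_iff.mp hv u (hCF hu)
        rw [h.mul_pow, pow_add, pow_mul, hi, one_pow, mul_comm, pow_mul, hk, one_pow, one_mul]⟩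
      inv_mem' := fun {u} ⟨hu, i, hi⟩ => ⟨inv_mem hu, i, by rw [inv_pow, hi, inv_one]⟩ }
  haveI : P.Normal := ⟨fun u ⟨hu, i, hi⟩ g => ⟨hCn.conj_mem u hu g, i, by
    rw [conj_pow, hi, mul_one, mul_inv_cancel]⟩⟩
  refine HallCore.le_pCore (N := P) (fun u => ?_) ⟨hyC, j, hy ▸ pow_orderOf_eq_one y⟩
  obtain ⟨k, hk⟩ := u.2.2
  exact ⟨k, Subtype.ext hk⟩

/-- In the two-prime case an element of order prime to `q` centralising `z` centralises `O_q`. -/
theorem two_side [Group.IsSolvable K] (h : Three K M) {q t r : ℕ} [hq : Fact q.Prime]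
    [ht : Fact t.Prime] [hr : Fact r.Prime] (hqt : q ≠ t) (hqr : q ≠ r) (htr : t ≠ r) {z : K}
    (hz : orderOf z = q) (hzQ : z ∈ Cfsg.pCore q K) (hzc : ∀ g ∈ Cfsg.pCore q K, Commute g z)
    (hzn : (zpowers z).Normal) {a : K} (ha : orderOf a = t) (haT : a ∈ Cfsg.pCore t K)
    (han : (zpowers a).Normal) {c d : K} (hp : Pair2 r c d) :
    (∃ e ∈ Span c d, e ≠ 1 ∧ Commute e z) ∧
      ∀ k : K, (orderOf k).Coprime q → Commute k z → ∀ g ∈ Cfsg.pCore q K, Commute k g := by
  have hza : ∀ g ∈ Cfsg.pCore q K, Commute g a := fun g hg =>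
    ComponentsFitting.commute_pCore hq.out ht.out hqt g a hg haT
  have hex := exists_comm_line hqr hz hzn hp
  have hnot : ∀ e ∈ Span c d, e ≠ 1 → Commute e z → ¬ Commute e a := fun e he he1 hez hea => by
    have heo := hp.span_order he he1
    exact h.nt z a e (by rw [hz]; exact hq.out) (by rw [ha]; exact ht.out)
      (by rw [heo]; exact hr.out) (by rw [hz, ha]; exact hqt) (by rw [ha, heo]; exact htr)
      (by rw [hz, heo]; exact hqr) (hza z hzQ) hez.symm hea.symm
  have hboth : ¬ (c ∈ centralizer ({z} : Set K) ∧ d ∈ centralizer ({z} : Set K)) := by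
    rintro ⟨hc, hd⟩
    obtain ⟨e, he, he1, hea⟩ := exists_comm_line htr ha han hp
    exact hnot e he he1 (mem_centralizer_singleton'.mp (hp.span_mem hc hd he)) hea
  obtain ⟨e', he', he'z⟩ : ∃ e' : K, orderOf e' = r ∧ ¬ Commute e' z := by
    by_cases hc : c ∈ centralizer ({z} : Set K)
    · exact ⟨d, hp.2.1, fun hh => hboth ⟨hc, mem_centralizer_singleton'.mpr hh⟩⟩
    · exact ⟨c, hp.1, fun hh => hc (mem_centralizer_singleton'.mpr hh)⟩
  have hq2 : q ≠ 2 := by
    have := lt_of_not_commute hz he' (hzn.conj_mem z (mem_zpowers z) e') he'z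
    have := hr.out.two_le
    omega
  obtain ⟨C, hCn, hCle, hself, hcrit⟩ := exists_crit h hz hzQ hzc
  obtain ⟨e0, he0, he0z, hline⟩ := hp.exists_line hboth
  have hkill : ∀ e ∈ Span c d, e ≠ 1 → ∀ x ∈ C, x ^ q = 1 → x ∉ zpowers z → Commute e x → False := by
    intro e he he1 x hx hxq hxz hex'
    obtain ⟨hp', htr'⟩ := hcrit x hx hxq hxz
    have heo := hp.span_order he he1
    have hxa : Commute x a := hza x (hCle hx)
    by_cases hea : Commute e a
    · exact h.nt x a e (by rw [hp'.1]; exact hq.out) (by rw [ha]; exact ht.out)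
        (by rw [heo]; exact hr.out) (by rw [hp'.1, ha]; exact hqt) (by rw [ha, heo]; exact htr)
        (by rw [hp'.1, heo]; exact hqr) hxa hex'.symm hea.symm
    refine no_translate h hp' htr' fun m hm => ?_
    have h1 : a • m = m := frob_one (r := r) (zpowers a) heo (fun w hw => han.conj_mem w hw e)
      (by rw [Nat.card_zpowers, ha, Nat.coprime_comm, ht.out.coprime_iff_not_dvd]
          exact h.cop t ht.out (dvd_of_order ha))
      (fun w hw hew => Classical.byContradiction fun hw1 =>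
        hea (commute_of_mem_zpowers (mem_zpowers_self' ha hw hw1) hew))
      (fixedBy' M ({x} : Set K))
      (fun w hw n hn u hu => by
        rw [Set.mem_singleton_iff.mp hu]
        exact smul_fixed_of_commute (commute_of_mem_zpowers hw hxa).symm (hn x rfl))
      (fun n hn u hu => by
        rw [Set.mem_singleton_iff.mp hu]; exact smul_fixed_of_commute hex' (hn x rfl))
      (fun n hn hen => h.nf x e (by rw [hp'.1]; exact hq.out) (by rw [heo]; exact hr.out)
        (by rw [hp'.1, heo]; exact hqr) hex'.symm n (hn x rfl) hen)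
      a (mem_zpowers a) m (fun w hw => by rw [Set.mem_singleton_iff.mp hw]; exact hm)
    have hm1 := h.nf x a (by rw [hp'.1]; exact hq.out) (by rw [ha]; exact ht.out)
      (by rw [hp'.1, ha]; exact hqt) hxa m hm h1
    rw [hm1, smul_one]
  have hcent := line_cent (q := q) hqr (C := C) ((HallCore.isPGroup_pCore q K).to_le hCle) hp he0
    (fun e he hez => hline e he (mem_centralizer_singleton'.mpr hez))
    (fun e he he1 hez x hx hxo hex' => by
      refine hkill e he he1 x hx (hxo ▸ pow_orderOf_eq_one x) (fun hxz => ?_) hex'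
      have hx1 : x ≠ 1 := fun e' => hq.out.ne_one (by rw [← hxo, e', orderOf_one])
      exact hez (commute_of_mem_zpowers (mem_zpowers_self' hz hxz hx1) hex'))
  have hΩ : ∀ x ∈ C, x ^ q = 1 → x ∈ zpowers z := by
    intro x hx hxq
    by_contra hxz
    obtain ⟨e, he, he1, hez⟩ := hex
    have h1 := hline e he (mem_centralizer_singleton'.mpr hez)
    have he01 : e0 ≠ 1 := fun h' => he1 (by simpa [h'] using h1)
    exact hkill e0 he0 he01 x hx hxq hxz (hcent x hx)
  refine ⟨hex, fun k hk hkz => cent_core hCle hself hk ?_⟩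
  exact OmegaCoprime.commute_of_forall_pow_eq_one hq2 hk C
    ((HallCore.isPGroup_pCore q K).to_le hCle) (fun x hx => hCn.conj_mem x hx k)
    (fun x hx hxq => commute_of_mem_zpowers (hΩ x hx hxq) hkz)

/-- `q` and `t` in the Fitting subgroup. -/
theorem two_case [Group.IsSolvable K] (h : Three K M) {q t r : ℕ} [hq : Fact q.Prime]
    [ht : Fact t.Prime] [hr : Fact r.Prime] (hqt : q < t) (hqr : q ≠ r) (htr : t ≠ r)
    (hrd : r ∣ Nat.card K)
    (hall : ∀ s : ℕ, s.Prime → s ∣ Nat.card K → s = q ∨ s = t ∨ s = r)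
    (hQ : Cfsg.pCore q K ≠ ⊥) (hT : Cfsg.pCore t K ≠ ⊥) : False := by
  obtain ⟨z, hz, hzQ, hzc, hzn⟩ := exists_socle_gen h hQ
  obtain ⟨a, ha, haT, hac, han⟩ := exists_socle_gen h hT
  haveI := HallCore.pCore_normal q K
  haveI := HallCore.pCore_normal t K
  have hza : ∀ g ∈ Cfsg.pCore q K, ∀ k ∈ Cfsg.pCore t K, Commute g k := fun g hg k hk =>
    ComponentsFitting.commute_pCore hq.out ht.out hqt.ne g k hg hk
  have hR : Cfsg.pCore r K = ⊥ := by
    by_contra hR
    obtain ⟨w, hw, hwR, -, -⟩ := exists_socle_gen h hR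
    exact h.nt z a w (by rw [hz]; exact hq.out) (by rw [ha]; exact ht.out)
      (by rw [hw]; exact hr.out) (by rw [hz, ha]; exact hqt.ne) (by rw [ha, hw]; exact htr)
      (by rw [hz, hw]; exact hqr) (hza z hzQ a haT)
      (ComponentsFitting.commute_pCore hq.out hr.out hqr z w hzQ hwR)
      (ComponentsFitting.commute_pCore ht.out hr.out htr a w haT hwR)
  obtain ⟨c, d, hp⟩ := h.rank r hr.out hrd
  obtain ⟨-, hQc⟩ := two_side h hqt.ne hqr htr hz hzQ hzc hzn ha haT han hp
  obtain ⟨⟨e1, he1m, he11, he1a⟩, hTc⟩ :=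
    two_side h hqt.ne' htr hqr ha haT hac han hz hzQ hzn hp
  have he1o := hp.span_order he1m he11
  let D : Subgroup K :=
    { carrier := {k | (∀ g ∈ Cfsg.pCore q K, Commute k g) ∧ Commute k a}
      one_mem' := ⟨fun g _ => Commute.one_left g, Commute.one_left a⟩
      mul_mem' := fun {u v} hu hv => ⟨fun g hg => (hu.1 g hg).mul_left (hv.1 g hg),
        hu.2.mul_left hv.2⟩
      inv_mem' := fun {u} hu => ⟨fun g hg => (hu.1 g hg).inv_left, hu.2.inv_left⟩ }
  haveI hDn : D.Normal := ⟨fun u hu k => by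
    have hc : ∀ g : K, Commute u (k⁻¹ * g * k) → Commute (k * u * k⁻¹) g := fun g hg => by
      have := congrArg (fun w => k * w * k⁻¹) hg.eq
      change _ * g = g * _
      simpa [mul_assoc] using this
    refine ⟨fun g hg => hc g (hu.1 _ ?_), hc a (commute_of_mem_zpowers ?_ hu.2)⟩
    · simpa using (HallCore.pCore_normal q K).conj_mem g hg k⁻¹
    · simpa using han.conj_mem a (mem_zpowers a) k⁻¹⟩
  -- prime power elements of `D`
  have hDs : ∀ y ∈ D, ∀ (s j : ℕ), s.Prime → s ≠ t → orderOf y = s ^ j → y ∈ Cfsg.pCore s K := by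
    intro y hy s j hs hst hyo
    haveI := Fact.mk hs
    refine mem_pCore_of_centralizes hyo fun x hx hxd g hg => ?_
    rcases hall x hx hxd with rfl | rfl | rfl
    · exact hy.1 g hg
    · exact hTc y (by rw [hyo]; exact ((Nat.coprime_primes hs ht.out).mpr hst).pow_left j) hy.2 g hg
    · rw [hR, mem_bot] at hg
      rw [hg]
      exact Commute.one_right y
  have hDr : ∀ y ∈ D, orderOf y ≠ r := by
    intro y hy hyo
    have := hDs y hy r 1 hr.out htr.symm (by rw [pow_one, hyo])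
    rw [hR, mem_bot] at this
    rw [this, orderOf_one] at hyo
    exact hr.out.ne_one hyo.symm
  let Dq : Subgroup D := (Cfsg.pCore q K).subgroupOf D
  haveI : Dq.Normal := inferInstance
  have hDqp : IsPGroup t (↥D ⧸ Dq) := by
    intro x
    obtain ⟨k, rfl⟩ := QuotientGroup.mk'_surjective Dq x
    have hn0 : orderOf (k : K) ≠ 0 := (orderOf_pos _).ne'
    set j := (orderOf (k : K)).factorization t with hj
    refine ⟨j, ?_⟩
    rw [← map_pow, QuotientGroup.mk'_apply, QuotientGroup.eq_one_iff, mem_subgroupOf]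
    have hdvd : t ^ j ∣ orderOf (k : K) := Nat.ordProj_dvd _ _
    set n := orderOf (k : K) / t ^ j with hn
    have hyo : orderOf ((k : K) ^ (t ^ j)) = n := by
      rw [orderOf_pow' _ (pow_ne_zero j ht.out.ne_zero), Nat.gcd_eq_right hdvd]
    have hprim : ∀ {s : ℕ}, s.Prime → s ∣ n → s = q := by
      intro s hs hsd
      have hsk : s ∣ orderOf (k : K) := hsd.trans (Nat.div_dvd_of_dvd hdvd)
      rcases hall s hs (hsk.trans (orderOf_dvd_natCard _)) with h' | h' | h'
      · exact h'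
      · exact absurd (h' ▸ hsd : t ∣ n) (Nat.not_dvd_ordCompl ht.out hn0)
      · rw [h'] at hsk
        exfalso
        refine hDr ((k : K) ^ (orderOf (k : K) / r)) (pow_mem k.2 _) ?_
        exact orderOf_pow_orderOf_div hn0 hsk
    have hpw : orderOf ((k : K) ^ (t ^ j)) = q ^ n.primeFactorsList.length := by
      rw [hyo]
      exact Nat.eq_prime_pow_of_unique_prime_dvd
        (Nat.pos_iff_ne_zero.mp (Nat.div_pos (Nat.le_of_dvd (orderOf_pos _) hdvd)
          (pow_pos ht.out.pos j))) hprim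
    simpa using hDs _ (pow_mem k.2 _) q _ hq.out hqt.ne hpw
  haveI : Group.IsNilpotent (↥D ⧸ Dq) := hDqp.isNilpotent
  haveI : Group.IsNilpotent D := Subgroup.isNilpotent_of_ker_le_center (QuotientGroup.mk' Dq)
    (by
      rw [QuotientGroup.ker_mk']
      exact fun x hx => mem_center_iff.mpr fun y => Subtype.ext (y.2.1 _ (mem_subgroupOf.mp hx)).eq)
  have hDF : D ≤ Cfsg.fittingSubgroup K := HallSolvable.le_fitting
  have hFle : Cfsg.fittingSubgroup K ≤ Cfsg.pCore q K ⊔ Cfsg.pCore t K := by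
    rw [ComponentsFitting.fittingSubgroup_eq_iSup]
    refine iSup_le fun x => ?_
    rcases hall x (Nat.prime_of_mem_primeFactors x.2) (Nat.dvd_of_mem_primeFactors x.2) with
      h' | h' | h' <;> rw [h']
    · exact le_sup_left
    · exact le_sup_right
    · rw [hR]; exact bot_le
  have hTmem : ∀ u : K, orderOf u = t → u ∈ Cfsg.pCore t K := by
    intro u hu
    have huz : Commute u z := by
      by_contra hn
      have := lt_of_not_commute hz hu (hzn.conj_mem z (mem_zpowers z) u) hn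
      omega
    have hua : Commute u a :=
      commute_of_normal_prime han (by rw [Nat.card_zpowers, ha]) hu (mem_zpowers a)
    have huD : u ∈ D :=
      ⟨hQc u (by rw [hu]; exact (Nat.coprime_primes ht.out hq.out).mpr hqt.ne') huz, hua⟩
    obtain ⟨x, hx, y, hy, rfl⟩ := mem_sup_of_normal_left.mp (hFle (hDF huD))
    have hxy : Commute x y := hza x hx y hy
    have hxt : x ^ t = 1 := by
      have hp' : (x * y) ^ t = 1 := hu ▸ pow_orderOf_eq_one _
      rw [hxy.mul_pow] at hp'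
      have hmem : x ^ t ∈ Cfsg.pCore q K ⊓ Cfsg.pCore t K :=
        mem_inf.mpr ⟨pow_mem hx t, by rw [eq_inv_of_mul_eq_one_left hp']; exact inv_mem (pow_mem hy t)⟩
      rwa [(IsPGroup.disjoint_of_ne q t hqt.ne _ _ (HallCore.isPGroup_pCore q K)
        (HallCore.isPGroup_pCore t K)).eq_bot, mem_bot] at hmem
    obtain ⟨i, hi⟩ := IsPGroup.iff_orderOf.mp (HallCore.isPGroup_pCore q K) ⟨x, hx⟩
    rw [orderOf_mk] at hi
    have hx1 : x = 1 := by
      have hd := orderOf_dvd_of_pow_eq_one hxt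
      rw [hi] at hd
      have := ((Nat.coprime_primes hq.out ht.out).mpr hqt.ne).pow_left i
      exact orderOf_eq_one_iff.mp (hi ▸ this.eq_one_of_dvd hd)
    rw [hx1, one_mul]
    exact hy
  obtain ⟨u, v, huv⟩ := h.rank t ht.out (dvd_of_order ha)
  haveI : Nontrivial M := by
    rw [← not_subsingleton_iff_nontrivial]
    intro hs
    exact huv.left_ne (h.faith u fun m => Subsingleton.elim _ _)
  obtain ⟨f, hf, hf1, m, -, hfm, hm⟩ := huv.exists_fixed (h.cop t ht.out (dvd_of_order ha)) ⊤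
    (fun _ _ => mem_top _) (fun _ _ => mem_top _) top_ne_bot
  have hfo := huv.span_order hf hf1
  have hfT : f ∈ Cfsg.pCore t K := hTmem f hfo
  have hfe : Commute e1 f :=
    hTc e1 (by rw [he1o]; exact (Nat.coprime_primes hr.out ht.out).mpr htr.symm) he1a f hfT
  have hfz : Commute f z := (hza z hzQ f hfT).symm
  haveI := hzn
  have hz1 : zpowers z ≠ ⊥ := by
    rw [Ne, zpowers_eq_bot]
    intro e
    rw [e, orderOf_one] at hz
    exact hq.out.ne_one hz.symm
  rcases pair_split h hqt.ne hqr htr (dvd_of_order hz) (zpowers z)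
    (fun w hw => by
      obtain ⟨k, rfl⟩ := mem_zpowers_iff.mp hw
      rw [← zpow_natCast, ← zpow_mul, mul_comm, zpow_mul, zpow_natCast, ← hz,
        pow_orderOf_eq_one, one_zpow])
    (fun x hx y hy => commute_of_mem_zpowers hy (commute_of_mem_zpowers hx (Commute.refl z)).symm)
    hz1 hfo he1o hfe.symm with ⟨-, hff, -⟩ | ⟨-, -, h3⟩
  · exact hm (hff m hfm)
  · exact hz1 (zpowers_eq_bot.mpr (h3 z (mem_zpowers z) hfz))

/-- No such group. -/
theorem caseB [Group.IsSolvable K] (h : Three K M) : False := by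
  haveI : Nontrivial K := by
    obtain ⟨p1, p2, p3, -, -, -, hiff⟩ := h.three
    obtain ⟨hp, hd⟩ := (hiff p1).mpr (Or.inl rfl)
    exact Finite.one_lt_card_iff_nontrivial.mp (lt_of_lt_of_le hp.one_lt (Nat.le_of_dvd Nat.card_pos hd))
  obtain ⟨N, hN⟩ := HallSolvable.exists_minNormal (G := K)
  haveI := hN.normal
  obtain ⟨q, hqp, -, hNp⟩ := hN.exists_prime
  haveI := Fact.mk hqp
  have hQ : Cfsg.pCore q K ≠ ⊥ := fun hb => hN.ne_bot (le_bot_iff.mp (hb ▸ HallCore.le_pCore hNp))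
  obtain ⟨k, hk⟩ := IsPGroup.iff_card.mp hNp
  have hk0 : k ≠ 0 := fun h0 => hN.ne_bot (card_eq_one.mp (by rw [hk, h0, pow_zero]))
  obtain ⟨t, r, htp, hrp, htd, hrd, hqt, hqr, htr, hall⟩ := h.others hqp
    (((dvd_pow_self q hk0).trans (dvd_of_eq hk.symm)).trans (card_subgroup_dvd_card N))
  haveI := Fact.mk htp
  haveI := Fact.mk hrp
  have hqd : q ∣ Nat.card K :=
    ((dvd_pow_self q hk0).trans (dvd_of_eq hk.symm)).trans (card_subgroup_dvd_card N)
  have two : ∀ (t r : ℕ) [Fact t.Prime] [Fact r.Prime], q ≠ t → q ≠ r → t ≠ r →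
      r ∣ Nat.card K → (∀ s : ℕ, s.Prime → s ∣ Nat.card K → s = q ∨ s = t ∨ s = r) →
      Cfsg.pCore t K ≠ ⊥ → False := by
    intro t r _ _ hqt hqr htr hrd hall hT
    rcases lt_or_gt_of_ne hqt with hlt | hlt
    · exact two_case h hlt hqr htr hrd hall hQ hT
    · refine two_case h hlt htr hqr hrd (fun s hs hd => ?_) hT hQ
      rcases hall s hs hd with h' | h' | h'
      exacts [Or.inr (Or.inl h'), Or.inl h', Or.inr (Or.inr h')]
  by_cases hT : Cfsg.pCore t K = ⊥
  · by_cases hR : Cfsg.pCore r K = ⊥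
    · obtain ⟨a, b, ha, hb, hab⟩ := h.edge t r htp htd hrp hrd htr
      exact single_case h hqt hqr htr hall hQ hT hR ha hb hab
    · exact two r t hqr hqt htr.symm htd (fun s hs hd => (hall s hs hd).imp_right Or.symm) hR
  · exact two t r hqt hqr htr hrd hall hT

end Cfsg.Agent.FourPrimes
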