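import Cfsg.Agent.Lib.FourPrimesCaseA

/-!
# The noncyclic case: a `{t, r}`-group acting on `Z` and on a faithful module
-/

set_option autoImplicit false
set_option linter.style.haveILetI false
set_option linter.unusedSectionVars false
set_option linter.unusedVariables false

namespace Cfsg.Agent.FourPrimes

open Subgroup

variable {L : Type*} [Group L] [Finite L]

theorem commute_of_normal_prime {t : ℕ} [ht : Fact t.Prime] {N : Subgroup L} (hNn : N.Normal)
    (hN : Nat.card N = t) {e : L} (he : orderOf e = t) {y : L} (hy : y ∈ N) : Commute e y := by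
  have hNp : IsPGroup t N := IsPGroup.of_card (n := 1) (by rw [hN, pow_one])
  have hep : IsPGroup t (zpowers e) := IsPGroup.of_card (n := 1) (by rw [Nat.card_zpowers, he, pow_one])
  have hK : IsPGroup t ↥(N ⊔ zpowers e) := hNp.to_sup_of_normal_left hep
  haveI : (N.subgroupOf (N ⊔ zpowers e)).Normal := inferInstance
  have hcard : Nat.card (N.subgroupOf (N ⊔ zpowers e)) = t := by
    rw [Nat.card_congr (subgroupOfEquivOfLe le_sup_left).toEquiv, hN]
  have hmem : (⟨y, mem_sup_left hy⟩ : ↥(N ⊔ zpowers e)) ∈ N.subgroupOf (N ⊔ zpowers e) :=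
    mem_subgroupOf.mpr hy
  have := PGroupsBasic.le_center_of_card_eq_prime hK hcard hmem
  exact congrArg Subtype.val (mem_center_iff.mp this ⟨e, mem_sup_right (mem_zpowers e)⟩)

/-- An element of order `r` acting nontrivially on a group of order `t` has `r < t`. -/
theorem lt_of_not_commute {t r : ℕ} [ht : Fact t.Prime] [hr : Fact r.Prime] {a e : L}
    (ha : orderOf a = t) (he : orderOf e = r) (hn : e * a * e⁻¹ ∈ zpowers a)
    (hc : ¬ Commute e a) : r < t := by
  obtain ⟨i, hi⟩ := (mem_powers_iff_mem_zpowers (x := a)).mpr hn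
  have hconj : ∀ k : ℕ, e ^ k * a * (e ^ k)⁻¹ = a ^ (i ^ k) := by
    intro k
    induction k with
    | zero => simp
    | succ k ih =>
      have h2 : e * (e ^ k * a * (e ^ k)⁻¹) * e⁻¹ = (e * a * e⁻¹) ^ (i ^ k) := by
        rw [ih, conj_pow]
      have h3 : (e * a * e⁻¹) ^ (i ^ k) = a ^ (i ^ (k + 1)) := by
        rw [← hi]
        rw [← pow_mul, ← pow_succ']
      rw [← h3, ← h2, pow_succ']
      group
  have hr' := hconj r
  rw [show e ^ r = 1 from he ▸ pow_orderOf_eq_one e] at hr'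
  have hmod : ((i : ZMod t) ^ r) = 1 := by
    have hs : a ^ (i ^ r) = a ^ 1 := by rw [pow_one, ← hr']; simp
    have := pow_eq_pow_iff_modEq.mp hs
    rw [ha, ← ZMod.natCast_eq_natCast_iff] at this
    simpa using this
  have hi1 : (i : ZMod t) ≠ 1 := by
    intro h
    have hm : i ≡ 1 [MOD orderOf a] := by
      rw [ha, ← ZMod.natCast_eq_natCast_iff]; simpa using h
    have : a ^ i = a ^ 1 := pow_eq_pow_iff_modEq.mpr hm
    refine hc ?_
    have h2 : e * a * e⁻¹ = a := by rw [← hi]; simpa using this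
    exact mul_inv_eq_iff_eq_mul.mp h2
  have hi0 : (i : ZMod t) ≠ 0 := by
    intro h
    rw [h, zero_pow hr.out.ne_zero] at hmod
    exact zero_ne_one hmod
  have hord : orderOf (i : ZMod t) = r := orderOf_eq_prime hmod hi1
  have hd : r ∣ t - 1 := hord ▸ orderOf_dvd_of_pow_eq_one (ZMod.pow_card_sub_one_eq_one hi0)
  have := Nat.le_of_dvd (by have := ht.out.two_le; omega) hd
  have := ht.out.two_le
  omega

variable {M Zt : Type*} [CommGroup M] [Finite M] [MulDistribMulAction L M]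
  [CommGroup Zt] [Finite Zt] [MulDistribMulAction L Zt]

/-- The noncyclic case. -/
theorem main_aux [Group.IsSolvable L] {t r : ℕ} [ht : Fact t.Prime] [hr : Fact r.Prime]
    (htr : t ≠ r) (hprimes : ∀ s : ℕ, s.Prime → s ∣ Nat.card L → s = t ∨ s = r)
    (hMt : ¬ t ∣ Nat.card M) (hMr : ¬ r ∣ Nat.card M) (hZr : ¬ r ∣ Nat.card Zt)
    (hZ1 : Nontrivial Zt) (hfaith : ∀ g : L, (∀ m : M, g • m = m) → g = 1)
    (hF1 : ∀ e : L, (orderOf e).Prime → (∀ z : Zt, e • z = z) → Fpf e M)
    (hsplit : ∀ x y : L, orderOf x = t → orderOf y = r → Commute x y →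
      ((∀ z : Zt, x • z = z) ∧ Fpf y Zt) ∨ ((∀ z : Zt, y • z = z) ∧ Fpf x Zt))
    {a b : L} (ha : orderOf a = t) (hb : orderOf b = r) (hab : Commute a b)
    (haZ : ∀ z : Zt, a • z = z)
    {u v : L} (hpt : Pair2 t u v) {c d : L} (hpr : Pair2 r c d) : False := by
  haveI := hZ1
  obtain ⟨z0, hz0⟩ := exists_ne (1 : Zt)
  have hnot : ∀ g : L, (∀ z : Zt, g • z = z) → ¬ Fpf g Zt := fun g hg hf => hz0 (hf z0 (hg z0))
  haveI : Nontrivial M := by
    rw [← not_subsingleton_iff_nontrivial]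
    intro hs
    have := hfaith a fun m => Subsingleton.elim _ _
    rw [this, orderOf_one] at ha
    exact ht.out.ne_one ha.symm
  obtain ⟨m0, hm0⟩ := exists_ne (1 : M)
  let L0 : Subgroup L :=
    { carrier := {g | ∀ z : Zt, g • z = z}
      one_mem' := fun z => one_smul _ z
      mul_mem' := fun {g h} hg hh z => by rw [mul_smul, hh, hg]
      inv_mem' := fun {g} hg z => by rw [inv_smul_eq_iff]; exact (hg z).symm }
  haveI : L0.Normal := ⟨fun g hg h z => by rw [mul_smul, mul_smul, hg, smul_inv_smul]⟩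
  -- no elements of both orders in `L0`
  have hclash : ∀ (s s' : ℕ), (s = t ∧ s' = r) ∨ (s = r ∧ s' = t) → ∀ Y : Subgroup L, Y.Normal →
      Y ≤ L0 → (∀ y ∈ Y, y ^ s = 1) → Y ≠ ⊥ → ∀ e ∈ L0, orderOf e = s' → False := by
    intro s s' hss Y hYn hYL hY hY1 e heL he
    haveI : Fact s.Prime := ⟨by rcases hss with ⟨h, -⟩ | ⟨h, -⟩ <;> rw [h]; exacts [ht.out, hr.out]⟩
    haveI : Fact s'.Prime := ⟨by rcases hss with ⟨-, h⟩ | ⟨-, h⟩ <;> rw [h]; exacts [hr.out, ht.out]⟩
    have hMs : ¬ s ∣ Nat.card M := by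
      rcases hss with ⟨h, -⟩ | ⟨h, -⟩ <;> rw [h] <;> assumption
    have hfree : ∀ y ∈ Y, Commute e y → y = 1 := by
      intro y hy hey
      by_contra hy1
      have hyo : orderOf y = s := orderOf_eq_prime (hY y hy) hy1
      rcases hss with ⟨h, h'⟩ | ⟨h, h'⟩
      · rcases hsplit y e (hyo.trans h) (he.trans h') hey.symm with ⟨-, hf⟩ | ⟨-, hf⟩
        exacts [hnot e heL hf, hnot y (hYL hy) hf]
      · rcases hsplit e y (he.trans h') (hyo.trans h) hey with ⟨-, hf⟩ | ⟨-, hf⟩
        exacts [hnot y (hYL hy) hf, hnot e heL hf]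
    have hfM : Fpf e M := hF1 e (by rw [he]; exact (Fact.out : s'.Prime)) heL
    obtain ⟨y, hy⟩ := Subgroup.ne_bot_iff_exists_ne_one.mp hY1
    exact hy (Subtype.ext (hfaith y fun m => frob_one Y he (fun z hz => hYn.conj_mem z hz e)
      (coprime_of_pow hY hMs) hfree ⊤ (fun _ _ _ _ => mem_top _) (fun _ _ => mem_top _)
      (fun n _ hn => hfM n hn) y y.2 m (mem_top m)))
  have ha1 : a ≠ 1 := fun e => ht.out.ne_one (by rw [← ha, e, orderOf_one])
  have hL01 : L0 ≠ ⊥ := fun h => ha1 (mem_bot.mp (h ▸ (haZ : a ∈ L0)))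
  obtain ⟨N, hN, hNL⟩ := HallSolvable.exists_minNormal_le hL01
  haveI := hN.normal
  obtain ⟨s, hs, hNel, hNp⟩ := hN.exists_prime
  have hst : s = t := by
    haveI := Fact.mk hs
    obtain ⟨k, hk⟩ := IsPGroup.iff_card.mp hNp
    have hk0 : k ≠ 0 := fun h0 => hN.ne_bot (card_eq_one.mp (by rw [hk, h0, pow_zero]))
    have hd : s ∣ Nat.card L :=
      ((dvd_pow_self s hk0).trans (dvd_of_eq hk.symm)).trans (card_subgroup_dvd_card N)
    rcases hprimes s hs hd with h | h
    · exact h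
    · exact (hclash s t (Or.inr ⟨h, rfl⟩) N hN.normal hNL hNel.2 hN.ne_bot a haZ ha).elim
  rw [hst] at hNel
  have hnoR : ∀ e ∈ L0, orderOf e ≠ r := fun e heL he =>
    hclash t r (Or.inl ⟨rfl, rfl⟩) N hN.normal hNL hNel.2 hN.ne_bot e heL he
  -- unique subgroup of order `t` in `L0`
  have huniq : ∀ e ∈ L0, ∀ f ∈ L0, orderOf e = t → orderOf f = t → Commute e f → f ∈ zpowers e := by
    intro e heL f hfL he hf hef
    by_contra hn
    have hp : Pair2 t e f := ⟨he, hf, hef, hn⟩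
    obtain ⟨g, hg, hg1, m, -, hgm, hm⟩ := hp.exists_fixed hMt ⊤ (fun _ _ => mem_top _)
      (fun _ _ => mem_top _) top_ne_bot
    exact hm (hF1 g (by rw [hp.span_order hg hg1]; exact ht.out) (hp.span_mem heL hfL hg) m hgm)
  obtain ⟨m', hm'⟩ := Subgroup.ne_bot_iff_exists_ne_one.mp hN.ne_bot
  have hm1 : (m' : L) ≠ 1 := fun e => hm' (Subtype.ext e)
  have hmo : orderOf (m' : L) = t := orderOf_eq_prime (hNel.2 _ m'.2) hm1
  have hNm : N = zpowers (m' : L) := by
    refine le_antisymm (fun y hy => ?_) (zpowers_le.mpr m'.2)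
    by_cases hy1 : y = 1
    · rw [hy1]; exact one_mem _
    exact huniq _ (hNL m'.2) y (hNL hy) hmo (orderOf_eq_prime (hNel.2 y hy) hy1)
      (congrArg Subtype.val (hNel.1.is_comm.comm m' ⟨y, hy⟩))
  have hNcard : Nat.card N = t := by rw [hNm, Nat.card_zpowers, hmo]
  have hall : ∀ e ∈ L0, orderOf e = t → e ∈ zpowers (m' : L) := fun e heL he =>
    huniq _ (hNL m'.2) e heL hmo he (commute_of_normal_prime hN.normal hNcard he m'.2).symm
  have hA : zpowers a = N := by
    rw [hNm]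
    have h1 := hall a haZ ha
    exact le_antisymm (zpowers_le.mpr h1) (zpowers_le.mpr (mem_zpowers_self' hmo h1 ha1))
  haveI hAn : (zpowers a).Normal := hA ▸ hN.normal
  have hP : ∀ x y : L, orderOf x = t → orderOf y = r → Commute x y →
      x ∈ zpowers a ∧ Fpf y Zt ∧ Commute y a := by
    intro x y hx hy hxy
    rcases hsplit x y hx hy hxy with ⟨hxZ, hyf⟩ | ⟨hyZ, -⟩
    · have h1 : x ∈ zpowers a := by rw [hA, hNm]; exact hall x hxZ hx
      have hx1 : x ≠ 1 := fun e => ht.out.ne_one (by rw [← hx, e, orderOf_one])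
      exact ⟨h1, hyf, commute_of_mem_zpowers (mem_zpowers_self' ha h1 hx1) hxy.symm⟩
    · exact absurd hy (hnoR y hyZ)
  obtain ⟨x, hx, hxa⟩ : ∃ x : L, orderOf x = t ∧ x ∉ zpowers a := by
    by_cases hu : u ∈ zpowers a
    · exact ⟨v, hpt.2.1, fun hv => hpt.2.2.2
        ((zpowers_le.mpr (mem_zpowers_self' ha hu hpt.left_ne)) hv)⟩
    · exact ⟨u, hpt.1, hu⟩
  set Ca := centralizer ({a} : Set L) with hCa
  have hmemCa : ∀ g, g ∈ Ca ↔ Commute g a := fun g => by
    rw [hCa, mem_centralizer_iff]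
    exact ⟨fun h => (h a rfl).symm, fun h w hw => by rw [Set.mem_singleton_iff.mp hw]; exact h.eq.symm⟩
  have hnb : ¬ (c ∈ Ca ∧ d ∈ Ca) := by
    rintro ⟨hc, hd⟩
    obtain ⟨g, hg, hg1, z, -, hgz, hz⟩ := hpr.exists_fixed hZr ⊤ (fun _ _ => mem_top _)
      (fun _ _ => mem_top _) top_ne_bot
    exact hz ((hP a g ha (hpr.span_order hg hg1)
      ((hmemCa g).mp (hpr.span_mem hc hd hg)).symm).2.1 z hgz)
  obtain ⟨e', he'r, he'a⟩ : ∃ e' : L, orderOf e' = r ∧ ¬ Commute e' a := by
    by_cases hc : c ∈ Ca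
    · exact ⟨d, hpr.2.1, fun h => hnb ⟨hc, (hmemCa d).mpr h⟩⟩
    · exact ⟨c, hpr.1, fun h => hc ((hmemCa c).mpr h)⟩
  haveI := HallCore.pCore_normal r L
  haveI := HallCore.pCore_normal t L
  have hR : Cfsg.pCore r L = ⊥ := by
    by_contra hR
    haveI := socleCenter_normal r (Cfsg.pCore r L)
    set S := socleCenter r (Cfsg.pCore r L) with hS
    have hS1 : S ≠ ⊥ := socleCenter_ne_bot (HallCore.isPGroup_pCore r L) hR
    have hSa : ∀ w ∈ S, Commute a w := by
      intro w hw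
      refine commute_of_normal_of_disjoint _ _ hAn (HallCore.pCore_normal r L) ?_ a w
        (mem_zpowers a) hw.1
      exact IsPGroup.disjoint_of_ne t r htr _ _
        (IsPGroup.of_card (n := 1) (by rw [Nat.card_zpowers, ha, pow_one]))
        (HallCore.isPGroup_pCore r L)
    obtain ⟨w', hw'⟩ := Subgroup.ne_bot_iff_exists_ne_one.mp hS1
    set w := (w' : L) with hwdef
    have hw1 : w ≠ 1 := fun e => hw' (Subtype.ext e)
    have hwo : orderOf w = r := orderOf_eq_prime w'.2.2.2 hw1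
    have hSw : ∀ g ∈ S, g ∈ zpowers w := by
      intro g hg
      by_contra hgw
      have hg1 : g ≠ 1 := fun e => hgw (e ▸ one_mem _)
      have hp : Pair2 r w g := ⟨hwo, orderOf_eq_prime hg.2.2 hg1, hg.2.1 w w'.2.1, hgw⟩
      obtain ⟨h, hh, hh1, z, -, hhz, hz⟩ := hp.exists_fixed hZr ⊤ (fun _ _ => mem_top _)
        (fun _ _ => mem_top _) top_ne_bot
      exact hz ((hP a h ha (hp.span_order hh hh1) (hSa h (hp.span_mem w'.2 hg hh))).2.1 z hhz)
    have h1 : t < r := lt_of_not_commute hwo hx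
      (hSw _ ((inferInstance : S.Normal).conj_mem w w'.2 x))
      (fun h => hxa (hP x w hx hwo h).1)
    have h2 : r < t := lt_of_not_commute ha he'r (hAn.conj_mem a (mem_zpowers a) e') he'a
    omega
  have hT := HallCore.isPGroup_pCore t L
  have hpc : Cfsg.pPrimeCore t L = ⊥ := by
    haveI := HallCore.pPrimeCore_normal t L
    refine le_bot_iff.mp (hR ▸ HallCore.le_pCore ?_)
    refine IsPGroup.of_card (n := (Nat.card (Cfsg.pPrimeCore t L)).primeFactorsList.length)
      (Nat.eq_prime_pow_of_unique_prime_dvd Nat.card_pos.ne' fun {s} hs hd => ?_)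
    rcases hprimes s hs (hd.trans (card_subgroup_dvd_card _)) with h | h
    · exact absurd (h ▸ hd) (HallCore.not_dvd_card_pPrimeCore t L)
    · exact h
  have hCT : centralizer (Cfsg.pCore t L : Set L) ≤ Cfsg.pCore t L :=
    HallSolvable.centralizer_pCore_le (HallSolvable.isPSolvable_of_solvable t) hpc
  have haT : a ∈ Cfsg.pCore t L := HallCore.le_pCore (N := zpowers a)
    (IsPGroup.of_card (n := 1) (by rw [Nat.card_zpowers, ha, pow_one])) (mem_zpowers a)
  have hTr : ¬ r ∣ Nat.card (Cfsg.pCore t L) := by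
    obtain ⟨k, hk⟩ := IsPGroup.iff_card.mp hT
    rw [hk]
    exact fun h => htr ((Nat.prime_dvd_prime_iff_eq hr.out ht.out).mp (hr.out.dvd_of_dvd_pow h)).symm
  obtain ⟨e0, he0, he0a, hline⟩ := hpr.exists_line hnb
  have hfix : ∀ e ∈ Span c d, e ≠ 1 → ∀ k ∈ Cfsg.pCore t L, Commute e k → k ≠ 1 → Commute e a := by
    intro e he he1 k hk hek hk1
    obtain ⟨j, hj⟩ := IsPGroup.iff_orderOf.mp hT ⟨k, hk⟩
    rw [orderOf_mk] at hj
    have hj0 : j ≠ 0 := fun h0 => hk1 (orderOf_eq_one_iff.mp (by rw [hj, h0, pow_zero]))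
    have hd : t ∣ orderOf k := hj ▸ dvd_pow_self t hj0
    obtain ⟨l, hl⟩ := hd
    refine (hP (k ^ l) e ?_ (hpr.span_order he he1) (hek.symm.pow_left l)).2.2
    have hl0 : l ≠ 0 := fun h0 => by
      rw [h0, mul_zero] at hl
      exact (orderOf_pos k).ne' hl
    rw [orderOf_pow' k hl0, hl, Nat.gcd_mul_left_left, Nat.mul_div_cancel _ (Nat.pos_of_ne_zero hl0)]
  have hnorm : ∀ g : L, g ∈ normalizer (Cfsg.pCore t L : Set L) := fun g => by
    rw [normalizer_eq_top_iff.mpr (HallCore.pCore_normal t L)]; exact mem_top _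
  have hle : Cfsg.pCore t L ≤ centralizer ({e0} : Set L) := by
    refine hpr.gen_group _ _ hTr (hnorm c) (hnorm d) fun e he he1 k hk hek => ?_
    refine mem_centralizer_iff.mpr fun w hw => ?_
    rw [Set.mem_singleton_iff.mp hw]
    by_cases hk1 : k = 1
    · rw [hk1, mul_one, one_mul]
    have h1 := hline e he ((hmemCa e).mpr (hfix e he he1 k hk hek hk1))
    have he01 : e0 ≠ 1 := fun h => he1 (by simpa [h] using h1)
    exact (commute_of_mem_zpowers (mem_zpowers_self' (hpr.span_order he0 he01) h1 he1)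
      hek.symm).symm.eq
  have he01 : e0 = 1 := by
    have h : e0 ∈ Cfsg.pCore t L := hCT (mem_centralizer_iff.mpr fun k hk =>
      (mem_centralizer_iff.mp (hle hk) e0 rfl).symm)
    by_contra h1
    exact hTr (hpr.span_order he0 h1 ▸ Subgroup.orderOf_dvd_natCard _ h)
  have hbot : Cfsg.pCore t L ≤ ⊥ := by
    refine hpr.gen_group _ _ hTr (hnorm c) (hnorm d) fun e he he1 k hk hek => mem_bot.mpr ?_
    by_contra hk1
    have := hline e he ((hmemCa e).mpr (hfix e he he1 k hk hek hk1))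
    rw [he01] at this
    exact he1 (by simpa using this)
  exact ha1 (mem_bot.mp (hbot haT))

end Cfsg.Agent.FourPrimes
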