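import Cfsg.Agent.Lib.FourPrimesCaseB
import Cfsg.Agent.Lib.PrimeGraphSolvable

/-!
# Solvable groups with four primes, pairwise joined and nowhere triply joined, do not exist
-/

set_option autoImplicit false
set_option linter.style.haveILetI false
set_option linter.unusedSectionVars false
set_option linter.unusedVariables false

open scoped commutatorElement

namespace Cfsg.Agent.FourPrimes

open Subgroup

variable {G : Type*} [Group G]

theorem orderOf_prod_three {a b c : G} (hab : (orderOf a).Coprime (orderOf b))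
    (hbc : (orderOf b).Coprime (orderOf c)) (hac : (orderOf a).Coprime (orderOf c))
    (cab : Commute a b) (cac : Commute a c) (cbc : Commute b c) :
    orderOf (a * b * c) = orderOf a * orderOf b * orderOf c := by
  have h1 : orderOf (a * b) = orderOf a * orderOf b := cab.orderOf_mul_eq_mul_orderOf_of_coprime hab
  rw [(cac.mul_left cbc).orderOf_mul_eq_mul_orderOf_of_coprime
    (by rw [h1]; exact hac.mul_left hbc), h1]

theorem exists_pair_of_order {s s' : ℕ} {g : G} (hg : orderOf g = s * s') (hs : s ≠ 0)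
    (hs' : s' ≠ 0) : orderOf (g ^ s') = s ∧ orderOf (g ^ s) = s' := by
  constructor
  · rw [orderOf_pow' g hs', hg, Nat.gcd_mul_left_left, Nat.mul_div_cancel _ (Nat.pos_of_ne_zero hs')]
  · rw [orderOf_pow' g hs, hg, Nat.gcd_mul_right_left, Nat.mul_div_cancel_left _ (Nat.pos_of_ne_zero hs)]

/-- no three pairwise commuting elements of distinct prime orders -/
def NoTriple (G : Type*) [Group G] : Prop :=
  ∀ a b c : G, (orderOf a).Prime → (orderOf b).Prime → (orderOf c).Prime →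
    orderOf a ≠ orderOf b → orderOf b ≠ orderOf c → orderOf a ≠ orderOf c →
    Commute a b → Commute a c → Commute b c → False

theorem NoTriple.subgroup (h : NoTriple G) (H : Subgroup G) : NoTriple H := by
  intro a b c ha hb hc h1 h2 h3 k1 k2 k3
  exact h a b c (by rwa [orderOf_coe]) (by rwa [orderOf_coe]) (by rwa [orderOf_coe])
    (by rwa [orderOf_coe, orderOf_coe]) (by rwa [orderOf_coe, orderOf_coe])
    (by rwa [orderOf_coe, orderOf_coe]) (congrArg Subtype.val k1.eq) (congrArg Subtype.val k2.eq)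
    (congrArg Subtype.val k3.eq)

theorem NoTriple.quotient [Finite G] (h : NoTriple G) (N : Subgroup G) [N.Normal] :
    NoTriple (G ⧸ N) := by
  intro a b c ha hb hc hab hbc hac cab cac cbc
  have hord := orderOf_prod_three ((Nat.coprime_primes ha hb).mpr hab)
    ((Nat.coprime_primes hb hc).mpr hbc) ((Nat.coprime_primes ha hc).mpr hac) cab cac cbc
  obtain ⟨g, hg⟩ := QuotientGroup.mk'_surjective N (a * b * c)
  have hd : orderOf a * orderOf b * orderOf c ∣ orderOf g := by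
    rw [← hord, ← hg]
    exact orderOf_map_dvd _ g
  have hn0 : orderOf g ≠ 0 := (orderOf_pos g).ne'
  have key : ∀ s, s ∣ orderOf a * orderOf b * orderOf c → orderOf (g ^ (orderOf g / s)) = s :=
    fun s hs => orderOf_pow_orderOf_div hn0 (hs.trans hd)
  have k1 := key (orderOf a) (Dvd.intro _ (mul_assoc _ _ _).symm)
  have k2 := key (orderOf b) (dvd_mul_of_dvd_left (dvd_mul_left _ _) _)
  have k3 := key (orderOf c) (dvd_mul_left _ _)
  exact h _ _ _ (k1.symm ▸ ha) (k2.symm ▸ hb) (k3.symm ▸ hc) (by rw [k1, k2]; exact hab)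
    (by rw [k2, k3]; exact hbc) (by rw [k1, k3]; exact hac) ((Commute.refl g).pow_pow _ _)
    ((Commute.refl g).pow_pow _ _) ((Commute.refl g).pow_pow _ _)

/-- every pair of primes is joined -/
def AllJoined (G : Type*) [Group G] : Prop :=
  ∀ s s' : ℕ, s.Prime → s ∣ Nat.card G → s'.Prime → s' ∣ Nat.card G → s ≠ s' →
    ∃ a b : G, orderOf a = s ∧ orderOf b = s' ∧ Commute a b

/-- A joined pair passes to Hall subgroups. -/
theorem joined_in_hall [Finite G] [Group.IsSolvable G] {π : Set ℕ} {H : Subgroup G}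
    (hH : Cfsg.IsPiHall π H) {s s' : ℕ} (hs : s.Prime) (hs' : s'.Prime) (hne : s ≠ s')
    (hsπ : s ∈ π) (hsπ' : s' ∈ π) {a b : G} (ha : orderOf a = s) (hb : orderOf b = s')
    (hab : Commute a b) : ∃ a' b' : H, orderOf a' = s ∧ orderOf b' = s' ∧ Commute a' b' := by
  have hU : Cfsg.Agent.HallCore.PiNat π (Nat.card (CoprimeGen.pairSubgroup a b hab)) := by
    intro x hx hd
    have h1 := hd.trans (CoprimeGen.card_pairSubgroup_dvd a b hab)
    rw [ha, hb, hx.dvd_mul, Nat.prime_dvd_prime_iff_eq hx hs, Nat.prime_dvd_prime_iff_eq hx hs'] at h1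
    rcases h1 with rfl | rfl <;> assumption
  obtain ⟨g, hg⟩ := HallTheorem.le_conj_isPiHall (HallSolvable.isPiSeparable_of_solvable π)
    (HallTheorem.complSolvable_of_solvable π) hU hH
  have hmem : ∀ u ∈ CoprimeGen.pairSubgroup a b hab, (MulAut.conj g)⁻¹ u ∈ H := fun u hu =>
    Subgroup.mem_pointwise_smul_iff_inv_smul_mem.mp (hg hu)
  exact ⟨⟨_, hmem a (CoprimeGen.left_mem_pairSubgroup a b hab)⟩,
    ⟨_, hmem b (CoprimeGen.right_mem_pairSubgroup a b hab)⟩,
    by rw [orderOf_mk, MulEquiv.orderOf_eq, ha], by rw [orderOf_mk, MulEquiv.orderOf_eq, hb],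
    Subtype.ext (hab.map ((MulAut.conj g)⁻¹)).eq⟩

/-- four given primes and no others -/
structure FourHyp (G : Type*) [Group G] (p q t r : ℕ) : Prop where
  hp : p.Prime
  hq : q.Prime
  ht : t.Prime
  hr : r.Prime
  dp : p ∣ Nat.card G
  dq : q ∣ Nat.card G
  dt : t ∣ Nat.card G
  dr : r ∣ Nat.card G
  pq : p ≠ q
  pt : p ≠ t
  pr : p ≠ r
  qt : q ≠ t
  qr : q ≠ r
  tr : t ≠ r
  all : ∀ s : ℕ, s.Prime → s ∣ Nat.card G → s = p ∨ s = q ∨ s = t ∨ s = r

variable [Finite G]

theorem FourHyp.perm_qt {p q t r : ℕ} (h : FourHyp G p q t r) : FourHyp G p t q r :=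
  ⟨h.hp, h.ht, h.hq, h.hr, h.dp, h.dt, h.dq, h.dr, h.pt, h.pq, h.pr, h.qt.symm, h.tr, h.qr,
    fun s hs hd => by rcases h.all s hs hd with h1 | h1 | h1 | h1 <;> tauto⟩

theorem FourHyp.perm_tr {p q t r : ℕ} (h : FourHyp G p q t r) : FourHyp G p q r t :=
  ⟨h.hp, h.hq, h.hr, h.ht, h.dp, h.dq, h.dr, h.dt, h.pq, h.pr, h.pt, h.qr, h.qt, h.tr.symm,
    fun s hs hd => by rcases h.all s hs hd with h1 | h1 | h1 | h1 <;> tauto⟩

theorem FourHyp.perm_pq {p q t r : ℕ} (h : FourHyp G p q t r) : FourHyp G q p t r :=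
  ⟨h.hq, h.hp, h.ht, h.hr, h.dq, h.dp, h.dt, h.dr, h.pq.symm, h.qt, h.qr, h.pt, h.pr, h.tr,
    fun s hs hd => by rcases h.all s hs hd with h1 | h1 | h1 | h1 <;> tauto⟩

theorem FourHyp.pick {p q t r : ℕ} (h : FourHyp G p q t r) {s : ℕ} (hs : s.Prime)
    (hd : s ∣ Nat.card G) : ∃ y1 y2 y3 : ℕ, FourHyp G s y1 y2 y3 := by
  rcases h.all s hs hd with rfl | rfl | rfl | rfl
  · exact ⟨q, t, r, h⟩
  · exact ⟨p, t, r, h.perm_pq⟩
  · exact ⟨q, p, r, h.perm_qt.perm_pq.perm_qt⟩
  · exact ⟨q, t, p, h.perm_tr.perm_qt.perm_pq.perm_qt.perm_tr⟩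

/-- Every prime has rank at least two. -/
theorem rank_two [Group.IsSolvable G] {p q t r : ℕ} (h : FourHyp G p q t r) (hNT : NoTriple G)
    (hJ : AllJoined G) {s : ℕ} (hs : s.Prime) (hd : s ∣ Nat.card G) :
    ∃ a b : G, Pair2 s a b := by
  haveI := Fact.mk hs
  obtain ⟨y1, y2, y3, hh⟩ := h.pick hs hd
  by_contra hno
  obtain ⟨a, ha⟩ := exists_prime_orderOf_dvd_card' s hd
  obtain ⟨R⟩ : Nonempty (Sylow s G) := inferInstance
  have hR1 : (R : Subgroup G) ≠ ⊥ := R.ne_bot_of_dvd_card hd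
  obtain ⟨z', hz'⟩ := Subgroup.ne_bot_iff_exists_ne_one.mp (socleCenter_ne_bot R.2 hR1)
  set z := (z' : G) with hzdef
  have hz1 : z ≠ 1 := fun e => hz' (Subtype.ext e)
  have hzo : orderOf z = s := orderOf_eq_prime z'.2.2.2 hz1
  have hall : ∀ u ∈ (R : Subgroup G), orderOf u = s → u ∈ zpowers z := fun u hu huo =>
    Classical.byContradiction fun hn => hno ⟨z, u, hzo, huo, (z'.2.2.1 u hu).symm, hn⟩
  have hcom : ∀ y, y.Prime → y ∣ Nat.card G → s ≠ y → y ∣ Nat.card (centralizer ({z} : Set G)) := by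
    intro y hy hyd hsy
    obtain ⟨u, w, hu, hw, huw⟩ := hJ s y hs hd hy hyd hsy
    have hq : IsPGroup s (zpowers u) :=
      IsPGroup.of_card (n := 1) (by rw [Nat.card_zpowers, hu, pow_one])
    obtain ⟨R', hR'⟩ := hq.exists_le_sylow
    obtain ⟨g, hg⟩ := MulAction.exists_smul_eq G R' R
    have hgu : MulAut.conj g u ∈ (R : Subgroup G) := by
      rw [← hg]
      exact ⟨u, hR' (mem_zpowers u), rfl⟩
    have huo : orderOf (MulAut.conj g u) = s := by rw [MulEquiv.orderOf_eq, hu]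
    have hne : MulAut.conj g u ≠ 1 := fun e => hs.ne_one (by rw [← huo, e, orderOf_one])
    have hzu : z ∈ zpowers (MulAut.conj g u) := mem_zpowers_self' hzo (hall _ hgu huo) hne
    have hmem : MulAut.conj g w ∈ centralizer ({z} : Set G) :=
      mem_centralizer_singleton'.mpr (commute_of_mem_zpowers hzu (huw.symm.map (MulAut.conj g)))
    have := orderOf_dvd_natCard (⟨_, hmem⟩ : centralizer ({z} : Set G))
    rwa [orderOf_mk, MulEquiv.orderOf_eq, hw] at this
  have hne : ∀ y y', y.Prime → y'.Prime → y ≠ y' → s ≠ y → s ≠ y' →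
      PrimeGraphSolvable.NoEdge (centralizer ({z} : Set G)) y y' := by
    intro y y' hy hy' hyy hsy hsy' v hv
    obtain ⟨h1, h2⟩ := exists_pair_of_order hv hy.ne_zero hy'.ne_zero
    have hc : Commute (v : G) z := mem_centralizer_singleton'.mp v.2
    refine hNT ((v : G) ^ y') ((v : G) ^ y) z ?_ ?_ (by rw [hzo]; exact hs) ?_ ?_ ?_
      ((Commute.refl _).pow_pow _ _) (hc.pow_left _) (hc.pow_left _)
    all_goals simp only [← SubmonoidClass.coe_pow, orderOf_coe, h1, h2, hzo]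
    exacts [hy, hy', hyy, hsy'.symm, hsy.symm]
  exact PrimeGraphSolvable.no_three_coclique (G := centralizer ({z} : Set G)) hh.hq hh.ht hh.hr
    hh.qt hh.qr hh.tr (hcom _ hh.hq hh.dq hh.pq) (hcom _ hh.ht hh.dt hh.pt)
    (hcom _ hh.hr hh.dr hh.pr) (hne _ _ hh.hq hh.ht hh.qt hh.pq hh.pt)
    (hne _ _ hh.hq hh.hr hh.qr hh.pq hh.pr) (hne _ _ hh.ht hh.hr hh.tr hh.pt hh.pr)

/-- two primes in the Fitting subgroup -/
theorem caseA_top [Group.IsSolvable G] {p q t r : ℕ} (h : FourHyp G p q t r) (hNT : NoTriple G)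
    (hJ : AllJoined G) (hP : Cfsg.pCore p G ≠ ⊥) (hQ : Cfsg.pCore q G ≠ ⊥) : False := by
  haveI := Fact.mk h.hp
  haveI := Fact.mk h.hq
  haveI := HallCore.pCore_normal p G
  haveI := HallCore.pCore_normal q G
  set Vs := socleCenter p (Cfsg.pCore p G) with hVs
  set Ws := socleCenter q (Cfsg.pCore q G) with hWs
  haveI := socleCenter_normal p (Cfsg.pCore p G)
  haveI := socleCenter_normal q (Cfsg.pCore q G)
  obtain ⟨L, hL⟩ := HallTheorem.exists_isPiHall_of_solvable (G := G) {s | s = t ∨ s = r}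
  letI : CommGroup Vs := { (inferInstance : Group Vs) with
    mul_comm := fun u v => Subtype.ext (v.2.2.1 u u.2.1).eq }
  letI : CommGroup Ws := { (inferInstance : Group Ws) with
    mul_comm := fun u v => Subtype.ext (v.2.2.1 u u.2.1).eq }
  letI actV : MulDistribMulAction L Vs := MulDistribMulAction.compHom _
    ((MulAut.conjNormal : G →* MulAut Vs).comp L.subtype)
  letI actW : MulDistribMulAction L Ws := MulDistribMulAction.compHom _
    ((MulAut.conjNormal : G →* MulAut Ws).comp L.subtype)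
  have hfV : ∀ (g : L) (w : Vs), g • w = w → Commute (g : G) w := fun g w hw => by
    have h1 := congrArg Subtype.val hw
    rw [show ((g • w : Vs) : G) = (g : G) * w * (g : G)⁻¹ from MulAut.conjNormal_apply _ _] at h1
    exact mul_inv_eq_iff_eq_mul.mp h1
  have hfW : ∀ (g : L) (w : Ws), g • w = w → Commute (g : G) w := fun g w hw => by
    have h1 := congrArg Subtype.val hw
    rw [show ((g • w : Ws) : G) = (g : G) * w * (g : G)⁻¹ from MulAut.conjNormal_apply _ _] at h1
    exact mul_inv_eq_iff_eq_mul.mp h1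
  have hoV : ∀ w : Vs, w ≠ 1 → orderOf (w : G) = p := fun w hw =>
    orderOf_eq_prime w.2.2.2 (fun e => hw (Subtype.ext e))
  have hoW : ∀ w : Ws, w ≠ 1 → orderOf (w : G) = q := fun w hw =>
    orderOf_eq_prime w.2.2.2 (fun e => hw (Subtype.ext e))
  have hV0 : Vs ≠ ⊥ := socleCenter_ne_bot (HallCore.isPGroup_pCore p G) hP
  have hW0 : Ws ≠ ⊥ := socleCenter_ne_bot (HallCore.isPGroup_pCore q G) hQ
  suffices ∀ t r : ℕ, FourHyp G p q t r → (∀ s : ℕ, s.Prime → s ∣ Nat.card L → s = t ∨ s = r) →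
      Cfsg.IsPiHall {s | s = t ∨ s = r} L → Cfsg.pCore t L ≠ ⊥ →
      (Cfsg.pCore r L = ⊥ ∨ r ≠ 2) → False by
    have hall : ∀ s : ℕ, s.Prime → s ∣ Nat.card L → s = t ∨ s = r := fun s hs hd => hL.1 s hs hd
    have hsw : {s : ℕ | s = t ∨ s = r} = {s | s = r ∨ s = t} := Set.ext fun s => or_comm
    by_cases hT : Cfsg.pCore t L = ⊥
    · have hR : Cfsg.pCore r L ≠ ⊥ := by
        intro hR
        haveI := Fact.mk h.ht
        obtain ⟨a, b, hab⟩ := rank_two h hNT hJ h.ht h.dt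
        obtain ⟨a', b', hab'⟩ := pair_in_hall hL (show t ∈ {s | s = t ∨ s = r} from Or.inl rfl) hab
        haveI : Nontrivial L := ⟨⟨a', 1, hab'.left_ne⟩⟩
        obtain ⟨N, hN⟩ := HallSolvable.exists_minNormal (G := L)
        haveI := hN.normal
        obtain ⟨s, hs, -, hNp⟩ := hN.exists_prime
        haveI := Fact.mk hs
        obtain ⟨k, hk⟩ := IsPGroup.iff_card.mp hNp
        have hk0 : k ≠ 0 := fun h0 => hN.ne_bot (card_eq_one.mp (by rw [hk, h0, pow_zero]))
        rcases hall s hs (((dvd_pow_self s hk0).trans (dvd_of_eq hk.symm)).trans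
          (card_subgroup_dvd_card N)) with h1 | h1
        · exact hN.ne_bot (le_bot_iff.mp (hT ▸ h1 ▸ HallCore.le_pCore hNp))
        · exact hN.ne_bot (le_bot_iff.mp (hR ▸ h1 ▸ HallCore.le_pCore hNp))
      exact this r t h.perm_tr (fun s hs hd => (hall s hs hd).symm) (hsw ▸ hL) hR (Or.inl hT)
    · by_cases hR : Cfsg.pCore r L = ⊥
      · exact this t r h hall hL hT (Or.inl hR)
      · by_cases hr2 : r = 2
        · exact this r t h.perm_tr (fun s hs hd => (hall s hs hd).symm) (hsw ▸ hL) hR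
            (Or.inr (hr2 ▸ h.tr))
        · exact this t r h hall hL hT (Or.inr hr2)
  clear! t r
  intro t r h hall hL hT0 hR0
  haveI := Fact.mk h.ht
  haveI := Fact.mk h.hr
  obtain ⟨a, b, hab⟩ := rank_two h hNT hJ h.ht h.dt
  obtain ⟨c, d, hcd⟩ := rank_two h hNT hJ h.hr h.dr
  obtain ⟨a', b', hab'⟩ := pair_in_hall hL (show t ∈ {s | s = t ∨ s = r} from Or.inl rfl) hab
  obtain ⟨c', d', hcd'⟩ := pair_in_hall hL (show r ∈ {s | s = t ∨ s = r} from Or.inr rfl) hcd
  have mkHyp : ∀ (x : ℕ), x.Prime → x ≠ t → x ≠ r → ∀ (N : Subgroup G), IsPGroup x N →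
      ¬ t ∣ Nat.card N ∧ ¬ r ∣ Nat.card N := by
    intro x hx hxt hxr N hN
    haveI := Fact.mk hx
    obtain ⟨k, hk⟩ := IsPGroup.iff_card.mp hN
    rw [hk]
    exact ⟨fun hd => hxt ((Nat.prime_dvd_prime_iff_eq h.ht hx).mp (h.ht.dvd_of_dvd_pow hd)).symm,
      fun hd => hxr ((Nat.prime_dvd_prime_iff_eq h.hr hx).mp (h.hr.dvd_of_dvd_pow hd)).symm⟩
  obtain ⟨hVt, hVr⟩ := mkHyp p h.hp h.pt h.pr Vs
    ((HallCore.isPGroup_pCore p G).to_le fun w hw => hw.1)
  obtain ⟨hWt, hWr⟩ := mkHyp q h.hq h.qt h.qr Ws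
    ((HallCore.isPGroup_pCore q G).to_le fun w hw => hw.1)
  refine caseA (L := L) (V := Vs) (W := Ws) h.tr hall
    ⟨Vs.nontrivial_iff_ne_bot.mpr hV0, hVt, hVr, fun x y hx hy hxy m hxm hym => ?_⟩
    ⟨Ws.nontrivial_iff_ne_bot.mpr hW0, hWt, hWr, fun x y hx hy hxy m hxm hym => ?_⟩
    (fun e he => ?_) hab' hcd' hT0 hR0
  · by_contra hm
    exact hNT (m : G) x y (by rw [hoV m hm]; exact h.hp) (by rw [orderOf_coe, hx]; exact h.ht)
      (by rw [orderOf_coe, hy]; exact h.hr) (by rw [hoV m hm, orderOf_coe, hx]; exact h.pt)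
      (by rw [orderOf_coe, orderOf_coe, hx, hy]; exact h.tr)
      (by rw [hoV m hm, orderOf_coe, hy]; exact h.pr) (hfV x m hxm).symm (hfV y m hym).symm
      (congrArg Subtype.val hxy.eq)
  · by_contra hm
    exact hNT (m : G) x y (by rw [hoW m hm]; exact h.hq) (by rw [orderOf_coe, hx]; exact h.ht)
      (by rw [orderOf_coe, hy]; exact h.hr) (by rw [hoW m hm, orderOf_coe, hx]; exact h.qt)
      (by rw [orderOf_coe, orderOf_coe, hx, hy]; exact h.tr)
      (by rw [hoW m hm, orderOf_coe, hy]; exact h.qr) (hfW x m hxm).symm (hfW y m hym).symm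
      (congrArg Subtype.val hxy.eq)
  · by_contra hboth
    rw [not_or] at hboth
    obtain ⟨m, hm, hm1⟩ := not_fpf_iff.mp hboth.1
    obtain ⟨n, hn, hn1⟩ := not_fpf_iff.mp hboth.2
    have he' : orderOf e = t ∨ orderOf e = r := hall _ he (orderOf_dvd_natCard e)
    exact hNT (m : G) n (e : G) (by rw [hoV m hm1]; exact h.hp) (by rw [hoW n hn1]; exact h.hq)
      (by rw [orderOf_coe]; exact he) (by rw [hoV m hm1, hoW n hn1]; exact h.pq)
      (by rw [hoW n hn1, orderOf_coe]; rcases he' with h1 | h1 <;> rw [h1]; exacts [h.qt, h.qr])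
      (by rw [hoV m hm1, orderOf_coe]; rcases he' with h1 | h1 <;> rw [h1]; exacts [h.pt, h.pr])
      (ComponentsFitting.commute_pCore h.hp h.hq h.pq _ _ m.2.1 n.2.1) (hfV e m hm).symm
      (hfW e n hn).symm

/-- one prime in the Fitting subgroup -/
theorem caseB_top [Group.IsSolvable G] {p q t r : ℕ} (h : FourHyp G p q t r) (hNT : NoTriple G)
    (hJ : AllJoined G) (hQ : Cfsg.pCore q G = ⊥) (hT : Cfsg.pCore t G = ⊥)
    (hR : Cfsg.pCore r G = ⊥) : False := by
  haveI := Fact.mk h.hp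
  have hpc : Cfsg.pPrimeCore p G = ⊥ := by
    by_contra hne
    haveI := HallCore.pPrimeCore_normal p G
    obtain ⟨N, hN, hNP⟩ := HallSolvable.exists_minNormal_le hne
    haveI := hN.normal
    obtain ⟨s, hs, -, hNp⟩ := hN.exists_prime
    haveI := Fact.mk hs
    obtain ⟨k, hk⟩ := IsPGroup.iff_card.mp hNp
    have hk0 : k ≠ 0 := fun h0 => hN.ne_bot (card_eq_one.mp (by rw [hk, h0, pow_zero]))
    have hd : s ∣ Nat.card N := (dvd_pow_self s hk0).trans (dvd_of_eq hk.symm)
    have hle : N ≤ Cfsg.pCore s G := HallCore.le_pCore hNp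
    rcases h.all s hs (hd.trans (card_subgroup_dvd_card N)) with h' | h' | h' | h' <;>
      rw [h'] at hle hd
    · exact HallCore.not_dvd_card_pPrimeCore p G (hd.trans (card_dvd_of_le hNP))
    all_goals refine hN.ne_bot (le_bot_iff.mp (hle.trans ?_))
    exacts [hQ.le, hT.le, hR.le]
  set F := Cfsg.pCore p G with hF
  have hCF : centralizer (F : Set G) ≤ F :=
    HallSolvable.centralizer_pCore_le (HallSolvable.isPSolvable_of_solvable p) hpc
  have hFp : IsPGroup p F := HallCore.isPGroup_pCore p G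
  haveI hFn : F.Normal := HallCore.pCore_normal p G
  set Φ := (frattini F).map F.subtype with hΦ
  haveI : (frattini F).Characteristic := inferInstance
  haveI : Φ.Normal := inferInstance
  set mk := QuotientGroup.mk' Φ with hmk
  set Vb := F.map mk with hVb
  haveI : Vb.Normal := hFn.map mk (QuotientGroup.mk'_surjective Φ)
  letI : CommGroup Vb := { (inferInstance : Group Vb) with
    mul_comm := fun u v => by
      obtain ⟨x, hx, hxu⟩ := u.2
      obtain ⟨y, hy, hyv⟩ := v.2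
      apply Subtype.ext
      change (u : G ⧸ Φ) * v = v * u
      rw [← hxu, ← hyv, ← commutatorElement_eq_one_iff_mul_comm, ← map_commutatorElement,
        hmk, QuotientGroup.mk'_apply, QuotientGroup.eq_one_iff]
      exact ⟨⁅⟨x, hx⟩, ⟨y, hy⟩⁆, PGroupsBasic.commutator_le_frattini hFp
        (commutator_mem_commutator (mem_top _) (mem_top _)), by simp [commutatorElement_def]⟩ }
  obtain ⟨K, hK⟩ := HallTheorem.exists_isPiHall_of_solvable (G := G) {s | s = q ∨ s = t ∨ s = r}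
  letI : MulDistribMulAction K Vb := MulDistribMulAction.compHom _
    (((MulAut.conjNormal : G ⧸ Φ →* MulAut Vb).comp mk).comp K.subtype)
  have hact : ∀ (g : K) (w : Vb), ((g • w : Vb) : G ⧸ Φ) = mk g * w * (mk g)⁻¹ := fun g w =>
    MulAut.conjNormal_apply _ _
  have hfix : ∀ (g : K) (w : Vb), g • w = w → Commute (mk g) w := fun g w hw => by
    have h1 := congrArg Subtype.val hw
    rw [hact] at h1
    exact mul_inv_eq_iff_eq_mul.mp h1
  have hKall : ∀ s : ℕ, s.Prime → s ∣ Nat.card K → s = q ∨ s = t ∨ s = r := fun s hs hd => hK.1 s hs hd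
  have hKp : ∀ s : ℕ, s.Prime → s ∣ Nat.card K → s ≠ p := by
    intro s hs hd
    rcases hKall s hs hd with rfl | rfl | rfl
    exacts [h.pq.symm, h.pt.symm, h.pr.symm]
  have hKdvd : ∀ s : ℕ, (s = q ∨ s = t ∨ s = r) → s.Prime ∧ s ∣ Nat.card K := by
    intro s hs
    have hh : s.Prime ∧ s ∣ Nat.card G := by
      rcases hs with rfl | rfl | rfl
      exacts [⟨h.hq, h.dq⟩, ⟨h.ht, h.dt⟩, ⟨h.hr, h.dr⟩]
    refine ⟨hh.1, ?_⟩
    rcases hh.1.dvd_mul.mp (hh.2.trans (dvd_of_eq (K.card_mul_index).symm)) with h1 | h1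
    · exact h1
    · exact absurd h1 (hK.2 s hh.1 hs)
  have hVp : IsPGroup p Vb := hFp.map mk
  have hcopK : ∀ x ∈ F, x ∈ K → x = 1 := by
    intro x hxF hxK
    by_contra hx1
    obtain ⟨j, hj⟩ := IsPGroup.iff_orderOf.mp hFp ⟨x, hxF⟩
    rw [orderOf_mk] at hj
    have hj0 : j ≠ 0 := fun h0 => hx1 (orderOf_eq_one_iff.mp (by rw [hj, h0, pow_zero]))
    have hd : p ∣ Nat.card K :=
      ((dvd_pow_self p hj0).trans (dvd_of_eq hj.symm)).trans (Subgroup.orderOf_dvd_natCard K hxK)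
    exact hKp p h.hp hd rfl
  have hinj : ∀ g : K, orderOf (mk g) = orderOf g := by
    intro g
    rw [← orderOf_coe g]
    refine Nat.dvd_antisymm (orderOf_map_dvd mk _) (orderOf_dvd_of_pow_eq_one ?_)
    have h1 : (g : G) ^ orderOf (mk g) ∈ Φ := by
      rw [← QuotientGroup.eq_one_iff, ← QuotientGroup.mk'_apply, ← hmk, map_pow]
      exact pow_orderOf_eq_one _
    exact hcopK _ (map_subtype_le _ h1) (pow_mem g.2 _)
  have hNTq := hNT.quotient Φ
  refine caseB (K := K) (M := Vb) ⟨?_, hNT.subgroup K, ?_, ?_, ?_, ?_, ?_⟩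
  · -- faithful
    intro g hg
    have hle : zpowers (g : G) ≤ centralizer (F : Set G) := by
      refine CoprimeAction.le_centralizer_of_frattini
        (by rw [normalizer_eq_top_iff.mpr hFn]; exact le_top) ?_ ?_
      · obtain ⟨k, hk⟩ := IsPGroup.iff_card.mp (hFp.to_subgroup (frattini F))
        rw [hk, Nat.card_zpowers, orderOf_coe]
        refine (Nat.Coprime.pow_right k ?_)
        rw [Nat.coprime_comm, h.hp.coprime_iff_not_dvd]
        exact fun hd => hKp p h.hp (hd.trans (orderOf_dvd_natCard g)) rfl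
      · intro c hc x hx
        have hc' : c ∈ K := zpowers_le.mpr g.2 hc
        have hgz : (⟨c, hc'⟩ : K) ∈ zpowers g := by
          obtain ⟨k, hk⟩ := hc
          exact ⟨k, Subtype.ext (by simpa using hk)⟩
        have h1 := smul_eq_of_mem_zpowers hgz (hg ⟨mk x, x, hx, rfl⟩)
        have h2 := congrArg Subtype.val h1
        rw [hact] at h2
        simp only at h2
        show c * x * c⁻¹ * x⁻¹ ∈ Φ
        rw [← QuotientGroup.eq_one_iff, ← QuotientGroup.mk'_apply, ← hmk, map_mul, map_mul, map_mul,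
          map_inv, map_inv, h2, mul_inv_cancel]
    exact Subtype.ext (hcopK _ (hCF (hle (mem_zpowers _))) g.2)
  · intro a b ha hb hab hc m hma hmb
    by_contra hm
    obtain ⟨j, hj⟩ := IsPGroup.iff_orderOf.mp hVp m
    have hd : p ∣ orderOf m := by
      have hj0 : j ≠ 0 := fun h0 => hm (orderOf_eq_one_iff.mp (by rw [hj, h0, pow_zero]))
      exact (dvd_pow_self p hj0).trans (dvd_of_eq hj.symm)
    set m' := m ^ (orderOf m / p) with hm'
    have hm'o : orderOf (m' : G ⧸ Φ) = p := by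
      rw [orderOf_coe, hm', orderOf_pow_orderOf_div (orderOf_pos m).ne' hd]
    refine hNTq (m' : G ⧸ Φ) (mk a) (mk b) (by rw [hm'o]; exact h.hp) (by rw [hinj]; exact ha)
      (by rw [hinj]; exact hb) ?_ (by rw [hinj, hinj]; exact hab) ?_
      (hfix a m' (by rw [hm', smul_pow', hma])).symm (hfix b m' (by rw [hm', smul_pow', hmb])).symm
      ((show Commute (a : G) (b : G) from congrArg Subtype.val hc.eq).map mk)
    · rw [hm'o, hinj]
      exact (hKp _ ha (orderOf_dvd_natCard a)).symm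
    · rw [hm'o, hinj]
      exact (hKp _ hb (orderOf_dvd_natCard b)).symm
  · intro s hs hd hdV
    obtain ⟨k, hk⟩ := IsPGroup.iff_card.mp hVp
    rw [hk] at hdV
    exact hKp s hs hd ((Nat.prime_dvd_prime_iff_eq hs h.hp).mp (hs.dvd_of_dvd_pow hdV))
  · exact ⟨q, t, r, h.qt, h.qr, h.tr, fun s => ⟨fun hh => hKall s hh.1 hh.2, hKdvd s⟩⟩
  · intro s hs hd
    haveI := Fact.mk hs
    obtain ⟨a, b, hab⟩ := rank_two h hNT hJ hs (hd.trans (card_subgroup_dvd_card K))
    exact pair_in_hall hK (show s ∈ {s | s = q ∨ s = t ∨ s = r} from hKall s hs hd) hab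
  · intro s s' hs hd hs' hd' hne
    obtain ⟨a, b, ha, hb, hab⟩ := hJ s s' hs (hd.trans (card_subgroup_dvd_card K)) hs'
      (hd'.trans (card_subgroup_dvd_card K)) hne
    exact joined_in_hall hK hs hs' hne (hKall s hs hd) (hKall s' hs' hd') ha hb hab

theorem no_four [Group.IsSolvable G] {p q t r : ℕ} (h : FourHyp G p q t r) (hNT : NoTriple G)
    (hJ : AllJoined G) : False := by
  haveI : Nontrivial G := Finite.one_lt_card_iff_nontrivial.mp
    (lt_of_lt_of_le h.hp.one_lt (Nat.le_of_dvd Nat.card_pos h.dp))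
  obtain ⟨N, hN⟩ := HallSolvable.exists_minNormal (G := G)
  haveI := hN.normal
  obtain ⟨s, hs, -, hNp⟩ := hN.exists_prime
  haveI := Fact.mk hs
  have hS : Cfsg.pCore s G ≠ ⊥ := fun hb => hN.ne_bot (le_bot_iff.mp (hb ▸ HallCore.le_pCore hNp))
  obtain ⟨k, hk⟩ := IsPGroup.iff_card.mp hNp
  have hk0 : k ≠ 0 := fun h0 => hN.ne_bot (card_eq_one.mp (by rw [hk, h0, pow_zero]))
  obtain ⟨y1, y2, y3, hh⟩ := h.pick hs
    (((dvd_pow_self s hk0).trans (dvd_of_eq hk.symm)).trans (card_subgroup_dvd_card N))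
  by_cases h1 : Cfsg.pCore y1 G = ⊥
  · by_cases h2 : Cfsg.pCore y2 G = ⊥
    · by_cases h3 : Cfsg.pCore y3 G = ⊥
      · exact caseB_top hh hNT hJ h1 h2 h3
      · exact caseA_top hh.perm_tr.perm_qt hNT hJ hS h3
    · exact caseA_top hh.perm_qt hNT hJ hS h2
  · exact caseA_top hh hNT hJ hS h1

end Cfsg.Agent.FourPrimes
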