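import Mathlib
import Cfsg.Prelude
import Cfsg.Agent.Lib.FourFormula30
import Cfsg.Agent.Lib.ZStarTheorem

/-!
# Four times transitive groups in which stabilisers of four points have odd order
-/

namespace Cfsg.Agent.FourTransOdd30

open FourFormula30

variable {α : Type*} [Fintype α] [DecidableEq α]

/-- the standing hypothesis -/
structure Hyp (G : Subgroup (Equiv.Perm α)) : Prop where
  trans : MulAction.IsMultiplyPretransitive G α 4
  odd : ∀ g ∈ G, ∀ a b c d : α, [a, b, c, d].Nodup → g a = a → g b = b → g c = c → g d = d →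
    Odd (orderOf g)

def IsInv (G : Subgroup (Equiv.Perm α)) (g : Equiv.Perm α) : Prop :=
  g ∈ G ∧ g * g = 1 ∧ g ≠ 1

def fx (g : Equiv.Perm α) : Finset α := Finset.univ.filter (fun x => g x = x)

theorem mem_fx {g : Equiv.Perm α} {x : α} : x ∈ fx g ↔ g x = x := by simp [fx]

def Four (a b c d : α) : Prop := a ≠ b ∧ a ≠ c ∧ a ≠ d ∧ b ≠ c ∧ b ≠ d ∧ c ≠ d

omit [Fintype α] [DecidableEq α] in
theorem Four.nodup {a b c d : α} (h : Four a b c d) : [a, b, c, d].Nodup := by
  obtain ⟨h1, h2, h3, h4, h5, h6⟩ := h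
  simp [h1, h2, h3, h4, h5, h6]

omit [Fintype α] [DecidableEq α] in
theorem Four.injective {a b c d : α} (h : Four a b c d) :
    Function.Injective ![a, b, c, d] := by
  obtain ⟨h1, h2, h3, h4, h5, h6⟩ := h
  intro i j hij
  fin_cases i <;> fin_cases j <;>
    simp_all [h1.symm, h2.symm, h3.symm, h4.symm, h5.symm, h6.symm]

variable {G : Subgroup (Equiv.Perm α)}

omit [Fintype α] [DecidableEq α] in
theorem exists_map (hG : Hyp G) {a b c d a' b' c' d' : α} (h : Four a b c d)
    (h' : Four a' b' c' d') :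
    ∃ g ∈ G, g a = a' ∧ g b = b' ∧ g c = c' ∧ g d = d' := by
  obtain ⟨g, hg⟩ := hG.trans.exists_smul_eq ⟨_, h.injective⟩ ⟨_, h'.injective⟩
  refine ⟨g.1, g.2, ?_, ?_, ?_, ?_⟩
  · exact congrFun (congrArg DFunLike.coe hg) 0
  · exact congrFun (congrArg DFunLike.coe hg) 1
  · exact congrFun (congrArg DFunLike.coe hg) 2
  · exact congrFun (congrArg DFunLike.coe hg) 3

omit [Fintype α] [DecidableEq α] in
theorem pow_fix {g : Equiv.Perm α} {x : α} (h : g x = x) (j : ℕ) : (g ^ j) x = x := by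
  induction j with
  | zero => rfl
  | succ j ih => rw [pow_succ, Equiv.Perm.mul_apply, h, ih]

omit [Fintype α] [DecidableEq α] in
theorem odd_pow_apply {g : Equiv.Perm α} {x : α} (h : g (g x) = x) (j : ℕ) :
    (g ^ (2 * j + 1)) x = g x := by
  rw [pow_succ', Equiv.Perm.mul_apply, pow_mul, pow_two, pow_fix (by exact h)]

omit [Fintype α] [DecidableEq α] in
theorem IsInv.apply_apply {g : Equiv.Perm α} (h : IsInv G g) (x : α) : g (g x) = x := by
  rw [← Equiv.Perm.mul_apply, h.2.1, Equiv.Perm.one_apply]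

omit [Fintype α] [DecidableEq α] in
theorem IsInv.inv_eq {g : Equiv.Perm α} (h : IsInv G g) : g⁻¹ = g :=
  inv_eq_of_mul_eq_one_right h.2.1

omit [Fintype α] [DecidableEq α] in
theorem sq_one_eq_one {g : Equiv.Perm α} (hodd : Odd (orderOf g)) (h2 : g * g = 1) : g = 1 := by
  have hd : orderOf g ∣ 2 := orderOf_dvd_of_pow_eq_one (by rw [pow_two, h2])
  rcases (Nat.dvd_prime Nat.prime_two).1 hd with e | e
  · exact orderOf_eq_one_iff.1 e
  · rw [e] at hodd; exact absurd hodd (by decide)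

omit [DecidableEq α] in
/-- an element of odd order interchanging two points fixes them -/
theorem no_swap {g : Equiv.Perm α} (hodd : Odd (orderOf g)) {y z : α} (h1 : g y = z)
    (h2 : g z = y) : y = z := by
  obtain ⟨j, hj⟩ := hodd
  have := odd_pow_apply (g := g) (x := y) (by rw [h1, h2]) j
  rw [← hj, pow_orderOf_eq_one, Equiv.Perm.one_apply, h1] at this
  exact this

theorem card_fx_le (hG : Hyp G) {g : Equiv.Perm α} (h : IsInv G g) : (fx g).card ≤ 3 := by
  by_contra hlt
  obtain ⟨Q, hQ, hQc⟩ := Finset.exists_subset_card_eq (show 4 ≤ (fx g).card by omega)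
  obtain ⟨x, y, z, w, hxy, hxz, hxw, hyz, hyw, hzw, rfl⟩ := Finset.card_eq_four.1 hQc
  have hf : ∀ v ∈ ({x, y, z, w} : Finset α), g v = v := fun v hv => mem_fx.1 (hQ hv)
  exact h.2.2 (sq_one_eq_one (hG.odd g h.1 x y z w
    (Four.nodup ⟨hxy, hxz, hxw, hyz, hyw, hzw⟩) (hf x (by simp)) (hf y (by simp))
    (hf z (by simp)) (hf w (by simp))) h.2.1)

theorem eq_one_of_fix (hG : Hyp G) {g : Equiv.Perm α} (hg : g ∈ G) (h2 : g * g = 1)
    {a b c d : α} (hQ : Four a b c d) (ha : g a = a) (hb : g b = b) (hc : g c = c)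
    (hd : g d = d) : g = 1 :=
  sq_one_eq_one (hG.odd g hg a b c d hQ.nodup ha hb hc hd) h2

/-- `g` maps the four points among themselves -/
def Maps (g : Equiv.Perm α) (a b c d : α) : Prop :=
  ∀ x ∈ ({a, b, c, d} : Finset α), g x ∈ ({a, b, c, d} : Finset α)

def AgreeOn (g h : Equiv.Perm α) (a b c d : α) : Prop :=
  ∀ x ∈ ({a, b, c, d} : Finset α), g x = h x

theorem exists_conj (hG : Hyp G) {a b c d : α} (hQ : Four a b c d) {u v : Equiv.Perm α}
    (hu : IsInv G u) (hv : IsInv G v) (hag : AgreeOn u v a b c d) (hm : Maps v a b c d) :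
    ∃ e ∈ G, e * u * e⁻¹ = v ∧ (∀ x ∈ ({a, b, c, d} : Finset α), e x = x) ∧
      ∀ y : Equiv.Perm α, y * u = u * y → y * v = v * y → y * e = e * y := by
  set r := u * v with hr
  have hfix : ∀ x ∈ ({a, b, c, d} : Finset α), r x = x := by
    intro x hx
    rw [hr, Equiv.Perm.mul_apply, hag _ (hm x hx), hv.apply_apply]
  have hrG : r ∈ G := G.mul_mem hu.1 hv.1
  obtain ⟨j, hj⟩ := hG.odd r hrG a b c d hQ.nodup (hfix a (by simp)) (hfix b (by simp))
    (hfix c (by simp)) (hfix d (by simp))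
  refine ⟨r ^ j, G.pow_mem hrG j, ?_, fun x hx => pow_fix (hfix x hx) j, fun y h1 h2 =>
    (Commute.mul_right h1 h2).pow_right j⟩
  have hinv : u * r * u⁻¹ = r⁻¹ := by
    rw [hr, mul_inv_rev, hu.inv_eq, hv.inv_eq, ← mul_assoc, hu.2.1, one_mul]
  have hpow : u * r ^ j * u⁻¹ = (r ^ j)⁻¹ := by rw [← conj_pow, hinv, inv_pow]
  have hrk : r ^ (2 * j) * r = 1 := by rw [← pow_succ, ← hj, pow_orderOf_eq_one]
  calc r ^ j * u * (r ^ j)⁻¹ = r ^ j * u * (u * r ^ j * u⁻¹) := by rw [hpow]
    _ = r ^ j * (u * u) * r ^ j * u⁻¹ := by group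
    _ = r ^ (2 * j) * u := by rw [hu.2.1, mul_one, hu.inv_eq, two_mul, pow_add]
    _ = (r ^ (2 * j) * r) * (r⁻¹ * u) := by group
    _ = v := by rw [hrk, one_mul, hr, mul_inv_rev, hu.inv_eq, hv.inv_eq, mul_assoc, hu.2.1,
          mul_one]

theorem exists_invol_pow (hG : Hyp G) {a b c d : α} (hQ : Four a b c d) {g : Equiv.Perm α}
    (hg : g ∈ G) (h2 : ∀ x ∈ ({a, b, c, d} : Finset α), g (g x) = x) (hne : g a ≠ a) :
    ∃ j : ℕ, IsInv G (g ^ (2 * j + 1)) ∧ AgreeOn (g ^ (2 * j + 1)) g a b c d := by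
  obtain ⟨j, hj⟩ := hG.odd (g * g) (G.mul_mem hg hg) a b c d hQ.nodup (h2 a (by simp))
    (h2 b (by simp)) (h2 c (by simp)) (h2 d (by simp))
  have hag : AgreeOn (g ^ (2 * j + 1)) g a b c d := fun x hx => odd_pow_apply (h2 x hx) j
  refine ⟨j, ⟨G.pow_mem hg _, ?_, fun h1 => hne ?_⟩, hag⟩
  · rw [← (Commute.refl g).mul_pow, ← hj, pow_orderOf_eq_one]
  · rw [← hag a (by simp), h1, Equiv.Perm.one_apply]

theorem exists_lift (hG : Hyp G) {a b c d : α} (hQ : Four a b c d) {t g : Equiv.Perm α}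
    (ht : IsInv G t) (hmt : Maps t a b c d) (hg : g ∈ G) (hmg : Maps g a b c d)
    (h2 : ∀ x ∈ ({a, b, c, d} : Finset α), g (g x) = x) (hne : g a ≠ a)
    (hct : ∀ x ∈ ({a, b, c, d} : Finset α), g (t x) = t (g x)) :
    ∃ s, IsInv G s ∧ s * t = t * s ∧ AgreeOn s g a b c d := by
  have hginv : ∀ x ∈ ({a, b, c, d} : Finset α), g⁻¹ x = g x := by
    intro x hx
    conv_lhs => rw [← h2 x hx]
    exact (Equiv.Perm.inv_def g) ▸ g.symm_apply_apply _
  have hu : IsInv G (g * t * g⁻¹) := by
    refine ⟨G.mul_mem (G.mul_mem hg ht.1) (G.inv_mem hg), ?_, fun h => ht.2.2 ?_⟩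
    · calc g * t * g⁻¹ * (g * t * g⁻¹) = g * (t * t) * g⁻¹ := by group
        _ = 1 := by rw [ht.2.1, mul_one, mul_inv_cancel]
    · calc t = g⁻¹ * (g * t * g⁻¹) * g := by group
        _ = 1 := by rw [h, mul_one, inv_mul_cancel]
  have hag : AgreeOn (g * t * g⁻¹) t a b c d := by
    intro x hx
    rw [Equiv.Perm.mul_apply, Equiv.Perm.mul_apply, hginv x hx, hct _ (hmg x hx), h2 x hx]
  obtain ⟨e, he, het, hef, -⟩ := exists_conj hG hQ hu ht hag hmt
  have hg't : (e * g) * t = t * (e * g) := by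
    calc (e * g) * t = (e * (g * t * g⁻¹) * e⁻¹) * (e * g) := by group
      _ = t * (e * g) := by rw [het]
  have hag' : AgreeOn (e * g) g a b c d := fun x hx => by
    rw [Equiv.Perm.mul_apply, hef _ (hmg x hx)]
  have h2' : ∀ x ∈ ({a, b, c, d} : Finset α), (e * g) ((e * g) x) = x := fun x hx => by
    rw [hag' x hx, hag' _ (hmg x hx), h2 x hx]
  obtain ⟨j, hj, hja⟩ := exists_invol_pow hG hQ (G.mul_mem he hg) h2'
    (by rw [hag' a (by simp)]; exact hne)
  exact ⟨_, hj, (Commute.pow_left hg't _), fun x hx => (hja x hx).trans (hag' x hx)⟩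

theorem exists_transp (hG : Hyp G) {a b c d : α} (hQ : Four a b c d) :
    ∃ u, IsInv G u ∧ u a = b ∧ u b = a ∧ u c = c ∧ u d = d := by
  obtain ⟨g, hg, h1, h2, h3, h4⟩ := exists_map hG hQ
    (show Four b a c d from ⟨hQ.1.symm, hQ.2.2.2.1, hQ.2.2.2.2.1, hQ.2.1, hQ.2.2.1,
      hQ.2.2.2.2.2⟩)
  obtain ⟨j, hj, hag⟩ := exists_invol_pow hG hQ hg
    (by simp [h1, h2, h3, h4]) (by rw [h1]; exact hQ.1.symm)
  exact ⟨_, hj, (hag a (by simp)).trans h1, (hag b (by simp)).trans h2,
    (hag c (by simp)).trans h3, (hag d (by simp)).trans h4⟩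

theorem exists_double (hG : Hyp G) {a b c d : α} (hQ : Four a b c d) :
    ∃ u, IsInv G u ∧ u a = b ∧ u b = a ∧ u c = d ∧ u d = c := by
  obtain ⟨g, hg, h1, h2, h3, h4⟩ := exists_map hG hQ
    (show Four b a d c from ⟨hQ.1.symm, hQ.2.2.2.2.1, hQ.2.2.2.1, hQ.2.2.1, hQ.2.1,
      hQ.2.2.2.2.2.symm⟩)
  obtain ⟨j, hj, hag⟩ := exists_invol_pow hG hQ hg
    (by simp [h1, h2, h3, h4]) (by rw [h1]; exact hQ.1.symm)
  exact ⟨_, hj, (hag a (by simp)).trans h1, (hag b (by simp)).trans h2,
    (hag c (by simp)).trans h3, (hag d (by simp)).trans h4⟩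

theorem fx_conj (g u : Equiv.Perm α) : fx (g * u * g⁻¹) = (fx u).image g := by
  ext x
  simp only [mem_fx, Finset.mem_image, Equiv.Perm.mul_apply]
  constructor
  · intro h
    refine ⟨g⁻¹ x, g.injective (h.trans (g.apply_symm_apply x).symm), g.apply_symm_apply x⟩
  · rintro ⟨y, hy, rfl⟩
    rw [show g⁻¹ (g y) = y from g.symm_apply_apply y, hy]

theorem card_fx_conj (g u : Equiv.Perm α) : (fx (g * u * g⁻¹)).card = (fx u).card := by
  rw [fx_conj, Finset.card_image_of_injective _ g.injective]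

theorem fx_mod_two {g : Equiv.Perm α} (h : g * g = 1) :
    (fx g).card % 2 = Fintype.card α % 2 := by
  have h1 := Equiv.Perm.two_dvd_card_support (σ := g) (by rw [pow_two, h])
  have h2 : fx g = g.supportᶜ := by ext x; simp [mem_fx]
  have h3 := g.support.card_add_card_compl
  rw [h2]
  omega

/-- all involutions fix `2` or `3` points -/
theorem card_fx (hG : Hyp G) (h8 : 8 ≤ Fintype.card α) {g : Equiv.Perm α} (hg : IsInv G g) :
    (fx g).card = 2 + Fintype.card α % 2 := by
  classical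
  -- an involution with at least two fixed points
  obtain ⟨Q, -, hQc⟩ := Finset.exists_subset_card_eq
    (show 4 ≤ (Finset.univ : Finset α).card by rw [Finset.card_univ]; omega)
  obtain ⟨a, b, c, d, h1, h2, h3, h4, h5, h6, -⟩ := Finset.card_eq_four.1 hQc
  obtain ⟨s, hs, -, -, hsc, hsd⟩ := exists_transp hG (a := a) (b := b) (c := c) (d := d)
    ⟨h1, h2, h3, h4, h5, h6⟩
  have hs2 : (fx s).card = 2 + Fintype.card α % 2 := by
    have := card_fx_le hG hs
    have hp := fx_mod_two hs.2.1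
    have : 2 ≤ (fx s).card := by
      rw [← Finset.card_pair h6]
      refine Finset.card_le_card fun x hx => ?_
      simp only [Finset.mem_insert, Finset.mem_singleton] at hx
      rcases hx with rfl | rfl <;> rw [mem_fx] <;> assumption
    omega
  -- two involutions with two cycles are conjugate
  have two : ∀ u, IsInv G u → ∃ p q, Four p (u p) q (u q) := by
    intro u hu
    obtain ⟨p, hp⟩ : ∃ p, u p ≠ p := by
      by_contra hne; push Not at hne; exact hu.2.2 (Equiv.ext hne)
    obtain ⟨q, hq⟩ : ∃ q, q ∉ fx u ∪ {p, u p} := by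
      by_contra hne; push Not at hne
      have h := Finset.card_le_card (fun x (_ : x ∈ Finset.univ) => hne x)
      have h' := (Finset.card_union_le (fx u) {p, u p}).trans
        (add_le_add (card_fx_le hG hu) Finset.card_le_two)
      rw [Finset.card_univ] at h
      omega
    simp only [Finset.mem_union, mem_fx, Finset.mem_insert, Finset.mem_singleton, not_or] at hq
    obtain ⟨q1, q2, q3⟩ := hq
    refine ⟨p, q, Ne.symm hp, Ne.symm q2, fun e => q3 ?_, Ne.symm q3,
      fun e => q2 (u.injective e).symm, Ne.symm q1⟩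
    rw [e, hu.apply_apply]
  obtain ⟨p, q, hpq⟩ := two s hs
  obtain ⟨p', q', hpq'⟩ := two g hg
  obtain ⟨k, hk, k1, k2, k3, k4⟩ := exists_map hG hpq hpq'
  have hu : IsInv G (k * s * k⁻¹) := by
    refine ⟨G.mul_mem (G.mul_mem hk hs.1) (G.inv_mem hk), ?_, fun h => hs.2.2 ?_⟩
    · calc k * s * k⁻¹ * (k * s * k⁻¹) = k * (s * s) * k⁻¹ := by group
        _ = 1 := by rw [hs.2.1, mul_one, mul_inv_cancel]
    · calc s = k⁻¹ * (k * s * k⁻¹) * k := by group
        _ = 1 := by rw [h, mul_one, inv_mul_cancel]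
  have e1 : k.symm p' = p := by rw [← k1]; exact k.symm_apply_apply p
  have e2 : k.symm (g p') = s p := by rw [← k2]; exact k.symm_apply_apply _
  have e3 : k.symm q' = q := by rw [← k3]; exact k.symm_apply_apply q
  have e4 : k.symm (g q') = s q := by rw [← k4]; exact k.symm_apply_apply _
  obtain ⟨e, -, he, -⟩ := exists_conj hG hpq' hu hg
    (by simp [AgreeOn, Equiv.Perm.mul_apply, Equiv.Perm.inv_def, e1, e2, e3, e4, k1, k2, k3, k4, hs.apply_apply,
      hg.apply_apply])
    (by simp [Maps, hg.apply_apply])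
  rw [← he, card_fx_conj, card_fx_conj, hs2]

/-- a lifted `D₈` over the four points -/
structure Cfg (G : Subgroup (Equiv.Perm α)) (t s w : Equiv.Perm α) (a b c d : α) : Prop where
  four : Four a b c d
  ht : IsInv G t
  hs : IsInv G s
  hw : IsInv G w
  st : s * t = t * s
  wt : w * t = t * w
  wsw : w * s * w = s * t
  ta : t a = b
  tb : t b = a
  tc : t c = d
  td : t d = c
  sa : s a = b
  sb : s b = a
  sc : s c = c
  sd : s d = d
  wa : w a = c
  wb : w b = d
  wc : w c = a
  wd : w d = b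

theorem exists_cfg (hG : Hyp G) {a b c d : α} (hQ : Four a b c d) {t : Equiv.Perm α}
    (ht : IsInv G t) (hta : t a = b) (htc : t c = d) : ∃ s w, Cfg G t s w a b c d := by
  have htb : t b = a := by rw [← hta, ht.apply_apply]
  have htd : t d = c := by rw [← htc, ht.apply_apply]
  have hmt : Maps t a b c d := by simp [Maps, hta, htb, htc, htd]
  obtain ⟨g, hg, g1, g2, g3, g4⟩ := exists_map hG hQ
    (show Four b a c d from ⟨hQ.1.symm, hQ.2.2.2.1, hQ.2.2.2.2.1, hQ.2.1, hQ.2.2.1,
      hQ.2.2.2.2.2⟩)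
  obtain ⟨s, hs, hst, hsag⟩ := exists_lift hG hQ ht hmt hg (by simp [Maps, g1, g2, g3, g4])
    (by simp [g1, g2, g3, g4]) (by rw [g1]; exact hQ.1.symm)
    (by simp [g1, g2, g3, g4, hta, htb, htc, htd])
  have sa : s a = b := (hsag a (by simp)).trans g1
  have sb : s b = a := (hsag b (by simp)).trans g2
  have sc : s c = c := (hsag c (by simp)).trans g3
  have sd : s d = d := (hsag d (by simp)).trans g4
  obtain ⟨k, hk, k1, k2, k3, k4⟩ := exists_map hG hQ
    (show Four c d a b from ⟨hQ.2.2.2.2.2, hQ.2.1.symm, hQ.2.2.2.1.symm, hQ.2.2.1.symm,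
      hQ.2.2.2.2.1.symm, hQ.1⟩)
  obtain ⟨w₀, hw₀, hw₀t, hwag⟩ := exists_lift hG hQ ht hmt hk (by simp [Maps, k1, k2, k3, k4])
    (by simp [k1, k2, k3, k4]) (by rw [k1]; exact hQ.2.1.symm)
    (by simp [k1, k2, k3, k4, hta, htb, htc, htd])
  have wa : w₀ a = c := (hwag a (by simp)).trans k1
  have wb : w₀ b = d := (hwag b (by simp)).trans k2
  have wc : w₀ c = a := (hwag c (by simp)).trans k3
  have wd : w₀ d = b := (hwag d (by simp)).trans k4
  have hv : IsInv G (s * t) := by
    refine ⟨G.mul_mem hs.1 ht.1, ?_, fun h => hQ.2.2.2.2.2 ?_⟩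
    · calc s * t * (s * t) = s * (t * s) * t := by group
        _ = 1 := by rw [← hst, ← mul_assoc, hs.2.1, one_mul, ht.2.1]
    · have := Equiv.Perm.ext_iff.1 h c
      rw [Equiv.Perm.mul_apply, htc, sd, Equiv.Perm.one_apply] at this
      exact this.symm
  have hu : IsInv G (w₀ * s * w₀) := by
    refine ⟨G.mul_mem (G.mul_mem hw₀.1 hs.1) hw₀.1, ?_, fun h => hs.2.2 ?_⟩
    · calc w₀ * s * w₀ * (w₀ * s * w₀) = w₀ * (s * (w₀ * w₀) * s) * w₀ := by group
        _ = 1 := by rw [hw₀.2.1, mul_one, hs.2.1, mul_one, hw₀.2.1]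
    · calc s = (w₀ * w₀) * s * (w₀ * w₀) := by rw [hw₀.2.1, one_mul, mul_one]
        _ = w₀ * (w₀ * s * w₀) * w₀ := by group
        _ = 1 := by rw [h, mul_one, hw₀.2.1]
  obtain ⟨e, he, hee, hef, hec⟩ := exists_conj hG hQ hu hv
    (by simp [AgreeOn, Equiv.Perm.mul_apply, hta, htb, htc, htd, sa, sb, sc, sd, wa, wb, wc, wd])
    (by simp [Maps, Equiv.Perm.mul_apply, hta, htb, htc, htd, sa, sb, sc, sd])
  have het : t * e = e * t := by
    apply hec
    · calc t * (w₀ * s * w₀) = (t * w₀) * s * w₀ := by group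
        _ = (w₀ * t) * s * w₀ := by rw [hw₀t]
        _ = w₀ * (t * s) * w₀ := by group
        _ = w₀ * (s * t) * w₀ := by rw [hst]
        _ = w₀ * s * (t * w₀) := by group
        _ = w₀ * s * w₀ * t := by rw [← hw₀t]; group
    · rw [← mul_assoc, ← hst]
  set g' := e * w₀ with hg'
  have hg't : g' * t = t * g' := by
    rw [hg', mul_assoc, hw₀t, ← mul_assoc, ← het, mul_assoc]
  have hg's : g' * s * g'⁻¹ = s * t := by
    rw [hg', mul_inv_rev, hw₀.inv_eq]
    calc e * w₀ * s * (w₀ * e⁻¹) = e * (w₀ * s * w₀) * e⁻¹ := by group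
      _ = s * t := hee
  have hag : AgreeOn g' w₀ a b c d := by
    simp [AgreeOn, hg', Equiv.Perm.mul_apply, wa, wb, wc, wd, hef a, hef b, hef c, hef d]
  simp only [AgreeOn, Finset.mem_insert, Finset.mem_singleton, forall_eq_or_imp, forall_eq] at hag
  obtain ⟨ha', hb', hc', hd'⟩ := hag
  rw [wa] at ha'; rw [wb] at hb'; rw [wc] at hc'; rw [wd] at hd'
  obtain ⟨j, hj, hja⟩ := exists_invol_pow hG hQ (G.mul_mem he hw₀.1)
    (by simp [← hg', ha', hb', hc', hd']) (by rw [← hg', ha']; exact hQ.2.1.symm)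
  rw [← hg'] at hj hja
  have hws : g' ^ (2 * j + 1) * s * (g' ^ (2 * j + 1))⁻¹ = s * t := by
    have hc2 : Commute (g' * g') s := by
      have : g' * (s * t) * g'⁻¹ = s := by
        calc g' * (s * t) * g'⁻¹ = (g' * s * g'⁻¹) * (g' * t * g'⁻¹) := by group
          _ = s * t * t := by rw [hg's, hg't, mul_inv_cancel_right]
          _ = s := by rw [mul_assoc, ht.2.1, mul_one]
      have h2 : g' * g' * s * (g' * g')⁻¹ = s := by
        calc g' * g' * s * (g' * g')⁻¹ = g' * (g' * s * g'⁻¹) * g'⁻¹ := by group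
          _ = s := by rw [hg's, this]
      exact (commutatorElement_eq_one_iff_commute.1 (by
        rw [commutatorElement_def, h2, mul_inv_cancel]))
    have hp : (g' * g') ^ j * s = s * (g' * g') ^ j := hc2.pow_left j
    rw [pow_succ', pow_mul, pow_two, mul_inv_rev]
    calc g' * (g' * g') ^ j * s * (((g' * g') ^ j)⁻¹ * g'⁻¹)
        = g' * ((g' * g') ^ j * s) * ((g' * g') ^ j)⁻¹ * g'⁻¹ := by group
      _ = g' * s * g'⁻¹ := by rw [hp]; group
      _ = s * t := hg's
  rw [hj.inv_eq] at hws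
  exact ⟨s, _, hQ, ht, hs, hj, hst, Commute.pow_left hg't _, hws, hta, htb, htc, htd, sa, sb, sc,
    sd, (hja a (by simp)).trans ha', (hja b (by simp)).trans hb', (hja c (by simp)).trans hc',
    (hja d (by simp)).trans hd'⟩

omit [Fintype α] [DecidableEq α] in
theorem apply_comm {g h : Equiv.Perm α} (hc : g * h = h * g) (x : α) : g (h x) = h (g x) := by
  rw [← Equiv.Perm.mul_apply, hc, Equiv.Perm.mul_apply]

namespace Cfg

variable {t s w : Equiv.Perm α} {a b c d : α}

omit [Fintype α] [DecidableEq α] in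
theorem ws (C : Cfg G t s w a b c d) (x : α) : w (s x) = s (t (w x)) := by
  have h : w * s = s * t * w := by
    rw [← C.wsw, mul_assoc (w * s), C.hw.2.1, mul_one]
  have := Equiv.Perm.ext_iff.1 h x
  simpa [Equiv.Perm.mul_apply] using this

omit [Fintype α] [DecidableEq α] in
theorem hst' (C : Cfg G t s w a b c d) : IsInv G (s * t) := by
  refine ⟨G.mul_mem C.hs.1 C.ht.1, ?_, fun h => C.four.2.2.2.2.2 ?_⟩
  · calc s * t * (s * t) = s * (t * s) * t := by group
      _ = 1 := by rw [← C.st, ← mul_assoc, C.hs.2.1, one_mul, C.ht.2.1]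
  · have := Equiv.Perm.ext_iff.1 h c
    rw [Equiv.Perm.mul_apply, C.tc, C.sd, Equiv.Perm.one_apply] at this
    exact this.symm

omit [Fintype α] [DecidableEq α] in
theorem hwt' (C : Cfg G t s w a b c d) : IsInv G (w * t) := by
  refine ⟨G.mul_mem C.hw.1 C.ht.1, ?_, fun h => C.four.2.2.1 ?_⟩
  · calc w * t * (w * t) = w * (t * w) * t := by group
      _ = 1 := by rw [← C.wt, ← mul_assoc, C.hw.2.1, one_mul, C.ht.2.1]
  · have := Equiv.Perm.ext_iff.1 h a
    rw [Equiv.Perm.mul_apply, C.ta, C.wb, Equiv.Perm.one_apply] at this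
    exact this.symm

end Cfg

/-- an involution commuting with `t` and fixing the cycle `(c, d)` fixes no other moved point -/
theorem moved_fix (hG : Hyp G) {t u : Equiv.Perm α} {c d y : α} (ht : IsInv G t)
    (hu : IsInv G u) (hc : u * t = t * u) (hcd : c ≠ d) (htc : t c = d) (huc : u c = c)
    (hud : u d = d) (hy : t y ≠ y) (huy : u y = y) : y = c ∨ y = d := by
  by_contra hne
  simp only [not_or] at hne
  have huty : u (t y) = t y := by rw [apply_comm hc, huy]
  have h1 : t y ≠ c := fun e => hne.2 (by rw [← htc, ← e, ht.apply_apply])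
  have h2 : t y ≠ d := fun e => hne.1 (t.injective (e.trans htc.symm))
  exact hu.2.2 (eq_one_of_fix hG hu.1 hu.2.1
    (show Four c d y (t y) from ⟨hcd, Ne.symm hne.1, Ne.symm h1, Ne.symm hne.2, Ne.symm h2,
      Ne.symm hy⟩) huc hud huy huty)

theorem card_fx_inter (hG : Hyp G) (h8 : 8 ≤ Fintype.card α) {t s w : Equiv.Perm α}
    {a b c d : α} (C : Cfg G t s w a b c d) :
    (fx t ∩ fx s).card = Fintype.card α % 2 := by
  have hsub : ({c, d} : Finset α) ⊆ fx s := by
    intro x hx
    simp only [Finset.mem_insert, Finset.mem_singleton] at hx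
    rcases hx with rfl | rfl <;> rw [mem_fx]
    exacts [C.sc, C.sd]
  have e : fx t ∩ fx s = fx s \ {c, d} := by
    ext y
    simp only [Finset.mem_inter, Finset.mem_sdiff, mem_fx, Finset.mem_insert,
      Finset.mem_singleton, not_or]
    refine ⟨fun h => ⟨h.2, fun e => ?_, fun e => ?_⟩, fun h => ⟨?_, h.1⟩⟩
    · exact C.four.2.2.2.2.2 ((e ▸ h.1).symm.trans C.tc)
    · exact C.four.2.2.2.2.2 ((e ▸ h.1).symm.trans C.td).symm
    · by_contra hy
      rcases moved_fix hG C.ht C.hs C.st C.four.2.2.2.2.2 C.tc C.sc C.sd hy h.1 with r | r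
      · exact h.2.1 r
      · exact h.2.2 r
  rw [e, Finset.card_sdiff_of_subset hsub, card_fx hG h8 C.hs,
    Finset.card_pair C.four.2.2.2.2.2]
  omega

/-! ### the cycles of an involution -/

def moved (t : Equiv.Perm α) : Finset α := Finset.univ.filter (fun x => t x ≠ x)

theorem mem_moved {t : Equiv.Perm α} {x : α} : x ∈ moved t ↔ t x ≠ x := by simp [moved]

theorem card_moved (t : Equiv.Perm α) : (moved t).card + (fx t).card = Fintype.card α := by
  rw [moved, fx, add_comm, Finset.card_filter_add_card_filter_not]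
  rfl

def cyc (t : Equiv.Perm α) : Finset (Finset α) := (moved t).image (fun y => {y, t y})

theorem pair_eq {t : Equiv.Perm α} (ht : t * t = 1) {y z : α}
    (h : ({y, t y} : Finset α) = {z, t z}) : y = z ∨ y = t z := by
  have : y ∈ ({z, t z} : Finset α) := h ▸ by simp
  simpa using this

theorem card_cyc {t : Equiv.Perm α} (ht : t * t = 1) :
    (moved t).card = 2 * (cyc t).card := by
  have htt : ∀ x, t (t x) = x := fun x => by
    rw [← Equiv.Perm.mul_apply, ht, Equiv.Perm.one_apply]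
  rw [Finset.card_eq_sum_card_image (fun y => ({y, t y} : Finset α)) (moved t)]
  rw [Finset.sum_const_nat (m := 2), mul_comm]
  · rfl
  · intro A hA
    obtain ⟨y, hy, rfl⟩ := Finset.mem_image.1 hA
    have hy' := mem_moved.1 hy
    have : (moved t).filter (fun z => ({z, t z} : Finset α) = {y, t y}) = {y, t y} := by
      ext z
      simp only [Finset.mem_filter, Finset.mem_insert, Finset.mem_singleton, mem_moved]
      refine ⟨fun h => pair_eq ht h.2, ?_⟩
      rintro (rfl | rfl)
      · exact ⟨hy', rfl⟩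
      · exact ⟨fun e => hy' (by rw [htt] at e; exact e.symm), by rw [htt, Finset.pair_comm]⟩
    rw [this, Finset.card_pair hy'.symm]

/-- the centraliser of `t` in `G` -/
def cenG (G : Subgroup (Equiv.Perm α)) (t : Equiv.Perm α) : Subgroup (Equiv.Perm α) :=
  G ⊓ Subgroup.centralizer {t}

omit [Fintype α] [DecidableEq α] in
theorem mem_cenG {t g : Equiv.Perm α} : g ∈ cenG G t ↔ g ∈ G ∧ g * t = t * g := by
  rw [cenG, Subgroup.mem_inf, Subgroup.mem_centralizer_singleton_iff]

theorem cyc_map {t g : Equiv.Perm α} (hg : g * t = t * g) {A : Finset α} (hA : A ∈ cyc t) :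
    A.image g ∈ cyc t := by
  obtain ⟨y, hy, rfl⟩ := Finset.mem_image.1 hA
  refine Finset.mem_image.2 ⟨g y, ?_, ?_⟩
  · rw [mem_moved, ← apply_comm hg]
    exact fun e => mem_moved.1 hy (g.injective e)
  · rw [Finset.image_insert, Finset.image_singleton, apply_comm hg]

/-- the action of the centraliser on the cycles -/
def cycHom (G : Subgroup (Equiv.Perm α)) (t : Equiv.Perm α) :
    cenG G t →* Equiv.Perm (cyc t) where
  toFun g :=
    { toFun := fun A => ⟨A.1.image g.1, cyc_map (mem_cenG.1 g.2).2 A.2⟩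
      invFun := fun A => ⟨A.1.image (g.1⁻¹ : Equiv.Perm α), cyc_map (mem_cenG.1 (Subgroup.inv_mem _ g.2)).2 A.2⟩
      left_inv := fun A => Subtype.ext (by
        show (A.1.image g.1).image (g.1⁻¹ : Equiv.Perm α) = A.1
        rw [Finset.image_image,
          show ((g.1⁻¹ : Equiv.Perm α) : α → α) ∘ g.1 = id from funext g.1.symm_apply_apply,
          Finset.image_id])
      right_inv := fun A => Subtype.ext (by
        show (A.1.image (g.1⁻¹ : Equiv.Perm α)).image g.1 = A.1
        rw [Finset.image_image,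
          show (g.1 : α → α) ∘ ((g.1⁻¹ : Equiv.Perm α) : α → α) = id from
            funext g.1.apply_symm_apply,
          Finset.image_id]) }
  map_one' := by
    ext A : 2
    show A.1.image (1 : Equiv.Perm α) = A.1
    exact Finset.image_id
  map_mul' g h := by
    ext A : 2
    show A.1.image (g.1 * h.1) = (A.1.image h.1).image g.1
    rw [Finset.image_image]
    rfl

theorem cycHom_apply {t : Equiv.Perm α} (g : cenG G t) {y : α}
    (hy : ({y, t y} : Finset α) ∈ cyc t) :
    ((cycHom G t g ⟨_, hy⟩ : cyc t) : Finset α) = {g.1 y, t (g.1 y)} := by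
  show ({y, t y} : Finset α).image g.1 = _
  rw [Finset.image_insert, Finset.image_singleton, apply_comm (mem_cenG.1 g.2).2]

theorem four_dvd {β : Type*} [DecidableEq β] (f g : β → β) (hf : ∀ x, f (f x) = x)
    (hg : ∀ x, g (g x) = x) (hfg : ∀ x, f (g x) = g (f x)) :
    ∀ T : Finset β, (∀ x ∈ T, f x ∈ T ∧ g x ∈ T ∧ f x ≠ x ∧ g x ≠ x ∧ f x ≠ g x) →
      4 ∣ T.card := by
  intro T
  induction hT : T.card using Nat.strong_induction_on generalizing T with
  | _ N IH =>
    intro h
    rcases T.eq_empty_or_nonempty with rfl | ⟨x, hx⟩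
    · simp at hT; simp [← hT]
    obtain ⟨h1, h2, h3, h4, h5⟩ := h x hx
    obtain ⟨h6, h7, h8, h9, h10⟩ := h (g x) h2
    set S : Finset β := {x, f x, g x, f (g x)} with hS
    have hx4 : x ≠ f (g x) := fun e => h5 (by
      have := congrArg f e; rwa [hf] at this)
    have hf4 : f x ≠ f (g x) := fun e => h4 ((Function.Involutive.injective hf) e).symm
    have hcard : S.card = 4 := Finset.card_eq_four.2
      ⟨x, f x, g x, f (g x), h3.symm, h4.symm, hx4, h5, hf4, h8.symm, rfl⟩
    have hsub : S ⊆ T := by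
      simp [hS, Finset.insert_subset_iff, hx, h1, h2, h6]
    have hcard' : (T \ S).card + 4 = N := by
      rw [Finset.card_sdiff_of_subset hsub, hcard, ← hT]
      have := Finset.card_le_card hsub
      omega
    have := IH (T \ S).card (by omega) (T \ S) rfl (fun y hy => by
      obtain ⟨hyT, hyS⟩ := Finset.mem_sdiff.1 hy
      obtain ⟨j1, j2, j3, j4, j5⟩ := h y hyT
      simp only [hS, Finset.mem_insert, Finset.mem_singleton, not_or] at hyS
      obtain ⟨y1, y2, y3, y4⟩ := hyS
      refine ⟨Finset.mem_sdiff.2 ⟨j1, ?_⟩, Finset.mem_sdiff.2 ⟨j2, ?_⟩, j3, j4, j5⟩ <;>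
        simp only [hS, Finset.mem_insert, Finset.mem_singleton, not_or] <;>
        refine ⟨?_, ?_, ?_, ?_⟩ <;> intro e
      · exact y2 (by rw [← e, hf])
      · exact y1 ((Function.Involutive.injective hf) e)
      · exact y4 (by rw [← e, hf])
      · exact y3 ((Function.Involutive.injective hf) e)
      · exact y3 (by rw [← e, hg])
      · exact y4 (by rw [hfg, ← e, hg])
      · exact y1 ((Function.Involutive.injective hg) e)
      · exact y2 ((Function.Involutive.injective hg) (e.trans (hfg x))))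
    omega

omit [Fintype α] [DecidableEq α] in
theorem sign_invol {β : Type*} [Fintype β] [DecidableEq β] (σ : Equiv.Perm β) (h : σ * σ = 1)
    (T : Finset β) (hT : ∀ x, x ∈ T ↔ σ x = x) :
    Equiv.Perm.sign σ = (-1) ^ ((Fintype.card β - T.card) / 2) := by
  rw [Equiv.Perm.sign_of_pow_two_eq_one (by rw [pow_two, h]),
    Fintype.card_of_subtype T (fun x => (hT x).trans Function.mem_fixedPoints_iff.symm)]

theorem card_centralizer_eq (hG : Hyp G) {t : Equiv.Perm α} (ht : IsInv G t) {a c : α}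
    (ha : t a ≠ a) (hc : t c ≠ c) (h1 : c ≠ a) (h2 : c ≠ t a) :
    Nat.card (cenG G t) = (moved t).card * ((moved t).card - 2) *
      Nat.card {g : cenG G t // g.1 a = a ∧ g.1 c = c} := by
  classical
  set X : Finset (α × α) := (moved t ×ˢ moved t).filter (fun p => p.2 ≠ p.1 ∧ p.2 ≠ t p.1) with hX
  have hfour : ∀ p ∈ X, Four p.1 (t p.1) p.2 (t p.2) := by
    intro p hp
    simp only [hX, Finset.mem_filter, Finset.mem_product, mem_moved] at hp
    obtain ⟨⟨p1, p2⟩, p3, p4⟩ := hp
    exact ⟨Ne.symm p1, Ne.symm p3, fun e => p4 (by rw [e, ht.apply_apply]),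
      Ne.symm p4, fun e => p3 (t.injective e).symm, Ne.symm p2⟩
  have hac : (a, c) ∈ X := by simp [hX, mem_moved, ha, hc, h1, h2]
  have horb : MulAction.orbit (cenG G t) (a, c) = ↑X := by
    ext p
    constructor
    · rintro ⟨g, rfl⟩
      have hg := (mem_cenG.1 g.2).2
      simp only [hX, Finset.coe_filter, Set.mem_setOf_eq, Finset.mem_product, mem_moved]
      show (t (g.1 a) ≠ g.1 a ∧ t (g.1 c) ≠ g.1 c) ∧ g.1 c ≠ g.1 a ∧ g.1 c ≠ t (g.1 a)
      simp only [← apply_comm hg, ne_eq, g.1.injective.eq_iff]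
      exact ⟨⟨ha, hc⟩, h1, h2⟩
    · intro hp
      obtain ⟨k, hk, k1, k2, k3, k4⟩ := exists_map hG (hfour _ hac) (hfour _ hp)
      have hu : IsInv G (k * t * k⁻¹) := by
        refine ⟨G.mul_mem (G.mul_mem hk ht.1) (G.inv_mem hk), ?_, fun h => ht.2.2 ?_⟩
        · calc k * t * k⁻¹ * (k * t * k⁻¹) = k * (t * t) * k⁻¹ := by group
            _ = 1 := by rw [ht.2.1, mul_one, mul_inv_cancel]
        · calc t = k⁻¹ * (k * t * k⁻¹) * k := by group
            _ = 1 := by rw [h, mul_one, inv_mul_cancel]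
      have e1 : k.symm p.1 = a := by rw [← k1]; exact k.symm_apply_apply _
      have e2 : k.symm (t p.1) = t a := by rw [← k2]; exact k.symm_apply_apply _
      have e3 : k.symm p.2 = c := by rw [← k3]; exact k.symm_apply_apply _
      have e4 : k.symm (t p.2) = t c := by rw [← k4]; exact k.symm_apply_apply _
      simp only at k1 k2 k3 k4
      obtain ⟨e, he, hek, hef, -⟩ := exists_conj hG (hfour _ hp) hu ht
        (by simp [AgreeOn, Equiv.Perm.mul_apply, Equiv.Perm.inv_def, e1, e2, e3, e4, ht.apply_apply, k1, k2, k3, k4])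
        (by simp [Maps, ht.apply_apply])
      refine ⟨⟨e * k, mem_cenG.2 ⟨G.mul_mem he hk, ?_⟩⟩, ?_⟩
      · calc e * k * t = (e * (k * t * k⁻¹) * e⁻¹) * (e * k) := by group
          _ = t * (e * k) := by rw [hek]
      · show ((e * k) a, (e * k) c) = p
        rw [Equiv.Perm.mul_apply, Equiv.Perm.mul_apply, k1, k3, hef _ (by simp), hef _ (by simp)]
  have hXc : X.card = (moved t).card * ((moved t).card - 2) := by
    rw [Finset.card_eq_sum_card_fiberwise (f := Prod.fst) (t := moved t)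
      (fun p hp => by simp [hX] at hp; exact hp.1.1), Finset.sum_const_nat]
    intro y hy
    have : X.filter (fun p => p.1 = y) = ((moved t) \ {y, t y}).image (fun z => (y, z)) := by
      ext ⟨u, v⟩
      simp [hX]
      constructor
      · rintro ⟨⟨⟨-, hv⟩, hne⟩, rfl⟩; exact ⟨⟨hv, hne⟩, rfl⟩
      · rintro ⟨⟨hv, hne⟩, rfl⟩; exact ⟨⟨⟨hy, hv⟩, hne⟩, rfl⟩
    rw [this, Finset.card_image_of_injective _ (fun u v h => (Prod.ext_iff.1 h).2),
      Finset.card_sdiff_of_subset, Finset.card_pair (Ne.symm (mem_moved.1 hy))]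
    intro z hz
    simp only [Finset.mem_insert, Finset.mem_singleton] at hz
    rcases hz with rfl | rfl
    · exact hy
    · rw [mem_moved]; exact fun e => mem_moved.1 hy (t.injective e)
  have h := MulAction.card_orbit_mul_card_stabilizer_eq_card_group (cenG G t) (a, c)
  rw [← Nat.card_eq_fintype_card, ← Nat.card_eq_fintype_card, ← Nat.card_eq_fintype_card] at h
  rw [horb, Nat.card_coe_set_eq, Set.ncard_coe_finset, hXc] at h
  rw [← h]
  congr 1
  exact Nat.card_congr (Equiv.subtypeEquivRight fun g =>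
    ⟨fun e => ⟨congrArg Prod.fst e, congrArg Prod.snd e⟩, fun e => Prod.ext e.1 e.2⟩)

end Cfsg.Agent.FourTransOdd30
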