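import Cfsg.Agent.Lib.FourTransOdd30

/-!
# Four times transitive groups, stabiliser of four points of odd order: the main argument
-/

namespace Cfsg.Agent.FourTransOdd30

open FourFormula30

variable {α : Type*} [Fintype α] [DecidableEq α] {G : Subgroup (Equiv.Perm α)}
variable {t s w : Equiv.Perm α} {a b c d : α}

omit [Fintype α] [DecidableEq α] in
theorem Cfg.ma (C : Cfg G t s w a b c d) : t a ≠ a := by rw [C.ta]; exact C.four.1.symm

omit [Fintype α] [DecidableEq α] in
theorem Cfg.mc (C : Cfg G t s w a b c d) : t c ≠ c := by rw [C.tc]; exact C.four.2.2.2.2.2.symm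

/-- the second involution does not centralise the fixed points of the first -/
theorem exists_moved_fixed (hG : Hyp G) (h8 : 8 ≤ Fintype.card α) (C : Cfg G t s w a b c d) :
    ∃ y ∈ fx t, w y ≠ y := by
  classical
  by_contra hA
  push Not at hA
  have hwfx : fx w = fx t := (Finset.eq_of_subset_of_card_le (fun y hy => mem_fx.2 (hA y hy))
    (by rw [card_fx hG h8 C.hw, card_fx hG h8 C.ht])).symm
  have hwtfx : fx (w * t) = fx t := (Finset.eq_of_subset_of_card_le (fun y hy => by
    rw [mem_fx, Equiv.Perm.mul_apply, mem_fx.1 hy]; exact hA y hy)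
    (by rw [card_fx hG h8 C.hwt', card_fx hG h8 C.ht])).symm
  have hw1 : ∀ y, t y ≠ y → w y ≠ y ∧ w y ≠ t y := fun y hy =>
    ⟨fun e => hy (mem_fx.1 (hwfx ▸ mem_fx.2 e)), fun e => hy (mem_fx.1 (hwtfx ▸ mem_fx.2 (by
      rw [Equiv.Perm.mul_apply, apply_comm C.wt, e, C.ht.apply_apply])))⟩
  have hab : (s * t) a = a := by rw [Equiv.Perm.mul_apply, C.ta, C.sb]
  have hba : (s * t) b = b := by rw [Equiv.Perm.mul_apply, C.tb, C.sa]
  have hs1 : ∀ y, t y ≠ y → s y = y → y = c ∨ y = d := fun y hy e =>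
    moved_fix hG C.ht C.hs C.st C.four.2.2.2.2.2 C.tc C.sc C.sd hy e
  have hs2 : ∀ y, t y ≠ y → s y = t y → y = a ∨ y = b := fun y hy e =>
    moved_fix hG C.ht C.hst' (by rw [mul_assoc, ← mul_assoc t s t, ← C.st, mul_assoc]) C.four.1 C.ta hab hba
      hy (by rw [Equiv.Perm.mul_apply, apply_comm C.st, e, C.ht.apply_apply])
  have hsw2 : ∀ y, s (w (s (w y))) = t y := fun y => by
    have h1 : w (s (w y)) = s (t y) := by
      rw [C.ws, C.hw.apply_apply]
    rw [h1, C.hs.apply_apply]
  have hsw : ∀ y, t y ≠ y → s (w y) ≠ y ∧ s (w y) ≠ t y := by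
    intro y hy
    have h := hsw2 y
    refine ⟨fun e => hy ?_, fun e => hy ?_⟩
    · rw [e, e] at h; exact h.symm
    · rw [e, apply_comm C.wt, apply_comm C.st, e, C.ht.apply_apply] at h
      exact h.symm
  -- the action on the cycles
  set S : cenG G t := ⟨s, mem_cenG.2 ⟨C.hs.1, C.st⟩⟩ with hS
  set W : cenG G t := ⟨w, mem_cenG.2 ⟨C.hw.1, C.wt⟩⟩ with hW
  set T₀ : cenG G t := ⟨t, mem_cenG.2 ⟨C.ht.1, rfl⟩⟩ with hT₀
  set ρ := cycHom G t with hρ
  have hmemc : ∀ y, t y ≠ y → ({y, t y} : Finset α) ∈ cyc t := fun y hy =>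
    Finset.mem_image.2 ⟨y, mem_moved.2 hy, rfl⟩
  set K : α → cyc t := fun y =>
    if hy : t y ≠ y then ⟨_, hmemc y hy⟩ else ⟨_, hmemc a C.ma⟩ with hK
  have hKsurj : ∀ A : cyc t, ∃ y, ∃ _hy : t y ≠ y, A = K y := by
    rintro ⟨A, hA⟩
    obtain ⟨y, hy, rfl⟩ := Finset.mem_image.1 hA
    refine ⟨y, mem_moved.1 hy, ?_⟩
    simp only [hK]
    rw [dif_pos (mem_moved.1 hy)]
  have hKeq : ∀ y z, t y ≠ y → t z ≠ z → (K y = K z ↔ (y = z ∨ y = t z)) := by
    intro y z hy hz
    simp only [hK]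
    rw [dif_pos hy, dif_pos hz, Subtype.mk.injEq]
    refine ⟨pair_eq C.ht.2.1, ?_⟩
    rintro (rfl | rfl)
    · rfl
    · rw [C.ht.apply_apply, Finset.pair_comm]
  have hmv : ∀ (g : cenG G t) y, t y ≠ y → t (g.1 y) ≠ g.1 y := fun g y hy => by
    rw [← apply_comm (mem_cenG.1 g.2).2]; exact fun e => hy (g.1.injective e)
  have hρK : ∀ (g : cenG G t) y, t y ≠ y → ρ g (K y) = K (g.1 y) := by
    intro g y hy
    simp only [hK]
    rw [dif_pos hy, dif_pos (hmv g y hy)]
    exact Subtype.ext (cycHom_apply g (hmemc y hy))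
  have hρt : ∀ A, ρ T₀ A = A := by
    intro A
    obtain ⟨y, hy, rfl⟩ := hKsurj A
    rw [hρK _ _ hy, hKeq _ _ (hmv _ _ hy) hy]; exact Or.inr rfl
  have hρinv : ∀ g : cenG G t, g * g = 1 → ρ g * ρ g = 1 := fun g h => by
    rw [← map_mul, h, map_one]
  have hSS : S * S = 1 := Subtype.ext C.hs.2.1
  have hWW : W * W = 1 := Subtype.ext C.hw.2.1
  have hSW : ρ S * ρ W = ρ W * ρ S := by
    have : W * S = S * T₀ * W := by
      apply Subtype.ext
      show w * s = s * t * w
      rw [← C.wsw, mul_assoc (w * s), C.hw.2.1, mul_one]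
    rw [← map_mul ρ W S, this, map_mul, map_mul, show ρ T₀ = 1 from Equiv.ext hρt, mul_one]
  set KA := K a with hKA
  set KC := K c with hKC
  have hKAC : KA ≠ KC := by
    rw [hKA, hKC, Ne, hKeq _ _ C.ma C.mc, C.tc]
    rintro (e | e)
    · exact C.four.2.1 e
    · exact C.four.2.2.1 e
  have hWfix : ∀ A, ρ W A ≠ A := by
    intro A e
    obtain ⟨y, hy, rfl⟩ := hKsurj A
    rw [hρK _ _ hy, hKeq _ _ (hmv _ _ hy) hy] at e
    rcases e with e | e
    · exact (hw1 y hy).1 e
    · exact (hw1 y hy).2 e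
  have hSfix : ∀ A, A ∈ ({KA, KC} : Finset (cyc t)) ↔ ρ S A = A := by
    intro A
    obtain ⟨y, hy, rfl⟩ := hKsurj A
    rw [hρK _ _ hy, hKeq _ _ (hmv _ _ hy) hy, Finset.mem_insert, Finset.mem_singleton, hKA, hKC,
      hKeq _ _ hy C.ma, hKeq _ _ hy C.mc, C.ta, C.tc]
    constructor
    · rintro ((rfl | rfl) | (rfl | rfl))
      · exact Or.inr (C.sa.trans C.ta.symm)
      · exact Or.inr (C.sb.trans C.tb.symm)
      · exact Or.inl C.sc
      · exact Or.inl C.sd
    · rintro (e | e)
      · exact Or.inr (hs1 y hy e)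
      · exact Or.inl (hs2 y hy e)
  -- the number of cycles
  set m := Fintype.card (cyc t) with hm
  have hm2 : (moved t).card = 2 * m := by
    rw [card_cyc C.ht.2.1, hm, Fintype.card_coe]
  have hn : Fintype.card α = 2 * m + (2 + Fintype.card α % 2) := by
    rw [← hm2, ← card_fx hG h8 C.ht, card_moved]
  have hm4 : 4 ∣ m - 2 := by
    have := four_dvd (ρ S) (ρ W) (fun A => by
        rw [← Equiv.Perm.mul_apply, hρinv S hSS]; rfl)
      (fun A => by rw [← Equiv.Perm.mul_apply, hρinv W hWW]; rfl)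
      (fun A => by rw [← Equiv.Perm.mul_apply, hSW]; rfl)
      (Finset.univ \ {KA, KC}) (fun A hA => by
        rw [Finset.mem_sdiff, hSfix] at hA
        have h1 : ρ S A ∉ ({KA, KC} : Finset (cyc t)) := by
          rw [hSfix]; exact fun e => hA.2 ((ρ S).injective e)
        have h2 : ρ W A ∉ ({KA, KC} : Finset (cyc t)) := by
          rw [hSfix, ← Equiv.Perm.mul_apply, hSW, Equiv.Perm.mul_apply]
          exact fun e => hA.2 ((ρ W).injective e)
        refine ⟨Finset.mem_sdiff.2 ⟨Finset.mem_univ _, h1⟩,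
          Finset.mem_sdiff.2 ⟨Finset.mem_univ _, h2⟩, hA.2, hWfix A, fun e => ?_⟩
        obtain ⟨y, hy, rfl⟩ := hKsurj A
        rw [hρK _ _ hy, hρK _ _ hy, hKeq _ _ (hmv _ _ hy) (hmv _ _ hy)] at e
        rcases e with e | e
        · exact (hsw y hy).1 (by rw [← e]; exact C.hs.apply_apply y)
        · have e' : w y = t (s y) := by rw [e, C.ht.apply_apply]
          exact (hsw y hy).2 (by rw [e', apply_comm C.st, C.hs.apply_apply]))
    rwa [Finset.card_sdiff_of_subset (Finset.subset_univ _), Finset.card_univ,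
      Finset.card_pair hKAC] at this
  -- the two sign characters
  set π : cenG G t →* Equiv.Perm (fx t) :=
    { toFun := fun g => g.1.subtypePerm (fun y => by
        rw [mem_fx, mem_fx, ← apply_comm (mem_cenG.1 g.2).2]
        exact g.1.injective.eq_iff)
      map_one' := by ext; rfl
      map_mul' := fun g h => by ext; rfl } with hπ
  set ε : cenG G t →* ℤˣ × ℤˣ :=
    (Equiv.Perm.sign.comp ρ).prod (Equiv.Perm.sign.comp π) with hε
  have hεW : ε W = (-1, 1) := by
    refine Prod.ext ?_ ?_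
    · show Equiv.Perm.sign (ρ W) = -1
      rw [sign_invol _ (hρinv W hWW) ∅ (fun A => by simp [hWfix A]), Finset.card_empty, Nat.sub_zero,
        ← hm]
      exact Odd.neg_one_pow (Nat.odd_iff.2 (by omega))
    · show Equiv.Perm.sign (π W) = 1
      have : π W = 1 := Equiv.ext fun y => Subtype.ext (hA y.1 y.2)
      rw [this, map_one]
  have hεS : ε S = (1, -1) := by
    refine Prod.ext ?_ ?_
    · show Equiv.Perm.sign (ρ S) = 1
      rw [sign_invol _ (hρinv S hSS) {KA, KC} hSfix, Finset.card_pair hKAC, ← hm]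
      exact Even.neg_one_pow (Nat.even_iff.2 (by omega))
    · show Equiv.Perm.sign (π S) = -1
      rw [sign_invol _ (by rw [← map_mul, hSS, map_one])
        (Finset.univ.filter (fun y : fx t => s y.1 = y.1)) (fun y => by
          rw [Finset.mem_filter, Subtype.ext_iff]
          exact ⟨fun h => h.2, fun h => ⟨Finset.mem_univ _, h⟩⟩)]
      have hc : (Finset.univ.filter (fun y : fx t => s y.1 = y.1)).card
          = Fintype.card α % 2 := by
        rw [← card_fx_inter hG h8 C, ← Finset.card_map ⟨Subtype.val, Subtype.val_injective⟩]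
        congr 1
        ext y
        simp [mem_fx, and_comm]
      rw [hc, Fintype.card_coe, card_fx hG h8 C.ht, Nat.add_sub_cancel, Nat.div_self two_pos,
        pow_one]
  have hεsurj : Function.Surjective ε := by
    rintro ⟨x, y⟩
    rcases Int.units_eq_one_or x with rfl | rfl <;> rcases Int.units_eq_one_or y with rfl | rfl
    · exact ⟨1, map_one _⟩
    · exact ⟨S, hεS⟩
    · exact ⟨W, hεW⟩
    · exact ⟨S * W, by rw [map_mul, hεS, hεW]; rfl⟩
  set N := ε.ker with hN
  have hNi : Nat.card (cenG G t) = 4 * Nat.card N := by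
    rw [← N.index_mul_card, hN, Subgroup.index_ker, MonoidHom.range_eq_top.2 hεsurj,
      Subgroup.card_top]
    simp [Nat.card_eq_fintype_card]
  have hcount := card_centralizer_eq hG C.ht C.ma C.mc C.four.2.1.symm
    (by rw [C.ta]; exact C.four.2.2.2.1.symm)
  have hodd : Odd (Nat.card {g : cenG G t // g.1 a = a ∧ g.1 c = c}) := by
    let L : Subgroup (cenG G t) :=
      { carrier := {g | g.1 a = a ∧ g.1 c = c}
        mul_mem' := fun {g h} hg hh => ⟨by
          show g.1 (h.1 a) = a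
          rw [hh.1, hg.1], by
          show g.1 (h.1 c) = c
          rw [hh.2, hg.2]⟩
        one_mem' := ⟨rfl, rfl⟩
        inv_mem' := fun {g} hg => ⟨(Equiv.symm_apply_eq g.1).2 hg.1.symm,
          (Equiv.symm_apply_eq g.1).2 hg.2.symm⟩ }
    show Odd (Nat.card L)
    rw [← Nat.not_even_iff_odd, even_iff_two_dvd]
    intro h2
    obtain ⟨g, hg⟩ := exists_prime_orderOf_dvd_card' (G := L) 2 h2
    have hg' : orderOf g.1.1 = 2 := by
      rw [← hg]
      exact (orderOf_injective ((cenG G t).subtype.comp L.subtype)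
        (Subtype.val_injective.comp Subtype.val_injective) g)
    have hcomm := (mem_cenG.1 g.1.2).2
    have := hG.odd g.1.1 (mem_cenG.1 g.1.2).1 a b c d C.four.nodup g.2.1
      (by rw [← C.ta, apply_comm hcomm, g.2.1]) g.2.2 (by rw [← C.tc, apply_comm hcomm, g.2.2])
    rw [hg'] at this
    exact absurd this (by decide)
  obtain ⟨r, hr⟩ := hm4
  have hm3 : 3 ≤ m := by omega
  rw [hm2, show 2 * m - 2 = 2 * (m - 1) by omega] at hcount
  -- `|N|` is twice an odd number
  have hN4 : ¬ 4 ∣ Nat.card N := by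
    rintro ⟨k, hk⟩
    rw [hNi, hk, show m = 4 * r + 2 by omega, show 4 * r + 2 - 1 = 4 * r + 1 by omega] at hcount
    obtain ⟨j, hj⟩ := hodd
    rw [hj] at hcount
    have h1 : 4 * (4 * k) = 8 * ((2 * r + 1) * (4 * r + 1) * (2 * j + 1)) := by
      rw [hcount]; ring
    have h2 : Odd ((2 * r + 1) * (4 * r + 1) * (2 * j + 1)) :=
      ((odd_two_mul_add_one r).mul ⟨2 * r, by ring⟩).mul (odd_two_mul_add_one j)
    obtain ⟨l, hl⟩ := h2
    omega
  -- `N` fixes every cycle
  have hNfix : ∀ n ∈ N, ρ n KA = KA := by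
    by_contra hne
    push Not at hne
    obtain ⟨n₀, hn₀, hn₀A⟩ := hne
    let _ : MulAction N (cyc t) := MulAction.compHom _ (ρ.comp N.subtype)
    have horb : MulAction.orbit N KA = Set.univ := by
      apply Set.eq_univ_of_forall
      intro D
      by_cases hD : D = KA
      · exact hD ▸ MulAction.mem_orbit_self _
      obtain ⟨y, hy, hKy⟩ := hKsurj (ρ n₀ KA)
      obtain ⟨z, hz, hKz⟩ := hKsurj D
      -- an element fixing `KA` and moving `ρ n₀ KA` to `D`
      have hy4 : Four a b y (t y) := by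
        have h1 : ¬ (y = a ∨ y = t a) := fun e => hn₀A (by rw [hKy, hKA, hKeq _ _ hy C.ma]; exact e)
        rw [C.ta, not_or] at h1
        exact ⟨C.four.1, Ne.symm h1.1, fun e => h1.2 (by rw [← C.ta, e, C.ht.apply_apply]),
          Ne.symm h1.2, fun e => h1.1 (by rw [← C.tb, e, C.ht.apply_apply]), Ne.symm hy⟩
      have hz4 : Four a b z (t z) := by
        have h1 : ¬ (z = a ∨ z = t a) := fun e => hD (by rw [hKz, hKA, hKeq _ _ hz C.ma]; exact e)
        rw [C.ta, not_or] at h1
        exact ⟨C.four.1, Ne.symm h1.1, fun e => h1.2 (by rw [← C.ta, e, C.ht.apply_apply]),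
          Ne.symm h1.2, fun e => h1.1 (by rw [← C.tb, e, C.ht.apply_apply]), Ne.symm hz⟩
      obtain ⟨k, hk, k1, k2, k3, k4⟩ := exists_map hG hy4 hz4
      have hu : IsInv G (k * t * k⁻¹) := by
        refine ⟨G.mul_mem (G.mul_mem hk C.ht.1) (G.inv_mem hk), ?_, fun h => C.ht.2.2 ?_⟩
        · calc k * t * k⁻¹ * (k * t * k⁻¹) = k * (t * t) * k⁻¹ := by group
            _ = 1 := by rw [C.ht.2.1, mul_one, mul_inv_cancel]
        · calc t = k⁻¹ * (k * t * k⁻¹) * k := by group
            _ = 1 := by rw [h, mul_one, inv_mul_cancel]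
      have e1 : k.symm a = a := (Equiv.symm_apply_eq k).2 k1.symm
      have e2 : k.symm b = b := (Equiv.symm_apply_eq k).2 k2.symm
      have e3 : k.symm z = y := (Equiv.symm_apply_eq k).2 k3.symm
      have e4 : k.symm (t z) = t y := (Equiv.symm_apply_eq k).2 k4.symm
      obtain ⟨e, he, hek, hef, -⟩ := exists_conj hG hz4 hu C.ht
        (by simp [AgreeOn, Equiv.Perm.mul_apply, Equiv.Perm.inv_def, e1, e2, e3, e4, C.ta, C.tb,
          C.ht.apply_apply, k1, k2, k3, k4])
        (by simp [Maps, C.ta, C.tb, C.ht.apply_apply])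
      set g : cenG G t := ⟨e * k, mem_cenG.2 ⟨G.mul_mem he hk, by
        calc e * k * t = (e * (k * t * k⁻¹) * e⁻¹) * (e * k) := by group
          _ = t * (e * k) := by rw [hek]⟩⟩ with hgdef
      have ga : g.1 a = a := by
        show e (k a) = a; rw [k1]; exact hef a (by simp)
      have gy : g.1 y = z := by
        show e (k y) = z; rw [k3]; exact hef z (by simp)
      refine ⟨⟨g * n₀ * g⁻¹, Subgroup.Normal.conj_mem inferInstance _ hn₀ g⟩, ?_⟩
      show ρ (g * n₀ * g⁻¹) KA = D
      have hg : ρ g KA = KA := by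
        rw [hKA, hρK _ _ C.ma, hKeq _ _ (hmv _ _ C.ma) C.ma]; exact Or.inl ga
      have hg' : ρ g⁻¹ KA = KA := by
        rw [map_inv]; exact (Equiv.symm_apply_eq (ρ g)).2 hg.symm
      rw [map_mul, map_mul, Equiv.Perm.mul_apply, Equiv.Perm.mul_apply, hg', hKy, hρK _ _ hy, hKz,
        hKeq _ _ (hmv _ _ hy) hz]
      exact Or.inl gy
    have hdvd : m * Nat.card (MulAction.stabilizer N KA) = Nat.card N := by
      have hi : (MulAction.stabilizer N KA).index = m := by
        rw [MulAction.index_stabilizer, horb, Set.ncard_univ, Nat.card_eq_fintype_card]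
      rw [← hi, Subgroup.index_mul_card]
    have hT₀N : T₀ ∈ N := by
      rw [hN, MonoidHom.mem_ker]
      refine Prod.ext ?_ ?_
      · show Equiv.Perm.sign (ρ T₀) = 1
        rw [show ρ T₀ = 1 from Equiv.ext hρt, map_one]
      · show Equiv.Perm.sign (π T₀) = 1
        rw [show π T₀ = 1 from Equiv.ext fun y => Subtype.ext (mem_fx.1 y.2), map_one]
    have h2 : 2 ∣ Nat.card (MulAction.stabilizer N KA) := by
      have hmem : (⟨T₀, hT₀N⟩ : N) ∈ MulAction.stabilizer N KA := hρt KA
      have h := orderOf_dvd_natCard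
        (⟨⟨T₀, hT₀N⟩, hmem⟩ : MulAction.stabilizer N KA)
      rwa [orderOf_eq_prime (p := 2)] at h
      · exact Subtype.ext (Subtype.ext (Subtype.ext (by
          show t ^ 2 = 1
          rw [pow_two, C.ht.2.1])))
      · intro h
        exact C.ht.2.2 (congrArg (fun z : MulAction.stabilizer N KA => z.1.1.1) h)
    obtain ⟨l, hl⟩ := h2
    exact hN4 ⟨(2 * r + 1) * l, by rw [← hdvd, hl, show m = 4 * r + 2 by omega]; ring⟩
  have hNall : ∀ n ∈ N, ∀ y, t y ≠ y → ρ n (K y) = K y := by
    intro n hn y hy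
    -- move `a` to `y` inside the centraliser
    obtain ⟨z, hz⟩ : ∃ z, z ∈ moved t \ {y, t y} := by
      apply Finset.Nonempty.exists_mem
      rw [← Finset.card_pos]
      have := Finset.le_card_sdiff {y, t y} (moved t)
      have := Finset.card_le_two (a := y) (b := t y)
      omega
    simp only [Finset.mem_sdiff, mem_moved, Finset.mem_insert, Finset.mem_singleton, not_or] at hz
    obtain ⟨hz1, hz2, hz3⟩ := hz
    have hy4 : Four y (t y) z (t z) := ⟨Ne.symm hy, Ne.symm hz2,
      fun e => hz3 (by rw [e, C.ht.apply_apply]), Ne.symm hz3,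
      fun e => hz2 (t.injective e).symm, Ne.symm hz1⟩
    obtain ⟨k, hk, k1, k2, k3, k4⟩ := exists_map hG C.four hy4
    have hu : IsInv G (k * t * k⁻¹) := by
      refine ⟨G.mul_mem (G.mul_mem hk C.ht.1) (G.inv_mem hk), ?_, fun h => C.ht.2.2 ?_⟩
      · calc k * t * k⁻¹ * (k * t * k⁻¹) = k * (t * t) * k⁻¹ := by group
          _ = 1 := by rw [C.ht.2.1, mul_one, mul_inv_cancel]
      · calc t = k⁻¹ * (k * t * k⁻¹) * k := by group
          _ = 1 := by rw [h, mul_one, inv_mul_cancel]
    have e1 : k.symm y = a := (Equiv.symm_apply_eq k).2 k1.symm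
    have e2 : k.symm (t y) = b := (Equiv.symm_apply_eq k).2 k2.symm
    have e3 : k.symm z = c := (Equiv.symm_apply_eq k).2 k3.symm
    have e4 : k.symm (t z) = d := (Equiv.symm_apply_eq k).2 k4.symm
    obtain ⟨e, he, hek, hef, -⟩ := exists_conj hG hy4 hu C.ht
      (by simp [AgreeOn, Equiv.Perm.mul_apply, Equiv.Perm.inv_def, e1, e2, e3, e4, C.ta, C.tb,
        C.tc, C.td, C.ht.apply_apply, k1, k2, k3, k4])
      (by simp [Maps, C.ht.apply_apply])
    set g : cenG G t := ⟨e * k, mem_cenG.2 ⟨G.mul_mem he hk, by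
      calc e * k * t = (e * (k * t * k⁻¹) * e⁻¹) * (e * k) := by group
        _ = t * (e * k) := by rw [hek]⟩⟩ with hgdef
    have ga : g.1 a = y := by
      show e (k a) = y; rw [k1]; exact hef y (by simp)
    have hg : ρ g KA = K y := by
      rw [hKA, hρK _ _ C.ma, hKeq _ _ (hmv _ _ C.ma) hy]; exact Or.inl ga
    have := hNfix _ (Subgroup.Normal.conj_mem inferInstance _ hn g⁻¹)
    rw [inv_inv, map_mul, map_mul, Equiv.Perm.mul_apply, Equiv.Perm.mul_apply, hg, map_inv] at this
    exact ((Equiv.symm_apply_eq (ρ g)).1 this).trans hg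
  -- hence `N` is small
  have hsmall : Nat.card N ≤ 12 := by
    have hval : ∀ n ∈ N, (n : cenG G t).1 a ∈ ({a, b} : Finset α) := by
      intro n hn
      have h := hNall n hn a C.ma
      rw [hρK _ _ C.ma, hKeq _ _ (hmv _ _ C.ma) C.ma, C.ta] at h
      simpa using h
    let f : N → ({a, b} : Finset α) × Equiv.Perm (fx t) :=
      fun n => (⟨n.1.1 a, hval _ n.2⟩, π n.1)
    have hf : Function.Injective f := by
      intro n n' h
      obtain ⟨h1, h2⟩ := Prod.ext_iff.1 h
      have h1' : n.1.1 a = n'.1.1 a := congrArg Subtype.val h1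
      set k : N := n'⁻¹ * n with hk
      suffices k.1.1 = 1 by
        rw [← inv_mul_eq_one.1 (show n'⁻¹ * n = 1 from Subtype.ext (Subtype.ext this))]
      have ka : k.1.1 a = a := by
        show (n'.1.1)⁻¹ (n.1.1 a) = a
        rw [h1']; exact n'.1.1.symm_apply_apply a
      have kf : ∀ y ∈ fx t, k.1.1 y = y := by
        intro y hy
        have h3 : n.1.1 y = n'.1.1 y := congrArg Subtype.val (Equiv.ext_iff.1 h2 ⟨y, hy⟩)
        show (n'.1.1)⁻¹ (n.1.1 y) = y
        rw [h3]; exact n'.1.1.symm_apply_apply y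
      have hc := (mem_cenG.1 k.1.2).2
      have kb : k.1.1 b = b := by rw [← C.ta, apply_comm hc, ka]
      have k2 : k.1.1 * k.1.1 = 1 := by
        ext y
        rw [Equiv.Perm.mul_apply, Equiv.Perm.one_apply]
        by_cases hy : t y = y
        · rw [kf y (mem_fx.2 hy), kf y (mem_fx.2 hy)]
        have h := hNall _ k.2 y hy
        rw [hρK _ _ hy, hKeq _ _ (hmv _ _ hy) hy] at h
        rcases h with h | h
        · rw [h, h]
        · rw [h, apply_comm hc, h, C.ht.apply_apply]
      obtain ⟨p, hp, q, hq, hpq⟩ : ∃ p ∈ fx t, ∃ q ∈ fx t, p ≠ q :=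
        Finset.one_lt_card.1 (by rw [card_fx hG h8 C.ht]; omega)
      have hne : ∀ z ∈ fx t, a ≠ z ∧ b ≠ z := fun z hz =>
        ⟨fun e => C.ma (e ▸ mem_fx.1 hz), fun e => C.four.1 (C.tb.symm.trans (e ▸ mem_fx.1 hz))⟩
      exact eq_one_of_fix hG (mem_cenG.1 k.1.2).1 k2
        (show Four a b p q from ⟨C.four.1, (hne p hp).1, (hne q hq).1, (hne p hp).2, (hne q hq).2,
          hpq⟩) ka kb (kf p hp) (kf q hq)
    refine (Nat.card_le_card_of_injective f hf).trans ?_
    rw [Nat.card_prod, Nat.card_eq_fintype_card, Nat.card_eq_fintype_card, Fintype.card_coe,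
      Finset.card_pair C.four.1, Fintype.card_perm, Fintype.card_coe]
    have : (fx t).card ≤ 3 := card_fx_le hG C.ht
    have := Nat.factorial_le this
    simp [Nat.factorial] at this ⊢
    omega
  have hpos : 1 ≤ Nat.card {g : cenG G t // g.1 a = a ∧ g.1 c = c} := hodd.pos
  have hm6 : 6 ≤ m := by omega
  have h120 : 2 * 6 * (2 * 5) * 1 ≤ Nat.card (cenG G t) := by
    rw [hcount]
    refine Nat.mul_le_mul (Nat.mul_le_mul ?_ ?_) hpos <;> omega
  omega

/-- the even case is impossible -/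
theorem even_false (hG : Hyp G) (h8 : 8 ≤ Fintype.card α) (he : Even (Fintype.card α)) :
    False := by
  classical
  have h2 : Fintype.card α % 2 = 0 := Nat.even_iff.1 he
  obtain ⟨Q, -, hQc⟩ := Finset.exists_subset_card_eq
    (show 4 ≤ (Finset.univ : Finset α).card by rw [Finset.card_univ]; omega)
  obtain ⟨a, b, p, q, h1, h1', h1'', h2', h3', h4', -⟩ := Finset.card_eq_four.1 hQc
  obtain ⟨t, ht, hta, htb, htp, htq⟩ := exists_transp hG (a := a) (b := b) (c := p) (d := q)
    ⟨h1, h1', h1'', h2', h3', h4'⟩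
  have hfx : fx t = {p, q} := (Finset.eq_of_subset_of_card_le (by
      simp [Finset.insert_subset_iff, mem_fx, htp, htq])
    (by rw [card_fx hG h8 ht, Finset.card_pair h4', h2])).symm
  have hmv : ∀ y, y ≠ p → y ≠ q → t y ≠ y := fun y hy hy' e => by
    have := mem_fx.2 e
    rw [hfx] at this; simp [hy, hy'] at this
  set L : Subgroup (Equiv.Perm α) :=
    G ⊓ MulAction.stabilizer (Equiv.Perm α) p ⊓ MulAction.stabilizer (Equiv.Perm α) q with hL
  have hmemL : ∀ g, g ∈ L ↔ g ∈ G ∧ g p = p ∧ g q = q := fun g => by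
    simp [hL, Subgroup.mem_inf, MulAction.mem_stabilizer_iff, and_assoc]
  have htL : t ∈ L := (hmemL t).2 ⟨ht.1, htp, htq⟩
  -- `t` is the only involution of `L` centralising `t`
  have hsol : ∀ v ∈ L, IsInv G v → v * t = t * v → v = t := by
    intro v hvL hv hvt
    obtain ⟨-, hvp, hvq⟩ := (hmemL v).1 hvL
    by_contra hne
    set x := v a with hx
    have hxa : x ≠ a := fun e => by
      refine hv.2.2 (eq_one_of_fix hG hv.1 hv.2.1 ⟨h1, h1', h1'', h2', h3', h4'⟩ e ?_ hvp hvq)
      rw [← hta, apply_comm hvt]; exact congrArg t e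
    have hxb : x ≠ b := fun e => by
      refine hne ?_
      have h : v * t = 1 := by
        refine eq_one_of_fix hG (G.mul_mem hv.1 ht.1) ?_ ⟨h1, h1', h1'', h2', h3', h4'⟩ ?_ ?_ ?_ ?_
        · calc v * t * (v * t) = v * (t * v) * t := by group
            _ = 1 := by rw [← hvt, ← mul_assoc, hv.2.1, one_mul, ht.2.1]
        · rw [Equiv.Perm.mul_apply, hta, ← e]; exact hv.apply_apply a
        · rw [Equiv.Perm.mul_apply, htb]; exact e
        · rw [Equiv.Perm.mul_apply, htp, hvp]
        · rw [Equiv.Perm.mul_apply, htq, hvq]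
      calc v = v * (t * t) := by rw [ht.2.1, mul_one]
        _ = t := by rw [← mul_assoc, h, one_mul]
    have hxp : x ≠ p := fun e => h1' (v.injective (e.trans hvp.symm))
    have hxq : x ≠ q := fun e => h1'' (v.injective (e.trans hvq.symm))
    have hvb : v b = t x := by rw [← hta, apply_comm hvt]
    obtain ⟨s, w, C⟩ := exists_cfg hG (a := a) (b := b) (c := x) (d := t x)
      ⟨h1, Ne.symm hxa, fun e => hxb (by rw [← hta, e, ht.apply_apply]), Ne.symm hxb,
        fun e => hxa (by rw [← htb, e, ht.apply_apply]), Ne.symm (hmv x hxp hxq)⟩ ht hta rfl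
    have hvx : v x = a := hv.apply_apply a
    have hvtx : v (t x) = b := by rw [apply_comm hvt, hvx, hta]
    obtain ⟨e, -, hee, hef, hec⟩ := exists_conj hG C.four hv C.hw
      (by simp [AgreeOn, C.wa, C.wb, C.wc, C.wd, ← hx, hvb, hvx, hvtx])
      (by simp [Maps, C.wa, C.wb, C.wc, C.wd])
    have het := hec t hvt.symm C.wt.symm
    obtain ⟨y, hy, hwy⟩ := exists_moved_fixed hG h8 C
    apply hwy
    rw [← hee, Equiv.Perm.mul_apply, Equiv.Perm.mul_apply]
    have hy2 : t (e.symm y) = e.symm y := by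
      apply e.injective
      rw [← apply_comm het, e.apply_symm_apply, mem_fx.1 hy]
    have := mem_fx.2 hy2
    rw [hfx] at this
    show e (v (e.symm y)) = y
    rcases Finset.mem_insert.1 this with h | h
    · rw [h, hvp, ← h, e.apply_symm_apply]
    · rw [Finset.mem_singleton.1 h, hvq, ← Finset.mem_singleton.1 h, e.apply_symm_apply]
  have htord : orderOf (⟨t, htL⟩ : L) = 2 := by
    rw [← Subgroup.orderOf_coe]
    exact orderOf_eq_prime (by rw [pow_two, ht.2.1]) ht.2.2
  have hiso : Cfsg.IsIsolatedInvolution (⟨t, htL⟩ : L) := by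
    refine ⟨htord, fun g hg => ?_⟩
    set v := g * ⟨t, htL⟩ * g⁻¹ with hv
    have hv2 : v.1 * v.1 = 1 := by
      rw [← Subgroup.coe_mul, hv]
      calc ((g * ⟨t, htL⟩ * g⁻¹ * (g * ⟨t, htL⟩ * g⁻¹) : L) : Equiv.Perm α)
          = g.1 * (t * t) * g.1⁻¹ := by simp [mul_assoc]
        _ = 1 := by rw [ht.2.1, mul_one, mul_inv_cancel]
    have hv1 : v.1 ≠ 1 := fun h => ht.2.2 (by
      have : v = 1 := Subtype.ext h
      have h' : (⟨t, htL⟩ : L) = 1 := conj_eq_one_iff.1 this
      exact congrArg Subtype.val h')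
    exact Subtype.ext (hsol v.1 v.2 ⟨((hmemL _).1 v.2).1, hv2, hv1⟩
      (congrArg Subtype.val hg.eq).symm)
  have hcomm := ZStarTheorem.commutator_mem hiso
  set O := Cfsg.pPrimeCore 2 L with hO
  have hOodd : Odd (Nat.card O) := ZStarTheorem.odd_card_pPrimeCore
  have hmap : ∀ y, y ≠ p → y ≠ q → ∃ g : L, g.1 a = y := by
    intro y hy hy'
    obtain ⟨z, hz⟩ : ∃ z, z ∉ ({p, q, y} : Finset α) := by
      by_contra hne; push Not at hne
      have h := Finset.card_le_card (fun x (_ : x ∈ Finset.univ) => hne x)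
      rw [Finset.card_univ] at h
      have := Finset.card_le_three (a := p) (b := q) (c := y)
      omega
    simp only [Finset.mem_insert, Finset.mem_singleton, not_or] at hz
    obtain ⟨g, hg, g1, g2, g3, -⟩ := exists_map hG
      (show Four p q a b from ⟨h4', h1'.symm, h2'.symm, h1''.symm, h3'.symm, h1⟩)
      (show Four p q y z from ⟨h4', hy.symm, Ne.symm hz.1, hy'.symm, Ne.symm hz.2.1,
        Ne.symm hz.2.2⟩)
    exact ⟨⟨g, (hmemL g).2 ⟨hg, g1, g2⟩⟩, g3⟩
  have hOa : ∀ n ∈ O, (n : L).1 a = a := by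
    by_contra hne; push Not at hne
    obtain ⟨n₀, hn₀, hne⟩ := hne
    set B := n₀.1 a with hB
    have hBp : B ≠ p := fun e => h1' (n₀.1.injective (e.trans ((hmemL _).1 n₀.2).2.1.symm))
    have hBq : B ≠ q := fun e => h1'' (n₀.1.injective (e.trans ((hmemL _).1 n₀.2).2.2.symm))
    have horb : ∀ D, D ≠ p → D ≠ q → D ∈ MulAction.orbit O a := by
      intro D hD hD'
      by_cases hDa : D = a
      · exact hDa ▸ MulAction.mem_orbit_self _
      obtain ⟨g, hg, g1, g2, g3, g4⟩ := exists_map hG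
        (show Four p q a B from ⟨h4', h1'.symm, hBp.symm, h1''.symm, hBq.symm, Ne.symm hne⟩)
        (show Four p q a D from ⟨h4', h1'.symm, hD.symm, h1''.symm, hD'.symm, Ne.symm hDa⟩)
      let gL : L := ⟨g, (hmemL g).2 ⟨hg, g1, g2⟩⟩
      refine ⟨⟨gL * n₀ * gL⁻¹, Subgroup.Normal.conj_mem inferInstance _ hn₀ gL⟩, ?_⟩
      show g (n₀.1 (g.symm a)) = D
      rw [(Equiv.symm_apply_eq g).2 g3.symm]
      exact g4
    have hset : MulAction.orbit O a = ↑(({p, q} : Finset α)ᶜ) := by
      ext D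
      simp only [Finset.coe_compl, Set.mem_compl_iff, Finset.mem_coe, Finset.mem_insert,
        Finset.mem_singleton, not_or]
      refine ⟨?_, fun h => horb D h.1 h.2⟩
      rintro ⟨n, rfl⟩
      exact ⟨fun e => h1' (n.1.1.injective (e.trans ((hmemL _).1 n.1.2).2.1.symm)),
        fun e => h1'' (n.1.1.injective (e.trans ((hmemL _).1 n.1.2).2.2.symm))⟩
    have h := MulAction.index_stabilizer O a
    rw [hset, Set.ncard_coe_finset, Finset.card_compl, Finset.card_pair h4'] at h
    have hd := hOodd.of_dvd_nat (h ▸ Subgroup.index_dvd_card _)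
    rw [Nat.odd_iff] at hd
    omega
  have hO1 : ∀ n ∈ O, n = 1 := by
    intro n hn
    obtain ⟨-, hnp, hnq⟩ := (hmemL _).1 n.2
    refine Subtype.ext (Equiv.ext fun y => ?_)
    show n.1 y = y
    by_cases hy : y = p
    · rw [hy, hnp]
    by_cases hy' : y = q
    · rw [hy', hnq]
    obtain ⟨g, rfl⟩ := hmap y hy hy'
    have := hOa _ (Subgroup.Normal.conj_mem inferInstance _ hn g⁻¹)
    rw [inv_inv] at this
    exact (Equiv.symm_apply_eq g.1).1 this
  obtain ⟨z, hz⟩ : ∃ z, z ∉ ({a, b, p, q} : Finset α) := by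
    by_contra hne; push Not at hne
    have h := Finset.card_le_card (fun x (_ : x ∈ Finset.univ) => hne x)
    rw [Finset.card_univ] at h
    have := Finset.card_le_four (a := a) (b := b) (c := p) (d := q)
    omega
  simp only [Finset.mem_insert, Finset.mem_singleton, not_or] at hz
  obtain ⟨g, hg, g1, g2, g3, g4⟩ := exists_map hG
    (show Four p q a b from ⟨h4', h1'.symm, h2'.symm, h1''.symm, h3'.symm, h1⟩)
    (show Four p q a z from ⟨h4', h1'.symm, Ne.symm hz.2.2.1, h1''.symm, Ne.symm hz.2.2.2,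
      Ne.symm hz.1⟩)
  have h := hO1 _ (hcomm ⟨g, (hmemL g).2 ⟨hg, g1, g2⟩⟩)
  have hgt : t * g = g * t := by
    have h' : t * g * t⁻¹ * g⁻¹ = 1 := congrArg Subtype.val h
    exact mul_inv_eq_one.1 (by rw [mul_inv_rev, ← mul_assoc]; exact h')
  refine hz.2.1 ?_
  rw [← g4, ← hta, ← apply_comm hgt, g3]

end Cfsg.Agent.FourTransOdd30
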