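import Cfsg.Agent.Lib.FourTransOdd30Core

/-!
# Four times transitive groups, stabiliser of four points of odd order: odd degree
-/

namespace Cfsg.Agent.FourTransOdd30

open FourFormula30

variable {α : Type*} [Fintype α] [DecidableEq α] {G : Subgroup (Equiv.Perm α)}
variable {t s w : Equiv.Perm α} {a b c d : α}

/-- pointwise stabiliser of four points -/
def stQ (G : Subgroup (Equiv.Perm α)) (a b c d : α) : Subgroup (Equiv.Perm α) where
  carrier := {g | g ∈ G ∧ g a = a ∧ g b = b ∧ g c = c ∧ g d = d}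
  one_mem' := ⟨G.one_mem, rfl, rfl, rfl, rfl⟩
  mul_mem' := fun {g h} hg hh => ⟨G.mul_mem hg.1 hh.1, by
    rw [Equiv.Perm.mul_apply, hh.2.1, hg.2.1], by
    rw [Equiv.Perm.mul_apply, hh.2.2.1, hg.2.2.1], by
    rw [Equiv.Perm.mul_apply, hh.2.2.2.1, hg.2.2.2.1], by
    rw [Equiv.Perm.mul_apply, hh.2.2.2.2, hg.2.2.2.2]⟩
  inv_mem' := fun {g} hg => ⟨G.inv_mem hg.1, (Equiv.symm_apply_eq g).2 hg.2.1.symm,
    (Equiv.symm_apply_eq g).2 hg.2.2.1.symm, (Equiv.symm_apply_eq g).2 hg.2.2.2.1.symm,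
    (Equiv.symm_apply_eq g).2 hg.2.2.2.2.symm⟩

omit [Fintype α] [DecidableEq α] in
theorem mem_stQ {g : Equiv.Perm α} :
    g ∈ stQ G a b c d ↔ g ∈ G ∧ g a = a ∧ g b = b ∧ g c = c ∧ g d = d := Iff.rfl

theorem stQ_fix {g : Equiv.Perm α} (hg : g ∈ stQ G a b c d) :
    ∀ x ∈ ({a, b, c, d} : Finset α), g x = x := by
  obtain ⟨-, h1, h2, h3, h4⟩ := hg
  simp [h1, h2, h3, h4]

theorem odd_card_stQ (hG : Hyp G) (hQ : Four a b c d) : Odd (Nat.card (stQ G a b c d)) := by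
  rw [← Nat.not_even_iff_odd, even_iff_two_dvd]
  intro h2
  obtain ⟨g, hg⟩ := exists_prime_orderOf_dvd_card' (G := stQ G a b c d) 2 h2
  obtain ⟨g1, g2, g3, g4, g5⟩ := g.2
  have := hG.odd g.1 g1 a b c d hQ.nodup g2 g3 g4 g5
  rw [Subgroup.orderOf_coe, hg] at this
  exact absurd this (by decide)

theorem conj_mem_stQ {u h : Equiv.Perm α} (hu : IsInv G u) (hm : Maps u a b c d)
    (hh : h ∈ stQ G a b c d) : u * h * u ∈ stQ G a b c d := by
  refine mem_stQ.2 ⟨G.mul_mem (G.mul_mem hu.1 hh.1) hu.1, ?_, ?_, ?_, ?_⟩ <;>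
    rw [Equiv.Perm.mul_apply, Equiv.Perm.mul_apply, stQ_fix hh _ (hm _ (by simp)), hu.apply_apply]

namespace Cfg

theorem mt (C : Cfg G t s w a b c d) : Maps t a b c d := by simp [Maps, C.ta, C.tb, C.tc, C.td]
theorem ms (C : Cfg G t s w a b c d) : Maps s a b c d := by simp [Maps, C.sa, C.sb, C.sc, C.sd]
theorem mw (C : Cfg G t s w a b c d) : Maps w a b c d := by simp [Maps, C.wa, C.wb, C.wc, C.wd]

end Cfg

/-- the common fixed point `x` of a configuration -/
theorem exists_x (hG : Hyp G) (h8 : 8 ≤ Fintype.card α) (ho : Fintype.card α % 2 = 1)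
    (C : Cfg G t s w a b c d) :
    ∃ x, fx t ∩ fx s = {x} ∧ fx t ∩ fx w = {x} ∧ fx t ∩ fx (w * t) = {x} ∧
      fx w ∩ fx (w * t) = {x} ∧ fx s = {c, d, x} ∧ fx (s * t) = {a, b, x} := by
  classical
  obtain ⟨x, hx⟩ := Finset.card_eq_one.1 (ho ▸ card_fx_inter hG h8 C)
  have hx' : t x = x ∧ s x = x := by
    have : x ∈ fx t ∩ fx s := hx ▸ Finset.mem_singleton_self x
    simpa [mem_fx] using this
  obtain ⟨htx, hsx⟩ := hx'
  have htwx : t (w x) = w x := by rw [← apply_comm C.wt, htx]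
  have hwx : w x = x := by
    have h := C.ws x
    rw [hsx, htwx] at h
    have : w x ∈ fx t ∩ fx s := Finset.mem_inter.2 ⟨mem_fx.2 htwx, mem_fx.2 h.symm⟩
    rw [hx] at this
    exact Finset.mem_singleton.1 this
  have htw : fx t ∩ fx w = {x} := by
    refine Finset.Subset.antisymm (fun y hy => Finset.mem_singleton.2 ?_)
      (Finset.singleton_subset_iff.2 (Finset.mem_inter.2 ⟨mem_fx.2 htx, mem_fx.2 hwx⟩))
    obtain ⟨hty, hwy⟩ := Finset.mem_inter.1 hy
    rw [mem_fx] at hty hwy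
    by_contra hne
    have hsy : s y ≠ y := fun e => hne (by
      have : y ∈ fx t ∩ fx s := Finset.mem_inter.2 ⟨mem_fx.2 hty, mem_fx.2 e⟩
      rw [hx] at this; exact Finset.mem_singleton.1 this)
    have hsyx : s y ≠ x := fun e => hne (s.injective (e.trans hsx.symm))
    have htsy : t (s y) = s y := by rw [← apply_comm C.st, hty]
    have hwsy : w (s y) = s y := by rw [C.ws, hwy, hty]
    have hset : ({x, y, s y} : Finset α) = fx t := by
      refine Finset.eq_of_subset_of_card_le (by simp [Finset.insert_subset_iff, mem_fx, htx, hty, htsy]) ?_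
      rw [card_fx hG h8 C.ht, ho, Finset.card_eq_three.2 ⟨x, y, s y, Ne.symm hne, Ne.symm hsyx,
        Ne.symm hsy, rfl⟩]
    obtain ⟨z, hz, hwz⟩ := exists_moved_fixed hG h8 C
    rw [← hset] at hz
    simp only [Finset.mem_insert, Finset.mem_singleton] at hz
    rcases hz with rfl | rfl | rfl
    exacts [hwz hwx, hwz hwy, hwz hwsy]
  refine ⟨x, hx, htw, ?_, ?_, ?_, ?_⟩
  · rw [← htw]
    ext y
    simp only [Finset.mem_inter, mem_fx, Equiv.Perm.mul_apply]
    exact ⟨fun h => ⟨h.1, by simpa [h.1] using h.2⟩, fun h => ⟨h.1, by rw [h.1, h.2]⟩⟩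
  · rw [← htw]
    ext y
    simp only [Finset.mem_inter, mem_fx, Equiv.Perm.mul_apply]
    refine ⟨fun h => ⟨w.injective (h.2.trans h.1.symm), h.1⟩, fun h => ⟨h.2, by rw [h.1, h.2]⟩⟩
  · refine (Finset.eq_of_subset_of_card_le ?_ ?_).symm
    · simp [Finset.insert_subset_iff, mem_fx, C.sc, C.sd, hsx]
    · rw [card_fx hG h8 C.hs, ho, Finset.card_eq_three.2 ⟨c, d, x, C.four.2.2.2.2.2, ?_, ?_, rfl⟩]
      · exact fun e => C.four.2.2.2.2.2 ((e ▸ htx).symm.trans C.tc)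
      · exact fun e => C.four.2.2.2.2.2 ((e ▸ htx).symm.trans C.td).symm
  · refine (Finset.eq_of_subset_of_card_le ?_ ?_).symm
    · simp [Finset.insert_subset_iff, mem_fx, Equiv.Perm.mul_apply, C.ta, C.tb, C.sa, C.sb, htx,
        hsx]
    · rw [card_fx hG h8 C.hst', ho, Finset.card_eq_three.2 ⟨a, b, x, C.four.1, ?_, ?_, rfl⟩]
      · exact fun e => C.four.1 ((e ▸ htx).symm.trans C.ta)
      · exact fun e => C.four.1 ((e ▸ htx).symm.trans C.tb).symm

theorem fx_stable {u h : Equiv.Perm α} (hc : h * u = u * h) {y : α} (hy : y ∈ fx u) :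
    h y ∈ fx u := by
  rw [mem_fx] at hy ⊢
  rw [← apply_comm hc, hy]

theorem fix_third {h u : Equiv.Perm α} (hodd : Odd (orderOf h)) (hc : h * u = u * h)
    (hcard : (fx u).card = 3) {x : α} (hx : x ∈ fx u) (hhx : h x = x) :
    ∀ y ∈ fx u, h y = y := by
  intro y hy
  by_contra hne
  have h1 := fx_stable hc hy
  have h2 := fx_stable hc h1
  have hyx : y ≠ x := fun e => hne (by rw [e, hhx])
  have hhyx : h y ≠ x := fun e => hyx (h.injective (e.trans hhx.symm))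
  have hset : ({x, y, h y} : Finset α) = fx u := by
    refine Finset.eq_of_subset_of_card_le ?_ ?_
    · simp [Finset.insert_subset_iff, hx, hy, h1]
    · rw [hcard, Finset.card_eq_three.2 ⟨x, y, h y, hyx.symm, hhyx.symm, Ne.symm hne, rfl⟩]
  rw [← hset] at h2
  simp only [Finset.mem_insert, Finset.mem_singleton] at h2
  rcases h2 with e | e | e
  · exact hhyx (h.injective (e.trans hhx.symm))
  · exact hne (no_swap hodd rfl e).symm
  · exact hne (h.injective e)

theorem odd_of_mem_stQ (hG : Hyp G) (hQ : Four a b c d) {g : Equiv.Perm α}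
    (hg : g ∈ stQ G a b c d) : Odd (orderOf g) := by
  obtain ⟨g1, g2, g3, g4, g5⟩ := hg
  exact hG.odd g g1 a b c d hQ.nodup g2 g3 g4 g5

theorem orbit_sub (hG : Hyp G) (h8 : 8 ≤ Fintype.card α) (ho : Fintype.card α % 2 = 1)
    (C : Cfg G t s w a b c d) {x : α} (htx : t x = x) (hsx : s x = x)
    (hfs : fx s = {c, d, x}) (hfst : fx (s * t) = {a, b, x})
    {h : Equiv.Perm α} (hh : h ∈ stQ G a b c d) :
    ∃ k ∈ cen (stQ G a b c d) t, k x = h x := by
  classical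
  set H := stQ G a b c d with hH
  set X := MulAction.stabilizer (Equiv.Perm α) x with hX
  have hodd := odd_card_stQ hG C.four
  have hnu : ∀ {u : Equiv.Perm α}, IsInv G u → Maps u a b c d → ∀ k ∈ H, u * k * u ∈ H :=
    fun hu hm k hk => conj_mem_stQ hu hm hk
  have hnX : ∀ {u : Equiv.Perm α}, IsInv G u → Maps u a b c d → u x = x →
      ∀ k ∈ H ⊓ X, u * k * u ∈ H ⊓ X := by
    intro u hu hm hux k hk
    refine ⟨conj_mem_stQ hu hm hk.1, ?_⟩
    show (u * k * u) x = x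
    rw [Equiv.Perm.mul_apply, Equiv.Perm.mul_apply, hux, show k x = x from hk.2, hux]
  have hsfix : ∀ k ∈ cen H s, k x = x := by
    intro k hk
    obtain ⟨h1, h2⟩ := mem_cen.1 hk
    have h3 := fx_stable h2 (mem_fx.2 hsx)
    rw [hfs] at h3
    simp only [Finset.mem_insert, Finset.mem_singleton] at h3
    rcases h3 with e | e | e
    · exact absurd ((k.injective (e.trans h1.2.2.2.1.symm))) (fun e' => C.four.2.2.2.2.2
        ((e' ▸ htx).symm.trans C.tc))
    · exact absurd ((k.injective (e.trans h1.2.2.2.2.symm))) (fun e' => C.four.2.2.2.2.2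
        ((e' ▸ htx).symm.trans C.td).symm)
    · exact e
  have hstfix : ∀ k ∈ cen H (t * s), k x = x := by
    intro k hk
    obtain ⟨h1, h2⟩ := mem_cen.1 hk
    rw [← C.st] at h2
    have h3 := fx_stable h2 (mem_fx.2 (show (s * t) x = x by rw [Equiv.Perm.mul_apply, htx, hsx]))
    rw [hfst] at h3
    simp only [Finset.mem_insert, Finset.mem_singleton] at h3
    rcases h3 with e | e | e
    · exact absurd ((k.injective (e.trans h1.2.1.symm))) (fun e' => C.four.1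
        ((e' ▸ htx).symm.trans C.ta))
    · exact absurd ((k.injective (e.trans h1.2.2.1.symm))) (fun e' => C.four.1
        ((e' ▸ htx).symm.trans C.tb).symm)
    · exact e
  have hcen : ∀ u : Equiv.Perm α, (∀ k ∈ cen H u, k x = x) → cen (H ⊓ X) u = cen H u := by
    intro u hu
    ext k
    simp only [mem_cen, Subgroup.mem_inf]
    exact ⟨fun e => ⟨e.1.1, e.2⟩, fun e => ⟨⟨e.1, hu k (mem_cen.2 e)⟩, e.2⟩⟩
  have F1 := four_formula H hodd t s C.ht.2.1 C.hs.2.1 C.st.symm (hnu C.ht C.mt) (hnu C.hs C.ms)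
  have F2 := four_formula (H ⊓ X) (hodd.of_dvd_nat (Subgroup.card_dvd_of_le inf_le_left)) t s
    C.ht.2.1 C.hs.2.1 C.st.symm (hnX C.ht C.mt htx) (hnX C.hs C.ms hsx)
  rw [hcen s hsfix, hcen (t * s) hstfix] at F2
  -- orbit sizes
  have orb : ∀ K : Subgroup (Equiv.Perm α),
      Nat.card (MulAction.orbit K x) * Nat.card (K ⊓ X : Subgroup _) = Nat.card K := by
    intro K
    have e : MulAction.stabilizer K x = (K ⊓ X).subgroupOf K := by
      ext k
      simp [Subgroup.mem_subgroupOf, hX, MulAction.mem_stabilizer_iff, Subgroup.smul_def]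
    rw [← Nat.card_congr (Subgroup.subgroupOfEquivOfLe (inf_le_left (a := K) (b := X))).toEquiv,
      ← e, Nat.card_coe_set_eq, ← MulAction.index_stabilizer, Subgroup.index_mul_card]
  have oH := orb H
  have oC := orb (cen H t)
  have hswap : cen (H ⊓ X) t = cen H t ⊓ X := by
    ext k; simp only [mem_cen, Subgroup.mem_inf]; tauto
  rw [hswap] at F2
  set A := Nat.card (MulAction.orbit (cen H t) x) with hA
  set B := Nat.card (MulAction.orbit H x) with hB
  set c0 := Nat.card (cen (cen H s) t)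
  set P := Nat.card (cen H s) * Nat.card (cen H (t * s))
  have hpos : ∀ K : Subgroup (Equiv.Perm α), 0 < Nat.card K := fun K => Nat.card_pos
  have hAB : A = B := by
    have h1 : B * (Nat.card (H ⊓ X : Subgroup _) * c0 ^ 2) =
        A * (Nat.card (H ⊓ X : Subgroup _) * c0 ^ 2) := by
      calc B * (Nat.card (H ⊓ X : Subgroup _) * c0 ^ 2)
          = (B * Nat.card (H ⊓ X : Subgroup _)) * c0 ^ 2 := by ring
        _ = Nat.card (cen H t) * Nat.card (cen H s) * Nat.card (cen H (t * s)) := by rw [oH, F1]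
        _ = A * (Nat.card (cen H t ⊓ X : Subgroup _) * Nat.card (cen H s) *
              Nat.card (cen H (t * s))) := by rw [← oC]; ring
        _ = _ := by rw [← F2]
    exact (Nat.eq_of_mul_eq_mul_right (Nat.mul_pos (hpos _) (pow_pos (hpos _) 2)) h1).symm
  have hsub : MulAction.orbit (cen H t) x ⊆ MulAction.orbit H x := by
    rintro _ ⟨k, rfl⟩
    exact ⟨⟨k.1, (mem_cen.1 k.2).1⟩, rfl⟩
  have heq := Set.eq_of_subset_of_ncard_le hsub (le_of_eq (by
    rw [← Nat.card_coe_set_eq, ← Nat.card_coe_set_eq, ← hA, ← hB, hAB])) (Set.toFinite _)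
  have : h x ∈ MulAction.orbit H x := ⟨⟨h, hh⟩, rfl⟩
  rw [← heq] at this
  obtain ⟨k, hk⟩ := this
  exact ⟨k.1, k.2, hk⟩

/-- elements centralising `w` fix its fixed points -/
theorem cen_w_fix (hG : Hyp G) (h8 : 8 ≤ Fintype.card α) (ho : Fintype.card α % 2 = 1)
    (C : Cfg G t s w a b c d) {h : Equiv.Perm α} (hh : h ∈ stQ G a b c d)
    (hc : h * w = w * h) : ∀ y ∈ fx w, h y = y := by
  obtain ⟨x, hts, htw, -, -, hfs, hfst⟩ := exists_x hG h8 ho C
  have h1 : x ∈ fx t ∩ fx s := hts ▸ Finset.mem_singleton_self x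
  have h2 : x ∈ fx t ∩ fx w := htw ▸ Finset.mem_singleton_self x
  obtain ⟨h1a, h1b⟩ := Finset.mem_inter.1 h1
  have hwx := (Finset.mem_inter.1 h2).2
  obtain ⟨k, hk, hkx⟩ := orbit_sub hG h8 ho C (mem_fx.1 h1a) (mem_fx.1 h1b) hfs hfst hh
  have h3 : h x ∈ fx t ∩ fx w := Finset.mem_inter.2
    ⟨hkx ▸ fx_stable (mem_cen.1 hk).2 h1a, fx_stable hc hwx⟩
  rw [htw] at h3
  exact fix_third (odd_of_mem_stQ hG C.four hh) hc (by rw [card_fx hG h8 C.hw, ho]) hwx
    (Finset.mem_singleton.1 h3)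

theorem cen_t_fix (hG : Hyp G) (h8 : 8 ≤ Fintype.card α) (ho : Fintype.card α % 2 = 1)
    (C : Cfg G t s w a b c d) {h : Equiv.Perm α} (hh : h ∈ stQ G a b c d)
    (hc : h * t = t * h) : ∀ y ∈ fx t, h y = y := by
  obtain ⟨q1, q2, q3, q4, q5, q6⟩ := C.four
  obtain ⟨s', w', C'⟩ := exists_cfg hG (t := w) (a := a) (b := c) (c := b) (d := d)
    ⟨q2, q1, q3, q4.symm, q6, q5⟩ C.hw C.wa C.wb
  obtain ⟨e, he, hee, hef, hec⟩ := exists_conj hG C.four C'.hw C.ht
    (by simp [AgreeOn, C'.wa, C'.wb, C'.wc, C'.wd, C.ta, C.tb, C.tc, C.td]) C.mt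
  have hew : w * e = e * w := hec w C'.wt.symm C.wt
  have heQ : e ∈ stQ G a b c d := ⟨he, hef a (by simp), hef b (by simp), hef c (by simp),
    hef d (by simp)⟩
  set g := e⁻¹ * h * e with hg
  have hgQ : g ∈ stQ G a b c d := Subgroup.mul_mem _ (Subgroup.mul_mem _ (Subgroup.inv_mem _ heQ) hh) heQ
  have hgQ' : g ∈ stQ G a c b d := ⟨hgQ.1, hgQ.2.1, hgQ.2.2.2.1, hgQ.2.2.1, hgQ.2.2.2.2⟩
  have hgw : g * w' = w' * g := by
    have e1 : w' = e⁻¹ * t * e := by rw [← hee]; group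
    rw [hg, e1]
    calc e⁻¹ * h * e * (e⁻¹ * t * e) = e⁻¹ * (h * t) * e := by group
      _ = e⁻¹ * (t * h) * e := by rw [hc]
      _ = e⁻¹ * t * e * (e⁻¹ * h * e) := by group
  intro y hy
  rw [← hee, fx_conj, Finset.mem_image] at hy
  obtain ⟨z, hz, rfl⟩ := hy
  have h4 := cen_w_fix hG h8 ho C' hgQ' hgw z hz
  rw [hg, Equiv.Perm.mul_apply, Equiv.Perm.mul_apply] at h4
  exact (Equiv.symm_apply_eq e).1 h4

theorem stQ_fix_x (hG : Hyp G) (h8 : 8 ≤ Fintype.card α) (ho : Fintype.card α % 2 = 1)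
    (C : Cfg G t s w a b c d) {x : α} (hx : fx t ∩ fx s = {x}) (hfs : fx s = {c, d, x})
    (hfst : fx (s * t) = {a, b, x}) {h : Equiv.Perm α} (hh : h ∈ stQ G a b c d) : h x = x := by
  have h1 : x ∈ fx t ∩ fx s := hx ▸ Finset.mem_singleton_self x
  obtain ⟨h1a, h1b⟩ := Finset.mem_inter.1 h1
  obtain ⟨k, hk, hkx⟩ := orbit_sub hG h8 ho C (mem_fx.1 h1a) (mem_fx.1 h1b) hfs hfst hh
  rw [← hkx]
  exact cen_t_fix hG h8 ho C (mem_cen.1 hk).1 (mem_cen.1 hk).2 x h1a

/-- the fifth point attached to four points -/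
def Fifth (G : Subgroup (Equiv.Perm α)) (a b c d x : α) : Prop :=
  (x ≠ a ∧ x ≠ b ∧ x ≠ c ∧ x ≠ d) ∧
  (∀ u, IsInv G u → ((u a = b ∧ u c = d) ∨ (u a = c ∧ u b = d) ∨ (u a = d ∧ u b = c) ∨
    (u a = b ∧ u c = c ∧ u d = d)) → u x = x) ∧
  (∀ y, (∀ u, IsInv G u → ((u a = b ∧ u c = d) ∨ (u a = c ∧ u b = d)) → u y = y) → y = x) ∧
  ∀ h ∈ stQ G a b c d, h x = x

theorem exists_fifth (hG : Hyp G) (h8 : 8 ≤ Fintype.card α) (ho : Fintype.card α % 2 = 1)
    (hQ : Four a b c d) : ∃ x, Fifth G a b c d x := by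
  obtain ⟨t, ht, hta, -, htc, -⟩ := exists_double hG hQ
  obtain ⟨s, w, C⟩ := exists_cfg hG hQ ht hta htc
  obtain ⟨x, hts, htw, htwt, -, hfs, hfst⟩ := exists_x hG h8 ho C
  have hH : ∀ h ∈ stQ G a b c d, h x = x := fun h hh => stQ_fix_x hG h8 ho C hts hfs hfst hh
  obtain ⟨h1, h2⟩ := Finset.mem_inter.1 (hts ▸ Finset.mem_singleton_self x : x ∈ fx t ∩ fx s)
  obtain ⟨-, h3⟩ := Finset.mem_inter.1 (htw ▸ Finset.mem_singleton_self x : x ∈ fx t ∩ fx w)
  obtain ⟨-, h4⟩ := Finset.mem_inter.1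
    (htwt ▸ Finset.mem_singleton_self x : x ∈ fx t ∩ fx (w * t))
  rw [mem_fx] at h1 h2 h3 h4
  refine ⟨x, ⟨?_, ?_, ?_, ?_⟩, ?_, ?_, hH⟩
  · exact fun e => hQ.1 ((e ▸ h1).symm.trans hta)
  · exact fun e => hQ.1 ((e ▸ h1).symm.trans C.tb).symm
  · exact fun e => hQ.2.2.2.2.2 ((e ▸ h1).symm.trans htc)
  · exact fun e => hQ.2.2.2.2.2 ((e ▸ h1).symm.trans C.td).symm
  · intro u hu hpat
    have key : ∀ v, IsInv G v → v x = x → AgreeOn v u a b c d → Maps u a b c d → u x = x := by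
      intro v hv hvx hag hm
      obtain ⟨e, he, hee, hef, -⟩ := exists_conj hG hQ hv hu hag hm
      have hex : e x = x := hH e ⟨he, hef a (by simp), hef b (by simp), hef c (by simp),
        hef d (by simp)⟩
      rw [← hee, Equiv.Perm.mul_apply, Equiv.Perm.mul_apply,
        show e⁻¹ x = x from (Equiv.symm_apply_eq e).2 hex.symm, hvx, hex]
    have ua : ∀ {p q}, u p = q → u q = p := fun {p q} h => by rw [← h, hu.apply_apply]
    rcases hpat with ⟨u1, u2⟩ | ⟨u1, u2⟩ | ⟨u1, u2⟩ | ⟨u1, u2, u3⟩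
    · exact key t ht h1 (by simp [AgreeOn, C.ta, C.tb, C.tc, C.td, u1, u2, ua u1, ua u2])
        (by simp [Maps, u1, u2, ua u1, ua u2])
    · exact key w C.hw h3 (by simp [AgreeOn, C.wa, C.wb, C.wc, C.wd, u1, u2, ua u1, ua u2])
        (by simp [Maps, u1, u2, ua u1, ua u2])
    · exact key (w * t) C.hwt' h4
        (by simp [AgreeOn, Equiv.Perm.mul_apply, C.ta, C.tb, C.tc, C.td, C.wa, C.wb, C.wc, C.wd,
          u1, u2, ua u1, ua u2])
        (by simp [Maps, u1, u2, ua u1, ua u2])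
    · exact key s C.hs h2 (by simp [AgreeOn, C.sa, C.sb, C.sc, C.sd, u1, u2, u3, ua u1])
        (by simp [Maps, u1, u2, u3, ua u1])
  · intro y hy
    have : y ∈ fx t ∩ fx w := Finset.mem_inter.2
      ⟨mem_fx.2 (hy t ht (Or.inl ⟨hta, htc⟩)), mem_fx.2 (hy w C.hw (Or.inr ⟨C.wa, C.wb⟩))⟩
    rw [htw] at this
    exact Finset.mem_singleton.1 this

theorem third_eq (hG : Hyp G) (h8 : 8 ≤ Fintype.card α) (ho : Fintype.card α % 2 = 1)
    {u : Equiv.Perm α} (hu : IsInv G u) {x y v X : α} (hxy : x ≠ y) (hxv : x ≠ v) (hyv : y ≠ v)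
    (hux : u x = x) (huy : u y = y) (huv : u v = v) (huX : u X = X) (hXx : X ≠ x)
    (hXy : X ≠ y) : X = v := by
  have hset : ({x, y, v} : Finset α) = fx u := Finset.eq_of_subset_of_card_le
    (by simp [Finset.insert_subset_iff, mem_fx, hux, huy, huv])
    (by rw [card_fx hG h8 hu, ho, Finset.card_eq_three.2 ⟨x, y, v, hxy, hxv, hyv, rfl⟩])
  have := mem_fx.2 huX
  rw [← hset] at this
  simpa [hXx, hXy] using this

/-- an involution is determined by its fixed points -/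
theorem fx_unique (hG : Hyp G) (h8 : 8 ≤ Fintype.card α) (ho : Fintype.card α % 2 = 1)
    {u u' : Equiv.Perm α} (hu : IsInv G u) (hu' : IsInv G u') (h : fx u = fx u') : u = u' := by
  ext z
  by_cases hz : u z = z
  · rw [hz, mem_fx.1 (h ▸ mem_fx.2 hz)]
  obtain ⟨x, y, v, hxy, hxv, hyv, hset⟩ :=
    Finset.card_eq_three.1 (show (fx u).card = 3 by rw [card_fx hG h8 hu, ho])
  have hx : x ∈ fx u := by rw [hset]; simp
  have hy : y ∈ fx u := by rw [hset]; simp
  have hv : v ∈ fx u := by rw [hset]; simp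
  have hne : ∀ i ∈ fx u, z ≠ i := fun i hi e => hz (e ▸ mem_fx.1 hi)
  obtain ⟨Y, hY⟩ := exists_fifth hG h8 ho (a := z) (b := x) (c := y) (d := v)
    ⟨hne x hx, hne y hy, hne v hv, hxy, hxv, hyv⟩
  suffices ∀ w : Equiv.Perm α, IsInv G w → fx w = fx u → w z = Y by
    rw [this u hu rfl, this u' hu' h.symm]
  intro w hw hwf
  have hwx : w x = x := mem_fx.1 (hwf ▸ hx)
  have hwy : w y = y := mem_fx.1 (hwf ▸ hy)
  have hwv : w v = v := mem_fx.1 (hwf ▸ hv)
  have hwz : w z ≠ z := fun e => hz (mem_fx.1 (hwf ▸ mem_fx.2 e))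
  set b := w z with hb
  have hbne : ∀ i, w i = i → z ≠ i → b ≠ i := fun i hi hzi e => hzi (w.injective (e.trans hi.symm))
  have hbx := hbne x hwx (hne x hx)
  have hby := hbne y hwy (hne y hy)
  have hbv := hbne v hwv (hne v hv)
  have hzx := hne x hx
  have hzy := hne y hy
  have hzv := hne v hv
  obtain ⟨X, ⟨-, -, X3, X4⟩, hXp, hXu, -⟩ := exists_fifth hG h8 ho
    (show Four z b x y from ⟨Ne.symm hwz, hzx, hzy, hbx, hby, hxy⟩)
  have hXv : X = v := third_eq hG h8 ho hw hxy hxv hyv hwx hwy hwv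
    (hXp w hw (Or.inr (Or.inr (Or.inr ⟨rfl, hwx, hwy⟩)))) X3 X4
  obtain ⟨X', -, hX'p, -, -⟩ := exists_fifth hG h8 ho
    (show Four z x b y from ⟨hzx, Ne.symm hwz, hzy, hbx.symm, hxy, hby⟩)
  have hX'v : X' = v := by
    rw [← hXv]
    refine hXu X' fun u₁ hu₁ hpat => hX'p u₁ hu₁ ?_
    rcases hpat with e | e
    · exact Or.inr (Or.inl e)
    · exact Or.inl e
  obtain ⟨u₂, hu₂, a1, -, a3, a4⟩ := exists_transp hG
    (show Four z x b y from ⟨hzx, Ne.symm hwz, hzy, hbx.symm, hxy, hby⟩)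
  have a5 : u₂ v = v := hX'v ▸ hX'p u₂ hu₂ (Or.inr (Or.inr (Or.inr ⟨a1, a3, a4⟩)))
  exact (third_eq hG h8 ho hu₂ hyv hby.symm hbv.symm a4 a5 a3
    (hY.2.1 u₂ hu₂ (Or.inr (Or.inr (Or.inr ⟨a1, a4, a5⟩)))) hY.1.2.2.1 hY.1.2.2.2).symm

theorem transp_central (hG : Hyp G) (h8 : 8 ≤ Fintype.card α) (ho : Fintype.card α % 2 = 1)
    {u : Equiv.Perm α} (hu : IsInv G u) (hQ : Four a b c d) (ua : u a = b) (uc : u c = c)
    (ud : u d = d) {h : Equiv.Perm α} (hh : h ∈ stQ G a b c d) :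
    h * u = u * h ∧ ∀ y ∈ fx u, h y = y := by
  obtain ⟨x, ⟨-, -, hxc, hxd⟩, hxp, -, hxH⟩ := exists_fifth hG h8 ho hQ
  have hfu : fx u = {c, d, x} := (Finset.eq_of_subset_of_card_le
    (by simp [Finset.insert_subset_iff, mem_fx, uc, ud,
      hxp u hu (Or.inr (Or.inr (Or.inr ⟨ua, uc, ud⟩)))])
    (by rw [card_fx hG h8 hu, ho,
      Finset.card_eq_three.2 ⟨c, d, x, hQ.2.2.2.2.2, hxc.symm, hxd.symm, rfl⟩])).symm
  have hfix : ∀ y ∈ fx u, h y = y := by
    intro y hy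
    rw [hfu] at hy
    simp only [Finset.mem_insert, Finset.mem_singleton] at hy
    rcases hy with rfl | rfl | rfl
    exacts [hh.2.2.2.1, hh.2.2.2.2, hxH h hh]
  refine ⟨?_, hfix⟩
  have hinv : IsInv G (h * u * h⁻¹) := by
    refine ⟨G.mul_mem (G.mul_mem hh.1 hu.1) (G.inv_mem hh.1), ?_, fun e => hu.2.2 ?_⟩
    · calc h * u * h⁻¹ * (h * u * h⁻¹) = h * (u * u) * h⁻¹ := by group
        _ = 1 := by rw [hu.2.1, mul_one, mul_inv_cancel]
    · calc u = h⁻¹ * (h * u * h⁻¹) * h := by group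
        _ = 1 := by rw [e, mul_one, inv_mul_cancel]
  have := fx_unique hG h8 ho hinv hu (by
    rw [fx_conj]
    exact (Finset.image_congr (fun y hy => hfix y hy)).trans Finset.image_id)
  exact mul_inv_eq_iff_eq_mul.1 this

theorem central (hG : Hyp G) (h8 : 8 ≤ Fintype.card α) (ho : Fintype.card α % 2 = 1)
    (C : Cfg G t s w a b c d) {h : Equiv.Perm α} (hh : h ∈ stQ G a b c d) :
    h * t = t * h ∧ ∀ y ∈ fx t, h y = y := by
  obtain ⟨q1, q2, q3, q4, q5, q6⟩ := C.four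
  have h1 := (transp_central hG h8 ho C.hs C.four C.sa C.sc C.sd hh).1
  have h2 := (transp_central hG h8 ho C.hst' (show Four c d a b from
      ⟨q6, q2.symm, q4.symm, q3.symm, q5.symm, q1⟩)
    (by rw [Equiv.Perm.mul_apply, C.tc, C.sd]) (by rw [Equiv.Perm.mul_apply, C.ta, C.sb])
    (by rw [Equiv.Perm.mul_apply, C.tb, C.sa])
    (show h ∈ stQ G c d a b from ⟨hh.1, hh.2.2.2.1, hh.2.2.2.2, hh.2.1, hh.2.2.1⟩)).1
  have h3 : h * t = t * h := by
    calc h * t = (h * s) * (s * t) := by rw [mul_assoc, ← mul_assoc s s t, C.hs.2.1, one_mul]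
      _ = s * (h * (s * t)) := by rw [h1, mul_assoc]
      _ = s * (s * t) * h := by rw [h2, ← mul_assoc]
      _ = t * h := by rw [← mul_assoc s s t, C.hs.2.1, one_mul]
  exact ⟨h3, cen_t_fix hG h8 ho C hh h3⟩

theorem card_stQ (hG : Hyp G) {a' b' c' d' : α} (hQ : Four a b c d) (hQ' : Four a' b' c' d') :
    Nat.card (stQ G a b c d) = Nat.card (stQ G a' b' c' d') := by
  obtain ⟨k, hk, k1, k2, k3, k4⟩ := exists_map hG hQ hQ'
  have e1 : k⁻¹ a' = a := (Equiv.symm_apply_eq k).2 k1.symm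
  have e2 : k⁻¹ b' = b := (Equiv.symm_apply_eq k).2 k2.symm
  have e3 : k⁻¹ c' = c := (Equiv.symm_apply_eq k).2 k3.symm
  have e4 : k⁻¹ d' = d := (Equiv.symm_apply_eq k).2 k4.symm
  refine Nat.card_congr
    { toFun := fun g => ⟨k * g.1 * k⁻¹, G.mul_mem (G.mul_mem hk g.2.1) (G.inv_mem hk), ?_, ?_, ?_, ?_⟩
      invFun := fun g => ⟨k⁻¹ * g.1 * k, G.mul_mem (G.mul_mem (G.inv_mem hk) g.2.1) hk, ?_, ?_, ?_, ?_⟩
      left_inv := fun g => Subtype.ext (by group)
      right_inv := fun g => Subtype.ext (by group) }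
  · rw [Equiv.Perm.mul_apply, Equiv.Perm.mul_apply, e1, g.2.2.1, k1]
  · rw [Equiv.Perm.mul_apply, Equiv.Perm.mul_apply, e2, g.2.2.2.1, k2]
  · rw [Equiv.Perm.mul_apply, Equiv.Perm.mul_apply, e3, g.2.2.2.2.1, k3]
  · rw [Equiv.Perm.mul_apply, Equiv.Perm.mul_apply, e4, g.2.2.2.2.2, k4]
  · rw [Equiv.Perm.mul_apply, Equiv.Perm.mul_apply, k1, g.2.2.1, e1]
  · rw [Equiv.Perm.mul_apply, Equiv.Perm.mul_apply, k2, g.2.2.2.1, e2]
  · rw [Equiv.Perm.mul_apply, Equiv.Perm.mul_apply, k3, g.2.2.2.2.1, e3]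
  · rw [Equiv.Perm.mul_apply, Equiv.Perm.mul_apply, k4, g.2.2.2.2.2, e4]

theorem card_eq_eleven (hG : Hyp G) (h8 : 8 ≤ Fintype.card α) (ho : Fintype.card α % 2 = 1)
    (C : Cfg G t s w a b c d) : Fintype.card α = 11 := by
  classical
  obtain ⟨q1, q2, q3, q4, q5, q6⟩ := C.four
  obtain ⟨x, hts, -, -, -, -, -⟩ := exists_x hG h8 ho C
  have hxm : x ∈ fx t := (Finset.mem_inter.1 (hts ▸ Finset.mem_singleton_self x : x ∈ fx t ∩ fx s)).1
  obtain ⟨p, hpm, hpx⟩ : ∃ p ∈ fx t, p ≠ x :=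
    Finset.exists_mem_ne (by rw [card_fx hG h8 C.ht]; omega) x
  have hQ' : Four a b x p := by
    refine ⟨q1, ?_, ?_, ?_, ?_, hpx.symm⟩ <;> intro e
    · exact C.ma (e ▸ mem_fx.1 hxm)
    · exact C.ma (e ▸ mem_fx.1 hpm)
    · exact q1 (C.tb.symm.trans (e ▸ mem_fx.1 hxm))
    · exact q1 (C.tb.symm.trans (e ▸ mem_fx.1 hpm))
  set h := Nat.card (stQ G a b c d) with hh
  -- first count
  have hS2 : Nat.card {g : cenG G t // g.1 a = a ∧ g.1 c = c} = h := by
    refine Nat.card_congr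
      { toFun := fun g => ⟨g.1.1, (mem_cenG.1 g.1.2).1, g.2.1, ?_, g.2.2, ?_⟩
        invFun := fun g => ⟨⟨g.1, mem_cenG.2 ⟨g.2.1, (central hG h8 ho C g.2).1⟩⟩, g.2.2.1,
          g.2.2.2.2.1⟩
        left_inv := fun g => rfl
        right_inv := fun g => rfl }
    · rw [← C.ta, apply_comm (mem_cenG.1 g.1.2).2, g.2.1]
    · rw [← C.tc, apply_comm (mem_cenG.1 g.1.2).2, g.2.2]
  have count1 := card_centralizer_eq hG C.ht C.ma C.mc q2.symm
    (by rw [C.ta]; exact q4.symm)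
  rw [hS2] at count1
  -- second count
  set Z : Finset (α × α × α) :=
    (fx t ×ˢ fx t ×ˢ moved t).filter (fun z => z.1 ≠ z.2.1) with hZ
  have horb : MulAction.orbit (cenG G t) (x, p, a) = ↑Z := by
    ext ⟨y, z, v⟩
    simp only [hZ, Finset.coe_filter, Finset.mem_product, Set.mem_ofPred_eq]
    constructor
    · rintro ⟨g, hg⟩
      have hy : g.1 x = y := congrArg (fun i => i.1) hg
      have hz : g.1 p = z := congrArg (fun i => i.2.1) hg
      have hv : g.1 a = v := congrArg (fun i => i.2.2) hg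
      have hc := (mem_cenG.1 g.2).2
      refine ⟨⟨hy ▸ fx_stable hc hxm, hz ▸ fx_stable hc hpm, mem_moved.2 ?_⟩, ?_⟩
      · rw [← hv, ← apply_comm hc]; exact fun e => C.ma (g.1.injective e)
      · rw [← hy, ← hz]; exact fun e => hpx (g.1.injective e).symm
    · rintro ⟨⟨hy, hz, hv⟩, hyz⟩
      rw [mem_fx] at hy hz
      rw [mem_moved] at hv
      have h4 : Four v (t v) y z := by
        refine ⟨Ne.symm hv, ?_, ?_, ?_, ?_, hyz⟩ <;> intro e
        · exact hv (e ▸ hy)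
        · exact hv (e ▸ hz)
        · exact hv (t.injective (by rw [e, hy]))
        · exact hv (t.injective (by rw [e, hz]))
      obtain ⟨k, hk, k1, k2, k3, k4⟩ := exists_map hG hQ' h4
      have hu : IsInv G (k * t * k⁻¹) := by
        refine ⟨G.mul_mem (G.mul_mem hk C.ht.1) (G.inv_mem hk), ?_, fun h => C.ht.2.2 ?_⟩
        · calc k * t * k⁻¹ * (k * t * k⁻¹) = k * (t * t) * k⁻¹ := by group
            _ = 1 := by rw [C.ht.2.1, mul_one, mul_inv_cancel]
        · calc t = k⁻¹ * (k * t * k⁻¹) * k := by group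
            _ = 1 := by rw [h, mul_one, inv_mul_cancel]
      have e1 : k.symm v = a := (Equiv.symm_apply_eq k).2 k1.symm
      have e2 : k.symm (t v) = b := (Equiv.symm_apply_eq k).2 k2.symm
      have e3 : k.symm y = x := (Equiv.symm_apply_eq k).2 k3.symm
      have e4 : k.symm z = p := (Equiv.symm_apply_eq k).2 k4.symm
      obtain ⟨e, he, hek, hef, -⟩ := exists_conj hG h4 hu C.ht
        (by simp [AgreeOn, Equiv.Perm.mul_apply, Equiv.Perm.inv_def, e1, e2, e3, e4, k1, k2, k3,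
          k4, C.ta, C.tb, mem_fx.1 hxm, mem_fx.1 hpm, hy, hz, C.ht.apply_apply])
        (by simp [Maps, hy, hz, C.ht.apply_apply])
      refine ⟨⟨e * k, mem_cenG.2 ⟨G.mul_mem he hk, ?_⟩⟩, ?_⟩
      · calc e * k * t = (e * (k * t * k⁻¹) * e⁻¹) * (e * k) := by group
          _ = t * (e * k) := by rw [hek]
      · show ((e * k) x, (e * k) p, (e * k) a) = (y, z, v)
        simp only [Equiv.Perm.mul_apply, k1, k3, k4, hef y (by simp), hef z (by simp),
          hef v (by simp)]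
  have hZc : Z.card = 6 * (moved t).card := by
    have : Z = ((fx t).offDiag ×ˢ moved t).image (fun i => (i.1.1, i.1.2, i.2)) := by
      ext ⟨y, z, v⟩
      simp [hZ, Finset.mem_offDiag]
      tauto
    rw [this, Finset.card_image_of_injective _ (fun i j hij => by
        simp only [Prod.mk.injEq] at hij
        exact Prod.ext (Prod.ext hij.1 hij.2.1) hij.2.2),
      Finset.card_product, Finset.offDiag_card, card_fx hG h8 C.ht, ho]
  have hS1 : Nat.card (MulAction.stabilizer (cenG G t) (x, p, a)) = h := by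
    rw [hh, card_stQ hG C.four hQ']
    refine Nat.card_congr
      { toFun := fun g => ⟨g.1.1, (mem_cenG.1 g.1.2).1, congrArg (fun i => i.2.2) g.2, ?_,
          congrArg (fun i => i.1) g.2, congrArg (fun i => i.2.1) g.2⟩
        invFun := fun g => ⟨⟨g.1, mem_cenG.2 ⟨g.2.1,
          (transp_central hG h8 ho C.ht hQ' C.ta (mem_fx.1 hxm) (mem_fx.1 hpm) g.2).1⟩⟩,
          Prod.ext g.2.2.2.2.1 (Prod.ext g.2.2.2.2.2 g.2.2.1)⟩
        left_inv := fun g => rfl
        right_inv := fun g => rfl }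
    have hga : g.1.1 a = a := congrArg (fun i => i.2.2) g.2
    rw [← C.ta, apply_comm (mem_cenG.1 g.1.2).2, hga]
  have count2 : Nat.card (cenG G t) = 6 * (moved t).card * h := by
    have := (MulAction.stabilizer (cenG G t) (x, p, a)).index_mul_card
    rw [MulAction.index_stabilizer, horb, Set.ncard_coe_finset, hZc, hS1] at this
    exact this.symm
  have hpos : 0 < h := Nat.card_pos
  have hm : 0 < (moved t).card := Finset.card_pos.2 ⟨a, mem_moved.2 C.ma⟩
  rw [count2] at count1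
  have := Nat.eq_of_mul_eq_mul_left hm (Nat.eq_of_mul_eq_mul_right hpos
    (show (moved t).card * 6 * h = (moved t).card * ((moved t).card - 2) * h by
      rw [← count1, mul_comm 6]))
  have := card_moved t
  rw [card_fx hG h8 C.ht, ho] at this
  omega

/-- the pointwise stabiliser of four points is trivial -/
theorem stQ_eq_bot (hG : Hyp G) (h8 : 8 ≤ Fintype.card α) (ho : Fintype.card α % 2 = 1)
    (C : Cfg G t s w a b c d) : stQ G a b c d = ⊥ := by
  classical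
  have h11 := card_eq_eleven hG h8 ho C
  obtain ⟨q1, q2, q3, q4, q5, q6⟩ := C.four
  obtain ⟨x, -, htw, htwt, hwwt, -, -⟩ := exists_x hG h8 ho C
  obtain ⟨s', w', Cw⟩ := exists_cfg hG (t := w) (a := a) (b := c) (c := b) (d := d)
    ⟨q2, q1, q3, q4.symm, q6, q5⟩ C.hw C.wa C.wb
  obtain ⟨s'', w'', Cwt⟩ := exists_cfg hG (t := w * t) (a := a) (b := d) (c := b) (d := c)
    ⟨q3, q1, q2, q5.symm, q6.symm, q4⟩ C.hwt'
    (by rw [Equiv.Perm.mul_apply, C.ta, C.wb]) (by rw [Equiv.Perm.mul_apply, C.tb, C.wa])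
  set U : Finset α := {a, b, c, d} ∪ (fx t ∪ fx w ∪ fx (w * t)) with hU
  have hdisj : Disjoint ({a, b, c, d} : Finset α) (fx t ∪ fx w ∪ fx (w * t)) := by
    rw [Finset.disjoint_left]
    intro y hy
    simp only [Finset.mem_insert, Finset.mem_singleton] at hy
    simp only [Finset.mem_union, mem_fx, Equiv.Perm.mul_apply, not_or]
    rcases hy with rfl | rfl | rfl | rfl
    · simp [C.ta, C.wa, C.wb, q1.symm, q2.symm, q3.symm]
    · simp [C.tb, C.wb, C.wa, q1, q4.symm, q5.symm]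
    · simp [C.tc, C.wc, C.wd, q6.symm, q2, q4]
    · simp [C.td, C.wd, C.wc, q6, q5, q3]
  have hc : U.card = 11 := by
    rw [hU, Finset.card_union_of_disjoint hdisj,
      Finset.card_eq_four.2 ⟨a, b, c, d, q1, q2, q3, q4, q5, q6, rfl⟩]
    have e1 := Finset.card_union_add_card_inter (fx t) (fx w)
    have e2 := Finset.card_union_add_card_inter (fx t ∪ fx w) (fx (w * t))
    rw [Finset.union_inter_distrib_right, htwt, hwwt, Finset.union_idempotent,
      Finset.card_singleton] at e2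
    rw [htw, Finset.card_singleton, card_fx hG h8 C.ht, card_fx hG h8 C.hw] at e1
    rw [card_fx hG h8 C.hwt'] at e2
    omega
  have huniv : U = Finset.univ := Finset.eq_univ_of_card U (hc.trans h11.symm)
  refine (Subgroup.eq_bot_iff_forall _).2 fun g hg => Equiv.ext fun y => ?_
  have hy : y ∈ U := huniv ▸ Finset.mem_univ y
  obtain ⟨g1, g2, g3, g4, g5⟩ := hg
  simp only [hU, Finset.mem_union] at hy
  show g y = y
  rcases hy with hy | ((hy | hy) | hy)
  · exact stQ_fix ⟨g1, g2, g3, g4, g5⟩ y hy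
  · exact (central hG h8 ho C ⟨g1, g2, g3, g4, g5⟩).2 y hy
  · exact (central hG h8 ho Cw ⟨g1, g2, g4, g3, g5⟩).2 y hy
  · exact (central hG h8 ho Cwt ⟨g1, g2, g5, g3, g4⟩).2 y hy

theorem eleven (hG : Hyp G) (h8 : 8 ≤ Fintype.card α) {a b c d : α} (hQ : Four a b c d) :
    Fintype.card α = 11 ∧ stQ G a b c d = ⊥ := by
  have ho : Fintype.card α % 2 = 1 := by
    rcases Nat.mod_two_eq_zero_or_one (Fintype.card α) with h | h
    · exact (even_false hG h8 (Nat.even_iff.2 h)).elim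
    · exact h
  obtain ⟨t, ht, hta, -, htc, -⟩ := exists_double hG hQ
  obtain ⟨s, w, C⟩ := exists_cfg hG hQ ht hta htc
  exact ⟨card_eq_eleven hG h8 ho C, stQ_eq_bot hG h8 ho C⟩

end Cfsg.Agent.FourTransOdd30
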