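import Mathlib

/-!
Pairs of elements of order three in a finite group with a fixed-point-free representation in
characteristic zero: the order of their product and the anticommutator of `2 x + 1` and `2 y + 1`.
-/

set_option autoImplicit false

namespace Cfsg.Agent.FpfPairs

variable {G K V : Type*} [Group G] [Field K] [AddCommGroup V] [Module K V]

/-- A representation in which only the identity fixes a non-zero vector. -/
structure IsFPFRep (φ : G →* Module.End K V) : Prop where
  nontrivial : Nontrivial V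
  fpf : ∀ g : G, g ≠ 1 → ∀ v : V, φ g v = v → v = 0

variable {φ : G →* Module.End K V}

theorem map_mul_apply (g g' : G) (v : V) : φ (g * g') v = φ g (φ g' v) := by
  rw [map_mul]; rfl

theorem IsFPFRep.eq_of_apply_eq (h : IsFPFRep φ) {g g' : G} {v : V} (hv : v ≠ 0)
    (e : φ g v = φ g' v) : g = g' := by
  by_contra hne
  apply hv
  refine h.fpf (g'⁻¹ * g) (fun e' => hne (inv_mul_eq_one.1 e').symm) v ?_
  rw [map_mul_apply, e, ← map_mul_apply, inv_mul_cancel, map_one]
  rfl

theorem IsFPFRep.injective (h : IsFPFRep φ) : Function.Injective φ := by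
  have := h.nontrivial
  obtain ⟨v, hv⟩ := exists_ne (0 : V)
  intro g g' e
  exact h.eq_of_apply_eq hv (by rw [e])

/-- An element of order two acts as minus one. -/
theorem IsFPFRep.map_invol (h : IsFPFRep φ) {g : G} (h2 : g * g = 1) (h1 : g ≠ 1) : φ g = -1 := by
  refine LinearMap.ext fun v => ?_
  have := h.fpf g h1 (φ g v + v) (by
    rw [map_add, ← map_mul_apply, h2, map_one, add_comm]
    rfl)
  exact eq_neg_of_add_eq_zero_left this

theorem IsFPFRep.invol_unique (h : IsFPFRep φ) {g g' : G} (h2 : g * g = 1) (h1 : g ≠ 1)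
    (h2' : g' * g' = 1) (h1' : g' ≠ 1) : g = g' :=
  h.injective (by rw [h.map_invol h2 h1, h.map_invol h2' h1'])

theorem IsFPFRep.invol_central (h : IsFPFRep φ) {g : G} (h2 : g * g = 1) (h1 : g ≠ 1) (k : G) :
    k * g = g * k :=
  h.injective (by rw [map_mul, map_mul, h.map_invol h2 h1, mul_neg, neg_mul, mul_one, one_mul])

theorem IsFPFRep.sq_eq_neg_one (h : IsFPFRep φ) {t : G} (ht : orderOf t = 4) :
    φ t * φ t = -1 := by
  rw [← map_mul]
  refine h.map_invol ?_ ?_
  · have := pow_orderOf_eq_one t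
    rw [ht] at this
    rw [← this]; simp [pow_succ, mul_assoc]
  · intro e
    have := Nat.le_of_dvd (by norm_num) (orderOf_dvd_of_pow_eq_one (x := t) (n := 2) (by rw [pow_two, e]))
    omega

theorem IsFPFRep.cube (h : IsFPFRep φ) {x : G} (hx : orderOf x = 3) :
    φ x * φ x + φ x + 1 = 0 := by
  refine LinearMap.ext fun v => ?_
  have hx1 : x ≠ 1 := fun e => by simp [e] at hx
  have hx3 : x * (x * x) = 1 := by
    have := pow_orderOf_eq_one x
    rwa [hx, pow_succ', pow_two] at this
  rw [← map_mul]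
  refine h.fpf x hx1 _ ?_
  simp only [LinearMap.add_apply, Module.End.one_apply]
  rw [map_add, map_add, ← map_mul_apply, ← map_mul_apply, hx3, map_one, Module.End.one_apply]
  abel

theorem inv_eq_sq {x : G} (hx : orderOf x = 3) : x⁻¹ = x * x := by
  have := pow_orderOf_eq_one x
  rw [hx, pow_succ, pow_two] at this
  exact (eq_inv_of_mul_eq_one_left this).symm

theorem IsFPFRep.map_inv (h : IsFPFRep φ) {x : G} (hx : orderOf x = 3) : φ x⁻¹ = -φ x - 1 := by
  rw [inv_eq_sq hx, map_mul]
  have := h.cube hx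
  rw [add_assoc] at this
  rw [eq_neg_of_add_eq_zero_left this]
  abel

theorem orderOf_conj (g x : G) : orderOf (g * x * g⁻¹) = orderOf x :=
  (MulAut.conj g).orderOf_eq x

section angle

variable [CharZero K] [IsAlgClosed K] [Algebra.IsAlgebraic ℚ K] [Finite G] [FiniteDimensional K V]

open Matrix in
/-- The eigenvalues of the product of two elements of order three. -/
theorem IsFPFRep.angle_bound (h : IsFPFRep φ) {x y : G} (hx : orderOf x = 3) (hy : orderOf y = 3)
    (hxy : x * y ≠ 1) {z : ℂ} (hz : IsPrimitiveRoot z (orderOf (x * y))) : -(1 / 2) ≤ z.re := by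
  classical
  have := h.nontrivial
  have := Fintype.ofFinite G
  set t := x * y with ht
  obtain ⟨ζ, hζ⟩ := Module.End.exists_eigenvalue (φ t)
  obtain ⟨v, hv⟩ := hζ.exists_hasEigenvector
  have hpow : ∀ j : ℕ, φ (t ^ j) v = ζ ^ j • v := by
    intro j
    induction j with
    | zero => simp
    | succ j ih => rw [pow_succ, map_mul_apply, hv.apply_eq_smul, map_smul, ih, smul_smul, pow_succ']
  have hprim : IsPrimitiveRoot ζ (orderOf t) := by
    constructor
    · have h1 := hpow (orderOf t)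
      rw [pow_orderOf_eq_one, map_one, Module.End.one_apply] at h1
      exact (smul_left_injective K hv.2 (show (1 : K) • v = ζ ^ orderOf t • v by rw [one_smul]; exact h1)).symm
    · intro j hj
      refine orderOf_dvd_of_pow_eq_one (h.eq_of_apply_eq hv.2 ?_)
      rw [hpow, hj, one_smul, map_one, Module.End.one_apply]
  have hpos : 0 < orderOf t := orderOf_pos t
  have hroot : z ∈ (minpoly ℚ ζ).rootSet ℂ := by
    rw [← Polynomial.cyclotomic_eq_minpoly_rat hprim hpos, Polynomial.mem_rootSet]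
    refine ⟨Polynomial.cyclotomic_ne_zero _ _, ?_⟩
    rw [Polynomial.aeval_def, Polynomial.eval₂_eq_eval_map, Polynomial.map_cyclotomic]
    exact hz.isRoot_cyclotomic hpos
  rw [← Algebra.IsAlgebraic.range_eval_eq_rootSet_minpoly (F := ℚ) (K := K) ℂ ζ] at hroot
  obtain ⟨σ, hσ : σ ζ = z⟩ := hroot
  let b := Module.finBasis K V
  let M : G →* Matrix (Fin (Module.finrank K V)) (Fin (Module.finrank K V)) ℂ :=
    ((σ : K →+* ℂ).mapMatrix.toMonoidHom.comp
      ((LinearMap.toMatrixAlgEquiv b).toAlgHom.toMonoidHom)).comp φ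
  have hMcube : ∀ g, orderOf g = 3 → ∀ u, u + M g *ᵥ u + M (g * g) *ᵥ u = 0 := by
    intro g hg u
    have := congrArg (fun A => (σ : K →+* ℂ).mapMatrix (LinearMap.toMatrixAlgEquiv b A)) (h.cube hg)
    simp only [map_add, map_one, map_zero, ← map_mul φ] at this
    have h2 := congrArg (fun A => A *ᵥ u) this
    simp only [add_mulVec, one_mulVec, zero_mulVec] at h2
    rw [← h2]
    show u + M g *ᵥ u + M (g * g) *ᵥ u = M (g * g) *ᵥ u + M g *ᵥ u + u
    abel
  let v' : Fin (Module.finrank K V) → ℂ := fun i => σ (b.repr v i)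
  have hv'0 : v' ≠ 0 := fun e => hv.2 (b.repr.map_eq_zero_iff.1 (Finsupp.ext fun i => by
    have hi : σ (b.repr v i) = 0 := congrFun e i
    exact σ.toRingHom.injective (hi.trans (map_zero _).symm)))
  have hMv : M t *ᵥ v' = z • v' := by
    have h1 : (LinearMap.toMatrixAlgEquiv b (φ t)) *ᵥ ⇑(b.repr v) = ζ • ⇑(b.repr v) := by
      have := LinearMap.toMatrix_mulVec_repr b b (φ t) v
      rw [hv.apply_eq_smul, map_smul] at this
      exact this
    ext i
    have := congrArg (fun u => (σ : K →+* ℂ) (u i)) h1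
    simp only [RingHom.map_mulVec, Pi.smul_apply, smul_eq_mul, map_mul] at this
    rw [Pi.smul_apply, smul_eq_mul]
    rw [← hσ]
    exact this
  let Φ : (Fin (Module.finrank K V) → ℂ) →ₗ[ℂ]
      EuclideanSpace ℂ (G × Fin (Module.finrank K V)) :=
    (WithLp.linearEquiv 2 ℂ (G × Fin (Module.finrank K V) → ℂ)).symm.toLinearMap ∘ₗ
      LinearMap.pi (fun p => (LinearMap.proj p.2).comp (Matrix.toLin' (M p.1)))
  have hΦ : ∀ u p, (Φ u).ofLp p = (M p.1 *ᵥ u) p.2 := fun u p => rfl
  have hinv : ∀ g u w, inner ℂ (Φ (M g *ᵥ u)) (Φ (M g *ᵥ w)) = inner ℂ (Φ u) (Φ w) := by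
    intro g u w
    simp only [PiLp.inner_apply, hΦ, Fintype.sum_prod_type, mulVec_mulVec, ← map_mul]
    exact Equiv.sum_comp (Equiv.mulRight g)
      (fun k => ∑ i, inner ℂ ((M k *ᵥ u) i) ((M k *ᵥ w) i))
  have hne : Φ v' ≠ 0 := by
    intro e
    apply hv'0
    funext i
    have := congrArg (fun q => q.ofLp (1, i)) e
    simpa [hΦ] using this
  set w := Φ v' with hw
  set a := inner ℂ w (Φ (M x *ᵥ v')) with ha
  set N := ‖w‖ ^ 2 with hN
  have hNpos : 0 < N := by positivity
  have hww : inner ℂ w w = (N : ℂ) := by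
    rw [hN, inner_self_eq_norm_sq_to_K (𝕜 := ℂ)]; push_cast; rfl
  have hconj : ∀ g, orderOf g = 3 →
      inner ℂ w (Φ (M (g * g) *ᵥ v')) = starRingEnd ℂ (inner ℂ w (Φ (M g *ᵥ v'))) := by
    intro g hg
    rw [← hinv g, mulVec_mulVec, ← map_mul, ← inv_eq_sq hg, mul_inv_cancel, map_one, one_mulVec,
      inner_conj_symm]
  have hsum : ∀ g, orderOf g = 3 →
      inner ℂ w (Φ (M g *ᵥ v')) + starRingEnd ℂ (inner ℂ w (Φ (M g *ᵥ v'))) = -(N : ℂ) := by
    intro g hg
    have h0 : inner ℂ w (Φ (v' + M g *ᵥ v' + M (g * g) *ᵥ v')) = 0 := by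
      rw [hMcube g hg, map_zero, inner_zero_right]
    rw [map_add, map_add, inner_add_right, inner_add_right, hconj g hg, ← hw, hww] at h0
    linear_combination h0
  have hy' : inner ℂ w (Φ (M y *ᵥ v')) = z * starRingEnd ℂ a := by
    have e : M y *ᵥ v' = z • (M (x * x) *ᵥ v') := by
      rw [← mulVec_smul, ← hMv, mulVec_mulVec, ← map_mul, ← inv_eq_sq hx, ht,
        inv_mul_cancel_left]
    rw [e, map_smul, inner_smul_right, hconj x hx]
  have e1 := congrArg Complex.re (hsum x hx)
  have e2 := congrArg Complex.re (hsum y hy)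
  rw [hy'] at e2
  rw [← ha] at e1
  simp only [Complex.add_re, Complex.conj_re, Complex.neg_re, Complex.ofReal_re, Complex.mul_re,
    Complex.conj_im] at e1 e2
  have hz1 : z.re * z.re + z.im * z.im = 1 := by
    have h1 := Complex.norm_eq_one_of_pow_eq_one hz.pow_eq_one hpos.ne'
    rw [← Complex.normSq_apply, Complex.normSq_eq_norm_sq, h1, one_pow]
  have hab : a.re * a.re + a.im * a.im ≤ N * N := by
    have hnorm : ‖Φ (M x *ᵥ v')‖ = ‖w‖ := by
      rw [norm_eq_sqrt_re_inner (𝕜 := ℂ), hinv, ← norm_eq_sqrt_re_inner]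
    have h1 := norm_inner_le_norm (𝕜 := ℂ) w (Φ (M x *ᵥ v'))
    rw [hnorm, ← ha, ← sq, ← hN] at h1
    rw [← Complex.normSq_apply, Complex.normSq_eq_norm_sq, ← sq]
    exact pow_le_pow_left₀ (norm_nonneg _) h1 2
  by_contra hlt
  push_neg at hlt
  have hds : z.im * a.im = N * (z.re - 1) / 2 := by
    have : a.re = -N / 2 := by linarith
    rw [this] at e2
    linarith
  have h3 : (z.im * a.im) * (z.im * a.im) ≤ z.im * z.im * (3 / 4 * (N * N)) := by
    have hre : a.re = -N / 2 := by linarith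
    rw [hre] at hab
    calc (z.im * a.im) * (z.im * a.im) = z.im * z.im * (a.im * a.im) := by ring
      _ ≤ z.im * z.im * (3 / 4 * (N * N)) :=
        mul_le_mul_of_nonneg_left (by linarith) (mul_self_nonneg _)
  rw [hds] at h3
  have h4 : 0 < (1 - z.re) * (-2 - 4 * z.re) := mul_pos (by linarith) (by linarith)
  have h5 : 0 < N * N * ((1 - z.re) * (-2 - 4 * z.re)) := by positivity
  nlinarith [hz1]

omit [CharZero K] [IsAlgClosed K] [Algebra.IsAlgebraic ℚ K] [Finite G] [FiniteDimensional K V] in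
/-- For `m` outside `1, 3, 4, 6, 10` some angle `2 π k / m` lies strictly beyond `2 π / 3`. -/
theorem exists_coprime_between {m : ℕ} (hm : 0 < m) (h1 : m ≠ 1) (h3 : m ≠ 3) (h4 : m ≠ 4)
    (h6 : m ≠ 6) (h10 : m ≠ 10) : ∃ k, k.Coprime m ∧ m < 3 * k ∧ 2 * k ≤ m := by
  rcases Nat.even_or_odd' m with ⟨j, rfl | rfl⟩
  · by_cases hj : j = 1
    · exact ⟨1, Nat.coprime_one_left _, by omega, by omega⟩
    rcases Nat.even_or_odd' j with ⟨i, rfl | rfl⟩
    · refine ⟨2 * i - 1, ?_, by omega, by omega⟩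
      have hodd : Nat.Coprime (2 * i - 1) 4 := by
        have := Nat.Coprime.pow_right 2 (Nat.coprime_two_right.2 (show Odd (2 * i - 1) from ⟨i - 1, by omega⟩))
        simpa using this
      refine Nat.coprime_of_dvd fun p hp hp1 hp2 => ?_
      have hd : p ∣ 2 * (2 * i) - 2 * (2 * i - 1) := Nat.dvd_sub hp2 (hp1.mul_left 2)
      rw [show 2 * (2 * i) - 2 * (2 * i - 1) = 2 by omega] at hd
      exact hp.not_dvd_one (hodd ▸ Nat.dvd_gcd hp1 (hd.trans ⟨2, rfl⟩))
    · refine ⟨2 * i - 1, ?_, by omega, by omega⟩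
      have hodd : Nat.Coprime (2 * i - 1) 4 := by
        have := Nat.Coprime.pow_right 2 (Nat.coprime_two_right.2 (show Odd (2 * i - 1) from ⟨i - 1, by omega⟩))
        simpa using this
      refine Nat.coprime_of_dvd fun p hp hp1 hp2 => ?_
      have hd : p ∣ 2 * (2 * i + 1) - 2 * (2 * i - 1) := Nat.dvd_sub hp2 (hp1.mul_left 2)
      rw [show 2 * (2 * i + 1) - 2 * (2 * i - 1) = 4 by omega] at hd
      exact hp.not_dvd_one (hodd ▸ Nat.dvd_gcd hp1 hd)
  · refine ⟨j, ?_, by omega, by omega⟩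
    simp [Nat.Coprime]

/-- The order of the product of two elements of order three. -/
theorem IsFPFRep.orderOf_mul_mem (h : IsFPFRep φ) {x y : G} (hx : orderOf x = 3) (hy : orderOf y = 3) :
    orderOf (x * y) = 1 ∨ orderOf (x * y) = 3 ∨ orderOf (x * y) = 4 ∨ orderOf (x * y) = 6 ∨
      orderOf (x * y) = 10 := by
  by_contra hc
  simp only [not_or] at hc
  obtain ⟨h1, h3, h4, h6, h10⟩ := hc
  obtain ⟨k, hk, hlo, hhi⟩ := exists_coprime_between (orderOf_pos (x * y)) h1 h3 h4 h6 h10
  have hne : x * y ≠ 1 := fun e => h1 (by rw [e, orderOf_one])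
  have hb := h.angle_bound hx hy hne (Complex.isPrimitiveRoot_exp_of_coprime k _ (orderOf_pos _).ne' hk)
  set θ : ℝ := 2 * Real.pi * ((k : ℝ) / (orderOf (x * y) : ℕ)) with hθ
  have hmpos : (0 : ℝ) < (orderOf (x * y) : ℕ) := by exact_mod_cast orderOf_pos (x * y)
  have e : 2 * (Real.pi : ℂ) * Complex.I * ((k : ℂ) / ((orderOf (x * y) : ℕ) : ℂ)) = (θ : ℂ) * Complex.I := by
    rw [hθ]; push_cast; ring
  rw [e, Complex.exp_ofReal_mul_I_re] at hb
  have hlt : 2 * Real.pi / 3 < θ := by
    rw [hθ]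
    have : (1 : ℝ) / 3 < (k : ℝ) / (orderOf (x * y) : ℕ) := by
      rw [div_lt_div_iff₀ (by norm_num) hmpos]
      have : ((orderOf (x * y) : ℕ) : ℝ) < ((3 * k : ℕ) : ℝ) := Nat.cast_lt.2 hlo
      push_cast at this; linarith
    calc 2 * Real.pi / 3 = 2 * Real.pi * (1 / 3) := by ring
      _ < _ := mul_lt_mul_of_pos_left this (by positivity)
  have hle : θ ≤ Real.pi := by
    rw [hθ]
    have : (k : ℝ) / (orderOf (x * y) : ℕ) ≤ 1 / 2 := by
      rw [div_le_div_iff₀ hmpos (by norm_num)]
      have : ((2 * k : ℕ) : ℝ) ≤ ((orderOf (x * y) : ℕ) : ℝ) := Nat.cast_le.2 hhi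
      push_cast at this; linarith
    calc 2 * Real.pi * _ ≤ 2 * Real.pi * (1 / 2) := mul_le_mul_of_nonneg_left this (by positivity)
      _ = _ := by ring
  have hcos := Real.cos_lt_cos_of_nonneg_of_le_pi (by positivity) hle hlt
  have h23 : Real.cos (2 * Real.pi / 3) = -(1 / 2) := by
    rw [show 2 * Real.pi / 3 = Real.pi - Real.pi / 3 by ring, Real.cos_pi_sub, Real.cos_pi_div_three]
  linarith

end angle

section anticommutator

/-- `2 g + 1`. -/
def P (φ : G →* Module.End K V) (g : G) : Module.End K V := 2 * φ g + 1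

/-- The anticommutator of `2 x + 1` and `2 y + 1`. -/
def S (φ : G →* Module.End K V) (x y : G) : Module.End K V := P φ x * P φ y + P φ y * P φ x

theorem S_comm (x y : G) : S φ x y = S φ y x := add_comm _ _

theorem P_conj (g x : G) : P φ (g * x * g⁻¹) = φ g * P φ x * φ g⁻¹ := by
  have : φ g * φ g⁻¹ = 1 := by rw [← map_mul, mul_inv_cancel, map_one]
  simp only [P, map_mul, mul_add, add_mul, mul_one, two_mul, mul_assoc, this]

theorem P_inv_conj_cancel (g : G) : φ g⁻¹ * φ g = 1 := by rw [← map_mul, inv_mul_cancel, map_one]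

theorem S_conj (g x y : G) : S φ (g * x * g⁻¹) (g * y * g⁻¹) = φ g * S φ x y * φ g⁻¹ := by
  have h1 : ∀ r, φ g⁻¹ * (φ g * r) = r := fun r => by rw [← mul_assoc, P_inv_conj_cancel, one_mul]
  rw [S, S, P_conj, P_conj]
  simp only [mul_add, add_mul, mul_assoc, h1]

theorem IsFPFRep.P_inv (h : IsFPFRep φ) {x : G} (hx : orderOf x = 3) : P φ x⁻¹ = -P φ x := by
  rw [P, P, h.map_inv hx]; noncomm_ring

theorem IsFPFRep.P_sq (h : IsFPFRep φ) {x : G} (hx : orderOf x = 3) : P φ x * P φ x = -3 := by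
  have : P φ x * P φ x = 4 * (φ x * φ x + φ x + 1) - 3 := by unfold P; noncomm_ring; norm_num
  rw [this, h.cube hx]; norm_num

theorem IsFPFRep.S_inv_right (h : IsFPFRep φ) (x : G) {y : G} (hy : orderOf y = 3) :
    S φ x y⁻¹ = -S φ x y := by
  rw [S, S, h.P_inv hy]; noncomm_ring

theorem IsFPFRep.S_inv_left (h : IsFPFRep φ) {x : G} (hx : orderOf x = 3) (y : G) :
    S φ x⁻¹ y = -S φ x y := by
  rw [S, S, h.P_inv hx]; noncomm_ring

theorem IsFPFRep.S_eq (h : IsFPFRep φ) {x y : G} (hx : orderOf x = 3) (hy : orderOf y = 3) :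
    S φ x y = 4 * (φ (x * y) + φ (x * y)⁻¹) - 2 := by
  have e : φ (x * y) + φ (x * y)⁻¹ = φ x * φ y + φ y * φ x + φ x + φ y + 1 := by
    rw [mul_inv_rev, map_mul, map_mul, h.map_inv hx, h.map_inv hy]; noncomm_ring
  rw [e, mul_add (4 : Module.End K V) _ 1, mul_one, add_sub_assoc,
    show (4 : Module.End K V) - 2 = 2 by rw [← two_add_two_eq_four]; abel, S, P, P]
  noncomm_ring
  norm_num
  abel

variable [CharZero K]

theorem IsFPFRep.charZero (h : IsFPFRep φ) : CharZero (Module.End K V) := by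
  have := h.nontrivial
  exact charZero_of_injective_algebraMap (algebraMap K (Module.End K V)).injective

/-- `y` is in low position to `x`. -/
def Low (φ : G →* Module.End K V) (x y : G) : Prop := S φ x y = 2 ∨ S φ x y = -2

/-- `y` is in high position to `x`. -/
def High (φ : G →* Module.End K V) (x y : G) : Prop := S φ x y * S φ x y = 20

omit [CharZero K] in
theorem Low.symm {x y : G} (h : Low φ x y) : Low φ y x := by unfold Low; rw [S_comm]; exact h

omit [CharZero K] in
theorem High.symm {x y : G} (h : High φ x y) : High φ y x := by unfold High; rw [S_comm]; exact h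

omit [CharZero K] in
theorem Low.conj {x y : G} (h : Low φ x y) (g : G) : Low φ (g * x * g⁻¹) (g * y * g⁻¹) := by
  have : φ g * φ g⁻¹ = 1 := by rw [← map_mul, mul_inv_cancel, map_one]
  unfold Low
  rw [S_conj]
  rcases h with e | e
  · left; rw [e, ← one_add_one_eq_two, mul_add, mul_one, add_mul, this]
  · right; rw [e, ← one_add_one_eq_two, mul_neg, neg_mul, mul_add, mul_one, add_mul, this]

omit [CharZero K] in
theorem comm_eq_of_mul_inv {R : Type*} [Ring R] {T U : R} (hTU : T * U = 1) (hUT : U * T = 1)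
    (h : T * T * T * T - T * T * T + T * T - T + 1 = 0) : (T + U) * (T + U) - (T + U) = 1 := by
  have h1 : ∀ r, U * (T * r) = r := fun r => by rw [← mul_assoc, hUT, one_mul]
  have h0 : U * U * (T * T * T * T - T * T * T + T * T - T + 1) = 0 := by rw [h, mul_zero]
  simp only [mul_add, mul_sub, mul_assoc, h1, hUT, mul_one] at h0
  rw [← sub_eq_zero, ← h0]
  simp only [mul_add, add_mul, hTU, hUT]
  abel

omit [CharZero K] in
theorem IsFPFRep.eq_zero_of_add_one_mul (h : IsFPFRep φ) {t : G} (ht : t * t ≠ 1)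
    {M : Module.End K V} (hM : (φ t + 1) * M = 0) : M = 0 := by
  refine LinearMap.ext fun v => ?_
  have h1 : φ t (M v) + M v = 0 := LinearMap.congr_fun hM v
  refine h.fpf (t * t) ht _ ?_
  rw [map_mul_apply, eq_neg_of_add_eq_zero_left h1, map_neg, eq_neg_of_add_eq_zero_left h1, neg_neg]

variable [IsAlgClosed K] [Algebra.IsAlgebraic ℚ K] [Finite G] [FiniteDimensional K V]

/-- The possible positions of two elements of order three. -/
theorem IsFPFRep.position (h : IsFPFRep φ) {x y : G} (hx : orderOf x = 3) (hy : orderOf y = 3) :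
    (y = x⁻¹ ∧ S φ x y = 6) ∨ (y = x ∧ S φ x y = -6) ∨ Low φ x y ∨ High φ x y := by
  have hS := h.S_eq hx hy
  set t := x * y with ht
  have hTU : φ t * φ t⁻¹ = 1 := by rw [← map_mul, mul_inv_cancel, map_one]
  have hUT : φ t⁻¹ * φ t = 1 := by rw [← map_mul, inv_mul_cancel, map_one]
  rcases h.orderOf_mul_mem hx hy with hm | hm | hm | hm | hm <;> rw [← ht] at hm
  · left
    have ht1 : t = 1 := orderOf_eq_one_iff.1 hm
    refine ⟨eq_inv_of_mul_eq_one_right (ht ▸ ht1), ?_⟩
    rw [hS, ht1, inv_one, map_one]; norm_num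
  · right; left
    have hsum : φ t + φ t⁻¹ = -1 := by rw [h.map_inv hm]; abel
    refine ⟨?_, by rw [hS, hsum]; norm_num⟩
    have hsq : (φ x - φ y) * (φ x - φ y) = 0 := by
      have e : φ t + φ t⁻¹ = φ x * φ y + φ y * φ x + φ x + φ y + 1 := by
        rw [ht, mul_inv_rev, map_mul, map_mul, h.map_inv hx, h.map_inv hy]; noncomm_ring
      have : (φ x - φ y) * (φ x - φ y) = (φ x * φ x + φ x + 1) + (φ y * φ y + φ y + 1)
          - (φ x * φ y + φ y * φ x + φ x + φ y + 1) - 1 := by noncomm_ring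
      rw [this, ← e, hsum, h.cube hx, h.cube hy]; abel
    have := h.nontrivial
    obtain ⟨v, hv⟩ := exists_ne (0 : V)
    by_cases hd : (φ x - φ y) v = 0
    · exact (h.eq_of_apply_eq hv (sub_eq_zero.1 hd)).symm
    · refine (h.eq_of_apply_eq hd (sub_eq_zero.1 ?_)).symm
      exact LinearMap.congr_fun hsq v
  · right; right; left
    have h2 := h.sq_eq_neg_one hm
    have : φ t⁻¹ = -φ t := by
      calc φ t⁻¹ = -(φ t⁻¹ * (φ t * φ t)) := by rw [h2, mul_neg, mul_one, neg_neg]
        _ = -φ t := by rw [← mul_assoc, hUT, one_mul]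
    right
    rw [hS, this]; noncomm_ring
  · right; right; left
    have ht6 : t ^ 6 = 1 := hm ▸ pow_orderOf_eq_one t
    have h3 : φ t * φ t * φ t = -1 := by
      rw [← map_mul, ← map_mul]
      refine h.map_invol (by rw [← ht6]; simp [pow_succ, mul_assoc]) fun e => ?_
      have := Nat.le_of_dvd (by norm_num) (orderOf_dvd_of_pow_eq_one (x := t) (n := 3) (by
        rw [← e]; simp [pow_succ, mul_assoc]))
      omega
    have ht2 : t * t ≠ 1 := fun e => by
      have := Nat.le_of_dvd (by norm_num) (orderOf_dvd_of_pow_eq_one (x := t) (n := 2) (by rw [pow_two, e]))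
      omega
    have hq : φ t * φ t - φ t + 1 = 0 := h.eq_zero_of_add_one_mul ht2 (by
      have : (φ t + 1) * (φ t * φ t - φ t + 1) = φ t * φ t * φ t + 1 := by noncomm_ring
      rw [this, h3]; abel)
    have : φ t⁻¹ = 1 - φ t := by
      calc φ t⁻¹ = φ t⁻¹ - φ t⁻¹ * (φ t * φ t - φ t + 1) := by rw [hq, mul_zero, sub_zero]
        _ = φ t⁻¹ * φ t - φ t⁻¹ * φ t * φ t := by noncomm_ring
        _ = 1 - φ t := by rw [hUT, one_mul]
    left
    rw [hS, this]; noncomm_ring; norm_num
  · right; right; right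
    have ht10 : t ^ 10 = 1 := hm ▸ pow_orderOf_eq_one t
    have h5 : φ t * φ t * φ t * φ t * φ t = -1 := by
      rw [← map_mul, ← map_mul, ← map_mul, ← map_mul]
      refine h.map_invol (by rw [← ht10]; simp [pow_succ, mul_assoc]) fun e => ?_
      have := Nat.le_of_dvd (by norm_num) (orderOf_dvd_of_pow_eq_one (x := t) (n := 5) (by
        rw [← e]; simp [pow_succ, mul_assoc]))
      omega
    have ht2 : t * t ≠ 1 := fun e => by
      have := Nat.le_of_dvd (by norm_num) (orderOf_dvd_of_pow_eq_one (x := t) (n := 2) (by rw [pow_two, e]))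
      omega
    have hq : φ t * φ t * φ t * φ t - φ t * φ t * φ t + φ t * φ t - φ t + 1 = 0 :=
      h.eq_zero_of_add_one_mul ht2 (by
        have : (φ t + 1) * (φ t * φ t * φ t * φ t - φ t * φ t * φ t + φ t * φ t - φ t + 1)
            = φ t * φ t * φ t * φ t * φ t + 1 := by noncomm_ring
        rw [this, h5]; abel)
    have hs := comm_eq_of_mul_inv hTU hUT hq
    unfold High
    rw [hS]
    calc (4 * (φ t + φ t⁻¹) - 2) * (4 * (φ t + φ t⁻¹) - 2)
        = 16 * ((φ t + φ t⁻¹) * (φ t + φ t⁻¹) - (φ t + φ t⁻¹)) + 4 := by noncomm_ring; norm_num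
      _ = 20 := by rw [hs]; norm_num

omit [IsAlgClosed K] [Algebra.IsAlgebraic ℚ K] [Finite G] [FiniteDimensional K V] [CharZero K] in
/-- The anticommutator with a conjugate. -/
theorem IsFPFRep.S_self_conj (h : IsFPFRep φ) {x y : G} (hx : orderOf x = 3) (hy : orderOf y = 3) :
    4 * S φ y (x * y * x⁻¹) = 12 - S φ x y * S φ x y := by
  have hp := h.P_sq hx
  have hq := h.P_sq hy
  have hconj : 4 * P φ (x * y * x⁻¹) = -((P φ x - 1) * P φ y * (P φ x + 1)) := by
    rw [P_conj, h.map_inv hx]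
    simp only [P]
    noncomm_ring
  have hp' : ∀ r, P φ x * (P φ x * r) = -3 * r := fun r => by rw [← mul_assoc, hp]
  have hq' : ∀ r, P φ y * (P φ y * r) = -3 * r := fun r => by rw [← mul_assoc, hq]
  calc 4 * S φ y (x * y * x⁻¹)
      = P φ y * (4 * P φ (x * y * x⁻¹)) + (4 * P φ (x * y * x⁻¹)) * P φ y := by
        unfold S; noncomm_ring
    _ = _ := by
        rw [hconj]
        unfold S
        generalize P φ x = p at hp hq hp' hq' ⊢
        generalize P φ y = q at hp hq hp' hq' ⊢
        simp only [mul_add, add_mul, mul_sub, sub_mul, mul_assoc, one_mul, mul_one, neg_mul, mul_neg,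
          hq, hp', hq']
        noncomm_ring
        norm_num [hp, hq]
        abel

end anticommutator

end Cfsg.Agent.FpfPairs
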