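import Cfsg.Agent.Lib.FpfZassenhaus

/-!
The structure of a non-solvable group with a fixed-point-free representation.
-/

set_option autoImplicit false

namespace Cfsg.Agent.FpfNonsolvable

open FpfPairs FpfTet FpfKey FpfIcosian FpfZassenhaus FpfAut

variable {G K V : Type*} [Group G] [Field K] [CharZero K] [IsAlgClosed K] [Algebra.IsAlgebraic ℚ K]
  [Finite G] [AddCommGroup V] [Module K V] [FiniteDimensional K V] {φ : G →* Module.End K V}

omit [IsAlgClosed K] [Algebra.IsAlgebraic ℚ K] [Finite G] [FiniteDimensional K V] [CharZero K] in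
theorem isFPFRep_restrict (h : IsFPFRep φ) (D : Subgroup G) : IsFPFRep (φ.comp D.subtype) :=
  ⟨h.nontrivial, fun g hg v hv => h.fpf g (fun e => hg (Subtype.ext e)) v hv⟩

/-- A non-solvable fixed-point-free group has a normal SL(2,5), whose product with its centraliser has
index at most two; the centraliser is a central involution times a Z-group of order prime to 30. -/
theorem structure_thm (h : IsFPFRep φ) (hns : ¬ Group.IsSolvable G) :
    ∃ (D M : Subgroup G), D.Normal ∧ M.Normal ∧
      Nonempty (D ≃* Matrix.SpecialLinearGroup (Fin 2) (ZMod 5)) ∧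
      ((D ⊔ M).index = 1 ∨ (D ⊔ M).index = 2) ∧ D ⊓ M = ⊥ ∧
      (∀ d ∈ D, ∀ m ∈ M, d * m = m * d) ∧
      (∀ (p : ℕ) [Fact p.Prime] (P : Sylow p M), IsCyclic P) ∧ (Nat.card M).Coprime 30 ∧
      (∀ g : G, (∀ d ∈ D, g * d = d * g) → g ∈ D ⊔ M) ∧
      (∀ g : G, orderOf g = 3 → g ∈ D) ∧ commutator D = ⊤ ∧ Nat.card D = 120 ∧
      Nat.card ((Subgroup.centralizer (D : Set G)).subgroupOf D) = 2 := by
  classical
  have hsub : ¬ Group.IsSolvable (⊤ : Subgroup G) := fun hs =>
    hns (Group.isSolvable_of_surjective (f := (⊤ : Subgroup G).subtype) fun g => ⟨⟨g, trivial⟩, rfl⟩)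
  obtain ⟨E, -, hE, hEperf⟩ := exists_perfect_le (⊤ : Subgroup G) hsub
  haveI : Nontrivial E := (Subgroup.nontrivial_iff_ne_bot E).2 hE
  have hE' := isFPFRep_restrict h E
  obtain ⟨xe, ye, hxe, hye, hhe⟩ := exists_high_pair hE' hEperf
  set x : G := (xe : G) with hxdef
  set y : G := (ye : G) with hydef
  have hx : orderOf x = 3 := by rw [hxdef, Subgroup.orderOf_coe, hxe]
  have hy : orderOf y = 3 := by rw [hydef, Subgroup.orderOf_coe, hye]
  have hh : High φ x y := hhe
  obtain ⟨J, hJc, hJ, hmin, hN, hP⟩ := exists_all_of_high h hx hy hh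
  set D := Subgroup.closure J with hDdef
  have hJconj : ∀ g : G, ∀ s ∈ J, g * s * g⁻¹ ∈ J := fun g s hs => by
    rw [hJ] at hs ⊢
    show orderOf _ = 3
    rw [orderOf_conj]; exact hs
  have hxJ : x ∈ J := by rw [hJ]; exact hx
  have hyJ : y ∈ J := by rw [hJ]; exact hy
  haveI hDn : D.Normal := ⟨fun n hn g => by
    induction hn using Subgroup.closure_induction with
    | mem s hs => exact Subgroup.subset_closure (hJconj g s hs)
    | one => simp
    | mul a b _ _ iha ihb => simpa [mul_assoc] using mul_mem iha ihb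
    | inv a _ iha => simpa [mul_assoc] using inv_mem iha⟩
  have hDE : D ≤ E := by
    rw [hDdef, Subgroup.closure_le]
    intro s hs
    exact (hmin {g | g ∈ J ∧ g ∈ E} ⟨fun u hu => ⟨hJc.1 u hu.1, E.inv_mem hu.2⟩,
      fun u hu v hv => ⟨hJc.2 u hu.1 v hv.1, E.mul_mem (E.mul_mem hu.2 hv.2) (E.inv_mem hu.2)⟩⟩
      ⟨hxJ, xe.2⟩ ⟨hyJ, ye.2⟩ hs).2
  have hEcard := card_eq_120 hE' hEperf
  have hDeq : D = E := by
    refine le_antisymm hDE ?_
    set D' := D.subgroupOf E with hD'
    haveI : D'.Normal := hDn.subgroupOf E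
    have h3 : 3 ∣ Nat.card D' := by
      have hm : xe ∈ D' := Subgroup.subset_closure hxJ
      rw [← hxe, show orderOf xe = orderOf (⟨xe, hm⟩ : D') from Subgroup.orderOf_coe (⟨xe, hm⟩ : D')]
      exact orderOf_dvd_natCard _
    have hmul := Subgroup.card_eq_card_quotient_mul_card_subgroup D'
    rw [hEcard] at hmul
    haveI : Group.IsSolvable (E ⧸ D') := by
      by_contra hns'
      have h3' : 3 ≤ Nat.card D' := Nat.le_of_dvd Nat.card_pos h3
      have h100 : Nat.card (E ⧸ D') * 3 ≤ 120 := hmul ▸ Nat.mul_le_mul_left _ h3'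
      have := (Cfsg.Agent.S3378.nonsolvable_small _ _ rfl hns' (by omega)).2
      omega
    have htop : D' = ⊤ := by
      rw [← QuotientGroup.ker_mk' D', perfect_hom_eq_one hEperf (QuotientGroup.mk' D'), MonoidHom.ker_one]
    intro e he
    have : (⟨e, he⟩ : E) ∈ D' := by rw [htop]; trivial
    exact this
  have hSL : Nonempty (D ≃* Matrix.SpecialLinearGroup (Fin 2) (ZMod 5)) := by
    obtain ⟨e⟩ := nonempty_mulEquiv_SL25 hE' hEperf
    exact ⟨(MulEquiv.subgroupCongr hDeq).trans e⟩
  have hDcard : Nat.card D = 120 := by rw [hDeq]; exact hEcard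
  have hDns : ¬ Group.IsSolvable D := fun hs => by
    have : Nontrivial D := (Subgroup.nontrivial_iff_ne_bot D).2 (hDeq ▸ hE)
    have hp : commutator D = ⊤ := by rw [hDeq]; exact hEperf
    exact (Group.IsSolvable.commutator_lt_top_of_nontrivial D).ne hp
  set C := Subgroup.centralizer (D : Set G) with hC
  haveI hCn : C.Normal := inferInstance
  -- index of the centraliser
  have hidx : Nat.card (G ⧸ C) ≤ 120 := by
    let F : G ⧸ C → {p : G × G | p.1 ∈ J ∧ p.2 ∈ J ∧ High φ p.1 p.2} := fun q =>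
      ⟨(q.out * x * q.out⁻¹, q.out * y * q.out⁻¹), hJconj _ x hxJ, hJconj _ y hyJ, by
        have e : φ q.out * φ q.out⁻¹ = 1 := by rw [← map_mul, mul_inv_cancel, map_one]
        have e' : φ q.out⁻¹ * φ q.out = 1 := by rw [← map_mul, inv_mul_cancel, map_one]
        show S φ _ _ * S φ _ _ = 20
        rw [S_conj]
        calc φ q.out * S φ x y * φ q.out⁻¹ * (φ q.out * S φ x y * φ q.out⁻¹)
            = φ q.out * (S φ x y * S φ x y) * φ q.out⁻¹ := by
              simp only [mul_assoc]; rw [← mul_assoc (φ q.out⁻¹), e', one_mul]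
          _ = 20 := by
              rw [show S φ x y * S φ x y = 20 from hh]
              calc φ q.out * 20 * φ q.out⁻¹ = 20 * (φ q.out * φ q.out⁻¹) := by
                    rw [← mul_assoc]; congr 1
                    exact ((Nat.cast_commute 20 (φ q.out)).eq.symm)
                _ = 20 := by rw [e, mul_one]⟩
    refine (Nat.card_le_card_of_injective F ?_).trans (by rw [Nat.card_coe_set_eq]; exact hP)
    intro q r e
    simp only [F, Subtype.mk.injEq, Prod.mk.injEq] at e
    rw [← QuotientGroup.out_eq' q, ← QuotientGroup.out_eq' r, QuotientGroup.eq]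
    set c := q.out⁻¹ * r.out with hc
    have hcx : ∀ s, q.out * s * q.out⁻¹ = r.out * s * r.out⁻¹ → c * s = s * c := fun s e => by
      calc c * s = q.out⁻¹ * (r.out * s * r.out⁻¹) * r.out := by rw [hc]; group
        _ = q.out⁻¹ * (q.out * s * q.out⁻¹) * r.out := by rw [e]
        _ = s * c := by rw [hc]; group
    have hsub : J ⊆ {s | s ∈ J ∧ c * s = s * c} := by
      refine hmin _ ⟨fun s hs => ⟨hJc.1 s hs.1, (Commute.inv_right (show Commute c s from hs.2)).eq⟩,
        fun s hs t ht => ⟨hJc.2 s hs.1 t ht.1, ?_⟩⟩ ⟨hxJ, hcx x e.1⟩ ⟨hyJ, hcx y e.2⟩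
      exact (((show Commute c s from hs.2).mul_right (show Commute c t from ht.2)).mul_right
        ((show Commute c s from hs.2).inv_right)).eq
    rw [hC, hDdef, Subgroup.centralizer_closure, Subgroup.mem_centralizer_iff]
    exact fun s hs => (hsub hs).2.symm
  -- the centre of the normal SL(2,5)
  set ZD := C.subgroupOf D with hZD
  haveI : ZD.Normal := hCn.subgroupOf D
  haveI : Group.IsSolvable ZD := Group.isSolvable_of_comm fun a b =>
    Subtype.ext (Subtype.ext (Subgroup.mem_centralizer_iff.1 (Subgroup.mem_subgroupOf.1 b.2) _ (a : D).2))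
  have hq : ¬ Group.IsSolvable (D ⧸ ZD) := fun hs => hDns (by
    haveI := hs
    exact Group.isSolvable_of_ker_le_range ZD.subtype (QuotientGroup.mk' ZD)
      (by rw [QuotientGroup.ker_mk', Subgroup.range_subtype]))
  have h2 : 2 ∣ Nat.card G := (show 2 ∣ 120 by norm_num).trans (hDcard ▸ Subgroup.card_subgroup_dvd_card D)
  have := Fact.mk Nat.prime_two
  have := Fact.mk Nat.prime_three
  have h2D : 2 ∣ Nat.card D := by rw [hDcard]; norm_num
  obtain ⟨zd, hzd⟩ := exists_prime_orderOf_dvd_card' 2 h2D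
  set z : G := (zd : G) with hzdef
  have hz : orderOf z = 2 := by rw [hzdef, Subgroup.orderOf_coe, hzd]
  have hzz : z * z = 1 := by rw [← pow_two, ← hz, pow_orderOf_eq_one]
  have hz1 : z ≠ 1 := fun e => by simp [e] at hz
  have hzC : z ∈ C := Subgroup.mem_centralizer_iff.2 fun d _ => h.invol_central hzz hz1 d
  have hk2 : 2 ∣ Nat.card ZD := by
    have hm : zd ∈ ZD := hzC
    rw [← hzd, show orderOf zd = orderOf (⟨zd, hm⟩ : ZD) from Subgroup.orderOf_coe (⟨zd, hm⟩ : ZD)]
    exact orderOf_dvd_natCard _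
  have hmulD := Subgroup.card_eq_card_quotient_mul_card_subgroup ZD
  rw [hDcard] at hmulD
  have h60 : Nat.card (D ⧸ ZD) = 60 := by
    have h2' : 2 ≤ Nat.card ZD := Nat.le_of_dvd Nat.card_pos hk2
    have : Nat.card (D ⧸ ZD) * 2 ≤ 120 := hmulD ▸ Nat.mul_le_mul_left _ h2'
    exact (Cfsg.Agent.S3378.nonsolvable_small _ _ rfl hq (by omega)).2
  have hZD2 : Nat.card ZD = 2 := by rw [h60] at hmulD; omega
  have hcenter : ∀ g, g ∈ D → g ∈ C → g = 1 ∨ g = z := by
    intro g hg hgC
    by_contra hne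
    push Not at hne
    have hm : (⟨g, hg⟩ : D) ∈ ZD := hgC
    have ho : orderOf g ∣ 2 := by
      rw [← hZD2, show orderOf g = orderOf (⟨⟨g, hg⟩, hm⟩ : ZD) by
        rw [← Subgroup.orderOf_coe (⟨⟨g, hg⟩, hm⟩ : ZD), ← Subgroup.orderOf_coe (⟨g, hg⟩ : D)]]
      exact orderOf_dvd_natCard _
    have hgg : g * g = 1 := by rw [← pow_two]; exact orderOf_dvd_iff_pow_eq_one.1 ho
    exact hne.2 (h.invol_unique hgg hne.1 hzz hz1)
  -- no elements of order 3, 4, 5 in the centraliser
  have hC3 : ∀ g ∈ C, orderOf g ≠ 3 := by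
    intro g hg ho
    have hgD : g ∈ D := Subgroup.subset_closure (by rw [hJ]; exact ho)
    rcases hcenter g hgD hg with e | e <;> rw [e] at ho
    · simp at ho
    · omega
  have hC5 : ∀ g ∈ C, orderOf g ≠ 5 := by
    intro g hg ho
    have := Fact.mk (show Nat.Prime 5 by norm_num)
    obtain ⟨d, hd⟩ := exists_prime_orderOf_dvd_card' (G := D) 5 (by rw [hDcard]; norm_num)
    have hdo : orderOf (d : G) = 5 := by rw [Subgroup.orderOf_coe, hd]
    have hgd : g ∈ D :=
      (Subgroup.zpowers_le.2 d.2) (mem_zpowers_of_commute h (by norm_num) hdo ho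
        (Subgroup.mem_centralizer_iff.1 hg d d.2))
    rcases hcenter g hgd hg with e | e <;> rw [e] at ho
    · simp at ho
    · omega
  have hC4 : ∀ g ∈ C, orderOf g ≠ 4 := by
    intro g hg ho
    obtain ⟨v, M, -, -⟩ := exists_model_of_high h hx hy hh
    set a := y * (x * y * x⁻¹) with ha
    have haD : a ∈ D := D.mul_mem (Subgroup.subset_closure hyJ)
      (Subgroup.subset_closure (hJconj x y hyJ))
    have hga : φ g * φ a = φ a * φ g := by
      rw [← map_mul, ← map_mul, Subgroup.mem_centralizer_iff.1 hg a haD]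
    have hfac : (φ g - φ a) * (φ g + φ a) = 0 := by
      rw [sub_mul, mul_add, mul_add, h.sq_eq_neg_one ho, M.T.sq, hga]; abel
    have := h.nontrivial
    obtain ⟨u, hu⟩ := exists_ne (0 : V)
    have hgD : g ∈ D := by
      by_cases hd : (φ g + φ a) u = 0
      · rw [LinearMap.add_apply, add_eq_zero_iff_eq_neg, ← LinearMap.neg_apply,
          ← map_inv_of_sq M.T.sq] at hd
        rw [h.eq_of_apply_eq hu hd]; exact D.inv_mem haD
      · rw [h.eq_of_apply_eq hd (sub_eq_zero.1 (LinearMap.congr_fun hfac u))]; exact haD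
    rcases hcenter g hgD hg with e | e <;> rw [e] at ho
    · simp at ho
    · omega
  -- the centraliser is a central involution times a group of odd order
  obtain ⟨P⟩ : Nonempty (Sylow 2 C) := inferInstance
  have hPexp : ∀ u : P, u ≠ 1 → ((u : C) : G) = z := by
    intro u hu
    set g : G := ((u : C) : G) with hg
    have hgo : orderOf g = orderOf u := by rw [hg, Subgroup.orderOf_coe, Subgroup.orderOf_coe]
    obtain ⟨k, hk⟩ := (IsPGroup.iff_orderOf.1 P.2) u
    rcases k with _ | _ | k
    · rw [pow_zero, orderOf_eq_one_iff] at hk; exact absurd hk hu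
    · have hgg : g * g = 1 := by rw [← pow_two, ← pow_one 2, ← hk, ← hgo, pow_orderOf_eq_one]
      exact h.invol_unique hgg (fun e => by rw [e, orderOf_one] at hgo; omega) hzz hz1
    · exfalso
      refine hC4 (g ^ 2 ^ k) (Subgroup.pow_mem _ (u : C).2 _) ?_
      rw [orderOf_pow' _ (by positivity), hgo, hk, show 2 ^ (k + 2) = 4 * 2 ^ k by ring,
        Nat.gcd_eq_right ⟨4, by ring⟩, Nat.mul_div_cancel _ (by positivity)]
  have hPcard : Nat.card P = 2 := by
    apply le_antisymm
    · have hinj : Function.Injective (fun u : P => decide (u = 1)) := by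
        intro u v e
        by_cases hu : u = 1
        · subst hu; simpa [eq_comm] using e
        · by_cases hv : v = 1
          · subst hv; simpa [hu] using e
          · exact Subtype.ext (Subtype.ext ((hPexp u hu).trans (hPexp v hv).symm))
      have hle := Nat.card_le_card_of_injective _ hinj
      rw [Nat.card_eq_fintype_card (α := Bool), Fintype.card_bool] at hle
      exact hle
    · have h2C : 2 ∣ Nat.card C := by
        rw [← hz, show orderOf z = orderOf (⟨z, hzC⟩ : C) from Subgroup.orderOf_coe (⟨z, hzC⟩ : C)]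
        exact orderOf_dvd_natCard _
      exact Nat.le_of_dvd Nat.card_pos (P.dvd_card_of_dvd_card h2C)
  have hPcyc : IsCyclic P := isCyclic_of_prime_card hPcard
  have h2C : 2 ∣ Nat.card C := by
    rw [← hz, show orderOf z = orderOf (⟨z, hzC⟩ : C) from Subgroup.orderOf_coe (⟨z, hzC⟩ : C)]
    exact orderOf_dvd_natCard _
  have hmin2 : (Nat.card C).minFac = 2 := (Nat.minFac_eq_two_iff _).2 h2C
  have hcompl := IsCyclic.isComplement' hmin2 hPcyc
  set M₀ := (MonoidHom.transferSylow P (IsCyclic.normalizer_le_centralizer hmin2 hPcyc)).ker with hM₀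
  have hM2 : ¬ 2 ∣ Nat.card M₀ := by
    intro hd
    apply P.not_dvd_index
    rw [← hcompl.index_eq_card] at hd
    exact hd
  set M := M₀.map C.subtype with hM
  have hMcard : Nat.card M = Nat.card M₀ :=
    Nat.card_congr (Subgroup.equivMapOfInjective _ _ C.subtype_injective).toEquiv.symm
  have hMC : M ≤ C := Subgroup.map_subtype_le _
  have hMmem : ∀ c : C, c ∈ M₀ ↔ ¬ 2 ∣ orderOf c := by
    intro c
    constructor
    · exact fun hc hd => hM2 (hd.trans (Subgroup.orderOf_dvd_natCard _ hc))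
    · intro hd
      have h1 : orderOf (QuotientGroup.mk' M₀ c) ∣ 2 := by
        have := orderOf_dvd_natCard (QuotientGroup.mk' M₀ c)
        rwa [← Subgroup.index_eq_card, hcompl.symm.index_eq_card, hPcard] at this
      have h2' : orderOf (QuotientGroup.mk' M₀ c) = 1 := Nat.eq_one_of_dvd_coprimes
        (Nat.coprime_two_left.2 (Nat.not_even_iff_odd.1 (by rwa [even_iff_two_dvd])))
        h1 (orderOf_map_dvd _ _)
      exact (QuotientGroup.eq_one_iff c).1 (orderOf_eq_one_iff.1 h2')
  haveI hMn : M.Normal := ⟨fun m hm g => by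
    obtain ⟨c, hc, rfl⟩ := Subgroup.mem_map.1 hm
    refine Subgroup.mem_map.2 ⟨⟨g * c * g⁻¹, hCn.conj_mem _ c.2 g⟩, (hMmem _).2 ?_, rfl⟩
    rw [← Subgroup.orderOf_coe]
    show ¬ 2 ∣ orderOf (g * (c : G) * g⁻¹)
    rw [orderOf_conj, Subgroup.orderOf_coe]
    exact (hMmem c).1 hc⟩
  have hCle : C ≤ D ⊔ M := by
    intro c hc
    obtain ⟨p, hp⟩ := hcompl.2 ⟨c, hc⟩
    have e : ((p.1 : C) : G) * ((p.2 : C) : G) = c := congrArg Subtype.val hp
    rw [← e]
    refine Subgroup.mul_mem _ (Subgroup.mem_sup_right ⟨_, p.1.2, rfl⟩) (Subgroup.mem_sup_left ?_)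
    by_cases hu : (⟨(p.2 : C), p.2.2⟩ : P) = 1
    · rw [show (p.2 : C) = 1 from congrArg Subtype.val hu]; exact D.one_mem
    · rw [hPexp ⟨(p.2 : C), p.2.2⟩ hu]; exact zd.2
  refine ⟨D, M, hDn, hMn, hSL, ?_, ?_, ?_, ?_, ?_, ?_, ?_, by rw [hDeq]; exact hEperf, hDcard, hZD2⟩
  · have hsup : D ⊔ M = D ⊔ C :=
      le_antisymm (sup_le_sup_left hMC _) (sup_le le_sup_left hCle)
    rw [hsup]
    have e := Subgroup.relIndex_mul_index (show C ≤ D ⊔ C from le_sup_right)
    rw [Subgroup.relIndex_sup_right, Subgroup.relIndex, ← hZD, Subgroup.index_eq_card ZD, h60,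
      Subgroup.index_eq_card C] at e
    have := (D ⊔ C).index_ne_zero_of_finite
    omega
  · rw [eq_bot_iff]
    rintro g ⟨hgD, hgM⟩
    rcases hcenter g hgD (hMC hgM) with e | e
    · exact Subgroup.mem_bot.2 e
    · exfalso
      obtain ⟨c, hc, hce⟩ := Subgroup.mem_map.1 hgM
      refine (hMmem c).1 hc ?_
      rw [← Subgroup.orderOf_coe, show (c : G) = z from hce.trans e, hz]
  · exact fun d hd m hm => Subgroup.mem_centralizer_iff.1 (hMC hm) d hd
  · intro p hp P'
    have hpM : IsCyclic P' ∨ (p = 2 ∧ ∃ n : ℕ, Nonempty (P' ≃* QuaternionGroup (2 ^ n))) := by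
      rcases cyclic_or_quaternion (isFPFRep_restrict h M) (P' : Subgroup M) P'.2 with hc | hc
      · exact .inl hc
      · exact .inr hc
    rcases hpM with hc | ⟨rfl, -⟩
    · exact hc
    · have : (P' : Subgroup M) = ⊥ := by
        obtain ⟨k, hk⟩ := P'.2.exists_card_eq
        refine Subgroup.card_eq_one.1 ?_
        rcases k with _ | k
        · simpa using hk
        · exfalso
          refine hM2 (hMcard ▸ dvd_trans ?_ (Subgroup.card_subgroup_dvd_card (P' : Subgroup M)))
          rw [hk, pow_succ]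
          exact Dvd.intro_left _ rfl
      rw [this]; infer_instance
  · rw [show (30 : ℕ) = 2 * (3 * 5) by norm_num]
    refine Nat.Coprime.mul_right ?_ (Nat.Coprime.mul_right ?_ ?_)
    · rw [Nat.coprime_comm, Nat.Prime.coprime_iff_not_dvd Nat.prime_two, hMcard]; exact hM2
    · rw [Nat.coprime_comm, Nat.Prime.coprime_iff_not_dvd Nat.prime_three]
      intro hd
      obtain ⟨m, hm⟩ := exists_prime_orderOf_dvd_card' 3 hd
      exact hC3 m (hMC m.2) (by rw [Subgroup.orderOf_coe, hm])
    · rw [Nat.coprime_comm, Nat.Prime.coprime_iff_not_dvd (by norm_num)]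
      intro hd
      have := Fact.mk (show Nat.Prime 5 by norm_num)
      obtain ⟨m, hm⟩ := exists_prime_orderOf_dvd_card' 5 hd
      exact hC5 m (hMC m.2) (by rw [Subgroup.orderOf_coe, hm])
  · exact fun g hg => hCle (Subgroup.mem_centralizer_iff.2 fun d hd => (hg d hd).symm)
  · exact fun g hg => Subgroup.subset_closure (by rw [hJ]; exact hg)

end Cfsg.Agent.FpfNonsolvable
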