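import Mathlib
import Cfsg.Agent.Lib.FpfNonsolvable
import Cfsg.Agent.Lib.HallSolvable
import Cfsg.Agent.Lib.CharTwoLocal
import Cfsg.Agent.S0494
import Cfsg.Agent.S2119

/-!
The Zassenhaus quotient of a group with a fixed-point-free representation: a normal subgroup with cyclic
Sylow subgroups and quotient trivial, `V₄`, `A₄`, `S₄`, `A₅` or `S₅`.
-/

set_option autoImplicit false

namespace Cfsg.Agent.FpfQuotient

open FpfPairs FpfZassenhaus FpfAut

/-- The possible quotients. -/
def HasQuotient {G : Type*} [Group G] (N : Subgroup G) : Prop :=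
  N = ⊤ ∨
    (∃ f : G →* DihedralGroup 2, Function.Surjective f ∧ f.ker = N) ∨
    (∃ f : G →* alternatingGroup (Fin 4), Function.Surjective f ∧ f.ker = N) ∨
    (∃ f : G →* Equiv.Perm (Fin 4), Function.Surjective f ∧ f.ker = N) ∨
    (∃ f : G →* alternatingGroup (Fin 5), Function.Surjective f ∧ f.ker = N) ∨
    (∃ f : G →* Equiv.Perm (Fin 5), Function.Surjective f ∧ f.ker = N)

/-- Some commutator with `g` is an involution commuting with a different conjugate of itself. -/
def GoodElement {K : Type*} [Group K] (g : K) : Prop :=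
  ∃ h : K, (g * h * g⁻¹ * h⁻¹) ≠ 1 ∧ (g * h * g⁻¹ * h⁻¹) * (g * h * g⁻¹ * h⁻¹) = 1 ∧
    ∃ k : K, k * (g * h * g⁻¹ * h⁻¹) * k⁻¹ ≠ g * h * g⁻¹ * h⁻¹ ∧
      (k * (g * h * g⁻¹ * h⁻¹) * k⁻¹) * (g * h * g⁻¹ * h⁻¹) = (g * h * g⁻¹ * h⁻¹) * (k * (g * h * g⁻¹ * h⁻¹) * k⁻¹)

/-- Every normal closure of a non-identity element contains two commuting involutions. -/
def GoodGroup (K : Type*) [Group K] : Prop :=
  ∀ g : K, g ≠ 1 → GoodElement g ∨ ∃ h : K, g * h * g⁻¹ * h⁻¹ ≠ 1 ∧ GoodElement (g * h * g⁻¹ * h⁻¹)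

/-- No normal Z-subgroup other than the trivial one. -/
def NoNormalZ (K : Type*) [Group K] : Prop :=
  ∀ M : Subgroup K, M.Normal → IsZGroup M → M = ⊥

theorem goodGroup_A4 : GoodGroup (alternatingGroup (Fin 4)) := by
  unfold GoodGroup GoodElement; decide +kernel

theorem goodGroup_S4 : GoodGroup (Equiv.Perm (Fin 4)) := by
  unfold GoodGroup GoodElement; decide +kernel

/-- In a group with cyclic Sylow subgroups commuting involutions coincide. -/
theorem zgroup_invol_eq {M : Type*} [Group M] [Finite M] [IsZGroup M] {u v : M}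
    (hu : u * u = 1) (hu1 : u ≠ 1) (hv : v * v = 1) (hv1 : v ≠ 1) (hc : v * u = u * v) : u = v := by
  have := Fact.mk Nat.prime_two
  set W := Subgroup.closure ({u, v} : Set M) with hW
  have hexp : ∀ w ∈ W, w * w = 1 ∧ Commute w u ∧ Commute w v := by
    intro w hw
    induction hw using Subgroup.closure_induction with
    | mem w hw =>
      rcases hw with rfl | rfl
      · exact ⟨hu, Commute.refl _, hc.symm⟩
      · exact ⟨hv, hc, Commute.refl _⟩
    | one => exact ⟨mul_one 1, Commute.one_left _, Commute.one_left _⟩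
    | mul c d hc' hd' ihc ihd =>
      refine ⟨?_, ihc.2.1.mul_left ihd.2.1, ihc.2.2.mul_left ihd.2.2⟩
      have hcd : Commute c d := by
        have : ∀ e ∈ W, Commute c e := fun e he => by
          induction he using Subgroup.closure_induction with
          | mem e he =>
            rcases he with rfl | rfl
            exacts [ihc.2.1, ihc.2.2]
          | one => exact Commute.one_right _
          | mul _ _ _ _ i1 i2 => exact i1.mul_right i2
          | inv _ _ i1 => exact i1.inv_right
        exact this d hd'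
      rw [hcd.symm.mul_mul_mul_comm c d, ihc.1, ihd.1, one_mul]
    | inv c _ ih => exact ⟨by rw [← mul_inv_rev, ih.1, inv_one], ih.2.1.inv_left, ih.2.2.inv_left⟩
  have hW2 : IsPGroup 2 W := fun w => ⟨1, Subtype.ext (by
    rw [pow_one, Subgroup.coe_pow, pow_two]; exact (hexp w w.2).1)⟩
  obtain ⟨P, hP⟩ := hW2.exists_le_sylow
  haveI : IsCyclic P := IsZGroup.isZGroup 2 Nat.prime_two P
  have huP : u ∈ (P : Subgroup M) := hP (Subgroup.subset_closure (Or.inl rfl))
  have hvP : v ∈ (P : Subgroup M) := hP (Subgroup.subset_closure (Or.inr rfl))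
  haveI := Fintype.ofFinite (P : Subgroup M)
  classical
  have hle := IsCyclic.card_pow_eq_one_le (α := (P : Subgroup M)) (n := 2) (by norm_num)
  by_contra hne
  have h3 : ({1, ⟨u, huP⟩, ⟨v, hvP⟩} : Finset (P : Subgroup M)) ⊆
      Finset.univ.filter fun a : (P : Subgroup M) => a ^ 2 = 1 := by
    intro w hw
    simp only [Finset.mem_insert, Finset.mem_singleton] at hw
    simp only [Finset.mem_filter, Finset.mem_univ, true_and]
    rcases hw with rfl | rfl | rfl
    · exact one_pow 2
    · exact Subtype.ext (by rw [Subgroup.coe_pow, pow_two]; exact hu)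
    · exact Subtype.ext (by rw [Subgroup.coe_pow, pow_two]; exact hv)
  have hc3 : ({1, ⟨u, huP⟩, ⟨v, hvP⟩} : Finset (P : Subgroup M)).card = 3 :=
    Finset.card_eq_three.2 ⟨_, _, _, fun e => hu1 (congrArg Subtype.val e).symm,
      fun e => hv1 (congrArg Subtype.val e).symm, fun e => hne (congrArg Subtype.val e), rfl⟩
  have := Finset.card_le_card h3
  omega

theorem noNormalZ_of_good {K : Type*} [Group K] [Finite K] (hK : GoodGroup K) : NoNormalZ K := by
  intro M _ _
  rw [Subgroup.eq_bot_iff_forall]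
  intro g hg
  by_contra hne
  obtain ⟨g', hg', hgood⟩ : ∃ g' ∈ M, GoodElement g' := by
    rcases hK g hne with hgood | ⟨h, -, hgood⟩
    · exact ⟨g, hg, hgood⟩
    · refine ⟨_, ?_, hgood⟩
      rw [mul_assoc, mul_assoc, ← mul_assoc h g⁻¹]
      exact M.mul_mem hg (Subgroup.Normal.conj_mem ‹_› _ (M.inv_mem hg) h)
  clear hne hg g
  obtain ⟨g, hg⟩ : ∃ g, g = g' := ⟨g', rfl⟩
  subst hg
  rename' hg' => hg
  obtain ⟨h, hu1, hu, k, hvu, hc⟩ := hgood
  set u := g * h * g⁻¹ * h⁻¹ with hu_def
  have huM : u ∈ M := by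
    rw [hu_def, mul_assoc, mul_assoc, ← mul_assoc h g⁻¹]
    exact M.mul_mem hg (Subgroup.Normal.conj_mem ‹_› _ (M.inv_mem hg) h)
  have hvM : k * u * k⁻¹ ∈ M := Subgroup.Normal.conj_mem ‹_› _ huM k
  refine hvu (congrArg Subtype.val (zgroup_invol_eq (M := M) (u := ⟨k * u * k⁻¹, hvM⟩) (v := ⟨u, huM⟩)
    (Subtype.ext ?_) ?_ (Subtype.ext hu) (fun e => hu1 (congrArg Subtype.val e)) (Subtype.ext hc.symm)))
  · show k * u * k⁻¹ * (k * u * k⁻¹) = 1
    rw [show k * u * k⁻¹ * (k * u * k⁻¹) = k * (u * u) * k⁻¹ by group, hu, mul_one, mul_inv_cancel]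
  · intro e
    exact hu1 (conj_eq_one_iff.1 (congrArg Subtype.val e))

theorem noNormalZ_A4 : NoNormalZ (alternatingGroup (Fin 4)) := noNormalZ_of_good goodGroup_A4

theorem noNormalZ_S4 : NoNormalZ (Equiv.Perm (Fin 4)) := noNormalZ_of_good goodGroup_S4

theorem noNormalZ_A5 : NoNormalZ (alternatingGroup (Fin 5)) := by
  intro M hM hZ
  rcases hM.eq_bot_or_eq_top with h | h
  · exact h
  · exfalso
    subst h
    obtain ⟨u, v, hu, hu1, hv, hv1, hc, hne⟩ : ∃ u v : alternatingGroup (Fin 5),
        u * u = 1 ∧ u ≠ 1 ∧ v * v = 1 ∧ v ≠ 1 ∧ v * u = u * v ∧ u ≠ v :=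
      ⟨⟨Equiv.swap 0 1 * Equiv.swap 2 3, Equiv.Perm.mem_alternatingGroup.2 (by decide)⟩,
        ⟨Equiv.swap 0 2 * Equiv.swap 1 3, Equiv.Perm.mem_alternatingGroup.2 (by decide)⟩,
        by decide +kernel, by decide +kernel, by decide +kernel, by decide +kernel, by decide +kernel,
        by decide +kernel⟩
    exact hne (congrArg Subtype.val (zgroup_invol_eq (M := (⊤ : Subgroup (alternatingGroup (Fin 5))))
      (u := ⟨u, trivial⟩) (v := ⟨v, trivial⟩) (Subtype.ext hu) (fun e => hu1 (congrArg Subtype.val e))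
      (Subtype.ext hv) (fun e => hv1 (congrArg Subtype.val e)) (Subtype.ext hc)))

theorem noNormalZ_S5 : NoNormalZ (Equiv.Perm (Fin 5)) := by
  intro M hM hZ
  set A := alternatingGroup (Fin 5)
  haveI : IsZGroup (M.subgroupOf A) := IsZGroup.of_injective
    (f := ((A.subtype.comp (M.subgroupOf A).subtype).codRestrict M fun x => x.2))
    (fun x y e => Subtype.ext (Subtype.ext (congrArg Subtype.val e :)))
  have hbot := noNormalZ_A5 (M.subgroupOf A) inferInstance inferInstance
  rw [Subgroup.eq_bot_iff_forall]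
  intro g hg
  have hcen : ∀ h, g * h = h * g := by
    intro h
    have hc : g * h * g⁻¹ * h⁻¹ ∈ M := by
      rw [mul_assoc, mul_assoc, ← mul_assoc h g⁻¹]
      exact M.mul_mem hg (hM.conj_mem _ (M.inv_mem hg) h)
    have hA : g * h * g⁻¹ * h⁻¹ ∈ A := by
      rw [Equiv.Perm.mem_alternatingGroup, map_mul, map_mul, map_mul, map_inv, map_inv,
        mul_inv_cancel_comm, mul_inv_cancel]
    have h1 : (⟨_, hA⟩ : A) ∈ M.subgroupOf A := hc
    rw [hbot, Subgroup.mem_bot] at h1
    exact mul_inv_eq_iff_eq_mul.1 (mul_inv_eq_one.1 (congrArg Subtype.val h1))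
  refine Equiv.ext fun x => ?_
  by_contra hx
  change g x ≠ x at hx
  have key : ∀ a b : Fin 5, a ≠ b → ∃ c, c ≠ a ∧ c ≠ b := by decide
  obtain ⟨c, hc1, hc2⟩ := key (g x) x hx
  have := DFunLike.congr_fun (hcen (Equiv.swap x c)) x
  simp only [Equiv.Perm.mul_apply, Equiv.swap_apply_left] at this
  rw [Equiv.swap_apply_of_ne_of_ne hx hc1.symm] at this
  exact hc2 (g.injective this)

/-- With a quotient other than `V₄` every normal Z-subgroup lies in the kernel. -/
theorem le_ker {G K : Type*} [Group G] [Finite G] [Group K] [Finite K] (hK : NoNormalZ K)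
    (f : G →* K) (hf : Function.Surjective f) (N' : Subgroup G) [N'.Normal] [IsZGroup N'] :
    N' ≤ f.ker := by
  haveI : IsZGroup (N'.map f) := IsZGroup.of_surjective (f := f.subgroupMap N') (f.subgroupMap_surjective N')
  haveI : (N'.map f).Normal := Subgroup.Normal.map inferInstance f hf
  have := hK (N'.map f) inferInstance inferInstance
  rwa [Subgroup.map_eq_bot_iff] at this

theorem not_zgroup_V4 : ¬ IsZGroup (DihedralGroup 2) := fun _ => by
  have h := zgroup_invol_eq (u := DihedralGroup.r (1 : ZMod 2)) (v := DihedralGroup.sr (0 : ZMod 2))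
    (by decide) (by decide) (by decide) (by decide) (by decide)
  exact absurd h (by decide)

theorem image_card_le_four {G : Type*} [Group G] [Finite G] {V : Type*} [Group V] [Finite V]
    (hexp : ∀ v : V, v * v = 1) (hq : ∀ P : Sylow 2 G, IsCyclic P ∨ ∃ n : ℕ, Nonempty (P ≃* QuaternionGroup (2 ^ n)))
    (f : G →* V) : Nat.card f.range ≤ 4 := by
  classical
  have := Fact.mk Nat.prime_two
  obtain ⟨P⟩ : Nonempty (Sylow 2 G) := inferInstance
  have hV : IsPGroup 2 V := fun v => ⟨1, by rw [pow_one, pow_two]; exact hexp v⟩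
  have hPtop : ((P.mapSurjective (f := f.rangeRestrict) f.rangeRestrict_surjective : Sylow 2 f.range) :
      Subgroup f.range) = ⊤ := by
    have h2 : IsPGroup 2 f.range := hV.to_subgroup _
    have := (P.mapSurjective (f := f.rangeRestrict) f.rangeRestrict_surjective).is_maximal'
      (Q := ⊤) (h2.to_subgroup ⊤) le_top
    exact this.symm
  have hsurj : ∀ v ∈ f.range, ∃ q : P, f (q : G) = v := by
    intro v hv
    have : (⟨v, hv⟩ : f.range) ∈ ((P.mapSurjective (f := f.rangeRestrict) f.rangeRestrict_surjective :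
        Sylow 2 f.range) : Subgroup f.range) := by rw [hPtop]; trivial
    rw [Sylow.coe_mapSurjective] at this
    obtain ⟨g, hg, e⟩ := this
    exact ⟨⟨g, hg⟩, congrArg Subtype.val e⟩
  obtain ⟨u, v, huv⟩ : ∃ u v : V, ∀ q : P, f (q : G) ∈ ({1, u, v, v * u} : Finset V) := by
    have hpow : ∀ (u : V) (i : ℕ), u ^ i = 1 ∨ u ^ i = u := by
      intro u i
      induction i with
      | zero => exact .inl (pow_zero u)
      | succ i ih =>
        rcases ih with e | e
        · exact .inr (by rw [pow_succ, e, one_mul])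
        · exact .inl (by rw [pow_succ, e, hexp])
    rcases hq P with hc | ⟨n, ⟨e⟩⟩
    · obtain ⟨c, hc⟩ := hc.exists_generator
      refine ⟨f (c : G), 1, fun q => ?_⟩
      obtain ⟨i, hi⟩ := (mem_powers_iff_mem_zpowers).2 (hc q)
      have hi' : c ^ i = q := hi
      rw [← hi', Subgroup.coe_pow, map_pow]
      rcases hpow (f (c : G)) i with e | e <;> simp [e]
    · set F : QuaternionGroup (2 ^ n) →* V := f.comp ((P : Subgroup G).subtype.comp e.symm.toMonoidHom)
      haveI : NeZero (2 ^ n) := ⟨by positivity⟩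
      haveI : NeZero (2 * 2 ^ n) := ⟨by positivity⟩
      refine ⟨F (QuaternionGroup.a 1), F (QuaternionGroup.xa 0), fun q => ?_⟩
      have hF : f (q : G) = F (e q) := by
        show f (q : G) = f ((e.symm (e q) : P) : G)
        rw [MulEquiv.symm_apply_apply]
      rw [hF]
      rcases he : e q with i | i
      · rw [← ZMod.natCast_zmod_val i, ← QuaternionGroup.a_one_pow, map_pow]
        rcases hpow (F (QuaternionGroup.a 1)) i.val with e' | e' <;> simp [e']
      · rw [show QuaternionGroup.xa i = QuaternionGroup.xa 0 * (QuaternionGroup.a 1) ^ i.val by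
          rw [QuaternionGroup.a_one_pow, ZMod.natCast_zmod_val, QuaternionGroup.xa_mul_a, zero_add],
          map_mul, map_pow]
        rcases hpow (F (QuaternionGroup.a 1)) i.val with e' | e' <;> simp [e']
  have hsub : (f.range : Set V) ⊆ ({1, u, v, v * u} : Finset V) := by
    intro w hw
    obtain ⟨q, rfl⟩ := hsurj w hw
    exact huv q
  calc Nat.card f.range = (f.range : Set V).ncard := by rw [← Nat.card_coe_set_eq]; rfl
    _ ≤ (({1, u, v, v * u} : Finset V) : Set V).ncard := Set.ncard_le_ncard hsub (Finset.finite_toSet _)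
    _ ≤ 4 := by rw [Set.ncard_coe_finset]; exact Finset.card_le_four

/-- The subgroup is unique. -/
theorem unique {G : Type*} [Group G] [Finite G]
    (hq : ∀ P : Sylow 2 G, IsCyclic P ∨ ∃ n : ℕ, Nonempty (P ≃* QuaternionGroup (2 ^ n)))
    {N N' : Subgroup G} [N.Normal] [N'.Normal] [IsZGroup N] [IsZGroup N']
    (h : HasQuotient N) (h' : HasQuotient N') : N' = N := by
  -- with the whole group every other quotient is a Z-group
  have top : ∀ {A B : Subgroup G} [IsZGroup A], A = ⊤ → HasQuotient B → B = ⊤ := by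
    intro A B _ hA hB
    subst hA
    haveI : IsZGroup G := IsZGroup.of_surjective (f := (⊤ : Subgroup G).subtype)
      (fun g => ⟨⟨g, trivial⟩, rfl⟩)
    have key : ∀ {K : Type} [Group K] [Finite K] [Nontrivial K], NoNormalZ K → ∀ f : G →* K,
        Function.Surjective f → False := by
      intro K _ _ _ hK f hf
      have := le_ker hK f hf (⊤ : Subgroup G)
      obtain ⟨k, hk⟩ := exists_ne (1 : K)
      obtain ⟨g, rfl⟩ := hf k
      exact hk (MonoidHom.mem_ker.1 (this trivial))
    rcases hB with rfl | ⟨f, hf, -⟩ | ⟨f, hf, -⟩ | ⟨f, hf, -⟩ | ⟨f, hf, -⟩ | ⟨f, hf, -⟩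
    · rfl
    · exact absurd (IsZGroup.of_surjective hf) not_zgroup_V4
    · exact (key noNormalZ_A4 f hf).elim
    · exact (key noNormalZ_S4 f hf).elim
    · exact (key noNormalZ_A5 f hf).elim
    · exact (key noNormalZ_S5 f hf).elim
  have split : ∀ {A : Subgroup G}, HasQuotient A → A ≠ ⊤ →
      (∃ f : G →* DihedralGroup 2, Function.Surjective f ∧ f.ker = A) ∨
        ((∀ B : Subgroup G, B.Normal → IsZGroup B → B ≤ A) ∧ 5 ≤ A.index) := by
    intro A hA hne
    have idx : ∀ {K : Type} [Group K] [Finite K] (f : G →* K), Function.Surjective f → f.ker = A →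
        A.index = Nat.card K := by
      intro K _ _ f hf hk
      rw [← hk, Subgroup.index_ker, MonoidHom.range_eq_top.2 hf, Subgroup.card_top]
    rcases hA with rfl | hV | ⟨f, hf, hk⟩ | ⟨f, hf, hk⟩ | ⟨f, hf, hk⟩ | ⟨f, hf, hk⟩
    · exact absurd rfl hne
    · exact .inl hV
    · refine .inr ⟨fun B _ _ => hk ▸ le_ker noNormalZ_A4 f hf B, ?_⟩
      rw [idx f hf hk, Nat.card_eq_fintype_card]; decide +kernel
    · refine .inr ⟨fun B _ _ => hk ▸ le_ker noNormalZ_S4 f hf B, ?_⟩
      rw [idx f hf hk, Nat.card_eq_fintype_card]; decide +kernel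
    · refine .inr ⟨fun B _ _ => hk ▸ le_ker noNormalZ_A5 f hf B, ?_⟩
      rw [idx f hf hk, Nat.card_eq_fintype_card]; decide +kernel
    · refine .inr ⟨fun B _ _ => hk ▸ le_ker noNormalZ_S5 f hf B, ?_⟩
      rw [idx f hf hk, Nat.card_eq_fintype_card]; decide +kernel
  by_cases hN : N = ⊤
  · rw [top hN h', hN]
  by_cases hN' : N' = ⊤
  · exact absurd (top hN' h) hN
  have four : ∀ {A : Subgroup G}, (∃ f : G →* DihedralGroup 2, Function.Surjective f ∧ f.ker = A) →
      A.index = 4 := by
    rintro A ⟨f, hf, rfl⟩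
    rw [Subgroup.index_ker, MonoidHom.range_eq_top.2 hf, Subgroup.card_top, Nat.card_eq_fintype_card]
    rfl
  rcases split h hN with hV | ⟨hle, h5⟩ <;> rcases split h' hN' with hV' | ⟨hle', h5'⟩
  · obtain ⟨f, hf, hk⟩ := hV
    obtain ⟨f', hf', hk'⟩ := hV'
    have hexp : ∀ v : DihedralGroup 2 × DihedralGroup 2, v * v = 1 := by decide
    have hle4 := image_card_le_four hexp hq (f.prod f')
    rw [← Subgroup.index_ker, MonoidHom.ker_prod, hk, hk'] at hle4
    have h4 : N.index = 4 := four ⟨f, hf, hk⟩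
    have h4' : N'.index = 4 := four ⟨f', hf', hk'⟩
    have e1 : N ⊓ N' = N := by
      refine Subgroup.eq_of_le_of_card_ge inf_le_left ?_
      have a := (N ⊓ N').card_mul_index
      have b := N.card_mul_index
      rw [h4] at b
      nlinarith [Nat.card_pos (α := (N ⊓ N' : Subgroup G))]
    refine (Subgroup.eq_of_le_of_card_ge (inf_eq_left.1 e1) ?_).symm
    have a := N'.card_mul_index
    have b := N.card_mul_index
    rw [h4] at b; rw [h4'] at a
    omega
  · have := Subgroup.index_dvd_of_le (hle' N ‹_› ‹_›)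
    rw [four hV] at this
    have := Nat.le_of_dvd (by norm_num) this
    omega
  · have := Subgroup.index_dvd_of_le (hle N' ‹_› ‹_›)
    rw [four hV'] at this
    have := Nat.le_of_dvd (by norm_num) this
    omega
  · exact le_antisymm (hle N' ‹_› ‹_›) (hle' N ‹_› ‹_›)

variable {G K V : Type*} [Group G] [Field K] [CharZero K] [IsAlgClosed K] [Algebra.IsAlgebraic ℚ K]
  [Finite G] [AddCommGroup V] [Module K V] [FiniteDimensional K V] {φ : G →* Module.End K V}

omit [IsAlgClosed K] [Algebra.IsAlgebraic ℚ K] [CharZero K] in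
/-- A subgroup whose Sylow 2-subgroups are cyclic is a Z-group. -/
theorem isZGroup_of_two [IsAlgClosed K] (h : IsFPFRep φ) (N : Subgroup G)
    (h2 : ∀ P : Subgroup N, IsPGroup 2 P → IsCyclic P) : IsZGroup N := by
  refine ⟨fun p hp P => ?_⟩
  have := Fact.mk hp
  rcases cyclic_or_quaternion (FpfNonsolvable.isFPFRep_restrict h N) (P : Subgroup N) P.2 with hc | ⟨rfl, -⟩
  · exact hc
  · exact h2 _ P.2

omit [Algebra.IsAlgebraic ℚ K] [CharZero K] [IsAlgClosed K] [FiniteDimensional K V] in
/-- A 2-subgroup of the quotient by a normal subgroup of odd order lifts. -/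
theorem exists_lift (O : Subgroup G) [O.Normal] (hO : Odd (Nat.card O)) (U : Subgroup (G ⧸ O))
    (hU : IsPGroup 2 U) : ∃ P : Subgroup G, IsPGroup 2 P ∧ Nonempty (P ≃* U) := by
  have := Fact.mk Nat.prime_two
  set L := U.comap (QuotientGroup.mk' O) with hL
  obtain ⟨S⟩ : Nonempty (Sylow 2 L) := inferInstance
  set P := (S : Subgroup L).map L.subtype with hP
  have hP2 : IsPGroup 2 P := S.2.map _
  have hPL : P ≤ L := Subgroup.map_subtype_le _
  refine ⟨P, hP2, ?_⟩
  let F : P →* U := ((QuotientGroup.mk' O).comp P.subtype).codRestrict U (fun p => hPL p.2)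
  have hinj : Function.Injective F := by
    rw [injective_iff_map_eq_one]
    intro p hp
    have hpO : (p : G) ∈ O := (QuotientGroup.eq_one_iff _).1 (congrArg Subtype.val hp)
    apply Subtype.ext
    show (p : G) = 1
    obtain ⟨k, hk⟩ := IsPGroup.iff_orderOf.1 hP2 p
    have h1 : orderOf (p : G) ∣ Nat.card O := Subgroup.orderOf_dvd_natCard _ hpO
    rw [Subgroup.orderOf_coe, hk] at h1
    rcases k with _ | k
    · rw [← orderOf_eq_one_iff, Subgroup.orderOf_coe, hk, pow_zero]
    · exact absurd (dvd_trans ⟨2 ^ k, by rw [pow_succ, mul_comm]⟩ h1)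
        (fun hd => (Nat.not_even_iff_odd.2 hO) (even_iff_two_dvd.2 hd))
  refine ⟨MulEquiv.ofBijective F ((Nat.bijective_iff_injective_and_card F).2 ⟨hinj, ?_⟩)⟩
  refine Nat.dvd_antisymm (Subgroup.card_dvd_of_injective F hinj) ?_
  obtain ⟨a, ha⟩ := hU.exists_card_eq
  have hLc : Nat.card L = Nat.card O * Nat.card U := by
    rw [mul_comm, hL]
    rw [HallCore.card_comap_mk' O U]
  have hS : Nat.card P = Nat.card S :=
    Nat.card_congr (Subgroup.equivMapOfInjective _ _ L.subtype_injective).toEquiv.symm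
  rw [hS, ha]
  exact S.pow_dvd_card_of_pow_dvd_card (by rw [hLc, ha]; exact dvd_mul_left _ _)

/-- Pairs of possible images of the two generators of the quaternion group of order eight. -/
def q8pairs : Finset (QuaternionGroup 2 × QuaternionGroup 2) :=
  Finset.univ.filter fun w => w.1 * w.1 * w.1 * w.1 = 1 ∧ w.1 * w.1 ≠ 1 ∧ w.2 * w.2 = w.1 * w.1 ∧
    w.2 * w.1 ≠ w.1 * w.2

theorem q8pairs_card : q8pairs.card = 24 := by decide +kernel

theorem q8_aut_pair (α : MulAut (QuaternionGroup 2)) :
    (α (QuaternionGroup.a 1), α (QuaternionGroup.xa 0)) ∈ q8pairs ∧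
      ∀ g, α g = q8map (α (QuaternionGroup.a 1)) (α (QuaternionGroup.xa 0)) g := by
  refine ⟨Finset.mem_filter.2 ⟨Finset.mem_univ _, ?_, ?_, ?_, ?_⟩, ?_⟩
  · simp only [← map_mul]; exact (congrArg α (by decide)).trans (map_one α)
  · simp only [← map_mul]; exact fun e => absurd (α.injective (e.trans (map_one α).symm)) (by decide)
  · simp only [← map_mul]; congr 1
  · simp only [← map_mul]; exact fun e => absurd (α.injective e) (by decide)
  · rintro (i | i)
    · show α (QuaternionGroup.a i) = α (QuaternionGroup.a 1) ^ i.val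
      rw [← map_pow, QuaternionGroup.a_one_pow, ZMod.natCast_zmod_val]
    · show α (QuaternionGroup.xa i) = α (QuaternionGroup.xa 0) * α (QuaternionGroup.a 1) ^ i.val
      rw [← map_pow, QuaternionGroup.a_one_pow, ZMod.natCast_zmod_val, ← map_mul,
        QuaternionGroup.xa_mul_a, zero_add]

theorem card_mulAut_q8 : Nat.card (MulAut (QuaternionGroup 2)) ≤ 24 := by
  classical
  have hinj : Function.Injective (fun α : MulAut (QuaternionGroup 2) =>
      (⟨_, (q8_aut_pair α).1⟩ : q8pairs)) := by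
    intro α β e
    simp only [Subtype.mk.injEq, Prod.mk.injEq] at e
    exact MulEquiv.ext fun g => by rw [(q8_aut_pair α).2, (q8_aut_pair β).2, e.1, e.2]
  have := Nat.card_le_card_of_injective _ hinj
  rw [Nat.card_eq_fintype_card (α := q8pairs), Fintype.card_coe, q8pairs_card] at this
  exact this

theorem q8_fix : ∀ w ∈ q8pairs, ∀ u : QuaternionGroup 2, u * u ≠ 1 → q8map w.1 w.2 u = u →
    (q8map w.1 w.2)^[4] (QuaternionGroup.a 1) = QuaternionGroup.a 1 ∧
      (q8map w.1 w.2)^[4] (QuaternionGroup.xa 0) = QuaternionGroup.xa 0 := by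
  decide +kernel

theorem q8_invol : ∀ u : QuaternionGroup 2, u * u = 1 → u ≠ 1 → u = QuaternionGroup.a 2 := by decide

theorem q8_center : ∀ u : QuaternionGroup 2, u * QuaternionGroup.a 1 = QuaternionGroup.a 1 * u →
    u * QuaternionGroup.xa 0 = QuaternionGroup.xa 0 * u → u = 1 ∨ u = QuaternionGroup.a 2 := by decide

theorem q8_eq_one_of_fix (α : MulAut (QuaternionGroup 2)) {k : ℕ} (hk : α ^ k = 1) (hodd : Odd k)
    {u : QuaternionGroup 2} (hu : u * u ≠ 1) (hfix : α u = u) : α = 1 := by
  obtain ⟨hmem, hα⟩ := q8_aut_pair α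
  have h4 := q8_fix _ hmem u hu (by rw [← hα]; exact hfix)
  have hfun : q8map (α (QuaternionGroup.a 1)) (α (QuaternionGroup.xa 0)) = ⇑α := (funext hα).symm
  simp only [hfun] at h4
  have hit : ∀ (j : ℕ) g, (α ^ j) g = (⇑α)^[j] g := by
    intro j
    induction j with
    | zero => intro g; rfl
    | succ j ih => intro g; rw [pow_succ', MulAut.mul_apply, ih, Function.iterate_succ_apply']
  rw [← hit, ← hit] at h4
  have h4' : α ^ 4 = 1 := MulEquiv.ext fun g => by
    rw [(q8_aut_pair (α ^ 4)).2, h4.1, h4.2, MulAut.one_apply]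
    have h1 := (q8_aut_pair (1 : MulAut (QuaternionGroup 2))).2 g
    simp only [MulAut.one_apply] at h1
    exact h1.symm
  exact orderOf_eq_one_iff.1 (Nat.eq_one_of_dvd_coprimes
    (Nat.Coprime.pow_right 2 (Nat.coprime_two_right.2 hodd)) (orderOf_dvd_of_pow_eq_one hk)
    (orderOf_dvd_of_pow_eq_one h4'))

/-- The projection of a quaternion group onto the four-group. -/
def quatToV4 (m : ℕ) (hm : 2 ∣ m) : QuaternionGroup m →* DihedralGroup 2 where
  toFun
    | QuaternionGroup.a i => DihedralGroup.r (ZMod.castHom (hm.mul_left 2) (ZMod 2) i)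
    | QuaternionGroup.xa i => DihedralGroup.sr (ZMod.castHom (hm.mul_left 2) (ZMod 2) i)
  map_one' := by
    show DihedralGroup.r (ZMod.castHom (hm.mul_left 2) (ZMod 2) 0) = DihedralGroup.r 0
    rw [map_zero]
  map_mul' := by
    have hm0 : ZMod.castHom (hm.mul_left 2) (ZMod 2) ((m : ℕ) : ZMod (2 * m)) = 0 := by
      rw [map_natCast, ZMod.natCast_eq_zero_iff]; exact hm
    rintro (i | i) (j | j)
    · show DihedralGroup.r (ZMod.castHom (hm.mul_left 2) (ZMod 2) (i + j)) = _
      rw [map_add]; rfl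
    · show DihedralGroup.sr (ZMod.castHom (hm.mul_left 2) (ZMod 2) (j - i)) = _
      rw [map_sub]; rfl
    · show DihedralGroup.sr (ZMod.castHom (hm.mul_left 2) (ZMod 2) (i + j)) = _
      rw [map_add]; rfl
    · show DihedralGroup.r (ZMod.castHom (hm.mul_left 2) (ZMod 2) ((m : ZMod (2 * m)) + j - i)) = _
      rw [map_sub, map_add, hm0, zero_add]; rfl

theorem quatToV4_surjective (m : ℕ) (hm : 2 ∣ m) : Function.Surjective (quatToV4 m hm) := by
  rintro (i | i) <;> obtain ⟨j, rfl⟩ := ZMod.castHom_surjective (hm.mul_left 2) i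
  · exact ⟨QuaternionGroup.a j, rfl⟩
  · exact ⟨QuaternionGroup.xa j, rfl⟩

/-- The solvable case. -/
theorem exists_solvable (h : IsFPFRep φ) [Group.IsSolvable G] :
    ∃ N : Subgroup G, N.Normal ∧ IsZGroup N ∧ (N = ⊤ ∨
      (∃ f : G →* DihedralGroup 2, Function.Surjective f ∧ f.ker = N) ∨
      (∃ f : G →* alternatingGroup (Fin 4), Function.Surjective f ∧ f.ker = N) ∨
      (∃ f : G →* Equiv.Perm (Fin 4), Function.Surjective f ∧ f.ker = N)) := by
  classical
  have := Fact.mk Nat.prime_two
  by_cases hZ : IsZGroup G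
  · haveI := hZ
    exact ⟨⊤, inferInstance, inferInstance, .inl rfl⟩
  set O := Cfsg.oddCore G with hO
  haveI : O.Normal := HallCore.pPrimeCore_normal 2 G
  have hOodd : Odd (Nat.card O) := Nat.coprime_two_right.mp (HallCore.coprime_card_pPrimeCore 2 G)
  set π := QuotientGroup.mk' O with hπ
  have hpi : Function.Surjective π := QuotientGroup.mk'_surjective O
  have hcq : ∀ U : Subgroup (G ⧸ O), IsPGroup 2 U →
      IsCyclic U ∨ ∃ n : ℕ, Nonempty (U ≃* QuaternionGroup (2 ^ n)) := by
    intro U hU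
    obtain ⟨P, hP, ⟨e⟩⟩ := exists_lift O hOodd U hU
    rcases cyclic_or_quaternion h P hP with hc | ⟨-, n, ⟨e'⟩⟩
    · exact .inl (isCyclic_of_surjective e.toMonoidHom e.surjective)
    · exact .inr ⟨n, ⟨e.symm.trans e'⟩⟩
  -- a Sylow 2-subgroup is a quaternion group
  have hnc : ∀ P : Sylow 2 G, ¬ IsCyclic P := by
    intro P hP
    refine hZ ⟨fun p hp Q => ?_⟩
    have := Fact.mk hp
    rcases cyclic_or_quaternion h (Q : Subgroup G) Q.2 with hc | ⟨rfl, -⟩
    · exact hc
    · exact isCyclic_of_surjective (P.equiv Q).toMonoidHom (P.equiv Q).surjective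
  by_cases hH : IsPGroup 2 (G ⧸ O)
  · obtain ⟨m, hm, hm0, ⟨e⟩⟩ : ∃ m, 2 ∣ m ∧ 0 < m ∧ Nonempty ((G ⧸ O) ≃* QuaternionGroup m) := by
      rcases hcq ⊤ (hH.to_subgroup ⊤) with hc | ⟨n, ⟨e⟩⟩
      · exfalso
        obtain ⟨P, hP, ⟨e⟩⟩ := exists_lift O hOodd ⊤ (hH.to_subgroup ⊤)
        obtain ⟨P', hP'⟩ := hP.exists_le_sylow
        have hPc : Nat.card P' ≤ Nat.card P := by
          rw [Nat.card_congr e.toEquiv, Subgroup.card_top]
          refine Nat.card_le_card_of_injective (fun p : P' => π (p : G)) fun p q hpq => ?_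
          have hm : ((p⁻¹ * q : P') : G) ∈ O := by
            have : π ((p : G)⁻¹ * q) = 1 := by rw [map_mul, map_inv]; exact inv_mul_eq_one.2 hpq
            exact (QuotientGroup.eq_one_iff _).1 this
          have h1 : orderOf (p⁻¹ * q : P') = 1 := by
            obtain ⟨k, hk⟩ := IsPGroup.iff_orderOf.1 P'.2 (p⁻¹ * q)
            have hd := Subgroup.orderOf_dvd_natCard O hm
            rw [Subgroup.orderOf_coe, hk] at hd
            rw [hk]
            exact Nat.eq_one_of_dvd_coprimes
              (Nat.Coprime.pow_left k (Nat.coprime_two_left.2 hOodd)) dvd_rfl hd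
          exact inv_mul_eq_one.1 (orderOf_eq_one_iff.1 h1)
        have heq : P = (P' : Subgroup G) := Subgroup.eq_of_le_of_card_ge hP' hPc
        haveI : IsCyclic P := isCyclic_of_surjective e.symm.toMonoidHom e.symm.surjective
        exact hnc P' (heq ▸ (inferInstance : IsCyclic P))
      · rcases n with _ | n
        · exfalso
          haveI : IsCyclic (QuaternionGroup (2 ^ 0)) := QuaternionGroup.quaternionGroup_one_isCyclic
          haveI : IsCyclic (⊤ : Subgroup (G ⧸ O)) :=
            isCyclic_of_surjective e.symm.toMonoidHom e.symm.surjective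
          obtain ⟨P, hP, ⟨e'⟩⟩ := exists_lift O hOodd ⊤ (hH.to_subgroup ⊤)
          obtain ⟨P', hP'⟩ := hP.exists_le_sylow
          have hdvd : Nat.card P' ∣ Nat.card O * Nat.card P := by
            rw [Nat.card_congr e'.toEquiv, Subgroup.card_top, ← Subgroup.index_eq_card,
              Subgroup.card_mul_index]
            exact Subgroup.card_subgroup_dvd_card _
          obtain ⟨k, hk⟩ := P'.2.exists_card_eq
          have hd2 : Nat.card P' ∣ Nat.card P := by
            rw [hk] at hdvd ⊢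
            exact (Nat.Coprime.pow_left k (Nat.coprime_two_left.2 hOodd)).dvd_of_dvd_mul_left hdvd
          have heq : P = (P' : Subgroup G) :=
            Subgroup.eq_of_le_of_card_ge hP' (Nat.le_of_dvd Nat.card_pos hd2)
          haveI : IsCyclic P := isCyclic_of_surjective e'.symm.toMonoidHom e'.symm.surjective
          exact hnc P' (heq ▸ (inferInstance : IsCyclic P))
        · exact ⟨2 ^ (n + 1), dvd_pow_self 2 (Nat.succ_ne_zero n), by positivity, ⟨Subgroup.topEquiv.symm.trans e⟩⟩
    set f := (quatToV4 m hm).comp (e.toMonoidHom.comp π) with hf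
    have hfs : Function.Surjective f := (quatToV4_surjective m hm).comp (e.surjective.comp hpi)
    refine ⟨f.ker, inferInstance, isZGroup_of_two h _ (fun P hP => ?_), .inr (.inl ⟨f, hfs, rfl⟩)⟩
    -- a 2-subgroup of the kernel embeds into a cyclic group
    let F : P →* Subgroup.zpowers (QuaternionGroup.a 1 : QuaternionGroup m) :=
      ((e.toMonoidHom.comp π).comp (f.ker.subtype.comp P.subtype)).codRestrict _ (fun p => by
        have hk : quatToV4 m hm (e (π ((p : f.ker) : G))) = 1 := (p : f.ker).2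
        rcases hq : e (π ((p : f.ker) : G)) with i | i
        · show e (π ((p : f.ker) : G)) ∈ _
          rw [hq]
          haveI : NeZero (2 * m) := ⟨by omega⟩
          rw [← ZMod.natCast_zmod_val i, ← QuaternionGroup.a_one_pow]
          exact Subgroup.pow_mem _ (Subgroup.mem_zpowers _) _
        · exfalso
          rw [hq] at hk
          change DihedralGroup.sr _ = DihedralGroup.r 0 at hk
          cases hk)
    refine isCyclic_of_injective F ?_
    rw [injective_iff_map_eq_one]
    intro p hp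
    have h1 : π ((p : f.ker) : G) = 1 := e.injective ((congrArg Subtype.val hp).trans (map_one e).symm)
    have hmO : ((p : f.ker) : G) ∈ O := (QuotientGroup.eq_one_iff _).1 h1
    obtain ⟨k, hk⟩ := IsPGroup.iff_orderOf.1 hP p
    have hd := Subgroup.orderOf_dvd_natCard O hmO
    rw [Subgroup.orderOf_coe, Subgroup.orderOf_coe, hk] at hd
    apply orderOf_eq_one_iff.1
    rw [hk]
    exact Nat.eq_one_of_dvd_coprimes (Nat.Coprime.pow_left k (Nat.coprime_two_left.2 hOodd)) dvd_rfl hd
  -- the binary tetrahedral and octahedral cases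
  haveI : Group.IsSolvable (G ⧸ O) := Group.isSolvable_of_surjective hpi
  have hOH : Cfsg.oddCore (G ⧸ O) = ⊥ := HallCore.pPrimeCore_quotient_self 2 G
  set U := Cfsg.pCore 2 (G ⧸ O) with hU
  haveI : U.Normal := HallCore.pCore_normal 2 (G ⧸ O)
  have hU2 : IsPGroup 2 U := HallCore.isPGroup_pCore 2 (G ⧸ O)
  have hself : Subgroup.centralizer (U : Set (G ⧸ O)) ≤ U := by
    have := HallSolvable.centralizer_fitting_le (G := G ⧸ O)
    rwa [CharTwoLocal.fitting_eq_pCore_of_oddCore_eq_bot hOH] at this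
  set ψ := (MulAut.conjNormal : (G ⧸ O) →* MulAut U) with hψ
  have hψker : ∀ g, ψ g = 1 → g ∈ U := by
    intro g hg
    refine hself (Subgroup.mem_centralizer_iff.2 fun u hu => ?_)
    have := congrArg (fun a : MulAut U => ((a ⟨u, hu⟩ : U) : G ⧸ O)) hg
    simp only [hψ, MulAut.conjNormal_apply, MulAut.one_apply] at this
    exact (mul_inv_eq_iff_eq_mul.1 this).symm
  have hne3 : ∀ g : G ⧸ O, ∀ q : ℕ, q.Prime → q ≠ 2 → orderOf g = q → ψ g ≠ 1 := by
    intro g q hq hq2 hg e
    obtain ⟨k, hk⟩ := IsPGroup.iff_orderOf.1 hU2 ⟨g, hψker g e⟩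
    rw [← Subgroup.orderOf_coe, hg] at hk
    exact hq2 ((Nat.prime_dvd_prime_iff_eq hq Nat.prime_two).1 (hq.dvd_of_dvd_pow (dvd_of_eq hk)))
  obtain ⟨g, q, hq, hq2, hg⟩ : ∃ (g : G ⧸ O) (q : ℕ), q.Prime ∧ q ≠ 2 ∧ orderOf g = q := by
    by_contra hcon
    push Not at hcon
    exact hH (CharTwoLocal.isPGroup_two_of_orderOf fun y q hq hq2 => hcon y q hq hq2)
  have hgk : ψ g ^ q = 1 := by rw [← map_pow, ← hg, pow_orderOf_eq_one, map_one]
  have hqodd : Odd q := hq.odd_of_ne_two hq2
  obtain ⟨e⟩ : Nonempty (U ≃* QuaternionGroup 2) := by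
    rcases hcq U hU2 with hc | ⟨n, ⟨e⟩⟩
    · exact absurd (eq_one_of_cyclic hU2 _ hgk hqodd) (hne3 g q hq hq2 hg)
    · rcases n with _ | _ | n
      · haveI : IsCyclic (QuaternionGroup (2 ^ 0)) := QuaternionGroup.quaternionGroup_one_isCyclic
        haveI : IsCyclic U := isCyclic_of_surjective e.symm.toMonoidHom e.symm.surjective
        exact absurd (eq_one_of_cyclic hU2 _ hgk hqodd) (hne3 g q hq hq2 hg)
      · exact ⟨e⟩
      · exfalso
        refine hne3 g q hq hq2 hg ((MulAut.congr e).injective ?_)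
        rw [map_one]
        exact eq_one_of_quaternion_large n _ rfl _ (by rw [← map_pow, hgk, map_one]) hqodd
  have h3 : ∀ (y : G ⧸ O) (r : ℕ), r.Prime → r ≠ 2 → orderOf y = r → r = 3 := by
    intro y r hr hr2 hy
    by_contra hr3
    refine hne3 y r hr hr2 hy (eq_one_of_two_group hU2 (.inr ⟨1, ⟨e⟩⟩) _ (k := r)
      (by rw [← map_pow, ← hy, pow_orderOf_eq_one, map_one]) ?_)
    rw [show (6 : ℕ) = 2 * 3 by norm_num]
    exact Nat.Coprime.mul_right ((Nat.coprime_primes hr Nat.prime_two).2 hr2)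
      ((Nat.coprime_primes hr Nat.prime_three).2 hr3)
  have hq3 : q = 3 := h3 g q hq hq2 hg
  subst hq3
  -- the central involution
  set z : G ⧸ O := ((e.symm (QuaternionGroup.a 2) : U) : G ⧸ O) with hz
  have hzU : z ∈ U := (e.symm (QuaternionGroup.a 2)).2
  have hz2 : orderOf z = 2 := by
    rw [hz, Subgroup.orderOf_coe, MulEquiv.orderOf_eq]
    exact orderOf_eq_prime (by decide) (by decide)
  have hzc : ∀ y : G ⧸ O, y * z = z * y := by
    intro y
    have h1 : e (ψ y (e.symm (QuaternionGroup.a 2))) = QuaternionGroup.a 2 := by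
      refine q8_invol _ ?_ ?_
      · rw [← map_mul, ← map_mul, ← map_mul, show (QuaternionGroup.a 2 * QuaternionGroup.a 2 :
          QuaternionGroup 2) = 1 by decide, map_one, map_one, map_one]
      · intro e1
        have := (ψ y).injective ((e.injective (e1.trans (map_one e).symm)).trans (map_one (ψ y)).symm)
        exact absurd (e.symm.injective (this.trans (map_one e.symm).symm)) (by decide)
    have h2 := congrArg Subtype.val (e.injective (h1.trans (e.apply_symm_apply _).symm))
    rw [hψ, MulAut.conjNormal_apply, ← hz] at h2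
    exact mul_inv_eq_iff_eq_mul.1 h2
  have hker : ∀ y, ψ y = 1 → y = 1 ∨ y = z := by
    intro y hy
    have hyU := hψker y hy
    have hcm : ∀ u : U, (⟨y, hyU⟩ : U) * u = u * ⟨y, hyU⟩ := fun u => by
      have := congrArg (fun a : MulAut U => ((a u : U) : G ⧸ O)) hy
      simp only [hψ, MulAut.conjNormal_apply, MulAut.one_apply] at this
      exact Subtype.ext (mul_inv_eq_iff_eq_mul.1 this)
    rcases q8_center (e ⟨y, hyU⟩)
      (by rw [← e.apply_symm_apply (QuaternionGroup.a 1), ← map_mul, ← map_mul, hcm])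
      (by rw [← e.apply_symm_apply (QuaternionGroup.xa 0), ← map_mul, ← map_mul, hcm]) with h1 | h1
    · exact .inl (congrArg Subtype.val (e.injective (h1.trans (map_one e).symm)))
    · refine .inr ?_
      rw [hz, ← h1, e.symm_apply_apply]
  have hz1 : z ≠ 1 := fun e1 => by rw [e1, orderOf_one] at hz2; omega
  -- the order is 24 or 48
  have hUc : Nat.card U = 8 := by
    rw [Nat.card_congr e.toEquiv, Nat.card_eq_fintype_card, QuaternionGroup.card]
  have hker2 : Nat.card ψ.ker ≤ 2 := by
    have hsub : (ψ.ker : Set (G ⧸ O)) ⊆ ({1, z} : Finset (G ⧸ O)) := fun y hy => by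
      simpa using hker y hy
    calc Nat.card ψ.ker = (ψ.ker : Set (G ⧸ O)).ncard := by rw [← Nat.card_coe_set_eq]; rfl
      _ ≤ _ := Set.ncard_le_ncard hsub (Finset.finite_toSet _)
      _ ≤ 2 := by rw [Set.ncard_coe_finset]; exact Finset.card_le_two
  have hcard : Nat.card (G ⧸ O) = 24 ∨ Nat.card (G ⧸ O) = 48 := by
    have h48 : Nat.card (G ⧸ O) ≤ 48 := by
      rw [← ψ.ker.card_mul_index, Subgroup.index_ker]
      have h24 : Nat.card ψ.range ≤ 24 := by
        refine (Subgroup.card_le_card_group ψ.range).trans ?_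
        rw [Nat.card_congr (MulAut.congr e).toEquiv]
        exact card_mulAut_q8
      calc _ ≤ 2 * 24 := Nat.mul_le_mul hker2 h24
        _ = 48 := rfl
    have h8 : 8 ∣ Nat.card (G ⧸ O) := hUc ▸ Subgroup.card_subgroup_dvd_card U
    have h3' : 3 ∣ Nat.card (G ⧸ O) := hg ▸ orderOf_dvd_natCard g
    have h24 : 24 ∣ Nat.card (G ⧸ O) := Nat.Coprime.mul_dvd_of_dvd_of_dvd (by norm_num) h8 h3'
    obtain ⟨k, hk⟩ := h24
    have := Nat.card_pos (α := G ⧸ O)
    omega
  have := Fact.mk Nat.prime_three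
  obtain ⟨P⟩ : Nonempty (Sylow 3 (G ⧸ O)) := inferInstance
  have hP3 : Nat.card (P : Subgroup (G ⧸ O)) = 3 := by
    have h48 : (48 : ℕ).factorization 3 = 1 := by
      rw [show (48 : ℕ) = 3 * 16 by norm_num, Nat.factorization_mul (by norm_num) (by norm_num),
        Finsupp.add_apply, Nat.Prime.factorization_self Nat.prime_three,
        Nat.factorization_eq_zero_of_not_dvd (by norm_num)]
    have h24 : (24 : ℕ).factorization 3 = 1 := by
      rw [show (24 : ℕ) = 3 * 8 by norm_num, Nat.factorization_mul (by norm_num) (by norm_num),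
        Finsupp.add_apply, Nat.Prime.factorization_self Nat.prime_three,
        Nat.factorization_eq_zero_of_not_dvd (by norm_num)]
    rw [P.card_eq_multiplicity]
    rcases hcard with hc | hc <;> rw [hc]
    · rw [h24]; norm_num
    · rw [h48]; norm_num
  -- elements of order three act without fixed points on U modulo the involution
  have hfix : ∀ y : G ⧸ O, orderOf y = 3 → ∀ u ∈ U, y * u = u * y → u * u = 1 := by
    intro y hy u hu hc
    by_contra h4
    refine hne3 y 3 hq hq2 hy ((MulAut.congr e).injective ?_)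
    rw [map_one]
    refine q8_eq_one_of_fix _ (k := 3)
      (by rw [← map_pow, ← map_pow, ← hy, pow_orderOf_eq_one, map_one, map_one]) (by decide)
      (u := e ⟨u, hu⟩) (fun e1 => h4 ?_) ?_
    · rw [← map_mul] at e1
      exact congrArg Subtype.val (e.injective (e1.trans (map_one e).symm))
    · show e (ψ y (e.symm (e ⟨u, hu⟩))) = _
      rw [e.symm_apply_apply]
      congr 1
      exact Subtype.ext (by rw [hψ, MulAut.conjNormal_apply]; exact mul_inv_eq_iff_eq_mul.2 hc)
  have hn3 : Nat.card (Sylow 3 (G ⧸ O)) = 4 := by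
    have h1 : Nat.card (Sylow 3 (G ⧸ O)) ∣ (P : Subgroup (G ⧸ O)).index := P.card_dvd_index
    have h2 : Nat.card (Sylow 3 (G ⧸ O)) ≡ 1 [MOD 3] := card_sylow_modEq_one 3 (G ⧸ O)
    have hmul := (P : Subgroup (G ⧸ O)).card_mul_index
    rw [hP3] at hmul
    have hne1 : Nat.card (Sylow 3 (G ⧸ O)) ≠ 1 := by
      intro e1
      haveI : Subsingleton (Sylow 3 (G ⧸ O)) := (Nat.card_eq_one_iff_unique.1 e1).1
      haveI : (P : Subgroup (G ⧸ O)).Normal := Sylow.normal_of_subsingleton P
      obtain ⟨y, hy⟩ := exists_prime_orderOf_dvd_card' (G := (P : Subgroup (G ⧸ O))) 3 (by rw [hP3])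
      have hyo : orderOf (y : G ⧸ O) = 3 := by rw [Subgroup.orderOf_coe, hy]
      have hdisj : (P : Subgroup (G ⧸ O)) ⊓ U = ⊥ :=
        Subgroup.inf_eq_bot_of_coprime (by rw [hP3, hUc]; norm_num)
      have hcomm : ∀ u ∈ U, (y : G ⧸ O) * u = u * y := fun u hu =>
        Subgroup.commute_of_normal_of_disjoint _ U inferInstance inferInstance (disjoint_iff.2 hdisj)
          y u y.2 hu
      have := hfix y hyo _ (e.symm (QuaternionGroup.a 1)).2 (hcomm _ (e.symm (QuaternionGroup.a 1)).2)
      have h4 : e.symm (QuaternionGroup.a 1) * e.symm (QuaternionGroup.a 1) = 1 := Subtype.ext this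
      rw [← map_mul] at h4
      exact absurd (e.symm.injective (h4.trans (map_one e.symm).symm)) (by decide)
    have hne16 : Nat.card (Sylow 3 (G ⧸ O)) ≠ 16 := by
      intro e16
      have h6 : 2 ∣ Nat.card (Subgroup.normalizer ((P : Subgroup (G ⧸ O)) : Set (G ⧸ O))) := by
        have hzn : z ∈ Subgroup.normalizer ((P : Subgroup (G ⧸ O)) : Set (G ⧸ O)) :=
          Subgroup.centralizer_le_normalizer _ (Subgroup.mem_centralizer_iff.2 fun y _ => hzc y)
        exact hz2 ▸ Subgroup.orderOf_dvd_natCard _ hzn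
      have := (Subgroup.normalizer ((P : Subgroup (G ⧸ O)) : Set (G ⧸ O))).card_mul_index
      rw [show (Subgroup.normalizer ((P : Subgroup (G ⧸ O)) : Set (G ⧸ O))).index = 16 from
        P.card_eq_index_normalizer.symm.trans e16] at this
      rcases hcard with hc | hc <;> rw [hc] at this <;> omega
    rcases hcard with hc | hc <;> rw [hc] at hmul
    · have h8 : (P : Subgroup (G ⧸ O)).index = 8 := by omega
      rw [h8] at h1
      have hle := Nat.le_of_dvd (by norm_num) h1
      unfold Nat.ModEq at h2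
      interval_cases hn : Nat.card (Sylow 3 (G ⧸ O)) <;> omega
    · have h16 : (P : Subgroup (G ⧸ O)).index = 16 := by omega
      rw [h16] at h1
      have hle := Nat.le_of_dvd (by norm_num) h1
      unfold Nat.ModEq at h2
      interval_cases hn : Nat.card (Sylow 3 (G ⧸ O)) <;> omega
  set act := MulAction.toPermHom (G ⧸ O) (Sylow 3 (G ⧸ O)) with hact
  have hmemK : ∀ y ∈ act.ker, ∀ Q : Sylow 3 (G ⧸ O), y ∈ Subgroup.normalizer ((Q : Subgroup (G ⧸ O)) : Set (G ⧸ O)) := by
    intro y hy Q
    exact Sylow.smul_eq_iff_mem_normalizer.1 (DFunLike.congr_fun (MonoidHom.mem_ker.1 hy) Q)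
  have hK3 : ¬ 3 ∣ Nat.card act.ker := by
    intro hd
    obtain ⟨y, hy⟩ := exists_prime_orderOf_dvd_card' (G := act.ker) 3 hd
    have hyo : orderOf (y : G ⧸ O) = 3 := by rw [Subgroup.orderOf_coe, hy]
    have hall : ∀ Q : Sylow 3 (G ⧸ O), (Q : Subgroup (G ⧸ O)) = Subgroup.zpowers (y : G ⧸ O) := by
      intro Q
      set N := Subgroup.normalizer ((Q : Subgroup (G ⧸ O)) : Set (G ⧸ O)) with hN
      have hQ3 : Nat.card (Q : Subgroup (G ⧸ O)) = 3 := by
        exact (Nat.card_congr (Q.equiv P).toEquiv).trans hP3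
      have hyN : (y : G ⧸ O) ∈ N := hmemK y y.2 Q
      have hz3 : IsPGroup 3 (Subgroup.zpowers (y : G ⧸ O)) :=
        IsPGroup.of_card (n := 1) (by rw [Nat.card_zpowers, hyo, pow_one])
      obtain ⟨k, hk⟩ := (hz3.to_sup_of_normal_right' Q.2 (Subgroup.zpowers_le.2 hyN)).exists_card_eq
      have hsup : Subgroup.zpowers (y : G ⧸ O) ⊔ (Q : Subgroup (G ⧸ O)) = Q :=
        Q.3 (hz3.to_sup_of_normal_right' Q.2 (Subgroup.zpowers_le.2 hyN)) le_sup_right
      exact (Subgroup.eq_of_le_of_card_ge (sup_eq_right.1 hsup)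
        (by rw [hQ3, Nat.card_zpowers, hyo])).symm
    haveI : Subsingleton (Sylow 3 (G ⧸ O)) := ⟨fun A B => Sylow.ext (by rw [hall A, hall B])⟩
    rw [Nat.card_eq_one_iff_unique.2 ⟨inferInstance, ⟨P⟩⟩] at hn3
    omega
  have hKU : act.ker ≤ U := by
    refine HallCore.le_pCore (CharTwoLocal.isPGroup_two_of_orderOf fun y r hr hr2 hy => hK3 ?_)
    have := h3 (y : G ⧸ O) r hr hr2 (by rw [Subgroup.orderOf_coe, hy])
    exact (dvd_of_eq this.symm).trans ((dvd_of_eq hy.symm).trans (orderOf_dvd_natCard y))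
  have hkerz : act.ker = Subgroup.zpowers z := by
    refine le_antisymm (fun u hu => ?_) (Subgroup.zpowers_le.2 (MonoidHom.mem_ker.2 (Equiv.ext fun Q => ?_)))
    · have huU := hKU hu
      obtain ⟨y, hy⟩ := exists_prime_orderOf_dvd_card' (G := (P : Subgroup (G ⧸ O))) 3 (by rw [hP3])
      have hyo : orderOf (y : G ⧸ O) = 3 := by rw [Subgroup.orderOf_coe, hy]
      have hc : (y : G ⧸ O) * u = u * y := by
        have h1 : (y : G ⧸ O) * u * (y : G ⧸ O)⁻¹ * u⁻¹ ∈ U :=
          U.mul_mem (Subgroup.Normal.conj_mem ‹_› _ huU _) (U.inv_mem huU)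
        have h2 : (y : G ⧸ O) * u * (y : G ⧸ O)⁻¹ * u⁻¹ ∈ (P : Subgroup (G ⧸ O)) := by
          rw [mul_assoc, mul_assoc, ← mul_assoc u]
          exact Subgroup.mul_mem _ y.2 ((Subgroup.mem_normalizer_iff.1 (hmemK u hu P) _).1
            ((P : Subgroup (G ⧸ O)).inv_mem y.2))
        have hdisj : (P : Subgroup (G ⧸ O)) ⊓ U = ⊥ :=
          Subgroup.inf_eq_bot_of_coprime (by rw [hP3, hUc]; norm_num)
        have h3 : (y : G ⧸ O) * u * (y : G ⧸ O)⁻¹ * u⁻¹ = 1 := by
          rw [← Subgroup.mem_bot, ← hdisj]; exact ⟨h2, h1⟩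
        exact mul_inv_eq_iff_eq_mul.1 (mul_inv_eq_one.1 h3)
      have huu := hfix y hyo u huU hc
      by_cases hu1 : u = 1
      · rw [hu1]; exact one_mem _
      · have h1 : e ⟨u, huU⟩ = QuaternionGroup.a 2 := q8_invol _
          (by rw [← map_mul, show (⟨u, huU⟩ : U) * ⟨u, huU⟩ = 1 from Subtype.ext huu, map_one])
          (fun e1 => hu1 (congrArg Subtype.val (e.injective (e1.trans (map_one e).symm))))
        rw [hz, ← h1, e.symm_apply_apply]
        exact Subgroup.mem_zpowers u
    · show z • Q = Q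
      exact Sylow.smul_eq_iff_mem_normalizer.2
        (Subgroup.centralizer_le_normalizer _ (Subgroup.mem_centralizer_iff.2 fun y _ => hzc y))
  obtain ⟨ec⟩ : Nonempty (Equiv.Perm (Sylow 3 (G ⧸ O)) ≃* Equiv.Perm (Fin 4)) := by
    have := Fintype.ofFinite (Sylow 3 (G ⧸ O))
    exact ⟨(Fintype.equivFinOfCardEq (by rw [← Nat.card_eq_fintype_card]; exact hn3)).permCongrHom⟩
  set f := ec.toMonoidHom.comp (act.comp π) with hfdef
  have hfk : f.ker = (Subgroup.zpowers z).comap π := by
    ext y
    rw [Subgroup.mem_comap, ← hkerz, MonoidHom.mem_ker, MonoidHom.mem_ker]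
    exact ⟨fun h1 => ec.injective (h1.trans (map_one ec).symm),
      fun h1 => show ec (act (π y)) = 1 by rw [h1, map_one]⟩
  have hNz : IsZGroup f.ker := by
    refine isZGroup_of_two h _ (fun Q hQ => ?_)
    obtain ⟨k, hk⟩ := hQ.exists_card_eq
    have hd : Nat.card Q ∣ Nat.card f.ker := Subgroup.card_subgroup_dvd_card Q
    have hc : Nat.card f.ker = 2 * Nat.card O := by
      rw [hfk, ← HallCore.card_comap_mk', Nat.card_zpowers, hz2]
    rw [hc, hk] at hd
    have hd2 : 2 ^ k ∣ 2 := (Nat.Coprime.pow_left k (Nat.coprime_two_left.2 hOodd)).dvd_of_dvd_mul_right hd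
    rcases k with _ | _ | k
    · rw [Subgroup.card_eq_one.1 (hk.trans (pow_zero 2))]; infer_instance
    · exact isCyclic_of_prime_card (hk.trans (pow_one 2))
    · exfalso
      have := Nat.le_of_dvd (by norm_num) hd2
      have : 4 ≤ 2 ^ (k + 2) := by rw [pow_add]; have := Nat.one_le_two_pow (n := k); omega
      omega
  have hidx : Nat.card f.range = 12 ∨ Nat.card f.range = 24 := by
    rw [← Subgroup.index_ker, hfk, Subgroup.index_comap_of_surjective _ hpi]
    have := (Subgroup.zpowers z).card_mul_index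
    rw [Nat.card_zpowers, hz2] at this
    rcases hcard with hc | hc <;> rw [hc] at this
    · left; omega
    · right; omega
  refine ⟨f.ker, inferInstance, hNz, .inr (.inr ?_)⟩
  have hS4 : Nat.card (Equiv.Perm (Fin 4)) = 24 := by rw [Nat.card_eq_fintype_card]; decide
  rcases hidx with h12 | h24
  · left
    have hr : f.range = alternatingGroup (Fin 4) := by
      refine Equiv.Perm.eq_alternatingGroup_of_index_eq_two ?_
      have := f.range.card_mul_index
      rw [h12, hS4] at this
      omega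
    refine ⟨(MulEquiv.subgroupCongr hr).toMonoidHom.comp f.rangeRestrict,
      (MulEquiv.subgroupCongr hr).surjective.comp f.rangeRestrict_surjective, ?_⟩
    rw [MonoidHom.ker_comp_of_injective _ _ (MulEquiv.subgroupCongr hr).injective, MonoidHom.ker_rangeRestrict]
  · right
    exact ⟨f, MonoidHom.range_eq_top.1 (Subgroup.eq_top_of_card_eq _ (by rw [h24, hS4])), rfl⟩

/-- The non-solvable case. -/
theorem exists_nonsolvable (h : IsFPFRep φ) (hns : ¬ Group.IsSolvable G) :
    ∃ N : Subgroup G, N.Normal ∧ IsZGroup N ∧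
      ((∃ f : G →* alternatingGroup (Fin 5), Function.Surjective f ∧ f.ker = N) ∨
      (∃ f : G →* Equiv.Perm (Fin 5), Function.Surjective f ∧ f.ker = N)) := by
  classical
  obtain ⟨D, M, hDn, hMn, -, hidx, hdisj, hcomm, -, hcop, hcent, -, hperf, hD120, hZ2⟩ :=
    FpfNonsolvable.structure_thm h hns
  haveI := hDn
  haveI := hMn
  set C := Subgroup.centralizer (D : Set G) with hC
  haveI : C.Normal := inferInstance
  have := Fact.mk Nat.prime_two
  have hMC : M ≤ C := fun m hm => Subgroup.mem_centralizer_iff.2 fun d hd => hcomm d hd m hm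
  -- the centraliser has order twice an odd number
  have hCM : ∀ P : Subgroup C, IsPGroup 2 P → IsCyclic P := by
    intro P hP
    -- P embeds into the centre of D
    have hPm : ∀ p : P, ∃ d : C.subgroupOf D, ∃ m ∈ M, ((p : C) : G) = ((d : D) : G) * m := by
      intro p
      have hm : ((p : C) : G) ∈ ((D ⊔ M : Subgroup G) : Set G) :=
        hcent _ (fun d hd => (Subgroup.mem_centralizer_iff.1 (p : C).2 d hd).symm)
      rw [Subgroup.normal_mul] at hm
      obtain ⟨d, hd, m, hmM, e⟩ := hm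
      have hdC : d ∈ C := by
        have : d = ((p : C) : G) * m⁻¹ := eq_mul_inv_of_mul_eq e
        rw [this]; exact C.mul_mem (p : C).2 (C.inv_mem (hMC hmM))
      exact ⟨⟨⟨d, hd⟩, hdC⟩, m, hmM, e.symm⟩
    choose F m hmM hF using hPm
    have hinj : Function.Injective F := by
      intro p q e
      have hd : (((p⁻¹ * q : P) : C) : G) ∈ M := by
        have e1 : (((p⁻¹ * q : P) : C) : G) = (m p)⁻¹ * m q := by
          simp only [Subgroup.coe_mul, Subgroup.coe_inv]
          rw [hF p, hF q, e, mul_inv_rev, mul_assoc, inv_mul_cancel_left]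
        rw [e1]; exact M.mul_mem (M.inv_mem (hmM p)) (hmM q)
      obtain ⟨k, hk⟩ := IsPGroup.iff_orderOf.1 hP (p⁻¹ * q)
      have h1 := Subgroup.orderOf_dvd_natCard M hd
      rw [Subgroup.orderOf_coe, Subgroup.orderOf_coe, hk] at h1
      refine inv_mul_eq_one.1 (orderOf_eq_one_iff.1 (hk ▸ ?_))
      exact Nat.eq_one_of_dvd_coprimes
        (Nat.Coprime.pow_left k ((hcop.coprime_dvd_right (by norm_num : 2 ∣ 30)).symm)) dvd_rfl h1
    have hle : Nat.card P ≤ 2 := hZ2 ▸ Nat.card_le_card_of_injective F hinj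
    rcases Nat.eq_or_lt_of_le hle with h2 | h2
    · exact isCyclic_of_prime_card h2
    · have h1 : Nat.card P = 1 := by have := Nat.card_pos (α := P); omega
      rw [Subgroup.card_eq_one.1 h1]; infer_instance
  -- the image of D
  set π := QuotientGroup.mk' C with hπ
  set A := D.map π with hA
  haveI : A.Normal := Subgroup.Normal.map hDn π (QuotientGroup.mk'_surjective C)
  have hA60 : Nat.card A = 60 := by
    have e := Subgroup.index_ker (π.comp D.subtype)
    rw [MonoidHom.range_comp, Subgroup.range_subtype, ← hA] at e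
    rw [← e, show (π.comp D.subtype).ker = C.subgroupOf D by
      rw [← MonoidHom.comap_ker, hπ, QuotientGroup.ker_mk']; rfl]
    have := (C.subgroupOf D).card_mul_index
    rw [hZ2, hD120] at this
    omega
  haveI : IsSimpleGroup A := by
    refine (Cfsg.Agent.S3378.nonsolvable_small 60 A hA60 (fun hs => ?_) (by norm_num)).1
    haveI := hs
    have h1 := perfect_hom_eq_one hperf (π.subgroupMap D)
    have h2 : (⊤ : Subgroup A) = ⊥ := by
      rw [eq_bot_iff]
      intro a _
      obtain ⟨d, rfl⟩ := π.subgroupMap_surjective D a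
      rw [h1]; exact Subgroup.one_mem _
    have h3 := congrArg (fun S : Subgroup A => Nat.card S) h2
    simp only [Subgroup.card_top, Subgroup.card_bot, hA60] at h3
    omega
  obtain ⟨eA⟩ := Cfsg.Agent.S0494.result (G := A) hA60
  have hcA : ∀ q : G ⧸ C, (∀ x ∈ A, q * x = x * q) → q = 1 := by
    intro q hq
    obtain ⟨g, rfl⟩ := QuotientGroup.mk'_surjective C q
    have hmem : ∀ d : D, ((g * (d : G) * g⁻¹ * (d : G)⁻¹) : G) ∈ C ⊓ D := by
      intro d
      refine ⟨?_, D.mul_mem (hDn.conj_mem _ d.2 g) (D.inv_mem d.2)⟩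
      refine (QuotientGroup.eq_one_iff _).1 ?_
      show π (g * (d : G) * g⁻¹ * (d : G)⁻¹) = 1
      rw [map_mul, map_mul, map_mul, map_inv, map_inv, hq (π d) ⟨d, d.2, rfl⟩, mul_inv_cancel_right,
        mul_inv_cancel]
    haveI : IsMulCommutative (C ⊓ D : Subgroup G) := ⟨⟨fun u v => Subtype.ext
      (Subgroup.mem_centralizer_iff.1 v.2.1 u u.2.2)⟩⟩
    let δ : D →* (C ⊓ D : Subgroup G) :=
      { toFun := fun d => ⟨_, hmem d⟩
        map_one' := Subtype.ext (by simp)
        map_mul' := fun d d' => Subtype.ext (by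
          show g * ((d : G) * d') * g⁻¹ * ((d : G) * d')⁻¹ =
            (g * (d : G) * g⁻¹ * (d : G)⁻¹) * (g * (d' : G) * g⁻¹ * (d' : G)⁻¹)
          have hcd := Subgroup.mem_centralizer_iff.1 (hmem d').1 d d.2
          rw [show g * ((d : G) * d') * g⁻¹ * ((d : G) * d')⁻¹ = (g * (d : G) * g⁻¹ * (d : G)⁻¹) *
            ((d : G) * (g * (d' : G) * g⁻¹ * (d' : G)⁻¹) * (d : G)⁻¹) by group, hcd,
            mul_inv_cancel_right]) }
    haveI : Group.IsSolvable (C ⊓ D : Subgroup G) :=
      Group.isSolvable_of_comm fun u v => IsMulCommutative.is_comm.comm u v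
    have hδ := perfect_hom_eq_one hperf δ
    refine (QuotientGroup.eq_one_iff _).2 (Subgroup.mem_centralizer_iff.2 fun d hd => ?_)
    have h1 : g * d * g⁻¹ * d⁻¹ = 1 :=
      congrArg (fun F : D →* (C ⊓ D : Subgroup G) => ((F ⟨d, hd⟩ : (C ⊓ D : Subgroup G)) : G)) hδ
    exact (mul_inv_eq_iff_eq_mul.1 (mul_inv_eq_one.1 h1)).symm
  set cn := (MulEquiv.ofBijective _ (Cfsg.Agent.S2119.result 5 (by norm_num) (by norm_num))) with hcn
  set f := cn.symm.toMonoidHom.comp ((MulAut.congr eA).toMonoidHom.comp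
    ((MulAut.conjNormal : (G ⧸ C) →* MulAut A).comp π)) with hf
  have hfk : f.ker = C := by
    refine le_antisymm (fun g hg => ?_) (fun g hg => ?_)
    · have h1 : (MulAut.conjNormal : (G ⧸ C) →* MulAut A) (π g) = 1 :=
        (MulAut.congr eA).injective (cn.symm.injective (by rw [map_one, map_one]; exact hg))
      refine (QuotientGroup.eq_one_iff g).1 (hcA _ fun x hx => ?_)
      have := congrArg (fun a : MulAut A => ((a ⟨x, hx⟩ : A) : G ⧸ C)) h1
      simp only [MulAut.conjNormal_apply, MulAut.one_apply] at this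
      exact mul_inv_eq_iff_eq_mul.1 this
    · show f g = 1
      rw [hf, MonoidHom.comp_apply, MonoidHom.comp_apply, MonoidHom.comp_apply,
        show π g = 1 from (QuotientGroup.eq_one_iff g).2 hg, map_one, map_one, map_one]
  haveI hZ := isZGroup_of_two h C hCM
  have hrange : Nat.card f.range = 60 ∨ Nat.card f.range = 120 := by
    have hS5 : Nat.card (Equiv.Perm (Fin 5)) = 120 := by
      rw [Nat.card_eq_fintype_card, Fintype.card_perm, Fintype.card_fin]; rfl
    have h1 : Nat.card f.range = C.index := by rw [← Subgroup.index_ker, hfk]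
    have h2 : 60 ∣ C.index := by
      rw [← hA60, Subgroup.index_eq_card]; exact Subgroup.card_subgroup_dvd_card A
    have h3 : Nat.card f.range ≤ 120 := hS5 ▸ Subgroup.card_le_card_group _
    rw [h1] at h3 ⊢
    obtain ⟨k, hk⟩ := h2
    have := C.index_ne_zero_of_finite
    omega
  have hS5 : Nat.card (Equiv.Perm (Fin 5)) = 120 := by
    rw [Nat.card_eq_fintype_card, Fintype.card_perm, Fintype.card_fin]; rfl
  refine ⟨C, inferInstance, hZ, ?_⟩
  rcases hrange with h60 | h120
  · left
    have hr : f.range = alternatingGroup (Fin 5) := by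
      refine Equiv.Perm.eq_alternatingGroup_of_index_eq_two ?_
      have := f.range.card_mul_index
      rw [h60, hS5] at this
      omega
    refine ⟨(MulEquiv.subgroupCongr hr).toMonoidHom.comp f.rangeRestrict,
      (MulEquiv.subgroupCongr hr).surjective.comp f.rangeRestrict_surjective, ?_⟩
    rw [MonoidHom.ker_comp_of_injective _ _ (MulEquiv.subgroupCongr hr).injective, MonoidHom.ker_rangeRestrict, hfk]
  · right
    exact ⟨f, MonoidHom.range_eq_top.1 (Subgroup.eq_top_of_card_eq _ (by rw [h120, hS5])), hfk⟩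

end Cfsg.Agent.FpfQuotient
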