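import Mathlib

/-!
In a field of characteristic zero which contains a square root of five and an element whose order is a
prime `r ≥ 7`, minus one is a sum of two squares.
-/

set_option autoImplicit false

namespace Cfsg.Agent.FpfSumSquares

open Polynomial Finset

section identity

variable (p : ℕ) [hp : Fact p.Prime]

local notation "L" => CyclotomicField p ℚ

/-- Gauss's decomposition of the cyclotomic polynomial of a prime `p ≡ 3 (mod 4)`. -/
theorem cyclotomic_eq (hp3 : p % 4 = 3) :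
    ∃ C D : ℚ[X], cyclotomic p ℚ = C * C + (p : ℚ[X]) * (D * D) := by
  classical
  haveI : NeZero p := ⟨hp.out.ne_zero⟩
  haveI : IsCyclotomicExtension {p} ℚ L := CyclotomicField.isCyclotomicExtension p ℚ
  haveI : IsGalois ℚ L := IsCyclotomicExtension.isGalois {p} ℚ L
  haveI : FiniteDimensional ℚ L := IsCyclotomicExtension.finiteDimensional {p} ℚ L
  have hp2 : ringChar (ZMod p) ≠ 2 := by rw [ZMod.ringChar_zmod_n]; omega
  obtain ⟨ω, hω⟩ : ∃ ω : L, IsPrimitiveRoot ω p :=
    ⟨_, IsCyclotomicExtension.zeta_spec p ℚ L⟩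
  set ψ : AddChar (ZMod p) L := AddChar.zmodChar p hω.pow_eq_one with hψ
  have hψprim : ψ.IsPrimitive := AddChar.zmodChar_primitive_of_primitive_root p hω
  set χ : MulChar (ZMod p) L := (quadraticChar (ZMod p)).ringHomComp (Int.castRingHom L) with hχ
  have hqm1 : quadraticChar (ZMod p) (-1) = -1 := by
    rw [quadraticChar_neg_one_iff_not_isSquare, ZMod.exists_sq_eq_neg_one_iff]
    omega
  have hχne : χ ≠ 1 := by
    intro e
    have := congrArg (fun f : MulChar (ZMod p) L => f (-1)) e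
    simp only [hχ, MulChar.ringHomComp_apply, hqm1, MulChar.one_apply isUnit_one.neg] at this
    norm_num at this
  have hχq : χ.IsQuadratic := (quadraticChar_isQuadratic (ZMod p)).comp _
  set g : L := gaussSum χ ψ with hg
  have hg2 : g ^ 2 = -(p : L) := by
    rw [hg, gaussSum_sq hχne hχq hψprim, hχ, MulChar.ringHomComp_apply, hqm1, ZMod.card]
    simp
  have hgne : g ≠ 0 := fun e => by
    rw [e] at hg2
    have := hp.out.ne_zero
    simp at hg2
    exact absurd hg2 (fun e => this (by omega))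
  -- the action of the automorphisms
  let S : Finset (ZMod p) := Finset.univ.filter fun a => quadraticChar (ZMod p) a = 1
  let T : Finset (ZMod p) := Finset.univ.filter fun a => quadraticChar (ZMod p) a = -1
  set P : L[X] := ∏ a ∈ S, (X - C (ψ a)) with hP
  set P' : L[X] := ∏ a ∈ T, (X - C (ψ a)) with hP'
  have hψapp : ∀ a : ZMod p, ψ a = ω ^ a.val := fun a => AddChar.zmodChar_apply hω.pow_eq_one a
  have hψinj : Function.Injective ψ := fun a b e => by
    rw [hψapp, hψapp] at e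
    exact ZMod.val_injective p (hω.pow_inj a.val_lt b.val_lt e)
  have hunit : ∀ σ : L ≃ₐ[ℚ] L, ∃ u : (ZMod p)ˣ, ∀ a, σ (ψ a) = ψ ((u : ZMod p) * a) := by
    intro σ
    obtain ⟨i, -, hcop, hiω⟩ := hω.isPrimitiveRoot_iff.1 (hω.map_of_injective (f := σ) σ.injective)
    refine ⟨ZMod.unitOfCoprime i hcop, fun a => ?_⟩
    rw [hψapp, map_pow, ← hiω, ← pow_mul, ← AddChar.zmodChar_apply' hω.pow_eq_one, hψ]
    simp
  have hmap : ∀ (σ : L ≃ₐ[ℚ] L) (u : (ZMod p)ˣ), (∀ a, σ (ψ a) = ψ ((u : ZMod p) * a)) →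
      (quadraticChar (ZMod p) (u : ZMod p) = 1 → P.map (σ : L →+* L) = P ∧ P'.map (σ : L →+* L) = P' ∧ σ g = g) ∧
      (quadraticChar (ZMod p) (u : ZMod p) = -1 → P.map (σ : L →+* L) = P' ∧ P'.map (σ : L →+* L) = P ∧ σ g = -g) := by
    intro σ u hu
    have hprod : ∀ (U W : Finset (ZMod p)), (∀ a, a ∈ U ↔ (u : ZMod p) * a ∈ W) →
        (∏ a ∈ U, (X - C (ψ a))).map (σ : L →+* L) = ∏ a ∈ W, (X - C (ψ a)) := by
      intro U W hUW
      rw [Polynomial.map_prod]
      refine Finset.prod_equiv (Units.mulLeft u) hUW (fun a _ => ?_)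
      rw [Polynomial.map_sub, Polynomial.map_X, Polynomial.map_C]
      show X - C (σ (ψ a)) = _
      rw [hu]; rfl
    have hgmap : σ g = χ (u : ZMod p) * g := by
      have h1 : σ g = gaussSum χ (ψ.mulShift (u : ZMod p)) := by
        rw [hg, gaussSum, gaussSum, map_sum]
        refine Finset.sum_congr rfl fun a _ => ?_
        rw [map_mul, hu, AddChar.mulShift_apply]
        congr 1
        rw [hχ, MulChar.ringHomComp_apply]
        exact map_intCast σ _
      rw [h1, gaussSum_mulShift_eq, hχq.inv]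
    constructor <;> intro hu' <;> refine ⟨hprod _ _ ?_, hprod _ _ ?_, ?_⟩
    · intro a; simp only [S, Finset.mem_filter, Finset.mem_univ, true_and, map_mul, hu', one_mul]
    · intro a; simp only [T, Finset.mem_filter, Finset.mem_univ, true_and, map_mul, hu', one_mul]
    · rw [hgmap, hχ, MulChar.ringHomComp_apply, hu']; simp
    · intro a; simp only [S, T, Finset.mem_filter, Finset.mem_univ, true_and, map_mul, hu', neg_mul, one_mul, neg_inj]
    · intro a; simp only [S, T, Finset.mem_filter, Finset.mem_univ, true_and, map_mul, hu', neg_mul, one_mul, neg_eq_iff_eq_neg]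
    · rw [hgmap, hχ, MulChar.ringHomComp_apply, hu']; simp
  set e : L[X] := C (2 : L)⁻¹ * (P + P') with he
  set f : L[X] := C (2 * g)⁻¹ * (P - P') with hf
  have hfix : ∀ σ : L ≃ₐ[ℚ] L, e.map (σ : L →+* L) = e ∧ f.map (σ : L →+* L) = f := by
    intro σ
    obtain ⟨u, hu⟩ := hunit σ
    obtain ⟨h1, h2⟩ := hmap σ u hu
    rcases quadraticChar_dichotomy u.ne_zero with hu' | hu'
    · obtain ⟨a, b, c⟩ := h1 hu'
      constructor
      · rw [he, Polynomial.map_mul, Polynomial.map_add, Polynomial.map_C, a, b]; simp [map_ofNat]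
      · rw [hf, Polynomial.map_mul, Polynomial.map_sub, Polynomial.map_C, a, b]
        congr 2
        show σ (2 * g)⁻¹ = _
        rw [map_inv₀, map_mul, c]; simp [map_ofNat]
    · obtain ⟨a, b, c⟩ := h2 hu'
      constructor
      · rw [he, Polynomial.map_mul, Polynomial.map_add, Polynomial.map_C, a, b, add_comm P']; simp [map_ofNat]
      · rw [hf, Polynomial.map_mul, Polynomial.map_sub, Polynomial.map_C, a, b]
        have hc : (σ : L →+* L) (2 * g)⁻¹ = -(2 * g)⁻¹ := by
          show σ (2 * g)⁻¹ = _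
          rw [map_inv₀, map_mul, c]; simp [map_ofNat]
        rw [hc, map_neg]; ring
  have hlift : ∀ Q : L[X], (∀ σ : L ≃ₐ[ℚ] L, Q.map (σ : L →+* L) = Q) →
      ∃ Q₀ : ℚ[X], Q₀.map (algebraMap ℚ L) = Q := by
    intro Q hQ
    refine (Polynomial.mem_lifts Q).1 ((Polynomial.lifts_iff_coeff_lifts Q).2 fun n => ?_)
    refine (IsGalois.mem_range_algebraMap_iff_fixed _).2 fun σ => ?_
    conv_rhs => rw [← hQ σ]
    rw [Polynomial.coeff_map]; rfl
  obtain ⟨E₀, hE₀⟩ := hlift e fun σ => (hfix σ).1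
  obtain ⟨F₀, hF₀⟩ := hlift f fun σ => (hfix σ).2
  refine ⟨E₀, F₀, Polynomial.map_injective (algebraMap ℚ L) (algebraMap ℚ L).injective ?_⟩
  rw [Polynomial.map_cyclotomic, Polynomial.map_add, Polynomial.map_mul, Polynomial.map_mul,
    Polynomial.map_mul, Polynomial.map_natCast, hE₀, hF₀]
  have hPP : cyclotomic p L = P * P' := by
    have hdisj : Disjoint S T := Finset.disjoint_filter.2 fun a _ h1 h2 => by omega
    rw [cyclotomic_eq_prod_X_sub_primitiveRoots hω, hP, hP', ← Finset.prod_union hdisj]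
    symm
    refine Finset.prod_nbij ψ (fun a ha => ?_) hψinj.injOn (fun z hz => ?_) (fun a _ => rfl)
    · rw [mem_primitiveRoots hp.out.pos, hψapp]
      refine hω.pow_of_coprime _ ?_
      have ha0 : a ≠ 0 := by
        rintro rfl
        simp [S, T] at ha
      exact (ZMod.val_coe_unit_coprime (Units.mk0 a ha0))
    · rw [Finset.mem_coe, mem_primitiveRoots hp.out.pos, hω.isPrimitiveRoot_iff] at hz
      obtain ⟨i, -, hcop, rfl⟩ := hz
      refine ⟨(i : ZMod p), ?_, AddChar.zmodChar_apply' hω.pow_eq_one i⟩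
      have hi0 : (i : ZMod p) ≠ 0 := by
        rw [Ne, ZMod.natCast_eq_zero_iff]
        exact hp.out.coprime_iff_not_dvd.1 hcop.symm
      simp only [S, T, Finset.coe_union, Finset.coe_filter, Finset.mem_univ, true_and, Set.mem_union, Set.mem_setOf_eq]
      exact quadraticChar_dichotomy hi0
  rw [hPP, he, hf]
  have hgg : C g * C g = -(p : L[X]) := by
    rw [← C_mul, ← pow_two, hg2, map_neg, map_natCast]
  have h2g : C (2 * g)⁻¹ * C g = C (2 : L)⁻¹ := by
    rw [← C_mul]; congr 1; field_simp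
  have h22 : C (2 : L)⁻¹ * 2 = 1 := by
    rw [show (2 : L[X]) = C 2 from (map_ofNat C 2).symm, ← C_mul, inv_mul_cancel₀ two_ne_zero, map_one]
  linear_combination -((P - P') ^ 2 * C (2 * g)⁻¹ ^ 2) * hgg +
    ((P - P') ^ 2 * (C (2 * g)⁻¹ * C g + C (2 : L)⁻¹)) * h2g -
    P * P' * (C (2 : L)⁻¹ * 2 + 1) * h22

end identity

/-- Sums `a² + p b²`. -/
def IsNorm {F : Type*} [Field F] (p : ℕ) (u : F) : Prop := ∃ a b : F, u = a * a + (p : F) * (b * b)

theorem IsNorm.mul {F : Type*} [Field F] {p : ℕ} {u w : F} (hu : IsNorm p u) (hw : IsNorm p w) :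
    IsNorm p (u * w) := by
  obtain ⟨a, b, rfl⟩ := hu
  obtain ⟨c, d, rfl⟩ := hw
  exact ⟨a * c - (p : F) * (b * d), a * d + b * c, by ring⟩

/-- The prime `p ≡ 7 (mod 20)` is a sum of two squares over `ℚ(√5)`. -/
theorem exists_two_p {p : ℕ} [hp : Fact p.Prime] (hp20 : p % 20 = 7) :
    ∃ u v : ℚ, 2 * (p : ℚ) = u * u + 5 * (v * v) := by
  have hp5 : p % 5 = 2 := by omega
  have hm1 : ¬ IsSquare (-1 : ZMod p) := by rw [ZMod.exists_sq_eq_neg_one_iff]; omega
  have h5 : ¬ IsSquare (5 : ZMod p) := by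
    haveI : Fact (Nat.Prime 5) := ⟨by norm_num⟩
    have h := ZMod.exists_sq_eq_prime_iff_of_mod_four_eq_one (p := 5) (q := p) (by norm_num) (by omega)
    rw [show (p : ZMod 5) = 2 by rw [← ZMod.natCast_mod p 5, hp5]; rfl] at h
    intro hs
    have : IsSquare (2 : ZMod 5) := by
      first
        | exact h.mp (by exact_mod_cast hs)
        | exact h.mpr (by exact_mod_cast hs)
    obtain ⟨w, hw⟩ := this
    revert hw
    clear h hs
    revert w
    decide +revert
  obtain ⟨s, hs⟩ : IsSquare (-5 : ZMod p) := by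
    have hne : ∀ a : ZMod p, ¬ IsSquare a → a ≠ 0 := fun a ha e => ha (e ▸ IsSquare.zero)
    rw [← quadraticChar_one_iff_isSquare (neg_ne_zero.2 (hne _ h5)), show (-5 : ZMod p) = -1 * 5 by ring,
      map_mul, quadraticChar_neg_one_iff_not_isSquare.2 hm1, quadraticChar_neg_one_iff_not_isSquare.2 h5]
    norm_num
  set n := Nat.sqrt p with hn
  have hcard : Fintype.card (ZMod p) < Fintype.card (Fin (n + 1) × Fin (n + 1)) := by
    rw [Fintype.card_prod, Fintype.card_fin, ZMod.card]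
    exact Nat.lt_succ_sqrt p
  obtain ⟨⟨a, b⟩, ⟨c, d⟩, hne, heq⟩ := Fintype.exists_ne_map_eq_of_card_lt
    (fun w : Fin (n + 1) × Fin (n + 1) => ((w.1 : ℕ) : ZMod p) - s * ((w.2 : ℕ) : ZMod p)) hcard
  set u : ℤ := (a : ℕ) - (c : ℕ) with hu
  set v : ℤ := (b : ℕ) - (d : ℕ) with hv
  have huv : (u : ZMod p) = s * (v : ZMod p) := by
    rw [hu, hv]; push_cast
    have heq' : ((a : ℕ) : ZMod p) - s * ((b : ℕ) : ZMod p) = ((c : ℕ) : ZMod p) - s * ((d : ℕ) : ZMod p) := heq
    linear_combination heq'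
  obtain ⟨k, hk⟩ : (p : ℤ) ∣ u * u + 5 * (v * v) := by
    rw [← ZMod.intCast_zmod_eq_zero_iff_dvd]
    push_cast
    rw [huv]
    linear_combination -((v : ZMod p) * (v : ZMod p)) * hs
  have hsq : ((n : ℤ)) * n < p := by
    have h1 : n * n ≤ p := Nat.sqrt_le p
    have h2 : n * n ≠ p := fun e => by
      rcases hp.out.eq_one_or_self_of_dvd n ⟨n, e.symm⟩ with h | h
      · rw [h] at e; exact hp.out.ne_one e.symm
      · rw [h] at e
        have := hp.out.two_le
        nlinarith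
    exact_mod_cast lt_of_le_of_ne h1 h2
  have hub : u * u ≤ (n : ℤ) * n := by
    have := a.2; have := c.2
    nlinarith [show -(n : ℤ) ≤ u ∧ u ≤ n from ⟨by omega, by omega⟩]
  have hvb : v * v ≤ (n : ℤ) * n := by
    have := b.2; have := d.2
    nlinarith [show -(n : ℤ) ≤ v ∧ v ≤ n from ⟨by omega, by omega⟩]
  have hpos : 0 < u * u + 5 * (v * v) := by
    rcases eq_or_ne u 0 with h | h
    · rcases eq_or_ne v 0 with h' | h'
      · exfalso
        apply hne
        rw [hu] at h; rw [hv] at h'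
        ext <;> simp <;> omega
      · have := mul_self_pos.2 h'; nlinarith
    · have := mul_self_pos.2 h; nlinarith [mul_self_nonneg v]
  have hp0 : (0 : ℤ) < p := by exact_mod_cast hp.out.pos
  have hk0 : 0 < k := by
    by_contra hle
    nlinarith
  have hk6 : k < 6 := by
    by_contra hle
    nlinarith
  have hmod : ∀ x y : ℤ, x * x + 5 * (y * y) = (p : ℤ) → False := by
    intro x y hxy
    have h4 := congrArg (fun z : ℤ => (z : ZMod 4)) hxy
    push_cast at h4
    rw [show (p : ZMod 4) = 3 by rw [← ZMod.natCast_mod p 4, show p % 4 = 3 by omega]; rfl] at h4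
    generalize (x : ZMod 4) = X at h4
    generalize (y : ZMod 4) = Y at h4
    revert X Y
    decide
  interval_cases k
  · exact (hmod u v (by linarith)).elim
  · exact ⟨u, v, by have : (2 : ℤ) * p = u * u + 5 * (v * v) := by linarith
                    exact_mod_cast this⟩
  · refine ⟨(u - 5 * v) / 3, (u + v) / 3, ?_⟩
    have : (3 : ℚ) * p = u * u + 5 * (v * v) := by
      exact_mod_cast (by linarith : (3 : ℤ) * p = u * u + 5 * (v * v))
    linear_combination (2 / 3 : ℚ) * this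
  · exfalso
    have h4 := congrArg (fun z : ℤ => (z : ZMod 4)) hk
    push_cast at h4
    rw [show (p : ZMod 4) * 4 = 0 by rw [show (4 : ZMod 4) = 0 from rfl, mul_zero]] at h4
    have key : ∀ X Y : ZMod 4, X * X + 5 * (Y * Y) = 0 → ((X = 0 ∨ X = 2) ∧ (Y = 0 ∨ Y = 2)) := by decide
    have h2 : ∀ z : ℤ, ((z : ZMod 4) = 0 ∨ (z : ZMod 4) = 2) → 2 ∣ z := by
      intro z hz
      rcases hz with h | h
      · exact dvd_trans ⟨2, rfl⟩ ((ZMod.intCast_zmod_eq_zero_iff_dvd z 4).1 h)
      · have : ((z - 2 : ℤ) : ZMod 4) = 0 := by push_cast; rw [h, sub_self]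
        have := (ZMod.intCast_zmod_eq_zero_iff_dvd _ 4).1 this
        omega
    obtain ⟨hx, hy⟩ := key _ _ h4
    obtain ⟨u', hu'⟩ := h2 u hx
    obtain ⟨v', hv'⟩ := h2 v hy
    exact hmod u' v' (by rw [hu', hv'] at hk; linarith)
  · exfalso
    obtain ⟨u', hu'⟩ : (5 : ℤ) ∣ u * u := ⟨(p : ℤ) - v * v, by linarith⟩
    obtain ⟨w, hw⟩ := (Int.prime_iff_natAbs_prime.2 (by norm_num) : Prime (5 : ℤ)).dvd_or_dvd ⟨u', hu'⟩ |>.elim id id
    exact hmod v w (by rw [hw] at hk; linarith)

/-- Minus one is a sum of two squares. -/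
theorem exists_sq_add_sq {F : Type*} [Field F] [CharZero F] {s x : F} (hs : s * s = 5) {r : ℕ}
    (hr : r.Prime) (hr2 : r ≠ 2) (hr5 : r ≠ 5) (hx : x ^ r = 1) (hx1 : x ≠ 1) :
    ∃ a b : F, a * a + b * b = -1 := by
  haveI := Fact.mk hr
  -- choice of the prime
  obtain ⟨a₀, ha₀⟩ := quadraticChar_exists_neg_one (F := ZMod r) (by rw [ZMod.ringChar_zmod_n]; exact hr2)
  have hr20 : Nat.Coprime 20 r := by
    rw [show (20 : ℕ) = 2 * 2 * 5 by norm_num]
    refine ((Nat.Coprime.mul_left ?_ ?_).mul_left ?_) <;>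
      exact (Nat.coprime_primes (by norm_num) hr).2 (Ne.symm (by assumption))
  obtain ⟨c, hc7, hca⟩ := Nat.chineseRemainder hr20 7 a₀.val
  have ha0 : a₀ ≠ 0 := fun e => by rw [e, MulChar.map_zero] at ha₀; norm_num at ha₀
  haveI : NeZero (20 * r) := ⟨by have := hr.pos; positivity⟩
  have hcr : (c : ZMod r) = a₀ := by
    rw [(ZMod.natCast_eq_natCast_iff _ _ _).2 hca, ZMod.natCast_zmod_val]
  have hcunit : IsUnit (c : ZMod (20 * r)) := by
    rw [ZMod.isUnit_iff_coprime]
    refine Nat.Coprime.mul_right ?_ ?_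
    · rw [Nat.Coprime, Nat.gcd_comm, Nat.gcd_rec, hc7]
      rfl
    · rw [← ZMod.isUnit_iff_coprime, hcr]; exact isUnit_iff_ne_zero.2 ha0
  obtain ⟨p, -, hpp, hpc⟩ := Nat.forall_exists_prime_gt_and_eq_mod hcunit 0
  haveI := Fact.mk hpp
  rw [ZMod.natCast_eq_natCast_iff] at hpc
  have hp20 : p % 20 = 7 := by
    have h1 : p % 20 = c % 20 := hpc.of_dvd ⟨r, rfl⟩
    rw [h1]; exact hc7
  have hpr : (p : ZMod r) = a₀ := by
    rw [← hcr, ZMod.natCast_eq_natCast_iff]
    exact hpc.of_dvd ⟨20, mul_comm _ _⟩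
  have hord : (p : ZMod r) ^ (r / 2) = -1 := by
    rw [hpr]
    have := quadraticChar_eq_pow_of_char_ne_two' (by rw [ZMod.ringChar_zmod_n]; exact hr2) a₀
    rw [ha₀, ZMod.card] at this
    push_cast at this
    exact this.symm
  obtain ⟨A, B, hAB⟩ := cyclotomic_eq p (by omega)
  have hPhi : ∀ y : F, IsNorm p ((cyclotomic p F).eval y) := by
    intro y
    refine ⟨(A.map (algebraMap ℚ F)).eval y, (B.map (algebraMap ℚ F)).eval y, ?_⟩
    have := congrArg (fun Q : ℚ[X] => (Q.map (algebraMap ℚ F)).eval y) hAB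
    simpa [Polynomial.map_cyclotomic] using this
  have hxm : ∀ k : ℕ, x ^ k = 1 ↔ r ∣ k := by
    intro k
    rw [← orderOf_dvd_iff_pow_eq_one, orderOf_eq_prime hx hx1]
  have hprod : ∀ j : ℕ, IsNorm p ((x ^ p ^ j - 1) / (x - 1)) := by
    intro j
    induction j with
    | zero => exact ⟨1, 0, by rw [pow_zero, pow_one, div_self (sub_ne_zero.2 hx1)]; ring⟩
    | succ j ih =>
      have h1 : (cyclotomic p F).eval (x ^ p ^ j) * (x ^ p ^ j - 1) = x ^ p ^ (j + 1) - 1 := by
        have := congrArg (fun Q : F[X] => Q.eval (x ^ p ^ j)) (cyclotomic_prime_mul_X_sub_one F p)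
        simpa [← pow_mul, pow_succ] using this
      rw [← h1, mul_div_assoc]
      exact (hPhi _).mul ih
  have hlast : x ^ p ^ (r / 2) = x⁻¹ := by
    refine eq_inv_of_mul_eq_one_left ?_
    rw [← pow_succ, hxm, ← ZMod.natCast_eq_zero_iff]
    push_cast
    rw [hord]; ring
  have hx0 : x ≠ 0 := fun e => by rw [e, zero_pow hr.ne_zero] at hx; exact zero_ne_one hx
  obtain ⟨a, b, hab⟩ := hprod (r / 2)
  rw [hlast, show (x⁻¹ - 1) / (x - 1) = -x⁻¹ by
    rw [div_eq_iff (sub_ne_zero.2 hx1)]; field_simp; ring] at hab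
  -- clear the factor `x`
  set z := x ^ ((r + 1) / 2) with hz
  have hzz : z * z = x := by
    have hodd := hr.odd_of_ne_two hr2
    obtain ⟨k, hk⟩ := hodd
    rw [hz, ← pow_add, show (r + 1) / 2 + (r + 1) / 2 = r + 1 by omega, pow_succ, hx, one_mul]
  have h3 : (z * a) * (z * a) + (p : F) * ((z * b) * (z * b)) = -1 := by
    have : (a * a + (p : F) * (b * b)) * x = -1 := by rw [← hab, neg_mul, inv_mul_cancel₀ hx0]
    linear_combination this + (a * a + (p : F) * (b * b)) * hzz
  obtain ⟨u, v, huv⟩ := exists_two_p (p := p) hp20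
  have hpF : (p : F) = (((u : F) + s * v) / 2) ^ 2 + (((u : F) - s * v) / 2) ^ 2 := by
    have : (2 : F) * p = (u : F) * u + 5 * ((v : F) * v) := by exact_mod_cast congrArg (fun q : ℚ => (q : F)) huv
    linear_combination (1 / 2 : F) * this - ((v : F) * v / 2) * hs
  set α := ((u : F) + s * v) / 2
  set β := ((u : F) - s * v) / 2
  set a' := z * a
  set b₁ := α * (z * b)
  set c₁ := β * (z * b)
  have h4 : a' * a' + b₁ * b₁ + c₁ * c₁ = -1 := by
    linear_combination h3 - ((z * b) * (z * b)) * hpF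
  clear_value a' b₁ c₁
  by_cases h1a : 1 + a' * a' = 0
  · exact ⟨a', 0, by linear_combination h1a⟩
  refine ⟨(b₁ + a' * c₁) / (1 + a' * a'), (c₁ - a' * b₁) / (1 + a' * a'), ?_⟩
  rw [div_mul_div_comm, div_mul_div_comm, ← add_div, div_eq_iff (mul_ne_zero h1a h1a)]
  linear_combination (1 + a' * a') * h4

end Cfsg.Agent.FpfSumSquares
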