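import Mathlib
import Cfsg.Agent.Lib.FpfQuotient
import Cfsg.Agent.Lib.FpfSumSquares
import Cfsg.Agent.Lib.FpfPairs

/-!
Finite subgroups of division rings: the binary icosahedral group has no proper finite overgroup.
-/

set_option autoImplicit false
set_option linter.style.haveILetI false

namespace Cfsg.Agent.FpfDivision

variable {D : Type*} [DivisionRing D]

theorem eq_or_eq_neg {a b : D} (hc : a * b = b * a) (h : a * a = b * b) : a = b ∨ a = -b := by
  have h1 : (a - b) * (a + b) = 0 := by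
    calc (a - b) * (a + b) = a * a - b * b + (a * b - b * a) := by noncomm_ring
      _ = 0 := by rw [h, hc, sub_self, sub_self, add_zero]
  rcases mul_eq_zero.1 h1 with h2 | h2
  · exact .inl (sub_eq_zero.1 h2)
  · exact .inr (eq_neg_of_add_eq_zero_left h2)

theorem cube_root {X : D} (h : X * X * X = 1) (h1 : X ≠ 1) : X * X + X = -1 := by
  have h2 : (X - 1) * (X * X + X + 1) = 0 := by
    calc (X - 1) * (X * X + X + 1) = X * X * X - 1 := by noncomm_ring
      _ = 0 := by rw [h, sub_self]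
  exact eq_neg_of_add_eq_zero_left ((mul_eq_zero.1 h2).resolve_left (sub_ne_zero.2 h1))

/-- `X Y + (X Y)⁻¹` for elements of order three. -/
def trace (X Y : D) : D := 1 + X + Y + X * Y + Y * X

theorem trace_comm_left {X Y : D} (hX : X * X + X = -1) : X * trace X Y = trace X Y * X := by
  rw [← sub_eq_zero]
  calc X * trace X Y - trace X Y * X = (X * X + X) * Y - Y * (X * X + X) := by
        simp only [trace]; noncomm_ring
    _ = 0 := by rw [hX]; noncomm_ring

theorem trace_symm (X Y : D) : trace X Y = trace Y X := by simp only [trace]; abel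

theorem trace_eq {X Y : D} (hX : X * X + X = -1) (hY : Y * Y + Y = -1) :
    trace X Y = X * Y + (Y * Y) * (X * X) := by
  rw [show Y * Y = -1 - Y from eq_sub_of_add_eq hY, show X * X = -1 - X from eq_sub_of_add_eq hX]
  simp only [trace]; noncomm_ring

/-- The square root of five attached to two elements of order three whose product has order five up to sign. -/
theorem exists_sqrt_five {X Y δ : D} (hX : X * X * X = 1) (hX1 : X ≠ 1) (hY : Y * Y * Y = 1) (hY1 : Y ≠ 1)
    (hδ : δ = 1 ∨ δ = -1) (hZ : (X * Y) ^ 5 = δ) (hZ1 : δ * (X * Y) ≠ 1) :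
    ∃ t : D, t * t = 1 - t ∧ X * t = t * X ∧ Y * t = t * Y ∧ t = δ * trace X Y := by
  have hX' := cube_root hX hX1
  have hY' := cube_root hY hY1
  have hδ2 : δ * δ = 1 := by rcases hδ with rfl | rfl <;> simp
  have hδc : ∀ a : D, δ * a = a * δ := fun a => by rcases hδ with rfl | rfl <;> simp
  refine ⟨δ * trace X Y, ?_, ?_, ?_, rfl⟩
  · set Z := δ * (X * Y) with hZdef
    have hZ5 : Z ^ 5 = 1 := by
      rw [hZdef, (show Commute δ (X * Y) from hδc _).mul_pow, hZ, ← pow_succ]
      rcases hδ with rfl | rfl <;> norm_num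
    have hs : 1 + Z + Z ^ 2 + Z ^ 3 + Z ^ 4 = 0 := by
      have h2 : (Z - 1) * (1 + Z + Z ^ 2 + Z ^ 3 + Z ^ 4) = 0 := by
        calc (Z - 1) * (1 + Z + Z ^ 2 + Z ^ 3 + Z ^ 4) = Z ^ 5 - 1 := by noncomm_ring
          _ = 0 := by rw [hZ5, sub_self]
      exact (mul_eq_zero.1 h2).resolve_left (sub_ne_zero.2 hZ1)
    have hinv : δ * ((Y * Y) * (X * X)) = Z ^ 4 := by
      have h3 : Z * (δ * ((Y * Y) * (X * X))) = 1 := by
        rw [hZdef, mul_assoc δ, ← mul_assoc (X * Y) δ, ← hδc, mul_assoc δ, ← mul_assoc δ δ, hδ2, one_mul,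
          show X * Y * (Y * Y * (X * X)) = X * (Y * Y * Y) * (X * X) by noncomm_ring, hY, mul_one,
          ← mul_assoc, hX]
      have hZ0 : Z ≠ 0 := fun e => by rw [e, zero_mul] at h3; exact zero_ne_one h3
      apply mul_left_cancel₀ hZ0
      rw [h3, ← pow_succ', hZ5]
    rw [trace_eq hX' hY', mul_add, hinv, ← hZdef]
    calc (Z + Z ^ 4) * (Z + Z ^ 4) = Z ^ 2 + Z ^ 5 + Z ^ 5 + Z ^ 5 * Z ^ 3 := by noncomm_ring
      _ = (1 + Z + Z ^ 2 + Z ^ 3 + Z ^ 4) + (1 - (Z + Z ^ 4)) := by rw [hZ5]; noncomm_ring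
      _ = 1 - (Z + Z ^ 4) := by rw [hs, zero_add]
  · rw [← mul_assoc, ← hδc, mul_assoc, trace_comm_left hX', mul_assoc]
  · rw [← mul_assoc, ← hδc, mul_assoc, trace_symm, trace_comm_left hY', mul_assoc]

theorem sq_five {t : D} (ht : t * t = 1 - t) : (2 * t + 1) * (2 * t + 1) = 5 := by
  calc (2 * t + 1) * (2 * t + 1) = 4 * (t * t) + 4 * t + 1 := by noncomm_ring
    _ = 5 := by rw [ht]; noncomm_ring; norm_num

/-- Two anticommuting square roots of minus one and a central field in which minus one is a sum of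
two squares give a zero divisor. -/
theorem no_split [CharZero D] {I J : D} (hI : I * I = -1) (hJ : J * J = -1) (hIJ : J * I = -(I * J))
    {s m : D} (hs : s * s = 5) (hsm : s * m = m * s) (hsI : I * s = s * I) (hsJ : J * s = s * J)
    (hmI : I * m = m * I) (hmJ : J * m = m * J) {r : ℕ} (hr : r.Prime) (hr2 : r ≠ 2) (hr5 : r ≠ 5)
    (hm : m ^ r = 1) (hm1 : m ≠ 1) : False := by
  set C : Subring D := Subring.centralizer ({s, m} : Set D) with hC
  set F : Subring D := Subring.centralizer (C : Set D) with hF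
  have hsC : s ∈ C := by
    rw [hC, Subring.mem_centralizer_iff]
    rintro g (rfl | rfl)
    · rfl
    · exact hsm.symm
  have hmC : m ∈ C := by
    rw [hC, Subring.mem_centralizer_iff]
    rintro g (rfl | rfl)
    · exact hsm
    · rfl
  have hsF : s ∈ F := Subring.mem_centralizer_iff.2 fun g hg =>
    ((Subring.mem_centralizer_iff.1 hg) s (Or.inl rfl)).symm
  have hmF : m ∈ F := Subring.mem_centralizer_iff.2 fun g hg =>
    ((Subring.mem_centralizer_iff.1 hg) m (Or.inr rfl)).symm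
  have hFC : ∀ a ∈ F, a ∈ C := fun a ha => by
    rw [hC, Subring.mem_centralizer_iff]
    rintro g (rfl | rfl)
    · exact Subring.mem_centralizer_iff.1 ha g hsC
    · exact Subring.mem_centralizer_iff.1 ha g hmC
  have hfield : IsField F :=
    ⟨⟨0, 1, fun e => zero_ne_one (congrArg Subtype.val e)⟩,
      fun a b => Subtype.ext ((Subring.mem_centralizer_iff.1 a.2 b (hFC b b.2)).symm),
      fun {a} ha => by
        have ha' : (a : D) ≠ 0 := fun e => ha (Subtype.ext e)
        refine ⟨⟨(a : D)⁻¹, Subring.mem_centralizer_iff.2 fun g hg => ?_⟩, Subtype.ext (mul_inv_cancel₀ ha')⟩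
        exact (Commute.inv_right₀ (show Commute g (a : D) from Subring.mem_centralizer_iff.1 a.2 g hg))⟩
  letI := hfield.toField
  haveI : CharZero F := ⟨fun a b e => Nat.cast_injective (congrArg (Subtype.val : F → D) e)⟩
  obtain ⟨a, b, hab⟩ := FpfSumSquares.exists_sq_add_sq (F := F) (s := ⟨s, hsF⟩) (x := ⟨m, hmF⟩)
    (Subtype.ext hs) hr hr2 hr5 (Subtype.ext hm) (fun e => hm1 (congrArg Subtype.val e))
  have hab' : (a : D) * a + (b : D) * b = -1 := congrArg Subtype.val hab
  have hcomm : ∀ u ∈ C, ∀ c : F, u * (c : D) = (c : D) * u := fun u hu c =>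
    Subring.mem_centralizer_iff.1 c.2 u hu
  have hIC : I ∈ C := by
    rw [hC, Subring.mem_centralizer_iff]; rintro g (rfl | rfl)
    exacts [hsI.symm, hmI.symm]
  have hJC : J ∈ C := by
    rw [hC, Subring.mem_centralizer_iff]; rintro g (rfl | rfl)
    exacts [hsJ.symm, hmJ.symm]
  have hba : (b : D) * a = (a : D) * b := hcomm _ (hFC b b.2) a
  set u : D := (a : D) * I + (b : D) * J with hu
  have huu : u * u = 1 := by
    calc u * u = (a : D) * (I * a) * I + (a : D) * (I * b) * J + (b : D) * (J * a) * I + (b : D) * (J * b) * J := by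
          rw [hu]; noncomm_ring
      _ = (a : D) * a * (I * I) + (a : D) * b * (I * J) + (b : D) * a * (J * I) + (b : D) * b * (J * J) := by
          rw [hcomm I hIC a, hcomm I hIC b, hcomm J hJC a, hcomm J hJC b]; noncomm_ring
      _ = -((a : D) * a + (b : D) * b) := by rw [hI, hJ, hIJ, hba]; noncomm_ring
      _ = 1 := by rw [hab', neg_neg]
  have hK : I * J * u = -(u * (I * J)) := by
    have h1 : I * J * I = J := by
      rw [mul_assoc, hIJ, mul_neg, ← mul_assoc, hI, neg_mul, one_mul, neg_neg]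
    have h2 : I * (I * J) = -J := by rw [← mul_assoc, hI, neg_mul, one_mul]
    have h3 : I * J * J = -I := by rw [mul_assoc, hJ, mul_neg, mul_one]
    have h4 : J * (I * J) = I := by rw [← mul_assoc, hIJ, neg_mul, h3, neg_neg]
    calc I * J * u = I * (J * a) * I + I * (J * b) * J := by rw [hu]; noncomm_ring
      _ = I * a * (J * I) + I * b * (J * J) := by rw [hcomm J hJC a, hcomm J hJC b]; noncomm_ring
      _ = (a : D) * (I * (J * I)) + (b : D) * (I * (J * J)) := by
          rw [hcomm I hIC a, hcomm I hIC b]; noncomm_ring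
      _ = (a : D) * J + (b : D) * (-I) := by rw [← mul_assoc I J I, h1, ← mul_assoc I J J, h3]
      _ = -(u * (I * J)) := by
          rw [hu, add_mul, mul_assoc, mul_assoc (b : D), h2, h4]; noncomm_ring
  have hKne : I * J ≠ 0 := mul_ne_zero (fun e => by rw [e, zero_mul] at hI; norm_num at hI)
    (fun e => by rw [e, zero_mul] at hJ; norm_num at hJ)
  rcases eq_or_eq_neg (show u * 1 = 1 * u by rw [one_mul, mul_one]) (by rw [huu, one_mul]) with h | h
  all_goals
    rw [h] at hK
    simp only [mul_one, one_mul, mul_neg, neg_mul, neg_neg] at hK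
  · exact hKne (add_self_eq_zero.1 (eq_neg_iff_add_eq_zero.1 hK))
  · exact hKne (add_self_eq_zero.1 (neg_eq_iff_add_eq_zero.1 hK))

variable {G : Type*} [Group G]

/-- Lifts of two elements of order three generate the alternating quotient. -/
theorem sign_rel (ι : G →* D) {P : Type*} [Group P] (f : G →* P) (hker : ∀ h, f h = 1 → ι h = 1 ∨ ι h = -1)
    {h h' : G} (e : f h = f h') : ι h = ι h' ∨ ι h = -(ι h') := by
  rcases hker (h * h'⁻¹) (by rw [map_mul, map_inv, e, mul_inv_cancel]) with e' | e'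
  · left
    calc ι h = ι (h * h'⁻¹) * ι h' := by rw [← map_mul, inv_mul_cancel_right]
      _ = ι h' := by rw [e', one_mul]
  · right
    calc ι h = ι (h * h'⁻¹) * ι h' := by rw [← map_mul, inv_mul_cancel_right]
      _ = -(ι h') := by rw [e', neg_one_mul]

abbrev SL25 := Matrix.SpecialLinearGroup (Fin 2) (ZMod 5)

/-- Generators of order three. -/
def sx : SL25 := ⟨!![0, 4; 1, 4], by decide⟩

/-- Generators of order three. -/
def sy : SL25 := ⟨!![1, 2; 1, 3], by decide⟩

/-- The central involution. -/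
def sz : SL25 := ⟨!![4, 0; 0, 4], by decide⟩

/-- A word of order four. -/
def si : SL25 := sy * sx * sx * sy * sx

/-- A word of order four. -/
def sj : SL25 := sy * sy * sx * sx * sy * sy * sx

theorem sl_facts : (sx * sx * sx = 1 ∧ sx ≠ 1) ∧ (sy * sy * sy = 1 ∧ sy ≠ 1) ∧
    ((sx * sy) * (sx * sy) * (sx * sy) * (sx * sy) * (sx * sy) = sz ∧ sx * sy ≠ sz) ∧
    (sz * sz = 1 ∧ sz ≠ 1) ∧ si * si = sz ∧ sj * sj = sz ∧ sj * si = sz * (si * sj) := by
  decide +kernel

/-- No element of order a prime other than `2, 3, 5` centralises `SL(2, 5)`. -/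
theorem no_central [CharZero D] (ι : Matrix.SpecialLinearGroup (Fin 2) (ZMod 5) →* D)
    (hι : Function.Injective ι) {m : D} (hm : ∀ g, ι g * m = m * ι g) {r : ℕ} (hr : r.Prime)
    (hr2 : r ≠ 2) (hr5 : r ≠ 5) (hmr : m ^ r = 1) (hm1 : m ≠ 1) : False := by
  have hne : ∀ g, g ≠ 1 → ι g ≠ 1 := fun g hg e => hg (hι (e.trans (map_one ι).symm))
  have hzne : ∀ z : Matrix.SpecialLinearGroup (Fin 2) (ZMod 5), z * z = 1 → z ≠ 1 → ι z = -1 := fun z h2 h1 => by
    rcases eq_or_eq_neg (show ι z * 1 = 1 * ι z by rw [one_mul, mul_one]) (by rw [← map_mul, h2, map_one, one_mul]) with h | h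
    · exact absurd h (hne z h1)
    · exact h
  obtain ⟨⟨fx, fx1⟩, ⟨fy, fy1⟩, ⟨fz5, fxy⟩, ⟨fz2, fz1⟩, fi, fj, fij⟩ := sl_facts
  obtain ⟨i, hi⟩ : ∃ i, i = si := ⟨_, rfl⟩
  obtain ⟨j, hj⟩ : ∃ j, j = sj := ⟨_, rfl⟩
  rw [← hi] at fi fij
  rw [← hj] at fj fij
  rw [si] at hi
  rw [sj] at hj
  generalize sx = x at *
  generalize sy = y at *
  generalize sz = z at *
  have hz' := hzne z fz2 fz1
  obtain ⟨t, ht, htX, htY, htd⟩ := exists_sqrt_five (X := ι x) (Y := ι y) (δ := -1)
    (by rw [← map_mul, ← map_mul, fx, map_one]) (hne x fx1) (by rw [← map_mul, ← map_mul, fy, map_one])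
    (hne y fy1) (.inr rfl)
    (by rw [← map_mul, ← map_pow, show (x * y) ^ 5 = z by rw [← fz5]; simp only [pow_succ, pow_zero, one_mul], hz'])
    (fun e => fxy (hι (by rw [hz', map_mul]; rw [neg_one_mul] at e; exact (neg_eq_iff_eq_neg.1 e))))
  have hmt : Commute m t := by
    rw [htd, neg_one_mul, trace]
    have cx : Commute m (ι x) := (hm x).symm
    have cy : Commute m (ι y) := (hm y).symm
    exact ((((Commute.one_right m).add_right cx).add_right cy).add_right (cx.mul_right cy)).add_right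
      (cy.mul_right cx) |>.neg_right
  have hts : ∀ a : D, Commute a t → Commute a (2 * t + 1) := fun a ha => by
    rw [two_mul]; exact (ha.add_right ha).add_right (Commute.one_right a)
  have cX : Commute (ι x) t := htX
  have cY : Commute (ι y) t := htY
  refine no_split (I := ι i) (J := ι j) (by rw [← map_mul, fi, hz']) (by rw [← map_mul, fj, hz'])
    (by rw [← map_mul, ← map_mul, fij, map_mul, hz', neg_one_mul]) (sq_five ht)
    (hts m hmt).eq.symm (hts _ ?_).eq (hts _ ?_).eq (hm i) (hm j) hr hr2 hr5 hmr hm1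
  · rw [hi]; simp only [map_mul]
    exact (((cY.mul_left cX).mul_left cX).mul_left cY).mul_left cX
  · rw [hj]; simp only [map_mul]
    exact (((((cY.mul_left cY).mul_left cX).mul_left cX).mul_left cY).mul_left cY).mul_left cX

/-- `SL(2, 5)` has no overgroup of index two. -/
theorem no_extension [CharZero D] (ι : G →* D) (hι : Function.Injective ι) (f : G →* Equiv.Perm (Fin 5))
    (hf : Function.Surjective f) (hker : ∀ h, f h = 1 → ι h = 1 ∨ ι h = -1)
    (hneg : ∃ h, f h = 1 ∧ ι h = -1) : False := by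
  have hpm := fun {h h'} (e : f h = f h') => sign_rel ι f hker (h := h) (h' := h') e
  have hcentral : ∀ h, ι h = -1 → f h = 1 := fun h e => by
    obtain ⟨z, hz, hzι⟩ := hneg
    rw [hι (e.trans hzι.symm), hz]
  have hone : ∀ h, (ι h = 1 ∨ ι h = -1) → f h = 1 := fun h e =>
    e.elim (fun e => by rw [hι (e.trans (map_one ι).symm), map_one]) (hcentral h)
  have hsqn : ∀ h, f h * f h = 1 → f h ≠ 1 → ι h * ι h = -1 := fun h h2 h1 => by
    rcases hker (h * h) (by rw [map_mul, h2]) with e | e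
    · rw [map_mul] at e
      exact absurd (hone h (eq_or_eq_neg (by rw [one_mul, mul_one]) (e.trans (one_mul _).symm))) h1
    · rwa [map_mul] at e
  have hanti : ∀ h h', f h * f h = 1 → f h ≠ 1 → f h' * f h' = 1 → f h' ≠ 1 → f h * f h' = f h' * f h →
      f h ≠ f h' → ι h' * ι h = -(ι h * ι h') := fun h h' a b c d hc hne => by
    rcases hpm (h := h' * h) (h' := h * h') (by rw [map_mul, map_mul, hc]) with e | e <;> rw [map_mul, map_mul] at e
    · exfalso
      apply hne
      rcases eq_or_eq_neg e.symm ((hsqn h a b).trans (hsqn h' c d).symm) with e1 | e1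
      · rw [hι e1]
      · obtain ⟨z, hz, hzι⟩ := hneg
        rw [hι (show ι h = ι (z * h') by rw [map_mul, hzι, neg_one_mul, e1]), map_mul, hz, one_mul]
    · exact e
  set σ : Equiv.Perm (Fin 5) := Equiv.swap 0 1 * Equiv.swap 1 2 with hσ
  set τ : Equiv.Perm (Fin 5) := Equiv.swap 2 3 * Equiv.swap 3 4 with hτ
  set π : Equiv.Perm (Fin 5) := Equiv.swap 0 1 with hπ
  set p₁ : Equiv.Perm (Fin 5) := Equiv.swap 0 1 * Equiv.swap 2 3 with hp₁
  set p₂ : Equiv.Perm (Fin 5) := Equiv.swap 0 2 * Equiv.swap 1 3 with hp₂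
  obtain ⟨x₀, hx₀⟩ := hf σ
  obtain ⟨y₀, hy₀⟩ := hf τ
  obtain ⟨g, hg⟩ := hf π
  obtain ⟨i, hi⟩ := hf p₁
  obtain ⟨j, hj⟩ := hf p₂
  obtain ⟨x, hxd⟩ : ∃ x, x = x₀ * x₀ * x₀ * x₀ := ⟨_, rfl⟩
  obtain ⟨y, hyd⟩ : ∃ y, y = y₀ * y₀ * y₀ * y₀ := ⟨_, rfl⟩
  have hxσ : f x = σ := by simp only [hxd, map_mul, hx₀, hσ]; decide +kernel
  have hyτ : f y = τ := by simp only [hyd, map_mul, hy₀, hτ]; decide +kernel
  have hcube : ∀ h, f h * f h * f h = 1 →
      ι (h * h * h * h) * ι (h * h * h * h) * ι (h * h * h * h) = 1 := fun h h3 => by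
    have hc : ι h * ι h * ι h = 1 ∨ ι h * ι h * ι h = -1 := by
      rw [← map_mul, ← map_mul]; exact hker _ (by rw [map_mul, map_mul, h3])
    calc ι (h * h * h * h) * ι (h * h * h * h) * ι (h * h * h * h)
        = (ι h * ι h * ι h) * (ι h * ι h * ι h) * ((ι h * ι h * ι h) * (ι h * ι h * ι h)) := by
          simp only [map_mul, mul_assoc]
      _ = 1 := by rcases hc with e | e <;> rw [e] <;> simp
  have hX3 : ι x * ι x * ι x = 1 := hxd ▸ hcube x₀ (by rw [hx₀, hσ]; decide +kernel)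
  have hY3 : ι y * ι y * ι y = 1 := hyd ▸ hcube y₀ (by rw [hy₀, hτ]; decide +kernel)
  have hne : ∀ h, f h ≠ 1 → ι h ≠ 1 := fun h h1 e => h1 (hone h (.inl e))
  have hX1 : ι x ≠ 1 := hne x (by rw [hxσ, hσ]; decide +kernel)
  have hY1 : ι y ≠ 1 := hne y (by rw [hyτ, hτ]; decide +kernel)
  have h5 : f ((x * y) ^ 5) = 1 := by rw [map_pow, map_mul, hxσ, hyτ, hσ, hτ]; decide +kernel
  obtain ⟨δ, hδ, hδe⟩ : ∃ δ : D, (δ = 1 ∨ δ = -1) ∧ ι ((x * y) ^ 5) = δ := ⟨_, hker _ h5, rfl⟩
  have hxy1 : f (x * y) ≠ 1 := by rw [map_mul, hxσ, hyτ, hσ, hτ]; decide +kernel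
  obtain ⟨t, ht, htX, htY, htd⟩ := exists_sqrt_five hX3 hX1 hY3 hY1 hδ (by rw [← map_mul, ← map_pow, hδe])
    (fun e => by
      refine hxy1 (hone _ ?_)
      rw [map_mul]
      rcases hδ with rfl | rfl
      · exact .inl (by rwa [one_mul] at e)
      · exact .inr (by rw [neg_one_mul] at e; exact neg_eq_iff_eq_neg.1 e))
  -- everything in the alternating part commutes with `t`
  have hword : ∀ h w, f h = f w → Commute (ι w) t → Commute (ι h) t := fun h w e hc => by
    rcases hpm e with e' | e' <;> rw [e']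
    · exact hc
    · exact hc.neg_left
  have cX : Commute (ι x) t := htX
  have cY : Commute (ι y) t := htY
  have cI : Commute (ι i) t := by
    refine hword i (x * y * x * x * y * y * x) ?_ ?_
    · simp only [map_mul, hi, hxσ, hyτ, hσ, hτ, hp₁]; decide +kernel
    · simp only [map_mul]
      exact (((((cX.mul_left cY).mul_left cX).mul_left cX).mul_left cY).mul_left cY).mul_left cX
  have cJ : Commute (ι j) t := by
    refine hword j (x * y * x * y * y) ?_ ?_
    · simp only [map_mul, hj, hxσ, hyτ, hσ, hτ, hp₂]; decide +kernel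
    · simp only [map_mul]
      exact (((cX.mul_left cY).mul_left cX).mul_left cY).mul_left cY
  -- the square roots of minus one
  have hi1 : f i * f i = 1 ∧ f i ≠ 1 := by rw [hi, hp₁]; decide +kernel
  have hj1 : f j * f j = 1 ∧ f j ≠ 1 := by rw [hj, hp₂]; decide +kernel
  have hg1 : f g * f g = 1 ∧ f g ≠ 1 := by rw [hg, hπ]; decide +kernel
  obtain ⟨I, hI⟩ : ∃ a, a = ι i := ⟨_, rfl⟩
  obtain ⟨J, hJ⟩ : ∃ a, a = ι j := ⟨_, rfl⟩
  obtain ⟨γ, hγ⟩ : ∃ a, a = ι g := ⟨_, rfl⟩
  rw [← hI] at cI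
  rw [← hJ] at cJ
  have hII : I * I = -1 := hI ▸ hsqn i hi1.1 hi1.2
  have hJJ : J * J = -1 := hJ ▸ hsqn j hj1.1 hj1.2
  have hGG : γ * γ = -1 := hγ ▸ hsqn g hg1.1 hg1.2
  have hJI : J * I = -(I * J) := by
    rw [hI, hJ]
    exact hanti i j hi1.1 hi1.2 hj1.1 hj1.2 (by rw [hi, hj, hp₁, hp₂]; decide +kernel)
        (by rw [hi, hj, hp₁, hp₂]; decide +kernel)
  have hGI : γ * I = -(I * γ) := by
    rw [hI, hγ]
    exact hanti i g hi1.1 hi1.2 hg1.1 hg1.2 (by rw [hi, hg, hp₁, hπ]; decide +kernel)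
        (by rw [hi, hg, hp₁, hπ]; decide +kernel)
  obtain ⟨ε, hε, hGJ⟩ : ∃ ε : D, (ε = 1 ∨ ε = -1) ∧ γ * J = ε * (I * J) * γ := by
    have e : f (g * j) = f (i * j * g) := by
      simp only [map_mul, hi, hj, hg, hp₁, hp₂, hπ]; decide +kernel
    rcases hpm e with e' | e' <;> simp only [map_mul, ← hI, ← hJ, ← hγ] at e'
    · exact ⟨1, .inl rfl, by rw [one_mul]; exact e'⟩
    · exact ⟨-1, .inr rfl, by rw [neg_one_mul, neg_mul]; exact e'⟩
  -- the element `g` negates `2 t + 1`
  have hW : Commute (ι (y * x)) t := by rw [map_mul]; exact cY.mul_left cX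
  have hGt : γ * t = (-1 - t) * γ := by
    have hkey : f (g * (x * y) * g⁻¹) = f ((y * x) * (x * y * (x * y)) * (y * x)⁻¹) := by
      simp only [map_mul, map_inv, hg, hxσ, hyτ, hσ, hτ, hπ]; decide +kernel
    obtain ⟨η, hη, hηe⟩ : ∃ η : D, (η = 1 ∨ η = -1) ∧
        ι (g * (x * y) * g⁻¹) = η * ι ((y * x) * (x * y * (x * y)) * (y * x)⁻¹) := by
      rcases hpm hkey with e' | e'
      · exact ⟨1, .inl rfl, by rw [one_mul]; exact e'⟩
      · exact ⟨-1, .inr rfl, by rw [neg_one_mul]; exact e'⟩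
    have htr : t = δ * (ι (x * y) + ι (x * y)⁻¹) := by
      rw [htd, trace_eq (cube_root hX3 hX1) (cube_root hY3 hY1), mul_inv_rev, map_mul, map_mul]
      congr 2
      have hinv : ∀ h, ι h * ι h * ι h = 1 → ι h⁻¹ = ι h * ι h := fun h h3 => by
        calc ι h⁻¹ = ι h⁻¹ * (ι h * ι h * ι h) := by rw [h3, mul_one]
          _ = ι h * ι h := by simp only [← map_mul]; congr 1; group
      rw [hinv x hX3, hinv y hY3]
    have hδ2 : δ * δ = 1 := by rcases hδ with rfl | rfl <;> simp
    have hη2 : η * η = 1 := by rcases hη with rfl | rfl <;> simp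
    have hηc : ∀ a : D, η * a = a * η := fun a => by rcases hη with rfl | rfl <;> simp
    have hδc : ∀ a : D, δ * a = a * δ := fun a => by rcases hδ with rfl | rfl <;> simp
    obtain ⟨z, hzd⟩ : ∃ z, z = x * y := ⟨_, rfl⟩
    obtain ⟨w, hwd⟩ : ∃ w, w = y * x := ⟨_, rfl⟩
    rw [← hzd, ← hwd] at hηe
    rw [← hzd] at htr
    rw [← hwd] at hW
    have hinvz : ι (g * z * g⁻¹)⁻¹ = η * ι (w * (z * z) * w⁻¹)⁻¹ := by
      have h1 : ι (g * z * g⁻¹) * (η * ι (w * (z * z) * w⁻¹)⁻¹) = 1 := by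
        rw [hηe, mul_assoc η, ← mul_assoc (ι (w * (z * z) * w⁻¹)) η, ← hηc, mul_assoc η, ← map_mul ι,
          mul_inv_cancel, map_one, mul_one, hη2]
      calc ι (g * z * g⁻¹)⁻¹ = ι (g * z * g⁻¹)⁻¹ * (ι (g * z * g⁻¹) * (η * ι (w * (z * z) * w⁻¹)⁻¹)) := by
            rw [h1, mul_one]
        _ = _ := by rw [← mul_assoc, ← map_mul, inv_mul_cancel, map_one, one_mul]
    have hsq : ι (z * z) + ι (z * z)⁻¹ = -1 - t := by
      have h1 : (ι z + ι z⁻¹) * (ι z + ι z⁻¹) = ι (z * z) + ι (z * z)⁻¹ + 2 := by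
        rw [mul_inv_rev, map_mul, map_mul]
        have a1 : ι z * ι z⁻¹ = 1 := by rw [← map_mul, mul_inv_cancel, map_one]
        have a2 : ι z⁻¹ * ι z = 1 := by rw [← map_mul, inv_mul_cancel, map_one]
        calc (ι z + ι z⁻¹) * (ι z + ι z⁻¹)
            = ι z * ι z + ι z⁻¹ * ι z⁻¹ + (ι z * ι z⁻¹ + ι z⁻¹ * ι z) := by noncomm_ring
          _ = _ := by rw [a1, a2, one_add_one_eq_two]
      have h2 : ι z + ι z⁻¹ = δ * t := by rw [htr, ← mul_assoc, hδ2, one_mul]
      rw [h2, mul_assoc, ← mul_assoc t δ, ← hδc, mul_assoc δ, ← mul_assoc, hδ2, one_mul, ht] at h1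
      calc ι (z * z) + ι (z * z)⁻¹ = (ι (z * z) + ι (z * z)⁻¹ + 2) - 2 := (add_sub_cancel_right _ _).symm
        _ = -1 - t := by rw [← h1, ← one_add_one_eq_two]; abel
    have hconjW : ι w * (-1 - t) * ι w⁻¹ = -1 - t := by
      have hWc : Commute (ι w) (-1 - t) := (Commute.neg_one_right _).sub_right hW
      rw [hWc.eq, mul_assoc, ← map_mul, mul_inv_cancel, map_one, mul_one]
    have ht' : γ * t * ι g⁻¹ = δ * η * (-1 - t) := by
      calc γ * t * ι g⁻¹ = δ * (ι (g * z * g⁻¹) + ι (g * z * g⁻¹)⁻¹) := by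
            rw [htr, ← mul_assoc γ, ← hδc γ]
            simp only [mul_inv_rev, inv_inv, map_mul, hγ, mul_assoc, add_mul, mul_add]
        _ = δ * η * (ι w * (ι (z * z) + ι (z * z)⁻¹) * ι w⁻¹) := by
            rw [hηe, hinvz]
            simp only [mul_inv_rev, inv_inv, map_mul, mul_assoc, add_mul, mul_add]
        _ = _ := by rw [hsq, hconjW]
    have hGinv : γ * ι g⁻¹ = 1 := by rw [hγ, ← map_mul, mul_inv_cancel, map_one]
    have hGinv' : ι g⁻¹ * γ = 1 := by rw [hγ, ← map_mul, inv_mul_cancel, map_one]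
    have hrel : (γ * t * ι g⁻¹) * (γ * t * ι g⁻¹) = 1 - γ * t * ι g⁻¹ := by
      calc (γ * t * ι g⁻¹) * (γ * t * ι g⁻¹) = γ * t * (ι g⁻¹ * γ) * t * ι g⁻¹ := by noncomm_ring
        _ = γ * (t * t) * ι g⁻¹ := by rw [hGinv']; noncomm_ring
        _ = 1 - γ * t * ι g⁻¹ := by rw [ht, mul_sub, mul_one, sub_mul, hGinv]
    have hfin : γ * t * ι g⁻¹ = -1 - t := by
      rw [ht'] at hrel ⊢
      rcases hδ with rfl | rfl <;> rcases hη with rfl | rfl <;>
        simp only [one_mul, mul_one, neg_mul, mul_neg, neg_neg] at hrel ⊢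
      all_goals
        exfalso
        have h1 : (2 : D) * t + 2 = 0 := by
          have h2 : (-1 - t) * (-1 - t) = t * t + 2 * t + 1 := by noncomm_ring
          have h3 : t * t + 2 * t + 1 - (1 + (-1 - t)) = 0 := by
            rw [← h2]
            rw [sub_eq_zero]
            rw [hrel]; abel
          rw [ht] at h3
          calc (2 : D) * t + 2 = (1 - t + 2 * t + 1 - (1 + (-1 - t))) := by noncomm_ring; norm_num
            _ = 0 := h3
        have h4 : t = -1 := by
          have : (2 : D) * (t + 1) = 0 := by rw [mul_add, mul_one]; exact h1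
          exact eq_neg_of_add_eq_zero_left ((mul_eq_zero.1 this).resolve_left two_ne_zero)
        rw [h4] at ht
        norm_num at ht
    calc γ * t = γ * t * (ι g⁻¹ * γ) := by rw [hGinv', mul_one]
      _ = (γ * t * ι g⁻¹) * γ := by noncomm_ring
      _ = (-1 - t) * γ := by rw [hfin]
  -- the quaternion algebra centralising `I` and `J`
  obtain ⟨K, hK⟩ : ∃ K, K = I * J := ⟨_, rfl⟩
  rw [← hK] at hGJ
  have hεc : ∀ a : D, ε * a = a * ε := fun a => by rcases hε with rfl | rfl <;> simp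
  obtain ⟨q, hq⟩ : ∃ q, q = J + ε * K := ⟨_, rfl⟩
  have hKK : K * K = -1 := by
    rw [hK, show I * J * (I * J) = I * (J * I) * J by noncomm_ring, hJI,
      show I * -(I * J) * J = -(I * I * (J * J)) by noncomm_ring, hII, hJJ]
    noncomm_ring
  have hKI : K * I = J := by rw [hK, mul_assoc, hJI, mul_neg, ← mul_assoc, hII, neg_mul, one_mul, neg_neg]
  have hIK : I * K = -J := by rw [hK, ← mul_assoc, hII, neg_mul, one_mul]
  have hKJ : K * J = -I := by rw [hK, mul_assoc, hJJ, mul_neg, mul_one]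
  have hJK : J * K = I := by rw [hK, ← mul_assoc, hJI, neg_mul, mul_assoc, hJJ, mul_neg, mul_one, neg_neg]
  have hGK : γ * K = ε * J * γ := by
    calc γ * K = (γ * I) * J := by rw [hK, mul_assoc]
      _ = -(I * (γ * J)) := by rw [hGI]; noncomm_ring
      _ = -((I * ε) * K * γ) := by rw [hGJ]; noncomm_ring
      _ = ε * -(I * K) * γ := by rw [← hεc I]; noncomm_ring
      _ = ε * J * γ := by rw [hIK, neg_neg]
  have hε2 : ε * ε = 1 := by rcases hε with rfl | rfl <;> simp
  have hqG : γ * q = q * γ := by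
    calc γ * q = γ * J + (γ * ε) * K := by rw [hq]; noncomm_ring
      _ = γ * J + ε * (γ * K) := by rw [← hεc γ, mul_assoc]
      _ = q * γ := by rw [hGJ, hGK, hq, ← mul_assoc ε, ← mul_assoc ε, hε2]; noncomm_ring
  have hqq : q * q = -2 := by
    calc q * q = J * J + (J * ε) * K + ε * (K * J) + ε * (K * ε) * K := by rw [hq]; noncomm_ring
      _ = J * J + ε * (J * K + K * J) + ε * ε * (K * K) := by
          rw [← hεc J, ← hεc K]; noncomm_ring
      _ = -2 := by rw [hJJ, hJK, hKJ, hKK, hε2]; noncomm_ring; norm_num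
  have hqI : q * I = -(I * q) := by
    calc q * I = J * I + ε * (K * I) := by rw [hq]; noncomm_ring
      _ = -(I * J) + -(ε * (I * K)) := by rw [hJI, hKI, hIK, mul_neg, neg_neg]
      _ = -(I * J + (ε * I) * K) := by noncomm_ring
      _ = -(I * q) := by rw [hεc I, hq]; noncomm_ring
  have hqJ : q * J = ε * K * q := by
    calc q * J = J * J + ε * (K * J) := by rw [hq]; noncomm_ring
      _ = ε * -I + (ε * ε) * (K * K) := by rw [hJJ, hKJ, hKK, hε2]; noncomm_ring
      _ = ε * (K * J) + ε * (ε * K) * K := by rw [hKJ]; noncomm_ring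
      _ = ε * (K * J) + ε * (K * ε) * K := by rw [hεc K]
      _ = ε * K * q := by rw [hq]; noncomm_ring
  obtain ⟨c, hc⟩ : ∃ c, c = γ * q := ⟨_, rfl⟩
  have hcI : c * I = I * c := by
    calc c * I = γ * (q * I) := by rw [hc, mul_assoc]
      _ = -((γ * I) * q) := by rw [hqI]; noncomm_ring
      _ = I * c := by rw [hGI, hc]; noncomm_ring
  have hcJ : c * J = J * c := by
    calc c * J = γ * (q * J) := by rw [hc, mul_assoc]
      _ = (γ * ε) * K * q := by rw [hqJ]; noncomm_ring
      _ = ε * ((γ * K) * q) := by rw [← hεc γ]; noncomm_ring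
      _ = J * c := by rw [hGK, hc, ← mul_assoc ε, ← mul_assoc ε, ← mul_assoc ε, hε2]; noncomm_ring
  have hcc : c * c = 2 := by
    calc c * c = γ * (q * γ) * q := by rw [hc]; noncomm_ring
      _ = (γ * γ) * (q * q) := by rw [← hqG]; noncomm_ring
      _ = 2 := by rw [hGG, hqq]; noncomm_ring; norm_num
  obtain ⟨s, hs⟩ : ∃ s, s = 2 * t + 1 := ⟨_, rfl⟩
  have hss : s * s = 5 := hs ▸ sq_five ht
  have hcomm_s : ∀ a : D, Commute a t → a * s = s * a := fun a ha => by
    rw [hs, two_mul]; exact ((ha.add_right ha).add_right (Commute.one_right a)).eq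
  have hqt : Commute q t := by
    have cK : Commute K t := hK ▸ cI.mul_left cJ
    rw [hq]; exact cJ.add_left ((show Commute ε t from hεc t).mul_left cK)
  have hcs : c * s = -(s * c) := by
    calc c * s = γ * (q * s) := by rw [hc, mul_assoc]
      _ = γ * s * q := by rw [hcomm_s q hqt]; noncomm_ring
      _ = (γ * t + (γ * t) + γ) * q := by rw [hs]; noncomm_ring
      _ = -(s * c) := by rw [hGt, hs, hc]; noncomm_ring
  obtain ⟨P, hP⟩ : ∃ P, P = I + J + K := ⟨_, rfl⟩
  obtain ⟨R, hR⟩ : ∃ R, R = s + c + s * c := ⟨_, rfl⟩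
  have hIR : I * R = R * I := by
    calc I * R = I * s + I * c + (I * s) * c := by rw [hR]; noncomm_ring
      _ = s * I + c * I + s * (I * c) := by rw [hcomm_s I cI, mul_assoc s I c, ← hcI]
      _ = R * I := by rw [← hcI, hR]; noncomm_ring
  have hJR : J * R = R * J := by
    calc J * R = J * s + J * c + (J * s) * c := by rw [hR]; noncomm_ring
      _ = s * J + c * J + s * (J * c) := by rw [hcomm_s J cJ, mul_assoc s J c, ← hcJ]
      _ = R * J := by rw [← hcJ, hR]; noncomm_ring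
  have hKR : K * R = R * K := by
    rw [hK, mul_assoc, hJR, ← mul_assoc, hIR, mul_assoc]
  have hPR : P * R = R * P := by rw [hP, add_mul, add_mul, hIR, hJR, hKR, mul_add, mul_add]
  have hPP : P * P = -3 := by
    calc P * P = I * I + J * J + K * K + (I * J + J * I) + (I * K + K * I) + (J * K + K * J) := by
          rw [hP]; noncomm_ring
      _ = -3 := by rw [hII, hJJ, hKK, hJI, hIK, hKI, hJK, hKJ]; simp only [add_neg_cancel, neg_add_cancel, add_zero]; norm_num
  have hRR : R * R = -3 := by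
    calc R * R = s * s + c * c + s * c + c * s + s * s * c + s * (c * s) + (c * s) * c + s * (c * c)
        + s * (c * s) * c := by rw [hR]; noncomm_ring
      _ = s * s + c * c + s * c + -(s * c) + s * s * c + -(s * s * c) + -(s * (c * c)) + s * (c * c)
        + -(s * s * (c * c)) := by rw [hcs]; noncomm_ring
      _ = -3 := by rw [hss, hcc]; noncomm_ring; norm_num
  have hPI : P * I = I * P := by
    rcases eq_or_eq_neg hPR (hPP.trans hRR.symm) with e | e <;> rw [e]
    · exact hIR.symm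
    · rw [neg_mul, mul_neg, hIR]
  have h2 : (2 : D) * (J - K) = 0 := by
    have h3 : P * I - I * P = 0 := sub_eq_zero.2 hPI
    rw [hP] at h3
    rw [← h3, add_mul, add_mul, mul_add, mul_add, hJI, hKI, hIK, ← hK]
    noncomm_ring
  have hJK' : J = K := sub_eq_zero.1 ((mul_eq_zero.1 h2).resolve_left two_ne_zero)
  rw [← hJK'] at hJK
  rw [hJJ] at hJK
  rw [← hJK] at hII
  norm_num at hII

end Cfsg.Agent.FpfDivision
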