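import Cfsg.Agent.Lib.FpfKey

/-!
The twenty elements of order three generated by a tetrahedral configuration and a further element,
computed in quaternion coordinates over `ℤ[φ]`.
-/

set_option autoImplicit false

namespace Cfsg.Agent.FpfIcosian

open FpfPairs FpfTet FpfKey

/-- `(p, q)` stands for `p + q φ`. -/
abbrev Z5 : Type := ℤ × ℤ

/-- A vector over `ℤ[φ]`. -/
abbrev Vec : Type := Z5 × Z5 × Z5

def zmul (a b : Z5) : Z5 := (a.1 * b.1 + a.2 * b.2, a.1 * b.2 + a.2 * b.1 + a.2 * b.2)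

def znorm (a : Z5) : ℤ := a.1 * a.1 + a.1 * a.2 - a.2 * a.2

def dot (u v : Vec) : Z5 := zmul u.1 v.1 + zmul u.2.1 v.2.1 + zmul u.2.2 v.2.2

def rot2 (u v : Vec) : Vec :=
  (-v.1 - (zmul u.2.1 v.2.2 - zmul u.2.2 v.2.1) + zmul (dot u v) u.1,
   -v.2.1 - (zmul u.2.2 v.1 - zmul u.1 v.2.2) + zmul (dot u v) u.2.1,
   -v.2.2 - (zmul u.1 v.2.1 - zmul u.2.1 v.1) + zmul (dot u v) u.2.2)

def sg (b : Bool) : ℤ := if b then 1 else -1

def axisVec (i j k : Bool) : Vec := ((sg i, 0), (sg j, 0), (sg k, 0))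

def extraVec (i j : Bool) : Vec := ((0, sg i), (-sg j, sg j), (0, 0))

def shift (v : Vec) : Vec := (v.2.2, v.1, v.2.1)

def bools : List Bool := [true, false]

/-- The twenty vectors. -/
def vecs : List Vec :=
  (bools.flatMap fun i => bools.flatMap fun j => bools.map fun k => axisVec i j k) ++
  (bools.flatMap fun i => bools.flatMap fun j =>
    [extraVec i j, shift (extraVec i j), shift (shift (extraVec i j))])

theorem vecs_rot : ∀ u ∈ vecs, ∀ v ∈ vecs, ∃ r ∈ vecs, r + r = rot2 u v := by decide +kernel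

theorem vecs_dot : ∀ u ∈ vecs, dot u u = (3, 0) := by decide +kernel

theorem vecs_neg : ∀ u ∈ vecs, -u ∈ vecs := by decide +kernel

theorem vecs_sep : ∀ u ∈ vecs, ∀ v ∈ vecs, u ≠ v →
    znorm (u.1 - v.1) ≠ 0 ∨ znorm (u.2.1 - v.2.1) ≠ 0 ∨ znorm (u.2.2 - v.2.2) ≠ 0 := by
  decide +kernel

theorem vecs_card : vecs.toFinset.card = 20 := by decide +kernel

/-- Pairs with a prescribed scalar product. -/
def dotPairs (d : Z5) : Finset (Vec × Vec) :=
  (vecs.toFinset ×ˢ vecs.toFinset).filter fun p => znorm (dot p.1 p.2 - d) = 0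

theorem dotPairs_card : (dotPairs (-1, 2)).card = 60 ∧ (dotPairs (1, -2)).card = 60 := by
  decide +kernel

variable {K : Type*} [Field K]

/-- Evaluation at a root of `X ^ 2 - X - 1`. -/
def ev (ψ : K) (a : Z5) : K := (a.1 : K) + (a.2 : K) * ψ

theorem ev_add (ψ : K) (a b : Z5) : ev ψ (a + b) = ev ψ a + ev ψ b := by
  simp only [ev, Prod.fst_add, Prod.snd_add, Int.cast_add]; ring

theorem ev_sub (ψ : K) (a b : Z5) : ev ψ (a - b) = ev ψ a - ev ψ b := by
  simp only [ev, Prod.fst_sub, Prod.snd_sub, Int.cast_sub]; ring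

theorem ev_neg (ψ : K) (a : Z5) : ev ψ (-a) = -ev ψ a := by
  simp only [ev, Prod.fst_neg, Prod.snd_neg, Int.cast_neg]; ring

theorem ev_mul {ψ : K} (h : ψ * ψ = ψ + 1) (a b : Z5) : ev ψ (zmul a b) = ev ψ a * ev ψ b := by
  simp only [ev, zmul, Int.cast_add, Int.cast_mul]
  linear_combination (-(a.2 : K) * b.2) * h

theorem znorm_eq_zero [CharZero K] {ψ : K} (h : ψ * ψ = ψ + 1) {a : Z5} (ha : ev ψ a = 0) :
    znorm a = 0 := by
  have : ((znorm a : ℤ) : K) = 0 := by
    simp only [ev] at ha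
    simp only [znorm, Int.cast_sub, Int.cast_add, Int.cast_mul]
    linear_combination ((a.1 : K) + a.2 - a.2 * ψ) * ha + ((a.2 : K) * a.2) * h
  exact_mod_cast this

/-- The pure quaternion of a vector. -/
def quat (ψ : K) (v : Vec) : Quaternion K := ⟨0, ev ψ v.1, ev ψ v.2.1, ev ψ v.2.2⟩

@[simp] theorem quat_re (ψ : K) (v : Vec) : (quat ψ v).re = 0 := rfl
@[simp] theorem quat_imI (ψ : K) (v : Vec) : (quat ψ v).imI = ev ψ v.1 := rfl
@[simp] theorem quat_imJ (ψ : K) (v : Vec) : (quat ψ v).imJ = ev ψ v.2.1 := rfl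
@[simp] theorem quat_imK (ψ : K) (v : Vec) : (quat ψ v).imK = ev ψ v.2.2 := rfl

@[simp] theorem zero_re : QuaternionAlgebra.re (0 : Quaternion K) = 0 := rfl
@[simp] theorem zero_imI : QuaternionAlgebra.imI (0 : Quaternion K) = 0 := rfl
@[simp] theorem zero_imJ : QuaternionAlgebra.imJ (0 : Quaternion K) = 0 := rfl
@[simp] theorem zero_imK : QuaternionAlgebra.imK (0 : Quaternion K) = 0 := rfl
@[simp] theorem one_re : QuaternionAlgebra.re (1 : Quaternion K) = 1 := rfl
@[simp] theorem one_imI : QuaternionAlgebra.imI (1 : Quaternion K) = 0 := rfl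
@[simp] theorem one_imJ : QuaternionAlgebra.imJ (1 : Quaternion K) = 0 := rfl
@[simp] theorem one_imK : QuaternionAlgebra.imK (1 : Quaternion K) = 0 := rfl

/-- The first unit. -/
def qI : Quaternion K := ⟨0, 1, 0, 0⟩
/-- The second unit. -/
def qJ : Quaternion K := ⟨0, 0, 1, 0⟩
/-- The third unit. -/
def qK : Quaternion K := ⟨0, 0, 0, 1⟩

@[simp] theorem qI_re : (qI : Quaternion K).re = 0 := rfl
@[simp] theorem qI_imI : (qI : Quaternion K).imI = 1 := rfl
@[simp] theorem qI_imJ : (qI : Quaternion K).imJ = 0 := rfl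
@[simp] theorem qI_imK : (qI : Quaternion K).imK = 0 := rfl
@[simp] theorem qJ_re : (qJ : Quaternion K).re = 0 := rfl
@[simp] theorem qJ_imI : (qJ : Quaternion K).imI = 0 := rfl
@[simp] theorem qJ_imJ : (qJ : Quaternion K).imJ = 1 := rfl
@[simp] theorem qJ_imK : (qJ : Quaternion K).imK = 0 := rfl
@[simp] theorem qK_re : (qK : Quaternion K).re = 0 := rfl
@[simp] theorem qK_imI : (qK : Quaternion K).imI = 0 := rfl
@[simp] theorem qK_imJ : (qK : Quaternion K).imJ = 0 := rfl
@[simp] theorem qK_imK : (qK : Quaternion K).imK = 1 := rfl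

theorem quat_injOn [CharZero K] {ψ : K} (h : ψ * ψ = ψ + 1) {u v : Vec} (hu : u ∈ vecs) (hv : v ∈ vecs)
    (e : quat ψ u = quat ψ v) : u = v := by
  by_contra hne
  have h1 := congrArg QuaternionAlgebra.imI e
  have h2 := congrArg QuaternionAlgebra.imJ e
  have h3 := congrArg QuaternionAlgebra.imK e
  simp only [quat] at h1 h2 h3
  rcases vecs_sep u hu v hv hne with n | n | n
  · exact n (znorm_eq_zero h (by rw [ev_sub]; exact sub_eq_zero.2 h1))
  · exact n (znorm_eq_zero h (by rw [ev_sub]; exact sub_eq_zero.2 h2))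
  · exact n (znorm_eq_zero h (by rw [ev_sub]; exact sub_eq_zero.2 h3))

theorem quat_rot [CharZero K] {ψ : K} (h : ψ * ψ = ψ + 1) {u v r : Vec} (hu : dot u u = (3, 0))
    (hr : r + r = rot2 u v) :
    ((2⁻¹ : K) • (quat ψ u - 1)) * quat ψ v * ((2⁻¹ : K) • (-quat ψ u - 1)) = quat ψ r := by
  have hd := congrArg (ev ψ) hu
  simp only [dot, ev_add, ev_mul h] at hd
  rw [show ev ψ (3, 0) = 3 by simp [ev]] at hd
  have e1 := congrArg (fun w : Vec => ev ψ w.1) hr
  have e2 := congrArg (fun w : Vec => ev ψ w.2.1) hr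
  have e3 := congrArg (fun w : Vec => ev ψ w.2.2) hr
  simp only [rot2, dot, Prod.fst_add, Prod.snd_add, ev_add, ev_sub, ev_neg, ev_mul h] at e1 e2 e3
  apply Quaternion.ext <;> simp <;> field_simp
  · ring
  · linear_combination (-2 : K) * e1 - ev ψ v.1 * hd
  · linear_combination (-2 : K) * e2 - ev ψ v.2.1 * hd
  · linear_combination (-2 : K) * e3 - ev ψ v.2.2 * hd

theorem quat_anticomm {ψ : K} (h : ψ * ψ = ψ + 1) (u v : Vec) :
    quat ψ u * quat ψ v + quat ψ v * quat ψ u = ((-2 * ev ψ (dot u v) : K) : Quaternion K) := by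
  apply Quaternion.ext <;> simp [dot, ev_add, ev_mul h] <;> ring

variable [CharZero K] {G V : Type*} [Group G] [AddCommGroup V] [Module K V]
  {φ : G →* Module.End K V} {x a w : G}

/-- A set closed under inverses and conjugation by its members. -/
def Closed (S : Set G) : Prop := (∀ u ∈ S, u⁻¹ ∈ S) ∧ ∀ u ∈ S, ∀ v ∈ S, u * v * u⁻¹ ∈ S

/-- The action of the quaternion algebra attached to a tetrahedral pair. -/
noncomputable def act (h : IsFPFRep φ) (T : IsTet φ x a) : Quaternion K →ₐ[K] Module.End K V :=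
  QuaternionAlgebra.Basis.liftHom
    { i := uI φ a
      j := uJ φ x a
      k := uL φ x a
      i_mul_i := by rw [(T.qtriple h).II]; simp
      j_mul_j := by rw [(T.qtriple h).JJ]; simp
      i_mul_j := (T.qtriple h).IJ
      j_mul_i := by rw [(T.qtriple h).JI]; simp }

theorem act_apply (h : IsFPFRep φ) (T : IsTet φ x a) (q : Quaternion K) :
    act h T q = qv (uI φ a) (uJ φ x a) (uL φ x a) (q.re • 1) (q.imI • 1) (q.imJ • 1) (q.imK • 1) := by
  simp only [act, QuaternionAlgebra.Basis.liftHom, qv, smul_one_mul, ← Algebra.algebraMap_eq_smul_one]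
  rfl

/-- A scalar model of the configuration: a subspace on which the coordinates become numbers. -/
structure Model (φ : G →* Module.End K V) (x a w : G) where
  h : IsFPFRep φ
  T : IsTet φ x a
  ψ : K
  hψ : ψ * ψ = ψ + 1
  E : Submodule K V
  hE : E ≠ ⊥
  hinv : ∀ q, ∀ v ∈ E, act h T q v ∈ E
  si : Bool
  sj : Bool
  hw : ∀ v ∈ E, P φ w v = act h T (quat ψ (extraVec si sj)) v
  hwo : orderOf w = 3

theorem exists_model [IsAlgClosed K] [FiniteDimensional K V] (h : IsFPFRep φ) (T : IsTet φ x a)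
    (hwo : orderOf w = 3) (hs : Std φ x a w) : Nonempty (Model φ x a w) := by
  obtain ⟨e1, e2, ρ, c1, c2, hρ, r12, r21, hsum, hP⟩ := hs
  have := h.nontrivial
  obtain ⟨l, hl⟩ := Module.End.exists_eigenvalue e1
  obtain ⟨v, hv⟩ := hl.exists_hasEigenvector
  have hρ0 : ρ ≠ 0 := fun e => by simp [e] at hρ
  have hl0 : l ≠ 0 := by
    intro e
    have := LinearMap.congr_fun r21 v
    rw [Module.End.mul_apply, hv.apply_eq_smul, e, zero_smul, map_zero] at this
    exact hv.2 ((smul_eq_zero.1 this.symm).resolve_left hρ0)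
  have he2 : ∀ u ∈ Module.End.eigenspace e1 l, e2 u = (ρ / l) • u := by
    intro u hu
    have := LinearMap.congr_fun r21 u
    rw [Module.End.mul_apply, Module.End.mem_eigenspace_iff.1 hu, map_smul, LinearMap.smul_apply,
      Module.End.one_apply] at this
    rw [div_eq_inv_mul, ← smul_smul, ← this, inv_smul_smul₀ hl0]
  have hpoly : (l * l - l - 1) * (l * l + l - 1) = 0 := by
    have := LinearMap.congr_fun hsum v
    rw [LinearMap.add_apply, Module.End.mul_apply, Module.End.mul_apply, hv.apply_eq_smul, map_smul,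
      hv.apply_eq_smul, he2 v hv.1, map_smul, he2 v hv.1, smul_smul, smul_smul, ← add_smul,
      LinearMap.smul_apply, Module.End.one_apply] at this
    have e := smul_left_injective K hv.2 this
    field_simp at e
    linear_combination e - hρ
  obtain ⟨si, ψ, hl', hψ⟩ : ∃ (si : Bool) (ψ : K), l = (sg si : K) * ψ ∧ ψ * ψ = ψ + 1 := by
    rcases mul_eq_zero.1 hpoly with e | e
    · exact ⟨true, l, by simp [sg], by linear_combination e⟩
    · exact ⟨false, -l, by simp [sg], by linear_combination e⟩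
  have hρ' : ρ = 1 ∨ ρ = -1 := mul_self_eq_one_iff.1 hρ
  have hψ0 : ψ ≠ 0 := fun e => hl0 (by rw [hl', e, mul_zero])
  obtain ⟨sj, hsj⟩ : ∃ sj : Bool, ρ / l = -(sg sj : K) + (sg sj : K) * ψ := by
    have hinv : ψ⁻¹ = ψ - 1 := inv_eq_of_mul_eq_one_right (by linear_combination hψ)
    cases si <;> rcases hρ' with rfl | rfl <;> simp [sg] at hl' <;> subst hl'
    · exact ⟨false, by simp [sg, hinv, div_neg]; ring⟩
    · exact ⟨true, by simp [sg, hinv]; ring⟩
    · exact ⟨true, by simp [sg, hinv]; ring⟩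
    · exact ⟨false, by simp [sg, hinv, div_eq_mul_inv]; ring⟩
  have hcomE : ∀ q, ∀ u ∈ Module.End.eigenspace e1 l,
      act h T q u ∈ Module.End.eigenspace e1 l := by
    intro q u hu
    have hcomm : e1 * act h T q = act h T q * e1 := by
      rw [act_apply]
      simp only [qv, smul_one_mul, mul_add, add_mul, mul_smul_comm, smul_mul_assoc, mul_one, one_mul,
        c1.1, c1.2, c1.third (T.qtriple h)]
    rw [Module.End.mem_eigenspace_iff, ← Module.End.mul_apply, hcomm, Module.End.mul_apply,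
      Module.End.mem_eigenspace_iff.1 hu, map_smul]
  refine ⟨⟨h, T, ψ, hψ, Module.End.eigenspace e1 l, hl, hcomE, si, sj, fun u hu => ?_, hwo⟩⟩
  rw [hP, act_apply]
  simp only [tv, qv, zero_mul, add_zero, zero_add, LinearMap.add_apply, Module.End.mul_apply,
    quat_re, quat_imI, quat_imJ, quat_imK, extraVec, ev, zero_smul, smul_one_mul, LinearMap.smul_apply]
  have hI : φ a u ∈ Module.End.eigenspace e1 l := by
    have := hcomE qI u hu
    simpa [act_apply, qv] using this
  have hJ : uJ φ x a u ∈ Module.End.eigenspace e1 l := by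
    have := hcomE qJ u hu
    simpa [act_apply, qv] using this
  rw [Module.End.mem_eigenspace_iff.1 hI, he2 _ hJ, hsj, hl']
  simp

namespace Model

variable (M : Model φ x a w)

/-- `A` acts on the subspace as the quaternion `q`. -/
def Agree (A : Module.End K V) (q : Quaternion K) : Prop := ∀ v ∈ M.E, A v = act M.h M.T q v

variable {M}

theorem agree_one : M.Agree 1 1 := fun v _ => by rw [map_one]

theorem agree_act (q : Quaternion K) : M.Agree (act M.h M.T q) q := fun _ _ => rfl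

theorem Agree.mul {A B : Module.End K V} {p q : Quaternion K} (hA : M.Agree A p) (hB : M.Agree B q) :
    M.Agree (A * B) (p * q) := fun v hv => by
  rw [Module.End.mul_apply, hB v hv, hA _ (M.hinv q v hv), map_mul, Module.End.mul_apply]

theorem Agree.add {A B : Module.End K V} {p q : Quaternion K} (hA : M.Agree A p) (hB : M.Agree B q) :
    M.Agree (A + B) (p + q) := fun v hv => by
  rw [LinearMap.add_apply, hA v hv, hB v hv, map_add, LinearMap.add_apply]

theorem Agree.neg {A : Module.End K V} {p : Quaternion K} (hA : M.Agree A p) :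
    M.Agree (-A) (-p) := fun v hv => by
  rw [LinearMap.neg_apply, hA v hv, map_neg, LinearMap.neg_apply]

theorem Agree.smul {A : Module.End K V} {p : Quaternion K} (c : K) (hA : M.Agree A p) :
    M.Agree (c • A) (c • p) := fun v hv => by
  rw [LinearMap.smul_apply, hA v hv, map_smul, LinearMap.smul_apply]

theorem eq_zero (q : Quaternion K) (hq : ∀ v ∈ M.E, act M.h M.T q v = 0) : q = 0 := by
  obtain ⟨v, hv, hv0⟩ := M.E.ne_bot_iff.1 M.hE
  have key : ∀ r : Quaternion K, (q * r).re = 0 := by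
    intro r
    have h1 : ∀ s t : Quaternion K, act M.h M.T (s * (q * r) * t) v = 0 := fun s t => by
      rw [map_mul, map_mul, map_mul, Module.End.mul_apply, Module.End.mul_apply, Module.End.mul_apply,
        hq _ (M.hinv r _ (M.hinv t v hv)), map_zero]
    have h4 : (4 * (q * r).re) • (1 : Quaternion K) = 1 * (q * r) * 1 + -(qI * (q * r) * qI)
        + -(qJ * (q * r) * qJ) + -(qK * (q * r) * qK) := by
      apply Quaternion.ext <;> simp <;> ring
    have h5 := congrArg (fun s => act M.h M.T s v) h4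
    simp only [map_add, map_neg, LinearMap.add_apply, LinearMap.neg_apply, h1, map_smul, map_one,
      LinearMap.smul_apply, Module.End.one_apply, neg_zero, add_zero] at h5
    exact (mul_eq_zero.1 ((smul_eq_zero.1 h5).resolve_right hv0)).resolve_left (by norm_num)
  have k0 := key 1
  have k1 := key qI
  have k2 := key qJ
  have k3 := key qK
  simp at k0 k1 k2 k3
  apply Quaternion.ext <;> simp [k0, k1, k2, k3]

theorem Agree.unique {A : Module.End K V} {p q : Quaternion K} (hA : M.Agree A p) (hB : M.Agree A q) :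
    p = q :=
  sub_eq_zero.1 (M.eq_zero _ fun v hv => by rw [map_sub, LinearMap.sub_apply, ← hA v hv, ← hB v hv, sub_self])

theorem agree_inj {g g' : G} {p : Quaternion K} (hg : M.Agree (φ g) p) (hg' : M.Agree (φ g') p) :
    g = g' := by
  obtain ⟨v, hv, hv0⟩ := M.E.ne_bot_iff.1 M.hE
  exact M.h.eq_of_apply_eq hv0 ((hg v hv).trans (hg' v hv).symm)

theorem agree_map {g : G} {u : Vec} (hu : M.Agree (P φ g) (quat M.ψ u)) :
    M.Agree (φ g) ((2⁻¹ : K) • (quat M.ψ u - 1)) := by
  have e : φ g = (2⁻¹ : K) • (P φ g + -1) := by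
    rw [P, add_neg_cancel_right, two_mul, ← two_smul K (φ g), inv_smul_smul₀ (two_ne_zero)]
  rw [e, sub_eq_add_neg]
  exact (hu.add agree_one.neg).smul _

/-- `g` is one of the twenty elements. -/
def J (M : Model φ x a w) : Set G :=
  {g | orderOf g = 3 ∧ ∃ u ∈ vecs, M.Agree (P φ g) (quat M.ψ u)}

theorem quat_neg (ψ : K) (u : Vec) : quat ψ (-u) = -quat ψ u := by
  apply Quaternion.ext <;> simp [ev_neg]

theorem J_closed : Closed M.J := by
  refine ⟨fun g ⟨ho, u, hu, hA⟩ => ⟨by rw [orderOf_inv, ho], -u, vecs_neg u hu, ?_⟩,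
    fun g ⟨ho, u, hu, hA⟩ g' ⟨ho', v, hv, hB⟩ => ?_⟩
  · rw [M.h.P_inv ho, quat_neg]; exact hA.neg
  obtain ⟨r, hr, hrot⟩ := vecs_rot u hu v hv
  refine ⟨by rw [orderOf_conj, ho'], r, hr, ?_⟩
  rw [← quat_rot M.hψ (vecs_dot u hu) hrot, ← quat_neg, P_conj]
  refine ((agree_map hA).mul hB).mul (agree_map (u := -u) ?_)
  rw [M.h.P_inv ho, quat_neg]
  exact hA.neg

theorem J_injOn {g g' : G} (hg : g ∈ M.J) {u : Vec}
    (h1 : M.Agree (P φ g) (quat M.ψ u)) (h2 : M.Agree (P φ g') (quat M.ψ u)) : g = g' :=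
  agree_inj (agree_map h1) (agree_map h2)

theorem agree_tv {g : G} {u : Vec}
    (e : P φ g = tv φ x a 0 ((u.1.1 : ℤ) : Module.End K V) ((u.2.1.1 : ℤ) : Module.End K V)
      ((u.2.2.1 : ℤ) : Module.End K V))
    (h1 : u.1.2 = 0) (h2 : u.2.1.2 = 0) (h3 : u.2.2.2 = 0) : M.Agree (P φ g) (quat M.ψ u) := by
  intro v _
  have hc : ∀ n : ℤ, (n : K) • (1 : Module.End K V) = (n : Module.End K V) := fun n => by
    rw [← Algebra.algebraMap_eq_smul_one, map_intCast]
  rw [e, act_apply]
  simp [ev, h1, h2, h3, hc, tv, -map_mul]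

theorem realised {S : Set G} (hS : Closed S) (hx : x ∈ S) (hy : x⁻¹ * a ∈ S) (hw : w ∈ S) :
    ∀ u ∈ vecs, ∃ g ∈ S, orderOf g = 3 ∧ M.Agree (P φ g) (quat M.ψ u) := by
  have conjx : ∀ g ∈ S, x * g * x⁻¹ ∈ S := fun g hg => hS.2 x hx g hg
  have conja : ∀ g ∈ S, a * g * a⁻¹ ∈ S := by
    intro g hg
    have := hS.2 x hx _ (hS.2 _ hy g hg)
    rwa [show x * (x⁻¹ * a * g * (x⁻¹ * a)⁻¹) * x⁻¹ = a * g * a⁻¹ by group] at this
  have conjb : ∀ g ∈ S, (x * a * x⁻¹) * g * (x * a * x⁻¹)⁻¹ ∈ S := by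
    intro g hg
    have := conjx _ (conja _ (hS.2 x⁻¹ (hS.1 x hx) g hg))
    rwa [show x * (a * (x⁻¹ * g * x⁻¹⁻¹) * a⁻¹) * x⁻¹ = (x * a * x⁻¹) * g * (x * a * x⁻¹)⁻¹ by group]
      at this
  have conjc : ∀ g ∈ S, (a * (x * a * x⁻¹)) * g * (a * (x * a * x⁻¹))⁻¹ ∈ S := by
    intro g hg
    have := conja _ (conjb g hg)
    rwa [show a * ((x * a * x⁻¹) * g * (x * a * x⁻¹)⁻¹) * a⁻¹
      = (a * (x * a * x⁻¹)) * g * (a * (x * a * x⁻¹))⁻¹ by group] at this
  -- the axes
  have hax : ∀ i j k, ∃ g ∈ S, orderOf g = 3 ∧ M.Agree (P φ g) (quat M.ψ (axisVec i j k)) := by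
    intro i j k
    have hsg : ∀ b, sg b = 1 ∨ sg b = -1 := fun b => by cases b <;> simp [sg]
    obtain ⟨s, hs, u, hu, e⟩ := exists_axis M.h M.T (hsg i) (hsg j) (hsg k)
    have huS : u ∈ S := by rcases hu with rfl | rfl; exacts [hx, hS.1 x hx]
    have huo : orderOf u = 3 := by rcases hu with rfl | rfl <;> simp [M.T.hx]
    refine ⟨s * u * s⁻¹, ?_, by rw [orderOf_conj, huo], agree_tv e rfl rfl rfl⟩
    rcases hs with rfl | rfl | rfl | rfl
    · simpa using huS
    · exact conja u huS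
    · exact conjb u huS
    · exact conjc u huS
  have hsh : ∀ u, (∃ g ∈ S, orderOf g = 3 ∧ M.Agree (P φ g) (quat M.ψ u)) →
      ∃ g ∈ S, orderOf g = 3 ∧ M.Agree (P φ g) (quat M.ψ (shift u)) := by
    rintro u ⟨g, hg, ho, hA⟩
    refine ⟨x * g * x⁻¹, conjx g hg, by rw [orderOf_conj, ho], ?_⟩
    have hx' : M.Agree (P φ x) (quat M.ψ ((-1, 0), (-1, 0), (-1, 0))) :=
      agree_tv (by simpa [-map_mul] using M.T.P_x M.h) rfl rfl rfl
    rw [P_conj]
    have hxi : M.Agree (P φ x⁻¹) (-quat M.ψ ((-1, 0), (-1, 0), (-1, 0))) := by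
      rw [M.h.P_inv M.T.hx]; exact hx'.neg
    rw [← quat_neg] at hxi
    have := ((agree_map hx').mul hA).mul (agree_map hxi)
    convert this using 1
    apply Quaternion.ext <;> simp [shift, ev] <;> field_simp <;> ring
  have hflip : ∀ u, (∃ g ∈ S, orderOf g = 3 ∧ M.Agree (P φ g) (quat M.ψ u)) →
      (∃ g ∈ S, orderOf g = 3 ∧ M.Agree (P φ g) (quat M.ψ (u.1, -u.2.1, -u.2.2))) ∧
      ∃ g ∈ S, orderOf g = 3 ∧ M.Agree (P φ g) (quat M.ψ (-u.1, u.2.1, -u.2.2)) := by
    rintro u ⟨g, hg, ho, hA⟩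
    constructor
    · refine ⟨a * g * a⁻¹, conja g hg, by rw [orderOf_conj, ho], ?_⟩
      rw [P_conj, map_inv_of_sq M.T.sq]
      have ha : M.Agree (φ a) qI := fun v _ => by rw [act_apply]; simp [qv]
      convert (ha.mul hA).mul ha.neg using 1
      apply Quaternion.ext <;> simp [ev_neg]
    · refine ⟨(x * a * x⁻¹) * g * (x * a * x⁻¹)⁻¹, conjb g hg, by rw [orderOf_conj, ho], ?_⟩
      rw [P_conj, map_inv_of_sq (M.T.qtriple M.h).JJ]
      have hb : M.Agree (φ (x * a * x⁻¹)) qJ := fun v _ => by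
        rw [act_apply]; simp [qv, -map_mul]
      convert (hb.mul hA).mul hb.neg using 1
      apply Quaternion.ext <;> simp [ev_neg]
  have h0 : ∃ g ∈ S, orderOf g = 3 ∧ M.Agree (P φ g) (quat M.ψ (extraVec M.si M.sj)) :=
    ⟨w, hw, M.hwo, M.hw⟩
  have hext : ∀ i j, ∃ g ∈ S, orderOf g = 3 ∧ M.Agree (P φ g) (quat M.ψ (extraVec i j)) := by
    intro i j
    have e1 := (hflip _ h0).1
    have e2 := (hflip _ h0).2
    have e3 := (hflip _ e1).2
    generalize hi : M.si = si at h0 e1 e2 e3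
    generalize hj : M.sj = sj at h0 e1 e2 e3
    cases si <;> cases sj <;> cases i <;> cases j <;>
      first
        | exact h0
        | simpa [extraVec, sg] using e1
        | simpa [extraVec, sg] using e2
        | simpa [extraVec, sg] using e3
  intro u hu
  simp only [vecs, List.mem_append, List.mem_flatMap, List.mem_map, List.mem_cons,
    List.not_mem_nil, or_false] at hu
  rcases hu with ⟨i, -, j, -, k, -, rfl⟩ | ⟨i, -, j, -, rfl | rfl | rfl⟩
  · exact hax i j k
  · exact hext i j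
  · exact hsh _ (hext i j)
  · exact hsh _ (hsh _ (hext i j))

variable (M)

theorem x_mem : x ∈ M.J :=
  ⟨M.T.hx, ((-1, 0), (-1, 0), (-1, 0)), by decide, agree_tv (by simpa [-map_mul] using M.T.P_x M.h) rfl rfl rfl⟩

theorem w_mem : w ∈ M.J :=
  ⟨M.hwo, _, by cases M.si <;> cases M.sj <;> decide, M.hw⟩

theorem y_mem : x⁻¹ * a ∈ M.J := by
  have hp : TCom φ x a (1 : Module.End K V) := by simpa using com_intCast 1
  have e0 : P φ x⁻¹ = tv φ x a 0 1 1 1 := by
    rw [M.h.P_inv M.T.hx, M.T.P_x M.h, qv_neg]; simp [-map_mul]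
  have e1 := conj_b M.h M.T com_zero hp hp hp e0
  have eI : φ a = tv φ x a 0 1 0 0 := by simp [tv, qv, -map_mul]
  have e2 : P φ (x⁻¹ * a) = tv φ x a 0 (-1) 1 (-1) := by
    have h2 : 2 * φ x⁻¹ = tv φ x a (-1) 1 1 1 := by
      have : 2 * φ x⁻¹ = P φ x⁻¹ + -1 := by rw [P, add_neg_cancel_right]
      rw [this, e0]
      simp [tv, qv, -map_mul]; abel
    rw [P, map_mul, ← mul_assoc, h2, eI,
      qv_mul (M.T.qtriple M.h) _ _ _ _ com_zero hp com_zero com_zero]
    simp [tv, qv, -map_mul]; abel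
  rw [P_injective M.h (e2.trans e1.symm)]
  refine ⟨by rw [orderOf_conj, orderOf_inv, M.T.hx], ((-1, 0), (1, 0), (-1, 0)), by decide, ?_⟩
  exact agree_tv (by rw [e1]; simp [-map_mul]) rfl rfl rfl

theorem J_minimal {S : Set G} (hS : Closed S) (hx : x ∈ S) (hy : x⁻¹ * a ∈ S) (hw : w ∈ S) :
    M.J ⊆ S := by
  rintro g ⟨ho, u, hu, hA⟩
  obtain ⟨g', hg', -, hB⟩ := M.realised hS hx hy hw u hu
  have : g = g' := agree_inj (agree_map hA) (agree_map hB)
  exact this ▸ hg'

theorem J_ncard : M.J.ncard = 20 := by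
  classical
  choose f hf ho hA using M.realised J_closed M.x_mem M.y_mem M.w_mem
  have heq : M.J = Set.range (fun u : {u // u ∈ vecs.toFinset} => f u.1 (List.mem_toFinset.1 u.2)) := by
    ext g
    constructor
    · rintro ⟨ho', u, hu, hA'⟩
      exact ⟨⟨u, List.mem_toFinset.2 hu⟩, agree_inj (agree_map (hA u hu)) (agree_map hA')⟩
    · rintro ⟨⟨u, hu⟩, rfl⟩
      exact hf u (List.mem_toFinset.1 hu)
  rw [heq, ← Nat.card_coe_set_eq, Nat.card_range_of_injective, Nat.card_eq_fintype_card,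
    Fintype.card_coe, vecs_card]
  rintro ⟨u, hu⟩ ⟨v, hv⟩ e
  have h1 := hA u (List.mem_toFinset.1 hu)
  dsimp only at e
  rw [e] at h1
  exact Subtype.ext (quat_injOn M.hψ (List.mem_toFinset.1 hu) (List.mem_toFinset.1 hv)
    (Agree.unique h1 (hA v (List.mem_toFinset.1 hv))))

theorem agree_smul_one (c : K) : M.Agree (c • (1 : Module.End K V)) (c • (1 : Quaternion K)) :=
  agree_one.smul c

theorem agree_S {g g' : G} {u v : Vec} (hu : M.Agree (P φ g) (quat M.ψ u))
    (hv : M.Agree (P φ g') (quat M.ψ v)) :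
    M.Agree (S φ g g') ((-2 * ev M.ψ (dot u v) : K) : Quaternion K) := by
  rw [← quat_anticomm M.hψ]
  exact (hu.mul hv).add (hv.mul hu)

/-- Elements acting as a quaternion of norm one. -/
def normOne : Subgroup G where
  carrier := {g | ∃ q, q * star q = 1 ∧ star q * q = 1 ∧ M.Agree (φ g) q}
  mul_mem' := by
    rintro g h ⟨p, hp, hp', hA⟩ ⟨q, hq, hq', hB⟩
    refine ⟨p * q, ?_, ?_, by rw [map_mul]; exact hA.mul hB⟩
    · rw [star_mul, mul_assoc, ← mul_assoc q, hq, one_mul, hp]
    · rw [star_mul, mul_assoc, ← mul_assoc (star p), hp', one_mul, hq']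
  one_mem' := ⟨1, by simp, by simp, by rw [map_one]; exact agree_one⟩
  inv_mem' := by
    rintro g ⟨q, hq, hq', hA⟩
    refine ⟨star q, by rw [star_star, hq'], by rw [star_star, hq], fun v hv => ?_⟩
    have e : φ g (act M.h M.T (star q) v) = v := by
      rw [hA _ (M.hinv _ v hv), ← Module.End.mul_apply, ← map_mul, hq, map_one, Module.End.one_apply]
    calc φ g⁻¹ v = φ g⁻¹ (φ g (act M.h M.T (star q) v)) := by rw [e]
      _ = _ := by rw [← map_mul_apply, inv_mul_cancel, map_one, Module.End.one_apply]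

theorem J_le_normOne : M.J ⊆ M.normOne := by
  rintro g ⟨ho, u, hu, hA⟩
  refine ⟨_, ?_, ?_, agree_map hA⟩ <;>
  · have hd := congrArg (ev M.ψ) (vecs_dot u hu)
    simp only [dot, ev_add, ev_mul M.hψ] at hd
    rw [show ev M.ψ (3, 0) = 3 by simp [ev]] at hd
    apply Quaternion.ext <;> simp <;> field_simp <;>
      first | linear_combination hd | linear_combination -hd | ring

/-- The distinguished axis in high position to `w`. -/
def baseVec : Vec := axisVec M.si M.sj true

theorem baseVec_mem : M.baseVec ∈ vecs := by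
  unfold baseVec; cases M.si <;> cases M.sj <;> decide

theorem base_dot : dot M.baseVec (extraVec M.si M.sj) = (-1, 2) := by
  unfold baseVec; cases M.si <;> cases M.sj <;> decide

theorem exists_base : ∃ t ∈ M.J, M.Agree (P φ t) (quat M.ψ M.baseVec) :=
  let ⟨t, ht, _, hA⟩ := M.realised J_closed M.x_mem M.y_mem M.w_mem _ M.baseVec_mem
  ⟨t, ht, hA⟩

theorem exists_high [IsAlgClosed K] [Algebra.IsAlgebraic ℚ K] [Finite G] [FiniteDimensional K V] :
    ∃ t ∈ M.J, High φ t w := by
  obtain ⟨t, ht, hA⟩ := M.exists_base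
  refine ⟨t, ht, ?_⟩
  have hS := M.agree_S hA M.hw
  rw [base_dot] at hS
  obtain ⟨c, hc, hcc, -, -⟩ := S_sq M.h ht.1 M.hwo
  have h20 : c = 20 := by
    have e := congrArg QuaternionAlgebra.re (Agree.unique (hcc ▸ hS.mul hS) (M.agree_smul_one c))
    simp [ev] at e
    linear_combination -e + 16 * M.hψ
  show S φ t w * S φ t w = 20
  rw [hcc, h20, ← Algebra.algebraMap_eq_smul_one, map_ofNat]

theorem conj_J_mem [Finite G] {g : G} (hg : g ∈ Subgroup.closure M.J) {s : G} (hs : s ∈ M.J) :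
    g * s * g⁻¹ ∈ M.J := by
  revert s
  induction hg using Subgroup.closure_induction with
  | mem c hc => exact fun {s} hs => J_closed.2 c hc s hs
  | one => intro s hs; simpa using hs
  | mul c d _ _ ihc ihd =>
    intro s hs
    rw [show c * d * s * (c * d)⁻¹ = c * (d * s * d⁻¹) * c⁻¹ by group]
    exact ihc (ihd hs)
  | inv c _ ih =>
    intro s hs
    have himg : (fun k => c * k * c⁻¹) '' M.J = M.J :=
      Set.eq_of_subset_of_ncard_le (by rintro _ ⟨k, hk, rfl⟩; exact ih hk)
        (by rw [Set.ncard_image_of_injective _ fun p q e => mul_left_cancel (mul_right_cancel e)])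
        (Set.toFinite _)
    rw [← himg] at hs
    obtain ⟨k, hk, rfl⟩ := hs
    simpa [mul_assoc] using hk

/-- An element of the generated subgroup commuting with a high pair is a scalar of order at most two. -/
theorem eq_one_or_agree_neg_one {k t : G} (hk : k ∈ Subgroup.closure M.J)
    (ht : M.Agree (P φ t) (quat M.ψ M.baseVec)) (hkt : k * t = t * k) (hkw : k * w = w * k) :
    k = 1 ∨ M.Agree (φ k) (-1) := by
  obtain ⟨q, hq, -, hA⟩ := (Subgroup.closure_le M.normOne).2 M.J_le_normOne hk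
  have hcomm : ∀ {s : G} {u : Vec}, k * s = s * k → M.Agree (P φ s) (quat M.ψ u) →
      q * quat M.ψ u = quat M.ψ u * q := by
    intro s u e hu
    refine Agree.unique (hA.mul hu) ?_
    have : φ k * P φ s = P φ s * φ k := by
      have e' : φ k * φ s = φ s * φ k := by rw [← map_mul, ← map_mul, e]
      simp only [P, two_mul, mul_add, add_mul, mul_one, one_mul, e']
    rw [this]
    exact hu.mul hA
  have e1 := hcomm hkt ht
  have e2 := hcomm hkw M.hw
  have t1 := congrArg QuaternionAlgebra.imI e1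
  have t2 := congrArg QuaternionAlgebra.imJ e1
  have w1 := congrArg QuaternionAlgebra.imI e2
  have hψ1 : M.ψ - 1 ≠ 0 := fun e => by
    have h1 := M.hψ
    rw [sub_eq_zero.1 e] at h1
    norm_num at h1
  obtain ⟨hI, hJ, hK⟩ : q.imI = 0 ∧ q.imJ = 0 ∧ q.imK = 0 := by
    cases hi : M.si <;> cases hj : M.sj <;>
      simp [baseVec, axisVec, extraVec, ev, sg, hi, hj] at t1 t2 w1 <;>
    · have h3 : (2 : K) * q.imK * (M.ψ - 1) = 0 := by
        first | linear_combination w1 | linear_combination -w1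
      have hK : q.imK = 0 := by simpa [hψ1] using h3
      rw [hK] at t1 t2
      have h1 : (2 : K) * q.imJ = 0 := by first | linear_combination t1 | linear_combination -t1
      have h2 : (2 : K) * q.imI = 0 := by first | linear_combination t2 | linear_combination -t2
      exact ⟨by simpa using h2, by simpa using h1, hK⟩
  have hre := congrArg QuaternionAlgebra.re hq
  simp [hI, hJ, hK] at hre
  have hq1 : q = (q.re : Quaternion K) := by apply Quaternion.ext <;> simp [hI, hJ, hK]
  rcases mul_self_eq_one_iff.1 hre with h1 | h1 <;> rw [hq1, h1] at hA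
  · exact .inl (agree_inj (g' := 1) hA (by rw [map_one]; simpa using agree_one (M := M)))
  · exact .inr (by simpa using hA)

theorem closure_J_card_le [Finite G] : Nat.card (Subgroup.closure M.J) ≤ 120 := by
  classical
  obtain ⟨t, ht, hA⟩ := M.exists_base
  set N := Subgroup.closure M.J with hN
  have hcode : ∀ g ∈ M.J, ∃ u, u ∈ vecs ∧ M.Agree (P φ g) (quat M.ψ u) := fun g hg => hg.2
  choose! code hc1 hc2 using hcode
  set S := ((N : Set G).toFinite).toFinset with hS
  let F : G → Vec × Vec := fun g => (code (g * t * g⁻¹), code (g * w * g⁻¹))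
  have hfib : ∀ p ∈ S.image F, (S.filter fun g => F g = p).card ≤ 2 := by
    intro p _
    by_contra hlt
    obtain ⟨g0, h0, g1, h1, g2, h2, n01, n02, n12⟩ := Finset.two_lt_card.1 (not_le.1 hlt)
    simp only [hS, Finset.mem_filter, Set.Finite.mem_toFinset, SetLike.mem_coe] at h0 h1 h2
    have key : ∀ g, g ∈ N → F g = F g0 → g ≠ g0 → M.Agree (φ (g0⁻¹ * g)) (-1) := by
      intro g hg hF hne
      simp only [F, Prod.mk.injEq] at hF
      have hc : ∀ s ∈ M.J, code (g * s * g⁻¹) = code (g0 * s * g0⁻¹) →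
          (g0⁻¹ * g) * s = s * (g0⁻¹ * g) := by
        intro s hs e
        have a1 := hc2 _ (M.conj_J_mem hg hs)
        rw [e] at a1
        have e' := agree_inj (agree_map a1) (agree_map (hc2 _ (M.conj_J_mem h0.1 hs)))
        calc (g0⁻¹ * g) * s = g0⁻¹ * (g * s * g⁻¹) * g := by group
          _ = g0⁻¹ * (g0 * s * g0⁻¹) * g := by rw [e']
          _ = _ := by group
      rcases M.eq_one_or_agree_neg_one (N.mul_mem (N.inv_mem h0.1) hg) hA (hc t ht hF.1)
        (hc w M.w_mem hF.2) with e | e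
      · exact absurd (inv_mul_eq_one.1 e).symm hne
      · exact e
    exact n12 (mul_left_cancel (agree_inj (key g1 h1.1 (h1.2.trans h0.2.symm) (Ne.symm n01))
      (key g2 h2.1 (h2.2.trans h0.2.symm) (Ne.symm n02))))
  have himg : S.image F ⊆ dotPairs (-1, 2) := by
    intro p hp
    obtain ⟨g, hg, rfl⟩ := Finset.mem_image.1 hp
    rw [hS, Set.Finite.mem_toFinset] at hg
    have b1 := hc2 _ (M.conj_J_mem hg ht)
    have b2 := hc2 _ (M.conj_J_mem hg M.w_mem)
    simp only [F, dotPairs, Finset.mem_filter, Finset.mem_product, List.mem_toFinset]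
    refine ⟨⟨hc1 _ (M.conj_J_mem hg ht), hc1 _ (M.conj_J_mem hg M.w_mem)⟩, znorm_eq_zero M.hψ ?_⟩
    obtain ⟨q, hq, hq', hB⟩ := (Subgroup.closure_le M.normOne).2 M.J_le_normOne hg
    have hBi : M.Agree (φ g⁻¹) (star q) := fun v hv => by
      have e : φ g (act M.h M.T (star q) v) = v := by
        rw [hB _ (M.hinv _ v hv), ← Module.End.mul_apply, ← map_mul, hq, map_one, Module.End.one_apply]
      calc φ g⁻¹ v = φ g⁻¹ (φ g (act M.h M.T (star q) v)) := by rw [e]
        _ = _ := by rw [← map_mul_apply, inv_mul_cancel, map_one, Module.End.one_apply]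
    have hT := M.agree_S hA M.hw
    rw [base_dot] at hT
    have h3 := (hB.mul hT).mul hBi
    rw [← S_conj, ← Quaternion.coe_commutes, mul_assoc (_ : Quaternion K) q, hq, mul_one] at h3
    have e := congrArg QuaternionAlgebra.re (Agree.unique (M.agree_S b1 b2) h3)
    simp at e
    rw [ev_sub]
    linear_combination e
  rw [show Nat.card N = S.card by rw [hS, ← Set.ncard_eq_toFinset_card, ← Nat.card_coe_set_eq]; rfl]
  calc S.card ≤ 2 * (S.image F).card := Finset.card_le_mul_card_image S 2 hfib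
    _ ≤ 2 * (dotPairs (-1, 2)).card := by gcongr
    _ = 120 := by rw [dotPairs_card.1]

theorem high_pairs_card_le [Finite G] :
    {p : G × G | p.1 ∈ M.J ∧ p.2 ∈ M.J ∧ High φ p.1 p.2}.ncard ≤ 120 := by
  classical
  let T' : Set (Vec × Vec) := ↑(dotPairs (-1, 2) ∪ dotPairs (1, -2))
  choose f hf ho hA using M.realised J_closed M.x_mem M.y_mem M.w_mem
  have hcode : ∀ g ∈ M.J, ∃ u, u ∈ vecs ∧ M.Agree (P φ g) (quat M.ψ u) := fun g hg => hg.2
  choose! code hc1 hc2 using hcode
  refine le_trans (Set.ncard_le_ncard_of_injOn (t := T') (fun p => (code p.1, code p.2)) ?_ ?_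
    (Finset.finite_toSet _)) ?_
  · rintro ⟨g, g'⟩ ⟨h1, h2, h3⟩
    have hS := M.agree_S (hc2 g h1) (hc2 g' h2)
    have e1 : S φ g g' * S φ g g' = (20 : K) • (1 : Module.End K V) := by
      rw [← Algebra.algebraMap_eq_smul_one, map_ofNat]; exact h3
    have e := congrArg QuaternionAlgebra.re (Agree.unique (e1 ▸ hS.mul hS) (M.agree_smul_one 20))
    simp at e
    have h0 : (ev M.ψ (dot (code g) (code g') - (-1, 2))) *
        (ev M.ψ (dot (code g) (code g') - (1, -2))) = 0 := by
      rw [ev_sub, ev_sub]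
      simp only [ev] at e ⊢
      push_cast
      linear_combination (1 / 4 : K) * e - 4 * M.hψ
    simp only [T', Finset.coe_union, Set.mem_union, Finset.mem_coe, dotPairs, Finset.mem_filter,
      Finset.mem_product, List.mem_toFinset]
    rcases mul_eq_zero.1 h0 with z | z
    · exact .inl ⟨⟨hc1 g h1, hc1 g' h2⟩, znorm_eq_zero M.hψ z⟩
    · exact .inr ⟨⟨hc1 g h1, hc1 g' h2⟩, znorm_eq_zero M.hψ z⟩
  · rintro ⟨g, g'⟩ ⟨h1, h2, -⟩ ⟨k, k'⟩ ⟨h3, h4, -⟩ e
    simp only [Prod.mk.injEq] at e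
    have a1 := hc2 g h1
    have a2 := hc2 g' h2
    rw [e.1] at a1
    rw [e.2] at a2
    rw [agree_inj (agree_map a1) (agree_map (hc2 k h3)),
      agree_inj (agree_map a2) (agree_map (hc2 k' h4))]
  · rw [Set.ncard_coe_finset]
    exact (Finset.card_union_le _ _).trans (by rw [dotPairs_card.1, dotPairs_card.2])

end Model

end Cfsg.Agent.FpfIcosian
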