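import Cfsg.Agent.Lib.FpfTet

/-!
The position of an element of order three with respect to a tetrahedral configuration.
-/

set_option autoImplicit false

namespace Cfsg.Agent.FpfKey

open FpfPairs FpfTet

variable {G K V : Type*} [Group G] [Field K] [CharZero K] [AddCommGroup V] [Module K V]
  {φ : G →* Module.End K V} {x a : G}

/-- Coordinates in the units of a tetrahedral pair. -/
abbrev tv (φ : G →* Module.End K V) (x a : G) (e0 e1 e2 e3 : Module.End K V) : Module.End K V :=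
  qv (uI φ a) (uJ φ x a) (uL φ x a) e0 e1 e2 e3

/-- Commuting with the units of a tetrahedral pair. -/
abbrev TCom (φ : G →* Module.End K V) (x a : G) (e : Module.End K V) : Prop :=
  Com (uI φ a) (uJ φ x a) e

/-- `g` is one of the eight elements of the configuration. -/
def InT (φ : G →* Module.End K V) (x a g : G) : Prop :=
  ∃ s1 s2 s3 : ℤ, (s1 = 1 ∨ s1 = -1) ∧ (s2 = 1 ∨ s2 = -1) ∧ (s3 = 1 ∨ s3 = -1) ∧
    P φ g = tv φ x a 0 (s1 : Module.End K V) (s2 : Module.End K V) (s3 : Module.End K V)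

omit [CharZero K] in
theorem tcom_smul (c : K) : TCom φ x a (c • (1 : Module.End K V)) :=
  ⟨by simp, by simp⟩

theorem conj_x2 (h : IsFPFRep φ) (T : IsTet φ x a) {g : G} {e0 e1 e2 e3 : Module.End K V}
    (c0 : TCom φ x a e0) (c1 : TCom φ x a e1) (c2 : TCom φ x a e2) (c3 : TCom φ x a e3)
    (hg : P φ g = tv φ x a e0 e1 e2 e3) :
    P φ (x⁻¹ * g * x) = tv φ x a e0 e2 e3 e1 := by
  have := T.conj_x h _ c0 c3 c1 c2 (T.conj_x h g c0 c1 c2 c3 hg)
  rwa [show x * (x * g * x⁻¹) * x⁻¹ = (x * x) * g * (x * x)⁻¹ by group, ← inv_eq_sq T.hx, inv_inv]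
    at this

theorem conj_b (h : IsFPFRep φ) (T : IsTet φ x a) {g : G} {e0 e1 e2 e3 : Module.End K V}
    (c0 : TCom φ x a e0) (c1 : TCom φ x a e1) (c2 : TCom φ x a e2) (c3 : TCom φ x a e3)
    (hg : P φ g = tv φ x a e0 e1 e2 e3) :
    P φ ((x * a * x⁻¹) * g * (x * a * x⁻¹)⁻¹) = tv φ x a e0 (-e1) e2 (-e3) := by
  have := T.conj_x h _ c0 c2 c3.neg c1.neg (T.conj_a h _ c0 c2 c3 c1 (conj_x2 h T c0 c1 c2 c3 hg))
  rwa [show (x * a * x⁻¹) * g * (x * a * x⁻¹)⁻¹ = x * (a * (x⁻¹ * g * x) * a⁻¹) * x⁻¹ by group]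

theorem conj_c (h : IsFPFRep φ) (T : IsTet φ x a) {g : G} {e0 e1 e2 e3 : Module.End K V}
    (c0 : TCom φ x a e0) (c1 : TCom φ x a e1) (c2 : TCom φ x a e2) (c3 : TCom φ x a e3)
    (hg : P φ g = tv φ x a e0 e1 e2 e3) :
    P φ ((a * (x * a * x⁻¹)) * g * (a * (x * a * x⁻¹))⁻¹) = tv φ x a e0 (-e1) (-e2) e3 := by
  have := T.conj_a h _ c0 c1.neg c2 c3.neg (conj_b h T c0 c1 c2 c3 hg)
  rw [neg_neg] at this
  rwa [show (a * (x * a * x⁻¹)) * g * (a * (x * a * x⁻¹))⁻¹
    = a * ((x * a * x⁻¹) * g * (x * a * x⁻¹)⁻¹) * a⁻¹ by group]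

/-- Every sign vector is realised by a conjugate of `x` or of its inverse. -/
theorem exists_axis (h : IsFPFRep φ) (T : IsTet φ x a) {s1 s2 s3 : ℤ} (h1 : s1 = 1 ∨ s1 = -1)
    (h2 : s2 = 1 ∨ s2 = -1) (h3 : s3 = 1 ∨ s3 = -1) :
    ∃ s, (s = 1 ∨ s = a ∨ s = x * a * x⁻¹ ∨ s = a * (x * a * x⁻¹)) ∧ ∃ u, (u = x ∨ u = x⁻¹) ∧
      P φ (s * u * s⁻¹) = tv φ x a 0 (s1 : Module.End K V) (s2 : Module.End K V) (s3 : Module.End K V) := by
  have hm : TCom φ x a (-1) := by simpa using com_intCast (-1)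
  have hp : TCom φ x a (1 : Module.End K V) := by simpa using com_intCast 1
  have hx' : P φ x⁻¹ = tv φ x a 0 1 1 1 := by
    rw [h.P_inv T.hx, T.P_x h, qv_neg]; simp [-map_mul]
  rcases h1 with rfl | rfl <;> rcases h2 with rfl | rfl <;> rcases h3 with rfl | rfl
  · exact ⟨1, .inl rfl, x⁻¹, .inr rfl, by simp [hx', -map_mul]⟩
  · exact ⟨a * (x * a * x⁻¹), .inr (.inr (.inr rfl)), x, .inl rfl, by
      rw [conj_c h T com_zero hm hm hm (T.P_x h)]; simp [-map_mul]⟩
  · exact ⟨x * a * x⁻¹, .inr (.inr (.inl rfl)), x, .inl rfl, by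
      rw [conj_b h T com_zero hm hm hm (T.P_x h)]; simp [-map_mul]⟩
  · exact ⟨a, .inr (.inl rfl), x⁻¹, .inr rfl, by
      rw [T.conj_a h _ com_zero hp hp hp hx']; simp [-map_mul]⟩
  · exact ⟨a, .inr (.inl rfl), x, .inl rfl, by
      rw [T.conj_a h _ com_zero hm hm hm (T.P_x h)]; simp [-map_mul]⟩
  · exact ⟨x * a * x⁻¹, .inr (.inr (.inl rfl)), x⁻¹, .inr rfl, by
      rw [conj_b h T com_zero hp hp hp hx']; simp [-map_mul]⟩
  · exact ⟨a * (x * a * x⁻¹), .inr (.inr (.inr rfl)), x⁻¹, .inr rfl, by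
      rw [conj_c h T com_zero hp hp hp hx']; simp [-map_mul]⟩
  · exact ⟨1, .inl rfl, x, .inl rfl, by simp [T.P_x h, -map_mul]⟩

theorem InT.conj_x (h : IsFPFRep φ) (T : IsTet φ x a) {g : G} (hg : InT φ x a g) :
    InT φ x a (x * g * x⁻¹) := by
  obtain ⟨s1, s2, s3, h1, h2, h3, e⟩ := hg
  exact ⟨s3, s1, s2, h3, h1, h2,
    T.conj_x h g com_zero (com_intCast s1) (com_intCast s2) (com_intCast s3) e⟩

theorem InT.inv (h : IsFPFRep φ) {g : G} (ho : orderOf g = 3) (hg : InT φ x a g) :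
    InT φ x a g⁻¹ := by
  obtain ⟨s1, s2, s3, h1, h2, h3, e⟩ := hg
  refine ⟨-s1, -s2, -s3, by omega, by omega, by omega, ?_⟩
  rw [h.P_inv ho, e, qv_neg]
  simp [-map_mul]

variable [IsAlgClosed K] [Algebra.IsAlgebraic ℚ K] [Finite G] [FiniteDimensional K V]

omit [IsAlgClosed K] [Algebra.IsAlgebraic ℚ K] [Finite G] [FiniteDimensional K V] [CharZero K] in
theorem smul_one_inj (h : IsFPFRep φ) {c d : K}
    (e : c • (1 : Module.End K V) = d • (1 : Module.End K V)) : c = d := by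
  have := h.nontrivial
  exact smul_left_injective K (one_ne_zero (α := Module.End K V)) e

/-- The square of the anticommutator. -/
theorem S_sq (h : IsFPFRep φ) {u w : G} (hu : orderOf u = 3) (hw : orderOf w = 3) :
    ∃ c : K, (c = 4 ∨ c = 20 ∨ c = 36) ∧ S φ u w * S φ u w = c • (1 : Module.End K V) ∧
      (c = 4 → Low φ u w) ∧ (c = 36 ↔ (w = u⁻¹ ∨ w = u)) := by
  have hne : ∀ {c d : K}, c ≠ d → c • (1 : Module.End K V) ≠ d • (1 : Module.End K V) :=
    fun hcd e => hcd (smul_one_inj h e)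
  have h6 : ((6 : Module.End K V) * 6 = (36 : K) • (1 : Module.End K V)) ∧
      ((-6 : Module.End K V) * -6 = (36 : K) • (1 : Module.End K V)) := by
    constructor <;> · rw [← Algebra.algebraMap_eq_smul_one, map_ofNat]; norm_num
  have h2 : ((2 : Module.End K V) * 2 = (4 : K) • (1 : Module.End K V)) ∧
      ((-2 : Module.End K V) * -2 = (4 : K) • (1 : Module.End K V)) := by
    constructor <;> · rw [← Algebra.algebraMap_eq_smul_one, map_ofNat]; norm_num
  have h20 : (20 : Module.End K V) = (20 : K) • (1 : Module.End K V) := by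
    rw [← Algebra.algebraMap_eq_smul_one, map_ofNat]
  have hself : ∀ e : w = u⁻¹ ∨ w = u, S φ u w * S φ u w = (36 : K) • (1 : Module.End K V) := by
    have hp := h.P_sq hu
    have e6 : S φ u u = -6 := by rw [S, hp]; norm_num
    rintro (rfl | rfl)
    · rw [h.S_inv_right _ hu, e6, neg_neg, h6.1]
    · rw [e6, h6.2]
  rcases h.position hu hw with ⟨e, hS⟩ | ⟨e, hS⟩ | (hS | hS) | hS
  · exact ⟨36, .inr (.inr rfl), by rw [hS, h6.1], fun hh => absurd hh (by norm_num),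
      iff_of_true rfl (.inl e)⟩
  · exact ⟨36, .inr (.inr rfl), by rw [hS, h6.2], fun hh => absurd hh (by norm_num),
      iff_of_true rfl (.inr e)⟩
  · refine ⟨4, .inl rfl, by rw [hS, h2.1], fun _ => .inl hS, iff_of_false (by norm_num) fun e => ?_⟩
    exact hne (c := (4 : K)) (d := 36) (by norm_num) (by rw [← h2.1, ← hS, hself e])
  · refine ⟨4, .inl rfl, by rw [hS, h2.2], fun _ => .inr hS, iff_of_false (by norm_num) fun e => ?_⟩
    exact hne (c := (4 : K)) (d := 36) (by norm_num) (by rw [← h2.2, ← hS, hself e])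
  · refine ⟨20, .inr (.inl rfl), by rw [hS, h20], fun hh => absurd hh (by norm_num),
      iff_of_false (by norm_num) fun e => ?_⟩
    exact hne (c := (20 : K)) (d := 36) (by norm_num) (by rw [← h20, ← (hS : _ = _), hself e])

theorem axis_rel (h : IsFPFRep φ) (T : IsTet φ x a) {w : G} (hw : orderOf w = 3)
    (hnw : ¬ InT φ x a w) {e0 e1 e2 e3 : Module.End K V}
    (c0 : TCom φ x a e0) (c1 : TCom φ x a e1) (c2 : TCom φ x a e2) (c3 : TCom φ x a e3)
    (hW : P φ w = tv φ x a e0 e1 e2 e3) {s1 s2 s3 : ℤ} (h1 : s1 = 1 ∨ s1 = -1)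
    (h2 : s2 = 1 ∨ s2 = -1) (h3 : s3 = 1 ∨ s3 = -1) :
    ∃ c : K, (c = 1 ∨ c = 5) ∧
      (s1 • e1 + s2 • e2 + s3 • e3) * (s1 • e1 + s2 • e2 + s3 • e3) - (3 : K) • (e0 * e0)
        = c • (1 : Module.End K V) ∧
      (s1 • e1 + s2 • e2 + s3 • e3) * e0 + e0 * (s1 • e1 + s2 • e2 + s3 • e3) = 0 ∧
      (c = 1 → ∃ s, (s = 1 ∨ s = a ∨ s = x * a * x⁻¹ ∨ s = a * (x * a * x⁻¹)) ∧
        Low φ (s * x * s⁻¹) w) := by
  obtain ⟨s, hs, u, hu, hPu⟩ := exists_axis h T h1 h2 h3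
  have huo : orderOf (s * u * s⁻¹) = 3 := by
    rw [orderOf_conj]; rcases hu with rfl | rfl <;> simp [T.hx]
  have hIn : InT φ x a (s * u * s⁻¹) := ⟨s1, s2, s3, h1, h2, h3, hPu⟩
  obtain ⟨c, hc, hcc, hlow, h36⟩ := S_sq h huo hw
  have hc36 : c ≠ 36 := fun e => by
    rcases h36.1 e with e' | e'
    · exact hnw (e' ▸ hIn.inv h huo)
    · exact hnw (e' ▸ hIn)
  set f := s1 • e1 + s2 • e2 + s3 • e3 with hf
  have cf : TCom φ x a f := by
    have hz : ∀ (n : ℤ) {e : Module.End K V}, TCom φ x a e → TCom φ x a (n • e) := fun n e he =>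
      ⟨by rw [smul_mul_assoc, he.1, mul_smul_comm], by rw [smul_mul_assoc, he.2, mul_smul_comm]⟩
    exact ((hz s1 c1).add (hz s2 c2)).add (hz s3 c3)
  have hl : ∀ (n : ℤ) (e : Module.End K V), (n : Module.End K V) * e = n • e :=
    fun n e => (zsmul_eq_mul e n).symm
  have hr : ∀ (n : ℤ) (e : Module.End K V), e * (n : Module.End K V) = n • e :=
    fun n e => by rw [← (Int.cast_commute n e).eq, hl]
  have hS : S φ (s * u * s⁻¹) w
      = tv φ x a (-(f + f)) (s1 • (e0 + e0)) (s2 • (e0 + e0)) (s3 • (e0 + e0)) := by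
    rw [S, hPu, hW, qv_mul (T.qtriple h) _ _ _ _ c0 c1 c2 c3,
      qv_mul (T.qtriple h) _ _ _ _ com_zero (com_intCast s1) (com_intCast s2) (com_intCast s3), qv_add]
    simp only [hl, hr, zero_mul, mul_zero, hf, smul_add]
    congr 1 <;> abel
  have ch : ∀ n : ℤ, TCom φ x a (n • (e0 + e0)) := fun n =>
    ⟨by rw [smul_mul_assoc, (c0.add c0).1, mul_smul_comm],
      by rw [smul_mul_assoc, (c0.add c0).2, mul_smul_comm]⟩
  rw [hS, qv_mul (T.qtriple h) _ _ _ _ (cf.add cf).neg (ch s1) (ch s2) (ch s3)] at hcc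
  have hsc : c • (1 : Module.End K V) = tv φ x a (c • 1) 0 0 0 := by simp [qv]
  rw [hsc] at hcc
  have cmul : ∀ {p q : Module.End K V}, TCom φ x a p → TCom φ x a q → TCom φ x a (p * q) :=
    fun hp hq => hp.mul hq
  have ff := (cf.add cf).neg
  obtain ⟨E0, E1, -, -⟩ := qv_inj (T.qtriple h)
    ((((cmul ff ff).sub (cmul (ch s1) (ch s1))).sub (cmul (ch s2) (ch s2))).sub (cmul (ch s3) (ch s3)))
    ((((cmul ff (ch s1)).add (cmul (ch s1) ff)).add (cmul (ch s2) (ch s3))).sub (cmul (ch s3) (ch s2)))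
    ((((cmul ff (ch s2)).sub (cmul (ch s1) (ch s3))).add (cmul (ch s2) ff)).add (cmul (ch s3) (ch s1)))
    ((((cmul ff (ch s3)).add (cmul (ch s1) (ch s2))).sub (cmul (ch s2) (ch s1))).add (cmul (ch s3) ff))
    (tcom_smul c) com_zero com_zero com_zero hcc
  have hsq : ∀ {n : ℤ}, n = 1 ∨ n = -1 → n * n = 1 := by rintro n (rfl | rfl) <;> norm_num
  simp only [smul_mul_assoc, mul_smul_comm, smul_smul, hsq h1, hsq h2, hsq h3, one_smul] at E0
  have E0' : (4 : K) • (f * f - (3 : K) • (e0 * e0)) = c • (1 : Module.End K V) := by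
    rw [← E0]
    simp only [mul_add, add_mul, neg_mul, mul_neg, neg_neg, neg_add]
    module
  have E1' : f * e0 + e0 * f = 0 := by
    have h4 : (-4 : K) • (s1 • (f * e0 + e0 * f)) = 0 := by
      rw [← E1]
      simp only [smul_mul_assoc, mul_smul_comm, smul_smul, mul_comm s3 s2, mul_add, add_mul, neg_mul,
        mul_neg, smul_add, neg_add]
      module
    have h5 := (smul_eq_zero.1 h4).resolve_left (by norm_num)
    rcases h1 with rfl | rfl
    · simpa using h5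
    · rw [neg_smul, one_smul, neg_eq_zero] at h5
      exact h5
  refine ⟨c / 4, ?_, ?_, E1', fun e => ⟨s, hs, ?_⟩⟩
  · rcases hc with rfl | rfl | rfl
    · left; norm_num
    · right; norm_num
    · exact absurd rfl hc36
  · rw [← inv_smul_smul₀ (show (4 : K) ≠ 0 by norm_num) (f * f - (3 : K) • (e0 * e0)), E0',
      smul_smul, inv_mul_eq_div]
  · have h4 : c = 4 := by
      rw [div_eq_one_iff_eq (by norm_num)] at e
      exact e
    have hl4 := hlow h4
    rcases hu with rfl | rfl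
    · exact hl4
    · have e' : s * x⁻¹ * s⁻¹ = (s * x * s⁻¹)⁻¹ := by group
      rw [e', Low, h.S_inv_left (by rw [orderOf_conj, T.hx]) w] at hl4
      rcases hl4 with hl4 | hl4
      · exact .inr (neg_eq_iff_eq_neg.1 hl4)
      · exact .inl (neg_inj.1 hl4)

/-- The relations between the coordinates of an element outside the configuration. -/
theorem key_rel (h : IsFPFRep φ) (T : IsTet φ x a) {w : G} (hw : orderOf w = 3)
    (hnw : ¬ InT φ x a w) {e0 e1 e2 e3 : Module.End K V}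
    (c0 : TCom φ x a e0) (c1 : TCom φ x a e1) (c2 : TCom φ x a e2) (c3 : TCom φ x a e3)
    (hW : P φ w = tv φ x a e0 e1 e2 e3) :
    (e0 * e1 + e1 * e0 = 0 ∧ e0 * e2 + e2 * e0 = 0 ∧ e0 * e3 + e3 * e0 = 0) ∧
      (e2 * e1 = e1 * e2 ∧ e3 * e1 = e1 * e3 ∧ e3 * e2 = e2 * e3) ∧
      ∃ p q r t : K, (p = 1 ∨ p = 5) ∧ (q = 1 ∨ q = 5) ∧ (r = 1 ∨ r = 5) ∧ (t = 1 ∨ t = 5) ∧
        e0 * e0 = ((12 - (p + q + r + t)) / 8) • (1 : Module.End K V) ∧
        e1 * e1 + e2 * e2 + e3 * e3 = (3 + (12 - (p + q + r + t)) / 8) • (1 : Module.End K V) ∧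
        e1 * e2 = ((p - q - r + t) / 8) • (1 : Module.End K V) ∧
        e1 * e3 = ((p - q + r - t) / 8) • (1 : Module.End K V) ∧
        e2 * e3 = ((p + q - r - t) / 8) • (1 : Module.End K V) ∧
        (p = 1 ∨ q = 1 ∨ r = 1 ∨ t = 1 →
          ∃ s, (s = 1 ∨ s = a ∨ s = x * a * x⁻¹ ∨ s = a * (x * a * x⁻¹)) ∧
            Low φ (s * x * s⁻¹) w) := by
  obtain ⟨p, hp, Fp, Gp, Lp⟩ := axis_rel h T hw hnw c0 c1 c2 c3 hW (.inl rfl) (.inl rfl) (.inl rfl)
  obtain ⟨q, hq, Fq, Gq, Lq⟩ := axis_rel h T hw hnw c0 c1 c2 c3 hW (.inl rfl) (.inr rfl) (.inr rfl)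
  obtain ⟨r, hr, Fr, Gr, Lr⟩ := axis_rel h T hw hnw c0 c1 c2 c3 hW (.inr rfl) (.inl rfl) (.inr rfl)
  obtain ⟨t, ht, Ft, Gt, Lt⟩ := axis_rel h T hw hnw c0 c1 c2 c3 hW (.inr rfl) (.inr rfl) (.inl rfl)
  simp only [one_smul, neg_smul, add_mul, mul_add, neg_mul, mul_neg, neg_neg] at Fp Fq Fr Ft Gp Gq Gr Gt
  have a1 : e0 * e1 + e1 * e0 = 0 := cancel_two (by
    have := congrArg₂ (· + ·) Gp Gq
    rw [add_zero] at this
    rw [← this]; abel)
  have a2 : e0 * e2 + e2 * e0 = 0 := cancel_two (by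
    have := congrArg₂ (· + ·) Gp Gr
    rw [add_zero] at this
    rw [← this]; abel)
  have a3 : e0 * e3 + e3 * e0 = 0 := cancel_two (by
    have := congrArg₂ (· + ·) Gp Gt
    rw [add_zero] at this
    rw [← this]; abel)
  have hsq := h.P_sq hw
  have h3 : (-3 : Module.End K V) = tv φ x a ((-3 : K) • 1) 0 0 0 := by
    simp [qv, Algebra.smul_def, map_ofNat]
  rw [hW, qv_mul (T.qtriple h) _ _ _ _ c0 c1 c2 c3, h3] at hsq
  obtain ⟨E0, E1, E2, E3⟩ := qv_inj (T.qtriple h)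
    ((((c0.mul c0).sub (c1.mul c1)).sub (c2.mul c2)).sub (c3.mul c3))
    ((((c0.mul c1).add (c1.mul c0)).add (c2.mul c3)).sub (c3.mul c2))
    ((((c0.mul c2).sub (c1.mul c3)).add (c2.mul c0)).add (c3.mul c1))
    ((((c0.mul c3).add (c1.mul c2)).sub (c2.mul c1)).add (c3.mul c0))
    (tcom_smul _) com_zero com_zero com_zero hsq
  rw [a1, zero_add, sub_eq_zero] at E1
  have E2' : e3 * e1 - e1 * e3 = 0 := by
    calc e3 * e1 - e1 * e3
        = (e0 * e2 - e1 * e3 + e2 * e0 + e3 * e1) - (e0 * e2 + e2 * e0) := by abel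
      _ = 0 := by rw [E2, a2, sub_zero]
  have E3' : e1 * e2 - e2 * e1 = 0 := by
    calc e1 * e2 - e2 * e1
        = (e0 * e3 + e1 * e2 - e2 * e1 + e3 * e0) - (e0 * e3 + e3 * e0) := by abel
      _ = 0 := by rw [E3, a3, sub_zero]
  rw [sub_eq_zero] at E2' E3'
  rw [E2', ← E3', ← E1] at Fp Fq Fr Ft
  have hA : e1 * e1 + e2 * e2 + e3 * e3 = e0 * e0 + (3 : K) • (1 : Module.End K V) := by
    calc e1 * e1 + e2 * e2 + e3 * e3
        = e0 * e0 - (e0 * e0 - e1 * e1 - e2 * e2 - e3 * e3) := by abel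
      _ = _ := by rw [E0, neg_smul, sub_neg_eq_add]
  have key : ∀ {v : Module.End K V} {m : K}, (8 : K) • v = m • (1 : Module.End K V) →
      v = (m / 8) • (1 : Module.End K V) := fun {v m} e => by
    rw [← inv_smul_smul₀ (show (8 : K) ≠ 0 by norm_num) v, e, smul_smul, inv_mul_eq_div]
  have h0 : e0 * e0 = ((12 - (p + q + r + t)) / 8) • (1 : Module.End K V) := by
    refine key ?_
    simp only [sub_smul, add_smul]
    rw [← Fp, ← Fq, ← Fr, ← Ft, show (12 : K) • (1 : Module.End K V)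
      = (4 : K) • ((e1 * e1 + e2 * e2 + e3 * e3) - e0 * e0) by
        rw [hA, add_sub_cancel_left, smul_smul]; norm_num]
    module
  refine ⟨⟨a1, a2, a3⟩, ⟨E3'.symm, E2', E1.symm⟩, p, q, r, t, hp, hq, hr, ht, h0,
    by rw [hA, h0, ← add_smul, add_comm], key ?_, key ?_, key ?_, ?_⟩
  · simp only [sub_smul, add_smul]
    rw [← Fp, ← Fq, ← Fr, ← Ft]; module
  · simp only [sub_smul, add_smul]
    rw [← Fp, ← Fq, ← Fr, ← Ft]; module
  · simp only [sub_smul, add_smul]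
    rw [← Fp, ← Fq, ← Fr, ← Ft]; module
  · rintro (e | e | e | e)
    · exact Lp e
    · exact Lq e
    · exact Lr e
    · exact Lt e

omit [IsAlgClosed K] [Algebra.IsAlgebraic ℚ K] [Finite G] [FiniteDimensional K V] in
theorem S_flip (h : IsFPFRep φ) (T : IsTet φ x a) {w : G} {e0 e1 e2 e3 : Module.End K V} {α : K}
    (c0 : TCom φ x a e0) (c1 : TCom φ x a e1) (c2 : TCom φ x a e2) (c3 : TCom φ x a e3)
    (hW : P φ w = tv φ x a e0 e1 e2 e3)
    (a1 : e0 * e1 + e1 * e0 = 0) (hz : e0 * e0 = α • (1 : Module.End K V))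
    (hA : e1 * e1 + e2 * e2 + e3 * e3 = (3 + α) • (1 : Module.End K V))
    (b21 : e2 * e1 = e1 * e2) (b31 : e3 * e1 = e1 * e3) (b32 : e3 * e2 = e2 * e3) :
    S φ w (a * w * a⁻¹) = (6 + 4 * α) • (1 : Module.End K V) - (4 : K) • (e1 * e1) := by
  rw [S, hW, T.conj_a h w c0 c1 c2 c3 hW, qv_mul (T.qtriple h) _ _ _ _ c0 c1 c2.neg c3.neg,
    qv_mul (T.qtriple h) _ _ _ _ c0 c1 c2 c3, qv_add]
  simp only [mul_neg, neg_mul, b21, b31, b32]
  have hA' : e2 * e2 + e3 * e3 = (3 + α) • (1 : Module.End K V) - e1 * e1 := by rw [← hA]; abel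
  calc _ = tv φ x a ((e0 * e0 + e0 * e0) - (e1 * e1 + e1 * e1)
          + ((e2 * e2 + e3 * e3) + (e2 * e2 + e3 * e3)))
        ((e0 * e1 + e1 * e0) + (e0 * e1 + e1 * e0)) 0 0 := by congr 1 <;> abel
    _ = _ := by
        rw [a1, hz, hA']
        simp only [tv, qv, add_zero, zero_mul]
        module


theorem InT.of_conj_x2 (h : IsFPFRep φ) (T : IsTet φ x a) {g : G} (hg : InT φ x a (x⁻¹ * g * x)) :
    InT φ x a g := by
  have := InT.conj_x h T hg
  rwa [show x * (x⁻¹ * g * x) * x⁻¹ = g by group] at this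

theorem InT.of_conj_x (h : IsFPFRep φ) (T : IsTet φ x a) {g : G} (hg : InT φ x a (x * g * x⁻¹)) :
    InT φ x a g := by
  refine InT.of_conj_x2 h T ?_
  have := InT.conj_x h T hg
  rwa [show x * (x * g * x⁻¹) * x⁻¹ = (x * x) * g * (x * x)⁻¹ by group, ← inv_eq_sq T.hx,
    inv_inv] at this

/-- The square of a coordinate when the cross terms vanish. -/
theorem coord_sq (h : IsFPFRep φ) (T : IsTet φ x a) {w : G} (hw : orderOf w = 3)
    {e0 e1 e2 e3 : Module.End K V} {α : K}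
    (c0 : TCom φ x a e0) (c1 : TCom φ x a e1) (c2 : TCom φ x a e2) (c3 : TCom φ x a e3)
    (hW : P φ w = tv φ x a e0 e1 e2 e3)
    (a1 : e0 * e1 + e1 * e0 = 0) (hz : e0 * e0 = α • (1 : Module.End K V))
    (hA : e1 * e1 + e2 * e2 + e3 * e3 = (3 + α) • (1 : Module.End K V))
    (b21 : e2 * e1 = e1 * e2) (b31 : e3 * e1 = e1 * e3) (b32 : e3 * e2 = e2 * e3)
    (z12 : e1 * e2 = 0) (z13 : e1 * e3 = 0) (hα : α ≠ 0) :
    ∃ f : K, e1 * e1 = f • (1 : Module.End K V) ∧ f * f = (3 + α) * f ∧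
      ((6 + 4 * α) * (6 + 4 * α) - 16 * α * f = 4 ∨ (6 + 4 * α) * (6 + 4 * α) - 16 * α * f = 20 ∨
        (6 + 4 * α) * (6 + 4 * α) - 16 * α * f = 36) := by
  obtain ⟨c, hc, hcc, -, -⟩ := S_sq h hw (show orderOf (a * w * a⁻¹) = 3 by rw [orderOf_conj, hw])
  rw [S_flip h T c0 c1 c2 c3 hW a1 hz hA b21 b31 b32] at hcc
  have hff : (e1 * e1) * (e1 * e1) = (3 + α) • (e1 * e1) := by
    have e := congrArg (fun M => (e1 * e1) * M) hA
    simp only [mul_add, mul_smul_comm, mul_one] at e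
    have h2 : e1 * e1 * (e2 * e2) = 0 := by
      rw [mul_assoc, ← mul_assoc e1 e2, z12, zero_mul, mul_zero]
    have h3 : e1 * e1 * (e3 * e3) = 0 := by
      rw [mul_assoc, ← mul_assoc e1 e3, z13, zero_mul, mul_zero]
    rw [h2, h3, add_zero, add_zero] at e
    exact e
  have key : (16 * α) • (e1 * e1)
      = ((6 + 4 * α) * (6 + 4 * α) - c) • (1 : Module.End K V) := by
    rw [sub_smul, ← hcc]
    simp only [sub_mul, mul_sub, smul_mul_assoc, mul_smul_comm, one_mul, mul_one, hff, smul_smul]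
    module
  have hne : 16 * α ≠ 0 := mul_ne_zero (by norm_num) hα
  set f := ((6 + 4 * α) * (6 + 4 * α) - c) / (16 * α) with hf
  have he : e1 * e1 = f • (1 : Module.End K V) := by
    rw [← inv_smul_smul₀ hne (e1 * e1), key, smul_smul, inv_mul_eq_div]
  refine ⟨f, he, smul_one_inj h ?_, ?_⟩
  · rw [he, smul_mul_smul_comm, one_mul, smul_smul] at hff
    exact hff
  · have : (6 + 4 * α) * (6 + 4 * α) - 16 * α * f = c := by
      rw [hf, mul_div_cancel₀ _ hne]; ring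
    rw [this]; exact hc

theorem no_single_coord (h : IsFPFRep φ) (T : IsTet φ x a) {w : G} (hw : orderOf w = 3)
    {e0 e2 : Module.End K V} (c0 : TCom φ x a e0) (c2 : TCom φ x a e2)
    (hW : P φ w = tv φ x a e0 0 e2 0) (hz : e0 * e0 = (-1 : K) • (1 : Module.End K V))
    (h22 : e2 * e2 = (2 : K) • (1 : Module.End K V)) : False := by
  have hW' := T.conj_a h w c0 com_zero c2 com_zero hW
  have hS : S φ w (a * w * a⁻¹) = 2 := by
    rw [S_flip h T c0 com_zero c2 com_zero hW (by simp) hz (by rw [h22]; norm_num) (by simp) (by simp)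
      (by simp), mul_zero, smul_zero, sub_zero, show (6 : K) + 4 * -1 = 2 by norm_num,
      ← Algebra.algebraMap_eq_smul_one, map_ofNat]
  rw [neg_zero] at hW'
  set v := a * w * a⁻¹ with hv
  have hvo : orderOf v = 3 := by rw [hv, orderOf_conj, hw]
  have hvi : orderOf v⁻¹ = 3 := by rw [orderOf_inv, hvo]
  set b := x * a * x⁻¹ with hb
  have comb : ∀ {g : G} {f : Module.End K V}, TCom φ x a f → P φ g = tv φ x a e0 0 f 0 →
      b * g = g * b := by
    intro g f hf e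
    have e1 := conj_b h T c0 com_zero hf com_zero e
    rw [neg_zero, ← e] at e1
    exact mul_inv_eq_iff_eq_mul.1 (P_injective h e1)
  have bw : b * w = w * b := comb c2 hW
  have bv : b * v = v * b := comb c2.neg hW'
  have hT := isTet_of_low h hw hvi (by rw [h.S_inv_right _ hvo, hS])
  have hgb : φ (w * v⁻¹) * φ b = φ b * φ (w * v⁻¹) := by
    rw [← map_mul, ← map_mul]
    congr 1
    have : b * v⁻¹ = v⁻¹ * b := (Commute.inv_right (show Commute b v from bv)).eq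
    rw [mul_assoc, ← this, ← mul_assoc, ← bw, mul_assoc]
  have hb2 : φ b * φ b = -1 := (T.qtriple h).JJ
  have hfac : (φ (w * v⁻¹) - φ b) * (φ (w * v⁻¹) + φ b) = 0 := by
    rw [sub_mul, mul_add, mul_add, hT.sq, hb2, hgb]; abel
  have := h.nontrivial
  obtain ⟨u, hu⟩ := exists_ne (0 : V)
  have hgw : (w * v⁻¹) * w = w * (w * v⁻¹) := by
    by_cases hd : (φ (w * v⁻¹) + φ b) u = 0
    · rw [LinearMap.add_apply, add_eq_zero_iff_eq_neg, ← LinearMap.neg_apply,
        ← map_inv_of_sq hb2] at hd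
      rw [h.eq_of_apply_eq hu hd]
      exact (Commute.inv_left (show Commute b w from bw)).eq
    · have := LinearMap.congr_fun hfac u
      rw [h.eq_of_apply_eq hd (sub_eq_zero.1 this)]
      exact bw
  have hcomm : Commute w v := by
    have e1 : Commute (w * v⁻¹) w := hgw
    have e2 : v = (w * v⁻¹)⁻¹ * w := by group
    rw [e2]
    exact (e1.inv_left.symm).mul_right (Commute.refl w)
  have ht3 : (w * v) ^ 3 = 1 := by
    rw [hcomm.mul_pow]
    have h1 := pow_orderOf_eq_one w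
    have h2 := pow_orderOf_eq_one v
    rw [hw] at h1; rw [hvo] at h2
    rw [h1, h2, one_mul]
  have hSe := h.S_eq hw hvo
  rw [hS] at hSe
  have hTU : φ (w * v) + φ (w * v)⁻¹ = 1 := by
    refine cancel_four ?_
    rw [mul_one, eq_add_of_sub_eq hSe.symm]
    norm_num
  by_cases h1 : w * v = 1
  · rw [h1, inv_one, map_one] at hTU
    exact one_ne_zero (add_left_cancel (a := (1 : Module.End K V)) (by rw [add_zero]; exact hTU))
  · have := Fact.mk Nat.prime_three
    have h3 := h.map_inv (orderOf_eq_prime ht3 h1)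
    rw [h3] at hTU
    have e2 : (-1 : Module.End K V) = 1 := Eq.trans (by abel) hTU
    refine one_ne_zero (cancel_two (M := (1 : Module.End K V)) ?_)
    nth_rewrite 1 [← e2]
    abel

/-- The standard position. -/
def Std (φ : G →* Module.End K V) (x a v : G) : Prop :=
  ∃ (e1 e2 : Module.End K V) (ρ : K), TCom φ x a e1 ∧ TCom φ x a e2 ∧ ρ * ρ = 1 ∧
    e1 * e2 = ρ • (1 : Module.End K V) ∧ e2 * e1 = ρ • (1 : Module.End K V) ∧
    e1 * e1 + e2 * e2 = (3 : K) • (1 : Module.End K V) ∧ P φ v = tv φ x a 0 e1 e2 0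

theorem std_of_rel (h : IsFPFRep φ) (T : IsTet φ x a) {w : G} (hw : orderOf w = 3)
    {e0 e1 e2 e3 : Module.End K V} {ρ : K}
    (c0 : TCom φ x a e0) (c1 : TCom φ x a e1) (c2 : TCom φ x a e2) (c3 : TCom φ x a e3)
    (hW : P φ w = tv φ x a e0 e1 e2 e3)
    (a3 : e0 * e3 + e3 * e0 = 0) (hz : e0 * e0 = 0)
    (hA : e1 * e1 + e2 * e2 + e3 * e3 = (3 : K) • (1 : Module.End K V))
    (b21 : e2 * e1 = e1 * e2) (b31 : e3 * e1 = e1 * e3) (b32 : e3 * e2 = e2 * e3)
    (r12 : e1 * e2 = ρ • (1 : Module.End K V)) (hρ : ρ * ρ = 1) (r13 : e1 * e3 = 0) :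
    Std φ x a w := by
  have he3 : e3 = 0 := by
    have h1 : ρ • e3 = 0 := by
      have h2 : ρ • e3 = e2 * (e1 * e3) := by
        rw [← mul_assoc, b21, r12, smul_one_mul]
      rw [h2, r13, mul_zero]
    exact (smul_eq_zero.1 h1).resolve_left (fun e => by simp [e] at hρ)
  subst he3
  have hWx := T.conj_x h w c0 c1 c2 c3 hW
  have hvo : orderOf (x * w * x⁻¹) = 3 := by rw [orderOf_conj, hw]
  have hS := S_flip h T (α := 0) c0 c3 c1 c2 hWx a3 (by rw [hz, zero_smul])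
    (by rw [show (3 : K) + 0 = 3 by norm_num, ← hA]; abel)
    (by simp) (by simp) b21
  rw [mul_zero (4 : K), add_zero, mul_zero, smul_zero, sub_zero] at hS
  have hcase : a * (x * w * x⁻¹) * a⁻¹ = (x * w * x⁻¹)⁻¹ := by
    have hne : ∀ {c : K}, c ≠ 6 → c • (1 : Module.End K V) ≠ (6 : K) • (1 : Module.End K V) :=
      fun hc e => hc (smul_one_inj h e)
    have h6 : ∀ (n : ℕ) [n.AtLeastTwo], (OfNat.ofNat n : Module.End K V)
        = (OfNat.ofNat n : K) • (1 : Module.End K V) := fun n _ => by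
      rw [← Algebra.algebraMap_eq_smul_one, map_ofNat]
    rcases h.position hvo (show orderOf (a * (x * w * x⁻¹) * a⁻¹) = 3 by rw [orderOf_conj, hvo]) with
      ⟨e, -⟩ | ⟨-, e⟩ | (e | e) | e
    · exact e
    · rw [hS, h6 6, ← neg_smul] at e
      exact absurd e.symm (hne (by norm_num))
    · rw [hS, h6 2] at e
      exact absurd e.symm (hne (by norm_num))
    · rw [hS, h6 2, ← neg_smul] at e
      exact absurd e.symm (hne (by norm_num))
    · have e' : S φ (x * w * x⁻¹) (a * (x * w * x⁻¹) * a⁻¹) *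
          S φ (x * w * x⁻¹) (a * (x * w * x⁻¹) * a⁻¹) = 20 := e
      rw [hS, smul_mul_smul_comm, one_mul, h6 20] at e'
      exact absurd (smul_one_inj h e') (by norm_num)
  have hva := T.conj_a h _ c0 c3 c1 c2 hWx
  rw [hcase, h.P_inv hvo, hWx, qv_neg] at hva
  obtain ⟨E0, -, -, -⟩ := qv_inj (T.qtriple h) c0.neg c3.neg c1.neg c2.neg c0 c3 c1.neg c2.neg hva
  have he0 : e0 = 0 := cancel_two (by
    calc e0 + e0 = e0 - -e0 := by abel
      _ = 0 := by rw [E0]; abel)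
  subst he0
  exact ⟨e1, e2, ρ, c1, c2, hρ, r12, b21.trans r12, by simpa using hA, hW⟩

/-- Every element of order three outside the configuration is, up to conjugation by `x`, in standard
position, and is in low position to one of the axes. -/
theorem exists_std (h : IsFPFRep φ) (T : IsTet φ x a) {w : G} (hw : orderOf w = 3)
    (hnw : ¬ InT φ x a w) :
    (∃ v, (v = w ∨ v = x * w * x⁻¹ ∨ v = x⁻¹ * w * x) ∧ Std φ x a v) ∧
      ∃ s, (s = 1 ∨ s = a ∨ s = x * a * x⁻¹ ∨ s = a * (x * a * x⁻¹)) ∧ Low φ (s * x * s⁻¹) w := by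
  obtain ⟨e0, e1, e2, e3, c0, c1, c2, c3, hW⟩ :=
    exists_decomp (K := K) (T.qtriple h) (P φ w)
  obtain ⟨⟨a1, a2, a3⟩, ⟨b21, b31, b32⟩, p, q, r, t, hp, hq, hr, ht, hz, hA, r12, r13, r23, hlow⟩ :=
    key_rel h T hw hnw c0 c1 c2 c3 hW
  set α := (12 - (p + q + r + t)) / 8 with hα
  set P' := (p - q - r + t) / 8 with hP'
  set Q' := (p - q + r - t) / 8 with hQ'
  set R' := (p + q - r - t) / 8 with hR'
  have hcyc : (3 + α) * (P' * Q' * R') = (P' * Q') ^ 2 + (P' * R') ^ 2 + (Q' * R') ^ 2 := by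
    apply smul_one_inj h
    have k1 : R' • (e1 * e1) = (P' * Q') • (1 : Module.End K V) := by
      have e : e1 * e1 * (e2 * e3) = (e1 * e2) * (e1 * e3) := by
        simp only [mul_assoc]; rw [← mul_assoc e2 e1, b21, mul_assoc]
      rw [r23, r12, r13, mul_smul_comm, mul_one, smul_mul_smul_comm, one_mul] at e
      exact e
    have k2 : Q' • (e2 * e2) = (P' * R') • (1 : Module.End K V) := by
      have e : e2 * e2 * (e1 * e3) = (e1 * e2) * (e2 * e3) := by
        simp only [mul_assoc]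
        rw [← mul_assoc e2 e1, b21, mul_assoc, ← mul_assoc e2 e1, b21, mul_assoc]
      rw [r23, r12, r13, mul_smul_comm, mul_one, smul_mul_smul_comm, one_mul] at e
      exact e
    have k3 : P' • (e3 * e3) = (Q' * R') • (1 : Module.End K V) := by
      have e : e3 * e3 * (e1 * e2) = (e1 * e3) * (e2 * e3) := by
        simp only [mul_assoc]
        rw [← mul_assoc e3 e1, b31, mul_assoc, ← mul_assoc e3 e1, b31, mul_assoc, b32,
          ← mul_assoc e3 e2, b32, mul_assoc]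
      rw [r23, r12, r13, mul_smul_comm, mul_one, smul_mul_smul_comm, one_mul] at e
      exact e
    calc ((3 + α) * (P' * Q' * R')) • (1 : Module.End K V)
        = (P' * Q' * R') • (e1 * e1 + e2 * e2 + e3 * e3) := by
          rw [hA, smul_smul, mul_comm]
      _ = (P' * Q') • (R' • (e1 * e1)) + (P' * R') • (Q' • (e2 * e2))
            + (Q' * R') • (P' • (e3 * e3)) := by
          simp only [smul_add, smul_smul]
          congr 2 <;> ring_nf
      _ = _ := by
          rw [k1, k2, k3, smul_smul, smul_smul, smul_smul, ← add_smul, ← add_smul, sq, sq, sq]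
  have finish : p = 1 ∨ q = 1 ∨ r = 1 ∨ t = 1 →
      (∃ v, (v = w ∨ v = x * w * x⁻¹ ∨ v = x⁻¹ * w * x) ∧ Std φ x a v) →
      (∃ v, (v = w ∨ v = x * w * x⁻¹ ∨ v = x⁻¹ * w * x) ∧ Std φ x a v) ∧
        ∃ s, (s = 1 ∨ s = a ∨ s = x * a * x⁻¹ ∨ s = a * (x * a * x⁻¹)) ∧
          Low φ (s * x * s⁻¹) w := fun h1 h2 => ⟨h2, hlow h1⟩
  have two : α = 0 → P' * P' = 1 ∧ Q' = 0 ∧ R' = 0 ∨ Q' * Q' = 1 ∧ P' = 0 ∧ R' = 0 ∨
      R' * R' = 1 ∧ P' = 0 ∧ Q' = 0 →
      ∃ v, (v = w ∨ v = x * w * x⁻¹ ∨ v = x⁻¹ * w * x) ∧ Std φ x a v := by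
    intro h0 hc
    rw [h0, zero_smul] at hz
    rw [h0, add_zero] at hA
    rcases hc with ⟨hρ, hz1, -⟩ | ⟨hρ, hz1, hz2⟩ | ⟨hρ, hz1, hz2⟩
    · exact ⟨w, .inl rfl, std_of_rel h T hw c0 c1 c2 c3 hW a3 hz hA b21 b31 b32 r12 hρ
        (by rw [r13, hz1, zero_smul])⟩
    · refine ⟨x * w * x⁻¹, .inr (.inl rfl), std_of_rel h T (by rw [orderOf_conj, hw]) c0 c3 c1 c2
        (T.conj_x h w c0 c1 c2 c3 hW) a2 hz (by rw [← hA]; abel) b31.symm b32.symm b21
        (b31.trans r13) hρ (by rw [b32, r23, hz2, zero_smul])⟩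
    · refine ⟨x⁻¹ * w * x, .inr (.inr rfl), std_of_rel h T ?_ c0 c2 c3 c1
        (conj_x2 h T c0 c1 c2 c3 hW) a1 hz (by rw [← hA]; abel) b32 b21.symm b31.symm r23 hρ
        (by rw [b21, r12, hz1, zero_smul])⟩
      rw [show x⁻¹ * w * x = x⁻¹ * w * (x⁻¹)⁻¹ by group, orderOf_conj, hw]
  have hWx := T.conj_x h w c0 c1 c2 c3 hW
  have hWy := conj_x2 h T c0 c1 c2 c3 hW
  have hwx : orderOf (x * w * x⁻¹) = 3 := by rw [orderOf_conj, hw]
  have hwy : orderOf (x⁻¹ * w * x) = 3 := by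
    rw [show x⁻¹ * w * x = x⁻¹ * w * (x⁻¹)⁻¹ by group, orderOf_conj, hw]
  have coords : P' = 0 → Q' = 0 → R' = 0 → α ≠ 0 → ∃ f g k : K,
      e1 * e1 = f • (1 : Module.End K V) ∧ e2 * e2 = g • (1 : Module.End K V) ∧
      e3 * e3 = k • (1 : Module.End K V) ∧ f + g + k = 3 + α ∧
      ∀ m, m = f ∨ m = g ∨ m = k → m * m = (3 + α) * m ∧
        ((6 + 4 * α) * (6 + 4 * α) - 16 * α * m = 4 ∨ (6 + 4 * α) * (6 + 4 * α) - 16 * α * m = 20 ∨
          (6 + 4 * α) * (6 + 4 * α) - 16 * α * m = 36) := by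
    intro hP hQ hR hα0
    rw [hP, zero_smul] at r12
    rw [hQ, zero_smul] at r13
    rw [hR, zero_smul] at r23
    obtain ⟨f, hf, hf2, hf3⟩ :=
      coord_sq h T hw c0 c1 c2 c3 hW a1 hz hA b21 b31 b32 r12 r13 hα0
    obtain ⟨g, hg, hg2, hg3⟩ :=
      coord_sq h T hwy c0 c2 c3 c1 hWy a2 hz (by rw [← hA]; abel) b32 b21.symm b31.symm r23
        (by rw [b21, r12]) hα0
    obtain ⟨k, hk, hk2, hk3⟩ :=
      coord_sq h T hwx c0 c3 c1 c2 hWx a3 hz (by rw [← hA]; abel) b31.symm b32.symm b21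
        (by rw [b31, r13]) (by rw [b32, r23]) hα0
    refine ⟨f, g, k, hf, hg, hk, smul_one_inj h ?_, ?_⟩
    · rw [← hA, hf, hg, hk, add_smul, add_smul]
    · rintro m (rfl | rfl | rfl)
      · exact ⟨hf2, hf3⟩
      · exact ⟨hg2, hg3⟩
      · exact ⟨hk2, hk3⟩
  have allOne : P' = 0 → Q' = 0 → R' = 0 → α = 1 → False := by
    intro hP hQ hR h1
    obtain ⟨f, g, k, -, -, -, hsum, hall⟩ := coords hP hQ hR (by rw [h1]; exact one_ne_zero)
    have h4 : ∀ m, m = f ∨ m = g ∨ m = k → m = 4 := by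
      intro m hm
      obtain ⟨h2, h3⟩ := hall m hm
      rw [h1] at h2 h3
      rcases h3 with h3 | h3 | h3
      · have : m = 6 := by linear_combination (-(1 : K) / 16) * h3
        subst this; norm_num at h2
      · have : m = 5 := by linear_combination (-(1 : K) / 16) * h3
        subst this; norm_num at h2
      · linear_combination (-(1 : K) / 16) * h3
    rw [h4 f (.inl rfl), h4 g (.inr (.inl rfl)), h4 k (.inr (.inr rfl)), h1] at hsum
    norm_num at hsum
  have allFive : P' = 0 → Q' = 0 → R' = 0 → α = -1 → False := by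
    intro hP hQ hR h1
    obtain ⟨f, g, k, hf, hg, hk, hsum, hall⟩ := coords hP hQ hR (by rw [h1]; norm_num)
    have h4 : ∀ m, m = f ∨ m = g ∨ m = k → m = 0 ∨ m = 2 := by
      intro m hm
      obtain ⟨h2, h3⟩ := hall m hm
      rw [h1] at h2
      have : m * (m - 2) = 0 := by linear_combination h2
      rcases mul_eq_zero.1 this with e | e
      · exact .inl e
      · exact .inr (sub_eq_zero.1 e)
    rw [hP, zero_smul] at r12
    rw [hQ, zero_smul] at r13
    rw [hR, zero_smul] at r23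
    rw [h1] at hz
    have two' : ∀ {A B C : Module.End K V}, A * A = (2 : K) • (1 : Module.End K V) → A * B = 0 →
        A * C = 0 → B = 0 ∧ C = 0 := by
      intro A B C hA' hB hC
      have : ∀ {X : Module.End K V}, A * X = 0 → X = 0 := by
        intro X hX
        have : (2 : K) • X = 0 := by
          rw [← smul_one_mul (2 : K) X, ← hA', mul_assoc, hX, mul_zero]
        exact (smul_eq_zero.1 this).resolve_left (by norm_num)
      exact ⟨this hB, this hC⟩
    rcases h4 f (.inl rfl) with rfl | rfl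
    · rcases h4 g (.inr (.inl rfl)) with rfl | rfl
      · rcases h4 k (.inr (.inr rfl)) with rfl | rfl
        · rw [h1] at hsum; norm_num at hsum
        · obtain ⟨z1, z2⟩ := two' hk (b31.trans r13) (b32.trans r23)
          subst z1; subst z2
          exact no_single_coord h T hwy c0 c3 hWy hz hk
      · obtain ⟨z1, z2⟩ := two' hg (b21.trans r12) r23
        subst z1; subst z2
        exact no_single_coord h T hw c0 c2 hW hz hg
    · obtain ⟨z1, z2⟩ := two' hf r12 r13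
      subst z1; subst z2
      exact no_single_coord h T hwx c0 c1 hWx hz hf
  rcases hp with rfl | rfl <;> rcases hq with rfl | rfl <;> rcases hr with rfl | rfl <;>
    rcases ht with rfl | rfl <;>
    norm_num [hα, hP', hQ', hR'] at hcyc <;> norm_num [hα, hP', hQ', hR'] at allOne <;>
    norm_num [hα, hP', hQ', hR'] at allFive <;> norm_num [hα, hP', hQ', hR'] at two
  all_goals exact finish (by simp) (by simpa using two)

end Cfsg.Agent.FpfKey
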