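import Mathlib

/-!
Lifting a fixed-point-free representation of a group of order prime to `p` from `ZMod p` to a field of
characteristic zero: if no non-zero vector of some non-trivial `F_p H`-module is fixed by a non-trivial element,
then the same holds for some non-zero module over any field of characteristic zero.
-/

set_option autoImplicit false

namespace Cfsg.Agent.FpfLift

open MonoidAlgebra

variable {H : Type*} [Group H] [Finite H]

/-- `g C g'` where `C` is the sum of the powers of `c`. -/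
noncomputable def T (R : Type*) [CommRing R] (g c g' : H) : MonoidAlgebra R H :=
  ∑ i ∈ Finset.range (orderOf c), single (g * c ^ i * g') 1

theorem single_mul_T {R : Type*} [CommRing R] (a g c g' : H) :
    single a (1 : R) * T R g c g' = T R (a * g) c g' := by
  simp [T, Finset.mul_sum, single_mul_single, mul_assoc]

theorem T_mul_single {R : Type*} [CommRing R] (a g c g' : H) :
    T R g c g' * single a (1 : R) = T R g c (g' * a) := by
  simp [T, Finset.sum_mul, single_mul_single, mul_assoc]

theorem T_eq {R : Type*} [CommRing R] (g c g' : H) :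
    T R g c g' = single g (1 : R) * T R 1 c 1 * single g' 1 := by
  rw [single_mul_T, T_mul_single, mul_one, one_mul]

theorem map_T {R S : Type*} [CommRing R] [CommRing S] (f : R →+* S) (g c g' : H) :
    mapRingHom H f (T R g c g') = T S g c g' := by
  simp [T, map_sum]

theorem single_pow_mul_T {R : Type*} [CommRing R] (c : H) (j : ℕ) :
    single (c ^ j) (1 : R) * T R 1 c 1 = T R 1 c 1 := by
  induction j with
  | zero => rw [pow_zero, single_mul_T, mul_one]
  | succ j ih =>
    have h1 : single c (1 : R) * T R 1 c 1 = T R 1 c 1 := by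
      rw [single_mul_T, mul_one]
      unfold T
      simp only [one_mul, mul_one]
      apply add_right_cancel (b := single (c ^ 0) (1 : R))
      have h1 := Finset.sum_range_succ' (fun i => single (c ^ i) (1 : R)) (orderOf c)
      have h2 := Finset.sum_range_succ (fun i => single (c ^ i) (1 : R)) (orderOf c)
      simp only [pow_succ', pow_orderOf_eq_one, pow_zero] at h1 h2 ⊢
      rw [← h1, h2]
    rw [pow_succ', show single (c * c ^ j) (1 : R) = single c 1 * single (c ^ j) 1 by simp [single_mul_single],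
      mul_assoc, ih, h1]

theorem T_mul_T {R : Type*} [CommRing R] (c : H) :
    T R 1 c 1 * T R 1 c 1 = (orderOf c : R) • T R 1 c 1 := by
  conv_lhs => arg 1; unfold T
  simp only [one_mul, mul_one]
  rw [Finset.sum_mul, Finset.sum_congr rfl (fun i _ => single_pow_mul_T c i), Finset.sum_const,
    Finset.card_range, ← Nat.cast_smul_eq_nsmul R]

section lift

variable {p : ℕ} [hp : Fact p.Prime] {W : Type*} [AddCommGroup W] [Module (ZMod p) W] [Finite W] [Nontrivial W]
  (ρ : H →* (W →ₗ[ZMod p] W))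

variable (hcop : ¬ p ∣ Nat.card H) (hfpf : ∀ c : H, c ≠ 1 → ∀ w : W, ρ c w = w → w = 0)

include hfpf in
theorem sum_pow_apply (c : H) (hc : c ≠ 1) (w : W) :
    ∑ i ∈ Finset.range (orderOf c), ρ (c ^ i) w = 0 := by
  apply hfpf c hc
  rw [map_sum]
  have : ∀ i, ρ c (ρ (c ^ i) w) = ρ (c ^ (i + 1)) w := fun i => by
    rw [pow_succ', map_mul ρ]; rfl
  rw [Finset.sum_congr rfl (fun i _ => this i)]
  apply add_right_cancel (b := ρ (c ^ 0) w)
  rw [← Finset.sum_range_succ' (fun i => ρ (c ^ i) w), Finset.sum_range_succ, pow_orderOf_eq_one, pow_zero]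

include hcop hfpf in
theorem exists_idempotent_modp :
    ∃ e : MonoidAlgebra (ZMod p) H, IsIdempotentElem e ∧ e ≠ 0 ∧
      ∀ g c g' : H, c ≠ 1 → T (ZMod p) g c g' * e = 0 := by
  classical
  haveI := Fintype.ofFinite H
  obtain ⟨w0, hw0⟩ := exists_ne (0 : W)
  obtain ⟨φ, hφ⟩ : ∃ φ : W →ₗ[ZMod p] ZMod p, φ w0 ≠ 0 := by
    by_contra h
    push Not at h
    exact hw0 ((Module.forall_dual_apply_eq_zero_iff (ZMod p) w0).1 h)
  -- the equivariant embedding into the group algebra
  let Φ : W →+ MonoidAlgebra (ZMod p) H :=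
    { toFun := fun w => ∑ h : H, single h (φ (ρ h⁻¹ w))
      map_zero' := by simp
      map_add' := fun a b => by simp [← Finset.sum_add_distrib, MonoidAlgebra.single_add] }
  have hΦ : ∀ a w, single a (1 : ZMod p) * Φ w = Φ (ρ a w) := by
    intro a w
    show single a (1 : ZMod p) * (∑ h : H, single h (φ (ρ h⁻¹ w))) = ∑ h : H, single h (φ (ρ h⁻¹ (ρ a w)))
    rw [Finset.mul_sum]
    refine Fintype.sum_equiv (Equiv.mulLeft a) _ _ fun h => ?_
    rw [single_mul_single, one_mul, Equiv.coe_mulLeft, ← Module.End.mul_apply (ρ _) (ρ a), ← map_mul,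
      mul_inv_rev, inv_mul_cancel_right]
  have hkill : ∀ g c g' w, c ≠ 1 → T (ZMod p) g c g' * Φ w = 0 := by
    intro g c g' w hc
    rw [T_eq, mul_assoc, hΦ, mul_assoc]
    unfold T
    simp only [one_mul, mul_one]
    rw [Finset.sum_mul, Finset.sum_congr rfl (fun i _ => hΦ (c ^ i) _), ← map_sum Φ,
      sum_pow_apply ρ hfpf c hc, map_zero, mul_zero]
  haveI : NeZero (Nat.card H : ZMod p) := ⟨fun h => hcop ((ZMod.natCast_eq_zero_iff _ p).1 h)⟩
  let I : Submodule (MonoidAlgebra (ZMod p) H) (MonoidAlgebra (ZMod p) H) := Submodule.span _ (Set.range Φ)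
  obtain ⟨J, hJ⟩ := exists_isCompl I
  obtain ⟨e, he, f, hf, hef⟩ := Submodule.mem_sup.1 (hJ.sup_eq_top ▸ Submodule.mem_top : (1 : MonoidAlgebra (ZMod p) H) ∈ I ⊔ J)
  have heI : ∀ x ∈ I, x = x * e := by
    intro x hx
    have h1 : x = x * e + x * f := by rw [← mul_add, hef, mul_one]
    have h2 : x * f ∈ I := by
      have : x * f = x - x * e := eq_sub_of_add_eq' h1.symm
      rw [this]; exact I.sub_mem hx (I.smul_mem x he)
    have h3 : x * f = 0 := Submodule.disjoint_def.1 hJ.disjoint _ h2 (J.smul_mem x hf)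
    rwa [h3, add_zero] at h1
  refine ⟨e, (heI e he).symm, ?_, fun g c g' hc => ?_⟩
  · intro h0
    have h1 := heI (Φ w0) (Submodule.subset_span ⟨w0, rfl⟩)
    rw [h0, mul_zero] at h1
    have h2 := congrArg (fun x : MonoidAlgebra (ZMod p) H => x.coeff 1) h1
    simp [Φ, Finsupp.finsetSum_apply, Finsupp.single_apply, hφ] at h2
  · have hall : ∀ x ∈ I, ∀ y z, T (ZMod p) y c z * x = 0 := by
      intro x hx
      induction hx using Submodule.span_induction with
      | mem x hx => obtain ⟨w, rfl⟩ := hx; exact fun y z => hkill y c z w hc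
      | zero => simp
      | add x y _ _ ihx ihy => intro a b; rw [mul_add, ihx, ihy, add_zero]
      | smul r x _ ih =>
        intro y z
        induction r using MonoidAlgebra.induction_on with
        | of m => rw [smul_eq_mul, ← mul_assoc, MonoidAlgebra.of_apply, T_mul_single, ih]
        | add a b iha ihb => rw [add_smul, mul_add, iha, ihb, add_zero]
        | smul s a iha => rw [smul_assoc, mul_smul_comm, iha, smul_zero]
    exact hall e he g g'

include hcop hfpf in
/-- No positive integer lies in the lattice spanned by the `g C g'`. -/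
theorem natCast_notMem (m : ℕ) (hm : m ≠ 0) :
    (m : MonoidAlgebra ℤ H) ∉ Submodule.span ℤ {x | ∃ g c g' : H, c ≠ 1 ∧ x = T ℤ g c g'} := by
  classical
  intro hmem
  obtain ⟨e, hee, hene, hkill⟩ := exists_idempotent_modp ρ hcop hfpf
  obtain ⟨k, m', hm', rfl⟩ := Nat.exists_eq_pow_mul_and_not_dvd hm p hp.out.ne_one
  let π : ZMod (p ^ (k + 1)) →+* ZMod p := ZMod.castHom (dvd_pow_self p (Nat.succ_ne_zero k)) (ZMod p)
  let Pm := mapRingHom H π
  have hdiv : ∀ y : MonoidAlgebra (ZMod (p ^ (k + 1))) H, Pm y = 0 → ∃ z, y = (p : ZMod (p ^ (k + 1))) • z := by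
    intro y hy
    haveI := Fintype.ofFinite H
    have hc : ∀ h : H, ∃ z : ZMod (p ^ (k + 1)), y.coeff h = (p : ZMod (p ^ (k + 1))) * z := by
      intro h
      have h0 : π (y.coeff h) = 0 := by
        rw [← coeff_mapRingHom π y h]; simp [Pm] at hy; simp [hy]
      obtain ⟨a, ha⟩ := ZMod.intCast_surjective (y.coeff h)
      rw [← ha, map_intCast, ZMod.intCast_zmod_eq_zero_iff_dvd] at h0
      obtain ⟨b, hb⟩ := h0
      exact ⟨(b : ZMod (p ^ (k + 1))), by rw [← ha, hb, Int.cast_mul, Int.cast_natCast]⟩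
    choose z hz using hc
    refine ⟨ofCoeff (Finsupp.equivFunOnFinite.symm z), ?_⟩
    ext h
    simpa using hz h
  have hnil : ∀ x ∈ RingHom.ker Pm, IsNilpotent x := by
    intro x hx
    obtain ⟨z, rfl⟩ := hdiv x hx
    refine ⟨k + 1, ?_⟩
    rw [smul_pow, ← Nat.cast_pow, ZMod.natCast_self, zero_smul]
  have hsurj : Function.Surjective Pm := by
    intro y
    choose s hs using fun h : H => ZMod.castHom_surjective (dvd_pow_self p (Nat.succ_ne_zero k)) (y.coeff h)
    refine ⟨ofCoeff (Finsupp.equivFunOnFinite.symm s), ?_⟩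
    ext h
    simpa [Pm, π] using hs h
  obtain ⟨e', he', hpe⟩ := exists_isIdempotentElem_eq_of_ker_isNilpotent Pm hnil e (hsurj e) hee
  have hzero : ∀ g c g', c ≠ 1 → T (ZMod (p ^ (k + 1))) g c g' * e' = 0 := by
    intro g c g' hc
    rw [T_eq, mul_assoc, mul_assoc]
    suffices h : ∀ s, T (ZMod (p ^ (k + 1))) 1 c 1 * (s * e') = 0 by rw [h, mul_zero]
    intro s
    have hmod : ∀ s, ∃ z, T (ZMod (p ^ (k + 1))) 1 c 1 * (s * e') = (p : ZMod (p ^ (k + 1))) • z := by
      intro s
      apply hdiv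
      have hgen : ∀ y : MonoidAlgebra (ZMod p) H, T (ZMod p) 1 c 1 * (y * e) = 0 := by
        intro y
        induction y using MonoidAlgebra.induction_on with
        | of m => rw [MonoidAlgebra.of_apply, ← mul_assoc, T_mul_single, hkill _ _ _ hc]
        | add a b iha ihb => rw [add_mul, mul_add, iha, ihb, add_zero]
        | smul t a iha => rw [smul_mul_assoc, mul_smul_comm, iha, smul_zero]
      show Pm _ = 0
      rw [map_mul, map_mul, hpe, map_T, hgen]
    have hunit : IsUnit ((orderOf c : ℕ) : ZMod (p ^ (k + 1))) := by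
      rw [ZMod.isUnit_iff_coprime]
      exact (Nat.Coprime.pow_right _ ((Nat.coprime_comm).1 ((hp.out.coprime_iff_not_dvd).2
        fun h => hcop (h.trans (orderOf_dvd_natCard c)))))
    set y := T (ZMod (p ^ (k + 1))) 1 c 1 * (s * e') with hy
    have key : ∀ j, ∃ z, y = ((p : ZMod (p ^ (k + 1))) ^ j) • z := by
      intro j
      induction j with
      | zero => exact ⟨y, by rw [pow_zero, one_smul]⟩
      | succ j ih =>
        obtain ⟨z, hz⟩ := ih
        obtain ⟨z', hz'⟩ := hmod z
        obtain ⟨u, hu⟩ := hunit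
        refine ⟨(↑u⁻¹ : ZMod (p ^ (k + 1))) • z', ?_⟩
        have h1 : (orderOf c : ZMod (p ^ (k + 1))) • y = ((p : ZMod (p ^ (k + 1))) ^ (j + 1)) • z' := by
          have h2 : y * e' = y := by rw [hy, mul_assoc, mul_assoc, he'.eq]
          calc (orderOf c : ZMod (p ^ (k + 1))) • y = T _ 1 c 1 * (y * e') := by
                rw [h2, hy, ← mul_assoc (T _ 1 c 1) (T _ 1 c 1), T_mul_T, smul_mul_assoc]
            _ = ((p : ZMod (p ^ (k + 1))) ^ (j + 1)) • z' := by
                rw [hz, smul_mul_assoc, mul_smul_comm, hz', smul_smul]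
                exact congrArg (· • z') (pow_succ _ j).symm
        rw [← hu] at h1
        rw [smul_comm, ← h1, smul_smul, Units.inv_mul, one_smul]
    obtain ⟨z, hz⟩ := key (k + 1)
    rw [hz, ← Nat.cast_pow, ZMod.natCast_self, zero_smul]
  let ι := mapRingHom H (Int.castRingHom (ZMod (p ^ (k + 1))))
  have h0' : ∀ x ∈ Submodule.span ℤ {x | ∃ g c g' : H, c ≠ 1 ∧ x = T ℤ g c g'}, ι x * e' = 0 := by
    intro x hx
    induction hx using Submodule.span_induction with
    | mem x hx => obtain ⟨g, c, g', hc, rfl⟩ := hx; rw [map_T]; exact hzero g c g' hc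
    | zero => simp
    | add x y _ _ ihx ihy => rw [map_add, add_mul, ihx, ihy, add_zero]
    | smul r x _ ih => rw [map_zsmul, smul_mul_assoc, ih, smul_zero]
  have h0 := h0' _ hmem
  rw [map_natCast] at h0
  obtain ⟨h, hh⟩ : ∃ h, e.coeff h ≠ 0 := by
    by_contra hc
    push Not at hc
    exact hene (MonoidAlgebra.ext (Finsupp.ext hc))
  have h1 := congrArg (fun x : MonoidAlgebra _ H => x.coeff h) h0
  simp only [← nsmul_eq_mul, coeff_zero, Finsupp.coe_zero, Pi.zero_apply] at h1
  rw [← Nat.cast_smul_eq_nsmul (ZMod (p ^ (k + 1))), coeff_smul, Finsupp.smul_apply, smul_eq_mul] at h1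
  obtain ⟨a, ha⟩ := ZMod.intCast_surjective (e'.coeff h)
  rw [← ha, ← Int.cast_natCast, ← Int.cast_mul, ZMod.intCast_zmod_eq_zero_iff_dvd, Nat.cast_mul, Nat.cast_pow,
    pow_succ, Nat.cast_pow, mul_assoc] at h1
  rw [← hpe] at hh
  apply hh
  simp only [Pm, coeff_mapRingHom, ← ha, map_intCast]
  rw [ZMod.intCast_zmod_eq_zero_iff_dvd]
  have h2 := Int.dvd_of_mul_dvd_mul_left (pow_ne_zero k (by exact_mod_cast hp.out.ne_zero : (p : ℤ) ≠ 0)) h1
  exact ((Nat.prime_iff_prime_int.1 hp.out).dvd_or_dvd h2).resolve_left fun h => hm' (Int.natCast_dvd_natCast.1 h)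

include hcop hfpf in
/-- Over any field of characteristic zero, `1` is outside the space spanned by the `g C g'`. -/
theorem one_notMem (K : Type*) [Field K] [CharZero K] :
    (1 : MonoidAlgebra K H) ∉ Submodule.span K {x | ∃ g c g' : H, c ≠ 1 ∧ x = T K g c g'} := by
  classical
  -- first over the rationals
  have hQ : (1 : MonoidAlgebra ℚ H) ∉ Submodule.span ℚ {x | ∃ g c g' : H, c ≠ 1 ∧ x = T ℚ g c g'} := by
    intro h1
    have : ∀ x ∈ Submodule.span ℚ {x | ∃ g c g' : H, c ≠ 1 ∧ x = T ℚ g c g'},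
        ∃ m : ℕ, m ≠ 0 ∧ ∃ z ∈ Submodule.span ℤ {x | ∃ g c g' : H, c ≠ 1 ∧ x = T ℤ g c g'},
          mapRingHom H (Int.castRingHom ℚ) z = (m : ℚ) • x := by
      intro x hx
      induction hx using Submodule.span_induction with
      | mem x hx =>
        obtain ⟨g, c, g', hc, rfl⟩ := hx
        exact ⟨1, one_ne_zero, T ℤ g c g', Submodule.subset_span ⟨g, c, g', hc, rfl⟩,
          by rw [map_T, Nat.cast_one, one_smul]⟩
      | zero => exact ⟨1, one_ne_zero, 0, Submodule.zero_mem _, by simp⟩
      | add x y _ _ ihx ihy =>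
        obtain ⟨a, ha, u, hu, hu'⟩ := ihx
        obtain ⟨b, hb, v, hv, hv'⟩ := ihy
        refine ⟨a * b, mul_ne_zero ha hb, (b : ℤ) • u + (a : ℤ) • v,
          Submodule.add_mem _ (Submodule.smul_mem _ _ hu) (Submodule.smul_mem _ _ hv), ?_⟩
        rw [map_add, map_zsmul, map_zsmul, hu', hv', ← Int.cast_smul_eq_zsmul ℚ, ← Int.cast_smul_eq_zsmul ℚ,
          smul_smul, smul_smul, smul_add, Int.cast_natCast, Int.cast_natCast, Nat.cast_mul, mul_comm (b : ℚ)]
      | smul r x _ ih =>
        obtain ⟨a, ha, u, hu, hu'⟩ := ih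
        refine ⟨a * r.den, mul_ne_zero ha r.den_nz, r.num • u, Submodule.smul_mem _ _ hu, ?_⟩
        rw [map_zsmul, hu', ← Int.cast_smul_eq_zsmul ℚ, smul_smul, smul_smul]
        congr 1
        push_cast
        have hr : (r.den : ℚ) * r = r.num := by rw [mul_comm]; exact_mod_cast Rat.mul_den_eq_num r
        rw [mul_assoc, hr, mul_comm]
    obtain ⟨m, hm, z, hz, hz'⟩ := this 1 h1
    apply natCast_notMem ρ hcop hfpf m hm
    have : z = (m : MonoidAlgebra ℤ H) := by
      ext h
      have h2 := congrArg (fun x : MonoidAlgebra ℚ H => x.coeff h) hz'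
      simp only [coeff_mapRingHom, coeff_smul, Finsupp.smul_apply, smul_eq_mul, eq_intCast] at h2
      rw [← nsmul_one m, coeff_smul, Finsupp.smul_apply]
      simp only [one_def, coeff_single, Finsupp.single_apply] at h2 ⊢
      split_ifs at h2 ⊢ <;> simp at h2 ⊢ <;> exact_mod_cast h2
    rw [← this]; exact hz
  -- a rational functional separating 1
  obtain ⟨f, hf1, hf0⟩ := Submodule.exists_dual_map_eq_bot_of_notMem hQ inferInstance
  let a : H → ℚ := fun h => f (single h 1)
  let F : MonoidAlgebra K H →ₗ[K] K :=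
    (Finsupp.linearCombination K (fun h => ((a h : ℚ) : K))).comp (MonoidAlgebra.coeffLinearEquiv K).toLinearMap
  intro h1
  apply hf1
  have hFT : ∀ g c g', c ≠ 1 → F (T K g c g') = 0 := by
    intro g c g' hc
    have h2 : f (T ℚ g c g') = 0 := by
      have : T ℚ g c g' ∈ Submodule.span ℚ {x | ∃ g c g' : H, c ≠ 1 ∧ x = T ℚ g c g'} :=
        Submodule.subset_span ⟨g, c, g', hc, rfl⟩
      have := Submodule.mem_map_of_mem (f := f) this
      rwa [hf0, Submodule.mem_bot] at this
    simp only [T, map_sum] at h2 ⊢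
    simp [F, a, ← Rat.cast_sum, h2]
  have h3' : ∀ x ∈ Submodule.span K {x | ∃ g c g' : H, c ≠ 1 ∧ x = T K g c g'}, F x = 0 := by
    intro x hx
    induction hx using Submodule.span_induction with
    | mem x hx => obtain ⟨g, c, g', hc, rfl⟩ := hx; exact hFT g c g' hc
    | zero => simp
    | add x y _ _ ihx ihy => rw [map_add, ihx, ihy, add_zero]
    | smul r x _ ih => rw [map_smul, ih, smul_zero]
  have h3 : F 1 = 0 := h3' 1 h1
  simpa [F, a, one_def] using h3

end lift

end Cfsg.Agent.FpfLift
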