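import Mathlib
import Cfsg.Agent.Lib.FpfPairs
import Cfsg.Agent.S3379

/-!
A Z-group with a fixed-point-free representation is given by a presentation
`⟨x, y | x^n, y^m, x⁻¹yx = y^r⟩` in which the element `x^(n/n')` centralises `y`.
-/

set_option autoImplicit false

namespace Cfsg.Agent.FpfMeta

open FpfPairs

variable {G K V : Type*} [Group G] [Finite G] [Field K] [CharZero K] [AddCommGroup V] [Module K V]
  {φ : G →* Module.End K V}

omit [CharZero K] in
/-- The sum over a non-trivial cyclic subgroup acts as zero. -/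
theorem sum_zpowers_eq_zero (h : IsFPFRep φ) {d : G} (hd : d ≠ 1) [Fintype (Subgroup.zpowers d)] :
    ∑ g : Subgroup.zpowers d, φ (g : G) = 0 := by
  refine LinearMap.ext fun v => h.fpf d hd _ ?_
  rw [LinearMap.sum_apply, map_sum]
  refine Finset.sum_equiv (Equiv.mulLeft ⟨d, Subgroup.mem_zpowers d⟩) (by simp) (fun g _ => ?_)
  rw [← map_mul_apply]; rfl

/-- There is no non-abelian subgroup of order `p q`. -/
theorem commute_of_prime (h : IsFPFRep φ) {d e : G} {p q : ℕ} (hp : p.Prime) (hq : q.Prime)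
    (hd : orderOf d = p) (he : orderOf e = q) (hn : e * d * e⁻¹ ∈ Subgroup.zpowers d) : Commute e d := by
  classical
  have := Fintype.ofFinite (Subgroup.zpowers d)
  have := Fintype.ofFinite (Subgroup.zpowers e)
  by_contra hne
  have hd1 : d ≠ 1 := fun e' => by rw [e', orderOf_one] at hd; exact hp.ne_one hd.symm
  have he1 : e ≠ 1 := fun e' => by rw [e', orderOf_one] at he; exact hq.ne_one he.symm
  have hnorm : ∀ (j : ℕ) (g : G), g ∈ Subgroup.zpowers d → e ^ j * g * (e ^ j)⁻¹ ∈ Subgroup.zpowers d := by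
    intro j g hg
    obtain ⟨i, rfl⟩ := hg
    induction j with
    | zero => simp
    | succ j ih =>
      obtain ⟨a, ha⟩ := ih
      have ha' : d ^ a = e ^ j * d ^ i * (e ^ j)⁻¹ := ha
      rw [pow_succ', mul_inv_rev, show e * e ^ j * d ^ i * ((e ^ j)⁻¹ * e⁻¹) =
        e * (e ^ j * d ^ i * (e ^ j)⁻¹) * e⁻¹ by group, ← ha', ← conj_zpow]
      exact Subgroup.zpow_mem _ hn _
  -- the sum of the conjugates of each power of `e`
  have key : ∀ j : ℕ, ¬ q ∣ j →
      ∑ g : Subgroup.zpowers d, φ ((g : G) * e ^ j * (g : G)⁻¹) = 0 := by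
    intro j hj
    let σ : Subgroup.zpowers d → Subgroup.zpowers d := fun g =>
      ⟨(g : G) * (e ^ j * (g : G)⁻¹ * (e ^ j)⁻¹),
        Subgroup.mul_mem _ g.2 (hnorm j _ (Subgroup.inv_mem _ g.2))⟩
    have hσ : Function.Bijective σ := by
      refine Finite.injective_iff_bijective.1 fun g g' hgg => ?_
      have e1 : (g : G) * (e ^ j * (g : G)⁻¹ * (e ^ j)⁻¹) = (g' : G) * (e ^ j * (g' : G)⁻¹ * (e ^ j)⁻¹) :=
        congrArg Subtype.val hgg
      set k : G := (g' : G)⁻¹ * g with hk
      have hkd : k ∈ Subgroup.zpowers d := Subgroup.mul_mem _ (Subgroup.inv_mem _ g'.2) g.2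
      have hfix : e ^ j * k = k * e ^ j := by
        have e2 : k * (e ^ j * (g : G)⁻¹ * (e ^ j)⁻¹) = e ^ j * (g' : G)⁻¹ * (e ^ j)⁻¹ := by
          rw [hk, mul_assoc, e1, inv_mul_cancel_left]
        have hcomm : (g : G) * (g' : G)⁻¹ = k := by
          obtain ⟨a, ha⟩ := g.2
          obtain ⟨b, hb⟩ := g'.2
          rw [hk, ← ha, ← hb, ← zpow_neg, ← zpow_add, ← zpow_add, add_comm]
        calc e ^ j * k = (e ^ j * (g' : G)⁻¹ * (e ^ j)⁻¹) * (e ^ j * (g : G)) := by
              rw [hk]; group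
          _ = k * (e ^ j * (g : G)⁻¹ * (e ^ j)⁻¹) * (e ^ j * (g : G)) := by rw [e2]
          _ = k * e ^ j := by group
      by_contra hgne
      have hk1 : k ≠ 1 := fun hk1 => hgne (Subtype.ext (inv_mul_eq_one.1 hk1).symm)
      have hko : Subgroup.zpowers k = Subgroup.zpowers d := by
        refine Subgroup.eq_of_le_of_card_ge (Subgroup.zpowers_le.2 hkd) ?_
        have h1 : orderOf k ∣ p := hd ▸ (Subgroup.orderOf_dvd_natCard _ hkd).trans (by rw [Nat.card_zpowers])
        rw [Nat.card_zpowers, Nat.card_zpowers, hd]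
        rcases (Nat.dvd_prime hp).1 h1 with h2 | h2
        · exact absurd (orderOf_eq_one_iff.1 h2) hk1
        · rw [h2]
      obtain ⟨a, ha⟩ : d ∈ Subgroup.zpowers k := hko ▸ Subgroup.mem_zpowers d
      have hc : Commute (e ^ j) d := ha ▸ (Commute.zpow_right hfix a)
      obtain ⟨i, hi⟩ := exists_pow_eq_self_of_coprime (x := e) (n := j)
        (by rw [he]; exact (hq.coprime_iff_not_dvd.2 hj).symm)
      exact hne (hi ▸ hc.pow_left i)
    have hsum : ∑ g : Subgroup.zpowers d, φ ((g : G) * e ^ j * (g : G)⁻¹) =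
        (∑ g : Subgroup.zpowers d, φ (g : G)) * φ (e ^ j) := by
      rw [Finset.sum_mul]
      refine Finset.sum_bijective σ hσ (by simp) fun g _ => ?_
      rw [← map_mul]
      congr 1
      show (g : G) * e ^ j * (g : G)⁻¹ = (g : G) * (e ^ j * (g : G)⁻¹ * (e ^ j)⁻¹) * e ^ j
      group
    rw [hsum, sum_zpowers_eq_zero h hd1, zero_mul]
  -- all together
  have hq' : orderOf e = q := he
  have hz : ∀ g : Subgroup.zpowers d,
      ∑ j ∈ Finset.range q, φ ((g : G) * e ^ j * (g : G)⁻¹) = 0 := by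
    intro g
    have h1 : ∑ j ∈ Finset.range q, φ (e ^ j) = 0 := by
      refine LinearMap.ext fun v => h.fpf e he1 _ ?_
      rw [LinearMap.sum_apply, map_sum]
      have h2 := Finset.sum_range_succ (fun j => φ (e ^ j) v) q
      have h3 := Finset.sum_range_succ' (fun j => φ (e ^ j) v) q
      have h4 : e ^ q = 1 := he ▸ pow_orderOf_eq_one e
      rw [h2, h4, pow_zero] at h3
      simp only [pow_succ', map_mul_apply] at h3
      exact (add_right_cancel h3).symm
    simp only [map_mul]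
    rw [← Finset.sum_mul, ← Finset.mul_sum, h1, mul_zero, zero_mul]
  have htot := Finset.sum_eq_zero (s := (Finset.univ : Finset (Subgroup.zpowers d))) fun g _ => hz g
  rw [Finset.sum_comm, Finset.sum_eq_single_of_mem 0 (Finset.mem_range.2 hq.pos)
    (fun j hj hj0 => key j fun hdvd => hj0 (Nat.eq_zero_of_dvd_of_lt hdvd (Finset.mem_range.1 hj)))] at htot
  simp only [pow_zero, mul_one, mul_inv_cancel, map_one, Finset.sum_const, Finset.card_univ] at htot
  rw [← Nat.card_eq_fintype_card, Nat.card_zpowers, hd] at htot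
  have := h.nontrivial
  obtain ⟨v, hv⟩ := exists_ne (0 : V)
  have h5 := LinearMap.congr_fun htot v
  rw [LinearMap.smul_apply, Module.End.one_apply, ← Nat.cast_smul_eq_nsmul K, LinearMap.zero_apply,
    smul_eq_zero] at h5
  rcases h5 with h5 | h5
  · exact hp.ne_zero (Nat.cast_eq_zero.1 h5)
  · exact hv h5

/-- The relations of the presentation. -/
def rels (n m r : ℕ) : Set (FreeGroup (Fin 2)) :=
  {FreeGroup.of (0 : Fin 2) ^ n, FreeGroup.of (1 : Fin 2) ^ m,
    (FreeGroup.of (0 : Fin 2))⁻¹ * FreeGroup.of 1 * FreeGroup.of 0 * (FreeGroup.of (1 : Fin 2) ^ r)⁻¹}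

theorem exists_normal_form {n m r : ℕ} (hn : 0 < n) (hm : 0 < m) (g : PresentedGroup (rels n m r)) :
    ∃ i j : ℕ, g = PresentedGroup.of (0 : Fin 2) ^ i * PresentedGroup.of (1 : Fin 2) ^ j := by
  set X : PresentedGroup (rels n m r) := PresentedGroup.of 0 with hX
  set Y : PresentedGroup (rels n m r) := PresentedGroup.of 1 with hY
  have hXn : X ^ n = 1 := by
    rw [hX, PresentedGroup.of, ← map_pow]
    exact PresentedGroup.one_of_mem (Or.inl rfl)
  have hYm : Y ^ m = 1 := by
    rw [hY, PresentedGroup.of, ← map_pow]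
    exact PresentedGroup.one_of_mem (Or.inr (Or.inl rfl))
  have hrel : X⁻¹ * Y * X = Y ^ r := by
    have := PresentedGroup.one_of_mem (rels := rels n m r) (Or.inr (Or.inr rfl))
    rw [map_mul, map_mul, map_mul, map_inv, map_inv, map_pow] at this
    exact mul_inv_eq_one.1 this
  have hstep : ∀ j : ℕ, Y ^ j * X = X * Y ^ (r * j) := by
    intro j
    induction j with
    | zero => simp
    | succ j ih =>
      rw [pow_succ' Y j, mul_assoc, ih, ← mul_assoc, show Y * X = X * Y ^ r by
        rw [← hrel]; group, mul_assoc, ← pow_add, Nat.mul_succ, add_comm (r * j)]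
  have hclX : ∀ g : PresentedGroup (rels n m r), (∃ i j : ℕ, g = X ^ i * Y ^ j) →
      ∃ i j : ℕ, g * X = X ^ i * Y ^ j := by
    rintro _ ⟨i, j, rfl⟩
    exact ⟨i + 1, r * j, by rw [mul_assoc, hstep, ← mul_assoc, ← pow_succ]⟩
  have hclXn : ∀ (k : ℕ) (g : PresentedGroup (rels n m r)), (∃ i j : ℕ, g = X ^ i * Y ^ j) →
      ∃ i j : ℕ, g * X ^ k = X ^ i * Y ^ j := by
    intro k
    induction k with
    | zero => intro g hg; simpa using hg
    | succ k ih => intro g hg; rw [pow_succ, ← mul_assoc]; exact hclX _ (ih g hg)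
  have hXinv : X⁻¹ = X ^ (n - 1) := inv_eq_of_mul_eq_one_right (by rw [← pow_succ', Nat.sub_add_cancel hn, hXn])
  have hYinv : Y⁻¹ = Y ^ (m - 1) := inv_eq_of_mul_eq_one_right (by rw [← pow_succ', Nat.sub_add_cancel hm, hYm])
  have hmem : g ∈ Subgroup.closure (Set.range (PresentedGroup.of (rels := rels n m r))) := by
    rw [PresentedGroup.closure_range_of]; trivial
  induction hmem using Subgroup.closure_induction_right with
  | one => exact ⟨0, 0, by simp⟩
  | mul_right a _ b hb ih =>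
    obtain ⟨k, rfl⟩ := hb
    fin_cases k
    · exact hclX a ih
    · obtain ⟨i, j, rfl⟩ := ih
      exact ⟨i, j + 1, by rw [pow_succ Y j, ← mul_assoc]; rfl⟩
  | mul_inv_cancel a _ b hb ih =>
    obtain ⟨k, rfl⟩ := hb
    fin_cases k
    · show ∃ i j : ℕ, a * X⁻¹ = X ^ i * Y ^ j
      rw [hXinv]; exact hclXn _ a ih
    · obtain ⟨i, j, rfl⟩ := ih
      refine ⟨i, j + (m - 1), ?_⟩
      show X ^ i * Y ^ j * Y⁻¹ = _
      rw [hYinv, pow_add, ← mul_assoc]

/-- The presentation of a Z-group with a fixed-point-free representation. -/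
theorem exists_presentation (h : IsFPFRep φ) (N : Subgroup G)
    (hZ : ∀ (p : ℕ) [Fact p.Prime] (P : Sylow p N), IsCyclic P) :
    ∃ n m r : ℕ, 0 < n ∧ 0 < m ∧ Nat.Coprime (r - 1) m ∧ Nat.Coprime n m ∧ 1 ≤ r ∧
      r ^ (n / ∏ p ∈ n.primeFactors, p) % m = 1 % m ∧ Nonempty (N ≃* PresentedGroup (rels n m r)) := by
  obtain ⟨x, y, n, m, r, hgen, hx, hy, hxy, hcr, hcop, hr1, hrn⟩ := S3379.result hZ
  have hn : 0 < n := hx ▸ orderOf_pos x
  have hm : 0 < m := hy ▸ orderOf_pos y
  haveI : NeZero m := ⟨hm.ne'⟩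
  have hconj : ∀ i : ℕ, (x ^ i)⁻¹ * y * x ^ i = y ^ (r ^ i) := by
    intro i
    induction i with
    | zero => simp
    | succ i ih =>
      have hp : ∀ j : ℕ, x⁻¹ * y ^ j * x = (y ^ r) ^ j := fun j => by
        rw [← hxy]
        simpa using (conj_pow (a := x⁻¹) (b := y) (i := j)).symm
      rw [pow_succ x i, pow_succ' r i, pow_mul, ← hp, ← ih]
      group
  have hzr : ∀ i : ℕ, r ^ i % m = 1 % m ↔ (r : ZMod m) ^ i = 1 := fun i => by
    rw [← Nat.cast_pow, ← Nat.cast_one (R := ZMod m), ZMod.natCast_eq_natCast_iff']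
  -- a power of `x` of prime order centralises `y`
  have hq : ∀ q ∈ n.primeFactors, (r : ZMod m) ^ (n / q) = 1 := by
    intro q hq
    obtain ⟨hqp, hqn, -⟩ := Nat.mem_primeFactors.1 hq
    set a : N := x ^ (n / q) with ha
    have hao : orderOf a = q := by
      rw [ha, orderOf_pow, hx, Nat.gcd_eq_right (Nat.div_dvd_of_dvd hqn), Nat.div_div_self hqn hn.ne']
    set s := r ^ (n / q) with hs
    rw [← Nat.cast_pow, ← hs]
    have hsq : (s : ZMod m) ^ q = 1 := by
      rw [hs, Nat.cast_pow, ← pow_mul, Nat.div_mul_cancel hqn, ← hzr]; exact hrn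
    set T : ZMod m := ∑ i ∈ Finset.range q, (s : ZMod m) ^ i with hT
    have hT1 : IsUnit T := by
      set t := ∑ i ∈ Finset.range q, s ^ i with ht
      rw [show T = (t : ZMod m) by rw [hT, ht]; push_cast; rfl]
      rw [ZMod.isUnit_iff_coprime]
      refine Nat.coprime_of_dvd fun p hp hpt hpm => ?_
      -- the element of order `p` below `y` is fixed
      set d : N := y ^ (m / p) with hd
      have hdo : orderOf d = p := by
        rw [hd, orderOf_pow, hy, Nat.gcd_eq_right (Nat.div_dvd_of_dvd hpm), Nat.div_div_self hpm hm.ne']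
      have had : a⁻¹ * d * a = d ^ s := by
        rw [hd, ← pow_mul, mul_comm, pow_mul, hs, ← hconj, ← ha]
        simpa using (conj_pow (a := a⁻¹) (b := y) (i := m / p)).symm
      have hcomm : Commute ((a⁻¹ : N) : G) (d : G) := by
        refine commute_of_prime h hp hqp (by rw [Subgroup.orderOf_coe, hdo])
          (by rw [Subgroup.orderOf_coe, orderOf_inv, hao]) ⟨s, ?_⟩
        show (d : G) ^ (s : ℤ) = _
        rw [zpow_natCast, ← Subgroup.coe_pow, ← had]
        simp
      have hs1 : d ^ s = d ^ 1 := by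
        rw [pow_one, ← had]
        have : Commute a⁻¹ d := Subtype.ext hcomm
        rw [this.eq, mul_assoc, inv_mul_cancel, mul_one]
      rw [pow_eq_pow_iff_modEq, hdo] at hs1
      have hqp' : p ∣ q := by
        have h1 : t ≡ q [MOD p] := by
          rw [ht, ← ZMod.natCast_eq_natCast_iff]
          push_cast
          rw [(ZMod.natCast_eq_natCast_iff _ _ _).2 hs1]
          simp
        exact (Nat.modEq_zero_iff_dvd.1 (h1.symm.trans (Nat.modEq_zero_iff_dvd.2 hpt)))
      have hpq := (Nat.prime_dvd_prime_iff_eq hp hqp).1 hqp'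
      subst hpq
      exact hp.not_dvd_one (hcop ▸ Nat.dvd_gcd hqn hpm)
    have hgeom : T * ((s : ZMod m) - 1) = 0 := by rw [hT, geom_sum_mul, hsq, sub_self]
    exact sub_eq_zero.1 ((hT1.mul_right_eq_zero).1 hgeom)
  set n' := ∏ p ∈ n.primeFactors, p with hn'
  have hord : orderOf (r : ZMod m) ∣ n / n' := by
    have h1 : orderOf (r : ZMod m) ∣ n := orderOf_dvd_of_pow_eq_one ((hzr n).1 hrn)
    obtain ⟨c, hc⟩ := h1
    have h2 : n' ∣ c := by
      refine Finset.prod_primes_dvd c (fun p hp => (Nat.prime_of_mem_primeFactors hp).prime) fun p hp => ?_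
      obtain ⟨e, he⟩ := orderOf_dvd_of_pow_eq_one (hq p hp)
      obtain ⟨hpp, hpn, -⟩ := Nat.mem_primeFactors.1 hp
      have hpos : 0 < orderOf (r : ZMod m) := Nat.pos_of_ne_zero fun h0 => by rw [h0, zero_mul] at hc; omega
      refine ⟨e, Nat.eq_of_mul_eq_mul_left hpos ?_⟩
      rw [← hc, ← Nat.mul_div_cancel' hpn, he]; ring
    obtain ⟨e, rfl⟩ := h2
    have hpos : 0 < n' := Finset.prod_pos fun p hp => (Nat.prime_of_mem_primeFactors hp).pos
    refine ⟨e, ?_⟩
    rw [hc, show orderOf (r : ZMod m) * (n' * e) = orderOf (r : ZMod m) * e * n' by ring,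
      Nat.mul_div_cancel _ hpos]
  refine ⟨n, m, r, hn, hm, hcr, hcop, hr1, (hzr _).2 (orderOf_dvd_iff_pow_eq_one.1 hord), ?_⟩
  have hrels : ∀ w ∈ rels n m r, FreeGroup.lift ![x, y] w = 1 := by
    intro w hw
    rcases hw with rfl | rfl | rfl
    · rw [map_pow, FreeGroup.lift_apply_of]; exact hx ▸ pow_orderOf_eq_one x
    · rw [map_pow, FreeGroup.lift_apply_of]; exact hy ▸ pow_orderOf_eq_one y
    · rw [map_mul, map_mul, map_mul, map_inv, map_inv, map_pow, FreeGroup.lift_apply_of, FreeGroup.lift_apply_of]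
      exact mul_inv_eq_one.2 hxy
  set π := PresentedGroup.toGroup hrels with hπ
  have hsurj : Function.Surjective π := by
    rw [← MonoidHom.range_eq_top, eq_top_iff, ← hgen, Subgroup.closure_le]
    rintro w (rfl | rfl)
    · exact ⟨PresentedGroup.of 0, by rw [hπ, PresentedGroup.toGroup.of]; rfl⟩
    · exact ⟨PresentedGroup.of 1, by rw [hπ, PresentedGroup.toGroup.of]; rfl⟩
  have hsurjF : Function.Surjective (fun w : Fin n × Fin m =>
      (PresentedGroup.of (0 : Fin 2) ^ (w.1 : ℕ) * PresentedGroup.of (1 : Fin 2) ^ (w.2 : ℕ) :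
        PresentedGroup (rels n m r))) := by
    intro g
    obtain ⟨i, j, rfl⟩ := exists_normal_form hn hm g
    refine ⟨(⟨i % n, Nat.mod_lt _ hn⟩, ⟨j % m, Nat.mod_lt _ hm⟩), ?_⟩
    have hXn : (PresentedGroup.of (0 : Fin 2) : PresentedGroup (rels n m r)) ^ n = 1 := by
      rw [PresentedGroup.of, ← map_pow]; exact PresentedGroup.one_of_mem (Or.inl rfl)
    have hYm : (PresentedGroup.of (1 : Fin 2) : PresentedGroup (rels n m r)) ^ m = 1 := by
      rw [PresentedGroup.of, ← map_pow]; exact PresentedGroup.one_of_mem (Or.inr (Or.inl rfl))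
    show _ ^ (i % n) * _ ^ (j % m) = _
    rw [← pow_eq_pow_mod i hXn, ← pow_eq_pow_mod j hYm]
  haveI : Finite (PresentedGroup (rels n m r)) := Finite.of_surjective _ hsurjF
  have hcard : Nat.card (PresentedGroup (rels n m r)) ≤ n * m := by
    refine (Nat.card_le_card_of_surjective _ hsurjF).trans (le_of_eq ?_)
    simp
  have hge : n * m ∣ Nat.card N :=
    hcop.mul_dvd_of_dvd_of_dvd (hx ▸ orderOf_dvd_natCard x) (hy ▸ orderOf_dvd_natCard y)
  have hbij : Function.Bijective π :=
    hsurj.bijective_of_nat_card_le (hcard.trans (Nat.le_of_dvd Nat.card_pos hge))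
  exact ⟨(MulEquiv.ofBijective π hbij).symm⟩

end Cfsg.Agent.FpfMeta
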