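import Mathlib
import Cfsg.Prelude.Def_Solvable
import Cfsg.Agent.Lib.FrobeniusBasic

/-!
Construction of finite groups with a prescribed Frobenius complement, from fixed-point-free actions.
-/

set_option autoImplicit false

namespace Cfsg.Agent.FrobeniusConstruct

open scoped Pointwise

universe u v

/-- A fixed-point-free action of a nontrivial finite group `C` on a nontrivial finite group `V` yields a
finite group in `Type` with a Frobenius complement isomorphic to `C` and kernel of size `|V|`. -/
theorem exists_complement_of_hom {C : Type u} [Group C] [Finite C] [Nontrivial C] {V : Type v} [Group V]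
    [Finite V] [Nontrivial V] (φ : C →* MulAut V) (hfpf : ∀ c : C, c ≠ 1 → ∀ x : V, φ c x = x → x = 1) :
    ∃ (L : Type) (_ : Group L) (_ : Finite L) (H : Subgroup L), Cfsg.IsFrobeniusComplement H ∧
      Nonempty (C ≃* H) ∧ Nat.card (Cfsg.frobeniusKernel H) = Nat.card V := by
  classical
  have : Finite (V ⋊[φ] C) := Finite.of_equiv _ SemidirectProduct.equivProd.symm
  let K : Subgroup (V ⋊[φ] C) := (SemidirectProduct.inr : C →* V ⋊[φ] C).range
  have hK : Cfsg.IsFrobeniusComplement K := by
    refine FrobeniusBasic.isFrobeniusComplement_of_ti ?_ ?_ ?_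
    · obtain ⟨c, hc⟩ := exists_ne (1 : C)
      intro h
      have hm : SemidirectProduct.inr c ∈ K := ⟨c, rfl⟩
      rw [h, Subgroup.mem_bot] at hm
      exact hc (SemidirectProduct.inr_injective (by rw [hm, map_one]))
    · obtain ⟨x, hx⟩ := exists_ne (1 : V)
      intro h
      have hm : SemidirectProduct.inl x ∈ K := h ▸ Subgroup.mem_top _
      obtain ⟨c, hc⟩ := hm
      exact hx (by simpa using (congrArg SemidirectProduct.left hc).symm)
    · rintro ⟨x, a⟩ _ ⟨c, rfl⟩ hc1 ⟨d, hd⟩
      have hc : c ≠ 1 := fun h => hc1 (by rw [h, map_one])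
      have hl := (congrArg SemidirectProduct.left hd).symm
      simp only [SemidirectProduct.mul_left, SemidirectProduct.inv_left, SemidirectProduct.left_inr,
        SemidirectProduct.right_inr, SemidirectProduct.mul_right, SemidirectProduct.inv_right, mul_one] at hl
      have h2 : φ c x = x := by
        rw [map_mul φ a⁻¹ c, MulAut.mul_apply, ← map_mul, mul_one, ← map_mul, EmbeddingLike.map_eq_one_iff,
          inv_mul_eq_one] at hl
        exact hl.symm
      have := hfpf c hc x h2
      subst this
      exact ⟨a, by ext <;> simp⟩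
  let e : V ⋊[φ] C ≃* Shrink.{0} (V ⋊[φ] C) := Shrink.mulEquiv.symm
  refine ⟨Shrink.{0} (V ⋊[φ] C), inferInstance, inferInstance, K.map (e : V ⋊[φ] C →* Shrink.{0} (V ⋊[φ] C)),
    FrobeniusBasic.map_equiv e hK, ⟨?_⟩, ?_⟩
  · exact (MonoidHom.ofInjective SemidirectProduct.inr_injective).trans
      (K.equivMapOfInjective _ e.injective)
  · rw [FrobeniusBasic.natCard_frobeniusKernel (FrobeniusBasic.map_equiv e hK)]
    have h1 : (K.map (e : V ⋊[φ] C →* Shrink.{0} (V ⋊[φ] C))).index = K.index :=
      Subgroup.index_map_of_bijective e.bijective K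
    have h2 : K.index * Nat.card K = Nat.card V * Nat.card C := by
      rw [K.index_mul_card, SemidirectProduct.card]
    have h3 : Nat.card K = Nat.card C :=
      (Nat.card_congr (MonoidHom.ofInjective SemidirectProduct.inr_injective).toEquiv).symm
    rw [h3] at h2
    exact h1.trans (Nat.eq_of_mul_eq_mul_right Nat.card_pos h2)

/-- The additive automorphism given by a monoid element acting, as a homomorphism into `MulAut (Multiplicative V)`. -/
def smulHom {C : Type u} [Group C] {M : Type*} [Monoid M] {V : Type v} [AddCommGroup V]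
    [DistribMulAction M V] (f : C →* M) : C →* MulAut (Multiplicative V) where
  toFun c :=
    { toFun := fun x => Multiplicative.ofAdd (f c • x.toAdd)
      invFun := fun x => Multiplicative.ofAdd (f c⁻¹ • x.toAdd)
      left_inv := fun x => by simp [smul_smul, ← map_mul]
      right_inv := fun x => by simp [smul_smul, ← map_mul]
      map_mul' := fun x y => by simp }
  map_one' := by ext x; simp
  map_mul' a b := by ext x; simp [smul_smul]

/-- The linear form of `exists_complement_of_hom`. -/
theorem exists_complement_of_smul {C : Type u} [Group C] [Finite C] [Nontrivial C] {M : Type*} [Monoid M]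
    {V : Type v} [AddCommGroup V] [Finite V] [Nontrivial V] [DistribMulAction M V] (f : C →* M)
    (hfpf : ∀ c : C, c ≠ 1 → ∀ x : V, f c • x = x → x = 0) :
    ∃ (L : Type) (_ : Group L) (_ : Finite L) (H : Subgroup L), Cfsg.IsFrobeniusComplement H ∧
      Nonempty (C ≃* H) ∧ Nat.card (Cfsg.frobeniusKernel H) = Nat.card V := by
  obtain ⟨L, i₁, i₂, H, hH, he, hk⟩ := exists_complement_of_hom (smulHom (V := V) f)
    (fun c hc x hx => by
      have h : f c • x.toAdd = x.toAdd := congrArg Multiplicative.toAdd hx
      have := hfpf c hc _ h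
      exact toAdd_eq_zero.mp this)
  exact ⟨L, i₁, i₂, H, hH, he, by rw [hk]; exact Nat.card_congr Multiplicative.toAdd⟩

/-- It is enough to check fixed-point-freeness on elements of prime order. -/
theorem fpf_of_prime_order {C : Type u} [Group C] [Finite C] {V : Type v} [MulAction C V] {x₀ : V}
    (h : ∀ c : C, (orderOf c).Prime → ∀ x : V, c • x = x → x = x₀) :
    ∀ c : C, c ≠ 1 → ∀ x : V, c • x = x → x = x₀ := by
  intro c hc x hx
  obtain ⟨p, hp, hpd⟩ := Nat.exists_prime_and_dvd (by rwa [ne_eq, orderOf_eq_one_iff] : orderOf c ≠ 1)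
  have ho : orderOf (c ^ (orderOf c / p)) = p := orderOf_pow_orderOf_div (orderOf_pos c).ne' hpd
  refine h _ (ho.symm ▸ hp) x ?_
  have : c ∈ MulAction.stabilizer C x := hx
  exact (MulAction.stabilizer C x).pow_mem this _

end Cfsg.Agent.FrobeniusConstruct
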