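import Mathlib
import Cfsg.Agent.S3357
import Cfsg.Agent.Lib.FrobeniusConstruct

/-!
Frobenius complements have fixed-point-free matrix representations over `ZMod p` for every
large prime `p`.
-/

namespace Cfsg.Agent.FpfModP76

open scoped IsMulCommutative

/-- `G` occurs as a Frobenius complement. -/
def IsFC (G : Type*) [Group G] : Prop :=
  ∃ (L : Type) (_ : Group L) (_ : Finite L) (H : Subgroup L), Cfsg.IsFrobeniusComplement H ∧ Nonempty (G ≃* H)

/-- A fixed point free representation over the rationals. -/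
theorem exists_rat_rep {G : Type*} [Group G] [Finite G] (hFC : IsFC G) :
    ∃ (n : ℕ) (ρ : G →* Matrix (Fin n) (Fin n) ℚ), 0 < n ∧ ∀ g : G, g ≠ 1 → (ρ g - 1).det ≠ 0 := by
  obtain ⟨L, iL, iLf, H, hH, ⟨eG⟩⟩ := hFC
  haveI := Fintype.ofFinite L
  obtain ⟨N, -, hNn, hc⟩ := CharInduced.frobenius_kernel_subgroup hH
  haveI := hNn
  have hNne : N ≠ ⊥ := by
    intro h
    apply hH.2.1
    have := hc.sup_eq_top
    rwa [h, bot_sup_eq] at this
  have hfpf : ∀ h ∈ H, h ≠ 1 → N ⊓ Subgroup.centralizer ({h} : Set L) = ⊥ :=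
    (FrobeniusBasic.isFrobeniusComplement_iff_fpf hc hNne hH.1).1 hH
  obtain ⟨V, hVN, hV, hVc, hHV⟩ := FrobeniusFPF.exists_abelian_invariant hc hNne hfpf
  obtain ⟨p, hp, hpV⟩ := Nat.exists_prime_and_dvd (n := Nat.card V) (fun e => hV (Subgroup.card_eq_one.1 e))
  haveI := Fact.mk hp
  have hcop : ¬ p ∣ Nat.card G := by
    intro hpG
    rw [Nat.card_congr eG.toEquiv] at hpG
    have h1 := FrobeniusFPF.coprime_of_fpf hc hNne hH.1 hfpf
    exact hp.ne_one (Nat.eq_one_of_dvd_coprimes h1 hpG (hpV.trans (Subgroup.card_dvd_of_le hVN)))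
  haveI := hVc
  letI := FrobeniusFPF.conjAction H V hHV
  have hF : FrobeniusFPF.IsFPF H V := FrobeniusFPF.isFPF_conjAction hHV fun a ha ha1 =>
    le_bot_iff.1 (le_trans (inf_le_inf_right _ hVN) (hfpf a ha ha1).le)
  -- the `p`-torsion module
  let A := Additive V
  let f : G → A →+ A := fun g => MonoidHom.toAdditive (MulDistribMulAction.toMonoidHom V (eG g))
  have h1 : ∀ v, f 1 v = v := fun v =>
    congrArg Additive.ofMul (show (eG 1 : H) • v.toMul = v.toMul by rw [map_one, one_smul])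
  have hm : ∀ a b v, f (a * b) v = f a (f b v) := fun a b v => congrArg Additive.ofMul
    (show (eG (a * b) : H) • v.toMul = eG a • eG b • v.toMul by rw [map_mul, mul_smul])
  have hff : ∀ c : G, c ≠ 1 → ∀ v, f c v = v → v = 0 := fun c hc v hv => congrArg Additive.ofMul
    (hF (eG c) (fun h => hc ((map_eq_one_iff eG eG.injective).1 h)) v.toMul (congrArg Additive.toMul hv))
  obtain ⟨W, hWmem⟩ : ∃ W : AddSubgroup A, ∀ w : A, w ∈ W ↔ p • w = 0 :=
    ⟨(nsmulAddMonoidHom p : A →+ A).ker, fun _ => Iff.rfl⟩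
  haveI : Module (ZMod p) W := AddCommGroup.zmodModule (fun w => Subtype.ext (by simpa using (hWmem _).1 w.2))
  haveI : Nontrivial W := by
    obtain ⟨v, hv⟩ := exists_prime_addOrderOf_dvd_card' (G := A) p (by
      rw [Nat.card_congr Additive.toMul]; exact hpV)
    refine ⟨⟨v, (hWmem _).2 (by rw [← hv]; exact addOrderOf_nsmul_eq_zero v)⟩, 0, fun h => ?_⟩
    have hv0 : v = 0 := congrArg Subtype.val h
    rw [hv0, addOrderOf_zero] at hv
    exact hp.ne_one hv.symm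
  have hWf : ∀ g, ∀ w : W, f g (w : A) ∈ W := fun g w =>
    (hWmem _).2 (by rw [← map_nsmul, (hWmem _).1 w.2, map_zero])
  let ρ : G →* (W →ₗ[ZMod p] W) :=
    { toFun := fun g => (((f g).comp W.subtype).codRestrict W (hWf g)).toZModLinearMap p
      map_one' := LinearMap.ext fun w => Subtype.ext (h1 w.1)
      map_mul' := fun a b => LinearMap.ext fun w => Subtype.ext (hm a b w.1) }
  have hnot := FpfLift.one_notMem ρ hcop
    (fun c hc w hw => Subtype.ext (hff c hc _ (congrArg Subtype.val hw))) ℚ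
  obtain ⟨n, σ, hn, -, -, hσ⟩ := S3357.exists_rep_of_notMem hnot
  refine ⟨n, (Units.coeHom _).comp σ, hn, fun g hg hdet => ?_⟩
  obtain ⟨v, hv, hv0⟩ := Matrix.exists_mulVec_eq_zero_iff.mpr hdet
  rw [Matrix.sub_mulVec, Matrix.one_mulVec, sub_eq_zero] at hv0
  exact hv (hσ g hg v hv0)

/-- Fixed point free representations over `ZMod p` for all large primes `p`. -/
theorem exists_zmod_rep {G : Type*} [Group G] [Finite G] (hFC : IsFC G) :
    ∃ n N : ℕ, 0 < n ∧ ∀ (p : ℕ) [Fact p.Prime], N < p →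
      ∃ σ : G →* Matrix (Fin n) (Fin n) (ZMod p), ∀ g : G, g ≠ 1 → (σ g - 1).det ≠ 0 := by
  obtain ⟨n, ρ, hn, hρ⟩ := exists_rat_rep hFC
  let _ : Fintype G := Fintype.ofFinite G
  let S₁ : Finset ℕ := Finset.univ.image fun x : G × Fin n × Fin n => (ρ x.1 x.2.1 x.2.2).den
  let S₂ : Finset ℕ := Finset.univ.image fun g : G => (ρ g - 1).det.num.natAbs
  refine ⟨n, (S₁ ∪ S₂).sup id, hn, fun p _ hp => ?_⟩
  have hlt : ∀ a ∈ S₁ ∪ S₂, 0 < a → ¬ p ∣ a := fun a ha h0 hd =>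
    absurd ((Nat.le_of_dvd h0 hd).trans (Finset.le_sup (f := id) ha)) (not_le.mpr hp)
  have hden : ∀ g i j, ‖((ρ g i j : ℚ) : ℚ_[p])‖ ≤ 1 := fun g i j => by
    refine Padic.norm_rat_le_one (hlt _ (Finset.mem_union_left _ ?_) (ρ g i j).pos)
    exact Finset.mem_image.mpr ⟨(g, i, j), Finset.mem_univ _, rfl⟩
  let τ : G → Matrix (Fin n) (Fin n) ℤ_[p] := fun g => Matrix.of fun i j => ⟨_, hden g i j⟩
  let ι := (PadicInt.Coe.ringHom (p := p)).mapMatrix (m := Fin n)
  let κ := (Rat.castHom ℚ_[p]).mapMatrix (m := Fin n)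
  have hι : ∀ g, ι (τ g) = κ (ρ g) := fun g => rfl
  have hinj : Function.Injective ι := Matrix.map_injective fun a b h => Subtype.ext h
  let τ' : G →* Matrix (Fin n) (Fin n) ℤ_[p] :=
    { toFun := τ
      map_one' := hinj (by rw [hι, map_one, map_one, map_one])
      map_mul' := fun a b => hinj (by rw [hι, map_mul, map_mul, map_mul, hι, hι]) }
  let π := (PadicInt.toZMod (p := p)).mapMatrix (m := Fin n)
  refine ⟨π.toMonoidHom.comp τ', fun g hg => ?_⟩
  show (π (τ g) - 1).det ≠ 0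
  rw [← map_one π, ← map_sub, ← RingHom.map_det]
  intro h0
  have hd : ‖(((ρ g - 1).det : ℚ) : ℚ_[p])‖ < 1 := by
    have h1 : ((τ g - 1).det : ℤ_[p]) ∈ RingHom.ker (PadicInt.toZMod (p := p)) := h0
    rw [PadicInt.ker_toZMod, PadicInt.maximalIdeal_eq_span_p, Ideal.mem_span_singleton, ← PadicInt.norm_lt_one_iff_dvd] at h1
    rw [PadicInt.norm_def] at h1
    refine lt_of_eq_of_lt (congrArg norm ?_) h1
    show _ = PadicInt.Coe.ringHom ((τ g - 1).det)
    rw [RingHom.map_det, map_sub, map_one]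
    show ((ρ g - 1).det : ℚ_[p]) = (ι (τ g) - 1).det
    rw [hι, ← map_one κ, ← map_sub, ← RingHom.map_det]
    rfl
  set r := (ρ g - 1).det with hr
  have hr0 : r ≠ 0 := hρ g hg
  have hn1 : ¬ (p : ℤ) ∣ r.num := fun hdv => hlt _ (Finset.mem_union_right _ (Finset.mem_image.mpr
    ⟨g, Finset.mem_univ _, rfl⟩)) (Int.natAbs_pos.mpr (Rat.num_ne_zero.mpr hr0)) (Int.natCast_dvd.mp hdv)
  have h2 : ((r.num : ℤ) : ℚ_[p]) = (r : ℚ_[p]) * ((r.den : ℕ) : ℚ_[p]) := by
    rw [← Rat.cast_natCast, ← Rat.cast_intCast, ← Rat.cast_mul, Rat.mul_den_eq_num]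
  have h3 : ‖((r.num : ℤ) : ℚ_[p])‖ < 1 := by
    rw [h2, norm_mul]
    have h4 : ‖((r.den : ℕ) : ℚ_[p])‖ ≤ 1 := by
      simpa using Padic.norm_int_le_one (p := p) (r.den : ℤ)
    exact lt_of_le_of_lt (mul_le_of_le_one_right (norm_nonneg _) h4) hd
  exact hn1 (Padic.norm_intCast_lt_one_iff.mp h3)

/-- Back to Frobenius complements. -/
theorem isFC_of_rep {G : Type*} [Group G] [Finite G] [Nontrivial G] {F : Type*} [Field F] [Finite F]
    {ι : Type*} [Fintype ι] [DecidableEq ι] [Nonempty ι] (σ : G →* Matrix ι ι F)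
    (h : ∀ g : G, g ≠ 1 → ∀ v : ι → F, (σ g).mulVec v = v → v = 0) : IsFC G := by
  obtain ⟨L, i₁, i₂, H, hH, he, -⟩ := FrobeniusConstruct.exists_complement_of_smul (V := ι → F)
    (((Matrix.toLinAlgEquiv' : Matrix ι ι F ≃ₐ[F] _).toAlgHom.toMonoidHom).comp σ) h
  exact ⟨L, i₁, i₂, H, hH, he⟩

end Cfsg.Agent.FpfModP76
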