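import Cfsg.Agent.Lib.FpfModules86Data

/-!
A finite abelian 2-group with a fixed point free action of a rank one group has exponent 2: compare
the two ways of averaging over the torus.
-/

set_option autoImplicit false

namespace Cfsg.Agent.FpfModules86

open Finset Matrix
open scoped TensorProduct

namespace Data

variable {S : Type*} [Group S] {F : Type*} [Field F] {n : ℕ} (D : Data S F n)

/-- The root element with parameter `1`. -/
def a : S := D.e (Multiplicative.ofAdd 1)

section ring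

variable {A : Type*} [Ring A] (r : S →* A) [Fintype Fˣ]

/-- The torus average of a root element. -/
def Y : A := ∑ k, r (D.h k) * (r D.a - 1) * r (D.h k)

/-- The correction factor. -/
noncomputable def M (l : Fˣ) : A :=
  haveI := Classical.dec ((1 : F) + D.ω l = 0)
  r (D.h (l * (if hl : (1 : F) + D.ω l = 0 then 1 else
    ((MulEquiv.ofBijective D.ω D.ω_bij).symm (Units.mk0 _ hl)))⁻¹ ^ 2)) - r (D.h l) - r (D.h l⁻¹)

theorem map_Y {B : Type*} [Ring B] (f : A →+* B) :
    f (D.Y r) = D.Y (f.toMonoidHom.comp r) := by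
  simp [Y, map_sum, map_mul, map_sub]

theorem map_M {B : Type*} [Ring B] (f : A →+* B) (l : Fˣ) :
    f (D.M r l) = D.M (f.toMonoidHom.comp r) l := by
  simp only [M, map_sub]
  rfl

theorem two_mul_sub [CharP F 2] (hsum : ∑ k, r (D.h k) = 0) :
    ∃ s : Finset Fˣ, (∀ l ∈ s, (1 : F) + D.ω l ≠ 0) ∧
      2 * (D.Y r - ∑ l ∈ s, D.Y r * D.M r l) = 0 := by
  classical
  set ε := r D.a - 1 with hε
  set g : Fˣ → A := fun k => r (D.h k) with hg
  have gmul : ∀ k l, g k * g l = g (k * l) := fun k l => by simp [hg, map_mul]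
  set T : Fˣ → A := fun l => ∑ k, g k * ε * g l * ε * g k with hT
  set el : F → A := fun x => r (D.e (Multiplicative.ofAdd x)) with hel
  have eladd : ∀ x y, el x * el y = el (x + y) := fun x y => by simp [hel, ofAdd_add, map_mul]
  have ha : r D.a = el 1 := rfl
  have hconj : ∀ (k : Fˣ) (x : F), el ((D.ω k : F) ^ 2 * x) * g k = g k * el x := fun k x => by
    rw [hel, hg, ← map_mul, ← map_mul, ← D.e_conj, inv_mul_cancel_right]
  have hsum0 : ∑ l, T l = 0 := by
    rw [Finset.sum_comm]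
    refine Finset.sum_eq_zero fun k _ => ?_
    rw [← Finset.sum_mul, ← Finset.sum_mul, ← Finset.mul_sum, hsum]
    simp
  have hT1 : T 1 = -2 * D.Y r := by
    have hsq : ε * ε = -2 * ε := by
      have h1 : el 1 * el 1 = 1 := by
        rw [eladd, CharTwo.add_self_eq_zero]; simp [hel]
      rw [hε, ha, sub_mul, one_mul, mul_sub, mul_one, h1, neg_mul, two_mul]
      abel
    simp only [hT, hg, map_one, mul_one, Y]
    rw [Finset.mul_sum]
    refine Finset.sum_congr rfl fun k _ => ?_
    rw [← hε, mul_assoc (r (D.h k)), hsq]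
    noncomm_ring
  have hne : ∀ l : Fˣ, l ≠ 1 → (1 : F) + D.ω l ≠ 0 := fun l hl h => hl (D.ω_bij.1 (by
    rw [map_one]; exact Units.ext (CharTwo.add_eq_zero.mp h).symm))
  have hεl : ∀ l : Fˣ, g l * ε = (el ((D.ω l : F) ^ 2) - 1) * g l := fun l => by
    rw [hε, ha, mul_sub, sub_mul, mul_one, one_mul, ← hconj l 1, mul_one]
  have hTM : ∀ l : Fˣ, l ≠ 1 → T l = D.Y r * D.M r l := by
    intro l hl
    unfold M
    rw [dif_neg (hne l hl)]
    set m := (MulEquiv.ofBijective D.ω D.ω_bij).symm (Units.mk0 _ (hne l hl)) with hm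
    have hωm : (D.ω m : F) = 1 + D.ω l := by
      have := (MulEquiv.ofBijective D.ω D.ω_bij).apply_symm_apply (Units.mk0 _ (hne l hl))
      exact congrArg Units.val this
    have hm2 : el (1 + (D.ω l : F) ^ 2) * g m = g m * el 1 := by
      rw [← hconj m 1, mul_one, hωm, CharTwo.add_sq, one_pow]
    have e1 : ∀ k, g k * ε * g l * ε * g k =
        g (k * m) * ε * g (k * m) * g (l * m⁻¹ ^ 2) - g k * ε * g k * g l
          - g (k * l) * ε * g (k * l) * g l⁻¹ := by
      intro k
      have h1 : ε * g l * ε = ε * (el ((D.ω l : F) ^ 2) - 1) * g l := by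
        rw [mul_assoc, hεl, mul_assoc]
      have h2 : (el (1 + (D.ω l : F) ^ 2) - 1) * g l = g m * ε * g (l * m⁻¹) := by
        have hgm : g m * ε = (el (1 + (D.ω l : F) ^ 2) - 1) * g m := by
          rw [hε, ha, mul_sub, mul_one, sub_mul, one_mul, hm2]
        rw [hgm, mul_assoc, gmul, mul_left_comm, mul_inv_cancel, mul_one]
      have h3 : ε * (el ((D.ω l : F) ^ 2) - 1) = (el (1 + (D.ω l : F) ^ 2) - 1) - ε
          - (el ((D.ω l : F) ^ 2) - 1) := by
        rw [hε, ha, ← eladd]
        noncomm_ring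
      have h4 : (el ((D.ω l : F) ^ 2) - 1) * g l = g l * ε := (hεl l).symm
      calc g k * ε * g l * ε * g k = g k * (ε * g l * ε) * g k := by noncomm_ring
        _ = g k * (g m * ε * g (l * m⁻¹) - ε * g l - g l * ε) * g k := by
          rw [h1, h3, sub_mul, sub_mul, h2, h4]
        _ = g k * g m * ε * (g (l * m⁻¹) * g k) - g k * ε * (g l * g k) - g k * g l * ε * g k := by
          noncomm_ring
        _ = g (k * m) * ε * (g (k * m) * g (l * m⁻¹ ^ 2)) - g k * ε * (g k * g l)
            - g (k * l) * ε * (g (k * l) * g l⁻¹) := by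
          simp only [gmul]
          rw [show k * m * (l * m⁻¹ ^ 2) = l * m⁻¹ * k by
              rw [pow_two, show k * m * (l * (m⁻¹ * m⁻¹)) = k * l * (m * m⁻¹) * m⁻¹ by ac_rfl,
                mul_inv_cancel, mul_one, mul_comm k l]; ac_rfl,
            mul_comm l k, mul_inv_cancel_right, mul_assoc (g (k * l))]
        _ = _ := by simp only [mul_assoc]
    have hre : ∀ c : Fˣ, ∑ i, g (i * c) * ε * g (i * c) = D.Y r := fun c =>
      Equiv.sum_comp (Equiv.mulRight c) (fun k => g k * ε * g k)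
    have hre1 : ∑ i, g i * ε * g i = D.Y r := rfl
    simp only [hT, e1, Finset.sum_sub_distrib, ← Finset.sum_mul]
    rw [hre, hre, hre1, mul_sub, mul_sub]
  have hsymm : ∀ l : Fˣ, T l = T l⁻¹ := by
    intro l
    simp only [hT]
    rw [← Equiv.sum_comp (Equiv.mulRight l) (fun k => g k * ε * g l⁻¹ * ε * g k)]
    refine Finset.sum_congr rfl fun k _ => ?_
    have hc : Commute ε (el ((D.ω l : F) ^ 2) - 1) := by
      rw [hε, ha]
      refine ((Commute.sub_left ?_ (Commute.one_left _)).sub_right (Commute.one_right _))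
      exact (eladd _ _).trans ((congrArg el (add_comm _ _)).trans (eladd _ _).symm)
    simp only [Equiv.coe_mulRight]
    calc g k * ε * g l * ε * g k
        = g k * (ε * (el ((D.ω l : F) ^ 2) - 1)) * (g l * g k) := by
          rw [show g k * ε * g l * ε * g k = g k * ε * (g l * ε) * g k by simp only [mul_assoc],
            hεl l]
          simp only [mul_assoc]
      _ = g k * ((el ((D.ω l : F) ^ 2) - 1) * ε) * g (k * l) := by rw [hc.eq, gmul, mul_comm l k]
      _ = g k * ((el ((D.ω l : F) ^ 2) - 1) * g (l * l⁻¹) * ε) * g (k * l) := by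
          rw [mul_inv_cancel]; simp [hg]
      _ = g k * (g l * ε * g l⁻¹ * ε) * g (k * l) := by rw [← gmul l, hεl l]; simp only [mul_assoc]
      _ = _ := by simp only [← mul_assoc]; rw [gmul k l]
  let ι := Fintype.equivFin Fˣ
  set s : Finset Fˣ := univ.filter fun l => ι l < ι l⁻¹ with hs
  have hs1 : ∀ l ∈ s, l ≠ 1 := fun l hl h => by
    rw [hs, mem_filter, h, inv_one] at hl
    exact lt_irrefl _ hl.2
  refine ⟨s, fun l hl => hne l (hs1 l hl), ?_⟩
  have hsplit : univ.filter (fun l : Fˣ => ι l⁻¹ < ι l) = s.map (Equiv.inv Fˣ).toEmbedding := by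
    ext l
    simp [hs, Finset.mem_map, inv_eq_iff_eq_inv]
  have hfix : univ.filter (fun l : Fˣ => ι l = ι l⁻¹) = {1} := by
    ext l
    simp only [mem_filter, mem_univ, true_and, mem_singleton, EmbeddingLike.apply_eq_iff_eq]
    refine ⟨fun h => Units.ext ?_, fun h => by simp [h]⟩
    have h2 : l * l = 1 := mul_eq_one_iff_eq_inv.mpr h
    have h3 : (l : F) * l = 1 := by rw [← Units.val_mul, h2, Units.val_one]
    rw [Units.val_one, ← CharTwo.add_eq_zero, ← sq_eq_zero_iff, CharTwo.add_sq, pow_two, h3,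
      one_pow, CharTwo.add_self_eq_zero]
  have hall : ∑ l, T l = ∑ l ∈ s, T l + (T 1 + ∑ l ∈ s, T l) := by
    rw [← Finset.sum_filter_add_sum_filter_not univ (fun l => ι l < ι l⁻¹) T, ← hs,
      ← Finset.sum_filter_add_sum_filter_not (univ.filter fun l => ¬ ι l < ι l⁻¹)
        (fun l => ι l = ι l⁻¹) T, Finset.filter_filter, Finset.filter_filter,
      Finset.filter_congr (q := fun l => ι l = ι l⁻¹) (fun l _ => by omega), hfix,
      Finset.filter_congr (q := fun l => ι l⁻¹ < ι l) (fun l _ => by omega), hsplit,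
      Finset.sum_singleton, Finset.sum_map]
    simp [← hsymm]
  rw [hsum0, hT1, Finset.sum_congr rfl (fun l hl => hTM l (hs1 l hl))] at hall
  calc 2 * (D.Y r - ∑ l ∈ s, D.Y r * D.M r l)
      = -(∑ l ∈ s, D.Y r * D.M r l + (-2 * D.Y r + ∑ l ∈ s, D.Y r * D.M r l)) := by noncomm_ring
    _ = 0 := by rw [← hall, neg_zero]

end ring

variable {M₀ : Type*} [AddCommGroup M₀]

include D in
theorem smul_two_eq_zero [Finite S] [Finite F] [CharP F 2] (hF : 4 ≤ Nat.card F) [Finite M₀]
    (hM : ∀ x : M₀, ∃ N : ℕ, 2 ^ N • x = 0) (r : S →* Module.End ℤ M₀) (hfpf : Fpf r) :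
    ∀ x : M₀, 2 • x = 0 := by
  classical
  haveI : Fintype F := Fintype.ofFinite F
  by_contra hc
  push Not at hc
  obtain ⟨x₀, hx₀⟩ := hc
  have hbd : ∃ N : ℕ, ∀ x : M₀, 2 ^ N • x = 0 := by
    choose N hN using hM
    haveI := Fintype.ofFinite M₀
    refine ⟨∑ x, N x, fun x => ?_⟩
    obtain ⟨c, hc⟩ := pow_dvd_pow 2 (Finset.single_le_sum (fun y _ => Nat.zero_le (N y)) (mem_univ x))
    rw [hc, mul_comm, mul_nsmul', hN, nsmul_zero]
  obtain ⟨j, hj, hj'⟩ : ∃ j : ℕ, (∀ x : M₀, 2 ^ (j + 2) • x = 0) ∧ ∃ x : M₀, 2 ^ (j + 1) • x ≠ 0 := by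
    have hfind := Nat.find_spec hbd
    have h2 : 2 ≤ Nat.find hbd := by
      by_contra h
      push Not at h
      refine hx₀ ?_
      have := hfind x₀
      obtain h | h : Nat.find hbd = 0 ∨ Nat.find hbd = 1 := by omega
      · rw [h, pow_zero, one_nsmul] at this; rw [this, nsmul_zero]
      · rwa [h, pow_one] at this
    obtain ⟨j, hj⟩ := Nat.exists_eq_add_of_le' h2
    refine ⟨j, by rwa [← hj], ?_⟩
    by_contra h
    push Not at h
    exact Nat.find_min hbd (m := j + 1) (by omega) h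
  have hsum : ∑ k : Fˣ, r (D.h k) = 0 := by
    obtain ⟨k₁, hk₁⟩ : ∃ k : Fˣ, k ≠ 1 := by
      have : 3 ≤ Fintype.card Fˣ := by
        rw [Fintype.card_units, ← Nat.card_eq_fintype_card]; omega
      exact Fintype.exists_ne_of_one_lt_card (by omega) 1
    have hinj : D.h k₁ ≠ 1 := fun h => hk₁ (D.ω_bij.1 (by
      have := D.d_z k₁
      have h' := D.h_diag k₁
      rw [h, map_one] at h'
      have h'' := congrFun (congrFun h' D.z) D.z
      rw [diagonal_apply_eq, one_apply_eq, this] at h''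
      rw [map_one]
      exact Units.ext h''.symm))
    have hodd : Odd (orderOf (D.h k₁)) := by
      refine Odd.of_dvd_nat ?_ ((orderOf_map_dvd D.h k₁).trans orderOf_dvd_card)
      rw [Fintype.card_units]
      obtain ⟨e, -, he⟩ := FiniteField.card F 2
      rw [he]
      obtain ⟨e', he'⟩ := Nat.exists_eq_succ_of_ne_zero e.pos.ne'
      rw [he', pow_succ']
      exact ⟨2 ^ e' - 1, by have := Nat.one_le_two_pow (n := e'); omega⟩
    refine LinearMap.ext fun x => ?_
    rw [LinearMap.zero_apply]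
    set u := (∑ k : Fˣ, r (D.h k)) x with hu
    have hfix : ∀ i : ℕ, r (D.h k₁ ^ i) u = u := by
      intro i
      rw [hu, ← Module.End.mul_apply, Finset.mul_sum, ← map_pow]
      conv_rhs => rw [← Equiv.sum_comp (Equiv.mulLeft (k₁ ^ i))]
      simp only [← map_mul, Equiv.coe_mulLeft]
    have h0 := LinearMap.congr_fun (hfpf _ hodd hinj) u
    simp only [LinearMap.sum_apply, hfix, sum_const, card_range, LinearMap.zero_apply] at h0
    obtain ⟨N, hN⟩ := hM u
    have hd := Nat.dvd_gcd (addOrderOf_dvd_of_nsmul_eq_zero h0) (addOrderOf_dvd_of_nsmul_eq_zero hN)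
    rw [Nat.Coprime.pow_right N hodd.coprime_two_right] at hd
    exact AddMonoid.addOrderOf_eq_one_iff.mp (Nat.dvd_one.mp hd)
  obtain ⟨s, hs, hid⟩ := D.two_mul_sub r hsum
  -- the last layer
  let U : Submodule ℤ M₀ :=
    LinearMap.range (nsmulAddMonoidHom (α := M₀) (2 ^ (j + 1))).toIntLinearMap
  have hUmem : ∀ X : Module.End ℤ M₀, ∀ u ∈ U, X u ∈ U := by
    rintro X _ ⟨x, rfl⟩
    exact ⟨X x, (map_nsmul X _ x).symm⟩
  let ρU : Module.End ℤ M₀ →+* Module.End ℤ U :=
    { toFun := fun X => X.restrict (hUmem X)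
      map_one' := LinearMap.ext fun u => rfl
      map_mul' := fun X Y => LinearMap.ext fun u => rfl
      map_zero' := LinearMap.ext fun u => rfl
      map_add' := fun X Y => LinearMap.ext fun u => rfl }
  have hU0 : ρU (D.Y r - ∑ l ∈ s, D.Y r * D.M r l) = 0 := by
    refine LinearMap.ext fun ⟨u, x, hx⟩ => Subtype.ext ?_
    set X := D.Y r - ∑ l ∈ s, D.Y r * D.M r l
    show X u = 0
    have h := LinearMap.congr_fun hid x
    rw [two_mul, LinearMap.add_apply, LinearMap.zero_apply, ← two_nsmul] at h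
    subst hx
    show X ((2 ^ (j + 1)) • x) = 0
    rw [map_nsmul, pow_succ, mul_nsmul', h, nsmul_zero]
  obtain ⟨x₁, hx₁⟩ := hj'
  let k := AlgebraicClosure (ZMod 2)
  haveI : CharP k 2 := charP_of_injective_algebraMap (algebraMap (ZMod 2) k).injective 2
  have htwo : ∀ u : U, 2 • u = 0 := by
    rintro ⟨_, x, rfl⟩
    refine Subtype.ext ?_
    show 2 • ((2 ^ (j + 1)) • x) = 0
    rw [← mul_nsmul', ← pow_succ', hj x]
  let u₁ : U := ⟨2 ^ (j + 1) • x₁, x₁, rfl⟩
  have hntr : Nontrivial (k ⊗[ℤ] U) := by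
    letI : Module (ZMod 2) U := AddCommGroup.zmodModule htwo
    obtain ⟨f, hf⟩ := (Module.Free.chooseBasis (ZMod 2) U).forall_coord_eq_zero_iff.not.mpr
      (fun h : u₁ = 0 => hx₁ (congrArg Subtype.val h)) |> (fun h => not_forall.mp h)
    let g : U →ₗ[ℤ] k :=
      ((algebraMap (ZMod 2) k).toAddMonoidHom.comp
        ((Module.Free.chooseBasis (ZMod 2) U).coord f).toAddMonoidHom).toIntLinearMap
    refine ⟨⟨1 ⊗ₜ u₁, 0, fun h => hf ?_⟩⟩
    have h' := congrArg (g.liftBaseChange k) h
    rw [map_zero, LinearMap.liftBaseChange_tmul, one_smul] at h'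
    exact (algebraMap (ZMod 2) k).injective (h'.trans (map_zero _).symm)
  haveI : Module.Finite ℤ U := Module.Finite.of_finite
  let Φ : Module.End ℤ M₀ →+* Module.End k (k ⊗[ℤ] U) :=
    (Module.End.baseChangeHom ℤ k U).toRingHom.comp ρU
  let πk : S →* Module.End k (k ⊗[ℤ] U) := Φ.toMonoidHom.comp r
  have hk : D.Y πk = ∑ l ∈ s, D.Y πk * D.M πk l := by
    have h0 : Φ (D.Y r - ∑ l ∈ s, D.Y r * D.M r l) = 0 := by
      simp only [Φ, RingHom.comp_apply, hU0, map_zero]
    simp only [map_sub, map_sum, map_mul, D.map_Y, D.map_M, sub_eq_zero] at h0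
    exact h0
  obtain ⟨N, hN, hirr⟩ := exists_irred πk
  let πN := res πk N hN
  obtain ⟨Ψ, L, hL⟩ := D.exists_equiv πN ((hfpf.comp Φ).res N hN) hirr
  let w : N := L.symm (Pi.single D.l 1)
  have hhw : ∀ a : Fˣ, πN (D.h a) w = (Ψ (D.ω a : F))⁻¹ • w := fun a => by
    apply L.injective
    rw [hL, map_smul, D.h_diag]
    simp only [w, LinearEquiv.apply_symm_apply, map_zero, diagonal_map, mulVec_single, op_smul_eq_smul]
    ext i
    by_cases hi : i = D.l
    · subst hi; simp [D.d_l, map_inv₀]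
    · simp [Pi.single_eq_of_ne hi, diagonal_apply_ne _ hi]
  have hMw : ∀ l ∈ s, D.M πk l (w : k ⊗[ℤ] U) = 0 := by
    intro l hl
    unfold M
    rw [dif_neg (hs l hl)]
    set m := (MulEquiv.ofBijective D.ω D.ω_bij).symm (Units.mk0 _ (hs l hl)) with hm
    have hωm : D.ω m = Units.mk0 _ (hs l hl) :=
      (MulEquiv.ofBijective D.ω D.ω_bij).apply_symm_apply _
    have happ : ∀ a : Fˣ, πk (D.h a) (w : k ⊗[ℤ] U) = (Ψ (D.ω a : F))⁻¹ • (w : k ⊗[ℤ] U) :=
      fun a => by rw [← res_apply πk N hN, hhw, Submodule.coe_smul]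
    simp only [LinearMap.sub_apply, happ, ← sub_smul]
    have hl0 : Ψ (D.ω l : F) ≠ 0 := (map_ne_zero Ψ).mpr (Units.ne_zero _)
    have hm0 : 1 + Ψ (D.ω l : F) ≠ 0 := by
      rw [← map_one Ψ, ← map_add]; exact (map_ne_zero Ψ).mpr (hs l hl)
    refine smul_eq_zero_of_left ?_ _
    simp only [map_mul, map_inv, map_pow, hωm, Units.val_mul, Units.val_pow_eq_pow_val,
      Units.val_inv_eq_inv_val, Units.val_mk0, map_inv₀, map_add, map_one]
    rw [mul_inv, inv_pow, inv_inv, inv_inv, CharTwo.sub_eq_add, CharTwo.sub_eq_add, CharTwo.add_sq,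
      one_pow, mul_add, mul_one, pow_two, inv_mul_cancel_left₀ hl0, add_assoc,
      CharTwo.add_self_eq_zero]
  have hY0 : D.Y πk (w : k ⊗[ℤ] U) = 0 := by
    rw [hk, LinearMap.sum_apply]
    exact Finset.sum_eq_zero fun l hl => by rw [Module.End.mul_apply, hMw l hl, map_zero]
  have hYN : D.Y (A := Module.End k N) πN w = 0 := Subtype.ext (by
    have hres : (D.Y (A := Module.End k N) πN w : k ⊗[ℤ] U) = D.Y πk (w : k ⊗[ℤ] U) := by
      simp [Y, πN, LinearMap.sum_apply, res_apply]
    rw [hres, hY0]; rfl)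
  have hcoord : L (D.Y (A := Module.End k N) πN w) D.z = 1 := by
    simp only [Y, LinearMap.sum_apply, map_sum, Finset.sum_apply, Module.End.mul_apply, hhw,
      map_smul, LinearMap.sub_apply, Module.End.one_apply]
    have hterm : ∀ a : Fˣ, ((Ψ (D.ω a : F))⁻¹ • L (πN (D.h a) (πN D.a w - w))) D.z = 1 := by
      intro a
      rw [Pi.smul_apply, hL, D.h_diag, map_sub, hL, diagonal_map (map_zero Ψ), mulVec_diagonal,
        Pi.sub_apply]
      simp only [w, LinearEquiv.apply_symm_apply, mulVec_single, op_smul_eq_smul, one_smul,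
        Matrix.col_apply, Matrix.map_apply, Data.a, D.e_zl, map_one, Pi.single_eq_of_ne D.z_ne_l,
        sub_zero, mul_one, Function.comp_apply, D.d_z, smul_eq_mul]
      exact inv_mul_cancel₀ ((map_ne_zero Ψ).mpr (Units.ne_zero _))
    rw [Finset.sum_congr rfl (fun a _ => hterm a), sum_const, card_univ, Fintype.card_units]
    obtain ⟨e, -, he⟩ := FiniteField.card F 2
    rw [he, ← Nat.cast_smul_eq_nsmul k, smul_eq_mul, mul_one,
      Nat.cast_sub Nat.one_le_two_pow, Nat.cast_pow, CharP.cast_eq_zero k 2,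
      zero_pow e.pos.ne', zero_sub, Nat.cast_one, CharTwo.neg_eq]
  rw [hYN, map_zero, Pi.zero_apply] at hcoord
  exact zero_ne_one hcoord

end Data

end Cfsg.Agent.FpfModules86
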