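import Mathlib

/-!
Representations in which every element of odd order acts without nonzero fixed points, in the form
`∑_{i < r} x^i = 0`; fixed vectors of 2-groups.
-/

set_option autoImplicit false

namespace Cfsg.Agent.FpfModules86

open Finset

variable {S : Type*} [Group S]

/-- Every nontrivial element of odd order has vanishing orbit sums. -/
def Fpf {A : Type*} [Semiring A] (π : S →* A) : Prop :=
  ∀ x : S, Odd (orderOf x) → x ≠ 1 → ∑ i ∈ range (orderOf x), π (x ^ i) = 0

theorem Fpf.comp {A B : Type*} [Semiring A] [Semiring B] {π : S →* A} (h : Fpf π) (f : A →+* B) :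
    Fpf (f.toMonoidHom.comp π) := by
  intro x hx hx1
  have := congrArg f (h x hx hx1)
  rwa [map_sum, map_zero] at this

variable {k V : Type*} [Field k] [AddCommGroup V] [Module k V]

theorem Fpf.eq_zero [CharP k 2] {π : S →* Module.End k V} (h : Fpf π) {x : S}
    (hx : Odd (orderOf x)) (hx1 : x ≠ 1) {u : V} (hu : π x u = u) : u = 0 := by
  have h0 := congrArg (fun f : Module.End k V => f u) (h x hx hx1)
  have hi : ∀ i : ℕ, π (x ^ i) u = u := by
    intro i
    induction i with
    | zero => simp
    | succ i ih => rw [pow_succ, map_mul, Module.End.mul_apply, hu, ih]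
  simp only [LinearMap.sum_apply, hi, sum_const, card_range, LinearMap.zero_apply] at h0
  obtain ⟨j, hj⟩ := hx
  rw [hj, ← Nat.cast_smul_eq_nsmul k, Nat.cast_add, Nat.cast_mul, CharP.cast_eq_zero k 2,
    zero_mul, Nat.cast_one, zero_add, one_smul] at h0
  exact h0

/-- The restriction to an invariant submodule. -/
def res (π : S →* Module.End k V) (N : Submodule k V) (hN : ∀ g, ∀ u ∈ N, π g u ∈ N) :
    S →* Module.End k N where
  toFun g := (π g).restrict (hN g)
  map_one' := LinearMap.ext fun u => Subtype.ext (by simp)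
  map_mul' g g' := LinearMap.ext fun u => Subtype.ext (by simp [map_mul])

theorem res_apply (π : S →* Module.End k V) (N : Submodule k V) (hN : ∀ g, ∀ u ∈ N, π g u ∈ N)
    (g : S) (u : N) : (res π N hN g u : V) = π g u := rfl

theorem Fpf.res {π : S →* Module.End k V} (h : Fpf π) (N : Submodule k V)
    (hN : ∀ g, ∀ u ∈ N, π g u ∈ N) : Fpf (res π N hN) := by
  intro x hx hx1
  refine LinearMap.ext fun u => Subtype.ext ?_
  have h0 := congrArg (fun f : Module.End k V => f u) (h x hx hx1)
  simp only [LinearMap.sum_apply, LinearMap.zero_apply] at h0 ⊢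
  rw [AddSubmonoidClass.coe_finset_sum, ZeroMemClass.coe_zero]
  simpa only [res_apply] using h0

/-- The action on the quotient by an invariant submodule. -/
def quo (π : S →* Module.End k V) (N : Submodule k V) (hN : ∀ g, ∀ u ∈ N, π g u ∈ N) :
    S →* Module.End k (V ⧸ N) where
  toFun g := N.mapQ N (π g) (hN g)
  map_one' := Submodule.linearMap_qext _ (LinearMap.ext fun u => by simp)
  map_mul' g g' := Submodule.linearMap_qext _ (LinearMap.ext fun u => by simp [map_mul])

theorem quo_mk (π : S →* Module.End k V) (N : Submodule k V) (hN : ∀ g, ∀ u ∈ N, π g u ∈ N)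
    (g : S) (u : V) : quo π N hN g (Submodule.Quotient.mk u) = Submodule.Quotient.mk (π g u) := rfl

theorem Fpf.quo {π : S →* Module.End k V} (h : Fpf π) (N : Submodule k V)
    (hN : ∀ g, ∀ u ∈ N, π g u ∈ N) : Fpf (quo π N hN) := by
  intro x hx hx1
  refine Submodule.linearMap_qext _ (LinearMap.ext fun u => ?_)
  have h0 := congrArg (fun f : Module.End k V => (Submodule.Quotient.mk (f u) : V ⧸ N)) (h x hx hx1)
  simp only [LinearMap.sum_apply, LinearMap.zero_apply, Submodule.Quotient.mk_zero] at h0
  rw [← Submodule.mkQ_apply, map_sum] at h0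
  simp only [LinearMap.comp_apply, LinearMap.sum_apply, LinearMap.zero_apply,
    Submodule.mkQ_apply, quo_mk] at h0 ⊢
  exact h0

/-- No proper nonzero invariant subspace. -/
def IsIrred (π : S →* Module.End k V) : Prop :=
  Nontrivial V ∧ ∀ N : Submodule k V, (∀ g, ∀ u ∈ N, π g u ∈ N) → N = ⊥ ∨ N = ⊤

/-- A minimal nonzero invariant subspace gives an irreducible restriction. -/
theorem exists_irred [FiniteDimensional k V] [Nontrivial V] (π : S →* Module.End k V) :
    ∃ (N : Submodule k V) (hN : ∀ g, ∀ u ∈ N, π g u ∈ N), IsIrred (res π N hN) := by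
  obtain ⟨N, ⟨hN0, hN⟩, hmin⟩ := exists_minimal_of_wellFoundedLT
    (fun N : Submodule k V => N ≠ ⊥ ∧ ∀ g, ∀ u ∈ N, π g u ∈ N)
    ⟨⊤, top_ne_bot, fun _ _ _ => trivial⟩
  refine ⟨N, hN, Submodule.nontrivial_iff_ne_bot.mpr hN0, fun M hM => ?_⟩
  by_contra hc
  push Not at hc
  have hM' : ∀ g, ∀ u ∈ M.map N.subtype, π g u ∈ M.map N.subtype := by
    rintro g _ ⟨u, hu, rfl⟩
    exact ⟨res π N hN g u, hM g u hu, rfl⟩
  have hM0 : M.map N.subtype ≠ ⊥ := fun h => hc.1
    (Submodule.map_injective_of_injective N.injective_subtype (h.trans (Submodule.map_bot _).symm))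
  have heq : M.map N.subtype = N := le_antisymm (Submodule.map_subtype_le N M)
    (hmin ⟨hM0, hM'⟩ (Submodule.map_subtype_le N M))
  exact hc.2 (Submodule.map_injective_of_injective N.injective_subtype
    (heq.trans (Submodule.map_subtype_top N).symm))

/-- A 2-group fixes a nonzero vector in every nonzero representation in characteristic 2. -/
theorem exists_fixed [CharP k 2] [Nontrivial V] {R : Type*} [Group R] [Finite R]
    (hR : IsPGroup 2 R) (π : R →* Module.End k V) : ∃ v : V, v ≠ 0 ∧ ∀ r, π r v = v := by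
  obtain ⟨v, hv0⟩ := exists_ne (0 : V)
  have htor : ∀ x : V, 2 • x = 0 := fun x => by
    rw [← Nat.cast_smul_eq_nsmul k, CharP.cast_eq_zero, zero_smul]
  set A : AddSubgroup V := AddSubgroup.closure (Set.range fun r => π r v) with hA
  have hfg : AddGroup.FG A := (AddGroup.fg_iff_addSubgroup_fg A).mpr
    ((AddSubgroup.fg_iff A).mpr ⟨_, hA.symm, Set.finite_range _⟩)
  have : Finite A := AddCommGroup.finite_of_fg_torsion A fun x =>
    isOfFinAddOrder_iff_nsmul_eq_zero.mpr ⟨2, two_pos, Subtype.ext (htor (x : V))⟩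
  have hinv : ∀ r, ∀ w ∈ A, π r w ∈ A := fun r w hw => by
    refine (AddSubgroup.closure_le (A.comap (π r).toAddMonoidHom)).mpr ?_ hw
    rintro _ ⟨s, rfl⟩
    exact AddSubgroup.subset_closure ⟨r * s, by simp [map_mul]⟩
  letI : MulAction R A :=
    { smul := fun r w => ⟨π r w.1, hinv r w.1 w.2⟩
      one_smul := fun w => Subtype.ext (by show π 1 w.1 = w.1; simp)
      mul_smul := fun r s w => Subtype.ext (by show π (r * s) w.1 = π r (π s w.1); simp) }
  have hvA : v ∈ A := AddSubgroup.subset_closure ⟨1, by simp⟩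
  have h2 : 2 ∣ Nat.card A := by
    have hord : addOrderOf (⟨v, hvA⟩ : A) = 2 :=
      addOrderOf_eq_prime (Subtype.ext (htor v)) fun h => hv0 (congrArg Subtype.val h)
    exact hord ▸ addOrderOf_dvd_natCard _
  obtain ⟨w, hw, hw0⟩ := hR.exists_fixed_point_of_prime_dvd_card_of_fixed_point A h2
    (a := (0 : A)) fun r => Subtype.ext (map_zero _)
  exact ⟨w, fun h => hw0 (Subtype.ext h.symm), fun r => congrArg Subtype.val (hw r)⟩

end Cfsg.Agent.FpfModules86
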