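import Cfsg.Agent.Lib.FpfModules86Data

/-!
Equivariant bilinear maps between fixed point free representations of a rank one group in
characteristic 2 vanish.
-/

set_option autoImplicit false

namespace Cfsg.Agent.FpfModules86

open Finset Matrix

universe u v

namespace Data

variable {S : Type*} [Group S] {F : Type*} [Field F] {n : ℕ} (D : Data S F n)

/-- Forms invariant under `T` between different twists live on the pair of extreme vectors only. -/
def Extreme (k : Type v) [Field k] : Prop :=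
  ∀ Ψ₁ Ψ₂ : F →+* k, Ψ₁ ≠ Ψ₂ → ∀ B : (Fin n → k) →ₗ[k] (Fin n → k) →ₗ[k] k,
    (∀ t ∈ D.T, ∀ x y, B ((D.ρ t).map Ψ₁ *ᵥ x) ((D.ρ t).map Ψ₂ *ᵥ y) = B x y) →
    ∀ i j, (i ≠ D.l ∨ j ≠ D.l) → B (Pi.single i 1) (Pi.single j 1) = 0

section

variable {k : Type v} [Field k]

theorem torus_single (Ψ : F →+* k) (a : Fˣ) (i : Fin n) :
    (D.ρ (D.h a)).map Ψ *ᵥ Pi.single i 1 = Ψ (D.d a i) • Pi.single i (1 : k) := by
  rw [D.h_diag, diagonal_map (map_zero Ψ)]
  funext j
  rw [mulVec_diagonal, Pi.smul_apply, smul_eq_mul]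
  rcases eq_or_ne j i with rfl | hj
  · simp
  · simp [Pi.single_eq_of_ne hj]

theorem bilin_core [CharP k 2] (hex : D.Extreme k) (Ψ₁ Ψ₂ Ψ₃ : F →+* k)
    (β : (Fin n → k) →ₗ[k] (Fin n → k) →ₗ[k] (Fin n → k))
    (hβ : ∀ g x y, β ((D.ρ g).map Ψ₁ *ᵥ x) ((D.ρ g).map Ψ₂ *ᵥ y) = (D.ρ g).map Ψ₃ *ᵥ β x y) :
    β = 0 := by
  classical
  have hunit : ∀ (Ψ : F →+* k) (M : Matrix (Fin n) (Fin n) F), M.det ≠ 0 → IsUnit (M.map Ψ).det := by
    intro Ψ M hM
    rw [← RingHom.mapMatrix_apply, ← RingHom.map_det, isUnit_iff_ne_zero]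
    exact fun h => hM (Ψ.injective (h.trans (map_zero Ψ).symm))
  have hspan : ∀ (Ψ : F →+* k) (g : Fin n → S) (c : Fin n), (Matrix.of fun i j => D.ρ (g i) j c).det ≠ 0 →
      ∀ f : (Fin n → k) →ₗ[k] (Fin n → k), (∀ i, f ((D.ρ (g i)).map Ψ *ᵥ Pi.single c 1) = 0) →
      f = 0 := by
    intro Ψ g c hg f hf
    set M := (Matrix.of fun i j => D.ρ (g i) j c).map Ψ with hM
    refine LinearMap.ext fun x => ?_
    have hx : x = ∑ i, (x ᵥ* M⁻¹) i • ((D.ρ (g i)).map Ψ *ᵥ Pi.single c 1) := by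
      have h1 : (x ᵥ* M⁻¹) ᵥ* M = x := by
        rw [vecMul_vecMul, nonsing_inv_mul _ (hunit Ψ _ hg), vecMul_one]
      conv_lhs => rw [← h1]
      funext j
      simp [vecMul, dotProduct, hM, mulVec_single, op_smul_eq_smul]
    rw [LinearMap.zero_apply, hx, map_sum]
    exact Finset.sum_eq_zero fun i _ => by rw [map_smul, hf, smul_zero]
  by_cases h12 : Ψ₁ = Ψ₂
  · subst h12
    have h0 : β (Pi.single D.l 1) (Pi.single D.z 1) = 0 := by
      funext i
      obtain ⟨a, ha⟩ := D.d_ne i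
      have h := congrFun (hβ (D.h a) (Pi.single D.l 1) (Pi.single D.z 1)) i
      rw [D.torus_single, D.torus_single] at h
      simp only [map_smul, LinearMap.smul_apply, smul_smul] at h
      rw [D.d_l, D.d_z, map_inv₀, mul_comm, inv_mul_cancel₀ ((map_ne_zero Ψ₁).mpr (Units.ne_zero _)),
        one_smul, D.h_diag, diagonal_map (map_zero Ψ₃), mulVec_diagonal] at h
      by_contra hi
      exact ha (Ψ₃.injective (by rw [map_one]; exact mul_right_cancel₀ hi (by rw [one_mul]; exact h.symm)))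
    have hflip : β.flip (Pi.single D.z 1) = 0 := by
      obtain ⟨t, htT, ht⟩ := D.colsT
      refine hspan Ψ₁ t D.l ht _ fun i => ?_
      have hfix : (D.ρ (t i)).map Ψ₁ *ᵥ Pi.single D.z 1 = Pi.single D.z 1 := by
        funext j
        simp only [mulVec_single, op_smul_eq_smul, one_smul, Matrix.col_apply, Matrix.map_apply,
          D.T_col _ (htT i), Pi.single_apply]
        split_ifs <;> simp
      rw [LinearMap.flip_apply]
      conv_lhs => rw [← hfix]
      rw [hβ, h0, mulVec_zero]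
    obtain ⟨g, hg⟩ := D.cols
    refine LinearMap.ext fun x => hspan Ψ₁ g D.z hg _ fun i => ?_
    have hx : x = (D.ρ (g i)).map Ψ₁ *ᵥ ((D.ρ (g i)⁻¹).map Ψ₁ *ᵥ x) := by
      rw [mulVec_mulVec, ← Matrix.map_mul, ← map_mul, mul_inv_cancel, map_one,
        Matrix.map_one _ (map_zero _) (map_one _), one_mulVec]
    rw [hx, hβ, ← LinearMap.flip_apply β, hflip, LinearMap.zero_apply, mulVec_zero]
  · let B : (Fin n → k) →ₗ[k] (Fin n → k) →ₗ[k] k := β.compr₂ (LinearMap.proj D.l)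
    have hB : ∀ x y, B x y = β x y D.l := fun x y => rfl
    have hT : ∀ t ∈ D.T, ∀ x y, B ((D.ρ t).map Ψ₁ *ᵥ x) ((D.ρ t).map Ψ₂ *ᵥ y) = B x y := by
      intro t ht x y
      rw [hB, hB, hβ, mulVec, dotProduct, Finset.sum_eq_single D.l
        (fun j _ hj => by rw [Matrix.map_apply, D.T_row t ht, if_neg hj, map_zero, zero_mul])
        (fun h => absurd (mem_univ _) h), Matrix.map_apply, D.T_row t ht, if_pos rfl, map_one, one_mul]
    have hll : B (Pi.single D.l 1) (Pi.single D.l 1) = 0 := by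
      by_contra hc
      refine h12 (RingHom.ext fun x => ?_)
      have hω : ∀ a : Fˣ, Ψ₁ (D.ω a : F) * Ψ₂ (D.ω a : F) = Ψ₃ (D.ω a : F) := by
        intro a
        have h := congrFun (hβ (D.h a) (Pi.single D.l 1) (Pi.single D.l 1)) D.l
        rw [D.torus_single, D.torus_single] at h
        simp only [map_smul, LinearMap.smul_apply, smul_smul] at h
        rw [D.d_l, Pi.smul_apply, smul_eq_mul, D.h_diag, diagonal_map (map_zero Ψ₃), mulVec_diagonal,
          map_inv₀, map_inv₀, ← hB] at h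
        simp only [D.d_l, map_inv₀, ← mul_inv, Function.comp_apply, Pi.smul_apply, smul_eq_mul] at h
        try rw [mul_comm (Ψ₂ _) (Ψ₁ _)] at h
        exact inv_injective (mul_right_cancel₀ hc h)
      have hall : ∀ y : F, Ψ₁ y * Ψ₂ y = Ψ₃ y := by
        intro y
        rcases eq_or_ne y 0 with rfl | hy
        · simp
        · obtain ⟨a, ha⟩ := D.ω_bij.2 (Units.mk0 y hy)
          simpa [ha] using hω a
      have h := hall (1 + x)
      rw [map_add, map_add, map_add, map_one, map_one, map_one, add_mul, one_mul, mul_add, mul_one,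
        hall x] at h
      have h2 : Ψ₁ x + Ψ₂ x = 0 := by linear_combination h
      exact CharTwo.add_eq_zero.mp h2
    have hB0 : B = 0 := by
      refine (Pi.basisFun k (Fin n)).ext fun i => (Pi.basisFun k (Fin n)).ext fun j => ?_
      rw [Pi.basisFun_apply, Pi.basisFun_apply, LinearMap.zero_apply, LinearMap.zero_apply]
      by_cases h : i ≠ D.l ∨ j ≠ D.l
      · exact hex Ψ₁ Ψ₂ h12 B hT i j h
      · push Not at h
        rw [h.1, h.2, hll]
    refine LinearMap.ext fun x => LinearMap.ext fun y => ?_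
    obtain ⟨g, hg⟩ := D.rows
    refine eq_zero_of_mulVec_eq_zero (M := (Matrix.of fun i j => D.ρ (g i) D.l j).map Ψ₃)
      (hunit Ψ₃ _ hg).ne_zero ?_
    funext i
    have h := congrFun (hβ (g i) x y) D.l
    rw [← hB, hB0] at h
    exact h.symm

end

/-- Equivariant bilinear maps between fixed point free representations vanish. -/
theorem bilin_eq_zero [Finite S] [Finite F] {k : Type v} [Field k] [IsAlgClosed k] [CharP k 2]
    (hex : D.Extreme k) :
    ∀ (N : ℕ) (V₁ V₂ V₃ : Type u) [AddCommGroup V₁] [Module k V₁] [FiniteDimensional k V₁]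
      [AddCommGroup V₂] [Module k V₂] [FiniteDimensional k V₂]
      [AddCommGroup V₃] [Module k V₃] [FiniteDimensional k V₃],
      Module.finrank k V₁ + Module.finrank k V₂ + Module.finrank k V₃ ≤ N →
      ∀ (π₁ : S →* Module.End k V₁) (π₂ : S →* Module.End k V₂) (π₃ : S →* Module.End k V₃),
        Fpf π₁ → Fpf π₂ → Fpf π₃ → ∀ β : V₁ →ₗ[k] V₂ →ₗ[k] V₃,
        (∀ g x y, β (π₁ g x) (π₂ g y) = π₃ g (β x y)) → β = 0 := by
  intro N
  induction N using Nat.strong_induction_on with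
  | _ N ih =>
  intro V₁ V₂ V₃ _ _ _ _ _ _ _ _ _ hN π₁ π₂ π₃ h₁ h₂ h₃ β hβ
  rcases subsingleton_or_nontrivial V₁ with h | hV₁
  · exact Subsingleton.elim _ _
  rcases subsingleton_or_nontrivial V₂ with h | hV₂
  · exact LinearMap.ext fun x => Subsingleton.elim _ _
  rcases subsingleton_or_nontrivial V₃ with h | hV₃
  · exact LinearMap.ext fun x => Subsingleton.elim _ _
  by_cases hi₁ : IsIrred π₁
  swap
  · obtain ⟨M, hM, hM0, hM1⟩ : ∃ M : Submodule k V₁, (∀ g, ∀ u ∈ M, π₁ g u ∈ M) ∧ M ≠ ⊥ ∧ M ≠ ⊤ := by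
      simpa [IsIrred, hV₁] using hi₁
    have e1 := Submodule.finrank_quotient_add_finrank M
    have l1 := Submodule.finrank_lt hM1
    have l0 : 0 < Module.finrank k M := Submodule.one_le_finrank_iff.mpr hM0
    have hsub := ih _ (by omega) M V₂ V₃ le_rfl (res π₁ M hM) π₂ π₃ (h₁.res M hM) h₂ h₃
      (β.comp M.subtype) (fun g x y => by simp [res_apply, hβ])
    have hle : M ≤ LinearMap.ker β := fun x hx =>
      LinearMap.mem_ker.mpr (LinearMap.congr_fun hsub ⟨x, hx⟩)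
    have hq := ih _ (by omega) (V₁ ⧸ M) V₂ V₃ le_rfl (quo π₁ M hM) π₂ π₃ (h₁.quo M hM) h₂ h₃
      (M.liftQ β hle) (fun g x y => by
        induction x using Submodule.Quotient.induction_on with
        | _ x => simp [quo_mk, hβ])
    exact LinearMap.ext fun x => LinearMap.congr_fun hq (Submodule.Quotient.mk x)
  by_cases hi₂ : IsIrred π₂
  swap
  · obtain ⟨M, hM, hM0, hM1⟩ : ∃ M : Submodule k V₂, (∀ g, ∀ u ∈ M, π₂ g u ∈ M) ∧ M ≠ ⊥ ∧ M ≠ ⊤ := by
      simpa [IsIrred, hV₂] using hi₂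
    have e1 := Submodule.finrank_quotient_add_finrank M
    have l1 := Submodule.finrank_lt hM1
    have l0 : 0 < Module.finrank k M := Submodule.one_le_finrank_iff.mpr hM0
    have hsub := ih _ (by omega) M V₁ V₃ le_rfl (res π₂ M hM) π₁ π₃ (h₂.res M hM) h₁ h₃
      (β.flip.comp M.subtype) (fun g x y => by simp [res_apply, hβ])
    have hle : M ≤ LinearMap.ker β.flip := fun x hx =>
      LinearMap.mem_ker.mpr (LinearMap.congr_fun hsub ⟨x, hx⟩)
    have hq := ih _ (by omega) (V₂ ⧸ M) V₁ V₃ le_rfl (quo π₂ M hM) π₁ π₃ (h₂.quo M hM) h₁ h₃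
      (M.liftQ β.flip hle) (fun g x y => by
        induction x using Submodule.Quotient.induction_on with
        | _ x => simp [quo_mk, hβ])
    have hflip : β.flip = 0 :=
      LinearMap.ext fun x => LinearMap.congr_fun hq (Submodule.Quotient.mk x)
    exact LinearMap.ext fun x => LinearMap.ext fun y => LinearMap.congr_fun (LinearMap.congr_fun hflip y) x
  by_cases hi₃ : IsIrred π₃
  swap
  · obtain ⟨M, hM, hM0, hM1⟩ : ∃ M : Submodule k V₃, (∀ g, ∀ u ∈ M, π₃ g u ∈ M) ∧ M ≠ ⊥ ∧ M ≠ ⊤ := by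
      simpa [IsIrred, hV₃] using hi₃
    have e1 := Submodule.finrank_quotient_add_finrank M
    have l1 := Submodule.finrank_lt hM1
    have l0 : 0 < Module.finrank k M := Submodule.one_le_finrank_iff.mpr hM0
    have hq := ih _ (by omega) V₁ V₂ (V₃ ⧸ M) le_rfl π₁ π₂ (quo π₃ M hM) h₁ h₂ (h₃.quo M hM)
      (β.compr₂ M.mkQ) (fun g x y => by simp [quo_mk, hβ])
    have hmem : ∀ x y, β x y ∈ M := fun x y =>
      (Submodule.Quotient.mk_eq_zero M).mp (LinearMap.congr_fun (LinearMap.congr_fun hq x) y)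
    let β' : V₁ →ₗ[k] V₂ →ₗ[k] M := LinearMap.mk₂ k (fun x y => ⟨β x y, hmem x y⟩)
      (fun a b c => Subtype.ext (by simp)) (fun a b c => Subtype.ext (by simp))
      (fun a b c => Subtype.ext (by simp)) (fun a b c => Subtype.ext (by simp))
    have hsub := ih _ (by omega) V₁ V₂ M le_rfl π₁ π₂ (res π₃ M hM) h₁ h₂ (h₃.res M hM) β'
      (fun g x y => Subtype.ext (by simp [β', res_apply, hβ]))
    exact LinearMap.ext fun x => LinearMap.ext fun y =>
      congrArg Subtype.val (LinearMap.congr_fun (LinearMap.congr_fun hsub x) y)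
  obtain ⟨Ψ₁, L₁, hL₁⟩ := D.exists_equiv π₁ h₁ hi₁
  obtain ⟨Ψ₂, L₂, hL₂⟩ := D.exists_equiv π₂ h₂ hi₂
  obtain ⟨Ψ₃, L₃, hL₃⟩ := D.exists_equiv π₃ h₃ hi₃
  have hsymm : ∀ {V : Type u} [AddCommGroup V] [Module k V] (π : S →* Module.End k V) (Ψ : F →+* k)
      (L : V ≃ₗ[k] (Fin n → k)), (∀ g u, L (π g u) = (D.ρ g).map Ψ *ᵥ L u) →
      ∀ g x, L.symm ((D.ρ g).map Ψ *ᵥ x) = π g (L.symm x) := fun π Ψ L hL g x =>
    L.injective (by rw [hL, L.apply_symm_apply, L.apply_symm_apply])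
  have h0 := D.bilin_core hex Ψ₁ Ψ₂ Ψ₃
    ((β.compl₁₂ L₁.symm.toLinearMap L₂.symm.toLinearMap).compr₂ L₃.toLinearMap) (fun g x y => by
      simp [hsymm π₁ Ψ₁ L₁ hL₁, hsymm π₂ Ψ₂ L₂ hL₂, hβ, hL₃])
  refine LinearMap.ext fun x => LinearMap.ext fun y => L₃.injective ?_
  simpa using LinearMap.congr_fun (LinearMap.congr_fun h0 (L₁ x)) (L₂ y)

end Data

end Cfsg.Agent.FpfModules86
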