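import Cfsg.Agent.Lib.FpfModules86Basic

/-!
Rank one groups in characteristic 2 given by a matrix representation with one torus relation: every
irreducible representation in which the elements of odd order are fixed point free is a Galois twist
of the given one.
-/

set_option autoImplicit false

namespace Cfsg.Agent.FpfModules86

open Finset Matrix

/-- The data needed from a rank one group in characteristic 2. -/
structure Data (S : Type*) [Group S] (F : Type*) [Field F] (n : ℕ) where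
  ρ : S →* Matrix (Fin n) (Fin n) F
  T : Subgroup S
  pT : IsPGroup 2 T
  h : Fˣ →* S
  h_norm : ∀ k : Fˣ, ∀ t ∈ T, h k * t * (h k)⁻¹ ∈ T
  ω : Fˣ →* Fˣ
  ω_bij : Function.Bijective ω
  s : S
  z : Fin n
  l : Fin n
  z_ne_l : z ≠ l
  d : Fˣ → Fin n → F
  h_diag : ∀ k, ρ (h k) = diagonal (d k)
  d_z : ∀ k, d k z = (ω k : F)
  d_l : ∀ k, d k l = (ω k : F)⁻¹
  T_col : ∀ t ∈ T, ∀ i, ρ t i z = if i = z then 1 else 0
  T_row : ∀ t ∈ T, ∀ j, ρ t l j = if j = l then 1 else 0
  s_col : ∀ i, ρ s i z = if i = l then 1 else 0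
  dec : ∀ g, (∃ t ∈ T, ∃ k, g = t * h k) ∨ (∃ t ∈ T, ∃ t' ∈ T, ∃ k, g = t * s * h k * t')
  e : Multiplicative F →* S
  e_mem : ∀ x, e x ∈ T
  e_zl : ∀ x : F, ρ (e (Multiplicative.ofAdd x)) z l = x
  e_conj : ∀ (k : Fˣ) (x : F),
    h k * e (Multiplicative.ofAdd x) * (h k)⁻¹ = e (Multiplicative.ofAdd ((ω k : F) ^ 2 * x))
  y : S
  y_odd : Odd (orderOf y)
  y_ne : y ≠ 1
  y_col : ∀ i, 0 < i → i < orderOf y → ρ (y ^ i) l z = 1
  y_sum : ∀ x : F, ∃ (g : S) (p : Multiset F),
    (Multiset.range (orderOf y)).map (fun i => ρ (g * y ^ i) l z) = {1, x, 1 + x} + (p + p)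
  rows : ∃ g : Fin n → S, (Matrix.of fun i j => ρ (g i) l j).det ≠ 0
  colsT : ∃ t : Fin n → S, (∀ i, t i ∈ T) ∧ (Matrix.of fun i j => ρ (t i) j l).det ≠ 0
  d_ne : ∀ i, ∃ k, d k i ≠ 1

namespace Data

variable {S : Type*} [Group S] {F : Type*} [Field F] {n : ℕ} (D : Data S F n)

/-- The corner entry. -/
def c (g : S) : F := D.ρ g D.l D.z

theorem c_borel {t : S} (ht : t ∈ D.T) (k : Fˣ) : D.c (t * D.h k) = 0 := by
  rw [c, map_mul, mul_apply, Finset.sum_eq_single D.l (fun j _ hj => by rw [D.T_row t ht, if_neg hj, zero_mul])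
    (fun h => absurd (mem_univ _) h), D.h_diag, diagonal_apply_ne' _ D.z_ne_l, mul_zero]

theorem c_big {t t' : S} (ht : t ∈ D.T) (ht' : t' ∈ D.T) (k : Fˣ) :
    D.c (t * D.s * D.h k * t') = (D.ω k : F) := by
  rw [c, map_mul, mul_apply, Finset.sum_eq_single D.z (fun j _ hj => by rw [D.T_col t' ht', if_neg hj, mul_zero])
    (fun h => absurd (mem_univ _) h), D.T_col t' ht', if_pos rfl, mul_one, map_mul, mul_apply,
    Finset.sum_eq_single D.z (fun j _ hj => by rw [D.h_diag, diagonal_apply_ne _ hj, mul_zero])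
    (fun h => absurd (mem_univ _) h), D.h_diag, diagonal_apply_eq, D.d_z, map_mul, mul_apply,
    Finset.sum_eq_single D.l (fun j _ hj => by rw [D.s_col, if_neg hj, mul_zero])
    (fun h => absurd (mem_univ _) h), D.s_col, if_pos rfl, D.T_row t ht, if_pos rfl, mul_one, one_mul]

theorem cols : ∃ g : Fin n → S, (Matrix.of fun i j => D.ρ (g i) j D.z).det ≠ 0 := by
  obtain ⟨t, -, ht⟩ := D.colsT
  refine ⟨fun i => t i * D.s, ?_⟩
  suffices h : (Matrix.of fun i j => D.ρ (t i * D.s) j D.z) = Matrix.of fun i j => D.ρ (t i) j D.l by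
    rwa [h]
  ext i j
  rw [of_apply, of_apply, map_mul, mul_apply, Finset.sum_eq_single D.l
    (fun a _ ha => by rw [D.s_col, if_neg ha, mul_zero]) (fun h => absurd (mem_univ _) h),
    D.s_col, if_pos rfl, mul_one]

section values

variable {k V : Type*} [Field k] [CharP k 2] [AddCommGroup V] [Module k V]

theorem exists_hom (π : S →* Module.End k V) (hfpf : Fpf π) {v : V}
    (hv : ∀ t ∈ D.T, π t v = v) (χ : Fˣ →* kˣ) (hχ : ∀ a, π (D.h a) v = (χ a : k) • v)
    (φ : V →ₗ[k] k) (hφ : ∀ t ∈ D.T, ∀ u, φ (π t u) = φ u) (hne : ∃ g, φ (π g v) ≠ 0) :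
    φ (π D.s v) ≠ 0 ∧ ∃ Ψ : F →+* k, ∀ g, φ (π g v) = φ (π D.s v) * Ψ (D.c g) := by
  classical
  let ωi : Fˣ →* Fˣ := (MulEquiv.ofBijective D.ω D.ω_bij).symm.toMonoidHom
  have hωi : ∀ a, ωi (D.ω a) = a := fun a => (MulEquiv.ofBijective D.ω D.ω_bij).symm_apply_apply a
  set η : F → k := fun x => if hx : x = 0 then 0 else (χ (ωi (Units.mk0 x hx)) : k) with hη
  have η0 : η 0 = 0 := dif_pos rfl
  have ηω : ∀ a : Fˣ, η (D.ω a : F) = χ a := fun a => by
    simp only [hη]
    rw [dif_neg (Units.ne_zero _), Units.mk0_val, hωi]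
  have η1 : η 1 = 1 := by
    have := ηω 1
    rwa [map_one, map_one, Units.val_one, Units.val_one] at this
  have ηmul : ∀ a b, η (a * b) = η a * η b := by
    intro a b
    rcases eq_or_ne a 0 with rfl | ha
    · simp [η0]
    rcases eq_or_ne b 0 with rfl | hb
    · simp [η0]
    simp only [hη, dif_neg ha, dif_neg hb, dif_neg (mul_ne_zero ha hb), Units.mk0_mul, map_mul,
      Units.val_mul]
  have hval : ∀ g, φ (π g v) = (if D.c g = 0 then φ (π g v) else φ (π D.s v) * η (D.c g)) ∧
      (D.c g = 0 → ∃ a : k, φ (π g v) = a * φ v) := by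
    intro g
    rcases D.dec g with ⟨t, ht, a, rfl⟩ | ⟨t, ht, t', ht', a, rfl⟩
    · refine ⟨by rw [if_pos (D.c_borel ht a)], fun _ => ⟨(χ a : k), ?_⟩⟩
      rw [map_mul, Module.End.mul_apply, hφ t ht, hχ, map_smul, smul_eq_mul]
    · rw [D.c_big ht ht' a]
      refine ⟨?_, fun h => absurd h (Units.ne_zero _)⟩
      rw [if_neg (Units.ne_zero _), ηω]
      simp only [map_mul, Module.End.mul_apply]
      rw [hv t' ht', hχ, map_smul, map_smul, map_smul, smul_eq_mul, hφ t ht, mul_comm]
  have hsum : ∀ g, ∑ i ∈ range (orderOf D.y), φ (π (g * D.y ^ i) v) = 0 := fun g => by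
    have h := congrArg (fun f : Module.End k V => φ (π g (f v))) (hfpf D.y D.y_odd D.y_ne)
    simpa [LinearMap.sum_apply, map_sum, map_mul, map_pow] using h
  have hφv : φ v = 0 := by
    have h := hsum 1
    obtain ⟨j, hj⟩ := D.y_odd
    have hi : ∀ i ∈ range (2 * j), φ (π (1 * D.y ^ (i + 1)) v) = φ (π D.s v) := fun i hi => by
      have hc : D.c (D.y ^ (i + 1)) = 1 := D.y_col _ i.succ_pos (by rw [mem_range] at hi; omega)
      rw [one_mul, (hval _).1, hc, if_neg one_ne_zero, η1, mul_one]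
    rw [hj, Finset.sum_range_succ', Finset.sum_congr rfl hi, sum_const, card_range,
      ← Nat.cast_smul_eq_nsmul k, Nat.cast_mul, CharP.cast_eq_zero k 2, zero_mul, zero_smul,
      zero_add, pow_zero, mul_one, map_one, Module.End.one_apply] at h
    exact h
  have hall : ∀ g, φ (π g v) = φ (π D.s v) * η (D.c g) := by
    intro g
    obtain ⟨h1, h2⟩ := hval g
    by_cases hc : D.c g = 0
    · obtain ⟨a, ha⟩ := h2 hc
      rw [ha, hφv, hc, η0, mul_zero, mul_zero]
    · rwa [if_neg hc] at h1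
  have hs : φ (π D.s v) ≠ 0 := fun h => by
    obtain ⟨g, hg⟩ := hne
    exact hg (by rw [hall, h, zero_mul])
  have hone : ∀ x, η (1 + x) = 1 + η x := by
    intro x
    obtain ⟨g, p, hp⟩ := D.y_sum x
    have h := hsum g
    rw [Finset.sum_congr rfl (fun i _ => hall (g * D.y ^ i)), ← Finset.mul_sum, mul_eq_zero,
      or_iff_right hs, Finset.sum_eq_multiset_sum, Finset.range_val] at h
    have e := congrArg (fun q => (Multiset.map η q).sum) hp
    simp only [Multiset.map_map, Multiset.map_add, Multiset.sum_add, Multiset.insert_eq_cons,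
      Multiset.map_cons, Multiset.map_singleton, Multiset.sum_cons, Multiset.sum_singleton,
      CharTwo.add_self_eq_zero, add_zero, η1] at e
    rw [Function.comp_def] at e
    simp only [c] at h
    rw [h] at e
    rw [← add_assoc] at e
    exact (CharTwo.add_eq_zero.mp e.symm).symm
  refine ⟨hs, ⟨{ toFun := η, map_one' := η1, map_mul' := ηmul, map_zero' := η0,
                 map_add' := fun a b => ?_ }, hall⟩⟩
  rcases eq_or_ne a 0 with rfl | ha
  · simp [η0]
  rw [show a + b = a * (1 + a⁻¹ * b) by field_simp, ηmul, hone, mul_add, mul_one, ← ηmul,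
    mul_inv_cancel_left₀ ha]

end values

/-- An irreducible fixed point free representation is a twist of `ρ`. -/
theorem exists_equiv [Finite S] [Finite F] {k V : Type*} [Field k] [IsAlgClosed k] [CharP k 2]
    [AddCommGroup V] [Module k V] [FiniteDimensional k V] (π : S →* Module.End k V) (hfpf : Fpf π)
    (hirr : IsIrred π) :
    ∃ (Ψ : F →+* k) (L : V ≃ₗ[k] (Fin n → k)), ∀ g u, L (π g u) = (D.ρ g).map Ψ *ᵥ L u := by
  classical
  haveI : Nontrivial V := hirr.1
  obtain ⟨v₀, hv₀, hv₀T⟩ := exists_fixed D.pT (π.comp D.T.subtype)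
  let W₀ : Submodule k V :=
    { carrier := {u | ∀ t ∈ D.T, π t u = u}
      add_mem' := fun {a b} ha hb t ht => by rw [map_add, ha t ht, hb t ht]
      zero_mem' := fun t _ => map_zero _
      smul_mem' := fun c a ha t ht => by rw [map_smul, ha t ht] }
  have hW₀ : ∀ a : Fˣ, ∀ u ∈ W₀, π (D.h a) u ∈ W₀ := by
    intro a u hu t ht
    have h' : (D.h a)⁻¹ * t * D.h a ∈ D.T := by
      have := D.h_norm a⁻¹ t ht
      rwa [map_inv, inv_inv] at this
    calc π t (π (D.h a) u) = π (D.h a * ((D.h a)⁻¹ * t * D.h a)) u := by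
          rw [show D.h a * ((D.h a)⁻¹ * t * D.h a) = t * D.h a by group, map_mul,
            Module.End.mul_apply]
      _ = π (D.h a) u := by rw [map_mul, Module.End.mul_apply, hu _ h']
  haveI : Nontrivial W₀ :=
    ⟨⟨v₀, fun t ht => hv₀T ⟨t, ht⟩⟩, 0, fun h => hv₀ (congrArg Subtype.val h)⟩
  haveI : Fintype F := Fintype.ofFinite F
  obtain ⟨k₀, hk₀⟩ := IsCyclic.exists_generator (α := Fˣ)
  obtain ⟨μ, hμ⟩ := Module.End.exists_eigenvalue ((π (D.h k₀)).restrict (hW₀ k₀))
  obtain ⟨⟨v, hvW⟩, hv⟩ := hμ.exists_hasEigenvector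
  have hv0 : v ≠ 0 := fun h => hv.2 (Subtype.ext h)
  have hvμ : π (D.h k₀) v = μ • v := congrArg Subtype.val hv.apply_eq_smul
  have hex : ∀ a : Fˣ, ∃ c : k, π (D.h a) v = c • v := by
    intro a
    obtain ⟨i, rfl⟩ := (mem_powers_iff_mem_zpowers.mpr (hk₀ a) : a ∈ Submonoid.powers k₀)
    refine ⟨μ ^ i, ?_⟩
    induction i with
    | zero => simp
    | succ i ih =>
      simp only at ih ⊢
      rw [pow_succ, map_mul, map_mul, Module.End.mul_apply, hvμ, map_smul, ih, smul_smul,
        pow_succ']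
  choose χ₀ hχ₀ using hex
  let χ₁ : Fˣ →* k :=
    { toFun := χ₀
      map_one' := smul_left_injective k hv0
        (show χ₀ 1 • v = (1 : k) • v by rw [← hχ₀, map_one, map_one, Module.End.one_apply, one_smul])
      map_mul' := fun a b => smul_left_injective k hv0
        (show χ₀ (a * b) • v = (χ₀ a * χ₀ b) • v by
          rw [← hχ₀, map_mul, map_mul, Module.End.mul_apply, hχ₀ b, map_smul, hχ₀ a, smul_smul,
            mul_comm]) }
  let χ : Fˣ →* kˣ := χ₁.toHomUnits
  let dual : D.T →* Module.End k (Module.Dual k V) :=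
    { toFun := fun t => (π ((t : S)⁻¹)).dualMap
      map_one' := by ext; simp
      map_mul' := fun a b => by ext; simp [map_mul] }
  obtain ⟨φ, hφ0, hφT⟩ := exists_fixed D.pT dual
  have hφ : ∀ t ∈ D.T, ∀ u, φ (π t u) = φ u := fun t ht u => by
    have := LinearMap.congr_fun (hφT ⟨t, ht⟩) (π t u)
    simp only [dual, MonoidHom.coe_mk, OneHom.coe_mk, LinearMap.dualMap_apply] at this
    rwa [← Module.End.mul_apply, ← map_mul, inv_mul_cancel, map_one, Module.End.one_apply,
      eq_comm] at this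
  have htop : Submodule.span k (Set.range fun g => π g v) = ⊤ := by
    refine (hirr.2 _ ?_).resolve_left ?_
    · intro g u hu
      induction hu using Submodule.span_induction with
      | mem x hx =>
        obtain ⟨g', rfl⟩ := hx
        exact Submodule.subset_span ⟨g * g', by simp [map_mul]⟩
      | zero => rw [map_zero]; exact zero_mem _
      | add x y _ _ hx hy => rw [map_add]; exact add_mem hx hy
      | smul c x _ hx => rw [map_smul]; exact Submodule.smul_mem _ c hx
    · intro h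
      exact hv0 ((Submodule.mem_bot k).mp (h ▸ Submodule.subset_span ⟨1, by simp⟩))
  have hne : ∃ g, φ (π g v) ≠ 0 := by
    by_contra hc
    push Not at hc
    exact hφ0 (LinearMap.ext_on_range htop fun g => by simp [hc g])
  obtain ⟨hs, Ψ, hΨ⟩ := D.exists_hom π hfpf hvW χ hχ₀ φ hφ hne
  let Θ : V →ₗ[k] (S → k) :=
    LinearMap.pi fun g => ((φ (π D.s v))⁻¹ • φ).comp (π g)
  let N : (Fin n → k) →ₗ[k] (S → k) :=
    LinearMap.pi fun g => ∑ j, Ψ (D.ρ g D.l j) • LinearMap.proj j
  have hN : ∀ x g, N x g = ((D.ρ g).map Ψ *ᵥ x) D.l := fun x g => by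
    simp [N, mulVec, dotProduct]
  have hΘ : ∀ u g, Θ u g = (φ (π D.s v))⁻¹ * φ (π g u) := fun u g => by simp [Θ]
  have hNinj : LinearMap.ker N = ⊥ := by
    rw [LinearMap.ker_eq_bot']
    intro x hx
    obtain ⟨g, hg⟩ := D.rows
    refine eq_zero_of_mulVec_eq_zero (M := (Matrix.of fun i j => D.ρ (g i) D.l j).map Ψ) ?_ ?_
    · rw [← RingHom.mapMatrix_apply, ← RingHom.map_det]
      exact fun h => hg (Ψ.injective (h.trans (map_zero Ψ).symm))
    · funext i
      have := congrFun hx (g i)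
      rw [hN] at this
      exact this
  obtain ⟨Nl, hNl⟩ := N.exists_leftInverse_of_injective hNinj
  have hNl' : ∀ x, Nl (N x) = x := fun x => LinearMap.congr_fun hNl x
  have hcol : ∀ g', Θ (π g' v) = N (fun j => Ψ (D.ρ g' j D.z)) := by
    intro g'
    funext g
    rw [hΘ, hN, ← Module.End.mul_apply, ← map_mul, hΨ (g * g'), inv_mul_cancel_left₀ hs]
    simp [c, map_mul, mul_apply, mulVec, dotProduct, map_sum]
  have hNL : ∀ u, N (Nl (Θ u)) = Θ u := by
    intro u
    have hu : u ∈ Submodule.span k (Set.range fun g => π g v) := htop ▸ Submodule.mem_top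
    induction hu using Submodule.span_induction with
    | mem x hx => obtain ⟨g', rfl⟩ := hx; simp only [hcol, hNl']
    | zero => simp
    | add x y _ _ hx hy => simp only [map_add, hx, hy]
    | smul c x _ hx => simp only [map_smul, hx]
  set L : V →ₗ[k] (Fin n → k) := Nl.comp Θ with hL
  have hLv : ∀ g, L (π g v) = fun j => Ψ (D.ρ g j D.z) := fun g => by
    rw [hL, LinearMap.comp_apply, hcol, hNl']
  have heq : ∀ g u, L (π g u) = (D.ρ g).map Ψ *ᵥ L u := by
    intro g u
    apply LinearMap.ker_eq_bot.mp hNinj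
    rw [hL, LinearMap.comp_apply, hNL]
    funext g'
    rw [hN, mulVec_mulVec, ← Matrix.map_mul, ← map_mul, ← hN, LinearMap.comp_apply, hNL, hΘ, hΘ,
      map_mul, Module.End.mul_apply]
  have hLinj : Function.Injective L := by
    rw [← LinearMap.ker_eq_bot]
    refine (hirr.2 _ fun g u hu => ?_).resolve_right fun h => ?_
    · rw [LinearMap.mem_ker] at hu ⊢
      rw [heq, hu, mulVec_zero]
    · have h1 : L (π D.s v) = 0 := LinearMap.mem_ker.mp (h ▸ Submodule.mem_top)
      have h2 := congrFun (hLv D.s ▸ h1) D.l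
      rw [D.s_col, if_pos rfl, map_one] at h2
      exact one_ne_zero h2
  have hLsurj : Function.Surjective L := by
    intro x
    obtain ⟨g, hg⟩ := D.cols
    set M := (Matrix.of fun i j => D.ρ (g i) j D.z).map Ψ with hM
    have hu : IsUnit M.det := by
      rw [hM, ← RingHom.mapMatrix_apply, ← RingHom.map_det, isUnit_iff_ne_zero]
      exact fun h => hg (Ψ.injective (h.trans (map_zero Ψ).symm))
    refine ⟨∑ i, (x ᵥ* M⁻¹) i • π (g i) v, ?_⟩
    have hx : (x ᵥ* M⁻¹) ᵥ* M = x := by rw [vecMul_vecMul, nonsing_inv_mul _ hu, vecMul_one]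
    conv_rhs => rw [← hx]
    simp only [map_sum, map_smul, hLv]
    funext j
    simp [vecMul, dotProduct, hM, Finset.sum_apply]
  exact ⟨Ψ, LinearEquiv.ofBijective L ⟨hLinj, hLsurj⟩, heq⟩

end Data

end Cfsg.Agent.FpfModules86
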