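import Cfsg.Agent.Lib.FpfModules86Group

/-!
A 2-group with quotient `PSL(2, p)`, `p ≥ 7` a Fermat or Mersenne prime, or with quotient containing a
3-elementary subgroup of rank 2, cannot be acted on without fixed points by every element of odd order.
-/

set_option autoImplicit false

namespace Cfsg.Agent.FpfModules86

open Finset
open scoped TensorProduct commutatorElement MatrixGroups

namespace Exclude

universe u v

theorem fpf_three {S A : Type*} [Group S] [Semiring A] {π : S →* A} (h : Fpf π) {x : S}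
    (hx : x ^ 3 = 1) (hx1 : x ≠ 1) : 1 + π x + π x * π x = 0 := by
  haveI : Fact (Nat.Prime 3) := ⟨by norm_num⟩
  have h3 := orderOf_eq_prime hx hx1
  have h0 := h x (by rw [h3]; decide) hx1
  rw [h3] at h0
  simpa [Finset.sum_range_succ, pow_two] using h0

theorem eigen_three {k : Type*} [Field k] [CharP k 2] {ζ η : k} (hζ0 : ζ ≠ 0) (hη0 : η ≠ 0)
    (hη : η + η⁻¹ = ζ + ζ⁻¹ + 1) {p K : ℕ} (hK : 1 ≤ K) (hpK : p = 2 ^ K + 1 ∨ p + 1 = 2 ^ K)
    (hζ : ζ ^ p = 1) (hN : η ^ (p ^ 2 - 1) = 1) : ζ ^ 3 = 1 ∨ ζ = 1 := by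
  obtain ⟨L, rfl⟩ : ∃ L, K = L + 1 := ⟨K - 1, by omega⟩
  have hc : (ζ + ζ⁻¹ + 1) ^ 2 ^ (L + 1) = ζ + ζ⁻¹ + 1 := by
    rw [add_pow_char_pow, add_pow_char_pow, one_pow, inv_pow]
    rcases hpK with rfl | h
    · rw [pow_succ] at hζ
      rw [eq_inv_of_mul_eq_one_left hζ, inv_inv, add_comm ζ⁻¹]
    · rw [← h, pow_succ, hζ, one_mul]
  have hroot : η ^ 2 ^ (L + 1) = η ∨ η ^ 2 ^ (L + 1) = η⁻¹ := by
    have e : η ^ 2 ^ (L + 1) + (η ^ 2 ^ (L + 1))⁻¹ = η + η⁻¹ := by
      rw [← inv_pow, ← add_pow_char_pow, hη, hc]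
    have hn : η ^ 2 ^ (L + 1) ≠ 0 := pow_ne_zero _ hη0
    generalize η ^ 2 ^ (L + 1) = a at e hn
    have : (a - η) * (a - η⁻¹) = 0 := by
      field_simp at e ⊢
      linear_combination e
    rcases mul_eq_zero.mp this with h | h
    · exact Or.inl (sub_eq_zero.mp h)
    · exact Or.inr (sub_eq_zero.mp h)
  have hsq : (η ^ 2 ^ L) ^ 2 = η ^ 2 ^ (L + 1) := by rw [← pow_mul, ← pow_succ]
  have hη3 : η ^ 3 = 1 ∨ η = 1 := by
    rcases hpK with rfl | h
    · have e : (2 ^ (L + 1) + 1) ^ 2 - 1 = 2 ^ (L + 2) * (2 ^ L + 1) := by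
        have : (2 ^ (L + 1) + 1) ^ 2 = 2 ^ (L + 2) * (2 ^ L + 1) + 1 := by ring
        omega
      rw [e, ExpChar.pow_prime_pow_mul_eq_one_iff, pow_succ] at hN
      rw [eq_inv_of_mul_eq_one_left hN] at hsq
      rcases hroot with h | h <;> rw [h] at hsq
      · left; field_simp at hsq; linear_combination -hsq
      · right; field_simp at hsq; exact hsq.symm
    · have h2L : 1 ≤ 2 ^ L := Nat.one_le_two_pow
      have e : p ^ 2 - 1 = 2 ^ (L + 2) * (2 ^ L - 1) := by
        obtain ⟨a, ha⟩ : ∃ a, 2 ^ L = a + 1 := ⟨2 ^ L - 1, by omega⟩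
        have hp : p = 2 * a + 1 := by rw [pow_succ, ha] at h; omega
        rw [show 2 ^ (L + 2) = 2 ^ L * 2 * 2 by ring, ha, hp, Nat.add_sub_cancel,
          show (2 * a + 1) ^ 2 = (a + 1) * 2 * 2 * a + 1 by ring, Nat.add_sub_cancel]
      rw [e, ExpChar.pow_prime_pow_mul_eq_one_iff] at hN
      have hN' : η ^ 2 ^ L = η := by
        rw [show 2 ^ L = 2 ^ L - 1 + 1 by omega, pow_succ, hN, one_mul]
      rw [hN'] at hsq
      rcases hroot with h | h <;> rw [h] at hsq
      · right; exact mul_left_cancel₀ hη0 (by rw [mul_one, ← pow_two]; exact hsq)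
      · left; field_simp at hsq; linear_combination hsq
  have hcases : ζ + ζ⁻¹ + 1 = 0 ∨ ζ + ζ⁻¹ = 0 := by
    rw [← hη]
    by_cases h1 : η = 1
    · left; rw [h1, inv_one, CharTwo.add_self_eq_zero]
    · right
      have h3 := hη3.resolve_right h1
      have h4 : (η + 1) * (η ^ 2 + η + 1) = 0 := by grind
      have h5 := (mul_eq_zero.mp h4).resolve_left fun h => h1 (CharTwo.add_eq_zero.mp h)
      have h6 : η + η⁻¹ = 1 := by field_simp; grind
      have h7 : ζ + ζ⁻¹ + 1 = 0 + 1 := by rw [← hη, h6, zero_add]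
      exact add_right_cancel h7
  rcases hcases with h | h
  · left; field_simp at h; grind
  · right
    field_simp at h
    exact CharTwo.sq_injective (show ζ ^ 2 = 1 ^ 2 by grind)

/-- The key computation: the group relations of `PSL(2, p)` have no fixed point free solution. -/
theorem no_eigen {k V : Type*} [Field k] [IsAlgClosed k] [CharP k 2] [AddCommGroup V] [Module k V]
    [FiniteDimensional k V] [Nontrivial V] (X Y : Module.End k V) (hX : 1 + X + X * X = 0)
    (hY : 1 + Y + Y * Y = 0) {p K : ℕ} (hp : p.Prime) (hp3 : p ≠ 3) (hK : 1 ≤ K)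
    (hpK : p = 2 ^ K + 1 ∨ p + 1 = 2 ^ K) (hz : (X * Y) ^ p = 1)
    (hfix : ∀ u, (X * Y) u = u → u = 0) (hw : (X * (Y * Y)) ^ (p ^ 2 - 1) = 1) : False := by
  obtain ⟨ζ, hζ⟩ := Module.End.exists_eigenvalue (X * Y)
  obtain ⟨v, hv⟩ := hζ.exists_hasEigenvector
  have hv0 := hv.2
  have hzv : X (Y v) = ζ • v := hv.apply_eq_smul
  have hXX : ∀ a, X (X a) = a + X a := fun a => by
    have := LinearMap.congr_fun hX a
    simp only [LinearMap.add_apply, Module.End.one_apply, Module.End.mul_apply, LinearMap.zero_apply] at this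
    have h2 : a + X a + (a + X a) = 0 := by rw [← two_nsmul, ← Nat.cast_smul_eq_nsmul k, Nat.cast_ofNat, CharTwo.two_eq_zero, zero_smul]
    exact (add_left_cancel (this.trans h2.symm))
  have hYY : ∀ a, Y (Y a) = a + Y a := fun a => by
    have := LinearMap.congr_fun hY a
    simp only [LinearMap.add_apply, Module.End.one_apply, Module.End.mul_apply, LinearMap.zero_apply] at this
    have h2 : a + Y a + (a + Y a) = 0 := by rw [← two_nsmul, ← Nat.cast_smul_eq_nsmul k, Nat.cast_ofNat, CharTwo.two_eq_zero, zero_smul]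
    exact (add_left_cancel (this.trans h2.symm))
  have hζp : ζ ^ p = 1 := by
    have h := hv.pow_apply p
    rw [hz, Module.End.one_apply] at h
    exact (smul_left_injective k hv0 (show ζ ^ p • v = (1 : k) • v by rw [one_smul, ← h]))
  have hζ0 : ζ ≠ 0 := fun h => by simp [h, zero_pow hp.ne_zero] at hζp
  set w := X v with hwdef
  have hYv : Y v = ζ • (v + w) := by
    have h := congrArg (fun a => X (X a)) hzv
    simp only [hXX, map_smul, map_add] at h
    linear_combination (norm := skip) h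
    match_scalars <;> grind
  have hYw : Y w = (ζ⁻¹ + 1 + ζ) • v + (1 + ζ) • w := by
    have h := hYY v
    rw [hYv, map_smul, map_add, hYv] at h
    linear_combination (norm := skip) ζ⁻¹ • h
    match_scalars <;> field_simp <;> grind
  set W := X * (Y * Y) with hW
  have hWv : W v = ζ • v + w := by
    rw [hW, Module.End.mul_apply, Module.End.mul_apply, hYY, map_add, hzv, ← hwdef, add_comm]
  have hWw : W w = ζ • v + (1 + ζ⁻¹) • w := by
    rw [hW, Module.End.mul_apply, Module.End.mul_apply, hYY, hYw]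
    simp only [map_add, map_smul, hwdef, hXX]
    match_scalars <;> field_simp <;> grind
  obtain ⟨η, hη⟩ := IsAlgClosed.exists_root
    (Polynomial.X ^ 2 + Polynomial.C (ζ + ζ⁻¹ + 1) * Polynomial.X + 1 : Polynomial k) (by
      have : (Polynomial.X ^ 2 + Polynomial.C (ζ + ζ⁻¹ + 1) * Polynomial.X + 1 : Polynomial k).degree = 2 := by
        compute_degree!
      rw [this]; decide)
  simp only [Polynomial.IsRoot.def, Polynomial.eval_add, Polynomial.eval_pow, Polynomial.eval_X,
    Polynomial.eval_mul, Polynomial.eval_C, Polynomial.eval_one] at hη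
  have hη0 : η ≠ 0 := fun h => by simp [h] at hη
  have hη' : η + η⁻¹ = ζ + ζ⁻¹ + 1 := by field_simp at hη ⊢; grind
  set u := W v + η⁻¹ • v with hu
  have hWu : W u = η • u := by
    rw [hu, map_add, map_smul, hWv, map_add, map_smul, hWv, hWw]
    match_scalars <;> field_simp at hη ⊢ <;> grind
  have hpow : η ^ (p ^ 2 - 1) = 1 := by
    by_cases hu0 : u = 0
    · have hev : W.HasEigenvector η⁻¹ v := ⟨Module.End.mem_eigenspace_iff.mpr (by
        rw [hu] at hu0
        linear_combination (norm := skip) hu0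
        match_scalars <;> grind), hv0⟩
      have h := hev.pow_apply (p ^ 2 - 1)
      rw [hW, hw, Module.End.one_apply] at h
      have := smul_left_injective k hv0 (show η⁻¹ ^ (p ^ 2 - 1) • v = (1 : k) • v by rw [one_smul, ← h])
      rwa [inv_pow, inv_eq_one] at this
    · have hev : W.HasEigenvector η u := ⟨Module.End.mem_eigenspace_iff.mpr hWu, hu0⟩
      have h := hev.pow_apply (p ^ 2 - 1)
      rw [hW, hw, Module.End.one_apply] at h
      exact smul_left_injective k hu0 (show η ^ (p ^ 2 - 1) • u = (1 : k) • u by rw [one_smul, ← h])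
  have hζ1 : ζ = 1 := by
    rcases eigen_three hζ0 hη0 hη' hK hpK hζp hpow with h | h
    · have hg : Nat.gcd 3 p = 1 := (Nat.coprime_primes (by norm_num) hp).mpr hp3.symm
      simpa [hg] using pow_gcd_eq_one.mpr ⟨h, hζp⟩
    · exact h
  exact hv0 (hfix v (by rw [Module.End.mul_apply, hzv, hζ1, one_smul]))

theorem two_torsion_ne_zero {U : Type*} [AddCommGroup U] [Nontrivial U]
    (h : ∀ x : U, ∃ N : ℕ, 2 ^ N • x = 0) : ∃ x : U, x ≠ 0 ∧ 2 • x = 0 := by
  obtain ⟨x, hx⟩ := exists_ne (0 : U)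
  obtain ⟨N, hN⟩ := h x
  induction N generalizing x with
  | zero => simp [hx] at hN
  | succ N ih =>
    by_cases h2 : 2 ^ N • x = 0
    · exact ih x hx h2
    · exact ⟨_, h2, by rw [smul_smul, ← pow_succ']; exact hN⟩

/-- `D` is trivial when every fixed point free representation of the quotient on a 2-group is zero. -/
theorem eq_bot {G : Type u} [Group G] {S : Type v} [Group S] [Finite G] {D : Subgroup G} [D.Normal]
    (hD : IsPGroup 2 D) (f : G →* S) (hf : Function.Surjective f) (hker : f.ker = D)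
    (hfpf : ∀ x : G, Odd (orderOf x) → x ≠ 1 → ∀ d ∈ D, x * d = d * x → d = 1)
    (h : ∀ (U : Type u) [AddCommGroup U] [Finite U] (r : S →* Module.End ℤ U), Fpf r →
      (∀ x : U, ∃ N : ℕ, 2 ^ N • x = 0) → ∀ x : U, x = 0) : D = ⊥ := by
  obtain ⟨V, _, _, r, p, hr, -, -, hp0, -, tV⟩ := exists_rep hD f hf hker hfpf D ⁅D, D⁆
    (Subgroup.commutator_le_right D D) le_rfl
    (fun d hd a ha => Subgroup.commutator_mem_commutator hd ha)
  have hle : D ≤ ⁅D, D⁆ := fun a ha => (hp0 ⟨a, ha⟩).mp (h V r hr tV _)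
  haveI : Group.IsNilpotent D := hD.isNilpotent
  obtain ⟨N, hN⟩ := (Subgroup.isNilpotent_iff_lowerCentralSeries D).mp
    (inferInstance : Group.IsNilpotent D)
  have hlcs : ∀ i, D ≤ D.lowerCentralSeries i := by
    intro i
    induction i with
    | zero => exact le_rfl
    | succ i ih => exact hle.trans (Subgroup.commutator_mono ih le_rfl)
  exact eq_bot_iff.mpr ((hlcs N).trans hN.le)

theorem fpf_zero_three {U : Type*} [AddCommGroup U] {S : Type*} [Group S] (r : S →* Module.End ℤ U)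
    (hr : Fpf r) (ht : ∀ x : U, ∃ N : ℕ, 2 ^ N • x = 0) {a b : S} (hab : a * b = b * a)
    (ha : a ^ 3 = 1) (hb : b ^ 3 = 1) (ha1 : a ≠ 1) (hb' : b ∉ Subgroup.zpowers a) (x : U) :
    x = 0 := by
  have hc : Commute a b := hab
  have hb1 : b ≠ 1 := fun h => hb' (h ▸ one_mem _)
  have hab1 : a * b ≠ 1 := fun h =>
    hb' (by rw [eq_inv_of_mul_eq_one_right h]; exact inv_mem (Subgroup.mem_zpowers a))
  have habb1 : a * (b * b) ≠ 1 := fun h => hb' (by
    have : b = a := by
      calc b = a * (b * b) * b := by rw [h, one_mul]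
        _ = a * b ^ 3 := by simp only [pow_succ, pow_zero, one_mul, mul_assoc]
        _ = a := by rw [hb, mul_one]
    rw [this]; exact Subgroup.mem_zpowers a)
  have hc3 : (a * b) ^ 3 = 1 := by rw [hc.mul_pow, ha, hb, one_mul]
  have hd3 : (a * (b * b)) ^ 3 = 1 := by
    rw [(hc.mul_right hc).mul_pow, ha, (Commute.refl b).mul_pow, hb, one_mul, one_mul]
  have e1 := fpf_three hr ha ha1
  have e2 := fpf_three hr hb hb1
  have e3 := fpf_three hr hc3 hab1
  have e4 := fpf_three hr hd3 habb1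
  rw [← map_mul, show a * b * (a * b) = a * a * (b * b) from hc.symm.mul_mul_mul_comm a b] at e3
  rw [← map_mul, show a * (b * b) * (a * (b * b)) = a * a * b by
    rw [((hc.mul_right hc).symm).mul_mul_mul_comm, show b * b * (b * b) = b ^ 3 * b by rw [pow_three]; simp [mul_assoc], hb, one_mul]] at e4
  simp only [map_mul] at e1 e2 e3 e4
  have hX : Commute (r a) (r b) := hc.map r
  have h3 : (3 : Module.End ℤ U) = 0 := by
    calc (3 : Module.End ℤ U) = (1 + r a + r a * r a) + (1 + r b + r b * r b) +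
          (1 + r a * r b + r a * r a * (r b * r b)) + (1 + r a * (r b * r b) + r a * r a * r b) -
          (1 + r a + r a * r a) * (1 + r b + r b * r b) := by noncomm_ring; simp
      _ = 0 := by rw [e1, e2, e3, e4]; simp
  have h3x : (3 : ℕ) • x = 0 := by
    have := LinearMap.congr_fun h3 x
    simpa using this
  obtain ⟨N, hN⟩ := ht x
  have hg : Nat.gcd 3 (2 ^ N) = 1 := Nat.Coprime.pow_right N (by norm_num)
  have := addOrderOf_dvd_iff_nsmul_eq_zero.mpr h3x
  have h2 := addOrderOf_dvd_iff_nsmul_eq_zero.mpr hN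
  have h1 := Nat.dvd_gcd this h2
  rw [hg, Nat.dvd_one, AddMonoid.addOrderOf_eq_one_iff] at h1
  exact h1

theorem fpf_zero_prime {U : Type*} [AddCommGroup U] [Finite U] {S : Type*} [Group S] [Finite S]
    (r : S →* Module.End ℤ U) (hr : Fpf r) (ht : ∀ x : U, ∃ N : ℕ, 2 ^ N • x = 0) {a b : S}
    (ha : a ^ 3 = 1) (hb : b ^ 3 = 1) (ha1 : a ≠ 1) (hb1 : b ≠ 1) {p K : ℕ} (hp : p.Prime)
    (hp3 : p ≠ 3) (hK : 1 ≤ K) (hpK : p = 2 ^ K + 1 ∨ p + 1 = 2 ^ K)
    (hab : (a * b) ^ p = 1) (hab1 : a * b ≠ 1) (hw : (a * (b * b)) ^ (p ^ 2 - 1) = 1) (x : U) :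
    x = 0 := by
  rcases subsingleton_or_nontrivial U with h | hU
  · exact Subsingleton.elim _ _
  exfalso
  let U₂ : Submodule ℤ U := LinearMap.ker ((2 : ℕ) • (LinearMap.id : U →ₗ[ℤ] U))
  have hmem : ∀ y, y ∈ U₂ ↔ 2 • y = 0 := fun y => by simp [U₂]
  have hinv : ∀ s : S, ∀ y ∈ U₂, r s y ∈ U₂ := fun s y hy => by
    rw [hmem] at hy ⊢
    rw [← map_nsmul, hy, map_zero]
  let r₂ : S →* Module.End ℤ U₂ :=
    { toFun := fun s => (r s).restrict (hinv s)
      map_one' := LinearMap.ext fun y => Subtype.ext (by simp)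
      map_mul' := fun s t => LinearMap.ext fun y => Subtype.ext (by simp) }
  have hr₂ : Fpf r₂ := fun s hs hs1 => LinearMap.ext fun y => Subtype.ext (by
    have := LinearMap.congr_fun (hr s hs hs1) (y : U)
    simpa [r₂, LinearMap.sum_apply] using this)
  obtain ⟨y, hy0, hy2⟩ := two_torsion_ne_zero ht
  let k := AlgebraicClosure (ZMod 2)
  haveI : CharP k 2 := charP_of_injective_algebraMap (algebraMap (ZMod 2) k).injective 2
  haveI : Module.Finite ℤ U₂ := Module.Finite.of_finite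
  let π : S →* Module.End k (k ⊗[ℤ] U₂) :=
    (Module.End.baseChangeHom ℤ k U₂).toRingHom.toMonoidHom.comp r₂
  have hπ : Fpf π := hr₂.comp _
  haveI : Nontrivial (k ⊗[ℤ] U₂) := ⟨(1 : k) ⊗ₜ[ℤ] (⟨y, (hmem y).mpr hy2⟩ : U₂), 0, fun h =>
    hy0 (congrArg Subtype.val (eq_zero_of_one_tmul (k := k)
      (fun u => Subtype.ext (by simpa using (hmem u).mp u.2)) h))⟩
  have hord : orderOf (a * b) = p := by
    haveI : Fact p.Prime := ⟨hp⟩
    exact orderOf_eq_prime hab hab1
  have hp2 : p ≠ 2 := fun h => by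
    subst h
    obtain ⟨L, rfl⟩ : ∃ L, K = L + 1 := ⟨K - 1, by omega⟩
    rw [pow_succ] at hpK
    have := Nat.one_le_two_pow (n := L)
    omega
  refine no_eigen (π a) (π b) (fpf_three hπ ha ha1) (fpf_three hπ hb hb1) hp hp3 hK hpK
    (by rw [← map_mul, ← map_pow, hab, map_one]) (fun u hu => ?_)
    (by rw [← map_mul, ← map_mul, ← map_pow, hw, map_one])
  exact hπ.eq_zero (hord ▸ hp.odd_of_ne_two hp2) hab1 (by rw [map_mul]; exact hu)

section PSL

variable {F : Type*} [Field F]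

theorem mk_ne_one {g : SL(2, F)} {i j : Fin 2} (hij : i ≠ j) (h : g i j ≠ 0) :
    (g : Matrix.ProjectiveSpecialLinearGroup (Fin 2) F) ≠ 1 := fun he => by
  have hg := (QuotientGroup.eq_one_iff g).mp he
  obtain ⟨r, -, e⟩ := Matrix.SpecialLinearGroup.mem_center_iff.mp hg
  exact h (by rw [← e]; simp [Matrix.scalar_apply, hij])

theorem mk_eq_one {g : SL(2, F)} (h : (g : Matrix (Fin 2) (Fin 2) F) = -1) :
    (g : Matrix.ProjectiveSpecialLinearGroup (Fin 2) F) = 1 := by
  refine (QuotientGroup.eq_one_iff g).mpr (Matrix.SpecialLinearGroup.mem_center_iff.mpr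
    ⟨-1, by simp, ?_⟩)
  rw [h]; ext i j; simp [Matrix.scalar_apply, Matrix.diagonal, Matrix.one_apply]; split_ifs <;> simp

/-- An element of order 3 in the projective group. -/
def xs : SL(2, F) := ⟨!![0, -1; 1, 1], by simp⟩

/-- A second element of order 3 in the projective group. -/
def ys : SL(2, F) := ⟨!![1, -1; 1, 0], by simp⟩

theorem xs_coe : ((xs : SL(2, F)) : Matrix (Fin 2) (Fin 2) F) = !![0, -1; 1, 1] := rfl

theorem ys_coe : ((ys : SL(2, F)) : Matrix (Fin 2) (Fin 2) F) = !![1, -1; 1, 0] := rfl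

theorem xs_cube : ((xs : SL(2, F)) : Matrix.ProjectiveSpecialLinearGroup (Fin 2) F) ^ 3 = 1 := by
  rw [← QuotientGroup.mk_pow]
  refine mk_eq_one ?_
  rw [Matrix.SpecialLinearGroup.coe_pow, xs_coe]
  ext i j
  fin_cases i <;> fin_cases j <;> simp [pow_succ, Matrix.mul_apply, Fin.sum_univ_two]

theorem ys_cube : ((ys : SL(2, F)) : Matrix.ProjectiveSpecialLinearGroup (Fin 2) F) ^ 3 = 1 := by
  rw [← QuotientGroup.mk_pow]
  refine mk_eq_one ?_
  rw [Matrix.SpecialLinearGroup.coe_pow, ys_coe]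
  ext i j
  fin_cases i <;> fin_cases j <;> simp [pow_succ, Matrix.mul_apply, Fin.sum_univ_two]

theorem xy_pow {p : ℕ} [CharP F p] (hp : Odd p) :
    (((xs : SL(2, F)) * ys : SL(2, F)) : Matrix.ProjectiveSpecialLinearGroup (Fin 2) F) ^ p = 1 := by
  rw [← QuotientGroup.mk_pow]
  refine mk_eq_one ?_
  have hM : (!![-1, 0; 2, -1] : Matrix (Fin 2) (Fin 2) F) = -!![1, 0; -2, 1] := by simp
  have hpow : ∀ n : ℕ, (!![1, 0; -2, 1] : Matrix (Fin 2) (Fin 2) F) ^ n = !![1, 0; -2 * (n : F), 1] := by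
    intro n
    induction n with
    | zero => simp [Matrix.one_fin_two]
    | succ n ih =>
      rw [pow_succ, ih]
      ext i j
      fin_cases i <;> fin_cases j <;> simp [Matrix.mul_apply, Fin.sum_univ_two]
      ring
  rw [Matrix.SpecialLinearGroup.coe_pow, Matrix.SpecialLinearGroup.coe_mul, xs_coe, ys_coe,
    show (!![0, -1; 1, 1] : Matrix (Fin 2) (Fin 2) F) * !![1, -1; 1, 0] = !![-1, 0; 2, -1] by
      ext i j; fin_cases i <;> fin_cases j <;> simp [Matrix.mul_apply, Fin.sum_univ_two]; norm_num,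
    hM, hp.neg_pow, hpow, CharP.cast_eq_zero, mul_zero, Matrix.one_fin_two]

theorem w_pow [Fintype F] {p : ℕ} [Fact p.Prime] [CharP F p] (hp : 7 ≤ p) (hF : Fintype.card F = p) :
    (((xs : SL(2, F)) * (ys * ys) : SL(2, F)) : Matrix.ProjectiveSpecialLinearGroup (Fin 2) F) ^
      (p ^ 2 - 1) = 1 := by
  rw [← QuotientGroup.mk_pow, show ((xs : SL(2, F)) * (ys * ys)) ^ (p ^ 2 - 1) = 1 from ?_,
    QuotientGroup.mk_one]
  apply Subtype.ext
  show (((xs : SL(2, F)) * (ys * ys)) ^ (p ^ 2 - 1) : SL(2, F)).1 = _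
  have hodd : Odd p := (Fact.out : p.Prime).odd_of_ne_two (by omega)
  set M : Matrix (Fin 2) (Fin 2) F := !![-1, 1; 1, -2] with hMdef
  have hcoe : (((xs : SL(2, F)) * (ys * ys) : SL(2, F)) : Matrix (Fin 2) (Fin 2) F) = M := by
    rw [Matrix.SpecialLinearGroup.coe_mul, Matrix.SpecialLinearGroup.coe_mul, xs_coe, ys_coe]
    ext i j; fin_cases i <;> fin_cases j <;> simp [M, Matrix.mul_apply, Fin.sum_univ_two]; norm_num
  have h2 : (2 : F) ≠ 0 := Ring.two_ne_zero (by rw [ringChar.eq F p]; omega)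
  have h5 : (5 : F) ≠ 0 := fun h => by
    have h' : ((5 : ℕ) : F) = 0 := by simpa using h
    rw [CharP.cast_eq_zero_iff F p] at h'
    have := Nat.le_of_dvd (by norm_num) h'
    omega
  set N : Matrix (Fin 2) (Fin 2) F := !![1, 2; 2, -1] with hNdef
  have hNN : N ^ 2 = (5 : F) • 1 := by
    ext i j; fin_cases i <;> fin_cases j <;>
      simp [N, pow_two, Matrix.mul_apply, Fin.sum_univ_two] <;> norm_num
  have hNM : N = (2 : F) • M + (3 : F) • 1 := by
    ext i j; fin_cases i <;> fin_cases j <;> simp [N, M] <;> norm_num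
  have hNp : N ^ p = (5 : F) ^ (p / 2) • N := by
    conv_lhs => rw [← Nat.div_add_mod p 2, Nat.odd_iff.mp hodd]
    rw [pow_succ, pow_mul, hNN, smul_pow, one_pow, smul_mul_assoc, one_mul]
  have hcardp : ∀ a : F, a ^ p = a := fun a => by rw [← hF, FiniteField.pow_card]
  have hMp : N ^ p = (2 : F) • M ^ p + (3 : F) • 1 := by
    rw [hNM, add_pow_char_of_commute p ((Commute.one_right _).smul_right _), smul_pow, smul_pow,
      one_pow, hcardp, hcardp]
  rw [hNp] at hMp
  have hdvd : M ^ p = M ∨ M ^ (p + 1) = 1 := by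
    rcases FiniteField.pow_dichotomy (by rw [ringChar.eq F p]; omega) h5 with h | h <;>
      rw [hF] at h <;> rw [h] at hMp
    · left
      rw [hNM, one_smul] at hMp
      exact (smul_right_injective _ h2 (add_right_cancel hMp)).symm
    · right
      have e : M ^ p = -M - (3 : F) • 1 := by
        refine smul_right_injective _ h2 ?_
        rw [hNM] at hMp
        show (2 : F) • M ^ p = (2 : F) • (-M - (3 : F) • 1)
        rw [eq_sub_of_add_eq hMp.symm]
        match_scalars <;> ring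
      rw [pow_succ, e]
      ext i j; fin_cases i <;> fin_cases j <;> simp [M, Matrix.mul_apply, Fin.sum_univ_two] <;> norm_num
  show ((((xs : SL(2, F)) * (ys * ys)) ^ (p ^ 2 - 1) : SL(2, F)) : Matrix (Fin 2) (Fin 2) F) = _
  rw [Matrix.SpecialLinearGroup.coe_pow, hcoe,
    show p ^ 2 - 1 = (p + 1) * (p - 1) by simpa using Nat.sq_sub_sq p 1]
  rcases hdvd with h | h
  · have hdet : IsUnit M := (Matrix.isUnit_iff_isUnit_det M).mpr (by
      rw [hMdef, Matrix.det_fin_two]; simp; norm_num)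
    have h1 : M ^ (p - 1) = 1 := hdet.mul_left_cancel (by
      rw [← pow_succ', show p - 1 + 1 = p by omega, h, mul_one])
    rw [mul_comm, pow_mul, h1, one_pow]; rfl
  · rw [pow_mul, h, one_pow]; rfl

end PSL

end Exclude

universe u

open Exclude in
theorem no_fpf_of_three_sq {G : Type u} [Group G] [Finite G] {S : Type*} [Group S] (D : Subgroup G)
    [D.Normal] (hD : IsPGroup 2 D) (f : G →* S) (hf : Function.Surjective f) (hker : f.ker = D)
    (hfpf : ∀ x : G, Odd (orderOf x) → x ≠ 1 → ∀ d ∈ D, x * d = d * x → d = 1)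
    {a b : S} (hab : a * b = b * a) (ha : a ^ 3 = 1) (hb : b ^ 3 = 1) (ha1 : a ≠ 1)
    (hb' : b ∉ Subgroup.zpowers a) : D = ⊥ :=
  eq_bot hD f hf hker hfpf fun _ _ _ r hr ht x => fpf_zero_three r hr ht hab ha hb ha1 hb' x

open Exclude in
theorem no_fpf_psl2_prime {G : Type u} [Group G] [Finite G] {F : Type*} [Field F] [Fintype F] {p K : ℕ}
    (hp : p.Prime) (hp7 : 7 ≤ p) (hK : p = 2 ^ K + 1 ∨ p + 1 = 2 ^ K) (hF : Fintype.card F = p)
    (D : Subgroup G) [D.Normal] (hD : IsPGroup 2 D)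
    (f : G →* Matrix.ProjectiveSpecialLinearGroup (Fin 2) F) (hf : Function.Surjective f)
    (hker : f.ker = D) (hfpf : ∀ x : G, Odd (orderOf x) → x ≠ 1 → ∀ d ∈ D, x * d = d * x → d = 1) :
    D = ⊥ := by
  classical
  haveI : Fact p.Prime := ⟨hp⟩
  haveI : CharP F p := charP_of_card_eq_prime hF
  have hK1 : 1 ≤ K := by
    rcases Nat.eq_zero_or_pos K with rfl | h
    · simp at hK; omega
    · exact h
  refine eq_bot hD f hf hker hfpf fun U _ _ r hr ht x => ?_
  refine fpf_zero_prime r hr ht (a := (xs : SL(2, F))) (b := (ys : SL(2, F))) xs_cube ys_cube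
    (mk_ne_one (i := 1) (j := 0) (by decide) (by simp [xs_coe]))
    (mk_ne_one (i := 1) (j := 0) (by decide) (by simp [ys_coe])) hp (by omega) hK1 hK
    (by rw [← QuotientGroup.mk_mul]; exact xy_pow (hp.odd_of_ne_two (by omega)))
    ?_ (by rw [← QuotientGroup.mk_mul, ← QuotientGroup.mk_mul]; exact w_pow hp7 hF) x
  rw [← QuotientGroup.mk_mul]
  refine mk_ne_one (i := 1) (j := 0) (by decide) ?_
  rw [Matrix.SpecialLinearGroup.coe_mul, xs_coe, ys_coe]
  have h2 : (2 : F) ≠ 0 := Ring.two_ne_zero (by rw [ringChar.eq F p]; omega)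
  simpa [Matrix.mul_apply, Fin.sum_univ_two, one_add_one_eq_two] using h2

end Cfsg.Agent.FpfModules86
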