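import Cfsg.Agent.Lib.FpfModules86Abelian
import Cfsg.Agent.Lib.FpfModules86Bilinear
import Cfsg.Agent.Lib.CoprimeAction

/-!
A normal 2-subgroup with a rank one quotient on which every element of odd order acts without fixed
points is elementary abelian.
-/

set_option autoImplicit false

namespace Cfsg.Agent.FpfModules86

open Finset
open scoped TensorProduct commutatorElement

universe u

variable {G : Type u} [Group G] {S : Type*} [Group S]

theorem exists_odd_preimage [Finite G] {D : Subgroup G} (hD : IsPGroup 2 D) (f : G →* S)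
    (hf : Function.Surjective f) (hker : f.ker = D) {s : S} (hs : Odd (orderOf s)) :
    ∃ x : G, f x = s ∧ orderOf x = orderOf s := by
  obtain ⟨x₀, rfl⟩ := hf s
  set r := orderOf (f x₀) with hr
  have hmem : x₀ ^ r ∈ D := by rw [← hker, MonoidHom.mem_ker, map_pow, pow_orderOf_eq_one]
  obtain ⟨j, hj⟩ := hD ⟨_, hmem⟩
  have hj' : (x₀ ^ r) ^ 2 ^ j = 1 := congrArg Subtype.val hj
  obtain ⟨c, hc⟩ := exists_pow_eq_self_of_coprime
    (x := f x₀) (n := 2 ^ j) (Nat.Coprime.pow_left j (Nat.coprime_two_left.mpr hs))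
  refine ⟨(x₀ ^ 2 ^ j) ^ c, by rw [map_pow, map_pow, hc], ?_⟩
  refine Nat.dvd_antisymm (orderOf_dvd_of_pow_eq_one ?_) ?_
  · rw [← pow_mul, ← pow_mul, show 2 ^ j * (c * r) = r * 2 ^ j * c by ring, pow_mul, pow_mul, hj', one_pow]
  · conv_lhs => rw [hr, ← hc]
    rw [← map_pow, ← map_pow]
    exact orderOf_map_dvd f _

/-- An abelian section of `D` as a module for the quotient. -/
theorem exists_rep [Finite G] {D : Subgroup G} [D.Normal] (hD : IsPGroup 2 D) (f : G →* S)
    (hf : Function.Surjective f) (hker : f.ker = D)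
    (hfpf : ∀ x : G, Odd (orderOf x) → x ≠ 1 → ∀ d ∈ D, x * d = d * x → d = 1)
    (A B : Subgroup G) [A.Normal] [B.Normal] (hBA : B ≤ A) (hAD : A ≤ D)
    (hcomm : ∀ d ∈ D, ∀ a ∈ A, d * a * d⁻¹ * a⁻¹ ∈ B) :
    ∃ (M : Type u) (_ : AddCommGroup M) (_ : Finite M) (r : S →* Module.End ℤ M) (p : A → M),
      Fpf r ∧ Function.Surjective p ∧ (∀ a b, p (a * b) = p a + p b) ∧
      (∀ a : A, p a = 0 ↔ (a : G) ∈ B) ∧ (∀ g a, r (f g) (p a) = p (MulAut.conjNormal g a)) ∧
      ∀ x : M, ∃ N : ℕ, 2 ^ N • x = 0 := by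
  classical
  set B' : Subgroup A := B.subgroupOf A with hB'
  haveI : B'.Normal := inferInstance
  letI : CommGroup (A ⧸ B') :=
    { (inferInstance : Group (A ⧸ B')) with
      mul_comm := fun a b => by
        induction a using QuotientGroup.induction_on with | _ a => ?_
        induction b using QuotientGroup.induction_on with | _ b => ?_
        rw [← QuotientGroup.mk_mul, ← QuotientGroup.mk_mul, eq_comm, QuotientGroup.eq, hB',
          Subgroup.mem_subgroupOf]
        have h := hcomm ((a : G)⁻¹) (inv_mem (hAD a.2)) ((b : G)⁻¹) (inv_mem b.2)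
        have e : (((b * a)⁻¹ * (a * b) : A) : G) = (a : G)⁻¹ * (b : G)⁻¹ * (a : G)⁻¹⁻¹ * (b : G)⁻¹⁻¹ := by
          simp [mul_assoc]
        rw [e]
        exact h }
  let p : A → Additive (A ⧸ B') := fun a => Additive.ofMul (a : A ⧸ B')
  have hpmul : ∀ a b, p (a * b) = p a + p b := fun a b => rfl
  have hp0 : ∀ a : A, p a = 0 ↔ (a : G) ∈ B := fun a => by
    show (a : A ⧸ B') = 1 ↔ _
    rw [QuotientGroup.eq_one_iff, hB', Subgroup.mem_subgroupOf]
  have hpsurj : Function.Surjective p := fun x => by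
    obtain ⟨a, ha⟩ := QuotientGroup.mk_surjective (Additive.toMul x)
    exact ⟨a, congrArg Additive.ofMul ha⟩
  let act : G → Module.End ℤ (Additive (A ⧸ B')) := fun g =>
    (MonoidHom.toAdditive (QuotientGroup.map B' B' (MulAut.conjNormal g).toMonoidHom (fun a ha => by
      rw [Subgroup.mem_comap, hB', Subgroup.mem_subgroupOf] at *
      simpa [MulAut.conjNormal_apply] using
        Subgroup.Normal.conj_mem inferInstance _ ha g))).toIntLinearMap
  have hact : ∀ g a, act g (p a) = p (MulAut.conjNormal g a) := fun g a => rfl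
  have hext : ∀ X Y : Module.End ℤ (Additive (A ⧸ B')), (∀ a, X (p a) = Y (p a)) → X = Y :=
    fun X Y h => LinearMap.ext fun x => by obtain ⟨a, rfl⟩ := hpsurj x; exact h a
  have hpeq : ∀ a b : A, (a : G)⁻¹ * b ∈ B → p a = p b := fun a b h => by
    show Additive.ofMul (a : A ⧸ B') = Additive.ofMul (b : A ⧸ B')
    rw [EmbeddingLike.apply_eq_iff_eq, QuotientGroup.eq, hB', Subgroup.mem_subgroupOf]
    simpa using h
  have hwd : ∀ g g', f g = f g' → act g = act g' := by
    intro g g' h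
    refine hext _ _ fun a => ?_
    rw [hact, hact]
    refine hpeq _ _ ?_
    have hd : g⁻¹ * g' ∈ D := by rw [← hker, MonoidHom.mem_ker, map_mul, map_inv, h, inv_mul_cancel]
    have h1 := Subgroup.Normal.conj_mem inferInstance _
      (Subgroup.Normal.conj_mem inferInstance _ (hcomm _ hd _ a.2) (a : G)⁻¹) g
    simp only [MulAut.conjNormal_apply]
    convert h1 using 1
    simp [mul_assoc]
  let r : S →* Module.End ℤ (Additive (A ⧸ B')) :=
    { toFun := fun s => act (Function.surjInv hf s)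
      map_one' := by
        rw [hwd _ 1 (by rw [Function.surjInv_eq hf, map_one])]
        exact hext _ _ fun a => by rw [hact, map_one]; rfl
      map_mul' := fun s t => by
        rw [hwd _ (Function.surjInv hf s * Function.surjInv hf t)
          (by rw [map_mul, Function.surjInv_eq hf, Function.surjInv_eq hf, Function.surjInv_eq hf])]
        exact hext _ _ fun a => by
          rw [hact, map_mul, Module.End.mul_apply, hact, hact]; rfl }
  have hr : ∀ g a, r (f g) (p a) = p (MulAut.conjNormal g a) := fun g a => by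
    show act (Function.surjInv hf (f g)) (p a) = _
    rw [hwd _ g (Function.surjInv_eq hf _), hact]
  have htor : ∀ x : Additive (A ⧸ B'), ∃ N : ℕ, 2 ^ N • x = 0 := fun x => by
    obtain ⟨a, rfl⟩ := hpsurj x
    obtain ⟨N, hN⟩ := hD ⟨a, hAD a.2⟩
    refine ⟨N, ?_⟩
    show Additive.ofMul ((a : A ⧸ B') ^ 2 ^ N) = 0
    rw [← QuotientGroup.mk_pow, show a ^ 2 ^ N = 1 from Subtype.ext (by
      have := congrArg Subtype.val hN; simpa using this)]
    rfl
  refine ⟨_, inferInstance, inferInstance, r, p, ?_, hpsurj, hpmul, hp0, hr, htor⟩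
  intro s hs hs1
  obtain ⟨x, rfl, hx⟩ := exists_odd_preimage hD f hf hker hs
  refine hext _ _ fun a => ?_
  rw [LinearMap.sum_apply, LinearMap.zero_apply]
  set u := ∑ i ∈ range (orderOf (f x)), r (f x ^ i) (p a) with hu
  have hfix : r (f x) u = u := by
    rw [hu, map_sum]
    obtain ⟨j, hj⟩ := hs
    have h : ∀ i, r (f x) (r (f x ^ i) (p a)) = r (f x ^ (i + 1)) (p a) := fun i => by
      rw [← Module.End.mul_apply, ← map_mul, ← pow_succ']
    simp only [h]
    rw [hj, Finset.sum_range_succ, Finset.sum_range_succ', ← hj, pow_orderOf_eq_one, pow_zero]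
  obtain ⟨b, hb⟩ := hpsurj u
  have hbB : (x * (b : G) * x⁻¹)⁻¹ * b ∈ B := by
    have h : p (MulAut.conjNormal x b) = p b := by rw [← hr, hb, hfix]
    have h' := (EmbeddingLike.apply_eq_iff_eq Additive.ofMul).mp h
    rw [QuotientGroup.eq, hB', Subgroup.mem_subgroupOf] at h'
    simpa [MulAut.conjNormal_apply] using h'
  obtain ⟨c, hc, hcb⟩ := CoprimeAction.exists_fixed_mem_coset_zpowers (a := x) (D := B)
    (by rw [Subgroup.normalizer_eq_top]; trivial)
    (by
      obtain ⟨N, hN⟩ := IsPGroup.iff_card.mp hD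
      obtain ⟨i, -, hi⟩ := (Nat.dvd_prime_pow Nat.prime_two).mp
        (hN ▸ Subgroup.card_dvd_of_le (hBA.trans hAD))
      rw [hi]
      exact Nat.Coprime.pow_right _ (Nat.coprime_two_right.mpr (hx ▸ hs)))
    (b : G) (by
      have h1 := Subgroup.Normal.conj_mem inferInstance _ (inv_mem hbB) ((b : G)⁻¹ * (b : G))
      have h2 : (b : G)⁻¹ * x * b * x⁻¹ = ((x * (b : G) * x⁻¹)⁻¹ * b)⁻¹ := by simp [mul_assoc]
      rw [h2]
      exact inv_mem hbB)
  have hcA : c ∈ A := by
    have := mul_mem b.2 (hBA hcb)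
    rwa [mul_inv_cancel_left] at this
  have hc1 : c = 1 := hfpf x (hx ▸ hs) (fun h => hs1 (by rw [h, map_one])) c (hAD hcA) hc
  rw [← hb, hp0]
  rw [hc1, mul_one] at hcb
  simpa using inv_mem hcb

/-- An element of an elementary abelian group that dies in every scalar extension is zero. -/
theorem eq_zero_of_one_tmul {k : Type*} [Field k] [CharP k 2] {U : Type*} [AddCommGroup U]
    (h2 : ∀ u : U, 2 • u = 0) {u : U} (h : (1 : k) ⊗ₜ[ℤ] u = 0) : u = 0 := by
  letI : Module (ZMod 2) U := AddCommGroup.zmodModule h2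
  by_contra hu
  obtain ⟨i, hi⟩ := not_forall.mp
    ((Module.Free.chooseBasis (ZMod 2) U).forall_coord_eq_zero_iff.not.mpr hu)
  let g : U →ₗ[ℤ] k :=
    ((ZMod.castHom (dvd_refl 2) k).toAddMonoidHom.comp
      ((Module.Free.chooseBasis (ZMod 2) U).coord i).toAddMonoidHom).toIntLinearMap
  have h' := congrArg (g.liftBaseChange k) h
  rw [map_zero, LinearMap.liftBaseChange_tmul, one_smul] at h'
  exact hi ((ZMod.castHom (dvd_refl 2) k).injective (h'.trans (map_zero _).symm))

theorem elementary [Finite G] [Finite S] {F : Type*} [Field F] [Finite F] [CharP F 2] {n : ℕ}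
    (Δ : Data S F n) (hex : Δ.Extreme (AlgebraicClosure (ZMod 2))) (hF : 4 ≤ Nat.card F)
    (D : Subgroup G) [D.Normal] (hD : IsPGroup 2 D) (f : G →* S)
    (hf : Function.Surjective f) (hker : f.ker = D)
    (hfpf : ∀ x : G, Odd (orderOf x) → x ≠ 1 → ∀ d ∈ D, x * d = d * x → d = 1) :
    IsMulCommutative D ∧ ∀ d ∈ D, d * d = 1 := by
  classical
  have hDD : ⁅D, D⁆ ≤ D := Subgroup.commutator_le_right D D
  have hND : ⁅⁅D, D⁆, D⁆ ≤ ⁅D, D⁆ := Subgroup.commutator_mono hDD le_rfl
  obtain ⟨V, _, _, rV, pV, fV, sV, mV, zV, eV, tV⟩ := exists_rep hD f hf hker hfpf D ⁅D, D⁆ hDD le_rfl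
    (fun d hd a ha => Subgroup.commutator_mem_commutator hd ha)
  obtain ⟨Z, _, _, rZ, pZ, fZ, sZ, mZ, zZ, eZ, tZ⟩ := exists_rep hD f hf hker hfpf ⁅D, D⁆ ⁅⁅D, D⁆, D⁆
    hND hDD (fun d hd a ha => by
      rw [Subgroup.commutator_comm]
      exact Subgroup.commutator_mem_commutator hd ha)
  have hV2 := Δ.smul_two_eq_zero hF tV rV fV
  have hZ2 := Δ.smul_two_eq_zero hF tZ rZ fZ
  have hsq : ∀ d ∈ D, d * d ∈ ⁅D, D⁆ := fun d hd => by
    have h := hV2 (pV ⟨d, hd⟩)
    rw [two_nsmul, ← mV] at h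
    exact (zV _).mp h
  -- the commutator pairing
  let q : D → D → Z := fun a b => pZ ⟨⁅(a : G), (b : G)⁆, Subgroup.commutator_mem_commutator a.2 b.2⟩
  have hqc : ∀ a a' b b' : D, (a : G) * (⁅(a' : G), (b : G)⁆) * (a : G)⁻¹ * ⁅(b' : G), (b : G)⁆ =
      ⁅(a : G), ⁅(a' : G), (b : G)⁆⁆ * ⁅(a' : G), (b : G)⁆ * ⁅(b' : G), (b : G)⁆ := fun a a' b b' => by
    simp [commutatorElement_def, mul_assoc]
  have hqN : ∀ (a : D) (c : (⁅D, D⁆ : Subgroup G)), pZ (MulAut.conjNormal (a : G) c) = pZ c := by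
    intro a c
    have h : pZ ((MulAut.conjNormal (a : G) c) * c⁻¹) = 0 := by
      rw [zZ]
      rw [Subgroup.commutator_comm]
      simpa [MulAut.conjNormal_apply, commutatorElement_def] using
        Subgroup.commutator_mem_commutator a.2 c.2
    have := mZ ((MulAut.conjNormal (a : G) c) * c⁻¹) c
    rw [inv_mul_cancel_right, h, zero_add] at this
    exact this
  have hq1 : ∀ a a' b, q (a * a') b = q a b + q a' b := by
    intro a a' b
    rw [add_comm (q a b), show q a' b + q a b = pZ (MulAut.conjNormal (a : G)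
      ⟨⁅(a' : G), (b : G)⁆, Subgroup.commutator_mem_commutator a'.2 b.2⟩) + q a b by rw [hqN], ← mZ]
    refine congrArg pZ (Subtype.ext ?_)
    simp [commutatorElement_def, MulAut.conjNormal_apply, mul_assoc]
  have hq2 : ∀ a b b', q a (b * b') = q a b + q a b' := by
    intro a b b'
    rw [show q a b + q a b' = q a b + pZ (MulAut.conjNormal (b : G)
      ⟨⁅(a : G), (b' : G)⁆, Subgroup.commutator_mem_commutator a.2 b'.2⟩) by rw [hqN], ← mZ]
    refine congrArg pZ (Subtype.ext ?_)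
    simp [commutatorElement_def, MulAut.conjNormal_apply, mul_assoc]
  have hqk1 : ∀ a b, pV a = 0 → q a b = 0 := fun a b h => by
    rw [zZ]; exact Subgroup.commutator_mem_commutator ((zV a).mp h) b.2
  have hqk2 : ∀ a b, pV b = 0 → q a b = 0 := fun a b h => by
    rw [zZ, Subgroup.commutator_comm]
    exact Subgroup.commutator_mem_commutator a.2 ((zV b).mp h)
  have hpVw : ∀ a a' : D, pV a = pV a' → pV (a⁻¹ * a') = 0 := fun a a' h => by
    have h1 := mV a (a⁻¹ * a')
    rw [mul_inv_cancel_left, h] at h1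
    exact add_left_cancel (h1.symm.trans (add_zero _).symm)
  have hwd : ∀ a a' b b', pV a = pV a' → pV b = pV b' → q a b = q a' b' := by
    intro a a' b b' ha hb
    have h1 := hq1 a (a⁻¹ * a') b'
    rw [mul_inv_cancel_left, hqk1 _ _ (hpVw a a' ha), add_zero] at h1
    have h2 := hq2 a b (b⁻¹ * b')
    rw [mul_inv_cancel_left, hqk2 _ _ (hpVw b b' hb), add_zero] at h2
    rw [h1, h2]
  set sec := Function.surjInv sV with hsec
  have hs' : ∀ x, pV (sec x) = x := Function.surjInv_eq sV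
  let β₀ : V →+ V →+ Z := AddMonoidHom.mk' (fun x => AddMonoidHom.mk' (fun y => q (sec x) (sec y))
      (fun y y' => by
        rw [← hq2]; exact hwd _ _ _ _ rfl (by rw [mV, hs', hs', hs'])))
    (fun x x' => AddMonoidHom.ext fun y => by
      simp only [AddMonoidHom.mk'_apply, AddMonoidHom.add_apply]
      rw [← hq1]; exact hwd _ _ _ _ (by rw [mV, hs', hs', hs']) rfl)
  have hβ₀ : ∀ a b, β₀ (pV a) (pV b) = q a b := fun a b => hwd _ _ _ _ (hs' _) (hs' _)
  let βl : V →ₗ[ℤ] V →ₗ[ℤ] Z := (AddMonoidHom.mk' (fun x => (β₀ x).toIntLinearMap)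
    (fun x y => LinearMap.ext fun z => by simp)).toIntLinearMap
  have hequiv : ∀ (s : S) x y, βl (rV s x) (rV s y) = rZ s (βl x y) := by
    intro s x y
    obtain ⟨g, rfl⟩ := hf s
    obtain ⟨a, rfl⟩ := sV x
    obtain ⟨b, rfl⟩ := sV y
    rw [eV, eV]
    show β₀ _ _ = rZ (f g) (β₀ _ _)
    rw [hβ₀, hβ₀, eZ]
    refine congrArg pZ (Subtype.ext ?_)
    simp [MulAut.conjNormal_apply, commutatorElement_def, mul_assoc]
  let k := AlgebraicClosure (ZMod 2)
  haveI : CharP k 2 := charP_of_injective_algebraMap (algebraMap (ZMod 2) k).injective 2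
  haveI : Module.Finite ℤ V := Module.Finite.of_finite
  haveI : Module.Finite ℤ Z := Module.Finite.of_finite
  let πV : S →* Module.End k (k ⊗[ℤ] V) :=
    (Module.End.baseChangeHom ℤ k V).toRingHom.toMonoidHom.comp rV
  let πZ : S →* Module.End k (k ⊗[ℤ] Z) :=
    (Module.End.baseChangeHom ℤ k Z).toRingHom.toMonoidHom.comp rZ
  let β : (k ⊗[ℤ] V) →ₗ[k] (k ⊗[ℤ] V) →ₗ[k] (k ⊗[ℤ] Z) :=
    ((LinearMap.baseChangeHom ℤ k V Z).comp βl).liftBaseChange k
  have hβ : β = 0 := Δ.bilin_eq_zero hex _ (k ⊗[ℤ] V) (k ⊗[ℤ] V) (k ⊗[ℤ] Z) le_rfl πV πV πZ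
    (fV.comp _) (fV.comp _) (fZ.comp _) β (fun s x y => by
      induction x using TensorProduct.induction_on with
      | zero => simp
      | add x x' hx hx' => simp [hx, hx']
      | tmul c x =>
        induction y using TensorProduct.induction_on with
        | zero => simp
        | add y y' hy hy' => simp [hy, hy']
        | tmul d y =>
          show β ((rV s).baseChange k (c ⊗ₜ x)) ((rV s).baseChange k (d ⊗ₜ y)) =
            (rZ s).baseChange k (β (c ⊗ₜ x) (d ⊗ₜ y))
          simp [β, LinearMap.baseChangeHom, hequiv, TensorProduct.smul_tmul'])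
  have hq0 : ∀ a b, q a b = 0 := fun a b => by
    refine eq_zero_of_one_tmul (k := k) hZ2 ?_
    have h := LinearMap.congr_fun (LinearMap.congr_fun hβ ((1 : k) ⊗ₜ[ℤ] pV a)) ((1 : k) ⊗ₜ[ℤ] pV b)
    simp [β] at h
    rwa [show βl (pV a) (pV b) = q a b from hβ₀ a b] at h
  have hle : ⁅D, D⁆ ≤ ⁅⁅D, D⁆, D⁆ := by
    rw [Subgroup.commutator_le]
    intro a ha b hb
    exact (zZ _).mp (hq0 ⟨a, ha⟩ ⟨b, hb⟩)
  haveI : Group.IsNilpotent D := hD.isNilpotent
  obtain ⟨N, hN⟩ := (Subgroup.isNilpotent_iff_lowerCentralSeries D).mp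
    (inferInstance : Group.IsNilpotent D)
  have hlcs : ∀ i, ⁅D, D⁆ ≤ D.lowerCentralSeries i := by
    intro i
    induction i with
    | zero => exact hDD
    | succ i ih => exact hle.trans (Subgroup.commutator_mono ih le_rfl)
  have h1 : ⁅D, D⁆ = ⊥ := eq_bot_iff.mpr ((hlcs N).trans hN.le)
  refine ⟨⟨⟨fun a b => Subtype.ext ?_⟩⟩, fun d hd => ?_⟩
  · have h := Subgroup.commutator_mem_commutator a.2 b.2
    rw [h1, Subgroup.mem_bot, commutatorElement_eq_one_iff_mul_comm] at h
    exact h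
  · simpa [h1] using hsq d hd

end Cfsg.Agent.FpfModules86
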