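import Cfsg.Agent.Lib.FpfModules86Group

/-!
A normal 2-subgroup with quotient `SL(2, 2^n)` on which every element of odd order acts without fixed
points is elementary abelian.
-/

set_option autoImplicit false

namespace Cfsg.Agent.FpfModules86

open Finset Matrix
open scoped MatrixGroups

/-- Two distinct ring homomorphisms are linearly independent. -/
theorem twist_indep {F k : Type*} [Field F] [Field k] {Ψ₁ Ψ₂ : F →+* k} (h : Ψ₁ ≠ Ψ₂) {c₁ c₂ : k}
    (he : ∀ x, Ψ₁ x * c₁ + Ψ₂ x * c₂ = 0) : c₁ = 0 ∧ c₂ = 0 := by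
  have h1 := he 1
  rw [map_one, map_one, one_mul, one_mul] at h1
  have hc : c₁ = 0 := by
    by_contra hc
    refine h (RingHom.ext fun x => mul_right_cancel₀ hc ?_)
    linear_combination he x - Ψ₂ x * h1
  exact ⟨hc, by simpa [hc] using h1⟩

theorem exists_unit_ne_one {F : Type*} [Field F] [Finite F] (hF : 4 ≤ Nat.card F) :
    ∃ k : Fˣ, k ≠ 1 := by
  by_contra h
  push Not at h
  have hsub : Subsingleton Fˣ := ⟨fun a b => (h a).trans (h b).symm⟩
  have := Nat.card_units F
  rw [Nat.card_of_subsingleton (1 : Fˣ)] at this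
  omega

namespace Two

variable {F : Type*} [Field F] [CharP F 2]

/-- The upper unitriangular element. -/
def ue (x : F) : SL(2, F) := ⟨!![1, x; 0, 1], by simp⟩

/-- The diagonal element. -/
def uh (k : Fˣ) : SL(2, F) := ⟨!![(k : F), 0; 0, (k : F)⁻¹], by simp⟩

/-- The Weyl element. -/
def us : SL(2, F) := ⟨!![0, 1; 1, 0], by simp [CharTwo.neg_eq]⟩

/-- An element of order 3. -/
def uy : SL(2, F) := ⟨!![1, 1; 1, 0], by simp [CharTwo.neg_eq]⟩

@[simp] theorem ue_coe (x : F) : (ue x : Matrix (Fin 2) (Fin 2) F) = !![1, x; 0, 1] := rfl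

@[simp] theorem uh_coe (k : Fˣ) :
    (uh k : Matrix (Fin 2) (Fin 2) F) = !![(k : F), 0; 0, (k : F)⁻¹] := rfl

@[simp] theorem us_coe : ((us : SL(2, F)) : Matrix (Fin 2) (Fin 2) F) = !![0, 1; 1, 0] := rfl

@[simp] theorem uy_coe : ((uy : SL(2, F)) : Matrix (Fin 2) (Fin 2) F) = !![1, 1; 1, 0] := rfl

theorem ue_mul (x y : F) : ue (x + y) = ue x * ue y := by
  ext i j
  fin_cases i <;> fin_cases j <;> simp [Matrix.mul_apply, Fin.sum_univ_two, add_comm]

theorem ue_zero : ue (0 : F) = 1 := by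
  ext i j
  fin_cases i <;> fin_cases j <;> simp [ue]

theorem uh_mul (k l : Fˣ) : uh (k * l) = uh k * uh l := by
  ext i j
  fin_cases i <;> fin_cases j <;> simp [Matrix.mul_apply, Fin.sum_univ_two, mul_comm]

theorem uh_conj (k : Fˣ) (x : F) : uh k * ue x = ue ((k : F) ^ 2 * x) * uh k := by
  have := k.ne_zero
  ext i j
  fin_cases i <;> fin_cases j <;>
    simp [Matrix.mul_apply, Fin.sum_univ_two] <;> field_simp

/-- The unipotent subgroup as an additive group. -/
def ueHom : Multiplicative F →* SL(2, F) where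
  toFun x := ue (Multiplicative.toAdd x)
  map_one' := ue_zero
  map_mul' x y := ue_mul _ _

/-- The torus. -/
def uhHom : Fˣ →* SL(2, F) where
  toFun := uh
  map_one' := by ext i j; fin_cases i <;> fin_cases j <;> simp [uh]
  map_mul' := uh_mul

@[simp] theorem ueHom_apply (x : Multiplicative F) : ueHom x = ue (Multiplicative.toAdd x) := rfl

@[simp] theorem uhHom_apply (k : Fˣ) : uhHom k = uh k := rfl

/-- The matrix of an element. -/
def toMat : SL(2, F) →* Matrix (Fin 2) (Fin 2) F where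
  toFun g := (g : Matrix (Fin 2) (Fin 2) F)
  map_one' := Matrix.SpecialLinearGroup.coe_one
  map_mul' := Matrix.SpecialLinearGroup.coe_mul

@[simp] theorem toMat_apply (g : SL(2, F)) : toMat g = (g : Matrix (Fin 2) (Fin 2) F) := rfl

theorem decomp (g : SL(2, F)) : (∃ t ∈ (ueHom (F := F)).range, ∃ k, g = t * uh k) ∨
    (∃ t ∈ (ueHom (F := F)).range, ∃ t' ∈ (ueHom (F := F)).range, ∃ k, g = t * us * uh k * t') := by
  have hdet : g 0 0 * g 1 1 + g 0 1 * g 1 0 = 1 := by
    have h := g.2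
    rw [Matrix.det_fin_two, CharTwo.sub_eq_add] at h
    exact h
  by_cases hc : g 1 0 = 0
  · rw [hc, mul_zero, add_zero] at hdet
    have ha : g 0 0 ≠ 0 := left_ne_zero_of_mul_eq_one hdet
    refine Or.inl ⟨_, ⟨Multiplicative.ofAdd (g 0 1 * g 0 0), rfl⟩, Units.mk0 _ ha, ?_⟩
    ext i j
    fin_cases i <;> fin_cases j <;>
      simp [Matrix.mul_apply, Fin.sum_univ_two, hc]
    · field_simp
    · exact eq_inv_of_mul_eq_one_right hdet
  · refine Or.inr ⟨_, ⟨Multiplicative.ofAdd (g 0 0 / g 1 0), rfl⟩, _,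
      ⟨Multiplicative.ofAdd (g 1 1 / g 1 0), rfl⟩, Units.mk0 _ hc, ?_⟩
    ext i j
    fin_cases i <;> fin_cases j <;>
      simp [Matrix.mul_apply, Fin.sum_univ_two] <;> field_simp
    grind

theorem uy_cube : (uy : SL(2, F)) ^ 3 = 1 := by
  ext i j
  fin_cases i <;> fin_cases j <;>
    simp [pow_succ, Matrix.mul_apply, Fin.sum_univ_two, CharTwo.add_self_eq_zero]

theorem uy_ne : (uy : SL(2, F)) ≠ 1 := fun h => by
  have h' := congrArg (fun g : SL(2, F) => g 1 1) h
  simp at h'

theorem order_uy : orderOf (uy : SL(2, F)) = 3 := by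
  haveI : Fact (Nat.Prime 3) := ⟨by norm_num⟩
  exact orderOf_eq_prime uy_cube uy_ne

theorem torus_norm : ∀ k : Fˣ, ∀ t ∈ (ueHom (F := F)).range,
    uhHom k * t * (uhHom k)⁻¹ ∈ (ueHom (F := F)).range := by
  rintro k _ ⟨x, rfl⟩
  refine ⟨Multiplicative.ofAdd ((k : F) ^ 2 * Multiplicative.toAdd x), ?_⟩
  rw [ueHom_apply, ueHom_apply, uhHom_apply, toAdd_ofAdd, eq_mul_inv_iff_mul_eq]
  exact (uh_conj k _).symm

theorem ue_sq : ∀ t ∈ (ueHom (F := F)).range, t ^ 2 = 1 := by
  rintro _ ⟨x, rfl⟩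
  rw [ueHom_apply, pow_two, ← ue_mul, CharTwo.add_self_eq_zero, ue_zero]

/-- `SL(2, 2^n)` as a rank one group. -/
noncomputable def data [Finite F] (hF : 4 ≤ Nat.card F) : Data SL(2, F) F 2 where
  ρ := toMat
  T := ueHom.range
  pT := fun t => ⟨1, Subtype.ext (by simpa using ue_sq _ t.2)⟩
  h := uhHom
  h_norm := torus_norm
  ω := MonoidHom.id _
  ω_bij := Function.bijective_id
  s := us
  z := 0
  l := 1
  z_ne_l := by decide
  d k := ![(k : F), (k : F)⁻¹]
  h_diag k := by
    ext i j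
    fin_cases i <;> fin_cases j <;> simp
  d_z k := rfl
  d_l k := rfl
  T_col := by
    rintro _ ⟨x, rfl⟩ i
    fin_cases i <;> simp
  T_row := by
    rintro _ ⟨x, rfl⟩ j
    fin_cases j <;> simp
  s_col i := by fin_cases i <;> simp
  dec := decomp
  e := ueHom
  e_mem x := ⟨x, rfl⟩
  e_zl x := by simp
  e_conj k x := by
    show uh k * ue x * (uh k)⁻¹ = ue _
    rw [mul_inv_eq_iff_eq_mul]
    exact uh_conj k x
  y := uy
  y_odd := by rw [order_uy]; decide
  y_ne := uy_ne
  y_col i h0 h3 := by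
    rw [order_uy] at h3
    interval_cases i <;> simp [pow_succ, Matrix.mul_apply, Fin.sum_univ_two]
  y_sum x := ⟨us * ue x, 0, by
    rw [order_uy]
    simp [Multiset.range_succ, pow_succ, Matrix.mul_apply, Fin.sum_univ_two, ← add_assoc, CharTwo.add_self_eq_zero]
    simp only [← Multiset.singleton_add]
    abel⟩
  rows := ⟨![1, us], by simp [Matrix.det_fin_two, us]⟩
  colsT := ⟨![1, ue 1], fun i => by
      fin_cases i
      · exact ⟨1, map_one _⟩
      · exact ⟨Multiplicative.ofAdd 1, rfl⟩,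
    by simp [Matrix.det_fin_two, ue]⟩
  d_ne i := by
    obtain ⟨k, hk⟩ := exists_unit_ne_one hF
    refine ⟨k, ?_⟩
    fin_cases i <;> simpa using hk

theorem data_extreme [Finite F] (hF : 4 ≤ Nat.card F) {k : Type*} [Field k] :
    (data (F := F) hF).Extreme k := by
  intro Ψ₁ Ψ₂ h12 B hB
  have c0 : ∀ (Ψ : F →+* k) (x : F), ((data hF).ρ (ue x)).map Ψ *ᵥ Pi.single 0 1 = Pi.single 0 1 := by
    intro Ψ x; funext i; fin_cases i <;> simp [data]
  have c1 : ∀ (Ψ : F →+* k) (x : F), ((data hF).ρ (ue x)).map Ψ *ᵥ Pi.single 1 1 =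
      Pi.single 1 1 + Ψ x • Pi.single 0 1 := by
    intro Ψ x; funext i; fin_cases i <;> simp [data]
  have h := fun x i j => hB _ ⟨Multiplicative.ofAdd x, rfl⟩ (Pi.single i 1) (Pi.single j 1)
  have h00 : B (Pi.single 0 1) (Pi.single 0 1) = 0 := by
    have h' := h 1 0 1
    simp only [ueHom, MonoidHom.coe_mk, OneHom.coe_mk, toAdd_ofAdd] at h'
    rw [c0, c1] at h'
    simpa using h'
  have h01 := twist_indep h12 (c₁ := B (Pi.single 0 1) (Pi.single 1 1))
    (c₂ := B (Pi.single 1 1) (Pi.single 0 1)) fun x => by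
      have h' := h x 1 1
      simp only [ueHom, MonoidHom.coe_mk, OneHom.coe_mk, toAdd_ofAdd] at h'
      rw [c1, c1] at h'
      simp [h00] at h'
      linear_combination h'
  intro i j hij
  fin_cases i <;> fin_cases j
  · exact h00
  · exact h01.1
  · exact h01.2
  · simp [data] at hij

end Two

universe u

theorem elementary_sl2 {G : Type u} [Group G] [Finite G] {F : Type*} [Field F] [Finite F] [CharP F 2]
    (hF : 4 ≤ Nat.card F) (D : Subgroup G) [D.Normal] (hD : IsPGroup 2 D)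
    (f : G →* SL(2, F)) (hf : Function.Surjective f) (hker : f.ker = D)
    (hfpf : ∀ x : G, Odd (orderOf x) → x ≠ 1 → ∀ d ∈ D, x * d = d * x → d = 1) :
    IsMulCommutative D ∧ ∀ d ∈ D, d * d = 1 :=
  elementary (Two.data hF) (Two.data_extreme hF) hF D hD f hf hker hfpf

theorem elementary_psl2 {G : Type u} [Group G] [Finite G] {F : Type*} [Field F] [Fintype F] [CharP F 2]
    (hF : 4 ≤ Nat.card F) (D : Subgroup G) [D.Normal] (hD : IsPGroup 2 D)
    (f : G →* Matrix.ProjectiveSpecialLinearGroup (Fin 2) F) (hf : Function.Surjective f)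
    (hker : f.ker = D)
    (hfpf : ∀ x : G, Odd (orderOf x) → x ≠ 1 → ∀ d ∈ D, x * d = d * x → d = 1) :
    IsMulCommutative D ∧ ∀ d ∈ D, d * d = 1 := by
  have hbot : Subgroup.center SL(2, F) = ⊥ := by
    rw [eq_bot_iff]
    intro g hg
    rw [Subgroup.mem_bot]
    obtain ⟨r, hr, he⟩ := Matrix.SpecialLinearGroup.mem_center_iff.mp hg
    have hr1 : r = 1 := by
      rw [Fintype.card_fin] at hr
      exact (CharTwo.sq_injective (R := F)) (by simpa using hr)
    apply Subtype.ext
    rw [← he, hr1]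
    simp
  let e : SL(2, F) ≃* Matrix.ProjectiveSpecialLinearGroup (Fin 2) F :=
    MulEquiv.ofBijective (QuotientGroup.mk' _)
      ⟨fun a b hab => by
        have h := QuotientGroup.eq.mp hab
        rw [hbot, Subgroup.mem_bot] at h
        exact inv_mul_eq_one.mp h, QuotientGroup.mk'_surjective _⟩
  exact elementary_sl2 hF D hD (e.symm.toMonoidHom.comp f) (e.symm.surjective.comp hf)
    (by rw [← hker]; ext x; simp) hfpf

end Cfsg.Agent.FpfModules86
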