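import Mathlib
import Cfsg.Agent.S3357
import Cfsg.Agent.Lib.FpfPairs

/-!
Fixed-point-free representations over an algebraic closure of the rationals from fixed-point-free
actions on finite groups.
-/

set_option autoImplicit false

namespace Cfsg.Agent.FpfRep

open FpfPairs

/-- Turn a matrix representation into one by endomorphisms. -/
theorem exists_end_rep {G : Type*} [Group G] {n : ℕ} {ρ : G →* GL (Fin n) (AlgebraicClosure ℚ)}
    (hn : 0 < n) (hfpf : ∀ g : G, g ≠ 1 → ∀ v : Fin n → AlgebraicClosure ℚ,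
      ((ρ g : GL (Fin n) (AlgebraicClosure ℚ)) : Matrix (Fin n) (Fin n) (AlgebraicClosure ℚ)).mulVec v = v
        → v = 0) :
    ∃ ψ : G →* Module.End (AlgebraicClosure ℚ) (Fin n → AlgebraicClosure ℚ), IsFPFRep ψ := by
  refine ⟨((Matrix.toLinAlgEquiv' : Matrix (Fin n) (Fin n) (AlgebraicClosure ℚ) ≃ₐ[AlgebraicClosure ℚ]
    Module.End (AlgebraicClosure ℚ) (Fin n → AlgebraicClosure ℚ)).toAlgHom.toMonoidHom).comp
      ((Units.coeHom _).comp ρ), ?_, ?_⟩
  · exact ⟨⟨0, fun _ => 1, fun e => zero_ne_one (congrFun e ⟨0, hn⟩)⟩⟩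
  · intro g hg v hv
    exact hfpf g hg v (by simpa using hv)

/-- A fixed-point-free action on a non-trivial finite group lifts to characteristic zero. -/
theorem exists_rep_of_action {G K : Type*} [Group G] [Finite G] [Group K] [Finite K] [Nontrivial K]
    [Nontrivial G] (f : G →* MulAut K) (hfpf : ∀ g : G, g ≠ 1 → ∀ k : K, f g k = k → k = 1) :
    ∃ (n : ℕ) (ψ : G →* Module.End (AlgebraicClosure ℚ) (Fin n → AlgebraicClosure ℚ)), IsFPFRep ψ := by
  classical
  let L := SemidirectProduct K G f
  haveI : Finite L := Finite.of_equiv _ SemidirectProduct.equivProd.symm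
  set K' : Subgroup L := (SemidirectProduct.inl : K →* L).range with hK'
  set H : Subgroup L := (SemidirectProduct.inr : G →* L).range with hH
  haveI : K'.Normal := by
    rw [hK', SemidirectProduct.range_inl_eq_ker_rightHom]; infer_instance
  have hK : K' ≠ ⊥ := by
    intro e
    obtain ⟨k, hk⟩ := exists_ne (1 : K)
    have : (SemidirectProduct.inl k : L) ∈ K' := ⟨k, rfl⟩
    rw [e, Subgroup.mem_bot] at this
    exact hk (SemidirectProduct.inl_injective (this.trans (map_one _).symm))
  have hH' : H ≠ ⊥ := by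
    intro e
    obtain ⟨g, hg⟩ := exists_ne (1 : G)
    have : (SemidirectProduct.inr g : L) ∈ H := ⟨g, rfl⟩
    rw [e, Subgroup.mem_bot] at this
    exact hg (SemidirectProduct.inr_injective (this.trans (map_one _).symm))
  have hc : Subgroup.IsComplement' K' H := by
    refine Subgroup.isComplement'_of_card_mul_and_disjoint ?_ ?_
    · rw [← Nat.card_congr (MonoidHom.ofInjective SemidirectProduct.inl_injective).toEquiv,
        ← Nat.card_congr (MonoidHom.ofInjective SemidirectProduct.inr_injective).toEquiv,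
        Nat.card_congr SemidirectProduct.equivProd, Nat.card_prod]
    · rw [disjoint_iff, eq_bot_iff]
      rintro _ ⟨⟨k, rfl⟩, ⟨g, hg⟩⟩
      have h1 := congrArg SemidirectProduct.right hg
      simp only [SemidirectProduct.right_inl, SemidirectProduct.right_inr] at h1
      rw [Subgroup.mem_bot, ← hg, h1, map_one]
  have hfix : ∀ h ∈ H, h ≠ 1 → K' ⊓ Subgroup.centralizer ({h} : Set L) = ⊥ := by
    rintro _ ⟨g, rfl⟩ hg
    rw [eq_bot_iff]
    rintro _ ⟨⟨k, rfl⟩, hk⟩
    have e := Subgroup.mem_centralizer_iff.1 hk _ rfl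
    have h2 : (SemidirectProduct.inl (f g k) : L) = SemidirectProduct.inl k := by
      rw [SemidirectProduct.inl_aut, e, mul_assoc, ← map_mul, mul_inv_cancel, map_one, mul_one]
    have hg1 : g ≠ 1 := fun e => hg (by rw [e, map_one])
    rw [Subgroup.mem_bot, hfpf g hg1 k (SemidirectProduct.inl_injective h2), map_one]
  obtain ⟨V, hVK, hV, hVc, hHV⟩ := FrobeniusFPF.exists_abelian_invariant hc hK hfix
  obtain ⟨p, hp, hpV⟩ := Nat.exists_prime_and_dvd (n := Nat.card V) (fun e => hV (Subgroup.card_eq_one.1 e))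
  have := Fact.mk hp
  have eG : G ≃* H := MonoidHom.ofInjective SemidirectProduct.inr_injective
  have hcop : ¬ p ∣ Nat.card G := by
    intro hpG
    rw [Nat.card_congr eG.toEquiv] at hpG
    exact hp.ne_one (Nat.eq_one_of_dvd_coprimes (FrobeniusFPF.coprime_of_fpf hc hK hH' hfix) hpG
      (hpV.trans (Subgroup.card_dvd_of_le hVK)))
  haveI := hVc
  letI := FrobeniusFPF.conjAction H V hHV
  let _ : CommGroup V := { (inferInstance : Group V) with mul_comm := fun a b => hVc.is_comm.comm a b }
  have hF : FrobeniusFPF.IsFPF H V := FrobeniusFPF.isFPF_conjAction hHV fun a ha ha1 =>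
    le_bot_iff.1 (le_trans (inf_le_inf_right _ hVK) (hfix a ha ha1).le)
  obtain ⟨n, ρ, hn, -, -, hρ⟩ := S3357.exists_rep_of_notMem (K := AlgebraicClosure ℚ)
    (S3357.one_notMem_of_action (p := p) (A := Additive V)
    (fun g => MonoidHom.toAdditive (MulDistribMulAction.toMonoidHom V (eG g)))
    (fun v => congrArg Additive.ofMul (show (eG 1 : H) • v.toMul = v.toMul by rw [map_one, one_smul]))
    (fun a b v => congrArg Additive.ofMul
      (show (eG (a * b) : H) • v.toMul = eG a • eG b • v.toMul by rw [map_mul, mul_smul]))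
    hcop (by rw [Nat.card_congr Additive.toMul]; exact hpV)
    (fun c hc v hv => congrArg Additive.ofMul
      (hF (eG c) (fun h => hc ((map_eq_one_iff eG eG.injective).1 h)) v.toMul
        (congrArg Additive.toMul hv))))
  exact ⟨n, exists_end_rep hn hρ⟩

/-- A Frobenius complement has a fixed-point-free representation in characteristic zero. -/
theorem exists_rep_of_complement {G : Type*} [Group G] [Finite G]
    (hFC : ∃ (L : Type) (_ : Group L) (_ : Finite L) (H : Subgroup L),
      Cfsg.IsFrobeniusComplement H ∧ Nonempty (G ≃* H)) :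
    ∃ (n : ℕ) (ψ : G →* Module.End (AlgebraicClosure ℚ) (Fin n → AlgebraicClosure ℚ)), IsFPFRep ψ := by
  obtain ⟨n, ρ, hn, -, -, hρ⟩ := S3357.result hFC
  exact ⟨n, exists_end_rep hn hρ⟩

end Cfsg.Agent.FpfRep
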