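import Cfsg.Agent.Lib.FrobeniusFPF

/-!
Linear groups over a prime field that are regular on the non-zero vectors.
-/

namespace Cfsg.Agent.RegularLinear

variable {p : ℕ} [Fact p.Prime] {V : Type*} [AddCommGroup V] [Module (ZMod p) V]

/-- A linear group is regular on the non-zero vectors. -/
def Regular (H : Subgroup (V ≃ₗ[ZMod p] V)) : Prop :=
  ∀ v w : V, v ≠ 0 → w ≠ 0 → ∃! h : H, (h : V ≃ₗ[ZMod p] V) v = w

theorem eq_one_of_fix {H : Subgroup (V ≃ₗ[ZMod p] V)} (hreg : Regular H) {h : H} {v : V}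
    (hv : v ≠ 0) (hh : (h : V ≃ₗ[ZMod p] V) v = v) : h = 1 :=
  (hreg v v hv hv).unique hh rfl

/-- Invariance of a subspace. -/
def Invariant {H : Subgroup (V ≃ₗ[ZMod p] V)} (A : Subgroup H) (W : Submodule (ZMod p) V) : Prop :=
  ∀ a ∈ A, ∀ v ∈ W, ((a : H) : V ≃ₗ[ZMod p] V) v ∈ W

/-- The action on an invariant subspace, written multiplicatively. -/
@[reducible]
def action {H : Subgroup (V ≃ₗ[ZMod p] V)} (A : Subgroup H) (W : Submodule (ZMod p) V)
    (hW : Invariant A W) : MulDistribMulAction A (Multiplicative W) where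
  smul a w := Multiplicative.ofAdd ⟨(((a : H) : V ≃ₗ[ZMod p] V)) (w.toAdd : W), hW a a.2 _ w.toAdd.2⟩
  one_smul w := rfl
  mul_smul a b w := rfl
  smul_mul a x y := congrArg Multiplicative.ofAdd
    (Subtype.ext (map_add (((a : H) : V ≃ₗ[ZMod p] V)) (x.toAdd : V) (y.toAdd : V)))
  smul_one a := congrArg Multiplicative.ofAdd (Subtype.ext (map_zero (((a : H) : V ≃ₗ[ZMod p] V))))

theorem isFPF_action {H : Subgroup (V ≃ₗ[ZMod p] V)} (hreg : Regular H) (A : Subgroup H)
    (W : Submodule (ZMod p) V) (hW : Invariant A W) :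
    @FrobeniusFPF.IsFPF A (Multiplicative W) _ _ (action A W hW) := by
  intro a ha w hw
  by_contra hne
  apply ha
  apply Subtype.ext
  refine eq_one_of_fix hreg (v := (w.toAdd : V)) ?_ ?_
  · intro e
    exact hne (Multiplicative.toAdd.injective (Subtype.ext e))
  · exact congrArg (fun z : Multiplicative W => (z.toAdd : V)) hw

/-- An abelian subgroup is cyclic. -/
theorem isCyclic_of_comm [Finite V] [Nontrivial V] {H : Subgroup (V ≃ₗ[ZMod p] V)}
    (hreg : Regular H) (A : Subgroup H) (hA : IsMulCommutative A) : IsCyclic A := by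
  haveI : Finite A := by
    haveI : Finite (V ≃ₗ[ZMod p] V) :=
      Finite.of_injective (fun e => (e : V → V)) DFunLike.coe_injective
    infer_instance
  have hW : Invariant A ⊤ := fun _ _ _ _ => Submodule.mem_top
  haveI : Nontrivial (⊤ : Submodule (ZMod p) V) := Submodule.nontrivial_iff_ne_bot.mpr top_ne_bot
  let _ := action A ⊤ hW
  exact FrobeniusFPF.isCyclic_of_comm (W := Multiplicative (⊤ : Submodule (ZMod p) V))
    (isFPF_action hreg A ⊤ hW) fun a b => hA.is_comm.comm a b

/-- The order of a subgroup leaving a subspace invariant divides the number of its non-zero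
vectors. -/
theorem card_dvd [Finite V] {H : Subgroup (V ≃ₗ[ZMod p] V)} (hreg : Regular H) (A : Subgroup H)
    (W : Submodule (ZMod p) V) (hW : Invariant A W) :
    Nat.card A ∣ p ^ Module.finrank (ZMod p) W - 1 := by
  haveI : Finite (V ≃ₗ[ZMod p] V) :=
    Finite.of_injective (fun e => (e : V → V)) DFunLike.coe_injective
  let _ := action A W hW
  have h : Nat.card (Multiplicative W) = p ^ Module.finrank (ZMod p) W := by
    rw [show Nat.card (Multiplicative W) = Nat.card W from rfl,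
      Module.natCard_eq_pow_finrank (K := ZMod p) (V := W), Nat.card_zmod]
  rw [← h]
  exact FrobeniusFPF.card_dvd_sub_one (isFPF_action hreg A W hW)

/-- The enveloping algebra of a subgroup. -/
def envelope {H : Subgroup (V ≃ₗ[ZMod p] V)} (A : Subgroup H) :
    Subalgebra (ZMod p) (Module.End (ZMod p) V) :=
  Algebra.adjoin (ZMod p) (Set.range fun a : A => (((a : H) : V ≃ₗ[ZMod p] V) : V →ₗ[ZMod p] V))

theorem mem_envelope {H : Subgroup (V ≃ₗ[ZMod p] V)} (A : Subgroup H) {a : H} (ha : a ∈ A) :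
    (((a : H) : V ≃ₗ[ZMod p] V) : V →ₗ[ZMod p] V) ∈ envelope A :=
  Algebra.subset_adjoin ⟨⟨a, ha⟩, rfl⟩

/-- Conjugation by a group element, as an algebra automorphism of the endomorphisms. -/
def conjEnd (h : V ≃ₗ[ZMod p] V) : Module.End (ZMod p) V ≃ₐ[ZMod p] Module.End (ZMod p) V :=
  h.conjAlgEquiv (ZMod p)

theorem conjEnd_apply (h : V ≃ₗ[ZMod p] V) (r : Module.End (ZMod p) V) (v : V) :
    conjEnd h r v = h (r (h.symm v)) := rfl

theorem conjEnd_mem {H : Subgroup (V ≃ₗ[ZMod p] V)} (A : Subgroup H) [A.Normal] (h : H)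
    {r : Module.End (ZMod p) V} (hr : r ∈ envelope A) :
    conjEnd (h : V ≃ₗ[ZMod p] V) r ∈ envelope A := by
  have hle : envelope A ≤ (envelope A).comap (conjEnd (h : V ≃ₗ[ZMod p] V)).toAlgHom := by
    refine Algebra.adjoin_le ?_
    rintro _ ⟨a, rfl⟩
    rw [SetLike.mem_coe, Subalgebra.mem_comap]
    have h1 := mem_envelope A (Subgroup.Normal.conj_mem inferInstance (a : H) a.2 h)
    convert h1 using 1
    exact LinearMap.ext fun v => rfl
  exact hle hr

/-- All non-zero vectors generate simple modules of the same annihilator, so the envelope of an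
abelian normal subgroup of a regular linear group has no zero divisors on `V`. -/
theorem envelope_injective [Finite V] {H : Subgroup (V ≃ₗ[ZMod p] V)} (hreg : Regular H)
    (A : Subgroup H) [A.Normal] (hA : IsMulCommutative A) {r : Module.End (ZMod p) V}
    (hr : r ∈ envelope A) {v : V} (hv : v ≠ 0) (hrv : r v = 0) : r = 0 := by
  classical
  have hcomm : ∀ x ∈ envelope A, ∀ y ∈ envelope A, ∀ u : V, x (y u) = y (x u) := by
    intro x hx y hy u
    have key : Commute x y := by
      refine Algebra.commute_of_mem_adjoin_of_forall_mem_commute (R := ZMod p)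
        (s := Set.range fun a : A => (((a : H) : V ≃ₗ[ZMod p] V) : V →ₗ[ZMod p] V)) hy ?_
      rintro _ ⟨b, rfl⟩
      refine (Algebra.commute_of_mem_adjoin_of_forall_mem_commute (R := ZMod p)
        (s := Set.range fun a : A => (((a : H) : V ≃ₗ[ZMod p] V) : V →ₗ[ZMod p] V)) hx ?_).symm
      rintro _ ⟨a, rfl⟩
      exact LinearMap.ext fun u => congrArg (fun z : A => ((z : H) : V ≃ₗ[ZMod p] V) u)
        (hA.is_comm.comm b a)
    exact LinearMap.congr_fun key.eq u
  let cyc : V → Submodule (ZMod p) V := fun u =>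
    (envelope A).toSubmodule.map (LinearMap.applyₗ u)
  have hmem : ∀ u z, z ∈ cyc u ↔ ∃ x ∈ envelope A, x u = z := fun u z => Iff.rfl
  have hself : ∀ u, u ∈ cyc u := fun u => (hmem u u).mpr ⟨1, one_mem _, rfl⟩
  have hcard : ∀ u w : V, u ≠ 0 → w ≠ 0 → Nat.card (cyc u) = Nat.card (cyc w) := by
    intro u w hu hw
    obtain ⟨h, hh, -⟩ := hreg u w hu hw
    have : cyc w = (cyc u).map ((h : V ≃ₗ[ZMod p] V) : V →ₗ[ZMod p] V) := by
      ext z
      constructor
      · rintro ⟨x, hx, rfl⟩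
        refine ⟨conjEnd ((h⁻¹ : H) : V ≃ₗ[ZMod p] V) x u,
          ⟨_, conjEnd_mem A h⁻¹ hx, rfl⟩, ?_⟩
        simp only [conjEnd_apply]
        change (h : V ≃ₗ[ZMod p] V) ((h : V ≃ₗ[ZMod p] V).symm (x ((h : V ≃ₗ[ZMod p] V) u))) = x w
        rw [LinearEquiv.apply_symm_apply, hh]
      · rintro ⟨_, ⟨x, hx, rfl⟩, rfl⟩
        refine ⟨conjEnd (h : V ≃ₗ[ZMod p] V) x, conjEnd_mem A h hx, ?_⟩
        change conjEnd (h : V ≃ₗ[ZMod p] V) x w = (h : V ≃ₗ[ZMod p] V) (x u)
        rw [conjEnd_apply, ← hh, LinearEquiv.symm_apply_apply]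
    rw [this, Nat.card_congr ((cyc u).equivMapOfInjective _ (h : V ≃ₗ[ZMod p] V).injective).toEquiv]
  have hsimple : ∀ u z : V, z ∈ cyc u → z ≠ 0 → cyc z = cyc u := by
    intro u z hz hz0
    have hu : u ≠ 0 := by
      rintro rfl
      obtain ⟨x, -, rfl⟩ := hz
      exact hz0 (map_zero x)
    apply SetLike.coe_injective
    refine Set.eq_of_subset_of_ncard_le ?_ ?_ (Set.toFinite _)
    · rintro _ ⟨y, hy, rfl⟩
      obtain ⟨x, hx, rfl⟩ := hz
      exact ⟨y * x, (envelope A).mul_mem hy hx, rfl⟩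
    · rw [← Nat.card_coe_set_eq, ← Nat.card_coe_set_eq]
      exact (hcard u z hu hz0).le
  refine LinearMap.ext fun w => ?_
  by_contra hw
  have hw0 : w ≠ 0 := fun e => hw (by simp [e])
  have h1 : r (v + w) = r w := by rw [map_add, hrv, zero_add]
  have h2 : cyc (v + w) = cyc w :=
    (hsimple (v + w) (r w) ⟨r, hr, h1⟩ hw).symm.trans (hsimple w (r w) ⟨r, hr, rfl⟩ hw)
  have h3 : v ∈ cyc w := by
    have := (cyc w).sub_mem (h2 ▸ hself (v + w)) (hself w)
    simpa using this
  have h4 : w ∈ cyc v := hsimple w v h3 hv ▸ hself w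
  obtain ⟨x, hx, rfl⟩ := h4
  apply hw
  change r (x v) = 0
  rw [hcomm r hr x hx, hrv, map_zero]

theorem card_eq_card_sub_one [Finite V] [Nontrivial V] {H : Subgroup (V ≃ₗ[ZMod p] V)}
    (hreg : Regular H) : Nat.card H = Nat.card V - 1 := by
  classical
  have := Fintype.ofFinite V
  obtain ⟨v, hv⟩ := exists_ne (0 : V)
  have hbij : Function.Bijective
      (fun h : H => (⟨(h : V ≃ₗ[ZMod p] V) v, by simpa using hv⟩ : {w : V // w ≠ 0})) := by
    constructor
    · intro g k e
      exact (hreg v _ hv (by simpa using hv)).unique (congrArg Subtype.val e) rfl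
    · rintro ⟨w, hw⟩
      obtain ⟨h, hh, -⟩ := hreg v w hv hw
      exact ⟨h, Subtype.ext hh⟩
  rw [Nat.card_eq_of_bijective _ hbij, Nat.card_eq_fintype_card, Fintype.card_subtype_compl,
    Fintype.card_subtype_eq, ← Nat.card_eq_fintype_card]

end Cfsg.Agent.RegularLinear
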