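import Mathlib
import Cfsg.Agent.Lib.FpfIcosian
import Cfsg.Agent.Lib.FpfAut
import Cfsg.Agent.Lib.PGroupsCyclic
import Cfsg.Agent.Lib.TransferAlperin
import Cfsg.Agent.S3378

/-!
Zassenhaus: a non-trivial perfect group with a fixed-point-free representation in characteristic zero
is isomorphic to SL(2,5).
-/

set_option autoImplicit false

namespace Cfsg.Agent.FpfZassenhaus

open FpfPairs FpfTet FpfKey FpfIcosian

theorem Closed.conj_mem {G : Type*} [Group G] [Finite G] {S : Set G} (hS : Closed S) {g : G}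
    (hg : g ∈ Subgroup.closure S) {s : G} (hs : s ∈ S) : g * s * g⁻¹ ∈ S := by
  revert s
  induction hg using Subgroup.closure_induction with
  | mem c hc => exact fun {s} hs => hS.2 c hc s hs
  | one => intro s hs; simpa using hs
  | mul c d _ _ ihc ihd =>
    intro s hs
    rw [show c * d * s * (c * d)⁻¹ = c * (d * s * d⁻¹) * c⁻¹ by group]
    exact ihc (ihd hs)
  | inv c _ ih =>
    intro s hs
    have himg : (fun k => c * k * c⁻¹) '' S = S :=
      Set.eq_of_subset_of_ncard_le (by rintro _ ⟨k, hk, rfl⟩; exact ih hk)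
        (by rw [Set.ncard_image_of_injective _ fun p q e => mul_left_cancel (mul_right_cancel e)])
        (Set.toFinite _)
    rw [← himg] at hs
    obtain ⟨k, hk, rfl⟩ := hs
    simpa [mul_assoc] using hk

variable {G K V : Type*} [Group G] [Field K] [CharZero K] [IsAlgClosed K] [Algebra.IsAlgebraic ℚ K]
  [Finite G] [AddCommGroup V] [Module K V] [FiniteDimensional K V] {φ : G →* Module.End K V}

omit [IsAlgClosed K] [Algebra.IsAlgebraic ℚ K] [Finite G] [FiniteDimensional K V] in
/-- The conjugating elements attached to a tetrahedral pair. -/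
theorem axis_mem_closure {x a : G} {S : Set G} (hx : x ∈ S) (hy : x⁻¹ * a ∈ S) {s : G}
    (hs : s = 1 ∨ s = a ∨ s = x * a * x⁻¹ ∨ s = a * (x * a * x⁻¹)) :
    s ∈ Subgroup.closure S := by
  have h1 := Subgroup.subset_closure (k := S) hx
  have h2 : a ∈ Subgroup.closure S := by
    have := (Subgroup.closure S).mul_mem h1 (Subgroup.subset_closure (k := S) hy)
    rwa [mul_inv_cancel_left] at this
  have h3 : x * a * x⁻¹ ∈ Subgroup.closure S :=
    (Subgroup.closure S).mul_mem ((Subgroup.closure S).mul_mem h1 h2) ((Subgroup.closure S).inv_mem h1)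
  rcases hs with rfl | rfl | rfl | rfl
  · exact one_mem _
  · exact h2
  · exact h3
  · exact (Subgroup.closure S).mul_mem h2 h3

omit [IsAlgClosed K] [Algebra.IsAlgebraic ℚ K] [FiniteDimensional K V] in
/-- The elements of the configuration lie in every closed set through it. -/
theorem inT_mem (h : IsFPFRep φ) {x a g : G} (T : IsTet φ x a) {S : Set G} (hS : Closed S)
    (hx : x ∈ S) (hy : x⁻¹ * a ∈ S) (hg : InT φ x a g) : g ∈ S := by
  obtain ⟨s1, s2, s3, h1, h2, h3, e⟩ := hg
  obtain ⟨s, hs, u, hu, e'⟩ := exists_axis h T h1 h2 h3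
  rw [P_injective h (e.trans e'.symm)]
  refine Closed.conj_mem hS (axis_mem_closure hx hy hs) ?_
  rcases hu with rfl | rfl
  exacts [hx, hS.1 x hx]

omit [IsAlgClosed K] [Algebra.IsAlgebraic ℚ K] [Finite G] [FiniteDimensional K V] in
theorem not_high_of_inT (h : IsFPFRep φ) {x a g : G} (T : IsTet φ x a) (hg : InT φ x a g) :
    ¬ High φ x g := by
  obtain ⟨s1, s2, s3, h1, h2, h3, e⟩ := hg
  intro hh
  have := h.charZero
  have hS : S φ x g = ((2 * (s1 + s2 + s3) : ℤ) : Module.End K V) := by
    rw [S, T.P_x h, e, qv_mul (T.qtriple h) _ _ _ _ com_zero (com_intCast s1) (com_intCast s2)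
      (com_intCast s3), qv_mul (T.qtriple h) _ _ _ _ com_zero (by simpa using com_intCast (-1))
      (by simpa using com_intCast (-1)) (by simpa using com_intCast (-1)), qv_add]
    simp only [qv]
    push_cast
    noncomm_ring
  have h20 : S φ x g * S φ x g = ((20 : ℤ) : Module.End K V) := by rw [Int.cast_ofNat]; exact hh
  rw [hS, ← Int.cast_mul] at h20
  have := Int.cast_injective (α := Module.End K V) h20
  rcases h1 with rfl | rfl <;> rcases h2 with rfl | rfl <;> rcases h3 with rfl | rfl <;> norm_num at this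

theorem low_conj_self (h : IsFPFRep φ) {x y : G} (hx : orderOf x = 3) (hy : orderOf y = 3)
    (hh : High φ x y) : S φ y (x * y * x⁻¹) = -2 := by
  have e := h.S_self_conj hx hy
  rw [show S φ x y * S φ x y = 20 from hh] at e
  refine cancel_four ?_
  rw [e]
  norm_num

/-- A configuration spanned by a high pair. -/
theorem exists_model_of_high (h : IsFPFRep φ) {x y : G} (hx : orderOf x = 3) (hy : orderOf y = 3)
    (hh : High φ x y) : ∃ v, ∃ M : Model φ y (y * (x * y * x⁻¹)) v,
      x ∈ M.J ∧ ∀ S : Set G, Closed S → x ∈ S → y ∈ S → M.J ⊆ S := by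
  set y' := x * y * x⁻¹ with hy'
  have hy'o : orderOf y' = 3 := by rw [hy', orderOf_conj, hy]
  have T := isTet_of_low h hy hy'o (low_conj_self h hx hy hh)
  have hnx : ¬ InT φ y (y * y') x := fun hi => not_high_of_inT h T hi hh.symm
  obtain ⟨⟨v, hv, hstd⟩, -⟩ := exists_std h T hx hnx
  have hvo : orderOf v = 3 := by
    rcases hv with rfl | rfl | rfl
    · exact hx
    · rw [orderOf_conj, hx]
    · rw [show y⁻¹ * x * y = y⁻¹ * x * (y⁻¹)⁻¹ by group, orderOf_conj, hx]
  obtain ⟨M⟩ := exists_model h T hvo hstd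
  refine ⟨v, M, ?_, fun S hS hxS hyS => M.J_minimal hS hyS ?_ ?_⟩
  · have hyi := Model.J_closed.1 y (M.x_mem)
    rcases hv with rfl | rfl | rfl
    · exact M.w_mem
    · have := Model.J_closed.2 _ hyi _ M.w_mem
      rwa [show y⁻¹ * (y * x * y⁻¹) * y⁻¹⁻¹ = x by group] at this
    · have := Model.J_closed.2 _ M.x_mem _ M.w_mem
      rwa [show y * (y⁻¹ * x * y) * y⁻¹ = x by group] at this
  · rw [inv_mul_cancel_left]; exact hS.2 x hxS y hyS
  · rcases hv with rfl | rfl | rfl
    · exact hxS
    · exact hS.2 y hyS x hxS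
    · have := hS.2 _ (hS.1 y hyS) x hxS
      rwa [inv_inv] at this

/-- With a high pair, the elements of order three form a single configuration of twenty. -/
theorem exists_all_of_high (h : IsFPFRep φ) {x y : G} (hx : orderOf x = 3) (hy : orderOf y = 3)
    (hh : High φ x y) : ∃ J : Set G, Closed J ∧ J = {g | orderOf g = 3} ∧
      (∀ S : Set G, Closed S → x ∈ S → y ∈ S → J ⊆ S) ∧
      Nat.card (Subgroup.closure J) ≤ 120 ∧
      {p : G × G | p.1 ∈ J ∧ p.2 ∈ J ∧ High φ p.1 p.2}.ncard ≤ 120 := by
  obtain ⟨v, M, hxM, hmin⟩ := exists_model_of_high h hx hy hh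
  refine ⟨M.J, Model.J_closed, ?_, hmin, M.closure_J_card_le, M.high_pairs_card_le⟩
  refine Set.Subset.antisymm (fun g hg => hg.1) fun g hg => ?_
  -- every element in low position to `x` lies in the configuration
  have hlow : ∀ u, orderOf u = 3 → S φ x u = -2 → u ∈ M.J := by
    intro u hu hS
    have T1 := isTet_of_low h hx hu hS
    have hny : ¬ InT φ x (x * u) y := fun hi => not_high_of_inT h T1 hi hh
    obtain ⟨⟨v1, hv1, hstd⟩, -⟩ := exists_std h T1 hy hny
    have hv1o : orderOf v1 = 3 := by
      rcases hv1 with rfl | rfl | rfl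
      · exact hy
      · rw [orderOf_conj, hy]
      · rw [show x⁻¹ * y * x = x⁻¹ * y * (x⁻¹)⁻¹ by group, orderOf_conj, hy]
    obtain ⟨M1⟩ := exists_model h T1 hv1o hstd
    have hy1 : y ∈ M1.J := by
      rcases hv1 with rfl | rfl | rfl
      · exact M1.w_mem
      · have := Model.J_closed.2 _ (Model.J_closed.1 x M1.x_mem) _ M1.w_mem
        rwa [show x⁻¹ * (x * y * x⁻¹) * x⁻¹⁻¹ = y by group] at this
      · have := Model.J_closed.2 _ M1.x_mem _ M1.w_mem
        rwa [show x * (x⁻¹ * y * x) * x⁻¹ = y by group] at this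
    have heq : M.J = M1.J :=
      Set.eq_of_subset_of_ncard_le (hmin _ Model.J_closed M1.x_mem hy1)
        (by rw [M.J_ncard, M1.J_ncard]) (Set.toFinite _)
    have := M1.y_mem
    rw [inv_mul_cancel_left, ← heq] at this
    exact this
  have hlow' : ∀ u, orderOf u = 3 → Low φ x u → u ∈ M.J := by
    intro u hu hS
    rcases hS with hS | hS
    · have := Model.J_closed.1 _ (hlow u⁻¹ (by rw [orderOf_inv, hu]) (by rw [h.S_inv_right _ hu, hS]))
      rwa [inv_inv] at this
    · exact hlow u hu hS
  -- some element of the configuration is low to `x`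
  obtain ⟨u0, hu0, hu0J, hS0⟩ : ∃ u0, orderOf u0 = 3 ∧ u0 ∈ M.J ∧ S φ x u0 = -2 := by
    obtain ⟨-, s, hs, hl⟩ := exists_std h M.T hx (fun hi => not_high_of_inT h M.T hi hh.symm)
    have hmem : s * y * s⁻¹ ∈ M.J :=
      Closed.conj_mem Model.J_closed (axis_mem_closure M.x_mem M.y_mem hs) M.x_mem
    rcases hl.symm with e | e
    · exact ⟨_, by rw [orderOf_inv, orderOf_conj, hy], Model.J_closed.1 _ hmem,
        by rw [h.S_inv_right _ (by rw [orderOf_conj, hy]), e]⟩
    · exact ⟨_, by rw [orderOf_conj, hy], hmem, e⟩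
  have T1 := isTet_of_low h hx hu0 hS0
  have hy1 : x⁻¹ * (x * u0) ∈ M.J := by rwa [inv_mul_cancel_left]
  by_cases hi : InT φ x (x * u0) g
  · exact inT_mem h T1 Model.J_closed hxM hy1 hi
  obtain ⟨-, s, hs, hl⟩ := exists_std h T1 hg hi
  have hmem : s⁻¹ * g * s ∈ M.J := by
    refine hlow' _ ?_ ?_
    · rw [show s⁻¹ * g * s = s⁻¹ * g * (s⁻¹)⁻¹ by group, orderOf_conj]; exact hg
    · have := hl.conj s⁻¹
      rwa [show s⁻¹ * (s * x * s⁻¹) * s⁻¹⁻¹ = x by group, inv_inv] at this
  have := Closed.conj_mem Model.J_closed (axis_mem_closure hxM hy1 hs) hmem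
  rwa [show s * (s⁻¹ * g * s) * s⁻¹ = g by group] at this

omit [CharZero K] [IsAlgClosed K] [Algebra.IsAlgebraic ℚ K] [Finite G] [FiniteDimensional K V] in
theorem eq_one_or_eq_of_sq_ne {H : Type*} [Group H] {g : H} (h : g * g = 1) : g = g⁻¹ :=
  eq_inv_of_mul_eq_one_left h

/-- Two commuting elements of order three generate the same subgroup. -/
theorem eq_or_inv_of_commute (h : IsFPFRep φ) {x g : G} (hx : orderOf x = 3) (hg : orderOf g = 3)
    (hc : Commute x g) : g = x⁻¹ ∨ g = x := by
  obtain ⟨c, -, hcc, -, h36⟩ := S_sq h hx hg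
  apply h36.1
  apply smul_one_inj h
  rw [← hcc, h.S_eq hx hg]
  have ht3 : (x * g) ^ 3 = 1 := by
    have h1 := pow_orderOf_eq_one x
    have h2 := pow_orderOf_eq_one g
    rw [hx] at h1; rw [hg] at h2
    rw [hc.mul_pow, h1, h2, one_mul]
  have h36' : (36 : K) • (1 : Module.End K V) = 36 := by
    rw [← Algebra.algebraMap_eq_smul_one, map_ofNat]
  rw [h36']
  by_cases h1 : x * g = 1
  · rw [h1, inv_one, map_one]; norm_num
  · have := Fact.mk Nat.prime_three
    rw [h.map_inv (orderOf_eq_prime ht3 h1)]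
    rw [show φ (x * g) + (-φ (x * g) - 1) = -1 by abel]
    norm_num

section cyclicSylow

omit [IsAlgClosed K] [Algebra.IsAlgebraic ℚ K] [Finite G] [CharZero K] in
/-- Two commuting elements of equal prime order generate the same subgroup. -/
theorem mem_zpowers_of_commute [IsAlgClosed K] (h : IsFPFRep φ) {p : ℕ} (hp : p.Prime) {d e : G}
    (hd : orderOf d = p) (he : orderOf e = p) (hc : Commute d e) : e ∈ Subgroup.zpowers d := by
  have := h.nontrivial
  obtain ⟨z, hz⟩ := Module.End.exists_eigenvalue (φ d)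
  have hne : Nontrivial (Module.End.eigenspace (φ d) z) := Submodule.nontrivial_iff_ne_bot.2 hz
  have hinv : ∀ v ∈ Module.End.eigenspace (φ d) z, φ e v ∈ Module.End.eigenspace (φ d) z := by
    intro v hv
    rw [Module.End.mem_eigenspace_iff] at hv ⊢
    rw [← map_mul_apply, hc.eq, map_mul_apply, hv, map_smul]
  obtain ⟨z', hz'⟩ := Module.End.exists_eigenvalue ((φ e).restrict hinv)
  obtain ⟨v, hv⟩ := hz'.exists_hasEigenvector
  have hv0 : (v : V) ≠ 0 := fun e => hv.2 (Subtype.ext e)
  have hdv : φ d (v : V) = z • (v : V) := Module.End.mem_eigenspace_iff.1 v.2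
  have hev : φ e (v : V) = z' • (v : V) := congrArg Subtype.val hv.apply_eq_smul
  have hpow : ∀ (g : G) (c : K), φ g (v : V) = c • (v : V) → ∀ j : ℕ, φ (g ^ j) (v : V) = c ^ j • (v : V) := by
    intro g c hg j
    induction j with
    | zero => simp
    | succ j ih => rw [pow_succ, map_mul_apply, hg, map_smul, ih, smul_smul, pow_succ']
  have h1 : ∀ (g : G) (c : K), orderOf g = p → φ g (v : V) = c • (v : V) → c ^ p = 1 ∧ c ≠ 1 := by
    intro g c hg hgc
    constructor
    · have := hpow g c hgc p
      rw [← hg, pow_orderOf_eq_one, map_one, Module.End.one_apply, hg] at this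
      exact (smul_left_injective K hv0 (show (1 : K) • (v : V) = c ^ p • (v : V) by rw [one_smul]; exact this)).symm
    · rintro rfl
      rw [one_smul] at hgc
      have h2 : g = 1 := h.eq_of_apply_eq hv0 (by rw [hgc, map_one, Module.End.one_apply])
      rw [h2, orderOf_one] at hg
      exact hp.ne_one hg.symm
  obtain ⟨hzp, hz1⟩ := h1 d z hd hdv
  have := Fact.mk hp
  have hprim : IsPrimitiveRoot z p := by
    rw [← orderOf_eq_prime hzp hz1]; exact IsPrimitiveRoot.orderOf z
  haveI : NeZero p := ⟨hp.ne_zero⟩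
  obtain ⟨i, -, hi⟩ := hprim.eq_pow_of_pow_eq_one (h1 e z' he hev).1
  refine ⟨(i : ℤ), ?_⟩
  show d ^ (i : ℤ) = e
  rw [zpow_natCast]
  exact h.eq_of_apply_eq hv0 (by rw [hpow d z hdv i, hev, hi])

omit [IsAlgClosed K] [Algebra.IsAlgebraic ℚ K] [CharZero K] in
/-- A p-subgroup is cyclic, or quaternion for p = 2. -/
theorem cyclic_or_quaternion [IsAlgClosed K] (h : IsFPFRep φ) {p : ℕ} [hp : Fact p.Prime]
    (Q : Subgroup G) (hQ : IsPGroup p Q) :
    IsCyclic Q ∨ (p = 2 ∧ ∃ n : ℕ, Nonempty (Q ≃* QuaternionGroup (2 ^ n))) := by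
  refine PGroupsCyclic.isCyclic_or_quaternion hQ fun A B hA hB => ?_
  have : Nontrivial Q := by
    by_contra hn
    rw [not_nontrivial_iff_subsingleton] at hn
    rw [Subsingleton.elim A ⊥, Subgroup.card_bot] at hA
    exact hp.out.ne_one hA.symm
  obtain ⟨z, hz, hzo⟩ := PGroupsBasic.exists_orderOf_eq_of_ne_bot (p := p)
    (hQ.to_subgroup _) ((Subgroup.nontrivial_iff_ne_bot _).1 hQ.center_nontrivial)
  suffices key : ∀ A : Subgroup Q, Nat.card A = p → A = Subgroup.zpowers z by rw [key A hA, key B hB]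
  intro A hA
  obtain ⟨d, hd⟩ := exists_prime_orderOf_dvd_card' (G := A) p (hA ▸ dvd_rfl)
  have hdo : orderOf ((d : Q) : G) = p := by rw [Subgroup.orderOf_coe, Subgroup.orderOf_coe, hd]
  have hzo' : orderOf (z : G) = p := by rw [Subgroup.orderOf_coe, hzo]
  have hcomm : Commute (z : G) ((d : Q) : G) :=
    (congrArg Subtype.val (Subgroup.mem_center_iff.1 hz (d : Q))).symm
  obtain ⟨i, hi⟩ := Subgroup.mem_zpowers_iff.1 (mem_zpowers_of_commute h hp.out hzo' hdo hcomm)
  have h1 : Subgroup.zpowers (d : Q) = A :=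
    Subgroup.eq_of_le_of_card_ge (Subgroup.zpowers_le.2 d.2)
      (by rw [Nat.card_zpowers, Subgroup.orderOf_coe, hd, hA])
  rw [← h1]
  refine Subgroup.eq_of_le_of_card_ge
    (Subgroup.zpowers_le.2 (Subgroup.mem_zpowers_iff.2 ⟨i, Subtype.ext (by simpa using hi)⟩)) ?_
  rw [Nat.card_zpowers, Nat.card_zpowers, Subgroup.orderOf_coe, hzo, hd]

end cyclicSylow

open FpfAut

omit [IsAlgClosed K] [Algebra.IsAlgebraic ℚ K] [FiniteDimensional K V] [CharZero K] [Finite G] in
theorem perfect_comm_eq_one {A : Type*} [CommGroup A] (hperf : commutator G = ⊤) (f : G →* A) :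
    f = 1 := by
  haveI : Group.IsSolvable A := Group.isSolvable_of_comm mul_comm
  exact perfect_hom_eq_one hperf f

omit [Algebra.IsAlgebraic ℚ K] in
/-- A non-trivial perfect fixed-point-free group has a Sylow 2-subgroup which is not cyclic. -/
theorem sylow_two_not_cyclic (h : IsFPFRep φ) (hperf : commutator G = ⊤) [Nontrivial G]
    (P : Sylow 2 G) : ¬ IsCyclic P := by
  intro hP
  have hsol : ¬ Group.IsSolvable G := fun hs =>
    (Group.IsSolvable.commutator_lt_top_of_nontrivial G).ne hperf
  by_cases h2 : 2 ∣ Nat.card G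
  · have hmin : (Nat.card G).minFac = 2 := (Nat.minFac_eq_two_iff _).2 h2
    have hle := IsCyclic.normalizer_le_centralizer hmin hP
    have hcompl := IsCyclic.isComplement' hmin hP
    have : IsMulCommutative P := inferInstance
    let _ : CommGroup P := { (inferInstance : Group P) with mul_comm := fun a b => this.is_comm.comm a b }
    have hker := perfect_comm_eq_one hperf (MonoidHom.transferSylow P hle)
    rw [hker, MonoidHom.ker_one] at hcompl
    have hbot : (P : Subgroup G) = ⊥ := Subgroup.isComplement'_top_left.1 hcompl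
    exact P.not_dvd_index (by rwa [hbot, Subgroup.index_bot])
  · apply hsol
    have : IsZGroup G := ⟨fun p hp Q => by
      have := Fact.mk hp
      rcases cyclic_or_quaternion h (Q : Subgroup G) Q.2 with hc | ⟨rfl, n, ⟨e⟩⟩
      · exact hc
      · exfalso
        apply h2
        refine dvd_trans ?_ (Subgroup.card_subgroup_dvd_card (Q : Subgroup G))
        rw [Nat.card_congr e.toEquiv, Nat.card_eq_fintype_card, QuaternionGroup.card]
        exact ⟨2 * 2 ^ n, by ring⟩⟩
    infer_instance

/-- A non-trivial perfect fixed-point-free group has a non-central element of order three. -/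
theorem exists_noncentral_order_three (h : IsFPFRep φ) (hperf : commutator G = ⊤) [Nontrivial G] :
    ∃ x : G, orderOf x = 3 ∧ x ∉ Subgroup.center G := by
  classical
  have hnc : ¬ Cfsg.HasNormalPComplement 2 G := by
    rintro ⟨P, N, hN, hc⟩
    haveI := hN
    have hP : IsPGroup 2 (G ⧸ N) := P.2.of_equiv (hc.symm.QuotientMulEquiv).symm
    haveI : Group.IsNilpotent (G ⧸ N) := hP.isNilpotent
    have h1 := perfect_hom_eq_one hperf (QuotientGroup.mk' N)
    have hN' : N = ⊤ := by rw [← QuotientGroup.ker_mk' N, h1, MonoidHom.ker_one]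
    subst hN'
    refine sylow_two_not_cyclic h hperf P ?_
    rw [Subgroup.isComplement'_top_left.1 hc]
    infer_instance
  have h3 : 3 ∣ Nat.card G := by
    obtain ⟨P⟩ : Nonempty (Sylow 2 G) := inferInstance
    by_contra h3
    apply hnc
    refine TransferAlperin.hasNormalPComplement_of_local P fun T hT _ _ _ g hg hgo => ?_
    have hT2 : IsPGroup 2 T := P.2.to_le hT
    have hα := eq_one_of_two_group hT2
      ((cyclic_or_quaternion h T hT2).imp id fun e => e.2)
      (T.normalizerMonoidHom ⟨g, hg⟩) (k := orderOf g)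
      (by
        rw [← map_pow]
        convert map_one T.normalizerMonoidHom
        exact Subtype.ext (pow_orderOf_eq_one g))
      (Nat.Coprime.mul_right hgo ((Nat.Prime.coprime_iff_not_dvd Nat.prime_three).2
        (fun hd => h3 (hd.trans (orderOf_dvd_natCard g)))).symm)
    have : (⟨g, hg⟩ : Subgroup.normalizer (T : Set G)) ∈ T.normalizerMonoidHom.ker := hα
    rw [Subgroup.normalizerMonoidHom_ker, Subgroup.mem_subgroupOf] at this
    exact this
  have := Fact.mk Nat.prime_three
  obtain ⟨x, hx⟩ := exists_prime_orderOf_dvd_card' 3 h3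
  refine ⟨x, hx, fun hc => ?_⟩
  obtain ⟨P, hP⟩ := (show IsPGroup 3 (Subgroup.zpowers x) from
    IsPGroup.of_card (n := 1) (by rw [Nat.card_zpowers, hx, pow_one])).exists_le_sylow
  have hPc : IsCyclic P :=
    (cyclic_or_quaternion h (P : Subgroup G) P.2).resolve_right fun e => absurd e.1 (by norm_num)
  have : IsMulCommutative P := inferInstance
  let _ : CommGroup P := { (inferInstance : Group P) with mul_comm := fun a b => this.is_comm.comm a b }
  have hx1 := congrArg (fun f : G →* P => ((f x : P) : G))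
    (perfect_comm_eq_one hperf (MonoidHom.transfer (MonoidHom.id (P : Subgroup G))))
  rw [MonoidHom.transfer_eq_pow] at hx1
  · simp only [MonoidHom.id_apply, MonoidHom.one_apply, OneMemClass.coe_one] at hx1
    exact P.not_dvd_index ((dvd_of_eq hx.symm).trans (orderOf_dvd_of_pow_eq_one hx1))
  · intro k g₀ _
    rw [mul_assoc, ← Subgroup.mem_center_iff.1 (Subgroup.pow_mem _ hc k) g₀, inv_mul_cancel_left]

/-- A perfect group fixes a small invariant set pointwise. -/
theorem fixed_of_small {H α : Type*} [Group H] (hperf : commutator H = ⊤)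
    (f : H →* Equiv.Perm α) (A : Finset α) (hA : ∀ g, ∀ a ∈ A, f g a ∈ A) (hc : A.card ≤ 4) :
    ∀ g, ∀ a ∈ A, f g a = a := by
  classical
  let F' : H →* Equiv.Perm A :=
    { toFun := fun g => ⟨fun a => ⟨f g a.1, hA g a.1 a.2⟩, fun a => ⟨f g⁻¹ a.1, hA g⁻¹ a.1 a.2⟩,
        fun a => Subtype.ext (by
          show f g⁻¹ (f g a.1) = a.1
          rw [← Equiv.Perm.mul_apply, ← map_mul, inv_mul_cancel, map_one, Equiv.Perm.one_apply]),
        fun a => Subtype.ext (by
          show f g (f g⁻¹ a.1) = a.1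
          rw [← Equiv.Perm.mul_apply, ← map_mul, mul_inv_cancel, map_one, Equiv.Perm.one_apply])⟩
      map_one' := Equiv.ext fun a => Subtype.ext (by show f 1 a.1 = a.1; rw [map_one]; rfl)
      map_mul' := fun g g' => Equiv.ext fun a => Subtype.ext (by
        show f (g * g') a.1 = f g (f g' a.1)
        rw [map_mul]; rfl) }
  haveI : Group.IsSolvable (Equiv.Perm A) := by
    by_contra hns
    have hle : Nat.card (Equiv.Perm A) ≤ 24 := by
      rw [Nat.card_eq_fintype_card, Fintype.card_perm, Fintype.card_coe]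
      exact (Nat.factorial_le hc).trans (by decide)
    have := (Cfsg.Agent.S3378.nonsolvable_small (Nat.card (Equiv.Perm A)) _ rfl hns (by omega)).2
    omega
  intro g a ha
  have := congrArg (fun e : Equiv.Perm A => ((e ⟨a, ha⟩ : A) : α))
    (DFunLike.congr_fun (perfect_hom_eq_one hperf F') g)
  exact this

/-- A perfect fixed-point-free group contains a high pair. -/
theorem exists_high_pair (h : IsFPFRep φ) (hperf : commutator G = ⊤) [Nontrivial G] :
    ∃ x y : G, orderOf x = 3 ∧ orderOf y = 3 ∧ High φ x y := by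
  classical
  obtain ⟨x, hx, hxc⟩ := exists_noncentral_order_three h hperf
  by_contra hno
  push Not at hno
  apply hxc
  have hsmall : ∀ s : Finset (Subgroup G), s.card ≤ 4 →
      (∀ g, orderOf g = 3 → Subgroup.zpowers g ∈ s) → (∀ z ∈ s, ∃ g, orderOf g = 3 ∧ z = Subgroup.zpowers g) →
      x ∈ Subgroup.center G := by
    intro s hs hmem hrev
    let f : G →* Equiv.Perm (Subgroup G) :=
      { toFun := fun g => (MulEquiv.mapSubgroup (MulAut.conj g)).toEquiv
        map_one' := Equiv.ext fun H => by
          show H.map (MulAut.conj (1 : G)).toMonoidHom = H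
          rw [map_one]; exact Subgroup.map_id H
        map_mul' := fun g g' => Equiv.ext fun H => by
          show H.map (MulAut.conj (g * g')).toMonoidHom
            = (H.map (MulAut.conj g').toMonoidHom).map (MulAut.conj g).toMonoidHom
          rw [Subgroup.map_map, map_mul]; rfl }
    have hz : ∀ g u, f g (Subgroup.zpowers u) = Subgroup.zpowers (g * u * g⁻¹) := fun g u =>
      MonoidHom.map_zpowers (MulAut.conj g).toMonoidHom u
    have hfix := fixed_of_small hperf f s (fun g z hzs => by
      obtain ⟨u, hu, rfl⟩ := hrev z hzs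
      rw [hz]; exact hmem _ (by rw [orderOf_conj, hu])) hs
    let f2 : G →* Equiv.Perm G := (MulAut.toPerm G).comp MulAut.conj
    have hpm : ∀ g, g * x * g⁻¹ = x ∨ g * x * g⁻¹ = x⁻¹ := by
      intro g
      have e := hfix g _ (hmem x hx)
      rw [hz] at e
      have hm : g * x * g⁻¹ ∈ Subgroup.zpowers x := e ▸ Subgroup.mem_zpowers _
      obtain ⟨i, hi⟩ := Subgroup.mem_zpowers_iff.1 hm
      have hc : Commute x (g * x * g⁻¹) := hi ▸ (Commute.refl x).zpow_right i
      rcases eq_or_inv_of_commute h hx (by rw [orderOf_conj, hx]) hc with e' | e'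
      · exact .inr e'
      · exact .inl e'
    rw [Subgroup.mem_center_iff]
    intro g
    have := fixed_of_small hperf f2 {x, x⁻¹} (fun g a ha => by
      simp only [Finset.mem_insert, Finset.mem_singleton] at ha ⊢
      show g * a * g⁻¹ = x ∨ g * a * g⁻¹ = x⁻¹
      rcases ha with rfl | rfl
      · exact hpm g
      · rw [show g * x⁻¹ * g⁻¹ = (g * x * g⁻¹)⁻¹ by group]
        rcases hpm g with e | e <;> rw [e]
        · exact .inr rfl
        · exact .inl (inv_inv x))
      ((Finset.card_insert_le _ _).trans (by simp)) g x (by simp)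
    exact mul_inv_eq_iff_eq_mul.1 this
  by_cases hlow : ∃ y, orderOf y = 3 ∧ Low φ x y
  · obtain ⟨y, hy, hl⟩ := hlow
    obtain ⟨u, hu, hS⟩ : ∃ u, orderOf u = 3 ∧ S φ x u = -2 := by
      rcases hl with e | e
      · exact ⟨y⁻¹, by rw [orderOf_inv, hy], by rw [h.S_inv_right _ hy, e]⟩
      · exact ⟨y, hy, e⟩
    have T := isTet_of_low h hx hu hS
    set a := x * u with ha
    have hall : ∀ g, orderOf g = 3 → InT φ x a g := by
      intro g hg
      by_contra hn
      obtain ⟨⟨v, hv, hstd⟩, -⟩ := exists_std h T hg hn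
      have hvo : orderOf v = 3 := by
        rcases hv with rfl | rfl | rfl
        · exact hg
        · rw [orderOf_conj, hg]
        · rw [show x⁻¹ * g * x = x⁻¹ * g * (x⁻¹)⁻¹ by group, orderOf_conj, hg]
      obtain ⟨M⟩ := exists_model h T hvo hstd
      obtain ⟨t, ht, hh⟩ := M.exists_high
      exact hno t v ht.1 hvo hh
    refine hsmall (({1, a, x * a * x⁻¹, a * (x * a * x⁻¹)} : Finset G).image
      fun s => Subgroup.zpowers (s * x * s⁻¹)) (Finset.card_image_le.trans Finset.card_le_four)
      (fun g hg => ?_) fun z hz => ?_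
    · obtain ⟨s1, s2, s3, h1, h2, h3, e⟩ := hall g hg
      obtain ⟨s, hs, w, hw, e'⟩ := exists_axis h T h1 h2 h3
      refine Finset.mem_image.2 ⟨s, by simpa using hs, ?_⟩
      rw [P_injective h (e.trans e'.symm)]
      rcases hw with rfl | rfl
      · rfl
      · rw [show s * x⁻¹ * s⁻¹ = (s * x * s⁻¹)⁻¹ by group, Subgroup.zpowers_inv]
    · obtain ⟨s, -, rfl⟩ := Finset.mem_image.1 hz
      exact ⟨_, by rw [orderOf_conj, hx], rfl⟩
  · refine hsmall {Subgroup.zpowers x} (by simp) (fun g hg => ?_) fun z hz => ?_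
    · rcases h.position hx hg with ⟨rfl, -⟩ | ⟨rfl, -⟩ | hl | hh
      · simp
      · simp
      · exact absurd ⟨g, hg, hl⟩ hlow
      · exact absurd hh (hno x g hx hg)
    · exact ⟨x, hx, Finset.mem_singleton.1 hz⟩

/-- The order of a non-trivial perfect fixed-point-free group is 120. -/
theorem card_eq_120 (h : IsFPFRep φ) (hperf : commutator G = ⊤) [Nontrivial G] :
    Nat.card G = 120 := by
  classical
  have hns : ¬ Group.IsSolvable G := fun hs =>
    (Group.IsSolvable.commutator_lt_top_of_nontrivial G).ne hperf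
  obtain ⟨x, y, hx, hy, hh⟩ := exists_high_pair h hperf
  obtain ⟨J, hJc, hJ, hmin, hN, hP⟩ := exists_all_of_high h hx hy hh
  set N := Subgroup.closure J with hNdef
  set C := Subgroup.centralizer J with hC
  have hJconj : ∀ g : G, ∀ s ∈ J, g * s * g⁻¹ ∈ J := fun g s hs => by
    rw [hJ] at hs ⊢
    show orderOf _ = 3
    rw [orderOf_conj]; exact hs
  have hxJ : x ∈ J := by rw [hJ]; exact hx
  have hyJ : y ∈ J := by rw [hJ]; exact hy
  haveI hNn : N.Normal := ⟨fun n hn g => by
    induction hn using Subgroup.closure_induction with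
    | mem s hs => exact Subgroup.subset_closure (hJconj g s hs)
    | one => simp
    | mul a b _ _ iha ihb => simpa [mul_assoc] using mul_mem iha ihb
    | inv a _ iha => simpa [mul_assoc] using inv_mem iha⟩
  haveI hCn : C.Normal := ⟨fun c hc g => by
    rw [hC, Subgroup.mem_centralizer_iff] at hc ⊢
    intro s hs
    have e := hc _ (hJconj g⁻¹ s hs)
    calc s * (g * c * g⁻¹) = g * (g⁻¹ * s * g⁻¹⁻¹ * c) * g⁻¹ := by group
      _ = g * (c * (g⁻¹ * s * g⁻¹⁻¹)) * g⁻¹ := by rw [e]
      _ = _ := by group⟩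
  -- the centraliser has small index
  have hidx : Nat.card (G ⧸ C) ≤ 120 := by
    let F : G ⧸ C → {p : G × G | p.1 ∈ J ∧ p.2 ∈ J ∧ High φ p.1 p.2} := fun q =>
      ⟨(q.out * x * q.out⁻¹, q.out * y * q.out⁻¹), hJconj _ x hxJ, hJconj _ y hyJ, by
        have e : φ q.out * φ q.out⁻¹ = 1 := by rw [← map_mul, mul_inv_cancel, map_one]
        have e' : φ q.out⁻¹ * φ q.out = 1 := by rw [← map_mul, inv_mul_cancel, map_one]
        show S φ _ _ * S φ _ _ = 20
        rw [S_conj]
        calc φ q.out * S φ x y * φ q.out⁻¹ * (φ q.out * S φ x y * φ q.out⁻¹)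
            = φ q.out * (S φ x y * S φ x y) * φ q.out⁻¹ := by
              simp only [mul_assoc]; rw [← mul_assoc (φ q.out⁻¹), e', one_mul]
          _ = 20 := by
              rw [show S φ x y * S φ x y = 20 from hh]
              calc φ q.out * 20 * φ q.out⁻¹ = 20 * (φ q.out * φ q.out⁻¹) := by
                    rw [← mul_assoc]; congr 1
                    exact ((Nat.cast_commute 20 (φ q.out)).eq.symm)
                _ = 20 := by rw [e, mul_one]⟩
    refine (Nat.card_le_card_of_injective F ?_).trans (by rw [Nat.card_coe_set_eq]; exact hP)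
    intro q r e
    simp only [F, Subtype.mk.injEq, Prod.mk.injEq] at e
    rw [← QuotientGroup.out_eq' q, ← QuotientGroup.out_eq' r, QuotientGroup.eq]
    set c := q.out⁻¹ * r.out with hc
    have hcx : ∀ s, q.out * s * q.out⁻¹ = r.out * s * r.out⁻¹ → c * s = s * c := fun s e => by
      calc c * s = q.out⁻¹ * (r.out * s * r.out⁻¹) * r.out := by rw [hc]; group
        _ = q.out⁻¹ * (q.out * s * q.out⁻¹) * r.out := by rw [e]
        _ = s * c := by rw [hc]; group
    have hsub : J ⊆ {s | s ∈ J ∧ c * s = s * c} := by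
      refine hmin _ ⟨fun s hs => ⟨hJc.1 s hs.1, (Commute.inv_right (show Commute c s from hs.2)).eq⟩,
        fun s hs t ht => ⟨hJc.2 s hs.1 t ht.1, ?_⟩⟩ ⟨hxJ, hcx x e.1⟩ ⟨hyJ, hcx y e.2⟩
      exact (((show Commute c s from hs.2).mul_right (show Commute c t from ht.2)).mul_right
        ((show Commute c s from hs.2).inv_right)).eq
    rw [hC, Subgroup.mem_centralizer_iff]
    exact fun s hs => (hsub hs).2.symm
  -- no element of order three centralises the configuration
  have hC3 : ∀ g ∈ C, orderOf g ≠ 3 := by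
    intro g hg ho
    rw [hC, Subgroup.mem_centralizer_iff] at hg
    obtain ⟨c, -, hcc, -, h36⟩ := S_sq h hx hy
    have hne : ¬ (y = x⁻¹ ∨ y = x) := fun e => by
      have h36' := h36.2 e
      rw [h36', show S φ x y * S φ x y = 20 from hh] at hcc
      have : (20 : K) • (1 : Module.End K V) = (36 : K) • (1 : Module.End K V) := by
        rw [← hcc, ← Algebra.algebraMap_eq_smul_one, map_ofNat]
      exact absurd (smul_one_inj h this) (by norm_num)
    apply hne
    rcases eq_or_inv_of_commute h hx ho (hg x hxJ) with e | e <;>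
      rcases eq_or_inv_of_commute h hy ho (hg y hyJ) with e' | e' <;> rw [e] at e'
    · exact .inr (inv_injective e').symm
    · exact .inl e'.symm
    · exact .inl (by rw [e', inv_inv])
    · exact .inr e'.symm
  -- the configuration generates everything modulo its centraliser
  have hsup : N ⊔ C = ⊤ := by
    set N' := N.map (QuotientGroup.mk' C) with hN'
    haveI : N'.Normal := Subgroup.Normal.map hNn _ (QuotientGroup.mk'_surjective C)
    have hxN : QuotientGroup.mk' C x ∈ N' := ⟨x, Subgroup.subset_closure hxJ, rfl⟩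
    have h3 : 3 ∣ Nat.card N' := by
      have := Fact.mk Nat.prime_three
      have ho : orderOf (QuotientGroup.mk' C x) = 3 := by
        refine orderOf_eq_prime ?_ fun e => hC3 x ((QuotientGroup.eq_one_iff x).1 e) hx
        rw [← map_pow, ← hx, pow_orderOf_eq_one, map_one]
      have h4 := Subgroup.orderOf_coe (⟨_, hxN⟩ : N')
      rw [← ho, h4]
      exact orderOf_dvd_natCard _
    haveI : Group.IsSolvable ((G ⧸ C) ⧸ N') := by
      by_contra hns'
      have hcard := Subgroup.card_eq_card_quotient_mul_card_subgroup N'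
      have h3' : 3 ≤ Nat.card N' := Nat.le_of_dvd Nat.card_pos h3
      have hle : Nat.card ((G ⧸ C) ⧸ N') * 3 ≤ 120 :=
        (Nat.mul_le_mul_left _ h3').trans (hcard ▸ hidx)
      have := (Cfsg.Agent.S3378.nonsolvable_small _ _ rfl hns' (by omega)).2
      omega
    have h1 := perfect_hom_eq_one hperf ((QuotientGroup.mk' N').comp (QuotientGroup.mk' C))
    rw [eq_top_iff]
    intro g _
    have h2 : QuotientGroup.mk' N' (QuotientGroup.mk' C g) = 1 := DFunLike.congr_fun h1 g
    obtain ⟨n, hn, e⟩ := (QuotientGroup.eq_one_iff _).1 h2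
    have hc : n⁻¹ * g ∈ C := QuotientGroup.eq.1 e
    rw [show g = n * (n⁻¹ * g) by group]
    exact Subgroup.mul_mem_sup hn hc
  haveI hCs : Group.IsSolvable C := by
    by_contra hns'
    obtain ⟨D, hDC, hD, hDperf⟩ := exists_perfect_le C hns'
    haveI : Nontrivial D := (Subgroup.nontrivial_iff_ne_bot D).2 hD
    have hD' : IsFPFRep (φ.comp D.subtype) :=
      ⟨h.nontrivial, fun g hg v hv => h.fpf g (fun e => hg (Subtype.ext e)) v hv⟩
    obtain ⟨d, hd, -⟩ := exists_noncentral_order_three hD' hDperf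
    exact hC3 d (hDC d.2) (by rw [Subgroup.orderOf_coe, hd])
  have hNtop : N = ⊤ := by
    haveI : Group.IsSolvable (G ⧸ N) := by
      refine Group.isSolvable_of_surjective (f := (QuotientGroup.mk' N).comp C.subtype) fun q => ?_
      obtain ⟨g, rfl⟩ := QuotientGroup.mk'_surjective N q
      have hg : g ∈ ((N ⊔ C : Subgroup G) : Set G) := by rw [hsup]; trivial
      rw [Subgroup.normal_mul] at hg
      obtain ⟨n, hn, c, hc, rfl⟩ := hg
      exact ⟨⟨c, hc⟩, by
        show QuotientGroup.mk' N c = QuotientGroup.mk' N (n * c)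
        rw [map_mul, show QuotientGroup.mk' N n = 1 from (QuotientGroup.eq_one_iff n).2 hn, one_mul]⟩
    rw [← QuotientGroup.ker_mk' N, perfect_hom_eq_one hperf (QuotientGroup.mk' N), MonoidHom.ker_one]
  have hle : Nat.card G ≤ 120 := by
    rw [← Subgroup.card_top (G := G), ← hNtop]; exact hN
  -- the central involution
  have h2 : 2 ∣ Nat.card G := by
    obtain ⟨P⟩ : Nonempty (Sylow 2 G) := inferInstance
    by_contra hodd
    apply sylow_two_not_cyclic h hperf P
    have hb : (P : Subgroup G) = ⊥ := by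
      obtain ⟨k, hk⟩ := P.2.exists_card_eq
      refine Subgroup.card_eq_one.1 ?_
      rcases k with _ | k
      · simpa using hk
      · exact absurd (dvd_trans ⟨2 ^ k, by rw [hk, pow_succ]; ring⟩
          (Subgroup.card_subgroup_dvd_card (P : Subgroup G))) hodd
    rw [hb]; infer_instance
  have := Fact.mk Nat.prime_two
  obtain ⟨z, hz⟩ := exists_prime_orderOf_dvd_card' 2 h2
  have hzz : z * z = 1 := by rw [← pow_two, ← hz, pow_orderOf_eq_one]
  have hz1 : z ≠ 1 := fun e => by simp [e] at hz
  set Z := Subgroup.zpowers z with hZ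
  have hZc : Z ≤ Subgroup.center G :=
    Subgroup.zpowers_le.2 (Subgroup.mem_center_iff.2 fun k => h.invol_central hzz hz1 k)
  haveI : Z.Normal := ⟨fun n hn g => by rwa [Subgroup.mem_center_iff.1 (hZc hn) g, mul_inv_cancel_right]⟩
  have hq : ¬ Group.IsSolvable (G ⧸ Z) := fun hs => hns (by
    haveI := hs
    haveI : Group.IsSolvable Z := Group.isSolvable_of_comm fun a b =>
      Subtype.ext (Subgroup.mem_center_iff.1 (hZc b.2) a)
    exact Group.isSolvable_of_ker_le_range Z.subtype (QuotientGroup.mk' Z)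
      (by rw [QuotientGroup.ker_mk', Subgroup.range_subtype]))
  have hcard := Subgroup.card_eq_card_quotient_mul_card_subgroup Z
  rw [hZ, Nat.card_zpowers, hz, ← hZ] at hcard
  have h60 := (Cfsg.Agent.S3378.nonsolvable_small _ _ rfl hq (by omega)).2
  omega

/-- **Zassenhaus.** A non-trivial perfect fixed-point-free group is SL(2,5). -/
theorem nonempty_mulEquiv_SL25 (h : IsFPFRep φ) (hperf : commutator G = ⊤) [Nontrivial G] :
    Nonempty (G ≃* Matrix.SpecialLinearGroup (Fin 2) (ZMod 5)) := by
  have hns : ¬ Group.IsSolvable G := fun hs =>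
    (Group.IsSolvable.commutator_lt_top_of_nontrivial G).ne hperf
  have hcard := card_eq_120 h hperf
  refine Cfsg.Agent.S3378.result.1 G hcard hns fun P => ?_
  have := Fact.mk Nat.prime_two
  rcases cyclic_or_quaternion h (P : Subgroup G) P.2 with hc | ⟨-, n, ⟨e⟩⟩
  · exact absurd hc (sylow_two_not_cyclic h hperf P)
  · have hP : Nat.card (P : Subgroup G) = 8 := by
      rw [P.card_eq_multiplicity, hcard, show (120 : ℕ) = 2 ^ 3 * 15 by norm_num,
        Nat.factorization_mul (by norm_num) (by norm_num), Finsupp.add_apply,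
        Nat.Prime.factorization_pow Nat.prime_two, Finsupp.single_eq_same,
        Nat.factorization_eq_zero_of_not_dvd (show ¬ 2 ∣ 15 by norm_num)]
      norm_num
    rw [Nat.card_congr e.toEquiv, Nat.card_eq_fintype_card, QuaternionGroup.card] at hP
    have hn : n = 1 := Nat.pow_right_injective le_rfl (show 2 ^ n = 2 ^ 1 by omega)
    subst hn
    exact ⟨e⟩

end Cfsg.Agent.FpfZassenhaus
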