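import Mathlib
import Cfsg.Agent.Lib.SolvableRegularStruct75
import Cfsg.Agent.Lib.FpfRep
import Cfsg.Agent.Lib.FpfNonsolvable
import Cfsg.Agent.Lib.PGroupsBasic
import Cfsg.Agent.S4118
import Cfsg.Agent.Lib.RegularLinear

/-!
Groups acting regularly on the non-zero vectors: the minimal non-abelian normal subgroups centralising a
maximal abelian normal subgroup, and the resulting arithmetic.
-/

set_option autoImplicit false
set_option linter.style.haveILetI false

namespace Cfsg.Agent.FpfRegular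

open SolvableRegularLinear75 SolvableRegularStruct75
open scoped commutatorElement

/-- Images of the generators of the quaternion group in `SL(2, 5)`. -/
def q8SLfun : Q8 → Matrix.SpecialLinearGroup (Fin 2) (ZMod 5)
  | QuaternionGroup.a i => ⟨!![2, 0; 0, 3], by decide⟩ ^ i.val
  | QuaternionGroup.xa i => ⟨!![0, 1; 4, 0], by decide⟩ * ⟨!![2, 0; 0, 3], by decide⟩ ^ i.val

theorem q8SLfun_mul : ∀ x y : Q8, q8SLfun (x * y) = q8SLfun x * q8SLfun y := by decide +kernel

theorem q8SLfun_inj : Function.Injective q8SLfun := by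
  unfold Function.Injective; decide +kernel

/-- The quaternion group inside `SL(2, 5)`. -/
def q8SL : Q8 →* Matrix.SpecialLinearGroup (Fin 2) (ZMod 5) where
  toFun := q8SLfun
  map_one' := by decide +kernel
  map_mul' := q8SLfun_mul

theorem numeric_small120 : ∀ p ∈ [7, 11, 13, 17, 19, 23, 29, 31, 37, 41, 43, 47, 53, 59, 61, 67, 71,
    73, 79, 83, 89, 97, 101, 103, 107, 109, 113], ∀ d ∈ [1, 2, 3], ∀ m ∈ [2, 3, 4],
    (p ^ (d * m) - 1) ∣ (p ^ d - 1) * (120 * d) → 120 ∣ p ^ (d * m) - 1 → d = 1 ∧ m = 2 := by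
  decide +kernel

theorem numeric120 {p d m : ℕ} (hp : p.Prime) (hd : 0 < d) (hm : 2 ≤ m)
    (hdvd : (p ^ (d * m) - 1) ∣ (p ^ d - 1) * (120 * d)) (h120 : 120 ∣ p ^ (d * m) - 1) :
    d = 1 ∧ m = 2 := by
  have hpn : ∀ r : ℕ, r ∣ 120 → r ≠ 1 → p ≠ r := by
    rintro r hr hr1 rfl
    have h1 : p ∣ p ^ (d * m) := dvd_pow_self p (Nat.mul_pos hd (by omega)).ne'
    have h2 : 1 ≤ p ^ (d * m) := Nat.one_le_pow _ _ hp.pos
    have h3 := Nat.dvd_sub h1 (hr.trans h120)
    rw [show p ^ (d * m) - (p ^ (d * m) - 1) = 1 by omega] at h3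
    exact hp.not_dvd_one h3
  have hp7 : 7 ≤ p := by
    by_contra hlt
    have := hp.two_le
    interval_cases p <;> first | exact hpn _ (by norm_num) (by norm_num) rfl | norm_num at hp
  obtain ⟨k, rfl⟩ : ∃ k, m = k + 1 := ⟨m - 1, by omega⟩
  have hpd : 2 ≤ p ^ d := le_trans (by omega) (Nat.le_self_pow hd.ne' p)
  have hle := Nat.le_of_dvd (Nat.mul_pos (by omega) (by omega)) hdvd
  have hsplit : p ^ (d * (k + 1)) = p ^ (d * k) * p ^ d := by rw [← pow_add]; ring_nf
  have hb : p ^ (d * k) ≤ 120 * d := by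
    by_contra hlt
    push Not at hlt
    have : (120 * d + 1) * p ^ d ≤ p ^ (d * (k + 1)) := hsplit ▸ Nat.mul_le_mul_right _ hlt
    have e1 : (p ^ d - 1) * (120 * d) + 120 * d = p ^ d * (120 * d) := by
      rw [← add_one_mul, Nat.sub_add_cancel (by omega)]
    have e2 : p ^ (d * (k + 1)) ≤ (p ^ d - 1) * (120 * d) + 1 := by omega
    nlinarith
  have hd3 : d ≤ 3 := by
    by_contra hlt
    have key : ∀ j, 120 * (j + 4) < 7 ^ (j + 4) := by
      intro j
      induction j with
      | zero => norm_num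
      | succ j ih => rw [show j + 1 + 4 = (j + 4) + 1 by omega, pow_succ]; omega
    have h1 := key (d - 4)
    rw [show d - 4 + 4 = d by omega] at h1
    have h2 : 7 ^ d ≤ p ^ (d * k) :=
      le_trans (Nat.pow_le_pow_left hp7 d) (Nat.pow_le_pow_right (by omega) (Nat.le_mul_of_pos_right d (by omega)))
    omega
  have hk3 : d * k ≤ 3 := by
    by_contra hlt
    have : 7 ^ 4 ≤ p ^ (d * k) :=
      le_trans (Nat.pow_le_pow_left hp7 4) (Nat.pow_le_pow_right (by omega) (by omega))
    omega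
  have hkpos : 1 ≤ d * k := Nat.mul_pos hd (by omega)
  have hp120 : p ≤ 120 * d := le_trans (Nat.le_self_pow (by omega) p) hb
  have hp' : p < 120 := by
    rcases Nat.lt_or_ge 1 (d * k) with h2 | h2
    · have : p ^ 2 ≤ p ^ (d * k) := Nat.pow_le_pow_right (by omega) h2
      nlinarith
    · have hd1 : d = 1 := Nat.eq_one_of_mul_eq_one_right (show d * k = 1 by omega)
      subst hd1
      rcases eq_or_lt_of_le hp120 with e | e
      · exact absurd (e ▸ hp : Nat.Prime (120 * 1)) (by norm_num)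
      · omega
  have hk : k ≤ 3 := le_trans (Nat.le_mul_of_pos_left k hd) hk3
  refine numeric_small120 p ?_ d (by simp; omega) (k + 1) (by simp; omega) hdvd h120
  interval_cases p <;> first | decide | norm_num at hp

variable {q : ℕ} [Fact q.Prime] {V : Type*} [AddCommGroup V] [Module (ZMod q) V] [Finite V]
  [Nontrivial V] {G : Type*} [Group G] [Finite G] {ρ : G →* (V ≃ₗ[ZMod q] V)}

/-- A complex representation in which only the identity fixes a vector. -/
theorem exists_rep (h : IsRegularRep ρ) [Nontrivial G] :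
    ∃ (n : ℕ) (ψ : G →* Module.End (AlgebraicClosure ℚ) (Fin n → AlgebraicClosure ℚ)),
      FpfPairs.IsFPFRep ψ := by
  let f : G →* MulAut (Multiplicative V) :=
    { toFun := fun g => AddEquiv.toMultiplicative (ρ g).toAddEquiv
      map_one' := MulEquiv.ext fun v => by
        show Multiplicative.ofAdd (ρ 1 v.toAdd) = v
        rw [map_one]; rfl
      map_mul' := fun g g' => MulEquiv.ext fun v =>
        congrArg Multiplicative.ofAdd (map_mul_apply g g' v.toAdd) }
  refine FpfRep.exists_rep_of_action f fun g hg v hv => ?_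
  by_contra hne
  exact hg (h.free v.toAdd (fun e => hne (congrArg Multiplicative.ofAdd e)) g
    (congrArg Multiplicative.toAdd hv))

/-- A maximal abelian normal subgroup. -/
structure IsMaxAbelian (A : Subgroup G) : Prop where
  normal : A.Normal
  comm : ∀ a ∈ A, ∀ b ∈ A, a * b = b * a
  max : ∀ B : Subgroup G, B.Normal → (∀ a ∈ B, ∀ b ∈ B, a * b = b * a) → A ≤ B → B = A

theorem exists_maxAbelian : ∃ A : Subgroup G, IsMaxAbelian A := by
  obtain ⟨A, ⟨hn, hc⟩, hmax⟩ := Set.Finite.exists_maximal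
    (s := {A : Subgroup G | A.Normal ∧ ∀ a ∈ A, ∀ b ∈ A, a * b = b * a}) (Set.toFinite _)
    ⟨⊥, inferInstance, fun a ha b hb => by rw [Subgroup.mem_bot.mp ha, Subgroup.mem_bot.mp hb]⟩
  exact ⟨A, hn, hc, fun B hBn hBc hle => le_antisymm (hmax ⟨hBn, hBc⟩ hle) hle⟩

/-- The commutators of a normal subgroup which has no smaller non-abelian normal subgroup are central in it. -/
theorem class_two {A : Subgroup G} (hA : IsMaxAbelian A) (N : Subgroup G) [N.Normal]
    (hNle : N ≤ Subgroup.centralizer (A : Set G)) (hsol : Group.IsSolvable N)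
    (hna : ∃ a ∈ N, ∃ b ∈ N, a * b ≠ b * a)
    (hmin : ∀ M : Subgroup G, M.Normal → M ≤ N → (∃ a ∈ M, ∃ b ∈ M, a * b ≠ b * a) → M = N) :
    ∀ a ∈ N, ∀ b ∈ N, ∀ c ∈ N, a * b * a⁻¹ * b⁻¹ * c = c * (a * b * a⁻¹ * b⁻¹) := by
  haveI := hA.normal
  set D := ⁅N, N⁆ with hD
  haveI : D.Normal := Subgroup.commutator_normal N N
  have hDN : D ≤ N := Subgroup.commutator_le_left N N
  have hne : D ≠ N := by
    have hN : N ≠ ⊥ := by
      rintro rfl
      obtain ⟨a, ha, b, hb, hab⟩ := hna
      exact hab (by rw [Subgroup.mem_bot.mp ha, Subgroup.mem_bot.mp hb])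
    haveI : Nontrivial N := (Subgroup.nontrivial_iff_ne_bot N).2 hN
    have hlt := Group.IsSolvable.commutator_lt_top_of_nontrivial N
    intro e
    apply hlt.ne
    apply Subgroup.map_injective N.subtype_injective
    rw [commutator_def, Subgroup.map_commutator, ← MonoidHom.range_eq_map, Subgroup.range_subtype]
    exact e
  have hDc : ∀ a ∈ D, ∀ b ∈ D, a * b = b * a := by
    by_contra hcon
    push Not at hcon
    exact hne (hmin D inferInstance hDN hcon)
  have hsup : D ⊔ A = A := by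
    refine hA.max _ inferInstance ?_ le_sup_right
    have hc : D ⊔ A ≤ Subgroup.centralizer ((D ⊔ A : Subgroup G) : Set G) := by
      have h1 : D ≤ Subgroup.centralizer (A : Set G) := hDN.trans hNle
      refine sup_le ?_ ?_ <;> rw [Subgroup.le_centralizer_iff] <;> refine sup_le ?_ ?_
      · exact fun a ha => Subgroup.mem_centralizer_iff.2 fun b hb => hDc b hb a ha
      · exact Subgroup.le_centralizer_iff.1 h1
      · exact h1
      · exact fun a ha => Subgroup.mem_centralizer_iff.2 fun b hb => hA.comm b hb a ha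
    intro a ha b hb
    exact (Subgroup.mem_centralizer_iff.1 (hc ha) b hb).symm
  intro a ha b hb c hc
  have hd : a * b * a⁻¹ * b⁻¹ ∈ A := by
    rw [← hsup]
    exact Subgroup.mem_sup_left (Subgroup.commutator_mem_commutator ha hb)
  exact Subgroup.mem_centralizer_iff.1 (hNle hc) _ hd

/-- A non-solvable normal subgroup contains the normal `SL(2, 5)`. -/
theorem le_of_nonsolvable {D M N : Subgroup G} [D.Normal] [hMn : M.Normal]
    (eD : D ≃* Matrix.SpecialLinearGroup (Fin 2) (ZMod 5)) (hperf : commutator D = ⊤)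
    (hidx : (D ⊔ M).index = 1 ∨ (D ⊔ M).index = 2)
    (hcyc : ∀ (p : ℕ) [Fact p.Prime] (P : Sylow p M), IsCyclic P)
    (hsol : ¬ Group.IsSolvable N) : D ≤ N := by
  obtain ⟨P, hPN, hPne, hPp⟩ := FpfAut.exists_perfect_le N hsol
  let π := QuotientGroup.mk' D
  haveI : Group.IsSolvable (G ⧸ D) := by
    haveI : IsZGroup M := ⟨fun p hp P => @hcyc p ⟨hp⟩ P⟩
    haveI : Group.IsSolvable (M.map π) :=
      Group.isSolvable_of_surjective (π.subgroupMap_surjective M)
    have hmap : (D ⊔ M).map π = M.map π := by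
      rw [Subgroup.map_sup]
      simp [π]
    haveI : (M.map π).Normal := Subgroup.Normal.map hMn π (QuotientGroup.mk'_surjective D)
    haveI : Group.IsSolvable ((G ⧸ D) ⧸ M.map π) := by
      have hi : (M.map π).index ∣ (D ⊔ M).index := by
        rw [← hmap]
        exact Subgroup.index_map_dvd _ (QuotientGroup.mk'_surjective D)
      rw [Subgroup.index_eq_card] at hi
      have hle : Nat.card ((G ⧸ D) ⧸ M.map π) ≤ 2 := by
        rcases hidx with e | e <;> rw [e] at hi <;> have := Nat.le_of_dvd (by norm_num) hi <;> omega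
      refine Group.isSolvable_of_comm fun x y => ?_
      have hpos := Nat.card_pos (α := (G ⧸ D) ⧸ M.map π)
      rcases (show Nat.card ((G ⧸ D) ⧸ M.map π) = 1 ∨ Nat.card ((G ⧸ D) ⧸ M.map π) = 2 by omega)
        with e | e
      · haveI := (Nat.card_eq_one_iff_unique.1 e).1
        exact Subsingleton.elim _ _
      · haveI := Fact.mk Nat.prime_two
        haveI : IsCyclic ((G ⧸ D) ⧸ M.map π) := isCyclic_of_prime_card e
        letI := IsCyclic.commGroup (α := (G ⧸ D) ⧸ M.map π)
        exact mul_comm x y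
    exact Group.isSolvable_of_ker_le_range (M.map π).subtype (QuotientGroup.mk' (M.map π)) (by simp)
  have h1 := FpfAut.perfect_hom_eq_one hPp (π.comp P.subtype)
  have hPD : P ≤ D := fun x hx => (QuotientGroup.eq_one_iff _).1 (DFunLike.congr_fun h1 ⟨x, hx⟩)
  haveI : Nontrivial P := (Subgroup.nontrivial_iff_ne_bot P).2 hPne
  have hPns : ¬ Group.IsSolvable P := fun _ => by
    have := FpfAut.perfect_hom_eq_one hPp (MonoidHom.id P)
    obtain ⟨a, ha⟩ := exists_ne (1 : P)
    exact ha (DFunLike.congr_fun this a)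
  have hD120 : Nat.card D = 120 := by rw [Nat.card_congr eD.toEquiv, Nat.card_eq_fintype_card]; rfl
  have hdvd : Nat.card P ∣ 120 := hD120 ▸ Subgroup.card_dvd_of_le hPD
  have h60 : Nat.card P = 120 ∨ Nat.card P = 60 := by
    rcases le_or_gt (Nat.card P) 100 with hle | hgt
    · exact .inr (S3378.nonsolvable_small _ P rfl hPns hle).2
    · obtain ⟨c, hc⟩ := hdvd
      have hc1 : c = 1 := by
        rcases c with _ | _ | c
        · omega
        · rfl
        · exfalso; nlinarith
      subst hc1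
      omega
  rcases h60 with e | e
  · exact (Subgroup.eq_of_le_of_card_ge hPD (by omega)) ▸ hPN
  · exfalso
    have hidx : (P.subgroupOf D).index = 2 := by
      have h1 := (P.subgroupOf D).card_mul_index
      rw [Nat.card_congr (Subgroup.subgroupOfEquivOfLe hPD).toEquiv, e, hD120] at h1
      omega
    haveI := Subgroup.normal_of_index_eq_two hidx
    haveI : Group.IsSolvable (D ⧸ P.subgroupOf D) := by
      haveI := Fact.mk Nat.prime_two
      haveI : IsCyclic (D ⧸ P.subgroupOf D) :=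
        isCyclic_of_prime_card (p := 2) (by rw [← Subgroup.index_eq_card]; exact hidx)
      exact Group.isSolvable_of_comm fun x y => (IsCyclic.commGroup (α := D ⧸ P.subgroupOf D)).mul_comm x y
    have h2 := FpfAut.perfect_hom_eq_one hperf (QuotientGroup.mk' (P.subgroupOf D))
    have htop : P.subgroupOf D = ⊤ := eq_top_iff.2 fun x _ =>
      (QuotientGroup.eq_one_iff x).1 (DFunLike.congr_fun h2 x)
    rw [htop, Subgroup.index_top] at hidx
    omega

/-- A minimal non-abelian normal subgroup centralising a maximal abelian normal subgroup. -/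
theorem minimal_shape (h : IsRegularRep ρ) {A : Subgroup G} (hA : IsMaxAbelian A) (N : Subgroup G)
    [N.Normal] (hNle : N ≤ Subgroup.centralizer (A : Set G)) (hna : ∃ a ∈ N, ∃ b ∈ N, a * b ≠ b * a)
    (hmin : ∀ M : Subgroup G, M.Normal → M ≤ N → (∃ a ∈ M, ∃ b ∈ M, a * b ≠ b * a) → M = N) :
    Nonempty (N ≃* Q8) ∨ Nonempty (N ≃* Matrix.SpecialLinearGroup (Fin 2) (ZMod 5)) := by
  by_cases hsol : Group.IsSolvable N
  · obtain ⟨Q, hQN, hQn, ⟨e⟩⟩ := exists_q8 h N (class_two hA N hNle hsol hna hmin) hna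
    have hQ : Q = N := hmin Q hQn hQN
      ⟨_, (e.symm (QuaternionGroup.a 1)).2, _, (e.symm (QuaternionGroup.xa 0)).2, fun he =>
        q8_noncomm (e.symm.injective (by rw [map_mul, map_mul]; exact Subtype.ext he))⟩
    subst hQ
    exact .inl ⟨e⟩
  right
  have hns : ¬ Group.IsSolvable G := fun _ => hsol inferInstance
  haveI : Nontrivial G := by
    obtain ⟨a, -, b, -, hab⟩ := hna
    exact ⟨⟨a * b, b * a, hab⟩⟩
  haveI : Algebra.IsAlgebraic ℚ (AlgebraicClosure ℚ) := AlgebraicClosure.isAlgebraic ℚ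
  obtain ⟨n, ψ, hψ⟩ := exists_rep h
  obtain ⟨D, M, hDn, hMn, ⟨eD⟩, hidx, hdisj, hcomm, hcyc, -, -, -, hperf, -, -⟩ :=
    FpfNonsolvable.structure_thm hψ hns
  haveI := hDn
  haveI := hMn
  have hNd : N = D := by
    have hDN : D ≤ N := le_of_nonsolvable eD hperf hidx hcyc hsol
    refine (hmin D hDn hDN ⟨_, (eD.symm (q8SL (QuaternionGroup.a 1))).2, _,
      (eD.symm (q8SL (QuaternionGroup.xa 0))).2, fun he => q8_noncomm (q8SLfun_inj ?_)⟩).symm
    rw [q8SLfun_mul, q8SLfun_mul]
    exact eD.symm.injective (by rw [map_mul, map_mul]; exact Subtype.ext he)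
  subst hNd
  exact ⟨eD⟩

theorem exists_q8_le {N : Subgroup G}
    (hN : Nonempty (N ≃* Q8) ∨ Nonempty (N ≃* Matrix.SpecialLinearGroup (Fin 2) (ZMod 5))) :
    ∃ Q : Subgroup G, Q ≤ N ∧ Nonempty (Q ≃* Q8) := by
  rcases hN with hN | ⟨⟨e⟩⟩
  · exact ⟨N, le_rfl, hN⟩
  · let f : Q8 →* G := N.subtype.comp (e.symm.toMonoidHom.comp q8SL)
    refine ⟨f.range, by rintro _ ⟨x, rfl⟩; exact (e.symm (q8SL x)).2, ⟨(MonoidHom.ofInjective ?_).symm⟩⟩
    exact N.subtype_injective.comp (e.symm.injective.comp q8SLfun_inj)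

/-- The centralizer of the minimal subgroup meets the centralizer of `A` in `A`. -/
theorem cent_inf (h : IsRegularRep ρ) {A : Subgroup G} (hA : IsMaxAbelian A) (N : Subgroup G) [N.Normal]
    (hNle : N ≤ Subgroup.centralizer (A : Set G)) {Q : Subgroup G} (hQN : Q ≤ N) (e : Q ≃* Q8) :
    Subgroup.centralizer (N : Set G) ⊓ Subgroup.centralizer (A : Set G) = A := by
  haveI := hA.normal
  set S := Subgroup.centralizer (N : Set G) ⊓ Subgroup.centralizer (A : Set G) with hS
  have hAS : A ≤ S := le_inf (Subgroup.le_centralizer_iff.1 hNle)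
    fun a ha => Subgroup.mem_centralizer_iff.2 fun b hb => hA.comm b hb a ha
  haveI : S.Normal := by rw [hS]; infer_instance
  refine hA.max S inferInstance ?_ hAS
  by_contra hcon
  push Not at hcon
  obtain ⟨T, ⟨hTn, hTS, hTna⟩, hmin⟩ := Set.Finite.exists_minimal
    (s := {T : Subgroup G | T.Normal ∧ T ≤ S ∧ ∃ a ∈ T, ∃ b ∈ T, a * b ≠ b * a}) (Set.toFinite _)
    ⟨S, inferInstance, le_rfl, hcon⟩
  haveI := hTn
  have hshape := minimal_shape h hA T (hTS.trans inf_le_right) hTna
    (fun M hM hMT hMna => le_antisymm hMT (hmin ⟨hM, hMT.trans hTS, hMna⟩ hMT))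
  obtain ⟨Q', hQ'T, ⟨e'⟩⟩ := exists_q8_le hshape
  refine q8_exclusive h e e' ((hQ'T.trans (hTS.trans inf_le_left)).trans ?_)
  exact Subgroup.centralizer_le (by exact hQN)

theorem index_centralizer_q8 {N : Subgroup G} [N.Normal] (e : N ≃* Q8) :
    (Subgroup.centralizer (N : Set G)).index ∣ 24 := by
  have hker : (MulAut.conjNormal : G →* MulAut N).ker ≤ Subgroup.centralizer (N : Set G) := fun g hg => by
    refine Subgroup.mem_centralizer_iff.2 fun x hx => ?_
    have := congrArg (fun a : MulAut N => ((a ⟨x, hx⟩ : N) : G)) hg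
    simp only [MulAut.conjNormal_apply, MulAut.one_apply] at this
    exact (mul_inv_eq_iff_eq_mul.1 this).symm
  refine (Subgroup.index_dvd_of_le hker).trans ?_
  rw [Subgroup.index_ker, ← card_mulAut_q8, ← Nat.card_congr (MulAut.congr e).toEquiv]
  exact Subgroup.card_subgroup_dvd_card _

/-- The centralizer of the normal `SL(2, 5)`. -/
theorem sl25_data (h : IsRegularRep ρ) {N : Subgroup G} [N.Normal]
    (eN : N ≃* Matrix.SpecialLinearGroup (Fin 2) (ZMod 5)) :
    ∃ M : Subgroup G, N ⊓ M = ⊥ ∧ (∀ d ∈ N, ∀ m ∈ M, d * m = m * d) ∧ (Nat.card M).Coprime 30 ∧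
      M ≤ Subgroup.centralizer (N : Set G) ∧ Nat.card N = 120 ∧
      ((N ⊔ M).index = 1 ∨ (N ⊔ M).index = 2) ∧
      (Subgroup.centralizer (N : Set G)).index = (N ⊔ M).index * 60 ∧
      Nat.card (Subgroup.centralizer (N : Set G)) = 2 * Nat.card M := by
  have hN120 : Nat.card N = 120 := by rw [Nat.card_congr eN.toEquiv, Nat.card_eq_fintype_card]; rfl
  have hns : ¬ Group.IsSolvable G := fun _ =>
    S4118.not_solvable_SL25 (Group.isSolvable_of_surjective (f := eN.toMonoidHom) eN.surjective)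
  haveI : Nontrivial G := by
    haveI : Nontrivial N := Finite.one_lt_card_iff_nontrivial.1 (by omega)
    exact N.subtype_injective.nontrivial
  haveI : Algebra.IsAlgebraic ℚ (AlgebraicClosure ℚ) := AlgebraicClosure.isAlgebraic ℚ
  obtain ⟨n, ψ, hψ⟩ := exists_rep h
  obtain ⟨D, M, hDn, hMn, ⟨eD⟩, hidx, hdisj, hcomm, hcyc, hcop, hcent, -, hperf, hD120, hZ⟩ :=
    FpfNonsolvable.structure_thm hψ hns
  haveI := hDn
  haveI := hMn
  have hND : N = D := by
    refine (Subgroup.eq_of_le_of_card_ge (le_of_nonsolvable eD hperf hidx hcyc fun hs => ?_) (by omega)).symm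
    exact S4118.not_solvable_SL25 (Group.isSolvable_of_surjective (f := eN.toMonoidHom) eN.surjective)
  subst hND
  have hMC : M ≤ Subgroup.centralizer (N : Set G) := fun m hm =>
    Subgroup.mem_centralizer_iff.2 fun d hd => hcomm d hd m hm
  set C := Subgroup.centralizer (N : Set G) with hC
  haveI : C.Normal := inferInstance
  have hCle : C ≤ N ⊔ M := fun g hg => hcent g fun d hd => (Subgroup.mem_centralizer_iff.1 hg d hd).symm
  have hsup : N ⊔ C = N ⊔ M := le_antisymm (sup_le le_sup_left hCle) (sup_le_sup_left hMC N)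
  have h60 : C.relIndex N = 60 := by
    have h1 := (C.subgroupOf N).card_mul_index
    rw [hZ, hD120] at h1
    unfold Subgroup.relIndex
    omega
  have hiC : C.index = (N ⊔ M).index * 60 := by
    rw [← Subgroup.relIndex_mul_index hCle, ← hsup, Subgroup.relIndex_sup_right, h60, mul_comm]
  refine ⟨M, hdisj, hcomm, hcop, hMC, hD120, hidx, hiC, ?_⟩
  have hNM : Nat.card (N ⊔ M : Subgroup G) = 120 * Nat.card M := by
    rw [← hD120]
    exact PGroupsBasic.card_sup_of_normal hdisj
  have h1 := (N ⊔ M).card_mul_index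
  rw [hNM, ← C.card_mul_index, hiC] at h1
  have hpos : 0 < (N ⊔ M).index := Nat.pos_of_ne_zero Subgroup.index_ne_zero_of_finite
  nlinarith

/-- The arithmetic of a minimal non-abelian normal subgroup centralising a maximal abelian one. -/
theorem master (h : IsRegularRep ρ) {A : Subgroup G} (hA : IsMaxAbelian A) (N : Subgroup G) [N.Normal]
    (hNle : N ≤ Subgroup.centralizer (A : Set G))
    (hN : Nonempty (N ≃* Q8) ∨ Nonempty (N ≃* Matrix.SpecialLinearGroup (Fin 2) (ZMod 5))) :
    Nat.card V = q ^ 2 ∧ Nat.card A ∣ q - 1 ∧ Subgroup.centralizer (N : Set G) = A := by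
  haveI := hA.normal
  haveI hAc : IsCyclic A := isCyclic_abelian h A hA.comm
  obtain ⟨d, hd, ⟨m, hm0, hV, hm1, -⟩, hAd, f, hf⟩ := semilinear h A hAc
  obtain ⟨Q, hQN, ⟨e⟩⟩ := exists_q8_le hN
  have hinf := cent_inf h hA N hNle hQN e
  haveI : NeZero d := ⟨hd.ne'⟩
  have hiCA : (Subgroup.centralizer (A : Set G)).index ∣ d := by
    rw [← hf, Subgroup.index_ker]
    have := Subgroup.card_subgroup_dvd_card f.range
    rwa [Nat.card_congr Multiplicative.toAdd, Nat.card_zmod] at this
  haveI : (Subgroup.centralizer (A : Set G)).Normal := hf ▸ inferInstance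
  set C := Subgroup.centralizer (N : Set G) with hC
  haveI : C.Normal := inferInstance
  have hm : 2 ≤ m := by
    by_contra hlt
    apply q8_noncomm
    apply e.symm.injective
    rw [map_mul, map_mul]
    exact Subtype.ext (hm1 (by omega) _ (hNle (hQN (e.symm _).2)) _ (hNle (hQN (e.symm _).2)))
  have hG := card_eq_pow h hV
  have hAi : A.index ∣ C.index * d := by
    rw [← hinf, ← Subgroup.relIndex_mul_index (inf_le_left : C ⊓ Subgroup.centralizer (A : Set G) ≤ C),
      Subgroup.inf_relIndex_left, mul_comm]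
    exact Nat.mul_dvd_mul dvd_rfl ((Subgroup.relIndex_dvd_index_of_normal _ _).trans hiCA)
  have hkey : ∀ k, C.index ∣ k → q ^ (d * m) - 1 ∣ (q ^ d - 1) * (k * d) := fun k hk => by
    rw [← hG, ← A.card_mul_index]
    exact Nat.mul_dvd_mul hAd (hAi.trans (Nat.mul_dvd_mul hk dvd_rfl))
  have hdm : d = 1 ∧ m = 2 := by
    rcases hN with ⟨⟨eN⟩⟩ | ⟨⟨eN⟩⟩
    · have h8 : 8 ∣ q ^ (d * m) - 1 := by
        rw [← hG, show (8 : ℕ) = Nat.card N by
          rw [Nat.card_congr eN.toEquiv, Nat.card_eq_fintype_card, QuaternionGroup.card]]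
        exact Subgroup.card_subgroup_dvd_card N
      have hq3 : 3 ≤ q := by
        by_contra hlt
        have hq2 : q = 2 := by have := (Fact.out : q.Prime).two_le; omega
        have h1 : 2 ∣ q ^ (d * m) := by rw [hq2]; exact dvd_pow_self 2 (Nat.mul_pos hd hm0).ne'
        have h2 : 1 ≤ q ^ (d * m) := Nat.one_le_pow _ _ (by omega)
        omega
      obtain ⟨rfl, rfl, -⟩ := numeric Fact.out hq3 hd hm (hkey 24 (index_centralizer_q8 eN)) h8
      exact ⟨rfl, rfl⟩
    · obtain ⟨M, -, -, -, -, h120, hidx, hiC, -⟩ := sl25_data h eN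
      refine numeric120 Fact.out hd hm (hkey 120 ?_) (hG ▸ h120 ▸ Subgroup.card_subgroup_dvd_card N)
      rw [hiC]
      rcases hidx with e | e <;> rw [e] <;> norm_num
  obtain ⟨rfl, rfl⟩ := hdm
  rw [one_mul] at hV
  rw [pow_one] at hAd
  refine ⟨hV, hAd, ?_⟩
  have htop : Subgroup.centralizer (A : Set G) = ⊤ := Subgroup.index_eq_one.1 (Nat.dvd_one.1 hiCA)
  rwa [htop, inf_top_eq] at hinf

theorem regular_subtype (H : Subgroup (V ≃ₗ[ZMod q] V))
    (hreg : ∀ v w : V, v ≠ 0 → w ≠ 0 → ∃! h : H, (h : V ≃ₗ[ZMod q] V) v = w) :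
    IsRegularRep H.subtype :=
  ⟨H.subtype_injective, fun v w hv hw => (hreg v w hv hw).exists,
    fun v hv _ hg => RegularLinear.eq_one_of_fix hreg hv hg⟩

theorem maxAbelian_of {A : Subgroup G} (hn : A.Normal) (hc : IsMulCommutative A)
    (hmax : ∀ B : Subgroup G, B.Normal → IsMulCommutative B → A ≤ B → B = A) : IsMaxAbelian A :=
  ⟨hn, fun a ha b hb => congrArg Subtype.val (hc.is_comm.comm ⟨a, ha⟩ ⟨b, hb⟩),
    fun B hB hBc => hmax B hB ⟨⟨fun x y => Subtype.ext (hBc x x.2 y y.2)⟩⟩⟩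

theorem nonabelian_iff {N : Subgroup G} :
    ¬ IsMulCommutative N ↔ ∃ a ∈ N, ∃ b ∈ N, a * b ≠ b * a := by
  constructor
  · intro h
    by_contra hcon
    push Not at hcon
    exact h ⟨⟨fun x y => Subtype.ext (hcon x x.2 y y.2)⟩⟩
  · rintro ⟨a, ha, b, hb, hab⟩ h
    exact hab (congrArg Subtype.val (h.is_comm.comm ⟨a, ha⟩ ⟨b, hb⟩))

omit [Nontrivial V] in
theorem nontrivial_of_irred (H : Subgroup (V ≃ₗ[ZMod q] V))
    (hI : ∀ A : Subgroup H, A.Normal → IsCyclic A → ∃ W : Submodule (ZMod q) V, W ≠ ⊥ ∧ W ≠ ⊤ ∧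
      ∀ a ∈ A, ∀ v ∈ W, ((a : H) : V ≃ₗ[ZMod q] V) v ∈ W) : Nontrivial V := by
  by_contra hnt
  rw [not_nontrivial_iff_subsingleton] at hnt
  obtain ⟨W, hW, -⟩ := hI ⊥ inferInstance inferInstance
  exact hW (Subsingleton.elim _ _)

/-- A semilinear group on a line has an irreducible cyclic normal subgroup. -/
theorem semilinear_irreducible (h : IsRegularRep ρ) {F : Type} [Field F] [Fintype F] (e : V ≃+ F)
    (hsemi : ∀ g : G, ∃ (a : F) (σ : F ≃+* F), ∀ v : V, e (ρ g v) = a * σ (e v)) :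
    ∃ A : Subgroup G, A.Normal ∧ IsCyclic A ∧ ∀ W : Submodule (ZMod q) V,
      (∀ a ∈ A, ∀ v ∈ W, ρ a v ∈ W) → W = ⊥ ∨ W = ⊤ := by
  classical
  haveI : CharP F q := by
    refine (CharP.charP_iff_prime_eq_zero Fact.out).2 ?_
    obtain ⟨v, hv⟩ := e.surjective 1
    rw [← nsmul_one, ← hv, ← map_nsmul, exponent (q := q), map_zero]
  letI := ZMod.algebra F q
  choose a σ hσ using hsemi
  have ha : ∀ g, a g ≠ 0 := fun g hg => by
    obtain ⟨v, hv⟩ := exists_ne (0 : V)
    refine hv ((ρ g).map_eq_zero_iff.1 (e.injective ?_))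
    rw [hσ, hg, zero_mul, map_zero]
  have hmul : ∀ g g', σ (g * g') = σ g * σ g' := fun g g' => by
    have key : ∀ x : F, a (g * g') * σ (g * g') x = a g * (σ g (a g') * σ g (σ g' x)) := fun x => by
      obtain ⟨v, rfl⟩ := e.surjective x
      rw [← hσ, map_mul_apply, hσ, hσ, map_mul]
    have h1 := key 1
    simp only [map_one, mul_one] at h1
    refine RingEquiv.ext fun x => ?_
    have h2 := key x
    rw [h1] at h2
    exact mul_left_cancel₀ (mul_ne_zero (ha g) (fun e0 => ha g' ((map_eq_zero (σ g)).1 e0)))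
      (by rw [h2]; show _ = a g * σ g (a g') * σ g (σ g' x); ring)
  let S : G →* (F ≃+* F) := MonoidHom.mk' σ hmul
  have hlin : ∀ g ∈ S.ker, ∀ v, e (ρ g v) = a g * e v := fun g hg v => by
    rw [hσ, show σ g = 1 from MonoidHom.mem_ker.1 hg]; rfl
  haveI : Finite (F ≃+* F) := Finite.of_injective (fun s => (s : F → F)) DFunLike.coe_injective
  haveI hcyc : IsCyclic S.ker := isCyclic_abelian h S.ker fun x hx y hy => h.inj (LinearEquiv.ext fun v =>
    e.injective (by rw [map_mul_apply, map_mul_apply, hlin x hx, hlin y hy, hlin y hy, hlin x hx]; ring))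
  refine ⟨S.ker, inferInstance, hcyc, fun W hW => ?_⟩
  by_contra hcon
  push Not at hcon
  set n := Module.finrank (ZMod q) V with hn
  set w := Module.finrank (ZMod q) W with hw
  have hwn : w < n := Submodule.finrank_lt hcon.2
  have hw0 : 0 < w := Nat.pos_of_ne_zero fun e0 => hcon.1 (Submodule.finrank_eq_zero.1 e0)
  have hV : Nat.card V = q ^ n := by rw [Module.natCard_eq_pow_finrank (K := ZMod q), Nat.card_zmod]
  have hG : Nat.card G = q ^ n - 1 := by have := card_add_one h; omega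
  -- the index of the linear part
  have hidx : S.ker.index ≤ n := by
    rw [Subgroup.index_ker]
    refine (Subgroup.card_le_card_group S.range).trans ?_
    have hFn : Module.finrank (ZMod q) F = n := by
      refine Nat.pow_right_injective (Fact.out : q.Prime).two_le ?_
      show q ^ Module.finrank (ZMod q) F = q ^ n
      rw [← hV, Nat.card_congr e.toEquiv, Module.natCard_eq_pow_finrank (K := ZMod q) (V := F), Nat.card_zmod]
    rw [← hFn, ← IsGalois.card_aut_eq_finrank (ZMod q) F]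
    refine Nat.card_le_card_of_injective (fun s : F ≃+* F => (AlgEquiv.ofRingEquiv (f := s)
      (fun r => by
        show s.toRingHom (algebraMap (ZMod q) F r) = _
        exact RingHom.congr_fun (RingHom.ext_zmod (s.toRingHom.comp (algebraMap (ZMod q) F)) (algebraMap (ZMod q) F)) r) :
        Gal(F/ZMod q))) fun s t hst => RingEquiv.ext fun x => DFunLike.congr_fun hst x
  -- the linear part divides
  have hAw : Nat.card S.ker ∣ q ^ w - 1 := by
    let _ : MulDistribMulAction S.ker (Multiplicative W) :=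
      { smul := fun g v => Multiplicative.ofAdd ⟨ρ g (v.toAdd : W), hW g g.2 _ (v.toAdd : W).2⟩
        one_smul := fun v => Subtype.ext (by
          show ρ ((1 : S.ker) : G) ((v.toAdd : W) : V) = ((v.toAdd : W) : V)
          rw [Subgroup.coe_one, map_one]; rfl)
        mul_smul := fun x y v => Subtype.ext (map_mul_apply (x : G) y ((v.toAdd : W) : V))
        smul_mul := fun g v u => Subtype.ext ((ρ g).map_add ((v.toAdd : W) : V) ((u.toAdd : W) : V))
        smul_one := fun g => Subtype.ext (ρ g).map_zero }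
    have h1 : Nat.card (Multiplicative W) = q ^ w := by
      rw [show Nat.card (Multiplicative W) = Nat.card W from rfl,
        Module.natCard_eq_pow_finrank (K := ZMod q) (V := W), Nat.card_zmod]
    rw [← h1]
    refine FrobeniusFPF.card_dvd_sub_one fun m hm v hv => ?_
    by_contra hne
    exact hm (Subtype.ext (h.free ((v.toAdd : W) : V) (fun e0 => hne (congrArg Multiplicative.ofAdd (Subtype.ext e0 : (v.toAdd : W) = 0))) m
      (congrArg (fun u : Multiplicative W => ((u.toAdd : W) : V)) hv)))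
  have hAn : Nat.card S.ker ∣ q ^ n - 1 := hG ▸ Subgroup.card_subgroup_dvd_card _
  have hAk := Nat.dvd_gcd hAw hAn
  rw [Nat.pow_sub_one_gcd_pow_sub_one] at hAk
  set k := Nat.gcd w n
  obtain ⟨c, hc⟩ : k ∣ n := Nat.gcd_dvd_right w n
  have hkw : k ≤ w := Nat.le_of_dvd hw0 (Nat.gcd_dvd_left w n)
  have hk0 : 0 < k := Nat.gcd_pos_of_pos_left n hw0
  have hc2 : 2 ≤ c := by
    by_contra hlt
    have : k * c ≤ k * 1 := Nat.mul_le_mul_left k (by omega)
    omega
  have h2k : 2 * k ≤ n := by rw [hc, mul_comm]; exact Nat.mul_le_mul_left k hc2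
  have hq2 : 2 ≤ q := (Fact.out : q.Prime).two_le
  have hmul := S.ker.card_mul_index
  rw [hG] at hmul
  have hkpos : 2 ≤ q ^ k := le_trans hq2 (Nat.le_self_pow hk0.ne' q)
  have hle := Nat.mul_le_mul (Nat.le_of_dvd (by omega) hAk) hidx
  rw [hmul] at hle
  have hsplit : q ^ n = q ^ k * q ^ (n - k) := by rw [← pow_add, Nat.add_sub_cancel' (by omega)]
  have hbig : n ≤ q ^ (n - k) := by
    refine le_trans ?_ (Nat.pow_le_pow_left hq2 _)
    have key : ∀ j, 0 < j → 2 * j ≤ 2 ^ j := by
      intro j hj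
      induction j with
      | zero => omega
      | succ j ih =>
        rcases Nat.eq_zero_or_pos j with rfl | hj'
        · norm_num
        · have := ih hj'; rw [pow_succ]; omega
    exact le_trans (by omega) (key (n - k) (by omega))
  have e1 : (q ^ k - 1) * n + n = q ^ k * n := by rw [← add_one_mul, Nat.sub_add_cancel (by omega)]
  have e2 : q ^ k * n ≤ q ^ n := hsplit ▸ Nat.mul_le_mul_left _ hbig
  omega

/-- The numbers in the non-solvable case. -/
theorem numeric_nonsolvable : ∀ p ∈ List.range 120, p.Prime → ∀ i ∈ [1, 2], 120 * i ∣ p ^ 2 - 1 →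
    Nat.gcd ((p ^ 2 - 1) / (120 * i)) 30 = 1 → 2 * ((p ^ 2 - 1) / (120 * i)) ∣ p - 1 →
    i = 1 ∧ ((p = 11 ∧ (p ^ 2 - 1) / (120 * i) = 1) ∨ (p = 29 ∧ (p ^ 2 - 1) / (120 * i) = 7) ∨
      (p = 59 ∧ (p ^ 2 - 1) / (120 * i) = 29)) := by
  decide +kernel

/-- The non-solvable groups. -/
theorem nonsolvable (h : IsRegularRep ρ) (hns : ¬ Group.IsSolvable G) :
    ∃ (D M : Subgroup G), Nonempty (D ≃* Matrix.SpecialLinearGroup (Fin 2) (ZMod 5)) ∧
      IsCyclic M ∧ Nonempty ((D × M) ≃* G) ∧
      ((Nat.card V = 121 ∧ Nat.card M = 1) ∨ (Nat.card V = 841 ∧ Nat.card M = 7) ∨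
        (Nat.card V = 3481 ∧ Nat.card M = 29)) := by
  obtain ⟨A, hA⟩ := exists_maxAbelian (G := G)
  haveI := hA.normal
  haveI hAc : IsCyclic A := isCyclic_abelian h A hA.comm
  haveI : Nontrivial G := by
    by_contra hnt
    rw [not_nontrivial_iff_subsingleton] at hnt
    exact hns (Group.isSolvable_of_comm fun a b => Subsingleton.elim _ _)
  haveI : Algebra.IsAlgebraic ℚ (AlgebraicClosure ℚ) := AlgebraicClosure.isAlgebraic ℚ
  obtain ⟨n, ψ, hψ⟩ := exists_rep h
  obtain ⟨D, M₀, hDn, -, ⟨eD⟩, -, -, -, -, -, -, -, hperf, -, -⟩ :=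
    FpfNonsolvable.structure_thm hψ hns
  haveI := hDn
  have hDA : D ≤ Subgroup.centralizer (A : Set G) := by
    haveI : Group.IsSolvable (MulAut A) := Group.isSolvable_of_comm fun x y =>
      (IsCyclic.mulAutMulEquiv A).injective (by rw [map_mul, map_mul, mul_comm])
    have h1 := FpfAut.perfect_hom_eq_one hperf
      ((MulAut.conjNormal : G →* MulAut A).comp D.subtype)
    refine fun d hd => Subgroup.mem_centralizer_iff.2 fun x hx => ?_
    have := congrArg (fun s : MulAut A => ((s ⟨x, hx⟩ : A) : G)) (DFunLike.congr_fun h1 ⟨d, hd⟩)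
    simp only [MonoidHom.comp_apply, Subgroup.coe_subtype, MonoidHom.one_apply, MulAut.conjNormal_apply,
      MulAut.one_apply] at this
    exact (mul_inv_eq_iff_eq_mul.1 this).symm
  obtain ⟨hV, hA1, hC⟩ := master h hA D hDA (.inr ⟨eD⟩)
  obtain ⟨M, hdisj, hcomm, hcop, hMC, hD120, hidx, hiC, hCcard⟩ := sl25_data h eD
  rw [hC] at hiC hCcard hMC
  have hG : Nat.card G = q ^ 2 - 1 := by have := card_add_one h; omega
  have hmul := A.card_mul_index
  rw [hiC, hCcard, hG] at hmul
  set i := (D ⊔ M).index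
  have hi : 0 < i ∧ i < 3 := by omega
  have hq0 : 2 ≤ q := (Fact.out : q.Prime).two_le
  have hMdiv : (q ^ 2 - 1) / (120 * i) = Nat.card M :=
    Nat.div_eq_of_eq_mul_left (by omega) (by rw [← hmul]; ring)
  rw [hCcard] at hA1
  have hq120 : q < 120 := by
    obtain ⟨t, ht⟩ := hA1
    have hq' : q = 2 * Nat.card M * t + 1 := by omega
    have hsq : q ^ 2 - 1 = (q - 1) * (q + 1) := by
      rw [mul_comm, ← Nat.sq_sub_sq, one_pow]
    rw [hsq, ht, mul_assoc] at hmul
    have h2 : i * 60 = t * (q + 1) := Nat.eq_of_mul_eq_mul_left (n := 2 * Nat.card M) (by have := Nat.card_pos (α := M); omega) (by linarith)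
    have ht0 : 0 < t := Nat.pos_of_ne_zero fun e0 => by rw [e0] at hq'; omega
    have : q + 1 ≤ i * 60 := h2 ▸ Nat.le_mul_of_pos_left _ ht0
    omega
  obtain ⟨hi1, hcases⟩ := numeric_nonsolvable q (List.mem_range.2 hq120) Fact.out i (by simp; omega)
    ⟨Nat.card M, by rw [← hmul]; ring⟩ (by rw [hMdiv]; exact hcop) (by rw [hMdiv]; exact hA1)
  have htop : D ⊔ M = ⊤ := Subgroup.index_eq_one.1 hi1
  haveI : IsCyclic M := isCyclic_of_injective (Subgroup.inclusion hMC) (Subgroup.inclusion_injective _)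
  refine ⟨D, M, ⟨eD⟩, inferInstance, ?_, ?_⟩
  · let f : D × M →* G := MonoidHom.noncommCoprod D.subtype M.subtype fun d m => hcomm d d.2 m m.2
    have hf : Function.Surjective f := by
      rw [← MonoidHom.range_eq_top, eq_top_iff, ← htop, sup_le_iff]
      exact ⟨fun d hd => ⟨(⟨d, hd⟩, 1), show d * 1 = d from mul_one d⟩,
        fun m hm => ⟨(1, ⟨m, hm⟩), show 1 * m = m from one_mul m⟩⟩
    refine ⟨MulEquiv.ofBijective f (hf.bijective_of_nat_card_le ?_)⟩
    rw [Nat.card_prod, ← PGroupsBasic.card_sup_of_normal hdisj, htop, Subgroup.card_top]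
  · rw [hMdiv] at hcases
    rcases hcases with ⟨rfl, hM⟩ | ⟨rfl, hM⟩ | ⟨rfl, hM⟩
    · exact .inl ⟨hV.trans (by norm_num), hM⟩
    · exact .inr (.inl ⟨hV.trans (by norm_num), hM⟩)
    · exact .inr (.inr ⟨hV.trans (by norm_num), hM⟩)

end Cfsg.Agent.FpfRegular
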