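import Cfsg.Agent.Lib.FpfPairs

/-!
A tetrahedral configuration of elements of order three in a fixed-point-free group, and the position
of a further element of order three with respect to it.
-/

set_option autoImplicit false

namespace Cfsg.Agent.FpfTet

open FpfPairs

section quaternionTriple

variable {R : Type*} [Ring R]

/-- Three elements multiplying like the quaternion units. -/
structure QTriple (I J U : R) : Prop where
  II : I * I = -1
  JJ : J * J = -1
  IJ : I * J = U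
  JI : J * I = -U
  two : ∀ r : R, r + r = 0 → r = 0

variable {I J U : R}

theorem QTriple.IL (q : QTriple I J U) : I * U = -J := by rw [← q.IJ, ← mul_assoc, q.II, neg_one_mul]
theorem QTriple.LJ (q : QTriple I J U) : U * J = -I := by rw [← q.IJ, mul_assoc, q.JJ, mul_neg_one]
theorem QTriple.LI (q : QTriple I J U) : U * I = J := by
  rw [← q.IJ, mul_assoc, q.JI, mul_neg, q.IL, neg_neg]
theorem QTriple.JL (q : QTriple I J U) : J * U = I := by
  rw [← q.IJ, ← mul_assoc, q.JI, neg_mul, q.LJ, neg_neg]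
theorem QTriple.LL (q : QTriple I J U) : U * U = -1 := by
  rw [← q.IJ, mul_assoc, q.IJ, q.JL, q.II]

/-- Commutes with the three units. -/
def Com (I J : R) (e : R) : Prop := e * I = I * e ∧ e * J = J * e

theorem Com.third (q : QTriple I J U) {e : R} (h : Com I J e) : e * U = U * e := by
  rw [← q.IJ, ← mul_assoc, h.1, mul_assoc, h.2, mul_assoc]

theorem com_intCast (n : ℤ) : Com I J (n : R) := ⟨(Int.cast_commute n I).eq, (Int.cast_commute n J).eq⟩

theorem com_zero : Com I J (0 : R) := ⟨by simp, by simp⟩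

theorem Com.add {e f : R} (he : Com I J e) (hf : Com I J f) : Com I J (e + f) :=
  ⟨by rw [add_mul, mul_add, he.1, hf.1], by rw [add_mul, mul_add, he.2, hf.2]⟩

theorem Com.neg {e : R} (he : Com I J e) : Com I J (-e) :=
  ⟨by rw [neg_mul, mul_neg, he.1], by rw [neg_mul, mul_neg, he.2]⟩

theorem Com.sub {e f : R} (he : Com I J e) (hf : Com I J f) : Com I J (e - f) :=
  sub_eq_add_neg e f ▸ he.add hf.neg

theorem Com.mul {e f : R} (he : Com I J e) (hf : Com I J f) : Com I J (e * f) :=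
  ⟨by rw [mul_assoc, hf.1, ← mul_assoc, he.1, mul_assoc],
    by rw [mul_assoc, hf.2, ← mul_assoc, he.2, mul_assoc]⟩

/-- A linear combination of the units. -/
def qv (I J U e0 e1 e2 e3 : R) : R := e0 + e1 * I + e2 * J + e3 * U

theorem qv_mul (q : QTriple I J U) {f0 f1 f2 f3 : R} (e0 e1 e2 e3 : R)
    (h0 : Com I J f0) (h1 : Com I J f1) (h2 : Com I J f2) (h3 : Com I J f3) :
    qv I J U e0 e1 e2 e3 * qv I J U f0 f1 f2 f3
      = qv I J U (e0 * f0 - e1 * f1 - e2 * f2 - e3 * f3)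
          (e0 * f1 + e1 * f0 + e2 * f3 - e3 * f2)
          (e0 * f2 - e1 * f3 + e2 * f0 + e3 * f1)
          (e0 * f3 + e1 * f2 - e2 * f1 + e3 * f0) := by
  have hm : ∀ {f : R}, Com I J f → (I * f = f * I) ∧ (J * f = f * J) ∧ (U * f = f * U) ∧
      (∀ r, I * (f * r) = f * (I * r)) ∧ (∀ r, J * (f * r) = f * (J * r)) ∧
      (∀ r, U * (f * r) = f * (U * r)) := fun h =>
    ⟨h.1.symm, h.2.symm, (h.third q).symm, fun r => by rw [← mul_assoc, ← h.1, mul_assoc],
      fun r => by rw [← mul_assoc, ← h.2, mul_assoc], fun r => by rw [← mul_assoc, ← h.third q, mul_assoc]⟩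
  obtain ⟨a0, b0, c0, d0, g0, k0⟩ := hm h0
  obtain ⟨a1, b1, c1, d1, g1, k1⟩ := hm h1
  obtain ⟨a2, b2, c2, d2, g2, k2⟩ := hm h2
  obtain ⟨a3, b3, c3, d3, g3, k3⟩ := hm h3
  unfold qv
  simp only [mul_add, add_mul, sub_mul, mul_assoc, a0, b0, c0, d1, g1, k1, d2, g2, k2, d3, g3, k3,
    q.II, q.JJ, q.LL, q.IJ, q.JI, q.JL, q.LJ, q.LI, q.IL, mul_neg, mul_one]
  abel

theorem qv_add (e0 e1 e2 e3 f0 f1 f2 f3 : R) :
    qv I J U e0 e1 e2 e3 + qv I J U f0 f1 f2 f3
      = qv I J U (e0 + f0) (e1 + f1) (e2 + f2) (e3 + f3) := by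
  unfold qv; simp only [add_mul]; abel

theorem qv_neg (e0 e1 e2 e3 : R) :
    -qv I J U e0 e1 e2 e3 = qv I J U (-e0) (-e1) (-e2) (-e3) := by
  unfold qv; simp only [neg_mul]; abel

theorem qv_intCast (n : ℤ) : qv I J U (n : R) 0 0 0 = (n : R) := by simp [qv]

theorem qv_eq_zero (q : QTriple I J U) {e0 e1 e2 e3 : R} (h0 : Com I J e0) (h1 : Com I J e1)
    (h2 : Com I J e2) (h3 : Com I J e3) (h : qv I J U e0 e1 e2 e3 = 0) :
    e0 = 0 ∧ e1 = 0 ∧ e2 = 0 ∧ e3 = 0 := by
  have hone : ∀ {n : R}, n = 1 ∨ n = 0 → Com I J n := by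
    rintro n (rfl | rfl)
    · exact ⟨by simp, by simp⟩
    · exact com_zero
  have hI : qv I J U 0 1 0 0 * qv I J U e0 e1 e2 e3 * qv I J U 0 1 0 0 = 0 := by rw [h]; simp
  rw [qv_mul q _ _ _ _ h0 h1 h2 h3, qv_mul q _ _ _ _ (hone (.inr rfl)) (hone (.inl rfl))
    (hone (.inr rfl)) (hone (.inr rfl))] at hI
  have hJ : qv I J U 0 0 1 0 * qv I J U e0 e1 e2 e3 * qv I J U 0 0 1 0 = 0 := by rw [h]; simp
  rw [qv_mul q _ _ _ _ h0 h1 h2 h3, qv_mul q _ _ _ _ (hone (.inr rfl)) (hone (.inr rfl))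
    (hone (.inl rfl)) (hone (.inr rfl))] at hJ
  simp only [zero_mul, mul_zero, one_mul, mul_one, zero_sub, sub_zero, add_zero, zero_add, neg_neg,
    qv, sub_eq_add_neg, neg_zero] at hI hJ
  unfold qv at h
  have s1 : (e2 * J + e3 * U) + (e2 * J + e3 * U) = 0 := by
    calc _ = (e0 + e1 * I + e2 * J + e3 * U) + (-e0 + -e1 * I + e2 * J + e3 * U) := by
          simp only [neg_mul]; abel
      _ = 0 := by rw [h, hI, add_zero]
  have s1' := q.two _ s1
  have s2 : (e1 * I + e3 * U) + (e1 * I + e3 * U) = 0 := by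
    calc _ = (e0 + e1 * I + e2 * J + e3 * U) + (-e0 + e1 * I + -e2 * J + e3 * U) := by
          simp only [neg_mul]; abel
      _ = 0 := by rw [h, hJ, add_zero]
  have s2' := q.two _ s2
  have t1 : e0 + e1 * I = 0 := by
    rw [add_assoc (e0 + e1 * I), s1', add_zero] at h
    exact h
  have t2 : e0 + e2 * J = 0 := by
    rw [show e0 + e1 * I + e2 * J + e3 * U = e0 + e2 * J + (e1 * I + e3 * U) by abel, s2', add_zero] at h
    exact h
  have he0 : e0 = 0 := by
    have key : J * (e0 + e1 * I) * J = -e0 + e1 * I := by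
      simp only [mul_add, add_mul, mul_assoc, ← h0.2, ← mul_assoc J e1, ← h1.2]
      simp only [mul_assoc, q.JJ, q.IJ, q.JL, mul_neg, mul_one]
    rw [t1, mul_zero, zero_mul] at key
    refine q.two _ ?_
    calc e0 + e0 = (e0 + e1 * I) - (-e0 + e1 * I) := by abel
      _ = 0 := by rw [t1, ← key, sub_zero]
  rw [he0, zero_add] at t1 t2
  have he1 : e1 = 0 := by
    have := congrArg (· * I) t1
    simpa [mul_assoc, q.II] using this
  have he2 : e2 = 0 := by
    have := congrArg (· * J) t2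
    simpa [mul_assoc, q.JJ] using this
  rw [he1, zero_mul, zero_add] at s2'
  exact ⟨he0, he1, he2, by
    have := congrArg (· * U) s2'
    simpa [mul_assoc, q.LL] using this⟩

theorem qv_inj (q : QTriple I J U) {e0 e1 e2 e3 f0 f1 f2 f3 : R} (h0 : Com I J e0) (h1 : Com I J e1)
    (h2 : Com I J e2) (h3 : Com I J e3) (g0 : Com I J f0) (g1 : Com I J f1)
    (g2 : Com I J f2) (g3 : Com I J f3) (h : qv I J U e0 e1 e2 e3 = qv I J U f0 f1 f2 f3) :
    e0 = f0 ∧ e1 = f1 ∧ e2 = f2 ∧ e3 = f3 := by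
  have := qv_eq_zero q (h0.sub g0) (h1.sub g1) (h2.sub g2) (h3.sub g3) (by
    rw [← sub_eq_zero.2 h]; unfold qv; simp only [sub_mul]; abel)
  simpa [sub_eq_zero] using this

theorem exists_decomp {K : Type*} [Field K] [CharZero K] [Algebra K R] (q : QTriple I J U) (M : R) :
    ∃ e0 e1 e2 e3 : R, Com I J e0 ∧ Com I J e1 ∧ Com I J e2 ∧ Com I J e3 ∧
      M = qv I J U e0 e1 e2 e3 := by
  let C : R → R := fun N => N - I * N * I - J * N * J - U * N * U
  have hII : ∀ r, I * (I * r) = -r := fun r => by rw [← mul_assoc, q.II, neg_one_mul]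
  have hJJ : ∀ r, J * (J * r) = -r := fun r => by rw [← mul_assoc, q.JJ, neg_one_mul]
  have hIJ : ∀ r, I * (J * r) = U * r := fun r => by rw [← mul_assoc, q.IJ]
  have hJI : ∀ r, J * (I * r) = -(U * r) := fun r => by rw [← mul_assoc, q.JI, neg_mul]
  have hIL : ∀ r, I * (U * r) = -(J * r) := fun r => by rw [← mul_assoc, q.IL, neg_mul]
  have hJL : ∀ r, J * (U * r) = I * r := fun r => by rw [← mul_assoc, q.JL]
  have hcom : ∀ N, Com I J (C N) := fun N => by
    constructor <;>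
    · simp only [C, mul_sub, sub_mul, mul_assoc, hII, hJJ, hIJ, hJI, hIL, hJL, q.II, q.JJ, q.IJ,
        q.JI, q.IL, q.JL, q.LI, q.LJ, mul_neg, mul_one, neg_neg]
      abel
  have hs : ∀ N, Com I J ((4⁻¹ : K) • C N) := fun N =>
    ⟨by rw [smul_mul_assoc, mul_smul_comm, (hcom N).1], by rw [smul_mul_assoc, mul_smul_comm, (hcom N).2]⟩
  refine ⟨_, _, _, _, hs M, (hs (M * I)).neg, (hs (M * J)).neg, (hs (M * U)).neg, ?_⟩
  have key : qv I J U (C M) (-C (M * I)) (-C (M * J)) (-C (M * U)) = (4 : K) • M := by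
    simp only [qv, C, neg_mul, sub_mul, mul_assoc, q.II, q.JJ, q.LL, q.IJ, q.JI, q.IL, q.JL, q.LI,
      q.LJ, mul_neg, mul_one, neg_neg]
    rw [show (4 : K) = 1 + 1 + 1 + 1 by norm_num, add_smul, add_smul, add_smul, one_smul]
    abel
  conv_lhs => rw [← inv_smul_smul₀ (show (4 : K) ≠ 0 by norm_num) M, ← key]
  simp [qv, smul_add, smul_mul_assoc]

end quaternionTriple

variable {G K V : Type*} [Group G] [Field K] [CharZero K] [AddCommGroup V] [Module K V]
  {φ : G →* Module.End K V}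

omit [CharZero K] in
theorem cast_scalar (n : ℤ) : (n : Module.End K V) = algebraMap K (Module.End K V) (n : K) :=
  (map_intCast _ n).symm

theorem cancel_four {M N : Module.End K V} (e : 4 * M = 4 * N) : M = N := by
  have h4 : (4 : Module.End K V) = algebraMap K (Module.End K V) 4 := (map_ofNat _ 4).symm
  rw [h4, ← Algebra.smul_def, ← Algebra.smul_def] at e
  exact smul_right_injective _ (by norm_num : (4 : K) ≠ 0) e

theorem cancel_two {M : Module.End K V} (e : M + M = 0) : M = 0 := by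
  rw [← two_smul K] at e
  exact (smul_eq_zero.1 e).resolve_left (by norm_num)

theorem P_injective (h : IsFPFRep φ) : Function.Injective (P φ) := by
  intro g g' e
  apply h.injective
  have e' : 2 * φ g = 2 * φ g' := add_right_cancel e
  rw [two_mul, two_mul] at e'
  exact sub_eq_zero.1 (cancel_two (by rw [← sub_eq_zero.2 e']; abel))

/-- An element of order three and one of order four in tetrahedral position. -/
structure IsTet (φ : G →* Module.End K V) (x a : G) : Prop where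
  hx : orderOf x = 3
  sq : φ a * φ a = -1
  rel : φ x * φ a = 1 + φ a * (φ x * φ x)

omit [CharZero K] in
theorem map_inv_of_sq {a : G} (h : φ a * φ a = -1) : φ a⁻¹ = -φ a := by
  calc φ a⁻¹ = -(φ a⁻¹ * (φ a * φ a)) := by rw [h, mul_neg, mul_one, neg_neg]
    _ = -φ a := by rw [← mul_assoc, ← map_mul, inv_mul_cancel, map_one, one_mul]

/-- The three units attached to a tetrahedral pair. -/
abbrev uI (φ : G →* Module.End K V) (a : G) : Module.End K V := φ a
/-- The second unit. -/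
abbrev uJ (φ : G →* Module.End K V) (x a : G) : Module.End K V := φ (x * a * x⁻¹)
/-- The third unit. -/
abbrev uL (φ : G →* Module.End K V) (x a : G) : Module.End K V := φ (a * (x * a * x⁻¹))

theorem isTet_of_low (h : IsFPFRep φ) {x y : G} (hx : orderOf x = 3) (hy : orderOf y = 3)
    (hs : S φ x y = -2) : IsTet φ x (x * y) := by
  have e := h.S_eq hx hy
  rw [hs] at e
  have h0 : φ (x * y) + φ (x * y)⁻¹ = 0 := by
    refine cancel_four ?_
    rw [mul_zero]
    calc 4 * (φ (x * y) + φ (x * y)⁻¹) = (4 * (φ (x * y) + φ (x * y)⁻¹) - 2) + 2 := by abel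
      _ = 0 := by rw [← e]; abel
  have hinv : φ (x * y)⁻¹ = -φ (x * y) := eq_neg_of_add_eq_zero_right h0
  have hsq : φ (x * y) * φ (x * y) = -1 := by
    have : φ (x * y) * φ (x * y)⁻¹ = 1 := by rw [← map_mul, mul_inv_cancel, map_one]
    rw [hinv, mul_neg] at this
    rw [← neg_neg (φ (x * y) * φ (x * y)), this]
  refine ⟨hx, hsq, ?_⟩
  have hY : φ y = φ x * φ x * φ (x * y) := by
    rw [← map_mul, ← map_mul, ← inv_eq_sq hx, inv_mul_cancel_left]
  have hY' : φ y⁻¹ = -(φ (x * y) * φ x) := by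
    rw [show y⁻¹ = (x * y)⁻¹ * x by group, map_mul, hinv, neg_mul]
  have hA : φ (x * y) * φ x = 1 + φ x * φ x * φ (x * y) := by
    rw [← hY]
    have h2 := h.map_inv hy
    rw [hY'] at h2
    calc φ (x * y) * φ x = -(-(φ (x * y) * φ x)) := (neg_neg _).symm
      _ = 1 + φ y := by rw [h2]; abel
  have hx3 : φ x * (φ x * φ x) = 1 := by
    rw [← map_mul, ← inv_eq_sq hx, ← map_mul, mul_inv_cancel, map_one]
  calc φ x * φ (x * y) = φ x * (φ (x * y) * φ x) * (φ x * φ x) := by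
        rw [mul_assoc, mul_assoc (φ (x * y)), hx3, mul_one]
    _ = (φ x + φ x * (φ x * φ x) * φ (x * y)) * (φ x * φ x) := by
        rw [hA, mul_add, mul_one, mul_assoc (φ x) (φ x * φ x)]
    _ = _ := by rw [add_mul, hx3, one_mul]

theorem IsTet.J_eq (h : IsFPFRep φ) {x a : G} (T : IsTet φ x a) :
    uJ φ x a = φ x * φ x + φ a * φ x := by
  have hx4 : φ x * φ x * (φ x * φ x) = φ x := by
    rw [← map_mul, ← inv_eq_sq T.hx, ← map_mul, show x⁻¹ * x⁻¹ = (x * x)⁻¹ by group,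
      ← inv_eq_sq T.hx, inv_inv]
  rw [uJ, map_mul, map_mul, T.rel, inv_eq_sq T.hx, map_mul, add_mul, one_mul, mul_assoc, hx4]

theorem IsTet.L_eq (h : IsFPFRep φ) {x a : G} (T : IsTet φ x a) :
    uL φ x a = φ (x * (x * a * x⁻¹) * x⁻¹) := by
  have hJ : φ (x * a * x⁻¹) = φ x * φ x + φ a * φ x := T.J_eq h
  have hx3 : φ x * (φ x * φ x) = 1 := by
    rw [← map_mul, ← inv_eq_sq T.hx, ← map_mul, mul_inv_cancel, map_one]
  have hxsq : φ x * φ x = -φ x - 1 := by
    rw [← map_mul, ← inv_eq_sq T.hx, h.map_inv T.hx]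
  have hxx : φ x⁻¹ = φ x * φ x := by rw [inv_eq_sq T.hx, map_mul]
  have rhs : φ (x * (x * a * x⁻¹) * x⁻¹) = -φ x + φ a * (φ x * φ x) := by
    rw [map_mul, map_mul _ x (x * a * x⁻¹), hJ, hxx, mul_add, hx3, add_mul, one_mul,
      ← mul_assoc (φ x) (φ a), T.rel]
    have h3' : ∀ r, φ x * (φ x * (φ x * r)) = r := fun r => by
      rw [← mul_assoc (φ x) (φ x) r, ← mul_assoc, hx3, one_mul]
    simp only [add_mul, one_mul, mul_assoc, h3', hx3]
    rw [← add_assoc]; congr 1
    rw [hxsq]; abel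
  rw [rhs, uL, map_mul, hJ, mul_add, ← mul_assoc (φ a) (φ a),
    T.sq, neg_one_mul, add_comm]

theorem IsTet.qtriple (h : IsFPFRep φ) {x a : G} (T : IsTet φ x a) :
    QTriple (uI φ a) (uJ φ x a) (uL φ x a) := by
  have hc : ∀ g : G, φ g * φ g = -1 → φ (x * g * x⁻¹) * φ (x * g * x⁻¹) = -1 := by
    intro g hg
    rw [← map_mul, show x * g * x⁻¹ * (x * g * x⁻¹) = x * (g * g) * x⁻¹ by group, map_mul, map_mul,
      map_mul, hg, mul_neg_one, neg_mul, ← map_mul, mul_inv_cancel, map_one]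
  have hJJ := hc a T.sq
  have hLL : uL φ x a * uL φ x a = -1 := by rw [T.L_eq h]; exact hc _ hJJ
  refine ⟨T.sq, hJJ, (map_mul φ _ _).symm, ?_, fun r hr => cancel_two hr⟩
  have e1 : φ (a * (x * a * x⁻¹))⁻¹ = -uL φ x a := map_inv_of_sq hLL
  rw [← e1, mul_inv_rev, map_mul, map_inv_of_sq hJJ, map_inv_of_sq T.sq, neg_mul_neg]

theorem IsTet.P_x (h : IsFPFRep φ) {x a : G} (T : IsTet φ x a) :
    P φ x = qv (uI φ a) (uJ φ x a) (uL φ x a) 0 (-1) (-1) (-1) := by
  have hJ := T.J_eq h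
  have hcube := h.cube T.hx
  have hL : uL φ x a = -φ x + φ a * (φ x * φ x) := by
    rw [uL, map_mul, show φ (x * a * x⁻¹) = uJ φ x a from rfl, hJ, mul_add, ← mul_assoc (φ a) (φ a),
      T.sq, neg_one_mul, add_comm]
  simp only [qv, neg_mul, one_mul, zero_add]
  rw [hJ, hL]
  have hA : φ a + φ a * φ x + φ a * (φ x * φ x) = φ a * (φ x * φ x + φ x + 1) := by noncomm_ring
  rw [hcube, mul_zero] at hA
  have hX : φ x * φ x = -φ x - 1 := by
    rw [eq_sub_iff_add_eq, eq_neg_iff_add_eq_zero, ← hcube]; abel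
  calc P φ x = -(φ x * φ x + -φ x) - (φ a + φ a * φ x + φ a * (φ x * φ x)) := by
        rw [hA, sub_zero, P, hX]; noncomm_ring
    _ = _ := by abel

/-- Conjugation by the elements of a tetrahedral pair. -/
theorem IsTet.conj_a (h : IsFPFRep φ) {x a : G} (T : IsTet φ x a) (g : G)
    {e0 e1 e2 e3 : Module.End K V} (c0 : Com (uI φ a) (uJ φ x a) e0) (c1 : Com (uI φ a) (uJ φ x a) e1)
    (c2 : Com (uI φ a) (uJ φ x a) e2) (c3 : Com (uI φ a) (uJ φ x a) e3)
    (hg : P φ g = qv (uI φ a) (uJ φ x a) (uL φ x a) e0 e1 e2 e3) :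
    P φ (a * g * a⁻¹) = qv (uI φ a) (uJ φ x a) (uL φ x a) e0 e1 (-e2) (-e3) := by
  have q := T.qtriple h
  have eI : φ a = qv (uI φ a) (uJ φ x a) (uL φ x a) 0 1 0 0 := by simp [qv]
  rw [P_conj, hg, map_inv_of_sq T.sq, eI, qv_neg, qv_mul q _ _ _ _ c0 c1 c2 c3,
    qv_mul q _ _ _ _ (by simpa using com_zero) (by simpa using (com_intCast (R := Module.End K V) (-1)))
      (by simpa using com_zero) (by simpa using com_zero)]
  congr 1 <;> noncomm_ring

theorem IsTet.conj_x (h : IsFPFRep φ) {x a : G} (T : IsTet φ x a) (g : G)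
    {e0 e1 e2 e3 : Module.End K V} (c0 : Com (uI φ a) (uJ φ x a) e0) (c1 : Com (uI φ a) (uJ φ x a) e1)
    (c2 : Com (uI φ a) (uJ φ x a) e2) (c3 : Com (uI φ a) (uJ φ x a) e3)
    (hg : P φ g = qv (uI φ a) (uJ φ x a) (uL φ x a) e0 e1 e2 e3) :
    P φ (x * g * x⁻¹) = qv (uI φ a) (uJ φ x a) (uL φ x a) e0 e3 e1 e2 := by
  have q := T.qtriple h
  have hPx : 2 * φ x = qv (uI φ a) (uJ φ x a) (uL φ x a) (-1) (-1) (-1) (-1) := by
    have := T.P_x h
    unfold P at this
    rw [eq_sub_of_add_eq this]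
    simp only [qv]; abel
  have hPx' : 2 * φ x⁻¹ = qv (uI φ a) (uJ φ x a) (uL φ x a) (-1) 1 1 1 := by
    rw [h.map_inv T.hx, mul_sub, mul_neg, hPx]
    simp only [qv]; noncomm_ring
  apply cancel_four
  have : 4 * P φ (x * g * x⁻¹) = (2 * φ x) * P φ g * (2 * φ x⁻¹) := by rw [P_conj]; noncomm_ring
  have hm : Com (uI φ a) (uJ φ x a) (-1 : Module.End K V) := by simpa using com_intCast (-1)
  have hp : Com (uI φ a) (uJ φ x a) (1 : Module.End K V) := by simpa using com_intCast 1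
  rw [this, hg, hPx, hPx', qv_mul q _ _ _ _ c0 c1 c2 c3, qv_mul q _ _ _ _ hm hp hp hp]
  simp only [qv]
  noncomm_ring

end Cfsg.Agent.FpfTet
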