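import Mathlib

/-!
# Odd order groups under an automorphism of order three acting quadratically

Two elements `x`, `y` of a ring of characteristic two with `x² = x + 1`, `y² = y + 1` generate a
quaternion-like algebra over the centre. If `z = y x²` and `z' = x y x` have commuting products
`z z'`, `z' z`, then `z²⁴ = 1`. Hence a group of odd order prime to three, faithful on a module of
characteristic two on which an automorphism `σ` acts by such an `x`, is centralised by `σ`.
-/

set_option autoImplicit false

open scoped commutatorElement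
set_option linter.unusedSimpArgs false
set_option linter.style.haveILetI false

namespace Cfsg.Agent.FpfThree63

universe u v

section Ring

variable {R : Type v} [Ring R]

set_option maxHeartbeats 1600000 in
theorem quad_pow (h2 : ∀ a : R, a + a = 0) {x y : R} (hx : x * x = x + 1) (hy : y * y = y + 1)
    (hc : Commute ((y * (x * x)) * (x * y * x)) ((x * y * x) * (y * (x * x)))) :
    (y * (x * x)) ^ 24 = 1 := by
  rcases subsingleton_or_nontrivial R with hR | hR
  · exact Subsingleton.elim _ _
  haveI : CharP R 2 := CharTwo.of_one_ne_zero_of_two_eq_zero one_ne_zero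
    (by rw [← one_add_one_eq_two, h2])
  have h2' : ∀ a b : R, a + (a + b) = b := fun a b => by rw [← add_assoc, h2, zero_add]
  have hev : ∀ (n : ℕ) (a : R), n % 2 = 0 → n • a = 0 := fun n a hn => by
    obtain ⟨k, rfl⟩ := Nat.dvd_of_mod_eq_zero hn
    rw [mul_nsmul, two_nsmul, h2, smul_zero]
  have hevz : ∀ (n : ℤ) (a : R), n % 2 = 0 → n • a = 0 := fun n a hn => by
    obtain ⟨k, rfl⟩ := Int.dvd_of_emod_eq_zero hn
    rw [mul_comm, mul_zsmul, two_zsmul, h2, smul_zero]
  set s := x * y + y * x + x + y with hs
  have hxs : x * s = s * x := by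
    simp only [hs, mul_add, add_mul, ← mul_assoc, hx]
    simp only [mul_assoc, hx, mul_add, mul_one, one_mul, add_mul]
    rw [← sub_eq_zero]
    abel_nf
    simp [hev, hevz]
  have hys : y * s = s * y := by
    simp only [hs, mul_add, add_mul, ← mul_assoc, hy]
    simp only [mul_assoc, hy, mul_add, mul_one, one_mul, add_mul]
    rw [← sub_eq_zero]
    abel_nf
    simp [hev, hevz]
  have hyx : y * x = s + (x * y + (x + y)) := by
    calc y * x = y * x + ((x * y + x + y) + (x * y + x + y)) := by rw [h2, add_zero]
      _ = (x * y + y * x + x + y) + (x * y + (x + y)) := by abel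
      _ = _ := by rw [← hs]
  have hxx' : ∀ a : R, x * (x * a) = x * a + a := fun a => by rw [← mul_assoc, hx, add_mul, one_mul]
  have hyy' : ∀ a : R, y * (y * a) = y * a + a := fun a => by rw [← mul_assoc, hy, add_mul, one_mul]
  have hyx' : ∀ a : R, y * (x * a) = s * a + (x * (y * a) + (x * a + y * a)) := fun a => by
    rw [← mul_assoc, hyx]; simp only [add_mul, mul_assoc]
  have hxs' : ∀ a : R, x * (s * a) = s * (x * a) := fun a => by rw [← mul_assoc, hxs, mul_assoc]
  have hys' : ∀ a : R, y * (s * a) = s * (y * a) := fun a => by rw [← mul_assoc, hys, mul_assoc]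
  set e := s * x + (y + x * y) with he
  set z := y * (x * x) with hz
  set z' := x * y * x with hz'
  set m := z * z' with hm
  set m' := z' * z with hm'
  -- the identities in the algebra
  have hzq : z * z = s * z + 1 := by
    simp only [hz, hx, hxx', hyy', hy, hyx, hyx', hxs, hxs', hys, hys', mul_add, add_mul, mul_one,
      one_mul, mul_assoc]
    rw [← sub_eq_zero]
    abel_nf
    simp [hev, hevz]
  have hmq : m * m = s * m + 1 := by
    simp only [hm, hz, hz', hx, hxx', hyy', hy, hyx, hyx', hxs, hxs', hys, hys', mul_add, add_mul,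
      mul_one, one_mul, mul_assoc]
    rw [← sub_eq_zero]
    abel_nf
    simp [hev, hevz]
  have hmq' : m' * m' = s * m' + 1 := by
    simp only [hm', hz, hz', hx, hxx', hyy', hy, hyx, hyx', hxs, hxs', hys, hys', mul_add, add_mul,
      mul_one, one_mul, mul_assoc]
    rw [← sub_eq_zero]
    abel_nf
    simp [hev, hevz]
  have hd : m + m' = s * e := by
    simp only [he, hm, hm', hz, hz', hx, hxx', hyy', hy, hyx, hyx', hxs, hxs', hys, hys', mul_add,
      add_mul, mul_one, one_mul, mul_assoc]
    rw [← sub_eq_zero]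
    abel_nf
    simp [hev, hevz]
  have hee : e * e = s + 1 := by
    simp only [he, hx, hxx', hyy', hy, hyx, hyx', hxs, hxs', hys, hys', mul_add, add_mul, mul_one,
      one_mul, mul_assoc]
    rw [← sub_eq_zero]
    abel_nf
    simp [hev, hevz]
  have hes : e * s = s * e := by
    simp only [he, hxs, hys, hxs', hys', mul_add, add_mul, mul_assoc]
  -- consequences of commutation
  have h1 : (m + m') * (m + m') = s * (m + m') := by
    calc (m + m') * (m + m') = m * m + (m * m' + m' * m) + m' * m' := by noncomm_ring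
      _ = (s * m + 1) + 0 + (s * m' + 1) := by rw [hmq, hmq', hc.eq, h2]
      _ = s * (m + m') + (1 + 1) := by rw [mul_add]; abel
      _ = _ := by rw [h2, add_zero]
  have h3 : s * s * (s + 1) = s * s * e := by
    rw [← hee]
    calc s * s * (e * e) = s * (s * e) * e := by simp only [mul_assoc]
      _ = s * (e * s) * e := by rw [hes]
      _ = (s * e) * (s * e) := by simp only [mul_assoc]
      _ = s * (s * e) := by rw [← hd]; exact h1
      _ = _ := by rw [mul_assoc]
  have h4 : s * s * (s + 1) * s = 0 := by
    have h5 : s * s * (s + 1) = s * s * (s + 1) * (s + 1) := by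
      calc s * s * (s + 1) = s * s * (e * e) := by rw [hee]
        _ = s * s * e * e := (mul_assoc _ _ _).symm
        _ = s * s * (s + 1) * e := by rw [h3]
        _ = (s + 1) * (s * s * e) := by noncomm_ring
        _ = (s + 1) * (s * s * (s + 1)) := by rw [h3]
        _ = _ := by noncomm_ring
    generalize hA : s * s * (s + 1) = A at h5 ⊢
    rw [mul_add, mul_one] at h5
    exact right_eq_add.1 h5
  -- the order of `z`
  have hzs : z * s = s * z := by
    simp only [hz, mul_assoc, hxs, hxs', hys, hys']
  have hu : z * z + 1 = s * z := by rw [hzq, add_assoc, h2, add_zero]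
  have hv : z * z + z + 1 = (s + 1) * z := by
    rw [add_mul, one_mul, ← hu]; abel
  have h6 : (z * z + 1) * (z * z + 1) * (z * z + 1) * (z * z + z + 1) = 0 := by
    rw [hu, hv]
    calc s * z * (s * z) * (s * z) * ((s + 1) * z) = s * s * (s + 1) * s * (z * z * z * z) := by
          have c1 : Commute z s := hzs
          have c2 : Commute z (s + 1) := c1.add_right (Commute.one_right z)
          simp only [add_mul, mul_add, one_mul, mul_one, ← mul_assoc]
          simp only [mul_assoc, hzs, (fun a => by rw [← mul_assoc, hzs, mul_assoc] :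
            ∀ a : R, z * (s * a) = s * (z * a))]
      _ = 0 := by rw [h4, zero_mul]
  have h8 : (z ^ 3 + 1) ^ 8 = 0 := by
    have hf : (z ^ 3 + 1) ^ 8 = (z * z + 1) * (z * z + 1) * (z * z + 1) * (z * z + z + 1) *
        ((z + 1) ^ 2 * (z * z + z + 1) ^ 7) := by
      have key : ∀ (S : Type v) [CommRing S] [CharP S 2] (w : S), (w ^ 3 + 1) ^ 8 =
          (w * w + 1) * (w * w + 1) * (w * w + 1) * (w * w + w + 1) *
            ((w + 1) ^ 2 * (w * w + w + 1) ^ 7) := by
        intro S _ _ w
        have e1 : w ^ 3 + 1 = (w + 1) * (w * w + w + 1) := by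
          have : (2 : S) = 0 := CharTwo.two_eq_zero
          linear_combination (-(w * w) - w) * this
        have e2 : w * w + 1 = (w + 1) ^ 2 := by rw [CharTwo.add_sq, one_pow, sq]
        rw [e1, e2]; ring
      rcases subsingleton_or_nontrivial R with hR | hR
      · exact Subsingleton.elim _ _
      · let S := Subring.closure ({z} : Set R)
        letI : CommRing S := Subring.closureCommRingOfComm (by simp)
        haveI : CharP S 2 := CharTwo.of_one_ne_zero_of_two_eq_zero one_ne_zero
          (Subtype.ext (show (2 : R) = 0 by rw [← one_add_one_eq_two, h2]))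
        simpa using congrArg (Subtype.val) (key S ⟨z, Subring.subset_closure rfl⟩)
    rw [hf, h6, zero_mul]
  have hp : ∀ a : R, (a + 1) ^ 2 = a ^ 2 + 1 := fun a => by
    rw [sq, sq, add_mul, mul_add, mul_one, one_mul, add_assoc, h2' a 1]
  rw [show (8 : ℕ) = 2 * 2 * 2 from rfl, pow_mul, pow_mul, hp, hp, hp] at h8
  rw [show (24 : ℕ) = 3 * 2 * 2 * 2 from rfl, pow_mul, pow_mul, pow_mul]
  calc (((z ^ 3) ^ 2) ^ 2) ^ 2 = (((z ^ 3) ^ 2) ^ 2) ^ 2 + (1 + 1) := by rw [h2, add_zero]
    _ = 1 := by rw [← add_assoc, h8, zero_add]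

end Ring

/-- an odd order group, faithful in characteristic two with `σ` acting by a root of `X² + X + 1`,
is centralised by `σ` -/
theorem fixed_of_quadratic {R : Type v} [Ring R] (h2 : ∀ a : R, a + a = 0) {x : R}
    (hx : x * x = x + 1) :
    ∀ (D : Type u) [Group D] [Finite D], Group.IsSolvable D → Odd (Nat.card D) → ¬ 3 ∣ Nat.card D →
      ∀ (ρ : D →* R), Function.Injective ρ → ∀ σ : MulAut D, (∀ d, x * ρ d = ρ (σ d) * x) →
        ∀ d, σ d = d := by
  intro D
  induction hn : Nat.card D using Nat.strong_induction_on generalizing D with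
  | _ n ih =>
  intro _ _ hsol hodd h3 ρ hρ σ heq
  subst hn
  rcases subsingleton_or_nontrivial D with hD | hD
  · exact fun d => Subsingleton.elim _ _
  let D' := commutator D
  have hlt : Nat.card D' < Nat.card D := by
    have hne : D' ≠ ⊤ := (Group.IsSolvable.commutator_lt_top_of_nontrivial D).ne
    exact lt_of_le_of_ne (Subgroup.card_le_card_group D') fun e => hne (Subgroup.eq_top_of_card_eq _ e)
  have hmap : D'.map σ.toMonoidHom = D' := Subgroup.characteristic_iff_map_eq.1 inferInstance σ
  let τ : MulAut D' := (σ.subgroupMap D').trans (MulEquiv.subgroupCongr hmap)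
  have hτ : ∀ d : D', ((τ d : D') : D) = σ d := fun d => rfl
  have hfix : ∀ d ∈ D', σ d = d := fun d hd => by
    have := ih _ hlt D' rfl inferInstance (hodd.of_dvd_nat (Subgroup.card_subgroup_dvd_card _))
      (fun h => h3 (h.trans (Subgroup.card_subgroup_dvd_card _))) (ρ.comp D'.subtype)
      (hρ.comp Subtype.val_injective) τ (fun e => by
        show x * ρ e = ρ (τ e : D') * x
        rw [hτ]; exact heq e) ⟨d, hd⟩
    exact (hτ ⟨d, hd⟩).symm.trans (congrArg Subtype.val this)
  intro w
  set z := w⁻¹ * σ w with hz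
  have hcomm : ∀ (u : D), ∀ d ∈ D', (u⁻¹ * σ u) * d = d * (u⁻¹ * σ u) := by
    intro u d hd
    have h1 : σ u * d * (σ u)⁻¹ = u * d * u⁻¹ := by
      have := hfix _ (Subgroup.Normal.conj_mem inferInstance d hd u)
      rwa [map_mul, map_mul, map_inv, hfix d hd] at this
    calc u⁻¹ * σ u * d = u⁻¹ * (σ u * d * (σ u)⁻¹) * σ u := by group
      _ = _ := by rw [h1]; group
  have hx3 : x * (x * x) = 1 := by
    rw [hx, mul_add, hx, mul_one, add_right_comm, h2, zero_add]
  set y := ρ w⁻¹ * x * ρ w with hy'
  have hw : ρ w * ρ w⁻¹ = 1 := by rw [← map_mul, mul_inv_cancel, map_one]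
  have hw' : ρ w⁻¹ * ρ w = 1 := by rw [← map_mul, inv_mul_cancel, map_one]
  have hy : y * y = y + 1 := by
    calc y * y = ρ w⁻¹ * x * (ρ w * ρ w⁻¹) * x * ρ w := by rw [hy']; noncomm_ring
      _ = ρ w⁻¹ * (x * x) * ρ w := by rw [hw, mul_one]; noncomm_ring
      _ = _ := by rw [hx, mul_add, add_mul, mul_one, hw', hy']
  have hyz : y = ρ z * x := by rw [hy', mul_assoc, heq, ← mul_assoc, ← map_mul]
  have hzR : y * (x * x) = ρ z := by rw [hyz, mul_assoc, hx3, mul_one]
  have hzR' : x * y * x = ρ (σ z) := by
    rw [hyz, ← mul_assoc, heq, mul_assoc, mul_assoc, hx3, mul_one]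
  set c := z * σ z * (σ z * z)⁻¹ with hc
  have hcD : c ∈ D' := by
    have : c = (⁅z, σ z⁆ : D) := by rw [hc, commutatorElement_def, mul_inv_rev]; group
    rw [this]
    exact Subgroup.commutator_mem_commutator (Subgroup.mem_top _) (Subgroup.mem_top _)
  have hcz : z * c = c * z := hcomm w c hcD
  have hcz' : σ z * c = c * σ z := by
    rw [hz, map_mul, map_inv]; exact hcomm (σ w) c hcD
  have hmm : (z * σ z) * (σ z * z) = (σ z * z) * (z * σ z) := by
    have e : z * σ z = c * (σ z * z) := by rw [hc]; group
    rw [e]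
    calc c * (σ z * z) * (σ z * z) = c * σ z * z * (σ z * z) := by group
      _ = σ z * (c * z) * (σ z * z) := by rw [← hcz']; group
      _ = _ := by rw [← hcz]; group
  have h24 : z ^ 24 = 1 := hρ (by
    rw [map_pow, map_one, ← hzR]
    refine quad_pow h2 hx hy ?_
    rw [hzR, hzR', Commute, SemiconjBy, ← map_mul, ← map_mul, ← map_mul, ← map_mul, hmm])
  have hz1 : z = 1 := by
    rw [← orderOf_eq_one_iff]
    refine Nat.eq_one_of_dvd_coprimes ?_ (orderOf_dvd_natCard z) (orderOf_dvd_of_pow_eq_one h24)
    have h2' : (Nat.card D).Coprime 2 := Nat.coprime_two_right.2 hodd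
    have h3' : (Nat.card D).Coprime 3 := ((Nat.prime_three.coprime_iff_not_dvd).2 h3).symm
    exact ((h2'.pow_right 3).mul_right h3')
  rw [hz, inv_mul_eq_one] at hz1
  exact hz1.symm

end Cfsg.Agent.FpfThree63
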