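import Mathlib
import Cfsg.Prelude.Def_Local
import Cfsg.Agent.Lib.HallCore

/-!
# Automorphisms of order three of groups of order prime to three

Basic tools: invariant cosets and Sylow subgroups have fixed points, and the fixed points of a
quotient are the images of fixed points.
-/

set_option autoImplicit false
set_option linter.style.haveILetI false
set_option linter.unusedSectionVars false

namespace Cfsg.Agent.FpfThree63

open Cfsg

universe u

variable {G : Type u} [Group G]

/-- the fixed point subgroup of an automorphism -/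
def fix (σ : MulAut G) : Subgroup G := MonoidHom.eqLocus σ.toMonoidHom (MonoidHom.id G)

theorem mem_fix {σ : MulAut G} {g : G} : g ∈ fix σ ↔ σ g = g := Iff.rfl

/-- order dividing three on a group of order prime to three, abelian fixed points of odd order -/
structure Good (σ : MulAut G) : Prop where
  cube : ∀ g, σ (σ (σ g)) = g
  three : ¬ 3 ∣ Nat.card G
  odd : ∀ g, σ g = g → Odd (orderOf g)
  comm : ∀ a b, σ a = a → σ b = b → a * b = b * a

/-- a permutation of order dividing three of a set whose size is prime to three has a fixed point -/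
theorem exists_fixed {α : Type u} [Finite α] (h : ¬ 3 ∣ Nat.card α) (f : α → α)
    (hf : ∀ a, f (f (f a)) = a) : ∃ a, f a = a := by
  haveI : Fintype α := Fintype.ofFinite α
  haveI : Fact (Nat.Prime 3) := ⟨Nat.prime_three⟩
  let e : Equiv.Perm α := ⟨f, fun a => f (f a), hf, hf⟩
  obtain ⟨a, ha⟩ := Equiv.Perm.exists_fixed_point_of_prime (p := 3) (n := 1) (σ := e)
    (by rwa [← Nat.card_eq_fintype_card]) (by
      ext a
      simp [pow_succ, Equiv.Perm.mul_apply, e, hf])
  exact ⟨a, ha⟩

variable [Finite G] {σ : MulAut G}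

theorem Good.three_of_dvd (h : Good σ) {n : ℕ} (hn : n ∣ Nat.card G) : ¬ 3 ∣ n :=
  fun h3 => h.three (h3.trans hn)

/-- an involution is moved -/
theorem Good.involution (h : Good σ) {a : G} (h2 : a ^ 2 = 1) (ha : σ a = a) : a = 1 := by
  rw [← orderOf_eq_one_iff]
  exact Nat.eq_one_of_dvd_coprimes (Nat.coprime_two_left.2 (h.odd a ha))
    (orderOf_dvd_of_pow_eq_one h2) dvd_rfl

/-- an invariant coset of an invariant subgroup contains a fixed point -/
theorem Good.exists_fix_coset (h : Good σ) {N : Subgroup G} (hN : ∀ n ∈ N, σ n ∈ N) {g : G}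
    (hg : g⁻¹ * σ g ∈ N) : ∃ c, σ c = c ∧ g⁻¹ * c ∈ N := by
  let f : N → N := fun n => ⟨g⁻¹ * σ (g * n), by
    rw [map_mul, ← mul_assoc]; exact mul_mem hg (hN _ n.2)⟩
  have hf : ∀ n, f (f (f n)) = n := fun n => Subtype.ext (by
    simp only [f, mul_inv_cancel_left]
    rw [h.cube, inv_mul_cancel_left])
  obtain ⟨n, hn⟩ := exists_fixed (h.three_of_dvd (Subgroup.card_subgroup_dvd_card N)) f hf
  refine ⟨g * n, ?_, by simp⟩
  have := congrArg Subtype.val hn
  simp only [f] at this
  calc σ (g * n) = g * (g⁻¹ * σ (g * n)) := by group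
    _ = g * n := by rw [this]

/-- an invariant Sylow subgroup -/
theorem Good.exists_sylow (h : Good σ) (p : ℕ) [Fact p.Prime] :
    ∃ S : Sylow p G, ∀ s ∈ (S : Subgroup G), σ s ∈ (S : Subgroup G) := by
  obtain ⟨S₀⟩ : Nonempty (Sylow p G) := inferInstance
  have hd : Nat.card (Sylow p G) ∣ Nat.card G :=
    (Sylow.card_dvd_index S₀).trans (Subgroup.index_dvd_card _)
  obtain ⟨S, hS⟩ := exists_fixed (h.three_of_dvd hd)
    (fun S : Sylow p G => S.mapSurjective (f := σ.toMonoidHom) σ.surjective) (fun S => by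
      apply Sylow.ext
      show (((S : Subgroup G).map σ.toMonoidHom).map σ.toMonoidHom).map σ.toMonoidHom =
        (S : Subgroup G)
      rw [Subgroup.map_map, Subgroup.map_map]
      conv_rhs => rw [← Subgroup.map_id (S : Subgroup G)]
      congr 1
      exact MonoidHom.ext h.cube)
  refine ⟨S, fun s hs => ?_⟩
  have hm : σ s ∈ ((S : Subgroup G).map σ.toMonoidHom) := ⟨s, hs, rfl⟩
  rwa [← Sylow.coe_mapSurjective (f := σ.toMonoidHom) σ.surjective, hS] at hm

theorem map_eq_of_forall_mem {N : Subgroup G} (hN : ∀ n ∈ N, σ n ∈ N) :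
    N.map σ.toMonoidHom = N := by
  refine Subgroup.eq_of_le_of_card_ge (by rintro _ ⟨n, hn, rfl⟩; exact hN n hn) ?_
  rw [Subgroup.card_map_of_injective σ.injective]

omit [Finite G] in
theorem mem_of_characteristic {N : Subgroup G} [hc : N.Characteristic] :
    ∀ n ∈ N, σ n ∈ N := fun n hn =>
  (Subgroup.characteristic_iff_map_eq.1 hc σ).le ⟨n, hn, rfl⟩

/-- restriction to an invariant subgroup -/
noncomputable def restrict (σ : MulAut G) {N : Subgroup G} (hN : ∀ n ∈ N, σ n ∈ N) : MulAut N :=
  (σ.subgroupMap N).trans (MulEquiv.subgroupCongr (map_eq_of_forall_mem hN))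

theorem restrict_apply {N : Subgroup G} (hN : ∀ n ∈ N, σ n ∈ N) (n : N) :
    ((restrict σ hN n : N) : G) = σ n := rfl

theorem Good.restrict (h : Good σ) {N : Subgroup G} (hN : ∀ n ∈ N, σ n ∈ N) :
    Good (restrict σ hN) where
  cube n := Subtype.ext (h.cube n)
  three := h.three_of_dvd (Subgroup.card_subgroup_dvd_card N)
  odd n hn := by rw [← Subgroup.orderOf_coe]; exact h.odd n (congrArg Subtype.val hn)
  comm a b ha hb := Subtype.ext (h.comm a b (congrArg Subtype.val ha) (congrArg Subtype.val hb))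

/-- the automorphism of a quotient -/
noncomputable def quot (σ : MulAut G) {N : Subgroup G} [N.Normal] (hN : ∀ n ∈ N, σ n ∈ N) :
    MulAut (G ⧸ N) :=
  QuotientGroup.congr N N σ (map_eq_of_forall_mem hN)

theorem quot_mk {N : Subgroup G} [N.Normal] (hN : ∀ n ∈ N, σ n ∈ N) (g : G) :
    quot σ hN (g : G ⧸ N) = (σ g : G) := rfl

/-- fixed points of a quotient come from fixed points -/
theorem Good.exists_lift (h : Good σ) {N : Subgroup G} [N.Normal] (hN : ∀ n ∈ N, σ n ∈ N)
    {q : G ⧸ N} (hq : quot σ hN q = q) : ∃ c, σ c = c ∧ (c : G ⧸ N) = q := by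
  obtain ⟨g, rfl⟩ := QuotientGroup.mk_surjective q
  rw [quot_mk] at hq
  obtain ⟨c, hc, hgc⟩ := h.exists_fix_coset hN (g := g) (QuotientGroup.eq.1 hq.symm)
  exact ⟨c, hc, (QuotientGroup.eq.2 hgc).symm⟩

theorem Good.quotient (h : Good σ) {N : Subgroup G} [N.Normal] (hN : ∀ n ∈ N, σ n ∈ N) :
    Good (quot σ hN) where
  cube q := by
    obtain ⟨g, rfl⟩ := QuotientGroup.mk_surjective q
    rw [quot_mk, quot_mk, quot_mk, h.cube]
  three := h.three_of_dvd (Subgroup.card_quotient_dvd_card N)
  odd q hq := by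
    obtain ⟨c, hc, rfl⟩ := h.exists_lift hN hq
    exact (h.odd c hc).of_dvd_nat (orderOf_map_dvd (QuotientGroup.mk' N) c)
  comm a b ha hb := by
    obtain ⟨a', ha', rfl⟩ := h.exists_lift hN ha
    obtain ⟨b', hb', rfl⟩ := h.exists_lift hN hb
    rw [← QuotientGroup.mk_mul, h.comm a' b' ha' hb', QuotientGroup.mk_mul]

/-- the fixed point subgroup has odd order -/
theorem Good.card_fix (h : Good σ) : Odd (Nat.card (fix σ)) := by
  by_contra hne
  haveI : Fact (Nat.Prime 2) := ⟨Nat.prime_two⟩
  obtain ⟨a, ha⟩ := exists_prime_orderOf_dvd_card' (G := fix σ) 2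
    (even_iff_two_dvd.1 (Nat.not_odd_iff_even.1 hne))
  have := h.odd a a.2
  rw [Subgroup.orderOf_coe, ha] at this
  exact absurd this (by decide)

end Cfsg.Agent.FpfThree63
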