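import Mathlib
import Cfsg.Prelude.Def_IsolatedElements
import Cfsg.Prelude.Def_Transfer

set_option autoImplicit false

/-!
Isolated elements of prime power order.
-/

namespace Cfsg.Agent.IsolatedPElement

open Subgroup Pointwise

variable {G : Type*} [Group G]

theorem mem_centralizer_single {x g : G} :
    g ∈ centralizer ({x} : Set G) ↔ g * x = x * g := by
  simp [Subgroup.mem_centralizer_iff, eq_comm]

theorem commute_iff_conj_eq {x g : G} : g * x = x * g ↔ g * x * g⁻¹ = x := by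
  rw [mul_inv_eq_iff_eq_mul]

theorem isolated_subtype {x : G} (hiso : Cfsg.IsIsolated x) (H : Subgroup G) (hxH : x ∈ H) :
    Cfsg.IsIsolated (⟨x, hxH⟩ : ↥H) := by
  intro h hh
  apply Subtype.ext
  have hc : Commute x ((h : G) * x * (h : G)⁻¹) := congrArg Subtype.val hh
  simpa using hiso h hc

theorem isPGroup_zpowers {p : ℕ} [Fact p.Prime] {x : G} (hx : ∃ k : ℕ, orderOf x = p ^ k) :
    IsPGroup p ↥(zpowers x) := by
  obtain ⟨k, hk⟩ := hx
  exact IsPGroup.of_card (n := k) (by rw [Nat.card_zpowers, hk])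

theorem orderOf_conj (g x : G) : orderOf (g * x * g⁻¹) = orderOf x := by
  simpa [MulAut.conj_apply] using
    orderOf_injective (MulAut.conj g).toMonoidHom (MulAut.conj g).injective x

variable [Finite G] {p : ℕ} [Fact p.Prime]

/-- An isolated element lying in a `p`-subgroup is central in it. -/
theorem commute_of_mem {x : G} (hiso : Cfsg.IsIsolated x) {R : Subgroup G} (hR : IsPGroup p ↥R)
    (hxR : x ∈ R) {r : G} (hr : r ∈ R) : r * x = x * r := by
  set C : Subgroup ↥R := (centralizer ({x} : Set G)).subgroupOf R with hC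
  have hxC : (⟨x, hxR⟩ : ↥R) ∈ C := mem_centralizer_single.2 rfl
  have htop : C = ⊤ := by
    by_contra hne
    have : Group.IsNilpotent ↥R := hR.isNilpotent
    have hlt := Group.normalizerCondition_of_isNilpotent C (lt_top_iff_ne_top.2 hne)
    obtain ⟨n, hn, hnC⟩ := SetLike.exists_of_lt hlt
    apply hnC
    have h1 := (mem_normalizer_iff.1 hn ⟨x, hxR⟩).1 hxC
    have h2 : ((n : G) * x * (n : G)⁻¹) * x = x * ((n : G) * x * (n : G)⁻¹) :=
      mem_centralizer_single.1 h1
    exact mem_centralizer_single.2 (commute_iff_conj_eq.2 (hiso _ h2.symm))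
  have : (⟨r, hr⟩ : ↥R) ∈ C := htop ▸ mem_top _
  exact mem_centralizer_single.1 this

/-- The only conjugate of an isolated element in a `p`-subgroup containing it is itself. -/
theorem eq_of_conj_mem {x : G} (hiso : Cfsg.IsIsolated x) {R : Subgroup G} (hR : IsPGroup p ↥R)
    (hxR : x ∈ R) {g : G} (hg : g * x * g⁻¹ ∈ R) : g * x * g⁻¹ = x :=
  hiso g (commute_of_mem hiso hR hxR hg).symm

theorem normalizer_le_centralizer {x : G} (hiso : Cfsg.IsIsolated x) {R : Subgroup G}
    (hR : IsPGroup p ↥R) (hxR : x ∈ R) :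
    normalizer (R : Set G) ≤ centralizer ({x} : Set G) := fun n hn =>
  mem_centralizer_single.2 <| commute_iff_conj_eq.2 <|
    eq_of_conj_mem hiso hR hxR ((mem_normalizer_iff.1 hn x).1 hxR)

/-- Conjugates of an isolated `p`-element inside a subgroup containing it are conjugate there. -/
theorem exists_conj_eq {x : G} (hx : ∃ k : ℕ, orderOf x = p ^ k) (hiso : Cfsg.IsIsolated x)
    {H : Subgroup G} (hxH : x ∈ H) {g : G} (hgH : g * x * g⁻¹ ∈ H) :
    ∃ h ∈ H, h * (g * x * g⁻¹) * h⁻¹ = x := by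
  obtain ⟨k, hk⟩ := hx
  have hxp : IsPGroup p ↥(zpowers (⟨x, hxH⟩ : ↥H)) :=
    isPGroup_zpowers ⟨k, by rw [Subgroup.orderOf_mk, hk]⟩
  have hyp : IsPGroup p ↥(zpowers (⟨_, hgH⟩ : ↥H)) :=
    isPGroup_zpowers ⟨k, by rw [Subgroup.orderOf_mk, orderOf_conj, hk]⟩
  obtain ⟨P, hP⟩ := hxp.exists_le_sylow
  obtain ⟨Q, hQ⟩ := hyp.exists_le_sylow
  obtain ⟨h, hh⟩ := MulAction.exists_smul_eq ↥H Q P
  refine ⟨h, h.2, ?_⟩
  have h1 : h * ⟨_, hgH⟩ * h⁻¹ ∈ (P : Subgroup ↥H) := by
    have : MulAut.conj h • (⟨_, hgH⟩ : ↥H) ∈ MulAut.conj h • (Q : Subgroup ↥H) :=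
      Subgroup.smul_mem_pointwise_smul _ _ _ (hQ (mem_zpowers _))
    rw [← hh, Sylow.smul_def, Sylow.pointwise_smul_def]
    simpa [MulAut.smul_def] using this
  have hPp : IsPGroup p ↥((P : Subgroup ↥H).map H.subtype) := P.2.map _
  have hxP : x ∈ (P : Subgroup ↥H).map H.subtype := ⟨_, hP (mem_zpowers _), rfl⟩
  have h2 : ((h : G) * g) * x * ((h : G) * g)⁻¹ ∈ (P : Subgroup ↥H).map H.subtype :=
    ⟨_, h1, by simp [mul_assoc]⟩
  simpa [mul_assoc] using eq_of_conj_mem hiso hPp hxP h2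

/-- Frattini argument for an isolated element. -/
theorem sup_centralizer_eq {x : G} (hx : ∃ k : ℕ, orderOf x = p ^ k) (hiso : Cfsg.IsIsolated x)
    {H N : Subgroup G} (hNH : N ≤ H) (hn : H ≤ normalizer (N : Set G)) (hxN : x ∈ N) :
    N ⊔ (H ⊓ centralizer ({x} : Set G)) = H := by
  refine le_antisymm (sup_le hNH inf_le_left) fun h hh => ?_
  obtain ⟨n, hnN, hne⟩ := exists_conj_eq hx hiso hxN ((mem_normalizer_iff.1 (hn hh) x).1 hxN)
  have hc : n * h ∈ H ⊓ centralizer ({x} : Set G) := by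
    refine ⟨mul_mem (hNH hnN) hh, mem_centralizer_single.2 (commute_iff_conj_eq.2 ?_)⟩
    simpa [mul_assoc] using hne
  have : n⁻¹ * (n * h) ∈ N ⊔ (H ⊓ centralizer ({x} : Set G)) :=
    mul_mem_sup (inv_mem hnN) hc
  simpa using this

/-- The image of an isolated `p`-element in a quotient is isolated. -/
theorem isolated_quotient {x : G} (hx : ∃ k : ℕ, orderOf x = p ^ k) (hiso : Cfsg.IsIsolated x)
    (N : Subgroup G) [N.Normal] : Cfsg.IsIsolated (QuotientGroup.mk x : G ⧸ N) := by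
  intro q hq
  obtain ⟨g, rfl⟩ := QuotientGroup.mk_surjective q
  set H := (centralizer ({(QuotientGroup.mk x : G ⧸ N)} : Set (G ⧸ N))).comap (QuotientGroup.mk' N)
    with hH
  have hxH : x ∈ H := mem_centralizer_single.2 rfl
  have hgH : g * x * g⁻¹ ∈ H := by
    apply mem_centralizer_single.2
    simpa using hq.eq.symm
  obtain ⟨h, hhH, he⟩ := exists_conj_eq hx hiso hxH hgH
  have hc : QuotientGroup.mk' N h * QuotientGroup.mk x = QuotientGroup.mk x * QuotientGroup.mk' N h :=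
    mem_centralizer_single.1 hhH
  have he' := congrArg (QuotientGroup.mk' N) he
  simp only [map_mul, map_inv, QuotientGroup.mk'_apply] at he' hc ⊢
  rw [mul_inv_eq_iff_eq_mul, ← hc] at he'
  exact mul_left_cancel he'

/-- With a cyclic Sylow `p`-subgroup, a non-trivial isolated `p`-element yields a normal
`p`-complement. -/
theorem hasNormalPComplement {x : G} (hx : ∃ k : ℕ, orderOf x = p ^ k) (hiso : Cfsg.IsIsolated x)
    (hx1 : x ≠ 1) (hcyc : ∀ P : Sylow p G, IsCyclic ↥(P : Subgroup G)) :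
    Cfsg.HasNormalPComplement p G := by
  classical
  obtain ⟨P, hP⟩ := (isPGroup_zpowers hx).exists_le_sylow
  have hxP : x ∈ (P : Subgroup G) := hP (mem_zpowers x)
  suffices h : normalizer ((P : Subgroup G) : Set G) ≤ centralizer ((P : Subgroup G) : Set G) from
    ⟨P, _, (MonoidHom.transferSylow P h).normal_ker,
      MonoidHom.ker_transferSylow_isComplement' P h⟩
  intro n hn
  obtain ⟨⟨a, haP⟩, ha⟩ := (hcyc P).exists_generator
  have hgen : ∀ y ∈ (P : Subgroup G), ∃ i : ℤ, a ^ i = y := fun y hy => by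
    obtain ⟨i, hi⟩ := mem_zpowers_iff.1 (ha ⟨y, hy⟩)
    exact ⟨i, by simpa using congrArg Subtype.val hi⟩
  obtain ⟨e, he⟩ := P.2.exists_card_eq
  have hdvd : orderOf a ∣ p ^ e := he ▸ Subgroup.orderOf_dvd_natCard _ haP
  obtain ⟨i, hi⟩ := hgen x hxP
  obtain ⟨r, hr⟩ := hgen _ ((mem_normalizer_iff.1 hn a).1 haP)
  have hnx : n * x * n⁻¹ = x := commute_iff_conj_eq.1
    (mem_centralizer_single.1 (normalizer_le_centralizer hiso P.2 hxP hn))
  have hri : a ^ (r * i) = a ^ i := by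
    rw [zpow_mul, hr, conj_zpow, hi, hnx]
  -- r ≡ 1 mod p
  have hp : (p : ℤ) ∣ r - 1 := by
    by_contra hnd
    have h1 : (orderOf a : ℤ) ∣ (r - 1) * i := by
      apply orderOf_dvd_iff_zpow_eq_one.2
      rw [sub_mul, one_mul, zpow_sub, hri, mul_inv_cancel]
    have h2 : IsCoprime (orderOf a : ℤ) (r - 1) := by
      have h3 : IsCoprime ((p : ℤ) ^ e) (r - 1) :=
        IsCoprime.pow_left <| (Nat.prime_iff_prime_int.1 Fact.out).coprime_iff_not_dvd.2 hnd
      exact IsCoprime.of_isCoprime_of_dvd_left h3 (by exact_mod_cast hdvd)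
    exact hx1 (hi ▸ orderOf_dvd_iff_zpow_eq_one.1 (h2.dvd_of_dvd_mul_left h1))
  -- iterating conjugation
  have hiter : ∀ j : ℕ, n ^ j * a * (n ^ j)⁻¹ = a ^ (r ^ j) := by
    intro j
    induction j with
    | zero => simp
    | succ j ih =>
      have hn' : n * a ^ (r ^ j) * n⁻¹ = a ^ (r * r ^ j) := by
        rw [← conj_zpow, ← hr, ← zpow_mul]
      rw [pow_succ' r, ← hn', ← ih, pow_succ' n]
      simp [mul_assoc]
  have hnp : n ^ (p ^ e) * a * (n ^ (p ^ e))⁻¹ = a := by
    rw [hiter]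
    have h1 : (orderOf a : ℤ) ∣ r ^ (p ^ e) - 1 := by
      have h2 : ((p : ℤ) ^ (e + 1)) ∣ r ^ (p ^ e) - 1 ^ (p ^ e) := by
        simpa using dvd_sub_pow_of_dvd_sub (R := ℤ) hp e
      rw [one_pow] at h2
      exact (show (orderOf a : ℤ) ∣ (p : ℤ) ^ (e + 1) by
        exact_mod_cast hdvd.trans (pow_dvd_pow p (by omega))).trans h2
    rw [orderOf_dvd_iff_zpow_eq_one, zpow_sub, zpow_one, mul_inv_eq_one] at h1
    exact h1
  -- the image of n among the automorphisms of P
  set ψ := Subgroup.normalizerMonoidHom (P : Subgroup G) with hψ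
  set n' : ↥(normalizer ((P : Subgroup G) : Set G)) := ⟨n, hn⟩ with hn'
  have h1 : ψ (n' ^ (p ^ e)) = 1 := by
    rw [← MonoidHom.mem_ker, hψ, Subgroup.normalizerMonoidHom_ker]
    intro z hz
    obtain ⟨j, rfl⟩ := hgen z hz
    exact ((Commute.zpow_left (commute_iff_conj_eq.2 hnp).symm j)).eq
  have h2 : ψ n' = 1 := by
    rw [← orderOf_eq_one_iff]
    refine Nat.eq_one_of_dvd_coprimes (a := p ^ e) (b := ψ.ker.index) ?_
      (orderOf_dvd_of_pow_eq_one (by rw [← map_pow, h1])) ?_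
    · refine Nat.Coprime.pow_left _ ((Nat.Prime.coprime_iff_not_dvd Fact.out).2 fun hd => ?_)
      have hle : (P : Subgroup G).subgroupOf (normalizer ((P : Subgroup G) : Set G)) ≤ ψ.ker := by
        intro y hy
        rw [Subgroup.normalizerMonoidHom_ker]
        intro z hz
        obtain ⟨a1, rfl⟩ := hgen z hz
        obtain ⟨a2, ha2⟩ := hgen y hy
        show a ^ a1 * (y : G) = (y : G) * a ^ a1
        rw [← ha2]
        exact ((Commute.refl a).zpow_zpow a1 a2).eq
      exact P.not_dvd_index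
        (hd.trans ((Subgroup.index_dvd_of_le hle).trans
          (Subgroup.relIndex_dvd_index_of_le le_normalizer)))
    · rw [Subgroup.index_ker]
      exact Subgroup.orderOf_dvd_natCard _ ⟨n', rfl⟩
  have h3 : n' ∈ ψ.ker := MonoidHom.mem_ker.2 h2
  rw [hψ, Subgroup.normalizerMonoidHom_ker] at h3
  exact h3

end Cfsg.Agent.IsolatedPElement
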