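import Mathlib
import Cfsg.Prelude.Def_IsolatedElements
import Cfsg.Agent.Lib.IsolatedPElement
import Cfsg.Agent.Lib.ZStarTheorem
import Cfsg.Agent.Lib.CoprimeAction

/-!
Isolated 2-elements of arbitrary order are central modulo `O(G)`; application to `G = QN` with
`C_N(Q) = C_N(t)`.
-/

set_option autoImplicit false
set_option linter.style.haveILetI false

namespace Cfsg.Agent.IsolatedTwoElement67

open Subgroup Cfsg Cfsg.Agent.IsolatedPElement
open scoped commutatorElement Pointwise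

universe u

/-- The top involution power of an isolated 2-element is isolated. -/
theorem isolated_pow {G : Type*} [Group G] [Finite G] {x : G} {k : ℕ} (hx : orderOf x = 2 ^ (k + 1))
    (hiso : IsIsolated x) : IsIsolatedInvolution (x ^ 2 ^ k) := by
  haveI := Fact.mk Nat.prime_two
  set z := x ^ 2 ^ k with hz
  have hzo : orderOf z = 2 := by
    rw [hz, orderOf_pow' x (pow_ne_zero _ two_ne_zero), hx,
      Nat.gcd_eq_right (pow_dvd_pow 2 k.le_succ), Nat.pow_div k.le_succ two_pos]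
    simp
  refine ⟨hzo, fun g hg => ?_⟩
  set w := g * z * g⁻¹ with hw
  set C := centralizer ({z} : Set G)
  have hxC : x ∈ C := mem_centralizer_singleton_iff.mpr ((Commute.refl x).pow_right _).eq
  have hwC : w ∈ C := mem_centralizer_singleton_iff.mpr hg.eq.symm
  have h1 : IsPGroup 2 (zpowers (⟨x, hxC⟩ : C)) :=
    isPGroup_zpowers ⟨k + 1, by rw [Subgroup.orderOf_mk, hx]⟩
  have h2 : IsPGroup 2 (zpowers (⟨w, hwC⟩ : C)) :=
    isPGroup_zpowers ⟨1, by rw [Subgroup.orderOf_mk, hw, IsolatedPElement.orderOf_conj, hzo, pow_one]⟩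
  obtain ⟨P, hP⟩ := h1.exists_le_sylow
  obtain ⟨R, hR⟩ := h2.exists_le_sylow
  obtain ⟨h, hh⟩ := MulAction.exists_smul_eq C R P
  have hwP : h * ⟨w, hwC⟩ * h⁻¹ ∈ (P : Subgroup C) := by
    have : MulAut.conj h • (⟨w, hwC⟩ : C) ∈ MulAut.conj h • (R : Subgroup C) :=
      Subgroup.smul_mem_pointwise_smul _ _ _ (hR (mem_zpowers _))
    rw [← hh, Sylow.smul_def, Sylow.pointwise_smul_def]
    simpa [MulAut.smul_def] using this
  have hcomm : (h : G) * w * (h : G)⁻¹ * x = x * ((h : G) * w * (h : G)⁻¹) :=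
    commute_of_mem hiso ((P.isPGroup').map C.subtype)
      ⟨_, hP (mem_zpowers _), rfl⟩ ⟨_, hwP, rfl⟩
  set m := (h : G) * g
  have hw' : (h : G) * w * (h : G)⁻¹ = m * z * m⁻¹ := by simp only [m, hw]; group
  rw [hw'] at hcomm
  have hm : m * x * m⁻¹ ∈ centralizer ({m * z * m⁻¹} : Set G) := by
    rw [mem_centralizer_singleton_iff]
    have e : Commute x z := (Commute.refl x).pow_right _
    calc m * x * m⁻¹ * (m * z * m⁻¹) = m * (x * z) * m⁻¹ := by group
      _ = m * (z * x) * m⁻¹ := by rw [e.eq]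
      _ = _ := by group
  obtain ⟨c, hc, hce⟩ := exists_conj_eq (p := 2) ⟨k + 1, hx⟩ hiso
    (H := centralizer ({m * z * m⁻¹} : Set G)) (mem_centralizer_singleton_iff.mpr hcomm.symm) hm
  rw [mem_centralizer_singleton_iff] at hc
  have hcm : Commute (c * m) x := by
    rw [commute_iff_eq, IsolatedPElement.commute_iff_conj_eq]
    simpa [mul_assoc] using hce
  have h3 : c * m * z * (c * m)⁻¹ = z := by
    rw [← IsolatedPElement.commute_iff_conj_eq]; exact (hcm.pow_right _).eq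
  have h4 : m * z * m⁻¹ = z := by
    calc m * z * m⁻¹ = c * (m * z * m⁻¹) * c⁻¹ := by rw [hc, mul_inv_cancel_right]
      _ = c * m * z * (c * m)⁻¹ := by group
      _ = z := h3
  have h5 : Commute (h : G) z := mem_centralizer_singleton_iff.mp h.2
  calc w = (h : G)⁻¹ * (m * z * m⁻¹) * (h : G) := by rw [← hw']; group
    _ = z := by rw [h4, mul_assoc, ← h5.eq, inv_mul_cancel_left]

/-- A central subgroup of order 2 does not create an odd core. -/
theorem pPrimeCore_quotient_two {G : Type*} [Group G] [Finite G] (hO : pPrimeCore 2 G = ⊥) {y : G}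
    (hy : orderOf y = 2) [(zpowers y).Normal] :
    pPrimeCore 2 (G ⧸ zpowers y) = ⊥ := by
  haveI := Fact.mk Nat.prime_two
  set Y := zpowers y with hY
  have hcardY : Nat.card Y = 2 := by rw [hY, Nat.card_zpowers, hy]
  set Q := (pPrimeCore 2 (G ⧸ Y)).comap (QuotientGroup.mk' Y) with hQ
  have hQn : Q.Normal := (HallCore.pPrimeCore_normal 2 _).comap _
  have hcard := HallCore.card_comap_mk' Y (pPrimeCore 2 (G ⧸ Y))
  rw [hcardY, ← hQ] at hcard
  obtain ⟨R⟩ : Nonempty (Sylow 2 Q) := inferInstance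
  have hR : Nat.card (R : Subgroup Q) = 2 := by
    rw [R.card_eq_multiplicity, ← hcard, Nat.factorization_mul Nat.card_pos.ne' two_ne_zero,
      Finsupp.coe_add, Pi.add_apply, Nat.factorization_eq_zero_of_not_dvd
        (HallCore.not_dvd_card_pPrimeCore 2 _), Nat.Prime.factorization_self Nat.prime_two]
    norm_num
  have hcyc : IsCyclic (R : Subgroup Q) := isCyclic_of_prime_card hR
  have hmin : (Nat.card Q).minFac = 2 := by
    rw [Nat.minFac_eq_two_iff, ← hcard]; exact dvd_mul_left 2 _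
  have hcompl := IsCyclic.isComplement' hmin hcyc
  rw [ZStarBasic.eq_bot_of_normal_odd (ZStarBasic.pPrimeCore_normal_eq_bot hO Q)
    (MonoidHom.transferSylow R (IsCyclic.normalizer_le_centralizer hmin hcyc)).ker (by
    rw [← hcompl.index_eq_card]
    exact Nat.not_even_iff_odd.1 fun he => R.not_dvd_index he.two_dvd),
    Subgroup.isComplement'_bot_left] at hcompl
  rw [← Subgroup.card_eq_one]
  rw [hcompl, Subgroup.card_top, ← hcard] at hR
  show Nat.card (pPrimeCore 2 (G ⧸ Y) : Subgroup _) = 1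
  omega

/-- With `O(G) = 1`, an isolated 2-element is central. -/
theorem mem_center_two : ∀ (k : ℕ) {G : Type u} [Group G] [Finite G] (x : G), orderOf x ∣ 2 ^ k →
    IsIsolated x → pPrimeCore 2 G = ⊥ → x ∈ center G := by
  haveI := Fact.mk Nat.prime_two
  intro k
  induction k with
  | zero =>
    intro G _ _ x hx _ _
    rw [pow_zero, Nat.dvd_one, orderOf_eq_one_iff] at hx
    exact hx ▸ one_mem _
  | succ k ih =>
    intro G _ _ x hx hiso hO
    by_cases hk : orderOf x ∣ 2 ^ k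
    · exact ih x hk hiso hO
    have hxo : orderOf x = 2 ^ (k + 1) :=
      Nat.eq_prime_pow_of_dvd_least_prime_pow Nat.prime_two hk hx
    have hz := isolated_pow hxo hiso
    have hzc := ZStarTheorem.mem_center_of_isolated hz hO
    set z := x ^ 2 ^ k
    haveI : (zpowers z).Normal := ⟨fun n hn g => by
      rwa [mem_center_iff.1 ((zpowers_le.2 hzc) hn) g, mul_inv_cancel_right]⟩
    have hq := ih (G := G ⧸ zpowers z) (QuotientGroup.mk x) (orderOf_dvd_of_pow_eq_one (by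
        rw [← QuotientGroup.mk_pow, QuotientGroup.eq_one_iff]; exact mem_zpowers _))
      (isolated_quotient ⟨k + 1, hxo⟩ hiso _) (pPrimeCore_quotient_two hO hz.1)
    refine mem_center_iff.2 fun g => mul_inv_eq_iff_eq_mul.1 (hiso g ?_)
    have h4 : (g * x * g⁻¹)⁻¹ * x ∈ zpowers z := by
      rw [← QuotientGroup.eq]
      simp only [QuotientGroup.mk_mul, QuotientGroup.mk_inv]
      rw [mem_center_iff.1 hq (g : G ⧸ zpowers z), mul_inv_cancel_right]
    have hcen : (g * x * g⁻¹)⁻¹ * x ∈ center G := zpowers_le.2 hzc h4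
    rw [show g * x * g⁻¹ = x * ((g * x * g⁻¹)⁻¹ * x)⁻¹ by group]
    exact (Commute.refl x).mul_right (mem_center_iff.1 (inv_mem hcen) x)

/-- An isolated 2-element is central modulo `O(G)`. -/
theorem inZStar_two {G : Type u} [Group G] [Finite G] {x : G} (hx : ∃ k : ℕ, orderOf x = 2 ^ k)
    (hiso : IsIsolated x) : InZStar 2 x := by
  haveI := Fact.mk Nat.prime_two
  haveI := HallCore.pPrimeCore_normal 2 G
  obtain ⟨k, hk⟩ := hx
  have h := mem_center_two k (QuotientGroup.mk' (pPrimeCore 2 G) x)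
    ((orderOf_map_dvd _ x).trans hk.dvd) (isolated_quotient ⟨k, hk⟩ hiso _)
    (HallCore.pPrimeCore_quotient_self 2 G)
  intro g
  rw [← QuotientGroup.eq_one_iff]
  show QuotientGroup.mk' (pPrimeCore 2 G) (g * x * g⁻¹ * x⁻¹) = 1
  rw [map_mul, map_mul, map_mul, map_inv, map_inv, mem_center_iff.1 h, mul_inv_cancel_right,
    mul_inv_cancel]

variable {G : Type u} [Group G] [Finite G]

/-- In `G = QN`, a central element `t ∈ [Q,Q]` with `C_N(t) = C_N(Q)` is isolated. -/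
theorem isolated_of_centralizer (N Q : Subgroup G) [N.Normal] (hG : Q ⊔ N = ⊤) {t : G}
    (htc : t ∈ centralizer (Q : Set G)) (htQ : t ∈ ⁅Q, Q⁆)
    (hC : N ⊓ centralizer (Q : Set G) = N ⊓ centralizer ({t} : Set G)) : IsIsolated t := by
  intro g hg
  obtain ⟨n, hn, q₀, hq₀, rfl⟩ : ∃ n ∈ N, ∃ q ∈ Q, g = n * q := by
    have hg' : g ∈ (↑(N ⊔ Q) : Set G) := by rw [sup_comm, hG]; trivial
    rw [Subgroup.normal_mul] at hg'
    obtain ⟨n, hn, q, hq, rfl⟩ := Set.mem_mul.mp hg'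
    exact ⟨n, hn, q, hq, rfl⟩
  have hq0 : q₀ * t * q₀⁻¹ = t := by
    rw [← IsolatedPElement.commute_iff_conj_eq]; exact mem_centralizer_iff.mp htc q₀ hq₀
  have hsimp : n * q₀ * t * (n * q₀)⁻¹ = n * t * n⁻¹ := by
    calc n * q₀ * t * (n * q₀)⁻¹ = n * (q₀ * t * q₀⁻¹) * n⁻¹ := by group
      _ = _ := by rw [hq0]
  rw [hsimp] at hg ⊢
  -- the basic step: `n q n⁻¹ q⁻¹` centralises `Q`
  have step : ∀ m ∈ N, Commute t (m⁻¹ * t * m) → ∀ q ∈ Q,
      m * q * m⁻¹ * q⁻¹ ∈ centralizer (Q : Set G) := by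
    intro m hm hcm q hq
    have hd : m⁻¹ * t * m * t⁻¹ ∈ N ⊓ centralizer ({t} : Set G) := by
      refine mem_inf.2 ⟨?_, mem_centralizer_singleton_iff.2
        (hcm.mul_right ((Commute.refl t).inv_right)).eq.symm⟩
      rw [show m⁻¹ * t * m * t⁻¹ = m⁻¹ * (t * m * t⁻¹) by group]
      exact mul_mem (inv_mem hm) (Normal.conj_mem inferInstance m hm t)
    rw [← hC] at hd
    have h1 : Commute q (m⁻¹ * t * m) := by
      have e : m⁻¹ * t * m = (m⁻¹ * t * m * t⁻¹) * t := by group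
      rw [e]
      exact Commute.mul_right (mem_centralizer_iff.1 hd.2 q hq) (mem_centralizer_iff.1 htc q hq)
    have h2 : Commute (m * q * m⁻¹) t := by
      have := h1.map (MulAut.conj m).toMonoidHom
      simpa [mul_assoc] using this
    have h3 : m * q * m⁻¹ * q⁻¹ ∈ N ⊓ centralizer ({t} : Set G) := by
      refine mem_inf.2 ⟨?_, mem_centralizer_singleton_iff.2
        (h2.mul_left (Commute.inv_left (mem_centralizer_iff.1 htc q hq))).eq⟩
      rw [show m * q * m⁻¹ * q⁻¹ = m * (q * m⁻¹ * q⁻¹) by group]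
      exact mul_mem hm (Normal.conj_mem inferInstance _ (inv_mem hm) q)
    rw [← hC] at h3
    exact h3.2
  have hn' : Commute t (n⁻¹ * t * n) := by
    have := hg.map (MulAut.conj n⁻¹).toMonoidHom
    simpa [mul_assoc] using this.symm
  have e0 : ∀ m ∈ N, Commute t (m⁻¹ * t * m) → ∀ a ∈ Q, ∀ b ∈ Q,
      m * (a * b) * m⁻¹ * (a * b)⁻¹ = (m * a * m⁻¹ * a⁻¹) * (m * b * m⁻¹ * b⁻¹) := by
    intro m hm hcm a ha b hb
    have h1 := mem_centralizer_iff.1 (step m hm hcm b hb) a ha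
    calc m * (a * b) * m⁻¹ * (a * b)⁻¹
        = (m * a * m⁻¹ * a⁻¹) * (a * (m * b * m⁻¹ * b⁻¹)) * a⁻¹ := by group
      _ = _ := by rw [h1]; group
  have hinv : ∀ a ∈ Q, n⁻¹ * a * n⁻¹⁻¹ * a⁻¹ = n⁻¹ * (n * a * n⁻¹ * a⁻¹)⁻¹ * n := by
    intro a ha
    have hgg : Commute t (n⁻¹⁻¹ * t * n⁻¹) := by rwa [inv_inv]
    have h1 := mem_centralizer_iff.1 (step n hn hn' a ha) a ha
    calc n⁻¹ * a * n⁻¹⁻¹ * a⁻¹
        = n⁻¹ * (n * a * n⁻¹ * a⁻¹)⁻¹ * ((n * a * n⁻¹ * a⁻¹) * a) * n * a⁻¹ := by group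
      _ = n⁻¹ * (n * a * n⁻¹ * a⁻¹)⁻¹ * n := by group
  let f : ↥Q →* G :=
    { toFun := fun q => n * q * n⁻¹ * (q : G)⁻¹
      map_one' := by simp
      map_mul' := fun a b => e0 n hn hn' a a.2 b b.2 }
  have hab : ∀ a b : ↥Q, f a * f b = f b * f a := by
    intro a b
    have hgg : Commute t (n⁻¹⁻¹ * t * n⁻¹) := by rwa [inv_inv]
    have h1 := e0 n⁻¹ (inv_mem hn) hgg a a.2 b b.2
    rw [hinv _ a.2, hinv _ b.2, hinv _ (mul_mem a.2 b.2)] at h1
    have h2 : (f (a * b))⁻¹ = (f a)⁻¹ * (f b)⁻¹ := by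
      show (n * ((a : G) * b) * n⁻¹ * ((a : G) * b)⁻¹)⁻¹ =
        (n * a * n⁻¹ * (a : G)⁻¹)⁻¹ * (n * b * n⁻¹ * (b : G)⁻¹)⁻¹
      have h3 := congrArg (fun y => n * y * n⁻¹) h1
      simpa [mul_assoc] using h3
    rw [← mul_inv_rev, inv_inj] at h2
    rw [← map_mul, h2]
  obtain ⟨t', ht', hte⟩ : ∃ t' : ↥Q, t' ∈ commutator ↥Q ∧ (t' : G) = t := by
    rw [← Subgroup.map_subtype_commutator] at htQ
    obtain ⟨t', ht', rfl⟩ := htQ
    exact ⟨t', ht', rfl⟩
  have hker : commutator ↥Q ≤ f.ker := by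
    rw [_root_.commutator_def, commutator_le]
    intro a _ b _
    rw [MonoidHom.mem_ker, map_commutatorElement, commutatorElement_eq_one_iff_mul_comm]
    exact hab a b
  have h := MonoidHom.mem_ker.1 (hker ht')
  change n * (t' : G) * n⁻¹ * (t' : G)⁻¹ = 1 at h
  rwa [hte, mul_inv_eq_one] at h

/-- `[N,Q]` is solvable of odd order. -/
theorem commutator_odd (hFT : ∀ (X : Type u) [Group X] [Finite X], Odd (Nat.card X) → Group.IsSolvable X)
    (N Q : Subgroup G) [N.Normal] (hG : Q ⊔ N = ⊤) (hQ : IsPGroup 2 ↥Q) (hdisj : Q ⊓ N = ⊥) (t : G)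
    (htZ : t ∈ Q ⊓ centralizer (Q : Set G)) (htQ : t ∈ ⁅Q, Q⁆)
    (hC : N ⊓ centralizer (Q : Set G) = N ⊓ centralizer ({t} : Set G)) :
    Group.IsSolvable ↥⁅N, Q⁆ ∧ Odd (Nat.card ↥⁅N, Q⁆) := by
  haveI := Fact.mk Nat.prime_two
  obtain ⟨k, hk⟩ := (IsPGroup.iff_orderOf.1 hQ) ⟨t, htZ.1⟩
  rw [Subgroup.orderOf_mk] at hk
  have hstar := inZStar_two ⟨k, hk⟩ (isolated_of_centralizer N Q hG htZ.2 htQ hC)
  set K := pPrimeCore 2 G
  haveI : K.Normal := HallCore.pPrimeCore_normal 2 G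
  have hKodd : Odd (Nat.card K) := ZStarTheorem.odd_card_pPrimeCore
  have hKN : K ≤ N := by
    intro x hx
    rw [← QuotientGroup.eq_one_iff, ← orderOf_eq_one_iff]
    have hQN : Subgroup.map (QuotientGroup.mk' N) Q = ⊤ := by
      have h0 := congrArg (Subgroup.map (QuotientGroup.mk' N)) hG
      rwa [Subgroup.map_sup, QuotientGroup.map_mk'_self, sup_bot_eq,
        Subgroup.map_top_of_surjective _ (QuotientGroup.mk'_surjective N)] at h0
    obtain ⟨j, hj⟩ := (IsPGroup.iff_orderOf.1 (hQ.map (QuotientGroup.mk' N)))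
      ⟨(x : G ⧸ N), hQN ▸ mem_top _⟩
    rw [Subgroup.orderOf_mk] at hj
    have h1 : orderOf (x : G ⧸ N) ∣ Nat.card K :=
      (orderOf_map_dvd (QuotientGroup.mk' N) x).trans (Subgroup.orderOf_dvd_natCard _ hx)
    exact Nat.eq_one_of_dvd_coprimes ((Nat.coprime_two_left.2 hKodd).pow_left j) hj.dvd h1
  have hle : ⁅N, Q⁆ ≤ K := by
    rw [commutator_le]
    intro n hn q hq
    obtain ⟨c, hc, hck⟩ := CoprimeAction.exists_fixed_mem_coset_zpowers (a := t) (D := K)
      (Subgroup.normalizer_eq_top K ▸ mem_top t)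
      (by rw [hk]; exact (Nat.coprime_two_left.2 hKodd).pow_left k) n (by simpa using hstar n⁻¹)
    have hcN : c ∈ N := by
      rw [show c = n * (n⁻¹ * c) by group]
      exact mul_mem hn (hKN hck)
    have hcQ : c ∈ N ⊓ centralizer (Q : Set G) :=
      hC ▸ mem_inf.2 ⟨hcN, mem_centralizer_singleton_iff.2 hc.symm⟩
    have e : (n : G ⧸ K) = c := QuotientGroup.eq.2 hck
    rw [← QuotientGroup.eq_one_iff]
    show QuotientGroup.mk' K ⁅n, q⁆ = 1
    rw [map_commutatorElement, QuotientGroup.mk'_apply, QuotientGroup.mk'_apply, e,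
      commutatorElement_eq_one_iff_mul_comm]
    exact congrArg (QuotientGroup.mk' K) (mem_centralizer_iff.1 hcQ.2 q hq).symm
  have hodd : Odd (Nat.card ↥⁅N, Q⁆) := hKodd.of_dvd_nat (card_dvd_of_le hle)
  exact ⟨hFT _ hodd, hodd⟩

end Cfsg.Agent.IsolatedTwoElement67
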