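import Mathlib
import Cfsg.Prelude.Def_CaseTheorems
import Cfsg.Prelude.Def_Transfer
import Cfsg.Agent.Lib.HallCore
import Cfsg.Agent.Lib.SignalizerCoprime

/-!
# Strongly closed elementary abelian 2-subgroups without transitive sections: inheritance

`Hyp A`: `A` is an elementary abelian 2-subgroup, strongly closed in every 2-subgroup containing it,
and no subgroup `Y` of its normaliser is transitive on the non-identity cosets of an invariant
subgroup `C` of index at least four whose odd order elements centralise `C`.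
-/

set_option autoImplicit false

namespace Cfsg.Agent.StrongClosedNTBase20

open Cfsg

universe u

variable {K : Type u} [Group K]

/-- the hypothesis -/
structure Hyp (A : Subgroup K) : Prop where
  el : Cfsg.IsElementaryAbelian 2 A
  sc : ∀ Q : Subgroup K, IsPGroup 2 Q → A ≤ Q → ∀ a ∈ A, ∀ g : K, g * a * g⁻¹ ∈ Q → g * a * g⁻¹ ∈ A
  nt : ∀ Y C : Subgroup K, C ≤ A → (∀ y ∈ Y, ∀ a ∈ A, y * a * y⁻¹ ∈ A) →
    (∀ y ∈ Y, ∀ c ∈ C, y * c * y⁻¹ ∈ C) →
    (∀ y ∈ Y, Odd (orderOf y) → ∀ c ∈ C, y * c * y⁻¹ = c) →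
    (∀ a ∈ A, a ∉ C → ∀ b ∈ A, b ∉ C → ∃ y ∈ Y, y * a * y⁻¹ * b⁻¹ ∈ C) →
    Nat.card A ≤ 2 * Nat.card C

variable {A : Subgroup K}

theorem Hyp.comm (h : Hyp A) {a b : K} (ha : a ∈ A) (hb : b ∈ A) : a * b = b * a :=
  congrArg Subtype.val (h.el.1.is_comm.comm ⟨a, ha⟩ ⟨b, hb⟩)

theorem Hyp.sq (h : Hyp A) {a : K} (ha : a ∈ A) : a * a = 1 := by rw [← pow_two]; exact h.el.2 a ha

theorem Hyp.isPGroup (h : Hyp A) : IsPGroup 2 A := fun a =>
  ⟨1, Subtype.ext (by simpa using h.el.2 a.1 a.2)⟩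

/-- a 2-group contains at most one conjugate of `A` -/
theorem Hyp.conj_unique [Finite K] (h : Hyp A) {Q : Subgroup K} (hQ : IsPGroup 2 Q) (hA : A ≤ Q) {g : K}
    (hg : ∀ a ∈ A, g * a * g⁻¹ ∈ Q) : ∀ a : K, a ∈ A ↔ g * a * g⁻¹ ∈ A := by
  intro a
  refine ⟨fun ha => h.sc Q hQ hA a ha g (hg a ha), fun ha => ?_⟩
  have hle : A.map (MulAut.conj g).toMonoidHom ≤ A := by
    rintro _ ⟨b, hb, rfl⟩
    simpa using h.sc Q hQ hA b hb g (hg b hb)
  have heq := Subgroup.eq_of_le_of_card_ge hle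
    (by rw [Subgroup.card_map_of_injective (MulAut.conj g).injective])
  obtain ⟨b, hb, hbe⟩ := heq.ge ha
  simp only [MulEquiv.coe_toMonoidHom, MulAut.conj_apply] at hbe
  rwa [← mul_left_cancel (mul_right_cancel hbe)]

/-- elements normalising a 2-group containing `A` normalise `A` -/
theorem Hyp.mem_normalizer [Finite K] (h : Hyp A) {Q : Subgroup K} (hQ : IsPGroup 2 Q) (hA : A ≤ Q) {g : K}
    (hg : ∀ a ∈ A, g * a * g⁻¹ ∈ Q) : g ∈ Subgroup.normalizer (A : Set K) :=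
  Subgroup.mem_normalizer_iff.2 (h.conj_unique hQ hA hg)

/-- two conjugates of `A` in a subgroup are conjugate there -/
theorem Hyp.exists_conj_le [Finite K] (h : Hyp A) {H : Subgroup K} (hAH : A ≤ H) {g : K}
    (hg : ∀ a ∈ A, g * a * g⁻¹ ∈ H) : ∃ x ∈ H, x * g ∈ Subgroup.normalizer (A : Set K) := by
  haveI : Fact (Nat.Prime 2) := ⟨Nat.prime_two⟩
  let B := A.map (MulAut.conj g).toMonoidHom
  have hBH : B ≤ H := by rintro _ ⟨a, ha, rfl⟩; simpa using hg a ha
  obtain ⟨P, hP⟩ := (h.isPGroup.comap_of_injective H.subtype H.subtype_injective).exists_le_sylow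
  obtain ⟨Q, hQ⟩ := ((h.isPGroup.map (MulAut.conj g).toMonoidHom).comap_of_injective H.subtype
    H.subtype_injective).exists_le_sylow (p := 2) (P := B.comap H.subtype)
  obtain ⟨x, hx⟩ := MulAction.exists_smul_eq H Q P
  refine ⟨x.1, x.2, h.mem_normalizer (P.isPGroup'.map H.subtype)
    (fun a ha => ⟨⟨a, hAH ha⟩, hP (show H.subtype ⟨a, hAH ha⟩ ∈ A from ha), rfl⟩) fun a ha => ?_⟩
  have hmem : (⟨g * a * g⁻¹, hg a ha⟩ : H) ∈ (Q : Subgroup H) :=
    hQ (show g * a * g⁻¹ ∈ B from ⟨a, ha, by simp⟩)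
  refine ⟨x * ⟨g * a * g⁻¹, hg a ha⟩ * x⁻¹, ?_, ?_⟩
  · rw [← hx, Sylow.coe_subgroup_smul]
    exact ⟨_, hmem, by simp⟩
  · simp [mul_inv_rev, mul_assoc]

/-- fusion in `A` is controlled by its normaliser -/
theorem Hyp.fusion [Finite K] (h : Hyp A) {a : K} (ha : a ∈ A) {g : K} (hg : g * a * g⁻¹ ∈ A) :
    ∃ n ∈ Subgroup.normalizer (A : Set K), n * a * n⁻¹ = g * a * g⁻¹ := by
  obtain ⟨x, hx, hxg⟩ := h.exists_conj_le (H := Subgroup.centralizer {g * a * g⁻¹}) (g := g)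
    (fun b hb => Subgroup.mem_centralizer_singleton_iff.2 (h.comm hb hg)) fun b hb => by
      rw [Subgroup.mem_centralizer_singleton_iff]
      calc g * b * g⁻¹ * (g * a * g⁻¹) = g * (b * a) * g⁻¹ := by group
        _ = g * (a * b) * g⁻¹ := by rw [h.comm hb ha]
        _ = g * a * g⁻¹ * (g * b * g⁻¹) := by group
  refine ⟨x * g, hxg, ?_⟩
  have := Subgroup.mem_centralizer_singleton_iff.1 hx
  calc x * g * a * (x * g)⁻¹ = x * (g * a * g⁻¹) * x⁻¹ := by group
    _ = g * a * g⁻¹ := by rw [this]; group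

/-- passing to a subgroup -/
theorem Hyp.subgroup (h : Hyp A) {H : Subgroup K} (hAH : A ≤ H) : Hyp (A.subgroupOf H) := by
  refine ⟨⟨⟨⟨fun x y => Subtype.ext (Subtype.ext (h.comm x.2 y.2))⟩⟩, fun a ha =>
    Subtype.ext (by simpa using h.el.2 a.1 ha)⟩, ?_, ?_⟩
  · intro Q hQ hAQ a ha g hg
    have := h.sc (Q.map H.subtype) (hQ.map _)
      (fun b hb => ⟨⟨b, hAH hb⟩, hAQ (show (⟨b, hAH hb⟩ : H).1 ∈ A from hb), rfl⟩) a.1 ha g.1
      ⟨_, hg, by simp⟩
    show (g * a * g⁻¹ : H).1 ∈ A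
    simpa using this
  · intro Y C hC hYA hYC hodd htrans
    have hcA : Nat.card (A.subgroupOf H) = Nat.card A := Nat.card_congr (Subgroup.subgroupOfEquivOfLe hAH).toEquiv
    rw [hcA, Nat.card_congr (C.equivMapOfInjective H.subtype H.subtype_injective).toEquiv]
    refine h.nt (Y.map H.subtype) (C.map H.subtype) ?_ ?_ ?_ ?_ ?_
    · rintro _ ⟨c, hc, rfl⟩; exact hC hc
    · rintro _ ⟨y, hy, rfl⟩ a ha
      exact hYA y hy ⟨a, hAH ha⟩ ha
    · rintro _ ⟨y, hy, rfl⟩ _ ⟨c, hc, rfl⟩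
      exact ⟨_, hYC y hy c hc, by simp⟩
    · rintro _ ⟨y, hy, rfl⟩ ho _ ⟨c, hc, rfl⟩
      rw [orderOf_injective _ H.subtype_injective] at ho
      have := hodd y hy ho c hc
      rw [← map_inv, ← map_mul, ← map_mul, this]
    · intro a ha haC b hb hbC
      obtain ⟨y, hy, hyc⟩ := htrans ⟨a, hAH ha⟩ ha (fun hc => haC ⟨_, hc, rfl⟩) ⟨b, hAH hb⟩ hb
        (fun hc => hbC ⟨_, hc, rfl⟩)
      exact ⟨y.1, ⟨y, hy, rfl⟩, ⟨_, hyc, by simp⟩⟩

/-- passing to the quotient by an odd normal subgroup -/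
theorem Hyp.quotient_odd [Finite K] (h : Hyp A) (N : Subgroup K) [N.Normal] (hN : Odd (Nat.card N)) :
    Hyp (A.map (QuotientGroup.mk' N)) ∧ Nat.card (A.map (QuotientGroup.mk' N)) = Nat.card A := by
  haveI : Fact (Nat.Prime 2) := ⟨Nat.prime_two⟩
  set π := QuotientGroup.mk' N
  have hdis : ∀ x ∈ A, x ∈ N → x = 1 := fun x hx hxN => by
    rw [← orderOf_eq_one_iff]
    exact Nat.eq_one_of_dvd_coprimes (Nat.coprime_two_left.2 hN)
      (orderOf_dvd_of_pow_eq_one (h.el.2 x hx)) (Subgroup.orderOf_dvd_natCard _ hxN)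
  have hinj : ∀ x ∈ A, ∀ y ∈ A, π x = π y → x = y := fun x hx y hy e =>
    (inv_mul_eq_one.1 (hdis _ (mul_mem (inv_mem hx) hy) (QuotientGroup.eq.1 e)))
  have hcard : Nat.card (A.map π) = Nat.card A := (Nat.card_congr (Equiv.ofBijective
    (fun a : A => (⟨π a, a.1, a.2, rfl⟩ : A.map π))
    ⟨fun a b e => Subtype.ext (hinj _ a.2 _ b.2 (congrArg Subtype.val e)),
      fun ⟨_, a, ha, e⟩ => ⟨⟨a, ha⟩, Subtype.ext e⟩⟩)).symm
  refine ⟨⟨⟨⟨⟨?_⟩⟩, ?_⟩, ?_, ?_⟩, hcard⟩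
  · rintro ⟨_, a, ha, rfl⟩ ⟨_, b, hb, rfl⟩
    exact Subtype.ext (by show π a * π b = π b * π a; rw [← map_mul, h.comm ha hb, map_mul])
  · rintro _ ⟨a, ha, rfl⟩; rw [← map_pow, h.el.2 a ha, map_one]
  · rintro Q hQ hAQ _ ⟨a, ha, rfl⟩ g hg
    obtain ⟨g, rfl⟩ := QuotientGroup.mk'_surjective N g
    set L := Q.comap π
    have hNL : N ≤ L := fun x hx => by
      show π x ∈ Q; rw [show π x = 1 from (QuotientGroup.eq_one_iff x).2 hx]; exact one_mem _
    have hAL : A ≤ L := fun x hx => hAQ ⟨x, hx, rfl⟩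
    have hgL : g * a * g⁻¹ ∈ L := by show π _ ∈ Q; rw [map_mul, map_mul, map_inv]; exact hg
    obtain ⟨P, hP⟩ := (h.isPGroup.comap_of_injective L.subtype L.subtype_injective).exists_le_sylow
    have hZ : IsPGroup 2 ↥(Subgroup.zpowers (⟨g * a * g⁻¹, hgL⟩ : L)) :=
      SignalizerCoprime.isPGroup_zpowers (Subtype.ext (by
        show (g * a * g⁻¹) ^ 2 = 1
        rw [conj_pow, h.el.2 a ha]; simp))
    obtain ⟨R, hR⟩ := hZ.exists_le_sylow
    obtain ⟨x, hx⟩ := MulAction.exists_smul_eq L R P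
    -- the conjugating element can be taken in `N`
    obtain ⟨q, hq, m, hm, hqm⟩ : ∃ q ∈ (P : Subgroup L), ∃ m : L, m.1 ∈ N ∧ q * m = x := by
      haveI : (N.subgroupOf L).Normal := inferInstance
      have htop : (P : Subgroup L) ⊔ N.subgroupOf L = ⊤ := by
        have h1 := Subgroup.index_dvd_of_le (le_sup_left : (P : Subgroup L) ≤ (P : Subgroup L) ⊔ N.subgroupOf L)
        have h2 := Subgroup.index_dvd_of_le (le_sup_right : N.subgroupOf L ≤ (P : Subgroup L) ⊔ N.subgroupOf L)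
        obtain ⟨k, hk⟩ : ∃ k, (N.subgroupOf L).index = 2 ^ k := by
          let φ : L →* Q := (π.comp L.subtype).codRestrict Q fun l => l.2
          have hφ : φ.ker = N.subgroupOf L := by
            ext l; rw [MonoidHom.mem_ker, Subgroup.mem_subgroupOf, Subtype.ext_iff]; exact QuotientGroup.eq_one_iff _
          have hsur : Function.Surjective φ := fun q => by
            obtain ⟨l, hl⟩ := QuotientGroup.mk'_surjective N q.1
            exact ⟨⟨l, show π l ∈ Q by rw [hl]; exact q.2⟩, Subtype.ext hl⟩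
          rw [← hφ, Subgroup.index_ker, MonoidHom.range_eq_top.2 hsur, Subgroup.card_top]
          exact IsPGroup.iff_card.1 hQ
        rw [← Subgroup.index_eq_one]
        exact Nat.eq_one_of_dvd_coprimes ((Nat.coprime_two_left.2 (Nat.odd_iff.2 (Nat.two_dvd_ne_zero.1
          P.not_dvd_index))).pow_left k) (hk ▸ h2) h1
      exact (Subgroup.mem_sup_of_normal_right.1 (htop ▸ Subgroup.mem_top x)).imp fun q hq =>
        ⟨hq.1, hq.2.imp fun m hm => ⟨hm.1, hm.2⟩⟩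
    have hxy : x * ⟨g * a * g⁻¹, hgL⟩ * x⁻¹ ∈ (P : Subgroup L) := by
      rw [← hx, Sylow.coe_subgroup_smul]
      exact ⟨_, hR (Subgroup.mem_zpowers _), by simp⟩
    have hmy : m * ⟨g * a * g⁻¹, hgL⟩ * m⁻¹ ∈ (P : Subgroup L) := by
      have := mul_mem (mul_mem (inv_mem hq) hxy) hq
      rwa [← hqm, show q⁻¹ * (q * m * ⟨g * a * g⁻¹, hgL⟩ * (q * m)⁻¹) * q =
        m * ⟨g * a * g⁻¹, hgL⟩ * m⁻¹ by group] at this
    have hA' := h.sc ((P : Subgroup L).map L.subtype) (P.isPGroup'.map _)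
      (fun b hb => ⟨⟨b, hAL hb⟩, hP (show L.subtype ⟨b, hAL hb⟩ ∈ A from hb), rfl⟩) a ha (m.1 * g)
      ⟨_, hmy, by simp [mul_assoc]⟩
    refine ⟨_, hA', ?_⟩
    have : π m.1 = 1 := (QuotientGroup.eq_one_iff _).2 hm
    rw [map_mul, map_mul, map_inv, map_mul, this, one_mul]
  · intro Y C hC hYA hYC hodd htrans
    rw [hcard]
    let Y' := Y.comap π ⊓ Subgroup.normalizer (A : Set K)
    let C' := C.comap π ⊓ A
    have hCC : Nat.card C' = Nat.card C := Nat.card_congr (Equiv.ofBijective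
      (fun c : C' => (⟨π c, (Subgroup.mem_inf.1 c.2).1⟩ : C))
      ⟨fun c d e => Subtype.ext (hinj _ (Subgroup.mem_inf.1 c.2).2 _ (Subgroup.mem_inf.1 d.2).2
        (congrArg Subtype.val e)), fun c => by
        obtain ⟨a, ha, hac⟩ := hC c.2
        exact ⟨⟨a, Subgroup.mem_inf.2 ⟨show π a ∈ C by rw [hac]; exact c.2, ha⟩⟩, Subtype.ext hac⟩⟩)
    rw [← hCC]
    refine h.nt Y' C' inf_le_right ?_ ?_ ?_ ?_
    · exact fun y hy a ha => (Subgroup.mem_normalizer_iff.1 (Subgroup.mem_inf.1 hy).2 a).1 ha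
    · intro y hy c hc
      obtain ⟨h1, h2⟩ := Subgroup.mem_inf.1 hy
      obtain ⟨k1, k2⟩ := Subgroup.mem_inf.1 hc
      refine Subgroup.mem_inf.2 ⟨?_, (Subgroup.mem_normalizer_iff.1 h2 c).1 k2⟩
      show π _ ∈ C
      rw [map_mul, map_mul, map_inv]; exact hYC _ h1 _ k1
    · intro y hy ho c hc
      obtain ⟨h1, h2⟩ := Subgroup.mem_inf.1 hy
      obtain ⟨k1, k2⟩ := Subgroup.mem_inf.1 hc
      refine hinj _ ((Subgroup.mem_normalizer_iff.1 h2 c).1 k2) c k2 ?_
      rw [map_mul, map_mul, map_inv]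
      exact hodd (π y) h1 (ho.of_dvd_nat (orderOf_map_dvd π y)) (π c) k1
    · intro a ha haC b hb hbC
      obtain ⟨y, hy, hyc⟩ := htrans (π a) ⟨a, ha, rfl⟩ (fun hc => haC (Subgroup.mem_inf.2 ⟨hc, ha⟩))
        (π b) ⟨b, hb, rfl⟩ (fun hc => hbC (Subgroup.mem_inf.2 ⟨hc, hb⟩))
      obtain ⟨y, rfl⟩ := QuotientGroup.mk'_surjective N y
      -- lift into the normaliser
      have hAN : A ≤ A ⊔ N := le_sup_left
      obtain ⟨x, hx, hxy⟩ := h.exists_conj_le hAN (g := y) fun d hd => by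
        obtain ⟨e, he, hed⟩ := hYA _ hy _ ⟨d, hd, rfl⟩
        have : e⁻¹ * (y * d * y⁻¹) ∈ N := QuotientGroup.eq.1 (show π e = π (y * d * y⁻¹) by
            rw [map_mul, map_mul, map_inv]; exact hed)
        rw [show y * d * y⁻¹ = e * (e⁻¹ * (y * d * y⁻¹)) by group]
        exact Subgroup.mul_mem_sup he this
      obtain ⟨a₁, ha₁, m, hm, rfl⟩ := Subgroup.mem_sup_of_normal_right.1 hx
      have hmy : m * y ∈ Subgroup.normalizer (A : Set K) := by
        have := mul_mem (inv_mem (Subgroup.le_normalizer ha₁)) hxy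
        rwa [show a₁⁻¹ * (a₁ * m * y) = m * y by group] at this
      have hπ : π (m * y) = π y := by
        rw [map_mul, show π m = 1 from (QuotientGroup.eq_one_iff _).2 hm, one_mul]
      refine ⟨m * y, Subgroup.mem_inf.2 ⟨show π (m * y) ∈ Y by rw [hπ]; exact hy, hmy⟩,
        Subgroup.mem_inf.2 ⟨?_, mul_mem ((Subgroup.mem_normalizer_iff.1 hmy a).1 ha) (inv_mem hb)⟩⟩
      show π _ ∈ C
      rw [map_mul, map_mul, map_mul, map_inv, map_inv, hπ]; exact hyc

/-- passing to the quotient by a central subgroup of `A` -/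
theorem Hyp.quotient_central [Finite K] (h : Hyp A) (Z : Subgroup K) [Z.Normal] (hZA : Z ≤ A)
    (hZc : ∀ z ∈ Z, ∀ g : K, g * z = z * g) : Hyp (A.map (QuotientGroup.mk' Z)) := by
  set π := QuotientGroup.mk' Z
  have hpre : ∀ x : K, π x ∈ A.map π → x ∈ A := by
    rintro x ⟨a, ha, e⟩
    have := mul_mem ha (hZA (QuotientGroup.eq.1 e))
    rwa [mul_inv_cancel_left] at this
  have hZp : IsPGroup 2 Z := h.isPGroup.to_le hZA
  refine ⟨⟨⟨⟨?_⟩⟩, ?_⟩, ?_, ?_⟩
  · rintro ⟨_, a, ha, rfl⟩ ⟨_, b, hb, rfl⟩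
    exact Subtype.ext (by show π a * π b = π b * π a; rw [← map_mul, h.comm ha hb, map_mul])
  · rintro _ ⟨a, ha, rfl⟩; rw [← map_pow, h.el.2 a ha, map_one]
  · rintro Q hQ hAQ _ ⟨a, ha, rfl⟩ g hg
    obtain ⟨g, rfl⟩ := QuotientGroup.mk'_surjective Z g
    have hp : IsPGroup 2 ↥(Q.comap π) := HallCore.isPGroup_comap_mk' hZp hQ
    refine ⟨_, h.sc (Q.comap π) hp (fun x hx => hAQ ⟨x, hx, rfl⟩) a ha g ?_,
      by rw [map_mul, map_mul, map_inv]⟩
    show π _ ∈ Q; rw [map_mul, map_mul, map_inv]; exact hg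
  · intro Y C hC hYA hYC hodd htrans
    let C' := C.comap π
    have hC' : C' ≤ A := fun x hx => hpre x (hC hx)
    have hZC : Z ≤ C' := fun x hx => by
      show π x ∈ C; rw [show π x = 1 from (QuotientGroup.eq_one_iff _).2 hx]; exact one_mem _
    have e1 : Nat.card (A.map π) * Nat.card Z = Nat.card A := HallCore.card_map_mk'_mul Z A hZA
    have e2 : Nat.card C * Nat.card Z = Nat.card C' := by
      have := HallCore.card_map_mk'_mul Z C' hZC
      rwa [Subgroup.map_comap_eq_self_of_surjective (QuotientGroup.mk'_surjective Z) C] at this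
    have hmain : Nat.card A ≤ 2 * Nat.card C' := by
      refine h.nt (Y.comap π) C' hC' ?_ ?_ ?_ ?_
      · exact fun y hy a ha => hpre _ (by rw [map_mul, map_mul, map_inv]; exact hYA _ hy _ ⟨a, ha, rfl⟩)
      · intro y hy c hc
        show π _ ∈ C
        rw [map_mul, map_mul, map_inv]; exact hYC _ hy _ hc
      · intro y hy ho c hc
        have h1 : π (y * c * y⁻¹) = π c := by
          rw [map_mul, map_mul, map_inv]
          exact hodd (π y) hy (ho.of_dvd_nat (orderOf_map_dvd π y)) (π c) hc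
        obtain ⟨z, hz, hzc⟩ : ∃ z ∈ Z, y * c * y⁻¹ = c * z :=
          ⟨_, QuotientGroup.eq.1 h1.symm, (mul_inv_cancel_left c _).symm⟩
        have hk : ∀ n : ℕ, y ^ n * c * (y ^ n)⁻¹ = c * z ^ n := by
          intro n
          induction n with
          | zero => simp
          | succ n ih =>
            calc y ^ (n + 1) * c * (y ^ (n + 1))⁻¹ = y * (y ^ n * c * (y ^ n)⁻¹) * y⁻¹ := by
                  rw [pow_succ']; group
              _ = y * c * y⁻¹ * (y * z ^ n * y⁻¹) := by rw [ih]; group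
              _ = c * z ^ (n + 1) := by
                  rw [hzc, hZc (z ^ n) (pow_mem hz n) y, mul_inv_cancel_right, pow_succ', mul_assoc]
        have h2 := hk (orderOf y)
        rw [pow_orderOf_eq_one] at h2
        simp only [one_mul, inv_one, mul_one] at h2
        obtain ⟨k, hk'⟩ := ho
        rw [hk', pow_succ, pow_mul, h.el.2 z (hZA hz), one_pow, one_mul, left_eq_mul] at h2
        rw [hzc, h2, mul_one]
      · intro a ha haC b hb hbC
        obtain ⟨y, hy, hyc⟩ := htrans (π a) ⟨a, ha, rfl⟩ haC (π b) ⟨b, hb, rfl⟩ hbC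
        obtain ⟨y, rfl⟩ := QuotientGroup.mk'_surjective Z y
        exact ⟨y, hy, show π _ ∈ C by rw [map_mul, map_mul, map_mul, map_inv, map_inv]; exact hyc⟩
    rw [← e1, ← e2, ← mul_assoc] at hmain
    exact Nat.le_of_mul_le_mul_right hmain Nat.card_pos

end Cfsg.Agent.StrongClosedNTBase20
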