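import Mathlib
import Cfsg.Agent.Lib.StrongClosedNTBase20
import Cfsg.Agent.Lib.SignalizerBasic
import Cfsg.Agent.Lib.IsolatedTwoElement67
import Cfsg.Agent.S0205
import Cfsg.Agent.S0217

/-!
# Strongly closed elementary abelian 2-subgroups without transitive sections are normal modulo `O`

`normal_of_hyp`: `Hyp A` and trivial odd core imply that `A` is normal.
-/

set_option autoImplicit false

namespace Cfsg.Agent.StrongClosedNT20

open Cfsg Cfsg.Agent.StrongClosedNTBase20 Cfsg.Agent.SignalizerCoprime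

universe u

section Local

variable {K : Type u} [Group K] [Finite K] {A : Subgroup K}

/-- the conjugate of the odd core of a centraliser -/
theorem conj_core {a : K} (g : K) {x : K} (hx : x ∈ centralizerPPrimeCore 2 a) :
    g * x * g⁻¹ ∈ centralizerPPrimeCore 2 (g * a * g⁻¹) := by
  haveI : Fact (Nat.Prime 2) := ⟨Nat.prime_two⟩
  refine SignalizerBasic.le_centralizerPPrimeCore
    (M := (centralizerPPrimeCore 2 a).map (MulAut.conj g).toMonoidHom) ?_ ?_ ?_ ⟨x, hx, by simp⟩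
  · rintro _ ⟨y, hy, rfl⟩
    have := Subgroup.mem_centralizer_singleton_iff.1 (SignalizerBasic.centralizerPPrimeCore_le 2 a hy)
    refine Subgroup.mem_centralizer_singleton_iff.2 ?_
    simp only [MulEquiv.coe_toMonoidHom, MulAut.conj_apply]
    rw [show g * y * g⁻¹ * (g * a * g⁻¹) = g * (y * a) * g⁻¹ by group, this]
    group
  · refine le_normalizer_of_forall fun c hc z hz => ?_
    obtain ⟨y, hy, rfl⟩ := hz
    have hc' : g⁻¹ * c * g ∈ Subgroup.centralizer {a} := by
      have := Subgroup.mem_centralizer_singleton_iff.1 hc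
      refine Subgroup.mem_centralizer_singleton_iff.2 ?_
      calc g⁻¹ * c * g * a = g⁻¹ * (c * (g * a * g⁻¹)) * g := by group
        _ = a * (g⁻¹ * c * g) := by rw [this]; group
    exact ⟨g⁻¹ * c * g * y * (g⁻¹ * c * g)⁻¹,
      mem_normalizer_conj (SignalizerBasic.centralizer_le_normalizer_centralizerPPrimeCore 2 a hc') hy,
      by simp [mul_assoc]⟩
  · rw [Subgroup.card_map_of_injective (MulAut.conj g).injective]
    exact SignalizerBasic.not_dvd_card_centralizerPPrimeCore 2 a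

/-- the image of `A` is normal in `C(a)/O(C(a))` -/
def NormalMod (A : Subgroup K) (a : K) : Prop :=
  ∀ c ∈ Subgroup.centralizer {a}, ∀ x ∈ A, ∃ x' ∈ A, x'⁻¹ * (c * x * c⁻¹) ∈ centralizerPPrimeCore 2 a

/-- `C(a)` lies in any subgroup containing `N(A)` and `O(C(a))` -/
theorem centralizer_le_of_normalMod (h : Hyp A) {a : K} (ha : a ∈ A) (hn : NormalMod A a)
    {M : Subgroup K} (hA : Subgroup.normalizer (A : Set K) ≤ M)
    (hO : centralizerPPrimeCore 2 a ≤ M) : Subgroup.centralizer {a} ≤ M := by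
  intro c hc
  have hAC : A ≤ Subgroup.centralizer {a} := fun x hx =>
    Subgroup.mem_centralizer_singleton_iff.2 (h.comm hx ha)
  set O := centralizerPPrimeCore 2 a
  have hNO : A ≤ Subgroup.normalizer (O : Set K) :=
    hAC.trans (SignalizerBasic.centralizer_le_normalizer_centralizerPPrimeCore 2 a)
  obtain ⟨x, hx, hxc⟩ := h.exists_conj_le (H := A ⊔ O) le_sup_left (g := c) fun y hy => by
    obtain ⟨y', hy', hh⟩ := hn c hc y hy
    have := Subgroup.mul_mem_sup hy' hh
    rwa [mul_inv_cancel_left] at this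
  have hxM : x ∈ M := sup_le ((Subgroup.le_normalizer).trans hA) hO hx
  have := M.mul_mem (inv_mem hxM) (hA hxc)
  rwa [inv_mul_cancel_left] at this

/-- balance -/
theorem balance (h : Hyp A) {a b : K} (ha : a ∈ A) (hb : b ∈ A) (hn : NormalMod A b) :
    centralizerPPrimeCore 2 a ⊓ Subgroup.centralizer {b} ≤ centralizerPPrimeCore 2 b := by
  haveI : Fact (Nat.Prime 2) := ⟨Nat.prime_two⟩
  set C := Subgroup.centralizer ({b} : Set K) with hC
  set O := pPrimeCore 2 C with hO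
  haveI hOn : O.Normal := HallCore.pPrimeCore_normal 2 _
  set π := QuotientGroup.mk' O with hπ
  have hAC : A ≤ C := fun x hx => Subgroup.mem_centralizer_singleton_iff.2 (h.comm hx hb)
  have hAa : A ≤ Subgroup.centralizer {a} := fun x hx =>
    Subgroup.mem_centralizer_singleton_iff.2 (h.comm hx ha)
  have hmemO : ∀ x : C, x.1 ∈ centralizerPPrimeCore 2 b ↔ x ∈ O := fun x => by
    refine ⟨?_, fun hx => ⟨x, hx, rfl⟩⟩
    rintro ⟨y, hy, e⟩
    rwa [← Subtype.ext (e : y.1 = x.1)]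
  have hOodd : Odd (Nat.card O) := Nat.coprime_two_right.1 (HallCore.coprime_card_pPrimeCore 2 _)
  have hA' := (h.subgroup hAC).quotient_odd O hOodd
  set Ab := (A.subgroupOf C).map π with hAb
  have hAbn : Ab.Normal := ⟨fun n hn' g => by
    obtain ⟨n, hn'', rfl⟩ := hn'
    obtain ⟨g, rfl⟩ := QuotientGroup.mk'_surjective O g
    obtain ⟨x', hx', hh⟩ := hn g.1 g.2 n.1 hn''
    refine ⟨⟨x', hAC hx'⟩, hx', ?_⟩
    rw [← map_inv, ← map_mul, ← map_mul]
    exact QuotientGroup.eq.2 ((hmemO (⟨x', hAC hx'⟩⁻¹ * (g * n * g⁻¹))).1 hh)⟩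
  set X := (centralizerPPrimeCore 2 a).subgroupOf C with hX
  have hXodd : Odd (Nat.card (X.map π)) := by
    refine Odd.of_dvd_nat ?_ (Subgroup.card_map_dvd _ _)
    refine Odd.of_dvd_nat ?_ (HallCore.card_subgroupOf_dvd _ _)
    exact Nat.not_even_iff_odd.1 fun he =>
      SignalizerBasic.not_dvd_card_centralizerPPrimeCore 2 a he.two_dvd
  have hXc : X.map π ≤ Subgroup.centralizer (Ab : Set (C ⧸ O)) := by
    rintro _ ⟨x, hx, rfl⟩ _ ⟨y, hy, rfl⟩
    -- the commutator has odd order and lies in the image of `A`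
    have h1 : π (x * y * x⁻¹ * y⁻¹) ∈ Ab := by
      rw [map_mul, map_mul, map_mul, map_inv, map_inv]
      exact mul_mem (hAbn.conj_mem _ ⟨y, hy, rfl⟩ _) (inv_mem ⟨y, hy, rfl⟩)
    have h2 : π (x * y * x⁻¹ * y⁻¹) ∈ X.map π := by
      refine ⟨_, ?_, rfl⟩
      show x.1 * y.1 * x.1⁻¹ * y.1⁻¹ ∈ centralizerPPrimeCore 2 a
      rw [mul_assoc, mul_assoc, ← mul_assoc y.1]
      exact mul_mem hx (mem_normalizer_conj
        ((hAa.trans (SignalizerBasic.centralizer_le_normalizer_centralizerPPrimeCore 2 a)) hy)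
        (inv_mem hx))
    have h3 : π (x * y * x⁻¹ * y⁻¹) = 1 := by
      rw [← orderOf_eq_one_iff]
      exact Nat.eq_one_of_dvd_coprimes (Nat.coprime_two_left.2 hXodd)
        (orderOf_dvd_of_pow_eq_one (hA'.1.el.2 _ h1)) (Subgroup.orderOf_dvd_natCard _ h2)
    rw [map_mul, map_inv, mul_inv_eq_one, map_mul, map_mul, map_inv, mul_inv_eq_iff_eq_mul] at h3
    exact h3.symm
  -- every element centralising `Ab` normalises the image of `X`
  have hXn : Subgroup.centralizer (Ab : Set (C ⧸ O)) ≤ Subgroup.normalizer (X.map π : Set (C ⧸ O)) := by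
    refine le_normalizer_of_forall fun g hg z hz => ?_
    obtain ⟨x, hx, rfl⟩ := hz
    obtain ⟨g, rfl⟩ := QuotientGroup.mk'_surjective O g
    have hg' : ∀ y ∈ A.subgroupOf C, y⁻¹ * (g * y * g⁻¹) ∈ O := fun y hy => QuotientGroup.eq.1 (by
      have := hg (π y) ⟨y, hy, rfl⟩
      show π y = π (g * y * g⁻¹)
      rw [map_mul, map_mul, map_inv, ← this, mul_inv_cancel_right])
    have hle : A.subgroupOf C ≤ A.subgroupOf C ⊔ O := le_sup_left
    obtain ⟨w, hw, hwg⟩ := (h.subgroup hAC).exists_conj_le hle (g := g) fun y hy => by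
      have := Subgroup.mul_mem_sup hy (hg' y hy)
      rwa [mul_inv_cancel_left] at this
    obtain ⟨a₁, ha₁, m, hm, rfl⟩ := Subgroup.mem_sup_of_normal_right.1 hw
    set g' := m * g with hg'def
    have hπg : π g' = π g := by
      rw [hg'def, map_mul, show π m = 1 from (QuotientGroup.eq_one_iff _).2 hm, one_mul]
    have hgN : g' ∈ Subgroup.normalizer (A.subgroupOf C : Set C) := by
      have := mul_mem (inv_mem (Subgroup.le_normalizer ha₁)) hwg
      rwa [show a₁⁻¹ * (a₁ * m * g) = g' by rw [hg'def]; group] at this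
    -- it centralises `A`
    have hga : g'.1 * a * g'.1⁻¹ = a := by
      have hmem : g' * ⟨a, hAC ha⟩ * g'⁻¹ ∈ A.subgroupOf C :=
        (Subgroup.mem_normalizer_iff.1 hgN ⟨a, hAC ha⟩).1 ha
      have heq : π (g' * ⟨a, hAC ha⟩ * g'⁻¹) = π ⟨a, hAC ha⟩ := by
        rw [map_mul, map_mul, map_inv, hπg]
        have := hg (π ⟨a, hAC ha⟩) ⟨_, ha, rfl⟩
        rw [← this, mul_inv_cancel_right]
      have hdis : ∀ y ∈ A.subgroupOf C, y ∈ O → y = 1 := fun y hy hyO => by
        rw [← orderOf_eq_one_iff]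
        exact Nat.eq_one_of_dvd_coprimes (Nat.coprime_two_left.2 hOodd)
          (orderOf_dvd_of_pow_eq_one ((h.subgroup hAC).el.2 y hy)) (Subgroup.orderOf_dvd_natCard _ hyO)
      have := inv_mul_eq_one.1 (hdis _ (mul_mem (inv_mem hmem) ha) (QuotientGroup.eq.1 heq))
      exact congrArg Subtype.val this
    refine ⟨g' * x * g'⁻¹, ?_, by rw [map_mul, map_mul, map_inv, hπg]⟩
    show g'.1 * x.1 * g'.1⁻¹ ∈ centralizerPPrimeCore 2 a
    exact mem_normalizer_conj (SignalizerBasic.centralizer_le_normalizer_centralizerPPrimeCore 2 a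
      (Subgroup.mem_centralizer_singleton_iff.2 (mul_inv_eq_iff_eq_mul.1 hga))) hx
  -- conclude
  haveI := hAbn
  set D := Subgroup.centralizer (Ab : Set (C ⧸ O))
  haveI : ((X.map π).subgroupOf D).Normal := Subgroup.normal_subgroupOf_of_le_normalizer hXn
  have hcore : pPrimeCore 2 (C ⧸ O) = ⊥ := HallCore.pPrimeCore_quotient_self 2 C
  have hXD := ZStarBasic.eq_bot_of_normal_odd (ZStarBasic.pPrimeCore_normal_eq_bot hcore D)
    ((X.map π).subgroupOf D) (hXodd.of_dvd_nat (HallCore.card_subgroupOf_dvd _ _))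
  rw [Subgroup.subgroupOf_eq_bot] at hXD
  intro x hx
  obtain ⟨hx1, hx2⟩ := Subgroup.mem_inf.1 hx
  have hxX : (⟨x, hx2⟩ : C) ∈ X := hx1
  have : π ⟨x, hx2⟩ = 1 :=
    Subgroup.mem_bot.1 (hXD.le_bot (Subgroup.mem_inf.2 ⟨⟨_, hxX, rfl⟩, hXc ⟨_, hxX, rfl⟩⟩))
  exact (hmemO ⟨x, hx2⟩).2 ((QuotientGroup.eq_one_iff _).1 this)

/-- conjugates of elements of `A` stay in a subgroup containing all centralisers -/
theorem conj_mem_of_centralizers (h : Hyp A) {M : Subgroup K}
    (hM : ∀ a ∈ A, a ≠ 1 → Subgroup.centralizer {a} ≤ M)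
    (hnc : ∀ b ∈ A, b ≠ 1 → ∃ a ∈ A, a ≠ 1 ∧ ∀ g : K, g * a * g⁻¹ ≠ b)
    {b : K} (hb : b ∈ A) (hb1 : b ≠ 1) (g : K) : g * b * g⁻¹ ∈ M := by
  haveI : Fact (Nat.Prime 2) := ⟨Nat.prime_two⟩
  obtain ⟨a, ha, ha1, hne⟩ := hnc b hb hb1
  set y := g * b * g⁻¹ with hy
  have hy2 : y * y = 1 := by
    rw [hy, show g * b * g⁻¹ * (g * b * g⁻¹) = g * (b * b) * g⁻¹ by group, h.sq hb]; group
  have ha2 : a * a = 1 := h.sq ha
  have hnotconj : ∀ k : K, k * a * k⁻¹ ≠ y := fun k e => hne (g⁻¹ * k) (by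
    calc g⁻¹ * k * a * (g⁻¹ * k)⁻¹ = g⁻¹ * (k * a * k⁻¹) * g := by group
      _ = b := by rw [e, hy]; group)
  set d := a * y with hd
  have hay : y = a * d := by rw [hd, ← mul_assoc, ha2, one_mul]
  have hinv : ∀ n : ℕ, a * d ^ n * a⁻¹ = (d ^ n)⁻¹ := by
    intro n
    rw [← conj_pow, ← inv_pow]
    congr 1
    rw [hd, mul_inv_rev, inv_eq_of_mul_eq_one_right hy2, inv_eq_of_mul_eq_one_right ha2, ← mul_assoc, ha2,
      one_mul]
  have hflip : ∀ n : ℕ, d ^ n * a * (d ^ n)⁻¹ = d ^ (2 * n) * a := fun n => by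
    rw [mul_assoc, ← hinv n, inv_eq_of_mul_eq_one_right ha2, ← mul_assoc a, ← mul_assoc a, ha2, one_mul,
      ← mul_assoc, ← pow_add, two_mul]
  obtain ⟨m, hm⟩ : Even (orderOf d) := by
    by_contra ho
    obtain ⟨m, hm⟩ := Nat.not_even_iff_odd.1 ho
    apply hnotconj (d ^ m)
    rw [hflip, hay]
    have h1 : d ^ (2 * m) * d = 1 := by rw [← pow_succ, ← hm, pow_orderOf_eq_one]
    have h2 : d ^ (2 * m) = d⁻¹ := eq_inv_of_mul_eq_one_left h1
    have h3 := hinv 1
    rw [pow_one] at h3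
    rw [h2, ← h3]; group
  set w := d ^ m with hw
  have hm1 : 0 < m := by have := orderOf_pos d; omega
  have hww : w * w = 1 := by rw [hw, ← pow_add, ← hm, pow_orderOf_eq_one]
  have hw1 : w ≠ 1 := fun e => by
    have := orderOf_dvd_of_pow_eq_one e
    exact absurd (Nat.le_of_dvd hm1 this) (by omega)
  have hwinv : w⁻¹ = w := inv_eq_of_mul_eq_one_right hww
  have haw : a * w = w * a := by
    have := hinv m
    rw [← hw, hwinv] at this
    calc a * w = a * w * a⁻¹ * a := by group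
      _ = w * a := by rw [this]
  have hyw : y * w = w * y := by
    rw [hay, mul_assoc, show d * w = w * d from (Commute.self_pow d m).eq, ← mul_assoc, haw, mul_assoc]
  -- a four group
  obtain ⟨R, hR⟩ : ∃ R : Sylow 2 K, a ∈ (R : Subgroup K) ∧ w ∈ (R : Subgroup K) := by
    obtain ⟨R, hR⟩ := (IsPGroup.to_sup_of_normal_right' (K := Subgroup.zpowers w)
      (isPGroup_zpowers (p := 2) (by rw [pow_two]; exact ha2))
      (isPGroup_zpowers (p := 2) (by rw [pow_two]; exact hww))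
      (by
        rw [Subgroup.zpowers_le]
        refine Subgroup.mem_normalizer_iff.2 fun z => ?_
        have hc : ∀ z ∈ Subgroup.zpowers w, a * z * a⁻¹ = z := by
          rintro _ ⟨k, rfl⟩
          show a * w ^ k * a⁻¹ = w ^ k
          rw [(Commute.zpow_right (show Commute a w from haw) k).eq, mul_inv_cancel_right]
        refine ⟨fun hz => by rw [hc z hz]; exact hz, fun hz => ?_⟩
        have := hc _ hz
        have e : a * z * a⁻¹ = z := by
          calc a * z * a⁻¹ = a⁻¹ * (a * (a * z * a⁻¹) * a⁻¹) * a := by group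
            _ = a⁻¹ * (a * z * a⁻¹) * a := by rw [this]
            _ = z := by group
        rwa [e] at hz)).exists_le_sylow
    exact ⟨R, hR (le_sup_left (α := Subgroup K) (Subgroup.mem_zpowers a)),
      hR (le_sup_right (α := Subgroup K) (Subgroup.mem_zpowers w))⟩
  obtain ⟨S₀, hS₀⟩ := h.isPGroup.exists_le_sylow
  obtain ⟨k, hk⟩ := MulAction.exists_smul_eq K R S₀
  have hmove : ∀ {x : K}, x ∈ (R : Subgroup K) → k * x * k⁻¹ ∈ (S₀ : Subgroup K) := fun {x} hx => by
    rw [← hk, Sylow.coe_subgroup_smul]; exact ⟨x, hx, by simp⟩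
  have hkA : ∀ {x : K}, x ∈ (R : Subgroup K) → (∃ c ∈ A, ∃ l : K, l * c * l⁻¹ = x) → k * x * k⁻¹ ∈ A := by
    rintro x hx ⟨c, hc, l, rfl⟩
    have := hmove hx
    rw [show k * (l * c * l⁻¹) * k⁻¹ = k * l * c * (k * l)⁻¹ by group] at this ⊢
    exact h.sc _ S₀.isPGroup' hS₀ c hc _ this
  have hka : k * a * k⁻¹ ∈ A := hkA hR.1 ⟨a, ha, 1, by group⟩
  have hkaw : k * (a * w) * k⁻¹ ∈ A := by
    refine hkA (mul_mem hR.1 hR.2) ?_
    rcases Nat.even_or_odd' m with ⟨j, hj | hj⟩
    · refine ⟨a, ha, d ^ j, ?_⟩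
      rw [hflip, ← hj, ← hw, haw]
    · refine ⟨b, hb, d ^ (j + 1) * g, ?_⟩
      have h1 : d ^ (j + 1) * y * (d ^ (j + 1))⁻¹ = w * a := by
        rw [hay, show d ^ (j + 1) * (a * d) * (d ^ (j + 1))⁻¹ =
          d ^ (j + 1) * a * (d ^ (j + 1))⁻¹ * d by
          rw [show d ^ (j + 1) * (a * d) * (d ^ (j + 1))⁻¹ = d ^ (j + 1) * a * (d * (d ^ (j + 1))⁻¹) by group,
            (Commute.inv_right (Commute.self_pow d (j + 1))).eq]
          group, hflip]
        have h3 := hinv 1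
        rw [pow_one] at h3
        rw [hw, hj, show 2 * (j + 1) = 2 * j + 1 + 1 by ring, pow_succ _ (2 * j + 1)]
        rw [mul_assoc, mul_assoc, ← mul_assoc d a d]
        congr 1
        calc d * a * d = d * (a * d * a⁻¹) * a := by group
          _ = a := by rw [h3]; group
      calc d ^ (j + 1) * g * b * (d ^ (j + 1) * g)⁻¹ = d ^ (j + 1) * y * (d ^ (j + 1))⁻¹ := by
            rw [hy]; group
        _ = a * w := by rw [h1, haw]
  have hkw : k * w * k⁻¹ ∈ A := by
    have := mul_mem (inv_mem hka) hkaw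
    rwa [show (k * a * k⁻¹)⁻¹ * (k * (a * w) * k⁻¹) = k * w * k⁻¹ by group] at this
  -- move the conjugate of `A` to `A` inside `C(a)`
  obtain ⟨x, hx, hxk⟩ := h.exists_conj_le (H := Subgroup.centralizer {a}) (g := k⁻¹)
    (fun c hc => Subgroup.mem_centralizer_singleton_iff.2 (h.comm hc ha)) fun c hc => by
      rw [Subgroup.mem_centralizer_singleton_iff]
      calc k⁻¹ * c * k⁻¹⁻¹ * a = k⁻¹ * (c * (k * a * k⁻¹)) * k := by group
        _ = a * (k⁻¹ * c * k⁻¹⁻¹) := by rw [h.comm hc hka]; group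
  have hw' : x * w * x⁻¹ ∈ A := by
    have := (Subgroup.mem_normalizer_iff.1 hxk _).1 hkw
    rwa [show x * k⁻¹ * (k * w * k⁻¹) * (x * k⁻¹)⁻¹ = x * w * x⁻¹ by group] at this
  have hw'1 : x * w * x⁻¹ ≠ 1 := fun e => hw1 (by
    calc w = x⁻¹ * (x * w * x⁻¹) * x := by group
      _ = 1 := by rw [e]; group)
  have hxM : x ∈ M := hM a ha ha1 hx
  have hyC : x * y * x⁻¹ ∈ Subgroup.centralizer {x * w * x⁻¹} := by
    rw [Subgroup.mem_centralizer_singleton_iff]
    calc x * y * x⁻¹ * (x * w * x⁻¹) = x * (y * w) * x⁻¹ := by group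
      _ = x * (w * y) * x⁻¹ := by rw [hyw]
      _ = x * w * x⁻¹ * (x * y * x⁻¹) := by group
  have := M.mul_mem (M.mul_mem (inv_mem hxM) (hM _ hw' hw'1 hyC)) hxM
  rwa [show x⁻¹ * (x * y * x⁻¹) * x = y by group] at this

end Local

theorem normal_aux : ∀ (n : ℕ) {K : Type u} [Group K] [Finite K] (A : Subgroup K),
    Nat.card K ≤ n → Hyp A → pPrimeCore 2 K = ⊥ → A.Normal := by
  intro n
  induction n using Nat.strong_induction_on with
  | _ n IH =>
  intro K _ _ A hn h hO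
  haveI : Fact (Nat.Prime 2) := ⟨Nat.prime_two⟩
  by_cases hZ : ∃ z ∈ A, z ≠ 1 ∧ z ∈ Subgroup.center K
  · obtain ⟨z, hzA, hz1, hzc⟩ := hZ
    have hzo : orderOf z = 2 := orderOf_eq_prime (h.el.2 z hzA) hz1
    haveI : (Subgroup.zpowers z).Normal := ⟨fun x hx g => by
      rw [(Subgroup.mem_center_iff.1 (Subgroup.zpowers_le.2 hzc hx) g), mul_inv_cancel_right]; exact hx⟩
    have hq := h.quotient_central (Subgroup.zpowers z) (Subgroup.zpowers_le.2 hzA)
      fun x hx g => Subgroup.mem_center_iff.1 (Subgroup.zpowers_le.2 hzc hx) g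
    have hlt : Nat.card (K ⧸ Subgroup.zpowers z) < n := by
      refine lt_of_lt_of_le ?_ hn
      rw [Subgroup.card_eq_card_quotient_mul_card_subgroup (Subgroup.zpowers z), Nat.card_zpowers, hzo]
      have := Nat.card_pos (α := K ⧸ Subgroup.zpowers z)
      omega
    have hN := IH _ hlt _ le_rfl hq (IsolatedTwoElement67.pPrimeCore_quotient_two hO hzo)
    constructor
    intro x hx g
    obtain ⟨y, hy, e⟩ := hN.conj_mem _ ⟨x, hx, rfl⟩ (QuotientGroup.mk' (Subgroup.zpowers z) g)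
    rw [← map_inv, ← map_mul, ← map_mul] at e
    have := mul_mem hy (Subgroup.zpowers_le.2 hzA (QuotientGroup.eq.1 e))
    rwa [mul_inv_cancel_left] at this
  push Not at hZ
  by_contra hnot
  -- no element is alone in its class
  have hmoved : ∀ a ∈ A, a ≠ 1 → ∃ g : K, g * a * g⁻¹ ∈ A ∧ g * a * g⁻¹ ≠ a := by
    intro a ha ha1
    by_contra hc
    push Not at hc
    obtain ⟨S₀, hS₀⟩ := h.isPGroup.exists_le_sylow
    exact hZ a ha ha1 (ZStarTheorem.mem_center_of_isolated (ZStarBasic.isolated_of_sylow S₀ a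
      (orderOf_eq_prime (h.el.2 a ha) ha1) (hS₀ ha)
      fun g hg => hc g (h.sc _ S₀.isPGroup' hS₀ a ha g hg)) hO)
  have hA1 : ∃ a ∈ A, a ≠ 1 := by
    by_contra hc
    push Not at hc
    exact hnot ⟨fun x hx g => by rw [hc x hx]; simp⟩
  obtain ⟨a₀, ha₀, ha₀1⟩ := hA1
  -- there are two classes
  have hnc : ∀ b ∈ A, b ≠ 1 → ∃ a ∈ A, a ≠ 1 ∧ ∀ g : K, g * a * g⁻¹ ≠ b := by
    intro b hb hb1
    by_contra hc
    push Not at hc
    have hall : ∀ a ∈ A, a ≠ 1 → ∀ c ∈ A, c ≠ 1 →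
        ∃ m ∈ Subgroup.normalizer (A : Set K), m * a * m⁻¹ = c := by
      intro a ha ha1 c hcA hc1
      obtain ⟨g₁, h1⟩ := hc a ha ha1
      obtain ⟨g₂, h2⟩ := hc c hcA hc1
      have he : g₂⁻¹ * g₁ * a * (g₂⁻¹ * g₁)⁻¹ = c := by
        calc g₂⁻¹ * g₁ * a * (g₂⁻¹ * g₁)⁻¹ = g₂⁻¹ * (g₁ * a * g₁⁻¹) * g₂ := by group
          _ = c := by rw [h1, ← h2]; group
      obtain ⟨m, hm, hme⟩ := h.fusion ha (g := g₂⁻¹ * g₁) (by rw [he]; exact hcA)
      exact ⟨m, hm, hme.trans he⟩
    have hcard := h.nt (Subgroup.normalizer (A : Set K)) ⊥ bot_le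
      (fun y hy a ha => (Subgroup.mem_normalizer_iff.1 hy a).1 ha)
      (fun y _ c hc => by rw [Subgroup.mem_bot] at hc ⊢; rw [hc]; simp)
      (fun y _ _ c hc => by rw [Subgroup.mem_bot] at hc; rw [hc]; simp)
      fun a ha ha1 c hcA hc1 => by
        obtain ⟨m, hm, e⟩ := hall a ha (by simpa using ha1) c hcA (by simpa using hc1)
        exact ⟨m, hm, by rw [e]; simp⟩
    rw [Subgroup.card_bot, mul_one] at hcard
    obtain ⟨g, hg, hgne⟩ := hmoved b hb hb1
    have h3 : ({1, b, g * b * g⁻¹} : Set K) ⊆ A := by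
      rintro x (rfl | rfl | rfl) <;> [exact one_mem _; exact hb; exact hg]
    have h4 : ({1, b, g * b * g⁻¹} : Set K).ncard = 3 := by
      rw [Set.ncard_eq_three]
      refine ⟨1, b, g * b * g⁻¹, fun e => hb1 e.symm, fun e => hb1 ?_, fun e => hgne e.symm, rfl⟩
      calc b = g⁻¹ * (g * b * g⁻¹) * g := by group
        _ = 1 := by rw [← e]; group
    have h5 := Set.ncard_le_ncard h3
    rw [h4, ← Nat.card_coe_set_eq] at h5
    exact absurd (h5.trans hcard) (by omega)
  -- the centralisers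
  have hnm : ∀ a ∈ A, a ≠ 1 → NormalMod A a := by
    intro a ha ha1
    set C := Subgroup.centralizer ({a} : Set K)
    have hAC : A ≤ C := fun x hx => Subgroup.mem_centralizer_singleton_iff.2 (h.comm hx ha)
    haveI : (pPrimeCore 2 C).Normal := HallCore.pPrimeCore_normal 2 _
    have hlt : Nat.card (C ⧸ pPrimeCore 2 C) < n := by
      refine lt_of_lt_of_le (lt_of_le_of_lt (Nat.card_le_card_of_surjective _
        (QuotientGroup.mk'_surjective (pPrimeCore 2 C))) ?_) hn
      refine lt_of_le_of_ne (Subgroup.card_le_card_group C) fun e => hZ a ha ha1 ?_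
      have := (Subgroup.card_eq_iff_eq_top C).1 e
      exact Subgroup.mem_center_iff.2 fun g =>
        Subgroup.mem_centralizer_singleton_iff.1 (this ▸ Subgroup.mem_top g : g ∈ C)
    have hN := IH _ hlt _ le_rfl ((h.subgroup hAC).quotient_odd _
      (Nat.coprime_two_right.1 (HallCore.coprime_card_pPrimeCore 2 _))).1
      (HallCore.pPrimeCore_quotient_self 2 C)
    intro c hc x hx
    obtain ⟨y, hy, e⟩ := hN.conj_mem _ ⟨⟨x, hAC hx⟩, hx, rfl⟩ (QuotientGroup.mk' _ ⟨c, hc⟩)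
    rw [← map_inv, ← map_mul, ← map_mul] at e
    exact ⟨y.1, hy, ⟨_, QuotientGroup.eq.1 e, rfl⟩⟩
  -- rank at least three
  have h8 : 2 ^ 3 ≤ Nat.card A := by
    by_contra hlt
    obtain ⟨j, hj⟩ := IsPGroup.iff_card.1 h.isPGroup
    have hj3 : j < 3 := by
      by_contra hj3
      exact hlt (hj ▸ Nat.pow_le_pow_right (by norm_num) (by omega))
    have hj4 : Nat.card A ≤ 4 := hj ▸ (Nat.pow_le_pow_right (by norm_num) (by omega : j ≤ 2))
    obtain ⟨a, ha, ha1, hne⟩ := hnc a₀ ha₀ ha₀1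
    obtain ⟨g₁, hg₁, hg₁ne⟩ := hmoved a ha ha1
    obtain ⟨g₀, hg₀, hg₀ne⟩ := hmoved a₀ ha₀ ha₀1
    have hsub : ({1, a, g₁ * a * g₁⁻¹, a₀, g₀ * a₀ * g₀⁻¹} : Set K) ⊆ A := by
      rintro x (rfl | rfl | rfl | rfl | rfl) <;>
        [exact one_mem _; exact ha; exact hg₁; exact ha₀; exact hg₀]
    have h5 : ({1, a, g₁ * a * g₁⁻¹, a₀, g₀ * a₀ * g₀⁻¹} : Set K).ncard = 5 := by
      have n1 : ∀ {x g : K}, x ≠ 1 → 1 ≠ g * x * g⁻¹ := fun {x g} hx e => hx (by
        calc x = g⁻¹ * (g * x * g⁻¹) * g := by group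
          _ = 1 := by rw [← e]; group)
      have n2 : ∀ g g' : K, g * a * g⁻¹ ≠ g' * a₀ * g'⁻¹ := fun g g' e => hne (g'⁻¹ * g) (by
        calc g'⁻¹ * g * a * (g'⁻¹ * g)⁻¹ = g'⁻¹ * (g * a * g⁻¹) * g' := by group
          _ = a₀ := by rw [e]; group)
      have e1 := n2 1 1
      have e2 := n2 1 g₀
      have e3 := n2 g₁ 1
      simp only [one_mul, inv_one, mul_one] at e1 e2 e3
      rw [Set.ncard_insert_of_notMem (by
          simp only [Set.mem_insert_iff, Set.mem_singleton_iff, not_or]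
          exact ⟨ha1.symm, n1 ha1, ha₀1.symm, n1 ha₀1⟩),
        Set.ncard_insert_of_notMem (by
          simp only [Set.mem_insert_iff, Set.mem_singleton_iff, not_or]
          exact ⟨hg₁ne.symm, e1, e2⟩),
        Set.ncard_insert_of_notMem (by
          simp only [Set.mem_insert_iff, Set.mem_singleton_iff, not_or]
          exact ⟨e3, n2 g₁ g₀⟩),
        Set.ncard_pair hg₀ne.symm]
    have h6 := Set.ncard_le_ncard hsub
    rw [h5, ← Nat.card_coe_set_eq] at h6
    exact absurd (h6.trans hj4) (by omega)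
  -- the signaliser functor
  obtain ⟨hWp, -⟩ := Cfsg.Agent.S0217.result (p := 2) A (fun a ha b hb => h.comm ha hb)
    (fun a ha => h.el.2 a ha) h8 (fun a => centralizerPPrimeCore 2 a)
    (fun a _ _ => SignalizerBasic.centralizerPPrimeCore_le 2 a)
    (fun a _ _ => SignalizerBasic.not_dvd_card_centralizerPPrimeCore 2 a)
    (fun a ha _ b hb x hx => mem_normalizer_conj
      (SignalizerBasic.centralizer_le_normalizer_centralizerPPrimeCore 2 a
        (Subgroup.mem_centralizer_singleton_iff.2 (h.comm hb ha))) hx)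
    (fun a _ _ => Cfsg.Agent.S0205.result (Nat.not_even_iff_odd.1 fun he =>
      SignalizerBasic.not_dvd_card_centralizerPPrimeCore 2 a he.two_dvd))
    (fun a ha _ b hb hb1 => balance h ha hb (hnm b hb hb1))
  set W := ⨆ a : {a : K // a ∈ A ∧ a ≠ 1}, centralizerPPrimeCore 2 (a : K) with hW
  have hNA : Subgroup.normalizer (A : Set K) ≤ Subgroup.normalizer (W : Set K) := by
    refine le_normalizer_of_forall fun g hg z hz => ?_
    have hsup : W ≤ W.comap (MulAut.conj g).toMonoidHom := iSup_le fun a x hx => by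
      show MulAut.conj g x ∈ W
      rw [MulAut.conj_apply]
      exact le_iSup (fun a : {a : K // a ∈ A ∧ a ≠ 1} => centralizerPPrimeCore 2 (a : K))
        ⟨g * a.1 * g⁻¹, (Subgroup.mem_normalizer_iff.1 hg a.1).1 a.2.1,
          fun e => a.2.2 (by
            calc a.1 = g⁻¹ * (g * a.1 * g⁻¹) * g := by group
              _ = 1 := by rw [e]; group)⟩ (conj_core g hx)
    simpa using hsup hz
  have hWle : ∀ a ∈ A, a ≠ 1 → centralizerPPrimeCore 2 a ≤ W := fun a ha ha1 =>
    le_iSup (fun a : {a : K // a ∈ A ∧ a ≠ 1} => centralizerPPrimeCore 2 (a : K)) ⟨a, ha, ha1⟩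
  have hCW : ∀ a ∈ A, a ≠ 1 → Subgroup.centralizer {a} ≤ Subgroup.normalizer (W : Set K) :=
    fun a ha ha1 => centralizer_le_of_normalMod h ha (hnm a ha ha1) hNA
      ((hWle a ha ha1).trans Subgroup.le_normalizer)
  set N := Subgroup.normalClosure (A : Set K)
  have hAN : A ≤ N := Subgroup.le_normalClosure
  have hNW : N ≤ Subgroup.normalizer (W : Set K) := by
    refine (Subgroup.closure_le _).2 fun x hx => ?_
    obtain ⟨c, hc, hcx⟩ := Group.mem_conjugatesOfSet_iff.1 hx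
    obtain ⟨g, rfl⟩ := isConj_iff.1 hcx
    rcases eq_or_ne c 1 with rfl | hc1
    · simp
    · exact conj_mem_of_centralizers h hCW hnc hc hc1 g
  have hWodd : Odd (Nat.card W) := Nat.not_even_iff_odd.1 fun he => hWp he.two_dvd
  haveI : N.Normal := Subgroup.normalClosure_normal
  have hON := ZStarBasic.pPrimeCore_normal_eq_bot hO N
  have hcomm : ∀ x ∈ W, ∀ y ∈ N, y * x = x * y := by
    intro x hx y hy
    haveI : ((W ⊓ N).subgroupOf N).Normal := Subgroup.normal_subgroupOf_of_le_normalizer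
      (le_normalizer_inf hNW (Subgroup.le_normalizer))
    have hb := ZStarBasic.eq_bot_of_normal_odd hON ((W ⊓ N).subgroupOf N)
      (Odd.of_dvd_nat (hWodd.of_dvd_nat (Subgroup.card_dvd_of_le inf_le_left))
        (HallCore.card_subgroupOf_dvd _ _))
    rw [Subgroup.subgroupOf_eq_bot] at hb
    have h1 : y * x * y⁻¹ * x⁻¹ ∈ W := mul_mem (mem_normalizer_conj (hNW hy) hx) (inv_mem hx)
    have h2 : y * x * y⁻¹ * x⁻¹ ∈ N := by
      rw [mul_assoc, mul_assoc, ← mul_assoc x]
      exact mul_mem hy (Subgroup.Normal.conj_mem inferInstance _ (inv_mem hy) x)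
    have h3 := hb.le_bot (Subgroup.mem_inf.2 ⟨Subgroup.mem_inf.2 ⟨h1, h2⟩, h2⟩)
    rw [Subgroup.mem_bot, mul_inv_eq_one, mul_inv_eq_iff_eq_mul] at h3
    exact h3
  have hW1 : W = ⊥ := by
    set D := Subgroup.centralizer (N : Set K)
    have hWD : W ≤ D := fun x hx y hy => hcomm x hx y hy
    have hDW : D ≤ Subgroup.normalizer (W : Set K) := fun x hx =>
      hCW a₀ ha₀ ha₀1 (Subgroup.mem_centralizer_singleton_iff.2 (hx a₀ (hAN ha₀)).symm)
    haveI : (W.subgroupOf D).Normal := Subgroup.normal_subgroupOf_of_le_normalizer hDW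
    have hb := ZStarBasic.eq_bot_of_normal_odd (ZStarBasic.pPrimeCore_normal_eq_bot hO D)
      (W.subgroupOf D) (hWodd.of_dvd_nat (HallCore.card_subgroupOf_dvd _ _))
    rw [Subgroup.subgroupOf_eq_bot, disjoint_iff] at hb
    rwa [inf_eq_left.2 hWD] at hb
  have hCA : ∀ a ∈ A, a ≠ 1 → Subgroup.centralizer {a} ≤ Subgroup.normalizer (A : Set K) :=
    fun a ha ha1 => centralizer_le_of_normalMod h ha (hnm a ha ha1) le_rfl
      (((hWle a ha ha1).trans hW1.le).trans bot_le)
  refine hnot ⟨fun x hx g => ?_⟩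
  rcases eq_or_ne x 1 with rfl | hx1
  · simp
  have hy := conj_mem_of_centralizers h hCA hnc hx hx1 g
  obtain hQ := IsPGroup.to_sup_of_normal_right' (H := Subgroup.zpowers (g * x * g⁻¹)) (K := A)
    (isPGroup_zpowers (p := 2) (by rw [conj_pow, h.el.2 x hx]; simp)) h.isPGroup
    (Subgroup.zpowers_le.2 hy)
  exact h.sc _ hQ le_sup_right x hx g ((le_sup_left : Subgroup.zpowers (g * x * g⁻¹) ≤ _)
    (Subgroup.mem_zpowers _))

/-- A strongly closed elementary abelian 2-subgroup without transitive sections is normal when the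
odd core is trivial. -/
theorem normal_of_hyp {K : Type u} [Group K] [Finite K] {A : Subgroup K} (h : Hyp A)
    (hO : pPrimeCore 2 K = ⊥) : A.Normal :=
  normal_aux _ A le_rfl h hO

end Cfsg.Agent.StrongClosedNT20
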