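import Mathlib
import Cfsg.Prelude.Def_LocalEven
import Cfsg.Agent.Lib.CoprimeGen
import Cfsg.Agent.Lib.OffendersReplace

/-! A quadratic elementary abelian 2-offender acting faithfully on a group of odd order produces
`S₃` acting naturally on a module of order 4, and this configuration involves `S₄`. -/

set_option autoImplicit false

namespace Cfsg.Agent.QuadOffenderS4

open Subgroup

universe u

theorem involves_of_surjective' {G : Type u} [Group G] {H : Type*} [Group H] {K : Subgroup G}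
    (f : K →* H) (hf : Function.Surjective f) : Cfsg.Involves H G := by
  have hR : (f.ker.map K.subtype).subgroupOf K = f.ker :=
    comap_map_eq_self_of_injective K.subtype_injective _
  have hN : ((f.ker.map K.subtype).subgroupOf K).Normal := by rw [hR]; infer_instance
  exact ⟨K, f.ker.map K.subtype, hN,
    ⟨(QuotientGroup.quotientMulEquivOfEq hR).trans (QuotientGroup.quotientKerEquivOfSurjective f hf)⟩⟩

/-- A subgroup of `Perm (four points)` of order divisible by 4 and 3 with an odd element is everything. -/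
theorem perm_four_eq_top {α : Type*} [Fintype α] [DecidableEq α] (hα : Fintype.card α = 4)
    (R : Subgroup (Equiv.Perm α)) (h4 : 4 ∣ Nat.card R) (h3 : 3 ∣ Nat.card R)
    {σ : Equiv.Perm α} (hσ : σ ∈ R) (hsign : Equiv.Perm.sign σ = -1) : R = ⊤ := by
  have hcard : Nat.card (Equiv.Perm α) = 24 := by
    rw [Nat.card_eq_fintype_card, Fintype.card_perm, hα]; rfl
  have h12 : 12 ∣ Nat.card R := Nat.Coprime.mul_dvd_of_dvd_of_dvd (by norm_num : Nat.Coprime 4 3) h4 h3
  have hmul := R.card_mul_index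
  rw [hcard] at hmul
  obtain ⟨k, hk⟩ := h12
  rw [hk] at hmul
  have hk2 : k * R.index = 2 := by linarith
  rcases (Nat.dvd_prime Nat.prime_two).mp (Dvd.intro _ hk2) with rfl | rfl
  · rw [one_mul] at hk2
    haveI : Nontrivial α := Fintype.one_lt_card_iff_nontrivial.mp (by omega)
    have h := Equiv.Perm.eq_alternatingGroup_of_index_eq_two hk2
    rw [h, Equiv.Perm.mem_alternatingGroup, hsign] at hσ
    exact absurd hσ (by decide)
  · exact index_eq_one.mp (by omega)

/-- `S₄` from a four-group, an inverted odd element without fixed points, and the inverting involution. -/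
theorem involves_s4 {G : Type u} [Group G] [Finite G] (U : Subgroup G) (hU : Nat.card U = 4)
    (hexp : ∀ u ∈ U, u * u = 1)
    (t a : G) (ha : a * a = 1) (hat : a * t * a = t⁻¹) (ht : Odd (orderOf t))
    (htU : t ∈ normalizer (U : Set G)) (haU : a ∈ normalizer (U : Set G))
    (hfix : ∀ u ∈ U, t * u * t⁻¹ = u → u = 1) (hmove : ∃ u ∈ U, a * u * a⁻¹ ≠ u) :
    Cfsg.Involves (Equiv.Perm (Fin 4)) G := by
  classical
  set T := zpowers t
  set A := zpowers a
  have hainv : a⁻¹ = a := inv_eq_of_mul_eq_one_right ha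
  have hAT : A ≤ normalizer (T : Set G) := by
    rw [zpowers_le]
    refine mem_normalizer_fintype ?_
    intro x hx
    obtain ⟨k, rfl⟩ := mem_zpowers_iff.mp hx
    rw [← conj_zpow, hainv, hat]
    exact zpow_mem (inv_mem (mem_zpowers t)) k
  set H := T ⊔ A with hH
  have hHU : H ≤ normalizer (U : Set G) := sup_le (zpowers_le.mpr htU) (zpowers_le.mpr haU)
  have hcardH : Nat.card H ∣ orderOf t * 2 := by
    have h1 := OffendersReplace.card_sup_mul_card_inf A T hAT
    rw [sup_comm A T, Nat.card_zpowers, Nat.card_zpowers] at h1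
    refine (Dvd.intro _ h1).trans ?_
    rw [mul_comm (orderOf t)]
    exact mul_dvd_mul_right (orderOf_dvd_of_pow_eq_one (by rw [pow_two, ha])) _
  have hUH : U ⊓ H = ⊥ := by
    have h1 : Nat.card (U ⊓ H : Subgroup G) ∣ 2 := by
      have h2 : Nat.card (U ⊓ H : Subgroup G) ∣ 4 := hU ▸ card_dvd_of_le inf_le_left
      have h3 := (card_dvd_of_le (inf_le_right : U ⊓ H ≤ H)).trans hcardH
      have h4 : (Nat.card (U ⊓ H : Subgroup G)).Coprime (orderOf t) := by
        refine Nat.Coprime.coprime_dvd_left h2 ?_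
        exact Nat.Coprime.pow_left 2 (Nat.coprime_two_left.mpr ht)
      exact h4.dvd_of_dvd_mul_left h3
    rw [eq_bot_iff]
    intro u hu
    refine mem_bot.mpr (hfix u hu.1 ?_)
    by_contra hne
    have hu1 : u ≠ 1 := fun h => hne (by rw [h]; group)
    have hconj : t * u * t⁻¹ ∈ U ⊓ H :=
      ⟨(mem_normalizer_iff.mp htU u).mp hu.1,
        H.mul_mem (H.mul_mem (mem_sup_left (mem_zpowers t)) hu.2) (H.inv_mem (mem_sup_left (mem_zpowers t)))⟩
    haveI : Fintype (U ⊓ H : Subgroup G) := Fintype.ofFinite _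
    have hlt : 2 < Fintype.card (U ⊓ H : Subgroup G) := Fintype.two_lt_card_iff.mpr
      ⟨1, ⟨u, hu⟩, ⟨_, hconj⟩, fun h => hu1 (congrArg Subtype.val h).symm,
        fun h => hu1 (by
          have h5 : t * u * t⁻¹ = 1 := (congrArg Subtype.val h).symm
          rwa [conj_eq_one_iff] at h5),
        fun h => hne (congrArg Subtype.val h).symm⟩
    rw [← Nat.card_eq_fintype_card] at hlt
    exact absurd (Nat.le_of_dvd two_pos h1) (by omega)
  set L := U ⊔ H with hL
  set H' := H.subgroupOf L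
  haveI : Fintype (L ⧸ H') := Fintype.ofFinite _
  have hmul : ∀ l ∈ L, ∃ u ∈ U, ∃ h ∈ H, u * h = l := fun l hl => by
    rw [← SetLike.mem_coe, hL, coe_mul_of_right_le_normalizer_left U H hHU] at hl
    obtain ⟨u, hu, h, hh, e⟩ := Set.mem_mul.mp hl
    exact ⟨u, hu, h, hh, e⟩
  let j : U → L ⧸ H' := fun u => QuotientGroup.mk (⟨u, mem_sup_left u.2⟩ : L)
  have hj : Function.Bijective j := by
    constructor
    · intro u v huv
      have h1 := QuotientGroup.eq.mp huv
      have h2 : (u : G)⁻¹ * v ∈ U ⊓ H := ⟨U.mul_mem (U.inv_mem u.2) v.2, h1⟩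
      rw [hUH, mem_bot, inv_mul_eq_one] at h2
      exact Subtype.ext h2
    · intro q
      obtain ⟨⟨l, hl⟩, rfl⟩ := QuotientGroup.mk_surjective q
      obtain ⟨u, hu, h, hh, e⟩ := hmul l hl
      refine ⟨⟨u, hu⟩, QuotientGroup.eq.mpr ?_⟩
      show u⁻¹ * l ∈ H
      rwa [← e, inv_mul_cancel_left]
  have hcard : Fintype.card (L ⧸ H') = 4 := by
    rw [← Nat.card_eq_fintype_card, ← Nat.card_eq_of_bijective j hj, hU]
  let φ := MulAction.toPermHom L (L ⧸ H')
  have hact : ∀ (g : L), (g : G) ∈ H → ∀ u : U, ∀ hc : (g : G) * u * (g : G)⁻¹ ∈ U,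
      φ g (j u) = j ⟨(g : G) * u * (g : G)⁻¹, hc⟩ := by
    intro g hg u hc
    refine QuotientGroup.eq.mpr ?_
    show ((g : G) * u)⁻¹ * ((g : G) * u * (g : G)⁻¹) ∈ H
    rw [inv_mul_cancel_left]
    exact H.inv_mem hg
  have hUinj : Function.Injective fun u : U => φ (⟨u, mem_sup_left u.2⟩ : L) := by
    intro u v huv
    refine hj.1 ?_
    have h1 := DFunLike.congr_fun huv (QuotientGroup.mk (1 : L))
    change (⟨u, mem_sup_left u.2⟩ : L) • (QuotientGroup.mk (1 : L) : L ⧸ H') =
      (⟨v, mem_sup_left v.2⟩ : L) • (QuotientGroup.mk (1 : L) : L ⧸ H') at h1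
    simpa [j] using h1
  have h4 : 4 ∣ Nat.card φ.range := by
    set U' := U.subgroupOf L
    have h5 : Nat.card (U'.map φ) = 4 := by
      rw [← hU, ← Nat.card_congr (subgroupOfEquivOfLe (le_sup_left : U ≤ L)).toEquiv]
      refine (Nat.card_eq_of_bijective (φ.subgroupMap U') ⟨?_, φ.subgroupMap_surjective U'⟩).symm
      rintro ⟨x, hx⟩ ⟨y, hy⟩ hxy
      have := hUinj (a₁ := ⟨x, hx⟩) (a₂ := ⟨y, hy⟩) (congrArg Subtype.val hxy)
      apply Subtype.ext
      apply Subtype.ext
      exact congrArg (fun u : U => (u : G)) this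
    rw [← h5]
    exact card_dvd_of_le (map_le_range _ _)
  obtain ⟨u₀, hu₀, hau₀⟩ := hmove
  have haL : a ∈ L := mem_sup_right (mem_sup_right (mem_zpowers a))
  have htL : t ∈ L := mem_sup_right (mem_sup_left (mem_zpowers t))
  have h3 : 3 ∣ Nat.card φ.range := by
    have hne : φ ⟨t, htL⟩ ≠ 1 := by
      intro h
      have hu1 : u₀ ≠ 1 := fun e => hau₀ (by rw [e]; group)
      have hc : t * u₀ * t⁻¹ ∈ U := (mem_normalizer_iff.mp htU u₀).mp hu₀
      have := hact ⟨t, htL⟩ (mem_sup_left (mem_zpowers t)) ⟨u₀, hu₀⟩ hc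
      rw [h, Equiv.Perm.one_apply] at this
      exact hu1 (hfix u₀ hu₀ (congrArg Subtype.val (hj.1 this)).symm)
    have hodd : Odd (orderOf (φ ⟨t, htL⟩)) :=
      ht.of_dvd_nat ((orderOf_map_dvd φ _).trans (by rw [← orderOf_coe]))
    have h24 : orderOf (φ ⟨t, htL⟩) ∣ 24 := by
      have := orderOf_dvd_natCard (φ ⟨t, htL⟩)
      rwa [Nat.card_eq_fintype_card, Fintype.card_perm, hcard] at this
    have hd : orderOf (φ ⟨t, htL⟩) ∣ 3 := by
      refine Nat.Coprime.dvd_of_dvd_mul_left ?_ (show orderOf (φ ⟨t, htL⟩) ∣ 8 * 3 from h24)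
      exact (Nat.coprime_two_right.mpr hodd).pow_right 3
    rcases (Nat.dvd_prime Nat.prime_three).mp hd with h | h
    · exact absurd (orderOf_eq_one_iff.mp h) hne
    · have := Subgroup.orderOf_dvd_natCard φ.range (MonoidHom.mem_range.mpr ⟨_, rfl⟩ : φ ⟨t, htL⟩ ∈ _)
      rwa [h] at this
  have hsign : Equiv.Perm.sign (φ ⟨a, haL⟩) = -1 := by
    set σ := φ ⟨a, haL⟩
    have haH : a ∈ H := mem_sup_right (mem_zpowers a)
    have hconj : ∀ u : U, a * u * a⁻¹ ∈ U := fun u => (mem_normalizer_iff.mp haU u).mp u.2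
    have hsigma : ∀ u : U, σ (j u) = j ⟨_, hconj u⟩ := fun u => hact ⟨a, haL⟩ haH u (hconj u)
    have hfix1 : σ (j 1) = j 1 := by
      rw [hsigma]; congr 1; ext; simp
    have hc := hconj ⟨u₀, hu₀⟩
    have hcomm : u₀ * (a * u₀ * a⁻¹) = a * u₀ * a⁻¹ * u₀ := by
      haveI : Fact (Nat.Prime 2) := ⟨Nat.prime_two⟩
      have := IsPGroup.commutative_of_card_eq_prime_sq (p := 2) (G := U) (by rw [hU]; norm_num)
      exact congrArg Subtype.val (this ⟨u₀, hu₀⟩ ⟨_, hc⟩)
    have hu1 : u₀ ≠ 1 := fun e => hau₀ (by rw [e]; group)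
    have hv1 : a * u₀ * a⁻¹ ≠ 1 := fun e => hu1 (conj_eq_one_iff.mp e)
    let w : U := ⟨u₀ * (a * u₀ * a⁻¹), mul_mem hu₀ hc⟩
    have hfixw : σ (j w) = j w := by
      rw [hsigma]
      congr 1
      ext
      show a * (u₀ * (a * u₀ * a⁻¹)) * a⁻¹ = u₀ * (a * u₀ * a⁻¹)
      conv_rhs => rw [hcomm]
      calc a * (u₀ * (a * u₀ * a⁻¹)) * a⁻¹ = a * u₀ * a⁻¹ * ((a * a) * u₀ * (a * a)⁻¹) := by group
        _ = a * u₀ * a⁻¹ * u₀ := by rw [ha, one_mul, inv_one, mul_one]
    have hw1 : w ≠ 1 := by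
      intro e
      have e1 : u₀ * (a * u₀ * a⁻¹) = 1 := congrArg Subtype.val e
      exact hau₀ ((eq_inv_of_mul_eq_one_right e1).trans (inv_eq_of_mul_eq_one_right (hexp u₀ hu₀)))
    have hne1 : σ (j ⟨u₀, hu₀⟩) ≠ j ⟨u₀, hu₀⟩ := by
      rw [hsigma]
      exact fun h => hau₀ (congrArg Subtype.val (hj.1 h))
    have hsupp : σ.support.card = 2 := by
      have h1 : ({j 1, j w} : Finset (L ⧸ H')) ⊆ σ.supportᶜ := by
        intro x hx
        rw [Finset.mem_compl, Equiv.Perm.notMem_support]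
        rcases Finset.mem_insert.mp hx with rfl | hx
        · exact hfix1
        · rw [Finset.mem_singleton.mp hx]; exact hfixw
      have h2 : ({j 1, j w} : Finset (L ⧸ H')).card = 2 :=
        Finset.card_pair fun h => hw1 (hj.1 h).symm
      have h3 := Finset.card_le_card h1
      rw [h2, Finset.card_compl, hcard] at h3
      have h4 : 2 ≤ σ.support.card := Equiv.Perm.two_le_card_support_of_ne_one
        fun h => hne1 (by rw [h]; rfl)
      omega
    exact (Equiv.Perm.card_support_eq_two.mp hsupp).sign_eq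
  have htop : φ.range = ⊤ := perm_four_eq_top hcard _ h4 h3 ⟨⟨a, haL⟩, rfl⟩ hsign
  refine involves_of_surjective' (K := L)
    (((Fintype.equivFinOfCardEq hcard).permCongrHom).toMonoidHom.comp φ) ?_
  exact ((Fintype.equivFinOfCardEq hcard).permCongrHom.surjective.comp (MonoidHom.range_eq_top.mp htop) :)

theorem zpow_of_sq {G : Type*} [Group G] {x : G} (h : x * x = 1) (m : ℤ) : x ^ m = 1 ∨ x ^ m = x := by
  rcases Int.even_or_odd m with ⟨i, rfl⟩ | ⟨i, rfl⟩
  · exact .inl (by rw [← two_mul, zpow_mul, zpow_two, h, one_zpow])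
  · exact .inr (by rw [zpow_add_one, zpow_mul, zpow_two, h, one_zpow, one_mul])

variable {Γ : Type*} [Group Γ] {V : Type*} [AddCommGroup V]

/-- Fixed points of a subgroup. -/
def fixedPts (ρ : Γ →* AddMonoid.End V) (Y : Subgroup Γ) : AddSubgroup V where
  carrier := {v | ∀ y ∈ Y, ρ y v = v}
  zero_mem' := fun y _ => map_zero (ρ y : V →+ V)
  add_mem' := fun {v w} hv hw y hy => by
    rw [show ρ y (v + w) = ρ y v + ρ y w from map_add (ρ y : V →+ V) v w, hv y hy, hw y hy]
  neg_mem' := fun {v} hv y hy => by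
    rw [show ρ y (-v) = - ρ y v from map_neg (ρ y : V →+ V) v, hv y hy]

/-- The configuration `S₃` on a natural module inside a quadratic offender. -/
theorem exists_natural {Γ : Type*} [Group Γ] [Finite Γ] {V : Type*} [AddCommGroup V] [Finite V]
    (ρ : Γ →* AddMonoid.End V) (h2 : ∀ v : V, v + v = 0) (X R : Subgroup Γ)
    (hXe : ∀ x ∈ X, x * x = 1) (hXc : ∀ x ∈ X, ∀ y ∈ X, x * y = y * x)
    (hR : Odd (Nat.card R)) (hn : X ≤ normalizer (R : Set Γ))
    (hquad : ∀ a ∈ X, ∀ b ∈ X, ∀ v : V, ρ a (ρ b v + v) = ρ b v + v)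
    (hfaith : ∀ a ∈ X, a ≠ 1 → ∃ r ∈ R, ρ (a * r * a⁻¹ * r⁻¹) ≠ 1) (hX : X ≠ ⊥)
    (hoff : Nat.card V ≤ Nat.card X * Nat.card (fixedPts ρ X)) :
    ∃ a ∈ X, ∃ r ∈ R, ∃ U : AddSubgroup V, Nat.card U = 4 ∧ (∀ u ∈ U, ρ a u ∈ U) ∧
      (∀ u ∈ U, ρ (r * a * r⁻¹ * a⁻¹) u ∈ U) ∧
      (∀ u ∈ U, ρ (r * a * r⁻¹ * a⁻¹) u = u → u = 0) ∧ ∃ u ∈ U, ρ a u ≠ u := by
  classical
  obtain ⟨X0, ⟨hX0le, hX0ne⟩, hX0max⟩ := Set.exists_max_image
    {Y : Subgroup Γ | Y ≤ X ∧ Y ≠ ⊥} (fun Y => Nat.card Y * Nat.card (fixedPts ρ Y))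
    (Set.toFinite _) ⟨X, le_rfl, hX⟩
  have hf : ∀ Y ≤ X0, Nat.card Y * Nat.card (fixedPts ρ Y) ≤
      Nat.card X0 * Nat.card (fixedPts ρ X0) := by
    intro Y hY
    by_cases hYb : Y = ⊥
    · subst hYb
      rw [card_bot, one_mul]
      exact ((Nat.card_le_card_of_injective _ (AddSubgroup.subtype_injective _)).trans hoff).trans
        (hX0max X ⟨le_rfl, hX⟩)
    · exact hX0max Y ⟨hY.trans hX0le, hYb⟩
  haveI : IsMulCommutative X0 :=
    ⟨⟨fun a b => Subtype.ext (hXc a (hX0le a.2) b (hX0le b.2))⟩⟩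
  -- killed elements
  set π := QuotientGroup.mk' ρ.ker
  set H := (centralizer (X0.map π : Set (Γ ⧸ ρ.ker))).comap π
  have hH : ∀ r, r ∈ H ↔ ∀ x ∈ X0, ρ (x * r * x⁻¹ * r⁻¹) = 1 := by
    intro r
    rw [mem_comap, mem_centralizer_iff]
    constructor
    · intro h x hx
      rw [← MonoidHom.mem_ker, ← QuotientGroup.eq_one_iff]
      show π (x * r * x⁻¹ * r⁻¹) = 1
      rw [map_mul, map_mul, map_mul, map_inv, map_inv, h _ (mem_map_of_mem π hx)]
      group
    · rintro h _ ⟨x, hx, rfl⟩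
      have := (QuotientGroup.eq_one_iff _).mpr (MonoidHom.mem_ker.mpr (h x hx))
      change π (x * r * x⁻¹ * r⁻¹) = 1 at this
      rw [map_mul, map_mul, map_mul, map_inv, map_inv, mul_inv_eq_one, mul_inv_eq_iff_eq_mul] at this
      exact this
  obtain ⟨B, ⟨hBX, hBH⟩, hBmax⟩ := Set.exists_max_image
    {B : Subgroup Γ | B ≤ X0 ∧ ¬ R ⊓ centralizer (B : Set Γ) ≤ H} (fun B => Nat.card B)
    (Set.toFinite _) ⟨⊥, bot_le, fun h => by
      obtain ⟨x, hx, hx1⟩ := (Subgroup.bot_or_exists_ne_one X0).resolve_left hX0ne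
      obtain ⟨r, hr, hr1⟩ := hfaith x (hX0le hx) hx1
      exact hr1 ((hH r).mp (h ⟨hr, mem_centralizer_iff.mpr fun y hy => by
        rw [mem_bot.mp hy]; group⟩) x hx)⟩
  obtain ⟨r, hr, hrH⟩ := SetLike.not_le_iff_exists.mp hBH
  obtain ⟨a, haX0, har⟩ : ∃ a ∈ X0, ρ (a * r * a⁻¹ * r⁻¹) ≠ 1 := by
    by_contra h
    push Not at h
    exact hrH ((hH r).mpr h)
  have hrB : ∀ b ∈ B, b * r = r * b := fun b hb => mem_centralizer_iff.mp hr.2 b hb
  have haB : a ∉ B := fun h => har (by rw [hrB a h]; simp)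
  have hX0eq : X0 ≤ B ⊔ zpowers a := by
    intro c hc
    by_contra hcn
    have hcomm : Commute c a := hXc c (hX0le hc) a (hX0le haX0)
    set E := CoprimeGen.pairSubgroup c a hcomm
    have hEX : E ≤ X0 := CoprimeGen.pairSubgroup_le hc haX0
    set K := R ⊓ centralizer (B : Set Γ)
    have hEK : E ≤ normalizer (K : Set Γ) := by
      intro e he
      refine mem_normalizer_fintype fun k hk => ⟨(mem_normalizer_iff.mp (hn (hX0le (hEX he))) k).mp hk.1,
        mem_centralizer_iff.mpr fun b hb => ?_⟩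
      have h1 : b * e = e * b := hXc b (hX0le (hBX hb)) e (hX0le (hEX he))
      have h2 : b * k = k * b := mem_centralizer_iff.mp hk.2 b hb
      have h3 : b * e⁻¹ = e⁻¹ * b := ((show Commute b e from h1).inv_right).eq
      calc b * (e * k * e⁻¹) = e * (b * k) * e⁻¹ := by simp only [← mul_assoc]; rw [h1]
        _ = e * k * (b * e⁻¹) := by rw [h2]; group
        _ = _ := by rw [h3]; group
    haveI : IsMulCommutative E :=
      ⟨⟨fun x y => Subtype.ext (hXc x (hX0le (hEX x.2)) y (hX0le (hEX y.2)))⟩⟩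
    have hsq : ∀ x ∈ X0, x * x = 1 := fun x hx => hXe x (hX0le hx)
    haveI : Fact (Nat.Prime 2) := ⟨Nat.prime_two⟩
    have hE : CoprimeGen.IsPairAction 2 c a K :=
      { comm := hcomm
        pow_left := by rw [pow_two]; exact hsq c hc
        pow_right := by rw [pow_two]; exact hsq a haX0
        right_ne := fun h => haB (h ▸ one_mem B)
        left_not_mem := fun h => hcn (mem_sup_right h)
        mem_left := hEK (CoprimeGen.left_mem_pairSubgroup c a hcomm)
        mem_right := hEK (CoprimeGen.right_mem_pairSubgroup c a hcomm) }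
    refine hBH (CoprimeGen.le_of_pair_centralizers hE (fun hd => ?_) fun e he he1 => ?_)
    · exact (Nat.not_even_iff_odd.mpr hR) (even_iff_two_dvd.mpr (hd.trans (card_dvd_of_le inf_le_left)))
    · have heB : e ∉ B := by
        intro heB
        obtain ⟨m, n, rfl⟩ := CoprimeGen.mem_pairSubgroup_iff.mp he
        rcases zpow_of_sq (hsq c hc) m with h | h <;> rcases zpow_of_sq (hsq a haX0) n with h' | h' <;>
          rw [h, h'] at heB he1
        · exact he1 (one_mul 1)
        · exact haB (by simpa using heB)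
        · exact hcn (mem_sup_left (by simpa using heB))
        · have h1 : c * a ∈ B ⊔ zpowers a := mem_sup_left heB
          have h2 := (B ⊔ zpowers a).mul_mem h1 ((B ⊔ zpowers a).inv_mem (mem_sup_right (mem_zpowers a)))
          rw [mul_inv_cancel_right] at h2
          exact hcn h2
      by_contra hle
      have hBlt : B < B ⊔ zpowers e := left_lt_sup.mpr fun h => heB (zpowers_le.mp h)
      have hbad : ¬ R ⊓ centralizer ((B ⊔ zpowers e : Subgroup Γ) : Set Γ) ≤ H := by
        intro h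
        refine hle fun k hk => h ⟨hk.1.1, ?_⟩
        have hle' : B ⊔ zpowers e ≤ centralizer ({k} : Set Γ) := by
          refine sup_le (fun b hb => ?_) (zpowers_le.mpr ?_)
          · exact mem_centralizer_singleton_iff.mpr (mem_centralizer_iff.mp hk.1.2 b hb)
          · exact mem_centralizer_singleton_iff.mpr (mem_centralizer_singleton_iff.mp hk.2).symm
        exact mem_centralizer_iff.mpr fun y hy => mem_centralizer_singleton_iff.mp (hle' hy)
      have h5 := hBmax _ ⟨sup_le hBX (zpowers_le.mpr (hEX he)), hbad⟩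
      exact absurd (Subgroup.eq_of_le_of_card_ge hBlt.le h5) hBlt.ne
  -- the natural module
  set t := r * a * r⁻¹ * a⁻¹ with htdef
  have ha2 : a * a = 1 := hXe a (hX0le haX0)
  have hainv : a⁻¹ = a := inv_eq_of_mul_eq_one_right ha2
  have htR : t ∈ R := by
    have := mul_mem hr.1 ((mem_normalizer_iff.mp (hn (hX0le haX0)) _).mp (inv_mem hr.1))
    simpa [htdef, mul_assoc] using this
  have htodd : Odd (orderOf t) := hR.of_dvd_nat (Subgroup.orderOf_dvd_natCard R htR)
  have hat : a * t = t⁻¹ * a := by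
    simp only [htdef, mul_inv_rev, inv_inv, hainv, mul_assoc, ha2, mul_one]
  have hbt : ∀ b ∈ B, b * t = t * b := by
    intro b hb
    have h1 : Commute b r := hrB b hb
    have h2 : Commute b a := hXc b (hX0le (hBX hb)) a (hX0le haX0)
    exact ((h1.mul_right h2).mul_right h1.inv_right).mul_right h2.inv_right
  have happ : ∀ (g h : Γ) (v : V), ρ (g * h) v = ρ g (ρ h v) := fun g h v => by rw [map_mul]; rfl
  have h1v : ∀ v : V, ρ 1 v = v := fun v => by rw [map_one]; rfl
  have hadd : ∀ (g : Γ) (v w : V), ρ g (v + w) = ρ g v + ρ g w := fun g v w => map_add (ρ g : V →+ V) v w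
  have hneg : ∀ v : V, -v = v := fun v => neg_eq_of_add_eq_zero_left (h2 v)
  have htt : ∀ w : V, ρ (t * t) w = w → ρ t w = w := by
    intro w hw
    obtain ⟨k, hk⟩ := htodd
    have h3 : ∀ m : ℕ, ρ ((t * t) ^ m) w = w := by
      intro m
      induction m with
      | zero => rw [pow_zero]; exact h1v w
      | succ m ih => rw [pow_succ, happ, hw, ih]
    have h4 := h3 (k + 1)
    rw [← pow_two, ← pow_mul, show 2 * (k + 1) = orderOf t + 1 by omega, pow_succ,
      pow_orderOf_eq_one, one_mul] at h4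
    exact h4
  set n := orderOf t with hndef
  let e : V → V := fun v => ∑ i ∈ Finset.range n, ρ (t ^ i) v
  have he_t : ∀ v, e (ρ t v) = e v := by
    intro v
    have h3 := Finset.sum_range_succ (fun i => ρ (t ^ i) v) n
    rw [Finset.sum_range_succ' (fun i => ρ (t ^ i) v) n, hndef, pow_orderOf_eq_one, pow_zero,
      add_left_inj, ← hndef] at h3
    refine (Finset.sum_congr rfl fun i _ => ?_).trans h3
    rw [← happ, ← pow_succ]
  have he_fix : ∀ v, ρ t v = v → e v = v := by
    intro v hv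
    have h3 : ∀ i : ℕ, ρ (t ^ i) v = v := by
      intro i
      induction i with
      | zero => rw [pow_zero]; exact h1v v
      | succ i ih => rw [pow_succ, happ, hv, ih]
    show ∑ i ∈ Finset.range n, ρ (t ^ i) v = v
    rw [Finset.sum_congr rfl fun i _ => h3 i, Finset.sum_const, Finset.card_range]
    obtain ⟨k, hk⟩ := htodd
    rw [hk, add_smul, one_smul, mul_comm, mul_smul, two_smul, h2, smul_zero, zero_add]
  let τ : V →+ V := ρ t
  let αa : V →+ V := ρ a
  let Vr : AddSubgroup V := AddMonoidHom.range (τ + AddMonoidHom.id V)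
  have hmemVr : ∀ v, v ∈ Vr ↔ ∃ u, ρ t u + u = v := fun v => Iff.rfl
  have hfree : ∀ v ∈ Vr, ρ t v = v → v = 0 := by
    intro v hv hfx
    obtain ⟨u, rfl⟩ := (hmemVr v).mp hv
    rw [← he_fix _ hfx]
    show ∑ i ∈ Finset.range n, ρ (t ^ i) (ρ t u + u) = 0
    simp only [hadd, Finset.sum_add_distrib]
    exact (congrArg (· + e u) (he_t u)).trans (h2 _)
  have hVt : ∀ v ∈ Vr, ρ t v ∈ Vr := by
    intro v hv
    obtain ⟨u, rfl⟩ := (hmemVr v).mp hv
    exact (hmemVr _).mpr ⟨ρ t u, (hadd _ _ _).symm⟩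
  have hta : ∀ v, ρ t (ρ a (ρ t v)) = ρ a v := by
    intro v
    rw [← happ a t, hat, ← happ t, mul_inv_cancel_left]
  have hVa : ∀ v ∈ Vr, ρ a v ∈ Vr := by
    intro v hv
    obtain ⟨u, rfl⟩ := (hmemVr v).mp hv
    refine (hmemVr _).mpr ⟨ρ a (ρ t u), ?_⟩
    rw [hta, hadd, add_comm]
  have hVb : ∀ b ∈ B, ∀ v ∈ Vr, ρ b v = v := by
    intro b hb v hv
    obtain ⟨u, rfl⟩ := (hmemVr v).mp hv
    set d := ρ b u + u with hd
    have e1 : ρ a d = d := hquad a (hX0le haX0) b (hX0le (hBX hb)) u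
    have e2 : ρ a (ρ t d) = ρ t d := by
      have : ρ t d = ρ b (ρ t u) + ρ t u := by rw [hd, hadd, ← happ, ← hbt b hb, happ]
      rw [this]
      exact hquad a (hX0le haX0) b (hX0le (hBX hb)) _
    have e3 : ρ (t * t) d = d := by rw [happ, ← e2, hta, e1]
    have e4 := htt d e3
    rw [hd, hadd, ← happ t b, ← hbt b hb, happ] at e4
    -- `ρ b (ρ t u) + ρ t u = ρ b u + u`
    rw [hadd, ← sub_eq_zero]
    rw [← sub_eq_zero] at e4
    simp only [sub_eq_add_neg, hneg] at e4 ⊢
    rw [← e4]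
    abel
  set K1 : AddSubgroup V := Vr ⊓ (AddMonoidHom.ker (αa + AddMonoidHom.id V)) with hK1
  have hmemK1 : ∀ v, v ∈ K1 ↔ v ∈ Vr ∧ ρ a v = v := by
    intro v
    refine and_congr Iff.rfl ?_
    show ρ a v + v = 0 ↔ _
    rw [add_eq_zero_iff_eq_neg, hneg]
  -- `|Vr| = |K1|^2`
  let α : Vr →+ K1 :=
    { toFun := fun v => ⟨ρ a v + v, (hmemK1 _).mpr ⟨add_mem (hVa _ v.2) v.2, by
        rw [hadd, ← happ, ha2, h1v, add_comm]⟩⟩
      map_zero' := Subtype.ext (by
        show ρ a 0 + 0 = 0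
        rw [add_zero]; exact map_zero (ρ a : V →+ V))
      map_add' := fun v w => Subtype.ext (by
        show ρ a ((v : V) + w) + ((v : V) + w) = (ρ a v + v) + (ρ a w + w)
        rw [hadd]; abel) }
  have hup : Nat.card Vr ≤ Nat.card K1 * Nat.card K1 := by
    rw [← AddSubgroup.card_mul_index α.ker, AddSubgroup.index_ker]
    refine Nat.mul_le_mul ?_ (AddSubgroup.card_le_card_addGroup _)
    refine Nat.card_le_card_of_injective
      (fun v => (⟨(v : Vr), (hmemK1 _).mpr ⟨v.1.2, ?_⟩⟩ : K1)) ?_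
    · have := congrArg Subtype.val (AddMonoidHom.mem_ker.mp v.2)
      change ρ a (v.1 : V) + (v.1 : V) = 0 at this
      rwa [add_eq_zero_iff_eq_neg, hneg] at this
    · intro v w h
      exact Subtype.ext (Subtype.ext (congrArg Subtype.val h :))
  have hlow : Nat.card K1 * Nat.card K1 ≤ Nat.card Vr := by
    rw [← Nat.card_prod]
    refine Nat.card_le_card_of_injective
      (fun x : K1 × K1 => (⟨(x.1 : V) + ρ t x.2, add_mem ((hmemK1 _).mp x.1.2).1
        (hVt _ ((hmemK1 _).mp x.2.2).1)⟩ : Vr)) ?_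
    rintro ⟨⟨u, hu⟩, ⟨w, hw⟩⟩ ⟨⟨u', hu'⟩, ⟨w', hw'⟩⟩ h
    have h3 : u + ρ t w = u' + ρ t w' := congrArg Subtype.val h
    set x := w + w' with hx
    have h5 : u + u' = ρ t x := by
      rw [hadd, ← sub_eq_zero]
      rw [← sub_eq_zero] at h3
      simp only [sub_eq_add_neg, hneg] at h3 ⊢
      rw [← h3]; abel
    have h6 : ρ a (u + u') = u + u' := by
      rw [hadd, ((hmemK1 u).mp hu).2, ((hmemK1 u').mp hu').2]
    have h7 : ρ a x = x := by rw [hx, hadd, ((hmemK1 w).mp hw).2, ((hmemK1 w').mp hw').2]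
    have h8 : x = 0 := by
      refine hfree x (add_mem ((hmemK1 w).mp hw).1 ((hmemK1 w').mp hw').1) (htt x ?_)
      rw [h5] at h6
      rw [happ, ← h6, hta, h7]
    have h9 : w = w' := by
      rw [hx, add_eq_zero_iff_eq_neg, hneg] at h8
      exact h8
    subst h9
    rw [add_left_inj] at h3
    subst h3
    rfl
  -- the offender inequality forces order four
  have hk2 : Nat.card K1 ≤ 2 := by
    set CX := fixedPts ρ X0
    have hX0' : Nat.card X0 ≤ Nat.card B * 2 := by
      have hBa : zpowers a ≤ normalizer (B : Set Γ) := by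
        rw [zpowers_le]
        refine mem_normalizer_fintype fun b hb => ?_
        rw [hXc a (hX0le haX0) b (hX0le (hBX hb)), mul_inv_cancel_right]
        exact hb
      refine (Nat.le_of_dvd Nat.card_pos (card_dvd_of_le hX0eq)).trans ?_
      have h1 : Nat.card B * B.relIndex (B ⊔ zpowers a) = Nat.card (B ⊔ zpowers a : Subgroup Γ) := by
        rw [← relIndex_bot_left B, ← relIndex_bot_left (B ⊔ zpowers a)]
        exact relIndex_mul_relIndex ⊥ B _ bot_le le_sup_left
      rw [← h1]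
      have h9 := OffendersReplace.card_sup_mul_card_inf (zpowers a) B hBa
      rw [sup_comm (zpowers a) B, ← h1] at h9
      refine Nat.le_of_dvd (Nat.mul_pos Nat.card_pos two_pos) ((Dvd.intro _ h9).trans ?_)
      rw [mul_comm (Nat.card (zpowers a))]
      exact mul_dvd_mul_left _ (by rw [Nat.card_zpowers]; exact orderOf_dvd_of_pow_eq_one (by rw [pow_two]; exact ha2))
    have hin : CX ⊔ Vr ≤ fixedPts ρ B :=
      sup_le (fun v hv b hb => hv b (hBX hb)) (fun v hv b hb => hVb b hb v hv)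
    have hsum : Nat.card CX * Nat.card Vr ≤ Nat.card (fixedPts ρ B) * Nat.card K1 := by
      let f : CX × Vr →+ (CX ⊔ Vr : AddSubgroup V) :=
        AddMonoidHom.coprod (AddSubgroup.inclusion le_sup_left) (AddSubgroup.inclusion le_sup_right)
      rw [← Nat.card_prod, ← AddSubgroup.card_mul_index f.ker, AddSubgroup.index_ker, mul_comm]
      refine Nat.mul_le_mul ((AddSubgroup.card_le_card_addGroup _).trans ?_) ?_
      · exact Nat.card_le_card_of_injective _ (AddSubgroup.inclusion_injective hin)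
      refine Nat.card_le_card_of_injective
        (fun x : f.ker => (⟨((x : CX × Vr).2 : V), (hmemK1 _).mpr ⟨(x : CX × Vr).2.2, ?_⟩⟩ : K1)) ?_
      · have h3 := congrArg Subtype.val (AddMonoidHom.mem_ker.mp x.2)
        change ((x : CX × Vr).1 : V) + ((x : CX × Vr).2 : V) = 0 at h3
        rw [add_eq_zero_iff_eq_neg, hneg] at h3
        rw [← h3]
        exact (x : CX × Vr).1.2 a haX0
      · intro x y h
        have h4 : ((x : CX × Vr).2 : V) = ((y : CX × Vr).2 : V) := congrArg (fun v : K1 => (v : V)) h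
        have hx := congrArg Subtype.val (AddMonoidHom.mem_ker.mp x.2)
        have hy := congrArg Subtype.val (AddMonoidHom.mem_ker.mp y.2)
        change ((x : CX × Vr).1 : V) + ((x : CX × Vr).2 : V) = 0 at hx
        change ((y : CX × Vr).1 : V) + ((y : CX × Vr).2 : V) = 0 at hy
        rw [← hy, ← h4, add_left_inj] at hx
        exact Subtype.ext (Prod.ext (Subtype.ext hx) (Subtype.ext h4))
    have h4 := hf B hBX
    have hCXpos : 0 < Nat.card CX := Nat.card_pos
    have hBpos : 0 < Nat.card B := Nat.card_pos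
    have hK1pos : 0 < Nat.card K1 := Nat.card_pos
    have h5 : Nat.card CX * (Nat.card K1 * Nat.card K1) ≤ Nat.card (fixedPts ρ B) * Nat.card K1 :=
      (Nat.mul_le_mul_left _ hlow).trans hsum
    rw [← mul_assoc] at h5
    have h6 : Nat.card CX * Nat.card K1 ≤ Nat.card (fixedPts ρ B) := Nat.le_of_mul_le_mul_right h5 hK1pos
    have h7 : Nat.card B * Nat.card CX * Nat.card K1 ≤ Nat.card B * Nat.card CX * 2 := by
      calc Nat.card B * Nat.card CX * Nat.card K1
          ≤ Nat.card B * Nat.card (fixedPts ρ B) := by rw [mul_assoc]; exact Nat.mul_le_mul_left _ h6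
        _ ≤ Nat.card X0 * Nat.card CX := h4
        _ ≤ Nat.card B * 2 * Nat.card CX := Nat.mul_le_mul_right _ hX0'
        _ = _ := by ring
    exact Nat.le_of_mul_le_mul_left h7 (Nat.mul_pos hBpos hCXpos)
  have hρt : ρ t ≠ 1 := by
    intro h
    apply har
    have h1 : t⁻¹ = a * r * a⁻¹ * r⁻¹ := by rw [htdef]; group
    rw [← h1]
    have h3 := map_mul ρ t t⁻¹
    rwa [mul_inv_cancel, map_one, h, one_mul, eq_comm] at h3
  obtain ⟨v₀, hv₀⟩ : ∃ v, ρ t v ≠ v := by
    by_contra h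
    push Not at h
    exact hρt (AddMonoidHom.ext h)
  have hK1two : Nat.card K1 = 2 := by
    refine le_antisymm hk2 ?_
    by_contra hlt
    have hK1 : Nat.card K1 = 1 := by have := Nat.card_pos (α := K1); omega
    rw [hK1, one_mul] at hup
    have hVr1 : Nat.card Vr = 1 := le_antisymm hup Nat.card_pos
    have h3 := AddSubgroup.eq_bot_of_card_eq Vr hVr1
    have h4 : ρ t v₀ + v₀ ∈ Vr := (hmemVr _).mpr ⟨v₀, rfl⟩
    rw [h3, AddSubgroup.mem_bot, add_eq_zero_iff_eq_neg, hneg] at h4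
    exact hv₀ h4
  refine ⟨a, hX0le haX0, r, hr.1, Vr, ?_, hVa, hVt, hfree, ?_⟩
  · rw [hK1two] at hup hlow
    omega
  · by_contra h
    push Not at h
    have : Vr ≤ K1 := fun v hv => (hmemK1 v).mpr ⟨hv, h v hv⟩
    have := Nat.card_le_card_of_injective _ (AddSubgroup.inclusion_injective this)
    rw [hK1two] at hlow this
    omega

end Cfsg.Agent.QuadOffenderS4
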