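import Cfsg.Agent.Lib.SuzukiGroupNilpotent

/-!
The normalisers of the parts of the partition of the Suzuki group; solvable subgroups.
-/

set_option autoImplicit false

namespace Cfsg.Agent.SuzukiGroupNormalizers

open scoped Matrix Pointwise LinearAlgebra.Projectivization
open MulAction Cfsg.Agent.SuzukiGroupBasic Cfsg.Agent.SuzukiGroupStructure
open Cfsg.Agent.SuzukiGroupCentralizer Cfsg.Agent.SuzukiGroupTori Cfsg.Agent.SuzukiGroupPartition
open Cfsg.Agent.SuzukiGroupNilpotent

variable {F : Type*} [Field F] {m : ℕ} [hP : Param F m]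

set_option quotPrecheck false
local notation "G" => ↥(Cfsg.Sz F m)
local notation "qq" => (2 ^ (2 * m + 1) : ℕ)
local notation "rr" => (2 ^ (m + 1) : ℕ)
local notation "∞" => Cfsg.suzukiPointInfinity F
local notation "o" => Cfsg.suzukiPointZero F
local notation "H₀" => MonoidHom.range (torusHom : Fˣ →* ↥(Cfsg.Sz F m))
local notation "N[" U "]" => Subgroup.normalizer ((U : Subgroup ↥(Cfsg.Sz F m)) : Set ↥(Cfsg.Sz F m))

variable (F m) in
/-- The cyclic parts of the partition. -/
def IsCycPart (U : Subgroup ↥(Cfsg.Sz F m)) : Prop :=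
  IsCyclic U ∧ Nat.card U ∈ ({qq - 1, qq + rr + 1, qq - rr + 1} : Set ℕ)

theorem IsCycPart.isPart {U : Subgroup G} (hU : IsCycPart F m U) : IsPart F m U := Or.inr hU

theorem IsCycPart.map {U : Subgroup G} (hU : IsCycPart F m U) (c : G) :
    IsCycPart F m (U.map (MulAut.conj c).toMonoidHom) :=
  ⟨(Subgroup.equivMapOfInjective U (MulAut.conj c).toMonoidHom
    (MulAut.conj c).injective).isCyclic.mp hU.1,
    (show Nat.card (U.map (MulAut.conj c).toMonoidHom) = Nat.card U from
      Subgroup.card_map_of_injective (MulAut.conj c).injective).symm ▸ hU.2⟩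

theorem isPart_map {U : Subgroup G} (hU : IsPart F m U) (c : G) :
    IsPart F m (U.map (MulAut.conj c).toMonoidHom) := by
  rcases hU with ⟨P, rfl⟩ | h
  · exact Or.inl ⟨c • P, rfl⟩
  · exact (IsCycPart.map h c).isPart

theorem part_eq {U V : Subgroup G} (hU : IsPart F m U) (hV : IsPart F m V) {g : G} (hg : g ≠ 1)
    (hgU : g ∈ U) (hgV : g ∈ V) : U = V :=
  ExistsUnique.unique (existsUnique_part hg) ⟨hU, hgU⟩ ⟨hV, hgV⟩

theorem IsCycPart.eq_centralizer {U : Subgroup G} (hU : IsCycPart F m U) {u : G} (hu : u ∈ U)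
    (h1 : u ≠ 1) : Subgroup.centralizer {u} = U :=
  (eq_centralizer_of_card hU.1 hU.2 hu h1).1.symm

theorem IsCycPart.odd {U : Subgroup G} (hU : IsCycPart F m U) : ¬ 2 ∣ Nat.card U := by
  obtain ⟨h1, h2, h3, h4⟩ := r_facts (F := F) (m := m)
  obtain ⟨-, hc⟩ := hU
  generalize rr = R at h1 h2 h3 hc ⊢
  generalize qq = Q at h1 h2 h4 hc ⊢
  rcases hc with h | h | h <;> rw [h] <;> omega

include hP in
theorem four_le_r : 4 ≤ rr :=
  Nat.le_trans (by norm_num) (Nat.pow_le_pow_right two_pos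
    (show 2 ≤ m + 1 by have := one_le (F := F) (m := m); omega))

theorem IsCycPart.three_le {U : Subgroup G} (hU : IsCycPart F m U) : 3 ≤ Nat.card U := by
  have h8 := q_ge (F := F) (m := m)
  obtain ⟨h1, h2, -, -⟩ := r_facts (F := F) (m := m)
  have h4 := four_le_r (F := F) (m := m)
  have : rr + 2 ≤ qq := by nlinarith
  obtain ⟨-, hc⟩ := hU
  rcases hc with h | h | h <;> rw [h] <;> omega

theorem IsCycPart.comm {U : Subgroup G} (hU : IsCycPart F m U) {a b : G} (ha : a ∈ U) (hb : b ∈ U) :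
    a * b = b * a := by
  rcases eq_or_ne b 1 with rfl | hb1
  · simp
  rw [← hU.eq_centralizer hb hb1] at ha
  exact Subgroup.mem_centralizer_singleton_iff.mp ha

theorem isCycPart_H₀ : IsCycPart F m H₀ := ⟨isCyclic_torus, by rw [natCard_torus]; simp⟩

theorem IsCycPart.cases {U : Subgroup G} (hU : IsCycPart F m U) :
    (Nat.card U = qq - 1 ∧ ∃ c : G, U = (H₀).map (MulAut.conj c).toMonoidHom) ∨
      (IsTorus U ∧ Nat.card U ∈ ({qq + rr + 1, qq - rr + 1} : Set ℕ)) := by
  have := finiteF (F := F) (m := m)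
  have h3 := hU.three_le
  obtain ⟨u, hu, hu1⟩ : ∃ u ∈ U, u ≠ 1 := (Subgroup.bot_or_exists_ne_one U).resolve_left fun e => by
    rw [e, Subgroup.card_bot] at h3; omega
  have h4 := (eq_centralizer_of_card hU.1 hU.2 hu hu1).2
  rcases exists_conj_Ts_or_Hs hu1 with hf | ⟨c, a, b, hab⟩ | ⟨c, k, hk, hck⟩
  · refine Or.inr ⟨⟨u, hf, (hU.eq_centralizer hu hu1).symm⟩, ?_⟩
    rcases hU.2 with h | h
    · exfalso
      have hd := (IsTorus.card_dvd ⟨u, hf, (hU.eq_centralizer hu hu1).symm⟩)
      obtain ⟨p, hp, hpd⟩ := Nat.exists_prime_and_dvd (show Nat.card U ≠ 1 by omega)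
      exact (coprime_sub_one hp (hpd.trans hd)).2.2 (h ▸ hpd)
    · exact h
  · exact absurd (by rw [← MulEquiv.orderOf_eq (MulAut.conj c), MulAut.conj_apply, hab];
                     exact orderOf_Ts_dvd a b) h4
  · refine Or.inl ?_
    have e : U = (H₀).map (MulAut.conj c⁻¹).toMonoidHom := by
      rw [← hU.eq_centralizer hu hu1, centralizer_conj' c u, hck, centralizer_Hs hk]
    refine ⟨?_, c⁻¹, e⟩
    rw [e, Subgroup.card_map_of_injective (MulAut.conj c⁻¹).injective, natCard_torus]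

theorem map_conj_map (U : Subgroup G) (c d : G) :
    (U.map (MulAut.conj c).toMonoidHom).map (MulAut.conj d).toMonoidHom =
      U.map (MulAut.conj (d * c)).toMonoidHom := by
  rw [Subgroup.map_map]; congr 1; ext x; simp [mul_assoc]

theorem IsCycPart.conj_of_card_eq {U V : Subgroup G} (hU : IsCycPart F m U) (hV : IsCycPart F m V)
    (h : Nat.card U = Nat.card V) : ∃ c : G, V = U.map (MulAut.conj c).toMonoidHom := by
  obtain ⟨h1, h2, -, -⟩ := r_facts (F := F) (m := m)
  have h8 := q_ge (F := F) (m := m)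
  have hr := four_le_r (F := F) (m := m)
  rcases hU.cases with ⟨hcU, a, rfl⟩ | ⟨hTU, hcU⟩ <;> rcases hV.cases with ⟨hcV, b, hb⟩ | ⟨hTV, hcV⟩
  · exact ⟨b * a⁻¹, by rw [hb, map_conj_map, inv_mul_cancel_right]⟩
  · exfalso; rw [← h, hcU] at hcV
    rcases hcV with e | e <;> first | omega | (rw [Set.mem_singleton_iff] at e; omega)
  · exfalso; rw [h, hcV] at hcU
    rcases hcU with e | e <;> first | omega | (rw [Set.mem_singleton_iff] at e; omega)
  · obtain ⟨A₁, A₂, -, -, c1, c2, -, -, hall⟩ := exists_tori (F := F) (m := m)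
    obtain ⟨a, ha⟩ := hall U hTU
    obtain ⟨b, hb⟩ := hall V hTV
    have hcard : ∀ (A : Subgroup G) (c : G),
        Nat.card (A.map (MulAut.conj c).toMonoidHom) = Nat.card A := fun A c =>
      Subgroup.card_map_of_injective (MulAut.conj c).injective
    rcases ha with rfl | rfl <;> rcases hb with rfl | rfl
    · exact ⟨b * a⁻¹, by rw [map_conj_map, inv_mul_cancel_right]⟩
    · rw [hcard, hcard, c1, c2] at h; omega
    · rw [hcard, hcard, c1, c2] at h; omega
    · exact ⟨b * a⁻¹, by rw [map_conj_map, inv_mul_cancel_right]⟩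

theorem normalizer_map (U : Subgroup G) (c : G) :
    N[U.map (MulAut.conj c).toMonoidHom] = (N[U]).map (MulAut.conj c).toMonoidHom :=
  (Subgroup.map_equiv_normalizer_eq U (MulAut.conj c)).symm

theorem natCard_normalizer_H₀ : Nat.card (N[H₀]) = 2 * (qq - 1) := by
  have := finiteF (F := F) (m := m)
  have hW : (Ws : G) ∈ N[H₀] := by
    refine Subgroup.mem_normalizer_iff.mpr fun g => ⟨?_, fun h => ?_⟩
    · rintro ⟨l, rfl⟩; exact ⟨l⁻¹, (Ws_Hs l).symm⟩
    · obtain ⟨l, hl⟩ := h
      refine ⟨l⁻¹, ?_⟩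
      have e : (Ws : G) * (Ws * g * Ws⁻¹) * Ws⁻¹ = g := by
        rw [Ws_inv, show (Ws : G) * (Ws * g * Ws) * Ws = (Ws * Ws) * g * (Ws * Ws) by group,
          Ws_mul_Ws, one_mul, mul_one]
      rw [← e, ← hl]
      exact (Ws_Hs l).symm
  have hH : ∀ k : Fˣ, (Hs k : G) ∈ N[H₀] := fun k => Subgroup.le_normalizer ⟨k, rfl⟩
  have key : ∀ g ∈ N[H₀], ∃ k, g = Hs k ∨ g = Ws * Hs k := by
    intro g hg
    obtain ⟨a, ha0, ha1⟩ := exists_ne_zero_one (F := F) (m := m)
    set k : Fˣ := Units.mk0 a ha0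
    have hk : k ≠ 1 := fun e => ha1 (congrArg Units.val e)
    obtain ⟨l, hl⟩ := (Subgroup.mem_normalizer_iff.mp hg (Hs k)).mp ⟨k, rfl⟩
    change (Hs l : G) = g * Hs k * g⁻¹ at hl
    have hl1 : l ≠ 1 := by
      rintro rfl
      rw [Hs_one, eq_comm, conj_eq_one_iff] at hl
      exact hk (Hs_injective (hl.trans Hs_one.symm))
    have f1 : g • ∞ = ∞ ∨ g • ∞ = o := Hs_fix hl1 (smul_mem_ovoid g inf_mem)
      (by rw [hl, conj_smul_eq, Hs_smul_inf])
    have f2 : g • o = ∞ ∨ g • o = o := Hs_fix hl1 (smul_mem_ovoid g zero_mem)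
      (by rw [hl, conj_smul_eq, Hs_smul_zero])
    have hne : g • (∞ : ℙ F (Fin 4 → F)) ≠ g • o := fun h => inf_ne_zero (MulAction.injective g h)
    rcases f1 with f1 | f1 <;> rcases f2 with f2 | f2
    · exact absurd (f1.trans f2.symm) hne
    · obtain ⟨k', hk'⟩ := fix_inf_zero f1 f2
      exact ⟨k', Or.inl hk'⟩
    · obtain ⟨k', hk'⟩ := fix_inf_zero (g := (Ws : G)⁻¹ * g)
        (by rw [mul_smul, f1, inv_smul_eq_iff, Ws_smul_inf])
        (by rw [mul_smul, f2, inv_smul_eq_iff, Ws_smul_zero])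
      exact ⟨k', Or.inr (by rw [← hk', mul_inv_cancel_left])⟩
    · exact absurd (f1.trans f2.symm) hne
  have hdiff : ∀ k l : Fˣ, (Hs k : G) ≠ Ws * Hs l := fun k l h => by
    have := congrArg (fun g : G => g • (∞ : ℙ F (Fin 4 → F))) h
    rw [Hs_smul_inf, mul_smul, Hs_smul_inf, Ws_smul_inf] at this
    exact inf_ne_zero this
  rw [← natCard (F := F) (m := m), ← Nat.card_units, ← Nat.card_fin 2, ← Nat.card_prod]
  refine (Nat.card_eq_of_bijective (fun x : Fin 2 × Fˣ =>
    (if x.1 = 0 then ⟨Hs x.2, hH x.2⟩ else ⟨Ws * Hs x.2, mul_mem hW (hH x.2)⟩ : N[H₀])) ⟨?_, ?_⟩).symm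
  · rintro ⟨i, k⟩ ⟨j, l⟩ h
    fin_cases i <;> fin_cases j <;> simp at h ⊢
    · exact Hs_injective (congrArg Subtype.val h)
    · exact hdiff k l (congrArg Subtype.val h)
    · exact hdiff l k (congrArg Subtype.val h).symm
    · exact Hs_injective (mul_left_cancel (congrArg Subtype.val h))
  · rintro ⟨g, hg⟩
    obtain ⟨k, rfl | rfl⟩ := key g hg
    · exact ⟨(0, k), by simp⟩
    · exact ⟨(1, k), by simp⟩

/-- `[N(U) : U]`. -/
theorem IsCycPart.card_normalizer {U : Subgroup G} (hU : IsCycPart F m U) :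
    (Nat.card U = qq - 1 ∧ Nat.card (N[U]) = 2 * Nat.card U) ∨
      (Nat.card U ∈ ({qq + rr + 1, qq - rr + 1} : Set ℕ) ∧ Nat.card (N[U]) = 4 * Nat.card U) := by
  have hcard : ∀ (A : Subgroup G) (c : G),
      Nat.card (A.map (MulAut.conj c).toMonoidHom) = Nat.card A := fun A c =>
    Subgroup.card_map_of_injective (MulAut.conj c).injective
  rcases hU.cases with ⟨hc, a, rfl⟩ | ⟨hT, hc⟩
  · refine Or.inl ⟨hc, ?_⟩
    rw [normalizer_map, hcard, hcard, natCard_normalizer_H₀, natCard_torus]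
  · refine Or.inr ⟨hc, ?_⟩
    obtain ⟨A₁, A₂, -, -, -, -, n1, n2, hall⟩ := exists_tori (F := F) (m := m)
    obtain ⟨a, rfl | rfl⟩ := hall U hT
    · rw [normalizer_map, hcard, hcard, n1]
    · rw [normalizer_map, hcard, hcard, n2]

theorem IsCycPart.pow_eq_one {U : Subgroup G} (hU : IsCycPart F m U) {k : ℕ}
    (hk : Nat.card (N[U]) = k * Nat.card U) {v : G} (hv : v ∈ N[U]) (hvU : v ∉ U) : v ^ k = 1 := by
  have := finiteF (F := F) (m := m)
  have hle : U ≤ N[U] := Subgroup.le_normalizer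
  have h1 := Subgroup.card_mul_index (U.subgroupOf N[U])
  rw [Nat.card_congr (Subgroup.subgroupOfEquivOfLe hle).toEquiv, hk, mul_comm k] at h1
  have hidx := Nat.eq_of_mul_eq_mul_left Nat.card_pos h1
  have h2 := (U.subgroupOf N[U]).pow_index_mem ⟨v, hv⟩
  rw [hidx, Subgroup.mem_subgroupOf, SubmonoidClass.coe_pow] at h2
  by_contra hne
  refine hvU ?_
  rw [← hU.eq_centralizer h2 hne, Subgroup.mem_centralizer_singleton_iff]
  exact (Commute.self_pow v k).eq

theorem IsCycPart.mem_of_not_dvd_four {U : Subgroup G} (hU : IsCycPart F m U) {v : G}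
    (hv : v ∈ N[U]) (h : ¬ orderOf v ∣ 4) : v ∈ U := by
  by_contra hvU
  rcases hU.card_normalizer with ⟨-, hk⟩ | ⟨-, hk⟩
  · exact h ((orderOf_dvd_of_pow_eq_one (hU.pow_eq_one hk hv hvU)).trans (by norm_num))
  · exact h (orderOf_dvd_of_pow_eq_one (hU.pow_eq_one hk hv hvU))

theorem IsCycPart.not_dvd_four {U : Subgroup G} (hU : IsCycPart F m U) {u : G} (hu : u ∈ U)
    (h1 : u ≠ 1) : ¬ orderOf u ∣ 4 := (eq_centralizer_of_card hU.1 hU.2 hu h1).2

/-- Involutions normalising a cyclic part invert it. -/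
theorem IsCycPart.invert {U : Subgroup G} (hU : IsCycPart F m U) {v : G} (hv : v ∈ N[U])
    (hvo : orderOf v = 2) {h : G} (hh : h ∈ U) : v * h * v⁻¹ = h⁻¹ := by
  have hv2 : v * v = 1 := by rw [← pow_two, ← hvo, pow_orderOf_eq_one]
  have hvi : v⁻¹ = v := inv_eq_of_mul_eq_one_right hv2
  have hh' : v * h * v⁻¹ ∈ U := (Subgroup.mem_normalizer_iff.mp hv h).mp hh
  have hx : h * (v * h * v⁻¹) ∈ U := mul_mem hh hh'
  have hcomm : v * (h * (v * h * v⁻¹)) = h * (v * h * v⁻¹) * v := by
    calc v * (h * (v * h * v⁻¹)) = (v * h * v⁻¹) * (v * v) * h * (v⁻¹ * v⁻¹) * v := by group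
      _ = (v * h * v⁻¹) * h * v := by rw [hvi, hv2, mul_one, mul_one]
      _ = _ := by rw [hU.comm hh' hh]
  have hx1 : h * (v * h * v⁻¹) = 1 := by
    by_contra hne
    have hvU : v ∈ U := by
      rw [← hU.eq_centralizer hx hne, Subgroup.mem_centralizer_singleton_iff]
      exact hcomm
    refine hU.not_dvd_four hvU (fun e => ?_) (by rw [hvo]; norm_num)
    rw [e, orderOf_one] at hvo
    norm_num at hvo
  exact eq_inv_of_mul_eq_one_right hx1

theorem IsCycPart.exists_involution {U : Subgroup G} (hU : IsCycPart F m U) :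
    ∃ v ∈ N[U], orderOf v = 2 := by
  have := finiteF (F := F) (m := m)
  have : Fact (Nat.Prime 2) := ⟨Nat.prime_two⟩
  have h2 : 2 ∣ Nat.card (N[U]) := by
    rcases hU.card_normalizer with ⟨-, hk⟩ | ⟨-, hk⟩ <;> rw [hk] <;>
      exact Dvd.dvd.mul_right (by norm_num) _
  obtain ⟨v, hv⟩ := exists_prime_orderOf_dvd_card' 2 h2
  exact ⟨v, v.2, by rw [← hv]; exact Subgroup.orderOf_coe v⟩

theorem IsCycPart.card_involutions {U : Subgroup G} (hU : IsCycPart F m U) :
    Nat.card {v : G // v ∈ N[U] ∧ orderOf v = 2} = Nat.card U := by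
  obtain ⟨v, hv, hvo⟩ := hU.exists_involution
  have hv2 : v * v = 1 := by rw [← pow_two, ← hvo, pow_orderOf_eq_one]
  have hnot : v ∉ U := fun h => hU.not_dvd_four h (fun e => by rw [e, orderOf_one] at hvo; norm_num at hvo)
    (by rw [hvo]; norm_num)
  symm
  refine Nat.card_eq_of_bijective (fun h : U => ⟨v * h, mul_mem hv (Subgroup.le_normalizer h.2), ?_⟩) ⟨?_, ?_⟩
  · refine orderOf_eq_prime ?_ fun e => hnot ?_
    · calc (v * (h : G)) ^ 2 = (v * h * v⁻¹) * (v * v) * h := by rw [pow_two]; group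
        _ = 1 := by rw [hU.invert hv hvo h.2, hv2, mul_one, inv_mul_cancel]
    · rw [show v = (h : G)⁻¹ from eq_inv_of_mul_eq_one_left e]; exact inv_mem h.2
  · intro a b h
    exact Subtype.ext (mul_left_cancel (congrArg Subtype.val h))
  · rintro ⟨w, hw, hwo⟩
    have hmem : v⁻¹ * w ∈ U := by
      have h3 := hU.three_le
      have := finiteF (F := F) (m := m)
      obtain ⟨u, hu, hu1⟩ : ∃ u ∈ U, u ≠ 1 :=
        (Subgroup.bot_or_exists_ne_one U).resolve_left fun e => by
          rw [e, Subgroup.card_bot] at h3; omega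
      rw [← hU.eq_centralizer hu hu1, Subgroup.mem_centralizer_singleton_iff]
      have e1 := hU.invert hw hwo hu
      have e2 := hU.invert hv hvo hu
      have h' : w * u * w⁻¹ = v * u * v⁻¹ := e1.trans e2.symm
      calc v⁻¹ * w * u = v⁻¹ * (w * u * w⁻¹) * w := by group
        _ = u * (v⁻¹ * w) := by rw [h']; group
    exact ⟨⟨v⁻¹ * w, hmem⟩, Subtype.ext (mul_inv_cancel_left v w)⟩

theorem IsCycPart.card_order_four {U : Subgroup G} (hU : IsCycPart F m U) {k : ℕ} (hk2 : 2 ≤ k)
    (hk : Nat.card (N[U]) = k * Nat.card U) :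
    Nat.card {v : G // v ∈ N[U] ∧ orderOf v = 4} = (k - 2) * Nat.card U := by
  classical
  have := finiteF (F := F) (m := m)
  let : Fintype G := Fintype.ofFinite _
  have hU2 := hU.card_involutions
  rw [Nat.card_eq_fintype_card, Fintype.card_subtype] at hU2
  rw [Nat.card_eq_fintype_card (α := {v : G // v ∈ N[U] ∧ orderOf v = 4}), Fintype.card_subtype]
  have hN : (Finset.univ.filter fun v : G => v ∈ N[U]).card = k * Nat.card U := by
    rw [← hk, Nat.card_eq_fintype_card, Fintype.card_subtype]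
  have hUc : (Finset.univ.filter fun v : G => v ∈ U).card = Nat.card U := by
    rw [Nat.card_eq_fintype_card, Fintype.card_subtype]
  have hsplit : (Finset.univ.filter fun v : G => v ∈ N[U]) =
      ((Finset.univ.filter fun v : G => v ∈ U) ∪
        (Finset.univ.filter fun v : G => v ∈ N[U] ∧ orderOf v = 2)) ∪
        (Finset.univ.filter fun v : G => v ∈ N[U] ∧ orderOf v = 4) := by
    ext v
    simp only [Finset.mem_union, Finset.mem_filter, Finset.mem_univ, true_and]
    refine ⟨fun hv => ?_, ?_⟩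
    · by_cases hvU : v ∈ U
      · exact Or.inl (Or.inl hvU)
      have h4 : orderOf v ∣ 4 := by_contra fun h => hvU (hU.mem_of_not_dvd_four hv h)
      have h1 : orderOf v ≠ 1 := fun e => hvU (orderOf_eq_one_iff.mp e ▸ U.one_mem)
      obtain ⟨i, hi⟩ := exists_pow_of_dvd_four h4
      have h5 := Nat.le_of_dvd four_pos h4
      have : i < 3 := by
        by_contra h
        have : 2 ^ 3 ≤ 2 ^ i := Nat.pow_le_pow_right two_pos (by omega)
        omega
      interval_cases i
      · exact absurd hi h1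
      · exact Or.inl (Or.inr ⟨hv, hi⟩)
      · exact Or.inr ⟨hv, hi⟩
    · rintro ((h | h) | h)
      exacts [Subgroup.le_normalizer h, h.1, h.1]
  have hd1 : Disjoint (Finset.univ.filter fun v : G => v ∈ U)
      (Finset.univ.filter fun v : G => v ∈ N[U] ∧ orderOf v = 2) := by
    rw [Finset.disjoint_filter]
    intro v _ hvU ⟨_, ho⟩
    exact hU.not_dvd_four hvU (fun e => by rw [e, orderOf_one] at ho; norm_num at ho)
      (by rw [ho]; norm_num)
  have hd2 : Disjoint ((Finset.univ.filter fun v : G => v ∈ U) ∪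
      (Finset.univ.filter fun v : G => v ∈ N[U] ∧ orderOf v = 2))
      (Finset.univ.filter fun v : G => v ∈ N[U] ∧ orderOf v = 4) := by
    rw [Finset.disjoint_union_left, Finset.disjoint_filter, Finset.disjoint_filter]
    refine ⟨fun v _ hvU ⟨_, ho⟩ => ?_, fun v _ ⟨_, h⟩ ⟨_, ho⟩ => by omega⟩
    exact hU.not_dvd_four hvU (fun e => by rw [e, orderOf_one] at ho; norm_num at ho)
      (by rw [ho])
  rw [hsplit, Finset.card_union_of_disjoint hd2, Finset.card_union_of_disjoint hd1, hUc, hU2] at hN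
  obtain ⟨j, rfl⟩ : ∃ j, k = j + 2 := ⟨k - 2, by omega⟩
  rw [Nat.add_sub_cancel]
  linarith

/-! ### Solvable subgroups -/

theorem normalizer_sylow_le (P : Sylow 2 G) :
    ∃ p ∈ suzukiOvoid F m, N[(P : Subgroup G)] ≤ stabilizer G p := by
  obtain ⟨c, hc⟩ := exists_conj_sylow P
  refine ⟨c • ∞, smul_mem_ovoid c inf_mem, ?_⟩
  rw [hc, normalizer_map, normalizer_unipotent, stabilizer_smul_eq_stabilizer_map_conj]

theorem exists_point_or_cycPart (K : Subgroup G) [Group.IsSolvable K] :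
    (∃ p ∈ suzukiOvoid F m, K ≤ stabilizer G p) ∨ ∃ U, IsCycPart F m U ∧ K ≤ N[U] := by
  rcases eq_or_ne K ⊥ with rfl | hK
  · exact Or.inl ⟨∞, inf_mem, bot_le⟩
  classical
  have hsol : ∃ n, derivedSeries K n = ⊥ := (inferInstance : Group.IsSolvable K).solvable
  obtain ⟨n, hn⟩ : ∃ n, Nat.find hsol = n + 1 := by
    refine Nat.exists_eq_succ_of_ne_zero fun e => hK ?_
    have := Nat.find_spec hsol
    rw [e, derivedSeries_zero] at this
    have h2 := congrArg (Subgroup.map K.subtype) this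
    rwa [← MonoidHom.range_eq_map, K.range_subtype, Subgroup.map_bot] at h2
  have hbot : derivedSeries K (n + 1) = ⊥ := hn ▸ Nat.find_spec hsol
  have hne : derivedSeries K n ≠ ⊥ := Nat.find_min hsol (by omega)
  rw [derivedSeries_succ, Subgroup.commutator_eq_bot_iff_le_centralizer] at hbot
  set A := (derivedSeries K n).map K.subtype with hA
  have hcomm : ∀ a ∈ A, ∀ b ∈ A, a * b = b * a := by
    rintro _ ⟨a, ha, rfl⟩ _ ⟨b, hb, rfl⟩
    exact congrArg Subtype.val (Subgroup.mem_centralizer_iff.mp (hbot ha) b hb).symm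
  let : CommGroup A := { mul_comm := fun a b => Subtype.ext (hcomm a a.2 b b.2) }
  have hnil : Group.IsNilpotent A := CommGroup.isNilpotent
  obtain ⟨g, hg, hg1⟩ : ∃ g ∈ A, g ≠ 1 := by
    refine (Subgroup.bot_or_exists_ne_one A).resolve_left fun e => hne ?_
    exact (Subgroup.map_eq_bot_iff_of_injective _ K.subtype_injective).mp e
  obtain ⟨U, ⟨hU, hgU⟩, -⟩ := existsUnique_part hg1
  have hAU : A ≤ U := le_part_of_nilpotent hg1 hg hU hgU
  have hKN : K ≤ N[U] := by
    intro k hk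
    rw [Subgroup.mem_normalizer_iff_map_conj_eq]
    have hkg : k * g * k⁻¹ ∈ A := by
      obtain ⟨a, ha, rfl⟩ := hg
      exact ⟨_, (derivedSeries_normal K n).conj_mem a ha ⟨k, hk⟩, rfl⟩
    refine part_eq (isPart_map hU k) hU (fun e => hg1 (conj_eq_one_iff.mp e)) ?_ (hAU hkg)
    exact ⟨g, hgU, rfl⟩
  rcases hU with ⟨P, rfl⟩ | hU
  · obtain ⟨p, hp, hle⟩ := normalizer_sylow_le P
    exact Or.inl ⟨p, hp, hKN.trans hle⟩
  · exact Or.inr ⟨U, hU, hKN⟩

theorem isSolvable_borel : Group.IsSolvable ↥(borel : Subgroup G) := by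
  have := finiteF (F := F) (m := m)
  have : Fact (Nat.Prime 2) := ⟨Nat.prime_two⟩
  have hnorm : ((unipotent : Subgroup G).subgroupOf borel).Normal :=
    ⟨fun u hu g => conj_mem_unipotent (mem_stabilizer_iff.mp g.2) hu⟩
  let φ : Fˣ →* (↥(borel : Subgroup G) ⧸ (unipotent : Subgroup G).subgroupOf borel) :=
    (QuotientGroup.mk' _).comp
      { toFun := fun k => ⟨Hs k, mem_stabilizer_iff.mpr (Hs_smul_inf k)⟩
        map_one' := Subtype.ext Hs_one
        map_mul' := fun k l => Subtype.ext (Hs_mul k l).symm }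
  have hφ : Function.Surjective φ := by
    intro x
    induction x using QuotientGroup.induction_on with
    | H g =>
      obtain ⟨g, hg⟩ := g
      obtain ⟨a, b, k, rfl⟩ := fix_inf_iff.mp (mem_stabilizer_iff.mp hg)
      refine ⟨k, QuotientGroup.eq.mpr ?_⟩
      rw [Subgroup.mem_subgroupOf]
      have := conj_mem_unipotent (g := (Hs k : G)⁻¹)
        (by rw [inv_smul_eq_iff, Hs_smul_inf]) (Ts_mem a b)
      simpa [mul_assoc] using this
  have : Group.IsSolvable (↥(borel : Subgroup G) ⧸ (unipotent : Subgroup G).subgroupOf borel) :=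
    Group.isSolvable_of_surjective hφ
  have : Group.IsSolvable ↥((unipotent : Subgroup G).subgroupOf borel) := by
    have : Group.IsNilpotent ↥(unipotent : Subgroup G) := isPGroup_unipotent.isNilpotent
    let e := Subgroup.subgroupOfEquivOfLe (unipotent_le_borel (F := F) (m := m))
    have hinj : Function.Injective e.toMonoidHom := e.injective
    exact Group.isSolvable_of_isSolvable_injective hinj
  exact (Group.isSolvable_iff_subgroup_quotient
    ((unipotent : Subgroup G).subgroupOf borel)).mpr ⟨inferInstance, inferInstance⟩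

theorem isSolvable_stabilizer {p : ℙ F (Fin 4 → F)} (hp : p ∈ suzukiOvoid F m) :
    Group.IsSolvable ↥(stabilizer G p) := by
  obtain ⟨c, rfl⟩ := exists_to_inf (m := m) hp
  rw [stabilizer_smul_eq_stabilizer_map_conj]
  have := isSolvable_borel (F := F) (m := m)
  exact Group.isSolvable_of_surjective
    (f := (Subgroup.equivMapOfInjective (borel : Subgroup G) (MulAut.conj c).toMonoidHom
      (MulAut.conj c).injective).toMonoidHom)
    (Subgroup.equivMapOfInjective (borel : Subgroup G) (MulAut.conj c).toMonoidHom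
      (MulAut.conj c).injective).surjective

theorem IsCycPart.isSolvable_normalizer {U : Subgroup G} (hU : IsCycPart F m U) :
    Group.IsSolvable ↥(N[U]) := by
  have := finiteF (F := F) (m := m)
  have : Fact (Nat.Prime 2) := ⟨Nat.prime_two⟩
  have hle : U ≤ N[U] := Subgroup.le_normalizer
  have : Group.IsSolvable ↥(U.subgroupOf N[U]) :=
    Group.isSolvable_of_comm fun a b => Subtype.ext (Subtype.ext (hU.comm a.2 b.2))
  have h1 := Subgroup.card_mul_index (U.subgroupOf N[U])
  rw [Nat.card_congr (Subgroup.subgroupOfEquivOfLe hle).toEquiv, Subgroup.index_eq_card] at h1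
  have : Group.IsNilpotent (↥(N[U]) ⧸ U.subgroupOf N[U]) := by
    rcases hU.card_normalizer with ⟨-, hk⟩ | ⟨-, hk⟩
    · rw [hk, mul_comm 2] at h1
      exact (IsPGroup.of_card (p := 2) (n := 1)
        (by rw [pow_one]; exact Nat.eq_of_mul_eq_mul_left Nat.card_pos h1)).isNilpotent
    · rw [hk, mul_comm 4] at h1
      exact (IsPGroup.of_card (p := 2) (n := 2)
        (by norm_num; exact Nat.eq_of_mul_eq_mul_left Nat.card_pos h1)).isNilpotent
  exact (Group.isSolvable_iff_subgroup_quotient (U.subgroupOf N[U])).mpr ⟨inferInstance, inferInstance⟩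

end Cfsg.Agent.SuzukiGroupNormalizers
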