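import Mathlib
import Cfsg.Agent.Lib.FusionSysNormal
import Cfsg.Agent.Lib.FusionKit88
import Cfsg.Agent.Lib.FusionFrattini88

/-!
Morphisms of fusion systems and factor systems in the language of total functions, and saturation
of the target of a surjective morphism.
-/

set_option autoImplicit false

namespace Cfsg.Agent.FusionMorph88

open Cfsg Cfsg.FusionSystem Cfsg.Agent.FusionSysBasic Cfsg.Agent.FusionSysSaturated

variable {Ω Ω' : Type*} [Group Ω] [Group Ω'] {S : Subgroup Ω} {S' : Subgroup Ω'}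

open Classical in
/-- A homomorphism on `S`, extended by `1` to a total function. -/
noncomputable def app (α : S →* Ω') : Ω → Ω' := fun x => if h : x ∈ S then α ⟨x, h⟩ else 1

variable {α : S →* Ω'} {F : FusionSystem S} {F' : FusionSystem S'}

theorem app_apply (α : S →* Ω') {x : Ω} (h : x ∈ S) : app α x = α ⟨x, h⟩ := dif_pos h

theorem app_mul {x y : Ω} (hx : x ∈ S) (hy : y ∈ S) : app α (x * y) = app α x * app α y := by
  rw [app_apply α (S.mul_mem hx hy), app_apply α hx, app_apply α hy, ← map_mul]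
  rfl

theorem app_one : app α (1 : Ω) = 1 := by
  rw [app_apply α S.one_mem]; exact map_one α

theorem app_inv {x : Ω} (hx : x ∈ S) : app α x⁻¹ = (app α x)⁻¹ := by
  rw [app_apply α (S.inv_mem hx), app_apply α hx, ← map_inv]
  rfl

theorem app_cj {g x : Ω} (hg : g ∈ S) (hx : x ∈ S) :
    app α (cj g x) = cj (app α g) (app α x) := by
  rw [cj_apply, cj_apply, app_mul (S.mul_mem hg hx) (S.inv_mem hg), app_mul hg hx, app_inv hg]

theorem mem_imageAlong {P : Subgroup Ω} {y : Ω'} :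
    y ∈ imageAlong α P ↔ ∃ x ∈ P, x ∈ S ∧ app α x = y := by
  constructor
  · rintro ⟨a, ha, rfl⟩
    exact ⟨a, ha, a.2, app_apply α a.2⟩
  · rintro ⟨x, hx, hxS, rfl⟩
    exact ⟨⟨x, hxS⟩, hx, (app_apply α hxS).symm⟩

theorem app_mem_imageAlong {P : Subgroup Ω} {x : Ω} (hx : x ∈ P) (hP : P ≤ S) :
    app α x ∈ imageAlong α P :=
  mem_imageAlong.2 ⟨x, hx, hP hx, rfl⟩

theorem mem_preimageAlong {P' : Subgroup Ω'} {x : Ω} :
    x ∈ preimageAlong α P' ↔ x ∈ S ∧ app α x ∈ P' := by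
  constructor
  · rintro ⟨a, ha, rfl⟩
    exact ⟨a.2, by show app α (a : Ω) ∈ P'; rw [app_apply α a.2]; exact ha⟩
  · rintro ⟨hx, h⟩
    exact ⟨⟨x, hx⟩, by rw [SetLike.mem_coe, Subgroup.mem_comap, ← app_apply α hx]; exact h, rfl⟩

theorem preimageAlong_le (α : S →* Ω') (P' : Subgroup Ω') : preimageAlong α P' ≤ S :=
  fun _ hx => (mem_preimageAlong.1 hx).1

theorem preimageAlong_mono {P' Q' : Subgroup Ω'} (h : P' ≤ Q') :
    preimageAlong α P' ≤ preimageAlong α Q' :=
  fun _ hx => mem_preimageAlong.2 ⟨(mem_preimageAlong.1 hx).1, h (mem_preimageAlong.1 hx).2⟩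

theorem imageAlong_le_range (P : Subgroup Ω) : imageAlong α P ≤ α.range := by
  rintro _ ⟨a, -, rfl⟩; exact ⟨a, rfl⟩

theorem imageAlong_preimageAlong {P' : Subgroup Ω'} (h : P' ≤ α.range) :
    imageAlong α (preimageAlong α P') = P' := by
  ext y
  rw [mem_imageAlong]
  constructor
  · rintro ⟨x, hx, -, rfl⟩
    exact (mem_preimageAlong.1 hx).2
  · intro hy
    obtain ⟨a, rfl⟩ := h hy
    refine ⟨a, mem_preimageAlong.2 ⟨a.2, ?_⟩, a.2, app_apply α a.2⟩
    rwa [app_apply α a.2]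

theorem mem_kerAlong {x : Ω} : x ∈ (α.ker).map S.subtype ↔ x ∈ S ∧ app α x = 1 := by
  constructor
  · rintro ⟨a, ha, rfl⟩
    exact ⟨a.2, by show app α (a : Ω) = 1; rw [app_apply α a.2]; exact ha⟩
  · rintro ⟨hx, h⟩
    exact ⟨⟨x, hx⟩, by rw [SetLike.mem_coe, MonoidHom.mem_ker, ← app_apply α hx]; exact h, rfl⟩

theorem le_preimageAlong (P : Subgroup Ω) (hP : P ≤ S) : P ≤ preimageAlong α (imageAlong α P) :=
  fun _ hx => mem_preimageAlong.2 ⟨hP hx, app_mem_imageAlong hx hP⟩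

theorem preimageAlong_imageAlong {P : Subgroup Ω} (hP : P ≤ S)
    (hK : (α.ker).map S.subtype ≤ P) : preimageAlong α (imageAlong α P) = P := by
  refine le_antisymm (fun x hx => ?_) (le_preimageAlong P hP)
  obtain ⟨hxS, hx'⟩ := mem_preimageAlong.1 hx
  obtain ⟨y, hy, hyS, e⟩ := mem_imageAlong.1 hx'
  have : y⁻¹ * x ∈ (α.ker).map S.subtype := mem_kerAlong.2
    ⟨S.mul_mem (S.inv_mem hyS) hxS, by
      rw [app_mul (S.inv_mem hyS) hxS, app_inv hyS, e, inv_mul_cancel]⟩
  simpa using P.mul_mem hy (hK this)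

theorem ker_le_preimageAlong (P' : Subgroup Ω') : (α.ker).map S.subtype ≤ preimageAlong α P' :=
  fun _ hx => mem_preimageAlong.2 ⟨(mem_kerAlong.1 hx).1, (mem_kerAlong.1 hx).2 ▸ P'.one_mem⟩

/-- `InducedAlong`, for total functions. -/
theorem inducedAlong_iff {P : Subgroup Ω} {φ : P →* Ω} {f : Ω → Ω} {P' : Subgroup Ω'}
    {φ' : P' →* Ω'} {f' : Ω' → Ω'} (hP : P ≤ S) (hφ : ∀ x : P, φ x ∈ S)
    (he : ∀ x : P, φ x = f x) (he' : ∀ y : P', φ' y = f' y) :
    InducedAlong α φ φ' ↔ ∀ x ∈ P, app α x ∈ P' ∧ f' (app α x) = app α (f x) := by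
  constructor
  · rintro ⟨hP₀, hφ₀, hP', h⟩ x hx
    have h1 := h ⟨x, hx⟩
    rw [he'] at h1
    rw [app_apply α (hP hx)]
    refine ⟨hP' ⟨x, hx⟩, h1.trans ?_⟩
    rw [← he ⟨x, hx⟩, app_apply α (hφ ⟨x, hx⟩)]
  · intro h
    refine ⟨hP, hφ, fun x => ?_, fun x => ?_⟩
    · have := (h x x.2).1
      rwa [app_apply α (hP x.2)] at this
    · rw [he']
      show f' (α ⟨x, _⟩) = _
      rw [← app_apply α (hP x.2), (h x x.2).2, ← he, app_apply α (hφ x)]

theorem morphism_mor (h : F.IsMorphism F' α) {P : Subgroup Ω} {f : Ω → Ω} (hf : Mor F P f) :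
    ∃ f', Mor F' (imageAlong α P) f' ∧ ∀ x ∈ P, f' (app α x) = app α (f x) := by
  obtain ⟨φ, hφ, he⟩ := hf
  obtain ⟨φ', hφ', hi⟩ := h.2 P φ hφ
  exact ⟨toFun φ', mor_toFun hφ', fun x hx => (((inducedAlong_iff (F.le_of_mem hφ).1
    (F.le_of_mem hφ).2 he (fun y => (toFun_coe φ' y).symm)).1 hi) x hx).2⟩

theorem surjective_mor (h : F.IsSurjectiveMorphism F' α) {P' : Subgroup Ω'} {f' : Ω' → Ω'}
    (hf : Mor F' P' f') :
    ∃ f, Mor F (preimageAlong α P') f ∧
      ∀ x ∈ preimageAlong α P', f' (app α x) = app α (f x) := by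
  obtain ⟨φ', hφ', he'⟩ := hf
  obtain ⟨φ, hφ, hi⟩ := h.2.2 P' (F'.le_of_mem hφ').1 φ' hφ'
  exact ⟨toFun φ, mor_toFun hφ, fun x hx => (((inducedAlong_iff (F.le_of_mem hφ).1
    (F.le_of_mem hφ).2 (fun y => (toFun_coe φ y).symm) he').1 hi) x hx).2⟩

theorem factor_mor {θ : S →* Ω'} {S₀ : Subgroup Ω} {E : FusionSystem S'}
    (h : F.IsFactorSystem S₀ θ E) {P' : Subgroup Ω'} {f' : Ω' → Ω'} :
    Mor E P' f' ↔ P' ≤ S' ∧ ∃ f, Mor F (preimageAlong θ P') f ∧
      ∀ x ∈ preimageAlong θ P', f' (app θ x) = app θ (f x) := by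
  constructor
  · rintro ⟨φ', hφ', he'⟩
    obtain ⟨hP', φ, hφ, hi⟩ := (h.2.2.2 P' φ').1 hφ'
    exact ⟨hP', toFun φ, mor_toFun hφ, fun x hx => (((inducedAlong_iff (F.le_of_mem hφ).1
      (F.le_of_mem hφ).2 (fun y => (toFun_coe φ y).symm) he').1 hi) x hx).2⟩
  · rintro ⟨hP', f, hf, hff'⟩
    have hrange := h.2.2.1
    -- the homomorphism induced on `P'`
    have key : ∀ y : P', ∃ x ∈ preimageAlong θ P', app θ x = (y : Ω') := fun y => by
      have : (y : Ω') ∈ imageAlong θ (preimageAlong θ P') := by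
        rw [imageAlong_preimageAlong (hrange ▸ hP')]; exact y.2
      obtain ⟨x, hx, -, e⟩ := mem_imageAlong.1 this
      exact ⟨x, hx, e⟩
    let φ' : P' →* Ω' := MonoidHom.mk' (fun y => f' y) (fun a b => by
      obtain ⟨x, hx, ex⟩ := key a
      obtain ⟨z, hz, ez⟩ := key b
      show f' ((a : Ω') * b) = f' a * f' b
      rw [← ex, ← ez, ← app_mul (preimageAlong_le θ P' hx) (preimageAlong_le θ P' hz),
        hff' _ (mul_mem hx hz), hf.map_mul hx hz, app_mul (hf.apply_mem hx) (hf.apply_mem hz),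
        hff' x hx, hff' z hz])
    refine ⟨φ', (h.2.2.2 P' φ').2 ⟨hP', ?_⟩, fun y => rfl⟩
    obtain ⟨φ, hφ, he⟩ := hf
    exact ⟨φ, hφ, (inducedAlong_iff (preimageAlong_le θ P') (F.le_of_mem hφ).2 he
      (fun y => rfl)).2 fun x hx => ⟨(mem_preimageAlong.1 hx).2, hff' x hx⟩⟩

theorem ker_stronglyClosed (h : F.IsMorphism F' α) : F.StronglyClosed ((α.ker).map S.subtype) := by
  rw [FusionSysNormal.stronglyClosed_iff]
  refine ⟨fun x hx => (mem_kerAlong.1 hx).1, fun P f hP hf x hx => ?_⟩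
  obtain ⟨f', hf', he⟩ := morphism_mor h hf
  refine mem_kerAlong.2 ⟨hf.apply_mem hx, ?_⟩
  rw [← he x hx, (mem_kerAlong.1 (hP hx)).2, hf'.map_one]

theorem factor_stronglyClosed {θ : S →* Ω'} {S₀ : Subgroup Ω} {E : FusionSystem S'}
    (h : F.IsFactorSystem S₀ θ E) : S₀ = (θ.ker).map S.subtype := by
  ext x
  rw [mem_kerAlong]
  refine ⟨fun hx => ⟨h.1 hx, ?_⟩, fun ⟨hx, e⟩ => ?_⟩
  · rw [app_apply θ (h.1 hx)]
    exact (h.2.1 ⟨x, h.1 hx⟩).2 hx
  · rw [app_apply θ hx] at e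
    exact (h.2.1 ⟨x, hx⟩).1 e

section Saturation

variable [Finite S] {p : ℕ} [Fact p.Prime]

/-- The target of a surjective morphism out of a saturated system is saturated. -/
theorem saturated_of_surjective (hS : IsPGroup p S) (hF : F.IsSaturated p)
    (hα : F.IsSurjectiveMorphism F' α) : F'.IsSaturated p := by
  intro P' hP'
  set K₀ : Subgroup Ω := (α.ker).map S.subtype with hK₀
  have hcl := ker_stronglyClosed hα.1
  have hrange := hα.2.1
  obtain ⟨R, hPR, hR⟩ := exists_fullyNormalized (F := F) (preimageAlong_le α P')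
  have hKR : K₀ ≤ R := by
    obtain ⟨f, hf, him⟩ := FusionSysBasic.isConj_iff.1 hPR
    have hK : K₀ ≤ preimageAlong α P' := ker_le_preimageAlong P'
    have h1 : im K₀ f = K₀ := (hf.restrict_to hK).im_self fun x hx =>
      FusionSysNormal.stronglyClosed_invariant hcl hf (hK hx) hx
    rw [← h1, ← him]
    exact im_mono hK
  have hRS : R ≤ S := hR.1
  set R' : Subgroup Ω' := imageAlong α R with hR'
  have hR'S : R' ≤ S' := hrange ▸ imageAlong_le_range R
  have hpre : preimageAlong α R' = R := preimageAlong_imageAlong hRS hKR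
  have hconj : F'.IsConj P' R' := by
    obtain ⟨f, hf, him⟩ := FusionSysBasic.isConj_iff.1 hPR
    obtain ⟨f', hf', he⟩ := morphism_mor hα.1 hf
    rw [imageAlong_preimageAlong (hrange ▸ hP')] at hf'
    refine FusionSysBasic.isConj_iff.2 ⟨f', hf', le_antisymm (im_le_iff.2 fun y hy => ?_) fun y hy => ?_⟩
    · obtain ⟨x, hx, -, rfl⟩ := mem_imageAlong.1
        ((imageAlong_preimageAlong (hrange ▸ hP' : P' ≤ α.range)).ge hy)
      rw [he x hx]
      exact app_mem_imageAlong (him ▸ apply_mem_im hx) hRS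
    · obtain ⟨z, hz, -, rfl⟩ := mem_imageAlong.1 hy
      obtain ⟨x, hx, rfl⟩ := hf.mem_im.1 (him.symm ▸ hz)
      rw [← he x hx]
      exact apply_mem_im (mem_preimageAlong.1 hx).2
  -- the reduction homomorphism
  have hval : ∀ a ∈ F.autGroup R, ∃ b ∈ F'.autGroup R',
      ∀ x ∈ R, afun b (app α x) = app α (afun a x) := by
    intro a ha
    obtain ⟨f', hf', he⟩ := morphism_mor hα.1 ((mem_autGroup hRS).1 ha)
    haveI : Finite R' := by
      haveI := finite_of_le hRS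
      exact Finite.of_surjective (fun x : R => (⟨app α x, app_mem_imageAlong x.2 hRS⟩ : R'))
        fun y => by
          obtain ⟨x, hx, -, e⟩ := mem_imageAlong.1 y.2
          exact ⟨⟨x, hx⟩, Subtype.ext e⟩
    have him : im R' f' = R' := by
      refine Subgroup.eq_of_le_of_card_ge (im_le_iff.2 fun y hy => ?_) hf'.card_im.ge
      obtain ⟨x, hx, -, rfl⟩ := mem_imageAlong.1 hy
      rw [he x hx]
      exact app_mem_imageAlong (afun_mem a hx) hRS
    obtain ⟨b, hb, hbe⟩ := hf'.exists_aut him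
    exact ⟨b, hb, fun x hx => (hbe _ (app_mem_imageAlong hx hRS)).trans (he x hx)⟩
  choose ρ₀ hρ₀A hρ₀ using hval
  have huniq : ∀ b₁ b₂ : MulAut R',
      (∀ x ∈ R, afun b₁ (app α x) = afun b₂ (app α x)) → b₁ = b₂ := fun b₁ b₂ h =>
    afun_ext fun y hy => by
      obtain ⟨x, hx, -, rfl⟩ := mem_imageAlong.1 hy
      exact h x hx
  let ρ : F.autGroup R →* F'.autGroup R' :=
    MonoidHom.mk' (fun a => ⟨ρ₀ a a.2, hρ₀A a a.2⟩) fun a b => by
      apply Subtype.ext
      refine huniq _ _ fun x hx => ?_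
      show afun (ρ₀ (a * b : F.autGroup R) _) (app α x) = afun (ρ₀ a a.2 * ρ₀ b b.2) (app α x)
      rw [hρ₀ _ _ x hx, afun_mul _ _ (app_mem_imageAlong hx hRS), hρ₀ _ _ x hx,
        hρ₀ _ _ _ (afun_mem _ hx), Subgroup.coe_mul, afun_mul _ _ hx]
  have hρ : ∀ (a : F.autGroup R), ∀ x ∈ R,
      afun (ρ a : MulAut R') (app α x) = app α (afun (a : MulAut R) x) :=
    fun a x hx => hρ₀ a.1 a.2 x hx
  have hsurj : Function.Surjective ρ := by
    rintro ⟨b, hb⟩
    obtain ⟨f, hf, he⟩ := surjective_mor hα ((mem_autGroup hR'S).1 hb)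
    rw [hpre] at hf he
    have him : im R f = R := hf.im_self fun x hx => by
      rw [← hpre]
      refine mem_preimageAlong.2 ⟨hf.apply_mem hx, ?_⟩
      rw [← he x hx]
      exact afun_mem b (app_mem_imageAlong hx hRS)
    obtain ⟨a, ha, hae⟩ := hf.exists_aut him
    refine ⟨⟨a, ha⟩, Subtype.ext (huniq _ _ fun x hx => ?_)⟩
    rw [hρ ⟨a, ha⟩ x hx, hae x hx, he x hx]
  have hAS : autInducedBy S R ≤ F.autGroup R := autInducedBy_le hRS
  have hmapS : ((autInducedBy S R).subgroupOf (F.autGroup R)).map ρ =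
      (autInducedBy S' R').subgroupOf (F'.autGroup R') := by
    ext b
    constructor
    · rintro ⟨a, ha, rfl⟩
      obtain ⟨g, hg, hgn, hge⟩ := mem_autInducedBy.1 (show (a : MulAut R) ∈ autInducedBy S R from ha)
      have he : ∀ y ∈ R', afun (ρ a : MulAut R') y = cj (app α g) y := fun y hy => by
        obtain ⟨x, hx, hxS, rfl⟩ := mem_imageAlong.1 hy
        rw [hρ a x hx, hge x hx, app_cj hg hxS]
      refine mem_autInducedBy.2 ⟨app α g, by rw [← hrange, app_apply α hg]; exact ⟨_, rfl⟩, ?_, he⟩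
      rw [mem_normalizer_iff_im_cj, ← im_congr he, im_afun]
    · intro hb
      obtain ⟨h, hh, hhn, hhe⟩ := mem_autInducedBy.1 (show (b : MulAut R') ∈ autInducedBy S' R' from hb)
      rw [← hrange] at hh
      obtain ⟨⟨g, hg⟩, rfl⟩ := hh
      have hgn : g ∈ Subgroup.normalizer (R : Set Ω) := mem_normalizer_of_cj_le hRS fun x hx => by
        rw [← hpre]
        refine mem_preimageAlong.2 ⟨cj_mem_S hg (hRS hx), ?_⟩
        rw [app_cj hg (hRS hx), app_apply α hg]
        exact cj_mem_of_normalizer hhn (app_mem_imageAlong hx hRS)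
      have hmem : nHom S R ⟨g, hg, hgn⟩ ∈ autInducedBy S R :=
        (autInducedBy_eq_range S R).ge ⟨_, rfl⟩
      refine ⟨⟨_, hAS hmem⟩, hmem, Subtype.ext (huniq _ _ fun x hx => ?_)⟩
      rw [hρ _ x hx, afun_nHom _ hx, app_cj hg (hRS hx), app_apply α hg,
        hhe _ (app_mem_imageAlong hx hRS)]
  haveI := finite_autGroup (F := F) R
  obtain ⟨T, hT⟩ := (fullyAutomized_of_fullyNormalized hS hF hR).2
  refine ⟨R', hconj, ⟨hR'S, T.mapSurjective hsurj, ?_⟩, receptive_iff.2 ⟨hR'S, ?_⟩⟩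
  · rw [← hmapS, ← hT]; rfl
  intro Q' f' N' hf' him' hN'S hN'n hN'
  obtain ⟨f, hf, he⟩ := surjective_mor hα hf'
  set Q : Subgroup Ω := preimageAlong α Q' with hQ
  have hQS : Q ≤ S := preimageAlong_le α Q'
  have himf : im Q f = R := by
    have h1 : im Q f ≤ R := im_le_iff.2 fun x hx => by
      rw [← hpre]
      refine mem_preimageAlong.2 ⟨hf.apply_mem hx, ?_⟩
      rw [← he x hx, ← him']
      exact apply_mem_im (mem_preimageAlong.1 hx).2
    refine le_antisymm h1 fun z hz => ?_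
    have hz' : app α z ∈ R' := app_mem_imageAlong hz hRS
    rw [← him', hf'.mem_im] at hz'
    obtain ⟨y, hy, hyz⟩ := hz'
    obtain ⟨x, hx, -, rfl⟩ := mem_imageAlong.1
      ((imageAlong_preimageAlong (hrange ▸ hf'.le : Q' ≤ α.range)).ge hy)
    rw [he x hx] at hyz
    have hker : (f x)⁻¹ * z ∈ K₀ := mem_kerAlong.2
      ⟨S.mul_mem (S.inv_mem (hf.apply_mem hx)) (hRS hz), by
        rw [app_mul (S.inv_mem (hf.apply_mem hx)) (hRS hz), app_inv (hf.apply_mem hx), hyz,
          inv_mul_cancel]⟩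
    have hKQ : K₀ ≤ Q := ker_le_preimageAlong Q'
    have hK : im K₀ f = K₀ := (hf.restrict_to hKQ).im_self fun x hx =>
      FusionSysNormal.stronglyClosed_invariant hcl hf (hKQ hx) hx
    have := mul_mem (apply_mem_im (f := f) hx : f x ∈ im Q f)
      (im_mono hKQ (hK.ge hker))
    rwa [mul_inv_cancel_left] at this
  set N : Subgroup Ω := preimageAlong α N' with hN
  have hNn : ∀ g ∈ N, g ∈ Subgroup.normalizer (Q : Set Ω) := fun g hg =>
    mem_normalizer_of_cj_le hQS fun x hx => by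
      obtain ⟨hgS, hg'⟩ := mem_preimageAlong.1 hg
      refine mem_preimageAlong.2 ⟨cj_mem_S hgS (hQS hx), ?_⟩
      rw [app_cj hgS (hQS hx)]
      exact cj_mem_of_normalizer (hN'n hg') (mem_preimageAlong.1 hx).2
  have hNS : N ≤ S := preimageAlong_le α N'
  -- the automorphisms of `R` induced by `N` through `f`
  let dfun : N →* MulAut R := (hf.transport himf).toMonoidHom.comp
    ((nHom S Q).comp (Subgroup.inclusion (le_inf hNS hNn : N ≤ S ⊓ Subgroup.normalizer (Q : Set Ω))))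
  set Z : Subgroup (F.autGroup R) := (autInducedBy S R).subgroupOf (F.autGroup R) ⊔ ρ.ker with hZ
  have hdA : ∀ g : N, dfun g ∈ (F.autGroup R) := fun g =>
    hf.transport_mem himf (autInducedBy_le hQS ((autInducedBy_eq_range S Q).ge ⟨_, rfl⟩))
  let D : Subgroup (F.autGroup R) := (dfun.codRestrict (F.autGroup R) hdA).range
  have hDZ : D ≤ Z := by
    rintro _ ⟨g, rfl⟩
    obtain ⟨hgS, hg'⟩ := mem_preimageAlong.1 g.2
    obtain ⟨h, hh, hhe⟩ := hN' _ hg'
    -- `ρ` of it is induced by `h`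
    have hρd : (ρ (dfun.codRestrict (F.autGroup R) hdA g) : MulAut R') ∈ autInducedBy S' R' := by
      refine mem_autInducedBy.2 ⟨h, hh, ?_, ?_⟩
      · haveI : Finite S' := hrange ▸ Finite.of_surjective α.rangeRestrict α.rangeRestrict_surjective
        refine mem_normalizer_of_cj_le hR'S fun y hy => ?_
        obtain ⟨x', hx', rfl⟩ := hf'.mem_im.1 (him'.symm ▸ hy)
        rw [← hhe x' hx', ← him']
        exact apply_mem_im (cj_mem_of_normalizer (hN'n hg') hx')
      · intro y hy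
        obtain ⟨x', hx', rfl⟩ := hf'.mem_im.1 (him'.symm ▸ hy)
        obtain ⟨x, hx, -, rfl⟩ := mem_imageAlong.1
          ((imageAlong_preimageAlong (hrange ▸ hf'.le : Q' ≤ α.range)).ge hx')
        rw [← hhe _ hx', ← app_cj hgS (hQS hx),
          he _ (cj_mem_of_normalizer (hNn _ g.2) hx), he x hx,
          hρ _ _ (himf ▸ apply_mem_im hx)]
        show app α (afun (hf.transport himf _) (f x)) = _
        rw [hf.afun_transport himf _ hx]
        show app α (f (afun (nHom S Q _) x)) = _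
        rw [afun_nHom _ hx]
        rfl
    obtain ⟨a, ha, e⟩ : ρ (dfun.codRestrict (F.autGroup R) hdA g) ∈ ((autInducedBy S R).subgroupOf (F.autGroup R)).map ρ :=
      hmapS.ge hρd
    have : a⁻¹ * dfun.codRestrict (F.autGroup R) hdA g ∈ ρ.ker := by
      rw [MonoidHom.mem_ker, map_mul, map_inv, e, inv_mul_cancel]
    have := mul_mem (Subgroup.mem_sup_left ha : a ∈ Z) (Subgroup.mem_sup_right this)
    rwa [mul_inv_cancel_left] at this
  have hsylZ : SylIn p ((autInducedBy S R).subgroupOf (F.autGroup R)) Z := by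
    rw [← hT]
    exact ⟨T.subtype (hT ▸ le_sup_left), rfl⟩
  obtain ⟨z, hz, hzD⟩ := sylIn_absorb hsylZ (K := D)
    ((hS.to_le hNS).of_surjective _ (MonoidHom.rangeRestrict_surjective _)) hDZ
  obtain ⟨s, hs, k, hk, rfl⟩ := Subgroup.mem_sup_of_normal_right.1 hz
  have hkf : Mor F Q (afun (k : MulAut R) ∘ f) :=
    hf.comp ((mem_autGroup hRS).1 k.2) fun x hx => himf ▸ apply_mem_im hx
  have himk : im Q (afun (k : MulAut R) ∘ f) = R := by rw [← hf.im_comp, himf, im_afun]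
  obtain ⟨g₁, hg₁, hag⟩ := (receptive_iff.1 (receptive_of_fullyNormalized hS hF hR)).2 Q _ N
    hkf himk hNS (fun g hg => hNn g hg) (fun g hg => by
      have h1 := hzD _ (⟨⟨g, hg⟩, rfl⟩ : dfun.codRestrict (F.autGroup R) hdA ⟨g, hg⟩ ∈ D)
      have h2 : k * dfun.codRestrict (F.autGroup R) hdA ⟨g, hg⟩ * k⁻¹ ∈ (autInducedBy S R).subgroupOf (F.autGroup R) := by
        have := mul_mem (mul_mem (inv_mem hs) h1) hs
        simpa [mul_assoc] using this
      obtain ⟨h, hh, -, hhe⟩ := mem_autInducedBy.1 h2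
      refine ⟨h, hh, fun x hx => ?_⟩
      have hfx : f x ∈ R := himf ▸ apply_mem_im hx
      have h4 := hhe (afun (k : MulAut R) (f x)) (afun_mem _ hfx)
      replace h4 : afun ((k : MulAut R) * dfun ⟨g, hg⟩ * (k : MulAut R)⁻¹) (afun (k : MulAut R) (f x)) =
        cj h (afun (k : MulAut R) (f x)) := h4
      rw [afun_mul _ _ (afun_mem _ hfx), afun_inv_apply _ hfx, afun_mul _ _ hfx] at h4
      rw [Function.comp_apply, Function.comp_apply, ← h4]
      show _ = afun (k : MulAut R) (afun (hf.transport himf _) (f x))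
      rw [hf.afun_transport himf _ hx]
      show _ = afun (k : MulAut R) (f (afun (nHom S Q _) x))
      rw [afun_nHom _ hx]
      rfl)
  obtain ⟨g₁', hg₁', hag'⟩ := morphism_mor hα.1 hg₁
  refine ⟨g₁', hg₁'.restrict_to (sup_le (fun y hy => ?_) fun y hy => ?_), fun y hy => ?_⟩
  · obtain ⟨x, hx, hxS, rfl⟩ := mem_imageAlong.1
      ((imageAlong_preimageAlong (hrange ▸ hf'.le : Q' ≤ α.range)).ge hy)
    exact mem_imageAlong.2 ⟨x, Subgroup.mem_sup_left hx, hxS, rfl⟩
  · obtain ⟨x, hx, hxS, rfl⟩ := mem_imageAlong.1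
      ((imageAlong_preimageAlong (hrange ▸ hN'S : N' ≤ α.range)).ge hy)
    exact mem_imageAlong.2 ⟨x, Subgroup.mem_sup_right hx, hxS, rfl⟩
  · obtain ⟨x, hx, hxS, rfl⟩ := mem_imageAlong.1
      ((imageAlong_preimageAlong (hrange ▸ hf'.le : Q' ≤ α.range)).ge hy)
    have hfx : f x ∈ R := himf ▸ apply_mem_im hx
    rw [hag' x (Subgroup.mem_sup_left hx), hag x hx, Function.comp_apply, ← hρ k _ hfx,
      MonoidHom.mem_ker.1 hk, Subgroup.coe_one, afun_one (app_mem_imageAlong hfx hRS), he x hx]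

end Saturation

end Cfsg.Agent.FusionMorph88
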