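import Cfsg.Agent.Lib.FusionWeakAlperin
import Cfsg.Agent.Lib.FusionFrattini88
import Cfsg.Agent.Lib.FusionSysAlperin

/-!
Puig's lemma: modulo a strongly closed subgroup `T`, every map on `P` is induced by a map on `P T`.
-/

set_option autoImplicit false

namespace Cfsg.Agent.FusionPuig

open Cfsg Cfsg.FusionSystem Cfsg.Agent.FusionSysBasic Cfsg.Agent.FusionSysSaturated
open Cfsg.Agent.FusionWeakAlperin

variable {Ω : Type*} [Group Ω] {S : Subgroup Ω} {F : FusionSystem S} {T : Subgroup Ω}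

/-- `a` and `b` agree modulo `T`. -/
def Cong (T : Subgroup Ω) (a b : Ω) : Prop := a⁻¹ * b ∈ T

theorem cong_refl (a : Ω) : Cong T a a := by simp [Cong]

theorem cong_symm {a b : Ω} (h : Cong T a b) : Cong T b a := by
  simpa [Cong] using T.inv_mem h

theorem cong_trans {a b c : Ω} (h : Cong T a b) (h' : Cong T b c) : Cong T a c := by
  have := T.mul_mem h h'
  simpa [Cong, mul_assoc] using this

theorem map_cong (hT : F.StronglyClosed T) {A : Subgroup Ω} {f : Ω → Ω} (hf : Mor F A f)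
    {a b : Ω} (ha : a ∈ A) (hb : b ∈ A) (h : Cong T a b) : Cong T (f a) (f b) := by
  show (f a)⁻¹ * f b ∈ T
  rw [← hf.map_inv ha, ← hf.map_mul (A.inv_mem ha) hb]
  exact FusionKit88.closed_apply' hT hf (A.mul_mem (A.inv_mem ha) hb) h

theorem cj_mem_closed (hT : F.StronglyClosed T) {g x : Ω} (hg : g ∈ S) (hx : x ∈ T) :
    cj g x ∈ T :=
  FusionKit88.closed_apply' hT (mor_cj (F := F) hT.1 hg) hx hx

theorem le_normalizer_closed [Finite S] (hT : F.StronglyClosed T) :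
    S ≤ Subgroup.normalizer (T : Set Ω) := fun _ hg =>
  mem_normalizer_of_cj_le hT.1 fun _ hx => cj_mem_closed hT hg hx

theorem exists_mul_of_mem_sup [Finite S] (hT : F.StronglyClosed T) {P : Subgroup Ω} (hP : P ≤ S)
    {y : Ω} (hy : y ∈ P ⊔ T) : ∃ x ∈ P, ∃ t ∈ T, y = x * t := by
  have h : y ∈ ((P ⊔ T : Subgroup Ω) : Set Ω) := hy
  rw [Subgroup.coe_mul_of_left_le_normalizer_right P T (hP.trans (le_normalizer_closed hT))] at h
  obtain ⟨x, hx, t, ht, rfl⟩ := Set.mem_mul.mp h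
  exact ⟨x, hx, t, ht, rfl⟩

/-- The image of `A ⊔ T` under a map agreeing with `R` modulo `T`. -/
theorem apply_mem_sup [Finite S] (hT : F.StronglyClosed T) {A R : Subgroup Ω} {ψ : Ω → Ω}
    (hψ : Mor F (A ⊔ T) ψ) (h : ∀ x ∈ A, ∃ r ∈ R, Cong T r (ψ x)) {y : Ω} (hy : y ∈ A ⊔ T) :
    ψ y ∈ R ⊔ T := by
  refine mor_sup_induction hψ (fun a ha => ?_) (fun t ht => ?_) hy
  · obtain ⟨r, hr, hc⟩ := h a ha
    have := (R ⊔ T).mul_mem (Subgroup.mem_sup_left hr) (Subgroup.mem_sup_right hc)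
    rwa [mul_inv_cancel_left] at this
  · exact Subgroup.mem_sup_right
      (FusionKit88.closed_apply' hT hψ (Subgroup.mem_sup_right ht) ht)

theorem im_sup_eq [Finite S] (hT : F.StronglyClosed T) {A R : Subgroup Ω} {θ ψ : Ω → Ω}
    (hψ : Mor F (A ⊔ T) ψ) (hθ : ∀ x ∈ A, θ x ∈ R ∧ Cong T (θ x) (ψ x))
    (hR : ∀ r ∈ R, ∃ x ∈ A, θ x = r) (hRS : R ≤ S) : im (A ⊔ T) ψ = R ⊔ T := by
  refine le_antisymm (im_le_iff.mpr fun y hy => apply_mem_sup hT hψ
    (fun x hx => ⟨θ x, (hθ x hx).1, (hθ x hx).2⟩) hy) ?_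
  have hTim : im T ψ = T := (hψ.restrict_to le_sup_right).im_eq_of_le hT.1
    (im_le_iff.mpr fun t ht => FusionKit88.closed_apply' hT hψ (Subgroup.mem_sup_right ht) ht)
    le_rfl
  have hTle : T ≤ im (A ⊔ T) ψ := hTim.symm.le.trans (im_mono le_sup_right)
  refine sup_le (fun r hr => ?_) hTle
  obtain ⟨x, hx, rfl⟩ := hR r hr
  have h1 : ψ x ∈ im (A ⊔ T) ψ := apply_mem_im (Subgroup.mem_sup_left hx)
  have h2 : (ψ x)⁻¹ * θ x ∈ im (A ⊔ T) ψ := hTle (cong_symm (hθ x hx).2)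
  have := (im (A ⊔ T) ψ).mul_mem h1 h2
  rwa [mul_inv_cancel_left] at this

/-- Puig's lemma. -/
theorem exists_map_mod [Finite S] {p : ℕ} [Fact p.Prime] (hS : IsPGroup p S)
    (hF : F.IsSaturated p) (hT : F.StronglyClosed T) {P : Subgroup Ω} {f : Ω → Ω}
    (hf : Mor F P f) :
    ∃ f', Mor F (P ⊔ T) f' ∧ ∀ x ∈ P, Cong T (f x) (f' x) := by
  suffices ∀ n (P : Subgroup Ω) (f : Ω → Ω), Mor F P f → Nat.card S - Nat.card P ≤ n →
      ∃ f', Mor F (P ⊔ T) f' ∧ ∀ x ∈ P, Cong T (f x) (f' x) from this _ P f hf le_rfl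
  intro n
  induction n with
  | zero =>
    intro P f hf h0
    obtain rfl : P = S := eq_of_le_of_card_ge le_rfl hf.le (by omega)
    exact ⟨f, by rwa [sup_eq_left.mpr hT.1], fun x _ => cong_refl _⟩
  | succ n IH =>
    intro P f hf hn
    by_cases hTP : T ≤ P
    · exact ⟨f, by rwa [sup_eq_left.mpr hTP], fun x _ => cong_refl _⟩
    have hlt : P < S := lt_of_le_of_ne hf.le fun e => hTP (e ▸ hT.1)
    set Q := im P f with hQ
    have hPQ : F.IsConj P Q := isConj_iff.mpr ⟨f, hf, rfl⟩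
    have hcard : Nat.card Q = Nat.card P := hf.card_im
    have hQlt : Q < S := by
      refine lt_of_le_of_ne hf.im_le fun e => hlt.ne (eq_of_le_of_card_ge le_rfl hlt.le ?_)
      rw [← hcard, e]
    obtain ⟨R, hR, hRn⟩ := exists_fullyNormalized (F := F) hf.le
    obtain ⟨θ₁, hθ₁, -, hi₁⟩ := exists_map_to_fullyNormalized hS hF hRn hR
    obtain ⟨θ₂, hθ₂, -, hi₂⟩ :=
      exists_map_to_fullyNormalized hS hF hRn (isConj_trans (isConj_symm hPQ) hR)
    have hN₁ := card_lt_normalizerIn hS hlt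
    have hN₂ := card_lt_normalizerIn hS hQlt
    have hP₁ : Nat.card (normalizerIn S P) ≤ Nat.card S := Subgroup.card_le_of_le inf_le_left
    have hP₂ : Nat.card (normalizerIn S Q) ≤ Nat.card S := Subgroup.card_le_of_le inf_le_left
    obtain ⟨ψ₁', hψ₁', hc₁⟩ := IH _ θ₁ hθ₁ (by omega)
    obtain ⟨ψ₂', hψ₂', hc₂⟩ := IH _ θ₂ hθ₂ (by omega)
    have hψ₁ := hψ₁'.restrict_to (sup_le_sup_right (le_normalizerIn hf.le) T)
    have hψ₂ := hψ₂'.restrict_to (sup_le_sup_right (le_normalizerIn hf.im_le) T)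
    have g₁ := hθ₁.restrict_to (le_normalizerIn hf.le)
    have g₂ := hθ₂.restrict_to (le_normalizerIn hf.im_le)
    obtain ⟨j, hj, hjl, -, -⟩ := g₁.exists_inv
    rw [hi₁] at hj
    have hjP : ∀ r ∈ R, j r ∈ P := fun r hr => by
      obtain ⟨x, hx, rfl⟩ := g₁.mem_im.mp (hi₁.symm ▸ hr)
      rwa [hjl x hx]
    have hm : Mor F R (θ₂ ∘ (f ∘ j)) :=
      (hj.comp hf hjP).comp g₂ fun r hr => apply_mem_im (hjP r hr)
    obtain ⟨α, hα, he⟩ := hm.exists_aut (hm.im_self fun r hr =>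
      hi₂ ▸ apply_mem_im (apply_mem_im (hjP r hr)))
    -- the map for `α`
    obtain ⟨g, hg, hgc⟩ : ∃ g, Mor F (R ⊔ T) g ∧ ∀ r ∈ R, Cong T (afun α r) (g r) := by
      by_cases hTR : T ≤ R
      · exact ⟨afun α, by rw [sup_eq_left.mpr hTR]; exact (mem_autGroup hRn.1).mp hα,
          fun r _ => cong_refl _⟩
      let M : Subgroup (MulAut R) :=
        { carrier := {m | ∀ x ∈ R, Cong T x (afun m x)}
          one_mem' := fun x hx => by rw [afun_one hx]; exact cong_refl x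
          mul_mem' := fun {a b} ha hb x hx => by
            rw [afun_mul a b hx]
            exact cong_trans (hb x hx) (ha _ (afun_mem b hx))
          inv_mem' := fun {a} ha x hx => by
            have := ha _ (afun_mem a⁻¹ hx)
            rw [afun_apply_inv a hx] at this
            exact cong_symm this }
      have hMn : ∀ a ∈ F.autGroup R, ∀ m ∈ M, m ∈ F.autGroup R → a * m * a⁻¹ ∈ M := by
        intro a ha m hm _ x hx
        have hx' := afun_mem a⁻¹ hx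
        rw [afun_mul _ _ hx, afun_mul _ _ hx']
        have := map_cong hT ((mem_autGroup hRn.1).mp ha) hx' (afun_mem m hx') (hm _ hx')
        rwa [afun_apply_inv a hx] at this
      set N := T ⊓ normalizerIn S R with hN
      have hNM : ∀ (g : Ω) (hg : g ∈ N), nHom S R ⟨g, hg.2⟩ ∈ M := by
        intro g hg x hx
        rw [afun_nHom _ hx]
        have h1 : cj x⁻¹ g * g⁻¹ ∈ T :=
          T.mul_mem (cj_mem_closed hT (S.inv_mem (hRn.1 hx)) hg.1) (T.inv_mem hg.1)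
        show x⁻¹ * cj g x ∈ T
        simpa [cj_apply, mul_assoc] using h1
      obtain ⟨β, hβ, m, hmM, -, hαe, fβ, hfβ, hfe⟩ :=
        FusionFrattini88.frattini_ext hS hF hRn M hMn inf_le_right hNM hα
      have hlt' : R < R ⊔ N := by
        have hlt2 : R < R ⊔ T := lt_of_le_of_ne le_sup_left fun e => hTR (sup_eq_left.mp e.symm)
        obtain ⟨y, hyT, hyR, hyn⟩ :=
          FusionSysAlperin.lt_normalizerIn hS (sup_le hRn.1 hT.1) hlt2
        obtain ⟨r, hr, t, ht, rfl⟩ := exists_mul_of_mem_sup hT hRn.1 hyT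
        refine lt_of_le_of_ne le_sup_left fun e => hyR (R.mul_mem hr ?_)
        have htn : t ∈ Subgroup.normalizer (R : Set Ω) := by
          have := mul_mem (inv_mem (Subgroup.le_normalizer hr)) hyn
          rwa [inv_mul_cancel_left] at this
        exact e.ge (Subgroup.mem_sup_right ⟨ht, hT.1 ht, htn⟩)
      haveI := finite_of_le (S := S) hfβ.le
      have hc' : Nat.card R < Nat.card ↥(R ⊔ N) :=
        lt_of_le_of_ne (Subgroup.card_le_of_le hlt'.le)
          fun e => hlt'.ne (eq_of_le_of_card_ge hfβ.le hlt'.le e.ge)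
      have hRP : Nat.card P = Nat.card R := isConj_card hR
      have hle : Nat.card ↥(R ⊔ N) ≤ Nat.card S := Subgroup.card_le_of_le hfβ.le
      obtain ⟨g, hg, hgc⟩ := IH (R ⊔ N) fβ hfβ (by omega)
      refine ⟨g, hg.restrict_to (sup_le_sup_right le_sup_left T), fun r hr => ?_⟩
      refine cong_trans (cong_symm ?_) (hgc r (Subgroup.mem_sup_left hr))
      rw [hfe r hr, hαe, afun_mul _ _ hr]
      exact map_cong hT ((mem_autGroup hRn.1).mp hβ) hr (afun_mem m hr) (hmM r hr)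
    -- assemble
    have hθ₁P : ∀ x ∈ P, θ₁ x ∈ R ∧ Cong T (θ₁ x) (ψ₁' x) := fun x hx =>
      ⟨hi₁ ▸ apply_mem_im hx, hc₁ x (le_normalizerIn hf.le hx)⟩
    have hθ₂Q : ∀ x ∈ Q, θ₂ x ∈ R ∧ Cong T (θ₂ x) (ψ₂' x) := fun x hx =>
      ⟨hi₂ ▸ apply_mem_im hx, hc₂ x (le_normalizerIn hf.im_le hx)⟩
    obtain ⟨k, hk, hkl, -, -⟩ := hψ₂.exists_inv
    rw [im_sup_eq hT hψ₂ hθ₂Q (fun r hr => g₂.mem_im.mp (hi₂.symm ▸ hr)) hRn.1] at hk
    have hgm : ∀ y ∈ R ⊔ T, g y ∈ R ⊔ T := fun y hy =>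
      apply_mem_sup hT hg (fun r hr => ⟨_, afun_mem α hr, hgc r hr⟩) hy
    have h1m : ∀ y ∈ P ⊔ T, ψ₁' y ∈ R ⊔ T := fun y hy =>
      apply_mem_sup hT hψ₁ (fun x hx => ⟨_, (hθ₁P x hx).1, (hθ₁P x hx).2⟩) hy
    refine ⟨k ∘ (g ∘ ψ₁'), (hψ₁.comp hg h1m).comp hk fun y hy => hgm _ (h1m y hy), fun x hx => ?_⟩
    have hx' : x ∈ P ⊔ T := Subgroup.mem_sup_left hx
    have hfx : f x ∈ Q := apply_mem_im hx
    have hrR := (hθ₁P x hx).1
    have e1 : Cong T (g (θ₁ x)) (g (ψ₁' x)) :=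
      map_cong hT hg (Subgroup.mem_sup_left hrR) (h1m x hx') (hθ₁P x hx).2
    have e2 : Cong T (ψ₂' (f x)) (g (ψ₁' x)) := by
      refine cong_trans ?_ e1
      refine cong_trans (cong_symm (hθ₂Q _ hfx).2) ?_
      have := hgc _ hrR
      rw [he _ hrR] at this
      simpa [hjl x hx] using this
    have h2m : ψ₂' (f x) ∈ R ⊔ T :=
      apply_mem_sup hT hψ₂ (fun y hy => ⟨_, (hθ₂Q y hy).1, (hθ₂Q y hy).2⟩)
        (Subgroup.mem_sup_left hfx)
    have e3 := map_cong hT hk h2m (hgm _ (h1m x hx')) e2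
    rw [hkl _ (Subgroup.mem_sup_left hfx)] at e3
    exact e3

end Cfsg.Agent.FusionPuig
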