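import Mathlib
import Cfsg.Agent.S5132
import Cfsg.Agent.S5134
import Cfsg.Agent.Lib.FusionSysChain
import Cfsg.Agent.Lib.FusionMorph88

/-!
Solvable fusion systems: the criterion by chains of strongly closed subgroups, behaviour under
factor systems and normal subsystems, and constrainedness.
-/

set_option autoImplicit false

namespace Cfsg.Agent.FusionSolvable88

open scoped commutatorElement
open Cfsg Cfsg.FusionSystem Cfsg.Agent.FusionSysBasic Cfsg.Agent.FusionSysSaturated
  Cfsg.Agent.FusionSysNormal Cfsg.Agent.FusionSysChain Cfsg.Agent.FusionMorph88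

variable {Ω Ω' : Type*} [Group Ω] [Group Ω'] {S : Subgroup Ω} {S' : Subgroup Ω'}
  {F : FusionSystem S} {D : FusionSystem S'} {θ : S →* Ω'}

/-- A chain of strongly closed subgroups with abelian quotients from `A` to `B`. -/
def Chain (F : FusionSystem S) (A B : Subgroup Ω) : Prop :=
  ∃ (n : ℕ) (X : ℕ → Subgroup Ω), X 0 = A ∧ X n = B ∧ (∀ i < n, X i ≤ X (i + 1)) ∧
    (∀ i ≤ n, F.StronglyClosed (X i)) ∧ ∀ i < n, ⁅X (i + 1), X (i + 1)⁆ ≤ X i

theorem Chain.refl {A : Subgroup Ω} (hA : F.StronglyClosed A) : Chain F A A :=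
  ⟨0, fun _ => A, rfl, rfl, fun _ h => absurd h (Nat.not_lt_zero _), fun _ _ => hA,
    fun _ h => absurd h (Nat.not_lt_zero _)⟩

theorem Chain.snoc {A B C : Subgroup Ω} (h : Chain F A B) (hC : F.StronglyClosed C) (hBC : B ≤ C)
    (hab : ⁅C, C⁆ ≤ B) : Chain F A C := by
  obtain ⟨n, X, h0, hn, hmono, hsc, hcomm⟩ := h
  refine ⟨n + 1, fun i => if i ≤ n then X i else C, by simp [h0], by simp, fun i hi => ?_,
    fun i hi => ?_, fun i hi => ?_⟩
  · have hi' : i ≤ n := by omega
    by_cases h : i + 1 ≤ n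
    · simp only [hi', h, if_true]; exact hmono i (by omega)
    · have e : i = n := by omega
      subst e
      simp only [le_refl, h, if_true, if_false, hn]; exact hBC
  · by_cases h : i ≤ n
    · simp only [h, if_true]; exact hsc i h
    · simp only [h, if_false]; exact hC
  · have hi' : i ≤ n := by omega
    by_cases h : i + 1 ≤ n
    · simp only [hi', h, if_true]; exact hcomm i (by omega)
    · have e : i = n := by omega
      subst e
      simp only [le_refl, h, if_true, if_false, hn]; exact hab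

theorem Chain.trans {A B C : Subgroup Ω} (h : Chain F A B) (h' : Chain F B C) : Chain F A C := by
  obtain ⟨m, Y, h0, hm, hmono, hsc, hcomm⟩ := h'
  suffices ∀ i ≤ m, Chain F A (Y i) from hm ▸ this m le_rfl
  intro i
  induction i with
  | zero => exact fun _ => h0 ▸ h
  | succ i ih =>
    exact fun hi => (ih (by omega)).snoc (hsc _ hi) (hmono i (by omega)) (hcomm i (by omega))

theorem stronglyClosed_self (F : FusionSystem S) : F.StronglyClosed S :=
  stronglyClosed_iff.2 ⟨le_rfl, fun _ _ _ hf _ hx => hf.apply_mem hx⟩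

theorem stronglyClosed_inf {A B : Subgroup Ω} (hA : F.StronglyClosed A) (hB : F.StronglyClosed B) :
    F.StronglyClosed (A ⊓ B) :=
  stronglyClosed_iff.2 ⟨inf_le_left.trans hA.1, fun _ _ hP hf _ hx =>
    ⟨stronglyClosed_invariant hA hf hx (hP hx).1, stronglyClosed_invariant hB hf hx (hP hx).2⟩⟩

theorem imageAlong_mono {P Q : Subgroup Ω} (h : P ≤ Q) : imageAlong θ P ≤ imageAlong θ Q :=
  Subgroup.map_mono (fun _ ha => h ha)

theorem stronglyClosed_image (hθ : F.IsSurjectiveMorphism D θ) {A : Subgroup Ω}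
    (hA : F.StronglyClosed A) : D.StronglyClosed (imageAlong θ A) := by
  refine stronglyClosed_iff.2 ⟨hθ.2.1 ▸ imageAlong_le_range A, fun P' f' hP' hf' y hy => ?_⟩
  obtain ⟨f, hf, he⟩ := surjective_mor hθ hf'
  obtain ⟨x, hx, hxS, rfl⟩ := mem_imageAlong.1 (hP' hy)
  have hxp : x ∈ preimageAlong θ P' := mem_preimageAlong.2 ⟨hxS, hy⟩
  rw [he x hxp]
  exact app_mem_imageAlong (stronglyClosed_invariant hA hf hxp hx) hA.1

theorem stronglyClosed_preimage (hθ : F.IsMorphism D θ) {A' : Subgroup Ω'}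
    (hA : D.StronglyClosed A') : F.StronglyClosed (preimageAlong θ A') := by
  refine stronglyClosed_iff.2 ⟨preimageAlong_le θ A', fun P f hP hf x hx => ?_⟩
  obtain ⟨f', hf', he⟩ := morphism_mor hθ hf
  refine mem_preimageAlong.2 ⟨hf.apply_mem hx, ?_⟩
  rw [← he x hx]
  exact stronglyClosed_invariant hA hf' (app_mem_imageAlong hx hf.le)
    (mem_preimageAlong.1 (hP hx)).2

theorem imageAlong_commutator {A B : Subgroup Ω} (hA : A ≤ S) (h : ⁅A, A⁆ ≤ B) :
    ⁅imageAlong θ A, imageAlong θ A⁆ ≤ imageAlong θ B := by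
  refine Subgroup.commutator_le.2 ?_
  rintro _ ⟨a, ha, rfl⟩ _ ⟨b, hb, rfl⟩
  refine ⟨⁅a, b⁆, ?_, map_commutatorElement _ _ _⟩
  exact h (Subgroup.commutator_mem_commutator ha hb)

theorem Chain.image (hθ : F.IsSurjectiveMorphism D θ) {A B : Subgroup Ω} (h : Chain F A B) :
    Chain D (imageAlong θ A) (imageAlong θ B) := by
  obtain ⟨n, X, h0, hn, hmono, hsc, hcomm⟩ := h
  exact ⟨n, fun i => imageAlong θ (X i), by simp [h0], by simp [hn],
    fun i hi => imageAlong_mono (hmono i hi), fun i hi => stronglyClosed_image hθ (hsc i hi),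
    fun i hi => imageAlong_commutator (hsc _ hi).1 (hcomm i hi)⟩

theorem commutator_preimage {A' B' : Subgroup Ω'} (h : ⁅A', A'⁆ ≤ B') :
    ⁅preimageAlong θ A', preimageAlong θ A'⁆ ≤ preimageAlong θ B' := by
  refine Subgroup.commutator_le.2 ?_
  rintro _ ⟨a, ha, rfl⟩ _ ⟨b, hb, rfl⟩
  refine ⟨⁅a, b⁆, ?_, map_commutatorElement _ _ _⟩
  show θ ⁅a, b⁆ ∈ B'
  rw [map_commutatorElement]
  exact h (Subgroup.commutator_mem_commutator ha hb)

theorem Chain.preimage (hθ : F.IsMorphism D θ) {A' B' : Subgroup Ω'} (h : Chain D A' B') :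
    Chain F (preimageAlong θ A') (preimageAlong θ B') := by
  obtain ⟨n, X, h0, hn, hmono, hsc, hcomm⟩ := h
  exact ⟨n, fun i => preimageAlong θ (X i), by simp [h0], by simp [hn],
    fun i hi => preimageAlong_mono (hmono i hi),
    fun i hi => stronglyClosed_preimage hθ (hsc i hi),
    fun i hi => commutator_preimage (hcomm i hi)⟩

theorem chain_fin {A B : Subgroup Ω} : Chain F A B ↔ ∃ (n : ℕ) (T : Fin (n + 1) → Subgroup Ω),
    T 0 = A ∧ T (Fin.last n) = B ∧ Monotone T ∧ (∀ i, F.StronglyClosed (T i)) ∧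
      ∀ i : Fin n, ⁅T i.succ, T i.succ⁆ ≤ T (Fin.castSucc i) := by
  constructor
  · rintro ⟨n, X, h0, hn, hmono, hsc, hcomm⟩
    exact ⟨n, fun i => X i, h0, hn, Fin.monotone_iff_le_succ.2 fun i => hmono i i.2,
      fun i => hsc i (Nat.lt_succ_iff.1 i.2), fun i => hcomm i i.2⟩
  · rintro ⟨n, T, h0, hn, hmono, hsc, hcomm⟩
    refine ⟨n, fun i => if h : i < n + 1 then T ⟨i, h⟩ else B, by simp [← h0], ?_, fun i hi => ?_,
      fun i hi => ?_, fun i hi => ?_⟩
    · simp [← hn, Fin.last]
    · simp only [show i < n + 1 by omega, show i + 1 < n + 1 by omega, dite_true]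
      exact hmono (Nat.le_succ i)
    · simp only [show i < n + 1 by omega, dite_true]; exact hsc _
    · simp only [show i < n + 1 by omega, show i + 1 < n + 1 by omega, dite_true]
      exact hcomm ⟨i, hi⟩

variable [Finite S] {p : ℕ} [Fact p.Prime]

theorem solvable_of_chain (hS : IsPGroup p S) (hF : F.IsSaturated p) (h : Chain F ⊥ S) :
    F.IsSolvableSystem := by
  intro R hR hne inst E hE hcore
  obtain ⟨n, X, h0, hn, hmono, hsc, hcomm⟩ := h
  have hθ := S5134.result p hS F hF R hR _ E hE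
  have hker := factor_stronglyClosed hE
  have hex : ∃ i, ¬ X i ≤ R := ⟨n, fun h => hne (le_antisymm hR.1 (hn ▸ h))⟩
  classical
  have hi := Nat.find_spec hex
  have hin : Nat.find hex ≤ n := Nat.find_le fun h => hne (le_antisymm hR.1 (hn ▸ h))
  obtain ⟨j, hj⟩ : ∃ j, Nat.find hex = j + 1 := Nat.exists_eq_succ_of_ne_zero fun e => by
    rw [e, h0] at hi; exact hi bot_le
  rw [hj] at hi hin
  have hjR : X j ≤ R := not_not.1 (Nat.find_min hex (by omega))
  set A := imageAlong (QuotientGroup.mk' (R.subgroupOf S)) (X (j + 1)) with hA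
  have hAne : A ≠ ⊥ := by
    intro e
    refine hi fun x hx => ?_
    rw [hker, mem_kerAlong]
    refine ⟨(hsc _ hin).1 hx, ?_⟩
    have h1 : app (QuotientGroup.mk' (R.subgroupOf S)) x ∈ A :=
      app_mem_imageAlong hx (hsc _ hin).1
    rwa [e, Subgroup.mem_bot] at h1
  have hAab : ⁅A, A⁆ ≤ ⊥ := by
    refine (imageAlong_commutator (hsc _ hin).1 (hcomm j (by omega))).trans ?_
    intro y hy
    obtain ⟨x, hx, -, rfl⟩ := mem_imageAlong.1 hy
    exact Subgroup.mem_bot.2 (mem_kerAlong.1 (hker ▸ hjR hx)).2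
  have hAc : IsMulCommutative A := IsMulCommutative.of_comm fun a b => Subtype.ext
    (commutatorElement_eq_one_iff_mul_comm.1
      (Subgroup.mem_bot.1 (hAab (Subgroup.commutator_mem_commutator a.2 b.2))))
  haveI : Finite (⊤ : Subgroup (S ⧸ R.subgroupOf S)) := inferInstance
  have hEsat := saturated_of_surjective hS hF hθ
  have hAn := isNormal_of_abelian ((hS.to_quotient _).to_subgroup ⊤) hEsat hAc
    (stronglyClosed_image hθ (hsc _ hin))
  exact hAne (le_bot_iff.1 (hcore ▸ le_core hAn))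

theorem chain_of_solvable (hS : IsPGroup p S) (hF : F.IsSaturated p) (h : F.IsSolvableSystem) :
    Chain F ⊥ S := by
  suffices ∀ k, ∀ R, F.StronglyClosed R → Nat.card S - Nat.card R = k → Chain F R S from
    this _ ⊥ (stronglyClosed_of_normal normal_bot) rfl
  intro k
  induction k using Nat.strong_induction_on with
  | _ k ih =>
    intro R hR hk
    by_cases hne : R = S
    · exact hne ▸ Chain.refl (stronglyClosed_self F)
    haveI hRn : (R.subgroupOf S).Normal :=
      ⟨fun n hn g => cj_mem_of_stronglyClosed hR g.2 hn⟩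
    let E := S5132.factorSys F R hR
    have hE : F.IsFactorSystem R (QuotientGroup.mk' (R.subgroupOf S)) E := ⟨hR.1, fun s => by
      rw [← MonoidHom.mem_ker, QuotientGroup.ker_mk', Subgroup.mem_subgroupOf],
      QuotientGroup.range_mk' _, fun P' φ' => Iff.rfl⟩
    have hker := factor_stronglyClosed hE
    have hθ := S5134.result p hS F hF R hR _ E hE
    obtain ⟨Z, hZne, hZab, hZn⟩ := exists_abelian_normal ((hS.to_quotient _).to_subgroup ⊤)
      (core_isNormal (F := E)) (h R hR hne E hE)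
    set R' := preimageAlong (QuotientGroup.mk' (R.subgroupOf S)) Z with hR'
    have hRR' : R ≤ R' := hker.le.trans (ker_le_preimageAlong Z)
    have hR'sc : F.StronglyClosed R' := stronglyClosed_preimage hθ.1 (stronglyClosed_of_normal hZn)
    have hab : ⁅R', R'⁆ ≤ R := by
      refine (commutator_preimage (B' := ⊥) ?_).trans ?_
      · exact Subgroup.commutator_le.2 fun a ha b hb => Subgroup.mem_bot.2
          (commutatorElement_eq_one_iff_mul_comm.2
            (congrArg Subtype.val (isMulCommutative_iff.1 hZab ⟨a, ha⟩ ⟨b, hb⟩)))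
      · intro x hx
        rw [hker, mem_kerAlong]
        obtain ⟨hxS, hx1⟩ := mem_preimageAlong.1 hx
        exact ⟨hxS, Subgroup.mem_bot.1 hx1⟩
    have hlt : R < R' := by
      refine lt_of_le_of_ne hRR' fun e => hZne ((Subgroup.eq_bot_iff_forall _).2 fun y hy => ?_)
      have hy' : y ∈ imageAlong (QuotientGroup.mk' (R.subgroupOf S)) R' := by
        rw [hR', imageAlong_preimageAlong (by rw [QuotientGroup.range_mk']; exact le_top)]
        exact hy
      obtain ⟨x, hx, -, rfl⟩ := mem_imageAlong.1 hy'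
      rw [← e, hker] at hx
      exact (mem_kerAlong.1 hx).2
    haveI := finite_of_le hR'sc.1
    have hcard : Nat.card R < Nat.card R' := by
      refine lt_of_le_of_ne (Subgroup.card_le_of_le hRR') fun e => hlt.ne ?_
      exact eq_of_le_of_card_ge hR'sc.1 hRR' e.ge
    have hcard' : Nat.card R' ≤ Nat.card S := Subgroup.card_le_of_le hR'sc.1
    exact ((Chain.refl hR).snoc hR'sc hRR' hab).trans (ih _ (by omega) R' hR'sc rfl)

/-- A saturated system is solvable iff it has a chain of strongly closed subgroups with abelian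
quotients. -/
theorem solvable_iff_chain (hS : IsPGroup p S) (hF : F.IsSaturated p) :
    F.IsSolvableSystem ↔ Chain F ⊥ S :=
  ⟨chain_of_solvable hS hF, solvable_of_chain hS hF⟩

/-- A system with a chain is constrained. -/
theorem constrained_of_chain (hS : IsPGroup p S) (hF : F.IsSaturated p) (h : Chain F ⊥ S) :
    F.IsConstrained p := by
  set R := F.core with hR
  have hRn : F.IsNormal R := core_isNormal
  have hRcl := stronglyClosed_of_normal hRn
  refine ⟨hF, R, hRn, hRn.1, fun Q hQ => ?_⟩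
  obtain ⟨f, hf, rfl⟩ := FusionSysBasic.isConj_iff.1 hQ
  rw [hf.im_self fun x hx => stronglyClosed_invariant hRcl hf hx hx]
  set C := centralizerIn S R with hC
  have hCcl : F.StronglyClosed C := by
    refine stronglyClosed_iff.2 ⟨inf_le_left, fun P f hP hf x hx => ?_⟩
    obtain ⟨f', hf', hag, him⟩ := (isNormal_iff.1 hRn).2 P f hf
    refine mem_centralizerIn.2 ⟨hf.apply_mem hx, fun y hy => ?_⟩
    obtain ⟨r, hr, rfl⟩ := (hf'.restrict_to le_sup_right).mem_im.1 (him.ge hy)
    rw [← hag x hx, ← hf'.map_cj (Subgroup.mem_sup_left hx) (Subgroup.mem_sup_right hr),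
      (mem_centralizerIn.1 (hP hx)).2 r hr]
  by_contra hle
  obtain ⟨n, X, h0, hn, hmono, hsc, hcomm⟩ := h
  have hex : ∃ i, ¬ C ⊓ X i ≤ R := ⟨n, fun h' => hle (by rwa [hn, inf_eq_left.2 hCcl.1] at h')⟩
  classical
  have hi := Nat.find_spec hex
  have hin : Nat.find hex ≤ n :=
    Nat.find_le fun h' => hle (by rwa [hn, inf_eq_left.2 hCcl.1] at h')
  obtain ⟨j, hj⟩ : ∃ j, Nat.find hex = j + 1 := Nat.exists_eq_succ_of_ne_zero fun e => by
    rw [e, h0, inf_bot_eq] at hi; exact hi bot_le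
  rw [hj] at hi hin
  have hjR : C ⊓ X j ≤ R := not_not.1 (Nat.find_min hex (by omega))
  set A := C ⊓ X (j + 1) with hA
  have hAcl := stronglyClosed_inf hCcl (hsc _ hin)
  have hcomRA : ∀ r ∈ R, ∀ a ∈ A, a * r = r * a := fun r hr a ha => by
    have := (mem_centralizerIn.1 ha.1).2 r hr
    rwa [cj_apply, mul_inv_eq_iff_eq_mul] at this
  have hmul : ∀ x ∈ R ⊔ A, ∃ r ∈ R, ∃ a ∈ A, r * a = x := by
    intro x hx
    rw [← SetLike.mem_coe, Subgroup.coe_mul_of_right_le_normalizer_left _ _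
      (hAcl.1.trans (le_normalizer_of_normal hRn))] at hx
    obtain ⟨r, hr, a, ha, e⟩ := Set.mem_mul.1 hx
    exact ⟨r, hr, a, ha, e⟩
  set Q := R ⊔ A with hQdef
  have hQcl : F.StronglyClosed Q := by
    refine stronglyClosed_iff.2 ⟨sup_le hRn.1 hAcl.1, fun P f hP hf x hx => ?_⟩
    obtain ⟨f', hf', hag, him⟩ := (isNormal_iff.1 hRn).2 P f hf
    obtain ⟨r, hr, a, ha, e⟩ := hmul x (hP hx)
    have hrm : r ∈ P ⊔ R := Subgroup.mem_sup_right hr
    have ham : a ∈ P ⊔ R := by
      have := (P ⊔ R).mul_mem ((P ⊔ R).inv_mem hrm) (Subgroup.mem_sup_left hx)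
      rwa [← e, inv_mul_cancel_left] at this
    rw [← hag x hx, ← e, hf'.map_mul hrm ham]
    exact Q.mul_mem (Subgroup.mem_sup_left (him.le (apply_mem_im hr)))
      (Subgroup.mem_sup_right (stronglyClosed_invariant hAcl hf' ham ha))
  obtain ⟨m, Y, hY0, hYm, hYmono, hYn, hYc⟩ := exists_chain_of_normal hS hRn
  refine hi ((le_sup_right : A ≤ Q).trans (le_core ?_))
  refine isNormal_of_chain hS hF (n := m + 1) (fun i => if i ≤ m then Y i else Q)
    (by simp [hY0]) (by simp [hQdef]) hQcl (fun i hi => ?_) (fun i hi => ?_) (fun i hi => ?_)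
  · have hi' : i ≤ m := by omega
    by_cases h : i + 1 ≤ m
    · simp only [hi', h, if_true]; exact hYmono (Nat.le_succ i)
    · have e : i = m := by omega
      subst e
      simp only [le_refl, h, if_true, if_false, hYm]; exact le_sup_left
  · by_cases h : i + 1 ≤ m
    · simp only [h, if_true]; exact stronglyClosed_of_normal (hYn _)
    · simp only [h, if_false]; exact hQcl
  · have hi' : i ≤ m := by omega
    by_cases h : i + 1 ≤ m
    · simp only [hi', h, if_true]
      refine Subgroup.commutator_le.2 fun x hx y hy => ?_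
      obtain ⟨r, hr, a, ha, rfl⟩ := hmul x hx
      have hyR : y ∈ R := hYm ▸ (monotone_le hYmono h hy)
      have e : ⁅r * a, y⁆ = ⁅r, y⁆ := by
        simp only [commutatorElement_def, mul_inv_rev]
        rw [show r * a * y * (a⁻¹ * r⁻¹) = r * (a * y * a⁻¹) * r⁻¹ by group,
          hcomRA y hyR a ha, mul_inv_cancel_right]
      rw [e]
      exact hYc i (Subgroup.commutator_mem_commutator hr hy)
    · have e : i = m := by omega
      subst e
      simp only [le_refl, h, if_true, if_false, hYm]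
      refine Subgroup.commutator_le.2 fun x hx y hy => ?_
      obtain ⟨r, hr, a, ha, rfl⟩ := hmul x hx
      obtain ⟨r', hr', a', ha', rfl⟩ := hmul y hy
      have e1 : ⁅r * a, r' * a'⁆ = r * (r' * ⁅a, a'⁆) * r⁻¹ * r'⁻¹ := by
        simp only [commutatorElement_def, mul_inv_rev]
        have c1 := hcomRA r' hr' a ha
        have c2 := hcomRA r⁻¹ (R.inv_mem hr) a'⁻¹ (A.inv_mem ha')
        have c3 := hcomRA r⁻¹ (R.inv_mem hr) a⁻¹ (A.inv_mem ha)
        calc r * a * (r' * a') * (a⁻¹ * r⁻¹) * (a'⁻¹ * r'⁻¹)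
            = r * (a * r') * a' * a⁻¹ * (r⁻¹ * a'⁻¹) * r'⁻¹ := by group
          _ = r * (r' * a) * a' * a⁻¹ * (a'⁻¹ * r⁻¹) * r'⁻¹ := by rw [c1, c2]
          _ = _ := by group
      rw [e1]
      have hc' : ⁅a, a'⁆ ∈ R := hjR ⟨Subgroup.commutator_le.2
        (fun u hu v hv => C.mul_mem (C.mul_mem (C.mul_mem hu hv) (C.inv_mem hu)) (C.inv_mem hv))
        (Subgroup.commutator_mem_commutator ha.1 ha'.1),
        hcomm j (by omega) (Subgroup.commutator_mem_commutator ha.2 ha'.2)⟩
      exact R.mul_mem (R.mul_mem (R.mul_mem hr (R.mul_mem hr' hc')) (R.inv_mem hr)) (R.inv_mem hr')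
where
  monotone_le {Y : ℕ → Subgroup Ω} (hY : Monotone Y) {i m : ℕ} (h : i ≤ m) {y : Ω} (hy : y ∈ Y i) :
      y ∈ Y m := hY h hy

/-- Solvability and normal subsystems. -/
theorem solvable_iff_of_normal (hS : IsPGroup p S) (hF : F.IsSaturated p) {T : Subgroup Ω}
    {E : FusionSystem T} (hE : E.IsNormalIn F p) (hD : F.IsFactorSystem T θ D) :
    F.IsSolvableSystem ↔ (E.IsSolvableSystem ∧ D.IsSolvableSystem) := by
  obtain ⟨⟨hEsat, -, hsub, hTcl, hinv, hfrat⟩, -⟩ := hE
  haveI := finite_of_le hTcl.1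
  have hrange := hD.2.2.1
  haveI : Finite S' := hrange ▸ Finite.of_surjective θ.rangeRestrict θ.rangeRestrict_surjective
  have hT : IsPGroup p T := hS.to_le hTcl.1
  have hS' : IsPGroup p S' := hrange ▸ hS.of_surjective θ.rangeRestrict θ.rangeRestrict_surjective
  have hθ := S5134.result p hS F hF T hTcl θ D hD
  have hDsat := saturated_of_surjective hS hF hθ
  have hker := factor_stronglyClosed hD
  rw [solvable_iff_chain hS hF, solvable_iff_chain hT hEsat, solvable_iff_chain hS' hDsat]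
  constructor
  · intro h
    constructor
    · obtain ⟨n, X, h0, hn, hmono, hsc, hcomm⟩ := h
      refine ⟨n, fun i => T ⊓ X i, by simp [h0], by simp [hn, hTcl.1],
        fun i hi => inf_le_inf_left _ (hmono i hi), fun i hi => ?_, fun i hi => ?_⟩
      · refine stronglyClosed_iff.2 ⟨inf_le_left, fun P f hP hf x hx =>
          ⟨hf.apply_mem hx, ?_⟩⟩
        obtain ⟨φ, hφ, he⟩ := hf
        exact stronglyClosed_invariant (hsc i hi) ⟨φ, hsub P hφ, he⟩ hx (hP hx).2
      · refine le_inf ?_ ?_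
        · exact Subgroup.commutator_le.2 fun a ha b hb =>
            T.mul_mem (T.mul_mem (T.mul_mem ha.1 hb.1) (T.inv_mem ha.1)) (T.inv_mem hb.1)
        · exact (Subgroup.commutator_mono inf_le_right inf_le_right).trans (hcomm i hi)
    · have h' := h.image hθ
      have e0 : imageAlong θ (⊥ : Subgroup Ω) = ⊥ := by
        refine (Subgroup.eq_bot_iff_forall _).2 fun y hy => ?_
        obtain ⟨x, hx, -, rfl⟩ := mem_imageAlong.1 hy
        rw [Subgroup.mem_bot.1 hx, app_one]
      have e1 : imageAlong θ S = S' := by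
        rw [imageAlong, Subgroup.subgroupOf_self, ← MonoidHom.range_eq_map, hrange]
      rwa [e0, e1] at h'
  · rintro ⟨hcE, hcD⟩
    have h2 := hcD.preimage hθ.1
    have e1 : preimageAlong θ S' = S :=
      le_antisymm (preimageAlong_le θ S') fun x hx =>
        mem_preimageAlong.2 ⟨hx, by rw [app_apply θ hx, ← hrange]; exact ⟨_, rfl⟩⟩
    have e0 : preimageAlong θ (⊥ : Subgroup Ω') = T := by
      ext x
      rw [mem_preimageAlong, hker, mem_kerAlong, Subgroup.mem_bot]
    rw [e0, e1] at h2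
    refine Chain.trans ?_ h2
    obtain ⟨n, X, h0, hn, hmono, hsc, hcomm⟩ := hcE
    let Y : ℕ → Subgroup Ω := fun i =>
      { carrier := {y | y ∈ T ∧ ∀ α ∈ F.autGroup T, afun α y ∈ X i}
        one_mem' := ⟨T.one_mem, fun α _ => by
          rw [afun_apply α T.one_mem]
          have : α ⟨1, T.one_mem⟩ = 1 := map_one α
          rw [this]; exact one_mem _⟩
        mul_mem' := fun {a b} ha hb => ⟨T.mul_mem ha.1 hb.1, fun α hα => by
          rw [afun_map_mul α ha.1 hb.1]; exact mul_mem (ha.2 α hα) (hb.2 α hα)⟩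
        inv_mem' := fun {a} ha => ⟨T.inv_mem ha.1, fun α hα => by
          rw [((mem_autGroup hTcl.1).1 hα).map_inv ha.1]; exact inv_mem (ha.2 α hα)⟩ }
    refine ⟨n, Y, ?_, ?_, fun i hi y hy => ⟨hy.1, fun α hα => hmono i hi (hy.2 α hα)⟩,
      fun i hi => ?_, fun i hi => ?_⟩
    · refine (Subgroup.eq_bot_iff_forall _).2 fun y hy => ?_
      have := hy.2 1 (one_mem _)
      rwa [afun_one hy.1, h0, Subgroup.mem_bot] at this
    · refine le_antisymm (fun y hy => hy.1) fun y hy => ⟨hy, fun α _ => ?_⟩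
      rw [hn]; exact afun_mem α hy
    · refine stronglyClosed_iff.2 ⟨fun y hy => hTcl.1 hy.1, fun P f hP hf x hx => ?_⟩
      have hPT : P ≤ T := fun y hy => (hP hy).1
      obtain ⟨φ, hφ, he⟩ := hf
      obtain ⟨α, hα, φ₀, hφ₀, hfr⟩ := hfrat P hPT φ hφ
      have h0T : φ₀ ⟨x, hx⟩ ∈ T := (E.le_of_mem hφ₀).2 ⟨x, hx⟩
      have hfx : f x = afun α (φ₀ ⟨x, hx⟩) := by
        rw [← he ⟨x, hx⟩, hfr ⟨x, hx⟩ h0T, afun_apply α h0T]
      refine ⟨hfx ▸ afun_mem α h0T, fun β hβ => ?_⟩
      rw [hfx, ← afun_mul β α h0T]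
      obtain ⟨χ, hχ, hce⟩ := hinv P hPT φ₀ hφ₀ (β * α) (mul_mem hβ hα)
      have hm : ((β * α) ⟨x, hPT hx⟩ : Ω) ∈ (P.subgroupOf T).map (T.subtype.comp (β * α).toMonoidHom) :=
        ⟨⟨x, hPT hx⟩, hx, rfl⟩
      rw [afun_apply _ h0T, ← hce ⟨x, hx⟩ h0T hm, ← toFun_apply χ hm]
      refine stronglyClosed_invariant (hsc i hi) (mor_toFun hχ) hm ?_
      rw [← afun_apply (β * α) (hPT hx)]
      exact (hP hx).2 _ (mul_mem hβ hα)
    · refine Subgroup.commutator_le.2 fun a ha b hb => ⟨T.mul_mem (T.mul_mem (T.mul_mem ha.1 hb.1) (T.inv_mem ha.1)) (T.inv_mem hb.1), fun α hα => ?_⟩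
      have hm := (mem_autGroup hTcl.1).1 hα
      have hab : a * b ∈ T := T.mul_mem ha.1 hb.1
      rw [commutatorElement_def, afun_map_mul α (T.mul_mem hab (T.inv_mem ha.1)) (T.inv_mem hb.1),
        afun_map_mul α hab (T.inv_mem ha.1), afun_map_mul α ha.1 hb.1, hm.map_inv ha.1, hm.map_inv hb.1]
      exact hcomm i hi (Subgroup.commutator_mem_commutator (ha.2 α hα) (hb.2 α hα))

end Cfsg.Agent.FusionSolvable88
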