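import Mathlib
import Cfsg.Prelude.Def_PLocal
import Cfsg.Prelude.Def_Local
import Cfsg.Agent.Lib.QuadraticMain
import Cfsg.Agent.Lib.QuadraticQd
import Cfsg.Agent.Lib.GlaubermanStable
import Cfsg.Agent.Lib.HallCore

/-! Stability on all normal `p`-subgroups for section-free groups. -/

set_option autoImplicit false

open scoped MatrixGroups

namespace Cfsg.Agent.QuadraticFree

open Cfsg QuadraticMain

universe u

variable {p : ℕ} [Fact p.Prime]

theorem isPStableOn_all_of_qd_free {G : Type u} [Group G] [Finite G] (hp : p ≠ 2)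
    (hfree : ¬ HasSection G (qd p)) (P : Subgroup G) [P.Normal] (hP : IsPGroup p P) :
    IsPStableOn p P :=
  GlaubermanStable.isPStableOn_of_elementary (p := p)
    (fun (Y : Type u) _ => ¬ HasSection Y (qd p))
    (fun _ _ _ N _ _ h hN =>
      h (QuadraticQd.hasSection_lift (QuotientGroup.mk'_surjective N) hN))
    (fun _ _ _ h V _ hV => QuadraticQd.isPStableOn_of_qd_free hp h V hV) G hfree P hP

theorem isPStableOn_all_of_sl2_free {G : Type u} [Group G] [Finite G] (hp : p ≠ 2)
    (hfree : ¬ HasSection G SL(2, ZMod p)) (P : Subgroup G) [P.Normal] (hP : IsPGroup p P) :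
    IsPStableOn p P :=
  GlaubermanStable.isPStableOn_of_elementary (p := p)
    (fun (Y : Type u) _ => ¬ HasSection Y SL(2, ZMod p))
    (fun _ _ _ N _ _ h hN =>
      h (QuadraticQd.hasSection_lift (QuotientGroup.mk'_surjective N) hN))
    (fun _ _ _ h V _ hV => QuadraticQd.isPStableOn_of_sl2_free hp h V hV) G hfree P hP

/-- The section in the statements' form gives `HasSection`. -/
theorem hasSection_of_equiv {G Y : Type*} [Group G] [Group Y] {K R : Subgroup G}
    [(R.subgroupOf K).Normal] (e : (K ⧸ R.subgroupOf K) ≃* Y) : HasSection G Y :=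
  ⟨K, e.toMonoidHom.comp (QuotientGroup.mk' _),
    e.surjective.comp (QuotientGroup.mk'_surjective _)⟩

/-- An `SL(2,p)`-free group with trivial `O_{p'}` and nontrivial `O_p` is `p`-stable. -/
theorem isPStable_of_sl2_free {G : Type u} [Group G] [Finite G] (hp : p ≠ 2)
    (hfree : ¬ HasSection G SL(2, ZMod p)) (h0 : pPrimeCore p G = ⊥) (h1 : pCore p G ≠ ⊥) :
    IsPStable p G := by
  refine ⟨(Fact.out : p.Prime).odd_of_ne_two hp, h1, fun A P _ hP hn _ hnorm hq => ?_⟩
  rw [h0, bot_sup_eq] at hnorm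
  haveI := hnorm
  set C := Subgroup.centralizer (P : Set G) with hC
  set N := Subgroup.normalizer (P : Set G) with hN
  let f : G ⧸ C →* N ⧸ C.subgroupOf N :=
    QuotientGroup.map _ _ ((MonoidHom.id G).codRestrict N
      (fun x => by rw [hN, Subgroup.normalizer_eq_top]; trivial)) (fun x hx => hx)
  have hf : Function.Surjective f := by
    intro q
    obtain ⟨x, rfl⟩ := QuotientGroup.mk'_surjective _ q
    exact ⟨QuotientGroup.mk' C x.1, rfl⟩
  rintro _ ⟨x, hx, rfl⟩
  have hxa : (x : G) ∈ A := hx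
  refine HallCore.map_pCore_le hf ⟨QuotientGroup.mk (x : G),
    isPStableOn_all_of_sl2_free hp hfree P hP (x : G) ?_, rfl⟩
  rw [← le_bot_iff, ← hq]
  exact Subgroup.commutator_mono (Subgroup.commutator_mono le_rfl (Subgroup.zpowers_le.2 hxa))
    (Subgroup.zpowers_le.2 hxa)

end Cfsg.Agent.QuadraticFree
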