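import Mathlib
import Cfsg.Prelude.Def_PLocal
import Cfsg.Prelude.Def_LocalEven
import Cfsg.Prelude.Def_ConjugacyFunctors
import Cfsg.Agent.Lib.QdStructure56
import Cfsg.Agent.Lib.QuadraticFree
import Cfsg.Agent.Lib.GlaubermanStable

/-! Qd(p) and stability in the normalizer form. -/

set_option autoImplicit false
set_option linter.all false

namespace Cfsg.Agent.QdStability56

open Matrix Subgroup
open scoped MatrixGroups commutatorElement
open Cfsg.Agent.QdStructure56 Cfsg.Agent.QuadraticMain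

variable {p : ℕ} [hp : Fact p.Prime]

theorem qdOver_zmod : Cfsg.qdOver (ZMod p) = Cfsg.qd p := rfl

/-- The model. -/
def qdEquiv : Qd (ZMod p) ≃* ↥(Cfsg.qd p) := MulEquiv.subgroupCongr qdOver_zmod

theorem hasSection_of_involves {G Y : Type*} [Group G] [Group Y] (h : Cfsg.Involves Y G) :
    HasSection G Y := by
  obtain ⟨K, R, hR, ⟨e⟩⟩ := h
  exact QuadraticFree.hasSection_of_equiv e

theorem hasSection_of_quotient {G Y : Type*} [Group G] [Group Y] {K : Subgroup G} (N : Subgroup ↥K)
    [N.Normal] (h : HasSection (↥K ⧸ N) Y) : HasSection G Y :=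
  hasSection_subgroup K (QuadraticQd.hasSection_lift (QuotientGroup.mk'_surjective N) h)

theorem isNormalizerPStable_of_free {X : Type*} [Group X] [Finite X] (hp2 : p ≠ 2)
    (hfree : ¬ HasSection X ↥(Cfsg.qd p)) : Cfsg.IsNormalizerPStable p X := by
  intro P hP g hg hq
  set N := normalizer (P : Set X)
  set P' := P.subgroupOf N
  haveI : P'.Normal := normal_in_normalizer
  have hPN : P ≤ N := le_normalizer
  have hst : Cfsg.IsPStableOn p P' := QuadraticFree.isPStableOn_all_of_qd_free hp2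
    (fun h => hfree (hasSection_subgroup N h)) P' (hP.comap_subtype)
  have h1 := hst ⟨g, hg⟩ (by
    apply Subgroup.map_injective N.subtype_injective
    rw [map_commutator, map_commutator, MonoidHom.map_zpowers, map_subgroupOf_eq_of_le hPN, Subgroup.map_bot]
    exact hq)
  set C' := centralizer (P' : Set ↥N)
  set C := (centralizer (P : Set X)).subgroupOf N
  have hle : C' ≤ C := fun x hx => mem_subgroupOf.mpr (mem_centralizer_iff.mpr fun y hy =>
    congrArg Subtype.val (mem_centralizer_iff.mp hx ⟨y, hPN hy⟩ (mem_subgroupOf.mpr hy)))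
  let f : ↥N ⧸ C' →* ↥N ⧸ C := QuotientGroup.map C' C (MonoidHom.id _) hle
  have hf : Function.Surjective f := by
    intro q
    obtain ⟨x, rfl⟩ := QuotientGroup.mk'_surjective C q
    exact ⟨QuotientGroup.mk' C' x, rfl⟩
  exact HallCore.map_pCore_le hf (mem_map_of_mem f h1)

theorem not_stable_model : ¬ Cfsg.IsNormalizerPStable p (Qd (ZMod p)) := by
  intro hst
  set V := transl (ZMod p)
  set g : Qd (ZMod p) := lift (PSL2Elements.u 1)
  have hgN : g ∈ normalizer (V : Set (Qd (ZMod p))) := by rw [normalizer_eq_top]; exact mem_top g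
  have hgC : g ∉ V := fun h => by
    have h1 : blk g = 1 := mem_transl.mp h
    rw [blk_lift, ← PSL2Elements.u_zero] at h1
    exact one_ne_zero (PSL2Elements.u_injective h1)
  -- the commutators lie in the fixed line
  let Z : Subgroup (Qd (ZMod p)) :=
    (((Pi.single 0 (1 : ZMod p)) : Fin 2 → ZMod p) |> fun v => zpowers (trn (Multiplicative.ofAdd v)))
  have hq : ⁅⁅V, zpowers g⁆, zpowers g⁆ = ⊥ := by
    rw [commutator_eq_bot_iff_le_centralizer, commutator_le]
    intro v hv s hs
    rw [mem_centralizer_iff]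
    intro t ht
    obtain ⟨i, rfl⟩ := mem_zpowers_iff.mp hs
    obtain ⟨j, rfl⟩ := mem_zpowers_iff.mp ht
    have hfix : Commute g ⁅v, g ^ i⁆ := by
      have hc : ⁅v, g ^ i⁆ ∈ V :=
        (inferInstance : V.Normal).conj_mem _ (V.inv_mem hv) (g ^ i) |> fun h => by
          have := V.mul_mem hv h
          simpa [commutatorElement_def, mul_assoc] using this
      have hy : ∀ M ∈ V, ∀ k : ℤ, vec (g ^ k * M * (g ^ k)⁻¹) 1 = vec M 1 := by
        intro M hM k
        induction k using Int.induction_on with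
        | zero => simp
        | succ k ih =>
          have hM' : g ^ (k : ℤ) * M * (g ^ (k : ℤ))⁻¹ ∈ V := (inferInstance : V.Normal).conj_mem _ hM _
          have e : g ^ ((k : ℤ) + 1) * M * (g ^ ((k : ℤ) + 1))⁻¹ =
              g * (g ^ (k : ℤ) * M * (g ^ (k : ℤ))⁻¹) * g⁻¹ := by group
          rw [e, conj_transl g hM', blk_lift]
          simp [PSL2Elements.u, Matrix.mulVec, dotProduct, Fin.sum_univ_two]
          simpa using ih
        | pred k ih =>
          have hM' : g ^ (-(k : ℤ) - 1) * M * (g ^ (-(k : ℤ) - 1))⁻¹ ∈ V := (inferInstance : V.Normal).conj_mem _ hM _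
          have h1 := conj_transl g hM'
          have e : g * (g ^ (-(k : ℤ) - 1) * M * (g ^ (-(k : ℤ) - 1))⁻¹) * g⁻¹ =
              g ^ (-(k : ℤ)) * M * (g ^ (-(k : ℤ)))⁻¹ := by group
          rw [e, blk_lift] at h1
          have h2 := congrFun h1 1
          simp [PSL2Elements.u, Matrix.mulVec, dotProduct, Fin.sum_univ_two] at h2
          rw [← h2]; simpa using ih
      have h0 : vec ⁅v, g ^ i⁆ 1 = 0 := by
        have e : ⁅v, g ^ i⁆ = v * (g ^ i * v⁻¹ * (g ^ i)⁻¹) := by simp [commutatorElement_def, mul_assoc]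
        have h2 := hy v⁻¹ (V.inv_mem hv) i
        rw [e, vec_mul, Pi.add_apply]
        have hb : blk v = 1 := mem_transl.mp hv
        rw [hb, coeOne, Matrix.one_mulVec, h2]
        have h3 := congrFun (vec_mul v v⁻¹) 1
        rw [mul_inv_cancel, vec_one, hb, coeOne, Matrix.one_mulVec] at h3
        exact h3.symm
      have h4 : g * ⁅v, g ^ i⁆ * g⁻¹ = ⁅v, g ^ i⁆ := by
        apply ext_blk_vec
        · rw [map_mul, map_mul, mem_transl.mp hc, mul_one, map_inv, mul_inv_cancel]
        · rw [conj_transl g hc, blk_lift]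
          funext a
          fin_cases a <;> simp [PSL2Elements.u, Matrix.mulVec, dotProduct, Fin.sum_univ_two, h0]
      exact mul_inv_eq_iff_eq_mul.mp h4
    exact (hfix.zpow_left j).eq
  have h := hst V (transl_isPGroup) g hgN hq
  set N := normalizer (V : Set (Qd (ZMod p)))
  set C := (centralizer (V : Set (Qd (ZMod p)))).subgroupOf N
  have hCV : centralizer (V : Set (Qd (ZMod p))) ≤ V := by
    intro c hc
    refine mem_transl.mpr (eq_one_of_mulVec fun w hw => ?_)
    have hM : trn (Multiplicative.ofAdd w) ∈ V := mem_transl.mpr (by simp [trn])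
    have h1 := conj_transl c hM
    rw [← mem_centralizer_iff.mp hc _ hM, mul_inv_cancel_right] at h1
    simpa [trn] using h1.symm
  set W := (Cfsg.pCore p (↥N ⧸ C)).comap (QuotientGroup.mk' C)
  have hWp : IsPGroup p W := by
    refine (HallCore.isPGroup_pCore p _).comap_of_ker_isPGroup _ ?_
    rw [QuotientGroup.ker_mk']
    exact ((transl_isPGroup (p := p) (F := ZMod p)).to_le hCV).comap_subtype
  have hNtop : N = ⊤ := normalizer_eq_top V
  have hsurj : Function.Surjective N.subtype := fun x => ⟨⟨x, hNtop ▸ mem_top x⟩, rfl⟩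
  haveI : W.Normal := inferInstanceAs ((Cfsg.pCore p (↥N ⧸ C)).comap (QuotientGroup.mk' C)).Normal
  have h2 : W.map N.subtype ≤ Cfsg.pCore p (Qd (ZMod p)) :=
    le_sSup ⟨Normal.map inferInstance _ hsurj, hWp.map _⟩
  rw [transl_eq_pCore] at h2
  exact hgC (h2 ⟨⟨g, hgN⟩, h, rfl⟩)

theorem isNormalizerPStable_of_equiv {X Y : Type*} [Group X] [Finite X] [Group Y] (e : X ≃* Y)
    (hst : Cfsg.IsNormalizerPStable p X) : Cfsg.IsNormalizerPStable p Y := by
  haveI : Finite Y := Finite.of_equiv _ e.toEquiv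
  intro P hP g hg hq
  set P' := P.comap e.toMonoidHom
  have hmap : P'.map e.toMonoidHom = P := map_comap_eq_self_of_surjective (f := e.toMonoidHom) e.surjective P
  have hN : ∀ x, x ∈ normalizer (P' : Set X) ↔ e x ∈ normalizer (P : Set Y) := by
    intro x
    rw [← comap_normalizer_eq_of_surjective P (f := e.toMonoidHom) e.surjective, mem_comap]
    rfl
  have h1 := hst P' (hP.comap_of_injective e.toMonoidHom e.injective) (e.symm g) ((hN _).mpr (by simpa using hg)) (by
    apply Subgroup.map_injective (f := e.toMonoidHom) e.injective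
    rw [map_commutator, map_commutator, MonoidHom.map_zpowers, hmap, Subgroup.map_bot]
    simpa using hq)
  set N' := normalizer (P' : Set X)
  set C' := (centralizer (P' : Set X)).subgroupOf N'
  set N := normalizer (P : Set Y)
  set C := (centralizer (P : Set Y)).subgroupOf N
  let f : ↥N' ⧸ C' →* ↥N ⧸ C := QuotientGroup.map C' C
    ((e.toMonoidHom.comp N'.subtype).codRestrict N (fun x => (hN x).mp x.2))
    (fun x hx => mem_subgroupOf.mpr (mem_centralizer_iff.mpr fun y hy => by
      have h2 := congrArg e (mem_centralizer_iff.mp hx (e.symm y) (by simpa [P'] using hy))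
      simpa using h2))
  have hf : Function.Surjective f := by
    intro q
    obtain ⟨⟨y, hy⟩, rfl⟩ := QuotientGroup.mk'_surjective C q
    refine ⟨QuotientGroup.mk' C' ⟨e.symm y, (hN _).mpr (by simpa using hy)⟩, ?_⟩
    exact congrArg (QuotientGroup.mk' C) (Subtype.ext (e.apply_symm_apply y))
  have h3 := HallCore.map_pCore_le hf (mem_map_of_mem f h1)
  convert h3 using 1
  exact congrArg (QuotientGroup.mk' C) (Subtype.ext (e.apply_symm_apply g).symm)

theorem not_stable_of_equiv {X : Type*} [Group X] [Finite X] (e : X ≃* ↥(Cfsg.qd p)) :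
    ¬ Cfsg.IsNormalizerPStable p X := fun h =>
  not_stable_model (isNormalizerPStable_of_equiv (e.trans qdEquiv.symm) h)

/-! ### The Sylow subgroup of the model -/

/-- Upper unitriangular blocks. -/
def sylT : Subgroup (Qd (ZMod p)) := (PSL2Sylow.uSub (ZMod p)).comap blk

theorem sylT_isPGroup : IsPGroup p (sylT (p := p)) := by
  obtain ⟨P, hP⟩ := PSL2Sylow.exists_sylow_eq_uSub (F := ZMod p) p
  refine IsPGroup.comap_of_ker_isPGroup (hP ▸ P.2) _ ?_
  exact transl_isPGroup

theorem not_dvd_index_sylT : ¬ p ∣ (sylT (p := p)).index := by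
  obtain ⟨P, hP⟩ := PSL2Sylow.exists_sylow_eq_uSub (F := ZMod p) p
  rw [sylT, index_comap_of_surjective _ blk_surjective, ← hP]
  exact P.not_dvd_index

theorem mem_sylT {M : Qd (ZMod p)} : M ∈ sylT ↔ ∃ a, blk M = PSL2Elements.u a := PSL2Sylow.mem_uSub

/-- An automorphism of the Sylow subgroup moving the translations. -/
theorem exists_swap : ∃ (α : ↥(sylT (p := p)) ≃* ↥(sylT (p := p))) (v : ↥(sylT (p := p))),
    (v : Qd (ZMod p)) ∈ transl (ZMod p) ∧ (α v : Qd (ZMod p)) ∉ transl (ZMod p) := by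
  have hm : ∀ (a x y : ZMod p), mk (PSL2Elements.u a) ![x, y] ∈ sylT (p := p) := fun a x y =>
    mem_sylT.mpr ⟨a, blk_mk _ _⟩
  let mkT : ZMod p → ZMod p → ZMod p → ↥(sylT (p := p)) := fun a x y => ⟨_, hm a x y⟩
  let A : ↥(sylT (p := p)) → ZMod p := fun M => (blk (M : Qd (ZMod p))).1 0 1
  let f : ↥(sylT (p := p)) → ↥(sylT (p := p)) := fun M =>
    mkT (vec (M : Qd (ZMod p)) 1) (-(vec (M : Qd (ZMod p)) 0) + A M * vec (M : Qd (ZMod p)) 1) (A M)
  have hext : ∀ M : ↥(sylT (p := p)), M = mkT (A M) (vec (M : Qd (ZMod p)) 0) (vec (M : Qd (ZMod p)) 1) := by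
    intro M
    obtain ⟨a, ha⟩ := mem_sylT.mp M.2
    apply Subtype.ext
    apply ext_blk_vec
    · show blk (M : Qd (ZMod p)) = blk (QdStructure56.mk _ _)
      rw [blk_mk, ha]
      simp [A, ha, PSL2Elements.u]
    · show QdStructure56.vec (M : Qd (ZMod p)) = QdStructure56.vec (QdStructure56.mk _ _)
      rw [vec_mk]; funext i; fin_cases i <;> rfl
  have hval : ∀ a x y, A (mkT a x y) = a ∧ vec (mkT a x y : Qd (ZMod p)) 0 = x ∧
      vec (mkT a x y : Qd (ZMod p)) 1 = y := fun a x y => by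
    simp [A, mkT, PSL2Elements.u]
  have hmulT : ∀ a x y b u v, mkT a x y * mkT b u v = mkT (a + b) (x + u + a * v) (y + v) := by
    intro a x y b u v
    apply Subtype.ext
    show QdStructure56.mk _ _ * QdStructure56.mk _ _ = QdStructure56.mk _ _
    rw [mk_mul, PSL2Elements.u_mul]
    congr 1
    funext i; fin_cases i <;>
      simp [PSL2Elements.u, Matrix.mulVec, dotProduct, Fin.sum_univ_two] <;> ring
  have hfmk : ∀ a x y, f (mkT a x y) = mkT y (-x + a * y) a := fun a x y => by
    obtain ⟨h1, h2, h3⟩ := hval a x y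
    simp only [f, h1, h2, h3]
  have hinv : ∀ M, f (f M) = M := fun M => by
    obtain ⟨a, x, y, rfl⟩ : ∃ a x y, M = mkT a x y := ⟨_, _, _, hext M⟩
    exact (congrArg f (hfmk a x y)).trans ((hfmk _ _ _).trans (by congr 1; ring))
  let α : ↥(sylT (p := p)) ≃* ↥(sylT (p := p)) :=
    { toFun := f, invFun := f, left_inv := hinv, right_inv := hinv,
      map_mul' := fun M N => by
        obtain ⟨a, x, y, rfl⟩ : ∃ a x y, M = mkT a x y := ⟨_, _, _, hext M⟩
        obtain ⟨b, u, v, rfl⟩ : ∃ b u v, N = mkT b u v := ⟨_, _, _, hext N⟩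
        rw [hmulT, hfmk, hfmk, hfmk, hmulT]
        congr 1
        ring }
  refine ⟨α, mkT 0 0 1, mem_transl.mpr (by simp [mkT, PSL2Elements.u_zero]), fun h => ?_⟩
  have h1 := mem_transl.mp h
  rw [show α (mkT 0 0 1) = mkT 1 (-0 + 0 * 1) 0 from hfmk 0 0 1] at h1
  simp only [mkT, blk_mk] at h1
  rw [← PSL2Elements.u_zero] at h1
  exact one_ne_zero (PSL2Elements.u_injective h1)

/-- The translations are the only candidates, and they are not invariant. -/
theorem not_controls (U : Subgroup (Qd (ZMod p))) (hUT : U ≤ sylT) (hU : U ≠ ⊥)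
    (hchar : ∀ (α : ↥(sylT (p := p)) ≃* ↥(sylT (p := p))), ∀ x ∈ U.subgroupOf sylT, α x ∈ U.subgroupOf sylT)
    (hcs : Cfsg.ControlsStrongFusion p U) : False := by
  set T := sylT (p := p)
  have hTn : ∀ t ∈ T, ∀ x ∈ U, t * x * t⁻¹ ∈ U := fun t ht x hx => by
    simpa [mem_subgroupOf] using hchar (MulAut.conj (⟨t, ht⟩ : ↥T)) ⟨x, hUT hx⟩ (mem_subgroupOf.mpr hx)
  have htr : ∀ v : Fin 2 → ZMod p, trn (Multiplicative.ofAdd v) ∈ T := fun v =>
    mem_sylT.mpr ⟨0, by simp [trn, PSL2Elements.u_zero]⟩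
  set e1 := trn (Multiplicative.ofAdd (Pi.single 0 (1 : ZMod p) : Fin 2 → ZMod p))
  set e2 := trn (Multiplicative.ofAdd (Pi.single 1 (1 : ZMod p) : Fin 2 → ZMod p))
  -- a nontrivial translation in `U`
  obtain ⟨x, hx, hxV, hx1⟩ : ∃ x ∈ U, x ∈ transl (ZMod p) ∧ x ≠ 1 := by
    obtain ⟨x, hx, hx1⟩ := (Subgroup.bot_or_exists_ne_one U).resolve_left hU
    by_cases hxV : x ∈ transl (ZMod p)
    · exact ⟨x, hx, hxV, hx1⟩
    refine ⟨e2 * x * e2⁻¹ * x⁻¹, U.mul_mem (hTn _ (htr _) x hx) (U.inv_mem hx), ?_, ?_⟩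
    · rw [mem_transl]; simp [e2, trn]
    · intro h
      apply hxV
      obtain ⟨a, ha⟩ := mem_sylT.mp (hUT hx)
      have hc := conj_transl x (M := e2) (mem_transl.mpr (by simp [e2, trn]))
      rw [mul_inv_eq_one, mul_inv_eq_iff_eq_mul] at h
      rw [← h, mul_inv_cancel_right, ha] at hc
      rw [mem_transl, ha]
      have := congrFun hc 0
      simp [e2, trn, PSL2Elements.u, Matrix.mulVec, dotProduct, Fin.sum_univ_two] at this
      rw [← this, PSL2Elements.u_zero]
  have he1 : e1 ∈ U := by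
    have key : ∀ c : ZMod p, c ≠ 0 → trn (Multiplicative.ofAdd (Pi.single 0 c : Fin 2 → ZMod p)) ∈ U → e1 ∈ U := by
      intro c hc h
      haveI : NeZero p := ⟨hp.out.ne_zero⟩
      have := U.pow_mem h (c⁻¹).val
      rw [← map_pow, ← ofAdd_nsmul] at this
      have e : (c⁻¹).val • (Pi.single 0 c : Fin 2 → ZMod p) = Pi.single 0 1 := by
        rw [← Pi.single_smul', nsmul_eq_mul, ZMod.natCast_zmod_val, inv_mul_cancel₀ hc]
      rwa [e] at this
    have hxv := eq_trn_of_blk (mem_transl.mp hxV)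
    by_cases hy : vec x 1 = 0
    · refine key (vec x 0) (fun h => hx1 ?_) ?_
      · rw [hxv, show vec x = 0 from funext fun i => by fin_cases i <;> assumption, ofAdd_zero, map_one]
      · rw [show (Pi.single 0 (vec x 0) : Fin 2 → ZMod p) = vec x from funext fun i => by
          fin_cases i <;> simp [hy], ← hxv]
        exact hx
    · set g : Qd (ZMod p) := lift (PSL2Elements.u 1)
      have hg : g ∈ T := mem_sylT.mpr ⟨1, blk_lift _⟩
      refine key (vec x 1) hy ?_
      have h1 := U.mul_mem (hTn g hg x hx) (U.inv_mem hx)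
      convert h1 using 1
      apply ext_blk_vec
      · simp [trn, mem_transl.mp hxV]
      · rw [vec_mul, map_mul, map_mul, mem_transl.mp hxV, mul_one, map_inv, mul_inv_cancel, coeOne,
          Matrix.one_mulVec, conj_transl g hxV, blk_lift]
        have h3 := vec_mul x x⁻¹
        rw [mul_inv_cancel, vec_one, mem_transl.mp hxV, coeOne, Matrix.one_mulVec] at h3
        rw [eq_neg_of_add_eq_zero_left h3.symm]
        funext i
        fin_cases i <;> simp [trn, PSL2Elements.u, Matrix.mulVec, dotProduct, Fin.sum_univ_two]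
  obtain ⟨T', hUT', hT'⟩ := hcs
  have hVT' : transl (ZMod p) ≤ (T' : Subgroup (Qd (ZMod p))) := by
    rw [← transl_eq_pCore (F := ZMod p) (p := p)]
    exact HallCore.pCore_le_sylow T'
  have htV : ∀ v : Fin 2 → ZMod p, trn (Multiplicative.ofAdd v) ∈ transl (ZMod p) := fun v =>
    mem_transl.mpr (by simp [trn])
  obtain ⟨-, hfu⟩ := hT' {e1} (Set.singleton_subset_iff.mpr (hVT' (htV _)))
  obtain ⟨A, hA⟩ := exists_mulVec_eq (F := ZMod p) (v := Pi.single 0 1) (w := Pi.single 1 1)
    (by simp) (by simp)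
  have hconj : lift A * e1 * (lift A)⁻¹ = e2 := by
    apply ext_blk_vec
    · simp [e1, e2, trn]
    · rw [conj_transl _ (htV _), blk_lift]
      simp [e1, e2, trn, hA]
  obtain ⟨h, hh, he⟩ := hfu (lift A) (by rw [Set.image_singleton, hconj]; exact Set.singleton_subset_iff.mpr (hVT' (htV _)))
  have heq : h * e1 * h⁻¹ = e2 := (he e1 rfl).symm.trans hconj
  have he2 : e2 ∈ U := heq ▸ (mem_normalizer_iff.mp hh e1).mp he1
  have hVU : transl (ZMod p) ≤ U := by
    intro M hM
    haveI : NeZero p := ⟨hp.out.ne_zero⟩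
    rw [eq_trn_of_blk (mem_transl.mp hM)]
    have e : Multiplicative.ofAdd (vec M) = (Multiplicative.ofAdd (Pi.single 0 (1 : ZMod p) : Fin 2 → ZMod p)) ^ (vec M 0).val *
        (Multiplicative.ofAdd (Pi.single 1 (1 : ZMod p) : Fin 2 → ZMod p)) ^ (vec M 1).val := by
      rw [← ofAdd_nsmul, ← ofAdd_nsmul, ← ofAdd_add]
      congr 1
      funext i; fin_cases i <;> simp only [Pi.add_apply, Pi.smul_apply] <;> simp [nsmul_eq_mul]
    rw [e, map_mul, map_pow, map_pow]
    exact U.mul_mem (U.pow_mem he1 _) (U.pow_mem he2 _)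
  by_cases hbig : U ≤ transl (ZMod p)
  · obtain ⟨α, v, hv, hαv⟩ := exists_swap (p := p)
    exact hαv (hbig (mem_subgroupOf.mp (hchar α v (mem_subgroupOf.mpr (hVU hv)))))
  -- otherwise `U` is everything, whose normaliser fixes the line
  obtain ⟨y, hy, hyV⟩ := SetLike.not_le_iff_exists.mp hbig
  obtain ⟨a, ha⟩ := mem_sylT.mp (hUT hy)
  have ha0 : a ≠ 0 := by
    rintro rfl
    exact hyV (mem_transl.mpr (by rw [ha, PSL2Elements.u_zero]))
  have hyh := hUT ((mem_normalizer_iff.mp hh y).mp hy)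
  obtain ⟨b, hb⟩ := mem_sylT.mp hyh
  rw [map_mul, map_mul, map_inv, ha] at hb
  have hbor := PSL2Sylow.mem_borel.mp (PSL2Sylow.mem_borel_of_conj ha0 (mul_inv_eq_iff_eq_mul.mp hb))
  have hc := conj_transl h (htV (Pi.single 0 1))
  rw [show trn (Multiplicative.ofAdd (Pi.single 0 (1 : ZMod p) : Fin 2 → ZMod p)) = e1 from rfl, heq] at hc
  have := congrFun hc 1
  simp [e1, e2, trn, Matrix.mulVec, dotProduct, Fin.sum_univ_two, hbor] at this

end Cfsg.Agent.QdStability56
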