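import Cfsg.Agent.Lib.FusionSysSaturated

/-!
Centric subgroups of fusion systems: upward closure, extensions of a map from a centric subgroup
are unique up to the centre, and saturated subsystems agreeing with the system on centric
subgroups are equal to it.
-/

set_option autoImplicit false

namespace Cfsg.Agent.FusCentric

open Cfsg Cfsg.FusionSystem Cfsg.Agent.FusionSysBasic Cfsg.Agent.FusionSysSaturated

variable {Ω : Type*} [Group Ω] {S : Subgroup Ω} {F F' : FusionSystem S} {p : ℕ}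

theorem mor_mono (h : F' ≤ F) {P : Subgroup Ω} {f : Ω → Ω} (hf : Mor F' P f) : Mor F P f := by
  obtain ⟨φ, hφ, he⟩ := hf
  exact ⟨φ, h P hφ, he⟩

theorem lt_normalizerIn (hS : IsPGroup p S) [Finite S] [Fact p.Prime] {P R : Subgroup Ω}
    (hPR : P < R) (hRS : R ≤ S) : P < normalizerIn R P := by
  haveI := finite_of_le hRS
  haveI := (hS.to_le hRS).isNilpotent
  have hlt : P.subgroupOf R < ⊤ :=
    lt_top_iff_ne_top.2 fun e => hPR.not_ge (Subgroup.subgroupOf_eq_top.1 e)
  obtain ⟨r, hrn, hrP⟩ := SetLike.exists_of_lt (normalizerCondition_of_isNilpotent _ hlt)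
  refine lt_of_le_of_ne (le_inf hPR.le Subgroup.le_normalizer) fun e => hrP ?_
  show (r : Ω) ∈ P
  rw [e]
  exact ⟨r.2, mem_normalizer_of_cj_le (hPR.le.trans hRS) fun x hx =>
    (Subgroup.mem_normalizer_iff.1 hrn ⟨x, hPR.le hx⟩).1 hx⟩

theorem centric_self : F.IsCentric S → ∀ Q : Subgroup Ω, F.IsConj S Q → centralizerIn S Q ≤ Q :=
  fun h => h.2

theorem centric_top [Finite S] : F.IsCentric S :=
  ⟨le_rfl, fun _ hQ => (isConj_self_eq hQ).symm ▸ inf_le_left⟩

theorem centric_upward {Q R : Subgroup Ω} (hQ : F.IsCentric Q) (hQR : Q ≤ R) (hRS : R ≤ S) :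
    F.IsCentric R := by
  refine ⟨hRS, fun R' hR' => ?_⟩
  obtain ⟨f, hf, rfl⟩ := isConj_iff.1 hR'
  have h1 := hQ.2 _ (isConj_iff.2 ⟨f, hf.restrict_to hQR, rfl⟩)
  refine le_trans ?_ (h1.trans (im_mono hQR))
  intro c hc
  rw [mem_centralizerIn] at hc ⊢
  exact ⟨hc.1, fun x hx => hc.2 x (im_mono hQR hx)⟩

theorem centric_mono (h : F' ≤ F) {Q : Subgroup Ω} (hQ : F.IsCentric Q) : F'.IsCentric Q := by
  refine ⟨hQ.1, fun R hR => hQ.2 R ?_⟩
  obtain ⟨f, hf, hfR⟩ := isConj_iff.1 hR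
  exact isConj_iff.2 ⟨f, mor_mono h hf, hfR⟩

theorem centric_conj {Q R : Subgroup Ω} (hQ : F.IsCentric Q) (hR : F.IsConj Q R) :
    F.IsCentric R :=
  ⟨isConj_right_le hR, fun T hT => hQ.2 T (isConj_trans hR hT)⟩

variable [Finite S]

theorem fullyCentralized_of_centric {Q : Subgroup Ω} (hQ : F.IsCentric Q) :
    F.IsFullyCentralized Q := by
  refine ⟨hQ.1, fun R hR => ?_⟩
  obtain ⟨g, hg, hgQ⟩ := isConj_iff.1 (isConj_symm hR)
  have hC : centralizerIn S R ≤ R := hQ.2 R hR
  refine card_le_of_mor (hg.restrict_to hC) inf_le_left fun c hc => ?_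
  refine mem_centralizerIn.2 ⟨hg.apply_mem (hC hc), fun y hy => ?_⟩
  obtain ⟨x, hx, rfl⟩ := hg.mem_im.1 (hgQ.symm ▸ hy)
  rw [← hg.map_cj (hC hc) hx, (mem_centralizerIn.1 hc).2 x hx]

/-- A fully centralized subgroup is centric when it contains its centralizer. -/
theorem centric_of_fullyCentralized {Q : Subgroup Ω} (hQ : F.IsFullyCentralized Q)
    (hC : centralizerIn S Q ≤ Q) : F.IsCentric Q := by
  refine ⟨hQ.1, fun R hR => ?_⟩
  obtain ⟨g, hg, rfl⟩ := isConj_iff.1 hR
  have h1 : im (centralizerIn S Q) g ≤ centralizerIn S (im Q g) := im_le_iff.2 fun c hc =>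
    mem_centralizerIn.2 ⟨hg.apply_mem (hC hc), fun y hy => by
      obtain ⟨x, hx, rfl⟩ := hg.mem_im.1 hy
      rw [← hg.map_cj (hC hc) hx, (mem_centralizerIn.1 hc).2 x hx]⟩
  have h2 : im (centralizerIn S Q) g = centralizerIn S (im Q g) := by
    refine eq_of_le_of_card_ge inf_le_left h1 ?_
    rw [(hg.restrict_to hC).card_im]
    exact hQ.2 _ hR
  exact h2 ▸ im_mono hC

section Saturated

variable [Fact p.Prime] (hS : IsPGroup p S) (hF : F.IsSaturated p)

include hS hF

/-- Two extensions of a map from a centric subgroup differ by a central element of it. -/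
theorem extension_unique {Q N : Subgroup Ω} {f g : Ω → Ω} (hQ : F.IsCentric Q) (hQN : Q ≤ N)
    (hNn : N ≤ Subgroup.normalizer (Q : Set Ω)) (hf : Mor F N f) (hg : Mor F N g)
    (he : ∀ x ∈ Q, f x = g x) :
    ∃ z ∈ Q, z ∈ centralizerIn S Q ∧ ∀ x ∈ N, f x = g (cj z x) := by
  have hNS : N ≤ S := hf.le
  have hgQ := hg.restrict_to hQN
  have hC : centralizerIn S (im Q g) ≤ im Q g := hQ.2 _ (isConj_iff.2 ⟨g, hgQ, rfl⟩)
  -- the difference of `f` and `g`
  have hdiff : ∀ n ∈ N, ∃ c ∈ Q, c ∈ centralizerIn S Q ∧ f n = g (n * c) := by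
    intro n hn
    have hmem : (g n)⁻¹ * f n ∈ centralizerIn S (im Q g) := by
      refine mem_centralizerIn.2 ⟨S.mul_mem (S.inv_mem (hg.apply_mem hn)) (hf.apply_mem hn), ?_⟩
      intro y hy
      obtain ⟨x, hx, rfl⟩ := hgQ.mem_im.1 hy
      have hcx := cj_mem_of_normalizer (hNn hn) hx
      rw [← cj_cj, ← he x hx, ← hf.map_cj hn (hQN hx), he _ hcx, hg.map_cj hn (hQN hx), cj_inv_cj,
        he x hx]
    obtain ⟨c, hc, hce⟩ := hgQ.mem_im.1 (hC hmem)
    refine ⟨c, hc, mem_centralizerIn.2 ⟨hNS (hQN hc), fun x hx => ?_⟩, ?_⟩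
    · refine hg.injOn (hQN (cj_mem_of_normalizer (Subgroup.le_normalizer hc) hx)) (hQN hx) ?_
      rw [hg.map_cj (hQN hc) (hQN hx), hce]
      exact (mem_centralizerIn.1 hmem).2 _ (apply_mem_im hx)
    · rw [hg.map_mul hn (hQN hc), hce, mul_inv_cancel_left]
  have hfN : ∀ x ∈ N, f x ∈ im N g := fun x hx => by
    obtain ⟨c, hc, -, hce⟩ := hdiff x hx
    rw [hce]; exact apply_mem_im (N.mul_mem hx (hQN hc))
  obtain ⟨gi, hgi, hgig, -, hgiN⟩ := hg.exists_inv
  have hd : Mor F N (gi ∘ f) := hf.comp hgi hfN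
  obtain ⟨α, hα, hαe⟩ := hd.exists_aut (hd.im_self fun x hx => hgiN _ (hfN x hx))
  have hαQ : ∀ x ∈ Q, afun α x = x := fun x hx => by
    rw [hαe x (hQN hx), Function.comp_apply, he x hx, hgig x (hQN hx)]
  have hα2 : ∀ n ∈ N, ∃ c ∈ Q, afun α n = n * c := fun n hn => by
    obtain ⟨c, hc, -, hce⟩ := hdiff n hn
    exact ⟨c, hc, by rw [hαe n hn, Function.comp_apply, hce, hgig _ (N.mul_mem hn (hQN hc))]⟩
  -- so `α` has `p`-power order
  have hord : α ^ Nat.card S = 1 := by
    refine afun_ext fun n hn => ?_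
    obtain ⟨c, hc, hce⟩ := hα2 n hn
    have hc' : (⟨n, hn⟩ : N) * ⟨c, hQN hc⟩ = α ⟨n, hn⟩ := Subtype.ext (by
      rw [← afun_apply α hn, hce]; rfl)
    have hfix : α ⟨c, hQN hc⟩ = ⟨c, hQN hc⟩ := Subtype.ext (by
      rw [← afun_apply α (hQN hc), hαQ c hc])
    have hk : ∀ k : ℕ, (α ^ k) ⟨n, hn⟩ = ⟨n, hn⟩ * ⟨c, hQN hc⟩ ^ k := by
      intro k
      induction k with
      | zero => simp
      | succ k ih =>
        rw [pow_succ', MulAut.mul_apply, ih, map_mul, map_pow, hfix, ← hc', mul_assoc, ← pow_succ']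
    rw [afun_apply _ hn, afun_one hn, hk]
    have h1 : c ^ Nat.card S = 1 := congrArg Subtype.val
      (pow_card_eq_one' (x := (⟨c, hNS (hQN hc)⟩ : S)))
    simp [h1]
  obtain ⟨N', hN', hN'n⟩ := exists_fullyNormalized (F := F) hNS
  obtain ⟨e, heM, heN'⟩ := isConj_iff.1 hN'
  haveI := finite_autGroup (F := F) N'
  have hp : IsPGroup p (Subgroup.zpowers α) := by
    obtain ⟨j, hj⟩ := IsPGroup.iff_card.1 hS
    obtain ⟨i, -, hi⟩ := (Nat.dvd_prime_pow (Fact.out : p.Prime)).1
      (hj ▸ orderOf_dvd_of_pow_eq_one hord)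
    exact IsPGroup.of_card (n := i) (by rw [Nat.card_zpowers, hi])
  obtain ⟨a, ha, haS⟩ := sylIn_absorb
    (K := (Subgroup.zpowers α).map (heM.transport heN').toMonoidHom)
    (fullyAutomized_of_fullyNormalized hS hF hN'n).2 (hp.map _)
    (heM.map_transport heN' ▸ Subgroup.map_mono (Subgroup.zpowers_le.2 hα))
  obtain ⟨s, hs, -, hse⟩ := mem_autInducedBy.1 (haS _ ⟨α, Subgroup.mem_zpowers α, rfl⟩)
  set u := afun a ∘ e with hu
  have hum : Mor F N u := heM.comp ((mem_autGroup hN'n.1).1 ha) fun x hx => heN' ▸ apply_mem_im hx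
  have hcomm : ∀ x ∈ N, cj s (u x) = u (afun α x) := by
    intro x hx
    have hex : e x ∈ N' := heN' ▸ apply_mem_im hx
    show cj s (afun a (e x)) = afun a (e (afun α x))
    rw [← hse _ (afun_mem a hex)]
    show afun (a * heM.transport heN' α * a⁻¹) (afun a (e x)) = _
    rw [afun_mul _ _ (afun_mem a hex), afun_inv_apply a hex, afun_mul _ _ hex,
      heM.afun_transport heN' _ hx]
  have huQ := hum.restrict_to hQN
  have hsC : s ∈ centralizerIn S (im Q u) := mem_centralizerIn.2 ⟨hs, fun y hy => by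
    obtain ⟨x, hx, rfl⟩ := huQ.mem_im.1 hy
    rw [hcomm x (hQN hx), hαQ x hx]⟩
  obtain ⟨z, hz, rfl⟩ := huQ.mem_im.1 (hQ.2 _ (isConj_iff.2 ⟨u, huQ, rfl⟩) hsC)
  have hαz : ∀ x ∈ N, afun α x = cj z x := fun x hx => by
    refine hum.injOn (afun_mem α hx)
      (cj_mem_of_normalizer (Subgroup.le_normalizer (hQN hz)) hx) ?_
    rw [hum.map_cj (hQN hz) hx, hcomm x hx]
  refine ⟨z, hz, mem_centralizerIn.2 ⟨hNS (hQN hz), fun x hx => ?_⟩, fun x hx => ?_⟩
  · rw [← hαz x (hQN hx), hαQ x hx]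
  · obtain ⟨c, hc, -, hce⟩ := hdiff x hx
    rw [← hαz x hx, hαe x hx, Function.comp_apply, hce, hgig _ (N.mul_mem hx (hQN hc))]

/-- A map lies in a saturated subsystem as soon as its restriction to a centric subgroup does. -/
theorem mor_sub_of_centric (hF' : F'.IsSaturated p) (hle : F' ≤ F) {R : Subgroup Ω} {f : Ω → Ω}
    (hf : Mor F R f) :
    ∀ (n : ℕ) {Q : Subgroup Ω}, Nat.card R - Nat.card Q ≤ n → Q ≤ R → F.IsCentric Q →
      Mor F' Q f → Mor F' R f := by
  intro n
  induction n with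
  | zero =>
    intro Q hn hQR _ h
    exact eq_of_le_of_card_ge hf.le hQR (by omega) ▸ h
  | succ n ih =>
    intro Q hn hQR hQ h
    rcases eq_or_lt_of_le hQR with rfl | hlt
    · exact h
    set N := normalizerIn R Q with hN
    have hQN : Q < N := lt_normalizerIn hS hlt hf.le
    have hQ' : F'.IsCentric Q := centric_mono hle hQ
    have hrec := (receptive_iff.1 (receptive_of_fullyCentralized hS hF'
      (fullyCentralized_of_centric (centric_conj hQ' (isConj_iff.2 ⟨f, h, rfl⟩))))).2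
    obtain ⟨f', hf', hag⟩ := hrec Q f N h rfl (inf_le_left.trans hf.le) inf_le_right fun g hg =>
      ⟨f g, hf.apply_mem hg.1, fun x hx => hf.map_cj hg.1 (hQR hx)⟩
    rw [sup_eq_right.2 hQN.le] at hf'
    obtain ⟨z, hz, -, hzf⟩ := extension_unique hS hF hQ hQN.le inf_le_right
      (hf.restrict_to inf_le_left) (mor_mono hle hf') fun x hx => (hag x hx).symm
    have hNf : Mor F' N f := by
      refine (((mor_cj (inf_le_left.trans hf.le) (hQ.1 hz)).comp hf' fun x hx => ?_)).congr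
        fun x hx => (hzf x hx).symm
      exact cj_mem_of_normalizer (Subgroup.le_normalizer (hQN.le hz)) hx
    refine ih (Q := N) ?_ inf_le_left (centric_upward hQ hQN.le (inf_le_left.trans hf.le)) hNf
    have h1 : Nat.card Q < Nat.card N := by
      have hNS : N ≤ S := inf_le_left.trans hf.le
      haveI : Finite N := finite_of_le hNS
      exact lt_of_le_of_ne (Subgroup.card_le_of_le hQN.le)
        fun e => hQN.ne (eq_of_le_of_card_ge hNS hQN.le e.ge)
    omega

/-- A saturated subsystem with the same maps on all centric subgroups is the whole system. -/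
theorem mor_sub_all (hF' : F'.IsSaturated p) (hle : F' ≤ F)
    (hc : ∀ Q : Subgroup Ω, F.IsCentric Q → ∀ f, Mor F Q f → Mor F' Q f) :
    ∀ (n : ℕ) (P : Subgroup Ω) (f : Ω → Ω), Nat.card S - Nat.card P ≤ n → Mor F P f →
      Mor F' P f := by
  intro n
  induction n with
  | zero =>
    intro P f hn hf
    obtain rfl := eq_of_le_of_card_ge le_rfl hf.le (by omega)
    exact hc P centric_top f hf
  | succ n ih =>
    intro P f hn hf
    by_cases hPc : F.IsCentric P
    · exact hc P hPc f hf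
    have hgt : ∀ {U V : Subgroup Ω}, Nat.card U = Nat.card P → U < V → V ≤ S →
        Nat.card S - Nat.card V ≤ n := by
      intro U V hUP hUV hVS
      haveI := finite_of_le hVS
      have : Nat.card U < Nat.card V := lt_of_le_of_ne (Subgroup.card_le_of_le hUV.le)
        fun e => hUV.ne (Subgroup.eq_of_le_of_card_ge hUV.le e.ge)
      omega
    obtain ⟨P', hP', hP'n⟩ := exists_fullyNormalized (F := F) hf.le
    have hmove : ∀ {U : Subgroup Ω}, F.IsConj U P' → Nat.card U = Nat.card P →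
        ∃ b, Mor F' U b ∧ im U b = P' := by
      intro U hU hUc
      obtain ⟨b, hb, -, hbU⟩ := exists_map_to_fullyNormalized hS hF hP'n hU
      have hUS : U < S := lt_of_le_of_ne (isConj_left_le hU) fun e => hPc (by
        obtain rfl : P = S := eq_of_le_of_card_ge le_rfl hf.le (by rw [← hUc, e])
        exact centric_top)
      exact ⟨b, (ih _ _ (hgt hUc (lt_normalizerIn hS hUS le_rfl) inf_le_left) hb).restrict_to
        (le_normalizerIn (isConj_left_le hU)), hbU⟩
    obtain ⟨b, hb, hbP⟩ := hmove hP' rfl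
    have hP2 : F.IsConj (im P f) P' :=
      isConj_trans (isConj_symm (isConj_iff.2 ⟨f, hf, rfl⟩)) hP'
    obtain ⟨b2, hb2, hb2P⟩ := hmove hP2 hf.card_im
    obtain ⟨bi, hbi, hbib, -, hbiP⟩ := hb.exists_inv
    obtain ⟨b2i, hb2i, hb2ib, -, -⟩ := hb2.exists_inv
    rw [hbP] at hbi hbiP
    rw [hb2P] at hb2i
    -- the automorphism of the fully normalized conjugate extends to its centralizer
    have hθ : Mor F P' (b2 ∘ f ∘ bi) :=
      ((mor_mono hle hbi).comp hf hbiP).comp (mor_mono hle hb2) fun x hx =>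
        apply_mem_im (hbiP x hx)
    have hθi : im P' (b2 ∘ f ∘ bi) = P' := hθ.im_self fun x hx =>
      hb2P.le (apply_mem_im (apply_mem_im (hbiP x hx)))
    have hfc := fullyCentralized_of_fullyNormalized hS hF hP'n
    obtain ⟨θ', hθ', hag, -⟩ := exists_extension_centralizer
      (receptive_of_fullyCentralized hS hF hfc) hθ hθi
    have hlt : P' < P' ⊔ centralizerIn S P' := lt_of_le_of_ne le_sup_left fun e => hPc
      (centric_conj (centric_of_fullyCentralized hfc (le_trans le_sup_right e.ge))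
        (isConj_symm hP'))
    have hθF' : Mor F' P' (b2 ∘ f ∘ bi) :=
      ((ih _ _ (hgt (isConj_card hP').symm hlt (sup_le hfc.1 inf_le_left)) hθ').restrict_to
        le_sup_left).congr hag
    refine ((hb.comp hθF' fun x hx => hbP.le (apply_mem_im hx)).comp hb2i fun x hx => ?_).congr
      fun x hx => ?_
    · exact hθi.le (apply_mem_im (hbP.le (apply_mem_im hx)))
    · show b2i (b2 (f (bi (b x)))) = f x
      rw [hbib x hx, hb2ib _ (apply_mem_im hx)]

theorem hom_eq_of_centric (hF' : F'.IsSaturated p) (hle : F' ≤ F)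
    (hc : ∀ Q : Subgroup Ω, F.IsCentric Q → ∀ f, Mor F Q f → Mor F' Q f) (P : Subgroup Ω) :
    F.Hom P = F'.Hom P :=
  Set.Subset.antisymm (fun φ hφ => (mor_iff_hom fun x => (toFun_coe φ x).symm).1
    (mor_sub_all hS hF hF' hle hc _ P _ le_rfl (mor_toFun hφ))) (hle P)

end Saturated

end Cfsg.Agent.FusCentric
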