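import Cfsg.Agent.Lib.FusionSysGroup
import Cfsg.Agent.Lib.HallCore

/-!
Fusion systems realized by an injective homomorphism `ι : S →* G`: transfer of maps, conjugacy,
saturation, and: a system with a model is constrained.
-/

set_option autoImplicit false

namespace Cfsg.Agent.FusionRealized87

open Cfsg Cfsg.Agent.FusionSysBasic Cfsg.Agent.FusionSysSaturated

variable {Ω : Type*} [Group Ω] {S : Subgroup Ω} {G : Type*} [Group G] (ι : S →* G)

open scoped Classical in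
/-- `ι` as a total function. -/
noncomputable def up (x : Ω) : G := if h : x ∈ S then ι ⟨x, h⟩ else 1

/-- A left inverse of `ι` as a total function. -/
noncomputable def down : G → Ω := fun y => ((Function.invFun ι y : S) : Ω)

/-- The image of a subgroup. -/
def upS (P : Subgroup Ω) : Subgroup G := (P.subgroupOf S).map ι

/-- The preimage of a subgroup. -/
def downS (R : Subgroup G) : Subgroup Ω := (R.comap ι).map S.subtype

theorem up_apply {x : Ω} (h : x ∈ S) : up ι x = ι ⟨x, h⟩ := dif_pos h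

theorem down_mem (y : G) : down ι y ∈ S := (Function.invFun ι y : S).2

theorem up_mem_range {x : Ω} (h : x ∈ S) : up ι x ∈ ι.range := ⟨⟨x, h⟩, (up_apply ι h).symm⟩

theorem up_down {y : G} (hy : y ∈ ι.range) : up ι (down ι y) = y := by
  rw [up_apply ι (down_mem ι y)]
  exact Function.invFun_eq hy

theorem up_mul {x y : Ω} (hx : x ∈ S) (hy : y ∈ S) : up ι (x * y) = up ι x * up ι y := by
  rw [up_apply ι hx, up_apply ι hy, up_apply ι (mul_mem hx hy), ← map_mul]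
  rfl

theorem up_inv {x : Ω} (hx : x ∈ S) : up ι x⁻¹ = (up ι x)⁻¹ := by
  rw [up_apply ι hx, up_apply ι (inv_mem hx), ← map_inv]
  rfl

theorem up_cj {g x : Ω} (hg : g ∈ S) (hx : x ∈ S) : up ι (cj g x) = cj (up ι g) (up ι x) := by
  simp only [cj_apply]
  rw [up_mul ι (mul_mem hg hx) (inv_mem hg), up_mul ι hg hx, up_inv ι hg]

theorem mem_upS {P : Subgroup Ω} {y : G} : y ∈ upS ι P ↔ ∃ x ∈ P, x ∈ S ∧ up ι x = y := by
  constructor
  · rintro ⟨⟨x, hxS⟩, hx, rfl⟩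
    exact ⟨x, hx, hxS, up_apply ι hxS⟩
  · rintro ⟨x, hx, hxS, rfl⟩
    exact ⟨⟨x, hxS⟩, hx, (up_apply ι hxS).symm⟩

theorem up_mem_upS {P : Subgroup Ω} (hP : P ≤ S) {x : Ω} (hx : x ∈ P) : up ι x ∈ upS ι P :=
  (mem_upS ι).2 ⟨x, hx, hP hx, rfl⟩

theorem upS_le (P : Subgroup Ω) : upS ι P ≤ ι.range := Subgroup.map_le_range ι _

theorem downS_le (R : Subgroup G) : downS ι R ≤ S := Subgroup.map_subtype_le _

theorem mem_downS {R : Subgroup G} {x : Ω} : x ∈ downS ι R ↔ x ∈ S ∧ up ι x ∈ R := by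
  constructor
  · rintro ⟨⟨y, hy⟩, h, rfl⟩
    exact ⟨hy, (up_apply ι hy).symm ▸ h⟩
  · rintro ⟨hx, h⟩
    exact ⟨⟨x, hx⟩, show ι ⟨x, hx⟩ ∈ R from up_apply ι hx ▸ h, rfl⟩

theorem upS_downS {R : Subgroup G} (hR : R ≤ ι.range) : upS ι (downS ι R) = R := by
  ext y
  rw [mem_upS]
  refine ⟨fun ⟨x, hx, _, he⟩ => he ▸ ((mem_downS ι).1 hx).2, fun hy => ?_⟩
  refine ⟨down ι y, (mem_downS ι).2 ⟨down_mem ι y, by rw [up_down ι (hR hy)]; exact hy⟩,
    down_mem ι y, up_down ι (hR hy)⟩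

theorem upS_sup {P Q : Subgroup Ω} (hP : P ≤ S) (hQ : Q ≤ S) :
    upS ι (P ⊔ Q) = upS ι P ⊔ upS ι Q := by
  rw [upS, upS, upS, Subgroup.subgroupOf_sup hP hQ, Subgroup.map_sup]

section Inj

variable {ι} {F : FusionSystem S} (hF : F.IsRealizedBy ι)
include hF

theorem up_inj {x y : Ω} (hx : x ∈ S) (hy : y ∈ S) (h : up ι x = up ι y) : x = y := by
  rw [up_apply ι hx, up_apply ι hy] at h
  exact congrArg Subtype.val (hF.1 h)

theorem down_up {x : Ω} (hx : x ∈ S) : down ι (up ι x) = x :=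
  up_inj hF (down_mem ι _) hx (up_down ι (up_mem_range ι hx))

theorem downS_upS {P : Subgroup Ω} (hP : P ≤ S) : downS ι (upS ι P) = P := by
  ext x
  rw [mem_downS]
  refine ⟨fun ⟨hxS, hx⟩ => ?_, fun hx => ⟨hP hx, up_mem_upS ι hP hx⟩⟩
  obtain ⟨z, hz, hzS, he⟩ := (mem_upS ι).1 hx
  exact up_inj hF hzS hxS he ▸ hz

theorem mor_iff {P : Subgroup Ω} {f : Ω → Ω} :
    Mor F P f ↔ P ≤ S ∧ (∀ x ∈ P, f x ∈ S) ∧ ∃ g : G, ∀ x ∈ P, up ι (f x) = cj g (up ι x) := by
  constructor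
  · rintro ⟨φ, hφ, he⟩
    obtain ⟨hP, hS'⟩ := F.le_of_mem hφ
    have hfS : ∀ x ∈ P, f x ∈ S := fun x hx => he ⟨x, hx⟩ ▸ hS' ⟨x, hx⟩
    obtain ⟨g, hg⟩ := (hF.2 P hP φ hS').1 hφ
    refine ⟨hP, hfS, g, fun x hx => ?_⟩
    rw [up_apply ι (hfS x hx), up_apply ι (hP hx), cj_apply, ← hg ⟨x, hx⟩]
    exact congrArg ι (Subtype.ext (he ⟨x, hx⟩).symm)
  · rintro ⟨hP, hfS, g, hg⟩
    have hmul : ∀ x y : P, f (↑(x * y)) = f x * f y := fun x y => by
      refine up_inj hF (hfS _ (x * y).2) (mul_mem (hfS _ x.2) (hfS _ y.2)) ?_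
      rw [up_mul ι (hfS _ x.2) (hfS _ y.2), hg _ (x * y).2, hg _ x.2, hg _ y.2, Subgroup.coe_mul,
        up_mul ι (hP x.2) (hP y.2)]
      simp only [cj_apply]; group
    refine ⟨MonoidHom.mk' (fun x : P => f x) hmul, ?_, fun x => rfl⟩
    refine (hF.2 P hP _ fun x => hfS x x.2).2 ⟨g, fun x => ?_⟩
    have h := hg x x.2
    rw [up_apply ι (hfS x x.2), up_apply ι (hP x.2), cj_apply] at h
    exact h

/-- An element of `G` conjugating the image of `P` into the image of `S` gives a map. -/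
theorem mor_of_conj {P : Subgroup Ω} (hP : P ≤ S) {g : G} (hg : ∀ x ∈ P, cj g (up ι x) ∈ ι.range) :
    Mor F P (fun x => down ι (cj g (up ι x))) :=
  (mor_iff hF).2 ⟨hP, fun x _ => down_mem ι _, g, fun x hx => up_down ι (hg x hx)⟩

theorem im_up {P : Subgroup Ω} {f : Ω → Ω} (hf : Mor F P f) {g : G}
    (hg : ∀ x ∈ P, up ι (f x) = cj g (up ι x)) : upS ι (im P f) = im (upS ι P) (cj g) := by
  ext y
  rw [mem_upS, mem_im_cj]
  constructor
  · rintro ⟨z, hz, -, rfl⟩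
    obtain ⟨x, hx, rfl⟩ := hf.mem_im.1 hz
    rw [hg x hx, cj_inv_cj]
    exact up_mem_upS ι hf.le hx
  · intro hy
    obtain ⟨x, hx, -, he⟩ := (mem_upS ι).1 hy
    exact ⟨f x, apply_mem_im hx, hf.apply_mem hx, by rw [hg x hx, he, cj_cj_inv]⟩

theorem isConj_iff_up {P Q : Subgroup Ω} :
    F.IsConj P Q ↔ P ≤ S ∧ Q ≤ S ∧ ∃ g : G, im (upS ι P) (cj g) = upS ι Q := by
  constructor
  · intro h
    obtain ⟨f, hf, rfl⟩ := isConj_iff.1 h
    obtain ⟨g, hg⟩ := ((mor_iff hF).1 hf).2.2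
    exact ⟨hf.le, hf.im_le, g, (im_up hF hf hg).symm⟩
  · rintro ⟨hP, hQ, g, hg⟩
    have hin : ∀ x ∈ P, cj g (up ι x) ∈ ι.range := fun x hx =>
      upS_le ι Q (hg ▸ apply_mem_im (up_mem_upS ι hP hx))
    have hf := mor_of_conj hF hP hin
    refine isConj_iff.2 ⟨_, hf, ?_⟩
    have h := im_up hF hf (fun x hx => up_down ι (hin x hx))
    rw [hg] at h
    rw [← downS_upS hF hf.im_le, h, downS_upS hF hQ]

/-- `Q` as its image. -/
noncomputable def upEquiv {Q : Subgroup Ω} (hQ : Q ≤ S) : Q ≃* upS ι Q :=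
  MulEquiv.ofBijective
    ({ toFun := fun x => ⟨up ι x, up_mem_upS ι hQ x.2⟩
       map_one' := Subtype.ext (by
         show up ι ((1 : Q) : Ω) = 1
         rw [OneMemClass.coe_one, up_apply ι S.one_mem]
         exact ι.map_one)
       map_mul' := fun x y => Subtype.ext (up_mul ι (hQ x.2) (hQ y.2)) } : Q →* upS ι Q)
    ⟨fun x y h => Subtype.ext (up_inj hF (hQ x.2) (hQ y.2) (congrArg Subtype.val h)),
      fun ⟨y, hy⟩ => by
        obtain ⟨x, hx, -, he⟩ := (mem_upS ι).1 hy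
        exact ⟨⟨x, hx⟩, Subtype.ext he⟩⟩

theorem afun_congr {Q : Subgroup Ω} (hQ : Q ≤ S) (α : MulAut Q) {x : Ω} (hx : x ∈ Q) :
    afun (MulAut.congr (upEquiv hF hQ) α) (up ι x) = up ι (afun α x) := by
  rw [afun_apply _ (up_mem_upS ι hQ hx), afun_apply _ hx]
  have h : (⟨up ι x, up_mem_upS ι hQ hx⟩ : upS ι Q) = upEquiv hF hQ ⟨x, hx⟩ := rfl
  rw [h]
  show ((upEquiv hF hQ (α ((upEquiv hF hQ).symm (upEquiv hF hQ ⟨x, hx⟩))) : upS ι Q) : G) = _
  rw [MulEquiv.symm_apply_apply]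
  rfl

theorem congr_autInducedBy_self {Q : Subgroup Ω} (hQ : Q ≤ S) :
    (autInducedBy S Q).map (MulAut.congr (upEquiv hF hQ)).toMonoidHom = autInducedBy ι.range (upS ι Q) := by
  ext β
  constructor
  · rintro ⟨α, hα, rfl⟩
    obtain ⟨g, hgS, hgn, he⟩ := mem_autInducedBy.1 hα
    refine mem_autInducedBy.2 ⟨up ι g, up_mem_range ι hgS, mem_normalizer_iff_im_cj.2 ?_, fun y hy => ?_⟩
    · have h := im_up hF (mor_cj (F := F) hQ hgS) (g := up ι g) (fun x hx => up_cj ι hgS (hQ hx))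
      rw [mem_normalizer_iff_im_cj.1 hgn] at h
      exact h.symm
    · obtain ⟨x, hx, -, rfl⟩ := (mem_upS ι).1 hy
      show afun (MulAut.congr (upEquiv hF hQ) α) (up ι x) = _
      rw [afun_congr hF hQ α hx, he x hx, up_cj ι hgS (hQ hx)]
  · intro hβ
    obtain ⟨_, ⟨⟨g, hgS⟩, rfl⟩, hgn, he⟩ := mem_autInducedBy.1 hβ
    refine ⟨(MulAut.congr (upEquiv hF hQ)).symm β, ?_, (MulAut.congr (upEquiv hF hQ)).apply_symm_apply β⟩
    refine mem_autInducedBy.2 ⟨g, hgS, mem_normalizer_iff_im_cj.2 ?_, fun x hx => ?_⟩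
    · have hm := mor_cj (F := F) hQ hgS
      have h := im_up hF hm (g := up ι g) (fun x hx => up_cj ι hgS (hQ hx))
      have hgn' := hgn
      rw [← up_apply ι hgS] at hgn'
      rw [mem_normalizer_iff_im_cj.1 hgn'] at h
      rw [← downS_upS hF hm.im_le, h, downS_upS hF hQ]
    · refine up_inj hF (hQ (afun_mem _ hx)) (cj_mem_S hgS (hQ hx)) ?_
      rw [← afun_congr hF hQ _ hx, up_cj ι hgS (hQ hx), MulEquiv.apply_symm_apply, up_apply ι hgS]
      exact he _ (up_mem_upS ι hQ hx)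

theorem congr_autGroup [Finite G] {Q : Subgroup Ω} (hQ : Q ≤ S) :
    (F.autGroup Q).map (MulAut.congr (upEquiv hF hQ)).toMonoidHom = autInducedBy (⊤ : Subgroup G) (upS ι Q) := by
  ext β
  constructor
  · rintro ⟨α, hα, rfl⟩
    obtain ⟨-, -, g, hg⟩ := (mor_iff hF).1 ((mem_autGroup hQ).1 hα)
    have hmem : ∀ y ∈ upS ι Q, cj g y ∈ upS ι Q := by
      intro y hy
      obtain ⟨x, hx, -, rfl⟩ := (mem_upS ι).1 hy
      rw [← hg x hx]
      exact up_mem_upS ι hQ (afun_mem α hx)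
    refine mem_autInducedBy.2 ⟨g, trivial, mem_normalizer_of_cj_le (S := (⊤ : Subgroup G)) le_top hmem, fun y hy => ?_⟩
    obtain ⟨x, hx, -, rfl⟩ := (mem_upS ι).1 hy
    show afun (MulAut.congr (upEquiv hF hQ) α) (up ι x) = _
    rw [afun_congr hF hQ α hx, hg x hx]
  · intro hβ
    obtain ⟨g, -, hgn, he⟩ := mem_autInducedBy.1 hβ
    refine ⟨(MulAut.congr (upEquiv hF hQ)).symm β, (mem_autGroup hQ).2 ?_, (MulAut.congr (upEquiv hF hQ)).apply_symm_apply β⟩
    refine (mor_iff hF).2 ⟨hQ, fun x hx => hQ (afun_mem _ hx), g, fun x hx => ?_⟩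
    rw [← afun_congr hF hQ _ hx, MulEquiv.apply_symm_apply]
    exact he _ (up_mem_upS ι hQ hx)

/-- A system realized on a Sylow subgroup of a finite group is saturated. -/
theorem saturated_of_realized [Finite G] {p : ℕ} [Fact p.Prime] [Finite S] (T : Sylow p G) (hT : (T : Subgroup G) = ι.range) :
    F.IsSaturated p := by
  intro P hP
  obtain ⟨R, hconj, hRa, hRr⟩ := FusionSysGroup.saturated_group T (upS ι P) (hT ▸ upS_le ι P)
  obtain ⟨-, hRT, g, hg⟩ := FusionSysGroup.isConj_group_iff.1 hconj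
  have hRι : R ≤ ι.range := hT ▸ hRT
  set Q := downS ι R with hQdef
  have hQ : Q ≤ S := downS_le ι R
  have hQR : upS ι Q = R := upS_downS ι hRι
  refine ⟨Q, (isConj_iff_up hF).2 ⟨hP, hQ, g, by rw [hg, hQR]⟩, ⟨hQ, ?_⟩, ?_⟩
  · haveI := finite_autGroup (F := F) Q
    haveI := finite_autGroup (F := groupFusionSystem (T : Subgroup G)) R
    have h1 := (sylIn_iff_card (autInducedBy_le (F := groupFusionSystem (T : Subgroup G)) hRT)).1 hRa.2
    refine (sylIn_iff_card (autInducedBy_le hQ)).2 ?_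
    have e := (MulAut.congr (upEquiv hF hQ)).toMonoidHom
    have hinj : Function.Injective (MulAut.congr (upEquiv hF hQ)).toMonoidHom :=
      (MulAut.congr (upEquiv hF hQ)).injective
    have c1 := Nat.card_congr (Subgroup.equivMapOfInjective (autInducedBy S Q) _ hinj).toEquiv
    have c2 := Nat.card_congr (Subgroup.equivMapOfInjective (F.autGroup Q) _ hinj).toEquiv
    rw [congr_autInducedBy_self hF hQ, ← hT, hQR] at c1
    rw [congr_autGroup hF hQ, hQR, ← FusionSysGroup.autGroup_group hRT] at c2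
    rw [c1, c2]
    exact h1
  · refine receptive_iff.2 ⟨hQ, fun P' f N hf him hNS hNn hN => ?_⟩
    obtain ⟨hP', hfS, g', hg'⟩ := (mor_iff hF).1 hf
    have hup : ∀ y ∈ upS ι P', cj g' y ∈ (T : Subgroup G) := by
      intro y hy
      obtain ⟨x, hx, -, rfl⟩ := (mem_upS ι).1 hy
      rw [← hg' x hx, hT]
      exact up_mem_range ι (hfS x hx)
    have hm : Mor (groupFusionSystem (T : Subgroup G)) (upS ι P') (cj g') :=
      FusionSysGroup.mor_group_iff.2 ⟨hT ▸ upS_le ι P', g', fun _ _ => rfl, hup⟩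
    obtain ⟨f', hf', hag⟩ := (receptive_iff.1 hRr).2 (upS ι P') (cj g') (upS ι N) hm
      (by rw [← im_up hF hf hg', him, hQR]) (hT ▸ upS_le ι N)
      (fun y hy => by
        obtain ⟨n, hn, hnS, rfl⟩ := (mem_upS ι).1 hy
        refine mem_normalizer_iff_im_cj.2 ?_
        have h := im_up hF (mor_cj (F := F) hP' hnS) (g := up ι n) (fun x hx => up_cj ι hnS (hP' hx))
        rw [mem_normalizer_iff_im_cj.1 (hNn hn)] at h
        exact h.symm)
      (fun y hy => by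
        obtain ⟨n, hn, hnS, rfl⟩ := (mem_upS ι).1 hy
        obtain ⟨h, hh, hhe⟩ := hN n hn
        refine ⟨up ι h, hT ▸ up_mem_range ι hh, fun z hz => ?_⟩
        obtain ⟨x, hx, -, rfl⟩ := (mem_upS ι).1 hz
        have hxn : cj n x ∈ P' := cj_mem_of_normalizer (hNn hn) hx
        rw [← up_cj ι hnS (hP' hx), ← hg' _ hxn, hhe x hx, up_cj ι hh (hfS x hx), hg' x hx])
    obtain ⟨-, g'', hg'', hin⟩ := FusionSysGroup.mor_group_iff.1 hf'
    have hin' : ∀ x ∈ P' ⊔ N, cj g'' (up ι x) ∈ ι.range := fun x hx => by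
      have hx' : up ι x ∈ upS ι P' ⊔ upS ι N := by
        rw [← upS_sup ι hP' hNS]
        exact up_mem_upS ι (sup_le hP' hNS) hx
      rw [← hT]
      exact hin _ hx'
    refine ⟨_, mor_of_conj hF (sup_le hP' hNS) hin', fun x hx => ?_⟩
    have hx' : up ι x ∈ upS ι P' := up_mem_upS ι hP' hx
    rw [← hg'' _ (Subgroup.mem_sup_left hx'), hag _ hx', ← hg' x hx, down_up hF (hfS x hx)]

/-- A normal `p`-subgroup of `G` gives a normal subgroup of the system. -/
theorem normal_downS {R : Subgroup G} [R.Normal] (hR : R ≤ ι.range) : F.IsNormal (downS ι R) := by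
  refine ⟨downS_le ι R, fun P φ hφ => ?_⟩
  obtain ⟨hP, hfS, g, hg⟩ := (mor_iff hF).1 (mor_toFun hφ)
  have hle : upS ι (P ⊔ downS ι R) ≤ ι.range.comap (MulAut.conj g).toMonoidHom := by
    rw [upS_sup ι hP (downS_le ι R), upS_downS ι hR]
    refine sup_le (fun y hy => ?_) (fun y hy => hR (‹R.Normal›.conj_mem y hy g))
    obtain ⟨x, hx, -, rfl⟩ := (mem_upS ι).1 hy
    show cj g (up ι x) ∈ ι.range
    rw [← hg x hx]
    exact up_mem_range ι (hfS x hx)
  have hin : ∀ x ∈ P ⊔ downS ι R, cj g (up ι x) ∈ ι.range := fun x hx =>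
    hle (up_mem_upS ι (sup_le hP (downS_le ι R)) hx)
  obtain ⟨ψ, hψ, hψe⟩ := mor_of_conj hF (sup_le hP (downS_le ι R)) hin
  refine ⟨ψ, hψ, fun x => ?_, ?_⟩
  · rw [hψe]
    show down ι (cj g (up ι (x : Ω))) = _
    rw [← hg x x.2, down_up hF (hfS x x.2), toFun_coe]
  · have key : ∀ z : ↥(P ⊔ downS ι R), ψ z ∈ downS ι R ↔ (z : Ω) ∈ downS ι R := by
      intro z
      rw [hψe, mem_downS, mem_downS, up_down ι (hin z z.2)]
      refine ⟨fun h => ⟨(sup_le hP (downS_le ι R)) z.2, ?_⟩, fun h => ⟨down_mem ι _, ‹R.Normal›.conj_mem _ h.2 g⟩⟩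
      simpa [cj_apply, mul_assoc] using ‹R.Normal›.conj_mem _ h.2 g⁻¹
    ext y
    constructor
    · rintro ⟨z, hz, rfl⟩
      exact (key z).2 hz
    · intro hy
      obtain ⟨hyS, hyR⟩ := (mem_downS ι).1 hy
      have hm : cj g⁻¹ (up ι y) ∈ R := ‹R.Normal›.conj_mem _ hyR g⁻¹
      have hz : down ι (cj g⁻¹ (up ι y)) ∈ downS ι R :=
        (mem_downS ι).2 ⟨down_mem ι _, by rw [up_down ι (hR hm)]; exact hm⟩
      refine ⟨⟨_, Subgroup.mem_sup_right hz⟩, hz, ?_⟩
      rw [hψe]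
      show down ι (cj g (up ι (down ι (cj g⁻¹ (up ι y))))) = y
      rw [up_down ι (hR hm), cj_cj_inv, down_up hF hyS]

/-- A self-centralizing normal subgroup gives a centric subgroup of the system. -/
theorem centric_downS {R : Subgroup G} [R.Normal] (hR : R ≤ ι.range)
    (hC : Subgroup.centralizer (R : Set G) ≤ R) : F.IsCentric (downS ι R) := by
  refine ⟨downS_le ι R, fun Q hQ => ?_⟩
  obtain ⟨-, hQS, g, hg⟩ := (isConj_iff_up hF).1 hQ
  rw [upS_downS ι hR, mem_normalizer_iff_im_cj.1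
    (show g ∈ Subgroup.normalizer (R : Set G) by rw [Subgroup.normalizer_eq_top]; trivial)] at hg
  rw [← downS_upS hF hQS, ← hg]
  intro c hc
  obtain ⟨hcS, hcc⟩ := mem_centralizerIn.1 hc
  refine (mem_downS ι).2 ⟨hcS, hC (Subgroup.mem_centralizer_iff.2 fun y hy => ?_)⟩
  have hy' : y ∈ upS ι (downS ι R) := by rw [upS_downS ι hR]; exact hy
  obtain ⟨x, hx, hxS, rfl⟩ := (mem_upS ι).1 hy'
  have h := hcc x hx
  have h2 : up ι (cj c x) = up ι x := by rw [h]
  rw [up_cj ι hcS hxS, cj_apply, mul_inv_eq_iff_eq_mul] at h2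
  exact h2.symm

end Inj

/-- A fusion system with a model is constrained. -/
theorem constrained_of_model [Finite S] {p : ℕ} [Fact p.Prime] {F : FusionSystem S}
    (h : F.IsModel p G ι) : F.IsConstrained p := by
  obtain ⟨hfin, hF, ⟨T, hT⟩, hC⟩ := h
  haveI := hfin
  haveI := HallCore.pCore_normal p G
  have hR : Cfsg.pCore p G ≤ ι.range := hT ▸ HallCore.pCore_le_sylow T
  exact ⟨saturated_of_realized hF T hT, _, normal_downS hF hR, centric_downS hF hR hC⟩

end Cfsg.Agent.FusionRealized87
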