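import Cfsg.Agent.Lib.FusionSysNormal
import Cfsg.Agent.Lib.FusionRealized87
import Cfsg.Agent.Lib.FusCentric

/-!
The model theorem for constrained fusion systems.

For a saturated system `F` with `Q` normal and centric put `A = Aut_F(Q)` and `Y = A / Aut_S(Q)`.
The pairs `(α, g)`, `g` a permutation of `Y × S` commuting with right multiplication by `S` and
lying over `α`, form an extension `Γ` of `A` by `Z(Q)^Y`. Saturation gives an embedding `λ` of `S`
in `Γ`, orbit by orbit on `Y`. Dividing `Γ` by the kernel of the norm map `Z(Q)^Y → Z(Q)` gives the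
model, and the uniqueness of extensions from centric subgroups gives both realization and
uniqueness.
-/

set_option autoImplicit false

universe u v

namespace Cfsg.Agent.FusionSysModel

open Cfsg Cfsg.FusionSystem Cfsg.Agent.FusionSysBasic Cfsg.Agent.FusionSysSaturated
  Cfsg.Agent.FusionSysNormal

variable {Ω : Type u} [Group Ω] {S : Subgroup Ω} [Finite S] {F : FusionSystem S} {p : ℕ}
  [Fact p.Prime] {Q : Subgroup Ω}

/-- `Q` is normal and centric in the saturated system `F`. -/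
structure Hyp (p : ℕ) (F : FusionSystem S) (Q : Subgroup Ω) : Prop where
  hS : IsPGroup p S
  hF : F.IsSaturated p
  hn : F.IsNormal Q
  hc : F.IsCentric Q

theorem autGroup_isFinite (F : FusionSystem S) (P : Subgroup Ω) : Finite (F.autGroup P) :=
  finite_autGroup P

attribute [local instance] autGroup_isFinite

variable (h : Hyp p F Q)

omit [Fact p.Prime] in
theorem Hyp.le (h : Hyp p F Q) : Q ≤ S := h.hn.1

theorem Hyp.receptive (h : Hyp p F Q) : F.IsReceptive Q := by
  refine receptive_of_fullyNormalized h.hS h.hF ⟨h.le, fun R hR => ?_⟩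
  obtain ⟨f, hf, rfl⟩ := FusionSysBasic.isConj_iff.mp hR
  rw [hf.im_self fun x hx => normal_invariant h.hn hf hx hx]

/-- Conjugation by `S` on `Q`. -/
def cA : S →* F.autGroup Q :=
  ((nHom S Q).comp (Subgroup.inclusion (le_inf le_rfl (le_normalizer_of_normal h.hn)))).codRestrict
    (F.autGroup Q) fun s => autInducedBy_le h.le (by rw [autInducedBy_eq_range]; exact ⟨_, rfl⟩)

omit [Fact p.Prime] in
theorem afun_cA (s : S) {x : Ω} (hx : x ∈ Q) :
    afun (cA h s : MulAut Q) x = cj (s : Ω) x :=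
  afun_nHom _ hx

omit [Fact p.Prime] in
theorem mor_afun (α : F.autGroup Q) (h : Hyp p F Q) : Mor F Q (afun (α : MulAut Q)) :=
  (mem_autGroup h.le).mp α.2

omit [Fact p.Prime] in
theorem mem_ker {s : S} : s ∈ (cA h).ker ↔ (s : Ω) ∈ centralizerIn S Q := by
  rw [MonoidHom.mem_ker, mem_centralizerIn]
  refine ⟨fun e => ⟨s.2, fun x hx => ?_⟩, fun e => Subtype.ext (afun_ext fun x hx => ?_)⟩
  · rw [← afun_cA h s hx, e]; exact afun_one hx
  · rw [afun_cA h s hx, e.2 x hx]; exact (afun_one hx).symm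

omit [Fact p.Prime] in
theorem ker_mem {s : S} (hs : s ∈ (cA h).ker) : (s : Ω) ∈ Q :=
  h.hc.2 Q (isConj_refl h.le) ((mem_ker h).mp hs)

omit [Fact p.Prime] in
/-- Conjugating `cA q`. -/
theorem conj_cA (α : F.autGroup Q) {q : S} (hq : (q : Ω) ∈ Q) :
    α * cA h q * α⁻¹ = cA h ⟨afun (α : MulAut Q) q, h.le (afun_mem _ hq)⟩ := by
  refine Subtype.ext (afun_ext fun x hx => ?_)
  have hx' := afun_mem (α : MulAut Q)⁻¹ hx
  rw [Subgroup.coe_mul, Subgroup.coe_mul, Subgroup.coe_inv, afun_mul _ _ hx, afun_mul _ _ hx',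
    afun_cA h q hx', (mor_afun α h).map_cj hq hx', afun_apply_inv _ hx, afun_cA h _ hx]

/-- The cosets of `Aut_S(Q)` in `Aut_F(Q)`. -/
abbrev Cos : Type u := (F.autGroup Q) ⧸ (cA h).range

omit [Fact p.Prime] in
theorem q_smul (q : S) (hq : (q : Ω) ∈ Q) (y : Cos h) : cA h q • y = y := by
  induction y using QuotientGroup.induction_on with
  | H α =>
    rw [MulAction.Quotient.smul_mk, QuotientGroup.eq]
    have e := conj_cA h α⁻¹ hq
    refine ⟨⟨_, h.le (afun_mem (α⁻¹ : F.autGroup Q).1 hq)⟩⁻¹, ?_⟩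
    rw [map_inv, ← e, smul_eq_mul]
    group

/-- The stabilizer of a coset in `S`. -/
def stab (y : Cos h) : Subgroup Ω :=
  ((MulAction.stabilizer (F.autGroup Q) y).comap (cA h)).map S.subtype

omit [Fact p.Prime] in
theorem mem_stab {y : Cos h} {x : Ω} :
    x ∈ stab h y ↔ ∃ hx : x ∈ S, cA h ⟨x, hx⟩ • y = y := by
  constructor
  · rintro ⟨s, hs, rfl⟩; exact ⟨s.2, hs⟩
  · rintro ⟨hx, e⟩; exact ⟨⟨x, hx⟩, e, rfl⟩

omit [Fact p.Prime] in
theorem le_stab (y : Cos h) : Q ≤ stab h y := fun x hx =>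
  (mem_stab h).mpr ⟨h.le hx, q_smul h _ hx y⟩

theorem exists_psi (y : Cos h) :
    ∃ f, Mor F (stab h y) f ∧ ∀ x ∈ Q, f x = afun (y.out⁻¹ : F.autGroup Q).1 x := by
  have hsS : stab h y ≤ S := Subgroup.map_subtype_le _
  obtain ⟨f, hf, hag⟩ := (receptive_iff.mp h.receptive).2 Q _ (stab h y)
    (mor_afun (y.out⁻¹) h) (im_afun _) hsS (hsS.trans (le_normalizer_of_normal h.hn)) (by
      intro g hg
      obtain ⟨hgS, e⟩ := (mem_stab h).mp hg
      rw [← QuotientGroup.out_eq' y, MulAction.Quotient.smul_mk, QuotientGroup.eq] at e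
      obtain ⟨s, hs⟩ := e
      refine ⟨((s⁻¹ : S) : Ω), (s⁻¹).2, fun x hx => ?_⟩
      have e' : y.out⁻¹ * cA h ⟨g, hgS⟩ = cA h s⁻¹ * y.out⁻¹ := by
        rw [map_inv, hs, smul_eq_mul]
        simp only [mul_inv_rev, inv_inv]
        group
      rw [← afun_cA h ⟨g, hgS⟩ hx, ← afun_cA h s⁻¹ (afun_mem _ hx), ← afun_mul _ _ hx,
        ← afun_mul _ _ hx]
      exact congrArg (fun a : F.autGroup Q => afun (a : MulAut Q) x) e')
  exact ⟨f, hf.restrict_to le_sup_right, hag⟩

/-- The chosen extension of `y.out⁻¹` to the stabilizer of `y`. -/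
noncomputable def psi (y : Cos h) : Ω → Ω := (exists_psi h y).choose

theorem psi_spec (y : Cos h) :
    Mor F (stab h y) (psi h y) ∧ ∀ x ∈ Q, psi h y x = afun (y.out⁻¹ : F.autGroup Q).1 x :=
  (exists_psi h y).choose_spec

theorem cA_psi {y : Cos h} {e : S} (he : (e : Ω) ∈ stab h y) (he' : psi h y e ∈ S) :
    cA h ⟨psi h y e, he'⟩ = y.out⁻¹ * cA h e * y.out := by
  obtain ⟨hm, hq⟩ := psi_spec h y
  refine Subtype.ext (afun_ext fun x hx => ?_)
  have hx' := afun_mem (y.out : MulAut Q) hx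
  have hex : cj (e : Ω) (afun (y.out : MulAut Q) x) ∈ Q :=
    cj_mem_of_normalizer (le_normalizer_of_normal h.hn e.2) hx'
  have e1 : psi h y (afun (y.out : MulAut Q) x) = x := by
    rw [hq _ hx', Subgroup.coe_inv, afun_inv_apply _ hx]
  rw [afun_cA h _ hx, Subgroup.coe_mul, Subgroup.coe_mul, afun_mul _ _ hx, afun_mul _ _ hx',
    afun_cA h e hx', ← hq _ hex, hm.map_cj he (le_stab h y hx'), e1]

/-- The orbit relation of `S` on cosets. -/
def orbSetoid : Setoid (Cos h) where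
  r y y' := ∃ s : S, cA h s • y = y'
  iseqv := ⟨fun y => ⟨1, by rw [map_one, one_smul]⟩,
    fun ⟨s, e⟩ => ⟨s⁻¹, by rw [← e, map_inv, inv_smul_smul]⟩,
    fun ⟨s, e⟩ ⟨t, e'⟩ => ⟨t * s, by rw [map_mul, mul_smul, e, e']⟩⟩

/-- The base point of the orbit. -/
noncomputable def base (y : Cos h) : Cos h :=
  (Quotient.mk (orbSetoid h) y).out

omit [Fact p.Prime] in
theorem base_smul (s : S) (y : Cos h) : base h (cA h s • y) = base h y := by
  unfold base
  rw [Quotient.sound (s := orbSetoid h) (show (orbSetoid h).r (cA h s • y) y from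
    ⟨s⁻¹, by rw [map_inv, inv_smul_smul]⟩)]

omit [Fact p.Prime] in
theorem exists_tau (y : Cos h) : ∃ s : S, cA h s • base h y = y :=
  Quotient.exact (s := orbSetoid h) (Quotient.out_eq _)

/-- An element of `S` moving the base point to `y`. -/
noncomputable def tau (y : Cos h) : S := (exists_tau h y).choose

omit [Fact p.Prime] in
theorem tau_spec (y : Cos h) : cA h (tau h y) • base h y = y := (exists_tau h y).choose_spec

/-- The representative of `y`. -/
noncomputable def rep (y : Cos h) : F.autGroup Q := cA h (tau h y) * (base h y).out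

omit [Fact p.Prime] in
theorem mk_rep (y : Cos h) : (QuotientGroup.mk (rep h y) : Cos h) = y := by
  conv_rhs => rw [← tau_spec h y, ← QuotientGroup.out_eq' (base h y)]
  rfl

omit [Fact p.Prime] in
theorem elem_mem (s : S) (y : Cos h) :
    (((tau h (cA h s • y))⁻¹ * s * tau h y : S) : Ω) ∈ stab h (base h y) := by
  refine (mem_stab h).mpr ⟨((tau h (cA h s • y))⁻¹ * s * tau h y).2, ?_⟩
  rw [show (⟨_, ((tau h (cA h s • y))⁻¹ * s * tau h y).2⟩ : S) =
    (tau h (cA h s • y))⁻¹ * s * tau h y from rfl, map_mul, map_mul, map_inv, mul_smul, mul_smul,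
    tau_spec, inv_smul_eq_iff]
  rw [← base_smul h s y, tau_spec]

/-- The cocycle of `S` on cosets. -/
noncomputable def gam (s : S) (y : Cos h) : S :=
  ⟨psi h (base h y) (((tau h (cA h s • y))⁻¹ * s * tau h y : S) : Ω),
    (psi_spec h (base h y)).1.apply_mem (elem_mem h s y)⟩

theorem gam_spec (s : S) (y : Cos h) :
    rep h (cA h s • y) * cA h (gam h s y) = cA h s * rep h y := by
  rw [gam, cA_psi h (elem_mem h s y), rep, rep, base_smul, map_mul, map_mul, map_inv]
  group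

theorem gam_mul (s t : S) (y : Cos h) :
    gam h (s * t) y = gam h s (cA h t • y) * gam h t y := by
  have e : cA h (s * t) • y = cA h s • cA h t • y := by rw [map_mul, mul_smul]
  apply Subtype.ext
  show psi h (base h y) _ = psi h (base h (cA h t • y)) _ * psi h (base h y) _
  have h1 := elem_mem h s (cA h t • y)
  rw [base_smul] at h1 ⊢
  rw [← (psi_spec h (base h y)).1.map_mul h1 (elem_mem h t y)]
  congr 1
  rw [e]
  simp only [Subgroup.coe_mul, Subgroup.coe_inv]
  group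

/-! ### The extension `Γ` -/

/-- The map `Y × S → A`. -/
noncomputable def proj (x : Cos h × S) : F.autGroup Q := rep h x.1 * cA h x.2

/-- The extension of `Aut_F(Q)` by `Z(Q)^Y`. -/
def gamma : Subgroup (F.autGroup Q × Equiv.Perm (Cos h × S)) where
  carrier := {g | (∀ y u v, g.2 (y, u * v) = ((g.2 (y, u)).1, (g.2 (y, u)).2 * v)) ∧
    ∀ x, proj h (g.2 x) = g.1 * proj h x}
  one_mem' := ⟨fun _ _ _ => rfl, fun _ => (one_mul _).symm⟩
  mul_mem' {a b} := fun ⟨ha, ha'⟩ ⟨hb, hb'⟩ => ⟨fun y u v => by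
      show a.2 (b.2 (y, u * v)) = _
      rw [hb, ha]
      rfl,
    fun x => by
      show proj h (a.2 (b.2 x)) = a.1 * b.1 * proj h x
      rw [ha', hb', mul_assoc]⟩
  inv_mem' {a} := fun ⟨ha, ha'⟩ => ⟨fun y u v => by
      show a.2⁻¹ (y, u * v) = _
      rw [Equiv.Perm.inv_def, Equiv.symm_apply_eq, ha]
      simp,
    fun x => by
      have := ha' (a.2⁻¹ x)
      rw [Equiv.Perm.inv_def, Equiv.apply_symm_apply] at this
      show proj h (a.2.symm x) = a.1⁻¹ * proj h x
      rw [this, inv_mul_cancel_left]⟩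

variable {h}

/-- The `A`-component. -/
def fstHom : gamma h →* F.autGroup Q :=
  (MonoidHom.fst _ _).comp (gamma h).subtype

/-- The `S`-component at a coset. -/
def wc (g : gamma h) (y : Cos h) : S := (g.1.2 (y, 1)).2

omit [Fact p.Prime] in
theorem fst_smul_eq {h : Hyp p F Q} {y y' : Cos h} {α : F.autGroup Q} {u v : S}
    [Fact p.Prime] (e : rep h y' * cA h u = α * (rep h y * cA h v)) : y' = α • y := by
  conv_lhs => rw [← mk_rep h y']
  conv_rhs => rw [← mk_rep h y, MulAction.Quotient.smul_mk]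
  rw [QuotientGroup.eq]
  refine ⟨u * v⁻¹, ?_⟩
  rw [map_mul, map_inv, smul_eq_mul]
  rw [eq_inv_mul_iff_mul_eq, ← mul_assoc, e]
  group

theorem apply_eq (g : gamma h) (y : Cos h) (u : S) :
    g.1.2 (y, u) = (fstHom g • y, wc g y * u) := by
  have h1 := g.2.1 y 1 u
  rw [one_mul] at h1
  rw [h1]
  refine Prod.ext ?_ rfl
  have h2 := g.2.2 (y, 1)
  exact fst_smul_eq h2

theorem wc_spec (g : gamma h) (y : Cos h) :
    rep h (fstHom g • y) * cA h (wc g y) = fstHom g * rep h y := by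
  have h2 := g.2.2 (y, 1)
  rw [apply_eq, mul_one, proj, proj, map_one, mul_one] at h2
  exact h2

theorem wc_mul (g g' : gamma h) (y : Cos h) :
    wc (g * g') y = wc g (fstHom g' • y) * wc g' y := by
  show (g.1.2 (g'.1.2 (y, 1))).2 = _
  rw [apply_eq g' y 1, mul_one, apply_eq g]

omit [Fact p.Prime] in
theorem wc_one (y : Cos h) : wc (1 : gamma h) y = 1 := rfl

theorem gamma_ext {g g' : gamma h} (e : fstHom g = fstHom g') (e' : ∀ y, wc g y = wc g' y) :
    g = g' := by
  refine Subtype.ext (Prod.ext e (Equiv.ext fun ⟨y, u⟩ => ?_))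
  rw [apply_eq, apply_eq, e, e']

/-- The permutation with the given components. -/
def mkPerm (α : F.autGroup Q) (σ : Cos h → S) : Equiv.Perm (Cos h × S) where
  toFun x := (α • x.1, σ x.1 * x.2)
  invFun x := (α⁻¹ • x.1, (σ (α⁻¹ • x.1))⁻¹ * x.2)
  left_inv x := by simp
  right_inv x := by simp

/-- The element of `Γ` with given components. -/
def mkG (α : F.autGroup Q) (σ : Cos h → S)
    (hσ : ∀ y, rep h (α • y) * cA h (σ y) = α * rep h y) : gamma h :=
  ⟨(α, mkPerm α σ), fun y u v => Prod.ext rfl (mul_assoc _ _ _).symm, fun x => by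
    show rep h (α • x.1) * cA h (σ x.1 * x.2) = α * (rep h x.1 * cA h x.2)
    rw [map_mul, ← mul_assoc, hσ, mul_assoc]⟩

omit [Fact p.Prime] in
theorem fst_mkG (α : F.autGroup Q) (σ : Cos h → S)
    (hσ : ∀ y, rep h (α • y) * cA h (σ y) = α * rep h y) : fstHom (mkG α σ hσ) = α := rfl

omit [Fact p.Prime] in
theorem wc_mkG (α : F.autGroup Q) (σ : Cos h → S)
    (hσ : ∀ y, rep h (α • y) * cA h (σ y) = α * rep h y) (y : Cos h) :
    wc (mkG α σ hσ) y = σ y := mul_one _

omit [Fact p.Prime] in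
theorem fst_surjective : Function.Surjective (fstHom (h := h)) := by
  intro α
  have : ∀ y : Cos h, ∃ s : S, cA h s = (rep h (α • y))⁻¹ * (α * rep h y) := fun y => by
    refine MonoidHom.mem_range.mp (QuotientGroup.eq.mp ?_)
    rw [mk_rep]
    conv_lhs => rw [← mk_rep h y, MulAction.Quotient.smul_mk]
    rfl
  choose σ hσ using this
  exact ⟨mkG α σ fun y => by rw [hσ, mul_inv_cancel_left], rfl⟩

variable (h)

/-- The embedding of `S` into `Γ`. -/
noncomputable def lam : S →* gamma h where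
  toFun s := mkG (cA h s) (gam h s) (gam_spec h s)
  map_one' := by
    refine gamma_ext (map_one (cA h)) fun y => ?_
    rw [wc_mkG, wc_one]
    have := gam_mul h 1 1 y
    rw [mul_one, map_one, one_smul] at this
    exact mul_left_cancel (this.symm.trans (mul_one _).symm)
  map_mul' s t := by
    refine gamma_ext (map_mul (cA h) s t) fun y => ?_
    rw [wc_mkG, wc_mul, wc_mkG, wc_mkG, fst_mkG, gam_mul]

theorem fst_lam (s : S) : fstHom (lam h s) = cA h s := rfl

theorem wc_lam (s : S) (y : Cos h) : wc (lam h s) y = gam h s y := wc_mkG _ _ (gam_spec h s) _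

theorem coe_wc_lam_Q {q : S} (hq : (q : Ω) ∈ Q) (y : Cos h) :
    ((wc (lam h q) y : S) : Ω) = afun ((rep h y)⁻¹ : F.autGroup Q).1 q := by
  rw [wc_lam]
  show psi h (base h y) _ = _
  rw [q_smul h q hq y]
  have e : (((tau h y)⁻¹ * q * tau h y : S) : Ω) = cj ((tau h y : Ω))⁻¹ q := by
    simp [cj_apply, mul_assoc]
  have hmem : cj ((tau h y : Ω))⁻¹ (q : Ω) ∈ Q :=
    cj_mem_of_normalizer (inv_mem (le_normalizer_of_normal h.hn (tau h y).2)) hq
  rw [e, (psi_spec h _).2 _ hmem, rep, mul_inv_rev, Subgroup.coe_mul, afun_mul _ _ hq, ← map_inv,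
    afun_cA h _ hq]
  rfl

theorem conj_lam_Q (g : gamma h) {q : S} (hq : (q : Ω) ∈ Q) :
    g * lam h q * g⁻¹ = lam h ⟨afun (fstHom g : MulAut Q) q, h.le (afun_mem _ hq)⟩ := by
  rw [mul_inv_eq_iff_eq_mul]
  set q' : S := ⟨afun (fstHom g : MulAut Q) q, h.le (afun_mem _ hq)⟩
  have hq' : (q' : Ω) ∈ Q := afun_mem _ hq
  refine gamma_ext ?_ fun y => ?_
  · rw [map_mul, map_mul, fst_lam, fst_lam, ← mul_inv_eq_iff_eq_mul]
    exact conj_cA h _ hq
  · rw [wc_mul, wc_mul, fst_lam, q_smul h q hq]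
    apply Subtype.ext
    rw [Subgroup.coe_mul, Subgroup.coe_mul, coe_wc_lam_Q h hq, coe_wc_lam_Q h hq']
    have e : (rep h (fstHom g • y))⁻¹ * fstHom g = cA h (wc g y) * (rep h y)⁻¹ := by
      rw [eq_mul_inv_iff_mul_eq, mul_assoc, ← wc_spec, inv_mul_cancel_left]
    have e' := congrArg (fun a : F.autGroup Q => afun (a : MulAut Q) (q : Ω)) e
    simp only [Subgroup.coe_mul] at e'
    rw [afun_mul _ _ hq, afun_mul _ _ hq, afun_cA h _ (afun_mem _ hq)] at e'
    show _ = afun _ (afun _ (q : Ω)) * _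
    rw [e', cj_apply]
    group

/-! ### `F`-valued homomorphisms into `Γ` and their conjugacy -/

variable {h}

/-- The stabilizer of `y` under a homomorphism into `Γ`. -/
def fixOf {R : Subgroup Ω} (a : R →* gamma h) (y : Cos h) : Subgroup Ω :=
  ((MulAction.stabilizer (F.autGroup Q) y).comap (fstHom.comp a)).map R.subtype

omit [Fact p.Prime] in
theorem mem_fixOf {R : Subgroup Ω} {a : R →* gamma h} {y : Cos h} {x : Ω} :
    x ∈ fixOf a y ↔ ∃ hx : x ∈ R, fstHom (a ⟨x, hx⟩) • y = y := by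
  constructor
  · rintro ⟨s, hs, rfl⟩; exact ⟨s.2, hs⟩
  · rintro ⟨hx, e⟩; exact ⟨⟨x, hx⟩, e, rfl⟩

/-- On each stabilizer the `S`-component is a map of `F`. -/
def Valued {R : Subgroup Ω} (a : R →* gamma h) : Prop :=
  ∀ y : Cos h, ∃ f, Mor F (fixOf a y) f ∧
    ∀ (x : R), fstHom (a x) • y = y → f x = (wc (a x) y : Ω)

/-- `a` is `λ` on `Q`. -/
def OnQ {R : Subgroup Ω} (a : R →* gamma h) (f : Ω → Ω) : Prop :=
  ∀ (x : R) (_ : (x : Ω) ∈ Q), ∃ hf : f x ∈ S, f x ∈ Q ∧ a x = lam h ⟨f x, hf⟩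

theorem valued_lam_comp {R : Subgroup Ω} {f : Ω → Ω} (hf : Mor F R f) (φ : R →* S)
    (hφ : ∀ x : R, (φ x : Ω) = f x) : Valued ((lam h).comp φ) := by
  intro y
  have hR : fixOf ((lam h).comp φ) y ≤ R := Subgroup.map_subtype_le _
  have hval : ∀ x ∈ fixOf ((lam h).comp φ) y,
      cj ((tau h y : Ω))⁻¹ (f x) ∈ stab h (base h y) := by
    intro x hx
    obtain ⟨hxR, e⟩ := mem_fixOf.mp hx
    have hm := elem_mem h (φ ⟨x, hxR⟩) y
    rw [show cA h (φ ⟨x, hxR⟩) • y = y from e] at hm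
    convert hm using 1
    simp [cj_apply, hφ, mul_assoc]
  have h1 : Mor F (fixOf ((lam h).comp φ) y) (cj ((tau h y : Ω))⁻¹ ∘ f) :=
    (hf.restrict_to hR).comp (mor_cj le_rfl (inv_mem (tau h y).2))
      fun x hx => (hf.restrict_to hR).apply_mem hx
  refine ⟨_, h1.comp (psi_spec h (base h y)).1 hval, fun x hx => ?_⟩
  show _ = ((wc (lam h (φ x)) y : S) : Ω)
  rw [wc_lam]
  show psi h (base h y) _ = psi h (base h y) _
  rw [show cA h (φ x) • y = y from hx]
  congr 1
  simp [cj_apply, hφ, mul_assoc]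

theorem valued_conj {R : Subgroup Ω} {a : R →* gamma h} (ha : Valued a) (g : gamma h) :
    Valued ((MulAut.conj g).toMonoidHom.comp a) := by
  intro y
  set y' := (fstHom g)⁻¹ • y with hy'
  obtain ⟨f, hf, he⟩ := ha y'
  set s := wc g y'
  have hstab : ∀ x : R, fstHom ((MulAut.conj g).toMonoidHom.comp a x) • y = y →
      fstHom (a x) • y' = y' := by
    intro x hx
    change fstHom (g * a x * g⁻¹) • y = y at hx
    rw [map_mul, map_mul, map_inv, mul_smul, mul_smul, ← eq_inv_smul_iff] at hx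
    exact hx
  have hle : fixOf ((MulAut.conj g).toMonoidHom.comp a) y ≤ fixOf a y' := by
    intro x hx
    obtain ⟨hxR, e⟩ := mem_fixOf.mp hx
    exact mem_fixOf.mpr ⟨hxR, hstab _ e⟩
  refine ⟨_, (hf.restrict_to hle).comp (mor_cj le_rfl s.2)
    fun x hx => (hf.restrict_to hle).apply_mem hx, fun x hx => ?_⟩
  show cj (s : Ω) (f x) = _
  rw [he x (hstab x hx)]
  show _ = ((wc (g * a x * g⁻¹) y : S) : Ω)
  have e1 : fstHom g⁻¹ • y = y' := by rw [map_inv]
  rw [wc_mul, e1, wc_mul, hstab x hx]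
  have e2 : s * wc g⁻¹ y = 1 := by
    have := wc_mul g g⁻¹ y
    rw [mul_inv_cancel, wc_one, e1] at this
    exact this.symm
  rw [eq_inv_of_mul_eq_one_right e2]
  rfl

/-- Two `F`-valued homomorphisms over the same map that agree on `Q` are conjugate by an element
over `1`. -/
theorem exists_conj {R : Subgroup Ω} (hQR : Q ≤ R) (hRS : R ≤ S) {a b : R →* gamma h}
    (hfst : ∀ x, fstHom (a x) = fstHom (b x)) (ha : Valued a) (hb : Valued b) {f : Ω → Ω}
    (haQ : OnQ a f) (hbQ : OnQ b f) :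
    ∃ k : gamma h, fstHom k = 1 ∧ ∀ x, k * a x = b x * k := by
  have hfixQ : ∀ y, Q ≤ fixOf a y := fun y x hx => by
    obtain ⟨hf, hfQ, e⟩ := haQ ⟨x, hQR hx⟩ hx
    exact mem_fixOf.mpr ⟨hQR hx, by rw [e, fst_lam]; exact q_smul h _ hfQ y⟩
  have hz : ∀ y : Cos h, ∃ z : S, z ∈ (cA h).ker ∧ ∀ x : R, fstHom (a x) • y = y →
      wc (b x) y * z = z * wc (a x) y := by
    intro y
    obtain ⟨fa, hfa, hae⟩ := ha y
    obtain ⟨fb, hfb, hbe⟩ := hb y
    have hfix : fixOf b y = fixOf a y := by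
      ext x
      simp only [mem_fixOf, hfst]
    rw [hfix] at hfb
    have hRn : fixOf a y ≤ Subgroup.normalizer (Q : Set Ω) :=
      (Subgroup.map_subtype_le _).trans (hRS.trans (le_normalizer_of_normal h.hn))
    have hagree : ∀ x ∈ Q, fb x = fa x := by
      intro x hx
      obtain ⟨hxR, e⟩ := mem_fixOf.mp (hfixQ y hx)
      rw [hae ⟨x, hxR⟩ e, hbe ⟨x, hxR⟩ (by rw [← hfst]; exact e)]
      obtain ⟨_, -, e1⟩ := haQ ⟨x, hxR⟩ hx
      obtain ⟨_, -, e2⟩ := hbQ ⟨x, hxR⟩ hx
      rw [e1, e2]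
    obtain ⟨z₀, hz₀Q, hz₀C, hz₀⟩ :=
      FusCentric.extension_unique h.hS h.hF h.hc (hfixQ y) hRn hfb hfa hagree
    have hQ' : im Q fa = Q := (hfa.restrict_to (hfixQ y)).im_self fun x hx =>
      normal_invariant h.hn hfa (hfixQ y hx) hx
    refine ⟨⟨fa z₀, hfa.apply_mem (hfixQ y hz₀Q)⟩,
      (mem_ker h).mpr (mem_centralizerIn.mpr ⟨hfa.apply_mem (hfixQ y hz₀Q), fun w hw => ?_⟩),
      fun x hx => Subtype.ext ?_⟩
    · obtain ⟨v, hv, rfl⟩ := (hfa.restrict_to (hfixQ y)).mem_im.mp (hQ'.symm ▸ hw)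
      show cj (fa z₀) (fa v) = fa v
      rw [← hfa.map_cj (hfixQ y hz₀Q) (hfixQ y hv), (mem_centralizerIn.mp hz₀C).2 v hv]
    · have hxf : (x : Ω) ∈ fixOf a y := mem_fixOf.mpr ⟨x.2, hx⟩
      rw [Subgroup.coe_mul, Subgroup.coe_mul, ← hae x hx, ← hbe x (by rw [← hfst]; exact hx)]
      rw [hz₀ _ hxf, hfa.map_cj (hfixQ y hz₀Q) hxf, cj_apply, inv_mul_cancel_right]
  choose z hzk hze using hz
  -- orbits of `R`
  let sd : Setoid (Cos h) :=
    { r := fun y y' => ∃ x : R, fstHom (a x) • y = y'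
      iseqv := ⟨fun y => ⟨1, by rw [map_one, map_one, one_smul]⟩,
        fun ⟨s, e⟩ => ⟨s⁻¹, by rw [← e, map_inv, map_inv, inv_smul_smul]⟩,
        fun ⟨s, e⟩ ⟨t, e'⟩ => ⟨t * s, by rw [map_mul, map_mul, mul_smul, e, e']⟩⟩ }
  let b0 : Cos h → Cos h := fun y => (Quotient.mk sd y).out
  have hb0 : ∀ y, ∃ x : R, fstHom (a x) • b0 y = y := fun y =>
    Quotient.exact (s := sd) (Quotient.out_eq _)
  choose u hu using hb0
  have hb0s : ∀ (x : R) (y : Cos h), b0 (fstHom (a x) • y) = b0 y := by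
    intro x y
    show (Quotient.mk sd _).out = (Quotient.mk sd y).out
    rw [Quotient.sound (s := sd) (show sd.r (fstHom (a x) • y) y from
      ⟨x⁻¹, by rw [map_inv, map_inv, inv_smul_smul]⟩)]
  let kk : Cos h → S := fun y =>
    wc (b (u y)) (b0 y) * z (b0 y) * (wc (a (u y)) (b0 y))⁻¹
  have hkk : ∀ y, rep h ((1 : F.autGroup Q) • y) * cA h (kk y) = 1 * rep h y := by
    intro y
    have e1 := wc_spec (a (u y)) (b0 y)
    have e2 := wc_spec (b (u y)) (b0 y)
    rw [← hfst] at e2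
    have e3 : cA h (wc (a (u y)) (b0 y)) = cA h (wc (b (u y)) (b0 y)) :=
      mul_left_cancel (e1.trans e2.symm)
    rw [one_smul, one_mul]
    show rep h y * cA h (_ * _ * _⁻¹) = rep h y
    rw [map_mul, map_mul, map_inv, MonoidHom.mem_ker.mp (hzk _), e3, mul_one, mul_inv_cancel,
      mul_one]
  refine ⟨mkG 1 kk hkk, rfl, fun x => gamma_ext ?_ fun y => ?_⟩
  · rw [map_mul, map_mul, fst_mkG, one_mul, mul_one, hfst]
  · rw [wc_mul, wc_mul, wc_mkG, wc_mkG, fst_mkG, one_smul]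
    set y₀ := b0 y with hy₀
    set y' := fstHom (a x) • y with hy'
    set v := (u y')⁻¹ * x * u y with hv
    have hvfix : fstHom (a v) • y₀ = y₀ := by
      simp only [hv, map_mul, map_inv, mul_smul]
      rw [hu, inv_smul_eq_iff]
      show y' = _
      exact (hu y').symm.trans (congrArg _ (hb0s x y))
    have hvb : fstHom (b v) • y₀ = y₀ := by rw [← hfst]; exact hvfix
    have hmul : x * u y = u y' * v := by rw [hv]; group
    have ea : wc (a x) y * wc (a (u y)) y₀ = wc (a (u y')) y₀ * wc (a v) y₀ := by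
      have e1 := wc_mul (a x) (a (u y)) y₀
      have e2 := wc_mul (a (u y')) (a v) y₀
      rw [← map_mul, hu] at e1
      rw [← map_mul, hvfix] at e2
      rw [← e1, ← e2, hmul]
    have eb : wc (b x) y * wc (b (u y)) y₀ = wc (b (u y')) y₀ * wc (b v) y₀ := by
      have e1 := wc_mul (b x) (b (u y)) y₀
      have e2 := wc_mul (b (u y')) (b v) y₀
      rw [← map_mul, ← hfst (u y), hu] at e1
      rw [← map_mul, hvb] at e2
      rw [← e1, ← e2, hmul]
    show kk y' * wc (a x) y = wc (b x) y * kk y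
    have eb0 : b0 y' = y₀ := hb0s x y
    simp only [kk, eb0, ← hy₀]
    have ea' : (wc (a (u y')) y₀)⁻¹ * wc (a x) y =
        wc (a v) y₀ * (wc (a (u y)) y₀)⁻¹ := by
      rw [inv_mul_eq_iff_eq_mul, ← mul_assoc, ← ea, mul_inv_cancel_right]
    rw [mul_assoc, ea', ← mul_assoc, mul_assoc (wc (b (u y')) y₀) (z y₀) (wc (a v) y₀),
      ← hze y₀ v hvfix, ← mul_assoc, ← eb]
    simp only [mul_assoc]

/-! ### The norm map and the model -/

variable (h)

omit [Fact p.Prime] in
theorem ker_comm (a b : (cA h).ker) : a * b = b * a := by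
  refine Subtype.ext (Subtype.ext ?_)
  have := (mem_centralizerIn.mp ((mem_ker h).mp a.2)).2 _ (ker_mem h b.2)
  exact mul_inv_eq_iff_eq_mul.mp this

/-- `Z(Q)` is commutative. -/
@[reducible] def kerCommGroup : CommGroup (cA h).ker :=
  { (inferInstance : Group (cA h).ker) with mul_comm := ker_comm h }

attribute [local instance] kerCommGroup

omit [Fact p.Prime] in
theorem afun_ker (α : F.autGroup Q) {z : S} (hz : z ∈ (cA h).ker) :
    (⟨afun (α : MulAut Q) z, h.le (afun_mem _ (ker_mem h hz))⟩ : S) ∈ (cA h).ker := by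
  rw [MonoidHom.mem_ker, ← conj_cA h α (ker_mem h hz), MonoidHom.mem_ker.mp hz, mul_one,
    mul_inv_cancel]

/-- The action of `Aut_F(Q)` on `Z(Q)`. -/
noncomputable def aZ (α : F.autGroup Q) : (cA h).ker →* (cA h).ker where
  toFun z := ⟨_, afun_ker h α z.2⟩
  map_one' := Subtype.ext (Subtype.ext (mor_afun α h).map_one)
  map_mul' a b := Subtype.ext (Subtype.ext
    ((mor_afun α h).map_mul (ker_mem h a.2) (ker_mem h b.2)))

/-- The elements of `Γ` over `1`. -/
abbrev kp : Subgroup (gamma h) := (fstHom (h := h)).ker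

theorem wc_kp {k : gamma h} (hk : k ∈ kp h) (y : Cos h) : wc k y ∈ (cA h).ker := by
  have := wc_spec k y
  rw [MonoidHom.mem_ker.mp hk, one_smul, one_mul] at this
  exact MonoidHom.mem_ker.mpr (mul_left_cancel (this.trans (mul_one _).symm))

theorem finite_cos (h : Hyp p F Q) : Finite (Cos h) := inferInstance

attribute [local instance] Fintype.ofFinite

/-- The norm map. -/
noncomputable def norm : kp h →* (cA h).ker where
  toFun k := ∏ y : Cos h, aZ h (rep h y) ⟨wc (k : gamma h) y, wc_kp h k.2 y⟩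
  map_one' := Finset.prod_eq_one fun y _ => map_one (aZ h (rep h y))
  map_mul' k l := by
    rw [← Finset.prod_mul_distrib]
    refine Finset.prod_congr rfl fun y _ => ?_
    rw [← map_mul]
    refine congrArg _ (Subtype.ext ?_)
    show wc ((k : gamma h) * (l : gamma h)) y = wc (k : gamma h) y * wc (l : gamma h) y
    rw [wc_mul, MonoidHom.mem_ker.mp l.2, one_smul]

/-- The kernel of the norm map. -/
noncomputable def k0 : Subgroup (gamma h) := (norm h).ker.map (kp h).subtype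

theorem aZ_conj (g : gamma h) (k : kp h) (y : Cos h) :
    aZ h (rep h (fstHom g • y))
        ⟨wc (g * (k : gamma h) * g⁻¹) (fstHom g • y),
          wc_kp h ((inferInstance : (kp h).Normal).conj_mem _ k.2 g) _⟩ =
      aZ h (fstHom g) (aZ h (rep h y) ⟨wc (k : gamma h) y, wc_kp h k.2 y⟩) := by
  have hk1 := MonoidHom.mem_ker.mp k.2
  have hwk := wc_kp h k.2 y
  have e1 : wc (g * (k : gamma h) * g⁻¹) (fstHom g • y) = wc g y * wc (k : gamma h) y * (wc g y)⁻¹ := by
    rw [wc_mul, map_inv, inv_smul_smul, wc_mul, hk1, one_smul]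
    congr 1
    have := wc_mul g g⁻¹ (fstHom g • y)
    rw [mul_inv_cancel, wc_one, map_inv, inv_smul_smul] at this
    exact eq_inv_of_mul_eq_one_right this.symm
  refine Subtype.ext (Subtype.ext ?_)
  show afun _ ((wc (g * (k : gamma h) * g⁻¹) (fstHom g • y) : S) : Ω) =
    afun _ (afun _ ((wc (k : gamma h) y : S) : Ω))
  rw [e1]
  show afun _ (cj (wc g y : Ω) (wc (k : gamma h) y : Ω)) = _
  rw [← afun_cA h _ (ker_mem h hwk), ← afun_mul _ _ (ker_mem h hwk),
    ← afun_mul _ _ (ker_mem h hwk), ← Subgroup.coe_mul, wc_spec, Subgroup.coe_mul]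

theorem k0_normal : (k0 h).Normal := by
  constructor
  rintro _ ⟨k, hk, rfl⟩ g
  refine ⟨⟨g * k * g⁻¹, (inferInstance : (kp h).Normal).conj_mem _ k.2 g⟩, ?_, rfl⟩
  rw [SetLike.mem_coe, MonoidHom.mem_ker] at hk ⊢
  show ∏ y : Cos h, _ = 1
  rw [← Equiv.prod_comp (MulAction.toPerm (fstHom g)) _]
  simp only [MulAction.toPerm_apply, aZ_conj]
  rw [← map_prod, show (∏ y : Cos h, aZ h (rep h y) ⟨wc (k : gamma h) y, wc_kp h k.2 y⟩) = 1 from hk,
    map_one]

attribute [local instance] k0_normal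

/-- The model. -/
abbrev Model : Type u := gamma h ⧸ k0 h

/-- The embedding of `S` in the model. -/
noncomputable def iota : S →* Model h := (QuotientGroup.mk' (k0 h)).comp (lam h)

/-- The map of the model onto `Aut_F(Q)`. -/
noncomputable def modelFst : Model h →* F.autGroup Q :=
  QuotientGroup.lift (k0 h) fstHom (by rintro _ ⟨k, -, rfl⟩; exact k.2)

theorem modelFst_mk (g : gamma h) : modelFst h (QuotientGroup.mk g) = fstHom g := rfl

theorem modelFst_surjective : Function.Surjective (modelFst h) := fun α => by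
  obtain ⟨g, rfl⟩ := fst_surjective (h := h) α
  exact ⟨_, modelFst_mk h g⟩

theorem modelFst_iota (s : S) : modelFst h (iota h s) = cA h s := rfl

theorem norm_lam (z : (cA h).ker) :
    norm h ⟨lam h z, MonoidHom.mem_ker.mpr (MonoidHom.mem_ker.mp z.2)⟩ =
      z ^ Nat.card (Cos h) := by
  rw [Nat.card_eq_fintype_card, ← Finset.card_univ]
  refine (Finset.prod_congr rfl fun y _ => ?_).trans (Finset.prod_const z)
  refine Subtype.ext (Subtype.ext ?_)
  show afun _ ((wc (lam h z) y : S) : Ω) = _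
  rw [coe_wc_lam_Q h (ker_mem h z.2), Subgroup.coe_inv, afun_apply_inv _ (ker_mem h z.2)]

theorem not_dvd_card_cos : ¬ p ∣ Nat.card (Cos h) := by
  have hfn : F.IsFullyNormalized Q := ⟨h.le, fun R hR => by
    obtain ⟨f, hf, rfl⟩ := FusionSysBasic.isConj_iff.mp hR
    rw [hf.im_self fun x hx => normal_invariant h.hn hf hx hx]⟩
  obtain ⟨T, hT⟩ := (fullyAutomized_of_fullyNormalized h.hS h.hF hfn).2
  have e : (autInducedBy S Q).subgroupOf (F.autGroup Q) = (cA h).range := by
    ext α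
    rw [Subgroup.mem_subgroupOf, mem_autInducedBy, MonoidHom.mem_range]
    constructor
    · rintro ⟨g, hg, -, he⟩
      exact ⟨⟨g, hg⟩, Subtype.ext (afun_ext fun x hx => by rw [afun_cA h _ hx, he x hx])⟩
    · rintro ⟨s, rfl⟩
      exact ⟨s, s.2, le_normalizer_of_normal h.hn s.2, fun x hx => afun_cA h s hx⟩
  have := T.not_dvd_index
  rw [hT, e] at this
  exact this

theorem coprime_card : (Nat.card (cA h).ker).Coprime (Nat.card (Cos h)) := by
  obtain ⟨k, hk⟩ := IsPGroup.iff_card.mp ((h.hS).to_subgroup (cA h).ker)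
  rw [hk]
  exact Nat.Coprime.pow_left k
    (((Fact.out (p := p.Prime)).coprime_iff_not_dvd).mpr (not_dvd_card_cos h))

theorem ker_modelFst : (modelFst h).ker = (cA h).ker.map (iota h) := by
  ext x
  constructor
  · intro hx
    obtain ⟨g, rfl⟩ := QuotientGroup.mk_surjective x
    have hg : g ∈ kp h := hx
    set z := (powCoprime (coprime_card h)).symm (norm h ⟨g, hg⟩)
    have hz : z ^ Nat.card (Cos h) = norm h ⟨g, hg⟩ :=
      (powCoprime (coprime_card h)).apply_symm_apply _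
    refine ⟨z, z.2, QuotientGroup.eq.mpr ?_⟩
    set l : kp h := ⟨lam h z, MonoidHom.mem_ker.mpr (MonoidHom.mem_ker.mp z.2)⟩
    refine ⟨l⁻¹ * ⟨g, hg⟩, MonoidHom.mem_ker.mpr ?_, rfl⟩
    rw [map_mul, map_inv, norm_lam, hz, inv_mul_cancel]
  · rintro ⟨z, hz, rfl⟩
    exact hz

theorem iota_injective : Function.Injective (iota h) := by
  rw [injective_iff_map_eq_one]
  intro s hs
  have h1 : cA h s = 1 := by rw [← modelFst_iota, hs, map_one]
  obtain ⟨k, hk, hke⟩ := (QuotientGroup.eq_one_iff _).mp hs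
  have hk' : k = ⟨lam h (⟨s, h1⟩ : (cA h).ker), MonoidHom.mem_ker.mpr h1⟩ := Subtype.ext hke
  rw [SetLike.mem_coe, MonoidHom.mem_ker, hk', norm_lam] at hk
  have h2 : (⟨s, h1⟩ : (cA h).ker) = 1 :=
    (powCoprime (coprime_card h)).injective (hk.trans (one_pow _).symm)
  exact congrArg Subtype.val h2

theorem conj_iota_Q (x : Model h) {q : S} (hq : (q : Ω) ∈ Q) :
    x * iota h q * x⁻¹ = iota h ⟨afun (modelFst h x : MulAut Q) q, h.le (afun_mem _ hq)⟩ := by
  obtain ⟨g, rfl⟩ := QuotientGroup.mk_surjective x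
  exact congrArg (QuotientGroup.mk' (k0 h)) (conj_lam_Q h g hq)

theorem finite_model : Finite (Model h) := by
  haveI := finite_cos h
  infer_instance

theorem isRealizedBy : F.IsRealizedBy (iota h) := by
  refine ⟨iota_injective h, fun P hP φ hφ => ?_⟩
  have hR : P ⊔ Q ≤ S := sup_le hP h.le
  let incl : ↥(P ⊔ Q) →* S := Subgroup.inclusion hR
  constructor
  · intro hmem
    obtain ⟨f, hf, hag, him⟩ := (isNormal_iff.mp h.hn).2 P _ (mor_toFun hmem)
    obtain ⟨α, hα, hαe⟩ := (hf.restrict_to le_sup_right).exists_aut him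
    obtain ⟨g, hg⟩ := fst_surjective (h := h) ⟨α, hα⟩
    let fS : ↥(P ⊔ Q) →* S :=
      { toFun := fun x => ⟨f x, hf.apply_mem x.2⟩
        map_one' := Subtype.ext hf.map_one
        map_mul' := fun x y => Subtype.ext (hf.map_mul x.2 y.2) }
    have hval : Valued ((lam h).comp incl) := valued_lam_comp (mor_id hR) incl fun _ => rfl
    have hA : ∀ x : ↥(P ⊔ Q), fstHom (((MulAut.conj g).toMonoidHom.comp ((lam h).comp incl)) x) =
        fstHom (((lam h).comp fS) x) := fun x => by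
      show fstHom (g * lam h (incl x) * g⁻¹) = cA h (fS x)
      rw [map_mul, map_mul, map_inv, fst_lam, hg]
      refine Subtype.ext (afun_ext fun w hw => ?_)
      have hw' := afun_mem α⁻¹ hw
      rw [Subgroup.coe_mul, Subgroup.coe_mul, Subgroup.coe_inv, afun_mul _ _ hw,
        afun_mul _ _ hw', afun_cA h _ hw', afun_cA h _ hw]
      show afun α (cj (x : Ω) (afun α⁻¹ w)) = cj (f x) w
      rw [hαe _ (cj_mem_of_normalizer (le_normalizer_of_normal h.hn (hR x.2)) hw'),
        hf.map_cj x.2 (Subgroup.mem_sup_right hw'), ← hαe _ hw', afun_apply_inv α hw]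
    have hB : OnQ ((MulAut.conj g).toMonoidHom.comp ((lam h).comp incl)) f := fun x hx => by
      refine ⟨hf.apply_mem x.2, hαe x hx ▸ afun_mem α hx, ?_⟩
      show g * lam h (incl x) * g⁻¹ = _
      rw [conj_lam_Q h g (show ((incl x : S) : Ω) ∈ Q from hx)]
      congr 1
      apply Subtype.ext
      show afun (fstHom g : MulAut Q) (x : Ω) = f x
      rw [hg, hαe x hx]
    obtain ⟨k, -, hk⟩ := exists_conj (le_sup_right : Q ≤ P ⊔ Q) hR hA (valued_conj hval g)
      (valued_lam_comp hf fS fun _ => rfl) hB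
      (fun x hx => ⟨hf.apply_mem x.2, hαe x hx ▸ afun_mem α hx, rfl⟩)
    refine ⟨QuotientGroup.mk' (k0 h) (k * g), fun x => ?_⟩
    have e := hk ⟨x, Subgroup.mem_sup_left x.2⟩
    have e1 : fS ⟨(x : Ω), Subgroup.mem_sup_left x.2⟩ = ⟨φ x, hφ x⟩ :=
      Subtype.ext ((hag x x.2).trans (toFun_coe φ x))
    have e2 : k * (g * lam h ⟨x, hP x.2⟩ * g⁻¹) = lam h ⟨φ x, hφ x⟩ * k := by
      rw [← e1]; exact e
    show QuotientGroup.mk' (k0 h) (lam h ⟨φ x, hφ x⟩) =
      QuotientGroup.mk' (k0 h) (k * g) * QuotientGroup.mk' (k0 h) (lam h ⟨x, hP x.2⟩) *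
        (QuotientGroup.mk' (k0 h) (k * g))⁻¹
    rw [← map_mul, ← map_inv, ← map_mul]
    congr 1
    rw [eq_mul_inv_of_mul_eq e2.symm]
    group
  · rintro ⟨X, hX⟩
    obtain ⟨g, rfl⟩ := QuotientGroup.mk_surjective X
    set α := fstHom g with hα
    have hfst : ∀ x : P, α * cA h ⟨x, hP x.2⟩ * α⁻¹ = cA h ⟨φ x, hφ x⟩ := fun x => by
      have := congrArg (modelFst h) (hX x)
      rw [map_mul, map_mul, map_inv, modelFst_iota, modelFst_iota, modelFst_mk] at this
      exact this.symm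
    obtain ⟨θ, hθ, hθQ⟩ := (receptive_iff.mp h.receptive).2 Q _ P (mor_afun α h) (im_afun _) hP
      (hP.trans (le_normalizer_of_normal h.hn)) (by
        intro x hx
        refine ⟨φ ⟨x, hx⟩, hφ _, fun w hw => ?_⟩
        have e := congrArg (fun a : F.autGroup Q => afun (a : MulAut Q) (afun (α : MulAut Q) w))
          (hfst ⟨x, hx⟩)
        simp only [Subgroup.coe_mul, Subgroup.coe_inv] at e
        rw [afun_mul _ _ (afun_mem _ hw), afun_inv_apply _ hw, afun_mul _ _ hw,
          afun_cA h _ hw, afun_cA h _ (afun_mem _ hw)] at e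
        exact e)
    rw [sup_comm] at hθ
    let θS : ↥(P ⊔ Q) →* S :=
      { toFun := fun x => ⟨θ x, hθ.apply_mem x.2⟩
        map_one' := Subtype.ext hθ.map_one
        map_mul' := fun x y => Subtype.ext (hθ.map_mul x.2 y.2) }
    have hval : Valued ((lam h).comp incl) := valued_lam_comp (mor_id hR) incl fun _ => rfl
    have hA : ∀ x : ↥(P ⊔ Q), fstHom (((MulAut.conj g).toMonoidHom.comp ((lam h).comp incl)) x) =
        fstHom (((lam h).comp θS) x) := fun x => by
      refine Subtype.ext (afun_ext fun w hw => ?_)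
      show afun (fstHom (g * lam h (incl x) * g⁻¹) : MulAut Q) w = afun (cA h (θS x) : MulAut Q) w
      rw [map_mul, map_mul, map_inv, fst_lam, ← hα, Subgroup.coe_mul, Subgroup.coe_mul,
        Subgroup.coe_inv, afun_mul _ _ hw, afun_mul _ _ (afun_mem _ hw)]
      have hw' := afun_mem (α : MulAut Q)⁻¹ hw
      rw [afun_cA h _ hw', afun_cA h _ hw]
      show afun (α : MulAut Q) (cj (x : Ω) _) = cj (θ x) w
      rw [← hθQ _ (cj_mem_of_normalizer (le_normalizer_of_normal h.hn (hR x.2)) hw'),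
        hθ.map_cj x.2 (Subgroup.mem_sup_right hw'), hθQ _ hw', afun_apply_inv _ hw]
    have hB : OnQ ((MulAut.conj g).toMonoidHom.comp ((lam h).comp incl)) θ := fun x hx => by
      refine ⟨hθ.apply_mem x.2, hθQ x hx ▸ afun_mem _ hx, ?_⟩
      show g * lam h (incl x) * g⁻¹ = _
      rw [conj_lam_Q h g (show ((incl x : S) : Ω) ∈ Q from hx)]
      congr 1
      exact Subtype.ext (hθQ x hx).symm
    obtain ⟨k, hk1, hk⟩ := exists_conj (le_sup_right : Q ≤ P ⊔ Q) hR hA (valued_conj hval g)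
      (valued_lam_comp hθ θS fun _ => rfl) hB
      (fun x hx => ⟨hθ.apply_mem x.2, hθQ x hx ▸ afun_mem _ hx, rfl⟩)
    obtain ⟨z, hz, hze⟩ : QuotientGroup.mk' (k0 h) k ∈ (cA h).ker.map (iota h) :=
      (ker_modelFst h).le (show modelFst h (QuotientGroup.mk k) = 1 from hk1)
    refine (mor_iff_hom (f := cj (z : Ω)⁻¹ ∘ θ) fun x => ?_).mp
      ((hθ.restrict_to le_sup_left).comp (mor_cj le_rfl (inv_mem z.2))
        fun x hx => hθ.apply_mem (Subgroup.mem_sup_left hx))
    have e := congrArg (QuotientGroup.mk' (k0 h)) (hk ⟨x, Subgroup.mem_sup_left x.2⟩)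
    rw [map_mul, map_mul] at e
    have e' : QuotientGroup.mk' (k0 h)
        (((MulAut.conj g).toMonoidHom.comp ((lam h).comp incl)) ⟨x, Subgroup.mem_sup_left x.2⟩) =
        iota h ⟨φ x, hφ x⟩ := by
      rw [hX x]; rfl
    rw [e', ← hze] at e
    replace e : z * ⟨φ x, hφ x⟩ = θS ⟨x, Subgroup.mem_sup_left x.2⟩ * z :=
      iota_injective h (by rw [map_mul, map_mul]; exact e)
    have e2 : (z : Ω) * φ x = θ x * z := congrArg Subtype.val e
    show φ x = cj (z : Ω)⁻¹ (θ x)
    rw [cj_apply, inv_inv, mul_assoc, ← e2, inv_mul_cancel_left]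

theorem card_model : Nat.card (Model h) = Nat.card S * Nat.card (Cos h) := by
  rw [Subgroup.card_eq_card_quotient_mul_card_subgroup (modelFst h).ker, ker_modelFst,
    ← Nat.card_congr ((cA h).ker.equivMapOfInjective _ (iota_injective h)).toEquiv,
    ← ker_modelFst h, Nat.card_congr (QuotientGroup.quotientKerEquivOfSurjective _
      (modelFst_surjective h)).toEquiv,
    Subgroup.card_eq_card_quotient_mul_card_subgroup (cA h).range,
    Subgroup.card_eq_card_quotient_mul_card_subgroup (cA h).ker,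
    Nat.card_congr (QuotientGroup.quotientKerEquivRange (cA h)).toEquiv]
  ring

theorem index_range_iota : (iota h).range.index = Nat.card (Cos h) := by
  have h1 := (iota h).range.card_mul_index
  rw [card_model, ← Nat.card_congr (MonoidHom.ofInjective (iota_injective h)).toEquiv] at h1
  exact Nat.eq_of_mul_eq_mul_left Nat.card_pos h1

/-- The constructed group is a model. -/
theorem isModel : F.IsModel p (Model h) (iota h) := by
  haveI := finite_model h
  have hp : IsPGroup p (iota h).range :=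
    h.hS.of_equiv (MonoidHom.ofInjective (iota_injective h))
  refine ⟨inferInstance, isRealizedBy h,
    ⟨hp.toSylow (by rw [index_range_iota]; exact not_dvd_card_cos h), rfl⟩, ?_⟩
  have hQn : ((Q.subgroupOf S).map (iota h)).Normal := by
    constructor
    rintro _ ⟨q, hq, rfl⟩ x
    rw [conj_iota_Q h x hq]
    exact ⟨⟨afun (modelFst h x : MulAut Q) q, h.le (afun_mem _ hq)⟩, afun_mem _ hq, rfl⟩
  have hQc : (Q.subgroupOf S).map (iota h) ≤ pCore p (Model h) :=
    le_sSup (show (Q.subgroupOf S).map (iota h) ∈ {N : Subgroup (Model h) | N.Normal ∧ IsPGroup p N}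
      from ⟨hQn, (h.hS.to_subgroup _).map _⟩)
  intro x hx
  have h1 : modelFst h x = 1 := by
    refine Subtype.ext (afun_ext fun w hw => ?_)
    rw [Subgroup.coe_one, afun_one hw]
    have e := Subgroup.mem_centralizer_iff.mp hx (iota h ⟨w, h.le hw⟩)
      (hQc ⟨⟨w, h.le hw⟩, hw, rfl⟩)
    have e' := conj_iota_Q h x (q := ⟨w, h.le hw⟩) hw
    rw [← e, mul_inv_cancel_right] at e'
    exact (congrArg Subtype.val (iota_injective h e')).symm
  obtain ⟨z, hz, rfl⟩ := (ker_modelFst h).le (show x ∈ (modelFst h).ker from h1)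
  exact hQc ⟨z, ker_mem h hz, rfl⟩

/-! ### Uniqueness -/

omit [Fact p.Prime] in
/-- A model of `F` is isomorphic to the constructed one, compatibly with the embeddings of `S`. -/
theorem exists_iso {G : Type v} [Group G] {ι : S →* G} [Fact p.Prime] (hι : F.IsRealizedBy ι)
    (hn : ∀ (g : G) (q : S), (q : Ω) ∈ Q → ∃ q' : S, (q' : Ω) ∈ Q ∧ g * ι q * g⁻¹ = ι q')
    (hc : ∀ g : G, (∀ q : S, (q : Ω) ∈ Q → g * ι q * g⁻¹ = ι q) → g ∈ ι.range) :
    ∃ e : G ≃* Model h, ∀ s, e (ι s) = iota h s := by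
  have hinj := hι.1
  -- the action on `Q`
  have hη : ∀ g : G, ∃ α : F.autGroup Q, ∀ q : S, ∀ hq : (q : Ω) ∈ Q,
      g * ι q * g⁻¹ = ι ⟨afun (α : MulAut Q) q, h.le (afun_mem _ hq)⟩ := by
    intro g
    have hval : ∀ x ∈ Q, cj g (FusionRealized87.up ι x) ∈ ι.range := fun x hx => by
      obtain ⟨q', -, e⟩ := hn g ⟨x, h.le hx⟩ hx
      exact ⟨q', by rw [FusionRealized87.up_apply ι (h.le hx)]; exact e.symm⟩
    have hm := FusionRealized87.mor_of_conj hι h.le hval
    obtain ⟨α, hα, he⟩ := hm.exists_aut (hm.im_self fun x hx => normal_invariant h.hn hm hx hx)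
    refine ⟨⟨α, hα⟩, fun q hq => ?_⟩
    have := FusionRealized87.up_down ι (hval q hq)
    rw [FusionRealized87.up_apply ι q.2, cj_apply] at this
    refine this.symm.trans ?_
    rw [FusionRealized87.up_apply ι (FusionRealized87.down_mem ι _)]
    have he' := he q hq
    rw [FusionRealized87.up_apply ι q.2, cj_apply] at he'
    exact congrArg ι (Subtype.ext he'.symm)
  choose η hη using hη
  have η_eq : ∀ (g : G) (α : F.autGroup Q), (∀ q : S, ∀ hq : (q : Ω) ∈ Q,
      g * ι q * g⁻¹ = ι ⟨afun (α : MulAut Q) q, h.le (afun_mem _ hq)⟩) → η g = α :=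
    fun g α hg => Subtype.ext (afun_ext fun x hx =>
      congrArg Subtype.val (hinj ((hη g ⟨x, h.le hx⟩ hx).symm.trans (hg ⟨x, h.le hx⟩ hx))))
  have η_mul : ∀ g g', η (g * g') = η g * η g' := fun g g' => η_eq _ _ fun q hq => by
    rw [show g * g' * ι q * (g * g')⁻¹ = g * (g' * ι q * g'⁻¹) * g⁻¹ by group, hη g' q hq,
      hη g _ (afun_mem _ hq)]
    congr 1
    exact Subtype.ext (afun_mul _ _ hq).symm
  let ηH : G →* F.autGroup Q := MonoidHom.mk' η η_mul
  have η_iota : ∀ s : S, η (ι s) = cA h s := fun s => η_eq _ _ fun q hq => by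
    rw [← map_inv, ← map_mul, ← map_mul]
    congr 1
    exact Subtype.ext (afun_cA h s hq).symm
  have η_surj : Function.Surjective η := by
    intro α
    obtain ⟨φ, hφ, he⟩ := mor_afun α h
    obtain ⟨g, hg⟩ := (hι.2 Q h.le φ (F.le_of_mem hφ).2).mp hφ
    refine ⟨g, η_eq _ _ fun q hq => ?_⟩
    rw [← hg ⟨q, hq⟩]
    congr 1
    exact Subtype.ext (he ⟨q, hq⟩)
  have η_ker : ∀ g, η g = 1 → ∃ z : S, z ∈ (cA h).ker ∧ ι z = g := by
    intro g hg
    have hcent : ∀ q : S, (q : Ω) ∈ Q → g * ι q * g⁻¹ = ι q := fun q hq => by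
      rw [hη g q hq]
      congr 1
      apply Subtype.ext
      show afun (η g : MulAut Q) q = _
      rw [hg]; exact afun_one hq
    obtain ⟨z, rfl⟩ := hc g hcent
    exact ⟨z, MonoidHom.mem_ker.mpr (by rw [← η_iota, hg]), rfl⟩
  choose gy hgy using fun y : Cos h => η_surj (rep h y)
  have hσ : ∀ (g : G) (y : Cos h), ∃ s : S, g * gy y = gy (η g • y) * ι s := by
    intro g y
    obtain ⟨s, hs⟩ : (rep h (η g • y))⁻¹ * (η g * rep h y) ∈ (cA h).range := by
      refine QuotientGroup.eq.mp ?_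
      rw [mk_rep]
      conv_lhs => rw [← mk_rep h y, MulAction.Quotient.smul_mk]
      rfl
    obtain ⟨z, -, hz⟩ := η_ker ((ι s)⁻¹ * (gy (η g • y))⁻¹ * (g * gy y)) (by
      show ηH ((ι s)⁻¹ * (gy (η g • y))⁻¹ * (g * gy y)) = 1
      rw [map_mul, map_mul, map_mul, map_inv, map_inv]
      show (η (ι s))⁻¹ * (η (gy (η g • y)))⁻¹ * (η g * η (gy y)) = 1
      rw [η_iota, hgy, hgy, hs]
      group)
    exact ⟨s * z, by rw [map_mul, hz]; group⟩
  choose σ hσ using hσ
  have σ_eq : ∀ g y s, g * gy y = gy (η g • y) * ι s → σ g y = s := fun g y s e =>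
    hinj (mul_left_cancel ((hσ g y).symm.trans e))
  have hσπ : ∀ g y, rep h (η g • y) * cA h (σ g y) = η g * rep h y := by
    intro g y
    rw [← hgy y, ← hgy (η g • y), ← η_iota, ← η_mul, ← η_mul, hσ]
  let ρ : G →* gamma h := MonoidHom.mk' (fun g => mkG (η g) (σ g) (hσπ g)) fun g g' => by
    refine gamma_ext (η_mul g g') fun y => ?_
    rw [wc_mul, wc_mkG, wc_mkG, wc_mkG, fst_mkG]
    refine σ_eq _ _ _ ?_
    rw [map_mul, η_mul, mul_smul, ← mul_assoc, ← hσ g (η g' • y), mul_assoc g g', hσ g' y,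
      ← mul_assoc]
  have hρQ : OnQ (ρ.comp ι) (fun x => x) := by
    intro q hq
    refine ⟨q.2, hq, gamma_ext (η_iota q) fun y => ?_⟩
    show wc (mkG (η (ι q)) (σ (ι q)) (hσπ _)) y = _
    rw [wc_mkG]
    refine σ_eq _ _ _ ?_
    rw [η_iota, q_smul h q hq]
    have e := hη (gy y)⁻¹ q hq
    rw [inv_inv] at e
    have ei : η (gy y)⁻¹ = (rep h y)⁻¹ := by
      show ηH (gy y)⁻¹ = _
      rw [map_inv]
      exact congrArg _ (hgy y)
    have e2 : wc (lam h ⟨(q : Ω), q.2⟩) y =
        ⟨afun (η (gy y)⁻¹ : MulAut Q) q, h.le (afun_mem _ hq)⟩ :=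
      Subtype.ext (by rw [coe_wc_lam_Q h hq]; show _ = afun (η (gy y)⁻¹ : MulAut Q) q; rw [ei])
    rw [e2, ← e]
    group
  have hρv : Valued (ρ.comp ι) := by
    intro y
    have hle : fixOf (ρ.comp ι) y ≤ S := Subgroup.map_subtype_le _
    have hval : ∀ x ∈ fixOf (ρ.comp ι) y,
        cj (gy y)⁻¹ (FusionRealized87.up ι x) ∈ ι.range := by
      intro x hx
      obtain ⟨hxS, e⟩ := mem_fixOf.mp hx
      refine ⟨σ (ι ⟨x, hxS⟩) y, ?_⟩
      have e1 := hσ (ι ⟨x, hxS⟩) y
      rw [show η (ι ⟨x, hxS⟩) • y = y from e] at e1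
      rw [FusionRealized87.up_apply ι hxS, cj_apply, inv_inv, mul_assoc, e1, inv_mul_cancel_left]
    refine ⟨_, FusionRealized87.mor_of_conj hι hle hval, fun x hx => ?_⟩
    have e1 := hσ (ι x) y
    rw [show η (ι x) • y = y from hx] at e1
    show FusionRealized87.down ι _ = ((wc (mkG (η (ι x)) (σ (ι x)) (hσπ _)) y : S) : Ω)
    rw [wc_mkG, FusionRealized87.up_apply ι x.2, cj_apply, inv_inv, mul_assoc,
      show (⟨(x : Ω), x.2⟩ : S) = x from rfl, e1, inv_mul_cancel_left]
    have := FusionRealized87.down_up hι (σ (ι x) y).2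
    rw [FusionRealized87.up_apply ι (σ (ι x) y).2] at this
    exact this
  obtain ⟨k, -, hk⟩ := exists_conj (a := ρ.comp ι) (b := lam h) h.le le_rfl
    (fun x => η_iota x) hρv (valued_lam_comp (mor_id le_rfl) (MonoidHom.id S) fun _ => rfl) hρQ
    (fun q hq => ⟨q.2, hq, rfl⟩)
  let Φ : G →* Model h :=
    (QuotientGroup.mk' (k0 h)).comp ((MulAut.conj k).toMonoidHom.comp ρ)
  have hΦι : ∀ s, Φ (ι s) = iota h s := fun s => by
    refine congrArg (QuotientGroup.mk' (k0 h)) ?_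
    show k * ρ (ι s) * k⁻¹ = lam h s
    rw [mul_inv_eq_iff_eq_mul]
    exact hk s
  have hΦη : ∀ g, fstHom k * η g * (fstHom k)⁻¹ = modelFst h (Φ g) := fun g => by
    show _ = fstHom (k * ρ g * k⁻¹)
    rw [map_mul, map_mul, map_inv]
    rfl
  refine ⟨MulEquiv.ofBijective Φ ⟨?_, ?_⟩, hΦι⟩
  · rw [injective_iff_map_eq_one]
    intro g hg
    have h1 := hΦη g
    rw [hg, map_one, conj_eq_one_iff] at h1
    obtain ⟨z, -, rfl⟩ := η_ker g h1
    rw [hΦι, ← map_one (iota h)] at hg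
    rw [iota_injective h hg, map_one]
  · intro x
    obtain ⟨g, hg⟩ := η_surj ((fstHom k)⁻¹ * modelFst h x * fstHom k)
    obtain ⟨z, -, hze⟩ := (ker_modelFst h).le (show (Φ g)⁻¹ * x ∈ (modelFst h).ker by
      rw [MonoidHom.mem_ker, map_mul, map_inv, ← hΦη, hg]
      group)
    exact ⟨g * ι z, by rw [map_mul, hΦι, hze, mul_inv_cancel_left]⟩

/-! ### Arbitrary models -/

omit h in
/-- A normal subgroup of `F` is normal in every model of `F`. -/
theorem model_conj {G : Type v} [Group G] {ι : S →* G} (hM : F.IsModel p G ι) {R : Subgroup Ω}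
    (hR : F.IsNormal R) (g : G) (r : S) (hr : (r : Ω) ∈ R) :
    ∃ r' : S, (r' : Ω) ∈ R ∧ g * ι r * g⁻¹ = ι r' := by
  obtain ⟨hfin, hι, ⟨T, hT⟩, hC⟩ := hM
  haveI := hfin
  haveI := HallCore.pCore_normal p G
  have hc : Cfsg.pCore p G ≤ ι.range := hT ▸ HallCore.pCore_le_sylow T
  have hP₀ := FusionRealized87.downS_le ι (Cfsg.pCore p G)
  have hm0 : ∀ x ∈ FusionRealized87.downS ι (Cfsg.pCore p G),
      cj g (FusionRealized87.up ι x) ∈ Cfsg.pCore p G := fun x hx =>
    (HallCore.pCore_normal p G).conj_mem _ ((FusionRealized87.mem_downS ι).1 hx).2 g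
  obtain ⟨f, hf, hag, him⟩ := (isNormal_iff.mp hR).2 _ _
    (FusionRealized87.mor_of_conj hι hP₀ fun x hx => hc (hm0 x hx))
  obtain ⟨-, -, g', hg'⟩ := (FusionRealized87.mor_iff hι).1 hf
  have hd : g⁻¹ * g' ∈ Cfsg.pCore p G := by
    refine hC (Subgroup.mem_centralizer_iff.2 fun y hy => ?_)
    obtain ⟨s, rfl⟩ := hc hy
    have hsP : (s : Ω) ∈ FusionRealized87.downS ι (Cfsg.pCore p G) :=
      (FusionRealized87.mem_downS ι).2 ⟨s.2, by rw [FusionRealized87.up_apply ι s.2]; exact hy⟩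
    have e := hg' _ (Subgroup.mem_sup_left hsP)
    rw [hag _ hsP, FusionRealized87.up_down ι (hc (hm0 _ hsP)), FusionRealized87.up_apply ι s.2,
      cj_apply, cj_apply] at e
    change g * ι s * g⁻¹ = g' * ι s * g'⁻¹ at e
    calc ι s * (g⁻¹ * g') = g⁻¹ * (g * ι s * g⁻¹) * g' := by group
      _ = g⁻¹ * (g' * ι s * g'⁻¹) * g' := by rw [e]
      _ = g⁻¹ * g' * ι s := by group
  obtain ⟨z, hz⟩ := hc hd
  have hrz : (((z⁻¹ * r * z) : S) : Ω) ∈ R := by
    have := normal_invariant hR (mor_cj le_rfl (inv_mem z.2)) (normal_le hR hr) hr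
    simpa [cj_apply] using this
  have e := hg' _ (Subgroup.mem_sup_right hrz)
  have hfr : f ((z⁻¹ * r * z : S) : Ω) ∈ R := him ▸ (hf.restrict_to le_sup_right).mem_im.2 ⟨_, hrz, rfl⟩
  refine ⟨⟨_, normal_le hR hfr⟩, hfr, ?_⟩
  rw [FusionRealized87.up_apply ι (normal_le hR hfr), FusionRealized87.up_apply ι (z⁻¹ * r * z).2,
    cj_apply] at e
  rw [e]
  change _ = g' * ι (z⁻¹ * r * z) * g'⁻¹
  rw [map_mul, map_mul, map_inv, hz]
  group

omit h in
/-- The centralizer in a model of a normal centric subgroup lies in the image of `S`. -/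
theorem model_centralizer {G : Type v} [Group G] {ι : S →* G} (hM : F.IsModel p G ι)
    {R : Subgroup Ω} (hR : FusionRealized87.downS ι (Cfsg.pCore p G) ≤ R) (g : G)
    (hg : ∀ r : S, (r : Ω) ∈ R → g * ι r * g⁻¹ = ι r) : g ∈ ι.range := by
  obtain ⟨hfin, hι, ⟨T, hT⟩, hC⟩ := hM
  haveI := hfin
  have hc : Cfsg.pCore p G ≤ ι.range := hT ▸ HallCore.pCore_le_sylow T
  refine hc (hC (Subgroup.mem_centralizer_iff.2 fun y hy => ?_))
  obtain ⟨s, rfl⟩ := hc hy
  have hsP : (s : Ω) ∈ FusionRealized87.downS ι (Cfsg.pCore p G) :=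
    (FusionRealized87.mem_downS ι).2 ⟨s.2, by rw [FusionRealized87.up_apply ι s.2]; exact hy⟩
  have e := hg s (hR hsP)
  rw [mul_inv_eq_iff_eq_mul] at e
  exact e.symm

/-- The `p`-core of a model lies in the core of `F`. -/
theorem model_core_le {G : Type v} [Group G] {ι : S →* G} (hM : F.IsModel p G ι) :
    FusionRealized87.downS ι (Cfsg.pCore p G) ≤ F.core := by
  obtain ⟨hfin, hι, ⟨T, hT⟩, -⟩ := hM
  haveI := hfin
  haveI := HallCore.pCore_normal p G
  exact le_core (FusionRealized87.normal_downS hι (hT ▸ HallCore.pCore_le_sylow T))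

omit h in
/-- Two models are isomorphic compatibly with the embeddings of `S`. -/
theorem model_unique (hS : IsPGroup p S) (hF : F.IsConstrained p) {G₁ : Type v} [Group G₁]
    {G₂ : Type*} [Group G₂] {ι₁ : S →* G₁} {ι₂ : S →* G₂} (h₁ : F.IsModel p G₁ ι₁)
    (h₂ : F.IsModel p G₂ ι₂) : ∃ φ : G₁ ≃* G₂, ∀ x : S, φ (ι₁ x) = ι₂ x := by
  obtain ⟨hFs, Q₀, hn, hc⟩ := hF
  have hH : Hyp p F F.core :=
    ⟨hS, hFs, core_isNormal, FusCentric.centric_upward hc (le_core hn) (normal_le core_isNormal)⟩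
  obtain ⟨e₁, he₁⟩ := exists_iso hH h₁.2.1 (model_conj h₁ core_isNormal)
    (model_centralizer h₁ (model_core_le h₁))
  obtain ⟨e₂, he₂⟩ := exists_iso hH h₂.2.1 (model_conj h₂ core_isNormal)
    (model_centralizer h₂ (model_core_le h₂))
  refine ⟨e₁.trans e₂.symm, fun x => ?_⟩
  rw [MulEquiv.trans_apply, he₁, ← he₂, MulEquiv.symm_apply_apply]

end Cfsg.Agent.FusionSysModel
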