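import Mathlib
import Cfsg.Agent.Lib.HallCore

/-!
An elementary FF lemma: a group of automorphisms of an elementary abelian `2`-group which has no
nontrivial normal `2`-subgroup and whose Sylow `2`-subgroup lies in a unique maximal subgroup has no
offender whose involutions multiply, with their conjugates, only to orders prime to `3`.
-/

set_option autoImplicit false
set_option linter.style.haveILetI false

open Subgroup

namespace Cfsg.Agent.S4FreeOffender

universe u

/-! ### Conjugates and Sylow subgroups inside a subgroup -/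

section Sylow

variable {G : Type*} [Group G] [Finite G]

/-- The conjugate subgroup. -/
abbrev cj (g : G) (P : Subgroup G) : Subgroup G := P.map (MulAut.conj g).toMonoidHom

omit [Finite G] in
theorem mem_cj {g x : G} {P : Subgroup G} : x ∈ cj g P ↔ g⁻¹ * x * g ∈ P := by
  constructor
  · rintro ⟨y, hy, rfl⟩
    simpa [mul_assoc] using hy
  · intro h
    exact ⟨_, h, by simp [mul_assoc]⟩

omit [Finite G] in
theorem conj_mem_cj {g x : G} {P : Subgroup G} (hx : x ∈ P) : g * x * g⁻¹ ∈ cj g P :=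
  ⟨x, hx, rfl⟩

omit [Finite G] in
theorem cj_cj (g h : G) (P : Subgroup G) : cj g (cj h P) = cj (g * h) P := by
  ext x; simp [mem_cj, mul_assoc]

omit [Finite G] in
theorem cj_bot (g : G) : cj g (⊥ : Subgroup G) = ⊥ := Subgroup.map_bot _

omit [Finite G] in
theorem cj_one (P : Subgroup G) : cj 1 P = P := by
  ext x; simp [mem_cj]

omit [Finite G] in
theorem cj_inv_cj (g : G) (P : Subgroup G) : cj g⁻¹ (cj g P) = P := by
  rw [cj_cj, inv_mul_cancel, cj_one]

omit [Finite G] in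
theorem cj_cj_inv (g : G) (P : Subgroup G) : cj g (cj g⁻¹ P) = P := by
  rw [cj_cj, mul_inv_cancel, cj_one]

omit [Finite G] in
theorem card_cj (g : G) (P : Subgroup G) : Nat.card (cj g P) = Nat.card P :=
  card_map_of_injective (MulAut.conj g).injective

omit [Finite G] in
theorem cj_mono (g : G) {P R : Subgroup G} (h : P ≤ R) : cj g P ≤ cj g R := map_mono h

omit [Finite G] in
theorem cj_le_iff {g : G} {P R : Subgroup G} : cj g P ≤ R ↔ P ≤ cj g⁻¹ R := by
  constructor
  · intro h; have := cj_mono g⁻¹ h; rwa [cj_inv_cj] at this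
  · intro h; have := cj_mono g h; rwa [cj_cj_inv] at this

omit [Finite G] in
theorem cj_eq_of_mem {g : G} {P : Subgroup G} (hg : g ∈ normalizer (P : Set G)) : cj g P = P := by
  ext x
  rw [mem_cj]
  exact (mem_normalizer_iff''.mp hg x).symm

theorem mem_normalizer_of_cj_le {g : G} {P : Subgroup G} (h : cj g P ≤ P) :
    g ∈ normalizer (P : Set G) :=
  mem_normalizer_fintype fun _ hx => h (conj_mem_cj hx)

omit [Finite G] in
theorem cj_le_of_mem {g : G} {H P : Subgroup G} (hg : g ∈ H) (hP : P ≤ H) : cj g P ≤ H := by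
  rintro _ ⟨x, hx, rfl⟩
  exact H.mul_mem (H.mul_mem hg (hP hx)) (H.inv_mem hg)

/-- `T` is a maximal `2`-subgroup of `H`. -/
def IsSyl (H T : Subgroup G) : Prop :=
  T ≤ H ∧ IsPGroup 2 T ∧ ∀ P : Subgroup G, P ≤ H → IsPGroup 2 P → T ≤ P → P ≤ T

omit [Finite G] in
theorem IsSyl.mono {H K T : Subgroup G} (h : IsSyl H T) (hTK : T ≤ K) (hKH : K ≤ H) : IsSyl K T :=
  ⟨hTK, h.2.1, fun P hP hP2 hTP => h.2.2 P (hP.trans hKH) hP2 hTP⟩

theorem exists_syl {H P : Subgroup G} (hPH : P ≤ H) (hP : IsPGroup 2 P) :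
    ∃ T, IsSyl H T ∧ P ≤ T := by
  obtain ⟨T, ⟨hTH, hT, hPT⟩, hmax⟩ := Set.exists_max_image
    {T : Subgroup G | T ≤ H ∧ IsPGroup 2 T ∧ P ≤ T} (fun T => Nat.card T) (Set.toFinite _)
    ⟨P, hPH, hP, le_rfl⟩
  exact ⟨T, ⟨hTH, hT, fun R hRH hR hTR =>
    (eq_of_le_of_card_ge hTR (hmax R ⟨hRH, hR, hPT.trans hTR⟩)).ge⟩, hPT⟩

/-- The Sylow subgroup of `H` given by a maximal `2`-subgroup. -/
def IsSyl.toSylow {H T : Subgroup G} (h : IsSyl H T) : Sylow 2 H where
  toSubgroup := T.subgroupOf H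
  isPGroup' := h.2.1.of_equiv (subgroupOfEquivOfLe h.1).symm
  is_maximal' := fun {Q} hQ hle => le_antisymm (fun x hx => h.2.2 _ (map_subtype_le Q)
    (hQ.map H.subtype) (fun t ht => ⟨⟨t, h.1 ht⟩, hle (mem_subgroupOf.mpr ht), rfl⟩)
    (mem_map_of_mem H.subtype hx)) hle

theorem IsSyl.exists_conj_le {H T P : Subgroup G} (h : IsSyl H T) (hPH : P ≤ H) (hP : IsPGroup 2 P) :
    ∃ g ∈ H, cj g P ≤ T := by
  haveI : Fact (Nat.Prime 2) := ⟨Nat.prime_two⟩
  let S : Sylow 2 H := h.toSylow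
  obtain ⟨R, hR⟩ := (hP.comap_subtype (K := H)).exists_le_sylow
  obtain ⟨g, hg⟩ := MulAction.exists_smul_eq ↥H R S
  refine ⟨g, g.2, ?_⟩
  rintro _ ⟨x, hx, rfl⟩
  have h1 : g * ⟨x, hPH hx⟩ * g⁻¹ ∈ (S : Subgroup H) := by
    rw [← hg, Sylow.coe_subgroup_smul]
    exact ⟨⟨x, hPH hx⟩, hR hx, rfl⟩
  exact h1

omit [Finite G] in
theorem IsSyl.cj {H T : Subgroup G} (h : IsSyl H T) {g : G} (hg : g ∈ H) : IsSyl H (cj g T) := by
  refine ⟨cj_le_of_mem hg h.1, h.2.1.map _, fun P hPH hP hle => ?_⟩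
  have h1 := h.2.2 (S4FreeOffender.cj g⁻¹ P) (cj_le_of_mem (H.inv_mem hg) hPH) (hP.map _)
    (cj_le_iff.mp hle)
  exact inv_inv g ▸ cj_le_iff.mp h1

theorem IsSyl.card_eq {H T T' : Subgroup G} (h : IsSyl H T) (h' : IsSyl H T') :
    Nat.card T = Nat.card T' := by
  refine le_antisymm ?_ ?_
  · obtain ⟨g, -, hg⟩ := h'.exists_conj_le h.1 h.2.1
    rw [← card_cj g T]
    exact card_le_of_le hg
  · obtain ⟨g, -, hg⟩ := h.exists_conj_le h'.1 h'.2.1
    rw [← card_cj g T']
    exact card_le_of_le hg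

/-- The largest normal `2`-subgroup of `K`. -/
def core2 (K : Subgroup G) : Subgroup G := (Cfsg.pCore 2 K).map K.subtype

omit [Finite G] in
theorem core2_le (K : Subgroup G) : core2 K ≤ K := map_subtype_le _

theorem core2_isPGroup (K : Subgroup G) : IsPGroup 2 (core2 K) := (HallCore.isPGroup_pCore 2 K).map _

omit [Finite G] in
theorem le_normalizer_core2 (K : Subgroup G) : K ≤ normalizer (core2 K : Set G) := by
  haveI := HallCore.pCore_normal 2 K
  have h := le_normalizer_map (H := Cfsg.pCore 2 K) K.subtype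
  rw [normalizer_eq_top] at h
  rwa [← MonoidHom.range_eq_map, range_subtype] at h

theorem le_core2 {K N : Subgroup G} (hNK : N ≤ K) (hN : IsPGroup 2 N)
    (hn : K ≤ normalizer (N : Set G)) : N ≤ core2 K := by
  haveI : (N.subgroupOf K).Normal := normal_subgroupOf_of_le_normalizer hn
  intro x hx
  exact ⟨⟨x, hNK hx⟩, HallCore.le_pCore (hN.of_equiv (subgroupOfEquivOfLe hNK).symm)
    (mem_subgroupOf.mpr hx), rfl⟩

omit [Finite G] in
theorem isPGroup_sup {A B : Subgroup G} (hA : IsPGroup 2 A) (hB : IsPGroup 2 B)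
    (h : B ≤ normalizer (A : Set G)) : IsPGroup 2 (A ⊔ B : Subgroup G) := by
  rw [sup_comm]
  exact hB.to_sup_of_normal_right' hA h

/-- A proper subgroup containing the Sylow subgroup `T` above all others. -/
def UMax (H T M : Subgroup G) : Prop :=
  IsSyl H T ∧ M ≤ H ∧ M ≠ H ∧ T ≤ M ∧ ∀ L : Subgroup G, L ≤ H → T ≤ L → L ≠ H → L ≤ M

omit [Finite G] in
theorem UMax.unique {H T M M' : Subgroup G} (h : UMax H T M) (h' : UMax H T M') : M = M' :=
  le_antisymm (h'.2.2.2.2 M h.2.1 h.2.2.2.1 h.2.2.1) (h.2.2.2.2 M' h'.2.1 h'.2.2.2.1 h'.2.2.1)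

omit [Finite G] in
theorem UMax.cj {H T M : Subgroup G} (h : UMax H T M) {g : G} (hg : g ∈ H) :
    UMax H (cj g T) (cj g M) := by
  have hHg : S4FreeOffender.cj g⁻¹ H = H := cj_eq_of_mem (le_normalizer (H.inv_mem hg))
  refine ⟨h.1.cj hg, cj_le_of_mem hg h.2.1, fun he => h.2.2.1 ?_, cj_mono g h.2.2.2.1,
    fun L hLH hTL hL => ?_⟩
  · rw [← cj_inv_cj g M, he, hHg]
  · have h1 := h.2.2.2.2 (S4FreeOffender.cj g⁻¹ L) (cj_le_of_mem (H.inv_mem hg) hLH)
      (cj_le_iff.mp hTL) (fun he => hL (by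
        rw [← cj_cj_inv g L, he]; exact cj_eq_of_mem (le_normalizer hg)))
    exact inv_inv g ▸ cj_le_iff.mp h1

/-- The unique maximal subgroup is self-normalising. -/
theorem UMax.mem_of_cj_eq {H T M : Subgroup G} (h : UMax H T M)
    (hnT : ¬ H ≤ normalizer (T : Set G)) {g : G} (hg : g ∈ H) (he : S4FreeOffender.cj g M = M) :
    g ∈ M := by
  obtain ⟨hT, hMH, hMne, hTM, hall⟩ := h
  by_cases hN : H ⊓ normalizer (M : Set G) = H
  · refine absurd (le_antisymm hMH fun x hx => ?_) hMne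
    have hxM : S4FreeOffender.cj x T ≤ M :=
      (cj_mono x hTM).trans (cj_eq_of_mem (hN.ge hx).2).le
    obtain ⟨m, hm, hle⟩ := (hT.mono hTM hMH).exists_conj_le hxM (hT.2.1.map _)
    rw [cj_cj] at hle
    have h1 : m * x ∈ M := hall (H ⊓ normalizer (T : Set G)) inf_le_left (le_inf hT.1 le_normalizer)
      (fun he' => hnT (inf_eq_left.mp he')) ⟨H.mul_mem (hMH hm) hx, mem_normalizer_of_cj_le hle⟩
    have := M.mul_mem (M.inv_mem hm) h1
    rwa [inv_mul_cancel_left] at this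
  · exact hall _ inf_le_left (le_inf hT.1 (hTM.trans le_normalizer)) hN
      ⟨hg, mem_normalizer_of_cj_le he.le⟩

theorem UMax.of_le {H T M T' : Subgroup G} (h : UMax H T M) (hT' : IsSyl H T') (hle : T' ≤ M) :
    UMax H T' M := by
  obtain ⟨m, hm, hme⟩ := (h.1.mono h.2.2.2.1 h.2.1).exists_conj_le hle hT'.2.1
  have heq : S4FreeOffender.cj m T' = T :=
    eq_of_le_of_card_ge hme (by rw [card_cj, hT'.card_eq h.1])
  have h1 := h.cj (H.inv_mem (h.2.1 hm))
  rwa [← heq, cj_inv_cj, cj_eq_of_mem (le_normalizer (M.inv_mem hm))] at h1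

end Sylow

/-! ### Automorphisms of an elementary abelian `2`-group -/

variable {V : Type u} [CommGroup V]

/-- Fixed points of a subgroup. -/
def fixP (X : Subgroup (MulAut V)) : Subgroup V where
  carrier := {v | ∀ x ∈ X, x v = v}
  one_mem' := fun x _ => map_one x
  mul_mem' := fun {v w} hv hw x hx => by rw [map_mul, hv x hx, hw x hx]
  inv_mem' := fun {v} hv x hx => by rw [map_inv, hv x hx]

theorem mem_fixP {X : Subgroup (MulAut V)} {v : V} : v ∈ fixP X ↔ ∀ x ∈ X, x v = v := Iff.rfl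

theorem fixP_anti {X Y : Subgroup (MulAut V)} (h : X ≤ Y) : fixP Y ≤ fixP X :=
  fun _ hv x hx => hv x (h hx)

theorem fixP_bot : fixP (⊥ : Subgroup (MulAut V)) = ⊤ :=
  eq_top_iff.mpr fun v _ x hx => by rw [mem_bot.mp hx]; rfl

theorem mem_fixP_cj {g : MulAut V} {X : Subgroup (MulAut V)} {v : V} :
    v ∈ fixP (cj g X) ↔ g⁻¹ v ∈ fixP X := by
  constructor
  · intro h x hx
    have := h _ (conj_mem_cj (g := g) hx)
    exact g.injective (by simpa using this)
  · rintro h _ ⟨x, hx, rfl⟩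
    have := congrArg g (h x hx)
    simpa using this

theorem fixP_cj (g : MulAut V) (X : Subgroup (MulAut V)) :
    fixP (cj g X) = (fixP X).map g.toMonoidHom := by
  ext v
  rw [mem_fixP_cj]
  constructor
  · intro h; exact ⟨_, h, by simp⟩
  · rintro ⟨w, hw, rfl⟩; simpa using hw

theorem card_mul_card_le [Finite V] (A B : Subgroup V) :
    Nat.card A * Nat.card B ≤ Nat.card (A ⊔ B : Subgroup V) * Nat.card (A ⊓ B : Subgroup V) := by
  have e1 := HallCore.card_mul_relIndex (le_sup_right : B ≤ A ⊔ B)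
  have e2 := HallCore.card_mul_relIndex (inf_le_left : A ⊓ B ≤ A)
  rw [Subgroup.relIndex_sup_right] at e1
  rw [Subgroup.inf_relIndex_left] at e2
  rw [← e1, ← e2]
  exact le_of_eq (by ring)

/-- `|X| |C_V(X)|`. -/
noncomputable def weight (X : Subgroup (MulAut V)) : ℕ := Nat.card X * Nat.card (fixP X)

theorem weight_bot : weight (⊥ : Subgroup (MulAut V)) = Nat.card V := by
  rw [weight, fixP_bot, card_bot, card_top, one_mul]

theorem weight_cj (g : MulAut V) (X : Subgroup (MulAut V)) : weight (cj g X) = weight X := by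
  rw [weight, weight, card_cj, fixP_cj, card_map_of_injective g.injective]

/-- An offender no nontrivial proper subgroup of which does as well, with elements in `I`. -/
structure Strict (H : Subgroup (MulAut V)) (I : Set (MulAut V)) (P : Subgroup (MulAut V)) : Prop where
  le : P ≤ H
  exp : ∀ x ∈ P, x * x = 1
  ne : P ≠ ⊥
  mem : ∀ x ∈ P, x ∈ I
  off : Nat.card V ≤ weight P
  lt : ∀ Y ≤ P, Y ≠ ⊥ → Y ≠ P → weight Y < weight P

theorem Strict.cj {H : Subgroup (MulAut V)} {I : Set (MulAut V)} {P : Subgroup (MulAut V)}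
    (h : Strict H I P) {g : MulAut V} (hg : g ∈ H) (hI : ∀ x ∈ I, g * x * g⁻¹ ∈ I) :
    Strict H I (cj g P) := by
  refine ⟨cj_le_of_mem hg h.le, ?_, fun he => h.ne ?_, ?_, by rw [weight_cj]; exact h.off, ?_⟩
  · rintro _ ⟨x, hx, rfl⟩
    rw [← map_mul, h.exp x hx, map_one]
  · rw [← cj_inv_cj g P, he, cj_bot]
  · rintro _ ⟨x, hx, rfl⟩
    exact hI x (h.mem x hx)
  · intro Y hY hYne hYP
    rw [weight_cj, ← cj_cj_inv g Y, weight_cj]
    refine h.lt _ (by rw [cj_le_iff, inv_inv]; exact hY) (fun he => hYne ?_) fun he => hYP ?_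
    · rw [← cj_cj_inv g Y, he, cj_bot]
    · rw [← he, cj_cj_inv]

variable [Finite V]

instance finite_mulAut : Finite (MulAut V) := Finite.of_injective _ DFunLike.coe_injective

theorem exists_strict {H X : Subgroup (MulAut V)} {I : Set (MulAut V)} (hX : X ≤ H)
    (hexp : ∀ x ∈ X, x * x = 1) (hne : X ≠ ⊥) (hI : ∀ x ∈ X, x ∈ I)
    (hoff : Nat.card V ≤ weight X) : ∃ P, P ≤ X ∧ Strict H I P := by
  obtain ⟨A, ⟨hAX, hA⟩, hAmax⟩ := Set.exists_max_image {Y : Subgroup (MulAut V) | Y ≤ X ∧ Y ≠ ⊥}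
    weight (Set.toFinite _) ⟨X, le_rfl, hne⟩
  obtain ⟨P, ⟨hPX, hP, hPA⟩, hPmin⟩ := Set.exists_min_image
    {Y : Subgroup (MulAut V) | Y ≤ X ∧ Y ≠ ⊥ ∧ weight A ≤ weight Y} (fun Y => Nat.card Y)
    (Set.toFinite _) ⟨A, hAX, hA, le_rfl⟩
  refine ⟨P, hPX, hPX.trans hX, fun x hx => hexp x (hPX hx), hP, fun x hx => hI x (hPX hx),
    (hoff.trans (hAmax X ⟨le_rfl, hne⟩)).trans hPA, fun Y hY hYne hYP => ?_⟩
  by_contra hge
  exact hYP (eq_of_le_of_card_ge hY (hPmin Y ⟨hY.trans hPX, hYne, hPA.trans (not_lt.mp hge)⟩))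

theorem exists_fixed {W : Type u} [CommGroup W] [Finite W] (hW : ∀ v : W, v * v = 1)
    (hne : Nontrivial W) {P : Subgroup (MulAut W)} (hP : IsPGroup 2 P) :
    ∃ w : W, w ≠ 1 ∧ w ∈ fixP P := by
  haveI : Fact (Nat.Prime 2) := ⟨Nat.prime_two⟩
  have hWp : IsPGroup 2 W := fun v => ⟨1, by rw [pow_one, pow_two]; exact hW v⟩
  obtain ⟨n, hn⟩ := IsPGroup.iff_card.mp hWp
  have h2 : 2 ∣ Nat.card W := by
    rw [hn]
    refine dvd_pow_self 2 fun h => ?_
    rw [h, pow_zero] at hn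
    exact (Finite.one_lt_card (α := W)).ne' hn
  obtain ⟨w, hw, hw1⟩ := hP.exists_fixed_point_of_prime_dvd_card_of_fixed_point W h2
    (a := (1 : W)) (fun p => map_one (p : MulAut W))
  exact ⟨w, hw1.symm, fun x hx => hw ⟨x, hx⟩⟩

/-- An exponent-two group acts unipotently. -/
theorem comm_eq_bot (h2 : ∀ v : V, v * v = 1) {P : Subgroup (MulAut V)} (hexp : ∀ x ∈ P, x * x = 1)
    (hcomm : ∀ a ∈ P, ∀ b ∈ P, a * b = b * a) :
    ∀ U : Subgroup V, (∀ c ∈ P, ∀ u ∈ U, c u ∈ U) →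
      U ≤ Subgroup.closure {w | ∃ c ∈ P, ∃ u ∈ U, c u * u = w} → U = ⊥ := by
  intro U
  induction hn : Nat.card U using Nat.strong_induction_on generalizing U with
  | _ n ih =>
  intro hinv hle
  have hzero : ∀ a ∈ P, ∀ u ∈ U, a u * u = 1 := by
    intro a ha
    let δ : V →* V :=
      { toFun := fun v => a v * v
        map_one' := by rw [map_one, mul_one]
        map_mul' := fun v w => by rw [map_mul, mul_mul_mul_comm] }
    have hδ : ∀ v, δ v = a v * v := fun _ => rfl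
    have hWU : U.map δ ≤ U := by
      rintro _ ⟨u, hu, rfl⟩
      exact U.mul_mem (hinv a ha u hu) hu
    have hkill : ∀ w ∈ U.map δ, δ w = 1 := by
      rintro _ ⟨u, hu, rfl⟩
      rw [hδ, hδ, map_mul, ← MulAut.mul_apply, hexp a ha, MulAut.one_apply, mul_comm (a u) u, h2]
    by_cases heq : U.map δ = U
    · exact fun u hu => hkill u (heq.ge hu)
    have hbot : U.map δ = ⊥ := by
      refine ih _ (hn ▸ lt_of_le_of_ne (card_le_of_le hWU)
        fun h => heq (eq_of_le_of_card_ge hWU h.ge)) _ rfl ?_ ?_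
      · rintro c hc _ ⟨u, hu, rfl⟩
        refine ⟨c u, hinv c hc u hu, ?_⟩
        rw [hδ, hδ, map_mul, ← MulAut.mul_apply, hcomm a ha c hc, MulAut.mul_apply]
      · refine (Subgroup.map_mono hle).trans ?_
        rw [MonoidHom.map_closure]
        refine closure_mono ?_
        rintro _ ⟨_, ⟨c, hc, u, hu, rfl⟩, rfl⟩
        refine ⟨c, hc, δ u, mem_map_of_mem δ hu, ?_⟩
        rw [map_mul, hδ (c u)]
        rw [hδ u, map_mul, ← MulAut.mul_apply, hcomm c hc a ha, MulAut.mul_apply]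
    exact fun u hu => mem_bot.mp (hbot ▸ mem_map_of_mem δ hu)
  refine le_bot_iff.mp (hle.trans ((closure_le _).mpr ?_))
  rintro _ ⟨c, hc, u, hu, rfl⟩
  exact mem_bot.mpr (hzero c hc u hu)

/-- Quadratic action of a strict offender. -/
theorem Strict.quad {H P : Subgroup (MulAut V)} {I : Set (MulAut V)} (h2 : ∀ v : V, v * v = 1)
    (h : Strict H I P) (v : V) {x : MulAut V} (hx : x ∈ P) : x v * v ∈ fixP P := by
  have hcomm : ∀ a ∈ P, ∀ b ∈ P, a * b = b * a := fun a ha b hb => by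
    have h1 := inv_eq_of_mul_eq_one_right (h.exp _ (P.mul_mem ha hb))
    rw [mul_inv_rev, inv_eq_of_mul_eq_one_right (h.exp a ha),
      inv_eq_of_mul_eq_one_right (h.exp b hb)] at h1
    exact h1.symm
  -- the centraliser of `[v, P]`
  let B : Subgroup (MulAut V) :=
    { carrier := {b | b ∈ P ∧ ∀ c ∈ P, b (c v * v) = c v * v}
      one_mem' := ⟨one_mem _, fun _ _ => rfl⟩
      mul_mem' := fun {a b} ha hb => ⟨P.mul_mem ha.1 hb.1, fun c hc => by
        rw [MulAut.mul_apply, hb.2 c hc, ha.2 c hc]⟩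
      inv_mem' := fun {a} ha => by rw [inv_eq_of_mul_eq_one_right (h.exp a ha.1)]; exact ha }
  have hBP : B ≤ P := fun b hb => hb.1
  set M := Subgroup.closure ((fun c : MulAut V => c v * v) '' (P : Set (MulAut V))) with hMdef
  set C := fixP P with hC
  have hMB : M ⊔ C ≤ fixP B := by
    refine sup_le ((closure_le _).mpr ?_) (fixP_anti hBP)
    rintro _ ⟨c, hc, rfl⟩ b hb
    exact hb.2 c hc
  have hcount : Nat.card P * Nat.card C ≤ Nat.card B * Nat.card (M ⊔ C : Subgroup V) := by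
    have key : ∀ a b : P, ((a : MulAut V) v)⁻¹ * (b : MulAut V) v ∈ C →
        (a : MulAut V)⁻¹ * b ∈ B := by
      intro a b hab
      refine ⟨P.mul_mem (P.inv_mem a.2) b.2, fun c hc => ?_⟩
      rw [MulAut.mul_apply]
      apply (a : MulAut V).injective
      rw [MulAut.apply_inv_self]
      have e : ∀ d ∈ P, d (c v * v) = c (d v) * d v := fun d hd => by
        rw [map_mul, ← MulAut.mul_apply, hcomm d hd c hc, MulAut.mul_apply]
      rw [e a a.2, e b b.2]
      obtain ⟨z, hz, hzv⟩ : ∃ z ∈ C, (b : MulAut V) v = (a : MulAut V) v * z :=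
        ⟨_, hab, (mul_inv_cancel_left _ _).symm⟩
      rw [hzv, map_mul, hz c hc,
        show c ((a : MulAut V) v) * z * ((a : MulAut V) v * z) =
          c ((a : MulAut V) v) * (a : MulAut V) v * (z * z) by
          rw [mul_assoc, mul_assoc, mul_left_comm z], h2 z, mul_one]
    let φ : P → (M ⊔ C : Subgroup V) ⧸ C.subgroupOf (M ⊔ C) := fun a =>
      QuotientGroup.mk ⟨(a : MulAut V) v * v, mem_sup_left (subset_closure ⟨a, a.2, rfl⟩)⟩
    have hφ : ∀ a b : P, φ a = φ b → (a : P ⧸ B.subgroupOf P) = b := by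
      intro a b hab
      rw [QuotientGroup.eq]
      refine mem_subgroupOf.mpr (key a b ?_)
      have h1 : ((a : MulAut V) v * v)⁻¹ * ((b : MulAut V) v * v) ∈ C :=
        mem_subgroupOf.mp ((QuotientGroup.eq (s := C.subgroupOf (M ⊔ C))).mp hab)
      rwa [mul_inv, mul_mul_mul_comm, inv_mul_cancel, mul_one] at h1
    have hidx : (B.subgroupOf P).index ≤ (C.subgroupOf (M ⊔ C)).index := by
      refine Nat.card_le_card_of_injective (fun q => φ q.out) fun q q' hq => ?_
      have := hφ _ _ hq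
      rwa [QuotientGroup.out_eq', QuotientGroup.out_eq'] at this
    have e1 := (B.subgroupOf P).card_mul_index
    have e2 := (C.subgroupOf (M ⊔ C)).card_mul_index
    rw [Nat.card_congr (subgroupOfEquivOfLe hBP).toEquiv] at e1
    rw [Nat.card_congr (subgroupOfEquivOfLe (le_sup_right : C ≤ M ⊔ C)).toEquiv] at e2
    rw [← e1, ← e2]
    calc Nat.card B * (B.subgroupOf P).index * Nat.card C
        ≤ Nat.card B * (C.subgroupOf (M ⊔ C)).index * Nat.card C :=
          Nat.mul_le_mul_right _ (Nat.mul_le_mul_left _ hidx)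
      _ = _ := by ring
  have hwB : weight P ≤ weight B := hcount.trans (Nat.mul_le_mul_left _ (card_le_of_le hMB))
  by_cases hB : B = P
  · exact fun p hp => (hB.ge hp).2 x hx
  · have hBbot : B = ⊥ := by
      by_contra hne
      exact (h.lt B hBP hne hB).not_ge hwB
    have htop : M ⊔ C = ⊤ := by
      refine eq_top_of_card_eq _ (le_antisymm (card_le_card_group _) ?_)
      have := h.off.trans hcount
      rwa [hBbot, card_bot, one_mul] at this
    -- `V = [V, P] C` forces a trivial action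
    exfalso
    set D := Subgroup.closure {w | ∃ c ∈ P, ∃ u : V, c u * u = w} with hD
    have hDV : D ⊔ C = ⊤ := by
      refine top_le_iff.mp (htop.ge.trans (sup_le_sup_right ((closure_le _).mpr ?_) C))
      rintro _ ⟨c, hc, rfl⟩
      exact subset_closure ⟨c, hc, v, rfl⟩
    have hDinv : ∀ c ∈ P, ∀ w ∈ D, c w ∈ D := by
      intro c hc w hw
      have hle : D ≤ D.comap c.toMonoidHom := (closure_le _).mpr (by
        rintro _ ⟨d, hd, u, rfl⟩
        refine subset_closure ⟨d, hd, c u, ?_⟩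
        show d (c u) * c u = c (d u * u)
        rw [map_mul, ← MulAut.mul_apply, hcomm d hd c hc, MulAut.mul_apply])
      exact hle hw
    have hDbot : D = ⊥ := comm_eq_bot h2 h.exp hcomm D hDinv ((closure_le _).mpr (by
      rintro _ ⟨c, hc, u, rfl⟩
      obtain ⟨d, hd, z, hz, rfl⟩ := mem_sup.mp (hDV.ge (mem_top u))
      refine subset_closure ⟨c, hc, d, hd, ?_⟩
      rw [map_mul, hz c hc, show c d * z * (d * z) = c d * d * (z * z) from mul_mul_mul_comm _ _ _ _,
        h2 z, mul_one]))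
    refine h.ne ((eq_bot_iff_forall P).mpr fun c hc => MulEquiv.ext fun u => ?_)
    have h1 : c u * u = 1 := mem_bot.mp (hDbot ▸ subset_closure ⟨c, hc, u, rfl⟩)
    exact (eq_inv_of_mul_eq_one_left h1).trans (inv_eq_of_mul_eq_one_right (h2 u))

theorem Strict.isPGroup {H P : Subgroup (MulAut V)} {I : Set (MulAut V)} (h : Strict H I P) :
    IsPGroup 2 P := fun a =>
  ⟨1, Subtype.ext (by rw [pow_one, Subgroup.coe_pow, pow_two]; exact h.exp _ a.2)⟩

/-- Restriction to an invariant subgroup. -/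
def resHom (U : Subgroup V) (K : Subgroup (MulAut V)) (h : ∀ k ∈ K, ∀ u ∈ U, k u ∈ U) :
    K →* MulAut U where
  toFun k :=
    { toFun := fun u => ⟨(k : MulAut V) u, h k k.2 u u.2⟩
      invFun := fun u => ⟨(k : MulAut V)⁻¹ u, h _ (K.inv_mem k.2) u u.2⟩
      left_inv := fun u => Subtype.ext (MulAut.inv_apply_self V (k : MulAut V) _)
      right_inv := fun u => Subtype.ext (MulAut.apply_inv_self V (k : MulAut V) _)
      map_mul' := fun u w => Subtype.ext (map_mul (k : MulAut V) _ _) }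
  map_one' := MulEquiv.ext fun _ => Subtype.ext rfl
  map_mul' _ _ := MulEquiv.ext fun _ => Subtype.ext rfl

/-- The action on the quotient by an invariant subgroup. -/
def quotHom (D : Subgroup V) (K : Subgroup (MulAut V)) (h : ∀ k ∈ K, ∀ d ∈ D, k d ∈ D) :
    K →* MulAut (V ⧸ D) where
  toFun k :=
    { toFun := QuotientGroup.map D D (k : MulAut V).toMonoidHom fun d hd => h k k.2 d hd
      invFun := QuotientGroup.map D D ((k : MulAut V)⁻¹).toMonoidHom fun d hd => h _ (K.inv_mem k.2) d hd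
      left_inv := fun q => by
        induction q using QuotientGroup.induction_on with
        | H v => exact congrArg QuotientGroup.mk (MulAut.inv_apply_self V (k : MulAut V) v)
      right_inv := fun q => by
        induction q using QuotientGroup.induction_on with
        | H v => exact congrArg QuotientGroup.mk (MulAut.apply_inv_self V (k : MulAut V) v)
      map_mul' := map_mul _ }
  map_one' := MulEquiv.ext fun q => by
    induction q using QuotientGroup.induction_on with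
    | H v => rfl
  map_mul' k l := MulEquiv.ext fun q => by
    induction q using QuotientGroup.induction_on with
    | H v => rfl

/-- The hypotheses of the main theorem. -/
structure Hyp (H : Subgroup (MulAut V)) (I : Set (MulAut V)) (T M : Subgroup (MulAut V)) : Prop where
  conj : ∀ g ∈ H, ∀ x ∈ I, g * x * g⁻¹ ∈ I
  no : ∀ a ∈ H, ∀ b ∈ H, a ∈ I → b ∈ I → ¬ 3 ∣ orderOf (a * b)
  core : core2 H = ⊥
  umax : UMax H T M

/-- No offender: the statement to prove. -/
def Claim (W : Type u) [CommGroup W] [Finite W] (m : ℕ) : Prop :=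
  (∀ v : W, v * v = 1) → ∀ (H : Subgroup (MulAut W)) (I : Set (MulAut W)) (T M : Subgroup (MulAut W)),
    Nat.card H ≤ m → Hyp H I T M → ∀ X : Subgroup (MulAut W), X ≤ H → (∀ x ∈ X, x * x = 1) → X ≠ ⊥ →
      (∀ x ∈ X, x ∈ I) → Nat.card W ≤ weight X → False

/-- The unique maximal subgroup in an image. -/
theorem umax_map {W : Type u} [CommGroup W] [Finite W] {K TK M0 : Subgroup (MulAut V)}
    (φ : K →* MulAut W) (hTK : IsSyl K TK) (hTM : TK ≤ M0) (hM0 : M0 ≤ K) (hne : M0 ≠ K)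
    (hker : φ.ker.map K.subtype ≤ M0) (hall : ∀ L ≤ K, TK ≤ L → L ≠ K → L ≤ M0) :
    UMax φ.range ((TK.subgroupOf K).map φ) ((M0.subgroupOf K).map φ) := by
  haveI : Fact (Nat.Prime 2) := ⟨Nat.prime_two⟩
  refine ⟨⟨?_, (hTK.toSylow).isPGroup'.map φ, fun R hR hR2 hle => ?_⟩, ?_, ?_,
    map_mono (fun x hx => hTM hx), fun L hL hTL hLne => ?_⟩
  · rintro _ ⟨x, -, rfl⟩; exact ⟨x, rfl⟩
  · set φ' := φ.rangeRestrict
    have hmax := (hTK.toSylow.mapSurjective φ.rangeRestrict_surjective).is_maximal'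
      (Q := R.subgroupOf φ.range) hR2.comap_subtype (by
        rintro _ ⟨x, hx, rfl⟩
        exact hle (mem_map_of_mem φ hx))
    intro r hr
    obtain ⟨x, hx, hxr⟩ := hmax.le (show (⟨r, hR hr⟩ : φ.range) ∈ R.subgroupOf φ.range from hr)
    exact ⟨x, hx, congrArg Subtype.val hxr⟩
  · rintro _ ⟨x, -, rfl⟩; exact ⟨x, rfl⟩
  · intro h
    refine hne (le_antisymm hM0 fun x hx => ?_)
    obtain ⟨y, hy, hyx⟩ := h.ge (⟨⟨x, hx⟩, rfl⟩ : φ ⟨x, hx⟩ ∈ φ.range)
    have h1 : y⁻¹ * ⟨x, hx⟩ ∈ φ.ker := by rw [MonoidHom.mem_ker, map_mul, map_inv, hyx, inv_mul_cancel]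
    have := M0.mul_mem (mem_subgroupOf.mp hy) (hker (mem_map_of_mem K.subtype h1))
    simpa using this
  · set L0 := (L.comap φ).map K.subtype
    have hL0 : L0 ≤ M0 := by
      refine hall L0 (map_subtype_le _) (fun t ht => ⟨⟨t, hTK.1 ht⟩, hTL (mem_map_of_mem φ
        (mem_subgroupOf.mpr ht)), rfl⟩) fun h => hLne (le_antisymm hL ?_)
      rintro _ ⟨⟨x, hx⟩, rfl⟩
      obtain ⟨y, hy, hyx⟩ := h.ge hx
      exact (Subtype.ext hyx : y = ⟨x, hx⟩) ▸ hy
    intro z hz
    obtain ⟨x, rfl⟩ := hL hz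
    exact ⟨x, hL0 (mem_map_of_mem K.subtype hz), rfl⟩

set_option maxHeartbeats 800000 in
/-- Passing to an invariant subgroup. -/
theorem descend (h2 : ∀ v : V, v * v = 1) {H K M P : Subgroup (MulAut V)} {I : Set (MulAut V)}
    (hI : ∀ g ∈ H, ∀ x ∈ I, g * x * g⁻¹ ∈ I) (hno : ∀ a ∈ H, ∀ b ∈ H, a ∈ I → b ∈ I → ¬ 3 ∣ orderOf (a * b))
    (hKH : K ≤ H) (hP : Strict H I P) (hPK : P ≤ K)
    (hover : ∀ L ≤ K, P ≤ L → L ≠ K → L ≤ M) (hKM : ¬ K ≤ M)
    (hout : ∀ k ∈ K, k ∉ M → ¬ cj k P ≤ M)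
    (U : Subgroup V) (hU : ∀ k ∈ K, ∀ u ∈ U, k u ∈ U)
    {v : V} (hvU : v ∈ U) (hvP : v ∈ fixP P) (hmove : ∃ k ∈ K, k v ≠ v)
    (hQ : ∀ q ∈ core2 K, ∀ u ∈ U, q u = u) (IH : Claim U (Nat.card K)) : False := by
  haveI : Fact (Nat.Prime 2) := ⟨Nat.prime_two⟩
  obtain ⟨φ, hφapp⟩ : ∃ φ : K →* MulAut U, ∀ (k : K) (u : U), ((φ k u : U) : V) = (k : MulAut V) u :=
    ⟨resHom U K hU, fun _ _ => rfl⟩
  set φ' := φ.rangeRestrict with hφ'
  have hφ's : Function.Surjective φ' := φ.rangeRestrict_surjective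
  set N := φ.ker.map K.subtype with hN
  have hNK : N ≤ K := map_subtype_le _
  have hNfix : ∀ x ∈ N, ∀ u ∈ U, x u = u := by
    rintro _ ⟨k, hk, rfl⟩ u hu
    exact (hφapp k ⟨u, hu⟩).symm.trans (by rw [MonoidHom.mem_ker.mp hk]; rfl)
  have hmemN : ∀ k : K, (∀ u ∈ U, (k : MulAut V) u = u) → φ k = 1 := fun k h =>
    MulEquiv.ext fun u => Subtype.ext ((hφapp k u).trans (h u u.2))
  obtain ⟨k0, hk0, hk0M⟩ := SetLike.not_le_iff_exists.mp hKM
  have hNP : N ⊔ P ≤ M := by
    refine hover _ (sup_le hNK hPK) le_sup_right fun he => ?_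
    obtain ⟨k, hk, hkv⟩ := hmove
    let S : Subgroup (MulAut V) :=
      { carrier := {x | x v = v}
        one_mem' := rfl
        mul_mem' := fun {a b} (ha : a v = v) (hb : b v = v) => show (a * b) v = v by
          rw [MulAut.mul_apply, hb, ha]
        inv_mem' := fun {a} (ha : a v = v) => show a⁻¹ v = v by
          nth_rw 1 [← ha]; exact MulAut.inv_apply_self V a v }
    exact hkv ((sup_le (fun x hx => hNfix x hx v hvU) (fun x hx => hvP x hx) : N ⊔ P ≤ S) (he.ge hk))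
  have hKN : ∀ x ∈ N, ∀ k ∈ K, k * x * k⁻¹ ∈ N := by
    rintro _ ⟨y, hy, rfl⟩ k hk
    refine ⟨(⟨k, hk⟩ : K) * y * (⟨k, hk⟩ : K)⁻¹, MonoidHom.mem_ker.mpr ?_, rfl⟩
    rw [map_mul, map_mul, map_inv, MonoidHom.mem_ker.mp hy, mul_one, mul_inv_cancel]
  have hPN : ¬ P ≤ N := fun h => hout k0 hk0 hk0M (by
    rintro _ ⟨x, hx, rfl⟩
    exact (le_sup_left.trans hNP) (hKN x (h hx) k0 hk0))
  -- no normal `2`-subgroup in the image
  have hcore : Cfsg.pCore 2 φ.range = ⊥ := by
    set N' := Cfsg.pCore 2 φ.range with hN'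
    haveI : N'.Normal := HallCore.pCore_normal 2 _
    set N2 := (N'.comap φ').map K.subtype with hN2
    have hN2K : N2 ≤ K := map_subtype_le _
    have hN2n : ∀ x ∈ N2, ∀ k ∈ K, k * x * k⁻¹ ∈ N2 := by
      rintro _ ⟨y, hy, rfl⟩ k hk
      refine ⟨(⟨k, hk⟩ : K) * y * (⟨k, hk⟩ : K)⁻¹, ?_, rfl⟩
      exact Normal.conj_mem (inferInstance : (N'.comap φ').Normal) y hy _
    set P' := (P.subgroupOf K).map φ' with hP'
    have hN2P : N2 ⊔ P ≤ M := by
      refine hover _ (sup_le hN2K hPK) le_sup_right fun he => ?_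
      -- the image is then a `2`-group
      have htop : N' ⊔ P' = ⊤ := by
        refine eq_top_iff.mpr fun z _ => ?_
        obtain ⟨k, rfl⟩ := hφ's z
        have h1 : N2 ⊔ P ≤ ((N' ⊔ P').comap φ').map K.subtype := by
          refine sup_le (map_mono (comap_mono le_sup_left)) fun x hx => ?_
          exact ⟨⟨x, hPK hx⟩, mem_sup_right (mem_map_of_mem φ' (mem_subgroupOf.mpr hx)), rfl⟩
        obtain ⟨y, hy, hye⟩ := h1 (he.ge k.2)
        exact (Subtype.ext hye : y = k) ▸ hy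
      have h2g : IsPGroup 2 φ.range := by
        have h := (HallCore.isPGroup_pCore 2 φ.range).to_sup_of_normal_left
          ((hP.isPGroup.comap_subtype (K := K)).map φ')
        rw [← hN', show ((comap K.subtype P).map φ') = P' from rfl, htop] at h
        exact h.of_equiv topEquiv
      have hne : P' ≠ ⊤ := by
        intro h
        have hall : K ≤ N ⊔ P := by
          intro x hx
          obtain ⟨y, hy, hyx⟩ := h.ge (mem_top (φ' ⟨x, hx⟩))
          have h1 : φ (y⁻¹ * ⟨x, hx⟩) = 1 := by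
            rw [map_mul, map_inv, show φ y = φ ⟨x, hx⟩ from congrArg Subtype.val hyx, inv_mul_cancel]
          have h3 := (N ⊔ P).mul_mem (mem_sup_right (mem_subgroupOf.mp hy))
            (mem_sup_left (mem_map_of_mem K.subtype (MonoidHom.mem_ker.mpr h1)))
          simpa using h3
        exact hKM (hall.trans hNP)
      obtain ⟨J, hJ, hPJ⟩ := (eq_top_or_exists_le_coatom P').resolve_left hne
      haveI := h2g.isNilpotent
      haveI : J.Normal := NormalizerCondition.normal_of_coatom J Group.normalizerCondition_of_isNilpotent hJ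
      set L := (J.comap φ').map K.subtype with hL
      have hLM : L ≤ M := by
        refine hover L (map_subtype_le _)
          (fun x hx => ⟨⟨x, hPK hx⟩, hPJ (mem_map_of_mem φ' (mem_subgroupOf.mpr hx)), rfl⟩) fun he' => ?_
        refine hJ.1 (eq_top_iff.mpr fun z _ => ?_)
        obtain ⟨k, rfl⟩ := hφ's z
        obtain ⟨y, hy, hye⟩ := he'.ge k.2
        exact (Subtype.ext hye : y = k) ▸ hy
      refine hout k0 hk0 hk0M ?_
      rintro _ ⟨x, hx, rfl⟩
      refine hLM ⟨(⟨k0, hk0⟩ : K) * ⟨x, hPK hx⟩ * (⟨k0, hk0⟩ : K)⁻¹, ?_, rfl⟩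
      exact Normal.conj_mem (inferInstance : (J.comap φ').Normal) _
          (hPJ (mem_map_of_mem φ' (mem_subgroupOf.mpr hx))) _
    -- a Sylow subgroup of the preimage normalised by `P`
    obtain ⟨Ta, hTa, hPTa⟩ := exists_syl (H := N2 ⊔ P) le_sup_right hP.isPGroup
    set S2 := Ta ⊓ N2 with hS2
    have hS2syl : IsSyl N2 S2 := by
      refine ⟨inf_le_right, hTa.2.1.to_le inf_le_left, fun R hR hR2 hle => ?_⟩
      obtain ⟨g, hg, hgR⟩ := hTa.exists_conj_le (hR.trans le_sup_left) hR2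
      have h1 : cj g R ≤ S2 := le_inf hgR (by
        rintro _ ⟨r, hr, rfl⟩
        exact hN2n r (hR hr) g ((sup_le hN2K hPK) hg))
      exact (eq_of_le_of_card_ge hle ((card_cj g R).ge.trans (card_le_of_le h1))).ge
    have hS2n : K ≤ normalizer (S2 : Set (MulAut V)) := by
      by_contra hnn
      have hle : K ⊓ normalizer (S2 : Set (MulAut V)) ≤ M := by
        refine hover _ inf_le_left (le_inf hPK fun x hx => mem_normalizer_of_cj_le ?_)
          fun he => hnn (inf_eq_left.mp he)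
        rintro _ ⟨y, hy, rfl⟩
        exact ⟨Ta.mul_mem (Ta.mul_mem (hPTa hx) hy.1) (Ta.inv_mem (hPTa hx)), hN2n y hy.2 x (hPK hx)⟩
      refine hKM fun x hx => ?_
      have hxS : cj x S2 ≤ N2 := by
        rintro _ ⟨y, hy, rfl⟩
        exact hN2n y hy.2 x hx
      obtain ⟨n, hn, hnle⟩ := hS2syl.exists_conj_le hxS (hS2syl.2.1.map _)
      rw [cj_cj] at hnle
      have h1 := M.mul_mem (M.inv_mem ((le_sup_left.trans hN2P) hn))
        (hle ⟨K.mul_mem (hN2K hn) hx, mem_normalizer_of_cj_le hnle⟩)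
      rwa [inv_mul_cancel_left] at h1
    have hS2fix : ∀ x ∈ S2, ∀ u ∈ U, x u = u := fun x hx u hu =>
      hQ x (le_core2 (inf_le_right.trans hN2K) hS2syl.2.1 hS2n hx) u hu
    rw [eq_bot_iff]
    intro z hz
    obtain ⟨x, rfl⟩ := hφ's z
    rw [mem_bot]
    obtain ⟨j, hj⟩ := HallCore.isPGroup_pCore 2 φ.range ⟨φ' x, hz⟩
    have hj' : φ' x ^ 2 ^ j = 1 := congrArg Subtype.val hj
    obtain ⟨k, m, hm, hkm⟩ := Nat.exists_eq_pow_mul_and_not_dvd (orderOf_pos x).ne' 2 (by norm_num)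
    have hp : IsPGroup 2 (zpowers ((x : MulAut V) ^ m)) := fun w => ⟨k, Subtype.ext (by
      obtain ⟨i, hi⟩ := mem_zpowers_iff.mp w.2
      rw [Subgroup.coe_pow, ← hi, ← zpow_natCast, ← zpow_mul, mul_comm, zpow_mul, zpow_natCast,
        ← pow_mul, mul_comm m, ← hkm, ← Subgroup.coe_pow, pow_orderOf_eq_one, Subgroup.coe_one, one_zpow]
      rfl)⟩
    have hxN2 : (x : MulAut V) ∈ N2 := mem_map_of_mem K.subtype (mem_comap.mpr hz)
    obtain ⟨g, hg, hgS⟩ := hS2syl.exists_conj_le (zpowers_le.mpr (N2.pow_mem hxN2 m)) hp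
    have hfix : φ (x ^ m) = 1 := by
      refine hmemN _ fun u hu => ?_
      have h1 := hS2fix _ (hgS (conj_mem_cj (mem_zpowers _))) (g u) (hU g (hN2K hg) u hu)
      apply g.injective
      rw [MulAut.mul_apply, MulAut.mul_apply, MulAut.inv_apply_self] at h1
      exact h1
    have hm1 : φ' x ^ m = 1 := by
      rw [← map_pow]; exact Subtype.ext hfix
    have h0 : φ' x ^ Nat.gcd m (2 ^ j) = 1 := pow_gcd_eq_one.mpr ⟨hm1, hj'⟩
    rwa [Nat.Coprime.gcd_eq_one (Nat.Coprime.pow_right j ((Nat.Prime.coprime_iff_not_dvd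
      Nat.prime_two).mpr hm).symm), pow_one] at h0
  have hcore2 : core2 φ.range = ⊥ := by rw [core2, hcore, Subgroup.map_bot]
  -- the image configuration
  obtain ⟨TK, hTK, hPTK⟩ := exists_syl hPK hP.isPGroup
  have hover' : ∀ L ≤ K, TK ≤ L → L ≠ K → L ≤ M ⊓ K := fun L hL hT hne =>
    le_inf (hover L hL (hPTK.trans hT) hne) hL
  have hTKne : TK ≠ K := fun h => hKM (by
    have h1 : N ⊔ P ≤ M := hNP
    by_contra hnle
    obtain ⟨J, hJ, hPJ⟩ := (eq_top_or_exists_le_coatom (P.subgroupOf K)).resolve_left fun hh =>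
      hnle ((subgroupOf_eq_top.mp hh).trans (le_sup_right.trans h1))
    haveI : IsPGroup 2 K ∧ True := ⟨h ▸ hTK.2.1, trivial⟩
    haveI := (h ▸ hTK.2.1 : IsPGroup 2 K).isNilpotent
    haveI : J.Normal := NormalizerCondition.normal_of_coatom J Group.normalizerCondition_of_isNilpotent hJ
    have hLM : J.map K.subtype ≤ M := hover _ (map_subtype_le _)
      (fun x hx => ⟨⟨x, hPK hx⟩, hPJ (mem_subgroupOf.mpr hx), rfl⟩) fun he => hJ.1 (by
        refine eq_top_iff.mpr fun z _ => ?_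
        obtain ⟨y, hy, hye⟩ := he.ge z.2
        exact (Subtype.ext hye : y = z) ▸ hy)
    refine hout k0 hk0 hk0M ?_
    rintro _ ⟨x, hx, rfl⟩
    refine hLM ⟨(⟨k0, hk0⟩ : K) * ⟨x, hPK hx⟩ * (⟨k0, hk0⟩ : K)⁻¹, ?_, rfl⟩
    exact Normal.conj_mem (inferInstance : J.Normal) _ (hPJ (mem_subgroupOf.mpr hx)) _)
  have humax := umax_map φ hTK (M0 := M ⊓ K) (le_inf (hover TK hTK.1 hPTK hTKne) hTK.1) inf_le_right
    (fun h => hKM (h ▸ inf_le_left)) (le_inf (le_sup_left.trans hNP) hNK) hover'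
  set I' : Set (MulAut U) := {y | ∃ k : K, (k : MulAut V) ∈ I ∧ φ k = y} with hI'
  have hyp : Hyp φ.range I' ((TK.subgroupOf K).map φ) (((M ⊓ K).subgroupOf K).map φ) := by
    refine ⟨?_, ?_, hcore2, humax⟩
    · rintro _ ⟨l, rfl⟩ _ ⟨k, hk, rfl⟩
      exact ⟨l * k * l⁻¹, hI l (hKH l.2) k hk, by simp⟩
    · rintro _ - _ - ⟨a, ha, rfl⟩ ⟨b, hb, rfl⟩ h3
      refine hno a (hKH a.2) b (hKH b.2) ha hb (h3.trans ?_)
      rw [← map_mul, show (a : MulAut V) * b = ((a * b : K) : MulAut V) from rfl, Subgroup.orderOf_coe]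
      exact orderOf_map_dvd φ (a * b)
  set ψ := φ.comp (Subgroup.inclusion hPK) with hψ
  set I0 := ψ.ker.map P.subtype with hI0
  have hI0N : I0 ≤ N := by
    rintro _ ⟨p, hp, rfl⟩
    exact ⟨Subgroup.inclusion hPK p, hp, rfl⟩
  have hI0P : I0 ≠ P := fun h => hPN (h ▸ hI0N)
  have hUI0 : U ≤ fixP I0 := fun u hu x hx => hNfix x (hI0N hx) u hu
  have hwI0 : weight I0 ≤ weight P := by
    by_cases h : I0 = ⊥
    · rw [h, weight_bot]; exact hP.off
    · exact (hP.lt I0 (map_subtype_le _) h hI0P).le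
  have hcard : Nat.card P = Nat.card I0 * Nat.card ψ.range := by
    rw [hI0, card_map_of_injective P.subtype_injective, ← index_ker, card_mul_index]
  have hfixeq : (fixP ψ.range).map U.subtype = U ⊓ fixP P := by
    refine le_antisymm ?_ ?_
    · rintro _ ⟨u, hu, rfl⟩
      exact ⟨u.2, fun x hx => (hφapp ⟨x, hPK hx⟩ u).symm.trans (congrArg Subtype.val (hu _ ⟨⟨x, hx⟩, rfl⟩))⟩
    · intro w hw
      refine ⟨⟨w, hw.1⟩, ?_, rfl⟩
      rintro _ ⟨p, rfl⟩
      exact Subtype.ext ((hφapp _ _).trans (hw.2 p p.2))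
  refine IH (fun u => Subtype.ext (h2 u)) φ.range I' _ _
    (Nat.le_of_dvd Nat.card_pos (card_range_dvd φ)) hyp ψ.range ?_ ?_ ?_ ?_ ?_
  · rintro _ ⟨p, rfl⟩; exact ⟨_, rfl⟩
  · rintro _ ⟨p, rfl⟩
    rw [← map_mul, show p * p = 1 from Subtype.ext (hP.exp p p.2), map_one]
  · intro h
    refine hPN fun x hx => ⟨⟨x, hPK hx⟩, ?_, rfl⟩
    exact (mem_bot.mp (h.le ⟨⟨x, hx⟩, rfl⟩) : ψ ⟨x, hx⟩ = 1)
  · rintro _ ⟨p, rfl⟩
    exact ⟨Subgroup.inclusion hPK p, hP.mem p p.2, rfl⟩
  · rw [weight, ← card_map_of_injective (K := fixP ψ.range) U.subtype_injective, hfixeq]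
    refine Nat.le_of_mul_le_mul_left ?_ (Nat.mul_pos (Nat.card_pos (α := I0)) (Nat.card_pos (α := fixP P)))
    have h1 := card_mul_card_le U (fixP P)
    have h3 : Nat.card (U ⊔ fixP P : Subgroup V) ≤ Nat.card (fixP I0) :=
      card_le_of_le (sup_le hUI0 (fixP_anti (map_subtype_le _)))
    calc Nat.card I0 * Nat.card (fixP P) * Nat.card U
        = Nat.card I0 * (Nat.card U * Nat.card (fixP P)) := by ring
      _ ≤ Nat.card I0 * (Nat.card (fixP I0) * Nat.card (U ⊓ fixP P : Subgroup V)) :=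
          Nat.mul_le_mul_left _ (h1.trans (Nat.mul_le_mul_right _ h3))
      _ = weight I0 * Nat.card (U ⊓ fixP P : Subgroup V) := by rw [weight]; ring
      _ ≤ weight P * Nat.card (U ⊓ fixP P : Subgroup V) := Nat.mul_le_mul_right _ hwI0
      _ = _ := by rw [weight, hcard]; ring

theorem exists_syl' (H : Subgroup (MulAut V)) : ∃ T, IsSyl H T :=
  let ⟨T, hT, _⟩ := exists_syl (H := H) bot_le IsPGroup.of_bot
  ⟨T, hT⟩

/-- The join of the strict offenders contained in `S`. -/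
def dgen (H : Subgroup (MulAut V)) (I : Set (MulAut V)) (S : Subgroup (MulAut V)) : Subgroup (MulAut V) :=
  ⨆ P : {P : Subgroup (MulAut V) // Strict H I P ∧ P ≤ S}, (P : Subgroup (MulAut V))

theorem dgen_le {H S : Subgroup (MulAut V)} {I : Set (MulAut V)} : dgen H I S ≤ S :=
  iSup_le fun P => P.2.2

theorem le_dgen {H S P : Subgroup (MulAut V)} {I : Set (MulAut V)} (hP : Strict H I P) (h : P ≤ S) :
    P ≤ dgen H I S :=
  le_iSup (fun P : {P : Subgroup (MulAut V) // Strict H I P ∧ P ≤ S} => (P : Subgroup (MulAut V)))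
    ⟨P, hP, h⟩

theorem cj_dgen_le {H S : Subgroup (MulAut V)} {I : Set (MulAut V)}
    (hI : ∀ g ∈ H, ∀ x ∈ I, g * x * g⁻¹ ∈ I) {g : MulAut V} (hg : g ∈ H) :
    cj g (dgen H I S) ≤ dgen H I (cj g S) := by
  rw [dgen, cj, Subgroup.map_iSup]
  exact iSup_le fun P => le_dgen (P.2.1.cj hg (hI g hg)) (cj_mono g P.2.2)

theorem card_dgen_cj {H S : Subgroup (MulAut V)} {I : Set (MulAut V)}
    (hI : ∀ g ∈ H, ∀ x ∈ I, g * x * g⁻¹ ∈ I) {g : MulAut V} (hg : g ∈ H) :
    Nat.card (dgen H I (cj g S)) = Nat.card (dgen H I S) := by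
  refine le_antisymm ?_ ?_
  · have h := cj_dgen_le (S := cj g S) hI (H.inv_mem hg)
    rw [cj_inv_cj] at h
    rw [← card_cj g⁻¹ (dgen H I (cj g S))]
    exact card_le_of_le h
  · rw [← card_cj g (dgen H I S)]
    exact card_le_of_le (cj_dgen_le hI hg)

/-- A strict offender normalising a proper part of the offenders of `T`. -/
theorem exists_normalizing {H T D : Subgroup (MulAut V)} {I : Set (MulAut V)}
    (hI : ∀ g ∈ H, ∀ x ∈ I, g * x * g⁻¹ ∈ I) (hTH : T ≤ H) (hT : IsPGroup 2 T) (hDT : D ≤ T)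
    (hgen : D ≤ dgen H I D) (hne : dgen H I T ≠ D) :
    ∃ P, Strict H I P ∧ P ≤ T ∧ P ≤ normalizer (D : Set (MulAut V)) ∧ ¬ P ≤ D := by
  haveI : Fact (Nat.Prime 2) := ⟨Nat.prime_two⟩
  by_contra hno
  push Not at hno
  set N0 := T ⊓ normalizer (D : Set (MulAut V)) with hN0
  have hDN : D ≤ N0 := le_inf hDT le_normalizer
  by_cases hTn : T ≤ normalizer (D : Set (MulAut V))
  · refine hne (le_antisymm (iSup_le fun P => ?_) (hgen.trans (iSup_le fun P => le_dgen P.2.1 (P.2.2.trans hDT))))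
    exact hno P P.2.1 P.2.2 (P.2.2.trans hTn)
  have hlt : N0 < T := lt_of_le_of_ne inf_le_left fun h => hTn (h ▸ inf_le_right)
  haveI := hT.isNilpotent
  have h1 := Group.normalizerCondition_of_isNilpotent (G := T) (N0.subgroupOf T)
    (lt_top_iff_ne_top.mpr fun h => hlt.not_ge (subgroupOf_eq_top.mp h))
  obtain ⟨t, ht, htN⟩ := SetLike.exists_of_lt h1
  refine htN (mem_subgroupOf.mpr ⟨t.2, mem_normalizer_of_cj_le ?_⟩)
  have htn : cj (t : MulAut V) N0 ≤ N0 := by
    rintro _ ⟨x, hx, rfl⟩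
    exact mem_subgroupOf.mp ((mem_normalizer_iff.mp ht ⟨x, hx.1⟩).mp (mem_subgroupOf.mpr hx))
  refine (cj_mono _ hgen).trans ?_
  rw [dgen, cj, Subgroup.map_iSup]
  refine iSup_le fun P => ?_
  have hP' := (cj_mono (t : MulAut V) (P.2.2.trans hDN)).trans htn
  exact hno _ (P.2.1.cj (hTH t.2) (hI _ (hTH t.2))) (hP'.trans inf_le_left) (hP'.trans inf_le_right)

/-- The automorphisms fixing `v`. -/
def stabV (v : V) : Subgroup (MulAut V) where
  carrier := {x | x v = v}
  one_mem' := rfl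
  mul_mem' := fun {a b} (ha : a v = v) (hb : b v = v) => show (a * b) v = v by rw [MulAut.mul_apply, hb, ha]
  inv_mem' := fun {a} (ha : a v = v) => show a⁻¹ v = v by
    nth_rw 1 [← ha]; exact MulAut.inv_apply_self V a v

/-- The final configuration: every proper subgroup over the offender lies in `M`. -/
theorem endgame (h2 : ∀ v : V, v * v = 1) {H T M P : Subgroup (MulAut V)} {I : Set (MulAut V)}
    (hyp : Hyp H I T M) (hP : Strict H I P) (hPT : P ≤ T) (hfix : fixP H = ⊥)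
    (hnT : ¬ H ≤ normalizer (T : Set (MulAut V)))
    (hover : ∀ L ≤ H, P ≤ L → L ≠ H → L ≤ M)
    (hout : ∀ k ∈ H, k ∉ M → ¬ cj k P ≤ M)
    (IH : ∀ U : Subgroup V, U ≠ ⊤ → Claim U (Nat.card H)) : False := by
  haveI : Fact (Nat.Prime 2) := ⟨Nat.prime_two⟩
  have hinv : ∀ v : V, v⁻¹ = v := fun v => inv_eq_of_mul_eq_one_right (h2 v)
  have hMH : M ≤ H := hyp.umax.2.1
  have hTM : T ≤ M := hyp.umax.2.2.2.1
  have hHM : ¬ H ≤ M := fun h => hyp.umax.2.2.1 (le_antisymm hMH h)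
  have hPM : P ≤ M := hPT.trans hTM
  set C := fixP P with hC
  -- stabilisers
  have hstab : ∀ c ∈ C, c ≠ 1 → H ⊓ stabV c ≤ M := by
    intro c hc hc1
    refine hover _ inf_le_left (le_inf hP.le fun x hx => hc x hx) fun he => hc1 ?_
    exact mem_bot.mp (hfix ▸ (fun x hx => (he.ge hx).2 : c ∈ fixP H))
  have hstab' : ∀ g ∈ H, ∀ c ∈ fixP (cj g P), c ≠ 1 → H ⊓ stabV c ≤ cj g M := by
    intro g hg c hc hc1 x hx
    rw [mem_cj]
    have h1 : (g⁻¹ * x * g) (g⁻¹ c) = g⁻¹ c := by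
      rw [MulAut.mul_apply, MulAut.mul_apply, MulAut.apply_inv_self, show x c = c from hx.2]
    exact hstab _ (mem_fixP_cj.mp hc) (fun h => hc1 (by
      have := congrArg g h
      rwa [MulAut.apply_inv_self, map_one] at this))
      ⟨H.mul_mem (H.mul_mem (H.inv_mem hg) hx.1) hg, h1⟩
  have hPs : ∀ g ∈ H, Strict H I (cj g P) := fun g hg => hP.cj hg (hyp.conj g hg)
  have hgen : ∀ g ∈ H, g ∉ M → P ⊔ cj g P = H := fun g hg hgM => by
    by_contra hne
    exact hout g hg hgM (le_sup_right.trans (hover _ (sup_le hP.le (hPs g hg).le) le_sup_left hne))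
  have hdisj : ∀ g ∈ H, g ∉ M → C ⊓ fixP (cj g P) = ⊥ := by
    intro g hg hgM
    refine le_bot_iff.mp fun w hw => mem_bot.mpr ?_
    by_contra hw1
    exact hout g hg hgM ((le_inf (hPs g hg).le fun x hx => hw.2 x hx).trans (hstab w hw.1 hw1))
  have hfull : ∀ g ∈ H, g ∉ M → C ⊔ fixP (cj g P) = ⊤ := by
    intro g hg hgM
    by_contra hne
    set W := C ⊔ fixP (cj g P)
    have hWinv : ∀ k ∈ H, ∀ u ∈ W, k u ∈ W := by
      let St : Subgroup (MulAut V) :=
        { carrier := {x | ∀ u ∈ W, x u ∈ W}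
          one_mem' := fun u hu => hu
          mul_mem' := fun {a b} (ha : ∀ u ∈ W, a u ∈ W) (hb : ∀ u ∈ W, b u ∈ W) u hu => by
            rw [MulAut.mul_apply]; exact ha _ (hb u hu)
          inv_mem' := fun {a} (ha : ∀ u ∈ W, a u ∈ W) u hu => by
            have hmap : W.map a.toMonoidHom = W := eq_of_le_of_card_ge
              (by rintro _ ⟨w, hw, rfl⟩; exact ha w hw) (card_map_of_injective a.injective).ge
            obtain ⟨w, hw, rfl⟩ := hmap.ge hu
            show a⁻¹ (a w) ∈ W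
            rwa [MulAut.inv_apply_self] }
      suffices hle : H ≤ St from fun k hk => hle hk
      rw [← hgen g hg hgM]
      have e : ∀ (x : MulAut V) (b : V), x b = x b * b * b := fun x b => by rw [mul_assoc, h2, mul_one]
      refine sup_le (fun x hx u hu => ?_) (fun x hx u hu => ?_)
      · obtain ⟨a, ha, b, hb, rfl⟩ := mem_sup.mp hu
        rw [map_mul, ha x hx, e x b]
        exact W.mul_mem (mem_sup_left ha) (W.mul_mem (mem_sup_left (hP.quad h2 b hx)) (mem_sup_right hb))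
      · obtain ⟨a, ha, b, hb, rfl⟩ := mem_sup.mp hu
        rw [map_mul, hb x hx, e x a]
        exact W.mul_mem (W.mul_mem (mem_sup_right ((hPs g hg).quad h2 a hx)) (mem_sup_left ha))
          (mem_sup_right hb)
    obtain ⟨c, hc1, hc⟩ : ∃ c : V, c ≠ 1 ∧ c ∈ C := by
      refine exists_fixed h2 ?_ hP.isPGroup
      by_contra hV
      rw [not_nontrivial_iff_subsingleton] at hV
      exact hP.ne ((eq_bot_iff_forall P).mpr fun x _ => MulEquiv.ext fun v => Subsingleton.elim _ _)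
    refine descend h2 hyp.conj hyp.no le_rfl hP hP.le hover hHM hout W hWinv (mem_sup_left hc) hc ?_ ?_
      (IH W hne)
    · by_contra hno
      push Not at hno
      exact hc1 (mem_bot.mp (hfix ▸ (hno : c ∈ fixP H)))
    · rw [hyp.core]
      intro q hq u _
      rw [mem_bot.mp hq]; rfl
  have hfixcj : ∀ g : MulAut V, Nat.card (fixP (cj g P)) = Nat.card C := fun g => by
    rw [fixP_cj, card_map_of_injective g.injective]
  obtain ⟨g1, hg1, hg1M⟩ := SetLike.not_le_iff_exists.mp hHM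
  have hCP : Nat.card C ≤ Nat.card P := by
    have h1 := card_mul_card_le C (fixP (cj g1 P))
    have h3 := card_le_card_group (C ⊔ fixP (cj g1 P))
    rw [hdisj g1 hg1 hg1M, card_bot, mul_one, hfixcj] at h1
    exact Nat.le_of_mul_le_mul_right ((h1.trans h3).trans hP.off) Nat.card_pos
  -- intersections with conjugates of `M`
  obtain ⟨g, ⟨hg, hgM⟩, hgmax⟩ := Set.exists_max_image {g : MulAut V | g ∈ H ∧ g ∉ M}
    (fun g => Nat.card (P ⊓ cj g M : Subgroup (MulAut V))) (Set.toFinite _) ⟨g1, hg1, hg1M⟩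
  have hinvM : ∀ g ∈ H, g ∉ M → g⁻¹ ∈ H ∧ g⁻¹ ∉ M := fun g hg hgM =>
    ⟨H.inv_mem hg, fun h => hgM (inv_inv g ▸ M.inv_mem h)⟩
  by_cases hY : P ⊓ cj g M ≠ ⊥
  · set Y := P ⊓ cj g M with hYdef
    obtain ⟨m, hm, hmY⟩ := ((hyp.umax.cj hg).1.mono (hyp.umax.cj hg).2.2.2.1 (cj_le_of_mem hg hMH)).exists_conj_le
      (inf_le_right : Y ≤ cj g M) (hP.isPGroup.to_le inf_le_left)
    set g2 := m⁻¹ * g with hg2def
    have hg2M' : cj g2 M = cj g M := by
      rw [hg2def, ← cj_cj]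
      exact cj_eq_of_mem (le_normalizer (Subgroup.inv_mem _ hm))
    have hg2 : g2 ∈ H := H.mul_mem (H.inv_mem (cj_le_of_mem hg hMH hm)) hg
    have hg2M : g2 ∉ M := fun h => hgM (hyp.umax.mem_of_cj_eq hnT hg
      (hg2M' ▸ cj_eq_of_mem (le_normalizer h)))
    have hYT : Y ≤ cj g2 T := by
      rw [hg2def, ← cj_cj]; exact cj_le_iff.mp hmY
    set P' := cj g2 P with hP'def
    have hS' : IsPGroup 2 (Y ⊔ P' : Subgroup (MulAut V)) :=
      (hyp.umax.1.cj hg2).2.1.to_le (sup_le hYT (cj_mono g2 hPT))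
    set S := fixP (Y ⊔ P') with hSdef
    have hSC' : S ≤ fixP P' := fixP_anti le_sup_right
    have hCS : C ⊓ S = ⊥ := le_bot_iff.mp ((inf_le_inf_left _ hSC').trans (hdisj g2 hg2 hg2M).le)
    have hYP : Y ≠ P := fun h => hout g⁻¹ (hinvM g hg hgM).1 (hinvM g hg hgM).2
      (cj_le_iff.mpr (by rw [inv_inv]; exact h.ge.trans inf_le_right))
    have hbound : Nat.card Y * Nat.card S < Nat.card P := by
      have h1 := card_mul_card_le C S
      rw [hCS, card_bot, mul_one] at h1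
      have h3 : Nat.card (C ⊔ S : Subgroup V) ≤ Nat.card (fixP Y) :=
        card_le_of_le (sup_le (fixP_anti inf_le_left) (fixP_anti le_sup_left))
      refine Nat.lt_of_mul_lt_mul_right (a := Nat.card C) ?_
      calc Nat.card Y * Nat.card S * Nat.card C = Nat.card Y * (Nat.card C * Nat.card S) := by ring
        _ ≤ weight Y := Nat.mul_le_mul_left _ (h1.trans h3)
        _ < weight P := hP.lt Y inf_le_left hY hYP
    -- a vector outside `S` moved into `S`
    obtain ⟨c, hcC, hc1, hcS⟩ : ∃ c ∈ C, c ≠ 1 ∧ ∀ x ∈ P', x c * c ∈ S := by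
      let φ := quotHom S (Y ⊔ P') fun k hk d hd => by rw [hd k hk]; exact hd
      haveI : Nontrivial (V ⧸ S) := by
        rw [← Finite.one_lt_card_iff_nontrivial, ← index_eq_card]
        refine lt_of_le_of_ne (Nat.one_le_iff_ne_zero.mpr index_ne_zero_of_finite) fun h => ?_
        have hStop : S = ⊤ := index_eq_one.mp h.symm
        have hCbot : C = ⊥ := by rwa [hStop, inf_top_eq] at hCS
        obtain ⟨c, hc1, hc⟩ := exists_fixed h2 (by
          by_contra hV
          rw [not_nontrivial_iff_subsingleton] at hV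
          exact hP.ne ((eq_bot_iff_forall P).mpr fun x _ => MulEquiv.ext fun v => Subsingleton.elim _ _))
          hP.isPGroup
        exact hc1 (mem_bot.mp (hCbot ▸ hc))
      obtain ⟨w, hw1, hw⟩ := exists_fixed (W := V ⧸ S) (fun q => by
          induction q using QuotientGroup.induction_on with
          | H v => rw [← QuotientGroup.mk_mul, h2]; rfl)
        inferInstance (hS'.of_surjective φ.rangeRestrict φ.rangeRestrict_surjective)
      obtain ⟨z, rfl⟩ := QuotientGroup.mk_surjective w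
      have hz : ∀ x ∈ Y ⊔ P', x z * z ∈ S := fun x hx => by
        have h1 : QuotientGroup.mk (x z) = (QuotientGroup.mk z : V ⧸ S) := hw _ ⟨⟨x, hx⟩, rfl⟩
        have h2' := (QuotientGroup.eq (s := S)).mp h1
        rwa [hinv] at h2'
      obtain ⟨c, hc, c', hc', hcc⟩ := mem_sup.mp ((hfull g2 hg2 hg2M).ge (mem_top z))
      have hy : ∀ y ∈ Y, y c' = c' := by
        intro y hy
        have h1 : y c' * c' ∈ S := by
          have := hz y (mem_sup_left hy)
          rwa [← hcc, map_mul, hc y hy.1, mul_mul_mul_comm, h2 c, one_mul] at this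
        have h3 : y c' * c' ∈ C := hP.quad h2 c' hy.1
        have h4 : y c' * c' = 1 := mem_bot.mp (hCS ▸ (⟨h3, h1⟩ : y c' * c' ∈ C ⊓ S))
        exact (eq_inv_of_mul_eq_one_left h4).trans (hinv c')
      have hx : ∀ x ∈ P', x c * c ∈ S := fun x hx => by
        have := hz x (mem_sup_right hx)
        rwa [← hcc, map_mul, hc' x hx, mul_mul_mul_comm, h2 c', mul_one] at this
      refine ⟨c, hc, fun hc1 => hw1 ((QuotientGroup.eq_one_iff z).mpr ?_), hx⟩
      rw [hc1, one_mul] at hcc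
      rw [← hcc]
      let St := stabV c'
      exact fun x hx' => (sup_le (fun y hy' => hy y hy') (fun x hx'' => hc' x hx'') : Y ⊔ P' ≤ St) hx'
    let δ : P' →* V :=
      { toFun := fun x => (x : MulAut V) c * c
        map_one' := h2 c
        map_mul' := fun a b => by
          have hb := (fixP_anti le_sup_right : S ≤ fixP P') (hcS b b.2) a a.2
          show ((a * b : P') : MulAut V) c * c = _
          rw [map_mul] at hb
          rw [Subgroup.coe_mul, MulAut.mul_apply, ← hb,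
            show (a : MulAut V) c * c * ((a : MulAut V) ((b : MulAut V) c) * (a : MulAut V) c) =
              (a : MulAut V) ((b : MulAut V) c) * c * ((a : MulAut V) c * (a : MulAut V) c) by ac_rfl,
            h2, mul_one] }
    have hker : δ.ker.map P'.subtype ≤ P' ⊓ M := by
      rintro _ ⟨x, hx, rfl⟩
      exact ⟨x.2, hstab c hcC hc1 ⟨(hPs g2 hg2).le x.2, (eq_inv_of_mul_eq_one_left hx).trans (hinv c)⟩⟩
    have hcardP' : Nat.card P ≤ Nat.card (P' ⊓ M : Subgroup (MulAut V)) * Nat.card S := by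
      rw [← card_cj g2 P, ← δ.ker.card_mul_index, index_ker]
      refine Nat.mul_le_mul ?_ (card_le_of_le ?_)
      · rw [← card_map_of_injective P'.subtype_injective]; exact card_le_of_le hker
      · rintro _ ⟨x, rfl⟩; exact hcS x x.2
    have hflip : Nat.card (P' ⊓ M : Subgroup (MulAut V)) = Nat.card (P ⊓ cj g2⁻¹ M : Subgroup (MulAut V)) := by
      rw [← card_cj g2 (P ⊓ cj g2⁻¹ M), cj, Subgroup.map_inf _ _ _ (MulAut.conj g2).injective]
      show _ = Nat.card (cj g2 P ⊓ cj g2 (cj g2⁻¹ M) : Subgroup (MulAut V))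
      rw [cj_cj_inv]
    have hle := hgmax g2⁻¹ (hinvM g2 hg2 hg2M)
    exact absurd (hbound.trans_le (hcardP'.trans (Nat.mul_le_mul_right _ (hflip.trans_le hle))))
      (lt_irrefl _)
  push Not at hY
  have htriv : ∀ k ∈ H, k ∉ M → P ⊓ cj k M = ⊥ := fun k hk hkM => eq_bot_of_card_le _ (by
    have h := hgmax k ⟨hk, hkM⟩
    rwa [hY, card_bot] at h)
  -- the natural module of `S₃`
  set P' := cj g P
  set C' := fixP P'
  have hbij : ∀ (A : Subgroup (MulAut V)) (D : Subgroup V) (e : V), (∀ x ∈ A, x e * e ∈ D) →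
      (∀ x ∈ A, x e = e → x = 1) → Nat.card D ≤ Nat.card A → ∀ d ∈ D, ∃ x ∈ A, x e * e = d := by
    intro A D e hmap hone hcard d hd
    let f : A → D := fun x => ⟨(x : MulAut V) e * e, hmap x x.2⟩
    have hinj : Function.Injective f := fun x z h => by
      have h1 : (x : MulAut V) e = (z : MulAut V) e := mul_right_cancel (congrArg Subtype.val h)
      refine (inv_mul_eq_one.mp (Subtype.ext (hone ((z : MulAut V)⁻¹ * x) (A.mul_mem (A.inv_mem z.2) x.2) ?_) :
        z⁻¹ * x = 1)).symm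
      rw [MulAut.mul_apply, h1, MulAut.inv_apply_self]
    obtain ⟨x, hx⟩ := (hinj.bijective_of_nat_card_le hcard).2 ⟨d, hd⟩
    exact ⟨x, x.2, congrArg Subtype.val hx⟩
  obtain ⟨xs', hxs', hxs'1⟩ := (Subgroup.bot_or_exists_ne_one P').resolve_left (hPs g hg).ne
  have hxs'M : xs' ∉ M := fun h => by
    have h1 := (htriv g⁻¹ (hinvM g hg hgM).1 (hinvM g hg hgM).2).le
      (⟨mem_cj.mp hxs', mem_cj.mpr (by simpa [mul_assoc] using h)⟩ : g⁻¹ * xs' * g ∈ P ⊓ cj g⁻¹ M)
    refine hxs'1 ?_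
    have h3 : g⁻¹ * xs' * g = 1 := mem_bot.mp h1
    calc xs' = g * (g⁻¹ * xs' * g) * g⁻¹ := by group
      _ = 1 := by rw [h3]; group
  let τ : C → C' := fun c => ⟨xs' (c : V) * c, (hPs g hg).quad h2 c hxs'⟩
  have hτ : Function.Injective τ := fun c d h => by
    have h1 : xs' ((c : V) * d) = (c : V) * d := by
      have e : xs' (c : V) * c = xs' (d : V) * d := congrArg Subtype.val h
      rw [map_mul]
      calc xs' (c : V) * xs' (d : V) = xs' (c : V) * c * (xs' (d : V) * c) := by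
            rw [mul_assoc, mul_left_comm (c : V), h2, mul_one]
        _ = xs' (d : V) * d * (xs' (d : V) * c) := by rw [e]
        _ = (d : V) * c * (xs' (d : V) * xs' (d : V)) := by ac_rfl
        _ = _ := by rw [h2, mul_one, mul_comm]
    by_contra hne
    refine hxs'M (hstab _ (C.mul_mem c.2 d.2) (fun h0 => hne (Subtype.ext ?_)) ⟨(hPs g hg).le hxs', h1⟩)
    exact (eq_inv_of_mul_eq_one_left h0).trans (hinv _)
  obtain ⟨c', hc'1, hc'⟩ := exists_fixed h2 (by
    by_contra hV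
    rw [not_nontrivial_iff_subsingleton] at hV
    exact hP.ne ((eq_bot_iff_forall P).mpr fun x _ => MulEquiv.ext fun v => Subsingleton.elim _ _))
    (hPs g hg).isPGroup
  obtain ⟨⟨c, hc⟩, hce⟩ := (hτ.bijective_of_nat_card_le (hfixcj g).le).2 ⟨c', hc'⟩
  have hxc : xs' c * c = c' := congrArg Subtype.val hce
  obtain ⟨x, hx, hxe⟩ := hbij P C c' (fun x hx => hP.quad h2 c' hx) (fun x hx hxc' => by
    have h1 : x ∈ P ⊓ cj g M := ⟨hx, hstab' g hg c' hc' hc'1 ⟨hP.le hx, hxc'⟩⟩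
    rw [htriv g hg hgM] at h1
    exact mem_bot.mp h1) hCP c hc
  -- a product of order divisible by three
  have hxc' : x c' = c * c' := by rw [← hxe, mul_assoc, h2, mul_one]
  have hxsc : xs' c = c' * c := by rw [← hxc, mul_assoc, h2, mul_one]
  have hxfc : x c = c := hc x hx
  have hxsc' : xs' c' = c' := hc' xs' hxs'
  set y := x * xs' with hy
  have y1 : y c = c' := by
    rw [hy, MulAut.mul_apply, hxsc, map_mul, hxfc, hxc', mul_comm c c', mul_assoc, h2, mul_one]
  have y2 : y c' = c * c' := by rw [hy, MulAut.mul_apply, hxsc', hxc']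
  have y3 : y (c * c') = c := by
    rw [map_mul, y1, y2, mul_comm c c', ← mul_assoc, h2, one_mul]
  have hmem : y ^ 3 ∈ stabV c := show (y ^ 3) c = c by
    rw [pow_succ, pow_two, MulAut.mul_apply, MulAut.mul_apply, y1, y2, y3]
  obtain ⟨j, hj⟩ := exists_pow_eq_self_of_coprime ((Nat.prime_three.coprime_iff_not_dvd).mpr
    (hyp.no x (hP.le hx) xs' ((hPs g hg).le hxs') (hP.mem x hx) ((hPs g hg).mem xs' hxs')))
  have hyc : y c = c := by
    have := (stabV c).pow_mem hmem j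
    rw [hj] at this
    exact this
  have hcc : c' = c := y1.symm.trans hyc
  have : c' ∈ C ⊓ C' := ⟨hcc ▸ hc, hc'⟩
  rw [hdisj g hg hgM] at this
  exact hc'1 (mem_bot.mp this)

/-- The inductive step. -/
theorem claim_aux : ∀ (n m : ℕ) (W : Type u) [CommGroup W] [Finite W], Nat.card W = n → Claim W m := by
  intro n
  induction n using Nat.strong_induction_on with
  | _ n IH =>
  intro m
  induction m using Nat.strong_induction_on with
  | _ m IH2 =>
  intro W _ _ hn h2 H I T M hm hyp X hX hexp hne hmem hoff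
  subst hn
  haveI : Fact (Nat.Prime 2) := ⟨Nat.prime_two⟩
  by_cases hfix : fixP H ≠ ⊥
  · -- pass to the quotient
    set D := fixP H with hD
    obtain ⟨φ, hφ⟩ : ∃ φ : H →* MulAut (W ⧸ D), ∀ (k : H) (v : W),
        φ k (QuotientGroup.mk v) = QuotientGroup.mk ((k : MulAut W) v) :=
      ⟨quotHom D H fun k hk d hd => by rw [hd k hk]; exact hd, fun _ _ => rfl⟩
    have hinv : ∀ v : W, v⁻¹ = v := fun v => inv_eq_of_mul_eq_one_right (h2 v)
    have hinj : Function.Injective φ := by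
      rw [← MonoidHom.ker_eq_bot_iff]
      set N := φ.ker.map H.subtype with hN
      suffices N = ⊥ from (map_eq_bot_iff_of_injective _ H.subtype_injective).mp this
      have hNd : ∀ k ∈ φ.ker, ∀ v : W, (k : MulAut W) v * v ∈ D := fun k hk v => by
        have h1 := hφ k v
        rw [MonoidHom.mem_ker.mp hk, MulAut.one_apply] at h1
        have h3 := (QuotientGroup.eq (s := D)).mp h1.symm
        rwa [hinv] at h3
      refine le_bot_iff.mp (hyp.core ▸ le_core2 (map_subtype_le _) ?_ ?_)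
      · intro w
        obtain ⟨k, hk, hkw⟩ := w.2
        refine ⟨1, Subtype.ext ?_⟩
        rw [pow_one, Subgroup.coe_pow, pow_two, ← hkw]
        refine MulEquiv.ext fun v => ?_
        show (k : MulAut W) ((k : MulAut W) v) = v
        have h1 := hNd k hk v
        have h3 : (k : MulAut W) ((k : MulAut W) v * v) = (k : MulAut W) v * v := h1 k k.2
        rw [map_mul] at h3
        exact mul_right_cancel (h3.trans (mul_comm _ _))
      · intro x hx
        refine mem_normalizer_fintype ?_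
        rintro _ ⟨k, hk, rfl⟩
        exact ⟨(⟨x, hx⟩ : H) * k * (⟨x, hx⟩ : H)⁻¹, φ.normal_ker.conj_mem k hk _, rfl⟩
    have hcore : Cfsg.pCore 2 φ.range = ⊥ := by
      set N' := Cfsg.pCore 2 φ.range
      haveI : N'.Normal := HallCore.pCore_normal 2 _
      have hri : Function.Injective φ.rangeRestrict := φ.rangeRestrict_injective_iff.mpr hinj
      have h1 : N'.comap φ.rangeRestrict ≤ Cfsg.pCore 2 H :=
        HallCore.le_pCore ((HallCore.isPGroup_pCore 2 _).comap_of_injective _ hri)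
      have h3 : Cfsg.pCore 2 H = ⊥ := (map_eq_bot_iff_of_injective _ H.subtype_injective).mp hyp.core
      rw [h3, le_bot_iff] at h1
      rw [← map_comap_eq_self_of_surjective φ.rangeRestrict_surjective N', h1, Subgroup.map_bot]
    obtain ⟨hT, hMH, hMne, hTM, hall⟩ := hyp.umax
    have humax := umax_map φ hT hTM hMH hMne
      (by rw [(MonoidHom.ker_eq_bot_iff φ).mpr hinj]; exact (Subgroup.map_bot _).le.trans bot_le) hall
    set I' : Set (MulAut (W ⧸ D)) := {y | ∃ k : H, (k : MulAut W) ∈ I ∧ φ k = y}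
    have hyp' : Hyp φ.range I' ((T.subgroupOf H).map φ) ((M.subgroupOf H).map φ) := by
      refine ⟨?_, ?_, by rw [core2, hcore, Subgroup.map_bot], humax⟩
      · rintro _ ⟨l, rfl⟩ _ ⟨k, hk, rfl⟩
        exact ⟨l * k * l⁻¹, hyp.conj l l.2 k hk, by simp⟩
      · rintro _ - _ - ⟨a, ha, rfl⟩ ⟨b, hb, rfl⟩ h3
        refine hyp.no a a.2 b b.2 ha hb (h3.trans ?_)
        rw [← map_mul, show (a : MulAut W) * b = ((a * b : H) : MulAut W) from rfl, Subgroup.orderOf_coe]
        exact orderOf_map_dvd φ (a * b)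
    set ψ := φ.comp (Subgroup.inclusion hX)
    have hψ : Function.Injective ψ := hinj.comp (Subgroup.inclusion_injective hX)
    have hlt : Nat.card (W ⧸ D) < Nat.card W := by
      rw [D.card_eq_card_quotient_mul_card_subgroup]
      exact lt_mul_of_one_lt_right Nat.card_pos (D.one_lt_card_iff_ne_bot.mpr hfix)
    refine IH _ hlt (Nat.card φ.range) (W ⧸ D) rfl (fun q => by
      induction q using QuotientGroup.induction_on with
      | H v => rw [← QuotientGroup.mk_mul, h2]; rfl) φ.range I' _ _ le_rfl hyp' ψ.range ?_ ?_ ?_ ?_ ?_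
    · rintro _ ⟨p, rfl⟩; exact ⟨_, rfl⟩
    · rintro _ ⟨p, rfl⟩
      rw [← map_mul, show p * p = 1 from Subtype.ext (hexp p p.2), map_one]
    · intro h
      obtain ⟨x, hx, hx1⟩ := (Subgroup.bot_or_exists_ne_one X).resolve_left hne
      refine hx1 (congrArg Subtype.val (hψ (a₁ := (⟨x, hx⟩ : X)) (a₂ := 1) ?_))
      rw [map_one]
      exact mem_bot.mp (h.le ⟨⟨x, hx⟩, rfl⟩)
    · rintro _ ⟨p, rfl⟩
      exact ⟨Subgroup.inclusion hX p, hmem p p.2, rfl⟩
    · refine Nat.le_of_mul_le_mul_right ?_ (Nat.card_pos (α := D))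
      rw [← D.card_eq_card_quotient_mul_card_subgroup]
      refine hoff.trans ?_
      rw [weight, weight, mul_assoc, show Nat.card ψ.range = Nat.card X from
        (Nat.card_congr (MonoidHom.ofInjective hψ).toEquiv).symm]
      refine Nat.mul_le_mul_left _ ?_
      rw [← HallCore.card_map_mk'_mul D (fixP X) (fixP_anti hX)]
      refine Nat.mul_le_mul_right _ (card_le_of_le ?_)
      rintro _ ⟨v, hv, rfl⟩ _ ⟨p, rfl⟩
      show φ (Subgroup.inclusion hX p) (QuotientGroup.mk v) = QuotientGroup.mk v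
      rw [hφ]
      exact congrArg QuotientGroup.mk (hv p p.2)
  push Not at hfix
  obtain ⟨P0, hP0X, hP0⟩ := exists_strict (I := I) hX hexp hne hmem hoff
  have hWnt : Nontrivial W := by
    by_contra hV
    rw [not_nontrivial_iff_subsingleton] at hV
    exact hP0.ne ((eq_bot_iff_forall P0).mpr fun x _ => MulEquiv.ext fun v => Subsingleton.elim _ _)
  have hnT : ∀ {T1 : Subgroup (MulAut W)}, IsSyl H T1 → ¬ H ≤ normalizer (T1 : Set (MulAut W)) := by
    intro T1 hT1 h
    obtain ⟨g, hg, hle⟩ := hT1.exists_conj_le hP0.le hP0.isPGroup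
    exact (hP0.cj hg (hyp.conj g hg)).ne (le_bot_iff.mp (hle.trans (hyp.core ▸ le_core2 hT1.1 hT1.2.1 h)))
  have hconjM : ∀ {T1 M1 : Subgroup (MulAut W)}, UMax H T1 M1 → ∀ g ∈ H, cj g M1 = M1 → g ∈ M1 :=
    fun h g hg he => h.mem_of_cj_eq (hnT h.1) hg he
  suffices key : ∀ k T1 T2 M1 M2, UMax H T1 M1 → UMax H T2 M2 →
      Nat.card H - Nat.card (dgen H I (T1 ⊓ T2)) = k → M1 = M2 by
    refine hyp.umax.2.2.1 (le_antisymm hyp.umax.2.1 fun g hg => ?_)
    exact hconjM hyp.umax g hg (key _ _ _ _ _ hyp.umax (hyp.umax.cj hg) rfl).symm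
  intro k
  induction k using Nat.strong_induction_on with
  | _ k IHk =>
  intro T1 T2 M1 M2 hU1 hU2 hk
  by_contra hne12
  set D := dgen H I (T1 ⊓ T2) with hDdef
  have hD1 : D ≤ T1 := dgen_le.trans inf_le_left
  have hD2 : D ≤ T2 := dgen_le.trans inf_le_right
  have hDgen : D ≤ dgen H I D := iSup_le fun P => le_dgen P.2.1 (le_dgen P.2.1 P.2.2)
  set L := H ⊓ normalizer (D : Set (MulAut W)) with hL
  have hcardT : Nat.card (dgen H I T1) = Nat.card (dgen H I T2) := by
    obtain ⟨g, hg, hle⟩ := hU1.1.exists_conj_le hU2.1.1 hU2.1.2.1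
    rw [← card_dgen_cj hyp.conj hg (S := T2),
      eq_of_le_of_card_ge hle (by rw [card_cj, hU1.1.card_eq hU2.1])]
  by_cases hsame : dgen H I T1 = D ∨ dgen H I T2 = D
  · have hD12 : dgen H I T1 = D ∧ dgen H I T2 = D := by
      have a1 : D ≤ dgen H I T1 := iSup_le fun P => le_dgen P.2.1 (P.2.2.trans inf_le_left)
      have a2 : D ≤ dgen H I T2 := iSup_le fun P => le_dgen P.2.1 (P.2.2.trans inf_le_right)
      rcases hsame with h | h
      · exact ⟨h, (eq_of_le_of_card_ge a2 (by rw [← h, hcardT])).symm⟩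
      · exact ⟨(eq_of_le_of_card_ge a1 (by rw [← h, hcardT])).symm, h⟩
    have hDne : D ≠ ⊥ := by
      obtain ⟨g, hg, hle⟩ := hU1.1.exists_conj_le hP0.le hP0.isPGroup
      exact fun h => (hP0.cj hg (hyp.conj g hg)).ne
        (le_bot_iff.mp (h ▸ hD12.1 ▸ le_dgen (hP0.cj hg (hyp.conj g hg)) hle))
    have hn1 : ∀ {T' : Subgroup (MulAut W)}, T' ≤ H → dgen H I T' = D →
        T' ≤ normalizer (D : Set (MulAut W)) := by
      intro T' hT' he t ht
      refine mem_normalizer_of_cj_le ?_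
      conv_lhs => rw [← he]
      refine (cj_dgen_le hyp.conj (hT' ht)).trans ?_
      rw [cj_eq_of_mem (le_normalizer ht), he]
    have hLne : L ≠ H := fun h => hDne (le_bot_iff.mp (hyp.core ▸
      le_core2 (hD1.trans hU1.1.1) (hU1.1.2.1.to_le hD1) (inf_eq_left.mp h)))
    have hLM : L ≤ M1 := hU1.2.2.2.2 L inf_le_left (le_inf hU1.1.1 (hn1 hU1.1.1 hD12.1)) hLne
    exact hne12 ((hU1.of_le hU2.1 ((le_inf hU2.1.1 (hn1 hU2.1.1 hD12.2)).trans hLM)).unique hU2)
  push Not at hsame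
  obtain ⟨P1, hP1, hP1T, hP1N, hP1D⟩ := exists_normalizing hyp.conj hU1.1.1 hU1.1.2.1 hD1 hDgen hsame.1
  obtain ⟨P2, hP2, hP2T, hP2N, hP2D⟩ := exists_normalizing hyp.conj hU2.1.1 hU2.1.2.1 hD2 hDgen hsame.2
  have hstar : ∀ P, Strict H I P → ¬ P ≤ D → ∀ T3 T4 M3 M4, UMax H T3 M3 → UMax H T4 M4 →
      D ⊔ P ≤ T3 → D ⊔ P ≤ T4 → M3 = M4 := by
    intro P hP hPD T3 T4 M3 M4 h3 h4 hle3 hle4
    refine IHk _ ?_ T3 T4 M3 M4 h3 h4 rfl
    have hlt : D < dgen H I (T3 ⊓ T4) := by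
      refine lt_of_le_of_ne (hDgen.trans (iSup_le fun Q => le_dgen Q.2.1
        (Q.2.2.trans (le_sup_left.trans (le_inf hle3 hle4))))) fun he => hPD ?_
      rw [he]
      exact le_dgen hP (le_sup_right.trans (le_inf hle3 hle4))
    have h1 : Nat.card D < Nat.card (dgen H I (T3 ⊓ T4)) :=
      lt_of_le_of_ne (card_le_of_le hlt.le) fun h => hlt.ne (eq_of_le_of_card_ge hlt.le h.ge)
    have h2' : Nat.card (dgen H I (T3 ⊓ T4)) ≤ Nat.card H :=
      card_le_of_le ((dgen_le.trans inf_le_left).trans h3.1.1)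
    omega
  have hP1L : D ⊔ P1 ≤ L := sup_le (le_inf (hD1.trans hU1.1.1) le_normalizer) (le_inf hP1.le hP1N)
  have hP2L : D ⊔ P2 ≤ L := sup_le (le_inf (hD1.trans hU1.1.1) le_normalizer) (le_inf hP2.le hP2N)
  have hex : ∀ {S : Subgroup (MulAut W)}, S ≤ H → IsPGroup 2 S →
      ∃ T3 M3, UMax H T3 M3 ∧ S ≤ T3 := by
    intro S hSH hS
    obtain ⟨g, hg, hle⟩ := hyp.umax.1.exists_conj_le hSH hS
    exact ⟨_, _, hyp.umax.cj (H.inv_mem hg), cj_le_iff.mp hle⟩
  have hLM1 : ¬ L ≤ M1 := by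
    obtain ⟨SL, hSL, hle⟩ := exists_syl hP1L (hU1.1.2.1.to_le (sup_le hD1 hP1T))
    obtain ⟨T3, M3, hU3, hSL3⟩ := hex (hSL.1.trans inf_le_left) hSL.2.1
    have e3 : M3 = M1 := hstar P1 hP1 hP1D T3 T1 M3 M1 hU3 hU1 (hle.trans hSL3) (sup_le hD1 hP1T)
    obtain ⟨l, hl, hlS⟩ := hSL.exists_conj_le hP2L (hU2.1.2.1.to_le (sup_le hD2 hP2T))
    intro hLM
    have h4 := hU3.cj (H.inv_mem hl.1)
    have e2 := hstar P2 hP2 hP2D _ T2 _ M2 h4 hU2 (cj_le_iff.mp (hlS.trans hSL3)) (sup_le hD2 hP2T)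
    rw [e3, cj_eq_of_mem (le_normalizer (M1.inv_mem (hLM hl)))] at e2
    exact hne12 e2
  obtain ⟨K, ⟨hPK, hKL, hKM⟩, hKmin⟩ := Set.exists_min_image
    {K : Subgroup (MulAut W) | P1 ≤ K ∧ K ≤ L ∧ ¬ K ≤ M1} (fun K => Nat.card K) (Set.toFinite _)
    ⟨L, le_sup_right.trans hP1L, le_rfl, hLM1⟩
  have hKH : K ≤ H := hKL.trans inf_le_left
  have hover : ∀ L' ≤ K, P1 ≤ L' → L' ≠ K → L' ≤ M1 := fun L' hL' hP hne' => by
    by_contra hnle
    exact hne' (eq_of_le_of_card_ge hL' (hKmin L' ⟨hP, hL'.trans hKL, hnle⟩))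
  have hout : ∀ l ∈ K, l ∉ M1 → ¬ cj l P1 ≤ M1 := by
    intro l hl hlM hle
    have hlD : cj l D = D := cj_eq_of_mem (hKL hl).2
    have hS : D ⊔ cj l P1 ≤ cj l T1 := sup_le (hlD ▸ cj_mono l hD1) (cj_mono l hP1T)
    have hSM : D ⊔ cj l P1 ≤ M1 := sup_le (hD1.trans hU1.2.2.2.1) hle
    obtain ⟨m', hm', hmS⟩ := (hU1.1.mono hU1.2.2.2.1 hU1.2.1).exists_conj_le hSM
      ((hU1.1.cj (hKH hl)).2.1.to_le hS)
    have h7 := hU1.cj (H.inv_mem (hU1.2.1 hm'))
    rw [cj_eq_of_mem (le_normalizer (M1.inv_mem hm'))] at h7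
    have he := hstar (cj l P1) (hP1.cj (hKH hl) (hyp.conj l (hKH hl)))
      (fun h => hP1D (by
        have h' := cj_le_iff.mp h
        rwa [show cj l⁻¹ D = D from cj_eq_of_mem (Subgroup.inv_mem _ (hKL hl).2)] at h'))
      _ _ _ _ h7 (hU1.cj (hKH hl)) (cj_le_iff.mp hmS) hS
    exact hlM (hconjM hU1 l (hKH hl) he.symm)
  set Q := core2 K with hQ
  have hQn : Q ≤ normalizer (D : Set (MulAut W)) := fun q hq => (hKL (core2_le K hq)).2
  have hQP : IsPGroup 2 (D ⊔ (Q ⊔ P1) : Subgroup (MulAut W)) :=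
    isPGroup_sup (hU1.1.2.1.to_le hD1)
      (isPGroup_sup (core2_isPGroup K) hP1.isPGroup (hPK.trans (le_normalizer_core2 K)))
      (sup_le hQn hP1N)
  obtain ⟨T5, M5, hU5, hle5⟩ := hex (sup_le (hD1.trans hU1.1.1)
    (sup_le ((core2_le K).trans hKH) hP1.le)) hQP
  have e5 : M5 = M1 := hstar P1 hP1 hP1D T5 T1 M5 M1 hU5 hU1
    ((sup_le_sup_left le_sup_right D).trans hle5) (sup_le hD1 hP1T)
  subst e5
  obtain ⟨v, hv1, hv⟩ := exists_fixed h2 hWnt hU5.1.2.1
  have hmove : ∃ l ∈ K, l v ≠ v := by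
    by_contra hno
    push Not at hno
    have hstabne : H ⊓ stabV v ≠ H := fun he =>
      hv1 (mem_bot.mp (hfix ▸ (fun x hx => (he.ge hx).2 : v ∈ fixP H)))
    exact hKM ((le_inf hKH fun l hl => hno l hl).trans
      (hU5.2.2.2.2 _ inf_le_left (le_inf hU5.1.1 fun x hx => hv x hx) hstabne))
  have hvQ : v ∈ fixP Q := fun x hx => hv x (hle5 (mem_sup_right (mem_sup_left hx)))
  have hvP : v ∈ fixP P1 := fun x hx => hv x (hle5 (mem_sup_right (mem_sup_right hx)))
  have hUinv : ∀ l ∈ K, ∀ u ∈ fixP Q, l u ∈ fixP Q := by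
    intro l hl u hu q hq
    have h1 := hu _ ((mem_normalizer_iff''.mp (le_normalizer_core2 K hl) q).mp hq)
    apply (l⁻¹).injective
    rw [MulAut.inv_apply_self]
    exact h1
  by_cases hcase : fixP Q = ⊤ ∧ K = H
  · obtain ⟨-, rfl⟩ := hcase
    exact endgame h2 ⟨hyp.conj, hyp.no, hyp.core, hU5⟩ hP1
      (le_sup_right.trans (le_sup_right.trans hle5)) hfix (hnT hU5.1) hover hout
      fun U hU => IH _ (lt_of_le_of_ne (card_le_card_group U) fun h => hU (eq_top_of_card_eq U h)) _ U rfl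
  refine descend h2 hyp.conj hyp.no hKH hP1 hPK hover hKM hout (fixP Q) hUinv hvQ hvP hmove
    (fun q hq u hu => hu q hq) ?_
  by_cases hU : fixP Q = ⊤
  · have hKlt : Nat.card K < m := lt_of_lt_of_le (lt_of_le_of_ne (card_le_of_le hKH) fun h =>
      hcase ⟨hU, eq_of_le_of_card_ge hKH h.ge⟩) hm
    exact IH2 _ hKlt (fixP Q) (by rw [hU, card_top])
  · exact IH _ (lt_of_le_of_ne (card_le_card_group _) fun h => hU (eq_top_of_card_eq _ h)) _ (fixP Q) rfl

/-- The main theorem: no offender. -/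
theorem no_offender (h2 : ∀ v : V, v * v = 1) {H T M X : Subgroup (MulAut V)} {I : Set (MulAut V)}
    (hyp : Hyp H I T M) (hX : X ≤ H) (hexp : ∀ x ∈ X, x * x = 1) (hne : X ≠ ⊥)
    (hmem : ∀ x ∈ X, x ∈ I) (hoff : Nat.card V ≤ weight X) : False :=
  claim_aux _ (Nat.card H) V rfl h2 H I T M le_rfl hyp X hX hexp hne hmem hoff

end Cfsg.Agent.S4FreeOffender
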