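import Cfsg.Agent.Lib.SuzukiGroupStructure

/-!
Automorphisms of the Sylow 2-subgroup of `Sz(q)`: every automorphism is a field automorphism times
a torus element times a shear `(a, b) ↦ (a, b + η a)`.
-/

set_option autoImplicit false

namespace Cfsg.Agent.SuzukiTwoAut

open Cfsg.Agent.SuzukiGroupBasic Cfsg.Agent.SuzukiGroupStructure

variable {F : Type*} [Field F] {m : ℕ} [hP : Param F m]

/-! ### Frobenius powers -/

/-- `x ↦ x^(2^i)` for `i` modulo `2m+1`. -/
def fp (i : ZMod (2 * m + 1)) (x : F) : F := x ^ (2 ^ i.val)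

include hP in
theorem pow_two_mod (x : F) (k : ℕ) : x ^ (2 ^ (k % (2 * m + 1))) = x ^ (2 ^ k) := by
  have h : ∀ j, x ^ (2 ^ (k % (2 * m + 1) + (2 * m + 1) * j)) = x ^ (2 ^ (k % (2 * m + 1))) := by
    intro j
    induction j with
    | zero => simp
    | succ j ih =>
      rw [Nat.mul_succ, ← add_assoc, pow_add, pow_mul, pow_q, ih]
  conv_rhs => rw [← Nat.mod_add_div k (2 * m + 1)]
  rw [h]

theorem fp_add (i j : ZMod (2 * m + 1)) (x : F) : fp (i + j) x = fp i (fp j x) := by
  rw [fp, fp, fp, ZMod.val_add, pow_two_mod, ← pow_mul, ← pow_add, add_comm]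

omit hP in
@[simp] theorem fp_zero (x : F) : fp (0 : ZMod (2 * m + 1)) x = x := by simp [fp]

/-- The exponent of `sg` as an element of `ZMod (2m+1)`. -/
def ss (m : ℕ) : ZMod (2 * m + 1) := ((m + 1 : ℕ) : ZMod (2 * m + 1))

include hP in
theorem fp_ss (x : F) : fp (ss m) x = sg m x := by
  have := one_le (F := F) (m := m)
  rw [fp, sg, ss, ZMod.val_cast_of_lt (by omega)]

omit hP in
theorem ss_add_ss : ss m + ss m = 1 := by
  rw [ss, ← Nat.cast_add, show m + 1 + (m + 1) = (2 * m + 1) + 1 by ring, Nat.cast_add,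
    ZMod.natCast_self, zero_add, Nat.cast_one]

include hP in
theorem fp_one (x : F) : fp (1 : ZMod (2 * m + 1)) x = x ^ 2 := by
  rw [← ss_add_ss, fp_add, fp_ss, fp_ss, sg_sg]

include hP in
theorem sg_fp (i : ZMod (2 * m + 1)) (x : F) : sg m (fp i x) = fp (ss m + i) x := by
  rw [fp_add, fp_ss]

/-- `fp i` as a ring endomorphism. -/
def fr (i : ZMod (2 * m + 1)) : F →+* F where
  toFun := fp i
  map_one' := one_pow _
  map_mul' x y := mul_pow ..
  map_zero' := zero_pow (Nat.two_pow_pos _).ne'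
  map_add' x y := by
    haveI := charTwo (F := F) (m := m)
    exact add_pow_char_pow x y 2 _

theorem fr_apply (i : ZMod (2 * m + 1)) (x : F) : fr i x = fp i x := rfl

theorem fr_sg (i : ZMod (2 * m + 1)) (x : F) : fr i (sg m x) = sg m (fr i x) := map_pow _ _ _

/-! ### Linearised polynomials -/

include hP in
theorem two_pow_val_lt (i : ZMod (2 * m + 1)) : 2 ^ i.val < Nat.card F := by
  rw [natCard (F := F) (m := m)]
  exact Nat.pow_lt_pow_right (by norm_num) i.val_lt

include hP in
theorem eq_zero_of_lin {c : ZMod (2 * m + 1) → F} (h : ∀ a, ∑ i, c i * fp i a = 0) : c = 0 := by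
  classical
  obtain ⟨_, -, -⟩ := hP.out
  set p : Polynomial F := ∑ i : ZMod (2 * m + 1), Polynomial.C (c i) * Polynomial.X ^ (2 ^ i.val)
    with hp
  have hp0 : p = 0 := by
    refine Polynomial.eq_zero_of_natDegree_lt_card_of_eval_eq_zero' p Finset.univ (fun y _ => ?_) ?_
    · rw [hp, Polynomial.eval_finsetSum]
      simpa [fp] using h y
    · rw [Finset.card_univ, ← Nat.card_eq_fintype_card]
      refine lt_of_le_of_lt
        (Polynomial.natDegree_sum_le_of_forall_le _ _
          (n := Nat.card F - 1) fun i _ => le_trans (Polynomial.natDegree_C_mul_X_pow_le _ _) ?_) ?_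
      · have := two_pow_val_lt (F := F) (m := m) i
        omega
      · have : 0 < Nat.card F := Nat.card_pos
        omega
  funext i
  have hc := congrArg (fun q : Polynomial F => q.coeff (2 ^ i.val)) hp0
  simp only [hp, Polynomial.finsetSum_coeff, Polynomial.coeff_C_mul, Polynomial.coeff_X_pow,
    Polynomial.coeff_zero] at hc
  rw [Finset.sum_eq_single i ?_ ?_] at hc
  · simpa using hc
  · intro j _ hj
    rw [if_neg, mul_zero]
    intro h'
    exact hj (ZMod.val_injective _ (Nat.pow_right_injective le_rfl h').symm)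
  · simp

/-- The additive map given by a linearised polynomial. -/
def lin (c : ZMod (2 * m + 1) → F) : F →+ F where
  toFun a := ∑ i, c i * fr i a
  map_zero' := by simp
  map_add' x y := by simp [mul_add, Finset.sum_add_distrib]

include hP in
theorem natCard_addMonoidHom : Nat.card (F →+ F) = 2 ^ ((2 * m + 1) ^ 2) := by
  haveI := charTwo (F := F) (m := m)
  haveI := finiteF (F := F) (m := m)
  letI : Algebra (ZMod 2) F := ZMod.algebra F 2
  have hd : Module.finrank (ZMod 2) F = 2 * m + 1 := by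
    have h := Module.natCard_eq_pow_finrank (K := ZMod 2) (V := F)
    rw [natCard (F := F) (m := m), Nat.card_zmod] at h
    exact (Nat.pow_right_injective le_rfl h).symm
  let e : (F →+ F) ≃ (F →ₗ[ZMod 2] F) :=
    ⟨AddMonoidHom.toZModLinearMap 2, LinearMap.toAddMonoidHom, fun f => by ext; simp,
      fun f => by ext; simp⟩
  let b := Module.finBasis (ZMod 2) F
  rw [Nat.card_congr e, ← Nat.card_congr (b.constr ℕ).toEquiv, Nat.card_fun, Nat.card_fin, hd,
    natCard (F := F) (m := m), ← pow_mul, pow_two]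

include hP in
theorem exists_lin (g : F →+ F) : ∃ c : ZMod (2 * m + 1) → F, lin c = g := by
  haveI := finiteF (F := F) (m := m)
  haveI : Finite (F →+ F) := Finite.of_injective _ DFunLike.coe_injective
  refine ((Nat.bijective_iff_injective_and_card (lin (F := F) (m := m))).mpr ⟨?_, ?_⟩).2 g
  · intro c d h
    rw [← sub_eq_zero]
    refine eq_zero_of_lin (m := m) fun a => ?_
    have := DFunLike.congr_fun h a
    simp only [lin, AddMonoidHom.coe_mk, ZeroHom.coe_mk, fr_apply] at this
    simp [sub_mul, Finset.sum_sub_distrib, this]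
  · rw [natCard_addMonoidHom (m := m), Nat.card_fun, Nat.card_zmod, natCard (F := F) (m := m),
      ← pow_mul, pow_two]

include hP in
theorem quad_unique {M : ZMod (2 * m + 1) → ZMod (2 * m + 1) → F}
    (h : ∀ a, ∑ u, ∑ v, M u v * (fp u a * fp v a) = 0) :
    (∀ u v, M u v + M v u = 0) ∧ ∀ u, M u u = 0 := by
  classical
  haveI := charTwo (F := F) (m := m)
  have hsym : ∀ u v, M u v + M v u = 0 := by
    intro u v
    have key : ∀ a c, ∑ v, (∑ u, (M u v + M v u) * fp u a) * fp v c = 0 := by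
      intro a c
      have h1 := h (a + c)
      simp only [← fr_apply, map_add, add_mul, mul_add, Finset.sum_add_distrib] at h1
      simp only [fr_apply, h a, h c, zero_add, add_zero] at h1
      rw [← h1]
      simp only [add_mul, Finset.sum_mul, Finset.sum_add_distrib]
      rw [add_comm]
      congr 1
      · refine Finset.sum_congr rfl fun u _ => Finset.sum_congr rfl fun v _ => ?_
        ring
      · rw [Finset.sum_comm]
        refine Finset.sum_congr rfl fun u _ => Finset.sum_congr rfl fun v _ => ?_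
        ring
    have h2 : ∀ a v, ∑ u, (M u v + M v u) * fp u a = 0 := fun a v =>
      congrFun (eq_zero_of_lin (m := m) (key a)) v
    exact congrFun (eq_zero_of_lin (m := m) fun a => h2 a v) u
  suffices hd : (fun w => M (w - 1) (w - 1)) = 0 by
    exact ⟨hsym, fun u => by simpa using congrFun hd (u + 1)⟩
  refine eq_zero_of_lin (m := m) fun a => ?_
  rw [← Equiv.sum_comp (Equiv.addRight (1 : ZMod (2 * m + 1)))]
  simp only [Equiv.coe_addRight, add_sub_cancel_right]
  have h1 := h a
  rw [← Finset.sum_product', Finset.univ_product_univ,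
    ← Finset.sum_filter_add_sum_filter_not Finset.univ (fun p : _ × _ => p.1 = p.2)] at h1
  have hoff : ∑ p ∈ Finset.univ.filter (fun p : ZMod (2 * m + 1) × ZMod (2 * m + 1) => ¬ p.1 = p.2),
      M p.1 p.2 * (fp p.1 a * fp p.2 a) = 0 := by
    refine Finset.sum_involution (fun p _ => p.swap) ?_ ?_ ?_ ?_
    · rintro ⟨u, v⟩ -
      simp only [Prod.swap]
      linear_combination (fp u a * fp v a) * hsym u v
    · rintro ⟨u, v⟩ hp -
      simp only [Finset.mem_filter] at hp
      simp [Prod.ext_iff, Ne.symm hp.2]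
    · rintro ⟨u, v⟩ hp
      simpa [eq_comm] using hp
    · rintro ⟨u, v⟩ -
      rfl
  rw [hoff, add_zero] at h1
  refine Eq.trans ?_ h1
  refine Finset.sum_bij (fun u _ => (u, u)) (by simp) (by simp) ?_ ?_
  · rintro ⟨u, v⟩ hp
    simp only [Finset.mem_filter] at hp
    exact ⟨u, Finset.mem_univ _, by simp [hp.2]⟩
  · intro u _
    rw [add_comm u 1, fp_add, fp_one]
    ring

include hP in
/-- An additive bijection compatible with `a ↦ sg a * a` is semilinear. -/
theorem semilinear {g h : F →+ F} (hg : Function.Injective g)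
    (hq : ∀ a, h (sg m a * a) = sg m (g a) * g a) :
    ∃ (k : Fˣ) (i : ZMod (2 * m + 1)), ∀ a, g a = k * fp i a := by
  classical
  haveI := charTwo (F := F) (m := m)
  obtain ⟨c, rfl⟩ := exists_lin (m := m) g
  obtain ⟨d, rfl⟩ := exists_lin (m := m) h
  have hm := one_le (F := F) (m := m)
  set N : ZMod (2 * m + 1) → ZMod (2 * m + 1) → F := fun u v => sg m (c (u - ss m)) * c v with hN
  set D : ZMod (2 * m + 1) → ZMod (2 * m + 1) → F :=
    fun u v => if u = v + ss m then d v else 0 with hD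
  have hlin : ∀ (e : ZMod (2 * m + 1) → F) a, lin e a = ∑ i, e i * fp i a := fun _ _ => rfl
  have hsum : ∀ a, ∑ u, ∑ v, (N u v + D u v) * (fp u a * fp v a) = 0 := by
    intro a
    have e1 : ∑ u, ∑ v, N u v * (fp u a * fp v a) = sg m (lin c a) * lin c a := by
      have hsg : sg m (∑ i, c i * fp i a) = ∑ i, sg m (c i) * fp (ss m + i) a := by
        rw [← fp_ss, ← fr_apply, map_sum]
        simp only [fr_apply, fp_ss, sg_mul, sg_fp]
      rw [hlin, hsg, Finset.sum_mul_sum, ← Equiv.sum_comp (Equiv.addLeft (ss m))]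
      refine Finset.sum_congr rfl fun u _ => Finset.sum_congr rfl fun v _ => ?_
      simp only [hN, Equiv.coe_addLeft, add_sub_cancel_left]
      ring
    have e2 : ∑ u, ∑ v, D u v * (fp u a * fp v a) = lin d (sg m a * a) := by
      rw [hlin, Finset.sum_comm]
      refine Finset.sum_congr rfl fun v _ => ?_
      simp only [hD, ite_mul, zero_mul, Finset.sum_ite_eq', Finset.mem_univ, if_true]
      rw [← fr_apply v (sg m a * a), map_mul, fr_sg, fr_apply, sg_fp, add_comm v (ss m)]
    simp only [add_mul, Finset.sum_add_distrib]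
    rw [e1, e2, hq]
    exact CharTwo.add_self_eq_zero _
  obtain ⟨hs, hd⟩ := quad_unique (m := m) hsum
  have hne : ∀ v : ZMod (2 * m + 1), v ≠ v + ss m := by
    intro v hv
    have h0 : ss m = 0 := left_eq_add.mp hv
    have := congrArg ZMod.val h0
    rw [ss, ZMod.val_cast_of_lt (by omega), ZMod.val_zero] at this
    omega
  have hA : ∀ i, c i ≠ 0 → c (i + ss m) = 0 := by
    intro i hi
    have := hd (i + ss m)
    simp only [hN, hD, add_sub_cancel_right, if_neg (hne _), add_zero] at this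
    exact (mul_eq_zero.mp this).resolve_left (sg_ne_zero hi)
  have hB : ∀ i j, c i ≠ 0 → c j ≠ 0 → j ≠ i → j = i + 1 := by
    intro i j hi hj hij
    by_contra hne1
    have := hs (i + ss m) j
    simp only [hN, hD, add_sub_cancel_right, hA i hi, mul_zero] at this
    have h1 : ¬ i + ss m = j + ss m := fun h => hij (add_right_cancel h).symm
    have h2 : ¬ j = i + ss m + ss m := by rwa [add_assoc, ss_add_ss]
    rw [if_neg h1, if_neg h2] at this
    simp [sg_eq_zero, hi, hj] at this
  obtain ⟨i, hi⟩ : ∃ i, c i ≠ 0 := by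
    by_contra hc
    push Not at hc
    exact one_ne_zero (hg (show lin c 1 = lin c 0 by simp [hlin, hc]))
  refine ⟨Units.mk0 (c i) hi, i, fun a => ?_⟩
  rw [hlin, Finset.sum_eq_single i ?_ (by simp), Units.val_mk0]
  intro j _ hj
  suffices c j = 0 by simp [this]
  by_contra hcj
  have h1 := hB i j hi hcj hj
  have h2 := hB j i hcj hi (Ne.symm hj)
  rw [h1, add_assoc, left_eq_add, show (1 : ZMod (2 * m + 1)) + 1 = ((2 : ℕ) : ZMod _) by norm_num,
    ZMod.natCast_eq_zero_iff] at h2
  have := Nat.le_of_dvd (by norm_num) h2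
  omega

/-! ### Coordinates -/

/-- An element of the translation group from its parameters. -/
def tU (a b : F) : ↥(unipotent : Subgroup ↥(Cfsg.Sz F m)) := ⟨Ts a b, Ts_mem a b⟩

theorem coe_tU (a b : F) : ((tU a b : ↥(unipotent : Subgroup ↥(Cfsg.Sz F m))) :
    ↥(Cfsg.Sz F m)) = Ts a b := rfl

theorem tU_mul (a b c d : F) :
    (tU a b : ↥(unipotent : Subgroup ↥(Cfsg.Sz F m))) * tU c d =
      tU (a + c) (b + d + sg m a * c) :=
  Subtype.ext (Ts_mul a b c d)

/-- First parameter. -/
def cA (u : ↥(unipotent : Subgroup ↥(Cfsg.Sz F m))) : F :=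
  ((u.1.1 : Matrix.SpecialLinearGroup (Fin 4) F) : Matrix (Fin 4) (Fin 4) F) 2 3

/-- Second parameter. -/
def cB (u : ↥(unipotent : Subgroup ↥(Cfsg.Sz F m))) : F :=
  ((u.1.1 : Matrix.SpecialLinearGroup (Fin 4) F) : Matrix (Fin 4) (Fin 4) F) 1 3

@[simp] theorem cA_tU (a b : F) :
    cA (tU a b : ↥(unipotent : Subgroup ↥(Cfsg.Sz F m))) = a := by
  simp [cA, tU, Ts, T, Tm]

@[simp] theorem cB_tU (a b : F) :
    cB (tU a b : ↥(unipotent : Subgroup ↥(Cfsg.Sz F m))) = b := by
  simp [cB, tU, Ts, T, Tm]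

theorem tU_eta (u : ↥(unipotent : Subgroup ↥(Cfsg.Sz F m))) : tU (cA u) (cB u) = u := by
  obtain ⟨_, a, b, rfl⟩ := u
  change tU (cA (tU a b)) (cB (tU a b)) = tU a b
  rw [cA_tU, cB_tU]

theorem tU_injective {a b c d : F}
    (h : (tU a b : ↥(unipotent : Subgroup ↥(Cfsg.Sz F m))) = tU c d) : a = c ∧ b = d :=
  Ts_injective (congrArg Subtype.val h)

theorem tU_zero : (tU 0 0 : ↥(unipotent : Subgroup ↥(Cfsg.Sz F m))) = 1 := Subtype.ext Ts_zero

theorem tU_sq (a b : F) :
    (tU a b : ↥(unipotent : Subgroup ↥(Cfsg.Sz F m))) ^ 2 = tU 0 (sg m a * a) :=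
  Subtype.ext (Ts_sq a b)

/-! ### The action of an automorphism on the two layers -/

section layers

variable (φ : MulAut ↥(unipotent : Subgroup ↥(Cfsg.Sz F m)))

theorem cA_zero (b : F) : cA (φ (tU 0 b)) = 0 := by
  have h : (φ (tU 0 b)) ^ 2 = 1 := by
    rw [← map_pow, tU_sq, mul_zero, tU_zero, map_one]
  rw [← tU_eta (φ (tU 0 b))] at h
  exact Ts_sq_eq_one.mp (congrArg Subtype.val h)

theorem cA_mul (u v : ↥(unipotent : Subgroup ↥(Cfsg.Sz F m))) :
    cA (u * v) = cA u + cA v := by
  rw [← tU_eta u, ← tU_eta v, tU_mul]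
  simp

theorem cA_apply (a b : F) : cA (φ (tU a b)) = cA (φ (tU a 0)) := by
  have : (tU a b : ↥(unipotent : Subgroup ↥(Cfsg.Sz F m))) = tU a 0 * tU 0 b := by
    rw [tU_mul]; congr 1 <;> simp
  rw [this, map_mul, cA_mul, cA_zero, add_zero]

theorem apply_center (b : F) : φ (tU 0 b) = tU 0 (cB (φ (tU 0 b))) := by
  conv_lhs => rw [← tU_eta (φ (tU 0 b)), cA_zero]

/-- The map induced on the quotient by the centre. -/
def gg : F →+ F where
  toFun a := cA (φ (tU a 0))
  map_zero' := cA_zero φ 0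
  map_add' a c := by
    rw [← cA_mul, ← map_mul, tU_mul, cA_apply φ (a + c) (0 + 0 + sg m a * c)]

/-- The map induced on the centre. -/
def hh : F →+ F where
  toFun b := cB (φ (tU 0 b))
  map_zero' := by rw [tU_zero, map_one, ← tU_zero, cB_tU]
  map_add' b d := by
    have : (tU 0 (b + d) : ↥(unipotent : Subgroup ↥(Cfsg.Sz F m))) = tU 0 b * tU 0 d := by
      rw [tU_mul]; congr 1 <;> simp
    rw [this, map_mul]
    conv_lhs => rw [apply_center φ b, apply_center φ d, tU_mul, cB_tU, sg_zero, zero_mul, add_zero]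

theorem hh_sq (a : F) : hh φ (sg m a * a) = sg m (gg φ a) * gg φ a := by
  change cB (φ (tU 0 (sg m a * a))) = _
  rw [← tU_sq a 0, map_pow]
  conv_lhs => rw [← tU_eta (φ (tU a 0)), tU_sq, cB_tU]
  rfl

theorem gg_injective : Function.Injective (gg φ) := by
  rw [injective_iff_map_eq_zero]
  intro a ha
  have h : (φ (tU a 0)) ^ 2 = 1 := by
    rw [← tU_eta (φ (tU a 0))]
    change tU (gg φ a) _ ^ 2 = 1
    rw [ha, tU_sq, mul_zero, tU_zero]
  rw [← map_pow, EmbeddingLike.map_eq_one_iff] at h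
  exact Ts_sq_eq_one.mp (congrArg Subtype.val h)

theorem exists_gg : ∃ (k : Fˣ) (i : ZMod (2 * m + 1)), ∀ a, gg φ a = k * fp i a :=
  semilinear (gg_injective φ) (hh_sq φ)

end layers

/-! ### All automorphisms -/

include hP in
theorem exists_eq_sg_mul (c : F) : ∃ a : F, sg m a * a = c := by
  obtain ⟨a, ha⟩ := exists_mul_sg (m := m) c
  exact ⟨a, by rw [mul_comm, ha]⟩

/-- The endomorphism `(a, b) ↦ (k a^σ, k sg(k) b^σ + η a)`. -/
def semiHom (i : ZMod (2 * m + 1)) (k : Fˣ) (η : F →+ F) :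
    ↥(unipotent : Subgroup ↥(Cfsg.Sz F m)) →* ↥(unipotent : Subgroup ↥(Cfsg.Sz F m)) :=
  MonoidHom.mk'
    (fun u => tU (k * fr i (cA u)) (k * sg m (k : F) * fr i (cB u) + η (cA u)))
    (by
      intro u v
      obtain ⟨_, a, b, rfl⟩ := u
      obtain ⟨_, c, d, rfl⟩ := v
      change tU _ _ = _
      rw [show (⟨Ts a b, _⟩ : ↥(unipotent : Subgroup ↥(Cfsg.Sz F m))) = tU a b from rfl,
        show (⟨Ts c d, _⟩ : ↥(unipotent : Subgroup ↥(Cfsg.Sz F m))) = tU c d from rfl, tU_mul,
        tU_mul]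
      simp only [cA_tU, cB_tU, map_add, map_mul, fr_sg, sg_mul]
      congr 1 <;> ring)

theorem semiHom_tU (i : ZMod (2 * m + 1)) (k : Fˣ) (η : F →+ F) (a b : F) :
    semiHom i k η (tU a b) = tU (k * fp i a) (k * sg m (k : F) * fp i b + η a) := by
  simp [semiHom, fr_apply]

theorem semiHom_bijective (i : ZMod (2 * m + 1)) (k : Fˣ) (η : F →+ F) :
    Function.Bijective (semiHom i k η) := by
  have := finiteF (F := F) (m := m)
  refine Finite.injective_iff_bijective.mp ((injective_iff_map_eq_one _).mpr fun u hu => ?_)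
  rw [← tU_eta u, semiHom_tU, ← tU_zero] at hu
  obtain ⟨h1, h2⟩ := tU_injective hu
  have ha : cA u = 0 :=
    (map_eq_zero (fr i)).mp ((mul_eq_zero.mp h1).resolve_left k.ne_zero)
  rw [ha, map_zero, add_zero] at h2
  have hb : cB u = 0 := (map_eq_zero (fr i)).mp
    ((mul_eq_zero.mp h2).resolve_left (mul_ne_zero k.ne_zero (sg_ne_zero k.ne_zero)))
  rw [← tU_eta u, ha, hb, tU_zero]

/-- The automorphism `(a, b) ↦ (k a^σ, k sg(k) b^σ + η a)`. -/
noncomputable def semiAut (i : ZMod (2 * m + 1)) (k : Fˣ) (η : F →+ F) :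
    MulAut ↥(unipotent : Subgroup ↥(Cfsg.Sz F m)) :=
  MulEquiv.ofBijective _ (semiHom_bijective i k η)

theorem semiAut_tU (i : ZMod (2 * m + 1)) (k : Fˣ) (η : F →+ F) (a b : F) :
    semiAut i k η (tU a b) = tU (k * fp i a) (k * sg m (k : F) * fp i b + η a) :=
  semiHom_tU i k η a b

theorem semiAut_bijective : Function.Bijective
    fun p : (F →+ F) × Fˣ × ZMod (2 * m + 1) =>
      (semiAut p.2.2 p.2.1 p.1 : MulAut ↥(unipotent : Subgroup ↥(Cfsg.Sz F m))) := by
  have := charTwo (F := F) (m := m)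
  constructor
  · rintro ⟨η, k, i⟩ ⟨η', k', i'⟩ h
    have h' : ∀ a b : F, ((k : F) * fp i a = k' * fp i' a) ∧
        (k * sg m (k : F) * fp i b + η a = k' * sg m (k' : F) * fp i' b + η' a) := fun a b => by
      have := MulEquiv.congr_fun h (tU a b)
      simp only [semiAut_tU] at this
      exact tU_injective this
    have hk : k = k' := Units.ext (by simpa [fp] using (h' 1 0).1)
    subst hk
    have hf : ∀ a, fp i a = fp i' a := fun a => mul_left_cancel₀ k.ne_zero (h' a 0).1
    have hi : i = i' := by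
      by_contra hii
      have := congrFun (eq_zero_of_lin (m := m)
        (c := fun j => (if j = i then (1 : F) else 0) - if j = i' then 1 else 0)
        fun a => by simp [sub_mul, Finset.sum_sub_distrib, hf a]) i
      simp [hii] at this
    subst hi
    obtain rfl : η = η' := AddMonoidHom.ext fun a => add_left_cancel (h' a 0).2
    rfl
  · intro φ
    obtain ⟨k, i, hki⟩ := exists_gg φ
    have hh' : ∀ b, hh φ b = k * sg m (k : F) * fp i b := by
      intro b
      obtain ⟨a, rfl⟩ := exists_eq_sg_mul (m := m) b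
      rw [hh_sq, hki, sg_mul, ← fr_apply i (sg m a * a), map_mul, fr_sg, fr_apply]
      ring
    let η : F →+ F :=
      { toFun := fun a => cB (φ (tU a 0))
        map_zero' := by rw [tU_zero, map_one, ← tU_zero, cB_tU]
        map_add' := fun a c => by
          have e : (tU a 0 : ↥(unipotent : Subgroup ↥(Cfsg.Sz F m))) * tU c 0 =
              tU (a + c) 0 * tU 0 (sg m a * c) := by
            rw [tU_mul, tU_mul]; congr 1 <;> simp
          have e' := congrArg (fun u => cB (φ u)) e
          simp only [map_mul] at e'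
          rw [apply_center φ (sg m a * c), ← tU_eta (φ (tU a 0)), ← tU_eta (φ (tU c 0)),
            ← tU_eta (φ (tU (a + c) 0)), tU_mul, tU_mul, cB_tU, cB_tU, mul_zero, add_zero] at e'
          have h1 : cB (φ (tU 0 (sg m a * c))) = sg m (gg φ a) * gg φ c := by
            change hh φ _ = _
            rw [hh', hki, hki, sg_mul, ← fr_apply i (sg m a * c), map_mul, fr_sg, fr_apply,
              fr_apply]
            ring
          rw [h1] at e'
          change _ + _ + sg m (gg φ a) * gg φ c = _ + _ at e'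
          exact (add_right_cancel e').symm }
    refine ⟨(η, k, i), MulEquiv.ext fun u => ?_⟩
    obtain ⟨_, a, b, rfl⟩ := u
    change semiAut i k η (tU a b) = φ (tU a b)
    have e : (tU a b : ↥(unipotent : Subgroup ↥(Cfsg.Sz F m))) = tU a 0 * tU 0 b := by
      rw [tU_mul]; congr 1 <;> simp
    rw [semiAut_tU, e, map_mul, apply_center φ b, ← tU_eta (φ (tU a 0)), tU_mul]
    change _ = tU (gg φ a + 0) (η a + hh φ b + sg m (gg φ a) * 0)
    rw [hki, hh']
    congr 1 <;> ring

theorem natCard_mulAut : Nat.card (MulAut ↥(unipotent : Subgroup ↥(Cfsg.Sz F m))) =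
    2 ^ ((2 * m + 1) ^ 2) * ((2 * m + 1) * (2 ^ (2 * m + 1) - 1)) := by
  have := finiteF (F := F) (m := m)
  rw [← Nat.card_eq_of_bijective _ semiAut_bijective, Nat.card_prod, Nat.card_prod, Nat.card_units,
    natCard_addMonoidHom (m := m), Nat.card_zmod, natCard (F := F) (m := m)]
  ring

/-- The automorphisms trivial on the quotient by the centre. -/
def shears : Subgroup (MulAut ↥(unipotent : Subgroup ↥(Cfsg.Sz F m))) where
  carrier := {φ | ∀ u, cA (φ u) = cA u}
  one_mem' _ := rfl
  mul_mem' := fun {φ ψ} h h' u => by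
    change cA (φ (ψ u)) = cA u
    rw [h, h']
  inv_mem' := fun {φ} h u => by
    have h2 : φ (φ⁻¹ u) = u := φ.apply_symm_apply u
    conv_rhs => rw [← h2, h]

instance shears_normal :
    (shears : Subgroup (MulAut ↥(unipotent : Subgroup ↥(Cfsg.Sz F m)))).Normal where
  conj_mem := fun φ hφ ψ u => by
    have h2 : ψ (ψ⁻¹ u) = u := ψ.apply_symm_apply u
    change cA (ψ (φ (ψ⁻¹ u))) = cA u
    conv_rhs => rw [← h2]
    rw [← tU_eta (φ (ψ⁻¹ u)), hφ]
    conv_rhs => rw [← tU_eta (ψ⁻¹ u), cA_apply ψ]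
    rw [cA_apply ψ]

theorem exists_shear {φ : MulAut ↥(unipotent : Subgroup ↥(Cfsg.Sz F m))} (hφ : φ ∈ shears) :
    ∃ η : F →+ F, semiAut 0 1 η = φ := by
  obtain ⟨⟨η, k, i⟩, rfl⟩ := semiAut_bijective.2 φ
  have h : ∀ a, (k : F) * fp i a = a := fun a => by
    simpa [semiAut_tU] using hφ (tU a 0)
  have hk : k = 1 := Units.ext (by simpa [fp] using h 1)
  subst hk
  obtain rfl : i = 0 := by
    by_contra hi
    have := congrFun (eq_zero_of_lin (m := m)
      (c := fun j => (if j = i then (1 : F) else 0) - if j = 0 then 1 else 0)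
      fun a => by simp [sub_mul, Finset.sum_sub_distrib]; simpa using sub_eq_zero.mpr (h a)) i
    simp [hi] at this
  exact ⟨η, rfl⟩

theorem semiAut_shear_mem (η : F →+ F) :
    (semiAut 0 1 η : MulAut ↥(unipotent : Subgroup ↥(Cfsg.Sz F m))) ∈ shears := fun u => by
  rw [← tU_eta u, semiAut_tU]; simp

theorem semiAut_shear_mul (η η' : F →+ F) :
    (semiAut 0 1 η : MulAut ↥(unipotent : Subgroup ↥(Cfsg.Sz F m))) * semiAut 0 1 η' =
      semiAut 0 1 (η + η') := by
  refine MulEquiv.ext fun u => ?_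
  rw [← tU_eta u]
  change semiAut 0 1 η (semiAut 0 1 η' _) = _
  simp only [semiAut_tU, fp_zero, Units.val_one, sg_one, one_mul, AddMonoidHom.add_apply]
  congr 1
  ring

theorem natCard_shears :
    Nat.card (shears : Subgroup (MulAut ↥(unipotent : Subgroup ↥(Cfsg.Sz F m)))) =
      2 ^ ((2 * m + 1) ^ 2) := by
  rw [← natCard_addMonoidHom (F := F) (m := m)]
  refine (Nat.card_eq_of_bijective (fun η : F →+ F =>
    (⟨semiAut 0 1 η, semiAut_shear_mem η⟩ :
      (shears : Subgroup (MulAut ↥(unipotent : Subgroup ↥(Cfsg.Sz F m))))))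
    ⟨fun η η' h => ?_, fun φ => ?_⟩).symm
  · exact congrArg Prod.fst (semiAut_bijective.1 (a₁ := (η, 1, 0)) (a₂ := (η', 1, 0))
      (congrArg Subtype.val h))
  · obtain ⟨η, hη⟩ := exists_shear φ.2
    exact ⟨η, Subtype.ext hη⟩

theorem shears_elementary {φ ψ : MulAut ↥(unipotent : Subgroup ↥(Cfsg.Sz F m))} (hφ : φ ∈ shears)
    (hψ : ψ ∈ shears) : φ * ψ = ψ * φ ∧ φ ^ 2 = 1 := by
  obtain ⟨η, rfl⟩ := exists_shear hφ
  obtain ⟨η', rfl⟩ := exists_shear hψ
  refine ⟨by rw [semiAut_shear_mul, semiAut_shear_mul, add_comm η], ?_⟩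
  rw [pow_two, semiAut_shear_mul]
  refine MulEquiv.ext fun u => ?_
  have := charTwo (F := F) (m := m)
  rw [← tU_eta u, semiAut_tU]
  simp [CharTwo.add_self_eq_zero]

end Cfsg.Agent.SuzukiTwoAut
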