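import Cfsg.Agent.Lib.SuzukiGroupCentralizer
import Cfsg.Agent.Lib.SuzukiTwoAut
import Cfsg.Prelude.Def_KGroupFacts

/-!
Automorphisms of `Sz(q)`: every automorphism is an inner one times a field automorphism.
-/

set_option autoImplicit false

namespace Cfsg.Agent.SuzukiAut

open scoped Matrix Pointwise LinearAlgebra.Projectivization
open MulAction Cfsg.Agent.SuzukiGroupBasic Cfsg.Agent.SuzukiGroupStructure
  Cfsg.Agent.SuzukiGroupCentralizer Cfsg.Agent.SuzukiTwoAut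

variable {F : Type*} [Field F] {m : ℕ} [hP : Param F m]

/-! ### Field automorphisms -/

theorem map_T (i : ZMod (2 * m + 1)) (a b : F) :
    Matrix.SpecialLinearGroup.map (fr i) (T m a b) = T m (fr i a) (fr i b) := by
  apply sl_ext
  change ((_ : Matrix.SpecialLinearGroup (Fin 4) F) : Matrix (Fin 4) (Fin 4) F).map (fr i) = _
  ext r s
  fin_cases r <;> fin_cases s <;>
    simp [T, Tm, ff, fr_sg, map_add, map_mul, map_pow]

theorem map_H (i : ZMod (2 * m + 1)) (k : Fˣ) :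
    Matrix.SpecialLinearGroup.map (fr i) (H m k) =
      H m (Units.map (fr i).toMonoidHom k) := by
  have ht : ∀ x : F, fr i (tg m x) = tg m (fr i x) := fun x => map_pow _ _ _
  apply sl_ext
  change ((_ : Matrix.SpecialLinearGroup (Fin 4) F) : Matrix (Fin 4) (Fin 4) F).map (fr i) = _
  ext r s
  fin_cases r <;> fin_cases s <;> simp [H, Hm, ht, map_mul, map_inv₀]

theorem map_W (i : ZMod (2 * m + 1)) :
    Matrix.SpecialLinearGroup.map (fr i) (W F) = W F := by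
  apply sl_ext
  change ((_ : Matrix.SpecialLinearGroup (Fin 4) F) : Matrix (Fin 4) (Fin 4) F).map (fr i) = _
  ext r s
  fin_cases r <;> fin_cases s <;> simp [W, suzukiForm]

theorem map_mem (i : ZMod (2 * m + 1)) (g : ↥(Cfsg.Sz F m)) :
    Matrix.SpecialLinearGroup.map (fr i) (g : Matrix.SpecialLinearGroup (Fin 4) F) ∈
      Cfsg.Sz F m := by
  have hB : ∀ g : ↥(Cfsg.Sz F m), g • Cfsg.suzukiPointInfinity F = Cfsg.suzukiPointInfinity F →
      Matrix.SpecialLinearGroup.map (fr i) (g : Matrix.SpecialLinearGroup (Fin 4) F) ∈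
        Cfsg.Sz F m := by
    intro g hg
    obtain ⟨a, b, k, rfl⟩ := fix_inf_iff.mp hg
    rw [Subgroup.coe_mul, map_mul]
    refine mul_mem ?_ ?_
    · rw [show ((Ts a b : ↥(Cfsg.Sz F m)) : Matrix.SpecialLinearGroup (Fin 4) F) = T m a b from rfl,
        map_T]
      exact T_mem _ _
    · rw [show ((Hs k : ↥(Cfsg.Sz F m)) : Matrix.SpecialLinearGroup (Fin 4) F) = H m k from rfl,
        map_H]
      exact H_mem _
  rcases bruhat g with h | ⟨a, b, h, hh, rfl⟩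
  · exact hB g h
  · rw [Subgroup.coe_mul, Subgroup.coe_mul, map_mul, map_mul]
    refine mul_mem (mul_mem (hB _ (Ts_smul_inf a b)) ?_) (hB h hh)
    rw [show ((Ws : ↥(Cfsg.Sz F m)) : Matrix.SpecialLinearGroup (Fin 4) F) = W F from rfl, map_W]
    exact W_mem

/-- The field endomorphism of `Sz(q)`. -/
noncomputable def fieldHom (i : ZMod (2 * m + 1)) : ↥(Cfsg.Sz F m) →* ↥(Cfsg.Sz F m) :=
  ((Matrix.SpecialLinearGroup.map (fr i)).comp (Cfsg.Sz F m).subtype).codRestrict _ (map_mem i)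

theorem fieldHom_bijective (i : ZMod (2 * m + 1)) :
    Function.Bijective (fieldHom i : ↥(Cfsg.Sz F m) →* ↥(Cfsg.Sz F m)) := by
  refine Finite.injective_iff_bijective.mp fun g h e => Subtype.ext (sl_ext ?_)
  have e' := congrArg (fun x : ↥(Cfsg.Sz F m) =>
    ((x : Matrix.SpecialLinearGroup (Fin 4) F) : Matrix (Fin 4) (Fin 4) F)) e
  have hinj : Function.Injective ⇑(fr (F := F) i) := RingHom.injective _
  exact Matrix.map_injective hinj e'

/-- The field automorphism of `Sz(q)`. -/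
noncomputable def fieldAut (i : ZMod (2 * m + 1)) : MulAut ↥(Cfsg.Sz F m) :=
  MulEquiv.ofBijective _ (fieldHom_bijective i)

theorem fieldAut_Ts (i : ZMod (2 * m + 1)) (a b : F) :
    fieldAut i (Ts a b : ↥(Cfsg.Sz F m)) = Ts (fp i a) (fp i b) :=
  Subtype.ext (map_T i a b)

theorem fieldAut_Hs (i : ZMod (2 * m + 1)) (k : Fˣ) :
    fieldAut i (Hs k : ↥(Cfsg.Sz F m)) = Hs (Units.map (fr i).toMonoidHom k) :=
  Subtype.ext (map_H i k)

theorem fieldAut_add (i j : ZMod (2 * m + 1)) :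
    (fieldAut (i + j) : MulAut ↥(Cfsg.Sz F m)) = fieldAut i * fieldAut j := by
  refine MulEquiv.ext fun g => Subtype.ext (sl_ext ?_)
  ext r s
  exact fp_add i j _

theorem fieldAut_zero : (fieldAut 0 : MulAut ↥(Cfsg.Sz F m)) = 1 := by
  refine MulEquiv.ext fun g => Subtype.ext (sl_ext ?_)
  ext r s
  exact fp_zero _

/-! ### An automorphism fixing the Borel subgroup pointwise is trivial -/

theorem eq_one_of_fix {ε : MulAut ↥(Cfsg.Sz F m)}
    (hT : ∀ a b : F, ε (Ts a b) = Ts a b) (hH : ∀ k : Fˣ, ε (Hs k) = Hs k) : ε = 1 := by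
  obtain ⟨c, hc0, hc1⟩ := exists_ne_zero_one (F := F) (m := m)
  have hB : ∀ g : ↥(Cfsg.Sz F m), g • Cfsg.suzukiPointInfinity F = Cfsg.suzukiPointInfinity F →
      ε g = g := by
    intro g hg
    obtain ⟨a, b, k, rfl⟩ := fix_inf_iff.mp hg
    rw [map_mul, hT, hH]
  set k := Units.mk0 c hc0 with hk
  have hk1 : k⁻¹ ≠ 1 := fun h => hc1 (by simpa [hk, Units.ext_iff] using inv_eq_one.mp h)
  have e : ε Ws * Hs k * (ε Ws)⁻¹ = Hs k⁻¹ := by
    conv_lhs => rw [← hH k, ← map_inv, ← map_mul, ← map_mul, Ws_Hs, hH]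
  have hcomm : Commute (ε Ws * (Ws : ↥(Cfsg.Sz F m))) (Hs k⁻¹) := by
    have e2 : (Ws : ↥(Cfsg.Sz F m)) * Hs k⁻¹ = Hs k * Ws := by
      have h2 := Ws_Hs (F := F) (m := m) k⁻¹
      rw [inv_inv, mul_inv_eq_iff_eq_mul] at h2
      exact h2
    change ε Ws * Ws * Hs k⁻¹ = Hs k⁻¹ * (ε Ws * Ws)
    rw [mul_assoc, e2, ← mul_assoc, ← mul_assoc]
    congr 1
    rw [← e]
    group
  obtain ⟨l, hl⟩ := commute_Hs_eq hk1 hcomm
  have hW : ε Ws = Hs l * Ws := by
    rw [← hl, mul_assoc, Ws_mul_Ws, mul_one]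
  set x : ↥(Cfsg.Sz F m) := Ws * Ts 0 1 * Ws with hx
  have hff : ff m (0 : F) 1 = 1 := by simp [ff]
  have hx1 : x • Cfsg.suzukiPointInfinity F = pt m 1 0 := by
    rw [hx, mul_smul, mul_smul, Ws_smul_inf, Ts_smul_zero]
    have h := W_smul_pt (F := F) (m := m) (x := 0) (y := 1) (by rw [hff]; exact one_ne_zero)
    rw [hff, div_one, div_one] at h
    exact h
  set h : ↥(Cfsg.Sz F m) := Ws⁻¹ * (Ts 1 0)⁻¹ * x with hh
  have hinf : h • Cfsg.suzukiPointInfinity F = Cfsg.suzukiPointInfinity F := by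
    rw [hh, mul_smul, mul_smul, hx1, inv_smul_eq_iff, Ws_smul_inf, inv_smul_eq_iff, Ts_smul_zero]
  have hx2 : x = Ts 1 0 * Ws * h := by rw [hh]; group
  have e1 : ε x • Cfsg.suzukiPointInfinity F = pt m 1 0 := by
    conv_lhs => rw [hx2, map_mul, map_mul, hT, hW, hB h hinf, mul_smul, hinf, mul_smul, mul_smul,
      Ws_smul_inf, Hs_smul_zero, Ts_smul_zero]
  have e2 : ε x = Hs l * x * (Hs l)⁻¹ := by
    have h3 : (Ws : ↥(Cfsg.Sz F m)) * Hs l = Hs l⁻¹ * Ws := by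
      have h2 := Ws_Hs (F := F) (m := m) l
      rwa [mul_inv_eq_iff_eq_mul] at h2
    have h4 : (Hs l : ↥(Cfsg.Sz F m)) * Ws = Ws * (Hs l)⁻¹ := by
      have : (Hs l : ↥(Cfsg.Sz F m))⁻¹ = Hs l⁻¹ :=
        inv_eq_of_mul_eq_one_right (by rw [Hs_mul, mul_inv_cancel, Hs_one])
      rw [this]
      have h2 := Ws_Hs (F := F) (m := m) l⁻¹
      rw [inv_inv, mul_inv_eq_iff_eq_mul] at h2
      exact h2.symm
    rw [hx, map_mul, map_mul, hW, hT]
    simp only [mul_assoc]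
    rw [h4]
  rw [e2, mul_smul, inv_smul_eq_iff.mpr (Hs_smul_inf l).symm, mul_smul, hx1, Hs_smul_pt] at e1
  have hl1 : l = 1 := Units.ext (by simpa using (pt_injective e1).1)
  rw [hl1, Hs_one, one_mul] at hW
  refine MulEquiv.ext fun g => ?_
  change ε g = g
  rcases bruhat g with hg | ⟨a, b, h, hh, rfl⟩
  · exact hB g hg
  · rw [map_mul, map_mul, hT, hW, hB h hh]

/-! ### Every automorphism -/

theorem exists_normalised (α : MulAut ↥(Cfsg.Sz F m)) :
    ∃ c : ↥(Cfsg.Sz F m),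
      (∀ u ∈ (unipotent : Subgroup ↥(Cfsg.Sz F m)), (MulAut.conj c * α) u ∈ unipotent) ∧
      ∀ k : Fˣ, ∃ l : Fˣ, (MulAut.conj c * α) (Hs k) = Hs l := by
  have hinst : Fact (Nat.Prime 2) := ⟨Nat.prime_two⟩
  obtain ⟨c, hc⟩ := exists_conj_sylow
    ((sylowU : Sylow 2 ↥(Cfsg.Sz F m)).mapSurjective (f := α.toMonoidHom) α.surjective)
  set β := MulAut.conj c⁻¹ * α with hβ
  have hU : ∀ u ∈ (unipotent : Subgroup ↥(Cfsg.Sz F m)), β u ∈ unipotent := by
    intro u hu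
    have h1 : α u ∈ (unipotent : Subgroup ↥(Cfsg.Sz F m)).map (MulAut.conj c).toMonoidHom := by
      rw [← hc]
      exact ⟨u, hu, rfl⟩
    obtain ⟨v, hv, hve⟩ := h1
    have h2 : β u = v := by
      change MulAut.conj c⁻¹ (α u) = v
      rw [← hve]
      simp [mul_assoc]
    rwa [h2]
  have hUsurj : ∀ u ∈ (unipotent : Subgroup ↥(Cfsg.Sz F m)),
      ∃ v ∈ (unipotent : Subgroup ↥(Cfsg.Sz F m)), β v = u := by
    have hi : Function.Injective fun v : ↥(unipotent : Subgroup ↥(Cfsg.Sz F m)) =>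
        (⟨β v, hU v v.2⟩ : ↥(unipotent : Subgroup ↥(Cfsg.Sz F m))) :=
      fun v w h => Subtype.ext (β.injective (congrArg Subtype.val h))
    have hb := Finite.injective_iff_surjective.mp hi
    intro u hu
    obtain ⟨v, hv⟩ := hb ⟨u, hu⟩
    exact ⟨v, v.2, congrArg Subtype.val hv⟩
  have hB : ∀ g : ↥(Cfsg.Sz F m), g • Cfsg.suzukiPointInfinity F = Cfsg.suzukiPointInfinity F →
      β g • Cfsg.suzukiPointInfinity F = Cfsg.suzukiPointInfinity F := by
    intro g hg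
    refine fix_of_unipotent_fix (smul_mem_ovoid _ inf_mem) fun u hu => ?_
    obtain ⟨v, hv, rfl⟩ := hUsurj u hu
    have hg' : g⁻¹ • Cfsg.suzukiPointInfinity F = Cfsg.suzukiPointInfinity F := by
      rw [inv_smul_eq_iff, hg]
    have h1 : g⁻¹ * v * g ∈ (unipotent : Subgroup ↥(Cfsg.Sz F m)) := by
      have := conj_mem_unipotent hg' hv
      rwa [inv_inv] at this
    obtain ⟨a, b, he⟩ := hU _ h1
    have h2 : β v * β g = β g * Ts a b := by
      rw [← he, ← map_mul, ← map_mul]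
      congr 1
      group
    rw [← mul_smul, h2, mul_smul, Ts_smul_inf]
  obtain ⟨x, hx0, hx1⟩ := exists_ne_zero_one (F := F) (m := m)
  set k0 := Units.mk0 x hx0 with hk0
  have hk01 : k0 ≠ 1 := fun h => hx1 (by simpa [hk0, Units.ext_iff] using h)
  obtain ⟨a, b, k, hk⟩ := fix_inf_iff.mp (hB (Hs k0) (Hs_smul_inf k0))
  have hk1 : k ≠ 1 := by
    rintro rfl
    rw [Hs_one, mul_one] at hk
    obtain ⟨v, ⟨c', d', rfl⟩, hv⟩ := hUsurj _ (Ts_mem a b)
    have h3 := β.injective (hv.trans hk.symm)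
    refine hk01 (Ts_Hs_injective (m := m) (a := (0 : F)) (b := 0) (c := c') (d := d') (l := 1) ?_).2.2
    rw [Ts_zero, one_mul, Hs_one, mul_one, h3]
  have hinj : Function.Injective fun w : ↥(unipotent : Subgroup ↥(Cfsg.Sz F m)) =>
      (⟨w.1 * (Hs k * w.1⁻¹ * (Hs k)⁻¹),
        mul_mem w.2 (conj_mem_unipotent (Hs_smul_inf k) (inv_mem w.2))⟩ :
          ↥(unipotent : Subgroup ↥(Cfsg.Sz F m))) := by
    intro v w h
    have h' := congrArg Subtype.val h
    simp only at h'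
    have hcom : Commute (w.1⁻¹ * v.1) (Hs k : ↥(Cfsg.Sz F m)) := by
      change _ = _
      calc w.1⁻¹ * v.1 * Hs k
          = w.1⁻¹ * (v.1 * (Hs k * v.1⁻¹ * (Hs k)⁻¹)) * (Hs k * v.1) := by group
        _ = Hs k * (w.1⁻¹ * v.1) := by rw [h']; group
    obtain ⟨l, hl⟩ := commute_Hs_eq hk1 hcom
    obtain ⟨p, q, hpq⟩ := mul_mem (inv_mem w.2) v.2
    have h4 := Ts_Hs_injective (m := m) (a := p) (b := q) (c := (0 : F)) (d := 0) (k := 1) (l := l)
      (by rw [Hs_one, mul_one, Ts_zero, one_mul, ← hpq, hl])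
    rw [h4.1, h4.2.1, Ts_zero, inv_mul_eq_one] at hpq
    exact Subtype.ext hpq.symm
  obtain ⟨w, hw⟩ := Finite.injective_iff_surjective.mp hinj ⟨Ts a b, Ts_mem a b⟩
  have hw' : w.1 * (Hs k * w.1⁻¹ * (Hs k)⁻¹) = Ts a b := congrArg Subtype.val hw
  refine ⟨w.1⁻¹ * c⁻¹, fun u hu => ?_, fun l => ?_⟩
  · rw [map_mul, mul_assoc, ← hβ]
    change MulAut.conj w.1⁻¹ (β u) ∈ _
    rw [MulAut.conj_apply, inv_inv]
    exact mul_mem (mul_mem (inv_mem w.2) (hU u hu)) w.2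
  · rw [map_mul, mul_assoc, ← hβ]
    set γ := MulAut.conj w.1⁻¹ * β with hγ
    have hγk : γ (Hs k0) = Hs k := by
      change MulAut.conj w.1⁻¹ (β (Hs k0)) = _
      rw [hk, ← hw', MulAut.conj_apply, inv_inv]
      group
    refine commute_Hs_eq hk1 ?_
    rw [← hγk]
    refine Commute.map ?_ γ
    change _ = _
    rw [Hs_mul, Hs_mul, mul_comm]

theorem exists_eq (α : MulAut ↥(Cfsg.Sz F m)) :
    ∃ i : ZMod (2 * m + 1), α * (fieldAut i)⁻¹ ∈ Cfsg.Inn ↥(Cfsg.Sz F m) := by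
  obtain ⟨c, hU, hH⟩ := exists_normalised α
  set γ := MulAut.conj c * α with hγ
  have hbij : Function.Bijective ((γ.toMonoidHom.comp
      (unipotent : Subgroup ↥(Cfsg.Sz F m)).subtype).codRestrict unipotent fun u => hU u u.2) :=
    Finite.injective_iff_bijective.mp fun v w h =>
      Subtype.ext (γ.injective (congrArg Subtype.val h))
  obtain ⟨⟨η, k, i⟩, hφ⟩ := semiAut_bijective.2 (MulEquiv.ofBijective _ hbij)
  have hγT : ∀ a b : F, γ (Ts a b) = Ts (k * fp i a) (k * sg m (k : F) * fp i b + η a) := by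
    intro a b
    have := congrArg Subtype.val (MulEquiv.congr_fun hφ (tU a b))
    simp only [semiAut_tU] at this
    exact this.symm
  choose χ hχ using hH
  set ε := fieldAut (-i) * MulAut.conj (Hs k⁻¹ : ↥(Cfsg.Sz F m)) * γ with hε
  have hinv : ∀ l : Fˣ, (Hs l : ↥(Cfsg.Sz F m))⁻¹ = Hs l⁻¹ := fun l =>
    inv_eq_of_mul_eq_one_right (by rw [Hs_mul, mul_inv_cancel, Hs_one])
  set η' : F →+ F := (fr (-i)).toAddMonoidHom.comp
    ((AddMonoidHom.mulLeft ((k : F) * sg m (k : F))⁻¹).comp η) with hη'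
  have hεT : ∀ a b : F, ε (Ts a b) = Ts a (b + η' a) := by
    intro a b
    change fieldAut (-i) (MulAut.conj (Hs k⁻¹ : ↥(Cfsg.Sz F m)) (γ (Ts a b))) = _
    rw [hγT, MulAut.conj_apply, Hs_Ts, fieldAut_Ts]
    have hk := k.ne_zero
    have hs := sg_ne_zero (m := m) hk
    congr 1
    · rw [Units.val_inv_eq_inv_val, inv_mul_cancel_left₀ hk, ← fp_add, neg_add_cancel, fp_zero]
    · rw [Units.val_inv_eq_inv_val, sg_inv, ← mul_inv, mul_add, inv_mul_cancel_left₀
        (mul_ne_zero hk hs), ← fr_apply, map_add, fr_apply, ← fp_add, neg_add_cancel, fp_zero]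
      rfl
  have hεH : ∀ l : Fˣ, ∃ l', ε (Hs l) = Hs l' := by
    intro l
    refine ⟨Units.map (fr (-i)).toMonoidHom (k⁻¹ * χ l * k), ?_⟩
    change fieldAut (-i) (MulAut.conj (Hs k⁻¹ : ↥(Cfsg.Sz F m)) (γ (Hs l))) = _
    rw [hχ, MulAut.conj_apply, hinv, inv_inv, Hs_mul, Hs_mul, fieldAut_Hs]
  have hkey : ∀ l : Fˣ, ε (Hs l) = Hs l ∧ η' l = (l : F) * sg m (l : F) * η' 1 := by
    intro l
    obtain ⟨l', hl'⟩ := hεH l
    have h := congrArg ε (Hs_Ts (m := m) l 1 0)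
    rw [map_mul, map_mul, map_inv, hεT, hεT, hl', Hs_Ts, mul_one, mul_one, mul_zero, zero_add,
      zero_add] at h
    obtain ⟨h1, h2⟩ := Ts_injective h
    obtain rfl : l' = l := Units.ext h1
    exact ⟨hl', h2.symm⟩
  obtain ⟨x, hx0, hx1⟩ := exists_ne_zero_one (F := F) (m := m)
  have hchar := charTwo (F := F) (m := m)
  have h1x : 1 + x ≠ 0 := fun h => hx1 (CharTwo.add_eq_zero.mp h).symm
  have he : η' 1 = 0 := by
    have h := map_add η' 1 x
    have e1 := (hkey (Units.mk0 _ h1x)).2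
    have e2 := (hkey (Units.mk0 _ hx0)).2
    simp only [Units.val_mk0] at e1 e2
    rw [e1, e2, sg_add, sg_one] at h
    have h' : (x + sg m x) * η' 1 = 0 := by linear_combination h
    refine (mul_eq_zero.mp h').resolve_left fun h0 => ?_
    rcases eq_zero_or_one_of_sg_self (m := m) (CharTwo.add_eq_zero.mp h0).symm with h3 | h3
    exacts [hx0 h3, hx1 h3]
  have hη0 : ∀ a, η' a = 0 := fun a => by
    rcases eq_or_ne a 0 with rfl | ha
    · exact map_zero _
    · have := (hkey (Units.mk0 a ha)).2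
      rw [he, mul_zero] at this
      exact this
  have hε1 : ε = 1 := eq_one_of_fix (fun a b => by rw [hεT, hη0, add_zero]) fun l => (hkey l).1
  refine ⟨i, c⁻¹ * Hs k, ?_⟩
  rw [hε, hγ] at hε1
  have h2 : (fieldAut (-i) : MulAut ↥(Cfsg.Sz F m)) = (fieldAut i)⁻¹ :=
    eq_inv_of_mul_eq_one_left (by rw [← fieldAut_add, neg_add_cancel, fieldAut_zero])
  rw [h2, mul_assoc, inv_mul_eq_one] at hε1
  have h3 : MulAut.conj (Hs k⁻¹ : ↥(Cfsg.Sz F m)) = (MulAut.conj (Hs k : ↥(Cfsg.Sz F m)))⁻¹ := by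
    rw [← map_inv, hinv]
  rw [hε1, h3, map_mul, map_inv]
  group

theorem eq_zero_of_inner {i : ZMod (2 * m + 1)}
    (h : (fieldAut i : MulAut ↥(Cfsg.Sz F m)) ∈ Cfsg.Inn ↥(Cfsg.Sz F m)) : i = 0 := by
  obtain ⟨g, hg⟩ := h
  have hconj : ∀ x : ↥(Cfsg.Sz F m), g * x * g⁻¹ = fieldAut i x := fun x =>
    MulEquiv.congr_fun hg x
  have hgB : g⁻¹ • Cfsg.suzukiPointInfinity F = Cfsg.suzukiPointInfinity F := by
    refine fix_of_unipotent_fix (smul_mem_ovoid _ inf_mem) fun u hu => ?_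
    obtain ⟨a, b, rfl⟩ := hu
    have e : (Ts a b : ↥(Cfsg.Sz F m)) * g⁻¹ = g⁻¹ * fieldAut i (Ts a b) := by
      rw [← hconj]; group
    rw [← mul_smul, e, fieldAut_Ts, mul_smul, Ts_smul_inf]
  rw [inv_smul_eq_iff, eq_comm] at hgB
  obtain ⟨a, b, l, rfl⟩ := fix_inf_iff.mp hgB
  have hfix : ∀ x : F, fp i x = x := by
    intro x
    rcases eq_or_ne x 0 with rfl | hx
    · exact map_zero (fr i)
    set k := Units.mk0 x hx with hk
    have h1 := hconj (Hs k)
    rw [fieldAut_Hs] at h1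
    set k' := Units.map (fr i).toMonoidHom k with hk'
    have h3 : (Ts a b : ↥(Cfsg.Sz F m)) * Hs k * (Ts a b)⁻¹ = Hs k' := by
      rw [← h1]
      have hc : (Hs l : ↥(Cfsg.Sz F m)) * Hs k = Hs k * Hs l := by
        rw [Hs_mul, Hs_mul, mul_comm]
      calc (Ts a b : ↥(Cfsg.Sz F m)) * Hs k * (Ts a b)⁻¹
          = Ts a b * (Hs k * Hs l) * (Hs l)⁻¹ * (Ts a b)⁻¹ := by group
        _ = _ := by rw [← hc]; group
    obtain ⟨p, q, hpq⟩ := mul_mem (Ts_mem (F := F) (m := m) a b)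
      (conj_mem_unipotent (Hs_smul_inf k) (inv_mem (Ts_mem a b)))
    have h4 : (Ts p q : ↥(Cfsg.Sz F m)) * Hs k = Ts 0 0 * Hs k' := by
      rw [Ts_zero, one_mul, ← h3, ← hpq]; group
    exact (congrArg Units.val (Ts_Hs_injective h4).2.2).symm
  by_contra hi
  have := congrFun (eq_zero_of_lin (m := m)
    (c := fun j => (if j = i then (1 : F) else 0) - if j = 0 then 1 else 0)
    fun a => by simp [sub_mul, Finset.sum_sub_distrib, hfix]) i
  simp [hi] at this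

theorem natCard_out : Nat.card (Cfsg.Out ↥(Cfsg.Sz F m)) = 2 * m + 1 := by
  conv_rhs => rw [← Nat.card_zmod (2 * m + 1)]
  refine (Nat.card_eq_of_bijective
    (fun i : ZMod (2 * m + 1) => (QuotientGroup.mk (fieldAut i) : Cfsg.Out ↥(Cfsg.Sz F m)))
    ⟨fun i j h => ?_, fun q => ?_⟩).symm
  · rw [QuotientGroup.eq] at h
    have h2 : (fieldAut i : MulAut ↥(Cfsg.Sz F m))⁻¹ = fieldAut (-i) :=
      inv_eq_of_mul_eq_one_left (by rw [← fieldAut_add, neg_add_cancel, fieldAut_zero])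
    rw [h2, ← fieldAut_add] at h
    exact neg_add_eq_zero.mp (eq_zero_of_inner h)
  · obtain ⟨α, rfl⟩ := QuotientGroup.mk_surjective q
    obtain ⟨i, hi⟩ := exists_eq α
    refine ⟨i, ?_⟩
    rw [QuotientGroup.eq]
    have := (inferInstance : (Cfsg.Inn ↥(Cfsg.Sz F m)).Normal).mem_comm hi
    exact this

end Cfsg.Agent.SuzukiAut
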