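import Mathlib
import Cfsg.Prelude.Def_LocalEven
import Cfsg.Agent.Lib.FpfThree63Base
import Cfsg.Agent.Lib.FpfThree63Alg
import Cfsg.Agent.Lib.StrongClosedNT20
import Cfsg.Agent.Lib.HallTheorem
import Cfsg.Agent.Lib.ZStarBasic
import Cfsg.Agent.S0205
import Cfsg.Agent.S1927

/-!
# Automorphisms of order three with abelian odd fixed points on groups of order prime to three

Such a group is solvable and is the product of `O_{2',2}` and the fixed point subgroup.
-/

set_option autoImplicit false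
set_option linter.style.haveILetI false

namespace Cfsg.Agent.FpfThree63

open Cfsg

universe u

/-- the conclusion -/
def Concl {G : Type u} [Group G] (σ : MulAut G) : Prop :=
  Group.IsSolvable G ∧ ∀ g : G, ∃ p ∈ pPrimePCore 2 G, ∃ c, σ c = c ∧ g = p * c

variable {G : Type u} [Group G] [Finite G] {σ : MulAut G}

theorem concl_of_odd (hodd : Odd (Nat.card G)) : Concl σ := by
  refine ⟨Cfsg.Agent.S0205.result hodd, fun g => ⟨g, ?_, 1, map_one _, (mul_one g).symm⟩⟩
  have h1 : pPrimeCore 2 G = ⊤ :=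
    HallCore.pPrimeCore_eq_top_iff.2 (Nat.coprime_two_right.2 hodd)
  exact HallCore.pPrimeCore_le_pPrimePCore 2 G (h1 ▸ Subgroup.mem_top g)

theorem not_involves_sym_four (h3 : ¬ 3 ∣ Nat.card G) : ¬ Involves (Equiv.Perm (Fin 4)) G := by
  rintro ⟨K, R, _, ⟨e⟩⟩
  refine h3 (Dvd.dvd.trans ?_ (Subgroup.card_subgroup_dvd_card K))
  refine Dvd.dvd.trans ?_ (Subgroup.card_quotient_dvd_card (R.subgroupOf K))
  rw [Nat.card_congr e.toEquiv, Nat.card_eq_fintype_card, Fintype.card_perm, Fintype.card_fin]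
  exact ⟨8, rfl⟩

theorem pPrimePCore_eq_of_core_bot {X : Type u} [Group X] [Finite X] (hO : pPrimeCore 2 X = ⊥) :
    pPrimePCore 2 X = pCore 2 X := by
  haveI : Fact (Nat.Prime 2) := ⟨Nat.prime_two⟩
  refine le_antisymm (HallCore.le_pCore ?_) (HallCore.pCore_le_pPrimePCore 2 X)
  refine HallCore.isPGroup_comap_mk' ?_ (HallCore.isPGroup_pCore 2 _)
  rw [hO]
  exact IsPGroup.of_bot

/-- a nontrivial invariant strongly closed elementary abelian subgroup -/
theorem Good.exists_closed (h : Good σ) (he : Even (Nat.card G)) :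
    ∃ A : Subgroup G, A ≠ ⊥ ∧ (∀ a ∈ A, σ a ∈ A) ∧ IsElementaryAbelian 2 A ∧
      ∀ Q : Subgroup G, IsPGroup 2 Q → A ≤ Q → ∀ a ∈ A, ∀ g : G,
        g * a * g⁻¹ ∈ Q → g * a * g⁻¹ ∈ A := by
  haveI : Fact (Nat.Prime 2) := ⟨Nat.prime_two⟩
  obtain ⟨S, hS⟩ := h.exists_sylow 2
  obtain ⟨W, hW, hlo, hup, hctl⟩ := Cfsg.Agent.S1927.result (not_involves_sym_four h.three) S
  haveI := hW
  set A := W.map (S : Subgroup G).subtype with hA
  have hAS : A ≤ (S : Subgroup G) := Subgroup.map_subtype_le W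
  have hne : A ≠ ⊥ := by
    have hS1 : (S : Subgroup G) ≠ ⊥ := S.ne_bot_of_dvd_card (even_iff_two_dvd.1 he)
    haveI : Nontrivial (S : Subgroup G) := (Subgroup.nontrivial_iff_ne_bot _).2 hS1
    haveI := S.isPGroup'.center_nontrivial
    obtain ⟨k, hk0, hk⟩ := ((S.isPGroup').to_subgroup (Subgroup.center _)).nontrivial_iff_card.1
      inferInstance
    obtain ⟨z, hz⟩ := exists_prime_orderOf_dvd_card' (G := Subgroup.center (S : Subgroup G)) 2
      (hk ▸ dvd_pow_self 2 hk0.ne')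
    have hmem : ((z : (S : Subgroup G)) : G) ∈ A := hlo (Subgroup.subset_closure
      ⟨⟨z.1, z.2, rfl⟩, by
        have hz2 : z ^ 2 = 1 := by
          have := pow_orderOf_eq_one z
          rwa [hz] at this
        exact congrArg (fun q : Subgroup.center (S : Subgroup G) => ((q : (S : Subgroup G)) : G)) hz2⟩)
    intro hb
    rw [hb, Subgroup.mem_bot] at hmem
    have : z = 1 := Subtype.ext (Subtype.ext hmem)
    rw [this, orderOf_one] at hz
    exact absurd hz (by decide)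
  have hinv : ∀ a ∈ A, σ a ∈ A := by
    rintro _ ⟨w, hw, rfl⟩
    exact ⟨_, mem_of_characteristic (σ := FpfThree63.restrict σ hS) w hw, rfl⟩
  have hel : IsElementaryAbelian 2 A := by
    let B : Subgroup G := centerThompsonOf 2 (S : Subgroup G)
    have hB : ∀ a ∈ B, ∀ b ∈ B, a * b = b * a := fun a ha b hb =>
      Subgroup.mem_centralizer_iff.1 hb.2 a ha.1
    let E : Subgroup G :=
      { carrier := {x | x ∈ B ∧ x ^ 2 = 1}
        one_mem' := ⟨one_mem _, one_pow _⟩
        mul_mem' := fun {x y} hx hy => ⟨mul_mem hx.1 hy.1, by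
          rw [(show Commute x y from hB x hx.1 y hy.1).mul_pow, hx.2, hy.2, one_mul]⟩
        inv_mem' := fun {x} hx => ⟨inv_mem hx.1, by rw [inv_pow, hx.2, inv_one]⟩ }
    have hAE : A ≤ E := hup.trans ((Subgroup.closure_le _).2 fun x hx => hx)
    exact ⟨⟨⟨fun a b => Subtype.ext (hB a (hAE a.2).1 b (hAE b.2).1)⟩⟩, fun a ha => (hAE ha).2⟩
  refine ⟨A, hne, hinv, hel, ?_⟩
  have hweak : ∀ g : G, (∀ a ∈ A, g * a * g⁻¹ ∈ (S : Subgroup G)) →
      ∀ a, g * a * g⁻¹ ∈ A ↔ a ∈ A := by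
    intro g hg
    obtain ⟨-, hc⟩ := hctl (A : Set G) hAS
    obtain ⟨x, hx, hxg⟩ := hc g (by rintro _ ⟨a, ha, rfl⟩; exact hg a ha)
    have hfor : ∀ a ∈ A, g * a * g⁻¹ ∈ A := fun a ha => by
      rw [hxg a ha]; exact (Subgroup.mem_normalizer_iff.1 hx a).1 ha
    have heq : A.map (MulAut.conj g).toMonoidHom = A := Subgroup.eq_of_le_of_card_ge
      (by rintro _ ⟨a, ha, rfl⟩; simpa using hfor a ha)
      (Nat.card_congr (Subgroup.equivMapOfInjective _ _ (MulAut.conj g).injective).toEquiv).le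
    intro a
    refine ⟨fun ha => ?_, hfor a⟩
    obtain ⟨b, hb, hbe⟩ := heq.ge ha
    simp only [MulEquiv.coe_toMonoidHom, MulAut.conj_apply] at hbe
    rwa [← mul_left_cancel (mul_right_cancel hbe)]
  intro Q hQ hAQ a ha g hg
  obtain ⟨P, hP⟩ := hQ.exists_le_sylow
  obtain ⟨k, hk⟩ := MulAction.exists_smul_eq G P S
  have hkQ : ∀ q ∈ Q, k * q * k⁻¹ ∈ (S : Subgroup G) := fun q hq => by
    rw [← hk, Sylow.coe_subgroup_smul]
    exact ⟨q, hP hq, by simp⟩
  have hkA := hweak k fun b hb => hkQ b (hAQ hb)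
  have h1 : (k * g) * a * (k * g)⁻¹ ∈ (S : Subgroup G) := by
    have := hkQ _ hg
    rwa [show (k * g) * a * (k * g)⁻¹ = k * (g * a * g⁻¹) * k⁻¹ by group]
  obtain ⟨-, hc⟩ := hctl {a} (by rintro _ rfl; exact hAS ha)
  obtain ⟨x, hx, hxa⟩ := hc (k * g) (by rintro _ ⟨b, rfl, rfl⟩; exact h1)
  refine (hkA (g * a * g⁻¹)).1 ?_
  rw [show k * (g * a * g⁻¹) * k⁻¹ = (k * g) * a * (k * g)⁻¹ by group, hxa a rfl]
  exact (Subgroup.mem_normalizer_iff.1 hx a).1 ha

/-- the step from the normaliser: the closed subgroup is normal -/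
theorem Good.closed_normal (h : Good σ) (hO : pPrimeCore 2 G = ⊥)
    (ih : ∀ (H : Type u) [Group H] [Finite H], Nat.card H < Nat.card G →
      ∀ τ : MulAut H, Good τ → Concl τ)
    {A : Subgroup G} (hinv : ∀ a ∈ A, σ a ∈ A) (hel : IsElementaryAbelian 2 A)
    (hsc : ∀ Q : Subgroup G, IsPGroup 2 Q → A ≤ Q → ∀ a ∈ A, ∀ g : G,
        g * a * g⁻¹ ∈ Q → g * a * g⁻¹ ∈ A) : A.Normal := by
  haveI : Fact (Nat.Prime 2) := ⟨Nat.prime_two⟩
  by_contra hnn
  refine hnn (StrongClosedNT20.normal_of_hyp ⟨hel, hsc, ?_⟩ hO)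
  intro Y C hCA hYA hYC hodd htr
  by_contra hbig
  have hcomm : ∀ a ∈ A, ∀ b ∈ A, a * b = b * a := fun a ha b hb =>
    congrArg Subtype.val (hel.1.is_comm.comm ⟨a, ha⟩ ⟨b, hb⟩)
  set N := Subgroup.normalizer (A : Set G) with hN
  have hAN : A ≤ N := Subgroup.le_normalizer
  have hmemN : ∀ g : G, (∀ a ∈ A, g * a * g⁻¹ ∈ A) → g ∈ N := fun g hg => by
    have heq : A.map (MulAut.conj g).toMonoidHom = A := Subgroup.eq_of_le_of_card_ge
      (by rintro _ ⟨a, ha, rfl⟩; simpa using hg a ha)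
      (Nat.card_congr (Subgroup.equivMapOfInjective _ _ (MulAut.conj g).injective).toEquiv).le
    refine Subgroup.mem_normalizer_iff.2 fun a => ⟨hg a, fun ha => ?_⟩
    obtain ⟨b, hb, hbe⟩ := heq.ge ha
    simp only [MulEquiv.coe_toMonoidHom, MulAut.conj_apply] at hbe
    rwa [← mul_left_cancel (mul_right_cancel hbe)]
  have hNlt : Nat.card N < Nat.card G := by
    refine lt_of_le_of_ne (Subgroup.card_le_card_group N) fun e => hnn ?_
    rw [← Subgroup.normalizer_eq_top_iff]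
    exact Subgroup.eq_top_of_card_eq _ e
  have hNinv : ∀ n ∈ N, σ n ∈ N := fun n hn => hmemN _ fun a ha => by
    have h1 : σ (σ a) ∈ A := hinv _ (hinv a ha)
    have h2 := hinv _ ((Subgroup.mem_normalizer_iff.1 hn _).1 h1)
    rwa [map_mul, map_mul, map_inv, h.cube] at h2
  set τ := FpfThree63.restrict σ hNinv
  have hτ : Good τ := h.restrict hNinv
  obtain ⟨hsol, hdec⟩ := ih N hNlt τ hτ
  haveI := hsol
  -- the odd core of the normaliser centralises `A`
  haveI : (A.subgroupOf N).Normal :=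
    Subgroup.normal_subgroupOf_of_le_normalizer le_rfl
  have hA2 : A.subgroupOf N ≤ pCore 2 N := HallCore.le_pCore fun a => ⟨1, Subtype.ext (Subtype.ext
    (by simpa using hel.2 _ a.2))⟩
  have hOA : ∀ o ∈ pPrimeCore 2 N, ∀ a ∈ A, (o : G) * a = a * o := fun o ho a ha =>
    (congrArg Subtype.val
      (HallCore.commute_pCore_pPrimeCore (x := ⟨a, hAN ha⟩) (hA2 ha) ho).eq).symm
  -- the Hall subgroup `H₀`
  set H₀ := pPrimeCore 2 N ⊔ fix τ with hH₀
  have hH₀odd : Odd (Nat.card H₀) := by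
    refine Odd.of_dvd_nat (Odd.mul ?_ hτ.card_fix)
      (by rw [hH₀, sup_comm, mul_comm]; exact HallCore.card_sup_dvd _ _)
    exact Nat.coprime_two_right.1 (HallCore.coprime_card_pPrimeCore 2 N)
  have hH₀idx : ∃ k, H₀.index = 2 ^ k := by
    obtain ⟨k, hk⟩ := HallCore.relIndex_pPrimePCore 2 N
    have hdvd : H₀.relIndex (pPrimePCore 2 N) ∣ 2 ^ k :=
      hk ▸ Subgroup.relIndex_dvd_of_le_left _ le_sup_left
    obtain ⟨j, -, hj⟩ := (Nat.dvd_prime_pow Nat.prime_two).1 hdvd
    refine ⟨j, hj ▸ ?_⟩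
    let f : ↥(pPrimePCore 2 N) ⧸ H₀.subgroupOf (pPrimePCore 2 N) → N ⧸ H₀ :=
      Quotient.map' Subtype.val fun a b hab => by
        rw [QuotientGroup.leftRel_apply] at hab ⊢; exact hab
    refine (Nat.card_eq_of_bijective f ⟨?_, ?_⟩).symm
    · intro a b
      obtain ⟨a, rfl⟩ := QuotientGroup.mk_surjective a
      obtain ⟨b, rfl⟩ := QuotientGroup.mk_surjective b
      intro hab
      have hab' : ((a : N) : N ⧸ H₀) = (b : N) := hab
      refine QuotientGroup.eq.2 ?_
      have e := QuotientGroup.eq.1 hab'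
      exact e
    · intro q
      induction q using QuotientGroup.induction_on with | _ g =>
      obtain ⟨p, hp, c, hc, rfl⟩ := hdec g
      refine ⟨QuotientGroup.mk ⟨p, hp⟩, QuotientGroup.eq.2 ?_⟩
      rw [inv_mul_cancel_left]
      exact Subgroup.mem_sup_right hc
  -- conjugation by elements of `H₀`
  have hact : ∀ k ∈ H₀, ∃ c : N, σ c = c ∧ ∀ a ∈ A, (k : G) * a * (k : G)⁻¹ = c * a * (c : G)⁻¹ := by
    intro k hk
    obtain ⟨o, ho, c, hc, rfl⟩ := Subgroup.mem_sup_of_normal_left.1 hk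
    refine ⟨c, congrArg Subtype.val hc, fun a ha => ?_⟩
    have hca : (c : G) * a * (c : G)⁻¹ ∈ A := (Subgroup.mem_normalizer_iff.1 c.2 a).1 ha
    calc ((o * c : N) : G) * a * ((o * c : N) : G)⁻¹
        = o * (c * a * (c : G)⁻¹) * (o : G)⁻¹ := by push_cast; group
      _ = _ := by rw [hOA o ho _ hca]; group
  -- the Hall subgroup of `Y`
  have hYN : Y ≤ N := fun y hy => hmemN y (hYA y hy)
  set Y' := Y.subgroupOf N with hY'
  obtain ⟨R, hR⟩ := HallTheorem.exists_isPiHall_of_solvable (G := Y') ({2}ᶜ : Set ℕ)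
  rw [HallTheorem.isPiHall_iff] at hR
  have hRodd : Odd (Nat.card R) := Nat.not_even_iff_odd.1 fun hev =>
    hR.1 2 Nat.prime_two (even_iff_two_dvd.1 hev) rfl
  have hH₀hall : IsPiHall ({2}ᶜ : Set ℕ) H₀ := by
    obtain ⟨k, hk⟩ := hH₀idx
    refine ⟨fun q hq hd => ?_, fun q hq hmem hd => hmem ?_⟩
    · rintro rfl
      exact Nat.not_even_iff_odd.2 hH₀odd (even_iff_two_dvd.2 hd)
    · rw [hk] at hd
      exact (Nat.prime_dvd_prime_iff_eq hq Nat.prime_two).1 (hq.dvd_of_dvd_pow hd)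
  obtain ⟨n, hn⟩ := HallTheorem.le_conj_isPiHall (HallSolvable.isPiSeparable_of_solvable _)
    (HallTheorem.complSolvable_of_solvable _) (U := R.map Y'.subtype)
    (by rw [Subgroup.card_map_of_injective Y'.subtype_injective]; exact hR.1) hH₀hall
  -- the part of `Y` in `O_{2',2}(N)` is trivial on `A` modulo `C`
  set T := (pPrimePCore 2 N).subgroupOf Y' with hT
  have hTidx : Odd T.index := by
    refine Nat.not_even_iff_odd.1 fun hev => ?_
    have h2 : 2 ∣ (pPrimePCore 2 N).index :=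
      (even_iff_two_dvd.1 hev).trans (Subgroup.relIndex_dvd_index_of_normal _ _)
    let f : fix τ → N ⧸ pPrimePCore 2 N := fun c => (c : N)
    have hsurj : Function.Surjective ((QuotientGroup.mk' (pPrimePCore 2 N)).comp (fix τ).subtype) :=
      fun q => by
        induction q using QuotientGroup.induction_on with | _ g =>
        obtain ⟨p, hp, c, hc, rfl⟩ := hdec g
        refine ⟨⟨c, hc⟩, ?_⟩
        show ((c : N) : N ⧸ pPrimePCore 2 N) = (p * c : N)
        rw [QuotientGroup.mk_mul, (QuotientGroup.eq_one_iff p).2 hp, one_mul]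
    exact Nat.not_even_iff_odd.2 hτ.card_fix
      (even_iff_two_dvd.2 (h2.trans (Subgroup.card_dvd_of_surjective _ hsurj)))
  have hRT : R ⊔ T = ⊤ := by
    rw [← Subgroup.index_eq_one]
    have h1 := Subgroup.index_dvd_of_le (le_sup_left : R ≤ R ⊔ T)
    have h2 := Subgroup.index_dvd_of_le (le_sup_right : T ≤ R ⊔ T)
    refine Nat.eq_one_of_dvd_coprimes ?_ h1 h2
    refine Nat.coprime_of_dvd fun q hq hq1 hq2 => ?_
    have : q ∉ ({2}ᶜ : Set ℕ) := hR.2 q hq hq1
    simp only [Set.mem_compl_iff, Set.mem_singleton_iff, not_not] at this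
    subst this
    exact Nat.not_even_iff_odd.2 hTidx (even_iff_two_dvd.2 hq2)
  have hTtriv : ∀ t ∈ T, ∀ a ∈ A, ((t : N) : G) * a * ((t : N) : G)⁻¹ * a⁻¹ ∈ C := by
    set C' := C.subgroupOf A with hC'
    haveI : C'.Normal := ⟨fun c hc a => by
      have : a * c * a⁻¹ = c := Subtype.ext (by
        push_cast
        rw [hcomm _ a.2 _ c.2, mul_inv_cancel_right])
      rwa [this]⟩
    let perm : Y' → Equiv.Perm (A ⧸ C') := fun y =>
      { toFun := QuotientGroup.map C' C'
          ({ toFun := fun a => ⟨((y : N) : G) * a * ((y : N) : G)⁻¹, hYA _ y.2 a a.2⟩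
             map_one' := Subtype.ext (by simp)
             map_mul' := fun a b => Subtype.ext (by push_cast; group) } : A →* A)
          (fun c hc => hYC _ y.2 c hc)
        invFun := QuotientGroup.map C' C'
          ({ toFun := fun a => ⟨((y : N) : G)⁻¹ * a * ((y : N) : G), by
                simpa using hYA _ (Y.inv_mem y.2) a a.2⟩
             map_one' := Subtype.ext (by simp)
             map_mul' := fun a b => Subtype.ext (by push_cast; group) } : A →* A)
          (fun c hc => by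
            have := hYC _ (Y.inv_mem y.2) c hc
            show ((y : N) : G)⁻¹ * c * ((y : N) : G) ∈ C
            simpa using this)
        left_inv := fun q => by
          induction q using QuotientGroup.induction_on
          exact congrArg QuotientGroup.mk (Subtype.ext (by simp; group))
        right_inv := fun q => by
          induction q using QuotientGroup.induction_on
          exact congrArg QuotientGroup.mk (Subtype.ext (by simp; group)) }
    let φ : Y' →* Equiv.Perm (A ⧸ C') :=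
      MonoidHom.mk' perm fun y z => Equiv.ext fun q => by
        induction q using QuotientGroup.induction_on
        exact congrArg QuotientGroup.mk (Subtype.ext (by simp [mul_inv_rev, mul_assoc]))
    have hTp : IsPGroup 2 (T.map φ) := by
      rintro ⟨_, t, ht, rfl⟩
      obtain ⟨k, hk⟩ := HallCore.isPGroup_pCore 2 (N ⧸ pPrimeCore 2 N)
        ⟨((t : N) : N ⧸ pPrimeCore 2 N), ht⟩
      refine ⟨k, Subtype.ext ?_⟩
      show φ t ^ 2 ^ k = 1
      rw [← map_pow]
      refine Equiv.ext fun q => ?_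
      induction q using QuotientGroup.induction_on with | _ a =>
      refine congrArg QuotientGroup.mk (Subtype.ext ?_)
      have ho : ((t ^ 2 ^ k : Y') : N) ∈ pPrimeCore 2 N := by
        rw [← QuotientGroup.eq_one_iff]
        simpa using congrArg Subtype.val hk
      show (((t ^ 2 ^ k : Y') : N) : G) * a * (((t ^ 2 ^ k : Y') : N) : G)⁻¹ = a
      rw [hOA _ ho a a.2, mul_inv_cancel_right]
    intro t ht a ha
    by_cases haC : a ∈ C
    · exact mul_mem (hYC _ t.2 a haC) (inv_mem haC)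
    have hA2' : IsPGroup 2 A := fun a => ⟨1, Subtype.ext (by simpa using hel.2 a.1 a.2)⟩
    obtain ⟨k, hk⟩ := IsPGroup.iff_card.1 (hA2'.to_quotient C')
    have hk1 : k ≠ 0 := by
      rintro rfl
      rw [pow_zero, ← Subgroup.index_eq_card, Subgroup.index_eq_one] at hk
      exact haC (Subgroup.subgroupOf_eq_top.1 hk ha)
    obtain ⟨q, hq, hq1⟩ := hTp.exists_fixed_point_of_prime_dvd_card_of_fixed_point (A ⧸ C')
      (by rw [hk]; exact dvd_pow_self 2 hk1) (a := 1) (by
        rintro ⟨_, s, hs, rfl⟩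
        show φ s ((1 : A) : A ⧸ C') = ((1 : A) : A ⧸ C')
        exact congrArg QuotientGroup.mk (Subtype.ext (by simp)))
    induction q using QuotientGroup.induction_on with | _ b =>
    have hbC : (b : G) ∉ C := fun hb => hq1 ((QuotientGroup.eq_one_iff b).2 hb).symm
    obtain ⟨y, hy, hyc⟩ := htr b b.2 hbC a ha haC
    let y' : Y' := ⟨⟨y, hYN hy⟩, hy⟩
    have hty : y'⁻¹ * t * y' ∈ T := by
      simpa using Subgroup.Normal.conj_mem inferInstance t ht y'⁻¹
    have hfix := hq ⟨_, ⟨_, hty, rfl⟩⟩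
    have e1 : φ y' (b : A ⧸ C') = ((⟨a, ha⟩ : A) : A ⧸ C') := QuotientGroup.eq.2 (by
      show (((⟨y * b * y⁻¹, _⟩ : A))⁻¹ * ⟨a, ha⟩ : A).1 ∈ C
      push_cast
      have h' := inv_mem hyc
      rw [mul_inv_rev, inv_inv] at h'
      rwa [hcomm _ (inv_mem (hYA y hy b b.2)) a ha])
    have e2 : φ t ((⟨a, ha⟩ : A) : A ⧸ C') = ((⟨a, ha⟩ : A) : A ⧸ C') := by
      rw [← e1]
      have e3 : φ (y'⁻¹ * t * y') (b : A ⧸ C') = (b : A ⧸ C') := hfix
      have e4 : t * y' = y' * (y'⁻¹ * t * y') := by group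
      rw [← Equiv.Perm.mul_apply, ← map_mul, e4, map_mul, Equiv.Perm.mul_apply, e3]
    have e5 := QuotientGroup.eq.1 e2.symm
    have e6 : a⁻¹ * (((t : N) : G) * a * ((t : N) : G)⁻¹) ∈ C := e5
    rwa [hcomm _ (inv_mem ha) _ (hYA _ (show ((t : N) : G) ∈ Y from t.2) a ha)] at e6
  -- conjugate data, commuting with `σ`
  set Cn := C.map (MulAut.conj (n : G)⁻¹).toMonoidHom with hCn
  have hmemCn : ∀ x, x ∈ Cn ↔ (n : G) * x * (n : G)⁻¹ ∈ C := fun x => by
    constructor
    · rintro ⟨c, hc, rfl⟩; simpa [mul_assoc] using hc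
    · exact fun hx => ⟨_, hx, by simp [mul_assoc]⟩
  have hCnA : Cn ≤ A := fun x hx =>
    (Subgroup.mem_normalizer_iff.1 n.2 x).2 (hCA ((hmemCn x).1 hx))
  have hR' : ∀ r ∈ R, ∃ k ∈ H₀, ((r : Y') : N) = n * k * n⁻¹ := fun r hr => by
    obtain ⟨k, hk, hkr⟩ := hn ⟨r, hr, rfl⟩
    exact ⟨k, hk, by simpa [MulAut.smul_def] using hkr.symm⟩
  -- elements of `R` become `σ`-commuting actions, trivial on `Cn`
  have hmov : ∀ r ∈ R, ∃ c : N, σ c = c ∧ (∀ a ∈ A, ((r : Y') : N).1 * ((n : G) * a * (n : G)⁻¹) *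
      (((r : Y') : N).1)⁻¹ = (n : G) * (c * a * (c : G)⁻¹) * (n : G)⁻¹) := by
    intro r hr
    obtain ⟨k, hk, hkr⟩ := hR' r hr
    obtain ⟨c, hc, hca⟩ := hact k hk
    refine ⟨c, hc, fun a ha => ?_⟩
    rw [← hca a ha, hkr]
    push_cast
    group
  have hRC : ∀ r ∈ R, ∀ c ∈ C, ((r : Y') : N).1 * c * (((r : Y') : N).1)⁻¹ = c := fun r hr c hc =>
    hodd _ r.2 (by
      show Odd (orderOf (((r : Y') : N) : G))
      rw [Subgroup.orderOf_coe, Subgroup.orderOf_coe, ← Subgroup.orderOf_mk r hr]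
      exact hRodd.of_dvd_nat (orderOf_dvd_natCard _)) c hc
  have htrR : ∀ a ∈ A, a ∉ C → ∀ b ∈ A, b ∉ C →
      ∃ r ∈ R, ((r : Y') : N).1 * a * (((r : Y') : N).1)⁻¹ * b⁻¹ ∈ C := by
    intro a ha haC b hb hbC
    obtain ⟨y, hy, hyc⟩ := htr a ha haC b hb hbC
    let y' : Y' := ⟨⟨y, hYN hy⟩, hy⟩
    obtain ⟨r, hr, t, ht, hrt⟩ := Subgroup.mem_sup_of_normal_right.1 (hRT ▸ Subgroup.mem_top y')
    refine ⟨r, hr, ?_⟩
    have e : y = ((r : Y') : N).1 * ((t : Y') : N).1 := by
      have := congrArg (fun q : Y' => ((q : N) : G)) hrt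
      simpa using this.symm
    set d := ((t : N) : G) * a * ((t : N) : G)⁻¹ * a⁻¹ with hd
    have hdC : d ∈ C := hTtriv t ht a ha
    have e2 : y * a * y⁻¹ * b⁻¹ =
        ((r : N) : G) * d * ((r : N) : G)⁻¹ * (((r : N) : G) * a * ((r : N) : G)⁻¹ * b⁻¹) := by
      rw [e, hd]; group
    rw [e2, hRC r hr d hdC] at hyc
    simpa using mul_mem (inv_mem hdC) hyc
  -- there is room outside `C`
  have hroom : ∀ a ∈ A, ∃ b ∈ A, b ∉ C ∧ b * a⁻¹ ∉ C := by
    intro a ha
    by_contra hcon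
    push_neg at hcon
    refine hbig ?_
    have hA2c : Nat.card (Bool × C) = 2 * Nat.card C := by rw [Nat.card_prod]; simp
    rw [← hA2c]
    refine Nat.card_le_card_of_surjective (fun q : Bool × C =>
      (⟨(bif q.1 then a else 1) * q.2, mul_mem (by cases q.1; exacts [one_mem _, ha]) (hCA q.2.2)⟩ :
        A)) fun b => ?_
    by_cases hb : (b : G) ∈ C
    · exact ⟨(false, ⟨b, hb⟩), Subtype.ext (one_mul _)⟩
    · refine ⟨(true, ⟨b * a⁻¹, hcon b b.2 hb⟩), Subtype.ext ?_⟩
      show a * (b * a⁻¹) = (b : G)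
      rw [← hcomm _ (mul_mem b.2 (inv_mem ha)) a ha, inv_mul_cancel_right]
  -- `Cn` is the common fixed point set, hence invariant
  have hfixC : ∀ x ∈ A, (∀ r ∈ R, ∀ c : N, (∀ a ∈ A, ((r : Y') : N).1 * ((n : G) * a * (n : G)⁻¹) *
      (((r : Y') : N).1)⁻¹ = (n : G) * (c * a * (c : G)⁻¹) * (n : G)⁻¹) →
      (c : G) * x * (c : G)⁻¹ = x) → x ∈ Cn := by
    intro x hx hfx
    rw [hmemCn]
    by_contra hxC
    set a := (n : G) * x * (n : G)⁻¹
    have ha : a ∈ A := (Subgroup.mem_normalizer_iff.1 n.2 x).1 hx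
    obtain ⟨b, hb, hbC, hba⟩ := hroom a ha
    obtain ⟨r, hr, hrc⟩ := htrR a ha hxC b hb hbC
    obtain ⟨c, -, hc⟩ := hmov r hr
    rw [hc x hx, hfx r hr c hc] at hrc
    refine hba ?_
    have e := inv_mem hrc
    rw [mul_inv_rev, inv_inv] at e
    exact e
  have hCnσ : ∀ x ∈ Cn, σ x ∈ Cn := by
    intro x hx
    have hxA := hCnA hx
    refine hfixC _ (hinv x hxA) fun r hr c hc => ?_
    obtain ⟨c₀, hc₀, hca⟩ := hmov r hr
    have e : ∀ a ∈ A, (c : G) * a * (c : G)⁻¹ = c₀ * a * (c₀ : G)⁻¹ := fun a ha =>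
      mul_left_cancel (mul_right_cancel ((hc a ha).symm.trans (hca a ha)))
    rw [e _ (hinv x hxA)]
    have h1 : (c₀ : G) * x * (c₀ : G)⁻¹ = x := by
      have := hRC r hr _ ((hmemCn x).1 hx)
      rw [hca x hxA] at this
      exact mul_left_cancel (mul_right_cancel this)
    calc (c₀ : G) * σ x * (c₀ : G)⁻¹ = σ c₀ * σ x * (σ c₀)⁻¹ := by rw [hc₀]
      _ = _ := by rw [← map_inv, ← map_mul, ← map_mul, h1]
  -- a coset moved to its image
  obtain ⟨a, ha, haC⟩ : ∃ a ∈ A, a ∉ Cn := by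
    obtain ⟨b, hb, hbC, -⟩ := hroom 1 (one_mem _)
    refine ⟨(n : G)⁻¹ * b * n, ?_, fun hh => hbC ?_⟩
    · simpa using (Subgroup.mem_normalizer_iff.1 (inv_mem n.2) b).1 hb
    · simpa [mul_assoc] using (hmemCn _).1 hh
  have hσaC : σ a ∉ Cn := fun hh => haC (by simpa [h.cube] using hCnσ _ (hCnσ _ hh))
  obtain ⟨r, hr, hrc⟩ := htrR _ ((Subgroup.mem_normalizer_iff.1 n.2 a).1 ha)
    (fun hh => haC ((hmemCn a).2 hh)) _ ((Subgroup.mem_normalizer_iff.1 n.2 (σ a)).1 (hinv a ha))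
    (fun hh => hσaC ((hmemCn _).2 hh))
  obtain ⟨c, hc, hca⟩ := hmov r hr
  rw [hca a ha] at hrc
  have hd : (c : G) * a * (c : G)⁻¹ * (σ a)⁻¹ ∈ Cn := by
    rw [hmemCn]
    convert hrc using 1
    group
  have hcA : ∀ b ∈ A, (c : G) * b * (c : G)⁻¹ ∈ A := fun b hb =>
    (Subgroup.mem_normalizer_iff.1 c.2 b).1 hb
  have hcC : ∀ x ∈ Cn, (c : G) * x * (c : G)⁻¹ = x := fun x hx => by
    have := hRC r hr _ ((hmemCn x).1 hx)
    rw [hca x (hCnA hx)] at this
    exact mul_left_cancel (mul_right_cancel this)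
  set d := (c : G) * a * (c : G)⁻¹ * (σ a)⁻¹ with hdd
  have hσσ : σ (σ a) ∈ A := hinv _ (hinv a ha)
  have e1 : (c : G) * a * (c : G)⁻¹ = d * σ a := by rw [hdd]; group
  have e2 : (c : G) * σ a * (c : G)⁻¹ = σ d * σ (σ a) := by
    rw [← map_mul, ← e1, map_mul, map_mul, map_inv, hc]
  have e3 : (c : G) * σ (σ a) * (c : G)⁻¹ = σ (σ d) * a := by
    have := congrArg σ e2
    rwa [map_mul, map_mul, map_inv, hc, map_mul, h.cube] at this
  set D := d * (σ d * σ (σ d)) with hD
  have hDC : D ∈ Cn := mul_mem hd (mul_mem (hCnσ _ hd) (hCnσ _ (hCnσ _ hd)))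
  have hcd : ∀ x ∈ Cn, ∀ b, (c : G) * (x * b) * (c : G)⁻¹ = x * ((c : G) * b * (c : G)⁻¹) :=
    fun x hx b => by
      calc (c : G) * (x * b) * (c : G)⁻¹
          = ((c : G) * x * (c : G)⁻¹) * ((c : G) * b * (c : G)⁻¹) := by group
        _ = _ := by rw [hcC x hx]
  set c3 := (c : G) ^ 3 with hc3
  have e4 : c3 * a * c3⁻¹ = D * a := by
    calc c3 * a * c3⁻¹ = (c : G) * ((c : G) * ((c : G) * a * (c : G)⁻¹) * (c : G)⁻¹) *
          (c : G)⁻¹ := by rw [hc3, pow_succ, pow_two]; group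
      _ = d * (σ d * (σ (σ d) * a)) := by
          rw [e1, hcd d hd, e2, ← mul_assoc d, hcd _ (mul_mem hd (hCnσ _ hd)), e3, mul_assoc]
      _ = D * a := by rw [hD]; group
  have hc3D : ∀ x ∈ Cn, c3 * x * c3⁻¹ = x := fun x hx => by
    calc c3 * x * c3⁻¹ = (c : G) * ((c : G) * ((c : G) * x * (c : G)⁻¹) * (c : G)⁻¹) *
          (c : G)⁻¹ := by rw [hc3, pow_succ, pow_two]; group
      _ = x := by rw [hcC x hx, hcC x hx, hcC x hx]
  have e5 : ∀ k : ℕ, c3 ^ k * a * (c3 ^ k)⁻¹ = D ^ k * a := by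
    intro k
    induction k with
    | zero => simp
    | succ k ihk =>
      calc c3 ^ (k + 1) * a * (c3 ^ (k + 1))⁻¹ = c3 * (c3 ^ k * a * (c3 ^ k)⁻¹) * c3⁻¹ := by
            rw [pow_succ']; group
        _ = (c3 * D ^ k * c3⁻¹) * (c3 * a * c3⁻¹) := by rw [ihk]; group
        _ = D ^ (k + 1) * a := by
            rw [hc3D _ (pow_mem hDC k), e4, pow_succ]
            exact (mul_assoc _ _ _).symm
  have hcodd : Odd (orderOf (c : G)) := h.odd _ hc
  obtain ⟨j, hj⟩ := exists_pow_eq_self_of_coprime (x := (c : G)) (n := 3)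
    ((Nat.prime_three.coprime_iff_not_dvd).2 (h.three_of_dvd (orderOf_dvd_natCard _)))
  have hD1 : D = 1 := by
    have h0 := e5 (orderOf c3)
    rw [pow_orderOf_eq_one, inv_one, one_mul, mul_one, eq_comm, mul_eq_right] at h0
    rw [← orderOf_eq_one_iff]
    exact Nat.eq_one_of_dvd_coprimes (Nat.coprime_two_left.2 (hcodd.of_dvd_nat (orderOf_pow_dvd 3)))
      (orderOf_dvd_of_pow_eq_one (hel.2 D (hCnA hDC))) (orderOf_dvd_of_pow_eq_one h0)
  have hca1 : (c : G) * a * (c : G)⁻¹ = a := by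
    have := e5 j
    rwa [hD1, one_pow, one_mul, hc3, hj] at this
  rw [hca1] at e1
  obtain ⟨x, hx, hxa⟩ := h.exists_fix_coset hCnσ (g := a) (by
    rw [e1]
    have e0 : (d * σ a)⁻¹ * σ (d * σ a) = (σ a)⁻¹ * (d⁻¹ * σ d) * σ (σ a) := by
      rw [map_mul]; group
    rw [e0]
    have hb : d⁻¹ * σ d ∈ Cn := mul_mem (inv_mem hd) (hCnσ _ hd)
    have e6 : (σ a)⁻¹ * (d⁻¹ * σ d) * σ (σ a) = (d⁻¹ * σ d) * ((σ a)⁻¹ * σ (σ a)) := by
      rw [hcomm _ (inv_mem (hinv a ha)) _ (hCnA hb), mul_assoc]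
    rw [e6]
    refine mul_mem hb ?_
    have e7 : σ (d * σ a) = σ a := by rw [← e1]
    rw [map_mul] at e7
    have e8 : (σ a)⁻¹ * σ (σ a) = (σ d)⁻¹ := by
      rw [hcomm _ (inv_mem (hinv a ha)) _ hσσ]
      calc σ (σ a) * (σ a)⁻¹ = σ (σ a) * (σ d * σ (σ a))⁻¹ := by rw [e7]
        _ = _ := by group
    rw [e8]; exact inv_mem (hCnσ _ hd))
  have hxA : x ∈ A := by
    have := mul_mem ha (hCnA hxa)
    rwa [mul_inv_cancel_left] at this
  rw [h.involution (hel.2 x hxA) hx, mul_one] at hxa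
  exact haC (by simpa using inv_mem hxa)

/-- reading off the structure over a normal elementary abelian subgroup with solvable quotient -/
theorem Good.lift_step (h : Good σ) (hO : pPrimeCore 2 G = ⊥) {V : Subgroup G} [V.Normal]
    (hinv : ∀ v ∈ V, σ v ∈ V) (hel : IsElementaryAbelian 2 V) (hq : Concl (quot σ hinv)) :
    Concl σ := by
  haveI : Fact (Nat.Prime 2) := ⟨Nat.prime_two⟩
  have hcomm : ∀ a ∈ V, ∀ b ∈ V, a * b = b * a := fun a ha b hb =>
    congrArg Subtype.val (hel.1.is_comm.comm ⟨a, ha⟩ ⟨b, hb⟩)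
  have hVp : IsPGroup 2 V := fun a => ⟨1, Subtype.ext (by simpa using hel.2 a.1 a.2)⟩
  obtain ⟨hsolQ, hdec⟩ := hq
  haveI := hsolQ
  haveI : Group.IsSolvable V := by
    haveI := hVp.isNilpotent
    infer_instance
  have hsol : Group.IsSolvable G :=
    Group.isSolvable_of_ker_le_range V.subtype (QuotientGroup.mk' V) (by simp)
  refine ⟨hsol, ?_⟩
  set σq := quot σ hinv
  have hσq : Good σq := h.quotient hinv
  set D := pPrimeCore 2 (G ⧸ V) with hD
  haveI : D.Characteristic := HallCore.pPrimeCore_characteristic 2 _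
  have hDinv : ∀ d ∈ D, σq d ∈ D := mem_of_characteristic
  -- the module
  letI : CommGroup V :=
    { (inferInstance : Group V) with mul_comm := fun a b => Subtype.ext (hcomm _ a.2 _ b.2) }
  let ρ₀ : G →* AddMonoid.End (Additive V) :=
    { toFun := fun g => MonoidHom.toAdditive (MulAut.conjNormal g : MulAut V).toMonoidHom
      map_one' := AddMonoidHom.ext fun v => by
        refine Additive.toMul.injective (Subtype.ext ?_)
        show 1 * ((Additive.toMul v : V) : G) * 1⁻¹ = ((Additive.toMul v : V) : G)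
        group
      map_mul' := fun g k => AddMonoidHom.ext fun v => by
        refine Additive.toMul.injective (Subtype.ext ?_)
        show g * k * ((Additive.toMul v : V) : G) * (g * k)⁻¹ =
          g * (k * ((Additive.toMul v : V) : G) * k⁻¹) * g⁻¹
        group }
  have hker : V ≤ ρ₀.ker := fun v hv => AddMonoidHom.ext fun u => by
    refine Additive.toMul.injective (Subtype.ext ?_)
    show v * ((Additive.toMul u : V) : G) * v⁻¹ = _
    rw [hcomm v hv _ (Additive.toMul u : V).2, mul_inv_cancel_right]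
    rfl
  let ρ := QuotientGroup.lift V ρ₀ hker
  let x : AddMonoid.End (Additive V) := MonoidHom.toAdditive (FpfThree63.restrict σ hinv).toMonoidHom
  have h2 : ∀ f : AddMonoid.End (Additive V), f + f = 0 := fun f => AddMonoidHom.ext fun v =>
    Additive.toMul.injective (Subtype.ext (by
      show ((Additive.toMul (f v) : V) : G) * ((Additive.toMul (f v) : V) : G) = 1
      rw [← pow_two]; exact hel.2 _ (Additive.toMul (f v) : V).2))
  have hx : x * x = x + 1 := AddMonoidHom.ext fun v =>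
    Additive.toMul.injective (Subtype.ext (by
      set a := ((Additive.toMul v : V) : G)
      have ha : a ∈ V := (Additive.toMul v : V).2
      show σ (σ a) = σ a * a
      have hfixed : σ (a * (σ a * σ (σ a))) = a * (σ a * σ (σ a)) := by
        rw [map_mul, map_mul, h.cube, hcomm a ha _ (mul_mem (hinv _ ha) (hinv _ (hinv _ ha))),
          mul_assoc]
      have hmem : a * (σ a * σ (σ a)) ∈ V := mul_mem ha (mul_mem (hinv _ ha) (hinv _ (hinv _ ha)))
      have h1 := h.involution (hel.2 _ hmem) hfixed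
      have hsq : σ a * a * (σ a * a) = 1 := by
        rw [← pow_two]; exact hel.2 _ (mul_mem (hinv _ ha) ha)
      rw [← mul_assoc, hcomm a ha _ (hinv _ ha)] at h1
      exact mul_left_cancel (h1.trans hsq.symm)))
  have hinj : Function.Injective (ρ.comp D.subtype) := by
    rw [injective_iff_map_eq_one]
    intro d hd
    apply Subtype.ext
    obtain ⟨g, hg⟩ := QuotientGroup.mk_surjective (d : G ⧸ V)
    set K := D.comap (QuotientGroup.mk' V) ⊓ Subgroup.centralizer (V : Set G) with hK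
    haveI : K.Normal := inferInstance
    have hVK : V ≤ K := fun v hv => ⟨by
      show (QuotientGroup.mk' V v) ∈ D
      rw [show QuotientGroup.mk' V v = 1 from (QuotientGroup.eq_one_iff v).2 hv]
      exact one_mem _, fun u hu => hcomm u hu v hv⟩
    have hgK : g ∈ K := by
      refine ⟨show (g : G ⧸ V) ∈ D from hg ▸ d.2, fun v hv => ?_⟩
      have h1 : ρ₀ g = 1 := by
        have : ρ (d : G ⧸ V) = 1 := hd
        rwa [← hg] at this
      have h3 := congrArg (fun f : AddMonoid.End (Additive V) =>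
        ((Additive.toMul (f (Additive.ofMul ⟨v, hv⟩)) : V) : G)) h1
      have h4 : g * v * g⁻¹ = v := h3
      exact (mul_inv_eq_iff_eq_mul.1 h4).symm
    set V' := V.subgroupOf K with hV'
    haveI : V'.Normal := inferInstance
    have hidx : V'.index ∣ Nat.card D := by
      let f : K →* D := ((QuotientGroup.mk' V).comp K.subtype).codRestrict D fun k => k.2.1
      have hf : f.ker = V' := by
        ext k; rw [MonoidHom.mem_ker, Subgroup.mem_subgroupOf, Subtype.ext_iff]
        exact QuotientGroup.eq_one_iff _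
      rw [← hf, Subgroup.index_ker]
      exact Subgroup.card_subgroup_dvd_card _
    have hDodd : Odd (Nat.card D) :=
      Nat.coprime_two_right.1 (HallCore.coprime_card_pPrimeCore 2 _)
    obtain ⟨m, hm⟩ := IsPGroup.iff_card.1 (hVp.comap_of_injective K.subtype K.subtype_injective)
    obtain ⟨H, hH⟩ := Subgroup.exists_right_complement'_of_coprime (N := V') (by
      show Nat.Coprime (Nat.card V') V'.index
      rw [show Nat.card V' = 2 ^ m from hm]
      exact (Nat.coprime_two_left.2 (hDodd.of_dvd_nat hidx)).pow_left m)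
    haveI : H.Normal := ⟨fun y hy k => by
      obtain ⟨⟨⟨v, hv⟩, ⟨y', hy'⟩⟩, hk⟩ := hH.2 k
      simp only at hk
      subst hk
      have hvc : v * (y' * y * y'⁻¹) = (y' * y * y'⁻¹) * v :=
        Subtype.ext (((y' * y * y'⁻¹ : K)).2.2 _ hv)
      rw [show v * y' * y * (v * y')⁻¹ = v * (y' * y * y'⁻¹) * v⁻¹ by group, hvc,
        mul_inv_cancel_right]
      exact mul_mem (mul_mem hy' hy) (inv_mem hy')⟩
    have hH1 := ZStarBasic.eq_bot_of_normal_odd (ZStarBasic.pPrimeCore_normal_eq_bot hO K) H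
      (by rw [← hH.symm.index_eq_card]; exact hDodd.of_dvd_nat hidx)
    have hgV : (⟨g, hgK⟩ : K) ∈ V' := by
      have htop : V' = ⊤ := by simpa [hH1] using hH
      rw [htop]; trivial
    rw [← hg]
    exact (QuotientGroup.eq_one_iff g).2 hgV
  have heq : ∀ q, x * ρ q = ρ (σq q) * x := by
    intro q
    induction q using QuotientGroup.induction_on with | _ g =>
    refine AddMonoidHom.ext fun v => Additive.toMul.injective (Subtype.ext ?_)
    show σ (g * ((Additive.toMul v : V) : G) * g⁻¹) =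
      σ g * σ ((Additive.toMul v : V) : G) * (σ g)⁻¹
    rw [map_mul, map_mul, map_inv]
  have hDodd : Odd (Nat.card D) :=
    Nat.coprime_two_right.1 (HallCore.coprime_card_pPrimeCore 2 _)
  have hDfix : ∀ d ∈ D, σq d = d := fun d hd =>
    congrArg Subtype.val (fixed_of_quadratic h2 hx D inferInstance hDodd
      (hσq.three_of_dvd (Subgroup.card_subgroup_dvd_card _)) (ρ.comp D.subtype) hinj
      (FpfThree63.restrict σq hDinv) (fun e => heq e) ⟨d, hd⟩)
  -- the upper part
  set P := pPrimePCore 2 (G ⧸ V) with hP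
  set F := pCore 2 (G ⧸ V) with hF
  have hFinv : ∀ f ∈ F, σq f ∈ F := by
    haveI : F.Characteristic := HallCore.pCore_characteristic 2 _
    exact mem_of_characteristic
  have hPinv : ∀ t ∈ P, σq t ∈ P := by
    intro t ht
    have hqc : quot σq hDinv ((t : (G ⧸ V) ⧸ D)) ∈ pCore 2 ((G ⧸ V) ⧸ D) := by
      haveI := HallCore.pCore_characteristic 2 ((G ⧸ V) ⧸ D)
      exact mem_of_characteristic _ ht
    exact hqc
  have hTF : ∀ t ∈ P, ∃ f ∈ F, ∃ c, σq c = c ∧ t = f * c := by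
    intro t ht
    set u := t⁻¹ * σq t with hu
    set Cn := P ⊓ Subgroup.centralizer (D : Set (G ⧸ V)) with hCn
    haveI : Cn.Normal := inferInstance
    have huC : u ∈ Cn := by
      refine Subgroup.mem_inf.2 ⟨mul_mem (inv_mem ht) (hPinv t ht), fun d hd => ?_⟩
      have h1 := hDfix _ (Subgroup.Normal.conj_mem inferInstance d hd t)
      rw [map_mul, map_mul, map_inv, hDfix d hd] at h1
      calc d * (t⁻¹ * σq t) = t⁻¹ * (t * d * t⁻¹) * σq t := by group
        _ = _ := by rw [← h1, hu]; group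
    set Z := D.subgroupOf Cn with hZ
    have hQp : IsPGroup 2 (Cn ⧸ Z) := by
      intro q
      induction q using QuotientGroup.induction_on with | _ k =>
      obtain ⟨m, hm⟩ := HallCore.isPGroup_pCore 2 ((G ⧸ V) ⧸ D)
        ⟨((k : G ⧸ V) : (G ⧸ V) ⧸ D), k.2.1⟩
      refine ⟨m, ?_⟩
      rw [← QuotientGroup.mk_pow, QuotientGroup.eq_one_iff, Subgroup.mem_subgroupOf,
        Subgroup.coe_pow, ← QuotientGroup.eq_one_iff, QuotientGroup.mk_pow]
      exact congrArg Subtype.val hm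
    obtain ⟨m, hm⟩ := IsPGroup.iff_card.1 hQp
    have hZi : Z.index = 2 ^ m := hm
    obtain ⟨H, hH⟩ := Subgroup.exists_right_complement'_of_coprime (N := Z) (by
      show Nat.Coprime (Nat.card Z) Z.index
      rw [hZi]
      exact (Nat.coprime_two_right.2 (hDodd.of_dvd_nat (HallCore.card_subgroupOf_dvd _ _))).pow_right m)
    haveI : H.Normal := ⟨fun y hy k => by
      obtain ⟨⟨⟨v, hv⟩, ⟨y', hy'⟩⟩, hk⟩ := hH.2 k
      simp only at hk
      subst hk
      have hvc : v * (y' * y * y'⁻¹) = (y' * y * y'⁻¹) * v :=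
        Subtype.ext (((y' * y * y'⁻¹ : Cn)).2.2 _ hv)
      rw [show v * y' * y * (v * y')⁻¹ = v * (y' * y * y'⁻¹) * v⁻¹ by group, hvc,
        mul_inv_cancel_right]
      exact mul_mem (mul_mem hy' hy) (inv_mem hy')⟩
    have hHp : IsPGroup 2 H := IsPGroup.of_card (n := m) (by rw [← hH.symm.index_eq_card, hZi])
    have hHF : H.map Cn.subtype ≤ F := by
      calc H.map Cn.subtype ≤ (pCore 2 Cn).map Cn.subtype :=
            Subgroup.map_mono (HallCore.le_pCore hHp)
        _ ≤ F := (HallCore.map_subtype_pCore Cn).le.trans inf_le_left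
    obtain ⟨⟨⟨z, hz⟩, ⟨y, hy⟩⟩, hzy⟩ := hH.2 ⟨u, huC⟩
    have hzy' : (z : G ⧸ V) * (y : G ⧸ V) = u := congrArg Subtype.val hzy
    have hzfix : σq z = z := hDfix _ hz
    have hyF : (y : G ⧸ V) ∈ F := hHF ⟨y, hy, rfl⟩
    -- modulo `F` the element `t` is moved by a fixed element, hence fixed
    set π := QuotientGroup.mk' F
    have hσF := hσq.quotient hFinv
    have e1 : quot σq hFinv (π t) = π t * π z := by
      show π (σq t) = _
      rw [show σq t = t * (z * y) by rw [hzy', hu]; group, map_mul, map_mul,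
        show π (y : G ⧸ V) = 1 from (QuotientGroup.eq_one_iff _).2 hyF, mul_one]
    have e0 : quot σq hFinv (π z) = π z := by
      show π (σq z) = _
      rw [hzfix]
    have e2 : π z ^ 3 = 1 := by
      have := hσF.cube (π t)
      rw [e1, map_mul, e1, e0, map_mul, map_mul, e1, e0, mul_assoc, mul_assoc, mul_eq_left] at this
      rw [pow_succ, pow_two, mul_assoc]; exact this
    have e3 : π z = 1 := by
      rw [← orderOf_eq_one_iff]
      refine Nat.eq_one_of_dvd_coprimes ?_ (orderOf_dvd_of_pow_eq_one e2) (orderOf_dvd_natCard _)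
      exact (Nat.prime_three.coprime_iff_not_dvd).2 hσF.three
    rw [e3, mul_one] at e1
    obtain ⟨c, hc, hct⟩ := hσq.exists_fix_coset hFinv (g := t) (QuotientGroup.eq.1 e1.symm)
    refine ⟨t * c⁻¹, ?_, c, hc, by group⟩
    have := Subgroup.Normal.conj_mem inferInstance _ (inv_mem hct) c
    rwa [show c * (t⁻¹ * c)⁻¹ * c⁻¹ = t * c⁻¹ by group] at this
  intro g
  obtain ⟨p, hp, c₁, hc₁, hg⟩ := hdec (g : G ⧸ V)
  obtain ⟨f, hf, c₂, hc₂, rfl⟩ := hTF p hp
  obtain ⟨c, hc, hcq⟩ := h.exists_lift hinv (q := c₂ * c₁)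
    (show σq (c₂ * c₁) = c₂ * c₁ by rw [map_mul, hc₂, hc₁])
  refine ⟨g * c⁻¹, ?_, c, hc, by group⟩
  rw [pPrimePCore_eq_of_core_bot hO]
  refine HallCore.le_pCore (HallCore.isPGroup_comap_mk' hVp (HallCore.isPGroup_pCore 2 _))
    (show ((g * c⁻¹ : G) : G ⧸ V) ∈ F from ?_)
  rw [QuotientGroup.mk_mul, QuotientGroup.mk_inv, hg, hcq, mul_assoc f, mul_inv_cancel_right]
  exact hf

theorem concl (G : Type u) [Group G] [Finite G] (σ : MulAut G) (h : Good σ) : Concl σ := by
  induction hn : Nat.card G using Nat.strong_induction_on generalizing G with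
  | _ n ih =>
  subst hn
  have ih' : ∀ (H : Type u) [Group H] [Finite H], Nat.card H < Nat.card G →
      ∀ τ : MulAut H, Good τ → Concl τ := fun H _ _ hlt τ hτ => ih _ hlt H τ hτ rfl
  rcases Nat.even_or_odd (Nat.card G) with he | ho
  swap; · exact concl_of_odd ho
  haveI : Fact (Nat.Prime 2) := ⟨Nat.prime_two⟩
  have hlt : ∀ N : Subgroup G, N ≠ ⊥ → Nat.card (G ⧸ N) < Nat.card G := fun N hN => by
    rw [Subgroup.card_eq_card_quotient_mul_card_subgroup N]
    exact lt_mul_right Nat.card_pos ((Subgroup.one_lt_card_iff_ne_bot N).2 hN)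
  by_cases hO : pPrimeCore 2 G = ⊥
  · obtain ⟨A, hne, hinv, hel, hsc⟩ := h.exists_closed he
    haveI := h.closed_normal hO ih' hinv hel hsc
    exact h.lift_step hO hinv hel (ih' _ (hlt A hne) _ (h.quotient hinv))
  · set N := pPrimeCore 2 G with hN
    haveI : N.Characteristic := HallCore.pPrimeCore_characteristic 2 G
    have hinv : ∀ x ∈ N, σ x ∈ N := mem_of_characteristic
    obtain ⟨hsolQ, hdec⟩ := ih' _ (hlt N hO) _ (h.quotient hinv)
    haveI := hsolQ
    haveI : Group.IsSolvable N :=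
      Cfsg.Agent.S0205.result (Nat.coprime_two_right.1 (HallCore.coprime_card_pPrimeCore 2 G))
    refine ⟨Group.isSolvable_of_ker_le_range N.subtype (QuotientGroup.mk' N) (by simp), fun g => ?_⟩
    obtain ⟨p, hp, c, hc, hg⟩ := hdec (g : G ⧸ N)
    obtain ⟨c', hc', rfl⟩ := h.exists_lift hinv hc
    refine ⟨g * c'⁻¹, ?_, c', hc', by group⟩
    show ((g * c'⁻¹ : G) : G ⧸ N) ∈ pCore 2 (G ⧸ N)
    rw [QuotientGroup.mk_mul, QuotientGroup.mk_inv, hg, mul_inv_cancel_right,
      ← pPrimePCore_eq_of_core_bot (HallCore.pPrimeCore_quotient_self 2 G)]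
    exact hp

end Cfsg.Agent.FpfThree63
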