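import Mathlib
import Cfsg.Prelude.Def_LocalEven
import Cfsg.Agent.Lib.LocGroup56
import Cfsg.Agent.Lib.OmegaCoprime
import Cfsg.Agent.Lib.TransferPResidual
import Cfsg.Agent.Lib.StrongPEmb

/-!
Elements of order prime to `p` acting on `p`-groups, and generation by a Sylow subgroup and
elements of order prime to `p`.
-/

set_option autoImplicit false
set_option linter.all false

namespace Cfsg.Agent.LocCoprime56

open Subgroup
open scoped commutatorElement

variable {G : Type*} [Group G] {p : ℕ} [hp : Fact p.Prime]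

theorem exists_coprime_pow [Finite G] (g : G) : ∃ k : ℕ, (orderOf (g ^ p ^ k)).Coprime p := by
  refine ⟨(orderOf g).factorization p, ?_⟩
  rw [orderOf_pow_of_dvd (pow_ne_zero _ hp.out.ne_zero) (Nat.ordProj_dvd _ p)]
  exact (Nat.coprime_ordCompl hp.out (orderOf_pos g).ne').symm

theorem eq_one_of_coprime {g : G} (h : (orderOf g).Coprime p) {k : ℕ} (hk : g ^ p ^ k = 1) :
    g = 1 := by
  have h2 : orderOf g ∣ p ^ k := orderOf_dvd_of_pow_eq_one hk
  exact orderOf_eq_one_iff.mp (Nat.Coprime.eq_one_of_dvd (h.pow_right k) h2)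

theorem mem_of_pow_mem {H : Subgroup G} {g : G} (h : (orderOf g).Coprime p) {k : ℕ}
    (hk : g ^ p ^ k ∈ H) : g ∈ H := by
  obtain ⟨m, hm⟩ := exists_pow_eq_self_of_coprime (x := g) (h.pow_right k).symm
  exact hm ▸ pow_mem hk m

theorem eq_one_of_pGroup {P : Subgroup G} (hP : IsPGroup p ↥P) {g : G} (hg : g ∈ P)
    (h : (orderOf g).Coprime p) : g = 1 := by
  obtain ⟨k, hk⟩ := hP ⟨g, hg⟩
  exact eq_one_of_coprime h (k := k) (by simpa [Subtype.ext_iff] using hk)

theorem isPGroup_of_coprime_eq_one [Finite G] {L : Subgroup G}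
    (h : ∀ g ∈ L, (orderOf g).Coprime p → g = 1) : IsPGroup p ↥L := fun x => by
  obtain ⟨k, hk⟩ := exists_coprime_pow (p := p) (x : G)
  exact ⟨k, Subtype.ext (by simpa using h _ (pow_mem x.2 _) hk)⟩

theorem conj_eq_comm_mul (v a : G) : v⁻¹ * (a * v * a⁻¹) = ⁅v⁻¹, a⁆ := by
  rw [commutatorElement_def]; group

/-- An element of order prime to `p` stabilizing a chain of a `p`-group centralizes it. -/
theorem commute_of_chain {P : Subgroup G} (hP : IsPGroup p ↥P) {a : G}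
    (ha : (orderOf a).Coprime p) (n : ℕ) (A : ℕ → Subgroup G) (hA : ∀ i ≤ n, A i ≤ P)
    (h0 : A 0 = ⊥) (hstep : ∀ i < n, ∀ x ∈ A (i + 1), ⁅x, a⁆ ∈ A i) :
    ∀ i ≤ n, ∀ x ∈ A i, Commute a x := by
  intro i
  induction i with
  | zero =>
    intro _ x hx
    rw [h0, mem_bot] at hx
    exact hx ▸ Commute.one_right a
  | succ i ih =>
    intro hi x hx
    have hc : ⁅x⁻¹, a⁆ ∈ A i := hstep i hi _ (inv_mem hx)
    have hfix := ih (Nat.le_of_succ_le hi) _ hc
    obtain ⟨k, hk⟩ := hP ⟨_, hA i (Nat.le_of_succ_le hi) hc⟩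
    have h1 : ⁅x⁻¹, a⁆ = 1 := Cfsg.Agent.OmegaCoprime.eq_one_of_fixed_comm ha (x := x)
      (by rw [commutatorElement_def]; group)
      (by rw [hfix.eq]; group) ⟨k, by simpa [Subtype.ext_iff] using hk⟩
    rw [commutatorElement_eq_one_iff_commute] at h1
    exact (Commute.inv_left_iff.mp h1).symm

/-- `[v,a] = [v,a,a]` up to a change of `v`, for a coprime element acting on an abelian `p`-group. -/
theorem exists_comm_comm [Finite G] {V : Subgroup G} (hab : IsMulCommutative ↥V)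
    (hV : IsPGroup p ↥V) {a : G} (hn : ∀ v ∈ V, ⁅v, a⁆ ∈ V) (ha : (orderOf a).Coprime p)
    {v : G} (hv : v ∈ V) : ∃ v' ∈ V, ⁅v, a⁆ = ⁅⁅v', a⁆, a⁆ := by
  have hcomm : ∀ x ∈ V, ∀ y ∈ V, x * y = y * x := fun x hx y hy =>
    congrArg Subtype.val (hab.is_comm.comm (⟨x, hx⟩ : V) ⟨y, hy⟩)
  let φ : ↥V →* ↥V :=
    { toFun := fun x => ⟨⁅(x : G), a⁆, hn x x.2⟩
      map_one' := Subtype.ext (by simp)
      map_mul' := fun x y => Subtype.ext (by
        show ⁅(x : G) * y, a⁆ = ⁅(x : G), a⁆ * ⁅(y : G), a⁆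
        rw [hcomm _ (hn x x.2) _ (hn y y.2)]
        have e : ⁅(x : G) * y, a⁆ = (x : G) * ⁅(y : G), a⁆ * (x : G)⁻¹ * ⁅(x : G), a⁆ := by
          simp only [commutatorElement_def]; group
        rw [e, hcomm _ x.2 _ (hn y y.2), mul_inv_cancel_right]) }
  let ψ : φ.range →* φ.range :=
    { toFun := fun x => ⟨φ x, ⟨x, rfl⟩⟩
      map_one' := Subtype.ext (by simp)
      map_mul' := fun x y => Subtype.ext (by simp) }
  have hinj : Function.Injective ψ := by
    rw [injective_iff_map_eq_one]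
    rintro ⟨_, ⟨x, rfl⟩⟩ hx
    have hx' : ⁅⁅(x : G), a⁆, a⁆ = 1 := congrArg (fun y => ((y : φ.range) : ↥V).1) hx
    rw [commutatorElement_eq_one_iff_commute] at hx'
    obtain ⟨k, hk⟩ := hV ⟨_, inv_mem (hn x x.2)⟩
    have key : ⁅(x : G), a⁆⁻¹ = 1 := Cfsg.Agent.OmegaCoprime.eq_one_of_fixed_comm ha (x := (x : G))
      (by
        rw [hcomm _ x.2 _ (inv_mem (hn x x.2))]
        simp only [commutatorElement_def]; group)
      (by rw [(hx'.inv_left).symm.eq]; group) ⟨k, by simpa [Subtype.ext_iff] using hk⟩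
    exact Subtype.ext (Subtype.ext (inv_eq_one.mp key))
  obtain ⟨⟨_, ⟨x, rfl⟩⟩, hx⟩ := (Finite.injective_iff_surjective.mp hinj) ⟨φ ⟨v, hv⟩, ⟨_, rfl⟩⟩
  exact ⟨x, x.2, (congrArg (fun y => ((y : φ.range) : ↥V).1) hx).symm⟩

/-- A normal subgroup is generated by a Sylow intersection and its elements of order prime to `p`. -/
theorem le_of_sylow_of_coprime [Finite G] {D H : Subgroup G} [D.Normal] (T : Sylow p G)
    (hT : (T : Subgroup G) ⊓ D ≤ H) (hc : ∀ g ∈ D, (orderOf g).Coprime p → g ∈ H) : D ≤ H := by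
  have hidx : ¬ p ∣ ((T : Subgroup G).subgroupOf D).index :=
    Cfsg.Agent.StrongPEmb.not_dvd_relIndex_sylow T D
  let P : Sylow p D := (T.isPGroup'.comap_of_injective _ D.subtype_injective).toSylow hidx
  have h1 := Cfsg.Agent.TransferPResidual.sylow_sup_pResidual P
  have hP : (P : Subgroup D) ≤ H.subgroupOf D := fun x hx =>
    hT ⟨(show x ∈ (T : Subgroup G).subgroupOf D from hx), x.2⟩
  have hR : Cfsg.pResidual p D ≤ H.subgroupOf D :=
    Cfsg.Agent.TransferPResidual.pResidual_le_iff_coprime.mpr fun g hg =>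
      hc g g.2 (by rwa [orderOf_coe])
  intro x hx
  have : (⟨x, hx⟩ : D) ∈ H.subgroupOf D := sup_le hP hR (h1 ▸ mem_top _)
  exact this

end Cfsg.Agent.LocCoprime56
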