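import Mathlib
import Cfsg.Prelude.Def_LocalEven
import Cfsg.Agent.Lib.LocGroup56
import Cfsg.Agent.Lib.LocCoprime56

/-!
`p`-reduced normal subgroups: a working criterion and closure properties.
-/

set_option autoImplicit false
set_option linter.all false

namespace Cfsg.Agent.LocPReduced56

open Subgroup Cfsg.Agent.LocGroup56 Cfsg.Agent.LocCoprime56

variable {L : Type*} [Group L] {p : ℕ}

theorem comm_of_elementary {V : Subgroup L} (h : Cfsg.IsElementaryAbelian p V) {x y : L}
    (hx : x ∈ V) (hy : y ∈ V) : x * y = y * x :=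
  congrArg Subtype.val (h.1.is_comm.comm (⟨x, hx⟩ : V) ⟨y, hy⟩)

theorem isPGroup_of_elementary {V : Subgroup L} (h : Cfsg.IsElementaryAbelian p V) :
    IsPGroup p ↥V := fun x => ⟨1, Subtype.ext (by simpa using h.2 x x.2)⟩

/-- A subgroup generated by commuting elements of exponent `p` is elementary abelian. -/
theorem isElementaryAbelian_closure {S : Set L} {A : Subgroup L} (hA : IsMulCommutative ↥A)
    (hS : S ⊆ A) (hp : ∀ s ∈ S, s ^ p = 1) : Cfsg.IsElementaryAbelian p (Subgroup.closure S) := by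
  have hle : Subgroup.closure S ≤ A := (Subgroup.closure_le A).mpr hS
  have hc : ∀ x ∈ A, ∀ y ∈ A, x * y = y * x := fun x hx y hy =>
    congrArg Subtype.val (hA.is_comm.comm (⟨x, hx⟩ : A) ⟨y, hy⟩)
  refine ⟨⟨⟨fun x y => Subtype.ext (hc _ (hle x.2) _ (hle y.2))⟩⟩, fun x hx => ?_⟩
  induction hx using Subgroup.closure_induction with
  | mem y hy => exact hp y hy
  | one => exact one_pow p
  | mul a b ha hb iha ihb => rw [(Commute.mul_pow (hc a (hle ha) b (hle hb))), iha, ihb, one_mul]
  | inv a _ iha => rw [inv_pow, iha, inv_one]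

theorem omegaOne_elementary {A : Subgroup L} (hA : IsMulCommutative ↥A) :
    Cfsg.IsElementaryAbelian p (Cfsg.omegaOne p A) :=
  isElementaryAbelian_closure hA (fun _ hx => hx.1) (fun _ hx => hx.2)

theorem inf_centralizer_comm (A : Subgroup L) :
    IsMulCommutative ↥(A ⊓ Subgroup.centralizer (A : Set L)) :=
  ⟨⟨fun x y => Subtype.ext (mem_centralizer_iff.mp y.2.2 x x.2.1)⟩⟩

theorem centralizer_normal {V : Subgroup L} (hV : V.Normal) :
    (Subgroup.centralizer (V : Set L)).Normal := by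
  haveI := hV; infer_instance

/-- The criterion for `p`-reducedness. -/
theorem isPReducedNormal_intro {V : Subgroup L} (h1 : V.Normal)
    (h2 : Cfsg.IsElementaryAbelian p V)
    (h3 : ∀ D : Subgroup L, D.Normal → Subgroup.centralizer (V : Set L) ≤ D →
      (∀ g ∈ D, ∃ k : ℕ, g ^ p ^ k ∈ Subgroup.centralizer (V : Set L)) →
      D ≤ Subgroup.centralizer (V : Set L)) : Cfsg.IsPReducedNormal p V := by
  haveI := centralizer_normal h1
  refine ⟨h1, h2, this, ?_⟩
  let f := QuotientGroup.mk' (Subgroup.centralizer (V : Set L))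
  have hD := h3 ((Cfsg.pCore p (L ⧸ Subgroup.centralizer (V : Set L))).comap f)
    ((pCore_normal p _).comap f)
    (fun c hc => by
      rw [Subgroup.mem_comap]
      have : f c = 1 := (QuotientGroup.eq_one_iff c).mpr hc
      rw [this]; exact one_mem _)
    (fun g hg => by
      obtain ⟨k, hk⟩ := pCore_isPGroup p _ ⟨f g, hg⟩
      refine ⟨k, (QuotientGroup.eq_one_iff _).mp ?_⟩
      simpa [f, Subtype.ext_iff] using hk)
  refine (Subgroup.eq_bot_iff_forall _).mpr fun x hx => ?_
  obtain ⟨g, rfl⟩ := QuotientGroup.mk_surjective x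
  exact (QuotientGroup.eq_one_iff g).mpr (hD hx)

theorem quotient_pGroup_le {V D : Subgroup L} (hV : Cfsg.IsPReducedNormal p V) (hD : D.Normal)
    (h : ∀ g ∈ D, ∃ k : ℕ, g ^ p ^ k ∈ Subgroup.centralizer (V : Set L)) :
    D ≤ Subgroup.centralizer (V : Set L) := by
  obtain ⟨-, -, hn, hcore⟩ := hV
  let f := QuotientGroup.mk' (Subgroup.centralizer (V : Set L))
  have hP : IsPGroup p ↥(D.map f) := fun x => by
    obtain ⟨g, hg, hgx⟩ := Subgroup.mem_map.mp x.2
    obtain ⟨k, hk⟩ := h g hg
    refine ⟨k, Subtype.ext ?_⟩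
    rw [SubmonoidClass.coe_pow, ← hgx, ← map_pow]
    exact (QuotientGroup.eq_one_iff _).mpr hk
  have hle := le_pCore (hD.map f (QuotientGroup.mk'_surjective _)) hP
  rw [hcore, le_bot_iff] at hle
  exact fun g hg => (QuotientGroup.eq_one_iff g).mp ((Subgroup.mem_bot).mp (hle ▸ ⟨g, hg, rfl⟩))

theorem pCore_le_centralizer {V : Subgroup L} (hV : Cfsg.IsPReducedNormal p V) :
    Cfsg.pCore p L ≤ Subgroup.centralizer (V : Set L) :=
  quotient_pGroup_le hV (pCore_normal p L) fun g hg => by
    obtain ⟨k, hk⟩ := pCore_isPGroup p L ⟨g, hg⟩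
    refine ⟨k, ?_⟩
    rw [show g ^ p ^ k = 1 from by simpa [Subtype.ext_iff] using hk]
    exact one_mem _

theorem le_center_pCore {V : Subgroup L} (hV : Cfsg.IsPReducedNormal p V) :
    V ≤ Cfsg.pCore p L ⊓ Subgroup.centralizer (Cfsg.pCore p L : Set L) :=
  le_inf (le_pCore hV.1 (isPGroup_of_elementary hV.2.1))
    fun _ hv => mem_centralizer_iff.mpr fun _ hy =>
      (mem_centralizer_iff.mp (pCore_le_centralizer hV hy) _ hv).symm

end Cfsg.Agent.LocPReduced56
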