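import Mathlib
import Cfsg.Prelude.Def_LocalStructure
import Cfsg.Agent.Lib.LocalBasics
import Cfsg.Agent.Lib.LocPReduced56
import Cfsg.Agent.Lib.PGroupsBasic

/-! The largest `p`-reduced normal subgroup `Y_L` of a subgroup `L` of a finite group. -/

set_option autoImplicit false

namespace Cfsg.Agent.LocalPReduced57

open Subgroup
open Cfsg.Agent.LocalBasics

variable {G : Type*} [Group G] {p : ℕ}

/-- Every element of `D` has a `p`-power in the centralizer of `U`. -/
def PowMod (p : ℕ) (D U : Subgroup G) : Prop :=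
  ∀ g ∈ D, ∃ k : ℕ, g ^ p ^ k ∈ centralizer (U : Set G)

theorem PowMod.mono {D U V : Subgroup G} (h : PowMod p D V) (hUV : U ≤ V) : PowMod p D U :=
  fun g hg => let ⟨k, hk⟩ := h g hg; ⟨k, centralizer_le (SetLike.coe_subset_coe.mpr hUV) hk⟩

/-- `U` is a `p`-reduced normal subgroup of the subgroup `L`. -/
def IsRed (p : ℕ) (U L : Subgroup G) : Prop :=
  U ≤ L ∧ L ≤ normalizer (U : Set G) ∧ Cfsg.IsElementaryAbelian p U ∧
    ∀ D : Subgroup G, D ≤ L → L ≤ normalizer (D : Set G) → PowMod p D U →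
      D ≤ centralizer (U : Set G)

theorem subgroupOf_centralizer {U L : Subgroup G} (hUL : U ≤ L) :
    centralizer ((U.subgroupOf L : Subgroup ↥L) : Set ↥L) =
      (centralizer (U : Set G)).subgroupOf L := by
  ext x
  constructor
  · intro hx u hu
    exact congrArg Subtype.val (hx ⟨u, hUL hu⟩ hu)
  · intro hx u hu
    exact Subtype.ext (hx u.1 hu)

theorem isRed_iff {U L : Subgroup G} :
    IsRed p U L ↔ U ≤ L ∧ Cfsg.IsPReducedNormal p (U.subgroupOf L) := by
  constructor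
  · rintro ⟨hUL, hn, hel, hD⟩
    refine ⟨hUL, LocPReduced56.isPReducedNormal_intro (normal_subgroupOf_of_le hn) ?_ ?_⟩
    · exact PGroupsBasic.isElementaryAbelian_comap_injective hel L.subtype_injective
    · intro D hDn _ hpow d hd
      rw [subgroupOf_centralizer hUL]
      refine hD (D.map L.subtype) (map_subtype_le D) (le_normalizer_map_normal L D) ?_ ⟨d, hd, rfl⟩
      rintro _ ⟨g, hg, rfl⟩
      obtain ⟨k, hk⟩ := hpow g hg
      rw [subgroupOf_centralizer hUL] at hk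
      refine ⟨k, ?_⟩
      rw [← map_pow]
      exact hk
  · rintro ⟨hUL, hred⟩
    obtain ⟨hn, hel, hrest⟩ := hred
    refine ⟨hUL, ?_, ?_, fun D hDL hDn hpow d hd => ?_⟩
    · exact le_normalizer_of_conj fun x hx u hu => hn.conj_mem ⟨u, hUL hu⟩ hu ⟨x, hx⟩
    · have := PGroupsBasic.isElementaryAbelian_map_hom hel L.subtype
      rwa [map_subgroupOf_eq_of_le hUL] at this
    · have h1 := LocPReduced56.quotient_pGroup_le (D := D.subgroupOf L) ⟨hn, hel, hrest⟩
        (normal_subgroupOf_of_le hDn) (fun g hg => by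
          obtain ⟨k, hk⟩ := hpow g hg
          refine ⟨k, ?_⟩
          rw [subgroupOf_centralizer hUL, mem_subgroupOf]
          exact hk)
      have h2 := h1 (show (⟨d, hDL hd⟩ : ↥L) ∈ D.subgroupOf L from hd)
      rw [subgroupOf_centralizer hUL] at h2
      exact h2

theorem IsRed.isPGroup {U L : Subgroup G} (h : IsRed p U L) : IsPGroup p ↥U :=
  PGroupsBasic.isPGroup_of_isElementaryAbelian h.2.2.1

theorem IsRed.le_pCoreOf {U L : Subgroup G} (h : IsRed p U L) :
    U ≤ Cfsg.pCoreOf p L :=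
  LocalBasics.le_pCoreOf h.1 h.2.1 h.isPGroup

theorem powMod_of_isPGroup {D : Subgroup G} (U : Subgroup G) (hD : IsPGroup p ↥D) :
    PowMod p D U := fun g hg => by
  obtain ⟨k, hk⟩ := hD ⟨g, hg⟩
  refine ⟨k, ?_⟩
  rw [show g ^ p ^ k = 1 from congrArg Subtype.val hk]
  exact one_mem _

/-- A normal `p`-subgroup centralizes a `p`-reduced normal subgroup. -/
theorem IsRed.le_centralizer {U L A : Subgroup G} (h : IsRed p U L) (hA : IsPGroup p ↥A)
    (hAL : A ≤ L) (hn : L ≤ normalizer (A : Set G)) : A ≤ centralizer (U : Set G) :=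
  h.2.2.2 A hAL hn (powMod_of_isPGroup U hA)

theorem IsRed.pCoreOf_le [Finite G] {U L : Subgroup G} (h : IsRed p U L) :
    Cfsg.pCoreOf p L ≤ centralizer (U : Set G) :=
  h.le_centralizer (isPGroup_pCoreOf p L) (LocalBasics.pCoreOf_le p L) (le_normalizer_pCoreOf p L)

theorem le_centralizer_symm {A B : Subgroup G} (h : A ≤ centralizer (B : Set G)) :
    B ≤ centralizer (A : Set G) := fun b hb a ha => ((h ha) b hb).symm

theorem IsRed.le_omega [Finite G] {U L : Subgroup G} (h : IsRed p U L) :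
    U ≤ Cfsg.omegaOne p (Cfsg.pCoreOf p L ⊓ centralizer ((Cfsg.pCoreOf p L : Subgroup G) : Set G)) :=
  fun u hu => LocGroup56.mem_omegaOne ⟨h.le_pCoreOf hu, le_centralizer_symm h.pCoreOf_le hu⟩
    (h.2.2.1.2 u hu)

/-! ### `Y_L` -/

theorem isPReducedNormal_largest (p : ℕ) (L : Type*) [Group L] [Finite L] :
    Cfsg.IsPReducedNormal p (Cfsg.largestPReduced p L) := by
  have hmax : ∀ V : Subgroup L, Cfsg.IsPReducedNormal p V → V ≤ Cfsg.largestPReduced p L :=
    fun V hV => le_sSup hV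
  refine LocPReduced56.isPReducedNormal_intro (Subgroup.sSup_normal _ fun V hV => hV.1) ?_ ?_
  · have hcl : Cfsg.largestPReduced p L =
        closure (⋃ V ∈ {V : Subgroup L | Cfsg.IsPReducedNormal p V}, (V : Set L)) := by
      refine le_antisymm (sSup_le fun V hV x hx => subset_closure (Set.mem_iUnion₂.mpr ⟨V, hV, hx⟩))
        ((closure_le _).mpr fun x hx => ?_)
      obtain ⟨V, hV, hxV⟩ := Set.mem_iUnion₂.mp hx
      exact hmax V hV hxV
    rw [hcl]
    refine PGroupsBasic.isElementaryAbelian_closure ?_ ?_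
    · intro x hx y hy
      obtain ⟨V, hV, hxV⟩ := Set.mem_iUnion₂.mp hx
      obtain ⟨W, hW, hyW⟩ := Set.mem_iUnion₂.mp hy
      have h1 := LocPReduced56.le_center_pCore hV hxV
      have h2 := (LocPReduced56.le_center_pCore hW hyW).1
      exact (h1.2 y h2).symm
    · intro x hx
      obtain ⟨V, hV, hxV⟩ := Set.mem_iUnion₂.mp hx
      exact hV.2.1.2 x hxV
  · intro D hD _ hpow
    refine le_centralizer_symm (sSup_le fun V hV => le_centralizer_symm ?_)
    refine LocPReduced56.quotient_pGroup_le hV hD fun g hg => ?_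
    obtain ⟨k, hk⟩ := hpow g hg
    exact ⟨k, centralizer_le (SetLike.coe_subset_coe.mpr (hmax V hV)) hk⟩

theorem red_largest [Finite G] (p : ℕ) (L : Subgroup G) :
    IsRed p (Cfsg.largestPReducedOf p L) L := by
  refine isRed_iff.mpr ⟨map_subtype_le _, ?_⟩
  rw [Cfsg.largestPReducedOf, subgroupOf, comap_map_eq_self_of_injective L.subtype_injective]
  exact isPReducedNormal_largest p ↥L

theorem le_largest {U L : Subgroup G} (h : IsRed p U L) : U ≤ Cfsg.largestPReducedOf p L := by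
  have h1 := map_mono (f := L.subtype)
    (show U.subgroupOf L ≤ Cfsg.largestPReduced p ↥L from le_sSup (isRed_iff.mp h).2)
  rwa [map_subgroupOf_eq_of_le h.1] at h1

/-! ### Products with a centralizer -/

theorem exists_mul_of_mem_sup {A B : Subgroup G} (h : A ≤ normalizer (B : Set G)) {x : G}
    (hx : x ∈ A ⊔ B) : ∃ a ∈ A, ∃ b ∈ B, x = a * b := by
  have hx' : x ∈ ((A ⊔ B : Subgroup G) : Set G) := hx
  rw [coe_mul_of_left_le_normalizer_right A B h] at hx'
  obtain ⟨a, ha, b, hb, e⟩ := Set.mem_mul.mp hx'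
  exact ⟨a, ha, b, hb, e.symm⟩

theorem IsRed.transfer {U L L' : Subgroup G} (h : IsRed p U L) (hUL' : U ≤ L')
    (h1 : L' ≤ L ⊔ centralizer (U : Set G)) (h2 : L ≤ L' ⊔ centralizer (U : Set G)) :
    IsRed p U L' := by
  have hL' : L' ≤ normalizer (U : Set G) :=
    h1.trans (sup_le h.2.1 (centralizer_le_normalizer U))
  set C := centralizer (U : Set G) with hC
  have hLC : L ≤ normalizer (C : Set G) := le_normalizer_centralizer h.2.1
  have hL'C : L' ≤ normalizer (C : Set G) := le_normalizer_centralizer hL'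
  refine ⟨hUL', hL', h.2.2.1, fun D' hD'L' hD'n hpow => ?_⟩
  have hD'C : D' ≤ normalizer (C : Set G) := hD'L'.trans hL'C
  set D := L ⊓ (D' ⊔ C) with hD
  have hDn : L ≤ normalizer (D : Set G) := by
    refine le_normalizer_of_conj fun m hm k hk => ⟨L.mul_mem (L.mul_mem hm hk.1) (L.inv_mem hm), ?_⟩
    obtain ⟨l, hl, c, hc, rfl⟩ := exists_mul_of_mem_sup hL'C (h2 hm)
    obtain ⟨d, hd, c', hc', rfl⟩ := exists_mul_of_mem_sup hD'C hk.2
    have e : l * c * (d * c') * (l * c)⁻¹ =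
        (l * d * l⁻¹) * (l * (d⁻¹ * c * d * c' * c⁻¹) * l⁻¹) := by group
    rw [e]
    refine mul_mem (mem_sup_left (conj_mem_of_le_normalizer hD'n hl hd)) (mem_sup_right ?_)
    refine conj_mem_of_le_normalizer hL'C hl ?_
    refine mul_mem (mul_mem ?_ hc') (inv_mem hc)
    simpa using conj_mem_of_le_normalizer hD'C (inv_mem hd) hc
  have hpowD : PowMod p D U := by
    intro g hg
    obtain ⟨d, hd, c, hc, rfl⟩ := exists_mul_of_mem_sup hD'C hg.2
    obtain ⟨k, hk⟩ := hpow d hd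
    refine ⟨k, ?_⟩
    have key : ∀ n : ℕ, ∃ c' ∈ C, (d * c) ^ n = d ^ n * c' := by
      intro n
      induction n with
      | zero => exact ⟨1, one_mem _, by simp⟩
      | succ n ih =>
        obtain ⟨c', hc', e⟩ := ih
        refine ⟨d⁻¹ * c' * d * c, mul_mem ?_ hc, ?_⟩
        · simpa using conj_mem_of_le_normalizer hD'C (inv_mem hd) hc'
        · rw [pow_succ, e, pow_succ]; group
    obtain ⟨c', hc', e⟩ := key (p ^ k)
    rw [e]
    exact mul_mem hk hc'
  have hle := h.2.2.2 D inf_le_left hDn hpowD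
  intro d hd
  obtain ⟨m, hm, c, hc, rfl⟩ := exists_mul_of_mem_sup hLC (h1 (hD'L' hd))
  refine mul_mem (hle ⟨hm, ?_⟩) hc
  have := mul_mem (mem_sup_left (T := C) hd) (mem_sup_right (S := D') (inv_mem hc))
  rwa [mul_inv_cancel_right] at this

/-! ### Sylow subgroups -/

theorem isPGroup_sup {A B : Subgroup G} (hA : IsPGroup p ↥A) (hB : IsPGroup p ↥B)
    (h : B ≤ normalizer (A : Set G)) : IsPGroup p ↥(A ⊔ B) :=
  hA.to_sup_of_normal_left' hB h

theorem le_sylow_of_le_normalizer (T : Sylow p G) {R : Subgroup G} (hR : IsPGroup p ↥R)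
    (h : (T : Subgroup G) ≤ normalizer (R : Set G)) : R ≤ (T : Subgroup G) :=
  le_sup_left.trans (T.3 (isPGroup_sup hR T.isPGroup' h) le_sup_right).le

theorem pCoreOf_le_sylow [Finite G] (T : Sylow p G) {X : Subgroup G} (hTX : (T : Subgroup G) ≤ X) :
    Cfsg.pCoreOf p X ≤ (T : Subgroup G) :=
  le_sylow_of_le_normalizer T (isPGroup_pCoreOf p X) (hTX.trans (le_normalizer_pCoreOf p X))

theorem exists_sylow_inf_eq [Finite G] [Fact p.Prime] (T : Sylow p G) {C : Subgroup G}
    (hTC : (T : Subgroup G) ≤ normalizer (C : Set G)) :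
    ∃ P : Sylow p ↥C, (P : Subgroup ↥C) = (T : Subgroup G).subgroupOf C := by
  set N := normalizer (C : Set G) with hN
  have : (C.subgroupOf N).Normal := normal_subgroupOf_of_le le_rfl
  have h1 : ¬ p ∣ ((T.subtype hTC : Sylow p ↥N) : Subgroup ↥N).relIndex (C.subgroupOf N) := by
    have h3 := CentralSylow.not_dvd_relIndex_normal (T.subtype hTC) (C.subgroupOf N)
    rwa [inf_relIndex_right] at h3
  rw [Sylow.coe_subtype, relIndex_subgroupOf le_normalizer] at h1
  have h2 : IsPGroup p ↥((T : Subgroup G).subgroupOf C) := T.isPGroup'.comap_subtype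
  exact ⟨h2.toSylow h1, IsPGroup.toSylow_coe _ _⟩

/-- `T ∩ C` is a maximal `p`-subgroup of `C` when `T` normalizes `C`. -/
theorem inf_maximal [Finite G] [Fact p.Prime] (T : Sylow p G) {C P : Subgroup G}
    (hTC : (T : Subgroup G) ≤ normalizer (C : Set G)) (hPC : P ≤ C) (hP : IsPGroup p ↥P)
    (hle : (T : Subgroup G) ⊓ C ≤ P) : P = (T : Subgroup G) ⊓ C := by
  obtain ⟨S, hS⟩ := exists_sylow_inf_eq T hTC
  have h1 : (P.subgroupOf C) = (S : Subgroup ↥C) := by
    refine S.3 hP.comap_subtype ?_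
    rw [hS]
    exact fun x hx => hle ⟨hx, x.2⟩
  rw [hS] at h1
  have h2 := congrArg (Subgroup.map C.subtype) h1
  rw [map_subgroupOf_eq_of_le hPC, subgroupOf_map_subtype] at h2
  exact h2

/-- Frattini argument with respect to a maximal `p`-subgroup. -/
theorem frattini_arg [Finite G] [Fact p.Prime] {C T₀ : Subgroup G} (hT₀C : T₀ ≤ C)
    (hT₀ : IsPGroup p ↥T₀)
    (hmax : ∀ P : Subgroup G, P ≤ C → IsPGroup p ↥P → T₀ ≤ P → P = T₀)
    {m : G} (hm : m ∈ normalizer (C : Set G)) :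
    ∃ c ∈ C, c⁻¹ * m ∈ normalizer (T₀ : Set G) := by
  have hsyl : ∀ P : Subgroup G, P ≤ C → IsPGroup p ↥P →
      (∀ P' : Subgroup G, P' ≤ C → IsPGroup p ↥P' → P ≤ P' → P' = P) →
      ∃ S : Sylow p ↥C, (S : Subgroup ↥C) = P.subgroupOf C := by
    intro P hPC hP hPmax
    refine ⟨⟨P.subgroupOf C, hP.comap_subtype, fun {Q} hQ hPQ => ?_⟩, rfl⟩
    have h1 := hPmax (Q.map C.subtype) (map_subtype_le Q) (hQ.map _) (by
      have := map_mono (f := C.subtype) hPQ
      rwa [map_subgroupOf_eq_of_le hPC] at this)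
    rw [← h1, subgroupOf, comap_map_eq_self_of_injective C.subtype_injective]
  set T₁ := T₀.map (MulAut.conj m).toMonoidHom with hT₁
  have hT₁C : T₁ ≤ C := by
    rintro _ ⟨t, ht, rfl⟩; exact (mem_normalizer_iff.mp hm t).mp (hT₀C ht)
  obtain ⟨S₀, hS₀⟩ := hsyl T₀ hT₀C hT₀ hmax
  obtain ⟨S₁, hS₁⟩ := hsyl T₁ hT₁C (hT₀.map _) (fun P' hP'C hP' hle => by
    have hPm : P'.map (MulAut.conj m⁻¹).toMonoidHom = T₀ := by
      refine hmax _ ?_ (hP'.map _) ?_
      · rintro _ ⟨t, ht, rfl⟩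
        have := (mem_normalizer_iff.mp (inv_mem hm) t).mp (hP'C ht)
        simpa using this
      · intro t ht
        exact ⟨m * t * m⁻¹, hle ⟨t, ht, rfl⟩, by simp [mul_assoc]⟩
    refine le_antisymm (fun y hy => ?_) hle
    have : m⁻¹ * y * m ∈ T₀ := hPm.le ⟨y, hy, by simp⟩
    exact ⟨_, this, by simp [mul_assoc]⟩)
  obtain ⟨c, hc⟩ := MulAction.exists_smul_eq ↥C S₀ S₁
  refine ⟨c, c.2, ?_⟩
  have key : ∀ x : G, x ∈ T₀ ↔ (c : G) * x * (c : G)⁻¹ ∈ T₁ := by
    intro x
    constructor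
    · intro hx
      have h1 : c * ⟨x, hT₀C hx⟩ * c⁻¹ ∈ (S₁ : Subgroup ↥C) := by
        rw [← hc]
        exact ⟨⟨x, hT₀C hx⟩, by rw [SetLike.mem_coe, hS₀]; exact hx, rfl⟩
      rw [hS₁] at h1
      exact h1
    · intro hx
      have hxC : x ∈ C := by
        have := C.mul_mem (C.mul_mem (C.inv_mem c.2) (hT₁C hx)) c.2
        simpa [mul_assoc] using this
      have h1 : c * ⟨x, hxC⟩ * c⁻¹ ∈ (S₁ : Subgroup ↥C) := by rw [hS₁]; exact hx
      rw [← hc] at h1
      obtain ⟨y, hy, hye⟩ := h1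
      have hye' : c * y * c⁻¹ = c * ⟨x, hxC⟩ * c⁻¹ := hye
      rw [mul_left_inj, mul_right_inj] at hye'
      rw [SetLike.mem_coe, hS₀, hye'] at hy
      exact hy
  rw [mem_normalizer_iff]
  intro x
  rw [show (c : G)⁻¹ * m * x * ((c : G)⁻¹ * m)⁻¹ = (c : G)⁻¹ * (m * x * m⁻¹) * c by group, key
    ((c : G)⁻¹ * (m * x * m⁻¹) * c), show
    (c : G) * ((c : G)⁻¹ * (m * x * m⁻¹) * c) * (c : G)⁻¹ = m * x * m⁻¹ by group]
  constructor
  · exact fun hx => ⟨x, hx, rfl⟩
  · rintro ⟨y, hy, hyx⟩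
    have hyx' : m * y * m⁻¹ = m * x * m⁻¹ := hyx
    rw [mul_left_inj, mul_right_inj] at hyx'
    exact hyx' ▸ hy

/-! ### Closure of `U` under conjugation by `X` -/

/-- The subgroup generated by the `X`-conjugates of `U`. -/
def conjClosure (U X : Subgroup G) : Subgroup G :=
  ⨆ x : ↥X, U.map (MulAut.conj (x : G)).toMonoidHom

theorem le_conjClosure (U X : Subgroup G) : U ≤ conjClosure U X := by
  refine le_trans ?_ (le_iSup (fun x : ↥X => U.map (MulAut.conj (x : G)).toMonoidHom) 1)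
  intro u hu
  exact ⟨u, hu, by simp⟩

theorem le_normalizer_conjClosure (U X : Subgroup G) :
    X ≤ normalizer ((conjClosure U X : Subgroup G) : Set G) := by
  refine le_normalizer_of_conj fun x hx v hv => ?_
  have h1 : conjClosure U X ≤ (conjClosure U X).comap (MulAut.conj x).toMonoidHom := by
    refine iSup_le fun y => ?_
    rintro _ ⟨u, hu, rfl⟩
    exact (le_iSup (fun x : ↥X => U.map (MulAut.conj (x : G)).toMonoidHom) (⟨x, hx⟩ * y))
      ⟨u, hu, by simp [mul_assoc]⟩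
  exact h1 hv

theorem conjClosure_le {U X W : Subgroup G} (hUW : U ≤ W) (hn : X ≤ normalizer (W : Set G)) :
    conjClosure U X ≤ W := by
  refine iSup_le fun x => ?_
  rintro _ ⟨u, hu, rfl⟩
  exact conj_mem_of_le_normalizer hn x.2 (hUW hu)

/-- `Ω₁(Z(O_p(X)))`. -/
def omegaCore (p : ℕ) (X : Subgroup G) : Subgroup G :=
  Cfsg.omegaOne p (Cfsg.pCoreOf p X ⊓ centralizer ((Cfsg.pCoreOf p X : Subgroup G) : Set G))

theorem omegaCore_el (p : ℕ) (X : Subgroup G) : Cfsg.IsElementaryAbelian p (omegaCore p X) :=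
  LocPReduced56.omegaOne_elementary (LocPReduced56.inf_centralizer_comm _)

theorem omegaCore_le (p : ℕ) (X : Subgroup G) : omegaCore p X ≤ Cfsg.pCoreOf p X :=
  (LocGroup56.omegaOne_le p _).trans inf_le_left

theorem le_normalizer_omegaOne {X A : Subgroup G} (h : X ≤ normalizer (A : Set G)) :
    X ≤ normalizer ((Cfsg.omegaOne p A : Subgroup G) : Set G) := by
  refine le_normalizer_of_conj fun x hx v hv => ?_
  have h1 : Cfsg.omegaOne p A ≤ (Cfsg.omegaOne p A).comap (MulAut.conj x).toMonoidHom :=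
    (closure_le _).mpr fun y hy => LocGroup56.mem_omegaOne (conj_mem_of_le_normalizer h hx hy.1)
      (by rw [MulEquiv.coe_toMonoidHom, ← map_pow, hy.2, map_one])
  exact h1 hv

theorem le_normalizer_omegaCore (p : ℕ) (X : Subgroup G) :
    X ≤ normalizer ((omegaCore p X : Subgroup G) : Set G) :=
  le_normalizer_omegaOne (le_normalizer_inf (le_normalizer_pCoreOf p X)
    (le_normalizer_centralizer (le_normalizer_pCoreOf p X)))

/-- `X` has characteristic `p`, in ambient terms. -/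
theorem charp_inf {X : Subgroup G}
    (hX : centralizer (Cfsg.pCore p ↥X : Set ↥X) ≤ Cfsg.pCore p ↥X) :
    X ⊓ centralizer ((Cfsg.pCoreOf p X : Subgroup G) : Set G) ≤ Cfsg.pCoreOf p X := by
  rintro x ⟨hx, hxC⟩
  have h1 : (⟨x, hx⟩ : ↥X) ∈ centralizer (Cfsg.pCore p ↥X : Set ↥X) := fun q hq =>
    Subtype.ext (hxC q ⟨q, hq, rfl⟩)
  exact ⟨_, hX h1, rfl⟩

theorem le_omegaCore {U X : Subgroup G}
    (hX : centralizer (Cfsg.pCore p ↥X : Set ↥X) ≤ Cfsg.pCore p ↥X) (hUX : U ≤ X)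
    (hp : ∀ u ∈ U, u ^ p = 1) (hC : U ≤ centralizer ((Cfsg.pCoreOf p X : Subgroup G) : Set G)) :
    U ≤ omegaCore p X :=
  fun u hu => LocGroup56.mem_omegaOne ⟨charp_inf hX ⟨hUX hu, hC hu⟩, hC hu⟩ (hp u hu)

/-- The key criterion: when the closure of `U` under `X` is `p`-reduced. -/
theorem red_closure [Finite G] [Fact p.Prime] (T : Sylow p G) {X U : Subgroup G}
    (hTX : (T : Subgroup G) ≤ X) (hX : centralizer (Cfsg.pCore p ↥X : Set ↥X) ≤ Cfsg.pCore p ↥X)
    (hUX : U ≤ X) (hp : ∀ u ∈ U, u ^ p = 1)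
    (hC : U ≤ centralizer ((Cfsg.pCoreOf p X : Subgroup G) : Set G))
    (hTD : ∀ D : Subgroup G, D ≤ X → X ≤ normalizer (D : Set G) →
      PowMod p D (conjClosure U X) → (T : Subgroup G) ⊓ D ≤ centralizer (U : Set G)) :
    IsRed p (conjClosure U X) X := by
  have hVW : conjClosure U X ≤ omegaCore p X :=
    conjClosure_le (le_omegaCore hX hUX hp hC) (le_normalizer_omegaCore p X)
  refine ⟨conjClosure_le hUX le_normalizer, le_normalizer_conjClosure U X,
    PGroupsBasic.isElementaryAbelian_mono (omegaCore_el p X) hVW, fun D hDX hDn hpow => ?_⟩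
  have hDU : D ≤ centralizer (U : Set G) := by
    have hTnD : (T : Subgroup G) ≤ normalizer (D : Set G) := hTX.trans hDn
    obtain ⟨P, hP⟩ := exists_sylow_inf_eq T hTnD
    intro d hd
    have hd' : (⟨d, hd⟩ : ↥D) ∈ (P : Subgroup ↥D) ⊔ Cfsg.pResidual p ↥D := by
      rw [TransferPResidual.sylow_sup_pResidual]; trivial
    refine (sup_le ?_ ?_ : (P : Subgroup ↥D) ⊔ Cfsg.pResidual p ↥D ≤
      (centralizer (U : Set G)).subgroupOf D) hd'
    · rw [hP]
      exact fun y hy => hTD D hDX hDn hpow ⟨hy, y.2⟩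
    · rw [TransferPResidual.pResidual_le_iff_coprime]
      intro g hg
      obtain ⟨k, hk⟩ := hpow g g.2
      exact LocCoprime56.mem_of_pow_mem (g := (g : G)) (by rwa [Subgroup.orderOf_coe])
        (centralizer_le (SetLike.coe_subset_coe.mpr (le_conjClosure U X)) hk)
  refine le_centralizer_symm (iSup_le fun x => ?_)
  rintro _ ⟨u, hu, rfl⟩ d hd
  have h1 : (x : G)⁻¹ * d * (x : G) ∈ D := by
    simpa using conj_mem_of_le_normalizer hDn (inv_mem x.2) hd
  have h2 : u * ((x : G)⁻¹ * d * (x : G)) = (x : G)⁻¹ * d * (x : G) * u := hDU h1 u hu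
  show d * ((x : G) * u * (x : G)⁻¹) = (x : G) * u * (x : G)⁻¹ * d
  calc d * ((x : G) * u * (x : G)⁻¹)
      = (x : G) * ((x : G)⁻¹ * d * (x : G) * u) * (x : G)⁻¹ := by group
    _ = (x : G) * (u * ((x : G)⁻¹ * d * (x : G))) * (x : G)⁻¹ := by rw [h2]
    _ = _ := by group

/-- `M ≤ X` implies `Y_M ≤ Y_X` when `T ≤ M` and `X` has characteristic `p`. -/
theorem largest_mono [Finite G] [Fact p.Prime] (T : Sylow p G) {M X : Subgroup G}
    (hTM : (T : Subgroup G) ≤ M) (hMX : M ≤ X)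
    (hX : centralizer (Cfsg.pCore p ↥X : Set ↥X) ≤ Cfsg.pCore p ↥X) :
    Cfsg.largestPReducedOf p M ≤ Cfsg.largestPReducedOf p X := by
  have hU := red_largest p M
  set U := Cfsg.largestPReducedOf p M
  have hOX : Cfsg.pCoreOf p X ≤ Cfsg.pCoreOf p M :=
    LocalBasics.le_pCoreOf ((pCoreOf_le_sylow T (hTM.trans hMX)).trans hTM)
      (hMX.trans (le_normalizer_pCoreOf p X)) (isPGroup_pCoreOf p X)
  refine (le_conjClosure U X).trans (le_largest (red_closure T (hTM.trans hMX) hX (hU.1.trans hMX)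
    hU.2.2.1.2 (le_centralizer_symm (hOX.trans hU.pCoreOf_le)) ?_))
  intro D hDX hDn hpow
  have h1 : D ⊓ M ≤ centralizer (U : Set G) :=
    hU.2.2.2 (D ⊓ M) inf_le_right (le_normalizer_inf (hMX.trans hDn) le_normalizer)
      (fun g hg => (hpow.mono (le_conjClosure U X)) g hg.1)
  exact fun d hd => h1 ⟨hd.2, hTM hd.1⟩

/-- `Ω₁(Z(T)) ≤ Y_L`, together with its `L`-closure. -/
theorem omegaCenter_red [Finite G] [Fact p.Prime] (T : Sylow p G) {L : Subgroup G}
    (hTL : (T : Subgroup G) ≤ L) (hL : centralizer (Cfsg.pCore p ↥L : Set ↥L) ≤ Cfsg.pCore p ↥L) :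
    IsRed p (conjClosure (Cfsg.omegaOne p
      ((T : Subgroup G) ⊓ centralizer ((T : Subgroup G) : Set G))) L) L := by
  set Z := Cfsg.omegaOne p ((T : Subgroup G) ⊓ centralizer ((T : Subgroup G) : Set G)) with hZ
  have hle : Z ≤ (T : Subgroup G) ⊓ centralizer ((T : Subgroup G) : Set G) :=
    LocGroup56.omegaOne_le p _
  have hZC : Z ≤ centralizer ((T : Subgroup G) : Set G) := hle.trans inf_le_right
  refine red_closure T hTL hL ((hle.trans inf_le_left).trans hTL)
    (LocPReduced56.omegaOne_elementary (LocPReduced56.inf_centralizer_comm _)).2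
    (hZC.trans (centralizer_le (SetLike.coe_subset_coe.mpr (pCoreOf_le_sylow T hTL)))) ?_
  exact fun D _ _ _ => inf_le_left.trans (le_centralizer_symm hZC)

/-- A subgroup `L*` with the same product with `C(Y_L)` inside `N(T₀)` has `Y_{L*} = Y_L`. -/
theorem largest_eq_normalizer [Finite G] [Fact p.Prime] (T : Sylow p G) {L M : Subgroup G}
    (hTL : (T : Subgroup G) ≤ L) (hTM : (T : Subgroup G) ≤ M)
    (hL : centralizer (Cfsg.pCore p ↥L : Set ↥L) ≤ Cfsg.pCore p ↥L) {T₀ : Subgroup G}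
    (hT₀ : T₀ = (T : Subgroup G) ⊓ centralizer ((Cfsg.largestPReducedOf p L : Subgroup G) : Set G))
    (hfac : M ⊔ centralizer ((Cfsg.largestPReducedOf p L : Subgroup G) : Set G) =
      L ⊔ centralizer ((Cfsg.largestPReducedOf p L : Subgroup G) : Set G))
    {Ls : Subgroup G} (hLs : Ls = M ⊓ normalizer (T₀ : Set G)) :
    Cfsg.largestPReducedOf p Ls = Cfsg.largestPReducedOf p L ∧
      L ⊔ centralizer ((Cfsg.largestPReducedOf p L : Subgroup G) : Set G) =
        Ls ⊔ centralizer ((Cfsg.largestPReducedOf p L : Subgroup G) : Set G) := by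
  have hY := red_largest p L
  set Y := Cfsg.largestPReducedOf p L
  set C := centralizer (Y : Set G)
  have hMN : M ≤ normalizer (Y : Set G) :=
    le_sup_left.trans (hfac.le.trans (sup_le hY.2.1 (centralizer_le_normalizer Y)))
  have hMC : M ≤ normalizer (C : Set G) := le_normalizer_centralizer hMN
  have hTC : (T : Subgroup G) ≤ normalizer (C : Set G) := hTM.trans hMC
  have hT₀T : T₀ ≤ (T : Subgroup G) := hT₀.le.trans inf_le_left
  have hT₀C : T₀ ≤ C := hT₀.le.trans inf_le_right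
  have hT₀p : IsPGroup p ↥T₀ := T.isPGroup'.to_le hT₀T
  have hTnT₀ : (T : Subgroup G) ≤ normalizer (T₀ : Set G) := by
    rw [hT₀]; exact le_normalizer_inf le_normalizer hTC
  have hTLs : (T : Subgroup G) ≤ Ls := hLs ▸ le_inf hTM hTnT₀
  have hprod : L ⊔ C = Ls ⊔ C := by
    refine le_antisymm ?_ (sup_le ((hLs.le.trans inf_le_left).trans (le_sup_left.trans hfac.le))
      le_sup_right)
    rw [← hfac]
    refine sup_le (fun m hm => ?_) le_sup_right
    obtain ⟨c, hc, hcm⟩ := frattini_arg (C := M ⊓ C) (T₀ := T₀) (le_inf (hT₀T.trans hTM) hT₀C) hT₀p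
      (fun P hPC hP hle => hT₀.symm ▸ inf_maximal T hTC (hPC.trans inf_le_right) hP (hT₀ ▸ hle))
      (le_normalizer_inf le_normalizer hMC hm)
    have h1 : c⁻¹ * m ∈ Ls := by rw [hLs]; exact ⟨mul_mem (M.inv_mem hc.1) hm, hcm⟩
    have := mul_mem (mem_sup_right (S := Ls) hc.2) (mem_sup_left (T := C) h1)
    rwa [mul_inv_cancel_left] at this
  have hYT : Y ≤ (T : Subgroup G) :=
    hY.le_pCoreOf.trans (pCoreOf_le_sylow T hTL)
  have hYLs : IsRed p Y Ls :=
    hY.transfer (hYT.trans hTLs) (le_sup_left.trans hprod.ge) (le_sup_left.trans hprod.le)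
  refine ⟨le_antisymm ?_ (le_largest hYLs), hprod⟩
  have hU := red_largest p Ls
  set U := Cfsg.largestPReducedOf p Ls
  have hT₀U : T₀ ≤ centralizer (U : Set G) :=
    hU.le_centralizer hT₀p (hT₀T.trans hTLs) (hLs ▸ inf_le_right)
  have hUT : U ≤ (T : Subgroup G) := hU.le_pCoreOf.trans (pCoreOf_le_sylow T hTLs)
  have hOT₀ : Cfsg.pCoreOf p L ≤ T₀ := hT₀ ▸ le_inf (pCoreOf_le_sylow T hTL) hY.pCoreOf_le
  refine (le_conjClosure U L).trans (le_largest (red_closure T hTL hL (hUT.trans hTL)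
    hU.2.2.1.2 (le_centralizer_symm (hOT₀.trans hT₀U)) ?_))
  intro D hDL hDn hpow
  have hYV : Y ≤ conjClosure U L := (le_largest hYLs).trans (le_conjClosure U L)
  have h1 : D ≤ C := hY.2.2.2 D hDL hDn (hpow.mono hYV)
  exact fun d hd => hT₀U (hT₀ ▸ ⟨hd.1, h1 hd.2⟩)

end Cfsg.Agent.LocalPReduced57
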