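import Mathlib
import Cfsg.Prelude.Def_LocalStructure
import Cfsg.Agent.Lib.LocGroup56
import Cfsg.Agent.Lib.LocalPReduced57

/-!
Groups `K` that are `Y`-minimal with `O_p(K)` the normal closure of `Y ∩ O_p(K)`: the chief
factor `O_p(K) / C_Y(K)` splits as `R ⊕ R^x` for a suitable conjugation.
-/

set_option autoImplicit false

namespace Cfsg.Agent.FrakLSplit43

open Subgroup

/-- The abstract situation reached after factoring out `C_Y(K)`. -/
structure Split {H Q : Type*} [Group H] [Group Q] (p : ℕ) (π : H →* Q) (A R Y : Subgroup H)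
    (x : H) : Prop where
  surj : Function.Surjective π
  ker_eq : π.ker = A
  comm : ∀ a ∈ A, ∀ b ∈ A, a * b = b * a
  exp : ∀ a ∈ A, a ^ p = 1
  RA : R ≤ A
  YR : ∀ y ∈ Y, ∀ r ∈ R, y * r = r * y
  YA : ∀ y ∈ Y, ∀ a ∈ A, y * a * y⁻¹ * a⁻¹ ∈ R
  sup : ∀ a ∈ A, ∃ r ∈ R, ∃ s ∈ R, a = r * (x * s * x⁻¹)
  inf : ∀ r ∈ R, ∀ s ∈ R, r = x * s * x⁻¹ → r = 1
  max : ∀ X : Subgroup H, Y ≤ X → X ≠ ⊤ → X ≤ normalizer (Y : Set H)
  sep : ∀ y ∈ Y, π y ≠ 1 → (π x)⁻¹ * π y * π x ∉ normalizer (Y.map π : Set Q)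
  ne : ∃ y ∈ Y, π y ≠ 1

variable {H Q : Type*} [Group H] [Group Q] {p : ℕ} {π : H →* Q} {A R Y : Subgroup H} {x : H}

theorem map_mem_normalizer {g : H} (hg : g ∈ normalizer (Y : Set H)) :
    π g ∈ normalizer (Y.map π : Set Q) :=
  Subgroup.le_normalizer_map π ⟨g, hg, rfl⟩

theorem Split.normal (h : Split p π A R Y x) : A.Normal := by
  rw [← h.ker_eq]; exact π.normal_ker

theorem Split.apply_eq_one (h : Split p π A R Y x) {a : H} (ha : a ∈ A) : π a = 1 := by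
  rw [← MonoidHom.mem_ker, h.ker_eq]; exact ha

/-- An element of `A` fixed by an element of `Y` outside `A` lies in `R`. -/
theorem Split.fix_mem (h : Split p π A R Y x) {y : H} (hy : y ∈ Y) (hy1 : π y ≠ 1) {a : H}
    (ha : a ∈ A) (hc : y * a = a * y) : a ∈ R := by
  obtain ⟨r, hr, s, hs, rfl⟩ := h.sup a ha
  -- `x⁻¹ y x` fixes `s`
  have h1 : y * (x * s * x⁻¹) = x * s * x⁻¹ * y := by
    have e := h.YR y hy r hr
    refine mul_left_cancel (a := r) ?_
    rw [← mul_assoc, ← e, mul_assoc, hc, mul_assoc]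
  let X : Subgroup H := centralizer {s}
  have hyX : x⁻¹ * y * x ∈ X := by
    rw [mem_centralizer_singleton_iff]
    calc x⁻¹ * y * x * s = x⁻¹ * (y * (x * s * x⁻¹)) * x := by group
      _ = x⁻¹ * (x * s * x⁻¹ * y) * x := by rw [h1]
      _ = s * (x⁻¹ * y * x) := by group
  have hYX : Y ≤ X := fun z hz => mem_centralizer_singleton_iff.mpr (h.YR z hz s hs)
  rcases eq_or_ne X ⊤ with htop | hne
  · have hx : x ∈ X := htop ▸ mem_top x
    rw [mem_centralizer_singleton_iff] at hx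
    have e : x * s * x⁻¹ = s := by rw [hx, mul_inv_cancel_right]
    rw [e]
    exact mul_mem hr hs
  · exact absurd (map_mem_normalizer (π := π) (h.max X hYX hne hyX))
      (by rw [map_mul, map_mul, map_inv]; exact h.sep y hy hy1)

/-- No nontrivial element of `A` is central. -/
theorem Split.central_eq_one (h : Split p π A R Y x) {a : H} (ha : a ∈ A)
    (hc : ∀ g : H, g * a = a * g) : a = 1 := by
  obtain ⟨y, hy, hy1⟩ := h.ne
  have haR := h.fix_mem hy hy1 ha (hc y)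
  exact h.inf a haR a haR (by rw [hc x, mul_inv_cancel_right])

/-- Elements inverted by an involution of `Y` (modulo `A`) act fixed point freely. -/
theorem Split.invert_fixed (h : Split 2 π A R Y x) (hexp : ∀ z ∈ Y, π z ^ 2 = 1) {y g : H}
    (hy : y ∈ Y) (hy1 : π y ≠ 1) (hinv : π y * π g * (π y)⁻¹ = (π g)⁻¹)
    (hg : π g ^ 4 ≠ 1) {a : H} (ha : a ∈ A) (hc : g * a = a * g) : a = 1 := by
  have hAn := h.normal
  -- `y a y⁻¹` is fixed by `g`, since `y g y⁻¹ g ∈ A`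
  have hb : y * a * y⁻¹ ∈ A := hAn.conj_mem a ha y
  have hgb : g * (y * a * y⁻¹) = (y * a * y⁻¹) * g := by
    have hmem : y⁻¹ * g * y * g ∈ A := by
      rw [← h.ker_eq, MonoidHom.mem_ker, map_mul, map_mul, map_mul, map_inv]
      have e : (π y)⁻¹ = π y := inv_eq_of_mul_eq_one_right (by rw [← pow_two, hexp y hy])
      calc (π y)⁻¹ * π g * π y * π g = (π y * π g * (π y)⁻¹) * π g := by rw [e]
        _ = 1 := by rw [hinv, inv_mul_cancel]
    have hw : y⁻¹ * g * y * a = a * (y⁻¹ * g * y) := by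
      have e1 := h.comm _ hmem a ha
      have e2 : g⁻¹ * a = a * g⁻¹ := by
        calc g⁻¹ * a = g⁻¹ * (a * g) * g⁻¹ := by group
          _ = g⁻¹ * (g * a) * g⁻¹ := by rw [hc]
          _ = a * g⁻¹ := by group
      calc y⁻¹ * g * y * a = (y⁻¹ * g * y * g) * (g⁻¹ * a) := by group
        _ = (y⁻¹ * g * y * g) * a * g⁻¹ := by rw [e2]; group
        _ = a * (y⁻¹ * g * y) := by rw [e1]; group
    calc g * (y * a * y⁻¹) = y * (y⁻¹ * g * y * a) * y⁻¹ := by group
      _ = y * (a * (y⁻¹ * g * y)) * y⁻¹ := by rw [hw]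
      _ = (y * a * y⁻¹) * g := by group
  -- a fixed point of both `g` and `y`
  have hsq : ∀ z ∈ A, z * z = 1 := fun z hz => by rw [← pow_two, h.exp z hz]
  have hy2 : y * (y * a * y⁻¹) * y⁻¹ = a := by
    have hmem : y * y ∈ A := by
      rw [← h.ker_eq, MonoidHom.mem_ker, map_mul, ← pow_two, hexp y hy]
    calc y * (y * a * y⁻¹) * y⁻¹ = (y * y * a) * (y * y)⁻¹ := by group
      _ = (a * (y * y)) * (y * y)⁻¹ := by rw [h.comm _ hmem a ha]
      _ = a := mul_inv_cancel_right _ _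
  -- any element of `A` fixed by `g` and `y` is trivial
  have key : ∀ v ∈ A, g * v = v * g → y * v = v * y → v = 1 := by
    intro v hv hgv hyv
    have hvR := h.fix_mem hy hy1 hv hyv
    let X : Subgroup H := centralizer {v}
    have hYX : Y ≤ X := fun z hz => mem_centralizer_singleton_iff.mpr (h.YR z hz v hvR)
    rcases eq_or_ne X ⊤ with htop | hne
    · refine h.central_eq_one hv fun k => ?_
      exact mem_centralizer_singleton_iff.mp (htop ▸ mem_top k : k ∈ X)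
    · exfalso
      have hgN := h.max X hYX hne (mem_centralizer_singleton_iff.mpr hgv : g ∈ X)
      have h2 : π g * π y * (π g)⁻¹ ∈ Y.map π := by
        refine ⟨g * y * g⁻¹, (Subgroup.mem_normalizer_iff.mp hgN y).mp hy, ?_⟩
        rw [map_mul, map_mul, map_inv]
      have h3 : π g * π g * π y ∈ Y.map π := by
        convert h2 using 1
        have e : π y * (π g)⁻¹ = π g * π y := by
          have hyi : (π y)⁻¹ = π y := inv_eq_of_mul_eq_one_right (by rw [← pow_two, hexp y hy])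
          calc π y * (π g)⁻¹ = π y * (π y * π g * (π y)⁻¹) := by rw [hinv]
            _ = (π y * π y) * π g * (π y)⁻¹ := by group
            _ = π g * π y := by rw [← pow_two, hexp y hy, one_mul, hyi]
        rw [mul_assoc (π g) (π y), e, mul_assoc]
      have h4 : π g * π g ∈ Y.map π := by
        simpa using mul_mem h3 (inv_mem (mem_map_of_mem π hy))
      obtain ⟨z, hz, hze⟩ := h4
      have := hexp z hz
      rw [hze, ← pow_two, ← pow_mul] at this
      exact hg this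
  by_cases hab : a * (y * a * y⁻¹) = 1
  · refine key a ha hc ?_
    have : y * a * y⁻¹ = a := by
      refine mul_left_cancel (a := a) ?_
      rw [hab, hsq a ha]
    exact mul_inv_eq_iff_eq_mul.mp this
  · refine absurd (key _ (mul_mem ha hb) ?_ ?_) hab
    · calc g * (a * (y * a * y⁻¹)) = a * (g * (y * a * y⁻¹)) := by
            rw [← mul_assoc, hc, mul_assoc]
        _ = a * (y * a * y⁻¹) * g := by rw [hgb, ← mul_assoc]
    · calc y * (a * (y * a * y⁻¹)) = (y * a * y⁻¹) * (y * (y * a * y⁻¹) * y⁻¹) * y := by group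
        _ = (y * a * y⁻¹) * a * y := by rw [hy2]
        _ = a * (y * a * y⁻¹) * y := by rw [h.comm _ hb a ha]

/-! ### Reaching the abstract situation -/

section Setting

variable {K : Type*} [Group K] (p) (Y : Subgroup K)

/-- The hypotheses on `K = L` that come from `L ∈ 𝔏_G(Y_M)`. -/
structure Setting : Prop where
  elem : Cfsg.IsElementaryAbelian p Y
  norm : Cfsg.pCore p K ≤ normalizer (Y : Set K)
  closure : Cfsg.pCore p K = normalClosure ((Y ⊓ Cfsg.pCore p K : Subgroup K) : Set K)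
  gen : normalClosure (Y : Set K) = ⊤
  proper : normalizer (Y : Set K) ≠ ⊤
  max : ∀ X : Subgroup K, Y ≤ X → X ≠ ⊤ → X ≤ normalizer (Y : Set K)

variable {p} {Y}

/-- `C_Y(K)`. -/
abbrev fixedPart (Y : Subgroup K) : Subgroup K := Y ⊓ centralizer ((⊤ : Subgroup K) : Set K)

theorem mem_fixedPart {Y : Subgroup K} {c : K} :
    c ∈ fixedPart Y ↔ c ∈ Y ∧ ∀ k : K, k * c = c * k := by
  simp [fixedPart, Subgroup.mem_inf, mem_centralizer_iff]

instance fixedPart_normal (Y : Subgroup K) : (fixedPart Y).Normal :=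
  ⟨fun c hc k => by
    have := (mem_fixedPart.mp hc).2 k
    rwa [this, mul_inv_cancel_right]⟩

theorem Setting.comm_Y (S : Setting p Y) {a b : K} (ha : a ∈ Y) (hb : b ∈ Y) : a * b = b * a :=
  LocPReduced56.comm_of_elementary S.elem ha hb

theorem Setting.fixedPart_le (S : Setting p Y) : fixedPart Y ≤ Cfsg.pCore p K :=
  LocGroup56.le_pCore inferInstance
    ((LocPReduced56.isPGroup_of_elementary S.elem).to_le inf_le_left)

theorem Setting.exists_not_le (S : Setting p Y) :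
    ∃ g : K, ¬ Y.map (MulAut.conj g).toMonoidHom ≤ normalizer (Y : Set K) := by
  by_contra hne
  push Not at hne
  refine S.proper (top_le_iff.mp ?_)
  rw [← S.gen]
  refine (closure_le _).mpr fun k hk => ?_
  obtain ⟨y, hy, hc⟩ := Group.mem_conjugatesOfSet_iff.mp hk
  obtain ⟨g, rfl⟩ := isConj_iff.mp hc
  exact hne g ⟨y, hy, rfl⟩

variable {Q : Type*} [Group Q] {π : K →* Q} {x : K}

theorem Setting.gen_two (S : Setting p Y) (hne : ∃ y ∈ Y, π y ≠ 1)
    (hsep : ∀ y ∈ Y, π y ≠ 1 → (π x)⁻¹ * π y * π x ∉ normalizer (Y.map π : Set Q))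
    {X : Subgroup K} (h1 : Y ≤ X) (h2 : ∀ y ∈ Y, x * y * x⁻¹ ∈ X) : X = ⊤ := by
  by_contra hX
  -- move `X` by `x⁻¹`
  let X' : Subgroup K := X.comap (MulAut.conj x).toMonoidHom
  have hX' : X' ≠ ⊤ := fun e => hX (by
    have := congrArg (Subgroup.map (MulAut.conj x).toMonoidHom) e
    rwa [map_comap_eq_self_of_surjective (MulAut.conj x).surjective,
      map_top_of_surjective _ (MulAut.conj x).surjective] at this)
  obtain ⟨y, hy, hy1⟩ := hne
  have hmem : x⁻¹ * y * x ∈ X' := by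
    show x * (x⁻¹ * y * x) * x⁻¹ ∈ X
    rw [show x * (x⁻¹ * y * x) * x⁻¹ = y by group]
    exact h1 hy
  have := Subgroup.le_normalizer_map π ⟨_, S.max X' (fun z hz => h2 z hz) hX' hmem, rfl⟩
  rw [map_mul, map_mul, map_inv] at this
  exact hsep y hy hy1 this

theorem Setting.split (S : Setting p Y) [Finite K] (hsurj : Function.Surjective π)
    (hker : π.ker = Cfsg.pCore p K) (hne : ∃ y ∈ Y, π y ≠ 1)
    (hsep : ∀ y ∈ Y, π y ≠ 1 → (π x)⁻¹ * π y * π x ∉ normalizer (Y.map π : Set Q)) :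
    Split p (QuotientGroup.lift (fixedPart Y) π (hker ▸ S.fixedPart_le))
      ((Cfsg.pCore p K).map (QuotientGroup.mk' (fixedPart Y)))
      ((Y ⊓ Cfsg.pCore p K).map (QuotientGroup.mk' (fixedPart Y)))
      (Y.map (QuotientGroup.mk' (fixedPart Y))) (QuotientGroup.mk' (fixedPart Y) x) := by
  set A := Cfsg.pCore p K with hA
  set R : Subgroup K := Y ⊓ A with hR
  set q := QuotientGroup.mk' (fixedPart Y) with hq
  have hqs : Function.Surjective q := QuotientGroup.mk'_surjective _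
  have hAn : A.Normal := hker ▸ π.normal_ker
  have hYAR : ∀ y ∈ Y, ∀ a ∈ A, y * a * y⁻¹ * a⁻¹ ∈ R := by
    intro y hy a ha
    refine Subgroup.mem_inf.mpr ⟨?_, mul_mem (hAn.conj_mem a ha y) (inv_mem ha)⟩
    rw [show y * a * y⁻¹ * a⁻¹ = y * (a * y⁻¹ * a⁻¹) by group]
    exact Y.mul_mem hy ((Subgroup.mem_normalizer_iff.mp (S.norm ha) y⁻¹).mp (Y.inv_mem hy))
  have hAR : ∀ a ∈ A, ∀ r ∈ R, a * r * a⁻¹ ∈ R := fun a ha r hr =>
    ⟨(Subgroup.mem_normalizer_iff.mp (S.norm ha) r).mp hr.1, hAn.conj_mem r hr.2 a⟩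
  -- `R^x`
  set R' : Subgroup K := R.map (MulAut.conj x).toMonoidHom with hR'
  have hR'A : R' ≤ A := by
    rintro _ ⟨r, hr, rfl⟩
    exact hAn.conj_mem r hr.2 x
  have hxR : ∀ r ∈ R, x * r * x⁻¹ ∈ R' := fun r hr => ⟨r, hr, rfl⟩
  have hAR' : ∀ a ∈ A, ∀ s ∈ R', a * s * a⁻¹ ∈ R' := by
    rintro a ha _ ⟨r, hr, rfl⟩
    show a * (x * r * x⁻¹) * a⁻¹ ∈ R'
    have e : a * (x * r * x⁻¹) * a⁻¹ =
        x * ((x⁻¹ * a * x) * r * (x⁻¹ * a * x)⁻¹) * x⁻¹ := by group
    rw [e]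
    refine hxR _ (hAR _ ?_ r hr)
    simpa using hAn.conj_mem a ha x⁻¹
  have hRR' : R ≤ normalizer (R' : Set K) := by
    intro r hr
    rw [Subgroup.mem_normalizer_iff]
    refine fun s => ⟨fun hs => hAR' r hr.2 s hs, fun hs => ?_⟩
    have := hAR' r⁻¹ (inv_mem hr.2) _ hs
    simpa [mul_assoc] using this
  set W := R ⊔ R' with hW
  have hWA : W ≤ A := sup_le inf_le_right hR'A
  have hnorm : ∀ y ∈ Y, ∀ w ∈ W, y * w * y⁻¹ ∈ W := by
    intro y hy w hw
    rw [show y * w * y⁻¹ = (y * w * y⁻¹ * w⁻¹) * w by group]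
    exact mul_mem (mem_sup_left (hYAR y hy w (hWA hw))) hw
  have hnorm' : ∀ y ∈ Y, ∀ w ∈ W, (x * y * x⁻¹) * w * (x * y * x⁻¹)⁻¹ ∈ W := by
    intro y hy w hw
    have ha : x⁻¹ * w * x ∈ A := by simpa using hAn.conj_mem w (hWA hw) x⁻¹
    rw [show (x * y * x⁻¹) * w * (x * y * x⁻¹)⁻¹ =
      (x * (y * (x⁻¹ * w * x) * y⁻¹ * (x⁻¹ * w * x)⁻¹) * x⁻¹) * w by group]
    exact mul_mem (mem_sup_right (hxR _ (hYAR y hy _ ha))) hw
  have hNW : normalizer (W : Set K) = ⊤ := by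
    refine S.gen_two hne hsep (fun y hy => ?_) (fun y hy => ?_)
    · rw [Subgroup.mem_normalizer_iff]
      refine fun w => ⟨fun hw => hnorm y hy w hw, fun hw => ?_⟩
      have := hnorm y⁻¹ (inv_mem hy) _ hw
      simpa [mul_assoc] using this
    · rw [Subgroup.mem_normalizer_iff]
      refine fun w => ⟨fun hw => hnorm' y hy w hw, fun hw => ?_⟩
      have h' := hnorm' y⁻¹ (inv_mem hy) _ hw
      rw [show x * y⁻¹ * x⁻¹ * (x * y * x⁻¹ * w * (x * y * x⁻¹)⁻¹) * (x * y⁻¹ * x⁻¹)⁻¹ = w by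
        group] at h'
      exact h'
  have hWn : W.Normal := normalizer_eq_top_iff.mp hNW
  have hAW : A ≤ W := by
    rw [hA, S.closure, ← hA]
    exact normalClosure_le_normal (fun r hr => (mem_sup_left hr : r ∈ R ⊔ R'))
  have hint : ∀ r ∈ R, r ∈ R' → r ∈ fixedPart Y := by
    intro r hr hr'
    obtain ⟨s, hs, rfl⟩ := hr'
    refine mem_fixedPart.mpr ⟨hr.1, fun k => ?_⟩
    have := S.gen_two (X := centralizer {(MulAut.conj x).toMonoidHom s}) hne hsep
      (fun y hy => mem_centralizer_singleton_iff.mpr (S.comm_Y hy hr.1))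
      (fun y hy => by
        rw [mem_centralizer_singleton_iff]
        show x * y * x⁻¹ * (x * s * x⁻¹) = x * s * x⁻¹ * (x * y * x⁻¹)
        calc x * y * x⁻¹ * (x * s * x⁻¹) = x * (y * s) * x⁻¹ := by group
          _ = x * (s * y) * x⁻¹ := by rw [S.comm_Y hy hs.1]
          _ = _ := by group)
    exact mem_centralizer_singleton_iff.mp
      (this ▸ mem_top k : k ∈ centralizer {(MulAut.conj x).toMonoidHom s})
  have hdec : ∀ a ∈ A, ∃ r ∈ R, ∃ s ∈ R, a = r * (x * s * x⁻¹) := by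
    intro a ha
    obtain ⟨r, hr, w, ⟨s, hs, rfl⟩, e⟩ :=
      LocalPReduced57.exists_mul_of_mem_sup hRR' (hAW ha)
    exact ⟨r, hr, s, hs, e⟩
  -- commutation modulo `C`
  have hcom : ∀ r ∈ R, ∀ s ∈ R', q r * q s = q s * q r := by
    intro r hr s hs
    have hc : r * s * r⁻¹ * s⁻¹ ∈ fixedPart Y := by
      refine hint _ ?_ (mul_mem (hAR' r hr.2 s hs) (inv_mem hs))
      rw [show r * s * r⁻¹ * s⁻¹ = r * (s * r⁻¹ * s⁻¹) by group]
      exact mul_mem hr (hAR s (hR'A hs) _ (inv_mem hr))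
    have h1 : q (r * s * r⁻¹ * s⁻¹) = 1 := (QuotientGroup.eq_one_iff _).mpr hc
    rw [map_mul, map_mul, map_mul, map_inv, map_inv] at h1
    exact commutatorElement_eq_one_iff_mul_comm.mp h1
  have hcomR : ∀ r ∈ R, ∀ s ∈ R, q r * q s = q s * q r := fun r hr s hs => by
    rw [← map_mul, ← map_mul, S.comm_Y hr.1 hs.1]
  have hcomR' : ∀ r ∈ R', ∀ s ∈ R', q r * q s = q s * q r := by
    rintro _ ⟨r, hr, rfl⟩ _ ⟨s, hs, rfl⟩
    rw [← map_mul, ← map_mul, ← map_mul, ← map_mul, S.comm_Y hr.1 hs.1]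
  have hdec' : ∀ a ∈ A, ∃ r ∈ R, ∃ s ∈ R', a = r * s := fun a ha => by
    obtain ⟨r, hr, s, hs, e⟩ := hdec a ha
    exact ⟨r, hr, _, hxR s hs, e⟩
  refine ⟨?_, ?_, ?_, ?_, map_mono inf_le_right, ?_, ?_, ?_, ?_, ?_, ?_, ?_⟩
  · intro z
    obtain ⟨k, rfl⟩ := hsurj z
    exact ⟨q k, rfl⟩
  · rw [QuotientGroup.ker_lift, hker]
  · rintro _ ⟨a, ha, rfl⟩ _ ⟨b, hb, rfl⟩
    obtain ⟨r, hr, s, hs, rfl⟩ := hdec' a ha
    obtain ⟨r', hr', s', hs', rfl⟩ := hdec' b hb
    have c1 : Commute (q r * q s) (q r' * q s') := by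
      refine Commute.mul_left (Commute.mul_right ?_ ?_) (Commute.mul_right ?_ ?_)
      · exact hcomR r hr r' hr'
      · exact hcom r hr s' hs'
      · exact (hcom r' hr' s hs).symm
      · exact hcomR' s hs s' hs'
    simpa using c1.eq
  · rintro _ ⟨a, ha, rfl⟩
    obtain ⟨r, hr, s, hs, rfl⟩ := hdec' a ha
    have c1 : Commute (q r) (q s) := hcom r hr s hs
    rw [map_mul, c1.mul_pow, ← map_pow, ← map_pow, S.elem.2 r hr.1]
    obtain ⟨t, ht, rfl⟩ := hs
    rw [← map_pow ((MulAut.conj x).toMonoidHom), S.elem.2 t ht.1]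
    simp
  · rintro _ ⟨y, hy, rfl⟩ _ ⟨r, hr, rfl⟩
    rw [← map_mul, ← map_mul, S.comm_Y hy hr.1]
  · rintro _ ⟨y, hy, rfl⟩ _ ⟨a, ha, rfl⟩
    exact ⟨_, hYAR y hy a ha, by simp⟩
  · rintro _ ⟨a, ha, rfl⟩
    obtain ⟨r, hr, s, hs, rfl⟩ := hdec a ha
    exact ⟨_, ⟨r, hr, rfl⟩, _, ⟨s, hs, rfl⟩, by simp⟩
  · rintro _ ⟨r, hr, rfl⟩ _ ⟨s, hs, rfl⟩ e
    have hc : (x * s * x⁻¹)⁻¹ * r ∈ fixedPart Y := by
      rw [← QuotientGroup.eq_one_iff]
      show q ((x * s * x⁻¹)⁻¹ * r) = 1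
      rw [map_mul, map_inv, e, ← map_inv q x, ← map_mul, ← map_mul, inv_mul_cancel]
    have hc2 := (mem_fixedPart.mp hc).2 (x * s * x⁻¹)
    rw [mul_inv_cancel_left] at hc2
    have hrR' : r ∈ R' := by
      have h' : x⁻¹ * ((x * s * x⁻¹)⁻¹ * r) * x = (x * s * x⁻¹)⁻¹ * r := by
        rw [mul_assoc, ← (mem_fixedPart.mp hc).2 x, inv_mul_cancel_left]
      have h2 : r = x * (s * (x⁻¹ * ((x * s * x⁻¹)⁻¹ * r) * x)) * x⁻¹ := by group
      rw [h2]
      refine hxR _ (mul_mem hs ?_)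
      rw [h']
      exact ⟨(mem_fixedPart.mp hc).1, S.fixedPart_le hc⟩
    exact (QuotientGroup.eq_one_iff r).mpr (hint r hr hrR')
  · intro X hX hXne g hg
    obtain ⟨k, rfl⟩ := hqs g
    have hne' : X.comap q ≠ ⊤ := fun e => hXne (by
      have := congrArg (Subgroup.map q) e
      rwa [map_comap_eq_self_of_surjective hqs, map_top_of_surjective _ hqs] at this)
    exact Subgroup.le_normalizer_map q
      ⟨k, S.max _ (fun y hy => hX ⟨y, hy, rfl⟩) hne' hg, rfl⟩
  · rintro _ ⟨y, hy, rfl⟩ hy1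
    have e : ((Y.map q).map (QuotientGroup.lift (fixedPart Y) π (hker ▸ S.fixedPart_le))) =
        Y.map π := by
      rw [Subgroup.map_map]
      rfl
    rw [e]
    exact hsep y hy hy1
  · obtain ⟨y, hy, hy1⟩ := hne
    exact ⟨q y, ⟨y, hy, rfl⟩, hy1⟩

end Setting

end Cfsg.Agent.FrakLSplit43
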