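import Mathlib
import Cfsg.Agent.Lib.FrakLSplit43
import Cfsg.Agent.Lib.PSL2Sylow

/-!
`SL(2, q)` acting on an abelian group `E = E₀ ⊕ w E₀` with `E₀` the fixed space of the upper
unitriangular group and commutators of that group inside `E₀`: only elements of trace `2` have
fixed points.
-/

set_option autoImplicit false

namespace Cfsg.Agent.FrakLNatural43

open Matrix Cfsg.Agent.PSL2Elements
open scoped MatrixGroups

variable {F : Type*} [Field F]

theorem d_eq_prod (x : Fˣ) :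
    d x = u (x : F) * w * u ((x : F)⁻¹) * w⁻¹ * u (x : F) * w := by
  obtain ⟨h1, h2, h3, h4⟩ := inv_apply (w : SL(2, F))
  have hx : (x : F) ≠ 0 := x.ne_zero
  apply ext2 <;> simp only [mul_apply2, h1, h2, h3, h4] <;> simp [d, u, w, mul_inv_cancel₀ hx]

theorem eq_bruhat (g : SL(2, F)) :
    (∃ c : Fˣ, g = u (g.1 0 0 / c) * w * d c * u (g.1 1 1 / c)) ∨
      ∃ a : Fˣ, ∃ t : F, g = d a * u t := by
  have hdet := det_eq g
  by_cases hc : g.1 1 0 = 0
  · rw [hc, mul_zero, sub_zero] at hdet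
    refine Or.inr ⟨Units.mk0 _ (left_ne_zero_of_mul_eq_one hdet), g.1 0 1 / g.1 0 0, ?_⟩
    have ha := left_ne_zero_of_mul_eq_one hdet
    apply ext2 <;> simp only [mul_apply2] <;> simp [d, u, hc]
    · rw [mul_div_cancel₀ _ ha]
    · exact eq_inv_of_mul_eq_one_right hdet
  · refine Or.inl ⟨Units.mk0 _ hc, ?_⟩
    apply ext2 <;> simp only [mul_apply2] <;> simp [d, u, w]
    · rw [div_mul_cancel₀ _ hc]
    · field_simp
      linear_combination (-1 : F) * hdet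
    · rw [mul_div_cancel₀ _ hc]

variable {E : Type*} [AddCommGroup E]

/-- The hypotheses. -/
structure IsNat (ρ : SL(2, F) →* AddMonoid.End E) (E₀ : AddSubgroup E) : Prop where
  fix : ∀ t : F, ∀ e ∈ E₀, ρ (u t) e = e
  comm : ∀ t : F, ∀ e : E, ρ (u t) e - e ∈ E₀
  mem : ∀ e : E, (∀ t : F, ρ (u t) e = e) → e ∈ E₀
  dec : ∀ e : E, ∃ a ∈ E₀, ∃ b ∈ E₀, e = a + ρ w b
  inf : ∀ a ∈ E₀, ∀ b ∈ E₀, a = ρ w b → a = 0

/-- The scalar action on `E₀`. -/
def sc (ρ : SL(2, F) →* AddMonoid.End E) (t : F) (b : E) : E := ρ (u t) (ρ w b) - ρ w b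

variable {ρ : SL(2, F) →* AddMonoid.End E} {E₀ : AddSubgroup E}

theorem act_mul (g h : SL(2, F)) (e : E) : ρ (g * h) e = ρ g (ρ h e) := by
  rw [map_mul]; rfl

theorem act_one (e : E) : ρ 1 e = e := by
  rw [map_one]; rfl

theorem act_inv (g : SL(2, F)) (e : E) : ρ g (ρ g⁻¹ e) = e := by
  rw [← act_mul, mul_inv_cancel, act_one]

theorem IsNat.uniq (h : IsNat ρ E₀) {a b a' b' : E} (ha : a ∈ E₀) (hb : b ∈ E₀) (ha' : a' ∈ E₀)
    (hb' : b' ∈ E₀) (e : a + ρ w b = a' + ρ w b') : a = a' ∧ b = b' := by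
  have h1 : a - a' = ρ w (b' - b) := by
    rw [map_sub, sub_eq_sub_iff_add_eq_add, e, add_comm]
  have h2 := h.inf _ (sub_mem ha ha') _ (sub_mem hb' hb) h1
  refine ⟨sub_eq_zero.mp h2, ?_⟩
  rw [h2] at h1
  have h3 : ρ w⁻¹ (ρ w (b' - b)) = 0 := by rw [← h1, map_zero]
  rw [← act_mul, inv_mul_cancel, act_one] at h3
  exact (sub_eq_zero.mp h3).symm

theorem IsNat.sc_mem (h : IsNat ρ E₀) (t : F) (b : E) : sc ρ t b ∈ E₀ := h.comm t _

theorem sc_add_right (t : F) (a b : E) : sc ρ t (a + b) = sc ρ t a + sc ρ t b := by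
  simp only [sc, map_add]; abel

theorem sc_zero_right (t : F) : sc ρ t (0 : E) = 0 := by
  simp only [sc, map_zero, sub_self]

theorem sc_zero_left (b : E) : sc ρ 0 b = 0 := by
  simp only [sc, u_zero, act_one, sub_self]

theorem IsNat.sc_add_left (h : IsNat ρ E₀) (s t : F) (b : E) :
    sc ρ (s + t) b = sc ρ s b + sc ρ t b := by
  have e : ρ (u t) (ρ w b) = sc ρ t b + ρ w b := by simp [sc]
  have e2 : sc ρ (s + t) b = ρ (u s) (ρ (u t) (ρ w b)) - ρ w b := by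
    rw [sc, ← u_mul, act_mul]
  rw [e2, e, map_add, h.fix s _ (h.sc_mem t b)]
  simp only [sc]
  abel

theorem IsNat.d_mem (h : IsNat ρ E₀) (x : Fˣ) {a : E} (ha : a ∈ E₀) : ρ (d x) a ∈ E₀ := by
  refine h.mem _ fun t => ?_
  have e : u t * d x = d x * u (((x⁻¹ : Fˣ) : F) ^ 2 * t) := by
    have hx : (x : F) ≠ 0 := x.ne_zero
    apply ext2 <;> simp only [mul_apply2] <;> simp [d, u]
    field_simp
  rw [← act_mul, e, act_mul, h.fix _ a ha]

theorem d_neg_one : d (-1 : Fˣ) = -1 := by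
  apply ext2 <;> simp [d, inv_neg]

theorem IsNat.neg_one_mem (h : IsNat ρ E₀) {a : E} (ha : a ∈ E₀) : ρ (-1) a ∈ E₀ :=
  d_neg_one (F := F) ▸ h.d_mem (-1) ha

theorem IsNat.d_apply (h : IsNat ρ E₀) (x : Fˣ) {a : E} (ha : a ∈ E₀) :
    ρ (d x) a = sc ρ (x : F) a := by
  set f := sc ρ (x : F) with hf
  set f' := sc ρ ((x : F)⁻¹) with hf'
  have hmove : ∀ (t : F) (b : E), ρ (u t) (ρ w b) = sc ρ t b + ρ w b := fun t b => by simp [sc]
  have hww : (w : SL(2, F)) * w = -1 := w_sq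
  have hw' : (w : SL(2, F))⁻¹ = w * (-1) := by
    refine inv_eq_of_mul_eq_one_right ?_
    rw [← mul_assoc, hww]
    simp
  have hz : ∀ b : E, ρ (-1) (ρ (-1) b) = b := fun b => by
    rw [← act_mul]; simp [act_one]
  have hzw : ∀ b : E, ρ w (ρ w b) = ρ (-1) b := fun b => by rw [← act_mul, hww]
  have hfz : ρ (-1) (f a) ∈ E₀ := h.neg_one_mem (h.sc_mem _ a)
  set c := ρ (-1) (f a) with hc
  have e1 : ρ w⁻¹ (f a + ρ w a) = a + ρ w c := by
    rw [map_add, ← act_mul w⁻¹ w, inv_mul_cancel, act_one, hw', act_mul, add_comm]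
  have e2 : ρ (u ((x : F)⁻¹)) (a + ρ w c) = (a + f' c) + ρ w c := by
    rw [map_add, h.fix _ a ha, hmove, ← add_assoc]
  have e3 : ρ w ((a + f' c) + ρ w c) = f a + ρ w (a + f' c) := by
    rw [map_add, hzw, hc, hz, add_comm]
  have key : ρ (d x) a = (f a + f (a + f' c)) + ρ w (a + f' c) := by
    rw [d_eq_prod, act_mul, act_mul, act_mul, act_mul, act_mul,
      show ρ (u (x : F)) (ρ w a) = f a + ρ w a from hmove _ a, e1, e2, e3, map_add,
      h.fix _ (f a) (h.sc_mem _ a), hmove]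
    abel
  have h0 := h.uniq (h.d_mem x ha) (zero_mem _) (add_mem (h.sc_mem _ a) (h.sc_mem _ _))
    (add_mem ha (h.sc_mem _ c)) (by rw [← key, map_zero, add_zero])
  rw [h0.1, ← h0.2, hf, sc_zero_right, add_zero]

theorem IsNat.sc_mul (h : IsNat ρ E₀) (s t : F) {a : E} (ha : a ∈ E₀) :
    sc ρ (s * t) a = sc ρ s (sc ρ t a) := by
  rcases eq_or_ne s 0 with rfl | hs
  · simp [sc_zero_left]
  rcases eq_or_ne t 0 with rfl | ht
  · simp [sc_zero_left, sc_zero_right]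
  · have e := h.d_apply (Units.mk0 s hs * Units.mk0 t ht) ha
    rw [← d_mul, act_mul, h.d_apply _ ha, h.d_apply _ (h.sc_mem _ a)] at e
    simpa using e.symm

theorem IsNat.sc_one (h : IsNat ρ E₀) {a : E} (ha : a ∈ E₀) : sc ρ 1 a = a := by
  have e := h.d_apply 1 ha
  rw [d_one, act_one] at e
  simpa using e.symm

theorem IsNat.sc_neg_one (h : IsNat ρ E₀) {a : E} (ha : a ∈ E₀) : sc ρ (-1) a = -a := by
  have e := h.sc_add_left (-1) 1 a
  rw [neg_add_cancel, sc_zero_left, h.sc_one ha] at e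
  exact eq_neg_of_add_eq_zero_left e.symm

/-- `g` acts by its matrix. -/
def ActsByMatrix (ρ : SL(2, F) →* AddMonoid.End E) (E₀ : AddSubgroup E) (g : SL(2, F)) : Prop :=
  ∀ a ∈ E₀, ∀ b ∈ E₀, ρ g (a + ρ w b) =
    (sc ρ (g.1 0 0) a + sc ρ (g.1 0 1) b) + ρ w (sc ρ (g.1 1 0) a + sc ρ (g.1 1 1) b)

theorem IsNat.acts_mul (h : IsNat ρ E₀) {g k : SL(2, F)} (hg : ActsByMatrix ρ E₀ g)
    (hk : ActsByMatrix ρ E₀ k) : ActsByMatrix ρ E₀ (g * k) := by
  intro a ha b hb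
  rw [act_mul, hk a ha b hb,
    hg _ (add_mem (h.sc_mem _ a) (h.sc_mem _ b)) _ (add_mem (h.sc_mem _ a) (h.sc_mem _ b))]
  simp only [mul_apply2, h.sc_add_left, h.sc_mul _ _ ha, h.sc_mul _ _ hb, sc_add_right]
  congr 1
  · abel
  · congr 1; abel

theorem IsNat.acts_u (h : IsNat ρ E₀) (t : F) : ActsByMatrix ρ E₀ (u t) := by
  intro a ha b hb
  rw [map_add, h.fix t a ha,
    show ρ (u t) (ρ w b) = sc ρ t b + ρ w b by simp [sc]]
  simp [u, h.sc_one ha, h.sc_one hb, sc_zero_left]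
  abel

theorem IsNat.acts_w (h : IsNat ρ E₀) : ActsByMatrix ρ E₀ (w : SL(2, F)) := by
  intro a ha b hb
  have e : ρ w (ρ w b) = -b := by
    rw [← act_mul, w_sq, ← d_neg_one, h.d_apply _ hb]
    simpa using h.sc_neg_one hb
  rw [map_add, e]
  simp [w, h.sc_one ha, h.sc_neg_one hb, sc_zero_left]
  abel

theorem IsNat.acts (h : IsNat ρ E₀) (g : SL(2, F)) : ActsByMatrix ρ E₀ g := by
  have hd : ∀ x : Fˣ, ActsByMatrix ρ E₀ (d x) := fun x => by
    have hwi : ActsByMatrix ρ E₀ (w : SL(2, F))⁻¹ := by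
      have e : (w : SL(2, F))⁻¹ = w * w * w := by
        refine inv_eq_of_mul_eq_one_right ?_
        rw [← mul_assoc, ← mul_assoc, w_sq, mul_assoc, w_sq]
        simp
      rw [e]
      exact h.acts_mul (h.acts_mul h.acts_w h.acts_w) h.acts_w
    rw [d_eq_prod]
    exact h.acts_mul (h.acts_mul (h.acts_mul (h.acts_mul (h.acts_mul (h.acts_u _) h.acts_w)
      (h.acts_u _)) hwi) (h.acts_u _)) h.acts_w
  rcases eq_bruhat g with ⟨c, e⟩ | ⟨a, t, e⟩ <;> rw [e]
  · exact h.acts_mul (h.acts_mul (h.acts_mul (h.acts_u _) h.acts_w) (hd _)) (h.acts_u _)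
  · exact h.acts_mul (hd _) (h.acts_u _)

theorem IsNat.fixed_eq_zero (h : IsNat ρ E₀) {g : SL(2, F)} (hg : tr g ≠ 2) {e : E}
    (he : ρ g e = e) : e = 0 := by
  obtain ⟨a, ha, b, hb, rfl⟩ := h.dec e
  rw [h.acts g a ha b hb] at he
  obtain ⟨h1, h2⟩ := h.uniq (add_mem (h.sc_mem _ a) (h.sc_mem _ b))
    (add_mem (h.sc_mem _ a) (h.sc_mem _ b)) ha hb he
  set D := (g.1 0 0 - 1) * (g.1 1 1 - 1) - g.1 0 1 * g.1 1 0 with hD
  have hD0 : D ≠ 0 := fun e => hg (by
    rw [tr]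
    linear_combination det_eq g - hD.symm.trans e)
  have hsub : ∀ s t : F, ∀ v : E, sc ρ (s - t) v = sc ρ s v - sc ρ t v := fun s t v => by
    rw [eq_sub_iff_add_eq, ← h.sc_add_left, sub_add_cancel]
  have k1 : sc ρ (g.1 0 0 - 1) a + sc ρ (g.1 0 1) b = 0 := by
    rw [hsub, h.sc_one ha, sub_add_eq_add_sub, h1, sub_self]
  have k2 : sc ρ (g.1 1 0) a + sc ρ (g.1 1 1 - 1) b = 0 := by
    rw [hsub, h.sc_one hb, ← add_sub_assoc, h2, sub_self]
  have cancel : ∀ v ∈ E₀, sc ρ D v = 0 → v = 0 := fun v hv e => by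
    rw [← h.sc_one hv, ← inv_mul_cancel₀ hD0, h.sc_mul _ _ hv, e, sc_zero_right]
  have ha0 : a = 0 := by
    refine cancel a ha ?_
    have e1 := congrArg (sc ρ (g.1 1 1 - 1)) k1
    have e2 := congrArg (sc ρ (g.1 0 1)) k2
    rw [sc_add_right, sc_zero_right, ← h.sc_mul _ _ ha, ← h.sc_mul _ _ hb] at e1 e2
    rw [mul_comm (g.1 1 1 - 1) (g.1 0 1)] at e1
    rw [hD, hsub, mul_comm (g.1 0 0 - 1)]
    rw [eq_neg_of_add_eq_zero_left e1, eq_neg_of_add_eq_zero_left e2, sub_self]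
  have hb0 : b = 0 := by
    refine cancel b hb ?_
    have e1 := congrArg (sc ρ (g.1 1 0)) k1
    have e2 := congrArg (sc ρ (g.1 0 0 - 1)) k2
    rw [sc_add_right, sc_zero_right, ← h.sc_mul _ _ ha, ← h.sc_mul _ _ hb] at e1 e2
    rw [mul_comm (g.1 0 0 - 1) (g.1 1 0)] at e2
    rw [hD, hsub, mul_comm (g.1 0 1)]
    rw [eq_neg_of_add_eq_zero_right e1, eq_neg_of_add_eq_zero_right e2, sub_self]
  rw [ha0, hb0, map_zero, add_zero]

/-- A monoid automorphism as an additive endomorphism. -/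
def toEnd (M : Type*) [CommGroup M] : MulAut M →* AddMonoid.End (Additive M) where
  toFun f :=
    { toFun := fun a => Additive.ofMul (f a.toMul)
      map_zero' := congrArg Additive.ofMul (map_one f)
      map_add' := fun a b => congrArg Additive.ofMul (map_mul f a.toMul b.toMul) }
  map_one' := rfl
  map_mul' _ _ := rfl

/-- Fixed-point freeness in the split situation. -/
theorem fixed_sl2 {H : Type*} [Group H] {p : ℕ} {π : H →* SL(2, F)} {A R Y : Subgroup H} {x : H}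
    (h : FrakLSplit43.Split p π A R Y x) (hY : Y.map π = PSL2Sylow.uSub F) (hx : π x = w) {g : H}
    (hg : tr (π g) ≠ 2) {a : H} (ha : a ∈ A) (hc : g * a = a * g) : a = 1 := by
  have hAn := h.normal
  let iM : CommGroup ↥A :=
    { (inferInstance : Group ↥A) with mul_comm := fun s t => Subtype.ext (h.comm s s.2 t t.2) }
  let κ : H →* MulAut ↥A := MulAut.conjNormal
  have hker : π.ker ≤ κ.ker := by
    rw [h.ker_eq]
    intro k hk
    rw [MonoidHom.mem_ker]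
    ext v
    show k * (v : H) * k⁻¹ = v
    rw [h.comm k hk v v.2, mul_inv_cancel_right]
  let ρ : SL(2, F) →* AddMonoid.End (Additive ↥A) :=
    (toEnd ↥A).comp (MonoidHom.liftOfSurjective π h.surj ⟨κ, hker⟩)
  have hρ : ∀ (k : H) (e : Additive ↥A),
      ((ρ (π k) e).toMul : H) = k * (e.toMul : H) * k⁻¹ := fun k e => by
    have e1 : MonoidHom.liftOfSurjective π h.surj ⟨κ, hker⟩ (π k) = κ k :=
      MonoidHom.liftOfRightInverse_comp_apply π _ _ ⟨κ, hker⟩ k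
    show (((MonoidHom.liftOfSurjective π h.surj ⟨κ, hker⟩ (π k)) e.toMul : ↥A) : H) = _
    rw [e1]
    rfl
  let E₀ : AddSubgroup (Additive ↥A) := Subgroup.toAddSubgroup (R.subgroupOf A)
  have hmem : ∀ e : Additive ↥A, e ∈ E₀ ↔ (e.toMul : H) ∈ R := fun e => Iff.rfl
  have hlift : ∀ t : F, ∃ y ∈ Y, π y = u t := fun t => by
    have : u t ∈ Y.map π := hY ▸ PSL2Sylow.mem_uSub.mpr ⟨t, rfl⟩
    exact this
  have hext : ∀ e e' : Additive ↥A, (e.toMul : H) = e'.toMul → e = e' := fun e e' he =>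
    Additive.toMul.injective (Subtype.ext he)
  have hnat : IsNat ρ E₀ := by
    refine ⟨fun t e he => ?_, fun t e => ?_, fun e he => ?_, fun e => ?_, fun e he e' he' hee => ?_⟩
    · obtain ⟨y, hy, hyt⟩ := hlift t
      refine hext _ _ ?_
      rw [← hyt, hρ, h.YR y hy _ ((hmem e).mp he), mul_inv_cancel_right]
    · obtain ⟨y, hy, hyt⟩ := hlift t
      rw [hmem]
      have e1 : ((ρ (u t) e - e).toMul : H) = y * (e.toMul : H) * y⁻¹ * (e.toMul : H)⁻¹ := by
        rw [← hyt, ← hρ, toMul_sub]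
        simp [div_eq_mul_inv]
      rw [e1]
      exact h.YA y hy _ e.toMul.2
    · obtain ⟨y, hy, hyt⟩ := hlift 1
      rw [hmem]
      refine h.fix_mem hy ?_ e.toMul.2 ?_
      · rw [hyt, ← u_zero]
        exact fun e => one_ne_zero (u_injective e)
      · have e1 := hρ y e
        rw [hyt, he 1] at e1
        exact mul_inv_eq_iff_eq_mul.mp e1.symm
    · obtain ⟨r, hr, s, hs, hrs⟩ := h.sup _ e.toMul.2
      refine ⟨Additive.ofMul ⟨r, h.RA hr⟩, hr, Additive.ofMul ⟨s, h.RA hs⟩, hs, hext _ _ ?_⟩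
      rw [toMul_add, Subgroup.coe_mul, ← hx, hρ]
      exact hrs
    · refine hext _ _ ?_
      rw [← hx] at hee
      have := congrArg (fun v : Additive ↥A => (v.toMul : H)) hee
      simp only [hρ] at this
      exact h.inf _ he _ he' this
  have := hnat.fixed_eq_zero hg (e := Additive.ofMul ⟨a, ha⟩) (hext _ _ (by
    rw [hρ]; exact mul_inv_eq_iff_eq_mul.mpr hc))
  simpa using congrArg (fun v : Additive ↥A => (v.toMul : H)) this

end Cfsg.Agent.FrakLNatural43
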