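import Cfsg.Agent.Lib.SuzukiGroupPartition
import Cfsg.Prelude.Def_Transfer

/-!
Elementary abelian TI-subgroups of the Suzuki group.
-/

set_option autoImplicit false

namespace Cfsg.Agent.SuzukiGroupTI

open scoped Matrix Pointwise LinearAlgebra.Projectivization
open MulAction Cfsg.Agent.SuzukiGroupBasic Cfsg.Agent.SuzukiGroupStructure
open Cfsg.Agent.SuzukiGroupCentralizer

variable {F : Type*} [Field F] {m : ℕ} [hP : Param F m]

set_option quotPrecheck false
local notation "G" => ↥(Cfsg.Sz F m)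
local notation "qq" => (2 ^ (2 * m + 1) : ℕ)
local notation "∞" => Cfsg.suzukiPointInfinity F

theorem conj_Ts_zero (a d : F) (k : Fˣ) (c : F) :
    (Ts a d * Hs k : G) * Ts 0 c * (Ts a d * Hs k)⁻¹ = Ts 0 ((k : F) * sg m (k : F) * c) := by
  have h : (Ts a d * Hs k : G) * Ts 0 c * (Ts a d * Hs k)⁻¹ =
      Ts a d * (Hs k * Ts 0 c * (Hs k)⁻¹) * (Ts a d)⁻¹ := by group
  rw [h, Hs_Ts, mul_zero]
  rw [((commute_Ts_iff (m := m) 0 ((k : F) * sg m (k : F) * c)).mpr rfl _ (Ts_mem a d))]
  exact mul_inv_cancel_right _ _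

/-- `Ts 0` as a homomorphism. -/
def zHom : Multiplicative F →* ↥(Cfsg.Sz F m) where
  toFun b := Ts 0 b.toAdd
  map_one' := Ts_zero
  map_mul' b c := by rw [Ts_mul]; simp [sg_zero]

theorem zHom_injective : Function.Injective (zHom : Multiplicative F →* G) := fun b c h =>
  (Ts_injective h).2

/-- An element moving a nontrivial element of `Ts 0` into `Ts 0` acts as a scalar there. -/
theorem scalar_of_conj {x : G} {b c : F} (hc : c ≠ 0)
    (h : x * Ts 0 c * x⁻¹ = Ts 0 b) :
    ∃ l : F, b = l * c ∧ ∀ e : F, x * Ts 0 e * x⁻¹ = (Ts 0 (l * e) : G) := by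
  have hb : b ≠ 0 := by
    rintro rfl
    rw [Ts_zero, conj_eq_one_iff] at h
    exact hc (Ts_eq_one h).2
  have hfix : x • ∞ = ∞ := by
    refine Ts_fix (a := 0) (b := b) (fun e => hb (Ts_eq_one e).2) (smul_mem_ovoid x inf_mem) ?_
    rw [← h, conj_smul_eq, Ts_smul_inf]
  obtain ⟨a, d, k, rfl⟩ := fix_inf_iff.mp hfix
  rw [conj_Ts_zero] at h
  exact ⟨(k : F) * sg m (k : F), ((Ts_injective h).2).symm, fun e => conj_Ts_zero a d k e⟩

theorem natCard_ne {α : Type*} [Finite α] (a : α) : Nat.card {t : α // t ≠ a} = Nat.card α - 1 := by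
  classical
  let : Fintype α := Fintype.ofFinite α
  simp only [Nat.card_eq_fintype_card, ne_eq, Fintype.card_subtype_compl, Fintype.card_subtype_eq]

theorem exists_ti_iff {n : ℕ} (hn : 2 ≤ n) :
    (∃ E : Subgroup G, Cfsg.IsElementaryAbelian 2 E ∧ Nat.card E = 2 ^ n ∧
      ∀ x : G, E ⊓ E.map (MulAut.conj x).toMonoidHom ≠ ⊥ → x ∈ Subgroup.normalizer (E : Set G)) ↔
      n ∣ 2 * m + 1 := by
  classical
  have := finiteF (F := F) (m := m)
  have := charTwo (F := F) (m := m)
  have hF : Nat.card F = qq := natCard (F := F) (m := m)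
  have hFu : Nat.card Fˣ = qq - 1 := by rw [Nat.card_units, hF]
  have hgcd : ∀ a : ℕ, 2 ^ n - 1 ∣ 2 ^ a - 1 ↔ n ∣ a := by
    intro a
    constructor
    · intro h
      have h1 := Nat.pow_sub_one_gcd_pow_sub_one 2 n a
      rw [Nat.gcd_eq_left h] at h1
      have h2 : 2 ^ n = 2 ^ n.gcd a := by
        have := Nat.one_le_two_pow (n := n)
        have := Nat.one_le_two_pow (n := n.gcd a)
        omega
      exact (Nat.pow_right_injective le_rfl h2) ▸ Nat.gcd_dvd_right n a
    · rintro ⟨d, rfl⟩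
      rw [pow_mul]
      exact Nat.sub_one_dvd_pow_sub_one (2 ^ n) d
  constructor
  · rintro ⟨E, hE, hcard, hTI⟩
    -- move `E` into `Ts 0`
    obtain ⟨c, hc⟩ := exists_conj_unipotent_of_isPGroup E (by
      have : Fact (Nat.Prime 2) := ⟨Nat.prime_two⟩
      exact IsPGroup.of_card hcard)
    have hcoord : ∀ g ∈ E, ∃ b : F, c * g * c⁻¹ = Ts 0 b := fun g hg => by
      obtain ⟨a, b, hab⟩ := hc g hg
      refine ⟨b, ?_⟩
      have h2 : (Ts a b : G) ^ 2 = 1 := by
        rw [← hab, conj_pow, hE.2 g hg, mul_one, mul_inv_cancel]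
      obtain rfl : a = 0 := Ts_sq_eq_one.mp h2
      exact hab
    let S : AddSubgroup F :=
      { carrier := {b | c⁻¹ * Ts 0 b * c ∈ E}
        add_mem' := fun {a b} ha hb => by
          have h := mul_mem (show c⁻¹ * Ts 0 a * c ∈ E from ha) (show c⁻¹ * Ts 0 b * c ∈ E from hb)
          have e : c⁻¹ * Ts 0 a * c * (c⁻¹ * Ts 0 b * c) = c⁻¹ * (Ts 0 (a + b) : G) * c := by
            rw [show (Ts 0 (a + b) : G) = Ts 0 a * Ts 0 b by rw [Ts_mul]; simp [sg_zero]]
            group
          rw [e] at h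
          exact h
        zero_mem' := by simp [Ts_zero]
        neg_mem' := fun {a} ha => by rwa [CharTwo.neg_eq] }
    have hmem : ∀ b : F, b ∈ S ↔ c⁻¹ * Ts 0 b * c ∈ E := fun b => Iff.rfl
    have hScard : Nat.card S = 2 ^ n := by
      rw [← hcard]
      refine Nat.card_eq_of_bijective (fun b : S => (⟨c⁻¹ * Ts 0 (b : F) * c, b.2⟩ : E)) ⟨?_, ?_⟩
      · intro a b h
        have := congrArg Subtype.val h
        simp only [mul_left_inj, mul_right_inj] at this
        exact Subtype.ext (Ts_injective this).2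
      · rintro ⟨g, hg⟩
        obtain ⟨b, hb⟩ := hcoord g hg
        have e : c⁻¹ * (Ts 0 b : G) * c = g := by rw [← hb]; group
        exact ⟨⟨b, by rw [hmem, e]; exact hg⟩, Subtype.ext e⟩
    have hscale : ∀ s ∈ S, s ≠ 0 → ∀ l : F, l ≠ 0 → l * s ∈ S → ∀ t ∈ S, l * t ∈ S := by
      intro s hs hs0 l hl hls t ht
      obtain ⟨k, hk⟩ := exists_mul_sg (m := m) l
      have hk0 : k ≠ 0 := by rintro rfl; exact hl (by rw [← hk, zero_mul])
      set x : G := c⁻¹ * (Ts 0 0 * Hs (Units.mk0 k hk0)) * c with hx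
      have hconj : ∀ e : F, x * (c⁻¹ * Ts 0 e * c) * x⁻¹ = c⁻¹ * Ts 0 (l * e) * c := fun e => by
        rw [show l * e = ((Units.mk0 k hk0 : Fˣ) : F) * sg m ((Units.mk0 k hk0 : Fˣ) : F) * e by
          rw [Units.val_mk0, hk]]
        rw [← conj_Ts_zero 0 0 (Units.mk0 k hk0) e, hx]
        group
      have hN := hTI x (by
        intro hbot
        have h1 : x * (c⁻¹ * Ts 0 s * c) * x⁻¹ ∈ E ⊓ E.map (MulAut.conj x).toMonoidHom :=
          ⟨by rw [hconj]; exact hls, _, hs, rfl⟩
        rw [hbot, Subgroup.mem_bot, conj_eq_one_iff] at h1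
        have h2 : (Ts 0 s : G) = 1 := by
          rw [show (Ts 0 s : G) = c * (c⁻¹ * Ts 0 s * c) * c⁻¹ by group, h1]; group
        exact hs0 (Ts_eq_one h2).2)
      rw [hmem, ← hconj t]
      exact (Subgroup.mem_normalizer_iff.mp hN _).mp ht
    obtain ⟨s₀, hs₀, hs₀0⟩ : ∃ s ∈ S, s ≠ 0 := by
      by_contra h
      push Not at h
      have : S = ⊥ := eq_bot_iff.mpr fun s hs => h s hs
      rw [this, AddSubgroup.card_bot] at hScard
      have := Nat.one_lt_two_pow (n := n) (by omega)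
      omega
    let K : Subgroup Fˣ :=
      { carrier := {u | (u : F) * s₀ ∈ S}
        one_mem' := by simpa using hs₀
        mul_mem' := fun {u v} hu hv => by
          have := hscale s₀ hs₀ hs₀0 u u.ne_zero hu _ hv
          simpa [mul_assoc] using this
        inv_mem' := fun {u} hu => by
          -- multiplication by `u` permutes the finite set `S`
          have hf := hscale s₀ hs₀ hs₀0 u u.ne_zero hu
          let f : S → S := fun t => ⟨(u : F) * t, hf t t.2⟩
          have hfi : Function.Injective f := fun a b h =>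
            Subtype.ext (mul_left_cancel₀ u.ne_zero (congrArg Subtype.val h))
          obtain ⟨t, ht⟩ := (Finite.injective_iff_surjective.mp hfi) ⟨s₀, hs₀⟩
          have h := congrArg Subtype.val ht
          change (u : F) * (t : F) = s₀ at h
          change ((u⁻¹ : Fˣ) : F) * s₀ ∈ S
          rw [← h, ← mul_assoc, ← Units.val_mul, inv_mul_cancel, Units.val_one, one_mul]
          exact t.2 }
    have hK : Nat.card K = 2 ^ n - 1 := by
      rw [← hScard, ← natCard_ne (0 : S)]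
      refine Nat.card_eq_of_bijective
        (fun u : K => (⟨⟨((u : Fˣ) : F) * s₀, u.2⟩, fun e => mul_ne_zero (u : Fˣ).ne_zero hs₀0
          (congrArg Subtype.val e)⟩ : {t : S // t ≠ 0})) ⟨?_, ?_⟩
      · intro u v h
        exact Subtype.ext (Units.ext (mul_right_cancel₀ hs₀0
          (congrArg (fun z => ((z : {t : S // t ≠ 0}).1 : F)) h)))
      · rintro ⟨⟨t, ht⟩, ht0⟩
        have ht0' : t ≠ 0 := fun e => ht0 (Subtype.ext e)
        refine ⟨⟨Units.mk0 (t / s₀) (div_ne_zero ht0' hs₀0), ?_⟩, ?_⟩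
        · change t / s₀ * s₀ ∈ S
          rwa [div_mul_cancel₀ _ hs₀0]
        · exact Subtype.ext (Subtype.ext (div_mul_cancel₀ _ hs₀0))
    rw [← hgcd, ← hK, ← hFu]
    exact Subgroup.card_subgroup_dvd_card K
  · intro hdvd
    have hnt : 2 ^ n - 1 ∣ qq - 1 := (hgcd _).mpr hdvd
    let S : AddSubgroup F :=
      { carrier := {b | b ^ (2 ^ n) = b}
        add_mem' := fun {a b} ha hb => by
          change (a + b) ^ (2 ^ n) = a + b
          rw [add_pow_char_pow, show a ^ 2 ^ n = a from ha, show b ^ 2 ^ n = b from hb]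
        zero_mem' := zero_pow (Nat.two_pow_pos n).ne'
        neg_mem' := fun {a} ha => by rwa [CharTwo.neg_eq] }
    have hpos : 1 ≤ 2 ^ n := Nat.one_le_two_pow
    have hmem : ∀ b : F, b ≠ 0 → (b ∈ S ↔ b ^ (2 ^ n - 1) = 1) := fun b hb => by
      change b ^ (2 ^ n) = b ↔ _
      obtain ⟨j, hj⟩ : ∃ j, 2 ^ n = j + 1 := ⟨2 ^ n - 1, by omega⟩
      rw [hj, Nat.add_sub_cancel, pow_succ, mul_left_eq_self₀]
      simp [hb]
    have hScard : Nat.card S = 2 ^ n := by
      have h1 : Nat.card {t : S // t ≠ 0} = Nat.card (powMonoidHom (2 ^ n - 1) : Fˣ →* Fˣ).ker := by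
        refine Nat.card_eq_of_bijective (fun t => ⟨Units.mk0 ((t.1 : S) : F)
          (fun e => t.2 (Subtype.ext e)), ?_⟩) ⟨?_, ?_⟩
        · rw [MonoidHom.mem_ker, powMonoidHom_apply]
          exact Units.ext ((hmem _ (fun e => t.2 (Subtype.ext e))).mp t.1.2)
        · intro a b h
          exact Subtype.ext (Subtype.ext (congrArg (fun z => ((z : (powMonoidHom (2 ^ n - 1) :
            Fˣ →* Fˣ).ker).1 : F)) h))
        · rintro ⟨u, hu⟩
          rw [MonoidHom.mem_ker, powMonoidHom_apply] at hu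
          refine ⟨⟨⟨(u : F), (hmem _ u.ne_zero).mpr (by
            rw [← Units.val_pow_eq_pow_val, hu, Units.val_one])⟩,
            fun e => u.ne_zero (congrArg Subtype.val e)⟩, ?_⟩
          exact Subtype.ext (Units.ext rfl)
      rw [IsCyclic.card_powMonoidHom_ker, hFu, Nat.gcd_eq_right hnt, natCard_ne (0 : S)] at h1
      have : 0 < Nat.card S := Nat.card_pos
      omega
    let E : Subgroup G := (AddSubgroup.toSubgroup S).map (zHom : Multiplicative F →* G)
    have hE : ∀ g : G, g ∈ E ↔ ∃ b ∈ S, g = Ts 0 b := fun g => by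
      constructor
      · rintro ⟨b, hb, rfl⟩; exact ⟨b.toAdd, hb, rfl⟩
      · rintro ⟨b, hb, rfl⟩; exact ⟨Multiplicative.ofAdd b, hb, rfl⟩
    refine ⟨E, ⟨⟨⟨?_⟩⟩, ?_⟩, ?_, ?_⟩
    · rintro ⟨g, hg⟩ ⟨g', hg'⟩
      obtain ⟨a, -, rfl⟩ := (hE _).mp hg
      obtain ⟨b, -, rfl⟩ := (hE _).mp hg'
      exact Subtype.ext (show (Ts 0 a : G) * Ts 0 b = Ts 0 b * Ts 0 a by
        rw [Ts_mul, Ts_mul]; simp [sg_zero, add_comm])
    · intro g hg
      obtain ⟨a, -, rfl⟩ := (hE _).mp hg
      exact Ts_sq_eq_one.mpr rfl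
    · rw [Subgroup.card_map_of_injective zHom_injective, ← hScard]
      rfl
    · intro x hx
      obtain ⟨g, hg, hg1⟩ := (Subgroup.bot_or_exists_ne_one _).resolve_left hx
      obtain ⟨b, hb, rfl⟩ := (hE g).mp hg.1
      obtain ⟨g', hg', he⟩ := Subgroup.mem_map.mp hg.2
      obtain ⟨c, hc, rfl⟩ := (hE g').mp hg'
      have hc0 : c ≠ 0 := by
        rintro rfl
        rw [Ts_zero, map_one] at he
        exact hg1 he.symm
      have hb0 : b ≠ 0 := by
        rintro rfl
        exact hg1 Ts_zero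
      obtain ⟨l, hl, hall⟩ := scalar_of_conj hc0 (show x * Ts 0 c * x⁻¹ = Ts 0 b from he)
      have hl0 : l ≠ 0 := by rintro rfl; exact hb0 (by rw [hl, zero_mul])
      have hlS : l ^ (2 ^ n) = l := by
        have h1 : (l * c) ^ (2 ^ n) = l * c := hl ▸ hb
        rw [mul_pow, show c ^ 2 ^ n = c from hc] at h1
        exact mul_right_cancel₀ hc0 h1
      rw [Subgroup.mem_normalizer_iff_map_conj_eq]
      have := Subgroup.eq_of_le_of_card_ge (H := E.map (MulAut.conj x).toMonoidHom) (K := E) ?_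
        (le_of_eq (Subgroup.card_map_of_injective (MulAut.conj x).injective).symm)
      · exact this
      · rintro _ ⟨y, hy, rfl⟩
        obtain ⟨e, he', rfl⟩ := (hE y).mp hy
        refine (hE _).mpr ⟨l * e, ?_, hall e⟩
        change (l * e) ^ (2 ^ n) = l * e
        rw [mul_pow, hlS, show e ^ 2 ^ n = e from he']

end Cfsg.Agent.SuzukiGroupTI
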