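import Mathlib
import Cfsg.Agent.Lib.FrakLSplit43
import Cfsg.Agent.Lib.FrakLNatural43
import Cfsg.Agent.Lib.PSL2Sylow
import Cfsg.Agent.Lib.SuzukiGroupNormalizers
import Cfsg.Agent.Lib.SuzukiGroupTI
import Cfsg.Agent.Lib.SuzukiGroupLie

/-!
The three possibilities for `L / O_p(L)` in `L ∈ 𝔏_G(Y_M)`: `SL₂(q)`, `Sz(q)`, and
`|Ȳ| = 2` (dihedral of order `2r`).
-/

set_option autoImplicit false

namespace Cfsg.Agent.FrakLCases43

open Subgroup Cfsg.Agent.FrakLSplit43
open scoped Pointwise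

variable {K : Type*} [Group K] [Finite K] {p : ℕ} [Fact p.Prime] {Y : Subgroup K}

/-- The goal for elements whose image has prime order different from `p`. -/
def GoodElements {Q : Type*} [Group Q] (p : ℕ) (π : K →* Q) (Y : Subgroup K) : Prop :=
  ∀ g : K, ∀ r : ℕ, r.Prime → r ≠ p → orderOf (π g) = r →
    ∀ a ∈ Cfsg.pCore p K, g * a * g⁻¹ * a⁻¹ ∈ fixedPart Y → a ∈ fixedPart Y

theorem mem_of_quotient_eq_one {a : K}
    (h : QuotientGroup.mk' (fixedPart Y) a = 1) : a ∈ fixedPart Y :=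
  (QuotientGroup.eq_one_iff a).mp h

theorem quotient_comm {g a : K} (h : g * a * g⁻¹ * a⁻¹ ∈ fixedPart Y) :
    QuotientGroup.mk' (fixedPart Y) g * QuotientGroup.mk' (fixedPart Y) a =
      QuotientGroup.mk' (fixedPart Y) a * QuotientGroup.mk' (fixedPart Y) g := by
  have h1 : QuotientGroup.mk' (fixedPart Y) (g * a * g⁻¹ * a⁻¹) = 1 :=
    (QuotientGroup.eq_one_iff _).mpr h
  rw [map_mul, map_mul, map_mul, map_inv, map_inv] at h1
  exact commutatorElement_eq_one_iff_mul_comm.mp h1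

omit [Fact p.Prime] in
theorem Setting.image_ne {Q : Type*} [Group Q] (S : Setting p Y) (π : K →* Q)
    (hker : π.ker = Cfsg.pCore p K) : ∃ y ∈ Y, π y ≠ 1 := by
  by_contra hne
  push Not at hne
  refine S.proper (top_le_iff.mp ?_)
  have hY : Y ≤ Cfsg.pCore p K := fun y hy => hker ▸ MonoidHom.mem_ker.mpr (hne y hy)
  have : (Cfsg.pCore p K).Normal := hker ▸ π.normal_ker
  calc (⊤ : Subgroup K) = normalClosure (Y : Set K) := S.gen.symm
    _ ≤ Cfsg.pCore p K := normalClosure_le_normal hY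
    _ ≤ normalizer (Y : Set K) := S.norm

omit [Fact p.Prime] [Finite K] in
theorem Setting.image_sq {Q : Type*} [Group Q] (S : Setting p Y) (π : K →* Q) :
    ∀ z ∈ Y.map π, z ^ p = 1 := by
  rintro _ ⟨y, hy, rfl⟩
  rw [← map_pow, S.elem.2 y hy, map_one]

/-- Elements inverted modulo `O_2` by an involution from a conjugate of `Y`. -/
theorem good_of_inverted {Q : Type*} [Group Q] {Y : Subgroup K} (S : Setting 2 Y) {π : K →* Q}
    {x : K} (hsurj : Function.Surjective π) (hker : π.ker = Cfsg.pCore 2 K)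
    (hne : ∃ y ∈ Y, π y ≠ 1)
    (hsep : ∀ y ∈ Y, π y ≠ 1 → (π x)⁻¹ * π y * π x ∉ normalizer (Y.map π : Set Q))
    (hinv : ∀ z : Q, ∀ r : ℕ, r.Prime → r ≠ 2 → orderOf z = r →
      ∃ c : Q, ∃ t ∈ Y.map π, t ≠ 1 ∧ t * (c * z * c⁻¹) * t⁻¹ = (c * z * c⁻¹)⁻¹) :
    GoodElements 2 π Y := by
  intro g r hr hr2 hgr a ha hga
  obtain ⟨c', t, ⟨y, hy, rfl⟩, ht1, ht⟩ := hinv (π g) r hr hr2 hgr
  obtain ⟨c, rfl⟩ := hsurj c'
  have hAn : (Cfsg.pCore 2 K).Normal := hker ▸ π.normal_ker
  have sp := S.split hsurj hker hne hsep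
  have hg' : (c * g * c⁻¹) * (c * a * c⁻¹) * (c * g * c⁻¹)⁻¹ * (c * a * c⁻¹)⁻¹ ∈ fixedPart Y := by
    have := (fixedPart_normal Y).conj_mem _ hga c
    rw [show (c * g * c⁻¹) * (c * a * c⁻¹) * (c * g * c⁻¹)⁻¹ * (c * a * c⁻¹)⁻¹ =
      c * (g * a * g⁻¹ * a⁻¹) * c⁻¹ by group]
    exact this
  set q := QuotientGroup.mk' (fixedPart Y) with hq
  have hord : orderOf (π c * π g * (π c)⁻¹) = r := by
    rw [← MulAut.conj_apply, MulEquiv.orderOf_eq, hgr]
  have h1 : q (c * a * c⁻¹) = 1 := by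
    refine sp.invert_fixed (y := q y) (g := q (c * g * c⁻¹)) ?_ ⟨y, hy, rfl⟩ ht1 ?_ ?_
      ⟨_, hAn.conj_mem a ha c, rfl⟩ (quotient_comm hg')
    · rintro _ ⟨z, hz, rfl⟩
      show π z ^ 2 = 1
      exact Setting.image_sq S π _ ⟨z, hz, rfl⟩
    · show π y * π (c * g * c⁻¹) * (π y)⁻¹ = (π (c * g * c⁻¹))⁻¹
      rw [map_mul, map_mul, map_inv]
      exact ht
    · show π (c * g * c⁻¹) ^ 4 ≠ 1
      rw [map_mul, map_mul, map_inv]
      intro e
      have h4 := orderOf_dvd_of_pow_eq_one e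
      rw [hord] at h4
      exact hr2 ((Nat.prime_dvd_prime_iff_eq hr Nat.prime_two).mp
        (hr.dvd_of_dvd_pow (show r ∣ 2 ^ 2 from h4)))
  have h2 := (fixedPart_normal Y).conj_mem _ (mem_of_quotient_eq_one h1) c⁻¹
  simpa [mul_assoc] using h2

/-- For `|Ȳ| = 2` the quotient is dihedral: `⟨d⟩ ∪ ⟨d⟩t`. -/
theorem card_two_structure {Q : Type*} [Group Q] {Y : Subgroup K} (S : Setting 2 Y) {π : K →* Q}
    (hsurj : Function.Surjective π) (hker : π.ker = Cfsg.pCore 2 K)
    (hcard : Nat.card ↥(Y.map π) = 2) :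
    ∃ (x : K) (t d : Q), (∀ y ∈ Y, π y ≠ 1 → (π x)⁻¹ * π y * π x ∉ normalizer (Y.map π : Set Q)) ∧
      t ∈ Y.map π ∧ t ≠ 1 ∧ t * t = 1 ∧ (∀ z ∈ Y.map π, z = 1 ∨ z = t) ∧
      (∀ i : ℤ, t * d ^ i * t⁻¹ = (d ^ i)⁻¹) ∧ ∀ z : Q, z ∈ zpowers d ∨ z * t ∈ zpowers d := by
  obtain ⟨g₀, hg₀⟩ := S.exists_not_le
  have hne := Setting.image_ne S π hker
  obtain ⟨y₀, hy₀, ht1⟩ := hne
  set t := π y₀ with ht
  have hYt : ∀ z ∈ Y.map π, z = 1 ∨ z = t := by
    obtain ⟨a, b, hab, huniv⟩ := Nat.card_eq_two_iff.mp hcard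
    intro z hz
    have h1 : (⟨1, one_mem _⟩ : ↥(Y.map π)) ∈ ({a, b} : Set ↥(Y.map π)) := huniv ▸ Set.mem_univ _
    have h2 : (⟨t, y₀, hy₀, rfl⟩ : ↥(Y.map π)) ∈ ({a, b} : Set ↥(Y.map π)) := huniv ▸ Set.mem_univ _
    have h3 : (⟨z, hz⟩ : ↥(Y.map π)) ∈ ({a, b} : Set ↥(Y.map π)) := huniv ▸ Set.mem_univ _
    simp only [Set.mem_insert_iff, Set.mem_singleton_iff] at h1 h2 h3
    rcases h1 with h1 | h1 <;> rcases h2 with h2 | h2
    · exact absurd (congrArg Subtype.val (h2.trans h1.symm)) ht1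
    · rcases h3 with h3 | h3
      · exact Or.inl (congrArg Subtype.val (h3.trans h1.symm))
      · exact Or.inr (congrArg Subtype.val (h3.trans h2.symm))
    · rcases h3 with h3 | h3
      · exact Or.inr (congrArg Subtype.val (h3.trans h2.symm))
      · exact Or.inl (congrArg Subtype.val (h3.trans h1.symm))
    · exact absurd (congrArg Subtype.val (h2.trans h1.symm)) ht1
  -- the preimage of the normalizer of `Ȳ` lies in `N(Y)`
  have hcomap : (normalizer (Y.map π : Set Q)).comap π ≤ normalizer (Y : Set K) := by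
    refine S.max _ (fun y hy => Subgroup.le_normalizer ⟨y, hy, rfl⟩) fun e => ?_
    have hn : (Y.map π).Normal := by
      refine normalizer_eq_top_iff.mp (top_le_iff.mp fun z _ => ?_)
      obtain ⟨k, rfl⟩ := hsurj z
      exact (e ▸ mem_top k : k ∈ (normalizer (Y.map π : Set Q)).comap π)
    have h2 : (⊤ : Subgroup K) ≤ (Y.map π).comap π := by
      rw [← S.gen]
      exact normalClosure_le_normal (fun y hy => ⟨y, hy, rfl⟩)
    refine S.proper (top_le_iff.mp (h2.trans ?_))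
    rw [comap_map_eq, hker]
    exact sup_le Subgroup.le_normalizer S.norm
  set x := g₀⁻¹ with hx
  have hsep : ∀ y ∈ Y, π y ≠ 1 → (π x)⁻¹ * π y * π x ∉ normalizer (Y.map π : Set Q) := by
    intro y hy hy1 hmem
    apply hg₀
    rintro _ ⟨z, hz, rfl⟩
    refine hcomap ?_
    show π (g₀ * z * g₀⁻¹) ∈ normalizer (Y.map π : Set Q)
    have e : π y = t := (hYt _ ⟨y, hy, rfl⟩).resolve_left hy1
    rw [hx, map_inv, inv_inv, e] at hmem
    rw [map_mul, map_mul, map_inv]
    rcases hYt _ ⟨z, hz, rfl⟩ with e' | e' <;> rw [e']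
    · simp
    · exact hmem
  have hne' : ∃ y ∈ Y, π y ≠ 1 := ⟨y₀, hy₀, ht1⟩
  set s := π x * t * (π x)⁻¹ with hs
  have htt : t * t = 1 := by rw [← pow_two]; exact Setting.image_sq S π t ⟨y₀, hy₀, rfl⟩
  have hss : s * s = 1 := by
    rw [hs, show π x * t * (π x)⁻¹ * (π x * t * (π x)⁻¹) = π x * (t * t) * (π x)⁻¹ by group,
      htt, mul_one, mul_inv_cancel]
  have hti : t⁻¹ = t := inv_eq_of_mul_eq_one_right htt
  have hsi : s⁻¹ = s := inv_eq_of_mul_eq_one_right hss
  have hconj : ∀ i : ℤ, t * (t * s) ^ i * t⁻¹ = ((t * s) ^ i)⁻¹ := fun i => by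
    rw [← conj_zpow, show t * (t * s) * t⁻¹ = (t * s)⁻¹ by
      rw [mul_inv_rev, hsi, hti, ← mul_assoc, htt, one_mul], inv_zpow]
  -- the subgroup `⟨ts⟩ ∪ ⟨ts⟩ t`
  let D : Subgroup Q :=
    { carrier := {k | k ∈ zpowers (t * s) ∨ k * t ∈ zpowers (t * s)}
      one_mem' := Or.inl (one_mem _)
      mul_mem' := by
        intro a b ha hb
        have hflip : ∀ n ∈ zpowers (t * s), t * n * t ∈ zpowers (t * s) := fun n hn => by
          obtain ⟨i, rfl⟩ := mem_zpowers_iff.mp hn
          have := hconj i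
          rw [hti] at this
          rw [this]
          exact inv_mem (zpow_mem (mem_zpowers _) i)
        rcases ha with ha | ha <;> rcases hb with hb | hb
        · exact Or.inl (mul_mem ha hb)
        · exact Or.inr (by rw [mul_assoc]; exact mul_mem ha hb)
        · refine Or.inr ?_
          rw [show a * b * t = (a * t) * (t * b * t) by
            rw [show (a * t) * (t * b * t) = a * (t * t) * b * t by group, htt, mul_one]]
          exact mul_mem ha (hflip b hb)
        · refine Or.inl ?_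
          rw [show a * b = (a * t) * (t * (b * t) * t) by
            rw [show (a * t) * (t * (b * t) * t) = a * (t * t) * b * (t * t) by group, htt,
              mul_one, mul_one]]
          exact mul_mem ha (hflip _ hb)
      inv_mem' := by
        intro a ha
        rcases ha with ha | ha
        · exact Or.inl (inv_mem ha)
        · refine Or.inr ?_
          obtain ⟨i, hi⟩ := mem_zpowers_iff.mp ha
          have := hconj i
          rw [hi] at this
          have ea : t * a = t * a⁻¹ := by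
            calc t * a = t * (a * t) * t⁻¹ := by group
              _ = (a * t)⁻¹ := this
              _ = t * a⁻¹ := by rw [mul_inv_rev, hti]
          rw [← mul_left_cancel ea]
          exact ha }
  have hmemD : ∀ k : Q, k ∈ D ↔ k ∈ zpowers (t * s) ∨ k * t ∈ zpowers (t * s) := fun k => Iff.rfl
  have hD : D.comap π = ⊤ := by
    refine S.gen_two (x := x) hne' hsep (fun y hy => ?_) fun y hy => ?_
    · rw [Subgroup.mem_comap]
      rcases hYt _ ⟨y, hy, rfl⟩ with e | e <;> rw [e]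
      · exact one_mem D
      · exact (hmemD t).mpr (Or.inr (by rw [htt]; exact one_mem _))
    · rw [Subgroup.mem_comap, map_mul, map_mul, map_inv π x]
      rcases hYt _ ⟨y, hy, rfl⟩ with e | e <;> rw [e]
      · simp
      · refine (hmemD s).mpr (Or.inr ?_)
        have h := inv_mem (mem_zpowers (t * s))
        rwa [mul_inv_rev, hsi, hti] at h
  refine ⟨x, t, t * s, hsep, ⟨y₀, hy₀, rfl⟩, ht1, htt, hYt, hconj, fun z => ?_⟩
  obtain ⟨k, rfl⟩ := hsurj z
  exact (hmemD _).mp (hD ▸ mem_top k : k ∈ D.comap π)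

/-- The case `|Ȳ| = 2`. -/
theorem good_of_card_two {Q : Type*} [Group Q] {Y : Subgroup K} (S : Setting 2 Y) {π : K →* Q}
    (hsurj : Function.Surjective π) (hker : π.ker = Cfsg.pCore 2 K)
    (hcard : Nat.card ↥(Y.map π) = 2) : GoodElements 2 π Y := by
  obtain ⟨x, t, d, hsep, htY, ht1, htt, -, hconj, hcov⟩ := card_two_structure S hsurj hker hcard
  refine good_of_inverted S hsurj hker (Setting.image_ne S π hker) hsep fun z r hr hr2 hzr => ?_
  refine ⟨1, t, htY, ht1, ?_⟩
  rw [one_mul, inv_one, mul_one]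
  rcases hcov z with h | h
  · obtain ⟨i, hi⟩ := mem_zpowers_iff.mp h
    rw [← hi]
    exact hconj i
  · exfalso
    obtain ⟨i, hi⟩ := mem_zpowers_iff.mp h
    have h2 : z ^ 2 = 1 := by
      have e := hconj i
      rw [hi] at e
      rw [show z ^ 2 = (z * t) * (t * (z * t) * t⁻¹) by
        rw [show (z * t) * (t * (z * t) * t⁻¹) = z * (t * t) * z by group, htt, mul_one,
          pow_two], e, mul_inv_cancel]
    have := orderOf_dvd_of_pow_eq_one h2
    rw [hzr] at this
    exact hr2 ((Nat.prime_dvd_prime_iff_eq hr Nat.prime_two).mp this)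


section Suzuki

open scoped Matrix LinearAlgebra.Projectivization
open MulAction Cfsg.Agent.SuzukiGroupBasic Cfsg.Agent.SuzukiGroupStructure
open Cfsg.Agent.SuzukiGroupCentralizer Cfsg.Agent.SuzukiGroupPartition
open Cfsg.Agent.SuzukiGroupNormalizers Cfsg.Agent.SuzukiGroupTI

variable {F : Type*} [Field F] {m : ℕ} [hP : Param F m]

/-- A subgroup of exponent `2` and order `q` is conjugate to `Ts 0`. -/
theorem exists_conj_zRange (Z : Subgroup ↥(Cfsg.Sz F m)) (hsq : ∀ z ∈ Z, z ^ 2 = 1)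
    (hc : Nat.card Z = Nat.card F) :
    ∃ c : ↥(Cfsg.Sz F m), Z.map (MulAut.conj c).toMonoidHom =
      (zHom : Multiplicative F →* ↥(Cfsg.Sz F m)).range := by
  have := finiteF (F := F) (m := m)
  obtain ⟨c, hcm⟩ := exists_conj_unipotent_of_isPGroup Z
    (fun z => ⟨1, Subtype.ext (by simpa using hsq z z.2)⟩)
  refine ⟨c, Subgroup.eq_of_le_of_card_ge ?_ (le_of_eq ?_)⟩
  · rintro _ ⟨z, hz, rfl⟩
    obtain ⟨a, b, hab⟩ := hcm z hz
    have h2 : (c * z * c⁻¹) ^ 2 = 1 := by rw [conj_pow, hsq z hz, mul_one, mul_inv_cancel]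
    rw [hab, Ts_sq_eq_one] at h2
    refine ⟨Multiplicative.ofAdd b, ?_⟩
    show Ts 0 b = c * z * c⁻¹
    rw [hab, h2]
  · rw [Subgroup.card_map_of_injective (MulAut.conj c).injective, hc,
      ← Nat.card_congr (MonoidHom.ofInjective (zHom_injective (F := F) (m := m))).toEquiv]
    exact Nat.card_congr Multiplicative.toAdd

theorem good_suzuki {Y : Subgroup K} (S : Setting 2 Y) {π : K →* ↥(Cfsg.Sz F m)}
    (hsurj : Function.Surjective π) (hker : π.ker = Cfsg.pCore 2 K)
    (hY : Y.map π = (zHom : Multiplicative F →* ↥(Cfsg.Sz F m)).range) :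
    GoodElements 2 π Y := by
  have := finiteF (F := F) (m := m)
  have hne := Setting.image_ne S π hker
  obtain ⟨x, hx⟩ := hsurj Ws
  have hz : ∀ b : F, (Ts 0 b : ↥(Cfsg.Sz F m)) ∈ Y.map π := fun b => by
    rw [hY]; exact ⟨Multiplicative.ofAdd b, rfl⟩
  -- the normalizer of `Ȳ` fixes `∞`
  have hfix : ∀ g ∈ normalizer (Y.map π : Set ↥(Cfsg.Sz F m)),
      g • Cfsg.suzukiPointInfinity F = Cfsg.suzukiPointInfinity F := by
    intro g hg
    have hmem := (Subgroup.mem_normalizer_iff.mp hg (Ts 0 1)).mp (hz 1)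
    rw [hY] at hmem
    obtain ⟨b, hb⟩ := hmem
    have hb' : (Ts 0 b.toAdd : ↥(Cfsg.Sz F m)) = g * Ts 0 1 * g⁻¹ := hb
    refine Ts_fix (a := 0) (b := b.toAdd) ?_ (smul_mem_ovoid g inf_mem) ?_
    · rw [hb']
      intro e
      rw [conj_eq_one_iff] at e
      exact one_ne_zero (Ts_eq_one e).2
    · rw [hb', conj_smul_eq, Ts_smul_inf]
  have hsep : ∀ y ∈ Y, π y ≠ 1 →
      (π x)⁻¹ * π y * π x ∉ normalizer (Y.map π : Set ↥(Cfsg.Sz F m)) := by
    intro y hy hy1 hmem
    have hy' : π y ∈ Y.map π := mem_map_of_mem π hy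
    rw [hY] at hy'
    obtain ⟨b, hb⟩ := hy'
    have hb' : (Ts 0 b.toAdd : ↥(Cfsg.Sz F m)) = π y := hb
    have h1 := hfix _ hmem
    rw [hx, ← hb', mul_smul, mul_smul, Ws_smul_inf, inv_smul_eq_iff, Ws_smul_inf, Ts_smul_zero,
      zero_eq_pt (m := m)] at h1
    exact hy1 (by rw [← hb', (pt_injective h1).2, Ts_zero])
  refine good_of_inverted S hsurj hker hne hsep fun z r hr hr2 hzr => ?_
  have hz1 : z ≠ 1 := fun e => hr.ne_one (by rw [← hzr, e, orderOf_one])
  obtain ⟨U, ⟨hU, hzU⟩, -⟩ := existsUnique_part (F := F) (m := m) hz1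
  rcases hU with ⟨P, rfl⟩ | hU
  · exfalso
    have := orderOf_mem_sylow hzU
    rw [hzr] at this
    exact hr2 ((Nat.prime_dvd_prime_iff_eq hr Nat.prime_two).mp
      (hr.dvd_of_dvd_pow (show r ∣ 2 ^ 2 from this)))
  · obtain ⟨v, hv, hv2⟩ := IsCycPart.exists_involution (F := F) (m := m) hU
    have hinv := IsCycPart.invert (F := F) (m := m) hU hv hv2 hzU
    have hv1 : v ≠ 1 := fun e => by rw [e, orderOf_one] at hv2; norm_num at hv2
    obtain ⟨c, a, b, hab⟩ := exists_conj_Ts_of_even hv1 (by rw [hv2]; norm_num)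
    have h2 : (c * v * c⁻¹) ^ 2 = 1 := by
      rw [conj_pow, ← hv2, pow_orderOf_eq_one, mul_one, mul_inv_cancel]
    rw [hab, Ts_sq_eq_one] at h2
    subst h2
    refine ⟨c, Ts 0 b, hz b, ?_, ?_⟩
    · rw [← hab]
      simp [hv1]
    · rw [← hab, show c * v * c⁻¹ * (c * z * c⁻¹) * (c * v * c⁻¹)⁻¹ = c * (v * z * v⁻¹) * c⁻¹ by
        group, hinv]
      group

end Suzuki

section SL2

open Cfsg.Agent.PSL2Elements Cfsg.Agent.PSL2Sylow
open scoped MatrixGroups Pointwise

variable {F : Type*} [Field F] [Finite F] [CharP F p]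

theorem good_sl2 (S : Setting p Y) {π : K →* SL(2, F)} (hsurj : Function.Surjective π)
    (hker : π.ker = Cfsg.pCore p K) (hY : Y.map π = uSub F) : GoodElements p π Y := by
  have hne := Setting.image_ne S π hker
  obtain ⟨x, hx⟩ := hsurj w
  have hsep : ∀ y ∈ Y, π y ≠ 1 → (π x)⁻¹ * π y * π x ∉ normalizer (Y.map π : Set SL(2, F)) := by
    intro y hy hy1
    have hy' : π y ∈ Y.map π := mem_map_of_mem π hy
    rw [hY] at hy' ⊢
    obtain ⟨t, ht⟩ := mem_uSub.mp hy'
    rw [normalizer_uSub, mem_borel, hx, ht]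
    obtain ⟨h1, h2, h3, h4⟩ := inv_apply (w : SL(2, F))
    simp only [mul_apply2, h1, h2, h3, h4]
    intro e
    refine hy1 ?_
    rw [ht]
    have : t = 0 := by simpa [u, w] using e
    rw [this, u_zero]
  have sp := S.split hsurj hker hne hsep
  intro g r hr hrp hgr a ha hga
  refine mem_of_quotient_eq_one ?_
  refine FrakLNatural43.fixed_sl2 (g := QuotientGroup.mk' (fixedPart Y) g) sp ?_ hx ?_
    ⟨a, ha, rfl⟩ (quotient_comm hga)
  · rw [Subgroup.map_map]
    exact hY
  · show tr (π g) ≠ 2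
    intro e
    have h := orderOf_dvd_of_pow_eq_one (pow_char p e)
    rw [hgr] at h
    exact hrp ((Nat.prime_dvd_prime_iff_eq hr Fact.out).mp h)

end SL2

/-- From prime orders to all elements whose order is not a power of `p`. -/
theorem conclude {Q : Type*} [Group Q] (S : Setting p Y) {π : K →* Q}
    (hker : π.ker = Cfsg.pCore p K) (hgood : GoodElements p π Y) {g : K}
    (hg : ¬ ∃ k : ℕ, orderOf g = p ^ k) {a : K} (ha : a ∈ Cfsg.pCore p K)
    (hga : g * a * g⁻¹ * a⁻¹ ∈ fixedPart Y) : a ∈ fixedPart Y := by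
  obtain ⟨r, hr, hrd, hrp⟩ : ∃ r : ℕ, r.Prime ∧ r ∣ orderOf g ∧ r ≠ p := by
    by_contra hne
    exact hg ⟨_, Nat.eq_prime_pow_of_unique_prime_dvd (orderOf_pos g).ne' fun {d} hd hdd => by
      by_contra hdp
      exact hne ⟨d, hd, hdd, hdp⟩⟩
  set g' := g ^ (orderOf g / r) with hg'
  have hord : orderOf g' = r := orderOf_pow_orderOf_div (orderOf_pos g).ne' hrd
  refine hgood g' r hr hrp ?_ a ha ?_
  · have hdvd : orderOf (π g') ∣ r := hord ▸ orderOf_map_dvd π g'
    refine ((Nat.dvd_prime hr).mp hdvd).resolve_left fun e => ?_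
    have hmem : g' ∈ Cfsg.pCore p K := by
      rw [← hker, MonoidHom.mem_ker]
      exact orderOf_eq_one_iff.mp e
    obtain ⟨k, hk⟩ := (LocGroup56.pCore_isPGroup p K) ⟨g', hmem⟩
    have h2 := orderOf_dvd_of_pow_eq_one (congrArg Subtype.val hk : g' ^ p ^ k = 1)
    rw [hord] at h2
    exact hrp ((Nat.prime_dvd_prime_iff_eq hr Fact.out).mp (hr.dvd_of_dvd_pow h2))
  · have hc : Commute (QuotientGroup.mk' (fixedPart Y) g) (QuotientGroup.mk' (fixedPart Y) a) :=
      quotient_comm hga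
    have hc' := hc.pow_left (orderOf g / r)
    rw [← map_pow, ← hg'] at hc'
    have h1 : QuotientGroup.mk' (fixedPart Y) (g' * a * g'⁻¹ * a⁻¹) = 1 := by
      rw [map_mul, map_mul, map_mul, map_inv, map_inv, hc'.eq]
      group
    exact mem_of_quotient_eq_one h1

/-- The three cases together. -/
theorem fixed_point_free (S : Setting p Y)
    (h : (∃ (F : Type) (_ : Field F) (_ : Fintype F),
        Fintype.card F = (Y ⊓ Cfsg.pCore p K).relIndex Y ∧
          ∃ π : K →* Matrix.SpecialLinearGroup (Fin 2) F,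
            Function.Surjective π ∧ π.ker = Cfsg.pCore p K) ∨
      (p = 2 ∧ ∃ (F : Type) (_ : Field F) (_ : Fintype F) (m : ℕ),
        Fintype.card F = 2 ^ (2 * m + 1) ∧
          Fintype.card F = (Y ⊓ Cfsg.pCore p K).relIndex Y ∧
            ∃ π : K →* ↥(Lie.Sz F (2 ^ (m + 1))),
              Function.Surjective π ∧ π.ker = Cfsg.pCore p K) ∨
      (p = 2 ∧ ∃ r : ℕ, r.Prime ∧ r ≠ 2 ∧ ∃ π : K →* DihedralGroup r,
        Function.Surjective π ∧ π.ker = Cfsg.pCore p K))
    {g : K} (hg : ¬ ∃ k : ℕ, orderOf g = p ^ k) {a : K} (ha : a ∈ Cfsg.pCore p K)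
    (hga : g * a * g⁻¹ * a⁻¹ ∈ fixedPart Y) : a ∈ fixedPart Y := by
  have hcard : ∀ {Q : Type} [Group Q] (π : K →* Q), π.ker = Cfsg.pCore p K →
      (Y ⊓ Cfsg.pCore p K).relIndex Y = Nat.card ↥(Y.map π) := fun π hker => by
    rw [inf_relIndex_left, ← hker, relIndex_ker]
  have hYp : IsPGroup p ↥Y := LocPReduced56.isPGroup_of_elementary S.elem
  rcases h with ⟨F, _, _, hq, π, hsurj, hker⟩ | ⟨rfl, F, _, _, m, hF, hq, π, hsurj, hker⟩ |
    ⟨rfl, r, hr, hr2, π, hsurj, hker⟩
  · rw [hcard π hker] at hq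
    obtain ⟨n, hn⟩ := IsPGroup.iff_card.mp (hYp.map π)
    have : CharP F p := by
      obtain ⟨c, hc⟩ := CharP.exists F
      obtain ⟨j, hcp, hj⟩ := FiniteField.card F c
      rw [hq, hn] at hj
      have hn0 : n ≠ 0 := by
        rintro rfl
        have := Fintype.one_lt_card (α := F)
        rw [hq, hn] at this
        simp at this
      have : p = c := (Nat.prime_dvd_prime_iff_eq Fact.out hcp).mp
        ((Fact.out : p.Prime).dvd_of_dvd_pow (hj ▸ dvd_pow_self p hn0))
      exact this ▸ hc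
    obtain ⟨P, hP⟩ := (hYp.map π).exists_le_sylow
    obtain ⟨c, hc⟩ := PSL2Sylow.sylow_eq_conj p P
    have hYc : Y.map π = (P : Subgroup _) := by
      refine Subgroup.eq_of_le_of_card_ge hP ?_
      rw [← hq, hc, ← Nat.card_congr (Subgroup.equivSMul (MulAut.conj c) _).toEquiv, PSL2Sylow.card_uSub,
        Nat.card_eq_fintype_card]
    let π' := (MulAut.conj c⁻¹).toMonoidHom.comp π
    have hsurj' : Function.Surjective π' := (MulAut.conj c⁻¹).surjective.comp hsurj
    have hker' : π'.ker = Cfsg.pCore p K := by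
      rw [← hker]
      exact MonoidHom.ker_mulEquiv_comp π (MulAut.conj c⁻¹)
    refine conclude S hker' (good_sl2 S hsurj' hker' ?_) hg ha hga
    rw [← Subgroup.map_map, hYc, hc]
    show (MulAut.conj c⁻¹) • (MulAut.conj c • PSL2Sylow.uSub F) = _
    rw [← mul_smul, ← map_mul, inv_mul_cancel, map_one, one_smul]
  · rw [hcard π hker] at hq
    rcases Nat.eq_zero_or_pos m with rfl | hm
    · refine conclude S hker (good_of_card_two S hsurj hker ?_) hg ha hga
      rw [← hq, hF]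
      norm_num
    · have := SuzukiGroupBasic.Param.mk' (F := F) hm hF
      let e := SuzukiGroupLie.lieEquiv (F := F) (m := m)
      obtain ⟨c, hc⟩ := exists_conj_zRange ((Y.map π).map e.toMonoidHom)
        (fun z hz => by rw [Subgroup.map_map] at hz; exact Setting.image_sq S _ z hz)
        (by rw [Subgroup.card_map_of_injective e.injective, ← hq, Nat.card_eq_fintype_card])
      let π' := ((MulAut.conj c).toMonoidHom.comp e.toMonoidHom).comp π
      have hsurj' : Function.Surjective π' :=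
        ((MulAut.conj c).surjective.comp e.surjective).comp hsurj
      have hker' : π'.ker = Cfsg.pCore 2 K := by
        rw [← hker]
        exact MonoidHom.ker_mulEquiv_comp π (e.trans (MulAut.conj c))
      refine conclude S hker' (good_suzuki S hsurj' hker' ?_) hg ha hga
      rw [← Subgroup.map_map, ← Subgroup.map_map, hc]
  · refine conclude S hker (good_of_card_two S hsurj hker ?_) hg ha hga
    have : Finite (DihedralGroup r) := Finite.of_surjective π hsurj
    obtain ⟨n, hn⟩ := IsPGroup.iff_card.mp (hYp.map π)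
    obtain ⟨y, hy, hy1⟩ := Setting.image_ne S π hker
    have hd := Subgroup.card_subgroup_dvd_card (Y.map π)
    rw [DihedralGroup.nat_card, hn] at hd
    rcases n with - | - | n
    · exfalso
      rw [pow_zero] at hn
      have := Subgroup.card_eq_one.mp hn
      exact hy1 (Subgroup.mem_bot.mp (this ▸ mem_map_of_mem π hy))
    · simpa using hn
    · exfalso
      rw [pow_succ', Nat.mul_dvd_mul_iff_left two_pos] at hd
      exact hr2 ((Nat.prime_dvd_prime_iff_eq Nat.prime_two hr).mp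
        ((dvd_pow_self 2 (Nat.succ_ne_zero n)).trans hd)).symm

end Cfsg.Agent.FrakLCases43
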