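import Mathlib
import Cfsg.Agent.Lib.FrakLCases43

/-!
In the three possible quotients of `L ∈ 𝔏_G(Y_M)`, `Ȳ` is the only nontrivial elementary abelian
normal `p`-subgroup of its normalizer.
-/

set_option autoImplicit false

namespace Cfsg.Agent.FrakLNormalizer43

open Subgroup Cfsg.Agent.FrakLSplit43 Cfsg.Agent.FrakLCases43

/-- `U` is the only nontrivial exponent-`p` normal subgroup of its normalizer. -/
def UniqueNormal {Q : Type*} [Group Q] (p : ℕ) (U : Subgroup Q) : Prop :=
  ∀ V : Subgroup Q, V ≤ normalizer (U : Set Q) → normalizer (U : Set Q) ≤ normalizer (V : Set Q) →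
    (∀ v ∈ V, v ^ p = 1) → V ≠ ⊥ → V = U

theorem uniqueNormal_dihedral {r : ℕ} (hr : r.Prime) (hr2 : r ≠ 2) (U : Subgroup (DihedralGroup r))
    (hc : Nat.card U = 2) : UniqueNormal 2 U := by
  have : Fact r.Prime := ⟨hr⟩
  have h2 : (2 : ZMod r) ≠ 0 := by
    intro e
    exact hr2 ((Nat.prime_dvd_prime_iff_eq hr Nat.prime_two).mp
      ((ZMod.natCast_eq_zero_iff 2 r).mp (by exact_mod_cast e)))
  -- the nontrivial element is a reflection
  obtain ⟨⟨t, ht⟩, ht1, -⟩ := (Nat.card_eq_two_iff' (1 : ↥U)).mp hc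
  have ht2 : t ^ 2 = 1 := by
    have := pow_card_eq_one' (x := (⟨t, ht⟩ : ↥U))
    rw [hc] at this
    exact congrArg Subtype.val this
  have ht1' : t ≠ 1 := fun e => ht1 (Subtype.ext e)
  obtain ⟨i, rfl⟩ : ∃ i, t = DihedralGroup.sr i := by
    rcases t with j | j
    · exfalso
      rw [pow_two, DihedralGroup.r_mul_r, DihedralGroup.one_def, DihedralGroup.r.injEq,
        ← two_mul, mul_eq_zero] at ht2
      exact ht1' (by rw [ht2.resolve_left h2, DihedralGroup.one_def])
    · exact ⟨j, rfl⟩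
  have hU : ∀ u ∈ U, u = 1 ∨ u = DihedralGroup.sr i := by
    obtain ⟨⟨s, hs⟩, hs1, huniq⟩ := (Nat.card_eq_two_iff' (1 : ↥U)).mp hc
    intro u hu
    by_cases h : u = 1
    · exact Or.inl h
    · refine Or.inr ?_
      have e1 := huniq ⟨u, hu⟩ (fun e => h (congrArg Subtype.val e))
      have e2 := huniq ⟨_, ht⟩ ht1
      exact congrArg Subtype.val (e1.trans e2.symm)
  intro V hV _ hexp hne
  have hle : V ≤ U := by
    intro v hv
    have hm := (Subgroup.mem_normalizer_iff.mp (hV hv) _).mp ht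
    have hc : v * DihedralGroup.sr i * v⁻¹ = DihedralGroup.sr i := by
      refine (hU _ hm).resolve_left fun e => ht1' ?_
      rwa [conj_eq_one_iff] at e
    rcases v with j | j
    · have h := hexp _ hv
      rw [pow_two, DihedralGroup.r_mul_r, DihedralGroup.one_def, DihedralGroup.r.injEq,
        ← two_mul, mul_eq_zero] at h
      rw [h.resolve_left h2, ← DihedralGroup.one_def]
      exact one_mem U
    · rw [DihedralGroup.inv_sr, DihedralGroup.sr_mul_sr, DihedralGroup.r_mul_sr,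
        DihedralGroup.sr.injEq] at hc
      have : 2 * (j - i) = 0 := by linear_combination hc
      rw [sub_eq_zero.mp ((mul_eq_zero.mp this).resolve_left h2)]
      exact ht
  exact eq_of_le_of_card_ge hle (by rw [hc]; exact (one_lt_card_iff_ne_bot V).mpr hne)

section Suzuki

open scoped Matrix LinearAlgebra.Projectivization
open MulAction Cfsg.Agent.SuzukiGroupBasic Cfsg.Agent.SuzukiGroupStructure
open Cfsg.Agent.SuzukiGroupCentralizer Cfsg.Agent.SuzukiGroupTI

variable {F : Type*} [Field F] {m : ℕ} [hP : Param F m]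

theorem uniqueNormal_suzuki :
    UniqueNormal 2 ((zHom : Multiplicative F →* ↥(Cfsg.Sz F m)).range) := by
  have := finiteF (F := F) (m := m)
  intro V hV hnorm hexp hne
  set U : Subgroup ↥(Cfsg.Sz F m) := (zHom : Multiplicative F →* ↥(Cfsg.Sz F m)).range
  have hU : ∀ u, u ∈ U ↔ ∃ b : F, u = Ts 0 b :=
    fun u => ⟨fun ⟨b, hb⟩ => ⟨b.toAdd, hb.symm⟩, fun ⟨b, hb⟩ => ⟨Multiplicative.ofAdd b, hb.symm⟩⟩
  have hle : V ≤ U := by
    intro v hv
    rcases eq_or_ne v 1 with rfl | hv1
    · exact one_mem U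
    -- `v` fixes `∞`
    have hfix : v • Cfsg.suzukiPointInfinity F = Cfsg.suzukiPointInfinity F := by
      have hmem := (Subgroup.mem_normalizer_iff.mp (hV hv) (Ts 0 1)).mp ((hU _).mpr ⟨1, rfl⟩)
      obtain ⟨b, hb⟩ := (hU _).mp hmem
      refine Ts_fix (a := 0) (b := b) ?_ (smul_mem_ovoid v inf_mem) ?_
      · rw [← hb]
        intro e
        rw [conj_eq_one_iff] at e
        exact one_ne_zero (Ts_eq_one e).2
      · rw [← hb, conj_smul_eq, Ts_smul_inf]
    obtain ⟨a, b, k, rfl⟩ := fix_inf_iff.mp hfix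
    have h2 := hexp _ hv
    have hk : k = 1 := by
      have e : (Ts a b : ↥(Cfsg.Sz F m)) * (Hs k * Ts a b * (Hs k)⁻¹) * Hs (k * k) = Ts 0 0 * Hs 1 := by
        rw [← Hs_mul, Ts_zero, Hs_one, mul_one]
        rw [pow_two] at h2
        calc _ = Ts a b * Hs k * (Ts a b * Hs k) := by group
          _ = 1 := h2
      rw [Hs_Ts, Ts_mul] at e
      have hkk := (Ts_Hs_injective e).2.2
      have := Units.ext_iff.mp hkk
      have hc := charTwo (F := F) (m := m)
      rw [Units.val_mul, Units.val_one, ← sq] at this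
      refine Units.ext ?_
      rw [Units.val_one]
      exact frobenius_inj F 2 (by simpa [frobenius_def] using this)
    subst hk
    rw [Hs_one, mul_one] at h2 ⊢
    rw [Ts_sq_eq_one] at h2
    subst h2
    exact (hU _).mpr ⟨b, rfl⟩
  refine le_antisymm hle ?_
  obtain ⟨v, hv, hv1⟩ := (Subgroup.bot_or_exists_ne_one V).resolve_left hne
  obtain ⟨b, rfl⟩ := (hU _).mp (hle hv)
  have hb : b ≠ 0 := by
    rintro rfl
    exact hv1 Ts_zero
  intro u hu
  obtain ⟨c, rfl⟩ := (hU _).mp hu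
  rcases eq_or_ne c 0 with rfl | hc0
  · rw [Ts_zero]; exact one_mem V
  obtain ⟨k, hk⟩ := exists_mul_sg (F := F) (m := m) (c / b)
  have hk0 : k ≠ 0 := by
    rintro rfl
    rw [zero_mul] at hk
    exact div_ne_zero hc0 hb hk.symm
  -- the torus element normalises `U`
  have htor : ∀ (l : Fˣ) (d : F), Hs l * Ts 0 d * (Hs l : ↥(Cfsg.Sz F m))⁻¹ =
      Ts 0 ((l : F) * sg m (l : F) * d) := fun l d => by
    rw [Hs_Ts, mul_zero]
  have hN : (Hs (Units.mk0 k hk0) : ↥(Cfsg.Sz F m)) ∈ normalizer (U : Set ↥(Cfsg.Sz F m)) := by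
    have := finiteF (F := F) (m := m)
    rw [Subgroup.mem_normalizer_iff_map_conj_eq]
    refine Subgroup.eq_of_le_of_card_ge ?_
      (le_of_eq (Subgroup.card_map_of_injective (MulAut.conj _).injective).symm)
    rintro _ ⟨x, hx, rfl⟩
    obtain ⟨d, rfl⟩ := (hU _).mp hx
    exact (hU _).mpr ⟨_, htor _ d⟩
  have := (Subgroup.mem_normalizer_iff.mp (hnorm hN) _).mp hv
  rw [htor, Units.val_mk0, hk, div_mul_cancel₀ c hb] at this
  exact this

end Suzuki

section SL2

open Cfsg.Agent.PSL2Elements Cfsg.Agent.PSL2Sylow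
open scoped MatrixGroups

variable {F : Type*} [Field F] [Finite F] {p : ℕ} [Fact p.Prime] [CharP F p]

theorem uniqueNormal_sl2 : UniqueNormal p (uSub F) := by
  intro V hV hnorm hexp hne
  rw [normalizer_uSub] at hV hnorm
  have hle : V ≤ uSub F := by
    intro v hv
    have hb := mem_borel.mp (hV hv)
    have hdet := det_eq v
    rw [hb, mul_zero, sub_zero] at hdet
    -- the diagonal is `1`
    have hpow : ∀ n : ℕ, (v ^ n).1 0 0 = v.1 0 0 ^ n ∧ (v ^ n).1 1 0 = 0 := by
      intro n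
      induction n with
      | zero => simp
      | succ n ih =>
        rw [pow_succ, mul_apply2, mul_apply2, ih.1, ih.2, hb, pow_succ]
        simp
    have h0 := (hpow p).1
    rw [hexp v hv] at h0
    have ha : v.1 0 0 = 1 := by
      refine frobenius_inj F p ?_
      rw [frobenius_def, frobenius_def, one_pow, ← h0]
      simp
    rw [ha, one_mul] at hdet
    refine mem_uSub.mpr ⟨v.1 0 1, ?_⟩
    apply ext2 <;> simp [u, ha, hb, hdet]
  refine le_antisymm hle fun g hg => ?_
  obtain ⟨c, rfl⟩ := mem_uSub.mp hg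
  obtain ⟨v, hv, hv1⟩ := (Subgroup.bot_or_exists_ne_one V).resolve_left hne
  obtain ⟨b, rfl⟩ := mem_uSub.mp (hle hv)
  have hb : b ≠ 0 := by
    rintro rfl
    exact hv1 u_zero
  have hsq : ∀ a : F, u (a ^ 2 * b) ∈ V := fun a => by
    rcases eq_or_ne a 0 with rfl | ha
    · simp [u_zero, one_mem]
    have hd : d (Units.mk0 a ha) ∈ borel F := by simp [mem_borel, d]
    have := (Subgroup.mem_normalizer_iff.mp (hnorm hd) _).mp hv
    rwa [d_conj_u, Units.val_mk0] at this
  have hinv : ∀ x : F, u x ∈ V → u (-x) ∈ V := fun x hx => by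
    have e : (u x)⁻¹ = u (-x) := inv_eq_of_mul_eq_one_right (by rw [u_mul, add_neg_cancel, u_zero])
    rw [← e]; exact inv_mem hx
  by_cases h2 : (2 : F) = 0
  · have : CharP F 2 := CharP.charP_iff_prime_eq_zero Nat.prime_two |>.mpr (by exact_mod_cast h2)
    obtain ⟨a, ha⟩ := FiniteField.isSquare_of_char_two (ringChar.eq F 2) (c / b)
    have := hsq a
    rwa [pow_two, ← ha, div_mul_cancel₀ c hb] at this
  · have h := mul_mem (hsq ((c / b + 1) / 2)) (hinv _ (hsq ((c / b - 1) / 2)))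
    rw [u_mul] at h
    convert h using 2
    field_simp
    ring

end SL2

/-- `Sz(2)` does not occur. -/
theorem not_sz_two {K : Type*} [Group K] [Finite K] {Y : Subgroup K} (S : Setting 2 Y)
    {F : Type} [Field F] [Fintype F] (hF : Fintype.card F = 2)
    {π : K →* ↥(Lie.Sz F (2 ^ (0 + 1)))} (hsurj : Function.Surjective π)
    (hker : π.ker = Cfsg.pCore 2 K) (hcard : Nat.card ↥(Y.map π) = 2) : False := by
  classical
  obtain ⟨x, t, d, -, -, -, htt, -, hconj, hcov⟩ := card_two_structure S hsurj hker hcard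
  have h01 : ∀ a : F, a = 0 ∨ a = 1 := by
    intro a
    by_contra h
    push Not at h
    have h3 : ({0, 1, a} : Finset F).card = 3 := by
      rw [Finset.card_insert_of_notMem (by simp [zero_ne_one, h.1.symm]),
        Finset.card_insert_of_notMem (by simp [h.2.symm]), Finset.card_singleton]
    have := Finset.card_le_univ ({0, 1, a} : Finset F)
    omega
  have hc2 : (1 : F) + 1 = 0 := by
    rcases h01 (1 + 1) with h | h
    · exact h
    · exact absurd (add_eq_left.mp h) one_ne_zero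
  have : CharP F 2 := CharP.charP_iff_prime_eq_zero Nat.prime_two |>.mpr (by
    rw [← one_add_one_eq_two] at *; push_cast; linear_combination hc2)
  let M : Matrix (Fin 4) (Fin 4) F := !![1, 1, 1, 1; 0, 1, 1, 0; 0, 0, 1, 1; 0, 0, 0, 1]
  have hMd : M.det = 1 := by simp [M, Matrix.det_succ_row_zero, Fin.sum_univ_succ]
  let g : GL (Fin 4) F := Matrix.SpecialLinearGroup.toGL ⟨M, hMd⟩
  let w : GL (Fin 4) F := Matrix.SpecialLinearGroup.toGL (SuzukiGroupBasic.W F)
  have hpow : ∀ a : F, a ^ (2 ^ (0 + 1)) = a := fun a => by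
    rcases h01 a with rfl | rfl <;> simp
  have hmem : ∀ k : GL (Fin 4) F, (∀ u v, Lie.altForm4
      ((k : Matrix (Fin 4) (Fin 4) F).mulVec u) ((k : Matrix (Fin 4) (Fin 4) F).mulVec v) =
        Lie.altForm4 u v) →
      Lie.star4 (k : Matrix (Fin 4) (Fin 4) F) = (k : Matrix (Fin 4) (Fin 4) F) →
      k ∈ Lie.Sz F (2 ^ (0 + 1)) := fun k h1 h2 => by
    refine Subgroup.subset_closure ⟨h1, ?_⟩
    rw [h2]
    ext i j
    rw [Matrix.map_apply, hpow]
  have hg : g ∈ Lie.Sz F (2 ^ (0 + 1)) := by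
    refine hmem g (fun u v => ?_) ?_
    · show Lie.altForm4 (M.mulVec u) (M.mulVec v) = _
      simp [M, Lie.altForm4, Matrix.mulVec, dotProduct, Fin.sum_univ_four]
      grind
    · show Lie.star4 M = M
      ext i j
      fin_cases i <;> fin_cases j <;> simp [M, Lie.star4, Lie.pairOf] <;> grind
  have hw : w ∈ Lie.Sz F (2 ^ (0 + 1)) := by
    refine hmem w (fun u v => ?_) ?_
    · show Lie.altForm4 ((suzukiForm F).mulVec u) ((suzukiForm F).mulVec v) = _
      simp [suzukiForm, Lie.altForm4, Matrix.mulVec, dotProduct, Fin.sum_univ_four]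
      grind
    · show Lie.star4 (suzukiForm F) = suzukiForm F
      ext i j
      fin_cases i <;> fin_cases j <;>
        simp [suzukiForm, Lie.star4, Lie.pairOf, CharTwo.neg_eq, CharTwo.sub_eq_add]
  set u : ↥(Lie.Sz F (2 ^ (0 + 1))) := ⟨g, hg⟩
  have hM2 : M * M = !![1, 0, 1, 1; 0, 1, 0, 1; 0, 0, 1, 0; 0, 0, 0, 1] := by
    ext i j
    fin_cases i <;> fin_cases j <;> simp [M, Matrix.mul_apply, Fin.sum_univ_four] <;> grind
  have hu4 : (u ^ 2) * (u ^ 2) = 1 := by
    refine Subtype.ext (Units.ext ?_)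
    simp only [u, g, pow_two, Subgroup.coe_mul, Units.val_mul, Subgroup.coe_one, Units.val_one]
    show M * M * (M * M) = 1
    rw [hM2]
    ext i j
    fin_cases i <;> fin_cases j <;> simp [Matrix.mul_apply, Fin.sum_univ_four] <;> grind
  -- `u` lies in the cyclic part
  have hu2 : u ^ 2 ≠ 1 := by
    intro e
    have := congrArg (fun k : ↥(Lie.Sz F (2 ^ (0 + 1))) =>
      (((k : GL (Fin 4) F)) : Matrix (Fin 4) (Fin 4) F) 0 2) e
    simp only [pow_two, Subgroup.coe_mul, Units.val_mul, Subgroup.coe_one, Units.val_one] at this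
    rw [show ((u : GL (Fin 4) F) : Matrix (Fin 4) (Fin 4) F) = M from rfl, hM2] at this
    simp at this
  have hcen : ∀ k, k * u ^ 2 = u ^ 2 * k := by
    obtain ⟨i, hi⟩ : u ∈ zpowers d := by
      refine (hcov u).resolve_right fun h => hu2 ?_
      obtain ⟨i, hi⟩ := mem_zpowers_iff.mp h
      have e := hconj i
      rw [hi] at e
      rw [show u ^ 2 = (u * t) * (t * (u * t) * t⁻¹) by
        rw [show (u * t) * (t * (u * t) * t⁻¹) = u * (t * t) * u by group, htt, mul_one,
          pow_two], e, mul_inv_cancel]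
    have hd2 : u ^ 2 = d ^ (i * 2) := by
      rw [← hi, ← zpow_natCast, ← zpow_mul]; norm_num
    have htu : t * u ^ 2 * t⁻¹ = u ^ 2 := by
      rw [hd2, hconj, ← hd2]
      exact inv_eq_of_mul_eq_one_right hu4
    intro k
    have hdc : ∀ j : ℤ, d ^ j * u ^ 2 = u ^ 2 * d ^ j := fun j => by
      rw [hd2]
      exact ((Commute.refl d).zpow_zpow _ _).eq
    rcases hcov k with h | h
    · obtain ⟨j, hj⟩ := mem_zpowers_iff.mp h
      rw [← hj, hdc]
    · obtain ⟨j, hj⟩ := mem_zpowers_iff.mp h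
      have htu' : t * u ^ 2 = u ^ 2 * t := mul_inv_eq_iff_eq_mul.mp htu
      have hk : k = d ^ j * t := by rw [hj, mul_assoc, htt, mul_one]
      rw [hk, mul_assoc, htu', ← mul_assoc, hdc, mul_assoc]
  have := congrArg (fun k : ↥(Lie.Sz F (2 ^ (0 + 1))) =>
    (((k : GL (Fin 4) F)) : Matrix (Fin 4) (Fin 4) F) 1 0) (hcen ⟨w, hw⟩)
  simp only [pow_two, Subgroup.coe_mul, Units.val_mul] at this
  rw [show ((u : GL (Fin 4) F) : Matrix (Fin 4) (Fin 4) F) = M from rfl, hM2,
    show ((w : GL (Fin 4) F) : Matrix (Fin 4) (Fin 4) F) = suzukiForm F from rfl] at this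
  simp [suzukiForm, Matrix.mul_apply, Fin.sum_univ_four] at this

end Cfsg.Agent.FrakLNormalizer43
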