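import Mathlib
import Cfsg.Agent.Lib.FrakLNormalizer43

/-! From `L ∈ 𝔏_G(Y_M)` to the abstract setting of `FrakLSplit43`. -/

set_option autoImplicit false

namespace Cfsg.Agent.FrakLSetting43

open Subgroup Cfsg.Agent.FrakLSplit43 Cfsg.Agent.FrakLCases43
open Cfsg.Agent.FrakLNormalizer43
open scoped Pointwise

variable {G : Type*} [Group G] [Finite G] {p : ℕ} [Fact p.Prime] {M L : Subgroup G}

omit [Finite G] [Fact p.Prime] in
theorem normalizer_subgroupOf_eq {Y : Subgroup G} (hYL : Y ≤ L) :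
    normalizer ((Y.subgroupOf L : Subgroup ↥L) : Set ↥L) =
      (normalizer (Y : Set G)).subgroupOf L := by
  ext k
  simp only [Subgroup.mem_subgroupOf, Subgroup.mem_normalizer_iff]
  refine ⟨fun hk z => ⟨fun hz => ?_, fun hz => ?_⟩, fun hk z => hk z⟩
  · exact (hk ⟨z, hYL hz⟩).mp hz
  · have hzL : z ∈ L := by
      simpa [mul_assoc] using mul_mem (mul_mem (inv_mem k.2) (hYL hz)) k.2
    exact (hk ⟨z, hzL⟩).mpr hz

theorem setting (hL : Cfsg.IsInFrakL p M L) :
    Setting p ((Cfsg.largestPReducedOf p M).subgroupOf L) := by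
  obtain ⟨hYL, hcl, hnorm, hgen, -, ⟨hlt, hmax⟩, -⟩ := hL
  set Y := Cfsg.largestPReducedOf p M with hY
  have hRY : ((Y ⊓ Cfsg.pCoreOf p L).subgroupOf L) = Y.subgroupOf L ⊓ Cfsg.pCore p ↥L := by
    ext k
    simp [Subgroup.mem_subgroupOf, Cfsg.pCoreOf]
  have hnY := normalizer_subgroupOf_eq hYL
  have hel := (LocalPReduced57.red_largest p M).2.2.1
  rw [← hY] at hel
  refine ⟨⟨⟨⟨fun a b => Subtype.ext (Subtype.ext ?_)⟩⟩, fun a ha => Subtype.ext ?_⟩, ?_, ?_, hgen.1,
    ?_, ?_⟩
  · exact LocPReduced56.comm_of_elementary hel a.2 b.2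
  · simpa using hel.2 (a : G) ha
  · rw [hnY]
    intro k hk
    exact hnorm ⟨k, hk, rfl⟩
  · have := congrArg (Subgroup.comap L.subtype) hcl
    rw [Cfsg.pCoreOf, Subgroup.comap_map_eq_self_of_injective L.subtype_injective,
      Subgroup.comap_map_eq_self_of_injective L.subtype_injective] at this
    rw [← hRY]
    exact this
  · rw [hnY]
    intro e
    exact hlt.ne (inf_eq_left.mpr (Subgroup.subgroupOf_eq_top.mp e))
  · intro X hX hXne
    rw [hnY]
    intro k hk
    have h1 : Y ≤ X.map L.subtype := by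
      intro y hy
      exact ⟨⟨y, hYL hy⟩, hX hy, rfl⟩
    have h2 : X.map L.subtype < L := by
      refine lt_of_le_of_ne (Subgroup.map_subtype_le _) fun e => hXne ?_
      have := congrArg (Subgroup.comap L.subtype) e
      rwa [Subgroup.comap_map_eq_self_of_injective L.subtype_injective,
        ← Subgroup.subgroupOf, Subgroup.subgroupOf_self] at this
    exact (Subgroup.mem_inf.mp (hmax _ h1 h2 ⟨k, hk, rfl⟩)).2

/-- `Ȳ` is the only nontrivial elementary abelian normal `p`-subgroup of its normalizer in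
`L / O_p(L)`. -/
theorem exists_hom_uniqueNormal (hL : Cfsg.IsInFrakL p M L) :
    ∃ (Q : Type) (_ : Group Q) (π : ↥L →* Q), Function.Surjective π ∧ π.ker = Cfsg.pCore p ↥L ∧
      UniqueNormal p (((Cfsg.largestPReducedOf p M).subgroupOf L).map π) := by
  have S := setting hL
  obtain ⟨hYL, -, -, -, -, -, hq⟩ := hL
  set Y := Cfsg.largestPReducedOf p M with hY
  set YL := Y.subgroupOf L with hYLdef
  have hRY : ((Y ⊓ Cfsg.pCoreOf p L).subgroupOf L) = YL ⊓ Cfsg.pCore p ↥L := by
    ext k
    simp [hYLdef, Subgroup.mem_subgroupOf, Cfsg.pCoreOf]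
  have hcard : ∀ {Q : Type} [Group Q] (π : ↥L →* Q), π.ker = Cfsg.pCore p ↥L →
      (Y ⊓ Cfsg.pCoreOf p L).relIndex Y = Nat.card ↥(YL.map π) := fun π hker => by
    rw [← Subgroup.map_subgroupOf_eq_of_le hYL,
      show Y.subgroupOf L = YL from rfl,
      show Cfsg.pCoreOf p L = (Cfsg.pCore p ↥L).map L.subtype from rfl,
      ← Subgroup.map_inf _ _ _ L.subtype_injective,
      Subgroup.relIndex_map_map_of_injective _ _ L.subtype_injective,
      inf_relIndex_left, ← hker, relIndex_ker]
  have hYp : IsPGroup p ↥YL := LocPReduced56.isPGroup_of_elementary S.elem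
  rcases hq with ⟨F, _, _, hq, ⟨e⟩⟩ | ⟨rfl, F, _, _, m, hF, hq, ⟨e⟩⟩ | ⟨rfl, r, hr, hr2, ⟨e⟩⟩ <;>
    set π := e.toMonoidHom.comp (QuotientGroup.mk' _) with hπ <;>
    have hsurj : Function.Surjective π := e.surjective.comp (QuotientGroup.mk'_surjective _) <;>
    have hker : π.ker = _ := (MonoidHom.ker_mulEquiv_comp _ e).trans (QuotientGroup.ker_mk' _)
  · rw [hcard π hker] at hq
    obtain ⟨n, hn⟩ := IsPGroup.iff_card.mp (hYp.map π)
    have : CharP F p := by
      obtain ⟨c, hc⟩ := CharP.exists F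
      obtain ⟨j, hcp, hj⟩ := FiniteField.card F c
      rw [hq, hn] at hj
      have hn0 : n ≠ 0 := by
        rintro rfl
        have := Fintype.one_lt_card (α := F)
        rw [hq, hn] at this
        simp at this
      have : p = c := (Nat.prime_dvd_prime_iff_eq Fact.out hcp).mp
        ((Fact.out : p.Prime).dvd_of_dvd_pow (hj ▸ dvd_pow_self p hn0))
      exact this ▸ hc
    obtain ⟨P, hP⟩ := (hYp.map π).exists_le_sylow
    obtain ⟨c, hc⟩ := PSL2Sylow.sylow_eq_conj p P
    have hYc : YL.map π = (P : Subgroup _) := by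
      refine Subgroup.eq_of_le_of_card_ge hP ?_
      rw [← hq, hc, ← Nat.card_congr (Subgroup.equivSMul (MulAut.conj c) _).toEquiv,
        PSL2Sylow.card_uSub, Nat.card_eq_fintype_card]
    refine ⟨_, inferInstance, (MulAut.conj c⁻¹).toMonoidHom.comp π,
      (MulAut.conj c⁻¹).surjective.comp hsurj,
      (MonoidHom.ker_mulEquiv_comp π (MulAut.conj c⁻¹)).trans hker, ?_⟩
    have e' : YL.map ((MulAut.conj c⁻¹).toMonoidHom.comp π) = PSL2Sylow.uSub F := by
      rw [← Subgroup.map_map, hYc, hc]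
      show (MulAut.conj c⁻¹) • (MulAut.conj c • PSL2Sylow.uSub F) = _
      rw [← mul_smul, ← map_mul, inv_mul_cancel, map_one, one_smul]
    rw [e']
    exact uniqueNormal_sl2
  · rw [hcard π hker] at hq
    rcases Nat.eq_zero_or_pos m with rfl | hm
    · exact (not_sz_two S (by rw [hF]; norm_num) hsurj hker (by rw [← hq, hF]; norm_num)).elim
    · have := SuzukiGroupBasic.Param.mk' (F := F) hm hF
      let e₂ := SuzukiGroupLie.lieEquiv (F := F) (m := m)
      obtain ⟨c, hc⟩ := exists_conj_zRange ((YL.map π).map e₂.toMonoidHom)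
        (fun z hz => by rw [Subgroup.map_map] at hz; exact Setting.image_sq S _ z hz)
        (by rw [Subgroup.card_map_of_injective e₂.injective, ← hq, Nat.card_eq_fintype_card])
      refine ⟨_, inferInstance, ((MulAut.conj c).toMonoidHom.comp e₂.toMonoidHom).comp π,
        ((MulAut.conj c).surjective.comp e₂.surjective).comp hsurj,
        (MonoidHom.ker_mulEquiv_comp π (e₂.trans (MulAut.conj c))).trans hker, ?_⟩
      rw [← Subgroup.map_map, ← Subgroup.map_map, hc]
      exact uniqueNormal_suzuki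
  · refine ⟨_, inferInstance, π, hsurj, hker, uniqueNormal_dihedral hr hr2 _ ?_⟩
    have : Finite (DihedralGroup r) := Finite.of_surjective π hsurj
    obtain ⟨n, hn⟩ := IsPGroup.iff_card.mp (hYp.map π)
    obtain ⟨y, hy, hy1⟩ := Setting.image_ne S π hker
    have hd := Subgroup.card_subgroup_dvd_card (YL.map π)
    rw [DihedralGroup.nat_card, hn] at hd
    rcases n with - | - | n
    · exfalso
      rw [pow_zero] at hn
      exact hy1 (Subgroup.mem_bot.mp (Subgroup.card_eq_one.mp hn ▸ mem_map_of_mem π hy))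
    · simpa using hn
    · exfalso
      rw [pow_succ', Nat.mul_dvd_mul_iff_left two_pos] at hd
      exact hr2 ((Nat.prime_dvd_prime_iff_eq Nat.prime_two hr).mp
        ((dvd_pow_self 2 (Nat.succ_ne_zero n)).trans hd)).symm

/-- `N_L(Y)` is the preimage of the normalizer of `Ȳ`. -/
theorem normalizer_eq_comap {K Q : Type*} [Group K] [Finite K] [Group Q] {Y : Subgroup K}
    (S : Setting p Y) {π : K →* Q} (hsurj : Function.Surjective π)
    (hker : π.ker = Cfsg.pCore p K) :
    normalizer (Y : Set K) = (normalizer (Y.map π : Set Q)).comap π := by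
  refine le_antisymm (fun k hk => Subgroup.le_normalizer_map π ⟨k, hk, rfl⟩)
    (S.max _ (fun y hy => Subgroup.le_normalizer ⟨y, hy, rfl⟩) fun e => ?_)
  have hn : (Y.map π).Normal := by
    refine normalizer_eq_top_iff.mp (top_le_iff.mp fun z _ => ?_)
    obtain ⟨k, rfl⟩ := hsurj z
    exact (e ▸ mem_top k : k ∈ (normalizer (Y.map π : Set Q)).comap π)
  have h2 : (⊤ : Subgroup K) ≤ (Y.map π).comap π := by
    rw [← S.gen]
    exact normalClosure_le_normal (fun y hy => ⟨y, hy, rfl⟩)
  refine S.proper (top_le_iff.mp (h2.trans ?_))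
  rw [comap_map_eq, hker]
  exact sup_le Subgroup.le_normalizer S.norm

end Cfsg.Agent.FrakLSetting43
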