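import Cfsg.Agent.Lib.Frame10Base

/-!
An overgroup without non-monomial elements fixing a coordinate line has monomial stabilisers of nearly
coordinate subspaces.
-/

set_option autoImplicit false
set_option linter.unusedSectionVars false
set_option maxHeartbeats 1600000

namespace Cfsg.Agent.Frame10

open QuadraticMap Module
open Cfsg.Agent.OrthUnitaryQuad Cfsg.Agent.OrthUnitaryRefl Cfsg.Agent.OmegaDecomp
open scoped Matrix

variable {F : Type*} [Field F] {ι : Type*} [Fintype ι] [DecidableEq ι] [Fintype F]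
  {M : Subgroup (orth (sq F ι))}

/-- An element of the group mapping a coordinate line to a coordinate line is monomial. -/
def Star (M : Subgroup (orth (sq F ι))) : Prop :=
  ∀ m ∈ M, ∀ l, (∃ l', ∃ c : F, m.1 (ax l) = c • ax l') → Mono m

/-- The vectors vanishing on a set of coordinates. -/
def zeroOn (S : Finset ι) : Submodule F (ι → F) := ⨅ a ∈ S, LinearMap.ker (LinearMap.proj a)

theorem mem_zeroOn {S : Finset ι} {x : ι → F} : x ∈ zeroOn S ↔ ∀ a ∈ S, x a = 0 := by
  simp [zeroOn]

/-- A subspace spanned by at least three coordinate vectors and at most two further dimensions. -/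
structure Space (W : Submodule F (ι → F)) (S : Finset ι) : Prop where
  three : 3 ≤ S.card
  mem : ∀ a, ax a ∈ W ↔ a ∈ S
  out : ∃ l, ∀ w ∈ W, w l = 0
  small : finrank F ↥(W ⊓ zeroOn S) ≤ 2

theorem Space.zero_of_perp {W : Submodule F (ι → F)} {S : Finset ι} (hW : Space W S) {x : ι → F}
    (hx : ∀ w ∈ W, w ⬝ᵥ x = 0) {a : ι} (ha : a ∈ S) : x a = 0 := by
  rw [← dot_ax a x]; exact hx _ ((hW.mem a).2 ha)

theorem Space.mem_of_supp {W : Submodule F (ι → F)} {S : Finset ι} (hW : Space W S) {x : ι → F}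
    (hx : ∀ b, b ∉ S → x b = 0) : x ∈ W := by
  have : x = ∑ a ∈ S, x a • ax a := by
    funext b
    simp [ax, Finset.sum_apply, Pi.single_apply]
    exact fun hb => hx b hb
  rw [this]
  exact sum_mem fun a ha => W.smul_mem _ ((hW.mem a).2 ha)

theorem mono_ax {k : orth (sq F ι)} (h2 : (2 : F) ≠ 0) {σ : Equiv.Perm ι} {c : ι → F}
    (hc : ∀ i, c i * c i = 1) (hk : ∀ i, k.1 (ax i) = c i • ax (σ i)) (x : ι → F) (i : ι) :
    (k.1 x) (σ i) = c i * x i := by
  have h := map_dot k h2 (ax i) x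
  rw [hk, smul_dotProduct, dot_ax, dot_ax, smul_eq_mul] at h
  rw [← h, ← mul_assoc, hc, one_mul]

theorem mono_of_space (hM : Over M) (hS : Star M) (h2 : (2 : F) ≠ 0) (hn : 5 ≤ Fintype.card ι)
    {W W' : Submodule F (ι → F)} {S S' : Finset ι} (hW : Space W S) (hW' : Space W' S') (h5S : 5 ≤ S'.card)
    {m : orth (sq F ι)} (hm : m ∈ M) (hmW : ∀ x, m.1 x ∈ W' ↔ x ∈ W) : Mono m := by
  classical
  by_contra hnm
  obtain ⟨l', hl'⟩ := hW'.out
  obtain ⟨l, hl⟩ := hW.out
  -- the reflections in the images of the coordinate vectors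
  let u : ι → ι → F := fun a => m.1 (ax a)
  have hu : ∀ a, u a ⬝ᵥ u a = 1 := fun a => by
    rw [map_dot_self]; rw [dot_ax, ax_self]
  have huQ : ∀ a, sq F ι (u a) ≠ 0 := fun a => by rw [sq_apply, hu]; exact one_ne_zero
  let kk : ι → ι → orth (sq F ι) := fun a b => refl (sq F ι) (u a) (huQ a) * refl (sq F ι) (u b) (huQ b)
  have hkM : ∀ a b, kk a b ∈ M := fun a b => by
    obtain ⟨h1, h1', hp⟩ := (pair_ax hM h2 hn a b).map hm
    exact hp
  have huW : ∀ a ∈ S, u a ∈ W' := fun a ha => (hmW _).2 ((hW.mem a).2 ha)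
  have hkfix : ∀ a ∈ S, ∀ b ∈ S, ∀ x, (∀ w ∈ W', w ⬝ᵥ x = 0) → (kk a b).1 x = x := fun a ha b hb x hx => by
    rw [orth_mul_apply, refl_rv (huQ b), refl_rv (huQ a)]
    simp [rv, hx _ (huW b hb), hx _ (huW a ha)]
  have hkW : ∀ a ∈ S, ∀ b ∈ S, ∀ x ∈ W', (kk a b).1 x ∈ W' := fun a ha b hb x hx => by
    rw [orth_mul_apply, refl_rv (huQ b), refl_rv (huQ a)]
    exact W'.sub_mem (W'.sub_mem hx (W'.smul_mem _ (huW b hb))) (W'.smul_mem _ (huW a ha))
  have hkmono : ∀ a ∈ S, ∀ b ∈ S, Mono (kk a b) := fun a ha b hb =>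
    hS _ (hkM a b) l' ⟨l', 1, by
      rw [one_smul, hkfix a ha b hb _ fun w hw => by rw [dot_ax', hl' w hw]]⟩
  choose σ c hc hσ using fun a : S => fun b : S => mono_perm h2 (hkmono a a.2 b b.2)
  -- the permutations preserve the coordinates inside
  have hσS : ∀ a b : S, ∀ i ∈ S', σ a b i ∈ S' := fun a b i hi => by
    have h := hkW a a.2 b b.2 _ ((hW'.mem i).2 hi)
    rw [hσ] at h
    have hc0 : c a b i ≠ 0 := fun e => by have := hc a b i; rw [e, mul_zero] at this; exact zero_ne_one this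
    exact (hW'.mem _).1 ((W'.smul_mem_iff hc0).1 h)
  -- they commute and square to one
  have rcomm : ∀ a b x, rv (u a) (rv (u b) x) = rv (u b) (rv (u a) x) := fun a b x => by
    have hd : u a ⬝ᵥ u b = if a = b then 1 else 0 := col_dot m h2 a b
    rcases eq_or_ne a b with rfl | hab
    · rfl
    rw [if_neg hab] at hd
    simp only [rv, dotProduct_sub, dotProduct_smul, hd, dotProduct_comm (u b) (u a), smul_eq_mul, mul_zero,
      sub_zero]
    abel
  have kcomm : ∀ a b a' b' x, (kk a b).1 ((kk a' b').1 x) = (kk a' b').1 ((kk a b).1 x) := fun a b a' b' x => by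
    simp only [kk, orth_mul_apply, refl_rv]
    rw [rcomm b a', rcomm b b', rcomm a a', rcomm a b']
  have ksq : ∀ a b x, (kk a b).1 ((kk a b).1 x) = x := fun a b x => by
    simp only [kk, orth_mul_apply, refl_rv]
    rw [rcomm b a, rv_rv (by rw [hu]; exact one_ne_zero), rv_rv (by rw [hu]; exact one_ne_zero)]
  have inj : ∀ {i j : ι} {d e : F}, d * d = 1 → d • ax (F := F) i = e • ax j → i = j := by
    intro i j d e hd h
    by_contra hij
    have := congrFun h i
    rw [Pi.smul_apply, Pi.smul_apply, ax_self, ax_ne hij, smul_eq_mul, smul_eq_mul, mul_one, mul_zero] at this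
    rw [this, mul_zero] at hd
    exact zero_ne_one hd
  have scomm : ∀ a b a' b' : S, ∀ i, σ a b (σ a' b' i) = σ a' b' (σ a b i) := fun a b a' b' i => by
    have h := kcomm a b a' b' (ax i)
    rw [hσ, hσ, map_smul, map_smul, hσ, hσ, smul_smul, smul_smul] at h
    refine inj ?_ h
    have h1 := hc a' b' i
    have h3 := hc a b (σ a' b' i)
    linear_combination c a b (σ a' b' i) ^ 2 * h1 + h3
  have ssq : ∀ a b : S, ∀ i, σ a b (σ a b i) = i := fun a b i => by
    have h := ksq a b (ax i)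
    rw [hσ, map_smul, hσ, smul_smul] at h
    refine inj ?_ (h.trans (one_smul F (ax i)).symm)
    have h1 := hc a b i
    have h3 := hc a b (σ a b i)
    linear_combination c a b (σ a b i) ^ 2 * h1 + h3
  -- hence they fix every coordinate inside
  have hdiag : ∀ a b : S, ∀ i ∈ S', σ a b i = i := by
    intro a b i hi
    by_contra hne
    set j := σ a b i with hj
    have hjS : j ∈ S' := hσS a b i hi
    obtain ⟨k, hk, hki, hkj⟩ : ∃ k ∈ S', k ≠ i ∧ k ≠ j := by
      obtain ⟨k, hk⟩ := Finset.card_pos.1 (show 0 < ((S'.erase i).erase j).card by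
        have := h5S
        rw [Finset.card_erase_of_mem (Finset.mem_erase.2 ⟨hne, hjS⟩), Finset.card_erase_of_mem hi]
        omega)
      simp at hk
      exact ⟨k, hk.2.2, hk.2.1, hk.1⟩
    obtain ⟨q, hq, hqi, hqj, hqk, hqs⟩ : ∃ q ∈ S', q ≠ i ∧ q ≠ j ∧ q ≠ k ∧ q ≠ σ a b k := by
      obtain ⟨q, hq⟩ := Finset.card_pos.1 (show 0 < (S' \ {i, j, k, σ a b k}).card by
        have := h5S
        have h4 : ({i, j, k, σ a b k} : Finset ι).card ≤ 4 := Finset.card_le_four
        have := Finset.le_card_sdiff ({i, j, k, σ a b k} : Finset ι) S'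
        omega)
      simp at hq
      exact ⟨q, hq.1, hq.2.1, hq.2.2.1, hq.2.2.2.1, hq.2.2.2.2⟩
    obtain ⟨g, hg, -, hgx, hgax⟩ := exists_swaps hM h2 hn hkj.symm hqk.symm
    set cy : Equiv.Perm ι := Equiv.swap j k * Equiv.swap k q with hcy
    have hgsupp : ∀ x : ι → F, ∀ b', b' ∉ S' → (g.1 x) b' = x b' := fun x b' hb' => by
      rw [hgx, Function.comp_apply, Equiv.Perm.mul_apply,
        Equiv.swap_apply_of_ne_of_ne (fun e : b' = j => hb' (e ▸ hjS)) (fun e : b' = k => hb' (e ▸ hk)),
        Equiv.swap_apply_of_ne_of_ne (fun e : b' = k => hb' (e ▸ hk)) (fun e : b' = q => hb' (e ▸ hq))]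
    have hgW : ∀ x, g.1 x ∈ W' ↔ x ∈ W' := fun x => by
      have hd : g.1 x - x ∈ W' := hW'.mem_of_supp fun b' hb' => by rw [Pi.sub_apply, hgsupp x b' hb', sub_self]
      exact ⟨fun h => by simpa using W'.sub_mem h hd, fun h => by simpa using W'.add_mem hd h⟩
    set h := m⁻¹ * g * m
    have hmh : ∀ x, m.1 (h.1 x) = g.1 (m.1 x) := fun x => by
      rw [← orth_mul_apply m h, ← orth_mul_apply g m]; congr 1; simp [h, mul_assoc]
    have hhW : ∀ x, h.1 x ∈ W ↔ x ∈ W := fun x => by rw [← hmW, hmh, hgW, hmW]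
    have hhmono : Mono h := hS _ (M.mul_mem (M.mul_mem (M.inv_mem hm) hg) hm) l ⟨l, 1, by
      rw [one_smul]
      refine m.1.injective ?_
      rw [hmh]
      funext b'
      by_cases hb' : b' ∈ S'
      · have hz : ∀ b'' ∈ S', (m.1 (ax l)) b'' = 0 := fun b'' hb'' => by
          obtain ⟨w, hw⟩ := m.1.surjective (ax b'')
          rw [← dot_ax b'' (m.1 (ax l)), ← hw, map_dot m h2, dot_ax', hl w ((hmW w).1 (hw ▸ (hW'.mem _).2 hb''))]
        rw [hgx, Function.comp_apply, hz b' hb']
        refine hz _ ?_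
        simp only [Equiv.Perm.mul_apply, Equiv.swap_apply_def]
        split_ifs <;> assumption
      · exact hgsupp _ b' hb'⟩
    obtain ⟨π, e, he, hπ⟩ := mono_perm h2 hhmono
    have hπS : ∀ x : S, π x ∈ S := fun x => by
      have h1 := (hhW (ax x.1)).2 ((hW.mem _).2 x.2)
      rw [hπ] at h1
      exact (hW.mem _).1 ((W.smul_mem_iff (fun e0 => by
        have := he x.1; rw [e0, mul_zero] at this; exact zero_ne_one this)).1 h1)
    -- the conjugate
    have key : ∀ x, g.1 ((kk a b).1 x) = (kk (π a) (π b)).1 (g.1 x) := by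
      intro x
      have hv : ∀ y : S, g.1 (u y) = e y • u (π y) := fun y => by
        show g.1 (m.1 (ax y.1)) = _
        rw [← hmh, hπ, map_smul]
      have hr : ∀ (y : S) z, g.1 (rv (u y) z) = rv (u (π y)) (g.1 z) := fun y z => by
        have h0 : e y * e y = 1 := he y
        have hd : u (π y) ⬝ᵥ g.1 z = e y * (u y ⬝ᵥ z) := by
          rw [← map_dot g h2 (u y) z, hv, smul_dotProduct, smul_eq_mul, ← mul_assoc, h0, one_mul]
        rw [rv, map_sub, map_smul, hv, rv, hd, hu, hu, smul_smul]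
        congr 2
        ring
      simp only [kk, orth_mul_apply, refl_rv]
      rw [hr a, hr b]
    have key' : ∀ z, σ ⟨π a, hπS a⟩ ⟨π b, hπS b⟩ (cy z) = cy (σ a b z) := fun z => by
      have h1 := key (ax z)
      rw [hσ a b, map_smul, hgax, hgax, hσ ⟨π a, hπS a⟩ ⟨π b, hπS b⟩] at h1
      exact (inj (hc a b z) h1).symm
    set τ := σ a b
    set τ' := σ ⟨π a, hπS a⟩ ⟨π b, hπS b⟩
    have hcj : cy j = k := by
      rw [hcy, Equiv.Perm.mul_apply, Equiv.swap_apply_of_ne_of_ne hkj.symm hqj.symm, Equiv.swap_apply_left]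
    have hcq : cy q = j := by rw [hcy, Equiv.Perm.mul_apply, Equiv.swap_apply_right, Equiv.swap_apply_right]
    have hco : ∀ z, z ≠ j → z ≠ k → z ≠ q → cy z = z := fun z z1 z2 z3 => by
      rw [hcy, Equiv.Perm.mul_apply, Equiv.swap_apply_of_ne_of_ne z2 z3, Equiv.swap_apply_of_ne_of_ne z1 z2]
    have hci : cy i = i := hco i (Ne.symm hne) hki.symm hqi.symm
    have h3 : τ' i = k := by
      calc τ' i = τ' (cy i) := by rw [hci]
        _ = cy (τ i) := key' i
        _ = k := by rw [show τ i = j from hj.symm, hcj]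
    have h4 : τ' j = τ k := by
      calc τ' j = τ' (τ i) := by rw [show τ i = j from hj.symm]
        _ = τ (τ' i) := (scomm a b _ _ i).symm
        _ = τ k := by rw [h3]
    have h5 : cy (τ q) = τ k := by
      rw [← key', hcq, h4]
    by_cases h6 : τ q = q
    · rw [h6, hcq] at h5
      exact hki (τ.injective (h5.symm.trans hj))
    by_cases h7 : τ q = k
    · exact hqs (by rw [← h7]; exact (ssq a b q).symm)
    rw [hco (τ q) (fun h8 => hqi (τ.injective (h8.trans hj))) h7 h6] at h5
    exact hqk (τ.injective h5)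
  -- the eigen lines
  let ε : ι → ι → ι → F := fun a x y => if a = x ∨ a = y then -1 else 1
  have hone : ∀ a ∈ S, ∀ v ∈ W', (∀ x y : S, x ≠ y → (kk x y).1 v = ε a x y • v) →
      ∃ t : F, v = t • u a := by
    intro a ha v hv heig
    obtain ⟨w, rfl⟩ := m.1.surjective v
    refine ⟨w a, ?_⟩
    have hd : ∀ x y : S, x ≠ y → ∀ b, rv (ax x.1) (rv (ax y.1) w) b = ε a x y * w b := fun x y hxy b => by
      have h1 := heig x y hxy
      rw [← map_smul] at h1
      have h3 : ∀ (z : ι) t, m.1 (rv (ax z) t) = rv (u z) (m.1 t) := fun z t => by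
        rw [rv, map_sub, map_smul, rv, map_dot m h2, dot_ax z (ax z), ax_self, hu]
      have h4 : (kk x y).1 (m.1 w) = m.1 (rv (ax x.1) (rv (ax y.1) w)) := by
        rw [h3, h3, orth_mul_apply, refl_rv, refl_rv]
      rw [h4] at h1
      rw [m.1.injective h1]; rfl
    have hwz : ∀ b, b ≠ a → w b = 0 := by
      intro b hb
      obtain ⟨y, hy, hya, hyb⟩ : ∃ y ∈ S, y ≠ a ∧ y ≠ b := by
        obtain ⟨y, hy⟩ := Finset.card_pos.1 (show 0 < (S \ {a, b}).card by
          have := hW.three
          have h4 : ({a, b} : Finset ι).card ≤ 2 := Finset.card_le_two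
          have := Finset.le_card_sdiff ({a, b} : Finset ι) S
          omega)
        simp at hy
        exact ⟨y, hy.1, hy.2.1, hy.2.2⟩
      have h1 := hd ⟨a, ha⟩ ⟨y, hy⟩ (fun e => hya (congrArg Subtype.val e).symm) b
      simp only [ε, true_or, if_true, rv_ax, Function.update_of_ne hb, Function.update_of_ne hyb.symm,
        neg_one_mul] at h1
      exact (mul_eq_zero.1 (show 2 * w b = 0 by linear_combination h1)).resolve_left h2
    show m.1 w = w a • m.1 (ax a)
    rw [← map_smul]
    congr 1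
    funext b
    rcases eq_or_ne b a with rfl | hb
    · simp [ax]
    · simp [ax, hb, hwz b hb]
  have heig : ∀ a x y : S, x ≠ y → (kk x y).1 (u a) = ε a x y • u a := by
    intro a x y hxy
    have hd : ∀ z : ι, rv (u z) (u a) = (if a.1 = z then -1 else 1 : F) • u a := fun z => by
      have hcd : u z ⬝ᵥ u a = if z = a.1 then 1 else 0 := col_dot m h2 z a
      rw [rv, hu, hcd]
      split_ifs with e1 e2 e3
      · subst e1; funext b; simp; ring
      · exact absurd e1.symm e2
      · exact absurd e3.symm e1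
      · simp
    have hlin : ∀ (z : ι) (t : F), rv (u z) (t • u a) = t • rv (u z) (u a) := fun z t => by
      funext b; simp [rv, dotProduct_smul]; ring
    rw [orth_mul_apply, refl_rv (huQ y.1), refl_rv (huQ x.1), hd, hlin, hd, smul_smul]
    congr 1
    have hxy' : x.1 ≠ y.1 := fun e => hxy (Subtype.ext e)
    show (if a.1 = y.1 then (-1 : F) else 1) * (if a.1 = x.1 then (-1 : F) else 1) =
      if a.1 = x.1 ∨ a.1 = y.1 then -1 else 1
    by_cases e1 : a.1 = x.1
    · rw [if_pos e1, if_pos (Or.inl e1), if_neg (fun e => hxy' (e1.symm.trans e)), one_mul]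
    by_cases e2 : a.1 = y.1
    · rw [if_pos e2, if_neg e1, if_pos (Or.inr e2), mul_one]
    · rw [if_neg e1, if_neg e2, if_neg (fun e => e.elim e1 e2), mul_one]
  have hZ : ∀ a : S, u a ∈ W' ⊓ zeroOn S' := by
    intro a
    refine ⟨huW a a.2, mem_zeroOn.2 ?_⟩
    by_contra hy
    push Not at hy
    obtain ⟨b, hb, hvb⟩ := hy
    have hax : ∀ x y : S, x ≠ y → (kk x y).1 (ax b) = ε a x y • ax b := by
      intro x y hxy
      have h1 := mono_ax h2 (hc x y) (hσ x y) (u a) b
      rw [hdiag x y b hb, heig a x y hxy, Pi.smul_apply, smul_eq_mul] at h1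
      rw [hσ, hdiag x y b hb, mul_right_cancel₀ hvb h1]
    obtain ⟨t, ht⟩ := hone a a.2 _ ((hW'.mem b).2 hb) hax
    have ht0 : t ≠ 0 := fun h0 => by
      have := congrFun ht b
      rw [h0, zero_smul, ax_self] at this
      exact one_ne_zero this
    exact hnm (hS m hm a.1 ⟨b, t⁻¹, by rw [ht, inv_smul_smul₀ ht0]⟩)
  have hli : LinearIndependent F fun a : S => (⟨u a, hZ a⟩ : ↥(W' ⊓ zeroOn S')) := by
    rw [Fintype.linearIndependent_iff]
    intro g hg a
    have h1 := congrArg (fun z : ↥(W' ⊓ zeroOn S') => u a ⬝ᵥ (z : ι → F)) hg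
    simp only [Submodule.coe_sum, Submodule.coe_smul, dotProduct_sum, dotProduct_smul, Submodule.coe_zero,
      dotProduct_zero, smul_eq_mul] at h1
    rw [Finset.sum_eq_single a (fun b _ hb => by
      rw [show u a ⬝ᵥ u b = 0 from (col_dot m h2 a b).trans (if_neg fun e => hb (Subtype.ext e.symm)), mul_zero])
      (by simp), hu, mul_one] at h1
    exact h1
  have h5 := hW.three
  have h3 := hli.fintype_card_le_finrank
  rw [Fintype.card_coe] at h3
  have := hW'.small
  omega

end Cfsg.Agent.Frame10
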