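import Cfsg.Agent.Lib.Frame10Seven

/-!
The unit vectors whose reflection lies in the overgroup up to a sign change.
-/

set_option autoImplicit false
set_option linter.unusedSectionVars false

namespace Cfsg.Agent.Frame10

open QuadraticMap Module
open Cfsg.Agent.OrthUnitaryQuad Cfsg.Agent.OrthUnitaryRefl Cfsg.Agent.OmegaDecomp
open scoped Matrix

variable {F : Type*} [Field F] {ι : Type*} [Fintype ι] [DecidableEq ι]

/-- A set of unit vectors closed under its reflections and the even coordinate symmetries. -/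
structure RSet (R : (ι → F) → Prop) : Prop where
  unit : ∀ x, R x → x ⬝ᵥ x = 1
  axis : ∀ i, R (ax i)
  flip : ∀ i x, R x → R (rv (ax i) x)
  closed : ∀ x y, R x → R y → R (rv x y)
  perm : ∀ x a b c d, R x → a ≠ b → c ≠ d → R (x ∘ (Equiv.swap c d * Equiv.swap a b : Equiv.Perm ι))

/-- The roots of the monomial group. -/
def Root (x : ι → F) : Prop := ∃ i j, (∀ l, l ≠ i → l ≠ j → x l = 0) ∧ (x i = 0 ∨ x j = 0 ∨ x i * x i = x j * x j)

variable [Fintype F] {M : Subgroup (orth (sq F ι))}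

/-- The vectors paired with a coordinate vector. -/
def InR (M : Subgroup (orth (sq F ι))) (i₀ : ι) (x : ι → F) : Prop := x ⬝ᵥ x = 1 ∧ PairIn M x (ax i₀)

theorem rv_smul {r : F} (hr : r ≠ 0) (v x : ι → F) : rv (r • v) x = rv v x := by
  funext l
  simp only [rv, smul_dotProduct, dotProduct_smul, Pi.sub_apply, Pi.smul_apply, smul_eq_mul]
  by_cases hv : v ⬝ᵥ v = 0
  · simp [hv]
  field_simp

theorem pairIn_congr_right {v w w' : ι → F} (h : PairIn M v w) (hw' : sq F ι w' ≠ 0)
    (e : ∀ x, rv w x = rv w' x) : PairIn M v w' := by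
  obtain ⟨hv, hw, hm⟩ := h
  refine ⟨hv, hw', ?_⟩
  have : refl (sq F ι) w hw = refl (sq F ι) w' hw' := orth_ext fun x => by rw [refl_rv, refl_rv, e]
  rwa [← this]

theorem inR_map (hM : Over M) (h2 : (2 : F) ≠ 0) (hn : 5 ≤ Fintype.card ι) {i₀ : ι} {x : ι → F}
    (hx : InR M i₀ x) {m : orth (sq F ι)} (hm : m ∈ M) {j : ι} {c : F} (hc : m.1 (ax i₀) = c • ax j) :
    InR M i₀ (m.1 x) := by
  refine ⟨by rw [map_dot_self, hx.1], ?_⟩
  have h := hx.2.map hm
  have hc0 : c ≠ 0 := fun e => by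
    have := col_dot m h2 i₀ i₀
    rw [hc, e, zero_smul, zero_dotProduct, if_pos rfl] at this
    exact zero_ne_one this
  rw [hc] at h
  have hj : sq F ι (ax j) ≠ 0 := by rw [sq_apply, dot_ax, ax_self]; exact one_ne_zero
  exact (pairIn_congr_right h hj fun y => rv_smul hc0 _ y).trans (pair_ax hM h2 hn j i₀)

theorem rSet (hM : Over M) (h2 : (2 : F) ≠ 0) (hn : 5 ≤ Fintype.card ι) (i₀ : ι) : RSet (InR M i₀) := by
  have hone : ∀ {x : ι → F}, x ⬝ᵥ x = 1 → sq F ι x ≠ 0 := fun {x} h => by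
    rw [sq_apply, h]; exact one_ne_zero
  have hflip : ∀ i x, InR M i₀ x → InR M i₀ (rv (ax i) x) := by
    intro i x hx
    have hu : rv (ax i) x ⬝ᵥ rv (ax i) x = 1 := by
      rw [rv_dot (by rw [dot_ax, ax_self]; exact one_ne_zero), hx.1]
    refine ⟨hu, PairIn.trans ?_ (pair_ax hM h2 hn i i₀)⟩
    obtain ⟨h1, h1', hm⟩ := hx.2.trans (pair_ax hM h2 hn i₀ i)
    refine ⟨hone hu, h1', ?_⟩
    have e := conj_refl (refl (sq F ι) (ax i) h1') x h1
    have e' : refl (sq F ι) (rv (ax i) x) (hone hu) =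
        refl (sq F ι) (ax i) h1' * refl (sq F ι) x h1 * (refl (sq F ι) (ax i) h1')⁻¹ := by
      rw [e]; apply orth_ext; intro y; rw [refl_rv, refl_rv, refl_rv]
    rw [e', inv_mul_cancel_right]
    have := M.inv_mem hm
    rwa [mul_inv_rev, inv_eq_of_mul_eq_one_right (refl_sq _ h1), inv_eq_of_mul_eq_one_right (refl_sq _ h1')] at this
  refine ⟨fun x hx => hx.1, fun i => ⟨by rw [dot_ax, ax_self], pair_ax hM h2 hn i i₀⟩, hflip, ?_, ?_⟩
  · intro x y hx hy
    obtain ⟨h1, h1', hm⟩ := hx.2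
    have hy' := hflip i₀ y hy
    refine ⟨by rw [rv_dot (by rw [hx.1]; exact one_ne_zero), hy.1], ?_⟩
    have h := hy'.2.map hm
    have e1 : (refl (sq F ι) x h1 * refl (sq F ι) (ax i₀) h1').1 (rv (ax i₀) y) = rv x y := by
      rw [orth_mul_apply, refl_rv, refl_rv, rv_rv (by rw [dot_ax, ax_self]; exact one_ne_zero)]
    have e3 : (refl (sq F ι) x h1 * refl (sq F ι) (ax i₀) h1').1 (ax i₀) = -rv x (ax i₀) := by
      rw [orth_mul_apply, refl_rv, refl_rv]
      funext l
      simp [rv, dot_ax, ax_self, dotProduct_sub, dotProduct_smul]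
      ring
    rw [e1, e3] at h
    have hz : rv x (ax i₀) ⬝ᵥ rv x (ax i₀) = 1 := by
      rw [rv_dot (by rw [hx.1]; exact one_ne_zero), dot_ax, ax_self]
    have h' := pairIn_congr_right h (hone hz) fun z => by
      rw [← neg_one_smul F (rv x (ax i₀)), rv_smul (neg_ne_zero.2 one_ne_zero)]
    refine h'.trans ?_
    refine ⟨hone hz, h1', ?_⟩
    have e4 : refl (sq F ι) (rv x (ax i₀)) (hone hz) =
        refl (sq F ι) x h1 * refl (sq F ι) (ax i₀) h1' * (refl (sq F ι) x h1)⁻¹ := by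
      rw [conj_refl]; apply orth_ext; intro y; rw [refl_rv, refl_rv, refl_rv]
    rw [e4, inv_eq_of_mul_eq_one_right (refl_sq _ h1), mul_assoc (_ * _)]
    exact M.mul_mem hm hm
  · intro x a b c d hx hab hcd
    obtain ⟨m, hm, -, hmx, hmax⟩ := exists_swaps hM h2 hn hab hcd
    rw [← hmx]
    exact inR_map hM h2 hn hx hm (c := 1) (j := _) (by rw [one_smul]; exact hmax i₀)

/-- The stabiliser of a coordinate line gives a vector which is not a root and has a zero coordinate. -/
theorem exists_mixed (hM : Over M) (h2 : (2 : F) ≠ 0) (hn : 7 ≤ Fintype.card ι)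
    (h8 : Fintype.card ι ≠ 8) (i₀ : ι) {g : orth (sq F ι)}
    (hg : g ∈ M) (hgm : ¬ Mono g) : ∃ x, InR M i₀ x ∧ ¬ Root x ∧ ∃ z, x z = 0 := by
  classical
  have h := not_star_small hM h2 hn h8 hg hgm
  unfold Star at h
  push Not at h
  obtain ⟨m, hm, l, ⟨l', c, hc⟩, hmm⟩ := h
  have hc0 : c ≠ 0 := fun e => by
    have := col_dot m h2 l l
    rw [hc, e, zero_smul, zero_dotProduct, if_pos rfl] at this
    exact zero_ne_one this
  have hl' : sq F ι (ax l') ≠ 0 := by rw [sq_apply, dot_ax, ax_self]; exact one_ne_zero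
  have key : ∀ y : ι → F, y ⬝ᵥ y = 1 → PairIn M y (ax l) → InR M i₀ (m.1 y) := fun y hy hp => by
    refine ⟨by rw [map_dot_self, hy], ?_⟩
    have h := hp.map hm
    rw [hc] at h
    exact (pairIn_congr_right h hl' fun z => rv_smul hc0 _ z).trans (pair_ax hM h2 (by omega) l' i₀)
  have hzero : ∀ i, i ≠ l → m.1 (ax i) l' = 0 := fun i hi => by
    have := col_dot m h2 l i
    rw [hc, smul_dotProduct, dot_ax, if_neg (Ne.symm hi), smul_eq_mul] at this
    exact (mul_eq_zero.1 this).resolve_left hc0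
  by_contra hall
  push Not at hall
  obtain ⟨a, ha⟩ : ∃ a, ¬ ∃ j, ∃ d : F, m.1 (ax a) = d • ax j := by
    by_contra h'; push Not at h'; exact hmm h'
  have hal : a ≠ l := fun e => ha ⟨l', c, by rw [e, hc]⟩
  have hua : m.1 (ax a) ⬝ᵥ m.1 (ax a) = 1 := by rw [map_dot_self, dot_ax, ax_self]
  have hR : Root (m.1 (ax a)) := by
    by_contra hnr
    exact hall _ (key _ (by rw [dot_ax, ax_self]) (pair_ax hM h2 (by omega) a l)) hnr l' (hzero a hal)
  obtain ⟨i, j, hsupp, hval⟩ := hR
  set u := m.1 (ax a) with hu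
  have one : ∀ p q : ι, (∀ t, t ≠ p → t ≠ q → u t = 0) → u q = 0 → False := fun p q hs hq =>
    ha ⟨p, u p, funext fun t => by
      rcases eq_or_ne t p with rfl | h
      · simp [ax, hu]
      · rcases eq_or_ne t q with rfl | h'
        · rw [Pi.smul_apply, ax_ne h, smul_zero]; exact hq
        · rw [Pi.smul_apply, ax_ne h, smul_zero]; exact hs t h h'⟩
  have hj0 : u j ≠ 0 := fun e => one i j hsupp e
  have hi0 : u i ≠ 0 := fun e => one j i (fun t h h' => hsupp t h' h) e
  have hij : i ≠ j := by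
    rintro rfl
    exact ha ⟨i, u i, funext fun t => by
      rcases eq_or_ne t i with rfl | h
      · simp [ax, hu]
      · rw [Pi.smul_apply, ax_ne h, smul_zero]; exact hsupp t h h⟩
  have hsq : u i * u i = u j * u j := by
    rcases hval with h | h | h
    exacts [absurd h hi0, absurd h hj0, h]
  have h12 : 2 * (u i * u i) = 1 := by
    rw [← hua]
    rw [show u ⬝ᵥ u = u i * u i + u j * u j from
      Finset.sum_eq_add (s := Finset.univ) (f := fun t => u t * u t) i j hij
        (fun t _ ht => by rw [hsupp t ht.1 ht.2, zero_mul]) (by simp) (by simp), ← hsq]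
    ring
  set y := u i • (df a l : ι → F) with hy
  have hyy : y ⬝ᵥ y = 1 := by
    rw [hy, smul_dotProduct, dotProduct_smul, df_self hal, smul_eq_mul, smul_eq_mul]
    linear_combination h12
  have hpy : PairIn M y (ax l) := by
    refine pair_of_monoVec hM h2 (by omega) (fun k => ?_) (monoVec_ax l) (by rw [hyy]; exact one_ne_zero)
      (by rw [dot_ax, ax_self]; exact one_ne_zero) (by rw [hyy, dot_ax, ax_self]; exact ⟨1, rfl⟩)
    obtain ⟨q, e, he⟩ := monoVec_df h2 hal k
    exact ⟨q, e, by rw [hy, rv_smul hi0, he]⟩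
  have hz := key y hyy hpy
  have hmy : m.1 y = u i • (u - c • ax l') := by
    rw [hy, df, map_smul, map_sub, hc]
  have hil' : i ≠ l' := fun e => hi0 (e ▸ hzero a hal)
  have hjl' : j ≠ l' := fun e => hj0 (e ▸ hzero a hal)
  obtain ⟨z, hzi, hzj, hzl⟩ : ∃ z, z ≠ i ∧ z ≠ j ∧ z ≠ l' := by
    obtain ⟨z, hz⟩ := Finset.card_pos.1 (show 0 < ({i, j, l'} : Finset ι)ᶜ.card by
      rw [Finset.card_compl]; have := Finset.card_le_three (a := i) (b := j) (c := l'); omega)
    simp at hz
    exact ⟨z, hz.1, hz.2.1, hz.2.2⟩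
  refine hall _ hz ?_ z ?_
  · rintro ⟨p, q, hpq, -⟩
    have hne : ∀ t, (t = i ∨ t = j ∨ t = l') → (m.1 y) t ≠ 0 := by
      intro t ht
      rw [hmy, Pi.smul_apply, Pi.sub_apply, Pi.smul_apply, smul_eq_mul]
      rcases ht with rfl | rfl | rfl
      · rw [ax_ne hil', smul_zero, sub_zero]; exact mul_ne_zero hi0 hi0
      · rw [ax_ne hjl', smul_zero, sub_zero]; exact mul_ne_zero hi0 hj0
      · rw [show u t = 0 from hzero a hal, ax_self, smul_eq_mul, mul_one, zero_sub]; exact mul_ne_zero hi0 (neg_ne_zero.2 hc0)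
    have hmem : ∀ t, (t = i ∨ t = j ∨ t = l') → t ∈ ({p, q} : Finset ι) := fun t ht => by
      by_contra h'
      simp at h'
      exact hne t ht (hpq t h'.1 h'.2)
    have := Finset.card_le_card (show ({i, j, l'} : Finset ι) ⊆ {p, q} from fun t ht => by
      simp at ht; exact hmem t ht)
    rw [Finset.card_insert_of_notMem (by simp [hij, hil']), Finset.card_pair hjl'] at this
    have := Finset.card_le_two (a := p) (b := q)
    omega
  · rw [hmy, Pi.smul_apply, Pi.sub_apply, Pi.smul_apply, hsupp z hzi hzj, ax_ne hzl]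
    simp

end Cfsg.Agent.Frame10
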