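import Cfsg.Agent.Lib.Frame10Tern
import Cfsg.Agent.Lib.Frame10Set

/-!
A reflection-closed set of unit vectors reaching outside the roots of the monomial group contains all
unit vectors.
-/

set_option autoImplicit false
set_option linter.unusedSectionVars false
set_option linter.style.haveILetI false
set_option maxHeartbeats 800000

namespace Cfsg.Agent.Frame10

open Cfsg.Agent.Frame10Tern (nrm dt rf Sym e₁ e₂)
open scoped Matrix

variable {F : Type*} [Field F] {ι : Type*} [Fintype ι] [DecidableEq ι] [Fintype F] {R : (ι → F) → Prop}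

open Classical in
/-- The support. -/
noncomputable def supp (x : ι → F) : Finset ι := Finset.univ.filter fun t => x t ≠ 0

theorem mem_supp {x : ι → F} {t : ι} : t ∈ supp x ↔ x t ≠ 0 := by simp [supp]

theorem not_mem_supp {x : ι → F} {t : ι} : t ∉ supp x ↔ x t = 0 := by simp [supp]

theorem dot_on {x : ι → F} {A : Finset ι} (h : ∀ t, t ∉ A → x t = 0) (y : ι → F) :
    x ⬝ᵥ y = ∑ t ∈ A, x t * y t :=
  (Finset.sum_subset (Finset.subset_univ A) fun t _ ht => by rw [h t ht, zero_mul]).symm

theorem sum_supp (x : ι → F) : x ⬝ᵥ x = ∑ t ∈ supp x, x t * x t := dot_on (fun _ h => not_mem_supp.1 h) x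

theorem flip_eq (i : ι) (x : ι → F) (t : ι) : rv (ax i) x t = if t = i then -x t else x t := by
  rw [rv_ax, Function.update_apply]
  split_ifs with h <;> simp_all

theorem flips (hR : RSet R) {x : ι → F} (hx : R x) (A : Finset ι) : R (fun t => if t ∈ A then -x t else x t) := by
  induction A using Finset.induction_on with
  | empty => simpa using hx
  | @insert a A ha ih =>
    have := hR.flip a _ ih
    convert this using 1
    funext t
    rw [flip_eq]
    by_cases h : t = a
    · subst h; simp [ha]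
    · simp [h]

theorem same_squares (hR : RSet R) {x y : ι → F} (hx : R x) (h : ∀ t, y t * y t = x t * x t) : R y := by
  classical
  have := flips hR hx (Finset.univ.filter fun t => y t ≠ x t)
  convert this using 1
  funext t
  by_cases e : y t = x t
  · simp [e]
  · rcases mul_self_eq_mul_self_iff.1 (h t) with h' | h'
    · exact absurd h' e
    · simp [e, h']

theorem neg_mem (hR : RSet R) {x : ι → F} (hx : R x) : R (-x) :=
  same_squares hR hx fun t => by simp

theorem swap_mem (hR : RSet R) {x : ι → F} (hx : R x) {a b m m' : ι} (hab : a ≠ b) (hm : m ≠ m') (hma : m ≠ a)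
    (hmb : m ≠ b) (hma' : m' ≠ a) (hmb' : m' ≠ b) (hsq : x m * x m = x m' * x m') : R (x ∘ Equiv.swap a b) := by
  refine same_squares hR (hR.perm x a b m m' hx hab hm) fun t => ?_
  simp only [Function.comp_apply, Equiv.Perm.mul_apply]
  rcases eq_or_ne t a with rfl | ha
  · rw [Equiv.swap_apply_left, Equiv.swap_apply_of_ne_of_ne hmb.symm hmb'.symm]
  rcases eq_or_ne t b with rfl | hb
  · rw [Equiv.swap_apply_right, Equiv.swap_apply_of_ne_of_ne hma.symm hma'.symm]
  rw [Equiv.swap_apply_of_ne_of_ne ha hb]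
  rcases eq_or_ne t m with rfl | h1
  · rw [Equiv.swap_apply_left, hsq]
  rcases eq_or_ne t m' with rfl | h1'
  · rw [Equiv.swap_apply_right, hsq]
  rw [Equiv.swap_apply_of_ne_of_ne h1 h1']

theorem exists_two (hn : 7 ≤ Fintype.card ι) (A : Finset ι) (hA : A.card + 2 ≤ Fintype.card ι) :
    ∃ m m', m ≠ m' ∧ m ∉ A ∧ m' ∉ A := by
  obtain ⟨m, hm, m', hm', hne⟩ := Finset.one_lt_card.1 (show 1 < Aᶜ.card by rw [Finset.card_compl]; omega)
  exact ⟨m, m', hne, Finset.mem_compl.1 hm, Finset.mem_compl.1 hm'⟩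

theorem swap_small (hR : RSet R) (hn : 7 ≤ Fintype.card ι) {x : ι → F} (hx : R x) (hw : (supp x).card ≤ 3) (a b : ι) :
    R (x ∘ Equiv.swap a b) := by
  rcases eq_or_ne a b with rfl | hab
  · simpa using hx
  obtain ⟨m, m', hm, h1, h1'⟩ := exists_two hn (supp x ∪ {a, b}) (by
    have := Finset.card_union_le (supp x) {a, b}
    have := Finset.card_le_two (a := a) (b := b)
    omega)
  rw [Finset.notMem_union, not_mem_supp, Finset.mem_insert, Finset.mem_singleton, not_or] at h1 h1'
  exact swap_mem hR hx hab hm h1.2.1 h1.2.2 h1'.2.1 h1'.2.2 (by rw [h1.1, h1'.1])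

theorem perm_small (hR : RSet R) (hn : 7 ≤ Fintype.card ι) (σ : Equiv.Perm ι) :
    ∀ {x : ι → F}, R x → (supp x).card ≤ 3 → R (x ∘ σ) := by
  induction σ using Equiv.Perm.swap_induction_on with
  | one => intro x hx _; exact hx
  | swap_mul f a b _ ih =>
    intro x hx hw
    have e : x ∘ ⇑(Equiv.swap a b * f) = (x ∘ Equiv.swap a b) ∘ f := rfl
    rw [e]
    refine ih (swap_small hR hn hx hw a b) (le_trans (le_of_eq ?_) hw)
    have : supp (x ∘ Equiv.swap a b) = (supp x).map (Equiv.swap a b).toEmbedding := by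
      ext t; simp [mem_supp, Finset.mem_map_equiv]
    rw [this, Finset.card_map]

theorem not_root_two {x : ι → F} {i j : ι} (hij : i ≠ j) (hi : x i ≠ 0) (hj : x j ≠ 0) (h : x i * x i ≠ x j * x j) :
    ¬ Root x := by
  rintro ⟨a, b, hab, hv⟩
  have key : ∀ t, x t ≠ 0 → t = a ∨ t = b := fun t ht => by
    by_contra hc; push Not at hc; exact ht (hab t hc.1 hc.2)
  rcases key i hi with rfl | rfl <;> rcases key j hj with rfl | rfl
  · exact hij rfl
  · rcases hv with e | e | e
    exacts [hi e, hj e, h e]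
  · rcases hv with e | e | e
    exacts [hj e, hi e, h e.symm]
  · exact hij rfl

theorem not_root_of_card {x : ι → F} (h : 3 ≤ (supp x).card) : ¬ Root x := by
  rintro ⟨a, b, hab, -⟩
  have hsub : supp x ⊆ {a, b} := fun t ht => by
    by_contra hc
    simp at hc
    exact mem_supp.1 ht (hab t hc.1 hc.2)
  have := Finset.card_le_card hsub
  have := Finset.card_le_two (a := a) (b := b)
  omega

/-- The vector with three given components. -/
def emb (i l : ι) (u : ι → F) (v : Fin 3 → F) : ι → F := v 0 • ax i + v 1 • ax l + v 2 • u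

section emb

variable {i l : ι} {u : ι → F}

theorem emb_dot (hil : i ≠ l) (hi : u i = 0) (hl : u l = 0) (v w : Fin 3 → F) :
    emb i l u v ⬝ᵥ emb i l u w = dt (u ⬝ᵥ u) v w := by
  simp only [emb, dt, add_dotProduct, dotProduct_add, smul_dotProduct, dotProduct_smul, dot_ax, dot_ax',
    Pi.add_apply, Pi.smul_apply, ax_self, ax_ne hil, ax_ne hil.symm, hi, hl, smul_eq_mul]
  ring

theorem rv_emb (hil : i ≠ l) (hi : u i = 0) (hl : u l = 0) {z : ι → F} (hzi : z i = 0) (hzl : z l = 0)
    (hzu : u ⬝ᵥ z = 0) (w v : Fin 3 → F) :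
    rv (emb i l u w) (emb i l u v + z) = emb i l u (rf (u ⬝ᵥ u) w v) + z := by
  have hz : emb i l u w ⬝ᵥ z = 0 := by
    simp [emb, add_dotProduct, smul_dotProduct, dot_ax, hzi, hzl, hzu]
  rw [rv, dotProduct_add, hz, add_zero, emb_dot hil hi hl, emb_dot hil hi hl]
  simp only [rf, nrm, dt, emb, Pi.sub_apply, Pi.smul_apply, smul_eq_mul]
  funext t
  simp [Pi.add_apply, Pi.smul_apply]
  ring

theorem sym_of_mem (hR : RSet R) (hil : i ≠ l) (hi : u i = 0) (hl : u l = 0) {z : ι → F} (hzi : z i = 0)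
    (hzl : z l = 0) (hzu : u ⬝ᵥ z = 0) {w : Fin 3 → F} (hw : R (emb i l u w)) :
    Sym (u ⬝ᵥ u) (fun v => R (emb i l u v + z)) w := by
  have h1 := hR.unit _ hw
  rw [emb_dot hil hi hl] at h1
  refine ⟨?_, fun v hv => ?_⟩
  · show dt (u ⬝ᵥ u) w w ≠ 0
    rw [h1]; exact one_ne_zero
  · show R _
    rw [← rv_emb hil hi hl hzi hzl hzu w v]
    exact hR.closed _ _ hw hv

theorem emb_e₁ : emb i l u e₁ = ax i := by simp [emb, e₁]

theorem emb_e₂ : emb i l u e₂ = ax l := by simp [emb, e₂]

theorem emb_at (hil : i ≠ l) (hi : u i = 0) (hl : u l = 0) (v : Fin 3 → F) :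
    emb i l u v i = v 0 ∧ emb i l u v l = v 1 ∧ ∀ t, t ≠ i → t ≠ l → emb i l u v t = v 2 * u t := by
  refine ⟨by simp [emb, ax, hil, hi], by simp [emb, ax, hil.symm, hl], fun t h1 h3 => by simp [emb, ax, h1, h3]⟩

theorem nrm_pm {c s : F} (hs : s = 1 ∨ s = -1) : nrm c ![1, s, 0] = 2 := by
  rcases hs with rfl | rfl <;> (simp [nrm]; norm_num)

theorem sym_swap (hR : RSet R) (h2 : (2 : F) ≠ 0) (hil : i ≠ l) (hi : u i = 0) (hl : u l = 0) {m m' : ι}
    (hm : m ≠ m') (hmi : m ≠ i) (hml : m ≠ l) (hmi' : m' ≠ i) (hml' : m' ≠ l) (hsq : u m * u m = u m' * u m')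
    {s : F} (hs : s = 1 ∨ s = -1) : Sym (u ⬝ᵥ u) (fun v => R (emb i l u v)) ![1, s, 0] := by
  refine ⟨by rw [nrm_pm hs]; exact h2, fun v hv => ?_⟩
  show R _
  obtain ⟨a0, a1, a2⟩ := emb_at hil hi hl v
  have hsq' : emb i l u v m * emb i l u v m = emb i l u v m' * emb i l u v m' := by
    rw [a2 m hmi hml, a2 m' hmi' hml']; linear_combination (v 2 * v 2) * hsq
  refine same_squares hR (swap_mem hR hv hil hm hmi hml hmi' hml' hsq') fun t => ?_
  obtain ⟨b0, b1, b2⟩ := emb_at hil hi hl (rf (u ⬝ᵥ u) ![1, s, 0] v)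
  have hd : ∀ k, rf (u ⬝ᵥ u) ![1, s, 0] v k = v k - (v 0 + s * v 1) * (![1, s, 0] : Fin 3 → F) k := fun k => by
    simp only [rf, Pi.sub_apply, Pi.smul_apply, smul_eq_mul]
    rw [nrm_pm hs, mul_div_cancel_left₀ _ h2]
    simp [dt]
  simp only [Function.comp_apply]
  rcases eq_or_ne t i with rfl | hti
  · rw [Equiv.swap_apply_left, a1, b0, hd]
    rcases hs with rfl | rfl <;> simp
  rcases eq_or_ne t l with rfl | htl
  · rw [Equiv.swap_apply_right, a0, b1, hd]
    rcases hs with rfl | rfl <;> simp <;> ring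
  rw [Equiv.swap_apply_of_ne_of_ne hti htl, a2 t hti htl, b2 t hti htl, hd]
  simp

/-- All unit vectors of the three-space, from a coordinate exchange. -/
theorem units_swap (hR : RSet R) (h2 : (2 : F) ≠ 0) (hp : (Fintype.card F).Prime) (hil : i ≠ l) (hi : u i = 0)
    (hl : u l = 0) (hc : u ⬝ᵥ u ≠ 0) {m m' : ι} (hm : m ≠ m') (hmi : m ≠ i) (hml : m ≠ l) (hmi' : m' ≠ i)
    (hml' : m' ≠ l) (hsq : u m * u m = u m' * u m') {x w : Fin 3 → F} (hx : R (emb i l u x)) (hx2 : x 2 ≠ 0)
    (hw : w = e₁ ∨ ∃ s : F, (s = 1 ∨ s = -1) ∧ w = ![1, s, 0])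
    (hd0 : dt (u ⬝ᵥ u) w x ≠ 0) (hd4 : 4 * (dt (u ⬝ᵥ u) w x * dt (u ⬝ᵥ u) w x) ≠ nrm (u ⬝ᵥ u) w)
    (hd2 : 2 * (dt (u ⬝ᵥ u) w x * dt (u ⬝ᵥ u) w x) ≠ nrm (u ⬝ᵥ u) w)
    {v : Fin 3 → F} (hv : nrm (u ⬝ᵥ u) v = 1) : R (emb i l u v) := by
  set P : (Fin 3 → F) → Prop := fun v => R (emb i l u v)
  have hS : ∀ {y}, R (emb i l u y) → Sym (u ⬝ᵥ u) P y := fun {y} hy => by
    have := sym_of_mem hR hil hi hl (z := 0) rfl rfl (dotProduct_zero u) hy
    simp only [add_zero] at this
    exact this
  have hneg : ∀ v, P v → P (-v) := fun v hv => by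
    show R _
    have : emb i l u (-v) = -emb i l u v := by simp [emb]; abel
    rw [this]; exact neg_mem hR hv
  have hxx : nrm (u ⬝ᵥ u) x = 1 := (emb_dot hil hi hl x x).symm.trans (hR.unit _ hx)
  have h1 : Sym (u ⬝ᵥ u) P e₁ := hS (by rw [emb_e₁]; exact hR.axis i)
  have hsw : ∀ {s : F}, (s = 1 ∨ s = -1) → Sym (u ⬝ᵥ u) P ![1, s, 0] :=
    fun {s} hs => sym_swap hR h2 hil hi hl hm hmi hml hmi' hml' hsq hs
  have hws : Sym (u ⬝ᵥ u) P w ∧ w 2 = 0 := by
    rcases hw with rfl | ⟨s, hs, rfl⟩
    · exact ⟨h1, rfl⟩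
    · exact ⟨hsw hs, rfl⟩
  exact Frame10Tern.sweep_swap hc h2 hp hneg h1 (hS (by rw [emb_e₂]; exact hR.axis l)) (hsw (Or.inl rfl))
    (hS hx) hws.1 hws.2 hx2 hd0 (by rwa [hxx, mul_one]) (by rwa [hxx, mul_one]) (v := e₁)
    (by rw [Frame10Tern.nrm_e₁, hv]) (by rw [Frame10Tern.nrm_e₁]; exact one_ne_zero)
    (show R _ by rw [emb_e₁]; exact hR.axis i)

/-- All unit vectors of the three-space, from three reflections in general position. -/
theorem units_full (hR : RSet R) (h2 : (2 : F) ≠ 0) (hp : (Fintype.card F).Prime) (hil : i ≠ l) (hi : u i = 0)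
    (hl : u l = 0) (hc : u ⬝ᵥ u ≠ 0) {x : Fin 3 → F} (hx : R (emb i l u x)) (hx0 : x 0 ≠ 0) (hx1 : x 1 ≠ 0)
    (hx2 : x 2 ≠ 0) (hA : x 0 * x 0 = 1 ∨ (4 * (x 0 * x 0) ≠ 1 ∧ 2 * (x 0 * x 0) ≠ 1 ∧
      16 * (x 0 * x 0) ^ 2 - 12 * (x 0 * x 0) + 1 ≠ 0))
    {v : Fin 3 → F} (hv : nrm (u ⬝ᵥ u) v = 1) : R (emb i l u v) := by
  set P : (Fin 3 → F) → Prop := fun v => R (emb i l u v)
  have hS : ∀ {y}, R (emb i l u y) → Sym (u ⬝ᵥ u) P y := fun {y} hy => by
    have := sym_of_mem hR hil hi hl (z := 0) rfl rfl (dotProduct_zero u) hy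
    simp only [add_zero] at this
    exact this
  have hneg : ∀ v, P v → P (-v) := fun v hv => by
    show R _
    have : emb i l u (-v) = -emb i l u v := by simp [emb]; abel
    rw [this]; exact neg_mem hR hv
  exact Frame10Tern.sweep_full hc h2 hp hneg (hS (by rw [emb_e₁]; exact hR.axis i))
    (hS (by rw [emb_e₂]; exact hR.axis l)) (hS hx) ((emb_dot hil hi hl x x).symm.trans (hR.unit _ hx)) hx0 hx1 hx2 hA
    (v := e₁) (by rw [Frame10Tern.nrm_e₁, hv]) (by rw [Frame10Tern.nrm_e₁]; exact one_ne_zero)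
    (show R _ by rw [emb_e₁]; exact hR.axis i)

end emb

/-- Doubling a part of value one quarter. -/
theorem shrink (hR : RSet R) (h2 : (2 : F) ≠ 0) {x : ι → F} (hx : R x) {A : Finset ι} (hA : A ⊆ supp x)
    (hT : 4 * ∑ t ∈ A, x t * x t = 1) : ∃ y, R y ∧ supp y = A ∧ ∀ t ∈ A, y t * y t = 4 * (x t * x t) := by
  set y : ι → F := fun t => if t ∈ A then -x t else x t with hy
  have hRy : R y := flips hR hx A
  have hd : y ⬝ᵥ x = x ⬝ᵥ x - 2 * ∑ t ∈ A, x t * x t := by
    rw [dotProduct, dotProduct, Finset.mul_sum, ← Finset.sum_add_sum_compl A (fun t => y t * x t),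
      ← Finset.sum_add_sum_compl A (fun t => x t * x t),
      Finset.sum_congr rfl (fun t (ht : t ∈ A) => show y t * x t = -(x t * x t) by simp [hy, ht]),
      Finset.sum_congr (f := fun t => y t * x t) (g := fun t => x t * x t) rfl
        (fun t (ht : t ∈ Aᶜ) => by simp [hy, Finset.mem_compl.1 ht]),
      Finset.sum_neg_distrib, ← Finset.mul_sum]
    ring
  have e : rv y x = fun t => if t ∈ A then 2 * x t else 0 := by
    funext t
    rw [rv, hd, hR.unit y hRy, hR.unit x hx, div_one, Pi.sub_apply, Pi.smul_apply, smul_eq_mul]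
    have h1 : 2 * (1 - 2 * ∑ t ∈ A, x t * x t) = 1 := by linear_combination -hT
    rw [h1, one_mul]
    simp only [hy]
    split_ifs <;> ring
  refine ⟨rv y x, hR.closed _ _ hRy hx, ?_, fun t ht => by rw [e]; simp only [if_pos ht]; ring⟩
  ext t
  rw [mem_supp, e]
  by_cases ht : t ∈ A
  · simp [ht, h2, mem_supp.1 (hA ht)]
  · simp [ht]

theorem cast_ne (hp : (Fintype.card F).Prime) {k : ℕ} (hk : ¬ Fintype.card F ∣ k) : (k : F) ≠ 0 := by
  haveI := Fact.mk hp
  haveI : CharP F (Fintype.card F) := charP_of_card_eq_prime rfl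
  rwa [Ne, CharP.cast_eq_zero_iff F (Fintype.card F)]

theorem dvd_of_cast (hp : (Fintype.card F).Prime) {k : ℕ} (hk : (k : F) = 0) : Fintype.card F ∣ k := by
  haveI := Fact.mk hp
  haveI : CharP F (Fintype.card F) := charP_of_card_eq_prime rfl
  exact (CharP.cast_eq_zero_iff F (Fintype.card F) k).1 hk

theorem small_ne (hp : (Fintype.card F).Prime) {k : ℕ} (hk : k < Fintype.card F) (hk0 : k ≠ 0) : (k : F) ≠ 0 :=
  cast_ne hp fun h => by have := Nat.le_of_dvd (Nat.pos_of_ne_zero hk0) h; omega

/-- A vector that is not a root on at most three coordinates. -/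
def Short (R : (ι → F) → Prop) : Prop := ∃ y, R y ∧ ¬ Root y ∧ (supp y).card ≤ 3

/-- A second value on the circle. -/
theorem exists_circle (hp : (Fintype.card F).Prime) (h11 : 11 ≤ Fintype.card F) :
    ∃ α β : F, α * α + β * β = 1 ∧ α ≠ 0 ∧ β ≠ 0 ∧ α * α ≠ β * β := by
  classical
  have h2 : (2 : F) ≠ 0 := by exact_mod_cast small_ne hp (k := 2) (by omega) (by norm_num)
  open Polynomial in
  let f : F[X] := X * (X ^ 2 - C 1) * (X ^ 2 + C 1) * (((X ^ 2 - C 1) ^ 2) - C 4 * X ^ 2)
  open Polynomial in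
  have hdeg : f.natDegree ≤ 9 := by
    simp only [f]
    compute_degree
  open Polynomial in
  have hf : f ≠ 0 := by
    refine mul_ne_zero (mul_ne_zero (mul_ne_zero X_ne_zero ?_) ?_) ?_
    · exact X_pow_sub_C_ne_zero (by norm_num) _
    · exact X_pow_add_C_ne_zero (by norm_num) _
    · intro h
      have := congrArg (Polynomial.eval 0) h
      simp at this
  obtain ⟨t, ht⟩ : ∃ t, f.eval t ≠ 0 := by
    by_contra h
    push Not at h
    have hle : Fintype.card F ≤ f.roots.toFinset.card :=
      Finset.card_le_card (s := Finset.univ) fun t _ => by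
        rw [Multiset.mem_toFinset, Polynomial.mem_roots hf]; exact h t
    have := Multiset.toFinset_card_le f.roots
    have := Polynomial.card_roots' f
    omega
  simp [f] at ht
  obtain ⟨⟨⟨ht0, hm⟩, hpl⟩, hd⟩ := ht
  have hpl' : 1 + t * t ≠ 0 := fun e => hpl (by linear_combination e)
  refine ⟨2 * t / (1 + t * t), (1 - t * t) / (1 + t * t), ?_, div_ne_zero (mul_ne_zero h2 ht0) hpl',
    div_ne_zero (fun e => hm (by linear_combination -e)) hpl', fun e => hd ?_⟩
  · rw [div_mul_div_comm, div_mul_div_comm, ← add_div, div_eq_one_iff_eq (mul_ne_zero hpl' hpl')]; ring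
  · rw [div_mul_div_comm, div_mul_div_comm, div_left_inj' (mul_ne_zero hpl' hpl')] at e
    linear_combination -e

theorem short_of_units (hp : (Fintype.card F).Prime) (h11 : 11 ≤ Fintype.card F) {i l : ι} (hil : i ≠ l)
    {u : ι → F} (hi : u i = 0) (hl : u l = 0) (h : ∀ v, nrm (u ⬝ᵥ u) v = 1 → R (emb i l u v)) : Short R := by
  obtain ⟨α, β, hαβ, hα, hβ, hne⟩ := exists_circle hp h11
  refine ⟨emb i l u ![α, β, 0], h _ (by simp [nrm]; linear_combination hαβ), ?_, ?_⟩
  · obtain ⟨a0, a1, -⟩ := emb_at hil hi hl ![α, β, 0]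
    exact not_root_two hil (by rw [a0]; exact hα) (by rw [a1]; exact hβ) (by rw [a0, a1]; exact hne)
  · refine le_trans (Finset.card_le_card (t := {i, l}) fun t ht => ?_) (Finset.card_le_two.trans (by norm_num))
    by_contra hc
    simp at hc
    obtain ⟨-, -, a2⟩ := emb_at hil hi hl ![α, β, 0]
    exact mem_supp.1 ht (by rw [a2 t hc.1 hc.2]; simp)

/-- The coordinate exchange argument. -/
theorem short_of_swap (hR : RSet R) (hp : (Fintype.card F).Prime) (h11 : 11 ≤ Fintype.card F)
    (hn : 7 ≤ Fintype.card ι) {x : ι → F} (hx : R x) {i l : ι} (hi : x i ≠ 0) (hl : x l = 0)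
    (ha2 : 2 * (x i * x i) ≠ 1) (ha1 : x i * x i ≠ 1) {V : Finset F} (hV : V.card ≤ 4)
    (hval : ∀ t ∈ supp x, x t * x t ∈ V) : Short R := by
  classical
  have h2 : (2 : F) ≠ 0 := by exact_mod_cast small_ne hp (k := 2) (by omega) (by norm_num)
  obtain ⟨i, hi, ha2, ha1, hil, m, m', hm, hmi, hml, hmi', hml', hsq⟩ : ∃ i, x i ≠ 0 ∧ 2 * (x i * x i) ≠ 1 ∧
      x i * x i ≠ 1 ∧ i ≠ l ∧ ∃ m m', m ≠ m' ∧ m ≠ i ∧ m ≠ l ∧ m' ≠ i ∧ m' ≠ l ∧
      x m * x m = x m' * x m' := by
    have hnl : ∀ t ∈ supp x, t ≠ l := fun t ht e => mem_supp.1 ht (e ▸ hl)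
    by_cases hk : (supp x).card + 3 ≤ Fintype.card ι
    · obtain ⟨m, m', hm, h1, h1'⟩ := exists_two hn (insert l (supp x)) (by
        rw [Finset.card_insert_of_notMem (not_mem_supp.2 hl)]; omega)
      simp [mem_supp] at h1 h1'
      exact ⟨i, hi, ha2, ha1, fun e => hi (e ▸ hl), m, m', hm, fun e => hi (e ▸ h1.2), h1.1,
        fun e => hi (e ▸ h1'.2), h1'.1, by rw [h1.2, h1'.2]⟩
    obtain ⟨a, ha, b, hb, hab, he⟩ := Finset.exists_ne_map_eq_of_card_lt_of_maps_to (s := supp x)
      (t := V) (by omega) (f := fun t => x t * x t) hval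
    by_cases hgood : ∃ c ∈ supp x, c ≠ a ∧ c ≠ b ∧ 2 * (x c * x c) ≠ 1 ∧ x c * x c ≠ 1
    · obtain ⟨c, hc, hca, hcb, h3, h4⟩ := hgood
      exact ⟨c, mem_supp.1 hc, h3, h4, hnl c hc, a, b, hab, Ne.symm hca, hnl a ha, Ne.symm hcb, hnl b hb, he⟩
    push Not at hgood
    have hbad : ∀ c ∈ ((supp x).erase a).erase b, x c * x c = 2⁻¹ ∨ x c * x c = 1 := fun c hc => by
      obtain ⟨hcb, hc'⟩ := Finset.mem_erase.1 hc
      obtain ⟨hca, hcs⟩ := Finset.mem_erase.1 hc'
      by_cases h : 2 * (x c * x c) = 1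
      · exact Or.inl (eq_inv_of_mul_eq_one_right h)
      · exact Or.inr (hgood c hcs hca hcb h)
    obtain ⟨c, hc, d, hd, hcd, he'⟩ := Finset.exists_ne_map_eq_of_card_lt_of_maps_to
      (s := ((supp x).erase a).erase b) (t := ({2⁻¹, 1} : Finset F)) (by
        have := Finset.card_le_two (a := (2 : F)⁻¹) (b := (1 : F))
        rw [Finset.card_erase_of_mem (Finset.mem_erase.2 ⟨hab.symm, hb⟩), Finset.card_erase_of_mem ha]
        omega) (f := fun t => x t * x t) (fun t ht => by simpa using hbad t ht)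
    have hne : ∀ t ∈ ((supp x).erase a).erase b, t ≠ i := fun t ht e => by
      subst e
      rcases hbad t ht with h | h
      · exact ha2 (by rw [h]; exact mul_inv_cancel₀ h2)
      · exact ha1 h
    exact ⟨i, hi, ha2, ha1, fun e => hi (e ▸ hl), c, d, hcd, hne c hc,
      hnl c (Finset.mem_of_mem_erase (Finset.mem_of_mem_erase hc)), hne d hd,
      hnl d (Finset.mem_of_mem_erase (Finset.mem_of_mem_erase hd)), he'⟩
  set u := x - x i • ax i with hu
  have hui : u i = 0 := by simp [hu, ax]
  have hul : u l = 0 := by simp [hu, ax, hil.symm, hl]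
  have hut : ∀ t, t ≠ i → u t = x t := fun t ht => by simp [hu, ax, ht]
  have hxe : emb i l u ![x i, 0, 1] = x := by simp [emb, hu]
  have hc : u ⬝ᵥ u = 1 - x i * x i := by
    have h := emb_dot hil hui hul ![x i, 0, 1] ![x i, 0, 1]
    rw [hxe, hR.unit x hx] at h
    simp [dt] at h
    linear_combination -h
  refine short_of_units hp h11 hil hui hul fun v hv => units_swap hR h2 hp hil hui hul
    (by rw [hc]; exact sub_ne_zero.2 (Ne.symm ha1)) hm hmi hml hmi' hml'
    (by rw [hut m hmi, hut m' hmi']; exact hsq) (x := ![x i, 0, 1]) (w := ![1, 1, 0]) (by rw [hxe]; exact hx)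
    one_ne_zero (Or.inr ⟨1, Or.inl rfl, rfl⟩) ?_ ?_ ?_ hv
  · simpa [dt] using hi
  · rw [nrm_pm (Or.inl rfl)]
    simp [dt]
    exact fun e => ha2 (mul_left_cancel₀ h2 (by linear_combination e))
  · rw [nrm_pm (Or.inl rfl)]
    simp [dt]
    exact fun e => ha1 (mul_left_cancel₀ h2 (by linear_combination e))

theorem short_large (hR : RSet R) (hp : (Fintype.card F).Prime) (h11 : 11 ≤ Fintype.card F)
    (hn : 7 ≤ Fintype.card ι) {x : ι → F} (hx : R x) (hnr : ¬ Root x) {z : ι} (hz : x z = 0) : Short R := by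
  classical
  by_cases hk : (supp x).card ≤ 3
  · exact ⟨x, hx, hnr, hk⟩
  have h2 : (2 : F) ≠ 0 := by exact_mod_cast small_ne hp (k := 2) (by omega) (by norm_num)
  have h3 : (3 : F) ≠ 0 := by exact_mod_cast small_ne hp (k := 3) (by omega) (by norm_num)
  have h4 : (4 : F) ≠ 0 := by exact_mod_cast small_ne hp (k := 4) (by omega) (by norm_num)
  -- three reflections in general position
  by_cases hB : ∃ i ∈ supp x, ∃ j ∈ supp x, i ≠ j ∧ x i * x i + x j * x j ≠ 1 ∧
      (x i * x i = 1 ∨ (4 * (x i * x i) ≠ 1 ∧ 2 * (x i * x i) ≠ 1 ∧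
        16 * (x i * x i) ^ 2 - 12 * (x i * x i) + 1 ≠ 0))
  · obtain ⟨i, hi, j, hj, hij, hsum, hA⟩ := hB
    set u := x - x i • ax i - x j • ax j with hu
    have hui : u i = 0 := by simp [hu, ax, hij]
    have huj : u j = 0 := by simp [hu, ax, hij.symm]
    have hxe : emb i j u ![x i, x j, 1] = x := by simp [emb, hu]
    have hc : u ⬝ᵥ u = 1 - x i * x i - x j * x j := by
      have h := emb_dot hij hui huj ![x i, x j, 1] ![x i, x j, 1]
      rw [hxe, hR.unit x hx] at h
      simp [dt] at h
      linear_combination -h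
    exact short_of_units hp h11 hij hui huj fun v hv => units_full hR h2 hp hij hui huj
      (by rw [hc]; intro e; exact hsum (by linear_combination -e)) (x := ![x i, x j, 1]) (by rw [hxe]; exact hx)
      (show x i ≠ 0 from mem_supp.1 hi) (show x j ≠ 0 from mem_supp.1 hj) one_ne_zero hA hv
  push Not at hB
  have hone : ∀ i ∈ supp x, x i * x i ≠ 1 := by
    intro i hi e
    obtain ⟨j, hj, hji⟩ := Finset.exists_mem_ne (show 1 < (supp x).card by omega) i
    exact (hB i hi j hj hji.symm (by rw [e]; intro h; exact mul_ne_zero (mem_supp.1 hj) (mem_supp.1 hj) (by linear_combination h))).1 e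
  -- few values
  obtain ⟨V, hV, hval⟩ : ∃ V : Finset F, V.card ≤ 4 ∧ ∀ t ∈ supp x, x t * x t ∈ V := by
    set L : Finset F := Finset.univ.filter fun A => 4 * A = 1 ∨ 2 * A = 1 ∨ 16 * A ^ 2 - 12 * A + 1 = 0
    by_cases hL : ∀ t ∈ supp x, x t * x t ∈ L
    · refine ⟨L, ?_, hL⟩
      set L2 : Finset F := Finset.univ.filter fun A => 16 * A ^ 2 - 12 * A + 1 = 0
      have hsub : L ⊆ {4⁻¹, 2⁻¹} ∪ L2 := fun A hA => by
        simp [L, L2] at hA ⊢
        rcases hA with h | h | h
        · exact Or.inl (eq_inv_of_mul_eq_one_left (show A * 4 = 1 by linear_combination h))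
        · exact Or.inr (Or.inl (eq_inv_of_mul_eq_one_left (show A * 2 = 1 by linear_combination h)))
        · exact Or.inr (Or.inr h)
      have hL2 : L2.card ≤ 2 := by
        by_contra hc
        obtain ⟨a, b, c, ha, hb, hc', hab, hac, hbc⟩ := Finset.two_lt_card_iff.1 (by omega : 2 < L2.card)
        simp [L2] at ha hb hc'
        have e1 : 4 * (a + b) - 3 = 0 := (mul_eq_zero.1 (show (4 * (a - b)) * (4 * (a + b) - 3) = 0 by
          linear_combination ha - hb)).resolve_left (mul_ne_zero h4 (sub_ne_zero.2 hab))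
        have e2 : 4 * (a + c) - 3 = 0 := (mul_eq_zero.1 (show (4 * (a - c)) * (4 * (a + c) - 3) = 0 by
          linear_combination ha - hc')).resolve_left (mul_ne_zero h4 (sub_ne_zero.2 hac))
        exact hbc (mul_left_cancel₀ h4 (by linear_combination e1 - e2))
      have := Finset.card_le_card hsub
      have := Finset.card_union_le ({4⁻¹, 2⁻¹} : Finset F) L2
      have := Finset.card_le_two (a := (4 : F)⁻¹) (b := 2⁻¹)
      omega
    · push Not at hL
      obtain ⟨i, hi, hiL⟩ := hL
      refine ⟨{x i * x i, 1 - x i * x i}, Finset.card_le_two.trans (by norm_num), fun t ht => ?_⟩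
      simp [L] at hiL
      rcases eq_or_ne t i with rfl | hti
      · simp
      simp only [Finset.mem_insert, Finset.mem_singleton]
      right
      by_contra hne
      have h := hB i hi t ht hti.symm fun e => hne (by linear_combination e)
      exact hiL.2.2 (h.2 hiL.1 hiL.2.1)
  by_cases hhalf : ∀ t ∈ supp x, 2 * (x t * x t) = 1
  · -- all squares one half
    have hkF : ((supp x).card : F) = 2 := by
      have h := sum_supp x
      rw [hR.unit x hx] at h
      have : (2 : F) * 1 = ∑ t ∈ supp x, 2 * (x t * x t) := by rw [← Finset.mul_sum, ← h]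
      rw [Finset.sum_congr rfl hhalf, Finset.sum_const, nsmul_one, mul_one] at this
      exact this.symm
    have hdvd := dvd_of_cast hp (k := (supp x).card - 2) (by rw [Nat.cast_sub (by omega), hkF]; simp)
    have hle := Nat.le_of_dvd (by omega) hdvd
    set h := (Fintype.card F + 1) / 2
    have hodd : Fintype.card F % 2 = 1 := Nat.Prime.eq_two_or_odd hp |>.resolve_left (by omega)
    obtain ⟨A, hA, hAc⟩ := Finset.exists_subset_card_eq (show h ≤ (supp x).card by omega)
    have hh : (2 : F) * (h : F) = 1 := by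
      have : ((2 * h : ℕ) : F) = ((Fintype.card F + 1 : ℕ) : F) := by congr 1; omega
      push_cast at this
      rw [FiniteField.cast_card_eq_zero, zero_add] at this
      exact this
    obtain ⟨y, hy, hys, hyv⟩ := shrink hR h2 hx hA (by
      rw [show (4 : F) * ∑ t ∈ A, x t * x t = 2 * ∑ t ∈ A, 2 * (x t * x t) by rw [← Finset.mul_sum]; ring,
        Finset.sum_congr rfl fun t ht => hhalf t (hA ht), Finset.sum_const, nsmul_one, hAc]
      exact hh)
    obtain ⟨i, hi⟩ := Finset.card_pos.1 (show 0 < A.card by omega)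
    obtain ⟨l, hl⟩ := Finset.card_pos.1 (show 0 < Aᶜ.card by
      rw [Finset.card_compl, hAc]
      have : (supp x).card < Fintype.card ι := Finset.card_lt_univ_of_notMem (not_mem_supp.2 hz)
      omega)
    have hy2 : ∀ t ∈ A, y t * y t = 2 := fun t ht => by
      rw [hyv t ht]; linear_combination 2 * hhalf t (hA ht)
    refine short_of_swap hR hp h11 hn hy (i := i) (l := l) (mem_supp.1 (hys ▸ hi))
      (not_mem_supp.1 (hys ▸ Finset.mem_compl.1 hl)) ?_ ?_ (V := {2}) (by simp) fun t ht => ?_
    · rw [hy2 i hi]; exact fun e => h3 (by linear_combination e)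
    · rw [hy2 i hi]; exact fun e => one_ne_zero (show (1 : F) = 0 by linear_combination e)
    · rw [Finset.mem_singleton, hy2 t (hys ▸ ht)]
  push Not at hhalf
  obtain ⟨i, hi, hi2⟩ := hhalf
  exact short_of_swap hR hp h11 hn hx (mem_supp.1 hi) hz hi2 (hone i hi) hV hval

/-- An overlapping copy of a vector on four coordinates. -/
theorem overlap (hR : RSet R) (hn : 7 ≤ Fintype.card ι) {x : ι → F} (hx : R x) (h4 : (supp x).card = 4) {q : F}
    (hq : ∀ t ∈ supp x, x t * x t = q) :
    ∃ z, R z ∧ ∃ a b c d e, a ≠ b ∧ a ≠ c ∧ b ≠ c ∧ a ≠ d ∧ b ≠ d ∧ c ≠ d ∧ e ≠ a ∧ e ≠ b ∧ e ≠ c ∧ e ≠ d ∧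
      supp z ⊆ {a, b, c, d, e} ∧ z a * z a = (1 - 6 * q) ^ 2 * q ∧ z b * z b = (1 - 6 * q) ^ 2 * q ∧
      z c * z c = (1 - 6 * q) ^ 2 * q ∧ z d * z d = q ∧ z e * z e = 36 * q ^ 2 * q := by
  obtain ⟨a, b, c, d, hab, hac, had, hbc, hbd, hcd, hs⟩ := Finset.card_eq_four.1 h4
  obtain ⟨e, -, -, he, -⟩ := exists_two hn (supp x) (by omega)
  have he' : e ∉ ({a, b, c, d} : Finset ι) := hs ▸ he
  simp at he'
  obtain ⟨hea, heb, hec, hed⟩ := he'
  have hmem : ∀ t, t ≠ a → t ≠ b → t ≠ c → t ≠ d → x t = 0 := fun t h1 h2 h3 h4 => not_mem_supp.1 (by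
    rw [hs]; simp [h1, h2, h3, h4])
  set y := x ∘ Equiv.swap d e
  have hy : R y := swap_mem hR hx (Ne.symm hed) hab had (Ne.symm hea) hbd (Ne.symm heb)
    (by rw [hq a (by rw [hs]; simp), hq b (by rw [hs]; simp)])
  have ya : y a = x a := by simp [y, Equiv.swap_apply_of_ne_of_ne had (Ne.symm hea)]
  have yb : y b = x b := by simp [y, Equiv.swap_apply_of_ne_of_ne hbd (Ne.symm heb)]
  have yc : y c = x c := by simp [y, Equiv.swap_apply_of_ne_of_ne hcd (Ne.symm hec)]
  have xe : x e = 0 := hmem e hea heb hec hed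
  have yd : y d = 0 := by simp [y, xe]
  have ye : y e = x d := by simp [y]
  have hdot : y ⬝ᵥ x = 3 * q := by
    rw [dotProduct_comm, dot_on (A := {a, b, c, d}) (fun t ht => by simp at ht; exact hmem t ht.1 ht.2.1 ht.2.2.1 ht.2.2.2) y,
      Finset.sum_insert (by simp [hab, hac, had]), Finset.sum_insert (by simp [hbc, hbd]),
      Finset.sum_pair hcd, ya, yb, yc, yd]
    linear_combination hq a (by rw [hs]; simp) + hq b (by rw [hs]; simp) + hq c (by rw [hs]; simp)
  have ez : ∀ t, rv y x t = x t - 6 * q * y t := fun t => by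
    rw [rv, hdot, hR.unit y hy, Pi.sub_apply, Pi.smul_apply, smul_eq_mul]; ring
  refine ⟨rv y x, hR.closed _ _ hy hx, a, b, c, d, e, hab, hac, hbc, had, hbd, hcd, hea, heb, hec, hed,
    fun t ht => ?_, ?_, ?_, ?_, ?_, ?_⟩
  · by_contra hc'
    simp at hc'
    obtain ⟨h1, h2, h3, h4, h5⟩ := hc'
    refine mem_supp.1 ht ?_
    rw [ez, hmem t h1 h2 h3 h4, show y t = 0 by
      simp [y, Equiv.swap_apply_of_ne_of_ne h4 h5, hmem t h1 h2 h3 h4]]
    ring
  · rw [ez, ya]; linear_combination (1 - 6 * q) ^ 2 * hq a (by rw [hs]; simp)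
  · rw [ez, yb]; linear_combination (1 - 6 * q) ^ 2 * hq b (by rw [hs]; simp)
  · rw [ez, yc]; linear_combination (1 - 6 * q) ^ 2 * hq c (by rw [hs]; simp)
  · rw [ez, yd]; linear_combination hq d (by rw [hs]; simp)
  · rw [ez, xe, ye]; linear_combination 36 * q ^ 2 * hq d (by rw [hs]; simp)

theorem short_five (hR : RSet R) (hp : (Fintype.card F).Prime) (h5 : Fintype.card F = 5)
    (hn : 7 ≤ Fintype.card ι) : ∀ (k : ℕ) (x : ι → F), R x → (supp x).card = k → ¬ Root x → Short R := by
  classical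
  have h2 : (2 : F) ≠ 0 := by exact_mod_cast small_ne hp (k := 2) (by omega) (by norm_num)
  have five : (5 : F) = 0 := by
    have := FiniteField.cast_card_eq_zero F; rw [h5] at this; exact_mod_cast this
  intro k
  induction k using Nat.strong_induction_on with
  | _ k ih =>
    intro x hx hk hnr
    by_cases hk3 : k ≤ 3
    · exact ⟨x, hx, hnr, hk ▸ hk3⟩
    have hsq : ∀ t ∈ supp x, ¬ x t * x t = 1 → x t * x t = -1 := fun t ht h => by
      have h1 := FiniteField.pow_card_sub_one_eq_one (x t) (mem_supp.1 ht)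
      rw [h5] at h1
      exact (mul_self_eq_one_iff.1 (show x t * x t * (x t * x t) = 1 by linear_combination h1)).resolve_left h
    set P := (supp x).filter fun t => x t * x t = 1
    set N := (supp x).filter fun t => ¬ x t * x t = 1
    have hPN : P.card + N.card = k := by
      rw [← hk]; exact Finset.card_filter_add_card_filter_not _
    have hsum : ((P.card + 4 * N.card + 4 : ℕ) : F) = 0 := by
      have h := sum_supp x
      rw [hR.unit x hx, ← Finset.sum_filter_add_sum_filter_not (supp x) (fun t => x t * x t = 1),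
        Finset.sum_congr rfl (fun t (ht : t ∈ P) => (Finset.mem_filter.1 ht).2),
        Finset.sum_congr rfl (fun t (ht : t ∈ N) => hsq t (Finset.mem_filter.1 ht).1 (Finset.mem_filter.1 ht).2),
        Finset.sum_const, Finset.sum_const, nsmul_eq_mul, nsmul_eq_mul] at h
      push_cast
      linear_combination -h + ((N.card : F) + 1) * five
    have hd := dvd_of_cast hp hsum
    rw [h5] at hd
    have drop : ∀ B ⊆ supp x, 4 * ∑ t ∈ supp x \ B, x t * x t = 1 → 1 ≤ B.card → B.card + 3 ≤ k → Short R := by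
      intro B hB hT hB1 hB3
      obtain ⟨y, hy, hys, -⟩ := shrink hR h2 hx Finset.sdiff_subset hT
      have hc : (supp y).card = k - B.card := by rw [hys, Finset.card_sdiff_of_subset hB, hk]
      exact ih _ (by omega) y hy hc (not_root_of_card (by omega))
    have tot : ∀ B ⊆ supp x, ∑ t ∈ supp x \ B, x t * x t = 1 - ∑ t ∈ B, x t * x t := fun B hB => by
      rw [eq_sub_iff_add_eq, Finset.sum_sdiff hB, ← sum_supp, hR.unit x hx]
    by_cases hP : 2 ≤ P.card
    · have h5k : 5 ≤ k := by
        by_contra hk5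
        have : N.card ≤ 2 := by omega
        interval_cases N.card <;> omega
      obtain ⟨B, hB, hBc⟩ := Finset.exists_subset_card_eq hP
      have hBs : B ⊆ supp x := hB.trans (Finset.filter_subset _ _)
      refine drop B hBs ?_ (by omega) (by omega)
      rw [tot B hBs, Finset.sum_congr rfl (fun t ht => (Finset.mem_filter.1 (hB ht)).2), Finset.sum_const, hBc]
      simp
      linear_combination -five
    by_cases hk6 : 6 ≤ k
    · obtain ⟨B, hB, hBc⟩ := Finset.exists_subset_card_eq (show 3 ≤ N.card by omega)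
      have hBs : B ⊆ supp x := hB.trans (Finset.filter_subset _ _)
      refine drop B hBs ?_ (by omega) (by omega)
      rw [tot B hBs, Finset.sum_congr rfl (fun t ht => hsq t (Finset.mem_filter.1 (hB ht)).1 (Finset.mem_filter.1 (hB ht)).2),
        Finset.sum_const, hBc]
      simp
      linear_combination 3 * five
    have hN4 : N.card = 4 ∧ P.card = 0 := by interval_cases k <;> interval_cases P.card <;> omega
    obtain ⟨z, hz, a, b, c, d, e, hab, hac, hbc, had, hbd, hcd, hea, heb, hec, hed, hsub, za, zb, zc, zd, ze⟩ :=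
      overlap hR hn hx (q := (-1 : F)) (by omega) fun t ht => hsq t ht fun h => by
        have : t ∈ P := Finset.mem_filter.2 ⟨ht, h⟩
        rw [Finset.card_eq_zero.1 hN4.2] at this
        exact Finset.notMem_empty t this
    have nz : ∀ t, z t * z t ≠ 0 → t ∈ supp z := fun t h => mem_supp.2 fun e => h (by rw [e, zero_mul])
    obtain ⟨y, hy, hys, -⟩ := shrink hR h2 hz (A := {c, d, e}) (by
      simp only [Finset.insert_subset_iff, Finset.singleton_subset_iff]
      refine ⟨nz c ?_, nz d ?_, nz e ?_⟩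
      · rw [zc]; exact fun h => one_ne_zero (show (1 : F) = 0 by linear_combination h + 10 * five)
      · rw [zd]; exact neg_ne_zero.2 one_ne_zero
      · rw [ze]; exact fun h => one_ne_zero (show (1 : F) = 0 by linear_combination -h - 7 * five)) (by
      rw [Finset.sum_insert (by simp [hcd, hec.symm]), Finset.sum_pair hed.symm, zc, zd, ze]
      linear_combination (-69 : F) * five)
    refine ⟨y, hy, not_root_of_card ?_, ?_⟩ <;>
      rw [hys, Finset.card_insert_of_notMem (by simp [hcd, hec.symm]), Finset.card_pair hed.symm]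

theorem short_seven (hR : RSet R) (hp : (Fintype.card F).Prime) (h7 : Fintype.card F = 7)
    (hn : 7 ≤ Fintype.card ι) : ∀ (k : ℕ) (x : ι → F), R x → (supp x).card = k → ¬ Root x → Short R := by
  classical
  have h2 : (2 : F) ≠ 0 := by exact_mod_cast small_ne hp (k := 2) (by omega) (by norm_num)
  have h3 : (3 : F) ≠ 0 := by exact_mod_cast small_ne hp (k := 3) (by omega) (by norm_num)
  have seven : (7 : F) = 0 := by
    have := FiniteField.cast_card_eq_zero F; rw [h7] at this; exact_mod_cast this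
  intro k
  induction k using Nat.strong_induction_on with
  | _ k ih =>
    intro x hx hk hnr
    by_cases hk3 : k ≤ 3
    · exact ⟨x, hx, hnr, hk ▸ hk3⟩
    by_cases h1 : ∃ i ∈ supp x, x i * x i = 1
    · obtain ⟨i, hi, hi1⟩ := h1
      obtain ⟨j, hj, hji⟩ := Finset.exists_mem_ne (show 1 < (supp x).card by omega) i
      have hij := hji.symm
      set u := x - x i • ax i - x j • ax j with hu
      have hui : u i = 0 := by simp [hu, ax, hij]
      have huj : u j = 0 := by simp [hu, ax, hij.symm]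
      have hxe : emb i j u ![x i, x j, 1] = x := by simp [emb, hu]
      have hj0 := mem_supp.1 hj
      have hc : u ⬝ᵥ u = -(x j * x j) := by
        have h := emb_dot hij hui huj ![x i, x j, 1] ![x i, x j, 1]
        rw [hxe, hR.unit x hx] at h
        simp [dt] at h
        linear_combination -h - hi1
      set v : Fin 3 → F := ![0, 3, (x j)⁻¹]
      have hv : R (emb i j u v) := units_full hR h2 hp hij hui huj
        (by rw [hc]; exact neg_ne_zero.2 (mul_ne_zero hj0 hj0)) (x := ![x i, x j, 1]) (by rw [hxe]; exact hx)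
        (show x i ≠ 0 from mem_supp.1 hi) hj0 one_ne_zero (Or.inl hi1) (by
          rw [hc]; simp [nrm, v]; field_simp; linear_combination seven)
      obtain ⟨a0, a1, a2⟩ := emb_at hij hui huj v
      have hs : supp (emb i j u v) = (supp x).erase i := by
        ext t
        rw [Finset.mem_erase, mem_supp, mem_supp]
        rcases eq_or_ne t i with rfl | hti
        · simp [a0, v]
        rcases eq_or_ne t j with rfl | htj
        · simp [a1, v, hti, hj0, h3]
        · rw [a2 t hti htj]; simp [v, hj0, hti, hu, ax, htj]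
      have hc' : (supp (emb i j u v)).card = k - 1 := by rw [hs, Finset.card_erase_of_mem hi, hk]
      exact ih _ (by omega) _ hv hc' (not_root_of_card (by omega))
    push Not at h1
    have hsq : ∀ t ∈ supp x, ¬ x t * x t = 2 → x t * x t = 4 := fun t ht h => by
      have e := FiniteField.pow_card_sub_one_eq_one (x t) (mem_supp.1 ht)
      rw [h7] at e
      have : (x t * x t - 1) * ((x t * x t - 2) * (x t * x t - 4)) = 0 := by
        linear_combination e + (2 * (x t * x t) - (x t * x t) ^ 2 - 1) * seven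
      exact sub_eq_zero.1 (((mul_eq_zero.1 this).resolve_left (sub_ne_zero.2 (h1 t ht))) |> mul_eq_zero.1
        |>.resolve_left (sub_ne_zero.2 h))
    set A2 := (supp x).filter fun t => x t * x t = 2
    set A4 := (supp x).filter fun t => ¬ x t * x t = 2
    have hA : A2.card + A4.card = k := by rw [← hk]; exact Finset.card_filter_add_card_filter_not _
    have s2 : ∀ t ∈ A2, x t * x t = 2 := fun t ht => (Finset.mem_filter.1 ht).2
    have s4 : ∀ t ∈ A4, x t * x t = 4 := fun t ht => hsq t (Finset.mem_filter.1 ht).1 (Finset.mem_filter.1 ht).2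
    have hsum : ((2 * A2.card + 4 * A4.card + 6 : ℕ) : F) = 0 := by
      have h := sum_supp x
      rw [hR.unit x hx, ← Finset.sum_filter_add_sum_filter_not (supp x) (fun t => x t * x t = 2),
        Finset.sum_congr rfl s2, Finset.sum_congr rfl s4,
        Finset.sum_const, Finset.sum_const, nsmul_eq_mul, nsmul_eq_mul] at h
      push_cast
      linear_combination -h + seven
    have hd := dvd_of_cast hp hsum
    rw [h7] at hd
    have take : ∀ a b : ℕ, a ≤ A2.card → b ≤ A4.card → 3 ≤ a + b → a + b < k → a + 2 * b = 8 → Short R := by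
      intro a b ha hb hab3 habk hab
      obtain ⟨B, hB, hBc⟩ := Finset.exists_subset_card_eq ha
      obtain ⟨C, hC, hCc⟩ := Finset.exists_subset_card_eq hb
      have hdis : Disjoint B C := Finset.disjoint_left.2 fun t h h' =>
        (Finset.mem_filter.1 (hC h')).2 (s2 t (hB h))
      have habF : (a : F) + 2 * (b : F) = 8 := by exact_mod_cast congrArg (fun m : ℕ => (m : F)) hab
      obtain ⟨y, hy, hys, -⟩ := shrink hR h2 hx (A := B ∪ C)
        (Finset.union_subset (hB.trans (Finset.filter_subset _ _)) (hC.trans (Finset.filter_subset _ _))) (by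
        rw [Finset.sum_union hdis, Finset.sum_congr rfl fun t ht => s2 t (hB ht),
          Finset.sum_congr rfl fun t ht => s4 t (hC ht), Finset.sum_const, Finset.sum_const, hBc, hCc,
          nsmul_eq_mul, nsmul_eq_mul]
        linear_combination 8 * habF + 9 * seven)
      have hc : (supp y).card = a + b := by rw [hys, Finset.card_union_of_disjoint hdis, hBc, hCc]
      exact ih _ habk y hy hc (not_root_of_card (by omega))
    by_cases c1 : 4 ≤ A4.card
    · exact take 0 4 (Nat.zero_le _) c1 (by omega) (by omega) rfl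
    by_cases c2 : 8 ≤ A2.card
    · exact take 8 0 c2 (Nat.zero_le _) (by omega) (by omega) rfl
    by_cases c3 : A4.card = 2 ∧ 4 ≤ A2.card
    · exact take 4 2 c3.2 (by omega) (by omega) (by omega) rfl
    by_cases c4 : A4.card = 3 ∧ 2 ≤ A2.card
    · exact take 2 3 c4.2 (by omega) (by omega) (by omega) rfl
    have hN : A4.card = 0 ∧ A2.card = 4 := by omega
    obtain ⟨z, hz, a, b, c, d, e, hab, hac, hbc, had, hbd, hcd, hea, heb, hec, hed, hsub, za, zb, zc, zd, ze⟩ :=
      overlap hR hn hx (q := (2 : F)) (by omega) fun t ht => by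
        by_contra h
        have : t ∈ A4 := Finset.mem_filter.2 ⟨ht, h⟩
        rw [Finset.card_eq_zero.1 hN.1] at this
        exact Finset.notMem_empty t this
    have nz : ∀ t, z t * z t ≠ 0 → t ∈ supp z := fun t h => mem_supp.2 fun e => h (by rw [e, zero_mul])
    obtain ⟨y, hy, hys, -⟩ := shrink hR h2 hz (A := {a, b, e}) (by
      simp only [Finset.insert_subset_iff, Finset.singleton_subset_iff]
      refine ⟨nz a ?_, nz b ?_, nz e ?_⟩
      · rw [za]; exact fun h => mul_ne_zero h2 h2 (show (2 : F) * 2 = 0 by linear_combination h - 34 * seven)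
      · rw [zb]; exact fun h => mul_ne_zero h2 h2 (show (2 : F) * 2 = 0 by linear_combination h - 34 * seven)
      · rw [ze]; exact fun h => one_ne_zero (show (1 : F) = 0 by linear_combination h - 41 * seven)) (by
      rw [Finset.sum_insert (by simp [hab, hea.symm]), Finset.sum_pair heb.symm, za, zb, ze]
      linear_combination (441 : F) * seven)
    refine ⟨y, hy, not_root_of_card ?_, ?_⟩ <;>
      rw [hys, Finset.card_insert_of_notMem (by simp [hab, hea.symm]), Finset.card_pair heb.symm]

/-- All unit vectors on a triple. -/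
theorem triple (hR : RSet R) (hp : (Fintype.card F).Prime) (h5 : 5 ≤ Fintype.card F) (hn : 7 ≤ Fintype.card ι)
    (hS : Short R) : ∃ i j k : ι, i ≠ j ∧ i ≠ k ∧ j ≠ k ∧
      ∀ y : ι → F, y ⬝ᵥ y = 1 → supp y ⊆ {i, j, k} → R y := by
  classical
  have h2 : (2 : F) ≠ 0 := by exact_mod_cast small_ne hp (k := 2) (by omega) (by norm_num)
  have h3 : (3 : F) ≠ 0 := by exact_mod_cast small_ne hp (k := 3) (by omega) (by norm_num)
  obtain ⟨x, hx, hnr, hcard⟩ := hS
  obtain ⟨T, hT, hTc⟩ := Finset.exists_superset_card_eq hcard (by omega : 3 ≤ Fintype.card ι)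
  obtain ⟨i, j, k, hij, hik, hjk, rfl⟩ := Finset.card_eq_three.1 hTc
  -- normal forms
  suffices key : ∀ (i j k : ι), i ≠ j → i ≠ k → j ≠ k → supp x ⊆ {i, j, k} → x k ≠ 0 →
      ((x j = 0 ∧ 2 * (x i * x i) ≠ 1 ∧ x i * x i ≠ 1 ∧ x i ≠ 0) ∨
        (x j ≠ 0 ∧ 4 * (x i * x i) ≠ 1 ∧ 2 * (x i * x i) ≠ 1 ∧ x i ≠ 0) ∨
        (4 * (x i * x i) = 1 ∧ 2 * (x j * x j) = 1 ∧ 4 * (x k * x k) = 1)) →
      ∀ y : ι → F, y ⬝ᵥ y = 1 → supp y ⊆ {i, j, k} → R y by
    refine ⟨i, j, k, hij, hik, hjk, ?_⟩
    have p1 : ({i, j, k} : Finset ι) = {i, k, j} := by rw [Finset.pair_comm j k]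
    have p2 : ({i, j, k} : Finset ι) = {j, i, k} := by rw [Finset.insert_comm]
    have p3 : ({i, j, k} : Finset ι) = {j, k, i} := by ext t; simp; tauto
    have p4 : ({i, j, k} : Finset ι) = {k, i, j} := by ext t; simp; tauto
    have p5 : ({i, j, k} : Finset ι) = {k, j, i} := by ext t; simp; tauto
    have hsum : x i * x i + x j * x j + x k * x k = 1 := by
      rw [← hR.unit x hx, dot_on (A := {i, j, k}) (fun t ht => not_mem_supp.1 fun h => ht (hT h)),
        Finset.sum_insert (by simp [hij, hik]), Finset.sum_pair hjk]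
      ring
    by_cases zi : x i = 0
    · have hj0 : x j ≠ 0 := fun e => hnr ⟨k, k, fun t ht _ => not_mem_supp.1 fun h => by
        have h' := hT h; simp at h'
        rcases h' with rfl | rfl | rfl
        exacts [mem_supp.1 h zi, mem_supp.1 h e, ht rfl], Or.inr (Or.inr rfl)⟩
      have hk0 : x k ≠ 0 := fun e => hnr ⟨j, j, fun t ht _ => not_mem_supp.1 fun h => by
        have h' := hT h; simp at h'
        rcases h' with rfl | rfl | rfl
        exacts [mem_supp.1 h zi, ht rfl, mem_supp.1 h e], Or.inr (Or.inr rfl)⟩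
      rw [p3.trans (by ext t; simp; tauto : ({j, k, i} : Finset ι) = {j, i, k})] at hT ⊢
      refine key j i k hij.symm hjk hik hT hk0 (Or.inl ⟨zi, fun e => hnr ⟨j, k, fun t h1 h3 => not_mem_supp.1 fun h => ?_,
        Or.inr (Or.inr ?_)⟩, fun e => hk0 (mul_self_eq_zero.1 ?_), hj0⟩)
      · have h' := hT h; simp at h'
        rcases h' with rfl | rfl | rfl
        exacts [h1 rfl, mem_supp.1 h zi, h3 rfl]
      · linear_combination e - hsum + x i * zi
      · linear_combination hsum - e - x i * zi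
    by_cases zj : x j = 0
    · have hk0 : x k ≠ 0 := fun e => hnr ⟨i, i, fun t ht _ => not_mem_supp.1 fun h => by
        have h' := hT h; simp at h'
        rcases h' with rfl | rfl | rfl
        exacts [ht rfl, mem_supp.1 h zj, mem_supp.1 h e], Or.inr (Or.inr rfl)⟩
      refine key i j k hij hik hjk hT hk0 (Or.inl ⟨zj, fun e => hnr ⟨i, k, fun t h1 h3 => not_mem_supp.1 fun h => ?_,
        Or.inr (Or.inr ?_)⟩, fun e => hk0 (mul_self_eq_zero.1 ?_), zi⟩)
      · have h' := hT h; simp at h'
        rcases h' with rfl | rfl | rfl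
        exacts [h1 rfl, mem_supp.1 h zj, h3 rfl]
      · linear_combination e - hsum + x j * zj
      · linear_combination hsum - e - x j * zj
    by_cases zk : x k = 0
    · rw [p1] at hT ⊢
      refine key i k j hik hij hjk.symm hT zj (Or.inl ⟨zk, fun e => hnr ⟨i, j, fun t h1 h3 => not_mem_supp.1 fun h => ?_,
        Or.inr (Or.inr ?_)⟩, fun e => zj (mul_self_eq_zero.1 ?_), zi⟩)
      · have h' := hT h; simp at h'
        rcases h' with rfl | rfl | rfl
        exacts [h1 rfl, mem_supp.1 h zk, h3 rfl]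
      · linear_combination e - hsum + x k * zk
      · linear_combination hsum - e - x k * zk
    by_cases gi : 4 * (x i * x i) ≠ 1 ∧ 2 * (x i * x i) ≠ 1
    · exact key i j k hij hik hjk hT zk (Or.inr (Or.inl ⟨zj, gi.1, gi.2, zi⟩))
    by_cases gj : 4 * (x j * x j) ≠ 1 ∧ 2 * (x j * x j) ≠ 1
    · rw [p2] at hT ⊢
      exact key j i k hij.symm hjk hik hT zk (Or.inr (Or.inl ⟨zi, gj.1, gj.2, zj⟩))
    by_cases gk : 4 * (x k * x k) ≠ 1 ∧ 2 * (x k * x k) ≠ 1
    · rw [p4] at hT ⊢
      exact key k i j hik.symm hjk.symm hij hT zj (Or.inr (Or.inl ⟨zi, gk.1, gk.2, zk⟩))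
    have e1 : 4 * (x i * x i) = 1 ∨ 2 * (x i * x i) = 1 := by by_contra h; push Not at h; exact gi h
    have e2 : 4 * (x j * x j) = 1 ∨ 2 * (x j * x j) = 1 := by by_contra h; push Not at h; exact gj h
    have e3 : 4 * (x k * x k) = 1 ∨ 2 * (x k * x k) = 1 := by by_contra h; push Not at h; exact gk h
    rcases e1 with e1 | e1 <;> rcases e2 with e2 | e2 <;> rcases e3 with e3 | e3
    · exact absurd (show (1 : F) = 0 by linear_combination e1 + e2 + e3 - 4 * hsum) one_ne_zero
    · rw [p1] at hT ⊢; exact key i k j hik hij hjk.symm hT zj (Or.inr (Or.inr ⟨e1, e3, e2⟩))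
    · exact key i j k hij hik hjk hT zk (Or.inr (Or.inr ⟨e1, e2, e3⟩))
    · exact absurd (show (1 : F) = 0 by linear_combination -e1 - 2 * e2 - 2 * e3 + 4 * hsum) one_ne_zero
    · rw [p2] at hT ⊢; exact key j i k hij.symm hjk hik hT zk (Or.inr (Or.inr ⟨e2, e1, e3⟩))
    · exact absurd (show (1 : F) = 0 by linear_combination -2 * e1 - e2 - 2 * e3 + 4 * hsum) one_ne_zero
    · exact absurd (show (1 : F) = 0 by linear_combination -2 * e1 - 2 * e2 - e3 + 4 * hsum) one_ne_zero
    · exact absurd (show (2 : F) = 0 by linear_combination -2 * e1 - 2 * e2 - 2 * e3 + 4 * hsum) h2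
  clear hij hik hjk hTc hT i j k
  intro i j k hij hik hjk hT hk0 hform
  set u : ι → F := ax k with hu
  have hui : u i = 0 := ax_ne hik
  have huj : u j = 0 := ax_ne hjk
  have hc : u ⬝ᵥ u = 1 := by rw [hu, dot_ax, ax_self]
  have hrep : ∀ y : ι → F, supp y ⊆ {i, j, k} → emb i j u ![y i, y j, y k] = y := by
    intro y hy
    funext t
    obtain ⟨a0, a1, a2⟩ := emb_at hij hui huj ![y i, y j, y k]
    rcases eq_or_ne t i with rfl | hti
    · simpa using a0
    rcases eq_or_ne t j with rfl | htj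
    · simpa using a1
    rcases eq_or_ne t k with rfl | htk
    · rw [a2 t hti htj]; simp [hu, ax_self]
    · rw [a2 t hti htj, hu, ax_ne htk, mul_zero, eq_comm, ← not_mem_supp]
      exact fun h => by simpa [hti, htj, htk] using hy h
  obtain ⟨m, m', hm, hm1, hm1'⟩ := exists_two hn ({i, j, k} : Finset ι) (by
    have := Finset.card_le_three (a := i) (b := j) (c := k); omega)
  simp at hm1 hm1'
  have hsq : u m * u m = u m' * u m' := by rw [hu, ax_ne hm1.2.2, ax_ne hm1'.2.2]
  have hxe : emb i j u ![x i, x j, x k] = x := hrep x hT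
  have hxR : R (emb i j u ![x i, x j, x k]) := by rw [hxe]; exact hx
  suffices h : ∀ v, nrm 1 v = 1 → R (emb i j u v) by
    intro y hy hs
    rw [← hrep y hs]
    refine h _ ?_
    have h := emb_dot hij hui huj ![y i, y j, y k] ![y i, y j, y k]
    rw [hc, hrep y hs, hy] at h
    exact h.symm
  intro v hv
  have hv' : nrm (u ⬝ᵥ u) v = 1 := by rw [hc]; exact hv
  have hcne : u ⬝ᵥ u ≠ 0 := by rw [hc]; exact one_ne_zero
  rcases hform with ⟨zj, a2, a1, ai⟩ | ⟨-, a4, a2, ai⟩ | ⟨ei, ej, ek⟩
  · -- two coordinates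
    refine units_swap hR h2 hp hij hui huj hcne hm hm1.1 hm1.2.1 hm1'.1 hm1'.2.1 hsq hxR hk0
      (w := ![1, 1, 0]) (Or.inr ⟨1, Or.inl rfl, rfl⟩) ?_ ?_ ?_ hv'
    all_goals simp [dt, nrm_pm (Or.inl rfl), zj]
    · exact ai
    · exact fun e => a2 (mul_left_cancel₀ h2 (by linear_combination e))
    · exact fun e => a1 (mul_left_cancel₀ h2 (by linear_combination e))
  · refine units_swap hR h2 hp hij hui huj hcne hm hm1.1 hm1.2.1 hm1'.1 hm1'.2.1 hsq hxR hk0 (w := e₁)
      (Or.inl rfl) ?_ ?_ ?_ hv'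
    all_goals (try rw [Frame10Tern.nrm_e₁])
    all_goals simp [dt, e₁]
    · exact ai
    · exact a4
    · exact a2
  · have ai : x i ≠ 0 := fun e => by rw [e] at ei; simp at ei
    by_cases h7 : (7 : F) = 0
    · -- seven elements
      set a := x i
      obtain ⟨r, hr, har⟩ : ∃ r, r * r = x j * x j ∧ a * r = 1 := by
        have : (a * x j) * (a * x j) = 1 := by
          refine mul_left_cancel₀ (mul_ne_zero h2 (mul_ne_zero h2 h2)) ?_
          linear_combination 2 * (x j * x j) * ei + ej - h7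
        rcases mul_self_eq_one_iff.1 this with h | h
        · exact ⟨x j, rfl, h⟩
        · exact ⟨-x j, by ring, by linear_combination -h⟩
      set P : (Fin 3 → F) → Prop := fun v => R (emb i j u v)
      have hS : ∀ {y}, R (emb i j u y) → Sym 1 P y := fun {y} hy => by
        have := sym_of_mem hR hij hui huj (z := 0) rfl rfl (dotProduct_zero u) hy
        simp only [add_zero, hc] at this
        exact this
      have hneg : ∀ v, P v → P (-v) := fun v hv => by
        show R _
        have : emb i j u (-v) = -emb i j u v := by simp [emb]; abel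
        rw [this]; exact neg_mem hR hv
      have hak : a * a = x k * x k := mul_left_cancel₀ (mul_ne_zero h2 h2) (by linear_combination ei - ek)
      obtain ⟨xi, xj, xt⟩ := emb_at hij hui huj ![x i, x j, x k]
      have xk : x k * x k = a * a := hak.symm
      have h0 : ∀ t, t ≠ i → t ≠ j → t ≠ k → x t = 0 := fun t t1 t2 t3 => not_mem_supp.1 fun h => by
        simpa [t1, t2, t3] using hT h
      have hA : R (emb i j u ![a, a, r]) := by
        refine same_squares hR (swap_small hR hn hx ((Finset.card_le_card hT).trans (by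
          have := Finset.card_le_three (a := i) (b := j) (c := k); omega)) j k) fun t => ?_
        obtain ⟨b0, b1, b2⟩ := emb_at hij hui huj ![a, a, r]
        simp only [Function.comp_apply]
        rcases eq_or_ne t i with rfl | hti
        · rw [b0, Equiv.swap_apply_of_ne_of_ne hij hik]; rfl
        rcases eq_or_ne t j with rfl | htj
        · rw [b1, Equiv.swap_apply_left]; simpa using hak
        rw [b2 t hti htj]
        rcases eq_or_ne t k with rfl | htk
        · rw [Equiv.swap_apply_right, hu, ax_self]; simpa using hr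
        · rw [Equiv.swap_apply_of_ne_of_ne htj htk, hu, ax_ne htk, h0 t hti htj htk]; simp
      have hB : R (emb i j u ![r, a, a]) := by
        refine same_squares hR (swap_small hR hn hx ((Finset.card_le_card hT).trans (by
          have := Finset.card_le_three (a := i) (b := j) (c := k); omega)) i j) fun t => ?_
        obtain ⟨b0, b1, b2⟩ := emb_at hij hui huj ![r, a, a]
        simp only [Function.comp_apply]
        rcases eq_or_ne t i with rfl | hti
        · rw [b0, Equiv.swap_apply_left]; simpa using hr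
        rcases eq_or_ne t j with rfl | htj
        · rw [b1, Equiv.swap_apply_right]; rfl
        rw [Equiv.swap_apply_of_ne_of_ne hti htj, b2 t hti htj]
        rcases eq_or_ne t k with rfl | htk
        · rw [hu, ax_self]; simpa using hak
        · rw [hu, ax_ne htk, h0 t hti htj htk]; simp
      have hrr : 2 * (r * r) = 1 := by rw [hr]; exact ej
      refine Frame10Tern.sweep_three h2 hp hneg (hS (by rw [emb_e₁]; exact hR.axis i))
        (hS (by rw [emb_e₂]; exact hR.axis j)) (hS hA) (hS hB) ?_ ?_ ?_ ?_ (v := e₁)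
        (by rw [Frame10Tern.nrm_e₁, hv]) (by rw [Frame10Tern.nrm_e₁]; exact one_ne_zero)
        (show R _ by rw [emb_e₁]; exact hR.axis i)
      · simp [nrm]; refine mul_left_cancel₀ (mul_ne_zero h2 h2) ?_; linear_combination 2 * ei + 2 * hrr
      · simp [nrm]; refine mul_left_cancel₀ (mul_ne_zero h2 h2) ?_; linear_combination 2 * ei + 2 * hrr
      · simp
        refine mul_left_cancel₀ (pow_ne_zero 4 h2) ?_
        grobner
      · simp [dt]
        intro e
        exact h2 (by linear_combination 4 * e - ei - 8 * har - h7)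
    · -- one of the two signs works
      set s := x i * x j
      have hs : 8 * (s * s) = 1 := by linear_combination 2 * (x j * x j) * ei + ej
      obtain ⟨σ, hσ, hσ1, hσ2⟩ : ∃ σ : F, (σ = 1 ∨ σ = -1) ∧ 2 * (3 + 8 * (σ * s)) ≠ 4 ∧ 3 + 8 * (σ * s) ≠ 4 := by
        have alt : ∀ σ : F, ¬ (2 * (3 + 8 * (σ * s)) ≠ 4 ∧ 3 + 8 * (σ * s) ≠ 4) → σ = 1 ∨ σ = -1 →
            8 * (σ * s) = -1 ∨ 8 * (σ * s) = 1 := fun σ h _ => by
          by_cases h1 : 2 * (3 + 8 * (σ * s)) = 4
          · exact Or.inl (mul_left_cancel₀ h2 (by linear_combination h1))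
          · push Not at h; exact Or.inr (by linear_combination h h1)
        by_cases h1 : 2 * (3 + 8 * (1 * s)) ≠ 4 ∧ 3 + 8 * (1 * s) ≠ 4
        · exact ⟨1, Or.inl rfl, h1.1, h1.2⟩
        exfalso
        rcases alt 1 h1 (Or.inl rfl) with e | e
        · exact h7 (by linear_combination (-8) * hs + (8 * s - 1) * e)
        · exact h7 (by linear_combination (-8) * hs + (8 * s + 1) * e)
      have hd : (x i + σ * x j) * (x i + σ * x j) * 4 = 3 + 8 * (σ * s) := by
        have : σ * σ = 1 := by rcases hσ with rfl | rfl <;> ring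
        linear_combination ei + 2 * ej + 4 * (x j * x j) * this
      refine units_swap hR h2 hp hij hui huj hcne hm hm1.1 hm1.2.1 hm1'.1 hm1'.2.1 hsq hxR hk0
        (w := ![1, σ, 0]) (Or.inr ⟨σ, hσ, rfl⟩) ?_ ?_ ?_ hv'
      all_goals simp [dt, nrm_pm hσ]
      · intro e
        refine one_ne_zero (show (1 : F) = 0 from ?_)
        rcases hσ with rfl | rfl
        · linear_combination (4 * (x j - x i)) * e + ei - 2 * ej
        · linear_combination (4 * (-x j - x i)) * e + ei - 2 * ej
      · exact fun e => hσ1 (by linear_combination -2 * hd + 2 * e)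
      · exact fun e => hσ2 (by linear_combination -hd + 2 * e)

/-- Every unit vector. -/
theorem all_units (hR : RSet R) (hp : (Fintype.card F).Prime) (h5 : 5 ≤ Fintype.card F) (hn : 7 ≤ Fintype.card ι)
    (hS : Short R) : ∀ (k : ℕ) (x : ι → F), x ⬝ᵥ x = 1 → (supp x).card = k → R x := by
  classical
  have h2 : (2 : F) ≠ 0 := by exact_mod_cast small_ne hp (k := 2) (by omega) (by norm_num)
  have h3 : (3 : F) ≠ 0 := by exact_mod_cast small_ne hp (k := 3) (by omega) (by norm_num)
  obtain ⟨i₁, j₁, k₁, hij₁, hik₁, hjk₁, hall⟩ := triple hR hp h5 hn hS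
  have three : ∀ x : ι → F, x ⬝ᵥ x = 1 → (supp x).card ≤ 3 → R x := by
    intro x hx hc
    obtain ⟨T, hT, hTc⟩ := Finset.exists_superset_card_eq hc (by omega : 3 ≤ Fintype.card ι)
    set T₁ : Finset ι := {i₁, j₁, k₁}
    have hT₁ : T₁.card = 3 := Finset.card_eq_three.2 ⟨i₁, j₁, k₁, hij₁, hik₁, hjk₁, rfl⟩
    let e : {t // t ∈ T₁} ≃ {t // t ∈ T} := Finset.equivOfCardEq (hT₁.trans hTc.symm)
    set σ : Equiv.Perm ι := e.extendSubtype
    have hy : R (x ∘ σ) := by
      refine hall _ ?_ fun t ht => ?_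
      · rw [comp_equiv_dotProduct_comp_equiv, hx]
      · by_contra hn'
        exact e.extendSubtype_not_mem t hn' (hT (mem_supp.2 (show x (σ t) ≠ 0 from (mem_supp (x := x ∘ σ)).1 ht)))
    have hw : (supp (x ∘ σ)).card ≤ 3 := by
      have : supp (x ∘ σ) = (supp x).map σ.symm.toEmbedding := by
        ext t; simp [mem_supp, Finset.mem_map_equiv]
      rw [this, Finset.card_map]; omega
    have := perm_small hR hn σ.symm hy hw
    rwa [Function.comp_assoc, Equiv.self_comp_symm, Function.comp_id] at this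
  intro k
  induction k using Nat.strong_induction_on with
  | _ k ih =>
    intro x hx hk
    by_cases hk3 : k ≤ 3
    · exact three x hx (hk ▸ hk3)
    obtain ⟨W, hW, hWc⟩ := Finset.exists_subset_card_eq (show 4 ≤ (supp x).card by omega)
    obtain ⟨a, b, c, d, hab, hac, had, hbc, hbd, hcd, rfl⟩ := Finset.card_eq_four.1 hWc
    simp only [Finset.insert_subset_iff, Finset.singleton_subset_iff, mem_supp] at hW
    obtain ⟨i, j, l, hij, hil, hjl, hi0, hj0, hl0, hs⟩ : ∃ i j l, i ≠ j ∧ i ≠ l ∧ j ≠ l ∧ x i ≠ 0 ∧ x j ≠ 0 ∧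
        x l ≠ 0 ∧ x i * x i + x j * x j + x l * x l ≠ 0 := by
      by_contra hcon
      push Not at hcon
      have e1 := hcon a b c hab hac hbc hW.1 hW.2.1 hW.2.2.1
      have e2 := hcon a b d hab had hbd hW.1 hW.2.1 hW.2.2.2
      have e3 := hcon a c d hac had hcd hW.1 hW.2.2.1 hW.2.2.2
      have e4 := hcon b c d hbc hbd hcd hW.2.1 hW.2.2.1 hW.2.2.2
      exact mul_ne_zero h3 (mul_ne_zero hW.1 hW.1) (by linear_combination e1 + e2 + e3 - 2 * e4)
    obtain ⟨α, β, hαβ⟩ := Frame10Tern.exists_rep h2 one_ne_zero (x i * x i + x j * x j + x l * x l)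
    rw [one_mul] at hαβ
    set z : ι → F := x - x i • ax i - x j • ax j - x l • ax l with hz
    have hzi : z i = 0 := by simp [hz, ax, hij, hil]
    have hzj : z j = 0 := by simp [hz, ax, hij.symm, hjl]
    have hzl : z l = 0 := by simp [hz, ax, hil.symm, hjl.symm]
    have hui : (ax l : ι → F) i = 0 := ax_ne hil
    have huj : (ax l : ι → F) j = 0 := ax_ne hjl
    have hzu : ax l ⬝ᵥ z = 0 := by rw [dot_ax, hzl]
    have hxe : emb i j (ax l) ![x i, x j, x l] + z = x := by simp [emb, hz]
    set P : (Fin 3 → F) → Prop := fun v => R (emb i j (ax l) v + z)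
    have hcu : (ax l : ι → F) ⬝ᵥ ax l = 1 := by rw [dot_ax, ax_self]
    have hneg : ∀ v, P v → P (-v) := fun v hv => by
      refine same_squares hR hv fun t => ?_
      simp only [Pi.add_apply]
      have hneg' : emb i j (ax l) (-v) t = -emb i j (ax l) v t := by simp [emb]; ring
      rw [hneg']
      rcases eq_or_ne t i with rfl | hti
      · rw [hzi]; ring
      rcases eq_or_ne t j with rfl | htj
      · rw [hzj]; ring
      rcases eq_or_ne t l with rfl | htl
      · rw [hzl]; ring
      rw [(emb_at hij hui huj v).2.2 t hti htj, ax_ne htl]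
      ring
    have hall' : ∀ w, nrm 1 w = 1 → Sym 1 P w := fun w hw => by
      have h := sym_of_mem hR hij hui huj hzi hzj hzu (w := w) (three _ (by rw [emb_dot hij hui huj, hcu]; exact hw) (by
        refine le_trans (Finset.card_le_card (t := {i, j, l}) fun t ht => ?_) Finset.card_le_three
        by_contra hc'
        simp at hc'
        exact mem_supp.1 ht (by rw [(emb_at hij hui huj w).2.2 t hc'.1 hc'.2.1, ax_ne hc'.2.2, mul_zero])))
      rw [hcu] at h
      exact h
    have hbase : P ![α, β, 0] := by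
      have hval : (emb i j (ax l) ![α, β, 0] + z) ⬝ᵥ (emb i j (ax l) ![α, β, 0] + z) = 1 := by
        have orth : ∀ v, emb i j (ax l) v ⬝ᵥ z = 0 := fun v => by
          simp [emb, add_dotProduct, smul_dotProduct, dot_ax, hzi, hzj, hzl]
        have h0 : x ⬝ᵥ x = dt 1 ![x i, x j, x l] ![x i, x j, x l] + z ⬝ᵥ z := by
          conv_lhs => rw [← hxe]
          simp only [add_dotProduct, dotProduct_add, dotProduct_comm z (emb i j (ax l) _), orth,
            emb_dot hij hui huj, hcu]
          ring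
        simp only [add_dotProduct, dotProduct_add, dotProduct_comm z (emb i j (ax l) _), orth,
          emb_dot hij hui huj, hcu]
        rw [hx] at h0
        simp [dt] at h0 ⊢
        linear_combination hαβ - h0
      have hlt : (supp (emb i j (ax l) ![α, β, 0] + z)).card < k := by
        rw [← hk]
        refine Finset.card_lt_card ((Finset.ssubset_iff_of_subset fun t ht => mem_supp.2 fun e => ?_).2
          ⟨l, mem_supp.2 hl0, fun h => mem_supp.1 h ?_⟩)
        · have hti : t ≠ i := fun h => hi0 (h ▸ e)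
          have htj : t ≠ j := fun h => hj0 (h ▸ e)
          have htl : t ≠ l := fun h => hl0 (h ▸ e)
          refine mem_supp.1 ht ?_
          rw [Pi.add_apply, (emb_at hij hui huj _).2.2 t hti htj, ax_ne htl, mul_zero, zero_add]
          simp [hz, ax, hti, htj, htl, e]
        · rw [Pi.add_apply, (emb_at hij hui huj _).2.2 l hil.symm hjl.symm, hzl]
          simp
      exact ih _ hlt _ hval rfl
    have := Frame10Tern.sweep_all h2 h3 hp hneg hall' (v := ![α, β, 0]) (w := ![x i, x j, x l])
      (by simp [nrm]; linear_combination hαβ)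
      (by simp [nrm]; rw [hαβ]; exact hs) hbase
    show R x
    rw [← hxe]
    exact this

/-- Three elements: supports only. -/
theorem all_units_three (hR : RSet R) (h3 : Fintype.card F = 3) (hn : 7 ≤ Fintype.card ι) {x₀ : ι → F}
    (hx₀ : R x₀) (hnr : ¬ Root x₀) : ∀ x : ι → F, x ⬝ᵥ x = 1 → R x := by
  classical
  have hp : (Fintype.card F).Prime := by rw [h3]; norm_num
  have three : (3 : F) = 0 := by
    have := FiniteField.cast_card_eq_zero F; rw [h3] at this; exact_mod_cast this
  have h2 : (2 : F) ≠ 0 := by exact_mod_cast small_ne hp (k := 2) (by omega) (by norm_num)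
  have hsq : ∀ {a : F}, a ≠ 0 → a * a = 1 := fun {a} ha => by
    have h1 := FiniteField.pow_card_sub_one_eq_one a ha
    rw [h3] at h1
    linear_combination h1
  have hmod : ∀ x : ι → F, x ⬝ᵥ x = 1 → (supp x).card % 3 = 1 := by
    intro x hx
    rw [sum_supp, Finset.sum_congr rfl fun t ht => hsq (mem_supp.1 ht), Finset.sum_const, nsmul_one] at hx
    have := dvd_of_cast hp (k := (supp x).card + 2) (by push_cast; linear_combination hx + three)
    rw [h3] at this
    omega
  have hsame : ∀ {x y : ι → F}, R x → supp y = supp x → R y := fun {x y} hx e => same_squares hR hx fun t => by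
    by_cases h : x t = 0
    · have : y t = 0 := not_mem_supp.1 (e ▸ not_mem_supp.2 h)
      rw [h, this]
    · have : y t ≠ 0 := mem_supp.1 (e ▸ mem_supp.2 h)
      rw [hsq h, hsq this]
  have hswap : ∀ {x : ι → F}, R x → ∀ a b, R (x ∘ Equiv.swap a b) := by
    intro x hx a b
    rcases eq_or_ne a b with rfl | hab
    · simpa using hx
    set S := Finset.univ \ ({a, b} : Finset ι)
    have hS : 5 ≤ S.card := by
      rw [Finset.card_sdiff_of_subset (Finset.subset_univ _), Finset.card_univ, Finset.card_pair hab]; omega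
    obtain ⟨m, hm, m', hm', hne, he⟩ := Finset.exists_ne_map_eq_of_card_lt_of_maps_to (s := S)
      (t := (Finset.univ : Finset Bool)) (by simp; omega) (f := fun t => decide (x t = 0)) (fun t _ => Finset.mem_univ _)
    simp [S] at hm hm'
    refine swap_mem hR hx hab hne hm.1 hm.2 hm'.1 hm'.2 ?_
    by_cases h : x m = 0
    · rw [h, show x m' = 0 from of_decide_eq_true (he ▸ decide_eq_true h)]
    · have : x m' ≠ 0 := of_decide_eq_false (he ▸ decide_eq_false h)
      rw [hsq h, hsq this]
  have hperm : ∀ (σ : Equiv.Perm ι) {x : ι → F}, R x → R (x ∘ σ) := by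
    intro σ
    induction σ using Equiv.Perm.swap_induction_on with
    | one => intro x hx; exact hx
    | swap_mul f a b _ ih => intro x hx; exact ih (hswap hx a b)
  let K : ℕ → Prop := fun k => ∀ x : ι → F, (supp x).card = k → R x
  have hK : ∀ {x : ι → F}, R x → K (supp x).card := by
    intro x hx y hy
    let e : {t // t ∈ supp y} ≃ {t // t ∈ supp x} := Finset.equivOfCardEq hy
    refine hsame (hperm e.extendSubtype hx) ?_
    ext t
    rw [mem_supp, mem_supp, Function.comp_apply]
    by_cases ht : t ∈ supp y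
    · exact iff_of_true (mem_supp.1 ht) (mem_supp.1 (e.extendSubtype_mem t ht))
    · exact iff_of_false (fun h => h (not_mem_supp.1 ht)) (fun h => h (not_mem_supp.1 (e.extendSubtype_not_mem t ht)))
  have hdown : ∀ k, 7 ≤ k → k % 3 = 1 → k ≤ Fintype.card ι → K k → K (k - 3) := by
    intro k h7 hk3 hkn hk
    obtain ⟨S, -, hS⟩ := Finset.exists_subset_card_eq (show k ≤ (Finset.univ : Finset ι).card by simpa using hkn)
    obtain ⟨D, hD, hDc⟩ := Finset.exists_subset_card_eq (show k - 3 ≤ S.card by omega)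
    set x : ι → F := fun t => if t ∈ S then 1 else 0
    have hxs : supp x = S := by ext t; simp [mem_supp, x]
    have hx : R x := hk x (by rw [hxs, hS])
    obtain ⟨y, hy, hys, -⟩ := shrink hR h2 hx (A := D) (hxs ▸ hD) (by
      rw [Finset.sum_congr rfl (g := fun _ => (1 : F)) (fun t ht => by simp [x, hD ht]), Finset.sum_const,
        nsmul_one, hDc]
      have : ((k - 3 : ℕ) : F) = 1 := by
        rw [show k - 3 = 3 * ((k - 4) / 3) + 1 by omega]
        push_cast
        linear_combination (((k - 4) / 3 : ℕ) : F) * three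
      linear_combination 4 * this + three)
    have h := hK hy
    rwa [hys, hDc] at h
  have hup : ∀ k, 4 ≤ k → k % 3 = 1 → k + 3 ≤ Fintype.card ι → K 4 → K k → K (k + 3) := by
    intro k h4 hk3 hkn hK4 hk
    obtain ⟨S, -, hS⟩ := Finset.exists_subset_card_eq (show k + 3 ≤ (Finset.univ : Finset ι).card by simpa using hkn)
    obtain ⟨W, hWS, hW⟩ := Finset.exists_subset_card_eq (show 4 ≤ S.card by omega)
    obtain ⟨e, he⟩ := Finset.card_pos.1 (show 0 < W.card by omega)
    set U := insert e (S \ W)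
    have hU : U.card = k := by
      rw [Finset.card_insert_of_notMem (by simp [he]), Finset.card_sdiff_of_subset hWS]; omega
    set x : ι → F := fun t => if t ∈ U then 1 else 0
    set w : ι → F := fun t => if t ∈ W then 1 else 0
    have hxs : supp x = U := by ext t; simp [mem_supp, x]
    have hws : supp w = W := by ext t; simp [mem_supp, w]
    have hx : R x := hk x (by rw [hxs, hU])
    have hw : R w := hK4 w (by rw [hws, hW])
    have hdot : w ⬝ᵥ x = 1 := by
      rw [dot_on (A := W) (fun t ht => by simp [w, ht]), Finset.sum_eq_single e (fun t ht hte => by simp [x, U, ht, hte])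
        (fun h => absurd he h)]
      simp [w, x, U, he]
    have hz := hR.closed w x hw hx
    have hzs : supp (rv w x) = S := by
      ext t
      rw [mem_supp, rv, hdot, hR.unit w hw, Pi.sub_apply, Pi.smul_apply, smul_eq_mul]
      by_cases hte : t = e
      · subst hte
        simp [x, w, U, he, hWS he]
        exact fun h => one_ne_zero (show (1 : F) = 0 by linear_combination -h)
      by_cases htW : t ∈ W
      · simp [x, w, U, htW, hte, hWS htW, h2]
      · simp [x, w, U, htW, hte]
    have h := hK hz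
    rwa [hzs, hS] at h
  have h0 : 4 ≤ (supp x₀).card ∧ (supp x₀).card % 3 = 1 ∧ (supp x₀).card ≤ Fintype.card ι := by
    have hm := hmod x₀ (hR.unit x₀ hx₀)
    refine ⟨?_, hm, Finset.card_le_univ _⟩
    by_contra hlt
    obtain ⟨a, ha⟩ := Finset.card_eq_one.1 (show (supp x₀).card = 1 by omega)
    exact hnr ⟨a, a, fun t ht _ => not_mem_supp.1 (by rw [ha]; simpa using ht), Or.inr (Or.inr rfl)⟩
  have hfour : ∀ j, K (3 * j + 4) → 3 * j + 4 ≤ Fintype.card ι → K 4 := by
    intro j
    induction j with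
    | zero => exact fun h _ => h
    | succ j ih => exact fun h hle => ih (by
        have := hdown _ (by omega) (by omega) hle h
        rwa [show 3 * (j + 1) + 4 - 3 = 3 * j + 4 by omega] at this) (by omega)
  have h4 : K 4 := hfour (((supp x₀).card - 4) / 3)
    (by rw [show 3 * (((supp x₀).card - 4) / 3) + 4 = (supp x₀).card by omega]; exact hK hx₀) (by omega)
  have hevery : ∀ j, 3 * j + 4 ≤ Fintype.card ι → K (3 * j + 4) := by
    intro j
    induction j with
    | zero => exact fun _ => h4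
    | succ j ih => exact fun hle => hup (3 * j + 4) (by omega) (by omega) (by omega) h4 (ih (by omega))
  intro x hx
  have hm := hmod x hx
  have hle : (supp x).card ≤ Fintype.card ι := Finset.card_le_univ _
  by_cases h1 : (supp x).card = 1
  · obtain ⟨a, ha⟩ := Finset.card_eq_one.1 h1
    refine hsame (hR.axis a) ?_
    rw [ha]
    ext t
    simp [mem_supp, ax, Pi.single_apply]
  · have := hevery (((supp x).card - 4) / 3) (by omega) x
    exact this (by omega)

/-- All unit vectors lie in a closed set reaching outside the roots. -/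
theorem descent (hR : RSet R) (hp : (Fintype.card F).Prime) (hodd : Odd (Fintype.card F)) (hn : 7 ≤ Fintype.card ι)
    {x : ι → F} (hx : R x) (hnr : ¬ Root x) {z : ι} (hz : x z = 0) : ∀ y : ι → F, y ⬝ᵥ y = 1 → R y := by
  intro y hy
  by_cases h3 : Fintype.card F = 3
  · exact all_units_three hR h3 hn hx hnr y hy
  have h2' := hp.two_le
  have h4 : Fintype.card F ≠ 4 := fun e => by rw [e] at hp; norm_num at hp
  have h2 : Fintype.card F ≠ 2 := fun e => by rw [e] at hodd; exact absurd hodd (by decide)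
  have hS : Short R := by
    by_cases h11 : 11 ≤ Fintype.card F
    · exact short_large hR hp h11 hn hx hnr hz
    have hlist : Fintype.card F = 5 ∨ Fintype.card F = 7 := by
      rcases hodd with ⟨r, hr⟩
      have : Fintype.card F ≠ 9 := fun e => by rw [e] at hp; norm_num at hp
      omega
    rcases hlist with h | h
    · exact short_five hR hp h hn _ x hx rfl hnr
    · exact short_seven hR hp h hn _ x hx rfl hnr
  exact all_units hR hp (by omega) hn hS _ y hy rfl

end Cfsg.Agent.Frame10
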