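import Cfsg.Agent.Lib.Frame10Cent

/-!
An overgroup with a non-monomial element has one fixing a coordinate line up to the permutation: fusion of
involutions with six and with two negative signs.
-/

set_option autoImplicit false
set_option linter.unusedSectionVars false
set_option linter.style.haveILetI false
set_option maxHeartbeats 800000

namespace Cfsg.Agent.Frame10

open QuadraticMap Module
open Cfsg.Agent.OrthUnitaryQuad Cfsg.Agent.OrthUnitaryRefl Cfsg.Agent.OmegaDecomp
open scoped Matrix

variable {F : Type*} [Field F] {ι : Type*} [Fintype ι] [DecidableEq ι] [Fintype F]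
  {M : Subgroup (orth (sq F ι))}

/-- The eigenspace of an isometry. -/
def eig (g : orth (sq F ι)) (ε : F) : Submodule F (ι → F) :=
  LinearMap.ker ((g.1 : (ι → F) →ₗ[F] (ι → F)) - ε • LinearMap.id)

theorem mem_eig {g : orth (sq F ι)} {ε : F} {v : ι → F} : v ∈ eig g ε ↔ g.1 v = ε • v := by
  simp [eig, sub_eq_zero]

theorem mul_self_apply {z : orth (sq F ι)} (hz : z * z = 1) (v : ι → F) : z.1 (z.1 v) = v := by
  rw [← orth_mul_apply, hz]; rfl

theorem finrank_eig_conj (g h : orth (sq F ι)) (ε : F) :
    finrank F (eig (g * h * g⁻¹) ε) = finrank F (eig h ε) := by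
  have : eig (g * h * g⁻¹) ε = (eig h ε).map (g.1 : (ι → F) →ₗ[F] (ι → F)) := by
    ext v
    obtain ⟨w, rfl⟩ := g.1.surjective v
    have hg : g⁻¹.1 (g.1 w) = w := by rw [← orth_mul_apply, inv_mul_cancel]; rfl
    constructor
    · intro hv
      rw [mem_eig, orth_mul_apply, orth_mul_apply, hg, ← map_smul] at hv
      exact Submodule.mem_map_of_mem (mem_eig.2 (g.1.injective hv))
    · rintro ⟨w', hw', e⟩
      obtain rfl := g.1.injective e
      rw [mem_eig, orth_mul_apply, orth_mul_apply, hg, mem_eig.1 hw', map_smul]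
  rw [this, LinearEquiv.finrank_map_eq]

section invol

variable {z : orth (sq F ι)} {σ : Equiv.Perm ι} {c : ι → F}

theorem perm_invol (hz : z * z = 1) (hc : ∀ i, c i * c i = 1) (hzc : ∀ i, z.1 (ax i) = c i • ax (σ i))
    (i : ι) : σ (σ i) = i := by
  have h := mul_self_apply hz (ax i)
  rw [hzc, map_smul, hzc, smul_smul] at h
  by_contra hne
  have h' := congrFun h i
  rw [Pi.smul_apply, ax_ne (Ne.symm hne), ax_self, smul_zero] at h'
  exact zero_ne_one h'

theorem fix_sign (hc : ∀ i, c i * c i = 1) (i : ι) : c i = 1 ∨ c i = -1 :=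
  mul_self_eq_one_iff.1 (hc i)

/-- Representatives of the moved pairs. -/
theorem exists_reps (hinv : ∀ i, σ (σ i) = i) :
    ∃ R : Finset ι, (∀ i ∈ R, σ i ∈ R → σ i = i) ∧ ∀ i, i ∈ R ∨ σ i ∈ R := by
  classical
  let e := Fintype.equivFin ι
  refine ⟨Finset.univ.filter fun i => e i ≤ e (σ i), fun i hi hi' => ?_, fun i => ?_⟩
  · simp only [Finset.mem_filter, Finset.mem_univ, true_and] at hi hi'
    rw [hinv] at hi'
    exact e.injective (le_antisymm hi' hi)
  · simp only [Finset.mem_filter, Finset.mem_univ, true_and, hinv]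
    exact le_total _ _

/-- The moved representatives of a monomial involution give independent negative vectors. -/
theorem card_reps (hz : z * z = 1) (hc : ∀ i, c i * c i = 1) (hzc : ∀ i, z.1 (ax i) = c i • ax (σ i)) {d : ℕ}
    (hd : finrank F (eig z (-1)) ≤ d) {R : Finset ι} (hR1 : ∀ i ∈ R, σ i ∈ R → σ i = i)
    [DecidablePred fun i => z.1 (ax i) ≠ ax i] :
    (R.filter fun i => z.1 (ax i) ≠ ax i).card ≤ d := by
  classical
  have hinv := perm_invol hz hc hzc
  set R' := R.filter fun i => z.1 (ax i) ≠ ax i with hR'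
  have hmem : ∀ i, ax i - z.1 (ax i) ∈ eig z (-1) := fun i => by
    rw [mem_eig, map_sub, mul_self_apply hz, neg_one_smul, neg_sub]
  have hli : LinearIndependent F fun i : R' => (⟨_, hmem i⟩ : eig z (-1)) := by
    rw [Fintype.linearIndependent_iff]
    intro g hg i
    have h1 := congrArg (fun v : eig z (-1) => (v : ι → F) i) hg
    simp only [Submodule.coe_sum, Submodule.coe_smul, Submodule.coe_zero, Pi.zero_apply,
      Finset.sum_apply, Pi.smul_apply, smul_eq_mul] at h1
    rw [Finset.sum_eq_single i ?_ (by simp)] at h1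
    · rcases mul_eq_zero.1 h1 with h | h
      · exact h
      exfalso
      obtain ⟨hiR, hmov⟩ := Finset.mem_filter.1 i.2
      rw [Pi.sub_apply, hzc, ax_self, Pi.smul_apply, smul_eq_mul] at h
      by_cases hf : σ i = i
      · rw [hf, ax_self, mul_one, sub_eq_zero] at h
        exact hmov (by rw [hzc, hf, ← h, one_smul])
      · rw [ax_ne (Ne.symm hf), mul_zero, sub_zero] at h
        exact one_ne_zero h
    · intro j _ hj
      have hji : (i : ι) ≠ j := fun e => hj (Subtype.ext e.symm)
      rw [Pi.sub_apply, hzc, ax_ne hji, Pi.smul_apply]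
      by_cases hs : (i : ι) = σ j
      · exact absurd ((hR1 j (Finset.mem_filter.1 j.2).1 (hs ▸ (Finset.mem_filter.1 i.2).1)).symm.trans hs.symm)
          (fun e => hji e.symm)
      · rw [ax_ne hs, smul_zero, sub_zero, mul_zero]
  have h1 := hli.fintype_card_le_finrank
  rw [Fintype.card_coe] at h1
  exact h1.trans hd

/-- A monomial involution with small negative space moves few coordinate vectors. -/
theorem card_moved (h2 : (2 : F) ≠ 0) (hz : z * z = 1) (hc : ∀ i, c i * c i = 1)
    (hzc : ∀ i, z.1 (ax i) = c i • ax (σ i)) {d : ℕ} (hd : finrank F (eig z (-1)) ≤ d)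
    {T : Finset ι} (hT : ∀ i ∈ T, z.1 (ax i) ≠ ax i) : T.card ≤ 2 * d := by
  classical
  have hinv := perm_invol hz hc hzc
  obtain ⟨R, hR1, hR2⟩ := exists_reps hinv
  set R' := R.filter fun i => z.1 (ax i) ≠ ax i
  have h1 : R'.card ≤ d := card_reps hz hc hzc hd hR1
  have hsub : T ⊆ R' ∪ R'.image σ := by
    intro i hi
    rcases hR2 i with h | h
    · exact Finset.mem_union_left _ (Finset.mem_filter.2 ⟨h, hT i hi⟩)
    · refine Finset.mem_union_right _ (Finset.mem_image.2 ⟨σ i, Finset.mem_filter.2 ⟨h, fun e => hT i hi ?_⟩, hinv i⟩)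
      have e' : c (σ i) • (ax i : ι → F) = ax (σ i) := by rw [← e, hzc, hinv]
      have h' := congrFun e' i
      rw [Pi.smul_apply, ax_self, smul_eq_mul, mul_one] at h'
      by_cases hf : σ i = i
      · rw [hf, ax_self] at h'
        rw [hzc, hf, h', one_smul]
      · rw [ax_ne (Ne.symm hf)] at h'
        have := hc (σ i); rw [h', mul_zero] at this; exact absurd this zero_ne_one
  have h3 := Finset.card_le_card hsub
  have h4 := Finset.card_union_le R' (R'.image σ)
  have h5 : (R'.image σ).card ≤ R'.card := Finset.card_image_le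
  omega

/-- An eigenspace of a monomial involution moving at most four coordinates. -/
theorem space_of_invol (h2 : (2 : F) ≠ 0) (hz : z * z = 1) (hc : ∀ i, c i * c i = 1)
    (hzc : ∀ i, z.1 (ax i) = c i • ax (σ i)) (hT : (Finset.univ.filter fun i => σ i ≠ i).card ≤ 4)
    {ε : F} (hε : ε * ε = 1) {S : Finset ι} (hS : ∀ a, a ∈ S ↔ z.1 (ax a) = ε • ax a) (h5 : 3 ≤ S.card)
    (hout : ∃ l, z.1 (ax l) = (-ε) • ax l) : Space (eig z ε) S := by
  classical
  have hinv := perm_invol hz hc hzc
  have hε0 : ε ≠ 0 := fun e => by rw [e, mul_zero] at hε; exact zero_ne_one hε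
  refine ⟨h5, fun a => mem_eig.trans (hS a).symm, ?_, ?_⟩
  · obtain ⟨l, hl⟩ := hout
    refine ⟨l, fun w hw => ?_⟩
    have h := map_dot z h2 (ax l) w
    rw [hl, mem_eig.1 hw, smul_dotProduct, dotProduct_smul, dot_ax, smul_eq_mul, smul_eq_mul] at h
    exact (mul_eq_zero.1 (show 2 * w l = 0 by linear_combination -h - (w l) * hε)).resolve_left h2
  · obtain ⟨R, hR1, hR2⟩ := exists_reps hinv
    set T := Finset.univ.filter fun i => σ i ≠ i
    set R' := T ∩ R
    have hcard : R'.card ≤ 2 := by
      have hd : Disjoint R' (R'.image σ) := Finset.disjoint_left.2 fun i hi hi' => by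
        obtain ⟨hiT, hiR⟩ := Finset.mem_inter.1 hi
        obtain ⟨j, hj, rfl⟩ := Finset.mem_image.1 hi'
        obtain ⟨hjT, hjR⟩ := Finset.mem_inter.1 hj
        exact (Finset.mem_filter.1 hjT).2 (hR1 j hjR hiR)
      have hsub : R' ∪ R'.image σ ⊆ T := Finset.union_subset Finset.inter_subset_left fun i hi => by
        obtain ⟨j, hj, rfl⟩ := Finset.mem_image.1 hi
        obtain ⟨hjT, -⟩ := Finset.mem_inter.1 hj
        exact Finset.mem_filter.2 ⟨Finset.mem_univ _, fun e => (Finset.mem_filter.1 hjT).2 (σ.injective e)⟩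
      have h1 := Finset.card_le_card hsub
      rw [Finset.card_union_of_disjoint hd, Finset.card_image_of_injective _ σ.injective] at h1
      omega
    let L : ↥(eig z ε ⊓ zeroOn S) →ₗ[F] (R' → F) :=
      LinearMap.pi fun i : R' => (LinearMap.proj (i : ι)).comp (Submodule.subtype _)
    have hL : Function.Injective L := by
      rw [← LinearMap.ker_eq_bot, Submodule.eq_bot_iff]
      intro v hv
      have hv' : ∀ i ∈ R', (v : ι → F) i = 0 := fun i hi => congrFun (LinearMap.mem_ker.1 hv) ⟨i, hi⟩
      obtain ⟨hvW, hvS⟩ := v.2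
      rw [SetLike.mem_coe, mem_eig] at hvW
      rw [SetLike.mem_coe, mem_zeroOn] at hvS
      have hval : ∀ i, ε * (v : ι → F) (σ i) = c i * (v : ι → F) i := fun i => by
        rw [← mono_ax h2 hc hzc, hvW]; rfl
      refine Subtype.ext (funext fun i => ?_)
      show (v : ι → F) i = 0
      by_cases hf : σ i = i
      · by_cases hiS : i ∈ S
        · exact hvS i hiS
        have hne : c i ≠ ε := fun e => hiS ((hS i).2 (by rw [hzc, hf, e]))
        have h := hval i
        rw [hf] at h
        exact (mul_eq_zero.1 (show (c i - ε) * (v : ι → F) i = 0 by linear_combination -h)).resolve_left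
          (sub_ne_zero.2 hne)
      rcases hR2 i with h | h
      · exact hv' i (Finset.mem_inter.2 ⟨Finset.mem_filter.2 ⟨Finset.mem_univ _, hf⟩, h⟩)
      · have h0 := hv' (σ i) (Finset.mem_inter.2 ⟨Finset.mem_filter.2 ⟨Finset.mem_univ _, fun e =>
          hf (σ.injective e)⟩, h⟩)
        have h' := hval i
        rw [h0, mul_zero] at h'
        rcases mul_eq_zero.1 h'.symm with e | e
        · have := hc i; rw [e, mul_zero] at this; exact absurd this zero_ne_one
        · exact e
    have := LinearMap.finrank_le_finrank_of_injective hL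
    rw [Module.finrank_fintype_fun_eq_card, Fintype.card_coe] at this
    omega

end invol

/-- Sign changes on an even set. -/
theorem exists_neg (hM : Over M) (h2 : (2 : F) ≠ 0) (hn : 5 ≤ Fintype.card ι) (A : Finset ι) (hA : Even A.card) :
    ∃ m ∈ M, ∀ x i, (m.1 x) i = if i ∈ A then -(x i) else x i := by
  obtain ⟨k, hk⟩ := hA
  induction k generalizing A with
  | zero =>
    rw [Finset.card_eq_zero.1 hk]
    exact ⟨1, M.one_mem, fun x i => by simp⟩
  | succ k ih =>
    obtain ⟨a, ha⟩ := Finset.card_pos.1 (by omega : 0 < A.card)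
    obtain ⟨b, hb⟩ := Finset.card_pos.1 (show 0 < (A.erase a).card by rw [Finset.card_erase_of_mem ha]; omega)
    obtain ⟨m, hm, hmx⟩ := ih ((A.erase a).erase b) (by
      rw [Finset.card_erase_of_mem hb, Finset.card_erase_of_mem ha]; omega)
    obtain ⟨ha', hb', hp⟩ := pair_ax hM h2 hn a b
    refine ⟨_, M.mul_mem hp hm, fun x i => ?_⟩
    have hba : b ≠ a := (Finset.mem_erase.1 hb).1
    have hbA : b ∈ A := (Finset.mem_erase.1 hb).2
    rw [orth_mul_apply, orth_mul_apply, refl_rv hb', refl_rv ha', rv_ax, rv_ax]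
    simp only [Function.update_apply, hmx, Finset.mem_erase]
    rcases eq_or_ne i a with rfl | hia
    · simp [ha, hba.symm]
    rcases eq_or_ne i b with rfl | hib
    · simp [hbA, hia]
    · simp [hia, hib]

/-- The pair of reflections in orthogonal unit vectors. -/
theorem pair_facts (h2 : (2 : F) ≠ 0) {x y : ι → F} (hx : x ⬝ᵥ x = 1) (hy : y ⬝ᵥ y = 1) (hxy : x ⬝ᵥ y = 0)
    {s : orth (sq F ι)} (hs : ∀ v, s.1 v = rv x (rv y v)) :
    s * s = 1 ∧ x ∈ eig s (-1) ∧ y ∈ eig s (-1) ∧ eig s (-1) = Submodule.span F {x, y} ∧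
      finrank F (eig s (-1)) = 2 := by
  have hv : ∀ v, s.1 v = v - (2 * (y ⬝ᵥ v)) • y - (2 * (x ⬝ᵥ v)) • x := fun v => by
    rw [hs, rv, rv, hx, hy, div_one, div_one, dotProduct_sub, dotProduct_smul, hxy, smul_zero, sub_zero]
  have hmx : x ∈ eig s (-1) := by
    rw [mem_eig, hv, dotProduct_comm y x, hxy, hx]; funext i; simp; ring
  have hmy : y ∈ eig s (-1) := by
    rw [mem_eig, hv, hxy, hy]; funext i; simp; ring
  have he : eig s (-1) = Submodule.span F {x, y} := by
    refine le_antisymm (fun v hv' => ?_) (Submodule.span_le.2 (by simp [Set.insert_subset_iff, hmx, hmy]))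
    rw [mem_eig, hv] at hv'
    refine Submodule.mem_span_pair.2 ⟨x ⬝ᵥ v, y ⬝ᵥ v, ?_⟩
    funext i
    have := congrFun hv' i
    simp at this ⊢
    exact mul_left_cancel₀ h2 (by linear_combination -this)
  refine ⟨orth_ext fun v => ?_, hmx, hmy, he, ?_⟩
  · rw [orth_mul_apply, hv (s.1 v), hv v]
    simp only [dotProduct_sub, dotProduct_smul, hxy, dotProduct_comm y x, hx, hy, smul_eq_mul]
    funext i
    simp; ring
  · rw [he, show ({x, y} : Set (ι → F)) = Set.range ![x, y] by simp [Set.pair_comm]]
    rw [finrank_span_eq_card, Fintype.card_fin]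
    rw [LinearIndependent.pair_iff]
    intro a b hab
    have ha := congrArg (x ⬝ᵥ ·) hab
    have hb := congrArg (y ⬝ᵥ ·) hab
    simp [hx, hy, hxy, dotProduct_comm y x] at ha hb
    exact ⟨ha, hb⟩

/-- Some conjugate of a pair of sign changes is not monomial. -/
theorem exists_pair (hM : Over M) (hS : Star M) (h2 : (2 : F) ≠ 0) (hn : 7 ≤ Fintype.card ι)
    {g : orth (sq F ι)} (hg : g ∈ M) (hgm : ¬ Mono g) :
    ∃ s ∈ M, ¬ Mono s ∧ ∃ x y, x ⬝ᵥ x = 1 ∧ y ⬝ᵥ y = 1 ∧ x ⬝ᵥ y = 0 ∧ ∀ v, s.1 v = rv x (rv y v) := by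
  classical
  by_contra hall
  push Not at hall
  let u : ι → ι → F := fun a => g.1 (ax a)
  have hu : ∀ a, u a ⬝ᵥ u a = 1 := fun a => by
    rw [map_dot_self]; rw [dot_ax, ax_self]
  have hud : ∀ {a b}, a ≠ b → u a ⬝ᵥ u b = 0 := fun {a b} h => (col_dot g h2 a b).trans (if_neg h)
  have hmono : ∀ a b, a ≠ b → ∃ k ∈ M, Mono k ∧ ∀ v, k.1 v = rv (u a) (rv (u b) v) := fun a b hab => by
    obtain ⟨h1, h1', hp⟩ := (pair_ax hM h2 (by omega) a b).map hg
    have happ : ∀ v, (refl (sq F ι) _ h1 * refl (sq F ι) _ h1').1 v = rv (u a) (rv (u b) v) := fun v => by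
      rw [orth_mul_apply, refl_rv h1', refl_rv h1]
    by_contra hc
    push Not at hc
    obtain ⟨v, hv⟩ := hall _ hp (fun hm => by
      obtain ⟨v, hv⟩ := hc _ hp hm
      exact hv (happ v)) (u a) (u b) (hu a) (hu b) (hud hab)
    exact hv (happ v)
  -- no negated coordinate line
  have hneg : ∀ a b, a ≠ b → ∀ i, ax i ∉ Submodule.span F {u a, u b} := by
    intro a b hab i hi
    obtain ⟨k, hk, hkm, hkv⟩ := hmono a b hab
    obtain ⟨hk2, hka, hkb, hke, hkd⟩ := pair_facts h2 (hu a) (hu b) (hud hab) hkv
    obtain ⟨σ, c, hc, hσ⟩ := mono_perm h2 hkm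
    have hT : (Finset.univ.filter fun j => σ j ≠ j).card ≤ 4 :=
      (card_moved h2 hk2 hc hσ hkd.le (T := Finset.univ.filter fun j => σ j ≠ j) fun j hj e => (Finset.mem_filter.1 hj).2 (by
        by_contra hne
        have := congrFun e j
        rw [hσ, Pi.smul_apply, ax_ne (Ne.symm hne), ax_self, smul_zero] at this
        exact zero_ne_one this)).trans (by norm_num)
    set S := Finset.univ.filter fun j => k.1 (ax j) = (1 : F) • ax j
    have hScard : 3 ≤ S.card := by
      have hm := card_moved h2 hk2 hc hσ hkd.le (T := Sᶜ) fun j hj => by simpa [S] using hj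
      rw [Finset.card_compl] at hm
      omega
    have hW' := space_of_invol h2 hk2 hc hσ hT (mul_one 1) (S := S) (fun j => by simp [S]) hScard
      ⟨i, mem_eig.1 (hke ▸ hi)⟩
    have hW : Space (zeroOn (F := F) ({a, b} : Finset ι)) ({a, b} : Finset ι)ᶜ := by
      refine ⟨by rw [Finset.card_compl]; have := Finset.card_le_two (a := a) (b := b); omega, fun j => ?_,
        ⟨a, fun w hw => mem_zeroOn.1 hw a (by simp)⟩, ?_⟩
      · rw [mem_zeroOn]
        simp only [Finset.mem_compl, ax, Pi.single_apply]
        exact ⟨fun h hj => one_ne_zero ((if_pos rfl).symm.trans (h j hj)), fun h l hl =>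
          if_neg fun e => h (by rw [← e]; exact hl)⟩
      · rw [show zeroOn (F := F) ({a, b} : Finset ι) ⊓ zeroOn ({a, b} : Finset ι)ᶜ = ⊥ from
          (Submodule.eq_bot_iff _).2 fun v hv => funext fun j => by
            by_cases hj : j ∈ ({a, b} : Finset ι)
            · exact mem_zeroOn.1 hv.1 j hj
            · exact mem_zeroOn.1 hv.2 j (Finset.mem_compl.2 hj), finrank_bot]
        omega
    suffices key : ∀ x, g.1 x ∈ eig k 1 ↔ x ∈ zeroOn (F := F) ({a, b} : Finset ι) by
      refine hgm ?_
      have := mono_inv h2 (mono_of_space hM hS h2 (by omega) hW' hW (by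
        rw [Finset.card_compl]; have := Finset.card_le_two (a := a) (b := b); omega) (M.inv_mem hg) fun x => by
          have hx' : g.1 (g⁻¹.1 x) = x := by rw [← orth_mul_apply, mul_inv_cancel]; rfl
          conv_rhs => rw [← hx']
          exact (key _).symm)
      rwa [inv_inv] at this
    intro x
    rw [mem_eig, one_smul, mem_zeroOn]
    have hd : ∀ l, u l ⬝ᵥ g.1 x = x l := fun l => by rw [map_dot g h2, dot_ax]
    have hkx : k.1 (g.1 x) = g.1 x - (2 * x b) • u b - (2 * x a) • u a := by
      rw [hkv, rv, rv, hu, hu, div_one, div_one, dotProduct_sub, dotProduct_smul, hud hab, hd, hd, smul_zero,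
        sub_zero]
    rw [hkx]
    constructor
    · intro h
      have ha := congrArg (u a ⬝ᵥ ·) h
      have hb := congrArg (u b ⬝ᵥ ·) h
      simp [dotProduct_sub, dotProduct_smul, hud hab, hud hab.symm, hu, h2] at ha hb
      simp [ha, hb]
    · intro h
      rw [h a (by simp), h b (by simp)]
      simp
  -- supports of size two
  let sp : ι → Finset ι := fun a => Finset.univ.filter fun j => u a j ≠ 0
  have hsp : ∀ a, (sp a).card = 2 := by
    intro a
    by_contra hne
    have data : ∀ b, b ≠ a → ∃ σ : Equiv.Perm ι, ∃ k : orth (sq F ι), ∃ c : ι → F,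
        (∀ i, c i * c i = 1) ∧ (∀ i, k.1 (ax i) = c i • ax (σ i)) ∧ (∀ i ∈ sp a, σ i ∈ sp a ∧ σ i ≠ i) ∧
        (∀ i ∈ sp a, c i * u a i = -(u a (σ i))) ∧ (∀ i, σ (σ i) = i) ∧
        (Finset.univ.filter fun j => k.1 (ax j) ≠ ax j).card ≤ 4 ∧ (sp a ⊆ Finset.univ.filter fun j => k.1 (ax j) ≠ ax j) ∧
        eig k (-1) = Submodule.span F {u a, u b} := by
      intro b hb
      obtain ⟨k, -, hkm, hkv⟩ := hmono a b hb.symm
      obtain ⟨hk2, hka, -, hke, hkd⟩ := pair_facts h2 (hu a) (hu b) (hud hb.symm) hkv
      obtain ⟨σ, c, hc, hσ⟩ := mono_perm h2 hkm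
      have hval : ∀ i, c i * u a i = -(u a (σ i)) := fun i => by
        rw [← mono_ax h2 hc hσ, mem_eig.1 hka]; simp
      refine ⟨σ, k, c, hc, hσ, fun i hi => ⟨?_, fun e => hneg a b hb.symm i ?_⟩, fun i _ => hval i,
        perm_invol hk2 hc hσ, (card_moved h2 hk2 hc hσ hkd.le fun j hj => (Finset.mem_filter.1 hj).2).trans
          (by norm_num), fun i hi => Finset.mem_filter.2 ⟨Finset.mem_univ _, fun e => ?_⟩, hke⟩
      · have hi' := (Finset.mem_filter.1 hi).2
        refine Finset.mem_filter.2 ⟨Finset.mem_univ _, fun e => ?_⟩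
        have := hval i
        rw [e, neg_zero] at this
        rcases mul_eq_zero.1 this with h | h
        · have := hc i; rw [h, mul_zero] at this; exact zero_ne_one this
        · exact hi' h
      · have h := hval i
        rw [e] at h
        have hc1 : c i = -1 := mul_right_cancel₀ (Finset.mem_filter.1 hi).2 (by linear_combination h)
        rw [← hke, mem_eig, hσ, e, hc1]
      · have h := map_dot k h2 (ax i) (u a)
        rw [e, mem_eig.1 hka, dotProduct_smul, dot_ax, smul_eq_mul] at h
        exact (Finset.mem_filter.1 hi).2 ((mul_eq_zero.1 (show 2 * u a i = 0 by linear_combination -h)).resolve_left h2)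
    choose σ k c hc hσ hσs hval hinv hT hsub hke using data
    obtain ⟨i₀, hi₀⟩ : (sp a).Nonempty := by
      by_contra h
      rw [Finset.not_nonempty_iff_eq_empty] at h
      have h0 : u a = 0 := funext fun j => by
        by_contra hj
        have : j ∈ sp a := Finset.mem_filter.2 ⟨Finset.mem_univ _, hj⟩
        rw [h] at this
        exact Finset.notMem_empty j this
      have := hu a
      rw [h0, zero_dotProduct] at this
      exact zero_ne_one this
    let f : {b // b ≠ a} → {j // j ∈ sp a} := fun b => ⟨σ b b.2 i₀, (hσs b b.2 i₀ hi₀).1⟩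
    have hf : Function.Injective f := by
      intro b b' e
      have e0 : σ b b.2 i₀ = σ b' b'.2 i₀ := congrArg Subtype.val e
      have hle : (sp a).card ≤ 4 := (Finset.card_le_card (hsub b b.2)).trans (hT b b.2)
      have h3 : 3 ≤ (sp a).card := by
        have : 1 < (sp a).card := Finset.one_lt_card.2 ⟨i₀, hi₀, _, (hσs b b.2 i₀ hi₀).1, (hσs b b.2 i₀ hi₀).2.symm⟩
        omega
      set j := σ b b.2 i₀
      have hσeq : ∀ i ∈ sp a, σ b b.2 i = σ b' b'.2 i := by
        intro i hi
        rcases eq_or_ne i i₀ with rfl | hii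
        · exact e0
        rcases eq_or_ne i j with rfl | hij
        · show σ b b.2 (σ b b.2 i₀) = σ b' b'.2 (σ b b.2 i₀)
          rw [hinv b b.2, show σ b b.2 i₀ = σ b' b'.2 i₀ from e0, hinv b' b'.2]
        have loc : ∀ (b : ι) (hb : b ≠ a), σ b hb i₀ = j → σ b hb i ∈ ((sp a).erase i₀).erase j ∧ σ b hb i ≠ i :=
          fun b hb ej => ⟨Finset.mem_erase.2 ⟨fun e => hii ((σ b hb).injective (e.trans ej.symm)),
            Finset.mem_erase.2 ⟨fun e => hij (by rw [← hinv b hb i, e, ej]), (hσs b hb i hi).1⟩⟩,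
            (hσs b hb i hi).2⟩
        obtain ⟨m1, n1⟩ := loc b b.2 rfl
        obtain ⟨m2, n2⟩ := loc b' b'.2 e0.symm
        by_contra hne'
        have hi' : i ∈ ((sp a).erase i₀).erase j := Finset.mem_erase.2 ⟨hij, Finset.mem_erase.2 ⟨hii, hi⟩⟩
        have hthree : ({i, σ b b.2 i, σ b' b'.2 i} : Finset ι) ⊆ ((sp a).erase i₀).erase j := by
          simp [Finset.insert_subset_iff, hi', m1, m2]
        have := Finset.card_le_card hthree
        rw [Finset.card_erase_of_mem (Finset.mem_erase.2 ⟨(hσs b b.2 i₀ hi₀).2, (hσs b b.2 i₀ hi₀).1⟩),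
          Finset.card_erase_of_mem hi₀,
          Finset.card_insert_of_notMem (by simp [n1.symm, n2.symm]), Finset.card_pair hne'] at this
        omega
      have hfull : ∀ (b : ι) (hb : b ≠ a), ∀ i, i ∉ sp a → (k b hb).1 (ax i) = ax i := by
        intro b hb i hi
        by_contra hmv
        have hsub' : insert i (sp a) ⊆ Finset.univ.filter fun j => (k b hb).1 (ax j) ≠ ax j :=
          Finset.insert_subset (Finset.mem_filter.2 ⟨Finset.mem_univ _, hmv⟩) (hsub b hb)
        have h4 := (Finset.card_le_card hsub').trans (hT b hb)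
        rw [Finset.card_insert_of_notMem hi] at h4
        -- an involution without fixed points on the support
        obtain ⟨R, hR1, hR2⟩ := exists_reps (hinv b hb)
        have hpar : (sp a).card = 2 * ((sp a) ∩ R).card := by
          have hd : Disjoint ((sp a) ∩ R) (((sp a) ∩ R).image (σ b hb)) := Finset.disjoint_left.2 fun l hl hl' => by
            obtain ⟨l', hl'', rfl⟩ := Finset.mem_image.1 hl'
            obtain ⟨hl1, hl2⟩ := Finset.mem_inter.1 hl''
            exact (hσs b hb l' hl1).2 (hR1 l' hl2 (Finset.mem_inter.1 hl).2)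
          have hun : (sp a ∩ R) ∪ (sp a ∩ R).image (σ b hb) = sp a := by
            ext l
            simp only [Finset.mem_union, Finset.mem_inter, Finset.mem_image]
            constructor
            · rintro (⟨h, -⟩ | ⟨l', ⟨hl', -⟩, rfl⟩)
              exacts [h, (hσs b hb l' hl').1]
            · intro hl
              rcases hR2 l with h | h
              exacts [Or.inl ⟨hl, h⟩, Or.inr ⟨_, ⟨(hσs b hb l hl).1, h⟩, hinv b hb l⟩]
          conv_lhs => rw [← hun]
          rw [Finset.card_union_of_disjoint hd, Finset.card_image_of_injective _ (σ b hb).injective]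
          omega
        omega
      have hkeq : ∀ i, (k b b.2).1 (ax i) = (k b' b'.2).1 (ax i) := fun i => by
        by_cases hi : i ∈ sp a
        · rw [hσ, hσ, hσeq i hi]
          congr 1
          refine mul_right_cancel₀ (Finset.mem_filter.1 hi).2 ?_
          rw [hval b b.2 i hi, hval b' b'.2 i hi, hσeq i hi]
        · rw [hfull b b.2 i hi, hfull b' b'.2 i hi]
      have hk : k b b.2 = k b' b'.2 := orth_ext fun v => by
        conv_lhs => rw [pi_eq_sum_univ' v]
        conv_rhs => rw [pi_eq_sum_univ' v]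
        simp only [map_sum, map_smul]
        exact Finset.sum_congr rfl fun i _ => by
          have := hkeq i
          simp only [ax] at this
          rw [this]
      by_contra hbb
      have hmem : u b' ∈ Submodule.span F {u a, u b} := by
        rw [← hke b b.2, hk, hke b' b'.2]
        exact Submodule.subset_span (by simp)
      obtain ⟨α, β, hαβ⟩ := Submodule.mem_span_pair.1 hmem
      have := congrArg (u b' ⬝ᵥ ·) hαβ
      have hne' : (b' : ι) ≠ b := fun e => hbb (Subtype.ext e.symm)
      simp [dotProduct_add, dotProduct_smul, hud b'.2, hud hne', hu] at this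
    have h1 := Fintype.card_le_of_injective f hf
    rw [Fintype.card_coe, Fintype.card_subtype_compl, Fintype.card_subtype_eq] at h1
    obtain ⟨b, hb⟩ : ∃ b, b ≠ a := Fintype.exists_ne_of_one_lt_card (by omega) a
    have := (Finset.card_le_card (hsub b hb)).trans (hT b hb)
    omega
  -- hence disjoint supports
  have hdis : (Finset.univ : Finset ι).sum (fun a => (sp a).card) ≤ Fintype.card ι := by
    rw [← Finset.card_biUnion]
    · exact Finset.card_le_univ _
    intro a _ b _ hab
    refine Finset.disjoint_left.2 fun i hia hib => ?_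
    obtain ⟨j, hij, hja⟩ : ∃ j, j ≠ i ∧ sp a = {i, j} := by
      obtain ⟨p, q, hpq, e⟩ := Finset.card_eq_two.1 (hsp a)
      rw [e] at hia
      simp at hia
      rcases hia with rfl | rfl
      · exact ⟨q, hpq.symm, e⟩
      · exact ⟨p, hpq, by rw [e, Finset.pair_comm]⟩
    have hz : ∀ l, l ≠ i → l ≠ j → u a l = 0 := fun l h1 h3 => by
      by_contra h
      have : l ∈ sp a := Finset.mem_filter.2 ⟨Finset.mem_univ _, h⟩
      rw [hja] at this
      simp [h1, h3] at this
    have hd0 : u a i * u b i + u a j * u b j = 0 := by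
      rw [← hud hab]
      exact (Finset.sum_eq_add (s := Finset.univ) (f := fun l => u a l * u b l) i j hij.symm
        (fun l _ hl => by rw [hz l hl.1 hl.2, zero_mul]) (by simp) (by simp)).symm
    have hai := (Finset.mem_filter.1 hia).2
    have hbi := (Finset.mem_filter.1 hib).2
    have hbj : u b j ≠ 0 := fun h => mul_ne_zero hai hbi (by rw [h, mul_zero, add_zero] at hd0; exact hd0)
    have hzb : ∀ l, l ≠ i → l ≠ j → u b l = 0 := fun l h1 h3 => by
      by_contra h
      have hsub : ({i, j, l} : Finset ι) ⊆ sp b := by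
        simp [sp, Finset.insert_subset_iff, hbi, hbj, h]
      have := Finset.card_le_card hsub
      rw [hsp b, Finset.card_insert_of_notMem (by simp [hij.symm, h1.symm]), Finset.card_pair h3.symm] at this
      omega
    have haj : u a j ≠ 0 := (Finset.mem_filter.1 (show j ∈ sp a by rw [hja]; simp)).2
    have hdet : u a i * u b j - u b i * u a j ≠ 0 := fun h => by
      refine mul_ne_zero (mul_ne_zero h2 hai) hbi (mul_right_cancel₀ hai ?_)
      have e1 : u a i * u a i + u a j * u a j = 1 := by
        rw [← hu a]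
        exact (Finset.sum_eq_add (s := Finset.univ) (f := fun l => u a l * u a l) i j hij.symm
          (fun l _ hl => by rw [hz l hl.1 hl.2, zero_mul]) (by simp) (by simp)).symm
      have e3 : u b i = 0 := by linear_combination u a i * hd0 - u a j * h - u b i * e1
      exact absurd e3 hbi
    refine hneg a b hab i (Submodule.mem_span_pair.2
      ⟨u b j / (u a i * u b j - u b i * u a j), -(u a j) / (u a i * u b j - u b i * u a j), ?_⟩)
    funext l
    simp only [Pi.add_apply, Pi.smul_apply, smul_eq_mul]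
    rcases eq_or_ne l i with rfl | hli
    · rw [ax_self, div_mul_eq_mul_div, div_mul_eq_mul_div, ← add_div, div_eq_one_iff_eq hdet]; ring
    rcases eq_or_ne l j with rfl | hlj
    · rw [ax_ne hli, div_mul_eq_mul_div, div_mul_eq_mul_div, ← add_div]; rw [show u b l * u a l + -u a l * u b l = 0 by ring, zero_div]
    · rw [hz l hli hlj, hzb l hli hlj, ax_ne hli]; ring
  rw [Finset.sum_congr rfl (fun a _ => hsp a), Finset.sum_const, Finset.card_univ, smul_eq_mul] at hdis
  omega

/-- Six coordinates in general position for a colouring of at least nine coordinates. -/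
theorem exists_six (r : Setoid ι) (hn : 9 ≤ Fintype.card ι) :
    ∃ A : Finset ι, A.card = 6 ∧
      (∀ (a : ι) (C : Finset ι), (∀ l, l ∈ C ↔ r a l) → Fintype.card ι ≤ C.card + 4 → ∀ l, l ∉ A → r a l) ∧
      ((∀ a, a ∉ A → ∀ b, b ∉ A → r a b) ∨
        ((Fintype.card ι ≤ 10 → ∃ f : Fin 3 → ι, (∀ i, f i ∉ A) ∧ ∀ i j, r (f i) (f j) → i = j) ∧
          (Fintype.card ι ≤ 12 → ∀ B ⊆ A, (∀ a ∈ B, ∀ b ∈ B, r a b) → B.card ≤ 3))) := by
  classical
  let cls : ι → Finset ι := fun a => Finset.univ.filter fun l => r a l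
  have hcls : ∀ {a l}, l ∈ cls a ↔ r a l := fun {a l} => by simp [cls]
  haveI : Nonempty ι := Fintype.card_pos_iff.1 (by omega)
  obtain ⟨g, -, hg⟩ := Finset.exists_max_image Finset.univ (fun a => (cls a).card) Finset.univ_nonempty
  have hC : ∀ (a : ι) (C : Finset ι), (∀ l, l ∈ C ↔ r a l) → C = cls a := fun a C h =>
    Finset.ext fun l => (h l).trans hcls.symm
  by_cases hbig : Fintype.card ι ≤ (cls g).card + 6
  · obtain ⟨B, hB, hBc⟩ := Finset.exists_subset_card_eq (show Fintype.card ι - 6 ≤ (cls g).card by omega)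
    refine ⟨Bᶜ, by rw [Finset.card_compl, hBc]; omega, fun a C h hCc l hl => ?_, Or.inl fun a ha b hb => ?_⟩
    · have hgl := hcls.1 (hB (by simpa using hl))
      have hag := hg a (Finset.mem_univ a)
      rw [hC a C h] at hCc
      obtain ⟨t, ht⟩ : ∃ t, t ∈ cls a ∩ cls g := by
        by_contra hne
        push Not at hne
        have hd : Disjoint (cls a) (cls g) := Finset.disjoint_left.2 fun t h1 h3 => hne t (Finset.mem_inter.2 ⟨h1, h3⟩)
        have := Finset.card_le_univ (cls a ∪ cls g)
        rw [Finset.card_union_of_disjoint hd] at this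
        omega
      rw [Finset.mem_inter, hcls, hcls] at ht
      exact r.trans' (r.trans' ht.1 (r.symm' ht.2)) hgl
    · exact r.trans' (r.symm' (hcls.1 (hB (by simpa using ha)))) (hcls.1 (hB (by simpa using hb)))
  push Not at hbig
  have hsmall : ∀ a, (cls a).card + 7 ≤ Fintype.card ι := fun a => by
    have := hg a (Finset.mem_univ a); omega
  have hR0 : ∀ (a : ι) (C : Finset ι), (∀ l, l ∈ C ↔ r a l) → ¬ Fintype.card ι ≤ C.card + 4 := fun a C h => by
    rw [hC a C h]; have := hsmall a; omega
  by_cases h10 : Fintype.card ι ≤ 10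
  · obtain ⟨t₁⟩ : Nonempty ι := inferInstance
    obtain ⟨t₂, ht₂⟩ := Finset.card_pos.1 (show 0 < (cls t₁)ᶜ.card by
      rw [Finset.card_compl]; have := hsmall t₁; omega)
    obtain ⟨t₃, ht₃⟩ := Finset.card_pos.1 (show 0 < (cls t₁ ∪ cls t₂)ᶜ.card by
      rw [Finset.card_compl]; have := hsmall t₁; have := hsmall t₂
      have := Finset.card_union_le (cls t₁) (cls t₂); omega)
    rw [Finset.mem_compl, hcls] at ht₂
    rw [Finset.mem_compl, Finset.mem_union, not_or, hcls, hcls] at ht₃
    obtain ⟨A, hA, hAc⟩ := Finset.exists_subset_card_eq (show 6 ≤ ({t₁, t₂, t₃} : Finset ι)ᶜ.card by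
      rw [Finset.card_compl]; have := Finset.card_le_three (a := t₁) (b := t₂) (c := t₃); omega)
    refine ⟨A, hAc, fun a C h hCc => absurd hCc (hR0 a C h), Or.inr ⟨fun _ => ⟨![t₁, t₂, t₃], ?_, ?_⟩, ?_⟩⟩
    · intro i hi
      have := hA hi
      fin_cases i <;> simp at this
    · intro i j hij
      fin_cases i <;> fin_cases j <;>
        first
          | rfl
          | exact absurd hij ht₂
          | exact absurd (r.symm' hij) ht₂
          | exact absurd hij ht₃.1
          | exact absurd (r.symm' hij) ht₃.1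
          | exact absurd hij ht₃.2
          | exact absurd (r.symm' hij) ht₃.2
    · intro _ B _ hB
      rcases B.eq_empty_or_nonempty with rfl | ⟨b, hb⟩
      · simp
      · have := Finset.card_le_card (show B ⊆ cls b from fun l hl => hcls.2 (hB b hb l hl))
        have := hsmall b
        omega
  obtain ⟨A₁, hA₁, hA₁c⟩ := Finset.exists_subset_card_eq (show min 3 (cls g).card ≤ (cls g).card by omega)
  obtain ⟨A₂, hA₂, hA₂c⟩ := Finset.exists_subset_card_eq (show 6 - A₁.card ≤ (cls g)ᶜ.card by
    rw [Finset.card_compl]; have := hsmall g; omega)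
  have hd : Disjoint A₁ A₂ := Finset.disjoint_left.2 fun t h1 h3 => Finset.mem_compl.1 (hA₂ h3) (hA₁ h1)
  have hgpos : 0 < (cls g).card := Finset.card_pos.2 ⟨g, hcls.2 (r.refl' g)⟩
  refine ⟨A₁ ∪ A₂, by rw [Finset.card_union_of_disjoint hd, hA₁c, hA₂c]; omega,
    fun a C h hCc => absurd hCc (hR0 a C h), Or.inr ⟨fun h => absurd h h10, fun _ B hBA hB => ?_⟩⟩
  rcases B.eq_empty_or_nonempty with rfl | ⟨b, hb⟩
  · simp
  by_cases hgb : r g b
  · have : B ⊆ A₁ := fun l hl => (Finset.mem_union.1 (hBA hl)).resolve_right fun h =>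
      Finset.mem_compl.1 (hA₂ h) (hcls.2 (r.trans' hgb (hB b hb l hl)))
    have := Finset.card_le_card this
    omega
  · have h1 : B ⊆ A₂ := fun l hl => (Finset.mem_union.1 (hBA hl)).resolve_left fun h =>
      hgb (r.trans' (hcls.1 (hA₁ h)) (r.symm' (hB b hb l hl)))
    have h3 := Finset.card_le_card h1
    have h5 := Finset.card_le_card (show B ⊆ cls b from fun l hl => hcls.2 (hB b hb l hl))
    have := hg b (Finset.mem_univ b)
    omega

/-- The stabiliser of a coordinate line is not monomial. -/
theorem not_star (hM : Over M) (h2 : (2 : F) ≠ 0) (hn : 9 ≤ Fintype.card ι) {g : orth (sq F ι)} (hg : g ∈ M)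
    (hgm : ¬ Mono g) : ¬ Star M := by
  classical
  intro hS
  obtain ⟨s, hsM, hsm, x, y, hx, hy, hxy, hsv⟩ := exists_pair hM hS h2 (by omega) hg hgm
  obtain ⟨hs2, -, -, hse, hsd⟩ := pair_facts h2 hx hy hxy hsv
  let supp : (ι → F) → Finset ι := fun v => Finset.univ.filter fun i => v i ≠ 0
  have hsupp : ∀ v i, v i ≠ 0 → i ∈ supp v := fun v i h => Finset.mem_filter.2 ⟨Finset.mem_univ _, h⟩
  -- the support of the plane is everything
  have hP : ∀ {v}, v ∈ eig s (-1) → ∃ α β : F, α • x + β • y = v := fun {v} hv =>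
    Submodule.mem_span_pair.1 (hse ▸ hv)
  have hxP : x ∈ eig s (-1) := hse.ge (Submodule.subset_span (Set.mem_insert x {y}))
  have hyP : y ∈ eig s (-1) := hse.ge (Submodule.subset_span (Set.mem_insert_of_mem x rfl))
  have hcov : ∀ t, x t ≠ 0 ∨ y t ≠ 0 := fun t => by
    by_contra h
    push Not at h
    refine hsm (hS s hsM t ⟨t, 1, ?_⟩)
    rw [one_smul, hsv, rv, rv]
    simp [dot_ax', dotProduct_sub, h.1, h.2]
  -- colours of coordinates
  let colr : Setoid ι := ⟨fun a b => x a * y b = x b * y a, fun _ => rfl, fun h => h.symm, fun {a b c} h h' => by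
    rcases hcov b with hb | hb
    · exact mul_left_cancel₀ hb (by linear_combination x a * h' + x c * h)
    · exact mul_left_cancel₀ hb (by linear_combination y c * h + y a * h')⟩
  have hvan : ∀ {v}, v ∈ eig s (-1) → ∀ {a l}, v a = 0 → colr a l → v l = 0 := fun {v} hv {a l} ha h => by
    obtain ⟨α, β, rfl⟩ := hP hv
    simp only [Pi.add_apply, Pi.smul_apply, smul_eq_mul] at ha ⊢
    change x a * y l = x l * y a at h
    rcases hcov a with hb | hb
    · exact (mul_eq_zero.1 (show x a * (α * x l + β * y l) = 0 by linear_combination x l * ha + β * h)).resolve_left hb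
    · exact (mul_eq_zero.1 (show y a * (α * x l + β * y l) = 0 by linear_combination y l * ha - α * h)).resolve_left hb
  have hpar : ∀ {v}, v ∈ eig s (-1) → v ≠ 0 → ∀ {a l}, v a = 0 → v l = 0 → colr a l := fun {v} hv hv0 {a l} ha hl => by
    obtain ⟨α, β, rfl⟩ := hP hv
    simp only [Pi.add_apply, Pi.smul_apply, smul_eq_mul] at ha hl
    show x a * y l = x l * y a
    by_cases hα : α = 0
    · subst hα
      have hβ : β ≠ 0 := fun h => hv0 (by simp [h])
      rw [show y l = 0 from (mul_eq_zero.1 (show β * y l = 0 by linear_combination hl)).resolve_left hβ,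
        show y a = 0 from (mul_eq_zero.1 (show β * y a = 0 by linear_combination ha)).resolve_left hβ]
      ring
    · exact mul_left_cancel₀ hα (by linear_combination y l * ha - y a * hl)
  -- six coordinates
  obtain ⟨A, hA6, hA0, hA1⟩ := exists_six colr hn
  have hshort : ∀ {v}, v ∈ eig s (-1) → (supp v).card ≤ 4 → supp v ⊆ A := fun {v} hv hc l hl => by
    by_contra hlA
    have hv0 : v ≠ 0 := fun h => (Finset.mem_filter.1 hl).2 (by rw [h]; rfl)
    obtain ⟨a, ha⟩ := Finset.card_pos.1 (show 0 < (supp v)ᶜ.card by rw [Finset.card_compl]; omega)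
    have hz0 : ∀ {t}, t ∈ (supp v)ᶜ ↔ v t = 0 := fun {t} => by simp [supp]
    refine (Finset.mem_filter.1 hl).2 (hvan hv (hz0.1 ha) (hA0 a (supp v)ᶜ (fun t => ?_) ?_ l hlA))
    · exact hz0.trans ⟨fun ht => hpar hv hv0 (hz0.1 ha) ht, fun ht => hvan hv (hz0.1 ha) ht⟩
    · rw [Finset.card_compl]; omega
  obtain ⟨u, huM, hu⟩ := exists_neg hM h2 (by omega) A (by rw [hA6]; decide)
  have hu2 : u * u = 1 := orth_ext fun v => by
    rw [orth_mul_apply]; funext i; rw [hu, hu]; split_ifs <;> simp
  have heigA : eig u (-1) = zeroOn Aᶜ := by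
    ext v
    rw [mem_eig, mem_zeroOn]
    constructor
    · intro h i hi
      have := congrFun h i
      rw [hu, if_neg (Finset.mem_compl.1 hi), Pi.smul_apply, smul_eq_mul, neg_one_mul] at this
      exact (mul_eq_zero.1 (show 2 * v i = 0 by linear_combination this)).resolve_left h2
    · intro h
      funext i
      rw [hu]
      split_ifs with hi
      · simp
      · rw [Pi.smul_apply, h i (Finset.mem_compl.2 hi)]; simp
  have huW : Space (eig u (-1)) A := by
    rw [heigA]
    refine ⟨by omega, fun a => ?_, ?_, ?_⟩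
    · rw [mem_zeroOn]
      simp only [Finset.mem_compl, ax, Pi.single_apply]
      exact ⟨fun h => by_contra fun ha => one_ne_zero ((if_pos rfl).symm.trans (h a ha)), fun h l hl =>
        if_neg fun e => hl (by rw [e]; exact h)⟩
    · obtain ⟨l, hl⟩ := Finset.card_pos.1 (show 0 < Aᶜ.card by rw [Finset.card_compl]; omega)
      exact ⟨l, fun w hw => mem_zeroOn.1 hw l hl⟩
    · rw [show zeroOn (F := F) Aᶜ ⊓ zeroOn A = ⊥ from (Submodule.eq_bot_iff _).2 fun v hv => funext fun j => by
        by_cases hj : j ∈ A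
        · exact mem_zeroOn.1 hv.2 j hj
        · exact mem_zeroOn.1 hv.1 j (Finset.mem_compl.2 hj), finrank_bot]
      omega
  have hu8 : finrank F (eig u (-1)) = 6 := by
    rw [heigA]
    let L : ↥(zeroOn (F := F) Aᶜ) →ₗ[F] (A → F) :=
      LinearMap.pi fun i : A => (LinearMap.proj (i : ι)).comp (Submodule.subtype _)
    have hL : Function.Bijective L := by
      constructor
      · intro v w h
        refine Subtype.ext (funext fun i => ?_)
        by_cases hi : i ∈ A
        · exact congrFun h ⟨i, hi⟩
        · rw [mem_zeroOn.1 v.2 i (Finset.mem_compl.2 hi), mem_zeroOn.1 w.2 i (Finset.mem_compl.2 hi)]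
      · intro f
        refine ⟨⟨fun i => if h : i ∈ A then f ⟨i, h⟩ else 0, mem_zeroOn.2 fun i hi => by
          simp [Finset.mem_compl.1 hi]⟩, funext fun i => ?_⟩
        simp [L, i.2]
    rw [(LinearEquiv.ofBijective L hL).finrank_eq, Module.finrank_fintype_fun_eq_card, Fintype.card_coe, hA6]
  have hcomm : ∀ m ∈ M, m * u = u * m → Mono m := fun m hm e =>
    mono_of_space hM hS h2 (by omega) huW huW (by omega) hm fun v => by
      rw [mem_eig, mem_eig, ← orth_mul_apply, ← e, orth_mul_apply, ← map_smul]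
      exact m.1.injective.eq_iff
  -- the dihedral group
  set r := u * s with hr
  have hur : ∀ k : ℕ, u * r ^ k = r⁻¹ ^ k * u := by
    intro k
    induction k with
    | zero => simp
    | succ k ih =>
      have : u * r = r⁻¹ * u := by
        rw [hr, mul_inv_rev, inv_eq_of_mul_eq_one_right hu2, inv_eq_of_mul_eq_one_right hs2, ← mul_assoc, hu2,
          one_mul, mul_assoc, hu2, mul_one]
      rw [pow_succ, ← mul_assoc, ih, mul_assoc, this, ← mul_assoc, ← pow_succ]
  have hsr : ∀ k : ℕ, s * r ^ k = r⁻¹ ^ k * s := by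
    intro k
    have hs : s = u * r := by rw [hr, ← mul_assoc, hu2, one_mul]
    calc s * r ^ k = u * r ^ (k + 1) := by rw [hs, mul_assoc, ← pow_succ']
      _ = r⁻¹ ^ (k + 1) * u := hur _
      _ = r⁻¹ ^ k * (r⁻¹ * u) := by rw [pow_succ, mul_assoc]
      _ = r⁻¹ ^ k * s := by
        congr 1
        have := hur 1
        rw [pow_one, pow_one] at this
        rw [hs, this]
  haveI : Finite (ι → F) := inferInstance
  haveI : Finite ((ι → F) ≃ₗ[F] (ι → F)) := Finite.of_injective _ DFunLike.coe_injective
  set N := orderOf r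
  have hN : r ^ N = 1 := pow_orderOf_eq_one r
  have hN0 : 0 < N := orderOf_pos r
  rcases Nat.even_or_odd' N with ⟨j, hj | hj⟩
  swap
  · -- odd order
    have e : r ^ j * u * (r ^ j)⁻¹ = s := by
      have h1 : (r ^ j)⁻¹ = r⁻¹ ^ j := (inv_pow r j).symm
      have h3 : u * (r ^ j)⁻¹ = r ^ j * u := by
        rw [mul_inv_eq_iff_eq_mul, mul_assoc, hur, ← mul_assoc, inv_pow, mul_inv_cancel, one_mul]
      rw [mul_assoc, h3, ← mul_assoc, ← pow_add]
      have hrr : r ^ (j + j) * r = 1 := by rw [← pow_succ]; rwa [show j + j + 1 = N by omega]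
      rw [eq_inv_of_mul_eq_one_left hrr, hr, mul_inv_rev, inv_eq_of_mul_eq_one_right hs2,
        inv_eq_of_mul_eq_one_right hu2, mul_assoc, hu2, mul_one]
    have := finrank_eig_conj (r ^ j) u (-1)
    rw [e, hsd, hu8] at this
    omega
  have hj0 : 0 < j := by omega
  set z := r ^ j with hz
  have hz2 : z * z = 1 := by rw [hz, ← pow_add, show j + j = N by omega, hN]
  have hz1 : z ≠ 1 := fun e => by
    have := Nat.le_of_dvd hj0 (orderOf_dvd_of_pow_eq_one e)
    omega
  have hzinv : r⁻¹ ^ j = z := by rw [inv_pow, ← hz, inv_eq_of_mul_eq_one_right hz2]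
  have huz : z * u = u * z := by rw [hz, hur, hzinv]
  have hsz : z * s = s * z := by rw [hz, hsr, hzinv]
  have hzM : z ∈ M := M.pow_mem (M.mul_mem huM hsM) j
  have hzm := hcomm z hzM huz
  obtain ⟨σ, c, hc, hσ⟩ := mono_perm h2 hzm
  rcases Nat.even_or_odd' j with ⟨i, hi | hi⟩
  · -- four divides the order
    set h := r ^ i
    have hhh : h * h = z := by rw [hz, ← pow_add, show i + i = j by omega]
    have hsh : s * h = h⁻¹ * s := by rw [hsr, inv_pow]
    have hrz : ∀ v ∈ eig z (-1), h.1 v ∈ eig z (-1) ∧ h⁻¹.1 v = -(h.1 v) := fun v hv => by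
      have hzh : z * h = h * z := by rw [hz, ← pow_add, ← pow_add, add_comm]
      refine ⟨?_, ?_⟩
      · rw [mem_eig, ← orth_mul_apply, hzh, orth_mul_apply, mem_eig.1 hv, map_smul]
      · have : h⁻¹ = h * z⁻¹ := by rw [← hhh, mul_inv_rev]; group
        rw [this, inv_eq_of_mul_eq_one_right hz2, orth_mul_apply, mem_eig.1 hv, neg_one_smul, map_neg]
    set W := eig z (-1)
    have hsW : ∀ v ∈ W, s.1 v ∈ W := fun v hv => by
      rw [mem_eig, ← orth_mul_apply, hsz, orth_mul_apply, mem_eig.1 hv, map_smul]
    have hswap : ∀ ε : F, ∀ v ∈ W ⊓ eig s ε, h.1 v ∈ W ⊓ eig s (-ε) := fun ε v hv => by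
      refine ⟨(hrz v hv.1).1, mem_eig.2 ?_⟩
      rw [← orth_mul_apply, hsh, orth_mul_apply, mem_eig.1 hv.2, map_smul, (hrz v hv.1).2, smul_neg, neg_smul]
    have hle : ∀ ε : F, finrank F ↥(W ⊓ eig s ε) ≤ finrank F ↥(W ⊓ eig s (-ε)) := fun ε => by
      rw [← LinearEquiv.finrank_map_eq h.1 (W ⊓ eig s ε)]
      exact Submodule.finrank_mono (by rintro _ ⟨v, hv, rfl⟩; exact hswap ε v hv)
    have hsum : W ≤ (W ⊓ eig s (-1)) ⊔ (W ⊓ eig s 1) := by
      intro v hv
      have e1 : (2 : F)⁻¹ • (v - s.1 v) ∈ W ⊓ eig s (-1) := ⟨W.smul_mem _ (W.sub_mem hv (hsW v hv)), by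
        rw [SetLike.mem_coe, mem_eig, map_smul, map_sub, mul_self_apply hs2, smul_comm, neg_one_smul, neg_sub]⟩
      have e2 : (2 : F)⁻¹ • (v + s.1 v) ∈ W ⊓ eig s 1 := ⟨W.smul_mem _ (W.add_mem hv (hsW v hv)), by
        rw [SetLike.mem_coe, mem_eig, map_smul, map_add, mul_self_apply hs2, one_smul, add_comm (s.1 v)]⟩
      have := Submodule.add_mem_sup e1 e2
      rwa [← smul_add, sub_add_add_cancel, ← two_smul F v, inv_smul_smul₀ h2] at this
    have hW2 : finrank F W ≤ 2 * finrank F ↥(W ⊓ eig s (-1)) := by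
      have h1 := Submodule.finrank_mono hsum
      have h3 := Submodule.finrank_add_le_finrank_add_finrank (W ⊓ eig s (-1)) (W ⊓ eig s 1)
      have h4 := hle 1
      omega
    have ha : finrank F ↥(W ⊓ eig s (-1)) ≤ 2 := hsd ▸ Submodule.finrank_mono inf_le_right
    have hWne : W ≠ ⊥ := fun e => hz1 (orth_ext fun v => by
      have : v - z.1 v ∈ W := mem_eig.2 (by rw [map_sub, mul_self_apply hz2, neg_one_smul, neg_sub])
      rw [e, Submodule.mem_bot, sub_eq_zero] at this
      exact this.symm)
    have hWpos : finrank F W ≠ 0 := fun e => hWne (Submodule.finrank_eq_zero.1 e)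
    obtain ⟨v, hv, hv0⟩ := Submodule.exists_mem_ne_zero_of_ne_bot (p := W ⊓ eig s (-1)) (fun e => by
      rw [e, finrank_bot] at hW2; omega)
    have hmoved : ∀ w ∈ W, supp w ⊆ Finset.univ.filter fun l => z.1 (ax l) ≠ ax l := fun w hw l hl =>
      Finset.mem_filter.2 ⟨Finset.mem_univ _, fun e => by
        have := map_dot z h2 (ax l) w
        rw [e, mem_eig.1 hw, dotProduct_smul, dot_ax, smul_eq_mul] at this
        exact (Finset.mem_filter.1 hl).2
          ((mul_eq_zero.1 (show 2 * w l = 0 by linear_combination -this)).resolve_left h2)⟩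
    have hcard := card_moved h2 hz2 hc hσ hW2 (T := Finset.univ.filter fun l => z.1 (ax l) ≠ ax l)
      fun l hl => (Finset.mem_filter.1 hl).2
    have hsub : supp v ⊆ A := by
      rcases Nat.lt_or_ge (finrank F ↥(W ⊓ eig s (-1))) 2 with h1 | h1
      · exact hshort hv.2 ((Finset.card_le_card (hmoved v hv.1)).trans (by omega))
      · have heq : W ⊓ eig s (-1) = eig s (-1) := Submodule.eq_of_le_of_finrank_le inf_le_right (by omega)
        have hall : (Finset.univ : Finset ι) ⊆ supp x ∪ supp y := fun t _ => Finset.mem_union.2 <|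
          (hcov t).imp (hsupp x t) (hsupp y t)
        have := Finset.card_le_card (hall.trans (Finset.union_subset (hmoved x (heq.ge hxP).1) (hmoved y (heq.ge hyP).1)))
        rw [Finset.card_univ] at this
        omega
    have huv : u.1 v = -v := funext fun l => by
      rw [hu]
      split_ifs with hl
      · rfl
      · have : v l = 0 := by_contra fun hne => hl (hsub (hsupp v l hne))
        simp [this]
    have hrv : r.1 v = v := by rw [hr, orth_mul_apply, mem_eig.1 hv.2, neg_one_smul, map_neg, huv, neg_neg]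
    have hzv : ∀ k : ℕ, (r ^ k).1 v = v := fun k => by
      induction k with
      | zero => rfl
      | succ k ih => rw [pow_succ, orth_mul_apply, hrv, ih]
    refine hv0 (funext fun l => ?_)
    have := congrFun (mem_eig.1 hv.1) l
    rw [hz, hzv, Pi.smul_apply, smul_eq_mul, neg_one_mul] at this
    exact (mul_eq_zero.1 (show 2 * v l = 0 by linear_combination this)).resolve_left h2
  · -- twice odd
    set s' := u * z
    have hconj : s' = r⁻¹ ^ i * s * (r⁻¹ ^ i)⁻¹ := by
      rw [inv_pow, inv_inv]
      have hs : s = u * r := by rw [hr, ← mul_assoc, hu2, one_mul]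
      have h1 : u * r ^ i = (r ^ i)⁻¹ * u := by rw [hur, inv_pow]
      rw [hs, mul_assoc ((r ^ i)⁻¹) (u * r), mul_assoc u, ← mul_assoc _ u, ← h1, mul_assoc, ← mul_assoc (r ^ i),
        ← pow_succ, ← pow_add]
      show u * r ^ j = _
      congr 2
      omega
    have hs'M : s' ∈ M := M.mul_mem huM hzM
    have hs'2 : s' * s' = 1 := by
      rw [show s' * s' = u * (z * u) * z by simp [s', mul_assoc], huz, ← mul_assoc, hu2, one_mul, hz2]
    have hs'm := hcomm s' hs'M (by
      show u * z * u = u * (u * z)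
      rw [mul_assoc, huz])
    have hs'd : finrank F (eig s' (-1)) = 2 := by rw [hconj, finrank_eig_conj, hsd]
    obtain ⟨σ', c', hc', hσ'⟩ := mono_perm h2 hs'm
    have hm4 : (Finset.univ.filter fun l => s'.1 (ax l) ≠ ax l).card ≤ 4 :=
      (card_moved h2 hs'2 hc' hσ' hs'd.le fun l hl => (Finset.mem_filter.1 hl).2).trans (by norm_num)
    have hus' : ∀ v, s'.1 (u.1 v) = u.1 (s'.1 v) := fun v => by
      rw [← orth_mul_apply, ← orth_mul_apply, show s' * u = u * s' from by
        show u * z * u = u * (u * z); rw [mul_assoc, huz]]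
    have hzus : z = u * s' := by rw [show u * s' = u * u * z from (mul_assoc u u z).symm, hu2, one_mul]
    have huax : ∀ l, u.1 (ax l) = (if l ∈ A then (-1 : F) else 1) • ax l := fun l => by
      funext a
      rw [hu, Pi.smul_apply, smul_eq_mul]
      rcases eq_or_ne a l with rfl | hal
      · split_ifs <;> simp
      · simp [ax_ne hal]
    have hzsign : ∀ l, σ' l = l → z.1 (ax l) = (c' l * if l ∈ A then (-1 : F) else 1) • ax l := fun l hl => by
      rw [hzus, orth_mul_apply, hσ', hl, map_smul, huax, smul_smul]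
    have hne1 : (-1 : F) ≠ 1 := fun e => h2 (by linear_combination -e)
    have hAσ : ∀ l, σ' l ∈ A ↔ l ∈ A := fun l => by
      have h := hus' (ax l)
      rw [huax, map_smul, hσ', map_smul, huax, smul_smul, smul_smul] at h
      have h' := congrFun h (σ' l)
      simp only [Pi.smul_apply, ax_self, smul_eq_mul, mul_one, mul_comm (c' l)] at h'
      have hc0 : c' l ≠ 0 := fun e => by have := hc' l; rw [e, mul_zero] at this; exact zero_ne_one this
      have h'' := mul_right_cancel₀ hc0 h'
      by_cases h1 : l ∈ A <;> by_cases h3 : σ' l ∈ A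
      · exact iff_of_true h3 h1
      · rw [if_pos h1, if_neg h3] at h''; exact absurd h'' hne1
      · rw [if_neg h1, if_pos h3] at h''; exact absurd h''.symm hne1
      · exact iff_of_false h3 h1
    -- representatives of the moved pairs and the negated coordinates
    obtain ⟨R, hR1, hR2⟩ := exists_reps (perm_invol hs'2 hc' hσ')
    set T := Finset.univ.filter fun l => σ' l ≠ l
    set L := Finset.univ.filter fun l => σ' l = l ∧ c' l = -1
    have hreps : ((T ∩ R) ∩ A).card + ((T ∩ R) \ A).card + ((L ∩ A).card + (L \ A).card) ≤ 2 := by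
      rw [Finset.card_inter_add_card_sdiff, Finset.card_inter_add_card_sdiff]
      have hd : Disjoint (T ∩ R) L := Finset.disjoint_left.2 fun l h1 h3 =>
        (Finset.mem_filter.1 (Finset.mem_inter.1 h1).1).2 (Finset.mem_filter.1 h3).2.1
      rw [← Finset.card_union_of_disjoint hd]
      refine (Finset.card_le_card fun l hl => ?_).trans (card_reps hs'2 hc' hσ' hs'd.le hR1)
      rw [Finset.mem_filter]
      rcases Finset.mem_union.1 hl with h1 | h1
      · refine ⟨(Finset.mem_inter.1 h1).2, fun e => ?_⟩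
        have h3 := (Finset.mem_filter.1 (Finset.mem_inter.1 h1).1).2
        have h4 := congrFun e l
        rw [hσ', Pi.smul_apply, ax_ne (Ne.symm h3), ax_self, smul_zero] at h4
        exact zero_ne_one h4
      · obtain ⟨h3, h5⟩ := (Finset.mem_filter.1 h1).2
        refine ⟨(hR2 l).elim id fun h => by rwa [h3] at h, fun e => ?_⟩
        have h4 := congrFun e l
        rw [hσ', h3, h5, Pi.smul_apply, ax_self, smul_eq_mul, mul_one] at h4
        exact hne1 h4
    have hTR : ∀ B : Finset ι, (∀ l, σ' l ∈ B ↔ l ∈ B) → (T ∩ B).card ≤ 2 * ((T ∩ R) ∩ B).card := fun B hB => by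
      refine (Finset.card_le_card (t := ((T ∩ R) ∩ B) ∪ ((T ∩ R) ∩ B).image σ') fun l hl => ?_).trans
        ((Finset.card_union_le _ _).trans (by have := Finset.card_image_le (s := (T ∩ R) ∩ B) (f := σ'); omega))
      obtain ⟨hlT, hlB⟩ := Finset.mem_inter.1 hl
      have hlT' := (Finset.mem_filter.1 hlT).2
      rcases hR2 l with h | h
      · exact Finset.mem_union_left _ (Finset.mem_inter.2 ⟨Finset.mem_inter.2 ⟨hlT, h⟩, hlB⟩)
      · refine Finset.mem_union_right _ (Finset.mem_image.2 ⟨σ' l, Finset.mem_inter.2 ⟨Finset.mem_inter.2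
          ⟨Finset.mem_filter.2 ⟨Finset.mem_univ _, fun e => hlT' (σ'.injective e)⟩, h⟩, (hB l).2 hlB⟩,
          perm_invol hs'2 hc' hσ' l⟩)
    -- the eigen coordinates
    set Sn := Finset.univ.filter fun l => z.1 (ax l) = (-1 : F) • ax l
    set Sp := Finset.univ.filter fun l => z.1 (ax l) = (1 : F) • ax l
    have hpos : ∀ l, l ∉ T → σ' l = l := fun l hl => by simpa [T] using hl
    have hcone : ∀ l, l ∉ T → l ∉ L → c' l = 1 := fun l hl hl' =>
      (fix_sign hc' l).resolve_right fun e => hl' (Finset.mem_filter.2 ⟨Finset.mem_univ _, hpos l hl, e⟩)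
    have hSnA : 6 ≤ (T ∩ A).card + (L ∩ A).card + (Sn ∩ A).card := by
      rw [← hA6]
      refine (Finset.card_le_card (t := (T ∩ A) ∪ (L ∩ A) ∪ (Sn ∩ A)) fun l hl => ?_).trans
        ((Finset.card_union_le _ _).trans (Nat.add_le_add_right (Finset.card_union_le _ _) _))
      by_cases h1 : l ∈ T
      · simp [h1, hl]
      by_cases h3 : l ∈ L
      · simp [h3, hl]
      have : l ∈ Sn := Finset.mem_filter.2 ⟨Finset.mem_univ _, by
        rw [hzsign l (hpos l h1), hcone l h1 h3, if_pos hl, one_mul]⟩
      simp [this, hl]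
    have hSpA : Fintype.card ι - 6 ≤ (T \ A).card + (L \ A).card + (Sp \ A).card := by
      rw [← hA6, ← Finset.card_compl]
      refine (Finset.card_le_card (t := (T \ A) ∪ (L \ A) ∪ (Sp \ A)) fun l hl => ?_).trans
        ((Finset.card_union_le _ _).trans (Nat.add_le_add_right (Finset.card_union_le _ _) _))
      rw [Finset.mem_compl] at hl
      by_cases h1 : l ∈ T
      · simp [h1, hl]
      by_cases h3 : l ∈ L
      · simp [h3, hl]
      have : l ∈ Sp := Finset.mem_filter.2 ⟨Finset.mem_univ _, by
        rw [hzsign l (hpos l h1), hcone l h1 h3, if_neg hl, one_mul]⟩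
      simp [this, hl]
    have hLn : (L \ A).card + (Sn ∩ A).card ≤ Sn.card := by
      rw [← Finset.card_union_of_disjoint (Finset.disjoint_left.2 fun l h1 h3 =>
        (Finset.mem_sdiff.1 h1).2 (Finset.mem_inter.1 h3).2)]
      refine Finset.card_le_card (Finset.union_subset (fun l hl => ?_) Finset.inter_subset_left)
      obtain ⟨h1, h3⟩ := Finset.mem_sdiff.1 hl
      obtain ⟨h4, h5⟩ := (Finset.mem_filter.1 h1).2
      exact Finset.mem_filter.2 ⟨Finset.mem_univ _, by rw [hzsign l h4, h5, if_neg h3, mul_one]⟩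
    have hLp : (L ∩ A).card + (Sp \ A).card ≤ Sp.card := by
      rw [← Finset.card_union_of_disjoint (Finset.disjoint_left.2 fun l h1 h3 =>
        (Finset.mem_sdiff.1 h3).2 (Finset.mem_inter.1 h1).2)]
      refine Finset.card_le_card (Finset.union_subset (fun l hl => ?_) Finset.sdiff_subset)
      obtain ⟨h1, h3⟩ := Finset.mem_inter.1 hl
      obtain ⟨h4, h5⟩ := (Finset.mem_filter.1 h1).2
      exact Finset.mem_filter.2 ⟨Finset.mem_univ _, by rw [hzsign l h4, h5, if_pos h3, neg_mul_neg, one_mul]⟩
    have hsM' : ∀ ε : F, ∀ v, s.1 v ∈ eig z ε ↔ v ∈ eig z ε := fun ε v => by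
      rw [mem_eig, mem_eig, ← orth_mul_apply, hsz, orth_mul_apply, ← map_smul]
      exact s.1.injective.eq_iff
    -- the permutation of the central involution
    have hσz : ∀ l, σ' l = l → σ l = l := fun l hl => by
      by_contra hne
      have h1 := congrFun ((hσ l).symm.trans (hzsign l hl)) (σ l)
      rw [Pi.smul_apply, ax_self, Pi.smul_apply, ax_ne hne, smul_zero, smul_eq_mul, mul_one] at h1
      have := hc l; rw [h1, mul_zero] at this; exact zero_ne_one this
    have hT : (Finset.univ.filter fun l => σ l ≠ l).card ≤ 4 := by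
      refine (Finset.card_le_card fun l hl => ?_).trans hm4
      simp only [Finset.mem_filter, Finset.mem_univ, true_and] at hl ⊢
      intro e
      refine hl (hσz l ?_)
      by_contra hne
      have h4 := congrFun e l
      rw [hσ', Pi.smul_apply, ax_ne (Ne.symm hne), ax_self, smul_zero] at h4
      exact zero_ne_one h4
    have hspace : ∀ (ε : F), ε * ε = 1 → ∀ S : Finset ι, (∀ a, a ∈ S ↔ z.1 (ax a) = ε • ax a) → 5 ≤ S.card →
        (∃ l, z.1 (ax l) = (-ε) • ax l) → False := fun ε hε S hS' h5 hout =>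
      hsm (mono_of_space hM hS h2 (by omega) (space_of_invol h2 hz2 hc hσ hT hε hS' (by omega) hout)
        (space_of_invol h2 hz2 hc hσ hT hε hS' (by omega) hout) h5 hsM (hsM' ε))
    -- vectors of the plane in the eigenspaces of the central involution
    have hrk : ∀ (v : ι → F) (ε : F), r.1 v = ε • v → ∀ k : ℕ, (r ^ k).1 v = ε ^ k • v := fun v ε h k => by
      induction k with
      | zero => simp
      | succ k ih => rw [pow_succ, orth_mul_apply, h, map_smul, ih, smul_smul, pow_succ']
    have hno : ∀ v ∈ eig z (-1), v ∈ eig s (-1) → (∀ l, l ∉ A → v l = 0) → v = 0 := fun v hvz hvs hvA => by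
      have huv : u.1 v = -v := funext fun l => by
        rw [hu]
        split_ifs with hl
        · rfl
        · simp [hvA l hl]
      have h := hrk v 1 (by rw [hr, orth_mul_apply, mem_eig.1 hvs, neg_one_smul, map_neg, huv, neg_neg, one_smul]) j
      rw [← hz, mem_eig.1 hvz, one_pow, one_smul, neg_one_smul] at h
      funext l
      have h' := congrFun h l
      exact (mul_eq_zero.1 (show 2 * v l = 0 by simp only [Pi.neg_apply] at h'; linear_combination -h')).resolve_left h2
    have hno' : ∀ v ∈ eig z 1, v ∈ eig s (-1) → (∀ l ∈ A, v l = 0) → v = 0 := fun v hvz hvs hvA => by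
      have huv : u.1 v = v := funext fun l => by
        rw [hu]
        split_ifs with hl
        · simp [hvA l hl]
        · rfl
      have h := hrk v (-1) (by rw [hr, orth_mul_apply, mem_eig.1 hvs, neg_one_smul, map_neg, huv]) j
      rw [← hz, mem_eig.1 hvz, (show Odd j from ⟨i, hi⟩).neg_one_pow, one_smul, neg_one_smul] at h
      funext l
      have h' := congrFun h l
      exact (mul_eq_zero.1 (show 2 * v l = 0 by simp only [Pi.neg_apply] at h'; linear_combination h')).resolve_left h2
    have hvz : ∀ {w : ι → F} {δ ε : F}, w ∈ eig z δ → δ ≠ ε → ∀ {l}, z.1 (ax l) = ε • ax l → w l = 0 :=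
      fun {w δ ε} hw hne {l} hl => by
      have hε : ε * ε = 1 := by
        have h := col_dot z h2 l l
        rw [hl, smul_dotProduct, dotProduct_smul, dot_ax, ax_self, if_pos rfl] at h
        simpa using h
      have h := map_dot z h2 (ax l) w
      rw [hl, mem_eig.1 hw, smul_dotProduct, dotProduct_smul, dot_ax, smul_eq_mul, smul_eq_mul] at h
      exact (mul_eq_zero.1 (show (δ - ε) * w l = 0 by linear_combination ε * h - δ * w l * hε)).resolve_left
        (sub_ne_zero.2 hne)
    have hPz : ∀ v ∈ eig s (-1), z.1 v ∈ eig s (-1) := fun v hv => by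
      rw [mem_eig, ← orth_mul_apply, ← hsz, orth_mul_apply, mem_eig.1 hv, map_smul]
    -- the plane is not inside one eigenspace
    have hneg : ∃ v ∈ eig s (-1), v ∈ eig z (-1) ∧ v ≠ 0 := by
      by_contra hnone
      push Not at hnone
      have hfixP : ∀ v ∈ eig s (-1), v ∈ eig z 1 := fun v hv => by
        have h := hnone (v - z.1 v) ((eig s (-1)).sub_mem hv (hPz v hv))
          (mem_eig.2 (by rw [map_sub, mul_self_apply hz2, neg_one_smul, neg_sub]))
        rw [sub_eq_zero] at h
        rw [mem_eig, one_smul, ← h]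
      have hSn0 : Sn = ∅ := Finset.eq_empty_of_forall_notMem fun l hl => by
        have hl' := (Finset.mem_filter.1 hl).2
        exact (hcov l).elim (fun h => h (hvz (hfixP x hxP) hne1.symm hl'))
          (fun h => h (hvz (hfixP y hyP) hne1.symm hl'))
      have hc0 := congrArg Finset.card hSn0
      rw [Finset.card_empty] at hc0
      have := hTR A hAσ
      omega
    have hTA' : (T \ A).card ≤ 2 * ((T ∩ R) \ A).card := by
      have := hTR Aᶜ fun l => by rw [Finset.mem_compl, Finset.mem_compl, hAσ]
      rwa [← Finset.sdiff_eq_inter_compl, ← Finset.sdiff_eq_inter_compl] at this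
    by_cases hSp0 : Sp = ∅
    · -- outside the six there are at most two colours
      have hSp0' : (Sp \ A).card = 0 := by rw [hSp0]; simp
      have hnegP : ∀ v ∈ eig s (-1), v ∈ eig z (-1) := fun v hv => by
        have h : v + z.1 v ∈ eig z 1 := mem_eig.2 (by rw [map_add, mul_self_apply hz2, one_smul, add_comm])
        have h' : v + z.1 v = 0 := funext fun l => by
          by_contra hl
          have hl1 : l ∉ T ∪ L → False := fun hl' => by
            rw [Finset.mem_union, not_or] at hl'
            by_cases hlA : l ∈ A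
            · exact hl (hvz h hne1.symm (l := l) (by rw [hzsign l (hpos l hl'.1), hcone l hl'.1 hl'.2, if_pos hlA, one_mul]))
            · have : l ∈ Sp := Finset.mem_filter.2 ⟨Finset.mem_univ _, by
                rw [hzsign l (hpos l hl'.1), hcone l hl'.1 hl'.2, if_neg hlA, one_mul]⟩
              rw [hSp0] at this
              exact Finset.notMem_empty l this
          have hlTL : l ∈ T ∪ L := by_contra hl1
          have hlA : l ∉ A := fun hlA => by
            have h6 := hTR A hAσ
            rcases Finset.mem_union.1 hlTL with h1 | h1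
            · have : 0 < (T ∩ A).card := Finset.card_pos.2 ⟨l, Finset.mem_inter.2 ⟨h1, hlA⟩⟩
              omega
            · have : 0 < (L ∩ A).card := Finset.card_pos.2 ⟨l, Finset.mem_inter.2 ⟨h1, hlA⟩⟩
              omega
          exact hl (congrFun (hno' _ h ((eig s (-1)).add_mem hv (hPz v hv)) fun t ht => by
            by_contra htne
            have htTL : t ∈ T ∪ L := by_contra fun hl' => by
              rw [Finset.mem_union, not_or] at hl'
              exact htne (hvz h hne1.symm (by rw [hzsign t (hpos t hl'.1), hcone t hl'.1 hl'.2, if_pos ht, one_mul]))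
            have h6 := hTR A hAσ
            rcases Finset.mem_union.1 htTL with h1 | h1
            · have : 0 < (T ∩ A).card := Finset.card_pos.2 ⟨t, Finset.mem_inter.2 ⟨h1, ht⟩⟩
              omega
            · have : 0 < (L ∩ A).card := Finset.card_pos.2 ⟨t, Finset.mem_inter.2 ⟨h1, ht⟩⟩
              omega) l)
        rw [mem_eig, neg_one_smul]
        exact eq_neg_of_add_eq_zero_right h'
      obtain ⟨v, hv, hvz', hv0⟩ := hneg
      rcases hA1 with hmono | ⟨h10, -⟩
      · -- one colour outside
        obtain ⟨a, ha⟩ := Finset.card_pos.1 (show 0 < Aᶜ.card by rw [Finset.card_compl]; omega)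
        rw [Finset.mem_compl] at ha
        set w := y a • x - x a • y
        have hw : w ∈ eig s (-1) := (eig s (-1)).sub_mem ((eig s (-1)).smul_mem _ hxP) ((eig s (-1)).smul_mem _ hyP)
        have hw0 := hno w (hnegP w hw) hw fun l hl => hvan hw (a := a) (by simp [w]; ring) (hmono a ha l hl)
        have e1 := congrArg (x ⬝ᵥ ·) hw0
        have e2 := congrArg (y ⬝ᵥ ·) hw0
        simp [w, dotProduct_sub, dotProduct_smul, hx, hy, hxy, dotProduct_comm y x] at e1 e2
        exact (hcov a).elim (fun h => h e2) (fun h => h e1)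
      · have hsize : Fintype.card ι ≤ 10 := by
          have := Finset.card_le_card (show Sp \ A ⊆ ∅ from fun l hl => hSp0 ▸ (Finset.mem_sdiff.1 hl).1)
          rw [Finset.card_empty] at this
          omega
        obtain ⟨f, hfA, hf⟩ := h10 hsize
        have hpair : ∀ l, l ∉ A → colr l (σ' l) := fun l hl => by
          have hval : ∀ w ∈ eig s (-1), -(w (σ' l)) = c' l * w l := fun w hw => by
            rw [← mono_ax h2 hc' hσ' w l, show s'.1 w = u.1 (z.1 w) from orth_mul_apply u z w,
              mem_eig.1 (hnegP w hw), hu, if_neg (fun h => hl ((hAσ l).1 h)), Pi.smul_apply, smul_eq_mul,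
              neg_one_mul]
          show x l * y (σ' l) = x (σ' l) * y l
          linear_combination -(x l) * hval y hyP + y l * hval x hxP
        have hrep : ∀ i, ∃ e ∈ ((T ∩ R) \ A) ∪ (L \ A), colr (f i) e := fun i => by
          have hl := hfA i
          by_cases h1 : f i ∈ T
          · rcases hR2 (f i) with h | h
            · exact ⟨f i, Finset.mem_union_left _ (by simp [h1, h, hl]), colr.refl' _⟩
            · refine ⟨σ' (f i), Finset.mem_union_left _ ?_, hpair _ hl⟩
              simp only [Finset.mem_sdiff, Finset.mem_inter, hAσ]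
              exact ⟨⟨Finset.mem_filter.2 ⟨Finset.mem_univ _,
                fun e => (Finset.mem_filter.1 h1).2 (σ'.injective e)⟩, h⟩, hl⟩
          by_cases h3 : f i ∈ L
          · exact ⟨f i, Finset.mem_union_right _ (by simp [h3, hl]), colr.refl' _⟩
          have : f i ∈ Sp := Finset.mem_filter.2 ⟨Finset.mem_univ _, by
            rw [hzsign _ (hpos _ h1), hcone _ h1 h3, if_neg hl, one_mul]⟩
          rw [hSp0] at this
          exact absurd this (Finset.notMem_empty _)
        choose e he hfe using hrep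
        obtain ⟨i₁, -, i₂, -, hne, hee⟩ := Finset.exists_ne_map_eq_of_card_lt_of_maps_to
          (s := (Finset.univ : Finset (Fin 3))) (t := ((T ∩ R) \ A) ∪ (L \ A)) (by
            have := Finset.card_union_le ((T ∩ R) \ A) (L \ A)
            simp only [Finset.card_univ, Fintype.card_fin]
            omega) (f := e) (fun i _ => he i)
        exact hne (hf _ _ (colr.trans' (hfe i₁) (hee ▸ colr.symm' (hfe i₂))))
    · obtain ⟨lp, hlp⟩ := Finset.nonempty_iff_ne_empty.2 hSp0
      have h6 := hTR A hAσ
      by_cases hn5 : 5 ≤ Sn.card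
      · exact hspace (-1) (by ring) Sn (fun a => by simp [Sn]) hn5 ⟨lp, by rw [neg_neg]; exact (Finset.mem_filter.1 hlp).2⟩
      obtain ⟨ln, hln⟩ := Finset.card_pos.1 (show 0 < Sn.card by omega)
      by_cases hp5 : 5 ≤ Sp.card
      · exact hspace 1 (mul_one 1) Sp (fun a => by simp [Sp]) hp5 ⟨ln, (Finset.mem_filter.1 hln).2⟩
      -- one pair inside and one outside
      have houtne : 0 < ((T ∩ R) \ A).card + (L \ A).card := by
        by_contra h0
        obtain ⟨v, hv, hvz', hv0⟩ := hneg
        refine hv0 (hno v hvz' hv fun l hl => hvz hvz' hne1 ?_)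
        have hlT : l ∉ T := fun h => by
          have : 0 < (T \ A).card := Finset.card_pos.2 ⟨l, Finset.mem_sdiff.2 ⟨h, hl⟩⟩
          omega
        have hlL : l ∉ L := fun h => by
          have : 0 < (L \ A).card := Finset.card_pos.2 ⟨l, Finset.mem_sdiff.2 ⟨h, hl⟩⟩
          omega
        rw [hzsign l (hpos l hlT), hcone l hlT hlL, if_neg hl, one_mul]
      rcases hA1 with hmono | ⟨-, h12⟩
      · obtain ⟨v, hv, hvz', hv0⟩ := hneg
        obtain ⟨l, hl⟩ := Finset.card_pos.1 (show 0 < (Sp \ A).card by omega)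
        obtain ⟨hlS, hlA⟩ := Finset.mem_sdiff.1 hl
        refine hv0 (hno v hvz' hv fun t ht => hvan hv (a := l) ?_ (hmono l hlA t ht))
        exact hvz hvz' hne1 (Finset.mem_filter.1 hlS).2
      · have hB := h12 (by omega) (Sn ∩ A) Finset.inter_subset_right ?_
        · omega
        intro a ha b hb
        obtain ⟨v, hv, hvz', hv0⟩ : ∃ v ∈ eig s (-1), v ∈ eig z 1 ∧ v ≠ 0 := by
          by_contra hnone
          push Not at hnone
          have hnegP : ∀ v ∈ eig s (-1), v ∈ eig z (-1) := fun v hv => by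
            have h := hnone (v + z.1 v) ((eig s (-1)).add_mem hv (hPz v hv))
              (mem_eig.2 (by rw [map_add, mul_self_apply hz2, one_smul, add_comm]))
            rw [mem_eig, neg_one_smul]
            exact eq_neg_of_add_eq_zero_right h
          exact (hcov lp).elim (fun h => h (hvz (hnegP x hxP) hne1 (Finset.mem_filter.1 hlp).2))
            (fun h => h (hvz (hnegP y hyP) hne1 (Finset.mem_filter.1 hlp).2))
        exact hpar hv hv0 (hvz hvz' hne1.symm (Finset.mem_filter.1 (Finset.mem_inter.1 ha).1).2)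
          (hvz hvz' hne1.symm (Finset.mem_filter.1 (Finset.mem_inter.1 hb).1).2)

end Cfsg.Agent.Frame10
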