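import Cfsg.Agent.Lib.Frame10Fusion

/-!
The fusion argument in dimension seven: the involution with six negative signs fixes a coordinate line.
-/

set_option autoImplicit false
set_option linter.unusedSectionVars false
set_option linter.style.haveILetI false
set_option maxHeartbeats 800000

namespace Cfsg.Agent.Frame10

open QuadraticMap Module
open Cfsg.Agent.OrthUnitaryQuad Cfsg.Agent.OrthUnitaryRefl Cfsg.Agent.OmegaDecomp
open scoped Matrix

variable {F : Type*} [Field F] {ι : Type*} [Fintype ι] [DecidableEq ι] [Fintype F]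
  {M : Subgroup (orth (sq F ι))}

/-- A monomial involution with two negative signs, one of them on a coordinate line, moves at most three lines. -/
theorem card_moved_axis {z : orth (sq F ι)} {σ : Equiv.Perm ι} {c : ι → F} (hz : z * z = 1)
    (hc : ∀ i, c i * c i = 1) (hzc : ∀ i, z.1 (ax i) = c i • ax (σ i)) (hd : finrank F (eig z (-1)) ≤ 2) {l : ι}
    (hl : σ l = l) (hml : z.1 (ax l) ≠ ax l) {T : Finset ι} (hT : ∀ i ∈ T, z.1 (ax i) ≠ ax i) : T.card ≤ 3 := by
  classical
  have hinv := perm_invol hz hc hzc
  obtain ⟨R, hR1, hR2⟩ := exists_reps hinv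
  set R' := R.filter fun i => z.1 (ax i) ≠ ax i
  have h1 : R'.card ≤ 2 := card_reps hz hc hzc hd hR1
  have hlR : l ∈ R' := Finset.mem_filter.2 ⟨(hR2 l).elim id fun h => by rwa [hl] at h, hml⟩
  have hmoved : ∀ i, z.1 (ax i) ≠ ax i → z.1 (ax (σ i)) ≠ ax (σ i) := fun i hi e => by
    refine hi ?_
    have e' : c (σ i) • (ax i : ι → F) = ax (σ i) := by rw [← e, hzc, hinv]
    by_cases hf : σ i = i
    · rwa [hf] at e
    · exfalso
      have h' := congrFun e' i
      rw [Pi.smul_apply, ax_self, ax_ne (Ne.symm hf), smul_eq_mul, mul_one] at h'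
      have := hc (σ i); rw [h', mul_zero] at this; exact zero_ne_one this
  have hsub : T ⊆ R' ∪ (R'.erase l).image σ := fun i hi => by
    rcases hR2 i with h | h
    · exact Finset.mem_union_left _ (Finset.mem_filter.2 ⟨h, hT i hi⟩)
    by_cases hil : i = l
    · exact Finset.mem_union_left _ (hil ▸ hlR)
    refine Finset.mem_union_right _ (Finset.mem_image.2 ⟨σ i, Finset.mem_erase.2 ⟨fun e => hil ?_,
      Finset.mem_filter.2 ⟨h, hmoved i (hT i hi)⟩⟩, hinv i⟩)
    rw [← hinv i, e, hl]
  have := Finset.card_le_card hsub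
  have := Finset.card_union_le R' ((R'.erase l).image σ)
  have := Finset.card_image_le (s := R'.erase l) (f := σ)
  have := Finset.card_erase_of_mem hlR
  omega

/-- A vector orthogonal to a subspace and not to a vector outside it. -/
theorem exists_dot_perp {U : Submodule F (ι → F)} {w : ι → F} (hw : w ∉ U) :
    ∃ v : ι → F, (∀ a ∈ U, v ⬝ᵥ a = 0) ∧ v ⬝ᵥ w ≠ 0 := by
  obtain ⟨φ, hφ, hU⟩ := Submodule.exists_dual_map_eq_bot_of_notMem hw inferInstance
  have e : ∀ a, (fun i => φ (ax i)) ⬝ᵥ a = φ a := fun a => by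
    conv_rhs => rw [pi_eq_sum_univ' a]
    rw [map_sum, dotProduct]
    exact Finset.sum_congr rfl fun i _ => by rw [map_smul, smul_eq_mul, mul_comm]; rfl
  refine ⟨fun i => φ (ax i), fun a ha => ?_, by rwa [e]⟩
  rw [e]
  have : φ a ∈ U.map φ := Submodule.mem_map_of_mem ha
  rw [hU] at this
  exact this

/-- The stabiliser of a coordinate line is not monomial, in dimension seven. -/
theorem not_star_seven (hM : Over M) (h2 : (2 : F) ≠ 0) (hn : Fintype.card ι = 7) {g : orth (sq F ι)} (hg : g ∈ M)
    (hgm : ¬ Mono g) : ¬ Star M := by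
  classical
  intro hS
  obtain ⟨s, hsM, hsm, x, y, hx, hy, hxy, hsv⟩ := exists_pair hM hS h2 hn.ge hg hgm
  obtain ⟨hs2, -, -, hse, hsd⟩ := pair_facts h2 hx hy hxy hsv
  let supp : (ι → F) → Finset ι := fun v => Finset.univ.filter fun i => v i ≠ 0
  have hsupp : ∀ {v i}, i ∈ supp v ↔ v i ≠ 0 := fun {v i} => by simp [supp]
  have hP : ∀ {v}, v ∈ eig s (-1) → ∃ α β : F, α • x + β • y = v := fun {v} hv =>
    Submodule.mem_span_pair.1 (hse ▸ hv)
  have hxP : x ∈ eig s (-1) := hse.ge (Submodule.subset_span (Set.mem_insert x {y}))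
  have hyP : y ∈ eig s (-1) := hse.ge (Submodule.subset_span (Set.mem_insert_of_mem x rfl))
  have hcov : ∀ t, x t ≠ 0 ∨ y t ≠ 0 := fun t => by
    by_contra h
    push Not at h
    refine hsm (hS s hsM t ⟨t, 1, ?_⟩)
    rw [one_smul, hsv, rv, rv]
    simp [dot_ax', h.1, h.2]
  -- vectors of small support vanish on the same coordinates
  have hone : ∀ {v : ι → F}, (supp v).card ≤ 1 → ∃ t, ∃ c : F, v = c • ax t := fun {v} hc => by
    by_cases h0 : v = 0
    · obtain ⟨t⟩ : Nonempty ι := Fintype.card_pos_iff.1 (by omega)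
      exact ⟨t, 0, by rw [h0, zero_smul]⟩
    obtain ⟨t, ht⟩ : ∃ t, v t ≠ 0 := Function.ne_iff.1 h0
    refine ⟨t, v t, funext fun i => ?_⟩
    rcases eq_or_ne i t with rfl | hi
    · simp [ax]
    rw [Pi.smul_apply, ax_ne hi, smul_zero]
    by_contra hvi
    exact hi (Finset.card_le_one.1 hc i (hsupp.2 hvi) t (hsupp.2 ht))
  have hsame : ∀ {v w}, v ∈ eig s (-1) → w ∈ eig s (-1) → v ≠ 0 → w ≠ 0 → (supp v).card ≤ 3 → (supp w).card ≤ 3 →
      supp w = supp v := fun {v w} hv hw hv0 hw0 h1 h3 => by
    obtain ⟨a, ha⟩ := Finset.card_pos.1 (show 0 < (supp v ∪ supp w)ᶜ.card by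
      rw [Finset.card_compl]; have := Finset.card_union_le (supp v) (supp w); omega)
    simp only [Finset.mem_compl, Finset.mem_union, hsupp, not_or, not_not] at ha
    obtain ⟨α, β, rfl⟩ := hP hv
    obtain ⟨γ, δ, rfl⟩ := hP hw
    simp only [Pi.add_apply, Pi.smul_apply, smul_eq_mul] at ha
    have hdep : α * δ - β * γ = 0 := by
      rcases hcov a with h | h
      · exact (mul_eq_zero.1 (show x a * (α * δ - β * γ) = 0 by linear_combination δ * ha.1 - β * ha.2)).resolve_left h
      · exact (mul_eq_zero.1 (show y a * (α * δ - β * γ) = 0 by linear_combination α * ha.2 - γ * ha.1)).resolve_left h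
    have hne : ∀ {α β : F}, α • x + β • y ≠ 0 → α ≠ 0 ∨ β ≠ 0 := fun {α β} h => by
      by_contra hc; push Not at hc; exact h (by simp [hc.1, hc.2])
    ext t
    simp only [hsupp, Pi.add_apply, Pi.smul_apply, smul_eq_mul]
    refine not_congr ⟨fun h => ?_, fun h => ?_⟩
    · rcases hne hw0 with hh | hh
      · exact (mul_eq_zero.1 (show γ * (α * x t + β * y t) = 0 by linear_combination α * h - y t * hdep)).resolve_left hh
      · exact (mul_eq_zero.1 (show δ * (α * x t + β * y t) = 0 by linear_combination β * h + x t * hdep)).resolve_left hh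
    · rcases hne hv0 with hh | hh
      · exact (mul_eq_zero.1 (show α * (γ * x t + δ * y t) = 0 by linear_combination γ * h + y t * hdep)).resolve_left hh
      · exact (mul_eq_zero.1 (show β * (γ * x t + δ * y t) = 0 by linear_combination δ * h - x t * hdep)).resolve_left hh
  -- the coordinate left unchanged
  obtain ⟨l, hK⟩ : ∃ l, ∀ v ∈ eig s (-1), v ≠ 0 → (supp v).card ≤ 3 → (v l ≠ 0 ↔ (supp v).card ≤ 2) := by
    by_cases hex : ∃ v ∈ eig s (-1), v ≠ 0 ∧ (supp v).card ≤ 3
    · obtain ⟨v₀, hv₀, hv₀0, hv₀3⟩ := hex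
      obtain ⟨l, hl⟩ : ∃ l, v₀ l ≠ 0 ↔ (supp v₀).card ≤ 2 := by
        by_cases h : (supp v₀).card ≤ 2
        · obtain ⟨l, hl⟩ := Function.ne_iff.1 hv₀0
          exact ⟨l, iff_of_true hl h⟩
        · obtain ⟨l, hl⟩ := Finset.card_pos.1 (show 0 < (supp v₀)ᶜ.card by rw [Finset.card_compl]; omega)
          exact ⟨l, iff_of_false (fun h' => Finset.mem_compl.1 hl (hsupp.2 h')) h⟩
      refine ⟨l, fun v hv hv0 hv3 => ?_⟩
      have e := hsame hv₀ hv hv₀0 hv0 hv₀3 hv3
      rw [← hsupp, e, hsupp]
      exact hl
    · push Not at hex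
      obtain ⟨l⟩ : Nonempty ι := Fintype.card_pos_iff.1 (by omega)
      exact ⟨l, fun v hv hv0 hv3 => absurd hv3 (by have := hex v hv hv0; omega)⟩
  obtain ⟨u, huM, hu⟩ := exists_neg hM h2 (by omega) ({l} : Finset ι)ᶜ (by
    rw [Finset.card_compl, Finset.card_singleton, hn]; decide)
  simp only [Finset.mem_compl, Finset.mem_singleton] at hu
  have hu2 : u * u = 1 := orth_ext fun v => by
    rw [orth_mul_apply]; funext i; rw [hu, hu]; split_ifs <;> simp
  have huneg : ∀ v : ι → F, v l = 0 → u.1 v = -v := fun v hv => funext fun i => by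
    rw [hu]
    split_ifs with h
    · subst h
      simp [hv]
    · rfl
  have hul : u.1 (ax l) = ax l := funext fun i => by
    rw [hu]
    split_ifs with h
    · rfl
    · rw [ax_ne h, neg_zero]
  have hline : ∀ m : orth (sq F ι), m * u = u * m → ∃ ε : F, m.1 (ax l) = ε • ax l := fun m e => by
    refine ⟨m.1 (ax l) l, funext fun i => ?_⟩
    rcases eq_or_ne i l with rfl | hi
    · simp [ax]
    have h := congrFun (show u.1 (m.1 (ax l)) = m.1 (ax l) by rw [← orth_mul_apply, ← e, orth_mul_apply, hul]) i
    rw [hu, if_pos hi] at h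
    rw [Pi.smul_apply, ax_ne hi, smul_zero]
    exact (mul_eq_zero.1 (show 2 * m.1 (ax l) i = 0 by linear_combination -h)).resolve_left h2
  have hcomm : ∀ m ∈ M, m * u = u * m → Mono m := fun m hm e => by
    obtain ⟨ε, hε⟩ := hline m e
    exact hS m hm l ⟨l, ε, hε⟩
  -- the dihedral group
  set r := u * s with hr
  have hur : ∀ k : ℕ, u * r ^ k = r⁻¹ ^ k * u := by
    intro k
    induction k with
    | zero => simp
    | succ k ih =>
      have : u * r = r⁻¹ * u := by
        rw [hr, mul_inv_rev, inv_eq_of_mul_eq_one_right hu2, inv_eq_of_mul_eq_one_right hs2, ← mul_assoc, hu2,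
          one_mul, mul_assoc, hu2, mul_one]
      rw [pow_succ, ← mul_assoc, ih, mul_assoc, this, ← mul_assoc, ← pow_succ]
  have hsr : ∀ k : ℕ, s * r ^ k = r⁻¹ ^ k * s := by
    intro k
    have hs : s = u * r := by rw [hr, ← mul_assoc, hu2, one_mul]
    calc s * r ^ k = u * r ^ (k + 1) := by rw [hs, mul_assoc, ← pow_succ']
      _ = r⁻¹ ^ (k + 1) * u := hur _
      _ = r⁻¹ ^ k * (r⁻¹ * u) := by rw [pow_succ, mul_assoc]
      _ = r⁻¹ ^ k * s := by
        congr 1
        have := hur 1
        rw [pow_one, pow_one] at this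
        rw [hs, this]
  haveI : Finite ((ι → F) ≃ₗ[F] (ι → F)) := Finite.of_injective _ DFunLike.coe_injective
  set N := orderOf r
  have hN : r ^ N = 1 := pow_orderOf_eq_one r
  have hN0 : 0 < N := orderOf_pos r
  rcases Nat.even_or_odd' N with ⟨j, hj | hj⟩
  swap
  · -- odd order
    have e : r ^ j * u * (r ^ j)⁻¹ = s := by
      have h1 : (r ^ j)⁻¹ = r⁻¹ ^ j := (inv_pow r j).symm
      have h3 : u * (r ^ j)⁻¹ = r ^ j * u := by
        rw [mul_inv_eq_iff_eq_mul, mul_assoc, hur, ← mul_assoc, inv_pow, mul_inv_cancel, one_mul]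
      rw [mul_assoc, h3, ← mul_assoc, ← pow_add]
      have hrr : r ^ (j + j) * r = 1 := by rw [← pow_succ]; rwa [show j + j + 1 = N by omega]
      rw [eq_inv_of_mul_eq_one_left hrr, hr, mul_inv_rev, inv_eq_of_mul_eq_one_right hs2,
        inv_eq_of_mul_eq_one_right hu2, mul_assoc, hu2, mul_one]
    have h6 : 6 ≤ finrank F (eig u (-1)) := by
      have hli : LinearIndependent F fun i : {i // i ≠ l} =>
          (⟨ax i.1, mem_eig.2 (by rw [huneg _ (ax_ne (Ne.symm i.2)), neg_one_smul])⟩ : eig u (-1)) := by
        rw [Fintype.linearIndependent_iff]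
        intro f hf i
        have h1 := congrArg (fun v : eig u (-1) => (v : ι → F) i.1) hf
        simp only [Submodule.coe_sum, Submodule.coe_smul, Submodule.coe_zero, Pi.zero_apply, Finset.sum_apply,
          Pi.smul_apply, smul_eq_mul] at h1
        rw [Finset.sum_eq_single i (fun t _ ht => by
          rw [ax_ne (fun e => ht (Subtype.ext e.symm)), mul_zero]) (by simp), ax_self, mul_one] at h1
        exact h1
      have := hli.fintype_card_le_finrank
      rw [Fintype.card_subtype_compl, Fintype.card_subtype_eq, hn] at this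
      exact this
    have := finrank_eig_conj (r ^ j) u (-1)
    rw [e, hsd] at this
    omega
  have hj0 : 0 < j := by omega
  set z := r ^ j with hz
  have hz2 : z * z = 1 := by rw [hz, ← pow_add, show j + j = N by omega, hN]
  have hz1 : z ≠ 1 := fun e => by
    have := Nat.le_of_dvd hj0 (orderOf_dvd_of_pow_eq_one e)
    omega
  have hzinv : r⁻¹ ^ j = z := by rw [inv_pow, ← hz, inv_eq_of_mul_eq_one_right hz2]
  have huz : z * u = u * z := by rw [hz, hur, hzinv]
  have hsz : z * s = s * z := by rw [hz, hsr, hzinv]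
  have hzM : z ∈ M := M.pow_mem (M.mul_mem huM hsM) j
  obtain ⟨σ, c, hc, hσ⟩ := mono_perm h2 (hcomm z hzM huz)
  obtain ⟨ε, hε⟩ := hline z huz
  have hεσ : σ l = l := by
    by_contra hne
    have h := congrFun ((hσ l).symm.trans hε) (σ l)
    rw [Pi.smul_apply, ax_self, Pi.smul_apply, ax_ne hne, smul_zero, smul_eq_mul, mul_one] at h
    have := hc l; rw [h, mul_zero] at this; exact zero_ne_one this
  have hεε : ε * ε = 1 := by
    have h := col_dot z h2 l l
    rw [hε, smul_dotProduct, dotProduct_smul, dot_ax, ax_self, if_pos rfl] at h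
    simpa using h
  -- outside the space of the line and the plane the element is a scalar
  let U : Submodule F (ι → F) := Submodule.span F {ax l, x, y}
  have hU3 : finrank F U ≤ 3 := by
    refine (finrank_span_le_card ({ax l, x, y} : Set (ι → F))).trans ?_
    simp only [Set.toFinset_insert, Set.toFinset_singleton]
    exact Finset.card_le_three
  have hout : ∀ {w : ι → F} {δ : F}, w ∈ eig z δ → δ ≠ (-1) ^ j → w ∈ U := fun {w δ} hw hδ => by
    by_contra hwU
    obtain ⟨v, hv, hvw⟩ := exists_dot_perp hwU
    have hvl : v l = 0 := by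
      have := hv (ax l) (Submodule.subset_span (by simp))
      rwa [dot_ax'] at this
    have hsv' : s.1 v = v := by
      rw [hsv, rv, rv, dotProduct_comm y v, hv y (Submodule.subset_span (by simp))]
      simp [dotProduct_comm x v, hv x (Submodule.subset_span (by simp))]
    have hrv : r.1 v = -v := by rw [hr, orth_mul_apply, hsv', huneg v hvl]
    have hzv : ∀ k : ℕ, (r ^ k).1 v = (-1 : F) ^ k • v := fun k => by
      induction k with
      | zero => simp
      | succ k ih => rw [pow_succ, orth_mul_apply, hrv, map_neg, ih, pow_succ, mul_neg_one, neg_smul]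
    have h := map_dot z h2 v w
    rw [mem_eig.1 hw, hz, hzv, smul_dotProduct, dotProduct_smul, smul_eq_mul, smul_eq_mul] at h
    have hpow : ((-1 : F) ^ j) * (-1) ^ j = 1 := by rw [← mul_pow]; norm_num
    exact hvw ((mul_eq_zero.1 (show (δ - (-1) ^ j) * (v ⬝ᵥ w) = 0 by
      linear_combination (-1 : F) ^ j * h - δ * (v ⬝ᵥ w) * hpow)).resolve_left (sub_ne_zero.2 hδ))
  have hfix : ∀ {w : ι → F} {δ η : F}, w ∈ eig z δ → δ ≠ η → ∀ {t}, z.1 (ax t) = η • ax t → w t = 0 :=
    fun {w δ η} hw hne {t} ht => by
    have hη : η * η = 1 := by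
      have h := col_dot z h2 t t
      rw [ht, smul_dotProduct, dotProduct_smul, dot_ax, ax_self, if_pos rfl] at h
      simpa using h
    have h := map_dot z h2 (ax t) w
    rw [ht, mem_eig.1 hw, smul_dotProduct, dotProduct_smul, dot_ax, smul_eq_mul, smul_eq_mul] at h
    exact (mul_eq_zero.1 (show (δ - η) * w t = 0 by linear_combination η * h - δ * w t * hη)).resolve_left
      (sub_ne_zero.2 hne)
  have hne1 : (-1 : F) ≠ 1 := fun e => h2 (by linear_combination -e)
  rcases Nat.even_or_odd' j with ⟨i, hi | hi⟩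
  · -- four divides the order
    have hpj : (-1 : F) ^ j = 1 := (show Even j from ⟨i, by omega⟩).neg_one_pow
    set h := r ^ i
    have hhh : h * h = z := by rw [hz, ← pow_add, show i + i = j by omega]
    have hsh : s * h = h⁻¹ * s := by rw [hsr, inv_pow]
    set W := eig z (-1)
    have hsW : ∀ v ∈ W, s.1 v ∈ W := fun v hv => by
      rw [mem_eig, ← orth_mul_apply, hsz, orth_mul_apply, mem_eig.1 hv, map_smul]
    have hrz : ∀ v ∈ W, h.1 v ∈ W ∧ h⁻¹.1 v = -(h.1 v) := fun v hv => by
      have hzh : z * h = h * z := by rw [hz, ← pow_add, ← pow_add, add_comm]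
      refine ⟨?_, ?_⟩
      · rw [mem_eig, ← orth_mul_apply, hzh, orth_mul_apply, mem_eig.1 hv, map_smul]
      · have : h⁻¹ = h * z⁻¹ := by rw [← hhh, mul_inv_rev]; group
        rw [this, inv_eq_of_mul_eq_one_right hz2, orth_mul_apply, mem_eig.1 hv, neg_one_smul, map_neg]
    have hle : ∀ ε : F, finrank F ↥(W ⊓ eig s ε) ≤ finrank F ↥(W ⊓ eig s (-ε)) := fun ε => by
      rw [← LinearEquiv.finrank_map_eq h.1 (W ⊓ eig s ε)]
      refine Submodule.finrank_mono ?_
      rintro _ ⟨v, hv, rfl⟩
      refine ⟨(hrz v hv.1).1, mem_eig.2 ?_⟩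
      show s.1 (h.1 v) = -ε • h.1 v
      rw [← orth_mul_apply, hsh, orth_mul_apply, mem_eig.1 hv.2, map_smul, (hrz v hv.1).2, smul_neg, neg_smul]
    have hsum : W ≤ (W ⊓ eig s (-1)) ⊔ (W ⊓ eig s 1) := by
      intro v hv
      have e1 : (2 : F)⁻¹ • (v - s.1 v) ∈ W ⊓ eig s (-1) := ⟨W.smul_mem _ (W.sub_mem hv (hsW v hv)), by
        rw [SetLike.mem_coe, mem_eig, map_smul, map_sub, mul_self_apply hs2, smul_comm, neg_one_smul, neg_sub]⟩
      have e2 : (2 : F)⁻¹ • (v + s.1 v) ∈ W ⊓ eig s 1 := ⟨W.smul_mem _ (W.add_mem hv (hsW v hv)), by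
        rw [SetLike.mem_coe, mem_eig, map_smul, map_add, mul_self_apply hs2, one_smul, add_comm (s.1 v)]⟩
      have := Submodule.add_mem_sup e1 e2
      rwa [← smul_add, sub_add_add_cancel, ← two_smul F v, inv_smul_smul₀ h2] at this
    have hWU : W ≤ U := fun w hw => hout hw (by rw [hpj]; exact hne1)
    have hW3 := (Submodule.finrank_mono hWU).trans hU3
    have hdisj : (W ⊓ eig s (-1)) ⊓ (W ⊓ eig s 1) = ⊥ := (Submodule.eq_bot_iff _).2 fun v hv => funext fun t => by
      have h1 := congrFun ((mem_eig.1 hv.1.2).symm.trans (mem_eig.1 hv.2.2)) t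
      simp only [Pi.smul_apply, smul_eq_mul] at h1
      exact (mul_eq_zero.1 (show 2 * v t = 0 by linear_combination -h1)).resolve_left h2
    have hab := Submodule.finrank_sup_add_finrank_inf_eq (W ⊓ eig s (-1)) (W ⊓ eig s 1)
    rw [hdisj, finrank_bot, add_zero] at hab
    have h1 := Submodule.finrank_mono hsum
    have h3 := Submodule.finrank_mono
      (show (W ⊓ eig s (-1)) ⊔ (W ⊓ eig s 1) ≤ W from sup_le inf_le_left inf_le_left)
    have h4 := hle 1
    have h5 := hle (-1)
    rw [neg_neg] at h5
    have hWd : finrank F W ≤ 2 := by omega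
    have hW0 : finrank F W ≠ 0 := fun e => hz1 (orth_ext fun v => by
      have : v - z.1 v ∈ W := mem_eig.2 (by rw [map_sub, mul_self_apply hz2, neg_one_smul, neg_sub])
      rw [Submodule.finrank_eq_zero.1 e, Submodule.mem_bot, sub_eq_zero] at this
      exact this.symm)
    obtain ⟨v, hv, hv0⟩ := Submodule.exists_mem_ne_zero_of_ne_bot (p := W ⊓ eig s (-1)) (fun e => by
      have e' : finrank F ↥(W ⊓ eig s (-1)) = 0 := by rw [e, finrank_bot]
      omega)
    have hvl : v l ≠ 0 := fun hvl => by
      have hrv : r.1 v = v := by rw [hr, orth_mul_apply, mem_eig.1 hv.2, neg_one_smul, map_neg, huneg v hvl, neg_neg]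
      have hzv : ∀ k : ℕ, (r ^ k).1 v = v := fun k => by
        induction k with
        | zero => rfl
        | succ k ih => rw [pow_succ, orth_mul_apply, hrv, ih]
      refine hv0 (funext fun t => ?_)
      have := congrFun (mem_eig.1 hv.1) t
      rw [hz, hzv, Pi.smul_apply, smul_eq_mul, neg_one_mul] at this
      exact (mul_eq_zero.1 (show 2 * v t = 0 by linear_combination this)).resolve_left h2
    have hεm : ε = -1 := (mul_self_eq_one_iff.1 hεε).resolve_left fun e => hvl (hfix hv.1 (e ▸ hne1) (e ▸ hε))
    subst hεm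
    have hml : z.1 (ax l) ≠ ax l := fun e => by
      have := congrFun (hε.symm.trans e) l
      rw [Pi.smul_apply, ax_self, smul_eq_mul, mul_one] at this
      exact hne1 this
    have hmoved := card_moved_axis hz2 hc hσ hWd hεσ hml
      (T := Finset.univ.filter fun t => z.1 (ax t) ≠ ax t) fun t ht => (Finset.mem_filter.1 ht).2
    have hvsub : supp v ⊆ Finset.univ.filter fun t => z.1 (ax t) ≠ ax t := fun t ht =>
      Finset.mem_filter.2 ⟨Finset.mem_univ _, fun e =>
        hsupp.1 ht (hfix hv.1 hne1 (t := t) (by rw [one_smul]; exact e))⟩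
    have hv2 := (hK v hv.2 hv0 ((Finset.card_le_card hvsub).trans hmoved)).1 hvl
    obtain ⟨p, hp, hpl⟩ : ∃ p, v p ≠ 0 ∧ p ≠ l := by
      by_contra hno
      push Not at hno
      refine hsm (hS s hsM l ⟨l, -1, ?_⟩)
      have e : v = v l • ax l := funext fun t => by
        rcases eq_or_ne t l with rfl | ht
        · simp [ax]
        · rw [Pi.smul_apply, ax_ne ht, smul_zero]
          by_contra hvt
          exact ht (hno t hvt)
      have h' := mem_eig.1 hv.2
      rw [e, map_smul, smul_comm] at h'
      exact smul_right_injective _ hvl h'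
    -- the central element has two negative axes
    have hlW : ax l ∈ W := mem_eig.2 hε
    have hpW : ax p ∈ W := by
      have e : v = v l • ax l + v p • ax p := funext fun t => by
        rcases eq_or_ne t l with rfl | ht
        · simp [ax, hpl.symm]
        rcases eq_or_ne t p with rfl | htp
        · simp [ax, hpl]
        · simp only [Pi.add_apply, Pi.smul_apply, ax_ne ht, ax_ne htp, smul_zero, add_zero]
          by_contra hvt
          have := Finset.card_le_card (show ({l, p, t} : Finset ι) ⊆ supp v from fun a ha => by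
            simp at ha; rcases ha with rfl | rfl | rfl <;> exact hsupp.2 (by assumption))
          rw [Finset.card_insert_of_notMem (by simp [hpl.symm, Ne.symm ht]), Finset.card_pair htp.symm] at this
          omega
      have := W.sub_mem hv.1 (W.smul_mem (v l) hlW)
      rw [e] at this
      simp [ax, hpl.symm] at this
      exact (W.smul_mem_iff hp).1 this
    have hspan : ∀ w ∈ W, ∀ t, t ≠ l → t ≠ p → w t = 0 := by
      have hli : LinearIndependent F ![(ax l : ι → F), ax p] := by
        rw [LinearIndependent.pair_iff]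
        intro a b e
        have e1 := congrFun e l
        have e2 := congrFun e p
        simp [ax, hpl, hpl.symm] at e1 e2
        exact ⟨e1, e2⟩
      have hsp : Submodule.span F (Set.range ![(ax l : ι → F), ax p]) = W := by
        refine Submodule.eq_of_le_of_finrank_le (Submodule.span_le.2 (by simp [Set.insert_subset_iff, hlW, hpW])) ?_
        rw [finrank_span_eq_card hli, Fintype.card_fin]
        exact hWd
      intro w hw t htl htp
      rw [← hsp] at hw
      obtain ⟨f, rfl⟩ := (Submodule.mem_span_range_iff_exists_fun F).1 hw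
      simp [Fin.sum_univ_two, ax, htl, htp]
    have hz1ax : ∀ t, t ≠ l → t ≠ p → z.1 (ax t) = ax t := fun t htl htp => by
      have hw : ax t - z.1 (ax t) ∈ W := mem_eig.2 (by rw [map_sub, mul_self_apply hz2, neg_one_smul, neg_sub])
      have hperp : ∀ a, ax a ∈ W → a ≠ t → z.1 (ax t) a = 0 := fun a ha hat => by
        have h := map_dot z h2 (ax a) (ax t)
        rw [mem_eig.1 ha, smul_dotProduct, dot_ax, dot_ax, ax_ne hat, smul_eq_mul] at h
        linear_combination -h
      refine (sub_eq_zero.1 (funext fun a => ?_)).symm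
      rcases eq_or_ne a l with rfl | hal
      · rw [Pi.sub_apply, ax_ne (Ne.symm htl), hperp a hlW (Ne.symm htl)]; simp
      rcases eq_or_ne a p with rfl | hap
      · rw [Pi.sub_apply, ax_ne (Ne.symm htp), hperp a hpW (Ne.symm htp)]; simp
      · exact hspan _ hw a hal hap
    have hT : (Finset.univ.filter fun t => σ t ≠ t).card ≤ 4 := by
      refine (Finset.card_le_card fun t ht => ?_).trans (hmoved.trans (by norm_num))
      simp only [Finset.mem_filter, Finset.mem_univ, true_and] at ht ⊢
      intro e
      have h' := congrFun ((hσ t).symm.trans e) (σ t)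
      rw [Pi.smul_apply, ax_self, ax_ne ht, smul_eq_mul, mul_one] at h'
      have := hc t; rw [h', mul_zero] at this; exact zero_ne_one this
    set S := Finset.univ.filter fun t => z.1 (ax t) = (1 : F) • ax t
    have hS5 : 5 ≤ S.card := by
      have : ({l, p} : Finset ι)ᶜ ⊆ S := fun t ht => by
        simp at ht
        exact Finset.mem_filter.2 ⟨Finset.mem_univ _, by rw [one_smul, hz1ax t ht.1 ht.2]⟩
      have h' := Finset.card_le_card this
      rw [Finset.card_compl, Finset.card_pair hpl.symm] at h'
      omega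
    have hSp := space_of_invol h2 hz2 hc hσ hT (mul_one 1) (S := S) (fun a => by simp [S]) (by omega) ⟨l, hε⟩
    exact hsm (mono_of_space hM hS h2 (by omega) hSp hSp hS5 hsM fun w => by
      rw [mem_eig, mem_eig, ← orth_mul_apply, hsz, orth_mul_apply, ← map_smul]
      exact s.1.injective.eq_iff)
  · -- twice odd
    have hpj : (-1 : F) ^ j = -1 := (show Odd j from ⟨i, hi⟩).neg_one_pow
    set s' := u * z
    have hconj : s' = r⁻¹ ^ i * s * (r⁻¹ ^ i)⁻¹ := by
      rw [inv_pow, inv_inv]
      have hs : s = u * r := by rw [hr, ← mul_assoc, hu2, one_mul]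
      have h1 : u * r ^ i = (r ^ i)⁻¹ * u := by rw [hur, inv_pow]
      rw [hs, mul_assoc ((r ^ i)⁻¹) (u * r), mul_assoc u, ← mul_assoc _ u, ← h1, mul_assoc, ← mul_assoc (r ^ i),
        ← pow_succ, ← pow_add]
      show u * r ^ j = _
      congr 2
      omega
    have hs'u : s' * u = u * s' := by show u * z * u = u * (u * z); rw [mul_assoc, huz]
    have hs'2 : s' * s' = 1 := by
      rw [show s' * s' = u * (z * u) * z by simp [s', mul_assoc], huz, ← mul_assoc, hu2, one_mul, hz2]
    obtain ⟨σ', c', hc', hσ'⟩ := mono_perm h2 (hcomm s' (M.mul_mem huM hzM) hs'u)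
    have hs'd : finrank F (eig s' (-1)) = 2 := by rw [hconj, finrank_eig_conj, hsd]
    have hzus : z = u * s' := by rw [show u * s' = u * u * z from (mul_assoc u u z).symm, hu2, one_mul]
    have hzneg : ∀ t, t ≠ l → s'.1 (ax t) = ax t → z.1 (ax t) = (-1 : F) • ax t := fun t htl e => by
      rw [hzus, orth_mul_apply, e, huneg _ (ax_ne (Ne.symm htl)), neg_one_smul]
    set D := Finset.univ.filter fun t => s'.1 (ax t) ≠ ax t
    have hUeq : ∀ {w}, w ∈ U → ∃ a : F, ∃ v ∈ eig s (-1), a • ax l + v = w := fun {w} hw => by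
      obtain ⟨a, b, hb, rfl⟩ := Submodule.mem_span_insert.1 hw
      exact ⟨a, b, hse ▸ hb, rfl⟩
    rcases mul_self_eq_one_iff.1 hεε with hε1 | hε1
    · -- the line is fixed: the plane lies among few coordinates
      subst hε1
      have hlU : ax l ∈ eig z 1 := mem_eig.2 hε
      have hP' : eig s' (-1) ≤ eig z 1 := fun w hw => by
        have hwl : w l = 0 := by
          have e : s'.1 (ax l) = ax l := by
            show (u * z).1 (ax l) = ax l
            rw [orth_mul_apply, hε, one_smul, hul]
          have h := map_dot s' h2 (ax l) w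
          rw [e, mem_eig.1 hw, dotProduct_smul, dot_ax, smul_eq_mul] at h
          exact (mul_eq_zero.1 (show 2 * w l = 0 by linear_combination -h)).resolve_left h2
        rw [mem_eig, one_smul, hzus, orth_mul_apply, mem_eig.1 hw, neg_one_smul, map_neg, huneg w hwl, neg_neg]
      have hlt : eig s' (-1) < eig z 1 := lt_of_le_of_ne hP' fun e => by
        have h := mem_eig.1 (e.ge hlU)
        rw [show s'.1 (ax l) = u.1 (z.1 (ax l)) from orth_mul_apply u z _, hε, one_smul, hul] at h
        have h' := congrFun h l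
        rw [Pi.smul_apply, ax_self, smul_eq_mul, mul_one] at h'
        exact hne1 h'.symm
      have hd := Submodule.finrank_lt_finrank_of_lt hlt
      have hle : eig z 1 ≤ U := fun w hw => hout hw (by rw [hpj]; exact hne1.symm)
      have heq : eig z 1 = U := Submodule.eq_of_le_of_finrank_le hle (by omega)
      have hall : (Finset.univ : Finset ι) ⊆ insert l D := fun t _ => by
        by_contra ht
        simp [D] at ht
        have hzt := hzneg t ht.1 ht.2
        exact (hcov t).elim
          (fun h => h (hfix (heq.ge (Submodule.subset_span (by simp))) hne1.symm hzt))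
          (fun h => h (hfix (heq.ge (Submodule.subset_span (by simp))) hne1.symm hzt))
      have h1 := Finset.card_le_card hall
      have h3 := Finset.card_insert_le l D
      have h5 := card_moved h2 hs'2 hc' hσ' hs'd.le (T := D) fun t ht => (Finset.mem_filter.1 ht).2
      rw [Finset.card_univ] at h1
      omega
    · -- the line is negated: fixed vectors are axes
      subst hε1
      have e : s'.1 (ax l) = (-1 : F) • ax l := by
        show (u * z).1 (ax l) = _
        rw [orth_mul_apply, hε, map_smul, hul]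
      have hσl : σ' l = l := by
        by_contra hne
        have h := congrFun ((hσ' l).symm.trans e) (σ' l)
        rw [Pi.smul_apply, ax_self, Pi.smul_apply, ax_ne hne, smul_zero, smul_eq_mul, mul_one] at h
        have := hc' l; rw [h, mul_zero] at this; exact zero_ne_one this
      have hml : s'.1 (ax l) ≠ ax l := fun e' => by
        have := congrFun (e.symm.trans e') l
        rw [Pi.smul_apply, ax_self, smul_eq_mul, mul_one] at this
        exact hne1 this
      have hD : D.card ≤ 3 := card_moved_axis hs'2 hc' hσ' hs'd.le hσl hml fun t ht => (Finset.mem_filter.1 ht).2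
      have hlD : l ∈ D := Finset.mem_filter.2 ⟨Finset.mem_univ _, hml⟩
      have hsmall : ∀ w ∈ eig z 1, (supp w).card ≤ 1 := fun w hw => by
        have hwl : w l = 0 := hfix hw hne1.symm hε
        have hsub : supp w ⊆ D.erase l := fun t ht => by
          have htl : t ≠ l := fun e' => hsupp.1 ht (e' ▸ hwl)
          refine Finset.mem_erase.2 ⟨htl, Finset.mem_filter.2 ⟨Finset.mem_univ _, fun e' => hsupp.1 ht ?_⟩⟩
          exact hfix hw hne1.symm (hzneg t htl e')
        have hw2 := Finset.card_le_card hsub
        rw [Finset.card_erase_of_mem hlD] at hw2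
        obtain ⟨a, v, hv, rfl⟩ := hUeq (hout hw (by rw [hpj]; exact hne1.symm))
        have hvl : v l = -a := by
          simp [ax] at hwl
          linear_combination hwl
        have hsub' : ∀ t, t ≠ l → (v t ≠ 0 ↔ t ∈ supp (a • ax l + v)) := fun t ht => by
          rw [hsupp, Pi.add_apply, Pi.smul_apply, ax_ne ht, smul_zero, zero_add]
        by_cases hv0 : v = 0
        · subst hv0
          simp at hvl
          simp [supp, hvl]
        have hvsub : supp v ⊆ insert l (supp (a • ax l + v)) := fun t ht => by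
          rcases eq_or_ne t l with rfl | htl
          · exact Finset.mem_insert_self _ _
          · exact Finset.mem_insert_of_mem ((hsub' t htl).1 (hsupp.1 ht))
        have h1 := Finset.card_le_card hvsub
        have h3 := Finset.card_insert_le l (supp (a • ax l + v))
        have hk := hK v hv hv0 (by omega)
        by_cases ha : v l = 0
        · have : supp v ⊆ supp (a • ax l + v) := fun t ht =>
            (hsub' t fun e' => hsupp.1 ht (e' ▸ ha)).1 (hsupp.1 ht)
          have := Finset.card_le_card this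
          exact absurd (hk.2 (by omega)) (not_not.2 ha)
        · have h6 := hk.1 ha
          have : supp (a • ax l + v) ⊆ (supp v).erase l := fun t ht => by
            have htl : t ≠ l := fun e' => hsupp.1 ht (e' ▸ hwl)
            exact Finset.mem_erase.2 ⟨htl, hsupp.2 ((hsub' t htl).2 ht)⟩
          have := Finset.card_le_card this
          rw [Finset.card_erase_of_mem (hsupp.2 ha)] at this
          omega
      obtain ⟨w, hw, hw0⟩ : ∃ w ∈ eig z 1, w ≠ 0 := by
        by_contra hno
        push Not at hno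
        have hzall : ∀ v, z.1 v = -v := fun v => eq_neg_of_add_eq_zero_right
          (hno (v + z.1 v) (mem_eig.2 (by rw [map_add, mul_self_apply hz2, one_smul, add_comm])))
        obtain ⟨t, htl⟩ := Fintype.exists_ne_of_one_lt_card (by omega) l
        have hb : eig s' (-1) ≤ F ∙ ax l := fun v hv => by
          refine Submodule.mem_span_singleton.2 ⟨v l, funext fun a => ?_⟩
          rcases eq_or_ne a l with rfl | hal
          · simp [ax]
          have h := congrFun (mem_eig.1 hv) a
          rw [show s'.1 v = u.1 (z.1 v) from orth_mul_apply u z v, hzall, hu, if_pos hal, Pi.neg_apply,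
            Pi.smul_apply, smul_eq_mul] at h
          rw [Pi.smul_apply, ax_ne hal, smul_zero, eq_comm]
          exact (mul_eq_zero.1 (show 2 * v a = 0 by linear_combination h)).resolve_left h2
        have h' := (Submodule.finrank_mono hb).trans (le_of_eq (finrank_span_singleton fun e' => by
          have := congrFun e' l; rw [ax_self] at this; exact one_ne_zero this))
        omega
      obtain ⟨t, d, hd⟩ := hone (hsmall w hw)
      have hd0 : d ≠ 0 := fun e' => hw0 (by rw [hd, e', zero_smul])
      have htz : ax t ∈ eig z 1 := ((eig z 1).smul_mem_iff hd0).1 (hd ▸ hw)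
      obtain ⟨t', d', hd'⟩ := hone (hsmall (s.1 (ax t)) (by
        rw [mem_eig, ← orth_mul_apply, hsz, orth_mul_apply, mem_eig.1 htz, map_smul]))
      exact hsm (hS s hsM t ⟨t', d', hd'⟩)

/-- The stabiliser of a coordinate line is not monomial, from dimension seven on. -/
theorem not_star_small (hM : Over M) (h2 : (2 : F) ≠ 0) (hn : 7 ≤ Fintype.card ι) (h8 : Fintype.card ι ≠ 8)
    {g : orth (sq F ι)} (hg : g ∈ M) (hgm : ¬ Mono g) : ¬ Star M := by
  rcases eq_or_ne (Fintype.card ι) 7 with h7 | h7
  · exact not_star_seven hM h2 h7 hg hgm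
  · exact not_star hM h2 (by omega) hg hgm

end Cfsg.Agent.Frame10
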