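import Cfsg.Agent.Lib.Frame10Six75Pair

/-!
Six coordinates: fusion of pairs of sign changes shows that some line stabiliser is not monomial.
-/

set_option autoImplicit false
set_option linter.unusedSectionVars false
set_option linter.unusedSimpArgs false
set_option maxHeartbeats 800000

namespace Cfsg.Agent.Frame10Six75

open QuadraticMap Module
open Cfsg.Agent.OrthUnitaryQuad Cfsg.Agent.OrthUnitaryRefl Cfsg.Agent.OmegaDecomp Cfsg.Agent.Frame10
open scoped Matrix

/-- Two involutions are conjugate or a central involution interchanges the two classes. -/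
theorem dihedral {G : Type*} [Group G] [Finite G] {z t : G} (hz : z * z = 1) (ht : t * t = 1) :
    (∃ k ∈ Subgroup.closure {z, t}, k * z * k⁻¹ = t) ∨
      ∃ w ∈ Subgroup.closure {z, t}, w ≠ 1 ∧ w * w = 1 ∧ z * w = w * z ∧ t * w = w * t ∧
        ∃ k ∈ Subgroup.closure {z, t}, k * z * k⁻¹ = w * z ∨ k * t * k⁻¹ = w * z := by
  set H := Subgroup.closure {z, t}
  have hzi : z⁻¹ = z := inv_eq_of_mul_eq_one_right hz
  have hti : t⁻¹ = t := inv_eq_of_mul_eq_one_right ht
  set r := z * t with hr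
  have hrH : r ∈ H := H.mul_mem (Subgroup.subset_closure (by simp)) (Subgroup.subset_closure (by simp))
  have hrinv : r⁻¹ = t * z := by rw [hr, mul_inv_rev, hzi, hti]
  have hs : SemiconjBy z r r⁻¹ := by
    show z * r = r⁻¹ * z
    rw [hrinv, hr, ← mul_assoc, hz, one_mul, mul_assoc, hz, mul_one]
  have hp : ∀ i : ℕ, z * (r ^ i)⁻¹ = r ^ i * z := fun i => by
    have h := (hs.pow_right i).inv_right
    simpa [SemiconjBy] using h.eq
  have hconj : ∀ i : ℕ, r ^ i * z * (r ^ i)⁻¹ = r ^ (2 * i) * z := fun i => by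
    rw [mul_assoc, hp, ← mul_assoc, ← pow_add, two_mul]
  have htz : t = z * r := by rw [hr, ← mul_assoc, hz, one_mul]
  have hone : r ^ orderOf r = 1 := pow_orderOf_eq_one r
  rcases Nat.even_or_odd' (orderOf r) with ⟨j, hj | hj⟩
  · rw [hj] at hone
    have hj0 : 0 < j := by have := orderOf_pos r; omega
    set w := r ^ j with hw
    have hww : w * w = 1 := by rw [hw, ← pow_add, ← two_mul, hone]
    have hwi : w⁻¹ = w := inv_eq_of_mul_eq_one_right hww
    have hzw : z * w = w * z := by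
      have := hp j
      rwa [← hw, hwi] at this
    refine Or.inr ⟨w, H.pow_mem hrH j, pow_ne_one_of_lt_orderOf (by omega) (by omega), hww, hzw, ?_, ?_⟩
    · rw [htz, mul_assoc, ((Commute.refl r).pow_right j).eq, ← mul_assoc, hzw, mul_assoc]
    · rcases Nat.even_or_odd' j with ⟨i, hi | hi⟩
      · exact ⟨r ^ i, H.pow_mem hrH i, Or.inl (by rw [hconj, hw, hi])⟩
      · refine ⟨r ^ (i + 1), H.pow_mem hrH (i + 1), Or.inr ?_⟩
        rw [htz, show r ^ (i + 1) * (z * r) * (r ^ (i + 1))⁻¹ = r ^ (i + 1) * (z * (r ^ i)⁻¹) by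
          rw [pow_succ r i]; simp [mul_assoc], hp, ← mul_assoc, ← pow_add, hw, hi]
        congr 2
        omega
  · rw [hj, pow_succ] at hone
    refine Or.inl ⟨r ^ j, H.pow_mem hrH j, ?_⟩
    rw [hconj, eq_inv_of_mul_eq_one_left hone, hrinv, mul_assoc, hz, mul_one]

variable {F : Type*} [Field F] {ι : Type*} [Fintype ι] [DecidableEq ι]

/-- The trace. -/
def tr (g : orth (sq F ι)) : F := ∑ i, g.1 (ax i) i

theorem tr_eq (g : orth (sq F ι)) :
    tr g = (LinearMap.toMatrix' (g.1 : (ι → F) →ₗ[F] (ι → F))).trace := by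
  simp only [tr, Matrix.trace, Matrix.diag, LinearMap.toMatrix'_apply]
  refine Finset.sum_congr rfl fun i _ => ?_
  simp [ax, Pi.single_apply]

theorem coe_mul (g h : orth (sq F ι)) : ((g * h).1 : (ι → F) →ₗ[F] (ι → F)) =
    (g.1 : (ι → F) →ₗ[F] (ι → F)) ∘ₗ (h.1 : (ι → F) →ₗ[F] (ι → F)) :=
  LinearMap.ext fun x => orth_mul_apply g h x

theorem tr_conj (k g : orth (sq F ι)) : tr (k * g * k⁻¹) = tr g := by
  have h : ∀ a b : orth (sq F ι), tr (a * b) = tr (b * a) := fun a b => by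
    rw [tr_eq, tr_eq, coe_mul, coe_mul, LinearMap.toMatrix'_comp, LinearMap.toMatrix'_comp, Matrix.trace_mul_comm]
  rw [h, inv_mul_cancel_left]

theorem tr_pair {e : orth (sq F ι)} {a b : ι} (hab : a ≠ b) (he : IsPair e a b) (w : orth (sq F ι)) :
    tr (w * e) = tr w - 2 * (w.1 (ax a) a + w.1 (ax b) b) := by
  have h1 : ∀ i, (w * e).1 (ax i) i = w.1 (ax i) i - if i = a ∨ i = b then 2 * w.1 (ax i) i else 0 := fun i => by
    rw [orth_mul_apply, he, map_smul, Pi.smul_apply, smul_eq_mul]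
    split_ifs <;> ring
  rw [tr, Finset.sum_congr rfl fun i _ => h1 i, Finset.sum_sub_distrib, mul_add]
  congr 1
  rw [Finset.sum_eq_add a b hab (fun i _ hi => if_neg (not_or.2 hi)) (by simp) (by simp)]
  simp

/-- The determinant. -/
noncomputable def dt' (g : orth (sq F ι)) : F := LinearMap.det (g.1 : (ι → F) →ₗ[F] (ι → F))

theorem dt'_mul (g h : orth (sq F ι)) : dt' (g * h) = dt' g * dt' h := by
  rw [dt', coe_mul, LinearMap.det_comp]; rfl

theorem dt'_one : dt' (1 : orth (sq F ι)) = 1 := by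
  rw [dt', show ((1 : orth (sq F ι)).1 : (ι → F) →ₗ[F] (ι → F)) = LinearMap.id from rfl, LinearMap.det_id]

/-- The determinant of a monomial isometry. -/
theorem dt'_mono {g : orth (sq F ι)} {σ : Equiv.Perm ι} {c : ι → F} (hg : ∀ i, g.1 (ax i) = c i • ax (σ i)) :
    dt' g = ((Equiv.Perm.sign σ : ℤ) : F) * ∏ i, c i := by
  have hm : (LinearMap.toMatrix' (g.1 : (ι → F) →ₗ[F] (ι → F))).submatrix σ id = Matrix.diagonal c := by
    ext r i
    simp only [Matrix.submatrix_apply, LinearMap.toMatrix'_apply, id]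
    show g.1 (ax i) (σ r) = _
    rw [hg, Pi.smul_apply, smul_eq_mul]
    rcases eq_or_ne r i with rfl | hri
    · rw [ax_self, mul_one, Matrix.diagonal_apply_eq]
    · rw [ax_ne (fun e => hri (σ.injective e)), mul_zero, Matrix.diagonal_apply_ne _ hri]
  have h := Matrix.det_permute σ (LinearMap.toMatrix' (g.1 : (ι → F) →ₗ[F] (ι → F)))
  rw [hm, Matrix.det_diagonal, LinearMap.det_toMatrix'] at h
  rw [dt', h, ← mul_assoc, ← Int.cast_mul, Int.units_coe_mul_self, Int.cast_one, one_mul]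

variable [Fintype F] {M : Subgroup (orth (sq F ι))}

theorem finite_orth : Finite (orth (sq F ι)) :=
  Finite.of_injective (fun (g : orth (sq F ι)) i => g.1 (ax i)) fun _ _ h => ext_ax fun i => congrFun h i

/-- Conjugates of pairs by monomial elements. -/
theorem IsPair.conj {e k : orth (sq F ι)} {a b a' b' : ι} {r r' : F} (h2 : (2 : F) ≠ 0) (he : IsPair e a b)
    (hk : Mono k) (ha : k.1 (ax a) = r • ax a') (hb : k.1 (ax b) = r' • ax b') : IsPair (k * e * k⁻¹) a' b' := by
  obtain ⟨σ, c, hc, hσ⟩ := mono_perm h2 hk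
  have same : ∀ {x y : ι} {r : F}, k.1 (ax x) = r • ax y → σ x = y := fun {x y r} h => by
    by_contra hne
    rw [hσ] at h
    have h' := congrFun h (σ x)
    rw [Pi.smul_apply, ax_self, Pi.smul_apply, ax_ne hne, smul_zero, smul_eq_mul, mul_one] at h'
    have := hc x; rw [h', mul_zero] at this; exact zero_ne_one this
  intro y
  obtain ⟨x, rfl⟩ := σ.surjective y
  have hki : k⁻¹.1 (ax (σ x)) = c x • ax x := by
    have h : k⁻¹.1 (k.1 (ax x)) = ax x := by rw [← orth_mul_apply, inv_mul_cancel]; rfl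
    rw [hσ, map_smul] at h
    conv_rhs => rw [← h]
    rw [smul_smul, hc, one_smul]
  rw [orth_mul_apply, orth_mul_apply, hki, map_smul, he, map_smul, map_smul, hσ, smul_smul, smul_smul]
  congr 1
  simp only [← same ha, ← same hb, σ.injective.eq_iff]
  linear_combination (if x = a ∨ x = b then (-1 : F) else 1) * hc x

theorem exists_conj_pair {e k : orth (sq F ι)} {a b : ι} (h2 : (2 : F) ≠ 0) (hab : a ≠ b) (he : IsPair e a b)
    (hk : Mono k) : ∃ a' b', a' ≠ b' ∧ IsPair (k * e * k⁻¹) a' b' := by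
  obtain ⟨σ, c, hc, hσ⟩ := mono_perm h2 hk
  exact ⟨σ a, σ b, σ.injective.ne hab, he.conj h2 hk (hσ a) (hσ b)⟩

/-- A monomial element fixing a pair as a set commutes with its sign change. -/
theorem IsPair.comm {e w : orth (sq F ι)} {a b : ι} {σ : Equiv.Perm ι} {c : ι → F} (he : IsPair e a b)
    (hσ : ∀ i, w.1 (ax i) = c i • ax (σ i)) (hset : ∀ i, (σ i = a ∨ σ i = b) ↔ (i = a ∨ i = b)) :
    w * e = e * w := ext_ax fun x => by
  rw [orth_mul_apply, orth_mul_apply, he, map_smul, hσ, map_smul, he, smul_smul, smul_smul]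
  simp only [hset x, mul_comm]

/-- A diagonal element whose commuting elements stabilise a coordinate plane. -/
theorem mono_of_diag (hM : Over M) (hS : Frame10.Star M) (h2 : (2 : F) ≠ 0) (hn : Fintype.card ι = 6)
    {w t : orth (sq F ι)} (ht : t ∈ M) (htw : t * w = w * t) {δ : ι → F} (hδ : ∀ i, δ i * δ i = 1)
    (hw : ∀ i, w.1 (ax i) = δ i • ax i) {p q : ι} (hpq : p ≠ q) (hq : δ q = δ p)
    (ho : ∀ l, l ≠ p → l ≠ q → δ l ≠ δ p) : Mono t :=
  cent_mono hM hS h2 hn ht hpq (fun l h1 h3 => zero_of_commute h2 hδ hw htw (ho l h1 h3))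
    (fun l h1 h3 => zero_of_commute h2 hδ hw htw (by rw [hq]; exact ho l h1 h3))

/-- A non-monomial conjugate of a pair is conjugate to it inside any group containing both. -/
theorem conj_in (hM : Over M) (hS : Frame10.Star M) (h2 : (2 : F) ≠ 0) (hn : Fintype.card ι = 6)
    {K : Subgroup (orth (sq F ι))} (hKM : K ≤ M) {e k₀ : orth (sq F ι)} {a b : ι} (hab : a ≠ b) (he : IsPair e a b)
    (heK : e ∈ K) (hk₀ : k₀ ∈ M) (htK : k₀ * e * k₀⁻¹ ∈ K) (hnm : ¬ Mono (k₀ * e * k₀⁻¹)) :
    ∃ k ∈ K, k * e * k⁻¹ = k₀ * e * k₀⁻¹ := by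
  classical
  have : Finite (orth (sq F ι)) := finite_orth
  obtain ⟨heM, hem, -, he1, -⟩ := IsPair.mem hM h2 (by omega) hab he
  set t := k₀ * e * k₀⁻¹ with htd
  have ht2 : t * t = 1 := by
    rw [htd, show k₀ * e * k₀⁻¹ * (k₀ * e * k₀⁻¹) = k₀ * (e * e) * k₀⁻¹ by simp [mul_assoc], he1, mul_one,
      mul_inv_cancel]
  have hle : Subgroup.closure {e, t} ≤ K := (Subgroup.closure_le K).2 (by
    simp [Set.insert_subset_iff, heK, htK])
  rcases dihedral he1 ht2 with ⟨k, hk, hke⟩ | ⟨w, hw, hw1, -, hew, htw, k, hk, hkw⟩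
  · exact ⟨k, hle hk, hke⟩
  exfalso
  have hwm : Mono w := cent_mono hM hS h2 hn (hKM (hle hw)) hab (he.on2 h2 hew.symm (Or.inl rfl))
    (he.on2 h2 hew.symm (Or.inr rfl))
  obtain ⟨k', hk', hkk⟩ : ∃ k' ∈ M, k' * e * k'⁻¹ = w * e := by
    rcases hkw with h | h
    · exact ⟨k, hKM (hle hk), h⟩
    · exact ⟨k * k₀, M.mul_mem (hKM (hle hk)) hk₀, by rw [← h, htd]; simp [mul_assoc]⟩
  have hkm : Mono k' := mono_of_conj_pair hM hS h2 hn hk' hab he (hkk ▸ mono_mul hwm hem)
  obtain ⟨a', b', hab', hp⟩ := exists_conj_pair h2 hab he hkm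
  rw [hkk] at hp
  have htM : t ∈ M := hKM htK
  set δ : ι → F := fun i => (if i = a' ∨ i = b' then (-1 : F) else 1) * (if i = a ∨ i = b then (-1 : F) else 1) with hδd
  have hδ : ∀ i, δ i * δ i = 1 := fun i => by
    simp only [hδd]
    rw [mul_mul_mul_comm, sign_sq, sign_sq, one_mul]
  have hwd : ∀ i, w.1 (ax i) = δ i • ax i := fun i => by
    rw [show w = w * e * e by rw [mul_assoc, he1, mul_one], orth_mul_apply, he, map_smul, hp, smul_smul, mul_comm]
  have h11 : (-1 : F) ≠ 1 := fun h => h2 (by linear_combination -h)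
  by_cases hA : a = a' ∨ a = b' <;> by_cases hB : b = a' ∨ b = b'
  · refine hw1 (ext_ax fun i => ?_)
    rw [hwd]
    have hset : (i = a' ∨ i = b') ↔ (i = a ∨ i = b) := by
      rcases hA with rfl | rfl <;> rcases hB with rfl | rfl <;> first | exact absurd rfl hab | tauto
    simp only [hδd, hset, sign_sq, one_smul]
    rfl
  · obtain ⟨o, hoa, ho, hmem⟩ : ∃ o, o ≠ a ∧ (o = a' ∨ o = b') ∧ ∀ x, x = a' ∨ x = b' → x = a ∨ x = o := by
      rcases hA with rfl | rfl
      · exact ⟨b', hab'.symm, Or.inr rfl, fun x h => h⟩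
      · exact ⟨a', hab', Or.inl rfl, fun x h => h.symm⟩
    have hob : b ≠ o := fun h => hB (h ▸ ho)
    refine hnm (mono_of_diag hM hS h2 hn htM htw hδ hwd hob ?_ fun l h1 h3 => ?_)
    · simp [hδd, ho, hB, hoa, hob.symm]
    · rw [show δ b = -1 by simp [hδd, hB]]
      simp only [hδd]
      rcases eq_or_ne l a with rfl | hla
      · rw [if_pos hA, if_pos (Or.inl rfl)]
        intro h; exact h11 (by linear_combination -h)
      · rw [if_neg (fun h => (hmem l h).elim hla h3), if_neg (not_or.2 ⟨hla, h1⟩)]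
        intro h; exact h11 (by linear_combination -h)
  · obtain ⟨o, hob, ho, hmem⟩ : ∃ o, o ≠ b ∧ (o = a' ∨ o = b') ∧ ∀ x, x = a' ∨ x = b' → x = b ∨ x = o := by
      rcases hB with rfl | rfl
      · exact ⟨b', hab'.symm, Or.inr rfl, fun x h => h⟩
      · exact ⟨a', hab', Or.inl rfl, fun x h => h.symm⟩
    have hoa : a ≠ o := fun h => hA (h ▸ ho)
    refine hnm (mono_of_diag hM hS h2 hn htM htw hδ hwd hoa ?_ fun l h1 h3 => ?_)
    · simp [hδd, ho, hA, hoa.symm, hob]
    · rw [show δ a = -1 by simp [hδd, hA]]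
      simp only [hδd]
      rcases eq_or_ne l b with rfl | hlb
      · rw [if_pos hB, if_pos (Or.inr rfl)]
        intro h; exact h11 (by linear_combination -h)
      · rw [if_neg (fun h => (hmem l h).elim hlb h3), if_neg (not_or.2 ⟨h1, hlb⟩)]
        intro h; exact h11 (by linear_combination -h)
  · obtain ⟨p, q, hpq, hs⟩ := Finset.card_eq_two.1 (show ({a, b, a', b'} : Finset ι)ᶜ.card = 2 by
      rw [not_or] at hA hB
      rw [Finset.card_compl, Finset.card_insert_of_notMem (by simp [hab, hA.1, hA.2]),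
        Finset.card_insert_of_notMem (by simp [hB.1, hB.2]), Finset.card_pair hab', hn])
    have hm : ∀ x, (x = p ∨ x = q) ↔ x ≠ a ∧ x ≠ b ∧ x ≠ a' ∧ x ≠ b' := fun x => by
      have : x ∈ ({a, b, a', b'} : Finset ι)ᶜ ↔ x ∈ ({p, q} : Finset ι) := by rw [hs]
      simp at this
      exact this.symm
    have hδ1 : ∀ x, x = p ∨ x = q → δ x = 1 := fun x hx => by
      obtain ⟨h1, h3, h5, h7⟩ := (hm x).1 hx
      simp [hδd, h1, h3, h5, h7]
    refine hnm (mono_of_diag hM hS h2 hn htM htw hδ hwd hpq (by rw [hδ1 q (Or.inr rfl), hδ1 p (Or.inl rfl)])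
      fun l h1 h3 => ?_)
    rw [hδ1 p (Or.inl rfl)]
    simp only [hδd]
    have hl := mt (hm l).2 (not_or.2 ⟨h1, h3⟩)
    by_cases h5 : l = a ∨ l = b
    · have h6 : ¬ (l = a' ∨ l = b') := fun h => h5.elim (fun e => hA (e ▸ h)) (fun e => hB (e ▸ h))
      rw [if_pos h5, if_neg h6, one_mul]
      exact h11
    · have h6 : l = a' ∨ l = b' := by tauto
      rw [if_neg h5, if_pos h6, mul_one]
      exact h11

/-- The centraliser of an element separating two pairs is monomial. -/
theorem cent_invol_mono (hM : Over M) (hS : Frame10.Star M) (h2 : (2 : F) ≠ 0) (hn : Fintype.card ι = 6)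
    {x : orth (sq F ι)} {a b a' b' : ι} (hab : a ≠ b) (hab' : a' ≠ b') {e f : orth (sq F ι)}
    (he : IsPair e a b) (hf : IsPair f a' b') (hxe : x * e = e * x) (hxf : x * f = f * x)
    (htr : tr (x * e) ≠ tr (x * f)) {y : orth (sq F ι)} (hy : y ∈ M) (hyx : y * x = x * y) : Mono y := by
  by_contra hym
  obtain ⟨heM, -, -, -, -⟩ := IsPair.mem hM h2 (by omega) hab he
  obtain ⟨hfM, -, -, -, -⟩ := IsPair.mem hM h2 (by omega) hab' hf
  set K := M ⊓ Subgroup.centralizer {x} with hK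
  have hmem : ∀ {k}, k ∈ M → k * x = x * k → k ∈ K := fun {k} hk h =>
    ⟨hk, Subgroup.mem_centralizer_singleton_iff.2 h⟩
  have hcomm : ∀ {k}, k ∈ K → x * k = k * x := fun {k} hk =>
    (Subgroup.mem_centralizer_singleton_iff.1 (show _ ∈ Subgroup.centralizer {x} from hk.2)).symm
  set t := y * e * y⁻¹ with ht
  have htm : ¬ Mono t := fun h => hym (mono_of_conj_pair hM hS h2 hn hy hab he h)
  have htK : t ∈ K := hmem (M.mul_mem (M.mul_mem hy heM) (M.inv_mem hy)) (by
    have hyi : y⁻¹ * x = x * y⁻¹ := (Commute.inv_left (show Commute y x from hyx)).eq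
    rw [ht, mul_assoc _ y⁻¹, hyi, ← mul_assoc, mul_assoc y e x, ← hxe, ← mul_assoc, hyx, mul_assoc x y e,
      mul_assoc x (y * e)])
  obtain ⟨m, hm, hmm, hma, hmb⟩ := exists_move hM h2 hn hab hab'
  have hfm : m * e * m⁻¹ = f := ext_ax fun i => by
    rw [(he.conj h2 hmm (r := 1) (r' := 1) (by rw [hma, one_smul]) (by rw [hmb, one_smul])) i, hf i]
  have ht' : t = y * m⁻¹ * f * (y * m⁻¹)⁻¹ := by rw [ht, ← hfm]; simp [mul_assoc]
  have inv : ∀ {k z : orth (sq F ι)}, k ∈ K → k * z * k⁻¹ = t → tr (x * t) = tr (x * z) := fun {k z} hk hkz => by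
    rw [← hkz, show x * (k * z * k⁻¹) = k * (x * z) * k⁻¹ by
      rw [← mul_assoc, ← mul_assoc, hcomm hk, mul_assoc k x z], tr_conj]
  obtain ⟨k, hk, hke⟩ := conj_in hM hS h2 hn (inf_le_left : K ≤ M) hab he (hmem heM hxe.symm) hy htK htm
  obtain ⟨k', hk', hkf⟩ := conj_in hM hS h2 hn (inf_le_left : K ≤ M) hab' hf (hmem hfM hxf.symm)
    (M.mul_mem hy (M.inv_mem hm)) (ht' ▸ htK) (ht' ▸ htm)
  exact htr ((inv hk hke).symm.trans (inv hk' (hkf.trans ht'.symm)))

/-- Six coordinates: some non-monomial element fixes a coordinate line. -/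
theorem not_star_six (hM : Over M) (h2 : (2 : F) ≠ 0) (hn : Fintype.card ι = 6) {g : orth (sq F ι)} (hg : g ∈ M)
    (hgm : ¬ Mono g) : ¬ Frame10.Star M := by
  classical
  have : Finite (orth (sq F ι)) := finite_orth
  intro hS
  have hn5 : 5 ≤ Fintype.card ι := by omega
  have h4 : (4 : F) ≠ 0 := by rw [show (4 : F) = 2 * 2 by norm_num]; exact mul_ne_zero h2 h2
  obtain ⟨a, b, hab⟩ := Fintype.exists_pair_of_one_lt_card (α := ι) (by omega)
  obtain ⟨c, d, e, f, S⟩ := six_of_two hn hab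
  obtain ⟨z, hz, hzm, -, hzax⟩ := exists_swaps hM h2 hn5 S.ab S.cd
  have za : z.1 (ax a) = ax b := by rw [hzax]; simp [Equiv.swap_apply_of_ne_of_ne S.ac S.ad]
  have zb : z.1 (ax b) = ax a := by rw [hzax]; simp [Equiv.swap_apply_of_ne_of_ne S.bc S.bd]
  have zc : z.1 (ax c) = ax d := by rw [hzax]; simp [Equiv.swap_apply_of_ne_of_ne S.ad.symm S.bd.symm]
  have zd : z.1 (ax d) = ax c := by rw [hzax]; simp [Equiv.swap_apply_of_ne_of_ne S.ac.symm S.bc.symm]
  have ze : z.1 (ax e) = ax e := by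
    rw [hzax]; simp [Equiv.swap_apply_of_ne_of_ne S.ce.symm S.de.symm, Equiv.swap_apply_of_ne_of_ne S.ae.symm S.be.symm]
  have zf : z.1 (ax f) = ax f := by
    rw [hzax]; simp [Equiv.swap_apply_of_ne_of_ne S.cf.symm S.df.symm, Equiv.swap_apply_of_ne_of_ne S.af.symm S.bf.symm]
  have hz2 : z * z = 1 := ext_ax fun x => by
    show _ = (ax x : ι → F)
    rcases S.cov x with rfl | rfl | rfl | rfl | rfl | rfl <;> simp [orth_mul_apply, za, zb, zc, zd, ze, zf]
  obtain ⟨e₀, he₀M, he₀⟩ := exists_isPair hM h2 hn5 S.ab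
  obtain ⟨f₀, -, hf₀⟩ := exists_isPair hM h2 hn5 S.ef
  have hze : z * e₀ = e₀ * z := ext_ax fun x => by
    rcases S.cov x with rfl | rfl | rfl | rfl | rfl | rfl <;>
      simp [orth_mul_apply, za, zb, zc, zd, ze, zf, he₀ _, S.ac.symm, S.ad.symm, S.ae.symm, S.af.symm, S.bc.symm,
        S.bd.symm, S.be.symm, S.bf.symm]
  have hzf : z * f₀ = f₀ * z := ext_ax fun x => by
    rcases S.cov x with rfl | rfl | rfl | rfl | rfl | rfl <;>
      simp [orth_mul_apply, za, zb, zc, zd, ze, zf, hf₀ _, S.ae, S.af, S.be, S.bf, S.ce, S.cf, S.de, S.df]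
  have ztr : tr z = 2 := by
    have := S.dot (fun i => z.1 (ax i) i) (fun _ => (1 : F))
    simp only [dotProduct, mul_one] at this
    rw [tr, this, za, zb, zc, zd, ze, zf, ax_ne S.ab, ax_ne S.ab.symm, ax_ne S.cd, ax_ne S.cd.symm, ax_self, ax_self]
    ring
  have hzsep : tr (z * e₀) ≠ tr (z * f₀) := by
    rw [tr_pair S.ab he₀, tr_pair S.ef hf₀, za, zb, ze, zf, ax_ne S.ab, ax_ne S.ab.symm, ax_self, ax_self]
    intro h
    exact h4 (by linear_combination h)
  have hzcent : ∀ y ∈ M, y * z = z * y → Mono y := fun y hy h =>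
    cent_invol_mono hM hS h2 hn S.ab S.ef he₀ hf₀ hze hzf hzsep hy h
  obtain ⟨-, he₀m, -, he1, -⟩ := IsPair.mem hM h2 hn5 S.ab he₀
  set t := g * e₀ * g⁻¹ with ht
  have htM : t ∈ M := M.mul_mem (M.mul_mem hg he₀M) (M.inv_mem hg)
  have htm : ¬ Mono t := fun h => hgm (mono_of_conj_pair hM hS h2 hn hg S.ab he₀ h)
  have ht2 : t * t = 1 := by
    rw [ht, show g * e₀ * g⁻¹ * (g * e₀ * g⁻¹) = g * (e₀ * e₀) * g⁻¹ by simp [mul_assoc], he1, mul_one,
      mul_inv_cancel]
  have hle : Subgroup.closure {z, t} ≤ M := (Subgroup.closure_le M).2 (by simp [Set.insert_subset_iff, hz, htM])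
  rcases dihedral hz2 ht2 with ⟨k, hk, hkz⟩ | ⟨w, hw, hw1, hw2, hzw, htw, k, hk, hkw⟩
  · have hkg : Mono (k⁻¹ * g) := mono_of_conj_pair hM hS h2 hn (M.mul_mem (M.inv_mem (hle hk)) hg) S.ab he₀ (by
      rw [show k⁻¹ * g * e₀ * (k⁻¹ * g)⁻¹ = k⁻¹ * t * k by simp [ht, mul_assoc], ← hkz]
      simpa [mul_assoc] using hzm)
    obtain ⟨p, q, -, hp⟩ := exists_conj_pair h2 S.ab he₀ hkg
    have hzp : k⁻¹ * g * e₀ * (k⁻¹ * g)⁻¹ = z := by
      rw [show k⁻¹ * g * e₀ * (k⁻¹ * g)⁻¹ = k⁻¹ * t * k by simp [ht, mul_assoc], ← hkz]; simp [mul_assoc]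
    rw [hzp] at hp
    have := congrFun (za.symm.trans (hp a)) b
    rw [ax_self, Pi.smul_apply, ax_ne S.ab.symm, smul_zero] at this
    exact one_ne_zero this
  have hwM := hle hw
  obtain ⟨σ, s, hs, hσ⟩ := mono_perm h2 (hzcent w hwM hzw.symm)
  have hinv := perm_invol hw2 hs hσ
  have hsσ : ∀ i, s (σ i) = s i := fun i => by
    have h := mul_self_apply hw2 (ax i)
    rw [hσ, map_smul, hσ, hinv, smul_smul] at h
    have := congrFun h i
    rw [Pi.smul_apply, ax_self, smul_eq_mul, mul_one] at this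
    linear_combination s i * this - s (σ i) * hs i
  have hdw : dt' w = 1 := by
    have he₀d : dt' e₀ = 1 := by
      rw [dt'_mono (σ := 1) (c := fun i => if i = a ∨ i = b then (-1 : F) else 1) (fun i => by rw [he₀]; rfl)]
      rw [Finset.prod_eq_mul a b hab (fun i _ hi => if_neg (not_or.2 hi)) (by simp) (by simp)]
      simp
    have hdz : dt' z = 1 := by
      rw [dt'_mono (σ := Equiv.swap a b * Equiv.swap c d) (c := fun _ => (1 : F)) (fun i => by rw [hzax, one_smul])]
      simp [Equiv.Perm.sign_swap S.ab, Equiv.Perm.sign_swap S.cd]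
    have hdt : dt' t = 1 := by
      have h1 := dt'_mul g g⁻¹
      rw [mul_inv_cancel, dt'_one] at h1
      rw [ht, dt'_mul, dt'_mul, he₀d, mul_one, ← h1]
    refine Subgroup.closure_induction (p := fun y _ => dt' y = 1) ?_ dt'_one ?_ ?_ hw
    · rintro y (rfl | rfl)
      exacts [hdz, hdt]
    · intro u v _ _ hu hv; rw [dt'_mul, hu, hv, mul_one]
    · intro u _ hu
      have h1 := dt'_mul u u⁻¹
      rwa [mul_inv_cancel, dt'_one, hu, one_mul, eq_comm] at h1
  have hwneg : ¬ ∀ i, σ i = i ∧ s i = -1 := fun h => by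
    have htrw : tr (w * z) = 2 := by
      have et : tr t = 2 := by
        have := tr_pair S.ab he₀ (1 : orth (sq F ι))
        rw [one_mul] at this
        rw [ht, tr_conj, this]
        have h1 : ∀ i, (1 : orth (sq F ι)).1 (ax i) i = 1 := fun i => ax_self i
        rw [tr, Finset.sum_congr rfl fun i _ => h1 i, h1, h1, Finset.sum_const, Finset.card_univ, hn]
        norm_num
      rcases hkw with h | h <;> rw [← h, tr_conj]
      exacts [ztr, et]
    have hneg : ∀ v, w.1 v = -v := fun v => funext fun i => by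
      rw [coord h2 (c := -1) (by ring) (by rw [hσ, (h i).1, (h i).2]) v, neg_one_mul]; rfl
    have : tr (w * z) = -tr z := by
      simp only [tr, orth_mul_apply, hneg, Pi.neg_apply, Finset.sum_neg_distrib]
    rw [htrw, ztr] at this
    exact h4 (by linear_combination this)
  -- two pairs invariant under the central involution with different traces
  obtain ⟨p, q, r, r', hpq, hrr, hp, hq, hsame, hset, hzero⟩ : ∃ p q r r', p ≠ q ∧ r ≠ r' ∧ σ p = p ∧ σ q = q ∧
      s p = s q ∧ (∀ i, (σ i = r ∨ σ i = r') ↔ (i = r ∨ i = r')) ∧ w.1 (ax r) r + w.1 (ax r') r' = 0 := by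
    have pick : ∀ u v x : ι, (s u = s v ∨ s u = s x ∨ s v = s x) := fun u v x => by
      rcases fix_sign hs u with h1 | h1 <;> rcases fix_sign hs v with h3 | h3 <;> rcases fix_sign hs x with h5 | h5 <;>
        simp [h1, h3, h5]
    by_cases hmov : ∃ i, σ i ≠ i
    · obtain ⟨i, hi⟩ := hmov
      have hset : ∀ l, (σ l = i ∨ σ l = σ i) ↔ (l = i ∨ l = σ i) := fun l =>
        ⟨fun h => h.elim (fun e => Or.inr (by rw [← e, hinv])) (fun e => Or.inl (σ.injective e)),
          fun h => h.elim (fun e => Or.inr (by rw [e])) (fun e => Or.inl (by rw [e, hinv]))⟩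
      have hzero : w.1 (ax i) i + w.1 (ax (σ i)) (σ i) = 0 := by
        rw [hσ, hσ, hinv, Pi.smul_apply, Pi.smul_apply, ax_ne (Ne.symm hi), ax_ne hi, smul_zero, smul_zero, add_zero]
      suffices ∃ p q, p ≠ q ∧ σ p = p ∧ σ q = q ∧ s p = s q by
        obtain ⟨p, q, h1, h3, h5, h7⟩ := this
        exact ⟨p, q, i, σ i, h1, Ne.symm hi, h3, h5, h7, hset, hzero⟩
      obtain ⟨k, l, m, n, T⟩ := six_of_two hn (Ne.symm hi)
      by_cases hall : σ k = k ∧ σ l = l ∧ σ m = m
      · rcases pick k l m with h | h | h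
        exacts [⟨k, l, T.cd, hall.1, hall.2.1, h⟩, ⟨k, m, T.ce, hall.1, hall.2.2, h⟩, ⟨l, m, T.de, hall.2.1, hall.2.2, h⟩]
      obtain ⟨u, hui, huj, hu⟩ : ∃ u, u ≠ i ∧ u ≠ σ i ∧ σ u ≠ u := by
        by_contra hno
        push Not at hno
        exact hall ⟨hno k T.ac.symm T.bc.symm, hno l T.ad.symm T.bd.symm, hno m T.ae.symm T.be.symm⟩
      have hsu1 : σ u ≠ i := fun e => huj (by rw [← e, hinv])
      have hsu2 : σ u ≠ σ i := σ.injective.ne hui
      obtain ⟨m', n', hmn, hs4⟩ := Finset.card_eq_two.1 (show ({i, σ i, u, σ u} : Finset ι)ᶜ.card = 2 by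
        rw [Finset.card_compl, Finset.card_insert_of_notMem (by simp [Ne.symm hi, hui.symm, hsu1.symm]),
          Finset.card_insert_of_notMem (by simp [huj.symm, hsu2.symm]), Finset.card_pair (Ne.symm hu), hn])
      have hl4 : ∀ x, (x = m' ∨ x = n') ↔ x ≠ i ∧ x ≠ σ i ∧ x ≠ u ∧ x ≠ σ u := fun x => by
        have : x ∈ ({i, σ i, u, σ u} : Finset ι)ᶜ ↔ x ∈ ({m', n'} : Finset ι) := by rw [hs4]
        simp at this
        exact this.symm
      obtain ⟨m1, m2, m3, m4⟩ := (hl4 m').1 (Or.inl rfl)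
      obtain ⟨n1, n2, n3, n4⟩ := (hl4 n').1 (Or.inr rfl)
      have T' := six_mk hn (a := i) (b := σ i) (c := u) (d := σ u) (e := m') (f := n') (by
        simp [Ne.symm hi, hui.symm, hsu1.symm, huj.symm, hsu2.symm, Ne.symm hu, m1.symm, m2.symm, m3.symm, m4.symm,
          n1.symm, n2.symm, n3.symm, n4.symm, hmn])
      have hm' : σ m' = m' ∨ σ m' = n' := by
        rcases T'.cov (σ m') with h | h | h | h | h | h
        · exact absurd (show m' = σ i by rw [← h, hinv]) m2
        · exact absurd (σ.injective h) m1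
        · exact absurd (show m' = σ u by rw [← h, hinv]) m4
        · exact absurd (σ.injective h) m3
        exacts [Or.inl h, Or.inr h]
      have hprod : (∏ x, s x) = (s i * s (σ i)) * (s u * s (σ u)) * (s m' * s n') := by
        rw [show (Finset.univ : Finset ι) = {i, σ i, u, σ u, m', n'} from
          (Finset.eq_univ_iff_forall.2 fun x => by simpa using T'.cov x).symm]
        simp [T'.ab, T'.ac, T'.ad, T'.ae, T'.af, T'.bc, T'.bd, T'.be, T'.bf, T'.cd, T'.ce, T'.cf, T'.de, T'.df, T'.ef]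
        ring
      rw [hsσ i, hs, hsσ u, hs, one_mul, one_mul] at hprod
      have hd := dt'_mono hσ
      rw [hdw, hprod] at hd
      rcases hm' with hmf | hmn'
      · have hnf : σ n' = n' := by
          rcases T'.cov (σ n') with h | h | h | h | h | h
          · exact absurd (show n' = σ i by rw [← h, hinv]) n2
          · exact absurd (σ.injective h) n1
          · exact absurd (show n' = σ u by rw [← h, hinv]) n4
          · exact absurd (σ.injective h) n3
          · exact absurd (σ.injective (h.trans hmf.symm)) hmn.symm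
          · exact h
        have hperm : σ = Equiv.swap i (σ i) * Equiv.swap u (σ u) := Equiv.ext fun x => by
          rcases T'.cov x with rfl | rfl | rfl | rfl | rfl | rfl <;>
            simp [hinv, hmf, hnf, T'.ac, T'.ad, T'.bc, T'.bd, T'.ac.symm, T'.ad.symm, T'.bc.symm, T'.bd.symm,
              T'.ae.symm, T'.be.symm, T'.ce.symm, T'.de.symm, T'.af.symm, T'.bf.symm, T'.cf.symm, T'.df.symm,
              Equiv.swap_apply_of_ne_of_ne]
        rw [hperm] at hd
        simp [Equiv.Perm.sign_swap (Ne.symm hi), Equiv.Perm.sign_swap (Ne.symm hu)] at hd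
        refine ⟨m', n', hmn, hmf, hnf, ?_⟩
        linear_combination s n' * hd.symm - s m' * hs n'
      · exfalso
        have hnm : σ n' = m' := by rw [← hmn', hinv]
        have hperm : σ = Equiv.swap i (σ i) * Equiv.swap u (σ u) * Equiv.swap m' n' := Equiv.ext fun x => by
          rcases T'.cov x with rfl | rfl | rfl | rfl | rfl | rfl <;>
            simp [hinv, hmn', hnm, T'.ac, T'.ad, T'.bc, T'.bd, T'.ac.symm, T'.ad.symm, T'.bc.symm, T'.bd.symm,
              T'.ae, T'.be, T'.ce, T'.de, T'.af, T'.bf, T'.cf, T'.df,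
              T'.ae.symm, T'.be.symm, T'.ce.symm, T'.de.symm, T'.af.symm, T'.bf.symm, T'.cf.symm, T'.df.symm,
              Equiv.swap_apply_of_ne_of_ne]
        have hsmn : s n' = s m' := by rw [← hmn', hsσ]
        rw [hperm, hsmn, hs] at hd
        simp [Equiv.Perm.sign_swap (Ne.symm hi), Equiv.Perm.sign_swap (Ne.symm hu), Equiv.Perm.sign_swap hmn] at hd
        exact h2 (by linear_combination hd)
    · push Not at hmov
      obtain ⟨u, v, x, huv, hux, hvx⟩ : ∃ u v x : ι, u ≠ v ∧ u ≠ x ∧ v ≠ x := ⟨a, b, c, S.ab, S.ac, S.bc⟩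
      obtain ⟨p, q, hpq, hsame⟩ : ∃ p q, p ≠ q ∧ s p = s q := by
        rcases pick u v x with h | h | h
        exacts [⟨u, v, huv, h⟩, ⟨u, x, hux, h⟩, ⟨v, x, hvx, h⟩]
      obtain ⟨r, hr⟩ : ∃ r, s r ≠ s p := by
        by_contra hall
        push Not at hall
        rcases fix_sign hs p with h | h
        · exact hw1 (ext_ax fun i => by rw [hσ, hmov, hall, h, one_smul]; rfl)
        · exact hwneg fun i => ⟨hmov i, (hall i).trans h⟩
      refine ⟨p, q, p, r, hpq, fun e => hr (e ▸ rfl), hmov p, hmov q, hsame, fun i => by rw [hmov], ?_⟩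
      rw [hσ, hσ, hmov, hmov, Pi.smul_apply, Pi.smul_apply, ax_self, ax_self, smul_eq_mul, smul_eq_mul, mul_one,
        mul_one]
      rcases fix_sign hs p with h | h <;> rcases fix_sign hs r with h' | h' <;> rw [h, h'] at hr ⊢ <;>
        first | exact absurd rfl hr | ring
  obtain ⟨P, -, hP⟩ := exists_isPair hM h2 hn5 hpq
  obtain ⟨Q, -, hQ⟩ := exists_isPair hM h2 hn5 hrr
  have hwP : w * P = P * w := hP.comm hσ fun i => by
    constructor <;> rintro (h | h)
    · exact Or.inl (σ.injective (h.trans hp.symm))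
    · exact Or.inr (σ.injective (h.trans hq.symm))
    · exact Or.inl (by rw [h, hp])
    · exact Or.inr (by rw [h, hq])
  have hsep : tr (w * P) ≠ tr (w * Q) := by
    rw [tr_pair hpq hP, tr_pair hrr hQ, hzero, hσ p, hσ q, hp, hq, Pi.smul_apply, Pi.smul_apply, ax_self, ax_self,
      smul_eq_mul, smul_eq_mul, mul_one, mul_one, ← hsame]
    intro h
    have hs0 : s p = 0 := (mul_eq_zero.1 (show 4 * s p = 0 by linear_combination -h)).resolve_left h4
    have := hs p
    rw [hs0, mul_zero] at this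
    exact zero_ne_one this
  exact htm (cent_invol_mono hM hS h2 hn hpq hrr hP hQ hwP (hQ.comm hσ hset) hsep htM htw)

end Cfsg.Agent.Frame10Six75
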