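import Cfsg.Agent.Lib.Frame10Six75Types

/-!
Six coordinates: if a conjugate of a pair of sign changes is monomial, so is the conjugating element.
-/

set_option autoImplicit false
set_option linter.unusedSectionVars false
set_option linter.unusedSimpArgs false
set_option maxHeartbeats 800000

namespace Cfsg.Agent.Frame10Six75

open QuadraticMap Module
open Cfsg.Agent.OrthUnitaryQuad Cfsg.Agent.OrthUnitaryRefl Cfsg.Agent.OmegaDecomp Cfsg.Agent.Frame10
open scoped Matrix

variable {F : Type*} [Field F] {ι : Type*} [Fintype ι] [DecidableEq ι] [Fintype F] {M : Subgroup (orth (sq F ι))}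

/-- Two fixed vectors of a pair in one coordinate plane give a monomial element. -/
theorem two_in_plane (hM : Over M) (hS : Frame10.Star M) (h2 : (2 : F) ≠ 0) (hn : Fintype.card ι = 6)
    {g : orth (sq F ι)} (hg : g ∈ M) (hgm : ¬ Mono g) {x y p q : ι} (hxy : x ≠ y) (hpq : p ≠ q)
    (hx : On2 (g.1 (ax x)) p q) : ¬ On2 (g.1 (ax y)) p q := fun hy =>
  hgm (plane_mono hM hS h2 hn hg hxy hpq hx hy)

/-- Vectors with four matched coordinates cannot be three orthonormal ones. -/
theorem no_three (h2 : (2 : F) ≠ 0) {ε δ : F} (hε : ε * ε = 1) (hδ : δ * δ = 1) {i j k l m n : ι}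
    (S : Six i j k l m n) {x y z : ι → F} (hxj : x j = ε * x i) (hxl : x l = δ * x k) (hx0 : x m = 0 ∧ x n = 0)
    (hyj : y j = ε * y i) (hyl : y l = δ * y k) (hy0 : y m = 0 ∧ y n = 0) (hzj : z j = ε * z i)
    (hzl : z l = δ * z k) (hz0 : z m = 0 ∧ z n = 0) (hxx : x ⬝ᵥ x = 1) (hyy : y ⬝ᵥ y = 1) (hzz : z ⬝ᵥ z = 1)
    (hxy : x ⬝ᵥ y = 0) (hxz : x ⬝ᵥ z = 0) (hyz : y ⬝ᵥ z = 0) : False := by
  rw [S.dot] at hxx hyy hzz hxy hxz hyz
  simp only [hxj, hxl, hx0.1, hx0.2, hyj, hyl, hy0.1, hy0.2, hzj, hzl, hz0.1, hz0.2] at hxx hyy hzz hxy hxz hyz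
  have exx : 2 * (x i * x i + x k * x k) = 1 := by linear_combination hxx - x i * x i * hε - x k * x k * hδ
  have eyy : 2 * (y i * y i + y k * y k) = 1 := by linear_combination hyy - y i * y i * hε - y k * y k * hδ
  have ezz : 2 * (z i * z i + z k * z k) = 1 := by linear_combination hzz - z i * z i * hε - z k * z k * hδ
  have exy : x i * y i + x k * y k = 0 := (mul_eq_zero.1 (show 2 * (x i * y i + x k * y k) = 0 by
    linear_combination hxy - x i * y i * hε - x k * y k * hδ)).resolve_left h2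
  have exz : x i * z i + x k * z k = 0 := (mul_eq_zero.1 (show 2 * (x i * z i + x k * z k) = 0 by
    linear_combination hxz - x i * z i * hε - x k * z k * hδ)).resolve_left h2
  have eyz : y i * z i + y k * z k = 0 := (mul_eq_zero.1 (show 2 * (y i * z i + y k * z k) = 0 by
    linear_combination hyz - y i * z i * hε - y k * z k * hδ)).resolve_left h2
  set D := x i * y k - x k * y i
  have hD : 2 * 2 * (D * D) = 1 := by
    linear_combination (2 * (y i * y i + y k * y k)) * exx + eyy - 4 * (x i * y i + x k * y k) * exy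
  have hD0 : D ≠ 0 := fun e => by rw [e, mul_zero, mul_zero] at hD; exact zero_ne_one hD
  have zi : z i = 0 := (mul_eq_zero.1 (show D * z i = 0 by linear_combination y k * exz - x k * eyz)).resolve_left hD0
  have zk : z k = 0 := (mul_eq_zero.1 (show D * z k = 0 by linear_combination x i * eyz - y i * exz)).resolve_left hD0
  rw [zi, zk] at ezz
  simp at ezz

/-- A monomial conjugate of a pair forces a monomial conjugating element. -/
theorem mono_of_conj_pair (hM : Over M) (hS : Frame10.Star M) (h2 : (2 : F) ≠ 0) (hn : Fintype.card ι = 6)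
    {g : orth (sq F ι)} (hg : g ∈ M) {e : orth (sq F ι)} {a b : ι} (hab : a ≠ b) (he : IsPair e a b)
    (hs : Mono (g * e * g⁻¹)) : Mono g := by
  classical
  have hn5 : 5 ≤ Fintype.card ι := by omega
  by_contra hgm
  obtain ⟨heM, -, -, he1, hed⟩ := IsPair.mem hM h2 hn5 hab he
  set s := g * e * g⁻¹ with hsdef
  have hs2 : s * s = 1 := by
    rw [hsdef, show g * e * g⁻¹ * (g * e * g⁻¹) = g * (e * e) * g⁻¹ by simp [mul_assoc], he1, mul_one,
      mul_inv_cancel]
  have hsd : finrank F (eig s (-1)) = 2 := by rw [hsdef, finrank_eig_conj, hed]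
  obtain ⟨σ, c, hc, hσ⟩ := mono_perm h2 hs
  have hinv := perm_invol hs2 hc hσ
  set u : ι → ι → F := fun x => g.1 (ax x) with hu
  have hsu : ∀ x, s.1 (u x) = (if x = a ∨ x = b then (-1 : F) else 1) • u x := fun x => by
    show s.1 (g.1 (ax x)) = _
    rw [← orth_mul_apply, show s * g = g * e by simp [hsdef], orth_mul_apply, he, map_smul]
  have hline : ∀ x z, ¬ On2 (u x) z z := fun x z h => hgm (hS g hg x ⟨z, u x z, funext fun l => by
    rcases eq_or_ne l z with rfl | hl
    · simp [hu, ax]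
    · rw [Pi.smul_apply, ax_ne hl, smul_zero]; exact h l hl hl⟩)
  have hrule : ∀ x, ∀ p ∈ M, Mono p → p * s = s * p → p.1 (u x) = u x ∨ p.1 (u x) = -u x ∨ u x ⬝ᵥ p.1 (u x) = 0 := by
    intro x p hp hpm hps
    set k := g⁻¹ * p * g with hk
    have hke : k * e = e * k := by
      have h1 : g * (k * e) * g⁻¹ = p * s := by simp [hk, hsdef, mul_assoc]
      have h3 : g * (e * k) * g⁻¹ = s * p := by simp [hk, hsdef, mul_assoc]
      exact mul_left_cancel (mul_right_cancel (h1.trans (hps.trans h3.symm)))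
    have hkm : Mono k := cent_mono hM hS h2 hn (M.mul_mem (M.mul_mem (M.inv_mem hg) hp) hg) hab
      (he.on2 h2 hke (Or.inl rfl)) (he.on2 h2 hke (Or.inr rfl))
    obtain ⟨z, r, hr⟩ := hkm x
    have hpu : p.1 (u x) = r • u z := by
      show p.1 (g.1 (ax x)) = _
      rw [← orth_mul_apply, show p * g = g * k by simp [hk, mul_assoc], orth_mul_apply, hr, map_smul]
    rcases eq_or_ne z x with rfl | hzx
    · have hrr : r * r = 1 := by
        have := col_dot k h2 z z
        rw [hr, if_pos rfl, smul_dotProduct, dotProduct_smul, dot_ax, ax_self] at this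
        simpa using this
      rcases mul_self_eq_one_iff.1 hrr with rfl | rfl
      · exact Or.inl (by rw [hpu, one_smul])
      · exact Or.inr (Or.inl (by rw [hpu, neg_one_smul]))
    · exact Or.inr (Or.inr (by
        rw [hpu, dotProduct_smul, show u x ⬝ᵥ u z = 0 from (col_dot g h2 x z).trans (if_neg hzx.symm), smul_zero]))
  -- the moved and negated representatives
  obtain ⟨R, hR1, hR2⟩ := exists_reps hinv
  set R' := R.filter fun i => s.1 (ax i) ≠ ax i with hR'
  have hle : R'.card ≤ 2 := card_reps hs2 hc hσ hsd.le hR1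
  have hfix : ∀ i, s.1 (ax i) = ax i → σ i = i ∧ c i = 1 := fun i hi => by
    rw [hσ] at hi
    have hσi : σ i = i := by
      by_contra hne
      have := congrFun hi i
      rw [Pi.smul_apply, ax_ne (Ne.symm hne), ax_self, smul_zero] at this
      exact zero_ne_one this
    refine ⟨hσi, ?_⟩
    have := congrFun hi i
    rwa [hσi, Pi.smul_apply, ax_self, smul_eq_mul, mul_one] at this
  have hout : ∀ i, i ∉ R' → σ i ∉ R' → σ i = i ∧ c i = 1 := by
    intro i h1 h1'
    rcases hR2 i with h | h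
    · exact hfix i (by_contra fun hne => h1 (Finset.mem_filter.2 ⟨h, hne⟩))
    · obtain ⟨hf, -⟩ := hfix (σ i) (by_contra fun hne => h1' (Finset.mem_filter.2 ⟨h, hne⟩))
      have hii : σ i = i := σ.injective hf
      exact hfix i (by_contra fun hne => h1 (Finset.mem_filter.2 ⟨hii ▸ h, hne⟩))
  have hneg : ∀ x, x = a ∨ x = b → ∀ i, u x (σ i) = -(c i * u x i) := fun x hx i => by
    have h := mono_ax h2 hc hσ (u x) i
    rw [hsu, if_pos hx, Pi.smul_apply, smul_eq_mul] at h
    linear_combination -h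
  have hpos : ∀ x, x ≠ a → x ≠ b → ∀ i, u x (σ i) = c i * u x i := fun x h1 h1' i => by
    have h := mono_ax h2 hc hσ (u x) i
    rwa [hsu, if_neg (not_or.2 ⟨h1, h1'⟩), one_smul] at h
  have hud : ∀ x, u x ⬝ᵥ u x = 1 := fun x => (col_dot g h2 x x).trans (if_pos rfl)
  have huo : ∀ {x y}, x ≠ y → u x ⬝ᵥ u y = 0 := fun {x y} h => (col_dot g h2 x y).trans (if_neg h)
  -- vectors of the plane vanish outside
  have hvan : ∀ x, x = a ∨ x = b → ∀ i, σ i = i → c i = 1 → u x i = 0 := fun x hx i h1 h1' => by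
    have h := hneg x hx i
    rw [h1, h1', one_mul] at h
    exact (mul_eq_zero.1 (show 2 * u x i = 0 by linear_combination h)).resolve_left h2
  have htwo : R'.card = 2 := by
    refine le_antisymm hle ?_
    by_contra hlt
    haveI : Nonempty ι := ⟨a⟩
    obtain ⟨r, hr⟩ := Finset.card_le_one_iff_subset_singleton.1 (show R'.card ≤ 1 by omega)
    set w := u b r • u a - u a r • u b with hw
    have hwn : ∀ i, w (σ i) = -(c i * w i) := fun i => by
      simp only [hw, Pi.sub_apply, Pi.smul_apply, smul_eq_mul, hneg a (Or.inl rfl) i, hneg b (Or.inr rfl) i]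
      ring
    have hwr : w r = 0 := by simp [hw]; ring
    have hw0 : w = 0 := funext fun i => by
      by_cases h1 : i = r
      · rw [h1, hwr]; rfl
      by_cases h3 : σ i = r
      · have := hwn i
        rw [h3, hwr] at this
        have hci : c i ≠ 0 := fun e => by have := hc i; rw [e, mul_zero] at this; exact zero_ne_one this
        exact (mul_eq_zero.1 (neg_eq_zero.1 this.symm)).resolve_left hci
      · obtain ⟨e1, e3⟩ := hout i (fun h => h1 (Finset.mem_singleton.1 (hr h))) (fun h => h3 (Finset.mem_singleton.1 (hr h)))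
        simp [hw, hvan a (Or.inl rfl) i e1 e3, hvan b (Or.inr rfl) i e1 e3]
    have e1 := congrArg (u a ⬝ᵥ ·) hw0
    have e3 := congrArg (u b ⬝ᵥ ·) hw0
    simp [hw, dotProduct_sub, dotProduct_smul, hud, huo hab, huo hab.symm] at e1 e3
    refine hline a r fun i hir _ => ?_
    by_cases h3 : σ i = r
    · have := hneg a (Or.inl rfl) i
      rw [h3, e3] at this
      have hci : c i ≠ 0 := fun e => by have := hc i; rw [e, mul_zero] at this; exact zero_ne_one this
      exact (mul_eq_zero.1 (neg_eq_zero.1 this.symm)).resolve_left hci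
    · obtain ⟨f1, f3⟩ := hout i (fun h => hir (Finset.mem_singleton.1 (hr h))) (fun h => h3 (Finset.mem_singleton.1 (hr h)))
      exact hvan a (Or.inl rfl) i f1 f3
  obtain ⟨r, t, hrt, hRrt⟩ := Finset.card_eq_two.1 htwo
  have hmem : ∀ i, i ∈ R' ↔ i = r ∨ i = t := fun i => by rw [hRrt]; simp
  have hoth : ∀ i, i ≠ r → i ≠ t → σ i ≠ r → σ i ≠ t → σ i = i ∧ c i = 1 := fun i h1 h3 h5 h7 =>
    hout i (fun h => ((hmem i).1 h).elim h1 h3) (fun h => ((hmem _).1 h).elim h5 h7)
  have hminus : ∀ i ∈ R', σ i = i → c i = -1 := fun i hi h1 => (fix_sign hc i).resolve_left fun h3 =>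
    (Finset.mem_filter.1 hi).2 (by rw [hσ, h1, h3, one_smul])
  have hcs : ∀ i, c (σ i) = c i := fun i => by
    have h := mul_self_apply hs2 (ax i)
    rw [hσ, map_smul, hσ, hinv, smul_smul] at h
    have := congrFun h i
    rw [Pi.smul_apply, ax_self, smul_eq_mul, mul_one] at this
    linear_combination c i * this - c (σ i) * hc i
  obtain ⟨c₀, d₀, e₀, f₀, So⟩ := six_of_two hn hab
  -- one moved pair
  have caseOne : ∀ r t, r ∈ R' → t ∈ R' → r ≠ t → (∀ i, i ≠ r → i ≠ t → σ i ≠ r → σ i ≠ t → σ i = i ∧ c i = 1) →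
      σ r ≠ r → σ t = t → False := by
    intro r t hr ht hrt hoth hσr hσt
    have hsrt : σ r ≠ t := fun e => hrt (σ.injective (e.trans hσt.symm))
    obtain ⟨l, m, n, hlm, hln, hmn, hs3⟩ := Finset.card_eq_three.1 (show ({r, σ r, t} : Finset ι)ᶜ.card = 3 by
      rw [Finset.card_compl, Finset.card_insert_of_notMem (by simp [Ne.symm hσr, hrt]), Finset.card_pair hsrt, hn])
    have hl3 : ∀ x, x = l ∨ x = m ∨ x = n → x ≠ r ∧ x ≠ σ r ∧ x ≠ t := fun x hx => by
      have : x ∈ ({r, σ r, t} : Finset ι)ᶜ := by rw [hs3]; simpa using hx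
      simpa using this
    obtain ⟨l1, l2, l3⟩ := hl3 l (Or.inl rfl)
    obtain ⟨m1, m2, m3⟩ := hl3 m (Or.inr (Or.inl rfl))
    obtain ⟨n1, n2, n3⟩ := hl3 n (Or.inr (Or.inr rfl))
    have S := six_mk hn (a := r) (b := σ r) (c := t) (d := l) (e := m) (f := n) (by
      simp [Ne.symm hσr, hrt, hsrt, l1.symm, m1.symm, n1.symm, l2.symm, m2.symm, n2.symm, l3.symm, m3.symm, n3.symm,
        hlm, hln, hmn])
    have hfx : ∀ x, x ≠ r → x ≠ σ r → x ≠ t → s.1 (ax x) = ax x := fun x h1 h3 h5 => by
      obtain ⟨f1, f3⟩ := hoth x h1 h5 (fun e => h3 (by rw [← e, hinv])) (fun e => h5 (σ.injective (e.trans hσt.symm)))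
      rw [hσ, f1, f3, one_smul]
    have si : s.1 (ax r) = c r • ax (σ r) := hσ r
    have sj : s.1 (ax (σ r)) = c r • ax r := by rw [hσ, hinv, hcs]
    have sk : s.1 (ax t) = -ax t := by rw [hσ, hσt, hminus t ht hσt, neg_one_smul]
    have zero : ∀ x, x ≠ a → x ≠ b → On2 (u x) r (σ r) := by
      intro x hxa hxb
      have vj : u x (σ r) = c r * u x r := hpos x hxa hxb r
      have vk : u x t = 0 := by
        have h := hpos x hxa hxb t
        rw [hσt, hminus t ht hσt] at h
        exact (mul_eq_zero.1 (show 2 * u x t = 0 by linear_combination h)).resolve_left h2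
      have z : ∀ {l m n}, Six r (σ r) t l m n → u x l = 0 := fun {l m n} T =>
        type_one_zero hM h2 hn T (hc r) si sj sk (hfx l T.ad.symm T.bd.symm T.cd.symm)
          (hfx m T.ae.symm T.be.symm T.ce.symm) (hfx n T.af.symm T.bf.symm T.cf.symm) (hud x) vj vk (hline x)
          (hrule x)
      intro q hq1 hq3
      rcases S.cov q with rfl | rfl | rfl | rfl | rfl | rfl
      · exact absurd rfl hq1
      · exact absurd rfl hq3
      · exact vk
      · exact z S
      · exact z (six_mk hn (a := r) (b := σ r) (c := t) (d := q) (e := n) (f := l) (by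
          simp [S.ab, S.ac, S.ad, S.ae, S.af, S.bc, S.bd, S.be, S.bf, S.cd, S.ce, S.cf, S.de.symm, S.df.symm, S.ef]))
      · exact z (six_mk hn (a := r) (b := σ r) (c := t) (d := q) (e := l) (f := m) (by
          simp [S.ab, S.ac, S.ad, S.ae, S.af, S.bc, S.bd, S.be, S.bf, S.cd, S.ce, S.cf, S.de, S.df.symm, S.ef.symm]))
    exact two_in_plane hM hS h2 hn hg hgm So.cd (Ne.symm hσr) (zero c₀ So.ac.symm So.bc.symm)
      (zero d₀ So.ad.symm So.bd.symm)
  have hrR : r ∈ R' := (hmem r).2 (Or.inl rfl)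
  have htR : t ∈ R' := (hmem t).2 (Or.inr rfl)
  by_cases hσr : σ r = r <;> by_cases hσt : σ t = t
  · -- the plane is a coordinate plane
    have : ∀ x, x = a ∨ x = b → On2 (u x) r t := fun x hx i hir hit => by
      obtain ⟨f1, f3⟩ := hoth i hir hit (fun e => hir (σ.injective (e.trans hσr.symm)))
        (fun e => hit (σ.injective (e.trans hσt.symm)))
      exact hvan x hx i f1 f3
    exact two_in_plane hM hS h2 hn hg hgm hab hrt (this a (Or.inl rfl)) (this b (Or.inr rfl))
  · exact caseOne t r htR hrR hrt.symm (fun i h1 h3 h5 h7 => hoth i h3 h1 h7 h5) hσt hσr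
  · exact caseOne r t hrR htR hrt hoth hσr hσt
  · -- two moved pairs
    have hsrt : σ r ≠ t := fun e => hσr (hR1 r (Finset.mem_filter.1 hrR).1 (e ▸ (Finset.mem_filter.1 htR).1))
    have htsr : σ t ≠ r := fun e => hσt (hR1 t (Finset.mem_filter.1 htR).1 (e ▸ (Finset.mem_filter.1 hrR).1))
    have hst : σ r ≠ σ t := fun e => hrt (σ.injective e)
    obtain ⟨m, n, hmn, hs4⟩ := Finset.card_eq_two.1 (show ({r, σ r, t, σ t} : Finset ι)ᶜ.card = 2 by
      rw [Finset.card_compl, Finset.card_insert_of_notMem (by simp [Ne.symm hσr, hrt, Ne.symm htsr]),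
        Finset.card_insert_of_notMem (by simp [hsrt, hst]), Finset.card_pair (Ne.symm hσt), hn])
    have hl4 : ∀ x, x = m ∨ x = n → x ≠ r ∧ x ≠ σ r ∧ x ≠ t ∧ x ≠ σ t := fun x hx => by
      have : x ∈ ({r, σ r, t, σ t} : Finset ι)ᶜ := by rw [hs4]; simpa using hx
      simpa using this
    obtain ⟨m1, m2, m3, m4⟩ := hl4 m (Or.inl rfl)
    obtain ⟨n1, n2, n3, n4⟩ := hl4 n (Or.inr rfl)
    have S := six_mk hn (a := r) (b := σ r) (c := t) (d := σ t) (e := m) (f := n) (by
      simp [Ne.symm hσr, Ne.symm hσt, hrt, hsrt, Ne.symm htsr, hst, m1.symm, m2.symm, m3.symm, m4.symm, n1.symm,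
        n2.symm, n3.symm, n4.symm, hmn])
    have hfx : ∀ x, x = m ∨ x = n → s.1 (ax x) = ax x := fun x hx => by
      obtain ⟨h1, h3, h5, h7⟩ := hl4 x hx
      obtain ⟨f1, f3⟩ := hoth x h1 h5 (fun e => h3 (by rw [← e, hinv])) (fun e => h7 (by rw [← e, hinv]))
      rw [hσ, f1, f3, one_smul]
    have key : ∀ x, x ≠ a → x ≠ b → On2 (u x) m n ∨ (u x m = 0 ∧ u x n = 0) := fun x hxa hxb =>
      type_two hM h2 hn S (hc r) (hc t) (hσ r) (by rw [hσ, hinv, hcs]) (hσ t) (by rw [hσ, hinv, hcs])
        (hfx m (Or.inl rfl)) (hfx n (Or.inr rfl)) (hud x) (hpos x hxa hxb r) (hpos x hxa hxb t) (hline x) (hrule x)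
    have three : ∀ x y z, x ≠ a → x ≠ b → y ≠ a → y ≠ b → z ≠ a → z ≠ b → x ≠ y → x ≠ z → y ≠ z →
        (u x m = 0 ∧ u x n = 0) → (u y m = 0 ∧ u y n = 0) → (u z m = 0 ∧ u z n = 0) → False :=
      fun x y z xa xb ya yb za zb hxy hxz hyz hx hy hz =>
        no_three h2 (hc r) (hc t) S (hpos x xa xb r) (hpos x xa xb t) hx (hpos y ya yb r) (hpos y ya yb t) hy
          (hpos z za zb r) (hpos z za zb t) hz (hud x) (hud y) (hud z) (huo hxy) (huo hxz) (huo hyz)
    have two : ∀ {x y}, x ≠ y → On2 (u x) m n → On2 (u y) m n → False := fun {x y} h hx hy =>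
      two_in_plane hM hS h2 hn hg hgm h hmn hx hy
    rcases key c₀ So.ac.symm So.bc.symm with h1 | h1 <;> rcases key d₀ So.ad.symm So.bd.symm with h3 | h3 <;>
      rcases key e₀ So.ae.symm So.be.symm with h5 | h5 <;> rcases key f₀ So.af.symm So.bf.symm with h7 | h7 <;>
      first
        | exact two So.cd h1 h3
        | exact two So.ce h1 h5
        | exact two So.cf h1 h7
        | exact two So.de h3 h5
        | exact two So.df h3 h7
        | exact two So.ef h5 h7
        | exact three c₀ d₀ e₀ So.ac.symm So.bc.symm So.ad.symm So.bd.symm So.ae.symm So.be.symm So.cd So.ce So.de h1 h3 h5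
        | exact three c₀ d₀ f₀ So.ac.symm So.bc.symm So.ad.symm So.bd.symm So.af.symm So.bf.symm So.cd So.cf So.df h1 h3 h7
        | exact three c₀ e₀ f₀ So.ac.symm So.bc.symm So.ae.symm So.be.symm So.af.symm So.bf.symm So.ce So.cf So.ef h1 h5 h7
        | exact three d₀ e₀ f₀ So.ad.symm So.bd.symm So.ae.symm So.be.symm So.af.symm So.bf.symm So.de So.df So.ef h3 h5 h7

end Cfsg.Agent.Frame10Six75
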