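import Cfsg.Agent.Lib.Frame10Fusion

/-!
Six coordinates: an element of an overgroup without non-monomial line stabilisers which maps a coordinate plane
to a coordinate plane is monomial.
-/

set_option autoImplicit false
set_option linter.unusedSectionVars false
set_option linter.unusedSimpArgs false
set_option maxHeartbeats 800000

namespace Cfsg.Agent.Frame10Six75

open QuadraticMap Module
open Cfsg.Agent.OrthUnitaryQuad Cfsg.Agent.OrthUnitaryRefl Cfsg.Agent.OmegaDecomp Cfsg.Agent.Frame10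
open scoped Matrix

variable {F : Type*} [Field F] {ι : Type*} [Fintype ι] [DecidableEq ι]

/-- Six different labels covering all coordinates. -/
structure Six (a b c d e f : ι) : Prop where
  ab : a ≠ b
  ac : a ≠ c
  ad : a ≠ d
  ae : a ≠ e
  af : a ≠ f
  bc : b ≠ c
  bd : b ≠ d
  be : b ≠ e
  bf : b ≠ f
  cd : c ≠ d
  ce : c ≠ e
  cf : c ≠ f
  de : d ≠ e
  df : d ≠ f
  ef : e ≠ f
  cov : ∀ x, x = a ∨ x = b ∨ x = c ∨ x = d ∨ x = e ∨ x = f

theorem six_mk (hn : Fintype.card ι = 6) {a b c d e f : ι} (h : [a, b, c, d, e, f].Nodup) :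
    Six a b c d e f := by
  have hu : [a, b, c, d, e, f].toFinset = Finset.univ :=
    Finset.eq_univ_of_card _ (by rw [List.toFinset_card_of_nodup h, hn]; rfl)
  have hcov : ∀ x, x = a ∨ x = b ∨ x = c ∨ x = d ∨ x = e ∨ x = f := fun x => by
    have hx : x ∈ [a, b, c, d, e, f].toFinset := hu ▸ Finset.mem_univ x
    simpa using hx
  simp at h
  obtain ⟨⟨h1, h2, h3, h4, h5⟩, ⟨h6, h7, h8, h9⟩, ⟨h10, h11, h12⟩, ⟨h13, h14⟩, h15⟩ := h
  exact ⟨h1, h2, h3, h4, h5, h6, h7, h8, h9, h10, h11, h12, h13, h14, h15, hcov⟩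

theorem six_of_two (hn : Fintype.card ι = 6) {a b : ι} (hab : a ≠ b) : ∃ c d e f, Six a b c d e f := by
  obtain ⟨c, d, e, f, h1, h2, h3, h4, h5, h6, hs⟩ := Finset.card_eq_four.1
    (show ({a, b} : Finset ι)ᶜ.card = 4 by rw [Finset.card_compl, Finset.card_pair hab, hn])
  have hm : ∀ x, (x = c ∨ x = d ∨ x = e ∨ x = f) → x ≠ a ∧ x ≠ b := fun x hx => by
    have : x ∈ ({a, b} : Finset ι)ᶜ := by rw [hs]; simpa using hx
    simpa using this
  obtain ⟨ca, cb⟩ := hm c (Or.inl rfl)
  obtain ⟨da, db⟩ := hm d (Or.inr (Or.inl rfl))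
  obtain ⟨ea, eb⟩ := hm e (Or.inr (Or.inr (Or.inl rfl)))
  obtain ⟨fa, fb⟩ := hm f (Or.inr (Or.inr (Or.inr rfl)))
  refine ⟨c, d, e, f, six_mk hn ?_⟩
  simp
  exact ⟨⟨hab, ca.symm, da.symm, ea.symm, fa.symm⟩, ⟨cb.symm, db.symm, eb.symm, fb.symm⟩, ⟨h1, h2, h3⟩, ⟨h4, h5⟩, h6⟩

/-- The sum over six coordinates. -/
theorem Six.dot {a b c d e f : ι} (S : Six a b c d e f) (x y : ι → F) :
    x ⬝ᵥ y = x a * y a + x b * y b + x c * y c + x d * y d + x e * y e + x f * y f := by
  rw [dotProduct, show (Finset.univ : Finset ι) = {a, b, c, d, e, f} from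
    (Finset.eq_univ_iff_forall.2 fun x => by simpa using S.cov x).symm]
  simp [S.ab, S.ac, S.ad, S.ae, S.af, S.bc, S.bd, S.be, S.bf, S.cd, S.ce, S.cf, S.de, S.df, S.ef]
  ring

/-- A vector vanishing outside two coordinates. -/
def On2 (v : ι → F) (a b : ι) : Prop := ∀ l, l ≠ a → l ≠ b → v l = 0

/-- Isometries agreeing on the coordinate vectors are equal. -/
theorem ext_ax {g h : orth (sq F ι)} (e : ∀ i, g.1 (ax i) = h.1 (ax i)) : g = h := by
  refine orth_ext fun x => ?_
  have hx : x = ∑ i, x i • (ax i : ι → F) := by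
    funext l; simp [ax, Finset.sum_apply, Pi.single_apply]
  rw [hx, map_sum, map_sum]
  exact Finset.sum_congr rfl fun i _ => by rw [map_smul, map_smul, e]

/-- A vector orthogonal to an orthonormal pair in a coordinate plane. -/
theorem plane_perp {x y v : ι → F} {k l : ι} (hkl : k ≠ l) (hx : On2 x k l) (hy : On2 y k l)
    (hxx : x ⬝ᵥ x = 1) (hyy : y ⬝ᵥ y = 1) (hxy : x ⬝ᵥ y = 0) (hxv : x ⬝ᵥ v = 0) (hyv : y ⬝ᵥ v = 0) :
    v k = 0 ∧ v l = 0 := by
  have two : ∀ {z : ι → F}, On2 z k l → ∀ w : ι → F, z ⬝ᵥ w = z k * w k + z l * w l := fun {z} hz w =>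
    Finset.sum_eq_add (s := Finset.univ) (f := fun t => z t * w t) k l hkl
      (fun t _ ht => by rw [hz t ht.1 ht.2, zero_mul]) (by simp) (by simp)
  rw [two hx] at hxx hxy hxv
  rw [two hy] at hyy hyv
  have hD : (x k * y l - x l * y k) * (x k * y l - x l * y k) = 1 := by
    linear_combination (y k * y k + y l * y l) * hxx + hyy - (x k * y k + x l * y l) * hxy
  have hD0 : x k * y l - x l * y k ≠ 0 := fun e => by rw [e, mul_zero] at hD; exact zero_ne_one hD
  exact ⟨(mul_eq_zero.1 (show (x k * y l - x l * y k) * v k = 0 by linear_combination y l * hxv - x l * hyv)).resolve_left hD0,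
    (mul_eq_zero.1 (show (x k * y l - x l * y k) * v l = 0 by linear_combination x k * hyv - y k * hxv)).resolve_left hD0⟩

theorem two_out (hn : Fintype.card ι = 6) (i a b : ι) :
    ∃ c d : ι, c ≠ d ∧ (c ≠ i ∧ c ≠ a ∧ c ≠ b) ∧ (d ≠ i ∧ d ≠ a ∧ d ≠ b) := by
  obtain ⟨c, hc, d, hd, hcd⟩ := Finset.one_lt_card.1 (show 1 < ({i, a, b} : Finset ι)ᶜ.card by
    rw [Finset.card_compl, hn]; have := Finset.card_le_three (a := i) (b := a) (c := b); omega)
  simp at hc hd
  exact ⟨c, d, hcd, hc, hd⟩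

variable [Fintype F] {M : Subgroup (orth (sq F ι))}

/-- An even sign change, on the coordinate vectors. -/
theorem exists_neg_ax (hM : Over M) (h2 : (2 : F) ≠ 0) (hn : 5 ≤ Fintype.card ι) {A : Finset ι} (hA : Even A.card) :
    ∃ m ∈ M, Mono m ∧ (∀ x i, (m.1 x) i = if i ∈ A then -(x i) else x i) ∧
      ∀ i, m.1 (ax i) = (if i ∈ A then (-1 : F) else 1) • ax i := by
  obtain ⟨m, hm, hx⟩ := exists_neg hM h2 hn A hA
  have hax : ∀ i, m.1 (ax i) = (if i ∈ A then (-1 : F) else 1) • ax i := fun i => by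
    funext l
    rw [hx, Pi.smul_apply]
    rcases eq_or_ne l i with rfl | hl
    · split_ifs <;> simp [ax_self]
    · split_ifs <;> simp [ax_ne hl]
  exact ⟨m, hm, fun i => ⟨i, _, hax i⟩, hx, hax⟩

/-- A sign change on two coordinates. -/
theorem exists_pair_neg (hM : Over M) (h2 : (2 : F) ≠ 0) (hn : 5 ≤ Fintype.card ι) {a b : ι} (hab : a ≠ b) :
    ∃ e ∈ M, Mono e ∧ (∀ v, e.1 v = rv (ax a) (rv (ax b) v)) ∧
      ∀ i, e.1 (ax i) = (if i = a ∨ i = b then (-1 : F) else 1) • ax i := by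
  obtain ⟨e, he, hm, hx, hax⟩ := exists_neg_ax hM h2 hn (A := {a, b}) (by rw [Finset.card_pair hab]; decide)
  refine ⟨e, he, hm, fun v => funext fun l => ?_, fun i => by rw [hax]; simp⟩
  rw [hx, rv_ax, rv_ax]
  simp only [Function.update_apply, Finset.mem_insert, Finset.mem_singleton]
  rcases eq_or_ne l a with rfl | hla
  · simp [hab]
  rcases eq_or_ne l b with rfl | hlb
  · simp [hla]
  · simp [hla, hlb]

/-- An element of an overgroup preserving a coordinate plane is monomial. -/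
theorem cent_mono (hM : Over M) (hS : Frame10.Star M) (h2 : (2 : F) ≠ 0) (hn : Fintype.card ι = 6) {h : orth (sq F ι)}
    (hh : h ∈ M) {a b : ι} (hab : a ≠ b) (ha : On2 (h.1 (ax a)) a b) (hb : On2 (h.1 (ax b)) a b) : Mono h := by
  classical
  have hn5 : 5 ≤ Fintype.card ι := by omega
  by_contra hnm
  have nline : ∀ x z, On2 (h.1 (ax x)) z z → False := fun x z hz => hnm (hS h hh x ⟨z, h.1 (ax x) z, funext fun l => by
    rcases eq_or_ne l z with rfl | hl
    · simp [ax]
    · rw [Pi.smul_apply, ax_ne hl, smul_zero, hz l hl hl]⟩)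
  set α := h.1 (ax a) a with hα
  set β := h.1 (ax a) b with hβ
  have hα0 : α ≠ 0 := fun e => nline a b fun l hl _ => by
    rcases eq_or_ne l a with rfl | hla
    exacts [e, ha l hla hl]
  have hβ0 : β ≠ 0 := fun e => nline a a fun l hl _ => by
    rcases eq_or_ne l b with rfl | hlb
    exacts [e, ha l hl hlb]
  have two : ∀ {z : ι → F}, On2 z a b → ∀ w : ι → F, z ⬝ᵥ w = z a * w a + z b * w b := fun {z} hz w =>
    Finset.sum_eq_add (s := Finset.univ) (f := fun t => z t * w t) a b hab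
      (fun t _ ht => by rw [hz t ht.1 ht.2, zero_mul]) (by simp) (by simp)
  have huu := col_dot h h2 a a
  rw [two ha, if_pos rfl] at huu
  have hvv := col_dot h h2 b b
  rw [two hb, if_pos rfl] at hvv
  have huv := col_dot h h2 a b
  rw [two ha, if_neg hab] at huv
  rw [← hα, ← hβ] at huu huv
  -- normalise the orientation
  obtain ⟨c, d, e, f, S⟩ := six_of_two hn hab
  suffices key : ∀ k ∈ M, ¬ Mono k → k.1 (ax a) = α • ax a + β • ax b → k.1 (ax b) = (-β) • ax a + α • ax b → False by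
    have hD : (α * h.1 (ax b) b - β * h.1 (ax b) a) * (α * h.1 (ax b) b - β * h.1 (ax b) a) = 1 := by
      linear_combination (h.1 (ax b) a * h.1 (ax b) a + h.1 (ax b) b * h.1 (ax b) b) * huu + hvv -
        (α * h.1 (ax b) a + β * h.1 (ax b) b) * huv
    set δ := α * h.1 (ax b) b - β * h.1 (ax b) a with hδ
    have hA : h.1 (ax a) = α • ax a + β • ax b := funext fun l => by
      rcases eq_or_ne l a with rfl | hla
      · simp [ax_self, ax_ne hab, ← hα]
      rcases eq_or_ne l b with rfl | hlb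
      · simp [ax_self, ax_ne hla, ← hβ]
      · simp [ax_ne hla, ax_ne hlb, ha l hla hlb]
    have hB : h.1 (ax b) = (-(δ * β)) • ax a + (δ * α) • ax b := funext fun l => by
      rcases eq_or_ne l a with rfl | hla
      · simp [ax_self, ax_ne hab, hδ]
        linear_combination -(h.1 (ax b) l) * huu + α * huv
      rcases eq_or_ne l b with rfl | hlb
      · simp [ax_self, ax_ne hla, hδ]
        linear_combination -(h.1 (ax l) l) * huu + β * huv
      · simp [ax_ne hla, ax_ne hlb, hb l hla hlb]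
    rcases mul_self_eq_one_iff.1 hD with e1 | e1
    · exact key h hh hnm hA (by rw [hB, e1, one_mul, one_mul])
    · obtain ⟨m, hm, hmm, -, hmax⟩ := exists_neg_ax hM h2 hn5 (A := {b, c}) (by rw [Finset.card_pair S.bc]; decide)
      refine key (h * m) (M.mul_mem hh hm) (fun hk => hnm ?_) ?_ ?_
      · have := mono_mul hk (mono_inv h2 hmm)
        rwa [mul_inv_cancel_right] at this
      · rw [orth_mul_apply, hmax, if_neg (by simp [hab, S.ac]), one_smul, hA]
      · rw [orth_mul_apply, hmax, if_pos (by simp), map_smul, hB, e1, smul_add, smul_smul, smul_smul]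
        congr 2 <;> ring
  clear nline ha hb hh hnm huu hvv huv two
  intro k hk hnk hka hkb
  have hαβ : α * α + β * β = 1 := by
    have := col_dot k h2 a a
    rw [if_pos rfl, hka, S.dot] at this
    simpa [ax, S.ab, S.ab.symm, S.ac.symm, S.ad.symm, S.ae.symm, S.af.symm, S.bc.symm, S.bd.symm, S.be.symm,
      S.bf.symm] using this
  have hainv : (ax a : ι → F) = α • k.1 (ax a) + (-β) • k.1 (ax b) := funext fun l => by
    rw [hka, hkb]
    simp only [Pi.add_apply, Pi.smul_apply, smul_eq_mul]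
    linear_combination -(ax a : ι → F) l * hαβ
  have hbinv : (ax b : ι → F) = β • k.1 (ax a) + α • k.1 (ax b) := funext fun l => by
    rw [hka, hkb]
    simp only [Pi.add_apply, Pi.smul_apply, smul_eq_mul]
    linear_combination -(ax b : ι → F) l * hαβ
  have hperp : ∀ x, x ≠ a → x ≠ b → k.1 (ax x) a = 0 ∧ k.1 (ax x) b = 0 := fun x hxa hxb => by
    have h1 := col_dot k h2 a x
    have h1' := col_dot k h2 b x
    rw [if_neg (Ne.symm hxa)] at h1
    rw [if_neg (Ne.symm hxb)] at h1'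
    have ea := congrArg (· ⬝ᵥ k.1 (ax x)) hainv
    have eb := congrArg (· ⬝ᵥ k.1 (ax x)) hbinv
    simp only [add_dotProduct, smul_dotProduct, dot_ax, h1, h1', smul_zero, add_zero] at ea eb
    exact ⟨ea, eb⟩
  -- the conjugate of a product of two quarter turns
  have step : ∀ {c d e f : ι}, Six a b c d e f → ∃ p q : ι, p ≠ q ∧ p ≠ a ∧ p ≠ b ∧ q ≠ a ∧ q ≠ b ∧
      On2 (k.1 (ax e)) p q ∧ On2 (k.1 (ax f)) p q := by
    intro c d e f S
    obtain ⟨p1, hp1, hp1m, -, hp1ax⟩ := exists_swaps hM h2 hn5 S.ab S.cd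
    obtain ⟨p2, hp2, hp2m, -, hp2ax⟩ := exists_neg_ax hM h2 hn5 (A := {a, c}) (by rw [Finset.card_pair S.ac]; decide)
    set m := p1 * p2
    have hm : m ∈ M := M.mul_mem hp1 hp2
    have hmv : ∀ x, m.1 (ax x) = (if x = a ∨ x = c then (-1 : F) else 1) •
        ax ((Equiv.swap a b * Equiv.swap c d : Equiv.Perm ι) x) := fun x => by
      rw [orth_mul_apply, hp2ax, map_smul, hp1ax]; simp
    have ma : m.1 (ax a) = -ax b := by
      rw [hmv]; simp [Equiv.swap_apply_of_ne_of_ne S.ac S.ad]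
    have mb : m.1 (ax b) = ax a := by
      rw [hmv]; simp [S.ab.symm, S.bc, Equiv.swap_apply_of_ne_of_ne S.bc S.bd]
    have mc : m.1 (ax c) = -ax d := by
      rw [hmv]; simp [Equiv.swap_apply_of_ne_of_ne S.ad.symm S.bd.symm]
    have md : m.1 (ax d) = ax c := by
      rw [hmv]; simp [S.ad.symm, S.cd.symm, Equiv.swap_apply_of_ne_of_ne S.ac.symm S.bc.symm]
    have me : m.1 (ax e) = ax e := by
      rw [hmv]; simp [S.ae.symm, S.ce.symm, Equiv.swap_apply_of_ne_of_ne S.ce.symm S.de.symm,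
        Equiv.swap_apply_of_ne_of_ne S.ae.symm S.be.symm]
    have mf : m.1 (ax f) = ax f := by
      rw [hmv]; simp [S.af.symm, S.cf.symm, Equiv.swap_apply_of_ne_of_ne S.cf.symm S.df.symm,
        Equiv.swap_apply_of_ne_of_ne S.af.symm S.bf.symm]
    have m4 : m * m * m * m = 1 := ext_ax fun x => by
      show _ = (ax x : ι → F)
      rcases S.cov x with rfl | rfl | rfl | rfl | rfl | rfl <;>
        simp [orth_mul_apply, ma, mb, mc, md, me, mf]
    set u := k * m * k⁻¹ with hu
    have huk : ∀ x, u.1 (k.1 x) = k.1 (m.1 x) := fun x => by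
      rw [← orth_mul_apply u k, ← orth_mul_apply k m]; congr 1; simp [hu]
    have hua : u.1 (ax a) = -ax b := by
      rw [hainv, map_add, map_smul, map_smul, huk, huk, ma, mb, map_neg]
      funext l
      simp [hka, hkb]
      linear_combination -(ax b : ι → F) l * hαβ
    obtain ⟨σ, s, hs, hσ⟩ := mono_perm h2 (hS u (M.mul_mem (M.mul_mem hk hm) (M.inv_mem hk)) a
      ⟨b, -1, by rw [hua, neg_one_smul]⟩)
    have hub : u.1 (ax b) = ax a := by
      rw [hbinv, map_add, map_smul, map_smul, huk, huk, ma, mb, map_neg]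
      funext l
      simp [hka, hkb]
      linear_combination (ax a : ι → F) l * hαβ
    have inj : ∀ {i j : ι} {r t : F}, r * r = 1 → r • ax (F := F) i = t • ax j → i = j := by
      intro i j r t hr he
      by_contra hij
      have := congrFun he i
      rw [Pi.smul_apply, Pi.smul_apply, ax_self, ax_ne hij, smul_eq_mul, smul_eq_mul, mul_one, mul_zero] at this
      rw [this, mul_zero] at hr
      exact zero_ne_one hr
    have hσa : σ a = b := inj (hs a) ((hσ a).symm.trans (hua.trans (neg_one_smul F (ax b)).symm))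
    have hσb : σ b = a := inj (hs b) ((hσ b).symm.trans (hub.trans (one_smul F (ax a)).symm))
    have hσo : ∀ x, x ≠ a → x ≠ b → σ x ≠ a ∧ σ x ≠ b := fun x hxa hxb =>
      ⟨fun e => hxb (σ.injective (e.trans hσb.symm)), fun e => hxa (σ.injective (e.trans hσa.symm))⟩
    have hfix : ∀ {v : ι → F}, u.1 v = v → ∀ i, v (σ i) = s i * v i := fun {v} hv i => by
      rw [← mono_ax h2 hs hσ v i, hv]
    have hE : u.1 (k.1 (ax e)) = k.1 (ax e) := by rw [huk, me]
    have hF : u.1 (k.1 (ax f)) = k.1 (ax f) := by rw [huk, mf]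
    have hσ4 : ∀ i, σ (σ (σ (σ i))) = i := fun i => by
      have h4 : (u * u * u * u).1 (ax i) = (ax i : ι → F) := by
        rw [show u * u * u * u = k * (m * m * m * m) * k⁻¹ by simp [hu, mul_assoc], m4, mul_one, mul_inv_cancel]
        rfl
      simp only [orth_mul_apply, hσ, map_smul, smul_smul] at h4
      refine inj ?_ (h4.trans (one_smul F (ax i)).symm)
      linear_combination (s (σ i) * s (σ i)) * (s (σ (σ i)) * s (σ (σ i))) * (s (σ (σ (σ i))) * s (σ (σ (σ i)))) *
        hs i + (s (σ (σ i)) * s (σ (σ i))) * (s (σ (σ (σ i))) * s (σ (σ (σ i)))) * hs (σ i) +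
        (s (σ (σ (σ i))) * s (σ (σ (σ i)))) * hs (σ (σ i)) + hs (σ (σ (σ i)))
    have hsq : ∀ i, i ≠ a → i ≠ b → σ (σ i) = i := by
      intro i hia hib
      by_contra h22
      obtain ⟨h1a, h1b⟩ := hσo i hia hib
      obtain ⟨h2a, h2b⟩ := hσo _ h1a h1b
      obtain ⟨h3a, h3b⟩ := hσo _ h2a h2b
      have n01 : i ≠ σ i := fun e => h22 (by rw [← e, ← e])
      have n03 : i ≠ σ (σ (σ i)) := fun e => n01 (by
        have h4 := hσ4 i
        rw [← e] at h4
        exact h4.symm)
      have n12 : σ i ≠ σ (σ i) := fun e => n01 (σ.injective e)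
      have n13 : σ i ≠ σ (σ (σ i)) := fun e => h22 (σ.injective e).symm
      have n23 : σ (σ i) ≠ σ (σ (σ i)) := fun e => n12 (σ.injective e)
      have S' := six_mk hn (a := a) (b := b) (c := i) (d := σ i) (e := σ (σ i)) (f := σ (σ (σ i))) (by
        simp [hab, hia.symm, h1a.symm, h2a.symm, h3a.symm, hib.symm, h1b.symm, h2b.symm, h3b.symm,
          n01, Ne.symm h22, n03, n12, n13, n23])
      set E := k.1 (ax e) with hEd
      set G := k.1 (ax f) with hGd
      set w := G i • E - E i • G with hw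
      have hwf : u.1 w = w := by rw [hw, map_sub, map_smul, map_smul, hE, hF]
      have w0 : w i = 0 := by simp [hw]; ring
      have w1 : w (σ i) = 0 := by rw [hfix hwf, w0, mul_zero]
      have w2 : w (σ (σ i)) = 0 := by rw [hfix hwf, w1, mul_zero]
      have w3 : w (σ (σ (σ i))) = 0 := by rw [hfix hwf, w2, mul_zero]
      have he0 := hperp e S.ae.symm S.be.symm
      have hf0 := hperp f S.af.symm S.bf.symm
      have hw0 : w = 0 := funext fun x => by
        rcases S'.cov x with rfl | rfl | rfl | rfl | rfl | rfl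
        · simp [hw, hEd, hGd, he0.1, hf0.1]
        · simp [hw, hEd, hGd, he0.2, hf0.2]
        exacts [w0, w1, w2, w3]
      have e1 := congrArg (E ⬝ᵥ ·) hw0
      have e3 := congrArg (G ⬝ᵥ ·) hw0
      simp [hw, dotProduct_sub, dotProduct_smul, hEd, hGd, col_dot k h2, S.ef, S.ef.symm] at e1 e3
      have hEi : E i = 0 := e3
      have z1 : E (σ i) = 0 := by rw [hfix hE, hEi, mul_zero]
      have z2 : E (σ (σ i)) = 0 := by rw [hfix hE, z1, mul_zero]
      have z3 : E (σ (σ (σ i))) = 0 := by rw [hfix hE, z2, mul_zero]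
      have := col_dot k h2 e e
      rw [if_pos rfl, S'.dot] at this
      rw [← hEd, hEi, z1, z2, z3, hEd, he0.1, he0.2] at this
      simp at this
    obtain ⟨i, hia, hib, hi⟩ : ∃ i, i ≠ a ∧ i ≠ b ∧ s i * s (σ i) ≠ 1 := by
      by_contra hall
      push Not at hall
      have huu : u.1 (u.1 (k.1 (ax c))) = -k.1 (ax c) := by
        rw [huk, huk, mc, map_neg, md, map_neg]
      have heq : ∀ x, (u.1 (u.1 (k.1 (ax c)))) x = (k.1 (ax c)) x := fun x => by
        rcases eq_or_ne x a with rfl | hxa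
        · rw [huu, Pi.neg_apply, (hperp c S.ac.symm S.bc.symm).1, neg_zero]
        rcases eq_or_ne x b with rfl | hxb
        · rw [huu, Pi.neg_apply, (hperp c S.ac.symm S.bc.symm).2, neg_zero]
        obtain ⟨y1, y2⟩ := hσo x hxa hxb
        have h1 := mono_ax h2 hs hσ (u.1 (k.1 (ax c))) (σ x)
        rw [hsq x hxa hxb, mono_ax h2 hs hσ, ← mul_assoc, mul_comm (s (σ x)), hall x hxa hxb, one_mul] at h1
        exact h1
      have hz : k.1 (ax c) = 0 := funext fun x => by
        have h1 := heq x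
        rw [huu, Pi.neg_apply] at h1
        exact (mul_eq_zero.1 (show 2 * k.1 (ax c) x = 0 by linear_combination -h1)).resolve_left h2
      have := col_dot k h2 c c
      rw [hz, if_pos rfl] at this
      simp at this
    obtain ⟨h1a, h1b⟩ := hσo i hia hib
    have hne : i ≠ σ i := fun e => hi (by rw [← e, hs])
    have hvan : ∀ {v : ι → F}, u.1 v = v → v i = 0 ∧ v (σ i) = 0 := fun {v} hv => by
      have h1 := hfix hv (σ i)
      rw [hsq i hia hib, hfix hv i] at h1
      have hz : v i = 0 := (mul_eq_zero.1 (show (1 - s i * s (σ i)) * v i = 0 by linear_combination h1)).resolve_left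
        (sub_ne_zero.2 (Ne.symm hi))
      exact ⟨hz, by rw [hfix hv i, hz, mul_zero]⟩
    obtain ⟨p, q, hpq, hs'⟩ := Finset.card_eq_two.1 (show ({a, b, i, σ i} : Finset ι)ᶜ.card = 2 by
      rw [Finset.card_compl, Finset.card_insert_of_notMem (by simp [hab, hia.symm, h1a.symm]),
        Finset.card_insert_of_notMem (by simp [hib.symm, h1b.symm]), Finset.card_pair hne, hn])
    have hmem : ∀ x, (x = p ∨ x = q) ↔ x ≠ a ∧ x ≠ b ∧ x ≠ i ∧ x ≠ σ i := fun x => by
      have : x ∈ ({a, b, i, σ i} : Finset ι)ᶜ ↔ x ∈ ({p, q} : Finset ι) := by rw [hs']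
      simp at this
      exact this.symm
    obtain ⟨pa, pb, -, -⟩ := (hmem p).1 (Or.inl rfl)
    obtain ⟨qa, qb, -, -⟩ := (hmem q).1 (Or.inr rfl)
    have hsupp : ∀ x, x ≠ a → x ≠ b → u.1 (k.1 (ax x)) = k.1 (ax x) → On2 (k.1 (ax x)) p q := fun x hxa hxb hv l lp lq => by
      rcases eq_or_ne l a with rfl | hla
      · exact (hperp x hxa hxb).1
      rcases eq_or_ne l b with rfl | hlb
      · exact (hperp x hxa hxb).2
      rcases eq_or_ne l i with rfl | hli
      · exact (hvan hv).1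
      rcases eq_or_ne l (σ i) with rfl | hlσ
      · exact (hvan hv).2
      exact absurd ((hmem l).2 ⟨hla, hlb, hli, hlσ⟩) (fun h => h.elim lp lq)
    exact ⟨p, q, hpq, pa, pb, qa, qb, hsupp e S.ae.symm S.be.symm hE, hsupp f S.af.symm S.bf.symm hF⟩
  obtain ⟨c, d, e, f, S⟩ := six_of_two hn hab
  obtain ⟨p, q, hpq, -, -, -, -, he, hf⟩ := step S
  obtain ⟨p', q', hpq', -, -, -, -, hd', hf'⟩ := step (six_mk hn (a := a) (b := b) (c := e) (d := c) (e := d) (f := f) (by
    simp [S.ab, S.ac, S.ad, S.ae, S.af, S.bc, S.bd, S.be, S.bf, S.ce.symm, S.de.symm, S.ef, S.cd, S.cf, S.df]))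
  have hline : ∀ z, On2 (k.1 (ax f)) z z → False := fun z hz => hnk (hS k hk f ⟨z, k.1 (ax f) z, funext fun l => by
    rcases eq_or_ne l z with rfl | hl
    · simp [ax]
    · rw [Pi.smul_apply, ax_ne hl, smul_zero, hz l hl hl]⟩)
  by_cases hP : (p = p' ∨ p = q') ∧ (q = p' ∨ q = q')
  · -- three orthonormal vectors in a plane
    have hd : On2 (k.1 (ax d)) p q := fun l lp lq => hd' l
      (by rintro rfl; rcases hP with ⟨h1 | h1, h3 | h3⟩ <;> first | exact lp h1.symm | exact lq h3.symm | exact hpq (h1.trans h3.symm))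
      (by rintro rfl; rcases hP with ⟨h1 | h1, h3 | h3⟩ <;> first | exact lp h1.symm | exact lq h3.symm | exact hpq (h1.trans h3.symm))
    obtain ⟨z1, z2⟩ := plane_perp hpq he hf ((col_dot k h2 e e).trans (if_pos rfl)) ((col_dot k h2 f f).trans (if_pos rfl))
      ((col_dot k h2 e f).trans (if_neg S.ef)) ((col_dot k h2 e d).trans (if_neg S.de.symm))
      ((col_dot k h2 f d).trans (if_neg S.df.symm))
    have hz : k.1 (ax d) = 0 := funext fun l => by
      rcases eq_or_ne l p with rfl | hlp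
      · exact z1
      rcases eq_or_ne l q with rfl | hlq
      · exact z2
      exact hd l hlp hlq
    have := col_dot k h2 d d
    rw [hz, if_pos rfl] at this
    simp at this
  rcases not_and_or.1 hP with h1 | h1 <;> push Not at h1
  · exact hline q fun l hl _ => (eq_or_ne l p).elim (fun e => e ▸ hf' p h1.1 h1.2) (fun e => hf l e hl)
  · exact hline p fun l hl _ => (eq_or_ne l q).elim (fun e => e ▸ hf' q h1.1 h1.2) (fun e => hf l hl e)

/-- A double transposition moving a point, away from two others. -/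
theorem exists_move1 (hM : Over M) (h2 : (2 : F) ≠ 0) (hn : Fintype.card ι = 6) (i a b : ι) :
    ∃ m ∈ M, Mono m ∧ m.1 (ax i) = ax a ∧ (b ≠ i → b ≠ a → m.1 (ax b) = ax b) ∧
      ∀ x, ∃ y, m.1 (ax x) = ax y := by
  rcases eq_or_ne i a with rfl | hia
  · exact ⟨1, M.one_mem, fun x => ⟨x, 1, (one_smul F _).symm⟩, rfl, fun _ _ => rfl, fun x => ⟨x, rfl⟩⟩
  obtain ⟨c, d, hcd, hc, hd⟩ := two_out hn i a b
  obtain ⟨m, hm, hmm, -, hax⟩ := exists_swaps hM h2 (by omega) hia hcd
  refine ⟨m, hm, hmm, ?_, fun hbi hba => ?_, fun x => ⟨_, hax x⟩⟩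
  · rw [hax, Equiv.Perm.mul_apply, Equiv.swap_apply_of_ne_of_ne (Ne.symm hc.1) (Ne.symm hd.1), Equiv.swap_apply_left]
  · rw [hax, Equiv.Perm.mul_apply, Equiv.swap_apply_of_ne_of_ne (Ne.symm hc.2.2) (Ne.symm hd.2.2),
      Equiv.swap_apply_of_ne_of_ne hbi hba]

/-- Monomial elements move any pair of coordinates to any other. -/
theorem exists_move (hM : Over M) (h2 : (2 : F) ≠ 0) (hn : Fintype.card ι = 6) {i j a b : ι} (hij : i ≠ j)
    (hab : a ≠ b) : ∃ m ∈ M, Mono m ∧ m.1 (ax i) = ax a ∧ m.1 (ax j) = ax b := by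
  obtain ⟨m, hm, hmm, hmi, -, hall⟩ := exists_move1 hM h2 hn i a a
  obtain ⟨j', hj'⟩ := hall j
  have hja : j' ≠ a := fun e => by
    have h1 : (ax j : ι → F) = ax i := m.1.injective (by rw [hmi, hj', e])
    have := congrFun h1 j
    rw [ax_self, ax_ne hij.symm] at this
    exact one_ne_zero this
  obtain ⟨m', hm', hmm', hm'j, hfix, -⟩ := exists_move1 hM h2 hn j' b a
  exact ⟨m' * m, M.mul_mem hm' hm, mono_mul hmm' hmm, by rw [orth_mul_apply, hmi, hfix hja.symm hab],
    by rw [orth_mul_apply, hj', hm'j]⟩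

/-- An element mapping a coordinate plane to a coordinate plane is monomial. -/
theorem plane_mono (hM : Over M) (hS : Frame10.Star M) (h2 : (2 : F) ≠ 0) (hn : Fintype.card ι = 6) {g : orth (sq F ι)}
    (hg : g ∈ M) {i j k l : ι} (hij : i ≠ j) (hkl : k ≠ l) (hi : On2 (g.1 (ax i)) k l) (hj : On2 (g.1 (ax j)) k l) :
    Mono g := by
  obtain ⟨m, hm, hmm, hmk, hml⟩ := exists_move hM h2 hn hkl hij
  have on : ∀ {v : ι → F}, On2 v k l → On2 (m.1 v) i j := fun {v} hv t hti htj => by
    have hv' : v = v k • ax k + v l • ax l := funext fun x => by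
      rcases eq_or_ne x k with rfl | hxk
      · simp [ax, hkl]
      rcases eq_or_ne x l with rfl | hxl
      · simp [ax, hxk]
      · simp [ax, hxk, hxl, hv x hxk hxl]
    rw [hv', map_add, map_smul, map_smul, hmk, hml]
    simp [ax, hti, htj]
  have h := cent_mono hM hS h2 hn (M.mul_mem hm hg) hij (by rw [orth_mul_apply]; exact on hi)
    (by rw [orth_mul_apply]; exact on hj)
  have := mono_mul (mono_inv h2 hmm) h
  rwa [inv_mul_cancel_left] at this

end Cfsg.Agent.Frame10Six75
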