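import Cfsg.Agent.Lib.Frame10Six75Plane

/-!
Six coordinates: a conjugate of a pair of sign changes is monomial only for monomial conjugating elements.
-/

set_option autoImplicit false
set_option linter.unusedSectionVars false
set_option linter.unusedSimpArgs false
set_option maxHeartbeats 800000

namespace Cfsg.Agent.Frame10Six75

open QuadraticMap Module
open Cfsg.Agent.OrthUnitaryQuad Cfsg.Agent.OrthUnitaryRefl Cfsg.Agent.OmegaDecomp Cfsg.Agent.Frame10
open scoped Matrix

variable {F : Type*} [Field F] {ι : Type*} [Fintype ι] [DecidableEq ι]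

/-- The sign change on two coordinates. -/
def IsPair (e : orth (sq F ι)) (a b : ι) : Prop :=
  ∀ i, e.1 (ax i) = (if i = a ∨ i = b then (-1 : F) else 1) • ax i

theorem sign_sq (a b i : ι) :
    (if i = a ∨ i = b then (-1 : F) else 1) * (if i = a ∨ i = b then (-1 : F) else 1) = 1 := by
  split_ifs <;> norm_num

/-- A coordinate of an image from the image of a coordinate vector. -/
theorem coord {g : orth (sq F ι)} (h2 : (2 : F) ≠ 0) {x y : ι} {c : F} (hc : c * c = 1)
    (hg : g.1 (ax x) = c • ax y) (v : ι → F) : g.1 v y = c * v x := by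
  have h := map_dot g h2 (ax x) v
  rw [hg, smul_dotProduct, dot_ax, dot_ax, smul_eq_mul] at h
  rw [← h, ← mul_assoc, hc, one_mul]

/-- An element commuting with a diagonal one respects its eigen coordinates. -/
theorem zero_of_commute {w k : orth (sq F ι)} (h2 : (2 : F) ≠ 0) {δ : ι → F} (hδ : ∀ i, δ i * δ i = 1)
    (hw : ∀ i, w.1 (ax i) = δ i • ax i) (hk : k * w = w * k) {x l : ι} (hne : δ l ≠ δ x) :
    k.1 (ax x) l = 0 := by
  have h1 : w.1 (k.1 (ax x)) = δ x • k.1 (ax x) := by
    rw [← orth_mul_apply, ← hk, orth_mul_apply, hw, map_smul]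
  have h := coord h2 (hδ l) (hw l) (k.1 (ax x))
  rw [h1, Pi.smul_apply, smul_eq_mul] at h
  exact (mul_eq_zero.1 (show (δ l - δ x) * k.1 (ax x) l = 0 by linear_combination -h)).resolve_left (sub_ne_zero.2 hne)

theorem IsPair.on2 {e k : orth (sq F ι)} {a b : ι} (he : IsPair e a b) (h2 : (2 : F) ≠ 0) (hk : k * e = e * k)
    {x : ι} (hx : x = a ∨ x = b) : On2 (k.1 (ax x)) a b := fun l hla hlb =>
  zero_of_commute h2 (δ := fun i => if i = a ∨ i = b then (-1 : F) else 1) (sign_sq a b) he hk (by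
    simp only [if_pos hx, if_neg (not_or.2 ⟨hla, hlb⟩)]
    exact fun e => h2 (by linear_combination e))

variable [Fintype F] {M : Subgroup (orth (sq F ι))}

theorem IsPair.mem (hM : Over M) (h2 : (2 : F) ≠ 0) (hn : 5 ≤ Fintype.card ι) {e : orth (sq F ι)} {a b : ι}
    (hab : a ≠ b) (he : IsPair e a b) :
    e ∈ M ∧ Mono e ∧ (∀ v, e.1 v = rv (ax a) (rv (ax b) v)) ∧ e * e = 1 ∧ finrank F (eig e (-1)) = 2 := by
  obtain ⟨e', he', hm, hv, hax⟩ := exists_pair_neg hM h2 hn hab
  obtain rfl : e = e' := ext_ax fun i => by rw [he, hax]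
  obtain ⟨h1, -, -, -, h5⟩ := pair_facts h2 (x := ax a) (y := ax b) (by rw [dot_ax, ax_self]) (by rw [dot_ax, ax_self])
    (by rw [dot_ax, ax_ne hab]) hv
  exact ⟨he', hm, hv, h1, h5⟩

theorem exists_isPair (hM : Over M) (h2 : (2 : F) ≠ 0) (hn : 5 ≤ Fintype.card ι) {a b : ι} (hab : a ≠ b) :
    ∃ e ∈ M, IsPair e a b :=
  let ⟨e, he, _, _, hax⟩ := exists_pair_neg hM h2 hn hab
  ⟨e, he, hax⟩

/-- Two swapped pairs with signs, two fixed coordinates. -/
theorem exists_flip (hM : Over M) (h2 : (2 : F) ≠ 0) (hn : Fintype.card ι = 6) {i j k l m n : ι}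
    (S : Six i j k l m n) {ε η : F} (hε : ε * ε = 1) (hη : η * η = 1) :
    ∃ g ∈ M, Mono g ∧ g.1 (ax i) = ε • ax j ∧ g.1 (ax j) = ε • ax i ∧ g.1 (ax k) = ax k ∧
      g.1 (ax l) = ax l ∧ g.1 (ax m) = η • ax n ∧ g.1 (ax n) = η • ax m := by
  have hn5 : 5 ≤ Fintype.card ι := by omega
  obtain ⟨p, hp, hpm, -, hpax⟩ := exists_swaps hM h2 hn5 S.ab S.ef
  obtain ⟨u, hu, hum, hua⟩ : ∃ u ∈ M, Mono u ∧ ∀ x, u.1 (ax x) =
      ((if x = i ∨ x = j then ε else 1) * (if x = m ∨ x = n then η else 1)) • ax x := by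
    have one : ∀ {θ : F}, θ * θ = 1 → ∀ {x y : ι}, x ≠ y →
        ∃ u ∈ M, Mono u ∧ ∀ z, u.1 (ax z) = (if z = x ∨ z = y then θ else 1) • ax z := by
      intro θ hθ x y hxy
      rcases mul_self_eq_one_iff.1 hθ with rfl | rfl
      · exact ⟨1, M.one_mem, fun z => ⟨z, 1, (one_smul F _).symm⟩, fun z => by rw [ite_self, one_smul]; rfl⟩
      · obtain ⟨e, he, hem, -, hax⟩ := exists_pair_neg hM h2 hn5 hxy
        exact ⟨e, he, hem, hax⟩
    obtain ⟨u, hu, hum, hua⟩ := one hε S.ab
    obtain ⟨w, hw, hwm, hwa⟩ := one hη S.ef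
    exact ⟨u * w, M.mul_mem hu hw, mono_mul hum hwm, fun x => by
      rw [orth_mul_apply, hwa, map_smul, hua, smul_smul, mul_comm]⟩
  refine ⟨p * u, M.mul_mem hp hu, mono_mul hpm hum, ?_, ?_, ?_, ?_, ?_, ?_⟩ <;>
    rw [orth_mul_apply, hua, map_smul, hpax] <;>
    simp [S.ab, S.ab.symm, S.ac.symm, S.ad.symm, S.ae, S.ae.symm, S.af, S.af.symm, S.bc.symm, S.bd.symm, S.be,
      S.be.symm, S.bf, S.bf.symm, S.ce, S.cf, S.de, S.df, S.ef, S.ef.symm, Equiv.swap_apply_of_ne_of_ne]

/-- A conjugate of a pair with one moved pair: the fixed vectors vanish on a fixed coordinate. -/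
theorem type_one_atom (hM : Over M) (h2 : (2 : F) ≠ 0) (hn : Fintype.card ι = 6) {i j k l m n : ι}
    (S : Six i j k l m n) {s : orth (sq F ι)} {ε : F} (hε : ε * ε = 1) (si : s.1 (ax i) = ε • ax j)
    (sj : s.1 (ax j) = ε • ax i) (sk : s.1 (ax k) = -ax k) (sl : s.1 (ax l) = ax l) (sm : s.1 (ax m) = ax m)
    (sn : s.1 (ax n) = ax n) {v : ι → F} (hv : v ⬝ᵥ v = 1) (vk : v k = 0) (hline : ∀ z, ¬ On2 v z z)
    (hrule : ∀ p ∈ M, Mono p → p * s = s * p → p.1 v = v ∨ p.1 v = -v ∨ v ⬝ᵥ p.1 v = 0) :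
    v l = 0 ∨ 2 * (v l * v l) = 1 := by
  obtain ⟨p, hp, hpm, hpx, hpax⟩ := exists_neg_ax hM h2 (by omega) (A := {k, l}) (by rw [Finset.card_pair S.cd]; decide)
  have pi : p.1 (ax i) = ax i := by rw [hpax, if_neg (by simp [S.ac, S.ad]), one_smul]
  have pj : p.1 (ax j) = ax j := by rw [hpax, if_neg (by simp [S.bc, S.bd]), one_smul]
  have pk : p.1 (ax k) = -ax k := by rw [hpax, if_pos (by simp), neg_one_smul]
  have pl : p.1 (ax l) = -ax l := by rw [hpax, if_pos (by simp), neg_one_smul]
  have pm : p.1 (ax m) = ax m := by rw [hpax, if_neg (by simp [S.ce.symm, S.de.symm]), one_smul]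
  have pn : p.1 (ax n) = ax n := by rw [hpax, if_neg (by simp [S.cf.symm, S.df.symm]), one_smul]
  have hcom : p * s = s * p := ext_ax fun x => by
    rcases S.cov x with rfl | rfl | rfl | rfl | rfl | rfl <;>
      simp [orth_mul_apply, si, sj, sk, sl, sm, sn, pi, pj, pk, pl, pm, pn]
  rcases hrule p hp hpm hcom with h | h | h
  · have := congrFun h l
    rw [hpx, if_pos (by simp)] at this
    exact Or.inl ((mul_eq_zero.1 (show 2 * v l = 0 by linear_combination -this)).resolve_left h2)
  · refine absurd (fun x hxl _ => ?_) (hline l)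
    rcases eq_or_ne x k with rfl | hxk
    · exact vk
    have := congrFun h x
    rw [hpx, if_neg (by simp [hxk, hxl]), Pi.neg_apply] at this
    exact (mul_eq_zero.1 (show 2 * v x = 0 by linear_combination this)).resolve_left h2
  · refine Or.inr ?_
    rw [S.dot] at h hv
    simp only [hpx, Finset.mem_insert, Finset.mem_singleton] at h
    simp [S.ac, S.ad, S.bc, S.bd, S.ce.symm, S.de.symm, S.cf.symm, S.df.symm, vk] at h
    rw [vk] at hv
    linear_combination hv - h

/-- A conjugate of a pair with one moved pair: the fixed vectors vanish on the fixed coordinates. -/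
theorem type_one_zero (hM : Over M) (h2 : (2 : F) ≠ 0) (hn : Fintype.card ι = 6) {i j k l m n : ι}
    (S : Six i j k l m n) {s : orth (sq F ι)} {ε : F} (hε : ε * ε = 1) (si : s.1 (ax i) = ε • ax j)
    (sj : s.1 (ax j) = ε • ax i) (sk : s.1 (ax k) = -ax k) (sl : s.1 (ax l) = ax l) (sm : s.1 (ax m) = ax m)
    (sn : s.1 (ax n) = ax n) {v : ι → F} (hv : v ⬝ᵥ v = 1) (vj : v j = ε * v i) (vk : v k = 0)
    (hline : ∀ z, ¬ On2 v z z)
    (hrule : ∀ p ∈ M, Mono p → p * s = s * p → p.1 v = v ∨ p.1 v = -v ∨ v ⬝ᵥ p.1 v = 0) : v l = 0 := by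
  by_contra hl
  have el := (type_one_atom hM h2 hn S hε si sj sk sl sm sn hv vk hline hrule).resolve_left hl
  have Sm := six_mk hn (a := i) (b := j) (c := k) (d := m) (e := l) (f := n) (by
    simp [S.ab, S.ac, S.ad, S.ae, S.af, S.bc, S.bd, S.be, S.bf, S.cd, S.ce, S.cf, S.de.symm, S.df, S.ef])
  have Sn := six_mk hn (a := i) (b := j) (c := k) (d := n) (e := l) (f := m) (by
    simp [S.ab, S.ac, S.ad, S.ae, S.af, S.bc, S.bd, S.be, S.bf, S.cd, S.ce, S.cf, S.de, S.df.symm, S.ef.symm])
  have em := type_one_atom hM h2 hn Sm hε si sj sk sm sl sn hv vk hline hrule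
  have en := type_one_atom hM h2 hn Sn hε si sj sk sn sl sm hv vk hline hrule
  -- the moved pair
  obtain ⟨p, hp, hpm, hpx, hpax⟩ := exists_neg_ax hM h2 (by omega) (A := {i, j}) (by rw [Finset.card_pair S.ab]; decide)
  have pi : p.1 (ax i) = -ax i := by rw [hpax, if_pos (by simp), neg_one_smul]
  have pj : p.1 (ax j) = -ax j := by rw [hpax, if_pos (by simp), neg_one_smul]
  have po : ∀ x, x ≠ i → x ≠ j → p.1 (ax x) = ax x := fun x h1 h1' => by rw [hpax, if_neg (by simp [h1, h1']), one_smul]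
  have pk := po k S.ac.symm S.bc.symm
  have pl := po l S.ad.symm S.bd.symm
  have pm := po m S.ae.symm S.be.symm
  have pn := po n S.af.symm S.bf.symm
  have hcom : p * s = s * p := ext_ax fun x => by
    rcases S.cov x with rfl | rfl | rfl | rfl | rfl | rfl <;>
      simp [orth_mul_apply, si, sj, sk, sl, sm, sn, pi, pj, pk, pl, pm, pn]
  rw [S.dot, vj, vk] at hv
  have hv' : 4 * (v i * v i) + 2 * (v m * v m) + 2 * (v n * v n) = 1 := by
    linear_combination 2 * hv - 2 * (v i * v i) * hε - el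
  have ei : v i = 0 ∨ 4 * (v i * v i) = 1 := by
    rcases hrule p hp hpm hcom with h | h | h
    · have := congrFun h i
      rw [hpx, if_pos (by simp)] at this
      exact Or.inl ((mul_eq_zero.1 (show 2 * v i = 0 by linear_combination -this)).resolve_left h2)
    · have := congrFun h l
      rw [hpx, if_neg (by simp [S.ad.symm, S.bd.symm]), Pi.neg_apply] at this
      exact absurd ((mul_eq_zero.1 (show 2 * v l = 0 by linear_combination this)).resolve_left h2) hl
    · refine Or.inr ?_
      rw [S.dot] at h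
      simp only [hpx, Finset.mem_insert, Finset.mem_singleton] at h
      simp [S.ab.symm, S.ac.symm, S.ad.symm, S.ae.symm, S.af.symm, S.bc.symm, S.bd.symm, S.be.symm, S.bf.symm, vj,
        vk] at h
      linear_combination hv - h - 2 * (v i * v i) * hε
  -- the three-cycle
  obtain ⟨q, hq, hqm, hqx, hqax⟩ := exists_swaps hM h2 (by omega : 5 ≤ Fintype.card ι) S.de S.ef
  have qi : q.1 (ax i) = ax i := by
    rw [hqax]; simp [Equiv.swap_apply_of_ne_of_ne S.ae S.af, Equiv.swap_apply_of_ne_of_ne S.ad S.ae]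
  have qj : q.1 (ax j) = ax j := by
    rw [hqax]; simp [Equiv.swap_apply_of_ne_of_ne S.be S.bf, Equiv.swap_apply_of_ne_of_ne S.bd S.be]
  have qk : q.1 (ax k) = ax k := by
    rw [hqax]; simp [Equiv.swap_apply_of_ne_of_ne S.ce S.cf, Equiv.swap_apply_of_ne_of_ne S.cd S.ce]
  have ql : q.1 (ax l) = ax m := by
    rw [hqax]; simp [Equiv.swap_apply_of_ne_of_ne S.de S.df]
  have qm : q.1 (ax m) = ax n := by
    rw [hqax]; simp [Equiv.swap_apply_of_ne_of_ne S.df.symm S.ef.symm]
  have qn : q.1 (ax n) = ax l := by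
    rw [hqax]; simp
  have hcom' : q * s = s * q := ext_ax fun x => by
    rcases S.cov x with rfl | rfl | rfl | rfl | rfl | rfl <;>
      simp [orth_mul_apply, si, sj, sk, sl, sm, sn, qi, qj, qk, ql, qm, qn]
  have one : ∀ {x y : ι}, q.1 (ax x) = ax y → q.1 v y = v x := fun {x y} h => by
    rw [coord h2 (mul_one 1) (h.trans (one_smul F (ax y)).symm), one_mul]
  have h2' : (2 : F) * 1 ≠ 0 := by rwa [mul_one]
  rcases hrule q hq hqm hcom' with h | h | h
  · rw [h] at one
    have e1 := one ql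
    have e3 := one qn
    rcases ei with zi | zi
    · exact one_ne_zero (show (1 : F) = 0 by
        rw [zi, e1, ← e3] at hv'; linear_combination hv' - 2 * el)
    · exact h2 (show (2 : F) = 0 by
        rw [e1, ← e3] at hv'; linear_combination hv' - 2 * el - zi)
  · rw [h] at one
    have e1 := one ql
    have e4 := one qm
    have e3 := one qn
    simp only [Pi.neg_apply] at e1 e3 e4
    exact hl ((mul_eq_zero.1 (show 2 * v l = 0 by linear_combination e4 - e1 - e3)).resolve_left h2)
  · rw [S.dot, one qi, one qj, one qk, one ql, one qm, one qn, vj, vk] at h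
    have h' : 2 * (v i * v i) + v l * v n + v m * v l + v n * v m = 0 := by
      linear_combination h - v i * v i * hε
    rcases ei with zi | zi <;> rcases em with zm | zm <;> rcases en with zn | zn
    · rw [zi, zm, zn] at hv'; simp at hv'
    · rw [zi, zm] at h'
      simp at h'
      rcases h' with h' | h'
      · exact hl h'
      · rw [h'] at zn; simp at zn
    · rw [zi, zn] at h'
      simp at h'
      rcases h' with h' | h'
      · rw [h'] at zm; simp at zm
      · exact hl h'
    · rw [zi] at hv'; exact one_ne_zero (show (1 : F) = 0 by linear_combination hv' - zm - zn)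
    · rw [zm, zn] at h'; exact one_ne_zero (show (1 : F) = 0 by linear_combination 2 * h' - zi)
    · rw [zm] at hv'; exact one_ne_zero (show (1 : F) = 0 by linear_combination hv' - zi - zn)
    · rw [zn] at hv'; exact one_ne_zero (show (1 : F) = 0 by linear_combination hv' - zm - zi)
    · exact h2 (show (2 : F) = 0 by linear_combination hv' - zm - zn - zi)

/-- Zero or one, four times with sum two, neither half empty. -/
theorem atoms {A B C D : F} (h2 : (2 : F) ≠ 0) (hA : A = 0 ∨ A = 1) (hB : B = 0 ∨ B = 1) (hC : C = 0 ∨ C = 1)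
    (hD : D = 0 ∨ D = 1) (hs : A + B + C + D = 2) (hab : ¬(A = 0 ∧ B = 0)) (hcd : ¬(C = 0 ∧ D = 0)) :
    A * B = 0 ∧ C + D = 1 := by
  have h1 : (1 : F) ≠ 0 := one_ne_zero
  rcases hA with rfl | rfl <;> rcases hB with rfl | rfl <;> rcases hC with rfl | rfl <;> rcases hD with rfl | rfl <;>
    first
      | exact absurd ⟨rfl, rfl⟩ hab
      | exact absurd ⟨rfl, rfl⟩ hcd
      | exact ⟨mul_zero _, add_zero _⟩
      | exact ⟨mul_zero _, zero_add _⟩
      | exact ⟨zero_mul _, add_zero _⟩
      | exact ⟨zero_mul _, zero_add _⟩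
      | (refine absurd ?_ h1; linear_combination hs)
      | (refine absurd ?_ h2; linear_combination hs)

/-- A conjugate of a pair with two moved pairs: the fixed vectors lie on the two sides. -/
theorem type_two (hM : Over M) (h2 : (2 : F) ≠ 0) (hn : Fintype.card ι = 6) {i j k l m n : ι}
    (S : Six i j k l m n) {s : orth (sq F ι)} {ε δ : F} (hε : ε * ε = 1) (hδ : δ * δ = 1)
    (si : s.1 (ax i) = ε • ax j) (sj : s.1 (ax j) = ε • ax i) (sk : s.1 (ax k) = δ • ax l)
    (sl : s.1 (ax l) = δ • ax k) (sm : s.1 (ax m) = ax m) (sn : s.1 (ax n) = ax n) {v : ι → F}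
    (hv : v ⬝ᵥ v = 1) (vj : v j = ε * v i) (vl : v l = δ * v k) (hline : ∀ z, ¬ On2 v z z)
    (hrule : ∀ p ∈ M, Mono p → p * s = s * p → p.1 v = v ∨ p.1 v = -v ∨ v ⬝ᵥ p.1 v = 0) :
    On2 v m n ∨ (v m = 0 ∧ v n = 0) := by
  by_contra hall
  rw [not_or] at hall
  obtain ⟨hU, hP⟩ := hall
  have hU' : ¬ (v i = 0 ∧ v k = 0) := fun ⟨h1, h1'⟩ => hU fun x hxm hxn => by
    rcases S.cov x with rfl | rfl | rfl | rfl | rfl | rfl
    · exact h1
    · rw [vj, h1, mul_zero]
    · exact h1'
    · rw [vl, h1', mul_zero]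
    · exact absurd rfl hxm
    · exact absurd rfl hxn
  rw [S.dot] at hv
  rw [vj, vl] at hv
  have hnorm : 2 * (v i * v i) + 2 * (v k * v k) + v m * v m + v n * v n = 1 := by
    linear_combination hv - v i * v i * hε - v k * v k * hδ
  have zero : ∀ {x : F}, x = -x → x = 0 := fun {x} h =>
    (mul_eq_zero.1 (show 2 * x = 0 by linear_combination h)).resolve_left h2
  -- sign changes on the moved pairs
  have atomU : ∀ {i' j' k' l' : ι} {ε' δ' : F}, Six i' j' k' l' m n → ε' * ε' = 1 → δ' * δ' = 1 →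
      s.1 (ax i') = ε' • ax j' → s.1 (ax j') = ε' • ax i' → s.1 (ax k') = δ' • ax l' → s.1 (ax l') = δ' • ax k' →
      v j' = ε' * v i' → v l' = δ' * v k' → 2 * (v i' * v i') + 2 * (v k' * v k') + v m * v m + v n * v n = 1 →
      4 * (v i' * v i') = 0 ∨ 4 * (v i' * v i') = 1 := by
    intro i' j' k' l' ε' δ' T hε' hδ' ti tj tk tl wj wl hw
    obtain ⟨p, hp, hpm, hpx, hpax⟩ := exists_neg_ax hM h2 (by omega) (A := {i', j'}) (by rw [Finset.card_pair T.ab]; decide)
    have pi : p.1 (ax i') = -ax i' := by rw [hpax, if_pos (by simp), neg_one_smul]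
    have pj : p.1 (ax j') = -ax j' := by rw [hpax, if_pos (by simp), neg_one_smul]
    have po : ∀ x, x ≠ i' → x ≠ j' → p.1 (ax x) = ax x := fun x h1 h1' => by
      rw [hpax, if_neg (by simp [h1, h1']), one_smul]
    have pk := po k' T.ac.symm T.bc.symm
    have pl := po l' T.ad.symm T.bd.symm
    have pm := po m T.ae.symm T.be.symm
    have pn := po n T.af.symm T.bf.symm
    have hcom : p * s = s * p := ext_ax fun x => by
      rcases T.cov x with rfl | rfl | rfl | rfl | rfl | rfl <;>
        simp [orth_mul_apply, ti, tj, tk, tl, sm, sn, pi, pj, pk, pl, pm, pn]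
    rcases hrule p hp hpm hcom with h | h | h
    · have := congrFun h i'
      rw [hpx, if_pos (by simp)] at this
      exact Or.inl (by rw [zero this.symm]; ring)
    · have hm := congrFun h m
      have hn' := congrFun h n
      rw [hpx, if_neg (by simp [T.ae.symm, T.be.symm]), Pi.neg_apply] at hm
      rw [hpx, if_neg (by simp [T.af.symm, T.bf.symm]), Pi.neg_apply] at hn'
      exact absurd ⟨zero hm, zero hn'⟩ hP
    · refine Or.inr ?_
      rw [T.dot] at h
      simp only [hpx, Finset.mem_insert, Finset.mem_singleton] at h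
      simp [T.ab.symm, T.ac.symm, T.ad.symm, T.ae.symm, T.af.symm, T.bc.symm, T.bd.symm, T.be.symm, T.bf.symm, wj,
        wl] at h
      linear_combination hw - h - v i' * v i' * hε' + v k' * v k' * hδ'
  have hA := atomU S hε hδ si sj sk sl vj vl hnorm
  have hB := atomU (six_mk hn (a := k) (b := l) (c := i) (d := j) (e := m) (f := n) (by
    simp [S.ab, S.ac.symm, S.ad.symm, S.bc.symm, S.bd.symm, S.cd, S.ce, S.cf, S.de, S.df, S.ae, S.af, S.be, S.bf,
      S.ef])) hδ hε sk sl si sj vl vj (by linear_combination hnorm)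
  -- sign changes on the two axes of the fixed plane
  have atomP : ∀ η : F, η * η = 1 →
      (v m - η * v n) * (v m - η * v n) = 0 ∨ (v m - η * v n) * (v m - η * v n) = 1 := by
    intro η hη
    obtain ⟨p, hp, hpm, pi, pj, pk, pl, pm, pn⟩ := exists_flip hM h2 hn S hε hη
    have hcom : p * s = s * p := ext_ax fun x => by
      rcases S.cov x with rfl | rfl | rfl | rfl | rfl | rfl <;>
        simp [orth_mul_apply, si, sj, sk, sl, sm, sn, pi, pj, pk, pl, pm, pn, smul_smul, hε]
    have ci : p.1 v i = v i := by rw [coord h2 hε pj, vj, ← mul_assoc, hε, one_mul]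
    have ck : p.1 v k = v k := by rw [coord h2 (mul_one 1) (pk.trans (one_smul F (ax k)).symm), one_mul]
    have cj : p.1 v j = v j := by rw [coord h2 hε pi, vj]
    have cl : p.1 v l = v l := by rw [coord h2 (mul_one 1) (pl.trans (one_smul F (ax l)).symm), one_mul]
    have cn : p.1 v n = η * v m := coord h2 hη pm v
    have cm : p.1 v m = η * v n := coord h2 hη pn v
    rcases hrule p hp hpm hcom with h | h | h
    · rw [h] at cm
      exact Or.inl (by rw [cm]; ring)
    · rw [h, Pi.neg_apply] at ci ck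
      exact absurd ⟨zero ci.symm, zero ck.symm⟩ hU'
    · refine Or.inr ?_
      rw [S.dot, ci, cj, ck, cl, cm, cn, vj, vl] at h
      linear_combination hv - h + (v n * v n) * hη
  have hC := atomP 1 (mul_one 1)
  have hD := atomP (-1) (by ring)
  obtain ⟨hAB, hCD⟩ := atoms h2 hA hB hC hD (by linear_combination 2 * hnorm) (fun ⟨h1, h1'⟩ => hU'
    ⟨mul_self_eq_zero.1 ((mul_eq_zero.1 h1).resolve_left (by
      rw [show (4 : F) = 2 * 2 by norm_num]; exact mul_ne_zero h2 h2)),
     mul_self_eq_zero.1 ((mul_eq_zero.1 h1').resolve_left (by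
      rw [show (4 : F) = 2 * 2 by norm_num]; exact mul_ne_zero h2 h2))⟩) (fun ⟨h1, h1'⟩ => hP (by
    have e1 := mul_self_eq_zero.1 h1
    have e3 := mul_self_eq_zero.1 h1'
    exact ⟨(mul_eq_zero.1 (show 2 * v m = 0 by linear_combination e1 + e3)).resolve_left h2,
      (mul_eq_zero.1 (show 2 * v n = 0 by linear_combination e3 - e1)).resolve_left h2⟩))
  have hP1 : 2 * (v m * v m + v n * v n) = 1 := by linear_combination hCD
  have hik : v i * v k = 0 := mul_self_eq_zero.1 ((mul_eq_zero.1 (show (2 * 2) * (2 * 2) * ((v i * v k) * (v i * v k)) = 0 by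
    linear_combination hAB)).resolve_left (mul_ne_zero (mul_ne_zero h2 h2) (mul_ne_zero h2 h2)))
  -- exchange of the moved pairs
  have hT := six_mk hn (a := i) (b := k) (c := m) (d := n) (e := j) (f := l) (by
    simp [S.ac, S.ae, S.af, S.ab, S.ad, S.ce, S.cf, S.bc.symm, S.cd, S.ef, S.be.symm, S.de.symm, S.bf.symm, S.df.symm,
      S.bd])
  obtain ⟨p, hp, hpm, pi, pk, pm, pn, pj, pl⟩ := exists_flip hM h2 hn hT (mul_one (1 : F)) (η := ε * δ)
    (by linear_combination δ * δ * hε + hδ)
  have hcom : p * s = s * p := ext_ax fun x => by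
    rcases S.cov x with rfl | rfl | rfl | rfl | rfl | rfl <;>
      simp [orth_mul_apply, si, sj, sk, sl, sm, sn, pi, pj, pk, pl, pm, pn, smul_smul] <;>
      congr 1 <;> (try linear_combination δ * hε) <;> (try linear_combination ε * hδ) <;>
      (try linear_combination -(δ * hε)) <;> (try linear_combination -(ε * hδ))
  have ck : p.1 v k = v i := by rw [coord h2 (mul_one 1) pi, one_mul]
  have ci : p.1 v i = v k := by rw [coord h2 (mul_one 1) pk, one_mul]
  have hεδ : (ε * δ) * (ε * δ) = 1 := by linear_combination δ * δ * hε + hδ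
  have cl : p.1 v l = ε * δ * v j := coord h2 hεδ pj v
  have cj : p.1 v j = ε * δ * v l := coord h2 hεδ pl v
  have cm : p.1 v m = v m := by rw [coord h2 (mul_one 1) (pm.trans (one_smul F (ax m)).symm), one_mul]
  have cn : p.1 v n = v n := by rw [coord h2 (mul_one 1) (pn.trans (one_smul F (ax n)).symm), one_mul]
  rcases hrule p hp hpm hcom with h | h | h
  · rw [h] at ci
    rw [ci] at hik
    exact hU' ⟨ci.trans (mul_self_eq_zero.1 hik), mul_self_eq_zero.1 hik⟩
  · rw [h, Pi.neg_apply] at cm cn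
    exact hP ⟨zero cm.symm, zero cn.symm⟩
  · rw [S.dot, ci, cj, ck, cl, cm, cn, vj, vl] at h
    have e4 : 4 * (v i * v k) + (v m * v m + v n * v n) = 0 := by
      linear_combination h - 2 * (v i * v k) * (δ * δ * hε + hδ)
    rw [hik] at e4
    exact one_ne_zero (show (1 : F) = 0 by linear_combination 2 * e4 - hP1)

end Cfsg.Agent.Frame10Six75
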