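import Mathlib
import Cfsg.Agent.Lib.QuadraticDickson

/-!
Reflection symmetries of the ternary form `X^2 + Y^2 + c Z^2` over a prime field: three reflections in general
position relate all vectors of equal non-zero value.  Vectors become trace-zero matrices of size two, reflections
become conjugations, and the list of subgroups of `PGL(2,p)` gives all of `SL(2,p)`.
-/

set_option autoImplicit false
set_option linter.unusedSectionVars false
set_option linter.style.haveILetI false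
set_option maxRecDepth 100000
set_option maxHeartbeats 1000000

open scoped MatrixGroups
open Matrix

namespace Cfsg.Agent.Frame10Tern

variable {F : Type*} [Field F]

/-- The value of the ternary form. -/
def nrm (c : F) (v : Fin 3 → F) : F := v 0 * v 0 + v 1 * v 1 + c * (v 2 * v 2)

/-- The inner product of the ternary form. -/
def dt (c : F) (v w : Fin 3 → F) : F := v 0 * w 0 + v 1 * w 1 + c * (v 2 * w 2)

/-- The reflection in `w`. -/
def rf (c : F) (w v : Fin 3 → F) : Fin 3 → F := v - (2 * dt c w v / nrm c w) • w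

/-- The trace-zero matrix of a vector. -/
def Φ (c p q : F) (v : Fin 3 → F) : Matrix (Fin 2) (Fin 2) F :=
  !![-q * v 0 + p * v 1, p * v 0 + q * v 1 - c * v 2; p * v 0 + q * v 1 + c * v 2, -(-q * v 0 + p * v 1)]

/-- The symmetries of a property among the reflections. -/
def Sym (c : F) (P : (Fin 3 → F) → Prop) (w : Fin 3 → F) : Prop :=
  nrm c w ≠ 0 ∧ ∀ v, P v → P (rf c w v)

variable {c p q : F}

theorem det_Φ (hpq : p * p + q * q = -c) (v : Fin 3 → F) : (Φ c p q v).det = c * nrm c v := by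
  simp only [Φ, det_fin_two_of, nrm]
  linear_combination (-(v 0 * v 0 + v 1 * v 1)) * hpq

theorem trace_Φ (v : Fin 3 → F) : (Φ c p q v).trace = 0 := by
  simp [Φ, trace_fin_two_of]

theorem Φ_mul (hpq : p * p + q * q = -c) (w v : Fin 3 → F) (hw : nrm c w ≠ 0) :
    Φ c p q w * Φ c p q v = Φ c p q (-(rf c w v)) * Φ c p q w := by
  have hk : 2 * dt c w v / nrm c w * nrm c w = 2 * dt c w v := div_mul_cancel₀ _ hw
  simp only [Φ, rf, Pi.neg_apply, Pi.sub_apply, Pi.smul_apply, smul_eq_mul]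
  simp only [dt, nrm] at hk ⊢
  set k := 2 * (w 0 * v 0 + w 1 * v 1 + c * (w 2 * v 2)) / (w 0 * w 0 + w 1 * w 1 + c * (w 2 * w 2)) with hkd
  clear_value k
  ext i j
  fin_cases i <;> fin_cases j <;> simp [Matrix.mul_apply, Fin.sum_univ_two]
  · linear_combination c * hk + (2 * (w 0 * v 0 + w 1 * v 1) - k * (w 0 * w 0 + w 1 * w 1)) * hpq
  · ring
  · ring
  · linear_combination c * hk + (2 * (w 0 * v 0 + w 1 * v 1) - k * (w 0 * w 0 + w 1 * w 1)) * hpq

theorem Φ_injective (hc : c ≠ 0) (hpq : p * p + q * q = -c) (h2 : (2 : F) ≠ 0) :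
    Function.Injective (Φ c p q) := by
  intro v w h
  have h00 := congrFun (congrFun h 0) 0
  have h01 := congrFun (congrFun h 0) 1
  have h10 := congrFun (congrFun h 1) 0
  simp [Φ] at h00 h01 h10
  have e2 : v 2 = w 2 := mul_left_cancel₀ (mul_ne_zero h2 hc) (by linear_combination h10 - h01)
  have e0 : v 0 = w 0 := mul_left_cancel₀ (neg_ne_zero.2 hc) (by
    linear_combination p * h01 - q * h00 + (-(v 0) + w 0) * hpq + p * c * e2)
  have e1 : v 1 = w 1 := mul_left_cancel₀ (neg_ne_zero.2 hc) (by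
    linear_combination q * h01 + p * h00 + (-(v 1) + w 1) * hpq + q * c * e2)
  funext i
  fin_cases i
  exacts [e0, e1, e2]

/-- A non-degenerate binary diagonal form takes every value. -/
theorem exists_rep [Fintype F] (h2 : (2 : F) ≠ 0) {d : F} (hd : d ≠ 0) (t : F) :
    ∃ x y : F, x * x + d * (y * y) = t := by
  obtain ⟨x, y, hxy⟩ := FiniteField.exists_root_sum_quadratic (f := (Polynomial.X ^ 2 : Polynomial F))
    (g := Polynomial.C d * Polynomial.X ^ 2 + Polynomial.C (-t)) (by simp)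
    (by
      rw [Polynomial.degree_add_eq_left_of_degree_lt, Polynomial.degree_C_mul_X_pow 2 hd]
      · rfl
      · rw [Polynomial.degree_C_mul_X_pow 2 hd]
        exact lt_of_le_of_lt Polynomial.degree_C_le (by norm_num))
    (FiniteField.odd_card_of_char_ne_two (fun h => h2 (by
      haveI : CharP F 2 := h ▸ ringChar.charP F
      exact CharTwo.two_eq_zero)))
  refine ⟨x, y, ?_⟩
  simp at hxy
  linear_combination hxy

/-- The square sum representing a given non-zero value. -/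
theorem exists_pq [Fintype F] (h2 : (2 : F) ≠ 0) (c : F) : ∃ p q : F, p * p + q * q = -c := by
  obtain ⟨p, q, h⟩ := exists_rep h2 one_ne_zero (-c)
  exact ⟨p, q, by rw [one_mul] at h; exact h⟩

section conj

/-- Trace-zero matrices of equal non-zero determinant are conjugate in `SL(2)`. -/
theorem exists_conj [Fintype F] (h2 : (2 : F) ≠ 0) {A B : Matrix (Fin 2) (Fin 2) F} (hA : A.trace = 0)
    (hB : B.trace = 0) (hd : A.det = B.det) (h0 : A.det ≠ 0) :
    ∃ s : SL(2, F), s.1 * A = B * s.1 := by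
  have frame : ∀ X : Matrix (Fin 2) (Fin 2) F, X.trace = 0 → X.det ≠ 0 →
      ∃ P : GL (Fin 2) F, X * P.1 = P.1 * !![0, -X.det; 1, 0] := by
    intro X hX hX0
    rw [trace_fin_two] at hX
    have hX1 : X 1 1 = -(X 0 0) := by linear_combination hX
    obtain ⟨a, b, hab⟩ : ∃ a b : F, a * (X 1 0 * a + X 1 1 * b) - b * (X 0 0 * a + X 0 1 * b) ≠ 0 := by
      by_contra h
      push Not at h
      have h1 := h 1 0
      have h2' := h 0 1
      have h3 := h 1 1
      simp at h1 h2'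
      refine hX0 ?_
      have h00 : X 0 0 = 0 := (mul_eq_zero.1 (show (2 : F) * X 0 0 = 0 by
        linear_combination h1 + hX1 - h2' - h3)).resolve_left h2
      rw [det_fin_two, h00, h1, hX1, h00]
      ring
    refine ⟨GeneralLinearGroup.mkOfDetNeZero !![a, X 0 0 * a + X 0 1 * b; b, X 1 0 * a + X 1 1 * b]
      (by rw [det_fin_two_of]; intro e; exact hab (by linear_combination e)), ?_⟩
    ext i j
    fin_cases i <;> fin_cases j <;> simp [Matrix.mul_apply, Fin.sum_univ_two, det_fin_two, hX1] <;> ring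
  obtain ⟨P, hP⟩ := frame A hA h0
  obtain ⟨R, hR⟩ := frame B hB (hd ▸ h0)
  rw [← hd] at hR
  have hM : (R * P⁻¹ : GL (Fin 2) F).1 * A = B * (R * P⁻¹ : GL (Fin 2) F).1 := by
    rw [Units.val_mul, ← mul_assoc B, hR, mul_assoc R.1 _ P⁻¹.1]
    have : P⁻¹.1 * A = !![0, -A.det; 1, 0] * P⁻¹.1 := by
      rw [← mul_one (P⁻¹.1 * A), ← P.mul_inv, ← mul_assoc, mul_assoc P⁻¹.1 A, hP, ← mul_assoc P⁻¹.1,
        P.inv_mul, one_mul]
    rw [mul_assoc, this]
  set M := (R * P⁻¹ : GL (Fin 2) F)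
  -- correct the determinant inside the centraliser
  have hMdet : M.1.det ≠ 0 := M.det_ne_zero
  obtain ⟨x, y, hxy⟩ := exists_rep h2 h0 M.1.det⁻¹
  rw [trace_fin_two] at hA
  have hA1 : A 1 1 = -(A 0 0) := by linear_combination hA
  have hS : (M.1 * !![x + y * A 0 0, y * A 0 1; y * A 1 0, x + y * A 1 1]).det = 1 := by
    rw [det_mul, show Matrix.det !![x + y * A 0 0, y * A 0 1; y * A 1 0, x + y * A 1 1] = M.1.det⁻¹ by
      rw [det_fin_two_of, ← hxy, det_fin_two, hA1]; ring, mul_inv_cancel₀ hMdet]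
  refine ⟨⟨_, hS⟩, ?_⟩
  show M.1 * _ * A = B * (M.1 * _)
  rw [← mul_assoc B, ← hM, mul_assoc, mul_assoc]
  congr 1
  ext i j
  fin_cases i <;> fin_cases j <;> simp [Matrix.mul_apply, Fin.sum_univ_two] <;> ring

end conj

section sweep

open Matrix.ProjGenLinGroup (mk mk_eq_mk_iff)
open Cfsg.Agent.QuadraticDickson (up lo coe_up coe_lo up_pow lo_pow)

variable [Fintype F]

/-- The matrices of the symmetries, together with the scalars. -/
noncomputable def grp (c p q : F) (P : (Fin 3 → F) → Prop) : Subgroup (GL (Fin 2) F) :=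
  Subgroup.closure {g | (∃ w, Sym c P w ∧ g.1 = Φ c p q w) ∨ ∃ u : Fˣ, g = GeneralLinearGroup.scalar (Fin 2) u}

variable {P : (Fin 3 → F) → Prop}

/-- Conjugation by the matrices of the symmetries respects the property. -/
theorem carry (hc : c ≠ 0) (hpq : p * p + q * q = -c) (h2 : (2 : F) ≠ 0) (hneg : ∀ v, P v → P (-v))
    {g : GL (Fin 2) F} (hg : g ∈ grp c p q P) :
    ∀ v, P v → ∃ v', P v' ∧ g.1 * Φ c p q v = Φ c p q v' * g.1 := by
  classical
  induction hg using Subgroup.closure_induction with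
  | mem g hg =>
    intro v hv
    rcases hg with ⟨w, hw, hgw⟩ | ⟨u, rfl⟩
    · exact ⟨-(rf c w v), hneg _ (hw.2 v hv), by rw [hgw]; exact Φ_mul hpq w v hw.1⟩
    · exact ⟨v, hv, (scalar_commute (n := Fin 2) (u : F) (Commute.all (u : F)) _).eq⟩
  | one => exact fun v hv => ⟨v, hv, by simp⟩
  | mul a b _ _ ha hb =>
    intro v hv
    obtain ⟨v', hv', e⟩ := hb v hv
    obtain ⟨v'', hv'', e'⟩ := ha v' hv'
    exact ⟨v'', hv'', by rw [Units.val_mul, mul_assoc, e, ← mul_assoc, e', mul_assoc]⟩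
  | inv a _ ha =>
    intro v hv
    choose f hf hfe using ha
    let F' : {x // P x} → {x // P x} := fun x => ⟨f x.1 x.2, hf x.1 x.2⟩
    have hinj : Function.Injective F' := fun x y h => Subtype.ext (Φ_injective hc hpq h2 (by
      have e : f x.1 x.2 = f y.1 y.2 := congrArg Subtype.val h
      have := hfe x.1 x.2
      rw [e, ← hfe y.1 y.2] at this
      exact (Units.mul_right_inj a).1 this))
    obtain ⟨⟨v', hv'⟩, e⟩ := Finite.surjective_of_injective hinj ⟨v, hv⟩
    have e' : f v' hv' = v := congrArg Subtype.val e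
    refine ⟨v', hv', ?_⟩
    have h1 := hfe v' hv'
    rw [e'] at h1
    rw [← mul_one ((a⁻¹).1 * Φ c p q v), ← a.mul_inv, ← mul_assoc, mul_assoc (a⁻¹).1, ← h1, ← mul_assoc,
      a.inv_mul, one_mul]

/-- A subgroup of `GL(2)` with all multiples of two unipotents with different fixed lines contains `SL(2)`. -/
theorem sl_le {L : Subgroup (GL (Fin 2) F)} (hprime : (Fintype.card F).Prime)
    {N M : Matrix (Fin 2) (Fin 2) F} (hN : N * N = 0) (hM : M * M = 0) (hN0 : N ≠ 0) (hM0 : M ≠ 0)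
    {gN gM : GL (Fin 2) F} (hgN : gN ∈ L) (hgM : gM ∈ L) (eN : gN.1 = 1 + N) (eM : gM.1 = 1 + M)
    {e f : Fin 2 → F} (he : N *ᵥ e = 0) (hf : M *ᵥ f = 0) (hef : e 0 * f 1 - f 0 * e 1 ≠ 0) (s : SL(2, F)) :
    ∃ g ∈ L, g.1 = s.1 := by
  set T : GL (Fin 2) F := GeneralLinearGroup.mkOfDetNeZero !![e 0, f 0; e 1, f 1] (by rwa [det_fin_two_of])
  have hT : T.1 = !![e 0, f 0; e 1, f 1] := rfl
  have key : ∀ X : Matrix (Fin 2) (Fin 2) F, X * X = 0 →
      (X 0 0 = 0 → X 1 0 = 0 → X = !![0, X 0 1; 0, 0]) ∧ (X 0 1 = 0 → X 1 1 = 0 → X = !![0, 0; X 1 0, 0]) := by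
    intro X hX
    have h00 := congrFun (congrFun hX 0) 0
    have h11 := congrFun (congrFun hX 1) 1
    simp [Matrix.mul_apply, Fin.sum_univ_two] at h00 h11
    constructor
    · intro a b
      rw [b, zero_mul, zero_add] at h11
      ext i j
      fin_cases i <;> fin_cases j <;> simp [a, b, mul_self_eq_zero.1 h11]
    · intro a b
      rw [a, zero_mul, add_zero] at h00
      ext i j
      fin_cases i <;> fin_cases j <;> simp [a, b, mul_self_eq_zero.1 h00]
  set N' := T⁻¹.1 * N * T.1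
  set M' := T⁻¹.1 * M * T.1
  have sq : ∀ X : Matrix (Fin 2) (Fin 2) F, X * X = 0 → (T⁻¹.1 * X * T.1) * (T⁻¹.1 * X * T.1) = 0 :=
    fun X h => by
      rw [mul_assoc (T⁻¹.1 * X), ← mul_assoc T.1, ← mul_assoc T.1, T.mul_inv, one_mul, ← mul_assoc,
        mul_assoc T⁻¹.1 X, h, mul_zero, zero_mul]
  have back : ∀ X : Matrix (Fin 2) (Fin 2) F, T.1 * (T⁻¹.1 * X * T.1) * T⁻¹.1 = X := fun X => by
    rw [← mul_assoc, ← mul_assoc, T.mul_inv, one_mul, mul_assoc, T.mul_inv, mul_one]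
  have col : ∀ (X : Matrix (Fin 2) (Fin 2) F) (j : Fin 2), X *ᵥ (fun i => T.1 i j) = 0 →
      ∀ i, (T⁻¹.1 * X * T.1) i j = 0 := by
    intro X j h i
    rw [mul_assoc, Matrix.mul_apply]
    refine Finset.sum_eq_zero fun k _ => ?_
    rw [show (X * T.1) k j = 0 from congrFun h k, mul_zero]
  have hcolN := col N 0 (by convert he using 2; ext i; fin_cases i <;> simp [hT])
  have hcolM := col M 1 (by convert hf using 2; ext i; fin_cases i <;> simp [hT])
  have eN' : N' = !![0, N' 0 1; 0, 0] := (key N' (sq N hN)).1 (hcolN 0) (hcolN 1)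
  have eM' : M' = !![0, 0; M' 1 0, 0] := (key M' (sq M hM)).2 (hcolM 0) (hcolM 1)
  have ha : N' 0 1 ≠ 0 := fun h => hN0 (by
    rw [← back N, show T⁻¹.1 * N * T.1 = 0 by
      show N' = 0
      rw [eN', h]; ext i j; fin_cases i <;> fin_cases j <;> rfl]
    simp)
  have hb : M' 1 0 ≠ 0 := fun h => hM0 (by
    rw [← back M, show T⁻¹.1 * M * T.1 = 0 by
      show M' = 0
      rw [eM', h]; ext i j; fin_cases i <;> fin_cases j <;> rfl]
    simp)
  let L' : Subgroup SL(2, F) := L.comap ((MulAut.conj T).toMonoidHom.comp SpecialLinearGroup.toGL)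
  have memL' : ∀ x : SL(2, F), x ∈ L' ↔ T * SpecialLinearGroup.toGL x * T⁻¹ ∈ L := fun x => Iff.rfl
  have hup : up (N' 0 1) ∈ L' := by
    rw [memL']
    convert hgN using 1
    refine Units.ext ?_
    rw [Units.val_mul, Units.val_mul, eN, show (SpecialLinearGroup.toGL (up (N' 0 1))).1 = 1 + N' by
      rw [SpecialLinearGroup.coe_GL_coe_matrix, coe_up]
      conv_rhs => rw [eN']
      ext i j; fin_cases i <;> fin_cases j <;> simp,
      mul_add, add_mul, mul_one, T.mul_inv, back]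
  have hlo : lo (M' 1 0) ∈ L' := by
    rw [memL']
    convert hgM using 1
    refine Units.ext ?_
    rw [Units.val_mul, Units.val_mul, eM, show (SpecialLinearGroup.toGL (lo (M' 1 0))).1 = 1 + M' by
      rw [SpecialLinearGroup.coe_GL_coe_matrix, coe_lo]
      conv_rhs => rw [eM']
      ext i j; fin_cases i <;> fin_cases j <;> simp,
      mul_add, add_mul, mul_one, T.mul_inv, back]
  haveI := Fact.mk hprime
  haveI : CharP F (Fintype.card F) := charP_of_card_eq_prime rfl
  have hnat : ∀ t : F, ∃ k : ℕ, (k : F) = t := fun t => by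
    obtain ⟨z, hz⟩ := (ZMod.ringEquivOfPrime F hprime rfl).surjective t
    exact ⟨z.val, by rw [← hz, ← map_natCast (ZMod.ringEquivOfPrime F hprime rfl), ZMod.natCast_zmod_val]⟩
  have hall : ∀ t, up t ∈ L' ∧ lo t ∈ L' := fun t => by
    obtain ⟨i, hi⟩ := hnat (t / N' 0 1)
    obtain ⟨j, hj⟩ := hnat (t / M' 1 0)
    constructor
    · have := pow_mem hup i
      rwa [up_pow, hi, div_mul_cancel₀ _ ha] at this
    · have := pow_mem hlo j
      rwa [lo_pow, hj, div_mul_cancel₀ _ hb] at this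
  have htop : L' = ⊤ := QuadraticThree.sl2_top _ (fun t => ⟨up t, (hall t).1, rfl⟩)
    ⟨lo 1 * up (-1) * lo 1, mul_mem (mul_mem (hall 1).2 (hall (-1)).1) (hall 1).2, by
      ext i j
      fin_cases i <;> fin_cases j <;> simp [coe_up, coe_lo, Matrix.mul_apply, Fin.sum_univ_two]⟩
  let x : SL(2, F) := ⟨T⁻¹.1 * s.1 * T.1, by
    rw [det_mul, det_mul, s.2, mul_one, ← det_mul, T.inv_mul, det_one]⟩
  have hs : x ∈ L' := htop ▸ Subgroup.mem_top x
  refine ⟨_, (memL' x).1 hs, ?_⟩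
  rw [Units.val_mul, Units.val_mul]
  exact back s.1

/-- Cayley-Hamilton in size two. -/
theorem cayley (M : Matrix (Fin 2) (Fin 2) F) : M * M = M.trace • M - M.det • 1 := by
  ext i j
  fin_cases i <;> fin_cases j <;> simp [Matrix.mul_apply, Fin.sum_univ_two, det_fin_two, trace_fin_two] <;> ring

/-- The powers of a matrix of size two. -/
def co (T D : F) : ℕ → F × F
  | 0 => (0, 1)
  | k + 1 => (T * (co T D k).1 + (co T D k).2, -(D * (co T D k).1))

theorem pow_eq (M : Matrix (Fin 2) (Fin 2) F) (k : ℕ) :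
    M ^ k = (co M.trace M.det k).1 • M + (co M.trace M.det k).2 • 1 := by
  induction k with
  | zero => simp [co]
  | succ k ih =>
    rw [pow_succ, ih, add_mul, Matrix.smul_mul, Matrix.smul_mul, one_mul, cayley]
    simp only [co, smul_sub, smul_smul]
    rw [add_smul, mul_comm M.trace, mul_comm M.det, neg_smul]
    abel

/-- A non-scalar matrix of size two is never a scalar plus a vanishing multiple. -/
theorem mk_pow_ne {g : GL (Fin 2) F} (hns : ∀ r : F, g.1 ≠ r • (1 : Matrix (Fin 2) (Fin 2) F)) {k : ℕ}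
    (h : (co g.1.trace g.1.det k).1 ≠ 0) : mk g ^ k ≠ 1 := by
  intro e
  rw [← map_pow, ← map_one mk, eq_comm, mk_eq_mk_iff] at e
  obtain ⟨u, hu⟩ := e
  have hu' := congrArg Units.val hu
  rw [Units.val_mul, Units.val_one, one_mul, Units.val_pow_eq_pow_val, pow_eq] at hu'
  set a := (co g.1.trace g.1.det k).1
  set b := (co g.1.trace g.1.det k).2
  refine hns (a⁻¹ * ((u : F) - b)) ?_
  have e2 : a • g.1 = ((u : F) - b) • (1 : Matrix (Fin 2) (Fin 2) F) := by
    rw [sub_smul, eq_sub_iff_add_eq, ← hu', Matrix.smul_one_eq_diagonal]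
    rfl
  rw [mul_smul, ← e2, inv_smul_smul₀ h]

/-- Commuting images of matrices with a trace commute. -/
theorem commute_of_mk {g h : GL (Fin 2) F} (e : mk g * mk h = mk h * mk g) (ht : h.1.trace ≠ 0) :
    g.1 * h.1 = h.1 * g.1 := by
  rw [← map_mul, ← map_mul, mk_eq_mk_iff] at e
  obtain ⟨u, hu⟩ := e
  have hu' := congrArg Units.val hu
  rw [Units.val_mul, Units.val_mul, Units.val_mul] at hu'
  have e2 : (u : F) • (g.1 * h.1) = h.1 * g.1 := by
    rw [← hu', show ((GeneralLinearGroup.scalar (Fin 2) u : GL (Fin 2) F) : Matrix (Fin 2) (Fin 2) F) =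
      scalar (Fin 2) (u : F) from rfl, ← (scalar_commute (n := Fin 2) (u : F) (Commute.all (u : F)) _).eq,
      Matrix.scalar_apply, ← Matrix.smul_eq_diagonal_mul]
  have e3 := congrArg (fun X => (X * g⁻¹.1).trace) e2
  simp only [Matrix.smul_mul, trace_smul, smul_eq_mul] at e3
  rw [mul_assoc h.1, g.mul_inv, mul_one, Matrix.trace_mul_cycle, g.inv_mul, one_mul] at e3
  have hu1 : (u : F) = 1 := mul_right_cancel₀ ht (by rw [e3, one_mul])
  rw [hu1, one_smul] at e2
  exact e2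

/-- The classification gives an element of order the characteristic. -/
theorem dvd_of_orders (hprime : (Fintype.card F).Prime) (h2 : (2 : F) ≠ 0)
    {J : Subgroup (Matrix.ProjGenLinGroup (Fin 2) F)} {g h : J} (hne : g * h ≠ h * g) (hg : g ^ 2 ≠ 1)
    (h3 : h ^ 3 ≠ 1) (h4 : h ^ 4 ≠ 1) (h5 : h ^ 5 ≠ 1 ∨ g ^ 4 = 1)
    (hfix : ¬ ∃ x : OnePoint F, J ≤ MulAction.stabilizer (Matrix.ProjGenLinGroup (Fin 2) F) x) :
    Fintype.card F ∣ Nat.card J := by
  classical
  haveI := Fact.mk hprime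
  set p := Fintype.card F
  haveI : CharP F p := charP_of_card_eq_prime rfl
  have hh2 : h ^ 2 ≠ 1 := fun e => h4 (by rw [show (4 : ℕ) = 2 * 2 from rfl, pow_mul, e, one_pow])
  rcases Dickson.dickson_pgl p J with ⟨hc, -⟩ | ⟨x, hx, hd⟩ | ⟨C, -, -, -, -, ⟨e⟩⟩ | ⟨⟨e⟩⟩ | ⟨⟨e⟩⟩ |
    ⟨⟨e⟩⟩ | ⟨R, -, hR⟩
  · obtain ⟨z, hz⟩ := hc.exists_generator
    obtain ⟨i, rfl⟩ := hz g
    obtain ⟨j, rfl⟩ := hz h
    exact absurd (((Commute.refl z).zpow_zpow i j).eq) hne
  · exact absurd ⟨x, hx⟩ hfix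
  · have key : ∀ x : DihedralGroup (Nat.card C), x ^ 2 ≠ 1 → ∃ i, x = DihedralGroup.r i := by
      intro x hx
      cases x with
      | r i => exact ⟨i, rfl⟩
      | sr i => exact absurd (by rw [pow_two, DihedralGroup.sr_mul_sr, sub_self]; rfl) hx
    obtain ⟨i, hi⟩ := key (e g) (by rw [← map_pow]; exact (MulEquiv.map_ne_one_iff e).2 hg)
    obtain ⟨j, hj⟩ := key (e h) (by rw [← map_pow]; exact (MulEquiv.map_ne_one_iff e).2 hh2)
    exact absurd (e.injective (by rw [map_mul, map_mul, hi, hj, DihedralGroup.r_mul_r,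
      DihedralGroup.r_mul_r, add_comm])) hne
  · have : ∀ x : alternatingGroup (Fin 4), x ^ 3 = 1 ∨ x ^ 4 = 1 := by decide
    rcases this (e h) with k | k <;> rw [← map_pow, MulEquiv.map_eq_one_iff] at k
    exacts [absurd k h3, absurd k h4]
  · have : ∀ x : Equiv.Perm (Fin 4), x ^ 3 = 1 ∨ x ^ 4 = 1 := by decide
    rcases this (e h) with k | k <;> rw [← map_pow, MulEquiv.map_eq_one_iff] at k
    exacts [absurd k h3, absurd k h4]
  · have : ∀ x : alternatingGroup (Fin 5), (x ^ 3 = 1 ∨ x ^ 4 = 1 ∨ x ^ 5 = 1) ∧ (x ^ 4 = 1 → x ^ 2 = 1) := by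
      decide +kernel
    rcases h5 with h5 | h5
    · rcases (this (e h)).1 with k | k | k <;> rw [← map_pow, MulEquiv.map_eq_one_iff] at k
      exacts [absurd k h3, absurd k h4, absurd k h5]
    · have k := (this (e g)).2 (by rw [← map_pow, h5, map_one])
      rw [← map_pow, MulEquiv.map_eq_one_iff] at k
      exact absurd k hg
  · haveI : CharP R p := (RingHom.charP_iff R.subtype R.subtype.injective p).mpr inferInstance
    have hu0 : SpecialLinearGroup.toPGL (up (1 : R)) ≠ 1 := by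
      intro hk
      rw [← MonoidHom.mem_ker, SpecialLinearGroup.toPGL_ker, Matrix.SpecialLinearGroup.mem_center_iff] at hk
      obtain ⟨r, -, hr⟩ := hk
      have := congrFun (congrFun hr 0) 1
      simp [coe_up] at this
    have hup : (up (1 : R)) ^ p = 1 := QuadraticDickson.up_pow_char p 1
    obtain ⟨y, hy1, hyp⟩ : ∃ y : J, y ≠ 1 ∧ y ^ p = 1 := by
      rcases hR with ⟨⟨e⟩⟩ | ⟨-, ⟨e⟩⟩
      · exact ⟨e.symm (SpecialLinearGroup.toPGL (up 1)), (MulEquiv.map_ne_one_iff e.symm).2 hu0,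
          by rw [← map_pow, ← map_pow, hup, map_one, map_one]⟩
      · refine ⟨e.symm (QuotientGroup.mk' _ (up 1)), (MulEquiv.map_ne_one_iff e.symm).2 fun hk => hu0 ?_,
          by rw [← map_pow, ← map_pow, hup, map_one, map_one]⟩
        have := congrArg ProjectiveSpecialLinearGroup.toPGL hk
        rw [map_one] at this
        exact this
    exact orderOf_eq_prime hyp hy1 ▸ orderOf_dvd_natCard _

/-- The first two frame vectors. -/
def e₁ : Fin 3 → F := ![1, 0, 0]

/-- The second frame vector. -/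
def e₂ : Fin 3 → F := ![0, 1, 0]

theorem nrm_e₁ (c : F) : nrm c (e₁ : Fin 3 → F) = 1 := by simp [nrm, e₁]

theorem nrm_e₂ (c : F) : nrm c (e₂ : Fin 3 → F) = 1 := by simp [nrm, e₂]

/-- A symmetry as an element of the group. -/
noncomputable def el (hc : c ≠ 0) (hpq : p * p + q * q = -c) {w : Fin 3 → F} (hw : nrm c w ≠ 0) :
    GL (Fin 2) F :=
  GeneralLinearGroup.mkOfDetNeZero (Φ c p q w) (by rw [det_Φ hpq]; exact mul_ne_zero hc hw)

theorem el_mem (hc : c ≠ 0) (hpq : p * p + q * q = -c) {w : Fin 3 → F} (hw : Sym c P w) :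
    el hc hpq hw.1 ∈ grp c p q P := Subgroup.subset_closure (Or.inl ⟨w, hw, rfl⟩)

theorem scalar_mem (u : Fˣ) : GeneralLinearGroup.scalar (Fin 2) u ∈ grp c p q P :=
  Subgroup.subset_closure (Or.inr ⟨u, rfl⟩)

/-- Lifting from the projective image. -/
theorem mem_of_mk {g : GL (Fin 2) F} (h : mk g ∈ (grp c p q P).map mk) : g ∈ grp c p q P := by
  obtain ⟨g', hg', e⟩ := h
  obtain ⟨u, hu⟩ := mk_eq_mk_iff.1 e
  rw [← hu]
  exact mul_mem hg' (scalar_mem u)

theorem no_fixed (hc : c ≠ 0) (hpq : p * p + q * q = -c) (h2 : (2 : F) ≠ 0) (h1 : Sym c P e₁)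
    (h1' : Sym c P e₂) :
    ¬ ∃ x : OnePoint F, (grp c p q P).map mk ≤
      MulAction.stabilizer (Matrix.ProjGenLinGroup (Fin 2) F) x := by
  classical
  rintro ⟨x, hx⟩
  have ha : mk (el hc hpq h1.1) • x = x := hx ⟨_, el_mem hc hpq h1, rfl⟩
  have hb : mk (el hc hpq h1'.1) • x = x := hx ⟨_, el_mem hc hpq h1', rfl⟩
  rw [DicksonLine.mk_smul] at ha hb
  have v1 : (el hc hpq h1.1).1 = !![-q, p; p, q] := by
    show Φ c p q e₁ = _
    simp [Φ, e₁]
  have v2 : (el hc hpq h1'.1).1 = !![p, q; q, -p] := by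
    show Φ c p q e₂ = _
    simp [Φ, e₂]
  cases x with
  | infty =>
    rw [OnePoint.smul_infty_eq_self_iff, v1] at ha
    rw [OnePoint.smul_infty_eq_self_iff, v2] at hb
    simp at ha hb
    exact hc (by rw [ha, hb] at hpq; linear_combination hpq)
  | coe k =>
    rw [OnePoint.smul_some_eq_ite, v1] at ha
    rw [OnePoint.smul_some_eq_ite, v2] at hb
    simp at ha hb
    split_ifs at ha with da
    · exact OnePoint.infty_ne_coe _ ha
    split_ifs at hb with db
    · exact OnePoint.infty_ne_coe _ hb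
    have ea := OnePoint.coe_injective ha
    have eb := OnePoint.coe_injective hb
    rw [div_eq_iff da] at ea
    rw [div_eq_iff db] at eb
    have hk : k = 0 := (mul_eq_zero.1 (show 2 * c * k = 0 by
      linear_combination q * ea - p * eb + 2 * k * hpq)).resolve_left (mul_ne_zero h2 hc)
    subst hk
    have e1 : p = 0 := by linear_combination ea
    have e2 : q = 0 := by linear_combination eb
    exact hc (by rw [e1, e2] at hpq; linear_combination hpq)

/-- An element of order the characteristic gives a unipotent matrix. -/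
theorem exists_unip (hprime : (Fintype.card F).Prime)
    (hd : Fintype.card F ∣ Nat.card ((grp c p q P).map mk)) :
    ∃ N : Matrix (Fin 2) (Fin 2) F, N ≠ 0 ∧ N * N = 0 ∧ ∃ g ∈ grp c p q P, g.1 = 1 + N := by
  haveI := Fact.mk hprime
  set π := Fintype.card F with hπ
  haveI : CharP F π := charP_of_card_eq_prime rfl
  obtain ⟨⟨x, hx⟩, hord⟩ := exists_prime_orderOf_dvd_card' π hd
  obtain ⟨g, hg, rfl⟩ := hx
  have e : mk (g ^ π) = mk 1 := by
    rw [map_pow, map_one]
    have := congrArg Subtype.val (hord ▸ pow_orderOf_eq_one (⟨mk g, g, hg, rfl⟩ : (grp c p q P).map mk))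
    exact this
  obtain ⟨u, hu⟩ := mk_eq_mk_iff.1 e.symm
  have hu' : g.1 ^ π = scalar (Fin 2) (u : F) := by
    have h := congrArg Units.val hu
    rw [Units.val_mul, Units.val_one, one_mul, Units.val_pow_eq_pow_val] at h
    exact h.symm
  set G := g.1 * scalar (Fin 2) ((u⁻¹ : Fˣ) : F)
  have hG : (G - 1) ^ π = 0 := by
    rw [sub_pow_char_of_commute _ (Commute.one_right G), one_pow,
      (scalar_commute (n := Fin 2) _ (Commute.all _) g.1).symm.mul_pow, hu', ← map_pow, ← map_mul,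
      show ((u⁻¹ : Fˣ) : F) ^ π = ((u⁻¹ : Fˣ) : F) from FiniteField.pow_card _, ← Units.val_mul,
      mul_inv_cancel, Units.val_one, map_one, sub_self]
  set N := G - 1
  have hdet : N.det = 0 := pow_eq_zero_iff hprime.pos.ne' |>.1 (by rw [← det_pow, hG, det_zero])
  have hsq : N * N = N.trace • N := by rw [cayley, hdet, zero_smul, sub_zero]
  have hN0 : N ≠ 0 := by
    intro h
    have hg1 : g * GeneralLinearGroup.scalar (Fin 2) u⁻¹ = 1 := Units.ext (sub_eq_zero.1 h)
    have : mk g = 1 := by rw [← map_one mk, ← hg1, map_mul, Matrix.ProjGenLinGroup.mk_scalar, mul_one]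
    have h1 : (⟨mk g, g, hg, rfl⟩ : (grp c p q P).map mk) = 1 := Subtype.ext this
    rw [h1, orderOf_one] at hord
    exact hprime.ne_one hord.symm
  have hN : N * N = 0 := by
    have hk : ∀ k : ℕ, N ^ (k + 1) = N.trace ^ k • N := by
      intro k
      induction k with
      | zero => simp
      | succ k ih => rw [pow_succ, ih, Matrix.smul_mul, hsq, smul_smul, pow_succ]
    have h := hk (π - 1)
    rw [Nat.sub_add_cancel hprime.pos, hG] at h
    rcases smul_eq_zero.1 h.symm with h | h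
    · rw [hsq, pow_eq_zero_iff (Nat.sub_ne_zero_of_lt hprime.one_lt) |>.1 h, zero_smul]
    · exact absurd h hN0
  refine ⟨N, hN0, hN, g * GeneralLinearGroup.scalar (Fin 2) u⁻¹, mul_mem hg (scalar_mem _), ?_⟩
  show G = 1 + (G - 1)
  abel

/-- A unipotent matrix and the two frame symmetries give all of `SL(2)`. -/
theorem sl_mem (hc : c ≠ 0) (hpq : p * p + q * q = -c) (h2 : (2 : F) ≠ 0) (hprime : (Fintype.card F).Prime)
    (h1 : Sym c P e₁) (h1' : Sym c P e₂) {N : Matrix (Fin 2) (Fin 2) F} (hN0 : N ≠ 0) (hN : N * N = 0)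
    {gN : GL (Fin 2) F} (hgN : gN ∈ grp c p q P) (eN : gN.1 = 1 + N) (s : SL(2, F)) :
    ∃ g ∈ grp c p q P, g.1 = s.1 := by
  obtain ⟨e, he0, he⟩ : ∃ e : Fin 2 → F, e ≠ 0 ∧ N *ᵥ e = 0 :=
    exists_mulVec_eq_zero_iff.2 (mul_self_eq_zero.1 (by rw [← det_mul, hN, det_zero]))
  -- conjugates by the two frame symmetries
  have conj : ∀ {A : GL (Fin 2) F}, A ∈ grp c p q P →
      (∃ M : Matrix (Fin 2) (Fin 2) F, ∃ f, M * M = 0 ∧ M ≠ 0 ∧ (∃ g ∈ grp c p q P, g.1 = 1 + M) ∧
        M *ᵥ f = 0 ∧ e 0 * f 1 - f 0 * e 1 ≠ 0) ∨ (A.1 *ᵥ e) 0 * e 1 - (A.1 *ᵥ e) 1 * e 0 = 0 := by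
    intro A hA
    by_cases hd : (A.1 *ᵥ e) 0 * e 1 - (A.1 *ᵥ e) 1 * e 0 = 0
    · exact Or.inr hd
    refine Or.inl ⟨A.1 * N * A⁻¹.1, A.1 *ᵥ e, ?_, ?_, ⟨A * gN * A⁻¹, mul_mem (mul_mem hA hgN) (inv_mem hA), ?_⟩,
      ?_, fun h => hd (by linear_combination -h)⟩
    · rw [mul_assoc (A.1 * N), ← mul_assoc A⁻¹.1, ← mul_assoc A⁻¹.1, A.inv_mul, one_mul, ← mul_assoc,
        mul_assoc A.1 N, hN, mul_zero, zero_mul]
    · intro h
      have := congrArg (fun X => A⁻¹.1 * X * A.1) h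
      simp only [mul_zero, zero_mul] at this
      rw [← mul_assoc, ← mul_assoc, A.inv_mul, one_mul, mul_assoc, A.inv_mul, mul_one] at this
      exact hN0 this
    · rw [Units.val_mul, Units.val_mul, eN, mul_add, add_mul, mul_one, A.mul_inv]
    · rw [Matrix.mulVec_mulVec, mul_assoc, A.inv_mul, mul_one, ← Matrix.mulVec_mulVec, he, Matrix.mulVec_zero]
  rcases conj (el_mem hc hpq h1) with ⟨M, f, hM, hM0, ⟨g, hg, eg⟩, hf, hef⟩ | ha
  · exact sl_le hprime hN hM hN0 hM0 hgN hg eN eg he hf hef s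
  rcases conj (el_mem hc hpq h1') with ⟨M, f, hM, hM0, ⟨g, hg, eg⟩, hf, hef⟩ | hb
  · exact sl_le hprime hN hM hN0 hM0 hgN hg eN eg he hf hef s
  exfalso
  rw [show (el hc hpq h1.1).1 = !![-q, p; p, q] by show Φ c p q e₁ = _; simp [Φ, e₁]] at ha
  rw [show (el hc hpq h1'.1).1 = !![p, q; q, -p] by show Φ c p q e₂ = _; simp [Φ, e₂]] at hb
  simp [Matrix.mulVec, dotProduct, Fin.sum_univ_two] at ha hb
  have hxy : e 0 * e 1 = 0 := (mul_eq_zero.1 (show 2 * c * (e 0 * e 1) = 0 by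
    linear_combination q * ha - p * hb + 2 * (e 0 * e 1) * hpq)).resolve_left (mul_ne_zero h2 hc)
  refine he0 ?_
  rcases mul_eq_zero.1 hxy with h | h <;> rw [h] at ha hb
  · have hz : e 1 = 0 := mul_self_eq_zero.1 ((mul_eq_zero.1 (show c * (e 1 * e 1) = 0 by
      linear_combination -p * ha - q * hb + (e 1 * e 1) * hpq)).resolve_left hc)
    funext i; fin_cases i <;> simp [h, hz]
  · have hz : e 0 = 0 := mul_self_eq_zero.1 ((mul_eq_zero.1 (show c * (e 0 * e 0) = 0 by
      linear_combination p * ha + q * hb + (e 0 * e 0) * hpq)).resolve_left hc)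
    funext i; fin_cases i <;> simp [h, hz]

/-- A unipotent matrix relates all vectors of equal non-zero value. -/
theorem all_of_unip (hc : c ≠ 0) (hpq : p * p + q * q = -c) (h2 : (2 : F) ≠ 0)
    (hprime : (Fintype.card F).Prime) (hneg : ∀ v, P v → P (-v)) (h1 : Sym c P e₁) (h1' : Sym c P e₂)
    {N : Matrix (Fin 2) (Fin 2) F} (hN0 : N ≠ 0) (hN : N * N = 0)
    {gN : GL (Fin 2) F} (hgN : gN ∈ grp c p q P) (eN : gN.1 = 1 + N) {v w : Fin 3 → F}
    (hvw : nrm c v = nrm c w) (hv : nrm c v ≠ 0) (hP : P v) : P w := by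
  obtain ⟨s, hs⟩ := exists_conj h2 (trace_Φ (c := c) (p := p) (q := q) v) (trace_Φ (c := c) (p := p) (q := q) w)
    (by rw [det_Φ hpq, det_Φ hpq, hvw]) (by rw [det_Φ hpq]; exact mul_ne_zero hc hv)
  obtain ⟨g, hg, eg⟩ := sl_mem hc hpq h2 hprime h1 h1' hN0 hN hgN eN s
  obtain ⟨v', hv', e⟩ := carry hc hpq h2 hneg hg v hP
  rw [eg, hs] at e
  have hu : IsUnit s.1 := (Matrix.isUnit_iff_isUnit_det _).2 (by rw [s.2]; exact isUnit_one)
  exact Φ_injective hc hpq h2 (hu.mul_right_cancel e) ▸ hv'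

/-- The classification step, in the form used below. -/
theorem all_of_pair (hc : c ≠ 0) (hpq : p * p + q * q = -c) (h2 : (2 : F) ≠ 0)
    (hprime : (Fintype.card F).Prime) (hneg : ∀ v, P v → P (-v)) (h1 : Sym c P e₁) (h1' : Sym c P e₂)
    {g h : GL (Fin 2) F} (hg : g ∈ grp c p q P) (hh : h ∈ grp c p q P) (hne : g.1 * h.1 ≠ h.1 * g.1)
    (hg2 : g.1.trace ≠ 0) (ht : h.1.trace ≠ 0) (h3 : (co h.1.trace h.1.det 3).1 ≠ 0)
    (h4 : (co h.1.trace h.1.det 4).1 ≠ 0)
    (h5 : (co h.1.trace h.1.det 5).1 ≠ 0 ∨ (co g.1.trace g.1.det 4).1 = 0) {v w : Fin 3 → F}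
    (hvw : nrm c v = nrm c w) (hv : nrm c v ≠ 0) (hP : P v) : P w := by
  have nsg : ∀ r : F, g.1 ≠ r • (1 : Matrix (Fin 2) (Fin 2) F) := fun r e => hne (by rw [e]; simp)
  have nsh : ∀ r : F, h.1 ≠ r • (1 : Matrix (Fin 2) (Fin 2) F) := fun r e => hne (by rw [e]; simp)
  set J := (grp c p q P).map mk
  have hd := dvd_of_orders hprime h2 (J := J) (g := ⟨mk g, g, hg, rfl⟩) (h := ⟨mk h, h, hh, rfl⟩)
    (fun e => hne (commute_of_mk (congrArg Subtype.val e) ht))
    (fun e => mk_pow_ne nsg (k := 2) (by simpa [co] using hg2) (congrArg Subtype.val e))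
    (fun e => mk_pow_ne nsh h3 (congrArg Subtype.val e))
    (fun e => mk_pow_ne nsh h4 (congrArg Subtype.val e))
    (h5.imp (fun h5 e => mk_pow_ne nsh h5 (congrArg Subtype.val e)) (fun h5 => Subtype.ext (by
      show mk g ^ 4 = 1
      rw [← map_pow, ← map_one mk, eq_comm, mk_eq_mk_iff]
      have hb : (co g.1.trace g.1.det 4).2 ≠ 0 := fun hb => by
        have := (g ^ 4).det_ne_zero
        rw [Units.val_pow_eq_pow_val, pow_eq, h5, hb, zero_smul, zero_smul, add_zero,
          det_zero] at this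
        exact this rfl
      refine ⟨Units.mk0 _ hb, Units.ext ?_⟩
      rw [Units.val_mul, Units.val_one, one_mul, Units.val_pow_eq_pow_val, pow_eq, h5, zero_smul, zero_add,
        Matrix.smul_one_eq_diagonal]
      rfl)))
    (no_fixed hc hpq h2 h1 h1')
  obtain ⟨N, hN0, hN, gN, hgN, eN⟩ := exists_unip hprime hd
  exact all_of_unip hc hpq h2 hprime hneg h1 h1' hN0 hN hgN eN hvw hv hP

/-- A non-scalar element with equal eigenvalues relates all vectors of equal non-zero value. -/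
theorem all_of_para (hc : c ≠ 0) (hpq : p * p + q * q = -c) (h2 : (2 : F) ≠ 0)
    (hprime : (Fintype.card F).Prime) (hneg : ∀ v, P v → P (-v)) (h1 : Sym c P e₁) (h1' : Sym c P e₂)
    {h : GL (Fin 2) F} (hh : h ∈ grp c p q P) (ht : h.1.trace ≠ 0) (hd : h.1.trace * h.1.trace = 4 * h.1.det)
    (hns : ∀ r : F, h.1 ≠ r • (1 : Matrix (Fin 2) (Fin 2) F)) {v w : Fin 3 → F}
    (hvw : nrm c v = nrm c w) (hv : nrm c v ≠ 0) (hP : P v) : P w := by
  set T := h.1.trace with hT
  have hk : 2 / T ≠ 0 := div_ne_zero h2 ht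
  set N := (2 / T) • h.1 - 1
  have hN0 : N ≠ 0 := fun e => hns (2 / T)⁻¹ (by rw [← sub_eq_zero.1 e, inv_smul_smul₀ hk])
  have hN : N * N = 0 := by
    have e := cayley h.1
    simp only [N, sub_mul, mul_sub, one_mul, mul_one, Matrix.smul_mul, Matrix.mul_smul, smul_smul, e, smul_sub,
      ← hT]
    match_scalars <;> field_simp
    · ring
    · linear_combination hd
  have hgN : h * GeneralLinearGroup.scalar (Fin 2) (Units.mk0 _ hk) ∈ grp c p q P := mul_mem hh (scalar_mem _)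
  refine all_of_unip hc hpq h2 hprime hneg h1 h1' hN0 hN hgN ?_ hvw hv hP
  show h.1 * scalar (Fin 2) (2 / T) = 1 + ((2 / T) • h.1 - 1)
  rw [← (scalar_commute (n := Fin 2) (2 / T) (Commute.all _) h.1).eq, Matrix.scalar_apply,
    ← Matrix.smul_eq_diagonal_mul, add_sub_cancel]

theorem trace_pair (hpq : p * p + q * q = -c) (u w : Fin 3 → F) :
    (Φ c p q u * Φ c p q w).trace = -(2 * c * dt c u w) := by
  simp [Φ, dt, trace_fin_two, Matrix.mul_apply, Fin.sum_univ_two]
  linear_combination (2 * (u 0 * w 0 + u 1 * w 1)) * hpq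

theorem det_pair (hpq : p * p + q * q = -c) (u w : Fin 3 → F) :
    (Φ c p q u * Φ c p q w).det = c * c * (nrm c u * nrm c w) := by
  rw [det_mul, det_Φ hpq, det_Φ hpq]; ring

/-- Three reflections in general position. -/
theorem sweep_full (hc : c ≠ 0) (h2 : (2 : F) ≠ 0) (hprime : (Fintype.card F).Prime)
    (hneg : ∀ v, P v → P (-v)) (h1 : Sym c P e₁) (h1' : Sym c P e₂) {x : Fin 3 → F} (hx : Sym c P x)
    (hx1 : nrm c x = 1) (hx0 : x 0 ≠ 0) (hy0 : x 1 ≠ 0) (hz0 : x 2 ≠ 0)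
    (hA : x 0 * x 0 = 1 ∨ (4 * (x 0 * x 0) ≠ 1 ∧ 2 * (x 0 * x 0) ≠ 1 ∧
      16 * (x 0 * x 0) ^ 2 - 12 * (x 0 * x 0) + 1 ≠ 0))
    {v w : Fin 3 → F} (hvw : nrm c v = nrm c w) (hv : nrm c v ≠ 0) (hP : P v) : P w := by
  obtain ⟨p, q, hpq⟩ := exists_pq h2 c
  set h := el hc hpq h1.1 * el hc hpq hx.1
  set g := el hc hpq h1'.1 * el hc hpq hx.1
  have eh : h.1 = Φ c p q e₁ * Φ c p q x := rfl
  have eg : g.1 = Φ c p q e₂ * Φ c p q x := rfl
  have hh : h ∈ grp c p q P := mul_mem (el_mem hc hpq h1) (el_mem hc hpq hx)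
  have hg : g ∈ grp c p q P := mul_mem (el_mem hc hpq h1') (el_mem hc hpq hx)
  have hT : h.1.trace = -(2 * c * x 0) := by rw [eh, trace_pair hpq]; simp [dt, e₁]
  have hD : h.1.det = c * c := by rw [eh, det_pair hpq, nrm_e₁, hx1]; ring
  have hTg : g.1.trace = -(2 * c * x 1) := by rw [eg, trace_pair hpq]; simp [dt, e₂]
  have h20 : h.1.trace ≠ 0 := by rw [hT]; exact neg_ne_zero.2 (mul_ne_zero (mul_ne_zero h2 hc) hx0)
  have hne : g.1 * h.1 ≠ h.1 * g.1 := by
    intro e
    have hu : IsUnit (Φ c p q x) := (el hc hpq hx.1).isUnit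
    rw [eg, eh, ← mul_assoc, ← mul_assoc] at e
    have e' := hu.mul_right_cancel e
    have a00 := congrFun (congrFun e' 0) 0
    have a01 := congrFun (congrFun e' 0) 1
    simp [Φ, e₁, e₂, Matrix.mul_apply, Fin.sum_univ_two] at a00 a01
    refine mul_ne_zero (mul_ne_zero (mul_ne_zero h2 hc) hc) hz0 ?_
    grobner
  rcases hA with hA | ⟨a4, a2, a5⟩
  · exact all_of_para hc hpq h2 hprime hneg h1 h1' hh h20 (by rw [hT, hD]; linear_combination 4 * c * c * hA)
      (fun r e => hne (by rw [e]; simp)) hvw hv hP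
  refine all_of_pair hc hpq h2 hprime hneg h1 h1' hg hh hne ?_ h20 ?_ ?_ (Or.inl ?_) hvw hv hP
  · rw [hTg]; exact neg_ne_zero.2 (mul_ne_zero (mul_ne_zero h2 hc) hy0)
  · simp only [co, hT, hD]
    refine fun e => mul_ne_zero (mul_ne_zero hc hc) (sub_ne_zero.2 a4) (Eq.trans ?_ e)
    ring
  · simp only [co, hT, hD]
    refine fun e => mul_ne_zero (mul_ne_zero (mul_ne_zero (mul_ne_zero h2 h2) hx0) (mul_ne_zero hc (mul_ne_zero hc hc)))
      (sub_ne_zero.2 a2) (Eq.trans ?_ (neg_eq_zero.2 e))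
    ring
  · simp only [co, hT, hD]
    refine fun e => mul_ne_zero (mul_ne_zero (mul_ne_zero hc hc) (mul_ne_zero hc hc)) a5 (Eq.trans ?_ e)
    ring

/-- Two frame symmetries, the exchange and a further reflection. -/
theorem sweep_swap (hc : c ≠ 0) (h2 : (2 : F) ≠ 0) (hprime : (Fintype.card F).Prime)
    (hneg : ∀ v, P v → P (-v)) (h1 : Sym c P e₁) (h1' : Sym c P e₂) (hs : Sym c P ![1, 1, 0])
    {x u : Fin 3 → F} (hx : Sym c P x) (hu : Sym c P u) (hu2 : u 2 = 0) (hx2 : x 2 ≠ 0)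
    (hd0 : dt c u x ≠ 0) (hd4 : 4 * (dt c u x * dt c u x) ≠ nrm c u * nrm c x)
    (hd2 : 2 * (dt c u x * dt c u x) ≠ nrm c u * nrm c x)
    {v w : Fin 3 → F} (hvw : nrm c v = nrm c w) (hv : nrm c v ≠ 0) (hP : P v) : P w := by
  obtain ⟨p, q, hpq⟩ := exists_pq h2 c
  set g := el hc hpq h1.1 * el hc hpq hs.1
  set h := el hc hpq hu.1 * el hc hpq hx.1
  have eg : g.1 = Φ c p q e₁ * Φ c p q ![1, 1, 0] := rfl
  have eh : h.1 = Φ c p q u * Φ c p q x := rfl
  have hgm : g ∈ grp c p q P := mul_mem (el_mem hc hpq h1) (el_mem hc hpq hs)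
  have hhm : h ∈ grp c p q P := mul_mem (el_mem hc hpq hu) (el_mem hc hpq hx)
  have hTg : g.1.trace = -(2 * c) := by rw [eg, trace_pair hpq]; simp [dt, e₁]
  have hDg : g.1.det = 2 * (c * c) := by rw [eg, det_pair hpq, nrm_e₁]; simp [nrm]; ring
  have hT : h.1.trace = -(2 * c * dt c u x) := by rw [eh, trace_pair hpq]
  have hD : h.1.det = c * c * (nrm c u * nrm c x) := by rw [eh, det_pair hpq]
  have h20 : h.1.trace ≠ 0 := by rw [hT]; exact neg_ne_zero.2 (mul_ne_zero (mul_ne_zero h2 hc) hd0)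
  have hne : g.1 * h.1 ≠ h.1 * g.1 := by
    intro e
    have gv : g.1 = !![-c, c; -c, -c] := by
      rw [eg]
      ext i j
      fin_cases i <;> fin_cases j <;> simp [Φ, e₁, Matrix.mul_apply, Fin.sum_univ_two] <;>
        first
          | linear_combination hpq
          | linear_combination -hpq
          | linear_combination (0 : F) * hpq
    rw [gv] at e
    have a00 := congrFun (congrFun e 0) 0
    have a01 := congrFun (congrFun e 0) 1
    simp [Matrix.mul_apply, Fin.sum_univ_two] at a00 a01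
    have d1 : h.1 0 1 + h.1 1 0 = 0 := mul_left_cancel₀ hc (by rw [mul_zero]; linear_combination a00)
    have d2 : h.1 0 0 - h.1 1 1 = 0 := mul_left_cancel₀ hc (by rw [mul_zero]; linear_combination -a01)
    rw [eh] at d1 d2
    simp [Φ, hu2, Matrix.mul_apply, Fin.sum_univ_two] at d1 d2
    have hz : c * x 2 ≠ 0 := mul_ne_zero hc hx2
    have b1 : -q * u 0 + p * u 1 = 0 := mul_left_cancel₀ (mul_ne_zero h2 hz) (by rw [mul_zero]; grobner)
    have b2 : p * u 0 + q * u 1 = 0 := mul_left_cancel₀ (mul_ne_zero h2 hz) (by rw [mul_zero]; grobner)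
    exact hu.1 (by
      simp only [nrm, hu2]
      refine mul_left_cancel₀ (neg_ne_zero.2 hc) ?_
      linear_combination (-q * u 0 + p * u 1) * b1 + (p * u 0 + q * u 1) * b2 -
        (u 0 * u 0 + u 1 * u 1) * hpq)
  refine all_of_pair hc hpq h2 hprime hneg h1 h1' hgm hhm hne ?_ h20 ?_ ?_ (Or.inr ?_) hvw hv hP
  · rw [hTg]; exact neg_ne_zero.2 (mul_ne_zero h2 hc)
  · simp only [co, hT, hD]
    refine fun e => mul_ne_zero (mul_ne_zero hc hc) (sub_ne_zero.2 hd4) (Eq.trans ?_ e)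
    ring
  · simp only [co, hT, hD]
    refine fun e => mul_ne_zero (mul_ne_zero (mul_ne_zero (mul_ne_zero h2 h2) hd0) (mul_ne_zero hc (mul_ne_zero hc hc)))
      (sub_ne_zero.2 hd2) (Eq.trans ?_ (neg_eq_zero.2 e))
    ring
  · simp only [co, hTg, hDg]
    ring

/-- Three reflections with a unipotent product. -/
theorem sweep_three (h2 : (2 : F) ≠ 0) (hprime : (Fintype.card F).Prime)
    (hneg : ∀ v, P v → P (-v)) (h1 : Sym 1 P e₁) (h1' : Sym 1 P e₂) {x y : Fin 3 → F} (hx : Sym 1 P x)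
    (hy : Sym 1 P y) (hxx : nrm 1 x = 1) (hyy : nrm 1 y = 1)
    (hdet : (x 1 * y 2 - x 2 * y 1) * (x 1 * y 2 - x 2 * y 1) = 1) (hxy : dt 1 x y ≠ 0)
    {v w : Fin 3 → F} (hvw : nrm 1 v = nrm 1 w) (hv : nrm 1 v ≠ 0) (hP : P v) : P w := by
  have hc : (1 : F) ≠ 0 := one_ne_zero
  obtain ⟨p, q, hpq⟩ := exists_pq h2 (1 : F)
  set a := el hc hpq h1.1
  set b := el hc hpq hx.1 * el hc hpq hy.1
  have hh : a * b ∈ grp 1 p q P := mul_mem (el_mem hc hpq h1) (mul_mem (el_mem hc hpq hx) (el_mem hc hpq hy))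
  have eh : (a * b).1 = Φ 1 p q e₁ * (Φ 1 p q x * Φ 1 p q y) := rfl
  have hT : (a * b).1.trace * (a * b).1.trace = 4 := by
    rw [eh]
    simp [Φ, e₁, trace_fin_two, Matrix.mul_apply, Fin.sum_univ_two]
    grobner
  have hD : (a * b).1.det = 1 := by
    rw [eh, det_mul, det_Φ hpq, det_pair hpq, nrm_e₁, hxx, hyy]; ring
  refine all_of_para hc hpq h2 hprime hneg h1 h1' hh (fun e => ?_) (by rw [hT, hD, mul_one]) (fun r e => ?_) hvw hv hP
  · rw [e, mul_zero] at hT
    exact mul_ne_zero h2 h2 (by linear_combination -hT)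
  · have hr : r ≠ 0 := fun h0 => by
      rw [h0, zero_smul] at e
      rw [e, det_zero] at hD
      exact zero_ne_one hD
    have e' : (r • b.1).trace = 0 → False := fun h => by
      rw [trace_smul, show b.1.trace = (Φ 1 p q x * Φ 1 p q y).trace from rfl, trace_pair hpq, smul_eq_mul] at h
      exact mul_ne_zero hr (neg_ne_zero.2 (mul_ne_zero (mul_ne_zero h2 hc) hxy)) h
    refine e' ?_
    -- the square of a trace-zero matrix is scalar
    have sq : a.1 * a.1 = (-1 : F) • (1 : Matrix (Fin 2) (Fin 2) F) := by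
      show Φ 1 p q e₁ * Φ 1 p q e₁ = _
      rw [cayley, trace_Φ, det_Φ hpq, nrm_e₁]
      simp
    have h' : (-1 : F) • b.1 = r • a.1 := by
      calc (-1 : F) • b.1 = (a.1 * a.1) * b.1 := by rw [sq, Matrix.smul_mul, one_mul]
        _ = a.1 * (a * b).1 := by rw [mul_assoc]; rfl
        _ = r • a.1 := by rw [e, Matrix.mul_smul, mul_one]
    have ht : ((-1 : F) • b.1).trace = 0 := by
      rw [h', trace_smul, show a.1.trace = (Φ 1 p q e₁).trace from rfl, trace_Φ, smul_zero]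
    rw [trace_smul, smul_eq_mul, neg_one_mul, neg_eq_zero] at ht
    rw [trace_smul, ht, smul_zero]

/-- All unit reflections relate all vectors of equal non-zero value. -/
theorem sweep_all (h2 : (2 : F) ≠ 0) (h3 : (3 : F) ≠ 0) (hprime : (Fintype.card F).Prime)
    (hneg : ∀ v, P v → P (-v)) (hall : ∀ w, nrm 1 w = 1 → Sym 1 P w)
    {v w : Fin 3 → F} (hvw : nrm 1 v = nrm 1 w) (hv : nrm 1 v ≠ 0) (hP : P v) : P w := by
  obtain ⟨β, γ, hβγ⟩ := exists_rep h2 one_ne_zero (-(4 : F))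
  rw [one_mul] at hβγ
  obtain ⟨b, d, hbd⟩ : ∃ b d : F, (β * b + γ * d) * (β * b + γ * d) + b * b + d * d = 1 := by
    by_cases hB : 1 + β * β = 0
    · have hγ : γ ≠ 0 := fun h => h3 (by rw [h] at hβγ; linear_combination hβγ - hB)
      have hβ : β ≠ 0 := fun h => by rw [h, mul_zero, add_zero] at hB; exact one_ne_zero hB
      have hk : 2 * β * γ ≠ 0 := mul_ne_zero (mul_ne_zero h2 hβ) hγ
      refine ⟨-(γ * γ) / (2 * β * γ), 1, ?_⟩
      have e : 2 * β * γ * (-(γ * γ) / (2 * β * γ)) = -(γ * γ) := mul_div_cancel₀ _ hk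
      generalize -(γ * γ) / (2 * β * γ) = b at e ⊢
      linear_combination e + b * b * hB
    · obtain ⟨s, d, hsd⟩ := exists_rep h2 (show (1 + β * β + γ * γ) ≠ 0 from fun h => h3 (by linear_combination -h + hβγ))
        (1 + β * β)
      refine ⟨(s - β * γ * d) / (1 + β * β), d, ?_⟩
      have e : (1 + β * β) * ((s - β * γ * d) / (1 + β * β)) = s - β * γ * d := mul_div_cancel₀ _ hB
      generalize (s - β * γ * d) / (1 + β * β) = b at e ⊢
      refine mul_left_cancel₀ hB ?_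
      linear_combination ((1 + β * β) * b + β * γ * d + s) * e + hsd
  set a := -(β * b + γ * d) with ha
  have hx : nrm 1 (![a, b, d] : Fin 3 → F) = 1 := by simp [nrm, ha]; linear_combination hbd
  have hy : nrm 1 (![2 * a + (β * d - γ * b), 2 * b + (γ * a - d), 2 * d + (b - β * a)] : Fin 3 → F) = 1 := by
    simp [nrm, ha]
    grobner
  refine sweep_three h2 hprime hneg (hall _ (nrm_e₁ 1)) (hall _ (nrm_e₂ 1)) (hall _ hx) (hall _ hy) hx hy ?_ ?_
    hvw hv hP
  · simp [ha]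
    grobner
  · simp [dt, ha]
    intro e
    apply h2
    grobner

end sweep

end Cfsg.Agent.Frame10Tern
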