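import Cfsg.Agent.Lib.ProjMinors42

/-!
The arithmetic of the contribution matrix of a block with free inertial quotient of order two or
three and too few Brauer characters.
-/

set_option autoImplicit false

namespace Cfsg.Agent.FreeArith42

open Finset Cfsg.Agent.ProjMinors42

attribute [local instance] Classical.propDecidable

variable {ι : Type*} [Fintype ι] {C : ι → ι → ℤ} {q l e m : ℕ}

/-- The rows: integers `a` and a bound on the off-diagonal part. -/
def RowBound (C : ι → ι → ℤ) (e m : ℕ) : Prop :=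
  ∀ i, ∃ a : Fin m → ℤ, ∑ t, a t = C i i - 1 ∧
    ∑ j ∈ univ.erase i, |C i j| + ∑ t, a t ^ 2 ≤ (e : ℤ) * m + ((e : ℤ) - 1) * (C i i - 1)

theorem sq_ge_self (x : ℤ) : x ≤ x ^ 2 := Int.le_self_sq x

theorem sq_ge_three (x : ℤ) : 3 * x - 2 ≤ x ^ 2 := by
  rcases le_or_gt x 1 with h | h <;> nlinarith

theorem sum_sq_ge {n : ℕ} (a : Fin n → ℤ) : ∑ t, a t ≤ ∑ t, a t ^ 2 :=
  Finset.sum_le_sum fun t _ => sq_ge_self _

theorem sum_sq_ge_three {n : ℕ} (a : Fin n → ℤ) : 3 * ∑ t, a t - 2 * n ≤ ∑ t, a t ^ 2 := by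
  have h := Finset.sum_le_sum (s := (univ : Finset (Fin n))) fun t _ => sq_ge_three (a t)
  rw [Finset.sum_sub_distrib, ← Finset.mul_sum, Finset.sum_const, Finset.card_univ, Fintype.card_fin,
    nsmul_eq_mul] at h
  linarith

/-- A proper power avoids numbers with a simple prime factor. -/
theorem no_simple_factor {p d r : ℕ} (hp : p.Prime) (hd : 2 ≤ d) (hq : q = p ^ d) (hr : r.Prime)
    (h : r ∣ q) : r * r ∣ q := by
  subst hq
  obtain rfl := (Nat.prime_dvd_prime_iff_eq hr hp).1 (hr.dvd_of_dvd_pow h)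
  rw [← pow_two]
  exact pow_dvd_pow _ hd

theorem bad_values {p d : ℕ} (hp : p.Prime) (hd : 2 ≤ d) (hq : q = p ^ d) :
    q ≠ 7 ∧ q ≠ 10 ∧ q ≠ 13 ∧ q ≠ 19 ∧ q ≠ 22 ∧ q ≠ 28 ∧ q ≠ 37 ∧ q ≠ 46 := by
  have h := fun r hr hrq => no_simple_factor (r := r) hp hd hq hr hrq
  refine ⟨?_, ?_, ?_, ?_, ?_, ?_, ?_, ?_⟩ <;> rintro rfl
  · exact absurd (h 7 (by norm_num) (by norm_num)) (by norm_num)
  · exact absurd (h 2 (by norm_num) (by norm_num)) (by norm_num)
  · exact absurd (h 13 (by norm_num) (by norm_num)) (by norm_num)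
  · exact absurd (h 19 (by norm_num) (by norm_num)) (by norm_num)
  · exact absurd (h 2 (by norm_num) (by norm_num)) (by norm_num)
  · exact absurd (h 7 (by norm_num) (by norm_num)) (by norm_num)
  · exact absurd (h 37 (by norm_num) (by norm_num)) (by norm_num)
  · exact absurd (h 2 (by norm_num) (by norm_num)) (by norm_num)

theorem row_sq (h : Scaled C q l) (i j : ι) : C i j ^ 2 ≤ C i i * C j j := by
  have h1 := Finset.sum_mul_sq_le_sq_mul_sq univ (fun k => C i k) (fun k => C k j)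
  have e1 : ∑ k, C i k ^ 2 = (q : ℤ) * C i i := by
    rw [← h.sq i i]
    exact Finset.sum_congr rfl fun k _ => by rw [h.symm k i]; ring
  have e2 : ∑ k, C k j ^ 2 = (q : ℤ) * C j j := by
    rw [← h.sq j j]
    exact Finset.sum_congr rfl fun k _ => by rw [h.symm j k]; ring
  rw [h.sq i j, e1, e2] at h1
  have hq : (0 : ℤ) < (q : ℤ) ^ 2 := pow_pos (by exact_mod_cast h.qpos) 2
  exact le_of_mul_le_mul_left (by linarith) hq

theorem diag_nonneg (h : Scaled C q l) (i : ι) : 0 ≤ C i i := by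
  have h1 : 0 ≤ ∑ k, C i k * C k i := Finset.sum_nonneg fun k _ => by
    rw [h.symm k i]; exact mul_self_nonneg _
  rw [h.sq] at h1
  exact nonneg_of_mul_nonneg_right h1 (by exact_mod_cast h.qpos)

theorem minor_singleton (i : ι) : minor C {i} = C i i := by
  rw [minor, Matrix.det_eq_elem_of_card_eq_one (by simp) ⟨i, Finset.mem_singleton_self i⟩]
  rfl

/-! ### One Brauer character -/

/-- The roots of the diagonal in rank one. -/
theorem roots_one (h : Scaled C q 1)
    (hN : ∀ s ∈ univ.powersetCard 1, ∃ N : ℕ, minor C s = (q : ℤ) ^ 0 * (N : ℤ) ^ 2) :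
    ∃ d : ι → ℕ, (∀ i, C i i = (d i : ℤ) ^ 2) ∧ (∀ i j, |C i j| = (d i : ℤ) * d j) ∧
      ∑ i, (d i : ℤ) ^ 2 = q := by
  choose! N hN using hN
  have hd : ∀ i, C i i = (N {i} : ℤ) ^ 2 := fun i => by
    rw [← minor_singleton (C := C) i, hN {i} (Finset.mem_powersetCard.2 ⟨Finset.subset_univ _, by simp⟩),
      pow_zero, one_mul]
  have hsum : ∑ i, C i i = (q : ℤ) := by rw [h.trace, Nat.cast_one, mul_one]
  refine ⟨fun i => N {i}, hd, fun i j => ?_, by rw [← Finset.sum_congr rfl fun i _ => hd i, hsum]⟩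
  have heq : C i j ^ 2 = C i i * C j j := by
    have h1 : ∑ k, (C i i * C k k - C i k ^ 2) = 0 := by
      rw [Finset.sum_sub_distrib, ← Finset.mul_sum, hsum, mul_comm, ← h.sq i i, sub_eq_zero]
      exact Finset.sum_congr rfl fun k _ => by rw [h.symm k i]; ring
    have := (Finset.sum_eq_zero_iff_of_nonneg fun k _ => sub_nonneg.2 (row_sq h i k)).1 h1 j
      (Finset.mem_univ _)
    linarith
  rw [← abs_of_nonneg (show (0 : ℤ) ≤ (N {i} : ℤ) * N {j} by positivity), ← sq_eq_sq_iff_abs_eq_abs, heq,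
    hd i, hd j]
  ring

/-- The bound at a largest root. -/
theorem max_row (h : Scaled C q 1) (hrow : RowBound C e m) (hcard : Fintype.card ι = m + 1)
    (hpos : ∀ i, C i i ≠ 0)
    (hN : ∀ s ∈ univ.powersetCard 1, ∃ N : ℕ, minor C s = (q : ℤ) ^ 0 * (N : ℤ) ^ 2) :
    ∃ (d : ι → ℕ) (i₀ : ι), (∀ i, C i i = (d i : ℤ) ^ 2) ∧ (∀ i, 1 ≤ d i) ∧ (∀ i, d i ≤ d i₀) ∧
      (d i₀ : ℤ) ^ 2 + ∑ i ∈ univ.erase i₀, (d i : ℤ) ^ 2 = q ∧
      (m : ℤ) ≤ ∑ i ∈ univ.erase i₀, (d i : ℤ) ∧
      (m : ℤ) ≤ ∑ i ∈ univ.erase i₀, (d i : ℤ) ^ 2 ∧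
      ∃ a : Fin m → ℤ, ∑ t, a t = (d i₀ : ℤ) ^ 2 - 1 ∧
        (d i₀ : ℤ) * ∑ i ∈ univ.erase i₀, (d i : ℤ) + ∑ t, a t ^ 2 ≤
          (e : ℤ) * m + ((e : ℤ) - 1) * ((d i₀ : ℤ) ^ 2 - 1) := by
  obtain ⟨d, hd, habs, hsum⟩ := roots_one h hN
  have : Nonempty ι := Fintype.card_pos_iff.1 (by omega)
  obtain ⟨i₀, -, hmax⟩ := Finset.exists_max_image univ d Finset.univ_nonempty
  have hd1 : ∀ i, 1 ≤ d i := fun i => by
    by_contra hd0
    exact hpos i (by rw [hd i, show d i = 0 by omega]; simp)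
  have hlow : (m : ℤ) ≤ ∑ i ∈ univ.erase i₀, (d i : ℤ) := by
    have h1 := Finset.sum_le_sum (s := univ.erase i₀) (f := fun _ => (1 : ℤ)) (g := fun i => (d i : ℤ))
      fun i _ => by exact_mod_cast hd1 i
    rw [Finset.sum_const, Finset.card_erase_of_mem (Finset.mem_univ _), Finset.card_univ, hcard,
      nsmul_eq_mul, mul_one] at h1
    simpa using h1
  refine ⟨d, i₀, hd, hd1, fun i => hmax i (Finset.mem_univ _), ?_, hlow, hlow.trans
    (Finset.sum_le_sum fun i _ => sq_ge_self _), ?_⟩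
  · rw [← hsum, ← Finset.add_sum_erase _ (fun i => (d i : ℤ) ^ 2) (Finset.mem_univ i₀)]
  · obtain ⟨a, ha, hle⟩ := hrow i₀
    rw [hd i₀] at ha hle
    refine ⟨a, ha, le_trans (le_of_eq ?_) hle⟩
    rw [Finset.mul_sum]
    congr 1
    exact Finset.sum_congr rfl fun j _ => (habs i₀ j).symm

/-- Inertial index two. -/
theorem one_two (h : Scaled C q 1) (hrow : RowBound C 2 m) (hcard : Fintype.card ι = m + 1)
    (hpos : ∀ i, C i i ≠ 0)
    (hN : ∀ s ∈ univ.powersetCard 1, ∃ N : ℕ, minor C s = (q : ℤ) ^ 0 * (N : ℤ) ^ 2)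
    (hqm : q = 2 * m + 1) (hm : 1 ≤ m) {p d : ℕ} (hp : p.Prime) (hd : 2 ≤ d) (hq : q = p ^ d) :
    False := by
  obtain ⟨f, i₀, -, hf1, hmax, hsum, hlow, -, a, ha, hle⟩ := max_row h hrow hcard hpos hN
  have hS := sum_sq_ge a
  rw [ha] at hS
  have hb := bad_values hp hd hq
  have hqz : (q : ℤ) = 2 * m + 1 := by exact_mod_cast hqm
  set R := ∑ i ∈ univ.erase i₀, (f i : ℤ)
  have hDR : (f i₀ : ℤ) * R ≤ 2 * m := by push_cast at hle; linarith
  have hm' : (1 : ℤ) ≤ m := by exact_mod_cast hm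
  have hD2 : f i₀ ≤ 2 := by
    by_contra hD
    have hD' : (3 : ℤ) ≤ f i₀ := by exact_mod_cast not_le.1 hD
    nlinarith [mul_le_mul_of_nonneg_left hlow (by linarith : (0:ℤ) ≤ (f i₀ : ℤ))]
  have hR : R = m ∨ (f i₀ : ℤ) = 1 := by
    rcases Nat.lt_or_ge (f i₀) 2 with hlt | hge
    · right; have := hf1 i₀; exact_mod_cast (show f i₀ = 1 by omega)
    · left
      have : f i₀ = 2 := by omega
      rw [this] at hDR; push_cast at hDR
      linarith
  have hones : ∀ i ∈ univ.erase i₀, f i = 1 := by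
    rcases hR with hR | hR
    · intro i hi
      have h1 : ∑ i ∈ univ.erase i₀, ((f i : ℤ) - 1) = 0 := by
        rw [Finset.sum_sub_distrib, Finset.sum_const, Finset.card_erase_of_mem (Finset.mem_univ _),
          Finset.card_univ, hcard, nsmul_eq_mul, mul_one]
        simp only [Nat.add_sub_cancel]
        linarith
      have := (Finset.sum_eq_zero_iff_of_nonneg fun i _ => by
        have := hf1 i; omega).1 h1 i hi
      omega
    · intro i _
      have := hmax i; have := hf1 i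
      have : f i₀ = 1 := by exact_mod_cast hR
      omega
  rw [Finset.sum_congr rfl fun i hi => by rw [hones i hi], Finset.sum_const,
    Finset.card_erase_of_mem (Finset.mem_univ _), Finset.card_univ, hcard] at hsum
  have := hf1 i₀
  interval_cases hD : f i₀ <;> simp at hsum <;> omega

/-- Inertial index three. -/
theorem one_three (h : Scaled C q 1) (hrow : RowBound C 3 m) (hcard : Fintype.card ι = m + 1)
    (hpos : ∀ i, C i i ≠ 0)
    (hN : ∀ s ∈ univ.powersetCard 1, ∃ N : ℕ, minor C s = (q : ℤ) ^ 0 * (N : ℤ) ^ 2)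
    (hqm : q = 3 * m + 1) (hm : 1 ≤ m) {p d : ℕ} (hp : p.Prime) (hd : 2 ≤ d) (hq : q = p ^ d) :
    m = 8 ∧ ∃ i j, i ≠ j ∧ C i i = 9 ∧ C j j = 9 := by
  obtain ⟨f, i₀, hfC, hf1, hmax, hsum, hlow, hlow2, a, ha, hle⟩ := max_row h hrow hcard hpos hN
  have hS := sum_sq_ge a
  have hS3 := sum_sq_ge_three a
  rw [ha] at hS hS3
  have hb := bad_values hp hd hq
  have hqz : (q : ℤ) = 3 * m + 1 := by exact_mod_cast hqm
  set D : ℤ := (f i₀ : ℤ) with hD
  set R := ∑ i ∈ univ.erase i₀, (f i : ℤ)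
  set R2 := ∑ i ∈ univ.erase i₀, (f i : ℤ) ^ 2
  push_cast at hle
  have hle1 : D * R ≤ 3 * m + D ^ 2 - 1 := by linarith
  have hle3 : D * R + D ^ 2 ≤ 5 * m + 1 := by linarith
  have hDm : D * m ≤ D * R := mul_le_mul_of_nonneg_left hlow (by positivity)
  have hm' : (1 : ℤ) ≤ m := by exact_mod_cast hm
  have hex : D ^ 2 - 1 ≤ 2 * m := by linarith
  have hD5 : f i₀ ≤ 5 := by
    by_contra hgt
    have : (6 : ℤ) ≤ D := by rw [hD]; exact_mod_cast not_le.1 hgt
    nlinarith [mul_le_mul_of_nonneg_left hex (by linarith : (0:ℤ) ≤ D - 3)]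
  have hm1 : (univ.erase i₀).card = m := by
    rw [Finset.card_erase_of_mem (Finset.mem_univ _), Finset.card_univ, hcard]; rfl
  have hE : ∀ g : ℤ, ∑ i ∈ univ.erase i₀, g = m * g := fun g => by
    rw [Finset.sum_const, hm1, nsmul_eq_mul]
  have := hf1 i₀
  interval_cases hf : f i₀
  · -- all roots are one
    have : R2 = m := by
      rw [← mul_one (m : ℤ), ← hE]
      refine Finset.sum_congr rfl fun i _ => ?_
      have := hmax i; have := hf1 i
      rw [show f i = 1 by omega]; norm_num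
    simp only [hD, Nat.cast_one] at hsum
    omega
  · -- roots at most two
    have h2 : R2 - m = 3 * (R - m) := by
      have : ∑ i ∈ univ.erase i₀, ((f i : ℤ) ^ 2 - 1) = 3 * ∑ i ∈ univ.erase i₀, ((f i : ℤ) - 1) := by
        rw [Finset.mul_sum]
        refine Finset.sum_congr rfl fun i _ => ?_
        have := hmax i; have := hf1 i
        interval_cases f i <;> norm_num
      rwa [Finset.sum_sub_distrib, Finset.sum_sub_distrib, hE, mul_one] at this
    simp only [hD, Nat.cast_ofNat] at hsum hle1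
    norm_num at hsum hle1
    omega
  · -- roots at most three
    simp only [hD, Nat.cast_ofNat] at hsum hle1
    norm_num at hsum hle1
    by_cases h3 : ∃ j ∈ univ.erase i₀, f j = 3
    · obtain ⟨j, hj, hj3⟩ := h3
      have hrest : ∀ i ∈ (univ.erase i₀).erase j, f i = 1 := by
        intro i hi
        by_contra hne
        have h1 : (2 : ℤ) + ∑ i ∈ (univ.erase i₀).erase j, ((f i : ℤ) - 1) = R - m := by
          rw [show R - m = ∑ i ∈ univ.erase i₀, ((f i : ℤ) - 1) by
            rw [Finset.sum_sub_distrib, hE, mul_one], ← Finset.add_sum_erase _ _ hj, hj3]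
          norm_num
        have h2 := Finset.single_le_sum (f := fun i => (f i : ℤ) - 1) (fun i _ => by
          have := hf1 i; omega) hi
        have := hf1 i
        omega
      have hR2 : R2 = 9 + ((m : ℤ) - 1) := by
        show ∑ i ∈ univ.erase i₀, (f i : ℤ) ^ 2 = _
        rw [← Finset.add_sum_erase _ _ hj, hj3, Finset.sum_congr rfl fun i hi => by rw [hrest i hi],
          Finset.sum_const, Finset.card_erase_of_mem hj, hm1, nsmul_eq_mul, Nat.cast_sub hm]
        norm_num
      refine ⟨by omega, i₀, j, (Finset.mem_erase.1 hj).1.symm, ?_, ?_⟩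
      · rw [hfC, hf]; norm_num
      · rw [hfC, hj3]; norm_num
    · push Not at h3
      have h2 : R2 - m = 3 * (R - m) := by
        have : ∑ i ∈ univ.erase i₀, ((f i : ℤ) ^ 2 - 1) = 3 * ∑ i ∈ univ.erase i₀, ((f i : ℤ) - 1) := by
          rw [Finset.mul_sum]
          refine Finset.sum_congr rfl fun i hi => ?_
          have := hmax i; have := hf1 i; have := h3 i hi
          interval_cases f i <;> first | omega | norm_num
        rwa [Finset.sum_sub_distrib, Finset.sum_sub_distrib, hE, mul_one] at this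
      omega
  · simp only [hD, Nat.cast_ofNat] at hle1 hle3 hex hDm
    norm_num at hle1 hle3 hex hDm
    omega
  · simp only [hD, Nat.cast_ofNat] at hle1 hle3 hex hDm
    norm_num at hle1 hle3 hex hDm
    omega

/-! ### Two Brauer characters -/

theorem minor_pair {i j : ι} (hij : i ≠ j) : minor C {i, j} = C i i * C j j - C i j * C j i := by
  let e : Fin 2 ≃ ({i, j} : Finset ι) := Equiv.ofBijective
    ![⟨i, by simp⟩, ⟨j, by simp⟩] ((Fintype.bijective_iff_injective_and_card _).2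
      ⟨fun a b hab => by
        fin_cases a <;> fin_cases b <;> simp_all [eq_comm], by
          rw [Fintype.card_fin, Fintype.card_coe, Finset.card_pair hij]⟩)
  rw [minor, ← Matrix.det_submatrix_equiv_self e, Matrix.det_fin_two]
  rfl

/-- The weights of the pairs in rank two. -/
structure Pairs (C : ι → ι → ℤ) (q : ℕ) (n : ι → ι → ℤ) : Prop where
  eq : ∀ i j, C i i * C j j - C i j ^ 2 = (q : ℤ) * n i j
  square : ∀ i j, ∃ x : ℕ, n i j = (x : ℤ) ^ 2
  deg : ∀ i, ∑ j, n i j = C i i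
  symm : ∀ i j, n i j = n j i
  self : ∀ i, n i i = 0
  trans : ∀ i j, n i j = 0 → ∀ k, C j j * n i k = C i i * n j k
  third : ∀ i j, n i j ≠ 0 → ∃ k, n i k ≠ 0 ∧ n j k ≠ 0

theorem exists_pairs (h : Scaled C q 2) (hpos : ∀ i, C i i ≠ 0) {φ : ι} (hφ : ∀ j, C φ j ≠ 0)
    (hN : ∀ s ∈ univ.powersetCard 2, ∃ N : ℕ, minor C s = (q : ℤ) ^ 1 * (N : ℤ) ^ 2) :
    ∃ n, Pairs C q n := by
  choose! N hN using hN
  set n : ι → ι → ℤ := fun i j => if i = j then 0 else (N {i, j} : ℤ) ^ 2 with hn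
  have hq : (q : ℤ) ≠ 0 := by exact_mod_cast h.qpos.ne'
  have heq : ∀ i j, C i i * C j j - C i j ^ 2 = (q : ℤ) * n i j := by
    intro i j
    by_cases hij : i = j
    · subst hij; simp [hn]; ring
    · rw [hn]; simp only [if_neg hij]
      have h1 := hN {i, j} (Finset.mem_powersetCard.2 ⟨Finset.subset_univ _, Finset.card_pair hij⟩)
      rw [minor_pair hij, h.symm j i, pow_one] at h1
      linear_combination h1
  have htr : ∑ i, C i i = 2 * (q : ℤ) := by rw [h.trace]; push_cast; ring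
  have hsq : ∀ i, ∑ k, C i k ^ 2 = (q : ℤ) * C i i := fun i => by
    rw [← h.sq i i]
    exact Finset.sum_congr rfl fun k _ => by rw [h.symm k i]; ring
  have hpar : ∀ i j, n i j = 0 → ∀ k, C j j * C i k = C i j * C j k := by
    intro i j hij k
    have e0 := heq i j
    rw [hij, mul_zero] at e0
    have hijs : ∑ k, C i k * C j k = (q : ℤ) * C i j := by
      rw [← h.sq i j]; exact Finset.sum_congr rfl fun k _ => by rw [h.symm k j]
    have h0 : ∑ k, (C j j * C i k - C i j * C j k) ^ 2 = 0 := by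
      calc ∑ k, (C j j * C i k - C i j * C j k) ^ 2
          = C j j ^ 2 * ∑ k, C i k ^ 2 - 2 * (C j j * C i j) * ∑ k, C i k * C j k +
            C i j ^ 2 * ∑ k, C j k ^ 2 := by
            rw [Finset.mul_sum, Finset.mul_sum, Finset.mul_sum, ← Finset.sum_sub_distrib,
              ← Finset.sum_add_distrib]
            exact Finset.sum_congr rfl fun k _ => by ring
        _ = _ := by rw [hsq, hsq, hijs]; linear_combination ((q : ℤ) * C j j) * e0
    exact sub_eq_zero.1 (pow_eq_zero_iff two_ne_zero |>.1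
      ((Finset.sum_eq_zero_iff_of_nonneg fun k _ => sq_nonneg _).1 h0 k (Finset.mem_univ _)))
  refine ⟨n, heq, fun i j => ?_, fun i => ?_, fun i j => mul_left_cancel₀ hq ?_, fun i => by simp [hn],
    fun i j hij k => ?_, fun i j hij => ?_⟩
  · by_cases hij : i = j
    · exact ⟨0, by simp [hn, hij]⟩
    · exact ⟨N {i, j}, by simp [hn, hij]⟩
  · refine mul_left_cancel₀ hq ?_
    rw [Finset.mul_sum, ← Finset.sum_congr rfl fun j _ => heq i j, Finset.sum_sub_distrib,
      ← Finset.mul_sum, htr, hsq]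
    ring
  · rw [← heq, ← heq, h.symm i j]; ring
  · have e0 := heq i j
    rw [hij, mul_zero] at e0
    refine mul_left_cancel₀ (mul_ne_zero hq (hpos j)) ?_
    linear_combination (-(C j j ^ 2)) * heq i k + (C i i * C j j) * heq j k +
      (C j j * C i k + C i j * C j k) * hpar i j hij k * (-1) + C j k ^ 2 * e0
  · by_contra hno
    push Not at hno
    set X := univ.filter fun k => n i k = 0
    have hY : ∀ k ∉ X, n j k = 0 := fun k hk => hno k (by simpa [X] using hk)
    have hX : ∀ k ∈ X, n i k = 0 := fun k hk => by simpa [X] using hk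
    have hjX : ∀ k ∈ X, C i i * C j k = C i j * C i k := by
      intro k hk
      have hki : n k i = 0 := mul_left_cancel₀ hq (by rw [← heq, h.symm k i, mul_comm, heq, hX k hk])
      have := hpar k i hki j
      rw [h.symm k j, h.symm k i] at this
      linear_combination this
    have hiY : ∀ k ∉ X, C j j * C i k = C i j * C j k := by
      intro k hk
      have hkj : n k j = 0 := mul_left_cancel₀ hq (by rw [← heq, h.symm k j, mul_comm, heq, hY k hk])
      have := hpar k j hkj i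
      rw [h.symm k i, h.symm k j, h.symm j i] at this
      linear_combination this
    have hij0 : C i j = 0 := by
      have hs : (q : ℤ) * C i j = ∑ k, C i k * C j k := by
        rw [← h.sq i j]; exact Finset.sum_congr rfl fun k _ => by rw [h.symm k j]
      rw [← Finset.sum_add_sum_compl X] at hs
      have hA : C i i * ∑ k ∈ X, C i k * C j k = C i i * (C i j * ∑ k ∈ X, C k k) := by
        simp only [Finset.mul_sum]
        refine Finset.sum_congr rfl fun k hk => ?_
        have e0 := heq i k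
        rw [hX k hk, mul_zero] at e0
        linear_combination C i k * hjX k hk - C i j * e0
      have hB : C j j * ∑ k ∈ Xᶜ, C i k * C j k = C j j * (C i j * ∑ k ∈ Xᶜ, C k k) := by
        simp only [Finset.mul_sum]
        refine Finset.sum_congr rfl fun k hk => ?_
        have e0 := heq j k
        rw [hY k (Finset.mem_compl.1 hk), mul_zero] at e0
        linear_combination C j k * hiY k (Finset.mem_compl.1 hk) - C i j * e0
      rw [mul_left_cancel₀ (hpos i) hA, mul_left_cancel₀ (hpos j) hB, ← mul_add,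
        Finset.sum_add_sum_compl, htr] at hs
      by_contra hne
      exact hne (mul_left_cancel₀ hq (by linarith : (q : ℤ) * C i j = (q : ℤ) * 0))
    by_cases hφX : φ ∈ X
    · have := hjX φ hφX
      rw [hij0, zero_mul, h.symm j φ] at this
      exact hφ j ((mul_eq_zero.1 this).resolve_left (hpos i))
    · have := hiY φ hφX
      rw [hij0, zero_mul, h.symm i φ] at this
      exact hφ i ((mul_eq_zero.1 this).resolve_left (hpos j))

namespace Pairs

variable {n : ι → ι → ℤ} (P : Pairs C q n)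
include P

theorem nonneg (i j : ι) : 0 ≤ n i j := by
  obtain ⟨x, hx⟩ := P.square i j; rw [hx]; positivity

theorem one_le {i j : ι} (h : n i j ≠ 0) : 1 ≤ n i j := by
  have := P.nonneg i j; omega

/-- A weight is at most one or at least four. -/
theorem gap (i j : ι) : n i j ≤ 1 ∨ 4 ≤ n i j := by
  obtain ⟨x, hx⟩ := P.square i j
  rcases Nat.lt_or_ge x 2 with h | h
  · left; interval_cases x <;> simp [hx]
  · right; rw [hx]
    have : (2 : ℤ) ≤ x := by exact_mod_cast h
    nlinarith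

theorem card_le_diag (i : ι) : (((univ.filter fun j => n i j ≠ 0).card : ℕ) : ℤ) ≤ C i i := by
  rw [← P.deg i, Finset.card_filter, Nat.cast_sum]
  refine Finset.sum_le_sum fun j _ => ?_
  split_ifs with h
  · exact_mod_cast P.one_le h
  · exact_mod_cast P.nonneg i j

theorem not_zero_of_zero {i j k : ι} (hpos : ∀ i, C i i ≠ 0) (hij : n i j = 0) (hjk : n j k ≠ 0) :
    n i k ≠ 0 := fun h0 => by
  have := P.trans i j hij k
  rw [h0, mul_zero, eq_comm, mul_eq_zero] at this
  exact this.elim (hpos i) hjk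

/-- Two outsiders. -/
theorem two_case (h : Scaled C q 2) (hrow : RowBound C 3 m) (hpos : ∀ i, 0 < C i i) (hqm : q = 3 * m + 1)
    (hm : 1 ≤ m) {p d : ℕ} (hp : p.Prime) (hd : 2 ≤ d) (hq : q = p ^ d) {X : Finset ι}
    (hX : ∀ c ∈ X, ∀ k ∈ X, n c k = 0) {u v : ι} (huv : u ≠ v) (hO : Xᶜ = {u, v}) (hXm : X.card = m)
    (hcu : ∀ c ∈ X, n c u ≠ 0) (hcv : ∀ c ∈ X, n c v ≠ 0) (hnuv : n u v ≠ 0) : False := by
  have hb := bad_values hp hd hq
  have hne : ∀ i, C i i ≠ 0 := fun i => (hpos i).ne'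
  have huO : u ∉ X := Finset.mem_compl.1 (hO ▸ Finset.mem_insert_self u _)
  have hvO : v ∉ X := Finset.mem_compl.1 (hO ▸ Finset.mem_insert_of_mem (Finset.mem_singleton_self v))
  have hsplit : ∀ f : ι → ℤ, ∑ j, f j = (∑ j ∈ X, f j) + (f u + f v) := fun f => by
    rw [← Finset.sum_add_sum_compl X, hO, Finset.sum_pair huv]
  have hdegX : ∀ c ∈ X, C c c = n c u + n c v := fun c hc => by
    rw [← P.deg c, hsplit, Finset.sum_eq_zero fun j hj => hX c hc j hj, zero_add]
  have hdegu : C u u = ∑ c ∈ X, n c u + n u v := by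
    rw [← P.deg u, hsplit, P.self, zero_add]
    congr 1
    exact Finset.sum_congr rfl fun c _ => P.symm u c
  have hdegv : C v v = ∑ c ∈ X, n c v + n u v := by
    rw [← P.deg v, hsplit, P.self, add_zero, P.symm v u]
    congr 1
    exact Finset.sum_congr rfl fun c _ => P.symm v c
  have htot : ∑ c ∈ X, (n c u + n c v) + n u v = (q : ℤ) := by
    have := h.trace
    rw [hsplit, Finset.sum_congr rfl hdegX, hdegu, hdegv, Finset.sum_add_distrib] at this
    rw [Finset.sum_add_distrib]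
    push_cast at this
    linarith
  have hqz : (q : ℤ) = 3 * m + 1 := by exact_mod_cast hqm
  have hm' : (1 : ℤ) ≤ m := by exact_mod_cast hm
  have hduv := P.one_le hnuv
  have heq : ∀ c ∈ X, n c u = n c v := by
    by_contra hne'
    push Not at hne'
    obtain ⟨c₀, hc₀, hd0⟩ := hne'
    have h5 : ∀ c ∈ X, (5 : ℤ) ≤ n c u + n c v := by
      intro c hc
      have hne2 : n c u ≠ n c v := fun e0 => by
        have t1 := P.trans c₀ c (hX c₀ hc₀ c hc) u
        have t2 := P.trans c₀ c (hX c₀ hc₀ c hc) v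
        rw [← e0, ← t1] at t2
        exact hd0 (mul_left_cancel₀ (hne c) t2).symm
      rcases P.gap c u with g1 | g1 <;> rcases P.gap c v with g2 | g2 <;>
        have := P.one_le (hcu c hc) <;> have := P.one_le (hcv c hc) <;> omega
    have := Finset.sum_le_sum h5
    rw [Finset.sum_const, hXm, nsmul_eq_mul] at this
    linarith
  choose r hr using fun c => P.square c u
  obtain ⟨δ, hδ⟩ := P.square u v
  set S2 := ∑ c ∈ X, (r c : ℤ) ^ 2 with hS2
  set S1 := ∑ c ∈ X, (r c : ℤ) with hS1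
  have hr1 : ∀ c ∈ X, (1 : ℤ) ≤ r c := fun c hc => by
    by_contra h0
    exact hcu c hc (by rw [hr c, show (r c : ℤ) = 0 by omega]; norm_num)
  have hC : ∀ c ∈ X, C c c = 2 * (r c : ℤ) ^ 2 := fun c hc => by
    rw [hdegX c hc, ← heq c hc, hr c]; ring
  have hU : C u u = S2 + (δ : ℤ) ^ 2 := by
    rw [hdegu, hδ, Finset.sum_congr rfl fun c _ => hr c]
  have hV : C v v = S2 + (δ : ℤ) ^ 2 := by
    rw [hdegv, hδ, Finset.sum_congr rfl fun c hc => (heq c hc).symm.trans (hr c)]
  have htot' : 2 * S2 + (δ : ℤ) ^ 2 = (q : ℤ) := by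
    rw [← htot, hδ, Finset.sum_add_distrib, Finset.sum_congr rfl fun c hc => (heq c hc).symm,
      Finset.sum_congr rfl fun c _ => hr c]
    ring
  have habs : ∀ {x y : ℤ}, 0 ≤ y → x ^ 2 = y ^ 2 → |x| = y := fun hy hxy => by
    rw [← abs_of_nonneg hy, ← sq_eq_sq_iff_abs_eq_abs, hxy]
  have hS20 : 0 ≤ S2 := Finset.sum_nonneg fun c _ => sq_nonneg _
  have acu : ∀ c ∈ X, |C c u| = (r c : ℤ) * δ := fun c hc => habs (by positivity) (by
    have e0 := P.eq c u
    rw [hC c hc, hU, hr c] at e0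
    linear_combination -e0 + (r c : ℤ) ^ 2 * htot')
  have acv : ∀ c ∈ X, |C c v| = (r c : ℤ) * δ := fun c hc => habs (by positivity) (by
    have e0 := P.eq c v
    rw [hC c hc, hV, ← heq c hc, hr c] at e0
    linear_combination -e0 + (r c : ℤ) ^ 2 * htot')
  have auv : |C u v| = S2 := habs hS20 (by
    have e0 := P.eq u v
    rw [hU, hV, hδ] at e0
    linear_combination -e0 + (δ : ℤ) ^ 2 * htot')
  have aX : ∀ c ∈ X, ∀ k ∈ X, |C c k| = 2 * (r c : ℤ) * r k := fun c hc k hk => habs (by positivity) (by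
    have e0 := P.eq c k
    rw [hC c hc, hC k hk, hX c hc k hk] at e0
    linear_combination -e0)
  have hlow1 : (m : ℤ) ≤ S1 := by
    have := Finset.sum_le_sum hr1
    rwa [Finset.sum_const, hXm, nsmul_eq_mul, mul_one] at this
  -- the row of an outsider
  obtain ⟨a, ha, hle⟩ := hrow u
  have hrowu : ∑ j ∈ univ.erase u, |C u j| = (δ : ℤ) * S1 + S2 := by
    have h1 := Finset.add_sum_erase univ (fun j => |C u j|) (Finset.mem_univ u)
    rw [hsplit] at h1
    simp only [auv] at h1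
    rw [Finset.sum_congr rfl fun c hc => (congrArg abs (h.symm u c)).trans (acu c hc), ← Finset.sum_mul,
      ← hS1] at h1
    linear_combination h1
  rw [hrowu, hU] at hle
  rw [hU] at ha
  have hS3 := sum_sq_ge_three a
  rw [ha] at hS3
  push_cast at hle
  have hδ1 : (1 : ℤ) ≤ δ := by
    by_contra h0
    exact hnuv (by rw [hδ, show (δ : ℤ) = 0 by omega]; norm_num)
  have hδS : (δ : ℤ) * S1 ≤ 2 * m := by linarith
  have hδ2 : δ ≤ 2 := by
    by_contra hgt
    have h3 : (3 : ℤ) ≤ δ := by exact_mod_cast not_le.1 hgt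
    nlinarith [mul_le_mul h3 hlow1 (by positivity) (by linarith)]
  have hδpos : 1 ≤ δ := by exact_mod_cast hδ1
  interval_cases hδv : δ
  · -- the largest root
    norm_num at htot' hU hV acu acv
    have hXne : X.Nonempty := Finset.card_pos.1 (by omega)
    obtain ⟨c₀, hc₀, hmax⟩ := Finset.exists_max_image X r hXne
    obtain ⟨b, hb', hleb⟩ := hrow c₀
    have hrowc : ∑ j ∈ univ.erase c₀, |C c₀ j| = 2 * (r c₀ : ℤ) * (S1 - r c₀) + 2 * r c₀ := by
      have h1 := Finset.add_sum_erase univ (fun j => |C c₀ j|) (Finset.mem_univ c₀)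
      rw [hsplit] at h1
      simp only [acu c₀ hc₀, acv c₀ hc₀, aX c₀ hc₀ c₀ hc₀] at h1
      rw [Finset.sum_congr rfl fun k hk => aX c₀ hc₀ k hk, ← Finset.mul_sum, ← hS1] at h1
      linear_combination h1
    rw [hrowc, hC c₀ hc₀] at hleb
    rw [hC c₀ hc₀] at hb'
    have hSb := sum_sq_ge b
    rw [hb'] at hSb
    push_cast at hleb
    set D : ℤ := (r c₀ : ℤ) with hDdef
    have hD1 := hr1 c₀ hc₀
    have hex : D ^ 2 - 1 ≤ S2 - m := by
      have h1 : ∑ c ∈ X, ((r c : ℤ) ^ 2 - 1) = S2 - m := by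
        rw [Finset.sum_sub_distrib, Finset.sum_const, hXm, nsmul_eq_mul, mul_one]
      rw [← h1]
      exact Finset.single_le_sum (f := fun c => (r c : ℤ) ^ 2 - 1) (fun c hc => by
        have := hr1 c hc; nlinarith) hc₀
    have hlow' : (m : ℤ) - 1 ≤ S1 - D := by
      rw [hS1, ← Finset.add_sum_erase _ _ hc₀]
      have := Finset.sum_le_sum (s := X.erase c₀) fun c hc => hr1 c (Finset.mem_of_mem_erase hc)
      rw [Finset.sum_const, Finset.card_erase_of_mem hc₀, hXm, nsmul_eq_mul, mul_one, Nat.cast_sub hm] at this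
      push_cast at this
      linarith
    have hDm : 2 * D * m ≤ 3 * m + 2 * D ^ 2 - 1 := by
      nlinarith [mul_le_mul_of_nonneg_left hlow' (by linarith : (0:ℤ) ≤ 2 * D)]
    have hD2 : r c₀ ≤ 2 := by
      by_contra hgt
      have h3 : (3 : ℤ) ≤ D := by rw [hDdef]; exact_mod_cast not_le.1 hgt
      nlinarith [mul_le_mul_of_nonneg_left (show 2 * D ^ 2 - 2 ≤ (m : ℤ) by linarith)
        (by linarith : (0:ℤ) ≤ 2 * D - 3)]
    have hDpos : 1 ≤ r c₀ := by exact_mod_cast hr1 c₀ hc₀
    interval_cases hDv : r c₀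
    · have : S2 = m := by
        rw [hS2, Finset.sum_congr rfl fun c hc => show (r c : ℤ) ^ 2 = 1 by
          have := hmax c hc; have := hr1 c hc
          rw [show (r c : ℤ) = 1 by omega]; norm_num, Finset.sum_const, hXm, nsmul_eq_mul, mul_one]
      omega
    · simp only [hDdef] at hDm hex
      norm_num at hDm hex
      omega
  · have hS1m : S1 = m := by push_cast at hδS; linarith
    have : S2 = m := by
      have h0 : ∑ c ∈ X, ((r c : ℤ) - 1) = 0 := by
        rw [Finset.sum_sub_distrib, Finset.sum_const, hXm, nsmul_eq_mul, mul_one, ← hS1, hS1m, sub_self]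
      have := fun c hc => (Finset.sum_eq_zero_iff_of_nonneg fun c hc => sub_nonneg.2 (hr1 c hc)).1 h0 c hc
      rw [hS2, Finset.sum_congr rfl fun c hc => show (r c : ℤ) ^ 2 = 1 by
        rw [sub_eq_zero.1 (this c hc)]; norm_num, Finset.sum_const, hXm, nsmul_eq_mul, mul_one]
    norm_num at htot'
    omega

/-- Three outsiders. -/
theorem three_case (h : Scaled C q 2) (hqm : q = 3 * m + 1) {X : Finset ι}
    (hX : ∀ c ∈ X, ∀ k ∈ X, n c k = 0) {u v w : ι} (huv : u ≠ v) (huw : u ≠ w) (hvw : v ≠ w)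
    (hO : Xᶜ = {u, v, w}) (hXm : X.card + 1 = m) (hXO : ∀ c ∈ X, ∀ o ∈ Xᶜ, n c o ≠ 0)
    (hsome : ∀ o ∈ Xᶜ, ∃ o' ∈ Xᶜ, n o o' ≠ 0) : False := by
  have hsplit : ∀ f : ι → ℤ, ∑ j, f j = (∑ j ∈ X, f j) + (f u + f v + f w) := fun f => by
    rw [← Finset.sum_add_sum_compl X, hO, Finset.sum_insert (by simp [huv, huw]), Finset.sum_pair hvw,
      add_assoc (f u)]
  have htot : ∑ c ∈ X, (n c u + n c v + n c w) + (n u v + n u w + n v w) = (q : ℤ) := by
    have ht := h.trace
    rw [← Finset.sum_congr rfl fun i _ => P.deg i, hsplit, hsplit (n u), hsplit (n v), hsplit (n w),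
      Finset.sum_congr rfl fun c hc => (show ∑ j, n c j = n c u + n c v + n c w by
        rw [hsplit, Finset.sum_eq_zero fun j hj => hX c hc j hj, zero_add]),
      P.self, P.self, P.self, P.symm v u, P.symm w u, P.symm w v,
      Finset.sum_congr rfl fun c _ => P.symm u c, Finset.sum_congr rfl fun c _ => P.symm v c,
      Finset.sum_congr rfl fun c _ => P.symm w c] at ht
    rw [Finset.sum_add_distrib, Finset.sum_add_distrib] at ht ⊢
    push_cast at ht
    linarith
  have hu : u ∈ Xᶜ := hO ▸ by simp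
  have hv : v ∈ Xᶜ := hO ▸ by simp
  have hw : w ∈ Xᶜ := hO ▸ by simp
  set Y := ∑ c ∈ X, (n c u + n c v + n c w - 3) with hY
  have hY' : Y + 3 * ((m : ℤ) - 1) + (n u v + n u w + n v w) = 3 * (m : ℤ) + 1 := by
    rw [hY, Finset.sum_sub_distrib, Finset.sum_const, nsmul_eq_mul]
    have : (X.card : ℤ) + 1 = m := by exact_mod_cast hXm
    have : (q : ℤ) = 3 * m + 1 := by exact_mod_cast hqm
    linarith
  have hterm : ∀ c ∈ X, n c u + n c v + n c w - 3 = 0 ∨ 3 ≤ n c u + n c v + n c w - 3 := by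
    intro c hc
    have := P.one_le (hXO c hc u hu); have := P.one_le (hXO c hc v hv); have := P.one_le (hXO c hc w hw)
    rcases P.gap c u with g | g <;> rcases P.gap c v with g' | g' <;> rcases P.gap c w with g'' | g'' <;>
      omega
  have hY0 : Y = 0 ∨ 3 ≤ Y := by
    by_cases hall : ∀ c ∈ X, n c u + n c v + n c w - 3 = 0
    · exact Or.inl (Finset.sum_eq_zero hall)
    · push Not at hall
      obtain ⟨c, hc, hc0⟩ := hall
      refine Or.inr (le_trans ((hterm c hc).resolve_left hc0) (Finset.single_le_sum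
        (f := fun c => n c u + n c v + n c w - 3) (fun c hc => by
          rcases hterm c hc with g | g <;> omega) hc))
  have key : ∀ o ∈ Xᶜ, n o u ≠ 0 ∨ n o v ≠ 0 ∨ n o w ≠ 0 := by
    intro o ho
    obtain ⟨o', ho', hne⟩ := hsome o ho
    rw [hO] at ho'
    simp only [Finset.mem_insert, Finset.mem_singleton] at ho'
    rcases ho' with rfl | rfl | rfl <;> tauto
  have k1 := key u hu; have k2 := key v hv; have k3 := key w hw
  have := P.self u; have := P.self v; have := P.self w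
  have := P.symm v u; have := P.symm w u; have := P.symm w v
  have := P.nonneg u v; have := P.nonneg u w; have := P.nonneg v w
  rcases P.gap u v with g | g <;> rcases P.gap u w with g' | g' <;> rcases P.gap v w with g'' | g'' <;>
    omega

/-- Four outsiders and seven characters. -/
theorem four_case (h : Scaled C q 2) (hpos : ∀ i, 0 < C i i) (hq : q = 16) {X : Finset ι}
    (hX : ∀ c ∈ X, ∀ k ∈ X, n c k = 0) (hXc : X.card = 3) (hOc : Xᶜ.card = 4)
    (hXO : ∀ c ∈ X, ∀ o ∈ Xᶜ, n c o ≠ 0) (hsome : ∀ o ∈ Xᶜ, ∃ o' ∈ Xᶜ, n o o' ≠ 0) :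
    ∃ i, C i i = 5 := by
  by_contra hno
  push Not at hno
  have hne : ∀ i, C i i ≠ 0 := fun i => (hpos i).ne'
  have hsplit : ∀ f : ι → ℤ, ∑ j, f j = (∑ j ∈ X, f j) + ∑ j ∈ Xᶜ, f j := fun f =>
    (Finset.sum_add_sum_compl X f).symm
  have htr : ∑ c ∈ X, C c c + ∑ o ∈ Xᶜ, C o o = 32 := by
    rw [← hsplit, h.trace, hq]; norm_num
  have hX4 : ∀ c ∈ X, (4 : ℤ) ≤ C c c := fun c hc => by
    refine le_trans ?_ (P.card_le_diag c)
    rw [← Nat.cast_ofNat (n := 4), ← hOc]
    exact_mod_cast Finset.card_le_card fun o ho => Finset.mem_filter.2 ⟨Finset.mem_univ _, hXO c hc o ho⟩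
  obtain ⟨v, hv, hv4⟩ : ∃ v ∈ Xᶜ, C v v ≤ 5 := by
    by_contra hbig
    push Not at hbig
    have h1 := Finset.sum_le_sum hX4
    have h2 := Finset.sum_le_sum fun o ho => (show (6 : ℤ) ≤ C o o from hbig o ho)
    rw [Finset.sum_const, hXc, nsmul_eq_mul] at h1
    rw [Finset.sum_const, hOc, nsmul_eq_mul] at h2
    push_cast at h1 h2
    linarith
  have hvdeg : C v v = ∑ c ∈ X, n c v + ∑ o ∈ Xᶜ, n v o := by
    rw [← P.deg v, hsplit]
    congr 1
    exact Finset.sum_congr rfl fun c _ => P.symm v c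
  have hv1 : ∀ c ∈ X, (1 : ℤ) ≤ n c v := fun c hc => P.one_le (hXO c hc v hv)
  have hv3 : (3 : ℤ) ≤ ∑ c ∈ X, n c v := by
    have := Finset.sum_le_sum hv1
    rwa [Finset.sum_const, hXc, nsmul_eq_mul, mul_one] at this
  obtain ⟨w, hw, hvw⟩ := hsome v hv
  have hv44 : C v v ≤ 4 := by have := hno v; omega
  have hrest : ∑ o ∈ Xᶜ.erase w, n v o = 0 ∧ n v w = 1 ∧ ∑ c ∈ X, n c v = 3 := by
    rw [← Finset.add_sum_erase _ _ hw] at hvdeg
    have := P.one_le hvw
    have : 0 ≤ ∑ o ∈ Xᶜ.erase w, n v o := Finset.sum_nonneg fun o _ => P.nonneg v o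
    omega
  set K := Xᶜ.erase w with hK
  have hKc : K.card = 3 := by rw [hK, Finset.card_erase_of_mem hw, hOc]
  have hK0 : ∀ t ∈ K, n t v = 0 := fun t ht => by
    rw [P.symm]
    exact (Finset.sum_eq_zero_iff_of_nonneg fun o _ => P.nonneg v o).1 hrest.1 t ht
  have hKw : ∀ t ∈ K, n t w ≠ 0 := fun t ht => P.not_zero_of_zero hne (hK0 t ht) hvw
  have hKO : ∀ t ∈ K, t ∈ Xᶜ := fun t ht => Finset.mem_of_mem_erase ht
  have hsplit' : ∀ f : ι → ℤ, ∑ j, f j = (∑ j ∈ X, f j) + (f w + ∑ j ∈ K, f j) := fun f => by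
    rw [hsplit, ← Finset.add_sum_erase _ _ hw]
  -- the members outside `w` and `X` are parallel
  have hKK : ∀ t ∈ K, ∀ t' ∈ K, n t t' = 0 := by
    intro t ht t' ht'
    have := P.trans t v (hK0 t ht) t'
    rw [P.symm v t', hK0 t' ht', mul_zero, mul_eq_zero] at this
    exact this.resolve_left (hne v)
  have hvdeg4 : C v v = 4 := by
    rw [hvdeg, ← Finset.add_sum_erase _ _ hw, hrest.1, hrest.2.1, hrest.2.2]; norm_num
  have htK : ∀ t ∈ K, C t t = 4 ∨ 16 ≤ C t t := by
    intro t ht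
    have := P.trans t v (hK0 t ht) w
    rw [hvdeg4, hrest.2.1, mul_one] at this
    have := P.one_le (hKw t ht)
    rcases P.gap t w with g | g <;> omega
  have hwdeg : C w w = ∑ c ∈ X, n c w + ∑ t ∈ K, n t w := by
    rw [← P.deg w, hsplit', P.self, zero_add]
    congr 1 <;> exact Finset.sum_congr rfl fun c _ => P.symm w c
  have hXdeg : ∀ c ∈ X, C c c = n c w + ∑ t ∈ K, n c t := fun c hc => by
    rw [← P.deg c, hsplit', Finset.sum_eq_zero fun j hj => hX c hc j hj, zero_add]
  have hN3 : (3 : ℤ) ≤ ∑ c ∈ X, n c w := by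
    have := Finset.sum_le_sum fun c hc => P.one_le (hXO c hc w hw)
    rwa [Finset.sum_const, hXc, nsmul_eq_mul, mul_one] at this
  have hNt : (3 : ℤ) ≤ ∑ t ∈ K, n t w := by
    have := Finset.sum_le_sum fun t ht => P.one_le (hKw t ht)
    rwa [Finset.sum_const, hKc, nsmul_eq_mul, mul_one] at this
  rw [← Finset.add_sum_erase _ _ hw] at htr
  have hX12 : (12 : ℤ) ≤ ∑ c ∈ X, C c c := by
    have := Finset.sum_le_sum hX4
    rw [Finset.sum_const, hXc, nsmul_eq_mul] at this
    norm_num at this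
    exact this
  have hK4 : ∀ t ∈ K, C t t = 4 := by
    intro t ht
    refine (htK t ht).resolve_right fun h16 => ?_
    rw [← Finset.add_sum_erase _ _ ht] at htr
    have : (8 : ℤ) ≤ ∑ i ∈ K.erase t, C i i := by
      have := Finset.sum_le_sum (s := K.erase t) fun i hi => (show (4 : ℤ) ≤ C i i by
        rcases htK i (Finset.mem_of_mem_erase hi) with g | g <;> omega)
      rw [Finset.sum_const, Finset.card_erase_of_mem ht, hKc, nsmul_eq_mul] at this
      norm_num at this
      exact this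
    omega
  have hone : ∀ t ∈ K, n t w = 1 ∧ ∀ c ∈ X, n c t = n c v := by
    intro t ht
    refine ⟨?_, fun c hc => ?_⟩
    · have := P.trans t v (hK0 t ht) w
      rw [hvdeg4, hrest.2.1, hK4 t ht] at this
      omega
    · have := P.trans t v (hK0 t ht) c
      rw [hvdeg4, hK4 t ht, P.symm t c, P.symm v c] at this
      omega
  have hcv : ∀ c ∈ X, n c v = 1 := by
    intro c hc
    have h0 : ∑ c ∈ X, (n c v - 1) = 0 := by
      rw [Finset.sum_sub_distrib, Finset.sum_const, hXc, nsmul_eq_mul, hrest.2.2]; norm_num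
    exact sub_eq_zero.1 ((Finset.sum_eq_zero_iff_of_nonneg fun c hc => sub_nonneg.2 (hv1 c hc)).1 h0 c hc)
  rw [hwdeg, Finset.sum_congr rfl hXdeg, Finset.sum_congr rfl hK4,
    Finset.sum_congr rfl fun t ht => (hone t ht).1, Finset.sum_add_distrib,
    Finset.sum_congr rfl fun c hc => Finset.sum_congr rfl fun t ht => ((hone t ht).2 c hc).trans (hcv c hc)]
    at htr
  simp only [Finset.sum_const, hKc, hXc, nsmul_eq_mul] at htr
  norm_num at htr
  have h4 : ∑ c ∈ X, n c w = 4 := by omega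
  obtain ⟨c, hc, hc1⟩ : ∃ c ∈ X, 2 ≤ n c w := by
    by_contra hall
    push Not at hall
    have := Finset.sum_le_sum fun c hc => (show n c w ≤ 1 by have := hall c hc; omega)
    rw [Finset.sum_const, hXc, nsmul_eq_mul, mul_one] at this
    omega
  rw [← Finset.add_sum_erase _ _ hc] at h4
  have := Finset.sum_le_sum (s := X.erase c) fun i hi =>
    P.one_le (hXO i (Finset.mem_of_mem_erase hi) w hw)
  rw [Finset.sum_const, Finset.card_erase_of_mem hc, hXc, nsmul_eq_mul, mul_one] at this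
  rcases P.gap c w with g | g <;> omega

end Pairs

/-- Inertial index three, two Brauer characters. -/
theorem two_three (h : Scaled C q 2) (hrow : RowBound C 3 m) (hcard : Fintype.card ι = m + 2)
    (hpos : ∀ i, C i i ≠ 0) {φ : ι} (hφ : ∀ j, C φ j ≠ 0)
    (hN : ∀ s ∈ univ.powersetCard 2, ∃ N : ℕ, minor C s = (q : ℤ) ^ 1 * (N : ℤ) ^ 2)
    (hqm : q = 3 * m + 1) (hm : 1 ≤ m) {p d : ℕ} (hp : p.Prime) (hd : 2 ≤ d) (hq : q = p ^ d) :
    m = 5 ∧ ∃ i, C i i = 5 := by
  obtain ⟨n, P⟩ := exists_pairs h hpos hφ hN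
  have hb := bad_values hp hd hq
  have hpos' : ∀ i, 0 < C i i := fun i => lt_of_le_of_ne (diag_nonneg h i) (hpos i).symm
  set cls : ι → Finset ι := fun i => univ.filter fun j => n i j = 0
  have : Nonempty ι := ⟨φ⟩
  obtain ⟨i₀, -, hmax⟩ := Finset.exists_max_image univ (fun i => (cls i).card) Finset.univ_nonempty
  set X := cls i₀ with hXdef
  have hX : ∀ c ∈ X, ∀ k ∈ X, n c k = 0 := by
    intro c hc k hk
    have hc' : n c i₀ = 0 := by rw [P.symm]; exact (Finset.mem_filter.1 hc).2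
    have := P.trans c i₀ hc' k
    rw [(Finset.mem_filter.1 hk).2, mul_zero, mul_eq_zero] at this
    exact this.resolve_left (hpos i₀)
  have hXO : ∀ c ∈ X, ∀ o ∈ Xᶜ, n c o ≠ 0 := by
    intro c hc o ho
    refine P.not_zero_of_zero hpos (j := i₀) (by rw [P.symm]; exact (Finset.mem_filter.1 hc).2) ?_
    exact fun h0 => Finset.mem_compl.1 ho (Finset.mem_filter.2 ⟨Finset.mem_univ _, h0⟩)
  have hi₀X : i₀ ∈ X := Finset.mem_filter.2 ⟨Finset.mem_univ _, P.self i₀⟩
  have hsome : ∀ o ∈ Xᶜ, ∃ o' ∈ Xᶜ, n o o' ≠ 0 := by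
    intro o ho
    obtain ⟨k, hk1, hk2⟩ := P.third i₀ o (hXO i₀ hi₀X o ho)
    exact ⟨k, Finset.mem_compl.2 fun hk => hk1 (Finset.mem_filter.1 hk).2, hk2⟩
  set r := Xᶜ.card with hr
  have hXr : X.card + r = m + 2 := by rw [hr, Finset.card_compl]; have := X.card_le_univ; omega
  have hdeg : ∀ i, (r : ℤ) ≤ C i i := fun i => by
    refine le_trans ?_ (P.card_le_diag i)
    have h1 : (cls i).card + (univ.filter fun j => n i j ≠ 0).card = m + 2 := by
      rw [Finset.card_filter_add_card_filter_not, Finset.card_univ, hcard]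
    have h2 := hmax i (Finset.mem_univ _)
    have h3 : r ≤ (univ.filter fun j => n i j ≠ 0).card := by omega
    exact_mod_cast h3
  have hqz : (q : ℤ) = 3 * m + 1 := by exact_mod_cast hqm
  have htr : ∑ i ∈ X, C i i + ∑ i ∈ Xᶜ, C i i = 6 * (m : ℤ) + 2 := by
    rw [Finset.sum_add_sum_compl, h.trace, hqz]; push_cast; ring
  have h1 : (X.card : ℤ) * r ≤ ∑ i ∈ X, C i i := by
    have := Finset.sum_le_sum (s := X) fun i _ => hdeg i
    rwa [Finset.sum_const, nsmul_eq_mul] at this
  have h2 : (r : ℤ) * (X.card + 1) ≤ ∑ i ∈ Xᶜ, C i i := by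
    have := Finset.sum_le_sum (s := Xᶜ) fun o ho => (show (X.card : ℤ) + 1 ≤ C o o by
      refine le_trans ?_ (P.card_le_diag o)
      obtain ⟨o', ho', hne⟩ := hsome o ho
      have : X.card + 1 ≤ (univ.filter fun j => n o j ≠ 0).card := by
        rw [← Finset.card_insert_of_notMem (Finset.mem_compl.1 ho')]
        refine Finset.card_le_card fun j hj => Finset.mem_filter.2 ⟨Finset.mem_univ _, ?_⟩
        rcases Finset.mem_insert.1 hj with rfl | hj
        · exact hne
        · rw [P.symm]; exact hXO j hj o ho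
      exact_mod_cast this)
    rwa [Finset.sum_const, nsmul_eq_mul] at this
  have h3 : (r : ℤ) * r ≤ ∑ i ∈ Xᶜ, C i i := by
    have := Finset.sum_le_sum (s := Xᶜ) fun i _ => hdeg i
    rwa [Finset.sum_const, nsmul_eq_mul] at this
  have hXz : (X.card : ℤ) + r = m + 2 := by exact_mod_cast hXr
  have hr5 : r ≤ 5 := by
    by_contra hgt
    have : (6 : ℤ) ≤ r := by exact_mod_cast not_le.1 hgt
    nlinarith
  have hr2 : 2 ≤ r := by
    by_contra hlt
    have hOne : r = 0 ∨ ∃ o, Xᶜ = {o} := by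
      rcases Nat.eq_zero_or_pos r with h0 | h0
      · exact Or.inl h0
      · exact Or.inr (Finset.card_eq_one.1 (by omega))
    rcases hOne with h0 | ⟨o, ho⟩
    · have h0' : Xᶜ = ∅ := Finset.card_eq_zero.1 h0
      have := P.deg i₀
      rw [Finset.sum_eq_zero fun j _ => ?_] at this
      · exact hpos i₀ this.symm
      · exact (Finset.mem_filter.1 (show j ∈ X by
          by_contra hj
          exact absurd (Finset.mem_compl.2 hj) (h0' ▸ Finset.notMem_empty j))).2
    · obtain ⟨o', ho', hne⟩ := hsome o (ho ▸ Finset.mem_singleton_self o)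
      rw [ho, Finset.mem_singleton] at ho'
      subst ho'
      exact hne (P.self _)
  interval_cases hrv : r
  · obtain ⟨u, v, huv, hO⟩ := Finset.card_eq_two.1 hr.symm
    obtain ⟨o', ho', hne⟩ := hsome u (hO ▸ Finset.mem_insert_self u _)
    rw [hO, Finset.mem_insert, Finset.mem_singleton] at ho'
    obtain rfl : o' = v := ho'.resolve_left fun e0 => hne (e0 ▸ P.self u)
    exact (P.two_case h hrow hpos' hqm hm hp hd hq hX huv hO (by omega)
      (fun c hc => hXO c hc u (hO ▸ Finset.mem_insert_self u _))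
      (fun c hc => hXO c hc o' (hO ▸ Finset.mem_insert_of_mem (Finset.mem_singleton_self o'))) hne).elim
  · obtain ⟨u, v, w, huv, huw, hvw, hO⟩ := Finset.card_eq_three.1 hr.symm
    exact (P.three_case h hqm hX huv huw hvw hO (by omega) hXO hsome).elim
  · have hm5 : m = 5 := by
      have : (m : ℤ) ≤ 7 := by push_cast at *; nlinarith
      have hm7 : m ≤ 7 := by exact_mod_cast this
      have : X.card ≥ 1 := Finset.card_pos.2 ⟨i₀, hi₀X⟩
      interval_cases m <;> omega
    subst hm5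
    have hXc : X.card = 3 := by omega
    exact ⟨rfl, P.four_case h hpos' (by omega) hX hXc hr.symm hXO hsome⟩
  · exfalso
    have hX1 : X.card ≥ 1 := Finset.card_pos.2 ⟨i₀, hi₀X⟩
    have : (m : ℤ) ≤ 6 := by push_cast at *; nlinarith
    have hm6 : m ≤ 6 := by exact_mod_cast this
    interval_cases m <;> push_cast at * <;> nlinarith

end Cfsg.Agent.FreeArith42
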