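import Cfsg.Agent.Lib.FreeStar42
import Cfsg.Agent.Lib.BlockHomocyclicDefect9
import Cfsg.Agent.Lib.CyclicShape42

/-!
Blocks with abelian defect group and freely acting inertial group: the number of Brauer characters
is at most the inertial index, with equality when the index is at most three.
-/

set_option autoImplicit false
set_option linter.unusedSectionVars false

namespace Cfsg.Agent.FreeBlock42

open Cfsg Cfsg.Agent.BlockTheoryLocalRing Cfsg.Agent.BlockTheoryCentre
open Cfsg.Agent.BlockTheoryIdem Cfsg.Agent.BlockTheoryDefect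
open Cfsg.Agent.BrauerPairs81Base Cfsg.Agent.BrauerPairs81Pairs Cfsg.Agent.BrauerPairs81Conj
open Cfsg.Agent.BrauerPairs81Local Cfsg.Agent.BrauerPairs81Fusion Cfsg.Agent.BrauerPairs81Max
open Cfsg.Agent.BrauerPairs81Induced Cfsg.Agent.BlockContribBounds
open Cfsg.Agent.BlockStarMatrix9 Cfsg.Agent.ProjMinors42 Cfsg.Agent.FreeStar42
open CharBasic CharBasicDecomp CharInduced
open scoped ComplexConjugate

attribute [local instance] Classical.propDecidable

variable {p : ℕ} [Fact p.Prime] {M : Ideal AlgInt} {G : Type*} [Group G] [Fintype G]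
  {B : Set (IrrCharacter G)} {P : Subgroup G} {c : Set (IrrCharacter (Cen P))}

/-- The multiple of the indicator of the identity gives the contributions. -/
theorem A_delta_contrib (hM : IsPModular p M) (hmax : IsMaximalBrauerPair p M B P c)
    {χ ψ : IrrCharacter G} (hχ : χ ∈ B) :
    A p M B c ((Nat.card P : ℂ) • delta P) χ ψ = (BlockContrib.contrib p B ψ χ : ℂ) := by
  have hB := hmax.1.2.1
  rw [A_smul, A_delta hM hmax hχ, BlockContrib.pair_eq_contrib hM.1 ψ hχ]
  have hG : (Nat.card G : ℂ) = (Nat.card P : ℂ) *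
      ((BlockContrib.cofactor p G : ℂ) * (p : ℂ) ^ BlockContrib.minExp p B) := by
    rw [card_defectGroup hM hB (isDefectGroup_of_maximal hM hmax)]
    conv_lhs => rw [← BlockContrib.pow_mul_cofactor (G := G) p,
      ← BlockContrib.minExp_add_defect hM hB, pow_add]
    push_cast
    ring
  have hne : (Nat.card G : ℂ) ≠ 0 := Nat.cast_ne_zero.2 Nat.card_pos.ne'
  rw [hG] at hne ⊢
  have h1 := left_ne_zero_of_mul hne
  have h2 := right_ne_zero_of_mul hne
  have h3 := left_ne_zero_of_mul h2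
  have h4 := right_ne_zero_of_mul h2
  field_simp

/-- A free automorphism group of order three of a group of order sixteen which is not of exponent
two makes it homocyclic. -/
theorem sixteen_shape {V : Type*} [CommGroup V] [Fintype V] (hV : Fintype.card V = 16)
    {Γ : Subgroup (MulAut V)} (hΓ : Nat.card Γ = 3) (hfree : FreeStar42.Free Γ)
    (hexp : ¬ ∀ x : V, x * x = 1) :
    (Finset.univ.filter fun x : V => x * x = 1).card = 4 ∧ (∀ x : V, x ^ 2 ^ 2 = 1) ∧
      ∀ x : V, x ^ 2 ^ (2 - 1) = 1 → ∃ w, w * w = x := by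
  set σ : V →* V := powMonoidHom 2
  haveI : Fact (Nat.Prime 2) := ⟨Nat.prime_two⟩
  have hsq : ∀ x : V, σ x = x * x := fun x => by simp [σ, pow_two]
  have hinv : ∀ (S : Subgroup V), (∀ γ ∈ Γ, ∀ x ∈ S, γ x ∈ S) → 3 ∣ Nat.card S - 1 := by
    intro S hS
    obtain ⟨n, r, hr⟩ := FreeStar42.exists_reps (Γ := Γ)
      (fun (u : {u : S // u ≠ 1}) γ => (⟨⟨(γ⁻¹ : Γ).1 (u.1 : V), hS _ (γ⁻¹).2 _ u.1.2⟩,
        fun e => u.2 (Subtype.ext ((MulEquiv.map_eq_one_iff _).1 (congrArg Subtype.val e)))⟩ :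
          {u : S // u ≠ 1}))
      (fun u => Subtype.ext (Subtype.ext (by simp)))
      (fun u a b => Subtype.ext (Subtype.ext (by simp [mul_inv_rev])))
      (fun u a h => inv_eq_one.1 (Subtype.ext (hfree _ a⁻¹.2 u.1.1 (fun e => u.2 (Subtype.ext e))
        (congrArg (fun z : {u : S // u ≠ 1} => (z.1 : V)) h))))
    have h := Fintype.card_of_bijective hr
    rw [Fintype.card_prod, Fintype.card_fin, Fintype.card_subtype_compl, Fintype.card_subtype_eq,
      ← Nat.card_eq_fintype_card, ← Nat.card_eq_fintype_card, hΓ] at h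
    exact ⟨n, by omega⟩
  have hK : Nat.card σ.ker * Nat.card σ.range = 16 := by
    have h := Subgroup.card_mul_index σ.ker
    rwa [Subgroup.index_ker, Nat.card_eq_fintype_card (α := V), hV] at h
  have hKne : Nat.card σ.ker ≠ 1 := by
    intro h1
    obtain ⟨x, hx⟩ := exists_prime_orderOf_dvd_card (G := V) 2 (by rw [hV]; norm_num)
    have hxk : x ∈ σ.ker := by
      rw [MonoidHom.mem_ker, hsq, ← pow_two, ← hx, pow_orderOf_eq_one]
    have hbot : σ.ker = ⊥ := Subgroup.eq_bot_of_card_eq _ h1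
    rw [hbot, Subgroup.mem_bot] at hxk
    rw [hxk, orderOf_one] at hx
    norm_num at hx
  have hK16 : Nat.card σ.ker ≠ 16 := by
    intro h16
    refine hexp fun x => ?_
    have htop : σ.ker = ⊤ := Subgroup.eq_top_of_card_eq _ (by rw [h16, Nat.card_eq_fintype_card, hV])
    rw [← hsq]
    exact MonoidHom.mem_ker.1 (htop ▸ Subgroup.mem_top x)
  have hK3 := hinv σ.ker fun γ _ x hx => by
    rw [MonoidHom.mem_ker, hsq] at hx ⊢
    rw [← map_mul, hx, map_one]
  have hK4 : Nat.card σ.ker = 4 := by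
    have hle := Nat.le_of_dvd (by norm_num) (Dvd.intro _ hK)
    have hdvd : Nat.card σ.ker ∣ 16 := Dvd.intro _ hK
    interval_cases (Nat.card σ.ker) <;> omega
  have hR4 : Nat.card σ.range = 4 := by rw [hK4] at hK; omega
  have hle : σ.range ≤ σ.ker := by
    obtain ⟨w, hw⟩ := exists_prime_orderOf_dvd_card' (G := σ.range) 2 (by rw [hR4]; norm_num)
    have hwk : (w : V) ∈ σ.ker := by
      rw [MonoidHom.mem_ker, hsq, ← pow_two, ← hw, ← Subgroup.coe_pow, pow_orderOf_eq_one, Subgroup.coe_one]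
    have hI : 3 ∣ Nat.card ↥(σ.range ⊓ σ.ker) - 1 := hinv _ fun γ _ x hx => by
      obtain ⟨⟨y, rfl⟩, hx2⟩ := hx
      refine ⟨⟨γ y, by rw [hsq, hsq, map_mul]⟩, ?_⟩
      change σ y ∈ σ.ker at hx2
      show γ (σ y) ∈ σ.ker
      rw [MonoidHom.mem_ker, hsq] at hx2 ⊢
      rw [← map_mul, hx2, map_one]
    have hpos : 1 < Nat.card ↥(σ.range ⊓ σ.ker) := Finite.one_lt_card_iff_nontrivial.2
      ⟨⟨(w : V), w.2, hwk⟩, 1, fun e => by
        have e' : (w : V) = 1 := congrArg Subtype.val e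
        rw [← Subgroup.orderOf_coe, e', orderOf_one] at hw
        norm_num at hw⟩
    have hdvd : Nat.card ↥(σ.range ⊓ σ.ker) ∣ 4 := hR4 ▸ Subgroup.card_dvd_of_le inf_le_left
    have h4 := Nat.le_of_dvd (by norm_num) hdvd
    exact inf_eq_left.1 (Subgroup.eq_of_le_of_card_ge inf_le_left (by omega))
  have heq : σ.range = σ.ker := Subgroup.eq_of_le_of_card_ge hle (by omega)
  refine ⟨?_, fun x => ?_, fun x hx => ?_⟩
  · rw [← Fintype.card_subtype, ← Nat.card_eq_fintype_card, ← hK4]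
    exact Nat.card_congr (Equiv.subtypeEquivRight fun x => by rw [MonoidHom.mem_ker, hsq])
  · have h2 : σ (σ x) = 1 := MonoidHom.mem_ker.1 (hle ⟨x, rfl⟩)
    rw [hsq, hsq] at h2
    calc x ^ 2 ^ 2 = x * x * (x * x) := by rw [← pow_two, ← pow_two, ← pow_mul]; norm_num
      _ = 1 := h2
  · rw [show 2 ^ (2 - 1) = 2 by norm_num, pow_two, ← hsq, ← MonoidHom.mem_ker, ← heq] at hx
    obtain ⟨w, hw⟩ := hx
    exact ⟨w, by rw [← hsq, hw]⟩

set_option maxHeartbeats 1600000 in
/-- The number of Brauer characters of the block. -/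
theorem rank_bound (hM : IsPModular p M) (hmax : IsMaximalBrauerPair p M B P c)
    (hab : ∀ x ∈ P, ∀ y ∈ P, x * y = y * x) (hP1 : P ≠ ⊥)
    (hfree : ∀ g ∈ stab (⟨P, c⟩ : BrauerPairIdx G), ∀ x ∈ P, x ≠ 1 → g * x * g⁻¹ = x → g ∈ Cen P)
    {e : ℕ} (he : (Cen P).relIndex (stab (⟨P, c⟩ : BrauerPairIdx G)) = e) :
    blockRank p B ≤ e ∧ (e ≤ 3 → blockRank p B = e) ∧
      ∃ m, Nat.card P - 1 = e * m ∧ Nat.card B = blockRank p B + m ∧ 0 < e := by
  have hB := hmax.1.2.1
  have hpr : p.Prime := Fact.out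
  have hPD := isDefectGroup_of_maximal hM hmax
  letI : CommGroup P := { (inferInstance : Group P) with
    mul_comm := fun x y => Subtype.ext (hab x x.2 y y.2) }
  haveI : Fintype (P →* ℂˣ) := Fintype.ofFinite _
  obtain ⟨Γ, hΓdef⟩ : ∃ Γ : Subgroup (MulAut P), Γ = (act c).range := ⟨_, rfl⟩
  have hΓc : Nat.card Γ = e := by rw [← he, BlockHomocyclicDefect9.relIndex_eq, hΓdef]
  have hF : FreeStar42.Free Γ := by
    intro γ hγ x hx hfix
    rw [hΓdef] at hγ
    obtain ⟨y, rfl⟩ := hγ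
    have h1 := hfree y y.2 x x.2 (fun e0 => hx (Subtype.ext e0)) (by rw [← coe_act, hfix])
    have h2 : y ∈ (act c).ker := by rw [BlockHomocyclicDefect9.ker_act]; exact Subgroup.mem_subgroupOf.2 h1
    exact MonoidHom.mem_ker.1 h2
  have he0 : 0 < e := hΓc ▸ Nat.card_pos
  set q := Nat.card P with hqdef
  set d := blockDefect p B
  set l := blockRank p B with hldef
  have hq : q = p ^ d := card_defectGroup hM hB hPD
  have hq1 : 1 < q := Finite.one_lt_card_iff_nontrivial.2 ((Subgroup.nontrivial_iff_ne_bot P).2 hP1)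
  have hcount := BlockAbelianCount81.card_eq_of_free hM hmax hab hfree he
  set m := Nat.card B - l with hmdef
  have hkl : l ≤ Nat.card B := Nat.le_of_mul_le_mul_left (le_of_le_of_eq (Nat.le_add_right _ _) hcount.symm) he0
  have hqm : q = e * m + 1 := by
    have h1 : e * m = e * Nat.card B - e * l := by rw [hmdef, Nat.mul_sub]
    rw [← hldef, ← hqdef] at hcount
    omega
  have hm1 : 1 ≤ m := by
    by_contra h0
    rw [show m = 0 by omega, mul_zero] at hqm
    omega
  refine (fun h => ⟨h.1, h.2, m, by omega, by omega, he0⟩) (?_ : l ≤ e ∧ (e ≤ 3 → l = e))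
  -- the matrices
  set Θ : (P →* ℂˣ) → P → ℂ := theta Γ
  have hInv : ∀ lam, Inv c (Θ lam) := fun lam y x => theta_invariant Γ lam ⟨act c y, hΓdef ▸ ⟨y, rfl⟩⟩ x
  have hgen : ∀ lam, IsGeneralizedCharacter P (Θ lam) := by
    intro lam
    show IsGeneralizedCharacter P (theta Γ lam)
    rw [theta_eq_sum]
    exact isGeneralizedCharacter_sum _ _ fun γ _ =>
      isGeneralizedCharacter_of_isCharacter (isCharacter_linear _)
  have hXex : ∀ lam, ∀ χ ψ : members B, ∃ n : ℤ, A p M B c (Θ lam) χ ψ = n := fun lam χ ψ =>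
    exists_int hM hmax hab (hInv lam) (hgen lam) (mem_members.1 χ.2) ψ
  choose X hX using hXex
  set C : members B → members B → ℤ := fun χ ψ => BlockContrib.contrib p B χ ψ
  have hCs : ∀ χ ψ, C χ ψ = C ψ χ := fun χ ψ =>
    BlockContrib.contrib_comm hM.1 (mem_members.1 χ.2) (mem_members.1 ψ.2)
  have hfilt : members B = Finset.univ.filter (· ∈ B) := Finset.ext fun χ => by simp [mem_members]
  have hsum : ∀ (f : IrrCharacter G → ℤ), ∑ φ : members B, f φ = ∑ φ ∈ members B, f φ := fun f =>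
    Finset.sum_coe_sort (members B) f
  have hcardι : Fintype.card (members B) = l + m := by
    rw [Fintype.card_coe]
    have h1 : (members B).card = Nat.card B := (card_members B).symm
    omega
  have hCA : ∀ χ ψ : members B, (C χ ψ : ℂ) = A p M B c ((q : ℂ) • delta P) χ ψ := fun χ ψ => by
    rw [A_delta_contrib hM hmax (mem_members.1 χ.2), hCs χ ψ]
  have hS : Scaled C q l := by
    refine ⟨by omega, hCs, fun i j => ?_, ?_⟩
    · rw [hq, Nat.cast_pow]
      refine (hsum fun φ => BlockContrib.contrib p B i φ * BlockContrib.contrib p B φ j).trans ?_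
      exact (Finset.sum_congr hfilt fun _ _ => rfl).trans
        (BlockContrib.sum_contrib_mul hM hB (mem_members.1 i.2) (mem_members.1 j.2))
    · apply Int.cast_injective (α := ℂ)
      push_cast
      have h1 := trace_punctured hM hmax
      rw [Finset.sum_congr rfl fun χ hχ => by rw [A_sub, A_one hM hmax (mem_members.1 hχ), if_pos rfl],
        Finset.sum_sub_distrib, Finset.sum_const, card_members, nsmul_eq_mul, mul_one, sub_right_inj] at h1
      rw [← h1, Finset.sum_congr rfl fun χ _ => hCA χ χ, Finset.mul_sum,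
        Finset.sum_coe_sort (members B) (fun χ => A p M B c ((q : ℂ) • delta P) χ χ)]
      exact Finset.sum_congr rfl fun χ _ => A_smul _ _ χ χ
  have hStar : Star Γ X C := by
    refine ⟨hF, fun lam χ ψ => ?_, fun χ ψ => ?_, fun a b χ ψ => ?_, fun lam γ => ?_, fun χ ψ => ?_⟩
    · apply Int.cast_injective (α := ℂ)
      rw [← hX, ← hX, show Θ lam⁻¹ = fun x => conj (Θ lam x) from funext fun x => (conj_theta Γ lam x).symm,
        ← A_conj hM hmax _ (mem_members.1 ψ.2) (mem_members.1 χ.2), hX, map_intCast]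
    · apply Int.cast_injective (α := ℂ)
      rw [← hX, show Θ 1 = (Nat.card Γ : ℂ) • (1 : P → ℂ) from funext fun x => by
        simp [Θ, theta_one], A_smul, A_one hM hmax (mem_members.1 χ.2)]
      split_ifs with h1 h2 h2
      · simp
      · exact absurd (Subtype.ext h1) h2
      · exact absurd (congrArg Subtype.val h2) h1
      · simp
    · apply Int.cast_injective (α := ℂ)
      simp only [Int.cast_sum, Int.cast_mul, ← hX]
      rw [← A_sum]
      simp only [Θ]
      rw [theta_mul_fun, ← A_mul hM hmax hab (hInv a) _ (mem_members.1 ψ.2)]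
      exact Finset.sum_coe_sort (members B) (fun φ => A p M B c (Θ a) χ φ * A p M B c (Θ b) φ ψ)
    · funext χ ψ
      apply Int.cast_injective (α := ℂ)
      rw [← hX, ← hX, show Θ (FreeStar42.tw lam γ) = Θ lam from theta_tw Γ lam γ]
    · apply Int.cast_injective (α := ℂ)
      simp only [Int.cast_sum, Int.cast_mul, Int.cast_natCast, ← hX]
      rw [← A_sum, hCA, ← A_smul]
      refine congrArg (fun F => A p M B c F χ ψ) (funext fun x => ?_)
      rw [Finset.sum_apply, sum_dual_theta]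
      simp only [Pi.smul_apply, smul_eq_mul, delta, hqdef]
      split_ifs <;> simp
  obtain ⟨R⟩ := hF.exists_reps (m := m) (by rw [hΓc]; exact hqm)
  obtain ⟨χ₀, hχ₀, hχ₀h⟩ := BlockContrib.exists_height_zero hM hB
  set x₀ : members B := ⟨χ₀, mem_members.2 hχ₀⟩
  have hx₀ : ∀ j, C x₀ j ≠ 0 := fun j =>
    BlockContrib.contrib_ne_zero hM hB hχ₀ hχ₀h (mem_members.1 j.2)
  have hdiag : ∀ i, C i i ≠ 0 := fun i => (BlockContrib.contrib_self_pos hM.1 (mem_members.1 i.2)).ne'
  have hpe : ¬ p ∣ Nat.card Γ := by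
    intro h
    rw [hΓc] at h
    have hd0 : d ≠ 0 := fun h0 => by rw [h0, pow_zero] at hq; omega
    have h1 : p ∣ e * m + 1 := hqm ▸ hq ▸ dvd_pow_self p hd0
    exact hpr.not_dvd_one ((Nat.dvd_add_right (h.mul_right m)).1 h1)
  obtain ⟨U, w, hU, hUw, hwp⟩ := hStar.exists_basis R (by rw [hΓc]; exact hqm) hM hq hCs
    (χ₀ := x₀) (by
      have h := BlockContrib.contrib_not_dvd hM hB hχ₀ hχ₀h hχ₀
      rwa [hχ₀h, zero_add, pow_one] at h) hpe
  have hl : 1 ≤ l := BlockCyclicRank81.blockRank_pos hM hB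
  obtain ⟨N, hN, hNsum⟩ := exists_squares hS hl hpr hq U hU w hUw hwp
    (by rw [Fintype.card_fin, hcardι]; omega)
  obtain ⟨s₀, hs₀, hs₀0⟩ : ∃ s ∈ Finset.univ.powersetCard l, N s ^ 2 ≠ 0 :=
    Finset.exists_ne_zero_of_sum_ne_zero (by rw [hNsum]; omega)
  have hm0 : minor C s₀ ≠ 0 := by
    rw [hN s₀ hs₀]
    refine mul_ne_zero (pow_ne_zero _ (by exact_mod_cast (show q ≠ 0 by omega))) ?_
    exact_mod_cast hs₀0
  have hle : l ≤ e := by
    have h1 := card_bases hS hm0 (Finset.mem_powersetCard.1 hs₀).2 hdiag hx₀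
    have h2 : ((Finset.univ.powersetCard l).filter fun s => minor C s ≠ 0).card ≤ q := by
      rw [← hNsum, Finset.card_filter]
      refine Finset.sum_le_sum fun s hs => ?_
      split_ifs with h
      · refine Nat.one_le_iff_ne_zero.2 fun h0 => h ?_
        rw [hN s hs, show (N s : ℤ) ^ 2 = ((N s ^ 2 : ℕ) : ℤ) by push_cast; rfl, h0]
        simp
      · exact Nat.zero_le _
    rw [hcardι, Nat.add_sub_cancel_left] at h1
    have h3 : m * l ≤ m * e := by rw [mul_comm m e]; omega
    exact Nat.le_of_mul_le_mul_left h3 hm1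
  refine ⟨hle, fun he3 => ?_⟩
  by_cases hcyc : IsCyclic P
  · obtain ⟨z, hz, -, hzo⟩ := BrauerPairs81Cyclic.exists_order_prime hmax.1.1.1 hP1
    obtain ⟨b, hb⟩ := BrauerPairs81Pairs.exists_subpair hM hmax.1.1 (Subgroup.zpowers_le.2 hz)
    let L : CyclicSetup42.Loc p M B P e :=
      ⟨c, z, b, hcyc, hmax, hz, hzo, hb, hfree, he⟩
    exact CyclicShape42.blockRank_eq L hM
  have hd : 2 ≤ d := by
    by_contra hlt
    refine hcyc ?_
    have hd1 : d = 1 := by
      rcases Nat.eq_zero_or_pos d with h0 | h0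
      · rw [h0, pow_zero] at hq; omega
      · omega
    rw [hd1, pow_one] at hq
    exact isCyclic_of_prime_card hq
  by_contra hne
  have hlt : l < e := lt_of_le_of_ne hle hne
  have hN' : ∀ s ∈ Finset.univ.powersetCard l, ∃ n : ℕ, minor C s = (q : ℤ) ^ (l - 1) * (n : ℤ) ^ 2 :=
    fun s hs => ⟨N s, hN s hs⟩
  have hrow := hStar.rowBound R (by rw [hΓc]; exact hqm)
  rw [hΓc] at hrow
  have hcases : (e = 2 ∧ l = 1) ∨ (e = 3 ∧ l = 1) ∨ (e = 3 ∧ l = 2) := by omega
  rcases hcases with ⟨rfl, hl1⟩ | ⟨rfl, hl1⟩ | ⟨rfl, hl2⟩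
  · rw [hl1] at hS hN' hcardι
    exact FreeArith42.one_two hS hrow (by rw [hcardι, add_comm]) hdiag hN' hqm hm1 hpr hd hq
  · rw [hl1] at hS hN' hcardι
    obtain ⟨hm8, i, j, hij, hi, hj⟩ :=
      FreeArith42.one_three hS hrow (by rw [hcardι, add_comm]) hdiag hN' hqm hm1 hpr hd hq
    obtain ⟨f, hf, habs, -⟩ := FreeArith42.roots_one hS hN'
    have h3 : ∀ i, C i i = 9 → f i = 3 := fun i hi => by
      rw [hf] at hi
      exact Nat.pow_left_injective two_ne_zero (by exact_mod_cast hi : f i ^ 2 = 3 ^ 2)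
    have h1 : ∀ φ, 1 ≤ f φ := fun φ => Nat.one_le_iff_ne_zero.2 fun h0 => hdiag φ (by rw [hf, h0]; simp)
    refine hStar.not_twenty_five (hm8 ▸ R) (show q = 25 by omega) hΓc (by omega) hij hi hj
      (by rw [habs, h3 i hi, h3 j hj]; norm_num) (by rw [habs, h3 i hi, h3 j hj]; norm_num)
      (fun φ => ?_) (fun φ => ?_)
    · have := h1 φ
      rw [habs, h3 i hi]; omega
    · have := h1 φ
      rw [habs, h3 j hj]; omega
  · rw [hl2] at hS hN' hcardι
    obtain ⟨hm5, i, hi⟩ :=
      FreeArith42.two_three hS hrow (by rw [hcardι, add_comm]) hdiag hx₀ hN' hqm hm1 hpr hd hq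
    have hq16 : q = 16 := by omega
    by_cases hexp : ∀ x : P, x * x = 1
    · refine hStar.not_sixteen (hm5 ▸ R) hq16 hΓc hexp hCs (fun χ ψ => ?_) hi
      rw [hS.sq, hq16]; norm_num
    · have hp2 : p = 2 := by
        have h1 : p ∣ 2 ^ 4 := by
          rw [show (2 : ℕ) ^ 4 = p ^ d by omega]
          exact dvd_pow_self p (by omega)
        exact (Nat.prime_dvd_prime_iff_eq hpr Nat.prime_two).1 (hpr.dvd_of_dvd_pow h1)
      subst hp2
      obtain ⟨hfour, hx4, hsq⟩ := sixteen_shape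
        (by rw [← Nat.card_eq_fintype_card]; exact hq16) hΓc hF hexp
      have h3 := (BlockHomocyclicDefect9.rank_eq_three (m := 2)
        ⟨hM, hmax, hab, le_rfl, by rw [← hqdef, hq16]; norm_num, by convert hfour, hx4, hsq,
          hΓdef ▸ hΓc, fun γ hγ => hF γ (hΓdef ▸ hγ)⟩).1
      rw [← hldef, hl2] at h3
      omega

end Cfsg.Agent.FreeBlock42
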