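import Cfsg.Agent.Lib.FreeArith42
import Cfsg.Agent.Lib.BlockTheoryLocalRing
import Cfsg.Agent.Lib.BlockAbelianSylow86

/-!
Integral matrices representing the invariant functions on an abelian group with a free group of
automorphisms: the row sums, the Gram determinant, and two exceptional configurations.
-/

set_option autoImplicit false
set_option linter.unusedSectionVars false

namespace Cfsg.Agent.FreeStar42

open Finset Cfsg Cfsg.Agent.ProjMinors42 Cfsg.Agent.BlockTheoryLocalRing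
open scoped ComplexConjugate

attribute [local instance] Classical.propDecidable

/-- Representatives for a free right action of a finite group. -/
theorem exists_reps {Γ X : Type*} [Group Γ] [Fintype Γ] [Fintype X] (f : X → Γ → X)
    (h1 : ∀ x, f x 1 = x) (hmul : ∀ x a b, f (f x a) b = f x (a * b))
    (hfree : ∀ x a, f x a = x → a = 1) :
    ∃ (n : ℕ) (r : Fin n → X), Function.Bijective fun w : Fin n × Γ => f (r w.1) w.2 := by
  let S : Setoid X :=
    { r := fun x y => ∃ a, f x a = y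
      iseqv :=
        { refl := fun x => ⟨1, h1 x⟩
          symm := fun {x y} ⟨a, ha⟩ => ⟨a⁻¹, by rw [← ha, hmul, mul_inv_cancel, h1]⟩
          trans := fun {x y z} ⟨a, ha⟩ ⟨b, hb⟩ => ⟨a * b, by rw [← hmul, ha, hb]⟩ } }
  haveI : Fintype (Quotient S) := Fintype.ofFinite _
  set e := (Fintype.equivFin (Quotient S)).symm
  refine ⟨_, fun i => (e i).out, ?_, ?_⟩
  · rintro ⟨i, a⟩ ⟨j, b⟩ hab
    simp only at hab
    have hq : e i = e j := by
      rw [← Quotient.out_eq (e i), ← Quotient.out_eq (e j)]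
      exact Quotient.sound ⟨a * b⁻¹, by rw [← hmul, hab, hmul, mul_inv_cancel, h1]⟩
    obtain rfl := e.injective hq
    have : a * b⁻¹ = 1 := hfree ((e i).out) _ (by rw [← hmul, hab, hmul, mul_inv_cancel, h1])
    rw [mul_inv_eq_one.1 this]
  · intro x
    obtain ⟨a, ha⟩ := Quotient.exact (s := S) (Quotient.out_eq (Quotient.mk S x))
    exact ⟨(e.symm (Quotient.mk S x), a), by simpa using ha⟩

variable {V : Type*} [CommGroup V] [Fintype V]

/-- The character moved by an automorphism. -/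
def tw (lam : V →* ℂˣ) (γ : MulAut V) : V →* ℂˣ := lam.comp γ.toMonoidHom

theorem tw_apply (lam : V →* ℂˣ) (γ : MulAut V) (x : V) : tw lam γ x = lam (γ x) := rfl

@[simp] theorem tw_one' (lam : V →* ℂˣ) : tw lam 1 = lam := MonoidHom.ext fun _ => rfl

theorem tw_tw (lam : V →* ℂˣ) (a b : MulAut V) : tw (tw lam a) b = tw lam (a * b) :=
  MonoidHom.ext fun _ => rfl

theorem tw_mul (a b : V →* ℂˣ) (γ : MulAut V) : tw (a * b) γ = tw a γ * tw b γ :=
  MonoidHom.ext fun _ => rfl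

theorem tw_inv (a : V →* ℂˣ) (γ : MulAut V) : tw a⁻¹ γ = (tw a γ)⁻¹ := MonoidHom.ext fun _ => rfl

theorem inv_ne_one' {lam : V →* ℂˣ} (h : lam ≠ 1) : lam⁻¹ ≠ 1 := fun e => h (by
  refine MonoidHom.ext fun x => ?_
  have := DFunLike.congr_fun e x
  simpa using this)

theorem mul_inv_eq_one' {a b : V →* ℂˣ} (h : a * b⁻¹ = 1) : a = b := by
  refine MonoidHom.ext fun x => ?_
  have := DFunLike.congr_fun h x
  simpa [mul_inv_eq_one] using this

theorem mul_inv_self' (a : V →* ℂˣ) : a * a⁻¹ = 1 := MonoidHom.ext fun x => by simp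

theorem tw_one (γ : MulAut V) : tw (1 : V →* ℂˣ) γ = 1 := MonoidHom.ext fun _ => rfl

section Group

variable {A : Type*} [CommGroup A]

theorem grp_inv_inv (a : A) : a⁻¹⁻¹ = a := inv_inv a

theorem grp_pow_two (a : A) : a ^ 2 = a * a := pow_two a

theorem grp_move {a a' b b' : A} (h : a * a'⁻¹ = b * b'⁻¹) : a' * b'⁻¹ = a * b⁻¹ := by
  rw [mul_inv_eq_iff_eq_mul] at h
  rw [h]
  calc a' * b'⁻¹ = b * b⁻¹ * (a' * b'⁻¹) := by rw [mul_inv_cancel, one_mul]
    _ = _ := by simp only [mul_assoc, mul_comm, mul_left_comm]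

theorem grp_div_mul (a b : A) : a * b⁻¹ * b = a := inv_mul_cancel_right a b

theorem grp_eq_one_of_left {a b : A} (h : a * b⁻¹ = a) : b = 1 := by
  rwa [mul_eq_left, inv_eq_one] at h

theorem grp_mul_of_eq {a b : A} (h : b = a * b⁻¹) : b * b = a := by
  nth_rw 1 [h]
  exact grp_div_mul a b

theorem grp_pow_eight (a : A) : a ^ 8 = (a * a * (a * a)) * (a * a * (a * a)) := by
  rw [← pow_two, ← pow_two, ← pow_two, ← pow_mul, ← pow_mul]

theorem grp_pow_seven {a : A} (h : a ^ 8 = a) : a ^ 7 = 1 := by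
  rw [pow_succ] at h
  exact mul_eq_right.1 h

theorem grp_mul_cancel_third {a b c : A} (hprod : a * b * c = 1) (h : c = a * b⁻¹) : a * a = 1 := by
  rw [h] at hprod
  rw [← hprod]
  calc a * a = a * a * (b * b⁻¹) := by rw [mul_inv_cancel, mul_one]
    _ = _ := by simp only [mul_assoc, mul_comm, mul_left_comm]

end Group

variable (Γ : Subgroup (MulAut V))

/-- The orbit sum of a linear character. -/
noncomputable def theta (lam : V →* ℂˣ) : V → ℂ := fun x => ∑ γ : Γ, (lam ((γ : MulAut V) x) : ℂ)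

theorem theta_tw (lam : V →* ℂˣ) (ε : Γ) : theta Γ (tw lam ε) = theta Γ lam :=
  funext fun x => Equiv.sum_comp (Equiv.mulLeft ε) fun γ : Γ => (lam ((γ : MulAut V) x) : ℂ)

theorem theta_one (x : V) : theta Γ 1 x = (Nat.card Γ : ℂ) := by
  simp [theta, Nat.card_eq_fintype_card]

theorem theta_at_one (lam : V →* ℂˣ) : theta Γ lam 1 = (Nat.card Γ : ℂ) := by
  simp [theta, Nat.card_eq_fintype_card]

theorem theta_invariant (lam : V →* ℂˣ) (ε : Γ) (x : V) :
    theta Γ lam ((ε : MulAut V) x) = theta Γ lam x :=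
  Equiv.sum_comp (Equiv.mulRight ε) fun γ : Γ => (lam ((γ : MulAut V) x) : ℂ)

theorem theta_mul (a b : V →* ℂˣ) (x : V) :
    theta Γ a x * theta Γ b x = ∑ ε : Γ, theta Γ (a * tw b ε) x := by
  simp only [theta, Finset.sum_mul_sum]
  rw [Finset.sum_comm (s := (univ : Finset Γ)) (f := fun (ε : Γ) (γ : Γ) =>
    ((a * tw b ε) ((γ : MulAut V) x) : ℂ))]
  refine Finset.sum_congr rfl fun γ _ => ?_
  refine (Equiv.sum_comp (Equiv.mulRight γ) fun δ : Γ => (a ((γ : MulAut V) x) : ℂ) *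
    (b ((δ : MulAut V) x) : ℂ)).symm.trans ?_
  exact Finset.sum_congr rfl fun ε _ => by
    simp [tw_apply, Units.val_mul]

theorem theta_mul_fun (a b : V →* ℂˣ) :
    ∑ ε : Γ, theta Γ (a * tw b ε) = theta Γ a * theta Γ b := funext fun x => by
  rw [Finset.sum_apply, Pi.mul_apply]; exact (theta_mul Γ a b x).symm

theorem theta_eq_sum (lam : V →* ℂˣ) :
    theta Γ lam = ∑ γ : Γ, fun x => (tw lam γ x : ℂ) := funext fun x => by
  rw [Finset.sum_apply]; rfl

theorem conj_theta (lam : V →* ℂˣ) (x : V) : conj (theta Γ lam x) = theta Γ lam⁻¹ x := by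
  simp only [theta, map_sum]
  refine Finset.sum_congr rfl fun γ _ => ?_
  set y := (γ : MulAut V) x
  have hpow : (lam y : ℂ) ^ Fintype.card V = 1 := by
    rw [← Units.val_pow_eq_pow_val, ← map_pow, pow_card_eq_one, map_one, Units.val_one]
  rw [MonoidHom.inv_apply, Units.val_inv_eq_inv_val,
    Complex.inv_eq_conj (Complex.norm_eq_one_of_pow_eq_one hpow Fintype.card_ne_zero)]

/-- The free action hypothesis. -/
def Free : Prop := ∀ γ ∈ Γ, ∀ x : V, x ≠ 1 → γ x = x → γ = 1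

variable {Γ}

theorem sum_linear (lam : V →* ℂˣ) :
    ∑ u : V, (lam u : ℂ) = if lam = 1 then (Nat.card V : ℂ) else 0 := by
  split_ifs with h
  · subst h; simp [Nat.card_eq_fintype_card]
  · exact sum_hom_units_eq_zero ((Units.coeHom ℂ).comp lam) fun e => h (MonoidHom.ext fun u =>
      Units.ext (DFunLike.congr_fun e u))

theorem sum_theta (lam : V →* ℂˣ) :
    ∑ u : V, theta Γ lam u = if lam = 1 then (Nat.card Γ : ℂ) * Nat.card V else 0 := by
  have key : ∀ γ : Γ, ∑ u : V, (lam ((γ : MulAut V) u) : ℂ) = if lam = 1 then (Nat.card V : ℂ) else 0 :=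
    fun γ => (Equiv.sum_comp (γ : MulAut V).toEquiv fun u => (lam u : ℂ)).trans (sum_linear lam)
  simp only [theta]
  rw [Finset.sum_comm]
  simp only [key]
  split_ifs <;> simp [Nat.card_eq_fintype_card]

theorem sum_dual_theta [Fintype (V →* ℂˣ)] (x : V) :
    ∑ lam : V →* ℂˣ, theta Γ lam x = if x = 1 then (Nat.card Γ : ℂ) * Nat.card V else 0 := by
  have key : ∀ γ : Γ, ∑ l : V →* ℂˣ, (l ((γ : MulAut V) x) : ℂ) =
      if x = 1 then (Fintype.card V : ℂ) else 0 := fun γ =>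
    (BlockAbelianSylow86.sum_dual ((γ : MulAut V) x)).trans
      (if_congr (MulEquiv.map_eq_one_iff _) rfl rfl)
  simp only [theta]
  rw [Finset.sum_comm]
  simp only [key]
  split_ifs <;> simp [Nat.card_eq_fintype_card]

theorem Free.dual (hf : Free Γ) {lam : V →* ℂˣ} {ε : Γ} (hε : ε ≠ 1) (h : tw lam ε = lam) :
    lam = 1 := by
  set g : V → V := fun x => x⁻¹ * (ε : MulAut V) x
  have hinj : Function.Injective g := by
    intro x y hxy
    simp only [g] at hxy
    by_contra hne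
    refine hε (Subtype.ext (hf _ ε.2 (x * y⁻¹) (fun e => hne (mul_inv_eq_one.1 e)) ?_))
    rw [map_mul, map_inv, show (ε : MulAut V) x = x * (y⁻¹ * (ε : MulAut V) y) by
      rw [← hxy, mul_inv_cancel_left], mul_assoc, mul_assoc, mul_inv_cancel, mul_one]
  refine MonoidHom.ext fun z => ?_
  obtain ⟨x, rfl⟩ := (Finite.injective_iff_surjective.1 hinj) z
  rw [map_mul, map_inv, ← tw_apply, h, inv_mul_cancel, MonoidHom.one_apply]

/-- The twisted quotient is a bijection. -/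
theorem Free.bij (hf : Free Γ) [Fintype (V →* ℂˣ)] {ε : Γ} (hε : ε ≠ 1) :
    Function.Bijective fun lam : V →* ℂˣ => lam * tw lam⁻¹ ε := by
  refine Finite.injective_iff_bijective.1 fun a b hab => ?_
  refine mul_inv_eq_one' (hf.dual hε (lam := a * b⁻¹) (MonoidHom.ext fun x => ?_))
  have h1 := DFunLike.congr_fun hab x
  simp only [tw_inv, MonoidHom.mul_apply, MonoidHom.inv_apply, tw_apply] at h1 ⊢
  exact grp_move h1

/-! ### Representatives -/

variable (Γ) in
/-- Representatives of the orbits off the identity, in the group and in its dual. -/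
structure Reps (m : ℕ) where
  pt : Fin m → V
  ch : Fin m → (V →* ℂˣ)
  pt_bij : ∀ u : V, u ≠ 1 → ∃ i, ∃ γ : Γ, (γ : MulAut V) (pt i) = u
  pt_uniq : ∀ i j, ∀ γ : Γ, (γ : MulAut V) (pt i) = pt j → i = j
  pt_ne : ∀ i, pt i ≠ 1
  ch_bij : ∀ lam : V →* ℂˣ, lam ≠ 1 → ∃ i, ∃ γ : Γ, tw (ch i) γ = lam
  ch_uniq : ∀ i j, ∀ γ : Γ, tw (ch i) γ = ch j → i = j
  ch_ne : ∀ i, ch i ≠ 1

theorem Free.exists_reps [Fintype (V →* ℂˣ)] (hf : Free Γ) {m : ℕ}
    (hm : Nat.card V = Nat.card Γ * m + 1) : Nonempty (Reps Γ m) := by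
  have hne : ∀ (γ : Γ) (u : {u : V // u ≠ 1}), (γ⁻¹ : Γ).1 u.1 ≠ 1 := fun γ u e =>
    u.2 ((MulEquiv.map_eq_one_iff _).1 e)
  obtain ⟨n, r, hr⟩ := FreeStar42.exists_reps (Γ := Γ)
    (fun (u : {u : V // u ≠ 1}) γ => (⟨(γ⁻¹ : Γ).1 u.1, hne γ u⟩ : {u : V // u ≠ 1}))
    (fun u => Subtype.ext (by simp)) (fun u a b => Subtype.ext (by simp [mul_inv_rev]))
    (fun u a h => inv_eq_one.1 (Subtype.ext (hf _ a⁻¹.2 u.1 u.2 (congrArg Subtype.val h))))
  have hne' : ∀ (γ : Γ) (l : {l : V →* ℂˣ // l ≠ 1}), tw l.1 γ ≠ 1 := fun γ l e => by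
    refine l.2 ?_
    have := congrArg (fun x => tw x (γ⁻¹ : Γ).1) e
    simpa [tw_tw, tw_one] using this
  obtain ⟨n', r', hr'⟩ := FreeStar42.exists_reps (Γ := Γ)
    (fun (l : {l : V →* ℂˣ // l ≠ 1}) γ => (⟨tw l.1 γ, hne' γ l⟩ : {l : V →* ℂˣ // l ≠ 1}))
    (fun l => Subtype.ext (tw_one' _)) (fun l a b => Subtype.ext (tw_tw _ _ _))
    (fun l a h => by
      by_contra ha
      exact l.2 (hf.dual ha (congrArg Subtype.val h)))
  have hcount : ∀ (Y : Type _) [Fintype Y] [One Y] (k : ℕ), Fintype.card Y = Nat.card Γ * m + 1 →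
      Fintype.card (Fin k × Γ) = Fintype.card {y : Y // y ≠ 1} → k = m := by
    intro Y _ _ k hY h
    rw [Fintype.card_prod, Fintype.card_fin, Fintype.card_subtype_compl,
      Fintype.card_subtype_eq, hY, ← Nat.card_eq_fintype_card, Nat.add_sub_cancel, mul_comm] at h
    exact Nat.eq_of_mul_eq_mul_left Nat.card_pos h
  obtain rfl : n = m := hcount V n (by rw [← Nat.card_eq_fintype_card, hm]) (Fintype.card_of_bijective hr)
  obtain rfl : n' = n := hcount (V →* ℂˣ) n' (by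
    rw [← Nat.card_eq_fintype_card, CommGroup.card_monoidHom_of_hasEnoughRootsOfUnity, hm])
      (Fintype.card_of_bijective hr')
  refine ⟨⟨fun i => (r i).1, fun i => (r' i).1, fun u hu => ?_, fun i j γ h => ?_, fun i => (r i).2,
    fun l hl => ?_, fun i j γ h => ?_, fun i => (r' i).2⟩⟩
  · obtain ⟨⟨i, γ⟩, h⟩ := hr.2 ⟨u, hu⟩
    exact ⟨i, γ⁻¹, congrArg Subtype.val h⟩
  · exact congrArg Prod.fst (hr.1 (a₁ := (i, γ⁻¹)) (a₂ := (j, 1)) (Subtype.ext (by simpa using h)))
  · obtain ⟨⟨i, γ⟩, h⟩ := hr'.2 ⟨l, hl⟩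
    exact ⟨i, γ, congrArg Subtype.val h⟩
  · exact congrArg Prod.fst (hr'.1 (a₁ := (i, γ)) (a₂ := (j, 1)) (Subtype.ext (by simpa using h)))

theorem Reps.sum_pt {m : ℕ} (R : Reps Γ m) (hf : Free Γ) (f : V → ℂ)
    (hinv : ∀ (γ : Γ) u, f ((γ : MulAut V) u) = f u) :
    ∑ u, f u = f 1 + (Nat.card Γ : ℂ) * ∑ i, f (R.pt i) := by
  rw [← Finset.add_sum_erase _ _ (Finset.mem_univ 1)]
  congr 1
  symm
  rw [Finset.mul_sum]
  calc ∑ i, (Nat.card Γ : ℂ) * f (R.pt i) = ∑ w : Fin m × Γ, f ((w.2 : MulAut V) (R.pt w.1)) := by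
        rw [Fintype.sum_prod_type]
        refine Finset.sum_congr rfl fun i _ => ?_
        simp [hinv, Nat.card_eq_fintype_card]
    _ = _ := by
      refine Finset.sum_bij (fun w _ => (w.2 : MulAut V) (R.pt w.1)) (fun w _ => ?_)
        (fun w _ w' _ h => ?_) (fun u hu => ?_) fun _ _ => rfl
      · exact Finset.mem_erase.2 ⟨fun e => R.pt_ne w.1 ((MulEquiv.map_eq_one_iff _).1 e), Finset.mem_univ _⟩
      · have h1 := R.pt_uniq w.1 w'.1 (w'.2⁻¹ * w.2) (by
          show ((w'.2 : MulAut V)⁻¹ * (w.2 : MulAut V)) (R.pt w.1) = _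
          rw [MulAut.mul_apply, h]
          exact (w'.2 : MulAut V).symm_apply_apply _)
        obtain ⟨i, a⟩ := w
        obtain ⟨j, b⟩ := w'
        simp only at h1 h
        subst h1
        have h2 : ((b⁻¹ * a : Γ) : MulAut V) (R.pt i) = R.pt i := by
          show ((b : MulAut V)⁻¹ * (a : MulAut V)) (R.pt i) = _
          rw [MulAut.mul_apply, h]
          exact (b : MulAut V).symm_apply_apply _
        rw [inv_mul_eq_one.1 (Subtype.ext (hf _ (b⁻¹ * a).2 _ (R.pt_ne i) h2) : b⁻¹ * a = 1)]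
      · obtain ⟨i, γ, h⟩ := R.pt_bij u (Finset.ne_of_mem_erase hu)
        exact ⟨(i, γ), Finset.mem_univ _, h⟩

theorem Reps.sum_ch {m : ℕ} (R : Reps Γ m) (hf : Free Γ) [Fintype (V →* ℂˣ)] (f : (V →* ℂˣ) → ℤ)
    (hinv : ∀ lam, ∀ γ : Γ, f (tw lam γ) = f lam) :
    ∑ lam, f lam = f 1 + (Nat.card Γ : ℤ) * ∑ i, f (R.ch i) := by
  rw [← Finset.add_sum_erase _ _ (Finset.mem_univ 1)]
  congr 1
  symm
  rw [Finset.mul_sum]
  calc ∑ i, (Nat.card Γ : ℤ) * f (R.ch i) = ∑ w : Fin m × Γ, f (tw (R.ch w.1) w.2) := by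
        rw [Fintype.sum_prod_type]
        refine Finset.sum_congr rfl fun i _ => ?_
        simp [hinv, Nat.card_eq_fintype_card]
    _ = _ := by
      refine Finset.sum_bij (fun w _ => tw (R.ch w.1) w.2) (fun w _ => ?_)
        (fun w _ w' _ h => ?_) (fun u hu => ?_) fun _ _ => rfl
      · refine Finset.mem_erase.2 ⟨fun e => R.ch_ne w.1 ?_, Finset.mem_univ _⟩
        have := congrArg (fun x => tw x (w.2⁻¹ : Γ).1) e
        simpa [tw_tw, tw_one] using this
      · have h2 := congrArg (fun x => tw x (w'.2⁻¹ : Γ).1) h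
        simp only [tw_tw] at h2
        rw [show (w'.2 : MulAut V) * (w'.2⁻¹ : Γ).1 = 1 by simp, tw_one'] at h2
        have h1 := R.ch_uniq w.1 w'.1 (w.2 * w'.2⁻¹) h2
        obtain ⟨i, a⟩ := w
        obtain ⟨j, b⟩ := w'
        simp only at h1 h2
        subst h1
        refine Prod.ext rfl (mul_inv_eq_one.1 (?_ : a * b⁻¹ = 1))
        by_contra hne
        exact R.ch_ne i (hf.dual hne h2)
      · obtain ⟨i, γ, h⟩ := R.ch_bij u (Finset.ne_of_mem_erase hu)
        exact ⟨(i, γ), Finset.mem_univ _, h⟩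

/-! ### The integral matrices -/

variable (Γ) in
/-- The matrices of the orbit sums. -/
structure Star {ι : Type*} [Fintype ι] [Fintype (V →* ℂˣ)] (X : (V →* ℂˣ) → ι → ι → ℤ)
    (C : ι → ι → ℤ) : Prop where
  free : Free Γ
  inv : ∀ lam χ ψ, X lam⁻¹ χ ψ = X lam ψ χ
  one : ∀ χ ψ, X 1 χ ψ = if χ = ψ then (Nat.card Γ : ℤ) else 0
  mul : ∀ a b χ ψ, ∑ φ, X a χ φ * X b φ ψ = ∑ ε : Γ, X (a * tw b ε) χ ψ
  twist : ∀ lam, ∀ γ : Γ, X (tw lam γ) = X lam
  sum : ∀ χ ψ, ∑ lam, X lam χ ψ = (Nat.card Γ : ℤ) * C χ ψ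

variable {ι : Type*} [Fintype ι] [Fintype (V →* ℂˣ)] {X : (V →* ℂˣ) → ι → ι → ℤ} {C : ι → ι → ℤ}
  {m : ℕ}

theorem Star.e_ne (_S : Star Γ X C) : (Nat.card Γ : ℤ) ≠ 0 := by
  exact_mod_cast (Nat.card_pos (α := Γ)).ne'

theorem Star.kernel (S : Star Γ X C) (lam : V →* ℂˣ) (χ ψ : ι) :
    ∑ φ, X lam χ φ * C φ ψ = (Nat.card Γ : ℤ) * C χ ψ := by
  refine mul_left_cancel₀ S.e_ne ?_
  calc (Nat.card Γ : ℤ) * ∑ φ, X lam χ φ * C φ ψ = ∑ φ, X lam χ φ * ∑ μ, X μ φ ψ := by
        simp only [S.sum, Finset.mul_sum]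
        exact Finset.sum_congr rfl fun φ _ => by ring
    _ = ∑ μ, ∑ ε : Γ, X (lam * tw μ ε) χ ψ := by
        simp only [Finset.mul_sum]
        rw [Finset.sum_comm]
        exact Finset.sum_congr rfl fun μ _ => S.mul lam μ χ ψ
    _ = ∑ ε : Γ, (Nat.card Γ : ℤ) * C χ ψ := by
        rw [Finset.sum_comm]
        refine Finset.sum_congr rfl fun ε _ => ?_
        rw [← S.sum]
        refine Fintype.sum_bijective (fun μ => lam * tw μ ε) ?_ _ _ fun _ => rfl
        refine Finite.injective_iff_bijective.1 fun a b h => ?_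
        have h' := congrArg (fun x => tw x (ε⁻¹ : Γ).1) (mul_left_cancel h)
        simpa [tw_tw] using h'
    _ = _ := by simp [Nat.card_eq_fintype_card]

theorem Star.row_sq (S : Star Γ X C) (lam : V →* ℂˣ) (χ : ι) :
    ∑ φ, X lam χ φ ^ 2 = ∑ ε : Γ, X (lam * tw lam⁻¹ ε) χ χ := by
  rw [← S.mul]
  exact Finset.sum_congr rfl fun φ _ => by rw [S.inv, pow_two]

theorem Star.sum_rep (S : Star Γ X C) (R : Reps Γ m) (χ ψ : ι) :
    ∑ i, X (R.ch i) χ ψ = C χ ψ - if χ = ψ then 1 else 0 := by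
  have h := R.sum_ch S.free (fun lam => X lam χ ψ) fun lam γ => by rw [S.twist]
  rw [S.sum, S.one] at h
  refine mul_left_cancel₀ S.e_ne ?_
  split_ifs at h ⊢ with hc <;> linear_combination -h

theorem Star.sum_rep_sq (S : Star Γ X C) (R : Reps Γ m) (hm : Nat.card V = Nat.card Γ * m + 1) (χ : ι) :
    ∑ i, ∑ φ, X (R.ch i) χ φ ^ 2 =
      (Nat.card Γ : ℤ) * m + ((Nat.card Γ : ℤ) - 1) * (C χ χ - 1) := by
  have h := R.sum_ch S.free (fun lam => ∑ φ, X lam χ φ ^ 2) fun lam γ => by rw [S.twist]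
  have hall : ∑ lam, ∑ φ, X lam χ φ ^ 2 =
      (Nat.card V : ℤ) * Nat.card Γ + ((Nat.card Γ : ℤ) - 1) * (Nat.card Γ * C χ χ) := by
    rw [Finset.sum_congr rfl fun lam _ => S.row_sq lam χ, Finset.sum_comm,
      ← Finset.add_sum_erase _ _ (Finset.mem_univ (1 : Γ))]
    congr 1
    · simp only [Subgroup.coe_one, tw_one', mul_inv_self', S.one, if_true, Finset.sum_const,
        Finset.card_univ, nsmul_eq_mul, ← Nat.card_eq_fintype_card,
        CommGroup.card_monoidHom_of_hasEnoughRootsOfUnity]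
    · rw [Finset.sum_congr rfl fun ε hε => show _ = (Nat.card Γ : ℤ) * C χ χ by
        rw [← S.sum]
        exact Fintype.sum_bijective _ (S.free.bij (Finset.ne_of_mem_erase hε)) _ _ fun _ => rfl,
        Finset.sum_const, Finset.card_erase_of_mem (Finset.mem_univ _), Finset.card_univ, nsmul_eq_mul,
        ← Nat.card_eq_fintype_card, Nat.cast_sub Nat.card_pos]
      simp
  have hone : ∑ φ, X 1 χ φ ^ 2 = (Nat.card Γ : ℤ) ^ 2 := by
    rw [Finset.sum_eq_single χ] <;> simp +contextual [S.one, eq_comm]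
  rw [hall, hone] at h
  have hq : (Nat.card V : ℤ) = (Nat.card Γ : ℤ) * m + 1 := by exact_mod_cast hm
  refine mul_left_cancel₀ S.e_ne ?_
  rw [hq] at h
  linear_combination -h

theorem Star.rowBound (S : Star Γ X C) (R : Reps Γ m) (hm : Nat.card V = Nat.card Γ * m + 1) :
    FreeArith42.RowBound C (Nat.card Γ) m := by
  intro χ
  refine ⟨fun i => X (R.ch i) χ χ, by rw [S.sum_rep R, if_pos rfl], ?_⟩
  rw [← S.sum_rep_sq R hm χ, Finset.sum_comm (s := (univ : Finset (Fin m))),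
    ← Finset.add_sum_erase _ _ (Finset.mem_univ χ), add_comm]
  refine add_le_add le_rfl (Finset.sum_le_sum fun ψ hψ => ?_)
  rw [← show ∑ i, X (R.ch i) χ ψ = C χ ψ by
    rw [S.sum_rep R, if_neg (Finset.ne_of_mem_erase hψ).symm, sub_zero]]
  refine (Finset.abs_sum_le_sum_abs _ _).trans (Finset.sum_le_sum fun i _ => ?_)
  calc |X (R.ch i) χ ψ| ≤ |X (R.ch i) χ ψ| ^ 2 := Int.le_self_sq _
    _ = _ := sq_abs _

/-! ### The Gram determinant -/

theorem sub_one_mem {p : ℕ} {M : Ideal AlgInt} (hM : IsPModular p M) {n : ℕ} {z : ℂ}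
    (hz : z ^ p ^ n = 1) : MemLocalIdeal M (z - 1) := by
  have hzi : IsIntegral ℤ z :=
    IsIntegral.of_pow (pow_pos hM.1.pos n) (by rw [hz]; exact isIntegral_one)
  set a : AlgInt := ⟨z, hzi⟩
  rw [show z - 1 = ((a - 1 : AlgInt) : ℂ) by simp [a], algInt_mem_ideal_iff hM]
  have hP := isPrime hM
  have step : ∀ b : AlgInt, b ^ p - 1 ∈ M → b - 1 ∈ M := by
    intro b hb
    refine hP.mem_of_pow_mem p ?_
    obtain ⟨r, hr⟩ := exists_add_pow_prime_eq hM.1 (b - 1) 1
    rw [sub_add_cancel, one_pow] at hr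
    rw [show (b - 1) ^ p = (b ^ p - 1) - (p : AlgInt) * (b - 1) * 1 * r by rw [hr]; ring]
    exact M.sub_mem hb (M.mul_mem_right _ (M.mul_mem_right _ (M.mul_mem_right _ hM.2.2)))
  have key : ∀ n (b : AlgInt), b ^ p ^ n = 1 → b - 1 ∈ M := by
    intro n
    induction n with
    | zero => intro b hb; rw [pow_zero, pow_one] at hb; simp [hb]
    | succ n ih => intro b hb; exact step b (ih (b ^ p) (by rw [← pow_mul, ← pow_succ', hb]))
  exact key n a (Subtype.ext (by simpa [a] using hz))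

variable {p d : ℕ} {M : Ideal AlgInt}

set_option maxHeartbeats 800000 in
/-- An integral basis of the kernel with Gram determinant the order times a number prime to `p`. -/
theorem Star.exists_basis (S : Star Γ X C) (R : Reps Γ m) (hm : Nat.card V = Nat.card Γ * m + 1)
    (hM : IsPModular p M) (hq : Nat.card V = p ^ d) (hCs : ∀ χ ψ, C χ ψ = C ψ χ) {χ₀ : ι}
    (hχ₀ : ¬ (p : ℤ) ∣ C χ₀ χ₀) (he : ¬ p ∣ Nat.card Γ) :
    ∃ (U : Matrix ι (Fin m) ℤ) (w : ℤ), (∀ χ i, ∑ φ, C χ φ * U φ i = 0) ∧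
      (U.transpose * U).det = (Nat.card V : ℤ) * w ∧ ¬ (p : ℤ) ∣ w := by
  set e := Nat.card Γ with he'
  set q := Nat.card V with hq'
  set h := C χ₀ χ₀
  set a : (V →* ℂˣ) → ℤ := fun lam => X lam χ₀ χ₀
  set U : Matrix ι (Fin m) ℤ := Matrix.of fun φ i =>
    X (R.ch i) χ₀ φ - if χ₀ = φ then (e : ℤ) else 0 with hUdef
  refine ⟨U, ?_⟩
  have hU : ∀ χ i, ∑ φ, C χ φ * U φ i = 0 := by
    intro χ i
    simp only [hUdef, Matrix.of_apply, mul_sub, Finset.sum_sub_distrib, mul_ite, mul_zero,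
      Finset.sum_ite_eq, Finset.mem_univ, if_true]
    rw [show ∑ φ, C χ φ * X (R.ch i) χ₀ φ = ∑ φ, X (R.ch i) χ₀ φ * C φ χ from
      Finset.sum_congr rfl fun φ _ => by rw [hCs χ φ, mul_comm], S.kernel, hCs χ₀ χ, mul_comm, sub_self]
  -- the functional
  set b : (V →* ℂˣ) → V → ℂ := fun lam u => theta Γ lam u - e with hb
  set W : V → ℂ := fun u => (e : ℂ) * h + ∑ k, (a (R.ch k) : ℂ) * b (R.ch k)⁻¹ u
  have hq0 : ((e : ℂ) * q) ≠ 0 := mul_ne_zero (Nat.cast_ne_zero.2 Nat.card_pos.ne')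
    (Nat.cast_ne_zero.2 Nat.card_pos.ne')
  have horth : ∀ i k, ∑ u, b (R.ch i) u * b (R.ch k)⁻¹ u =
      (e : ℂ) * q * ((if i = k then 1 else 0) + e) := by
    intro i k
    simp only [hb]
    have h1 : ∑ u, theta Γ (R.ch i) u * theta Γ (R.ch k)⁻¹ u =
        if i = k then (e : ℂ) * q else 0 := by
      simp only [theta_mul]
      rw [Finset.sum_comm]
      simp only [sum_theta, tw_inv, mul_inv_eq_one]
      split_ifs with hik
      · subst hik
        rw [Finset.sum_eq_single 1]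
        · rw [Subgroup.coe_one, tw_one', mul_inv_self', if_pos rfl]
        · intro ε _ hε
          rw [if_neg fun e0 => R.ch_ne i (S.free.dual hε (mul_inv_eq_one.1 e0).symm)]
        · simp
      · exact Finset.sum_eq_zero fun ε _ => if_neg fun e0 => hik (R.ch_uniq k i ε (mul_inv_eq_one.1 e0).symm).symm
    have h2 : ∑ u, theta Γ (R.ch i) u = 0 := by rw [sum_theta, if_neg (R.ch_ne i)]
    have h3 : ∑ u, theta Γ (R.ch k)⁻¹ u = 0 := by
      rw [sum_theta, if_neg]
      exact inv_ne_one' (R.ch_ne k)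
    calc ∑ u, (theta Γ (R.ch i) u - e) * (theta Γ (R.ch k)⁻¹ u - e)
        = (∑ u, theta Γ (R.ch i) u * theta Γ (R.ch k)⁻¹ u) - (∑ u, theta Γ (R.ch i) u) * e -
          (e : ℂ) * (∑ u, theta Γ (R.ch k)⁻¹ u) + ∑ _u : V, (e : ℂ) * e := by
          rw [Finset.sum_mul, Finset.mul_sum, ← Finset.sum_sub_distrib, ← Finset.sum_sub_distrib,
            ← Finset.sum_add_distrib]
          exact Finset.sum_congr rfl fun u _ => by ring
      _ = _ := by
          rw [h1, h2, h3, Finset.sum_const, Finset.card_univ, ← Nat.card_eq_fintype_card, nsmul_eq_mul]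
          split_ifs <;> ring
  have hsuma : ∑ k, (a (R.ch k) : ℂ) = (h : ℂ) - 1 := by
    have h1 : ∑ k, a (R.ch k) = h - 1 := by
      show ∑ k, X (R.ch k) χ₀ χ₀ = _
      rw [S.sum_rep R, if_pos rfl]
    exact_mod_cast h1
  have hval : ∀ lam, ∑ u, b lam u * W u = (e : ℂ) * q * ((a lam : ℂ) - e) := by
    intro lam
    by_cases hl : lam = 1
    · subst hl
      rw [Finset.sum_eq_zero fun u _ => by simp [hb, theta_one, he'], show a 1 = (e : ℤ) by simp [a, S.one, he']]
      simp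
    obtain ⟨i, γ, rfl⟩ := R.ch_bij lam hl
    rw [show a (tw (R.ch i) γ) = a (R.ch i) by simp [a, S.twist]]
    simp only [hb, theta_tw]
    change ∑ u, b (R.ch i) u * W u = _
    calc ∑ u, b (R.ch i) u * W u
        = (e : ℂ) * h * (∑ u, b (R.ch i) u) +
          ∑ k, (a (R.ch k) : ℂ) * ∑ u, b (R.ch i) u * b (R.ch k)⁻¹ u := by
          simp only [W, mul_add, Finset.sum_add_distrib, Finset.mul_sum]
          congr 1
          · exact Finset.sum_congr rfl fun u _ => by ring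
          · rw [Finset.sum_comm]
            exact Finset.sum_congr rfl fun k _ => Finset.sum_congr rfl fun u _ => by ring
      _ = _ := by
          simp only [horth, mul_add, Finset.sum_add_distrib, mul_ite, mul_one, mul_zero]
          rw [Finset.sum_ite_eq, if_pos (Finset.mem_univ _), ← Finset.sum_mul, hsuma]
          simp only [hb]
          rw [Finset.sum_sub_distrib, sum_theta, if_neg (R.ch_ne i), Finset.sum_const, Finset.card_univ,
            ← Nat.card_eq_fintype_card, nsmul_eq_mul]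
          ring
  have hgram : ∀ i j, ((U.transpose * U) i j : ℂ) * ((e : ℂ) * q) =
      ∑ u, b (R.ch i) u * b (R.ch j)⁻¹ u * W u := by
    intro i j
    have e1 : (U.transpose * U) i j =
        (∑ ε : Γ, a (R.ch i * tw (R.ch j)⁻¹ ε)) - (e : ℤ) * a (R.ch i) - (e : ℤ) * a (R.ch j)⁻¹ +
          (e : ℤ) ^ 2 := by
      have ha : a (R.ch j)⁻¹ = a (R.ch j) := S.inv _ _ _
      simp only [a] at ha ⊢
      rw [ha, ← S.mul, Matrix.mul_apply]
      simp only [hUdef, Matrix.transpose_apply, Matrix.of_apply, sub_mul, mul_sub, Finset.sum_sub_distrib,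
        ite_mul, mul_ite, zero_mul, mul_zero, S.inv, Finset.sum_ite_eq, Finset.mem_univ, if_true]
      ring
    have e2 : ∀ u, b (R.ch i) u * b (R.ch j)⁻¹ u =
        (∑ ε : Γ, b (R.ch i * tw (R.ch j)⁻¹ ε) u) - (e : ℂ) * b (R.ch i) u - (e : ℂ) * b (R.ch j)⁻¹ u := by
      intro u
      simp only [hb, Finset.sum_sub_distrib, ← theta_mul, Finset.sum_const, Finset.card_univ,
        ← Nat.card_eq_fintype_card, nsmul_eq_mul]
      ring
    rw [e1]
    simp only [e2, sub_mul, Finset.sum_sub_distrib, Finset.sum_mul, mul_assoc, ← Finset.mul_sum]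
    rw [Finset.sum_comm]
    simp only [hval, Finset.mul_sum, mul_sub, Finset.sum_sub_distrib, Finset.sum_const, Finset.card_univ,
      ← Nat.card_eq_fintype_card, nsmul_eq_mul, ← he']
    push_cast [Finset.sum_mul]
    simp only [← Finset.mul_sum, ← Finset.sum_mul]
    ring
  set F : Matrix (Fin m) (Fin m) ℂ := Matrix.of fun i u => b (R.ch i) (R.pt u) with hF
  set F' : Matrix (Fin m) (Fin m) ℂ := Matrix.of fun u i => b (R.ch i)⁻¹ (R.pt u) with hF'
  have hred : ∀ (g : V → ℂ), (∀ (γ : Γ) u, g ((γ : MulAut V) u) = g u) → g 1 = 0 →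
      ∑ u, g u = (e : ℂ) * ∑ k, g (R.pt k) := by
    intro g hg hg1
    rw [R.sum_pt S.free g hg, hg1, zero_add]
  have hb1 : ∀ lam, b lam 1 = 0 := fun lam => by simp [hb, theta_at_one, he']
  have hbi : ∀ lam (γ : Γ) u, b lam ((γ : MulAut V) u) = b lam u := fun lam γ u => by
    simp only [hb, theta_invariant]
  have hec : (e : ℂ) ≠ 0 := left_ne_zero_of_mul hq0
  have hqc : (q : ℂ) ≠ 0 := right_ne_zero_of_mul hq0
  have hFG : F * Matrix.diagonal (fun k => W (R.pt k)) * F' =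
      (q : ℂ) • (U.transpose * U).map (Int.cast : ℤ → ℂ) := by
    ext i j
    rw [Matrix.mul_apply, Matrix.smul_apply, Matrix.map_apply, smul_eq_mul]
    refine mul_left_cancel₀ hec ?_
    rw [show (e : ℂ) * ((q : ℂ) * ((U.transpose * U) i j : ℂ)) =
      ((U.transpose * U) i j : ℂ) * ((e : ℂ) * q) by ring, hgram,
      hred _ (fun γ u => by simp only [W, hbi]) (by simp [hb1])]
    congr 1
    refine Finset.sum_congr rfl fun k _ => ?_
    rw [Matrix.mul_diagonal]
    simp only [hF, hF', Matrix.of_apply]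
    ring
  have hFF : F * F' = (q : ℂ) • (1 + Matrix.replicateCol Unit (fun _ : Fin m => (e : ℂ)) *
      Matrix.replicateRow Unit (fun _ : Fin m => (1 : ℂ))) := by
    ext i j
    rw [Matrix.mul_apply, Matrix.smul_apply, Matrix.add_apply, Matrix.one_apply, Matrix.mul_apply,
      smul_eq_mul]
    refine mul_left_cancel₀ hec ?_
    simp only [Matrix.replicateCol_apply, Matrix.replicateRow_apply, mul_one, Finset.univ_unique,
      Finset.sum_singleton]
    rw [← mul_assoc, ← horth, hred _ (fun γ u => by simp only [hbi]) (by simp [hb1])]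
    rfl
  have hdet : (((U.transpose * U).det : ℤ) : ℂ) = (q : ℂ) * ∏ k, W (R.pt k) := by
    have h1 := congrArg Matrix.det hFG
    rw [Matrix.det_mul, Matrix.det_mul, Matrix.det_diagonal, Matrix.det_smul, Fintype.card_fin,
      show ((U.transpose * U).map (Int.cast : ℤ → ℂ)).det = (((U.transpose * U).det : ℤ) : ℂ) from
        ((Int.castRingHom ℂ).map_det _).symm] at h1
    have h2 := congrArg Matrix.det hFF
    rw [Matrix.det_mul, Matrix.det_smul, Fintype.card_fin,
      Matrix.det_one_add_replicateCol_mul_replicateRow] at h2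
    have h3 : (1 : ℂ) + (fun _ : Fin m => (1 : ℂ)) ⬝ᵥ (fun _ : Fin m => (e : ℂ)) = q := by
      simp only [dotProduct, one_mul, Finset.sum_const, Finset.card_univ, Fintype.card_fin, nsmul_eq_mul]
      rw [hm]; push_cast; ring
    rw [h3] at h2
    refine mul_left_cancel₀ (pow_ne_zero m hqc) ?_
    rw [← h1, ← mul_assoc, ← h2]
    ring
  -- the product is a unit modulo the ideal
  have hint : ∀ lam u, IsIntegral ℤ (theta Γ lam u) := fun lam u =>
    IsIntegral.sum _ fun γ _ => IsIntegral.of_pow (Fintype.card_pos (α := V)) (by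
      rw [← Units.val_pow_eq_pow_val, ← map_pow, pow_card_eq_one, map_one, Units.val_one]
      exact isIntegral_one)
  have hbint : ∀ lam u, IsIntegral ℤ (b lam u) := fun lam u => (hint lam u).sub (isIntegral_algebraMap (x := (e : ℤ)))
  have hbM : ∀ lam u, MemLocalIdeal M (b lam u) := by
    intro lam u
    rw [show b lam u = ∑ γ : Γ, ((lam ((γ : MulAut V) u) : ℂ) - 1) by
      simp [hb, theta, he', Nat.card_eq_fintype_card]]
    refine ideal_sum hM fun γ _ => sub_one_mem hM (n := d) ?_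
    rw [← hq, ← Units.val_pow_eq_pow_val, ← map_pow, pow_card_eq_one', map_one, Units.val_one]
  have heh : ¬ MemLocalIdeal M ((e : ℂ) * h) := by
    refine not_ideal_mul hM (of_isIntegral hM (isIntegral_algebraMap (x := (e : ℤ))))
      (of_isIntegral hM (isIntegral_algebraMap (x := h))) (fun hc => he ((natCast_mem_iff hM).1 hc)) ?_
    intro hc
    have hc' : MemLocalIdeal M ((h.natAbs : ℕ) : ℂ) := by
      rcases Int.natAbs_eq h with h1 | h1
      · rwa [h1, Int.cast_natCast] at hc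
      · have := ideal_neg hc
        rwa [h1, Int.cast_neg, neg_neg, Int.cast_natCast] at this
    exact hχ₀ (Int.natCast_dvd.2 ((natCast_mem_iff hM).1 hc'))
  have hWint : ∀ k, IsIntegral ℤ (W (R.pt k)) := fun k =>
    ((isIntegral_algebraMap (x := (e : ℤ))).mul (isIntegral_algebraMap (x := h))).add
      (IsIntegral.sum _ fun l _ => (isIntegral_algebraMap (x := a (R.ch l))).mul (hbint _ _))
  have hWu : ∀ k, ¬ MemLocalIdeal M (W (R.pt k)) := by
    intro k hc
    have h2 : MemLocalIdeal M (∑ l, (a (R.ch l) : ℂ) * b (R.ch l)⁻¹ (R.pt k)) :=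
      ideal_sum hM fun l _ => ideal_mul_left hM (of_isIntegral hM (isIntegral_algebraMap (x := a (R.ch l))))
        (hbM _ _)
    have := ideal_sub hM hc h2
    simp only [W, add_sub_cancel_right] at this
    exact heh this
  have hPu : ¬ MemLocalIdeal M (∏ k, W (R.pt k)) := by
    refine Finset.prod_induction (fun k => W (R.pt k))
      (fun z => MemLocalRing M z ∧ ¬ MemLocalIdeal M z)
      (fun x y hx hy => ⟨(localRing hM).mul_mem hx.1 hy.1, not_ideal_mul hM hx.1 hy.1 hx.2 hy.2⟩)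
      ⟨(localRing hM).one_mem, one_not_ideal hM⟩ (fun k _ => ⟨of_isIntegral hM (hWint k), hWu k⟩) |>.2
  -- the product is rational
  have hPint : IsIntegral ℤ (((((U.transpose * U).det : ℚ) / q) : ℚ) : ℂ) := by
    rw [show ((((U.transpose * U).det : ℚ) / q : ℚ) : ℂ) = ∏ k, W (R.pt k) by
      rw [Rat.cast_div, Rat.cast_intCast, Rat.cast_natCast, hdet]; field_simp]
    exact IsIntegral.prod _ fun k _ => hWint k
  obtain ⟨w, hw⟩ := IsIntegrallyClosed.isIntegral_iff.1
    ((isIntegral_algebraMap_iff (algebraMap ℚ ℂ).injective).1 hPint)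
  have hwdet : (U.transpose * U).det = (q : ℤ) * w := by
    have h1 : ((U.transpose * U).det : ℚ) = (q : ℚ) * (w : ℚ) := by
      rw [show ((w : ℤ) : ℚ) = algebraMap ℤ ℚ w from rfl, hw]
      have : (q : ℚ) ≠ 0 := Nat.cast_ne_zero.2 Nat.card_pos.ne'
      field_simp
    exact_mod_cast h1
  refine ⟨w, hU, hwdet, fun hpw => hPu ?_⟩
  rw [show ∏ k, W (R.pt k) = (w : ℂ) from mul_left_cancel₀ hqc (by rw [← hdet, hwdet]; push_cast; rfl)]
  obtain ⟨v, rfl⟩ := hpw
  push_cast
  exact ideal_mul_right hM (natCast_p_mem hM) (of_isIntegral hM (isIntegral_algebraMap (x := v)))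

/-! ### Orbits of length three -/

theorem three_elts (hΓ : Nat.card Γ = 3) {ε : Γ} (hε : ε ≠ 1) :
    ε ^ 3 = 1 ∧ ε ^ 2 ≠ 1 ∧ ∀ γ : Γ, γ = 1 ∨ γ = ε ∨ γ = ε ^ 2 := by
  have h3 : ε ^ 3 = 1 := by rw [← hΓ]; exact pow_card_eq_one'
  have h2 : ε ^ 2 ≠ 1 := fun e => hε (by rwa [pow_succ, e, one_mul] at h3)
  refine ⟨h3, h2, fun γ => ?_⟩
  have hne : ε ^ 2 ≠ ε := fun e => hε (mul_left_cancel (a := ε) (by rw [← pow_two, e, mul_one]))
  have hcard : ({1, ε, ε ^ 2} : Finset Γ).card = Fintype.card Γ := by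
    rw [Finset.card_insert_of_notMem (by simp [hε.symm, h2.symm]), Finset.card_pair hne.symm,
      ← Nat.card_eq_fintype_card, hΓ]
  have := (Finset.card_eq_iff_eq_univ _).1 hcard
  have hγ := Finset.mem_univ γ
  rw [← this] at hγ
  simpa using hγ

theorem Free.prod_three (hf : Free Γ) (hΓ : Nat.card Γ = 3) {ε : Γ} (hε : ε ≠ 1) (lam : V →* ℂˣ) :
    lam * FreeStar42.tw lam ε * FreeStar42.tw lam (ε ^ 2 : Γ) = 1 := by
  obtain ⟨h3, -, -⟩ := three_elts hΓ hε
  refine MonoidHom.ext fun x => ?_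
  show lam x * lam ((ε : MulAut V) x) * lam (((ε ^ 2 : Γ) : MulAut V) x) = 1
  rw [← map_mul, ← map_mul]
  convert map_one lam using 2
  by_contra hne
  refine hε (Subtype.ext (hf _ ε.2 _ hne ?_))
  have h3' : (ε : MulAut V) ((ε : MulAut V) ((ε : MulAut V) x)) = x := by
    have := congrArg (fun γ : Γ => (γ : MulAut V) x) h3
    simpa [pow_succ, pow_two, MulAut.mul_apply] using this
  have h2' : ((ε ^ 2 : Γ) : MulAut V) x = (ε : MulAut V) ((ε : MulAut V) x) := by
    simp [pow_two, MulAut.mul_apply]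
  rw [h2', map_mul, map_mul, h3', mul_comm _ x, mul_assoc]

/-- Twenty-five elements and two large characters. -/
theorem Star.not_twenty_five (S : Star Γ X C) (R : Reps Γ 8) (hm : Nat.card V = 25)
    (hΓ : Nat.card Γ = 3) (hcard : Fintype.card ι = 9) {χ ψ : ι} (hχψ : χ ≠ ψ) (hχ : C χ χ = 9)
    (hψ : C ψ ψ = 9) (hχψ9 : |C χ ψ| = 9) (hψχ9 : |C ψ χ| = 9) (hχφ : ∀ φ, 3 ≤ |C χ φ|)
    (hψφ : ∀ φ, 3 ≤ |C ψ φ|) : False := by
  have hq : Nat.card V = Nat.card Γ * 8 + 1 := by rw [hm, hΓ]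
  have side : ∀ (χ ψ : ι), χ ≠ ψ → C χ χ = 9 → |C χ ψ| = 9 → (∀ φ, 3 ≤ |C χ φ|) →
      (∀ lam, lam ≠ 1 → X lam χ χ = 1) ∧
      ∃ s : ℤ, (s = 1 ∨ s = -1) ∧ (∀ lam, lam ≠ 1 → X lam χ ψ = s ∨ X lam χ ψ = 2 * s) ∧
        ∃ i₀, X (R.ch i₀) χ ψ = 2 * s ∧ ∀ i, i ≠ i₀ → X (R.ch i) χ ψ = s := by
    intro χ ψ hne hχ h9 h3
    have htot := S.sum_rep_sq R hq χ
    rw [hχ, hΓ, Finset.sum_comm, ← Finset.add_sum_erase _ _ (Finset.mem_univ χ),
      ← Finset.add_sum_erase _ _ (Finset.mem_erase.2 ⟨hne.symm, Finset.mem_univ ψ⟩)] at htot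
    norm_num at htot
    have hrest : (21 : ℤ) ≤ ∑ φ ∈ (univ.erase χ).erase ψ, ∑ i, X (R.ch i) χ φ ^ 2 := by
      have := Finset.sum_le_sum (s := (univ.erase χ).erase ψ)
        fun φ hφ => show (3 : ℤ) ≤ ∑ i, X (R.ch i) χ φ ^ 2 by
          refine (h3 φ).trans ?_
          rw [← show ∑ i, X (R.ch i) χ φ = C χ φ by
            rw [S.sum_rep R, if_neg (Finset.ne_of_mem_erase (Finset.mem_of_mem_erase hφ)).symm, sub_zero]]
          refine (Finset.abs_sum_le_sum_abs _ _).trans (Finset.sum_le_sum fun i _ => ?_)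
          exact (Int.le_self_sq _).trans_eq (sq_abs _)
      rw [Finset.sum_const, Finset.card_erase_of_mem (Finset.mem_erase.2 ⟨hne.symm, Finset.mem_univ _⟩),
        Finset.card_erase_of_mem (Finset.mem_univ _), Finset.card_univ, hcard, nsmul_eq_mul] at this
      norm_num at this
      exact this
    obtain ⟨s, hs, hsC⟩ : ∃ s : ℤ, (s = 1 ∨ s = -1) ∧ s * C χ ψ = 9 := by
      rcases abs_choice (C χ ψ) with h | h <;> rw [h] at h9
      · exact ⟨1, Or.inl rfl, by rw [one_mul, h9]⟩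
      · exact ⟨-1, Or.inr rfl, by rw [neg_one_mul, h9]⟩
    have hs2 : s * s = 1 := by rcases hs with rfl | rfl <;> norm_num
    have ha : ∑ i, X (R.ch i) χ χ = 8 := by rw [S.sum_rep R, if_pos rfl, hχ]; norm_num
    have hy : ∑ i, s * X (R.ch i) χ ψ = 9 := by
      rw [← Finset.mul_sum, S.sum_rep R, if_neg hne, sub_zero, hsC]
    have p1 : ∀ x : ℤ, 0 ≤ x ^ 2 - x := fun x => by linarith [Int.le_self_sq x]
    have p2 : ∀ x : ℤ, 0 ≤ x ^ 2 - 3 * x + 2 := fun x => by linarith [FreeArith42.sq_ge_three x]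
    have hsq : ∀ x : ℤ, (s * x) ^ 2 = x ^ 2 := fun x => by rw [mul_pow, pow_two s, hs2, one_mul]
    have h1 : ∑ i, (X (R.ch i) χ χ ^ 2 - X (R.ch i) χ χ) = 0 ∧
        ∑ i, ((s * X (R.ch i) χ ψ) ^ 2 - 3 * (s * X (R.ch i) χ ψ) + 2) = 0 := by
      have e1 := Finset.sum_nonneg fun i (_ : i ∈ (univ : Finset (Fin 8))) => p1 (X (R.ch i) χ χ)
      have e2 := Finset.sum_nonneg fun i (_ : i ∈ (univ : Finset (Fin 8))) => p2 (s * X (R.ch i) χ ψ)
      simp only [Finset.sum_add_distrib, Finset.sum_sub_distrib, hsq, ← Finset.mul_sum, Finset.sum_const,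
        Finset.card_univ, Fintype.card_fin, nsmul_eq_mul] at e1 e2 ⊢
      rw [ha] at e1 ⊢
      rw [← Finset.mul_sum] at hy
      rw [hy] at e2 ⊢
      push_cast at e1 e2 ⊢
      omega
    have za : ∀ i, X (R.ch i) χ χ = 0 ∨ X (R.ch i) χ χ = 1 := fun i => by
      have := (Finset.sum_eq_zero_iff_of_nonneg fun i _ => p1 _).1 h1.1 i (Finset.mem_univ i)
      rcases mul_eq_zero.1 (show X (R.ch i) χ χ * (X (R.ch i) χ χ - 1) = 0 by linear_combination this) with h | h
      · exact Or.inl h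
      · exact Or.inr (by linarith)
    have zb : ∀ i, s * X (R.ch i) χ ψ = 1 ∨ s * X (R.ch i) χ ψ = 2 := fun i => by
      have := (Finset.sum_eq_zero_iff_of_nonneg fun i _ => p2 _).1 h1.2 i (Finset.mem_univ i)
      rcases mul_eq_zero.1 (show (s * X (R.ch i) χ ψ - 1) * (s * X (R.ch i) χ ψ - 2) = 0 by
        linear_combination this) with h | h
      · exact Or.inl (by linarith)
      · exact Or.inr (by linarith)
    refine ⟨fun lam hl => ?_, s, hs, fun lam hl => ?_, ?_⟩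
    · obtain ⟨i, γ, rfl⟩ := R.ch_bij lam hl
      rw [S.twist]
      refine (za i).resolve_left fun h0 => ?_
      rw [← Finset.add_sum_erase _ _ (Finset.mem_univ i), h0, zero_add] at ha
      have := Finset.sum_le_sum (s := univ.erase i) fun j _ =>
        (show X (R.ch j) χ χ ≤ 1 by rcases za j with h | h <;> omega)
      rw [Finset.sum_const, Finset.card_erase_of_mem (Finset.mem_univ _), Finset.card_univ,
        Fintype.card_fin, nsmul_eq_mul] at this
      push_cast at this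
      omega
    · obtain ⟨i, γ, rfl⟩ := R.ch_bij lam hl
      rw [S.twist]
      rcases hs with rfl | rfl <;> rcases zb i with h | h <;> omega
    · obtain ⟨i₀, hi₀⟩ : ∃ i₀, s * X (R.ch i₀) χ ψ = 2 := by
        by_contra hno
        push Not at hno
        rw [Finset.sum_congr rfl fun i _ => (zb i).resolve_right (hno i)] at hy
        simp at hy
      refine ⟨i₀, by rcases hs with rfl | rfl <;> omega, fun i hi => ?_⟩
      have hi1 : s * X (R.ch i) χ ψ = 1 := by
        refine (zb i).resolve_right fun h2 => ?_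
        rw [← Finset.add_sum_erase _ _ (Finset.mem_univ i₀),
          ← Finset.add_sum_erase _ _ (Finset.mem_erase.2 ⟨hi, Finset.mem_univ i⟩), hi₀, h2] at hy
        have := Finset.sum_le_sum (s := (univ.erase i₀).erase i) fun j _ =>
          (show (1 : ℤ) ≤ s * X (R.ch j) χ ψ by rcases zb j with h | h <;> omega)
        rw [Finset.sum_const, Finset.card_erase_of_mem (Finset.mem_erase.2 ⟨hi, Finset.mem_univ i⟩),
          Finset.card_erase_of_mem (Finset.mem_univ _), Finset.card_univ, Fintype.card_fin,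
          nsmul_eq_mul] at this
        push_cast at this
        omega
      rcases hs with rfl | rfl <;> omega
  obtain ⟨hχ1, s, hs, -, i₀, hi₀, hother⟩ := side χ ψ hχψ hχ hχψ9 hχφ
  obtain ⟨hψ1, -⟩ := side ψ χ hχψ.symm hψ hψχ9 hψφ
  set l := R.ch i₀
  have hl1 : l ≠ 1 := R.ch_ne i₀
  have hrep : ∀ lam, lam ≠ 1 → (∀ γ : Γ, FreeStar42.tw l γ ≠ lam) → X lam χ ψ = s := by
    intro lam hlam hout
    obtain ⟨i, γ, rfl⟩ := R.ch_bij lam hlam
    rw [S.twist]
    exact hother i fun e => hout γ (by rw [e])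
  have h25 : ∀ {lam : V →* ℂˣ} {n : ℕ}, lam ^ n = 1 → n.gcd 25 = 1 → lam = 1 := by
    intro lam n hn hg
    have : lam ^ 25 = 1 := MonoidHom.ext fun x => by
      rw [MonoidHom.pow_apply, ← map_pow, ← hm, pow_card_eq_one', map_one, MonoidHom.one_apply]
    rw [← pow_one lam, ← hg]
    exact pow_gcd_eq_one.2 ⟨hn, this⟩
  have hlne : l⁻¹ ≠ 1 := inv_ne_one' hl1
  have hinvout : ∀ γ : Γ, FreeStar42.tw l γ ≠ l⁻¹ := by
    intro γ hγ
    have h2 : FreeStar42.tw l (γ * γ : Γ) = l := by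
      rw [Subgroup.coe_mul, ← tw_tw, hγ, tw_inv, hγ]
      exact grp_inv_inv l
    by_cases hg : γ = 1
    · subst hg
      rw [Subgroup.coe_one, tw_one'] at hγ
      exact hl1 (h25 (n := 2) ((grp_pow_two l).trans ((congrArg (· * l) hγ).trans (inv_mul_cancel l))) (by norm_num))
    · obtain ⟨-, h2', -⟩ := three_elts hΓ hg
      exact hl1 (S.free.dual (by rwa [← pow_two]) h2)
  have hμ : ∀ ε : Γ, ε ≠ 1 → X (l * FreeStar42.tw l⁻¹ ε) χ ψ = s := by
    intro ε hε
    rw [tw_inv]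
    obtain ⟨h3, h2, hall⟩ := three_elts hΓ hε
    have hprod := S.free.prod_three hΓ hε l
    refine hrep _ (fun e => hl1 (S.free.dual hε (mul_inv_eq_one.1 e).symm)) fun γ hγ => ?_
    rcases hall γ with hg | hg | hg <;> rw [hg] at hγ
    · rw [Subgroup.coe_one, tw_one'] at hγ
      refine hl1 ?_
      have := congrArg (fun x => FreeStar42.tw x (ε⁻¹ : Γ).1) (grp_eq_one_of_left hγ.symm)
      simpa [tw_tw, tw_one] using this
    · have e1 : FreeStar42.tw l ε * FreeStar42.tw l ε = l := grp_mul_of_eq (A := V →* ℂˣ) hγ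
      have e2 : FreeStar42.tw l (ε ^ 2 : Γ) * FreeStar42.tw l (ε ^ 2 : Γ) = FreeStar42.tw l ε := by
        conv_rhs => rw [← e1, tw_mul]
        rw [tw_tw, pow_two, Subgroup.coe_mul]
      have e3 : l * l = FreeStar42.tw l (ε ^ 2 : Γ) := by
        conv_rhs => rw [← e1, tw_mul]
        rw [tw_tw, ← Subgroup.coe_mul, ← pow_succ', h3, Subgroup.coe_one, tw_one']
      refine hl1 (h25 (n := 7) ?_ (by norm_num))
      have e4 : l ^ 8 = l := by
        calc l ^ 8 = (l * l * (l * l)) * (l * l * (l * l)) := grp_pow_eight l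
          _ = l := by rw [e3, e2, e1]
      exact grp_pow_seven e4
    · exact hl1 (h25 (n := 2) ((grp_pow_two l).trans (grp_mul_cancel_third hprod hγ)) (by norm_num))
  have hμ1 : ∀ ε : Γ, X (l * FreeStar42.tw l⁻¹ ε) χ χ = if ε = 1 then 3 else 1 := by
    intro ε
    split_ifs with hε
    · subst hε; simp [S.one, mul_inv_self', ← Nat.card_eq_fintype_card, hΓ]
    · refine hχ1 _ fun e => hl1 (S.free.dual hε ?_)
      rw [tw_inv] at e
      exact (mul_inv_eq_one.1 e).symm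
  have hcardΓ : Fintype.card Γ = 3 := by rw [← Nat.card_eq_fintype_card, hΓ]
  have hrow := S.row_sq l χ
  rw [Finset.sum_congr rfl fun ε _ => hμ1 ε, ← Finset.add_sum_erase _ _ (Finset.mem_univ χ),
    ← Finset.add_sum_erase _ _ (Finset.mem_erase.2 ⟨hχψ.symm, Finset.mem_univ ψ⟩), hχ1 l hl1, hi₀,
    ← Finset.add_sum_erase _ _ (Finset.mem_univ (1 : Γ)), if_pos rfl,
    Finset.sum_congr rfl fun ε hε => if_neg (Finset.ne_of_mem_erase hε), Finset.sum_const,
    Finset.card_erase_of_mem (Finset.mem_univ _), Finset.card_univ, hcardΓ] at hrow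
  have hs2 : s * s = 1 := by rcases hs with rfl | rfl <;> norm_num
  have hzero : ∀ φ ∈ (univ.erase χ).erase ψ, X l χ φ = 0 := fun φ hφ =>
    (pow_eq_zero_iff two_ne_zero).1 ((Finset.sum_eq_zero_iff_of_nonneg fun φ _ => sq_nonneg (X l χ φ)).1
      (by rw [mul_pow, pow_two s, hs2] at hrow; norm_num at hrow; linarith) φ hφ)
  have hmul := S.mul l l⁻¹ χ ψ
  rw [← Finset.add_sum_erase _ _ (Finset.mem_univ χ),
    ← Finset.add_sum_erase _ _ (Finset.mem_erase.2 ⟨hχψ.symm, Finset.mem_univ ψ⟩),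
    Finset.sum_eq_zero fun φ hφ => by rw [hzero φ hφ, zero_mul], hχ1 l hl1, hi₀, hψ1 _ hlne,
    hrep _ hlne hinvout, ← Finset.add_sum_erase _ _ (Finset.mem_univ (1 : Γ)),
    Finset.sum_congr rfl fun ε hε => hμ ε (Finset.ne_of_mem_erase hε), Finset.sum_const,
    Finset.card_erase_of_mem (Finset.mem_univ _), Finset.card_univ, hcardΓ] at hmul
  simp only [Subgroup.coe_one, tw_one', mul_inv_self', S.one, if_neg hχψ] at hmul
  rcases hs with rfl | rfl <;> norm_num at hmul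

/-- Sixteen elements of order two and a character of weight five. -/
theorem Star.not_sixteen (S : Star Γ X C) (R : Reps Γ 5) (hm : Nat.card V = 16)
    (hΓ : Nat.card Γ = 3) (hexp : ∀ x : V, x * x = 1) (hCs : ∀ χ ψ, C χ ψ = C ψ χ)
    (hsq : ∀ χ ψ, ∑ φ, C χ φ * C φ ψ = 16 * C χ ψ) {χ : ι} (hχ : C χ χ = 5) : False := by
  have hinv : ∀ lam : V →* ℂˣ, lam⁻¹ = lam := fun lam => inv_eq_of_mul_eq_one_right
    (MonoidHom.ext fun x => by rw [MonoidHom.mul_apply, ← map_mul, hexp, map_one, MonoidHom.one_apply])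
  have hpos : ∀ i, (1 : ℤ) ≤ X (R.ch i) χ χ := by
    intro i
    set l := R.ch i
    set Q : ι → ℤ := fun φ => 4 * X l χ φ + (if χ = φ then 4 else 0) - C χ φ
    have hL : ∑ φ, X l χ φ ^ 2 = 3 + 2 * X l χ χ := by
      have key : ∀ ε : Γ, ε ≠ 1 → X (l * FreeStar42.tw l⁻¹ ε) χ χ = X l χ χ := by
        intro ε hε'
        have hp := S.free.prod_three hΓ hε' l
        rw [hinv, mul_inv_eq_one' (a := l * FreeStar42.tw l ε) (b := FreeStar42.tw l (ε ^ 2 : Γ))
          (by rw [hinv]; exact hp), S.twist]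
      rw [S.row_sq, ← Finset.add_sum_erase _ _ (Finset.mem_univ (1 : Γ)),
        Finset.sum_congr rfl fun ε hε => key ε (Finset.ne_of_mem_erase hε),
        Finset.sum_const, Finset.card_erase_of_mem (Finset.mem_univ _), Finset.card_univ,
        ← Nat.card_eq_fintype_card, hΓ]
      simp [hinv, ← Nat.card_eq_fintype_card, hΓ, S.one, show l * l = 1 by nth_rw 1 [← hinv l]; exact inv_mul_cancel l]
    have hXC : ∑ φ, X l χ φ * C χ φ = 15 := by
      rw [show ∑ φ, X l χ φ * C χ φ = ∑ φ, X l χ φ * C φ χ from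
        Finset.sum_congr rfl fun φ _ => by rw [hCs χ φ], S.kernel, hΓ, hχ]
      norm_num
    have hCC : ∑ φ, C χ φ ^ 2 = 80 := by
      rw [show ∑ φ, C χ φ ^ 2 = ∑ φ, C χ φ * C φ χ from
        Finset.sum_congr rfl fun φ _ => by rw [hCs χ φ, pow_two], hsq, hχ]
      norm_num
    have key : ∑ φ, Q φ ^ 2 = 16 * Q χ := by
      have e1 : ∀ φ, Q φ ^ 2 = 16 * X l χ φ ^ 2 - 8 * (X l χ φ * C χ φ) + C χ φ ^ 2 +
          (if χ = φ then 32 * X l χ φ + 16 - 8 * C χ φ else 0) := fun φ => by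
        simp only [Q]; split_ifs <;> ring
      simp only [e1, Finset.sum_add_distrib, Finset.sum_sub_distrib, ← Finset.mul_sum, Finset.sum_ite_eq,
        Finset.mem_univ, if_true, hL, hXC, hCC, Q, hχ]
      ring
    have h0 : 0 ≤ ∑ φ, Q φ ^ 2 := Finset.sum_nonneg fun φ _ => sq_nonneg _
    rw [key] at h0
    simp only [Q, if_true, hχ] at h0
    omega
  have h1 := Finset.sum_le_sum (s := (univ : Finset (Fin 5))) fun i _ => hpos i
  rw [S.sum_rep R, if_pos rfl, hχ] at h1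
  simp at h1

end Cfsg.Agent.FreeStar42
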