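import Mathlib
import Cfsg.Agent.Lib.GlaubermanPComplement
import Cfsg.Agent.Lib.QuadraticMain

/-! Factorizations coming from the ZJ theorem. -/

set_option autoImplicit false

namespace Cfsg.Agent.GlaubermanFactor

open Subgroup GlaubermanZJ TransferAlperin

universe u

variable {G : Type u} [Group G] {p n : ℕ}

/-- Frattini: `N(Y) = C(Y) (N(Y) ∩ N(J))` for `Y = thomY n S`. -/
theorem exists_centralizer_mul [Finite G] [Fact p.Prime] (S : Sylow p G) {g : G}
    (hg : g ∈ normalizer (thomY n (S : Subgroup G) : Set G)) :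
    ∃ c ∈ centralizer (thomY n (S : Subgroup G) : Set G),
      c * g ∈ normalizer (thomJ n (S : Subgroup G) : Set G) := by
  set Y := thomY n (S : Subgroup G) with hY
  set N := normalizer (Y : Set G)
  set C := centralizer (Y : Set G) with hC
  have hSN : (S : Subgroup G) ≤ N := le_normalizer.trans (normalizer_le_thomY _)
  have hNC : N ≤ normalizer (C : Set G) := LocalBasics.le_normalizer_centralizer le_rfl
  set B := (S : Subgroup G) ⊓ C with hB
  have hmax : ∀ R : Subgroup G, R ≤ C → IsPGroup p R → Nat.card R ≤ Nat.card B := by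
    intro R hR hRp
    obtain ⟨d, hd, hle⟩ := exists_cj_le_of_max S.isPGroup' hRp hSN
      (hR.trans (LocalBasics.centralizer_le_normalizer Y)) (fun T _ hT => by
        obtain ⟨T', hT'⟩ := hT.exists_le_sylow
        refine (card_le_of_le hT').trans (le_of_eq ?_)
        rw [T'.card_eq_multiplicity, S.card_eq_multiplicity])
    rw [← card_cj d R]
    exact card_le_of_le (le_inf hle ((cj_mono d hR).trans (cj_eq_self (hNC hd)).le))
  have hgB : cj g B ≤ C := (cj_mono g inf_le_right).trans (cj_eq_self (hNC hg)).le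
  obtain ⟨c, hc, hle⟩ := exists_cj_le_of_max S.isPGroup'.to_inf_left
    (isPGroup_cj S.isPGroup'.to_inf_left) inf_le_right hgB hmax
  refine ⟨c, hc, ?_⟩
  have hcg : c * g ∈ normalizer (B : Set G) := by
    refine mem_normalizer_of_cj_eq (eq_of_le_of_card_ge ?_ (card_cj _ _).ge)
    rw [cj_mul]
    exact hle
  have hJB : ∀ A ∈ maxFam n (S : Subgroup G), A ≤ B := fun A hA =>
    le_inf hA.1.le fun a ha => mem_centralizer_iff.mpr fun y hy => (thomY_comm hA hy ha).symm
  have hfam : ∀ A ∈ maxFam n (S : Subgroup G), A ∈ maxFam n B := fun A hA =>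
    ⟨⟨hJB A hA, hA.1.comm, hA.1.pow⟩,
      fun A' hA' => hA.2 A' ⟨hA'.le.trans inf_le_left, hA'.comm, hA'.pow⟩⟩
  have hJ : thomJ n B = thomJ n (S : Subgroup G) := by
    obtain ⟨A0, hA0⟩ := exists_maxFam n (S : Subgroup G)
    refine le_antisymm (sSup_le fun A hA => le_thomJ ?_) (sSup_le fun A hA => le_thomJ (hfam A hA))
    exact ⟨⟨hA.1.le.trans inf_le_left, hA.1.comm, hA.1.pow⟩,
      fun A' hA' => (hA0.2 A' hA').trans (hA.2 A0 (hfam A0 hA0).1)⟩
  rw [← hJ]
  exact normalizer_le_thomJ B hcg

/-- An element of `Z(S)` killed by `n` lies in `thomY n S`. -/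
theorem mem_thomY_of_central [Finite G] {D : Subgroup G} {z : G} (hz : z ∈ D)
    (hzn : z ^ n = 1) (hc : ∀ d ∈ D, d * z = z * d) : z ∈ thomY n D := by
  obtain ⟨A, hA⟩ := exists_maxFam n D
  exact ⟨le_thomJ hA (mem_of_commute hA hz hzn fun a ha => hc a (hA.1.le ha)),
    mem_centralizer_iff.mpr fun a ha => hc a (thomJ_le D ha)⟩

/-- The Glauberman–Thompson normal `p`-complement theorem. -/
theorem hnpc_of_center_thompson [Finite G] [hp : Fact p.Prime] (hp2 : p ≠ 2) (S : Sylow p G)
    (hC : Cfsg.HasNormalPComplement p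
      (centralizer (((S : Subgroup G) ⊓ centralizer ((S : Subgroup G) : Set G) : Subgroup G) : Set G)))
    (hN : Cfsg.HasNormalPComplement p (normalizer (thomJ 0 (S : Subgroup G) : Set G))) :
    Cfsg.HasNormalPComplement p G := by
  set Y := thomY 0 (S : Subgroup G) with hY
  refine GlaubermanPComplement.hnpc_thomY_zero hp2 S _ ⟨le_rfl, fun _ _ _ h => h⟩ ?_
  set H := normalizer (Y : Set G) with hH
  set C := (centralizer (Y : Set G)).subgroupOf H with hCdef
  haveI hCn : C.Normal := LocalBasics.normal_subgroupOf_of_le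
    (LocalBasics.le_normalizer_centralizer le_rfl)
  have hCc : Cfsg.HasNormalPComplement p C := by
    refine TransferPResidual.hasNormalPComplement_of_injective
      (((Subgroup.subtype H).comp C.subtype).codRestrict _ (fun x => ?_)) ?_ hC
    · refine centralizer_le ?_ x.2
      intro z hz
      exact mem_thomY_of_central hz.1 (pow_zero z) fun d hd => mem_centralizer_iff.mp hz.2 d hd
    · intro a b h
      exact Subtype.ext (Subtype.ext (congrArg Subtype.val h :))
  set O := (Cfsg.pResidual p C).map C.subtype with hO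
  haveI hOn : O.Normal := by
    haveI : (Cfsg.pResidual p C).Characteristic :=
      characteristic_iff_map_eq.mpr fun φ => TransferPResidual.map_pResidual_equiv φ
    exact ConjAct.normal_of_characteristic_of_normal
  have hOp : ¬ p ∣ Nat.card O := by
    rw [hO, card_map_of_injective C.subtype_injective]
    exact TransferPResidual.hasNormalPComplement_iff_not_dvd.mp hCc
  refine GlaubermanPComplement.hnpc_of_quotient O hOp ?_
  set K := (normalizer (thomJ 0 (S : Subgroup G) : Set G)).subgroupOf H with hK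
  have hKc : Cfsg.HasNormalPComplement p K := by
    refine TransferPResidual.hasNormalPComplement_of_injective
      (((Subgroup.subtype H).comp K.subtype).codRestrict _ (fun x => x.2)) ?_ hN
    intro a b h
    exact Subtype.ext (Subtype.ext (congrArg Subtype.val h :))
  refine TransferPResidual.hasNormalPComplement_of_surjective
    ((QuotientGroup.mk' O).comp K.subtype) ?_ hKc
  intro q
  obtain ⟨g, rfl⟩ := QuotientGroup.mk'_surjective O q
  -- `C = O (S ∩ C)` and `S ∩ C ≤ N(J)`
  have hSH : (S : Subgroup G) ≤ H := le_normalizer.trans (normalizer_le_thomY _)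
  obtain ⟨c, hc, hcg⟩ := exists_centralizer_mul S g.2
  have hcH : c ∈ H := LocalBasics.centralizer_le_normalizer Y hc
  obtain ⟨Q, hQ⟩ := LocalBasics.exists_sylow_inf (S.subtype hSH) C
  have hsup := TransferPResidual.sylow_sup_pResidual Q
  have hmem : (⟨⟨c, hcH⟩⁻¹, inv_mem (show (⟨c, hcH⟩ : H) ∈ C from hc)⟩ : C) ∈
      (Q : Subgroup C) ⊔ Cfsg.pResidual p C := hsup ▸ mem_top _
  haveI : (Cfsg.pResidual p C).Normal := by
    haveI : (Cfsg.pResidual p C).Characteristic :=
      characteristic_iff_map_eq.mpr fun φ => TransferPResidual.map_pResidual_equiv φ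
    infer_instance
  rw [sup_comm] at hmem
  obtain ⟨s, hs, o, ho, hso⟩ := mem_sup_of_normal_left.mp hmem
  have ho' : ((s : C) : H) ∈ O := ⟨s, hs, rfl⟩
  have hoK : ((o : C) : H) ∈ K := by
    rw [hQ] at ho
    exact (le_normalizer.trans (normalizer_le_thomJ _)) (show ((o : C) : G) ∈ (S : Subgroup G) from ho)
  have hcgK : (⟨c, hcH⟩ * g : H) ∈ K := hcg
  refine ⟨⟨(o : C) * (⟨c, hcH⟩ * g), mul_mem hoK hcgK⟩, ?_⟩
  have he : ((s : C) : H) * (o : C) = (⟨c, hcH⟩ : H)⁻¹ := congrArg Subtype.val hso
  calc QuotientGroup.mk' O (((o : C) : H) * (⟨c, hcH⟩ * g))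
      = QuotientGroup.mk' O (((s : C) : H) * ((o : C) * (⟨c, hcH⟩ * g))) := by
        rw [map_mul _ ((s : C) : H), show QuotientGroup.mk' O ((s : C) : H) = 1 from
          (QuotientGroup.eq_one_iff _).mpr ho', one_mul]
    _ = QuotientGroup.mk' O g := by rw [← mul_assoc, he, inv_mul_cancel_left]

/-- Thompson factorization from the ZJ theorem. -/
theorem thompson_factor [Finite G] [hp : Fact p.Prime] (hp2 : p ≠ 2)
    (hst : ∀ (B : Subgroup G) [B.Normal], IsPGroup p B → Cfsg.IsPStableOn p B)
    (hc : centralizer (Cfsg.pCore p G : Set G) ≤ Cfsg.pCore p G) (P : Sylow p G) (g : G) :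
    ∃ a ∈ normalizer (thomJ p (P : Subgroup G) : Set G),
      ∃ c ∈ centralizer {x : G | x ∈ (P : Subgroup G) ∧
        (∀ y ∈ (P : Subgroup G), x * y = y * x) ∧ x ^ p = 1}, g = a * c := by
  haveI hn : (thomY p (P : Subgroup G)).Normal :=
    thomY_normal hp2 (Or.inr rfl) hst hc P _ ⟨le_rfl, fun _ _ _ h => h⟩
  obtain ⟨c, hc', hcg⟩ := exists_centralizer_mul (n := p) P (g := g)
    (by rw [normalizer_eq_top]; trivial)
  refine ⟨c * g, hcg, g⁻¹ * c⁻¹ * g, ?_, by group⟩
  have h1 : g⁻¹ * c⁻¹ * g ∈ centralizer (thomY p (P : Subgroup G) : Set G) := by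
    have := (normal_centralizer (H := thomY p (P : Subgroup G))).conj_mem _ (inv_mem hc') g⁻¹
    simpa using this
  refine centralizer_le ?_ h1
  rintro x ⟨hxP, hxc, hxp⟩
  exact mem_thomY_of_central hxP hxp fun y hy => (hxc y hy).symm

end Cfsg.Agent.GlaubermanFactor
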