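import Mathlib
import Cfsg.Agent.Lib.GlaubermanFactor
import Cfsg.Agent.Lib.QuadOffenderS4
import Cfsg.Agent.Lib.FusionQd
import Cfsg.Agent.S2010

/-!
# Thompson's normal `2`-complement theorem for groups not involving `S₄`
-/

set_option autoImplicit false

namespace Cfsg.Agent.ThompsonS4Free

open Subgroup GlaubermanZJ GlaubermanStable GlaubermanQuotient TransferAlperin
open Cfsg.Agent.TransferPResidual Cfsg.Agent.GlaubermanPComplement
open scoped commutatorElement Pointwise

universe u v

variable {G : Type u} [Group G]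

/-- The centre of a subgroup. -/
def zOf (T : Subgroup G) : Subgroup G := T ⊓ centralizer (T : Set G)

theorem zOf_map {H : Type v} [Group H] {f : G →* H} (T : Subgroup G) (hf : Set.InjOn f T) :
    zOf (T.map f) = (zOf T).map f := by
  ext y
  constructor
  · rintro ⟨⟨x, hx, rfl⟩, hc⟩
    refine ⟨x, ⟨hx, mem_centralizer_iff.mpr fun a ha => hf (mul_mem ha hx) (mul_mem hx ha) ?_⟩, rfl⟩
    rw [map_mul, map_mul]
    exact mem_centralizer_iff.mp hc _ (mem_map_of_mem f ha)
  · rintro ⟨x, ⟨hx, hc⟩, rfl⟩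
    refine ⟨mem_map_of_mem f hx, mem_centralizer_iff.mpr ?_⟩
    rintro _ ⟨a, ha, rfl⟩
    rw [← map_mul, mem_centralizer_iff.mp hc a ha, map_mul]

theorem thomJ_map_of_injOn {H : Type v} [Group H] {n : ℕ} {f : G →* H} (D : Subgroup G)
    (hf : Set.InjOn f D) : thomJ n (D.map f) = (thomJ n D).map f := by
  have h2 : Function.Injective (f.comp D.subtype) :=
    fun a b hab => Subtype.ext (hf a.2 b.2 hab)
  have hD : (⊤ : Subgroup D).map D.subtype = D := by
    rw [← MonoidHom.range_eq_map, range_subtype]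
  conv_lhs => rw [← hD, Subgroup.map_map, thomJ_map h2]
  conv_rhs => rw [← hD, thomJ_map D.subtype_injective, Subgroup.map_map]

theorem zOf_ne_bot [Finite G] {T : Subgroup G} (hT : IsPGroup 2 T) (hne : T ≠ ⊥) :
    zOf T ≠ ⊥ := by
  haveI : Fact (Nat.Prime 2) := ⟨Nat.prime_two⟩
  haveI : Nontrivial T := (nontrivial_iff_ne_bot T).mpr hne
  haveI := hT.center_nontrivial
  obtain ⟨z, hz⟩ := exists_ne (1 : center T)
  intro h
  refine hz (Subtype.ext (Subtype.ext ?_))
  have : ((z : T) : G) ∈ zOf T := ⟨(z : T).2, mem_centralizer_iff.mpr fun a ha =>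
    congrArg Subtype.val (mem_center_iff.mp z.2 ⟨a, ha⟩)⟩
  rwa [h, mem_bot] at this

theorem normalizer_le_zOf (T : Subgroup G) :
    normalizer (T : Set G) ≤ normalizer (zOf T : Set G) :=
  LocalBasics.le_normalizer_inf le_rfl (LocalBasics.le_normalizer_centralizer le_rfl)

/-- The local configuration: `S₄` from a quadratic offender outside `M`. -/
theorem involves_of_offender [Finite G] (M W B : Subgroup G) [M.Normal] [W.Normal]
    (hMp : IsPGroup 2 M) (hW : Cfsg.IsElementaryAbelian 2 W) (hWM : ∀ m ∈ M, ∀ w ∈ W, m * w = w * m)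
    (hCW : centralizer (W : Set G) ≤ M) (T : Sylow 2 G) (hBT : B ≤ (T : Subgroup G))
    (hcore : Cfsg.pCore 2 (G ⧸ M) = ⊥) (hbar : Cfsg.HasNormalPComplement 2 (G ⧸ M))
    (hBab : ∀ a ∈ B, ∀ b ∈ B, a * b = b * a) (hBM : ¬ B ≤ M)
    (hfix : ∀ b ∈ B, ∀ c ∈ B, ∀ w ∈ W, b * (c * w * c⁻¹ * w) * b⁻¹ = c * w * c⁻¹ * w)
    (hoff : Nat.card W * Nat.card (B ⊓ M : Subgroup G) ≤
      Nat.card B * Nat.card (W ⊓ centralizer (B : Set G) : Subgroup G)) :
    Cfsg.Involves (Equiv.Perm (Fin 4)) G := by
  classical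
  haveI : Fact (Nat.Prime 2) := ⟨Nat.prime_two⟩
  set π := QuotientGroup.mk' M with hπ
  have hπs : Function.Surjective π := QuotientGroup.mk'_surjective M
  have hπ1 : ∀ x, π x = 1 ↔ x ∈ M := fun x => QuotientGroup.eq_one_iff x
  set X := B.map π with hX
  set R := Cfsg.pResidual 2 (G ⧸ M) with hR
  have hRodd : Odd (Nat.card R) := by
    rw [← Nat.not_even_iff_odd, even_iff_two_dvd]
    exact hasNormalPComplement_iff_not_dvd.mp hbar
  have hRcop : (Nat.card R).Coprime 2 := Nat.coprime_two_right.mpr hRodd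
  have hW2 : ∀ w ∈ W, w * w = 1 := fun w hw => by rw [← pow_two]; exact hW.2 w hw
  have hWc : ∀ v ∈ W, ∀ w ∈ W, v * w = w * v := fun v hv w hw =>
    congrArg Subtype.val (hW.1.is_comm.comm ⟨v, hv⟩ ⟨w, hw⟩)
  letI : CommGroup W := { (inferInstance : Group W) with mul_comm := hW.1.is_comm.comm }
  let endHom : MulAut W →* AddMonoid.End (Additive W) :=
    { toFun := fun e => MonoidHom.toAdditive e.toMonoidHom
      map_one' := rfl
      map_mul' := fun _ _ => rfl }
  let ρ0 : G →* MulAut W := MulAut.conjNormal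
  have hMker : M ≤ ρ0.ker := by
    intro m hm
    rw [MonoidHom.mem_ker]
    refine MulEquiv.ext fun w => Subtype.ext ?_
    show m * w * m⁻¹ = w
    rw [hWM m hm w w.2, mul_inv_cancel_right]
  let ρ : G ⧸ M →* AddMonoid.End (Additive W) := endHom.comp (QuotientGroup.lift M ρ0 hMker)
  have hρ : ∀ (g : G) (v : Additive W),
      ((Additive.toMul (ρ (π g) v) : W) : G) = g * (Additive.toMul v : W) * g⁻¹ := fun g v => rfl
  have hρinj : ∀ q : G ⧸ M, ρ q = 1 → q = 1 := by
    intro q hq
    obtain ⟨g, rfl⟩ := hπs q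
    refine (hπ1 g).mpr (hCW (mem_centralizer_iff.mpr fun w hw => ?_))
    have h1 := congrArg (fun e : AddMonoid.End (Additive W) =>
      ((Additive.toMul (e (Additive.ofMul ⟨w, hw⟩)) : W) : G)) hq
    change g * w * g⁻¹ = w at h1
    exact (mul_inv_eq_iff_eq_mul.mp h1).symm
  have hb2 : ∀ b ∈ B, b * b ∈ M := by
    intro b hb
    refine hCW (mem_centralizer_iff.mpr fun w hw => ?_)
    have h1 := hfix b hb b hb w hw
    have hv : b * w * b⁻¹ ∈ W := Normal.conj_mem ‹W.Normal› w hw b
    have e1 : b * (b * w * b⁻¹ * w) * b⁻¹ = b * b * w * (b * b)⁻¹ * (b * w * b⁻¹) := by group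
    rw [e1, hWc (b * w * b⁻¹) hv w hw, mul_left_inj] at h1
    exact (mul_inv_eq_iff_eq_mul.mp h1).symm
  have hXe : ∀ x ∈ X, x * x = 1 := by
    rintro _ ⟨b, hb, rfl⟩
    rw [← map_mul, hπ1]
    exact hb2 b hb
  have hXc : ∀ x ∈ X, ∀ y ∈ X, x * y = y * x := by
    rintro _ ⟨a, ha, rfl⟩ _ ⟨b, hb, rfl⟩; rw [← map_mul, hBab a ha b hb, map_mul]
  have hXne : X ≠ ⊥ := by
    rw [hX, Ne, Subgroup.map_eq_bot_iff, QuotientGroup.ker_mk']
    exact hBM
  have hquad : ∀ a ∈ X, ∀ b ∈ X, ∀ v : Additive W, ρ a (ρ b v + v) = ρ b v + v := by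
    rintro _ ⟨a, ha, rfl⟩ _ ⟨b, hb, rfl⟩ v
    set w : W := Additive.toMul v
    refine congrArg Additive.ofMul (Subtype.ext ?_ : Additive.toMul (ρ (π a) (ρ (π b) v + v)) =
      Additive.toMul (ρ (π b) v + v))
    exact hfix a ha b hb w w.2
  -- the odd core is self-centralising
  set Tb := (T.mapSurjective hπs : Sylow 2 (G ⧸ M)) with hTb
  have hgen : (Tb : Subgroup (G ⧸ M)) ⊔ R = ⊤ := sylow_sup_pResidual Tb
  have hTC : (Tb : Subgroup (G ⧸ M)) ⊓ centralizer (R : Set (G ⧸ M)) = ⊥ := by
    set E := (Tb : Subgroup (G ⧸ M)) ⊓ centralizer (R : Set (G ⧸ M))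
    have hn : E.Normal := by
      rw [← normalizer_eq_top_iff, ← top_le_iff, ← hgen]
      refine sup_le (LocalBasics.le_normalizer_inf le_normalizer le_normalizer_of_normal) ?_
      refine le_trans ?_ (LocalBasics.centralizer_le_normalizer E)
      exact fun r hr => mem_centralizer_iff.mpr fun e he => (mem_centralizer_iff.mp he.2 r hr).symm
    refine le_bot_iff.mp ((HallCore.le_pCore ?_).trans hcore.le)
    exact Tb.isPGroup'.to_inf_left
  have hfaith : ∀ a ∈ X, a ≠ 1 → ∃ r ∈ R, ρ (a * r * a⁻¹ * r⁻¹) ≠ 1 := by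
    intro a ha hane
    by_contra h
    push Not at h
    refine hane ?_
    have hmem : a ∈ (Tb : Subgroup (G ⧸ M)) ⊓ centralizer (R : Set (G ⧸ M)) := by
      refine ⟨?_, mem_centralizer_iff.mpr fun r hr => ?_⟩
      · rw [hTb, Sylow.coe_mapSurjective]
        exact map_mono hBT ha
      · have := hρinj _ (h r hr)
        rw [mul_inv_eq_one, mul_inv_eq_iff_eq_mul] at this
        exact this.symm
    rwa [hTC, mem_bot] at hmem
  have hcardX : Nat.card B = Nat.card X * Nat.card (B ⊓ M : Subgroup G) := by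
    have h3 := index_ker (π.comp B.subtype)
    rw [MonoidHom.range_eq_map, ← Subgroup.map_map, ← MonoidHom.range_eq_map, range_subtype,
      ← MonoidHom.comap_ker, QuotientGroup.ker_mk'] at h3
    change (M.subgroupOf B).index = Nat.card X at h3
    rw [← h3, ← card_mul_index (M.subgroupOf B), mul_comm]
    congr 1
    rw [← card_map_of_injective B.subtype_injective, subgroupOf_map_subtype, inf_comm]
  have hoff' : Nat.card (Additive W) ≤ Nat.card X * Nat.card (QuadOffenderS4.fixedPts ρ X) := by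
    have h1 : Nat.card (W ⊓ centralizer (B : Set G) : Subgroup G) ≤
        Nat.card (QuadOffenderS4.fixedPts ρ X) := by
      refine Nat.card_le_card_of_injective (fun w => ⟨Additive.ofMul ⟨(w : G), w.2.1⟩, ?_⟩) ?_
      · rintro _ ⟨a, ha, rfl⟩
        refine congrArg Additive.ofMul (Subtype.ext ?_ : Additive.toMul (ρ (π a)
          (Additive.ofMul ⟨(w : G), w.2.1⟩)) = (⟨(w : G), w.2.1⟩ : W))
        show a * (w : G) * a⁻¹ = w
        rw [mem_centralizer_iff.mp w.2.2 a ha, mul_inv_cancel_right]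
      · intro v w h
        exact Subtype.ext
          (congrArg (fun u : QuadOffenderS4.fixedPts ρ X => ((Additive.toMul (u : Additive W) : W) : G)) h :)
    rw [show Nat.card (Additive W) = Nat.card W from Nat.card_congr Additive.toMul]
    refine Nat.le_of_mul_le_mul_right ?_ (Nat.card_pos (α := (B ⊓ M : Subgroup G)))
    refine hoff.trans ?_
    rw [hcardX]
    calc Nat.card X * Nat.card (B ⊓ M : Subgroup G) *
          Nat.card (W ⊓ centralizer (B : Set G) : Subgroup G)
        = Nat.card X * Nat.card (W ⊓ centralizer (B : Set G) : Subgroup G) *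
            Nat.card (B ⊓ M : Subgroup G) := by ring
      _ ≤ _ := Nat.mul_le_mul_right _ (Nat.mul_le_mul_left _ h1)
  obtain ⟨_, ⟨a, ha, rfl⟩, r, hr, U, hU4, hUa, hUt, hUfix, u₀, hu₀, hmove⟩ :=
    QuadOffenderS4.exists_natural ρ (fun v => congrArg Additive.ofMul (Subtype.ext (hW2 _ (Additive.toMul v).2) :
      (Additive.toMul v : W) * Additive.toMul v = 1)) X R hXe hXc hRodd
      (by rw [normalizer_eq_top]; exact le_top) hquad hfaith hXne hoff'
  -- lift to `G`
  set t0 := r * π a * r⁻¹ * (π a)⁻¹ with ht0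
  have ha2 : π a * π a = 1 := hXe _ (mem_map_of_mem π ha)
  have hainv : (π a)⁻¹ = π a := inv_eq_of_mul_eq_one_right ha2
  have hat0 : π a * t0 * (π a)⁻¹ = t0⁻¹ := by
    simp only [ht0, mul_inv_rev, inv_inv, hainv, mul_assoc, ha2, mul_one]
  have ht0R : t0 ∈ R := by
    have := R.mul_mem hr (Normal.conj_mem inferInstance _ (R.inv_mem hr) (π a))
    simpa [ht0, mul_assoc] using this
  have ht0o : Odd (orderOf t0) := hRodd.of_dvd_nat (Subgroup.orderOf_dvd_natCard R ht0R)
  obtain ⟨x, hx⟩ := hπs t0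
  obtain ⟨k, m, hm, hkm⟩ := Nat.exists_eq_pow_mul_and_not_dvd (orderOf_pos x).ne' 2 (by norm_num)
  set t := x ^ 2 ^ k with ht
  have htodd : Odd (orderOf t) := by
    rw [ht, orderOf_pow' _ (by positivity), hkm, Nat.gcd_eq_right (Dvd.intro m rfl),
      Nat.mul_div_cancel_left _ (by positivity)]
    exact Nat.not_even_iff_odd.mp fun h => hm (even_iff_two_dvd.mp h)
  have hπt : π t = t0 ^ 2 ^ k := by rw [ht, map_pow, hx]
  obtain ⟨j, hj⟩ : ∃ j : ℕ, (t0 ^ 2 ^ k) ^ j = t0 :=
    exists_pow_eq_self_of_coprime ((Nat.coprime_two_left.mpr ht0o).pow_left k)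
  have hMcop : (orderOf t).Coprime (Nat.card M) := by
    obtain ⟨e, he⟩ := IsPGroup.iff_card.mp hMp
    rw [he]
    exact (Nat.coprime_two_right.mpr htodd).pow_right e
  have htM : ∀ g ∈ zpowers t, g ∈ M → g = 1 := by
    intro g hg hgM
    have := Subgroup.inf_eq_bot_of_coprime (H := zpowers t) (K := M)
      (by rwa [Nat.card_zpowers])
    exact mem_bot.mp (this ▸ (⟨hg, hgM⟩ : g ∈ zpowers t ⊓ M))
  have hconjmod : a * t * a⁻¹ * t ∈ M := by
    rw [← hπ1, map_mul, map_mul, map_mul, map_inv, hπt, ← conj_pow, hat0, inv_pow, inv_mul_cancel]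
  obtain ⟨c, hcM, hcA⟩ : ∃ c ∈ M, MulAut.conj c • zpowers (a * t * a⁻¹) = zpowers t := by
    refine CoprimeSZ.exists_conj_of_card_eq (N := M) le_normalizer_of_normal ?_ ?_ ?_ ?_
    · rw [Nat.card_zpowers, show a * t * a⁻¹ = MulAut.conj a t from rfl,
        MulEquiv.orderOf_eq]
      exact hMcop
    · exact Or.inl (CoprimeAction.isSolvable_zpowers _)
    · rw [zpowers_le]
      have h1 : t = (a * t * a⁻¹)⁻¹ * (a * t * a⁻¹ * t) := by group
      have h2 : (a * t * a⁻¹)⁻¹ * (a * t * a⁻¹ * t) ∈ M ⊔ zpowers (a * t * a⁻¹) :=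
        mul_mem (mem_sup_right (inv_mem (mem_zpowers _))) (mem_sup_left hconjmod)
      rwa [← h1] at h2
    · rw [Nat.card_zpowers, Nat.card_zpowers, show a * t * a⁻¹ = MulAut.conj a t from rfl,
        MulEquiv.orderOf_eq]
  set a' := c * a with ha'
  have hπa' : π a' = π a := by rw [ha', map_mul, (hπ1 c).mpr hcM, one_mul]
  have hinvt : a' * t * a'⁻¹ = t⁻¹ := by
    have h1 : a' * t * a'⁻¹ ∈ zpowers t := by
      rw [← hcA]
      have := CoprimeSZ.conj_mul_mem_conj_smul (g := c) (mem_zpowers (a * t * a⁻¹))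
      simpa [ha', mul_assoc] using this
    have h2 : a' * t * a'⁻¹ * t ∈ M := by
      rw [← hπ1, map_mul, map_mul, map_mul, map_inv, hπa', ← map_inv, ← map_mul, ← map_mul,
        ← map_mul, hπ1]
      exact hconjmod
    exact eq_inv_of_mul_eq_one_left (htM _ (mul_mem h1 (mem_zpowers t)) h2)
  set z := a' * a' with hz
  have hzM : z ∈ M := by
    rw [← hπ1, hz, map_mul, hπa']
    exact ha2
  have hzt : t * z = z * t := by
    have h1 : z * t * z⁻¹ = t := by
      calc z * t * z⁻¹ = a' * (a' * t * a'⁻¹) * a'⁻¹ := by rw [hz]; group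
        _ = a' * t⁻¹ * a'⁻¹ := by rw [hinvt]
        _ = (a' * t * a'⁻¹)⁻¹ := by group
        _ = t := by rw [hinvt, inv_inv]
    exact (mul_inv_eq_iff_eq_mul.mp h1).symm
  set N := centralizer ({z} : Set G) with hN
  have htN : t ∈ N := mem_centralizer_singleton_iff.mpr hzt
  have haN : a' ∈ N := mem_centralizer_singleton_iff.mpr (by simp only [hz, mul_assoc])
  have hzN : z ∈ N := mem_centralizer_singleton_iff.mpr rfl
  set Z : Subgroup N := zpowers (⟨z, hzN⟩ : N) with hZ
  haveI : Z.Normal := by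
    constructor
    intro y hy g
    have hyc : g * y = y * g := by
      obtain ⟨i, rfl⟩ := mem_zpowers_iff.mp hy
      exact (Commute.zpow_right (show Commute g (⟨z, hzN⟩ : N) from
        Subtype.ext (mem_centralizer_singleton_iff.mp g.2)) i).eq
    rwa [hyc, mul_inv_cancel_right]
  have hUN : ∀ u : Additive W, ((Additive.toMul u : W) : G) ∈ N := fun u =>
    mem_centralizer_singleton_iff.mpr (hWM z hzM _ (Additive.toMul u).2).symm
  set f := QuotientGroup.mk' Z
  -- the four-group
  have hUπt : ∀ u ∈ U, ρ (π t) u ∈ U := by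
    rw [hπt]
    have hall : ∀ i : ℕ, ∀ u ∈ U, ρ (t0 ^ i) u ∈ U := by
      intro i
      induction i with
      | zero => intro u hu; rw [pow_zero, map_one]; exact hu
      | succ i ih =>
        intro u hu
        rw [pow_succ, map_mul]
        exact ih _ (hUt u hu)
    exact hall _
  have hUfixt : ∀ u ∈ U, ρ (π t) u = u → u = 0 := by
    intro u hu h
    refine hUfix u hu ?_
    have hall : ∀ i : ℕ, ρ ((π t) ^ i) u = u := by
      intro i
      induction i with
      | zero => rw [pow_zero, map_one]; rfl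
      | succ i ih =>
        rw [pow_succ, map_mul]
        show ρ (π t ^ i) (ρ (π t) u) = u
        rw [h, ih]
    have h2 := hall j
    rwa [hπt, hj] at h2
  -- elements of `U` in `⟨z⟩` are trivial
  have hcap : ∀ u ∈ U, (⟨_, hUN u⟩ : N) ∈ Z → u = 0 := by
    intro u hu hmem
    refine hUfixt u hu (congrArg Additive.ofMul (Subtype.ext ?_ :
      Additive.toMul (ρ (π t) u) = Additive.toMul u))
    rw [hρ]
    obtain ⟨i, hi⟩ := mem_zpowers_iff.mp hmem
    have e : z ^ i = ((Additive.toMul u : W) : G) := congrArg Subtype.val hi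
    rw [← e, (show Commute t z from hzt).zpow_right i |>.eq, mul_inv_cancel_right]
  let g : U → N ⧸ Z := fun u => f ⟨_, hUN (u : Additive W)⟩
  have hgadd : ∀ u v : U, g (u + v) = g u * g v := fun u v => by
    show f _ = f _ * f _
    rw [← map_mul]
    rfl
  have hginj : Function.Injective g := by
    intro u v h
    have h1 : g (u - v) * g v = 1 * g v := by rw [← hgadd, sub_add_cancel, one_mul, h]
    have h2 : ((u - v : U) : Additive W) = 0 :=
      hcap _ (u - v).2 ((QuotientGroup.eq_one_iff _).mp (mul_right_cancel h1))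
    exact sub_eq_zero.mp (Subtype.ext h2)
  have hg0 : g 0 = 1 := by
    refine mul_left_cancel (a := g 0) ?_
    rw [← hgadd, add_zero, mul_one]
  let U' : Subgroup (N ⧸ Z) :=
    { carrier := Set.range g
      one_mem' := ⟨0, hg0⟩
      mul_mem' := by rintro _ _ ⟨u, rfl⟩ ⟨v, rfl⟩; exact ⟨u + v, hgadd u v⟩
      inv_mem' := by
        rintro _ ⟨u, rfl⟩
        refine ⟨-u, eq_inv_of_mul_eq_one_left ?_⟩
        rw [← hgadd, neg_add_cancel, hg0] }
  have hU'card : Nat.card U' = 4 := by
    rw [← hU4]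
    exact Nat.card_range_of_injective hginj
  have hconjU : ∀ (y : G) (hy : y ∈ N) (hyU : ∀ u ∈ U, ρ (π y) u ∈ U) (u : U),
      f ⟨y, hy⟩ * g u * (f ⟨y, hy⟩)⁻¹ = g ⟨_, hyU u u.2⟩ := by
    intro y hy hyU u
    show f _ * f _ * (f _)⁻¹ = f _
    rw [← map_inv, ← map_mul, ← map_mul]
    exact congrArg f (Subtype.ext (hρ y u).symm)
  have hnorm : ∀ (y : G) (hy : y ∈ N), (∀ u ∈ U, ρ (π y) u ∈ U) →
      f ⟨y, hy⟩ ∈ normalizer (U' : Set (N ⧸ Z)) := by
    intro y hy hyU
    refine mem_normalizer_fintype ?_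
    rintro _ ⟨u, rfl⟩
    exact ⟨_, (hconjU y hy hyU u).symm⟩
  have hzero : ∀ u : U, g u = 1 → (u : Additive W) = 0 := fun u hu => by
    have := hginj (hu.trans hg0.symm)
    rw [this]; rfl
  have hUa' : ∀ u ∈ U, ρ (π a') u ∈ U := by rw [hπa']; exact hUa
  have hS : Cfsg.Involves (Equiv.Perm (Fin 4)) (N ⧸ Z) := by
    refine QuadOffenderS4.involves_s4 U' hU'card ?_ (f ⟨t, htN⟩) (f ⟨a', haN⟩) ?_ ?_ ?_
      (hnorm t htN hUπt) (hnorm a' haN hUa') ?_ ?_
    · rintro _ ⟨u, rfl⟩
      rw [← hgadd]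
      have : u + u = 0 := Subtype.ext (congrArg Additive.ofMul
        (Subtype.ext (hW2 _ (Additive.toMul (u : Additive W)).2) :
          (Additive.toMul (u : Additive W) : W) * Additive.toMul (u : Additive W) = 1))
      rw [this, hg0]
    · rw [← map_mul]
      exact (QuotientGroup.eq_one_iff _).mpr (mem_zpowers _)
    · have h1 : f ⟨a', haN⟩ * f ⟨t, htN⟩ * (f ⟨a', haN⟩)⁻¹ = (f ⟨t, htN⟩)⁻¹ := by
        rw [← map_inv, ← map_inv, ← map_mul, ← map_mul]
        exact congrArg f (Subtype.ext hinvt)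
      have h2 : (f ⟨a', haN⟩)⁻¹ = f ⟨a', haN⟩ := by
        refine inv_eq_of_mul_eq_one_right ?_
        rw [← map_mul]
        exact (QuotientGroup.eq_one_iff _).mpr (mem_zpowers _)
      rwa [h2] at h1
    · exact htodd.of_dvd_nat ((orderOf_map_dvd f _).trans (by rw [orderOf_mk]))
    · rintro _ ⟨u, rfl⟩ h
      rw [hconjU t htN hUπt u] at h
      have h2 : u = 0 := Subtype.ext (hUfixt u u.2 (congrArg Subtype.val (hginj h)))
      rw [h2, hg0]
    · refine ⟨g ⟨u₀, hu₀⟩, ⟨_, rfl⟩, fun h => hmove ?_⟩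
      rw [hconjU a' haN hUa' ⟨u₀, hu₀⟩] at h
      have h2 := congrArg Subtype.val (hginj h)
      change ρ (π a') u₀ = u₀ at h2
      rwa [hπa'] at h2
  exact FusionQd.involves_of_injective N.subtype_injective
    (FusionQd.involves_of_surjective (QuotientGroup.mk'_surjective Z) hS)

/-- Thompson's criterion. -/
theorem hnpc : ∀ (n : ℕ) (X : Type u) [Group X] [Finite X], Nat.card X = n →
    ¬ Cfsg.Involves (Equiv.Perm (Fin 4)) X → ∀ T : Sylow 2 X,
    Cfsg.HasNormalPComplement 2 (centralizer (zOf (T : Subgroup X) : Set X)) →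
    Cfsg.HasNormalPComplement 2 (normalizer (thomJ 0 (T : Subgroup X) : Set X)) →
    Cfsg.HasNormalPComplement 2 X := by
  intro n
  induction n using Nat.strong_induction_on with
  | _ n ih =>
  intro X _ _ hn hfree T hC hJ
  haveI : Fact (Nat.Prime 2) := ⟨Nat.prime_two⟩
  by_contra hX
  -- proper subgroups inherit
  have hloc : ∀ (H R : Subgroup X), H ≠ ⊤ → R ≤ H → IsPGroup 2 R → ¬ 2 ∣ R.relIndex H →
      Cfsg.HasNormalPComplement 2 (centralizer (zOf R : Set X)) →
      Cfsg.HasNormalPComplement 2 (normalizer (thomJ 0 R : Set X)) →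
      Cfsg.HasNormalPComplement 2 H := by
    intro H R hH hRH hR hind hCR hJR
    set S := (hR.comap_subtype (K := H)).toSylow hind
    have hS : (S : Subgroup H).map H.subtype = R := map_subgroupOf_eq_of_le hRH
    refine ih _ (hn ▸ HallSolvable.card_subgroup_lt hH) H rfl
      (fun h => hfree (FusionQd.involves_of_injective H.subtype_injective h)) S ?_ ?_
    · refine hasNormalPComplement_of_injective
        ((H.subtype.comp (Subgroup.subtype _)).codRestrict _ (fun y => ?_)) ?_ hCR
      · refine mem_centralizer_iff.mpr fun z hz => ?_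
        rw [← hS, zOf_map _ H.subtype_injective.injOn] at hz
        obtain ⟨w, hw, rfl⟩ := hz
        exact congrArg Subtype.val (mem_centralizer_iff.mp y.2 w hw)
      · intro a b h
        exact Subtype.ext (Subtype.ext (congrArg Subtype.val h :))
    · refine hasNormalPComplement_of_injective
        ((H.subtype.comp (Subgroup.subtype _)).codRestrict _ (fun y => ?_)) ?_ hJR
      · rw [← hS, thomJ_map H.subtype_injective]
        exact le_normalizer_map H.subtype (mem_map_of_mem H.subtype y.2)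
      · intro a b h
        exact Subtype.ext (Subtype.ext (congrArg Subtype.val h :))
  have hsub : ∀ H : Subgroup X, H ≠ ⊤ → (T : Subgroup X) ≤ H → Cfsg.HasNormalPComplement 2 H :=
    fun H hH hTH => hloc H T hH hTH T.isPGroup'
      (fun hd => T.not_dvd_index (hd.trans (relIndex_dvd_index_of_le hTH))) hC hJ
  -- `O(X) = 1`
  haveI hOn := HallCore.pPrimeCore_normal 2 X
  have hO : Cfsg.pPrimeCore 2 X = ⊥ := by
    by_contra hne
    set π := QuotientGroup.mk' (Cfsg.pPrimeCore 2 X) with hπdef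
    have hπ : Function.Surjective π := QuotientGroup.mk'_surjective _
    have hker : (Nat.card π.ker).Coprime 2 := by
      rw [hπdef, QuotientGroup.ker_mk']
      exact HallCore.coprime_card_pPrimeCore 2 X
    have hinj : Set.InjOn π ((T : Subgroup X) : Set X) := injOn_of_coprime T.isPGroup' hker
    refine hX (hnpc_of_quotient _ (HallCore.not_dvd_card_pPrimeCore 2 X) ?_)
    refine ih _ (hn ▸ HallSolvable.card_quotient_lt hne) _ rfl
      (fun h => hfree (FusionQd.involves_of_surjective hπ h)) (T.mapSurjective hπ) ?_ ?_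
    · rw [Sylow.coe_mapSurjective, zOf_map _ hinj]
      refine hasNormalPComplement_of_surjective
        ((π.comp (Subgroup.subtype (centralizer (zOf (T : Subgroup X) : Set X)))).codRestrict _
          (fun y => ?_)) ?_ hC
      · refine mem_centralizer_iff.mpr ?_
        rintro _ ⟨w, hw, rfl⟩
        show π w * π y = π y * π w
        rw [← map_mul, mem_centralizer_iff.mp y.2 w hw, map_mul]
      · rintro ⟨q, hq⟩
        obtain ⟨y, rfl⟩ := hπ q
        obtain ⟨r, hr, hry⟩ := exists_mem_normalizer_lift hker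
          (T.isPGroup'.to_le (inf_le_left : zOf (T : Subgroup X) ≤ _)) (y := y)
          (LocalBasics.centralizer_le_normalizer _ hq)
        have hπry : π (r * y) = π y := by rw [map_mul, MonoidHom.mem_ker.mp hr, one_mul]
        refine ⟨⟨r * y, mem_centralizer_iff.mpr fun w hw => ?_⟩, Subtype.ext hπry⟩
        have h1 : r * y * w * (r * y)⁻¹ ∈ zOf (T : Subgroup X) := (mem_normalizer_iff.mp hry w).mp hw
        have h2 : π (r * y * w * (r * y)⁻¹) = π w := by
          rw [map_mul _ _ ((r * y)⁻¹), map_mul _ _ w, map_inv, hπry,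
            ← mem_centralizer_iff.mp hq _ (mem_map_of_mem π hw), mul_inv_cancel_right]
        have h3 := hinj h1.1 hw.1 h2
        exact (mul_inv_eq_iff_eq_mul.mp h3).symm
    · rw [Sylow.coe_mapSurjective, thomJ_map_of_injOn _ hinj]
      refine hasNormalPComplement_of_surjective
        ((π.comp (Subgroup.subtype (normalizer (thomJ 0 (T : Subgroup X) : Set X)))).codRestrict _
          (fun y => le_normalizer_map π (mem_map_of_mem π y.2))) ?_ hJ
      rintro ⟨q, hq⟩
      obtain ⟨y, rfl⟩ := hπ q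
      obtain ⟨r, hr, hry⟩ := exists_mem_normalizer_lift hker (T.isPGroup'.to_le (thomJ_le _)) hq
      refine ⟨⟨r * y, hry⟩, Subtype.ext ?_⟩
      change π (r * y) = π y
      rw [map_mul, MonoidHom.mem_ker.mp hr, one_mul]
  -- a normal `2`-subgroup
  have hM0 : Cfsg.pCore 2 X ≠ ⊥ := by
    intro hbot
    have hnot : ∀ U : Subgroup X, IsPGroup 2 U → U ≠ ⊥ → normalizer (U : Set X) ≠ ⊤ := by
      intro U hU hU0 h
      haveI := normalizer_eq_top_iff.mp h
      exact hU0 (le_bot_iff.mp ((HallCore.le_pCore hU).trans hbot.le))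
    set 𝒮 := {U : Subgroup X | U ≤ (T : Subgroup X) ∧ U ≠ ⊥ ∧
      IsFullyNormalized 2 (T : Subgroup X) U ∧
      ¬ Cfsg.HasNormalPComplement 2 (normalizer (U : Set X))} with h𝒮
    have hne : 𝒮.Nonempty := by
      obtain ⟨U, hU, hU0, hNU⟩ : ∃ U : Subgroup X, IsPGroup 2 U ∧ U ≠ ⊥ ∧
          ¬ Cfsg.HasNormalPComplement 2 (normalizer (U : Set X)) := by
        by_contra h
        push Not at h
        exact hX (hasNormalPComplement_iff_normalizer.mpr h)
      obtain ⟨c, hc, hfn⟩ := exists_isFullyNormalized T hU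
      refine ⟨cj c U, hc, fun h => hU0 (cj_inj (g := c) (h.trans (Subgroup.map_bot _).symm)),
        hfn, fun h => hNU ?_⟩
      refine hasNormalPComplement_of_injective
        (((MulAut.conj c).toMonoidHom.comp (Subgroup.subtype _)).codRestrict _ (fun y => ?_)) ?_ h
      · rw [← cj_normalizer]
        exact conj_mem_cj y.2
      · intro x y hxy
        exact Subtype.ext ((MulAut.conj c).injective (congrArg Subtype.val hxy :))
    obtain ⟨U, ⟨hU, hU0, hfn, hNU⟩, hmax⟩ := Set.exists_max_image 𝒮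
      (fun U => Nat.card ((T : Subgroup X) ⊓ normalizer (U : Set X) : Subgroup X))
      (Set.toFinite _) hne
    set R := (T : Subgroup X) ⊓ normalizer (U : Set X) with hRdef
    have hR : R < (T : Subgroup X) := by
      refine lt_of_le_of_ne inf_le_left fun e => hNU (hsub _ (hnot U (T.isPGroup'.to_le hU) hU0) ?_)
      exact e.ge.trans inf_le_right
    have hlt : Nat.card R < Nat.card ((T : Subgroup X) ⊓ normalizer (R : Set X) : Subgroup X) :=
      card_lt_card_inf_normalizer T.isPGroup' hR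
    have hR0 : R ≠ ⊥ := fun h => hU0 (le_bot_iff.mp ((le_inf hU le_normalizer).trans h.le))
    have hbig : ∀ V : Subgroup X, V ≤ R → V ≠ ⊥ →
        normalizer (R : Set X) ≤ normalizer (V : Set X) →
        Cfsg.HasNormalPComplement 2 (normalizer (V : Set X)) := by
      intro V hVR hV0 hn'
      by_contra hNV
      obtain ⟨c, hc, hfn'⟩ := exists_isFullyNormalized T (T.isPGroup'.to_le (hVR.trans inf_le_left))
      have hmem : cj c V ∈ 𝒮 := by
        refine ⟨hc, fun h => hV0 (cj_inj (g := c) (h.trans (Subgroup.map_bot _).symm)), hfn',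
          fun h => hNV ?_⟩
        refine hasNormalPComplement_of_injective
          (((MulAut.conj c).toMonoidHom.comp (Subgroup.subtype _)).codRestrict _ (fun y => ?_)) ?_ h
        · rw [← cj_normalizer]
          exact conj_mem_cj y.2
        · intro x y hxy
          exact Subtype.ext ((MulAut.conj c).injective (congrArg Subtype.val hxy :))
      have h1 := card_le_of_isFullyNormalized hfn'
        (S := cj c ((T : Subgroup X) ⊓ normalizer (R : Set X)))
        (by rw [← cj_normalizer]; exact cj_mono c (inf_le_right.trans hn'))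
        (isPGroup_cj T.isPGroup'.to_inf_left)
      rw [card_cj] at h1
      exact absurd (hmax _ hmem) (not_le.mpr (hlt.trans_le h1))
    refine hNU (hloc _ R (hnot U (T.isPGroup'.to_le hU) hU0) inf_le_right
      T.isPGroup'.to_inf_left (not_dvd_relIndex_of_isFullyNormalized T hfn) ?_ ?_)
    · exact hasNormalPComplement_mono (LocalBasics.centralizer_le_normalizer _)
        (hbig _ inf_le_left (zOf_ne_bot T.isPGroup'.to_inf_left hR0) (normalizer_le_zOf R))
    · refine hbig _ (thomJ_le R) (fun h => ?_) (normalizer_le_thomJ R)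
      refine thomY_ne_bot (p := 2) (Or.inl rfl) (T.isPGroup'.to_inf_left) hR0 ?_
      exact le_bot_iff.mp (inf_le_left.trans h.le)
  haveI hMn := HallCore.pCore_normal 2 X
  set M := Cfsg.pCore 2 X with hMdef
  have hMp : IsPGroup 2 M := HallCore.isPGroup_pCore 2 X
  have hMT : M ≤ (T : Subgroup X) := HallCore.pCore_le_sylow T
  have hJM : ¬ ∀ A ∈ maxFam 0 (T : Subgroup X), A ≤ M := by
    intro h
    have he : thomJ 0 M = thomJ 0 (T : Subgroup X) := by
      obtain ⟨A0, hA0⟩ := exists_maxFam 0 (T : Subgroup X)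
      refine le_antisymm (sSup_le fun A hA => le_thomJ ?_) (sSup_le fun A hA => le_thomJ ?_)
      · exact ⟨⟨hA.1.le.trans hMT, hA.1.comm, hA.1.pow⟩,
          fun A' hA' => (hA0.2 A' hA').trans (hA.2 A0 ⟨h A0 hA0, hA0.1.comm, hA0.1.pow⟩)⟩
      · exact ⟨⟨h A hA, hA.1.comm, hA.1.pow⟩,
          fun A' hA' => hA.2 A' ⟨hA'.le.trans hMT, hA'.comm, hA'.pow⟩⟩
    refine hX (hnpc_of_normalizer_top ?_ hJ)
    rw [← he, eq_top_iff]
    exact (normalizer_eq_top_iff.mpr hMn).ge.trans (normalizer_le_thomJ M)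
  -- the quotient by `M`
  let π := QuotientGroup.mk' M
  have hπ : Function.Surjective π := QuotientGroup.mk'_surjective M
  have hcore : Cfsg.pCore 2 (X ⧸ M) = ⊥ := HallCore.pCore_quotient_self 2 X
  set Tb : Sylow 2 (X ⧸ M) := T.mapSurjective hπ with hTb
  have hTb0 : (Tb : Subgroup (X ⧸ M)) ≠ ⊥ := by
    intro h
    rw [hTb, Sylow.coe_mapSurjective, Subgroup.map_eq_bot_iff, QuotientGroup.ker_mk'] at h
    exact hJM fun A hA => hA.1.le.trans h
  have hbar : Cfsg.HasNormalPComplement 2 (X ⧸ M) := by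
    have hpre : ∀ H : Subgroup (X ⧸ M), H ≠ ⊤ → (Tb : Subgroup (X ⧸ M)) ≤ H →
        Cfsg.HasNormalPComplement 2 H := by
      intro H hH hle
      have hTH : (T : Subgroup X) ≤ H.comap π := by
        rw [← map_le_iff_le_comap]
        rwa [hTb, Sylow.coe_mapSurjective] at hle
      have hne : H.comap π ≠ ⊤ := fun h => hH (by
        rw [← map_comap_eq_self_of_surjective hπ H, h, map_top_of_surjective π hπ])
      refine hasNormalPComplement_of_surjective
        ((π.comp (Subgroup.subtype (H.comap π))).codRestrict H (fun y => y.2)) ?_ (hsub _ hne hTH)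
      rintro ⟨q, hq⟩
      obtain ⟨y, rfl⟩ := hπ q
      exact ⟨⟨y, hq⟩, rfl⟩
    refine ih _ (hn ▸ HallSolvable.card_quotient_lt hM0) _ rfl
      (fun h => hfree (FusionQd.involves_of_surjective hπ h)) Tb ?_ ?_
    · refine hpre _ (fun h => ?_) ?_
      · refine zOf_ne_bot Tb.isPGroup' hTb0 (le_bot_iff.mp ((HallCore.le_pCore (hN := ⟨?_⟩)
          (Tb.isPGroup'.to_inf_left)).trans hcore.le))
        intro z hz g
        have hg : g ∈ centralizer (zOf (Tb : Subgroup (X ⧸ M)) : Set (X ⧸ M)) := h ▸ mem_top g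
        rwa [← mem_centralizer_iff.mp hg z hz, mul_inv_cancel_right]
      · exact fun x hx => mem_centralizer_iff.mpr fun z hz =>
          (mem_centralizer_iff.mp hz.2 x hx).symm
    · refine hpre _ (fun h => ?_) (le_normalizer.trans (normalizer_le_thomJ _))
      haveI := normalizer_eq_top_iff.mp h
      refine thomY_ne_bot (p := 2) (Or.inl rfl) Tb.isPGroup' hTb0 (le_bot_iff.mp ?_)
      exact inf_le_left.trans
        ((HallCore.le_pCore (Tb.isPGroup'.to_le (thomJ_le _))).trans hcore.le)
  -- `C(M) ≤ M`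
  set K := Cfsg.pResidual 2 (X ⧸ M) with hK
  have hKp : ¬ 2 ∣ Nat.card K := hasNormalPComplement_iff_not_dvd.mp hbar
  have hCM : centralizer (M : Set X) ≤ M := by
    refine HallSolvable.centralizer_pCore_le ?_ hO
    refine ⟨3, ![⊥, M, K.comap π, ⊤], rfl, rfl, ?_, ?_, ?_⟩
    · refine Fin.monotone_iff_le_succ.mpr fun i => ?_
      fin_cases i
      · exact bot_le
      · exact QuotientGroup.le_comap_mk' M K
      · exact le_top
    · intro i
      fin_cases i
      · exact (inferInstance : (⊥ : Subgroup X).Normal)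
      · exact hMn
      · exact Normal.comap inferInstance π
      · exact (inferInstance : (⊤ : Subgroup X).Normal)
    · intro i
      fin_cases i
      · left
        obtain ⟨m, hm⟩ := IsPGroup.iff_card.mp hMp
        exact ⟨m, (relIndex_bot_left M).trans hm⟩
      · right
        change (M.relIndex (K.comap π)).Coprime 2
        have h1 : M.relIndex (K.comap π) = Nat.card K := by
          have h2 := relIndex_ker (K.comap π) π
          rwa [QuotientGroup.ker_mk', map_comap_eq_self_of_surjective hπ] at h2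
        rw [h1]
        exact ((Nat.Prime.coprime_iff_not_dvd Nat.prime_two).mpr hKp).symm
      · left
        obtain ⟨m, hm⟩ := index_pResidual (G := X ⧸ M) (p := 2)
        exact ⟨m, (relIndex_top_right _).trans ((index_comap_of_surjective _ hπ).trans hm)⟩
  -- the module
  set Z0 := zOf (T : Subgroup X) with hZ0
  haveI hZMn : (M ⊓ centralizer (M : Set X)).Normal := inferInstance
  set V := normalClosure (Z0 : Set X) with hV
  have hVZ : V ≤ M ⊓ centralizer (M : Set X) := normalClosure_le_normal fun z hz => by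
    have h1 : z ∈ centralizer (M : Set X) :=
      mem_centralizer_iff.mpr fun m hm => mem_centralizer_iff.mp hz.2 m (hMT hm)
    exact ⟨hCM h1, h1⟩
  have hVab : ∀ v ∈ V, ∀ w ∈ V, v * w = w * v := fun v hv w hw =>
    mem_centralizer_iff.mp (hVZ hw).2 v (hVZ hv).1
  set W := Cfsg.omegaOne 2 V with hWdef
  have hWV : W ≤ V := Offenders.omegaOne_le V
  haveI hWn : W.Normal := normalizer_eq_top_iff.mp (top_le_iff.mp
    ((normalizer_eq_top_iff.mpr (normalClosure_normal (s := (Z0 : Set X)))).ge.trans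
      (normalizer_le_omegaOne 2 V)))
  have hWe : Cfsg.IsElementaryAbelian 2 W := Offenders.omegaOne_ea hVab
  have hWM : ∀ m ∈ M, ∀ w ∈ W, m * w = w * m := fun m hm w hw =>
    mem_centralizer_iff.mp (hVZ (hWV hw)).2 m hm
  have hWT : W ≤ (T : Subgroup X) := hWV.trans ((hVZ.trans inf_le_left).trans hMT)
  have hCW : centralizer (W : Set X) ≤ M := by
    set C := centralizer (V : Set X) with hCdef
    haveI hVn : V.Normal := normalClosure_normal
    haveI hCn : C.Normal := inferInstance
    have hCp : IsPGroup 2 C := by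
      have hCc : Cfsg.HasNormalPComplement 2 C :=
        hasNormalPComplement_mono (centralizer_le (show (Z0 : Set X) ⊆ V from
          subset_normalClosure)) hC
      haveI : (Cfsg.pResidual 2 C).Characteristic :=
        characteristic_iff_map_eq.mpr fun φ => map_pResidual_equiv φ
      haveI : ((Cfsg.pResidual 2 C).map C.subtype).Normal :=
        ConjAct.normal_of_characteristic_of_normal
      refine pResidual_eq_bot_iff.mp ((map_eq_bot_iff_of_injective _ C.subtype_injective).mp
        (le_bot_iff.mp ((HallCore.le_pPrimeCore ?_).trans hO.le)))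
      rw [card_map_of_injective C.subtype_injective]
      exact (Nat.prime_two.coprime_iff_not_dvd.mpr (hasNormalPComplement_iff_not_dvd.mp hCc)).symm
    refine HallCore.le_pCore (fun g => ?_)
    obtain ⟨k, m, hm, hkm⟩ := Nat.exists_eq_pow_mul_and_not_dvd
      (orderOf_pos (g : X)).ne' 2 (by norm_num)
    refine ⟨k, Subtype.ext ?_⟩
    show (g : X) ^ 2 ^ k = 1
    have ho : orderOf ((g : X) ^ 2 ^ k) = m := by
      rw [orderOf_pow' _ (by positivity), hkm, Nat.gcd_eq_right (Dvd.intro m rfl),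
        Nat.mul_div_cancel_left _ (by positivity)]
    have hcop : (orderOf ((g : X) ^ 2 ^ k)).Coprime 2 := by
      rw [ho]; exact (Nat.prime_two.coprime_iff_not_dvd.mpr hm).symm
    have h1 : ∀ x ∈ V, Commute ((g : X) ^ 2 ^ k) x :=
      S2010.commute_of_fixed_involutions (hMp.to_le (hVZ.trans inf_le_left)) hVab
        (fun x hx => Normal.conj_mem hVn x hx _) hcop
        fun x hx hx2 => (Commute.pow_left
          (mem_centralizer_iff.mp g.2 x (Offenders.mem_omegaOne hx hx2)).symm _)
    have h2 : (g : X) ^ 2 ^ k ∈ C := mem_centralizer_iff.mpr fun x hx => (h1 x hx).eq.symm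
    obtain ⟨i, hi⟩ := hCp ⟨_, h2⟩
    refine orderOf_eq_one_iff.mp (Nat.eq_one_of_dvd_coprimes (hcop.pow_right i) dvd_rfl
      (orderOf_dvd_of_pow_eq_one (congrArg Subtype.val hi)))
  -- a quadratic offender
  obtain ⟨A, hA, hAM⟩ : ∃ A ∈ maxFam 0 (T : Subgroup X), ¬ A ≤ M := by
    by_contra h
    push Not at h
    exact hJM h
  have hAW : A ≤ normalizer (W : Set X) := le_normalizer_of_normal
  have hWab : ∀ v ∈ W, ∀ w ∈ W, v * w = w * v := fun v hv w hw => hVab v (hWV hv) w (hWV hw)
  have hAab : ⁅A, A⁆ ≤ centralizer (W : Set X) := by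
    rw [commutator_le]
    intro a ha b hb
    rw [commutatorElement_eq_one_iff_mul_comm.mpr (hA.1.comm a ha b hb)]
    exact one_mem _
  have hfixA : OffendersReplace.fixedIn W A ≤ A := fun w hw =>
    mem_of_commute hA (hWT hw.1) (pow_zero w) fun a ha => mem_centralizer_iff.mp hw.2 a ha
  have hmax : OffendersReplace.Maximizes W A := by
    intro B hB
    set F := OffendersReplace.fixedIn W B
    have hc : ∀ b ∈ B, ∀ v ∈ F, b * v = v * b := fun b hb v hv =>
      mem_centralizer_iff.mp hv.2 b hb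
    rw [← OffendersReplace.card_sup_mul_card_inf B F (OffendersReplace.le_normalizer_of_commute hc)]
    refine Nat.mul_le_mul (hA.2 _ ⟨sup_le (hB.trans hA.1.le) (inf_le_left.trans hWT), ?_,
      fun _ _ => pow_zero _⟩) (card_le_of_le ?_)
    · have hcl : B ⊔ F ≤ centralizer ((B ⊔ F : Subgroup X) : Set X) := by
        refine sup_le ?_ ?_
        · rw [le_centralizer_iff]
          refine sup_le (fun b hb => mem_centralizer_iff.mpr fun b' hb' =>
            hA.1.comm b' (hB hb') b (hB hb)) fun v hv => mem_centralizer_iff.mpr fun b hb => hc b hb v hv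
        · rw [le_centralizer_iff]
          refine sup_le (fun b hb => mem_centralizer_iff.mpr fun v hv => (hc b hb v hv).symm)
            fun v hv => mem_centralizer_iff.mpr fun v' hv' => hWab v' hv'.1 v hv.1
      exact fun x hx y hy => (mem_centralizer_iff.mp (hcl hx) y hy).symm
    · exact fun x hx => ⟨hx.2.1, mem_centralizer_iff.mpr fun a ha =>
        hA.1.comm a ha x (hB hx.1)⟩
  obtain ⟨hatt, hfixeq⟩ :=
    OffendersReplace.attains_commutator hWab hAW hAab hmax (le_refl W)
  set B := A ⊓ centralizer ((⁅W, A⁆ : Subgroup X) : Set X) with hB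
  have hBM : ¬ B ≤ M := by
    intro h
    have hWB : W ≤ ⁅W, A⁆ ⊔ OffendersReplace.fixedIn W A := by
      rw [← hfixeq]
      exact fun w hw => ⟨hw, mem_centralizer_iff.mpr fun b hb => hWM b (h hb) w hw⟩
    have hle : ⁅W, A⁆ ≤ W := le_normalizer_iff_commutator_le_left.mp hAW
    have hL : ⁅W, A⁆ ≤ ⁅⁅W, A⁆, A⁆ := by
      rw [commutator_le]
      intro w hw a ha
      have hw' := hWB hw
      rw [← SetLike.mem_coe, coe_mul_of_left_le_normalizer_right _ _
        (OffendersReplace.le_normalizer_of_commute (B := ⁅W, A⁆)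
          (C := OffendersReplace.fixedIn W A) fun x hx y hy => hWab x (hle hx) y hy.1)] at hw'
      obtain ⟨x, hx, c, hc, rfl⟩ := hw'
      have hca : a * c = c * a := mem_centralizer_iff.mp hc.2 a ha
      have he : ⁅x * c, a⁆ = ⁅x, a⁆ := by
        rw [commutatorElement_def, commutatorElement_def]
        calc x * c * a * (x * c)⁻¹ * a⁻¹ = x * (c * a * c⁻¹) * x⁻¹ * a⁻¹ := by group
          _ = _ := by rw [← hca, mul_inv_cancel_right]
      rw [he]
      exact commutator_mem_commutator hx ha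
    have h0 : ⁅W, A⁆ = ⊥ := OffendersReplace.eq_bot_of_le_commutator (p := 2)
      (T.isPGroup'.to_le hWT) hAW (fun a ha => by
        obtain ⟨k, hk⟩ := T.isPGroup' ⟨a, hA.1.le ha⟩
        exact ⟨k, by
          have : a ^ 2 ^ k = 1 := congrArg Subtype.val hk
          rw [this]; exact one_mem _⟩) hle hL
    refine hAM (le_trans ?_ hCW)
    intro a ha
    refine mem_centralizer_iff.mpr fun w hw => ?_
    have := commutator_mem_commutator hw ha
    rw [h0, mem_bot, commutatorElement_eq_one_iff_mul_comm] at this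
    exact this
  refine hfree (involves_of_offender M W B hMp hWe hWM hCW T (inf_le_left.trans hA.1.le) hcore hbar
    (fun a ha b hb => hA.1.comm a ha.1 b hb.1) hBM ?_ ?_)
  · intro b hb c hc w hw
    have hw2 : w⁻¹ = w := inv_eq_of_mul_eq_one_right (by rw [← pow_two]; exact hWe.2 w hw)
    have hmem : ⁅w, c⁆ ∈ (⁅W, A⁆ : Subgroup X) := commutator_mem_commutator hw hc.1
    have he : c * w * c⁻¹ * w = ⁅w, c⁆ := by
      rw [commutatorElement_def, hWab _ (hWn.conj_mem w hw c) w hw, hw2]
      group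
    rw [he, ← mem_centralizer_iff.mp hb.2 _ hmem, mul_inv_cancel_right]
  · have h1 := hmax (B ⊓ M) (inf_le_left.trans inf_le_left)
    rw [← hatt.2, mul_comm (Nat.card (B ⊓ M : Subgroup X))] at h1
    refine le_trans (Nat.mul_le_mul_right _ (card_le_of_le ?_)) h1
    exact fun w hw => ⟨hw, mem_centralizer_iff.mpr fun x hx => hWM x hx.2 w hw⟩

end Cfsg.Agent.ThompsonS4Free
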