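import Cfsg.Agent.Lib.FusionThompson
import Cfsg.Agent.S2800
import Cfsg.Agent.S2761

/-!
Thompson's criterion at all primes: at the prime two the group theoretic input is the theorem of
Glauberman for groups without sections isomorphic to the symmetric group of degree four.
-/

set_option autoImplicit false

universe u

namespace Cfsg.Agent.FusionThompsonAll

open Cfsg Cfsg.FusionSystem Cfsg.Agent.FusionThompson Cfsg.Agent.FusionFree

variable {p : ℕ} [Fact p.Prime]

theorem grp : Grp.{u} p := by
  intro L _ _ P hchar hfree hC hN
  refine FusionCriteria.isPGroup_of_hasNormalPComplement (S2800.result P ?_ ?_ ?_) hchar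
  · by_cases hp : p = 2
    · subst hp
      exact hfree.imp id fun h h4 => h (involves_congr_left S2761.result.some.symm h4)
    · exact Or.inl hp
  · exact FusionCriteria.hasNormalPComplement_of_isPGroup hC
  · rw [GlaubermanZJ.thompsonSubgroupAOf_eq]
    exact FusionCriteria.hasNormalPComplement_of_isPGroup hN

variable {Ω : Type u} [Group Ω] {S : Subgroup Ω} [Finite S] {F : FusionSystem S}

theorem free_of_hyp (hS : IsPGroup p S) (hF : F.IsSaturated p)
    (h : p ≠ 2 ∨ F.IsSectionFree p (Equiv.Perm (Fin 4))) : p ≠ 2 ∨ AutFree p F := by
  by_cases hp : p = 2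
  · subst hp
    exact h.imp id (autFree_of_sectionFree hS hF S2761.result)
  · exact Or.inl hp

end Cfsg.Agent.FusionThompsonAll
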