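import Mathlib
import Cfsg.Agent.S0071
import Cfsg.Agent.S2800
import Cfsg.Agent.Lib.HallSolvable
import Cfsg.Agent.Lib.FusionQd
import Cfsg.Agent.Lib.FusionThompsonAll

/-!
Tools for automisers of `p`-subgroups with `p`-solvable automiser: Hall `{p,q}`-subgroups of
`p`-solvable groups and the criterion "all characteristic subgroups of a Sylow subgroup have
`p`-automisers only".
-/

set_option autoImplicit false

universe u

namespace FrobeniusAutomizer

open Cfsg Cfsg.Agent

/-- All automisers in `X` of characteristic subgroups of `P` are `p`-groups. -/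
def CharAut {X : Type u} [Group X] (p : ℕ) (P : Subgroup X) : Prop :=
  ∀ K : Subgroup X, K ≤ P → (K.subgroupOf P).Characteristic →
    ∀ g ∈ Subgroup.normalizer (K : Set X), Nat.Coprime (orderOf g) p →
      g ∈ Subgroup.centralizer (K : Set X)

theorem hnpc_of_charAut_aux {p : ℕ} [Fact p.Prime] : ∀ (n : ℕ) {X : Type u} [Group X] [Finite X],
    Nat.card X ≤ n → (p ≠ 2 ∨ ¬ Cfsg.Involves (Equiv.Perm (Fin 4)) X) → ∀ P : Sylow p X,
      CharAut p (P : Subgroup X) → Cfsg.HasNormalPComplement p X := by
  intro n
  induction n with
  | zero => intro X _ _ h; exact absurd (Nat.le_zero.1 h) Nat.card_pos.ne'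
  | succ n ih =>
    intro X _ _ hn h4 P hP
    set Z := (P : Subgroup X) ⊓ Subgroup.centralizer ((P : Subgroup X) : Set X) with hZdef
    set J := Cfsg.thompsonSubgroupAOf (P : Subgroup X) with hJdef
    have hsmall : ∀ H : Subgroup X, H ≠ ⊤ → (P : Subgroup X) ≤ H →
        Cfsg.HasNormalPComplement p H := by
      intro H hH hPH
      have hcard : Nat.card H < Nat.card X := by
        refine lt_of_le_of_ne (Subgroup.card_le_card_group H) fun h => hH ?_
        exact Subgroup.eq_top_of_card_eq H h
      refine ih (by omega) (h4.imp id fun h hi =>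
        h (FusionQd.involves_of_injective (f := H.subtype) H.subtype_injective hi)) (P.subtype hPH) ?_
      · intro K hK hKc g hg hcop
        rw [Sylow.coe_subtype] at hK hKc
        have hmap : ((P : Subgroup X).subgroupOf H).map H.subtype = P := by
          rw [Subgroup.map_subgroupOf_eq_of_le hPH]
        have hK' : K.map H.subtype ≤ (P : Subgroup X) := hmap ▸ Subgroup.map_mono hK
        have hc' : ((K.map H.subtype).subgroupOf (P : Subgroup X)).Characteristic := by
          let e := (Subgroup.subgroupOfEquivOfLe hPH)
          have heq : (K.map H.subtype).subgroupOf (P : Subgroup X) =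
              (K.subgroupOf ((P : Subgroup X).subgroupOf H)).map e.toMonoidHom := by
            ext x
            simp only [Subgroup.mem_subgroupOf, Subgroup.mem_map, MulEquiv.coe_toMonoidHom,
              Subgroup.coe_subtype]
            constructor
            · rintro ⟨y, hy, hyx⟩
              exact ⟨⟨y, by rw [Subgroup.mem_subgroupOf, hyx]; exact x.2⟩, hy,
                Subtype.ext hyx⟩
            · rintro ⟨y, hy, hyx⟩
              exact ⟨y, hy, congrArg Subtype.val hyx⟩
          rw [heq, Subgroup.characteristic_iff_map_eq]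
          intro φ
          rw [Subgroup.map_map]
          have := Subgroup.characteristic_iff_map_eq.1 hKc ((e.trans φ).trans e.symm)
          conv_rhs => rw [← this]
          rw [Subgroup.map_map]
          congr 1


        have hgn : (g : X) ∈ Subgroup.normalizer ((K.map H.subtype : Subgroup X) : Set X) := by
          refine Subgroup.le_normalizer_map (H.subtype) ?_
          exact ⟨g, hg, rfl⟩
        have := hP _ hK' hc' (g : X) hgn (by rwa [Subgroup.orderOf_coe])
        rw [Subgroup.mem_centralizer_iff] at this ⊢
        intro k hk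
        exact Subtype.ext (this k ⟨k, hk, rfl⟩)
    by_cases hPbot : (P : Subgroup X) = ⊥
    · refine ⟨P, ⊤, inferInstance, ?_⟩
      rw [hPbot]
      exact Subgroup.isComplement'_top_bot
    -- characteristic subgroups of `P`
    have hZc : (Z.subgroupOf (P : Subgroup X)).Characteristic := by
      rw [show Z = FusionThompson.zS (P : Subgroup X) from rfl, FusionThompson.subgroupOf_zS]
      infer_instance
    have hJc : (J.subgroupOf (P : Subgroup X)).Characteristic := by
      rw [hJdef, GlaubermanZJ.thompsonSubgroupAOf_eq]
      exact FusionThompson.thomJ_characteristic _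
    have hJP : J ≤ (P : Subgroup X) := by
      rw [hJdef, GlaubermanZJ.thompsonSubgroupAOf_eq]; exact GlaubermanZJ.thomJ_le _
    have hZJ : Z ≤ J := by
      obtain ⟨A, hA⟩ := GlaubermanZJ.exists_maxFam 0 (P : Subgroup X)
      intro z hz
      rw [hJdef, GlaubermanZJ.thompsonSubgroupAOf_eq]
      exact GlaubermanZJ.le_thomJ hA (GlaubermanZJ.mem_of_commute hA hz.1 (pow_zero z)
        fun a ha => (Subgroup.mem_centralizer_iff.1 hz.2) a (hA.1.le ha))
    have hPC : (P : Subgroup X) ≤ Subgroup.centralizer (Z : Set X) := by
      intro x hx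
      rw [Subgroup.mem_centralizer_iff]
      intro z hz
      exact ((Subgroup.mem_centralizer_iff.1 hz.2) x hx).symm
    by_cases hCtop : Subgroup.centralizer (Z : Set X) = ⊤
    swap
    · have hC := hsmall _ hCtop hPC
      refine S2800.result P h4 hC ?_
      refine hsmall _ (fun hN => hCtop (eq_top_iff.2 fun x _ => ?_)) ?_
      swap
      · haveI := hJc
        exact (Subgroup.normal_subgroupOf_iff_le_normalizer hJP).1 inferInstance
      -- `p'`-elements centralise `J`, hence `Z`
      have hgen : ∀ g : X, Nat.Coprime (orderOf g) p → g ∈ Subgroup.centralizer (Z : Set X) :=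
        fun g hg => Subgroup.centralizer_le (by exact_mod_cast hZJ)
          (hP J hJP hJc g (hN ▸ Subgroup.mem_top g) hg)
      -- the index of `C(Z)` is a `p`-number and prime to `p`
      have hidx : (Subgroup.centralizer (Z : Set X)).index = 1 := by
        by_contra hne
        obtain ⟨r, hr, hrd⟩ := Nat.exists_prime_and_dvd hne
        haveI := Fact.mk hr
        by_cases hrp : r = p
        · subst hrp
          exact P.not_dvd_index (dvd_trans hrd (Subgroup.index_dvd_of_le hPC))
        · obtain ⟨R⟩ : Nonempty (Sylow r X) := inferInstance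
          have hRC : (R : Subgroup X) ≤ Subgroup.centralizer (Z : Set X) := by
            intro g hg
            refine hgen g ?_
            obtain ⟨k, hk⟩ := IsPGroup.iff_orderOf.1 R.2 ⟨g, hg⟩
            rw [Subgroup.orderOf_mk] at hk
            rw [hk]
            exact Nat.Coprime.pow_left _ ((Nat.coprime_primes hr Fact.out).2 hrp)
          exact R.not_dvd_index (dvd_trans hrd (Subgroup.index_dvd_of_le hRC))
      rw [Subgroup.index_eq_one.1 hidx]
      exact Subgroup.mem_top x
    -- the centre of `P` is central in `X`
    have hZcen : Z ≤ Subgroup.center X := fun z hz => Subgroup.mem_center_iff.2 fun x =>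
      ((Subgroup.mem_centralizer_iff.1 (hCtop ▸ Subgroup.mem_top x)) z hz).symm
    haveI : Z.Normal := ⟨fun z hz g => by
      rw [Subgroup.mem_center_iff.1 (hZcen hz) g, mul_inv_cancel_right]; exact hz⟩
    have hZne : Z ≠ ⊥ := FusionThompson.zS_ne_bot P.2 hPbot
    have hcardQ : Nat.card (X ⧸ Z) < Nat.card X := by
      rw [← Subgroup.index_eq_card]
      have h2 : 1 < Nat.card Z := Subgroup.one_lt_card_iff_ne_bot Z |>.2 hZne
      have h3 := Subgroup.card_mul_index Z
      have h4' : 0 < Z.index := Nat.pos_of_ne_zero Subgroup.index_ne_zero_of_finite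
      nlinarith
    have hsurj := QuotientGroup.mk'_surjective Z
    have hquot : Cfsg.HasNormalPComplement p (X ⧸ Z) := by
      refine ih (by omega) (h4.imp id fun h hi => h (FusionQd.involves_of_surjective hsurj hi))
        (P.mapSurjective hsurj) ?_
      intro K hK hKc g hg hcop
      rw [Sylow.coe_mapSurjective] at hK hKc
      set π := QuotientGroup.mk' Z
      have hker : π.ker ≤ (P : Subgroup X) := by
        rw [QuotientGroup.ker_mk']; exact inf_le_left
      have hpre : K.comap π ≤ (P : Subgroup X) := by
        calc K.comap π ≤ ((P : Subgroup X).map π).comap π := Subgroup.comap_mono hK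
          _ = _ := Subgroup.comap_map_eq_self hker
      have hchar : ((K.comap π).subgroupOf (P : Subgroup X)).Characteristic := by
        let f : (P : Subgroup X) →* (P : Subgroup X).map π := π.subgroupMap _
        have hf : Function.Surjective f := π.subgroupMap_surjective _
        have hkf : f.ker.Characteristic := by
          have : f.ker = Z.subgroupOf (P : Subgroup X) := by
            ext x
            simp [f, MonoidHom.mem_ker, Subtype.ext_iff, π, Subgroup.mem_subgroupOf,
              QuotientGroup.eq_one_iff]
          rw [this]; exact hZc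
        let e := QuotientGroup.quotientKerEquivOfSurjective f hf
        have h1 : ((K.subgroupOf ((P : Subgroup X).map π)).comap e.toMonoidHom).Characteristic := by
          rw [Subgroup.characteristic_iff_comap_eq]
          intro φ
          have h2 := Subgroup.characteristic_iff_comap_eq.1 hKc ((e.symm.trans φ).trans e)
          conv_rhs => rw [← h2]
          rw [Subgroup.comap_comap, Subgroup.comap_comap]
          congr 1
          ext x
          simp
        have h3 := Subgroup.Characteristic.comap_quotient_mk h1
        convert h3 using 1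
        ext x
        rfl
      -- lift `g` to an element of order prime to `p`
      obtain ⟨x, rfl⟩ := hsurj g
      obtain ⟨y, hy, hycop⟩ : ∃ y, π y = π x ∧ Nat.Coprime (orderOf y) p := by
        set a := orderOf x
        set k := a.factorization p
        have hp : p.Prime := Fact.out
        have ha : p ^ k ∣ a := Nat.ordProj_dvd a p
        have hbpos : a ≠ 0 := (orderOf_pos x).ne'
        have hb : Nat.Coprime (a / p ^ k) p :=
          ((Nat.Prime.coprime_iff_not_dvd hp).2 (Nat.not_dvd_ordCompl hp hbpos)).symm
        obtain ⟨c, hc⟩ := exists_pow_eq_self_of_coprime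
          (Nat.Coprime.pow_left k hcop.symm : Nat.Coprime (p ^ k) (orderOf (π x)))
        refine ⟨x ^ (p ^ k * c), ?_, ?_⟩
        · rw [map_pow, pow_mul]
          exact hc
        · rw [pow_mul]
          refine Nat.Coprime.coprime_dvd_left (orderOf_pow_dvd c) ?_
          rw [orderOf_pow, Nat.gcd_eq_right ha]
          exact hb
      rw [← hy] at hg ⊢
      have hyn : y ∈ Subgroup.normalizer ((K.comap π : Subgroup X) : Set X) := by
        rw [← Subgroup.comap_normalizer_eq_of_surjective K hsurj]
        exact hg
      have hyc := hP _ hpre hchar y hyn hycop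
      rw [Subgroup.mem_centralizer_iff] at hyc ⊢
      intro k hk
      obtain ⟨k', rfl⟩ := hsurj k
      rw [← map_mul, ← map_mul, hyc k' hk]
    obtain ⟨P', hP'⟩ : ∃ P' : Sylow p (X ⧸ Z), ∃ N : Subgroup (X ⧸ Z),
        N.Normal ∧ N.IsComplement' (P' : Subgroup (X ⧸ Z)) := hquot
    have hfr := (S0071.result (P.mapSurjective hsurj)).1 (by
      exact (Cfsg.Agent.TransferPResidual.hasNormalPComplement_iff_exists _).1 ⟨P', hP'⟩)
    obtain ⟨N, hN, hNc⟩ := (S0071.result P).2 (by
      intro Q hQ g hg hcop
      have hπ := hfr (Q.map (QuotientGroup.mk' Z)) (by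
        rw [Sylow.coe_mapSurjective]; exact Subgroup.map_mono hQ)
        (QuotientGroup.mk' Z g) (Subgroup.le_normalizer_map _ ⟨g, hg, rfl⟩)
        (Nat.Coprime.coprime_dvd_left (orderOf_map_dvd _ g) hcop)
      rw [Subgroup.mem_centralizer_iff] at hπ ⊢
      intro x hx
      have h1 := hπ _ ⟨x, hx, rfl⟩
      rw [← map_mul, ← map_mul, QuotientGroup.mk'_eq_mk'] at h1
      obtain ⟨z, hz, hzeq⟩ := h1
      have hzc := Subgroup.mem_center_iff.1 (hZcen hz)
      -- `g x = x g z`, so `z` has order dividing that of `g`
      have hiter : ∀ i : ℕ, g ^ i * x = x * g ^ i * z ^ i := by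
        intro i
        induction i with
        | zero => simp
        | succ i ihi =>
          rw [pow_succ', mul_assoc, ihi, ← mul_assoc g, ← mul_assoc g, ← hzeq,
            pow_succ' z, mul_assoc (x * g), ← hzc (g ^ i)]
          group
      have hzg : z ^ orderOf g = 1 := by
        have := hiter (orderOf g)
        rw [pow_orderOf_eq_one, one_mul, mul_one] at this
        exact left_eq_mul.1 this
      obtain ⟨k, hk⟩ := IsPGroup.iff_orderOf.1 P.2 ⟨z, hz.1⟩
      rw [Subgroup.orderOf_mk] at hk
      have hz1 : orderOf z = 1 := Nat.dvd_one.1 (by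
        have h5 : Nat.Coprime (p ^ k) (orderOf g) := Nat.Coprime.pow_left _ hcop.symm
        rw [← h5]
        exact Nat.dvd_gcd (by rw [hk]) (orderOf_dvd_of_pow_eq_one hzg))
      rw [orderOf_eq_one_iff.1 hz1, mul_one] at hzeq
      exact hzeq)
    exact ⟨P, N, hN, hNc⟩

theorem hnpc_of_charAut {X : Type u} [Group X] [Finite X] {p : ℕ} [Fact p.Prime]
    (h4 : p ≠ 2 ∨ ¬ Cfsg.Involves (Equiv.Perm (Fin 4)) X) (P : Sylow p X)
    (hP : CharAut p (P : Subgroup X)) : Cfsg.HasNormalPComplement p X :=
  hnpc_of_charAut_aux _ le_rfl h4 P hP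

/-- Only `p` and `q` divide `n`. -/
def Two (p q n : ℕ) : Prop := ∀ r : ℕ, r.Prime → r ∣ n → r = p ∨ r = q

theorem exists_hall_two_aux (p q : ℕ) [Fact p.Prime] [Fact q.Prime] : ∀ (n : ℕ) {X : Type u}
    [Group X] [Finite X], Nat.card X ≤ n → Cfsg.IsPSolvable p X →
      ∃ M : Subgroup X, Two p q (Nat.card M) ∧ ¬ p ∣ M.index ∧ ¬ q ∣ M.index := by
  intro n
  induction n with
  | zero => intro X _ _ h; exact absurd (Nat.le_zero.1 h) Nat.card_pos.ne'
  | succ n ih =>
    intro X _ _ hn hX
    have hp : p.Prime := Fact.out
    have hq : q.Prime := Fact.out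
    rcases subsingleton_or_nontrivial X with hs | hnt
    · refine ⟨⊤, fun r hr h => absurd ?_ hr.ne_one, ?_, ?_⟩
      · rw [Subgroup.card_top, Nat.card_of_subsingleton (1 : X)] at h
        exact Nat.dvd_one.1 h
      · rw [Subgroup.index_top]; exact hp.not_dvd_one
      · rw [Subgroup.index_top]; exact hq.not_dvd_one
    -- a nontrivial normal `{p,q}`-subgroup reduces to the quotient
    have red : ∀ R : Subgroup X, R.Normal → R ≠ ⊥ → Two p q (Nat.card R) →
        ∃ M : Subgroup X, Two p q (Nat.card M) ∧ ¬ p ∣ M.index ∧ ¬ q ∣ M.index := by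
      intro R hR hRne hRtwo
      haveI := hR
      have hlt : Nat.card (X ⧸ R) < Nat.card X := by
        rw [← Subgroup.index_eq_card]
        have h2 : 1 < Nat.card R := Subgroup.one_lt_card_iff_ne_bot R |>.2 hRne
        have h3 := Subgroup.card_mul_index R
        have h4' : 0 < R.index := Nat.pos_of_ne_zero Subgroup.index_ne_zero_of_finite
        nlinarith
      obtain ⟨M, hM, hMp, hMq⟩ := ih (X := X ⧸ R) (by omega)
        (HallSolvable.isPSolvable_quotient hX R)
      refine ⟨M.comap (QuotientGroup.mk' R), fun r hr h => ?_, ?_, ?_⟩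
      · have hle : R ≤ M.comap (QuotientGroup.mk' R) := QuotientGroup.le_comap_mk' R M
        rw [← HallCore.card_mul_relIndex hle, HallSolvable.relIndex_eq_card_map,
          Subgroup.map_comap_eq_self_of_surjective (QuotientGroup.mk'_surjective R)] at h
        rcases hr.dvd_mul.1 h with h | h
        exacts [hRtwo r hr h, hM r hr h]
      · rwa [Subgroup.index_comap_of_surjective _ (QuotientGroup.mk'_surjective R)]
      · rwa [Subgroup.index_comap_of_surjective _ (QuotientGroup.mk'_surjective R)]
    rcases ((HallSolvable.isPSolvable_iff p).1 hX).exists_core_ne_bot with hO | hO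
    · haveI := HallCore.piCore_characteristic {p} X
      exact red (Cfsg.piCore {p} X) inferInstance hO fun r hr h =>
        Or.inl (HallCore.piNat_card_piCore {p} X r hr h)
    haveI := HallCore.piCore_characteristic {p}ᶜ X
    set K := Cfsg.piCore {p}ᶜ X
    have hKp : ¬ p ∣ Nat.card K := fun h => HallCore.piNat_card_piCore _ X p hp h rfl
    obtain ⟨Q⟩ : Nonempty (Sylow q K) := inferInstance
    by_cases hQ : (Q : Subgroup K) = ⊥
    · -- `K` is a `{p,q}'`-group
      have hKq : ¬ q ∣ Nat.card K := by
        have h := Q.not_dvd_index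
        rwa [hQ, Subgroup.index_bot] at h
      have hlt : Nat.card (X ⧸ K) < Nat.card X := by
        rw [← Subgroup.index_eq_card]
        have h2 : 1 < Nat.card K := Subgroup.one_lt_card_iff_ne_bot K |>.2 hO
        have h3 := Subgroup.card_mul_index K
        have h4' : 0 < K.index := Nat.pos_of_ne_zero Subgroup.index_ne_zero_of_finite
        nlinarith
      obtain ⟨M, hM, hMp, hMq⟩ := ih (X := X ⧸ K) (by omega)
        (HallSolvable.isPSolvable_quotient hX K)
      set Y := M.comap (QuotientGroup.mk' K)
      have hKY : K ≤ Y := QuotientGroup.le_comap_mk' K M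
      have hrel : K.relIndex Y = Nat.card M := by
        rw [HallSolvable.relIndex_eq_card_map,
          Subgroup.map_comap_eq_self_of_surjective (QuotientGroup.mk'_surjective K)]
      have hcardK : Nat.card (K.subgroupOf Y) = Nat.card K :=
        Nat.card_congr (Subgroup.subgroupOfEquivOfLe hKY).toEquiv
      have hcop : (Nat.card (K.subgroupOf Y)).Coprime (K.subgroupOf Y).index := by
        rw [hcardK, show (K.subgroupOf Y).index = Nat.card M from hrel]
        refine Nat.coprime_of_dvd fun r hr hrK hrM => ?_
        rcases hM r hr hrM with rfl | rfl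
        exacts [hKp hrK, hKq hrK]
      obtain ⟨H, hH⟩ := Subgroup.exists_right_complement'_of_coprime hcop
      have hHcard : Nat.card (H.map Y.subtype) = Nat.card M := by
        rw [Subgroup.card_map_of_injective Y.subtype_injective, ← hH.symm.index_eq_card]
        exact hrel
      have hidx : (H.map Y.subtype).index = Nat.card K * M.index := by
        rw [Subgroup.index_map_subtype, hH.index_eq_card, hcardK,
          Subgroup.index_comap_of_surjective _ (QuotientGroup.mk'_surjective K)]
      refine ⟨H.map Y.subtype, hHcard ▸ hM, ?_, ?_⟩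
      · rw [hidx, hp.dvd_mul]; tauto
      · rw [hidx, hq.dvd_mul]; tauto
    · set Q' := (Q : Subgroup K).map K.subtype
      have hQ'ne : Q' ≠ ⊥ := fun h =>
        hQ ((Subgroup.map_eq_bot_iff_of_injective _ K.subtype_injective).1 h)
      have hQ'two : Two p q (Nat.card Q') := by
        intro r hr h
        obtain ⟨k, hk⟩ := IsPGroup.iff_card.1 Q.2
        rw [Subgroup.card_map_of_injective K.subtype_injective, hk] at h
        exact Or.inr ((Nat.prime_dvd_prime_iff_eq hr hq).1 (hr.dvd_of_dvd_pow h))
      by_cases hnorm : Subgroup.normalizer (Q' : Set X) = ⊤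
      · exact red Q' (Subgroup.normalizer_eq_top_iff.1 hnorm) hQ'ne hQ'two
      set N := Subgroup.normalizer (Q' : Set X)
      have hlt : Nat.card N < Nat.card X :=
        lt_of_le_of_ne (Subgroup.card_le_card_group N) fun h =>
          hnorm (Subgroup.eq_top_of_card_eq N h)
      obtain ⟨M, hM, hMp, hMq⟩ := ih (X := N) (by omega) (HallSolvable.isPSolvable_subgroup hX N)
      have hfrat : N ⊔ K = ⊤ := Sylow.normalizer_sup_eq_top Q
      have hNidx : N.index = N.relIndex K := by
        have h1 : K.relIndex N = K.index := by
          rw [← Subgroup.relIndex_sup_right, hfrat, Subgroup.relIndex_top_right]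
        have h2 := Subgroup.relIndex_mul_index (inf_le_left : N ⊓ K ≤ N)
        have h3 := Subgroup.relIndex_mul_index (inf_le_right : N ⊓ K ≤ K)
        rw [Subgroup.inf_relIndex_left, h1] at h2
        rw [Subgroup.inf_relIndex_right, ← h2, mul_comm K.index] at h3
        exact (Nat.eq_of_mul_eq_mul_right
          (Nat.pos_of_ne_zero Subgroup.index_ne_zero_of_finite) h3).symm
      have hNp : ¬ p ∣ N.index := fun h =>
        hKp (dvd_trans (hNidx ▸ h) (Subgroup.relIndex_dvd_card N K))
      have hNq : ¬ q ∣ N.index := fun h => by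
        refine Q.not_dvd_index (dvd_trans (hNidx ▸ h) ?_)
        refine Subgroup.index_dvd_of_le fun x hx => ?_
        exact Subgroup.le_normalizer (show (x : X) ∈ Q' from ⟨x, hx, rfl⟩)
      refine ⟨M.map N.subtype, ?_, ?_, ?_⟩
      · rwa [Subgroup.card_map_of_injective N.subtype_injective]
      · rw [Subgroup.index_map_subtype, hp.dvd_mul]; tauto
      · rw [Subgroup.index_map_subtype, hq.dvd_mul]; tauto

theorem exists_hall_two {X : Type u} [Group X] [Finite X] (p q : ℕ) [Fact p.Prime] [Fact q.Prime]
    (hX : Cfsg.IsPSolvable p X) :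
    ∃ M : Subgroup X, Two p q (Nat.card M) ∧ ¬ p ∣ M.index ∧ ¬ q ∣ M.index :=
  exists_hall_two_aux p q _ le_rfl hX

end FrobeniusAutomizer
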