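/-
Camina pairs: if the conjugacy classes outside a normal subgroup `N` are unions of cosets of `N`,
then either `G` is a Frobenius group with kernel `N`, or `N` or `G / N` has prime power order.
-/
import Mathlib
import Cfsg.Agent.Lib.FrobeniusNilpotent
import Cfsg.Agent.Lib.FrobeniusFPF
import Cfsg.Agent.Lib.TransferTate
import Cfsg.Agent.Lib.TransferPResidual
import Cfsg.Agent.Lib.PGroupsBasic

open scoped Pointwise commutatorElement

namespace Cfsg.Agent.FrobeniusCamina

open Cfsg.Agent

universe u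

variable {G : Type u} [Group G]

/-- Every class outside `N` is a union of cosets of `N`. -/
def Cam (N : Subgroup G) : Prop := ∀ g : G, g ∉ N → ∀ n ∈ N, ∃ x : G, x * g * x⁻¹ = g * n

theorem orderOf_eq {N : Subgroup G} (h : Cam N) {g : G} (hg : g ∉ N) {n : G} (hn : n ∈ N) :
    orderOf (g * n) = orderOf g := by
  obtain ⟨x, hx⟩ := h g hg n hn
  rw [← hx]
  exact orderOf_injective (MulAut.conj x).toMonoidHom (MulAut.conj x).injective g

/-- An element outside `N` commutes with no non-trivial element of `N` of coprime order. -/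
theorem eq_one_of_coprime [Finite G] {N : Subgroup G} (h : Cam N) {g : G} (hg : g ∉ N) {x : G}
    (hx : x ∈ N) (hc : Commute g x) (hcop : (orderOf g).Coprime (orderOf x)) : x = 1 := by
  have h1 := orderOf_eq h hg hx
  rw [hc.orderOf_mul_eq_mul_orderOf_of_coprime hcop] at h1
  exact orderOf_eq_one_iff.1 (Nat.eq_of_mul_eq_mul_left (orderOf_pos g) (by rw [h1, mul_one]))

theorem index_centralizer (g : G) :
    (Subgroup.centralizer ({g} : Set G)).index = Nat.card {x : G // IsConj x g} := by
  have e : (Subgroup.centralizer ({g} : Set G)).index =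
      (MulAction.stabilizer (ConjAct G) g).index := by
    rw [ConjAct.stabilizer_eq_centralizer]
    rfl
  rw [e, MulAction.index_stabilizer, ← Nat.card_coe_set_eq]
  exact Nat.card_congr (Equiv.subtypeEquivRight fun x => ConjAct.mem_orbit_conjAct)

/-- Centralisers of elements outside `N` keep their order in the quotient. -/
theorem card_centralizer [Finite G] {N : Subgroup G} [N.Normal] (h : Cam N) {g : G} (hg : g ∉ N) :
    Nat.card (Subgroup.centralizer ({g} : Set G)) =
      Nat.card (Subgroup.centralizer ({(g : G ⧸ N)} : Set (G ⧸ N))) := by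
  have hcls : Nat.card {x : G // IsConj x g} =
      Nat.card N * Nat.card {y : G ⧸ N // IsConj y (g : G ⧸ N)} := by
    refine (Nat.card_congr ?_).trans (Nat.card_prod _ _)
    refine Equiv.trans (Equiv.subtypeEquivRight fun x => ?_)
      (QuotientGroup.preimageMkEquivSubgroupProdSet N {y | IsConj y (g : G ⧸ N)})
    refine ⟨fun hx => (QuotientGroup.mk' N).map_isConj hx, fun hx => ?_⟩
    obtain ⟨c, hc⟩ := isConj_iff.1 (hx : IsConj (x : G ⧸ N) (g : G ⧸ N))
    obtain ⟨c, rfl⟩ := QuotientGroup.mk_surjective c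
    rw [← QuotientGroup.mk_inv, ← QuotientGroup.mk_mul, ← QuotientGroup.mk_mul,
      QuotientGroup.eq] at hc
    have hmem : g⁻¹ * (c * x * c⁻¹) ∈ N := by
      simpa [mul_assoc] using N.inv_mem hc
    obtain ⟨y, hy⟩ := h g hg _ hmem
    rw [mul_inv_cancel_left] at hy
    exact (isConj_iff.2 ⟨c, rfl⟩ : IsConj x (c * x * c⁻¹)).trans
      (isConj_iff.2 ⟨y, hy⟩ : IsConj g (c * x * c⁻¹)).symm
  have h1 := Subgroup.card_mul_index (Subgroup.centralizer ({g} : Set G))
  rw [index_centralizer, hcls, Subgroup.card_eq_card_quotient_mul_card_subgroup N,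
    ← Subgroup.card_mul_index (Subgroup.centralizer ({(g : G ⧸ N)} : Set (G ⧸ N))),
    index_centralizer] at h1
  have hpos : 0 < Nat.card N * Nat.card {y : G ⧸ N // IsConj y (g : G ⧸ N)} := by
    have : Nonempty {y : G ⧸ N // IsConj y (g : G ⧸ N)} := ⟨⟨_, IsConj.refl _⟩⟩
    exact Nat.mul_pos Nat.card_pos Nat.card_pos
  refine Nat.eq_of_mul_eq_mul_right hpos ?_
  rw [h1]
  ring

/-- If some prime dividing the index does not divide `|N|` then `N` is nilpotent. -/
theorem nilpotent_of_not_dvd [Finite G] {N : Subgroup G} [N.Normal] (h : Cam N) {r : ℕ}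
    (hr : r.Prime) (hri : r ∣ N.index) (hrN : ¬ r ∣ Nat.card N) : Group.IsNilpotent N := by
  have := Fact.mk hr
  obtain ⟨g, hg⟩ := exists_prime_orderOf_dvd_card' (G := G) r (hri.trans (Subgroup.index_dvd_card N))
  have hgN : g ∉ N := fun hm => hrN (hg ▸ Subgroup.orderOf_dvd_natCard N hm)
  refine FrobeniusNilpotent.isNilpotent_of_fpf (MulAut.conjNormal (H := N) g) (fun x hx => ?_) r hr ?_
  · refine Subtype.ext (eq_one_of_coprime h hgN x.2 ?_ ?_)
    · have h1 : g * (x : G) * g⁻¹ = x := by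
        rw [← MulAut.conjNormal_apply]
        exact congrArg Subtype.val hx
      exact mul_inv_eq_iff_eq_mul.1 h1
    · rw [hg, hr.coprime_iff_not_dvd]
      exact fun hd => hrN (hd.trans (Subgroup.orderOf_dvd_natCard N x.2))
  · rw [← map_pow, ← hg, pow_orderOf_eq_one, map_one]

/-- A nilpotent `N` of order divisible by `p` and another prime has index prime to `p`. -/
theorem not_dvd_index_of_nilpotent [Finite G] {N : Subgroup G} [N.Normal] (h : Cam N)
    (hnil : Group.IsNilpotent N) {p q : ℕ} (hp : p.Prime) (hq : q.Prime) (hpq : p ≠ q)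
    (hpN : p ∣ Nat.card N) (hqN : q ∣ Nat.card N) : ¬ p ∣ N.index := by
  classical
  intro hpi
  have := Fact.mk hp
  have := Fact.mk hq
  -- central elements of order `q`
  have := hnil
  obtain ⟨_, L, hL, hc⟩ :=
    (FrobeniusNilpotent.hasNormalPComplement_of_isNilpotent (G := N) (p := q))
  rename_i Q
  have hQn : (Q : Subgroup N).Normal :=
    Sylow.normal_of_normalizerCondition Group.normalizerCondition_of_isNilpotent Q
  obtain ⟨z, hz, hzo⟩ := PGroupsBasic.exists_orderOf_eq_of_ne_bot (p := q)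
    (Q.isPGroup'.to_le (inf_le_left : FrobeniusThompson.zOf (Q : Subgroup N) ≤ _))
    (FrobeniusThompson.zOf_ne_bot Q.isPGroup' (Q.ne_bot_of_dvd_card hqN))
  have hzc : ∀ x : N, x * z = z * x := by
    intro x
    obtain ⟨⟨⟨a, ha⟩, ⟨b, hb⟩⟩, rfl⟩ := hc.2 x
    have h2 : Commute b z := hz.2 b hb
    have h1 : Commute a z := by
      refine FrobeniusNilpotent.commute_of_coprime a z ?_
      rw [hzo, Nat.coprime_comm, hq.coprime_iff_not_dvd]
      intro hd
      apply Q.not_dvd_index
      rw [hc.index_eq_card]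
      exact hd.trans (Subgroup.orderOf_dvd_natCard _ ha)
    exact (h1.mul_left h2).eq
  let Z : Subgroup G :=
    { carrier := {x | x ∈ N ∧ x ^ q = 1 ∧ ∀ n ∈ N, n * x = x * n}
      one_mem' := ⟨one_mem _, one_pow _, fun n _ => by rw [mul_one, one_mul]⟩
      mul_mem' := fun {x y} hx hy => ⟨mul_mem hx.1 hy.1, by
        rw [(show Commute x y from hy.2.2 x hx.1).mul_pow, hx.2.1, hy.2.1, one_mul],
        fun n hn => ((show Commute n x from hx.2.2 n hn).mul_right
          (show Commute n y from hy.2.2 n hn)).eq⟩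
      inv_mem' := fun {x} hx => ⟨inv_mem hx.1, by rw [inv_pow, hx.2.1, inv_one],
        fun n hn => (show Commute n x from hx.2.2 n hn).inv_right.eq⟩ }
  have hZn : Z.Normal := ⟨fun x hx g => ⟨(inferInstance : N.Normal).conj_mem x hx.1 g,
    by rw [conj_pow, hx.2.1, mul_one, mul_inv_cancel], fun n hn => by
      have h1 := hx.2.2 (g⁻¹ * n * g) ((inferInstance : N.Normal).conj_mem' n hn g)
      calc n * (g * x * g⁻¹) = g * (g⁻¹ * n * g * x) * g⁻¹ := by group
        _ = g * (x * (g⁻¹ * n * g)) * g⁻¹ := by rw [h1]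
        _ = g * x * g⁻¹ * n := by group⟩⟩
  have hzZ : (z : G) ∈ Z := ⟨z.2, by
    have := congrArg Subtype.val (hzo ▸ pow_orderOf_eq_one z : z ^ q = 1)
    simpa using this, fun n hn => congrArg Subtype.val (hzc ⟨n, hn⟩)⟩
  have hZne : Z ≠ ⊥ := by
    intro e
    rw [e, Subgroup.mem_bot] at hzZ
    rw [show z = 1 from Subtype.ext hzZ, orderOf_one] at hzo
    exact hq.ne_one hzo.symm
  let _ : CommGroup Z := { (inferInstance : Group Z) with
    mul_comm := fun a b => Subtype.ext (b.2.2.2 a a.2.1) }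
  have : Nontrivial Z := (Subgroup.nontrivial_iff_ne_bot Z).2 hZne
  -- the action of `G / N`
  have hker : N ≤ (MulAut.conjNormal : G →* MulAut Z).ker := fun n hn => by
    refine MulEquiv.ext fun w => Subtype.ext ?_
    rw [MulAut.conjNormal_apply, MulAut.one_apply]
    exact mul_inv_eq_iff_eq_mul.2 (w.2.2.2 n hn)
  let ψ : G ⧸ N →* MulAut Z := QuotientGroup.lift N MulAut.conjNormal hker
  -- an element of maximal `p`-power order in the quotient
  obtain ⟨u, hup, humax⟩ := Set.exists_max_image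
    {u : G ⧸ N | IsPGroup p (Subgroup.zpowers u)} orderOf (Set.toFinite _)
    ⟨1, by show IsPGroup p _; rw [Subgroup.zpowers_one_eq_bot]; exact IsPGroup.of_bot⟩
  obtain ⟨v, hv⟩ := exists_prime_orderOf_dvd_card' (G := G ⧸ N) p hpi
  have hvp : IsPGroup p (Subgroup.zpowers v) :=
    IsPGroup.of_card (n := 1) (by rw [pow_one, Nat.card_zpowers, hv])
  have hu1 : u ≠ 1 := fun e => by
    have h1 : orderOf v ≤ orderOf u := humax v hvp
    rw [e, orderOf_one, hv] at h1
    exact absurd h1 (not_le.2 hp.one_lt)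
  set C := Subgroup.centralizer ({u} : Set (G ⧸ N)) with hCdef
  have huC : Subgroup.zpowers u ≤ C :=
    Subgroup.zpowers_le.2 (Subgroup.mem_centralizer_singleton_iff.2 rfl)
  obtain ⟨T, hT⟩ := (hup.comap_subtype (K := C)).exists_le_sylow
  obtain ⟨R, hR⟩ := (T.isPGroup'.map C.subtype).exists_le_sylow
  obtain ⟨P, hP⟩ := Sylow.mapSurjective_surjective (QuotientGroup.mk'_surjective N) p R
  have hlift : ∀ w ∈ (R : Subgroup (G ⧸ N)), ∃ g ∈ (P : Subgroup G), (g : G ⧸ N) = w := fun w hw => by
    rw [← hP] at hw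
    exact hw
  have huR : u ∈ (R : Subgroup (G ⧸ N)) :=
    hR ⟨⟨u, huC (Subgroup.mem_zpowers u)⟩, hT (Subgroup.mem_zpowers u), rfl⟩
  obtain ⟨g, hgP, hgu⟩ := hlift u huR
  have hgN : g ∉ N := fun hm => hu1 (hgu ▸ (QuotientGroup.eq_one_iff g).2 hm)
  -- `p * orderOf u` divides the order of `C`
  have hdvd : orderOf u * p ∣ Nat.card C := by
    rw [hCdef, ← hgu, ← card_centralizer h hgN, hgu]
    set Cg := Subgroup.centralizer ({g} : Set G) with hCg
    have h1 : ((QuotientGroup.mk' N).comp Cg.subtype).ker = (N ⊓ Cg).subgroupOf Cg := by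
      ext x
      rw [MonoidHom.mem_ker, Subgroup.mem_subgroupOf, MonoidHom.comp_apply, Subgroup.coe_subtype,
        QuotientGroup.mk'_apply, QuotientGroup.eq_one_iff]
      exact ⟨fun h => ⟨h, x.2⟩, fun h => h.1⟩
    have h2 := ((QuotientGroup.mk' N).comp Cg.subtype).ker.index_mul_card
    rw [Subgroup.index_ker, MonoidHom.range_comp, Subgroup.range_subtype, h1,
      Nat.card_congr (Subgroup.subgroupOfEquivOfLe (inf_le_right : N ⊓ Cg ≤ Cg)).toEquiv] at h2
    rw [← h2]
    refine mul_dvd_mul (hgu ▸ Subgroup.orderOf_dvd_natCard _ ⟨g,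
      Subgroup.mem_centralizer_singleton_iff.2 rfl, rfl⟩) ?_
    let _ := FrobeniusFPF.conjAction (Subgroup.zpowers g) N
      (le_top.trans (Subgroup.normalizer_eq_top_iff.2 (inferInstance : N.Normal)).ge)
    obtain ⟨x, hx, hx1⟩ :=
      (P.isPGroup'.to_le (Subgroup.zpowers_le.2 hgP)).exists_fixed_point_of_prime_dvd_card_of_fixed_point
        N hpN (a := (1 : N)) (MulAction.mem_fixedPoints.2 fun b => smul_one b)
    have hxC : (x : G) ∈ Cg := Subgroup.mem_centralizer_singleton_iff.2 (mul_inv_eq_iff_eq_mul.1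
      (congrArg Subtype.val (MulAction.mem_fixedPoints.1 hx ⟨g, Subgroup.mem_zpowers g⟩))).symm
    by_contra hnd
    apply hx1
    refine (Subtype.ext ?_).symm
    refine eq_one_of_coprime h hgN x.2 (Subgroup.mem_centralizer_singleton_iff.1 hxC).symm ?_
    obtain ⟨i, hi⟩ := IsPGroup.iff_orderOf.1 P.isPGroup' ⟨g, hgP⟩
    rw [Subgroup.orderOf_mk] at hi
    rw [hi]
    refine Nat.Coprime.pow_left i (hp.coprime_iff_not_dvd.2 fun hd => hnd ?_)
    exact hd.trans (Subgroup.orderOf_dvd_natCard _ ⟨x.2, hxC⟩)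
  have hTcard : orderOf u < Nat.card T := by
    obtain ⟨i, hi⟩ := IsPGroup.iff_orderOf.1 hup ⟨u, Subgroup.mem_zpowers u⟩
    rw [Subgroup.orderOf_mk] at hi
    rw [hi, ← pow_succ] at hdvd
    have := Nat.le_of_dvd Nat.card_pos (T.pow_dvd_card_of_pow_dvd_card hdvd)
    have h5 : p ^ i < p ^ (i + 1) := Nat.pow_lt_pow_right hp.one_lt (Nat.lt_succ_self i)
    omega
  obtain ⟨t, htT, htu⟩ : ∃ t : C, t ∈ (T : Subgroup C) ∧ (t : G ⧸ N) ∉ Subgroup.zpowers u := by
    by_contra hall
    push Not at hall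
    have h1 : Nat.card T ≤ Nat.card (Subgroup.zpowers u) :=
      Nat.card_le_card_of_injective (fun t : T => (⟨((t : C) : G ⧸ N), hall t t.2⟩ : Subgroup.zpowers u))
        fun a b e => Subtype.ext (Subtype.ext (congrArg (fun z : Subgroup.zpowers u => (z : G ⧸ N)) e))
    rw [Nat.card_zpowers] at h1
    omega
  -- a cyclic subgroup generated by `u` and `t`
  set B := Subgroup.closure ({u, (t : G ⧸ N)} : Set (G ⧸ N)) with hB
  have hBR : B ≤ (R : Subgroup (G ⧸ N)) := by
    rw [hB, Subgroup.closure_le]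
    rintro y (rfl | rfl)
    · exact huR
    · exact hR ⟨t, htT, rfl⟩
  have hBc : ∀ a b : B, a * b = b * a := by
    have := Subgroup.isMulCommutative_closure (k := ({u, (t : G ⧸ N)} : Set (G ⧸ N))) (by
      have htc : (t : G ⧸ N) * u = u * (t : G ⧸ N) := Subgroup.mem_centralizer_singleton_iff.1 t.2
      rintro a (rfl | rfl) b (rfl | rfl)
      · rfl
      · exact htc.symm
      · exact htc
      · rfl)
    exact fun a b => this.is_comm.comm a b
  let _ : MulDistribMulAction B Z := MulDistribMulAction.compHom Z (ψ.comp B.subtype)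
  have hfpf : FrobeniusFPF.IsFPF B Z := by
    intro b hb w hw
    obtain ⟨c, hcP, hcb⟩ := hlift _ (hBR b.2)
    have hcN : c ∉ N := fun hm => hb (Subtype.ext (hcb ▸ (QuotientGroup.eq_one_iff c).2 hm))
    have h1 : ψ (b : G ⧸ N) w = w := hw
    rw [← hcb] at h1
    have h2 : c * (w : G) * c⁻¹ = w := by
      rw [← MulAut.conjNormal_apply]
      exact congrArg Subtype.val h1
    refine Subtype.ext (eq_one_of_coprime h hcN w.2.1 (mul_inv_eq_iff_eq_mul.1 h2) ?_)
    obtain ⟨i, hi⟩ := IsPGroup.iff_orderOf.1 P.isPGroup' ⟨c, hcP⟩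
    rw [Subgroup.orderOf_mk] at hi
    rw [hi]
    refine Nat.Coprime.coprime_dvd_right (orderOf_dvd_of_pow_eq_one w.2.2.1) (Nat.Coprime.pow_left i ?_)
    exact (Nat.coprime_primes hp hq).2 hpq
  have hcyc := FrobeniusFPF.isCyclic_of_comm hfpf hBc
  obtain ⟨w, hw⟩ := hcyc.exists_ofOrder_eq_natCard
  have hwp : IsPGroup p (Subgroup.zpowers (w : G ⧸ N)) :=
    R.isPGroup'.to_le (Subgroup.zpowers_le.2 (hBR w.2))
  have h1 : orderOf (w : G ⧸ N) ≤ orderOf u := humax _ hwp
  rw [Subgroup.orderOf_coe, hw, ← Nat.card_zpowers] at h1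
  have h2 : Subgroup.zpowers u ≤ B :=
    Subgroup.zpowers_le.2 (Subgroup.subset_closure (Set.mem_insert _ _))
  have h3 := Subgroup.eq_of_le_of_card_ge h2 h1
  exact htu (h3 ▸ Subgroup.subset_closure (Set.mem_insert_of_mem _ rfl))

/-- For a prime dividing the index, `N` has a normal `p`-complement. -/
theorem hasNormalPComplement [Finite G] {N : Subgroup G} [N.Normal] (h : Cam N) {p : ℕ}
    [Fact p.Prime] (hpi : p ∣ N.index) : Cfsg.HasNormalPComplement p N := by
  classical
  have hp : p.Prime := Fact.out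
  obtain ⟨P⟩ : Nonempty (Sylow p G) := inferInstance
  refine TransferTate.hasNormalPComplement_of_normal_inf_le_frattini P N ?_
  set π := QuotientGroup.mk' N with hπ
  set R : Sylow p (G ⧸ N) := P.mapSurjective (QuotientGroup.mk'_surjective N) with hR
  have hRne : Nontrivial (R : Subgroup (G ⧸ N)) := (Subgroup.nontrivial_iff_ne_bot _).2 (R.ne_bot_of_dvd_card hpi)
  have := R.isPGroup'.center_nontrivial
  obtain ⟨⟨⟨u, huR⟩, huc⟩, hu1⟩ := exists_ne (1 : Subgroup.center (R : Subgroup (G ⧸ N)))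
  obtain ⟨g, hgP, hgu⟩ : ∃ g ∈ (P : Subgroup G), π g = u := huR
  have hu0 : u ≠ 1 := fun e => hu1 (Subtype.ext (Subtype.ext e))
  have hgN : g ∉ N := fun hm => hu0 (hgu ▸ (QuotientGroup.eq_one_iff g).2 hm)
  set P₀ := (N ⊓ (P : Subgroup G) : Subgroup G) with hP₀
  set Cg := ((P : Subgroup G) ⊓ Subgroup.centralizer ({g} : Set G)).subgroupOf (P : Subgroup G) with hCg
  have hmem : ∀ x : (P : Subgroup G), g⁻¹ * ((x : G) * g * (x : G)⁻¹) ∈ P₀ := by
    intro x
    refine ⟨(QuotientGroup.eq_one_iff _).1 ?_, (P : Subgroup G).mul_mem ((P : Subgroup G).inv_mem hgP)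
      ((P : Subgroup G).mul_mem ((P : Subgroup G).mul_mem x.2 hgP) ((P : Subgroup G).inv_mem x.2))⟩
    show π _ = 1
    have h1 : π (x : G) * u = u * π (x : G) :=
      congrArg Subtype.val (Subgroup.mem_center_iff.1 huc ⟨π x, ⟨x, x.2, rfl⟩⟩)
    rw [map_mul, map_mul, map_mul, map_inv, map_inv, hgu, h1, mul_inv_cancel_right, inv_mul_cancel]
  -- every element of the coset is a `P`-conjugate
  let F : (P : Subgroup G) ⧸ Cg → P₀ := Quotient.lift
    (fun x => (⟨g⁻¹ * ((x : G) * g * (x : G)⁻¹), hmem x⟩ : P₀)) (fun a b hab => by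
      replace hab := QuotientGroup.leftRel_apply.1 hab
      have h1 := Subgroup.mem_centralizer_singleton_iff.1 hab.2
      refine Subtype.ext ?_
      show g⁻¹ * ((a : G) * g * (a : G)⁻¹) = g⁻¹ * ((b : G) * g * (b : G)⁻¹)
      congr 1
      have h2 : (b : G) = a * ((a : G)⁻¹ * b) := (mul_inv_cancel_left _ _).symm
      set c := (a : G)⁻¹ * b with hc
      have h3 : c * g * c⁻¹ = g := by
        rw [show c * g = g * c from h1, mul_inv_cancel_right]
      rw [h2, show (a : G) * c * g * ((a : G) * c)⁻¹ = a * (c * g * c⁻¹) * (a : G)⁻¹ by group, h3])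
  have hFinj : Function.Injective F := by
    intro a b
    induction a using QuotientGroup.induction_on with
    | _ a =>
      induction b using QuotientGroup.induction_on with
      | _ b =>
        intro e
        rw [QuotientGroup.eq]
        have h1 : g⁻¹ * ((a : G) * g * (a : G)⁻¹) = g⁻¹ * ((b : G) * g * (b : G)⁻¹) :=
          congrArg Subtype.val e
        refine ⟨(a⁻¹ * b : (P : Subgroup G)).2, Subgroup.mem_centralizer_singleton_iff.2 ?_⟩
        have h2 := mul_left_cancel h1
        show (a : G)⁻¹ * b * g = g * ((a : G)⁻¹ * b)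
        calc (a : G)⁻¹ * b * g = (a : G)⁻¹ * ((b : G) * g * (b : G)⁻¹) * b := by group
          _ = (a : G)⁻¹ * ((a : G) * g * (a : G)⁻¹) * b := by rw [h2]
          _ = g * ((a : G)⁻¹ * b) := by group
  have hFcard : Nat.card P₀ ≤ Nat.card ((P : Subgroup G) ⧸ Cg) := by
    have h1 : Nat.card Cg ∣ Nat.card (G ⧸ N) := by
      rw [hCg, Nat.card_congr (Subgroup.subgroupOfEquivOfLe
        (inf_le_left : (P : Subgroup G) ⊓ Subgroup.centralizer {g} ≤ _)).toEquiv]
      refine (Subgroup.card_dvd_of_le inf_le_right).trans ?_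
      rw [card_centralizer h hgN]
      exact Subgroup.card_subgroup_dvd_card _
    obtain ⟨i, hi⟩ := IsPGroup.iff_card.1 (P.isPGroup'.to_subgroup Cg)
    rw [hi] at h1
    have h2 := R.pow_dvd_card_of_pow_dvd_card h1
    rw [← hi] at h2
    have h3 : Nat.card (R : Subgroup (G ⧸ N)) * Nat.card P₀ = Nat.card (P : Subgroup G) := by
      have h4 : (π.comp (P : Subgroup G).subtype).ker = P₀.subgroupOf (P : Subgroup G) := by
        ext x
        rw [MonoidHom.mem_ker, Subgroup.mem_subgroupOf, MonoidHom.comp_apply, Subgroup.coe_subtype,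
          hπ, QuotientGroup.mk'_apply, QuotientGroup.eq_one_iff]
        exact ⟨fun h => ⟨h, x.2⟩, fun h => h.1⟩
      have h5 := (π.comp (P : Subgroup G).subtype).ker.index_mul_card
      rw [Subgroup.index_ker, MonoidHom.range_comp, Subgroup.range_subtype, h4,
        Nat.card_congr (Subgroup.subgroupOfEquivOfLe (inf_le_right : P₀ ≤ _)).toEquiv] at h5
      exact h5
    rw [Subgroup.card_eq_card_quotient_mul_card_subgroup Cg] at h3
    have h6 := Nat.le_of_dvd Nat.card_pos h2
    have h7 : 0 < Nat.card Cg := Nat.card_pos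
    nlinarith
  have hFsurj : Function.Surjective F :=
    (Nat.bijective_iff_injective_and_card F).2
      ⟨hFinj, le_antisymm (Nat.card_le_card_of_injective F hFinj) hFcard⟩ |>.2
  refine le_trans (fun n hn => ?_)
    (Subgroup.map_mono (PGroupsBasic.commutator_le_frattini P.isPGroup'))
  obtain ⟨x, hx⟩ := hFsurj ⟨n, hn⟩
  induction x using QuotientGroup.induction_on with
  | _ x =>
    have h1 : g⁻¹ * ((x : G) * g * (x : G)⁻¹) = n := congrArg Subtype.val hx
    refine ⟨⁅(⟨g, hgP⟩ : (P : Subgroup G))⁻¹, x⁆,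
      Subgroup.commutator_mem_commutator (Subgroup.mem_top _) (Subgroup.mem_top _), ?_⟩
    rw [← h1]
    simp [commutatorElement_def, mul_assoc]

/-- The trichotomy. -/
theorem main [Finite G] (N : Subgroup G) [N.Normal] (h : Cam N) :
    (∀ x ∈ N, x ≠ 1 → Subgroup.centralizer ({x} : Set G) ≤ N) ∨ IsPrimePow (Nat.card N) ∨
      IsPrimePow N.index := by
  classical
  refine or_iff_not_imp_left.2 fun hF => ?_
  refine or_iff_not_imp_left.2 fun hNp => by_contra fun hIp => ?_
  push Not at hF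
  obtain ⟨x, hx, hx1, hnle⟩ := hF
  obtain ⟨y, hyc, hyN⟩ := SetLike.not_le_iff_exists.1 hnle
  -- a prime dividing both orders
  obtain ⟨p, hp, hpd⟩ := Nat.exists_prime_and_dvd (n := orderOf (y : G ⧸ N))
    (fun e => hyN ((QuotientGroup.eq_one_iff y).1 (orderOf_eq_one_iff.1 e)))
  have := Fact.mk hp
  have hpi : p ∣ N.index := hpd.trans (orderOf_dvd_natCard _)
  set m := orderOf y / p ^ (orderOf y).factorization p with hm
  have hpm : ¬ p ∣ m := Nat.not_dvd_ordCompl hp (orderOf_pos y).ne'
  have hgN : y ^ m ∉ N := fun hmem => by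
    apply hpm
    refine hpd.trans (orderOf_dvd_of_pow_eq_one ?_)
    rw [← QuotientGroup.mk_pow]
    exact (QuotientGroup.eq_one_iff _).2 hmem
  have hpN : p ∣ Nat.card N := by
    by_contra hpN
    apply hx1
    refine eq_one_of_coprime h hgN hx
      ((show Commute y x from Subgroup.mem_centralizer_singleton_iff.1 hyc).pow_left m) ?_
    have hord : orderOf (y ^ m) ∣ p ^ (orderOf y).factorization p := orderOf_dvd_of_pow_eq_one (by
      rw [← pow_mul, hm, Nat.div_mul_cancel (Nat.ordProj_dvd _ _), pow_orderOf_eq_one])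
    refine Nat.Coprime.coprime_dvd_left hord (Nat.Coprime.pow_left _ (hp.coprime_iff_not_dvd.2 ?_))
    exact fun hd => hpN (hd.trans (Subgroup.orderOf_dvd_natCard N hx))
  obtain ⟨q, hq, hqN, hqp⟩ : ∃ q, q.Prime ∧ q ∣ Nat.card N ∧ q ≠ p := by
    by_contra hall
    push Not at hall
    refine hNp (isPrimePow_iff_unique_prime_dvd.2 ⟨p, ⟨hp, hpN⟩, fun r hr => hall r hr.1 hr.2⟩)
  obtain ⟨s, hs, hsi, hsp⟩ : ∃ s, s.Prime ∧ s ∣ N.index ∧ s ≠ p := by
    by_contra hall
    push Not at hall
    refine hIp (isPrimePow_iff_unique_prime_dvd.2 ⟨p, ⟨hp, hpi⟩, fun r hr => hall r hr.1 hr.2⟩)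
  by_cases hsN : s ∣ Nat.card N
  swap
  · exact not_dvd_index_of_nilpotent h (nilpotent_of_not_dvd h hs hsi hsN) hp hq hqp.symm hpN hqN hpi
  have := Fact.mk hs
  have hPp := TransferPResidual.hasNormalPComplement_iff_not_dvd.1 (hasNormalPComplement (p := p) h hpi)
  have hPs := TransferPResidual.hasNormalPComplement_iff_not_dvd.1 (hasNormalPComplement (p := s) h hsi)
  set Mp := (Cfsg.pResidual p N).map N.subtype with hMp
  set Ms := (Cfsg.pResidual s N).map N.subtype with hMs
  have : Mp.Normal := ConjAct.normal_of_characteristic_of_normal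
  have : Ms.Normal := ConjAct.normal_of_characteristic_of_normal
  set M := Mp ⊓ Ms with hMdef
  have hMn : M.Normal := inferInstance
  set π := QuotientGroup.mk' M with hπ
  have hMN : M ≤ N := inf_le_left.trans (Subgroup.map_subtype_le _)
  set N' := N.map π with hN'
  have : N'.Normal := (inferInstance : N.Normal).map π (QuotientGroup.mk'_surjective M)
  have hmemN : ∀ g, π g ∈ N' → g ∈ N := by
    rintro g ⟨n, hn, e⟩
    have h1 : n⁻¹ * g ∈ M := (QuotientGroup.eq (s := M)).1 e
    simpa using mul_mem hn (hMN h1)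
  have h' : Cam N' := by
    intro g hg n hn
    obtain ⟨g, rfl⟩ := QuotientGroup.mk'_surjective M g
    obtain ⟨n, hn, rfl⟩ := hn
    obtain ⟨c, hc⟩ := h g (fun hm => hg ⟨g, hm, rfl⟩) n hn
    exact ⟨π c, by rw [← map_inv, ← map_mul, ← map_mul, hc, map_mul]⟩
  have hidx : N'.index = N.index :=
    Subgroup.index_map_eq _ (QuotientGroup.mk'_surjective M) (by rwa [QuotientGroup.ker_mk'])
  have hcard : Nat.card N' * Nat.card M = Nat.card N := HallCore.card_map_mk'_mul M N hMN
  have hdiv : ∀ r : ℕ, r.Prime → r ∣ Nat.card N → ¬ r ∣ Nat.card M → r ∣ Nat.card N' := by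
    intro r hr hrN hrM
    rw [← hcard] at hrN
    exact (hr.dvd_mul.1 hrN).resolve_right hrM
  have hpM : ¬ p ∣ Nat.card M := fun hd => hPp (by
    have h1 := hd.trans (Subgroup.card_dvd_of_le (inf_le_left : M ≤ Mp))
    rwa [hMp, Subgroup.card_map_of_injective N.subtype_injective] at h1)
  have hsM : ¬ s ∣ Nat.card M := fun hd => hPs (by
    have h1 := hd.trans (Subgroup.card_dvd_of_le (inf_le_right : M ≤ Ms))
    rwa [hMs, Subgroup.card_map_of_injective N.subtype_injective] at h1)
  have hnil : Group.IsNilpotent N' := by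
    set Rp := Cfsg.pResidual p N
    set Rs := Cfsg.pResidual s N
    have := (TransferPResidual.isPGroup_quotient_pResidual (G := N) (p := p)).isNilpotent
    have := (TransferPResidual.isPGroup_quotient_pResidual (G := N) (p := s)).isNilpotent
    let f1 : N →* (N ⧸ Rp) × (N ⧸ Rs) := (QuotientGroup.mk' Rp).prod (QuotientGroup.mk' Rs)
    let f2 := π.subgroupMap N
    have hker : f1.ker = f2.ker := by
      ext w
      rw [MonoidHom.ker_prod, Subgroup.mem_inf, QuotientGroup.ker_mk', QuotientGroup.ker_mk',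
        MonoidHom.mem_ker, ← OneMemClass.coe_eq_one]
      show _ ↔ π (w : G) = 1
      rw [hπ, QuotientGroup.mk'_apply, QuotientGroup.eq_one_iff, hMdef, Subgroup.mem_inf, hMp, hMs]
      exact and_congr (Subgroup.mem_map_iff_mem N.subtype_injective).symm
        (Subgroup.mem_map_iff_mem N.subtype_injective).symm
    exact Group.nilpotent_of_surjective
      ((QuotientGroup.quotientKerEquivRange f1).symm.trans
        ((QuotientGroup.quotientMulEquivOfEq hker).trans
          (QuotientGroup.quotientKerEquivOfSurjective f2 (π.subgroupMap_surjective N)))).toMonoidHom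
      (MulEquiv.surjective _)
  exact not_dvd_index_of_nilpotent h' hnil hp hs hsp.symm (hdiv p hp hpN hpM) (hdiv s hs hsN hsM)
    (hidx ▸ hpi)

end Cfsg.Agent.FrobeniusCamina
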