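import Mathlib

/-!
A linear-algebra core for the Arad–Herzog property of `PSL_d`, `d ≥ 3`: the function
`Y ↦ tr (A Y)` on a non-central class takes both zero and non-zero values.
-/

set_option autoImplicit false

open scoped Matrix
open Matrix

namespace FrobeniusClassProduct

variable {K : Type*} [Field K] {d : ℕ}

/-- The matrix of an element of `SL`. -/
def mx (X : SpecialLinearGroup (Fin d) K) : Matrix (Fin d) (Fin d) K := X.1

theorem mx_mul (X Y : SpecialLinearGroup (Fin d) K) : mx (X * Y) = mx X * mx Y := rfl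

theorem mx_one : mx (1 : SpecialLinearGroup (Fin d) K) = 1 := rfl

/-- Membership of the `SL`-class of `B`. -/
def Cls (B Y : Matrix (Fin d) (Fin d) K) : Prop :=
  ∃ X : SpecialLinearGroup (Fin d) K,
    Y = (mx X) * B * (mx X⁻¹)

/-- The transvection `1 + u g`. -/
def trv (u g : Fin d → K) (h : g ⬝ᵥ u = 0) : SpecialLinearGroup (Fin d) K :=
  ⟨1 + vecMulVec u g, by
    rw [vecMulVec_eq Unit, det_one_add_replicateCol_mul_replicateRow, h, add_zero]⟩

theorem coe_trv_inv (u g : Fin d → K) (h : g ⬝ᵥ u = 0) :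
    (mx (trv u g h)⁻¹) =
      1 - vecMulVec u g := by
  have hNN : vecMulVec u g * vecMulVec u g = 0 := by
    rw [vecMulVec_mul_vecMulVec, h]; ext i j; simp [vecMulVec_apply]
  have h1 : (mx (trv u g h)) * (1 - vecMulVec u g) = 1 := by
    show (1 + vecMulVec u g) * (1 - vecMulVec u g) = 1
    rw [add_mul, mul_sub, mul_sub, one_mul, one_mul, mul_one, hNN, sub_zero, sub_add_cancel]
  have h2 : (mx (trv u g h)⁻¹) *
      (mx (trv u g h)) = 1 := by
    rw [← mx_mul, inv_mul_cancel, mx_one]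
  calc _ = (mx (trv u g h)⁻¹) *
        ((mx (trv u g h)) * (1 - vecMulVec u g)) := by rw [h1, mul_one]
    _ = _ := by rw [← mul_assoc, h2, one_mul]

theorem cls_conj {B Y : Matrix (Fin d) (Fin d) K} (hY : Cls B Y) (u g : Fin d → K)
    (h : g ⬝ᵥ u = 0) : Cls B ((1 + vecMulVec u g) * Y * (1 - vecMulVec u g)) := by
  obtain ⟨X, rfl⟩ := hY
  refine ⟨trv u g h * X, ?_⟩
  rw [_root_.mul_inv_rev, mx_mul, mx_mul, coe_trv_inv]
  show _ = (1 + vecMulVec u g) * _ * B * _
  simp only [mul_assoc]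

/-- Separating a vector from a subspace. -/
theorem exists_sep {W : Submodule K (Fin d → K)} {z : Fin d → K} (hz : z ∉ W) :
    ∃ g : Fin d → K, (∀ w ∈ W, g ⬝ᵥ w = 0) ∧ g ⬝ᵥ z = 1 := by
  obtain ⟨f, hf, hW⟩ := Submodule.exists_le_ker_of_notMem hz
  have hf' : ∀ v, (fun i => (f z)⁻¹ * f (Pi.single i 1)) ⬝ᵥ v = (f z)⁻¹ * f v := by
    intro v
    have hv : v = ∑ i, v i • (Pi.single i 1 : Fin d → K) := by
      funext j; simp [Finset.sum_apply, Pi.single_apply]
    conv_rhs => rw [hv]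
    simp only [map_sum, map_smul, smul_eq_mul, Finset.mul_sum, dotProduct]
    exact Finset.sum_congr rfl fun i _ => by ring
  exact ⟨_, fun w hw => by rw [hf', LinearMap.mem_ker.1 (hW hw), mul_zero],
    by rw [hf', inv_mul_cancel₀ hf]⟩

theorem exists_notMem_two {P Q : Submodule K (Fin d → K)} (hP : P ≠ ⊤) (hQ : Q ≠ ⊤) :
    ∃ z, z ∉ P ∧ z ∉ Q := by
  obtain ⟨a, -, ha⟩ := SetLike.exists_of_lt (lt_top_iff_ne_top.2 hP)
  obtain ⟨b, -, hb⟩ := SetLike.exists_of_lt (lt_top_iff_ne_top.2 hQ)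
  by_cases haQ : a ∈ Q
  swap
  · exact ⟨a, ha, haQ⟩
  by_cases hbP : b ∈ P
  swap
  · exact ⟨b, hbP, hb⟩
  exact ⟨a + b, fun h => ha ((Submodule.add_mem_iff_left P hbP).1 h),
    fun h => hb ((Submodule.add_mem_iff_right Q haQ).1 h)⟩

theorem sup_span_ne_top {W : Submodule K (Fin d → K)} (z : Fin d → K)
    (hW : Module.finrank K W + 1 < d) : W ⊔ Submodule.span K {z} ≠ ⊤ := by
  intro h
  have h1 := Submodule.finrank_add_le_finrank_add_finrank W (Submodule.span K {z})
  have h2 : Module.finrank K (Submodule.span K {z}) ≤ 1 := by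
    have := finrank_span_le_card (R := K) ({z} : Set (Fin d → K))
    simpa using this
  rw [h, finrank_top, Module.finrank_fin_fun] at h1
  omega

/-- Transitivity: fix `W` pointwise and move `x` to `y`. -/
theorem exists_move {W : Submodule K (Fin d → K)} (hW : Module.finrank K W + 1 < d)
    {x y : Fin d → K} (hx : x ∉ W) (hy : y ∉ W) :
    ∃ X : SpecialLinearGroup (Fin d) K,
      (∀ w ∈ W, (mx X) *ᵥ w = w) ∧
        (mx X) *ᵥ x = y := by
  have one : ∀ a b : Fin d → K, a ∉ W ⊔ Submodule.span K {b - a} →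
      ∃ X : SpecialLinearGroup (Fin d) K,
        (∀ w ∈ W, (mx X) *ᵥ w = w) ∧
          (mx X) *ᵥ a = b := by
    intro a b hab
    obtain ⟨g, hgW, hga⟩ := exists_sep hab
    refine ⟨trv (b - a) g (hgW _ (Submodule.mem_sup_right (Submodule.mem_span_singleton_self _))),
      fun w hw => ?_, ?_⟩
    · show (1 + vecMulVec (b - a) g) *ᵥ w = w
      rw [add_mulVec, one_mulVec, vecMulVec_mulVec, hgW w (Submodule.mem_sup_left hw)]
      simp
    · show (1 + vecMulVec (b - a) g) *ᵥ a = b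
      rw [add_mulVec, one_mulVec, vecMulVec_mulVec, hga]
      simp
  obtain ⟨z, hzx, hzy⟩ := exists_notMem_two (sup_span_ne_top x hW) (sup_span_ne_top y hW)
  have aux : ∀ a : Fin d → K, a ∉ W → z ∉ W ⊔ Submodule.span K {a} →
      a ∉ W ⊔ Submodule.span K {z - a} ∧ z ∉ W ⊔ Submodule.span K {a - z} := by
    intro a ha hza
    refine ⟨fun h => ?_, fun h => ?_⟩
    · obtain ⟨w, hw, t, ht, he⟩ := Submodule.mem_sup.1 h
      obtain ⟨k, rfl⟩ := Submodule.mem_span_singleton.1 ht
      by_cases hk : k = 0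
      · subst hk
        rw [zero_smul, add_zero] at he
        exact ha (he ▸ hw)
      · apply hza
        have : z = (1 + k⁻¹) • a - k⁻¹ • w := by
          have h1 : z - a = k⁻¹ • (a - w) := by
            rw [← inv_smul_smul₀ hk (z - a), eq_sub_of_add_eq' he]
          rw [sub_eq_iff_eq_add.1 h1]
          module
        rw [this]
        exact Submodule.sub_mem _
          (Submodule.mem_sup_right (Submodule.mem_span_singleton.2 ⟨_, rfl⟩))
          (Submodule.mem_sup_left (W.smul_mem _ hw))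
    · obtain ⟨w, hw, t, ht, he⟩ := Submodule.mem_sup.1 h
      obtain ⟨k, rfl⟩ := Submodule.mem_span_singleton.1 ht
      by_cases hk : 1 + k = 0
      · apply ha
        have : a = w := by
          have hk' : k = -1 := by linear_combination hk
          rw [hk', neg_one_smul, neg_sub] at he
          have := eq_sub_of_add_eq he
          rw [sub_sub_cancel] at this
          exact this.symm
        exact this ▸ hw
      · apply hza
        have h' : (1 + k) • z = w + k • a := by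
          rw [add_smul, one_smul]
          nth_rw 1 [← he]
          rw [smul_sub]
          abel
        rw [← inv_smul_smul₀ hk z, h', smul_add]
        exact Submodule.add_mem _ (Submodule.mem_sup_left (W.smul_mem _ hw))
          (Submodule.mem_sup_right (by
            rw [smul_smul]; exact Submodule.mem_span_singleton.2 ⟨_, rfl⟩))
  obtain ⟨X₁, hX₁W, hX₁⟩ := one x z (aux x hx hzx).1
  obtain ⟨X₂, hX₂W, hX₂⟩ := one z y (aux y hy hzy).2
  refine ⟨X₂ * X₁, fun w hw => ?_, ?_⟩ <;>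
    rw [mx_mul, ← mulVec_mulVec]
  · rw [hX₁W w hw, hX₂W w hw]
  · rw [hX₁, hX₂]

theorem exists_not_eigen {A : Matrix (Fin d) (Fin d) K}
    (hA : ∀ k : K, A ≠ k • (1 : Matrix (Fin d) (Fin d) K)) :
    ∃ u : Fin d → K, A *ᵥ u ∉ Submodule.span K {u} := by
  by_contra! h
  obtain ⟨i0⟩ : Nonempty (Fin d) := by
    by_contra hne
    exact hA 0 (Matrix.ext fun i => absurd ⟨i⟩ hne)
  choose c hc using fun u => Submodule.mem_span_singleton.1 (h u)
  refine hA (c (Pi.single i0 1)) (Matrix.ext fun i j => ?_)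
  have ej : ∀ a b : Fin d, A a b = if a = b then c (Pi.single b 1) else 0 := by
    intro a b
    have := congrFun (hc (Pi.single b 1)) a
    simp [Pi.single_apply] at this
    rw [← this]
  have hdiag : c (Pi.single j 1) = c (Pi.single i0 1) := by
    by_cases hj : j = i0
    · rw [hj]
    have := hc (Pi.single i0 1 + Pi.single j 1)
    rw [mulVec_add, ← hc, ← hc] at this
    have e1 := congrFun this i0
    have e2 := congrFun this j
    simp [hj, Ne.symm hj] at e1 e2
    rw [← e1, ← e2]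
  rw [ej]
  simp [one_apply, hdiag]

theorem core (hd : 3 ≤ d) {A B : Matrix (Fin d) (Fin d) K}
    (hA : ∀ k : K, A ≠ k • (1 : Matrix (Fin d) (Fin d) K))
    (hB : ∀ k : K, B ≠ k • (1 : Matrix (Fin d) (Fin d) K)) :
    (∃ Y, Cls B Y ∧ (A * Y).trace = 0) ∧ ∃ Y, Cls B Y ∧ (A * Y).trace ≠ 0 := by
  by_contra hcon
  have hC : (∀ Y, Cls B Y → (A * Y).trace = 0) ∨ ∀ Y, Cls B Y → (A * Y).trace ≠ 0 := by
    by_contra! h
    exact hcon ⟨h.2, h.1⟩
  -- the first variation vanishes
  have L1 : ∀ Y, Cls B Y → ∀ u g : Fin d → K, g ⬝ᵥ u = 0 → g ⬝ᵥ (Y *ᵥ u) = 0 →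
      g ⬝ᵥ (Y *ᵥ (A *ᵥ u)) = g ⬝ᵥ (A *ᵥ (Y *ᵥ u)) := by
    intro Y hY u g hu hYu
    have hexp : ∀ t : K, (A * ((1 + vecMulVec (t • u) g) * Y * (1 - vecMulVec (t • u) g))).trace =
        (A * Y).trace + t * (g ⬝ᵥ (Y *ᵥ (A *ᵥ u)) - g ⬝ᵥ (A *ᵥ (Y *ᵥ u))) := by
      intro t
      have h3 : Y * vecMulVec (t • u) g = vecMulVec (t • (Y *ᵥ u)) g := by
        rw [mul_vecMulVec, mulVec_smul]
      have h4 : vecMulVec (t • u) g * (Y * vecMulVec (t • u) g) = 0 := by
        rw [h3, vecMulVec_mul_vecMulVec, dotProduct_smul, hYu, smul_zero]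
        ext i j; simp [vecMulVec_apply]
      rw [add_mul, add_mul, mul_sub, mul_sub, one_mul, mul_one, mul_one, mul_assoc _ Y _, h4,
        sub_zero, mul_add, mul_sub, h3, trace_add, trace_sub]
      have e1 : (A * (vecMulVec (t • u) g * Y)).trace = t * (g ⬝ᵥ (Y *ᵥ (A *ᵥ u))) := by
        rw [vecMulVec_mul, mul_vecMulVec, trace_vecMulVec, dotProduct_comm, ← dotProduct_mulVec,
          mulVec_smul, mulVec_smul, dotProduct_smul, smul_eq_mul]
      have e2 : (A * vecMulVec (t • (Y *ᵥ u)) g).trace = t * (g ⬝ᵥ (A *ᵥ (Y *ᵥ u))) := by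
        rw [mul_vecMulVec, trace_vecMulVec, dotProduct_comm, mulVec_smul, dotProduct_smul,
          smul_eq_mul]
      rw [e1, e2]
      ring
    have hin : ∀ t : K, Cls B ((1 + vecMulVec (t • u) g) * Y * (1 - vecMulVec (t • u) g)) :=
      fun t => cls_conj hY _ _ (by rw [dotProduct_smul, hu, smul_zero])
    rcases hC with hC | hC
    · have := hC _ (hin 1)
      rw [hexp, hC Y hY, zero_add, one_mul, sub_eq_zero] at this
      exact this
    · by_contra hne
      apply hC _ (hin (-(A * Y).trace / (g ⬝ᵥ (Y *ᵥ (A *ᵥ u)) - g ⬝ᵥ (A *ᵥ (Y *ᵥ u)))))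
      rw [hexp, div_mul_cancel₀ _ (sub_ne_zero.2 hne), add_neg_cancel]
  have L2 : ∀ Y, Cls B Y → ∀ u w, Y *ᵥ u = w →
      Y *ᵥ (A *ᵥ u) - A *ᵥ w ∈ Submodule.span K {u, w} := by
    intro Y hY u w huw
    by_contra hz
    obtain ⟨g, hgW, hg⟩ := exists_sep hz
    rw [dotProduct_sub, ← huw, L1 Y hY u g (hgW u (Submodule.subset_span (Or.inl rfl)))
      (by rw [huw]; exact hgW w (Submodule.subset_span (Or.inr rfl))), sub_self] at hg
    exact zero_ne_one hg
  -- a hyperplane containing `u, w` and missing `A u` is mapped into `span {u, w}`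
  have L3 : ∀ Y, Cls B Y → ∀ u w h : Fin d → K, Y *ᵥ u = w → h ⬝ᵥ u = 0 → h ⬝ᵥ w = 0 →
      h ⬝ᵥ (A *ᵥ u) = 1 → ∀ e, h ⬝ᵥ e = 0 →
        Y *ᵥ e - (h ⬝ᵥ (Y *ᵥ (A *ᵥ u))) • e ∈ Submodule.span K {u, w} := by
    intro Y hY u w h huw hu hw hAu e he
    have hY' := cls_conj hY e h he
    have hW' : ((1 + vecMulVec e h) * Y * (1 - vecMulVec e h)) *ᵥ u = w := by
      simp [← mulVec_mulVec, sub_mulVec, add_mulVec, vecMulVec_mulVec, hu, hw, huw]
    have h1 := L2 _ hY' u w hW'
    have h2 := L2 Y hY u w huw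
    have h3 := Submodule.sub_mem _ h2 h1
    have e1 : ((1 + vecMulVec e h) * Y * (1 - vecMulVec e h)) *ᵥ (A *ᵥ u) =
        Y *ᵥ (A *ᵥ u) - Y *ᵥ e +
          (h ⬝ᵥ (Y *ᵥ (A *ᵥ u)) - h ⬝ᵥ (Y *ᵥ e)) • e := by
      rw [← mulVec_mulVec, ← mulVec_mulVec, sub_mulVec, one_mulVec, vecMulVec_mulVec, hAu,
        mulVec_sub, add_mulVec, one_mulVec, vecMulVec_mulVec, dotProduct_sub]
      simp [mulVec_smul, ← MulOpposite.op_sub]
    rw [e1] at h3
    have h4 : Y *ᵥ e - (h ⬝ᵥ (Y *ᵥ (A *ᵥ u)) - h ⬝ᵥ (Y *ᵥ e)) • e ∈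
        Submodule.span K {u, w} := by
      convert h3 using 1; abel
    have hPh : ∀ v ∈ Submodule.span K {u, w}, h ⬝ᵥ v = 0 := by
      intro v hv
      obtain ⟨a, b, rfl⟩ := Submodule.mem_span_pair.1 hv
      simp [hu, hw]
    have h5 := hPh _ h4
    rw [dotProduct_sub, dotProduct_smul, he, smul_zero, sub_zero] at h5
    rwa [h5, sub_zero] at h4
  obtain ⟨u, hAu⟩ := exists_not_eigen hA
  have hu0 : u ≠ 0 := by rintro rfl; simp at hAu
  by_cases heig : ∃ (r : K) (x : Fin d → K), x ≠ 0 ∧ B *ᵥ x = r • x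
  · obtain ⟨r, x0, hx0, hrx0⟩ := heig
    have him : ∀ x : Fin d → K, x ≠ 0 → B *ᵥ x = r • x →
        ∀ y, B *ᵥ y - r • y ∈ Submodule.span K {x} := by
      intro x hx hrx y
      obtain ⟨X, -, hXx⟩ := exists_move (W := ⊥) (by rw [finrank_bot]; omega)
        (x := x) (y := u) (by simpa using hx) (by simpa using hu0)
      set Xi : Matrix (Fin d) (Fin d) K :=
        (mx X⁻¹) with hXi
      have hXiX : Xi * (mx X) = 1 := by
        rw [hXi, ← mx_mul, inv_mul_cancel, mx_one]
      set Y := (mx X) * B * Xi with hYdef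
      have hY : Cls B Y := ⟨X, rfl⟩
      have hXu : Xi *ᵥ u = x := by rw [← hXx, mulVec_mulVec, hXiX, one_mulVec]
      have hYu : Y *ᵥ u = r • u := by
        rw [hYdef, ← mulVec_mulVec, hXu, ← mulVec_mulVec, hrx, mulVec_smul, hXx]
      obtain ⟨h, hhW, hh⟩ := exists_sep hAu
      have hhu : h ⬝ᵥ u = 0 := hhW u (Submodule.mem_span_singleton_self u)
      have hPu : Submodule.span K {u, r • u} ≤ Submodule.span K {u} := by
        rw [Submodule.span_le]
        rintro v (rfl | rfl)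
        exacts [Submodule.mem_span_singleton_self _, Submodule.mem_span_singleton.2 ⟨r, rfl⟩]
      have h2 := hPu (L2 Y hY u _ hYu)
      rw [mulVec_smul] at h2
      have hk : h ⬝ᵥ (Y *ᵥ (A *ᵥ u)) = r := by
        have := hhW _ h2
        rw [dotProduct_sub, dotProduct_smul, hh, sub_eq_zero] at this
        simpa using this
      have hall : ∀ z, Y *ᵥ z - r • z ∈ Submodule.span K {u} := by
        intro z
        have h3 := hPu (L3 Y hY u _ h hYu hhu (by rw [dotProduct_smul, hhu, smul_zero]) hh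
          (z - (h ⬝ᵥ z) • (A *ᵥ u))
          (by rw [dotProduct_sub, dotProduct_smul, hh, smul_eq_mul, mul_one, sub_self]))
        rw [hk] at h3
        have h4 := Submodule.add_mem _ h3 (Submodule.smul_mem _ (h ⬝ᵥ z) h2)
        convert h4 using 1
        rw [mulVec_sub, mulVec_smul]
        module
      have h5 := hall ((mx X) *ᵥ y)
      obtain ⟨k, hk'⟩ := Submodule.mem_span_singleton.1 h5
      refine Submodule.mem_span_singleton.2 ⟨k, ?_⟩
      have h6 := congrArg (Xi *ᵥ ·) hk'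
      simp only [mulVec_smul, mulVec_sub, hXu, mulVec_mulVec] at h6
      rw [h6, hYdef, hXiX]
      simp only [mul_assoc]
      rw [hXiX, mul_one, ← mul_assoc Xi, hXiX, one_mul, one_mulVec]
    let N := (B - r • (1 : Matrix (Fin d) (Fin d) K)).mulVecLin
    have hN : ∀ y, N y = B *ᵥ y - r • y := fun y => by
      simp [N, sub_mulVec, smul_mulVec]
    have hrange : LinearMap.range N ≤ Submodule.span K {x0} := by
      rintro _ ⟨y, rfl⟩; rw [hN]; exact him x0 hx0 hrx0 y
    obtain ⟨x1, hx1, hx10⟩ : ∃ x1 ∈ LinearMap.ker N, x1 ∉ Submodule.span K {x0} := by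
      by_contra! h
      have h1 : Module.finrank K (Submodule.span K {x0}) = 1 := finrank_span_singleton hx0
      have h2 := Submodule.finrank_mono hrange
      have h3 : Module.finrank K (LinearMap.ker N) ≤ 1 := h1 ▸ Submodule.finrank_mono h
      have h4 := LinearMap.finrank_range_add_finrank_ker N
      rw [Module.finrank_fin_fun] at h4
      omega
    have hx1' : B *ᵥ x1 = r • x1 := by
      rw [LinearMap.mem_ker, hN] at hx1; exact sub_eq_zero.1 hx1
    have hx1ne : x1 ≠ 0 := fun h => hx10 (h ▸ Submodule.zero_mem _)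
    refine hB r (ext_iff_mulVec.2 fun y => ?_)
    obtain ⟨k, hk⟩ := Submodule.mem_span_singleton.1 (him x1 hx1ne hx1' y)
    rw [smul_mulVec, one_mulVec, ← sub_eq_zero, ← hk]
    by_cases hk0 : k = 0
    · rw [hk0, zero_smul]
    · exfalso; apply hx10
      have := him x0 hx0 hrx0 y
      rw [← hk] at this
      exact (Submodule.smul_mem_iff _ hk0).1 this
  · push Not at heig
    obtain ⟨x, hBx⟩ := exists_not_eigen hB
    have hx0 : x ≠ 0 := by rintro rfl; simp at hBx
    obtain ⟨w, -, hw⟩ : ∃ w ∈ (⊤ : Submodule K (Fin d → K)),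
        w ∉ Submodule.span K {u, A *ᵥ u} := by
      refine SetLike.exists_of_lt (lt_top_iff_ne_top.2 ?_)
      rw [Submodule.span_insert, sup_comm]
      refine sup_comm (Submodule.span K {A *ᵥ u}) _ ▸ sup_span_ne_top _ ?_
      rw [finrank_span_singleton hu0]; omega
    have hwu : w ∉ Submodule.span K {u} := fun h =>
      hw (Submodule.span_mono (by simp) h)
    have hAuP : A *ᵥ u ∉ Submodule.span K {u, w} := by
      intro h
      obtain ⟨a, b, hab⟩ := Submodule.mem_span_pair.1 h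
      by_cases hb : b = 0
      · subst hb
        exact hAu (Submodule.mem_span_singleton.2 ⟨a, by simpa using hab⟩)
      · apply hw
        refine Submodule.mem_span_pair.2 ⟨-(b⁻¹ * a), b⁻¹, ?_⟩
        rw [← hab, smul_add, smul_smul, smul_smul, inv_mul_cancel₀ hb]
        module
    obtain ⟨X1, -, hX1⟩ := exists_move (W := ⊥) (by rw [finrank_bot]; omega)
      (x := x) (y := u) (by simpa using hx0) (by simpa using hu0)
    have hX1B : (mx X1) *ᵥ (B *ᵥ x) ∉ Submodule.span K {u} := by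
      intro h
      obtain ⟨k, hk⟩ := Submodule.mem_span_singleton.1 h
      apply hBx
      refine Submodule.mem_span_singleton.2 ⟨k, ?_⟩
      have h6 := congrArg (mx X1⁻¹ *ᵥ ·) hk
      simp only [mulVec_smul, ← hX1, mulVec_mulVec, ← mx_mul,
        inv_mul_cancel, mx_one, one_mulVec] at h6
      rw [h6, ← mul_assoc, ← mx_mul, inv_mul_cancel,
        mx_one, one_mul]
    obtain ⟨X2, hX2u, hX2⟩ := exists_move (W := Submodule.span K {u})
      (by rw [finrank_span_singleton hu0]; omega) hX1B hwu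
    have hY : Cls B ((mx (X2 * X1)) * B *
        (mx (X2 * X1)⁻¹)) := ⟨_, rfl⟩
    set Y := (mx (X2 * X1)) * B *
        (mx (X2 * X1)⁻¹) with hYdef
    have hXx : (mx (X2 * X1)) *ᵥ x = u := by
      rw [mx_mul, ← mulVec_mulVec, hX1,
        hX2u u (Submodule.mem_span_singleton_self u)]
    have hYu : Y *ᵥ u = w := by
      rw [hYdef, ← hXx, mulVec_mulVec, mul_assoc, ← mx_mul, inv_mul_cancel,
        mx_one, mul_one, ← mulVec_mulVec, mx_mul,
        ← mulVec_mulVec, hX2]
    have heigY : ∀ (r : K) (z : Fin d → K), z ≠ 0 → Y *ᵥ z ≠ r • z := by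
      intro r z hz h
      have hinv : (mx (X2 * X1)⁻¹) *
          (mx (X2 * X1)) = 1 := by
        rw [← mx_mul, inv_mul_cancel, mx_one]
      refine heig r (mx (X2 * X1)⁻¹ *ᵥ z)
        (fun h0 => hz ?_) ?_
      · have h' := congrArg
          ((mx (X2 * X1)) *ᵥ ·) h0
        simpa only [mulVec_mulVec, ← mx_mul, mul_inv_cancel,
          mx_one, one_mulVec, mulVec_zero] using h'
      · rw [← mulVec_smul, ← h, hYdef, mulVec_mulVec, mulVec_mulVec, ← mul_assoc, ← mul_assoc,
          hinv, one_mul]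
    obtain ⟨h, hhP, hh⟩ := exists_sep hAuP
    have hu' : h ⬝ᵥ u = 0 := hhP u (Submodule.subset_span (Or.inl rfl))
    have hw' : h ⬝ᵥ w = 0 := hhP w (Submodule.subset_span (Or.inr rfl))
    set k := h ⬝ᵥ (Y *ᵥ (A *ᵥ u))
    let N := (Y - k • (1 : Matrix (Fin d) (Fin d) K)).mulVecLin
    have hN : ∀ z, N z = Y *ᵥ z - k • z := fun z => by simp [N, sub_mulVec, smul_mulVec]
    have hNinj : Function.Injective N := by
      rw [injective_iff_map_eq_zero]
      intro z hz
      by_contra hne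
      rw [hN, sub_eq_zero] at hz
      exact heigY k z hne hz
    have hNP : ∀ z, h ⬝ᵥ z = 0 → N z ∈ Submodule.span K {u, w} := fun z hz => by
      rw [hN]; exact L3 Y hY u w h hYu hu' hw' hh z hz
    obtain ⟨e, heP, heN⟩ : ∃ e, e ∉ Submodule.span K {u, w} ∧ N e ∈ Submodule.span K {u, w} := by
      by_cases hall : ∀ z, h ⬝ᵥ z = 0 → z ∈ Submodule.span K {u, w}
      · refine ⟨A *ᵥ u, hAuP, hall _ ?_⟩
        rw [hN, dotProduct_sub, dotProduct_smul, hh, smul_eq_mul, mul_one, sub_self]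
      · push Not at hall
        obtain ⟨e, he, heP⟩ := hall
        exact ⟨e, heP, hNP e he⟩
    have hmaps : ∀ z ∈ Submodule.span K {u, w}, N z ∈ Submodule.span K {u, w} := fun z hz =>
      hNP z (hhP z hz)
    have hsurj : Function.Surjective (N.restrict hmaps) :=
      LinearMap.surjective_of_injective fun a b hab =>
        Subtype.ext (hNinj (congrArg Subtype.val hab))
    obtain ⟨q, hq⟩ := hsurj ⟨N e, heN⟩
    exact heP (hNinj (congrArg Subtype.val hq) ▸ q.2)

end FrobeniusClassProduct
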