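import Mathlib
import Cfsg.Prelude.Def_Solvable
import Cfsg.Agent.Lib.FrobeniusBasic
import Cfsg.Agent.Lib.FrobeniusFPF

/-!
The kernel of a Frobenius complement of even order, and square orders under quaternion-type actions.
-/

set_option autoImplicit false

namespace Cfsg.Agent.FrobeniusEven

open scoped Pointwise
open Cfsg.Agent.FrobeniusBasic

variable {G : Type*} [Group G] [Finite G] {H : Subgroup G}

theorem inverted_of_product {t s : G} (ht2 : t * t = 1) (hs2 : s * s = 1) :
    t * (t * s) * t⁻¹ = (t * s)⁻¹ := by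
  have h1 : t⁻¹ = t := inv_eq_of_mul_eq_one_right ht2
  have h2 : s⁻¹ = s := inv_eq_of_mul_eq_one_right hs2
  rw [h1, mul_inv_rev, h1, h2, ← mul_assoc t t s, ht2, one_mul]

theorem mem_kernel_product (hH : Cfsg.IsFrobeniusComplement H) {t : G} (ht : t ∈ H) (ht1 : t ≠ 1)
    (ht2 : t * t = 1) {g : G} (hg : g ∉ H) : t * (g * t * g⁻¹) ∈ Cfsg.frobeniusKernel H := by
  set s := g * t * g⁻¹ with hs
  have hs2 : s * s = 1 := by
    have : s * s = g * (t * t) * g⁻¹ := by rw [hs]; group
    rw [this, ht2]; group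
  set k := t * s with hk
  by_cases hk1 : k = 1
  · rw [hk1]; exact one_mem_kernel H
  refine Or.inr fun a ha => hg ?_
  rw [mem_conj_smul_iff] at ha
  -- `t` inverts `k`, so it lies in the conjugate containing `k`
  have hinv := inverted_of_product ht2 hs2
  rw [← hk] at hinv
  have hne : a⁻¹ * k * a ≠ 1 := by
    intro h
    exact hk1 (by simpa [mul_assoc] using congrArg (fun z => a * z * a⁻¹) h)
  have hta : a⁻¹ * t * a ∈ H := by
    refine mem_of_conj_mem' hH ha hne ?_
    have : a⁻¹ * t * a * (a⁻¹ * k * a) * (a⁻¹ * t * a)⁻¹ = a⁻¹ * (t * k * t⁻¹) * a := by group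
    rw [this, hinv]
    have : a⁻¹ * k⁻¹ * a = (a⁻¹ * k * a)⁻¹ := by group
    rw [this]
    exact H.inv_mem ha
  have haH : a ∈ H := mem_of_conj_mem hH ht ht1 hta
  have hsH : s ∈ H := by
    have hkH : k ∈ H := by
      have : k = a * (a⁻¹ * k * a) * a⁻¹ := by group
      rw [this]
      exact H.mul_mem (H.mul_mem haH ha) (H.inv_mem haH)
    have : s = t⁻¹ * k := by rw [hk]; group
    rw [this]
    exact H.mul_mem (H.inv_mem ht) hkH
  exact mem_of_conj_mem' hH ht ht1 hsH

/-- A Frobenius complement with an involution has an abelian normal complement equal to the kernel. -/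
theorem exists_kernel (hH : Cfsg.IsFrobeniusComplement H) {t : G} (ht : t ∈ H) (ht1 : t ≠ 1)
    (ht2 : t * t = 1) :
    ∃ K : Subgroup G, (K : Set G) = Cfsg.frobeniusKernel H ∧ K.Normal ∧ Subgroup.IsComplement' K H ∧
      IsMulCommutative K ∧ ∀ k ∈ K, t * k * t⁻¹ = k⁻¹ := by
  classical
  let f : G ⧸ H → G := fun q => if q.out ∈ H then 1 else t * (q.out * t * q.out⁻¹)
  have hconj2 : ∀ g : G, g * t * g⁻¹ * (g * t * g⁻¹) = 1 := by
    intro g
    have : g * t * g⁻¹ * (g * t * g⁻¹) = g * (t * t) * g⁻¹ := by group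
    rw [this, ht2]; group
  have hmem : ∀ q, f q ∈ Cfsg.frobeniusKernel H := fun q => by
    simp only [f]
    split
    · exact one_mem_kernel H
    · exact mem_kernel_product hH ht ht1 ht2 ‹_›
  have hinv : ∀ q, t * f q * t⁻¹ = (f q)⁻¹ := fun q => by
    simp only [f]
    split
    · simp
    · exact inverted_of_product ht2 (hconj2 _)
  have hsame : ∀ a b : G, a * t * a⁻¹ = b * t * b⁻¹ → a⁻¹ * b ∈ H := by
    intro a b h
    refine mem_of_conj_mem' hH ht ht1 ?_
    have : a⁻¹ * b * t * (a⁻¹ * b)⁻¹ = a⁻¹ * (b * t * b⁻¹) * a := by group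
    rw [this, ← h]
    simpa [mul_assoc] using ht
  have hne : ∀ g : G, g ∉ H → t * (g * t * g⁻¹) ≠ 1 := by
    intro g hg h
    refine hg (mem_of_conj_mem' hH ht ht1 ?_)
    rw [← eq_inv_of_mul_eq_one_right h |>.symm]
    exact H.inv_mem ht
  have hinj : Function.Injective f := by
    intro q r hqr
    simp only [f] at hqr
    rw [← QuotientGroup.out_eq' q, ← QuotientGroup.out_eq' r, QuotientGroup.eq]
    split at hqr <;> split at hqr
    · exact H.mul_mem (H.inv_mem ‹_›) ‹_›
    · exact absurd hqr.symm (hne _ ‹_›)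
    · exact absurd hqr (hne _ ‹_›)
    · exact hsame _ _ (mul_left_cancel hqr)
  have hrange : Set.range f = Cfsg.frobeniusKernel H := by
    refine Set.eq_of_subset_of_ncard_le (Set.range_subset_iff.mpr hmem) ?_
    rw [card_frobeniusKernel hH, Set.ncard_range_of_injective hinj]
    rfl
  have hinvK : ∀ k ∈ Cfsg.frobeniusKernel H, t * k * t⁻¹ = k⁻¹ := by
    intro k hk
    rw [← hrange] at hk
    obtain ⟨q, rfl⟩ := hk
    exact hinv q
  have hinvmem : ∀ k ∈ Cfsg.frobeniusKernel H, k⁻¹ ∈ Cfsg.frobeniusKernel H := fun k hk =>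
    hinvK k hk ▸ (conj_mem_kernel_iff H t k).mpr hk
  have hdiv : ∀ x ∈ Cfsg.frobeniusKernel H, ∀ y ∈ Cfsg.frobeniusKernel H,
      x⁻¹ * y ∈ Cfsg.frobeniusKernel H := by
    intro x hx y hy
    by_cases hx1 : x = 1
    · simpa [hx1] using hy
    by_cases hy1 : y = 1
    · simpa [hy1] using hinvmem x hx
    rw [← hrange] at hx hy
    obtain ⟨q, rfl⟩ := hx
    obtain ⟨r, rfl⟩ := hy
    simp only [f] at hx1 hy1 ⊢
    split at hx1
    · exact absurd rfl hx1
    split at hy1
    · exact absurd rfl hy1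
    rw [if_neg ‹_›, if_neg ‹_›]
    by_cases hab : q.out⁻¹ * r.out ∈ H
    · have : q = r := by rw [← QuotientGroup.out_eq' q, ← QuotientGroup.out_eq' r, QuotientGroup.eq]; exact hab
      subst this
      rw [inv_mul_cancel]
      exact one_mem_kernel H
    · have hi : t⁻¹ = t := inv_eq_of_mul_eq_one_right ht2
      have := (conj_mem_kernel_iff H q.out _).mpr (mem_kernel_product hH ht ht1 ht2 hab)
      convert this using 1
      have e : (t * (q.out * t * q.out⁻¹))⁻¹ * (t * (r.out * t * r.out⁻¹))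
          = q.out * t⁻¹ * q.out⁻¹ * (r.out * t * r.out⁻¹) := by group
      rw [e, hi]
      group
  let K : Subgroup G :=
    { carrier := Cfsg.frobeniusKernel H
      one_mem' := one_mem_kernel H
      mul_mem' := fun {x y} hx hy => by
        have := hdiv _ (hinvmem x hx) y hy
        rwa [inv_inv] at this
      inv_mem' := fun {x} hx => hinvmem x hx }
  have hKeq : (K : Set G) = Cfsg.frobeniusKernel H := rfl
  refine ⟨K, hKeq, normal_of_eq_kernel hKeq, isComplement_of_eq_kernel hH hKeq, ?_, hinvK⟩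
  refine ⟨⟨fun a b => Subtype.ext ?_⟩⟩
  have h1 := hinvK _ (K.mul_mem a.2 b.2)
  have h2 := hinvK _ a.2
  have h3 := hinvK _ b.2
  have : ((a : G) * b)⁻¹ = (a : G)⁻¹ * (b : G)⁻¹ := by
    rw [← h1, ← h2, ← h3]; group
  show (a : G) * b = b * a
  have := congrArg (fun z => z⁻¹) this
  simpa [mul_inv_rev] using this

/-! ### Quaternion-type pairs of automorphisms force square order -/

theorem even_finrank {F V : Type*} [Field F] [AddCommGroup V] [Module F V] [FiniteDimensional F V]
    (h2 : (2 : F) ≠ 0) (i j : V →ₗ[F] V) (hi : ∀ v, i (i v) = -v) (hij : ∀ v, i (j v) = -j (i v))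
    (hj : ∀ v, j (j v) = -v) : Even (Module.finrank F V) := by
  have hdi : ∀ e : V →ₗ[F] V, (∀ v, e (e v) = -v) → LinearMap.det e ≠ 0 := by
    intro e he h0
    have h : e.comp e = (-1 : F) • LinearMap.id := LinearMap.ext fun v => by simp [he v]
    have := congrArg LinearMap.det h
    rw [LinearMap.det_comp, h0, LinearMap.det_smul, LinearMap.det_id, zero_mul, mul_one] at this
    exact pow_ne_zero _ (by norm_num) this.symm
  have h : i.comp j = (-1 : F) • j.comp i := LinearMap.ext fun v => by simp [hij v]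
  have hd := congrArg LinearMap.det h
  rw [LinearMap.det_comp, LinearMap.det_smul, LinearMap.det_comp, mul_comm (LinearMap.det i)] at hd
  have hpow : (-1 : F) ^ Module.finrank F V = 1 :=
    mul_right_cancel₀ (mul_ne_zero (hdi j hj) (hdi i hi)) (by rw [one_mul]; exact hd.symm)
  by_contra hodd
  rw [Nat.not_even_iff_odd] at hodd
  rw [hodd.neg_one_pow] at hpow
  exact h2 (by linear_combination -hpow)

theorem card_eq_sq {p : ℕ} [Fact p.Prime] {V : Type*} [AddCommGroup V] [Module (ZMod p) V] [Finite V]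
    (h2 : (2 : ZMod p) ≠ 0) (f g : V →+ V) (hf : ∀ v, f (f v) = -v) (hfg : ∀ v, f (g v) = -g (f v))
    (hg : ∀ v, g (g v) = -v) : ∃ d, Nat.card V = p ^ d * p ^ d := by
  have : Module.Finite (ZMod p) V := Module.Finite.of_finite
  obtain ⟨d, hd⟩ := even_finrank h2 (f.toZModLinearMap p) (g.toZModLinearMap p) hf hfg hg
  exact ⟨d, by rw [← pow_add, ← hd, Module.natCard_eq_pow_finrank (K := ZMod p) (V := V), Nat.card_zmod]⟩

theorem isSquare_card : ∀ (n : ℕ) (A : Type*) [CommGroup A] [Finite A], Nat.card A = n → Odd n →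
    ∀ i j : A →* A, (∀ a, i (i a) = a⁻¹) → (∀ a, j (j a) = a⁻¹) → (∀ a, i (j a) = (j (i a))⁻¹) →
    IsSquare n := by
  intro n
  induction n using Nat.strong_induction_on with
  | _ n ih =>
    intro A _ _ hn hodd i j hi hj hij
    rcases eq_or_ne n 1 with rfl | hn1
    · exact ⟨1, rfl⟩
    obtain ⟨p, hp, hpd⟩ := Nat.exists_prime_and_dvd hn1
    have : Fact p.Prime := ⟨hp⟩
    let B : Subgroup A := (powMonoidHom p : A →* A).ker
    have hB : ∀ x, x ∈ B ↔ x ^ p = 1 := fun x => by simp [B, MonoidHom.mem_ker]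
    let iB : B →* B := (i.comp B.subtype).codRestrict B fun x => by
      rw [hB, MonoidHom.comp_apply, ← map_pow, ← map_pow, show x ^ p = 1 from Subtype.ext ((hB _).mp x.2), map_one, map_one]
    let jB : B →* B := (j.comp B.subtype).codRestrict B fun x => by
      rw [hB, MonoidHom.comp_apply, ← map_pow, ← map_pow, show x ^ p = 1 from Subtype.ext ((hB _).mp x.2), map_one, map_one]
    have hp2 : p ≠ 2 := fun h => hodd.not_two_dvd_nat (h ▸ hpd)
    have h2 : (2 : ZMod p) ≠ 0 := by
      intro h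
      have h' : ((2 : ℕ) : ZMod p) = 0 := by exact_mod_cast h
      exact hp2 ((Nat.prime_dvd_prime_iff_eq hp Nat.prime_two).mp ((ZMod.natCast_eq_zero_iff 2 p).mp h'))
    have hiA : ∀ v : Additive B, MonoidHom.toAdditive iB (MonoidHom.toAdditive iB v) = -v := fun v =>
      Additive.toMul.injective (Subtype.ext (hi (v.toMul : A)))
    have hijA : ∀ v : Additive B, MonoidHom.toAdditive iB (MonoidHom.toAdditive jB v) =
        -MonoidHom.toAdditive jB (MonoidHom.toAdditive iB v) := fun v =>
      Additive.toMul.injective (Subtype.ext (hij (v.toMul : A)))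
    have hjA : ∀ v : Additive B, MonoidHom.toAdditive jB (MonoidHom.toAdditive jB v) = -v := fun v =>
      Additive.toMul.injective (Subtype.ext (hj (v.toMul : A)))
    obtain ⟨d, hd⟩ := @card_eq_sq p _ (Additive B) _
      (AddCommGroup.zmodModule fun x => Additive.toMul.injective (Subtype.ext ((hB _).mp x.toMul.2))) _
      h2 _ _ hiA hijA hjA
    have hBcard : Nat.card B = p ^ d * p ^ d := (Nat.card_congr (Additive.toMul (α := B))).symm.trans hd
    have hBne : B ≠ ⊥ := by
      obtain ⟨a, ha⟩ := exists_prime_orderOf_dvd_card' (G := A) p (hn ▸ hpd)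
      intro h
      have hm : a ∈ B := (hB a).mpr (ha ▸ pow_orderOf_eq_one a)
      rw [h, Subgroup.mem_bot] at hm
      rw [hm, orderOf_one] at ha
      exact hp.one_lt.ne ha
    have hquot : Nat.card (A ⧸ B) * Nat.card B = n := hn ▸ (Subgroup.card_eq_card_quotient_mul_card_subgroup B).symm
    have hlt : Nat.card (A ⧸ B) < n := by
      rw [← hquot]
      exact lt_mul_of_one_lt_right Nat.card_pos ((Subgroup.one_lt_card_iff_ne_bot B).mpr hBne)
    have hmem : ∀ f : A →* A, B ≤ B.comap f := fun f x hx => by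
      rw [Subgroup.mem_comap, hB, ← map_pow, (hB x).mp hx, map_one]
    obtain ⟨s, hs⟩ := ih _ hlt (A ⧸ B) rfl
      ((Nat.odd_mul.mp (hquot.symm ▸ hodd)).1)
      (QuotientGroup.map B B i (hmem i)) (QuotientGroup.map B B j (hmem j))
      (fun x => x.induction_on fun a => congrArg ((↑) : A → A ⧸ B) (hi a))
      (fun x => x.induction_on fun a => congrArg ((↑) : A → A ⧸ B) (hj a))
      (fun x => x.induction_on fun a => congrArg ((↑) : A → A ⧸ B) (hij a))
    exact ⟨s * p ^ d, by rw [← hquot, hs, hBcard]; ring⟩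

/-- A complement containing two anticommuting square roots of an involution has kernel of odd square size. -/
theorem kernel_square (hH : Cfsg.IsFrobeniusComplement H) {a b : G} (ha : a ∈ H) (_hb : b ∈ H)
    (ht1 : a * a ≠ 1) (ht2 : a * a * (a * a) = 1) (hab : b * b = a * a) (hanti : a * b = b * a * (a * a)) :
    Odd (Nat.card (Cfsg.frobeniusKernel H)) ∧ IsSquare (Nat.card (Cfsg.frobeniusKernel H)) := by
  have ht : a * a ∈ H := H.mul_mem ha ha
  obtain ⟨K, hK, hKn, hKc, hKab, hinv⟩ := exists_kernel hH ht ht1 ht2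
  have := hKn
  have hcard : Nat.card (Cfsg.frobeniusKernel H) = Nat.card K := by rw [← hK]; rfl
  have hodd : Odd (Nat.card K) := by
    rw [← hKc.index_eq_card]
    have hc := coprime_card_index hH
    have h2 : 2 ∣ Nat.card H := by
      have : orderOf (a * a) = 2 := orderOf_eq_prime (by rw [pow_two]; exact ht2) ht1
      exact this ▸ Subgroup.orderOf_dvd_natCard H ht
    rw [Nat.odd_iff]
    have := (Nat.Prime.coprime_iff_not_dvd Nat.prime_two).mp (hc.coprime_dvd_left h2)
    omega
  rw [hcard]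
  refine ⟨hodd, ?_⟩
  let _ : CommGroup K := { (inferInstance : Group K) with mul_comm := fun x y => hKab.is_comm.comm x y }
  refine isSquare_card _ K rfl hodd (MulAut.conjNormal (H := K) a).toMonoidHom
    (MulAut.conjNormal (H := K) b).toMonoidHom ?_ ?_ ?_
  · intro k
    apply Subtype.ext
    simp only [MulEquiv.coe_toMonoidHom, MulAut.conjNormal_apply, Subgroup.coe_inv]
    rw [← hinv _ k.2]; group
  · intro k
    apply Subtype.ext
    simp only [MulEquiv.coe_toMonoidHom, MulAut.conjNormal_apply, Subgroup.coe_inv]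
    rw [← hinv _ k.2, ← hab]; group
  · intro k
    apply Subtype.ext
    simp only [MulEquiv.coe_toMonoidHom, MulAut.conjNormal_apply, Subgroup.coe_inv]
    have hk : a * a * (k : G) * (a * a)⁻¹ = (k : G)⁻¹ := hinv _ k.2
    have e : a * (b * (k : G) * b⁻¹) * a⁻¹ = (a * b) * (k : G) * (a * b)⁻¹ := by group
    rw [e, hanti]
    have e2 : b * a * (a * a) * (k : G) * (b * a * (a * a))⁻¹ = b * a * (a * a * (k : G) * (a * a)⁻¹) * (b * a)⁻¹ := by
      group
    rw [e2, hk]
    group

end Cfsg.Agent.FrobeniusEven
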