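import Mathlib
import Cfsg.Agent.Lib.PGroupsCyclic

/-!
# Non-abelian 2-groups with exactly one involution
-/

set_option autoImplicit false

namespace Cfsg.Agent.GenQuatFacts62

open QuaternionGroup

variable {Q : Type*} [Group Q] [Finite Q]

theorem exists_iso (hQ : IsPGroup 2 Q) (hna : ¬ IsMulCommutative Q) (huniq : ∃! x : Q, orderOf x = 2) :
    ∃ n : ℕ, 1 ≤ n ∧ Nonempty (Q ≃* QuaternionGroup (2 ^ n)) := by
  haveI : Fact (Nat.Prime 2) := ⟨Nat.prime_two⟩
  have h : ∀ H K : Subgroup Q, Nat.card H = 2 → Nat.card K = 2 → H = K := by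
    intro H K hH hK
    obtain ⟨z, hz, huz⟩ := huniq
    have key : ∀ L : Subgroup Q, Nat.card L = 2 → L = Subgroup.zpowers z := by
      intro L hL
      obtain ⟨l, hl⟩ := exists_prime_orderOf_dvd_card' (G := ↥L) 2 (dvd_of_eq hL.symm)
      have hl' : orderOf (l : Q) = 2 := (Subgroup.orderOf_coe l).trans hl
      symm
      refine Subgroup.eq_of_le_of_card_ge ?_ ?_
      · rw [Subgroup.zpowers_le, ← huz _ hl']; exact l.2
      · rw [Nat.card_zpowers, hz, hL]
    rw [key H hH, key K hK]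
  rcases Cfsg.Agent.PGroupsCyclic.isCyclic_or_quaternion hQ h with hc | ⟨-, n, ⟨e⟩⟩
  · exact absurd hc.isMulCommutative hna
  · refine ⟨n, ?_, ⟨e⟩⟩
    rcases Nat.eq_zero_or_pos n with rfl | hn
    · exfalso
      apply hna
      have hc : IsCyclic (QuaternionGroup (2 ^ 0)) := by
        rw [pow_zero]; exact quaternionGroup_one_isCyclic
      haveI : IsCyclic Q := isCyclic_of_surjective e.symm.toMonoidHom e.symm.surjective
      exact IsCyclic.isMulCommutative
    · exact hn

theorem exists_cyclic_index_two (hQ : IsPGroup 2 Q) (hna : ¬ IsMulCommutative Q)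
    (huniq : ∃! x : Q, orderOf x = 2) : ∃ g : Q, (Subgroup.zpowers g).index = 2 := by
  obtain ⟨n, -, ⟨e⟩⟩ := exists_iso hQ hna huniq
  refine ⟨e.symm (a 1), ?_⟩
  have h := (Subgroup.zpowers (e.symm (a 1))).card_mul_index
  haveI : NeZero (2 ^ n) := ⟨by positivity⟩
  rw [Nat.card_zpowers, MulEquiv.orderOf_eq, orderOf_a_one, Nat.card_congr e.toEquiv,
    Nat.card_eq_fintype_card, QuaternionGroup.card, show 4 * 2 ^ n = 2 * 2 ^ n * 2 by ring] at h
  exact Nat.eq_of_mul_eq_mul_left (by positivity) h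

theorem q8_fact : ∀ g y : QuaternionGroup 2, g * g ≠ 1 → y ≠ 1 → y ≠ g → y ≠ g * g → y ≠ g * g * g →
    y * g * y⁻¹ = g⁻¹ ∧ y * y ≠ 1 ∧ (y * y) * (y * y) = 1 := by decide

/-- outside a cyclic subgroup of index two, elements invert it and square to the involution -/
theorem inverts (hQ : IsPGroup 2 Q) (hna : ¬ IsMulCommutative Q) (huniq : ∃! x : Q, orderOf x = 2)
    (g : Q) (hg : (Subgroup.zpowers g).index = 2) (y : Q) (hy : y ∉ Subgroup.zpowers g) :
    y * g * y⁻¹ = g⁻¹ ∧ orderOf (y * y) = 2 := by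
  haveI : Fact (Nat.Prime 2) := ⟨Nat.prime_two⟩
  obtain ⟨n, hn, ⟨e⟩⟩ := exists_iso hQ hna huniq
  haveI : NeZero (2 ^ n) := ⟨by positivity⟩
  have hog : orderOf g = 2 * 2 ^ n := by
    have h := (Subgroup.zpowers g).card_mul_index
    rw [Nat.card_zpowers, hg, Nat.card_congr e.toEquiv,
      Nat.card_eq_fintype_card, QuaternionGroup.card, show 4 * 2 ^ n = 2 * 2 ^ n * 2 by ring] at h
    exact Nat.eq_of_mul_eq_mul_right (by norm_num) h
  suffices e y * e g * (e y)⁻¹ = (e g)⁻¹ ∧ orderOf (e y * e y) = 2 by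
    refine ⟨e.injective (by simpa using this.1), ?_⟩
    rw [← MulEquiv.orderOf_eq e, map_mul]
    exact this.2
  have hyp : e y ∉ Subgroup.zpowers (e g) := by
    intro h
    obtain ⟨k, hk⟩ := Subgroup.mem_zpowers_iff.mp h
    exact hy (Subgroup.mem_zpowers_iff.mpr ⟨k, e.injective (by rw [map_zpow]; exact hk)⟩)
  have hog' : orderOf (e g) = 2 * 2 ^ n := by rw [MulEquiv.orderOf_eq, hog]
  rcases eq_or_lt_of_le hn with rfl | hn2
  · have h2 : (2 : ℕ) ^ 1 = 2 := rfl
    revert hog' hyp
    generalize e g = g'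
    generalize e y = y'
    intro hyp hog'
    have hgg : g' * g' ≠ 1 := by
      intro h
      have := orderOf_dvd_of_pow_eq_one (show g' ^ 2 = 1 by rw [pow_two]; exact h)
      rw [hog'] at this
      norm_num at this
    obtain ⟨r1, r2, r3⟩ := q8_fact g' y' hgg
      (fun h => hyp (h ▸ one_mem _)) (fun h => hyp (h ▸ Subgroup.mem_zpowers _))
      (fun h => hyp (h ▸ mul_mem (Subgroup.mem_zpowers _) (Subgroup.mem_zpowers _)))
      (fun h => hyp (h ▸ mul_mem (mul_mem (Subgroup.mem_zpowers _) (Subgroup.mem_zpowers _)) (Subgroup.mem_zpowers _)))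
    exact ⟨r1, orderOf_eq_prime (by rw [pow_two]; exact r3) r2⟩
  · rcases hgi : e g with i | i
    · rw [hgi] at hyp hog'
      have hgen : Subgroup.zpowers (a i : QuaternionGroup (2 ^ n)) = Subgroup.zpowers (a 1) := by
        refine Subgroup.eq_of_le_of_card_ge ?_ ?_
        · rw [Subgroup.zpowers_le, Subgroup.mem_zpowers_iff]
          exact ⟨(i.val : ℤ), by rw [zpow_natCast, a_one_pow, ZMod.natCast_zmod_val]⟩
        · rw [Nat.card_zpowers, Nat.card_zpowers, orderOf_a_one, hog']
      rcases hyj : e y with j | j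
      · exfalso
        apply hyp
        rw [hyj, hgen, Subgroup.mem_zpowers_iff]
        exact ⟨(j.val : ℤ), by rw [zpow_natCast, a_one_pow, ZMod.natCast_zmod_val]⟩
      · refine ⟨?_, ?_⟩
        · rw [mul_inv_eq_iff_eq_mul, xa_mul_a, show (a i : QuaternionGroup (2 ^ n))⁻¹ = a (-i) from rfl, a_mul_xa]
          congr 1
          ring
        · have hne : (xa j : QuaternionGroup (2 ^ n)) ^ 2 ≠ 1 := by
            intro h
            have := orderOf_dvd_of_pow_eq_one h
            rw [orderOf_xa] at this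
            norm_num at this
          refine orderOf_eq_prime ?_ (by rwa [← pow_two])
          rw [← pow_two, ← pow_mul]
          exact xa_pow_four j
    · exfalso
      rw [hgi, orderOf_xa] at hog'
      have : 4 ≤ 2 ^ n := by
        calc 4 = 2 ^ 2 := rfl
          _ ≤ 2 ^ n := Nat.pow_le_pow_right (by norm_num) hn2
      omega

end Cfsg.Agent.GenQuatFacts62
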