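import Mathlib
import Cfsg.Prelude.Def_Transfer
import Cfsg.Agent.Lib.CoprimeGen
import Cfsg.Agent.Lib.CoprimeActionAut
import Cfsg.Agent.Lib.FpfAut
import Cfsg.Agent.Lib.GenQuatFacts62
import Cfsg.Agent.Lib.OffendersReplace
import Cfsg.Agent.Lib.LargeExtraspecial
import Cfsg.Agent.Lib.ClassTwoPow

/-!
2-groups with a non-cyclic odd abelian group of automorphisms each fixing at most one involution.
-/

set_option autoImplicit false

namespace Cfsg.Agent.FrobeniusExtraTwo

open scoped commutatorElement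

variable {W : Type*} [Group W] [Finite W]

/-- The subgroup of points fixed by an automorphism. -/
def fix (e : MulAut W) : Subgroup W where
  carrier := {x | e x = x}
  mul_mem' {a b} ha hb := by
    simp only [Set.mem_setOf_eq] at *
    rw [map_mul, ha, hb]
  one_mem' := map_one e
  inv_mem' {a} ha := by
    simp only [Set.mem_setOf_eq] at *
    rw [map_inv, ha]

omit [Finite W] in
theorem mem_fix {e : MulAut W} {x : W} : x ∈ fix e ↔ e x = x := Iff.rfl

omit [Finite W] in
theorem pow_fix {e : MulAut W} {x : W} (h : e x = x) (n : ℕ) : (e ^ n) x = x := by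
  induction n with
  | zero => rfl
  | succ n ih => rw [pow_succ, MulAut.mul_apply, h, ih]

omit [Finite W] in
theorem fixed_of_sq {e : MulAut W} {x : W} {k : ℕ} (hodd : Odd k) (hk : e ^ k = 1)
    (h : e (e x) = x) : e x = x := by
  obtain ⟨j, rfl⟩ := hodd
  have h2 : (e ^ 2) x = x := by rw [pow_two, MulAut.mul_apply]; exact h
  have h3 := pow_fix h2 j
  rw [← pow_mul] at h3
  rw [pow_succ'] at hk
  have h4 : (e * e ^ (2 * j)) x = x := by rw [hk]; rfl
  rwa [MulAut.mul_apply, h3] at h4

/-- An automorphism of odd order permuting `{1, z}` and a two-element complement is trivial. -/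
theorem fixed_of_card_four {e : MulAut W} {k : ℕ} (hodd : Odd k) (hk : e ^ k = 1)
    {D : Subgroup W} (hD : Nat.card D = 4) (he : ∀ x ∈ D, e x ∈ D) {z : W} (hz : z ∈ D)
    (hz1 : z ≠ 1) (hez : e z = z) : ∀ x ∈ D, e x = x := by
  intro x hx
  by_contra hne
  have h1 : x ≠ 1 := fun h => hne (by rw [h, map_one])
  have h2 : x ≠ z := fun h => hne (by rw [h, hez])
  have h4 : e (e x) ≠ x := fun h => hne (fixed_of_sq hodd hk h)
  classical
  have hsub : ({1, z, x, e x, e (e x)} : Finset W) ⊆ (D : Set W).toFinite.toFinset := by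
    intro y hy
    simp only [Set.Finite.mem_toFinset, SetLike.mem_coe]
    simp only [Finset.mem_insert, Finset.mem_singleton] at hy
    rcases hy with rfl | rfl | rfl | rfl | rfl
    · exact one_mem _
    · exact hz
    · exact hx
    · exact he _ hx
    · exact he _ (he _ hx)
  have hcard := Finset.card_le_card hsub
  have h5 : e x ≠ 1 := fun h => h1 (e.injective (h.trans (map_one e).symm))
  have h6 : e x ≠ z := fun h => h2 (e.injective (h.trans hez.symm))
  have h7 : e (e x) ≠ 1 := fun h => h5 (e.injective (h.trans (map_one e).symm))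
  have h8 : e (e x) ≠ z := fun h => h6 (e.injective (h.trans hez.symm))
  have h9 : e (e x) ≠ e x := fun h => hne (e.injective h)
  rw [Finset.card_insert_of_notMem (by simp [hz1.symm, h1.symm, h5.symm, h7.symm]),
    Finset.card_insert_of_notMem (by simp [h2.symm, h6.symm, h8.symm]),
    Finset.card_insert_of_notMem (by simp [Ne.symm hne, h4.symm]),
    Finset.card_insert_of_notMem (by simp [h9.symm]), Finset.card_singleton,
    ← Nat.card_eq_card_finite_toFinset] at hcard
  rw [SetLike.coe_sort_coe, hD] at hcard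
  omega

/-- An automorphism of odd order fixing a generator of a cyclic subgroup of index two of a
2-group is trivial. -/
theorem eq_one_of_fixed_index_two (α : MulAut W) {k : ℕ} (hodd : Odd k) (hk : α ^ k = 1)
    (hW : IsPGroup 2 W) {g : W} (hg : (Subgroup.zpowers g).index = 2) (hfix : α g = g) :
    α = 1 := by
  ext y
  rw [MulAut.one_apply]
  have hpow : ∀ a : ℤ, α (g ^ a) = g ^ a := fun a => by rw [map_zpow, hfix]
  by_cases hy : y ∈ Subgroup.zpowers g
  · obtain ⟨a, rfl⟩ := Subgroup.mem_zpowers_iff.1 hy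
    exact hpow a
  have hay : α y ∉ Subgroup.zpowers g := by
    intro h
    obtain ⟨a, ha⟩ := Subgroup.mem_zpowers_iff.1 h
    exact hy (Subgroup.mem_zpowers_iff.2 ⟨a, α.injective (by rw [hpow, ha])⟩)
  have hmem : α y * y⁻¹ ∈ Subgroup.zpowers g := by
    rw [Subgroup.mul_mem_iff_of_index_two hg, inv_mem_iff]
    exact iff_of_false hay hy
  set d := α y * y⁻¹ with hd
  have hd1 : α y = d * y := by rw [hd, inv_mul_cancel_right]
  obtain ⟨a, ha⟩ := Subgroup.mem_zpowers_iff.1 hmem
  have hdfix : α d = d := by rw [← ha]; exact hpow a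
  have hit : ∀ n : ℕ, (α ^ n) y = d ^ n * y := by
    intro n
    induction n with
    | zero => simp
    | succ n ih =>
      rw [pow_succ', MulAut.mul_apply, ih, map_mul, map_pow, hdfix, hd1, ← mul_assoc, ← pow_succ]
  have h1 := hit k
  rw [hk, MulAut.one_apply] at h1
  have hdk : d ^ k = 1 := (mul_eq_right.1 h1.symm)
  obtain ⟨m, hm'⟩ := hW d
  have hm := orderOf_dvd_of_pow_eq_one hm'
  have hd0 : d = 1 := by
    rw [← orderOf_eq_one_iff]
    exact Nat.eq_one_of_dvd_coprimes (Nat.Coprime.pow_left m (Nat.coprime_two_left.2 hodd))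
      hm (orderOf_dvd_of_pow_eq_one hdk)
  rw [hd1, hd0, one_mul]

/-- A 2-group with one involution moved by an automorphism of odd order has order `8`, and the
automorphism fixes only elements of square one. -/
theorem card_eq_eight {C : Type*} [Group C] [Finite C] (hC : IsPGroup 2 C)
    (huniq : ∃! x : C, orderOf x = 2) (α : MulAut C) {k : ℕ} (hodd : Odd k) (hk : α ^ k = 1)
    (hmove : α ≠ 1) :
    Nat.card C = 8 ∧ ¬ IsMulCommutative C ∧ ∀ x : C, α x = x → x * x = 1 := by
  haveI : Fact (Nat.Prime 2) := ⟨Nat.prime_two⟩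
  have hna : ¬ IsMulCommutative C := by
    intro hcomm
    obtain ⟨z, hz, hzu⟩ := huniq
    have hcyc : IsCyclic C := by
      refine Cfsg.Agent.PGroupsCyclic.isCyclic_of_comm hC (fun a b => hcomm.is_comm.comm a b)
        (z := z) (fun g hg => ?_) hz.le
      by_cases h1 : g = 1
      · rw [h1]; exact one_mem _
      · rw [hzu g (orderOf_eq_prime hg h1)]; exact Subgroup.mem_zpowers z
    exact hmove (FpfAut.eq_one_of_cyclic hC α hk hodd)
  obtain ⟨n, hn, ⟨e⟩⟩ := GenQuatFacts62.exists_iso hC hna huniq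
  haveI : NeZero (2 ^ n) := ⟨by positivity⟩
  have hcard : Nat.card C = 4 * 2 ^ n := by
    rw [Nat.card_congr e.toEquiv, Nat.card_eq_fintype_card, QuaternionGroup.card]
  obtain ⟨g, hg⟩ := GenQuatFacts62.exists_cyclic_index_two hC hna huniq
  have hog : orderOf g = 2 * 2 ^ n := by
    have h := (Subgroup.zpowers g).card_mul_index
    rw [Nat.card_zpowers, hg, hcard] at h
    omega
  have hinv := fun y (hy : y ∉ Subgroup.zpowers g) => GenQuatFacts62.inverts hC hna huniq g hg y hy
  rcases eq_or_lt_of_le hn with rfl | hn2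
  · refine ⟨by simpa using hcard, hna, fun x hx => by_contra fun hx1 => hmove ?_⟩
    have hox : orderOf x = 4 := by
      refine orderOf_eq_prime_pow (p := 2) (n := 1) (by rwa [pow_one, pow_two]) ?_
      norm_num
      by_cases hxg : x ∈ Subgroup.zpowers g
      · have := orderOf_dvd_of_mem_zpowers hxg
        rw [hog] at this
        exact orderOf_dvd_iff_pow_eq_one.1 this
      · have h := (hinv x hxg).2
        have h2 := pow_orderOf_eq_one (x * x)
        rw [h, ← pow_two, ← pow_mul] at h2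
        exact h2
    refine eq_one_of_fixed_index_two α hodd hk hC (g := x) ?_ hx
    have h := (Subgroup.zpowers x).card_mul_index
    rw [Nat.card_zpowers, hox, hcard] at h
    omega
  · exfalso
    refine hmove ?_
    have h4 : 8 ≤ 2 * 2 ^ n := by
      have : 2 ^ 2 ≤ 2 ^ n := Nat.pow_le_pow_right (by norm_num) hn2
      omega
    have hag : α g ∈ Subgroup.zpowers g := by
      by_contra hc
      have h := (hinv _ hc).2
      have h2 := pow_orderOf_eq_one (α g * α g)
      rw [h, ← pow_two, ← pow_mul] at h2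
      have h3 := orderOf_dvd_of_pow_eq_one h2
      rw [MulEquiv.orderOf_eq, hog] at h3
      have := Nat.le_of_dvd (by norm_num) h3
      omega
    -- the restriction to the cyclic subgroup is trivial
    have hmap : (Subgroup.zpowers g).map α.toMonoidHom = Subgroup.zpowers g := by
      refine Subgroup.eq_of_le_of_card_ge ?_ ?_
      · rw [MonoidHom.map_zpowers, Subgroup.zpowers_le]
        exact hag
      · rw [Subgroup.card_map_of_injective α.injective]
    let β : MulAut ↥(Subgroup.zpowers g) :=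
      (α.subgroupMap (Subgroup.zpowers g)).trans (MulEquiv.subgroupCongr hmap)
    have hβ : ∀ (m : ℕ) (x : ↥(Subgroup.zpowers g)), (((β ^ m) x : ↥(Subgroup.zpowers g)) : C) =
        (α ^ m) (x : C) := by
      intro m
      induction m with
      | zero => intro x; rfl
      | succ m ih =>
        intro x
        rw [pow_succ', pow_succ', MulAut.mul_apply, MulAut.mul_apply, ← ih]
        rfl
    have hb1 : β = 1 := FpfAut.eq_one_of_cyclic (hC.to_subgroup _) β
      (k := k) (by
        apply MulEquiv.ext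
        intro x
        apply Subtype.ext
        rw [hβ, hk]
        rfl) hodd
    refine eq_one_of_fixed_index_two α hodd hk hC hg ?_
    have := hβ 1 ⟨g, Subgroup.mem_zpowers g⟩
    rw [pow_one, pow_one, hb1] at this
    exact this.symm

/-- The standing hypotheses. -/
structure Setting (W : Type*) [Group W] (p : ℕ) (E : Subgroup (MulAut W)) : Prop where
  two : IsPGroup 2 W
  prime : p.Prime
  ne_two : p ≠ 2
  pgroup : IsPGroup p E
  comm : IsMulCommutative E
  ncyc : ¬ IsCyclic E
  oneInv : ∀ e ∈ E, e ≠ 1 → ∀ x y : W, orderOf x = 2 → orderOf y = 2 → e x = x → e y = y → x = y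

variable {p : ℕ} {E : Subgroup (MulAut W)}

/-- The odd order of `E`. -/
theorem Setting.odd_card (hs : Setting W p E) : Odd (Nat.card E) := by
  haveI := Fact.mk hs.prime
  obtain ⟨m, hm⟩ := hs.pgroup.exists_card_eq
  rw [hm]
  exact (hs.prime.odd_of_ne_two hs.ne_two).pow

theorem Setting.pow_card (hs : Setting W p E) {e : MulAut W} (he : e ∈ E) :
    e ^ Nat.card E = 1 := by
  have h := pow_card_eq_one' (x := (⟨e, he⟩ : E))
  exact congrArg Subtype.val h

omit [Finite W] in
theorem Setting.commute_apply (hs : Setting W p E) {e f : MulAut W} (he : e ∈ E) (hf : f ∈ E)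
    (x : W) : e (f x) = f (e x) := by
  have h := congrArg Subtype.val (hs.comm.is_comm.comm (⟨e, he⟩ : E) ⟨f, hf⟩)
  exact DFunLike.congr_fun h x

omit [Finite W] in
theorem Setting.fix_invariant (hs : Setting W p E) {e f : MulAut W} (he : e ∈ E) (hf : f ∈ E)
    {x : W} (hx : x ∈ fix e) : f x ∈ fix e := by
  rw [mem_fix] at hx ⊢
  rw [hs.commute_apply he hf, hx]

/-- Generation by fixed points, for an invariant subgroup and a non-cyclic subgroup of `E`. -/
theorem Setting.gen (hs : Setting W p E) {A : Subgroup (MulAut W)} (hA : A ≤ E)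
    (hnc : ¬ IsCyclic A) {S T : Subgroup W} (hS : ∀ a ∈ A, ∀ x ∈ S, a x ∈ S)
    (hT : ∀ a ∈ A, a ≠ 1 → ∀ x ∈ S, a x = x → x ∈ T) : S ≤ T := by
  haveI := Fact.mk hs.prime
  haveI : Fact (Nat.Prime 2) := ⟨Nat.prime_two⟩
  let φ : A →* MulAut W := A.subtype
  haveI : IsMulCommutative A := ⟨⟨fun a b => Subtype.ext
    (congrArg Subtype.val (hs.comm.is_comm.comm ⟨a, hA a.2⟩ ⟨b, hA b.2⟩) :)⟩⟩
  haveI : Finite (W ⋊[φ] A) := CoprimeActionAut.finite_semidirect φ
  haveI : IsMulCommutative (CoprimeActionAut.actSubgroup φ) := ⟨⟨by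
    rintro ⟨_, a, rfl⟩ ⟨_, b, rfl⟩
    apply Subtype.ext
    change SemidirectProduct.inr a * SemidirectProduct.inr b =
      SemidirectProduct.inr b * SemidirectProduct.inr a
    rw [← map_mul, ← map_mul, mul_comm']⟩⟩
  have hnc' : ¬ IsCyclic (CoprimeActionAut.actSubgroup φ) := by
    intro hc
    haveI : IsCyclic (SemidirectProduct.inr : A →* W ⋊[φ] A).range := hc
    exact hnc (isCyclic_of_surjective
      (MonoidHom.ofInjective (SemidirectProduct.inr_injective (φ := φ))).symm.toMonoidHom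
      (MonoidHom.ofInjective (SemidirectProduct.inr_injective (φ := φ))).symm.surjective)
  have hcop : (Nat.card (CoprimeActionAut.actSubgroup φ)).Coprime
      (Nat.card (S.map (SemidirectProduct.inl : W →* W ⋊[φ] A))) := by
    rw [CoprimeActionAut.card_actSubgroup,
      Subgroup.card_map_of_injective SemidirectProduct.inl_injective]
    obtain ⟨m, hm⟩ := hs.two.to_subgroup S |>.exists_card_eq
    rw [hm]
    exact Nat.Coprime.pow_right m (Nat.coprime_two_right.2
      (hs.odd_card.of_dvd_nat (Subgroup.card_dvd_of_le hA)))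
  have hle := CoprimeGen.le_of_centralizers (H := T.map (SemidirectProduct.inl : W →* W ⋊[φ] A))
    hnc' ((CoprimeActionAut.act_le_normalizer_map_iff φ S).2 fun a s hs' => hS a a.2 s hs') hcop
    (by
      rintro _ ⟨a, rfl⟩ ha1 y ⟨hy, hyc⟩
      obtain ⟨s, hsS, rfl⟩ := hy
      refine ⟨s, hT a a.2 (fun h => ha1 ?_) s hsS ?_, rfl⟩
      · rw [show a = 1 from Subtype.ext h, map_one]
      · apply SemidirectProduct.inl_injective (φ := φ)
        rw [show (a : MulAut W) s = φ a s from rfl, CoprimeActionAut.inl_act]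
        replace hyc := Subgroup.mem_centralizer_singleton_iff.1 hyc
        rw [← hyc, mul_inv_cancel_right])
  exact fun s hsS => by
    obtain ⟨t, ht, hts⟩ := hle ⟨s, hsS, rfl⟩
    rwa [← SemidirectProduct.inl_injective hts]

theorem Setting.eq_one_of_top (hs : Setting W p E) {e : MulAut W}
    (h : ∀ f ∈ E, f ≠ 1 → ∀ x, f x = x → e x = x) : e = 1 := by
  ext x
  exact hs.gen (A := E) le_rfl hs.ncyc (S := ⊤) (T := fix e) (fun _ _ _ _ => Subgroup.mem_top _)
    (fun f hf hf1 y _ hy => h f hf hf1 y hy) (Subgroup.mem_top x)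

theorem Setting.exists_z (hs : Setting W p E) :
    ∃ z : W, z ∈ Subgroup.center W ∧ orderOf z = 2 ∧ (∀ e ∈ E, e z = z) ∧
      ∀ e ∈ E, e ≠ 1 → ∀ x : W, x * x = 1 → e x = x → x ∈ Subgroup.zpowers z := by
  haveI : Fact (Nat.Prime 2) := ⟨Nat.prime_two⟩
  have hcomm : ∀ e ∈ E, e ≠ 1 → ∀ x : W, orderOf x = 2 → e x = x → ∀ f ∈ E, f x = x := by
    intro e he he1 x hx hex f hf
    exact hs.oneInv e he he1 _ x (by rw [MulEquiv.orderOf_eq, hx]) hx
      (by rw [hs.commute_apply he hf, hex]) hex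
  obtain ⟨e0, he0, he01⟩ : ∃ e ∈ E, e ≠ 1 := by
    by_contra h
    push Not at h
    have : E = ⊥ := (Subgroup.eq_bot_iff_forall _).2 h
    exact hs.ncyc (by rw [this]; infer_instance)
  have hWne : Nontrivial W := by
    by_contra h
    rw [not_nontrivial_iff_subsingleton] at h
    exact he01 (MulEquiv.ext fun x => Subsingleton.elim _ _)
  haveI := hs.two.center_nontrivial
  obtain ⟨c, hc⟩ := exists_prime_orderOf_dvd_card' (G := ↥(Subgroup.center W)) 2 (by
    obtain ⟨m, hm⟩ := (hs.two.to_subgroup (Subgroup.center W)).exists_card_eq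
    have h1 : 1 < Nat.card ↥(Subgroup.center W) := Finite.one_lt_card
    rcases m with _ | m
    · rw [hm] at h1; norm_num at h1
    · rw [hm]; exact dvd_pow_self 2 (Nat.succ_ne_zero m))
  let S : Subgroup W :=
    { carrier := {x | x ∈ Subgroup.center W ∧ x * x = 1}
      mul_mem' := fun {a b} ha hb => ⟨mul_mem ha.1 hb.1, by
        rw [mul_assoc, ← mul_assoc b a b, Subgroup.mem_center_iff.1 ha.1 b, mul_assoc a b b, hb.2,
          mul_one, ha.2]⟩
      one_mem' := ⟨one_mem _, one_mul 1⟩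
      inv_mem' := fun {a} ha => ⟨inv_mem ha.1, by rw [← mul_inv_rev, ha.2, inv_one]⟩ }
  have hSinv : ∀ e ∈ E, ∀ x ∈ S, e x ∈ S := by
    rintro e - x ⟨hx1, hx2⟩
    refine ⟨Subgroup.mem_center_iff.2 fun g => ?_, by rw [← map_mul, hx2, map_one]⟩
    obtain ⟨g, rfl⟩ := e.surjective g
    rw [← map_mul, ← map_mul, Subgroup.mem_center_iff.1 hx1]
  obtain ⟨z, hzS, hz1, e1, he1, he11, hez⟩ :
      ∃ z ∈ S, z ≠ 1 ∧ ∃ e ∈ E, e ≠ 1 ∧ e z = z := by
    by_contra h
    push Not at h
    have hS : S ≤ ⊥ := hs.gen (A := E) le_rfl hs.ncyc hSinv fun e he hne x hx hex =>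
      Subgroup.mem_bot.2 (by_contra fun hx1 => h x hx hx1 e he hne hex)
    have hcS : (c : W) ∈ S := ⟨c.2, by
      have := pow_orderOf_eq_one (c : W)
      rwa [Subgroup.orderOf_coe, hc, pow_two] at this⟩
    have := Subgroup.mem_bot.1 (hS hcS)
    rw [← orderOf_eq_one_iff, Subgroup.orderOf_coe, hc] at this
    norm_num at this
  have hz2 : orderOf z = 2 := orderOf_eq_prime (by rw [pow_two]; exact hzS.2) hz1
  refine ⟨z, hzS.1, hz2, hcomm e1 he1 he11 z hz2 hez, fun e he hne x hx hex => ?_⟩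
  by_cases h1 : x = 1
  · rw [h1]; exact one_mem _
  · rw [hs.oneInv e he hne x z (orderOf_eq_prime (by rw [pow_two]; exact hx) h1) hz2 hex
      (hcomm e1 he1 he11 z hz2 hez e he)]
    exact Subgroup.mem_zpowers z

/-- The setting together with its distinguished involution. -/
structure SettingZ (W : Type*) [Group W] (p : ℕ) (E : Subgroup (MulAut W)) (z : W) : Prop
    extends Setting W p E where
  z_center : z ∈ Subgroup.center W
  z_order : orderOf z = 2
  z_fix : ∀ e ∈ E, e z = z
  z_uniq : ∀ e ∈ E, e ≠ 1 → ∀ x : W, x * x = 1 → e x = x → x ∈ Subgroup.zpowers z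

variable {z : W}

omit [Finite W] in
theorem mem_zpowers_iff (h : SettingZ W p E z) {x : W} :
    x ∈ Subgroup.zpowers z ↔ x = 1 ∨ x = z := by
  constructor
  · rintro ⟨a, rfl⟩
    have hz2 : z ^ 2 = 1 := by rw [← h.z_order, pow_orderOf_eq_one]
    rcases Int.even_or_odd a with ⟨b, rfl⟩ | ⟨b, rfl⟩
    · left
      show z ^ (b + b) = 1
      rw [← two_mul, zpow_mul, zpow_two, ← pow_two, hz2, one_zpow]
    · right
      show z ^ (2 * b + 1) = z
      rw [zpow_add, zpow_mul, zpow_two, ← pow_two, hz2, one_zpow, one_mul, zpow_one]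
  · rintro (rfl | rfl)
    · exact one_mem _
    · exact Subgroup.mem_zpowers _

omit [Finite W] in
theorem SettingZ.fix_zpowers (h : SettingZ W p E z) {e : MulAut W} (he : e ∈ E) {x : W}
    (hx : x ∈ Subgroup.zpowers z) : e x = x := by
  rcases (mem_zpowers_iff h).1 hx with rfl | rfl
  · exact map_one e
  · exact h.z_fix e he

theorem SettingZ.card_zpowers (h : SettingZ W p E z) : Nat.card (Subgroup.zpowers z) = 2 := by
  rw [Nat.card_zpowers, h.z_order]

/-- Lifting of fixed points modulo `⟨z⟩`. -/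
theorem SettingZ.fixed_of_mod (h : SettingZ W p E z) {e : MulAut W} (he : e ∈ E) {x : W}
    (hx : e x * x⁻¹ ∈ Subgroup.zpowers z) : e x = x := by
  rcases (mem_zpowers_iff h).1 hx with h1 | h1
  · exact mul_inv_eq_one.1 h1
  · refine fixed_of_sq h.odd_card (h.pow_card he) ?_
    have h2 : e x = z * x := by rw [← h1, inv_mul_cancel_right]
    rw [h2, map_mul, h.z_fix e he, h2, ← mul_assoc]
    have : z * z = 1 := by rw [← pow_two, ← h.z_order, pow_orderOf_eq_one]
    rw [this, one_mul]

/-- The core dichotomy. -/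
theorem SettingZ.moves (h : SettingZ W p E z) {e f : MulAut W} (he : e ∈ E) (he1 : e ≠ 1)
    (hf : f ∈ E) {x : W} (hx : x ∈ fix e) (hfx : f x ≠ x) :
    Nat.card (fix e) = 8 ∧ ¬ IsMulCommutative (fix e) ∧
      ∀ y ∈ fix e, f y = y → y ∈ Subgroup.zpowers z := by
  have hmap : (fix e).map f.toMonoidHom = fix e := by
    refine Subgroup.eq_of_le_of_card_ge ?_ ?_
    · rintro _ ⟨y, hy, rfl⟩
      exact h.fix_invariant he hf hy
    · rw [Subgroup.card_map_of_injective f.injective]
  let α : MulAut (fix e) := (f.subgroupMap (fix e)).trans (MulEquiv.subgroupCongr hmap)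
  have hα : ∀ (m : ℕ) (y : fix e), (((α ^ m) y : fix e) : W) = (f ^ m) (y : W) := by
    intro m
    induction m with
    | zero => intro y; rfl
    | succ m ih =>
      intro y
      rw [pow_succ', pow_succ', MulAut.mul_apply, MulAut.mul_apply, ← ih]
      rfl
  have hzC : z ∈ fix e := h.z_fix e he
  have huniq : ∃! y : fix e, orderOf y = 2 := by
    refine ⟨⟨z, hzC⟩, (Subgroup.orderOf_coe _).symm.trans h.z_order, fun y hy => Subtype.ext ?_⟩
    replace hy := (Subgroup.orderOf_coe y).trans hy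
    exact h.oneInv e he he1 _ z hy h.z_order y.2 hzC
  obtain ⟨h1, h2, h3⟩ := card_eq_eight (h.two.to_subgroup (fix e)) huniq α h.odd_card
    (by
      apply MulEquiv.ext
      intro y
      apply Subtype.ext
      rw [hα, h.pow_card hf]
      rfl)
    (fun h1 => hfx (by
      have := hα 1 ⟨x, hx⟩
      rw [pow_one, pow_one, h1] at this
      exact this.symm))
  refine ⟨h1, h2, fun y hy hfy => h.z_uniq e he he1 y ?_ hy⟩
  have h4 := h3 ⟨y, hy⟩ (Subtype.ext (by
    have := hα 1 ⟨y, hy⟩
    rw [pow_one, pow_one] at this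
    rw [this]
    exact hfy))
  exact congrArg Subtype.val h4

theorem SettingZ.all_fixed (h : SettingZ W p E z) {x : W} (hx : ∀ e ∈ E, e x = x) :
    x ∈ Subgroup.zpowers z := by
  obtain ⟨e, he, he1, f, hf, y, hy, hfy⟩ :
      ∃ e ∈ E, e ≠ 1 ∧ ∃ f ∈ E, ∃ y ∈ fix e, f y ≠ y := by
    by_contra hno
    push Not at hno
    apply h.ncyc
    have : E = ⊥ := (Subgroup.eq_bot_iff_forall _).2 fun g hg =>
      h.eq_one_of_top fun f hf hf1 y hy => hno f hf hf1 g hg y hy
    rw [this]
    infer_instance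
  exact (h.moves he he1 hf hy hfy).2.2 x (hx e he) (hx f hf)

/-- A fixed subgroup is either `⟨z⟩` or a quaternion group moved by some element of `E`. -/
theorem SettingZ.fix_cases (h : SettingZ W p E z) {e : MulAut W} (he : e ∈ E) (he1 : e ≠ 1) :
    fix e = Subgroup.zpowers z ∨ (Nat.card (fix e) = 8 ∧ ¬ IsMulCommutative (fix e)) := by
  by_cases hall : ∃ f ∈ E, ∃ y ∈ fix e, f y ≠ y
  · obtain ⟨f, hf, y, hy, hfy⟩ := hall
    exact Or.inr ⟨(h.moves he he1 hf hy hfy).1, (h.moves he he1 hf hy hfy).2.1⟩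
  · push Not at hall
    left
    refine le_antisymm (fun x hx => h.all_fixed fun f hf => hall f hf x hx) ?_
    rw [Subgroup.zpowers_le]
    exact h.z_fix e he

/-- A quaternion fixed subgroup. -/
def IsMem (E : Subgroup (MulAut W)) (Q : Subgroup W) : Prop :=
  ∃ e ∈ E, e ≠ 1 ∧ fix e = Q ∧ Nat.card Q = 8

theorem SettingZ.isMem_not_comm (h : SettingZ W p E z) {Q : Subgroup W} (hQ : IsMem E Q) :
    ¬ IsMulCommutative Q := by
  obtain ⟨e, he, he1, rfl, h8⟩ := hQ
  rcases h.fix_cases he he1 with hc | hc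
  · rw [hc, h.card_zpowers] at h8; norm_num at h8
  · exact hc.2

theorem SettingZ.isMem_invariant (h : SettingZ W p E z) {Q : Subgroup W} (hQ : IsMem E Q)
    {f : MulAut W} (hf : f ∈ E) {x : W} (hx : x ∈ Q) : f x ∈ Q := by
  obtain ⟨e, he, -, rfl, -⟩ := hQ
  exact h.fix_invariant he hf hx

theorem SettingZ.z_mem_isMem (h : SettingZ W p E z) {Q : Subgroup W} (hQ : IsMem E Q) :
    z ∈ Q := by
  obtain ⟨e, he, -, rfl, -⟩ := hQ
  exact h.z_fix e he

theorem SettingZ.zpowers_le_isMem (h : SettingZ W p E z) {Q : Subgroup W} (hQ : IsMem E Q) :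
    Subgroup.zpowers z ≤ Q := by
  rw [Subgroup.zpowers_le]
  exact h.z_mem_isMem hQ

theorem SettingZ.isMem_moved (h : SettingZ W p E z) {Q : Subgroup W} (hQ : IsMem E Q) :
    ∃ f ∈ E, ∃ x ∈ Q, f x ≠ x := by
  by_contra hno
  push Not at hno
  have hle : Q ≤ Subgroup.zpowers z := fun x hx => h.all_fixed fun f hf => hno f hf x hx
  have := Subgroup.card_dvd_of_le hle
  obtain ⟨e, -, -, -, h8⟩ := hQ
  rw [h8, h.card_zpowers] at this
  norm_num at this

/-- If `f` fixes one quaternion member, it moves all others. -/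
theorem SettingZ.eq_of_fixed (h : SettingZ W p E z) {Q : Subgroup W} (hQ : IsMem E Q)
    {f : MulAut W} (hf : f ∈ E) (hf1 : f ≠ 1) {x : W} (hx : x ∈ Q)
    (hxz : x ∉ Subgroup.zpowers z) (hfx : f x = x) : fix f = Q := by
  obtain ⟨e, he, he1, rfl, h8⟩ := hQ
  have h1 : fix e ≤ fix f := by
    intro y hy
    by_contra hfy
    exact hxz ((h.moves he he1 hf hy hfy).2.2 x hx hfx)
  rcases h.fix_cases hf hf1 with hc | hc
  · rw [hc] at h1
    exact absurd (h1 hx) hxz
  · exact (Subgroup.eq_of_le_of_card_ge h1 (by rw [h8, hc.1])).symm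

theorem SettingZ.inf_eq (h : SettingZ W p E z) {Q : Subgroup W} (hQ : IsMem E Q) {S : Subgroup W}
    (hS : ∀ e ∈ E, ∀ x ∈ S, e x ∈ S) (hzS : z ∈ S) (hnot : ¬ Q ≤ S) :
    Q ⊓ S = Subgroup.zpowers z := by
  have hle : Subgroup.zpowers z ≤ Q ⊓ S :=
    le_inf (h.zpowers_le_isMem hQ) (Subgroup.zpowers_le.2 hzS)
  by_contra hne
  obtain ⟨e, he, he1, rfl, h8⟩ := id hQ
  have hd2 := Subgroup.card_dvd_of_le hle
  have hd8 : Nat.card ↥(fix e ⊓ S) ∣ 2 ^ 3 := by
    have := Subgroup.card_dvd_of_le (inf_le_left : fix e ⊓ S ≤ fix e)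
    rwa [h8] at this
  obtain ⟨j, hj, hjc⟩ := (Nat.dvd_prime_pow Nat.prime_two).1 hd8
  rw [h.card_zpowers, hjc] at hd2
  have hj2 : j ≠ 1 := fun h1 => hne (Subgroup.eq_of_le_of_card_ge hle (by
    rw [hjc, h1, h.card_zpowers]; norm_num)).symm
  have hj3 : j ≠ 3 := fun h3 => hnot (by
    have := Subgroup.eq_of_le_of_card_ge (inf_le_left : fix e ⊓ S ≤ fix e)
      (by rw [h8, hjc, h3]; norm_num)
    exact this ▸ inf_le_right)
  have hj0 : j ≠ 0 := fun h0 => by rw [h0] at hd2; norm_num at hd2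
  have h4 : Nat.card ↥(fix e ⊓ S) = 4 := by
    have : j = 2 := by omega
    rw [hjc, this]
    norm_num
  obtain ⟨f, hf, x, hx, hfx⟩ := h.isMem_moved hQ
  apply hne
  refine le_antisymm (fun y hy => (h.moves he he1 hf hx hfx).2.2 y hy.1 ?_) hle
  exact fixed_of_card_four h.odd_card (h.pow_card hf) h4
    (fun v hv => ⟨h.fix_invariant he hf hv.1, hS f hf v hv.2⟩)
    (hle (Subgroup.mem_zpowers z)) (fun h1 => by
      have := h.z_order; rw [h1, orderOf_one] at this; norm_num at this)
    (h.z_fix f hf) y hy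

/-- Two different members whose commutators lie in `⟨z⟩` commute elementwise. -/
theorem SettingZ.commute_of_mod (h : SettingZ W p E z) {Q R : Subgroup W} (hQ : IsMem E Q)
    (hR : IsMem E R) (hne : Q ≠ R) {x : W} (hx : x ∈ Q)
    (hmod : ∀ y ∈ R, x * y * x⁻¹ * y⁻¹ ∈ Subgroup.zpowers z) :
    ∀ y ∈ R, x * y = y * x := by
  obtain ⟨e, he, he1, rfl, h8⟩ := id hQ
  obtain ⟨g, hg, hg1, rfl, h8'⟩ := id hR
  by_contra hno
  push Not at hno
  obtain ⟨y0, hy0, hxy0⟩ := hno
  -- the centraliser of `x` in `R` has index two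
  let D : Subgroup W := fix g ⊓ Subgroup.centralizer {x}
  let ψ : fix g →* Subgroup.zpowers z :=
    { toFun := fun y => ⟨x * y * x⁻¹ * (y : W)⁻¹, hmod y y.2⟩
      map_one' := Subtype.ext (by simp)
      map_mul' := fun a b => Subtype.ext (by
        show x * (a * b : W) * x⁻¹ * (a * b : W)⁻¹ =
          (x * a * x⁻¹ * (a : W)⁻¹) * (x * b * x⁻¹ * (b : W)⁻¹)
        have hc : (x * b * x⁻¹ * (b : W)⁻¹) * (a : W)⁻¹ = (a : W)⁻¹ * (x * b * x⁻¹ * (b : W)⁻¹) := by
          rcases (mem_zpowers_iff h).1 (hmod b b.2) with hb | hb <;> rw [hb]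
          · simp
          · exact (Subgroup.mem_center_iff.1 h.z_center _).symm
        calc x * (a * b : W) * x⁻¹ * (a * b : W)⁻¹
            = x * a * x⁻¹ * ((x * b * x⁻¹ * (b : W)⁻¹) * (a : W)⁻¹) := by group
          _ = _ := by rw [hc]; group) }
  have hker : D.subgroupOf (fix g) = ψ.ker := by
    ext y
    rw [Subgroup.mem_subgroupOf, MonoidHom.mem_ker]
    simp only [D, Subgroup.mem_inf, y.2, true_and, Subgroup.mem_centralizer_singleton_iff]
    constructor
    · intro hc
      apply Subtype.ext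
      show x * y * x⁻¹ * (y : W)⁻¹ = 1
      rw [← hc]
      group
    · intro hc
      have hc' : x * y * x⁻¹ * (y : W)⁻¹ = 1 := congrArg Subtype.val hc
      rw [mul_inv_eq_one, mul_inv_eq_iff_eq_mul] at hc'
      exact hc'.symm
  have hidx : (D.subgroupOf (fix g)).index = 2 := by
    rw [hker, Subgroup.index_ker]
    have h1 : Nat.card ψ.range ∣ 2 := by
      rw [← h.card_zpowers]; exact Subgroup.card_subgroup_dvd_card _
    rcases (Nat.dvd_prime Nat.prime_two).1 h1 with h2 | h2
    · exfalso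
      have h3 : ψ ⟨y0, hy0⟩ ∈ ψ.range := ⟨_, rfl⟩
      rw [Subgroup.card_eq_one.1 h2, Subgroup.mem_bot] at h3
      have h4 : x * y0 * x⁻¹ * y0⁻¹ = 1 := congrArg Subtype.val h3
      rw [mul_inv_eq_one, mul_inv_eq_iff_eq_mul] at h4
      exact hxy0 h4
    · exact h2
  have hD : Nat.card D = 4 := by
    have := (D.subgroupOf (fix g)).card_mul_index
    rw [hidx, Nat.card_congr (Subgroup.subgroupOfEquivOfLe (inf_le_left : D ≤ fix g)).toEquiv]
      at this
    rw [h8'] at this
    show Nat.card ↥(fix g ⊓ Subgroup.centralizer {x}) = 4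
    omega
  have hzD : z ∈ D := ⟨h.z_fix g hg,
    Subgroup.mem_centralizer_singleton_iff.2 (Subgroup.mem_center_iff.1 h.z_center x).symm⟩
  obtain ⟨d, hd, hdz⟩ : ∃ d ∈ D, d ∉ Subgroup.zpowers z := by
    by_contra hno
    push Not at hno
    have := Subgroup.card_dvd_of_le (fun d hd => hno d hd : D ≤ Subgroup.zpowers z)
    rw [hD, h.card_zpowers] at this
    norm_num at this
  have hex : e x = x := hx
  have hfixD := fixed_of_card_four h.odd_card (h.pow_card he) hD
    (fun v hv => ⟨h.fix_invariant hg he hv.1, by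
      have hv2 := Subgroup.mem_centralizer_singleton_iff.1 hv.2
      refine Subgroup.mem_centralizer_singleton_iff.2 ?_
      conv_lhs => rw [← hex, ← map_mul, hv2, map_mul, hex]⟩)
    hzD (fun h1 => by have := h.z_order; rw [h1, orderOf_one] at this; norm_num at this)
    (h.z_fix e he) d hd
  exact hne (h.eq_of_fixed hR he he1 hd.1 hdz hfixD)


theorem SettingZ.exists_isMem (h : SettingZ W p E z) : ∃ Q, IsMem E Q := by
  by_contra hno
  push Not at hno
  apply h.ncyc
  have hE : E = ⊥ := (Subgroup.eq_bot_iff_forall _).2 fun g hg =>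
    h.eq_one_of_top fun f hf hf1 y hy => by
      rcases h.fix_cases hf hf1 with hc | hc
      · exact h.fix_zpowers hg (hc ▸ hy)
      · exact absurd ⟨f, hf, hf1, rfl, hc.1⟩ (hno (fix f))
  rw [hE]
  infer_instance

omit [Finite W] in
theorem mem_stabilizer {x : W} {f : E} :
    f ∈ MulAction.stabilizer E x ↔ (f : MulAut W) x = x := Iff.rfl

theorem SettingZ.index_stab (h : SettingZ W p E z) {Q : Subgroup W} (hQ : IsMem E Q) {x : W}
    (hx : x ∈ Q) (hxz : x ∉ Subgroup.zpowers z) :
    (MulAction.stabilizer E x).index = 3 ∧ p = 3 := by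
  classical
  haveI := Fact.mk h.prime
  obtain ⟨f, hf, y, hy, hfy⟩ := h.isMem_moved hQ
  have hidx : Nat.card (MulAction.orbit E x) = (MulAction.stabilizer E x).index :=
    (MulAction.index_stabilizer E x).symm
  obtain ⟨a, ha⟩ := h.pgroup.index (MulAction.stabilizer E x)
  have hne : (MulAction.stabilizer E x).index ≠ 1 := by
    intro h1
    rw [Subgroup.index_eq_one] at h1
    have hfx : f x = x := mem_stabilizer.1 (h1 ▸ Subgroup.mem_top (⟨f, hf⟩ : E))
    by_cases hf1 : f = 1
    · exact hfy (by rw [hf1]; rfl)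
    · exact hfy (show y ∈ fix f from (h.eq_of_fixed hQ hf hf1 hx hxz hfx).symm ▸ hy)
  have hsub : ∀ y ∈ MulAction.orbit E x, y ∈ Q ∧ y ∉ Subgroup.zpowers z := by
    rintro _ ⟨g, rfl⟩
    refine ⟨h.isMem_invariant hQ g.2 hx, fun hy => hxz ?_⟩
    have h1 : (g : MulAut W) ((g : MulAut W) x) = (g : MulAut W) x := h.fix_zpowers g.2 hy
    exact (g : MulAut W).injective h1 ▸ hy
  set O := MulAction.orbit E x with hO
  have hdisj : Disjoint O.toFinite.toFinset (O.toFinite.toFinset.image fun y => y⁻¹) := by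
    rw [Finset.disjoint_left]
    intro y hy hy'
    simp only [Set.Finite.mem_toFinset] at hy
    simp only [Finset.mem_image, Set.Finite.mem_toFinset] at hy'
    obtain ⟨w, hw, rfl⟩ := hy'
    obtain ⟨hw1, hw2⟩ := hsub w hw
    obtain ⟨g, rfl⟩ := hw
    obtain ⟨g', hg'⟩ := hy
    change (g' : MulAut W) x = ((g : MulAut W) x)⁻¹ at hg'
    -- some element of `E` inverts `x`
    have hinv : ((g⁻¹ * g' : E) : MulAut W) x = x⁻¹ := by
      rw [Subgroup.coe_mul, MulAut.mul_apply, hg', map_inv, Subgroup.coe_inv, MulAut.inv_apply_self]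
    set d : MulAut W := ((g⁻¹ * g' : E) : MulAut W)
    have hd2 : d (d x) = x := by rw [hinv, map_inv, hinv, inv_inv]
    have hdx : d x = x := fixed_of_sq h.odd_card (h.pow_card (g⁻¹ * g' : E).2) hd2
    have hx2 : x * x = 1 := by
      nth_rewrite 2 [← hdx]
      rw [hinv, mul_inv_cancel]
    obtain ⟨e, he, he1, rfl, -⟩ := hQ
    exact hxz (h.z_uniq e he he1 x hx2 hx)
  have hsub2 : O.toFinite.toFinset ∪ (O.toFinite.toFinset.image fun y => y⁻¹) ⊆
      (Q : Set W).toFinite.toFinset \ ((Subgroup.zpowers z : Set W)).toFinite.toFinset := by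
    intro y hy
    simp only [Finset.mem_union, Finset.mem_image, Set.Finite.mem_toFinset] at hy
    simp only [Finset.mem_sdiff, Set.Finite.mem_toFinset, SetLike.mem_coe]
    rcases hy with hy | ⟨w, hw, rfl⟩
    · exact hsub y hy
    · exact ⟨inv_mem (hsub w hw).1, fun h1 => (hsub w hw).2 (by simpa using inv_mem h1)⟩
  have hc := Finset.card_le_card hsub2
  have hzQ : (Subgroup.zpowers z : Set W).toFinite.toFinset ⊆ (Q : Set W).toFinite.toFinset := by
    intro w hw
    simp only [Set.Finite.mem_toFinset, SetLike.mem_coe] at hw ⊢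
    exact h.zpowers_le_isMem hQ hw
  obtain ⟨e, -, -, rfl, h8⟩ := hQ
  rw [Finset.card_union_of_disjoint hdisj, Finset.card_image_of_injective _ inv_injective,
    Finset.card_sdiff_of_subset hzQ, ← Nat.card_eq_card_finite_toFinset,
    ← Nat.card_eq_card_finite_toFinset, ← Nat.card_eq_card_finite_toFinset, SetLike.coe_sort_coe,
    SetLike.coe_sort_coe, h8, h.card_zpowers, hidx, ha] at hc
  rcases a with _ | a
  · exact absurd (by rw [ha, pow_zero]) hne
  have h2 := h.prime.two_le
  have h1 : p ≤ p ^ (a + 1) := Nat.le_self_pow (Nat.succ_ne_zero a) p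
  have hp3 : p = 3 := by have := h.ne_two; omega
  refine ⟨?_, hp3⟩
  rw [ha]
  omega

theorem SettingZ.p_eq_three (h : SettingZ W p E z) : p = 3 := by
  obtain ⟨Q, hQ⟩ := h.exists_isMem
  obtain ⟨f, hf, x, hx, hfx⟩ := h.isMem_moved hQ
  exact (h.index_stab hQ hx fun h1 => hfx (h.fix_zpowers hf h1)).2

theorem SettingZ.pow_three (h : SettingZ W p E z) {e : MulAut W} (he : e ∈ E) : e ^ 3 = 1 := by
  refine h.eq_one_of_top fun f hf hf1 y hy => ?_
  by_cases hyz : y ∈ Subgroup.zpowers z
  · exact h.fix_zpowers (pow_mem he 3) hyz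
  rcases h.fix_cases hf hf1 with hc | hc
  · exact absurd (hc ▸ hy) hyz
  have hQ : IsMem E (fix f) := ⟨f, hf, hf1, rfl, hc.1⟩
  have : (MulAction.stabilizer E y).Normal := ⟨fun n hn g => by
    rw [h.comm.is_comm.comm g n, mul_inv_cancel_right]; exact hn⟩
  have h1 := Subgroup.pow_index_mem (MulAction.stabilizer E y) (⟨e, he⟩ : E)
  rw [(h.index_stab hQ hy hyz).1] at h1
  exact mem_stabilizer.1 h1

theorem SettingZ.card_E (h : SettingZ W p E z) :
    Nat.card E = 9 ∧ ∀ Q, IsMem E Q → ∀ x ∈ Q, x ∉ Subgroup.zpowers z →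
      Nat.card (MulAction.stabilizer E x) = 3 := by
  haveI := Fact.mk h.prime
  obtain ⟨m, hm⟩ := h.pgroup.exists_card_eq
  have hexp : ∀ g : E, orderOf g ∣ 3 := fun g =>
    orderOf_dvd_of_pow_eq_one (Subtype.ext (h.pow_three g.2))
  rw [h.p_eq_three] at hm
  have hm2 : 2 ≤ m := by
    by_contra hlt
    apply h.ncyc
    rcases (show m = 0 ∨ m = 1 by omega) with rfl | rfl
    · have : E = ⊥ := Subgroup.eq_bot_of_card_eq _ (by simpa using hm)
      rw [this]; infer_instance
    · haveI : Fact (Nat.Prime 3) := ⟨by norm_num⟩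
      exact isCyclic_of_prime_card (p := 3) (by simpa using hm)
  have key : ∀ Q, IsMem E Q → ∀ x ∈ Q, x ∉ Subgroup.zpowers z →
      Nat.card (MulAction.stabilizer E x) = 3 ∧ Nat.card E = 9 := by
    intro Q hQ x hx hxz
    set A := MulAction.stabilizer E x with hA
    have hidx := A.card_mul_index
    rw [(h.index_stab hQ hx hxz).1, hm] at hidx
    suffices hA3 : Nat.card A = 3 by
      exact ⟨hA3, by rw [hA3] at hidx; rw [hm, ← hidx]⟩
    by_contra hne
    obtain ⟨j, hj⟩ : ∃ j, m = j + 1 := ⟨m - 1, by omega⟩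
    have hAj : Nat.card A = 3 ^ j := by
      rw [hj, pow_succ] at hidx
      omega
    have hj2 : 2 ≤ j := by
      rcases (show j = 1 ∨ 2 ≤ j by omega) with rfl | h2
      · exact absurd (by rw [hAj, pow_one]) hne
      · exact h2
    have hnc : ¬ IsCyclic (A.map E.subtype) := by
      intro hc
      obtain ⟨g, hg⟩ := hc.exists_ofOrder_eq_natCard
      rw [Subgroup.card_map_of_injective Subtype.val_injective, hAj] at hg
      have hgE : (g : MulAut W) ∈ E := by
        obtain ⟨g', -, hg'⟩ := g.2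
        exact hg' ▸ g'.2
      have h3 := hexp ⟨g, hgE⟩
      rw [← Subgroup.orderOf_coe, Subgroup.orderOf_coe g, hg] at h3
      have h9 : 3 ^ 2 ≤ 3 ^ j := Nat.pow_le_pow_right (by norm_num) hj2
      have := Nat.le_of_dvd (by norm_num) h3
      omega
    have hfixA : ∀ a ∈ A.map E.subtype, a ≠ 1 → fix a = Q := by
      rintro _ ⟨a, ha, rfl⟩ ha1
      exact h.eq_of_fixed hQ a.2 ha1 hx hxz (mem_stabilizer.1 ha)
    have htop : (⊤ : Subgroup W) ≤ Q := h.gen (Subgroup.map_subtype_le A) hnc
      (fun _ _ _ _ => Subgroup.mem_top _) fun a ha ha1 y _ hy => hfixA a ha ha1 ▸ hy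
    apply hnc
    have : A.map E.subtype = ⊥ := (Subgroup.eq_bot_iff_forall _).2 fun a ha => by
      by_contra ha1
      exact ha1 (MulEquiv.ext fun y => show y ∈ fix a from
        (hfixA a ha ha1).symm ▸ htop (Subgroup.mem_top y))
    rw [this]
    infer_instance
  obtain ⟨Q, hQ⟩ := h.exists_isMem
  obtain ⟨f, hf, x, hx, hfx⟩ := h.isMem_moved hQ
  exact ⟨(key Q hQ x hx fun h1 => hfx (h.fix_zpowers hf h1)).2,
    fun R hR y hy hyz => (key R hR y hy hyz).1⟩

theorem SettingZ.card_members_le (h : SettingZ W p E z) :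
    Nat.card {Q : Subgroup W // IsMem E Q} ≤ 4 := by
  classical
  haveI := Fintype.ofFinite E
  haveI := Fintype.ofFinite {Q : Subgroup W // IsMem E Q}
  have hex : ∀ Q : {Q : Subgroup W // IsMem E Q}, ∃ x ∈ Q.1, x ∉ Subgroup.zpowers z := by
    intro Q
    obtain ⟨f, hf, x, hx, hfx⟩ := h.isMem_moved Q.2
    exact ⟨x, hx, fun h1 => hfx (h.fix_zpowers hf h1)⟩
  choose xs hxs hxz using hex
  let S : {Q : Subgroup W // IsMem E Q} → Finset E := fun Q =>
    Finset.univ.filter fun g => g ≠ 1 ∧ g ∈ MulAction.stabilizer E (xs Q)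
  have hcardS : ∀ Q, (S Q).card = 2 := by
    intro Q
    have h3 := h.card_E.2 Q.1 Q.2 (xs Q) (hxs Q) (hxz Q)
    have : S Q = (Finset.univ.filter fun g => g ∈ MulAction.stabilizer E (xs Q)).erase 1 := by
      ext g; simp [S]
    rw [this, Finset.card_erase_of_mem (by simp), ← Fintype.card_subtype,
      ← Nat.card_eq_fintype_card, h3]
  have hdisj : Set.PairwiseDisjoint ((Finset.univ : Finset {Q : Subgroup W // IsMem E Q}) : Set {Q : Subgroup W // IsMem E Q}) S := by
    intro Q _ R _ hne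
    rw [Function.onFun, Finset.disjoint_left]
    intro g hg hg'
    simp only [S, Finset.mem_filter] at hg hg'
    have hg1 : (g : MulAut W) ≠ 1 := fun h1 => hg.2.1 (Subtype.ext h1)
    exact hne (Subtype.ext ((h.eq_of_fixed Q.2 g.2 hg1 (hxs Q) (hxz Q) (mem_stabilizer.1 hg.2.2)).symm.trans
      (h.eq_of_fixed R.2 g.2 hg1 (hxs R) (hxz R) (mem_stabilizer.1 hg'.2.2))))
  have hsub : Finset.univ.biUnion S ⊆ Finset.univ.erase (1 : E) := by
    intro g hg
    simp only [Finset.mem_biUnion, S, Finset.mem_filter] at hg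
    obtain ⟨-, -, -, hg1, -⟩ := hg
    simp [hg1]
  have hle := Finset.card_le_card hsub
  rw [Finset.card_biUnion hdisj, Finset.sum_const_nat (fun Q _ => hcardS Q),
    Finset.card_erase_of_mem (Finset.mem_univ _), Finset.card_univ, Finset.card_univ,
    ← Nat.card_eq_fintype_card, ← Nat.card_eq_fintype_card, h.card_E.1] at hle
  omega

omit [Finite W] in
theorem SettingZ.normal_zpowers (h : SettingZ W p E z) : (Subgroup.zpowers z).Normal :=
  ⟨fun n hn g => by
    have hc : n ∈ Subgroup.center W := Subgroup.zpowers_le.2 h.z_center hn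
    rw [Subgroup.mem_center_iff.1 hc g, mul_inv_cancel_right]; exact hn⟩

theorem SettingZ.inf_centralizer (h : SettingZ W p E z) {Q : Subgroup W} (hQ : IsMem E Q) :
    Q ⊓ Subgroup.centralizer (Q : Set W) = Subgroup.zpowers z := by
  refine h.inf_eq hQ ?_ ?_ ?_
  · intro e he x hx
    rw [Subgroup.mem_centralizer_iff] at hx ⊢
    intro y hy
    obtain ⟨y, rfl⟩ := e.surjective y
    have hyQ : y ∈ Q := by
      obtain ⟨g, hg, -, rfl, -⟩ := hQ
      rw [SetLike.mem_coe, mem_fix] at hy
      rw [mem_fix]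
      apply e.injective
      rw [h.commute_apply he hg, hy]
    rw [← map_mul, ← map_mul, hx y hyQ]
  · exact Subgroup.mem_centralizer_iff.2 fun g _ => Subgroup.mem_center_iff.1 h.z_center g
  · intro hle
    exact h.isMem_not_comm hQ ⟨⟨fun a b => Subtype.ext
      (Subgroup.mem_centralizer_iff.1 (hle b.2) a a.2)⟩⟩

theorem SettingZ.comm_mod (h : SettingZ W p E z) :
    ∀ a b : W, a * b * a⁻¹ * b⁻¹ ∈ Subgroup.zpowers z := by
  haveI := h.normal_zpowers
  set π := QuotientGroup.mk' (Subgroup.zpowers z) with hπ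
  have hmem : ∀ a b : W, a * b * a⁻¹ * b⁻¹ ∈ Subgroup.zpowers z ↔ π a * π b = π b * π a := by
    intro a b
    rw [← QuotientGroup.eq_one_iff]
    change π (a * b * a⁻¹ * b⁻¹) = 1 ↔ _
    rw [map_mul, map_mul, map_mul, map_inv, map_inv, mul_inv_eq_one, mul_inv_eq_iff_eq_mul]
  set T := (Subgroup.center (W ⧸ Subgroup.zpowers z)).comap π with hT
  have hTmem : ∀ {w : W}, w ∈ T ↔ ∀ v : W, w * v * w⁻¹ * v⁻¹ ∈ Subgroup.zpowers z := by
    intro w
    rw [hT, Subgroup.mem_comap, Subgroup.mem_center_iff]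
    constructor
    · intro hw v; exact (hmem w v).2 (hw (π v)).symm
    · intro hw q
      obtain ⟨v, rfl⟩ := QuotientGroup.mk'_surjective _ q
      exact ((hmem w v).1 (hw v)).symm
  have hTinv : ∀ e ∈ E, ∀ x ∈ T, e x ∈ T := by
    intro e he x hx
    rw [hTmem] at hx ⊢
    intro v
    obtain ⟨v, rfl⟩ := e.surjective v
    rw [← map_inv e x, ← map_inv e v, ← map_mul, ← map_mul, ← map_mul,
      h.fix_zpowers he (hx v)]
    exact hx v
  have hzT : Subgroup.zpowers z ≤ T := fun w hw => hTmem.2 fun v => by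
    have hc : w ∈ Subgroup.center W := Subgroup.zpowers_le.2 h.z_center hw
    rw [← Subgroup.mem_center_iff.1 hc v, mul_inv_cancel_right, mul_inv_cancel]
    exact one_mem _
  set V := Subgroup.zpowers z ⊔ ⨆ Q : {Q : Subgroup W // IsMem E Q ∧ ¬ Q ≤ T}, Q.1 with hV
  have hVinv : ∀ e ∈ E, ∀ x ∈ V, e x ∈ V := by
    intro e he
    have : V.map e.toMonoidHom ≤ V := by
      rw [hV, Subgroup.map_sup, Subgroup.map_iSup]
      refine sup_le ?_ (iSup_le fun Q => ?_)
      · rintro _ ⟨x, hx, rfl⟩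
        refine Subgroup.mem_sup_left ?_
        show e x ∈ _
        rw [h.fix_zpowers he hx]; exact hx
      · rintro _ ⟨x, hx, rfl⟩
        exact Subgroup.mem_sup_right (Subgroup.mem_iSup_of_mem Q (h.isMem_invariant Q.2.1 he hx))
    exact fun x hx => this ⟨x, hx, rfl⟩
  have hVcomm : ∀ Q, IsMem E Q → Q ≤ T → V ≤ Subgroup.centralizer (Q : Set W) := by
    intro Q hQ hQT
    refine sup_le ?_ (iSup_le fun R => ?_)
    · exact (Subgroup.zpowers_le.2 h.z_center).trans (Subgroup.center_le_centralizer _)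
    · intro y hy
      rw [Subgroup.mem_centralizer_iff]
      intro x hx
      exact h.commute_of_mod hQ R.2.1 (fun e => R.2.2 (e ▸ hQT)) hx
        (fun y' _ => hTmem.1 (hQT hx) y') y hy
  have hVT : V ⊓ T ≤ Subgroup.zpowers z := by
    refine h.gen (A := E) le_rfl h.ncyc (fun e he x hx => ⟨hVinv e he x hx.1, hTinv e he x hx.2⟩) ?_
    intro a ha ha1 x hx hax
    rcases h.fix_cases ha ha1 with hc | hc
    · exact hc ▸ hax
    have hQ : IsMem E (fix a) := ⟨a, ha, ha1, rfl, hc.1⟩
    by_cases hle : fix a ≤ T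
    · exact h.inf_centralizer hQ ▸ ⟨hax, hVcomm _ hQ hle hx.1⟩
    · exact h.inf_eq hQ hTinv (hzT (Subgroup.mem_zpowers z)) hle ▸ ⟨hax, hx.2⟩
  have htop : (⊤ : Subgroup W) ≤ V ⊔ T := by
    refine h.gen (A := E) le_rfl h.ncyc (fun _ _ _ _ => Subgroup.mem_top _) ?_
    intro a ha ha1 x _ hax
    rcases h.fix_cases ha ha1 with hc | hc
    · exact Subgroup.mem_sup_right (hzT (hc ▸ hax))
    by_cases hle : fix a ≤ T
    · exact Subgroup.mem_sup_right (hle hax)
    · exact Subgroup.mem_sup_left (Subgroup.mem_sup_right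
        (Subgroup.mem_iSup_of_mem (S := fun Q : {Q : Subgroup W // IsMem E Q ∧ ¬ Q ≤ T} => Q.1)
          ⟨fix a, ⟨a, ha, ha1, rfl, hc.1⟩, hle⟩ hax))
  have hVZ : V ≤ Subgroup.zpowers z := by
    by_contra hVZ
    haveI : Fact (Nat.Prime 2) := ⟨Nat.prime_two⟩
    haveI : Nontrivial (V.map π) := by
      rw [Subgroup.nontrivial_iff_ne_bot]
      intro hb
      apply hVZ
      rwa [Subgroup.map_eq_bot_iff, hπ, QuotientGroup.ker_mk'] at hb
    haveI := ((h.two.to_quotient (Subgroup.zpowers z)).to_subgroup (V.map π)).center_nontrivial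
    obtain ⟨⟨⟨q, w, hw, rfl⟩, hq⟩, hne⟩ := exists_ne (1 : Subgroup.center (V.map π))
    have hwT : w ∈ T := by
      have hle : V ⊔ T ≤ (Subgroup.centralizer {π w}).comap π := by
        refine sup_le ?_ ?_
        · intro v hv
          rw [Subgroup.mem_comap, Subgroup.mem_centralizer_singleton_iff]
          exact congrArg Subtype.val
            ((Subgroup.mem_center_iff.1 hq) ⟨π v, Subgroup.mem_map_of_mem π hv⟩)
        · intro v hv
          rw [Subgroup.mem_comap, Subgroup.mem_centralizer_singleton_iff]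
          exact (Subgroup.mem_center_iff.1 hv (π w)).symm
      refine hTmem.2 fun v => (hmem w v).2 ?_
      have := hle (htop (Subgroup.mem_top v))
      rw [Subgroup.mem_comap, Subgroup.mem_centralizer_singleton_iff] at this
      exact this.symm
    apply hne
    have h1 : w ∈ Subgroup.zpowers z := hVT ⟨hw, hwT⟩
    apply Subtype.ext
    apply Subtype.ext
    exact (QuotientGroup.eq_one_iff w).2 h1
  intro a b
  exact hTmem.1 (sup_le (hVZ.trans hzT) le_rfl (htop (Subgroup.mem_top a))) b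

theorem SettingZ.main (h : SettingZ W p E z) :
    Nat.card E = 9 ∧ Cfsg.IsExtraspecial 2 W ∧
      (Nat.card W = 2 ^ 5 ∨ Nat.card W = 2 ^ 7 ∨ Nat.card W = 2 ^ 9) ∧
      {x : W | ∀ e ∈ E, e x = x} = (Subgroup.center W : Set W) := by
  classical
  haveI := Fintype.ofFinite {Q : Subgroup W // IsMem E Q}
  haveI := h.normal_zpowers
  haveI : Fact (Nat.Prime 2) := ⟨Nat.prime_two⟩
  have hcomm : ∀ Q R, IsMem E Q → IsMem E R → Q ≠ R → R ≤ Subgroup.centralizer (Q : Set W) := by
    intro Q R hQ hR hne y hy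
    rw [Subgroup.mem_centralizer_iff]
    intro x hx
    exact h.commute_of_mod hQ hR hne hx (fun y' _ => h.comm_mod x y') y hy
  have hZc : ∀ Q : Subgroup W, Subgroup.zpowers z ≤ Subgroup.centralizer (Q : Set W) := fun Q =>
    (Subgroup.zpowers_le.2 h.z_center).trans (Subgroup.center_le_centralizer _)
  let P : Finset {Q : Subgroup W // IsMem E Q} → Subgroup W := fun s =>
    Subgroup.zpowers z ⊔ s.sup fun Q => Q.1
  have hPc : ∀ (s : Finset {Q : Subgroup W // IsMem E Q}) (Q : {Q : Subgroup W // IsMem E Q}),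
      Q ∉ s → P s ≤ Subgroup.centralizer (Q.1 : Set W) := by
    intro s Q hQ
    refine sup_le (hZc _) (Finset.sup_le fun R hR => hcomm _ _ Q.2 R.2 fun e => hQ ?_)
    rwa [Subtype.ext e]
  have hcard : ∀ s, Nat.card (P s) = 2 * 4 ^ s.card := by
    intro s
    induction s using Finset.induction_on with
    | empty => simp [P, h.card_zpowers]
    | insert Q s hQ ih =>
      have heq : P (insert Q s) = Q.1 ⊔ P s := by
        simp only [P, Finset.sup_insert]
        exact sup_left_comm _ _ _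
      have hinf : Q.1 ⊓ P s = Subgroup.zpowers z := by
        refine le_antisymm ?_ (le_inf (h.zpowers_le_isMem Q.2) le_sup_left)
        rw [← h.inf_centralizer Q.2]
        exact inf_le_inf le_rfl (hPc s Q hQ)
      have hn : Q.1 ≤ Subgroup.normalizer (P s : Set W) :=
        (Subgroup.le_centralizer_iff.1 (hPc s Q hQ)).trans
          (Subgroup.centralizer_le_normalizer _)
      have h1 := OffendersReplace.card_sup_mul_card_inf Q.1 (P s) hn
      obtain ⟨e, -, -, -, h8⟩ := id Q.2
      rw [hinf, h.card_zpowers, ih, h8, ← heq] at h1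
      rw [Finset.card_insert_of_notMem hQ, pow_succ]
      omega
  have htop : P Finset.univ = ⊤ := by
    rw [eq_top_iff]
    refine h.gen (A := E) le_rfl h.ncyc (fun _ _ _ _ => Subgroup.mem_top _) ?_
    intro a ha ha1 x _ hax
    rcases h.fix_cases ha ha1 with hc | hc
    · exact Subgroup.mem_sup_left (hc ▸ hax)
    · exact Subgroup.mem_sup_right
        (Finset.le_sup (f := fun Q : {Q : Subgroup W // IsMem E Q} => Q.1)
          (Finset.mem_univ ⟨fix a, a, ha, ha1, rfl, hc.1⟩) hax)
  have hW := hcard Finset.univ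
  rw [htop, Subgroup.card_top, Finset.card_univ, ← Nat.card_eq_fintype_card] at hW
  set k := Nat.card {Q : Subgroup W // IsMem E Q} with hk
  have hk4 : k ≤ 4 := h.card_members_le
  obtain ⟨Q, hQ⟩ := h.exists_isMem
  have hk1 : 2 ≤ k := by
    by_contra hlt
    haveI : Subsingleton {Q : Subgroup W // IsMem E Q} :=
      Finite.card_le_one_iff_subsingleton.1 (by omega)
    have hQtop : ∀ y : W, y ∈ Q := by
      intro y
      have : P Finset.univ ≤ Q := sup_le (h.zpowers_le_isMem hQ)
        (Finset.sup_le fun R _ => le_of_eq (congrArg Subtype.val (Subsingleton.elim R ⟨Q, hQ⟩)))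
      exact this (htop ▸ Subgroup.mem_top y)
    obtain ⟨e, -, he1, rfl, -⟩ := hQ
    exact he1 (MulEquiv.ext fun y => hQtop y)
  have hcZ : Subgroup.center W = Subgroup.zpowers z := by
    refine le_antisymm ?_ (Subgroup.zpowers_le.2 h.z_center)
    refine h.gen (A := E) le_rfl h.ncyc (fun e he x hx => ?_) ?_
    · rw [Subgroup.mem_center_iff] at hx ⊢
      intro g
      obtain ⟨g, rfl⟩ := e.surjective g
      rw [← map_mul, ← map_mul, hx g]
    · intro a ha ha1 x hx hax
      rcases h.fix_cases ha ha1 with hc | hc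
      · exact hc ▸ hax
      · exact h.inf_centralizer ⟨a, ha, ha1, rfl, hc.1⟩ ▸
          ⟨hax, Subgroup.center_le_centralizer _ hx⟩
  have hsqQ : ∀ R, IsMem E R → ∀ x ∈ R, x * x ∈ Subgroup.zpowers z := by
    intro R hR x hx
    have hnc := h.isMem_not_comm hR
    obtain ⟨e, he, he1, rfl, h8⟩ := id hR
    refine h.z_uniq e he he1 _ ?_ (mul_mem hx hx : x * x ∈ fix e)
    have hd : orderOf (⟨x, hx⟩ : fix e) ∣ 2 ^ 3 := by
      have := orderOf_dvd_natCard (⟨x, hx⟩ : fix e)
      rwa [h8] at this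
    obtain ⟨j, hj, hjo⟩ := (Nat.dvd_prime_pow Nat.prime_two).1 hd
    have hj2 : j ≤ 2 := by
      by_contra hlt
      have : j = 3 := by omega
      haveI : IsCyclic (fix e) := isCyclic_of_orderOf_eq_card ⟨x, hx⟩ (by rw [hjo, this, h8]; norm_num)
      exact hnc IsCyclic.isMulCommutative
    have h4 : (⟨x, hx⟩ : fix e) ^ 4 = 1 := orderOf_dvd_iff_pow_eq_one.1 (by
      rw [hjo, show 4 = 2 ^ 2 by norm_num]; exact pow_dvd_pow 2 hj2)
    have h4' : x ^ 4 = 1 := congrArg Subtype.val h4
    rw [← h4', show (4 : ℕ) = 2 + 2 from rfl, pow_add, pow_two]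
  let sqH : Subgroup W :=
    { carrier := {w | w * w ∈ Subgroup.zpowers z}
      mul_mem' := fun {a b} ha hb => by
        simp only [Set.mem_setOf_eq] at *
        rw [← QuotientGroup.eq_one_iff] at *
        have hab : (QuotientGroup.mk' (Subgroup.zpowers z) b) * QuotientGroup.mk' _ a =
            QuotientGroup.mk' _ a * QuotientGroup.mk' _ b := by
          have := (QuotientGroup.eq_one_iff _).2 (h.comm_mod b a)
          change QuotientGroup.mk' (Subgroup.zpowers z) (b * a * b⁻¹ * a⁻¹) = 1 at this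
          rwa [map_mul, map_mul, map_mul, map_inv, map_inv, mul_inv_eq_one,
            mul_inv_eq_iff_eq_mul] at this
        change QuotientGroup.mk' (Subgroup.zpowers z) (a * b * (a * b)) = 1
        change QuotientGroup.mk' (Subgroup.zpowers z) (a * a) = 1 at ha
        change QuotientGroup.mk' (Subgroup.zpowers z) (b * b) = 1 at hb
        rw [map_mul] at ha hb
        rw [map_mul, map_mul, mul_assoc, ← mul_assoc (QuotientGroup.mk' _ b), hab, mul_assoc,
          hb, mul_one, ha]
      one_mem' := by simp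
      inv_mem' := fun {a} ha => by
        simp only [Set.mem_setOf_eq] at *
        rw [← mul_inv_rev]
        exact inv_mem ha }
  have hsq : ∀ w : W, w * w ∈ Subgroup.zpowers z := fun w => by
    have hle : P Finset.univ ≤ sqH := sup_le
      (fun x hx => mul_mem hx hx) (Finset.sup_le fun R _ x hx => hsqQ R.1 R.2 x hx)
    exact hle (htop ▸ Subgroup.mem_top w)
  have hcle : commutator W ≤ Subgroup.zpowers z := by
    rw [commutator_def, Subgroup.commutator_le]
    intro a _ b _
    exact h.comm_mod a b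
  have hz1 : z ≠ 1 := fun e => by have := h.z_order; rw [e, orderOf_one] at this; norm_num at this
  have hcne : commutator W ≠ ⊥ := fun hb => h.isMem_not_comm hQ ⟨⟨fun a b => Subtype.ext (by
    have h1 : ⁅(a : W), (b : W)⁆ ∈ commutator W :=
      Subgroup.commutator_mem_commutator (Subgroup.mem_top _) (Subgroup.mem_top _)
    rw [hb, Subgroup.mem_bot, commutatorElement_eq_one_iff_mul_comm] at h1
    exact h1)⟩⟩
  have hcomm_eq : commutator W = Subgroup.zpowers z := by
    refine Subgroup.eq_of_le_of_card_ge hcle ?_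
    rw [h.card_zpowers]
    have := (Subgroup.one_lt_card_iff_ne_bot _).2 hcne
    omega
  have hfr : frattini W = Subgroup.zpowers z := by
    refine le_antisymm (LargeExtraspecial.frattini_le_of_sq_mem _ hsq h.comm_mod) ?_
    obtain ⟨e, he, he1, rfl, h8⟩ := id hQ
    obtain ⟨x, hx, hxz⟩ : ∃ x ∈ fix e, x ∉ Subgroup.zpowers z := by
      by_contra hno
      push Not at hno
      have := Subgroup.card_dvd_of_le (fun x hx => hno x hx : fix e ≤ Subgroup.zpowers z)
      rw [h8, h.card_zpowers] at this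
      norm_num at this
    have hz : x * x = z := by
      rcases (mem_zpowers_iff h).1 (hsq x) with h1 | h1
      · exact absurd (h.z_uniq e he he1 x h1 hx) hxz
      · exact h1
    rw [Subgroup.zpowers_le, ← hz, ← pow_two]
    exact ClassTwoPow.pow_mem_frattini h.two x
  refine ⟨h.card_E.1, ⟨⟨h.two, by rw [hfr, hcZ], by rw [hcomm_eq, hcZ]⟩,
    by rw [hcZ, h.card_zpowers]⟩, ?_, ?_⟩
  · rcases (show k = 2 ∨ k = 3 ∨ k = 4 by omega) with h2 | h2 | h2 <;> rw [h2] at hW
    · left; rw [hW]; norm_num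
    · right; left; rw [hW]; norm_num
    · right; right; rw [hW]; norm_num
  · ext x
    rw [hcZ]
    exact ⟨fun hx => h.all_fixed hx, fun hx e he => h.fix_zpowers he hx⟩

theorem main (hs : Setting W p E) :
    Nat.card E = 9 ∧ Cfsg.IsExtraspecial 2 W ∧
      (Nat.card W = 2 ^ 5 ∨ Nat.card W = 2 ^ 7 ∨ Nat.card W = 2 ^ 9) ∧
      {x : W | ∀ e ∈ E, e x = x} = (Subgroup.center W : Set W) := by
  obtain ⟨z, h1, h2, h3, h4⟩ := hs.exists_z
  exact SettingZ.main (z := z) ⟨hs, h1, h2, h3, h4⟩

end Cfsg.Agent.FrobeniusExtraTwo
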