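/-
From an action by automorphisms to the ambient configuration used by `FrobeniusFitting`.
-/
import Mathlib
import Cfsg.Agent.Lib.FrobeniusFitting

namespace Cfsg.Agent.FrobeniusFittingAct

universe u v

open Cfsg.Agent Cfsg.Agent.FrobeniusFitting

variable {G : Type u} [Group G] {A : Type v} [Group A] (φ : A →* MulAut G)

/-- The ambient configuration in the semidirect product. -/
theorem acts (hG : Group.IsSolvable G) (hcop : (Nat.card A).Coprime (Nat.card G))
    (hfpf : ∀ g : G, (∀ a : A, φ a g = g) → g = 1) :
    Acts (SemidirectProduct.inl : G →* G ⋊[φ] A).range (SemidirectProduct.inr : A →* G ⋊[φ] A) where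
  top := by
    rw [eq_top_iff]
    intro x _
    rw [← SemidirectProduct.inl_left_mul_inr_right x]
    exact Subgroup.mul_mem_sup ⟨x.left, rfl⟩ ⟨x.right, rfl⟩
  normal := by
    rw [SemidirectProduct.range_inl_eq_ker_rightHom]
    infer_instance
  coprime := by
    rw [← Nat.card_congr (MonoidHom.ofInjective
      (SemidirectProduct.inl_injective (φ := φ) (N := G) (G := A))).toEquiv]
    exact hcop
  solv := by
    have := hG
    exact Group.isSolvable_of_surjective
      ((SemidirectProduct.inl : G →* G ⋊[φ] A).rangeRestrict_surjective)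
  fpf := by
    rintro _ ⟨g, rfl⟩ hc
    have hg : g = 1 := hfpf g fun a => SemidirectProduct.inl_injective (φ := φ) (by
      rw [SemidirectProduct.inl_aut a g, hc a, mul_assoc, ← map_mul, mul_inv_cancel, map_one,
        mul_one])
    rw [hg, map_one]

/-- Pulling the conclusion back to `G`. -/
theorem exists_nilpotent_normal [Finite G] [Finite A]
    {C : ∀ (T : Type max u v) [Group T], Prop}
    (h : NilBy C (SemidirectProduct.inl : G →* G ⋊[φ] A).range) :
    ∃ (N : Subgroup G) (_ : N.Normal) (T : Type max u v) (_ : Group T) (f : G →* T),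
      Group.IsNilpotent N ∧ C T ∧ Function.Surjective f ∧ f.ker = N := by
  obtain ⟨M, hM, hnil, hC⟩ := h
  let e := (SemidirectProduct.inl : G →* G ⋊[φ] A).rangeRestrict
  refine ⟨M.comap e, inferInstance, _, inferInstance, (QuotientGroup.mk' M).comp e, ?_, hC,
    (QuotientGroup.mk'_surjective M).comp (MonoidHom.rangeRestrict_surjective _), ?_⟩
  · have := hnil
    refine Subgroup.isNilpotent_of_ker_le_center (e.subgroupComap M) ?_
    intro x hx
    have hx' : (x : G) = 1 := SemidirectProduct.inl_injective (φ := φ)
      ((congrArg (fun y : M => ((y : _) : G ⋊[φ] A)) (MonoidHom.mem_ker.1 hx)).trans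
        (map_one (SemidirectProduct.inl : G →* G ⋊[φ] A)).symm)
    have : x = 1 := Subtype.ext hx'
    rw [this]
    exact one_mem _
  · rw [← MonoidHom.comap_ker, QuotientGroup.ker_mk']

end Cfsg.Agent.FrobeniusFittingAct
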