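import Mathlib
import Cfsg.Agent.Lib.SubnormalJoin
import Cfsg.Agent.S0539

/-!
A generalisation of Wielandt's zipper lemma: a subgroup with full normal closure which fails to be
subnormal in only one maximal subgroup lies in exactly one maximal subgroup, provided the join of
the subgroups generated by their conjugates of it is proper.
-/

set_option autoImplicit false

open scoped Pointwise

namespace Cfsg.Agent.UniqueMax72

open Subgroup

variable {G : Type*} [Group G]

/-- `A` is subnormal in `X`. -/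
def SnIn (A X : Subgroup G) : Prop := A ≤ X ∧ (A.subgroupOf X).IsSubnormal

theorem snIn_mono {A H X : Subgroup G} (h : SnIn A X) (hAH : A ≤ H) (hHX : H ≤ X) : SnIn A H :=
  ⟨hAH, SubnormalJoin.isSubnormal_subgroupOf_mono hHX h.2⟩

theorem snIn_self (A : Subgroup G) : SnIn A A :=
  ⟨le_rfl, by rw [subgroupOf_self]; exact IsSubnormal.top⟩

theorem snIn_trans {A T X : Subgroup G} (h1 : SnIn A T) (h2 : SnIn T X) : SnIn A X := by
  refine ⟨h1.1.trans h2.1, IsSubnormal.trans (K := T.subgroupOf X) (comap_mono h1.1) ?_ h2.2⟩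
  let φ : T.subgroupOf X →* T := (X.subtype.comp (T.subgroupOf X).subtype).codRestrict T fun y => y.2
  have e : (A.subgroupOf X).subgroupOf (T.subgroupOf X) = (A.subgroupOf T).comap φ := rfl
  rw [e]
  exact h1.2.comap φ

theorem snIn_of_normal {A X : Subgroup G} (hA : A ≤ X) (h : X ≤ normalizer (A : Set G)) : SnIn A X :=
  ⟨hA, ((normal_subgroupOf_iff_le_normalizer hA).2 h).isSubnormal⟩

theorem snIn_bot (X : Subgroup G) : SnIn ⊥ X :=
  ⟨bot_le, by rw [bot_subgroupOf]; exact IsSubnormal.bot⟩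

theorem snIn_sup [Finite G] {A B X : Subgroup G} (hA : SnIn A X) (hB : SnIn B X) : SnIn (A ⊔ B) X :=
  ⟨sup_le hA.1 hB.1, by rw [subgroupOf_sup hA.1 hB.1]; exact SubnormalJoin.isSubnormal_sup hA.2 hB.2⟩

theorem snIn_sSup [Finite G] {X : Subgroup G} (s : Set (Subgroup G)) (h : ∀ A ∈ s, SnIn A X) :
    SnIn (sSup s) X := by
  induction s, Set.toFinite s using Set.Finite.induction_on with
  | empty => rw [sSup_empty]; exact snIn_bot X
  | @insert a s _ _ ih =>
    rw [sSup_insert]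
    exact snIn_sup (h a (Set.mem_insert a s)) (ih fun A hA => h A (Set.mem_insert_of_mem a hA))

theorem mem_smul_iff {g x : G} {A : Subgroup G} : x ∈ MulAut.conj g • A ↔ g⁻¹ * x * g ∈ A := by
  rw [mem_pointwise_smul_iff_inv_smul_mem, MulAut.smul_def, MulAut.conj_inv_apply]

theorem smul_self_of_mem {g : G} {A : Subgroup G} (h : g ∈ A) : MulAut.conj g • A = A :=
  SubnormalJoin.conj_smul_eq_iff_mem_normalizer.2 (le_normalizer h)

theorem smul_comp (g h : G) (A : Subgroup G) :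
    MulAut.conj g • MulAut.conj h • A = MulAut.conj (g * h) • A := by
  rw [map_mul, mul_smul]

theorem snIn_conj {A X : Subgroup G} (g : G) (h : SnIn A X) :
    SnIn (MulAut.conj g • A) (MulAut.conj g • X) := by
  refine ⟨pointwise_smul_le_pointwise_smul_iff.2 h.1, ?_⟩
  let φ : (MulAut.conj g • X : Subgroup G) →* X :=
    ((MulAut.conj g⁻¹).toMonoidHom.comp (MulAut.conj g • X : Subgroup G).subtype).codRestrict X
      (fun y => by simpa [MulAut.conj_apply] using mem_smul_iff.1 y.2)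
  have e : (MulAut.conj g • A).subgroupOf (MulAut.conj g • X) = (A.subgroupOf X).comap φ := by
    ext y
    rw [mem_subgroupOf, mem_smul_iff]
    simp [φ, mem_subgroupOf, MulAut.conj_apply]
  rw [e]
  exact h.2.comap φ

theorem isCoatom_conj {M : Subgroup G} (g : G) (h : IsCoatom M) : IsCoatom (MulAut.conj g • M) := by
  refine ⟨fun e => h.1 ?_, fun X hX => ?_⟩
  · have e' := congrArg (fun Z : Subgroup G => MulAut.conj g⁻¹ • Z) e
    simp only [smul_comp, inv_mul_cancel, map_one, one_smul] at e'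
    rw [e']
    exact (eq_top_iff' _).2 fun x => mem_smul_iff.2 (mem_top _)
  · have h1 : M < MulAut.conj g⁻¹ • X := by
      rw [lt_iff_le_not_ge] at hX ⊢
      refine ⟨?_, fun hc => hX.2 ?_⟩
      · have := pointwise_smul_le_pointwise_smul_iff (a := MulAut.conj g⁻¹) |>.2 hX.1
        simpa [smul_comp] using this
      · have := pointwise_smul_le_pointwise_smul_iff (a := MulAut.conj g) |>.2 hc
        simpa [smul_comp] using this
    have e := congrArg (fun Z : Subgroup G => MulAut.conj g • Z) (h.2 _ h1)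
    simp only [smul_comp, mul_inv_cancel, map_one, one_smul] at e
    rw [e]
    exact (eq_top_iff' _).2 fun x => mem_smul_iff.2 (mem_top _)

theorem le_normalizer_iff_smul {A B : Subgroup G} :
    A ≤ normalizer (B : Set G) ↔ ∀ a ∈ A, MulAut.conj a • B = B :=
  ⟨fun h a ha => SubnormalJoin.conj_smul_eq_iff_mem_normalizer.2 (h ha),
    fun h a ha => SubnormalJoin.conj_smul_eq_iff_mem_normalizer.1 (h a ha)⟩

theorem le_normalizer_conj {A B : Subgroup G} (g : G) (h : A ≤ normalizer (B : Set G)) :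
    MulAut.conj g • A ≤ normalizer ((MulAut.conj g • B : Subgroup G) : Set G) := by
  rw [le_normalizer_iff_smul] at h ⊢
  intro a ha
  rw [smul_comp, show a * g = g * (g⁻¹ * a * g) by group, ← smul_comp, h _ (mem_smul_iff.1 ha)]

/-- A join is normalised by whatever permutes a generating family. -/
theorem smul_sSup_eq [Finite G] (s : Set (Subgroup G)) (g : G) (h : ∀ B ∈ s, MulAut.conj g • B ∈ s) :
    MulAut.conj g • sSup s = sSup s := by
  refine eq_of_le_of_card_ge ?_ (le_of_eq (Nat.card_congr (equivSMul (MulAut.conj g) _).toEquiv))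
  rw [pointwise_smul_subset_iff]
  exact sSup_le fun B hB => pointwise_smul_subset_iff.1 (le_sSup (h B hB))

/-- A subgroup with full normal closure is not subnormal unless it is everything. -/
theorem not_isSubnormal {A : Subgroup G} (hA : normalClosure (A : Set G) = ⊤) (hne : A ≠ ⊤) :
    ¬ A.IsSubnormal := by
  intro h
  rcases h.lt_normal with h | ⟨K, hK, hAK, hKt⟩
  · exact hne h
  · haveI := hK
    exact hKt.ne (top_le_iff.1 (hA ▸ normalClosure_le_normal hAK))

section Main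

variable (C : Subgroup G)

/-- The conjugates of `C` which are subnormal in `V`. -/
def SS (V : Subgroup G) : Set (Subgroup G) := {B | (∃ g : G, B = MulAut.conj g • C) ∧ SnIn B V}

/-- `W` is a maximal subgroup containing `B` in which `B` is not subnormal. -/
def Bad (B W : Subgroup G) : Prop := IsCoatom W ∧ B ≤ W ∧ ¬ SnIn B W

/-- The facts used about the conjugates of `C`. -/
structure Setting : Prop where
  closure : normalClosure (C : Set G) = ⊤
  bad : ∀ g : G, ∃ W, Bad (MulAut.conj g • C) W ∧ ∀ W', Bad (MulAut.conj g • C) W' → W' = W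
  inj : ∀ {B B' M W : Subgroup G}, IsCoatom M → B ∈ SS C M → B' ∈ SS C M → Bad B W → Bad B' W → B = B'
  normalizer_le : ∀ {B W : Subgroup G}, (∃ g : G, B = MulAut.conj g • C) → Bad B W → normalizer (B : Set G) ≤ W
  symm : ∀ {B B' M : Subgroup G}, IsCoatom M → B ∈ SS C M → B' ∈ SS C M →
    B' ≤ normalizer (B : Set G) → B ≤ normalizer (B' : Set G)

variable {C}

theorem Setting.exists_bad (hS : Setting C) {B V : Subgroup G} (hB : B ∈ SS C V) : ∃ W, Bad B W := by
  obtain ⟨⟨g, rfl⟩, -⟩ := hB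
  obtain ⟨W, hW, -⟩ := hS.bad g
  exact ⟨W, hW⟩

theorem Setting.bad_unique (hS : Setting C) {B W W' : Subgroup G} (hB : ∃ g : G, B = MulAut.conj g • C)
    (h : Bad B W) (h' : Bad B W') : W' = W := by
  obtain ⟨g, rfl⟩ := hB
  obtain ⟨W₀, -, hu⟩ := hS.bad g
  rw [hu W h, hu W' h']

theorem bad_conj {B W : Subgroup G} (g : G) (h : Bad B W) :
    Bad (MulAut.conj g • B) (MulAut.conj g • W) := by
  refine ⟨isCoatom_conj g h.1, pointwise_smul_le_pointwise_smul_iff.2 h.2.1, fun hs => h.2.2 ?_⟩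
  have := snIn_conj g⁻¹ hs
  simpa [smul_comp] using this

theorem mem_SS_conj {V B : Subgroup G} (g : G) (hB : B ∈ SS C V) :
    MulAut.conj g • B ∈ SS C (MulAut.conj g • V) := by
  obtain ⟨⟨h, rfl⟩, hs⟩ := hB
  exact ⟨⟨g * h, smul_comp g h C⟩, snIn_conj g hs⟩

theorem mem_SS_self_conj {V B : Subgroup G} {v : G} (hv : v ∈ V) (hB : B ∈ SS C V) :
    MulAut.conj v • B ∈ SS C V := by
  have h := mem_SS_conj v hB
  rwa [smul_self_of_mem hv] at h

/-- A subgroup in a maximal subgroup containing a conjugate has proper normaliser. -/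
theorem Setting.normalizer_ne_top (hS : Setting C) {L V B : Subgroup G} (hV : IsCoatom V) (hLV : L ≤ V)
    (hB : ∃ g : G, B = MulAut.conj g • C) (hBL : B ≤ L) : normalizer (L : Set G) ≠ ⊤ := by
  intro h
  obtain ⟨g, rfl⟩ := hB
  haveI : L.Normal := normalizer_eq_top_iff.1 h
  have hC : C ≤ L := fun c hc => by
    have h1 : g * c * g⁻¹ ∈ L := hBL (mem_smul_iff.2 (by simpa [mul_assoc] using hc))
    have h2 := ‹L.Normal›.conj_mem _ h1 g⁻¹
    simpa [mul_assoc] using h2
  exact hV.1 (top_le_iff.1 ((hS.closure ▸ normalClosure_le_normal hC : ⊤ ≤ L).trans hLV))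

/-- A member outside a subfamily normalising its join. -/
theorem exists_new [Finite G] {V : Subgroup G} (s : Set (Subgroup G)) (hs : s ⊆ SS C V)
    (hV : ¬ V ≤ normalizer ((sSup s : Subgroup G) : Set G)) :
    ∃ B ∈ SS C V, B ∉ s ∧ B ≤ normalizer ((sSup s : Subgroup G) : Set G) := by
  rcases hs.eq_or_ssubset with heq | hss
  · refine absurd (fun v hv => ?_) hV
    refine SubnormalJoin.conj_smul_eq_iff_mem_normalizer.1 (smul_sSup_eq s v fun B hB => ?_)
    rw [heq] at hB ⊢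
    exact mem_SS_self_conj hv hB
  let f : Subgroup G → Subgroup V := fun B => B.subgroupOf V
  have hinj : Set.InjOn f (SS C V) := fun a ha b hb h => by
    have h' := congrArg (Subgroup.map V.subtype) h
    simpa [f, map_subgroupOf_eq_of_le ha.2.1, map_subgroupOf_eq_of_le hb.2.1] using h'
  obtain ⟨B', ⟨B, hB, rfl⟩, hBT, hBN⟩ := Cfsg.Agent.S0539.exists_normalizing (f '' SS C V) (f '' s)
    (by rintro _ ⟨B, hB, rfl⟩; exact hB.2.2)
    (by
      rintro _ ⟨B, hB, rfl⟩ v
      exact ⟨_, mem_SS_self_conj v.2 hB, (conj_smul_subgroupOf hB.2.1 v).symm⟩)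
    (by
      refine ⟨Set.image_mono hss.1, fun h => hss.2 fun B hB => ?_⟩
      obtain ⟨B', hB', e⟩ := h ⟨B, hB, rfl⟩
      exact hinj (hs hB') hB e ▸ hB')
  have hsupV : sSup s ≤ V := sSup_le fun D hD => (hs hD).2.1
  have hsup : sSup (f '' s) = (sSup s).subgroupOf V := by
    refine map_injective V.subtype_injective ?_
    rw [map_subgroupOf_eq_of_le hsupV, sSup_image, sSup_eq_iSup]
    simp only [Subgroup.map_iSup]
    exact iSup_congr fun D => iSup_congr fun hD => map_subgroupOf_eq_of_le (hs hD).2.1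
  rw [hsup] at hBN
  refine ⟨B, hB, fun h => hBT ⟨B, h, rfl⟩, fun b hb => ?_⟩
  have hb' := hBN (x := ⟨b, hB.2.1 hb⟩) (mem_subgroupOf.2 hb)
  rw [← SubnormalJoin.conj_smul_eq_iff_mem_normalizer] at hb' ⊢
  rw [conj_smul_subgroupOf hsupV] at hb'
  have hle : MulAut.conj b • sSup s ≤ V := by
    rintro _ ⟨x, hx, rfl⟩
    exact V.mul_mem (V.mul_mem (hB.2.1 hb) (hsupV hx)) (V.inv_mem (hB.2.1 hb))
  have h' := congrArg (Subgroup.map V.subtype) hb'
  rwa [map_subgroupOf_eq_of_le hle, map_subgroupOf_eq_of_le hsupV] at h'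

/-- The maximum size of a common family. -/
def MaxBound (C : Subgroup G) (r : ℕ) : Prop :=
  ∀ V W : Subgroup G, IsCoatom V → IsCoatom W → V ≠ W → (SS C V ∩ SS C W).ncard ≤ r

/-- The configuration leading to a contradiction. -/
structure Config (C : Subgroup G) (r : ℕ) (V X B : Subgroup G) : Prop where
  hV : IsCoatom V
  hX : IsCoatom X
  ne : V ≠ X
  card : (SS C V ∩ SS C X).ncard = r
  memB : B ∈ SS C V
  badB : Bad B X
  nor : ∀ D ∈ SS C V ∩ SS C X, B ≤ normalizer (D : Set G) ∧ D ≤ normalizer (B : Set G)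

theorem step [Finite G] (hS : Setting C) {r : ℕ} (hr : 0 < r) (hmax : MaxBound C r)
    {V X B : Subgroup G} (h : Config C r V X B) :
    ∃ E F, Config C r X V E ∧ E ≤ normalizer (B : Set G) ∧ B ≤ normalizer (E : Set G) ∧
      F ∈ SS C V ∧ F ∉ insert B (SS C V ∩ SS C X) ∧
      F ≤ normalizer ((sSup (insert E (insert B (SS C V ∩ SS C X))) : Subgroup G) : Set G) := by
  obtain ⟨hV, hX, hne, hcard, hBV, hBX, hnor⟩ := h
  set s := SS C V ∩ SS C X with hs
  set T := sSup s with hT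
  obtain ⟨D₀, hD₀⟩ : s.Nonempty := Set.nonempty_of_ncard_ne_zero (by omega)
  have hBs : B ∉ s := fun hm => hBX.2.2 hm.2.2
  have hTV : SnIn T V := snIn_sSup s fun A hA => hA.1.2
  have hTX : SnIn T X := snIn_sSup s fun A hA => hA.2.2
  have hperm : ∀ n : G, MulAut.conj n • T = T → ∀ D ∈ s, MulAut.conj n • D ∈ s := by
    intro n hn D hD
    have h1 := snIn_conj n (snIn_mono hD.1.2 (le_sSup hD) hTV.1)
    rw [← hT, hn] at h1
    obtain ⟨g, rfl⟩ := hD.1.1
    exact ⟨⟨⟨n * g, smul_comp n g C⟩, snIn_trans h1 hTV⟩, ⟨⟨n * g, smul_comp n g C⟩, snIn_trans h1 hTX⟩⟩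
  -- two conjugates with the same bad subgroup normalising a common member coincide
  have hsame : ∀ {B₁ B₂ W D : Subgroup G}, (∃ g : G, B₁ = MulAut.conj g • C) → (∃ g : G, B₂ = MulAut.conj g • C) →
      Bad B₁ W → Bad B₂ W → D ∈ SS C W → B₁ ≤ normalizer (D : Set G) → B₂ ≤ normalizer (D : Set G) →
      B₁ = B₂ := by
    intro B₁ B₂ W D h1 h2 hb1 hb2 hD hn1 hn2
    obtain ⟨Z, hZ⟩ := hS.exists_bad hD
    have hNZ := hS.normalizer_le hD.1 hZ
    have hZW : Z ≠ W := fun e => hZ.2.2 (e ▸ hD.2)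
    have hgood : ∀ {B' : Subgroup G}, (∃ g : G, B' = MulAut.conj g • C) → Bad B' W →
        B' ≤ normalizer (D : Set G) → B' ∈ SS C Z := fun {B'} hc hb hn => by
      refine ⟨hc, ?_⟩
      by_contra hns
      exact hZW (hS.bad_unique hc hb ⟨hZ.1, hn.trans hNZ, hns⟩)
    exact hS.inj hZ.1 (hgood h1 hb1 hn1) (hgood h2 hb2 hn2) hb1 hb2
  have hBfix : ∀ n ∈ X, MulAut.conj n • T = T → MulAut.conj n • B = B := by
    intro n hn hnT
    have hbad : Bad (MulAut.conj n • B) X := by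
      have := bad_conj n hBX
      rwa [smul_self_of_mem hn] at this
    refine hsame (mem_SS_conj n hBV).1 hBV.1 hbad hBX hD₀.2 ?_ (hnor D₀ hD₀).1
    have h1 := le_normalizer_conj n (hnor _ (hperm n⁻¹ (by
      conv_lhs => rw [← hnT, smul_comp, inv_mul_cancel, map_one, one_smul]) D₀ hD₀)).1
    rwa [smul_comp, mul_inv_cancel, map_one, one_smul] at h1
  -- `X` does not normalise `T`
  have hXT : ¬ X ≤ normalizer (T : Set G) := by
    intro hle
    set X₀ := X ⊓ ⨅ D : s, normalizer ((D : Subgroup G) : Set G) with hX₀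
    have hBX₀ : B ≤ X₀ := le_inf hBX.2.1 (le_iInf fun D => (hnor D D.2).1)
    have hnorm : X ≤ normalizer (X₀ : Set G) := by
      rw [le_normalizer_iff_smul]
      intro n hn
      refine eq_of_le_of_card_ge ?_ (le_of_eq (Nat.card_congr (equivSMul (MulAut.conj n) X₀).toEquiv))
      refine le_inf ((pointwise_smul_le_pointwise_smul_iff.2 inf_le_left).trans_eq (smul_self_of_mem hn))
        (le_iInf fun D => ?_)
      have hD' : MulAut.conj n⁻¹ • (D : Subgroup G) ∈ s :=
        hperm n⁻¹ (le_normalizer_iff_smul.1 hle _ (inv_mem hn)) D D.2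
      have h1 : X₀ ≤ normalizer ((MulAut.conj n⁻¹ • (D : Subgroup G) : Subgroup G) : Set G) :=
        inf_le_right.trans (iInf_le (fun D : s => normalizer ((D : Subgroup G) : Set G)) ⟨_, hD'⟩)
      have h2 := le_normalizer_conj n h1
      rwa [smul_comp, mul_inv_cancel, map_one, one_smul] at h2
    obtain ⟨Z, hZ⟩ := hS.exists_bad hD₀.1
    have hX₀Z : X₀ ≤ Z :=
      (inf_le_right.trans (iInf_le (fun D : s => normalizer ((D : Subgroup G) : Set G)) ⟨D₀, hD₀⟩)).trans
        (hS.normalizer_le hD₀.1.1 hZ)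
    have hBZ : SnIn B Z := by
      by_contra hns
      exact hZ.2.2 (hS.bad_unique hBV.1 hBX ⟨hZ.1, hBX₀.trans hX₀Z, hns⟩ ▸ hD₀.2.2)
    exact hBX.2.2 (snIn_trans (snIn_mono hBZ hBX₀ hX₀Z) (snIn_of_normal inf_le_left hnorm))
  obtain ⟨E, hEX, hEs, hET⟩ := exists_new s Set.inter_subset_right hXT
  set K := sSup (insert B s) with hK
  have hKeq : K = B ⊔ T := sSup_insert
  have hKV : K ≤ V := by rw [hKeq]; exact sup_le hBV.2.1 hTV.1
  have hNK : ∀ {E' : Subgroup G}, E' ∈ SS C X → E' ≤ normalizer (T : Set G) →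
      E' ≤ normalizer (K : Set G) := fun {E'} hE hE' => by
    rw [le_normalizer_iff_smul]
    intro e he
    refine smul_sSup_eq _ e fun D hD => ?_
    rcases Set.mem_insert_iff.1 hD with rfl | hD
    · exact Set.mem_insert_iff.2 (Or.inl (hBfix e (hE.2.1 he) (le_normalizer_iff_smul.1 hE' e he)))
    · exact Set.mem_insert_of_mem _ (hperm e (le_normalizer_iff_smul.1 hE' e he) D hD)
  obtain ⟨W, hW, hKW⟩ := (eq_top_or_exists_le_coatom (normalizer (K : Set G))).resolve_left
    (hS.normalizer_ne_top hV hKV hBV.1 (le_sSup (Set.mem_insert _ _)))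
  -- the normaliser of `K` lies in `V`
  have hWV : W = V := by
    by_cases hVK : V ≤ normalizer (K : Set G)
    · exact (hV.le_iff.1 (hVK.trans hKW)).resolve_left hW.1
    by_contra hWV
    obtain ⟨F, hFV, hFs, hFK⟩ := exists_new (insert B s) (Set.insert_subset hBV Set.inter_subset_left) hVK
    have hFW : F ≤ W := hFK.trans hKW
    by_cases hall : insert B s ⊆ SS C W
    · have h1 := Set.ncard_le_ncard (s := insert B s) (t := SS C V ∩ SS C W)
        (fun D hD => ⟨(Set.insert_subset hBV Set.inter_subset_left) hD, hall hD⟩)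
      rw [Set.ncard_insert_of_notMem hBs] at h1
      have := hmax V W hV hW (Ne.symm hWV)
      omega
    obtain ⟨D, hD, hDW⟩ := Set.not_subset.1 hall
    have hDV : D ∈ SS C V := (Set.insert_subset hBV Set.inter_subset_left) hD
    have hDle : D ≤ W := ((le_sSup hD).trans le_normalizer).trans hKW
    have hDbad : Bad D W := ⟨hW, hDle, fun hsn => hDW ⟨hDV.1, hsn⟩⟩
    have hgood : ∀ D' ∈ SS C V, D' ≠ D → D' ≤ W → D' ∈ SS C W := fun D' hD' hne' hle => by
      refine ⟨hD'.1, ?_⟩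
      by_contra hns
      exact hne' (hS.inj hV hD' hDV ⟨hW, hle, hns⟩ hDbad)
    have hsub : insert F (insert B s \ {D}) ⊆ SS C V ∩ SS C W := by
      intro D' hD'
      rcases Set.mem_insert_iff.1 hD' with rfl | ⟨hD', hne'⟩
      · exact ⟨hFV, hgood _ hFV (fun e => hFs (e ▸ hD)) hFW⟩
      · have hV' := (Set.insert_subset hBV Set.inter_subset_left) hD'
        exact ⟨hV', hgood _ hV' hne' (((le_sSup hD').trans le_normalizer).trans hKW)⟩
    have h1 := Set.ncard_le_ncard hsub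
    rw [Set.ncard_insert_of_notMem (fun hm => hFs hm.1), Set.ncard_diff_singleton_of_mem hD,
      Set.ncard_insert_of_notMem hBs] at h1
    have := hmax V W hV hW (Ne.symm hWV)
    omega
  rw [hWV] at hKW
  have hbadE : ∀ {E' : Subgroup G}, E' ∈ SS C X → E' ∉ s → E' ≤ normalizer (T : Set G) → Bad E' V :=
    fun {E'} hE hE's hE' => ⟨hV, (hNK hE hE').trans hKW, fun hsn => hE's ⟨⟨hE.1, hsn⟩, hE⟩⟩
  have hEV : Bad E V := hbadE hEX hEs hET
  have hEfix : ∀ n ∈ X, MulAut.conj n • T = T → MulAut.conj n • E = E := by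
    intro n hn hnT
    have hnE := mem_SS_self_conj hn hEX
    refine hS.inj hX hnE hEX (hbadE hnE (fun hm => hEs ?_) ?_) hEV
    · have h1 := hperm n⁻¹ (by conv_lhs => rw [← hnT, smul_comp, inv_mul_cancel, map_one, one_smul]) _ hm
      rwa [smul_comp, inv_mul_cancel, map_one, one_smul] at h1
    · have h1 := le_normalizer_conj n hET
      rwa [hnT] at h1
  have hBT : B ≤ normalizer (T : Set G) := by
    rw [le_normalizer_iff_smul]
    exact fun b hb => smul_sSup_eq s b fun D hD => by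
      rwa [le_normalizer_iff_smul.1 (hnor D hD).1 b hb]
  have hBE : B ≤ normalizer (E : Set G) := le_normalizer_iff_smul.2 fun b hb =>
    hEfix b (hBX.2.1 hb) (le_normalizer_iff_smul.1 hBT b hb)
  have hsE : ∀ D ∈ s, D ≤ normalizer (E : Set G) := fun D hD => le_normalizer_iff_smul.2 fun d hd =>
    hEfix d (hD.2.2.1 hd) (smul_self_of_mem ((le_sSup hD : D ≤ T) hd))
  have hEB : E ≤ normalizer (B : Set G) := le_normalizer_iff_smul.2 fun e he =>
    hBfix e (hEX.2.1 he) (le_normalizer_iff_smul.1 hET e he)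
  have hEs' : ∀ D ∈ s, E ≤ normalizer (D : Set G) := fun D hD => hS.symm hX hEX hD.2 (hsE D hD)
  have hEK : E ≤ normalizer (K : Set G) := hNK hEX hET
  -- `V` does not normalise `K`
  have hVK : ¬ V ≤ normalizer (K : Set G) := by
    intro hle
    set V₀ := V ⊓ ⨅ D : (insert B s : Set (Subgroup G)), normalizer ((D : Subgroup G) : Set G) with hV₀
    have hEV₀ : E ≤ V₀ := le_inf hEV.2.1 (le_iInf fun D => by
      rcases Set.mem_insert_iff.1 D.2 with e | hD
      · rw [e]; exact hEB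
      · exact hEs' _ hD)
    have hpermK : ∀ v ∈ V, ∀ D ∈ insert B s, MulAut.conj v • D ∈ insert B s := by
      intro v hv D hD
      have hDV : D ∈ SS C V := (Set.insert_subset hBV Set.inter_subset_left) hD
      have h1 : MulAut.conj v • D ≤ K := (pointwise_smul_le_pointwise_smul_iff.2 (le_sSup hD)).trans_eq
        (le_normalizer_iff_smul.1 hle v hv)
      by_contra hnot
      rw [Set.mem_insert_iff, not_or] at hnot
      have hKT : K ≤ normalizer (T : Set G) := by rw [hKeq]; exact sup_le hBT le_normalizer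
      have hKX : K ≤ X := by rw [hKeq]; exact sup_le hBX.2.1 hTX.1
      refine hnot.1 (hS.inj hV (mem_SS_self_conj hv hDV) hBV ⟨hX, h1.trans hKX, fun hsn => hnot.2 ?_⟩ hBX)
      exact ⟨mem_SS_self_conj hv hDV, (mem_SS_self_conj hv hDV).1, hsn⟩
    have hnorm : V ≤ normalizer (V₀ : Set G) := by
      rw [le_normalizer_iff_smul]
      intro n hn
      refine eq_of_le_of_card_ge ?_ (le_of_eq (Nat.card_congr (equivSMul (MulAut.conj n) V₀).toEquiv))
      refine le_inf ((pointwise_smul_le_pointwise_smul_iff.2 inf_le_left).trans_eq (smul_self_of_mem hn))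
        (le_iInf fun D => ?_)
      have hD' : MulAut.conj n⁻¹ • (D : Subgroup G) ∈ insert B s := hpermK n⁻¹ (inv_mem hn) D D.2
      have h1 : V₀ ≤ normalizer ((MulAut.conj n⁻¹ • (D : Subgroup G) : Subgroup G) : Set G) :=
        inf_le_right.trans (iInf_le (fun D : (insert B s : Set (Subgroup G)) =>
          normalizer ((D : Subgroup G) : Set G)) ⟨_, hD'⟩)
      have h2 := le_normalizer_conj n h1
      rwa [smul_comp, mul_inv_cancel, map_one, one_smul] at h2
    have hV₀X : V₀ ≤ X :=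
      (inf_le_right.trans (iInf_le (fun D : (insert B s : Set (Subgroup G)) =>
        normalizer ((D : Subgroup G) : Set G)) ⟨B, Set.mem_insert _ _⟩)).trans (hS.normalizer_le hBV.1 hBX)
    exact hEV.2.2 (snIn_trans (snIn_mono hEX.2 hEV₀ hV₀X) (snIn_of_normal inf_le_left hnorm))
  obtain ⟨F, hFV, hFs, hFK⟩ := exists_new (insert B s) (Set.insert_subset hBV Set.inter_subset_left) hVK
  refine ⟨E, F, ⟨hX, hV, hne.symm, by rw [Set.inter_comm]; exact hcard, hEX, hEV, ?_⟩, hEB, hBE, hFV, hFs, ?_⟩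
  · intro D hD
    rw [Set.inter_comm] at hD
    exact ⟨hEs' D hD, hsE D hD⟩
  -- `F` fixes `E`
  have hKT : K ≤ normalizer (T : Set G) := by rw [hKeq]; exact sup_le hBT le_normalizer
  have hKX : K ≤ X := by rw [hKeq]; exact sup_le hBX.2.1 hTX.1
  have hpermF : ∀ f ∈ F, ∀ D ∈ insert B s, MulAut.conj f • D ∈ insert B s := by
    intro f hf D hD
    have hDV : D ∈ SS C V := (Set.insert_subset hBV Set.inter_subset_left) hD
    have hfV : f ∈ V := hFV.2.1 hf
    have h1 : MulAut.conj f • D ≤ K := (pointwise_smul_le_pointwise_smul_iff.2 (le_sSup hD)).trans_eq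
      (le_normalizer_iff_smul.1 hFK f hf)
    by_contra hnot
    rw [Set.mem_insert_iff, not_or] at hnot
    refine hnot.1 (hS.inj hV (mem_SS_self_conj hfV hDV) hBV ⟨hX, h1.trans hKX, fun hsn => hnot.2 ?_⟩ hBX)
    exact ⟨mem_SS_self_conj hfV hDV, (mem_SS_self_conj hfV hDV).1, hsn⟩
  have hEall : ∀ D ∈ insert B s, E ≤ normalizer (D : Set G) := by
    intro D hD
    rcases Set.mem_insert_iff.1 hD with rfl | hD
    · exact hEB
    · exact hEs' D hD
  rw [le_normalizer_iff_smul]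
  intro f hf
  have hfV : f ∈ V := hFV.2.1 hf
  have hfE : MulAut.conj f • E = E := by
    have hbad : Bad (MulAut.conj f • E) V := by
      have := bad_conj f hEV
      rwa [smul_self_of_mem hfV] at this
    have hD' := hpermF f⁻¹ (inv_mem hf) D₀ (Set.mem_insert_of_mem _ hD₀)
    have h1 := le_normalizer_conj f (hEall _ hD')
    rw [smul_comp, mul_inv_cancel, map_one, one_smul] at h1
    exact hsame (mem_SS_conj f hEX).1 hEX.1 hbad hEV hD₀.1 h1 (hEs' D₀ hD₀)
  refine smul_sSup_eq _ f fun D hD => ?_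
  rcases Set.mem_insert_iff.1 hD with rfl | hD
  · rw [hfE]; exact Set.mem_insert _ _
  · exact Set.mem_insert_of_mem _ (hpermF f hf D hD)

theorem false_of_config [Finite G] (hS : Setting C) {r : ℕ} (hr : 0 < r) (hmax : MaxBound C r)
    {V X B : Subgroup G} (h : Config C r V X B) : False := by
  obtain ⟨E, F, hc, -, -, hFV, hFs, hFN⟩ := step hS hr hmax h
  obtain ⟨E', F', hc', -, -, hF'X, hF's, hF'N⟩ := step hS hr hmax hc
  obtain ⟨hV, hX, hne, hcard, hBV, hBX, hnor⟩ := h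
  have hE' : E' = B := hS.inj hV hc'.memB hBV hc'.badB hBX
  subst hE'
  rw [Set.inter_comm] at hF's hF'N
  rw [Set.insert_comm] at hF'N
  set s := SS C V ∩ SS C X with hs
  have hEX := hc.memB
  have hEV := hc.badB
  have hBs : E' ∉ s := fun hm => hBX.2.2 hm.2.2
  set L := sSup (insert E (insert E' s)) with hL
  have hLV : L ≤ V := sSup_le fun D hD => by
    rcases Set.mem_insert_iff.1 hD with rfl | hD
    · exact hEV.2.1
    rcases Set.mem_insert_iff.1 hD with rfl | hD
    · exact hBV.2.1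
    · exact hD.1.2.1
  obtain ⟨W, hW, hLW⟩ := (eq_top_or_exists_le_coatom (normalizer (L : Set G))).resolve_left
    (hS.normalizer_ne_top hV hLV hBV.1 (le_sSup (Set.mem_insert_of_mem _ (Set.mem_insert _ _))))
  have hin : ∀ D ∈ insert E' s, D ≤ W := fun D hD =>
    ((le_sSup (Set.mem_insert_of_mem _ hD) : D ≤ L).trans le_normalizer).trans hLW
  have hFW : F ≤ W := hFN.trans hLW
  have hF'W : F' ≤ W := hF'N.trans hLW
  have hWV : W ≠ V := by
    rintro rfl
    have hbad : Bad F' W := ⟨hW, hF'W, fun hsn => hF's (Set.mem_insert_of_mem _ ⟨⟨hF'X.1, hsn⟩, hF'X⟩)⟩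
    exact hF's (Set.mem_insert_iff.2 (Or.inl (hS.inj hX hF'X hEX hbad hEV)))
  have hWX : W ≠ X := by
    rintro rfl
    have hbad : Bad F W := ⟨hW, hFW, fun hsn => hFs (Set.mem_insert_of_mem _ ⟨hFV, hFV.1, hsn⟩)⟩
    exact hFs (Set.mem_insert_iff.2 (Or.inl (hS.inj hV hFV hBV hbad hBX)))
  by_cases hall : insert E' s ⊆ SS C W
  · have h1 := Set.ncard_le_ncard (s := insert E' s) (t := SS C V ∩ SS C W)
      (fun D hD => ⟨(Set.insert_subset hBV Set.inter_subset_left) hD, hall hD⟩)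
    rw [Set.ncard_insert_of_notMem hBs] at h1
    have := hmax V W hV hW hWV.symm
    omega
  obtain ⟨D, hD, hDW⟩ := Set.not_subset.1 hall
  have hDV : D ∈ SS C V := (Set.insert_subset hBV Set.inter_subset_left) hD
  have hDbad : Bad D W := ⟨hW, hin D hD, fun hsn => hDW ⟨hDV.1, hsn⟩⟩
  have hgood : ∀ D' ∈ SS C V, D' ≠ D → D' ≤ W → D' ∈ SS C W := fun D' hD' hne' hle => by
    refine ⟨hD'.1, ?_⟩
    by_contra hns
    exact hne' (hS.inj hV hD' hDV ⟨hW, hle, hns⟩ hDbad)
  have hsub : insert F (insert E' s \ {D}) ⊆ SS C V ∩ SS C W := by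
    intro D' hD'
    rcases Set.mem_insert_iff.1 hD' with rfl | ⟨hD', hne'⟩
    · exact ⟨hFV, hgood _ hFV (fun e => hFs (e ▸ hD)) hFW⟩
    · have hV' := (Set.insert_subset hBV Set.inter_subset_left) hD'
      exact ⟨hV', hgood _ hV' hne' (hin D' hD')⟩
  have h1 := Set.ncard_le_ncard hsub
  rw [Set.ncard_insert_of_notMem (fun hm => hFs hm.1), Set.ncard_diff_singleton_of_mem hD,
    Set.ncard_insert_of_notMem hBs] at h1
  have := hmax V W hV hW hWV.symm
  omega

/-- No setting has two maximal subgroups sharing a subnormal conjugate. -/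
theorem false_of_pair [Finite G] (hS : Setting C) {V₀ W₀ : Subgroup G} (hV₀ : IsCoatom V₀)
    (hW₀ : IsCoatom W₀) (hne₀ : V₀ ≠ W₀) (hne : (SS C V₀ ∩ SS C W₀).Nonempty) : False := by
  obtain ⟨⟨V₁, V₂⟩, ⟨hV₁, hV₂, hne₁⟩, hmax₀⟩ := Set.exists_max_image
    {P : Subgroup G × Subgroup G | IsCoatom P.1 ∧ IsCoatom P.2 ∧ P.1 ≠ P.2}
    (fun P => (SS C P.1 ∩ SS C P.2).ncard) (Set.toFinite _) ⟨(V₀, W₀), hV₀, hW₀, hne₀⟩
  set s := SS C V₁ ∩ SS C V₂ with hs
  set r := s.ncard with hr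
  have hmax : MaxBound C r := fun V W hV hW hVW => hmax₀ (V, W) ⟨hV, hW, hVW⟩
  have hr0 : 0 < r := lt_of_lt_of_le ((Set.ncard_pos (Set.toFinite _)).2 hne) (hmax V₀ W₀ hV₀ hW₀ hne₀)
  obtain ⟨D₀, hD₀⟩ : s.Nonempty := (Set.ncard_pos (Set.toFinite _)).1 hr0
  set T := sSup s with hT
  have hTV₁ : SnIn T V₁ := snIn_sSup s fun A hA => hA.1.2
  have hTV₂ : SnIn T V₂ := snIn_sSup s fun A hA => hA.2.2
  have hperm : ∀ n : G, MulAut.conj n • T = T → ∀ D ∈ s, MulAut.conj n • D ∈ s := by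
    intro n hn D hD
    have h1 := snIn_conj n (snIn_mono hD.1.2 (le_sSup hD) hTV₁.1)
    rw [← hT, hn] at h1
    obtain ⟨g, rfl⟩ := hD.1.1
    exact ⟨⟨⟨n * g, smul_comp n g C⟩, snIn_trans h1 hTV₁⟩, ⟨⟨n * g, smul_comp n g C⟩, snIn_trans h1 hTV₂⟩⟩
  obtain ⟨X, hX, hTX⟩ := (eq_top_or_exists_le_coatom (normalizer (T : Set G))).resolve_left
    (hS.normalizer_ne_top hV₁ hTV₁.1 hD₀.1.1 (le_sSup hD₀))
  have hle : T ≤ X := le_normalizer.trans hTX
  by_cases hall : s ⊆ SS C X
  · obtain ⟨V, hV, hVX, hsV⟩ : ∃ V, IsCoatom V ∧ V ≠ X ∧ s ⊆ SS C V := by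
      by_cases h1 : V₁ = X
      · exact ⟨V₂, hV₂, fun e => hne₁ (h1.trans e.symm), Set.inter_subset_right⟩
      · exact ⟨V₁, hV₁, h1, Set.inter_subset_left⟩
    have heq : SS C V ∩ SS C X = s :=
      (Set.eq_of_subset_of_ncard_le (Set.subset_inter hsV hall) (hmax V X hV hX hVX)).symm
    have hVT : ¬ V ≤ normalizer (T : Set G) := fun h =>
      hVX ((hV.le_iff.1 (h.trans hTX)).resolve_left hX.1).symm
    obtain ⟨B, hBV, hBs, hBT⟩ := exists_new s hsV hVT
    have hbad : ∀ {B' : Subgroup G}, B' ∈ SS C V → B' ∉ s → B' ≤ normalizer (T : Set G) → Bad B' X :=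
      fun {B'} h1 h2 h3 => ⟨hX, h3.trans hTX, fun hsn => h2 (heq ▸ ⟨h1, h1.1, hsn⟩)⟩
    have hTV : T ≤ V := sSup_le fun D hD => (hsV hD).2.1
    have hfix : ∀ t ∈ T, MulAut.conj t • B = B := by
      intro t ht
      have htB := mem_SS_self_conj (hTV ht) hBV
      refine hS.inj hV htB hBV (hbad htB (fun hm => hBs ?_) ?_) (hbad hBV hBs hBT)
      · have h1 := hperm t⁻¹ (smul_self_of_mem (inv_mem ht)) _ hm
        rwa [smul_comp, inv_mul_cancel, map_one, one_smul] at h1
      · have h1 := le_normalizer_conj t hBT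
        rwa [smul_self_of_mem ht] at h1
    refine false_of_config hS hr0 hmax ⟨hV, hX, hVX, by rw [heq], hBV, hbad hBV hBs hBT, ?_⟩
    intro D hD
    rw [heq] at hD
    have hDB : D ≤ normalizer (B : Set G) :=
      le_normalizer_iff_smul.2 fun d hd => hfix d ((le_sSup hD : D ≤ T) hd)
    exact ⟨hS.symm hV hBV (hsV hD) hDB, hDB⟩
  obtain ⟨B, hB, hBX'⟩ := Set.not_subset.1 hall
  have hBX : Bad B X := ⟨hX, (le_sSup hB : B ≤ T).trans hle, fun hsn => hBX' ⟨hB.1.1, hsn⟩⟩
  have hV₁X : V₁ ≠ X := fun e => hBX.2.2 (e ▸ hB.1.2)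
  have hnB : normalizer (T : Set G) ≤ normalizer (B : Set G) := by
    rw [le_normalizer_iff_smul]
    intro n hn
    have hnT : MulAut.conj n • T = T := SubnormalJoin.conj_smul_eq_iff_mem_normalizer.2 hn
    have hbad : Bad (MulAut.conj n • B) X := by
      have := bad_conj n hBX
      rwa [smul_self_of_mem (hTX hn)] at this
    exact hS.inj hV₁ (hperm n hnT B hB).1 hB.1 hbad hBX
  have hVT : ¬ V₁ ≤ normalizer (T : Set G) := fun h =>
    hV₁X ((hV₁.le_iff.1 (h.trans hTX)).resolve_left hX.1).symm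
  obtain ⟨B', hB'V, hB's, hB'T⟩ := exists_new s Set.inter_subset_left hVT
  have hgood : ∀ D ∈ SS C V₁, D ≠ B → D ≤ X → D ∈ SS C X := fun D hD hne' hle' => by
    refine ⟨hD.1, ?_⟩
    by_contra hns
    exact hne' (hS.inj hV₁ hD hB.1 ⟨hX, hle', hns⟩ hBX)
  have hB'X : B' ∈ SS C X := hgood B' hB'V (fun e => hB's (e ▸ hB)) (hB'T.trans hTX)
  have hsub : insert B' (s \ {B}) ⊆ SS C V₁ ∩ SS C X := by
    intro D hD
    rcases Set.mem_insert_iff.1 hD with rfl | ⟨hD, hne'⟩
    · exact ⟨hB'V, hB'X⟩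
    · exact ⟨hD.1, hgood D hD.1 hne' ((le_sSup hD : D ≤ T).trans hle)⟩
  have hcard : (insert B' (s \ {B})).ncard = r := by
    rw [Set.ncard_insert_of_notMem (fun hm => hB's hm.1), Set.ncard_diff_singleton_of_mem hB]
    omega
  have hb := hmax V₁ X hV₁ hX hV₁X
  have heq := Set.eq_of_subset_of_ncard_le hsub (by omega)
  refine false_of_config hS hr0 hmax ⟨hV₁, hX, hV₁X, ?_, hB.1, hBX, ?_⟩
  · rw [← heq]; exact hcard
  intro D hD
  rw [← heq] at hD
  have hDV : D ∈ SS C V₁ := (hsub hD).1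
  have hDB : D ≤ normalizer (B : Set G) := by
    rcases Set.mem_insert_iff.1 hD with rfl | ⟨hD, -⟩
    · exact hB'T.trans hnB
    · exact ((le_sSup hD : D ≤ T).trans le_normalizer).trans hnB
  exact ⟨hS.symm hV₁ hB.1 hDV hDB, hDB⟩

end Main

/-- `C` fails to be subnormal at most in `M₀` and lies in another maximal subgroup. -/
def Cand (C M₀ : Subgroup G) : Prop :=
  normalClosure (C : Set G) = ⊤ ∧ IsCoatom M₀ ∧ C ≤ M₀ ∧
    (∀ X, IsCoatom X → X ≠ M₀ → C ≤ X → SnIn C X) ∧ ∃ M, IsCoatom M ∧ M ≠ M₀ ∧ C ≤ M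

theorem normalClosure_conj {C : Subgroup G} (g : G) (h : normalClosure (C : Set G) = ⊤) :
    normalClosure ((MulAut.conj g • C : Subgroup G) : Set G) = ⊤ := by
  rw [← top_le_iff, ← h]
  refine normalClosure_le_normal fun c hc => ?_
  have h1 : g * c * g⁻¹ ∈ normalClosure ((MulAut.conj g • C : Subgroup G) : Set G) :=
    subset_normalClosure (mem_smul_iff.2 (by simpa [mul_assoc] using hc))
  have h2 := normalClosure_normal.conj_mem _ h1 g⁻¹
  simpa [mul_assoc] using h2

theorem Cand.conj {C M₀ : Subgroup G} (g : G) (h : Cand C M₀) :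
    Cand (MulAut.conj g • C) (MulAut.conj g • M₀) := by
  obtain ⟨h1, h2, h3, h4, M, hM, hMne, hCM⟩ := h
  refine ⟨normalClosure_conj g h1, isCoatom_conj g h2, pointwise_smul_le_pointwise_smul_iff.2 h3,
    fun X hX hne hle => ?_, MulAut.conj g • M, isCoatom_conj g hM, fun e => hMne ?_,
    pointwise_smul_le_pointwise_smul_iff.2 hCM⟩
  · have h5 := h4 (MulAut.conj g⁻¹ • X) (isCoatom_conj _ hX) (fun e => hne (by
      rw [← e, smul_comp, mul_inv_cancel, map_one, one_smul])) (by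
      have := pointwise_smul_le_pointwise_smul_iff (a := MulAut.conj g⁻¹) |>.2 hle
      simpa [smul_comp] using this)
    have h6 := snIn_conj g h5
    rwa [smul_comp g g⁻¹, mul_inv_cancel, map_one, one_smul] at h6
  · have := congrArg (fun Z : Subgroup G => MulAut.conj g⁻¹ • Z) e
    simpa [smul_comp] using this

/-- There is no candidate. -/
theorem not_cand [Finite G] (C M₀ : Subgroup G) : ¬ Cand C M₀ := by
  intro h₀
  obtain ⟨⟨C, M₀⟩, hc, hmax⟩ := Set.exists_max_image {P : Subgroup G × Subgroup G | Cand P.1 P.2}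
    (fun P => Nat.card P.1) (Set.toFinite _) ⟨(C, M₀), h₀⟩
  clear h₀
  obtain ⟨hcl, hM₀, hCM₀, hsn, M, hM, hMne, hCM⟩ := hc
  have hCne : C ≠ ⊤ := fun e => hM₀.1 (top_le_iff.1 (e ▸ hCM₀))
  have hnsn : ¬ C.IsSubnormal := not_isSubnormal hcl hCne
  have hbad₀ : ¬ SnIn C M₀ := by
    intro h
    obtain ⟨M₁, hM₁, -, hu⟩ := SubnormalJoin.zipper C (fun X hCX hX => by
      obtain ⟨X', hX', hXX'⟩ := (eq_top_or_exists_le_coatom X).resolve_left hX
      rcases eq_or_ne X' M₀ with rfl | hne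
      · exact (snIn_mono h hCX hXX').2
      · exact (snIn_mono (hsn X' hX' hne (hCX.trans hXX')) hCX hXX').2) hnsn
    exact hMne (((hM.le_iff.1 (hu M hCM hM.1)).resolve_left hM₁.1).symm.trans
      ((hM₀.le_iff.1 (hu M₀ hCM₀ hM₀.1)).resolve_left hM₁.1))
  have hbad : ∀ g : G, Bad (MulAut.conj g • C) (MulAut.conj g • M₀) := fun g =>
    bad_conj g ⟨hM₀, hCM₀, hbad₀⟩
  have huniq : ∀ {g : G} {W : Subgroup G}, Bad (MulAut.conj g • C) W → W = MulAut.conj g • M₀ := by
    intro g W hW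
    by_contra hne
    obtain ⟨-, -, -, h4, -⟩ := Cand.conj g (show Cand C M₀ from ⟨hcl, hM₀, hCM₀, hsn, M, hM, hMne, hCM⟩)
    exact hW.2.2 (h4 W hW.1 hne hW.2.1)
  -- enlarging a conjugate is impossible
  have hgrow : ∀ {B B' W M : Subgroup G}, (∃ g : G, B = MulAut.conj g • C) →
      Bad B W → B' ≤ W → IsCoatom M → B ∈ SS C M → B' ∈ SS C M → B ≠ B' →
      (∀ X, IsCoatom X → X ≠ W → B ≤ X → B' ≤ X → SnIn B' X) → False := by
    intro B B' W M' hBc hBW hB'W hM' hB hB' hne hB'sn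
    obtain ⟨g, rfl⟩ := hBc
    have hcand : Cand (MulAut.conj g • C ⊔ B') W := by
      refine ⟨top_le_iff.1 ?_, hBW.1, sup_le hBW.2.1 hB'W, fun X hX hXW hle => ?_, M', hM',
        fun e => hBW.2.2 (e ▸ hB.2), sup_le hB.2.1 hB'.2.1⟩
      · exact (normalClosure_conj g hcl).ge.trans (normalClosure_mono
          (fun a ha => (le_sup_left : MulAut.conj g • C ≤ MulAut.conj g • C ⊔ B') ha))
      · refine snIn_sup ?_ (hB'sn X hX hXW (le_sup_left.trans hle) (le_sup_right.trans hle))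
        by_contra hns
        exact hXW ((huniq ⟨hX, le_sup_left.trans hle, hns⟩).trans (huniq hBW).symm)
    have h1 := hmax (_, W) hcand
    obtain ⟨g', hg'⟩ := hB'.1
    have hcB : Nat.card (MulAut.conj g • C : Subgroup G) = Nat.card C :=
      (Nat.card_congr (equivSMul (MulAut.conj g) C).toEquiv).symm
    have hcB' : Nat.card B' = Nat.card C := by
      rw [hg']; exact (Nat.card_congr (equivSMul (MulAut.conj g') C).toEquiv).symm
    have heq : MulAut.conj g • C = MulAut.conj g • C ⊔ B' :=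
      eq_of_le_of_card_ge le_sup_left (by rw [hcB]; exact h1)
    exact hne (eq_of_le_of_card_ge (le_sup_right.trans_eq heq.symm) (by rw [hcB, hcB'])).symm
  have hS : Setting C := by
    have hnorm : ∀ {B W : Subgroup G}, (∃ g : G, B = MulAut.conj g • C) → Bad B W →
        normalizer (B : Set G) ≤ W := by
      rintro B W ⟨g, rfl⟩ hW n hn
      have h1 := bad_conj n hW
      rw [SubnormalJoin.conj_smul_eq_iff_mem_normalizer.2 hn] at h1
      have h2 : MulAut.conj n • W = W := (huniq h1).trans (huniq hW).symm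
      rw [SubnormalJoin.conj_smul_eq_iff_mem_normalizer] at h2
      rcases hW.1.le_iff.1 (le_normalizer : W ≤ normalizer (W : Set G)) with h3 | h3
      · haveI : W.Normal := normalizer_eq_top_iff.1 h3
        exact absurd (top_le_iff.1 (normalClosure_conj g hcl ▸ normalClosure_le_normal hW.2.1)) hW.1.1
      · rwa [h3] at h2
    have hinj : ∀ {B B' M W : Subgroup G}, IsCoatom M → B ∈ SS C M → B' ∈ SS C M → Bad B W → Bad B' W →
        B = B' := by
      intro B B' M W hM' hB hB' hBW hB'W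
      by_contra hne
      refine hgrow hB.1 hBW hB'W.2.1 hM' hB hB' hne fun X hX hXW _ hle => ?_
      by_contra hns
      obtain ⟨g', rfl⟩ := hB'.1
      exact hXW ((huniq ⟨hX, hle, hns⟩).trans (huniq hB'W).symm)
    refine ⟨hcl, fun g => ⟨_, hbad g, fun W hW => huniq hW⟩, hinj, hnorm, ?_⟩
    intro B B' M' hM' hB hB' hn
    rcases eq_or_ne B B' with rfl | hne
    · exact le_normalizer
    obtain ⟨g, hg⟩ := hB.1
    obtain ⟨g', hg'⟩ := hB'.1
    have hBW : Bad B (MulAut.conj g • M₀) := hg ▸ hbad g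
    have hB'W : Bad B' (MulAut.conj g' • M₀) := hg' ▸ hbad g'
    have hle : B ≤ MulAut.conj g' • M₀ := by
      by_contra hnle
      refine hgrow hB.1 hBW (hn.trans (hnorm hB.1 hBW)) hM' hB hB' hne fun X hX _ hBX hB'X => ?_
      by_contra hns
      exact hnle (huniq (hg' ▸ (⟨hX, hB'X, hns⟩ : Bad B' X)) ▸ hBX)
    rw [le_normalizer_iff_smul]
    intro b hb
    have h1 := bad_conj b hB'W
    rw [smul_self_of_mem (hle hb)] at h1
    exact hinj hM' (mem_SS_self_conj (hB.2.1 hb) hB') hB' h1 hB'W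
  -- a pair of maximal subgroups sharing a conjugate
  have hCM' : SnIn C M := hsn M hM hMne hCM
  have hCSS : C ∈ SS C M := ⟨⟨1, by rw [map_one, one_smul]⟩, hCM'⟩
  have hnN : ¬ M ≤ normalizer (C : Set G) := fun h => by
    have h1 : M ≤ M₀ := h.trans (hS.normalizer_le ⟨1, by rw [map_one, one_smul]⟩ ⟨hM₀, hCM₀, hbad₀⟩)
    exact hMne ((hM.le_iff.1 h1).resolve_left hM₀.1).symm
  obtain ⟨B, hB, hBC, hBN⟩ := exists_new (C := C) {C} (by simpa using hCSS) (by rwa [sSup_singleton])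
  rw [sSup_singleton] at hBN
  obtain ⟨W, hW⟩ := hS.exists_bad hB
  have hBle : C ≤ W := (hS.symm hM hCSS hB hBN).trans (hS.normalizer_le hB.1 hW)
  have hWM : M ≠ W := fun e => hW.2.2 (e ▸ hB.2)
  refine false_of_pair hS hM hW.1 hWM ⟨C, hCSS, ⟨1, by rw [map_one, one_smul]⟩, ?_⟩
  by_contra hns
  have hCW : Bad C W := ⟨hW.1, hBle, hns⟩
  exact hBC (hS.inj hM hB hCSS hW hCW)

/-- Membership in the family generated by conjugates of `A`. -/
def Gen (A H : Subgroup G) : Prop :=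
  A ≤ H ∧ normalClosure ((A.subgroupOf H : Subgroup H) : Set H) = ⊤

/-- A normal subgroup of a group generated by conjugates of `A` containing `A` is everything. -/
theorem Gen.le {A H N : Subgroup G} (h : Gen A H) (hAN : A ≤ N) (hN : H ≤ normalizer (N : Set G)) :
    H ≤ N := by
  intro x hx
  haveI : (N.subgroupOf H).Normal := normal_subgroupOf_of_le_normalizer hN
  have h1 : normalClosure ((A.subgroupOf H : Subgroup H) : Set H) ≤ N.subgroupOf H :=
    normalClosure_le_normal fun a ha => hAN ha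
  exact h1 (h.2 ▸ mem_top (⟨x, hx⟩ : H))

theorem gen_self (A : Subgroup G) : Gen A A :=
  ⟨le_rfl, by rw [subgroupOf_self, coe_top, ← top_le_iff]; exact fun x _ => subset_normalClosure trivial⟩

/-- The closure of `A` in `H` as a subgroup of `G`. -/
theorem closure_map {A H : Subgroup G} (hAH : A ≤ H) :
    A ≤ (normalClosure ((A.subgroupOf H : Subgroup H) : Set H)).map H.subtype ∧
      (normalClosure ((A.subgroupOf H : Subgroup H) : Set H)).map H.subtype ≤ H ∧
      H ≤ normalizer (((normalClosure ((A.subgroupOf H : Subgroup H) : Set H)).map H.subtype : Subgroup G) : Set G) := by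
  refine ⟨fun a ha => ⟨⟨a, hAH ha⟩, subset_normalClosure ha, rfl⟩, map_subtype_le _, ?_⟩
  intro x hx
  rw [mem_normalizer_iff]
  intro y
  constructor
  · rintro ⟨w, hw, rfl⟩
    exact ⟨⟨x, hx⟩ * w * ⟨x, hx⟩⁻¹, normalClosure_normal.conj_mem _ hw _, rfl⟩
  · rintro ⟨w, hw, hwy⟩
    refine ⟨⟨x, hx⟩⁻¹ * w * ⟨x, hx⟩, ?_, ?_⟩
    · have h := normalClosure_normal.conj_mem _ hw (⟨x, hx⟩⁻¹ : H)
      rwa [inv_inv] at h
    · have hwy' : (w : G) = x * y * x⁻¹ := hwy
      show x⁻¹ * (w : G) * x = y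
      rw [hwy']
      group

theorem Gen.trans {A B H : Subgroup G} (hAB : Gen A B) (hBH : Gen B H) : Gen A H := by
  refine ⟨hAB.1.trans hBH.1, top_le_iff.1 fun x _ => ?_⟩
  obtain ⟨h1, -, h3⟩ := closure_map (hAB.1.trans hBH.1)
  obtain ⟨w, hw, hwx⟩ := hBH.le (hAB.le h1 (hBH.1.trans h3)) h3 x.2
  exact Subtype.ext hwx ▸ hw

/-- The join of the family belongs to the family. -/
theorem gen_sSup (A : Subgroup G) (U : Set (Subgroup G)) (hU : ∀ H ∈ U, Gen A H) (hA : A ∈ U) :
    Gen A (sSup U) := by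
  have hAY : A ≤ sSup U := le_sSup hA
  refine ⟨hAY, top_le_iff.1 fun x _ => ?_⟩
  obtain ⟨h1, -, h3⟩ := closure_map hAY
  have hle : sSup U ≤ _ := sSup_le fun H hH => (hU H hH).le h1 ((le_sSup hH).trans h3)
  obtain ⟨w, hw, hwx⟩ := hle x.2
  exact Subtype.ext hwx ▸ hw

/-- Every overgroup contains a subnormal member of the family. -/
theorem exists_gen [Finite G] {B X : Subgroup G} (hBX : B ≤ X) :
    ∃ H, Gen B H ∧ SnIn H X := by
  induction X using WellFoundedLT.induction with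
  | _ X ih =>
    by_cases hg : Gen B X
    · exact ⟨X, hg, snIn_self X⟩
    obtain ⟨h1, h2, h3⟩ := closure_map hBX
    set N := (normalClosure ((B.subgroupOf X : Subgroup X) : Set X)).map X.subtype
    have hlt : N < X := by
      refine lt_of_le_of_ne h2 fun e => hg ⟨hBX, top_le_iff.1 fun x _ => ?_⟩
      obtain ⟨w, hw, hwx⟩ := e.ge x.2
      exact Subtype.ext hwx ▸ hw
    obtain ⟨H, hH, hHN⟩ := ih N hlt h1
    exact ⟨H, hH, snIn_trans hHN (snIn_of_normal h2 h3)⟩

/-- The generalised zipper lemma. -/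
theorem unique_max [Finite G] (A : Subgroup G) (hA : normalClosure (A : Set G) = ⊤) (hAG : A ≠ ⊤)
    (hY : sSup {H : Subgroup G | A ≤ H ∧ H ≠ ⊤ ∧ normalClosure ((A.subgroupOf H : Subgroup H) : Set H) = ⊤} ≠ ⊤) :
    ∃! M : Subgroup G, IsCoatom M ∧ A ≤ M := by
  set U := {H : Subgroup G | A ≤ H ∧ H ≠ ⊤ ∧ normalClosure ((A.subgroupOf H : Subgroup H) : Set H) = ⊤} with hU
  set Y := sSup U
  have hAU : A ∈ U := ⟨le_rfl, hAG, (gen_self A).2⟩
  have hgY : Gen A Y := gen_sSup A U (fun H hH => ⟨hH.1, hH.2.2⟩) hAU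
  have hmemY : ∀ {H : Subgroup G}, Gen A H → H ≠ ⊤ → H ≤ Y := fun {H} h h' => le_sSup ⟨h.1, h', h.2⟩
  obtain ⟨M₁, hM₁, hAM₁⟩ := (eq_top_or_exists_le_coatom A).resolve_left hAG
  refine ⟨M₁, ⟨hM₁, hAM₁⟩, ?_⟩
  by_contra hcon
  push Not at hcon
  obtain ⟨M₂, ⟨hM₂, hAM₂⟩, hne₂⟩ := hcon
  obtain ⟨B, ⟨hB, M, M', hM, hM', hMne, hBM, hBM'⟩, hmax⟩ := Set.exists_max_image
    {B : Subgroup G | Gen A B ∧ ∃ M M', IsCoatom M ∧ IsCoatom M' ∧ M ≠ M' ∧ B ≤ M ∧ B ≤ M'}
    (fun B => Nat.card B) (Set.toFinite _) ⟨A, gen_self A, M₂, M₁, hM₂, hM₁, hne₂, hAM₂, hAM₁⟩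
  have hBne : B ≠ ⊤ := fun e => hM.1 (top_le_iff.1 (e ▸ hBM))
  have hBcl : normalClosure (B : Set G) = ⊤ := top_le_iff.1 (hA ▸ normalClosure_mono hB.1)
  obtain ⟨M₀, hM₀, hYM₀⟩ := (eq_top_or_exists_le_coatom Y).resolve_left hY
  have hsn : ∀ X, X ≠ ⊤ → B ≤ X → SnIn B X ∨ ∃ H, Gen A H ∧ B < H ∧ H ≤ X := by
    intro X _ hBX
    obtain ⟨H, hH, hHX⟩ := exists_gen hBX
    rcases hH.1.lt_or_eq with hlt | rfl
    · exact Or.inr ⟨H, hB.trans hH, hlt, hHX.1⟩
    · exact Or.inl hHX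
  by_cases hBY : B = Y
  · obtain ⟨M₃, hM₃, -, hu⟩ := SubnormalJoin.zipper B (fun X hBX hX => by
      rcases hsn X hX hBX with h | ⟨H, hH, hlt, hHX⟩
      · exact h.2
      · exact absurd (hBY ▸ hmemY hH (fun e => hX (top_le_iff.1 (e ▸ hHX)))) hlt.not_ge)
      (not_isSubnormal hBcl hBne)
    exact hMne (((hM.le_iff.1 (hu M hBM hM.1)).resolve_left hM₃.1).symm.trans
      ((hM'.le_iff.1 (hu M' hBM' hM'.1)).resolve_left hM₃.1))
  refine not_cand B M₀ ⟨hBcl, hM₀, (hmemY hB hBne).trans hYM₀, fun X hX hne hBX => ?_, ?_⟩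
  · rcases hsn X hX.1 hBX with h | ⟨H, hH, hlt, hHX⟩
    · exact h
    · exfalso
      have h1 := hmax H ⟨hH, X, M₀, hX, hM₀, hne, hHX,
        (hmemY hH (fun e => hX.1 (top_le_iff.1 (e ▸ hHX)))).trans hYM₀⟩
      exact hlt.ne (eq_of_le_of_card_ge hlt.le h1)
  · rcases eq_or_ne M M₀ with rfl | h
    · exact ⟨M', hM', hMne.symm, hBM'⟩
    · exact ⟨M, hM, h, hBM⟩

end Cfsg.Agent.UniqueMax72
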