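/-
Iterated commutators with an automorphism `α` generate `G` as soon as `[G, α] = G`.
-/
import Mathlib
import Cfsg.Agent.S3947
import Cfsg.Agent.Lib.CoprimeAction

open scoped Pointwise

namespace Cfsg.Agent.FrobeniusIterComm

universe u

/-- `g ↦ g * α(g)⁻¹`. -/
def cm {G : Type u} [Group G] (α : MulAut G) (g : G) : G := g * (α g)⁻¹

theorem map_cm {G : Type u} [Group G] (α : MulAut G) (g : G) : α (cm α g) = cm α (α g) := by
  simp [cm]

theorem map_iterate_cm {G : Type u} [Group G] (α : MulAut G) (k : ℕ) (g : G) :
    α ((cm α)^[k] g) = (cm α)^[k] (α g) := by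
  induction k generalizing g with
  | zero => rfl
  | succ k ih => rw [Function.iterate_succ_apply, Function.iterate_succ_apply, ih, map_cm]

theorem pow_mem {G : Type u} [Group G] (α : MulAut G) {S : Subgroup G} (hS : ∀ g ∈ S, α g ∈ S)
    (i : ℕ) {g : G} (hg : g ∈ S) : (α ^ i) g ∈ S := by
  induction i with
  | zero => exact hg
  | succ i ih => rw [pow_succ', MulAut.mul_apply]; exact hS _ ih

theorem closure_invariant {G : Type u} [Group G] (α : MulAut G) (S : Set G)
    (hS : ∀ g ∈ S, α g ∈ S) : ∀ g ∈ Subgroup.closure S, α g ∈ Subgroup.closure S := by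
  intro g hg
  induction hg using Subgroup.closure_induction with
  | mem x hx => exact Subgroup.subset_closure (hS x hx)
  | one => rw [map_one]; exact one_mem _
  | mul x y _ _ hx hy => rw [map_mul]; exact mul_mem hx hy
  | inv x _ hx => rw [map_inv]; exact inv_mem hx

theorem iterate_back {β : Type u} (f : β → β) (P : β → Prop) (h : ∀ b, P (f b) → P b) (k : ℕ) :
    ∀ b, P (f^[k] b) → P b := by
  induction k with
  | zero => exact fun b hb => hb
  | succ k ih => exact fun b hb => h b (ih (f b) (by rwa [← Function.iterate_succ_apply]))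

theorem aux (n : ℕ) : ∀ (G : Type u) [Group G] [Finite G] (α : MulAut G), Nat.card G < n →
    Subgroup.closure (Set.range (cm α)) = ⊤ → ∀ k : ℕ,
      Subgroup.closure (Set.range ((cm α)^[k])) = ⊤ := by
  induction n with
  | zero => intro G _ _ α h; omega
  | succ n ih =>
    intro G _ _ α hn hG k
    rcases subsingleton_or_nontrivial G with h1 | h1
    · exact Subsingleton.elim _ _
    set S := Subgroup.closure (Set.range ((cm α)^[k])) with hS
    let φ : Subgroup.zpowers α →* MulAut G := (Subgroup.zpowers α).subtype
    let Γ : Type u := G ⋊[φ] Subgroup.zpowers α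
    have : Finite Γ := Finite.of_equiv _ SemidirectProduct.equivProd.symm
    set A : Subgroup Γ := (SemidirectProduct.inr : _ →* Γ).range with hA
    set a : Γ := SemidirectProduct.inr ⟨α, Subgroup.mem_zpowers α⟩ with ha
    have haA : a ∈ A := ⟨_, rfl⟩
    have hact : ∀ g : G, (SemidirectProduct.inl (α g) : Γ) = a * SemidirectProduct.inl g * a⁻¹ :=
      fun g => by
        rw [ha, ← map_inv]
        exact SemidirectProduct.inl_aut (φ := φ) ⟨α, Subgroup.mem_zpowers α⟩ g
    have hleft : ∀ (g : G), ((SemidirectProduct.inl g : Γ)) * a * (SemidirectProduct.inl g)⁻¹ =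
        SemidirectProduct.inl (cm α g) * a := by
      intro g
      rw [cm, map_mul, map_inv, hact]
      simp [mul_assoc]
    -- subgroups given by an invariant subgroup of `G`
    let T : ∀ D : Subgroup G, (∀ g ∈ D, α g ∈ D) → Subgroup Γ := fun D hD =>
      { carrier := {x | x.left ∈ D}
        one_mem' := by simp
        mul_mem' := fun {x y} hx hy => by
          show (x * y).left ∈ D
          rw [SemidirectProduct.mul_left]
          refine D.mul_mem hx ?_
          obtain ⟨i, hi⟩ := mem_powers_iff_mem_zpowers.2 x.right.2
          show (x.right : MulAut G) y.left ∈ D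
          rw [← hi]
          exact pow_mem α hD i hy
        inv_mem' := fun {x} hx => by
          show x⁻¹.left ∈ D
          rw [SemidirectProduct.inv_left]
          obtain ⟨i, hi⟩ := mem_powers_iff_mem_zpowers.2 x.right⁻¹.2
          show ((x.right⁻¹ : Subgroup.zpowers α) : MulAut G) x.left⁻¹ ∈ D
          rw [← hi]
          exact pow_mem α hD i (D.inv_mem hx) }
    have hAT : ∀ D hD, A ≤ T D hD := by
      rintro D hD _ ⟨r, rfl⟩
      show (SemidirectProduct.inr r : Γ).left ∈ D
      simp
    have hinl : ∀ (H : Subgroup Γ), A ≤ H → ∀ x ∈ H, SemidirectProduct.inl x.left ∈ H := by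
      intro H hAH x hx
      have e : (SemidirectProduct.inl x.left : Γ) = x * (SemidirectProduct.inr x.right)⁻¹ := by
        rw [eq_mul_inv_iff_mul_eq, SemidirectProduct.inl_left_mul_inr_right]
      rw [e]
      exact mul_mem hx (inv_mem (hAH ⟨_, rfl⟩))
    have hNC : Subgroup.normalClosure (A : Set Γ) = ⊤ := by
      set N := Subgroup.normalClosure (A : Set Γ)
      have hle : Subgroup.closure (Set.range (cm α)) ≤ N.comap SemidirectProduct.inl := by
        rw [Subgroup.closure_le]
        rintro _ ⟨g, rfl⟩
        have h2 : a ∈ N := Subgroup.subset_normalClosure haA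
        have h3 := N.mul_mem ((inferInstance : N.Normal).conj_mem a h2 (SemidirectProduct.inl g))
          (N.inv_mem h2)
        rw [hleft, mul_inv_cancel_right] at h3
        exact h3
      rw [eq_top_iff]
      intro x _
      rw [← SemidirectProduct.inl_left_mul_inr_right x]
      exact N.mul_mem (hle (hG ▸ Subgroup.mem_top _)) (Subgroup.subset_normalClosure ⟨_, rfl⟩)
    have hAne : A ≠ ⊤ := by
      intro e
      obtain ⟨g, hg⟩ := exists_ne (1 : G)
      obtain ⟨r, hr⟩ := (e ▸ Subgroup.mem_top _ : (SemidirectProduct.inl g : Γ) ∈ A)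
      have := congrArg SemidirectProduct.left hr
      simp only [SemidirectProduct.left_inr, SemidirectProduct.left_inl] at this
      exact hg this.symm
    have hSinv : ∀ g ∈ S, α g ∈ S := closure_invariant α _ (by
      rintro _ ⟨g, rfl⟩
      exact ⟨α g, (map_iterate_cm α k g).symm⟩)
    rcases S3947.result A hNC hAne with hY | ⟨M, ⟨hM, hAM⟩, huniq⟩
    · -- generated by smaller cases
      have hle : (⊤ : Subgroup Γ) ≤ T S hSinv := by
        rw [← hY]
        refine sSup_le ?_
        rintro H ⟨hAH, hHne, hHn⟩ x hx
        set H₀ : Subgroup G := H.comap SemidirectProduct.inl with hH₀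
        have hH₀α : ∀ g ∈ H₀, α g ∈ H₀ := by
          intro g hg
          show SemidirectProduct.inl (α g) ∈ H
          rw [hact]
          exact mul_mem (mul_mem (hAH haA) hg) (inv_mem (hAH haA))
        set D := Subgroup.closure (cm α '' (H₀ : Set G)) with hD
        have hDinv : ∀ g ∈ D, α g ∈ D := closure_invariant α _ (by
          rintro _ ⟨g, hg, rfl⟩
          exact ⟨α g, hH₀α g hg, (map_cm α g).symm⟩)
        have hHT : H ≤ T D hDinv := by
          intro y hy
          have h2 : (⟨y, hy⟩ : H) ∈ (⊤ : Subgroup H) := Subgroup.mem_top _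
          rw [← hHn] at h2
          refine (Subgroup.closure_le ((T D hDinv).comap H.subtype)).2 ?_ h2
          intro z hz
          obtain ⟨w, hw, hwz⟩ := Group.mem_conjugatesOfSet_iff.1 hz
          obtain ⟨h, hh⟩ := isConj_iff.1 hwz
          obtain ⟨r, hr⟩ := hw
          obtain ⟨i, hi⟩ := mem_powers_iff_mem_zpowers.2 r.2
          have hw' : (w : Γ) = a ^ i := by
            show H.subtype w = _
            rw [← hr, ha, ← map_pow]
            exact congrArg _ (Subtype.ext hi.symm)
          show (z : Γ) ∈ T D hDinv
          rw [← hh]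
          show (h : Γ) * w * (h : Γ)⁻¹ ∈ T D hDinv
          rw [hw', ← conj_pow]
          refine Subgroup.pow_mem _ ?_ i
          have e : (h : Γ) * a * (h : Γ)⁻¹ =
              SemidirectProduct.inl (h : Γ).left * a * (SemidirectProduct.inl (h : Γ).left)⁻¹ := by
            have hc : SemidirectProduct.inr (h : Γ).right * a = a * SemidirectProduct.inr (h : Γ).right := by
              rw [ha, ← map_mul, ← map_mul, mul_comm']
            conv_lhs => rw [← SemidirectProduct.inl_left_mul_inr_right (h : Γ)]
            rw [mul_assoc (SemidirectProduct.inl _) _ a, hc, mul_inv_rev]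
            simp [mul_assoc]
          rw [e, hleft]
          refine mul_mem ?_ (hAT D hDinv haA)
          show (SemidirectProduct.inl _ : Γ).left ∈ D
          rw [SemidirectProduct.left_inl]
          exact Subgroup.subset_closure ⟨_, hinl H hAH _ h.2, rfl⟩
        let β : MulAut H₀ :=
          MulEquiv.ofBijective ((α.toMonoidHom.comp H₀.subtype).codRestrict H₀
              fun g => hH₀α g g.2)
            (Finite.injective_iff_bijective.1 fun g g' e =>
              Subtype.ext (α.injective (congrArg Subtype.val e)))
        have hcoe : ∀ (j : ℕ) (g : H₀), (((cm β)^[j] g : H₀) : G) = (cm α)^[j] (g : G) := by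
          intro j
          induction j with
          | zero => intro g; rfl
          | succ j ihj =>
            intro g
            rw [Function.iterate_succ_apply, Function.iterate_succ_apply, ihj]
            rfl
        have hlt : Nat.card H₀ < n := by
          have h2 : H₀ ≠ ⊤ := by
            intro e
            refine hHne (eq_top_iff.2 fun y _ => ?_)
            rw [← SemidirectProduct.inl_left_mul_inr_right y]
            exact H.mul_mem (e ▸ Subgroup.mem_top y.left : y.left ∈ H₀) (hAH ⟨_, rfl⟩)
          have h3 : Nat.card H₀ ≤ Nat.card G := Subgroup.card_le_card_group H₀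
          have h4 : Nat.card H₀ ≠ Nat.card G := fun e => h2 (Subgroup.eq_top_of_card_eq _ e)
          omega
        have hgen : Subgroup.closure (Set.range (cm β)) = ⊤ := by
          apply Subgroup.map_injective H₀.subtype_injective
          rw [MonoidHom.map_closure, ← MonoidHom.range_eq_map, Subgroup.range_subtype]
          refine le_antisymm ((Subgroup.closure_le _).2 ?_) fun g hg => ?_
          · rintro _ ⟨g, -, rfl⟩
            exact g.2
          · have h2 := hHT hg
            change (SemidirectProduct.inl g : Γ).left ∈ D at h2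
            rw [SemidirectProduct.left_inl] at h2
            refine (Subgroup.closure_mono ?_) h2
            rintro _ ⟨w, hw, rfl⟩
            exact ⟨cm β ⟨w, hw⟩, ⟨_, rfl⟩, rfl⟩
        have h5 := ih H₀ β hlt hgen k
        have h6 : H₀ ≤ S := by
          intro g hg
          have h7 : (⟨g, hg⟩ : H₀) ∈ (⊤ : Subgroup H₀) := Subgroup.mem_top _
          rw [← h5] at h7
          refine (Subgroup.closure_le (S.comap H₀.subtype)).2 ?_ h7
          rintro _ ⟨w, rfl⟩
          exact Subgroup.subset_closure ⟨w, (hcoe k w).symm⟩
        exact h6 (hinl H hAH x hx)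
      rw [eq_top_iff]
      intro g _
      have := hle (Subgroup.mem_top (SemidirectProduct.inl g : Γ))
      change (SemidirectProduct.inl g : Γ).left ∈ S at this
      rwa [SemidirectProduct.left_inl] at this
    · -- a unique maximal subgroup contains `α`
      by_contra hne
      set M₀ : Subgroup G := M.comap SemidirectProduct.inl with hM₀
      have hback : ∀ g, cm α g ∈ M₀ → g ∈ M₀ := by
        intro g hg
        set x : Γ := SemidirectProduct.inl g with hx
        have h2 : x * a * x⁻¹ ∈ M := by
          rw [hleft]
          exact mul_mem hg (hAM haA)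
        have hconj : MulAut.conj x⁻¹ • M = M := by
          refine huniq _ ⟨?_, ?_⟩
          · exact (OrderIso.isCoatom_iff (MulEquiv.mapSubgroup (MulAut.conj x⁻¹)) M).2 hM
          · rintro _ ⟨r, rfl⟩
            obtain ⟨i, hi⟩ := mem_powers_iff_mem_zpowers.2 r.2
            have hr : (SemidirectProduct.inr r : Γ) = a ^ i := by
              rw [ha, ← map_pow]
              exact congrArg _ (Subtype.ext hi.symm)
            rw [hr, Subgroup.mem_pointwise_smul_iff_inv_smul_mem, MulAut.smul_def, ← map_inv, inv_inv x,
              MulAut.conj_apply, ← conj_pow]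
            exact Subgroup.pow_mem _ h2 i
        have hxn : x ∈ Subgroup.normalizer (M : Set Γ) := by
          have := Cfsg.Agent.CoprimeAction.mem_normalizer_of_conj_smul_eq hconj
          exact inv_inv x ▸ inv_mem this
        by_contra hgM
        have hlt : M < Subgroup.normalizer (M : Set Γ) :=
          lt_of_le_of_ne Subgroup.le_normalizer fun e => hgM (show x ∈ M from e ▸ hxn)
        have hMn : M.Normal := Subgroup.normalizer_eq_top_iff.1 (hM.2 _ hlt)
        exact hM.1 (top_le_iff.1 (hNC ▸ Subgroup.normalClosure_le_normal hAM))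
      obtain ⟨g, hg⟩ : ∃ g : G, g ∉ M₀ := by
        by_contra hall
        push Not at hall
        refine hM.1 (eq_top_iff.2 fun y _ => ?_)
        rw [← SemidirectProduct.inl_left_mul_inr_right y]
        exact M.mul_mem (hall y.left) (hAM ⟨_, rfl⟩)
      have hne' : T S hSinv ≠ ⊤ := fun e => hne (eq_top_iff.2 fun y _ => by
        have h2 : (SemidirectProduct.inl y : Γ) ∈ T S hSinv := e ▸ Subgroup.mem_top _
        change (SemidirectProduct.inl y : Γ).left ∈ S at h2
        rwa [SemidirectProduct.left_inl] at h2)
      obtain ⟨M', hM', hle⟩ := (eq_top_or_exists_le_coatom (T S hSinv)).resolve_left hne'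
      have heq : M' = M := huniq M' ⟨hM', (hAT S hSinv).trans hle⟩
      have h3 : (cm α)^[k] g ∈ M₀ := by
        show SemidirectProduct.inl _ ∈ M
        refine heq ▸ hle ?_
        show (SemidirectProduct.inl _ : Γ).left ∈ S
        rw [SemidirectProduct.left_inl]
        exact Subgroup.subset_closure ⟨g, rfl⟩
      exact hg (iterate_back (cm α) (· ∈ M₀) hback k g h3)

end Cfsg.Agent.FrobeniusIterComm
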