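/-
Kegel: the normal subgroup of index `p` in a group in which all elements outside it have order `p`
is nilpotent; finite groups with splitting automorphisms of prime order are nilpotent.
-/
import Mathlib
import Cfsg.Agent.Lib.FrobeniusNilpotent
import Cfsg.Agent.Lib.FrobeniusFitting

open scoped Pointwise

namespace Cfsg.Agent.FrobeniusKegel

universe u

open Cfsg.Agent Cfsg.Agent.FrobeniusThompson

variable {p : ℕ} {Γ : Type u} [Group Γ]

theorem pow_mul_eq (g w : Γ) (n : ℕ) :
    (w * g) ^ n = ((List.range n).map fun i => g ^ i * w * (g ^ i)⁻¹).prod * g ^ n := by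
  induction n with
  | zero => simp
  | succ n ih =>
    rw [pow_succ, ih, List.range_succ, List.map_append, List.prod_append, List.map_singleton,
      List.prod_singleton, pow_succ]
    group

/-- `K` has index `p` and all elements outside it have order `p`. -/
structure Split (p : ℕ) (K : Subgroup Γ) : Prop where
  normal : K.Normal
  index : K.index = p
  pow_eq : ∀ x, x ∉ K → x ^ p = 1

theorem Split.subgroup (hp : p.Prime) {K : Subgroup Γ} (h : Split p K) {H : Subgroup Γ} {t : Γ}
    (ht : t ∈ H) (htK : t ∉ K) : Split p (K.subgroupOf H) where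
  normal := by have := h.normal; infer_instance
  index := by
    have := h.normal
    have hd : (K.subgroupOf H).index ∣ p := h.index ▸ Subgroup.relIndex_dvd_index_of_normal K H
    refine (hp.eq_one_or_self_of_dvd _ hd).resolve_left fun e => ?_
    rw [Subgroup.index_eq_one] at e
    exact htK (Subgroup.subgroupOf_eq_top.1 e ht)
  pow_eq := fun x hx => Subtype.ext (by simpa using h.pow_eq (x : Γ) hx)

theorem Split.quotient {K : Subgroup Γ} (h : Split p K) (W : Subgroup Γ) [W.Normal] (hW : W ≤ K) :
    Split p (K.map (QuotientGroup.mk' W)) where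
  normal := h.normal.map _ (QuotientGroup.mk'_surjective W)
  index := by
    rw [Subgroup.index_map_eq _ (QuotientGroup.mk'_surjective W) (by rwa [QuotientGroup.ker_mk']),
      h.index]
  pow_eq := fun x hx => by
    obtain ⟨g, rfl⟩ := QuotientGroup.mk'_surjective W x
    rw [← map_pow, h.pow_eq g fun hg => hx ⟨g, hg, rfl⟩, map_one]

/-- An element outside `K` fixes only elements of exponent `p`. -/
theorem Split.pow_eq_one_of_commute {K : Subgroup Γ} (h : Split p K) {b k : Γ} (hb : b ∉ K)
    (hk : k ∈ K) (hc : b * k = k * b) : k ^ p = 1 := by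
  have h1 := h.pow_eq (k * b) fun hm => hb ((K.mul_mem_cancel_left hk).1 hm)
  rw [(show Commute k b from hc.symm).mul_pow, h.pow_eq b hb, mul_one] at h1
  exact h1

variable [Finite Γ]

omit [Finite Γ] in
theorem Split.not_mem_sup {K : Subgroup Γ} (h : Split p K) {T : Subgroup Γ} {W : Subgroup Γ}
    (hW : W ≤ K) (hfr : T ⊔ W = ⊤) (hp : p.Prime) : ∃ b ∈ T, b ∉ K := by
  by_contra hne
  push Not at hne
  have h1 : (⊤ : Subgroup Γ) ≤ K := hfr ▸ sup_le hne hW
  have h2 := h.index
  rw [top_le_iff.1 h1, Subgroup.index_top] at h2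
  exact hp.ne_one h2.symm

/-- The endgame: a minimal normal elementary abelian subgroup with nilpotent quotient. -/
theorem nilpotent_of_minimal (hp : p.Prime) {K : Subgroup Γ} (h : Split p K) {q : ℕ}
    [hq : Fact q.Prime] (W : Subgroup Γ) [W.Normal] (hWK : W ≤ K)
    (hWc : ∀ x ∈ W, ∀ y ∈ W, x * y = y * x) (hWq : ∀ x ∈ W, x ^ q = 1)
    (hmin : ∀ U : Subgroup Γ, U ≤ W → U.Normal → U = ⊥ ∨ U = W)
    (hquot : ∀ (U : Subgroup Γ) [U.Normal], U ≤ K → U ≠ ⊥ →
      Group.IsNilpotent (K.map (QuotientGroup.mk' U))) (hWne : W ≠ ⊥) :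
    Group.IsNilpotent K := by
  classical
  have := Fact.mk hp
  have hKn := h.normal
  set f := QuotientGroup.mk' W with hf
  have hWp : IsPGroup q W := fun x => ⟨1, Subtype.ext (by
    push_cast
    rw [pow_one]
    exact hWq x x.2)⟩
  have hKnil : Group.IsNilpotent (K.map f) := hquot W hWK hWne
  refine ((Group.isNilpotent_of_finite_tfae (G := K)).out 0 3).2 fun s hs S₀ => ?_
  have := hs
  set T := (S₀ : Subgroup K).map K.subtype with hTdef
  have hTK : T ≤ K := Subgroup.map_subtype_le _
  have hT : IsPGroup s T := S₀.isPGroup'.map _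
  suffices hTn : K ≤ Subgroup.normalizer (T : Set Γ) by
    have : ((T.subgroupOf K : Subgroup K)).Normal := Subgroup.normal_subgroupOf_of_le_normalizer hTn
    rwa [hTdef, Subgroup.subgroupOf, Subgroup.comap_map_eq_self_of_injective K.subtype_injective]
      at this
  -- `T W` is normal
  have hTfn : (T.map f).Normal := by
    let g : K →* K.map f := f.subgroupMap K
    have hg : Function.Surjective g := f.subgroupMap_surjective K
    have hn := Sylow.normal_of_normalizerCondition
      (Group.normalizerCondition_of_isNilpotent (G := K.map f)) (S₀.mapSurjective hg)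
    have hch := (S₀.mapSurjective hg).characteristic_of_normal hn
    have := h.normal.map f (QuotientGroup.mk'_surjective W)
    have e : T.map f = ((S₀.mapSurjective hg : Sylow s (K.map f)) : Subgroup (K.map f)).map
        (K.map f).subtype := by
      rw [Sylow.coe_mapSurjective, hTdef, Subgroup.map_map, Subgroup.map_map]
      rfl
    rw [e]
    exact ConjAct.normal_of_characteristic_of_normal
  by_cases hsq : s = q
  · subst hsq
    have hW' : IsPGroup s (W.subgroupOf K) :=
      hWp.of_equiv (Subgroup.subgroupOfEquivOfLe hWK).symm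
    have hWT : W ≤ T := fun x hx =>
      ⟨⟨x, hWK hx⟩, (HallCore.le_pCore hW').trans (HallCore.pCore_le_sylow S₀) hx, rfl⟩
    have hTeq : T = (T.map f).comap f := by
      rw [Subgroup.comap_map_eq, QuotientGroup.ker_mk', sup_eq_left.2 hWT]
    rw [hTeq]
    exact FrobeniusFitting.le_normalizer_of_normal _ _
  have hsW : ¬ s ∣ Nat.card W := by
    intro hd
    obtain ⟨k, hk⟩ := IsPGroup.iff_card.1 hWp
    rw [hk] at hd
    exact hsq ((Nat.prime_dvd_prime_iff_eq hs.out hq.out).1 (hs.out.dvd_of_dvd_pow hd))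
  have hfr : Subgroup.normalizer (T : Set Γ) ⊔ W = ⊤ := by
    rw [eq_top_iff]
    intro x _
    have hx : f x ∈ Subgroup.normalizer (T.map f : Set (Γ ⧸ W)) := by
      rw [Subgroup.normalizer_eq_top]; trivial
    obtain ⟨y, hy, hyx⟩ := exists_mem_normalizer_of_map W hsW hT hx
    have : x = y * (y⁻¹ * x) := by group
    rw [this]
    refine Subgroup.mul_mem_sup hy ?_
    rw [← QuotientGroup.eq]
    exact hyx
  have hnorm : ∀ {U : Subgroup Γ}, Subgroup.normalizer (T : Set Γ) ≤ Subgroup.normalizer (U : Set Γ) →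
      W ≤ Subgroup.normalizer (U : Set Γ) → U.Normal := fun h1 h2 =>
    Subgroup.normalizer_eq_top_iff.1 (top_le_iff.1 (hfr ▸ sup_le h1 h2))
  set C := W ⊓ Subgroup.centralizer (T : Set Γ) with hC
  have hCn : C.Normal := hnorm
    (le_normalizer_of_conj fun g hg x hx => ⟨Subgroup.Normal.conj_mem ‹W.Normal› x hx.1 g,
      fun z hz => by
        have hz' : g⁻¹ * z * g ∈ T := (Subgroup.mem_normalizer_iff''.1 hg z).1 hz
        calc z * (g * x * g⁻¹) = g * ((g⁻¹ * z * g) * x) * g⁻¹ := by group
          _ = g * (x * (g⁻¹ * z * g)) * g⁻¹ := by rw [hx.2 _ hz']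
          _ = g * x * g⁻¹ * z := by group⟩)
    (le_normalizer_of_conj fun v hv x hx => by
      rw [hWc v hv x hx.1, mul_inv_cancel_right]
      exact hx)
  rcases hmin C inf_le_left hCn with hbot | htop
  swap
  · have : Subgroup.normalizer (T : Set Γ) = ⊤ := by
      rw [← top_le_iff, ← hfr]
      refine sup_le le_rfl fun v hv => Subgroup.centralizer_le_normalizer _ ?_
      rw [← htop] at hv
      exact hv.2
    exact this ▸ le_top
  obtain ⟨b, hbT, hbK⟩ := h.not_mem_sup hWK hfr hp
  -- conjugation on `W`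
  let _ : CommGroup W := { (inferInstance : Group W) with
    mul_comm := fun a a' => Subtype.ext (hWc a a.2 a' a'.2) }
  let c : Γ →* MulAut W := MulAut.conjNormal
  have hc : ∀ (g : Γ) (w : W), ((c g w : W) : Γ) = g * w * g⁻¹ := fun g w =>
    MulAut.conjNormal_apply g w
  have hN : ∀ (g : Γ) (w : W), g ∉ K → ∏ i ∈ Finset.range p, c (g ^ i) w = 1 := by
    intro g w hg
    have h1 := h.pow_eq ((w : Γ) * g) fun hm => hg ((K.mul_mem_cancel_left (hWK w.2)).1 hm)
    rw [pow_mul_eq, h.pow_eq g hg, mul_one] at h1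
    refine Subtype.ext ?_
    have e : ∏ i ∈ Finset.range p, c (g ^ i) w =
        ((List.range p).map fun i => c (g ^ i) w).prod := by
      rw [← List.prod_toFinset _ List.nodup_range, List.toFinset_range]
    rw [e, SubmonoidClass.coe_list_prod, List.map_map]
    simp only [Function.comp_def, hc]
    exact h1
  by_cases hsp : s = p
  · -- an element of the centre of `T` fixed by `b`
    subst hsp
    have hTne : T ≠ ⊥ := fun e => hWne (by
      rw [← le_bot_iff, ← hbot]
      refine le_inf le_rfl fun w _ z hz => ?_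
      rw [e] at hz
      rw [Subgroup.mem_bot.1 hz, one_mul, mul_one])
    obtain ⟨z, hz, hz1, hzb⟩ := exists_fixed (p := s) (B := Subgroup.zpowers b) (D := zOf T)
      (IsPGroup.of_card (n := 1) (by rw [Nat.card_zpowers, pow_one,
        orderOf_eq_prime (h.pow_eq b hbK) (fun e => hbK (e ▸ one_mem K))]))
      (hT.to_le inf_le_left)
      (Subgroup.zpowers_le.2 (normalizer_le_normalizer_zOf T hbT)) (zOf_ne_bot hT hTne)
    have hbz : Commute b z := mul_inv_eq_iff_eq_mul.1 (hzb b (Subgroup.mem_zpowers b))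
    have hzp : z ^ s = 1 := h.pow_eq_one_of_commute hbK (hTK hz.1) hbz
    -- `z` centralises `W`
    have hzW : z ∈ Subgroup.centralizer (W : Set Γ) := by
      intro w₁ hw₁
      set w : W := ⟨w₁, hw₁⟩
      have hall : ∀ j : ℕ, b * z ^ j ∉ K := fun j hm =>
        hbK ((K.mul_mem_cancel_right (K.pow_mem (hTK hz.1) j)).1 hm)
      have hprod : ∏ j ∈ Finset.range s, ∏ i ∈ Finset.range s, c ((b * z ^ j) ^ i) w = 1 :=
        Finset.prod_eq_one fun j _ => hN _ w (hall j)
      rw [Finset.prod_comm] at hprod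
      have hfix : ∀ i ∈ Finset.range s, i ≠ 0 → ∀ v : W,
          c z (∏ j ∈ Finset.range s, c (z ^ (j * i)) v) = ∏ j ∈ Finset.range s, c (z ^ (j * i)) v := by
        intro i hi hi0 v
        have hcop : Nat.Coprime i s := Nat.Coprime.symm ((hp.coprime_iff_not_dvd).2 fun hd =>
          absurd (Nat.le_of_dvd (Nat.pos_of_ne_zero hi0) hd) (by simpa using hi))
        obtain ⟨k, -, hk⟩ := Nat.exists_mul_mod_eq_one_of_coprime hcop hp.one_lt
        rw [map_prod]
        have hs0 : 0 < s := hp.pos
        refine Finset.prod_nbij' (fun j => (j + k) % s) (fun j => (j + (s - k % s)) % s) ?_ ?_ ?_ ?_ ?_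
        · intro j _; simpa using Nat.mod_lt _ hs0
        · intro j _; simpa using Nat.mod_lt _ hs0
        · intro j hj
          simp only [Finset.mem_range] at hj
          have hks := Nat.mod_lt k hs0
          rw [Nat.mod_add_mod, show j + k + (s - k % s) = j + s * (k / s + 1) by
            have := Nat.div_add_mod k s; rw [Nat.mul_add, Nat.mul_one]; omega,
            Nat.add_mul_mod_self_left, Nat.mod_eq_of_lt hj]
        · intro j hj
          simp only [Finset.mem_range] at hj
          have hks := Nat.mod_lt k hs0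
          rw [Nat.mod_add_mod, show j + (s - k % s) + k = j + s * (k / s + 1) by
            have := Nat.div_add_mod k s; rw [Nat.mul_add, Nat.mul_one]; omega,
            Nat.add_mul_mod_self_left, Nat.mod_eq_of_lt hj]
        · intro j _
          rw [← MulAut.mul_apply, ← map_mul]
          congr 2
          rw [← pow_succ', pow_eq_pow_mod _ hzp, pow_eq_pow_mod ((j + k) % s * i) hzp]
          congr 1
          rw [Nat.mod_mul_mod, Nat.add_mul, Nat.add_mod (j * i) (k * i), mul_comm k i, hk,
            Nat.mod_add_mod]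
      have hrest : ∀ i ∈ Finset.range s, i ≠ 0 →
          c z (∏ j ∈ Finset.range s, c ((b * z ^ j) ^ i) w) =
            ∏ j ∈ Finset.range s, c ((b * z ^ j) ^ i) w := by
        intro i hi hi0
        have e : ∀ j, c ((b * z ^ j) ^ i) w = c (z ^ (j * i)) (c (b ^ i) w) := fun j => by
          rw [(hbz.pow_right j).mul_pow, ← pow_mul, (hbz.pow_pow i (j * i)).eq, map_mul,
            MulAut.mul_apply]
        simp only [e]
        exact hfix i hi hi0 _
      have h0 : c z (w ^ s) = w ^ s := by
        have hsplit := hprod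
        rw [← Finset.mul_prod_erase _ _ (Finset.mem_range.2 hp.pos)] at hsplit
        simp only [pow_zero, map_one, MulAut.one_apply, Finset.prod_const, Finset.card_range] at hsplit
        rw [eq_inv_of_mul_eq_one_left hsplit, map_inv, map_prod]
        refine congrArg (·⁻¹) (Finset.prod_congr rfl fun i hi => ?_)
        rw [Finset.mem_erase] at hi
        exact hrest i hi.2 hi.1
      have hcw : c z w = w := by
        obtain ⟨m, hm⟩ := (mem_zpowers_pow_iff.2 (Nat.Coprime.coprime_dvd_left
          (orderOf_dvd_of_pow_eq_one (Subtype.ext (hWq w w.2) : w ^ q = 1))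
            ((Nat.coprime_primes hq.out hp).2 (Ne.symm hsq))).symm : w ∈ Subgroup.zpowers (w ^ s))
        calc c z w = c z ((w ^ s) ^ m) := by rw [show (w ^ s) ^ m = w from hm]
          _ = w := by rw [map_zpow, h0]; exact hm
      have h2 := congrArg Subtype.val hcw
      rw [hc] at h2
      exact (mul_inv_eq_iff_eq_mul.1 h2).symm
    set X := zOf T ⊓ Subgroup.centralizer (W : Set Γ) with hX
    have hXn : X.Normal := hnorm
      (le_normalizer_of_conj fun g hg x hx => by
        refine ⟨(Subgroup.mem_normalizer_iff.1 (normalizer_le_normalizer_zOf T hg) x).1 hx.1, ?_⟩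
        intro v hv
        have hv' : g⁻¹ * v * g ∈ W := Subgroup.Normal.conj_mem' ‹W.Normal› v hv g
        calc v * (g * x * g⁻¹) = g * ((g⁻¹ * v * g) * x) * g⁻¹ := by group
          _ = g * (x * (g⁻¹ * v * g)) * g⁻¹ := by rw [hx.2 _ hv']
          _ = g * x * g⁻¹ * v := by group)
      (le_normalizer_of_conj fun v hv x hx => by
        rw [hx.2 v hv, mul_inv_cancel_right]; exact hx)
    have hXne : X ≠ ⊥ := fun e => hz1 (Subgroup.mem_bot.1 (e ▸ ⟨hz, hzW⟩))
    have hXW : ∀ x ∈ X, x ∈ W → x = 1 := fun x hx hxW =>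
      orderOf_eq_one_iff.1 (Nat.dvd_one.1 (by
        obtain ⟨k, hk⟩ := hT ⟨x, hx.1.1⟩
        have h1 : orderOf x ∣ s ^ k := orderOf_dvd_of_pow_eq_one (congrArg Subtype.val hk)
        have h2 : orderOf x ∣ q := orderOf_dvd_of_pow_eq_one (hWq x hxW)
        have := Nat.dvd_gcd h1 h2
        rwa [Nat.Coprime.gcd_eq_one (Nat.Coprime.pow_left k ((Nat.coprime_primes hp hq.out).2 hsq))]
          at this))
    have hKnilX := hquot X (inf_le_left.trans (inf_le_left.trans hTK)) hXne
    have hnil : Group.IsNilpotent K := by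
      refine FrobeniusFitting.closed_nilpotent.of_injective _ _
        ((f.subgroupMap K).prod ((QuotientGroup.mk' X).subgroupMap K)) ?_
        (FrobeniusFitting.closed_nilpotent.prod _ _ hKnil hKnilX)
      rw [injective_iff_map_eq_one]
      intro x hx
      have h1 : ((x : Γ) : Γ ⧸ W) = 1 := congrArg Subtype.val (congrArg Prod.fst hx)
      have h2 : ((x : Γ) : Γ ⧸ X) = 1 := congrArg Subtype.val (congrArg Prod.snd hx)
      rw [QuotientGroup.eq_one_iff] at h1 h2
      exact Subtype.ext (hXW x h2 h1)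
    have := Sylow.normal_of_normalizerCondition
      (Group.normalizerCondition_of_isNilpotent (G := K)) S₀
    rw [hTdef]
    intro x hx
    have hx' : (⟨x, hx⟩ : K) ∈ Subgroup.normalizer ((S₀ : Subgroup K) : Set K) := by
      rw [Subgroup.normalizer_eq_top]; trivial
    exact Subgroup.le_normalizer_map (H := (S₀ : Subgroup K)) K.subtype ⟨_, hx', rfl⟩
  · -- `b` is fixed-point-free on `T`
    exfalso
    apply hWne
    rw [Subgroup.eq_bot_iff_forall]
    intro w₁ hw₁
    set w : W := ⟨w₁, hw₁⟩
    have := Fintype.ofFinite T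
    have hbi : ∀ i ∈ Finset.range p, i ≠ 0 → b ^ i ∉ K := by
      intro i hi hi0 hm
      apply hbK
      have hcop : Nat.Coprime (orderOf b) i := by
        refine Nat.Coprime.coprime_dvd_left (orderOf_dvd_of_pow_eq_one (h.pow_eq b hbK)) ?_
        exact (hp.coprime_iff_not_dvd).2 fun hd =>
          absurd (Nat.le_of_dvd (Nat.pos_of_ne_zero hi0) hd) (by simpa using hi)
      obtain ⟨m, hm'⟩ := (mem_zpowers_pow_iff.2 hcop.symm : b ∈ Subgroup.zpowers (b ^ i))
      exact (show (b ^ i) ^ m = b from hm') ▸ K.zpow_mem hm m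
    have hzero : ∏ i ∈ Finset.range p, ∏ u : T, c ((u : Γ) * b ^ i * (u : Γ)⁻¹) w = 1 := by
      rw [Finset.prod_comm]
      refine Finset.prod_eq_one fun u _ => ?_
      calc ∏ i ∈ Finset.range p, c ((u : Γ) * b ^ i * (u : Γ)⁻¹) w
          = c (u : Γ) (∏ i ∈ Finset.range p, c (b ^ i) (c (u : Γ)⁻¹ w)) := by
            rw [map_prod]
            simp only [map_mul, MulAut.mul_apply]
        _ = 1 := by rw [hN b _ hbK, map_one]
    have hrest : ∀ i ∈ Finset.range p, i ≠ 0 →
        ∏ u : T, c ((u : Γ) * b ^ i * (u : Γ)⁻¹) w = 1 := by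
      intro i hi hi0
      have hbiT : b ^ i ∈ Subgroup.normalizer (T : Set Γ) := pow_mem hbT i
      let σ : T → T := fun u => ⟨(u : Γ) * (b ^ i * (u : Γ)⁻¹ * (b ^ i)⁻¹),
        T.mul_mem u.2 ((Subgroup.mem_normalizer_iff.1 hbiT _).1 (T.inv_mem u.2))⟩
      have hinj : Function.Injective σ := by
        intro u u' e
        have e' : (u : Γ) * (b ^ i * (u : Γ)⁻¹ * (b ^ i)⁻¹) =
            (u' : Γ) * (b ^ i * (u' : Γ)⁻¹ * (b ^ i)⁻¹) := congrArg Subtype.val e
        set k := (u' : Γ)⁻¹ * u with hk
        have hkT : k ∈ T := T.mul_mem (T.inv_mem u'.2) u.2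
        have hcomm : b ^ i * k = k * b ^ i := by
          rw [hk]
          calc b ^ i * ((u' : Γ)⁻¹ * u) = (u' : Γ)⁻¹ *
                ((u' : Γ) * (b ^ i * (u' : Γ)⁻¹ * (b ^ i)⁻¹)) * b ^ i * u := by group
            _ = (u' : Γ)⁻¹ * ((u : Γ) * (b ^ i * (u : Γ)⁻¹ * (b ^ i)⁻¹)) * b ^ i * u := by rw [e']
            _ = (u' : Γ)⁻¹ * u * b ^ i := by group
        have hkp := h.pow_eq_one_of_commute (hbi i hi hi0) (hTK hkT) hcomm
        obtain ⟨m, hm⟩ := hT ⟨k, hkT⟩
        have h1 : orderOf k ∣ s ^ m := orderOf_dvd_of_pow_eq_one (congrArg Subtype.val hm)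
        have h2 := Nat.dvd_gcd h1 (orderOf_dvd_of_pow_eq_one hkp)
        rw [Nat.Coprime.gcd_eq_one (Nat.Coprime.pow_left m
          ((Nat.coprime_primes hs.out hp).2 hsp)), Nat.dvd_one, orderOf_eq_one_iff, hk,
          inv_mul_eq_one] at h2
        exact Subtype.ext h2.symm
      set v := c (b ^ i) w
      calc ∏ u : T, c ((u : Γ) * b ^ i * (u : Γ)⁻¹) w = ∏ u : T, c (σ u : Γ) v := by
            refine Finset.prod_congr rfl fun u _ => ?_
            rw [← MulAut.mul_apply, ← map_mul]
            congr 2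
            show _ = (u : Γ) * (b ^ i * (u : Γ)⁻¹ * (b ^ i)⁻¹) * b ^ i
            group
        _ = ∏ u : T, c (u : Γ) v :=
            (Finite.injective_iff_bijective.1 hinj).prod_comp fun u => c (u : Γ) v
        _ = 1 := by
            have hmem : ((∏ u : T, c (u : Γ) v : W) : Γ) ∈ C := by
              refine ⟨(∏ u : T, c (u : Γ) v).2, fun z hz => ?_⟩
              have h1 : c z (∏ u : T, c (u : Γ) v) = ∏ u : T, c (u : Γ) v := by
                rw [map_prod]
                refine Fintype.prod_equiv (Equiv.mulLeft ⟨z, hz⟩) _ _ fun u => ?_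
                rw [← MulAut.mul_apply, ← map_mul]
                rfl
              have h2 := congrArg Subtype.val h1
              rw [hc] at h2
              exact mul_inv_eq_iff_eq_mul.1 h2
            rw [hbot, Subgroup.mem_bot] at hmem
            exact Subtype.ext hmem
    rw [Finset.prod_eq_single 0 hrest (by simp [hp.ne_zero])] at hzero
    simp only [pow_zero, mul_one, mul_inv_cancel, map_one, MulAut.one_apply, Finset.prod_const,
      Finset.card_univ] at hzero
    have h1 : orderOf w₁ ∣ Nat.card T := orderOf_dvd_of_pow_eq_one (by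
      rw [Nat.card_eq_fintype_card]
      simpa [w] using congrArg Subtype.val hzero)
    obtain ⟨m, hm⟩ := IsPGroup.iff_card.1 hT
    rw [hm] at h1
    have h2 := Nat.dvd_gcd h1 (orderOf_dvd_of_pow_eq_one (hWq w₁ hw₁))
    rw [Nat.Coprime.gcd_eq_one (Nat.Coprime.pow_left m ((Nat.coprime_primes hs.out hq.out).2 hsq)),
      Nat.dvd_one, orderOf_eq_one_iff] at h2
    exact h2

theorem exists_abelian {K T : Subgroup Γ} (hTK : T ≤ K) (hT : T.Normal) (hTne : T ≠ ⊥)
    (hnil : Group.IsNilpotent T) :
    ∃ (W : Subgroup Γ) (q : ℕ), q.Prime ∧ W ≤ K ∧ W ≠ ⊥ ∧ W.Normal ∧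
      (∀ x ∈ W, ∀ y ∈ W, x * y = y * x) ∧ (∀ x ∈ W, x ^ q = 1) ∧
      ∀ U ≤ W, U.Normal → U = ⊥ ∨ U = W := by
  have hZne : zOf T ≠ ⊥ := by
    intro e
    have : Nontrivial T := (Subgroup.nontrivial_iff_ne_bot T).2 hTne
    have := hnil
    apply Group.IsNilpotent.center_ne_bot (G := T)
    rw [Subgroup.eq_bot_iff_forall]
    intro z hz
    have hmem : (z : Γ) ∈ zOf T :=
      ⟨z.2, fun u hu => congrArg Subtype.val (Subgroup.mem_center_iff.1 hz ⟨u, hu⟩)⟩
    rw [e, Subgroup.mem_bot] at hmem
    exact Subtype.ext hmem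
  have hZn : (zOf T).Normal := Subgroup.normalizer_eq_top_iff.1 (top_le_iff.1
    (Subgroup.normalizer_eq_top (H := T) ▸ normalizer_le_normalizer_zOf T))
  obtain ⟨q, hq, hqd⟩ := Nat.exists_prime_and_dvd (n := Nat.card (zOf T))
    (fun e => hZne (Subgroup.card_eq_one.1 e))
  have := Fact.mk hq
  have hZc : ∀ x ∈ zOf T, ∀ y ∈ zOf T, x * y = y * x := fun x hx y hy => hy.2 x hx.1
  let V : Subgroup Γ :=
    { carrier := {x | x ∈ zOf T ∧ x ^ q = 1}
      one_mem' := ⟨one_mem _, one_pow _⟩
      mul_mem' := fun {x y} hx hy => ⟨mul_mem hx.1 hy.1, by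
        rw [(show Commute x y from hZc x hx.1 y hy.1).mul_pow, hx.2, hy.2, one_mul]⟩
      inv_mem' := fun {x} hx => ⟨inv_mem hx.1, by rw [inv_pow, hx.2, inv_one]⟩ }
  have hVn : V.Normal := ⟨fun x hx g => ⟨hZn.conj_mem x hx.1 g, by
    rw [conj_pow, hx.2, mul_one, mul_inv_cancel]⟩⟩
  have hVne : V ≠ ⊥ := by
    obtain ⟨x, hx⟩ := exists_prime_orderOf_dvd_card' (G := zOf T) q hqd
    intro e
    have hxm : (x : Γ) ∈ V := ⟨x.2, by
      have := congrArg Subtype.val (hx ▸ pow_orderOf_eq_one x : x ^ q = 1)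
      simpa using this⟩
    rw [e, Subgroup.mem_bot] at hxm
    have : x = 1 := Subtype.ext hxm
    rw [this, orderOf_one] at hx
    exact hq.ne_one hx.symm
  obtain ⟨W, ⟨hWV, hWne, hWn⟩, hWmin⟩ := Set.exists_min_image
    {W : Subgroup Γ | W ≤ V ∧ W ≠ ⊥ ∧ W.Normal} (fun W => Nat.card W) (Set.toFinite _)
    ⟨V, le_rfl, hVne, hVn⟩
  refine ⟨W, q, hq, fun x hx => hTK (hWV hx).1.1, hWne, hWn,
    fun x hx y hy => hZc x (hWV hx).1 y (hWV hy).1, fun x hx => (hWV hx).2, fun U hUW hUn => ?_⟩
  by_cases hU : U = ⊥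
  · exact Or.inl hU
  · exact Or.inr (Subgroup.eq_of_le_of_card_ge hUW (hWmin U ⟨hUW.trans hWV, hU, hUn⟩))

theorem nilpotent_aux (hp : p.Prime) (n : ℕ) : ∀ (Γ : Type u) [Group Γ] [Finite Γ],
    Nat.card Γ < n → ∀ K : Subgroup Γ, Split p K → Group.IsNilpotent K := by
  induction n with
  | zero => intro Γ _ _ h; omega
  | succ n ih =>
    intro Γ _ _ hn K h
    classical
    have := Fact.mk hp
    have hKn := h.normal
    obtain ⟨t₀, ht₀⟩ : ∃ t : Γ, t ∉ K := by
      by_contra hne
      push Not at hne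
      have h2 := h.index
      rw [(Subgroup.eq_top_iff' K).2 hne, Subgroup.index_top] at h2
      exact hp.ne_one h2.symm
    by_cases hp2 : p = 2
    · subst hp2
      have hinv : ∀ k ∈ K, t₀ * k * t₀⁻¹ = k⁻¹ := fun k hk => by
        have h1 := h.pow_eq (t₀ * k) fun hm => ht₀ ((K.mul_mem_cancel_right hk).1 hm)
        have h2 : t₀⁻¹ = t₀ := inv_eq_of_mul_eq_one_right (by rw [← pow_two, h.pow_eq t₀ ht₀])
        rw [h2]
        exact eq_inv_of_mul_eq_one_left (by simpa [pow_two, mul_assoc] using h1)
      let _ : CommGroup K := { (inferInstance : Group K) with mul_comm := ?_ }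
      · exact CommGroup.isNilpotent
      refine fun a b => Subtype.ext ?_
      have := hinv ((a : Γ) * b) (K.mul_mem a.2 b.2)
      rw [← conj_mul, hinv a a.2, hinv b b.2, mul_inv_rev] at this
      simpa using congrArg (·⁻¹) this.symm
    by_cases hpK : p ∣ Nat.card K
    swap
    · refine FrobeniusNilpotent.isNilpotent_of_fpf (MulAut.conjNormal (H := K) t₀)
        (fun x hx => ?_) p hp ?_
      · have h1 := congrArg Subtype.val hx
        rw [MulAut.conjNormal_apply] at h1
        have h2 := h.pow_eq_one_of_commute ht₀ x.2 (mul_inv_eq_iff_eq_mul.1 h1)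
        refine orderOf_eq_one_iff.1 (Nat.eq_one_of_dvd_coprimes ((hp.coprime_iff_not_dvd).2 hpK)
          (orderOf_dvd_of_pow_eq_one (Subtype.ext (by simpa using h2))) (orderOf_dvd_natCard x))
      · rw [← map_pow, h.pow_eq t₀ ht₀, map_one]
    have hsub : ∀ H : Subgroup Γ, H ≠ ⊤ → ∀ t ∈ H, t ∉ K → Group.IsNilpotent ↥(K ⊓ H) := by
      intro H hH t ht htK
      have hlt : Nat.card H < Nat.card Γ :=
        lt_of_le_of_ne (Nat.le_of_dvd Nat.card_pos (Subgroup.card_subgroup_dvd_card H))
          fun e => hH (Subgroup.eq_top_of_card_eq H e)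
      have := ih H (by omega) _ (h.subgroup hp ht htK)
      refine FrobeniusFitting.closed_nilpotent.of_injective _ (K.subgroupOf H)
        ((Subgroup.inclusion inf_le_right).codRestrict _ fun x => (inf_le_left : K ⊓ H ≤ K) x.2)
        (fun a b e => Subtype.ext (congrArg (fun y : K.subgroupOf H => ((y : H) : Γ)) e)) this
    have hquot : ∀ (U : Subgroup Γ) [U.Normal], U ≤ K → U ≠ ⊥ →
        Group.IsNilpotent (K.map (QuotientGroup.mk' U)) := by
      intro U _ hUK hUne
      refine ih _ ?_ _ (h.quotient U hUK)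
      have h1 := U.index_mul_card
      rw [Subgroup.index_eq_card] at h1
      have h2 := U.one_lt_card_iff_ne_bot.2 hUne
      have h3 : 0 < Nat.card (Γ ⧸ U) := Nat.card_pos
      nlinarith
    suffices hT : ∃ T : Subgroup Γ, T ≤ K ∧ T.Normal ∧ T ≠ ⊥ ∧ Group.IsNilpotent T by
      obtain ⟨T, hTK, hTn, hTne, hTnil⟩ := hT
      obtain ⟨W, q, hq, hWK, hWne, hWn, hWc, hWq, hWmin⟩ := exists_abelian hTK hTn hTne hTnil
      have := Fact.mk hq
      exact nilpotent_of_minimal hp h W hWK hWc hWq hWmin hquot hWne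
    obtain ⟨P₀⟩ : Nonempty (Sylow p K) := inferInstance
    set P := (P₀ : Subgroup K).map K.subtype with hPdef
    have hPK : P ≤ K := Subgroup.map_subtype_le _
    have hP : IsPGroup p P := P₀.isPGroup'.map _
    have hPne : P ≠ ⊥ := fun e => P₀.ne_bot_of_dvd_card hpK
      ((Subgroup.map_eq_bot_iff_of_injective _ K.subtype_injective).1 e)
    obtain ⟨t, htP, htK⟩ := h.not_mem_sup le_rfl (Sylow.normalizer_sup_eq_top P₀) hp
    have hinj : Function.Injective (K.subtype.comp (P₀ : Subgroup K).subtype) :=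
      K.subtype_injective.comp (P₀ : Subgroup K).subtype_injective
    have hJeq : (Cfsg.thompsonSubgroupOf p (P₀ : Subgroup K)).map K.subtype =
        Cfsg.thompsonSubgroupOf p P := map_thompsonOf _ _ hinj
    have hZeq : (zOf (P₀ : Subgroup K)).map K.subtype = zOf P := map_zOf _ _ hinj
    set J := Cfsg.thompsonSubgroupOf p P with hJ
    by_cases hJt : Subgroup.normalizer (J : Set Γ) = ⊤
    · exact ⟨J, (Offenders.thompsonOf_le _).trans hPK, Subgroup.normalizer_eq_top_iff.1 hJt,
        thompsonOf_ne_bot hP hPne, (hP.to_le (Offenders.thompsonOf_le _)).isNilpotent⟩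
    by_cases hZt : Subgroup.normalizer (zOf P : Set Γ) = ⊤
    · exact ⟨zOf P, inf_le_left.trans hPK, Subgroup.normalizer_eq_top_iff.1 hZt,
        zOf_ne_bot hP hPne, (hP.to_le inf_le_left).isNilpotent⟩
    have hNC : Cfsg.HasNormalPComplement p K := by
      refine hasNormalPComplement_of_thompson hp2 P₀ ?_ ?_
      · have hnil := hsub _ hJt t (normalizer_le_normalizer_thompsonOf P htP) htK
        refine pNC_of_map_le K.subtype K.subtype_injective _ (K ⊓ Subgroup.normalizer (J : Set Γ)) ?_
          FrobeniusNilpotent.hasNormalPComplement_of_isNilpotent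
        refine le_inf (Subgroup.map_subtype_le _) ?_
        rw [← hJeq]
        exact Subgroup.le_normalizer_map _
      · have hnil := hsub _ hZt t (normalizer_le_normalizer_zOf P htP) htK
        refine pNC_of_map_le K.subtype K.subtype_injective _ (K ⊓ Subgroup.normalizer (zOf P : Set Γ)) ?_
          FrobeniusNilpotent.hasNormalPComplement_of_isNilpotent
        refine le_inf (Subgroup.map_subtype_le _) ?_
        rw [← hZeq]
        exact (Subgroup.map_mono (Subgroup.centralizer_le_normalizer _)).trans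
          (Subgroup.le_normalizer_map _)
    set R := (Cfsg.pResidual p K).map K.subtype with hR
    have hRn : R.Normal := ConjAct.normal_of_characteristic_of_normal
    by_cases hRbot : R = ⊥
    · have hKp : IsPGroup p K := TransferPResidual.pResidual_eq_bot_iff.1
        ((Subgroup.map_eq_bot_iff_of_injective _ K.subtype_injective).1 hRbot)
      exact ⟨K, le_rfl, hKn, fun e => hPne (le_bot_iff.1 (e ▸ hPK)), hKp.isNilpotent⟩
    refine ⟨R, Subgroup.map_subtype_le _, hRn, hRbot, ?_⟩
    have hRp := TransferPResidual.hasNormalPComplement_iff_not_dvd.1 hNC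
    have hcard : Nat.card R = Nat.card (Cfsg.pResidual p K) :=
      Subgroup.card_map_of_injective K.subtype_injective
    refine FrobeniusNilpotent.isNilpotent_of_fpf (MulAut.conjNormal (H := R) t₀)
      (fun x hx => ?_) p hp ?_
    · have h1 := congrArg Subtype.val hx
      rw [MulAut.conjNormal_apply] at h1
      have h2 := h.pow_eq_one_of_commute ht₀ (Subgroup.map_subtype_le _ x.2)
        (mul_inv_eq_iff_eq_mul.1 h1)
      exact orderOf_eq_one_iff.1 (Nat.eq_one_of_dvd_coprimes
        ((hp.coprime_iff_not_dvd).2 (hcard ▸ hRp))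
        (orderOf_dvd_of_pow_eq_one (Subtype.ext (by simpa using h2))) (orderOf_dvd_natCard x))
    · rw [← map_pow, h.pow_eq t₀ ht₀, map_one]

/-- Kegel: the subgroup of index `p` is nilpotent. -/
theorem Split.isNilpotent (hp : p.Prime) {K : Subgroup Γ} (h : Split p K) : Group.IsNilpotent K :=
  nilpotent_aux hp _ Γ (Nat.lt_succ_self _) K h

/-- Kegel: a splitting automorphism of prime order forces nilpotency. -/
theorem isNilpotent_of_splitting {G : Type u} [Group G] [Finite G] (α : MulAut G) (hp : p.Prime)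
    (hα : orderOf α = p)
    (hsplit : ∀ x : G, ((List.range p).map fun i => (α ^ i) x).prod = 1) : Group.IsNilpotent G := by
  classical
  let A := Subgroup.zpowers α
  let φ : A →* MulAut G := A.subtype
  let a : A := ⟨α, Subgroup.mem_zpowers α⟩
  have ha : ∀ b : A, ∃ i : ℕ, b = a ^ i := fun b => by
    obtain ⟨i, hi⟩ := mem_powers_iff_mem_zpowers.2 b.2
    exact ⟨i, Subtype.ext (by simpa [a] using hi.symm)⟩
  have hap : a ^ p = 1 := Subtype.ext (by simp [a, ← hα, pow_orderOf_eq_one])
  let ι : G →* G ⋊[φ] A := SemidirectProduct.inl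
  have hpow : ∀ (g : G) (n : ℕ), (ι g * SemidirectProduct.inr a) ^ n =
      ι ((List.range n).map fun i => (α ^ i) g).prod * SemidirectProduct.inr (a ^ n) := by
    intro g n
    induction n with
    | zero => simp
    | succ n ih =>
      rw [pow_succ, ih, List.range_succ, List.map_append, List.prod_append, List.map_singleton,
        List.prod_singleton, map_mul ι, pow_succ a, map_mul SemidirectProduct.inr]
      have e : ι ((α ^ n) g) = SemidirectProduct.inr (a ^ n) * ι g * SemidirectProduct.inr (a ^ n)⁻¹ :=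
        SemidirectProduct.inl_aut (φ := φ) (a ^ n) g
      rw [e, map_inv]
      group
  have h1 : ∀ g : G, (ι g * SemidirectProduct.inr a) ^ p = 1 := fun g => by
    rw [hpow, hsplit, hap, map_one, map_one, mul_one]
  let K := ι.range
  have hK : K = (SemidirectProduct.rightHom : G ⋊[φ] A →* A).ker :=
    SemidirectProduct.range_inl_eq_ker_rightHom
  have hKn : K.Normal := hK ▸ inferInstance
  have hindex : K.index = p := by
    rw [hK, Subgroup.index_ker, MonoidHom.range_eq_top.2 SemidirectProduct.rightHom_surjective,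
      Subgroup.card_top, Nat.card_zpowers, hα]
  have hout : ∀ x : G ⋊[φ] A, x ∉ K → x ^ p = 1 := by
    intro x hx
    have hr : x.right ≠ 1 := fun e => hx (hK ▸ e)
    obtain ⟨i, hi⟩ := ha x.right
    have hcop : Nat.Coprime p i := (hp.coprime_iff_not_dvd).2 fun ⟨m, hm⟩ => hr (by
      rw [hi, hm, pow_mul, hap, one_pow])
    obtain ⟨j, -, hj⟩ := Nat.exists_mul_mod_eq_one_of_coprime hcop.symm hp.one_lt
    have key : ∀ k : ℕ, k % p = j % p → orderOf x ∣ k * p := by
      intro k hk
      refine orderOf_dvd_of_pow_eq_one ?_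
      have hrk : (x ^ k).right = a := by
        show SemidirectProduct.rightHom (x ^ k) = a
        rw [map_pow]
        show x.right ^ k = a
        rw [hi, ← pow_mul, pow_eq_pow_mod _ hap, Nat.mul_mod, hk, ← Nat.mul_mod, hj, pow_one]
      rw [pow_mul]
      have := h1 (x ^ k).left
      rw [show ι (x ^ k).left * SemidirectProduct.inr a = x ^ k by
        rw [← hrk]; exact SemidirectProduct.inl_left_mul_inr_right _] at this
      exact this
    have h3 := Nat.dvd_gcd (key j rfl) (key (j + p) (Nat.add_mod_right j p))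
    rw [Nat.gcd_mul_right, Nat.gcd_self_add_right] at h3
    have hjp : Nat.gcd j p = 1 := by
      refine Nat.Coprime.symm ((hp.coprime_iff_not_dvd).2 fun ⟨m, hm⟩ => ?_)
      rw [hm, mul_comm i, mul_assoc, Nat.mul_mod_right] at hj
      exact absurd hj (by norm_num)
    rw [hjp, one_mul] at h3
    exact orderOf_dvd_iff_pow_eq_one.1 h3
  have : Finite (G ⋊[φ] A) := Finite.of_equiv _ SemidirectProduct.equivProd.symm
  have hnil := Split.isNilpotent hp ⟨hKn, hindex, hout⟩
  exact FrobeniusFitting.closed_nilpotent.of_injective _ _ ι.rangeRestrict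
    (fun x y e => SemidirectProduct.inl_injective (congrArg Subtype.val e)) hnil

end Cfsg.Agent.FrobeniusKegel
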