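/-
Module lemmas for fixed-point-free operator groups of order `pq`: orbit products, a degree count
from the Hall-Higman core, and the exclusion of the exceptional symplectic configuration.
-/
import Mathlib
import Cfsg.Agent.Lib.HallHigmanRep

set_option autoImplicit false

open scoped Pointwise commutatorElement

namespace Cfsg.Agent.FrobeniusPQ

open Module Cfsg.Agent.HallHigman

/-! ### The action on `Q ⧸ X` -/

section quotAct

variable {G : Type*} [Group G] (Q X : Subgroup G) [(X.subgroupOf Q).Normal]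

/-- The elements normalising `Q` and `X`, acting on `Q ⧸ X`. -/
noncomputable def quotAct :
    ↥(Subgroup.normalizer (Q : Set G) ⊓ Subgroup.normalizer (X : Set G)) →*
      MulAut (Q ⧸ X.subgroupOf Q) where
  toFun g := QuotientGroup.congr _ _ (Subgroup.normalizerMonoidHom Q ⟨g, g.2.1⟩) (by
    ext y
    constructor
    · rintro ⟨u, hu, rfl⟩
      exact (Subgroup.mem_normalizer_iff.1 g.2.2 _).1 hu
    · intro hy
      obtain ⟨u, rfl⟩ := (Subgroup.normalizerMonoidHom Q ⟨g, g.2.1⟩).surjective y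
      exact ⟨u, (Subgroup.mem_normalizer_iff.1 g.2.2 _).2 hy, rfl⟩)
  map_one' := MulEquiv.ext fun y => by
    obtain ⟨u, rfl⟩ := QuotientGroup.mk_surjective y
    show QuotientGroup.mk ((Subgroup.normalizerMonoidHom Q ⟨(1 : G), _⟩) u) = QuotientGroup.mk u
    congr 1
    exact Subtype.ext (show (1 : G) * u * (1 : G)⁻¹ = u by simp)
  map_mul' a b := MulEquiv.ext fun y => by
    obtain ⟨u, rfl⟩ := QuotientGroup.mk_surjective y
    show QuotientGroup.mk ((Subgroup.normalizerMonoidHom Q ⟨(a : G) * b, _⟩) u) =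
      QuotientGroup.mk ((Subgroup.normalizerMonoidHom Q ⟨(a : G), _⟩)
        ((Subgroup.normalizerMonoidHom Q ⟨(b : G), _⟩) u))
    congr 1
    exact Subtype.ext (show (a : G) * b * u * ((a : G) * b)⁻¹ = a * (b * u * (b : G)⁻¹) * (a : G)⁻¹ by
      group)

theorem quotAct_mk (g : ↥(Subgroup.normalizer (Q : Set G) ⊓ Subgroup.normalizer (X : Set G)))
    (u : Q) (hgu : (g : G) * u * (g : G)⁻¹ ∈ Q) :
    quotAct Q X g (QuotientGroup.mk u) = QuotientGroup.mk (⟨_, hgu⟩ : Q) := rfl

end quotAct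

/-! ### Orbit products -/

/-- A fixed point of `X` is trivial if each element of `A` fixes it or moves `X` to a subgroup
generating `Z` together with `X`. -/
theorem orbit_eq_one {G L : Type*} [Group G] [Finite G] [CommGroup L] [Finite L]
    (φ : G →* MulAut L) {A Z X : Subgroup G} (hXZ : X ≤ Z)
    (hcomm : ∀ x ∈ Z, ∀ y ∈ Z, φ (x * y) = φ (y * x))
    (hAZ : A ≤ Subgroup.normalizer (Z : Set G))
    (hfix : ∀ v, (∀ a ∈ A, φ a v = v) → v = 1) (hCZ : ∀ v, (∀ z ∈ Z, φ z v = v) → v = 1)
    (hA : (Nat.card A).Coprime (Nat.card L)) (hX : (Nat.card X).Coprime (Nat.card L))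
    {w : L} (hwX : ∀ x ∈ X, φ x w = w)
    (hdich : ∀ a ∈ A, φ a w = w ∨ Z ≤ X ⊔ MulAut.conj a • X) : w = 1 := by
  classical
  have := Fintype.ofFinite A
  have := Fintype.ofFinite X
  have hmul : ∀ (x y : G) (v : L), φ x (φ y v) = φ (x * y) v := fun x y v => by
    rw [map_mul, MulAut.mul_apply]
  let N : L → L := fun u => ∏ x : X, φ x u
  have hNX : ∀ u, ∀ y ∈ X, φ y (N u) = N u := by
    intro u y hy
    simp only [N, map_prod, hmul]
    exact Fintype.prod_equiv (Equiv.mulLeft (⟨y, hy⟩ : X)) _ _ fun x => rfl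
  have hprod : ∏ a : A, φ a w = 1 := by
    refine hfix _ fun b hb => ?_
    simp only [map_prod, hmul]
    exact Fintype.prod_equiv (Equiv.mulLeft (⟨b, hb⟩ : A)) _ _ fun a => rfl
  have hN : ∀ a ∈ A, φ a w ≠ w → N (φ a w) = 1 := by
    intro a ha hne
    refine hCZ _ fun z hz => ?_
    let S : Subgroup G := (MulAction.stabilizer (MulAut L) (N (φ a w))).comap φ
    suffices h : X ⊔ MulAut.conj a • X ≤ S from h (((hdich a ha).resolve_left hne) hz)
    refine sup_le (fun y hy => hNX _ y hy) fun y hy => ?_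
    show φ y (N (φ a w)) = N (φ a w)
    have hyZ : y ∈ Z := by
      obtain ⟨y', hy', rfl⟩ := hy
      exact (Subgroup.mem_normalizer_iff.1 (hAZ ha) y').1 (hXZ hy')
    obtain ⟨y', hy', rfl⟩ := hy
    simp only [N, map_prod, hmul]
    refine Finset.prod_congr rfl fun x _ => ?_
    have hyZ' : a * y' * a⁻¹ ∈ Z := hyZ
    show φ (a * y' * a⁻¹ * ((x : G) * a)) w = φ ((x : G) * a) w
    rw [← mul_assoc, ← hmul _ a, hcomm _ hyZ' _ (hXZ x.2), hmul _ a, mul_assoc,
      show a * y' * a⁻¹ * a = a * y' by group, ← hmul, ← hmul, hwX y' hy', hmul]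
  have hN1 : ∀ a : G, φ a w = w → N (φ a w) = w ^ Nat.card X := by
    intro a ha
    rw [Nat.card_eq_fintype_card, ← Finset.card_univ, ← Finset.prod_const]
    exact Finset.prod_congr rfl fun x _ => by rw [ha, hwX _ x.2]
  set St := ((MulAction.stabilizer (MulAut L) w).comap φ).subgroupOf A with hSt
  have hcard : Nat.card St = (Finset.univ.filter fun a : A => φ a w = w).card := by
    rw [Nat.card_eq_fintype_card, Fintype.card_subtype]
    rfl
  have h1 : (w ^ Nat.card X) ^ Nat.card St = 1 := by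
    have hsum : N (∏ a : A, φ a w) = ∏ a : A, N (φ a w) := by
      simp only [N, map_prod]
      exact Finset.prod_comm
    have h2 : N (∏ a : A, φ a w) = 1 := by rw [hprod]; simp [N]
    rw [← h2, hsum, ← Finset.prod_filter_mul_prod_filter_not Finset.univ (fun a : A => φ a w = w),
      Finset.prod_eq_one (s := Finset.filter (fun a : A => ¬ φ a w = w) Finset.univ)
        (fun a ha => hN a a.2 (Finset.mem_filter.1 ha).2), mul_one,
      Finset.prod_congr rfl (fun (a : A) ha => hN1 a (Finset.mem_filter.1 ha).2), Finset.prod_const,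
      hcard]
  rw [← pow_mul] at h1
  exact orderOf_eq_one_iff.1 (Nat.eq_one_of_dvd_coprimes
    (hX.mul_left (hA.coprime_dvd_left St.card_subgroup_dvd_card)) (orderOf_dvd_of_pow_eq_one h1)
    (orderOf_dvd_natCard w))

/-! ### Degree count -/

/-- If `x` of prime order `m` has no fixed points on `W` and none on `P ⧸ Y`, where `P` acts as a
class two group with centre `Y` fixed by `x`, then `|P : Y| = (m - 1) ^ 2`. -/
theorem relIndex_eq_sq {G W : Type*} [Group G] [Finite G] [CommGroup W] [Finite W] [Nontrivial W]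
    {ℓ m q : ℕ} [Fact ℓ.Prime] (hW : ∀ v : W, v ^ ℓ = 1) (φ : G →* MulAut W) (hm : m.Prime)
    {x : G} (hxm : x ^ m = 1) (hfix : ∀ v, φ x v = v → v = 1) {P Y : Subgroup G}
    (hxP : x ∈ Subgroup.normalizer (P : Set G)) (hq : q.Prime) (hP : IsPGroup q P) (hlq : ℓ ≠ q)
    (hYP : Y ≤ P) (hYc : ∀ u ∈ Y, φ (x * u) = φ (u * x) ∧ ∀ v ∈ P, φ (v * u) = φ (u * v))
    (hcomm : ∀ u ∈ P, ∀ v ∈ P, ⁅u, v⁆ ∈ Y)
    (hnd : ∀ u ∈ P, u ∉ Y → ∃ v ∈ P, ∀ w, φ ⁅v, u⁆ w = w → w = 1)
    (hfpf : ∀ u ∈ P, ∀ k, 0 < k → k < m → x ^ k * u * (x ^ k)⁻¹ * u⁻¹ ∈ Y → u ∈ Y)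
    (hne : ¬ P ≤ Y) : Y.relIndex P = (m - 1) ^ 2 ∧ q ∣ m - 1 := by
  classical
  have := Fact.mk hq
  obtain ⟨n, ρ, hρ, hρN⟩ := exists_rep hW φ
  have heq : ∀ a b : G, φ a = φ b → ρ a = ρ b := fun a b h => by
    rw [show a = a * b⁻¹ * b by group, map_mul ρ,
      (hρ _).2 (by rw [map_mul, h, ← map_mul, mul_inv_cancel, map_one]), one_mul]
  have hsum : ∑ k ∈ Finset.range m, ρ x ^ k = 0 :=
    (hρN x m).2 (norm_trivial_of_fpf φ hxm hfix)
  have hqK : (q : AlgebraicClosure (ZMod ℓ)) ≠ 0 := by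
    rw [Ne, CharP.cast_eq_zero_iff (AlgebraicClosure (ZMod ℓ)) ℓ,
      Nat.prime_dvd_prime_iff_eq Fact.out hq]
    exact hlq
  -- a fixed-point-free element of `P` fixes no vector
  have hz0 : ∀ z ∈ P, (∀ w, φ z w = w → w = 1) → ∀ w, ρ z w = w → w = 0 := by
    intro z hz hzf w hw
    obtain ⟨i, hi⟩ := hP ⟨z, hz⟩
    have hzi : z ^ q ^ i = 1 := congrArg Subtype.val hi
    have h0 := LinearMap.congr_fun ((hρN z (q ^ i)).2 (norm_trivial_of_fpf φ hzi hzf)) w
    have hk : ∀ k : ℕ, (ρ z ^ k) w = w := by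
      intro k
      induction k with
      | zero => rfl
      | succ k ih => rw [pow_succ, Module.End.mul_apply, hw, ih]
    simp only [LinearMap.sum_apply, hk, Finset.sum_const, Finset.card_range,
      LinearMap.zero_apply] at h0
    rw [← Nat.cast_smul_eq_nsmul (AlgebraicClosure (ZMod ℓ)), smul_eq_zero] at h0
    exact h0.resolve_left (by rw [Nat.cast_pow]; exact pow_ne_zero _ hqK)
  obtain ⟨u₀, hu₀, hu₀Y⟩ := SetLike.not_le_iff_exists.1 hne
  obtain ⟨v₀, hv₀, hv₀f⟩ := hnd u₀ hu₀ hu₀Y
  have hnt : Nontrivial (Fin n → AlgebraicClosure (ZMod ℓ)) := by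
    by_contra hs
    rw [not_nontrivial_iff_subsingleton] at hs
    obtain ⟨w, hw⟩ := exists_ne (1 : W)
    exact hw (hv₀f w (by rw [(hρ _).1 (Subsingleton.elim _ _), MulAut.one_apply]))
  -- a minimal invariant subspace
  let Inv : Submodule (AlgebraicClosure (ZMod ℓ)) (Fin n → AlgebraicClosure (ZMod ℓ)) → Prop :=
    fun U => U ≠ ⊥ ∧ (∀ u ∈ P, ∀ w ∈ U, ρ u w ∈ U) ∧ ∀ w ∈ U, ρ x w ∈ U
  have hex : ∃ d, ∃ U, Inv U ∧ finrank (AlgebraicClosure (ZMod ℓ)) U = d :=
    ⟨_, ⊤, ⟨top_ne_bot, fun _ _ _ _ => Submodule.mem_top, fun _ _ => Submodule.mem_top⟩, rfl⟩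
  obtain ⟨U, ⟨hU0, hUP, hUx⟩, hUd⟩ := Nat.find_spec hex
  have hmin : ∀ U' ≤ U, Inv U' → U' = U := fun U' hle h' =>
    Submodule.eq_of_le_of_finrank_le hle (hUd ▸ Nat.find_min' hex ⟨U', h', rfl⟩)
  have : Nontrivial U := Submodule.nontrivial_iff_ne_bot.mpr hU0
  let r : P →* Module.End (AlgebraicClosure (ZMod ℓ)) U :=
    { toFun := fun u => (ρ (u : G)).restrict (hUP u u.2)
      map_one' := LinearMap.ext fun w => Subtype.ext (by simp)
      map_mul' := fun u v => LinearMap.ext fun w => Subtype.ext (by simp) }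
  have hr : ∀ (u : P) (w : U), ((r u w : U) : Fin n → AlgebraicClosure (ZMod ℓ)) = ρ (u : G) w :=
    fun _ _ => rfl
  let X : Module.End (AlgebraicClosure (ZMod ℓ)) U := (ρ x).restrict hUx
  have hXk : ∀ (k : ℕ) (w : U), (((X ^ k) w : U) : Fin n → AlgebraicClosure (ZMod ℓ)) =
      (ρ x ^ k) w := by
    intro k w
    induction k generalizing w with
    | zero => rfl
    | succ k ih => rw [pow_succ, Module.End.mul_apply, ih, pow_succ, Module.End.mul_apply]; rfl
  let α : MulAut P := Subgroup.normalizerMonoidHom P ⟨x, hxP⟩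
  have hαk : ∀ (k : ℕ) (u : P), (((α ^ k) u : P) : G) = x ^ k * u * (x ^ k)⁻¹ := by
    intro k u
    rw [← map_pow]
    rfl
  have hscal : scal r = Y.subgroupOf P := by
    ext u
    constructor
    · intro hu
      by_contra hY
      obtain ⟨v, hv, hvf⟩ := hnd u u.2 hY
      have h1 : r ⁅(⟨v, hv⟩ : P), u⁆ = 1 := by
        rw [commutatorElement_def, map_mul, r_conj_of_scal r hu, ← map_mul, mul_inv_cancel,
          map_one]
      obtain ⟨w, hw⟩ := exists_ne (0 : U)
      refine hw (Subtype.ext (hz0 _ (⁅(⟨v, hv⟩ : P), u⁆).2 hvf _ ?_))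
      rw [← hr, h1, Module.End.one_apply]
    · intro hu
      obtain ⟨s, hs⟩ := Module.End.exists_eigenvalue (r u)
      let U' := (Module.End.eigenspace (r u) s).map U.subtype
      have hstep : ∀ g : G, φ (g * u) = φ ((u : G) * g) → ∀ hg : ∀ w ∈ U, ρ g w ∈ U,
          ∀ w ∈ U', ρ g w ∈ U' := by
        rintro g hgu hg _ ⟨w, hw, rfl⟩
        refine ⟨⟨ρ g (w : Fin n → AlgebraicClosure (ZMod ℓ)), hg _ w.2⟩, ?_, rfl⟩
        rw [SetLike.mem_coe, Module.End.mem_eigenspace_iff] at hw ⊢
        refine Subtype.ext ?_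
        show ρ (u : G) (ρ g w) = s • ρ g (w : Fin n → AlgebraicClosure (ZMod ℓ))
        rw [← Module.End.mul_apply, ← map_mul, ← heq _ _ hgu, map_mul, Module.End.mul_apply,
          ← map_smul, ← hr, hw, Submodule.coe_smul]
      obtain ⟨hx, hP'⟩ := hYc u hu
      have hU' : U' = U := by
        refine hmin U' (Submodule.map_subtype_le _ _)
          ⟨?_, fun v hv => hstep v (hP' v hv) (hUP v hv), hstep x hx hUx⟩
        rw [Ne, ← le_bot_iff, Submodule.map_le_iff_le_comap, Submodule.comap_bot, Submodule.ker_subtype,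
          le_bot_iff]
        exact hs
      refine ⟨s, LinearMap.ext fun w => ?_⟩
      obtain ⟨w', hw', hww⟩ := hU'.symm.le w.2
      rw [show w = w' from Subtype.ext hww.symm]
      exact Module.End.mem_eigenspace_iff.1 hw'
  have hirr : ∀ V : Submodule (AlgebraicClosure (ZMod ℓ)) U, (∀ u, ∀ w ∈ V, r u w ∈ V) →
      (∀ w ∈ V, X w ∈ V) → V = ⊥ ∨ V = ⊤ := by
    intro V h1 h2
    refine or_iff_not_imp_left.2 fun hV => ?_
    have hV' : V.map U.subtype = U := by
      refine hmin _ (Submodule.map_subtype_le _ _) ⟨?_, ?_, ?_⟩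
      · rw [Ne, ← le_bot_iff, Submodule.map_le_iff_le_comap, Submodule.comap_bot, Submodule.ker_subtype,
          le_bot_iff]
        exact hV
      · rintro u hu _ ⟨w, hw, rfl⟩
        exact ⟨_, h1 ⟨u, hu⟩ w hw, rfl⟩
      · rintro _ ⟨w, hw, rfl⟩
        exact ⟨_, h2 w hw, rfl⟩
    rw [eq_top_iff]
    intro w _
    obtain ⟨w', hw', hww⟩ := hV'.symm.le w.2
    rwa [show w = w' from Subtype.ext hww.symm]
  have hPK : (Nat.card P : AlgebraicClosure (ZMod ℓ)) ≠ 0 := by
    obtain ⟨k, hk⟩ := IsPGroup.iff_card.mp hP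
    rw [hk, Nat.cast_pow]
    exact pow_ne_zero _ hqK
  obtain ⟨h1, h2, h3⟩ := core r (X := X) (α := α) m hm.two_le
    (LinearMap.ext fun w => Subtype.ext (by rw [hXk, ← map_pow, hxm, map_one]; rfl))
    (MulEquiv.ext fun u => Subtype.ext (by rw [hαk, hxm]; simp))
    (fun u => LinearMap.ext fun w => Subtype.ext (by
      show ρ x (ρ (u : G) w) = ρ (x * u * x⁻¹) (ρ x (w : Fin n → AlgebraicClosure (ZMod ℓ)))
      simp only [← Module.End.mul_apply, ← map_mul, inv_mul_cancel_right]))
    hPK hirr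
    (fun u v => by rw [hscal]; exact hcomm u u.2 v v.2)
    (fun u hu => by
      rw [hscal] at hu
      obtain ⟨v, hv, hvf⟩ := hnd u u.2 hu
      refine ⟨⟨v, hv⟩, fun h => ?_⟩
      obtain ⟨w, hw⟩ := exists_ne (0 : U)
      refine hw (Subtype.ext (hz0 _ (⁅(⟨v, hv⟩ : P), u⁆).2 hvf _ ?_))
      rw [← hr, h, Module.End.one_apply])
    (fun k hk0 hk u hu => by
      rw [hscal, Subgroup.mem_subgroupOf] at hu ⊢
      rw [Subgroup.coe_mul, Subgroup.coe_inv, hαk] at hu
      exact hfpf u u.2 k hk0 hk hu)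
    (LinearMap.ext fun w => Subtype.ext (by
      have := LinearMap.congr_fun hsum (w : Fin n → AlgebraicClosure (ZMod ℓ))
      rw [LinearMap.sum_apply, LinearMap.zero_apply] at this
      rw [LinearMap.sum_apply, Submodule.coe_sum]
      simp only [hXk]
      exact this))
  rw [hscal] at h1
  change Y.relIndex P = _ at h1
  set D := finrank (AlgebraicClosure (ZMod ℓ)) U with hD
  have hne1 : Y.relIndex P ≠ 1 := fun e => hne (Subgroup.relIndex_eq_one.1 e)
  have hD2 : 2 ≤ D := by
    rcases Nat.lt_or_ge D 2 with h | h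
    · interval_cases D
      · exact absurd hD.symm Module.finrank_pos.ne'
      · exact absurd (by rw [h1, one_pow]) hne1
    · exact h
  have hDm : D = m - 1 := by
    have hf : D ^ 2 - 1 = (D + 1) * (D - 1) := by rw [← Nat.sq_sub_sq D 1, one_pow]
    rw [hf] at h3
    rcases hm.dvd_mul.1 h3 with h | h
    · have := Nat.le_of_dvd (by omega) h
      omega
    · have := Nat.le_of_dvd (by omega) h
      omega
  refine ⟨hDm ▸ h1, hq.dvd_of_dvd_pow (n := 2) (hDm ▸ h1 ▸ ?_)⟩
  obtain ⟨k, hk⟩ := IsPGroup.iff_card.mp hP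
  obtain ⟨i, -, hi⟩ := (Nat.dvd_prime_pow hq).1
    (hk ▸ (Y.subgroupOf P).index_dvd_card : Y.relIndex P ∣ q ^ k)
  rw [hi]
  refine dvd_pow_self q fun e => hne1 ?_
  rw [hi, e, pow_zero]

/-! ### The exceptional configuration -/

theorem sq_add_of_commute {V : Type*} [AddCommGroup V] (hV : ∀ e : V, e + e = 0)
    {f g : AddMonoid.End V} (h : f * g = g * f) (i : ℕ) :
    (f + g) ^ 2 ^ i = f ^ 2 ^ i + g ^ 2 ^ i := by
  have h2 : ∀ a : AddMonoid.End V, a + a = 0 := fun a => AddMonoidHom.ext fun e => hV (a e)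
  induction i with
  | zero => simp
  | succ i ih =>
    rw [pow_succ, pow_mul, pow_mul, pow_mul, ih, sq, sq, sq, add_mul, mul_add, mul_add,
      ((show Commute f g from h).pow_pow (2 ^ i) (2 ^ i)).eq]
    calc _ = f ^ 2 ^ i * f ^ 2 ^ i + g ^ 2 ^ i * g ^ 2 ^ i +
          (g ^ 2 ^ i * f ^ 2 ^ i + g ^ 2 ^ i * f ^ 2 ^ i) := by abel
      _ = _ := by rw [h2, add_zero]

/-- Vandermonde: commuting endomorphisms with injective differences are independent. -/
theorem eq_zero_of_vandermonde {V : Type*} [AddCommGroup V] :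
    ∀ (n : ℕ) (T : Fin n → AddMonoid.End V), (∀ i k, T i * T k = T k * T i) →
      (∀ i k, i ≠ k → ∀ e, T i e = T k e → e = 0) → ∀ y : Fin n → V,
      (∀ i < n, ∑ l, (T l ^ i) (y l) = 0) → y = 0 := by
  intro n
  induction n with
  | zero => intro T _ _ y _; exact funext fun i => i.elim0
  | succ n ih =>
    intro T hc hd y hy
    have hy' := ih (fun l => T l.succ) (fun i k => hc _ _)
      (fun i k hik => hd _ _ fun e => hik (Fin.succ_injective _ e))
      (fun l => T l.succ (y l.succ) - T 0 (y l.succ)) (fun i hi => by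
        have h1 := hy (i + 1) (by omega)
        have h2 := congrArg (T 0) (hy i (by omega))
        rw [map_sum, map_zero] at h2
        have h3 : ∑ l, ((T l ^ (i + 1)) (y l) - T 0 ((T l ^ i) (y l))) = 0 := by
          rw [Finset.sum_sub_distrib, h1, h2, sub_zero]
        have h00 : (T 0 ^ (i + 1)) (y 0) - T 0 ((T 0 ^ i) (y 0)) = 0 := by
          rw [pow_succ']
          exact sub_self _
        rw [Fin.sum_univ_succ, h00, zero_add] at h3
        rw [← h3]
        refine Finset.sum_congr rfl fun l _ => ?_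
        rw [map_sub, pow_succ]
        congr 1
        show (T l.succ ^ i * T 0) _ = (T 0 * T l.succ ^ i) _
        rw [((show Commute (T 0) (T l.succ) from hc _ _).pow_right i).eq])
    have hs : ∀ l : Fin n, y l.succ = 0 := fun l =>
      hd _ _ (Fin.succ_ne_zero l) _ (sub_eq_zero.1 (congrFun hy' l))
    have h0 := hy 0 (by omega)
    rw [Fin.sum_univ_succ, Finset.sum_eq_zero (fun l _ => by rw [hs l, map_zero]), add_zero,
      pow_zero] at h0
    exact funext (Fin.cases h0 hs)

variable {G : Type*} [Group G] {E : Type*} [AddCommGroup E] {M : Type*} [AddCommGroup M]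

theorem add_self_of_biadd (hE2 : ∀ e : E, e + e = 0) (β : E →+ E →+ M) (e f : E) :
    β e f + β e f = 0 := by rw [← map_add, hE2, map_zero]

/-- The exceptional configuration: impossible. -/
theorem exceptional_false [Finite G] [Finite E] {j m : ℕ} (hm : m.Prime) (hm2 : m ≠ 2)
    (hmj : m = 2 ^ j + 1) (hE2 : ∀ e : E, e + e = 0) (ρ : G →* AddMonoid.End E)
    (β : E →+ E →+ M) (halt : ∀ e, β e e = 0) (hnd : ∀ e, (∀ f, β e f = 0) → e = 0)
    (hinv : ∀ g e f, β (ρ g e) (ρ g f) = β e f) {R : Subgroup G} {c : G} (hcm : c ^ m = 1)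
    (hcR : c ∈ Subgroup.normalizer (R : Set G))
    (hRc : ∀ s ∈ R, ∀ t ∈ R, ρ (s * t) = ρ (t * s)) (hR2 : Odd (Nat.card R))
    (hRm : (Nat.card R).Coprime m) (hfixR : ∀ e, (∀ t ∈ R, ρ t e = e) → e = 0)
    (hD : ∀ e, ρ c e = e → (∀ t ∈ R, ρ (t * c * t⁻¹ * c⁻¹) e = e) → e = 0)
    (hcard : Nat.card (AddMonoidHom.range (ρ c - 1)) = 2 ^ (2 * j)) [Nontrivial E] : False := by
  classical
  have hj : 1 ≤ j := by
    rcases Nat.eq_zero_or_pos j with rfl | h
    · exact absurd hmj (by simpa using hm2)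
    · exact h
  have hmul : ∀ (a b : G) (e : E), ρ a (ρ b e) = ρ (a * b) e := fun a b e => by rw [map_mul]; rfl
  have hone : ∀ e : E, ρ 1 e = e := fun e => by rw [map_one]; rfl
  have hsym : ∀ e f, β f e = β e f := fun e f => by
    have h := halt (e + f)
    simp only [map_add, AddMonoidHom.add_apply, halt, zero_add, add_zero] at h
    rw [← add_zero (β f e), ← add_self_of_biadd hE2 β e f, ← add_assoc, h, zero_add]
  have hm1 : ∀ e : E, m • e = e := fun e => by
    have h : 2 • e = 0 := by rw [two_nsmul]; exact hE2 e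
    obtain ⟨i, hi⟩ : ∃ i, m = 2 * i + 1 := hm.odd_of_ne_two hm2
    rw [hi, succ_nsmul, mul_nsmul, h, nsmul_zero, zero_add]
  -- perpendicular to the fixed points means perpendicular
  have hperp : ∀ (S : Subgroup G), Odd (Nat.card S) → ∀ (V : AddSubgroup E),
      (∀ s ∈ S, ∀ e ∈ V, ρ s e ∈ V) → ∀ u, (∀ s ∈ S, ρ s u = u) →
      (∀ f ∈ V, (∀ s ∈ S, ρ s f = f) → β u f = 0) → ∀ e ∈ V, β u e = 0 := by
    intro S hS V hSV u hu hf e he
    have := Fintype.ofFinite S
    have h1 : β u (∑ s : S, ρ s e) = 0 := hf _ (V.sum_mem fun s _ => hSV s s.2 e he) fun t ht => by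
      rw [map_sum]
      simp only [hmul]
      exact Fintype.sum_equiv (Equiv.mulLeft (⟨t, ht⟩ : S)) _ _ fun s => rfl
    rw [map_sum, Finset.sum_congr rfl (g := fun _ => β u e) (fun (s : S) _ => by
      conv_lhs => rw [← hu s s.2]
      rw [hinv]), Finset.sum_const, Finset.card_univ, ← Nat.card_eq_fintype_card] at h1
    obtain ⟨i, hi⟩ := hS
    rwa [hi, succ_nsmul, mul_nsmul, two_nsmul, add_self_of_biadd hE2 β, nsmul_zero,
      zero_add] at h1
  -- a nondegenerate subgroup has at least four elements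
  have hfour : ∀ V : AddSubgroup E, V ≠ ⊥ → (∀ e ∈ V, (∀ f ∈ V, β e f = 0) → e = 0) →
      4 ≤ Nat.card V := by
    intro V hV hVnd
    obtain ⟨x, hx, hx0⟩ := (AddSubgroup.bot_or_exists_ne_zero V).resolve_left hV
    obtain ⟨y, hy, hxy⟩ : ∃ y ∈ V, β x y ≠ 0 := by
      by_contra h
      push Not at h
      exact hx0 (hVnd x hx h)
    by_contra hlt
    have h3 : ({⟨0, V.zero_mem⟩, ⟨x, hx⟩, ⟨y, hy⟩} : Finset V).card = 3 := by
      rw [Finset.card_eq_three]
      refine ⟨_, _, _, ?_, ?_, ?_, rfl⟩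
      · exact fun e => hx0 (congrArg Subtype.val e).symm
      · intro e
        have e' : (0 : E) = y := congrArg Subtype.val e
        exact hxy (by rw [← e', map_zero])
      · intro e
        have e' : x = y := congrArg Subtype.val e
        exact hxy (by rw [← e', halt])
    have := Fintype.ofFinite V
    have h4 := Finset.card_le_univ ({⟨0, V.zero_mem⟩, ⟨x, hx⟩, ⟨y, hy⟩} : Finset V)
    rw [h3, ← Nat.card_eq_fintype_card] at h4
    have hV3 : Nat.card V = 3 := by omega
    obtain ⟨i, hi⟩ : ∃ i : ℕ, 2 * i + 1 = Nat.card V := ⟨1, by omega⟩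
    have h5 : Nat.card V • (⟨x, hx⟩ : V) = 0 := card_nsmul_eq_zero'
    have h6 : Nat.card V • x = 0 := congrArg Subtype.val h5
    rw [← hi, succ_nsmul, mul_nsmul, two_nsmul, hE2, nsmul_zero, zero_add] at h6
    exact hx0 h6
  -- the commutator space of `c`
  set D := AddMonoidHom.range (ρ c - 1) with hDdef
  have hCD : ∀ e, ρ c e = e → e ∈ D → e = 0 := by
    rintro e he ⟨y, rfl⟩
    have hk : ∀ k : ℕ, ρ (c ^ k) ((ρ c - 1) y) = (ρ c - 1) y := by
      intro k
      induction k with
      | zero => rw [pow_zero, hone]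
      | succ k ih => rw [pow_succ, ← hmul]; exact (congrArg _ he).trans ih
    have h0 : ∑ k ∈ Finset.range m, ρ (c ^ k) ((ρ c - 1) y) = 0 := by
      have e1 : ∀ k, ρ (c ^ k) ((ρ c - 1) y) = ρ (c ^ (k + 1)) y - ρ (c ^ k) y := fun k => by
        show ρ (c ^ k) (ρ c y - y) = _
        rw [map_sub, hmul, pow_succ]
      rw [Finset.sum_congr rfl fun k _ => e1 k, Finset.sum_range_sub (fun k => ρ (c ^ k) y), hcm,
        pow_zero, sub_self]
    rwa [Finset.sum_congr rfl fun k _ => hk k, Finset.sum_const, Finset.card_range, hm1] at h0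
  -- `c` is irreducible on it
  have hirr : ∀ U : AddSubgroup E, U ≤ D → (∀ e ∈ U, ρ c e ∈ U) → U = ⊥ ∨ U = D := by
    intro U hUD hUc
    have := Fact.mk hm
    let f : Function.End U := fun e => ⟨ρ c e, hUc e e.2⟩
    have hfk : ∀ (k : ℕ) (e : U), ((f ^ k) e : E) = ρ (c ^ k) e := by
      intro k
      induction k with
      | zero => intro e; rw [pow_zero, pow_zero, hone]; rfl
      | succ k ih =>
        intro e
        rw [pow_succ, pow_succ, ← hmul]
        exact ih (f e)
    have hfm : f ^ m ^ 1 = 1 := funext fun e => Subtype.ext (by rw [hfk, pow_one, hcm, hone]; rfl)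
    have := Fintype.ofFinite U
    have h1 := Equiv.Perm.card_fixedPoints_modEq hfm
    have h2 : Fintype.card f.fixedPoints = 1 := by
      rw [Fintype.card_eq_one_iff]
      refine ⟨⟨0, Subtype.ext (map_zero (ρ c))⟩, fun e => Subtype.ext (Subtype.ext ?_)⟩
      exact hCD _ (congrArg Subtype.val e.2) (hUD e.1.2)
    rw [h2, ← Nat.card_eq_fintype_card] at h1
    have hUdvd := AddSubgroup.card_dvd_of_le hUD
    rw [hcard] at hUdvd
    obtain ⟨k, hk, hUk⟩ := (Nat.dvd_prime_pow Nat.prime_two).1 hUdvd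
    rw [hUk] at h1
    rcases Nat.eq_zero_or_pos k with rfl | hk0
    · exact Or.inl (AddSubgroup.card_eq_one.1 (hUk.trans (pow_zero 2)))
    rcases Nat.lt_or_ge k (2 * j) with hlt | hge
    · exfalso
      have hsmall : ∀ i, 0 < i → i ≤ j → ¬ 2 ^ i ≡ 1 [MOD m] := by
        intro i hi hij h
        have h3 := (Nat.modEq_iff_dvd' (Nat.one_le_two_pow)).1 h.symm
        have h4 : 2 ^ i ≤ 2 ^ j := Nat.pow_le_pow_right (by omega) hij
        have h5 : 2 ≤ 2 ^ i := Nat.le_self_pow (by omega) 2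
        have := Nat.le_of_dvd (by omega) h3
        omega
      rcases Nat.lt_or_ge j k with hjk | hjk
      · refine hsmall (2 * j - k) (by omega) (by omega) ?_
        have h22 : 2 ^ (2 * j) ≡ 1 [MOD m] := by
          refine ((Nat.modEq_iff_dvd' Nat.one_le_two_pow).2 ?_).symm
          rw [mul_comm 2 j, pow_mul, ← one_pow 2, Nat.sq_sub_sq, ← hmj]
          exact dvd_mul_right _ _
        rw [show 2 * j = (2 * j - k) + k by omega, pow_add] at h22
        calc 2 ^ (2 * j - k) = 2 ^ (2 * j - k) * 1 := (mul_one _).symm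
          _ ≡ 2 ^ (2 * j - k) * 2 ^ k [MOD m] := (h1.mul_left _).symm
          _ ≡ 1 [MOD m] := h22
      · exact hsmall k hk0 hjk h1
    · exact Or.inr (AddSubgroup.eq_of_le_of_card_ge hUD
        (by rw [hUk, hcard]; exact Nat.pow_le_pow_right (by omega) hge))
  -- a maximal subgroup of `R` with fixed points
  let fx : Subgroup G → AddSubgroup E := fun X =>
    { carrier := {e | ∀ t ∈ X, ρ t e = e}
      zero_mem' := fun t _ => map_zero (ρ t)
      add_mem' := fun {a b} ha hb t ht => by rw [map_add, ha t ht, hb t ht]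
      neg_mem' := fun {a} ha t ht => by rw [map_neg, ha t ht] }
  have hmemfx : ∀ (X : Subgroup G) e, e ∈ fx X ↔ ∀ t ∈ X, ρ t e = e := fun _ _ => Iff.rfl
  obtain ⟨X, ⟨hXR, hX0⟩, hXmax⟩ := Set.exists_max_image
    {X : Subgroup G | X ≤ R ∧ fx X ≠ ⊥} (fun X => Nat.card X) (Set.toFinite _) ⟨⊥, bot_le, by
      obtain ⟨e, he⟩ := exists_ne (0 : E)
      refine fun h => he ?_
      rw [← AddSubgroup.mem_bot, ← h]
      intro t ht
      rw [Subgroup.mem_bot.1 ht, hone]⟩
  have hmax : ∀ Y : Subgroup G, Y ≤ R → X ≤ Y → ¬ Y ≤ X → ∀ e, (∀ t ∈ Y, ρ t e = e) → e = 0 := by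
    intro Y hY hXY hne e he
    by_contra h0
    refine hne (Subgroup.eq_of_le_of_card_ge hXY (hXmax Y ⟨hY, fun h => h0 ?_⟩)).ge
    rw [← AddSubgroup.mem_bot, ← h]
    exact he
  have hXodd : ∀ Y : Subgroup G, Y ≤ R → Odd (Nat.card Y) := fun Y hY =>
    hR2.of_dvd_nat (Subgroup.card_dvd_of_le hY)
  have hE0R : ∀ t ∈ R, ∀ e ∈ fx X, ρ t e ∈ fx X := by
    intro t ht e he s hs
    rw [hmul, hRc s (hXR hs) t ht, ← hmul, he s hs]
  have hE0nd : ∀ e ∈ fx X, (∀ f ∈ fx X, β e f = 0) → e = 0 := fun e he h => hnd e fun f =>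
    hperp X (hXodd X hXR) ⊤ (fun _ _ _ _ => AddSubgroup.mem_top _) e he (fun f _ hf => h f hf) f
      (AddSubgroup.mem_top f)
  have h4 := hfour _ hX0 hE0nd
  have hbig : ∀ f : ℕ, 4 ≤ f → f ^ (m - 1) ≤ 2 ^ (2 * j) → False := by
    intro f hf h
    have h1 : 2 ^ (2 * 2 ^ j) ≤ f ^ (m - 1) := by
      rw [pow_mul, hmj, Nat.add_sub_cancel]
      exact Nat.pow_le_pow_left hf _
    have h2 := (Nat.pow_le_pow_iff_right (by omega : 1 < 2)).1 (h1.trans h)
    have := Nat.lt_two_pow_self (n := j)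
    omega
  by_cases hst : MulAut.conj c • X = X
  swap
  · -- the components are permuted regularly
    refine hbig _ h4 ?_
    have hmove : ∀ l : ℕ, 0 < l → l < m → MulAut.conj (c ^ l) • X ≠ X := by
      intro l hl0 hlm e
      apply hst
      have h1 : c ∈ Subgroup.zpowers (c ^ l) :=
        mem_zpowers_pow_iff.2 ((hm.coprime_iff_not_dvd.2 fun hd =>
          absurd (Nat.le_of_dvd hl0 hd) (by omega)).symm.coprime_dvd_right
          (orderOf_dvd_of_pow_eq_one hcm))
      have h2 : Subgroup.zpowers (c ^ l) ≤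
          (MulAction.stabilizer (MulAut G) X).comap MulAut.conj := Subgroup.zpowers_le.2 e
      exact h2 h1
    have horth : ∀ l : ℕ, 0 < l → l < m → ∀ y ∈ fx X, ∀ f ∈ fx X, β (ρ (c ^ l) y) f = 0 := by
      intro l hl0 hlm y hy
      have hXl : MulAut.conj (c ^ l) • X ≤ R := by
        rintro _ ⟨s, hs, rfl⟩
        exact (Subgroup.mem_normalizer_iff.1 (pow_mem hcR l) s).1 (hXR hs)
      refine hperp _ (hXodd _ hXl) _ (fun s hs => hE0R s (hXl hs)) _ ?_ ?_
      · rintro _ ⟨s, hs, rfl⟩
        show ρ (c ^ l * s * (c ^ l)⁻¹) (ρ (c ^ l) y) = _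
        rw [hmul, inv_mul_cancel_right, ← hmul, hy s hs]
      · intro f hf hfl
        rw [hmax (X ⊔ MulAut.conj (c ^ l) • X) (sup_le hXR hXl) le_sup_left ?_ f ?_, map_zero]
        · intro hle
          refine hmove l hl0 hlm (Subgroup.eq_of_le_of_card_ge (le_sup_right.trans hle) ?_)
          exact le_of_eq (Nat.card_congr
            (Subgroup.equivSMul (MulAut.conj (c ^ l)) X).toEquiv)
        · intro t ht
          have h3 : X ⊔ MulAut.conj (c ^ l) • X ≤
              { carrier := {t | ρ t f = f}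
                one_mem' := hone f
                mul_mem' := fun {a b} (ha : ρ a f = f) (hb : ρ b f = f) => by
                  show ρ (a * b) f = f
                  rw [← hmul, hb, ha]
                inv_mem' := fun {a} (ha : ρ a f = f) => by
                  show ρ a⁻¹ f = f
                  conv_lhs => rw [← ha]
                  rw [hmul, inv_mul_cancel, hone] } :=
            sup_le (fun s hs => hf s hs) (fun s hs => hfl s hs)
          exact h3 ht
    have hor : ∀ i k : Fin (m - 1), i ≠ k → ∀ y ∈ fx X, ∀ f ∈ fx X,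
        β (ρ (c ^ ((i : ℕ) + 1)) y) (ρ (c ^ ((k : ℕ) + 1)) f) = 0 := by
      intro i k hik y hy f hf
      have hii := i.isLt
      have hkk := k.isLt
      rcases Nat.lt_or_ge (k : ℕ) i with h | h
      · rw [show (i : ℕ) + 1 = (k + 1) + (i - k) by omega, pow_add c ((k : ℕ) + 1), ← hmul, hinv]
        exact horth _ (by omega) (by omega) y hy f hf
      · have hne : (i : ℕ) ≠ k := fun e => hik (Fin.ext e)
        rw [show (k : ℕ) + 1 = (i + 1) + (k - i) by omega, pow_add c ((i : ℕ) + 1), ← hmul _ _ f,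
          hinv, hsym]
        exact horth _ (by omega) (by omega) f hf y hy
    let Φ : (Fin (m - 1) → fx X) → D := fun x =>
      ⟨(ρ c - 1) (∑ i : Fin (m - 1), ρ (c ^ ((i : ℕ) + 1)) (x i : E)), _, rfl⟩
    have hΦ : Function.Injective Φ := by
      intro x x' hxx
      have hxx' := congrArg Subtype.val hxx
      simp only [Φ] at hxx'
      set z := ∑ i : Fin (m - 1), ρ (c ^ ((i : ℕ) + 1)) ((x i - x' i : fx X) : E) with hz
      have hzd : z = ∑ i : Fin (m - 1), ρ (c ^ ((i : ℕ) + 1)) (x i : E) -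
          ∑ i : Fin (m - 1), ρ (c ^ ((i : ℕ) + 1)) (x' i : E) := by
        rw [hz, ← Finset.sum_sub_distrib]
        exact Finset.sum_congr rfl fun i _ => by rw [AddSubgroup.coe_sub, map_sub]
      have hzc : ρ c z = z := by
        rw [← sub_eq_zero]
        show (ρ c - 1) z = 0
        rw [hzd, map_sub, hxx', sub_self]
      have hzk : ∀ k : ℕ, ρ (c ^ k) z = z := by
        intro k
        induction k with
        | zero => rw [pow_zero, hone]
        | succ k ih => rw [pow_succ, ← hmul, hzc, ih]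
      have hz0 : ∀ f ∈ fx X, β z f = 0 := by
        intro f hf
        rw [hz, map_sum, AddMonoidHom.finsetSum_apply]
        exact Finset.sum_eq_zero fun i _ =>
          horth _ (by omega) (by have := i.isLt; omega) _ (x i - x' i).2 f hf
      refine funext fun k => sub_eq_zero.1 (Subtype.ext ?_)
      refine hE0nd _ (x k - x' k).2 fun f hf => ?_
      have h1 : β z (ρ (c ^ ((k : ℕ) + 1)) f) = 0 := by
        rw [← hzk ((k : ℕ) + 1), hinv]
        exact hz0 f hf
      rw [hz, map_sum, AddMonoidHom.finsetSum_apply, Finset.sum_eq_single k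
        (fun i _ hik => hor i k hik _ (x i - x' i).2 f hf) (by simp), hinv] at h1
      exact h1
    calc Nat.card (fx X) ^ (m - 1) = Nat.card (Fin (m - 1) → fx X) := by simp [Nat.card_fun]
      _ ≤ Nat.card D := Nat.card_le_card_of_injective Φ hΦ
      _ = 2 ^ (2 * j) := hcard
  -- `c` stabilises `X`
  have hcX : ∀ l : ℕ, ∀ s ∈ X, c ^ l * s * (c ^ l)⁻¹ ∈ X := by
    intro l s hs
    have h2 : MulAut.conj (c ^ l) • X = X := by
      induction l with
      | zero => rw [pow_zero, map_one, one_smul]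
      | succ l ih => rw [pow_succ, map_mul, mul_smul, hst, ih]
    rw [← h2]
    exact ⟨s, hs, rfl⟩
  have hcE : ∀ l : ℕ, ∀ e ∈ fx X, ρ (c ^ l) e ∈ fx X := by
    intro l e he s hs
    obtain ⟨i, hi⟩ : ∃ i : ℕ, c ^ i * c ^ l = 1 := ⟨(m - 1) * l, by
      rw [← pow_add, ← add_one_mul, Nat.sub_add_cancel hm.one_le, pow_mul, hcm, one_pow]⟩
    have h1 : c ^ i = (c ^ l)⁻¹ := eq_inv_of_mul_eq_one_left hi
    have h2 := hcX i s hs
    rw [h1, inv_inv] at h2
    rw [hmul, show s * c ^ l = c ^ l * ((c ^ l)⁻¹ * s * c ^ l) by group, ← hmul, he _ h2]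
  have hsemi : ∀ t ∈ R, t ∉ X → ∀ e ∈ fx X, ρ t e = e → e = 0 := by
    intro t ht htX e he hte
    refine hmax (X ⊔ Subgroup.zpowers t) (sup_le hXR (Subgroup.zpowers_le.2 ht)) le_sup_left
      (fun h => htX (h (Subgroup.mem_sup_right (Subgroup.mem_zpowers t)))) e fun s hs => ?_
    have h3 : X ⊔ Subgroup.zpowers t ≤
        { carrier := {s | ρ s e = e}
          one_mem' := hone e
          mul_mem' := fun {a b} (ha : ρ a e = e) (hb : ρ b e = e) => by
            show ρ (a * b) e = e
            rw [← hmul, hb, ha]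
          inv_mem' := fun {a} (ha : ρ a e = e) => by
            show ρ a⁻¹ e = e
            conv_lhs => rw [← ha]
            rw [hmul, inv_mul_cancel, hone] } :=
      sup_le (fun s hs => he s hs) (Subgroup.zpowers_le.2 hte)
    exact h3 hs
  by_cases hk1 : ∀ t ∈ R, c * t * c⁻¹ * t⁻¹ ∈ X
  · -- `c` commutes with `R` there
    have hcC : ∀ e ∈ fx X, ρ c e = e → e = 0 := fun e he hce => hD e hce fun t ht => by
      have h1 := inv_mem (hk1 t ht)
      rw [show (c * t * c⁻¹ * t⁻¹)⁻¹ = t * c * t⁻¹ * c⁻¹ by group] at h1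
      exact he _ h1
    have hle : fx X ≤ D := by
      intro e he
      have h1 : ∑ k ∈ Finset.range m, ρ (c ^ k) e = 0 := by
        refine hcC _ (AddSubgroup.sum_mem _ fun k _ => hcE k e he) ?_
        rw [map_sum]
        simp only [hmul, ← pow_succ']
        rw [← sub_eq_zero, ← Finset.sum_sub_distrib,
          Finset.sum_range_sub (fun k => ρ (c ^ k) e), hcm, pow_zero, sub_self]
      have h2 : ∀ k : ℕ, ρ (c ^ k) e - e ∈ D := by
        intro k
        induction k with
        | zero => rw [pow_zero, hone, sub_self]; exact D.zero_mem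
        | succ k ih =>
          rw [show ρ (c ^ (k + 1)) e - e = (ρ c - 1) (ρ (c ^ k) e) + (ρ (c ^ k) e - e) by
            show _ = (ρ c (ρ (c ^ k) e) - ρ (c ^ k) e) + _
            rw [hmul, ← pow_succ']; abel]
          exact D.add_mem ⟨_, rfl⟩ ih
      have h3 : ∑ k ∈ Finset.range m, (ρ (c ^ k) e - e) ∈ D := D.sum_mem fun k _ => h2 k
      rw [Finset.sum_sub_distrib, h1, Finset.sum_const, Finset.card_range, hm1, zero_sub] at h3
      exact neg_mem_iff.1 h3
    obtain ⟨u, hu, hu0⟩ := (AddSubgroup.bot_or_exists_ne_zero _).resolve_left hX0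
    set Cl := AddSubgroup.closure (Set.range fun i : ℕ => ρ (c ^ i)) with hCl
    have horb : ∀ y ∈ fx X, ∃ f ∈ Cl, f u = y := by
      let ev : AddMonoid.End E →+ E := AddMonoidHom.eval u
      let O : AddSubgroup E := Cl.map ev
      have hO : O ≤ fx X := by
        rw [show O = AddSubgroup.closure _ from AddMonoidHom.map_closure _ _,
          AddSubgroup.closure_le]
        rintro _ ⟨_, ⟨i, rfl⟩, rfl⟩
        exact hcE i u hu
      have hOc : ∀ e ∈ O, ρ c e ∈ O := by
        rintro _ ⟨f, hf, rfl⟩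
        have hcl : Cl ≤ Cl.comap (AddMonoidHom.mulLeft (ρ c)) := by
          rw [hCl, AddSubgroup.closure_le]
          rintro _ ⟨i, rfl⟩
          refine AddSubgroup.subset_closure ⟨i + 1, ?_⟩
          show ρ (c ^ (i + 1)) = ρ c * ρ (c ^ i)
          rw [← map_mul, pow_succ']
        exact ⟨ρ c * f, hcl hf, rfl⟩
      have hO0 : O ≠ ⊥ := fun h => hu0 (by
        rw [← AddSubgroup.mem_bot, ← h]
        exact ⟨ρ (c ^ 0), AddSubgroup.subset_closure ⟨0, rfl⟩, by
          show ρ (c ^ 0) u = u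
          rw [pow_zero, hone]⟩)
      have hOD := (hirr O (hO.trans hle) hOc).resolve_left hO0
      intro y hy
      obtain ⟨f, hf, hfy⟩ := (hOD ▸ hle hy : y ∈ O)
      exact ⟨f, hf, hfy⟩
    have hcommc : ∀ f ∈ Cl, ∀ i : ℕ, f * ρ (c ^ i) = ρ (c ^ i) * f := by
      intro f hf i
      induction hf using AddSubgroup.closure_induction with
      | mem x hx =>
        obtain ⟨l, rfl⟩ := hx
        rw [← map_mul, ← map_mul, ← pow_add, ← pow_add, add_comm]
      | zero => rw [zero_mul, mul_zero]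
      | add a b _ _ ha hb => rw [add_mul, mul_add, ha, hb]
      | neg a _ ha => rw [neg_mul, mul_neg, ha]
    have hcommCl : ∀ f ∈ Cl, ∀ g ∈ Cl, f * g = g * f := by
      intro f hf g hg
      induction hg using AddSubgroup.closure_induction with
      | mem x hx =>
        obtain ⟨l, rfl⟩ := hx
        exact hcommc f hf l
      | zero => rw [zero_mul, mul_zero]
      | add a b _ _ ha hb => rw [add_mul, mul_add, ha, hb]
      | neg a _ ha => rw [neg_mul, mul_neg, ha]
    have hadj : ∀ f ∈ Cl, ∀ x y, β (f x) y = β x ((f ^ 2 ^ j) y) := by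
      intro f hf
      induction hf using AddSubgroup.closure_induction with
      | mem g hg =>
        obtain ⟨l, rfl⟩ := hg
        intro x y
        rw [← map_pow, ← hinv (c ^ l) x, hmul, ← pow_mul, ← pow_add,
          show l + l * 2 ^ j = m * l by rw [hmj]; ring, pow_mul, hcm, one_pow, hone]
      | zero =>
        intro x y
        rw [zero_pow (Nat.two_pow_pos j).ne']
        show β 0 y = β x 0
        rw [map_zero, map_zero, AddMonoidHom.zero_apply]
      | add a b ha' hb' ha hb =>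
        intro x y
        rw [sq_add_of_commute hE2 (hcommCl a ha' b hb')]
        show β (a x + b x) y = β x ((a ^ 2 ^ j) y + (b ^ 2 ^ j) y)
        rw [map_add, map_add, AddMonoidHom.add_apply, ha, hb]
      | neg a _ ha =>
        intro x y
        have : -a = a := AddMonoidHom.ext fun e => neg_eq_of_add_eq_zero_left (hE2 (a e))
        rw [this]
        exact ha x y
    refine hu0 (hfixR u fun t ht => ?_)
    obtain ⟨f, hf, hfu⟩ := horb (ρ t u) (hE0R t ht u hu)
    have hagree : ∀ y ∈ fx X, f y = ρ t y := by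
      intro y hy
      obtain ⟨g, hg, rfl⟩ := horb y hy
      have hgt : ρ t (g u) = g (ρ t u) := by
        clear hy
        induction hg using AddSubgroup.closure_induction with
        | mem x hx =>
          obtain ⟨l, rfl⟩ := hx
          induction l with
          | zero =>
            show ρ t (ρ (c ^ 0) u) = ρ (c ^ 0) (ρ t u)
            rw [pow_zero, hone, hone]
          | succ l ih =>
            show ρ t (ρ (c ^ (l + 1)) u) = ρ (c ^ (l + 1)) (ρ t u)
            have hcomm1 : ∀ e ∈ fx X, ρ t (ρ c e) = ρ c (ρ t e) := by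
              intro e he
              rw [hmul, hmul, show c * t = (c * t * c⁻¹ * t⁻¹) * (t * c) by group, ← hmul _ _ e]
              refine (Eq.symm ?_)
              have h5 := hE0R t ht _ (hcE 1 e he)
              rw [pow_one, hmul] at h5
              have h6 := h5 _ (hk1 t ht)
              rw [hmul] at h6
              rw [hmul t c]
              exact h6
            rw [pow_succ', ← hmul c, hcomm1 _ (hcE l u hu), ih, ← hmul c]
        | zero => exact map_zero (ρ t)
        | add a b _ _ ha hb =>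
          show ρ t (a u + b u) = a (ρ t u) + b (ρ t u)
          rw [map_add, ha, hb]
        | neg a _ ha =>
          show ρ t (-(a u)) = -(a (ρ t u))
          rw [map_neg, ha]
      show (f * g) u = _
      rw [hcommCl f hf g hg]
      show g (f u) = _
      rw [hfu, hgt]
    have hpow : ∀ i : ℕ, (f ^ i) u = ρ (t ^ i) u := by
      intro i
      induction i with
      | zero => rw [pow_zero, pow_zero, hone]; rfl
      | succ i ih =>
        rw [pow_succ', pow_succ', ← hmul]
        show f ((f ^ i) u) = _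
        rw [ih, hagree _ (hE0R _ (pow_mem ht i) u hu)]
    have htm : ρ (t ^ m) u = u := by
      rw [← sub_eq_zero]
      refine hE0nd _ (AddSubgroup.sub_mem _ (hE0R _ (pow_mem ht m) u hu) hu) fun y hy => ?_
      rw [hsym, map_sub, sub_eq_zero, hmj, pow_succ', ← hmul, ← hpow]
      obtain ⟨y', hy', rfl⟩ : ∃ y' ∈ fx X, ρ t y' = y := by
        refine ⟨ρ t⁻¹ y, hE0R _ (inv_mem ht) y hy, ?_⟩
        rw [hmul, mul_inv_cancel, hone]
      rw [hinv, ← hadj f hf, hagree y' hy']
    let St : Subgroup G :=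
      { carrier := {s | ρ s u = u}
        one_mem' := hone u
        mul_mem' := fun {a b} (ha : ρ a u = u) (hb : ρ b u = u) => by
          show ρ (a * b) u = u
          rw [← hmul, hb, ha]
        inv_mem' := fun {a} (ha : ρ a u = u) => by
          show ρ a⁻¹ u = u
          conv_lhs => rw [← ha]
          rw [hmul, inv_mul_cancel, hone] }
    have h6 : Subgroup.zpowers (t ^ m) ≤ St := Subgroup.zpowers_le.2 htm
    exact h6 (mem_zpowers_pow_iff.2 (hRm.symm.coprime_dvd_right
      (Subgroup.orderOf_dvd_natCard R ht)))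
  · -- `c` moves some `t` modulo `X`
    push Not at hk1
    obtain ⟨t, ht, htX⟩ := hk1
    let T : ℕ → G := fun l => c ^ l * t * (c ^ l)⁻¹
    have hTR : ∀ l, T l ∈ R := fun l => (Subgroup.mem_normalizer_iff.1 (pow_mem hcR l) t).1 ht
    have hstep : ∀ d : ℕ, 0 < d → d < m → T d * t⁻¹ ∉ X := by
      intro d hd0 hdm h
      obtain ⟨i, hi⟩ := Nat.exists_mul_mod_eq_one_of_coprime (n := d) (k := m)
        ((hm.coprime_iff_not_dvd.2 fun hd => absurd (Nat.le_of_dvd hd0 hd) (by omega)).symm)
        hm.one_lt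
      have hn : ∀ n : ℕ, T (d * n) * t⁻¹ ∈ X := by
        intro n
        induction n with
        | zero => simp [T]
        | succ n ih =>
          have e : T (d * (n + 1)) * t⁻¹ =
              (c ^ d * (T (d * n) * t⁻¹) * (c ^ d)⁻¹) * (T d * t⁻¹) := by
            simp only [T, show d * (n + 1) = d + d * n by ring, pow_add]
            group
          rw [e]
          exact mul_mem (hcX d _ ih) h
      apply htX
      have h1 := hn i
      simp only [T] at h1
      rwa [show c ^ (d * i) = c by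
        conv_lhs => rw [← Nat.mod_add_div (d * i) m, hi.2, pow_add, pow_mul, hcm, one_pow, mul_one,
          pow_one]] at h1
    have hdiff : ∀ i k : ℕ, i < m → k < m → i ≠ k → ∀ e ∈ fx X,
        ρ (T i) e = ρ (T k) e → e = 0 := by
      intro i k hi hk hne e he heq
      wlog hik : i < k generalizing i k
      · exact this k i hk hi (Ne.symm hne) heq.symm (by omega)
      have h1 : ρ (T k * (T i)⁻¹) e = e := by
        rw [hRc _ (hTR k) _ (inv_mem (hTR i)), ← hmul, ← heq, hmul, inv_mul_cancel, hone]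
      refine hsemi _ (mul_mem (hTR k) (inv_mem (hTR i))) ?_ e he h1
      intro hmem
      refine hstep (k - i) (by omega) (by omega) ?_
      have h2 := hcX ((m - 1) * i) _ hmem
      have h3 : c ^ ((m - 1) * i) = (c ^ i)⁻¹ := eq_inv_of_mul_eq_one_left (by
        rw [← pow_add, ← add_one_mul, Nat.sub_add_cancel hm.one_le, pow_mul, hcm, one_pow])
      have h4 : c ^ k = c ^ i * c ^ (k - i) := by rw [← pow_add]; congr 1; omega
      rw [h3, inv_inv] at h2
      simp only [T, h4] at h2 ⊢
      convert h2 using 1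
      group
    let C : AddSubgroup E :=
      { carrier := {e | e ∈ fx X ∧ ρ c e = e}
        zero_mem' := ⟨(fx X).zero_mem, map_zero _⟩
        add_mem' := fun {a b} ha hb => ⟨(fx X).add_mem ha.1 hb.1, by rw [map_add, ha.2, hb.2]⟩
        neg_mem' := fun {a} ha => ⟨(fx X).neg_mem ha.1, by rw [map_neg, ha.2]⟩ }
    -- the operators on `E₀`
    let res : ℕ → AddMonoid.End (fx X) := fun l =>
      AddMonoidHom.codRestrict ((ρ (T l) : E →+ E).comp (fx X).subtype) (fx X)
        fun e => hE0R _ (hTR l) e e.2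
    have hres : ∀ (l i : ℕ) (e : fx X), (((res l ^ i) e : fx X) : E) = ρ (T l ^ i) (e : E) := by
      intro l i
      induction i with
      | zero => intro e; rw [pow_zero, pow_zero, hone]; rfl
      | succ i ih =>
        intro e
        rw [pow_succ, pow_succ, ← hmul]
        exact ih (res l e)
    have hV : ∀ y : Fin m → fx X, (∀ i < m, ∑ l : Fin m, (res l ^ i) (y l) = 0) → y = 0 :=
      eq_zero_of_vandermonde m (fun l => res l)
        (fun i k => AddMonoidHom.ext fun e => Subtype.ext (by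
          show ρ (T i) (ρ (T k) (e : E)) = ρ (T k) (ρ (T i) (e : E))
          rw [hmul, hmul, hRc _ (hTR i) _ (hTR k)]))
        (fun i k hik e he => Subtype.ext (hdiff i k i.isLt k.isLt (fun h => hik (Fin.ext h)) e e.2
          (congrArg Subtype.val he)))
    have hTc : ∀ l i : ℕ, c ^ l * t ^ i = T l ^ i * c ^ l := by
      intro l i
      simp only [T]
      rw [conj_pow, inv_mul_cancel_right]
    have hck : ∀ e, ρ c e = e → ∀ k : ℕ, ρ (c ^ k) e = e := by
      intro e he k
      induction k with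
      | zero => rw [pow_zero, hone]
      | succ k ih => rw [pow_succ, ← hmul, he, ih]
    have hC0 : C ≠ ⊥ := by
      intro h
      obtain ⟨y, hy, hy0⟩ := (AddSubgroup.bot_or_exists_ne_zero _).resolve_left hX0
      have h1 := hV (fun l => ⟨ρ (c ^ (l : ℕ)) y, hcE l y hy⟩) fun i _ => Subtype.ext (by
        rw [AddSubgroup.val_finsetSum, Finset.sum_congr rfl (g := fun l : Fin m =>
          ρ (c ^ (l : ℕ)) (ρ (t ^ i) y)) (fun l _ => by
            rw [hres]
            show ρ _ (ρ _ y) = _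
            rw [hmul, hmul, hTc]),
          Fin.sum_univ_eq_sum_range (fun l => ρ (c ^ l) (ρ (t ^ i) y))]
        show _ = (0 : E)
        rw [← AddSubgroup.mem_bot, ← h]
        refine ⟨AddSubgroup.sum_mem _ fun k _ => hcE k _ (hE0R _ (pow_mem ht i) y hy), ?_⟩
        rw [map_sum]
        simp only [hmul (a := c)]
        rw [← sub_eq_zero, ← Finset.sum_sub_distrib]
        simp only [← pow_succ']
        rw [Finset.sum_range_sub (fun k => ρ (c ^ k) (ρ (t ^ i) y)), hcm, pow_zero, sub_self])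
      exact hy0 (by
        have h2 := congrArg Subtype.val (congrFun h1 ⟨0, hm.pos⟩)
        simpa [hone] using h2)
    have hzodd : Odd (Nat.card (Subgroup.zpowers c)) := by
      rw [Nat.card_zpowers]
      exact (hm.odd_of_ne_two hm2).of_dvd_nat (orderOf_dvd_of_pow_eq_one hcm)
    have hCnd : ∀ e ∈ C, (∀ f ∈ C, β e f = 0) → e = 0 := fun e he h => hE0nd e he.1 fun f hf => by
      refine hperp (Subgroup.zpowers c) hzodd (fx X) ?_ e ?_ ?_ f hf
      · intro s hs e he
        obtain ⟨k, rfl⟩ := mem_powers_iff_mem_zpowers.2 hs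
        exact hcE k e he
      · intro s hs
        obtain ⟨k, rfl⟩ := mem_powers_iff_mem_zpowers.2 hs
        exact hck e he.2 k
      · exact fun f hf hfc => h f ⟨hf, hfc c (Subgroup.mem_zpowers c)⟩
    refine hbig _ (hfour C hC0 hCnd) ?_
    have hadjT : ∀ (l i : ℕ) (x y : E), β (ρ (T l ^ i) x) y = β x (ρ ((T l ^ i)⁻¹) y) := by
      intro l i x y
      rw [← hinv (T l ^ i) x, hmul, mul_inv_cancel, hone]
    -- the Vandermonde map is bijective
    let inv' : ℕ → AddMonoid.End (fx X) := fun l =>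
      AddMonoidHom.codRestrict ((ρ (T l)⁻¹ : E →+ E).comp (fx X).subtype) (fx X)
        fun e => hE0R _ (inv_mem (hTR l)) e e.2
    have hinv' : ∀ (l i : ℕ) (e : fx X),
        (((inv' l ^ i) e : fx X) : E) = ρ ((T l ^ i)⁻¹) (e : E) := by
      intro l i
      induction i with
      | zero => intro e; rw [pow_zero, pow_zero, inv_one, hone]; rfl
      | succ i ih =>
        intro e
        rw [pow_succ, pow_succ', mul_inv_rev, ← hmul]
        exact ih (inv' l e)
    have hV' : ∀ y : Fin m → fx X, (∀ i < m, ∑ l : Fin m, (inv' l ^ i) (y l) = 0) → y = 0 :=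
      eq_zero_of_vandermonde m (fun l => inv' l)
        (fun i k => AddMonoidHom.ext fun e => Subtype.ext (by
          show ρ (T i)⁻¹ (ρ (T k)⁻¹ (e : E)) = ρ (T k)⁻¹ (ρ (T i)⁻¹ (e : E))
          rw [hmul, hmul, hRc _ (inv_mem (hTR i)) _ (inv_mem (hTR k))]))
        (fun i k hik e he => Subtype.ext (by
          have he' : ρ (T i)⁻¹ (e : E) = ρ (T k)⁻¹ (e : E) := congrArg Subtype.val he
          refine hdiff i k i.isLt k.isLt (fun h => hik (Fin.ext h)) e e.2 ?_
          calc ρ (T i) (e : E) = ρ (T i * T k) (ρ (T k)⁻¹ (e : E)) := by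
                rw [hmul, mul_inv_cancel_right]
            _ = ρ (T k * T i) (ρ (T i)⁻¹ (e : E)) := by rw [hRc _ (hTR k) _ (hTR i), he']
            _ = ρ (T k) (e : E) := by rw [hmul, mul_inv_cancel_right]))
    let Ψ : (Fin m → fx X) → (Fin m → fx X) := fun y i => ∑ l : Fin m, (inv' l ^ (i : ℕ)) (y l)
    have hΨ : Function.Surjective Ψ := by
      refine Finite.injective_iff_surjective.1 fun y y' h => sub_eq_zero.1 (hV' _ fun i hi => ?_)
      have h1 := congrFun h ⟨i, hi⟩
      simp only [Ψ] at h1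
      simp only [Pi.sub_apply, map_sub, Finset.sum_sub_distrib, h1, sub_self]
    have hdual : ∀ x : Fin m → fx X, (∀ l < m, ∑ i : Fin m, ρ (T l ^ (i : ℕ)) (x i : E) = 0) →
        x = 0 := by
      intro x hx
      refine funext fun i => Subtype.ext (hE0nd _ (x i).2 fun f hf => ?_)
      obtain ⟨y, hy⟩ := hΨ (Function.update 0 i ⟨f, hf⟩)
      have h1 : ∑ l : Fin m, β (∑ k : Fin m, ρ (T l ^ (k : ℕ)) (x k : E)) (y l : E) = 0 :=
        Finset.sum_eq_zero fun l _ => by rw [hx l l.isLt, map_zero, AddMonoidHom.zero_apply]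
      simp only [map_sum, AddMonoidHom.finsetSum_apply, hadjT] at h1
      rw [Finset.sum_comm] at h1
      have h2 : ∀ k : Fin m, ∑ l : Fin m, β (x k : E) (ρ ((T l ^ (k : ℕ))⁻¹) (y l : E)) =
          β (x k : E) ((Function.update (0 : Fin m → fx X) i ⟨f, hf⟩ k : fx X) : E) := by
        intro k
        rw [← congrFun hy k]
        simp only [Ψ, AddSubgroup.val_finsetSum, map_sum, hinv']
      rw [Finset.sum_congr rfl fun k _ => h2 k, Finset.sum_eq_single i
        (fun k _ hk => by rw [Function.update_of_ne hk]; simp) (by simp),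
        Function.update_self] at h1
      exact h1
    obtain ⟨m', rfl⟩ : ∃ m', m = m' + 1 := ⟨m - 1, by have := hm.pos; omega⟩
    rw [Nat.add_sub_cancel]
    let Φ : (Fin m' → C) → D := fun x =>
      ⟨(ρ c - 1) (∑ i : Fin m', ρ (t ^ ((i : ℕ) + 1)) (x i : E)), _, rfl⟩
    have hΦ : Function.Injective Φ := by
      intro x x' hxx
      have hxx' := congrArg Subtype.val hxx
      simp only [Φ] at hxx'
      set z := ∑ i : Fin m', ρ (t ^ ((i : ℕ) + 1)) ((x i - x' i : C) : E) with hz
      have hzE : z ∈ fx X := AddSubgroup.sum_mem _ fun i _ => hE0R _ (pow_mem ht _) _ (x i - x' i).2.1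
      have hzc : ρ c z = z := by
        rw [← sub_eq_zero]
        show (ρ c - 1) z = 0
        have hzd : z = ∑ i : Fin m', ρ (t ^ ((i : ℕ) + 1)) (x i : E) -
            ∑ i : Fin m', ρ (t ^ ((i : ℕ) + 1)) (x' i : E) := by
          rw [hz, ← Finset.sum_sub_distrib]
          exact Finset.sum_congr rfl fun i _ => by rw [AddSubgroup.coe_sub, map_sub]
        rw [hzd, map_sub, hxx', sub_self]
      have h1 := hdual (Fin.cons (-⟨z, hzE⟩) fun i : Fin m' => ⟨_, (x i - x' i).2.1⟩) (by
        intro l _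
        rw [Fin.sum_univ_succ]
        simp only [Fin.cons_zero, Fin.cons_succ, Fin.val_zero, Fin.val_succ, pow_zero, hone,
          AddSubgroup.coe_neg]
        have h2 : ρ (c ^ l) z = ∑ i : Fin m', ρ (T l ^ ((i : ℕ) + 1)) ((x i - x' i : C) : E) := by
          rw [hz, map_sum]
          refine Finset.sum_congr rfl fun i _ => ?_
          rw [hmul, hTc, ← hmul, hck _ (x i - x' i).2.2]
        rw [← h2, hck _ hzc, neg_add_cancel])
      refine funext fun i => sub_eq_zero.1 (Subtype.ext ?_)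
      have h2 := congrArg Subtype.val (congrFun h1 i.succ)
      rw [Fin.cons_succ] at h2
      exact h2
    calc Nat.card C ^ m' = Nat.card (Fin m' → C) := by simp [Nat.card_fun]
      _ ≤ Nat.card D := Nat.card_le_card_of_injective Φ hΦ
      _ = 2 ^ (2 * j) := hcard

end Cfsg.Agent.FrobeniusPQ
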