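/-
A solvable group with a fixed-point-free coprime group of operators of order `pq`, non-abelian,
is metanilpotent.
-/
import Mathlib
import Cfsg.Agent.Lib.FrobeniusPQAlg
import Cfsg.Agent.Lib.FrobeniusWard

set_option autoImplicit false

open scoped Pointwise commutatorElement

namespace Cfsg.Agent.FrobeniusPQ

universe u v

open Cfsg.Agent Cfsg.Agent.CoprimeAction Cfsg.Agent.FrobeniusFitting Cfsg.Agent.FrobeniusWard

/-- A non-abelian group of order `p * m` with normal `⟨a⟩` of order `p`. -/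
structure PQ {Γ : Type*} [Group Γ] (A : Subgroup Γ) (a b : Γ) (p m : ℕ) : Prop where
  p_prime : p.Prime
  m_prime : m.Prime
  ne : p ≠ m
  dvd : m ∣ p - 1
  card : Nat.card A = p * m
  a_mem : a ∈ A
  b_mem : b ∈ A
  a_pow : a ^ p = 1
  a_ne : a ≠ 1
  b_pow : b ^ m = 1
  norm : A ≤ Subgroup.normalizer (Subgroup.zpowers a : Set Γ)
  nc : a * b ≠ b * a

section group

variable {Γ : Type*} [Group Γ] [Finite Γ] {A : Subgroup Γ} {a b : Γ} {p m : ℕ}

theorem PQ.not_comm (pq : PQ A a b p m) {c d : Γ} (hc : c ∈ Subgroup.centralizer (A : Set Γ))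
    (hcA : A ≤ Subgroup.zpowers c ⊔ Subgroup.zpowers d)
    (hd : d ∈ Subgroup.centralizer (A : Set Γ)) : False := by
  have h : A ≤ Subgroup.centralizer (A : Set Γ) :=
    hcA.trans (sup_le (Subgroup.zpowers_le.2 hc) (Subgroup.zpowers_le.2 hd))
  exact pq.nc (h pq.b_mem a pq.a_mem)

theorem PQ.orderOf_cases (pq : PQ A a b p m) {c : Γ} (hc : c ∈ A) (hc1 : c ≠ 1) :
    orderOf c = p ∨ orderOf c = m := by
  have hd : orderOf c ∣ p * m := pq.card ▸ Subgroup.orderOf_dvd_natCard A hc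
  obtain ⟨u, v, hu, hv, huv⟩ := dvd_mul.1 hd
  rcases (Nat.dvd_prime pq.p_prime).1 hu with rfl | rfl <;>
    rcases (Nat.dvd_prime pq.m_prime).1 hv with rfl | rfl
  · exact absurd (orderOf_eq_one_iff.1 (huv.trans (one_mul 1))) hc1
  · exact Or.inr (by rw [huv, one_mul])
  · exact Or.inl (by rw [huv, mul_one])
  · exfalso
    have h : Subgroup.zpowers c = A := Subgroup.eq_of_le_of_card_ge (Subgroup.zpowers_le.2 hc)
      (by rw [Nat.card_zpowers, pq.card, huv])
    obtain ⟨i, hi⟩ := (h.symm.le pq.a_mem : a ∈ Subgroup.zpowers c)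
    obtain ⟨k, hk⟩ := (h.symm.le pq.b_mem : b ∈ Subgroup.zpowers c)
    simp only at hi hk
    exact pq.nc (by rw [← hi, ← hk, ← zpow_add, ← zpow_add, add_comm])

theorem PQ.prime_order (pq : PQ A a b p m) {c : Γ} (hc : c ∈ A) (hc1 : c ≠ 1) :
    (orderOf c).Prime := by
  rcases pq.orderOf_cases hc hc1 with h | h <;> rw [h]
  · exact pq.p_prime
  · exact pq.m_prime

theorem PQ.gen (pq : PQ A a b p m) {c d : Γ} (hc : c ∈ A) (hc1 : c ≠ 1) (hd : d ∈ A)
    (hdc : d ∉ Subgroup.zpowers c) {W : Subgroup Γ} (hcW : c ∈ W) (hdW : d ∈ W) : A ≤ W := by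
  set U := W ⊓ A
  have hle : Subgroup.zpowers c ≤ U := Subgroup.zpowers_le.2 ⟨hcW, hc⟩
  have hne : Nat.card U ≠ Nat.card (Subgroup.zpowers c) := fun e =>
    hdc ((Subgroup.eq_of_le_of_card_ge hle e.le).symm.le ⟨hdW, hd⟩)
  have hd1 := Subgroup.card_dvd_of_le hle
  rw [Nat.card_zpowers] at hne hd1
  have hd2 : Nat.card U ∣ p * m := pq.card ▸ Subgroup.card_dvd_of_le (inf_le_right : U ≤ A)
  have hU : U = A := by
    refine Subgroup.eq_of_le_of_card_ge inf_le_right ?_
    rw [pq.card]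
    obtain ⟨u, v, hu, hv, huv⟩ := dvd_mul.1 hd2
    have hprime : ∀ q : ℕ, q.Prime → Nat.card U ∣ q → False := fun q hq h => by
      rcases (Nat.dvd_prime hq).1 h with h1 | h1
      · rw [h1, Nat.dvd_one] at hd1
        exact hc1 (orderOf_eq_one_iff.1 hd1)
      · rw [h1] at hd1 hne
        rcases (Nat.dvd_prime hq).1 hd1 with h2 | h2
        · exact hc1 (orderOf_eq_one_iff.1 h2)
        · exact hne h2.symm
    rcases (Nat.dvd_prime pq.p_prime).1 hu with rfl | rfl <;>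
      rcases (Nat.dvd_prime pq.m_prime).1 hv with rfl | rfl
    · exact absurd (show Nat.card U ∣ p by rw [huv, mul_one]; exact one_dvd p) (fun h => hprime p pq.p_prime h)
    · exact absurd (show Nat.card U ∣ _ by rw [huv, one_mul]) (fun h => hprime _ pq.m_prime h)
    · exact absurd (show Nat.card U ∣ _ by rw [huv, mul_one]) (fun h => hprime _ pq.p_prime h)
    · rw [huv]
  exact hU ▸ inf_le_left

theorem PQ.le_sup (pq : PQ A a b p m) {c d : Γ} (hc : c ∈ A) (hc1 : c ≠ 1) (hd : d ∈ A)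
    (hdc : d ∉ Subgroup.zpowers c) : A ≤ Subgroup.zpowers c ⊔ Subgroup.zpowers d :=
  pq.gen hc hc1 hd hdc (Subgroup.mem_sup_left (Subgroup.mem_zpowers c))
    (Subgroup.mem_sup_right (Subgroup.mem_zpowers d))

theorem PQ.commutator_ne (pq : PQ A a b p m) {c d : Γ} (hc : c ∈ A) (hc1 : c ≠ 1) (hd : d ∈ A)
    (hdc : d ∉ Subgroup.zpowers c) : c * d * c⁻¹ * d⁻¹ ≠ 1 := by
  intro h
  have hcd : c * d = d * c := by
    calc c * d = (c * d * c⁻¹ * d⁻¹) * (d * c) := by group
      _ = d * c := by rw [h, one_mul]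
  refine pq.not_comm (c := c) (d := d) ?_ (pq.le_sup hc hc1 hd hdc) ?_
  · intro g hg
    exact Subgroup.mem_centralizer_singleton_iff.1 (pq.gen hc hc1 hd hdc
      (W := Subgroup.centralizer ({c} : Set Γ))
      (Subgroup.mem_centralizer_singleton_iff.2 rfl)
      (Subgroup.mem_centralizer_singleton_iff.2 hcd.symm) hg)
  · intro g hg
    exact Subgroup.mem_centralizer_singleton_iff.1 (pq.gen hc hc1 hd hdc
      (W := Subgroup.centralizer ({d} : Set Γ))
      (Subgroup.mem_centralizer_singleton_iff.2 hcd)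
      (Subgroup.mem_centralizer_singleton_iff.2 rfl) hg)

theorem PQ.orderOf_a (pq : PQ A a b p m) : orderOf a = p :=
  ((Nat.dvd_prime pq.p_prime).1 (orderOf_dvd_of_pow_eq_one pq.a_pow)).resolve_left
    fun e => pq.a_ne (orderOf_eq_one_iff.1 e)

theorem PQ.pow_m_mem (pq : PQ A a b p m) {c : Γ} (hc : c ∈ A) : c ^ m ∈ Subgroup.zpowers a := by
  have hn : ((Subgroup.zpowers a).subgroupOf A).Normal :=
    Subgroup.normal_subgroupOf_of_le_normalizer pq.norm
  have hi : ((Subgroup.zpowers a).subgroupOf A).index = m := by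
    have h := ((Subgroup.zpowers a).subgroupOf A).card_mul_index
    rw [Nat.card_congr (Subgroup.subgroupOfEquivOfLe (Subgroup.zpowers_le.2 pq.a_mem)).toEquiv,
      Nat.card_zpowers, pq.orderOf_a, pq.card] at h
    exact Nat.eq_of_mul_eq_mul_left pq.p_prime.pos h
  have h := Subgroup.pow_index_mem ((Subgroup.zpowers a).subgroupOf A) ⟨c, hc⟩
  rwa [hi] at h

theorem PQ.pow_m_eq_one (pq : PQ A a b p m) {c : Γ} (hc : c ∈ A)
    (hca : c ∉ Subgroup.zpowers a) : c ^ m = 1 := by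
  by_cases hc1 : c = 1
  · rw [hc1, one_pow]
  rcases pq.orderOf_cases hc hc1 with h | h
  · exfalso
    apply hca
    have h1 : c ∈ Subgroup.zpowers (c ^ m) := mem_zpowers_pow_iff.2 (by
      rw [h]
      exact ((Nat.coprime_primes pq.m_prime pq.p_prime).2 (Ne.symm pq.ne)))
    exact (Subgroup.zpowers_le.2 (pq.pow_m_mem hc)) h1
  · rw [← h, pow_orderOf_eq_one]

theorem PQ.commutator_mem (pq : PQ A a b p m) {c d : Γ} (hc : c ∈ A) (hd : d ∈ A) :
    c * d * c⁻¹ * d⁻¹ ∈ Subgroup.zpowers a := by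
  by_cases hca : c ∈ Subgroup.zpowers a
  · have h1 := conj_mem (pq.norm hd) (inv_mem hca)
    have := mul_mem hca h1
    simpa [mul_assoc] using this
  · by_cases hdc : d ∈ Subgroup.zpowers c
    · obtain ⟨k, rfl⟩ := Subgroup.mem_zpowers_iff.1 hdc
      rw [← zpow_one_add c k, add_comm, zpow_add, zpow_one, mul_inv_cancel_right, mul_inv_cancel]
      exact one_mem _
    · have hc1 : c ≠ 1 := fun e => hca (e ▸ one_mem _)
      have hdW : d ∈ Subgroup.zpowers c ⊔ Subgroup.zpowers a := by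
        refine pq.gen pq.a_mem pq.a_ne hc hca (W := Subgroup.zpowers c ⊔ Subgroup.zpowers a)
          (Subgroup.mem_sup_right (Subgroup.mem_zpowers a))
          (Subgroup.mem_sup_left (Subgroup.mem_zpowers c)) hd
      rw [← SetLike.mem_coe, Subgroup.coe_mul_of_left_le_normalizer_right] at hdW
      · obtain ⟨x, hx, y, hy, rfl⟩ := hdW
        obtain ⟨k, rfl⟩ := Subgroup.mem_zpowers_iff.1 hx
        have h1 : c * (c ^ k * y) * c⁻¹ * (c ^ k * y)⁻¹ =
            c ^ k * (c * y * c⁻¹ * y⁻¹) * (c ^ k)⁻¹ := by group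
        show c * (c ^ k * y) * c⁻¹ * (c ^ k * y)⁻¹ ∈ Subgroup.zpowers a
        rw [h1]
        exact conj_mem (pq.norm (zpow_mem hc k))
          (mul_mem (conj_mem (pq.norm hc) hy) (inv_mem hy))
      · exact (Subgroup.zpowers_le.2 hc).trans pq.norm

/-- Subgroups of order `m` are self-normalising in `A`. -/
theorem PQ.mem_of_normalizes (pq : PQ A a b p m) {c e : Γ} (hc : c ∈ A)
    (hca : c ∉ Subgroup.zpowers a) (he : e ∈ A)
    (hen : e ∈ Subgroup.normalizer (Subgroup.zpowers c : Set Γ)) : e ∈ Subgroup.zpowers c := by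
  by_contra hec
  have hc1 : c ≠ 1 := fun e => hca (e ▸ one_mem _)
  have hA := pq.gen hc hc1 he hec (W := Subgroup.normalizer (Subgroup.zpowers c : Set Γ))
    (Subgroup.le_normalizer (Subgroup.mem_zpowers c)) hen
  have hac : a ∉ Subgroup.zpowers c := by
    intro h
    have hd := Subgroup.card_dvd_of_le (Subgroup.zpowers_le.2 h)
    rw [Nat.card_zpowers, Nat.card_zpowers, pq.orderOf_a] at hd
    exact pq.ne ((Nat.prime_dvd_prime_iff_eq pq.p_prime pq.m_prime).1
      (hd.trans (orderOf_dvd_of_pow_eq_one (pq.pow_m_eq_one hc hca))))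
  apply pq.commutator_ne hc hc1 pq.a_mem hac
  have h1 : c * a * c⁻¹ * a⁻¹ ∈ Subgroup.zpowers c := by
    have := mul_mem (Subgroup.mem_zpowers c)
      (conj_mem (hA pq.a_mem) (inv_mem (Subgroup.mem_zpowers c)))
    simpa [mul_assoc] using this
  have h2 := pq.commutator_mem hc pq.a_mem
  have hcop : (Nat.card (Subgroup.zpowers c)).Coprime (Nat.card (Subgroup.zpowers a)) := by
    rw [Nat.card_zpowers, Nat.card_zpowers, pq.orderOf_a]
    exact ((Nat.coprime_primes pq.m_prime pq.p_prime).2 (Ne.symm pq.ne)).coprime_dvd_left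
      (orderOf_dvd_of_pow_eq_one (pq.pow_m_eq_one hc hca))
  have h3 : c * a * c⁻¹ * a⁻¹ ∈ Subgroup.zpowers c ⊓ Subgroup.zpowers a := ⟨h1, h2⟩
  rwa [Subgroup.inf_eq_bot_of_coprime hcop, Subgroup.mem_bot] at h3

/-- `⟦c, d⟧` acts trivially on a cyclic section normalised by `c` and `d`. -/
theorem commutator_mem_kerSub {Z X : Subgroup Γ} {q : ℕ} (hZ : ∀ x ∈ Z, ∀ y ∈ Z, x * y = y * x)
    (hXZ : X ≤ Z) (hmax : ∀ Y, X ≤ Y → Y ≤ Z → Y = X ∨ Y = Z)
    (hZq : ∀ x ∈ Z, x ^ q = 1) {c d : Γ} (hcZ : c ∈ Subgroup.normalizer (Z : Set Γ))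
    (hdZ : d ∈ Subgroup.normalizer (Z : Set Γ)) (hcX : c ∈ Subgroup.normalizer (X : Set Γ))
    (hdX : d ∈ Subgroup.normalizer (X : Set Γ)) : c * d * c⁻¹ * d⁻¹ ∈ kerSub Z X := by
  refine ⟨mul_mem (mul_mem (mul_mem hcX hdX) (inv_mem hcX)) (inv_mem hdX), ?_⟩
  set e := c * d * c⁻¹ * d⁻¹ with he
  have heZ : e ∈ Subgroup.normalizer (Z : Set Γ) :=
    mul_mem (mul_mem (mul_mem hcZ hdZ) (inv_mem hcZ)) (inv_mem hdZ)
  have heX : e ∈ Subgroup.normalizer (X : Set Γ) :=
    mul_mem (mul_mem (mul_mem hcX hdX) (inv_mem hcX)) (inv_mem hdX)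
  have hdec : ∀ g ∈ Z, g ∉ X → ∀ z ∈ Z, ∃ x ∈ X, ∃ n : ℤ, z = x * g ^ n := by
    intro g hg hgX z hz
    have h := (hmax (X ⊔ Subgroup.zpowers g) le_sup_left
      (sup_le hXZ (Subgroup.zpowers_le.2 hg))).resolve_left fun h =>
      hgX (h.le (Subgroup.mem_sup_right (Subgroup.mem_zpowers g)))
    have hz' : z ∈ ((X ⊔ Subgroup.zpowers g : Subgroup Γ) : Set Γ) := by rw [h]; exact hz
    rw [Subgroup.coe_mul_of_right_le_normalizer_left] at hz'
    · obtain ⟨x, hx, y, hy, rfl⟩ := hz'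
      obtain ⟨n, rfl⟩ := Subgroup.mem_zpowers_iff.1 hy
      exact ⟨x, hx, n, rfl⟩
    · exact Subgroup.zpowers_le.2 (Subgroup.centralizer_le_normalizer _
        fun x hx => hZ x (hXZ hx) g hg)
  intro z hz
  suffices h : e * z * e⁻¹ * z⁻¹ ∈ X by
    have h1 := inv_mem h
    rwa [show (e * z * e⁻¹ * z⁻¹)⁻¹ = z * e * z⁻¹ * e⁻¹ by group] at h1
  by_cases hzX : z ∈ X
  · exact mul_mem (conj_mem heX hzX) (inv_mem hzX)
  -- `z` is the conjugate by `d * c` of an element `g`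
  set g := (d * c)⁻¹ * z * (d * c) with hg
  have hgZ : g ∈ Z := conj_mem' (mul_mem hdZ hcZ) hz
  have hgX : g ∉ X := fun h => hzX (by
    have := conj_mem (mul_mem hdX hcX) h
    simpa [hg, mul_assoc] using this)
  obtain ⟨x₁, hx₁, i, hi⟩ := hdec g hgZ hgX (c * g * c⁻¹) (conj_mem hcZ hgZ)
  obtain ⟨x₂, hx₂, k, hk⟩ := hdec g hgZ hgX (d * g * d⁻¹) (conj_mem hdZ hgZ)
  have hpow : ∀ (x : Γ), x ∈ X → ∀ n : ℤ, ∀ l : ℤ, (x * g ^ l) ^ n = x ^ n * g ^ (l * n) := by
    intro x hx n l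
    rw [((show Commute x g from hZ x (hXZ hx) g hgZ).zpow_right l).mul_zpow, ← zpow_mul]
  have h1 : c * (d * g * d⁻¹) * c⁻¹ = (c * x₂ * c⁻¹) * (x₁ ^ k * g ^ (i * k)) := by
    rw [hk, ← hpow x₁ hx₁ k i, ← hi, conj_zpow]; group
  have h2 : d * (c * g * c⁻¹) * d⁻¹ = (d * x₁ * d⁻¹) * (x₂ ^ i * g ^ (k * i)) := by
    rw [hi, ← hpow x₂ hx₂ i k, ← hk, conj_zpow]; group
  have h3 : e * z * e⁻¹ = c * (d * g * d⁻¹) * c⁻¹ := by rw [he, hg]; group
  have h4 : z = d * (c * g * c⁻¹) * d⁻¹ := by rw [hg]; group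
  have h5 : e * z * e⁻¹ * z⁻¹ = (c * x₂ * c⁻¹) * x₁ ^ k * ((d * x₁ * d⁻¹) * x₂ ^ i)⁻¹ := by
    rw [h3, h4, h1, h2, mul_comm k i]; group
  rw [h5]
  exact mul_mem (mul_mem (conj_mem hcX hx₂) (X.zpow_mem hx₁ k))
    (inv_mem (mul_mem (conj_mem hdX hx₁) (X.zpow_mem hx₂ i)))

end group

section config

variable {A₀ : Type v} [Group A₀] [Finite A₀] {Γ : Type u} [Group Γ] [Finite Γ]
  {K : Subgroup Γ} {ι : A₀ →* Γ} {V H Q R : Subgroup Γ} {r q s : ℕ} {a b : Γ} {p m : ℕ}

theorem eq_one_of_two (h : Acts K ι) (pq : PQ ι.range a b p m) {x c d : Γ} (hx : x ∈ K)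
    (hc : c ∈ ι.range) (hc1 : c ≠ 1) (hd : d ∈ ι.range) (hdc : d ∉ Subgroup.zpowers c)
    (hcx : c * x = x * c) (hdx : d * x = x * d) : x = 1 := by
  refine h.fpf x hx fun t => ?_
  exact Subgroup.mem_centralizer_singleton_iff.1 (pq.gen hc hc1 hd hdc
    (W := Subgroup.centralizer ({x} : Set Γ)) (Subgroup.mem_centralizer_singleton_iff.2 hcx)
    (Subgroup.mem_centralizer_singleton_iff.2 hdx) ⟨t, rfl⟩)

theorem b_not_mem (pq : PQ ι.range a b p m) : b ∉ Subgroup.zpowers a := by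
  intro hb
  obtain ⟨k, rfl⟩ := Subgroup.mem_zpowers_iff.1 hb
  exact pq.nc (by rw [← zpow_one_add, ← zpow_add_one, add_comm])

theorem cop (h : Acts K ι) {L : Subgroup Γ} (hL : L ≤ K) :
    (Nat.card ι.range).Coprime (Nat.card L) := coprime_of_le_right hL h.coprime_range

theorem cop_zpowers (h : Acts K ι) {c : Γ} (hc : c ∈ ι.range) {L : Subgroup Γ} (hL : L ≤ K) :
    (Nat.card (Subgroup.zpowers c)).Coprime (Nat.card L) :=
  (cop h hL).coprime_dvd_left (Subgroup.card_dvd_of_le (Subgroup.zpowers_le.2 hc))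

/-- Elements of coprime orders fixed by `a` commute. -/
theorem comm_a (h : Acts K ι) (pq : PQ ι.range a b p m) {x y : Γ} (hx : x ∈ K) (hy : y ∈ K)
    (hxy : (orderOf x).Coprime (orderOf y)) (hax : a * x = x * a) (hay : a * y = y * a) :
    x * y = y * x := by
  set L := K ⊓ Subgroup.centralizer ({a} : Set Γ) with hL
  have hinv : ∀ z ∈ L, MulAut.conj b z ∈ L := fun z hz => by
    refine ⟨h.normal.conj_mem z hz.1 b, ?_⟩
    show b * z * b⁻¹ ∈ Subgroup.centralizer ({a} : Set Γ)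
    rw [Subgroup.mem_centralizer_singleton_iff]
    have h1 : ∀ e ∈ Subgroup.zpowers a, Commute z e := fun e he => by
      obtain ⟨k, rfl⟩ := Subgroup.mem_zpowers_iff.1 he
      exact Commute.zpow_right (Subgroup.mem_centralizer_singleton_iff.1 hz.2) k
    have h2 := h1 _ (conj_mem' (pq.norm pq.b_mem) (Subgroup.mem_zpowers a))
    calc b * z * b⁻¹ * a = b * (z * (b⁻¹ * a * b)) * b⁻¹ := by group
      _ = b * ((b⁻¹ * a * b) * z) * b⁻¹ := by rw [h2.eq]
      _ = a * (b * z * b⁻¹) := by group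
  have hnil : Group.IsNilpotent L := by
    refine FrobeniusNilpotent.isNilpotent_of_fpf
      (FrobeniusNilpotent.restrictAut (MulAut.conj b) L hinv) (fun z hz => ?_) m pq.m_prime ?_
    · have hcomm : b * (z : Γ) = z * b := mul_inv_eq_iff_eq_mul.1 (congrArg Subtype.val hz)
      exact Subtype.ext (eq_one_of_two h pq z.2.1 pq.a_mem pq.a_ne pq.b_mem (b_not_mem pq)
        (Subgroup.mem_centralizer_singleton_iff.1 z.2.2).symm hcomm)
    · refine MulEquiv.ext fun z => Subtype.ext ?_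
      rw [FrobeniusNilpotent.restrictAut_pow, ← map_pow, pq.b_pow, map_one]
      rfl
  have h1 := FrobeniusNilpotent.commute_of_coprime (G := L)
    ⟨x, hx, Subgroup.mem_centralizer_singleton_iff.2 hax.symm⟩
    ⟨y, hy, Subgroup.mem_centralizer_singleton_iff.2 hay.symm⟩
    (by rw [← Subgroup.orderOf_coe, ← Subgroup.orderOf_coe]; exact hxy)
  exact congrArg Subtype.val h1

/-- A coset of an `A`-invariant subgroup of `K` fixed by `A` is trivial. -/
theorem mem_of_fixed (h : Acts K ι) {X : Subgroup Γ} (hX : X ≤ K)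
    (hXA : ι.range ≤ Subgroup.normalizer (X : Set Γ)) {g : Γ} (hg : g ∈ K)
    (hfix : ∀ e ∈ ι.range, g⁻¹ * e * g * e⁻¹ ∈ X) : g ∈ X := by
  have := h.solv
  obtain ⟨c, hc, hgc⟩ := exists_fixed_mem_coset hXA (cop h hX)
    (Or.inr (isSolvable_of_le hX)) g hfix
  have hcK : c ∈ K := by
    have := mul_mem hg (hX hgc)
    simpa using this
  have hc1 : c = 1 := h.fpf c hcK fun t => Subgroup.mem_centralizer_iff.1 hc _ ⟨t, rfl⟩
  rw [hc1, mul_one] at hgc
  exact inv_mem_iff.1 hgc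

variable (h : Acts K ι) (hc : Config (fun T _ => Group.IsNilpotent T) K ι V H r)
  (d : QR ι H Q R r q s) (pq : PQ ι.range a b p m)

include h hc d

theorem Q_le_K : Q ≤ K := d.Q_le.trans hc.H_le

theorem R_le_K : R ≤ K := d.R_le.trans hc.H_le

theorem final {X : Subgroup Γ} (hker : R ≤ kerSub Q X) : Q ≤ X := by
  rw [← d.commutator_eq h hc, Subgroup.commutator_le]
  exact fun g hg x hx => (hker hx).2 g hg

theorem commutator_le_kerSub {X : Subgroup Γ} (hRX : R ≤ Subgroup.normalizer (X : Set Γ)) {c : Γ}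
    (hcX : c ∈ kerSub Q X) : ⁅R, Subgroup.zpowers c⁆ ≤ kerSub Q X := by
  rw [Subgroup.commutator_le]
  intro x hx y hy
  have hy' := (Subgroup.zpowers_le.2 hcX) hy
  exact mul_mem (conj_mem_kerSub hy' ((d.R_le.trans d.Q_normal) hx) (hRX hx)) (inv_mem hy')

theorem commutator_R_le : ⁅R, R⁆ ≤ Subgroup.centralizer (Q : Set Γ) := by
  have := h.solv
  refine d.R_min _ (Subgroup.commutator_le_self R) ?_
    (CoprimeTools.le_normalizer_commutator_of_le d.R_inv d.R_inv)
  intro e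
  have : Group.IsSolvable R := isSolvable_of_le (R_le_K h hc d)
  have : Nontrivial R := (Subgroup.nontrivial_iff_ne_bot R).2 fun e' => d.not_le (by
    rw [e']; exact bot_le)
  apply (Group.IsSolvable.commutator_lt_top_of_nontrivial R).ne
  apply Subgroup.map_injective R.subtype_injective
  rw [Subgroup.map_subtype_commutator, e, ← MonoidHom.range_eq_map, Subgroup.range_subtype]

theorem cop_Q_R : (Nat.card R).Coprime (Nat.card Q) :=
  coprime_pgroups d.s_prime d.q_prime (Ne.symm d.ne) d.R_pgroup d.Q_pgroup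

/-- `R` has no fixed points on an abelian quotient of `Q`. -/
theorem mem_of_fixed_R {X : Subgroup Γ} (hX : X ≤ Q) (hQX : ⁅Q, Q⁆ ≤ X)
    (hRX : R ≤ Subgroup.normalizer (X : Set Γ)) {g : Γ} (hg : g ∈ Q)
    (hfix : ∀ x ∈ R, g⁻¹ * x * g * x⁻¹ ∈ X) : g ∈ X := by
  classical
  have hXn : (X.subgroupOf Q).Normal := by
    refine ⟨fun u hu v => ?_⟩
    have h1 : ⁅(v : Γ), (u : Γ)⁆ ∈ X := hQX (Subgroup.commutator_mem_commutator v.2 u.2)
    have h2 := mul_mem h1 hu
    simpa [Subgroup.mem_subgroupOf, commutatorElement_def, mul_assoc] using h2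
  let cg : CommGroup (Q ⧸ X.subgroupOf Q) :=
    { (inferInstance : Group (Q ⧸ X.subgroupOf Q)) with
      mul_comm := fun x y => by
        obtain ⟨x, rfl⟩ := QuotientGroup.mk_surjective x
        obtain ⟨y, rfl⟩ := QuotientGroup.mk_surjective y
        rw [← QuotientGroup.mk_mul, ← QuotientGroup.mk_mul, QuotientGroup.eq]
        have h2 := hQX (Subgroup.commutator_mem_commutator (inv_mem y.2) (inv_mem x.2))
        rw [Subgroup.mem_subgroupOf]
        simpa [commutatorElement_def, mul_assoc] using h2 }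
  have := Fintype.ofFinite R
  let φ := quotAct Q X
  let rn : R → ↥(Subgroup.normalizer (Q : Set Γ) ⊓ Subgroup.normalizer (X : Set Γ)) :=
    fun x => ⟨x, (d.R_le.trans d.Q_normal) x.2, hRX x.2⟩
  let N : (Q ⧸ X.subgroupOf Q) →* (Q ⧸ X.subgroupOf Q) := ∏ x : R, (φ (rn x)).toMonoidHom
  have hN : ∀ v, N v = ∏ x : R, φ (rn x) v := fun v => MonoidHom.finsetProd_apply _ _ _
  have hNinv : ∀ (y : R) v, N (φ (rn y) v) = N v := by
    intro y v
    rw [hN, hN]
    refine Fintype.prod_equiv (Equiv.mulRight y) _ _ fun x => ?_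
    rw [← MulAut.mul_apply, ← map_mul]
    rfl
  let S : Subgroup Γ := ((N.comp (QuotientGroup.mk' (X.subgroupOf Q))).ker).map Q.subtype
  have hQS : Q ≤ S := by
    conv_lhs => rw [← d.commutator_eq h hc]
    rw [Subgroup.commutator_le]
    intro u hu x hx
    have hm : ⁅u, x⁆ ∈ Q := CoprimeAction.commutator_le_self_of_le_normalizer
      (d.R_le.trans d.Q_normal) (Subgroup.commutator_mem_commutator hu hx)
    refine ⟨⟨_, hm⟩, ?_, rfl⟩
    have hconj : x * u * x⁻¹ ∈ Q := conj_mem ((d.R_le.trans d.Q_normal) hx) hu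
    have e : (⟨⁅u, x⁆, hm⟩ : Q) = ⟨u, hu⟩ * (⟨_, hconj⟩ : Q)⁻¹ :=
      Subtype.ext (by simp [commutatorElement_def, mul_assoc])
    rw [SetLike.mem_coe, MonoidHom.mem_ker, MonoidHom.comp_apply, e, map_mul, map_inv, map_mul,
      map_inv, mul_inv_eq_one]
    exact (hNinv ⟨x, hx⟩ _).symm
  have h1 : N (QuotientGroup.mk ⟨g, hg⟩) = 1 := by
    obtain ⟨u, hu, hug⟩ := hQS hg
    rw [show (⟨g, hg⟩ : Q) = u from Subtype.ext hug.symm]
    exact hu
  have h2 : N (QuotientGroup.mk ⟨g, hg⟩) =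
      (QuotientGroup.mk ⟨g, hg⟩ : Q ⧸ X.subgroupOf Q) ^ Nat.card R := by
    rw [hN, Nat.card_eq_fintype_card, ← Finset.card_univ, ← Finset.prod_const]
    refine Finset.prod_congr rfl fun x _ => ?_
    rw [quotAct_mk Q X (rn x) _ (conj_mem ((d.R_le.trans d.Q_normal) x.2) hg), eq_comm,
      QuotientGroup.eq, Subgroup.mem_subgroupOf]
    show g⁻¹ * ((x : Γ) * g * (x : Γ)⁻¹) ∈ X
    simpa [mul_assoc] using hfix x x.2
  rw [h1] at h2
  have h3 : (QuotientGroup.mk ⟨g, hg⟩ : Q ⧸ X.subgroupOf Q) = 1 := orderOf_eq_one_iff.1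
    (Nat.eq_one_of_dvd_coprimes ((cop_Q_R h hc d).coprime_dvd_right
      (Subgroup.card_quotient_dvd_card _)) (orderOf_dvd_of_pow_eq_one h2.symm)
      (orderOf_dvd_natCard _))
  exact (QuotientGroup.eq_one_iff (N := X.subgroupOf Q) _).1 h3

include pq

/-- No nontrivial `R`-invariant quotient of `Q` is centralised by `a`. -/
theorem le_of_a_mem_kerSub {X : Subgroup Γ} (hX : X ≤ Q) (hQX : ⁅Q, Q⁆ ≤ X)
    (hRX : R ≤ Subgroup.normalizer (X : Set Γ)) (haX : a ∈ kerSub Q X) : Q ≤ X := by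
  have := h.solv
  have hRs : Group.IsSolvable R := isSolvable_of_le (R_le_K h hc d)
  have hz : Subgroup.zpowers a ≤ ι.range := Subgroup.zpowers_le.2 pq.a_mem
  by_cases he : ⁅R, Subgroup.zpowers a⁆ = R
  · exact final h hc d (he ▸ commutator_le_kerSub h hc d hRX haX)
  have h1 := d.R_min _ (commutator_le_self_of_le_normalizer (hz.trans d.R_inv)) he
    (CoprimeTools.le_normalizer_commutator_of_le d.R_inv pq.norm)
  have hCR : R ≤ Subgroup.centralizer (Subgroup.zpowers a : Set Γ) := by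
    by_contra hne
    apply d.not_le
    rw [← commutator_sup_centralizer_eq (hz.trans d.R_inv)
      (cop_zpowers h pq.a_mem (R_le_K h hc d)) (Or.inr hRs)]
    refine sup_le h1 (d.R_min _ inf_le_left (fun e => hne (inf_eq_left.1 e)) ?_)
    exact le_normalizer_inf d.R_inv (CoprimeTools.le_normalizer_centralizer_of_le pq.norm)
  refine final h hc d fun x hx => ⟨hRX hx, fun g hg => ?_⟩
  have hgX : g⁻¹ * a * g * a⁻¹ ∈ X := by
    have := haX.2 g⁻¹ (inv_mem hg)
    simpa using this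
  obtain ⟨c, hca, hgc⟩ := exists_fixed_mem_coset_zpowers (a := a) (D := X) haX.1
    (by
      rw [← Nat.card_zpowers]
      exact cop_zpowers h pq.a_mem (hX.trans (Q_le_K h hc d))) g hgX
  have hcQ : c ∈ Q := by
    have := mul_mem hg (hX hgc)
    simpa using this
  have hxa : a * x = x * a := (Subgroup.mem_centralizer_iff.1 (hCR hx) a (Subgroup.mem_zpowers a))
  have hcx : c * x = x * c := comm_a h pq (Q_le_K h hc d hcQ) (R_le_K h hc d hx)
    (Nat.Coprime.of_dvd (Subgroup.orderOf_dvd_natCard Q hcQ) (Subgroup.orderOf_dvd_natCard R hx)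
      (cop_Q_R h hc d).symm) hca hxa
  have hyX : c * g⁻¹ ∈ X := by
    have := mul_mem (hQX (Subgroup.commutator_mem_commutator hcQ (inv_mem hg))) hgc
    rwa [show ⁅c, g⁻¹⁆ * (g⁻¹ * c) = c * g⁻¹ by simp [commutatorElement_def, mul_assoc]] at this
  have h3 : g * x * g⁻¹ * x⁻¹ = (c * g⁻¹)⁻¹ * (x * (c * g⁻¹) * x⁻¹) := by
    calc g * x * g⁻¹ * x⁻¹ = (c * g⁻¹)⁻¹ * (c * x * c⁻¹ * x⁻¹) * (x * (c * g⁻¹) * x⁻¹) := by group
      _ = _ := by rw [hcx, mul_inv_cancel_right, mul_inv_cancel, mul_one]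
  rw [h3]
  exact mul_mem (inv_mem hyX) (conj_mem (hRX hx) hyX)

omit h hc pq d in
theorem mem_normalizer_of_conj {X : Subgroup Γ} {c : Γ} (hX : ∀ y ∈ X, c * y * c⁻¹ ∈ X) :
    c ∈ Subgroup.normalizer (X : Set Γ) := by
  refine mem_normalizer_of_conj_smul_eq (Subgroup.eq_of_le_of_card_ge ?_
    (CoprimeSZ.card_conj_smul _ _).ge)
  rintro _ ⟨y, hy, rfl⟩
  exact hX y hy

omit h hc pq d in
theorem mem_kerSub_of_commutator_le {X S : Subgroup Γ} {c : Γ}
    (hcS : ⁅S, Subgroup.zpowers c⁆ ≤ X) (hXS : X ≤ S) : c ∈ kerSub S X := by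
  have h1 : ∀ g ∈ S, g * c * g⁻¹ * c⁻¹ ∈ X := fun g hg =>
    hcS (Subgroup.commutator_mem_commutator hg (Subgroup.mem_zpowers c))
  refine ⟨mem_normalizer_of_conj fun y hy => ?_, h1⟩
  have h2 := mul_mem (inv_mem (h1 y (hXS hy))) hy
  simpa [mul_assoc] using h2

/-- Elements of `Q` fixed by some `c` of order `m` and by `⁅R, c⁆` lie in `Q'`. -/
theorem mem_commutator_of_fixed {c g : Γ} (hcA : c ∈ ι.range) (hca : c ∉ Subgroup.zpowers a)
    (hg : g ∈ Q) (hcg : c * g = g * c)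
    (hMg : ∀ e ∈ ⁅R, Subgroup.zpowers c⁆, e * g = g * e) : g ∈ ⁅Q, Q⁆ := by
  have := h.solv
  set X0 := ⁅Q, Q⁆ with hX0
  have hX0Q : X0 ≤ Q := Subgroup.commutator_le_self Q
  have hXn : (X0.subgroupOf Q).Normal := Subgroup.normal_subgroupOf_of_le_normalizer
    (Subgroup.normalizer_commutator_ge_right Q Q)
  let cg : CommGroup (Q ⧸ X0.subgroupOf Q) :=
    { (inferInstance : Group (Q ⧸ X0.subgroupOf Q)) with
      mul_comm := fun x y => by
        obtain ⟨x, rfl⟩ := QuotientGroup.mk_surjective x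
        obtain ⟨y, rfl⟩ := QuotientGroup.mk_surjective y
        rw [← QuotientGroup.mk_mul, ← QuotientGroup.mk_mul, QuotientGroup.eq]
        have h2 := Subgroup.commutator_mem_commutator (inv_mem y.2) (inv_mem x.2)
        rw [Subgroup.mem_subgroupOf]
        simpa [hX0, commutatorElement_def, mul_assoc] using h2 }
  set L := Subgroup.normalizer (Q : Set Γ) ⊓ Subgroup.normalizer (X0 : Set Γ) with hL
  have hRQ := d.R_le.trans d.Q_normal
  have hAL : ι.range ≤ L :=
    le_inf d.Q_inv (CoprimeTools.le_normalizer_commutator_of_le d.Q_inv d.Q_inv)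
  have hRL : R ≤ L := le_inf hRQ (CoprimeTools.le_normalizer_commutator_of_le hRQ hRQ)
  set M := ⁅R, Subgroup.zpowers c⁆ with hM
  have hcR : Subgroup.zpowers c ≤ Subgroup.normalizer (R : Set Γ) :=
    Subgroup.zpowers_le.2 (d.R_inv hcA)
  have hMR : M ≤ R := commutator_le_self_of_le_normalizer hcR
  let φ := quotAct Q X0
  have hmk : ∀ (x : L) (u : Γ) (hu : u ∈ Q), φ x (QuotientGroup.mk ⟨u, hu⟩) =
      QuotientGroup.mk ⟨(x : Γ) * u * (x : Γ)⁻¹, conj_mem x.2.1 hu⟩ := fun x u hu =>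
    quotAct_mk Q X0 x _ (conj_mem x.2.1 hu)
  have hfixiff : ∀ (x : L) (u : Γ) (hu : u ∈ Q),
      φ x (QuotientGroup.mk ⟨u, hu⟩) = QuotientGroup.mk ⟨u, hu⟩ →
        u⁻¹ * x * u * (x : Γ)⁻¹ ∈ X0 := by
    intro x u hu hx
    rw [hmk, eq_comm, QuotientGroup.eq, Subgroup.mem_subgroupOf] at hx
    simpa [mul_assoc] using hx
  have hw := orbit_eq_one φ (A := ι.range.subgroupOf L) (Z := R.subgroupOf L)
    (X := M.subgroupOf L) (w := QuotientGroup.mk ⟨g, hg⟩) (fun x hx => hMR hx) ?_ ?_ ?_ ?_ ?_ ?_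
    ?_ ?_
  · exact (QuotientGroup.eq_one_iff (N := X0.subgroupOf Q) _).1 hw
  · intro x hx y hy
    refine MulEquiv.ext fun v => ?_
    obtain ⟨⟨u, hu⟩, rfl⟩ := QuotientGroup.mk_surjective v
    rw [hmk, hmk]
    congr 1
    refine Subtype.ext ?_
    show (x : Γ) * y * u * ((x : Γ) * y)⁻¹ = (y : Γ) * x * u * ((y : Γ) * x)⁻¹
    have h1 : ⁅((x : Γ)), (y : Γ)⁆ ∈ Subgroup.centralizer (Q : Set Γ) :=
      commutator_R_le h hc d (Subgroup.commutator_mem_commutator hx hy)
    have h2 := h1 ((y : Γ) * x * u * ((y : Γ) * x)⁻¹) (conj_mem (mul_mem (hRQ hy) (hRQ hx)) hu)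
    calc (x : Γ) * y * u * ((x : Γ) * y)⁻¹ =
          ⁅(x : Γ), (y : Γ)⁆ * ((y : Γ) * x * u * ((y : Γ) * x)⁻¹) * ⁅(x : Γ), (y : Γ)⁆⁻¹ := by
          simp [commutatorElement_def, mul_assoc]
      _ = _ := by rw [← h2, mul_inv_cancel_right]
  · intro x hx
    refine mem_normalizer_of_conj fun y hy => ?_
    rw [Subgroup.mem_subgroupOf] at hy ⊢
    exact conj_mem (d.R_inv hx) hy
  · intro v hv
    obtain ⟨⟨u, hu⟩, rfl⟩ := QuotientGroup.mk_surjective v
    rw [QuotientGroup.eq_one_iff, Subgroup.mem_subgroupOf]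
    exact mem_of_fixed h (hX0Q.trans (Q_le_K h hc d)) (hAL.trans inf_le_right) (Q_le_K h hc d hu)
      fun e he => hfixiff ⟨e, hAL he⟩ u hu (hv _ he)
  · intro v hv
    obtain ⟨⟨u, hu⟩, rfl⟩ := QuotientGroup.mk_surjective v
    rw [QuotientGroup.eq_one_iff, Subgroup.mem_subgroupOf]
    exact mem_of_fixed_R h hc d hX0Q le_rfl (hRL.trans inf_le_right) hu
      fun e he => hfixiff ⟨e, hRL he⟩ u hu (hv _ he)
  · rw [Nat.card_congr (Subgroup.subgroupOfEquivOfLe hAL).toEquiv]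
    exact (cop h (Q_le_K h hc d)).coprime_dvd_right (Subgroup.card_quotient_dvd_card _)
  · rw [Nat.card_congr (Subgroup.subgroupOfEquivOfLe (hMR.trans hRL)).toEquiv]
    exact ((cop_Q_R h hc d).coprime_dvd_left (Subgroup.card_dvd_of_le hMR)).coprime_dvd_right
      (Subgroup.card_quotient_dvd_card _)
  · intro x hx
    rw [hmk]
    congr 1
    exact Subtype.ext (mul_inv_eq_iff_eq_mul.2 (hMg _ hx))
  · intro x hx
    by_cases hxc : (x : Γ) ∈ Subgroup.zpowers c
    · refine Or.inl ?_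
      rw [hmk]
      congr 1
      refine Subtype.ext (mul_inv_eq_iff_eq_mul.2 ?_)
      exact Subgroup.mem_centralizer_singleton_iff.1 ((Subgroup.zpowers_le.2
        (Subgroup.mem_centralizer_singleton_iff.2 hcg : c ∈ Subgroup.centralizer ({g} : Set Γ)))
        hxc)
    refine Or.inr ?_
    set M' := M ⊔ MulAut.conj (x : Γ) • M with hM'
    have hxA : (x : Γ) ∈ ι.range := hx
    have hconjM : MulAut.conj (x : Γ) • M = ⁅R, Subgroup.zpowers ((x : Γ) * c * (x : Γ)⁻¹)⁆ := by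
      rw [CoprimeSZ.conj_smul_eq_map, hM, Subgroup.map_commutator, ← CoprimeSZ.conj_smul_eq_map,
        CoprimeSZ.conj_smul_eq_self (d.R_inv hxA), MonoidHom.map_zpowers]
      rfl
    have hxR : MulAut.conj (x : Γ) • M ≤ R := by
      rw [← CoprimeSZ.conj_smul_eq_self (d.R_inv hxA)]
      exact Subgroup.pointwise_smul_le_pointwise_smul_iff.2 hMR
    have hc1 : c ≠ 1 := fun e => hca (e ▸ one_mem _)
    have hc'A : (x : Γ) * c * (x : Γ)⁻¹ ∈ ι.range := mul_mem (mul_mem hxA hcA) (inv_mem hxA)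
    have hnot : (x : Γ) * c * (x : Γ)⁻¹ ∉ Subgroup.zpowers c := by
      intro hmem
      refine hxc (pq.mem_of_normalizes hcA hca hxA (mem_normalizer_of_conj fun y hy => ?_))
      obtain ⟨n, rfl⟩ := Subgroup.mem_zpowers_iff.1 hy
      rw [← conj_zpow]
      exact Subgroup.zpow_mem _ hmem n
    have hA : ι.range ≤ kerSub R M' := pq.gen hcA hc1 hc'A hnot
      (mem_kerSub_of_commutator_le le_sup_left (sup_le hMR hxR))
      (mem_kerSub_of_commutator_le (by rw [← hconjM]; exact le_sup_right) (sup_le hMR hxR))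
    have hRM : R ≤ M' := fun u hu => mem_of_fixed h ((sup_le hMR hxR).trans (R_le_K h hc d))
      (fun e he => (hA he).1) (R_le_K h hc d hu) fun e he => by
        have := (hA he).2 u⁻¹ (inv_mem hu)
        simpa using this
    rw [← Subgroup.map_le_map_iff_of_injective L.subtype_injective, Subgroup.map_sup,
      CoprimeSZ.map_conj_smul, Subgroup.map_subgroupOf_eq_of_le hRL,
      Subgroup.map_subgroupOf_eq_of_le (hMR.trans hRL)]
    exact hRM

/-- Coset representatives fixed by `c` and `⁅R, c⁆`. -/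
theorem exists_lift {X : Subgroup Γ} (hX : X ≤ Q) {c g : Γ} (hcA : c ∈ ι.range) (hg : g ∈ Q)
    (hcX : c ∈ Subgroup.normalizer (X : Set Γ))
    (hMX : ⁅R, Subgroup.zpowers c⁆ ≤ Subgroup.normalizer (X : Set Γ))
    (hgc : g⁻¹ * c * g * c⁻¹ ∈ X)
    (hgM : ∀ e ∈ ⁅R, Subgroup.zpowers c⁆, g⁻¹ * e * g * e⁻¹ ∈ X) :
    ∃ g' ∈ Q, g⁻¹ * g' ∈ X ∧ c * g' = g' * c ∧
      ∀ e ∈ ⁅R, Subgroup.zpowers c⁆, e * g' = g' * e := by
  have := h.solv
  set M := ⁅R, Subgroup.zpowers c⁆ with hM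
  have hMR : M ≤ R :=
    commutator_le_self_of_le_normalizer (Subgroup.zpowers_le.2 (d.R_inv hcA))
  have hXK := hX.trans (Q_le_K h hc d)
  obtain ⟨c₁, hc₁, hgc₁⟩ := exists_fixed_mem_coset (A := M) (D := X) hMX
    (((cop_Q_R h hc d).coprime_dvd_left (Subgroup.card_dvd_of_le hMR)).coprime_dvd_right
      (Subgroup.card_dvd_of_le hX)) (Or.inr (isSolvable_of_le hXK)) g hgM
  have hcM : c ∈ Subgroup.normalizer (M : Set Γ) :=
    CoprimeTools.le_normalizer_commutator_of_le (Subgroup.zpowers_le.2 (d.R_inv hcA))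
      Subgroup.le_normalizer (Subgroup.mem_zpowers c)
  have hcC : c ∈ Subgroup.normalizer (Subgroup.centralizer (M : Set Γ) : Set Γ) :=
    CoprimeTools.le_normalizer_centralizer_of_le (Subgroup.zpowers_le.2 hcM)
      (Subgroup.mem_zpowers c)
  have hcD : c ∈ Subgroup.normalizer ((X ⊓ Subgroup.centralizer (M : Set Γ) : Subgroup Γ) : Set Γ) :=
    mem_normalizer_of_conj fun y hy => ⟨conj_mem hcX hy.1, conj_mem hcC hy.2⟩
  have hfix : c₁⁻¹ * c * c₁ * c⁻¹ ∈ X ⊓ Subgroup.centralizer (M : Set Γ) := by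
    refine ⟨?_, ?_⟩
    · show _ ∈ X
      have e : c₁⁻¹ * c * c₁ * c⁻¹ = (g⁻¹ * c₁)⁻¹ * (g⁻¹ * c * g * c⁻¹) *
          (c * (g⁻¹ * c₁) * c⁻¹) := by group
      rw [e]
      exact mul_mem (mul_mem (inv_mem hgc₁) hgc) (conj_mem hcX hgc₁)
    · show _ ∈ Subgroup.centralizer (M : Set Γ)
      have := (Subgroup.centralizer (M : Set Γ)).mul_mem
        ((Subgroup.centralizer (M : Set Γ)).inv_mem hc₁) (conj_mem hcC hc₁)
      simpa [mul_assoc] using this
  obtain ⟨g', hcg', hc₁g'⟩ := exists_fixed_mem_coset_zpowers hcD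
    (by rw [← Nat.card_zpowers]; exact cop_zpowers h hcA (inf_le_left.trans hXK)) c₁ hfix
  have hgg' : g⁻¹ * g' ∈ X := by
    have := mul_mem hgc₁ hc₁g'.1
    simpa [mul_assoc] using this
  refine ⟨g', ?_, hgg', hcg', fun e he => ?_⟩
  · have := mul_mem hg (hX hgg')
    simpa using this
  · have h1 : g' ∈ Subgroup.centralizer (M : Set Γ) := by
      have := mul_mem hc₁ hc₁g'.2
      simpa using this
    exact h1 e he

/-- No nontrivial `R`-invariant abelian quotient of `Q` is centralised by an element of order `m`. -/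
theorem le_of_mem_kerSub {X : Subgroup Γ} (hX : X ≤ Q) (hQX : ⁅Q, Q⁆ ≤ X)
    (hRX : R ≤ Subgroup.normalizer (X : Set Γ)) {c : Γ} (hcA : c ∈ ι.range) (hc1 : c ≠ 1)
    (hcX : c ∈ kerSub Q X) : Q ≤ X := by
  by_cases hca : c ∈ Subgroup.zpowers a
  · refine le_of_a_mem_kerSub h hc d pq hX hQX hRX ((Subgroup.zpowers_le.2 hcX) ?_)
    obtain ⟨k, hk⟩ := Subgroup.mem_zpowers_iff.1 hca
    have hnd : ¬ (p : ℤ) ∣ k := fun hd => hc1 (by rw [← hk, zpow_eq_one_of_dvd pq.a_pow hd])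
    exact mem_of_zpow_mem pq.p_prime pq.a_pow hnd (hk.symm ▸ Subgroup.mem_zpowers c)
  intro g hg
  have hMker := commutator_le_kerSub h hc d hRX hcX
  have hk : ∀ e ∈ kerSub Q X, g⁻¹ * e * g * e⁻¹ ∈ X := fun e he => by
    have := he.2 g⁻¹ (inv_mem hg)
    simpa using this
  obtain ⟨g', hg', hgg', hcg', hMg'⟩ := exists_lift h hc d pq hX hcA hg hcX.1
    (fun e he => (hMker he).1) (hk c hcX) fun e he => hk e (hMker he)
  have := mul_mem (hQX (mem_commutator_of_fixed h hc d pq hcA hca hg' hcg' hMg')) (inv_mem hgg')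
  simpa using this

/-- For a hyperplane with fixed points, exactly one subgroup of prime order of `A` acts trivially
modulo it. -/
theorem hyper {Z X : Subgroup Γ} (hZQ : Z ≤ Q) (hZc : ∀ x ∈ Z, ∀ y ∈ Z, x * y = y * x)
    (hZq : ∀ x ∈ Z, x ^ q = 1) (hAZ : ι.range ≤ Subgroup.normalizer (Z : Set Γ))
    (hCV : V ⊓ Subgroup.centralizer (Z : Set Γ) = ⊥) (hXZ : X ≤ Z) (hXne : X ≠ Z)
    (hmax : ∀ Y, X ≤ Y → Y ≤ Z → Y = X ∨ Y = Z)
    (hW : V ⊓ Subgroup.centralizer (X : Set Γ) ≠ ⊥) :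
    ¬ ι.range ≤ kerSub Z X ∧ ∃ c ∈ ι.range, c ≠ 1 ∧ c ∈ kerSub Z X := by
  classical
  have := hc.V_normal
  have hZK := hZQ.trans (Q_le_K h hc d)
  refine ⟨fun hA => hXne (le_antisymm hXZ fun g hg => mem_of_fixed h (hXZ.trans hZK)
    (fun e he => (hA he).1) (hZK hg) fun e he => by
      have := (hA he).2 g⁻¹ (inv_mem hg)
      simpa using this), ?_⟩
  by_contra hno
  push Not at hno
  have hVQ : (Nat.card Q).Coprime (Nat.card V) :=
    coprime_pgroups d.q_prime hc.prime d.q_ne d.Q_pgroup hc.V_pgroup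
  -- the stabiliser of `X`
  set St := ι.range ⊓ Subgroup.normalizer (X : Set Γ) with hSt
  obtain ⟨w, hwV, hwX, hw1, hws⟩ : ∃ w ∈ V, w ∈ Subgroup.centralizer (X : Set Γ) ∧ w ≠ 1 ∧
      ∀ e ∈ St, e * w = w * e := by
    by_cases hS : St = ⊥
    · obtain ⟨w, hw, hw1⟩ := ((V ⊓ Subgroup.centralizer (X : Set Γ)).bot_or_exists_ne_one
        ).resolve_left hW
      exact ⟨w, hw.1, hw.2, hw1, fun e he => by
        rw [hS, Subgroup.mem_bot] at he
        rw [he, one_mul, mul_one]⟩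
    obtain ⟨c, hcS, hc1⟩ := (St.bot_or_exists_ne_one).resolve_left hS
    have hStc : ∀ e ∈ St, e ∈ Subgroup.zpowers c := by
      intro e he
      by_contra hec
      exact hno _ (mul_mem (mul_mem (mul_mem hcS.1 he.1) (inv_mem hcS.1)) (inv_mem he.1))
        (pq.commutator_ne hcS.1 hc1 he.1 hec)
        (commutator_mem_kerSub hZc hXZ hmax hZq (hAZ hcS.1) (hAZ he.1) hcS.2 he.2)
    set W := V ⊓ Subgroup.centralizer (X : Set Γ) with hWdef
    have hcW : c ∈ Subgroup.normalizer (W : Set Γ) := mem_normalizer_of_conj fun y hy =>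
      ⟨hc.V_normal.conj_mem y hy.1 c, conj_mem (CoprimeTools.le_normalizer_centralizer_of_le
        (Subgroup.zpowers_le.2 hcS.2) (Subgroup.mem_zpowers c)) hy.2⟩
    have hZW : Z ≤ Subgroup.normalizer (W : Set Γ) := fun z hz => mem_normalizer_of_conj
      fun y hy => ⟨hc.V_normal.conj_mem y hy.1 z, fun x hx => by
        have h1 := hy.2 x hx
        have h2 := hZc x (hXZ hx) z hz
        have h3 : Commute x z := h2
        exact ((h3.mul_right (show Commute x y from h1)).mul_right h3.inv_right).eq⟩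
    obtain ⟨v, hv, hv1⟩ : ∃ v ∈ W, c * v = v * c ∧ v ≠ 1 := by
      by_contra hall
      push Not at hall
      refine hW (le_bot_iff.1 ?_)
      refine le_trans ?_ (le_of_translates (U := ⊥) (V := W) (pq.prime_order hcS.1 hc1)
        (pow_orderOf_eq_one c) (fun x hx y hy => hc.V_comm x hx.1 y hy.1) hZc hXZ hmax hZW hcW
        (hAZ hcS.1) ((hVQ.coprime_dvd_left (Subgroup.card_dvd_of_le hZQ)).coprime_dvd_right
          (Subgroup.card_dvd_of_le inf_le_left))
        (eq_bot_iff.2 ((inf_le_inf_right _ inf_le_left).trans hCV.le))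
        (hno c hcS.1 hc1) fun z hz v hv hcv => by
          rw [hall v hv hcv, mul_one, mul_inv_cancel]; exact one_mem _)
      exact le_inf le_rfl inf_le_right
    refine ⟨v, hv.1, hv.2, hv1.2, fun e he => ?_⟩
    exact Subgroup.mem_centralizer_singleton_iff.1 ((Subgroup.zpowers_le.2
      (Subgroup.mem_centralizer_singleton_iff.2 hv1.1 : c ∈ Subgroup.centralizer ({v} : Set Γ)))
      (hStc e he))
  let _ : CommGroup V := { (inferInstance : Group V) with
    mul_comm := fun x y => Subtype.ext (hc.V_comm x x.2 y y.2) }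
  have hfx : ∀ (g : Γ) (v : V), MulAut.conjNormal g v = v ↔ g * v = v * g := fun g v => by
    rw [Subtype.ext_iff, MulAut.conjNormal_apply, mul_inv_eq_iff_eq_mul]
  refine hw1 (congrArg Subtype.val (orbit_eq_one (MulAut.conjNormal : Γ →* MulAut V)
    (A := ι.range) (w := (⟨w, hwV⟩ : V)) hXZ (fun x hx y hy => by rw [hZc x hx y hy]) hAZ
    (fun v hv => Subtype.ext (h.fpf v (hc.V_le v.2) fun t => (hfx _ v).1 (hv _ ⟨t, rfl⟩)))
    (fun v hv => Subtype.ext ?_) (cop h hc.V_le)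
    ((hVQ.coprime_dvd_left (Subgroup.card_dvd_of_le (hXZ.trans hZQ))))
    (fun x hx => (hfx x _).2 (hwX x hx)) fun e he => ?_))
  · have : (v : Γ) ∈ V ⊓ Subgroup.centralizer (Z : Set Γ) :=
      ⟨v.2, fun z hz => (hfx z v).1 (hv z hz)⟩
    rwa [hCV, Subgroup.mem_bot] at this
  · by_cases hes : e ∈ Subgroup.normalizer (X : Set Γ)
    · exact Or.inl ((hfx e _).2 (hws e ⟨he, hes⟩))
    refine Or.inr ((hmax _ le_sup_left (sup_le hXZ ?_)).resolve_left fun e' => hes ?_).ge
    · rw [← CoprimeSZ.conj_smul_eq_self (hAZ he)]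
      exact Subgroup.pointwise_smul_le_pointwise_smul_iff.2 hXZ
    · exact mem_normalizer_of_conj_smul_eq (Subgroup.eq_of_le_of_card_ge (sup_eq_left.1 e')
        (CoprimeSZ.card_conj_smul _ _).ge)

omit pq in
/-- `C_V(Z) = 1` for normalised subgroups `Z` of `Q`. -/
theorem inf_centralizer_eq_bot {Z : Subgroup Γ} (hZQ : Z ≤ Q) (hZne : Z ≠ ⊥)
    (hQZ : Q ≤ Subgroup.normalizer (Z : Set Γ)) (hRZ : R ≤ Subgroup.normalizer (Z : Set Γ))
    (hAZ : ι.range ≤ Subgroup.normalizer (Z : Set Γ)) :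
    V ⊓ Subgroup.centralizer (Z : Set Γ) = ⊥ := by
  have := hc.V_normal
  have hHZ : H ≤ Subgroup.normalizer (Z : Set Γ) := d.span ▸ sup_le hQZ hRZ
  refine (hc.V_min _ inf_le_left
    (le_normalizer_inf (le_normalizer_of_normal V H)
      (CoprimeTools.le_normalizer_centralizer_of_le hHZ))
    (le_normalizer_inf (le_normalizer_of_normal V _)
      (CoprimeTools.le_normalizer_centralizer_of_le hAZ))).resolve_right fun e => hZne ?_
  rw [eq_bot_iff, ← hc.faithful]
  exact le_inf (hZQ.trans d.Q_le) fun z hz v hv =>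
    (((le_of_eq e.symm).trans inf_le_right) hv z hz).symm

omit pq in
theorem Q_ne_bot : Q ≠ ⊥ := fun e => d.not_le fun x _ => Subgroup.mem_centralizer_iff.2 fun y hy => by
  rw [e] at hy
  rw [Subgroup.mem_bot.1 hy, one_mul, mul_one]

omit pq in
theorem commutator_Q_ne : ⁅Q, Q⁆ ≠ Q := by
  intro e
  have := h.solv
  have : Group.IsSolvable Q := isSolvable_of_le (Q_le_K h hc d)
  have : Nontrivial Q := (Subgroup.nontrivial_iff_ne_bot Q).2 (Q_ne_bot h hc d)
  apply (Group.IsSolvable.commutator_lt_top_of_nontrivial Q).ne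
  apply Subgroup.map_injective Q.subtype_injective
  rw [Subgroup.map_subtype_commutator, e, ← MonoidHom.range_eq_map, Subgroup.range_subtype]

omit pq in
/-- `Q / Q'` is elementary abelian. -/
theorem pow_mem_commutator {g : Γ} (hg : g ∈ Q) : g ^ q ∈ ⁅Q, Q⁆ := by
  have := Fact.mk d.q_prime
  let Q₁ : Subgroup Γ := (((powMonoidHom q : Abelianization Q →* Abelianization Q).range).comap
    Abelianization.of).map Q.subtype
  have hinv : ∀ S ≤ Subgroup.normalizer (Q : Set Γ), S ≤ Subgroup.normalizer (Q₁ : Set Γ) := by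
    intro S hS x hx
    refine mem_normalizer_of_conj ?_
    rintro _ ⟨u, hu, rfl⟩
    obtain ⟨v, hv⟩ := hu
    let σ : Q →* Q := (Subgroup.normalizerMonoidHom Q ⟨x, hS hx⟩).toMonoidHom
    refine ⟨σ u, ⟨Abelianization.map σ v, ?_⟩, rfl⟩
    show (Abelianization.map σ v) ^ q = Abelianization.of (σ u)
    rw [← map_pow]
    exact (congrArg (Abelianization.map σ) hv).trans (Abelianization.map_of σ u)
  have hQ₁ : Q₁ ≠ Q := by
    intro e
    have hsurj : Function.Surjective (powMonoidHom q : Abelianization Q →* Abelianization Q) := by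
      intro y
      obtain ⟨u, rfl⟩ := QuotientGroup.mk_surjective y
      obtain ⟨u', hu', huu⟩ := (e.symm.le u.2 : (u : Γ) ∈ Q₁)
      rw [show u' = u from Subtype.ext huu] at hu'
      exact hu'
    obtain ⟨u, hu, hu'⟩ := SetLike.exists_of_lt
      (lt_of_le_of_ne (Subgroup.commutator_le_self Q) (commutator_Q_ne h hc d))
    have hne : Abelianization.of (⟨u, hu⟩ : Q) ≠ 1 := fun h1 => hu' (by
      have h2 : (⟨u, hu⟩ : Q) ∈ commutator Q := (QuotientGroup.eq_one_iff _).1 h1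
      rw [← Subgroup.map_subtype_commutator]
      exact ⟨_, h2, rfl⟩)
    obtain ⟨k, hk⟩ := d.Q_pgroup ⟨u, hu⟩
    have hd : q ∣ Nat.card (Abelianization Q) := by
      refine dvd_trans ?_ (orderOf_dvd_natCard (Abelianization.of (⟨u, hu⟩ : Q)))
      obtain ⟨i, -, hi⟩ := (Nat.dvd_prime_pow d.q_prime).1
        ((orderOf_map_dvd Abelianization.of _).trans (orderOf_dvd_of_pow_eq_one hk))
      rw [hi]
      exact dvd_pow_self q fun e0 => hne (orderOf_eq_one_iff.1 (by rw [hi, e0, pow_zero]))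
    obtain ⟨y, hy⟩ := exists_prime_orderOf_dvd_card' q hd
    have := (Finite.injective_iff_surjective.2 hsurj) (a₁ := y) (a₂ := 1)
      (by simp [powMonoidHom_apply, ← hy, pow_orderOf_eq_one])
    rw [this, orderOf_one] at hy
    exact d.q_prime.ne_one hy.symm
  have hR := d.Q_min Q₁ (Subgroup.map_subtype_le _) hQ₁ (hinv R (d.R_le.trans d.Q_normal))
    (hinv _ d.Q_inv)
  have hgQ₁ : g ^ q ∈ Q₁ := ⟨⟨g, hg⟩ ^ q, ⟨Abelianization.of (⟨g, hg⟩ : Q), by
    rw [powMonoidHom_apply, map_pow]⟩, rfl⟩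
  refine mem_of_fixed_R h hc d (Subgroup.commutator_le_self Q) le_rfl
    (CoprimeTools.le_normalizer_commutator_of_le (d.R_le.trans d.Q_normal)
      (d.R_le.trans d.Q_normal)) (pow_mem hg q) fun x hx => ?_
  rw [mul_assoc _ x (g ^ q), ← hR hx _ hgQ₁]
  simp

/-- The case `Q` abelian. -/
theorem false_of_comm (hQ : ⁅Q, Q⁆ = ⊥) : False := by
  classical
  have := h.solv
  have := hc.V_normal
  have hQc : ∀ x ∈ Q, ∀ y ∈ Q, x * y = y * x := fun x hx y hy =>
    commutatorElement_eq_one_iff_mul_comm.1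
      (Subgroup.mem_bot.1 (hQ ▸ Subgroup.commutator_mem_commutator hx hy))
  have hQq : ∀ x ∈ Q, x ^ q = 1 := fun x hx =>
    Subgroup.mem_bot.1 (hQ ▸ pow_mem_commutator h hc d hx)
  have hRQ := d.R_le.trans d.Q_normal
  have hCV := inf_centralizer_eq_bot h hc d le_rfl (Q_ne_bot h hc d) Subgroup.le_normalizer
    hRQ d.Q_inv
  obtain ⟨X, hXQ, hXne, hmax, hW⟩ := exists_maximal_fixed d.q_prime hQc hQq
    (le_normalizer_of_normal V Q) (coprime_pgroups d.q_prime hc.prime d.q_ne d.Q_pgroup hc.V_pgroup)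
    hc.V_ne hCV
  obtain ⟨hnA, c, hcA, hc1, hcX⟩ := hyper h hc d pq le_rfl hQc hQq d.Q_inv hCV hXQ hXne hmax hW
  -- `c` acts trivially modulo all conjugates of `X`
  have hall : ∀ x ∈ R, c ∈ kerSub Q (MulAut.conj x • X) := by
    intro x hx
    set Y := MulAut.conj x • X with hY
    have hYQ : Y ≤ Q := CoprimeSZ.conj_smul_eq_self (hRQ hx) ▸
      Subgroup.pointwise_smul_le_pointwise_smul_iff.2 hXQ
    have hYne : Y ≠ Q := fun e => hXne (smul_left_cancel (MulAut.conj x)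
      (e.trans (CoprimeSZ.conj_smul_eq_self (hRQ hx)).symm))
    have hWY : V ⊓ Subgroup.centralizer (Y : Set Γ) ≠ ⊥ := by
      intro e
      refine hW (eq_bot_iff.2 fun w hw => ?_)
      have : x * w * x⁻¹ ∈ V ⊓ Subgroup.centralizer (Y : Set Γ) := by
        refine ⟨hc.V_normal.conj_mem w hw.1 x, ?_⟩
        rintro _ ⟨y, hy, rfl⟩
        show x * y * x⁻¹ * (x * w * x⁻¹) = x * w * x⁻¹ * (x * y * x⁻¹)
        have h3 := hw.2 y hy
        calc x * y * x⁻¹ * (x * w * x⁻¹) = x * (y * w) * x⁻¹ := by group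
          _ = x * (w * y) * x⁻¹ := by rw [h3]
          _ = _ := by group
      rw [e, Subgroup.mem_bot, conj_eq_one_iff] at this
      exact Subgroup.mem_bot.2 this
    obtain ⟨hnY, e, heA, he1, heY⟩ :=
      hyper h hc d pq le_rfl hQc hQq d.Q_inv hCV hYQ hYne (isMaximal_conj (hRQ hx) hmax) hWY
    by_cases hec : e ∈ Subgroup.zpowers c
    · obtain ⟨k, hk⟩ := Subgroup.mem_zpowers_iff.1 hec
      have hk1 : ¬ (orderOf c : ℤ) ∣ k := fun hd => he1 (by
        rw [← hk]; exact orderOf_dvd_iff_zpow_eq_one.1 hd)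
      exact mem_of_zpow_mem (pq.prime_order hcA hc1) (pow_orderOf_eq_one c) hk1 (hk.symm ▸ heY)
    exfalso
    -- a conjugate of `A` would act trivially modulo `Y`
    set U := (R ⊔ ι.range) ⊓ kerSub Q Y with hU
    set L := R ⊔ ι.range with hLdef
    have hxc : x * c * x⁻¹ ∈ U := Subgroup.mem_inf.2 ⟨mul_mem (mul_mem (Subgroup.mem_sup_left hx)
      (Subgroup.mem_sup_right hcA)) (inv_mem (Subgroup.mem_sup_left hx)),
        conj_mem_kerSub_smul hcX (hRQ hx)⟩
    have hLR : L ≤ Subgroup.normalizer (R : Set Γ) := sup_le Subgroup.le_normalizer d.R_inv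
    have hA' : ι.range ≤ R ⊔ U := by
      refine pq.gen hcA hc1 heA hec ?_ (Subgroup.mem_sup_right ⟨Subgroup.mem_sup_right heA, heY⟩)
      have h1 : (c * x * c⁻¹ * x⁻¹) * (x * c * x⁻¹) * x = c * x := by group
      have h2 : c = c * x * c⁻¹ * x⁻¹ * (x * c * x⁻¹) := by
        rw [eq_mul_inv_of_mul_eq h1]; group
      rw [h2]
      refine mul_mem (Subgroup.mem_sup_left ?_) (Subgroup.mem_sup_right hxc)
      exact mul_mem (conj_mem (d.R_inv hcA) hx) (inv_mem hx)
    -- a complement of `R ⊓ U` in `U`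
    have hRn : (R.subgroupOf U).Normal := Subgroup.normal_subgroupOf_of_le_normalizer
      ((inf_le_left : U ≤ L).trans hLR)
    have hidx : (R.subgroupOf U).index = Nat.card ι.range := by
      have hLn : (R.subgroupOf L).Normal := Subgroup.normal_subgroupOf_of_le_normalizer hLR
      let f : U →* L ⧸ R.subgroupOf L :=
        (QuotientGroup.mk' _).comp (Subgroup.inclusion inf_le_left)
      have hker : f.ker = R.subgroupOf U := by
        ext u
        rw [MonoidHom.mem_ker]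
        exact QuotientGroup.eq_one_iff _
      have hf : Function.Surjective f := by
        intro y
        obtain ⟨⟨y, hy⟩, rfl⟩ := QuotientGroup.mk_surjective y
        have hy' : y ∈ R ⊔ U := (sup_le le_sup_left hA' : L ≤ R ⊔ U) hy
        rw [← SetLike.mem_coe, Subgroup.coe_mul_of_right_le_normalizer_left _ _
          ((inf_le_left : U ≤ L).trans hLR)] at hy'
        obtain ⟨g, hg, u, hu, rfl⟩ := hy'
        refine ⟨⟨u, hu⟩, ?_⟩
        refine QuotientGroup.eq.2 ?_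
        rw [Subgroup.mem_subgroupOf]
        show u⁻¹ * (g * u) ∈ R
        have := conj_mem' (hLR (inf_le_left (α := Subgroup Γ) hu)) hg
        simpa [mul_assoc] using this
      rw [← hker, Subgroup.index_ker, MonoidHom.range_eq_top.2 hf, Subgroup.card_top,
        ← Subgroup.index_eq_card]
      have hc' : (Nat.card R).Coprime (Nat.card ι.range) := (cop h (R_le_K h hc d)).symm
      have hcompl : Subgroup.IsComplement' (ι.range.subgroupOf L) (R.subgroupOf L) := by
        refine (Subgroup.isComplement'_of_disjoint_and_mul_eq_univ ?_ ?_).symm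
        · rw [disjoint_iff, ← CoprimeSZ.subgroupOf_inf', Subgroup.inf_eq_bot_of_coprime hc',
            Subgroup.bot_subgroupOf]
        · rw [← Subgroup.normal_mul, ← Subgroup.subgroupOf_sup le_sup_left le_sup_right,
            Subgroup.subgroupOf_self, Subgroup.coe_top]
      rw [hcompl.index_eq_card]
      exact Nat.card_congr (Subgroup.subgroupOfEquivOfLe le_sup_right).toEquiv
    have hcopU : (Nat.card (R.subgroupOf U)).Coprime (R.subgroupOf U).index := by
      rw [hidx]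
      refine ((cop h (R_le_K h hc d)).symm.coprime_dvd_left ?_)
      rw [← Subgroup.card_map_of_injective U.subtype_injective, Subgroup.subgroupOf_map_subtype]
      exact Subgroup.card_dvd_of_le inf_le_left
    obtain ⟨B, hB⟩ := Subgroup.exists_right_complement'_of_coprime hcopU
    set B' := B.map U.subtype with hB'
    have hBc : Nat.card B' = Nat.card ι.range := by
      rw [hB', Subgroup.card_map_of_injective U.subtype_injective, ← hidx, hB.symm.index_eq_card]
    obtain ⟨n, hn, hnA⟩ := CoprimeSZ.exists_conj_of_card_eq d.R_inv (cop h (R_le_K h hc d))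
      (Or.inr (isSolvable_of_le (R_le_K h hc d)))
      ((Subgroup.map_subtype_le B).trans inf_le_left : B' ≤ R ⊔ ι.range) hBc
    set Y' := MulAut.conj n⁻¹ • Y with hY'
    have hy : n⁻¹ * x ∈ R := mul_mem (inv_mem hn) hx
    have hY'e : Y' = MulAut.conj (n⁻¹ * x) • X := by rw [hY', hY, ← CoprimeSZ.conj_smul_mul]
    have hY'Q : Y' ≤ Q := by
      rw [hY'e, ← CoprimeSZ.conj_smul_eq_self (hRQ hy)]
      exact Subgroup.pointwise_smul_le_pointwise_smul_iff.2 hXQ
    refine hXne (smul_left_cancel (MulAut.conj (n⁻¹ * x)) ?_)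
    rw [← hY'e, CoprimeSZ.conj_smul_eq_self (hRQ hy)]
    have hAY : ι.range ≤ kerSub Q Y' := by
      intro e he
      have h5 : n * e * n⁻¹ ∈ B' := hnA.le (CoprimeSZ.conj_mul_mem_conj_smul he)
      have h6 := conj_mem_kerSub_smul ((Subgroup.map_subtype_le B h5).2)
        (hRQ (inv_mem hn))
      rw [hY', map_inv]
      simpa [mul_assoc] using h6
    refine le_antisymm hY'Q fun g hg => mem_of_fixed h (hY'Q.trans (Q_le_K h hc d))
      (fun e he => (hAY he).1) (Q_le_K h hc d hg) fun e he => by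
        have := (hAY he).2 g⁻¹ (inv_mem hg)
        simpa using this
  let X' : Subgroup Γ := ⨅ x : R, MulAut.conj (x : Γ) • X
  have hX'X : X' ≤ X := (iInf_le _ (⟨1, one_mem R⟩ : R)).trans (by rw [map_one, one_smul])
  have hX'R : R ≤ Subgroup.normalizer (X' : Set Γ) := by
    refine le_normalizer_of_conj_mem fun g hg y hy => ?_
    rw [Subgroup.mem_iInf] at hy ⊢
    intro x
    have := CoprimeSZ.conj_mul_mem_conj_smul (g := g) (hy ⟨g⁻¹ * x, mul_mem (inv_mem hg) x.2⟩)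
    rwa [← CoprimeSZ.conj_smul_mul, mul_inv_cancel_left] at this
  have hcX' : c ∈ kerSub Q X' := by
    refine ⟨mem_normalizer_of_conj fun y hy => ?_, fun g hg => ?_⟩
    · rw [Subgroup.mem_iInf] at hy ⊢
      exact fun x => conj_mem (hall x x.2).1 (hy x)
    · rw [Subgroup.mem_iInf]
      exact fun x => (hall x x.2).2 g hg
  exact hXne (le_antisymm hXQ ((le_of_mem_kerSub h hc d pq (hX'X.trans hXQ)
    (hQ.le.trans bot_le) hX'R hcA hc1 hcX').trans hX'X))

/-- The case `Q` non-abelian. -/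
theorem false_of_not_comm (hQ : ⁅Q, Q⁆ ≠ ⊥) : False := by
  classical
  have := h.solv
  have := hc.V_normal
  have := Fact.mk d.q_prime
  have := Fact.mk hc.prime
  have := Fact.mk d.s_prime
  have hQK := Q_le_K h hc d
  have hQs : Group.IsSolvable Q := isSolvable_of_le hQK
  have hRQ := d.R_le.trans d.Q_normal
  set Z := ⁅Q, Q⁆ with hZdef
  have hZQ : Z ≤ Q := Subgroup.commutator_le_self Q
  have hQZn : Q ≤ Subgroup.normalizer (Z : Set Γ) := Subgroup.normalizer_commutator_ge_right Q Q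
  have hRZn : R ≤ Subgroup.normalizer (Z : Set Γ) := CoprimeTools.le_normalizer_commutator_of_le hRQ hRQ
  have hAZ : ι.range ≤ Subgroup.normalizer (Z : Set Γ) :=
    CoprimeTools.le_normalizer_commutator_of_le d.Q_inv d.Q_inv
  have hRZ : R ≤ Subgroup.centralizer (Z : Set Γ) :=
    d.Q_min Z hZQ (commutator_Q_ne h hc d) hRZn hAZ
  have hQZ : Q ≤ Subgroup.centralizer (Z : Set Γ) := by
    rw [← Subgroup.commutator_eq_bot_iff_le_centralizer]
    have hQR : ⁅Q, R⁆ = Q := d.commutator_eq h hc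
    have hRZ0 : ⁅R, Z⁆ = ⊥ := Subgroup.commutator_eq_bot_iff_le_centralizer.2 hRZ
    have h3 : ⁅⁅Q, R⁆, Z⁆ = ⊥ := by
      refine Subgroup.commutator_commutator_eq_bot_of_rotate ?_ ?_
      · rw [hRZ0, Subgroup.commutator_bot_left]
      · rw [eq_bot_iff, ← hRZ0, Subgroup.commutator_comm R Z]
        exact Subgroup.commutator_mono (commutator_le_self_of_le_normalizer hQZn) le_rfl
    rwa [hQR] at h3
  have hZc : ∀ x ∈ Z, ∀ y ∈ Z, x * y = y * x := fun x hx y hy => hQZ (hZQ hy) x hx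
  have hcen : ∀ {u v : Γ}, u ∈ Q → v ∈ Q → ∀ g ∈ Q, g * ⁅u, v⁆ * g⁻¹ = ⁅u, v⁆ := by
    intro u v hu hv g hg
    rw [← hQZ hg _ (Subgroup.commutator_mem_commutator hu hv), mul_inv_cancel_right]
  have hbil : ∀ {u v w : Γ}, u ∈ Q → v ∈ Q → w ∈ Q → ⁅u * v, w⁆ = ⁅v, w⁆ * ⁅u, w⁆ := by
    intro u v w hu hv hw
    conv_rhs => rw [← hcen hv hw u hu]
    simp [commutatorElement_def, mul_assoc]
  have hZq : ∀ x ∈ Z, x ^ q = 1 := by
    intro x hx
    let S : Subgroup Γ :=
      { carrier := {x | x ∈ Z ∧ x ^ q = 1}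
        one_mem' := ⟨one_mem _, one_pow _⟩
        mul_mem' := fun {x y} hx hy => ⟨mul_mem hx.1 hy.1, by
          rw [(show Commute x y from hZc x hx.1 y hy.1).mul_pow, hx.2, hy.2, one_mul]⟩
        inv_mem' := fun {x} hx => ⟨inv_mem hx.1, by rw [inv_pow, hx.2, inv_one]⟩ }
    refine ((Subgroup.commutator_le.2 fun g hg u hu => ?_ : Z ≤ S) hx).2
    refine ⟨Subgroup.commutator_mem_commutator hg hu, ?_⟩
    have hpw : ∀ n : ℕ, ⁅g ^ n, u⁆ = ⁅g, u⁆ ^ n := by
      intro n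
      induction n with
      | zero => simp
      | succ n ih => rw [pow_succ, hbil (pow_mem hg n) hg hu, ih, ← pow_succ']
    rw [← hpw, commutatorElement_eq_one_iff_mul_comm]
    exact (hQZ hu _ (pow_mem_commutator h hc d hg))
  have hCV := inf_centralizer_eq_bot h hc d hZQ hQ hQZn hRZn hAZ
  have hVQ : (Nat.card Q).Coprime (Nat.card V) :=
    coprime_pgroups d.q_prime hc.prime d.q_ne d.Q_pgroup hc.V_pgroup
  obtain ⟨X, hXZ, hXne, hmax, hW0⟩ := exists_maximal_fixed d.q_prime hZc hZq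
    (le_normalizer_of_normal V Z) (hVQ.coprime_dvd_left (Subgroup.card_dvd_of_le hZQ)) hc.V_ne hCV
  obtain ⟨hnA, c, hcA, hc1, hcX⟩ := hyper h hc d pq hZQ hZc hZq hAZ hCV hXZ hXne hmax hW0
  have hQX : Q ≤ Subgroup.normalizer (X : Set Γ) := fun g hg =>
    Subgroup.centralizer_le_normalizer _ (Subgroup.centralizer_le hXZ (hQZ hg))
  have hRX : R ≤ Subgroup.normalizer (X : Set Γ) := fun g hg =>
    Subgroup.centralizer_le_normalizer _ (Subgroup.centralizer_le hXZ (hRZ hg))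
  set W := V ⊓ Subgroup.centralizer (X : Set Γ) with hWdef
  have hWn : ∀ g ∈ Subgroup.normalizer (X : Set Γ), g ∈ Subgroup.normalizer (W : Set Γ) :=
    fun g hg => mem_normalizer_of_conj fun y hy => ⟨hc.V_normal.conj_mem y hy.1 g,
      conj_mem (CoprimeTools.le_normalizer_centralizer_of_le (Subgroup.zpowers_le.2 hg)
        (Subgroup.mem_zpowers g)) hy.2⟩
  -- an element of `Z` outside `X` has no fixed point on `W`
  have hZfpf : ∀ z ∈ Z, z ∉ X → ∀ w ∈ W, z * w = w * z → w = 1 := by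
    intro z hz hzX w hw hzw
    have hle : X ⊔ Subgroup.zpowers z ≤ Subgroup.centralizer ({w} : Set Γ) :=
      sup_le (fun x hx => Subgroup.mem_centralizer_singleton_iff.2 (hw.2 x hx))
        (Subgroup.zpowers_le.2 (Subgroup.mem_centralizer_singleton_iff.2 hzw))
    rw [(hmax _ le_sup_left (sup_le hXZ (Subgroup.zpowers_le.2 hz))).resolve_left fun e =>
      hzX (e.le (Subgroup.mem_sup_right (Subgroup.mem_zpowers z)))] at hle
    have : w ∈ V ⊓ Subgroup.centralizer (Z : Set Γ) :=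
      ⟨hw.1, fun y hy => Subgroup.mem_centralizer_singleton_iff.1 (hle hy)⟩
    rwa [hCV, Subgroup.mem_bot] at this
  -- `c` has no fixed point on `W`
  have hcW : ∀ w ∈ W, c * w = w * c → w = 1 := by
    intro w hw hcw
    by_cases hca : c ∈ Subgroup.zpowers a
    · have hac : a ∈ Subgroup.zpowers c := by
        obtain ⟨k, hk⟩ := Subgroup.mem_zpowers_iff.1 hca
        have hnd : ¬ (p : ℤ) ∣ k := fun hd => hc1 (by rw [← hk, zpow_eq_one_of_dvd pq.a_pow hd])
        exact mem_of_zpow_mem pq.p_prime pq.a_pow hnd (hk.symm ▸ Subgroup.mem_zpowers c)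
      have haX := (Subgroup.zpowers_le.2 hcX) hac
      have haw : a * w = w * a := Subgroup.mem_centralizer_singleton_iff.1
        ((Subgroup.zpowers_le.2 (Subgroup.mem_centralizer_singleton_iff.2 hcw :
          c ∈ Subgroup.centralizer ({w} : Set Γ))) hac)
      by_contra hw1
      obtain ⟨z, hz, hzX⟩ := SetLike.exists_of_lt (lt_of_le_of_ne hXZ hXne)
      have hza : z⁻¹ * a * z * a⁻¹ ∈ X := by
        have := haX.2 z⁻¹ (inv_mem hz)
        simpa using this
      obtain ⟨z₀, hz₀a, hzz₀⟩ := exists_fixed_mem_coset_zpowers (a := a) (D := X) haX.1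
        (by rw [← Nat.card_zpowers]; exact cop_zpowers h pq.a_mem (hXZ.trans (hZQ.trans hQK))) z hza
      have hz₀ : z₀ ∈ Z := by
        have := mul_mem hz (hXZ hzz₀)
        simpa using this
      have hz₀X : z₀ ∉ X := fun hh => hzX (by
        have := mul_mem hh (inv_mem hzz₀)
        simpa using this)
      refine hw1 (hZfpf z₀ hz₀ hz₀X w hw (comm_a h pq (hQK (hZQ hz₀)) (hc.V_le hw.1)
        (Nat.Coprime.of_dvd (Subgroup.orderOf_dvd_natCard Q (hZQ hz₀))
          (Subgroup.orderOf_dvd_natCard V hw.1) hVQ) hz₀a haw))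
    · let _ : CommGroup V := { (inferInstance : Group V) with
        mul_comm := fun x y => Subtype.ext (hc.V_comm x x.2 y y.2) }
      have hfx : ∀ (g : Γ) (v : V), MulAut.conjNormal g v = v ↔ g * v = v * g := fun g v => by
        rw [Subtype.ext_iff, MulAut.conjNormal_apply, mul_inv_eq_iff_eq_mul]
      refine congrArg Subtype.val (orbit_eq_one (MulAut.conjNormal : Γ →* MulAut V)
        (A := ι.range) (w := (⟨w, hw.1⟩ : V)) hXZ (fun x hx y hy => by rw [hZc x hx y hy]) hAZ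
        (fun v hv => Subtype.ext (h.fpf v (hc.V_le v.2) fun t => (hfx _ v).1 (hv _ ⟨t, rfl⟩)))
        (fun v hv => Subtype.ext ?_) (cop h hc.V_le)
        (hVQ.coprime_dvd_left (Subgroup.card_dvd_of_le (hXZ.trans hZQ)))
        (fun x hx => (hfx x _).2 (hw.2 x hx)) fun e he => ?_)
      · have : (v : Γ) ∈ V ⊓ Subgroup.centralizer (Z : Set Γ) :=
          ⟨v.2, fun z hz => (hfx z v).1 (hv z hz)⟩
        rwa [hCV, Subgroup.mem_bot] at this
      · by_cases hes : e ∈ Subgroup.normalizer (X : Set Γ)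
        · refine Or.inl ((hfx e _).2 (Subgroup.mem_centralizer_singleton_iff.1 ((Subgroup.zpowers_le.2
            (Subgroup.mem_centralizer_singleton_iff.2 hcw :
              c ∈ Subgroup.centralizer ({w} : Set Γ))) ?_)))
          by_contra hec
          have hk := commutator_mem_kerSub hZc hXZ hmax hZq (hAZ hcA) (hAZ he) hcX.1 hes
          refine hnA (pq.gen hcA hc1 (mul_mem (mul_mem (mul_mem hcA he) (inv_mem hcA)) (inv_mem he))
            (fun hmem => ?_) hcX hk)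
          have hcop : (Nat.card (Subgroup.zpowers c)).Coprime (Nat.card (Subgroup.zpowers a)) := by
            rw [Nat.card_zpowers, Nat.card_zpowers, pq.orderOf_a]
            exact ((Nat.coprime_primes pq.m_prime pq.p_prime).2 (Ne.symm pq.ne)).coprime_dvd_left
              (orderOf_dvd_of_pow_eq_one (pq.pow_m_eq_one hcA hca))
          have h1 : c * e * c⁻¹ * e⁻¹ ∈ Subgroup.zpowers c ⊓ Subgroup.zpowers a :=
            ⟨hmem, pq.commutator_mem hcA he⟩
          rw [Subgroup.inf_eq_bot_of_coprime hcop, Subgroup.mem_bot] at h1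
          exact pq.commutator_ne hcA hc1 he hec h1
        refine Or.inr ((hmax _ le_sup_left (sup_le hXZ ?_)).resolve_left fun e' => hes ?_).ge
        · rw [← CoprimeSZ.conj_smul_eq_self (hAZ he)]
          exact Subgroup.pointwise_smul_le_pointwise_smul_iff.2 hXZ
        · exact mem_normalizer_of_conj_smul_eq (Subgroup.eq_of_le_of_card_ge (sup_eq_left.1 e')
            (CoprimeSZ.card_conj_smul _ _).ge)
  -- `Y` is the radical of the commutator form
  set Y := Q ⊓ kerSub Q X with hYdef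
  have hYQ : Y ≤ Q := inf_le_left
  have hmemY : ∀ {u : Γ}, u ∈ Q → (∀ g ∈ Q, ⁅g, u⁆ ∈ X) → u ∈ Y := fun {u} hu hh =>
    Subgroup.mem_inf.2 ⟨hu, hQX hu, fun g hg => hh g hg⟩
  have hYbr : ∀ u ∈ Y, ∀ g ∈ Q, ⁅g, u⁆ ∈ X := fun u hu g hg => hu.2.2 g hg
  have hbr_symm : ∀ {u v : Γ}, ⁅u, v⁆ ∈ X → ⁅v, u⁆ ∈ X := fun {u v} hh => by
    rw [← commutatorElement_inv]; exact inv_mem hh
  have hYn : ∀ g, g ∈ Subgroup.normalizer (Q : Set Γ) → g ∈ Subgroup.normalizer (X : Set Γ) →
      g ∈ Subgroup.normalizer (Y : Set Γ) := fun g hgQ hgX => mem_normalizer_of_conj fun y hy =>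
    Subgroup.mem_inf.2 ⟨conj_mem hgQ hy.1, conj_mem_kerSub hy.2 hgQ hgX⟩
  have hZY : Z ≤ Y := fun z hz => hmemY (hZQ hz) fun g hg => by
    rw [commutatorElement_eq_one_iff_mul_comm.2 ((hQZ hg z hz).symm)]
    exact one_mem _
  have hYne : Y ≠ Q := by
    intro e
    refine hXne (le_antisymm hXZ (Subgroup.commutator_le.2 fun g hg u hu => ?_))
    exact hYbr u (e.ge hu) g hg
  have hcQ : c ∈ Subgroup.normalizer (Q : Set Γ) := d.Q_inv hcA
  -- `c` centralises `Y` on `W`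
  have hrW : ∀ v : W, v ^ r = 1 := by
    intro v
    let V₁ : Subgroup Γ :=
      { carrier := {x | x ∈ V ∧ x ^ r = 1}
        one_mem' := ⟨one_mem _, one_pow _⟩
        mul_mem' := fun {x y} hx hy => ⟨mul_mem hx.1 hy.1, by
          rw [(show Commute x y from hc.V_comm x hx.1 y hy.1).mul_pow, hx.2, hy.2, one_mul]⟩
        inv_mem' := fun {x} hx => ⟨inv_mem hx.1, by rw [inv_pow, hx.2, inv_one]⟩ }
    have hV₁ : ∀ g : Γ, g ∈ Subgroup.normalizer (V₁ : Set Γ) := fun g =>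
      mem_normalizer_of_conj fun y hy => ⟨hc.V_normal.conj_mem y hy.1 g, by
        rw [conj_pow, hy.2, mul_one, mul_inv_cancel]⟩
    have h1 : V₁ = V := by
      refine (hc.V_min V₁ (fun x hx => hx.1) (fun g _ => hV₁ g) (fun g _ => hV₁ g)).resolve_left
        fun hb => ?_
      have hd : r ∣ Nat.card V := by
        obtain ⟨k, hk⟩ := IsPGroup.iff_card.1 hc.V_pgroup
        rw [hk]
        exact dvd_pow_self r fun e0 => hc.V_ne (Subgroup.card_eq_one.1 (by rw [hk, e0, pow_zero]))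
      obtain ⟨x, hx⟩ := exists_prime_orderOf_dvd_card' r hd
      have hxm : (x : Γ) ∈ V₁ := ⟨x.2, by
        rw [← hx, ← Subgroup.orderOf_coe x, pow_orderOf_eq_one]⟩
      rw [hb, Subgroup.mem_bot] at hxm
      rw [show x = 1 from Subtype.ext hxm, orderOf_one] at hx
      exact hc.prime.ne_one hx.symm
    exact Subtype.ext ((h1.ge v.2.1 : (v : Γ) ∈ V₁).2)
  let _ : CommGroup W := { (inferInstance : Group W) with
    mul_comm := fun x y => Subtype.ext (hc.V_comm x x.2.1 y y.2.1) }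
  have : Nontrivial W := (Subgroup.nontrivial_iff_ne_bot W).2 hW0
  set N := Subgroup.normalizer (W : Set Γ) with hN
  let φW := Subgroup.normalizerMonoidHom W
  let cN : N := ⟨c, hWn c hcX.1⟩
  have hQN : Q ≤ N := fun g hg => hWn g (hQX hg)
  have hfxW : ∀ (g : N) (v : W), φW g v = v ↔ (g : Γ) * v = v * g := fun g v => by
    rw [Subtype.ext_iff]
    exact mul_inv_eq_iff_eq_mul
  have hφeq : ∀ g g' : N, (∀ w ∈ W, (g' : Γ)⁻¹ * g * w = w * ((g' : Γ)⁻¹ * g)) →
      φW g = φW g' := by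
    intro g g' hh
    rw [show g = g' * (g'⁻¹ * g) by group, map_mul]
    convert mul_one (φW g')
    exact MulEquiv.ext fun v => (hfxW _ v).2 (hh v v.2)
  have hXcomm : ∀ {u v : N}, ⁅(u : Γ), (v : Γ)⁆ ∈ X → φW (u * v) = φW (v * u) := by
    intro u v huv
    refine hφeq _ _ fun w hw => ?_
    have hu := u.2
    have hv := v.2
    have hmem : ((v : Γ) * u)⁻¹ * ((u : Γ) * v) ∈ Subgroup.centralizer (W : Set Γ) := by
      have hcz : ⁅(u : Γ), (v : Γ)⁆ ∈ Subgroup.centralizer (W : Set Γ) :=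
        fun w hw => (hw.2 _ huv).symm
      have h2 := conj_mem' (CoprimeTools.le_normalizer_centralizer_of_le le_rfl (mul_mem hv hu)) hcz
      simpa [commutatorElement_def, mul_assoc] using h2
    exact (hmem w hw).symm
  have hord := pq.prime_order hcA hc1
  have hordne : orderOf c ≠ q := by
    intro e
    obtain ⟨k, hk⟩ := IsPGroup.iff_card.1 d.Q_pgroup
    have hk0 : k ≠ 0 := fun e0 => Q_ne_bot h hc d (Subgroup.card_eq_one.1 (by rw [hk, e0, pow_zero]))
    have h1 := cop_zpowers h hcA hQK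
    rw [Nat.card_zpowers, e, hk, Nat.coprime_pow_right_iff (Nat.pos_of_ne_zero hk0),
      Nat.coprime_self] at h1
    exact d.q_prime.ne_one h1
  have hYN : Y ≤ N := hYQ.trans hQN
  have hcY : ∀ u : N, (u : Γ) ∈ Y → φW (cN * u) = φW (u * cN) := by
    intro u hu
    set Q' := (Y.subgroupOf N).map φW
    by_contra hne
    have hnc : ¬ Q' ≤ Subgroup.centralizer {φW cN ^ orderOf c ^ (1 - 1)} := by
      intro hle
      apply hne
      have h1 := Subgroup.mem_centralizer_singleton_iff.1 (hle ⟨u, hu, rfl⟩)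
      rw [Nat.sub_self, pow_zero, pow_one] at h1
      rw [map_mul, map_mul, h1]
    refine (HallHigman.exceptional_of_norm_trivial (G := MulAut W) (ℓ := r) hrW
      (MonoidHom.id _) hord d.q_prime hordne (Ne.symm d.q_ne) le_rfl (x := φW cN) ?_ ?_
      ((d.Q_pgroup.to_le hYQ).comap_subtype.map φW) (fun u _ hu1 => hu1) hnc ?_).2 ?_
    · rw [pow_one, ← map_pow]
      convert map_one φW
      exact Subtype.ext (pow_orderOf_eq_one c)
    · refine Subgroup.le_normalizer_map φW ⟨cN, ?_, rfl⟩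
      refine mem_normalizer_of_conj fun y hy => ?_
      rw [Subgroup.mem_comap] at hy ⊢
      exact conj_mem (hYn c hcQ hcX.1) hy
    · refine HallHigman.norm_trivial_of_fpf (MonoidHom.id _) ?_ fun v hv => ?_
      · rw [pow_one, ← map_pow]
        convert map_one φW
        exact Subtype.ext (pow_orderOf_eq_one c)
      · exact Subtype.ext (hcW v v.2 ((hfxW cN v).1 hv))
    · refine ⟨⟨?_⟩⟩
      rintro ⟨_, u₁, hu₁, rfl⟩ ⟨_, u₂, hu₂, rfl⟩
      refine Subtype.ext ?_
      show φW u₁ * φW u₂ = φW u₂ * φW u₁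
      rw [← map_mul, ← map_mul]
      exact hXcomm (hYbr _ hu₂ _ (hYQ hu₁))
  -- `P = [Q, c]` and the fixed points
  set P := ⁅Q, Subgroup.zpowers c⁆ with hPdef
  have hcz : Subgroup.zpowers c ≤ Subgroup.normalizer (Q : Set Γ) := Subgroup.zpowers_le.2 hcQ
  have hPQ : P ≤ Q := commutator_le_self_of_le_normalizer hcz
  let orth : ∀ u : Γ, u ∈ Q → Subgroup Γ := fun u hu =>
    { carrier := {v | v ∈ Q ∧ ⁅v, u⁆ ∈ X}
      one_mem' := ⟨one_mem _, by simp⟩
      mul_mem' := fun {x y} hx hy => ⟨mul_mem hx.1 hy.1, by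
        rw [hbil hx.1 hy.1 hu]; exact mul_mem hy.2 hx.2⟩
      inv_mem' := fun {x} hx => ⟨inv_mem hx.1, by
        have h1 := hbil hx.1 (inv_mem hx.1) hu
        rw [mul_inv_cancel, commutatorElement_one_left, eq_comm, mul_eq_one_iff_eq_inv] at h1
        rw [h1]; exact inv_mem hx.2⟩ }
  have horth : ∀ v ∈ Q, c * v = v * c → ∀ u ∈ P, ⁅v, u⁆ ∈ X := by
    intro v hv hcv u hu
    refine hbr_symm ((Subgroup.commutator_le.2 fun g hg y hy => ?_ : P ≤ orth v hv) hu).2
    have hyv : y * v * y⁻¹ = v := mul_inv_eq_iff_eq_mul.2 (Subgroup.mem_centralizer_singleton_iff.1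
      ((Subgroup.zpowers_le.2 (Subgroup.mem_centralizer_singleton_iff.2 hcv :
        c ∈ Subgroup.centralizer ({v} : Set Γ))) hy))
    refine ⟨hPQ (Subgroup.commutator_mem_commutator hg hy), ?_⟩
    have hyg : y * g⁻¹ * y⁻¹ ∈ Q := conj_mem (hcz hy) (inv_mem hg)
    have e : ⁅g, y⁆ = g * (y * g⁻¹ * y⁻¹) := by simp [commutatorElement_def, mul_assoc]
    rw [e, hbil hg hyg hv]
    have e2 : ⁅y * g⁻¹ * y⁻¹, v⁆ = y * ⁅g⁻¹, v⁆ * y⁻¹ := by
      conv_lhs => rw [← hyv]
      simp [commutatorElement_def, mul_assoc]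
    have e3 : ⁅g⁻¹, v⁆ = ⁅g, v⁆⁻¹ := by
      have h1 := hbil hg (inv_mem hg) hv
      rw [mul_inv_cancel, commutatorElement_one_left, eq_comm, mul_eq_one_iff_eq_inv] at h1
      exact h1
    rw [e2, e3]
    have h4 := ((Subgroup.zpowers_le.2 hcX) hy).2 ⁅g, v⁆⁻¹
      (inv_mem (Subgroup.commutator_mem_commutator hg hv))
    have h5 := inv_mem h4
    rwa [show (⁅g, v⁆⁻¹ * y * ⁅g, v⁆⁻¹⁻¹ * y⁻¹)⁻¹ = y * ⁅g, v⁆⁻¹ * y⁻¹ * ⁅g, v⁆ by group] at h5
  have hQPC : ∀ u ∈ Q, (∀ v ∈ P, ⁅v, u⁆ ∈ X) → (∀ v ∈ Q, c * v = v * c → ⁅v, u⁆ ∈ X) → u ∈ Y := by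
    intro u hu h1 h2
    refine hmemY hu fun g hg => ?_
    have hle : Q ≤ orth u hu := by
      conv_lhs => rw [← commutator_sup_centralizer_eq hcz (cop_zpowers h hcA hQK) (Or.inr hQs)]
      exact sup_le (fun v hv => ⟨hPQ hv, h1 v hv⟩) fun v hv =>
        ⟨hv.1, h2 v hv.1 (hv.2 c (Subgroup.mem_zpowers c))⟩
    exact (hle hg).2
  have hPY : ¬ P ≤ Y := by
    intro hle
    refine hYne (le_antisymm hYQ (le_of_mem_kerSub h hc d pq hYQ hZY
      (fun g hg => hYn g (hRQ hg) (hRX hg)) hcA hc1 ⟨hYn c hcQ hcX.1, fun g hg => ?_⟩))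
    exact hle (Subgroup.commutator_mem_commutator hg (Subgroup.mem_zpowers c))
  have hPN : P ≤ N := hPQ.trans hQN
  have hcP : c ∈ Subgroup.normalizer (P : Set Γ) :=
    CoprimeTools.le_normalizer_commutator_of_le hcz Subgroup.le_normalizer (Subgroup.mem_zpowers c)
  have hpc : ∀ u ∈ P.subgroupOf N, ∀ v ∈ P.subgroupOf N, ⁅u, v⁆ ∈ (P ⊓ Y).subgroupOf N := by
    intro u hu v hv
    show ((⁅u, v⁆ : N) : Γ) ∈ P ⊓ Y
    refine Subgroup.mem_inf.2 ⟨?_, ?_⟩
    · exact mul_mem (mul_mem (mul_mem hu hv) (inv_mem hu)) (inv_mem hv)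
    · exact hZY (Subgroup.commutator_mem_commutator (hPQ hu) (hPQ hv))
  have hpn : ∀ u ∈ P.subgroupOf N, u ∉ (P ⊓ Y).subgroupOf N →
      ∃ v ∈ P.subgroupOf N, ∀ w, φW ⁅v, u⁆ w = w → w = 1 := by
    intro u hu hnu
    obtain ⟨v, hv, hvu⟩ : ∃ v ∈ P, ⁅v, (u : Γ)⁆ ∉ X := by
      by_contra hall
      push Not at hall
      exact hnu ⟨hu, hQPC _ (hPQ hu) hall fun v hv hcv => horth v hv hcv _ hu⟩
    exact ⟨⟨v, hPN hv⟩, hv, fun w hw => Subtype.ext (hZfpf _
      (Subgroup.commutator_mem_commutator (hPQ hv) (hPQ hu)) hvu w w.2 ((hfxW _ w).1 hw))⟩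
  have hpf : ∀ u ∈ P.subgroupOf N, ∀ k, 0 < k → k < orderOf c →
      cN ^ k * u * (cN ^ k)⁻¹ * u⁻¹ ∈ (P ⊓ Y).subgroupOf N → u ∈ (P ⊓ Y).subgroupOf N := by
    intro u hu k hk0 hk hh
    refine ⟨hu, ?_⟩
    have hk' : c ^ k * u * (c ^ k)⁻¹ * (u : Γ)⁻¹ ∈ Y := hh.2
    obtain ⟨l, hl⟩ := HallHigman.exists_pow_eq_top_power hord (e := 1)
      (x := c) (by rw [pow_one, pow_orderOf_eq_one]) hk0 (by rwa [pow_one])
    rw [Nat.sub_self, pow_zero, pow_one] at hl
    have hck := hYn _ (pow_mem hcQ k) (pow_mem hcX.1 k)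
    have hu' : (u : Γ) ∈ Subgroup.normalizer (Y : Set Γ) := hYn _
      (Subgroup.le_normalizer (hPQ hu)) (hQX (hPQ hu))
    have hfix : (u : Γ)⁻¹ * c ^ k * u * (c ^ k)⁻¹ ∈ Y := by
      have := conj_mem' hu' hk'
      simpa [mul_assoc] using this
    obtain ⟨u₁, hu₁c, huu₁⟩ := exists_fixed_mem_coset_zpowers (a := c ^ k) (D := Y) hck
      ((cop_zpowers h (pow_mem hcA k) (hYQ.trans hQK)).coprime_dvd_left
        (Nat.card_zpowers _).symm.dvd) (u : Γ) hfix
    have hcu₁ : c * u₁ = u₁ * c := by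
      rw [← hl]
      exact ((show Commute (c ^ k) u₁ from hu₁c).pow_left l).eq
    have hu₁Q : u₁ ∈ Q := by
      have := mul_mem (hPQ hu) (hYQ huu₁)
      simpa using this
    refine hQPC _ (hPQ hu) (fun v hv => ?_) fun v hv hcv => horth v hv hcv _ hu
    have h1 : ⁅u₁ * ((u : Γ)⁻¹ * u₁)⁻¹, v⁆ = ⁅((u : Γ)⁻¹ * u₁)⁻¹, v⁆ * ⁅u₁, v⁆ :=
      hbil hu₁Q (inv_mem (hYQ huu₁)) (hPQ hv)
    rw [show u₁ * ((u : Γ)⁻¹ * u₁)⁻¹ = u by group] at h1
    refine hbr_symm ?_
    show ⁅(u : Γ), v⁆ ∈ X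
    rw [h1]
    exact mul_mem (hbr_symm (hYbr _ (inv_mem huu₁) v (hPQ hv))) (horth u₁ hu₁Q hcu₁ v hv)
  obtain ⟨hidx, hqd⟩ := relIndex_eq_sq (G := N) (ℓ := r) hrW φW hord (x := cN)
    (Subtype.ext (pow_orderOf_eq_one c))
    (fun v hv => Subtype.ext (hcW v v.2 ((hfxW cN v).1 hv))) (P := P.subgroupOf N)
    (Y := (P ⊓ Y).subgroupOf N) (mem_normalizer_of_conj fun y hy => by
      rw [Subgroup.mem_subgroupOf] at hy ⊢
      exact conj_mem hcP hy) d.q_prime ((d.Q_pgroup.to_le hPQ).comap_subtype) (Ne.symm d.q_ne)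
    (fun u hu => hu.1)
    (fun u hu => ⟨hcY u hu.2, fun v hv => hXcomm (hYbr _ hu.2 _ (hPQ hv))⟩)
    hpc hpn hpf
    (fun hle => hPY fun g hg => (hle (x := ⟨g, hPN hg⟩) hg).2)
  rw [Subgroup.relIndex_subgroupOf hPN] at hidx
  -- `q = 2` and `c` has order `m`
  obtain ⟨k, hk⟩ := IsPGroup.iff_card.1 (d.Q_pgroup.to_le hPQ)
  obtain ⟨j, -, hj⟩ := (Nat.dvd_prime_pow d.q_prime).1
    ((dvd_pow_self (orderOf c - 1) two_ne_zero).trans (hidx ▸ hk ▸
      ((P ⊓ Y).subgroupOf P).index_dvd_card : (orderOf c - 1) ^ 2 ∣ q ^ k))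
  have hne2 : orderOf c ≠ 2 := fun e => by
    rw [e] at hqd
    exact d.q_prime.ne_one (Nat.dvd_one.1 hqd)
  have hq2 : q = 2 := by
    have hev : Even (q ^ j) := by
      rw [← hj]
      exact Nat.Odd.sub_odd (hord.odd_of_ne_two hne2) odd_one
    rw [Nat.even_pow] at hev
    exact (Nat.Prime.even_iff d.q_prime).mp hev.1
  subst hq2
  have h2K : ∀ n, n ∣ p * m → n ≠ 2 := by
    intro n hn e
    subst e
    obtain ⟨k, hk⟩ := IsPGroup.iff_card.1 d.Q_pgroup
    have hk0 : k ≠ 0 := fun e0 => Q_ne_bot h hc d (Subgroup.card_eq_one.1 (by rw [hk, e0, pow_zero]))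
    have h1 := cop h hQK
    rw [pq.card, hk, Nat.coprime_pow_right_iff (Nat.pos_of_ne_zero hk0)] at h1
    exact Nat.prime_two.not_dvd_one ((Nat.Coprime.coprime_dvd_left hn h1) ▸ dvd_refl (Nat.gcd 2 2))
  have hca : c ∉ Subgroup.zpowers a := by
    intro hca
    have hop : orderOf c = p := by
      have hd : orderOf c ∣ p := by
        rw [← pq.orderOf_a]; exact orderOf_dvd_of_mem_zpowers hca
      exact (Nat.prime_dvd_prime_iff_eq hord pq.p_prime).1 hd
    have h1 : m ∣ 2 ^ j := by rw [← hj, hop]; exact pq.dvd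
    exact h2K m (dvd_mul_left m p) ((Nat.prime_dvd_prime_iff_eq pq.m_prime Nat.prime_two).1
      (pq.m_prime.dvd_of_dvd_pow h1))
  have hom : orderOf c = m :=
    (Nat.prime_dvd_prime_iff_eq hord pq.m_prime).1
      (orderOf_dvd_of_pow_eq_one (pq.pow_m_eq_one hcA hca))
  rw [hom] at hidx hj
  have hm2 : m ≠ 2 := h2K m (dvd_mul_left m p)
  have hmj : m = 2 ^ j + 1 := by have := pq.m_prime.two_le; omega
  -- the module `E = Q / Y`
  have hYQn : (Y.subgroupOf Q).Normal := Subgroup.normal_subgroupOf_of_le_normalizer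
    fun g hg => hYn g (Subgroup.le_normalizer hg) (hQX hg)
  let cgE : CommGroup (Q ⧸ Y.subgroupOf Q) :=
    { (inferInstance : Group (Q ⧸ Y.subgroupOf Q)) with
      mul_comm := fun x y => by
        obtain ⟨x, rfl⟩ := QuotientGroup.mk_surjective x
        obtain ⟨y, rfl⟩ := QuotientGroup.mk_surjective y
        rw [← QuotientGroup.mk_mul, ← QuotientGroup.mk_mul, QuotientGroup.eq]
        have h2 := hZY (Subgroup.commutator_mem_commutator (inv_mem y.2) (inv_mem x.2))
        rw [Subgroup.mem_subgroupOf]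
        simpa [commutatorElement_def, mul_assoc] using h2 }
  have hXn : (X.subgroupOf Z).Normal := Subgroup.normal_subgroupOf_of_le_normalizer
    ((fun g hg => hQX (hZQ hg)) : Z ≤ Subgroup.normalizer (X : Set Γ))
  let cgM : CommGroup (Z ⧸ X.subgroupOf Z) :=
    { (inferInstance : Group (Z ⧸ X.subgroupOf Z)) with
      mul_comm := fun x y => by
        obtain ⟨x, rfl⟩ := QuotientGroup.mk_surjective x
        obtain ⟨y, rfl⟩ := QuotientGroup.mk_surjective y
        rw [← QuotientGroup.mk_mul, ← QuotientGroup.mk_mul]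
        congr 1
        exact Subtype.ext (hZc x x.2 y y.2) }
  let cl : ∀ u v : Q, Z ⧸ X.subgroupOf Z := fun u v =>
    QuotientGroup.mk ⟨⁅(u : Γ), (v : Γ)⁆, Subgroup.commutator_mem_commutator u.2 v.2⟩
  have hbil' : ∀ {u v w : Γ}, u ∈ Q → v ∈ Q → w ∈ Q → ⁅u, v * w⁆ = ⁅u, v⁆ * ⁅u, w⁆ := by
    intro u v w hu hv hw
    rw [← commutatorElement_inv, hbil hv hw hu, mul_inv_rev, commutatorElement_inv,
      commutatorElement_inv]
  let β₀ : Q →* Q →* Z ⧸ X.subgroupOf Z := MonoidHom.mk' (fun u => MonoidHom.mk' (cl u)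
      (fun v w => by
        simp only [cl, ← QuotientGroup.mk_mul]
        congr 1
        exact Subtype.ext (hbil' u.2 v.2 w.2))) fun u v => MonoidHom.ext fun w => by
        show cl (u * v) w = cl u w * cl v w
        rw [mul_comm (cl u w)]
        simp only [cl, ← QuotientGroup.mk_mul]
        congr 1
        exact Subtype.ext (hbil u.2 v.2 w.2)
  have hβ₀ : ∀ u v : Q, β₀ u v = 1 ↔ ⁅(u : Γ), (v : Γ)⁆ ∈ X := fun u v =>
    QuotientGroup.eq_one_iff _
  let β₁ : (Q ⧸ Y.subgroupOf Q) →* (Q ⧸ Y.subgroupOf Q) →* Z ⧸ X.subgroupOf Z :=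
    QuotientGroup.lift _ (MonoidHom.mk' (fun u => QuotientGroup.lift _ (β₀ u)
      fun v hv => (hβ₀ u v).2 (hYbr v hv u u.2)) fun u v => MonoidHom.ext fun w => by
        obtain ⟨w, rfl⟩ := QuotientGroup.mk_surjective w
        show β₀ (u * v) w = β₀ u w * β₀ v w
        rw [map_mul]; rfl)
      fun u hu => MonoidHom.ext fun w => by
        obtain ⟨w, rfl⟩ := QuotientGroup.mk_surjective w
        exact (hβ₀ u w).2 (hbr_symm (hYbr u hu w w.2))
  let β : Additive (Q ⧸ Y.subgroupOf Q) →+ Additive (Q ⧸ Y.subgroupOf Q) →+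
      Additive (Z ⧸ X.subgroupOf Z) :=
    AddMonoidHom.mk' (fun e => MonoidHom.toAdditive (β₁ e.toMul)) fun e f => by
      rw [toMul_add, map_mul]; rfl
  set GN := (Subgroup.normalizer (Q : Set Γ) ⊓ Subgroup.normalizer (Y : Set Γ)) ⊓ kerSub Z X
    with hGN
  let φE : GN →* MulAut (Q ⧸ Y.subgroupOf Q) := (quotAct Q Y).comp (Subgroup.inclusion inf_le_left)
  let ρ : GN →* AddMonoid.End (Additive (Q ⧸ Y.subgroupOf Q)) :=
    { toFun := fun g => MonoidHom.toAdditive (φE g).toMonoidHom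
      map_one' := by rw [map_one]; rfl
      map_mul' := fun a b => by rw [map_mul]; rfl }
  have hmk : ∀ (g : GN) (u : Γ) (hu : u ∈ Q),
      ρ g (Additive.ofMul (QuotientGroup.mk ⟨u, hu⟩)) =
        Additive.ofMul (QuotientGroup.mk ⟨(g : Γ) * u * (g : Γ)⁻¹, conj_mem g.2.1.1 hu⟩) :=
    fun g u hu => rfl
  have hclass : ∀ (g : GN) (u : Γ) (hu : u ∈ Q),
      ρ g (Additive.ofMul (QuotientGroup.mk ⟨u, hu⟩)) = Additive.ofMul (QuotientGroup.mk ⟨u, hu⟩) →
        u⁻¹ * g * u * (g : Γ)⁻¹ ∈ Y := by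
    intro g u hu hx
    rw [hmk, eq_comm] at hx
    have h1 := QuotientGroup.eq.1 (Additive.ofMul.injective hx)
    rw [Subgroup.mem_subgroupOf] at h1
    simpa [mul_assoc] using h1
  have hcG : c ∈ GN := ⟨⟨hcQ, hYn c hcQ hcX.1⟩, hcX⟩
  have hRG : R ≤ GN := fun g hg => ⟨⟨hRQ hg, hYn g (hRQ hg) (hRX hg)⟩, hRX hg, fun z hz => by
    rw [hRZ hg z hz, mul_inv_cancel_right, mul_inv_cancel]
    exact one_mem _⟩
  have hE2 : ∀ e : Additive (Q ⧸ Y.subgroupOf Q), e + e = 0 := by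
    intro e
    obtain ⟨⟨u, hu⟩, hue⟩ := QuotientGroup.mk_surjective e.toMul
    apply Additive.toMul.injective
    rw [toMul_add, toMul_zero, ← hue, ← QuotientGroup.mk_mul, QuotientGroup.eq_one_iff,
      Subgroup.mem_subgroupOf]
    show u * u ∈ Y
    rw [← pow_two]
    exact hZY (pow_mem_commutator h hc d hu)
  have hnE : Nontrivial (Additive (Q ⧸ Y.subgroupOf Q)) := by
    obtain ⟨u, hu, huY⟩ := SetLike.exists_of_lt (lt_of_le_of_ne hYQ hYne)
    refine ⟨Additive.ofMul (QuotientGroup.mk ⟨u, hu⟩), 0, fun e => huY ?_⟩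
    exact (QuotientGroup.eq_one_iff (N := Y.subgroupOf Q) _).1 (Additive.ofMul.injective e)
  have hRc : Nat.card (R.subgroupOf GN) = Nat.card R :=
    Nat.card_congr (Subgroup.subgroupOfEquivOfLe hRG).toEquiv
  refine exceptional_false pq.m_prime hm2 hmj hE2 ρ β ?_ ?_ ?_ (R := R.subgroupOf GN)
    (c := ⟨c, hcG⟩) (Subtype.ext (pq.pow_m_eq_one hcA hca)) ?_ ?_ ?_ ?_ ?_ ?_ ?_
  · intro e
    obtain ⟨⟨u, hu⟩, hue⟩ := QuotientGroup.mk_surjective e.toMul
    apply Additive.toMul.injective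
    show β₁ e.toMul e.toMul = 1
    rw [← hue]
    exact (hβ₀ _ _).2 (by simp)
  · intro e he
    obtain ⟨⟨u, hu⟩, hue⟩ := QuotientGroup.mk_surjective e.toMul
    apply Additive.toMul.injective
    rw [toMul_zero, ← hue, QuotientGroup.eq_one_iff, Subgroup.mem_subgroupOf]
    refine hmemY hu fun g hg => hbr_symm ((hβ₀ ⟨u, hu⟩ ⟨g, hg⟩).1 ?_)
    have h1 := congrArg Additive.toMul (he (Additive.ofMul (QuotientGroup.mk ⟨g, hg⟩)))
    change β₁ e.toMul (QuotientGroup.mk (⟨g, hg⟩ : Q)) = 1 at h1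
    rw [← hue] at h1
    exact h1
  · intro g e f
    obtain ⟨⟨u, hu⟩, hue⟩ := QuotientGroup.mk_surjective e.toMul
    obtain ⟨⟨v, hv⟩, hvf⟩ := QuotientGroup.mk_surjective f.toMul
    rw [show e = Additive.ofMul (QuotientGroup.mk ⟨u, hu⟩) from congrArg Additive.ofMul hue.symm,
      show f = Additive.ofMul (QuotientGroup.mk ⟨v, hv⟩) from congrArg Additive.ofMul hvf.symm,
      hmk, hmk]
    apply Additive.toMul.injective
    show cl _ _ = cl ⟨u, hu⟩ ⟨v, hv⟩
    simp only [cl]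
    rw [eq_comm, QuotientGroup.eq, Subgroup.mem_subgroupOf]
    have h1 := g.2.2.2 ⁅u, v⁆⁻¹ (inv_mem (Subgroup.commutator_mem_commutator hu hv))
    show ⁅u, v⁆⁻¹ * ⁅(g : Γ) * u * (g : Γ)⁻¹, (g : Γ) * v * (g : Γ)⁻¹⁆ ∈ X
    simpa [commutatorElement_def, mul_assoc] using h1
  · refine mem_normalizer_of_conj fun y hy => ?_
    rw [Subgroup.mem_subgroupOf] at hy ⊢
    exact conj_mem (d.R_inv hcA) hy
  · intro x hx y hy
    refine AddMonoidHom.ext fun e => ?_
    obtain ⟨⟨u, hu⟩, hue⟩ := QuotientGroup.mk_surjective e.toMul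
    rw [show e = Additive.ofMul (QuotientGroup.mk ⟨u, hu⟩) from congrArg Additive.ofMul hue.symm]
    refine (hmk _ u hu).trans (Eq.trans ?_ (hmk _ u hu).symm)
    congr 2
    refine Subtype.ext ?_
    show (x : Γ) * y * u * ((x : Γ) * y)⁻¹ = (y : Γ) * x * u * ((y : Γ) * x)⁻¹
    have h1 : ⁅((x : Γ)), (y : Γ)⁆ ∈ Subgroup.centralizer (Q : Set Γ) :=
      commutator_R_le h hc d (Subgroup.commutator_mem_commutator hx hy)
    have h2 := h1 ((y : Γ) * x * u * ((y : Γ) * x)⁻¹) (conj_mem (mul_mem (hRQ hy) (hRQ hx)) hu)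
    calc (x : Γ) * y * u * ((x : Γ) * y)⁻¹ =
          ⁅(x : Γ), (y : Γ)⁆ * ((y : Γ) * x * u * ((y : Γ) * x)⁻¹) * ⁅(x : Γ), (y : Γ)⁆⁻¹ := by
          simp [commutatorElement_def, mul_assoc]
      _ = _ := by rw [← h2, mul_inv_cancel_right]
  · rw [hRc, ← Nat.coprime_two_left]
    obtain ⟨i, hi⟩ := IsPGroup.iff_card.1 d.R_pgroup
    rw [hi]
    exact ((Nat.coprime_primes Nat.prime_two d.s_prime).2 d.ne).pow_right i
  · rw [hRc, ← hom, ← Nat.card_zpowers]
    exact (cop_zpowers h hcA (R_le_K h hc d)).symm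
  · intro e he
    obtain ⟨⟨u, hu⟩, hue⟩ := QuotientGroup.mk_surjective e.toMul
    rw [show e = Additive.ofMul (QuotientGroup.mk ⟨u, hu⟩) from congrArg Additive.ofMul hue.symm]
      at he ⊢
    refine congrArg Additive.ofMul ((QuotientGroup.eq_one_iff (N := Y.subgroupOf Q) _).2 ?_)
    exact mem_of_fixed_R h hc d hYQ hZY (fun g hg => hYn g (hRQ hg) (hRX hg)) hu
      fun x hx => hclass ⟨x, hRG hx⟩ u hu (he ⟨x, hRG hx⟩ hx)
  · intro e hce he
    obtain ⟨⟨u, hu⟩, hue⟩ := QuotientGroup.mk_surjective e.toMul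
    rw [show e = Additive.ofMul (QuotientGroup.mk ⟨u, hu⟩) from congrArg Additive.ofMul hue.symm]
      at he hce ⊢
    refine congrArg Additive.ofMul ((QuotientGroup.eq_one_iff (N := Y.subgroupOf Q) _).2 ?_)
    -- the stabiliser of the class
    have hMR : ⁅R, Subgroup.zpowers c⁆ ≤ R :=
      commutator_le_self_of_le_normalizer (Subgroup.zpowers_le.2 (d.R_inv hcA))
    let S : Subgroup GN :=
      { carrier := {g | ρ g (Additive.ofMul (QuotientGroup.mk ⟨u, hu⟩)) =
          Additive.ofMul (QuotientGroup.mk ⟨u, hu⟩)}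
        one_mem' := by rw [Set.mem_setOf_eq, map_one]; rfl
        mul_mem' := fun {x y} hx hy => by
          rw [Set.mem_setOf_eq] at *
          rw [map_mul]
          exact (congrArg (ρ x) hy).trans hx
        inv_mem' := fun {x} hx => by
          rw [Set.mem_setOf_eq] at *
          conv_lhs => rw [← hx]
          show (ρ x⁻¹ * ρ x) _ = _
          rw [← map_mul, inv_mul_cancel, map_one]; rfl }
    have hM : ∀ g ∈ ⁅R, Subgroup.zpowers c⁆, g ∈ S.map GN.subtype := by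
      refine Subgroup.commutator_le.2 fun x hx y hy => ?_
      obtain ⟨n, rfl⟩ := mem_powers_iff_mem_zpowers.2 hy
      induction n with
      | zero => simp only [pow_zero, commutatorElement_one_right]; exact one_mem _
      | succ n ih =>
        have h1 : x * c * x⁻¹ * c⁻¹ ∈ S.map GN.subtype := ⟨_, he ⟨x, hRG hx⟩ hx, rfl⟩
        have h2 : c ∈ S.map GN.subtype := ⟨⟨c, hcG⟩, hce, rfl⟩
        have e : ⁅x, c ^ (n + 1)⁆ = x * c * x⁻¹ * c⁻¹ * (c * ⁅x, c ^ n⁆ * c⁻¹) := by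
          rw [pow_succ']
          simp [commutatorElement_def, mul_assoc]
        show ⁅x, c ^ (n + 1)⁆ ∈ S.map GN.subtype
        rw [e]
        exact mul_mem h1 (mul_mem (mul_mem h2 (ih (Subgroup.mem_zpowers_iff.2 ⟨n, zpow_natCast _ _⟩)))
          (inv_mem h2))
    obtain ⟨g', hg', hgg', hcg', hMg'⟩ := exists_lift h hc d pq hYQ hcA hu (hYn c hcQ hcX.1)
      (fun g hg => hYn g (hRQ (hMR hg)) (hRX (hMR hg))) (hclass ⟨c, hcG⟩ u hu hce) fun g hg => by
        obtain ⟨⟨g, hgG⟩, hgS, rfl⟩ := hM g hg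
        exact hclass ⟨g, hgG⟩ u hu hgS
    rw [Subgroup.mem_subgroupOf]
    have := mul_mem (hZY (mem_commutator_of_fixed h hc d pq hcA hca hg' hcg' hMg')) (inv_mem hgg')
    simpa using this
  · -- the commutator space is the image of `P`
    let f : P →* Q ⧸ Y.subgroupOf Q :=
      (QuotientGroup.mk' _).comp (Subgroup.inclusion hPQ)
    have hker : f.ker = (P ⊓ Y).subgroupOf P := by
      ext u
      rw [MonoidHom.mem_ker]
      refine (QuotientGroup.eq_one_iff _).trans ?_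
      exact ⟨fun hh => ⟨u.2, hh⟩, fun hh => hh.2⟩
    have hcardf : Nat.card f.range = 2 ^ (2 * j) := by
      rw [← Subgroup.index_ker, hker, mul_comm 2 j, pow_mul, ← hj]
      exact hidx
    rw [← hcardf]
    refine Nat.card_congr ((Equiv.subtypeEquiv Additive.toMul fun e => ?_))
    constructor
    · rintro ⟨y, rfl⟩
      obtain ⟨⟨u, hu⟩, hue⟩ := QuotientGroup.mk_surjective y.toMul
      rw [show y = Additive.ofMul (QuotientGroup.mk ⟨u, hu⟩) from congrArg Additive.ofMul hue.symm]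
      refine ⟨⟨⁅u, c⁆⁻¹, inv_mem (Subgroup.commutator_mem_commutator hu (Subgroup.mem_zpowers c))⟩, ?_⟩
      show (QuotientGroup.mk _ : Q ⧸ Y.subgroupOf Q) =
        (ρ (⟨c, hcG⟩ : GN) (Additive.ofMul (QuotientGroup.mk (⟨u, hu⟩ : Q))) -
          Additive.ofMul (QuotientGroup.mk (⟨u, hu⟩ : Q) : Q ⧸ Y.subgroupOf Q)).toMul
      rw [hmk, toMul_sub, toMul_ofMul, toMul_ofMul, div_eq_mul_inv, ← QuotientGroup.mk_inv,
        ← QuotientGroup.mk_mul]
      congr 1
      exact Subtype.ext (show ⁅u, c⁆⁻¹ = c * u * c⁻¹ * u⁻¹ by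
        simp [commutatorElement_def, mul_assoc])
    · rintro ⟨⟨u, hu⟩, hue⟩
      let T : Subgroup Γ := (((AddMonoidHom.range (ρ ⟨c, hcG⟩ - 1)).toSubgroup').comap
        (QuotientGroup.mk' (Y.subgroupOf Q))).map Q.subtype
      have hT : P ≤ T := by
        rw [hPdef, Subgroup.commutator_le]
        intro g hg y hy
        obtain ⟨n, rfl⟩ := mem_powers_iff_mem_zpowers.2 hy
        clear hy
        show ⁅g, c ^ n⁆ ∈ T
        induction n generalizing g with
        | zero => simp only [pow_zero, commutatorElement_one_right]; exact one_mem _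
        | succ n ih =>
          have hg' : c * g * c⁻¹ ∈ Q := conj_mem hcQ hg
          have e : ⁅g, c ^ (n + 1)⁆ = (c * g * c⁻¹ * g⁻¹)⁻¹ * ⁅c * g * c⁻¹, c ^ n⁆ := by
            have hcn : c * c ^ n * c⁻¹ = c ^ n := by rw [← pow_succ', pow_succ, mul_inv_cancel_right]
            conv_rhs => rw [← hcn]
            rw [pow_succ']
            simp [commutatorElement_def, mul_assoc]
          rw [e]
          refine mul_mem (inv_mem ?_) (ih _ hg')
          refine ⟨⟨c * g * c⁻¹ * g⁻¹, mul_mem hg' (inv_mem hg)⟩,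
            ⟨Additive.ofMul (QuotientGroup.mk ⟨g, hg⟩), ?_⟩, rfl⟩
          show ρ (⟨c, hcG⟩ : GN) (Additive.ofMul (QuotientGroup.mk (⟨g, hg⟩ : Q))) -
              Additive.ofMul (QuotientGroup.mk (⟨g, hg⟩ : Q) : Q ⧸ Y.subgroupOf Q) =
            Additive.ofMul (QuotientGroup.mk (⟨c * g * c⁻¹ * g⁻¹, _⟩ : Q))
          rw [hmk, ← ofMul_div, div_eq_mul_inv, ← QuotientGroup.mk_inv, ← QuotientGroup.mk_mul]
          rfl
      obtain ⟨v, hv, hvu⟩ := hT hu
      have h1 : (QuotientGroup.mk v : Q ⧸ Y.subgroupOf Q) = e.toMul := by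
        rw [← hue]
        exact congrArg QuotientGroup.mk (Subtype.ext hvu)
      rw [show e = Additive.ofMul (QuotientGroup.mk v) from congrArg Additive.ofMul h1.symm]
      exact hv

end config

/-- A fixed-point-free coprime non-abelian group of operators of order `p * m` on a solvable
group: the group is metanilpotent. -/
theorem nilBy_nilpotent {A₀ : Type v} [Group A₀] [Finite A₀] {Γ : Type u} [Group Γ] [Finite Γ]
    {K : Subgroup Γ} {ι : A₀ →* Γ} {a b : A₀} {p m : ℕ}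
    (pq : PQ (⊤ : Subgroup A₀) a b p m) (h : Acts K ι) :
    NilBy (fun T _ => Group.IsNilpotent T) K := by
  refine nilBy_of_no_config closed_nilpotent inferInstance (fun Δ _ _ L κ hA V H r hc => ?_) h
  by_cases ha : κ a = 1
  · -- `b` alone is fixed-point-free
    apply hc.not_mem
    have hall : ∀ t : A₀, ∀ x : Δ, κ b * x = x * κ b → κ t * x = x * κ t := by
      intro t x hx
      have hle := pq.gen pq.a_mem pq.a_ne pq.b_mem (fun hb => pq.nc (by
        obtain ⟨k, rfl⟩ := Subgroup.mem_zpowers_iff.1 hb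
        rw [← zpow_one_add, ← zpow_add_one, add_comm]))
        (W := (Subgroup.centralizer ({x} : Set Δ)).comap κ)
        (by rw [Subgroup.mem_comap, ha]; exact one_mem _)
        (Subgroup.mem_centralizer_singleton_iff.2 hx)
      exact Subgroup.mem_centralizer_singleton_iff.1 (hle (Subgroup.mem_top t))
    have := hA.normal
    have hK : Group.IsNilpotent L := by
      refine FrobeniusNilpotent.isNilpotent_of_fpf (MulAut.conjNormal (κ b) : MulAut L)
        (fun x hx => Subtype.ext (hA.fpf x x.2 fun t => hall t _ ?_)) m pq.m_prime ?_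
      · rw [Subtype.ext_iff, MulAut.conjNormal_apply, mul_inv_eq_iff_eq_mul] at hx
        exact hx
      · rw [← map_pow, ← map_pow, pq.b_pow, map_one, map_one]
    exact closed_nilpotent.of_injective H L (Subgroup.inclusion hc.H_le)
      (Subgroup.inclusion_injective _) hK
  have hoa : orderOf (κ a) = p :=
    ((Nat.dvd_prime pq.p_prime).1 (orderOf_dvd_of_pow_eq_one (by
      rw [← map_pow, pq.a_pow, map_one]))).resolve_left fun e => ha (orderOf_eq_one_iff.1 e)
  have hinj : Function.Injective κ := by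
    rw [injective_iff_map_eq_one]
    intro t ht
    by_contra ht1
    by_cases hta : t ∈ Subgroup.zpowers a
    · obtain ⟨k, rfl⟩ := Subgroup.mem_zpowers_iff.1 hta
      apply ha
      rw [← MonoidHom.mem_ker]
      exact mem_of_zpow_mem pq.p_prime pq.a_pow
        (fun hd => ht1 (zpow_eq_one_of_dvd pq.a_pow hd)) ht
    · -- the commutator of `a` and `t` is a nontrivial power of `a` in the kernel
      have h1 := pq.commutator_ne pq.a_mem pq.a_ne (Subgroup.mem_top t) hta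
      obtain ⟨k, hk⟩ := Subgroup.mem_zpowers_iff.1 (pq.commutator_mem pq.a_mem (Subgroup.mem_top t))
      apply ha
      rw [← MonoidHom.mem_ker]
      refine mem_of_zpow_mem pq.p_prime pq.a_pow
        (fun hd => h1 (by rw [← hk, zpow_eq_one_of_dvd pq.a_pow hd])) ?_
      rw [hk, MonoidHom.mem_ker, map_mul, map_mul, map_mul, map_inv, map_inv, ht, mul_one, inv_one,
        mul_one, mul_inv_cancel]
  have pq' : PQ κ.range (κ a) (κ b) p m :=
    { p_prime := pq.p_prime, m_prime := pq.m_prime, ne := pq.ne, dvd := pq.dvd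
      card := by
        rw [← Nat.card_congr (MonoidHom.ofInjective hinj).toEquiv, ← pq.card, Subgroup.card_top]
      a_mem := ⟨a, rfl⟩, b_mem := ⟨b, rfl⟩
      a_pow := by rw [← map_pow, pq.a_pow, map_one]
      a_ne := ha
      b_pow := by rw [← map_pow, pq.b_pow, map_one]
      norm := by
        rintro _ ⟨t, rfl⟩
        rw [← MonoidHom.map_zpowers]
        exact Subgroup.le_normalizer_map κ ⟨t, pq.norm (Subgroup.mem_top t), rfl⟩
      nc := fun e => pq.nc (hinj (by rw [map_mul, map_mul]; exact e)) }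
  obtain ⟨Q, R, q, s, d⟩ := exists_QR hA hc
  by_cases hQ : ⁅Q, Q⁆ = ⊥
  · exact false_of_comm hA hc d pq' hQ
  · exact false_of_not_comm hA hc d pq' hQ

end Cfsg.Agent.FrobeniusPQ
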