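/-
A fixed-point-free automorphism of order 3 of an abelian group centralises every coprime
`p`-group it normalises.
-/
import Mathlib
import Cfsg.Agent.Lib.CoprimeAction
import Cfsg.Agent.Lib.CoprimeTools

open scoped Pointwise commutatorElement

namespace Cfsg.Agent.FrobeniusQuadratic

open Cfsg.Agent Cfsg.Agent.CoprimeAction

variable {V : Type*} [CommGroup V] [Finite V]

/-- Automorphisms as additive endomorphisms. -/
def toEnd (V : Type*) [CommGroup V] : MulAut V →* AddMonoid.End (Additive V) where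
  toFun φ := MonoidHom.toAdditive φ.toMonoidHom
  map_one' := rfl
  map_mul' _ _ := rfl

theorem toEnd_apply (φ : MulAut V) (x : Additive V) :
    toEnd V φ x = Additive.ofMul (φ x.toMul) := rfl

theorem toEnd_injective : Function.Injective (toEnd V) := fun φ ψ h =>
  MulEquiv.ext fun v => congrArg (fun F : AddMonoid.End (Additive V) =>
    (F (Additive.ofMul v)).toMul) h

/-- Sum of the powers of a fixed-point-free element of order 3. -/
theorem quadratic (g : MulAut V) (hg : g ^ 3 = 1) (hfix : ∀ v, g v = v → v = 1) :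
    1 + toEnd V g + toEnd V g * toEnd V g = 0 := by
  refine AddMonoidHom.ext fun x => ?_
  set v := x.toMul
  have h3 : g (g (g v)) = v := by
    have := DFunLike.congr_fun hg v
    simpa [pow_succ, MulAut.mul_apply] using this
  have : v * g v * g (g v) = 1 := hfix _ (by rw [map_mul, map_mul, h3]; ac_rfl)
  exact congrArg Additive.ofMul this

/-- A coprime-order automorphism with nilpotent displacement is trivial. -/
theorem eq_one_of_pow_eq_zero (d : MulAut V) (hcop : (orderOf d).Coprime (Nat.card V)) :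
    ∀ n : ℕ, (toEnd V d - 1) ^ n = 0 → d = 1 := by
  suffices key : ∀ x : Additive V, (toEnd V d - 1) ((toEnd V d - 1) x) = 0 → (toEnd V d - 1) x = 0 by
    intro n
    induction n with
    | zero =>
      intro h
      rw [pow_zero] at h
      refine toEnd_injective (AddMonoidHom.ext fun x => ?_)
      have hx : x = 0 := DFunLike.congr_fun h x
      rw [hx]
      exact (AddMonoidHom.map_zero _).trans (AddMonoidHom.map_zero _).symm
    | succ n ih =>
      intro h
      rcases n with _ | n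
      · rw [pow_one, sub_eq_zero] at h
        exact toEnd_injective (h.trans (map_one _).symm)
      · refine ih (AddMonoidHom.ext fun x => ?_)
        have h1 := DFunLike.congr_fun h x
        rw [pow_succ'] at h1
        rw [pow_succ'] at h1 ⊢
        exact key _ h1
  intro x hx
  set y := (toEnd V d - 1) x with hy
  have hdy : toEnd V d y = y := sub_eq_zero.1 hx
  have hk : ∀ k : ℕ, (toEnd V d ^ k) x = x + k • y := by
    intro k
    induction k with
    | zero => simp
    | succ k ih =>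
      rw [pow_succ', succ_nsmul, ← add_assoc]
      show toEnd V d ((toEnd V d ^ k) x) = _
      rw [ih, map_add, map_nsmul, hdy, hy]
      show toEnd V d x + _ = x + _ + (toEnd V d x - x)
      abel
  have h1 := hk (orderOf d)
  rw [← map_pow, pow_orderOf_eq_one, map_one] at h1
  have h2 : orderOf d • y = 0 := by
    have h3 : x + orderOf d • y = x + 0 := by rw [add_zero]; exact h1.symm
    exact add_left_cancel h3
  have h4 : (addOrderOf y) ∣ Nat.card V := addOrderOf_dvd_natCard y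
  exact AddMonoid.addOrderOf_eq_one_iff.1
    (Nat.eq_one_of_dvd_coprimes hcop (addOrderOf_dvd_iff_nsmul_eq_zero.2 h2) h4)

section algebra

variable {M R : Type*} [Group M] [Ring R] (ρ : M →* R)

local notation "ε" => ρ

theorem toEnd_conj (u x : M) : ρ u * ρ x * ρ u⁻¹ = ρ (u * x * u⁻¹) := by
  rw [map_mul, map_mul]

theorem cancel_right {X Y : R} (u : M) (h : X * ρ u = Y * ρ u) : X = Y := by
  have h1 := congrArg (· * ρ u⁻¹) h
  simpa [mul_assoc, ← map_mul] using h1

theorem cancel_left {X Y : R} (u : M) (h : ρ u * X = ρ u * Y) : X = Y := by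
  have h1 := congrArg (ρ u⁻¹ * ·) h
  simpa [← mul_assoc, ← map_mul] using h1

/-- The key computation. -/
theorem algebra {f y : M} {q : ℕ} (hq : q.Prime) (hq2 : q ≠ 2) (hq3 : q ≠ 3)
    {Q : Subgroup M} (hQ : IsPGroup q Q)
    (hnil : ∀ d ∈ Q, ∀ n : ℕ, (ρ d - 1) ^ n = 0 → d = 1)
    (hf : f ^ 3 = 1) (hquad : 1 + ρ f + ρ f * ρ f = 0)
    (hquad' : 1 + ρ (y * f * y⁻¹) + ρ (y * f * y⁻¹) * ρ (y * f * y⁻¹) = 0)
    (hfQ : f ∈ Subgroup.normalizer (Q : Set M))
    (hy : y ∈ Q) (hcl : ∀ a ∈ Q, ∀ b ∈ Q, ∀ g ∈ Q, ⁅a, b⁆ * g = g * ⁅a, b⁆) :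
    y * f = f * y := by
  obtain ⟨c, hc⟩ : ∃ c, c = y * f * y⁻¹ * f⁻¹ := ⟨_, rfl⟩
  obtain ⟨c', hc'⟩ : ∃ c', c' = f * c * f⁻¹ := ⟨_, rfl⟩
  obtain ⟨c'', hc''⟩ : ∃ c'', c'' = f * c' * f⁻¹ := ⟨_, rfl⟩
  obtain ⟨z, hz⟩ : ∃ z, z = ⁅c, c'⁆ := ⟨_, rfl⟩
  have hcQ : c ∈ Q := by
    have := mul_mem hy ((Subgroup.mem_normalizer_iff.1 hfQ _).1 (inv_mem hy))
    simpa [hc, mul_assoc] using this
  have hc'Q : c' ∈ Q := hc' ▸ (Subgroup.mem_normalizer_iff.1 hfQ _).1 hcQ
  have hzc : Commute z c := hz ▸ hcl _ hcQ _ hc'Q _ hcQ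
  have hzc' : Commute z c' := hz ▸ hcl _ hcQ _ hc'Q _ hc'Q
  have hzQ : z ∈ Q := by
    rw [hz, commutatorElement_def]
    exact mul_mem (mul_mem (mul_mem hcQ hc'Q) (inv_mem hcQ)) (inv_mem hc'Q)
  have hcf : c * f = y * f * y⁻¹ := by rw [hc]; group
  have hfc1 : f * c = c' * f := by rw [hc']; group
  have hfc2 : f * c' = c'' * f := by rw [hc'']; group
  have hg3 : (c * f) ^ 3 = 1 := by rw [hcf, conj_pow, hf, mul_one, mul_inv_cancel]
  have hprod : c * c' * c'' = 1 := by
    have h2 : (c * f) ^ 3 = c * c' * c'' * f ^ 3 := by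
      rw [hc'', hc', pow_succ, pow_succ, pow_one, pow_succ, pow_succ, pow_one]
      group
    rwa [h2, hf, mul_one] at hg3
  obtain ⟨C, hC⟩ : ∃ C, C = ε c := ⟨_, rfl⟩
  obtain ⟨C', hC'⟩ : ∃ C', C' = ε c' := ⟨_, rfl⟩
  obtain ⟨C'', hC''⟩ : ∃ C'', C'' = ε c'' := ⟨_, rfl⟩
  obtain ⟨F, hF⟩ : ∃ F, F = ε f := ⟨_, rfl⟩
  have hFC : F * C = C' * F := by rw [hF, hC, hC', ← map_mul, ← map_mul, hfc1]
  have hFC' : F * C' = C'' * F := by rw [hF, hC'', hC', ← map_mul, ← map_mul, hfc2]
  have hCCC : C * (C' * C'') = 1 := by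
    rw [hC, hC', hC'', ← map_mul, ← map_mul, ← mul_assoc, hprod, map_one]
  have hFF : F * F = -1 - F := by
    have h := hquad
    rw [← hF] at h
    linear_combination (norm := abel) h
  have hq1 : 1 + C * F + (C * F) * (C * F) = 0 := by
    have h := hquad'
    rw [← hcf] at h
    rwa [map_mul, ← hC, ← hF] at h
  have hE1 : (C - C * C') * F = C * C' - 1 := by
    have h1 : (C * F) * (C * F) = C * C' * (-1 - F) := by
      rw [mul_assoc, ← mul_assoc F C F, hFC, mul_assoc C' F F, hFF, ← mul_assoc]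
    rw [h1] at hq1
    linear_combination (norm := noncomm_ring) hq1
  have hE3 : (C - 1) * F = C * C' - C := by
    have h1 : (C' - C' * C'') * F = C' * C'' - 1 := by
      refine cancel_right ρ f ?_
      rw [← hF]
      calc (C' - C' * C'') * F * F = C' * F * F - C' * (C'' * F) * F := by
            rw [sub_mul, sub_mul, ← mul_assoc C' C'' F]
        _ = F * ((C - C * C') * F) := by
            rw [← hFC', ← mul_assoc C' F C', ← hFC, sub_mul, mul_sub]
            simp only [mul_assoc]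
        _ = F * (C * C' - 1) := by rw [hE1]
        _ = (C' * C'' - 1) * F := by
            rw [mul_sub, mul_one, sub_mul, one_mul, ← mul_assoc, hFC, mul_assoc C' F C', hFC',
              ← mul_assoc]
    have h4 := congrArg (C * ·) h1
    simp only [mul_sub, ← mul_assoc, mul_one] at h4
    rw [mul_assoc C C' C'', hCCC] at h4
    linear_combination (norm := noncomm_ring) hE1 + h4
  have hord : ∀ {d : M} {k : ℕ}, d ∈ Q → d ^ k = 1 → k.Prime → k ≠ q → d = 1 := by
    intro d k hd hdk hk hkq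
    obtain ⟨i, hi⟩ := hQ ⟨d, hd⟩
    exact orderOf_eq_one_iff.1 (Nat.eq_one_of_dvd_coprimes
      ((Nat.coprime_primes hk hq).2 hkq |>.pow_right i) (orderOf_dvd_of_pow_eq_one hdk)
      (orderOf_dvd_of_pow_eq_one (congrArg Subtype.val hi)))
  have hcfc : c * f * c⁻¹ = c * c'⁻¹ * f := by rw [hc']; group
  have hz1 : z = 1 := by
    obtain ⟨Z, hZ⟩ : ∃ Z, Z = ε z := ⟨_, rfl⟩
    have hzi : Commute z⁻¹ c'⁻¹ := hzc'.inv_inv
    have hk1 : c * c' = z * c' * c := by rw [hz, commutatorElement_def]; group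
    have hA : c' * c * c'⁻¹ = z⁻¹ * c := by rw [hz, commutatorElement_def]; group
    have hB : c'⁻¹ * c * c' = z * c := by
      calc c'⁻¹ * c * c' = c'⁻¹ * (c * c') := mul_assoc _ _ _
        _ = c'⁻¹ * (z * c' * c) := by rw [hk1]
        _ = c'⁻¹ * (c' * z * c) := by rw [hzc'.eq]
        _ = _ := by group
    have hcc1 : c * c'⁻¹ * c⁻¹ = z⁻¹ * c'⁻¹ := by
      have h1 : c * c' * c⁻¹ = z * c' := by rw [hk1]; group
      calc c * c'⁻¹ * c⁻¹ = (c * c' * c⁻¹)⁻¹ := by group
        _ = (z * c')⁻¹ := by rw [h1]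
        _ = _ := by rw [mul_inv_rev, hzi.eq]
    -- conjugate `hE3` by `c'`
    have h1 : (ε (z⁻¹ * c) - 1) * ε (c' * (c * c') * f) = ε (z⁻¹ * c) * C' - ε (z⁻¹ * c) := by
      have hcf' : c' * f * c'⁻¹ = c' * (c * c') * f := by
        have h1 : c * c' = c''⁻¹ := eq_inv_of_mul_eq_one_left hprod
        rw [h1, hc'']; group
      have e : ∀ X Y : R, ε c' * (X * Y) * ε c'⁻¹ =
          (ε c' * X * ε c'⁻¹) * (ε c' * Y * ε c'⁻¹) := fun X Y => by
        have : ε c'⁻¹ * ε c' = 1 := by rw [← map_mul, inv_mul_cancel, map_one]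
        simp only [mul_assoc]
        rw [← mul_assoc (ε c'⁻¹) (ε c') (Y * _), this, one_mul]
      have h2 := congrArg (fun X => ε c' * X * ε c'⁻¹) hE3
      simp only [mul_sub, sub_mul, e, mul_one] at h2
      rw [hC, hC', hF, toEnd_conj, toEnd_conj, toEnd_conj, hA, hcf', ← map_mul ρ c' c'⁻¹,
        mul_inv_cancel, map_one, one_mul, mul_inv_cancel_right] at h2
      rw [sub_mul, one_mul, hC']
      exact h2
    -- `(z c - 1) f = c'⁻¹ - c'⁻²`
    have h2 : (ε (z * c) - 1) * F = ε c'⁻¹ - ε (c'⁻¹ * c'⁻¹) := by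
      have k1 : z⁻¹ * c * (c' * c') * (z * c * f) = z⁻¹ * c * (c' * (c * c') * f) := by
        have : c' * c' * (z * c) = c' * (c * c') := by rw [← hB]; group
        simp only [← mul_assoc] at this ⊢
        simp only [mul_assoc] at this ⊢
        rw [← mul_assoc c' c' _, ← mul_assoc z c f, ← mul_assoc (c' * c') (z * c) f]
        rw [show c' * c' * (z * c) = c' * (c * c') by simpa [mul_assoc] using this]
        simp only [mul_assoc]
      have k2 : z⁻¹ * c * (c' * c') * f = c' * (c * c') * f := by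
        rw [← hA]; group
      have k3 : z⁻¹ * c * (c' * c') * c'⁻¹ = z⁻¹ * c * c' := by group
      have k4 : z⁻¹ * c * (c' * c') * (c'⁻¹ * c'⁻¹) = z⁻¹ * c := by group
      refine cancel_left ρ (z⁻¹ * c * (c' * c')) ?_
      rw [sub_mul, one_mul, hC'] at h1
      rw [sub_mul, one_mul, mul_sub, mul_sub, hF]
      simp only [← map_mul] at h1 ⊢
      rw [k1, k2, k3, k4]
      exact h1
    have hP : (Z - 1) * F = ε c'⁻¹ - ε (c'⁻¹ * c'⁻¹) - (ε (z * (c * c')) - ε (z * c)) := by
      have e : ε (z * (c * c')) - ε (z * c) = Z * ((C - 1) * F) := by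
        rw [hE3, hZ, hC, hC', mul_sub]
        simp only [← map_mul]
      rw [← h2, e, hZ, hC, map_mul]
      noncomm_ring
    -- conjugate by `c`
    have e : ∀ X Y : R, ε c * (X * Y) * ε c⁻¹ =
        (ε c * X * ε c⁻¹) * (ε c * Y * ε c⁻¹) := fun X Y => by
      have : ε c⁻¹ * ε c = 1 := by rw [← map_mul, inv_mul_cancel, map_one]
      simp only [mul_assoc]
      rw [← mul_assoc (ε c⁻¹) (ε c) (Y * _), this, one_mul]
    have hI := congrArg (fun X => ε c * X * ε c⁻¹) hP
    have hcz : c * z * c⁻¹ = z := by rw [← hzc.eq, mul_inv_cancel_right]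
    have hI' : ε c * ((Z - 1) * F) * ε c⁻¹ = ε (c * c'⁻¹) * ((Z - 1) * F) := by
      rw [e, mul_sub, sub_mul, mul_one, hZ, hF, toEnd_conj, toEnd_conj, hcz, hcfc, ← map_mul,
        mul_inv_cancel, map_one, sub_mul, one_mul, sub_mul, one_mul, mul_sub]
      simp only [← map_mul]
      congr 2
      simp only [← mul_assoc]
      exact congrArg (· * f) (by simpa [← mul_assoc] using (hzc.mul_right hzc'.inv_right).eq)
    rw [hI', hP] at hI
    simp only [mul_sub, sub_mul, toEnd_conj, ← map_mul] at hI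
    -- the three eigen-components for conjugation by `c'`
    obtain ⟨A, hAdef⟩ : ∃ A, A = ε (z⁻¹ * c'⁻¹) - ε (z⁻¹ * z⁻¹ * (c'⁻¹ * c'⁻¹)) := ⟨_, rfl⟩
    obtain ⟨B₁, hB1⟩ : ∃ B, B = ε (z * c) - ε (z * z * (c * c')) -
        (ε (c * (c'⁻¹ * c'⁻¹)) - ε (c * (c'⁻¹ * (c'⁻¹ * c'⁻¹)))) := ⟨_, rfl⟩
    obtain ⟨B₂, hB2⟩ : ∃ B, B = ε (z * z * (c * c)) - ε (z * z * (c * c * c'⁻¹)) := ⟨_, rfl⟩
    have hsum : A + B₁ + B₂ = 0 := by
      have a1 : c * (c'⁻¹ * c'⁻¹) * c⁻¹ = z⁻¹ * z⁻¹ * (c'⁻¹ * c'⁻¹) := by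
        calc c * (c'⁻¹ * c'⁻¹) * c⁻¹ = (c * c'⁻¹ * c⁻¹) * (c * c'⁻¹ * c⁻¹) := by group
          _ = (z⁻¹ * c'⁻¹) * (z⁻¹ * c'⁻¹) := by rw [hcc1]
          _ = z⁻¹ * (c'⁻¹ * z⁻¹) * c'⁻¹ := by group
          _ = z⁻¹ * (z⁻¹ * c'⁻¹) * c'⁻¹ := by rw [hzi.eq]
          _ = _ := by group
      have a2 : c * (z * (c * c')) * c⁻¹ = z * z * (c * c') := by
        calc c * (z * (c * c')) * c⁻¹ = (c * z) * (c * c' * c⁻¹) := by group
          _ = (z * c) * (z * c' * c * c⁻¹) := by rw [← hzc.eq, hk1]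
          _ = z * (c * z) * c' := by group
          _ = _ := by rw [← hzc.eq]; group
      have a3 : c * (z * c) * c⁻¹ = z * c := by
        calc c * (z * c) * c⁻¹ = c * z := by group
          _ = _ := hzc.eq.symm
      have b1 : c * c'⁻¹ * c'⁻¹ = c * (c'⁻¹ * c'⁻¹) := mul_assoc _ _ _
      have b2 : c * c'⁻¹ * (c'⁻¹ * c'⁻¹) = c * (c'⁻¹ * (c'⁻¹ * c'⁻¹)) := mul_assoc _ _ _
      have b3 : c * c'⁻¹ * (z * (c * c')) = z * z * (c * c) := by
        calc c * c'⁻¹ * (z * (c * c')) = c * (c'⁻¹ * z) * (c * c') := by group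
          _ = c * (z * c'⁻¹) * (c * c') := by rw [hzc'.inv_right.eq]
          _ = (c * z) * (c'⁻¹ * c * c') := by group
          _ = (z * c) * (z * c) := by rw [hB, ← hzc.eq]
          _ = z * (c * z) * c := by group
          _ = _ := by rw [← hzc.eq]; group
      have b4 : c * c'⁻¹ * (z * c) = z * z * (c * c * c'⁻¹) := by
        calc c * c'⁻¹ * (z * c) = c * c'⁻¹ * (z * (c * c')) * c'⁻¹ := by group
          _ = _ := by rw [b3]; group
      rw [hcc1, a1, a2, a3, b1, b2, b3, b4] at hI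
      rw [hAdef, hB1, hB2]
      linear_combination (norm := abel) -hI
    have hκ : ∀ (x : M) (k : ℤ), c' * x * c'⁻¹ = z ^ k * x →
        ε c' * ε x * ε c'⁻¹ = ε (z ^ k) * ε x := fun x k hx => by
      rw [toEnd_conj, hx, map_mul]
    have hfixz : ∀ k : ℤ, c' * z ^ k * c'⁻¹ = z ^ k := fun k => by
      rw [← (hzc'.zpow_left k).eq, mul_inv_cancel_right]
    have hκA : ε c' * A * ε c'⁻¹ = A := by
      have e1 : c' * (z⁻¹ * c'⁻¹) * c'⁻¹ = z⁻¹ * c'⁻¹ := by
        calc c' * (z⁻¹ * c'⁻¹) * c'⁻¹ = c' * z⁻¹ * c'⁻¹ * c'⁻¹ := by group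
          _ = _ := by rw [← hzc'.inv_left.eq]; group
      have e2 : c' * (z⁻¹ * z⁻¹ * (c'⁻¹ * c'⁻¹)) * c'⁻¹ = z⁻¹ * z⁻¹ * (c'⁻¹ * c'⁻¹) := by
        calc c' * (z⁻¹ * z⁻¹ * (c'⁻¹ * c'⁻¹)) * c'⁻¹
            = c' * (z⁻¹ * z⁻¹) * (c'⁻¹ * c'⁻¹) * c'⁻¹ := by group
          _ = _ := by rw [← (hzc'.inv_left.mul_left hzc'.inv_left).eq]; group
      rw [hAdef, mul_sub, sub_mul, toEnd_conj, toEnd_conj, e1, e2]
    -- conjugates of monomials
    have hstep : ∀ (w x : M) (i : ℤ), Commute w c' → c' * x * c'⁻¹ = z ^ i * x → Commute w z →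
        c' * (w * x) * c'⁻¹ = z ^ i * (w * x) := by
      intro w x i hw hx hwz
      calc c' * (w * x) * c'⁻¹ = (c' * w) * x * c'⁻¹ := by group
        _ = w * (c' * x * c'⁻¹) := by rw [← hw.eq]; group
        _ = w * z ^ i * x := by rw [hx]; group
        _ = _ := by rw [(hwz.zpow_right i).eq]; group
    have hx1 : ∀ j : ℤ, c' * (c * c' ^ j) * c'⁻¹ = z ^ (-1 : ℤ) * (c * c' ^ j) := by
      intro j
      calc c' * (c * c' ^ j) * c'⁻¹ = (c' * c * c'⁻¹) * c' ^ j := by group
        _ = _ := by rw [hA, zpow_neg_one, mul_assoc]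
    have hx2 : ∀ j : ℤ, c' * (c * c * c' ^ j) * c'⁻¹ = z ^ (-2 : ℤ) * (c * c * c' ^ j) := by
      intro j
      calc c' * (c * c * c' ^ j) * c'⁻¹ = (c' * c * c'⁻¹) * (c' * c * c'⁻¹) * c' ^ j := by group
        _ = z⁻¹ * (c * z⁻¹) * c * c' ^ j := by rw [hA]; group
        _ = _ := by rw [← hzc.inv_left.eq]; group
    have hzc'2 : Commute (z * z) c' := hzc'.mul_left hzc'
    have hκ1 : ε c' * B₁ * ε c'⁻¹ = ε (z ^ (-1 : ℤ)) * B₁ := by
      rw [hB1]
      simp only [mul_sub, sub_mul]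
      rw [hκ _ _ (hstep z c (-1) hzc' (by simpa using hx1 0) (Commute.refl z)),
        hκ _ _ (hstep (z * z) (c * c') (-1) hzc'2 (by simpa using hx1 1)
          ((Commute.refl z).mul_left (Commute.refl z))),
        hκ _ _ (show c' * (c * (c'⁻¹ * c'⁻¹)) * c'⁻¹ = z ^ (-1 : ℤ) * (c * (c'⁻¹ * c'⁻¹)) by
          have := hx1 (-2)
          rwa [show c' ^ (-2 : ℤ) = c'⁻¹ * c'⁻¹ by group] at this),
        hκ _ _ (show c' * (c * (c'⁻¹ * (c'⁻¹ * c'⁻¹))) * c'⁻¹ =
            z ^ (-1 : ℤ) * (c * (c'⁻¹ * (c'⁻¹ * c'⁻¹))) by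
          have := hx1 (-3)
          rwa [show c' ^ (-3 : ℤ) = c'⁻¹ * (c'⁻¹ * c'⁻¹) by group] at this)]
    have hκ2 : ε c' * B₂ * ε c'⁻¹ = ε (z ^ (-2 : ℤ)) * B₂ := by
      rw [hB2]
      simp only [mul_sub, sub_mul]
      rw [hκ _ _ (hstep (z * z) (c * c) (-2) hzc'2 (by simpa using hx2 0)
          ((Commute.refl z).mul_left (Commute.refl z))),
        hκ _ _ (hstep (z * z) (c * c * c'⁻¹) (-2) hzc'2 (by simpa using hx2 (-1))
          ((Commute.refl z).mul_left (Commute.refl z)))]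
    have hκz : ∀ (k : ℤ) (X : R), ε c' * (ε (z ^ k) * X) * ε c'⁻¹ =
        ε (z ^ k) * (ε c' * X * ε c'⁻¹) := fun k X => by
      rw [← mul_assoc, ← map_mul, ← (hzc'.zpow_left k).eq, map_mul]
      simp only [mul_assoc]
    have heq1 : A + ε (z ^ (-1 : ℤ)) * B₁ + ε (z ^ (-2 : ℤ)) * B₂ = 0 := by
      have := congrArg (fun X => ε c' * X * ε c'⁻¹) hsum
      simpa only [mul_add, add_mul, hκA, hκ1, hκ2, mul_zero, zero_mul] using this
    have heq2 : A + ε (z ^ (-1 : ℤ)) * (ε (z ^ (-1 : ℤ)) * B₁) +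
        ε (z ^ (-2 : ℤ)) * (ε (z ^ (-2 : ℤ)) * B₂) = 0 := by
      have := congrArg (fun X => ε c' * X * ε c'⁻¹) heq1
      simpa only [mul_add, add_mul, hκA, hκz, hκ1, hκ2, mul_zero, zero_mul] using this
    have hA0 : (Z - 1) * (Z - 1) * (Z + 1) * A = 0 := by
      have f1 := congrArg (Z * Z * ·) heq1
      have f2 := congrArg (Z * Z * (Z * Z) * ·) heq2
      simp only [mul_add, mul_zero, hZ, ← mul_assoc, ← map_mul] at f1 f2
      rw [show z * z * z ^ (-1 : ℤ) = z by group, show z * z * z ^ (-2 : ℤ) = 1 by group,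
        map_one, one_mul, map_mul, ← hZ] at f1
      rw [show z * z * z * z * z ^ (-1 : ℤ) * z ^ (-1 : ℤ) = z * z by group,
        show z * z * z * z * z ^ (-2 : ℤ) * z ^ (-2 : ℤ) = 1 by group,
        map_one, one_mul, map_mul, map_mul, map_mul, ← hZ] at f2
      have g1 : (Z * Z - 1) * A + (Z - 1) * B₁ = 0 := by
        linear_combination (norm := noncomm_ring) f1 - hsum
      have g2 : (Z * Z * Z * Z - 1) * A + (Z * Z - 1) * B₁ = 0 := by
        linear_combination (norm := noncomm_ring) f2 - hsum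
      have g3 := congrArg ((Z + 1) * ·) g1
      simp only [mul_zero] at g3
      have g4 : Z * ((Z - 1) * (Z - 1) * (Z + 1) * A) = 0 := by
        linear_combination (norm := noncomm_ring) g2 - g3
      exact cancel_left ρ z (by rw [← hZ, g4, mul_zero])
    -- remove `c'`
    have hA1 : (Z - 1) * (Z - 1) * (Z + 1) * (Z * C' - 1) = 0 := by
      have h := congrArg (· * ε (z * z * (c' * c'))) hA0
      rw [hAdef] at h
      simp only [mul_sub, sub_mul, zero_mul, mul_assoc, ← map_mul] at h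
      rw [show z⁻¹ * (c'⁻¹ * (z * (z * (c' * c')))) = z * c' by
          rw [← mul_assoc c'⁻¹ z, ← hzc'.inv_right.eq, mul_assoc z, ← mul_assoc c'⁻¹ z,
            ← hzc'.inv_right.eq]
          group,
        show z⁻¹ * (z⁻¹ * (c'⁻¹ * (c'⁻¹ * (z * (z * (c' * c')))))) = 1 by
          rw [← mul_assoc c'⁻¹ z, ← hzc'.inv_right.eq, mul_assoc z, ← mul_assoc c'⁻¹ z,
            ← hzc'.inv_right.eq, mul_assoc z, ← mul_assoc c'⁻¹ z, ← hzc'.inv_right.eq, mul_assoc z,
            ← mul_assoc c'⁻¹ z, ← hzc'.inv_right.eq]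
          group] at h
      simp only [map_one, mul_one, map_mul, ← hZ, ← hC'] at h
      linear_combination (norm := noncomm_ring) h
    have hA2 : (Z - 1) * (Z - 1) * (Z + 1) * (Z * (Z * C') - 1) = 0 := by
      have h := congrArg (fun X => ε c * X * ε c⁻¹) hA1
      simp only [mul_zero, zero_mul, e, mul_sub, sub_mul, mul_add, add_mul, mul_one] at h
      simp only [hZ, hC', toEnd_conj, ← map_mul, mul_inv_cancel, map_one, hcz,
        show c * c' * c⁻¹ = z * c' by rw [hk1]; group, one_mul, mul_one] at h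
      simp only [hZ, hC', mul_sub, sub_mul, mul_add, add_mul, mul_one, one_mul, mul_assoc, ← map_mul]
      simp only [mul_assoc] at h
      exact h
    have hA3 : (Z - 1) * (Z - 1) * (Z - 1) * (Z + 1) = 0 := by
      have h : (Z - 1) * (Z - 1) * (Z - 1) * (Z + 1) * (Z * C') = 0 := by
        linear_combination (norm := noncomm_ring) hA2 - hA1
      exact cancel_right ρ (z * c') (by rw [map_mul, ← hZ, ← hC', h, zero_mul])
    have hA4 : (ε (z * z) - 1) ^ 3 = 0 := by
      have h := congrArg (· * ((Z + 1) * (Z + 1))) hA3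
      simp only [zero_mul] at h
      rw [map_mul, ← hZ]
      linear_combination (norm := noncomm_ring) h
    have hzz : z * z = 1 := hnil _ (mul_mem hzQ hzQ) 3 hA4
    exact hord hzQ (by rw [pow_two, hzz]) Nat.prime_two (Ne.symm hq2)
  -- `c` and `c'` commute
  have hcc' : Commute c c' := by
    rw [hz] at hz1
    exact commutatorElement_eq_one_iff_mul_comm.1 hz1
  have hCC' : Commute C C' := by rw [hC, hC']; exact hcc'.map _
  have hc1 : (C - 1) * (C * (C * C) - 1) * (C - 1) = 0 := by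
    have e : ∀ X Y : R, ε c * (X * Y) * ε c⁻¹ =
        (ε c * X * ε c⁻¹) * (ε c * Y * ε c⁻¹) := fun X Y => by
      have : ε c⁻¹ * ε c = 1 := by rw [← map_mul, inv_mul_cancel, map_one]
      simp only [mul_assoc]
      rw [← mul_assoc (ε c⁻¹) (ε c) (Y * _), this, one_mul]
    have h1 := congrArg (fun X => ε c * X * ε c⁻¹) hE3
    simp only [mul_sub, sub_mul, e, mul_one] at h1
    rw [hC, hC', hF, toEnd_conj, toEnd_conj, toEnd_conj, hcfc, ← map_mul ρ c c⁻¹,
      mul_inv_cancel, map_one, one_mul, mul_inv_cancel_right, hcc'.eq, mul_inv_cancel_right] at h1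
    simp only [← map_mul] at h1
    rw [map_mul _ c (c * c'⁻¹ * f), map_mul _ c c', ← hC, ← hC'] at h1
    have h2 : (C - 1) * (C - C') = 0 := by
      refine cancel_right ρ (c'⁻¹ * f) ?_
      rw [zero_mul]
      have e1 : C * ε (c'⁻¹ * f) = ε (c * c'⁻¹ * f) := by rw [hC, ← map_mul, mul_assoc]
      have e2 : C' * ε (c'⁻¹ * f) = F := by rw [hC', hF, ← map_mul, mul_inv_cancel_left]
      rw [mul_assoc, sub_mul C C', e1, e2, mul_sub, sub_mul, one_mul]
      rw [hE3]
      linear_combination (norm := abel) h1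
    have hCc : Commute (C - 1) C := (Commute.refl C).sub_left (Commute.one_left C)
    have h4 : (C - 1) * (C - 1) * F = C * ((C - 1) * (C - 1)) := by
      have h5 : (C - 1) * C' = (C - 1) * C := by
        linear_combination (norm := noncomm_ring) -h2
      calc (C - 1) * (C - 1) * F = (C - 1) * (C * C' - C) := by rw [mul_assoc, hE3]
        _ = C * ((C - 1) * C') - (C - 1) * C := by noncomm_ring
        _ = _ := by rw [h5]; noncomm_ring
    have hFFF : F * F * F = 1 := by
      rw [hF, ← map_mul, ← map_mul]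
      have : f * f * f = 1 := by rw [← hf, pow_succ, pow_two]
      rw [this, map_one]
    have h6 : (C - 1) * (C - 1) = C * (C * C) * ((C - 1) * (C - 1)) := by
      calc (C - 1) * (C - 1) = (C - 1) * (C - 1) * F * F * F := by
            rw [mul_assoc, mul_assoc, ← mul_assoc F F F, hFFF, mul_one]
        _ = C * ((C - 1) * (C - 1)) * F * F := by rw [h4]
        _ = C * ((C - 1) * (C - 1) * F) * F := by noncomm_ring
        _ = C * (C * ((C - 1) * (C - 1))) * F := by rw [h4]
        _ = C * C * ((C - 1) * (C - 1) * F) := by noncomm_ring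
        _ = _ := by rw [h4]; noncomm_ring
    linear_combination (norm := noncomm_ring) -h6
  have hc3 : c ^ 3 = 1 := by
    refine hnil _ (pow_mem hcQ 3) 3 ?_
    have h := congrArg ((C * C + C + 1) * · * (C * C + C + 1)) hc1
    simp only [mul_zero, zero_mul] at h
    rw [map_pow, ← hC]
    linear_combination (norm := noncomm_ring) h
  have := hord hcQ hc3 Nat.prime_three (Ne.symm hq3)
  rw [hc, mul_inv_eq_one, mul_inv_eq_iff_eq_mul] at this
  exact this

end algebra

/-- A fixed-point-free automorphism `f` of order 3 of an abelian group centralises a coprime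
`q`-group of class two that it normalises. -/
theorem commutator_eq_one {f y : MulAut V} {q : ℕ} (hq : q.Prime) (hq2 : q ≠ 2) (hq3 : q ≠ 3)
    {Q : Subgroup (MulAut V)} (hQ : IsPGroup q Q) (hQV : (Nat.card Q).Coprime (Nat.card V))
    (hf : f ^ 3 = 1) (hfix : ∀ v, f v = v → v = 1)
    (hfQ : f ∈ Subgroup.normalizer (Q : Set (MulAut V))) (hy : y ∈ Q)
    (hcl : ∀ a ∈ Q, ∀ b ∈ Q, ∀ g ∈ Q, ⁅a, b⁆ * g = g * ⁅a, b⁆) : y * f = f * y := by
  refine algebra (toEnd V) hq hq2 hq3 hQ
    (fun d hd n => eq_one_of_pow_eq_zero d (hQV.coprime_dvd_left (Subgroup.orderOf_dvd_natCard _ hd)) n)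
    hf (quadratic f hf hfix) (quadratic _ (by rw [conj_pow, hf, mul_one, mul_inv_cancel])
      fun v hv => ?_) hfQ hy hcl
  have h1 : f (y⁻¹ v) = y⁻¹ v := by
    have := congrArg (fun w => y⁻¹ w) hv
    simpa [MulAut.mul_apply] using this
  have := congrArg y (hfix _ h1)
  simpa using this

/-- A fixed-point-free automorphism of order 3 centralises every coprime `q`-group it normalises. -/
theorem le_centralizer_of_fpf {f : MulAut V} {q : ℕ} [hqF : Fact q.Prime] (hq2 : q ≠ 2) (hq3 : q ≠ 3)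
    (hf : f ^ 3 = 1) (hfix : ∀ v, f v = v → v = 1) :
    ∀ (n : ℕ) (Q : Subgroup (MulAut V)), Nat.card Q ≤ n → IsPGroup q Q →
      (Nat.card Q).Coprime (Nat.card V) → f ∈ Subgroup.normalizer (Q : Set (MulAut V)) →
      Subgroup.zpowers f ≤ Subgroup.centralizer (Q : Set (MulAut V)) := by
  intro n
  induction n with
  | zero => intro Q hn; exact absurd (Nat.card_pos (α := Q)) (by omega)
  | succ n ih =>
    intro Q hn hQ hQV hfQ
    set A := Subgroup.zpowers f with hA
    have hAQ : A ≤ Subgroup.normalizer (Q : Set (MulAut V)) := Subgroup.zpowers_le.2 hfQ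
    have hcop : (Nat.card A).Coprime (Nat.card Q) := by
      obtain ⟨k, hk⟩ := IsPGroup.iff_card.1 hQ
      rw [hA, Nat.card_zpowers, hk]
      exact (((Nat.coprime_primes Nat.prime_three hqF.out).2 (Ne.symm hq3)).pow_right k).coprime_dvd_left
        (orderOf_dvd_of_pow_eq_one hf)
    have : Group.IsNilpotent Q := hQ.isNilpotent
    have hsolv : Group.IsSolvable A ∨ Group.IsSolvable Q := Or.inr inferInstance
    have hlt : ∀ L : Subgroup (MulAut V), L ≤ Q → L ≠ Q → f ∈ Subgroup.normalizer (L : Set (MulAut V)) →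
        A ≤ Subgroup.centralizer (L : Set (MulAut V)) := fun L hL hne hfL => by
      have : Nat.card L < Nat.card Q :=
        lt_of_le_of_ne (Subgroup.card_le_of_le hL) fun e => hne (Subgroup.eq_of_le_of_card_ge hL e.ge)
      exact ih L (by omega) (hQ.to_le hL) (hQV.coprime_dvd_left (Subgroup.card_dvd_of_le hL)) hfL
    by_cases h1 : ⁅Q, A⁆ = Q
    · have hDQ : ⁅Q, Q⁆ ≤ Q := Subgroup.commutator_le_self Q
      have hDf : A ≤ Subgroup.centralizer ((⁅Q, Q⁆ : Subgroup (MulAut V)) : Set (MulAut V)) := by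
        by_cases hD : ⁅Q, Q⁆ = Q
        · have : Q = ⊥ := by
            by_contra hne
            have : Nontrivial Q := (Subgroup.nontrivial_iff_ne_bot Q).2 hne
            apply (Group.IsSolvable.commutator_lt_top_of_nontrivial Q).ne
            apply Subgroup.map_injective Q.subtype_injective
            rw [Subgroup.map_subtype_commutator, hD, ← MonoidHom.range_eq_map, Subgroup.range_subtype]
          rw [hD, this]
          intro x _ y hy
          rw [Subgroup.mem_bot.1 hy, one_mul, mul_one]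
        · exact hlt _ hDQ hD (CoprimeTools.le_normalizer_commutator_of_le hAQ hAQ
            (Subgroup.mem_zpowers f))
      have e1 : ⁅⁅Q, A⁆, ⁅Q, Q⁆⁆ = ⊥ := by
        refine Subgroup.commutator_commutator_eq_bot_of_rotate ?_ ?_
        · rw [Subgroup.commutator_eq_bot_iff_le_centralizer.2 hDf, Subgroup.commutator_bot_left]
        · refine le_bot_iff.1 (le_trans (Subgroup.commutator_mono
            (commutator_le_self_of_le_normalizer (Subgroup.normalizer_commutator_ge_right Q Q))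
            le_rfl) ?_)
          rw [Subgroup.commutator_comm, Subgroup.commutator_eq_bot_iff_le_centralizer.2 hDf]
      rw [h1, Subgroup.commutator_eq_bot_iff_le_centralizer] at e1
      have hcl : ∀ a ∈ Q, ∀ b ∈ Q, ∀ g ∈ Q, ⁅a, b⁆ * g = g * ⁅a, b⁆ := fun a ha b hb g hg =>
        e1 hg _ (Subgroup.commutator_mem_commutator ha hb)
      refine Subgroup.zpowers_le.2 fun y hy => ?_
      exact commutator_eq_one hqF.out hq2 hq3 hQ hQV hf hfix hfQ hy hcl
    · refine le_centralizer_of_commutator_commutator_eq_bot hAQ hcop hsolv ?_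
      rw [Subgroup.commutator_comm, Subgroup.commutator_eq_bot_iff_le_centralizer]
      exact hlt _ (commutator_le_self_of_le_normalizer hAQ) h1
        (Subgroup.normalizer_commutator_ge_right Q A (Subgroup.mem_zpowers f))

omit [Finite V] in
/-- The same inside an ambient group: `[Q, f]` centralises `W` when `f` is fixed-point-free of
order 3 on `W`. -/
theorem comm_mem_centralizer {G : Type*} [Group G] [Finite G] {W Q : Subgroup G} {f : G} {q : ℕ}
    [hqF : Fact q.Prime] (hq2 : q ≠ 2) (hq3 : q ≠ 3) (hW : ∀ x ∈ W, ∀ y ∈ W, x * y = y * x)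
    (hQ : IsPGroup q Q) (hQW : (Nat.card Q).Coprime (Nat.card W))
    (hQn : Q ≤ Subgroup.normalizer (W : Set G)) (hfn : f ∈ Subgroup.normalizer (W : Set G))
    (hf : f ^ 3 = 1) (hfix : W ⊓ Subgroup.centralizer ({f} : Set G) = ⊥)
    (hfQ : f ∈ Subgroup.normalizer (Q : Set G)) {y : G} (hy : y ∈ Q) :
    y * f * y⁻¹ * f⁻¹ ∈ Subgroup.centralizer (W : Set G) := by
  let _ : CommGroup W := { (inferInstance : Group W) with
    mul_comm := fun a b => Subtype.ext (hW a a.2 b b.2) }
  let c : ↥(Subgroup.normalizer (W : Set G)) →* MulAut W :=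
    { toFun := fun g =>
        { toFun := fun w => ⟨(g : G) * w * (g : G)⁻¹, conj_mem g.2 w.2⟩
          invFun := fun w => ⟨(g : G)⁻¹ * w * g, by simpa using conj_mem (inv_mem g.2) w.2⟩
          left_inv := fun w => Subtype.ext (by simp [mul_assoc])
          right_inv := fun w => Subtype.ext (by simp [mul_assoc])
          map_mul' := fun a b => Subtype.ext (by simp [mul_assoc]) }
      map_one' := MulEquiv.ext fun w => Subtype.ext (by simp)
      map_mul' := fun a b => MulEquiv.ext fun w => Subtype.ext (by simp [mul_assoc]) }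
  set Q' := (Q.subgroupOf (Subgroup.normalizer (W : Set G))).map c
  have hcard : Nat.card Q' ∣ Nat.card Q :=
    (Subgroup.card_map_dvd _ c).trans (dvd_of_eq (Nat.card_congr (Subgroup.subgroupOfEquivOfLe hQn).toEquiv))
  have hQ' : IsPGroup q Q' := (hQ.of_equiv (Subgroup.subgroupOfEquivOfLe hQn).symm).map c
  have hfQ' : c ⟨f, hfn⟩ ∈ Subgroup.normalizer (Q' : Set (MulAut W)) :=
    Subgroup.le_normalizer_map c ⟨⟨f, hfn⟩, Subgroup.mem_normalizer_iff.2 fun z =>
      Subgroup.mem_normalizer_iff.1 hfQ z, rfl⟩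
  have hfix' : ∀ w : W, c ⟨f, hfn⟩ w = w → w = 1 := fun w hw => Subtype.ext (by
    have : (w : G) ∈ W ⊓ Subgroup.centralizer ({f} : Set G) :=
      ⟨w.2, Subgroup.mem_centralizer_singleton_iff.2 (mul_inv_eq_iff_eq_mul.1 (congrArg Subtype.val hw)).symm⟩
    rw [hfix, Subgroup.mem_bot] at this
    exact this)
  have hpow : (c ⟨f, hfn⟩) ^ 3 = 1 := by
    rw [← map_pow]
    have e : (⟨f, hfn⟩ : ↥(Subgroup.normalizer (W : Set G))) ^ 3 = 1 := Subtype.ext hf
    rw [e, map_one]
  have h2 := le_centralizer_of_fpf (q := q) hq2 hq3 hpow hfix' _ Q' le_rfl hQ'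
    (hQW.coprime_dvd_left hcard) hfQ' (Subgroup.mem_zpowers _) (c ⟨y, hQn hy⟩) ⟨⟨y, hQn hy⟩, hy, rfl⟩
  have h3 : c (⟨y, hQn hy⟩ * ⟨f, hfn⟩ * ⟨y, hQn hy⟩⁻¹ * ⟨f, hfn⟩⁻¹) = 1 := by
    rw [map_mul, map_mul, map_mul, map_inv, map_inv, mul_inv_eq_one, mul_inv_eq_iff_eq_mul]
    exact h2
  intro w hw
  have h4 : y * f * y⁻¹ * f⁻¹ * w * (y * f * y⁻¹ * f⁻¹)⁻¹ = w :=
    congrArg Subtype.val (DFunLike.congr_fun h3 (⟨w, hw⟩ : W))
  exact (mul_inv_eq_iff_eq_mul.1 h4).symm

end Cfsg.Agent.FrobeniusQuadratic
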