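import Mathlib

/-!
# Congruences for the power sums of algebraic integers

* `frobenius_modEq` : `v₁ ^ p ≡ v_p (mod p)` for integer power sums.
* `two_four_eq` : if the first, second and fourth power sums are signs, the last two agree.
-/

set_option autoImplicit false

namespace Cfsg.Agent.RootSumCongr

theorem exists_frobenius {R : Type*} [CommRing R] {p : ℕ} (hp : p.Prime) {ι : Type*} (t : Finset ι)
    (f : ι → R) : ∃ r : R, (∑ i ∈ t, f i) ^ p = (∑ i ∈ t, f i ^ p) + (p : R) * r := by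
  classical
  induction t using Finset.induction with
  | empty => exact ⟨0, by simp [zero_pow hp.ne_zero]⟩
  | insert a t ha ih =>
    obtain ⟨r, hr⟩ := ih
    obtain ⟨r', hr'⟩ := exists_add_pow_prime_eq hp (f a) (∑ i ∈ t, f i)
    refine ⟨r + f a * (∑ i ∈ t, f i) * r', ?_⟩
    rw [Finset.sum_insert ha, Finset.sum_insert ha, hr', hr]
    ring

theorem exists_two_four {R : Type*} [CommRing R] {ι : Type*} (t : Finset ι) (f : ι → R) :
    ∃ E F T : R, (∑ i ∈ t, f i) ^ 2 = (∑ i ∈ t, f i ^ 2) + 2 * E ∧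
      (∑ i ∈ t, f i ^ 2) ^ 2 = (∑ i ∈ t, f i ^ 4) + 2 * F ∧ F = E ^ 2 + 2 * T := by
  classical
  induction t using Finset.induction with
  | empty => exact ⟨0, 0, 0, by simp, by simp, by simp⟩
  | insert a t ha ih =>
    obtain ⟨E, F, T, h1, h2, h3⟩ := ih
    refine ⟨E + f a * ∑ i ∈ t, f i, F + f a ^ 2 * ∑ i ∈ t, f i ^ 2,
      T - f a * E * (∑ i ∈ t, f i) - f a ^ 2 * E, ?_, ?_, ?_⟩
    · rw [Finset.sum_insert ha, Finset.sum_insert ha]
      linear_combination h1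
    · rw [Finset.sum_insert ha, Finset.sum_insert ha]
      linear_combination h2
    · linear_combination h3 - f a ^ 2 * h1

theorem int_dvd_of_integral {w : ℂ} (hw : IsIntegral ℤ w) {b : ℕ} {z : ℤ} (hb : b ≠ 0)
    (h : (z : ℂ) = (b : ℂ) * w) : (b : ℤ) ∣ z := by
  have h1 : algebraMap ℚ ℂ ((z : ℚ) / b) = w := by
    simp [h, Nat.cast_ne_zero.2 hb]
  rw [← h1, isIntegral_algebraMap_iff (algebraMap ℚ ℂ).injective] at hw
  obtain ⟨m, hm⟩ := IsIntegrallyClosed.isIntegral_iff.1 hw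
  refine ⟨m, ?_⟩
  have hm' : (m : ℚ) * b = z := by
    rw [show (algebraMap ℤ ℚ m) = (m : ℚ) from rfl] at hm
    rw [hm, div_mul_cancel₀ _ (Nat.cast_ne_zero.2 hb)]
  have hm'' : m * (b : ℤ) = z := by exact_mod_cast hm'
  rw [← hm'', mul_comm]

/-- The Frobenius congruence for integer power sums. -/
theorem frobenius_modEq {p : ℕ} (hp : p.Prime) {ι : Type*} (t : Finset ι) (z : ι → ℂ)
    (hz : ∀ i, IsIntegral ℤ (z i)) {v v' : ℤ} (hv : ∑ i ∈ t, z i = v)
    (hv' : ∑ i ∈ t, z i ^ p = v') : (p : ℤ) ∣ v ^ p - v' := by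
  obtain ⟨r, hr⟩ := exists_frobenius (R := integralClosure ℤ ℂ) hp t fun i => ⟨z i, hz i⟩
  have h1 := congrArg (fun x : integralClosure ℤ ℂ => (x : ℂ)) hr
  push_cast at h1
  rw [hv, hv'] at h1
  refine int_dvd_of_integral r.2 hp.ne_zero ?_
  push_cast
  linear_combination h1

/-- Signs among the power sums of orders one, two and four. -/
theorem two_four_eq {ι : Type*} (t : Finset ι) (z : ι → ℂ) (hz : ∀ i, IsIntegral ℤ (z i))
    {v₁ v₂ v₄ : ℤ} (h1 : ∑ i ∈ t, z i = v₁) (h2 : ∑ i ∈ t, z i ^ 2 = v₂)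
    (h4 : ∑ i ∈ t, z i ^ 4 = v₄) (e1 : v₁ ^ 2 = 1) (e2 : v₂ = 1 ∨ v₂ = -1)
    (e4 : v₄ = 1 ∨ v₄ = -1) : v₂ = v₄ := by
  obtain ⟨E, F, T, a1, a2, a3⟩ :=
    exists_two_four (R := integralClosure ℤ ℂ) t fun i => ⟨z i, hz i⟩
  have b1 := congrArg (fun x : integralClosure ℤ ℂ => (x : ℂ)) a1
  have b2 := congrArg (fun x : integralClosure ℤ ℂ => (x : ℂ)) a2
  have b3 := congrArg (fun x : integralClosure ℤ ℂ => (x : ℂ)) a3
  have h2c : ((2 : integralClosure ℤ ℂ) : ℂ) = 2 := rfl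
  push_cast [h2c] at b1 b2 b3
  rw [h1, h2] at b1
  rw [h2, h4] at b2
  have hE : ((E : ℂ)) ^ 2 = (E : ℂ) := by
    have e1' : (v₁ : ℂ) ^ 2 = 1 := by exact_mod_cast e1
    rw [e1'] at b1
    rcases e2 with rfl | rfl <;> push_cast at b1
    · have : (E : ℂ) = 0 := by linear_combination (-1 / 2 : ℂ) * b1
      rw [this]; ring
    · have : (E : ℂ) = 1 := by linear_combination (-1 / 2 : ℂ) * b1
      rw [this]; ring
  have key : ((v₂ - v₄ : ℤ) : ℂ) = ((4 : ℕ) : ℂ) * (T : ℂ) := by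
    have e2' : (v₂ : ℂ) ^ 2 = 1 := by rcases e2 with rfl | rfl <;> norm_num
    have e1' : (v₁ : ℂ) ^ 2 = 1 := by exact_mod_cast e1
    push_cast
    linear_combination b2 - b1 + e1' - e2' + 2 * b3 + 2 * hE
  have hd := int_dvd_of_integral T.2 (by norm_num) key
  rcases e2 with rfl | rfl <;> rcases e4 with rfl | rfl <;> first | rfl | norm_num at hd

end Cfsg.Agent.RootSumCongr
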