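import Mathlib
import Cfsg.Agent.Lib.GlaubermanCyclic
import Cfsg.Agent.Lib.RootSumCongr

/-!
# The sign pattern for a cyclic fixed point free action
-/

set_option autoImplicit false

namespace Cfsg.Agent.GlaubermanFPF

/-- Congruences force the pattern `ε δ^j`. -/
theorem sign_pattern {n : ℕ} (hn : 2 ≤ n) (v : ℕ → ℤ)
    (hval : ∀ j, ¬ n ∣ j → v j = 0 ∨ v j = 1 ∨ v j = -1) (h1 : v 1 = 1 ∨ v 1 = -1)
    (hcop : ∀ j m, m.Coprime n → v (m * j) = v j)
    (hfr : ∀ p j : ℕ, p.Prime → (p : ℤ) ∣ v j ^ p - v (p * j))
    (h24 : ∀ k, v k ^ 2 = 1 → (v (2 * k) = 1 ∨ v (2 * k) = -1) →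
      (v (4 * k) = 1 ∨ v (4 * k) = -1) → v (2 * k) = v (4 * k)) :
    ∃ ε δ : ℤ, (ε = 1 ∨ ε = -1) ∧ (δ = 1 ∨ δ = -1) ∧ δ ^ n = 1 ∧
      ∀ j, ¬ n ∣ j → v j = ε * δ ^ j := by
  have key : ∀ j, ¬ n ∣ j → (v j = 1 ∨ v j = -1) ∧ (Odd j → v j = v 1) ∧
      (Even j → v j = v 2) := by
    intro j
    induction j using Nat.strong_induction_on with
    | _ j ih =>
      intro hj
      have hj0 : j ≠ 0 := fun e => hj (e ▸ dvd_zero n)
      rcases eq_or_ne j 1 with rfl | hj1
      · exact ⟨h1, fun _ => rfl, fun h => absurd h (by decide)⟩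
      have step : ∀ p j', p.Prime → j = p * j' →
          (v j' = 1 ∨ v j' = -1) ∧ (v j = 1 ∨ v j = -1) ∧ (p ≠ 2 → v j = v j') := by
        intro p j' hp he
        have hj' : ¬ n ∣ j' := fun h => hj (he ▸ h.mul_left p)
        have hlt : j' < j := by
          rw [he]
          exact lt_mul_left (Nat.pos_of_ne_zero fun e => hj (he ▸ e ▸ by simp)) hp.one_lt
        obtain ⟨hs, -, -⟩ := ih j' hlt hj'
        have hd := hfr p j' hp
        rw [← he] at hd
        have hjs := hval j hj
        by_cases hp2 : p = 2
        · subst hp2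
          refine ⟨hs, ?_, fun h => absurd rfl h⟩
          rcases hs with e | e <;> rw [e] at hd <;> rcases hjs with e' | e' | e' <;>
            first | exact Or.inl e' | exact Or.inr e' | (rw [e'] at hd; norm_num at hd)
        · have hodd : Odd p := hp.odd_of_ne_two hp2
          have hp3 : (3 : ℤ) ≤ p := by
            have := hp.two_le
            exact_mod_cast (by omega : 3 ≤ p)
          have hpow : v j' ^ p = v j' := by
            rcases hs with e | e <;> rw [e]
            · exact one_pow p
            · exact hodd.neg_one_pow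
          rw [hpow] at hd
          have heq : v j = v j' := by
            have h0 : v j' - v j = 0 := Int.eq_zero_of_abs_lt_dvd hd (by
              rcases hs with e | e <;> rcases hjs with e' | e' | e' <;> rw [e, e'] <;>
                norm_num <;> omega)
            omega
          exact ⟨hs, heq ▸ hs, fun _ => heq⟩
      rcases Nat.even_or_odd j with hev | hodd
      · obtain ⟨u, rfl⟩ := hev.exists_two_nsmul
        simp only [nsmul_eq_mul, Nat.cast_ofNat] at *
        obtain ⟨hu, hval', -⟩ := step 2 u Nat.prime_two rfl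
        refine ⟨hval', fun h => absurd h (Nat.not_odd_iff_even.2 (even_two_mul u)), fun _ => ?_⟩
        rcases Nat.even_or_odd u with heu | hou
        · obtain ⟨k, rfl⟩ := heu.exists_two_nsmul
          simp only [nsmul_eq_mul, Nat.cast_ofNat] at *
          have hk : ¬ n ∣ k := fun h => hj ((h.mul_left 2).mul_left 2)
          have h2k : ¬ n ∣ 2 * k := fun h => hj (h.mul_left 2)
          have hk0 : 0 < k := Nat.pos_of_ne_zero fun e => hk (e ▸ dvd_zero n)
          obtain ⟨hks, -, -⟩ := ih k (by omega) hk
          obtain ⟨-, -, he2⟩ := ih (2 * k) (by omega) h2k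
          have h4 : 4 * k = 2 * (2 * k) := by ring
          rw [← he2 (even_two_mul k), ← h4]
          exact (h24 k (by rcases hks with e | e <;> rw [e] <;> norm_num) hu (h4 ▸ hval')).symm
        · rcases eq_or_ne u 1 with rfl | hu1
          · norm_num
          · obtain ⟨u', hu'⟩ := Nat.minFac_dvd u
            have hp := Nat.minFac_prime hu1
            have hp2 : u.minFac ≠ 2 := fun e =>
              (Nat.not_even_iff_odd.2 hou) (even_iff_two_dvd.2 (e ▸ Nat.minFac_dvd u))
            have hu'0 : 0 < u' := Nat.pos_of_ne_zero fun e =>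
              (Nat.not_even_iff_odd.2 hou) (by rw [hu', e]; simp)
            obtain ⟨-, -, he⟩ := step u.minFac (2 * u') hp (by conv_lhs => rw [hu']
                                                               ring)
            have hlt : 2 * u' < 2 * u := by
              have : u' < u := by
                conv_rhs => rw [hu']
                exact lt_mul_left hu'0 hp.one_lt
              omega
            have hnd : ¬ n ∣ 2 * u' := fun h => hj (by
              rw [hu', ← mul_assoc, mul_comm 2, mul_assoc]
              exact h.mul_left _)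
            rw [he hp2, (ih _ hlt hnd).2.2 (even_two_mul u')]
      · obtain ⟨u', hu'⟩ := Nat.minFac_dvd j
        have hp := Nat.minFac_prime hj1
        have hp2 : j.minFac ≠ 2 := fun e =>
          (Nat.not_even_iff_odd.2 hodd) (even_iff_two_dvd.2 (e ▸ Nat.minFac_dvd j))
        obtain ⟨-, hs, he⟩ := step j.minFac u' hp hu'
        refine ⟨hs, fun _ => ?_, fun h => absurd hodd (Nat.not_odd_iff_even.2 h)⟩
        have hou' : Odd u' := (Nat.odd_mul.1 (hu' ▸ hodd : Odd (j.minFac * u'))).2
        have hlt : u' < j := by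
          conv_rhs => rw [hu']
          exact lt_mul_left hou'.pos hp.one_lt
        rw [he hp2, (ih u' hlt (fun h => hj (hu' ▸ h.mul_left _))).2.1 hou']
  by_cases h2 : n ∣ 2
  · have hn2 : n = 2 := le_antisymm (Nat.le_of_dvd two_pos h2) hn
    refine ⟨v 1, 1, h1, Or.inl rfl, one_pow n, fun j hj => ?_⟩
    rw [one_pow, mul_one]
    exact (key j hj).2.1 (Nat.not_even_iff_odd.1 fun h => hj (hn2 ▸ even_iff_two_dvd.1 h))
  have hv2 := (key 2 h2).1
  refine ⟨v 2, v 1 * v 2, hv2, ?_, ?_, fun j hj => ?_⟩
  · rcases h1 with e | e <;> rcases hv2 with e' | e' <;> rw [e, e'] <;> norm_num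
  · rcases Nat.even_or_odd n with hev | hodd
    · rcases h1 with e | e <;> rcases hv2 with e' | e' <;> rw [e, e'] <;> norm_num [hev.neg_one_pow]
    · have he : v 2 = v 1 := by
        have := hcop 1 2 (Nat.coprime_two_left.2 hodd)
        simpa using this
      rw [he]
      rcases h1 with e | e <;> rw [e] <;> norm_num
  · rcases Nat.even_or_odd j with hev | hodd
    · rw [(key j hj).2.2 hev]
      rcases h1 with e | e <;> rcases hv2 with e' | e' <;> rw [e, e'] <;> norm_num [hev.neg_one_pow]
    · rw [(key j hj).2.1 hodd]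
      rcases h1 with e | e <;> rcases hv2 with e' | e' <;> rw [e, e'] <;> norm_num [hodd.neg_one_pow]

end Cfsg.Agent.GlaubermanFPF
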