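import Mathlib
import Cfsg.Agent.Lib.CharBasicLinear
import Cfsg.Agent.Lib.GaloisChar80
import Cfsg.Agent.Lib.GlaubermanFPF

/-!
# Characters of cyclic groups with unit modulus off the identity

* `dvd_degree_sub_sign` : if `|f x| = 1` for all `x ≠ 1` in a cyclic group of order `n`, then
  `n` divides `f 1 ∓ 1`.
-/

set_option autoImplicit false

open scoped ComplexConjugate

namespace Cfsg.Agent.UnitValues

open Cfsg Cfsg.Agent.CharBasic Cfsg.Agent.CharBasicOrth Cfsg.Agent.CharBasicDecomp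

universe u

theorem isIntegral_of_pow_eq_one {η : ℂ} {m : ℕ} (hm : 0 < m) (h : η ^ m = 1) : IsIntegral ℤ η := by
  refine IsIntegral.of_pow hm ?_
  rw [h]; exact isIntegral_one

/-- A root of unity congruent to `±1` modulo a prime is `±1`. -/
theorem root_congr {η : ℂ} {m : ℕ} (hm : 0 < m) (hη : η ^ m = 1) {p : ℕ} (hp : p.Prime) {c : ℤ}
    (hc : c = 1 ∨ c = -1) (h : IsIntegral ℤ ((η - c) / p)) : η = 1 ∨ η = -1 := by
  have hcc : (c : ℂ) * c = 1 := by rcases hc with rfl | rfl <;> simp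
  set μ : ℂ := η * c with hμ
  have hμm : μ ^ (2 * m) = 1 := by
    rw [hμ, mul_pow, pow_mul', hη, one_pow, one_mul, pow_mul, pow_two, hcc, one_pow]
  have hμint : IsIntegral ℤ μ := isIntegral_of_pow_eq_one (by omega) hμm
  have h1 : IsIntegral ℤ ((1 - μ) / p) := by
    have e : (1 - μ) / p = -((c : ℂ) * ((η - c) / p)) := by
      rw [hμ, ← mul_div_assoc, ← neg_div]; congr 1; linear_combination (-1 : ℂ) * hcc
    rw [e]
    exact ((isIntegral_algebraMap (R := ℤ) (A := ℂ) (x := c)).mul h).neg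
  -- congruences pass to powers
  have hpow : ∀ i : ℕ, IsIntegral ℤ ((1 - μ ^ i) / p) := by
    intro i
    induction i with
    | zero => rw [pow_zero, sub_self, zero_div]; exact isIntegral_zero
    | succ i ih =>
      have e : (1 - μ ^ (i + 1)) / p = (1 - μ ^ i) / p + μ ^ i * ((1 - μ) / p) := by
        rw [pow_succ]; ring
      rw [e]
      exact ih.add ((hμint.pow i).mul h1)
  have hfin : IsOfFinOrder μ := isOfFinOrder_iff_pow_eq_one.2 ⟨2 * m, by omega, hμm⟩
  set r := orderOf μ with hr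
  have hr0 : 0 < r := hfin.orderOf_pos
  suffices hr2 : r ∣ 2 by
    have : μ ^ 2 = 1 := orderOf_dvd_iff_pow_eq_one.1 hr2
    have h2 : η = μ * c := by rw [hμ, mul_assoc, hcc, mul_one]
    rcases sq_eq_one_iff.1 this with e | e <;> rcases hc with rfl | rfl <;> simp [h2, e]
  -- every prime divisor of `r` is `p`, which is then `2`
  have key : ∀ q, q.Prime → q ∣ r → q = p ∧ p = 2 := by
    intro q hq hqr
    obtain ⟨t, ht⟩ := hqr
    have hprim : IsPrimitiveRoot (μ ^ t) q :=
      (IsPrimitiveRoot.orderOf μ).pow hr0 (by rw [ht, mul_comm])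
    have hq1 : q = (q - 1) + 1 := (Nat.succ_pred_eq_of_pos hq.pos).symm
    rw [hq1] at hprim
    have hprod := hprim.prod_one_sub_pow_eq_order
    have hint : IsIntegral ℤ (((q : ℂ)) / (p : ℂ) ^ (q - 1)) := by
      have e : ((q : ℂ)) / (p : ℂ) ^ (q - 1) =
          ∏ k ∈ Finset.range (q - 1), (1 - (μ ^ t) ^ (k + 1)) / p := by
        rw [Finset.prod_div_distrib, hprod, Finset.prod_const, Finset.card_range]
        congr 1
        rw [← Nat.cast_succ, Nat.succ_eq_add_one, ← hq1]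
      rw [e]
      exact IsIntegral.prod _ fun k _ => by rw [← pow_mul]; exact hpow _
    have hdvd : p ^ (q - 1) ∣ q := by
      refine CharBasicInt.dvd_of_isIntegral_div (pow_ne_zero _ hp.ne_zero) ?_
      push_cast
      exact hint
    have hq2 := hq.two_le
    have hpq : p = q := (Nat.prime_dvd_prime_iff_eq hp hq).1
      ((dvd_pow_self p (by omega : q - 1 ≠ 0)).trans hdvd)
    subst hpq
    refine ⟨rfl, ?_⟩
    by_contra hne
    have h3 : p ^ 2 ∣ p := (Nat.pow_dvd_pow p (by omega : 2 ≤ p - 1)).trans hdvd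
    have := Nat.le_of_dvd hp.pos h3
    nlinarith
  by_contra hr2
  obtain ⟨a, ha⟩ : ∃ a, r = 2 ^ a := by
    refine ⟨r.factorization 2, ?_⟩
    conv_lhs => rw [← Nat.prod_factorization_pow_eq_self hr0.ne']
    rw [Finsupp.prod_of_support_subset _ (s := {2}) (fun q hq => by
      rw [Nat.support_factorization] at hq
      have := key q (Nat.prime_of_mem_primeFactors hq) (Nat.dvd_of_mem_primeFactors hq)
      simp [this.1, this.2]) _ (fun _ _ => pow_zero _), Finset.prod_singleton]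
  have ha2 : 2 ≤ a := by
    by_contra h
    exact hr2 (ha ▸ Nat.pow_dvd_pow 2 (show a ≤ 1 by omega))
  obtain ⟨hp2, hp2'⟩ := key 2 Nat.prime_two (ha ▸ dvd_pow_self 2 (by omega))
  obtain ⟨t, ht⟩ : 4 ∣ r := ha ▸ (Nat.pow_dvd_pow 2 ha2)
  have hprim : IsPrimitiveRoot (μ ^ t) 4 :=
    (IsPrimitiveRoot.orderOf μ).pow hr0 (by rw [ht, mul_comm])
  have hsq : (μ ^ t) ^ 2 = -1 := (hprim.pow (by norm_num) (by norm_num : 4 = 2 * 2)).eq_neg_one_of_two_right
  have hi : IsIntegral ℤ ((1 - μ ^ t) / p * ((1 - μ ^ (t * 3)) / p)) := (hpow t).mul (hpow _)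
  have e : (1 - μ ^ t) / p * ((1 - μ ^ (t * 3)) / p) = ((1 : ℕ) : ℂ) / ((2 : ℕ) : ℂ) := by
    rw [pow_mul, hp2']
    have : (μ ^ t) ^ 3 = -(μ ^ t) := by rw [pow_succ, hsq]; ring
    rw [this]
    push_cast
    field_simp
    linear_combination (-1 : ℂ) * hsq
  rw [e] at hi
  have := CharBasicInt.dvd_of_isIntegral_div (by norm_num) hi
  norm_num at this

/-- A root of unity fixed by the automorphisms fixing the `n`-th roots of unity. -/
theorem pow_or_neg_pow {n : ℕ} (hn : 0 < n) {η : ℂ} {m : ℕ} (hm : 0 < m) (hη : η ^ m = 1)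
    (h : ∀ k : ℕ, k ≡ 1 [MOD n] → k.Coprime (Nat.lcm n m) → η ^ k = η) :
    ∃ η₀ : ℂ, η₀ ^ n = 1 ∧ (η = η₀ ∨ η = -η₀) := by
  have hfin : IsOfFinOrder η := isOfFinOrder_iff_pow_eq_one.2 ⟨m, hm, hη⟩
  have hrm : orderOf η ∣ m := orderOf_dvd_of_pow_eq_one hη
  set r := orderOf η with hr
  set R := Nat.lcm n r with hR
  have hr0 : 0 < r := hfin.orderOf_pos
  have hR0 : 0 < R := Nat.lcm_pos hn hr0
  haveI : NeZero R := ⟨hR0.ne'⟩
  haveI : NeZero n := ⟨hn.ne'⟩
  haveI : NeZero (Nat.lcm n m) := ⟨(Nat.lcm_pos hn hm).ne'⟩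
  have hnR : n ∣ R := Nat.dvd_lcm_left n r
  have hRM : R ∣ Nat.lcm n m := Nat.lcm_dvd (Nat.dvd_lcm_left n m) (hrm.trans (Nat.dvd_lcm_right n m))
  have hinj : Function.Injective (ZMod.unitsMap hnR) := by
    refine (injective_iff_map_eq_one _).2 fun w hw => ?_
    obtain ⟨W, hW⟩ := ZMod.unitsMap_surjective hRM w
    have hk : ((W : ZMod (Nat.lcm n m)).val).Coprime (Nat.lcm n m) := ZMod.val_coe_unit_coprime W
    set k := (W : ZMod (Nat.lcm n m)).val with hkdef
    have hkR : ((k : ℕ) : ZMod R) = (w : ZMod R) := by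
      rw [hkdef, ← ZMod.cast_eq_val]
      exact congrArg Units.val hW
    have hkn : k ≡ 1 [MOD n] := by
      rw [← ZMod.natCast_eq_natCast_iff, Nat.cast_one, ← map_natCast (ZMod.castHom hnR (ZMod n)), hkR]
      exact congrArg Units.val hw
    have h2 : k ≡ 1 [MOD r] := by
      have h3 : η ^ k = η ^ 1 := by rw [pow_one]; exact h k hkn hk
      rw [hr]
      exact hfin.pow_eq_pow_iff_modEq.1 h3
    have h4 : k ≡ 1 [MOD R] := Nat.mod_lcm hkn h2
    rw [← ZMod.natCast_eq_natCast_iff, hkR, Nat.cast_one] at h4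
    exact Units.ext h4
  have hφ : Nat.totient R ≤ Nat.totient n := by
    rw [← ZMod.card_units_eq_totient, ← ZMod.card_units_eq_totient]
    exact Fintype.card_le_of_injective _ hinj
  obtain ⟨c, hc⟩ := hnR
  have hc0 : 0 < c := Nat.pos_of_ne_zero fun e => hR0.ne' (by rw [hc, e, mul_zero])
  have hc2 : c ≤ 2 := by
    by_contra hlt
    have h1 := Nat.totient_super_multiplicative n c
    rw [← hc] at h1
    have h2 : 2 ≤ c.totient := by
      have := Nat.totient_even (show 2 < c by omega)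
      have := Nat.totient_pos.2 hc0
      obtain ⟨e, he⟩ := ‹Even c.totient›
      omega
    have h3 := Nat.totient_pos.2 hn
    nlinarith
  have hηR : η ^ R = 1 := orderOf_dvd_iff_pow_eq_one.1 (Nat.dvd_lcm_right n r)
  interval_cases c
  · exact ⟨η, by rw [hc, mul_one] at hηR; exact hηR, Or.inl rfl⟩
  · rcases Nat.even_or_odd n with hev | hodd
    · exfalso
      have h1 := Nat.totient_mul_of_prime_of_dvd Nat.prime_two (even_iff_two_dvd.1 hev)
      rw [hc, mul_comm, h1] at hφ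
      have := Nat.totient_pos.2 hn
      omega
    · rw [hc, pow_mul] at hηR
      rcases sq_eq_one_iff.1 hηR with e | e
      · exact ⟨η, e, Or.inl rfl⟩
      · exact ⟨-η, by rw [hodd.neg_pow, e, neg_neg], Or.inr (neg_neg η).symm⟩

variable {A : Type u} [Group A] [Fintype A]

/-- The values off the identity are roots of unity. -/
theorem exists_pow_eq_one {f : A → ℂ} (hf : IsCharacter A f)
    (h1 : ∀ x, x ≠ 1 → f x * conj (f x) = 1) :
    ∃ m : ℕ, 0 < m ∧ ∀ x, x ≠ 1 → f x ^ m = 1 := by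
  classical
  haveI : Finite (IrrCharacter A) := finite_irrCharacter
  let T : IrrCharacter A := trivIrr A
  have hd : ∀ (k : ℕ) (ψ : IrrCharacter A), ∃ z : ℤ,
      classInner (f ^ k) (ψ : A → ℂ) - (ψ : A → ℂ) 1 * classInner (f ^ k) (T : A → ℂ) = z := by
    intro k ψ
    obtain ⟨a, ha⟩ := classInner_isCharacter (isCharacter_pow hf k)
      (isCharacter_of_isIrrCharacter ψ.2)
    obtain ⟨b, hb⟩ := classInner_isCharacter (isCharacter_pow hf k)
      (isCharacter_of_isIrrCharacter T.2)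
    obtain ⟨d, hd⟩ := isCharacter_apply_one (isCharacter_of_isIrrCharacter ψ.2)
    exact ⟨(a : ℤ) - d * b, by rw [ha, hb, hd]; push_cast; rfl⟩
  choose d hd using hd
  let B : ℕ := 2 * Nat.card A
  have hnorm : ∀ x, x ≠ 1 → ‖f x‖ = 1 := fun x hx => by
    have h2 := h1 x hx
    rw [Complex.mul_conj, Complex.normSq_eq_norm_sq] at h2
    have h3 : ‖f x‖ ^ 2 = 1 := by exact_mod_cast h2
    exact (sq_eq_one_iff.1 h3).resolve_right (by linarith [norm_nonneg (f x)])
  have hbound : ∀ k ψ, |d k ψ| ≤ (B : ℤ) := by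
    intro k ψ
    have e : ((d k ψ : ℤ) : ℂ) = (Nat.card A : ℂ)⁻¹ *
        ∑ x : A, (f x) ^ k * (conj ((ψ : A → ℂ) x) - (ψ : A → ℂ) 1) := by
      rw [← hd]
      simp only [classInner, T, trivIrr, Pi.pow_apply, map_one, mul_one, mul_sub, Finset.sum_sub_distrib,
        ← Finset.sum_mul]
      ring
    obtain ⟨n, hn⟩ := isCharacter_apply_one (isCharacter_of_isIrrCharacter ψ.2)
    have hnA : n ≤ Nat.card A := by
      obtain ⟨n', hn'0, hn', hdvd⟩ := CharBasicInt.exists_apply_one_dvd_card ψ.2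
      rw [hn, Nat.cast_inj] at hn'
      exact Nat.le_of_dvd Nat.card_pos (hn' ▸ hdvd)
    have hterm : ∀ x : A, ‖f x ^ k * (conj ((ψ : A → ℂ) x) - (ψ : A → ℂ) 1)‖ ≤ (B : ℝ) := by
      intro x
      by_cases hx : x = 1
      · subst hx
        rw [hn, Complex.conj_natCast, sub_self, mul_zero, norm_zero]
        positivity
      · rw [norm_mul, norm_pow, hnorm x hx, one_pow, one_mul]
        refine (norm_sub_le _ _).trans ?_
        rw [Complex.norm_conj, hn]
        have h2 := isCharacter_norm_le (isCharacter_of_isIrrCharacter ψ.2) x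
        rw [hn, Complex.natCast_re] at h2
        have h3 : (n : ℝ) ≤ Nat.card A := by exact_mod_cast hnA
        simp only [B, Nat.cast_mul, Nat.cast_ofNat, Complex.norm_natCast]
        linarith
    have h2 : ‖((d k ψ : ℤ) : ℂ)‖ ≤ (B : ℝ) := by
      rw [e, norm_mul, norm_inv, Complex.norm_natCast]
      rw [inv_mul_le_iff₀ (by exact_mod_cast Nat.card_pos)]
      refine (norm_sum_le _ _).trans ((Finset.sum_le_sum fun x _ => hterm x).trans ?_)
      simp [Nat.card_eq_fintype_card]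
    rw [Complex.norm_intCast] at h2
    exact_mod_cast h2
  let code : ℕ → IrrCharacter A → Set.Icc (-(B : ℤ)) (B : ℤ) := fun k ψ =>
    ⟨d k ψ, abs_le.1 (hbound k ψ)⟩
  have hval : ∀ (k : ℕ) x, x ≠ 1 → f x ^ k = ∑ ψ, (d k ψ : ℂ) * (ψ : A → ℂ) x := by
    intro k x hx
    have hexp := congrFun (eq_sum_classInner
      (isClassFunction_of_isCharacter (isCharacter_pow hf k))) x
    have hreg : ∑ ψ : IrrCharacter A, (ψ : A → ℂ) x * (ψ : A → ℂ) 1 = 0 := by
      have h2 := sum_irr_mul_conj x (1 : A)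
      rw [if_neg (fun e => hx (isConj_one_left.1 e))] at h2
      refine Eq.trans ?_ h2
      refine Finset.sum_congr rfl fun ψ _ => ?_
      obtain ⟨n, hn⟩ := isCharacter_apply_one (isCharacter_of_isIrrCharacter ψ.2)
      rw [hn, Complex.conj_natCast]
    simp only [← hd, sub_mul, Finset.sum_sub_distrib]
    rw [show ∑ ψ : IrrCharacter A, (ψ : A → ℂ) 1 * classInner (f ^ k) (T : A → ℂ) * (ψ : A → ℂ) x =
        classInner (f ^ k) (T : A → ℂ) * ∑ ψ : IrrCharacter A, (ψ : A → ℂ) x * (ψ : A → ℂ) 1 by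
      rw [Finset.mul_sum]; exact Finset.sum_congr rfl fun ψ _ => by ring, hreg, mul_zero, sub_zero]
    simpa [Finset.sum_apply] using hexp
  obtain ⟨k, l, hne, hkl⟩ := Finite.exists_ne_map_eq_of_infinite code
  have he : ∀ ψ, d k ψ = d l ψ := fun ψ => congrArg Subtype.val (congrFun hkl ψ)
  wlog hlt : k < l generalizing k l
  · exact this l k hne.symm hkl.symm (fun ψ => (he ψ).symm) (by omega)
  refine ⟨l - k, by omega, fun x hx => ?_⟩
  have h2 : f x ^ k = f x ^ l := by
    rw [hval k x hx, hval l x hx]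
    simp only [he]
  have hfx : f x ≠ 0 := fun e => by simpa [e] using h1 x hx
  rw [pow_sub₀ _ hfx hlt.le, h2, mul_inv_cancel₀ (pow_ne_zero _ hfx)]

/-- The degree congruence. -/
theorem dvd_degree_sub_sign (hA : IsCyclic A) {f : A → ℂ} (hf : IsCharacter A f)
    (h1 : ∀ x, x ≠ 1 → f x * conj (f x) = 1) {e : ℕ} (he : f 1 = e) :
    (Nat.card A : ℤ) ∣ (e : ℤ) - 1 ∨ (Nat.card A : ℤ) ∣ (e : ℤ) + 1 := by
  classical
  set n := Nat.card A with hn
  have hn0 : 0 < n := Nat.card_pos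
  rcases Nat.lt_or_ge n 2 with hlt | hge
  · exact Or.inl (by rw [show n = 1 by omega]; exact one_dvd _)
  obtain ⟨s, hs⟩ := hA.exists_generator
  have hord : orderOf s = n := by
    rw [hn, ← Nat.card_zpowers, show Subgroup.zpowers s = ⊤ from
      eq_top_iff.2 fun x _ => hs x, Subgroup.card_top]
  have hsj : ∀ j, ¬ n ∣ j → s ^ j ≠ 1 := fun j hj e' =>
    hj (hord ▸ orderOf_dvd_of_pow_eq_one e')
  have hpows : ∀ x : A, ∃ i : ℕ, s ^ i = x := fun x => mem_powers_iff_mem_zpowers.2 (hs x)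
  have hcomm : ∀ a b : A, a * b = b * a := fun a b => hA.isMulCommutative.is_comm.comm a b
  obtain ⟨m, hm0, hm⟩ := exists_pow_eq_one hf h1
  -- write a character as a sum of linear ones
  have hlin : ∀ g : A → ℂ, IsCharacter A g → ∃ a : (A →* ℂˣ) → ℕ, ∀ [Fintype (A →* ℂˣ)],
      ∀ x, g x = ∑ l : A →* ℂˣ, (a l : ℂ) * (l x : ℂ) := by
    intro g hg
    haveI : Finite (A →* ℂˣ) := Finite.of_equiv _ (CharBasicLinear.linearEquiv A).symm
    obtain ⟨c, -, hc⟩ := exists_mult hg
    have hall : ∀ ψ : IrrCharacter A, (ψ : A → ℂ) 1 = 1 := fun ψ =>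
      CharBasicLinear.apply_one_eq_one_of_comm hcomm ψ.2
    let E : (A →* ℂˣ) ≃ IrrCharacter A :=
      (CharBasicLinear.linearEquiv A).trans (Equiv.subtypeUnivEquiv hall)
    refine ⟨fun l => c (E l), fun {_} x => ?_⟩
    rw [congrFun hc x, Finset.sum_apply]
    refine (Fintype.sum_equiv E _ _ fun l => ?_).symm
    rfl
  haveI : Finite (A →* ℂˣ) := Finite.of_equiv _ (CharBasicLinear.linearEquiv A).symm
  haveI := Fintype.ofFinite (A →* ℂˣ)
  obtain ⟨a, ha⟩ := hlin f hf
  -- normalise at the generator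
  have hs1 : s ≠ 1 := by
    simpa using hsj 1 (fun hd => by have := Nat.le_of_dvd one_pos hd; omega)
  have hlroot : ∀ (l : A →* ℂˣ) (x : A), ((l x : ℂ)) ^ n = 1 := fun l x => by
    rw [← Units.val_pow_eq_pow_val, ← map_pow, hn, pow_card_eq_one', map_one, Units.val_one]
  obtain ⟨η₀, hη₀, hη⟩ := pow_or_neg_pow hn0 hm0 (hm s hs1) (fun k hk1 hk2 => by
    obtain ⟨σ, hσ⟩ := GaloisChar80.exists_aut (Nat.lcm_pos hn0 hm0) hk2
    have hmM : ∀ z : ℂ, z ^ m = 1 → z ^ Nat.lcm n m = 1 := fun z hz => by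
      obtain ⟨c, hc⟩ := Nat.dvd_lcm_right n m
      rw [hc, pow_mul, hz, one_pow]
    rw [← hσ _ (hmM _ (hm s hs1)), ha, map_sum]
    refine Finset.sum_congr rfl fun l _ => ?_
    rw [map_mul, map_natCast]
    congr 1
    obtain ⟨c, hc⟩ := Nat.dvd_lcm_left n m
    rw [hσ _ (by rw [hc, pow_mul, hlroot, one_pow])]
    rw [← Units.val_pow_eq_pow_val]
    congr 1
    conv_rhs => rw [← pow_one (l s)]
    refine pow_eq_pow_iff_modEq.2 (hk1.of_dvd ?_)
    exact orderOf_dvd_of_pow_eq_one (Units.ext (by rw [Units.val_pow_eq_pow_val, hlroot, Units.val_one])))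
  obtain ⟨e0, he0, hfs⟩ : ∃ e0 : ℤ, (e0 = 1 ∨ e0 = -1) ∧ f s = (e0 : ℂ) * η₀ := by
    rcases hη with e' | e'
    · exact ⟨1, Or.inl rfl, by simp [e']⟩
    · exact ⟨-1, Or.inr rfl, by simp [e']⟩
  have hη0 : η₀ ≠ 0 := fun e' => by simp [e', zero_pow hn0.ne'] at hη₀
  let u : ℂˣ := Units.mk0 η₀⁻¹ (inv_ne_zero hη0)
  have hord' : orderOf u ∣ orderOf s := by
    rw [hord]
    refine orderOf_dvd_of_pow_eq_one (Units.ext ?_)
    simp [u, inv_pow, hη₀]
  let tw : A →* ℂˣ := monoidHomOfForallMemZpowers hs hord'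
  let g : A → ℂ := f * fun x => (tw x : ℂ)
  have hgc : IsCharacter A g := isCharacter_mul hf (isCharacter_linear tw)
  have hg1 : g 1 = e := by simp [g, he]
  have hgs : g s = (e0 : ℂ) := by
    simp only [g, Pi.mul_apply, tw, monoidHomOfForallMemZpowers_apply_gen, u, Units.val_mk0, hfs]
    field_simp
  have hgroot : ∀ x, x ≠ 1 → g x ^ (m * n) = 1 := fun x hx => by
    simp only [g, Pi.mul_apply, mul_pow]
    rw [pow_mul, hm x hx, one_pow, one_mul, mul_comm m, pow_mul, hlroot, one_pow]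
  obtain ⟨b, hb⟩ := hlin g hgc
  have hbint : ∀ x : A, IsIntegral ℤ (g x) := fun x => isCharacter_integral hgc x
  let T : Finset (Σ _ : A →* ℂˣ, ℕ) := Finset.univ.sigma fun l => Finset.range (b l)
  have hT : ∀ j : ℕ, ∑ q ∈ T, ((q.1 s : ℂ)) ^ j = g (s ^ j) := fun j => by
    rw [hb, Finset.sum_sigma]
    simp
  have hqint : ∀ (q : Σ _ : A →* ℂˣ, ℕ) (j : ℕ), IsIntegral ℤ ((q.1 s : ℂ) ^ j) := fun q j =>
    (isIntegral_of_pow_eq_one hn0 (hlroot q.1 s)).pow j
  have hpm : ∀ j, ¬ n ∣ j → g (s ^ j) = 1 ∨ g (s ^ j) = -1 := by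
    intro j
    induction j using Nat.strong_induction_on with
    | _ j ih =>
      intro hj
      rcases eq_or_ne j 1 with rfl | hj1
      · rw [pow_one, hgs]
        rcases he0 with rfl | rfl <;> simp
      obtain ⟨j', hj'⟩ := Nat.minFac_dvd j
      have hp := Nat.minFac_prime hj1
      set p := j.minFac
      have hnd : ¬ n ∣ j' := fun h => hj (hj' ▸ h.mul_left p)
      have hlt : j' < j := by
        conv_rhs => rw [hj']
        exact lt_mul_left (Nat.pos_of_ne_zero fun e' => hnd (e' ▸ dvd_zero n)) hp.one_lt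
      obtain ⟨c, hc, hgc'⟩ : ∃ c : ℤ, (c = 1 ∨ c = -1) ∧ g (s ^ j') = c := by
        rcases ih j' hlt hnd with e' | e'
        · exact ⟨1, Or.inl rfl, by simp [e']⟩
        · exact ⟨-1, Or.inr rfl, by simp [e']⟩
      obtain ⟨r, hr⟩ := RootSumCongr.exists_frobenius (R := integralClosure ℤ ℂ) hp T
        fun q => ⟨(q.1 s : ℂ) ^ j', hqint q j'⟩
      have h2 := congrArg (fun z : integralClosure ℤ ℂ => (z : ℂ)) hr
      push_cast at h2
      simp only [← pow_mul, hT] at h2
      rw [mul_comm j' p, ← hj', hgc'] at h2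
      have hc' : ∃ c' : ℤ, (c' = 1 ∨ c' = -1) ∧ (c : ℂ) ^ p = c' := ⟨c ^ p, by
        rcases hc with rfl | rfl
        · left; exact one_pow p
        · exact neg_one_pow_eq_or ℤ p, by push_cast; rfl⟩
      obtain ⟨c', hc', hcp⟩ := hc'
      refine root_congr (Nat.mul_pos hm0 hn0) (hgroot _ (hsj j hj)) hp hc' ?_
      have e' : (g (s ^ j) - (c' : ℂ)) / (p : ℂ) = -(r : ℂ) := by
        rw [div_eq_iff (Nat.cast_ne_zero.2 hp.ne_zero)]
        linear_combination hcp - h2
      rw [e']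
      exact r.2.neg
  let v : ℕ → ℤ := fun j => if g (s ^ j) = 1 then 1 else -1
  have hvv : ∀ j, ¬ n ∣ j → g (s ^ j) = (v j : ℂ) := fun j hj => by
    simp only [v]
    rcases hpm j hj with e' | e' <;> rw [e'] <;> norm_num
  have hvval : ∀ j, v j = 1 ∨ v j = -1 := fun j => by
    simp only [v]; split_ifs <;> simp
  -- at multiples of `n` the value is the degree
  let w : ℕ → ℤ := fun j => if n ∣ j then (e : ℤ) else v j
  have hw : ∀ j, g (s ^ j) = (w j : ℂ) := fun j => by
    simp only [w]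
    split_ifs with hj
    · rw [orderOf_dvd_iff_pow_eq_one.1 (hord ▸ hj), hg1]; simp
    · exact hvv j hj
  obtain ⟨ε, δ, hε, hδ, hδn, hpat⟩ := GlaubermanFPF.sign_pattern hge w
    (fun j hj => by simp only [w, if_neg hj]; exact Or.inr (hvval j))
    (by
      have : ¬ n ∣ 1 := fun hd => by have := Nat.le_of_dvd one_pos hd; omega
      simp only [w, if_neg this]; exact hvval 1)
    (fun j k hk => by
      obtain ⟨σ, hσ⟩ := GaloisChar80.exists_aut_char (G := A) (k := k) hk
      have h3 := hσ g hgc (s ^ j)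
      rw [hw, map_intCast, ← pow_mul, mul_comm j k, hw] at h3
      exact_mod_cast h3.symm)
    (fun p j hp => RootSumCongr.frobenius_modEq hp T (fun q => (q.1 s : ℂ) ^ j)
      (fun q => hqint q j) (by rw [hT, hw]) (by
        rw [← hw, ← hT]; exact Finset.sum_congr rfl fun q _ => by ring))
    (fun k e1 e2 e4 => RootSumCongr.two_four_eq T (fun q => (q.1 s : ℂ) ^ k) (fun q => hqint q k)
      (by rw [hT, hw]) (by rw [← hw, ← hT]; exact Finset.sum_congr rfl fun q _ => by ring)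
      (by rw [← hw, ← hT]; exact Finset.sum_congr rfl fun q _ => by ring) e1 e2 e4)
  -- the sum of all values
  obtain ⟨a0, ha0⟩ := classInner_isCharacter hgc (CharBasicDecomp.isCharacter_one (G := A))
  have hsum : ∑ j ∈ Finset.range n, g (s ^ j) = (n : ℂ) * a0 := by
    rw [← ha0, card_mul_classInner]
    simp only [map_one, mul_one]
    refine (Finset.sum_bij (fun j _ => s ^ j) (fun j _ => Finset.mem_univ _) ?_ ?_
      (fun j _ => rfl))
    · intro i hi j hj hij
      exact (pow_injOn_Iio_orderOf (by simpa [hord] using hi) (by simpa [hord] using hj) hij)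
    · intro x _
      obtain ⟨i, rfl⟩ := hpows x
      exact ⟨i % n, Finset.mem_range.2 (Nat.mod_lt _ hn0), by rw [← hord, pow_mod_orderOf]⟩
  simp only [hw] at hsum
  have hsum' : ∑ j ∈ Finset.range n, w j = (n : ℤ) * a0 := by exact_mod_cast hsum
  rw [← Finset.add_sum_erase _ _ (Finset.mem_range.2 hn0),
    Finset.sum_congr rfl (g := fun j => ε * δ ^ j) (fun j hj => hpat j fun hd =>
      Finset.ne_of_mem_erase hj (Nat.eq_zero_of_dvd_of_lt hd
        (Finset.mem_range.1 (Finset.mem_of_mem_erase hj))))] at hsum'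
  have h0 : w 0 = e := by simp [w]
  rw [h0] at hsum'
  have h2 : ε + ∑ j ∈ (Finset.range n).erase 0, ε * δ ^ j =
      ε * ∑ j ∈ Finset.range n, δ ^ j := by
    rw [← Finset.add_sum_erase _ _ (Finset.mem_range.2 hn0), mul_add, Finset.mul_sum, pow_zero,
      mul_one]
  obtain ⟨r, hr⟩ : (n : ℤ) ∣ ∑ j ∈ Finset.range n, δ ^ j := by
    rcases hδ with rfl | rfl
    · simp
    · rw [neg_one_geom_sum, if_pos (neg_one_pow_eq_one_iff_even (by norm_num) |>.1 hδn)]
      exact dvd_zero _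
  have hfin : (n : ℤ) ∣ (e : ℤ) - ε := ⟨(a0 : ℤ) - ε * r, by
    linear_combination hsum' - h2 - ε * hr⟩
  rcases hε with rfl | rfl
  · exact Or.inl hfin
  · exact Or.inr (by simpa using hfin)

end Cfsg.Agent.UnitValues
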