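import Mathlib
import Cfsg.Agent.Lib.CharExtensionCrit
import Cfsg.Agent.Lib.CharKernel
import Cfsg.Agent.Lib.CharGallagher
import Cfsg.Agent.Lib.GlaubermanLayers
import Cfsg.Agent.Lib.UnitValues

/-!
# Fully ramified characters under a Frobenius action

* `exists_ext_irr` : invariant irreducible characters extend over a cyclic quotient.
* `coset_norm` : an extension has norm one on each coset.
* `sum_coset_eq` : averaging over a coset of a fixed-point-free element.
-/

set_option autoImplicit false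
set_option linter.unusedSectionVars false

open scoped ComplexConjugate

namespace Cfsg.Agent.FrobeniusRamified

open Cfsg Cfsg.Agent.CharBasic Cfsg.Agent.CharBasicOrth Cfsg.Agent.CharBasicDecomp

universe u

variable {G : Type u} [Group G] [Fintype G] (N : Subgroup G) [hN : N.Normal] [Fintype N]

theorem exists_ext_irr (hcyc : IsCyclic (G ⧸ N)) {θ : N → ℂ} (hθ : IsIrrCharacter N θ)
    (hinv : ∀ (g : G) (n : N), θ ⟨g * n * g⁻¹, hN.conj_mem (n : G) n.2 g⟩ = θ n) :
    ∃ χ : G → ℂ, IsIrrCharacter G χ ∧ ∀ n : N, χ n = θ n := by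
  obtain ⟨d, ρ, hd0, -, hch, S, hi, hirr⟩ := CharExtension.exists_setup hθ hinv
  obtain ⟨η, hη⟩ := CharExtension.exists_ext_cyclic S hi
    (fun k a hk => CharExtension.exists_root k a hk) hcyc
  obtain ⟨h1, h2⟩ := CharExtension.ext_to_char_top hirr η hη
  exact ⟨_, h1, fun n => by rw [h2, hch]⟩

theorem coset_norm (hcyc : IsCyclic (G ⧸ N)) {θ : N → ℂ} (hθ : IsIrrCharacter N θ) {χ : G → ℂ}
    (hχ : IsIrrCharacter G χ) (he : ∀ n : N, χ n = θ n) (x : G) :
    ∑ m : N, χ ((m : G) * x) * conj (χ ((m : G) * x)) = (Nat.card N : ℂ) := by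
  classical
  set n := N.index with hn
  have hn0 : 0 < n := Nat.pos_of_ne_zero N.index_ne_zero_of_finite
  obtain ⟨q, hq⟩ := hcyc.exists_generator
  have hord : orderOf q = n := by
    rw [hn, Subgroup.index_eq_card, ← Nat.card_zpowers,
      show Subgroup.zpowers q = ⊤ from eq_top_iff.2 fun y _ => hq y, Subgroup.card_top]
  obtain ⟨ζ₀, hζ₀⟩ : ∃ z : ℂ, IsPrimitiveRoot z n := ⟨_, Complex.isPrimitiveRoot_exp n hn0.ne'⟩
  obtain ⟨ζ, rfl⟩ := hζ₀.isUnit hn0.ne'
  have hζ : IsPrimitiveRoot ζ n := IsPrimitiveRoot.coe_units_iff.1 hζ₀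
  have hdv : orderOf ζ ∣ orderOf q := by rw [hord, ← hζ.eq_orderOf]
  let ω : G →* ℂˣ := (monoidHomOfForallMemZpowers hq hdv).comp (QuotientGroup.mk' N)
  have hω : ∀ y : G, ω y = 1 ↔ y ∈ N := by
    intro y
    obtain ⟨i, hi⟩ := mem_powers_iff_mem_zpowers.2 (hq (y : G ⧸ N))
    have e : ω y = ζ ^ i := by
      show monoidHomOfForallMemZpowers hq hdv (y : G ⧸ N) = _
      rw [← hi, map_pow, monoidHomOfForallMemZpowers_apply_gen]
    rw [e, ← QuotientGroup.eq_one_iff, ← hi]
    show ζ ^ i = 1 ↔ q ^ i = 1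
    rw [← orderOf_dvd_iff_pow_eq_one, ← orderOf_dvd_iff_pow_eq_one, hord, ← hζ.eq_orderOf]
  have hωn : ∀ y, ((ω y : ℂ)) ^ n = 1 := fun y => by
    rw [← Units.val_pow_eq_pow_val, ← map_pow, (hω _).2 (Subgroup.pow_index_mem N y), Units.val_one]
  have hconj : ∀ y, conj (ω y : ℂ) = (ω y : ℂ)⁻¹ := fun y =>
    (Complex.inv_eq_conj (norm_linear ω y)).symm
  let z : G → ℂ := fun y => (ω x : ℂ) * conj (ω y : ℂ)
  have hz : ∀ y, z y ^ n = 1 := fun y => by
    simp only [z, mul_pow, hωn, one_mul, ← map_pow, map_one]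
  have hz1 : ∀ y, z y = 1 ↔ y * x⁻¹ ∈ N := fun y => by
    rw [show z y = (ω x : ℂ) * (ω y : ℂ)⁻¹ from by simp only [z, hconj],
      mul_inv_eq_one₀ (Units.ne_zero _), Units.val_inj, ← hω, map_mul, map_inv, mul_inv_eq_one]
    exact eq_comm
  have hdelta : ∀ j ∈ Finset.range n,
      classInner χ (fun y => χ y * ((ω ^ j) y : ℂ)) = if j = 0 then 1 else 0 := by
    intro j hj
    by_cases hj0 : j = 0
    · subst hj0
      simp [classInner_irr_self hχ]
    rw [if_neg hj0, classInner_irr_ne hχ (isIrrCharacter_mul_linear hχ (ω ^ j))]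
    intro he'
    have hone : ∀ g : N, ((ω ^ j) (g : G) : ℂ) = ((ω ^ j) (1 : G) : ℂ) := fun g => by
      simp [MonoidHom.pow_apply, (hω (g : G)).2 g.2]
    have h1 := (CharGallagher.bijOn_one N hθ hχ he).injOn
      ⟨isIrrCharacter_linear (ω ^ j), hone⟩ ⟨isIrrCharacter_one, fun _ => rfl⟩
      (funext fun y => by
        show ((ω ^ j) y : ℂ) * χ y = 1 * χ y
        rw [one_mul]
        exact (mul_comm _ _).trans (congrFun he' y).symm)
    obtain ⟨y, hy⟩ := QuotientGroup.mk'_surjective N q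
    have h2 : ω y = ζ := by
      show monoidHomOfForallMemZpowers hq hdv (QuotientGroup.mk' N y) = ζ
      rw [hy, monoidHomOfForallMemZpowers_apply_gen]
    have h3 : ζ ^ j = 1 := Units.ext (by
      have h4 := congrFun h1 y
      rwa [MonoidHom.pow_apply, h2] at h4)
    exact hj0 (Nat.eq_zero_of_dvd_of_lt (hζ.dvd_of_pow_eq_one j h3) (Finset.mem_range.1 hj))
  have hsum : ∑ j ∈ Finset.range n, (ω x : ℂ) ^ j *
      ((Nat.card G : ℂ) * classInner χ (fun y => χ y * ((ω ^ j) y : ℂ))) =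
      (n : ℂ) * ∑ g : N, χ ((g : G) * x) * conj (χ ((g : G) * x)) := by
    simp only [CharBasicOrth.card_mul_classInner, Finset.mul_sum]
    rw [Finset.sum_comm]
    have : ∀ y : G, ∑ j ∈ Finset.range n,
        (ω x : ℂ) ^ j * (χ y * conj (χ y * ((ω ^ j) y : ℂ))) =
        if y * x⁻¹ ∈ N then (n : ℂ) * (χ y * conj (χ y)) else 0 := fun y => by
      have e : ∀ j ∈ Finset.range n, (ω x : ℂ) ^ j * (χ y * conj (χ y * ((ω ^ j) y : ℂ))) =
          χ y * conj (χ y) * z y ^ j := fun j _ => by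
        simp only [z, MonoidHom.pow_apply, Units.val_pow_eq_pow_val, map_mul, map_pow]
        ring
      rw [Finset.sum_congr rfl e, ← Finset.mul_sum, GlaubermanCyclic.geom_root (hz y)]
      by_cases hy : y * x⁻¹ ∈ N
      · rw [if_pos ((hz1 y).2 hy), if_pos hy, mul_comm]
      · rw [if_neg (fun e => hy ((hz1 y).1 e)), if_neg hy, mul_zero]
    rw [Finset.sum_congr rfl (fun y _ => this y), ← Finset.sum_filter]
    refine (Finset.sum_nbij' (fun g : N => (g : G) * x)
      (fun y => if hy : y * x⁻¹ ∈ N then (⟨y * x⁻¹, hy⟩ : N) else 1) ?_ ?_ ?_ ?_ ?_).symm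
    · intro g _; simp
    · intro y _; simp
    · intro g _; simp
    · intro y hy
      simp only [Finset.mem_filter, Finset.mem_univ, true_and] at hy
      simp [hy]
    · intro g _; rfl
  rw [Finset.sum_congr rfl (fun j hj => by rw [hdelta j hj]),
    Finset.sum_eq_single 0 (fun j _ hj => by simp [hj])
      (fun h0 => absurd (Finset.mem_range.2 hn0) h0)] at hsum
  refine mul_left_cancel₀ (Nat.cast_ne_zero.2 hn0.ne' : (n : ℂ) ≠ 0) (hsum.symm.trans ?_)
  rw [hn, ← N.card_mul_index]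
  simp [mul_comm]

/-- Averaging a class function over the coset of a fixed-point-free element. -/
theorem sum_coset_eq (K : Subgroup G) [hK : K.Normal] [Fintype K] (hNK : N ≤ K) {y : G}
    (hfpf : ∀ g ∈ K, y * g * y⁻¹ * g⁻¹ ∈ N → g ∈ N) {F : G → ℂ} (hF : IsClassFunction G F) :
    (Nat.card N : ℂ) * ∑ g : K, F ((g : G) * y) =
      (Nat.card K : ℂ) * ∑ m : N, F ((m : G) * y) := by
  classical
  let N' := N.subgroupOf K
  haveI := Fintype.ofFinite (K ⧸ N')
  let r : K ⧸ N' → K := Quotient.out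
  have hmem : ∀ (q : K ⧸ N') (m : N), (r q : G) * ((m : G) * y) * (r q : G)⁻¹ * y⁻¹ ∈ K := by
    intro q m
    have : (r q : G) * ((m : G) * y) * (r q : G)⁻¹ * y⁻¹ =
        (r q : G) * (m : G) * (y * (r q : G)⁻¹ * y⁻¹) := by group
    rw [this]
    exact K.mul_mem (K.mul_mem (r q).2 (hNK m.2)) (hK.conj_mem _ (K.inv_mem (r q).2) y)
  let f : (K ⧸ N') × N → K := fun p => ⟨_, hmem p.1 p.2⟩
  have hcard : Nat.card ((K ⧸ N') × N) = Nat.card K := by
    rw [Nat.card_prod, Subgroup.card_eq_card_quotient_mul_card_subgroup N',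
      Nat.card_congr (Subgroup.subgroupOfEquivOfLe hNK).toEquiv]
  have hf : Function.Bijective f := by
    refine Function.Injective.bijective_of_nat_card_le ?_ hcard.ge
    rintro ⟨q, m⟩ ⟨q', m'⟩ h
    have e : (r q : G) * ((m : G) * y) * (r q : G)⁻¹ = (r q' : G) * ((m' : G) * y) * (r q' : G)⁻¹ :=
      mul_right_cancel (congrArg Subtype.val h)
    set z : G := (r q' : G)⁻¹ * r q with hz
    have e' : z * ((m : G) * y) * z⁻¹ = (m' : G) * y := by
      calc z * ((m : G) * y) * z⁻¹ =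
            (r q' : G)⁻¹ * ((r q : G) * ((m : G) * y) * (r q : G)⁻¹) * r q' := by rw [hz]; group
        _ = _ := by rw [e]; group
    have hzK : z ∈ K := K.mul_mem (K.inv_mem (r q').2) (r q).2
    have hzN : z ∈ N := by
      refine hfpf z hzK ?_
      rw [← QuotientGroup.eq_one_iff]
      have e2 := congrArg (fun t : G => (t : G ⧸ N)) e'
      simp only [QuotientGroup.mk_mul, QuotientGroup.mk_inv, (QuotientGroup.eq_one_iff _).2 m.2,
        (QuotientGroup.eq_one_iff _).2 m'.2, one_mul] at e2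
      simp only [QuotientGroup.mk_mul, QuotientGroup.mk_inv]
      rw [mul_inv_eq_one, mul_inv_eq_iff_eq_mul]
      exact (mul_inv_eq_iff_eq_mul.1 e2).symm
    have hqq : q = q' := by
      rw [← Quotient.out_eq q, ← Quotient.out_eq q']
      refine (Quotient.sound ?_).symm
      exact QuotientGroup.leftRel_apply.2 hzN
    subst hqq
    refine Prod.ext rfl (Subtype.ext ?_)
    exact mul_right_cancel (mul_left_cancel (mul_right_cancel e))
  rw [← Function.Bijective.sum_comp hf (fun g : K => F ((g : G) * y)), Fintype.sum_prod_type]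
  have : ∀ (q : K ⧸ N') (m : N), F ((f (q, m) : G) * y) = F ((m : G) * y) := fun q m => by
    show F ((r q : G) * ((m : G) * y) * (r q : G)⁻¹ * y⁻¹ * y) = _
    rw [inv_mul_cancel_right, hF]
  simp only [this, Finset.sum_const, Finset.card_univ, nsmul_eq_mul, ← Nat.card_eq_fintype_card]
  rw [← mul_assoc, ← Nat.cast_mul, mul_comm (Nat.card N), ← Nat.card_prod, hcard]

end Cfsg.Agent.FrobeniusRamified
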