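import Mathlib.GroupTheory.Perm.Cycle.Type
import Mathlib.GroupTheory.Sylow
import Mathlib.GroupTheory.GroupAction.Quotient
import Cfsg.Prelude.Def_LieRecognition

/-!
Basic consequences of the rank one set-up `Cfsg.IsRankOneSetup`.
-/

set_option autoImplicit false

namespace Cfsg.Agent.RankOneSetup

open MulAction

variable {G Ω : Type*} [Group G] [MulAction G Ω] {a : Ω} {t : G} {Q : Subgroup G}

/-- The two-point stabiliser of `a` and `t • a`. -/
abbrev twoPt (G : Type*) [Group G] {Ω : Type*} [MulAction G Ω] (a : Ω) (t : G) : Subgroup G :=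
  stabilizer G a ⊓ stabilizer G (t • a)

/-- Involutions swapping `a` and `t • a`. -/
def IsSwap (a : Ω) (t v : G) : Prop := v * v = 1 ∧ v • a = t • a

theorem mem_twoPt {d : G} : d ∈ twoPt G a t ↔ d • a = a ∧ d • (t • a) = t • a := Iff.rfl

/-! ### Odd order subgroups -/

section Odd

variable {X : Subgroup G}

theorem eq_one_of_sq (hX : Odd (Nat.card X)) {x : G} (hx : x ∈ X) (h : x * x = 1) : x = 1 := by
  have h2 : orderOf x ∣ 2 := orderOf_dvd_of_pow_eq_one (by rw [pow_two, h])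
  have h3 : orderOf x ∣ Nat.card X := X.orderOf_dvd_natCard hx
  have h4 : orderOf x ∣ Nat.gcd 2 (Nat.card X) := Nat.dvd_gcd h2 h3
  rw [Nat.Coprime.gcd_eq_one (Nat.coprime_two_left.2 hX), Nat.dvd_one, orderOf_eq_one_iff] at h4
  exact h4

theorem pow_card_succ {x : G} (hx : x ∈ X) : x ^ (Nat.card X + 1) = x := by
  rw [pow_succ]
  have : x ^ Nat.card X = 1 := orderOf_dvd_iff_pow_eq_one.1 (X.orderOf_dvd_natCard hx)
  rw [this, one_mul]

theorem exists_sqrt (hX : Odd (Nat.card X)) {x : G} (hx : x ∈ X) : ∃ y ∈ X, y * y = x := by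
  obtain ⟨m, hm⟩ := hX
  refine ⟨x ^ (m + 1), X.pow_mem hx _, ?_⟩
  rw [← pow_add]
  convert pow_card_succ hx using 2
  omega

theorem sq_inj (hX : Odd (Nat.card X)) {x y : G} (hx : x ∈ X) (hy : y ∈ X)
    (h : x * x = y * y) : x = y := by
  obtain ⟨m, hm⟩ := hX
  have e : ∀ z ∈ X, z = (z * z) ^ (m + 1) := fun z hz => by
    rw [← pow_two, ← pow_mul]
    conv_lhs => rw [← pow_card_succ hz]
    congr 1; omega
  rw [e x hx, e y hy, h]

/-- Two elements inverted by an involutory conjugation are related by an inverted element. -/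
theorem exists_inverted_mid (hX : Odd (Nat.card X)) {t : G} (ht : t * t = 1)
    (hn : ∀ x ∈ X, t * x * t ∈ X) {a₁ a₂ : G} (h₁ : a₁ ∈ Cfsg.invertedBy X t)
    (h₂ : a₂ ∈ Cfsg.invertedBy X t) : ∃ k ∈ Cfsg.invertedBy X t, k * a₂ * k = a₁ := by
  have ti : t⁻¹ = t := inv_eq_of_mul_eq_one_left ht
  have hmul : ∀ x y : G, t * (x * y) * t = (t * x * t) * (t * y * t) := fun x y => by
    simp only [mul_assoc]; rw [← mul_assoc t t, ht, one_mul]
  have e₁ : t * a₁ * t = a₁⁻¹ := by simpa [ti] using h₁.2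
  have e₂ : t * a₂ * t = a₂⁻¹ := by simpa [ti] using h₂.2
  obtain ⟨m, hm, hm2⟩ := exists_sqrt hX (X.mul_mem h₁.1 h₂.1)
  have hσm : t * m * t = a₂ * m⁻¹ * a₂⁻¹ := by
    refine sq_inj hX (hn m hm) (X.mul_mem (X.mul_mem h₂.1 (X.inv_mem hm)) (X.inv_mem h₂.1)) ?_
    rw [← hmul, hm2, hmul, e₁, e₂]
    have : a₂ * m⁻¹ * a₂⁻¹ * (a₂ * m⁻¹ * a₂⁻¹) = a₂ * (m * m)⁻¹ * a₂⁻¹ := by group
    rw [this, hm2]; group
  refine ⟨m * a₂⁻¹, ⟨X.mul_mem hm (X.inv_mem h₂.1), ?_⟩, ?_⟩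
  · have e₂' : t * a₂⁻¹ * t = a₂ := by
      calc t * a₂⁻¹ * t = t⁻¹ * a₂⁻¹ * t⁻¹ := by rw [ti]
        _ = (t * a₂ * t)⁻¹ := by group
        _ = a₂ := by rw [e₂, inv_inv]
    rw [ti, hmul, hσm, e₂']; group
  · calc m * a₂⁻¹ * a₂ * (m * a₂⁻¹) = (m * m) * a₂⁻¹ := by group
      _ = a₁ := by rw [hm2, mul_inv_cancel_right]

end Odd

theorem exists_conj_of_odd {u v : G} (hu : u * u = 1) (hv : v * v = 1)
    (h : Odd (orderOf (u * v))) : ∃ g : G, g * v * g⁻¹ = u := by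
  obtain ⟨m, hm⟩ := h
  let r := u * v
  have hvi : v⁻¹ = v := inv_eq_of_mul_eq_one_left hv
  have hui : u⁻¹ = u := inv_eq_of_mul_eq_one_left hu
  have hvr : v * r * v⁻¹ = r⁻¹ := by simp [r, mul_inv_rev, hui, hvi, mul_assoc, hv]
  refine ⟨r ^ (m + 1), ?_⟩
  have h1 : v * (r ^ (m + 1))⁻¹ = r ^ (m + 1) * v := by
    have : v * (r ^ (m + 1)) * v⁻¹ = (r ^ (m + 1))⁻¹ := by
      rw [← conj_pow, hvr, inv_pow]
    calc v * (r ^ (m + 1))⁻¹ = v * (v * (r ^ (m + 1)) * v⁻¹) := by rw [this]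
      _ = (v * v) * r ^ (m + 1) * v⁻¹ := by group
      _ = r ^ (m + 1) * v := by rw [hv, one_mul, hvi]
  rw [mul_assoc, h1, ← mul_assoc, ← pow_add]
  have : r ^ (m + 1 + (m + 1)) = r := by
    rw [show m + 1 + (m + 1) = orderOf r + 1 from by show _ = orderOf (u * v) + 1; omega,
      pow_succ, pow_orderOf_eq_one, one_mul]
  rw [this]
  simp [r, mul_assoc, hv]

section Setup

variable (hS : Cfsg.IsRankOneSetup G Ω a t Q)

include hS

theorem t_inv : t⁻¹ = t := inv_eq_of_mul_eq_one_left hS.mul_self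

theorem t_smul_b : t • (t • a) = a := by rw [smul_smul, hS.mul_self, one_smul]

theorem b_ne : t • a ≠ a := hS.not_mem

theorem t_conj {d : G} (hd : d ∈ twoPt G a t) : t * d * t ∈ twoPt G a t := by
  obtain ⟨h1, h2⟩ := mem_twoPt.1 hd
  refine mem_twoPt.2 ⟨?_, ?_⟩ <;> simp only [mul_smul]
  · rw [h2, t_smul_b hS]
  · rw [t_smul_b hS, h1]

theorem t_conj_mul (x y : G) : t * (x * y) * t = (t * x * t) * (t * y * t) := by
  simp only [mul_assoc]; rw [← mul_assoc t t, hS.mul_self, one_mul]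

theorem t_conj_t_conj (x : G) : t * (t * x * t) * t = x := by
  simp only [mul_assoc, hS.mul_self, mul_one]; rw [← mul_assoc, hS.mul_self, one_mul]

theorem exists_q {c : Ω} (hc : c ≠ a) : ∃ q ∈ Q, q • (t • a) = c := by
  obtain ⟨g, hga, hgb⟩ := (is_two_pretransitive_iff.1 hS.two_transitive :
    ∀ {x y z w : Ω}, x ≠ y → z ≠ w → ∃ g : G, g • x = z ∧ g • y = w) (b_ne hS).symm hc.symm
  have hg : g ∈ Q ⊔ twoPt G a t := by rw [twoPt, hS.sup_eq]; exact hga
  have hle : twoPt G a t ≤ Subgroup.normalizer (Q : Set G) := by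
    intro d hd
    rw [Subgroup.mem_normalizer_iff]
    intro n
    refine ⟨hS.conj_mem d hd.1 n, fun hn => ?_⟩
    simpa [mul_assoc] using hS.conj_mem d⁻¹ (inv_mem hd.1) _ hn
  rw [← SetLike.mem_coe, Subgroup.coe_mul_of_right_le_normalizer_left _ _ hle] at hg
  obtain ⟨q, hq, d, hd, rfl⟩ := hg
  refine ⟨q, hq, ?_⟩
  rw [← hgb, mul_smul, (mem_twoPt.1 hd).2]

theorem eq_one_of_fix {q : G} (hq : q ∈ Q) {c : Ω} (hc : c ≠ a) (h : q • c = c) : q = 1 := by
  obtain ⟨p, hp, rfl⟩ := exists_q hS hc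
  have h1 : p⁻¹ * q * p ∈ Q ⊓ stabilizer G (t • a) :=
    ⟨Q.mul_mem (Q.mul_mem (Q.inv_mem hp) hq) hp, by
      show (p⁻¹ * q * p) • (t • a) = t • a
      rw [mul_smul, mul_smul, h, inv_smul_smul]⟩
  rw [hS.inf_eq_bot, Subgroup.mem_bot] at h1
  calc q = p * (p⁻¹ * q * p) * p⁻¹ := by group
    _ = 1 := by rw [h1]; group

theorem eq_of_smul_eq {q q' : G} (hq : q ∈ Q) (hq' : q' ∈ Q) {c : Ω} (hc : c ≠ a)
    (h : q • c = q' • c) : q = q' := by
  have := eq_one_of_fix hS (Q.mul_mem (Q.inv_mem hq') hq) hc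
    (by rw [mul_smul, h, inv_smul_smul])
  exact (inv_mul_eq_one.1 this).symm

theorem smul_a {g : G} (hg : g ∈ Q) : g • a = a := hS.le hg

omit hS in
theorem smul_ne_a {g : G} (hg : g • a = a) {c : Ω} (hc : c ≠ a) : g • c ≠ a := fun h =>
  hc (MulAction.injective g (h.trans hg.symm))

theorem exists_q_between {b c : Ω} (hb : b ≠ a) (hc : c ≠ a) : ∃ q ∈ Q, q • b = c := by
  obtain ⟨p, hp, rfl⟩ := exists_q hS hb
  obtain ⟨q, hq, rfl⟩ := exists_q hS hc
  exact ⟨q * p⁻¹, Q.mul_mem hq (Q.inv_mem hp), by rw [mul_smul, inv_smul_smul]⟩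

theorem exists_smul_eq_a (c : Ω) : ∃ g : G, g • a = c := by
  rcases eq_or_ne c a with rfl | hc
  · exact ⟨1, one_smul _ _⟩
  · obtain ⟨q, hq, rfl⟩ := exists_q hS hc
    exact ⟨q * t, mul_smul _ _ _⟩

theorem decompose {g : G} (hg : g • a = a) : ∃ q ∈ Q, ∃ d ∈ twoPt G a t, g = q * d := by
  obtain ⟨q, hq, he⟩ := exists_q hS (smul_ne_a hg (b_ne hS))
  refine ⟨q, hq, q⁻¹ * g, mem_twoPt.2 ⟨?_, ?_⟩, by group⟩
  · rw [mul_smul, hg, smul_a hS (Q.inv_mem hq)]
  · rw [mul_smul, ← he, inv_smul_smul]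

theorem decompose_unique {q q' d d' : G} (hq : q ∈ Q) (hq' : q' ∈ Q) (hd : d ∈ twoPt G a t)
    (hd' : d' ∈ twoPt G a t) (h : q * d = q' * d') : q = q' ∧ d = d' := by
  have : q = q' := eq_of_smul_eq hS hq hq' (b_ne hS) (by
    have := congrArg (fun x : G => x • (t • a)) h
    simpa only [mul_smul, (mem_twoPt.1 hd).2, (mem_twoPt.1 hd').2] using this)
  exact ⟨this, by rw [this] at h; exact mul_left_cancel h⟩

theorem q_ne_bot : Q ≠ ⊥ := by
  intro h
  have := hS.even_card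
  rw [h, Subgroup.card_bot] at this
  exact Nat.not_even_one this

theorem fix_eq_a {x : G} (hx : x ∈ Q) (hx1 : x ≠ 1) {c : Ω} (h : x • c = c) : c = a := by
  by_contra hc
  exact hx1 (eq_one_of_fix hS hx hc h)

theorem twoPt_mul_q {q : G} (hq : q ∈ Q) {d : G} (hd : d ∈ twoPt G a t) : d * q * d⁻¹ ∈ Q :=
  hS.conj_mem d hd.1 q hq

variable [Finite G]

theorem finite_omega : Finite Ω :=
  Finite.of_surjective (fun g : G => g • a) (exists_smul_eq_a hS)

theorem card_omega : Nat.card Ω = Nat.card Q + 1 := by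
  have := finite_omega hS
  classical
  have e : Q ≃ {c : Ω // c ≠ a} := Equiv.ofBijective
    (fun q => ⟨(q : G) • (t • a), smul_ne_a (smul_a hS q.2) (b_ne hS)⟩) ⟨fun q q' h =>
      Subtype.ext (eq_of_smul_eq hS q.2 q'.2 (b_ne hS) (congrArg Subtype.val h)), fun c => by
      obtain ⟨q, hq, he⟩ := exists_q hS c.2
      exact ⟨⟨q, hq⟩, Subtype.ext he⟩⟩
  rw [Nat.card_congr e, ← Nat.card_congr (Equiv.optionSubtypeNe a), Finite.card_option]

omit [Finite G] in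
theorem invol_mem_q {s : G} (hs : s • a = a) (h2 : s * s = 1) : s ∈ Q := by
  obtain ⟨q, hq, d, hd, rfl⟩ := decompose hS hs
  have h3 : d * d ∈ Q := by
    have e : d * d = (q * (d * q * d⁻¹))⁻¹ * (q * d * (q * d)) := by group
    rw [e, h2, mul_one]
    exact Q.inv_mem (Q.mul_mem hq (twoPt_mul_q hS hq hd))
  have h4 : d * d = 1 := by
    have h5 : d * d ∈ Q ⊓ stabilizer G (t • a) := ⟨h3, ((twoPt G a t).mul_mem hd hd).2⟩
    rwa [hS.inf_eq_bot, Subgroup.mem_bot] at h5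
  rw [eq_one_of_sq hS.odd_card hd h4, mul_one]
  exact hq

theorem exists_fix {s : G} (h2 : s * s = 1) : ∃ c : Ω, s • c = c := by
  have := finite_omega hS
  have := Fintype.ofFinite Ω
  have hodd : ¬ 2 ∣ Fintype.card Ω := by
    rw [← Nat.card_eq_fintype_card, card_omega hS, ← even_iff_two_dvd, Nat.not_even_iff_odd]
    exact Even.add_one hS.even_card
  refine Equiv.Perm.exists_fixed_point_of_prime (p := 2) (n := 1) hodd
    (σ := MulAction.toPermHom G Ω s) ?_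
  rw [pow_one, ← map_pow, pow_two, h2, map_one]

theorem fix_unique {s : G} (h1 : s ≠ 1) (h2 : s * s = 1) {c d : Ω} (hc : s • c = c)
    (hd : s • d = d) : c = d := by
  obtain ⟨g, rfl⟩ := exists_smul_eq_a hS c
  have e1 : (g⁻¹ * s * g) • a = a := by rw [mul_smul, mul_smul, hc, inv_smul_smul]
  have e2 : g⁻¹ * s * g * (g⁻¹ * s * g) = 1 := by
    calc g⁻¹ * s * g * (g⁻¹ * s * g) = g⁻¹ * (s * s) * g := by group
      _ = 1 := by rw [h2]; group
  have e3 : g⁻¹ * s * g ≠ 1 := fun h => h1 (by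
    calc s = g * (g⁻¹ * s * g) * g⁻¹ := by group
      _ = 1 := by rw [h]; group)
  have := fix_eq_a hS (invol_mem_q hS e1 e2) e3 (c := g⁻¹ • d)
    (by rw [mul_smul, mul_smul, smul_inv_smul, hd])
  rw [← this, smul_inv_smul]

/-- Involutions with distinct fixed points have product of odd order. -/
theorem odd_orderOf_mul {u v : G} (hu : u * u = 1) (hv : v * v = 1) (hu1 : u ≠ 1) (_hv1 : v ≠ 1)
    {c : Ω} (huc : u • c = c) (hvc : v • c ≠ c) : Odd (orderOf (u * v)) := by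
  by_contra h
  rw [Nat.not_odd_iff_even] at h
  obtain ⟨m, hm⟩ := h
  have hpos := orderOf_pos (u * v)
  let z := (u * v) ^ m
  have hz2 : z * z = 1 := by
    show (u * v) ^ m * (u * v) ^ m = 1
    rw [← pow_add, ← hm, pow_orderOf_eq_one]
  have hz1 : z ≠ 1 := fun h1 => by
    have := Nat.le_of_dvd (by omega) (orderOf_dvd_of_pow_eq_one h1)
    omega
  have hzi : z⁻¹ = z := inv_eq_of_mul_eq_one_left hz2
  have hui : u⁻¹ = u := inv_eq_of_mul_eq_one_left hu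
  have hvi : v⁻¹ = v := inv_eq_of_mul_eq_one_left hv
  have hcu : u * z * u⁻¹ = z := by
    show u * (u * v) ^ m * u⁻¹ = z
    rw [← conj_pow]
    have : u * (u * v) * u⁻¹ = (u * v)⁻¹ := by
      rw [mul_inv_rev, hui, hvi, ← mul_assoc, hu, one_mul]
    rw [this, inv_pow, hzi]
  have hcv : v * z * v⁻¹ = z := by
    show v * (u * v) ^ m * v⁻¹ = z
    rw [← conj_pow]
    have : v * (u * v) * v⁻¹ = (u * v)⁻¹ := by
      rw [mul_inv_rev, hui, hvi, mul_assoc, mul_assoc, hv, mul_one]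
    rw [this, inv_pow, hzi]
  obtain ⟨e, he⟩ := exists_fix hS hz2
  have key : ∀ w : G, w * z * w⁻¹ = z → w • e = e := fun w hw => by
    refine fix_unique hS hz1 hz2 ?_ he
    conv_lhs => rw [← hw, mul_smul, mul_smul, inv_smul_smul, he]
  have := fix_unique hS hu1 hu huc (key u hcu)
  exact hvc (this ▸ key v hcv)

theorem exists_conj_invol {u v : G} (hu : u * u = 1) (hv : v * v = 1) (hu1 : u ≠ 1)
    (hv1 : v ≠ 1) : ∃ g : G, g * u * g⁻¹ = v := by
  obtain ⟨c, hc⟩ := exists_fix hS hu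
  by_cases hvc : v • c = c
  · obtain ⟨d, hd⟩ : ∃ d : Ω, d ≠ c := by
      rcases eq_or_ne c a with rfl | h
      · exact ⟨_, b_ne hS⟩
      · exact ⟨a, h.symm⟩
    obtain ⟨g₁, hg₁⟩ := exists_smul_eq_a hS d
    obtain ⟨g₂, hg₂⟩ := exists_smul_eq_a hS c
    let g := g₁ * g₂⁻¹
    have hgc : g • c = d := by
      show (g₁ * g₂⁻¹) • c = d
      rw [mul_smul, inv_smul_eq_iff.2 hg₂.symm, hg₁]
    let w := g * u * g⁻¹
    have hw : w * w = 1 := by
      calc w * w = g * (u * u) * g⁻¹ := by simp only [w]; group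
        _ = 1 := by rw [hu]; group
    have hw1 : w ≠ 1 := fun h => hu1 (by
      calc u = g⁻¹ * w * g := by simp only [w]; group
        _ = 1 := by rw [h]; group)
    have hwd : w • d = d := by
      show (g * u * g⁻¹) • d = d
      rw [← hgc, mul_smul, mul_smul, inv_smul_smul, hc]
    have hwc : w • c ≠ c := fun h => hd (fix_unique hS hw1 hw hwd h)
    obtain ⟨k, hk⟩ := exists_conj_of_odd hv hw (odd_orderOf_mul hS hv hw hv1 hw1 hvc hwc)
    exact ⟨k * g, by rw [← hk]; simp only [w]; group⟩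
  · obtain ⟨g, hg⟩ := exists_conj_of_odd hu hv (odd_orderOf_mul hS hu hv hu1 hv1 hc hvc)
    exact ⟨g⁻¹, by rw [← hg]; group⟩

/-! ### The correspondence between involutions fixing `a` and involutions swapping `a`, `t • a` -/

omit [Finite G] in
theorem swap_iff {v : G} :
    IsSwap a t v ↔ ∃ k ∈ Cfsg.invertedBy (twoPt G a t) t, v = t * k := by
  constructor
  · rintro ⟨h2, hva⟩
    have hvb : v • (t • a) = a := by rw [← hva, smul_smul, h2, one_smul]
    refine ⟨t * v, ⟨mem_twoPt.2 ⟨?_, ?_⟩, ?_⟩, ?_⟩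
    · rw [mul_smul, hva, t_smul_b hS]
    · rw [mul_smul, hvb]
    · rw [mul_inv_rev, t_inv hS, inv_eq_of_mul_eq_one_left h2, ← mul_assoc t t, hS.mul_self,
        one_mul]
    · rw [← mul_assoc, hS.mul_self, one_mul]
  · rintro ⟨k, ⟨hk, hinv⟩, rfl⟩
    rw [t_inv hS] at hinv
    exact ⟨by rw [← mul_assoc (t * k) t k, hinv, inv_mul_cancel],
      by rw [mul_smul, (mem_twoPt.1 hk).1]⟩

omit [Finite G] in
theorem swap_ne_one {v : G} (hv : IsSwap a t v) : v ≠ 1 := fun h => b_ne hS (by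
  rw [← hv.2, h, one_smul])

omit [Finite G] in
theorem tst_invol {s : G} (hs : s ∈ Cfsg.involutionsIn (stabilizer G a : Set G)) :
    (t * s * t) * (t * s * t) = 1 ∧ t * s * t ≠ 1 := by
  refine ⟨by rw [← t_conj_mul hS, hs.2.2, mul_one, hS.mul_self], fun h => hs.2.1 ?_⟩
  rw [← t_conj_t_conj hS s, h, mul_one, hS.mul_self]

theorem smul_tst_ne {s : G} (hs : s ∈ Cfsg.involutionsIn (stabilizer G a : Set G)) :
    (t * s * t) • a ≠ a := fun h => by
  rw [mul_smul, mul_smul] at h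
  have h2 : s • (t • a) = t • a := by
    conv_lhs => rw [← one_smul G (s • (t • a)), ← hS.mul_self, mul_smul, h]
  exact b_ne hS (fix_unique hS hs.2.1 hs.2.2 h2 hs.1)

theorem phi_exists {s : G} (hs : s ∈ Cfsg.involutionsIn (stabilizer G a : Set G)) :
    ∃ r ∈ Q, IsSwap a t (r * (t * s * t) * r⁻¹) := by
  obtain ⟨q, hq, he⟩ := exists_q hS (smul_tst_ne hS hs)
  refine ⟨q⁻¹, Q.inv_mem hq, ?_, ?_⟩
  · calc _ = q⁻¹ * ((t * s * t) * (t * s * t)) * q := by group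
      _ = 1 := by rw [(tst_invol hS hs).1]; group
  · rw [inv_inv, mul_smul, mul_smul, smul_a hS hq, ← he, inv_smul_smul]

omit [Finite G] in
theorem fix_conj {s r : G} (hs : s ∈ Cfsg.involutionsIn (stabilizer G a : Set G)) :
    (r * (t * s * t) * r⁻¹) • (r • (t • a)) = r • (t • a) := by
  have h : s • a = a := hs.1
  rw [mul_smul, mul_smul, inv_smul_smul, mul_smul, mul_smul, t_smul_b hS, h]

theorem phi_inj {s s' r r' : G} (hs : s ∈ Cfsg.involutionsIn (stabilizer G a : Set G))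
    (hs' : s' ∈ Cfsg.involutionsIn (stabilizer G a : Set G)) (hr : r ∈ Q) (hr' : r' ∈ Q)
    (h : r * (t * s * t) * r⁻¹ = r' * (t * s' * t) * r'⁻¹) : r = r' ∧ s = s' := by
  have hw2 : (r * (t * s * t) * r⁻¹) * (r * (t * s * t) * r⁻¹) = 1 := by
    calc _ = r * ((t * s * t) * (t * s * t)) * r⁻¹ := by group
      _ = 1 := by rw [(tst_invol hS hs).1]; group
  have hw1 : r * (t * s * t) * r⁻¹ ≠ 1 := fun h1 => (tst_invol hS hs).2 (by
    rwa [conj_eq_one_iff] at h1)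
  have he : r = r' := eq_of_smul_eq hS hr hr' (b_ne hS)
    (fix_unique hS hw1 hw2 (fix_conj hS hs) (by rw [h]; exact fix_conj hS hs'))
  refine ⟨he, ?_⟩
  rw [he] at h
  exact mul_left_cancel (mul_right_cancel (mul_left_cancel (mul_right_cancel h)))

theorem phi_surj {v : G} (hv : IsSwap a t v) : ∃ s ∈ Cfsg.involutionsIn (stabilizer G a : Set G),
    ∃ r ∈ Q, r * (t * s * t) * r⁻¹ = v := by
  obtain ⟨e, he⟩ := exists_fix hS hv.1
  have hea : e ≠ a := fun h => b_ne hS (by rw [← hv.2]; rw [h] at he; exact he)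
  obtain ⟨r, hr, hre⟩ := exists_q hS hea
  refine ⟨t * (r⁻¹ * v * r) * t, ⟨?_, ?_, ?_⟩, r, hr, ?_⟩
  · show (t * (r⁻¹ * v * r) * t) • a = a
    rw [mul_smul, mul_smul, mul_smul, mul_smul, hre, he, ← hre, inv_smul_smul, t_smul_b hS]
  · intro h
    have := t_conj_t_conj hS (r⁻¹ * v * r)
    rw [h, mul_one, hS.mul_self] at this
    exact swap_ne_one hS hv (by
      calc v = r * (r⁻¹ * v * r) * r⁻¹ := by group
        _ = 1 := by rw [← this]; group)
  · rw [← t_conj_mul hS]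
    have : r⁻¹ * v * r * (r⁻¹ * v * r) = r⁻¹ * (v * v) * r := by group
    rw [this, hv.1, mul_one, inv_mul_cancel, mul_one, hS.mul_self]
  · rw [t_conj_t_conj hS]; group

omit [Finite G] hS in
theorem conj_invol {d s : G} (hd : d ∈ twoPt G a t)
    (hs : s ∈ Cfsg.involutionsIn (stabilizer G a : Set G)) :
    d * s * d⁻¹ ∈ Cfsg.involutionsIn (stabilizer G a : Set G) := by
  refine ⟨mul_mem (mul_mem hd.1 hs.1) (inv_mem hd.1), fun h => hs.2.1 ?_, ?_⟩
  · rwa [conj_eq_one_iff] at h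
  · calc _ = d * (s * s) * d⁻¹ := by group
      _ = 1 := by rw [hs.2.2]; group

omit [Finite G] in
theorem phi_conj (d s r : G) :
    (d * r * d⁻¹) * (t * ((t * d * t) * s * (t * d * t)⁻¹) * t) * (d * r * d⁻¹)⁻¹ =
      d * (r * (t * s * t) * r⁻¹) * d⁻¹ := by
  have e : t * ((t * d * t) * s * (t * d * t)⁻¹) * t = d * (t * s * t) * d⁻¹ := by
    simp only [mul_inv_rev, t_inv hS, mul_assoc, hS.mul_self, mul_one]
    rw [← mul_assoc t t, hS.mul_self, one_mul]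
  rw [e]; group

omit [Finite G] hS in
theorem swap_conj {d v : G} (hd : d ∈ twoPt G a t) (hv : IsSwap a t v) :
    IsSwap a t (d * v * d⁻¹) := by
  refine ⟨?_, ?_⟩
  · calc _ = d * (v * v) * d⁻¹ := by group
      _ = 1 := by rw [hv.1]; group
  · rw [mul_smul, mul_smul, (mem_twoPt.1 ((twoPt G a t).inv_mem hd)).1, hv.2,
      (mem_twoPt.1 hd).2]

theorem phi_unique {s r₁ r₂ : G} (hs : s ∈ Cfsg.involutionsIn (stabilizer G a : Set G))
    (h₁ : r₁ ∈ Q) (h₂ : r₂ ∈ Q) (v₁ : IsSwap a t (r₁ * (t * s * t) * r₁⁻¹))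
    (v₂ : IsSwap a t (r₂ * (t * s * t) * r₂⁻¹)) : r₁ = r₂ := by
  refine eq_of_smul_eq hS h₁ h₂ (smul_tst_ne hS hs) ?_
  have key : ∀ r ∈ Q, (r * (t * s * t) * r⁻¹) • a = r • ((t * s * t) • a) := fun r hr => by
    rw [mul_smul, mul_smul, smul_a hS (Q.inv_mem hr)]
  rw [← key r₁ h₁, ← key r₂ h₂, v₁.2, v₂.2]

/-- An element of `D` centralises a swap iff its `t`-conjugate centralises the involution. -/
theorem phi_conj_fix {d s r : G} (hd : d ∈ twoPt G a t)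
    (hs : s ∈ Cfsg.involutionsIn (stabilizer G a : Set G)) (hr : r ∈ Q)
    (hv : IsSwap a t (r * (t * s * t) * r⁻¹)) :
    d * (r * (t * s * t) * r⁻¹) * d⁻¹ = r * (t * s * t) * r⁻¹ ↔
      (t * d * t) * s * (t * d * t)⁻¹ = s := by
  have hsw := phi_conj hS d s r
  constructor
  · intro h
    rw [← hsw] at h
    exact (phi_inj hS (conj_invol (t_conj hS hd) hs) hs (twoPt_mul_q hS hr hd) hr h).2
  · intro h
    rw [h] at hsw
    have hv' := swap_conj hd hv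
    rw [← hsw] at hv'
    rw [← hsw, phi_unique hS hs (twoPt_mul_q hS hr hd) hr hv' hv]

/-! ### Decomposition of the elements outside the point stabiliser -/

omit [Finite G] in
theorem conj_q {q d : G} (hq : q ∈ Q) (hd : d ∈ twoPt G a t) : d⁻¹ * q * d ∈ Q := by
  simpa using hS.conj_mem d⁻¹ (inv_mem hd.1) q hq

omit [Finite G] in
theorem exists_centralizing_map_fix {X : Set G} {c e f : Ω} (hce : c ≠ e) (hcf : c ≠ f)
    (hfix : ∀ x ∈ X, x • c = c ∧ x • e = e ∧ x • f = f) :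
    ∃ g ∈ Subgroup.centralizer X, g • c = c ∧ g • e = f := by
  obtain ⟨k, rfl⟩ := exists_smul_eq_a hS c
  have he : k⁻¹ • e ≠ a := fun h => hce (inv_smul_eq_iff.1 h).symm
  have hf : k⁻¹ • f ≠ a := fun h => hcf (inv_smul_eq_iff.1 h).symm
  obtain ⟨q, hq, hqe⟩ := exists_q_between hS he hf
  refine ⟨k * q * k⁻¹, Subgroup.mem_centralizer_iff.2 fun x hx => ?_, ?_, ?_⟩
  · obtain ⟨h1, h2, h3⟩ := hfix x hx
    have hxa : (k⁻¹ * x * k) • a = a := by rw [mul_smul, mul_smul, h1, inv_smul_smul]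
    have hmem : (k⁻¹ * x * k) * q * (k⁻¹ * x * k)⁻¹ ∈ Q := hS.conj_mem _ hxa q hq
    have heq : (k⁻¹ * x * k) * q * (k⁻¹ * x * k)⁻¹ = q := by
      refine eq_of_smul_eq hS hmem hq he ?_
      have e1 : (k⁻¹ * x * k)⁻¹ • (k⁻¹ • e) = k⁻¹ • e := by
        rw [inv_smul_eq_iff, mul_smul, smul_inv_smul, mul_smul, h2]
      rw [mul_smul, mul_smul, e1, hqe, mul_smul, smul_inv_smul, mul_smul, h3]
    rw [mul_inv_eq_iff_eq_mul] at heq
    calc x * (k * q * k⁻¹) = k * ((k⁻¹ * x * k) * q) * k⁻¹ := by group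
      _ = k * (q * (k⁻¹ * x * k)) * k⁻¹ := by rw [heq]
      _ = k * q * k⁻¹ * x := by group
  · rw [mul_smul, mul_smul, inv_smul_smul, smul_a hS hq]
  · rw [mul_smul, mul_smul, hqe, smul_inv_smul]

omit [Finite G] in
theorem exists_centralizing_map {X : Set G} {b₁ b₂ c₁ c₂ : Ω}
    (h3 : ∃ b c d : Ω, b ≠ c ∧ b ≠ d ∧ c ≠ d ∧ ∀ x ∈ X, x • b = b ∧ x • c = c ∧ x • d = d)
    (hfix : ∀ x ∈ X, x • b₁ = b₁ ∧ x • b₂ = b₂ ∧ x • c₁ = c₁ ∧ x • c₂ = c₂)
    (hb : b₁ ≠ b₂) (hc : c₁ ≠ c₂) :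
    ∃ g ∈ Subgroup.centralizer X, g • b₁ = c₁ ∧ g • b₂ = c₂ := by
  obtain ⟨g, hg, hgb⟩ : ∃ g ∈ Subgroup.centralizer X, g • b₁ = c₁ := by
    rcases eq_or_ne b₁ c₁ with h | h
    · exact ⟨1, one_mem _, by rw [one_smul, h]⟩
    · obtain ⟨u, v, w, huv, huw, hvw, hX3⟩ := h3
      obtain ⟨z, hzb, hzc, hz⟩ : ∃ z, z ≠ b₁ ∧ z ≠ c₁ ∧ ∀ x ∈ X, x • z = z := by
        by_cases h1 : u = b₁ ∨ u = c₁
        · by_cases h2 : v = b₁ ∨ v = c₁
          · refine ⟨w, ?_, ?_, fun x hx => (hX3 x hx).2.2⟩ <;>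
              rcases h1 with rfl | rfl <;> rcases h2 with rfl | rfl <;>
              first | exact absurd rfl huv | exact huw.symm | exact hvw.symm
          · exact ⟨v, fun e => h2 (Or.inl e), fun e => h2 (Or.inr e), fun x hx => (hX3 x hx).2.1⟩
        · exact ⟨u, fun e => h1 (Or.inl e), fun e => h1 (Or.inr e), fun x hx => (hX3 x hx).1⟩
      obtain ⟨g, hg, -, hge⟩ := exists_centralizing_map_fix hS hzb hzc
        fun x hx => ⟨hz x hx, (hfix x hx).1, (hfix x hx).2.2.1⟩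
      exact ⟨g, hg, hge⟩
  have hfix2 : ∀ x ∈ X, x • (g • b₂) = g • b₂ := fun x hx => by
    rw [← mul_smul, Subgroup.mem_centralizer_iff.1 hg x hx, mul_smul, (hfix x hx).2.1]
  obtain ⟨g', hg', h1, h2⟩ := exists_centralizing_map_fix hS (c := c₁) (e := g • b₂) (f := c₂)
    (fun h => hb (MulAction.injective g (hgb.trans h))) hc
    fun x hx => ⟨(hfix x hx).2.2.1, hfix2 x hx, (hfix x hx).2.2.2⟩
  exact ⟨g' * g, mul_mem hg' hg, by rw [mul_smul, hgb, h1], by rw [mul_smul, h2]⟩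

theorem exists_centralizing_swap {X : Set G} (hX : X ⊆ (twoPt G a t : Set G))
    (h3 : ∃ b c d : Ω, b ≠ c ∧ b ≠ d ∧ c ≠ d ∧ ∀ x ∈ X, x • b = b ∧ x • c = c ∧ x • d = d) :
    ∃ v ∈ Subgroup.centralizer X, IsSwap a t v := by
  obtain ⟨g, hg, hga, hgb⟩ := exists_centralizing_map hS h3
    (b₁ := a) (b₂ := t • a) (c₁ := t • a) (c₂ := a)
    (fun x hx => ⟨(mem_twoPt.1 (hX hx)).1, (mem_twoPt.1 (hX hx)).2, (mem_twoPt.1 (hX hx)).2,
      (mem_twoPt.1 (hX hx)).1⟩) (b_ne hS).symm (b_ne hS)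
  have h2 : g * g ∈ twoPt G a t :=
    mem_twoPt.2 ⟨by rw [mul_smul, hga, hgb], by rw [mul_smul, hgb, hga]⟩
  refine ⟨g ^ Nat.card (twoPt G a t), Subgroup.pow_mem _ hg _, ?_, ?_⟩
  · rw [← (Commute.refl g).mul_pow]
    exact orderOf_dvd_iff_pow_eq_one.1 ((twoPt G a t).orderOf_dvd_natCard h2)
  · obtain ⟨m, hm⟩ := hS.odd_card
    show g ^ Nat.card (twoPt G a t) • a = t • a
    rw [show Nat.card (twoPt G a t) = 2 * m + 1 from hm, pow_succ, mul_smul, hga, pow_mul, pow_two]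
    exact (mem_twoPt.1 ((twoPt G a t).pow_mem h2 m)).2


end Setup

end Cfsg.Agent.RankOneSetup
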