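/-
Rank one set-up: inverted elements of the two-point stabiliser act without fixed points on `Q`.
-/
import Mathlib
import Cfsg.Agent.Lib.RankOneSetup
import Cfsg.Agent.Lib.FrobeniusNilpotent
import Cfsg.Agent.S1122

open scoped Pointwise

namespace Cfsg.Agent.FrobeniusRankOne

open MulAction Cfsg.Agent

variable {G Ω : Type*} [Group G] [Finite G] [MulAction G Ω] {a : Ω} {t : G} {Q : Subgroup G}

/-- A non-identity element of `D` inverted by `t` fixes exactly two points. -/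
theorem fpf (hS : Cfsg.IsRankOneSetup G Ω a t Q) {x : G}
    (hx : x ∈ Cfsg.invertedBy (stabilizer G a ⊓ stabilizer G (t • a)) t) (hx1 : x ≠ 1) :
    Q ⊓ Subgroup.centralizer {x} = ⊥ := by
  rw [Subgroup.eq_bot_iff_forall]
  rintro q ⟨hq, hqc⟩
  by_contra hq1
  obtain ⟨hxD, hxt⟩ := hx
  obtain ⟨hxa, hxb⟩ := RankOneSetup.mem_twoPt.1 hxD
  have hqx : q * x = x * q := Subgroup.mem_centralizer_singleton_iff.1 hqc
  have hb : t • a ≠ a := RankOneSetup.b_ne hS
  have h3 : ∃ b c d : Ω, b ≠ c ∧ b ≠ d ∧ c ≠ d ∧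
      ∀ y ∈ ({x} : Set G), y • b = b ∧ y • c = c ∧ y • d = d := by
    refine ⟨a, t • a, q • (t • a), hb.symm,
      (RankOneSetup.smul_ne_a (RankOneSetup.smul_a hS hq) hb).symm,
      fun e => hq1 (RankOneSetup.eq_one_of_fix hS hq hb e.symm), ?_⟩
    rintro y rfl
    exact ⟨hxa, hxb, by rw [← mul_smul, ← hqx, mul_smul, hxb]⟩
  obtain ⟨v, hv, hsw⟩ := RankOneSetup.exists_centralizing_swap hS
    (Set.singleton_subset_iff.2 hxD) h3
  obtain ⟨k, ⟨hk, -⟩, rfl⟩ := (RankOneSetup.swap_iff hS).1 hsw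
  have hti := RankOneSetup.t_inv hS
  rw [hti] at hxt
  -- `k` inverts `x`
  have hkx : k * x * k⁻¹ = x⁻¹ := by
    have h1 : t * k * x = x * (t * k) := Subgroup.mem_centralizer_singleton_iff.1 hv
    calc k * x * k⁻¹ = (t * t) * k * x * k⁻¹ := by rw [hS.mul_self, one_mul]
      _ = t * (t * k * x) * k⁻¹ := by group
      _ = t * (x * (t * k)) * k⁻¹ := by rw [h1]
      _ = t * x * t := by group
      _ = x⁻¹ := hxt
  have hodd : Odd (Nat.card (RankOneSetup.twoPt G a t)) := hS.odd_card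
  have hk2 : Commute (k * k) x := by
    show k * k * x = x * (k * k)
    have : k * k * x * (k * k)⁻¹ = x := by
      calc k * k * x * (k * k)⁻¹ = k * (k * x * k⁻¹) * k⁻¹ := by group
        _ = k * x⁻¹ * k⁻¹ := by rw [hkx]
        _ = (k * x * k⁻¹)⁻¹ := by group
        _ = x := by rw [hkx, inv_inv]
    exact mul_inv_eq_iff_eq_mul.1 this
  have hkc : Commute k x := by
    obtain ⟨m, hm⟩ := hodd
    have e : k = (k * k) ^ (m + 1) := by
      conv_lhs => rw [← RankOneSetup.pow_card_succ hk]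
      rw [← pow_two, ← pow_mul]
      congr 1
      omega
    rw [e]
    exact hk2.pow_left _
  have hxx : x * x = 1 := by
    rw [hkc.eq, mul_inv_cancel_right] at hkx
    rw [← mul_inv_cancel x, ← hkx]
  exact hx1 (RankOneSetup.eq_one_of_sq hodd hxD hxx)

theorem exists_inverted (hS : Cfsg.IsRankOneSetup G Ω a t Q)
    (h2 : ∃ x y : G, x ≠ 1 ∧ y ≠ 1 ∧ x ≠ y ∧ x * x = 1 ∧ y * y = 1 ∧ x * y = y * x) :
    ∃ k ∈ Cfsg.invertedBy (stabilizer G a ⊓ stabilizer G (t • a)) t, k ≠ 1 := by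
  obtain ⟨x, y, hx1, hy1, hxy, hxx, hyy, hc⟩ := h2
  obtain ⟨c, hc'⟩ := RankOneSetup.exists_fix hS hxx
  obtain ⟨g, hg⟩ := RankOneSetup.exists_smul_eq_a hS c
  have hyc : y • c = c := RankOneSetup.fix_unique hS hx1 hxx
    (by rw [← mul_smul, hc, mul_smul, hc']) hc'
  have hmem : ∀ z : G, z ≠ 1 → z * z = 1 → z • c = c →
      g⁻¹ * z * g ∈ Cfsg.involutionsIn (stabilizer G a : Set G) := fun z hz1 hzz hzc => by
    refine ⟨?_, fun e => hz1 ?_, ?_⟩
    · show (g⁻¹ * z * g) • a = a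
      rw [mul_smul, mul_smul, hg, hzc, ← hg, inv_smul_smul]
    · calc z = g * (g⁻¹ * z * g) * g⁻¹ := by group
        _ = 1 := by rw [e, mul_one, mul_inv_cancel]
    · calc g⁻¹ * z * g * (g⁻¹ * z * g) = g⁻¹ * (z * z) * g := by group
        _ = 1 := by rw [hzz, mul_one, inv_mul_cancel]
  by_contra hno
  push Not at hno
  have h1 : Nat.card (Cfsg.invertedBy (stabilizer G a ⊓ stabilizer G (t • a)) t) ≤ 1 := by
    have : Subsingleton (Cfsg.invertedBy (stabilizer G a ⊓ stabilizer G (t • a)) t) :=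
      ⟨fun p q => Subtype.ext ((hno p p.2).trans (hno q q.2).symm)⟩
    exact Finite.card_le_one_iff_subsingleton.2 this
  rw [(Cfsg.Agent.S1122.result hS).1] at h1
  have := Finite.card_le_one_iff_subsingleton.1 h1
  have e := congrArg Subtype.val (Subsingleton.elim
    (⟨_, hmem x hx1 hxx hc'⟩ : Cfsg.involutionsIn (stabilizer G a : Set G)) ⟨_, hmem y hy1 hyy hyc⟩)
  exact hxy (mul_left_cancel (mul_right_cancel e))

theorem nilpotent (hS : Cfsg.IsRankOneSetup G Ω a t Q)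
    (h2 : ∃ x y : G, x ≠ 1 ∧ y ≠ 1 ∧ x ≠ y ∧ x * x = 1 ∧ y * y = 1 ∧ x * y = y * x) :
    Group.IsNilpotent Q := by
  obtain ⟨k, hk, hk1⟩ := exists_inverted hS h2
  obtain ⟨r, hr, hrd⟩ := Nat.exists_prime_and_dvd (n := orderOf k)
    (fun e => hk1 (orderOf_eq_one_iff.1 e))
  set x := k ^ (orderOf k / r) with hxdef
  have hxr : orderOf x = r := orderOf_pow_orderOf_div (orderOf_pos k).ne' hrd
  have hx1 : x ≠ 1 := fun e => hr.ne_one (by rw [← hxr, e, orderOf_one])
  have hx : x ∈ Cfsg.invertedBy (stabilizer G a ⊓ stabilizer G (t • a)) t :=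
    ⟨Subgroup.pow_mem _ hk.1 _, by rw [hxdef, ← conj_pow, hk.2, inv_pow]⟩
  have hfix := fpf hS hx hx1
  have hn : ∀ d ∈ (stabilizer G a ⊓ stabilizer G (t • a) : Subgroup G), ∀ q ∈ Q, d * q * d⁻¹ ∈ Q :=
    fun d hd q hq => hS.conj_mem d hd.1 q hq
  have hxN : x ∈ Subgroup.normalizer (Q : Set G) := by
    rw [Subgroup.mem_normalizer_iff]
    refine fun q => ⟨hn x hx.1 q, fun h => ?_⟩
    simpa [mul_assoc] using hn x⁻¹ ((stabilizer G a ⊓ stabilizer G (t • a)).inv_mem hx.1) _ h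
  let φ : ↥(Subgroup.normalizer (Q : Set G)) →* MulAut Q :=
    { toFun := fun g =>
        { toFun := fun w => ⟨(g : G) * w * (g : G)⁻¹, (Subgroup.mem_normalizer_iff.1 g.2 _).1 w.2⟩
          invFun := fun w => ⟨(g : G)⁻¹ * w * g, (Subgroup.mem_normalizer_iff''.1 g.2 _).1 w.2⟩
          left_inv := fun w => Subtype.ext (by simp [mul_assoc])
          right_inv := fun w => Subtype.ext (by simp [mul_assoc])
          map_mul' := fun a b => Subtype.ext (by simp [mul_assoc]) }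
      map_one' := MulEquiv.ext fun w => Subtype.ext (by simp)
      map_mul' := fun a b => MulEquiv.ext fun w => Subtype.ext (by simp [mul_assoc]) }
  refine FrobeniusNilpotent.isNilpotent_of_fpf (φ ⟨x, hxN⟩) (fun q hq => ?_) r hr ?_
  · refine Subtype.ext (Subgroup.mem_bot.1 (hfix.le ⟨q.2, ?_⟩))
    exact Subgroup.mem_centralizer_singleton_iff.2
      (mul_inv_eq_iff_eq_mul.1 (congrArg Subtype.val hq)).symm
  · rw [← map_pow, ← map_one φ]
    congr 1
    exact Subtype.ext (by simp [← hxr, pow_orderOf_eq_one])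

theorem involutions_central (hS : Cfsg.IsRankOneSetup G Ω a t Q)
    (h2 : ∃ x y : G, x ≠ 1 ∧ y ≠ 1 ∧ x ≠ y ∧ x * x = 1 ∧ y * y = 1 ∧ x * y = y * x) :
    (∀ s ∈ Cfsg.involutionsIn (stabilizer G a : Set G), s ∈ Q ∧ ∀ x ∈ Q, s * x = x * s) ∧
      ∀ s ∈ Cfsg.involutionsIn (stabilizer G a : Set G),
        ∀ s' ∈ Cfsg.involutionsIn (stabilizer G a : Set G),
          s * s' = 1 ∨ s * s' ∈ Cfsg.involutionsIn (stabilizer G a : Set G) := by
  have := nilpotent hS h2
  have := Fact.mk Nat.prime_two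
  obtain ⟨P⟩ : Nonempty (Sylow 2 Q) := inferInstance
  have hPne : (P : Subgroup Q) ≠ ⊥ :=
    P.ne_bot_of_dvd_card (even_iff_two_dvd.1 hS.even_card)
  obtain ⟨z, hz, hzo⟩ := PGroupsBasic.exists_orderOf_eq_of_ne_bot (p := 2)
    (P.isPGroup'.to_le (inf_le_left : FrobeniusThompson.zOf (P : Subgroup Q) ≤ _))
    (FrobeniusThompson.zOf_ne_bot P.isPGroup' hPne)
  -- `z` is central in `Q`
  have hzc : ∀ x : Q, x * z = z * x := by
    obtain ⟨_, L, hL, hc⟩ :=
      (FrobeniusNilpotent.hasNormalPComplement_of_isNilpotent (G := Q) (p := 2))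
    intro x
    rename_i P'
    have hPn : (P : Subgroup Q).Normal :=
      Sylow.normal_of_normalizerCondition Group.normalizerCondition_of_isNilpotent P
    have : Unique (Sylow 2 Q) := Sylow.unique_of_normal P hPn
    rw [Subsingleton.elim P' P] at hc
    obtain ⟨⟨⟨u, hu⟩, ⟨v, hv⟩⟩, rfl⟩ := hc.2 x
    have h2 : Commute v z := hz.2 v hv
    have h1 : Commute u z := by
      refine FrobeniusNilpotent.commute_of_coprime u z ?_
      rw [hzo, Nat.coprime_comm, Nat.prime_two.coprime_iff_not_dvd]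
      intro hd
      apply P.not_dvd_index
      rw [hc.index_eq_card]
      exact hd.trans (Subgroup.orderOf_dvd_natCard _ hu)
    exact (h1.mul_left h2).eq
  have hzinv : (z : G) ∈ Cfsg.involutionsIn (stabilizer G a : Set G) := by
    refine ⟨hS.le z.2, fun e => ?_, ?_⟩
    · rw [show z = 1 from Subtype.ext e, orderOf_one] at hzo
      norm_num at hzo
    · have := congrArg Subtype.val (hzo ▸ pow_orderOf_eq_one z : z ^ 2 = 1)
      simpa [pow_two] using this
  have hcent : ∀ s ∈ Cfsg.involutionsIn (stabilizer G a : Set G),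
      s ∈ Q ∧ ∀ x ∈ Q, s * x = x * s := by
    intro s hs
    refine ⟨RankOneSetup.invol_mem_q hS hs.1 hs.2.2, fun x hx => ?_⟩
    obtain ⟨k, hk, hks⟩ := (Cfsg.Agent.S1122.result hS).2 _ hzinv s hs
    have hx' : k * x * k⁻¹ ∈ Q := hS.conj_mem k hk.1.1 x hx
    have := congrArg Subtype.val (hzc ⟨_, hx'⟩)
    have h3 : k * x * k⁻¹ * z = z * (k * x * k⁻¹) := this
    rw [← hks]
    calc k⁻¹ * z * k * x = k⁻¹ * (z * (k * x * k⁻¹)) * k := by group
      _ = k⁻¹ * (k * x * k⁻¹ * z) * k := by rw [h3]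
      _ = x * (k⁻¹ * z * k) := by group
  refine ⟨hcent, fun s hs s' hs' => or_iff_not_imp_left.2 fun hne => ⟨mul_mem hs.1 hs'.1, hne, ?_⟩⟩
  have hc : Commute s s' := (hcent s hs).2 s' (hcent s' hs').1
  calc s * s' * (s * s') = (s * s) * (s' * s') := by
        rw [mul_assoc, ← mul_assoc s' s s', ← hc.eq]; group
    _ = 1 := by rw [hs.2.2, hs'.2.2, one_mul]

end Cfsg.Agent.FrobeniusRankOne
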