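/-
Rank one set-up: fusion in the centraliser of `t` and products of two involutions.
-/
import Mathlib
import Cfsg.Agent.Lib.FrobeniusRankOne
import Cfsg.Agent.S1124

open scoped Pointwise

namespace Cfsg.Agent.FrobeniusRankTwo

open MulAction Cfsg.Agent

variable {G Ω : Type*} [Group G] [Finite G] [MulAction G Ω] {a : Ω} {t : G} {Q : Subgroup G}

/-- Elements of `V = C_D(t)` fused in `G` are fused in `V`. -/
theorem fusion (hS : Cfsg.IsRankOneSetup G Ω a t Q) (X : Set G)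
    (hX : X ⊆ ((RankOneSetup.twoPt G a t ⊓ Subgroup.centralizer {t} : Subgroup G) : Set G)) (g : G)
    (hY : (fun x => g * x * g⁻¹) '' X ⊆
      ((RankOneSetup.twoPt G a t ⊓ Subgroup.centralizer {t} : Subgroup G) : Set G)) :
    ∃ v ∈ RankOneSetup.twoPt G a t ⊓ Subgroup.centralizer {t},
      (fun x => v * x * v⁻¹) '' X = (fun x => g * x * g⁻¹) '' X := by
  set D := RankOneSetup.twoPt G a t with hD
  have hXt : ∀ x ∈ X, x * t = t * x := fun x hx =>
    Subgroup.mem_centralizer_singleton_iff.1 (hX hx).2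
  have hXfix : ∀ x ∈ X, x • a = a ∧ x • (t • a) = t • a := fun x hx =>
    RankOneSetup.mem_twoPt.1 (hX hx).1
  have hgfix : ∀ x ∈ X, x • (g⁻¹ • a) = g⁻¹ • a ∧ x • (g⁻¹ • (t • a)) = g⁻¹ • (t • a) := by
    intro x hx
    obtain ⟨h1, h2⟩ := RankOneSetup.mem_twoPt.1 (hY ⟨x, hx, rfl⟩).1
    rw [mul_smul, mul_smul] at h1 h2
    exact ⟨eq_inv_smul_iff.2 h1, eq_inv_smul_iff.2 h2⟩
  -- move `g` into `D`
  obtain ⟨d, hd, hdg⟩ : ∃ d ∈ D, ∀ x ∈ X, d * x * d⁻¹ = g * x * g⁻¹ := by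
    suffices h : ∃ c, (∀ x ∈ X, c * x = x * c) ∧ g * c ∈ D by
      obtain ⟨c, hc, hgc⟩ := h
      refine ⟨g * c, hgc, fun x hx => ?_⟩
      calc g * c * x * (g * c)⁻¹ = g * (c * x * c⁻¹) * g⁻¹ := by group
        _ = g * x * g⁻¹ := by rw [hc x hx, mul_inv_cancel_right]
    have hmap : ∀ c : G, c • a = g⁻¹ • a → c • (t • a) = g⁻¹ • (t • a) → g * c ∈ D :=
      fun c h1 h2 => RankOneSetup.mem_twoPt.2
        ⟨by rw [mul_smul, h1, smul_inv_smul], by rw [mul_smul, h2, smul_inv_smul]⟩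
    have hne : g⁻¹ • a ≠ g⁻¹ • (t • a) := fun e =>
      RankOneSetup.b_ne hS (MulAction.injective g⁻¹ e).symm
    by_cases h1 : g⁻¹ • a = a ∧ g⁻¹ • (t • a) = t • a
    · exact ⟨1, fun x _ => by rw [one_mul, mul_one],
        hmap 1 (by rw [one_smul, h1.1]) (by rw [one_smul, h1.2])⟩
    by_cases h2 : g⁻¹ • a = t • a ∧ g⁻¹ • (t • a) = a
    · exact ⟨t, fun x hx => (hXt x hx).symm,
        hmap t h2.1.symm (by rw [RankOneSetup.t_smul_b hS, h2.2])⟩
    have h3 : ∃ b c e : Ω, b ≠ c ∧ b ≠ e ∧ c ≠ e ∧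
        ∀ x ∈ X, x • b = b ∧ x • c = c ∧ x • e = e := by
      by_cases h4 : g⁻¹ • a = a ∨ g⁻¹ • a = t • a
      · refine ⟨a, t • a, g⁻¹ • (t • a), (RankOneSetup.b_ne hS).symm, fun e => ?_, fun e => ?_,
          fun x hx => ⟨(hXfix x hx).1, (hXfix x hx).2, (hgfix x hx).2⟩⟩
        · rcases h4 with h4 | h4
          · exact hne (h4.trans e)
          · exact h2 ⟨h4, e.symm⟩
        · rcases h4 with h4 | h4
          · exact h1 ⟨h4, e.symm⟩
          · exact hne (h4.trans e)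
      · exact ⟨a, t • a, g⁻¹ • a, (RankOneSetup.b_ne hS).symm, fun e => h4 (Or.inl e.symm),
          fun e => h4 (Or.inr e.symm),
          fun x hx => ⟨(hXfix x hx).1, (hXfix x hx).2, (hgfix x hx).1⟩⟩
    obtain ⟨c, hc, hc1, hc2⟩ := RankOneSetup.exists_centralizing_map hS h3
      (fun x hx => ⟨(hXfix x hx).1, (hXfix x hx).2, (hgfix x hx).1, (hgfix x hx).2⟩)
      (RankOneSetup.b_ne hS).symm hne
    exact ⟨c, fun x hx => (Subgroup.mem_centralizer_iff.1 hc x hx).symm, hmap c hc1 hc2⟩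
  -- decompose
  have ht2 : orderOf t = 2 := orderOf_eq_prime (by rw [pow_two, hS.mul_self]) (fun e =>
    RankOneSetup.b_ne hS (by rw [e, one_smul]))
  obtain ⟨huniq, -, -⟩ := Cfsg.Agent.S1124.result t ht2 D hS.odd_card
    (fun x hx => by rw [RankOneSetup.t_inv hS]; exact RankOneSetup.t_conj hS hx)
  obtain ⟨⟨y, z⟩, ⟨hy, hz, hdyz'⟩, -⟩ := huniq d hd
  have hdyz : y * z = d := hdyz'.symm
  simp only at hy hz
  refine ⟨y, hy, Set.image_congr fun x hx => ?_⟩
  show y * x * y⁻¹ = g * x * g⁻¹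
  rw [← hdg x hx]
  have hz' : t * z * t = z⁻¹ := by simpa [RankOneSetup.t_inv hS] using hz.2
  have hti := RankOneSetup.t_inv hS
  have hyt : y * t = t * y := Subgroup.mem_centralizer_singleton_iff.1 hy.2
  have hcomm : (d * x * d⁻¹) * t = t * (d * x * d⁻¹) := by
    rw [hdg x hx]
    exact Subgroup.mem_centralizer_singleton_iff.1 (hY ⟨x, hx, rfl⟩).2
  have h5 : z * x * z⁻¹ = z⁻¹ * x * z := by
    have h6 : (z * x * z⁻¹) * t = t * (z * x * z⁻¹) := by
      calc (z * x * z⁻¹) * t = y⁻¹ * (d * x * d⁻¹) * (y * t) := by rw [← hdyz]; group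
        _ = y⁻¹ * ((d * x * d⁻¹) * t) * y := by rw [hyt]; group
        _ = (y⁻¹ * t) * (d * x * d⁻¹) * y := by rw [hcomm]; group
        _ = (t * y⁻¹) * (d * x * d⁻¹) * y := by
          rw [(show Commute y t from hyt).inv_left.eq]
        _ = t * (z * x * z⁻¹) := by rw [← hdyz]; group
    calc z * x * z⁻¹ = t * ((z * x * z⁻¹) * t) := by rw [h6, ← mul_assoc, hS.mul_self, one_mul]
      _ = (t * z * t) * x * (t * z * t)⁻¹ := by
        have e : x = t * x * t := by
          rw [← hXt x hx, mul_assoc, hS.mul_self, mul_one]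
        conv_lhs => rw [e]
        simp only [mul_inv_rev, hti, mul_assoc]
      _ = z⁻¹ * x * z := by rw [hz', inv_inv]
  have h7 : Commute (z * z) x := by
    show z * z * x = x * (z * z)
    calc z * z * x = z * (z * x * z⁻¹) * z := by group
      _ = z * (z⁻¹ * x * z) * z := by rw [h5]
      _ = x * (z * z) := by group
  have h8 : Commute z x := by
    obtain ⟨m, hm⟩ := hS.odd_card
    have e : z = (z * z) ^ (m + 1) := by
      conv_lhs => rw [← RankOneSetup.pow_card_succ hz.1]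
      rw [← pow_two, ← pow_mul]
      congr 1
      have hm' : Nat.card D = 2 * m + 1 := hm
      omega
    rw [e]
    exact h7.pow_left _
  rw [← hdyz]
  calc y * x * y⁻¹ = y * (z * x * z⁻¹) * y⁻¹ := by rw [h8.eq, mul_inv_cancel_right]
    _ = y * z * x * (y * z)⁻¹ := by group

omit [Finite G] in
theorem map_to_base (hS : Cfsg.IsRankOneSetup G Ω a t Q) {c d : Ω} (h : c ≠ d) :
    ∃ g : G, g • c = a ∧ g • d = t • a :=
  (is_two_pretransitive_iff.1 hS.two_transitive :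
    ∀ {x y z w : Ω}, x ≠ y → z ≠ w → ∃ g : G, g • x = z ∧ g • y = w) h (RankOneSetup.b_ne hS).symm

omit [Finite G] in
/-- A swap is conjugate to `t` by an element of `D`. -/
theorem swap_conj_t (hS : Cfsg.IsRankOneSetup G Ω a t Q) {w : G} (hw : RankOneSetup.IsSwap a t w) :
    ∃ m ∈ RankOneSetup.twoPt G a t, m * w * m⁻¹ = t := by
  obtain ⟨k, hk, rfl⟩ := (RankOneSetup.swap_iff hS).1 hw
  obtain ⟨j, hj, hje⟩ := RankOneSetup.exists_inverted_mid hS.odd_card hS.mul_self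
    (fun x hx => RankOneSetup.t_conj hS hx) hk
    (⟨one_mem _, by simp⟩ : (1 : G) ∈ Cfsg.invertedBy (RankOneSetup.twoPt G a t) t)
  refine ⟨j, hj.1, ?_⟩
  have hjt : j * t = t * j⁻¹ := by
    have h1 : t * j * t = j⁻¹ := by simpa [RankOneSetup.t_inv hS] using hj.2
    rw [← h1]
    simp [← mul_assoc, hS.mul_self]
  calc j * (t * k) * j⁻¹ = (j * t) * k * j⁻¹ := by group
    _ = t := by rw [hjt, ← hje]; group

theorem product (hS : Cfsg.IsRankOneSetup G Ω a t Q)
    (h2 : ∃ x y : G, x ≠ 1 ∧ y ≠ 1 ∧ x ≠ y ∧ x * x = 1 ∧ y * y = 1 ∧ x * y = y * x)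
    (u v : G) (hu1 : u ≠ 1) (hu2 : u * u = 1) (hv1 : v ≠ 1) (hv2 : v * v = 1)
    (hx : (u * v) * (u * v) ≠ 1) :
    (∃ g : G, ∃ u' ∈ Cfsg.involutionsIn (MulAction.stabilizer G a : Set G),
        g * (u * v) * g⁻¹ = u' * t) ∧
      Odd (Nat.card ↥(Subgroup.centralizer {u * v})) := by
  obtain ⟨c, hc⟩ := RankOneSetup.exists_fix hS hu2
  have hinvol : ∀ (g w : G), w * w = 1 → (g * w * g⁻¹) * (g * w * g⁻¹) = 1 := fun g w hw => by
    calc _ = g * (w * w) * g⁻¹ := by group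
      _ = 1 := by rw [hw, mul_one, mul_inv_cancel]
  have hne1 : ∀ (g w : G), w ≠ 1 → g * w * g⁻¹ ≠ 1 := fun g w hw e => hw (conj_eq_one_iff.1 e)
  have hvc : v • c ≠ c := by
    intro hvc
    obtain ⟨g, hg⟩ := RankOneSetup.exists_smul_eq_a hS c
    have hga : g⁻¹ • c = a := by rw [← hg, inv_smul_smul]
    have hmem : ∀ w : G, w ≠ 1 → w * w = 1 → w • c = c →
        g⁻¹ * w * g ∈ Cfsg.involutionsIn (MulAction.stabilizer G a : Set G) := fun w hw1 hw2 hwc =>
      ⟨by show (g⁻¹ * w * g) • a = a; rw [mul_smul, mul_smul, hg, hwc, hga],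
        by simpa using hne1 g⁻¹ w hw1, by simpa using hinvol g⁻¹ w hw2⟩
    have hU := hmem u hu1 hu2 hc
    have hV := hmem v hv1 hv2 hvc
    obtain ⟨hcent, -⟩ := FrobeniusRankOne.involutions_central hS h2
    have hcomm := (hcent _ hU).2 _ (hcent _ hV).1
    have h3 : u * v = v * u := by
      calc u * v = g * ((g⁻¹ * u * g) * (g⁻¹ * v * g)) * g⁻¹ := by group
        _ = g * ((g⁻¹ * v * g) * (g⁻¹ * u * g)) * g⁻¹ := by rw [hcomm]
        _ = v * u := by group
    apply hx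
    calc u * v * (u * v) = u * (v * u) * v := by group
      _ = (u * u) * (v * v) := by rw [← h3]; group
      _ = 1 := by rw [hu2, hv2, one_mul]
  refine ⟨?_, ?_⟩
  · obtain ⟨g, hga, hgb⟩ := map_to_base hS hvc.symm
    have hgi : g⁻¹ • a = c := by rw [← hga, inv_smul_smul]
    have hswap : RankOneSetup.IsSwap a t (g * v * g⁻¹) :=
      ⟨hinvol g v hv2, by rw [mul_smul, mul_smul, hgi, hgb]⟩
    obtain ⟨m, hm, hmt⟩ := swap_conj_t hS hswap
    refine ⟨m * g, (m * g) * u * (m * g)⁻¹, ⟨?_, hne1 _ u hu1, hinvol _ u hu2⟩, ?_⟩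
    · show ((m * g) * u * (m * g)⁻¹) • a = a
      have hmi : m⁻¹ • a = a := ((RankOneSetup.twoPt G a t).inv_mem hm).1
      rw [mul_inv_rev, mul_smul, mul_smul, mul_smul, mul_smul, hmi, hgi, hc, hga]
      exact hm.1
    · rw [← hmt]
      group
  · rw [Nat.odd_iff, ← Nat.two_dvd_ne_zero]
    intro hd
    obtain ⟨⟨z, hz⟩, hzo⟩ := exists_prime_orderOf_dvd_card' (G := Subgroup.centralizer {u * v}) 2 hd
    rw [Subgroup.orderOf_mk] at hzo
    have hz1 : z ≠ 1 := fun e => by rw [e, orderOf_one] at hzo; omega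
    have hz2 : z * z = 1 := by rw [← pow_two, ← hzo, pow_orderOf_eq_one]
    have hzx : z * (u * v) = u * v * z := Subgroup.mem_centralizer_singleton_iff.1 hz
    obtain ⟨e, he⟩ := RankOneSetup.exists_fix hS hz2
    have hxe : (u * v) • e = e := RankOneSetup.fix_unique hS hz1 hz2
      (by rw [← mul_smul, hzx, mul_smul, he]) he
    have hue : u • e ≠ e := by
      intro h
      have h' : v • e = e := by
        calc v • e = (u * u) • (v • e) := by rw [hu2, one_smul]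
          _ = u • ((u * v) • e) := by rw [mul_smul, mul_smul]
          _ = e := by rw [hxe, h]
      exact hvc (RankOneSetup.fix_unique hS hu1 hu2 h hc ▸ h')
    have hux : u * (u * v) * u = (u * v)⁻¹ := by
      rw [mul_inv_rev, inv_eq_of_mul_eq_one_left hu2, inv_eq_of_mul_eq_one_left hv2, ← mul_assoc u u,
        hu2, one_mul]
    have hxue : (u * v) • (u • e) = u • e := by
      have h : (u * (u * v) * u) • e = e := by rw [hux, inv_smul_eq_iff, hxe]
      rw [mul_smul, mul_smul] at h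
      calc (u * v) • (u • e) = (u * u) • ((u * v) • (u • e)) := by rw [hu2, one_smul]
        _ = u • e := by rw [mul_smul, h]
    obtain ⟨g, hga, hgb⟩ := map_to_base hS hue.symm
    have hgi : g⁻¹ • a = e := by rw [← hga, inv_smul_smul]
    have hgi' : g⁻¹ • (t • a) = u • e := by rw [← hgb, inv_smul_smul]
    have hswap : RankOneSetup.IsSwap a t (g * u * g⁻¹) :=
      ⟨hinvol g u hu2, by rw [mul_smul, mul_smul, hgi, hgb]⟩
    obtain ⟨m, hm, hmt⟩ := swap_conj_t hS hswap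
    set h := m * g with hh
    have hma : m⁻¹ • a = a := ((RankOneSetup.twoPt G a t).inv_mem hm).1
    have hmb : m⁻¹ • (t • a) = t • a := ((RankOneSetup.twoPt G a t).inv_mem hm).2
    have hxD : h * (u * v) * h⁻¹ ∈ RankOneSetup.twoPt G a t := by
      refine RankOneSetup.mem_twoPt.2 ⟨?_, ?_⟩
      · rw [hh, mul_inv_rev, mul_smul, mul_smul, mul_smul g⁻¹, hma, hgi, hxe, mul_smul, hga]
        exact hm.1
      · rw [hh, mul_inv_rev, mul_smul, mul_smul, mul_smul g⁻¹, hmb, hgi', hxue, mul_smul, hgb]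
        exact hm.2
    have hinv : h * (u * v) * h⁻¹ ∈ Cfsg.invertedBy (RankOneSetup.twoPt G a t) t := by
      refine ⟨hxD, ?_⟩
      rw [← hmt, hh]
      calc m * (g * u * g⁻¹) * m⁻¹ * (m * g * (u * v) * (m * g)⁻¹) * (m * (g * u * g⁻¹) * m⁻¹)⁻¹ =
          (m * g) * (u * (u * v) * u⁻¹) * (m * g)⁻¹ := by group
        _ = (m * g * (u * v) * (m * g)⁻¹)⁻¹ := by
          rw [inv_eq_of_mul_eq_one_left hu2, hux]; group
    have hx1 : h * (u * v) * h⁻¹ ≠ 1 := hne1 h _ fun h' => hx (by rw [h', one_mul])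
    have hfpf := FrobeniusRankOne.fpf hS hinv hx1
    have hzQ : h * z * h⁻¹ ∈ Q := RankOneSetup.invol_mem_q hS (by
      show (h * z * h⁻¹) • a = a
      rw [hh, mul_inv_rev, mul_smul, mul_smul, mul_smul g⁻¹, hma, hgi, he, mul_smul, hga]
      exact hm.1) (hinvol h z hz2)
    have hzbot : h * z * h⁻¹ ∈ Q ⊓ Subgroup.centralizer {h * (u * v) * h⁻¹} := by
      refine ⟨hzQ, Subgroup.mem_centralizer_singleton_iff.2 ?_⟩
      calc h * z * h⁻¹ * (h * (u * v) * h⁻¹) = h * (z * (u * v)) * h⁻¹ := by group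
        _ = h * (u * v * z) * h⁻¹ := by rw [hzx]
        _ = h * (u * v) * h⁻¹ * (h * z * h⁻¹) := by group
    rw [hfpf, Subgroup.mem_bot] at hzbot
    exact hne1 h z hz1 hzbot

end Cfsg.Agent.FrobeniusRankTwo
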