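/-
Solvable groups in which all non-abelian subgroups are self-normalising.
-/
import Mathlib
import Cfsg.Agent.Lib.FrobeniusFitting

open scoped Pointwise

namespace Cfsg.Agent.FrobeniusSelfNorm

variable {G : Type*} [Group G] [Finite G]

theorem exists_of_selfNorm [Group.IsSolvable G] (hnn : ¬ Group.IsNilpotent G)
    (hsn : ∀ H : Subgroup G, ¬ IsMulCommutative H → Subgroup.normalizer (H : Set G) = H) :
    ∃ (x : G) (A : Subgroup G) (p : ℕ), p.Prime ∧ A.Normal ∧ IsMulCommutative A ∧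
      (∃ k : ℕ, orderOf x = p ^ k) ∧ ¬ p ∣ Nat.card A ∧ (Subgroup.zpowers x).IsComplement' A ∧
      x ^ p ∈ Subgroup.center G ∧ ∀ a : G, a ∈ A → a ≠ 1 → x * a * x⁻¹ ≠ a := by
  classical
  have hnt : Nontrivial G := by
    by_contra h
    rw [not_nontrivial_iff_subsingleton] at h
    exact hnn Group.isNilpotent_of_subsingleton
  have hab : ∀ H : Subgroup G, H.Normal → H ≠ ⊤ → ∀ a ∈ H, ∀ b ∈ H, a * b = b * a := by
    intro H hn ht
    by_contra hne
    refine ht ?_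
    rw [← hsn H fun hc => hne fun a ha b hb => congrArg Subtype.val (hc.1.1 ⟨a, ha⟩ ⟨b, hb⟩)]
    exact Subgroup.normalizer_eq_top H
  -- a normal subgroup of prime index
  obtain ⟨M, hM, hGM⟩ := (eq_top_or_exists_le_coatom (commutator G)).resolve_left
    (Group.IsSolvable.commutator_lt_top_of_nontrivial G).ne
  have hMn : M.Normal := ⟨fun m hm g => by
    have h1 : g * m * g⁻¹ * m⁻¹ ∈ M :=
      hGM (Subgroup.commutator_mem_commutator (Subgroup.mem_top g) (Subgroup.mem_top m))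
    simpa using M.mul_mem h1 hm⟩
  obtain ⟨p, hp, hpM⟩ := Nat.exists_prime_and_dvd (n := Nat.card (G ⧸ M))
    (fun e => hM.1 (Subgroup.index_eq_one.1 e))
  have := Fact.mk hp
  obtain ⟨yb, hy⟩ := exists_prime_orderOf_dvd_card' (G := G ⧸ M) p hpM
  obtain ⟨y, rfl⟩ := QuotientGroup.mk_surjective yb
  have hyM : y ∉ M := fun h => hp.ne_one (by
    rw [← hy, (QuotientGroup.eq_one_iff y).2 h, orderOf_one])
  have htop : ∀ g : G, g ∉ M → M ⊔ Subgroup.zpowers g = ⊤ := fun g hg =>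
    hM.2 _ (lt_of_le_of_ne le_sup_left fun e => hg (by
      rw [e]; exact Subgroup.mem_sup_right (Subgroup.mem_zpowers g)))
  have hindex : ∀ g : G, g ^ p ∈ M := by
    intro g
    have hg : g ∈ M ⊔ Subgroup.zpowers y := htop y hyM ▸ Subgroup.mem_top g
    obtain ⟨m, hm, _, ⟨i, rfl⟩, rfl⟩ := Subgroup.mem_sup_of_normal_left.1 hg
    rw [← QuotientGroup.eq_one_iff, QuotientGroup.mk_pow, QuotientGroup.mk_mul,
      (QuotientGroup.eq_one_iff m).2 hm, one_mul]
    show ((y ^ i : G) : G ⧸ M) ^ p = 1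
    rw [QuotientGroup.mk_zpow, ← zpow_natCast ((y : G ⧸ M) ^ i), ← zpow_mul, mul_comm, zpow_mul,
      zpow_natCast, ← hy, pow_orderOf_eq_one, one_zpow]
  have hMc := hab M hMn hM.1
  -- a `p`-element outside `M`
  obtain ⟨x, hxM, k, hxk⟩ : ∃ x : G, x ∉ M ∧ ∃ k, orderOf x = p ^ k := by
    obtain ⟨a, m, hm, hyo⟩ := Nat.exists_eq_pow_mul_and_not_dvd (orderOf_pos y).ne' p hp.ne_one
    refine ⟨y ^ m, fun h => ?_, ?_⟩
    · rw [← QuotientGroup.eq_one_iff, QuotientGroup.mk_pow, ← orderOf_dvd_iff_pow_eq_one, hy] at h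
      exact hm h
    · refine ⟨a, ?_⟩
      have hm0 : 0 < m := Nat.pos_of_ne_zero fun e => hm (e ▸ dvd_zero p)
      rw [orderOf_pow_of_dvd hm0.ne' (hyo ▸ dvd_mul_left m _), hyo, Nat.mul_div_cancel _ hm0]
  obtain ⟨b, m, hm, hMcard⟩ := Nat.exists_eq_pow_mul_and_not_dvd
    (Nat.card_pos (α := M)).ne' p hp.ne_one
  let Sub : ℕ → Subgroup G := fun n =>
    { carrier := {a | a ∈ M ∧ a ^ n = 1}
      one_mem' := ⟨one_mem _, one_pow _⟩
      mul_mem' := fun {a c} ha hc => ⟨mul_mem ha.1 hc.1, by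
        rw [(show Commute a c from hMc a ha.1 c hc.1).mul_pow, ha.2, hc.2, one_mul]⟩
      inv_mem' := fun {a} ha => ⟨inv_mem ha.1, by rw [inv_pow, ha.2, inv_one]⟩ }
  have hSubn : ∀ n, (Sub n).Normal := fun n => ⟨fun a ha g => ⟨hMn.conj_mem a ha.1 g, by
    rw [conj_pow, ha.2, mul_one, mul_inv_cancel]⟩⟩
  set A := Sub m with hA
  set P₀ := Sub (p ^ b) with hP₀
  have hAn : A.Normal := hSubn m
  have hP₀n : P₀.Normal := hSubn _
  have hAc : ∀ a ∈ A, ∀ c ∈ A, a * c = c * a := fun a ha c hc => hMc a ha.1 c hc.1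
  have hdec : ∀ z ∈ M, ∃ a ∈ A, ∃ c ∈ P₀, z = a * c := by
    intro z hz
    have hz1 : z ^ Nat.card M = 1 := congrArg Subtype.val (pow_card_eq_one' (x := (⟨z, hz⟩ : M)))
    have hcop : IsCoprime ((p ^ b : ℕ) : ℤ) (m : ℤ) :=
      Nat.isCoprime_iff_coprime.2 (((hp.coprime_iff_not_dvd).2 hm).pow_left b)
    obtain ⟨u, v, huv⟩ := hcop
    refine ⟨z ^ (u * (p ^ b : ℕ)), ⟨zpow_mem hz _, ?_⟩, z ^ (v * (m : ℤ)), ⟨zpow_mem hz _, ?_⟩, ?_⟩
    · rw [← zpow_natCast, ← zpow_mul, mul_assoc, ← Nat.cast_mul, ← hMcard, mul_comm, zpow_mul,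
        zpow_natCast, hz1, one_zpow]
    · rw [← zpow_natCast, ← zpow_mul, mul_assoc, ← Nat.cast_mul, mul_comm m, ← hMcard, mul_comm,
        zpow_mul, zpow_natCast, hz1, one_zpow]
    · rw [← zpow_add, huv, zpow_one]
  set P := P₀ ⊔ Subgroup.zpowers x with hPdef
  have hP₀p : IsPGroup p P₀ := fun a => ⟨b, Subtype.ext (by simpa using a.2.2)⟩
  have hxp : IsPGroup p (Subgroup.zpowers x) :=
    IsPGroup.of_card (n := k) (by rw [Nat.card_zpowers, hxk])
  have hPp : IsPGroup p P := hP₀p.to_sup_of_normal_left hxp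
  have hAP : ∀ a ∈ A, a ∈ P → a = 1 := by
    intro a ha haP
    obtain ⟨j, hj⟩ := hPp ⟨a, haP⟩
    have h1 : orderOf a ∣ p ^ j := orderOf_dvd_of_pow_eq_one (congrArg Subtype.val hj)
    exact orderOf_eq_one_iff.1 (Nat.eq_one_of_dvd_coprimes
      (((hp.coprime_iff_not_dvd).2 hm).pow_left j) h1 (orderOf_dvd_of_pow_eq_one ha.2))
  have hgen : ∀ g : G, ∃ a ∈ A, ∃ c ∈ P, g = a * c := by
    intro g
    have hg : g ∈ M ⊔ Subgroup.zpowers x := htop x hxM ▸ Subgroup.mem_top g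
    obtain ⟨z, hz, w, hw, rfl⟩ := Subgroup.mem_sup_of_normal_left.1 hg
    obtain ⟨a, ha, c, hc, rfl⟩ := hdec z hz
    exact ⟨a, ha, c * w, P.mul_mem (Subgroup.mem_sup_left hc) (Subgroup.mem_sup_right hw),
      mul_assoc _ _ _⟩
  have hpG : IsPGroup p (G ⧸ A) := by
    intro u
    obtain ⟨g, rfl⟩ := QuotientGroup.mk_surjective u
    obtain ⟨a, ha, c, hc, rfl⟩ := hgen g
    obtain ⟨j, hj⟩ := hPp ⟨c, hc⟩
    refine ⟨j, ?_⟩
    have hc1 : c ^ p ^ j = 1 := congrArg Subtype.val hj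
    rw [QuotientGroup.mk_mul, (QuotientGroup.eq_one_iff a).2 ha, one_mul, ← QuotientGroup.mk_pow,
      hc1, QuotientGroup.mk_one]
  have hnil : (∀ a ∈ A, x * a = a * x) → False := by
    intro hc
    apply hnn
    have hAz : A ≤ Subgroup.center G := fun a ha => Subgroup.mem_center_iff.2 fun g => by
      have hg : g ∈ M ⊔ Subgroup.zpowers x := htop x hxM ▸ Subgroup.mem_top g
      obtain ⟨z, hz, w, ⟨i, rfl⟩, rfl⟩ := Subgroup.mem_sup_of_normal_left.1 hg
      have h1 : Commute z a := hMc z hz a ha.1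
      have h2 : Commute (x ^ i) a := (show Commute x a from hc a ha).zpow_left i
      exact (h1.mul_left h2).eq
    have := hpG.isNilpotent
    exact Subgroup.isNilpotent_of_ker_le_center (QuotientGroup.mk' A)
      (by rwa [QuotientGroup.ker_mk'])
  -- the commutator map
  let φ : A →* A :=
    { toFun := fun a => ⟨x * a * x⁻¹ * (a : G)⁻¹, A.mul_mem (hAn.conj_mem a a.2 x) (A.inv_mem a.2)⟩
      map_one' := Subtype.ext (by simp)
      map_mul' := fun a c => Subtype.ext (by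
        show x * ((a : G) * c) * x⁻¹ * ((a : G) * c)⁻¹ =
          (x * a * x⁻¹ * (a : G)⁻¹) * (x * c * x⁻¹ * (c : G)⁻¹)
        have hca : x * c * x⁻¹ * (c : G)⁻¹ * (a : G)⁻¹ = (a : G)⁻¹ * (x * c * x⁻¹ * (c : G)⁻¹) :=
          hAc _ (A.mul_mem (hAn.conj_mem c c.2 x) (A.inv_mem c.2)) _ (A.inv_mem a.2)
        calc x * ((a : G) * c) * x⁻¹ * ((a : G) * c)⁻¹
            = x * a * x⁻¹ * (x * c * x⁻¹ * (c : G)⁻¹ * (a : G)⁻¹) := by group
          _ = _ := by rw [hca]; group) }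
  set B := φ.range.map A.subtype with hB
  have hBA : B ≤ A := Subgroup.map_subtype_le _
  have hmemB : ∀ a ∈ A, x * a * x⁻¹ * a⁻¹ ∈ B := fun a ha => ⟨φ ⟨a, ha⟩, ⟨_, rfl⟩, rfl⟩
  have hBn : B.Normal := by
    refine Subgroup.normalizer_eq_top_iff.1 (top_le_iff.1 (htop x hxM ▸ sup_le ?_ ?_))
    · intro z hz
      refine Subgroup.centralizer_le_normalizer _ fun u hu => ?_
      exact hMc u (hBA hu).1 z hz
    · refine Subgroup.zpowers_le.2 (CoprimeAction.mem_normalizer_of_conj_smul_eq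
        (Subgroup.eq_of_le_of_card_ge ?_ (CoprimeSZ.card_conj_smul _ _).ge))
      intro u hu
      rw [CoprimeSZ.mem_conj_smul] at hu
      obtain ⟨_, ⟨a, rfl⟩, he⟩ := hu
      have : u = x * (x * a * x⁻¹) * x⁻¹ * (x * a * x⁻¹)⁻¹ := by
        have he' : x * (a : G) * x⁻¹ * (a : G)⁻¹ = x⁻¹ * u * x := he
        calc u = x * (x⁻¹ * u * x) * x⁻¹ := by group
          _ = _ := by rw [← he']; group
      rw [this]
      exact hmemB _ (hAn.conj_mem a a.2 x)
  have hinj : Function.Injective φ := by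
    set L := B ⊔ P with hL
    have hLn : L.Normal := by
      refine Subgroup.normalizer_eq_top_iff.1 (top_le_iff.1 fun g _ => ?_)
      obtain ⟨a, ha, c, hc, rfl⟩ := hgen g
      refine mul_mem ?_ (Subgroup.le_normalizer (Subgroup.mem_sup_right hc))
      have hconj : ∀ a ∈ A, ∀ z ∈ L, a * z * a⁻¹ ∈ L := by
        intro a ha z hz
        have : L ≤ L.comap (MulAut.conj a).toMonoidHom := by
          refine sup_le (fun u hu => Subgroup.mem_sup_left ?_) (sup_le (fun u hu => ?_) ?_)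
          · exact hBn.conj_mem u hu a
          · exact Subgroup.mem_sup_right (Subgroup.mem_sup_left (hP₀n.conj_mem u hu a))
          · refine Subgroup.zpowers_le.2 ?_
            show a * x * a⁻¹ ∈ L
            have e : a * x * a⁻¹ = (x * a⁻¹ * x⁻¹ * a⁻¹⁻¹) * x := by
              have := hAc a ha (x * a⁻¹ * x⁻¹) (hAn.conj_mem _ (A.inv_mem ha) x)
              rw [inv_inv, ← this]; group
            rw [e]
            exact L.mul_mem (Subgroup.mem_sup_left (hmemB _ (A.inv_mem ha)))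
              (Subgroup.mem_sup_right (Subgroup.mem_sup_right (Subgroup.mem_zpowers x)))
        exact this hz
      exact FrobeniusThompson.le_normalizer_of_conj hconj ha
    by_cases hLt : L = ⊤
    · refine Finite.injective_iff_surjective.2 fun a => ?_
      have ha : (a : G) ∈ L := hLt ▸ Subgroup.mem_top _
      obtain ⟨u, hu, c, hc, he⟩ := Subgroup.mem_sup_of_normal_left.1 ha
      have hc1 : c = 1 := hAP c (by
        have : c = u⁻¹ * a := by rw [← he]; group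
        rw [this]; exact A.mul_mem (A.inv_mem (hBA hu)) a.2) hc
      obtain ⟨v, ⟨w, rfl⟩, hv⟩ := hu
      exact ⟨w, Subtype.ext (by rw [← he, hc1, mul_one]; exact hv)⟩
    · exfalso
      refine hnil fun a ha => ?_
      have hLc := hab L hLn hLt
      set u := x * a * x⁻¹ * a⁻¹ with hu
      have huA : u ∈ A := hBA (hmemB a ha)
      have hxu : Commute x u := hLc x (Subgroup.mem_sup_right (Subgroup.mem_sup_right
        (Subgroup.mem_zpowers x))) u (Subgroup.mem_sup_left (hmemB a ha))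
      have hpow : ∀ n : ℕ, x ^ n * a * (x ^ n)⁻¹ = u ^ n * a := by
        intro n
        induction n with
        | zero => simp
        | succ n ih =>
          calc x ^ (n + 1) * a * (x ^ (n + 1))⁻¹ = x * (x ^ n * a * (x ^ n)⁻¹) * x⁻¹ := by
                rw [pow_succ']; group
            _ = x * (u ^ n * a) * x⁻¹ := by rw [ih]
            _ = u ^ n * (x * a * x⁻¹) := by
                rw [← mul_assoc x (u ^ n) a, (hxu.pow_right n).eq]; group
            _ = u ^ (n + 1) * a := by rw [pow_succ, hu]; group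
      have h1 : u ^ p ^ k = 1 := by
        have := hpow (p ^ k)
        rw [← hxk, pow_orderOf_eq_one, one_mul, inv_one, mul_one] at this
        rw [← hxk]
        exact mul_eq_right.1 this.symm
      have h2 : u = 1 := orderOf_eq_one_iff.1 (Nat.eq_one_of_dvd_coprimes
        (((hp.coprime_iff_not_dvd).2 hm).pow_left k) (orderOf_dvd_of_pow_eq_one h1)
        (orderOf_dvd_of_pow_eq_one huA.2))
      exact mul_inv_eq_iff_eq_mul.1 (mul_inv_eq_one.1 (hu ▸ h2))
  have hfix : ∀ a ∈ A, x * a = a * x → a = 1 := fun a ha h => by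
    have : φ ⟨a, ha⟩ = φ 1 := by
      rw [map_one]
      exact Subtype.ext (show x * a * x⁻¹ * a⁻¹ = 1 by rw [h, mul_inv_cancel_right, mul_inv_cancel])
    exact congrArg Subtype.val (hinj this)
  -- `P` is cyclic
  have hS : ¬ IsMulCommutative ↥(A ⊔ Subgroup.zpowers x) := fun hc => hnil fun a ha =>
    congrArg Subtype.val (hc.1.1 ⟨x, Subgroup.mem_sup_right (Subgroup.mem_zpowers x)⟩
      ⟨a, Subgroup.mem_sup_left ha⟩)
  have hPx : P = Subgroup.zpowers x := by
    refine le_antisymm ?_ le_sup_right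
    by_contra hne
    have := hPp.isNilpotent
    have hlt : (Subgroup.zpowers x).subgroupOf P < ⊤ :=
      lt_top_iff_ne_top.2 fun e => hne (Subgroup.subgroupOf_eq_top.1 e)
    obtain ⟨⟨n, hnP⟩, hn, hn'⟩ :=
      SetLike.exists_of_lt (Group.normalizerCondition_of_isNilpotent _ hlt)
    refine hn' (?_ : n ∈ Subgroup.zpowers x)
    have hnN : n ∈ Subgroup.normalizer (Subgroup.zpowers x : Set G) := by
      refine CoprimeAction.mem_normalizer_of_conj_smul_eq
        (Subgroup.eq_of_le_of_card_ge ?_ (CoprimeSZ.card_conj_smul _ _).ge)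
      intro u hu
      rw [CoprimeSZ.mem_conj_smul] at hu
      have huP : n⁻¹ * u * n ∈ P := le_sup_right (a := P₀) hu
      have := (Subgroup.mem_normalizer_iff.1 hn (⟨n⁻¹ * u * n, huP⟩ : P)).1 hu
      have h3 : n * (n⁻¹ * u * n) * n⁻¹ ∈ Subgroup.zpowers x := this
      simpa [mul_assoc] using h3
    have hnS : n ∈ A ⊔ Subgroup.zpowers x := by
      have hmem : n ∈ Subgroup.normalizer ((A ⊔ Subgroup.zpowers x : Subgroup G) : Set G) := by
        refine CoprimeAction.mem_normalizer_of_conj_smul_eq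
          (Subgroup.eq_of_le_of_card_ge ?_ (CoprimeSZ.card_conj_smul _ _).ge)
        rw [CoprimeSZ.conj_smul_eq_map, Subgroup.map_sup]
        refine sup_le ?_ ?_
        · rintro _ ⟨u, hu, rfl⟩; exact Subgroup.mem_sup_left (hAn.conj_mem u hu n)
        · rintro _ ⟨u, hu, rfl⟩
          exact Subgroup.mem_sup_right ((Subgroup.mem_normalizer_iff.1 hnN u).1 hu)
      rwa [hsn _ hS] at hmem
    obtain ⟨a, ha, w, hw, he⟩ := Subgroup.mem_sup_of_normal_left.1 hnS
    have : a = 1 := hAP a ha (by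
      have : a = n * w⁻¹ := by rw [← he]; group
      rw [this]; exact P.mul_mem hnP (P.inv_mem (Subgroup.mem_sup_right hw)))
    rwa [← he, this, one_mul]
  refine ⟨x, A, p, hp, hAn, ⟨⟨fun a c => Subtype.ext (hAc a a.2 c c.2)⟩⟩, ⟨k, hxk⟩, ?_, ?_, ?_,
    fun a ha ha1 e => ha1 (hfix a ha (mul_inv_eq_iff_eq_mul.1 e))⟩
  · intro hd
    obtain ⟨a, ha⟩ := exists_prime_orderOf_dvd_card' (G := A) p hd
    have h1 : orderOf (a : G) ∣ m := orderOf_dvd_of_pow_eq_one a.2.2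
    rw [Subgroup.orderOf_coe, ha] at h1
    exact hm h1
  · refine Subgroup.isComplement'_of_disjoint_and_mul_eq_univ ?_ (Set.eq_univ_of_forall fun g => ?_)
    · rw [Subgroup.disjoint_def]
      exact fun {u} hu ha => hAP u ha (Subgroup.mem_sup_right hu)
    · obtain ⟨a, ha, c, hc, rfl⟩ := hgen g
      rw [hPx] at hc
      exact ⟨c, hc, c⁻¹ * a * c, hAn.conj_mem' a ha c, by group⟩
  · refine Subgroup.mem_center_iff.2 fun g => ?_
    obtain ⟨a, ha, c, hc, rfl⟩ := hgen g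
    rw [hPx] at hc
    obtain ⟨i, rfl⟩ := hc
    have h1 : Commute a (x ^ p) := hMc a ha.1 _ (hindex x)
    exact (h1.mul_left (((Commute.refl x).pow_right p).zpow_left i)).eq

theorem selfNorm_of_exists {x : G} {A : Subgroup G} {p : ℕ} (hp : p.Prime) (hAn : A.Normal)
    (hAc : IsMulCommutative A) {k : ℕ} (hxk : orderOf x = p ^ k)
    (hcompl : (Subgroup.zpowers x).IsComplement' A) (hcen : x ^ p ∈ Subgroup.center G)
    (hfpf : ∀ a : G, a ∈ A → a ≠ 1 → x * a * x⁻¹ ≠ a) (H : Subgroup G) (hH : ¬ IsMulCommutative H) :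
    Subgroup.normalizer (H : Set G) = H := by
  classical
  have hAc' : ∀ a ∈ A, ∀ b ∈ A, a * b = b * a := fun a ha b hb =>
    congrArg Subtype.val (hAc.1.1 ⟨a, ha⟩ ⟨b, hb⟩)
  have hdecomp : ∀ g : G, ∃ i : ℤ, ∃ a ∈ A, g = x ^ i * a := fun g => by
    obtain ⟨⟨⟨_, i, rfl⟩, ⟨a, ha⟩⟩, e⟩ := hcompl.2 g
    exact ⟨i, a, ha, e.symm⟩
  -- powers outside the centre generate
  have hgen : ∀ i : ℤ, ¬ (p : ℤ) ∣ i → ∃ j : ℤ, (x ^ i) ^ j = x := by
    intro i hi
    have hcop : IsCoprime i ((p ^ k : ℕ) : ℤ) := by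
      push_cast
      exact (((Nat.prime_iff_prime_int.1 hp).coprime_iff_not_dvd).2 hi).symm.pow_right
    obtain ⟨u, v, huv⟩ := hcop
    refine ⟨u, ?_⟩
    rw [← zpow_mul]
    calc x ^ (i * u) = x ^ (u * i + v * ((p ^ k : ℕ) : ℤ)) := by
          have hx1 : x ^ ((p ^ k : ℕ) : ℤ) = 1 := by rw [zpow_natCast, ← hxk, pow_orderOf_eq_one]
          rw [zpow_add, mul_comm u i, mul_comm v, zpow_mul x ((p ^ k : ℕ) : ℤ) v, hx1, one_zpow,
            mul_one]
      _ = x := by rw [huv, zpow_one]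
  obtain ⟨h, hh, i, a, ha, hi, hpi⟩ :
      ∃ h ∈ H, ∃ i : ℤ, ∃ a ∈ A, h = x ^ i * a ∧ ¬ (p : ℤ) ∣ i := by
    by_contra hno
    push Not at hno
    have hform : ∀ g ∈ H, ∃ z ∈ Subgroup.center G, ∃ a ∈ A, g = z * a := fun g hg => by
      obtain ⟨i, a, ha, e⟩ := hdecomp g
      obtain ⟨j, rfl⟩ := hno g hg i a ha e
      exact ⟨(x ^ p) ^ j, Subgroup.zpow_mem _ hcen j, a, ha, by rw [e, zpow_mul, zpow_natCast]⟩
    refine hH ⟨⟨fun g g' => Subtype.ext ?_⟩⟩
    obtain ⟨z, hz, a, ha, e⟩ := hform g g.2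
    obtain ⟨z', hz', a', ha', e'⟩ := hform g' g'.2
    show (g : G) * g' = g' * g
    rw [e, e']
    have c1 : ∀ u, Commute z u := fun u => (Subgroup.mem_center_iff.1 hz u).symm
    have c2 : ∀ u, Commute z' u := fun u => (Subgroup.mem_center_iff.1 hz' u).symm
    have c3 : Commute a a' := hAc' a ha a' ha'
    exact (((c1 _).mul_left (((c2 a).symm).mul_right c3))).eq
  -- the commutator map of `x ^ i` is bijective on `A`
  have hbij : ∀ y : G, (∃ j : ℤ, y ^ j = x) →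
      Function.Surjective fun b : A => (⟨(b : G) * y * (b : G)⁻¹ * y⁻¹, by
        have := A.mul_mem b.2 (hAn.conj_mem _ (A.inv_mem b.2) y)
        simpa [mul_assoc] using this⟩ : A) := by
    rintro y ⟨j, hj⟩
    refine Finite.injective_iff_surjective.1 fun b c e => ?_
    have e' : (b : G) * y * (b : G)⁻¹ * y⁻¹ = (c : G) * y * (c : G)⁻¹ * y⁻¹ := congrArg Subtype.val e
    have e2 : (b : G) * y * (b : G)⁻¹ = (c : G) * y * (c : G)⁻¹ := mul_right_cancel e'
    have hcomm : Commute y ((c : G)⁻¹ * b) := by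
      show y * ((c : G)⁻¹ * b) = (c : G)⁻¹ * b * y
      calc y * ((c : G)⁻¹ * b) = (c : G)⁻¹ * ((c : G) * y * (c : G)⁻¹) * b := by group
        _ = (c : G)⁻¹ * ((b : G) * y * (b : G)⁻¹) * b := by rw [e2]
        _ = _ := by group
    by_contra hne
    refine hfpf _ (A.mul_mem (A.inv_mem c.2) b.2) (fun e3 => hne (Subtype.ext ?_)) ?_
    · exact (inv_mul_eq_one.1 e3).symm
    · have := hj ▸ hcomm.zpow_left j
      rw [this.eq, mul_inv_cancel_right]
  obtain ⟨⟨b, hb⟩, hb'⟩ := hbij (x ^ i) (hgen i hpi)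
    ⟨x ^ i * a * (x ^ i)⁻¹, hAn.conj_mem a ha _⟩
  have hb'' : b * x ^ i * b⁻¹ = h := by
    have h1 : b * x ^ i * b⁻¹ * (x ^ i)⁻¹ = x ^ i * a * (x ^ i)⁻¹ := congrArg Subtype.val hb'
    rw [hi]
    exact mul_right_cancel h1
  obtain ⟨j, hj⟩ := hgen i hpi
  set x' := b * x * b⁻¹ with hx'
  have hx'H : x' ∈ H := by
    rw [hx', ← hj]
    show b * (x ^ i) ^ j * b⁻¹ ∈ H
    rw [← conj_zpow, hb'']
    exact H.zpow_mem hh j
  have hdecomp' : ∀ g : G, ∃ i : ℤ, ∃ a ∈ A, g = x' ^ i * a := fun g => by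
    obtain ⟨i, a, ha, e⟩ := hdecomp (b⁻¹ * g * b)
    refine ⟨i, b * a * b⁻¹, hAn.conj_mem a ha b, ?_⟩
    rw [hx', conj_zpow]
    calc g = b * (b⁻¹ * g * b) * b⁻¹ := by group
      _ = _ := by rw [e]; group
  refine le_antisymm (fun n hn => ?_) Subgroup.le_normalizer
  obtain ⟨l, c, hc, rfl⟩ := hdecomp' n
  have hcN : c ∈ Subgroup.normalizer (H : Set G) := by
    have := mul_mem (inv_mem (zpow_mem (Subgroup.le_normalizer hx'H) l)) hn
    simpa using this
  -- the commutator map on `H ⊓ A`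
  let ψ : ↥(H ⊓ A) → ↥(H ⊓ A) := fun u => ⟨(u : G) * x' * (u : G)⁻¹ * x'⁻¹,
    H.mul_mem (H.mul_mem (H.mul_mem u.2.1 hx'H) (H.inv_mem u.2.1)) (H.inv_mem hx'H), by
      have := A.mul_mem u.2.2 (hAn.conj_mem _ (A.inv_mem u.2.2) x')
      simpa [mul_assoc] using this⟩
  have hinjψ : ∀ u v : G, u ∈ A → v ∈ A → u * x' * u⁻¹ = v * x' * v⁻¹ → u = v := by
    intro u v hu hv e
    by_contra hne
    have hw : b⁻¹ * (v⁻¹ * u) * b ∈ A := hAn.conj_mem' _ (A.mul_mem (A.inv_mem hv) hu) b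
    refine hfpf _ hw (fun e3 => hne ?_) ?_
    · have : v⁻¹ * u = 1 := by
        calc v⁻¹ * u = b * (b⁻¹ * (v⁻¹ * u) * b) * b⁻¹ := by group
          _ = 1 := by rw [e3, mul_one, mul_inv_cancel]
      exact (inv_mul_eq_one.1 this).symm
    · have h2 : x' * (v⁻¹ * u) = (v⁻¹ * u) * x' := by
        calc x' * (v⁻¹ * u) = v⁻¹ * (v * x' * v⁻¹) * u := by group
          _ = v⁻¹ * (u * x' * u⁻¹) * u := by rw [e]
          _ = _ := by group
      calc x * (b⁻¹ * (v⁻¹ * u) * b) * x⁻¹ = b⁻¹ * (x' * (v⁻¹ * u)) * b * x⁻¹ := by rw [hx']; group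
        _ = b⁻¹ * ((v⁻¹ * u) * x') * b * x⁻¹ := by rw [h2]
        _ = _ := by rw [hx']; group
  have hψ : Function.Surjective ψ := Finite.injective_iff_surjective.1 fun u v e =>
    Subtype.ext (hinjψ u v u.2.2 v.2.2 (mul_right_cancel (congrArg Subtype.val e)))
  have hmem : c * x' * c⁻¹ * x'⁻¹ ∈ H ⊓ A := by
    refine ⟨H.mul_mem ((Subgroup.mem_normalizer_iff.1 hcN x').1 hx'H) (H.inv_mem hx'H), ?_⟩
    have := A.mul_mem hc (hAn.conj_mem _ (A.inv_mem hc) x')
    simpa [mul_assoc] using this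
  obtain ⟨u, hu⟩ := hψ ⟨_, hmem⟩
  have := hinjψ u c u.2.2 hc (mul_right_cancel (congrArg Subtype.val hu))
  exact H.mul_mem (H.zpow_mem hx'H l) (this ▸ u.2.1)

end Cfsg.Agent.FrobeniusSelfNorm
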