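/-
Shumyatsky: a solvable group with a fixed-point-free coprime `S₃` of operators has nilpotent
derived subgroup.
-/
import Mathlib
import Cfsg.Agent.Lib.FrobeniusWard
import Cfsg.Agent.Lib.FrobeniusOrbit
import Cfsg.Agent.Lib.FrobeniusQuadratic

open scoped Pointwise commutatorElement

namespace Cfsg.Agent.FrobeniusShumyatsky

universe u v

open Cfsg.Agent Cfsg.Agent.CoprimeAction Cfsg.Agent.FrobeniusFitting Cfsg.Agent.FrobeniusWard

/-- Generators of a group isomorphic to `S₃`. -/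
structure Dihedral3 {A₀ : Type v} [Group A₀] (f t : A₀) : Prop where
  card : Nat.card A₀ = 6
  f3 : f ^ 3 = 1
  t2 : t * t = 1
  conj : t * f = f * f * t
  cases : ∀ a : A₀, a = 1 ∨ a = f ∨ a = f * f ∨ a = t ∨ a = f * t ∨ a = f * f * t

section algebra

variable {A₀ : Type v} [Group A₀] {f t : A₀}

theorem Dihedral3.invol (d : Dihedral3 f t) {σ : A₀}
    (hσ : σ = t ∨ σ = f * t ∨ σ = f * f * t) : σ * σ = 1 ∧ σ * f = f * f * σ ∧
      ∃ i : ℕ, t = f ^ i * σ := by
  have h3 : f * f * f = 1 := by rw [← d.f3, pow_succ, pow_two]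
  have h1 : (f * t) * (f * t) = 1 := by
    calc (f * t) * (f * t) = f * (t * f) * t := by group
      _ = (f * f * f) * (t * t) := by rw [d.conj]; group
      _ = 1 := by rw [h3, d.t2, one_mul]
  have h2 : (f * f * t) * (f * f * t) = 1 := by
    calc (f * f * t) * (f * f * t) = f * f * (t * f) * f * t := by group
      _ = f * f * (f * f * t) * f * t := by rw [d.conj]
      _ = (f * f * f) * f * (t * f) * t := by group
      _ = f * (t * f) * t := by rw [h3, one_mul]
      _ = f * (f * f * t) * t := by rw [d.conj]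
      _ = (f * f * f) * (t * t) := by group
      _ = 1 := by rw [h3, d.t2, one_mul]
  rcases hσ with rfl | rfl | rfl
  · exact ⟨d.t2, d.conj, 0, by simp⟩
  · refine ⟨h1, ?_, 2, ?_⟩
    · calc f * t * f = f * (t * f) := by group
        _ = f * f * (f * t) := by rw [d.conj]; group
    · calc t = (f * f * f) * t := by rw [h3, one_mul]
        _ = f ^ 2 * (f * t) := by rw [pow_two]; group
  · refine ⟨h2, ?_, 1, ?_⟩
    · calc f * f * t * f = f * f * (t * f) := by group
        _ = f * f * (f * f * t) := by rw [d.conj]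
    · calc t = (f * f * f) * t := by rw [h3, one_mul]
        _ = f ^ 1 * (f * f * t) := by rw [pow_one]; group

end algebra

section setup

variable {A₀ : Type v} [Group A₀] [Finite A₀] {f t : A₀} {Γ : Type u} [Group Γ] [Finite Γ]
  {K : Subgroup Γ} {ι : A₀ →* Γ}

theorem fix_of_two (d : Dihedral3 f t) (h : Acts K ι) {σ : A₀}
    (hσ : σ = t ∨ σ = f * t ∨ σ = f * f * t) {x : Γ} (hx : x ∈ K)
    (hf : ι f * x = x * ι f) (hs : ι σ * x = x * ι σ) : x = 1 := by
  refine h.fpf x hx fun a => ?_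
  obtain ⟨-, -, i, hi⟩ := d.invol hσ
  have hft : ι t * x = x * ι t := by
    rw [hi, map_mul, map_pow]
    exact ((show Commute (ι f) x from hf).pow_left i).mul_left hs
  have h1 : Commute (ι f) x := hf
  have h2 : Commute (ι t) x := hft
  rcases d.cases a with rfl | rfl | rfl | rfl | rfl | rfl
  · rw [map_one, one_mul, mul_one]
  · exact hf
  · rw [map_mul]; exact h1.mul_left h1
  · exact hft
  · rw [map_mul]; exact h1.mul_left h2
  · rw [map_mul, map_mul]; exact (h1.mul_left h1).mul_left h2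

theorem coprime_six (d : Dihedral3 f t) (h : Acts K ι) {L : Subgroup Γ} (hL : L ≤ K) :
    (6 : ℕ).Coprime (Nat.card L) := by
  have := h.coprime.coprime_dvd_right (Subgroup.card_dvd_of_le hL)
  rwa [d.card] at this

theorem centralizer_inverted (d : Dihedral3 f t) (h : Acts K ι) {x : Γ} (hx : x ∈ K)
    (hxf : ι f * x = x * ι f) : ι t * x * (ι t)⁻¹ = x⁻¹ := by
  refine FrobeniusOrbit.inverts (L := K ⊓ Subgroup.centralizer ({ι f} : Set Γ))
    (by rw [← map_mul, d.t2, map_one]) ?_ ?_ ⟨hx, Subgroup.mem_centralizer_singleton_iff.2 hxf.symm⟩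
  · have hle : Subgroup.zpowers (ι t) ≤
        Subgroup.normalizer ((K ⊓ Subgroup.centralizer ({ι f} : Set Γ) : Subgroup Γ) : Set Γ) := by
      refine le_normalizer_inf (Subgroup.zpowers_le.2 (have := h.normal; h.range_le K ⟨t, rfl⟩))
        (Subgroup.zpowers_le.2 ?_)
      refine mem_normalizer_of_conj_smul_eq (Subgroup.eq_of_le_of_card_ge ?_
        (CoprimeSZ.card_conj_smul _ _).ge)
      intro y hy
      rw [CoprimeSZ.mem_conj_smul, Subgroup.mem_centralizer_singleton_iff] at hy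
      rw [Subgroup.mem_centralizer_singleton_iff]
      have hc : Commute ((ι t)⁻¹ * y * ι t) (ι f * ι f) :=
        (show Commute _ _ from hy).mul_right (show Commute _ _ from hy)
      have e : ι t * (ι f * ι f) * (ι t)⁻¹ = ι f := by
        rw [← map_mul, ← map_mul, ← map_inv, ← map_mul]
        congr 1
        have h3 : f * f * f = 1 := by rw [← d.f3, pow_succ, pow_two]
        calc t * (f * f) * t⁻¹ = (t * f) * f * t⁻¹ := by group
          _ = (f * f * t) * f * t⁻¹ := by rw [d.conj]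
          _ = f * f * (t * f) * t⁻¹ := by group
          _ = f * f * (f * f * t) * t⁻¹ := by rw [d.conj]
          _ = (f * f * f) * f := by group
          _ = f := by rw [h3, one_mul]
      calc y * ι f = ι t * (((ι t)⁻¹ * y * ι t) * (ι f * ι f)) * (ι t)⁻¹ := by
            conv_lhs => rw [← e]
            group
        _ = ι t * ((ι f * ι f) * ((ι t)⁻¹ * y * ι t)) * (ι t)⁻¹ := by rw [hc.eq]
        _ = _ := by
            conv_rhs => rw [← e]
            group
    exact hle (Subgroup.mem_zpowers _)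
  · rw [Subgroup.eq_bot_iff_forall]
    rintro z ⟨⟨hzK, hzf⟩, hzt⟩
    exact fix_of_two d h (Or.inl rfl) hzK (Subgroup.mem_centralizer_singleton_iff.1 hzf).symm
      (Subgroup.mem_centralizer_singleton_iff.1 hzt).symm

/-- `C_K(f)` is abelian. -/
theorem commute_fixed (d : Dihedral3 f t) (h : Acts K ι) {x y : Γ} (hx : x ∈ K) (hy : y ∈ K)
    (hxf : ι f * x = x * ι f) (hyf : ι f * y = y * ι f) : x * y = y * x := by
  have h1 := centralizer_inverted d h (K.mul_mem hx hy)
    ((show Commute (ι f) x from hxf).mul_right hyf)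
  rw [← conj_mul, centralizer_inverted d h hx hxf, centralizer_inverted d h hy hyf, mul_inv_rev] at h1
  have := congrArg (·⁻¹) h1
  simpa [mul_inv_rev] using this.symm

/-- An element of order 3 cannot invert a nontrivial quotient of odd order. -/
theorem sq_mem_absurd (d : Dihedral3 f t) (h : Acts K ι) {Z X : Subgroup Γ} (hZK : Z ≤ K)
    (hXc : ∀ (a b : Γ), a ∈ Z → b ∈ Z → a * b = b * a)
    (hfX : ι f ∈ Subgroup.normalizer (X : Set Γ)) (hfZ : ι f ∈ Subgroup.normalizer (Z : Set Γ))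
    (hXZ : X ≤ Z) (hinvf : ∀ w ∈ Z, ι f * w * (ι f)⁻¹ * w ∈ X) {w : Γ} (hw : w ∈ Z) : w ∈ X := by
  set F := ι f
  have hF3 : F * F * F = 1 := by
    rw [← map_mul, ← map_mul, ← pow_two, ← pow_succ, d.f3, map_one]
  set w1 := F * w * F⁻¹ with hw1
  have hw1Z : w1 ∈ Z := conj_mem hfZ hw
  set w2 := F * w1 * F⁻¹ with hw2
  have hw2Z : w2 ∈ Z := conj_mem hfZ hw1Z
  have h3 : F * w2 * F⁻¹ = w := by
    calc F * w2 * F⁻¹ = (F * F * F) * w * (F * F * F)⁻¹ := by rw [hw2, hw1]; group
      _ = w := by rw [hF3, one_mul, inv_one, mul_one]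
  have a1 : w1 * w ∈ X := hinvf w hw
  have a2 : w2 * w1 ∈ X := hinvf w1 hw1Z
  have a3 : w * w2 ∈ X := by
    have := hinvf w2 hw2Z
    rwa [h3] at this
  have hsq : w * w ∈ X := by
    have := X.mul_mem (X.mul_mem a3 (X.inv_mem a2)) a1
    have e : w * w2 * (w2 * w1)⁻¹ * (w1 * w) = w * (w2 * w1⁻¹ * w2⁻¹) * w1 * w := by group
    rw [e, hXc w2 w1⁻¹ hw2Z (inv_mem hw1Z), mul_inv_cancel_right] at this
    simpa [mul_assoc] using this
  rw [← pow_two] at hsq
  have hodd : (orderOf w).Coprime 2 :=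
    ((coprime_six d h hZK).coprime_dvd_left (by norm_num : 2 ∣ 6)).symm.coprime_dvd_left
      (Subgroup.orderOf_dvd_natCard _ hw)
  obtain ⟨k, hk⟩ := (mem_zpowers_pow_iff.2 hodd.symm : w ∈ Subgroup.zpowers (w ^ 2))
  exact (show (w ^ 2) ^ k = w from hk) ▸ X.zpow_mem hsq k

/-- The three local facts about a maximal subgroup `X` of `Z`. -/
theorem kerSub_of_normalizes (d : Dihedral3 f t) (h : Acts K ι) {V Z X : Subgroup Γ}
    (hVK : V ≤ K) (hV : ∀ x ∈ V, ∀ y ∈ V, x * y = y * x) (hVn : V.Normal)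
    (hZK : Z ≤ K) (hZ : ∀ x ∈ Z, ∀ y ∈ Z, x * y = y * x)
    (hZA : ι.range ≤ Subgroup.normalizer (Z : Set Γ))
    (hcop : (Nat.card Z).Coprime (Nat.card V))
    (hCV : V ⊓ Subgroup.centralizer (Z : Set Γ) = ⊥) (hXZ : X ≤ Z) (hXne : X ≠ Z)
    (hmax : ∀ Y, X ≤ Y → Y ≤ Z → Y = X ∨ Y = Z)
    (hW : V ⊓ Subgroup.centralizer (X : Set Γ) ≠ ⊥)
    (hfX : ι f ∈ Subgroup.normalizer (X : Set Γ)) : ι f ∈ kerSub Z X := by
  have := hVn
  by_contra hnk
  by_cases hinv : ∃ σ, (σ = t ∨ σ = f * t ∨ σ = f * f * t) ∧ ι σ ∈ Subgroup.normalizer (X : Set Γ)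
  · obtain ⟨σ, hσ, hσX⟩ := hinv
    have htX : ι t ∈ Subgroup.normalizer (X : Set Γ) := by
      obtain ⟨-, -, i, hi⟩ := d.invol hσ
      rw [hi, map_mul, map_pow]
      exact mul_mem (pow_mem hfX i) hσX
    have hftX : ι (f * t) ∈ Subgroup.normalizer (X : Set Γ) := by
      rw [map_mul]; exact mul_mem hfX htX
    have hXc : ∀ (a b : Γ), a ∈ Z → b ∈ Z → a * b = b * a := fun a b ha hb => hZ a ha b hb
    -- each involution centralises or inverts `Z/X`
    have hsign : ∀ τ : A₀, τ * τ = 1 → ι τ ∈ Subgroup.normalizer (X : Set Γ) →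
        (∀ z ∈ Z, ι τ * z * (ι τ)⁻¹ * z⁻¹ ∈ X) ∨ (∀ z ∈ Z, ι τ * z * (ι τ)⁻¹ * z ∈ X) := by
      intro τ hτ hτX
      by_cases hker : ι τ ∈ kerSub Z X
      · refine Or.inl fun z hz => ?_
        have h1 := X.inv_mem (hker.2 z hz)
        simpa [mul_assoc] using h1
      refine Or.inr fun z hz => ?_
      have hτZ := hZA ⟨τ, rfl⟩
      have hz' : ι τ * z * (ι τ)⁻¹ ∈ Z := conj_mem hτZ hz
      have hττ : ι τ * ι τ = 1 := by rw [← map_mul, hτ, map_one]
      let Y : Subgroup Γ :=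
        { carrier := {y | y ∈ Z ∧ ι τ * y * (ι τ)⁻¹ * y⁻¹ ∈ X}
          one_mem' := ⟨one_mem _, by simp⟩
          mul_mem' := by
            rintro a b ⟨ha, ha'⟩ ⟨hb, hb'⟩
            refine ⟨mul_mem ha hb, ?_⟩
            have e : ι τ * (a * b) * (ι τ)⁻¹ * (a * b)⁻¹ =
                (ι τ * a * (ι τ)⁻¹) * (ι τ * b * (ι τ)⁻¹ * b⁻¹) * a⁻¹ := by group
            rw [e, hXc _ _ (conj_mem hτZ ha) (hXZ hb'), mul_assoc]
            exact mul_mem hb' ha'
          inv_mem' := by
            rintro a ⟨ha, ha'⟩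
            refine ⟨inv_mem ha, ?_⟩
            have e : ι τ * a⁻¹ * (ι τ)⁻¹ * a⁻¹⁻¹ = (ι τ * a * (ι τ)⁻¹)⁻¹ * a := by group
            rw [e, hXc _ _ (inv_mem (conj_mem hτZ ha)) ha,
              show a * (ι τ * a * (ι τ)⁻¹)⁻¹ = (ι τ * a * (ι τ)⁻¹ * a⁻¹)⁻¹ by group]
            exact inv_mem ha' }
      have hY : Y = X := by
        refine (hmax Y (fun x hx => ⟨hXZ hx, mul_mem (conj_mem hτX hx) (inv_mem hx)⟩)
          (fun y hy => hy.1)).resolve_right fun e => hker ⟨hτX, fun y hy => ?_⟩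
        have h1 := X.inv_mem (e.symm.le hy : y ∈ Y).2
        simpa [mul_assoc] using h1
      have hmem : ι τ * z * (ι τ)⁻¹ * z ∈ Y := by
        refine ⟨mul_mem hz' hz, ?_⟩
        have e : ι τ * (ι τ * z * (ι τ)⁻¹ * z) * (ι τ)⁻¹ = z * (ι τ * z * (ι τ)⁻¹) := by
          have : (ι τ)⁻¹ = ι τ := inv_eq_of_mul_eq_one_right hττ
          rw [this]
          calc ι τ * (ι τ * z * ι τ * z) * ι τ = (ι τ * ι τ) * z * (ι τ * z * ι τ) := by group
            _ = _ := by rw [hττ, one_mul]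
        rw [e, hXc _ _ hz hz', mul_inv_cancel]
        exact one_mem _
      exact hY ▸ hmem
    apply hnk
    refine ⟨hfX, fun z hz => ?_⟩
    have hcomp : ι f = ι (f * t) * ι t := by rw [← map_mul, mul_assoc, d.t2, mul_one]
    have hF : ι f * z⁻¹ * (ι f)⁻¹ =
        ι (f * t) * (ι t * z⁻¹ * (ι t)⁻¹) * (ι (f * t))⁻¹ := by rw [hcomp]; group
    have hgoal : z * ι f * z⁻¹ * (ι f)⁻¹ = z * (ι f * z⁻¹ * (ι f)⁻¹) := by group
    rw [hgoal]
    have htZ := hZA ⟨t, rfl⟩
    have hftZ := hZA ⟨f * t, rfl⟩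
    have hfZ := hZA ⟨f, rfl⟩
    rcases hsign t d.t2 htX with h1 | h1 <;>
      rcases hsign (f * t) (d.invol (Or.inr (Or.inl rfl))).1 hftX with h2 | h2
    · have e : z * (ι f * z⁻¹ * (ι f)⁻¹) = z * (ι (f * t) * (ι t * z⁻¹ * (ι t)⁻¹ * z⁻¹⁻¹) * (ι (f * t))⁻¹) *
          (ι (f * t) * z⁻¹ * (ι (f * t))⁻¹ * z⁻¹⁻¹) * z⁻¹ := by rw [hF]; group
      rw [e]
      have hx1 := conj_mem hftX (h1 z⁻¹ (inv_mem hz))
      have hx2 := h2 z⁻¹ (inv_mem hz)
      have hm := mul_mem hx1 hx2
      rw [mul_assoc z, hXc _ _ hz (hXZ hm), mul_inv_cancel_right]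
      exact hm
    · exfalso
      refine hXne (le_antisymm hXZ fun w hw => ?_)
      -- `f` inverts `Z/X`, so `Z = X`
      have hinvf : ∀ w ∈ Z, ι f * w * (ι f)⁻¹ * w ∈ X := fun w hw => by
        have e : ι f * w * (ι f)⁻¹ * w = ι (f * t) * (ι t * w * (ι t)⁻¹ * w⁻¹) * (ι (f * t))⁻¹ *
            (ι (f * t) * w * (ι (f * t))⁻¹ * w) := by rw [hcomp]; group
        rw [e]
        exact mul_mem (conj_mem hftX (h1 w hw)) (h2 w hw)
      exact sq_mem_absurd d h hZK hXc hfX hfZ hXZ hinvf hw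
    · exfalso
      refine hXne (le_antisymm hXZ fun w hw => ?_)
      have hinvf : ∀ w ∈ Z, ι f * w * (ι f)⁻¹ * w ∈ X := fun w hw => by
        have e : ι f * w * (ι f)⁻¹ * w = ι (f * t) * (ι t * w * (ι t)⁻¹ * w) * (ι (f * t))⁻¹ *
            (ι (f * t) * w⁻¹ * (ι (f * t))⁻¹ * w⁻¹⁻¹) := by rw [hcomp]; group
        rw [e]
        exact mul_mem (conj_mem hftX (h1 w hw)) (h2 w⁻¹ (inv_mem hw))
      exact sq_mem_absurd d h hZK hXc hfX hfZ hXZ hinvf hw
    · have e : z * (ι f * z⁻¹ * (ι f)⁻¹) = z * (ι (f * t) * (ι t * z⁻¹ * (ι t)⁻¹ * z⁻¹) * (ι (f * t))⁻¹) *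
          (ι (f * t) * z * (ι (f * t))⁻¹ * z) * z⁻¹ := by rw [hF]; group
      rw [e]
      have hx1 := conj_mem hftX (h1 z⁻¹ (inv_mem hz))
      have hx2 := h2 z hz
      have hm := mul_mem hx1 hx2
      rw [mul_assoc z, hXc _ _ hz (hXZ hm), mul_inv_cancel_right]
      exact hm
  · push Not at hinv
    have hWn : ι f ∈ Subgroup.normalizer ((V ⊓ Subgroup.centralizer (X : Set Γ) : Subgroup Γ) : Set Γ) :=
      (le_normalizer_inf (le_normalizer_of_normal V _)
        (CoprimeTools.le_normalizer_centralizer_of_le (Subgroup.zpowers_le.2 hfX)))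
        (Subgroup.mem_zpowers _)
    have hZW : Z ≤ Subgroup.normalizer ((V ⊓ Subgroup.centralizer (X : Set Γ) : Subgroup Γ) : Set Γ) :=
      le_normalizer_inf (le_normalizer_of_normal V _)
        (CoprimeTools.le_normalizer_centralizer_of_le fun z hz =>
          Subgroup.centralizer_le_normalizer _ fun x hx => hZ x (hXZ hx) z hz)
    refine hW (eq_bot_iff.2 fun w hw => ?_)
    refine le_of_translates (U := ⊥) (V := V ⊓ Subgroup.centralizer (X : Set Γ)) Nat.prime_three
      (by rw [← map_pow, d.f3, map_one]) (fun x hx y hy => hV x hx.1 y hy.1) hZ hXZ hmax hZW hWn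
      (hZA ⟨f, rfl⟩) (hcop.coprime_dvd_right (Subgroup.card_dvd_of_le inf_le_left))
      (eq_bot_iff.2 ((inf_le_inf_right _ inf_le_left).trans hCV.le)) hnk ?_ ⟨hw, hw.2⟩
    intro z hz x hx hxf
    rw [Subgroup.mem_bot]
    have hx1 : x = 1 := FrobeniusOrbit.orbit_eq_one ι hV hZ hXZ hmax
      (fun a => le_normalizer_of_normal V ι.range ⟨a, rfl⟩) (fun a => hZA ⟨a, rfl⟩)
      (le_normalizer_of_normal V Z) (fun y hy => h.fpf y (hVK hy)) hCV
      (h.coprime.coprime_dvd_right (Subgroup.card_dvd_of_le hVK)) hcop hx.1 hx.2 fun a ha => by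
        have haX : ι a ∈ Subgroup.normalizer (X : Set Γ) := mem_normalizer_of_conj_smul_eq ha
        rcases d.cases a with e | e | e | e | e | e <;> rw [e] at haX ⊢
        · rw [map_one, one_mul, mul_one]
        · exact hxf
        · rw [map_mul]
          exact (show Commute (ι f) x from hxf).mul_left (show Commute (ι f) x from hxf)
        · exact absurd haX (hinv t (Or.inl rfl))
        · exact absurd haX (hinv _ (Or.inr (Or.inl rfl)))
        · exact absurd haX (hinv _ (Or.inr (Or.inr rfl)))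
    rw [hx1, mul_one, mul_inv_cancel]

/-- If `f` moves `X`, some involution fixes `X` and inverts `C_V(X)`. -/
theorem exists_inverting (d : Dihedral3 f t) (h : Acts K ι) {V Z X : Subgroup Γ}
    (hVK : V ≤ K) (hV : ∀ x ∈ V, ∀ y ∈ V, x * y = y * x) (hVn : V.Normal)
    (hZ : ∀ x ∈ Z, ∀ y ∈ Z, x * y = y * x)
    (hZA : ι.range ≤ Subgroup.normalizer (Z : Set Γ))
    (hcop : (Nat.card Z).Coprime (Nat.card V))
    (hCV : V ⊓ Subgroup.centralizer (Z : Set Γ) = ⊥) (hXZ : X ≤ Z)
    (hmax : ∀ Y, X ≤ Y → Y ≤ Z → Y = X ∨ Y = Z)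
    (hW : V ⊓ Subgroup.centralizer (X : Set Γ) ≠ ⊥)
    (hfX : ι f ∉ Subgroup.normalizer (X : Set Γ)) :
    ∃ σ, (σ = t ∨ σ = f * t ∨ σ = f * f * t) ∧ ι σ ∈ Subgroup.normalizer (X : Set Γ) ∧
      ∀ w ∈ V ⊓ Subgroup.centralizer (X : Set Γ), ι σ * w * (ι σ)⁻¹ = w⁻¹ := by
  have := hVn
  have horb : ∀ {w : Γ}, w ∈ V → w ∈ Subgroup.centralizer (X : Set Γ) →
      (∀ a, ι a ∈ Subgroup.normalizer (X : Set Γ) → ι a * w = w * ι a) → w = 1 :=
    fun {w} hw hwX hws => FrobeniusOrbit.orbit_eq_one ι hV hZ hXZ hmax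
      (fun a => le_normalizer_of_normal V ι.range ⟨a, rfl⟩) (fun a => hZA ⟨a, rfl⟩)
      (le_normalizer_of_normal V Z) (fun y hy => h.fpf y (hVK hy)) hCV
      (h.coprime.coprime_dvd_right (Subgroup.card_dvd_of_le hVK)) hcop hw hwX
      fun a ha => hws a (mem_normalizer_of_conj_smul_eq ha)
  have hf2 : ι (f * f) ∉ Subgroup.normalizer (X : Set Γ) := by
    intro h2
    apply hfX
    have h4 : ι f = ι (f * f) * ι (f * f) := by
      rw [← map_mul]
      congr 1
      calc f = f ^ 3 * f := by rw [d.f3, one_mul]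
        _ = _ := by rw [← pow_succ]; simp [pow_succ, mul_assoc]
    rw [h4]
    exact mul_mem h2 h2
  by_cases hinv : ∃ σ, (σ = t ∨ σ = f * t ∨ σ = f * f * t) ∧ ι σ ∈ Subgroup.normalizer (X : Set Γ)
  · obtain ⟨σ, hσ, hσX⟩ := hinv
    refine ⟨σ, hσ, hσX, fun w hw => ?_⟩
    refine FrobeniusOrbit.inverts (L := V ⊓ Subgroup.centralizer (X : Set Γ))
      (by rw [← map_mul, (d.invol hσ).1, map_one]) ?_ ?_ hw
    · exact le_normalizer_inf (le_normalizer_of_normal V (Subgroup.zpowers (ι σ)))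
        (CoprimeTools.le_normalizer_centralizer_of_le (Subgroup.zpowers_le.2 hσX))
        (Subgroup.mem_zpowers _)
    · rw [Subgroup.eq_bot_iff_forall]
      rintro x ⟨⟨hx, hxX⟩, hxσ⟩
      have hxσ' : ι σ * x = x * ι σ := (Subgroup.mem_centralizer_singleton_iff.1 hxσ).symm
      refine horb hx hxX fun a ha => ?_
      -- the stabiliser is `{1, σ}`
      have hkey : a = 1 ∨ a = σ := by
        have hff : ∀ i : ℕ, ι (f ^ i) ∈ Subgroup.normalizer (X : Set Γ) → f ^ i = 1 := by
          intro i hi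
          rw [← Nat.div_add_mod i 3, pow_add, pow_mul, d.f3, one_pow, one_mul] at hi ⊢
          have : i % 3 = 0 ∨ i % 3 = 1 ∨ i % 3 = 2 := by omega
          rcases this with e | e | e
          · rw [e, pow_zero]
          · rw [e, pow_one] at hi; exact absurd hi hfX
          · rw [e, pow_two] at hi; exact absurd hi hf2
        have hcase : (∃ i : ℕ, a = f ^ i) ∨ ∃ i : ℕ, a = f ^ i * σ := by
          obtain ⟨-, -, i, hi⟩ := d.invol hσ
          rcases d.cases a with e | e | e | e | e | e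
          · exact Or.inl ⟨0, by rw [e, pow_zero]⟩
          · exact Or.inl ⟨1, by rw [e, pow_one]⟩
          · exact Or.inl ⟨2, by rw [e, pow_two]⟩
          · exact Or.inr ⟨i, by rw [e, hi]⟩
          · exact Or.inr ⟨1 + i, by rw [e, hi, pow_add, pow_one, mul_assoc]⟩
          · exact Or.inr ⟨2 + i, by rw [e, hi, pow_add, pow_two, ← mul_assoc]⟩
        rcases hcase with ⟨i, e⟩ | ⟨i, e⟩
        · exact Or.inl (e.trans (hff i (e ▸ ha)))
        · refine Or.inr ?_
          have hi' : ι (f ^ i) ∈ Subgroup.normalizer (X : Set Γ) := by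
            have := mul_mem ha (inv_mem hσX)
            rwa [e, map_mul, mul_inv_cancel_right] at this
          rw [e, hff i hi', one_mul]
      rcases hkey with e | e <;> rw [e]
      · rw [map_one, one_mul, mul_one]
      · exact hxσ'
  · push Not at hinv
    exfalso
    refine hW (eq_bot_iff.2 fun w hw => Subgroup.mem_bot.2 (horb hw.1 hw.2 fun a ha => ?_))
    rcases d.cases a with e | e | e | e | e | e <;> rw [e] at ha ⊢
    · rw [map_one, one_mul, mul_one]
    · exact absurd ha hfX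
    · exact absurd ha hf2
    · exact absurd ha (hinv t (Or.inl rfl))
    · exact absurd ha (hinv _ (Or.inr (Or.inl rfl)))
    · exact absurd ha (hinv _ (Or.inr (Or.inr rfl)))

/-- If `f` centralises `Z/X` it is fixed-point-free on `C_V(X)`. -/
theorem fixed_eq_bot (d : Dihedral3 f t) (h : Acts K ι) {V Z X : Subgroup Γ}
    (hVK : V ≤ K) (hZK : Z ≤ K) (hZA : ι.range ≤ Subgroup.normalizer (Z : Set Γ))
    (hCV : V ⊓ Subgroup.centralizer (Z : Set Γ) = ⊥) (hXZ : X ≤ Z) (hXne : X ≠ Z)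
    (hmax : ∀ Y, X ≤ Y → Y ≤ Z → Y = X ∨ Y = Z) (hk : ι f ∈ kerSub Z X) :
    V ⊓ Subgroup.centralizer (X : Set Γ) ⊓ Subgroup.centralizer ({ι f} : Set Γ) = ⊥ := by
  rw [Subgroup.eq_bot_iff_forall]
  rintro w ⟨⟨hwV, hwX⟩, hwf⟩
  have hle : Subgroup.zpowers (ι f) ≤ ι.range := Subgroup.zpowers_le.2 ⟨f, rfl⟩
  have := h.solv
  have hs := commutator_sup_centralizer_eq (A := Subgroup.zpowers (ι f)) (K := Z) (hle.trans hZA)
    ((coprime_of_le_right hZK h.coprime_range).coprime_dvd_left (Subgroup.card_dvd_of_le hle))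
    (Or.inr (isSolvable_of_le hZK))
  have hZle : Z ≤ Z ⊓ Subgroup.centralizer ({w} : Set Γ) := by
    have hXle : X ≤ Z ⊓ Subgroup.centralizer ({w} : Set Γ) := fun x hx =>
      ⟨hXZ hx, Subgroup.mem_centralizer_singleton_iff.2 (hwX x hx)⟩
    calc Z = ⁅Z, Subgroup.zpowers (ι f)⁆ ⊔
          (Z ⊓ Subgroup.centralizer (Subgroup.zpowers (ι f) : Set Γ)) := hs.symm
      _ ≤ _ := by
        refine sup_le ?_ fun z hz => ⟨hz.1, Subgroup.mem_centralizer_singleton_iff.2 ?_⟩
        · refine le_trans (Subgroup.commutator_le.2 fun z hz x hx => ?_) hXle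
          exact ((Subgroup.zpowers_le.2 hk) hx).2 z hz
        · exact commute_fixed d h (hZK hz.1) (hVK hwV) (hz.2 _ (Subgroup.mem_zpowers _))
            (Subgroup.mem_centralizer_singleton_iff.1 hwf).symm
  have hmem : w ∈ V ⊓ Subgroup.centralizer (Z : Set Γ) :=
    ⟨hwV, fun z hz => Subgroup.mem_centralizer_singleton_iff.1 (hZle hz).2⟩
  rwa [hCV, Subgroup.mem_bot] at hmem

/-- If `f` is fixed-point-free on `Q` and `C_R(f)` centralises `Q`, then `R` centralises `Q`. -/
theorem le_centralizer_of_fpf_quot {Q R H : Subgroup Γ} {r q s : ℕ} (d : Dihedral3 f t)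
    (qr : QR ι H Q R r q s) (hH : ι.range ≤ Subgroup.normalizer (H : Set Γ))
    (hCQ : Q ⊓ Subgroup.centralizer ({ι f} : Set Γ) = ⊥)
    (hCR : R ⊓ Subgroup.centralizer ({ι f} : Set Γ) ≤ Subgroup.centralizer (Q : Set Γ))
    (hcop : (Nat.card (Subgroup.zpowers (ι f))).Coprime (Nat.card H)) (hsol : Group.IsSolvable H) :
    False := by
  classical
  set R₀ := R ⊓ Subgroup.centralizer (Q : Set Γ) with hR₀
  have hRQ := qr.R_le.trans qr.Q_normal
  have hR₀H : R₀ ≤ H := inf_le_left.trans qr.R_le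
  have hHR₀ : H ≤ Subgroup.normalizer (R₀ : Set Γ) := by
    rw [← qr.span]
    refine sup_le (fun x hx => Subgroup.centralizer_le_normalizer _ fun y hy => (hy.2 x hx).symm) ?_
    exact le_normalizer_inf Subgroup.le_normalizer (CoprimeTools.le_normalizer_centralizer_of_le hRQ)
  have hfR₀ : Subgroup.zpowers (ι f) ≤ Subgroup.normalizer (R₀ : Set Γ) := by
    have hle : Subgroup.zpowers (ι f) ≤ ι.range := Subgroup.zpowers_le.2 ⟨f, rfl⟩
    exact le_normalizer_inf (hle.trans qr.R_inv)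
      (CoprimeTools.le_normalizer_centralizer_of_le (hle.trans qr.Q_inv))
  have hM : (R₀.subgroupOf H).Normal := Subgroup.normal_subgroupOf_of_le_normalizer hHR₀
  have hfH : ∀ x ∈ H, MulAut.conj (ι f) x ∈ H := fun x hx => conj_mem (hH ⟨f, rfl⟩) hx
  set φ := FrobeniusNilpotent.restrictAut (MulAut.conj (ι f)) H hfH
  have hφ : (R₀.subgroupOf H).map φ.toMonoidHom = R₀.subgroupOf H :=
    FrobeniusNilpotent.map_eq_of_invariant φ _ fun x hx =>
      conj_mem (hfR₀ (Subgroup.mem_zpowers _)) hx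
  let ψ : MulAut (H ⧸ R₀.subgroupOf H) := QuotientGroup.congr _ _ φ hφ
  have hψ : ∀ x : H, ψ (x : H ⧸ R₀.subgroupOf H) = ((φ x : H) : H ⧸ R₀.subgroupOf H) := fun _ => rfl
  have hnil : Group.IsNilpotent (H ⧸ R₀.subgroupOf H) := by
    refine FrobeniusNilpotent.isNilpotent_of_fpf ψ (fun y hy => ?_) 3 Nat.prime_three ?_
    · obtain ⟨x, rfl⟩ := QuotientGroup.mk_surjective y
      rw [hψ, QuotientGroup.eq, Subgroup.mem_subgroupOf] at hy
      have hy' : (ι f * (x : Γ) * (ι f)⁻¹)⁻¹ * (x : Γ) ∈ R₀ := hy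
      set D := R₀
      have hall : ∀ g ∈ Subgroup.zpowers (ι f),
          (x : Γ)⁻¹ * g * (x : Γ) * g⁻¹ ∈ D := by
        let S : Subgroup Γ :=
          { carrier := {g | g ∈ Subgroup.normalizer (D : Set Γ) ∧ (x : Γ)⁻¹ * g * (x : Γ) * g⁻¹ ∈ D}
            one_mem' := ⟨one_mem _, by simp⟩
            mul_mem' := by
              rintro g g' ⟨hg, hg1⟩ ⟨hg', hg1'⟩
              refine ⟨mul_mem hg hg', ?_⟩
              have e : (x : Γ)⁻¹ * (g * g') * x * (g * g')⁻¹ =
                  ((x : Γ)⁻¹ * g * x * g⁻¹) * (g * ((x : Γ)⁻¹ * g' * x * g'⁻¹) * g⁻¹) := by group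
              rw [e]
              exact mul_mem hg1 (conj_mem hg hg1')
            inv_mem' := by
              rintro g ⟨hg, hg1⟩
              refine ⟨inv_mem hg, ?_⟩
              have e : (x : Γ)⁻¹ * g⁻¹ * x * g⁻¹⁻¹ = g⁻¹ * ((x : Γ)⁻¹ * g * x * g⁻¹)⁻¹ * g⁻¹⁻¹ := by
                group
              rw [e]
              exact conj_mem (inv_mem hg) (inv_mem hg1) }
        intro g hg
        have hfS : ι f ∈ S := by
          refine ⟨hfR₀ (Subgroup.mem_zpowers _), ?_⟩
          have h1 := conj_mem (hHR₀ (inv_mem x.2)) (inv_mem (conj_mem (hHR₀ x.2) hy'))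
          simpa [mul_assoc] using inv_mem (show _ ∈ D from h1) |> inv_mem
        exact ((Subgroup.zpowers_le.2 hfS) hg).2
      obtain ⟨c, hc, hxc⟩ := exists_fixed_mem_coset (A := Subgroup.zpowers (ι f)) (D := D) hfR₀
        (hcop.coprime_dvd_right (Subgroup.card_dvd_of_le hR₀H))
        (isSolvable_or_of_le hR₀H (Or.inr hsol)) (x : Γ) hall
      have hcH : c ∈ H := by
        have := mul_mem x.2 (hR₀H hxc)
        simpa using this
      obtain ⟨a, ha, b, hb, hab⟩ : c ∈ (Q : Set Γ) * (R : Set Γ) := by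
        rw [← Subgroup.coe_mul_of_right_le_normalizer_left Q R hRQ, qr.span]
        exact hcH
      have hcf : ι f * c = c * ι f := hc _ (Subgroup.mem_zpowers _)
      have hQf := qr.Q_inv (⟨f, rfl⟩ : ι f ∈ ι.range)
      have hRf := qr.R_inv (⟨f, rfl⟩ : ι f ∈ ι.range)
      have hab' : a * b = c := hab
      have h2 : a⁻¹ * (ι f * a * (ι f)⁻¹) = b * (ι f * b * (ι f)⁻¹)⁻¹ := by
        have h3 : ι f * c * (ι f)⁻¹ = c := by rw [hcf, mul_inv_cancel_right]
        rw [← hab'] at h3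
        calc a⁻¹ * (ι f * a * (ι f)⁻¹) = a⁻¹ * (ι f * (a * b) * (ι f)⁻¹) * (ι f * b * (ι f)⁻¹)⁻¹ := by
              group
          _ = _ := by rw [h3]; group
      have h4 : a⁻¹ * (ι f * a * (ι f)⁻¹) ∈ Q ⊓ R := by
        refine ⟨Q.mul_mem (Q.inv_mem ha) (conj_mem hQf ha), ?_⟩
        rw [h2]
        exact R.mul_mem hb (R.inv_mem (conj_mem hRf hb))
      have := Fact.mk qr.q_prime
      have := Fact.mk qr.s_prime
      rw [(IsPGroup.disjoint_of_ne q s qr.ne Q R qr.Q_pgroup qr.R_pgroup).eq_bot, Subgroup.mem_bot] at h4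
      have ha1 : a = 1 := by
        have : a ∈ Q ⊓ Subgroup.centralizer ({ι f} : Set Γ) :=
          ⟨ha, Subgroup.mem_centralizer_singleton_iff.2
            (mul_inv_eq_iff_eq_mul.1 (inv_mul_eq_one.1 h4).symm).symm⟩
        rwa [hCQ, Subgroup.mem_bot] at this
      rw [ha1, one_mul] at hab'
      have hcR₀ : c ∈ R₀ := ⟨hab' ▸ hb, hCR ⟨hab' ▸ hb, Subgroup.mem_centralizer_singleton_iff.2 hcf.symm⟩⟩
      refine (QuotientGroup.eq_one_iff x).2 ?_
      rw [Subgroup.mem_subgroupOf]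
      have := mul_mem hcR₀ (inv_mem hxc)
      simpa using this
    · have hpow : ∀ (k : ℕ) (x : H), (ψ ^ k) (x : H ⧸ R₀.subgroupOf H) = (((φ ^ k) x : H) : H ⧸ R₀.subgroupOf H) := by
        intro k x
        induction k with
        | zero => rfl
        | succ k ihk => rw [pow_succ', MulAut.mul_apply, pow_succ', MulAut.mul_apply, ihk, hψ]
      refine MulEquiv.ext fun y => ?_
      obtain ⟨x, rfl⟩ := QuotientGroup.mk_surjective y
      rw [hpow]
      show ((φ ^ 3) x : H ⧸ R₀.subgroupOf H) = (x : H ⧸ R₀.subgroupOf H)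
      congr 1
      refine Subtype.ext ?_
      rw [FrobeniusNilpotent.restrictAut_pow, ← map_pow, ← map_pow, d.f3, map_one, map_one]
      rfl
  apply qr.not_le
  intro x hx y hy
  have hcomm : Commute ((⟨y, qr.Q_le hy⟩ : H) : H ⧸ R₀.subgroupOf H) ((⟨x, qr.R_le hx⟩ : H) : H ⧸ R₀.subgroupOf H) := by
    have := hnil
    refine FrobeniusNilpotent.commute_of_coprime _ _ ?_
    refine Nat.Coprime.of_dvd (orderOf_map_dvd (QuotientGroup.mk' (R₀.subgroupOf H)) _)
      (orderOf_map_dvd (QuotientGroup.mk' (R₀.subgroupOf H)) _) ?_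
    rw [Subgroup.orderOf_mk, Subgroup.orderOf_mk]
    exact Nat.Coprime.of_dvd (Subgroup.orderOf_dvd_natCard _ hy) (Subgroup.orderOf_dvd_natCard _ hx)
      (coprime_pgroups qr.q_prime qr.s_prime qr.ne qr.Q_pgroup qr.R_pgroup)
  have h1 : ⁅(⟨y, qr.Q_le hy⟩ : H), (⟨x, qr.R_le hx⟩ : H)⁆ ∈ R₀.subgroupOf H := by
    rw [← QuotientGroup.eq_one_iff]
    exact (map_commutatorElement (QuotientGroup.mk' (R₀.subgroupOf H)) _ _).trans
      (commutatorElement_eq_one_iff_mul_comm.2 hcomm)
  have h2 : y * x * y⁻¹ * x⁻¹ ∈ Q ⊓ R := by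
    refine ⟨?_, ?_⟩
    · have := mul_mem hy (conj_mem (hRQ hx) (inv_mem hy))
      simpa [mul_assoc] using this
    · have := (Subgroup.mem_subgroupOf.1 h1).1
      simpa [commutatorElement_def] using this
  have := Fact.mk qr.q_prime
  have := Fact.mk qr.s_prime
  rw [(IsPGroup.disjoint_of_ne q s qr.ne Q R qr.Q_pgroup qr.R_pgroup).eq_bot, Subgroup.mem_bot,
    ← commutatorElement_def] at h2
  exact commutatorElement_eq_one_iff_mul_comm.1 h2

end setup

section main

variable {A₀ : Type v} [Group A₀] [Finite A₀] {f t : A₀} {Γ : Type u} [Group Γ] [Finite Γ]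
  {K : Subgroup Γ} {ι : A₀ →* Γ} {V H : Subgroup Γ} {r : ℕ}

theorem f_pow (d : Dihedral3 f t) : (ι f) ^ 3 = 1 := by rw [← map_pow, d.f3, map_one]

theorem zpowers_normal (d : Dihedral3 f t) :
    ι.range ≤ Subgroup.normalizer (Subgroup.zpowers (ι f) : Set Γ) := by
  rintro _ ⟨a, rfl⟩
  refine mem_normalizer_of_conj_smul_eq (Subgroup.eq_of_le_of_card_ge ?_
    (CoprimeSZ.card_conj_smul _ _).ge)
  rw [CoprimeSZ.conj_smul_eq_map, MonoidHom.map_zpowers, Subgroup.zpowers_le]
  obtain ⟨-, hft, -⟩ := d.invol (Or.inl rfl)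
  obtain ⟨-, hft1, -⟩ := d.invol (σ := f * t) (Or.inr (Or.inl rfl))
  obtain ⟨-, hft2, -⟩ := d.invol (σ := f * f * t) (Or.inr (Or.inr rfl))
  show ι a * ι f * (ι a)⁻¹ ∈ Subgroup.zpowers (ι f)
  rw [← map_mul, ← map_inv, ← map_mul]
  have key : a * f * a⁻¹ ∈ Subgroup.zpowers f := by
    have hinvo : ∀ σ : A₀, σ * f = f * f * σ → σ * f * σ⁻¹ ∈ Subgroup.zpowers f := fun σ e => by
      rw [e, mul_inv_cancel_right]
      exact mul_mem (Subgroup.mem_zpowers f) (Subgroup.mem_zpowers f)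
    rcases d.cases a with e | e | e | e | e | e <;> rw [e]
    · simp
    · rw [mul_inv_cancel_right]; exact Subgroup.mem_zpowers f
    · rw [show f * f * f * (f * f)⁻¹ = f by group]; exact Subgroup.mem_zpowers f
    · exact hinvo _ hft
    · exact hinvo _ hft1
    · exact hinvo _ hft2
  obtain ⟨k, hk⟩ := key
  exact ⟨k, by rw [← hk, map_zpow]⟩

theorem centralizer_inv (d : Dihedral3 f t) :
    ι.range ≤ Subgroup.normalizer ((Subgroup.centralizer ({ι f} : Set Γ)) : Set Γ) := by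
  have e : Subgroup.centralizer ({ι f} : Set Γ) = Subgroup.centralizer (Subgroup.zpowers (ι f) : Set Γ) := by
    refine le_antisymm (fun x hx y hy => ?_) (Subgroup.centralizer_le
      (Set.singleton_subset_iff.2 (Subgroup.mem_zpowers _)))
    obtain ⟨k, rfl⟩ := hy
    exact ((show Commute (ι f) x from (Subgroup.mem_centralizer_singleton_iff.1 hx).symm).zpow_left k).eq
  rw [e]
  exact CoprimeTools.le_normalizer_centralizer_of_le (zpowers_normal d)

theorem eq_zpowers_centralizer {x : Γ} (hx : ι f * x = x * ι f) :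
    Subgroup.zpowers (ι f) ≤ Subgroup.centralizer ({x} : Set Γ) :=
  Subgroup.zpowers_le.2 (Subgroup.mem_centralizer_singleton_iff.2 hx)

/-- The case of a non-nilpotent complement. -/
theorem false_of_not_nilpotent (d : Dihedral3 f t) (h : Acts K ι)
    (hc : Config (fun T _ => IsMulCommutative T) K ι V H r) (hH : ¬ Group.IsNilpotent H) : False := by
  classical
  have hnil : ∀ (T : Type u) [Group T], IsMulCommutative T → Group.IsNilpotent T := fun T _ hT =>
    let _ : CommGroup T := { ‹Group T› with mul_comm := hT.1.1 }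
    CommGroup.isNilpotent
  have hc' : Config (fun T _ => Group.IsNilpotent T) K ι V H r :=
    ⟨hc.prime, hc.V_le, hc.H_le, hc.V_normal, hc.H_inv, hc.disjoint, hc.span, hc.V_comm, hc.V_pgroup,
      hc.V_ne, hc.V_min, hc.faithful, hH,
      (let ⟨N, hN, h1, h2⟩ := hc.good; ⟨N, hN, h1, hnil _ h2⟩),
      fun L hL hne hA => (let ⟨N, hN, h1, h2⟩ := hc.sub L hL hne hA; ⟨N, hN, h1, hnil _ h2⟩),
      hc.core⟩
  obtain ⟨Q, R, q, s, qr⟩ := exists_QR h hc'
  have := h.solv
  have := h.normal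
  have := hc.V_normal
  have hQK := qr.Q_le.trans hc.H_le
  have hRK := qr.R_le.trans hc.H_le
  have hRQ := qr.R_le.trans qr.Q_normal
  have hHs : Group.IsSolvable H := isSolvable_of_le hc.H_le
  have hQs : Group.IsSolvable Q := isSolvable_of_le hQK
  have hRs : Group.IsSolvable R := isSolvable_of_le hRK
  have := Fact.mk qr.q_prime
  have := Fact.mk qr.s_prime
  set F := ι f with hF
  have hFA : Subgroup.zpowers F ≤ ι.range := Subgroup.zpowers_le.2 ⟨f, rfl⟩
  have hcopF : ∀ L ≤ K, (Nat.card (Subgroup.zpowers F)).Coprime (Nat.card L) := fun L hL =>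
    (coprime_of_le_right hL h.coprime_range).coprime_dvd_left (Subgroup.card_dvd_of_le hFA)
  have hQ6 := coprime_six d h hQK
  have hVQ : (Nat.card Q).Coprime (Nat.card V) :=
    coprime_pgroups qr.q_prime hc.prime qr.q_ne qr.Q_pgroup hc.V_pgroup
  have hQeq := qr.commutator_eq h hc'
  obtain ⟨hq2, hq3⟩ : q ≠ 2 ∧ q ≠ 3 := by
    have hne : Q ≠ ⊥ := fun e => qr.not_le (fun x _ => Subgroup.mem_centralizer_iff.2 fun y hy => by
      rw [e] at hy; rw [Subgroup.mem_bot.1 hy, one_mul, mul_one])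
    obtain ⟨k, hk⟩ := IsPGroup.iff_card.1 qr.Q_pgroup
    have hk0 : k ≠ 0 := fun e => hne (Subgroup.card_eq_one.1 (by rw [hk, e, pow_zero]))
    rw [hk, Nat.coprime_pow_right_iff (Nat.pos_of_ne_zero hk0)] at hQ6
    constructor <;> rintro rfl <;> norm_num at hQ6
  -- `R` is centralised by `f`, or `f` is fixed-point-free modulo `C_R(Q)`
  have hdich : R ≤ Subgroup.centralizer ({F} : Set Γ) ∨
      (R ⊓ Subgroup.centralizer ({F} : Set Γ) ≤ Subgroup.centralizer (Q : Set Γ) ∧
        ⁅R, Subgroup.zpowers F⁆ = R) := by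
    by_cases he : R ⊓ Subgroup.centralizer ({F} : Set Γ) = R
    · exact Or.inl (inf_eq_left.1 he)
    refine Or.inr ?_
    have h1 := qr.R_min _ inf_le_left he (le_normalizer_inf qr.R_inv (centralizer_inv d))
    refine ⟨h1, ?_⟩
    by_contra hne
    have hle : ⁅R, Subgroup.zpowers F⁆ ≤ R := commutator_le_self_of_le_normalizer (hFA.trans qr.R_inv)
    have h2 := qr.R_min _ hle hne
      (CoprimeTools.le_normalizer_commutator_of_le qr.R_inv (zpowers_normal d))
    apply qr.not_le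
    rw [← commutator_sup_centralizer_eq (hFA.trans qr.R_inv) (hcopF R hRK) (Or.inr hRs)]
    refine sup_le h2 (le_trans (inf_le_inf_left _ ?_) h1)
    exact Subgroup.centralizer_le (Set.singleton_subset_iff.2 (Subgroup.mem_zpowers _))
  have hfinal : ∀ K' : Subgroup Γ, ⁅R, Subgroup.zpowers F⁆ = R →
      R ≤ Subgroup.normalizer (K' : Set Γ) → F ∈ kerSub Q K' → Q ≤ K' := by
    intro K' hRF hRK' hk
    have h1 : R ≤ kerSub Q K' := by
      rw [← hRF, Subgroup.commutator_le]
      intro x hx y hy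
      have hy' := (Subgroup.zpowers_le.2 hk) hy
      exact mul_mem (conj_mem_kerSub hy' (hRQ hx) (hRK' hx)) (inv_mem hy')
    rw [← hQeq, Subgroup.commutator_le]
    exact fun g hg x hx => (h1 hx).2 g hg
  have hQne : ¬ Q ≤ (⊥ : Subgroup Γ) := fun e => qr.not_le (fun x _ => Subgroup.mem_centralizer_iff.2
    fun y hy => by rw [Subgroup.mem_bot.1 (e hy), one_mul, mul_one])
  have hQf : ⁅R, Subgroup.zpowers F⁆ = R → ¬ Q ≤ Subgroup.centralizer ({F} : Set Γ) := by
    intro hRF hle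
    refine hQne (hfinal ⊥ hRF (le_normalizer_of_normal ⊥ R) ⟨le_normalizer_of_normal ⊥ _
      (Subgroup.mem_zpowers F), fun g hg => ?_⟩)
    rw [Subgroup.mem_bot, Subgroup.mem_centralizer_singleton_iff.1 (hle hg), mul_inv_cancel_right,
      mul_inv_cancel]
  have hnoQ : Q ⊓ Subgroup.centralizer ({F} : Set Γ) = ⊥ →
      R ⊓ Subgroup.centralizer ({F} : Set Γ) ≤ Subgroup.centralizer (Q : Set Γ) → False :=
    fun h1 h2 => le_centralizer_of_fpf_quot d qr hc.H_inv h1 h2 (hcopF H hc.H_le) hHs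
  -- an element fixed by `f` commuting with `Z` centralises `V`, when `C_Z(f) = 1`
  have hkillV : ∀ (Z : Subgroup Γ), Z ≤ Q → (∀ x ∈ Z, ∀ y ∈ Z, x * y = y * x) →
      ι.range ≤ Subgroup.normalizer (Z : Set Γ) → V ⊓ Subgroup.centralizer (Z : Set Γ) = ⊥ →
      Z ⊓ Subgroup.centralizer ({F} : Set Γ) = ⊥ → ∀ g ∈ H, F * g = g * F →
        (∀ z ∈ Z, z * g = g * z) → g = 1 := by
    intro Z hZQ hZc hZA hCV hZF g hg hgF hgZ
    have hVU : V ≤ V ⊓ Subgroup.centralizer ({g} : Set Γ) := by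
      refine FrobeniusOrbit.le_of_translates_fpf Nat.prime_three (f_pow d) hc.V_comm hZc
        (le_normalizer_of_normal V Z) (le_normalizer_of_normal V ι.range ⟨f, rfl⟩) (hZA ⟨f, rfl⟩)
        (hVQ.coprime_dvd_left (Subgroup.card_dvd_of_le hZQ)) hCV hZF fun z hz v hv hbv => ?_
      refine ⟨hc.V_normal.conj_mem v hv z, ?_⟩
      have h1 : z ∈ Subgroup.centralizer ({g} : Set Γ) :=
        Subgroup.mem_centralizer_singleton_iff.2 (hgZ z hz)
      have h2 : v ∈ Subgroup.centralizer ({g} : Set Γ) := Subgroup.mem_centralizer_singleton_iff.2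
        (commute_fixed d h (hc.V_le hv) (hc.H_le hg) hbv hgF)
      exact Subgroup.mul_mem _ (Subgroup.mul_mem _ h1 h2) (Subgroup.inv_mem _ h1)
    have : g ∈ H ⊓ Subgroup.centralizer (V : Set Γ) :=
      ⟨hg, fun v hv => Subgroup.mem_centralizer_singleton_iff.1 (hVU hv).2⟩
    rwa [hc.faithful, Subgroup.mem_bot] at this
  obtain ⟨Z, hZQ, hZne, hZq, hQZ, hRZ, hAZ, hcase, hCV⟩ := qr.exists_central h hc'
  have hZc : ∀ x ∈ Z, ∀ y ∈ Z, x * y = y * x := fun x hx y hy => hQZ (hZQ hy) x hx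
  have hCQf : (∀ g ∈ Q, F * g = g * F → g = 1) → Q ⊓ Subgroup.centralizer ({F} : Set Γ) = ⊥ :=
    fun hh => (Subgroup.eq_bot_iff_forall _).2 fun g hg =>
      hh g hg.1 (Subgroup.mem_centralizer_singleton_iff.1 hg.2).symm
  rcases hcase with hRZc | ⟨hZeq, hCQR⟩
  · by_cases hD : Z ⊓ Subgroup.centralizer ({F} : Set Γ) = ⊥
    · rcases hdich with hI | ⟨hII, -⟩
      · apply qr.not_le
        intro x hx y hy
        have := hkillV Z hZQ hZc hAZ hCV hD x (qr.R_le hx)
          (Subgroup.mem_centralizer_singleton_iff.1 (hI hx)).symm (fun z hz => hRZc hx z hz)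
        rw [this, mul_one, one_mul]
      · exact hnoQ (hCQf fun g hg hgF => hkillV Z hZQ hZc hAZ hCV hD g (qr.Q_le hg) hgF
          (fun z hz => hQZ hg z hz)) hII
    · -- `f` is fixed-point-free on `V`
      set D := Z ⊓ Subgroup.centralizer ({F} : Set Γ) with hDdef
      have hDA : ι.range ≤ Subgroup.normalizer (D : Set Γ) := le_normalizer_inf hAZ (centralizer_inv d)
      have hHD : H ≤ Subgroup.normalizer (D : Set Γ) := by
        rw [← qr.span]
        exact sup_le (fun x hx => Subgroup.centralizer_le_normalizer _ fun y hy => hQZ hx y hy.1)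
          (fun x hx => Subgroup.centralizer_le_normalizer _ fun y hy => hRZc hx y hy.1)
      have hCD : V ⊓ Subgroup.centralizer (D : Set Γ) = ⊥ := by
        refine (hc.V_min _ inf_le_left
          (le_normalizer_inf (le_normalizer_of_normal V H)
            (CoprimeTools.le_normalizer_centralizer_of_le hHD))
          (le_normalizer_inf (le_normalizer_of_normal V _)
            (CoprimeTools.le_normalizer_centralizer_of_le hDA))).resolve_right fun e => hD ?_
        rw [eq_bot_iff, ← hc.faithful]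
        exact le_inf ((inf_le_left.trans hZQ).trans qr.Q_le) fun z hz v hv =>
          (((le_of_eq e.symm).trans inf_le_right) hv z hz).symm
      have hVF : V ⊓ Subgroup.centralizer ({F} : Set Γ) = ⊥ := by
        rw [Subgroup.eq_bot_iff_forall]
        rintro v ⟨hv, hvF⟩
        have : v ∈ V ⊓ Subgroup.centralizer (D : Set Γ) := ⟨hv, fun z hz =>
          commute_fixed d h ((hZQ.trans hQK) hz.1) (hc.V_le hv)
            (Subgroup.mem_centralizer_singleton_iff.1 hz.2).symm
            (Subgroup.mem_centralizer_singleton_iff.1 hvF).symm⟩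
        rwa [hCD, Subgroup.mem_bot] at this
      have hQF : Q ≤ Subgroup.centralizer ({F} : Set Γ) := by
        intro y hy
        have h1 := FrobeniusQuadratic.comm_mem_centralizer hq2 hq3 hc.V_comm qr.Q_pgroup hVQ
          (le_normalizer_of_normal V Q) (le_normalizer_of_normal V ι.range ⟨f, rfl⟩) (f_pow d)
          hVF (qr.Q_inv ⟨f, rfl⟩) hy
        have hmem : y * F * y⁻¹ * F⁻¹ ∈ H ⊓ Subgroup.centralizer (V : Set Γ) := by
          refine ⟨qr.Q_le ?_, h1⟩
          have := mul_mem hy (conj_mem (qr.Q_inv ⟨f, rfl⟩) (inv_mem hy))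
          simpa [mul_assoc] using this
        rw [hc.faithful, Subgroup.mem_bot, mul_inv_eq_one, mul_inv_eq_iff_eq_mul] at hmem
        exact Subgroup.mem_centralizer_singleton_iff.2 hmem
      rcases hdich with hI | ⟨-, hRF⟩
      · apply qr.not_le
        exact fun x hx y hy => commute_fixed d h (hQK hy) (hRK hx)
          (Subgroup.mem_centralizer_singleton_iff.1 (hQF hy)).symm
          (Subgroup.mem_centralizer_singleton_iff.1 (hI hx)).symm
      · exact hQf hRF hQF
  · subst hZeq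
    have hZV : Z ≤ Subgroup.normalizer (V : Set Γ) := le_normalizer_of_normal V Z
    have hconjW : ∀ (X : Subgroup Γ) (x : Γ), x ∈ R →
        V ⊓ Subgroup.centralizer (X : Set Γ) ≠ ⊥ →
        V ⊓ Subgroup.centralizer ((MulAut.conj x • X : Subgroup Γ) : Set Γ) ≠ ⊥ := by
      intro X x hx hW e
      refine hW (eq_bot_iff.2 fun w hw => ?_)
      have : x * w * x⁻¹ ∈ V ⊓ Subgroup.centralizer ((MulAut.conj x • X : Subgroup Γ) : Set Γ) := by
        refine ⟨hc.V_normal.conj_mem w hw.1 x, fun y hy => ?_⟩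
        rw [SetLike.mem_coe, CoprimeSZ.mem_conj_smul] at hy
        have h3 := hw.2 _ hy
        calc y * (x * w * x⁻¹) = x * ((x⁻¹ * y * x) * w) * x⁻¹ := by group
          _ = x * (w * (x⁻¹ * y * x)) * x⁻¹ := by rw [h3]
          _ = x * w * x⁻¹ * y := by group
      rw [e, Subgroup.mem_bot, conj_eq_one_iff] at this
      exact Subgroup.mem_bot.2 this
    have hconjle : ∀ (X : Subgroup Γ) (x : Γ), x ∈ R → X ≤ Z → X ≠ Z →
        MulAut.conj x • X ≤ Z ∧ MulAut.conj x • X ≠ Z := by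
      intro X x hx hX hne
      refine ⟨CoprimeSZ.conj_smul_eq_self (hRQ hx) ▸
        Subgroup.pointwise_smul_le_pointwise_smul_iff.2 hX, fun e => hne ?_⟩
      exact smul_left_cancel (MulAut.conj x) (e.trans (CoprimeSZ.conj_smul_eq_self (hRQ hx)).symm)
    rcases hdich with hI | ⟨hII, hRF⟩
    · have hCf : Z ⊓ Subgroup.centralizer ({F} : Set Γ) = ⊥ := by
        rw [eq_bot_iff, ← hCQR]
        rintro g ⟨hg, hgF⟩
        exact ⟨hg, fun x hx => commute_fixed d h (hRK hx) (hQK hg)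
          (Subgroup.mem_centralizer_singleton_iff.1 (hI hx)).symm
          (Subgroup.mem_centralizer_singleton_iff.1 hgF).symm⟩
      have hnk : ∀ Y : Subgroup Γ, Y ≤ Z → Y ≠ Z → F ∉ kerSub Z Y := by
        intro Y hY hYne hmem
        have h1 := commutator_sup_centralizer_eq (A := Subgroup.zpowers F) (K := Z) (hFA.trans hAZ)
          (hcopF Z hQK) (Or.inr hQs)
        have h2 : Z ⊓ Subgroup.centralizer (Subgroup.zpowers F : Set Γ) = ⊥ :=
          eq_bot_iff.2 (hCf ▸ inf_le_inf_left _ (Subgroup.centralizer_le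
            (Set.singleton_subset_iff.2 (Subgroup.mem_zpowers F))))
        rw [h2, sup_bot_eq] at h1
        refine hYne (le_antisymm hY ?_)
        rw [← h1, Subgroup.commutator_le]
        exact fun g hg x hx => ((Subgroup.zpowers_le.2 hmem) hx).2 g hg
      obtain ⟨X, hXZ, hXne, hXmax, hXW⟩ := exists_maximal_fixed qr.q_prime hZc hZq hZV hVQ hc.V_ne hCV
      have hstab : ∀ Y ≤ Z, Y ≠ Z → (∀ Y', Y ≤ Y' → Y' ≤ Z → Y' = Y ∨ Y' = Z) →
          V ⊓ Subgroup.centralizer (Y : Set Γ) ≠ ⊥ →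
          ∃ σ, (σ = t ∨ σ = f * t ∨ σ = f * f * t) ∧ ι σ ∈ Subgroup.normalizer (Y : Set Γ) ∧
            ∀ w ∈ V ⊓ Subgroup.centralizer (Y : Set Γ), ι σ * w * (ι σ)⁻¹ = w⁻¹ :=
        fun Y hY hYne hYmax hYW => exists_inverting d h hc.V_le hc.V_comm hc.V_normal hZc hAZ hVQ
          hCV hY hYmax hYW fun hn => hnk Y hY hYne (kerSub_of_normalizes d h hc.V_le hc.V_comm
            hc.V_normal hQK hZc hAZ hVQ hCV hY hYne hYmax hYW hn)
      obtain ⟨σ, hσ, hσX, hσW⟩ := hstab X hXZ hXne hXmax hXW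
      have hσR : ∀ x ∈ R, ι σ * x * (ι σ)⁻¹ = x⁻¹ := by
        intro x hx
        have hxf : Commute F x := (Subgroup.mem_centralizer_singleton_iff.1 (hI hx)).symm
        have ht := centralizer_inverted d h (hRK hx) hxf
        obtain ⟨-, -, i, hi⟩ := d.invol hσ
        have e : ι σ = (F ^ i)⁻¹ * ι t := by rw [hi, map_mul, map_pow, inv_mul_cancel_left]
        rw [e]
        calc (F ^ i)⁻¹ * ι t * x * ((F ^ i)⁻¹ * ι t)⁻¹ = (F ^ i)⁻¹ * (ι t * x * (ι t)⁻¹) * F ^ i := by
              group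
          _ = x⁻¹ := by
              rw [ht, mul_assoc, ← (hxf.inv_right.pow_left i).eq, inv_mul_cancel_left]
      have hRX : R ≤ Subgroup.normalizer (X : Set Γ) := by
        intro x hx
        obtain ⟨hle', hne'⟩ := hconjle X x hx hXZ hXne
        obtain ⟨σ', hσ', hσ'X, -⟩ := hstab _ hle' hne' (isMaximal_conj (hRQ hx) hXmax)
          (hconjW X x hx hXW)
        set Xr := MulAut.conj x • X with hXr
        have hconjσ : x * ι σ * x⁻¹ ∈ Subgroup.normalizer (Xr : Set Γ) := by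
          refine mem_normalizer_of_conj_smul_eq ?_
          rw [hXr, ← CoprimeSZ.conj_smul_mul, inv_mul_cancel_right, CoprimeSZ.conj_smul_mul,
            CoprimeSZ.conj_smul_eq_self hσX]
        have hxf : Commute F x := (Subgroup.mem_centralizer_singleton_iff.1 (hI hx)).symm
        obtain ⟨i, hi⟩ : ∃ i : ℕ, σ' * σ = f ^ i := by
          obtain ⟨-, -, a, ha⟩ := d.invol hσ
          obtain ⟨-, hs', b, hb⟩ := d.invol hσ'
          have hsf : ∀ k : ℕ, σ' * f ^ k = (f * f) ^ k * σ' := fun k =>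
            (show SemiconjBy σ' f (f * f) from hs').pow_right k
          have hσe : σ = (f ^ a)⁻¹ * (f ^ b * σ') := by
            rw [← hb]; exact eq_inv_mul_of_mul_eq ha.symm
          refine ⟨2 * (2 * a + b), ?_⟩
          have hinv : (f ^ a)⁻¹ = f ^ (2 * a) := by
            refine inv_eq_of_mul_eq_one_right ?_
            rw [← pow_add, show a + 2 * a = 3 * a by omega, pow_mul, d.f3, one_pow]
          rw [hσe, hinv, ← mul_assoc (f ^ (2 * a)), ← pow_add, ← mul_assoc, hsf,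
            mul_assoc, (d.invol hσ').1, mul_one, ← pow_two, ← pow_mul]
        have hmem : F ^ i * (x * x)⁻¹ ∈ Subgroup.normalizer (Xr : Set Γ) := by
          have h1 := mul_mem hσ'X hconjσ
          have e : ι σ' * (x * ι σ * x⁻¹) = F ^ i * (x * x)⁻¹ := by
            rw [hF, ← map_pow, ← hi, map_mul]
            have hinv := hσR x hx
            have hσσ : (ι σ)⁻¹ = ι σ := inv_eq_of_mul_eq_one_right (by
              rw [← map_mul, (d.invol hσ).1, map_one])
            rw [hσσ] at hinv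
            have hs2 : ι σ * ι σ = 1 := by rw [← map_mul, (d.invol hσ).1, map_one]
            have hx' : x * ι σ = ι σ * x⁻¹ := by
              calc x * ι σ = (ι σ * ι σ) * x * ι σ := by rw [hs2, one_mul]
                _ = ι σ * (ι σ * x * ι σ) := by group
                _ = _ := by rw [hinv]
            rw [hx']
            group
          rwa [e] at h1
        have h6 : (F ^ i * (x * x)⁻¹) ^ 3 = (x ^ 6)⁻¹ := by
          rw [((hxf.mul_right hxf).inv_right.pow_left i).mul_pow, ← pow_mul, mul_comm i 3, pow_mul,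
            f_pow d, one_pow, one_mul, inv_pow, ← pow_two, ← pow_mul]
        have hx6 : x ^ 6 ∈ Subgroup.normalizer (Xr : Set Γ) := by
          have := pow_mem hmem 3
          rw [h6] at this
          exact inv_mem_iff.1 this
        have hxn : x ∈ Subgroup.normalizer (Xr : Set Γ) := by
          obtain ⟨k, hk⟩ := (mem_zpowers_pow_iff.2 ((coprime_six d h hRK).coprime_dvd_right
            (Subgroup.orderOf_dvd_natCard _ hx)) : x ∈ Subgroup.zpowers (x ^ 6))
          exact (show (x ^ 6) ^ k = x from hk) ▸ zpow_mem hx6 k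
        refine mem_normalizer_of_conj_smul_eq ?_
        have h7 := CoprimeSZ.conj_smul_eq_self hxn
        rw [hXr] at h7
        exact smul_left_cancel _ h7
      set W := V ⊓ Subgroup.centralizer (X : Set Γ) with hWdef
      have hRW : R ≤ Subgroup.normalizer (W : Set Γ) :=
        le_normalizer_inf (le_normalizer_of_normal V R) (CoprimeTools.le_normalizer_centralizer_of_le hRX)
      have hQW : Z ≤ Subgroup.normalizer (W : Set Γ) :=
        le_normalizer_inf hZV (CoprimeTools.le_normalizer_centralizer_of_le fun z hz =>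
          Subgroup.centralizer_le_normalizer _ fun x hx => hZc x (hXZ hx) z hz)
      have hRC : R ≤ Subgroup.centralizer (W : Set Γ) := by
        intro x hx
        have h2 : x * x ∈ Subgroup.centralizer (W : Set Γ) := by
          intro w hw
          -- `x σ x⁻¹ σ⁻¹ = x²` fixes `w`
          have hσσ : (ι σ)⁻¹ = ι σ := inv_eq_of_mul_eq_one_right (by
            rw [← map_mul, (d.invol hσ).1, map_one])
          have hσinv := hσR x hx
          have e : x * x = x * ι σ * x⁻¹ * (ι σ)⁻¹ := by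
            calc x * x = x * (x⁻¹)⁻¹ := by rw [inv_inv]
              _ = x * (ι σ * x * (ι σ)⁻¹)⁻¹ := by rw [hσinv]
              _ = _ := by group
          have hw' : x⁻¹ * (ι σ * w⁻¹ * (ι σ)⁻¹) * x = x⁻¹ * w * x := by
            rw [show ι σ * w⁻¹ * (ι σ)⁻¹ = (ι σ * w * (ι σ)⁻¹)⁻¹ by group, hσW w hw, inv_inv]
          have hwx : x⁻¹ * w⁻¹ * x ∈ W := by
            have := conj_mem (inv_mem (hRW hx)) (inv_mem hw)
            simpa using this
          have h3 : (ι σ)⁻¹ * w * ι σ = w⁻¹ := by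
            have h5 := hσW w hw
            rw [hσσ] at h5 ⊢
            exact h5
          have h4 : x * x * w * (x * x)⁻¹ = w := by
            rw [e]
            calc x * ι σ * x⁻¹ * (ι σ)⁻¹ * w * (x * ι σ * x⁻¹ * (ι σ)⁻¹)⁻¹
                = x * (ι σ * (x⁻¹ * ((ι σ)⁻¹ * w * ι σ) * x) * (ι σ)⁻¹) * x⁻¹ := by group
              _ = x * (ι σ * (x⁻¹ * w⁻¹ * x) * (ι σ)⁻¹) * x⁻¹ := by rw [h3]
              _ = x * (x⁻¹ * w⁻¹ * x)⁻¹ * x⁻¹ := by rw [hσW _ hwx]
              _ = w := by group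
          exact (mul_inv_eq_iff_eq_mul.1 h4).symm
        obtain ⟨k, hk⟩ := (mem_zpowers_pow_iff.2 (((coprime_six d h hRK).coprime_dvd_left
          (by norm_num : 2 ∣ 6)).coprime_dvd_right (Subgroup.orderOf_dvd_natCard _ hx)) :
            x ∈ Subgroup.zpowers (x ^ 2))
        rw [← pow_two] at h2
        exact (show (x ^ 2) ^ k = x from hk) ▸ zpow_mem h2 k
      have hle : Z ≤ Z ⊓ Subgroup.centralizer (W : Set Γ) := by
        conv_lhs => rw [← hQeq]
        rw [Subgroup.commutator_le]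
        intro g hg x hx
        rw [commutatorElement_def]
        refine ⟨?_, ?_⟩
        · have h1 := Z.mul_mem hg (conj_mem (hRQ hx) (Z.inv_mem hg))
          simpa [mul_assoc] using h1
        · have h1 := conj_mem (CoprimeTools.le_normalizer_centralizer_of_le hQW hg) (hRC hx)
          exact Subgroup.mul_mem _ h1 (Subgroup.inv_mem _ (hRC hx))
      exact hXW (eq_bot_iff.2 fun w hw => hCV.le ⟨hw.1, fun z hz => ((hle hz).2 w hw).symm⟩)
    · -- `[R, f] = R`
      by_cases hCf : Z ⊓ Subgroup.centralizer ({F} : Set Γ) = ⊥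
      · exact hnoQ hCf hII
      set Q₁ := ⁅Z, Subgroup.zpowers F⁆ with hQ₁
      have hQ₁Z : Q₁ ≤ Z := commutator_le_self_of_le_normalizer (hFA.trans hAZ)
      have hQ₁A : ι.range ≤ Subgroup.normalizer (Q₁ : Set Γ) :=
        CoprimeTools.le_normalizer_commutator_of_le hAZ (zpowers_normal d)
      have hQ₁f : Q₁ ⊓ Subgroup.centralizer ({F} : Set Γ) = ⊥ := by
        have : IsMulCommutative Z := ⟨⟨fun a b => Subtype.ext (hZc a a.2 b b.2)⟩⟩
        have h1 := inf_centralizer_inf_commutator_eq_bot (A := Subgroup.zpowers F) (V := Z)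
          (hFA.trans hAZ) (hcopF Z hQK)
        rw [eq_bot_iff, ← h1]
        rintro x ⟨hx1, hx2⟩
        exact ⟨⟨hQ₁Z hx1, fun y hy => Subgroup.mem_centralizer_singleton_iff.1
          (eq_zpowers_centralizer (Subgroup.mem_centralizer_singleton_iff.1 hx2).symm hy)⟩, hx1⟩
      have hspanQ : Q₁ ⊔ (Z ⊓ Subgroup.centralizer (Subgroup.zpowers F : Set Γ)) = Z :=
        commutator_sup_centralizer_eq (hFA.trans hAZ) (hcopF Z hQK) (Or.inr hQs)
      set V₀ := V ⊓ Subgroup.centralizer (Q₁ : Set Γ) with hV₀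
      by_cases hV₀b : V₀ = ⊥
      · refine hCf ((Subgroup.eq_bot_iff_forall _).2 fun g hg => ?_)
        exact hkillV Q₁ hQ₁Z (fun x hx y hy => hZc x (hQ₁Z hx) y (hQ₁Z hy)) hQ₁A hV₀b hQ₁f g
          (qr.Q_le hg.1) (Subgroup.mem_centralizer_singleton_iff.1 hg.2).symm
          (fun z hz => hZc z (hQ₁Z hz) g hg.1)
      have hZV₀ : Z ≤ Subgroup.normalizer (V₀ : Set Γ) :=
        le_normalizer_inf hZV (CoprimeTools.le_normalizer_centralizer_of_le fun z hz =>
          Subgroup.centralizer_le_normalizer _ fun x hx => hZc x (hQ₁Z hx) z hz)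
      obtain ⟨X, hXZ, hXne, hXmax, hXW₀⟩ := exists_maximal_fixed qr.q_prime hZc hZq hZV₀
        (hVQ.coprime_dvd_right (Subgroup.card_dvd_of_le inf_le_left)) hV₀b
        (eq_bot_iff.2 ((inf_le_inf_right _ inf_le_left).trans hCV.le))
      have hQ₁X : Q₁ ≤ X := by
        rcases hXmax (X ⊔ Q₁) le_sup_left (sup_le hXZ hQ₁Z) with e | e
        · exact sup_eq_left.1 e
        · exfalso
          refine hXW₀ (eq_bot_iff.2 fun w hw => ?_)
          refine hCV.le ⟨hw.1.1, fun z hz => ?_⟩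
          have hle : X ⊔ Q₁ ≤ Subgroup.centralizer ({w} : Set Γ) :=
            sup_le (fun x hx => Subgroup.mem_centralizer_singleton_iff.2 (hw.2 x hx))
              (fun x hx => Subgroup.mem_centralizer_singleton_iff.2 (hw.1.2 x hx))
          exact Subgroup.mem_centralizer_singleton_iff.1 (hle (e.symm ▸ hz))
      have hXW : V ⊓ Subgroup.centralizer (X : Set Γ) ≠ ⊥ := fun e => hXW₀
        (eq_bot_iff.2 ((inf_le_inf_right _ inf_le_left).trans e.le))
      have hfk : F ∈ kerSub Z X := by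
        have hm : ∀ z ∈ Z, z * F * z⁻¹ * F⁻¹ ∈ X := fun z hz => hQ₁X (by
          rw [hQ₁]
          exact Subgroup.commutator_mem_commutator hz (Subgroup.mem_zpowers F))
        refine ⟨mem_normalizer_of_conj_smul_eq (Subgroup.eq_of_le_of_card_ge ?_
          (CoprimeSZ.card_conj_smul _ _).ge), hm⟩
        intro y hy
        rw [CoprimeSZ.mem_conj_smul] at hy
        have h1 := X.mul_mem (X.inv_mem (hm _ (hXZ hy))) hy
        have e : (F⁻¹ * y * F * F * (F⁻¹ * y * F)⁻¹ * F⁻¹)⁻¹ * (F⁻¹ * y * F) = y := by group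
        rwa [e] at h1
      have hWf : V ⊓ Subgroup.centralizer (X : Set Γ) ⊓ Subgroup.centralizer ({F} : Set Γ) = ⊥ :=
        fixed_eq_bot d h hc.V_le hQK hAZ hCV hXZ hXne hXmax hfk
      set W := V ⊓ Subgroup.centralizer (X : Set Γ) with hWdef
      have hall : ∀ x ∈ R, F ∈ kerSub Z (MulAut.conj x • X) := by
        intro x hx
        obtain ⟨hle', hne'⟩ := hconjle X x hx hXZ hXne
        by_contra hnk
        have hfn : F ∉ Subgroup.normalizer ((MulAut.conj x • X : Subgroup Γ) : Set Γ) := fun hn =>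
          hnk (kerSub_of_normalizes d h hc.V_le hc.V_comm hc.V_normal hQK hZc hAZ hVQ hCV hle' hne'
            (isMaximal_conj (hRQ hx) hXmax) (hconjW X x hx hXW) hn)
        obtain ⟨σ, hσ, hσX, hσW⟩ := exists_inverting d h hc.V_le hc.V_comm hc.V_normal hZc hAZ hVQ
          hCV hle' (isMaximal_conj (hRQ hx) hXmax) (hconjW X x hx hXW) hfn
        set S := x⁻¹ * ι σ * x with hS
        have hSX : S ∈ Subgroup.normalizer (X : Set Γ) := by
          refine mem_normalizer_of_conj_smul_eq ?_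
          rw [hS, CoprimeSZ.conj_smul_mul, CoprimeSZ.conj_smul_mul, CoprimeSZ.conj_smul_eq_self hσX,
            ← CoprimeSZ.conj_smul_mul, inv_mul_cancel, map_one, one_smul]
        have hSW : ∀ w ∈ W, S * w * S⁻¹ = w⁻¹ := by
          intro w hw
          have hxw : x * w * x⁻¹ ∈
              V ⊓ Subgroup.centralizer ((MulAut.conj x • X : Subgroup Γ) : Set Γ) := by
            refine ⟨hc.V_normal.conj_mem w hw.1 x, fun y hy => ?_⟩
            rw [SetLike.mem_coe, CoprimeSZ.mem_conj_smul] at hy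
            have h3 := hw.2 _ hy
            calc y * (x * w * x⁻¹) = x * ((x⁻¹ * y * x) * w) * x⁻¹ := by group
              _ = x * (w * (x⁻¹ * y * x)) * x⁻¹ := by rw [h3]
              _ = x * w * x⁻¹ * y := by group
          calc S * w * S⁻¹ = x⁻¹ * (ι σ * (x * w * x⁻¹) * (ι σ)⁻¹) * x := by rw [hS]; group
            _ = x⁻¹ * (x * w * x⁻¹)⁻¹ * x := by rw [hσW _ hxw]
            _ = w⁻¹ := by group
        have hσF : ι σ * F * (ι σ)⁻¹ = F⁻¹ := by
          obtain ⟨-, hs, -⟩ := d.invol hσ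
          have h1 : ι σ * F = F * F * ι σ := by rw [hF, ← map_mul, ← map_mul, ← map_mul, hs]
          rw [h1, mul_inv_cancel_right]
          refine eq_inv_of_mul_eq_one_left ?_
          rw [← pow_two, ← pow_succ, f_pow d]
        set ρ := S * F * S⁻¹ * F with hρdef
        have hρR : ρ ∈ R := by
          have hRA : ι σ ∈ Subgroup.normalizer (R : Set Γ) := qr.R_inv ⟨σ, rfl⟩
          have hRF' : F ∈ Subgroup.normalizer (R : Set Γ) := qr.R_inv ⟨f, rfl⟩
          have h1 : x * F * x⁻¹ * F⁻¹ ∈ R := by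
            have := R.mul_mem hx (conj_mem hRF' (R.inv_mem hx))
            simpa [mul_assoc] using this
          have e : ρ = x⁻¹ * (ι σ * (x * F * x⁻¹ * F⁻¹) * (ι σ)⁻¹) *
              ((ι σ * F * (ι σ)⁻¹) * x * F) := by rw [hρdef, hS]; group
          rw [e, hσF]
          refine R.mul_mem (R.mul_mem (R.inv_mem hx) (conj_mem hRA h1)) ?_
          have := conj_mem (inv_mem hRF') hx
          simpa using this
        have hFW : F ∈ Subgroup.normalizer (W : Set Γ) :=
          le_normalizer_inf (le_normalizer_of_normal V (Subgroup.zpowers F))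
            (CoprimeTools.le_normalizer_centralizer_of_le (Subgroup.zpowers_le.2 hfk.1))
            (Subgroup.mem_zpowers F)
        have hSW' : S ∈ Subgroup.normalizer (W : Set Γ) :=
          le_normalizer_inf (le_normalizer_of_normal V (Subgroup.zpowers S))
            (CoprimeTools.le_normalizer_centralizer_of_le (Subgroup.zpowers_le.2 hSX))
            (Subgroup.mem_zpowers S)
        have hact : ∀ w ∈ W, ρ * w * ρ⁻¹ = F * F * w * (F * F)⁻¹ := by
          intro w hw
          have hFw : F * w * F⁻¹ ∈ W := conj_mem hFW hw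
          have hu : S⁻¹ * (F * w * F⁻¹) * S = (F * w * F⁻¹)⁻¹ := by
            have hu' : S⁻¹ * (F * w * F⁻¹) * S ∈ W := by
              have := conj_mem (inv_mem hSW') hFw
              simpa using this
            have h3 := hSW _ hu'
            calc S⁻¹ * (F * w * F⁻¹) * S = ((S⁻¹ * (F * w * F⁻¹) * S)⁻¹)⁻¹ := by rw [inv_inv]
              _ = (S * (S⁻¹ * (F * w * F⁻¹) * S) * S⁻¹)⁻¹ := by rw [h3]
              _ = _ := by group
          have hFFw : F * (F * w * F⁻¹) * F⁻¹ ∈ W := conj_mem hFW hFw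
          calc ρ * w * ρ⁻¹ = S * (F * (S⁻¹ * (F * w * F⁻¹) * S) * F⁻¹) * S⁻¹ := by
                rw [hρdef]; group
            _ = S * (F * (F * w * F⁻¹) * F⁻¹)⁻¹ * S⁻¹ := by rw [hu]; simp [mul_assoc]
            _ = _ := by rw [hSW _ (inv_mem hFFw), inv_inv]; group
        have hFF : F * F ∈ Subgroup.normalizer (W : Set Γ) := mul_mem hFW hFW
        have hpow : ∀ (n : ℕ), ∀ w ∈ W, ρ ^ n * w * (ρ ^ n)⁻¹ = (F * F) ^ n * w * ((F * F) ^ n)⁻¹ := by
          intro n
          induction n with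
          | zero => intro w _; simp
          | succ n ihn =>
            intro w hw
            calc ρ ^ (n + 1) * w * (ρ ^ (n + 1))⁻¹ = ρ ^ n * (ρ * w * ρ⁻¹) * (ρ ^ n)⁻¹ := by
                  rw [pow_succ]; group
              _ = ρ ^ n * (F * F * w * (F * F)⁻¹) * (ρ ^ n)⁻¹ := by rw [hact w hw]
              _ = _ := by rw [ihn _ (conj_mem hFF hw), pow_succ]; group
        refine hXW (eq_bot_iff.2 fun w hw => ?_)
        have h1 := hpow (Nat.card R) w hw
        rw [orderOf_dvd_iff_pow_eq_one.1 (Subgroup.orderOf_dvd_natCard _ hρR), one_mul, inv_one,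
          mul_one] at h1
        have hc1 : Commute ((F * F) ^ Nat.card R) w := mul_inv_eq_iff_eq_mul.1 h1.symm
        rw [← pow_two, ← pow_mul] at hc1
        have hcop3 : (2 * Nat.card R).Coprime (orderOf F) := by
          refine Nat.Coprime.coprime_dvd_right (orderOf_dvd_of_pow_eq_one (f_pow d)) ?_
          exact Nat.Coprime.mul_left (by norm_num)
            (((coprime_six d h hRK).coprime_dvd_left (by norm_num : 3 ∣ 6)).symm)
        obtain ⟨k, hk⟩ := (mem_zpowers_pow_iff.2 hcop3 : F ∈ Subgroup.zpowers (F ^ (2 * Nat.card R)))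
        have hFw : Commute F w := by
          have := hc1.zpow_left k
          rwa [show (F ^ (2 * Nat.card R)) ^ k = F from hk] at this
        exact hWf.le ⟨hw, Subgroup.mem_centralizer_singleton_iff.2 hFw.eq.symm⟩
      let X' : Subgroup Γ := ⨅ x : R, MulAut.conj (x : Γ) • X
      have hX'R : R ≤ Subgroup.normalizer (X' : Set Γ) := by
        refine le_normalizer_of_conj_mem fun g hg y hy => ?_
        rw [Subgroup.mem_iInf] at hy ⊢
        intro x
        have := CoprimeSZ.conj_mul_mem_conj_smul (g := g) (hy ⟨g⁻¹ * x, mul_mem (inv_mem hg) x.2⟩)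
        rwa [← CoprimeSZ.conj_smul_mul, mul_inv_cancel_left] at this
      have hfX' : F ∈ kerSub Z X' := by
        refine ⟨le_normalizer_of_conj_mem (A := Subgroup.zpowers F) (fun g hg y hy => ?_)
          (Subgroup.mem_zpowers F), fun g hg => ?_⟩
        · rw [Subgroup.mem_iInf] at hy ⊢
          exact fun x => conj_mem ((Subgroup.zpowers_le.2 (hall x x.2).1) hg) (hy x)
        · rw [Subgroup.mem_iInf]
          exact fun x => (hall x x.2).2 g hg
      refine hXne (le_antisymm hXZ ((hfinal X' hRF hX'R hfX').trans ?_))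
      refine (iInf_le _ (⟨1, one_mem R⟩ : R)).trans ?_
      rw [map_one, one_smul]

/-- The case of a nilpotent complement. -/
theorem false_of_nilpotent (d : Dihedral3 f t) (h : Acts K ι)
    (hc : Config (fun T _ => IsMulCommutative T) K ι V H r) (hH : Group.IsNilpotent H) : False := by
  classical
  have := h.solv
  have := h.normal
  have := hc.V_normal
  have := Fact.mk hc.prime
  have hHs : Group.IsSolvable H := isSolvable_of_le hc.H_le
  -- characteristic Sylow subgroups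
  have hSyl : ∀ (p : ℕ) [Fact p.Prime] (P : Sylow p H),
      H ≤ Subgroup.normalizer (((P : Subgroup H).map H.subtype : Subgroup Γ) : Set Γ) ∧
      ι.range ≤ Subgroup.normalizer (((P : Subgroup H).map H.subtype : Subgroup Γ) : Set Γ) := by
    intro p _ P
    have hPn : (P : Subgroup H).Normal :=
      Sylow.normal_of_normalizerCondition Group.normalizerCondition_of_isNilpotent P
    have hch : (P : Subgroup H).Characteristic := P.characteristic_of_normal hPn
    refine ⟨fun x hx => ?_, fun a ha => ?_⟩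
    · have h1 := Subgroup.le_normalizer_map (H := (P : Subgroup H)) H.subtype
      refine h1 ⟨⟨x, hx⟩, ?_, rfl⟩
      rw [Subgroup.normalizer_eq_top]; trivial
    · refine mem_normalizer_of_conj_smul_eq ?_
      let φ : MulAut H := FrobeniusNilpotent.restrictAut (MulAut.conj a) H fun x hx => conj_mem (hc.H_inv ha) hx
      have h1 := Subgroup.characteristic_iff_map_eq.1 hch φ
      rw [CoprimeSZ.conj_smul_eq_map]
      conv_rhs => rw [← h1]
      rw [Subgroup.map_map, Subgroup.map_map]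
      congr 1
  -- some Sylow subgroup is not commutative, hence is everything
  obtain ⟨q, hq, P, hPnc⟩ : ∃ (q : ℕ) (_ : Fact q.Prime) (P : Sylow q H),
      ¬ IsMulCommutative (P : Subgroup H) := by
    by_contra hno
    push Not at hno
    apply hc.not_mem
    refine ⟨⟨fun a b => ?_⟩⟩
    have hcen : Subgroup.center H = ⊤ := by
      refine (Subgroup.card_eq_iff_eq_top _).1 (Nat.dvd_antisymm (Subgroup.card_subgroup_dvd_card _) ?_)
      refine (Nat.dvd_iff_prime_pow_dvd_dvd _ _).mpr fun p k hp hd => ?_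
      have := Fact.mk hp
      obtain ⟨T⟩ := (inferInstance : Nonempty (Sylow p H))
      refine (T.pow_dvd_card_of_pow_dvd_card hd).trans (Subgroup.card_dvd_of_le fun x hx => ?_)
      have hgen : ∀ y : H, y * x = x * y := by
        intro y
        have hdvd : Nat.card H ∣ Nat.card (Subgroup.centralizer ({x} : Set H)) := by
          refine (Nat.dvd_iff_prime_pow_dvd_dvd _ _).mpr fun p' k' hp' hd' => ?_
          have := Fact.mk hp'
          obtain ⟨T'⟩ := (inferInstance : Nonempty (Sylow p' H))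
          refine (T'.pow_dvd_card_of_pow_dvd_card hd').trans (Subgroup.card_dvd_of_le fun z hz => ?_)
          rw [Subgroup.mem_centralizer_singleton_iff]
          by_cases hpp : p' = p
          · subst hpp
            have hTn : (T : Subgroup H).Normal :=
              Sylow.normal_of_normalizerCondition Group.normalizerCondition_of_isNilpotent T
            have : Unique (Sylow p' H) := Sylow.unique_of_normal T hTn
            rw [Subsingleton.elim T' T] at hz
            exact congrArg Subtype.val ((hno p' inferInstance T).1.1 ⟨z, hz⟩ ⟨x, hx⟩)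
          · refine FrobeniusNilpotent.commute_of_coprime z x ?_
            exact Nat.Coprime.of_dvd (Subgroup.orderOf_dvd_natCard _ hz) (Subgroup.orderOf_dvd_natCard _ hx)
              (IsPGroup.coprime_card_of_ne p' p hpp _ _ T'.isPGroup' T.isPGroup')
        have htop : Subgroup.centralizer ({x} : Set H) = ⊤ :=
          (Subgroup.card_eq_iff_eq_top _).1 (Nat.dvd_antisymm (Subgroup.card_subgroup_dvd_card _) hdvd)
        exact Subgroup.mem_centralizer_singleton_iff.1 (htop.symm ▸ Subgroup.mem_top y)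
      exact Subgroup.mem_center_iff.2 hgen
    exact (Subgroup.mem_center_iff.1 (hcen.symm ▸ Subgroup.mem_top b) a)
  have hP : IsPGroup q ((P : Subgroup H).map H.subtype : Subgroup Γ) := P.isPGroup'.map _
  set P' := (P : Subgroup H).map H.subtype with hP'def
  have hP'H : P' ≤ H := Subgroup.map_subtype_le _
  have hqr : q ≠ r := by
    intro e
    subst e
    have hb := hc.core P' hP'H hP (hSyl q P).1 (hSyl q P).2
    refine hPnc ⟨⟨fun a b => ?_⟩⟩
    have ha : ((a : H) : Γ) ∈ P' := ⟨a, a.2, rfl⟩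
    have hb' : ((b : H) : Γ) ∈ P' := ⟨b, b.2, rfl⟩
    rw [hb, Subgroup.mem_bot] at ha hb'
    exact Subtype.ext (Subtype.ext (by simp [ha, hb']))
  have hrH : ¬ r ∣ Nat.card H := by
    intro hd
    obtain ⟨T⟩ := (inferInstance : Nonempty (Sylow r H))
    have hb := hc.core _ (Subgroup.map_subtype_le _) (T.isPGroup'.map H.subtype) (hSyl r T).1 (hSyl r T).2
    exact T.ne_bot_of_dvd_card hd ((Subgroup.map_eq_bot_iff_of_injective _ H.subtype_injective).1 hb)
  have hPH : P' = H := by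
    by_contra hne
    obtain ⟨N, hN, hNr, hNc⟩ := hc.sub P' hP'H hne (hSyl q P).2
    refine hPnc ⟨⟨fun a b => ?_⟩⟩
    set a' : P' := ⟨((a : H) : Γ), a, a.2, rfl⟩
    set b' : P' := ⟨((b : H) : Γ), b, b.2, rfl⟩
    have h1 : (⁅a', b'⁆ : P') ∈ N := by
      rw [← QuotientGroup.eq_one_iff]
      exact (map_commutatorElement (QuotientGroup.mk' N) _ _).trans
        (commutatorElement_eq_one_iff_mul_comm.2 (hNc.1.1 _ _))
    obtain ⟨k, hk⟩ := hNr ⟨_, h1⟩
    obtain ⟨j, hj⟩ := hP ⁅a', b'⁆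
    have h2 : (⁅a', b'⁆ : P') = 1 := orderOf_eq_one_iff.1 (Nat.eq_one_of_dvd_coprimes
      (((Nat.coprime_primes hq.out hc.prime).2 hqr).pow j k) (orderOf_dvd_of_pow_eq_one hj)
      (orderOf_dvd_of_pow_eq_one (congrArg Subtype.val hk)))
    have h3 := congrArg Subtype.val (commutatorElement_eq_one_iff_mul_comm.1 h2)
    exact Subtype.ext (Subtype.ext h3)
  have hHq : IsPGroup q H := hPH ▸ hP
  have hHc : ¬ ∀ x ∈ H, ∀ y ∈ H, x * y = y * x :=
    fun hh => hc.not_mem ⟨⟨fun a b => Subtype.ext (hh a a.2 b b.2)⟩⟩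
  set F := ι f with hF
  have hFA : Subgroup.zpowers F ≤ ι.range := Subgroup.zpowers_le.2 ⟨f, rfl⟩
  have hFH : F ∈ Subgroup.normalizer (H : Set Γ) := hc.H_inv ⟨f, rfl⟩
  have hHne : H ≠ ⊥ := fun e => hHc fun x hx y hy => by
    rw [e, Subgroup.mem_bot] at hx hy; rw [hx, hy]
  obtain ⟨hq2, hq3⟩ : q ≠ 2 ∧ q ≠ 3 := by
    have hH6 := coprime_six d h hc.H_le
    obtain ⟨k, hk⟩ := IsPGroup.iff_card.1 hHq
    have hk0 : k ≠ 0 := fun e => hHne (Subgroup.card_eq_one.1 (by rw [hk, e, pow_zero]))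
    rw [hk, Nat.coprime_pow_right_iff (Nat.pos_of_ne_zero hk0)] at hH6
    constructor <;> rintro rfl <;> norm_num at hH6
  have hVH : (Nat.card H).Coprime (Nat.card V) := coprime_pgroups hq.out hc.prime hqr hHq hc.V_pgroup
  -- a central elementary subgroup inside the derived subgroup
  have hD : ⁅H, H⁆ ≠ ⊥ := fun e => hHc fun x hx y hy =>
    commutatorElement_eq_one_iff_mul_comm.1 (Subgroup.mem_bot.1 (e ▸ Subgroup.commutator_mem_commutator hx hy))
  have hDH : ⁅H, H⁆ ≤ H := Subgroup.commutator_le_self H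
  obtain ⟨z, hz, hz1, hzfix⟩ := FrobeniusThompson.exists_fixed hHq (hHq.to_le hDH)
    (Subgroup.normalizer_commutator_ge_right H H) hD
  let Z : Subgroup Γ :=
    { carrier := {x | x ∈ ⁅H, H⁆ ∧ x ∈ Subgroup.centralizer (H : Set Γ) ∧ x ^ q = 1}
      one_mem' := ⟨one_mem _, one_mem _, one_pow _⟩
      mul_mem' := fun {x y} hx hy => ⟨mul_mem hx.1 hy.1, mul_mem hx.2.1 hy.2.1, by
        rw [(show Commute x y from hy.2.1 x (hDH hx.1)).mul_pow, hx.2.2, hy.2.2, one_mul]⟩
      inv_mem' := fun {x} hx => ⟨inv_mem hx.1, inv_mem hx.2.1, by rw [inv_pow, hx.2.2, inv_one]⟩ }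
  have hZH : Z ≤ H := fun x hx => hDH hx.1
  have hHZ : ∀ g ∈ H, ∀ x ∈ Z, g * x = x * g := fun g hg x hx => hx.2.1 g hg
  have hZc : ∀ x ∈ Z, ∀ y ∈ Z, x * y = y * x := fun x hx y hy => hHZ x (hZH hx) y hy
  have hZq : ∀ x ∈ Z, x ^ q = 1 := fun x hx => hx.2.2
  have hZn : ∀ X : Subgroup Γ, X ≤ Subgroup.normalizer (H : Set Γ) →
      X ≤ Subgroup.normalizer (Z : Set Γ) := fun X hX =>
    le_normalizer_of_conj_mem fun g hg x hx =>
      ⟨conj_mem (CoprimeTools.le_normalizer_commutator_of_le hX hX hg) hx.1,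
        conj_mem (CoprimeTools.le_normalizer_centralizer_of_le hX hg) hx.2.1,
        by rw [conj_pow, hx.2.2, mul_one, mul_inv_cancel]⟩
  have hAZ := hZn _ hc.H_inv
  have hZne : Z ≠ ⊥ := by
    intro e
    obtain ⟨m, hm⟩ := hHq ⟨z, hDH hz⟩
    obtain ⟨k, _, hk⟩ := (Nat.dvd_prime_pow hq.out).1
      (orderOf_dvd_of_pow_eq_one (congrArg Subtype.val hm : z ^ q ^ m = 1))
    rcases k with _ | k
    · exact hz1 (orderOf_eq_one_iff.1 (by simpa using hk))
    have hzW : z ^ q ^ k ∈ Z := by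
      refine ⟨pow_mem hz _, pow_mem (fun y hy => ?_) _, ?_⟩
      · exact mul_inv_eq_iff_eq_mul.1 (hzfix y hy)
      · rw [← pow_mul, ← pow_succ, ← hk, pow_orderOf_eq_one]
    rw [e, Subgroup.mem_bot] at hzW
    have h3 := orderOf_dvd_of_pow_eq_one hzW
    rw [hk] at h3
    exact absurd ((Nat.pow_dvd_pow_iff_le_right hq.out.one_lt).1 h3) (by omega)
  have hCZ : ∀ D ≤ Z, D ≠ ⊥ → ι.range ≤ Subgroup.normalizer (D : Set Γ) →
      V ⊓ Subgroup.centralizer (D : Set Γ) = ⊥ := by
    intro D hD hDne hDA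
    refine (hc.V_min _ inf_le_left
      (le_normalizer_inf (le_normalizer_of_normal V H)
        (CoprimeTools.le_normalizer_centralizer_of_le fun g hg =>
          Subgroup.centralizer_le_normalizer _ fun x hx => (hHZ g hg x (hD hx)).symm))
      (le_normalizer_inf (le_normalizer_of_normal V _)
        (CoprimeTools.le_normalizer_centralizer_of_le hDA))).resolve_right fun e => hDne ?_
    rw [eq_bot_iff, ← hc.faithful]
    exact le_inf (hD.trans hZH) fun x hx v hv => (((le_of_eq e.symm).trans inf_le_right) hv x hx).symm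
  have hCV := hCZ Z le_rfl hZne hAZ
  by_cases hDf : Z ⊓ Subgroup.centralizer ({F} : Set Γ) = ⊥
  · -- `f` is fixed-point-free on `H`
    have hHf : ∀ g ∈ H, F * g = g * F → g = 1 := by
      intro g hg hgF
      have hVU : V ≤ V ⊓ Subgroup.centralizer ({g} : Set Γ) := by
        refine FrobeniusOrbit.le_of_translates_fpf Nat.prime_three (f_pow d) hc.V_comm hZc
          (le_normalizer_of_normal V Z) (le_normalizer_of_normal V ι.range ⟨f, rfl⟩) (hAZ ⟨f, rfl⟩)
          (hVH.coprime_dvd_left (Subgroup.card_dvd_of_le hZH)) hCV hDf fun x hx v hv hbv => ?_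
        refine ⟨hc.V_normal.conj_mem v hv x, ?_⟩
        have h1 : x ∈ Subgroup.centralizer ({g} : Set Γ) :=
          Subgroup.mem_centralizer_singleton_iff.2 (hHZ g hg x hx).symm
        have h2 : v ∈ Subgroup.centralizer ({g} : Set Γ) := Subgroup.mem_centralizer_singleton_iff.2
          (commute_fixed d h (hc.V_le hv) (hc.H_le hg) hbv hgF)
        exact Subgroup.mul_mem _ (Subgroup.mul_mem _ h1 h2) (Subgroup.inv_mem _ h1)
      have : g ∈ H ⊓ Subgroup.centralizer (V : Set Γ) :=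
        ⟨hg, fun v hv => Subgroup.mem_centralizer_singleton_iff.1 (hVU hv).2⟩
      rwa [hc.faithful, Subgroup.mem_bot] at this
    obtain ⟨X, hXZ, hXne, hXmax, hXW⟩ := exists_maximal_fixed hq.out hZc hZq
      (le_normalizer_of_normal V Z) (hVH.coprime_dvd_left (Subgroup.card_dvd_of_le hZH)) hc.V_ne hCV
    have hZK : Z ≤ K := hZH.trans hc.H_le
    have hcopZ : (Nat.card Z).Coprime (Nat.card V) := hVH.coprime_dvd_left (Subgroup.card_dvd_of_le hZH)
    have hnk : F ∉ kerSub Z X := by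
      intro hmem
      have hle : Subgroup.zpowers F ≤ ι.range := hFA
      have h1 := commutator_sup_centralizer_eq (A := Subgroup.zpowers F) (K := Z) (hle.trans hAZ)
        ((coprime_of_le_right hZK h.coprime_range).coprime_dvd_left (Subgroup.card_dvd_of_le hle))
        (Or.inr (isSolvable_of_le hZK))
      have h2 : Z ⊓ Subgroup.centralizer (Subgroup.zpowers F : Set Γ) = ⊥ :=
        eq_bot_iff.2 (hDf ▸ inf_le_inf_left _ (Subgroup.centralizer_le
          (Set.singleton_subset_iff.2 (Subgroup.mem_zpowers F))))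
      rw [h2, sup_bot_eq] at h1
      refine hXne (le_antisymm hXZ ?_)
      rw [← h1, Subgroup.commutator_le]
      exact fun g hg x hx => ((Subgroup.zpowers_le.2 hmem) hx).2 g hg
    obtain ⟨σ, hσ, hσX, hσW⟩ := exists_inverting d h hc.V_le hc.V_comm hc.V_normal hZc hAZ hcopZ hCV
      hXZ hXmax hXW fun hn => hnk (kerSub_of_normalizes d h hc.V_le hc.V_comm hc.V_normal hZK hZc hAZ
        hcopZ hCV hXZ hXne hXmax hXW hn)
    set W := V ⊓ Subgroup.centralizer (X : Set Γ) with hWdef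
    have hHW : H ≤ Subgroup.normalizer (W : Set Γ) :=
      le_normalizer_inf (le_normalizer_of_normal V H) (CoprimeTools.le_normalizer_centralizer_of_le
        fun g hg => Subgroup.centralizer_le_normalizer _ fun x hx => (hHZ g hg x (hXZ hx)).symm)
    -- conjugation into `Aut W`
    let c : ↥(Subgroup.normalizer (W : Set Γ)) →* MulAut W :=
      { toFun := fun g =>
          { toFun := fun w => ⟨(g : Γ) * w * (g : Γ)⁻¹, conj_mem g.2 w.2⟩
            invFun := fun w => ⟨(g : Γ)⁻¹ * w * g, by simpa using conj_mem (inv_mem g.2) w.2⟩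
            left_inv := fun w => Subtype.ext (by simp [mul_assoc])
            right_inv := fun w => Subtype.ext (by simp [mul_assoc])
            map_mul' := fun a b => Subtype.ext (by simp [mul_assoc]) }
        map_one' := MulEquiv.ext fun w => Subtype.ext (by simp)
        map_mul' := fun a b => MulEquiv.ext fun w => Subtype.ext (by simp [mul_assoc]) }
    let ψ : H →* MulAut W := c.comp (Subgroup.inclusion hHW)
    have hψ : ∀ (g : H) (w : W), ((ψ g w : W) : Γ) = (g : Γ) * w * (g : Γ)⁻¹ := fun _ _ => rfl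
    have hσH : ι σ ∈ Subgroup.normalizer (H : Set Γ) := hc.H_inv ⟨σ, rfl⟩
    -- `σ` acts trivially on the image of `H`
    have hψσ : ∀ g : H, ψ ⟨ι σ * g * (ι σ)⁻¹, conj_mem hσH g.2⟩ = ψ g := by
      intro g
      refine MulEquiv.ext fun w => Subtype.ext ?_
      rw [hψ, hψ]
      have h3 : (ι σ)⁻¹ * (w : Γ) * ι σ = (w : Γ)⁻¹ := by
        have h5 := hσW (w : Γ)⁻¹ (inv_mem w.2)
        rw [inv_inv] at h5
        calc (ι σ)⁻¹ * (w : Γ) * ι σ = (ι σ)⁻¹ * (ι σ * (w : Γ)⁻¹ * (ι σ)⁻¹) * ι σ := by rw [h5]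
          _ = _ := by group
      calc ι σ * g * (ι σ)⁻¹ * (w : Γ) * (ι σ * g * (ι σ)⁻¹)⁻¹
          = ι σ * ((g : Γ) * ((ι σ)⁻¹ * w * ι σ) * (g : Γ)⁻¹) * (ι σ)⁻¹ := by group
        _ = ι σ * ((g : Γ) * (w : Γ)⁻¹ * (g : Γ)⁻¹) * (ι σ)⁻¹ := by rw [h3]
        _ = ((g : Γ) * (w : Γ)⁻¹ * (g : Γ)⁻¹)⁻¹ := hσW _ (conj_mem (hHW g.2) (inv_mem w.2))
        _ = _ := by group
    have hσσ : ι σ * ι σ = 1 := by rw [← map_mul, (d.invol hσ).1, map_one]
    -- for `x` fixed by `σ`: `ψ x = ψ (x^f)⁻²`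
    have hFconj : ∀ {x : Γ}, x ∈ H → F * x * F⁻¹ ∈ H := fun hx => conj_mem hFH hx
    have hrel : ∀ {x : Γ}, x ∈ H → x * (F * x * F⁻¹) * (F * F * x * (F * F)⁻¹) = 1 := by
      intro x hx
      let φ : H → H := fun y => ⟨(y : Γ)⁻¹ * (F * y * F⁻¹), mul_mem (inv_mem y.2) (hFconj y.2)⟩
      have hinj : Function.Injective φ := by
        intro y y' e
        have e' : (y : Γ)⁻¹ * (F * y * F⁻¹) = (y' : Γ)⁻¹ * (F * y' * F⁻¹) := congrArg Subtype.val e
        have h1 : F * ((y' : Γ) * (y : Γ)⁻¹) = ((y' : Γ) * (y : Γ)⁻¹) * F := by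
          calc F * ((y' : Γ) * (y : Γ)⁻¹) = y' * ((y' : Γ)⁻¹ * (F * y' * F⁻¹)) * (F * y * F⁻¹)⁻¹ * F := by
                group
            _ = y' * ((y : Γ)⁻¹ * (F * y * F⁻¹)) * (F * y * F⁻¹)⁻¹ * F := by rw [e']
            _ = _ := by group
        have h2 := hHf _ (H.mul_mem y'.2 (H.inv_mem y.2)) h1
        rw [mul_inv_eq_one] at h2
        exact Subtype.ext h2.symm
      obtain ⟨⟨y, hy⟩, hyx⟩ := Finite.injective_iff_surjective.1 hinj ⟨x, hx⟩
      have hx' : y⁻¹ * (F * y * F⁻¹) = x := congrArg Subtype.val hyx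
      rw [← hx']
      have hF3 : F * F * F = 1 := by rw [← pow_two, ← pow_succ, f_pow d]
      calc y⁻¹ * (F * y * F⁻¹) * (F * (y⁻¹ * (F * y * F⁻¹)) * F⁻¹) *
            (F * F * (y⁻¹ * (F * y * F⁻¹)) * (F * F)⁻¹)
          = y⁻¹ * ((F * F * F) * y * (F * F * F)⁻¹) := by group
        _ = 1 := by rw [hF3, one_mul, inv_one, mul_one, inv_mul_cancel]
    have hσF : ι σ * F = F * F * ι σ := by
      rw [hF, ← map_mul, ← map_mul, ← map_mul, (d.invol hσ).2.1]
    have hsq : ∀ {x : Γ} (hx : x ∈ H), ι σ * x * (ι σ)⁻¹ = x →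
        ψ ⟨x, hx⟩ = (ψ ⟨F * x * F⁻¹, hFconj hx⟩ * ψ ⟨F * x * F⁻¹, hFconj hx⟩)⁻¹ := by
      intro x hx hxσ
      have h1 : (⟨x, hx⟩ : H) * ⟨F * x * F⁻¹, hFconj hx⟩ *
          ⟨F * F * x * (F * F)⁻¹, conj_mem (mul_mem hFH hFH) hx⟩ = 1 := Subtype.ext (hrel hx)
      have h2 : ι σ * (F * x * F⁻¹) * (ι σ)⁻¹ = F * F * x * (F * F)⁻¹ := by
        calc ι σ * (F * x * F⁻¹) * (ι σ)⁻¹ = (ι σ * F) * x * (ι σ * F)⁻¹ := by group
          _ = (F * F * ι σ) * x * (F * F * ι σ)⁻¹ := by rw [hσF]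
          _ = F * F * (ι σ * x * (ι σ)⁻¹) * (F * F)⁻¹ := by group
          _ = _ := by rw [hxσ]
      have h3 : ψ ⟨F * F * x * (F * F)⁻¹, conj_mem (mul_mem hFH hFH) hx⟩ = ψ ⟨F * x * F⁻¹, hFconj hx⟩ := by
        rw [← hψσ ⟨F * x * F⁻¹, hFconj hx⟩]
        exact congrArg ψ (Subtype.ext h2.symm)
      have h4 := congrArg ψ h1
      rw [map_mul, map_mul, map_one, h3, mul_assoc] at h4
      exact eq_inv_of_mul_eq_one_left h4
    -- the images of the fixed points of `σ` commute
    have hcomm : ∀ {x y : Γ} (hx : x ∈ H) (hy : y ∈ H), ι σ * x * (ι σ)⁻¹ = x →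
        ι σ * y * (ι σ)⁻¹ = y → ψ ⟨x, hx⟩ * ψ ⟨y, hy⟩ = ψ ⟨y, hy⟩ * ψ ⟨x, hx⟩ := by
      intro x y hx hy hxσ hyσ
      set a := ψ ⟨F * x * F⁻¹, hFconj hx⟩ with ha
      set b := ψ ⟨F * y * F⁻¹, hFconj hy⟩ with hb
      have key : ∀ {x y : Γ} (hx : x ∈ H) (hy : y ∈ H), ι σ * x * (ι σ)⁻¹ = x →
          ι σ * y * (ι σ)⁻¹ = y →
          (ψ ⟨F * x * F⁻¹, hFconj hx⟩ * ψ ⟨F * y * F⁻¹, hFconj hy⟩) *
            (ψ ⟨F * x * F⁻¹, hFconj hx⟩ * ψ ⟨F * y * F⁻¹, hFconj hy⟩) =
          (ψ ⟨F * y * F⁻¹, hFconj hy⟩ * ψ ⟨F * y * F⁻¹, hFconj hy⟩) *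
            (ψ ⟨F * x * F⁻¹, hFconj hx⟩ * ψ ⟨F * x * F⁻¹, hFconj hx⟩) := by
        intro x y hx hy hxσ hyσ
        have hxy : ι σ * (x * y) * (ι σ)⁻¹ = x * y := by rw [← conj_mul, hxσ, hyσ]
        have h1 := hsq (H.mul_mem hx hy) hxy
        have h2 : ψ ⟨F * (x * y) * F⁻¹, hFconj (H.mul_mem hx hy)⟩ =
            ψ ⟨F * x * F⁻¹, hFconj hx⟩ * ψ ⟨F * y * F⁻¹, hFconj hy⟩ := by
          rw [← map_mul]
          exact congrArg ψ (Subtype.ext conj_mul.symm)
        have h3 : ψ ⟨x * y, H.mul_mem hx hy⟩ = ψ ⟨x, hx⟩ * ψ ⟨y, hy⟩ := by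
          rw [← map_mul]; rfl
        rw [h2, h3, hsq hx hxσ, hsq hy hyσ, ← mul_inv_rev, inv_inj] at h1
        exact h1.symm
      have k1 := key hx hy hxσ hyσ
      have k2 := key hy hx hyσ hxσ
      rw [← ha, ← hb] at k1 k2
      have h32 : (a * a * a) * (b * b) = (b * b) * (a * a * a) := by
        calc (a * a * a) * (b * b) = a * ((a * a) * (b * b)) := by group
          _ = a * ((b * a) * (b * a)) := by rw [k2]
          _ = (a * b) * (a * b) * a := by group
          _ = (b * b) * (a * a) * a := by rw [k1]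
          _ = _ := by group
      have hroot : ∀ (g : H) (n : ℕ), n = 2 ∨ n = 3 → ψ g ∈ Subgroup.zpowers ((ψ g) ^ n) := by
        intro g n hn
        refine mem_zpowers_pow_iff.2 ?_
        have h6 := (coprime_six d h hc.H_le).coprime_dvd_right
          ((orderOf_map_dvd ψ g).trans (orderOf_dvd_natCard g))
        rcases hn with rfl | rfl
        · exact h6.coprime_dvd_left (by norm_num)
        · exact h6.coprime_dvd_left (by norm_num)
      have hab : Commute a b := by
        obtain ⟨i, hi⟩ := hroot ⟨F * x * F⁻¹, hFconj hx⟩ 3 (Or.inr rfl)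
        obtain ⟨j, hj⟩ := hroot ⟨F * y * F⁻¹, hFconj hy⟩ 2 (Or.inl rfl)
        have hc0 : Commute (a ^ 3) (b ^ 2) := by
          rw [pow_succ, pow_two, pow_two]; exact h32
        have := (hc0.zpow_left i).zpow_right j
        rw [show (a ^ 3) ^ i = a from hi, show (b ^ 2) ^ j = b from hj] at this
        exact this
      rw [hsq hx hxσ, hsq hy hyσ, ← ha, ← hb]
      exact (((hab.mul_left hab).mul_right (hab.mul_left hab)).inv_inv).eq
    -- so the image of `H` is abelian
    have hσA : Subgroup.zpowers (ι σ) ≤ ι.range := Subgroup.zpowers_le.2 ⟨σ, rfl⟩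
    have hgen := commutator_sup_centralizer_eq (A := Subgroup.zpowers (ι σ)) (K := H) (hσA.trans hc.H_inv)
      ((coprime_of_le_right hc.H_le h.coprime_range).coprime_dvd_left (Subgroup.card_dvd_of_le hσA))
      (Or.inr hHs)
    let Cfix : Subgroup H := (H ⊓ Subgroup.centralizer (Subgroup.zpowers (ι σ) : Set Γ)).subgroupOf H
    have himg : ∀ g : H, ∃ u ∈ Cfix, ψ g = ψ u := by
      intro g
      let S : Subgroup H := Cfix ⊔ ψ.ker
      have hS : ⁅H, Subgroup.zpowers (ι σ)⁆ ⊔ (H ⊓ Subgroup.centralizer (Subgroup.zpowers (ι σ) : Set Γ)) ≤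
          S.map H.subtype := by
        refine sup_le (Subgroup.commutator_le.2 fun g hg a ha => ?_) ?_
        · obtain ⟨k, rfl⟩ := ha
          have hmem : g * (ι σ ^ k) * g⁻¹ * (ι σ ^ k)⁻¹ ∈ H := by
            have := H.mul_mem hg (conj_mem (zpow_mem hσH k) (H.inv_mem hg))
            simpa [mul_assoc] using this
          refine ⟨⟨_, hmem⟩, Subgroup.mem_sup_right ?_, by simp [commutatorElement_def]⟩
          have hk : (ι σ) ^ k = 1 ∨ (ι σ) ^ k = ι σ := by
            rcases Int.even_or_odd k with ⟨m, hm⟩ | ⟨m, hm⟩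
            · refine Or.inl ?_
              rw [hm, ← two_mul, zpow_mul, zpow_two, hσσ, one_zpow]
            · refine Or.inr ?_
              rw [hm, zpow_add, zpow_mul, zpow_two, hσσ, one_zpow, one_mul, zpow_one]
          rw [MonoidHom.mem_ker]
          rcases hk with e | e
          · have : (⟨g * (ι σ ^ k) * g⁻¹ * (ι σ ^ k)⁻¹, hmem⟩ : H) = 1 := Subtype.ext (by simp [e])
            rw [this, map_one]
          · have : (⟨g * (ι σ ^ k) * g⁻¹ * (ι σ ^ k)⁻¹, hmem⟩ : H) =
                ⟨g, hg⟩ * (⟨ι σ * g * (ι σ)⁻¹, conj_mem hσH hg⟩)⁻¹ := Subtype.ext (by simp [e, mul_assoc])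
            rw [this, map_mul, map_inv, hψσ ⟨g, hg⟩, mul_inv_cancel]
        · intro y hy
          exact ⟨⟨y, hy.1⟩, Subgroup.mem_sup_left hy, rfl⟩
      rw [hgen] at hS
      obtain ⟨g', hg', hgg⟩ := hS g.2
      have : g' = g := Subtype.ext hgg
      rw [this] at hg'
      obtain ⟨u, hu, k, hk, huk⟩ := Subgroup.mem_sup_of_normal_right.1 hg'
      refine ⟨u, hu, ?_⟩
      rw [← huk, map_mul, MonoidHom.mem_ker.1 hk, mul_one]
    have hcomm_all : ∀ g g' : H, ψ g * ψ g' = ψ g' * ψ g := by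
      intro g g'
      obtain ⟨u, hu, e⟩ := himg g
      obtain ⟨u', hu', e'⟩ := himg g'
      have hfixu : ∀ {v : H}, v ∈ Cfix → ι σ * (v : Γ) * (ι σ)⁻¹ = v := fun {v} hv =>
        mul_inv_eq_iff_eq_mul.2 ((hv.2 : (v : Γ) ∈ _) _ (Subgroup.mem_zpowers _))
      rw [e, e']
      exact hcomm u.2 u'.2 (hfixu hu) (hfixu hu')
    have hDC : ⁅H, H⁆ ≤ Subgroup.centralizer (W : Set Γ) := by
      rw [Subgroup.commutator_le]
      intro g hg g' hg' w hw
      have h1 : ψ ⁅(⟨g, hg⟩ : H), (⟨g', hg'⟩ : H)⁆ = 1 := by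
        rw [map_commutatorElement, commutatorElement_eq_one_iff_mul_comm]
        exact hcomm_all _ _
      have h2 : ⁅g, g'⁆ * w * ⁅g, g'⁆⁻¹ = w := by
        have h3 := congrArg Subtype.val (DFunLike.congr_fun h1 (⟨w, hw⟩ : W))
        exact h3
      exact (mul_inv_eq_iff_eq_mul.1 h2).symm
    exact hXW (eq_bot_iff.2 fun w hw => hCV.le ⟨hw.1, fun x hx => ((hDC hx.1) w hw).symm⟩)
  · -- `f` is fixed-point-free on `V`
    have hDA : ι.range ≤ Subgroup.normalizer ((Z ⊓ Subgroup.centralizer ({F} : Set Γ) : Subgroup Γ) : Set Γ) :=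
      le_normalizer_inf hAZ (centralizer_inv d)
    have hCD := hCZ _ inf_le_left hDf hDA
    have hVF : V ⊓ Subgroup.centralizer ({F} : Set Γ) = ⊥ := by
      rw [Subgroup.eq_bot_iff_forall]
      rintro v ⟨hv, hvF⟩
      have : v ∈ V ⊓ Subgroup.centralizer ((Z ⊓ Subgroup.centralizer ({F} : Set Γ) : Subgroup Γ) : Set Γ) :=
        ⟨hv, fun x hx => commute_fixed d h ((hZH.trans hc.H_le) hx.1) (hc.V_le hv)
          (Subgroup.mem_centralizer_singleton_iff.1 hx.2).symm
          (Subgroup.mem_centralizer_singleton_iff.1 hvF).symm⟩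
      rwa [hCD, Subgroup.mem_bot] at this
    have hfixall : ∀ y ∈ H, F * y = y * F := by
      intro y hy
      have h1 := FrobeniusQuadratic.comm_mem_centralizer (q := q) hq2 hq3 hc.V_comm hHq hVH
        (le_normalizer_of_normal V H) (le_normalizer_of_normal V ι.range ⟨f, rfl⟩) (f_pow d) hVF hFH hy
      have hmem : y * F * y⁻¹ * F⁻¹ ∈ H ⊓ Subgroup.centralizer (V : Set Γ) := by
        refine ⟨?_, h1⟩
        have := H.mul_mem hy (conj_mem hFH (H.inv_mem hy))
        simpa [mul_assoc] using this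
      rw [hc.faithful, Subgroup.mem_bot, mul_inv_eq_one, mul_inv_eq_iff_eq_mul] at hmem
      exact hmem.symm
    exact hHc fun x hx y hy => commute_fixed d h (hc.H_le hx) (hc.H_le hy) (hfixall x hx) (hfixall y hy)

/-- Shumyatsky: `K' ` is nilpotent. -/
theorem nilBy_comm (d : Dihedral3 f t) (h : Acts K ι) : NilBy (fun T _ => IsMulCommutative T) K :=
  nilBy_of_no_config closed_comm ⟨⟨fun _ _ => rfl⟩⟩
    (fun _ _ _ _ _ hA _ H _ hc => by
      by_cases hH : Group.IsNilpotent H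
      · exact false_of_nilpotent d hA hc hH
      · exact false_of_not_nilpotent d hA hc hH) h

end main

end Cfsg.Agent.FrobeniusShumyatsky
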