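/-
The structure of 2-Frobenius groups.
-/
import Mathlib
import Cfsg.Agent.Lib.FrobeniusNilpotent
import Cfsg.Agent.Lib.FrobeniusComplement
import Cfsg.Agent.Lib.FrobeniusOrbit

open scoped Pointwise commutatorElement

namespace Cfsg.Agent.FrobeniusTwo

universe u

open Cfsg.Agent

variable {G : Type u} [Group G] [Finite G] {H K : Subgroup G} [H.Normal] [K.Normal]

/-- The configuration, with the complement of `H` in `K` given inside `G`. -/
structure Data (H K C : Subgroup G) [H.Normal] (D : Subgroup (G ⧸ H)) : Prop where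
  hHK : H ≤ K
  hle : C ≤ K
  inf : ∀ x ∈ C, x ∈ H → x = 1
  cen : ∀ x ∈ C, x ≠ 1 → ∀ k ∈ K, x * k = k * x → k ∈ C
  conj : ∀ x ∈ K, orderOf x ∣ Nat.card C → ∃ k ∈ K, k⁻¹ * x * k ∈ C
  sub : ∀ L : Subgroup G, L ≤ K → Nat.card L ∣ Nat.card C → ∃ k ∈ K, ∀ x ∈ L, k⁻¹ * x * k ∈ C
  card : Nat.card K = Nat.card H * Nat.card C
  ne : C ≠ ⊥
  frob : Cfsg.IsFrobeniusComplement D
  kernel : Cfsg.frobeniusKernel D = (K.map (QuotientGroup.mk' H) : Set (G ⧸ H))

theorem exists_data (hlt : H < K)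
    (hK : ∃ C : Subgroup K, Cfsg.IsFrobeniusComplement C ∧ Cfsg.frobeniusKernel C = (H.subgroupOf K : Set K))
    (hGH : ∃ D : Subgroup (G ⧸ H), Cfsg.IsFrobeniusComplement D ∧
      Cfsg.frobeniusKernel D = (K.map (QuotientGroup.mk' H) : Set (G ⧸ H))) :
    ∃ (C : Subgroup G) (D : Subgroup (G ⧸ H)), Data H K C D ∧ Group.IsNilpotent H ∧ H ≠ ⊥ ∧
      Nat.card (K ⧸ H.subgroupOf K) = Nat.card C ∧ (Nat.card H).Coprime (Nat.card C) ∧
      (∀ P : Subgroup C, ∀ p : ℕ, p.Prime → IsPGroup p P →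
        IsCyclic P ∨ (p = 2 ∧ ∃ n : ℕ, Nonempty (P ≃* QuaternionGroup (2 ^ n)))) ∧
      (∀ s t : G, s ∈ C → t ∈ C → orderOf s = 2 → orderOf t = 2 → s = t) := by
  obtain ⟨C', hC, hker⟩ := hK
  obtain ⟨D, hD, hDker⟩ := hGH
  have hc := FrobeniusBasic.isComplement_of_eq_kernel hC hker.symm
  have hne := FrobeniusBasic.kernel_ne_bot hC hker.symm
  have hfpf := FrobeniusBasic.fpf_of_complement hC hc.disjoint
  have hcard : Nat.card (C'.map K.subtype) = Nat.card C' :=
    Subgroup.card_map_of_injective K.subtype_injective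
  have hHcard : Nat.card (H.subgroupOf K) = Nat.card H :=
    Nat.card_congr (Subgroup.subgroupOfEquivOfLe hlt.le).toEquiv
  refine ⟨C'.map K.subtype, D,
    ⟨hlt.le, Subgroup.map_subtype_le _, ?_, ?_, ?_, ?_, ?_, ?_, hD, hDker⟩, ?_, ?_, ?_, ?_, ?_, ?_⟩
  · rintro _ ⟨x, hx, rfl⟩ hxH
    have : x = 1 := Subgroup.disjoint_def.1 hc.disjoint (hxH : x ∈ H.subgroupOf K) hx
    rw [this, map_one]
  · rintro _ ⟨x, hx, rfl⟩ hx1 k hk hcomm
    refine ⟨⟨k, hk⟩, FrobeniusBasic.centralizer_le hC hx (fun e => hx1 (by rw [e, map_one]))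
      (Subgroup.mem_centralizer_singleton_iff.2 (Subtype.ext hcomm.symm)), rfl⟩
  · intro x hx hdvd
    have h1 : orderOf (⟨x, hx⟩ : K) ∣ Nat.card C' := by
      rw [← hcard]; rwa [Subgroup.orderOf_mk]
    obtain ⟨k, hk⟩ := FrobeniusBasic.exists_conj_mem_of_dvd hC h1
    exact ⟨k, k.2, ⟨_, hk, rfl⟩⟩
  · intro L hL hdvd
    have h1 : Nat.card (L.subgroupOf K) ∣ Nat.card C' := by
      rw [Nat.card_congr (Subgroup.subgroupOfEquivOfLe hL).toEquiv, ← hcard]; exact hdvd
    obtain ⟨k, hk⟩ := FrobeniusBasic.exists_le_conj_of_card_dvd hC _ h1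
    refine ⟨k, k.2, fun x hx => ?_⟩
    have h2 := hk (show (⟨x, hL hx⟩ : K) ∈ L.subgroupOf K from hx)
    rw [FrobeniusBasic.mem_conj_smul_iff] at h2
    exact ⟨_, h2, rfl⟩
  · rw [hcard, ← hHcard, hc.card_mul]
  · exact fun e => hC.1 ((Subgroup.map_eq_bot_iff_of_injective _ K.subtype_injective).1 e)
  · obtain ⟨N, hN, -, -, hnil⟩ := FrobeniusNilpotent.exists_nilpotent_kernel hC
    have hNH : N = H.subgroupOf K := SetLike.ext' (hN.trans hker)
    subst hNH
    have := hnil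
    exact Group.nilpotent_of_surjective (Subgroup.subgroupOfEquivOfLe hlt.le).toMonoidHom
      (Subgroup.subgroupOfEquivOfLe hlt.le).surjective
  · intro e
    apply hne
    rw [e, Subgroup.bot_subgroupOf]
  · rw [hcard, ← Subgroup.index_eq_card, hc.symm.index_eq_card]
  · rw [hcard, ← hHcard, ← hc.index_eq_card]
    exact Nat.Coprime.symm (FrobeniusBasic.coprime_card_index hC)
  · intro P p hp hP
    have := Fact.mk hp
    let e := C'.equivMapOfInjective K.subtype K.subtype_injective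
    have h1 := FrobeniusComplement.sylow_cyclic_or_quaternion hc hne hfpf (P.map e.symm.toMonoidHom)
      (hP.map _)
    let e' := P.equivMapOfInjective e.symm.toMonoidHom e.symm.injective
    rcases h1 with h1 | ⟨h2, n, ⟨f⟩⟩
    · exact Or.inl (e'.isCyclic.2 h1)
    · exact Or.inr ⟨h2, n, ⟨e'.trans f⟩⟩
  · rintro _ _ ⟨s, hs, rfl⟩ ⟨t, ht, rfl⟩ hs2 ht2
    rw [Subgroup.coe_subtype, Subgroup.orderOf_coe] at hs2 ht2
    rw [FrobeniusFPF.involution_unique hne hfpf ht ht2 hs hs2]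

variable {C : Subgroup G} {D : Subgroup (G ⧸ H)}

omit [K.Normal] in
theorem Data.complement (d : Data H K C D) :
    Subgroup.IsComplement' (K.map (QuotientGroup.mk' H)) D :=
  FrobeniusBasic.isComplement_of_eq_kernel d.frob d.kernel.symm

omit [K.Normal] in
/-- The map from `C` onto `K/H`. -/
theorem Data.bijective (d : Data H K C D) :
    Function.Injective (((QuotientGroup.mk' H).comp C.subtype)) ∧
      ((QuotientGroup.mk' H).comp C.subtype).range = K.map (QuotientGroup.mk' H) := by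
  have hinj : Function.Injective ((QuotientGroup.mk' H).comp C.subtype) := by
    rw [injective_iff_map_eq_one]
    exact fun x hx => Subtype.ext (d.inf x x.2 ((QuotientGroup.eq_one_iff _).1 hx))
  refine ⟨hinj, Subgroup.eq_of_le_of_card_ge ?_ ?_⟩
  · rintro _ ⟨x, rfl⟩; exact ⟨x, d.hle x.2, rfl⟩
  · rw [← Nat.card_congr (MonoidHom.ofInjective hinj).toEquiv]
    have h1 := HallCore.card_comap_mk' H (K.map (QuotientGroup.mk' H))
    rw [Subgroup.comap_map_eq, QuotientGroup.ker_mk', sup_eq_left.2 d.hHK, d.card, mul_comm] at h1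
    exact (Nat.eq_of_mul_eq_mul_left Nat.card_pos h1.symm).ge

/-- The centraliser of a non-identity element of `C` lies in `C H`. -/
theorem Data.mem_K (d : Data H K C D) {x g : G} (hx : x ∈ C) (hx1 : x ≠ 1) (h : x * g = g * x) :
    g ∈ K := by
  by_contra hg
  set f := QuotientGroup.mk' H
  have hg' : f g ∉ K.map f := fun ⟨k, hk, e⟩ => hg (by
    have : k⁻¹ * g ∈ H := QuotientGroup.eq.1 e
    simpa using K.mul_mem hk (d.hHK this))
  have hx' : f x ∈ K.map f := ⟨x, d.hle hx, rfl⟩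
  have hx1' : f x ≠ 1 := fun e => hx1 (d.inf x hx ((QuotientGroup.eq_one_iff x).1 e))
  rw [← SetLike.mem_coe, ← d.kernel, FrobeniusBasic.frobeniusKernel_eq_compl] at hg'
  simp only [Set.mem_compl_iff, not_not] at hg'
  obtain ⟨hg1, a, ha⟩ := hg'
  have hmem : a⁻¹ * f x * a ∈ D := by
    refine FrobeniusBasic.centralizer_le d.frob ha (fun e => hg1 ?_) ?_
    · calc f g = a * (a⁻¹ * f g * a) * a⁻¹ := by group
        _ = 1 := by rw [e, mul_one, mul_inv_cancel]
    · refine Subgroup.mem_centralizer_singleton_iff.2 ?_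
      have e : f x * f g = f g * f x := by rw [← map_mul, ← map_mul, h]
      calc (a⁻¹ * f x * a) * (a⁻¹ * f g * a) = a⁻¹ * (f x * f g) * a := by group
        _ = a⁻¹ * (f g * f x) * a := by rw [e]
        _ = _ := by group
  refine hx1' ?_
  have hk : a⁻¹ * f x * a ∈ K.map f :=
    Subgroup.Normal.conj_mem' (‹K.Normal›.map f (QuotientGroup.mk'_surjective H)) _ hx' a
  have h1 := Subgroup.disjoint_def.1 d.complement.disjoint hk hmem
  calc f x = a * (a⁻¹ * f x * a) * a⁻¹ := by group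
    _ = 1 := by rw [h1, mul_one, mul_inv_cancel]

theorem Data.nilpotent (d : Data H K C D) : Group.IsNilpotent C := by
  obtain ⟨N, hN, -, -, hnil⟩ := FrobeniusNilpotent.exists_nilpotent_kernel d.frob
  have hNK : N = K.map (QuotientGroup.mk' H) := SetLike.ext' (hN.trans d.kernel)
  subst hNK
  have := hnil
  refine Subgroup.isNilpotent_of_ker_le_center
    (((QuotientGroup.mk' H).comp C.subtype).codRestrict (K.map (QuotientGroup.mk' H))
      fun x => ⟨x, d.hle x.2, rfl⟩) ?_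
  rw [(MonoidHom.ker_eq_bot_iff _).2 fun a b e => d.bijective.1 (congrArg Subtype.val e)]
  exact bot_le

theorem Data.odd (d : Data H K C D)
    (huniq : ∀ s t : G, s ∈ C → t ∈ C → orderOf s = 2 → orderOf t = 2 → s = t) :
    Odd (Nat.card C) := by
  rw [← Nat.not_even_iff_odd, even_iff_two_dvd]
  intro h2
  obtain ⟨⟨s, hs⟩, hso⟩ := exists_prime_orderOf_dvd_card' (G := C) 2 h2
  rw [Subgroup.orderOf_mk] at hso
  set f := QuotientGroup.mk' H
  obtain ⟨hinj, hrange⟩ := d.bijective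
  have hfs : orderOf (f s) = 2 := by
    rw [← hso]
    exact (orderOf_injective _ hinj ⟨s, hs⟩).trans (Subgroup.orderOf_mk ..)
  obtain ⟨a, ha, ha1⟩ := D.bot_or_exists_ne_one.resolve_left d.frob.1
  have hfK : f s ∈ K.map f := ⟨s, d.hle hs, rfl⟩
  have hconj : a * f s * a⁻¹ ∈ K.map f :=
    Subgroup.Normal.conj_mem (‹K.Normal›.map f (QuotientGroup.mk'_surjective H)) _ hfK a
  rw [← hrange] at hconj
  obtain ⟨⟨t, ht⟩, hts⟩ := hconj
  have hto : orderOf t = 2 := by
    rw [← Subgroup.orderOf_mk t ht, ← orderOf_injective _ hinj ⟨t, ht⟩, hts,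
      show a * f s * a⁻¹ = MulAut.conj a (f s) from rfl, MulEquiv.orderOf_eq, hfs]
  have hst : f t = f s := by rw [huniq t s ht hs hto hso]
  have hmem : f s ∈ K.map f ⊓ Subgroup.centralizer ({a} : Set (G ⧸ H)) := by
    refine ⟨hfK, Subgroup.mem_centralizer_singleton_iff.2 ?_⟩
    have : a * f s * a⁻¹ = f s := hts.symm.trans hst
    exact (mul_inv_eq_iff_eq_mul.1 this).symm
  rw [FrobeniusBasic.fpf_of_complement d.frob d.complement.disjoint a ha ha1, Subgroup.mem_bot]
    at hmem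
  rw [hmem, orderOf_one] at hfs
  norm_num at hfs

theorem Data.isCyclic (d : Data H K C D) (hodd : Odd (Nat.card C))
    (hsyl : ∀ P : Subgroup C, ∀ p : ℕ, p.Prime → IsPGroup p P →
      IsCyclic P ∨ (p = 2 ∧ ∃ n : ℕ, Nonempty (P ≃* QuaternionGroup (2 ^ n)))) : IsCyclic C := by
  have := d.nilpotent
  have : IsZGroup C := by
    refine (isZGroup_iff C).2 fun p hp P => ?_
    rcases hsyl P p hp P.isPGroup' with h | ⟨-, n, ⟨f⟩⟩
    · exact h
    · exfalso
      have h1 : Nat.card (P : Subgroup C) = 4 * 2 ^ n := by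
        rw [Nat.card_congr f.toEquiv, Nat.card_eq_fintype_card, QuaternionGroup.card]
      have h2 : 2 ∣ Nat.card C :=
        (Dvd.intro (2 * 2 ^ n) (by rw [h1]; ring)).trans (Subgroup.card_subgroup_dvd_card _)
      exact (Nat.not_even_iff_odd.2 hodd) (even_iff_two_dvd.2 h2)
  infer_instance

theorem Data.quotient_equiv (d : Data H K C D) : Nonempty (D ≃* G ⧸ K) := by
  set f := QuotientGroup.mk' H
  let g : G ⧸ H →* G ⧸ K := QuotientGroup.map H K (MonoidHom.id G) d.hHK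
  have hg : ∀ x : G, g (f x) = QuotientGroup.mk' K x := fun x => rfl
  refine ⟨MulEquiv.ofBijective (g.comp D.subtype) ⟨?_, ?_⟩⟩
  · rw [injective_iff_map_eq_one]
    rintro ⟨x, hx⟩ h
    obtain ⟨y, rfl⟩ := QuotientGroup.mk'_surjective H x
    exact Subtype.ext (Subgroup.disjoint_def.1 d.complement.disjoint
      ⟨y, (QuotientGroup.eq_one_iff y).1 h, rfl⟩ hx)
  · intro x
    obtain ⟨y, rfl⟩ := QuotientGroup.mk'_surjective K x
    obtain ⟨⟨⟨k, hk⟩, ⟨a, ha⟩⟩, hka⟩ := d.complement.2 (f y)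
    refine ⟨⟨a, ha⟩, ?_⟩
    obtain ⟨k', hk', rfl⟩ := hk
    simp only at hka
    have h1 := congrArg g hka
    rw [map_mul, hg, hg, show QuotientGroup.mk' K k' = 1 from (QuotientGroup.eq_one_iff k').2 hk',
      one_mul] at h1
    exact h1

theorem Data.isCyclic_quotient (d : Data H K C D) (hC : IsCyclic C) : IsCyclic (G ⧸ K) := by
  set f := QuotientGroup.mk' H
  obtain ⟨e⟩ := d.quotient_equiv
  refine e.isCyclic.1 ?_
  have hc := d.complement
  have := ‹K.Normal›.map f (QuotientGroup.mk'_surjective H)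
  have hfpf := FrobeniusBasic.fpf_of_complement d.frob hc.disjoint
  have hne := FrobeniusBasic.kernel_ne_bot d.frob d.kernel.symm
  obtain ⟨hinj, hrange⟩ := d.bijective
  have hKc : IsCyclic (K.map f) := by
    rw [← hrange]
    exact (MonoidHom.ofInjective hinj).isCyclic.1 hC
  refine FrobeniusFPF.isCyclic_of_le_complement hc hne hfpf D le_rfl (Or.inl ⟨⟨fun a b => ?_⟩⟩)
  -- the commutator of two elements of `D` centralises the cyclic kernel
  by_contra hab
  have hx1 : ⁅(a : G ⧸ H), (b : G ⧸ H)⁆ ≠ 1 := fun e => hab (Subtype.ext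
    (commutatorElement_eq_one_iff_mul_comm.1 e))
  have hmem : ⁅(a : G ⧸ H), (b : G ⧸ H)⁆ ∈ D :=
    D.mul_mem (D.mul_mem (D.mul_mem a.2 b.2) (D.inv_mem a.2)) (D.inv_mem b.2)
  refine hne (eq_bot_iff.2 ((le_inf le_rfl fun k hk => ?_).trans (hfpf _ hmem hx1).le))
  rw [Subgroup.mem_centralizer_singleton_iff]
  let c : G ⧸ H →* MulAut (K.map f) := MulAut.conjNormal
  have hcomm : ∀ φ ψ : MulAut (K.map f), φ * ψ = ψ * φ := fun φ ψ => by
    obtain ⟨m, hm⟩ := MonoidHom.map_cyclic φ.toMonoidHom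
    obtain ⟨m', hm'⟩ := MonoidHom.map_cyclic ψ.toMonoidHom
    ext x
    rw [MulAut.mul_apply, MulAut.mul_apply]
    have h1 : ∀ y, φ y = y ^ m := hm
    have h2 : ∀ y, ψ y = y ^ m' := hm'
    rw [h1, h2, h1, h2, ← zpow_mul, ← zpow_mul, mul_comm]
  have h1 : c ⁅(a : G ⧸ H), (b : G ⧸ H)⁆ = 1 := by
    rw [map_commutatorElement, commutatorElement_eq_one_iff_mul_comm]
    exact hcomm _ _
  have h2 := congrArg Subtype.val (DFunLike.congr_fun h1 (⟨k, hk⟩ : K.map f))
  rw [MulAut.conjNormal_apply] at h2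
  exact (mul_inv_eq_iff_eq_mul.1 h2).symm

theorem Data.coprime (d : Data H K C D) : (Nat.card C).Coprime (Nat.card (G ⧸ K)) := by
  obtain ⟨e⟩ := d.quotient_equiv
  obtain ⟨hinj, hrange⟩ := d.bijective
  rw [← Nat.card_congr e.toEquiv, Nat.card_congr (MonoidHom.ofInjective hinj).toEquiv, hrange]
  have := FrobeniusBasic.coprime_card_index d.frob
  rw [show D.index = Nat.card (K.map (QuotientGroup.mk' H)) from d.complement.index_eq_card] at this
  exact this.symm

/-- Elements of `N(C)` outside `K` of a given prime order. -/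
theorem Data.exists_normalizer (d : Data H K C D) {r : ℕ} (hr : r.Prime)
    (hrq : r ∣ Nat.card (G ⧸ K)) :
    ∃ a : G, a ∈ Subgroup.normalizer (C : Set G) ∧ orderOf a = r ∧ a ∉ K := by
  have := Fact.mk hr
  set N := Subgroup.normalizer (C : Set G)
  have hsup : ∀ g : G, ∃ k ∈ K, k⁻¹ * g ∈ N := by
    intro g
    obtain ⟨k, hk, hkC⟩ := d.sub (C.map (MulAut.conj g).toMonoidHom)
      (by rintro _ ⟨x, hx, rfl⟩; exact ‹K.Normal›.conj_mem x (d.hle hx) g)
      (by rw [Subgroup.card_map_of_injective (MulAut.conj g).injective])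
    refine ⟨k, hk, CoprimeAction.mem_normalizer_of_conj_smul_eq ?_⟩
    refine Subgroup.eq_of_le_of_card_ge ?_ (CoprimeSZ.card_conj_smul _ _).ge
    intro y hy
    rw [CoprimeSZ.mem_conj_smul] at hy
    have := hkC _ ⟨_, hy, rfl⟩
    simpa [mul_assoc] using this
  let g : N →* G ⧸ K := (QuotientGroup.mk' K).comp N.subtype
  have hg : Function.Surjective g := by
    intro x
    obtain ⟨y, rfl⟩ := QuotientGroup.mk'_surjective K x
    obtain ⟨k, hk, hkN⟩ := hsup y
    refine ⟨⟨k⁻¹ * y, hkN⟩, ?_⟩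
    show QuotientGroup.mk' K (k⁻¹ * y) = _
    rw [map_mul, map_inv, show QuotientGroup.mk' K k = 1 from (QuotientGroup.eq_one_iff k).2 hk,
      inv_one, one_mul]
  obtain ⟨⟨a, ha⟩, hao⟩ := exists_prime_orderOf_dvd_card' (G := N) r
    (hrq.trans (Subgroup.card_dvd_of_surjective g hg))
  rw [Subgroup.orderOf_mk] at hao
  refine ⟨a, ha, hao, fun haK => ?_⟩
  -- `a ∈ N ∩ K = C`
  obtain ⟨x, hx, hx1⟩ := C.bot_or_exists_ne_one.resolve_left d.ne
  obtain ⟨hinj, hrange⟩ := d.bijective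
  have : QuotientGroup.mk' H a ∈ ((QuotientGroup.mk' H).comp C.subtype).range := by
    rw [hrange]; exact ⟨a, haK, rfl⟩
  obtain ⟨⟨c, hc⟩, hca⟩ := this
  have hh : c⁻¹ * a ∈ H := QuotientGroup.eq.1 hca
  have hN : c⁻¹ * a ∈ N := N.mul_mem (N.inv_mem (Subgroup.le_normalizer hc)) ha
  have hcomm : x * (c⁻¹ * a) = (c⁻¹ * a) * x := by
    have h1 : x * (c⁻¹ * a) * x⁻¹ * (c⁻¹ * a)⁻¹ = 1 := by
      refine d.inf _ ?_ (H.mul_mem (‹H.Normal›.conj_mem _ hh x) (H.inv_mem hh))
      have e : x * (c⁻¹ * a) * x⁻¹ * (c⁻¹ * a)⁻¹ = x * ((c⁻¹ * a) * x⁻¹ * (c⁻¹ * a)⁻¹) := by group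
      rw [e]
      exact C.mul_mem hx ((Subgroup.mem_normalizer_iff.1 hN _).1 (C.inv_mem hx))
    exact mul_inv_eq_iff_eq_mul.1 (mul_inv_eq_one.1 h1)
  have h2 := d.cen x hx hx1 _ (K.mul_mem (K.inv_mem (d.hle hc)) haK) hcomm
  have haC : a ∈ C := by simpa using C.mul_mem hc h2
  have hdvd : r ∣ Nat.card C := hao ▸ Subgroup.orderOf_dvd_natCard _ haC
  exact hr.not_dvd_one (d.coprime ▸ Nat.dvd_gcd hdvd hrq)

theorem Data.exists_fixed (d : Data H K C D) (hH : Group.IsNilpotent H) (hC : IsCyclic C)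
    (hcop : (Nat.card H).Coprime (Nat.card C)) {s r : ℕ} (hs : s.Prime) (hr : r.Prime) (hsr : s ≠ r)
    (hsH : s ∣ Nat.card H) (hrq : r ∣ Nat.card (G ⧸ K)) :
    ∃ g : G, orderOf g = s * r := by
  classical
  have := Fact.mk hs
  obtain ⟨a, haN, hao, haK⟩ := d.exists_normalizer hr hrq
  have := hH
  obtain ⟨P⟩ : Nonempty (Sylow s H) := inferInstance
  have hPn : (P : Subgroup H).Normal :=
    Sylow.normal_of_normalizerCondition Group.normalizerCondition_of_isNilpotent P
  have := P.characteristic_of_normal hPn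
  set T := (P : Subgroup H).map H.subtype with hT
  have hTn : T.Normal := ConjAct.normal_of_characteristic_of_normal
  have hTp : IsPGroup s T := P.isPGroup'.map _
  have hTne : T ≠ ⊥ := fun e => P.ne_bot_of_dvd_card hsH
    ((Subgroup.map_eq_bot_iff_of_injective _ H.subtype_injective).1 e)
  have hTH : T ≤ H := Subgroup.map_subtype_le _
  set Z := FrobeniusThompson.zOf T
  have hZne : Z ≠ ⊥ := FrobeniusThompson.zOf_ne_bot hTp hTne
  have hZn : Z.Normal := Subgroup.normalizer_eq_top_iff.1 (top_le_iff.1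
    (Subgroup.normalizer_eq_top (H := T) ▸ FrobeniusThompson.normalizer_le_normalizer_zOf T))
  have hZH : Z ≤ H := inf_le_left.trans hTH
  let V : Subgroup G :=
    { carrier := {x | x ∈ Z ∧ x ^ s = 1}
      one_mem' := ⟨one_mem _, one_pow _⟩
      mul_mem' := fun {x y} hx hy => ⟨mul_mem hx.1 hy.1, by
        rw [(show Commute x y from hy.1.2 x hx.1.1).mul_pow, hx.2, hy.2, one_mul]⟩
      inv_mem' := fun {x} hx => ⟨inv_mem hx.1, by rw [inv_pow, hx.2, inv_one]⟩ }
  have hVn : V.Normal := ⟨fun x hx g => ⟨hZn.conj_mem x hx.1 g, by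
    rw [conj_pow, hx.2, mul_one, mul_inv_cancel]⟩⟩
  obtain ⟨z, hz, hzo⟩ : ∃ z ∈ Z, orderOf z = s :=
    PGroupsBasic.exists_orderOf_eq_of_ne_bot (hTp.to_le inf_le_left) hZne
  have hzV : z ∈ V := ⟨hz, hzo ▸ pow_orderOf_eq_one z⟩
  have hVH : V ≤ H := fun x hx => hZH hx.1
  obtain ⟨x, hx, hx1, hax⟩ : ∃ x ∈ V, x ≠ 1 ∧ a * x = x * a := by
    by_contra hno
    push Not at hno
    have h1 : z ∈ (⊥ : Subgroup G) := by
      refine FrobeniusOrbit.le_of_translates_fpf (V := V) (Z := C) (U := ⊥) hr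
        (hao ▸ pow_orderOf_eq_one a) (fun x hx y hy => hy.1.2 x hx.1.1)
        (fun x hx y hy => by
          have := hC.commutative
          exact congrArg Subtype.val (mul_comm' (⟨x, hx⟩ : C) ⟨y, hy⟩))
        (by rw [Subgroup.normalizer_eq_top]; exact le_top)
        (by rw [Subgroup.normalizer_eq_top]; trivial) haN
        (hcop.symm.coprime_dvd_right (Subgroup.card_dvd_of_le hVH)) ?_ ?_ ?_ hzV
      · rw [Subgroup.eq_bot_iff_forall]
        rintro v ⟨hv, hvc⟩
        obtain ⟨c, hc, hc1⟩ := C.bot_or_exists_ne_one.resolve_left d.ne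
        exact d.inf v (d.cen c hc hc1 v (d.hHK (hVH hv)) (hvc c hc)) (hVH hv)
      · rw [Subgroup.eq_bot_iff_forall]
        rintro c ⟨hc, hca⟩
        by_contra hc1
        exact haK (d.mem_K hc hc1 (Subgroup.mem_centralizer_singleton_iff.1 hca))
      · intro c _ v hv hav
        have : v = 1 := by
          by_contra hv1
          exact hno v hv hv1 hav
        rw [this, mul_one, mul_inv_cancel]
        exact one_mem _
    rw [Subgroup.mem_bot] at h1
    rw [h1, orderOf_one] at hzo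
    exact hs.ne_one hzo.symm
  have hxo : orderOf x = s := orderOf_eq_prime hx.2 hx1
  refine ⟨x * a, ?_⟩
  rw [(show Commute x a from hax.symm).orderOf_mul_eq_mul_orderOf_of_coprime
    (by rw [hxo, hao]; exact (Nat.coprime_primes hs hr).2 hsr), hxo, hao]

omit [H.Normal] [K.Normal] in
theorem exists_pow_orderOf {g : G} {n : ℕ} (hn : n ∣ orderOf g) : ∃ h : G, orderOf h = n :=
  ⟨g ^ (orderOf g / n), by
    rw [orderOf_pow_of_dvd _ (Nat.div_dvd_of_dvd hn), Nat.div_div_self hn (orderOf_pos g).ne']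
    intro e
    have := Nat.div_mul_cancel hn
    rw [e, zero_mul] at this
    exact (orderOf_pos g).ne' this.symm⟩

theorem main (hlt : H < K)
    (hK : ∃ C : Subgroup K, Cfsg.IsFrobeniusComplement C ∧ Cfsg.frobeniusKernel C = (H.subgroupOf K : Set K))
    (hGH : ∃ D : Subgroup (G ⧸ H), Cfsg.IsFrobeniusComplement D ∧
      Cfsg.frobeniusKernel D = (K.map (QuotientGroup.mk' H) : Set (G ⧸ H))) :
    Group.IsSolvable G ∧ Odd (Nat.card (K ⧸ H.subgroupOf K)) ∧
      Nat.Coprime (Nat.card (K ⧸ H.subgroupOf K)) (Nat.card H * Nat.card (G ⧸ K)) ∧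
      IsCyclic (G ⧸ K) ∧
      ∀ p q : ℕ, p.Prime → q.Prime → p ≠ q → p ∣ Nat.card G → q ∣ Nat.card G →
        ((∃ g : G, orderOf g = p * q) ↔
          (p ∣ Nat.card (K ⧸ H.subgroupOf K) ↔ q ∣ Nat.card (K ⧸ H.subgroupOf K))) := by
  obtain ⟨C, D, d, hnil, -, hn, hcop, hsyl, huniq⟩ := exists_data hlt hK hGH
  rw [hn]
  have hodd := d.odd huniq
  have hC := d.isCyclic hodd hsyl
  have hQ := d.isCyclic_quotient hC
  refine ⟨?_, hodd, hcop.symm.mul_right d.coprime, hQ, fun p q hp hq hpq hpG hqG => ?_⟩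
  · have := hnil
    have := hC.commutative
    have := hQ.commutative
    have h1 : Group.IsSolvable K := by
      obtain ⟨hinj, hrange⟩ := d.bijective
      let g : K →* G ⧸ H := (QuotientGroup.mk' H).comp K.subtype
      have hr : g.range = K.map (QuotientGroup.mk' H) := by
        rw [MonoidHom.range_comp, Subgroup.range_subtype]
      have : Group.IsSolvable (K.map (QuotientGroup.mk' H)) := by
        rw [← hrange]
        have : Group.IsSolvable C := inferInstance
        exact Group.isSolvable_of_surjective ((QuotientGroup.mk' H).comp C.subtype).rangeRestrict_surjective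
      have : Group.IsSolvable g.range := hr ▸ this
      refine Group.isSolvable_of_ker_le_range (Subgroup.inclusion d.hHK) g.rangeRestrict ?_
      rw [MonoidHom.ker_rangeRestrict]
      intro x hx
      exact ⟨⟨x, (QuotientGroup.eq_one_iff (x : G)).1 hx⟩, rfl⟩
    exact Group.isSolvable_of_ker_le_range K.subtype (QuotientGroup.mk' K)
      (by rw [QuotientGroup.ker_mk', Subgroup.range_subtype])
  have hG : Nat.card G = Nat.card H * Nat.card C * Nat.card (G ⧸ K) := by
    rw [← d.card, mul_comm, ← Subgroup.card_eq_card_quotient_mul_card_subgroup]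
  have hone : ∀ p q : ℕ, p.Prime → q.Prime → p ∣ Nat.card C → ¬ q ∣ Nat.card C →
      ¬ ∃ g : G, orderOf g = p * q := by
    rintro p q hp hq hpC hqC ⟨g, hg⟩
    have hx : orderOf (g ^ q) = p := by
      rw [orderOf_pow_of_dvd hq.pos.ne' (hg ▸ dvd_mul_left q p), hg, Nat.mul_div_cancel _ hq.pos]
    have hy : orderOf (g ^ p) = q := by
      rw [orderOf_pow_of_dvd hp.pos.ne' (hg ▸ dvd_mul_right p q), hg, Nat.mul_div_cancel_left _ hp.pos]
    have hxK : g ^ q ∈ K := by
      rw [← QuotientGroup.eq_one_iff, ← orderOf_eq_one_iff]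
      refine Nat.eq_one_of_dvd_coprimes (d.coprime.coprime_dvd_left hpC) ?_ (orderOf_dvd_natCard _)
      exact hx ▸ orderOf_map_dvd (QuotientGroup.mk' K) (g ^ q)
    obtain ⟨k, hk, hkC⟩ := d.conj _ hxK (hx ▸ hpC)
    have hk1 : k⁻¹ * g ^ q * k ≠ 1 := fun e => hp.ne_one (by
      rw [← hx, show g ^ q = k * (k⁻¹ * g ^ q * k) * k⁻¹ by group, e, mul_one, mul_inv_cancel,
        orderOf_one])
    have hcomm : (k⁻¹ * g ^ q * k) * (k⁻¹ * g ^ p * k) = (k⁻¹ * g ^ p * k) * (k⁻¹ * g ^ q * k) := by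
      calc (k⁻¹ * g ^ q * k) * (k⁻¹ * g ^ p * k) = k⁻¹ * (g ^ q * g ^ p) * k := by group
        _ = k⁻¹ * (g ^ p * g ^ q) * k := by rw [← pow_add, ← pow_add, add_comm]
        _ = _ := by group
    have hyC := d.cen _ hkC hk1 _ (d.mem_K hkC hk1 hcomm) hcomm
    apply hqC
    have := Subgroup.orderOf_dvd_natCard _ hyC
    rwa [show k⁻¹ * g ^ p * k = MulAut.conj k⁻¹ (g ^ p) by simp, MulEquiv.orderOf_eq, hy] at this
  constructor
  · intro hg
    refine ⟨fun hpC => by_contra fun hqC => hone p q hp hq hpC hqC hg,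
      fun hqC => by_contra fun hpC => hone q p hq hp hqC hpC ?_⟩
    rwa [mul_comm]
  intro hiff
  by_cases hpC : p ∣ Nat.card C
  · obtain ⟨c, hc⟩ := hC.exists_ofOrder_eq_natCard
    obtain ⟨h, hh⟩ := exists_pow_orderOf (g := (c : G)) (n := p * q) (by
      rw [Subgroup.orderOf_coe, hc]
      exact ((Nat.coprime_primes hp hq).2 hpq).mul_dvd_of_dvd_of_dvd hpC (hiff.1 hpC))
    exact ⟨h, hh⟩
  have hqC : ¬ q ∣ Nat.card C := fun h => hpC (hiff.2 h)
  have hsplit : ∀ r : ℕ, r.Prime → ¬ r ∣ Nat.card C → r ∣ Nat.card G →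
      r ∣ Nat.card H ∨ r ∣ Nat.card (G ⧸ K) := fun r hr hrC hrG => by
    rw [hG] at hrG
    rcases hr.dvd_mul.1 hrG with h | h
    · exact (hr.dvd_mul.1 h).imp_right fun h' => absurd h' hrC
    · exact Or.inr h
  rcases hsplit p hp hpC hpG with hpH | hpQ <;> rcases hsplit q hq hqC hqG with hqH | hqQ
  · have := Fact.mk hp
    have := Fact.mk hq
    have := hnil
    obtain ⟨x, hx⟩ := exists_prime_orderOf_dvd_card' (G := H) p hpH
    obtain ⟨y, hy⟩ := exists_prime_orderOf_dvd_card' (G := H) q hqH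
    have hc : (orderOf x).Coprime (orderOf y) := by rw [hx, hy]; exact (Nat.coprime_primes hp hq).2 hpq
    refine ⟨((x * y : H) : G), ?_⟩
    rw [Subgroup.orderOf_coe, (show Commute x y from FrobeniusNilpotent.commute_of_coprime x y hc)
      |>.orderOf_mul_eq_mul_orderOf_of_coprime hc, hx, hy]
  · exact d.exists_fixed hnil hC hcop hp hq hpq hpH hqQ
  · rw [mul_comm]
    exact d.exists_fixed hnil hC hcop hq hp (Ne.symm hpq) hqH hpQ
  · obtain ⟨c, hc⟩ := hQ.exists_ofOrder_eq_natCard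
    obtain ⟨g, rfl⟩ := QuotientGroup.mk'_surjective K c
    obtain ⟨h, hh⟩ := exists_pow_orderOf (g := g) (n := p * q) (by
      refine dvd_trans ?_ (orderOf_map_dvd (QuotientGroup.mk' K) g)
      rw [hc]
      exact ((Nat.coprime_primes hp hq).2 hpq).mul_dvd_of_dvd_of_dvd hpQ hqQ)
    exact ⟨h, hh⟩

end Cfsg.Agent.FrobeniusTwo
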