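import Mathlib

/-!
Every non-scalar element of `SL_n(K)`, `n ≥ 3`, `4 ≤ #K`, is a product of two conjugates
(in `GL_n`) of the regular unipotent Jordan block.
-/

set_option autoImplicit false

open scoped Matrix
open Matrix

namespace FrobeniusTwoJordan

variable {K : Type*} [Field K]

/-- `4 ≤ #K`: a finite set with at most three elements misses some element. -/
def Four (K : Type*) : Prop := ∀ s : Finset K, s.card ≤ 3 → ∃ x, x ∉ s

theorem four_of_le (h : 4 ≤ Cardinal.mk K) : Four K := by
  intro s hs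
  by_contra! hall
  have hf : (Set.univ : Set K) = ↑s := by
    ext x; simp [hall x]
  have h1 : Cardinal.mk K = s.card := by
    rw [← Cardinal.mk_univ, hf]; exact Cardinal.mk_coe_finset
  rw [h1] at h
  have : 4 ≤ s.card := by exact_mod_cast h
  omega

section Linear

variable {V : Type*} [AddCommGroup V] [Module K V]

theorem smul_sub_mem {T : Submodule K V} {p : V} (hp : p ∉ T) {y : V} {r s : K}
    (h1 : y + r • p ∈ T) (h2 : y + s • p ∈ T) : r = s := by
  by_contra hrs
  apply hp
  have h := T.sub_mem h1 h2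
  rw [add_sub_add_left_eq_sub, ← sub_smul] at h
  simpa [smul_smul, inv_mul_cancel₀ (sub_ne_zero.2 hrs)] using T.smul_mem (r - s)⁻¹ h

/-- At most four proper subspaces do not cover. -/
theorem exists_notMem (h4 : Four K) : ∀ L : List (Submodule K V), L.length ≤ 4 →
    (∀ T ∈ L, T ≠ ⊤) → ∃ p : V, ∀ T ∈ L, p ∉ T := by
  classical
  intro L
  induction L with
  | nil => intro _ _; exact ⟨0, by simp⟩
  | cons S L ih =>
    intro hlen hL
    simp only [List.length_cons] at hlen
    obtain ⟨p, hp⟩ := ih (by omega) fun T hT => hL T (List.mem_cons_of_mem _ hT)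
    by_cases hpS : p ∈ S
    swap
    · exact ⟨p, fun T hT => by
        rcases List.mem_cons.1 hT with rfl | hT
        exacts [hpS, hp T hT]⟩
    obtain ⟨y, hy⟩ : ∃ y, y ∉ S := by
      by_contra! h
      exact hL S List.mem_cons_self (eq_top_iff.2 fun x _ => h x)
    let g : Submodule K V → K := fun T =>
      if h : ∃ r : K, y + r • p ∈ T then h.choose else 0
    obtain ⟨r, hr⟩ := h4 (L.toFinset.image g)
      ((Finset.card_image_le.trans L.toFinset_card_le).trans (by omega))
    refine ⟨y + r • p, fun T hT hmem => ?_⟩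
    rcases List.mem_cons.1 hT with rfl | hT
    · exact hy (by simpa using (Submodule.add_mem_iff_left T (T.smul_mem r hpS)).1 hmem)
    · apply hr
      refine Finset.mem_image.2 ⟨T, List.mem_toFinset.2 hT, ?_⟩
      have h : ∃ r : K, y + r • p ∈ T := ⟨r, hmem⟩
      simp only [g, dif_pos h]
      exact smul_sub_mem (hp T hT) h.choose_spec hmem

/-- Prescribing a linear functional on an independent family. -/
theorem exists_dual {ι : Type*} {w : ι → V} (hw : LinearIndependent K w) (t : ι → K) :
    ∃ f : V →ₗ[K] K, ∀ i, f (w i) = t i := by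
  classical
  let b := Module.Basis.span hw
  obtain ⟨f, hf⟩ := LinearMap.exists_extend (b.constr K t)
  refine ⟨f, fun i => ?_⟩
  have h : f (w i) = (f.comp (Submodule.subtype _)) (b i) := by simp [b, Module.Basis.span_apply]
  rw [h, hf, Module.Basis.constr_basis]

/-- An affine choice of functional avoiding up to three affine hyperplanes. -/
theorem exists_dual_avoid (h4 : Four K) (v u : V) : ∀ L : List (V × K), L.length ≤ 3 →
    (∀ x ∈ L, ∃ f : V →ₗ[K] K, f v = 1 ∧ f u = 0 ∧ f x.1 ≠ x.2) →
    (∃ f : V →ₗ[K] K, f v = 1 ∧ f u = 0) →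
    ∃ f : V →ₗ[K] K, f v = 1 ∧ f u = 0 ∧ ∀ x ∈ L, f x.1 ≠ x.2 := by
  classical
  intro L
  induction L with
  | nil => intro _ _ ⟨f, h1, h2⟩; exact ⟨f, h1, h2, by simp⟩
  | cons y L ih =>
    intro hlen hL h0
    simp only [List.length_cons] at hlen
    obtain ⟨p, hp1, hp2, hp⟩ := ih (by omega) (fun x hx => hL x (List.mem_cons_of_mem _ hx)) h0
    obtain ⟨p', hq1, hq2, hq⟩ := hL y List.mem_cons_self
    let g : V × K → K := fun x => (x.2 - p x.1) / ((p' - p) x.1)
    obtain ⟨r, hr⟩ := h4 ((y :: L).toFinset.image g)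
      ((Finset.card_image_le.trans (List.toFinset_card_le _)).trans (by simpa using hlen))
    refine ⟨p + r • (p' - p), by simp [hp1, hq1], by simp [hp2, hq2], fun x hx heq => ?_⟩
    have hxy : p x.1 ≠ x.2 ∨ p' x.1 ≠ x.2 := by
      rcases List.mem_cons.1 hx with rfl | hx
      exacts [Or.inr hq, Or.inl (hp x hx)]
    apply hr
    refine Finset.mem_image.2 ⟨x, List.mem_toFinset.2 hx, ?_⟩
    have hd : (p' - p) x.1 ≠ 0 := by
      intro h
      have hpp : p' x.1 = p x.1 := sub_eq_zero.1 (by simpa using h)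
      simp [h, hpp] at heq hxy
      exact hxy heq
    have heq' : p x.1 + r * (p' - p) x.1 = x.2 := by simpa using heq
    show (x.2 - p x.1) / (p' - p) x.1 = r
    rw [← heq', add_sub_cancel_left, mul_div_cancel_right₀ r hd]

end Linear

variable {n m : ℕ}

/-- Non-scalar and not of rank at most one. -/
def Good (M : Matrix (Fin n) (Fin n) K) : Prop :=
  (∀ k : K, M ≠ k • (1 : Matrix (Fin n) (Fin n) K)) ∧ ∀ a g : Fin n → K, M ≠ vecMulVec a g

/-- `v, M v, M² v` are independent. -/
def Indep3 (M : Matrix (Fin n) (Fin n) K) (v : Fin n → K) : Prop :=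
  LinearIndependent K ![v, M *ᵥ v, M *ᵥ (M *ᵥ v)]

/-- The bad parameters on a line through an `Indep3` vector number at most three. -/
theorem exists_bad_line {M : Matrix (Fin n) (Fin n) K} {x : Fin n → K} (hx : Indep3 M x)
    (p : Fin n → K) :
    ∃ s : Finset K, s.card ≤ 3 ∧ ∀ r, r ∉ s → Indep3 M (p + r • x) := by
  classical
  have hd : ∀ i : Fin 3, ∃ f : (Fin n → K) →ₗ[K] K,
      ∀ j, f (![x, M *ᵥ x, M *ᵥ (M *ᵥ x)] j) = if i = j then 1 else 0 :=
    fun i => exists_dual hx _
  choose f hf using hd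
  let R : Matrix (Fin 3) (Fin 3) K := of fun i j => f i (![p, M *ᵥ p, M *ᵥ (M *ᵥ p)] j)
  refine ⟨R.charpoly.roots.toFinset.image Neg.neg, ?_, fun r hr => ?_⟩
  · refine (Finset.card_image_le.trans (Multiset.toFinset_card_le _)).trans ?_
    refine (Polynomial.card_roots' _).trans ?_
    rw [charpoly_natDegree_eq_dim, Fintype.card_fin]
  · by_contra hnot
    apply hr
    rw [Indep3, Fintype.linearIndependent_iff] at hnot
    push Not at hnot
    obtain ⟨c, hc, i0, hi0⟩ := hnot
    refine Finset.mem_image.2 ⟨-r, Multiset.mem_toFinset.2 ?_, neg_neg r⟩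
    rw [Polynomial.mem_roots R.charpoly_monic.ne_zero, Polynomial.IsRoot, eval_charpoly]
    refine exists_mulVec_eq_zero_iff.1 ⟨c, fun h => hi0 (congrFun h i0), ?_⟩
    ext i
    have h := congrArg (f i) hc
    rw [map_sum, map_zero] at h
    have e : ∀ j : Fin 3, ![p + r • x, M *ᵥ (p + r • x), M *ᵥ (M *ᵥ (p + r • x))] j =
        ![p, M *ᵥ p, M *ᵥ (M *ᵥ p)] j + r • ![x, M *ᵥ x, M *ᵥ (M *ᵥ x)] j := by
      intro j; fin_cases j <;> simp [mulVec_add, mulVec_smul]
    simp only [map_smul, smul_eq_mul, e, map_add, hf] at h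
    have h' : ∀ j : Fin 3, (scalar (Fin 3) (-r) - R) i j * c j =
        -(c j * (f i (![p, M *ᵥ p, M *ᵥ (M *ᵥ p)] j) + r * if i = j then 1 else 0)) := by
      intro j
      by_cases hij : i = j <;> simp [R, hij, scalar_apply, diagonal_apply] <;> ring
    show ∑ j, (scalar (Fin 3) (-r) - R) i j * c j = 0
    rw [Finset.sum_congr rfl fun j _ => h' j, Finset.sum_neg_distrib, h, neg_zero]

/-- A two-dimensional image. -/
theorem exists_indep3_rankTwo (h4 : Four K) {M : Matrix (Fin n) (Fin n) K}
    (hdet : (1 + M).det = 1) {x : Fin n → K} (hx : Indep3 M x)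
    (hI : ∀ y, M *ᵥ y ∈ Submodule.span K {M *ᵥ x, M *ᵥ (M *ᵥ x)})
    (H S : Submodule K (Fin n → K)) (hH : H ≠ ⊤) (hS : S ≠ ⊤)
    (hker : ∀ y, M *ᵥ y = 0 → y ∈ S) :
    ∃ v, Indep3 M v ∧ v ∉ H ∧ v ∉ S := by
  classical
  set I : Submodule K (Fin n → K) := Submodule.span K {M *ᵥ x, M *ᵥ (M *ᵥ x)} with hIdef
  have hx' : ∀ a b c : K, a • x + b • (M *ᵥ x) + c • (M *ᵥ (M *ᵥ x)) = 0 →
      a = 0 ∧ b = 0 ∧ c = 0 := by
    intro a b c h
    have := Fintype.linearIndependent_iff.1 hx ![a, b, c] (by simpa [Fin.sum_univ_three] using h)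
    exact ⟨this 0, this 1, this 2⟩
  have hxI : x ∉ I := by
    intro h
    obtain ⟨b, c, h⟩ := Submodule.mem_span_pair.1 h
    obtain ⟨h1, -⟩ := hx' (-1) b c (by rw [neg_one_smul, add_assoc, h, neg_add_cancel])
    simp at h1
  obtain ⟨α, β, hαβ⟩ := Submodule.mem_span_pair.1 (hI (M *ᵥ (M *ᵥ x)))
  have hkill : ∀ w ∈ I, M *ᵥ (M *ᵥ w) = α • w + β • (M *ᵥ w) := by
    intro w hw
    obtain ⟨b, c, rfl⟩ := Submodule.mem_span_pair.1 hw
    simp only [mulVec_add, mulVec_smul, ← hαβ]
    module
  -- the possible eigenvalues on `I`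
  have hroots : ∀ v, M *ᵥ v ≠ 0 → ∀ ρ : K, M *ᵥ (M *ᵥ v) = ρ • (M *ᵥ v) → ρ * ρ = α + β * ρ := by
    intro v hv ρ hρ
    have h := hkill _ (hI v)
    rw [hρ, mulVec_smul, hρ, smul_smul, smul_smul, ← add_smul] at h
    exact smul_left_injective K hv h
  let E : K → Submodule K (Fin n → K) := fun ρ =>
    LinearMap.ker ((M * M - ρ • M).mulVecLin)
  have hE : ∀ ρ v, v ∈ E ρ ↔ M *ᵥ (M *ᵥ v) = ρ • (M *ᵥ v) := by
    intro ρ v
    simp only [E, LinearMap.mem_ker, mulVecLin_apply, sub_mulVec, smul_mulVec, ← mulVec_mulVec,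
      sub_eq_zero]
  have hEtop : ∀ ρ, E ρ ≠ ⊤ := by
    intro ρ h
    have h' := (hE ρ x).1 (h ▸ Submodule.mem_top)
    obtain ⟨-, -, h3⟩ := hx' 0 (-ρ) 1 (by rw [h']; module)
    exact one_ne_zero h3
  have hind : ∀ v, v ∉ I → v ∉ S → (∀ ρ, ρ * ρ = α + β * ρ → v ∉ E ρ) → Indep3 M v := by
    intro v hvI hvS hvE
    have hMv : M *ᵥ v ≠ 0 := fun h => hvS (hker v h)
    rw [Indep3, Fintype.linearIndependent_iff]
    intro g hg
    simp [Fin.sum_univ_three, -mulVec_mulVec] at hg
    have h0 : g 0 = 0 := by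
      by_contra h0
      apply hvI
      have : v = (g 0)⁻¹ • (-(g 1 • (M *ᵥ v)) - g 2 • (M *ᵥ (M *ᵥ v))) := by
        rw [eq_inv_smul_iff₀ h0, eq_sub_iff_add_eq, ← sub_eq_zero, ← hg]; abel
      rw [this]
      exact I.smul_mem _ (I.sub_mem (I.neg_mem (I.smul_mem _ (hI v))) (I.smul_mem _ (hI _)))
    have h2 : g 2 = 0 := by
      by_contra h2
      have hρ : M *ᵥ (M *ᵥ v) = (-(g 1) / g 2) • (M *ᵥ v) := by
        rw [h0, zero_smul, zero_add, add_comm, add_eq_zero_iff_eq_neg, ← neg_smul] at hg
        rw [div_eq_inv_mul, ← smul_smul, ← hg, inv_smul_smul₀ h2]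
      exact hvE _ (hroots v hMv _ hρ) ((hE _ v).2 hρ)
    have h1 : g 1 = 0 := by
      simpa [h0, h2, hMv] using hg
    intro i; fin_cases i <;> assumption
  -- the roots
  let R : Finset K := (Polynomial.X ^ 2 - (Polynomial.C β * Polynomial.X + Polynomial.C α)).roots.toFinset
  have hmon : (Polynomial.X ^ 2 - (Polynomial.C β * Polynomial.X + Polynomial.C α) : Polynomial K).Monic :=
    Polynomial.monic_X_pow_sub (by
      refine lt_of_le_of_lt Polynomial.degree_linear_le ?_; norm_num)
  have hRmem : ∀ ρ, ρ * ρ = α + β * ρ → ρ ∈ R := by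
    intro ρ h
    simp only [R, Multiset.mem_toFinset, Polynomial.mem_roots hmon.ne_zero, Polynomial.IsRoot,
      Polynomial.eval_sub, Polynomial.eval_pow, Polynomial.eval_X, Polynomial.eval_add,
      Polynomial.eval_mul, Polynomial.eval_C]
    linear_combination h
  have hRcard : R.card ≤ 2 := by
    refine (Multiset.toFinset_card_le _).trans ((Polynomial.card_roots' _).trans ?_)
    compute_degree
  have hIne : I ≠ ⊤ := fun h => hxI (h ▸ Submodule.mem_top)
  by_cases hz : ∃ z, M *ᵥ z = 0 ∧ z ∉ I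
  · obtain ⟨z, hz0, hzI⟩ := hz
    obtain ⟨p, hp⟩ := exists_notMem h4 (H :: S :: R.toList.map E)
      (by simp only [List.length_cons, List.length_map, Finset.length_toList]; omega)
      (by
        intro T hT
        simp only [List.mem_cons, List.mem_map] at hT
        rcases hT with rfl | rfl | ⟨ρ, -, rfl⟩
        exacts [hH, hS, hEtop ρ])
    simp only [List.mem_cons, List.mem_map, Finset.mem_toList] at hp
    have hpH : p ∉ H := hp H (Or.inl rfl)
    have hpS : p ∉ S := hp S (Or.inr (Or.inl rfl))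
    let g : Submodule K (Fin n → K) → K := fun T =>
      if h : ∃ r : K, p + r • z ∈ T then h.choose else 0
    obtain ⟨r, hr⟩ := h4 {g I, g H} (Finset.card_le_two.trans (by norm_num))
    have hvI : p + r • z ∉ I := by
      intro hmem
      have h : ∃ r : K, p + r • z ∈ I := ⟨r, hmem⟩
      apply hr
      simp only [Finset.mem_insert, g, dif_pos h]
      exact Or.inl (smul_sub_mem hzI hmem h.choose_spec)
    have hvH : p + r • z ∉ H := by
      intro hmem
      by_cases hzH : z ∈ H
      · exact hpH ((Submodule.add_mem_iff_left H (H.smul_mem r hzH)).1 hmem)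
      · have h : ∃ r : K, p + r • z ∈ H := ⟨r, hmem⟩
        apply hr
        simp only [Finset.mem_insert, Finset.mem_singleton, g, dif_pos h]
        exact Or.inr (smul_sub_mem hzH hmem h.choose_spec)
    have hvS : p + r • z ∉ S := fun hmem =>
      hpS ((Submodule.add_mem_iff_left S (S.smul_mem r (hker z hz0))).1 hmem)
    refine ⟨_, hind _ hvI hvS fun ρ hρ hmem => ?_, hvH, hvS⟩
    refine hp (E ρ) (Or.inr (Or.inr ⟨ρ, hRmem ρ hρ, rfl⟩)) ((hE ρ p).2 ?_)
    simpa [hz0, mulVec_add, mulVec_smul] using (hE ρ _).1 hmem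
  · push Not at hz
    -- the image contains the kernel: one eigenvalue
    have hn : Module.finrank K (LinearMap.range M.mulVecLin) = 2 := by
      have : LinearMap.range M.mulVecLin = I := by
        refine le_antisymm ?_ ?_
        · rintro _ ⟨y, rfl⟩; exact hI y
        · rw [hIdef, Submodule.span_le]
          rintro w (rfl | rfl)
          exacts [⟨x, rfl⟩, ⟨_, rfl⟩]
      rw [this, hIdef]
      have hli : LinearIndependent K ![M *ᵥ x, M *ᵥ (M *ᵥ x)] := by
        rw [LinearIndependent.pair_iff]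
        intro s t h
        obtain ⟨-, h1, h2⟩ := hx' 0 s t (by rw [zero_smul, zero_add]; exact h)
        exact ⟨h1, h2⟩
      have := finrank_span_eq_card hli
      rw [Matrix.range_cons_cons_empty, Fintype.card_fin] at this
      exact this
    have hker1 : Module.finrank K (LinearMap.ker M.mulVecLin) ≤ 1 := by
      have hle : LinearMap.ker M.mulVecLin ≤ I := fun y hy => hz y (by simpa using hy)
      by_contra! h
      have h2 : Module.finrank K I ≤ 2 := by
        have : I ≤ LinearMap.range M.mulVecLin := by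
          rw [hIdef, Submodule.span_le]
          rintro w (rfl | rfl)
          exacts [⟨x, rfl⟩, ⟨_, rfl⟩]
        exact hn ▸ Submodule.finrank_mono this
      have heq := Submodule.eq_of_le_of_finrank_le hle (by omega)
      have : M *ᵥ (M *ᵥ x) = 0 := by
        have : M *ᵥ x ∈ LinearMap.ker M.mulVecLin := heq ▸ Submodule.subset_span (Or.inl rfl)
        simpa using this
      obtain ⟨-, -, h3⟩ := hx' 0 0 1 (by rw [this]; simp)
      exact one_ne_zero h3
    have hsum := LinearMap.finrank_range_add_finrank_ker M.mulVecLin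
    rw [hn, Module.finrank_fin_fun] at hsum
    have hn3 : n = 3 := by
      have hc := hx.fintype_card_le_finrank
      rw [Fintype.card_fin, Module.finrank_fin_fun] at hc
      omega
    subst hn3
    have hα : α = 0 := by
      by_contra hα
      have : Module.finrank K (LinearMap.ker M.mulVecLin) = 0 := by
        rw [Submodule.finrank_eq_zero, eq_bot_iff]
        intro y hy
        have hy0 : M *ᵥ y = 0 := by simpa using hy
        have := hkill y (hz y hy0)
        rw [hy0, mulVec_zero, smul_zero, add_zero] at this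
        simpa [hα] using this.symm
      omega
    let C : Matrix (Fin 3) (Fin 3) K := of fun i j => ![x, M *ᵥ x, M *ᵥ (M *ᵥ x)] j i
    have hC : C.det ≠ 0 := by
      intro h
      obtain ⟨g, hg0, hg⟩ := exists_mulVec_eq_zero_iff.2 h
      apply hg0
      funext i
      refine Fintype.linearIndependent_iff.1 hx g ?_ i
      rw [← hg]
      funext a
      simp [C, mulVec, dotProduct, Finset.sum_apply, mul_comm]
    have hrel : (1 + M) * C = C * !![1, 0, 0; 1, 1, 0; 0, 1, 1 + β] := by
      ext i j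
      have e : ((1 + M) * C) i j = ((1 + M) *ᵥ ![x, M *ᵥ x, M *ᵥ (M *ᵥ x)] j) i := rfl
      rw [e, add_mulVec, one_mulVec, Pi.add_apply]
      have h3 : M *ᵥ (M *ᵥ (M *ᵥ x)) = β • (M *ᵥ (M *ᵥ x)) := by
        rw [← hαβ, hα, zero_smul, zero_add]
      fin_cases j <;> simp [C, mul_apply, Fin.sum_univ_three, h3, -mulVec_mulVec] <;> ring
    have hβ : β = 0 := by
      have h := congrArg det hrel
      rw [det_mul, det_mul, hdet, one_mul, mul_comm] at h
      nth_rw 1 [← one_mul C.det] at h
      have h' := mul_right_cancel₀ hC h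
      simpa [det_fin_three] using h'
    obtain ⟨v, hv⟩ := exists_notMem h4 [H, S, I, E 0] (by simp) (by
      intro T hT
      simp only [List.mem_cons, List.not_mem_nil, or_false] at hT
      rcases hT with rfl | rfl | rfl | rfl
      exacts [hH, hS, hIne, hEtop 0])
    simp only [List.mem_cons, List.not_mem_nil, or_false] at hv
    refine ⟨v, hind v (hv I (by simp)) (hv S (by simp)) fun ρ hρ => ?_, hv H (by simp),
      hv S (by simp)⟩
    have hρ0 : ρ = 0 := by simpa [hα, hβ] using hρ
    rw [hρ0]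
    exact hv (E 0) (by simp)

/-- An `Indep3` vector off two proper subspaces, the second being a preimage of a line. -/
theorem exists_indep3 (h4 : Four K) {M : Matrix (Fin n) (Fin n) K}
    (hdet : (1 + M).det = 1) {x : Fin n → K} (hx : Indep3 M x)
    (b : (Fin n → K) →ₗ[K] K) (c : Fin n → K)
    (hH : LinearMap.ker b ≠ ⊤) (hS : (Submodule.span K {c}).comap M.mulVecLin ≠ ⊤) :
    ∃ v, Indep3 M v ∧ b v ≠ 0 ∧ M *ᵥ v ∉ Submodule.span K {c} := by
  classical
  set H := LinearMap.ker b
  set S := (Submodule.span K {c}).comap M.mulVecLin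
  have key : ∀ y, Indep3 M y → y ∈ H → ∃ v, Indep3 M v ∧ v ∉ H ∧ v ∉ S := by
    intro y hy hyH
    by_cases hys : S ⊔ Submodule.span K {y} = ⊤
    · refine exists_indep3_rankTwo h4 hdet hy ?_ H S hH hS ?_
      · have h1 : ∀ w, M *ᵥ w ∈ Submodule.span K {M *ᵥ y, c} := by
          intro w
          obtain ⟨s, hs, t, ht, rfl⟩ := Submodule.mem_sup.1 (hys ▸ Submodule.mem_top (x := w))
          obtain ⟨r, rfl⟩ := Submodule.mem_span_singleton.1 ht
          obtain ⟨l, hl⟩ := Submodule.mem_span_singleton.1 hs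
          rw [mulVec_add, mulVec_smul, show M *ᵥ s = l • c from hl.symm]
          exact Submodule.mem_span_pair.2 ⟨r, l, by abel⟩
        intro w
        obtain ⟨a, l, hal⟩ := Submodule.mem_span_pair.1 (h1 (M *ᵥ y))
        have hl : l ≠ 0 := by
          rintro rfl
          have := Fintype.linearIndependent_iff.1 hy ![0, -a, 1]
            (by simp [Fin.sum_univ_three, ← hal]) 2
          simp at this
        obtain ⟨a', l', hw⟩ := Submodule.mem_span_pair.1 (h1 w)
        refine Submodule.mem_span_pair.2 ⟨a' - l' * l⁻¹ * a, l' * l⁻¹, ?_⟩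
        rw [← hw, ← hal, smul_add, smul_smul, smul_smul, mul_assoc l' l⁻¹ l,
          inv_mul_cancel₀ hl, mul_one]
        module
      · intro w hw
        simp [S, hw]
    · obtain ⟨p, hp⟩ := exists_notMem h4 [H, S ⊔ Submodule.span K {y}] (by simp) (by
        intro T hT
        simp only [List.mem_cons, List.not_mem_nil, or_false] at hT
        rcases hT with rfl | rfl
        exacts [hH, hys])
      obtain ⟨s, hs, hgood⟩ := exists_bad_line hy p
      obtain ⟨r, hr⟩ := h4 s hs
      refine ⟨p + r • y, hgood r hr, fun h => hp H (by simp)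
        ((Submodule.add_mem_iff_left H (H.smul_mem r hyH)).1 h), fun h => ?_⟩
      refine hp (S ⊔ Submodule.span K {y}) (by simp) ?_
      have hy' : r • y ∈ S ⊔ Submodule.span K {y} :=
        Submodule.smul_mem _ r (Submodule.mem_sup_right (Submodule.mem_span_singleton_self y))
      exact (Submodule.add_mem_iff_left _ hy').1 (Submodule.mem_sup_left h)
  suffices ∃ v, Indep3 M v ∧ v ∉ H ∧ v ∉ S by
    obtain ⟨v, h1, h2, h3⟩ := this
    exact ⟨v, h1, h2, h3⟩
  by_cases hxH : x ∈ H
  · exact key x hx hxH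
  by_cases hxS : x ∈ S
  swap
  · exact ⟨x, hx, hxH, hxS⟩
  obtain ⟨p, hpH, hpS⟩ : ∃ p, p ∈ H ∧ p ∉ S := by
    by_contra! h
    refine hS (eq_top_iff.2 fun w _ => ?_)
    have hb : b x ≠ 0 := hxH
    have := h (w - (b w / b x) • x) (by simp [H, div_mul_cancel₀ _ hb])
    simpa using S.add_mem this (S.smul_mem (b w / b x) hxS)
  by_cases hp : Indep3 M p
  · exact key p hp hpH
  obtain ⟨s, hs, hgood⟩ := exists_bad_line hx p
  obtain ⟨r, hr⟩ := h4 s hs
  have hr0 : r ≠ 0 := by
    rintro rfl
    exact hp (by simpa using hgood 0 hr)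
  refine ⟨p + r • x, hgood r hr, fun h => hxH ?_, fun h => hpS ?_⟩
  · exact (Submodule.smul_mem_iff H hr0).1 ((Submodule.add_mem_iff_right H hpH).1 h)
  · exact (Submodule.add_mem_iff_left S (S.smul_mem r hxS)).1 h

/-- Either there is an `Indep3` vector or `M` satisfies a quadratic equation. -/
theorem indep3_or_quadratic (M : Matrix (Fin n) (Fin n) K)
    (hM : ∀ k : K, M ≠ k • (1 : Matrix (Fin n) (Fin n) K)) :
    (∃ x, Indep3 M x) ∨ ∃ a β : K, M * M = a • M + β • 1 := by
  classical
  refine or_iff_not_imp_left.2 fun hno => ?_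
  push Not at hno
  obtain ⟨z, hz⟩ :=
    Module.exists_ker_toSpanSingleton_eq_annihilator (Polynomial K) (Module.AEval' M.mulVecLin)
  obtain ⟨x, rfl⟩ := (Module.AEval'.of M.mulVecLin).surjective z
  have hdep := hno x
  rw [Indep3, Fintype.linearIndependent_iff] at hdep
  push Not at hdep
  obtain ⟨g, hg, i0, hi0⟩ := hdep
  simp [Fin.sum_univ_three, -mulVec_mulVec] at hg
  let P : Polynomial K :=
    Polynomial.C (g 2) * Polynomial.X ^ 2 + Polynomial.C (g 1) * Polynomial.X + Polynomial.C (g 0)
  have hP : ∀ y, Polynomial.aeval M.mulVecLin P y =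
      g 2 • (M *ᵥ (M *ᵥ y)) + g 1 • (M *ᵥ y) + g 0 • y := by
    intro y; simp [P, pow_two, -mulVec_mulVec]
  have hmem : P ∈ LinearMap.ker (LinearMap.toSpanSingleton (Polynomial K) _
      (Module.AEval'.of M.mulVecLin x)) := by
    rw [LinearMap.mem_ker, LinearMap.toSpanSingleton_apply, ← Module.AEval.of_aeval_smul,
      Module.End.smul_def, hP, LinearEquiv.map_eq_zero_iff]
    rw [← hg]; abel
  rw [hz, Module.mem_annihilator] at hmem
  have hall : ∀ y, g 2 • (M *ᵥ (M *ᵥ y)) + g 1 • (M *ᵥ y) + g 0 • y = 0 := by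
    intro y
    have h := hmem (Module.AEval'.of M.mulVecLin y)
    rwa [← Module.AEval.of_aeval_smul, Module.End.smul_def, hP,
      LinearEquiv.map_eq_zero_iff] at h
  have heq : g 2 • (M * M) + g 1 • M + g 0 • (1 : Matrix (Fin n) (Fin n) K) = 0 := by
    refine ext_iff_mulVec.2 fun y => ?_
    rw [zero_mulVec, ← hall y]
    simp [add_mulVec, smul_mulVec, mulVec_mulVec]
  by_cases h2 : g 2 = 0
  · exfalso
    rw [h2, zero_smul, zero_add] at heq
    by_cases h1 : g 1 = 0
    · rw [h1, zero_smul, zero_add] at heq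
      by_cases h0 : g 0 = 0
      · fin_cases i0 <;> contradiction
      · have h01 : (1 : Matrix (Fin n) (Fin n) K) = 0 := (smul_eq_zero.1 heq).resolve_left h0
        exact hM 0 (by rw [zero_smul, ← mul_one M, h01, mul_zero])
    · apply hM (-(g 0) / g 1)
      rw [div_eq_inv_mul, ← smul_smul, neg_smul, ← eq_neg_of_add_eq_zero_left heq,
        inv_smul_smul₀ h1]
  · refine ⟨-(g 1) / g 2, -(g 0) / g 2, ?_⟩
    have h : g 2 • (M * M) = -(g 1) • M + -(g 0) • (1 : Matrix (Fin n) (Fin n) K) := by
      rw [← sub_eq_zero]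
      rw [← heq]
      simp only [neg_smul]
      abel
    rw [div_eq_inv_mul, div_eq_inv_mul, ← smul_smul, ← smul_smul, ← smul_add, ← h,
      inv_smul_smul₀ h2]

/-- The choice of the first basis vector and first coordinate functional. -/
theorem exists_step (h4 : Four K) {M : Matrix (Fin n) (Fin n) K}
    (hdet : (1 + M).det = 1) (hM : Good M) {c b : Fin n → K} (hc : c ≠ 0) (hb : b ≠ 0) :
    ∃ (v : Fin n → K) (f : (Fin n → K) →ₗ[K] K),
      f v = 1 ∧ f (M *ᵥ v) = 0 ∧ f c ≠ 0 ∧ b ⬝ᵥ v ≠ 0 ∧ M *ᵥ v ≠ 0 ∧ (∃ y, f (M *ᵥ y) ≠ 0) ∧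
      ((Indep3 M v ∧ f (M *ᵥ (M *ᵥ v)) ≠ M.trace) ∨ ∃ a β : K, M * M = a • M + β • 1) := by
  classical
  let bl : (Fin n → K) →ₗ[K] K :=
    { toFun := fun w => b ⬝ᵥ w
      map_add' := fun x y => dotProduct_add b x y
      map_smul' := fun r x => dotProduct_smul r b x }
  have hH : LinearMap.ker bl ≠ ⊤ := by
    intro h
    apply hb
    funext i
    have h1 : bl (Pi.single i 1) = 0 := LinearMap.mem_ker.1 (h ▸ Submodule.mem_top)
    simpa [bl] using h1
  have himg : ∀ u : Fin n → K, ∃ y, M *ᵥ y ∉ Submodule.span K {u} := by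
    intro u
    by_contra! h
    choose g hg using fun j => Submodule.mem_span_singleton.1 (h (Pi.single j 1))
    refine hM.2 u g (Matrix.ext fun i j => ?_)
    have := congrFun (hg j) i
    simpa [vecMulVec_apply, mul_comm] using this.symm
  have hS : (Submodule.span K {c}).comap M.mulVecLin ≠ ⊤ := by
    obtain ⟨y, hy⟩ := himg c
    intro h
    exact hy (show y ∈ (Submodule.span K {c}).comap M.mulVecLin from h ▸ Submodule.mem_top)
  have fin : ∀ v, LinearIndependent K ![v, M *ᵥ v] → M *ᵥ v ∉ Submodule.span K {c} →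
      ∀ y, y ∉ Submodule.span K {M *ᵥ v} →
        ∃ f : (Fin n → K) →ₗ[K] K, f v = 1 ∧ f (M *ᵥ v) = 0 ∧ f y ≠ 0 := by
    intro v hli _ y hy
    by_cases hy2 : y ∈ Submodule.span K {v, M *ᵥ v}
    · obtain ⟨f, hf⟩ := exists_dual hli ![1, 0]
      have h0 : f v = 1 := hf 0
      have h1 : f (M *ᵥ v) = 0 := hf 1
      refine ⟨f, h0, h1, ?_⟩
      obtain ⟨a, l, rfl⟩ := Submodule.mem_span_pair.1 hy2
      rw [map_add, map_smul, map_smul, h0, h1, smul_zero, add_zero, smul_eq_mul, mul_one]
      rintro rfl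
      exact hy (Submodule.mem_span_singleton.2 ⟨l, by simp⟩)
    · have hli3 : LinearIndependent K ![y, v, M *ᵥ v] := by
        refine linearIndependent_finCons.2 ⟨hli, ?_⟩
        simpa [Matrix.range_cons, Matrix.range_empty, Set.pair_comm] using hy2
      obtain ⟨f, hf⟩ := exists_dual hli3 ![1, 1, 0]
      exact ⟨f, hf 1, hf 2, by rw [show f y = 1 from hf 0]; exact one_ne_zero⟩
  have hcu : ∀ v, M *ᵥ v ∉ Submodule.span K {c} → c ∉ Submodule.span K {M *ᵥ v} := by
    intro v hv h
    obtain ⟨r, hr⟩ := Submodule.mem_span_singleton.1 h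
    have hr0 : r ≠ 0 := by rintro rfl; exact hc (by simpa using hr.symm)
    exact hv (Submodule.mem_span_singleton.2 ⟨r⁻¹, by rw [← hr, inv_smul_smul₀ hr0]⟩)
  rcases em (∃ x, Indep3 M x) with ⟨x, hx⟩ | hno
  · obtain ⟨v, hv, hbv, hcv⟩ := exists_indep3 h4 hdet hx bl c hH hS
    have hli : LinearIndependent K ![v, M *ᵥ v] := by
      rw [LinearIndependent.pair_iff]
      intro s t h
      have := Fintype.linearIndependent_iff.1 hv ![s, t, 0] (by simpa [Fin.sum_univ_three] using h)
      exact ⟨this 0, this 1⟩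
    have hpres : ∀ t : K, ∃ f : (Fin n → K) →ₗ[K] K,
        f v = 1 ∧ f (M *ᵥ v) = 0 ∧ f (M *ᵥ (M *ᵥ v)) ≠ t := by
      intro t
      obtain ⟨f, hf⟩ := exists_dual hv ![1, 0, t + 1]
      exact ⟨f, hf 0, hf 1, by rw [show f (M *ᵥ (M *ᵥ v)) = t + 1 from hf 2]; simp⟩
    obtain ⟨f, h0, h1, hf⟩ := exists_dual_avoid h4 v (M *ᵥ v)
      [(c, 0), (M *ᵥ (M *ᵥ v), 0), (M *ᵥ (M *ᵥ v), M.trace)] (by simp) (by
        intro y hy
        simp only [List.mem_cons, List.not_mem_nil, or_false] at hy
        rcases hy with rfl | rfl | rfl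
        exacts [fin v hli hcv c (hcu v hcv), hpres 0, hpres _])
      ((hpres 0).imp fun f h => ⟨h.1, h.2.1⟩)
    refine ⟨v, f, h0, h1, hf (c, 0) List.mem_cons_self, hbv, fun h => hcv (by simp [h]),
      ⟨_, hf (M *ᵥ (M *ᵥ v), 0) (List.mem_cons_of_mem _ List.mem_cons_self)⟩, Or.inl ⟨hv, hf (M *ᵥ (M *ᵥ v), M.trace) (List.mem_cons_of_mem _ (List.mem_cons_of_mem _ List.mem_cons_self))⟩⟩
  · obtain ⟨a, β, hq⟩ := (indep3_or_quadratic M hM.1).resolve_left hno
    let R : Finset K :=
      (Polynomial.X ^ 2 - (Polynomial.C a * Polynomial.X + Polynomial.C β)).roots.toFinset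
    have hmon : (Polynomial.X ^ 2 - (Polynomial.C a * Polynomial.X + Polynomial.C β) :
        Polynomial K).Monic :=
      Polynomial.monic_X_pow_sub (by
        refine lt_of_le_of_lt Polynomial.degree_linear_le ?_; norm_num)
    have hRcard : R.card ≤ 2 := by
      refine (Multiset.toFinset_card_le _).trans ((Polynomial.card_roots' _).trans ?_)
      compute_degree
    let E : K → Submodule K (Fin n → K) := fun ρ => LinearMap.ker ((M - ρ • 1).mulVecLin)
    have hE : ∀ ρ v, v ∈ E ρ ↔ M *ᵥ v = ρ • v := by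
      intro ρ v
      simp [E, sub_mulVec, smul_mulVec, sub_eq_zero]
    obtain ⟨v, hv⟩ := exists_notMem h4
      (LinearMap.ker bl :: (Submodule.span K {c}).comap M.mulVecLin :: R.toList.map E)
      (by simp only [List.length_cons, List.length_map, Finset.length_toList]; omega)
      (by
        intro T hT
        simp only [List.mem_cons, List.mem_map] at hT
        rcases hT with rfl | rfl | ⟨ρ, -, rfl⟩
        · exact hH
        · exact hS
        · intro h
          apply hM.1 ρ
          refine ext_iff_mulVec.2 fun y => ?_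
          rw [(hE ρ y).1 (h ▸ Submodule.mem_top), smul_mulVec, one_mulVec])
    simp only [List.mem_cons, List.mem_map, Finset.mem_toList] at hv
    have hbv : b ⬝ᵥ v ≠ 0 := fun h => hv _ (Or.inl rfl) h
    have hcv : M *ᵥ v ∉ Submodule.span K {c} := fun h => hv _ (Or.inr (Or.inl rfl)) h
    have hv0 : v ≠ 0 := by rintro rfl; simp at hbv
    have hli : LinearIndependent K ![v, M *ᵥ v] := by
      rw [LinearIndependent.pair_iff' hv0]
      intro ρ hρ
      refine hv (E ρ) (Or.inr (Or.inr ⟨ρ, ?_, rfl⟩)) ((hE ρ v).2 hρ.symm)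
      simp only [R, Multiset.mem_toFinset, Polynomial.mem_roots hmon.ne_zero, Polynomial.IsRoot,
        Polynomial.eval_sub, Polynomial.eval_pow, Polynomial.eval_X, Polynomial.eval_add,
        Polynomial.eval_mul, Polynomial.eval_C]
      have h := congrArg (· *ᵥ v) hq
      simp only [← mulVec_mulVec, add_mulVec, smul_mulVec, one_mulVec, ← hρ, mulVec_smul,
        smul_smul, ← add_smul] at h
      linear_combination smul_left_injective K hv0 h
    obtain ⟨y, hy⟩ := himg (M *ᵥ v)
    obtain ⟨f, h0, h1, hf⟩ := exists_dual_avoid h4 v (M *ᵥ v) [(c, 0), (M *ᵥ y, 0)] (by simp) (by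
      intro z hz
      simp only [List.mem_cons, List.not_mem_nil, or_false] at hz
      rcases hz with rfl | rfl
      exacts [fin v hli hcv c (hcu v hcv), fin v hli hcv _ hy])
      ((fin v hli hcv c (hcu v hcv)).imp fun f h => ⟨h.1, h.2.1⟩)
    exact ⟨v, f, h0, h1, hf (c, 0) List.mem_cons_self, hbv, fun h => hcv (by simp [h]),
      ⟨y, hf (M *ᵥ y, 0) (List.mem_cons_of_mem _ List.mem_cons_self)⟩, Or.inr ⟨a, β, hq⟩⟩

/-- A matrix in blocks `1 + m`. -/
def bl (x : K) (r c : Fin m → K) (D : Matrix (Fin m) (Fin m) K) :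
    Matrix (Fin (m + 1)) (Fin (m + 1)) K :=
  of (Fin.cons (Fin.cons x r) fun i => Fin.cons (c i) (D i))

theorem bl_eta (M : Matrix (Fin (m + 1)) (Fin (m + 1)) K) :
    M = bl (M 0 0) (fun j => M 0 j.succ) (fun i => M i.succ 0)
      (M.submatrix Fin.succ Fin.succ) := by
  ext i j
  cases i using Fin.cases <;> cases j using Fin.cases <;> simp [bl]

theorem bl_inj {x x' : K} {r r' c c' : Fin m → K} {D D' : Matrix (Fin m) (Fin m) K}
    (h : bl x r c D = bl x' r' c' D') : x = x' ∧ r = r' ∧ c = c' ∧ D = D' := by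
  have e : ∀ i j, bl x r c D i j = bl x' r' c' D' i j := fun i j => by rw [h]
  refine ⟨by simpa [bl] using e 0 0, funext fun j => ?_, funext fun i => ?_, Matrix.ext fun i j => ?_⟩
  · simpa [bl] using e 0 j.succ
  · simpa [bl] using e i.succ 0
  · simpa [bl] using e i.succ j.succ

theorem bl_mul (x x' : K) (r r' c c' : Fin m → K) (D D' : Matrix (Fin m) (Fin m) K) :
    bl x r c D * bl x' r' c' D' =
      bl (x * x' + r ⬝ᵥ c') (x • r' + r ᵥ* D') (x' • c + D *ᵥ c') (vecMulVec c r' + D * D') := by
  ext i j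
  cases i using Fin.cases <;> cases j using Fin.cases <;>
    simp [bl, mul_apply, Fin.sum_univ_succ, vecMulVec_apply, dotProduct, mulVec, vecMul, mul_comm]

theorem bl_add (x x' : K) (r r' c c' : Fin m → K) (D D' : Matrix (Fin m) (Fin m) K) :
    bl x r c D + bl x' r' c' D' = bl (x + x') (r + r') (c + c') (D + D') := by
  ext i j
  cases i using Fin.cases <;> cases j using Fin.cases <;> simp [bl]

theorem bl_smul (k x : K) (r c : Fin m → K) (D : Matrix (Fin m) (Fin m) K) :
    k • bl x r c D = bl (k * x) (k • r) (k • c) (k • D) := by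
  ext i j
  cases i using Fin.cases <;> cases j using Fin.cases <;> simp [bl]

theorem bl_one : bl (1 : K) (0 : Fin m → K) 0 1 = 1 := by
  ext i j
  cases i using Fin.cases <;> cases j using Fin.cases <;>
    simp [bl, one_apply, (Fin.succ_ne_zero _).symm]

theorem bl_transpose (x : K) (r c : Fin m → K) (D : Matrix (Fin m) (Fin m) K) :
    (bl x r c D)ᵀ = bl x c r Dᵀ := by
  ext i j
  cases i using Fin.cases <;> cases j using Fin.cases <;> simp [bl]

theorem det_bl_upper (x : K) (r : Fin m → K) (D : Matrix (Fin m) (Fin m) K) :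
    (bl x r 0 D).det = x * D.det := by
  rw [det_succ_column_zero, Fin.sum_univ_succ]
  have : (bl x r 0 D).submatrix (Fin.succAbove 0) Fin.succ = D := by
    ext i j; simp [bl]
  rw [this]
  simp [bl]

theorem det_bl_lower (x : K) (c : Fin m → K) (D : Matrix (Fin m) (Fin m) K) :
    (bl x 0 c D).det = x * D.det := by
  rw [← det_transpose, bl_transpose, det_bl_upper, det_transpose]

theorem trace_bl (x : K) (r c : Fin m → K) (D : Matrix (Fin m) (Fin m) K) :
    (bl x r c D).trace = x + D.trace := by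
  simp [Matrix.trace, bl, Fin.sum_univ_succ]

theorem bl_mulVec (x y : K) (r c w : Fin m → K) (D : Matrix (Fin m) (Fin m) K) :
    bl x r c D *ᵥ Fin.cons y w = Fin.cons (x * y + r ⬝ᵥ w) (y • c + D *ᵥ w) := by
  funext i
  cases i using Fin.cases <;> simp [bl, mulVec, dotProduct, Fin.sum_univ_succ, mul_comm]

theorem vecMulVec_ne_smul_one {n : ℕ} (hn : 2 ≤ n) {a g : Fin n → K} (ha : a ≠ 0) (hg : g ≠ 0)
    (μ : K) : vecMulVec a g ≠ μ • (1 : Matrix (Fin n) (Fin n) K) := by
  intro h
  obtain ⟨i, hi⟩ := Function.ne_iff.1 ha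
  obtain ⟨j, hj⟩ := Function.ne_iff.1 hg
  have hij : i = j := by
    by_contra hne
    have := congrFun (congrFun h i) j
    simp [vecMulVec_apply, one_apply, hne] at this
    tauto
  obtain ⟨l, hl⟩ : ∃ l : Fin n, l ≠ i := by
    by_cases h0 : i.val = 0
    · exact ⟨⟨1, by omega⟩, fun h => by rw [← h] at h0; simp at h0⟩
    · exact ⟨⟨0, by omega⟩, fun h => h0 (by rw [← h])⟩
  subst hij
  have h1 := congrFun (congrFun h i) i
  have h2 := congrFun (congrFun h l) l
  have h3 := congrFun (congrFun h l) i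
  simp [vecMulVec_apply, one_apply, hl] at h1 h2 h3
  have hμ : μ ≠ 0 := fun h => mul_ne_zero hi hj (by rw [h1, h])
  rcases h3 with h3 | h3
  · exact hμ (by rw [← h2, h3, zero_mul])
  · exact hj h3

theorem det_one_add_vecMulVec' {n : ℕ} (a g : Fin n → K) :
    (1 + vecMulVec a g).det = 1 + g ⬝ᵥ a := by
  rw [vecMulVec_eq Unit, det_one_add_replicateCol_mul_replicateRow]

/-- Upper unitriangular with non-zero superdiagonal. -/
def RegU (U : Matrix (Fin n) (Fin n) K) : Prop :=
  (∀ i j : Fin n, j < i → U i j = 0) ∧ (∀ i, U i i = 1) ∧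
    ∀ i j : Fin n, j.val = i.val + 1 → U i j ≠ 0

theorem regU_bl {U : Matrix (Fin m) (Fin m) K} (hU : RegU U) {r : Fin m → K}
    (hr : ∀ j : Fin m, j.val = 0 → r j ≠ 0) : RegU (bl 1 r 0 U) := by
  obtain ⟨h1, h2, h3⟩ := hU
  refine ⟨fun i j hij => ?_, fun i => ?_, fun i j hij => ?_⟩
  · cases i using Fin.cases with
    | zero => exact absurd hij (Fin.not_lt_zero _)
    | succ i =>
      cases j using Fin.cases with
      | zero => simp [bl]
      | succ j => simpa [bl] using h1 i j (Fin.succ_lt_succ_iff.1 hij)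
  · cases i using Fin.cases <;> simp [bl, h2]
  · cases i using Fin.cases with
    | zero =>
      cases j using Fin.cases with
      | zero => simp at hij
      | succ j => simpa [bl] using hr j (by simpa using hij)
    | succ i =>
      cases j using Fin.cases with
      | zero => simp at hij
      | succ j => simpa [bl] using h3 i j (by simpa using hij)

/-- Similarity to a product of regular lower and upper unitriangular matrices. -/
theorem exists_lu (h4 : Four K) : ∀ (m : ℕ) (M : Matrix (Fin (m + 1)) (Fin (m + 1)) K),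
    (1 + M).det = 1 → (1 ≤ m → Good M) → ∀ c b : Fin (m + 1) → K, c ≠ 0 → b ≠ 0 →
      ∃ Q R L U : Matrix (Fin (m + 1)) (Fin (m + 1)) K,
        Q * R = 1 ∧ RegU Lᵀ ∧ RegU U ∧ Q * (1 + M) * R = L * U ∧
          (Q *ᵥ c) 0 ≠ 0 ∧ (b ᵥ* R) 0 ≠ 0 := by
  intro m
  induction m with
  | zero =>
    intro M hdet _ c b hc hb
    have h1 : RegU (1 : Matrix (Fin 1) (Fin 1) K) :=
      ⟨fun i j h => absurd h (by omega), fun i => by simp, fun i j h => absurd h (by omega)⟩
    refine ⟨1, 1, 1, 1, one_mul 1, by simpa using h1, h1, ?_, ?_, ?_⟩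
    · have : 1 + M = 1 := by
        ext i j
        rw [Fin.eq_zero i, Fin.eq_zero j]
        rw [det_fin_one] at hdet
        simpa using hdet
      simp [this]
    · rw [one_mulVec]; exact fun h => hc (funext fun i => by rw [Fin.eq_zero i]; exact h)
    · rw [vecMul_one]; exact fun h => hb (funext fun i => by rw [Fin.eq_zero i]; exact h)
  | succ k ih =>
    intro M hdet hgood c b hc hb
    obtain ⟨v, f, hfv, hfu, hfc, hbv, hu, ⟨y0, hy0⟩, hcase⟩ :=
      exists_step h4 hdet (hgood (by omega)) hc hb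
    -- a basis starting with `v`, completed inside the kernel of `f`
    have hfin : Module.finrank K (LinearMap.ker f) = k + 1 := by
      have h1 : LinearMap.range f = ⊤ := LinearMap.range_eq_top.2 fun t =>
        ⟨t • v, by rw [map_smul, hfv, smul_eq_mul, mul_one]⟩
      have h2 := LinearMap.finrank_range_add_finrank_ker f
      rw [h1, finrank_top, Module.finrank_self, Module.finrank_fin_fun] at h2
      omega
    let B := Module.finBasisOfFinrankEq K _ hfin
    let R₁ : Matrix (Fin (k + 2)) (Fin (k + 2)) K :=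
      of fun i j => (Fin.cons v (fun l => (B l : Fin (k + 2) → K)) : Fin (k + 2) → Fin (k + 2) → K) j i
    have hR : ∀ y, R₁ *ᵥ y = y 0 • v + ∑ l, y l.succ • (B l : Fin (k + 2) → K) := by
      intro y; funext i
      simp [R₁, mulVec, dotProduct, Fin.sum_univ_succ, Finset.sum_apply, mul_comm]
    have hfR : ∀ y, f (R₁ *ᵥ y) = y 0 := by
      intro y
      rw [hR, map_add, map_smul, hfv, map_sum, Finset.sum_eq_zero fun l _ => ?_, add_zero,
        smul_eq_mul, mul_one]
      rw [map_smul, LinearMap.mem_ker.1 (B l).2, smul_zero]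
    have hRdet : IsUnit R₁.det := by
      rw [isUnit_iff_ne_zero]
      intro h
      obtain ⟨y, hy, hy'⟩ := exists_mulVec_eq_zero_iff.2 h
      apply hy
      have h0 : y 0 = 0 := by rw [← hfR y, hy', map_zero]
      rw [hR, h0, zero_smul, zero_add] at hy'
      have hsum : ∑ l, y l.succ • B l = 0 := by
        apply Subtype.ext
        simpa using hy'
      funext i
      cases i using Fin.cases with
      | zero => exact h0
      | succ l => exact Fintype.linearIndependent_iff.1 B.linearIndependent _ hsum l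
    have hRQ : R₁ * R₁⁻¹ = 1 := mul_nonsing_inv _ hRdet
    have hQR : R₁⁻¹ * R₁ = 1 := nonsing_inv_mul _ hRdet
    have hf : ∀ w, (R₁⁻¹ *ᵥ w) 0 = f w := by
      intro w; rw [← hfR (R₁⁻¹ *ᵥ w), mulVec_mulVec, hRQ, one_mulVec]
    have hRe : R₁ *ᵥ Fin.cons 1 0 = v := by
      rw [hR]; simp
    set M₁ := R₁⁻¹ * M * R₁ with hM₁
    have hM₁R : ∀ y, R₁ *ᵥ (M₁ *ᵥ y) = M *ᵥ (R₁ *ᵥ y) := by
      intro y
      rw [mulVec_mulVec, mulVec_mulVec, hM₁, ← mul_assoc, ← mul_assoc, hRQ, one_mul]
    obtain ⟨x, b', c', D, hM⟩ : ∃ x b' c' D, M₁ = bl x b' c' D := ⟨_, _, _, _, bl_eta M₁⟩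
    have hcol : M₁ *ᵥ Fin.cons 1 0 = Fin.cons x c' := by
      rw [hM, bl_mulVec]; simp
    have hx : x = 0 := by
      have h := hfR (M₁ *ᵥ Fin.cons 1 0)
      rw [hM₁R, hRe, hfu, hcol] at h
      simpa using h.symm
    subst hx
    have hc' : c' ≠ 0 := by
      rintro rfl
      apply hu
      rw [← hRe, ← hM₁R, hcol]
      have : (Fin.cons 0 0 : Fin (k + 2) → K) = 0 := by
        funext i; cases i using Fin.cases <;> simp
      rw [this, mulVec_zero]
    have hb' : b' ≠ 0 := by
      rintro rfl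
      apply hy0
      have h := hfR (M₁ *ᵥ (R₁⁻¹ *ᵥ y0))
      rw [hM₁R, mulVec_mulVec y0 R₁, hRQ, one_mulVec] at h
      rw [h, hM]
      simp [bl, mulVec, dotProduct, Fin.sum_univ_succ]
    set P := D - vecMulVec c' b' with hPdef
    have hD : D = P + vecMulVec c' b' := by rw [hPdef, sub_add_cancel]
    have hconj : R₁⁻¹ * (1 + M) * R₁ = 1 + M₁ := by
      rw [mul_add, add_mul, mul_one, hQR]
    have h1M : 1 + M₁ = bl 1 b' c' (1 + D) := by
      rw [hM, ← bl_one, bl_add]; simp
    have hdet₁ : (1 + M₁).det = 1 := by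
      rw [← hconj, det_mul, det_mul, mul_comm R₁⁻¹.det, mul_assoc, ← det_mul R₁⁻¹, hQR, det_one,
        mul_one, hdet]
    have hdetP : (1 + P).det = 1 := by
      have hfac : bl 1 b' c' (1 + D) = bl 1 0 c' 1 * bl 1 b' 0 (1 + P) := by
        rw [bl_mul, hD]
        congr 1 <;> simp <;> abel
      rw [h1M, hfac, det_mul, det_bl_lower, det_bl_upper, det_one] at hdet₁
      simpa using hdet₁
    have hgoodP : 1 ≤ k → Good P := by
      intro hk
      have hrank : ∀ p q : Fin (k + 1) → K, P = vecMulVec p q →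
          P * P = 0 ∧ P.trace = 0 := by
        intro p q hpq
        have h0 : q ⬝ᵥ p = 0 := by
          have := hdetP
          rw [hpq, det_one_add_vecMulVec'] at this
          simpa using this
        refine ⟨?_, ?_⟩
        · rw [hpq, vecMulVec_mul_vecMulVec, h0]; ext i j; simp [vecMulVec_apply]
        · rw [hpq, trace_vecMulVec, dotProduct_comm, h0]
      have hsq : M₁ *ᵥ (M₁ *ᵥ Fin.cons 1 0) =
          Fin.cons (b' ⬝ᵥ c') (P *ᵥ c' + (b' ⬝ᵥ c') • c') := by
        rw [hcol, hM, bl_mulVec]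
        congr 1
        · simp
        · rw [zero_smul, zero_add, hD, add_mulVec, vecMulVec_mulVec]
          simp
      rcases hcase with ⟨hind, htr⟩ | ⟨a, β, hq⟩
      · refine ⟨fun κ hκ => ?_, fun p q hpq => ?_⟩
        · have h : M *ᵥ (M *ᵥ v) = (b' ⬝ᵥ c') • v + (κ + b' ⬝ᵥ c') • (M *ᵥ v) := by
            rw [← hRe, ← hM₁R, ← hM₁R, hsq, ← mulVec_smul, ← mulVec_smul, ← mulVec_add, hcol, hκ]
            congr 1
            funext i
            cases i using Fin.cases <;> simp [smul_mulVec, add_mul]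
          have := Fintype.linearIndependent_iff.1 hind
            ![-(b' ⬝ᵥ c'), -(κ + b' ⬝ᵥ c'), 1]
            (by simp [Fin.sum_univ_three, -mulVec_mulVec]; rw [h]; module) 2
          simp at this
        · apply htr
          have h := hfR (M₁ *ᵥ (M₁ *ᵥ Fin.cons 1 0))
          rw [hM₁R, hM₁R, hRe, hsq] at h
          have ht : M.trace = M₁.trace := by
            rw [hM₁, trace_mul_cycle, hRQ, one_mul]
          rw [h, ht, hM, trace_bl, hD, trace_add, trace_vecMulVec, (hrank p q hpq).2]
          simp [dotProduct_comm]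
      · have hq₁ : M₁ * M₁ = a • M₁ + β • 1 := by
          have e : M₁ * M₁ = R₁⁻¹ * (M * M) * R₁ := by
            simp only [hM₁, mul_assoc]
            rw [← mul_assoc R₁ R₁⁻¹, hRQ, one_mul]
          rw [e, hq, mul_add, add_mul, mul_smul_comm, smul_mul_assoc, ← hM₁, mul_smul_comm,
            smul_mul_assoc, mul_one, hQR]
        rw [hM, ← bl_one, bl_smul, bl_smul, bl_mul, bl_add] at hq₁
        obtain ⟨e00, er, ec, eD⟩ := bl_inj hq₁
        simp only [zero_smul, zero_add, smul_zero, add_zero, mul_zero, zero_mul, mul_one] at e00 er ec eD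
        have hCC : vecMulVec c' b' * vecMulVec c' b' = β • vecMulVec c' b' := by
          rw [vecMulVec_mul_vecMulVec, e00]; ext i j; simp [vecMulVec_apply]; ring
        have hPc : P *ᵥ c' = (a - β) • c' := by
          rw [hPdef, sub_mulVec, ec, vecMulVec_mulVec, e00, sub_smul]
          simp
        have hbP : b' ᵥ* P = (a - β) • b' := by
          rw [hPdef, vecMul_sub, er, vecMul_vecMulVec, e00, sub_smul]
        refine ⟨fun κ hκ => ?_, fun p q hpq => ?_⟩
        · have ha : a - β = κ := by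
            rw [hκ, smul_mulVec, one_mulVec] at hPc
            exact (smul_left_injective K hc' hPc).symm
          have hκ1 : 1 + κ ≠ 0 := by
            intro h
            rw [hκ, show (1 : Matrix (Fin (k + 1)) (Fin (k + 1)) K) + κ • 1 = (1 + κ) • 1 by
              rw [add_smul, one_smul], h, zero_smul, det_zero] at hdetP
            exact zero_ne_one hdetP
          rw [hD, hκ] at eD
          simp only [mul_add, add_mul, smul_mul_assoc, mul_smul_comm, one_mul, mul_one, hCC,
            smul_add, smul_smul] at eD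
          refine vecMulVec_ne_smul_one (by omega) hc' hb' (-(κ * κ - a * κ - β) / (1 + κ)) ?_
          ext i j
          have e := congrFun (congrFun eD i) j
          simp only [Matrix.add_apply, Matrix.smul_apply, smul_eq_mul] at e
          simp only [Matrix.smul_apply, smul_eq_mul]
          field_simp
          linear_combination e + ((vecMulVec c' b') i j) * ha
        · obtain ⟨hPP, -⟩ := hrank p q hpq
          have haβ : a - β = 0 := by
            have h : P *ᵥ (P *ᵥ c') = 0 := by rw [mulVec_mulVec, hPP, zero_mulVec]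
            rw [hPc, mulVec_smul, hPc, smul_smul] at h
            exact mul_self_eq_zero.1 ((smul_eq_zero.1 h).resolve_right hc')
          have hPC : P * vecMulVec c' b' = 0 := by
            rw [mul_vecMulVec, hPc, haβ]; ext i j; simp [vecMulVec_apply]
          have hCP : vecMulVec c' b' * P = 0 := by
            rw [vecMulVec_mul, hbP, haβ]; ext i j; simp [vecMulVec_apply]
          rw [hD] at eD
          simp only [mul_add, add_mul, hPP, hPC, hCP, hCC, zero_add, smul_add,
            ← sub_eq_zero.1 haβ] at eD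
          have hC : vecMulVec c' b' = a • P + a • 1 := by
            rw [← sub_eq_zero, ← sub_eq_zero.2 eD]; abel
          have h0 : a • P = 0 := by
            rw [← hCP, hC, add_mul, smul_mul_assoc, hPP, smul_zero, zero_add, smul_mul_assoc,
              one_mul]
          rw [h0, zero_add] at hC
          exact vecMulVec_ne_smul_one (by omega) hc' hb' a hC
    obtain ⟨Q', R', L', U', hQR', hL', hU', heq, hc0, hb0⟩ := ih P hdetP hgoodP c' b' hc' hb'
    refine ⟨bl 1 0 0 Q' * R₁⁻¹, R₁ * bl 1 0 0 R', bl 1 0 (Q' *ᵥ c') L', bl 1 (b' ᵥ* R') 0 U',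
      ?_, ?_, regU_bl hU' ?_, ?_, ?_, ?_⟩
    · rw [mul_assoc, ← mul_assoc R₁⁻¹, hQR, one_mul, bl_mul]
      simp [hQR', bl_one]
    · rw [bl_transpose]
      exact regU_bl hL' fun j hj => by rwa [show j = 0 from Fin.ext hj]
    · exact fun j hj => by rwa [show j = 0 from Fin.ext hj]
    · calc bl 1 0 0 Q' * R₁⁻¹ * (1 + M) * (R₁ * bl 1 0 0 R')
          = bl 1 0 0 Q' * (R₁⁻¹ * (1 + M) * R₁) * bl 1 0 0 R' := by simp only [mul_assoc]
        _ = bl 1 0 (Q' *ᵥ c') L' * bl 1 (b' ᵥ* R') 0 U' := by
            rw [hconj, h1M, bl_mul, bl_mul, bl_mul]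
            have e : Q' * (1 + D) * R' = vecMulVec (Q' *ᵥ c') (b' ᵥ* R') + L' * U' := by
              rw [← heq, hD, ← add_assoc, mul_add, add_mul, mul_vecMulVec, vecMulVec_mul]; exact add_comm _ _
            congr 1
            · simp
            · simp
            · simp
            · simpa using e
    · have e : Fin.cons ((R₁⁻¹ *ᵥ c) 0) (Fin.tail (R₁⁻¹ *ᵥ c)) = R₁⁻¹ *ᵥ c :=
        Fin.cons_self_tail _
      rw [← mulVec_mulVec, ← e, bl_mulVec]
      simpa [hf] using hfc
    · have e : (b ᵥ* R₁) 0 = b ⬝ᵥ v := by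
        rw [← hRe, dotProduct_mulVec]
        simp [dotProduct, Fin.sum_univ_succ]
      rw [← vecMul_vecMul]
      simpa [vecMul, dotProduct, bl, Fin.sum_univ_succ, e] using (by rwa [← e] at hbv : (b ᵥ* R₁) 0 ≠ 0)

/-- The Krylov base change of a regular upper unitriangular matrix. -/
theorem exists_conj_jordan {U : Matrix (Fin (m + 1)) (Fin (m + 1)) K} (hU : RegU U)
    {J : Matrix (Fin (m + 1)) (Fin (m + 1)) K}
    (hJ : ∀ i j : Fin (m + 1), J i j = if i = j then 1 else if j.val = i.val + 1 then 1 else 0) :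
    ∃ C : Matrix (Fin (m + 1)) (Fin (m + 1)) K, IsUnit C.det ∧ U * C = C * J := by
  classical
  obtain ⟨h1, h2, h3⟩ := hU
  set N := U - 1 with hN
  have hN0 : ∀ i j : Fin (m + 1), j ≤ i → N i j = 0 := by
    intro i j hij
    rcases hij.lt_or_eq with h | h
    · simp [hN, h1 i j h, h.ne']
    · subst h; simp [hN, h2]
  let e : Fin (m + 1) → K := Pi.single (Fin.last m) 1
  have hstep : ∀ (t : ℕ), (∀ i : Fin (m + 1), m < i.val + t → ((N ^ t) *ᵥ e) i = 0) ∧
      ∀ i : Fin (m + 1), i.val + t = m → ((N ^ t) *ᵥ e) i ≠ 0 := by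
    intro t
    induction t with
    | zero =>
      refine ⟨fun i hi => absurd hi (by omega), fun i hi => ?_⟩
      have : i = Fin.last m := Fin.ext (by simpa using hi)
      simp [e, this]
    | succ t ih =>
      have he : (N ^ (t + 1)) *ᵥ e = N *ᵥ ((N ^ t) *ᵥ e) := by
        rw [pow_succ', mulVec_mulVec]
      refine ⟨fun i hi => ?_, fun i hi => ?_⟩
      · rw [he]
        show ∑ j, N i j * ((N ^ t) *ᵥ e) j = 0
        refine Finset.sum_eq_zero fun j _ => ?_
        by_cases hji : j ≤ i
        · simp [hN0 i j hji]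
        · have : i.val < j.val := not_le.1 hji
          simp [ih.1 j (by omega)]
      · rw [he]
        let j : Fin (m + 1) := ⟨i.val + 1, by omega⟩
        show ∑ l, N i l * ((N ^ t) *ᵥ e) l ≠ 0
        rw [Finset.sum_eq_single j]
        · refine mul_ne_zero ?_ (ih.2 j (by simp [j]; omega))
          have hne : i ≠ j := fun h => by simp [j, Fin.ext_iff] at h
          simpa [hN, one_apply, hne] using h3 i j rfl
        · intro l _ hl
          by_cases hli : l ≤ i
          · simp [hN0 i l hli]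
          · have h4 : i.val < l.val := not_le.1 hli
            have h5 : l.val ≠ i.val + 1 := fun h => hl (Fin.ext h)
            simp [ih.1 l (by omega)]
        · simp
  let C : Matrix (Fin (m + 1)) (Fin (m + 1)) K := of fun i j => ((N ^ (m - j.val)) *ᵥ e) i
  refine ⟨C, ?_, ?_⟩
  · rw [isUnit_iff_ne_zero, det_of_upperTriangular fun i j hij => ?_]
    · exact Finset.prod_ne_zero_iff.2 fun i _ => (hstep _).2 i (by omega)
    · have : j.val < i.val := hij
      exact (hstep _).1 i (by omega)
  · have hUC : ∀ i j, (U * C) i j = C i j + ((N ^ (m - j.val + 1)) *ᵥ e) i := by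
      intro i j
      have hUN : U = 1 + N := by rw [hN, add_sub_cancel]
      rw [hUN, add_mul, one_mul, Matrix.add_apply, pow_succ', ← mulVec_mulVec]
      rfl
    ext i j
    rw [hUC, mul_apply]
    cases j using Fin.cases with
    | zero =>
      rw [(hstep _).1 i (by simp only [Fin.val_zero]; omega), add_zero, Finset.sum_eq_single 0]
      · simp [hJ]
      · intro l _ hl; simp [hJ, hl]
      · simp
    | succ l =>
      have hne : l.castSucc ≠ l.succ := fun h => by simp [Fin.ext_iff] at h
      rw [Finset.sum_eq_add l.succ l.castSucc hne.symm]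
      · simp only [hJ, hne, if_true, if_false, Fin.val_succ, Fin.val_castSucc, mul_one]
        congr 1
        show _ = ((N ^ (m - l.val)) *ᵥ e) i
        rw [show m - (l.val + 1) + 1 = m - l.val by omega]
      · intro x _ hx
        have h5 : l.succ.val ≠ x.val + 1 := fun h => hx.2 (Fin.ext (by simp at h ⊢; omega))
        have h6 : l.val ≠ x.val := fun h => h5 (by simp [h])
        simp [hJ, hx.1, h6]
      · simp
      · simp

/-- Lower regular matrices are conjugate to the Jordan block too. -/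
theorem exists_conj_jordan' {L : Matrix (Fin (m + 1)) (Fin (m + 1)) K} (hL : RegU Lᵀ)
    {J : Matrix (Fin (m + 1)) (Fin (m + 1)) K}
    (hJ : ∀ i j : Fin (m + 1), J i j = if i = j then 1 else if j.val = i.val + 1 then 1 else 0) :
    ∃ C : Matrix (Fin (m + 1)) (Fin (m + 1)) K, IsUnit C.det ∧ L * C = C * J := by
  obtain ⟨h1, h2, h3⟩ := hL
  have hU : RegU (L.submatrix Fin.rev Fin.rev) := by
    refine ⟨fun i j hij => ?_, fun i => ?_, fun i j hij => ?_⟩
    · exact h1 (Fin.rev j) (Fin.rev i) (Fin.rev_lt_rev.2 hij)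
    · exact h2 (Fin.rev i)
    · exact h3 (Fin.rev j) (Fin.rev i) (by simp [Fin.val_rev]; omega)
  obtain ⟨C, hC, hUC⟩ := exists_conj_jordan hU hJ
  have hinv : ∀ (A : Matrix (Fin (m + 1)) (Fin (m + 1)) K),
      (A.submatrix Fin.rev id).submatrix Fin.rev id = A := fun A => by ext i j; simp
  refine ⟨C.submatrix Fin.rev id, ?_, ?_⟩
  · rw [show C.submatrix Fin.rev id = C.submatrix Fin.revPerm id from rfl, det_permute]
    exact IsUnit.mul ((Int.isUnit_iff_abs_eq.2 (by
      rcases Int.units_eq_one_or (Equiv.Perm.sign (Fin.revPerm (n := m + 1))) with h | h <;>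
        simp [h])).map (Int.castRingHom K)) hC
  · have h := congrArg (fun A => A.submatrix Fin.rev id) hUC
    ext i j
    have e := congrFun (congrFun h i) j
    simp only [submatrix_apply, id_eq, mul_apply, Fin.rev_rev] at e
    simp only [submatrix_apply, id_eq, mul_apply]
    rw [← e]
    exact (Equiv.sum_comp Fin.revPerm fun l => L i l * C (Fin.rev l) j).symm.trans
      (Finset.sum_congr rfl fun l _ => by simp)

theorem upper_mul {A B : Matrix (Fin n) (Fin n) K} (hA : ∀ i j : Fin n, j < i → A i j = 0)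
    (hB : ∀ i j : Fin n, j < i → B i j = 0) :
    (∀ i j : Fin n, j < i → (A * B) i j = 0) ∧ (∀ i, (A * B) i i = A i i * B i i) ∧
      ∀ i j : Fin n, j.val = i.val + 1 → (A * B) i j = A i i * B i j + A i j * B j j := by
  refine ⟨fun i j hij => ?_, fun i => ?_, fun i j hij => ?_⟩
  · rw [mul_apply]
    exact Finset.sum_eq_zero fun l _ => by
      rcases lt_or_ge l i with h | h
      · simp [hA i l h]
      · simp [hB l j (lt_of_lt_of_le hij h)]
  · rw [mul_apply, Finset.sum_eq_single i]
    · intro l _ hl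
      rcases lt_or_gt_of_ne hl with h | h
      · simp [hA i l h]
      · simp [hB l i h]
    · simp
  · have hne : i ≠ j := fun h => by subst h; omega
    rw [mul_apply, Finset.sum_eq_add i j hne]
    · intro l _ hl
      have h1 : l.val ≠ i.val := fun h => hl.1 (Fin.ext h)
      have h2 : l.val ≠ j.val := fun h => hl.2 (Fin.ext h)
      rcases lt_or_ge l i with h | h
      · simp [hA i l h]
      · have : i.val ≤ l.val := h
        simp [hB l j (show j.val < l.val by omega)]
    · simp
    · simp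

/-- The transvection case. -/
theorem exists_two_upper (h4 : Four K) (hm : 2 ≤ m) {p q : Fin (m + 1) → K} (hp : p ≠ 0)
    (h0 : q ⬝ᵥ p = 0) :
    ∃ Q R A B : Matrix (Fin (m + 1)) (Fin (m + 1)) K,
      Q * R = 1 ∧ RegU A ∧ RegU B ∧ Q * (1 + vecMulVec p q) * R = A * B := by
  classical
  obtain ⟨i0, hi0⟩ := Function.ne_iff.1 hp
  -- `R` has first column `p`
  let R : Matrix (Fin (m + 1)) (Fin (m + 1)) K :=
    of fun i j => if j = 0 then p i else (Pi.single (Equiv.swap 0 i0 j) 1 : Fin (m + 1) → K) i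
  have hR : IsUnit R.det := by
    rw [isUnit_iff_ne_zero]
    intro h
    obtain ⟨y, hy, hy'⟩ := exists_mulVec_eq_zero_iff.2 h
    apply hy
    have e : ∀ i, y 0 * p i + (if Equiv.swap 0 i0 i = 0 then 0 else y (Equiv.swap 0 i0 i)) = 0 := by
      intro i
      have := congrFun hy' i
      rw [mulVec, dotProduct] at this
      rw [← Finset.add_sum_erase _ _ (Finset.mem_univ (0 : Fin (m + 1)))] at this
      have e2 : ∑ j ∈ Finset.univ.erase 0, R i j * y j =
          if Equiv.swap 0 i0 i = 0 then 0 else y (Equiv.swap 0 i0 i) := by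
        have : ∀ j ∈ Finset.univ.erase (0 : Fin (m + 1)),
            R i j * y j = if j = Equiv.swap 0 i0 i then y j else 0 := by
          intro j hj
          have hj0 : j ≠ 0 := Finset.ne_of_mem_erase hj
          simp only [R, of_apply, hj0, if_false, Pi.single_apply, ← Equiv.swap_apply_eq_iff,
            eq_comm (a := Equiv.swap 0 i0 i)]
          split_ifs <;> simp
        rw [Finset.sum_congr rfl this, Finset.sum_ite_eq']
        simp
      rw [e2] at this
      simpa [R, mul_comm] using this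
    have hy0 : y 0 = 0 := by
      have := e i0
      simpa [show p i0 ≠ 0 from hi0] using this
    funext j
    have := e (Equiv.swap 0 i0 j)
    rw [hy0, Equiv.swap_apply_self] at this
    by_cases hj : j = 0
    · rw [hj]; exact hy0
    · simpa [hj] using this
  have hQR : R⁻¹ * R = 1 := nonsing_inv_mul _ hR
  have hcol : R⁻¹ *ᵥ p = Pi.single 0 1 := by
    have : R *ᵥ Pi.single 0 1 = p := by funext i; simp [R]
    rw [← this, mulVec_mulVec, hQR, one_mulVec]
  set r := q ᵥ* R with hr
  have hr0 : r 0 = 0 := by rw [← h0]; simp [hr, R, vecMul, dotProduct]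
  set U := 1 + vecMulVec (Pi.single (0 : Fin (m + 1)) (1 : K)) r with hUdef
  have hU0 : ∀ i j : Fin (m + 1), j < i → U i j = 0 := by
    intro i j hij
    have : i ≠ 0 := fun h => Fin.not_lt_zero j (h ▸ hij)
    simp [hUdef, vecMulVec_apply, hij.ne', this]
  have hU1 : ∀ i, U i i = 1 := by
    intro i
    by_cases h : i = 0 <;> simp [hUdef, vecMulVec_apply, h, hr0]
  have hU2 : ∀ i j : Fin (m + 1), j.val = i.val + 1 → U i j = 0 ∨ U i j = r ⟨1, by omega⟩ := by
    intro i j hij
    have hne : i ≠ j := fun h => by subst h; omega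
    by_cases h : i = 0
    · subst h
      have : j = ⟨1, by omega⟩ := Fin.ext (by simpa using hij)
      rw [this] at hne ⊢
      simp [hUdef, vecMulVec_apply, hne]
    · simp [hUdef, vecMulVec_apply, hne, h]
  obtain ⟨s, hs⟩ := h4 {0, -r ⟨1, by omega⟩} (Finset.card_le_two.trans (by norm_num))
  simp only [Finset.mem_insert, Finset.mem_singleton, not_or] at hs
  let X : Matrix (Fin (m + 1)) (Fin (m + 1)) K :=
    of fun i j => if i = j then 1 else if j.val = i.val + 1 then s else 0
  have hX0 : ∀ i j : Fin (m + 1), j < i → X i j = 0 := by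
    intro i j hij
    have : j.val ≠ i.val + 1 := by have : j.val < i.val := hij; omega
    simp [X, hij.ne', this]
  have hX2 : ∀ i j : Fin (m + 1), j.val = i.val + 1 → X i j = s := by
    intro i j hij
    have hne : i ≠ j := fun h => by subst h; omega
    simp [X, hne, hij]
  have hXd : IsUnit X.det := by
    rw [det_of_upperTriangular fun i j hij => hX0 i j hij]
    simp [X]
  let _ : Invertible X := invertibleOfIsUnitDet X hXd
  have hY0 : ∀ i j : Fin (m + 1), j < i → X⁻¹ i j = 0 := fun i j hij =>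
    blockTriangular_inv_of_blockTriangular (b := id) (fun i j h => hX0 i j h) hij
  obtain ⟨-, hd, hsup⟩ := upper_mul hX0 hY0
  rw [mul_nonsing_inv X hXd] at hd hsup
  have hY1 : ∀ i, X⁻¹ i i = 1 := fun i => by simpa [X, one_apply] using (hd i).symm
  have hY2 : ∀ i j : Fin (m + 1), j.val = i.val + 1 → X⁻¹ i j = -s := by
    intro i j hij
    have hne : i ≠ j := fun h => by subst h; omega
    have := hsup i j hij
    rw [hY1, hX2 i j hij, one_apply, if_neg hne] at this
    simp [X] at this
    linear_combination -this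
  obtain ⟨hB0, hB1, hB2⟩ := upper_mul hX0 hU0
  refine ⟨R⁻¹, R, X⁻¹, X * U, hQR,
    ⟨hY0, hY1, fun i j hij => by rw [hY2 i j hij]; exact neg_ne_zero.2 hs.1⟩,
    ⟨hB0, fun i => by rw [hB1, hU1]; simp [X], fun i j hij => ?_⟩, ?_⟩
  · rw [hB2 i j hij, hU1, hX2 i j hij]
    rcases hU2 i j hij with h | h <;> rw [h] <;> simp [X]
    · exact hs.1
    · exact fun h' => hs.2 (by linear_combination h')
  · rw [← mul_assoc X⁻¹, nonsing_inv_mul X hXd, one_mul, mul_add, add_mul, mul_one, hQR,
      mul_vecMulVec, vecMulVec_mul, hcol, hUdef]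

end FrobeniusTwoJordan
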