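/-
Fully ramified characters and Sylow subgroups of intermediate quotients: complements.
-/
import Mathlib
import Cfsg.Agent.Lib.FullyRamified80
import Cfsg.Agent.Lib.CharExtension
import Cfsg.Agent.Lib.CharExtensionCrit

set_option autoImplicit false

open scoped ComplexConjugate Pointwise
open Finset
open Cfsg

namespace Cfsg.Agent.FullyRamified80

open CharBasic CharBasicDecomp CharInduced

universe u

variable {G : Type u} [Group G]

/-- Conjugate of a function on `L` by an element normalizing `L`. -/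
noncomputable def cf (L : Subgroup G) (η : L → ℂ) (n : G) : L → ℂ :=
  fun l => extendByZero L η (n * l * n⁻¹)

theorem cf_apply {L : Subgroup G} {η : L → ℂ} {n : G} (l : L) (h : n * l * n⁻¹ ∈ L) :
    cf L η n l = η ⟨n * l * n⁻¹, h⟩ := ext_zero_of_mem η h

theorem conj_mem_of_normalizer {L : Subgroup G} {n : G}
    (hn : n ∈ Subgroup.normalizer (L : Set G)) (l : L) : n * l * n⁻¹ ∈ L :=
  (Subgroup.mem_normalizer_iff.1 hn l).1 l.2

theorem cf_one (L : Subgroup G) (η : L → ℂ) : cf L η 1 = η := by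
  funext l
  rw [cf_apply l (by simp)]
  exact congrArg η (Subtype.ext (by simp))

theorem cf_mul {L : Subgroup G} (η : L → ℂ) (a : G) {b : G}
    (hb : b ∈ Subgroup.normalizer (L : Set G)) : cf L (cf L η a) b = cf L η (a * b) := by
  funext l
  rw [cf_apply l (conj_mem_of_normalizer hb l)]
  show extendByZero L η _ = extendByZero L η _
  congr 1
  simp [mul_assoc]

theorem isIrrCharacter_cf {L : Subgroup G} {η : L → ℂ} (hη : IsIrrCharacter L η) {n : G}
    (hn : n ∈ Subgroup.normalizer (L : Set G)) : IsIrrCharacter L (cf L η n) := by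
  let e : L →* L :=
    { toFun := fun l => ⟨n * l * n⁻¹, conj_mem_of_normalizer hn l⟩
      map_one' := Subtype.ext (by simp)
      map_mul' := fun a b => Subtype.ext (by simp [mul_assoc]) }
  have he : Function.Surjective e := fun l =>
    ⟨⟨n⁻¹ * l * n, by
      have := (Subgroup.mem_normalizer_iff''.1 hn l).1 l.2
      exact this⟩, Subtype.ext (by simp [e, mul_assoc])⟩
  have : cf L η n = η ∘ e := funext fun l => cf_apply l (conj_mem_of_normalizer hn l)
  rw [this]
  exact isIrrCharacter_comap e he hη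

namespace FR

variable {Z : Subgroup G} [hZ : Z.Normal] {χ : G → ℂ} {θ : Z → ℂ} {e : ℕ}

theorem over_cf [Finite G] (h : FR Z χ θ e) {L : Subgroup G} (hZL : Z ≤ L) {η : L → ℂ} {g : ℕ}
    (hg : Over θ η g) (n : G) : Over θ (cf L η n) g := by
  intro z hz hl
  have hz' : n * z * n⁻¹ ∈ Z := hZ.conj_mem z hz n
  rw [cf_apply ⟨z, hl⟩ (hZL hz'), hg _ hz' (hZL hz')]
  congr 1
  exact congrFun (h.invariant n) ⟨z, hz⟩

end FR

/-! ### Sylow subgroups and the characters over `θ` on `P ⊓ K` -/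

section Sylow

variable [Fintype G] {Z : Subgroup G} [hZ : Z.Normal] {p : ℕ} [hp : Fact p.Prime]

theorem exists_pow_card_sup (S : Sylow p G) :
    ∃ n : ℕ, Nat.card Z * p ^ n = Nat.card ((S : Subgroup G) ⊔ Z : Subgroup G) := by
  obtain ⟨k, hk⟩ := IsPGroup.iff_card.1 S.isPGroup'
  obtain ⟨n, -, hn⟩ := (Nat.dvd_prime_pow hp.out).1
    (hk ▸ Subgroup.relIndex_dvd_card (H := Z) (K := (S : Subgroup G)))
  exact ⟨n, by rw [← hn, ← Subgroup.relIndex_sup_right, card_mul_relIndex le_sup_right]⟩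

theorem not_dvd_index_sup (S : Sylow p G) : ¬ p ∣ ((S : Subgroup G) ⊔ Z).index :=
  fun h => S.not_dvd_index (h.trans (Subgroup.index_dvd_of_le le_sup_left))

variable {P K L : Subgroup G} [hK : K.Normal]

omit [Fintype G] hZ in
theorem le_normalizer_inf (hL : L = P ⊓ K) : P ≤ Subgroup.normalizer (L : Set G) := by
  subst hL
  intro a ha
  rw [Subgroup.mem_normalizer_iff]
  intro x
  simp only [Subgroup.mem_inf]
  constructor
  · exact fun ⟨h1, h2⟩ => ⟨P.mul_mem (P.mul_mem ha h1) (P.inv_mem ha), hK.conj_mem x h2 a⟩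
  · rintro ⟨h1, h2⟩
    refine ⟨?_, ?_⟩
    · simpa [mul_assoc] using P.mul_mem (P.mul_mem (P.inv_mem ha) h1) ha
    · simpa [mul_assoc] using hK.conj_mem _ h2 a⁻¹

omit [Fintype G] hZ in
theorem normal_subgroupOf_inf (hL : L = P ⊓ K) : (L.subgroupOf P).Normal :=
  ⟨fun x hx a => Subgroup.mem_subgroupOf.2
    (((Subgroup.mem_normalizer_iff.1 (le_normalizer_inf hL a.2)) x).1 (Subgroup.mem_subgroupOf.1 hx))⟩

variable {χ : G → ℂ} {θ : Z → ℂ} {e : ℕ}

/-- Facts on the characters of `L = P ⊓ K` lying over `θ`, read inside `P`. -/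
theorem over_in_P {ξ : P → ℂ} {f : ℕ} (hf : FR (Z.subgroupOf P) ξ (toSubgroupOf θ) f)
    (hL : L = P ⊓ K) (hZL : Z ≤ L) {η : L → ℂ} (hη : IsIrrCharacter L η) {g : ℕ}
    (hg : Over θ η g) :
    (∀ (η' : L → ℂ) (g' : ℕ), IsIrrCharacter L η' → Over θ η' g' →
        ∃ a ∈ P, cf L η a = η') ∧
      ∃ (I : Subgroup P) (c : ℕ), (∀ a : P, a ∈ I ↔ cf L η (a : G) = η) ∧
        L.relIndex P * g = c * f ∧ L.subgroupOf P ≤ I ∧
        c ^ 2 * Nat.card (L.subgroupOf P) = Nat.card I := by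
  classical
  have hLP : L ≤ P := hL ▸ inf_le_left
  haveI := normal_subgroupOf_inf hL
  have hZL' : Z.subgroupOf P ≤ L.subgroupOf P := fun x hx =>
    Subgroup.mem_subgroupOf.2 (hZL (Subgroup.mem_subgroupOf.1 hx))
  have hirr : ∀ ζ : L → ℂ, IsIrrCharacter L ζ →
      IsIrrCharacter (L.subgroupOf P) (toSubgroupOf ζ) := fun ζ hζ =>
    isIrrCharacter_comap (Subgroup.subgroupOfEquivOfLe hLP).toMonoidHom
      (MulEquiv.surjective _) hζ
  have hover : ∀ (ζ : L → ℂ) (k : ℕ), Over θ ζ k →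
      Over (toSubgroupOf θ) (toSubgroupOf ζ : L.subgroupOf P → ℂ) k := fun ζ k hk z hz hl =>
    hk (z : G) (Subgroup.mem_subgroupOf.1 hz) (Subgroup.mem_subgroupOf.1 hl)
  obtain ⟨horb, c, hc1, hc2⟩ := hf.normal_over hZL' (hirr η hη) (hover η g hg)
  have hconv : ∀ (a : P) (ζ : L → ℂ),
      conjFun (L.subgroupOf P) (toSubgroupOf η) a = toSubgroupOf ζ ↔ cf L η (a : G) = ζ := by
    intro a ζ
    have hval : ∀ x : L.subgroupOf P, conjFun (L.subgroupOf P) (toSubgroupOf η) a x =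
        cf L η (a : G) ⟨(x : P), Subgroup.mem_subgroupOf.1 x.2⟩ := fun x => by
      rw [cf_apply _ (conj_mem_of_normalizer (le_normalizer_inf hL a.2) _)]
      rfl
    constructor
    · intro h
      funext l
      have := congrFun h ⟨⟨l, hLP l.2⟩, Subgroup.mem_subgroupOf.2 l.2⟩
      rw [hval] at this
      exact this
    · intro h
      funext x
      rw [hval, h]
      rfl
  refine ⟨fun η' g' hη' hg' => ?_, inertia (L.subgroupOf P) (toSubgroupOf η), c,
    fun a => (mem_inertia _).trans (hconv a η), hc1, ?_, hc2⟩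
  · obtain ⟨a, ha⟩ := (mem_orbitFin _).1 (horb _ g' (hirr η' hη') (hover η' g' hg'))
    exact ⟨a, a.2, (hconv a η').1 ha⟩
  · exact le_inertia _ (isClassFunction_irr (hirr η hη))

/-- Complement to a Sylow subgroup of `G ⧸ K` from a character of `P ⊓ K` with trivial inertia
in `P`. -/
theorem exists_complement (h : FR Z χ θ e) (hZK : Z ≤ K) (S : Sylow p G)
    (hP : P = (S : Subgroup G) ⊔ Z) (hL : L = P ⊓ K) {η : L → ℂ} (hη : IsIrrCharacter L η)
    {g : ℕ} (hg : Over θ η g) (hfree : ∀ a ∈ P, cf L η a = η → a ∈ L) :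
    ∃ M : Subgroup (G ⧸ K), M.IsComplement' ((S : Subgroup G).map (QuotientGroup.mk' K)) := by
  classical
  haveI : Fintype P := Fintype.ofFinite _
  obtain ⟨n, hn⟩ := exists_pow_card_sup (Z := Z) S
  rw [← hP] at hn
  have hPidx : ¬ p ∣ P.index := hP ▸ not_dvd_index_sup S
  have hZP : Z ≤ P := hP ▸ le_sup_right
  have hZL : Z ≤ L := hL ▸ le_inf hZP hZK
  obtain ⟨ξ, f, hf⟩ := h.descend hZP hn hPidx
  obtain ⟨htrans, -⟩ := over_in_P hf hL hZL hη hg
  set N := Subgroup.normalizer (L : Set G) with hN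
  have hPN : P ≤ N := le_normalizer_inf hL
  let T : Subgroup G :=
    { carrier := {x | x ∈ N ∧ cf L η x = η}
      one_mem' := ⟨N.one_mem, cf_one L η⟩
      mul_mem' := fun {a b} ha hb => ⟨N.mul_mem ha.1 hb.1, by
        rw [← cf_mul η a hb.1, ha.2, hb.2]⟩
      inv_mem' := fun {a} ha => ⟨N.inv_mem ha.1, by
        conv_lhs => rw [← ha.2]
        rw [cf_mul η a (N.inv_mem ha.1), mul_inv_cancel, cf_one]⟩ }
  have hmemT : ∀ x : G, x ∈ T ↔ x ∈ N ∧ cf L η x = η := fun x => Iff.rfl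
  have hfac : ∀ x ∈ N, ∃ a ∈ P, x * a⁻¹ ∈ T := by
    intro x hx
    obtain ⟨a, ha, hax⟩ := htrans (cf L η x) g (isIrrCharacter_cf hη hx) (h.over_cf hZL hg x)
    refine ⟨a, ha, N.mul_mem hx (N.inv_mem (hPN ha)), ?_⟩
    rw [← cf_mul η x (N.inv_mem (hPN ha)), ← hax, cf_mul η a (N.inv_mem (hPN ha)),
      mul_inv_cancel, cf_one]
  have hLT : L ≤ T := fun l hl => by
    have hlN : l ∈ N := Subgroup.le_normalizer hl
    refine ⟨hlN, funext fun x => ?_⟩
    rw [cf_apply x (L.mul_mem (L.mul_mem hl x.2) (L.inv_mem hl))]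
    exact isClassFunction_irr hη x ⟨l, hl⟩
  have hTP : T ⊓ P = L :=
    le_antisymm (fun x hx => hfree x hx.2 ((hmemT x).1 hx.1).2) (le_inf hLT (hL ▸ inf_le_left))
  have hTN : T.relIndex N = L.relIndex P := by
    rw [← hTP, Subgroup.inf_relIndex_right]
    refine (Nat.card_congr (Equiv.ofBijective _
      ⟨(Subgroup.quotientSubgroupOfEmbeddingOfLE T hPN).injective, fun q => ?_⟩)).symm
    obtain ⟨x, rfl⟩ := QuotientGroup.mk_surjective q
    obtain ⟨a, ha, hxa⟩ := hfac (x : G)⁻¹ (N.inv_mem x.2)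
    refine ⟨QuotientGroup.mk (⟨a⁻¹, P.inv_mem ha⟩ : P), ?_⟩
    rw [Subgroup.quotientSubgroupOfEmbeddingOfLE_apply_mk, QuotientGroup.eq,
      Subgroup.mem_subgroupOf]
    simpa using T.inv_mem hxa
  have hNK : N ⊓ K ≤ T := by
    rw [← Subgroup.relIndex_eq_one]
    have h1 : T.relIndex (N ⊓ K) ∣ p ^ n := by
      have hsub : K.subgroupOf N = (N ⊓ K).subgroupOf N := by
        ext x; simp [Subgroup.mem_subgroupOf]
      have h11 := relIndex_dvd_index_right (T.subgroupOf N) (K.subgroupOf N)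
      rw [hsub, Subgroup.relIndex_subgroupOf inf_le_left] at h11
      refine h11.trans ?_
      show T.relIndex N ∣ p ^ n
      rw [hTN]
      refine (Subgroup.relIndex_dvd_of_le_left (L := P) hZL).trans (dvd_of_eq ?_)
      exact Nat.eq_of_mul_eq_mul_left (Nat.card_pos : 0 < Nat.card Z)
        (by rw [card_mul_relIndex hZP, hn])
    have h2 : T.relIndex (N ⊓ K) ∣ P.index := by
      refine (Subgroup.relIndex_dvd_of_le_left _ hLT).trans ?_
      have hLNK : L ≤ N ⊓ K := le_inf Subgroup.le_normalizer (hL ▸ inf_le_right)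
      refine (Dvd.intro _ (Subgroup.relIndex_mul_relIndex L (N ⊓ K) K hLNK inf_le_right)).trans ?_
      rw [hL, Subgroup.inf_relIndex_right]
      exact relIndex_dvd_index_right P K
    obtain ⟨i, -, hi⟩ := (Nat.dvd_prime_pow hp.out).1 h1
    rcases Nat.eq_zero_or_pos i with rfl | hi0
    · simpa using hi
    · exact absurd ((dvd_pow_self p hi0.ne').trans (hi ▸ h2)) hPidx
  have hfrat : N ⊔ K = ⊤ := by
    have hidx : ¬ p ∣ ((S : Subgroup G).subgroupOf K).index := fun hd =>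
      S.not_dvd_index (hd.trans (relIndex_dvd_index_right (S : Subgroup G) K))
    let Q : Sylow p K :=
      (S.isPGroup'.comap_of_injective K.subtype Subtype.val_injective).toSylow hidx
    have h1 := Sylow.normalizer_sup_eq_top Q
    rw [eq_top_iff, ← h1]
    refine sup_le_sup_right (fun x hx => ?_) K
    have hQ : (Q : Subgroup K).map K.subtype = (S : Subgroup G) ⊓ K :=
      Subgroup.subgroupOf_map_subtype (S : Subgroup G) K
    rw [hQ, Subgroup.mem_normalizer_iff] at hx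
    rw [hN, Subgroup.mem_normalizer_iff]
    have hfwd : ∀ y : G, (∀ z, z ∈ (S : Subgroup G) ⊓ K → y * z * y⁻¹ ∈ (S : Subgroup G) ⊓ K) →
        ∀ z, z ∈ L → y * z * y⁻¹ ∈ L := by
      intro y hy z hz
      rw [hL, hP] at hz ⊢
      obtain ⟨hz1, hz2⟩ := Subgroup.mem_inf.1 hz
      obtain ⟨s, hs, w, hw, rfl⟩ := Subgroup.mem_sup_of_normal_right.1 hz1
      have hsK : s ∈ K := by simpa [mul_assoc] using K.mul_mem hz2 (K.inv_mem (hZK hw))
      have h3 := Subgroup.mem_inf.1 (hy s ⟨hs, hsK⟩)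
      refine Subgroup.mem_inf.2 ⟨?_, hK.conj_mem _ hz2 y⟩
      have : y * (s * w) * y⁻¹ = y * s * y⁻¹ * (y * w * y⁻¹) := by simp [mul_assoc]
      rw [this]
      exact Subgroup.mul_mem_sup h3.1 (hZ.conj_mem w hw y)
    intro z
    refine ⟨hfwd x (fun w hw => (hx w).1 hw) z, fun hz => ?_⟩
    have := hfwd x⁻¹ (fun w hw => (hx _).2 (by simpa [mul_assoc] using hw)) _ hz
    simpa [mul_assoc] using this
  refine ⟨T.map (QuotientGroup.mk' K), Subgroup.isComplement'_of_disjoint_and_mul_eq_univ ?_ ?_⟩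
  · rw [Subgroup.disjoint_def]
    rintro x ⟨t, ht, rfl⟩ ⟨s, hs, hst⟩
    have hsP : s ∈ P := hP ▸ Subgroup.mem_sup_left hs
    have h1 : s⁻¹ * t ∈ K := QuotientGroup.eq.1 hst
    have h2 : s⁻¹ * t ∈ T :=
      hNK ⟨N.mul_mem (N.inv_mem (hPN hsP)) ((hmemT t).1 ht).1, h1⟩
    have h3 : s ∈ T := by simpa [mul_assoc] using T.mul_mem ht (T.inv_mem h2)
    have h4 : s ∈ L := hTP ▸ (⟨h3, hsP⟩ : s ∈ T ⊓ P)
    rw [← hst, QuotientGroup.mk'_apply, QuotientGroup.eq_one_iff]
    exact (hL ▸ (inf_le_right : P ⊓ K ≤ K)) h4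
  · refine Set.eq_univ_iff_forall.2 fun q => ?_
    obtain ⟨x, rfl⟩ := QuotientGroup.mk'_surjective K q
    have hx : x ∈ N ⊔ K := hfrat ▸ Subgroup.mem_top x
    obtain ⟨m, hm, k, hk, rfl⟩ := Subgroup.mem_sup_of_normal_right.1 hx
    obtain ⟨a, ha, hma⟩ := hfac m hm
    rw [hP] at ha
    obtain ⟨s, hs, z, hz, rfl⟩ := Subgroup.mem_sup_of_normal_right.1 ha
    refine Set.mem_mul.2 ⟨_, ⟨_, hma, rfl⟩, _, ⟨s, hs, rfl⟩, ?_⟩
    rw [← map_mul]
    refine QuotientGroup.eq.2 ?_
    have hz' : z ∈ K := hZK hz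
    have : (m * (s * z)⁻¹ * s)⁻¹ * (m * k) = s⁻¹ * (s * z) * k := by simp [mul_assoc]
    rw [this, inv_mul_cancel_left]
    exact K.mul_mem hz' hk

end Sylow

/-- If the Sylow subgroup of `G ⧸ K` is cyclic, inertia groups in `P` are trivial. -/
theorem free_of_cyclic [Fintype G] {Z : Subgroup G} [Z.Normal] {K P L : Subgroup G} [K.Normal]
    [Fintype P] {θ : Z → ℂ} {ξ : P → ℂ} {f : ℕ}
    (hf : FR (Z.subgroupOf P) ξ (toSubgroupOf θ) f)
    (hL : L = P ⊓ K) (hZL : Z ≤ L) (hcyc : IsCyclic (P.map (QuotientGroup.mk' K)))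
    {η : L → ℂ} (hη : IsIrrCharacter L η) {g : ℕ} (hg : Over θ η g) :
    ∀ a ∈ P, cf L η a = η → a ∈ L := by
  classical
  have hLP : L ≤ P := hL ▸ inf_le_left
  haveI := normal_subgroupOf_inf hL
  obtain ⟨-, I, c, hI, hc1, hLI, hc2⟩ := over_in_P hf hL hZL hη hg
  haveI : Fintype I := Fintype.ofFinite _
  let L' : Subgroup I := (L.subgroupOf P).subgroupOf I
  let η' : L' → ℂ := fun x => η ⟨((x : I) : P), Subgroup.mem_subgroupOf.1
    (Subgroup.mem_subgroupOf.1 x.2)⟩
  have hη' : IsIrrCharacter L' η' :=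
    isIrrCharacter_comap ((Subgroup.subgroupOfEquivOfLe hLI).trans
      (Subgroup.subgroupOfEquivOfLe hLP)).toMonoidHom (MulEquiv.surjective _) hη
  have hinv : ∀ (a : I) (x : L'),
      η' ⟨a * x * a⁻¹, (inferInstance : L'.Normal).conj_mem (x : I) x.2 a⟩ = η' x := by
    intro a x
    have hxL : ((x : I) : G) ∈ L := Subgroup.mem_subgroupOf.1 (Subgroup.mem_subgroupOf.1 x.2)
    have := congrFun ((hI (a : P)).1 a.2) ⟨((x : I) : G), hxL⟩
    rw [cf_apply _ (conj_mem_of_normalizer (le_normalizer_inf hL (a : P).2) _)] at this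
    exact this
  obtain ⟨d, ρ, -, -, hρ, S, himpl, hirr⟩ := CharExtension.exists_setup hη' hinv
  have hcycI : IsCyclic (I ⧸ L') := by
    let φ : I →* G ⧸ K := (QuotientGroup.mk' K).comp (P.subtype.comp I.subtype)
    have hker : φ.ker = L' := by
      ext x
      simp only [φ, L', MonoidHom.mem_ker, MonoidHom.comp_apply, Subgroup.coe_subtype,
        QuotientGroup.mk'_apply, QuotientGroup.eq_one_iff, Subgroup.mem_subgroupOf, hL,
        Subgroup.mem_inf]
      exact ⟨fun h => ⟨(x : P).2, h⟩, fun h => h.2⟩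
    have hle : φ.range ≤ P.map (QuotientGroup.mk' K) := by
      rintro _ ⟨x, rfl⟩
      exact ⟨((x : P) : G), (x : P).2, rfl⟩
    haveI := hcyc
    haveI : IsCyclic φ.range :=
      isCyclic_of_injective (Subgroup.inclusion hle) (Subgroup.inclusion_injective hle)
    exact (((QuotientGroup.quotientMulEquivOfEq hker).symm.trans
      (QuotientGroup.quotientKerEquivRange φ)).isCyclic).2 inferInstance
  obtain ⟨ext, hext⟩ := CharExtension.exists_ext_cyclic S himpl
    (fun k a hk => by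
      obtain ⟨b, hb⟩ := IsAlgClosed.exists_pow_nat_eq (a : ℂ) hk
      have hb0 : b ≠ 0 := fun h => a.ne_zero (by rw [← hb, h, zero_pow hk.ne'])
      exact ⟨Units.mk0 b hb0, Units.ext (by simpa using hb)⟩) hcycI
  obtain ⟨hirr1, hres⟩ := CharExtension.ext_to_char_top hirr ext hext
  have hov : Over (toSubgroupOf θ : Z.subgroupOf P → ℂ) (CharExtension.chr ext) g := by
    intro z hz hl
    have hzL : (z : G) ∈ L := hZL (Subgroup.mem_subgroupOf.1 hz)
    have := hres ⟨⟨z, hl⟩, Subgroup.mem_subgroupOf.2 (Subgroup.mem_subgroupOf.2 hzL)⟩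
    rw [hρ] at this
    exact this.trans (hg (z : G) (Subgroup.mem_subgroupOf.1 hz) hzL)
  have hZI : Z.subgroupOf P ≤ I := fun x hx =>
    hLI (Subgroup.mem_subgroupOf.2 (hZL (Subgroup.mem_subgroupOf.1 hx)))
  obtain ⟨c1, -, hc1'⟩ := hf.ind_over hZI (isCharacter_of_isIrrCharacter hirr1) hov
  set r := (L.subgroupOf P).relIndex I with hr
  have hr0 : Nat.card (L.subgroupOf P) * r = Nat.card I := card_mul_relIndex hLI
  have h1 : c ^ 2 = r := by
    refine Nat.eq_of_mul_eq_mul_left (Nat.card_pos : 0 < Nat.card (L.subgroupOf P)) ?_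
    rw [hr0, ← hc2, mul_comm]
  have h2 : c = c1 * r := by
    refine Nat.eq_of_mul_eq_mul_right hf.e_pos ?_
    have hidx : L.relIndex P = r * I.index := (Subgroup.relIndex_mul_index hLI).symm
    rw [← hc1, hidx, mul_assoc, hc1']
    ring
  have hr1 : r = 1 := by
    have hrpos : 0 < r := Nat.pos_of_ne_zero fun h0 => by
      rw [h0, mul_zero] at hr0
      exact (Nat.card_pos (α := I)).ne hr0
    have hc10 : 0 < c1 := Nat.pos_of_ne_zero fun h0 => by
      rw [h0, zero_mul] at h2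
      rw [h2] at h1
      exact hrpos.ne (by simpa using h1)
    have h3 : r * r ≤ r := by
      calc r * r ≤ (c1 * r) * (c1 * r) :=
            Nat.mul_le_mul (Nat.le_mul_of_pos_left r hc10) (Nat.le_mul_of_pos_left r hc10)
        _ = r := by rw [← h2, ← _root_.sq, h1]
    nlinarith
  intro a ha hfix
  have : (⟨a, ha⟩ : P) ∈ L.subgroupOf P :=
    Subgroup.relIndex_eq_one.1 hr1 ((hI ⟨a, ha⟩).2 hfix)
  exact Subgroup.mem_subgroupOf.1 this

end Cfsg.Agent.FullyRamified80
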