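import Mathlib
import Cfsg.Prelude.Def_SylowChains

/-!
# Control of Sylow intersections as a reachability relation
-/

set_option autoImplicit false

namespace Cfsg.Agent.SylowChainsBasic

open Subgroup
open scoped Pointwise

variable {G : Type*} [Group G] {p : ℕ}

/-- `P` is a Sylow `p`-subgroup of `M`, both subgroups of `G`. -/
def IsSylowIn (p : ℕ) (P M : Subgroup G) : Prop :=
  P ≤ M ∧ IsPGroup p P ∧ ¬ p ∣ P.relIndex M

/-- One step of a chain from `a` to `b` over the family, with `D ≤ b ∩ X`. -/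
def Step (p : ℕ) (𝓕 : Set (Subgroup G)) (D : Subgroup G) (a b : Sylow p G) : Prop :=
  ∃ (X : Subgroup G) (x : G), X ∈ Cfsg.sylowMembers p 𝓕 (a : Subgroup G) ∧
    X ∈ Cfsg.sylowMembers p 𝓕 (b : Subgroup G) ∧ x ∈ X ∧
    Cfsg.subgroupConjRight x (b : Subgroup G) = (a : Subgroup G) ∧ D ≤ (b : Subgroup G) ⊓ X

/-- `a` and `b` are joined by a chain with intersections containing `D`. -/
def Linked (p : ℕ) (𝓕 : Set (Subgroup G)) (D : Subgroup G) : Sylow p G → Sylow p G → Prop :=
  Relation.ReflTransGen (Step p 𝓕 D)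

theorem map_conj_conj (g h : G) (X : Subgroup G) :
    (X.map (MulAut.conj h).toMonoidHom).map (MulAut.conj g).toMonoidHom =
      X.map (MulAut.conj (g * h)).toMonoidHom := by
  rw [Subgroup.map_map]
  congr 1
  ext x
  simp [MulAut.conj_apply, mul_assoc]

theorem map_conj_one (X : Subgroup G) : X.map (MulAut.conj (1 : G)).toMonoidHom = X := by
  ext x
  simp [Subgroup.mem_map]

theorem mem_map_conj {g x : G} {X : Subgroup G} :
    x ∈ X.map (MulAut.conj g).toMonoidHom ↔ g⁻¹ * x * g ∈ X := by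
  constructor
  · rintro ⟨y, hy, rfl⟩
    simpa [MulAut.conj_apply, mul_assoc] using hy
  · intro h
    exact ⟨_, h, by simp [MulAut.conj_apply, mul_assoc]⟩

theorem map_conj_self {g : G} {X : Subgroup G} (hg : g ∈ X) :
    X.map (MulAut.conj g).toMonoidHom = X := by
  ext x
  rw [mem_map_conj]
  exact ⟨fun h => by simpa [mul_assoc] using X.mul_mem (X.mul_mem hg h) (X.inv_mem hg),
    fun h => X.mul_mem (X.mul_mem (X.inv_mem hg) h) hg⟩

theorem coe_smul_eq_map (g : G) (S : Sylow p G) :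
    ((g • S : Sylow p G) : Subgroup G) = (S : Subgroup G).map (MulAut.conj g).toMonoidHom := by
  rw [Sylow.coe_subgroup_smul]
  rfl

theorem subgroupConjRight_eq (g : G) (X : Subgroup G) :
    Cfsg.subgroupConjRight g X = X.map (MulAut.conj g⁻¹).toMonoidHom := rfl

theorem IsSylowIn.map {P M : Subgroup G} (h : IsSylowIn p P M) (g : G) :
    IsSylowIn p (P.map (MulAut.conj g).toMonoidHom) (M.map (MulAut.conj g).toMonoidHom) :=
  ⟨Subgroup.map_mono h.1, h.2.1.map _, by
    rw [Subgroup.relIndex_map_map_of_injective _ _ (MulAut.conj g).injective]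
    exact h.2.2⟩

theorem isSylowIn_top [Finite G] [Fact p.Prime] (S : Sylow p G) : IsSylowIn p (S : Subgroup G) ⊤ :=
  ⟨le_top, S.2, by rw [Subgroup.relIndex_top_right]; exact S.not_dvd_index⟩

theorem isSylowIn_map_subtype [Finite G] [Fact p.Prime] {M : Subgroup G} (P : Sylow p M) :
    IsSylowIn p ((P : Subgroup M).map M.subtype) M :=
  ⟨Subgroup.map_subtype_le _, P.2.map _, by
    rw [Subgroup.relIndex, ← Subgroup.comap_subtype,
      Subgroup.comap_map_eq_self_of_injective M.subtype_injective]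
    exact P.not_dvd_index⟩

theorem exists_sylow_of_isSylowIn [Finite G] [hp : Fact p.Prime] {P M : Subgroup G}
    (h : IsSylowIn p P M) : ∃ Q : Sylow p M, (Q : Subgroup M).map M.subtype = P := by
  refine ⟨(h.2.1.of_equiv (Subgroup.subgroupOfEquivOfLe h.1).symm).toSylow h.2.2, ?_⟩
  show (P.subgroupOf M).map M.subtype = P
  rw [Subgroup.subgroupOf_map_subtype, inf_eq_left.mpr h.1]

theorem IsSylowIn.card_eq [Finite G] [hp : Fact p.Prime] {P M : Subgroup G}
    (h : IsSylowIn p P M) : Nat.card P = p ^ (Nat.card M).factorization p := by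
  obtain ⟨Q, rfl⟩ := exists_sylow_of_isSylowIn h
  rw [Subgroup.card_map_of_injective M.subtype_injective, Q.card_eq_multiplicity]

theorem IsSylowIn.eq_of_le [Finite G] [hp : Fact p.Prime] {P Q M : Subgroup G}
    (h : IsSylowIn p P M) (hQ : IsPGroup p Q) (hQM : Q ≤ M) (hPQ : P ≤ Q) : P = Q := by
  refine Subgroup.eq_of_le_of_card_ge hPQ ?_
  obtain ⟨U, hU⟩ := (hQ.of_equiv (Subgroup.subgroupOfEquivOfLe hQM).symm).exists_le_sylow
  rw [h.card_eq, ← U.card_eq_multiplicity,
    ← Nat.card_congr (Subgroup.subgroupOfEquivOfLe hQM).toEquiv]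
  exact Subgroup.card_le_of_le hU

theorem isSylowIn_of_card [Finite G] [hp : Fact p.Prime] {P M : Subgroup G} (hPM : P ≤ M)
    (hP : IsPGroup p P) (hc : Nat.card P = p ^ (Nat.card M).factorization p) :
    IsSylowIn p P M := by
  have hc' : Nat.card (P.subgroupOf M) = p ^ (Nat.card M).factorization p := by
    rw [Nat.card_congr (Subgroup.subgroupOfEquivOfLe hPM).toEquiv, hc]
  exact ⟨hPM, hP, (Sylow.ofCard (P.subgroupOf M) hc').not_dvd_index⟩

theorem card_sylow_le_of_le [Finite G] [hp : Fact p.Prime] {P M : Subgroup G}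
    (hP : IsPGroup p P) (hPM : P ≤ M) : Nat.card P ≤ p ^ (Nat.card M).factorization p := by
  obtain ⟨U, hU⟩ := (hP.of_equiv (Subgroup.subgroupOfEquivOfLe hPM).symm).exists_le_sylow
  rw [← U.card_eq_multiplicity, ← Nat.card_congr (Subgroup.subgroupOfEquivOfLe hPM).toEquiv]
  exact Subgroup.card_le_of_le hU

/-- A Sylow subgroup contained in `M` is Sylow in `M`. -/
theorem isSylowIn_of_le [Finite G] [hp : Fact p.Prime] (S : Sylow p G) {M : Subgroup G}
    (h : (S : Subgroup G) ≤ M) : IsSylowIn p (S : Subgroup G) M :=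
  ⟨h, S.2, (S.subtype h).not_dvd_index⟩

theorem mem_sylowMembers_iff [Finite G] [hp : Fact p.Prime] {𝓕 : Set (Subgroup G)}
    {S X : Subgroup G} :
    X ∈ Cfsg.sylowMembers p 𝓕 S ↔ X ∈ 𝓕 ∧ IsSylowIn p (S ⊓ X) X := by
  refine and_congr_right fun _ => ⟨fun ⟨P, hP⟩ => hP ▸ isSylowIn_map_subtype P,
    fun h => exists_sylow_of_isSylowIn h⟩

/-- A member containing the whole Sylow subgroup. -/
theorem mem_sylowMembers_of_le [Finite G] [hp : Fact p.Prime] {𝓕 : Set (Subgroup G)}
    (S : Sylow p G) {X : Subgroup G} (hX : X ∈ 𝓕) (h : (S : Subgroup G) ≤ X) :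
    X ∈ Cfsg.sylowMembers p 𝓕 (S : Subgroup G) := by
  rw [mem_sylowMembers_iff]
  exact ⟨hX, by rw [inf_eq_left.mpr h]; exact isSylowIn_of_le S h⟩

theorem sylowMembers_map [Finite G] [hp : Fact p.Prime] {𝓕 : Set (Subgroup G)}
    (h𝓕 : Cfsg.IsNormalSet 𝓕) {S X : Subgroup G} (hX : X ∈ Cfsg.sylowMembers p 𝓕 S) (g : G) :
    X.map (MulAut.conj g).toMonoidHom ∈
      Cfsg.sylowMembers p 𝓕 (S.map (MulAut.conj g).toMonoidHom) := by
  rw [mem_sylowMembers_iff] at hX ⊢
  refine ⟨?_, ?_⟩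
  · have := h𝓕 X hX.1 g⁻¹
    rwa [subgroupConjRight_eq, inv_inv] at this
  · rw [← Subgroup.map_inf _ _ _ (MulAut.conj g).injective]
    exact hX.2.map g

theorem Step.smul [Finite G] [hp : Fact p.Prime] {𝓕 : Set (Subgroup G)} (h𝓕 : Cfsg.IsNormalSet 𝓕)
    {D : Subgroup G} {a b : Sylow p G} (h : Step p 𝓕 D a b) (g : G) :
    Step p 𝓕 (D.map (MulAut.conj g).toMonoidHom) (g • a) (g • b) := by
  obtain ⟨X, x, h1, h2, h3, h4, h5⟩ := h
  refine ⟨X.map (MulAut.conj g).toMonoidHom, g * x * g⁻¹, ?_, ?_, ?_, ?_, ?_⟩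
  · rw [coe_smul_eq_map]; exact sylowMembers_map h𝓕 h1 g
  · rw [coe_smul_eq_map]; exact sylowMembers_map h𝓕 h2 g
  · exact ⟨x, h3, by simp⟩
  · rw [coe_smul_eq_map, coe_smul_eq_map, ← h4, subgroupConjRight_eq, subgroupConjRight_eq,
      map_conj_conj, map_conj_conj]
    congr 2
    simp [mul_assoc]
  · rw [coe_smul_eq_map, ← Subgroup.map_inf _ _ _ (MulAut.conj g).injective]
    exact Subgroup.map_mono h5

theorem Linked.smul [Finite G] [hp : Fact p.Prime] {𝓕 : Set (Subgroup G)}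
    (h𝓕 : Cfsg.IsNormalSet 𝓕) {D : Subgroup G} {a b : Sylow p G} (h : Linked p 𝓕 D a b) (g : G) :
    Linked p 𝓕 (D.map (MulAut.conj g).toMonoidHom) (g • a) (g • b) := by
  induction h with
  | refl => exact Relation.ReflTransGen.refl
  | tail _ hs ih => exact ih.tail (hs.smul h𝓕 g)

theorem Linked.mono {𝓕 : Set (Subgroup G)} {D D' : Subgroup G} (hD : D' ≤ D) {a b : Sylow p G}
    (h : Linked p 𝓕 D a b) : Linked p 𝓕 D' a b :=
  by
  induction h with
  | refl => exact Relation.ReflTransGen.refl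
  | tail _ hs ih =>
    obtain ⟨X, x, h1, h2, h3, h4, h5⟩ := hs
    exact ih.tail ⟨X, x, h1, h2, h3, h4, hD.trans h5⟩

/-- Reachability along a `Fin`-indexed chain. -/
theorem reflTransGen_of_chain {α : Type*} {r : α → α → Prop} :
    ∀ {n : ℕ} (c : Fin (n + 1) → α), (∀ i : Fin n, r (c i.castSucc) (c i.succ)) →
      Relation.ReflTransGen r (c 0) (c (Fin.last n))
  | 0, _, _ => Relation.ReflTransGen.refl
  | n + 1, c, h => by
    have h1 := reflTransGen_of_chain (fun i : Fin (n + 1) => c i.castSucc)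
      (fun i => by
        have h0 := h i.castSucc
        rw [Fin.succ_castSucc] at h0
        exact h0)
    have h2 := h (Fin.last n)
    rw [Fin.succ_last] at h2
    exact h1.tail h2

theorem linked_iff {𝓕 : Set (Subgroup G)} {D : Subgroup G} {S T : Sylow p G} :
    Linked p 𝓕 D S T ↔
      ∃ (n : ℕ) (c : Fin (n + 1) → Sylow p G) (X : Fin n → Subgroup G) (x : Fin n → G),
        c 0 = S ∧ c (Fin.last n) = T ∧
        ∀ i : Fin n,
          X i ∈ Cfsg.sylowMembers p 𝓕 (c i.castSucc : Subgroup G) ∧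
          X i ∈ Cfsg.sylowMembers p 𝓕 (c i.succ : Subgroup G) ∧
          x i ∈ X i ∧
          Cfsg.subgroupConjRight (x i) (c i.succ : Subgroup G) = (c i.castSucc : Subgroup G) ∧
          D ≤ (c i.succ : Subgroup G) ⊓ X i := by
  constructor
  · intro h
    induction h using Relation.ReflTransGen.head_induction_on with
    | refl => exact ⟨0, fun _ => T, Fin.elim0, Fin.elim0, rfl, rfl, fun i => i.elim0⟩
    | head hs _ ih =>
      rename_i a b _
      obtain ⟨n, c, X, x, h0, hl, hc⟩ := ih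
      obtain ⟨X₀, x₀, h1, h2, h3, h4, h5⟩ := hs
      refine ⟨n + 1, Fin.cons a c, Fin.cons X₀ X, Fin.cons x₀ x, Fin.cons_zero _ _, ?_, ?_⟩
      · rw [← Fin.succ_last, Fin.cons_succ, hl]
      · intro i
        induction i using Fin.cases with
        | zero =>
          simp only [Fin.castSucc_zero, Fin.cons_zero, Fin.cons_succ, h0]
          exact ⟨h1, h2, h3, h4, h5⟩
        | succ i =>
          simp only [← Fin.succ_castSucc, Fin.cons_succ]
          exact hc i
  · rintro ⟨n, c, X, x, rfl, rfl, hc⟩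
    exact reflTransGen_of_chain c fun i => ⟨X i, x i, hc i⟩

theorem controls_iff {𝓕 : Set (Subgroup G)} :
    Cfsg.ControlsSylowIntersections p 𝓕 ↔ ∀ S T : Sylow p G, S ≠ T →
      (S : Subgroup G) ⊓ (T : Subgroup G) ≠ ⊥ →
        Linked p 𝓕 ((S : Subgroup G) ⊓ (T : Subgroup G)) S T :=
  forall₂_congr fun _ _ => forall₂_congr fun _ _ => linked_iff.symm

theorem Linked.of_controls {𝓕 : Set (Subgroup G)} (h : Cfsg.ControlsSylowIntersections p 𝓕)
    {D : Subgroup G} (hD : D ≠ ⊥) {a b : Sylow p G} (ha : D ≤ (a : Subgroup G))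
    (hb : D ≤ (b : Subgroup G)) : Linked p 𝓕 D a b := by
  by_cases hab : a = b
  · subst hab; exact Relation.ReflTransGen.refl
  · exact ((controls_iff.mp h) a b hab fun e => hD (le_bot_iff.mp (e ▸ le_inf ha hb))).mono
      (le_inf ha hb)

end Cfsg.Agent.SylowChainsBasic
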