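import Mathlib
import Cfsg.Agent.Lib.SylowChainsBasic

/-!
# The families of normalizers induced by a normalizer functor
-/

set_option autoImplicit false

namespace Cfsg.Agent.FunctorFamilyChains

open Subgroup
open scoped Pointwise
open Cfsg.Agent.SylowChainsBasic

variable {G : Type*} [Group G] {p : ℕ}

theorem isSylowIn_map_subtype_of {M : Subgroup G} {A B : Subgroup M} (h : IsSylowIn p A B) :
    IsSylowIn p (A.map M.subtype) (B.map M.subtype) :=
  ⟨Subgroup.map_mono h.1, h.2.1.map _, by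
    rw [Subgroup.relIndex_map_map_of_injective _ _ M.subtype_injective]
    exact h.2.2⟩

theorem map_subtype_conj {M : Subgroup G} (m : M) (A : Subgroup M) :
    (A.map (MulAut.conj m).toMonoidHom).map M.subtype =
      (A.map M.subtype).map (MulAut.conj (m : G)).toMonoidHom := by
  rw [Subgroup.map_map, Subgroup.map_map]
  congr 1

theorem mem_functorFamily [Finite G] [Fact p.Prime] {f : Subgroup G → Set (Subgroup G)}
    {M X : Subgroup G} :
    X ∈ Cfsg.functorFamily p f M ↔ ∃ P, IsSylowIn p P M ∧ ∃ F ∈ f P,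
      X = M ⊓ Subgroup.normalizer (F : Set G) := by
  constructor
  · rintro ⟨P, hP⟩
    exact ⟨_, isSylowIn_map_subtype P, hP⟩
  · rintro ⟨P, hP, h⟩
    obtain ⟨Q, rfl⟩ := exists_sylow_of_isSylowIn hP
    exact ⟨Q, h⟩

theorem normalizer_mem_functorFamily_top [Finite G] [Fact p.Prime]
    {f : Subgroup G → Set (Subgroup G)} {P F : Subgroup G} (hP : IsSylowIn p P ⊤) (hF : F ∈ f P) :
    Subgroup.normalizer (F : Set G) ∈ Cfsg.functorFamily p f ⊤ :=
  mem_functorFamily.mpr ⟨P, hP, F, hF, top_inf_eq (Subgroup.normalizer (F : Set G)) |>.symm⟩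

theorem isNormalSet_functorFamily_top [Finite G] [Fact p.Prime]
    {f : Subgroup G → Set (Subgroup G)} (hf : Cfsg.IsNormalizerFunctor p f) :
    Cfsg.IsNormalSet (Cfsg.functorFamily p f ⊤) := by
  intro X hX g
  obtain ⟨P, hP, F, hF, rfl⟩ := mem_functorFamily.mp hX
  rw [subgroupConjRight_eq, top_inf_eq,
    Subgroup.map_normalizer_eq_of_bijective F (f := (MulAut.conj g⁻¹).toMonoidHom)
      (MulAut.conj g⁻¹).bijective]
  refine normalizer_mem_functorFamily_top (P := P.map (MulAut.conj g⁻¹).toMonoidHom) ?_ ?_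
  · have := hP.map g⁻¹
    rwa [Subgroup.map_top_of_surjective _ (MulAut.conj g⁻¹).surjective] at this
  · rw [(hf P hP.2.1).2 g⁻¹]
    exact ⟨F, hF, rfl⟩

/-- A step inside `M` over the family induced by `f` in `M`. -/
def StepIn (p : ℕ) (f : Subgroup G → Set (Subgroup G)) (M D : Subgroup G)
    (P Q : Subgroup G) : Prop :=
  ∃ (P₀ F : Subgroup G) (x : G), IsSylowIn p P M ∧ IsSylowIn p Q M ∧ IsSylowIn p P₀ M ∧
    F ∈ f P₀ ∧ IsSylowIn p (P ⊓ (M ⊓ Subgroup.normalizer (F : Set G)))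
      (M ⊓ Subgroup.normalizer (F : Set G)) ∧
    IsSylowIn p (Q ⊓ (M ⊓ Subgroup.normalizer (F : Set G)))
      (M ⊓ Subgroup.normalizer (F : Set G)) ∧
    x ∈ M ⊓ Subgroup.normalizer (F : Set G) ∧ P.map (MulAut.conj x).toMonoidHom = Q ∧
    D ≤ Q ⊓ (M ⊓ Subgroup.normalizer (F : Set G))

theorem le_of_isSylowIn_inf [Finite G] [Fact p.Prime] {P P₀ M X : Subgroup G}
    (hP : IsSylowIn p P M) (hP₀ : IsSylowIn p P₀ M) (h : IsSylowIn p (P ⊓ X) X) (h₀ : P₀ ≤ X) :
    P ≤ X := by
  have h1 : Nat.card P ≤ Nat.card (P ⊓ X : Subgroup G) := by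
    rw [hP.card_eq, ← hP₀.card_eq, h.card_eq]
    exact card_sylow_le_of_le hP₀.2.1 h₀
  exact (Subgroup.eq_of_le_of_card_ge inf_le_left h1) ▸ inf_le_right

/-- In a regular subgroup any two Sylow subgroups containing `D` are joined inside it. -/
theorem regular_chain [Finite G] [Fact p.Prime] {f : Subgroup G → Set (Subgroup G)}
    {M D P Q : Subgroup G} (hr : Cfsg.IsFunctorRegular p f M) (hD : D ≠ ⊥)
    (hP : IsSylowIn p P M) (hQ : IsSylowIn p Q M) (hDP : D ≤ P) (hDQ : D ≤ Q) :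
    Relation.ReflTransGen (StepIn p f M D) P Q := by
  obtain ⟨Pm, rfl⟩ := exists_sylow_of_isSylowIn hP
  obtain ⟨Qm, rfl⟩ := exists_sylow_of_isSylowIn hQ
  set Dm := D.subgroupOf M
  have hDM : D ≤ M := hDP.trans (Subgroup.map_subtype_le _)
  have hD' : Dm ≠ ⊥ := fun e => hD ((Subgroup.subgroupOf_eq_bot.mp e).eq_bot_of_le hDM)
  have hle : ∀ U : Subgroup M, D ≤ U.map M.subtype → Dm ≤ U := by
    intro U h x hx
    obtain ⟨y, hy, hyx⟩ := h hx
    exact (Subtype.ext hyx : y = x) ▸ hy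
  have hlink := Linked.of_controls hr hD' (hle _ hDP) (hle _ hDQ)
  suffices h : ∀ b, Linked p _ Dm Pm b → Relation.ReflTransGen (StepIn p f M D)
      ((Pm : Subgroup M).map M.subtype) ((b : Subgroup M).map M.subtype) from h Qm hlink
  intro b hb
  induction hb with
  | refl => exact Relation.ReflTransGen.refl
  | tail _ hs ih =>
    rename_i c d _
    refine ih.tail ?_
    obtain ⟨X', x, h1, h2, h3, h4, h5⟩ := hs
    rw [mem_sylowMembers_iff] at h1 h2
    obtain ⟨⟨X, hX, rfl⟩, h1⟩ := h1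
    obtain ⟨P₀, hP₀, F, hF, rfl⟩ := mem_functorFamily.mp hX
    simp only at h1 h2 h3 h5
    have e : ((M ⊓ Subgroup.normalizer (F : Set G)).subgroupOf M).map M.subtype =
        M ⊓ Subgroup.normalizer (F : Set G) := by
      rw [Subgroup.subgroupOf_map_subtype, inf_eq_left.mpr inf_le_left]
    have e' : ∀ U : Subgroup M, (U ⊓ (M ⊓ Subgroup.normalizer (F : Set G)).subgroupOf M).map
        M.subtype = U.map M.subtype ⊓ (M ⊓ Subgroup.normalizer (F : Set G)) := fun U => by
      rw [Subgroup.map_inf _ _ _ M.subtype_injective, e]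
    refine ⟨P₀, F, (x : G), isSylowIn_map_subtype c, isSylowIn_map_subtype d, hP₀, hF, ?_, ?_,
      h3, ?_, ?_⟩
    · have := isSylowIn_map_subtype_of h1
      rwa [e', e] at this
    · have := isSylowIn_map_subtype_of h2.2
      rwa [e', e] at this
    · rw [← map_subtype_conj, ← h4, subgroupConjRight_eq, map_conj_conj, mul_inv_cancel,
        map_conj_one]
    · rw [← e']
      intro y hy
      exact ⟨⟨y, hDM hy⟩, h5 hy, rfl⟩

/-- A step inside `M` between full Sylow subgroups is a step over the family of `G`. -/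
theorem StepIn.step_top [Finite G] [Fact p.Prime] {f : Subgroup G → Set (Subgroup G)}
    (hf : Cfsg.IsNormalizerFunctor p f) {𝓕 : Set (Subgroup G)}
    (h𝓕 : Cfsg.functorFamily p f ⊤ ⊆ 𝓕) {M D : Subgroup G} {a b : Sylow p G}
    (h : StepIn p f M D (a : Subgroup G) (b : Subgroup G)) : Step p 𝓕 D a b := by
  obtain ⟨P₀, F, x, hPa, hPb, hP₀, hF, h1, h2, hx, heq, hD⟩ := h
  have hP₀top : IsSylowIn p P₀ ⊤ := by
    refine isSylowIn_of_card le_top hP₀.2.1 ?_
    rw [hP₀.card_eq, ← hPa.card_eq, a.card_eq_multiplicity, Subgroup.card_top]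
  have hP₀X : P₀ ≤ M ⊓ Subgroup.normalizer (F : Set G) :=
    le_inf hP₀.1 (Subgroup.le_normalizer.trans ((hf P₀ hP₀.2.1).1 F hF).2)
  have hN := h𝓕 (normalizer_mem_functorFamily_top hP₀top hF)
  refine ⟨_, x, mem_sylowMembers_of_le a hN
    ((le_of_isSylowIn_inf hPa hP₀ h1 hP₀X).trans inf_le_right),
    mem_sylowMembers_of_le b hN ((le_of_isSylowIn_inf hPb hP₀ h2 hP₀X).trans inf_le_right),
    hx.2, ?_, hD.trans (inf_le_inf_left _ inf_le_right)⟩
  rw [subgroupConjRight_eq, ← heq, map_conj_conj, inv_mul_cancel, map_conj_one]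

end Cfsg.Agent.FunctorFamilyChains
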