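import Mathlib
import Cfsg.Prelude.Def_ConjugacyFunctors
import Cfsg.Agent.Lib.AlperinTame
import Cfsg.Agent.Lib.CentralSylow

/-!
From local to global for a pair of conjugacy functors: the induction over centric subgroups and
well placed values of the functor.
-/

set_option autoImplicit false

namespace Cfsg.Agent.FunctorLocalGlobal

open Cfsg.Agent.AlperinTame

variable {G : Type*} [Group G] {p : ℕ}

/-- `D ≤ P` and every conjugate of `D` in `P` contains its centralizer in `P`. -/
def Centric (P : Sylow p G) (D : Subgroup G) : Prop :=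
  D ≤ P ∧ ∀ g : G, cmap D g ≤ P → (P : Subgroup G) ⊓ Subgroup.centralizer (cmap D g : Set G) ≤ cmap D g

/-- Fully normalized subgroups between `Z(P)` and `P` with centric `N_P(H)`. -/
def Adm (P : Sylow p G) (H : Subgroup G) : Prop :=
  H ≤ P ∧ (P : Subgroup G) ⊓ Subgroup.centralizer ((P : Subgroup G) : Set G) ≤ H ∧
    ¬ p ∣ ((P : Subgroup G) ⊓ Subgroup.normalizer (H : Set G)).relIndex (Subgroup.normalizer (H : Set G)) ∧
    Centric P ((P : Subgroup G) ⊓ Subgroup.normalizer (H : Set G))

lemma Centric.mono {P : Sylow p G} {D E : Subgroup G} (hD : Centric P D) (h : D ≤ E)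
    (hE : E ≤ P) : Centric P E := by
  refine ⟨hE, fun g hg => ?_⟩
  have h1 : cmap D g ≤ cmap E g := cmap_mono h g
  exact le_trans (le_trans (inf_le_inf_left _ (Subgroup.centralizer_le h1)) (hD.2 g (h1.trans hg))) h1

lemma Centric.conj {P : Sylow p G} {D : Subgroup G} (hD : Centric P D) {g : G}
    (hg : cmap D g ≤ P) : Centric P (cmap D g) := by
  refine ⟨hg, fun h hh => ?_⟩
  rw [← cmap_mul] at hh ⊢
  exact hD.2 _ hh

lemma Centric.center_le {P : Sylow p G} {D : Subgroup G} (hD : Centric P D) :
    (P : Subgroup G) ⊓ Subgroup.centralizer ((P : Subgroup G) : Set G) ≤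
      D ⊓ Subgroup.centralizer (D : Set G) := by
  have h := hD.2 1 (by simpa using hD.1)
  rw [cmap_one] at h
  have h1 : (P : Subgroup G) ⊓ Subgroup.centralizer ((P : Subgroup G) : Set G) ≤
      (P : Subgroup G) ⊓ Subgroup.centralizer (D : Set G) :=
    inf_le_inf_left _ (Subgroup.centralizer_le hD.1)
  exact le_inf (h1.trans h) (h1.trans inf_le_right)

lemma cmap_eq_of_mem_centralizer {X : Subgroup G} {c : G} (hc : c ∈ Subgroup.centralizer (X : Set G)) :
    cmap X c = X := by
  rw [Subgroup.mem_centralizer_iff] at hc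
  ext x
  rw [mem_cmap]
  constructor
  · intro h
    have h1 := hc _ h
    have : x = c * x * c⁻¹ := by
      have h2 : c * x * c⁻¹ * c = c * (c * x * c⁻¹) := h1
      simp only [inv_mul_cancel_right] at h2
      exact (mul_left_cancel h2)
    rwa [this]
  · intro h
    rw [← hc x h]
    simpa using h

lemma conj_mem_centralizer {X : Subgroup G} {b c : G}
    (hc : c ∈ Subgroup.centralizer (cmap X b : Set G)) :
    b * c * b⁻¹ ∈ Subgroup.centralizer (X : Set G) := by
  rw [Subgroup.mem_centralizer_iff] at hc ⊢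
  intro x hx
  have h := hc _ (conj_mem_cmap (g := b) hx)
  calc x * (b * c * b⁻¹) = b * (b⁻¹ * x * b * c) * b⁻¹ := by group
    _ = b * (c * (b⁻¹ * x * b)) * b⁻¹ := by rw [h]
    _ = b * c * b⁻¹ * x := by group

/-- Two Sylow subgroups of a subgroup are conjugate in it. -/
lemma exists_conj_sylow_in [Finite G] [Fact p.Prime] {L Q T : Subgroup G} (hQ : Q ≤ L) (hT : T ≤ L)
    (hQp : IsPGroup p Q) (hTp : IsPGroup p T) (hQi : ¬ p ∣ Q.relIndex L) (hTi : ¬ p ∣ T.relIndex L) :
    ∃ l ∈ L, cmap Q l = T := by
  let Q' : Sylow p L := (IsPGroup.comap_of_injective hQp L.subtype L.subtype_injective).toSylow hQi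
  let T' : Sylow p L := (IsPGroup.comap_of_injective hTp L.subtype L.subtype_injective).toSylow hTi
  obtain ⟨l, hl⟩ := MulAction.exists_smul_eq L Q' T'
  refine ⟨(l : G)⁻¹, inv_mem l.2, ?_⟩
  refine (Subgroup.eq_of_le_of_card_ge ?_ ?_)
  · intro x hx
    rw [mem_cmap, inv_inv] at hx
    have hxL : x ∈ L := by
      have := L.mul_mem (L.mul_mem l.2 (hQ hx)) (L.inv_mem l.2)
      simpa [mul_assoc] using this
    have h1 : (⟨(l : G)⁻¹ * x * l, L.mul_mem (L.mul_mem (L.inv_mem l.2) hxL) l.2⟩ : L) ∈ (Q' : Subgroup L) := hx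
    have h2 : l * ⟨(l : G)⁻¹ * x * l, L.mul_mem (L.mul_mem (L.inv_mem l.2) hxL) l.2⟩ * l⁻¹ ∈ (T' : Subgroup L) := by
      rw [← hl]; exact ⟨_, h1, rfl⟩
    have h3 : (l : G) * ((l : G)⁻¹ * x * l) * (l : G)⁻¹ ∈ T := h2
    simpa [mul_assoc] using h3
  · have h1 : Nat.card (Q' : Subgroup L) = Nat.card Q :=
      Nat.card_congr (Subgroup.subgroupOfEquivOfLe hQ).toEquiv
    have h2 : Nat.card (T' : Subgroup L) = Nat.card T :=
      Nat.card_congr (Subgroup.subgroupOfEquivOfLe hT).toEquiv
    rw [card_cmap, ← h1, ← h2, Sylow.card_eq_multiplicity, Sylow.card_eq_multiplicity]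

/-- The skeleton of local-to-global arguments with a conjugacy functor `W`. -/
theorem local_to_global [Finite G] [Fact p.Prime] (P : Sylow p G) (W : Subgroup G → Subgroup G)
    (hW : Cfsg.IsConjugacyFunctor p W)
    (hWZ : ∀ H : Subgroup G, IsPGroup p ↥H → H ⊓ Subgroup.centralizer ((H : Subgroup G) : Set G) ≤ W H)
    (Good : Subgroup G → G → Prop) (LocOK : Subgroup G → Prop)
    (hmono : ∀ {X Y : Subgroup G} {a : G}, Good Y a → X ≤ Y → Y ≤ P → cmap Y a ≤ P → Good X a)
    (htrans : ∀ {X : Subgroup G} {a b : G}, X ≤ P → Good X a → Good (cmap X a) b → Good X (a * b))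
    (hcent : ∀ {X : Subgroup G} {c : G}, X ≤ P → c ∈ Subgroup.centralizer (X : Set G) → Good X c)
    (hnorm : ∀ {X : Subgroup G} {x : G}, X ≤ P →
      x ∈ Subgroup.normalizer ((P : Subgroup G) : Set G) → Good X x)
    (hloc : ∀ H : Subgroup G, Adm P H → LocOK H → ∀ (X : Subgroup G) (a : G),
      X ≤ (P : Subgroup G) ⊓ Subgroup.normalizer (H : Set G) → a ∈ Subgroup.normalizer (H : Set G) →
      cmap X a ≤ (P : Subgroup G) ⊓ Subgroup.normalizer (H : Set G) → Good X a)
    (hstep : ∀ H : Subgroup G, Adm P H →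
      ((P : Subgroup G) ⊓ Subgroup.normalizer (H : Set G) < P →
        ∃ g : G,
          Good ((P : Subgroup G) ⊓ Subgroup.normalizer (W ((P : Subgroup G) ⊓ Subgroup.normalizer (H : Set G)) : Set G)) g ∧
          cmap ((P : Subgroup G) ⊓ Subgroup.normalizer (W ((P : Subgroup G) ⊓ Subgroup.normalizer (H : Set G)) : Set G)) g ≤ P ∧
          LocOK (cmap (W ((P : Subgroup G) ⊓ Subgroup.normalizer (H : Set G))) g)) → LocOK H) :
    (∀ H : Subgroup G, Adm P H → LocOK H) ∧
      ∀ (A : Subgroup G), A ≤ P → ∀ g : G, cmap A g ≤ P → Good A g := by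
  have cardlt : ∀ {X Y : Subgroup G}, X < Y → Nat.card X < Nat.card Y := fun {X Y} hXY =>
    lt_of_le_of_ne (Subgroup.card_le_of_le hXY.le)
      (fun h => hXY.ne (Subgroup.eq_of_le_of_card_ge hXY.le h.ge))
  have main : ∀ n : ℕ,
      (∀ H : Subgroup G, Adm P H →
        Nat.card G - Nat.card ↥((P : Subgroup G) ⊓ Subgroup.normalizer (H : Set G)) = n → LocOK H) ∧
      (∀ D : Subgroup G, Centric P D → Nat.card G - Nat.card D = n →
        ∀ g : G, cmap D g ≤ P → Good D g) := by
    intro n
    induction n using Nat.strong_induction_on with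
    | _ n ih =>
    refine ⟨?_, ?_⟩
    · intro H hH hn
      refine hstep H hH (fun hlt => ?_)
      set T := (P : Subgroup G) ⊓ Subgroup.normalizer (H : Set G) with hT
      have hTp : IsPGroup p T := P.isPGroup'.to_le inf_le_left
      set K := W T with hK
      have hKT : K ≤ T := (hW T hTp).1
      have hTN : Subgroup.normalizer (T : Set G) ≤ Subgroup.normalizer (K : Set G) := by
        intro x hx
        rw [← cmap_eq_self_iff] at hx ⊢
        have h := (hW T hTp).2.2 x⁻¹
        show (W T).map (MulAut.conj x⁻¹).toMonoidHom = W T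
        rw [← h]
        exact congrArg W hx
      have hlt2 : T < (P : Subgroup G) ⊓ Subgroup.normalizer (K : Set G) :=
        lt_of_lt_of_le (lt_normalizer_inf P.isPGroup' hlt) (inf_le_inf_left _ hTN)
      have hcenK : Centric P ((P : Subgroup G) ⊓ Subgroup.normalizer (K : Set G)) :=
        hH.2.2.2.mono hlt2.le inf_le_left
      obtain ⟨g, hg1, hg2, hfull⟩ := exists_fullyNormalized P K (hKT.trans inf_le_left)
      have hmlt : Nat.card G - Nat.card ↥((P : Subgroup G) ⊓ Subgroup.normalizer (K : Set G)) < n := by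
        have h1 := cardlt hlt2
        have h2 := Subgroup.card_le_card_group ((P : Subgroup G) ⊓ Subgroup.normalizer (K : Set G))
        omega
      refine ⟨g, (ih _ hmlt).2 _ hcenK rfl g hg2, hg2, ?_⟩
      have hTg : cmap T g ≤ P := (cmap_mono hlt2.le g).trans hg2
      have hle : cmap ((P : Subgroup G) ⊓ Subgroup.normalizer (K : Set G)) g ≤
          (P : Subgroup G) ⊓ Subgroup.normalizer (cmap K g : Set G) := by
        refine le_inf hg2 ?_
        rw [cmap_normalizer]
        exact cmap_mono inf_le_right g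
      have hK' : Adm P (cmap K g) := by
        refine ⟨hg1, ?_, hfull, ?_⟩
        · have h1 := (hH.2.2.2.conj hTg).center_le
          have h2 := hWZ (cmap T g) (isPGroup_cmap hTp g)
          have h3 : W (cmap T g) = cmap K g := (hW T hTp).2.2 g⁻¹
          exact h3 ▸ h1.trans h2
        · exact (hH.2.2.2.conj hTg).mono ((cmap_mono hlt2.le g).trans hle) inf_le_left
      refine (ih _ ?_).1 _ hK' rfl
      have h1 := cardlt hlt2
      have h2 := Subgroup.card_le_of_le hle
      rw [card_cmap] at h2
      have h3 := Subgroup.card_le_card_group ((P : Subgroup G) ⊓ Subgroup.normalizer (cmap K g : Set G))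
      omega
    · intro D hD hn g hg
      have hch := alperin P D hD.1 g hg
      have key : ∀ (A : Subgroup G) (k : G), Chain P A k → Centric P A → Nat.card A = Nat.card D →
          cmap A k ≤ P → Good A k := by
        intro A k hc
        induction hc with
        | refl A => exact fun hA _ _ => hcent hA.1 (one_mem _)
        | cons A Q x k hs hle _ ihc =>
          intro hA hcard hk
          have hAP : A ≤ P := hA.1
          have hxle : cmap A x ≤ (P : Subgroup G) ⊓ (Q : Subgroup G) :=
            (cmap_mono hle x).trans (le_of_eq (cmap_eq_self_iff.2 hs.2.1))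
          have hAx : cmap A x ≤ P := hxle.trans inf_le_left
          refine htrans hAP ?_ (ihc (hA.conj hAx) (by rw [card_cmap, hcard]) (by rwa [← cmap_mul]))
          rcases eq_or_lt_of_le (inf_le_left : (P : Subgroup G) ⊓ (Q : Subgroup G) ≤ P) with hPQ | hPQ
          · exact hnorm hAP (by have := hs.2.1; rwa [hPQ] at this)
          · set H := (P : Subgroup G) ⊓ (Q : Subgroup G) with hH
            have hHcen : Centric P H := hA.mono hle inf_le_left
            have hHN : H ≤ (P : Subgroup G) ⊓ Subgroup.normalizer (H : Set G) :=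
              le_inf inf_le_left Subgroup.le_normalizer
            have hadm : Adm P H := ⟨inf_le_left, hHcen.center_le.trans inf_le_left, hs.1.1,
              hHcen.mono hHN inf_le_left⟩
            refine hloc H hadm ?_ A x (hle.trans hHN) hs.2.1 (hxle.trans hHN)
            refine (ih _ ?_).1 H hadm rfl
            have h1 := cardlt (lt_normalizer_inf P.isPGroup' hPQ)
            have h2 := Subgroup.card_le_of_le hle
            have h3 := Subgroup.card_le_card_group ((P : Subgroup G) ⊓ Subgroup.normalizer (H : Set G))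
            rw [hcard] at h2
            omega
      exact key D g hch hD rfl hg
  refine ⟨fun H hH => (main _).1 H hH rfl, fun A hA g hg => ?_⟩
  have hgen : ∀ D : Subgroup G, Centric P D → ∀ g : G, cmap D g ≤ P → Good D g :=
    fun D hD g hg => (main _).2 D hD rfl g hg
  have hch := alperin P A hA g hg
  revert hA hg
  induction hch with
  | refl A => exact fun hA _ => hcent hA (one_mem _)
  | cons A Q x k hs hle _ ihc =>
    intro hA hk
    set H := (P : Subgroup G) ⊓ (Q : Subgroup G) with hH
    have hxle : cmap A x ≤ H := (cmap_mono hle x).trans (le_of_eq (cmap_eq_self_iff.2 hs.2.1))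
    refine htrans hA ?_ (ihc (hxle.trans inf_le_left) (by rwa [← cmap_mul]))
    set N := Subgroup.normalizer (H : Set G) with hN
    set C := Subgroup.centralizer (H : Set G) with hC
    have hCN : C ≤ N := by
      intro c hc
      exact cmap_eq_self_iff.1 (cmap_eq_of_mem_centralizer hc)
    let T0 : Sylow p N := (IsPGroup.comap_of_injective
      (P.isPGroup'.to_le (inf_le_left : (P : Subgroup G) ⊓ N ≤ P)) N.subtype N.subtype_injective).toSylow hs.1.1
    let C0 : Subgroup N := C.subgroupOf N
    haveI hC0 : C0.Normal := by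
      refine ⟨fun c hc n => ?_⟩
      show (n : G) * (c : G) * (n : G)⁻¹ ∈ C
      refine conj_mem_centralizer ?_
      rw [cmap_eq_self_iff.2 n.2]
      exact hc
    let U : Sylow p C0 := (IsPGroup.comap_of_injective (T0.isPGroup'.to_le inf_le_left) C0.subtype
      C0.subtype_injective : IsPGroup p (((T0 : Subgroup N) ⊓ C0).subgroupOf C0)).toSylow
        (CentralSylow.not_dvd_relIndex_normal T0 C0)
    have hU : (U : Subgroup C0).map C0.subtype = (T0 : Subgroup N) ⊓ C0 := by
      show (((T0 : Subgroup N) ⊓ C0).subgroupOf C0).map C0.subtype = _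
      rw [Subgroup.map_subgroupOf_eq_of_le inf_le_right]
    have htop := Sylow.normalizer_sup_eq_top U
    rw [hU] at htop
    have hx' : (⟨x, hs.2.1⟩ : N) ∈ C0 ⊔
        Subgroup.normalizer (((T0 : Subgroup N) ⊓ C0 : Subgroup N) : Set N) := by
      rw [sup_comm, htop]; exact Subgroup.mem_top _
    rw [← SetLike.mem_coe, Subgroup.normal_mul, Set.mem_mul] at hx'
    obtain ⟨c, hc, m, hm, hcm⟩ := hx'
    have hxeq : x = (c : G) * m := (congrArg Subtype.val hcm).symm
    rw [hxeq]
    have hcA : (c : G) ∈ Subgroup.centralizer (A : Set G) := Subgroup.centralizer_le hle hc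
    refine htrans hA (hcent hA hcA) ?_
    rw [cmap_eq_of_mem_centralizer hcA]
    set D := H ⊔ (P : Subgroup G) ⊓ C with hD
    have hDP : D ≤ P := sup_le inf_le_left inf_le_left
    have hmC : cmap ((P : Subgroup G) ⊓ C) (m : G) = (P : Subgroup G) ⊓ C := by
      replace hm := Subgroup.mem_normalizer_iff.1 hm
      ext y
      rw [mem_cmap]
      constructor
      · rintro ⟨hy1, hy2⟩
        have hyN : y ∈ N := by
          have := N.mul_mem (N.mul_mem (N.inv_mem m.2) (hCN hy2)) m.2
          simpa [mul_assoc] using this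
        have := (hm ⟨y, hyN⟩).2 ⟨⟨hy1, hCN hy2⟩, hy2⟩
        exact ⟨this.1.1, this.2⟩
      · rintro ⟨hy1, hy2⟩
        have := (hm ⟨y, hCN hy2⟩).1 ⟨⟨hy1, hCN hy2⟩, hy2⟩
        exact ⟨this.1.1, this.2⟩
    have hmH : cmap H (m : G) = H := cmap_eq_self_iff.2 m.2
    have hmD : cmap D (m : G) = D := by
      show Subgroup.map _ _ = _
      rw [hD, Subgroup.map_sup]
      exact congrArg₂ (· ⊔ ·) hmH hmC
    have hcen : Centric P D := by
      refine ⟨hDP, fun h hh => ?_⟩
      refine le_trans ?_ (cmap_mono (le_sup_right : (P : Subgroup G) ⊓ C ≤ D) h)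
      refine le_trans (inf_le_inf_left _ (Subgroup.centralizer_le (cmap_mono (le_sup_left : H ≤ D) h))) ?_
      refine le_of_eq (Subgroup.eq_of_le_of_card_ge (le_inf ?_ ?_) ?_).symm
      · exact (cmap_mono le_sup_right h).trans hh
      · intro y hy
        rw [mem_cmap] at hy
        have h0 : h * y * h⁻¹ ∈ Subgroup.centralizer (cmap (cmap H h) h⁻¹ : Set G) := by
          rw [cmap_cancel]; exact hy.2
        have h1 := conj_mem_centralizer h0
        simpa [mul_assoc] using h1
      · have hp0 : IsPGroup p (cmap ((P : Subgroup G) ⊓ Subgroup.centralizer (cmap H h : Set G)) h⁻¹) :=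
          isPGroup_cmap (P.isPGroup'.to_le inf_le_left) _
        have hle0 : cmap ((P : Subgroup G) ⊓ Subgroup.centralizer (cmap H h : Set G)) h⁻¹ ≤ C := by
          intro y hy
          rw [mem_cmap, inv_inv] at hy
          have h1 := conj_mem_centralizer hy.2
          simpa [mul_assoc] using h1
        have hp1 : IsPGroup p ((((cmap ((P : Subgroup G) ⊓ Subgroup.centralizer (cmap H h : Set G)) h⁻¹).subgroupOf N)).subgroupOf C0) :=
          IsPGroup.comap_of_injective (IsPGroup.comap_of_injective hp0 N.subtype N.subtype_injective)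
            C0.subtype C0.subtype_injective
        obtain ⟨V, hV⟩ := hp1.exists_le_sylow
        have h5 := Subgroup.card_le_of_le hV
        have h6 : Nat.card (V : Subgroup C0) = Nat.card (U : Subgroup C0) := by
          rw [Sylow.card_eq_multiplicity, Sylow.card_eq_multiplicity]
        have h7 : Nat.card (U : Subgroup C0) ≤ Nat.card ↥((P : Subgroup G) ⊓ C) := by
          rw [← Nat.card_congr (((U : Subgroup C0).equivMapOfInjective _ C0.subtype_injective).toEquiv.symm), hU,
            ← Nat.card_congr (((((T0 : Subgroup N) ⊓ C0 : Subgroup N)).equivMapOfInjective _ N.subtype_injective).toEquiv.symm)]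
          refine Subgroup.card_le_of_le ?_
          rintro _ ⟨y, ⟨hy1, hy2⟩, rfl⟩
          exact ⟨hy1.1, hy2⟩
        have h8 : Nat.card (((cmap ((P : Subgroup G) ⊓ Subgroup.centralizer (cmap H h : Set G)) h⁻¹).subgroupOf N).subgroupOf C0) =
            Nat.card ↥((P : Subgroup G) ⊓ Subgroup.centralizer (cmap H h : Set G)) := by
          rw [Nat.card_congr (Subgroup.subgroupOfEquivOfLe (G := N) (fun y hy => hle0 hy)).toEquiv,
            Nat.card_congr (Subgroup.subgroupOfEquivOfLe (hle0.trans hCN)).toEquiv, card_cmap]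
        rw [card_cmap]
        omega
    refine hmono (hgen D hcen m (hmD.le.trans hDP)) (hle.trans le_sup_left) hDP ?_
    exact hmD.le.trans hDP

lemma cmap_centralizer (A : Subgroup G) (g : G) :
    Subgroup.centralizer (cmap A g : Set G) = cmap (Subgroup.centralizer (A : Set G)) g := by
  ext y
  rw [mem_cmap]
  refine ⟨conj_mem_centralizer, fun hy => ?_⟩
  have h0 : g * y * g⁻¹ ∈ Subgroup.centralizer (cmap (cmap A g) g⁻¹ : Set G) := by
    rwa [cmap_cancel]
  have h1 := conj_mem_centralizer h0
  simpa [mul_assoc] using h1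

lemma cmap_inf (A B : Subgroup G) (g : G) : cmap (A ⊓ B) g = cmap A g ⊓ cmap B g :=
  Subgroup.map_inf _ _ _ (MulAut.conj g⁻¹).injective

lemma cmap_commutator (A B : Subgroup G) (g : G) : cmap ⁅A, B⁆ g = ⁅cmap A g, cmap B g⁆ :=
  Subgroup.map_commutator _ _ _

lemma functor_cmap {W : Subgroup G → Subgroup G} (hW : Cfsg.IsConjugacyFunctor p W) {T : Subgroup G}
    (hT : IsPGroup p T) (g : G) : W (cmap T g) = cmap (W T) g :=
  (hW T hT).2.2 g⁻¹

lemma normalizer_le_functor {W : Subgroup G → Subgroup G} (hW : Cfsg.IsConjugacyFunctor p W)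
    {T : Subgroup G} (hT : IsPGroup p T) :
    Subgroup.normalizer (T : Set G) ≤ Subgroup.normalizer (W T : Set G) := by
  intro x hx
  rw [← cmap_eq_self_iff] at hx ⊢
  rw [← functor_cmap hW hT, hx]

lemma centralizer_functor_le [Finite G] [Fact p.Prime] (P : Sylow p G) (hdiv : p ∣ Nat.card G)
    {V : Subgroup G → Subgroup G}
    (hVmono : ∀ H K : Subgroup G, IsPGroup p ↥H → IsPGroup p ↥K → H ≠ ⊥ → K ≠ ⊥ →
      H ⊓ Subgroup.centralizer ((H : Subgroup G) : Set G) ≤ K ⊓ Subgroup.centralizer ((K : Subgroup G) : Set G) →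
      V H ≤ V K)
    {T : Subgroup G} (hT : Centric P T) :
    Subgroup.centralizer (V T : Set G) ≤ Subgroup.centralizer (V (P : Subgroup G) : Set G) := by
  have hP : (P : Subgroup G) ≠ ⊥ := P.ne_bot_of_dvd_card hdiv
  refine Subgroup.centralizer_le (hVmono _ _ P.isPGroup' (P.isPGroup'.to_le hT.1) hP ?_ hT.center_le)
  intro h
  have h1 := hT.2 1 (by simpa using hT.1)
  rw [cmap_one, h] at h1
  refine hP (le_bot_iff.1 (le_trans ?_ h1))
  refine le_inf le_rfl ?_
  intro x _
  rw [Subgroup.mem_centralizer_iff]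
  intro y hy
  rw [SetLike.mem_coe, Subgroup.mem_bot] at hy
  simp [hy]

end Cfsg.Agent.FunctorLocalGlobal
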