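import Cfsg.Agent.Lib.QdStability56
import Cfsg.Agent.Lib.ConjFunctorMain

/-!
In `Qd(p)` the normalizer of every nontrivial characteristic subgroup of a Sylow subgroup stabilises
the line fixed by that Sylow subgroup, so no set of functors controls strong fusion there.
-/

set_option autoImplicit false
set_option linter.all false

namespace Cfsg.Agent.FunctorQdReverse31

open Matrix hiding vec
open Subgroup
open scoped MatrixGroups
open Cfsg.Agent.QdStructure56 Cfsg.Agent.QdStability56

variable {p : ℕ} [hp : Fact p.Prime]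

/-- Normalizers of characteristic subgroups of the Sylow subgroup act by triangular matrices. -/
theorem blk_mem_borel (U : Subgroup (Qd (ZMod p))) (hUT : U ≤ sylT) (hU : U ≠ ⊥)
    (hchar : ∀ (α : ↥(sylT (p := p)) ≃* ↥(sylT (p := p))), ∀ x ∈ U.subgroupOf sylT,
      α x ∈ U.subgroupOf sylT)
    {h : Qd (ZMod p)} (hh : h ∈ normalizer (U : Set (Qd (ZMod p)))) :
    blk h ∈ PSL2Sylow.borel (ZMod p) := by
  haveI : NeZero p := ⟨hp.out.ne_zero⟩
  set T := sylT (p := p)
  have hTn : ∀ t ∈ T, ∀ x ∈ U, t * x * t⁻¹ ∈ U := fun t ht x hx => by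
    simpa [mem_subgroupOf] using hchar (MulAut.conj (⟨t, ht⟩ : ↥T)) ⟨x, hUT hx⟩ (mem_subgroupOf.mpr hx)
  have htr : ∀ v : Fin 2 → ZMod p, trn (Multiplicative.ofAdd v) ∈ T := fun v =>
    mem_sylT.mpr ⟨0, by simp [trn, PSL2Elements.u_zero]⟩
  have htV : ∀ v : Fin 2 → ZMod p, trn (Multiplicative.ofAdd v) ∈ transl (ZMod p) := fun v =>
    mem_transl.mpr (by simp [trn])
  set e2 := trn (Multiplicative.ofAdd (Pi.single 1 (1 : ZMod p) : Fin 2 → ZMod p))
  have hpow : ∀ (v : Fin 2 → ZMod p) (c : ZMod p), trn (Multiplicative.ofAdd v) ∈ U →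
      trn (Multiplicative.ofAdd (c • v)) ∈ U := by
    intro v c hv
    have := U.pow_mem hv c.val
    rw [← map_pow, ← ofAdd_nsmul] at this
    rwa [show c.val • v = c • v from funext fun i => by
      simp only [Pi.smul_apply, nsmul_eq_mul, smul_eq_mul, ZMod.natCast_zmod_val]] at this
  -- a nontrivial translation in `U`
  obtain ⟨x, hx, hxV, hx1⟩ : ∃ x ∈ U, x ∈ transl (ZMod p) ∧ x ≠ 1 := by
    obtain ⟨x, hx, hx1⟩ := (Subgroup.bot_or_exists_ne_one U).resolve_left hU
    by_cases hxV : x ∈ transl (ZMod p)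
    · exact ⟨x, hx, hxV, hx1⟩
    refine ⟨e2 * x * e2⁻¹ * x⁻¹, U.mul_mem (hTn _ (htr _) x hx) (U.inv_mem hx), ?_, ?_⟩
    · rw [mem_transl]; simp [e2, trn]
    · intro h
      apply hxV
      obtain ⟨a, ha⟩ := mem_sylT.mp (hUT hx)
      have hc := conj_transl x (M := e2) (mem_transl.mpr (by simp [e2, trn]))
      rw [mul_inv_eq_one, mul_inv_eq_iff_eq_mul] at h
      rw [← h, mul_inv_cancel_right, ha] at hc
      rw [mem_transl, ha]
      have := congrFun hc 0
      simp [e2, trn, PSL2Elements.u, Matrix.mulVec, dotProduct, Fin.sum_univ_two] at this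
      rw [← this, PSL2Elements.u_zero]
  have hline : ∀ c : ZMod p, trn (Multiplicative.ofAdd (Pi.single 0 c : Fin 2 → ZMod p)) ∈ U := by
    have key : ∀ c : ZMod p, c ≠ 0 → trn (Multiplicative.ofAdd (Pi.single 0 c : Fin 2 → ZMod p)) ∈ U →
        ∀ d : ZMod p, trn (Multiplicative.ofAdd (Pi.single 0 d : Fin 2 → ZMod p)) ∈ U := by
      intro c hc h d
      have := hpow _ (d * c⁻¹) h
      rwa [← Pi.single_smul', smul_eq_mul, inv_mul_cancel_right₀ hc] at this
    have hxv := eq_trn_of_blk (mem_transl.mp hxV)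
    by_cases hy : vec x 1 = 0
    · refine key (vec x 0) (fun h => hx1 ?_) ?_
      · rw [hxv, show vec x = 0 from funext fun i => by fin_cases i <;> assumption, ofAdd_zero, map_one]
      · rw [show (Pi.single 0 (vec x 0) : Fin 2 → ZMod p) = vec x from funext fun i => by
          fin_cases i <;> simp [hy], ← hxv]
        exact hx
    · set g : Qd (ZMod p) := lift (PSL2Elements.u 1)
      have hg : g ∈ T := mem_sylT.mpr ⟨1, blk_lift _⟩
      refine key (vec x 1) hy ?_
      have h1 := U.mul_mem (hTn g hg x hx) (U.inv_mem hx)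
      convert h1 using 1
      apply ext_blk_vec
      · simp [trn, mem_transl.mp hxV]
      · rw [vec_mul, map_mul, map_mul, mem_transl.mp hxV, mul_one, map_inv, mul_inv_cancel, coeOne,
          Matrix.one_mulVec, conj_transl g hxV, blk_lift]
        have h3 := vec_mul x x⁻¹
        rw [mul_inv_cancel, vec_one, mem_transl.mp hxV, coeOne, Matrix.one_mulVec] at h3
        rw [eq_neg_of_add_eq_zero_left h3.symm]
        funext i
        fin_cases i <;> simp [trn, PSL2Elements.u, Matrix.mulVec, dotProduct, Fin.sum_univ_two]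
  by_cases hbig : U ≤ transl (ZMod p)
  · by_cases hz : ∀ y ∈ U, vec y 1 = 0
    · have h1 := (mem_normalizer_iff.mp hh _).mp (hline 1)
      have h2 := hz _ h1
      rw [conj_transl h (htV _)] at h2
      rw [PSL2Sylow.mem_borel]
      simpa [trn, Matrix.mulVec, dotProduct, Fin.sum_univ_two] using h2
    · push Not at hz
      obtain ⟨y, hy, hy1⟩ := hz
      exfalso
      have hVU : transl (ZMod p) ≤ U := by
        intro M hM
        have hyv := eq_trn_of_blk (mem_transl.mp (hbig hy))
        set b := vec M 1 * (vec y 1)⁻¹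
        have h1 := U.mul_mem (hline (vec M 0 - b * vec y 0)) (hpow (vec y) b (hyv ▸ hy))
        rw [← map_mul, ← ofAdd_add] at h1
        rw [eq_trn_of_blk (mem_transl.mp hM)]
        convert h1 using 4
        funext i
        fin_cases i <;> simp [b, hy1, mul_assoc]
      obtain ⟨α, v, hv, hαv⟩ := exists_swap (p := p)
      exact hαv (hbig (mem_subgroupOf.mp (hchar α v (mem_subgroupOf.mpr (hVU hv)))))
  · obtain ⟨y, hy, hyV⟩ := SetLike.not_le_iff_exists.mp hbig
    obtain ⟨a, ha⟩ := mem_sylT.mp (hUT hy)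
    have ha0 : a ≠ 0 := by
      rintro rfl
      exact hyV (mem_transl.mpr (by rw [ha, PSL2Elements.u_zero]))
    have hyh := hUT ((mem_normalizer_iff.mp hh y).mp hy)
    obtain ⟨b, hb⟩ := mem_sylT.mp hyh
    rw [map_mul, map_mul, map_inv, ha] at hb
    exact PSL2Sylow.mem_borel_of_conj ha0 (mul_inv_eq_iff_eq_mul.mp hb)

universe u

open Cfsg.Agent.ConjFunctorBasic Cfsg.Agent.ConjFunctorControl Cfsg.Agent.ConjFunctorSection

/-- No set of functors controls strong fusion in a group isomorphic to `Qd(p)`. -/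
theorem not_family_controls {X : Type u} [Group X] [Finite X] (e : X ≃* ↥(Cfsg.qd p))
    {𝓦 : Set (∀ (Q : Type u) [Group Q], Subgroup Q)} (h𝓦 : ∀ W ∈ 𝓦, Cfsg.IsCharPFunctor.{u} p W)
    (hctl : Cfsg.FamilyControlsStrongFusionIn p (img 𝓦 X) ⊤) : False := by
  let e' : X ≃* Qd (ZMod p) := e.trans qdEquiv.symm
  let T : Sylow p X := IsPGroup.toSylow (P := (sylT (p := p)).comap e'.toMonoidHom)
    (sylT_isPGroup.comap_of_injective e'.toMonoidHom e'.injective)
    (by rw [Subgroup.index_comap_of_surjective _ (f := e'.toMonoidHom) e'.surjective]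
        exact not_dvd_index_sylT)
  have hTe : (T : Subgroup X).map e'.toMonoidHom = sylT :=
    Subgroup.map_comap_eq_self_of_surjective (f := e'.toMonoidHom) e'.surjective _
  set e1 := trn (Multiplicative.ofAdd (Pi.single 0 (1 : ZMod p) : Fin 2 → ZMod p)) with he1
  set e2 := trn (Multiplicative.ofAdd (Pi.single 1 (1 : ZMod p) : Fin 2 → ZMod p)) with he2
  have htV : ∀ v : Fin 2 → ZMod p, trn (Multiplicative.ofAdd v) ∈ transl (ZMod p) := fun v =>
    mem_transl.mpr (by simp [trn])
  have htS : ∀ v : Fin 2 → ZMod p, e'.symm (trn (Multiplicative.ofAdd v)) ∈ (T : Subgroup X) := fun v =>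
    Subgroup.mem_comap.mpr (by
      show e' (e'.symm _) ∈ sylT
      rw [e'.apply_symm_apply]
      exact mem_sylT.mpr ⟨0, by simp [trn, PSL2Elements.u_zero]⟩)
  obtain ⟨A, hA⟩ := exists_mulVec_eq (F := ZMod p) (v := Pi.single 0 1) (w := Pi.single 1 1)
    (by simp) (by simp)
  have hconj : lift A * e1 * (lift A)⁻¹ = e2 := by
    apply ext_blk_vec
    · simp [he1, he2, trn]
    · rw [conj_transl _ (htV _), blk_lift]
      simp [he1, he2, trn, hA]
  obtain ⟨c, hc, he⟩ := reach_of_controls (isConjugacyFunctor_img h𝓦) hctl (isSylowIn_top T)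
    (zpowers (e'.symm e1)) (zpowers_le.mpr (htS _)) (e'.symm (lift A)) (mem_top _) (by
      rw [cmap, MonoidHom.map_zpowers, zpowers_le]
      show e'.symm (lift A) * e'.symm e1 * (e'.symm (lift A))⁻¹ ∈ (T : Subgroup X)
      rw [← map_inv, ← map_mul, ← map_mul, hconj]
      exact htS _)
  have heq : e' c * e1 * (e' c)⁻¹ = e2 := by
    have h1 := congrArg e' (he _ (mem_zpowers _))
    simpa [hconj] using h1
  have hbor : blk (e' c) ∈ PSL2Sylow.borel (ZMod p) := by
    clear heq he
    induction hc with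
    | refl => rw [map_one, map_one]; exact one_mem _
    | @tail b b' _ hb ih =>
      obtain ⟨⟨_, ⟨W, hW, rfl⟩, hm⟩, -⟩ := hb
      set U := (Cfsg.inducedFunctor (G := X) W (T : Subgroup X)).map e'.toMonoidHom with hU
      have hd : blk (e' (b' * b⁻¹)) ∈ PSL2Sylow.borel (ZMod p) := by
        refine blk_mem_borel U (hTe ▸ Subgroup.map_mono (inducedFunctor_le W _)) ?_ ?_
          (Subgroup.le_normalizer_map e'.toMonoidHom (Subgroup.mem_map_of_mem _ hm.2))
        · rw [Ne, Subgroup.map_eq_bot_iff_of_injective _ (f := e'.toMonoidHom) e'.injective]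
          refine cfun_ne_bot (isConjugacyFunctor_induced (h𝓦 W hW)) T.2 fun hbot => ?_
          have h0 := htS (Pi.single 0 1)
          rw [hbot, Subgroup.mem_bot, MulEquiv.map_eq_one_iff] at h0
          have := congrArg (fun M => vec M 0) h0
          simp [trn] at this
        · intro α x hx
          let r : ↥(T : Subgroup X) ≃* ↥(sylT (p := p)) :=
            (e'.subgroupMap (T : Subgroup X)).trans (MulEquiv.subgroupCongr hTe)
          obtain ⟨y, ⟨w, hw, rfl⟩, hye⟩ := Subgroup.mem_subgroupOf.mp hx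
          have hrw : r w = x := Subtype.ext hye
          let β : ↥(T : Subgroup X) ≃* ↥(T : Subgroup X) := (r.trans α).trans r.symm
          have hβ := (h𝓦 W hW).2 _ _ T.2 β
          have hmem : β w ∈ W ↥(T : Subgroup X) := by
            rw [← hβ]; exact Subgroup.mem_map_of_mem _ hw
          refine Subgroup.mem_subgroupOf.mpr ⟨(β w : X), ⟨β w, hmem, rfl⟩, ?_⟩
          show (r (β w) : Qd (ZMod p)) = _
          simp [β, hrw]
      have := mul_mem hd ih
      rwa [← map_mul, ← map_mul, inv_mul_cancel_right] at this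
  rw [PSL2Sylow.mem_borel] at hbor
  have h2 := conj_transl (e' c) (htV (Pi.single 0 1))
  rw [← he1, heq] at h2
  have := congrFun h2 1
  simp [he1, he2, trn, Matrix.mulVec, dotProduct, Fin.sum_univ_two, hbor] at this

end Cfsg.Agent.FunctorQdReverse31
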