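import Cfsg.Agent.Lib.FusionSysBasic
import Cfsg.Agent.Lib.FusionSysSaturated
import Cfsg.Agent.Lib.FusionSysAlperin
import Cfsg.Agent.Lib.FusionSysNormal
import Cfsg.Agent.Lib.FusionWeakAlperin
import Mathlib

/-!
# Fusion systems over `p`-groups with an abelian subgroup of index `p`

The structure of the essential subgroups other than `A` (Oliver).
-/

set_option autoImplicit false
set_option linter.unusedSectionVars false
set_option linter.style.haveILetI false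
set_option linter.unusedVariables false

namespace Cfsg.Agent.FusionAbelianIndexP89

open Cfsg Cfsg.FusionSystem Cfsg.Agent.FusionSysBasic Cfsg.Agent.FusionSysSaturated Cfsg.Agent.FusionSysAlperin
  Cfsg.Agent.FusionSysNormal
open scoped commutatorElement

variable {Ω : Type*} [Group Ω] {p : ℕ}

/-- `Z(S)` inside the ambient group. -/
def Zc (S : Subgroup Ω) : Subgroup Ω := S ⊓ Subgroup.centralizer (S : Set Ω)

/-- `Z₂(S)` inside the ambient group. -/
def Ztwo (S : Subgroup Ω) : Subgroup Ω := (Subgroup.upperCentralSeries ↥S 2).map S.subtype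

theorem mem_Zc {S : Subgroup Ω} {z : Ω} : z ∈ Zc S ↔ z ∈ S ∧ ∀ y ∈ S, y * z = z * y :=
  Iff.rfl

instance finite_Zc {S : Subgroup Ω} [Finite S] : Finite ↥(Zc S) := finite_of_le inf_le_left

theorem commutator_eq_one {a y : Ω} : ⁅a, y⁆ = 1 ↔ a * y = y * a := by
  rw [commutatorElement_def, mul_inv_eq_one, mul_inv_eq_iff_eq_mul]

theorem conj_eq {a y : Ω} : a * y * a⁻¹ = ⁅a, y⁆ * y := by
  rw [commutatorElement_def, inv_mul_cancel_right]

theorem mem_Ztwo {S : Subgroup Ω} {a : Ω} :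
    a ∈ Ztwo S ↔ a ∈ S ∧ ∀ y ∈ S, ⁅a, y⁆ ∈ Zc S := by
  constructor
  · rintro ⟨a, ha, rfl⟩
    refine ⟨a.2, fun y hy => ?_⟩
    have h := Subgroup.mem_upperCentralSeries_succ_iff.mp ha ⟨y, hy⟩
    rw [Subgroup.upperCentralSeries_one, Subgroup.mem_center_iff] at h
    exact ⟨(⁅a, ⟨y, hy⟩⁆ : ↥S).2, fun z hz => congrArg Subtype.val (h ⟨z, hz⟩)⟩
  · rintro ⟨ha, h⟩
    refine ⟨⟨a, ha⟩, Subgroup.mem_upperCentralSeries_succ_iff.mpr fun y => ?_, rfl⟩
    rw [Subgroup.upperCentralSeries_one, Subgroup.mem_center_iff]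
    exact fun z => Subtype.ext ((h y y.2).2 z z.2)

theorem Zc_le_Ztwo {S : Subgroup Ω} : Zc S ≤ Ztwo S := fun z hz =>
  mem_Ztwo.mpr ⟨hz.1, fun y hy => by
    rw [commutator_eq_one.mpr ((mem_Zc.mp hz).2 y hy).symm]; exact (Zc S).one_mem⟩

theorem card_inf_mul_relIndex (H K : Subgroup Ω) :
    Nat.card ↥(H ⊓ K) * H.relIndex K = Nat.card K := by
  have h := Subgroup.card_mul_index (H.subgroupOf K)
  rwa [← Subgroup.inf_subgroupOf_right,
    Nat.card_congr (Subgroup.subgroupOfEquivOfLe inf_le_right).toEquiv,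
    Subgroup.inf_subgroupOf_right] at h

theorem card_inf_mul_le {H K P : Subgroup Ω} [Finite P] (hK : K ≤ P) (hH : H ≤ P) :
    Nat.card H * Nat.card K ≤ Nat.card P * Nat.card ↥(H ⊓ K) := by
  have h1 := card_inf_mul_relIndex H K
  have h2 := card_inf_mul_relIndex H P
  rw [inf_eq_left.mpr hH] at h2
  have h3 : H.relIndex K ≤ H.relIndex P := Subgroup.relIndex_le_of_le_right hK
    (fun h => by rw [h, mul_zero] at h2; exact Nat.card_pos.ne h2)
  calc Nat.card H * Nat.card K = Nat.card H * (Nat.card ↥(H ⊓ K) * H.relIndex K) := by rw [h1]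
    _ ≤ Nat.card H * (Nat.card ↥(H ⊓ K) * H.relIndex P) := by
        exact Nat.mul_le_mul_left _ (Nat.mul_le_mul_left _ h3)
    _ = _ := by rw [← h2]; ring

theorem eq_p_of_pow [hp : Fact p.Prime] {n k : ℕ} (hn : n = p ^ k) (h1 : 1 < n) (h2 : n ≤ p) :
    n = p := by
  subst hn
  have hk : k ≠ 0 := by rintro rfl; simp at h1
  exact le_antisymm h2 (Nat.le_self_pow hk p)

variable {S A : Subgroup Ω}

/-- `A` is the unique abelian subgroup of index `p` of the nonabelian `p`-group `S`. -/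
structure Setting (p : ℕ) (S A : Subgroup Ω) : Prop where
  hS : IsPGroup p S
  le : A ≤ S
  comm : IsMulCommutative ↥A
  index : (A.subgroupOf S).index = p
  nab : ¬ IsMulCommutative ↥S
  uniq : ∀ B : Subgroup Ω, B ≤ S → IsMulCommutative ↥B → (B.subgroupOf S).index = p → B = A

theorem comm_iff {B : Subgroup Ω} :
    IsMulCommutative ↥B ↔ ∀ a ∈ B, ∀ b ∈ B, a * b = b * a :=
  ⟨fun h a ha b hb => congrArg Subtype.val (h.is_comm.comm (⟨a, ha⟩ : B) ⟨b, hb⟩),
    fun h => ⟨⟨fun a b => Subtype.ext (h a a.2 b b.2)⟩⟩⟩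

namespace Setting

variable [Finite S] [hp : Fact p.Prime] (h : Setting p S A)
include h

theorem mul_comm' {a b : Ω} (ha : a ∈ A) (hb : b ∈ A) : a * b = b * a :=
  comm_iff.mp h.comm a ha b hb

theorem card_eq : Nat.card S = p * Nat.card A := by
  have h1 := Subgroup.card_mul_index (A.subgroupOf S)
  rw [h.index, Nat.card_congr (Subgroup.subgroupOfEquivOfLe h.le).toEquiv] at h1
  rw [← h1, mul_comm]

theorem eq_S {B : Subgroup Ω} (hB : B ≤ S) (hAB : A ≤ B) {x : Ω} (hx : x ∈ B) (hxA : x ∉ A) :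
    B = S := by
  haveI := finite_of_le hB
  have h1 := Subgroup.relIndex_mul_relIndex A B S hAB hB
  rw [show A.relIndex S = p from h.index] at h1
  rcases (Nat.dvd_prime hp.out).mp (Dvd.intro _ h1) with h2 | h2
  · exact absurd (Subgroup.relIndex_eq_one.mp h2 hx) hxA
  · rw [h2] at h1
    refine le_antisymm hB (Subgroup.relIndex_eq_one.mp ?_)
    exact Nat.eq_of_mul_eq_mul_left hp.out.pos (by rw [h1, mul_one])

theorem sup_eq {x : Ω} (hx : x ∈ S) (hxA : x ∉ A) : A ⊔ Subgroup.zpowers x = S :=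
  h.eq_S (sup_le h.le (Subgroup.zpowers_le.mpr hx)) le_sup_left
    (Subgroup.mem_sup_right (Subgroup.mem_zpowers x)) hxA

theorem normal {g a : Ω} (hg : g ∈ S) (ha : a ∈ A) : g * a * g⁻¹ ∈ A := by
  have hA : A < S := lt_of_le_of_ne h.le fun e => h.nab (e ▸ h.comm)
  obtain ⟨hle, y, hy, hyA⟩ := SetLike.lt_iff_le_and_exists.mp
    (FusionWeakAlperin.lt_normalizerIn h.hS hA)
  have e := h.eq_S (inf_le_left : FusionSystem.normalizerIn S A ≤ S) hle hy hyA
  exact cj_mem_of_normalizer ((e.ge hg).2) ha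

theorem card_eq_mul_inf {B : Subgroup Ω} (hB : B ≤ S) {x : Ω} (hx : x ∈ B) (hxA : x ∉ A) :
    Nat.card B = p * Nat.card ↥(A ⊓ B) := by
  haveI := finite_of_le hB
  have h1 := card_inf_mul_relIndex A B
  obtain ⟨k, hk⟩ := (h.hS.to_le hB).index (A.subgroupOf B)
  have h2 : A.relIndex B ≤ p := by
    have := Subgroup.relIndex_le_of_le_right (H := A) hB (by
      show A.relIndex S ≠ 0
      rw [show A.relIndex S = p from h.index]; exact hp.out.ne_zero)
    rwa [show A.relIndex S = p from h.index] at this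
  have h3 : 1 < A.relIndex B := by
    rcases Nat.lt_trichotomy (A.relIndex B) 1 with h4 | h4 | h4
    · exfalso
      rw [Nat.lt_one_iff.mp h4, mul_zero] at h1
      exact Nat.card_pos.ne h1
    · exact absurd (Subgroup.relIndex_eq_one.mp h4 hx) hxA
    · exact h4
  rw [← h1, eq_p_of_pow (show A.relIndex B = p ^ k from hk) h3 h2, mul_comm]

theorem eq_sup {P : Subgroup Ω} (hP : P ≤ S) {x : Ω} (hx : x ∈ P) (hxA : x ∉ A) :
    P = (P ⊓ A) ⊔ Subgroup.zpowers x := by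
  have hle : (P ⊓ A) ⊔ Subgroup.zpowers x ≤ P := sup_le inf_le_left (Subgroup.zpowers_le.mpr hx)
  refine (eq_of_le_of_card_ge hP hle ?_).symm
  rw [h.card_eq_mul_inf hP hx hxA,
    h.card_eq_mul_inf (hle.trans hP) (Subgroup.mem_sup_right (Subgroup.mem_zpowers x)) hxA]
  haveI := finite_of_le (S := S) (inf_le_left.trans h.le :
    A ⊓ ((P ⊓ A) ⊔ Subgroup.zpowers x) ≤ S)
  refine Nat.mul_le_mul_left _ (Subgroup.card_le_of_le ?_)
  exact le_inf inf_le_left (le_trans (le_inf inf_le_right inf_le_left) le_sup_left)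

theorem Zc_le : Zc S ≤ A := by
  intro z hz
  by_contra hzA
  refine h.nab (comm_iff.mpr ?_)
  have hA : ∀ a ∈ A, ∀ y ∈ S, y * a = a * y := by
    intro a ha y hy
    have hle : A ⊔ Subgroup.zpowers z ≤ Subgroup.centralizer {a} := by
      refine sup_le (fun b hb => Subgroup.mem_centralizer_singleton_iff.mpr (h.mul_comm' hb ha))
        (Subgroup.zpowers_le.mpr (Subgroup.mem_centralizer_singleton_iff.mpr ?_))
      exact ((mem_Zc.mp hz).2 a (h.le ha)).symm
    rw [h.sup_eq hz.1 hzA] at hle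
    exact Subgroup.mem_centralizer_singleton_iff.mp (hle hy)
  intro a ha b hb
  have hle : A ⊔ Subgroup.zpowers z ≤ Subgroup.centralizer {a} := by
    refine sup_le (fun c hc => Subgroup.mem_centralizer_singleton_iff.mpr (hA c hc a ha).symm)
      (Subgroup.zpowers_le.mpr (Subgroup.mem_centralizer_singleton_iff.mpr ?_))
    exact ((mem_Zc.mp hz).2 a ha).symm
  rw [h.sup_eq hz.1 hzA] at hle
  exact (Subgroup.mem_centralizer_singleton_iff.mp (hle hb)).symm

theorem mem_Zc_of_commute {a x : Ω} (ha : a ∈ A) (hx : x ∈ S) (hxA : x ∉ A)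
    (hax : a * x = x * a) : a ∈ Zc S := by
  refine mem_Zc.mpr ⟨h.le ha, fun y hy => ?_⟩
  have hle : A ⊔ Subgroup.zpowers x ≤ Subgroup.centralizer {a} :=
    sup_le (fun b hb => Subgroup.mem_centralizer_singleton_iff.mpr (h.mul_comm' hb ha))
      (Subgroup.zpowers_le.mpr (Subgroup.mem_centralizer_singleton_iff.mpr hax.symm))
  rw [h.sup_eq hx hxA] at hle
  exact Subgroup.mem_centralizer_singleton_iff.mp (hle hy)

theorem comm_mem {a y : Ω} (ha : a ∈ A) (hy : y ∈ S) : ⁅a, y⁆ ∈ A := by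
  rw [commutatorElement_def, mul_assoc (a * y) _ y⁻¹, mul_assoc a y, ← mul_assoc y]
  exact A.mul_mem ha (h.normal hy (A.inv_mem ha))

theorem mem_Ztwo_of {a x : Ω} (ha : a ∈ A) (hx : x ∈ S) (hxA : x ∉ A) (hax : ⁅a, x⁆ ∈ Zc S) :
    a ∈ Ztwo S := by
  refine mem_Ztwo.mpr ⟨h.le ha, ?_⟩
  let K : Subgroup Ω :=
    { carrier := {y | y ∈ S ∧ ⁅a, y⁆ ∈ Zc S}
      one_mem' := ⟨S.one_mem, by simp⟩
      mul_mem' := by
        rintro y z ⟨hy, hy'⟩ ⟨hz, hz'⟩
        refine ⟨S.mul_mem hy hz, ?_⟩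
        have : ⁅a, y * z⁆ = ⁅a, y⁆ * (y * ⁅a, z⁆ * y⁻¹) := by
          simp only [commutatorElement_def]; group
        rw [this, (mem_Zc.mp hz').2 y hy, mul_inv_cancel_right]
        exact (Zc S).mul_mem hy' hz'
      inv_mem' := by
        rintro y ⟨hy, hy'⟩
        refine ⟨S.inv_mem hy, ?_⟩
        have : ⁅a, y⁻¹⁆ = y⁻¹ * ⁅a, y⁆⁻¹ * y := by simp only [commutatorElement_def]; group
        rw [this, (mem_Zc.mp ((Zc S).inv_mem hy')).2 _ (S.inv_mem hy), inv_mul_cancel_right]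
        exact (Zc S).inv_mem hy' }
  have hle : A ⊔ Subgroup.zpowers x ≤ K :=
    sup_le (fun b hb => ⟨h.le hb, by
        rw [commutator_eq_one.mpr (h.mul_comm' ha hb)]; exact (Zc S).one_mem⟩)
      (Subgroup.zpowers_le.mpr ⟨hx, hax⟩)
  rw [h.sup_eq hx hxA] at hle
  exact fun y hy => (hle hy).2

/-- The homomorphism `a ↦ [a, x]` on `A`. -/
noncomputable def comHom {x : Ω} (hx : x ∈ S) : A →* Ω :=
  MonoidHom.mk' (fun a => ⁅(a : Ω), x⁆) fun a b => by
    have h1 : ⁅(a : Ω) * b, x⁆ = (a : Ω) * ⁅(b : Ω), x⁆ * (a : Ω)⁻¹ * ⁅(a : Ω), x⁆ := by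
      simp only [commutatorElement_def]; group
    rw [Subgroup.coe_mul, h1, h.mul_comm' a.2 (h.comm_mem b.2 hx), mul_inv_cancel_right]
    exact h.mul_comm' (h.comm_mem b.2 hx) (h.comm_mem a.2 hx)

/-- The image of `K ≤ A` under `a ↦ [a, x]`. -/
noncomputable def img {x : Ω} (hx : x ∈ S) {K : Subgroup Ω} (hK : K ≤ A) : Subgroup Ω :=
  ((h.comHom hx).comp (Subgroup.inclusion hK)).range

theorem mem_img {x : Ω} (hx : x ∈ S) {K : Subgroup Ω} (hK : K ≤ A) {y : Ω} :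
    y ∈ h.img hx hK ↔ ∃ a ∈ K, ⁅a, x⁆ = y := by
  constructor
  · rintro ⟨a, rfl⟩; exact ⟨a, a.2, rfl⟩
  · rintro ⟨a, ha, rfl⟩; exact ⟨⟨a, ha⟩, rfl⟩

theorem img_le {x : Ω} (hx : x ∈ S) {K : Subgroup Ω} (hK : K ≤ A) : h.img hx hK ≤ A := by
  rintro _ ⟨a, rfl⟩; exact h.comm_mem (hK a.2) hx

theorem card_img {x : Ω} (hx : x ∈ S) (hxA : x ∉ A) {K : Subgroup Ω} (hK : K ≤ A) :
    Nat.card (h.img hx hK) * Nat.card ↥(K ⊓ Zc S) = Nat.card K := by
  have hker : ((h.comHom hx).comp (Subgroup.inclusion hK)).ker = (K ⊓ Zc S).subgroupOf K := by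
    ext a
    rw [MonoidHom.mem_ker, Subgroup.mem_subgroupOf]
    show ⁅(a : Ω), x⁆ = 1 ↔ _
    rw [commutator_eq_one]
    exact ⟨fun e => ⟨a.2, h.mem_Zc_of_commute (hK a.2) hx hxA e⟩,
      fun e => ((mem_Zc.mp e.2).2 x hx).symm⟩
  have h1 := Subgroup.card_mul_index ((K ⊓ Zc S).subgroupOf K)
  rw [Nat.card_congr (Subgroup.subgroupOfEquivOfLe inf_le_left).toEquiv, ← hker,
    Subgroup.index_ker, mul_comm] at h1
  exact h1

omit [Finite S] hp h in
/-- `W = A ∩ Z₂(S)`. -/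
abbrev W (S A : Subgroup Ω) : Subgroup Ω := A ⊓ Ztwo S

theorem mem_W {a x : Ω} (hx : x ∈ S) (hxA : x ∉ A) :
    a ∈ W S A ↔ a ∈ A ∧ ⁅a, x⁆ ∈ Zc S :=
  ⟨fun ha => ⟨ha.1, (mem_Ztwo.mp ha.2).2 x hx⟩, fun ha => ⟨ha.1, h.mem_Ztwo_of ha.1 hx hxA ha.2⟩⟩

theorem Zc_le_W : Zc S ≤ W S A := le_inf h.Zc_le Zc_le_Ztwo

theorem card_W {x : Ω} (hx : x ∈ S) (hxA : x ∉ A) :
    Nat.card (W S A) = Nat.card (h.img hx (inf_le_left : W S A ≤ A)) * Nat.card (Zc S) := by
  rw [← h.card_img hx hxA (inf_le_left : W S A ≤ A), inf_eq_right.mpr h.Zc_le_W]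

theorem img_W {x : Ω} (hx : x ∈ S) (hxA : x ∉ A) :
    h.img hx (inf_le_left : W S A ≤ A) = h.img hx le_rfl ⊓ Zc S := by
  ext y
  rw [Subgroup.mem_inf, mem_img, mem_img]
  constructor
  · rintro ⟨a, ha, rfl⟩
    exact ⟨⟨a, ha.1, rfl⟩, ((h.mem_W hx hxA).mp ha).2⟩
  · rintro ⟨⟨a, ha, rfl⟩, hz⟩
    exact ⟨a, (h.mem_W hx hxA).mpr ⟨ha, hz⟩, rfl⟩

theorem Ztwo_le (hW : Nat.card (W S A) = p * Nat.card (Zc S)) : Ztwo S ≤ A := by
  intro y hy
  by_contra hyA
  have hyS := (mem_Ztwo.mp hy).1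
  have hAW : W S A = A := by
    refine le_antisymm inf_le_left fun a ha => (h.mem_W hyS hyA).mpr ⟨ha, ?_⟩
    rw [← commutatorElement_inv]
    exact (Zc S).inv_mem ((mem_Ztwo.mp hy).2 a (h.le ha))
  rw [hAW] at hW
  set B := Zc S ⊔ Subgroup.zpowers y with hB
  have hBS : B ≤ S := sup_le inf_le_left (Subgroup.zpowers_le.mpr hyS)
  haveI := finite_of_le hBS
  have hyB : y ∈ B := Subgroup.mem_sup_right (Subgroup.mem_zpowers y)
  have hBc : IsMulCommutative ↥B := by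
    refine comm_iff.mpr fun a ha b hb => ?_
    have hy' : B ≤ Subgroup.centralizer {y} := by
      refine sup_le (fun z hz => Subgroup.mem_centralizer_singleton_iff.mpr ?_)
        (Subgroup.zpowers_le.mpr (Subgroup.mem_centralizer_singleton_iff.mpr rfl))
      exact ((mem_Zc.mp hz).2 y hyS).symm
    have hb' : B ≤ Subgroup.centralizer {b} := by
      refine sup_le (fun z hz => Subgroup.mem_centralizer_singleton_iff.mpr ?_)
        (Subgroup.zpowers_le.mpr (Subgroup.mem_centralizer_singleton_iff.mpr ?_))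
      · exact ((mem_Zc.mp hz).2 b (hBS hb)).symm
      · exact (Subgroup.mem_centralizer_singleton_iff.mp (hy' hb)).symm
    exact Subgroup.mem_centralizer_singleton_iff.mp (hb' ha)
  have hcard : Nat.card B ≥ Nat.card A := by
    rw [h.card_eq_mul_inf hBS hyB hyA, hW]
    haveI := finite_of_le (inf_le_left.trans h.le : A ⊓ B ≤ S)
    exact Nat.mul_le_mul_left _ (Subgroup.card_le_of_le (le_inf h.Zc_le le_sup_left))
  have hindex : (B.subgroupOf S).index = p := by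
    have h1 := Subgroup.card_mul_index (B.subgroupOf S)
    rw [Nat.card_congr (Subgroup.subgroupOfEquivOfLe hBS).toEquiv, h.card_eq] at h1
    obtain ⟨k, hk⟩ := h.hS.index (B.subgroupOf S)
    refine eq_p_of_pow hk ?_ ?_
    · refine lt_of_le_of_ne (Nat.one_le_iff_ne_zero.mpr ?_) fun e => ?_
      · intro e; rw [e, mul_zero] at h1; exact (Nat.mul_pos hp.out.pos (by
          haveI := finite_of_le h.le; exact Nat.card_pos)).ne h1
      · have : S ≤ B := Subgroup.relIndex_eq_one.mp e.symm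
        exact h.nab (le_antisymm hBS this ▸ hBc)
    · by_contra hlt
      have : Nat.card B * (B.subgroupOf S).index > Nat.card A * p :=
        Nat.mul_lt_mul_of_le_of_lt hcard (not_le.mp hlt) (by
          haveI := finite_of_le h.le; exact Nat.card_pos)
      rw [h1, mul_comm] at this
      exact lt_irrefl _ this
  exact hyA ((h.uniq B hBS hBc hindex).le hyB)

end Setting

/-! ### Stabilisers of a chain `1 ≤ X ≤ P` -/

/-- The automorphisms of `P` centralising `X` and `P/X`. -/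
def stab (P X : Subgroup Ω) (hX : X ≤ P) : Subgroup (MulAut P) where
  carrier := {α | (∀ x ∈ X, afun α x = x) ∧ ∀ y ∈ P, y⁻¹ * afun α y ∈ X}
  one_mem' := ⟨fun x hx => afun_one (hX hx), fun y hy => by
    rw [afun_one hy, inv_mul_cancel]; exact X.one_mem⟩
  mul_mem' := by
    rintro α β ⟨hα, hα'⟩ ⟨hβ, hβ'⟩
    refine ⟨fun x hx => by rw [afun_mul _ _ (hX hx), hβ x hx, hα x hx], fun y hy => ?_⟩
    rw [afun_mul _ _ hy]
    have := X.mul_mem (hβ' y hy) (hα' _ (afun_mem β hy))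
    rwa [mul_assoc, mul_inv_cancel_left] at this
  inv_mem' := by
    rintro α ⟨hα, hα'⟩
    refine ⟨fun x hx => ?_, fun y hy => ?_⟩
    · conv_lhs => rw [← hα x hx]
      exact afun_inv_apply α (hX hx)
    · have h1 := X.inv_mem (hα' _ (afun_mem α⁻¹ hy))
      rw [afun_apply_inv α hy, mul_inv_rev, inv_inv] at h1
      exact h1

theorem stab_conj {P X : Subgroup Ω} (hX : X ≤ P) {a m : MulAut P} (hm : m ∈ stab P X hX)
    (h1 : ∀ x ∈ X, afun a x ∈ X) (h2 : ∀ x ∈ X, afun a⁻¹ x ∈ X) :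
    a * m * a⁻¹ ∈ stab P X hX := by
  refine ⟨fun x hx => ?_, fun y hy => ?_⟩
  · rw [afun_mul _ _ (hX hx), afun_mul _ _ (afun_mem _ (hX hx)), hm.1 _ (h2 x hx),
      afun_apply_inv a (hX hx)]
  · have hy' := afun_mem a⁻¹ hy
    have h3 := h1 _ (hm.2 _ hy')
    rw [afun_map_mul a (P.inv_mem hy') (afun_mem m hy'), afun_apply _ (P.inv_mem hy')] at h3
    rw [afun_mul _ _ hy, afun_mul _ _ hy']
    have e : ((a ⟨(afun a⁻¹ y)⁻¹, P.inv_mem hy'⟩ : P) : Ω) = y⁻¹ := by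
      conv_rhs => rw [← afun_apply_inv a hy, afun_apply a hy']
      exact congrArg Subtype.val (a.map_inv ⟨_, hy'⟩)
    rwa [e] at h3

theorem isPGroup_stab [Fact p.Prime] {P X : Subgroup Ω} [Finite P] (hP : IsPGroup p P)
    (hX : X ≤ P) : IsPGroup p (stab P X hX) := by
  rintro ⟨α, hα, hα'⟩
  obtain ⟨k, hk⟩ := pow_eq_one_of_stabilizes hP
    (fun i => if i = 0 then (⊥ : Subgroup Ω) else if i = 1 then X else P) rfl (n := 2) rfl
    (fun i => by split_ifs <;> first | exact bot_le | exact hX | exact le_rfl)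
    (fun i hi => by interval_cases i <;> simp [hX])
    (α := α) (fun i hi y hy => by
      interval_cases i <;> simp only [if_true, one_ne_zero, if_false, zero_add,
        Nat.reduceAdd, OfNat.ofNat_ne_zero, OfNat.ofNat_ne_one] at hy ⊢
      · rw [hα y hy, inv_mul_cancel]; exact one_mem _
      · exact hα' y hy)
  exact ⟨k, Subtype.ext hk⟩

variable {F : FusionSystem S}

/-- A stabiliser of an invariant chain induces only inner automorphisms on a radical subgroup. -/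
theorem mem_of_stab [Finite S] [Fact p.Prime] (hS : IsPGroup p S) {P X : Subgroup Ω}
    (hc : F.IsCentric P) (hr : F.IsRadical p P) (hX : X ≤ P)
    (hinv : ∀ α ∈ F.autGroup P, ∀ x ∈ X, afun α x ∈ X) {a : Ω} (ha : a ∈ S)
    (han : a ∈ Subgroup.normalizer (P : Set Ω))
    (hax : ∀ x ∈ X, cj a x = x) (hap : ∀ y ∈ P, y⁻¹ * cj a y ∈ X) : a ∈ P := by
  haveI := finite_of_le hc.1
  refine mem_of_nHom_mem_inn hc.1 (centralizerIn_le_of_centric hc) ⟨a, ha, han⟩ ?_
  rw [← hr.2]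
  have hmem : nHom S P ⟨a, ha, han⟩ ∈ F.autGroup P :=
    autInducedBy_le hc.1 (autInducedBy_eq_range S P ▸ ⟨_, rfl⟩)
  refine ⟨⟨_, hmem⟩, ?_, rfl⟩
  refine (le_sSup (show (stab P X hX).subgroupOf (F.autGroup P) ∈
    {N : Subgroup (F.autGroup P) | N.Normal ∧ IsPGroup p N} from ⟨⟨fun m hm g => ?_⟩, ?_⟩) :
    _ ≤ pCore p (F.autGroup P)) ?_
  · exact stab_conj hX hm (hinv g g.2) (hinv (g⁻¹ : F.autGroup P) (g⁻¹ : F.autGroup P).2)
  · exact (isPGroup_stab (hS.to_le hc.1) hX).comap_of_injective _ (F.autGroup P).subtype_injective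
  · exact ⟨fun x hx => (afun_nHom _ (hX hx)).trans (hax x hx),
      fun y hy => (congrArg (fun t => y⁻¹ * t ∈ X) (afun_nHom _ hy)).mpr (hap y hy)⟩

theorem index_normalizerIn [Finite S] [Fact p.Prime] (hS : IsPGroup p S) {P : Subgroup Ω}
    (hP : P < S) (hle : Nat.card ↥(FusionSystem.normalizerIn S P) ≤ p * Nat.card P) :
    (P.subgroupOf (S ⊓ Subgroup.normalizer (P : Set Ω))).index = p := by
  haveI := finite_of_le hP.le
  have hN : FusionSystem.normalizerIn S P ≤ S := inf_le_left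
  haveI := finite_of_le hN
  have h1 := Subgroup.card_mul_index (P.subgroupOf (FusionSystem.normalizerIn S P))
  rw [Nat.card_congr (Subgroup.subgroupOfEquivOfLe (le_normalizerIn hP.le)).toEquiv] at h1
  obtain ⟨k, hk⟩ := (hS.to_le hN).index (P.subgroupOf (FusionSystem.normalizerIn S P))
  refine eq_p_of_pow hk ?_ (Nat.le_of_mul_le_mul_left ?_ (Nat.card_pos (α := P)))
  · by_contra hlt
    have h2 : Nat.card ↥(FusionSystem.normalizerIn S P) ≤ Nat.card P := by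
      calc _ = _ := h1.symm
        _ ≤ Nat.card P * 1 := Nat.mul_le_mul_left _ (not_lt.mp hlt)
        _ = _ := mul_one _
    exact absurd (FusionWeakAlperin.card_lt_normalizerIn hS hP) (not_lt.mpr h2)
  · show Nat.card P * (P.subgroupOf (FusionSystem.normalizerIn S P)).index ≤ _
    rw [h1, mul_comm]; exact hle

namespace Setting

variable [Finite S] [hp : Fact p.Prime] (h : Setting p S A)
include h

section Ess

variable {P : Subgroup Ω} (hF : F.IsSaturated p) (hP : F.IsEssential p P) {x : Ω} (hx : x ∈ P)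
  (hxA : x ∉ A)
include hF hP

omit h hp [Finite S] hF in
theorem le_S : P ≤ S := hP.1.1

theorem Zc_le_P : Zc S ≤ P := fun z hz =>
  centralizerIn_le_of_centric hP.1 (mem_centralizerIn.mpr ⟨hz.1, fun y hy => by
    rw [cj_apply, ← (mem_Zc.mp hz).2 y (hP.1.1 hy), mul_inv_cancel_right]⟩)

theorem not_le (hPA : P ≠ A) : ∃ x ∈ P, x ∉ A := by
  by_contra hle
  push Not at hle
  refine hPA (le_antisymm hle fun a ha => centralizerIn_le_of_centric hP.1
    (mem_centralizerIn.mpr ⟨h.le ha, fun y hy => by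
      rw [cj_apply, h.mul_comm' ha (hle y hy), mul_inv_cancel_right]⟩))

theorem inf_cases (hxP : x ∈ P) (hxA : x ∉ A) : (∀ a ∈ P ⊓ A, a ∈ Zc S) ∨
    (¬ (∀ a ∈ P ⊓ A, a ∈ Zc S) ∧ ∀ z ∈ P, (∀ y ∈ P, y * z = z * y) → z ∈ Zc S) := by
  by_cases h0 : ∀ a ∈ P ⊓ A, a ∈ Zc S
  · exact Or.inl h0
  refine Or.inr ⟨h0, fun z hz hc => ?_⟩
  by_cases hzA : z ∈ A
  · exact h.mem_Zc_of_commute hzA (hP.1.1 hxP) hxA (hc x hxP).symm
  · refine absurd (fun a ha => ?_) h0
    exact h.mem_Zc_of_commute ha.2 (hP.1.1 hz) hzA (hc a ha.1)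

include hx hxA

/-- `W` normalises `P`, and `N_A(P)` maps into `P ∩ A`. -/
theorem W_normalizes {a : Ω} (ha : a ∈ W S A) :
    a ∈ Subgroup.normalizer (P : Set Ω) ∧ ∀ y ∈ P, y⁻¹ * cj a y ∈ Zc S := by
  have h2 : ∀ y ∈ P, y⁻¹ * cj a y ∈ Zc S := by
    intro y hy
    have hc := (mem_Ztwo.mp ha.2).2 y (hP.1.1 hy)
    rw [cj_apply, conj_eq, (mem_Zc.mp hc).2 y (hP.1.1 hy) |>.symm, inv_mul_cancel_left]
    exact hc
  refine ⟨mem_normalizer_of_cj_le hP.1.1 fun y hy => ?_, h2⟩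
  have := P.mul_mem hy (h.Zc_le_P hF hP (h2 y hy))
  rwa [mul_inv_cancel_left] at this

theorem comm_mem_inf {a : Ω} (ha : a ∈ A) (han : a ∈ Subgroup.normalizer (P : Set Ω)) :
    ⁅a, x⁆ ∈ P ⊓ A := by
  refine ⟨?_, h.comm_mem ha (hP.1.1 hx)⟩
  rw [commutatorElement_def]
  exact P.mul_mem (cj_mem_of_normalizer han hx) (P.inv_mem hx)

theorem exists_mem_normalizer :
    ∃ a ∈ A, a ∈ Subgroup.normalizer (P : Set Ω) ∧ a ∉ P := by
  have hlt := FusionWeakAlperin.card_lt_normalizerIn h.hS (essential_lt h.hS hF hP)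
  by_contra hall
  push Not at hall
  have hN : FusionSystem.normalizerIn S P ≤ S := inf_le_left
  have hxN : x ∈ FusionSystem.normalizerIn S P := le_normalizerIn hP.1.1 hx
  rw [h.card_eq_mul_inf hN hxN hxA, h.card_eq_mul_inf hP.1.1 hx hxA] at hlt
  haveI := finite_of_le (inf_le_left.trans h.le : A ⊓ P ≤ S)
  refine absurd hlt (not_lt.mpr (Nat.mul_le_mul_left _ (Subgroup.card_le_of_le ?_)))
  exact fun a ha => ⟨ha.1, hall a ha.1 ha.2.2⟩

theorem exists_not_invariant {X : Subgroup Ω} (hX : X ≤ P)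
    (hfix : ∀ a ∈ A, a ∈ Subgroup.normalizer (P : Set Ω) →
      (∀ z ∈ X, cj a z = z) ∧ ∀ y ∈ P, y⁻¹ * cj a y ∈ X) :
    ∃ g ∈ F.autGroup P, ∃ z ∈ X, afun g z ∉ X := by
  by_contra hall
  push Not at hall
  obtain ⟨a, ha, han, haP⟩ := h.exists_mem_normalizer hF hP hx hxA
  exact haP (mem_of_stab h.hS hP.1 (radical_of_essential h.hS hP) hX hall (h.le ha) han
    (hfix a ha han).1 (hfix a ha han).2)

section Abelian

variable (h0 : ∀ a ∈ P ⊓ A, a ∈ Zc S)
include h0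

theorem inf_eq_Zc : P ⊓ A = Zc S :=
  le_antisymm h0 (le_inf (h.Zc_le_P hF hP) h.Zc_le)

theorem P_eq : P = Zc S ⊔ Subgroup.zpowers x := by
  rw [← h.inf_eq_Zc hF hP hx hxA h0]; exact h.eq_sup hP.1.1 hx hxA

theorem P_comm : ∀ a ∈ P, ∀ b ∈ P, a * b = b * a := by
  intro a ha b hb
  have e := h.P_eq hF hP hx hxA h0
  have hx' : P ≤ Subgroup.centralizer {x} := by
    rw [e]
    refine sup_le (fun z hz => Subgroup.mem_centralizer_singleton_iff.mpr ?_)
      (Subgroup.zpowers_le.mpr (Subgroup.mem_centralizer_singleton_iff.mpr rfl))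
    exact ((mem_Zc.mp hz).2 x (hP.1.1 hx)).symm
  have hb' : P ≤ Subgroup.centralizer {b} := by
    rw [e]
    refine sup_le (fun z hz => Subgroup.mem_centralizer_singleton_iff.mpr ?_)
      (Subgroup.zpowers_le.mpr (Subgroup.mem_centralizer_singleton_iff.mpr ?_))
    · exact ((mem_Zc.mp hz).2 b (hP.1.1 hb)).symm
    · exact (Subgroup.mem_centralizer_singleton_iff.mp (hx' hb)).symm
  exact Subgroup.mem_centralizer_singleton_iff.mp (hb' ha)

theorem card_P : Nat.card P = p * Nat.card (Zc S) := by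
  rw [h.card_eq_mul_inf hP.1.1 hx hxA, inf_comm, h.inf_eq_Zc hF hP hx hxA h0]

theorem mem_W_of_normalizes {a : Ω} (ha : a ∈ A) (han : a ∈ Subgroup.normalizer (P : Set Ω)) :
    a ∈ W S A :=
  (h.mem_W (hP.1.1 hx) hxA).mpr ⟨ha, h0 _ (h.comm_mem_inf hF hP hx hxA ha han)⟩

theorem exists_move : ∃ g ∈ F.autGroup P, ∃ z ∈ Zc S, afun g z ∉ Zc S := by
  refine h.exists_not_invariant hF hP hx hxA (h.Zc_le_P hF hP) fun a ha han => ⟨fun z hz => ?_,
    (h.W_normalizes hF hP hx hxA (h.mem_W_of_normalizes hF hP hx hxA h0 ha han)).2⟩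
  rw [cj_apply, (mem_Zc.mp hz).2 a (h.le ha), mul_inv_cancel_right]

omit hx hxA h0 in
/-- `Z(S) ∩ g(Z(S))`. -/
noncomputable def moveInf (g : MulAut P) : Subgroup Ω := Zc S ⊓ im (Zc S) (afun g)

omit hx hxA h0 in
theorem mem_imZ {g : MulAut P} (hg : g ∈ F.autGroup P) {y : Ω} :
    y ∈ im (Zc S) (afun g) ↔ ∃ z ∈ Zc S, afun g z = y :=
  (((mem_autGroup hP.1.1).mp hg).restrict_to (h.Zc_le_P hF hP)).mem_im

theorem card_moveInf {g : MulAut P} (hg : g ∈ F.autGroup P) :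
    Nat.card (Zc S) ≤ p * Nat.card ↥(moveInf (S := S) g) := by
  have hm := ((mem_autGroup hP.1.1).mp hg).restrict_to (h.Zc_le_P hF hP)
  haveI := finite_of_le hP.1.1
  haveI := finite_of_le (inf_le_left : Zc S ≤ S)
  have h1 := card_inf_mul_le (H := Zc S) (K := im (Zc S) (afun g)) (P := P)
    (im_le_iff.mpr fun z hz => afun_mem g (h.Zc_le_P hF hP hz)) (h.Zc_le_P hF hP)
  rw [hm.card_im, h.card_P hF hP hx hxA h0] at h1
  refine Nat.le_of_mul_le_mul_right (h1.trans_eq ?_) (Nat.card_pos (α := Zc S))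
  show p * Nat.card (Zc S) * Nat.card ↥(moveInf (S := S) g) = _
  ring

theorem sup_im {g : MulAut P} (hg : g ∈ F.autGroup P) {z : Ω} (hz : z ∈ Zc S)
    (hgz : afun g z ∉ Zc S) : P ≤ Zc S ⊔ Subgroup.zpowers (afun g z) := by
  have hy : afun g z ∈ P := afun_mem g (h.Zc_le_P hF hP hz)
  have hyA : afun g z ∉ A := fun hA => hgz (h0 _ ⟨hy, hA⟩)
  rw [← h.inf_eq_Zc hF hP hx hxA h0, ← h.eq_sup hP.1.1 hy hyA]

theorem stab_le_autInduced {g : MulAut P} (r : MulAut P) (hr : r ∈ F.autGroup P)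
    (hrs : r ∈ stab P (moveInf (S := S) g) (inf_le_left.trans (h.Zc_le_P hF hP))) :
    r ∈ autInducedBy S P := by
  haveI := finite_autGroup (F := F) P
  haveI := finite_of_le hP.1.1
  obtain ⟨T, hT⟩ := (fullyAutomized_of_fullyNormalized h.hS hF hP.2.1).2
  set R := (stab P (moveInf (S := S) g) (inf_le_left.trans (h.Zc_le_P hF hP))).subgroupOf
    (F.autGroup P) with hR
  have hnorm : (T : Subgroup (F.autGroup P)) ≤ Subgroup.normalizer (R : Set (F.autGroup P)) := by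
    have hfix : ∀ t ∈ (T : Subgroup (F.autGroup P)), ∀ d ∈ moveInf (S := S) g,
        afun (t : MulAut P) d = d := by
      intro t ht d hd
      rw [hT, Subgroup.mem_subgroupOf, mem_autInducedBy] at ht
      obtain ⟨s, hs, -, hse⟩ := ht
      rw [hse d (h.Zc_le_P hF hP hd.1), cj_apply, (mem_Zc.mp hd.1).2 s hs, mul_inv_cancel_right]
    intro t ht
    rw [Subgroup.mem_normalizer_iff]
    have key : ∀ t ∈ (T : Subgroup (F.autGroup P)), ∀ r ∈ R, t * r * t⁻¹ ∈ R := by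
      intro t ht r hr
      exact stab_conj (inf_le_left.trans (h.Zc_le_P hF hP)) hr
        (fun d hd => by rw [hfix t ht d hd]; exact hd)
        (fun d hd => by
          have := hfix t⁻¹ (inv_mem ht) d hd
          rw [Subgroup.coe_inv] at this
          rw [this]; exact hd)
    intro r
    refine ⟨key t ht r, fun hr => ?_⟩
    have := key t⁻¹ (inv_mem ht) _ hr
    simpa [mul_assoc] using this
  have hpR : IsPGroup p R :=
    (isPGroup_stab (h.hS.to_le hP.1.1) _).comap_of_injective _ (F.autGroup P).subtype_injective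
  have hsup : R ⊔ T = (T : Subgroup (F.autGroup P)) := by
    refine T.3 ?_ le_sup_right
    exact IsPGroup.to_sup_of_normal_left' hpR T.2 hnorm
  have hmem : (⟨r, hr⟩ : F.autGroup P) ∈ (T : Subgroup (F.autGroup P)) :=
    hsup.le (Subgroup.mem_sup_left hrs)
  rw [hT] at hmem
  exact hmem

/-- The stabiliser of `1 ≤ Z ∩ gZ ≤ P` is trivial. -/
theorem stab_eq_one {g : MulAut P} (hg : g ∈ F.autGroup P) {z₀ : Ω} (hz₀ : z₀ ∈ Zc S)
    (hgz : afun g z₀ ∉ Zc S) (r : MulAut P) (hr : r ∈ F.autGroup P)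
    (hrs : r ∈ stab P (moveInf (S := S) g) (inf_le_left.trans (h.Zc_le_P hF hP))) :
    ∀ y ∈ P, afun r y = y := by
  have hZP := h.Zc_le_P hF hP
  have hfix : ∀ {r : MulAut P}, r ∈ autInducedBy S P → ∀ z ∈ Zc S, afun r z = z := by
    intro r hr z hz
    obtain ⟨s, hs, -, hse⟩ := mem_autInducedBy.mp hr
    rw [hse z (hZP hz), cj_apply, (mem_Zc.mp hz).2 s hs, mul_inv_cancel_right]
  have h1 := hfix (h.stab_le_autInduced hF hP hx hxA h0 r hr hrs)
  have hi : ∀ d ∈ moveInf (S := S) g⁻¹, afun g d ∈ moveInf (S := S) g := by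
    intro d hd
    obtain ⟨z, hz, rfl⟩ := (h.mem_imZ hF hP (inv_mem hg)).mp hd.2
    refine ⟨by rw [afun_apply_inv g (hZP hz)]; exact hz, (h.mem_imZ hF hP hg).mpr ⟨_, hd.1, rfl⟩⟩
  have hi' : ∀ d ∈ moveInf (S := S) g, afun g⁻¹ d ∈ moveInf (S := S) g⁻¹ := by
    intro d hd
    obtain ⟨z, hz, rfl⟩ := (h.mem_imZ hF hP hg).mp hd.2
    refine ⟨by rw [afun_inv_apply g (hZP hz)]; exact hz,
      (h.mem_imZ hF hP (inv_mem hg)).mpr ⟨_, hd.1, rfl⟩⟩
  have hr' : g⁻¹ * r * g ∈ F.autGroup P := mul_mem (mul_mem (inv_mem hg) hr) hg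
  have hrs' : g⁻¹ * r * g ∈
      stab P (moveInf (S := S) g⁻¹) (inf_le_left.trans hZP) := by
    refine ⟨fun d hd => ?_, fun y hy => ?_⟩
    · rw [afun_mul _ _ (hZP hd.1), afun_mul _ _ (afun_mem _ (hZP hd.1)), hrs.1 _ (hi d hd),
        afun_inv_apply g (hZP hd.1)]
    · have hy' := afun_mem g hy
      have h3 := hi' _ (hrs.2 _ hy')
      rw [afun_map_mul _ (P.inv_mem hy') (afun_mem r hy'),
        ((mem_autGroup hP.1.1).mp (inv_mem hg)).map_inv hy', afun_inv_apply g hy] at h3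
      rwa [afun_mul _ _ hy, afun_mul _ _ hy']
  have h2 := hfix (h.stab_le_autInduced hF hP hx hxA h0 _ hr' hrs')
  intro y hy
  let K : Subgroup Ω :=
    { carrier := {y | y ∈ P ∧ afun r y = y}
      one_mem' := ⟨P.one_mem, ((mem_autGroup hP.1.1).mp hr).map_one⟩
      mul_mem' := fun ha hb => ⟨P.mul_mem ha.1 hb.1, by
        rw [afun_map_mul _ ha.1 hb.1, ha.2, hb.2]⟩
      inv_mem' := fun ha => ⟨P.inv_mem ha.1, by
        rw [((mem_autGroup hP.1.1).mp hr).map_inv ha.1, ha.2]⟩ }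
  suffices hK : P ≤ K from (hK hy).2
  refine (h.sup_im hF hP hx hxA h0 hg hz₀ hgz).trans
    (sup_le (fun z hz => ⟨hZP hz, h1 z hz⟩) (Subgroup.zpowers_le.mpr ⟨afun_mem g (hZP hz₀), ?_⟩))
  have h3 := congrArg (afun g) (h2 z₀ hz₀)
  rwa [afun_mul _ _ (hZP hz₀), afun_mul _ _ (afun_mem g (hZP hz₀)),
    afun_apply_inv g (afun_mem r (afun_mem g (hZP hz₀)))] at h3

theorem imgW_inf_moveInf {g : MulAut P} (hg : g ∈ F.autGroup P) {z₀ : Ω} (hz₀ : z₀ ∈ Zc S)
    (hgz : afun g z₀ ∉ Zc S) :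
    h.img (hP.1.1 hx) (inf_le_left : W S A ≤ A) ⊓ moveInf (S := S) g = ⊥ := by
  rw [Subgroup.eq_bot_iff_forall]
  rintro _ ⟨hy, hyD⟩
  obtain ⟨a, ha, rfl⟩ := (h.mem_img _ _).mp hy
  obtain ⟨han, haZ⟩ := h.W_normalizes hF hP hx hxA ha
  have hZP := h.Zc_le_P hF hP
  set D := moveInf (S := S) g
  have hfix : ∀ d ∈ D, cj a d = d := fun d hd => by
    rw [cj_apply, (mem_Zc.mp hd.1).2 a (h.le ha.1), mul_inv_cancel_right]
  let K : Subgroup Ω :=
    { carrier := {y | y ∈ S ∧ y⁻¹ * cj a y ∈ D}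
      one_mem' := ⟨S.one_mem, by simp [cj_apply]⟩
      mul_mem' := by
        rintro y z ⟨hyS, hy⟩ ⟨hzS, hz⟩
        refine ⟨S.mul_mem hyS hzS, ?_⟩
        have e : (y * z)⁻¹ * cj a (y * z) = z⁻¹ * (y⁻¹ * cj a y) * cj a z := by
          simp only [cj_apply]; group
        rw [e, (mem_Zc.mp hy.1).2 _ (S.inv_mem hzS), mul_assoc]
        exact D.mul_mem hy hz
      inv_mem' := by
        rintro y ⟨hyS, hy⟩
        refine ⟨S.inv_mem hyS, ?_⟩
        have e : y⁻¹⁻¹ * cj a y⁻¹ = y * (y⁻¹ * cj a y)⁻¹ * y⁻¹ := by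
          simp only [cj_apply]; group
        rw [e, (mem_Zc.mp (D.inv_mem hy).1).2 _ hyS, mul_inv_cancel_right]
        exact D.inv_mem hy }
  have hPK : P ≤ K := by
    rw [h.P_eq hF hP hx hxA h0]
    refine sup_le (fun z hz => ⟨hz.1, ?_⟩) (Subgroup.zpowers_le.mpr ⟨hP.1.1 hx, ?_⟩)
    · rw [cj_apply, (mem_Zc.mp hz).2 a (h.le ha.1), mul_inv_cancel_right, inv_mul_cancel]
      exact D.one_mem
    · rw [cj_apply, conj_eq, ← (mem_Zc.mp hyD.1).2 x (hP.1.1 hx), inv_mul_cancel_left]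
      exact hyD
  have hmem : nHom S P ⟨a, h.le ha.1, han⟩ ∈ F.autGroup P :=
    autInducedBy_le hP.1.1 (autInducedBy_eq_range S P ▸ ⟨_, rfl⟩)
  have hone := h.stab_eq_one hF hP hx hxA h0 hg hz₀ hgz _ hmem
    ⟨fun d hd => by rw [afun_nHom _ (hZP hd.1)]; exact hfix d hd,
      fun y hy => by rw [afun_nHom _ hy]; exact (hPK hy).2⟩ x hx
  rw [afun_nHom _ hx, cj_apply, conj_eq] at hone
  exact mul_eq_right.mp hone

theorem card_imgW_abelian :
    Nat.card (h.img (hP.1.1 hx) (inf_le_left : W S A ≤ A)) = p := by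
  obtain ⟨g, hg, z₀, hz₀, hgz⟩ := h.exists_move hF hP hx hxA h0
  set I := h.img (hP.1.1 hx) (inf_le_left : W S A ≤ A) with hI
  haveI := finite_of_le ((h.img_le (hP.1.1 hx) (inf_le_left : W S A ≤ A)).trans h.le)
  haveI := finite_of_le (inf_le_left : Zc S ≤ S)
  have hIZ : I ≤ Zc S := by
    intro y hy
    rw [hI, h.img_W (hP.1.1 hx) hxA] at hy
    exact hy.2
  have h1 := card_inf_mul_le (H := I) (K := moveInf (S := S) g) (P := Zc S) inf_le_left hIZ
  rw [h.imgW_inf_moveInf hF hP hx hxA h0 hg hz₀ hgz, Subgroup.card_bot, mul_one] at h1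
  have h2 := h.card_moveInf hF hP hx hxA h0 hg
  haveI : Finite ↥(moveInf (S := S) g) := finite_of_le (inf_le_left.trans inf_le_left)
  obtain ⟨k, hk⟩ := IsPGroup.iff_card.mp (h.hS.to_le ((h.img_le (hP.1.1 hx)
    (inf_le_left : W S A ≤ A)).trans h.le))
  refine eq_p_of_pow hk ?_ (Nat.le_of_mul_le_mul_right (h1.trans h2) Nat.card_pos)
  obtain ⟨a, ha, han, haP⟩ := h.exists_mem_normalizer hF hP hx hxA
  rw [Finite.one_lt_card_iff_nontrivial]
  refine ⟨⟨⟨⁅a, x⁆, (h.mem_img _ _).mpr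
    ⟨a, h.mem_W_of_normalizes hF hP hx hxA h0 ha han, rfl⟩⟩, 1, fun e => ?_⟩⟩
  have e' : ⁅a, x⁆ = 1 := congrArg Subtype.val e
  exact haP (h.Zc_le_P hF hP
    (h.mem_Zc_of_commute ha (hP.1.1 hx) hxA (commutator_eq_one.mp e')))

end Abelian

theorem nonabelian_facts (h0 : ¬ ∀ a ∈ P ⊓ A, a ∈ Zc S) :
    P ⊓ A = W S A ∧ Nat.card (W S A) = p * Nat.card (Zc S) := by
  have hZP := h.Zc_le_P hF hP
  have hPS := hP.1.1
  haveI := finite_of_le hPS
  have hcen : ∀ z ∈ P, (∀ y ∈ P, y * z = z * y) → z ∈ Zc S :=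
    ((h.inf_cases hF hP hx hxA).resolve_left h0).2
  have hWP : W S A ≤ P ⊓ A := by
    intro a ha
    obtain ⟨han, haZ⟩ := h.W_normalizes hF hP hx hxA ha
    refine ⟨mem_of_stab h.hS hP.1 (radical_of_essential h.hS hP) hZP ?_ (h.le ha.1) han
      (fun z hz => ?_) haZ, ha.1⟩
    · intro α hα z hz
      refine hcen _ (afun_mem α (hZP hz)) fun y hy => ?_
      have hy' := afun_mem α⁻¹ hy
      rw [← afun_apply_inv α hy, ← afun_map_mul α hy' (hZP hz), ← afun_map_mul α (hZP hz) hy',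
        (mem_Zc.mp hz).2 _ (hPS hy')]
    · rw [cj_apply, (mem_Zc.mp hz).2 a (h.le ha.1), mul_inv_cancel_right]
  obtain ⟨g, hg, a₀, ha₀, hga⟩ := h.exists_not_invariant hF hP hx hxA (X := P ⊓ A) inf_le_left
    (fun a ha han => ⟨fun z hz => by
      rw [cj_apply, h.mul_comm' ha hz.2, mul_inv_cancel_right], fun y hy => by
      refine ⟨P.mul_mem (P.inv_mem hy) (cj_mem_of_normalizer han hy), ?_⟩
      have e : y⁻¹ * cj a y = (y⁻¹ * a * y⁻¹⁻¹) * a⁻¹ := by
        simp only [cj_apply, inv_inv]; group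
      rw [e]
      exact A.mul_mem (h.normal (S.inv_mem (hPS hy)) ha) (A.inv_mem ha)⟩)
  have hm := (mem_autGroup hPS).mp hg
  have hm0 := hm.restrict_to (inf_le_left : P ⊓ A ≤ P)
  set B := im (P ⊓ A) (afun g) with hB
  have hBP : B ≤ P := im_le_iff.mpr fun z hz => afun_mem g hz.1
  have hb : afun g a₀ ∈ B := apply_mem_im ha₀
  have hbA : afun g a₀ ∉ A := fun e => hga ⟨afun_mem g ha₀.1, e⟩
  have hBc : ∀ u ∈ B, u * afun g a₀ = afun g a₀ * u := by
    intro u hu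
    obtain ⟨v, hv, rfl⟩ := hm0.mem_im.mp hu
    rw [← afun_map_mul g hv.1 ha₀.1, ← afun_map_mul g ha₀.1 hv.1, h.mul_comm' hv.2 ha₀.2]
  have hinf : (P ⊓ A) ⊓ B ≤ Zc S := fun u hu =>
    h.mem_Zc_of_commute hu.1.2 (hPS (afun_mem g ha₀.1)) hbA (hBc u hu.2)
  have hcard : Nat.card ↥(P ⊓ A) ≤ p * Nat.card (Zc S) := by
    haveI := finite_of_le (inf_le_left.trans hPS : P ⊓ A ≤ S)
    haveI := finite_of_le (inf_le_left : Zc S ≤ S)
    have h1 := card_inf_mul_le (H := P ⊓ A) (K := B) (P := P) hBP inf_le_left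
    rw [hm0.card_im, h.card_eq_mul_inf hPS hx hxA, inf_comm A P] at h1
    have h2 := h1.trans (Nat.mul_le_mul_left _ (Subgroup.card_le_of_le hinf))
    refine Nat.le_of_mul_le_mul_left (h2.trans_eq ?_) (Nat.card_pos (α := ↥(P ⊓ A)))
    ring
  have hPW : P ⊓ A ≤ W S A := by
    intro a ha
    refine (h.mem_W (hPS (afun_mem g ha₀.1)) hbA).mpr ⟨ha.2, ?_⟩
    refine hinf ⟨⟨?_, h.comm_mem ha.2 (hPS (afun_mem g ha₀.1))⟩, ?_⟩
    · rw [commutatorElement_def]
      exact P.mul_mem (P.mul_mem (P.mul_mem ha.1 (afun_mem g ha₀.1)) (P.inv_mem ha.1))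
        (P.inv_mem (afun_mem g ha₀.1))
    · rw [commutatorElement_def]
      refine B.mul_mem ?_ (B.inv_mem hb)
      have ha' := afun_mem g⁻¹ ha.1
      rw [← afun_apply_inv g ha.1, ← cj_apply, ← hm.map_cj ha' ha₀.1]
      refine apply_mem_im ⟨?_, h.normal (hPS ha') ha₀.2⟩
      exact P.mul_mem (P.mul_mem ha' ha₀.1) (P.inv_mem ha')
  have heq := le_antisymm hPW hWP
  refine ⟨heq, le_antisymm (by rw [← heq]; exact hcard) ?_⟩
  have h3 := h.card_W (hPS hx) hxA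
  rw [h3]
  refine Nat.mul_le_mul_right _ ?_
  set I := h.img (hPS hx) (inf_le_left : W S A ≤ A)
  haveI := finite_of_le ((h.img_le (hPS hx) (inf_le_left : W S A ≤ A)).trans h.le)
  obtain ⟨k, hk⟩ := IsPGroup.iff_card.mp (h.hS.to_le ((h.img_le (hPS hx)
    (inf_le_left : W S A ≤ A)).trans h.le))
  rw [hk]
  refine Nat.le_self_pow ?_ p
  rintro rfl
  push Not at h0
  obtain ⟨a, ha, haZ⟩ := h0
  haveI := finite_of_le (inf_le_left : Zc S ≤ S)
  have hle : Nat.card (W S A) ≤ Nat.card (Zc S) := by rw [h3, hk, pow_zero, one_mul]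
  exact haZ ((eq_of_le_of_card_ge (inf_le_left.trans h.le) h.Zc_le_W hle).ge (hPW ha))

end Ess

/-- The structure of an essential subgroup other than `A`. -/
theorem main (hF : F.IsSaturated p) {P : Subgroup Ω} (hP : F.IsEssential p P) (hPA : P ≠ A) :
    Nat.card (W S A) = p * Nat.card (Zc S) ∧
    (∃ x ∈ S, x ∉ A ∧ ((P = Zc S ⊔ Subgroup.zpowers x ∧ ∀ a ∈ P ⊓ A, a ∈ Zc S) ∨
      (P = W S A ⊔ Subgroup.zpowers x ∧ ∀ z ∈ P, (∀ y ∈ P, y * z = z * y) → z ∈ Zc S))) ∧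
    (P.subgroupOf (S ⊓ Subgroup.normalizer (P : Set Ω))).index = p := by
  obtain ⟨x, hx, hxA⟩ := h.not_le hF hP hPA
  have hPS := hP.1.1
  have hlt := essential_lt h.hS hF hP
  have hN : FusionSystem.normalizerIn S P ≤ S := inf_le_left
  haveI := finite_of_le (inf_le_left.trans h.le : A ⊓ FusionSystem.normalizerIn S P ≤ S)
  haveI := finite_of_le (inf_le_left.trans h.le : W S A ≤ S)
  have hcN := h.card_eq_mul_inf hN (le_normalizerIn hPS hx) hxA
  by_cases h0 : ∀ a ∈ P ⊓ A, a ∈ Zc S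
  · have hW : Nat.card (W S A) = p * Nat.card (Zc S) := by
      rw [h.card_W (hPS hx) hxA, h.card_imgW_abelian hF hP hx hxA h0]
    refine ⟨hW, ⟨x, hPS hx, hxA, Or.inl ⟨h.P_eq hF hP hx hxA h0, h0⟩⟩,
      index_normalizerIn h.hS hlt ?_⟩
    rw [hcN, h.card_P hF hP hx hxA h0, ← hW]
    exact Nat.mul_le_mul_left _ (Subgroup.card_le_of_le fun a ha =>
      h.mem_W_of_normalizes hF hP hx hxA h0 ha.1 ha.2.2)
  · obtain ⟨heq, hW⟩ := h.nonabelian_facts hF hP hx hxA h0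
    refine ⟨hW, ⟨x, hPS hx, hxA, Or.inr ⟨?_, ((h.inf_cases hF hP hx hxA).resolve_left h0).2⟩⟩,
      index_normalizerIn h.hS hlt ?_⟩
    · rw [← heq]; exact h.eq_sup hPS hx hxA
    rw [hcN, h.card_eq_mul_inf hPS hx hxA, inf_comm A P, heq]
    refine Nat.mul_le_mul_left _ ?_
    set N := A ⊓ FusionSystem.normalizerIn S P
    have hNA : N ≤ A := inf_le_left
    have himg : h.img (hPS hx) hNA ≤ W S A := by
      intro y hy
      obtain ⟨a, ha, rfl⟩ := (h.mem_img _ _).mp hy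
      rw [← heq]
      exact h.comm_mem_inf hF hP hx hxA ha.1 ha.2.2
    have h1 := h.card_img (hPS hx) hxA hNA
    have hZN : N ⊓ Zc S = Zc S := inf_eq_right.mpr (le_inf h.Zc_le
      ((h.Zc_le_P hF hP).trans (le_normalizerIn hPS)))
    rw [hZN] at h1
    haveI := finite_of_le ((h.img_le (hPS hx) hNA).trans h.le)
    haveI := finite_of_le (inf_le_left : Zc S ≤ S)
    have h2 : Nat.card ↥(h.img (hPS hx) hNA ⊓ Zc S) ≤
        Nat.card (h.img (hPS hx) (inf_le_left : W S A ≤ A)) := by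
      haveI := finite_of_le ((h.img_le (hPS hx) (inf_le_left : W S A ≤ A)).trans h.le)
      refine Subgroup.card_le_of_le fun y hy => ?_
      rw [h.img_W (hPS hx) hxA]
      obtain ⟨a, ha, rfl⟩ := (h.mem_img _ _).mp hy.1
      exact ⟨(h.mem_img _ _).mpr ⟨a, ha.1, rfl⟩, hy.2⟩
    have h3 := card_inf_mul_le (H := h.img (hPS hx) hNA) (K := Zc S) (P := W S A)
      h.Zc_le_W himg
    rw [h1] at h3
    calc Nat.card N ≤ Nat.card (W S A) * Nat.card ↥(h.img (hPS hx) hNA ⊓ Zc S) := h3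
      _ ≤ Nat.card (W S A) * Nat.card (h.img (hPS hx) (inf_le_left : W S A ≤ A)) :=
          Nat.mul_le_mul_left _ h2
      _ = p * Nat.card (W S A) := by
          have h4 := h.card_W (hPS hx) hxA
          rw [hW] at h4
          rw [← Nat.eq_of_mul_eq_mul_right Nat.card_pos h4, hW, mul_comm]

end Setting

end Cfsg.Agent.FusionAbelianIndexP89
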