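import Cfsg.Agent.Lib.FusionAbelianIndexP89

/-!
# The lower central series of a `p`-group with abelian subgroup of index `p`
-/

set_option autoImplicit false
set_option linter.unusedSectionVars false
set_option linter.style.haveILetI false

open Cfsg Cfsg.FusionSystem Cfsg.Agent.FusionSysBasic
open scoped commutatorElement

namespace Cfsg.Agent.FusionAbelianIndexP89

variable {Ω : Type*} [Group Ω] {p : ℕ} {S A : Subgroup Ω}

namespace Setting

variable [Finite S] [hp : Fact p.Prime] (h : Setting p S A) {x : Ω} (hx : x ∈ S) (hxA : x ∉ A)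
include h

/-- Iterated images of `A` under `a ↦ [a, x]`. -/
noncomputable def series : ℕ → {K : Subgroup Ω // K ≤ A}
  | 0 => ⟨A, le_rfl⟩
  | k + 1 => ⟨h.img hx (series k).2, h.img_le hx _⟩

theorem series_le_lcs (k : ℕ) :
    (h.series hx k).1 ≤ Subgroup.lowerCentralSeries S k := by
  induction k with
  | zero => exact h.le
  | succ k ih =>
    intro y hy
    obtain ⟨a, ha, rfl⟩ := (h.mem_img hx _).mp hy
    exact Subgroup.commutator_mem_commutator (ih ha) hx

include hxA

theorem commutator_eq : ⁅S, S⁆ = h.img hx (le_refl A) := by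
  refine le_antisymm ?_ fun y hy => ?_
  · set N := h.img hx (le_refl A) with hN
    have hnorm : ∀ s ∈ S, ∀ n ∈ N, s * n * s⁻¹ ∈ N := by
      have hxn : ∀ n ∈ N, x * n * x⁻¹ ∈ N := by
        intro n hn
        obtain ⟨a, ha, rfl⟩ := (h.mem_img hx _).mp hn
        refine (h.mem_img hx _).mpr ⟨x * a * x⁻¹, h.normal hx ha, ?_⟩
        simp only [commutatorElement_def]; group
      have hle : A ⊔ Subgroup.zpowers x ≤ Subgroup.normalizer (N : Set Ω) := by
        haveI := finite_of_le ((h.img_le hx (le_refl A)).trans h.le)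
        refine sup_le (fun a ha => ?_) (Subgroup.zpowers_le.mpr
          (mem_normalizer_of_cj_le ((h.img_le hx (le_refl A)).trans h.le) hxn))
        refine mem_normalizer_of_cj_le ((h.img_le hx (le_refl A)).trans h.le) fun n hn => ?_
        rw [show cj a n = n by
          rw [cj_apply, h.mul_comm' ha (h.img_le hx _ hn), mul_inv_cancel_right]]
        exact hn
      rw [h.sup_eq hx hxA] at hle
      exact fun s hs n hn => cj_mem_of_normalizer (hle hs) hn
    have key : ∀ u ∈ S, (∀ a ∈ A, ⁅a, u⁆ ∈ N) → ⁅x, u⁆ ∈ N → ∀ y ∈ S, ⁅y, u⁆ ∈ N := by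
      intro u hu hA hxu
      let K : Subgroup Ω :=
        { carrier := {y | y ∈ S ∧ ⁅y, u⁆ ∈ N}
          one_mem' := ⟨S.one_mem, by rw [commutatorElement_one_left]; exact N.one_mem⟩
          mul_mem' := by
            rintro y z ⟨hy, hy'⟩ ⟨hz, hz'⟩
            refine ⟨S.mul_mem hy hz, ?_⟩
            rw [show ⁅y * z, u⁆ = y * ⁅z, u⁆ * y⁻¹ * ⁅y, u⁆ by
              simp only [commutatorElement_def]; group]
            exact N.mul_mem (hnorm y hy _ hz') hy'
          inv_mem' := by
            rintro y ⟨hy, hy'⟩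
            refine ⟨S.inv_mem hy, ?_⟩
            rw [show ⁅y⁻¹, u⁆ = y⁻¹ * ⁅y, u⁆⁻¹ * y⁻¹⁻¹ by
              simp only [commutatorElement_def]; group]
            exact hnorm _ (S.inv_mem hy) _ (N.inv_mem hy') }
      have hle : A ⊔ Subgroup.zpowers x ≤ K :=
        sup_le (fun a ha => ⟨h.le ha, hA a ha⟩) (Subgroup.zpowers_le.mpr ⟨hx, hxu⟩)
      rw [h.sup_eq hx hxA] at hle
      exact fun y hy => (hle hy).2
    have h1 : ∀ y ∈ S, ⁅y, x⁆ ∈ N :=
      key x hx (fun a ha => (h.mem_img hx _).mpr ⟨a, ha, rfl⟩)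
        (by rw [commutatorElement_self]; exact N.one_mem)
    refine Subgroup.commutator_le.mpr fun y hy u hu => key u hu (fun a ha => ?_) ?_ y hy
    · rw [← commutatorElement_inv]
      refine N.inv_mem (key a (h.le ha) (fun b hb => ?_) ?_ u hu)
      · rw [commutator_eq_one.mpr (h.mul_comm' hb ha)]; exact N.one_mem
      · rw [← commutatorElement_inv]; exact N.inv_mem (h1 a (h.le ha))
    · rw [← commutatorElement_inv]; exact N.inv_mem (h1 u hu)
  · obtain ⟨a, ha, rfl⟩ := (h.mem_img hx _).mp hy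
    exact Subgroup.commutator_mem_commutator (h.le ha) hx

theorem series_inf_le (k : ℕ) :
    (h.series hx (k + 1)).1 ⊓ Zc S ≤ h.img hx (inf_le_left : W S A ≤ A) := by
  rw [h.img_W hx hxA]
  refine fun y hy => ⟨?_, hy.2⟩
  obtain ⟨a, ha, rfl⟩ := (h.mem_img hx _).mp hy.1
  exact (h.mem_img hx _).mpr ⟨a, (h.series hx k).2 ha, rfl⟩

variable (hW : Nat.card (W S A) = p * Nat.card (Zc S))
include hW

theorem card_imgW : Nat.card (h.img hx (inf_le_left : W S A ≤ A)) = p := by
  have := h.card_W hx hxA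
  rw [hW] at this
  exact (Nat.eq_of_mul_eq_mul_right Nat.card_pos this).symm

/-- `|S : A| ^ k` bounds the loss in `k` steps. -/
theorem card_series (k : ℕ) :
    Nat.card A ≤ p ^ k * (Nat.card (h.series hx (k + 1)).1 * Nat.card (Zc S)) := by
  induction k with
  | zero =>
    have h1 := h.card_img hx hxA (le_refl A)
    rw [inf_eq_right.mpr h.Zc_le] at h1
    rw [pow_zero, one_mul, ← h1]
    exact le_rfl
  | succ k ih =>
    have h1 := h.card_img hx hxA (h.series hx (k + 1)).2
    haveI := finite_of_le ((h.img_le hx (inf_le_left : W S A ≤ A)).trans h.le)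
    have h2 := Subgroup.card_le_of_le (h.series_inf_le hx hxA k)
    rw [h.card_imgW hx hxA hW] at h2
    have h3 : Nat.card (h.series hx (k + 1)).1 ≤ Nat.card (h.series hx (k + 2)).1 * p := by
      rw [← h1]; exact Nat.mul_le_mul_left _ h2
    refine ih.trans ?_
    calc p ^ k * (Nat.card (h.series hx (k + 1)).1 * Nat.card (Zc S))
        ≤ p ^ k * (Nat.card (h.series hx (k + 2)).1 * p * Nat.card (Zc S)) :=
          Nat.mul_le_mul_left _ (Nat.mul_le_mul_right _ h3)
      _ = _ := by ring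

/-- The step before the last one leaves the centre. -/
theorem not_series_le {m : ℕ} (hm : Nat.card S = p ^ m * Nat.card (Zc S)) (hm3 : 3 ≤ m) :
    ¬ (h.series hx (m - 2)).1 ≤ Zc S := by
  intro hle
  have h1 := h.card_series hx hxA hW (m - 3)
  obtain ⟨j, rfl⟩ : ∃ j, m = j + 3 := ⟨m - 3, by omega⟩
  simp only [Nat.add_sub_cancel, show j + 3 - 2 = j + 1 by omega] at h1 hle
  rw [h.card_eq, show p ^ (j + 3) = p * p ^ (j + 2) by ring, mul_assoc] at hm
  rw [Nat.eq_of_mul_eq_mul_left hp.out.pos hm] at h1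
  haveI := finite_of_le ((h.img_le hx (inf_le_left : W S A ≤ A)).trans h.le)
  have h3 : Nat.card (h.series hx (j + 1)).1 ≤ p := by
    exact (Subgroup.card_le_of_le (le_trans (le_inf le_rfl hle) (h.series_inf_le hx hxA j))).trans
      (h.card_imgW hx hxA hW).le
  have h2 : p ^ (j + 2) * Nat.card (Zc S) ≤ p ^ (j + 1) * Nat.card (Zc S) :=
    h1.trans ((Nat.mul_le_mul_left _ (Nat.mul_le_mul_right _ h3)).trans_eq (by ring))
  have := Nat.le_of_mul_le_mul_right h2 Nat.card_pos
  exact absurd this (Nat.not_le.mpr (Nat.pow_lt_pow_right hp.out.one_lt (by omega)))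

theorem card_sup_commutator :
    Nat.card ↥(Zc S ⊔ h.img hx (le_refl A)) * p = Nat.card A := by
  set C := h.img hx (le_refl A) with hC
  have hCA : C ≤ A := h.img_le hx _
  have hKA : Zc S ⊔ C ≤ A := sup_le h.Zc_le hCA
  have himg : h.img hx hKA = h.img hx hCA := by
    refine le_antisymm (fun y hy => ?_) fun y hy => ?_
    · obtain ⟨u, hu, rfl⟩ := (h.mem_img hx _).mp hy
      have hle : Zc S ⊔ C ≤ ((h.img hx hCA).comap (h.comHom hx)).map A.subtype := by
        refine sup_le (fun z hz => ⟨⟨z, h.Zc_le hz⟩, ?_, rfl⟩)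
          (fun c hc => ⟨⟨c, hCA hc⟩, ?_, rfl⟩)
        · show ⁅z, x⁆ ∈ h.img hx hCA
          rw [commutator_eq_one.mpr ((mem_Zc.mp hz).2 x hx).symm]
          exact one_mem _
        · exact (h.mem_img hx _).mpr ⟨c, hc, rfl⟩
      obtain ⟨a, ha, rfl⟩ := hle hu
      exact ha
    · obtain ⟨u, hu, rfl⟩ := (h.mem_img hx _).mp hy
      exact (h.mem_img hx _).mpr ⟨u, Subgroup.mem_sup_right hu, rfl⟩
  have h1 := h.card_img hx hxA hKA
  rw [inf_eq_right.mpr (le_sup_left : Zc S ≤ Zc S ⊔ C), himg] at h1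
  have h2 := h.card_img hx hxA hCA
  have h3 : C ⊓ Zc S = h.img hx (inf_le_left : W S A ≤ A) := (h.img_W hx hxA).symm
  rw [h3, h.card_imgW hx hxA hW] at h2
  have h4 := h.card_img hx hxA (le_refl A)
  rw [inf_eq_right.mpr h.Zc_le] at h4
  rw [← h4, ← hC, ← h1, ← h2]
  ring

end Setting

end Cfsg.Agent.FusionAbelianIndexP89
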