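import Cfsg.Agent.Lib.FusionSysNormal

/-!
`K`-normalizer fusion systems: `N_F^K(Q)` is saturated when `Q` is fully `K`-normalized. The
normalizer and centralizer systems are the cases `K = ⊤` and `K = ⊥`.
-/

set_option autoImplicit false

namespace Cfsg.Agent.FusionSysNormalizer

open Cfsg Cfsg.FusionSystem Cfsg.Agent.FusionSysBasic Cfsg.Agent.FusionSysSaturated
  Cfsg.Agent.FusionSysAlperin Cfsg.Agent.FusionSysNormal

variable {Ω : Type*} [Group Ω] {S : Subgroup Ω} {F : FusionSystem S} {p : ℕ}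

/-- `N_S^L(R)`: the elements of `S` inducing a member of `L` on `R`. -/
def nK (S R : Subgroup Ω) (L : Subgroup (MulAut R)) : Subgroup Ω where
  carrier := {g | g ∈ S ∧ ∃ l ∈ L, ∀ x ∈ R, afun l x = cj g x}
  one_mem' := ⟨S.one_mem, 1, L.one_mem, fun x hx => by rw [afun_one hx, cj_one]⟩
  mul_mem' {a b} := fun ⟨ha, l, hl, he⟩ ⟨hb, l', hl', he'⟩ =>
    ⟨S.mul_mem ha hb, l * l', L.mul_mem hl hl', fun x hx => by
      rw [afun_mul _ _ hx, he _ (afun_mem l' hx), he' x hx, cj_cj]⟩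
  inv_mem' {a} := fun ⟨ha, l, hl, he⟩ =>
    ⟨S.inv_mem ha, l⁻¹, L.inv_mem hl, fun x hx => by
      have h1 := he _ (afun_mem l⁻¹ hx)
      rw [afun_apply_inv l hx] at h1
      conv_rhs => rw [h1]
      rw [cj_inv_cj]⟩

theorem mem_nK {R : Subgroup Ω} {L : Subgroup (MulAut R)} {g : Ω} :
    g ∈ nK S R L ↔ g ∈ S ∧ ∃ l ∈ L, ∀ x ∈ R, afun l x = cj g x :=
  Iff.rfl

theorem nK_le {R : Subgroup Ω} {L : Subgroup (MulAut R)} : nK S R L ≤ S := fun _ h => h.1

theorem nK_normalizes {R : Subgroup Ω} [Finite S] (hR : R ≤ S) {L : Subgroup (MulAut R)} :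
    nK S R L ≤ Subgroup.normalizer (R : Set Ω) := fun _ ⟨_, l, _, he⟩ =>
  mem_normalizer_of_cj_le hR fun x hx => he x hx ▸ afun_mem l hx

theorem mem_nK_transport {R R' : Subgroup Ω} {f : Ω → Ω} (hf : Mor F R f) (him : im R f = R')
    {L : Subgroup (MulAut R)} {g : Ω} :
    g ∈ nK S R' (L.map (hf.transport him).toMonoidHom) ↔
      g ∈ S ∧ ∃ l ∈ L, ∀ x ∈ R, cj g (f x) = f (afun l x) := by
  rw [mem_nK]
  refine and_congr_right fun _ => ⟨?_, ?_⟩
  · rintro ⟨_, ⟨l, hl, rfl⟩, he⟩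
    exact ⟨l, hl, fun x hx => (he _ (him ▸ apply_mem_im hx)).symm.trans
      (hf.afun_transport him l hx)⟩
  · rintro ⟨l, hl, he⟩
    refine ⟨_, ⟨l, hl, rfl⟩, fun y hy => ?_⟩
    obtain ⟨x, hx, rfl⟩ := hf.mem_im.mp (him.symm ▸ hy)
    exact (hf.afun_transport him l hx).trans (he x hx).symm

variable [Finite S]

theorem card_nK {R : Subgroup Ω} (hR : R ≤ S) (L : Subgroup (MulAut R)) :
    Nat.card (nK S R L) =
      Nat.card ↥(autInducedBy S R ⊓ L) * Nat.card (centralizerIn S R) := by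
  have hle : nK S R L ≤ S ⊓ Subgroup.normalizer (R : Set Ω) := le_inf nK_le (nK_normalizes hR)
  set ψ := (nHom S R).comp (Subgroup.inclusion hle)
  have hr : ψ.range = autInducedBy S R ⊓ L := by
    ext α
    rw [MonoidHom.mem_range, Subgroup.mem_inf, mem_autInducedBy]
    constructor
    · rintro ⟨g, rfl⟩
      refine ⟨⟨g, g.2.1, nK_normalizes hR g.2, fun x hx => afun_nHom _ hx⟩, ?_⟩
      obtain ⟨l, hl, he⟩ := g.2.2
      have : ψ g = l := afun_ext fun x hx => (afun_nHom _ hx).trans (he x hx).symm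
      rwa [this]
    · rintro ⟨⟨g, hg, -, he⟩, hα⟩
      exact ⟨⟨g, hg, α, hα, he⟩, afun_ext fun x hx => (afun_nHom _ hx).trans (he x hx).symm⟩
  have hk : Nat.card ψ.ker = Nat.card (centralizerIn S R) := by
    refine Nat.card_congr
      ⟨fun g => ⟨(g : ↥(nK S R L)), mem_centralizerIn.mpr
          ⟨(g : ↥(nK S R L)).2.1, fun x hx => ?_⟩⟩,
        fun g => ⟨⟨g, (mem_centralizerIn.mp g.2).1, 1, L.one_mem, fun x hx => ?_⟩,
          afun_ext fun x hx => ?_⟩,
        fun g => rfl, fun g => rfl⟩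
    · have := MonoidHom.mem_ker.mp g.2
      exact ((afun_nHom _ hx).symm.trans (congrArg (fun α => afun α x) this)).trans (afun_one hx)
    · rw [afun_one hx, (mem_centralizerIn.mp g.2).2 x hx]
    · exact ((afun_nHom _ hx).trans ((mem_centralizerIn.mp g.2).2 x hx)).trans (afun_one hx).symm
  rw [← hr, ← hk, ← Nat.card_congr (QuotientGroup.quotientKerEquivRange ψ).toEquiv,
    ← Subgroup.card_eq_card_quotient_mul_card_subgroup]

/-- `R` is fully `L`-normalized in `F`. -/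
def FullyK (F : FusionSystem S) (R : Subgroup Ω) (L : Subgroup (MulAut R)) : Prop :=
  R ≤ S ∧ ∀ (f : Ω → Ω) (hf : Mor F R f),
    Nat.card (nK S (im R f) (L.map (hf.transport rfl).toMonoidHom)) ≤ Nat.card (nK S R L)

theorem fullyK_card_le {R R' : Subgroup Ω} {L : Subgroup (MulAut R)} (h : FullyK F R L)
    {f : Ω → Ω} (hf : Mor F R f) (him : im R f = R') :
    Nat.card (nK S R' (L.map (hf.transport him).toMonoidHom)) ≤ Nat.card (nK S R L) := by
  subst him
  exact h.2 f hf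

theorem sylIn_le_pow {G : Type*} [Group G] [Fact p.Prime] {U A : Subgroup G} [Finite A]
    (hU : IsPGroup p U) (hUA : U ≤ A) : Nat.card U ≤ p ^ (Nat.card A).factorization p := by
  haveI : Finite U := Finite.of_injective _ (Subgroup.inclusion_injective hUA)
  obtain ⟨n, hn⟩ := IsPGroup.iff_card.mp hU
  rw [hn]
  refine Nat.pow_le_pow_right (Fact.out (p := p.Prime)).pos ?_
  exact ((Fact.out (p := p.Prime)).pow_dvd_iff_le_factorization Nat.card_pos.ne').mp
    (hn ▸ Subgroup.card_dvd_of_le hUA)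

variable [Fact p.Prime]

theorem fullyK_spec (hS : IsPGroup p S) (hF : F.IsSaturated p) {R : Subgroup Ω}
    {L : Subgroup (MulAut R)} (h : FullyK F R L) :
    F.IsFullyCentralized R ∧ SylIn p (autInducedBy S R ⊓ L) (F.autGroup R ⊓ L) := by
  obtain ⟨R', hR', hRa, hRr⟩ := hF R h.1
  have hC' := fullyCentralized_of_receptive hRr
  obtain ⟨f₀, hf₀, him₀⟩ := FusionSysBasic.isConj_iff.mp hR'
  haveI := finite_autGroup (F := F) R
  haveI := finite_autGroup (F := F) R'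
  haveI := finite_of_le h.1
  haveI := finite_of_le hRa.1
  set A := F.autGroup R ⊓ L with hA
  obtain ⟨U⟩ : Nonempty (Sylow p A) := inferInstance
  set U' := (U : Subgroup A).map A.subtype with hU'
  have hU'A : U' ≤ A := Subgroup.map_subtype_le _
  have hcU : Nat.card U' = p ^ (Nat.card A).factorization p :=
    (Nat.card_congr ((U : Subgroup A).equivMapOfInjective _ A.subtype_injective).toEquiv).symm.trans
      U.card_eq_multiplicity
  obtain ⟨b, hb, hbS⟩ := sylIn_absorb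
    (K := U'.map (hf₀.transport him₀).toMonoidHom) hRa.2
    ((U.2.map A.subtype).map _)
    (hf₀.map_transport him₀ ▸ Subgroup.map_mono (hU'A.trans inf_le_left))
  have hf : Mor F R (afun b ∘ f₀) := hf₀.comp ((mem_autGroup hRa.1).mp hb)
    fun x hx => him₀ ▸ apply_mem_im hx
  have him : im R (afun b ∘ f₀) = R' := by rw [← hf₀.im_comp, him₀, im_afun]
  have key : U'.map (hf.transport him).toMonoidHom ≤
      autInducedBy S R' ⊓ L.map (hf.transport him).toMonoidHom := by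
    rintro _ ⟨u, hu, rfl⟩
    refine ⟨?_, ⟨u, (hU'A hu).2, rfl⟩⟩
    have e : hf.transport him u = b * hf₀.transport him₀ u * b⁻¹ := by
      refine afun_ext fun y hy => ?_
      obtain ⟨x, hx, rfl⟩ := hf.mem_im.mp (him.symm ▸ hy)
      have hfx : f₀ x ∈ R' := him₀ ▸ apply_mem_im hx
      rw [hf.afun_transport him u hx]
      show afun b (f₀ (afun u x)) = afun (b * hf₀.transport him₀ u * b⁻¹) (afun b (f₀ x))
      rw [afun_mul _ _ (afun_mem b hfx), afun_inv_apply b hfx, afun_mul _ _ hfx,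
        hf₀.afun_transport him₀ u hx]
    show hf.transport him u ∈ _
    rw [e]
    exact hbS _ ⟨u, hu, rfl⟩
  haveI : Finite ↥(autInducedBy S (R') ⊓ L.map (hf.transport him).toMonoidHom) :=
    inferInstance
  have h1 : Nat.card U' ≤ Nat.card ↥(autInducedBy S (R') ⊓
      L.map (hf.transport him).toMonoidHom) :=
    le_of_eq_of_le
      (Nat.card_congr (U'.equivMapOfInjective _ (hf.transport him).injective).toEquiv)
      (Subgroup.card_le_of_le key)
  have h2 := fullyK_card_le h hf him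
  rw [card_nK hRa.1, card_nK h.1] at h2
  have h3 : Nat.card ↥(autInducedBy S R ⊓ L) ≤ p ^ (Nat.card A).factorization p :=
    sylIn_le_pow ((isPGroup_autInducedBy hS R).to_le inf_le_left)
      (inf_le_inf_right L (autInducedBy_le h.1))
  have h4 : Nat.card (centralizerIn S R) ≤ Nat.card (centralizerIn S (R')) :=
    hC'.2 R (isConj_symm hR')
  haveI := finite_centralizerIn (S := S) R
  haveI := finite_centralizerIn (S := S) (R')
  have h5 : Nat.card U' * Nat.card (centralizerIn S (R')) ≤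
      Nat.card ↥(autInducedBy S R ⊓ L) * Nat.card (centralizerIn S R) :=
    (Nat.mul_le_mul_right _ h1).trans h2
  rw [← hcU] at h3
  have hc : Nat.card (centralizerIn S (R')) ≤ Nat.card (centralizerIn S R) :=
    Nat.le_of_mul_le_mul_left (h5.trans (Nat.mul_le_mul_right _ h3)) Nat.card_pos
  have hu : Nat.card U' ≤ Nat.card ↥(autInducedBy S R ⊓ L) :=
    Nat.le_of_mul_le_mul_right ((Nat.mul_le_mul_left _ h4).trans h5) Nat.card_pos
  refine ⟨⟨h.1, fun Q hQ => (hC'.2 Q (isConj_trans (isConj_symm hR') hQ)).trans hc⟩,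
    (sylIn_iff_card (inf_le_inf_right L (autInducedBy_le h.1))).mpr ?_⟩
  rw [← hcU]
  exact le_antisymm h3 hu

theorem receptive_of_fullyK (hS : IsPGroup p S) (hF : F.IsSaturated p) {R : Subgroup Ω}
    {L : Subgroup (MulAut R)} (h : FullyK F R L) : F.IsReceptive R :=
  receptive_of_fullyCentralized hS hF (fullyK_spec hS hF h).1

/-- A map onto a fully `K`-normalized subgroup extends, after twisting by an element of `K`. -/
theorem exists_extension_K (hS : IsPGroup p S) (hF : F.IsSaturated p) {Q Q' N : Subgroup Ω}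
    {K : Subgroup (MulAut Q)} (h : FullyK F Q K) {f : Ω → Ω} (hf : Mor F Q' f)
    (him : im Q' f = Q) (hNS : N ≤ S) (hNn : N ≤ Subgroup.normalizer (Q' : Set Ω))
    (hN : ∀ g ∈ N, ∃ κ ∈ K, ∀ x ∈ Q', f (cj g x) = afun κ (f x)) :
    ∃ β ∈ F.autGroup Q, β ∈ K ∧ ∃ f', Mor F (Q' ⊔ N) f' ∧
      ∀ x ∈ Q', f' x = afun β (f x) := by
  obtain ⟨-, hsyl⟩ := fullyK_spec hS hF h
  haveI := finite_autGroup (F := F) Q
  haveI := finite_of_le h.1
  let ψ : N →* MulAut Q :=
    (hf.transport him).toMonoidHom.comp ((nHom S Q').comp (Subgroup.inclusion (le_inf hNS hNn)))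
  have hψ : ∀ (g : N) (x : Ω), x ∈ Q' → afun (ψ g) (f x) = f (cj g x) := by
    intro g x hx
    show afun (hf.transport him (nHom S Q' _)) (f x) = _
    rw [hf.afun_transport him _ hx, afun_nHom _ hx]
    rfl
  have hψA : ψ.range ≤ F.autGroup Q ⊓ K := by
    rintro _ ⟨g, rfl⟩
    refine ⟨hf.transport_mem him (autInducedBy_le hf.le ?_), ?_⟩
    · rw [autInducedBy_eq_range]; exact ⟨_, rfl⟩
    · obtain ⟨κ, hκ, he⟩ := hN g g.2
      have : ψ g = κ := afun_ext fun y hy => by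
        obtain ⟨x, hx, rfl⟩ := hf.mem_im.mp (him.symm ▸ hy)
        rw [hψ g x hx, he x hx]
      rwa [this]
  obtain ⟨β, hβ, hβS⟩ := sylIn_absorb hsyl
    ((hS.to_le hNS).of_surjective ψ.rangeRestrict ψ.rangeRestrict_surjective) hψA
  refine ⟨β, hβ.1, hβ.2, ?_⟩
  have hf₁ : Mor F Q' (afun β ∘ f) := hf.comp ((mem_autGroup h.1).mp hβ.1)
    fun x hx => him ▸ apply_mem_im hx
  obtain ⟨f', hf', hag⟩ := (receptive_iff.mp (receptive_of_fullyK hS hF h)).2 Q' _ N hf₁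
    (by rw [← hf.im_comp, him, im_afun]) hNS hNn fun g hg => by
      obtain ⟨k, hk, -, he⟩ := mem_autInducedBy.mp (hβS _ ⟨⟨g, hg⟩, rfl⟩).1
      refine ⟨k, hk, fun x hx => ?_⟩
      have hfx : f x ∈ Q := him ▸ apply_mem_im hx
      show afun β (f (cj g x)) = cj k (afun β (f x))
      rw [← he _ (afun_mem β hfx), afun_mul _ _ (afun_mem β hfx), afun_inv_apply β hfx,
        afun_mul _ _ hfx, hψ _ x hx]
  exact ⟨f', hf', hag⟩

/-! ### The system `N_F^K(Q)` -/

section System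

variable {T Q : Subgroup Ω} {E : FusionSystem T} {K : Subgroup (MulAut Q)}

/-- The automorphisms of `P ⊔ Q` preserving `P` and inducing a member of `K` on `Q`. -/
def lGroup (P : Subgroup Ω) (K : Subgroup (MulAut Q)) : Subgroup (MulAut ↥(P ⊔ Q)) where
  carrier := {α | (∀ x ∈ P, afun α x ∈ P) ∧ (∀ x ∈ P, afun α⁻¹ x ∈ P) ∧
    ∃ κ ∈ K, ∀ x ∈ Q, afun α x = afun κ x}
  one_mem' := ⟨fun x hx => by rwa [afun_one (Subgroup.mem_sup_left hx)],
    fun x hx => by rwa [inv_one, afun_one (Subgroup.mem_sup_left hx)],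
    1, K.one_mem, fun x hx => by rw [afun_one (Subgroup.mem_sup_right hx), afun_one hx]⟩
  mul_mem' {a b} := fun ⟨ha, ha', κ, hκ, he⟩ ⟨hb, hb', κ', hκ', he'⟩ =>
    ⟨fun x hx => by rw [afun_mul _ _ (Subgroup.mem_sup_left hx)]; exact ha _ (hb x hx),
      fun x hx => by
        rw [mul_inv_rev, afun_mul _ _ (Subgroup.mem_sup_left hx)]; exact hb' _ (ha' x hx),
      κ * κ', K.mul_mem hκ hκ', fun x hx => by
        rw [afun_mul _ _ (Subgroup.mem_sup_right hx), afun_mul _ _ hx, he' x hx,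
          he _ (afun_mem κ' hx)]⟩
  inv_mem' {a} := fun ⟨ha, ha', κ, hκ, he⟩ =>
    ⟨ha', by rw [inv_inv]; exact ha, κ⁻¹, K.inv_mem hκ, fun x hx => by
      have h1 := he _ (afun_mem κ⁻¹ hx)
      rw [afun_apply_inv κ hx] at h1
      conv_lhs => rw [← h1]
      exact afun_inv_apply a (Subgroup.mem_sup_right (afun_mem κ⁻¹ hx))⟩

variable (hT : ∀ g, g ∈ T ↔ g ∈ S ∧ ∃ κ ∈ K, ∀ x ∈ Q, cj g x = afun κ x)
  (hE : ∀ (P : Subgroup Ω) (f : Ω → Ω), Mor E P f ↔ Mor F P f ∧ P ≤ T ∧ (∀ x ∈ P, f x ∈ T) ∧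
    ∃ f', Mor F (P ⊔ Q) f' ∧ (∀ x ∈ P, f' x = f x) ∧ ∃ κ ∈ K, ∀ x ∈ Q, f' x = afun κ x)
  (hQ : FullyK F Q K)

include hT in
omit [Finite S] [Fact p.Prime] in
theorem T_le : T ≤ S := fun g hg => ((hT g).mp hg).1

include hT in
omit [Fact p.Prime] in
theorem finite_T : Finite T := finite_of_le (T_le hT)

include hT in
omit [Fact p.Prime] in
theorem T_normalizes (hQS : Q ≤ S) {g : Ω} (hg : g ∈ T) :
    g ∈ Subgroup.normalizer (Q : Set Ω) := by
  obtain ⟨-, κ, -, he⟩ := (hT g).mp hg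
  exact mem_normalizer_of_cj_le hQS fun x hx => (he x hx).symm ▸ afun_mem κ hx

include hT in
omit [Fact p.Prime] in
theorem mem_nK_lGroup {P : Subgroup Ω} (hP : P ≤ T) (hQS : Q ≤ S) {g : Ω} :
    g ∈ nK S (P ⊔ Q) (lGroup P K) ↔ g ∈ T ∧ g ∈ Subgroup.normalizer (P : Set Ω) := by
  have hPQ : P ⊔ Q ≤ S := sup_le (hP.trans (T_le hT)) hQS
  constructor
  · rintro ⟨hgS, l, ⟨hl, -, κ, hκ, hκe⟩, he⟩
    refine ⟨(hT g).mpr ⟨hgS, κ, hκ, fun x hx => ?_⟩,
      mem_normalizer_of_cj_le (hP.trans (T_le hT)) fun x hx => ?_⟩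
    · rw [← he x (Subgroup.mem_sup_right hx), hκe x hx]
    · rw [← he x (Subgroup.mem_sup_left hx)]; exact hl x hx
  · rintro ⟨hgT, hgn⟩
    obtain ⟨hgS, κ, hκ, hκe⟩ := (hT g).mp hgT
    have hm := mor_cj (F := innerFusionSystem S) hPQ hgS
    have him : im (P ⊔ Q) (cj g) = P ⊔ Q := by
      rw [im_sup hm, mem_normalizer_iff_im_cj.mp hgn,
        mem_normalizer_iff_im_cj.mp (T_normalizes hT hQS hgT)]
    obtain ⟨l, hl, he⟩ := hm.exists_aut him
    refine ⟨hgS, l, ⟨fun x hx => ?_, fun x hx => ?_, κ, hκ, fun x hx => ?_⟩, he⟩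
    · rw [he x (Subgroup.mem_sup_left hx)]; exact cj_mem_of_normalizer hgn hx
    · have hx' := cj_mem_of_normalizer (inv_mem hgn) hx
      have h2 := he _ (Subgroup.mem_sup_left hx')
      rw [cj_cj_inv] at h2
      conv => arg 2; rw [← h2]
      rwa [afun_inv_apply l (Subgroup.mem_sup_left hx')]
    · rw [he x (Subgroup.mem_sup_right hx), hκe x hx]

include hT hE hQ in
theorem fullyK_lGroup (hS : IsPGroup p S) (hF : F.IsSaturated p) {P : Subgroup Ω} (hP : P ≤ T)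
    (hn : E.IsFullyNormalized P) : FullyK F (P ⊔ Q) (lGroup P K) := by
  have hQS := hQ.1
  have hPQ : P ⊔ Q ≤ S := sup_le (hP.trans (T_le hT)) hQS
  refine ⟨hPQ, fun φ hφ => ?_⟩
  have hφQ := hφ.restrict_to (le_sup_right : Q ≤ P ⊔ Q)
  obtain ⟨f₀, hf₀, hf₀φ, -, -⟩ := hφQ.exists_inv
  have him₀ : im (im Q φ) f₀ = Q := by
    rw [hφQ.im_comp]; exact (im_congr hf₀φ).trans (im_id Q)
  set Q' := im Q φ with hQ'
  have hQ'S : Q' ≤ S := hφQ.im_le
  let N : Subgroup Ω := nK S Q' (K.map (hφQ.transport rfl).toMonoidHom)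
  obtain ⟨β, -, hβK, θ, hθ, hθQ⟩ := exists_extension_K hS hF hQ (N := N) hf₀ him₀ nK_le
    (nK_normalizes hQ'S) fun g hg => by
      obtain ⟨-, κ, hκ, he⟩ := (mem_nK_transport hφQ rfl).mp hg
      refine ⟨κ, hκ, fun y hy => ?_⟩
      obtain ⟨x, hx, rfl⟩ := hφQ.mem_im.mp hy
      rw [he x hx, hf₀φ _ (afun_mem κ hx), hf₀φ x hx]
  have hθφ : ∀ x ∈ Q, θ (φ x) = afun β x := fun x hx => by
    rw [hθQ _ (apply_mem_im hx), hf₀φ x hx]
  have hθim : im Q' θ = Q := by
    rw [hφQ.im_comp]; exact (im_congr hθφ).trans (im_afun β)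
  have hφP : ∀ x ∈ P, φ x ∈ N := by
    intro x hx
    obtain ⟨-, κ, hκ, he⟩ := (hT x).mp (hP hx)
    refine (mem_nK_transport hφQ rfl).mpr
      ⟨hφ.apply_mem (Subgroup.mem_sup_left hx), κ, hκ, fun y hy => ?_⟩
    rw [← hφ.map_cj (Subgroup.mem_sup_left hx) (Subgroup.mem_sup_right hy), he y hy]
  have hθT : ∀ g ∈ N, θ g ∈ T := by
    intro g hg
    obtain ⟨-, κ, hκ, he⟩ := (mem_nK_transport hφQ rfl).mp hg
    refine (hT _).mpr ⟨hθ.apply_mem (Subgroup.mem_sup_right hg), β * κ * β⁻¹,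
      K.mul_mem (K.mul_mem hβK hκ) (K.inv_mem hβK), fun y hy => ?_⟩
    have hx := afun_mem β⁻¹ hy
    rw [afun_mul _ _ hy, afun_mul _ _ hx]
    conv_lhs => rw [← afun_apply_inv β hy, ← hθφ _ hx, ← hθ.map_cj (Subgroup.mem_sup_right hg)
      (Subgroup.mem_sup_left (apply_mem_im hx)), he _ hx, hθφ _ (afun_mem κ hx)]
  have hsub : ∀ x ∈ P ⊔ Q, φ x ∈ Q' ⊔ N := fun x hx => mor_sup_induction hφ
    (fun a ha => Subgroup.mem_sup_right (hφP a ha))
    (fun b hb => Subgroup.mem_sup_left (apply_mem_im hb)) hx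
  have hu : Mor F (P ⊔ Q) (θ ∘ φ) := hφ.comp hθ hsub
  have huP : ∀ x ∈ P, (θ ∘ φ) x ∈ T := fun x hx => hθT _ (hφP x hx)
  have huE : Mor E P (θ ∘ φ) := (hE P _).mpr ⟨hu.restrict_to le_sup_left, hP, huP, θ ∘ φ, hu,
    fun _ _ => rfl, β, hβK, hθφ⟩
  have hmax := hn.2 _ (FusionSysBasic.isConj_iff.mpr ⟨_, huE, rfl⟩)
  set N' := nK S (im (P ⊔ Q) φ) ((lGroup P K).map (hφ.transport rfl).toMonoidHom)
  have hN'N : N' ≤ N := by
    intro g hg
    obtain ⟨hgS, l, ⟨-, -, κ, hκ, hκe⟩, he⟩ := (mem_nK_transport hφ rfl).mp hg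
    exact (mem_nK_transport hφQ rfl).mpr ⟨hgS, κ, hκ, fun x hx => by
      rw [he x (Subgroup.mem_sup_right hx), hκe x hx]⟩
  have hP'S : im P (θ ∘ φ) ≤ S := (im_le_iff.mpr huP).trans (T_le hT)
  have hval : ∀ g ∈ N', θ g ∈ normalizerIn T (im P (θ ∘ φ)) := by
    intro g hg
    refine ⟨hθT g (hN'N hg), mem_normalizer_of_cj_le hP'S fun y hy => ?_⟩
    obtain ⟨x, hx, rfl⟩ := huE.mem_im.mp hy
    obtain ⟨-, l, ⟨hl, -, -⟩, he⟩ := (mem_nK_transport hφ rfl).mp hg
    show cj (θ g) (θ (φ x)) ∈ _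
    rw [← hθ.map_cj (Subgroup.mem_sup_right (hN'N hg))
      (Subgroup.mem_sup_right (hφP x hx)), he x (Subgroup.mem_sup_left hx)]
    exact apply_mem_im (f := θ ∘ φ) (hl x hx)
  refine (card_le_of_mor (hθ.restrict_to (hN'N.trans le_sup_right))
    (inf_le_left.trans (T_le hT)) hval).trans (hmax.trans (le_of_eq ?_))
  congr 2
  ext g
  exact (mem_nK_lGroup hT hP hQS).symm

/-- Restriction of a member of `L` to `P`. -/
noncomputable def resP {P : Subgroup Ω} (α : lGroup P K) : MulAut P where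
  toFun x := ⟨afun (α : MulAut ↥(P ⊔ Q)) x, α.2.1 x x.2⟩
  invFun x := ⟨afun (α : MulAut ↥(P ⊔ Q))⁻¹ x, α.2.2.1 x x.2⟩
  left_inv x := Subtype.ext (afun_inv_apply _ (Subgroup.mem_sup_left x.2))
  right_inv x := Subtype.ext (afun_apply_inv _ (Subgroup.mem_sup_left x.2))
  map_mul' x y := Subtype.ext
    (afun_map_mul _ (Subgroup.mem_sup_left x.2) (Subgroup.mem_sup_left y.2))

theorem afun_resP {P : Subgroup Ω} (α : lGroup P K) {x : Ω} (hx : x ∈ P) :
    afun (resP α) x = afun (α : MulAut ↥(P ⊔ Q)) x := by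
  rw [afun_apply _ hx]; rfl

/-- Restriction to `P`, as a homomorphism. -/
noncomputable def resHom (P : Subgroup Ω) (K : Subgroup (MulAut Q)) :
    lGroup P K →* MulAut P where
  toFun := resP
  map_one' := afun_ext fun x hx => by
    rw [afun_resP _ hx, afun_one hx]; exact afun_one (Subgroup.mem_sup_left hx)
  map_mul' α β := afun_ext fun x hx => by
    rw [afun_resP _ hx, afun_mul _ _ hx, afun_resP β hx, afun_resP α (β.2.1 x hx)]
    exact afun_mul _ _ (Subgroup.mem_sup_left hx)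

include hT hE hQ in
theorem fullyAutomized_system (hS : IsPGroup p S) (hF : F.IsSaturated p) {P : Subgroup Ω}
    (hP : P ≤ T) (hn : E.IsFullyNormalized P) : E.IsFullyAutomized p P := by
  refine ⟨hP, ?_⟩
  have hQS := hQ.1
  have hspec := fullyK_spec hS hF (fullyK_lGroup hT hE hQ hS hF hP hn)
  haveI := finite_autGroup (F := F) (P ⊔ Q)
  haveI := finite_of_le (S := S) (sup_le (hP.trans (T_le hT)) hQS)
  haveI := finite_of_le (S := S) (hP.trans (T_le hT))
  set A := F.autGroup (P ⊔ Q) ⊓ lGroup P K with hA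
  obtain ⟨-, T₀, hT₀⟩ := hspec
  let ψ : A →* MulAut P := (resHom P K).comp (Subgroup.inclusion inf_le_right)
  have hψx : ∀ (a : A) (x : Ω), x ∈ P → afun (ψ a) x = afun (a : MulAut ↥(P ⊔ Q)) x :=
    fun a x hx => afun_resP _ hx
  have hψE : ∀ a : A, ψ a ∈ E.autGroup P := by
    intro a
    refine (mem_autGroup hP).mpr ((hE P _).mpr ⟨?_, hP, fun x hx => hP (afun_mem _ hx),
      afun (a : MulAut ↥(P ⊔ Q)), ?_, fun x hx => (hψx a x hx).symm, a.2.2.2.2⟩)
    · exact (((mem_autGroup (sup_le (hP.trans (T_le hT)) hQS)).mp a.2.1).restrict_to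
        le_sup_left).congr fun x hx => (hψx a x hx).symm
    · exact (mem_autGroup (sup_le (hP.trans (T_le hT)) hQS)).mp a.2.1
  let ψ' : A →* E.autGroup P := ψ.codRestrict _ hψE
  have hsurj : Function.Surjective ψ' := by
    rintro ⟨α, hα⟩
    obtain ⟨-, -, -, f', hf', hag, κ, hκ, hκe⟩ := (hE P _).mp ((mem_autGroup hP).mp hα)
    have him : im (P ⊔ Q) f' = P ⊔ Q := by
      rw [im_sup hf', im_congr hag, im_afun, im_congr hκe, im_afun]
    obtain ⟨a, ha, hae⟩ := hf'.exists_aut him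
    have haL : a ∈ lGroup P K := by
      refine ⟨fun x hx => ?_, fun x hx => ?_, κ, hκ, fun x hx => ?_⟩
      · rw [hae x (Subgroup.mem_sup_left hx), hag x hx]; exact afun_mem α hx
      · have hx' := afun_mem α⁻¹ hx
        have h1 := (hae _ (Subgroup.mem_sup_left hx')).trans (hag _ hx')
        rw [afun_apply_inv α hx] at h1
        conv => arg 2; rw [← h1]
        rwa [afun_inv_apply a (Subgroup.mem_sup_left hx')]
      · rw [hae x (Subgroup.mem_sup_right hx), hκe x hx]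
    refine ⟨⟨a, ha, haL⟩, Subtype.ext (afun_ext fun x hx => ?_)⟩
    exact ((hψx _ x hx).trans (hae x (Subgroup.mem_sup_left hx))).trans (hag x hx)
  refine ⟨T₀.mapSurjective hsurj, ?_⟩
  rw [Sylow.coe_mapSurjective, hT₀]
  ext ⟨α, hα⟩
  rw [Subgroup.mem_map, Subgroup.mem_subgroupOf, mem_autInducedBy]
  constructor
  · rintro ⟨a, ha, e⟩
    obtain ⟨g, hg, -, he⟩ := mem_autInducedBy.mp (Subgroup.mem_subgroupOf.mp ha).1
    have hgn : g ∈ nK S (P ⊔ Q) (lGroup P K) := ⟨hg, a, a.2.2, fun x hx => he x hx⟩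
    obtain ⟨hgT, hgP⟩ := (mem_nK_lGroup hT hP hQS).mp hgn
    refine ⟨g, hgT, hgP, fun x hx => ?_⟩
    have e' : ψ a = α := congrArg Subtype.val e
    show afun α x = _
    rw [← e', hψx a x hx, he x (Subgroup.mem_sup_left hx)]
  · rintro ⟨g, hgT, hgP, he⟩
    obtain ⟨hgS, l, hl, hle⟩ := (mem_nK_lGroup hT hP hQS).mpr ⟨hgT, hgP⟩
    have hlA : l ∈ F.autGroup (P ⊔ Q) :=
      mem_autGroup_of_mor ((mor_cj (sup_le (hP.trans (T_le hT)) hQS) hgS).congr
        fun x hx => (hle x hx).symm)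
    refine ⟨⟨l, hlA, hl⟩, Subgroup.mem_subgroupOf.mpr ⟨mem_autInducedBy.mpr
      ⟨g, hgS, ?_, hle⟩, hl⟩, Subtype.ext (afun_ext fun x hx => ?_)⟩
    · exact mem_normalizer_of_cj_le (sup_le (hP.trans (T_le hT)) hQS)
        fun x hx => hle x hx ▸ afun_mem l hx
    · exact ((hψx _ x hx).trans (hle x (Subgroup.mem_sup_left hx))).trans (he x hx).symm

include hT hE hQ in
theorem receptive_system (hS : IsPGroup p S) (hF : F.IsSaturated p) {P : Subgroup Ω}
    (hn : E.IsFullyNormalized P) : E.IsReceptive P := by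
  have hP := hn.1
  have hQS := hQ.1
  have hPS := hP.trans (T_le hT)
  have hPQ : P ⊔ Q ≤ S := sup_le hPS hQS
  have hfull := fullyK_lGroup hT hE hQ hS hF hP hn
  obtain ⟨-, hsyl⟩ := fullyK_spec hS hF hfull
  refine receptive_iff.mpr ⟨hP, fun P' φ N hφ him hNT hNn hN => ?_⟩
  obtain ⟨-, hP'T, -, ψ, hψ, hψP, κ₀, hκ₀, hψQ⟩ := (hE P' φ).mp hφ
  haveI := finite_autGroup (F := F) (P ⊔ Q)
  haveI := finite_of_le (S := S) hPQ
  have him' : im (P' ⊔ Q) ψ = P ⊔ Q := by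
    rw [im_sup hψ, im_congr hψP, him, im_congr hψQ, im_afun]
  have hNS := hNT.trans (T_le hT)
  have hR'S : P' ⊔ Q ≤ S := sup_le (hP'T.trans (T_le hT)) hQS
  have hNR' : N ≤ Subgroup.normalizer ((P' ⊔ Q : Subgroup Ω) : Set Ω) := by
    intro g hg
    rw [mem_normalizer_iff_im_cj, im_sup (mor_cj (F := F) hR'S (hNS hg)),
      mem_normalizer_iff_im_cj.mp (hNn hg),
      mem_normalizer_iff_im_cj.mp (T_normalizes hT hQS (hNT hg))]
  set A := F.autGroup (P ⊔ Q) ⊓ lGroup P K with hA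
  have hAS : autInducedBy S (P ⊔ Q) ⊓ lGroup P K ≤ A :=
    inf_le_inf_right _ (autInducedBy_le hPQ)
  -- the automorphisms in `A` inducing conjugation by `N_T(P)` on `P`
  let M : Subgroup (MulAut ↥(P ⊔ Q)) :=
    { carrier := {α | α ∈ A ∧ ∃ t ∈ T, t ∈ Subgroup.normalizer (P : Set Ω) ∧
        ∀ x ∈ P, afun α x = cj t x}
      one_mem' := ⟨one_mem A, 1, one_mem T, one_mem _, fun x hx => by
        rw [afun_one (Subgroup.mem_sup_left hx), cj_one]⟩
      mul_mem' := fun {a b} ⟨ha, t, ht, htn, he⟩ ⟨hb, t', ht', htn', he'⟩ =>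
        ⟨mul_mem ha hb, t * t', mul_mem ht ht', mul_mem htn htn', fun x hx => by
          rw [afun_mul _ _ (Subgroup.mem_sup_left hx), he' x hx,
            he _ (cj_mem_of_normalizer htn' hx), cj_cj]⟩
      inv_mem' := fun {a} ⟨ha, t, ht, htn, he⟩ =>
        ⟨inv_mem ha, t⁻¹, inv_mem ht, inv_mem htn, fun x hx => by
          have hx' := cj_mem_of_normalizer (inv_mem htn) hx
          have h1 := he _ hx'
          rw [cj_cj_inv] at h1
          conv_lhs => rw [← h1]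
          exact afun_inv_apply a (Subgroup.mem_sup_left hx')⟩ }
  have hSM : autInducedBy S (P ⊔ Q) ⊓ lGroup P K ≤ M := by
    intro l hl
    obtain ⟨g, hg, -, he⟩ := mem_autInducedBy.mp hl.1
    obtain ⟨hgT, hgP⟩ := (mem_nK_lGroup hT hP hQS).mp ⟨hg, l, hl.2, he⟩
    exact ⟨hAS hl, g, hgT, hgP, fun x hx => he x (Subgroup.mem_sup_left hx)⟩
  have hMA : M ≤ A := fun _ h => h.1
  haveI : Finite M := inferInstance
  have hsylM : SylIn p (autInducedBy S (P ⊔ Q) ⊓ lGroup P K) M := by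
    refine (sylIn_iff_card hSM).mpr (le_antisymm
      (sylIn_le_pow ((isPGroup_autInducedBy hS _).to_le inf_le_left) hSM) ?_)
    rw [(sylIn_iff_card hAS).mp hsyl]
    refine Nat.pow_le_pow_right (Fact.out (p := p.Prime)).pos ?_
    exact (Nat.factorization_le_iff_dvd Nat.card_pos.ne' Nat.card_pos.ne').mpr
      (Subgroup.card_dvd_of_le hMA) p
  let χ : N →* MulAut ↥(P ⊔ Q) :=
    (hψ.transport him').toMonoidHom.comp
      ((nHom S (P' ⊔ Q)).comp (Subgroup.inclusion (le_inf hNS hNR')))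
  have hχ : ∀ (g : N) (x : Ω), x ∈ P' ⊔ Q → afun (χ g) (ψ x) = ψ (cj g x) := by
    intro g x hx
    show afun (hψ.transport him' (nHom S (P' ⊔ Q) _)) (ψ x) = _
    rw [hψ.afun_transport him' _ hx, afun_nHom _ hx]
    rfl
  have hχM : χ.range ≤ M := by
    rintro _ ⟨g, rfl⟩
    have hP1 : ∀ h : N, ∀ y ∈ P, afun (χ h) y ∈ P := by
      intro h y hy
      obtain ⟨x, hx, rfl⟩ := hφ.mem_im.mp (him.symm ▸ hy)
      have hx' := cj_mem_of_normalizer (hNn h.2) hx
      rw [← hψP x hx, hχ h x (Subgroup.mem_sup_left hx), hψP _ hx', ← him]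
      exact apply_mem_im hx'
    obtain ⟨-, κ, hκ, hκe⟩ := (hT g).mp (hNT g.2)
    refine ⟨⟨hψ.transport_mem him' (autInducedBy_le hR'S ?_), hP1 g, fun y hy => ?_,
      κ₀ * κ * κ₀⁻¹, K.mul_mem (K.mul_mem hκ₀ hκ) (K.inv_mem hκ₀), fun y hy => ?_⟩, ?_⟩
    · rw [autInducedBy_eq_range]; exact ⟨_, rfl⟩
    · rw [← map_inv]; exact hP1 g⁻¹ y hy
    · have hx := afun_mem κ₀⁻¹ hy
      rw [afun_mul _ _ hy, afun_mul _ _ hx]
      conv_lhs => rw [← afun_apply_inv κ₀ hy, ← hψQ _ hx, hχ g _ (Subgroup.mem_sup_right hx),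
        hκe _ hx, hψQ _ (afun_mem κ hx)]
    · obtain ⟨t, ht, he⟩ := hN g g.2
      have key : ∀ y ∈ P, afun (χ g) y = cj t y := by
        intro y hy
        obtain ⟨x, hx, rfl⟩ := hφ.mem_im.mp (him.symm ▸ hy)
        conv_lhs => rw [← hψP x hx, hχ g x (Subgroup.mem_sup_left hx),
          hψP _ (cj_mem_of_normalizer (hNn g.2) hx), he x hx]
      exact ⟨t, ht, mem_normalizer_of_cj_le hPS fun y hy => key y hy ▸ hP1 g y hy, key⟩
  obtain ⟨b, hb, hbS⟩ := sylIn_absorb hsylM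
    ((hS.to_le hNS).of_surjective χ.rangeRestrict χ.rangeRestrict_surjective) hχM
  -- write `b = s * m` with `m` trivial on `P`
  obtain ⟨hbA, t, ht, htn, hte⟩ := hb
  obtain ⟨htS, s, hs, hse⟩ := (mem_nK_lGroup hT hP hQS).mpr ⟨ht, htn⟩
  have hsR : s ∈ autInducedBy S (P ⊔ Q) ⊓ lGroup P K :=
    ⟨mem_autInducedBy.mpr ⟨t, htS,
      mem_normalizer_of_cj_le hPQ fun x hx => hse x hx ▸ afun_mem s hx, hse⟩, hs⟩
  set m := s⁻¹ * b with hm
  have hmA : m ∈ A := mul_mem (inv_mem (hAS hsR)) hbA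
  have hmP : ∀ x ∈ P, afun m x = x := by
    intro x hx
    rw [hm, afun_mul _ _ (Subgroup.mem_sup_left hx), hte x hx, ← hse x (Subgroup.mem_sup_left hx),
      afun_inv_apply s (Subgroup.mem_sup_left hx)]
  have hmS : ∀ k ∈ χ.range, m * k * m⁻¹ ∈ autInducedBy S (P ⊔ Q) ⊓ lGroup P K := by
    intro k hk
    have h1 := mul_mem (mul_mem (inv_mem hsR) (hbS k hk)) hsR
    have e : s⁻¹ * (b * k * b⁻¹) * s = m * k * m⁻¹ := by rw [hm]; group
    rwa [e] at h1
  have hψ₁ : Mor F (P' ⊔ Q) (afun m ∘ ψ) := hψ.comp ((mem_autGroup hPQ).mp hmA.1)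
    fun x hx => him' ▸ apply_mem_im hx
  obtain ⟨θ, hθ, hθR⟩ := (receptive_iff.mp (receptive_of_fullyK hS hF hfull)).2 (P' ⊔ Q) _ N hψ₁
    (by rw [← hψ.im_comp, him', im_afun]) hNS hNR' fun g hg => by
      obtain ⟨k, hk, -, he⟩ := mem_autInducedBy.mp (hmS _ ⟨⟨g, hg⟩, rfl⟩).1
      refine ⟨k, hk, fun x hx => ?_⟩
      have hfx : ψ x ∈ P ⊔ Q := him' ▸ apply_mem_im hx
      show afun m (ψ (cj g x)) = cj k (afun m (ψ x))
      rw [← he _ (afun_mem m hfx), afun_mul _ _ (afun_mem m hfx), afun_inv_apply m hfx,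
        afun_mul _ _ hfx, hχ _ x hx]
  obtain ⟨-, -, κ₁, hκ₁, hκ₁e⟩ := hmA.2
  have hθQ : ∀ x ∈ Q, θ x = afun (κ₁ * κ₀) x := fun x hx => by
    rw [hθR x (Subgroup.mem_sup_right hx), Function.comp_apply, hψQ x hx,
      hκ₁e _ (afun_mem κ₀ hx), afun_mul _ _ hx]
  have hθP : ∀ x ∈ P', θ x = φ x := fun x hx => by
    rw [hθR x (Subgroup.mem_sup_left hx), Function.comp_apply, hψP x hx,
      hmP _ (him ▸ apply_mem_im hx)]
  have hsub : P' ⊔ N ⊔ Q ≤ P' ⊔ Q ⊔ N :=
    sup_le (sup_le (le_sup_left.trans le_sup_left) le_sup_right) (le_sup_right.trans le_sup_left)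
  refine ⟨θ, (hE _ _).mpr ⟨hθ.restrict_to (le_trans le_sup_left hsub), sup_le hP'T hNT, ?_, θ,
    hθ.restrict_to hsub, fun _ _ => rfl, κ₁ * κ₀, K.mul_mem hκ₁ hκ₀, hθQ⟩, hθP⟩
  refine fun x hx => mor_sup_induction (hθ.restrict_to (le_trans le_sup_left hsub))
    (fun a ha => hθP a ha ▸ hP (him ▸ apply_mem_im ha)) (fun g hg => ?_) hx
  obtain ⟨-, κ, hκ, hκe⟩ := (hT g).mp (hNT hg)
  refine (hT _).mpr ⟨hθ.apply_mem (Subgroup.mem_sup_right hg),
    (κ₁ * κ₀) * κ * (κ₁ * κ₀)⁻¹,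
    K.mul_mem (K.mul_mem (K.mul_mem hκ₁ hκ₀) hκ) (K.inv_mem (K.mul_mem hκ₁ hκ₀)), fun y hy => ?_⟩
  have hx' := afun_mem (κ₁ * κ₀)⁻¹ hy
  rw [afun_mul _ _ hy, afun_mul _ _ hx']
  conv_lhs => rw [← afun_apply_inv (κ₁ * κ₀) hy, ← hθQ _ hx',
    ← hθ.map_cj (Subgroup.mem_sup_right hg)
      (Subgroup.mem_sup_left (Subgroup.mem_sup_right hx')), hκe _ hx', hθQ _ (afun_mem κ hx')]

include hT hE hQ in
theorem saturated_system (hS : IsPGroup p S) (hF : F.IsSaturated p) : E.IsSaturated p := by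
  haveI := finite_T hT
  intro P hP
  obtain ⟨R, hR, hRn⟩ := exists_fullyNormalized (F := E) hP
  exact ⟨R, hR, fullyAutomized_system hT hE hQ hS hF hRn.1 hRn,
    receptive_system hT hE hQ hS hF hRn⟩

end System

/-! ### Normalizer and centralizer systems -/

theorem fullyK_top {Q : Subgroup Ω} (h : F.IsFullyNormalized Q) :
    FullyK F Q (⊤ : Subgroup (MulAut Q)) := by
  refine ⟨h.1, fun f hf => ?_⟩
  haveI := finite_of_le h.1
  have e : nK S Q (⊤ : Subgroup (MulAut Q)) = normalizerIn S Q := by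
    ext g
    refine ⟨fun hg => ⟨hg.1, nK_normalizes h.1 hg⟩, fun hg => ⟨hg.1, ?_⟩⟩
    exact ⟨nHom S Q ⟨g, hg⟩, Subgroup.mem_top _, fun x hx => afun_nHom _ hx⟩
  haveI := finite_normalizerIn (S := S) (im Q f)
  rw [e]
  have hle : nK S (im Q f) ((⊤ : Subgroup (MulAut Q)).map (hf.transport rfl).toMonoidHom) ≤
      normalizerIn S (im Q f) := le_inf nK_le (nK_normalizes hf.im_le)
  exact (Subgroup.card_le_of_le hle).trans (h.2 _ (FusionSysBasic.isConj_iff.mpr ⟨f, hf, rfl⟩))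

theorem fullyK_bot {Q : Subgroup Ω} (h : F.IsFullyCentralized Q) :
    FullyK F Q (⊥ : Subgroup (MulAut Q)) := by
  refine ⟨h.1, fun f hf => ?_⟩
  haveI := finite_centralizerIn (S := S) (im Q f)
  have e : nK S Q (⊥ : Subgroup (MulAut Q)) = centralizerIn S Q := by
    ext g
    rw [mem_centralizerIn, mem_nK]
    refine and_congr_right fun _ => ⟨?_, fun he => ⟨1, one_mem _, fun x hx => ?_⟩⟩
    · rintro ⟨l, hl, he⟩ x hx
      rw [← he x hx, Subgroup.mem_bot.mp hl, afun_one hx]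
    · rw [afun_one hx, he x hx]
  rw [e]
  refine (Subgroup.card_le_of_le (fun g hg => ?_ :
    _ ≤ centralizerIn S (im Q f))).trans (h.2 _ (FusionSysBasic.isConj_iff.mpr ⟨f, hf, rfl⟩))
  rw [Subgroup.map_bot] at hg
  obtain ⟨hgS, l, hl, he⟩ := hg
  refine mem_centralizerIn.mpr ⟨hgS, fun x hx => ?_⟩
  rw [← he x hx, Subgroup.mem_bot.mp hl, afun_one hx]

theorem normalizerSystem_saturated (hS : IsPGroup p S) (hF : F.IsSaturated p) {Q : Subgroup Ω}
    (hQ : F.IsFullyNormalized Q) {E : FusionSystem (normalizerIn S Q)}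
    (hE : F.IsNormalizerSystem Q E) : E.IsSaturated p := by
  refine saturated_system (K := (⊤ : Subgroup (MulAut Q))) (fun g => ?_) (fun P f => ?_)
    (fullyK_top hQ) hS hF
  · refine and_congr_right fun hg => ⟨fun hn => ?_, fun ⟨κ, _, he⟩ => ?_⟩
    · exact ⟨nHom S Q ⟨g, hg, hn⟩, Subgroup.mem_top _, fun x hx => (afun_nHom (K := S) (P := Q) ⟨g, hg, hn⟩ hx).symm⟩
    · exact mem_normalizer_of_cj_le hQ.1 fun x hx => (he x hx).symm ▸ afun_mem κ hx
  · rw [mor_normalizerSystem_iff hE]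
    refine and_congr_right fun _ => and_congr_right fun _ => and_congr_right fun _ =>
      exists_congr fun f' => and_congr_right fun hf' => and_congr_right fun _ =>
        ⟨fun him => ?_, fun ⟨κ, _, he⟩ => (im_congr he).trans (im_afun κ)⟩
    obtain ⟨κ, -, he⟩ := (hf'.restrict_to le_sup_right).exists_aut him
    exact ⟨κ, Subgroup.mem_top _, fun x hx => (he x hx).symm⟩

theorem centralizerSystem_saturated (hS : IsPGroup p S) (hF : F.IsSaturated p) {Q : Subgroup Ω}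
    (hQ : F.IsFullyCentralized Q) {E : FusionSystem (centralizerIn S Q)}
    (hE : F.IsCentralizerSystem Q E) : E.IsSaturated p := by
  refine saturated_system (K := (⊥ : Subgroup (MulAut Q))) (fun g => ?_) (fun P f => ?_)
    (fullyK_bot hQ) hS hF
  · rw [mem_centralizerIn]
    refine and_congr_right fun _ => ⟨fun h => ⟨1, one_mem _, fun x hx => ?_⟩,
      fun ⟨κ, hκ, he⟩ x hx => ?_⟩
    · rw [afun_one hx, h x hx]
    · rw [he x hx, Subgroup.mem_bot.mp hκ, afun_one hx]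
  · rw [mor_centralizerSystem_iff hE]
    refine and_congr_right fun _ => and_congr_right fun _ => and_congr_right fun _ =>
      exists_congr fun f' => and_congr_right fun _ => and_congr_right fun _ =>
        ⟨fun h => ⟨1, one_mem _, fun x hx => ?_⟩, fun ⟨κ, hκ, he⟩ x hx => ?_⟩
    · rw [afun_one hx, h x hx]
    · rw [he x hx, Subgroup.mem_bot.mp hκ, afun_one hx]

end Cfsg.Agent.FusionSysNormalizer
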