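import Cfsg.Agent.Lib.FusionSysModel
import Cfsg.Agent.Lib.FusionSysNormalizer

/-!
Further properties of models: centralizers of normal centric subgroups, normalizer systems of centric
subgroups are constrained.
-/

set_option autoImplicit false

universe u v

namespace Cfsg.Agent.FusionModelTools

open Cfsg Cfsg.FusionSystem Cfsg.Agent.FusionSysBasic Cfsg.Agent.FusionSysSaturated
  Cfsg.Agent.FusionSysNormal

variable {Ω : Type u} [Group Ω] {S : Subgroup Ω} [Finite S] {F : FusionSystem S} {p : ℕ}
  [Fact p.Prime]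

/-- In a model the centralizer of a normal centric subgroup lies in that subgroup. -/
theorem model_centralizer_le (hS : IsPGroup p S) (hF : F.IsSaturated p) {G : Type v} [Group G]
    {ι : S →* G} (hM : F.IsModel p G ι) {R : Subgroup Ω} (hRn : F.IsNormal R)
    (hRc : F.IsCentric R) :
    Subgroup.centralizer (((R.subgroupOf S).map ι : Subgroup G) : Set G) ≤
      (R.subgroupOf S).map ι := by
  have h : FusionSysModel.Hyp p F R := ⟨hS, hF, hRn, hRc⟩
  haveI := FusionSysModel.k0_normal h
  obtain ⟨e, he⟩ := FusionSysModel.model_unique hS ⟨hF, R, hRn, hRc⟩ hM (FusionSysModel.isModel h)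
  intro x hx
  have h1 : e x ∈ (FusionSysModel.modelFst h).ker := by
    rw [MonoidHom.mem_ker]
    refine Subtype.ext (afun_ext fun w hw => ?_)
    have hw' : ι ⟨w, h.le hw⟩ ∈ (R.subgroupOf S).map ι := ⟨_, hw, rfl⟩
    have e2 := FusionSysModel.conj_iota_Q h (e x) (q := ⟨w, h.le hw⟩) hw
    rw [mul_assoc] at e2
    have e3 : e x * FusionSysModel.iota h ⟨w, h.le hw⟩ * (e x)⁻¹ =
        FusionSysModel.iota h ⟨w, h.le hw⟩ := by
      rw [mul_inv_eq_iff_eq_mul]
      have := congrArg e (Subgroup.mem_centralizer_iff.mp hx _ hw')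
      rw [map_mul, map_mul, he] at this
      exact this.symm
    rw [← mul_assoc, e3] at e2
    have e4 := congrArg Subtype.val (FusionSysModel.iota_injective h e2)
    rw [Subgroup.coe_one, afun_one hw]
    exact e4.symm
  rw [FusionSysModel.ker_modelFst] at h1
  obtain ⟨z, hz, hze⟩ := h1
  exact ⟨z, FusionSysModel.ker_mem h hz, e.injective (by rw [he]; exact hze)⟩

/-- `Q` is normal in its normalizer system. -/
theorem normal_normalizerSystem {Q : Subgroup Ω} (hQS : Q ≤ S)
    {E : FusionSystem (normalizerIn S Q)} (hE : F.IsNormalizerSystem Q E) : E.IsNormal Q := by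
  refine isNormal_iff.mpr ⟨le_normalizerIn hQS, fun P f hf => ?_⟩
  obtain ⟨-, hP, hfT, f', hf', hag, him⟩ := (mor_normalizerSystem_iff hE).mp hf
  have hQT : Q ≤ normalizerIn S Q := le_normalizerIn hQS
  refine ⟨f', (mor_normalizerSystem_iff hE).mpr ⟨hf', sup_le hP hQT, fun x hx => ?_, f', ?_,
    fun _ _ => rfl, him⟩, hag, him⟩
  · exact mor_sup_induction hf' (fun a ha => by rw [hag a ha]; exact hfT a ha)
      (fun b hb => hQT (him ▸ (hf'.restrict_to le_sup_right).mem_im.2 ⟨b, hb, rfl⟩)) hx
  · rwa [sup_eq_left.mpr le_sup_right]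

/-- A centric subgroup is centric in its normalizer system. -/
theorem centric_normalizerSystem {Q : Subgroup Ω} (hQ : F.IsCentric Q)
    {E : FusionSystem (normalizerIn S Q)} (hE : F.IsNormalizerSystem Q E) : E.IsCentric Q := by
  refine ⟨le_normalizerIn hQ.1, fun R hR => ?_⟩
  obtain ⟨f, hf, hfR⟩ := FusionSysBasic.isConj_iff.mp hR
  exact (inf_le_inf_right _ inf_le_left).trans
    (hQ.2 R (FusionSysBasic.isConj_iff.mpr ⟨f, ((mor_normalizerSystem_iff hE).mp hf).1, hfR⟩))

theorem constrained_normalizerSystem (hS : IsPGroup p S) (hF : F.IsSaturated p) {Q : Subgroup Ω}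
    (hQn : F.IsFullyNormalized Q) (hQ : F.IsCentric Q) {E : FusionSystem (normalizerIn S Q)}
    (hE : F.IsNormalizerSystem Q E) : E.IsConstrained p :=
  ⟨FusionSysNormalizer.normalizerSystem_saturated hS hF hQn hE, Q,
    normal_normalizerSystem hQn.1 hE, centric_normalizerSystem hQ hE⟩

end Cfsg.Agent.FusionModelTools
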