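import Mathlib
import Cfsg.Agent.Lib.GlaubermanZJ
import Cfsg.Agent.Lib.ThompsonReplacement
import Cfsg.Agent.Lib.OmegaCoprime
import Cfsg.Agent.Lib.HallCore

/-! `G = C_G(℧₁Z(S)) N_G(J(S))` for a finite group with `C(O_p(G)) ≤ O_p(G)` (any prime). -/

set_option autoImplicit false
set_option linter.style.haveILetI false

namespace Cfsg.Agent.ThompsonAgemoFactor

open Subgroup
open Cfsg.Agent.GlaubermanZJ
open scoped commutatorElement

universe u

theorem thomJ_eq_of_le {G : Type*} [Group G] [Finite G] {n : ℕ} {D D' : Subgroup G}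
    (h : thomJ n D ≤ D') (h' : D' ≤ D) : thomJ n D' = thomJ n D := by
  obtain ⟨A₀, hA₀⟩ := exists_maxFam n D
  have hA₀' : IsFam n D' A₀ := ⟨(le_thomJ hA₀).trans h, hA₀.1.comm, hA₀.1.pow⟩
  refine le_antisymm (sSup_le fun A hA => le_thomJ ?_) (sSup_le fun A hA => le_thomJ ?_)
  · exact ⟨⟨hA.1.le.trans h', hA.1.comm, hA.1.pow⟩, fun B hB => (hA₀.2 B hB).trans (hA.2 A₀ hA₀')⟩
  · exact ⟨⟨(le_thomJ hA).trans h, hA.1.comm, hA.1.pow⟩, fun B hB => hA.2 B ⟨hB.le.trans h', hB.comm, hB.pow⟩⟩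

/-- An automorphism of order prime to `p` fixing the elements of order `p` of an abelian `p`-group
fixes it pointwise. -/
theorem commute_of_fixed_omega {G : Type*} [Group G] [Finite G] {p : ℕ} [hp : Fact p.Prime]
    {W : Subgroup G} [hW : W.Normal] (hWp : IsPGroup p W) (hWc : ∀ x ∈ W, ∀ y ∈ W, x * y = y * x)
    {a : G} (ha : (orderOf a).Coprime p) (h : ∀ x ∈ W, x ^ p = 1 → a * x = x * a) :
    ∀ x ∈ W, a * x = x * a := by
  suffices hk : ∀ k : ℕ, ∀ x ∈ W, x ^ p ^ k = 1 → a * x = x * a by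
    intro x hx
    obtain ⟨k, hk'⟩ := hWp ⟨x, hx⟩
    exact hk k x hx (congrArg Subtype.val hk')
  intro k
  induction k with
  | zero => intro x _ hx1; rw [pow_zero, pow_one] at hx1; rw [hx1, mul_one, one_mul]
  | succ k ih =>
    intro x hx hx1
    rw [pow_succ', pow_mul] at hx1
    have hxp := ih (x ^ p) (pow_mem hx p) hx1
    set c := x⁻¹ * (a * x * a⁻¹) with hc
    have hax : a * x * a⁻¹ ∈ W := hW.conj_mem x hx a
    have hcW : c ∈ W := mul_mem (inv_mem hx) hax
    have hcp : c ^ p = 1 := by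
      have hcomm : Commute x⁻¹ (a * x * a⁻¹) := hWc _ (inv_mem hx) _ hax
      rw [hc, hcomm.mul_pow, conj_pow, hxp, mul_inv_cancel_right, inv_pow, inv_mul_cancel]
    have h1 : c = 1 := OmegaCoprime.eq_one_of_fixed_comm (a := a) (x := x) (c := c) ha
      (by rw [hc, mul_inv_cancel_left]) (mul_inv_eq_iff_eq_mul.mpr (h c hcW hcp))
      ⟨1, by rw [pow_one, hcp]⟩
    rw [hc, inv_mul_eq_one] at h1
    exact (eq_mul_inv_iff_mul_eq.mp h1).symm

theorem exists_quadratic {G : Type*} [Group G] [Finite G] {p : ℕ} [Fact p.Prime] (S : Sylow p G)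
    {W : Subgroup G} [hWn : W.Normal] (hWS : W ≤ (S : Subgroup G))
    (hWc : ∀ x ∈ W, ∀ y ∈ W, x * y = y * x)
    (hJ : ¬ thomJ 0 (S : Subgroup G) ≤ centralizer (W : Set G)) :
    ∃ A ∈ maxFam 0 (S : Subgroup G), ¬ A ≤ centralizer (W : Set G) ∧
      W ≤ normalizer (A : Set G) := by
  have hne : {A ∈ maxFam 0 (S : Subgroup G) | ¬ A ≤ centralizer (W : Set G)}.Nonempty := by
    by_contra h
    exact hJ (sSup_le fun A hA => by_contra fun hA' => h ⟨A, hA, hA'⟩)
  obtain ⟨A, ⟨hA, hAC⟩, hmax⟩ := Set.exists_max_image _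
    (fun A : Subgroup G => Nat.card (W ⊓ A : Subgroup G)) (Set.toFinite _) hne
  refine ⟨A, hA, hAC, ?_⟩
  by_contra hWN
  set P : Subgroup G := (S : Subgroup G) with hP
  haveI : Group.IsNilpotent P := S.isPGroup'.isNilpotent
  have hAP : A ≤ P := hA.1.le
  have hAc : IsMulCommutative (A.subgroupOf P) :=
    ⟨⟨fun x y => Subtype.ext (Subtype.ext (hA.1.comm _ x.2 _ y.2))⟩⟩
  have hWc' : IsMulCommutative (W.subgroupOf P) :=
    ⟨⟨fun x y => Subtype.ext (Subtype.ext (hWc _ x.2 _ y.2))⟩⟩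
  have hAN : A.subgroupOf P ≤ normalizer ((W.subgroupOf P : Subgroup P) : Set P) := by
    rw [normalizer_eq_top]
    exact le_top
  have hWN' : ¬ W.subgroupOf P ≤ normalizer ((A.subgroupOf P : Subgroup P) : Set P) := by
    intro h
    refine hWN fun w hw => mem_normalizer_iff.mpr fun x => ?_
    have hw' := mem_normalizer_iff.mp (h (show (⟨w, hWS hw⟩ : P) ∈ W.subgroupOf P from hw))
    constructor
    · intro hx; exact (hw' ⟨x, hAP hx⟩).mp hx
    · intro hx
      have hxP : x ∈ P := by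
        have := mul_mem (mul_mem (inv_mem (hWS hw)) (hAP hx)) (hWS hw)
        simpa [mul_assoc] using this
      exact (hw' ⟨x, hxP⟩).mpr hx
  obtain ⟨B, hBc, hBcard, hlt, hBN, -, hBle⟩ :=
    ThompsonReplacement.replacement hAc hWc' hAN hWN'
  set A' := B.map P.subtype with hA'
  have hA'c : ∀ x ∈ A', ∀ y ∈ A', x * y = y * x := by
    rintro _ ⟨x, hx, rfl⟩ _ ⟨y, hy, rfl⟩
    exact congrArg (fun q : B => ((q : P) : G)) (hBc.is_comm.comm ⟨x, hx⟩ ⟨y, hy⟩)
  have hA'fam : A' ∈ maxFam 0 P := by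
    refine ⟨⟨map_subtype_le B, hA'c, fun a _ => pow_zero a⟩, fun D hD => (hA.2 D hD).trans ?_⟩
    rw [hA', card_map_of_injective P.subtype_injective]
    rwa [Nat.card_congr (subgroupOfEquivOfLe hAP).toEquiv] at hBcard
  have hlt' : Nat.card (W ⊓ A : Subgroup G) < Nat.card (W ⊓ A' : Subgroup G) := by
    refine Set.Finite.card_lt_card (Set.toFinite _) (lt_of_le_not_ge (fun x hx => ?_) fun h => ?_)
    · have : (⟨x, hAP hx.2⟩ : P) ∈ W.subgroupOf P ⊓ B := hlt.le ⟨hx.1, hx.2⟩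
      exact ⟨hx.1, ⟨_, this.2, rfl⟩⟩
    · exact hlt.not_ge fun x hx => ⟨hx.1, (h ⟨hx.1, ⟨x, hx.2, rfl⟩⟩).2⟩
  have hA'C : A' ≤ centralizer (W : Set G) := by
    by_contra h
    exact absurd (hmax A' ⟨hA'fam, h⟩) (not_le.mpr hlt')
  -- then `W ≤ A'` normalizes `A`
  refine hWN fun w hw => ?_
  have hwA' : w ∈ A' := mem_of_commute hA'fam (hWS hw) (pow_zero w)
    fun a ha => (mem_centralizer_iff.mp (hA'C ha) w hw).symm
  obtain ⟨x, hx, rfl⟩ := hwA'
  have hxN := mem_normalizer_iff.mp (hBN hx)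
  refine mem_normalizer_iff.mpr fun y => ⟨fun hy => (hxN ⟨y, hAP hy⟩).mp hy, fun hy => ?_⟩
  have hyP : y ∈ P := by
    have := mul_mem (mul_mem (inv_mem x.2) (hAP hy)) x.2
    simpa [mul_assoc] using this
  exact (hxN ⟨y, hyP⟩).mpr hy

/-- `G = C_G(℧₁Z(S)) N_G(J(S))`. -/
theorem factor (p : ℕ) [hp : Fact p.Prime] : ∀ (G : Type u) [Group G] [Finite G],
    centralizer (Cfsg.pCore p G : Set G) ≤ Cfsg.pCore p G → ∀ S : Sylow p G, ∀ g : G,
      ∃ u n : G, g = u * n ∧ n ∈ normalizer (thomJ 0 (S : Subgroup G) : Set G) ∧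
        ∀ z ∈ (S : Subgroup G), (∀ s ∈ (S : Subgroup G), z * s = s * z) → u * z ^ p = z ^ p * u := by
  suffices hk : ∀ (k : ℕ) (G : Type u) [Group G] [Finite G], Nat.card G = k →
      centralizer (Cfsg.pCore p G : Set G) ≤ Cfsg.pCore p G → ∀ S : Sylow p G, ∀ g : G,
        ∃ u n : G, g = u * n ∧ n ∈ normalizer (thomJ 0 (S : Subgroup G) : Set G) ∧
          ∀ z ∈ (S : Subgroup G), (∀ s ∈ (S : Subgroup G), z * s = s * z) →
            u * z ^ p = z ^ p * u from
    fun G _ _ => hk (Nat.card G) G rfl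
  intro k
  induction k using Nat.strong_induction_on with
  | _ k ih =>
  intro G _ _ hk hc S g
  set Q := Cfsg.pCore p G with hQ
  haveI hQn := HallCore.pCore_normal p G
  have hQp : IsPGroup p Q := HallCore.isPGroup_pCore p G
  have hQS : Q ≤ (S : Subgroup G) := HallCore.pCore_le_sylow S
  set W := normalClosure {z : G | z ∈ (S : Subgroup G) ∧ ∀ s ∈ (S : Subgroup G), z * s = s * z}
    with hW
  haveI : (centralizer (Q : Set G)).Normal := inferInstance
  have hWcQ : W ≤ centralizer (Q : Set G) := normalClosure_le_normal fun z hz =>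
    mem_centralizer_iff.mpr fun q hq => (hz.2 q (hQS hq)).symm
  have hWQ : W ≤ Q := hWcQ.trans hc
  have hWS : W ≤ (S : Subgroup G) := hWQ.trans hQS
  have hWc : ∀ x ∈ W, ∀ y ∈ W, x * y = y * x := fun x hx y hy =>
    mem_centralizer_iff.mp (hWcQ hy) x (hWQ hx)
  have hWp : IsPGroup p W := hQp.to_le hWQ
  set C := centralizer (W : Set G) with hC
  haveI hWn : W.Normal := normalClosure_normal
  haveI hCn : C.Normal := inferInstance
  have hzW : ∀ z ∈ (S : Subgroup G), (∀ s ∈ (S : Subgroup G), z * s = s * z) → z ∈ W :=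
    fun z hz hzc => subset_normalClosure ⟨hz, hzc⟩
  let C1 : Subgroup G := centralizer {x : G | ∃ w ∈ W, x = w ^ p}
  haveI hC1n : C1.Normal := by
    refine ⟨fun x hx y => mem_centralizer_iff.mpr ?_⟩
    rintro _ ⟨w, hw, rfl⟩
    have h1 := mem_centralizer_iff.mp hx ((y⁻¹ * w * y) ^ p)
      ⟨_, by simpa using hWn.conj_mem w hw y⁻¹, rfl⟩
    rw [show (y⁻¹ * w * y) ^ p = y⁻¹ * w ^ p * y by
      have := conj_pow (i := p) (a := y⁻¹) (b := w); rwa [inv_inv] at this] at h1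
    calc w ^ p * (y * x * y⁻¹) = y * ((y⁻¹ * w ^ p * y) * x) * y⁻¹ := by group
      _ = y * (x * (y⁻¹ * w ^ p * y)) * y⁻¹ := by rw [h1]
      _ = y * x * y⁻¹ * w ^ p := by group
  by_cases hJ : thomJ 0 (S : Subgroup G) ≤ C
  · -- Frattini
    obtain ⟨T, hT⟩ := LocalBasics.exists_sylow_inf S C
    have hTm : (T : Subgroup C).map C.subtype = (S : Subgroup G) ⊓ C := by
      rw [hT, subgroupOf_map_subtype]
    have hfr := Sylow.normalizer_sup_eq_top T
    rw [hTm] at hfr
    have hg : g ∈ normalizer (((S : Subgroup G) ⊓ C : Subgroup G) : Set G) ⊔ C := by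
      rw [hfr]; trivial
    rw [sup_comm] at hg
    obtain ⟨c, hcC, n, hn, rfl⟩ := mem_sup_of_normal_left.mp hg
    refine ⟨c, n, rfl, ?_, fun z hz hzc => ?_⟩
    · have h1 := normalizer_le_thomJ (n := 0) ((S : Subgroup G) ⊓ C) hn
      rwa [thomJ_eq_of_le (le_inf (thomJ_le _) hJ) inf_le_left] at h1
    · exact ((show Commute c z from (mem_centralizer_iff.mp hcC z (hzW z hz hzc)).symm).pow_right p).eq
  obtain ⟨A, hA, hAC, hWA⟩ := exists_quadratic S hWS hWc hJ
  obtain ⟨a, haA, haC⟩ := SetLike.not_le_iff_exists.mp hAC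
  have haS : a ∈ (S : Subgroup G) := hA.1.le haA
  -- `a` acts quadratically on `W`
  have hquad : ∀ w ∈ W, ∃ c ∈ W, Commute a c ∧ a * w * a⁻¹ = c * w := by
    intro w hw
    refine ⟨a * w * a⁻¹ * w⁻¹, mul_mem (hWn.conj_mem w hw a) (inv_mem hw), ?_, by group⟩
    refine hA.1.comm a haA _ ?_
    rw [show a * w * a⁻¹ * w⁻¹ = a * (w * a⁻¹ * w⁻¹) by group]
    exact mul_mem haA ((mem_normalizer_iff.mp (hWA hw) _).mp (inv_mem haA))
  have hpowa : ∀ w ∈ W, ∀ c, Commute a c → a * w * a⁻¹ = c * w →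
      ∀ m : ℕ, a ^ m * w * (a ^ m)⁻¹ = c ^ m * w := by
    intro w _ c hac hcw m
    induction m with
    | zero => simp
    | succ m ihm =>
      calc a ^ (m + 1) * w * (a ^ (m + 1))⁻¹ = a * (a ^ m * w * (a ^ m)⁻¹) * a⁻¹ := by
            rw [pow_succ']; group
        _ = (a * c ^ m) * w * a⁻¹ := by rw [ihm]; group
        _ = c ^ m * (a * w * a⁻¹) := by rw [(hac.pow_right m).eq]; group
        _ = c ^ (m + 1) * w := by rw [hcw, pow_succ, mul_assoc]
  -- the kernel of the action on the elements of order `p`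
  let K : Subgroup G := centralizer {x : G | x ∈ W ∧ x ^ p = 1}
  haveI hKn : K.Normal := by
    refine ⟨fun x hx y => mem_centralizer_iff.mpr ?_⟩
    rintro w ⟨hw, hwp⟩
    have h1 := mem_centralizer_iff.mp hx (y⁻¹ * w * y)
      ⟨by simpa using hWn.conj_mem w hw y⁻¹, by
        have := conj_pow (i := p) (a := y⁻¹) (b := w)
        rw [inv_inv] at this
        rw [this, hwp]; group⟩
    calc w * (y * x * y⁻¹) = y * ((y⁻¹ * w * y) * x) * y⁻¹ := by group
      _ = y * (x * (y⁻¹ * w * y)) * y⁻¹ := by rw [h1]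
      _ = y * x * y⁻¹ * w := by group
  have hKp : IsPGroup p (K.map (QuotientGroup.mk' C)) := by
    rintro ⟨_, x, hx, rfl⟩
    obtain ⟨i, m, hm, hxm⟩ :=
      Nat.exists_eq_pow_mul_and_not_dvd (orderOf_pos x).ne' p hp.out.ne_one
    refine ⟨i, Subtype.ext ?_⟩
    show (QuotientGroup.mk' C x) ^ p ^ i = 1
    rw [← map_pow]
    refine (QuotientGroup.eq_one_iff _).mpr (mem_centralizer_iff.mpr fun w hw => ?_)
    refine (commute_of_fixed_omega hWp hWc ?_
      (fun y hy hyp => (mem_centralizer_iff.mp (pow_mem hx _) y ⟨hy, hyp⟩).symm) w hw).symm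
    have h1 : (x ^ p ^ i) ^ m = 1 := by rw [← pow_mul, ← hxm, pow_orderOf_eq_one]
    exact ((hp.out.coprime_iff_not_dvd.mpr hm).symm).coprime_dvd_left
      (orderOf_dvd_of_pow_eq_one h1)
  have hKC : K ≤ C := by
    haveI : (K.map (QuotientGroup.mk' C)).Normal :=
      hKn.map _ (QuotientGroup.mk'_surjective C)
    have hπ := QuotientGroup.mk'_surjective C
    have hKS : K.map (QuotientGroup.mk' C) ≤ ((S : Subgroup G)).map (QuotientGroup.mk' C) := by
      have h1 := (HallCore.le_pCore hKp).trans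
        (HallCore.pCore_le_sylow (S.mapSurjective hπ : Sylow p (G ⧸ C)))
      rwa [Sylow.coe_mapSurjective] at h1
    have hKz : ∀ x ∈ K, ∀ z ∈ (S : Subgroup G), (∀ s ∈ (S : Subgroup G), z * s = s * z) →
        x * z = z * x := by
      intro x hx z hz hzc
      obtain ⟨y, hy, hyx⟩ := hKS (mem_map_of_mem _ hx)
      obtain ⟨c, hcC, rfl⟩ := (QuotientGroup.mk'_eq_mk' C).mp hyx
      exact (((show Commute z y from hzc y hy)).mul_right
        (show Commute z c from mem_centralizer_iff.mp hcC z (hzW z hz hzc))).symm.eq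
    intro x hx
    rw [hC]
    have : W ≤ centralizer (K : Set G) := normalClosure_le_normal fun z hz =>
      mem_centralizer_iff.mpr fun y hy => hKz y hy z hz.1 hz.2
    exact mem_centralizer_iff.mpr fun w hw => (mem_centralizer_iff.mp (this hw) x hx).symm
  have hapK : a ^ p ∈ K := by
    refine mem_centralizer_iff.mpr ?_
    rintro w ⟨hw, hwp⟩
    obtain ⟨c, hcW, hac, hcw⟩ := hquad w hw
    have hcp : c ^ p = 1 := by
      have e : c = a * w * a⁻¹ * w⁻¹ := eq_mul_inv_of_mul_eq hcw.symm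
      have hcomm : Commute (a * w * a⁻¹) w⁻¹ := hWc _ (hWn.conj_mem w hw a) _ (inv_mem hw)
      rw [e, hcomm.mul_pow, conj_pow, hwp, inv_pow, hwp]
      group
    have := hpowa w hw c hac hcw p
    rw [hcp, one_mul] at this
    exact (mul_inv_eq_iff_eq_mul.mp this).symm
  have haC1 : a ∈ C1 := by
    refine mem_centralizer_iff.mpr ?_
    rintro _ ⟨w, hw, rfl⟩
    obtain ⟨c, hcW, hac, hcw⟩ := hquad w hw
    have h1 := hpowa w hw c hac hcw p
    rw [mul_inv_eq_iff_eq_mul.mpr (mem_centralizer_iff.mp (hKC hapK) w hw).symm,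
      right_eq_mul] at h1
    have h2 : a * w ^ p * a⁻¹ = w ^ p := by
      rw [← conj_pow, hcw, (show Commute c w from hWc c hcW w hw).mul_pow, h1, one_mul]
    exact (mul_inv_eq_iff_eq_mul.mp h2).symm
  -- the proper subgroup `N_G(S ∩ C₁)`
  set H := normalizer ((((S : Subgroup G) ⊓ C1 : Subgroup G)) : Set G) with hH
  have hSH : (S : Subgroup G) ≤ H := by
    intro s hs
    refine mem_normalizer_iff.mpr fun x => ⟨fun hx => ?_, fun hx => ?_⟩
    · exact ⟨(S : Subgroup G).mul_mem ((S : Subgroup G).mul_mem hs hx.1) ((S : Subgroup G).inv_mem hs), hC1n.conj_mem x hx.2 s⟩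
    · refine ⟨?_, ?_⟩
      · have := (S : Subgroup G).mul_mem ((S : Subgroup G).mul_mem ((S : Subgroup G).inv_mem hs) hx.1) hs
        rwa [show s⁻¹ * (s * x * s⁻¹) * s = x by group] at this
      · have := hC1n.conj_mem _ hx.2 s⁻¹
        simpa [mul_assoc] using this
  have hHtop : H ≠ ⊤ := by
    intro htop
    haveI : ((S : Subgroup G) ⊓ C1).Normal := normalizer_eq_top_iff.mp htop
    have h1 : a ∈ Q :=
      HallCore.le_pCore (S.isPGroup'.to_le inf_le_left) (mem_inf.mpr ⟨haS, haC1⟩)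
    exact haC (mem_centralizer_iff.mpr fun w hw => (mem_centralizer_iff.mp (hWcQ hw) a h1).symm)
  have hQH : Q ≤ H := hQS.trans hSH
  have hcH : centralizer (Cfsg.pCore p H : Set H) ≤ Cfsg.pCore p H := by
    haveI : (Q.subgroupOf H).Normal := hQn.comap H.subtype
    have hQle : Q.subgroupOf H ≤ Cfsg.pCore p H := HallCore.le_pCore (hQp.comap_subtype)
    intro x hx
    refine hQle (mem_subgroupOf.mpr (hc (mem_centralizer_iff.mpr fun q hq => ?_)))
    exact congrArg Subtype.val (mem_centralizer_iff.mp hx ⟨q, hQH hq⟩ (hQle hq))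
  have hlt : Nat.card H < k := by
    rw [← hk]
    refine lt_of_le_of_ne (Nat.le_of_dvd Nat.card_pos (card_subgroup_dvd_card H)) fun h => hHtop ?_
    exact eq_top_of_card_eq H h
  -- Frattini
  obtain ⟨T, hT⟩ := LocalBasics.exists_sylow_inf S C1
  have hTm : (T : Subgroup C1).map C1.subtype = (S : Subgroup G) ⊓ C1 := by
    rw [hT, subgroupOf_map_subtype]
  have hfr := Sylow.normalizer_sup_eq_top T
  rw [hTm] at hfr
  have hg : g ∈ C1 ⊔ H := by rw [sup_comm, hH, hfr]; trivial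
  obtain ⟨c, hcC, m, hm, rfl⟩ := mem_sup_of_normal_left.mp hg
  obtain ⟨u, n, hun, hn, hu⟩ := ih _ hlt H rfl hcH (S.subtype hSH) ⟨m, hm⟩
  refine ⟨c * u, n, by rw [mul_assoc, ← Subgroup.coe_mul, ← hun], ?_, fun z hz hzc => ?_⟩
  · have hJm : thomJ 0 ((S : Subgroup G)) = (thomJ 0 ((S.subtype hSH : Sylow p H) : Subgroup H)).map
        H.subtype := by
      rw [← thomJ_map H.subtype_injective, Sylow.coe_subtype, subgroupOf_map_subtype,
        inf_eq_left.mpr hSH]
    rw [hJm]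
    exact le_normalizer_map H.subtype (mem_map_of_mem _ hn)
  · have h1 : (u : G) * z ^ p = z ^ p * u := congrArg Subtype.val
      (hu ⟨z, hSH hz⟩ hz fun s hs => Subtype.ext (hzc s hs))
    have h2 : Commute c (z ^ p) :=
      (mem_centralizer_iff.mp hcC (z ^ p) ⟨z, hzW z hz hzc, rfl⟩).symm
    exact (h2.mul_left (show Commute (u : G) (z ^ p) from h1)).eq

end Cfsg.Agent.ThompsonAgemoFactor
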