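import Mathlib
import Cfsg.Prelude.Def_PLocal
import Cfsg.Agent.Lib.ThompsonAgemoFactor
import Cfsg.Agent.Lib.FusionModelTools
import Cfsg.Agent.Lib.FusionWeakAlperin

/-! A saturated system is generated by the centralizer of `℧₁Z(S)` and the normalizer of `J(S)`. -/

set_option autoImplicit false
set_option linter.style.haveILetI false
set_option linter.unusedSectionVars false

open Cfsg
open Cfsg.Agent.FusionSysBasic Cfsg.Agent.FusionSysSaturated Cfsg.Agent.FusionSysNormal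
open Cfsg.Agent.FusionWeakAlperin Cfsg.Agent.GlaubermanZJ

namespace Cfsg.Agent.FusionAgemoThompson

variable {Ω : Type*} [Group Ω] {S : Subgroup Ω} [Finite S] {F : FusionSystem S} {p : ℕ}
  [hp : Fact p.Prime]

variable (p) in
/-- `℧₁(Z(S))`. -/
def agemo (S : Subgroup Ω) : Subgroup Ω :=
  Cfsg.powerClosure p 1 (S ⊓ Subgroup.centralizer (S : Set Ω))

theorem agemo_le : agemo p S ≤ S ⊓ Subgroup.centralizer (S : Set Ω) :=
  (Subgroup.closure_le _).mpr fun _ ⟨_, hx, h⟩ => h ▸ pow_mem hx _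

theorem agemo_le_thomJ {T : Subgroup Ω} [Finite T] (hT : T ≤ S) (hV : agemo p S ≤ T) :
    agemo p S ≤ thomJ 0 T := by
  intro v hv
  obtain ⟨A₀, hA₀⟩ := exists_maxFam 0 (⊤ : Subgroup T)
  have hmem : (⟨v, hV hv⟩ : T) ∈ thomJ 0 (⊤ : Subgroup T) :=
    le_thomJ hA₀ (mem_of_commute hA₀ (Subgroup.mem_top _) (pow_zero _) fun a _ =>
      Subtype.ext ((Subgroup.mem_centralizer_iff.mp (agemo_le hv).2) a (hT a.2)))
  have h := thomJ_map (n := 0) T.subtype_injective (⊤ : Subgroup T)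
  rw [← MonoidHom.range_eq_map, Subgroup.range_subtype] at h
  rw [h]
  exact ⟨_, hmem, rfl⟩

/-- Weak Alperin with a lower bound on the orders. -/
theorem mor_of_autGroup_bound (hS : IsPGroup p S) (hF : F.IsSaturated p) (H : FusionSystem S)
    {m : ℕ} (hH : ∀ R, F.IsFullyNormalized R → m ≤ Nat.card R → ∀ α ∈ F.autGroup R,
      Mor H R (afun α))
    {P : Subgroup Ω} {f : Ω → Ω} (hf : Mor F P f) (hm : m ≤ Nat.card P) : Mor H P f := by
  suffices ∀ n (P : Subgroup Ω) (f : Ω → Ω), Mor F P f → m ≤ Nat.card P →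
      Nat.card S - Nat.card P ≤ n → Mor H P f from this _ P f hf hm le_rfl
  intro n
  induction n with
  | zero =>
    intro P f hf hm h0
    obtain rfl : P = S := eq_of_le_of_card_ge le_rfl hf.le (by omega)
    obtain ⟨α, hα, he⟩ := hf.exists_aut (hf.im_self fun x hx => hf.apply_mem hx)
    exact (hH _ fullyNormalized_self hm α hα).congr he
  | succ n IH =>
    intro P f hf hm hn
    rcases hf.le.eq_or_lt with rfl | hlt
    · exact IH P f hf hm (by simp)
    set Q := im P f with hQ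
    have hPQ : F.IsConj P Q := isConj_iff.mpr ⟨f, hf, rfl⟩
    obtain ⟨R, hR, hRn⟩ := exists_fullyNormalized (F := F) hf.le
    obtain ⟨θ₁, hθ₁, -, hi₁⟩ := exists_map_to_fullyNormalized hS hF hRn hR
    obtain ⟨θ₂, hθ₂, -, hi₂⟩ :=
      exists_map_to_fullyNormalized hS hF hRn (isConj_trans (isConj_symm hPQ) hR)
    have hQlt : Q < S := by
      refine lt_of_le_of_ne hf.im_le fun e => hlt.ne (eq_of_le_of_card_ge le_rfl hlt.le ?_)
      rw [← hf.card_im, ← hQ, e]
    have hcard : Nat.card Q = Nat.card P := hf.card_im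
    have hmR : m ≤ Nat.card R := (isConj_card hR) ▸ hm
    have hN₁ := card_lt_normalizerIn hS hlt
    have hN₂ := card_lt_normalizerIn hS hQlt
    have hP₁ : Nat.card (FusionSystem.normalizerIn S P) ≤ Nat.card S :=
      Subgroup.card_le_of_le inf_le_left
    have hP₂ : Nat.card (FusionSystem.normalizerIn S Q) ≤ Nat.card S :=
      Subgroup.card_le_of_le inf_le_left
    have h₁ := (IH _ θ₁ hθ₁ (by omega) (by omega)).restrict_to (le_normalizerIn hf.le)
    have h₂ := (IH _ θ₂ hθ₂ (by omega) (by omega)).restrict_to (le_normalizerIn hf.im_le)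
    have g₁ := hθ₁.restrict_to (le_normalizerIn hf.le)
    have g₂ := hθ₂.restrict_to (le_normalizerIn hf.im_le)
    obtain ⟨j, hj, hjl, -, -⟩ := g₁.exists_inv
    rw [hi₁] at hj
    have hjP : ∀ r ∈ R, j r ∈ P := fun r hr => by
      obtain ⟨x, hx, rfl⟩ := g₁.mem_im.mp (hi₁.symm ▸ hr)
      rwa [hjl x hx]
    have hmor : Mor F R (θ₂ ∘ (f ∘ j)) :=
      (hj.comp hf hjP).comp g₂ fun r hr => apply_mem_im (hjP r hr)
    obtain ⟨α, hα, he⟩ := hmor.exists_aut (hmor.im_self fun r hr =>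
      hi₂ ▸ apply_mem_im (apply_mem_im (hjP r hr)))
    have hH1 : Mor H P (afun α ∘ θ₁) :=
      h₁.comp (hH R hRn hmR α hα) fun x hx => hi₁ ▸ apply_mem_im hx
    obtain ⟨k, hk, hkl, -, -⟩ := h₂.exists_inv
    rw [hi₂] at hk
    refine (hH1.comp hk fun x hx => afun_mem α (hi₁ ▸ apply_mem_im hx)).congr fun x hx => ?_
    have hθx : θ₁ x ∈ R := hi₁ ▸ apply_mem_im hx
    show k (afun α (θ₁ x)) = f x
    rw [he _ hθx]
    show k (θ₂ (f (j (θ₁ x)))) = f x
    rw [hjl x hx]
    exact hkl _ (apply_mem_im hx)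

/-- Maps realised by a group element. -/
theorem exists_mor_of_realized {T : Subgroup Ω} {G : FusionSystem T} {L : Type*} [Group L]
    {ι : T →* L} (hι : G.IsRealizedBy ι) {P : Subgroup Ω} (hP : P ≤ T) (g : L)
    (hg : ∀ x : P, g * ι ⟨x, hP x.2⟩ * g⁻¹ ∈ ι.range) :
    ∃ f, Mor G P f ∧ ∀ x : P, ∃ h : f x ∈ T, ι ⟨f x, h⟩ = g * ι ⟨x, hP x.2⟩ * g⁻¹ := by
  let c : P →* ι.range :=
    { toFun := fun x => ⟨g * ι ⟨x, hP x.2⟩ * g⁻¹, hg x⟩
      map_one' := Subtype.ext (by
        show g * ι ⟨((1 : P) : Ω), _⟩ * g⁻¹ = 1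
        rw [show (⟨((1 : P) : Ω), hP (1 : P).2⟩ : T) = 1 from rfl, map_one, mul_one,
          mul_inv_cancel])
      map_mul' := fun x y => Subtype.ext (by
        show g * ι ⟨((x * y : P) : Ω), _⟩ * g⁻¹ = g * ι _ * g⁻¹ * (g * ι _ * g⁻¹)
        rw [show (⟨((x * y : P) : Ω), hP (x * y).2⟩ : T) = ⟨x, hP x.2⟩ * ⟨y, hP y.2⟩ from rfl,
          map_mul]
        group) }
  let e := MonoidHom.ofInjective hι.1
  let φ : P →* Ω := T.subtype.comp (e.symm.toMonoidHom.comp c)
  have hφT : ∀ x : P, φ x ∈ T := fun x => (e.symm (c x)).2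
  have hval : ∀ x : P, ι ⟨φ x, hφT x⟩ = g * ι ⟨x, hP x.2⟩ * g⁻¹ := fun x =>
    congrArg Subtype.val (e.apply_symm_apply (c x))
  have hφ : φ ∈ G.Hom P := (hι.2 P hP φ hφT).mpr ⟨g, hval⟩
  refine ⟨toFun φ, mor_toFun hφ, fun x => ⟨?_, ?_⟩⟩
  · rw [toFun_coe]; exact hφT x
  · simp only [toFun_coe]
    exact hval x

/-- Every morphism of `F` normalizing `X ⊇ ℧₁Z(S)` inside its normalizer lies in `E`. -/
def Good (F : FusionSystem S) (E : FusionSystem S) (p : ℕ) (X : Subgroup Ω) : Prop :=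
  ∀ (A : Subgroup Ω) (f : Ω → Ω), Mor F (A ⊔ X) f → A ≤ FusionSystem.normalizerIn S X →
    im X f = X → agemo p S ≤ X → Mor E (A ⊔ X) f

/-- `℧₁Z(S)` lies in every image of `X` under a map defined on the normalizer of `X`. -/
def Big (F : FusionSystem S) (p : ℕ) (X : Subgroup Ω) : Prop :=
  X ≤ S ∧ ∀ ψ, Mor F (FusionSystem.normalizerIn S X) ψ → agemo p S ≤ im X ψ

theorem Big.le {X : Subgroup Ω} (h : Big F p X) : agemo p S ≤ X := fun v hv => by
  have := h.2 (fun x => x) (mor_id inf_le_left) hv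
  rwa [im_id] at this

theorem big_of_centric {X : Subgroup Ω} (h : F.IsCentric X) : Big F p X := by
  refine ⟨h.1, fun ψ hψ v hv => h.2 (im X ψ)
    (isConj_iff.mpr ⟨ψ, hψ.restrict_to (le_normalizerIn h.1), rfl⟩)
    (mem_centralizerIn.mpr ⟨(agemo_le hv).1, fun y hy => ?_⟩)⟩
  rw [cj_apply, mul_inv_eq_iff_eq_mul]
  exact (Subgroup.mem_centralizer_iff.mp (agemo_le hv).2 y
    ((hψ.restrict_to (le_normalizerIn h.1)).im_le hy)).symm

theorem good_transport {E : FusionSystem S} {X Y : Subgroup Ω} (hXS : X ≤ S) (hY : Good F E p Y)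
    {ψ : Ω → Ω} (hψ : Mor F (FusionSystem.normalizerIn S X) ψ)
    (hψE : Mor E (FusionSystem.normalizerIn S X) ψ)
    (hψN : ∀ x ∈ FusionSystem.normalizerIn S X, ψ x ∈ FusionSystem.normalizerIn S Y)
    (hψX : im X ψ = Y) (hV : agemo p S ≤ Y) : Good F E p X := by
  intro A f hf hA him _
  set N := FusionSystem.normalizerIn S X
  have hXN : X ≤ N := le_normalizerIn hXS
  have hDN : A ⊔ X ≤ N := sup_le hA hXN
  have hfN : ∀ x ∈ A ⊔ X, f x ∈ N := by
    intro x hx
    refine ⟨hf.apply_mem hx, mem_normalizer_of_cj_le hXS fun y hy => ?_⟩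
    obtain ⟨z, hz, rfl⟩ := (hf.restrict_to le_sup_right).mem_im.mp (him.symm ▸ hy)
    rw [← hf.map_cj hx (Subgroup.mem_sup_right hz)]
    exact him ▸ apply_mem_im (cj_mem_of_normalizer (hDN hx).2 hz)
  have hψD := hψ.restrict_to hDN
  obtain ⟨j, hj, hjl, -, hjD⟩ := hψD.exists_inv
  set D' := im (A ⊔ X) ψ with hD'
  have hYD' : Y ≤ D' := hψX ▸ im_mono le_sup_right
  have hfs : Mor F D' (ψ ∘ (f ∘ j)) := (hj.comp hf hjD).comp hψ fun y hy => hfN _ (hjD y hy)
  have hD'N : D' ≤ FusionSystem.normalizerIn S Y := im_le_iff.mpr fun x hx => hψN x (hDN hx)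
  have hE1 : Mor E D' (ψ ∘ (f ∘ j)) := by
    have h := hY D' (ψ ∘ (f ∘ j)) (by rwa [sup_eq_left.mpr hYD']) hD'N
      ((hfs.restrict_to hYD').im_self fun y hy => by
        obtain ⟨x, hx, rfl⟩ := (hψ.restrict_to hXN).mem_im.mp (hψX.symm ▸ hy)
        show ψ (f (j (ψ x))) ∈ Y
        rw [hjl x (Subgroup.mem_sup_right hx)]
        exact hψX ▸ apply_mem_im (him ▸ apply_mem_im hx)) hV
    rwa [sup_eq_left.mpr hYD'] at h
  obtain ⟨k, hk, hkl, -, -⟩ := hψE.exists_inv
  refine (((hψE.restrict_to hDN).comp hE1 fun x hx => apply_mem_im hx).comp hk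
    fun x hx => ?_).congr fun x hx => ?_
  · show ψ (f (j (ψ x))) ∈ im N ψ
    rw [hjl x hx]
    exact apply_mem_im (hfN x hx)
  · show k (ψ (f (j (ψ x)))) = f x
    rw [hjl x hx]
    exact hkl _ (hfN x hx)

theorem isCentric_sup_centralizerIn (hS : IsPGroup p S) (hF : F.IsSaturated p) {X : Subgroup Ω}
    (hX : F.IsFullyNormalized X) : F.IsCentric (X ⊔ FusionSystem.centralizerIn S X) := by
  have hXS := hX.1
  have hCS : X ⊔ FusionSystem.centralizerIn S X ≤ S := sup_le hXS inf_le_left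
  have hfc := fullyCentralized_of_fullyNormalized hS hF hX
  refine ⟨hCS, fun Q hQ => ?_⟩
  obtain ⟨f, hf, rfl⟩ := isConj_iff.mp hQ
  haveI := finite_centralizerIn (S := S) X
  haveI := finite_centralizerIn (S := S) (im X f)
  have hC := hf.restrict_to (le_sup_right : FusionSystem.centralizerIn S X ≤ _)
  have hle : im (FusionSystem.centralizerIn S X) f ≤ FusionSystem.centralizerIn S (im X f) := by
    refine im_le_iff.mpr fun c hc => mem_centralizerIn.mpr
      ⟨hf.apply_mem (Subgroup.mem_sup_right hc), fun y hy => ?_⟩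
    obtain ⟨x, hx, rfl⟩ := (hf.restrict_to le_sup_left).mem_im.mp hy
    rw [← hf.map_cj (Subgroup.mem_sup_right hc) (Subgroup.mem_sup_left hx),
      (mem_centralizerIn.mp hc).2 x hx]
  have heq : im (FusionSystem.centralizerIn S X) f = FusionSystem.centralizerIn S (im X f) := by
    refine eq_of_le_of_card_ge inf_le_left hle ?_
    rw [hC.card_im]
    exact hfc.2 _ (isConj_iff.mpr ⟨f, hf.restrict_to le_sup_left, rfl⟩)
  refine fun c hc => im_mono le_sup_right ?_
  rw [heq]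
  obtain ⟨hcS, hcc⟩ := mem_centralizerIn.mp hc
  exact mem_centralizerIn.mpr ⟨hcS, fun y hy => hcc y (im_mono le_sup_left hy)⟩

variable {E : FusionSystem S}
  {C : FusionSystem (FusionSystem.centralizerIn S (agemo p S))}
  {N : FusionSystem (FusionSystem.normalizerIn S (Cfsg.thompsonSubgroupAOf S))}

theorem mor_fix (hC : F.IsCentralizerSystem (agemo p S) C) (hCE : C.IsSubsystemOf E)
    {A : Subgroup Ω} {θ : Ω → Ω} (hθ : Mor F A θ) (hVA : agemo p S ≤ A)
    (hfix : ∀ v ∈ agemo p S, θ v = v) : Mor E A θ := by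
  have hSc : S ≤ FusionSystem.centralizerIn S (agemo p S) := fun s hs =>
    mem_centralizerIn.mpr ⟨hs, fun v hv => by
      rw [cj_apply, mul_inv_eq_iff_eq_mul]
      exact Subgroup.mem_centralizer_iff.mp (agemo_le hv).2 s hs⟩
  obtain ⟨φ, hφ, he⟩ := (mor_centralizerSystem_iff hC).mpr ⟨hθ, hθ.le.trans hSc,
    fun x hx => hSc (hθ.apply_mem hx), θ, by rwa [sup_eq_left.mpr hVA], fun _ _ => rfl, hfix⟩
  exact ⟨φ, hCE A hφ, he⟩

theorem mor_normJ (hN : F.IsNormalizerSystem (Cfsg.thompsonSubgroupAOf S) N)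
    (hNE : N.IsSubsystemOf E) {A : Subgroup Ω} {θ : Ω → Ω}
    (hθ : Mor F (A ⊔ thomJ 0 S) θ) (him : im (thomJ 0 S) θ = thomJ 0 S) :
    Mor E (A ⊔ thomJ 0 S) θ := by
  rw [← thompsonSubgroupAOf_eq] at hθ him ⊢
  have hSn : S ≤ FusionSystem.normalizerIn S (Cfsg.thompsonSubgroupAOf S) :=
    le_inf le_rfl (Subgroup.le_normalizer.trans
      (by rw [thompsonSubgroupAOf_eq]; exact normalizer_le_thomJ S))
  obtain ⟨φ, hφ, he⟩ := (mor_normalizerSystem_iff hN).mpr ⟨hθ, hθ.le.trans hSn,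
    fun x hx => hSn (hθ.apply_mem hx), θ, by rwa [sup_assoc, sup_idem], fun _ _ => rfl, him⟩
  exact ⟨φ, hNE _ hφ, he⟩

theorem big_thomJ (hS : IsPGroup p S) {Y : Subgroup Ω} (hY : F.IsFullyNormalized Y) :
    Big F p (thomJ 0 (FusionSystem.normalizerIn S Y)) := by
  set T := FusionSystem.normalizerIn S Y with hT
  have hTS : T ≤ S := inf_le_left
  haveI : Finite T := finite_normalizerIn Y
  refine ⟨(thomJ_le T).trans hTS, fun ψ hψ v hv => ?_⟩
  have hTJ : T ≤ FusionSystem.normalizerIn S (thomJ 0 T) :=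
    le_inf hTS (Subgroup.le_normalizer.trans (normalizer_le_thomJ T))
  have hψT := hψ.restrict_to hTJ
  have hYT : Y ≤ T := le_normalizerIn hY.1
  have hle : im T ψ ⊔ Subgroup.zpowers v ≤ FusionSystem.normalizerIn S (im Y ψ) := by
    have hYS' : im Y ψ ≤ S := (hψT.restrict_to hYT).im_le
    refine sup_le (im_le_iff.mpr fun x hx => ⟨hψT.apply_mem hx,
      mem_normalizer_of_cj_le hYS' fun y hy => ?_⟩) (Subgroup.zpowers_le.mpr ⟨(agemo_le hv).1,
      mem_normalizer_of_cj_le hYS' fun y hy => ?_⟩)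
    · obtain ⟨z, hz, rfl⟩ := (hψT.restrict_to hYT).mem_im.mp hy
      rw [← hψT.map_cj hx (hYT hz)]
      exact apply_mem_im (cj_mem_of_normalizer hx.2 hz)
    · rwa [cj_apply, show v * y = y * v from
        (Subgroup.mem_centralizer_iff.mp (agemo_le hv).2 y (hYS' hy)).symm, mul_inv_cancel_right]
  haveI := finite_normalizerIn (S := S) (im Y ψ)
  have heq : im T ψ = im T ψ ⊔ Subgroup.zpowers v := by
    refine eq_of_le_of_card_ge (sup_le hψT.im_le (Subgroup.zpowers_le.mpr (agemo_le hv).1))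
      le_sup_left ?_
    rw [hψT.card_im]
    exact (Subgroup.card_le_of_le hle).trans
      (hY.2 _ (isConj_iff.mpr ⟨ψ, hψT.restrict_to hYT, rfl⟩))
  have hvim : v ∈ im T ψ := heq ▸ Subgroup.mem_sup_right (Subgroup.mem_zpowers v)
  obtain ⟨t, ht, rfl⟩ := hψT.mem_im.mp hvim
  refine apply_mem_im ?_
  obtain ⟨A₀, hA₀⟩ := exists_maxFam 0 (⊤ : Subgroup T)
  have hmem : (⟨t, ht⟩ : T) ∈ thomJ 0 (⊤ : Subgroup T) := by
    refine le_thomJ hA₀ (mem_of_commute hA₀ (Subgroup.mem_top _) (pow_zero _) fun a _ => ?_)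
    refine Subtype.ext (hψT.injOn (T.mul_mem a.2 ht) (T.mul_mem ht a.2) ?_)
    show ψ ((a : Ω) * t) = ψ (t * (a : Ω))
    rw [hψT.map_mul a.2 ht, hψT.map_mul ht a.2]
    exact Subgroup.mem_centralizer_iff.mp (agemo_le hv).2 _ (hψT.apply_mem a.2)
  have h := thomJ_map (n := 0) T.subtype_injective (⊤ : Subgroup T)
  rw [← MonoidHom.range_eq_map, Subgroup.range_subtype] at h
  rw [h]
  exact ⟨_, hmem, rfl⟩

theorem mor_model (hS : IsPGroup p S)
    (hC : F.IsCentralizerSystem (agemo p S) C) (hCE : C.IsSubsystemOf E)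
    (hN : F.IsNormalizerSystem (Cfsg.thompsonSubgroupAOf S) N) (hNE : N.IsSubsystemOf E)
    {Y : Subgroup Ω} (hYn : F.IsFullyNormalized Y)
    (hbig : ∀ X : Subgroup Ω, Big F p X →
      Nat.card (FusionSystem.normalizerIn S Y) < Nat.card (FusionSystem.normalizerIn S X) →
      Good F E p X)
    {G : FusionSystem (FusionSystem.normalizerIn S Y)} (hG : F.IsNormalizerSystem Y G)
    {L : Type*} [Group L] [Finite L] {ι : ↥(FusionSystem.normalizerIn S Y) →* L}
    (hι : G.IsRealizedBy ι) (Tl : Sylow p L) (hTl : (Tl : Subgroup L) = ι.range)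
    (hLc : Subgroup.centralizer (Cfsg.pCore p L : Set L) ≤ Cfsg.pCore p L)
    {A : Subgroup Ω} {f : Ω → Ω} (hVY : agemo p S ≤ Y)
    (hfG : Mor G (A ⊔ Y) f) : Mor E (A ⊔ Y) f := by
  have hYS := hYn.1
  have hTS : (FusionSystem.normalizerIn S Y) ≤ S := inf_le_left
  haveI : Finite (FusionSystem.normalizerIn S Y) := finite_normalizerIn Y
  set D := A ⊔ Y with hD
  obtain ⟨hfF, hDT, hfT, -⟩ := (mor_normalizerSystem_iff hG).mp hfG
  obtain ⟨φ, hφ, he⟩ := hfG
  have hφT : ∀ x : D, φ x ∈ (FusionSystem.normalizerIn S Y) := fun x => he x ▸ hfT x x.2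
  obtain ⟨g, hg⟩ := (hι.2 D hDT φ hφT).mp hφ
  obtain ⟨u₀, n₀, hgun, hn₀, hu₀⟩ := ThompsonAgemoFactor.factor p _ hLc Tl g
  set JL := thomJ 0 (Tl : Subgroup (L)) with hJL
  let Z : Set (L) := {y | ∃ z ∈ (Tl : Subgroup (L)),
    (∀ s ∈ (Tl : Subgroup (L)), z * s = s * z) ∧ y = z ^ p}
  have hTC : (Tl : Subgroup (L)) ≤ Subgroup.centralizer Z := by
    intro s hs
    refine Subgroup.mem_centralizer_iff.mpr ?_
    rintro _ ⟨z, -, hzc, rfl⟩
    exact ((show Commute z s from hzc s hs).pow_left p).eq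
  have hu₀C : u₀ ∈ Subgroup.centralizer Z := by
    refine Subgroup.mem_centralizer_iff.mpr ?_
    rintro _ ⟨z, hz, hzc, rfl⟩
    exact (hu₀ z hz hzc).symm
  have hTN : (Tl : Subgroup (L)) ≤
      Subgroup.normalizer (JL : Set (L)) :=
    Subgroup.le_normalizer.trans (normalizer_le_thomJ _)
  set M := Subgroup.centralizer Z ⊓ Subgroup.normalizer (JL : Set (L))
  -- conjugate the intermediate image into the Sylow subgroup inside `M`
  set Dn := ((D.subgroupOf (FusionSystem.normalizerIn S Y)).map ι).map (MulAut.conj n₀).toMonoidHom with hDn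
  have hDM : Dn ≤ M := by
    rintro _ ⟨_, ⟨x, hx, rfl⟩, rfl⟩
    have hxT : ι x ∈ (Tl : Subgroup (L)) := hTl ▸ ⟨x, rfl⟩
    show n₀ * ι x * n₀⁻¹ ∈ M
    refine ⟨?_, Subgroup.mul_mem _ (Subgroup.mul_mem _ hn₀ (hTN hxT)) (Subgroup.inv_mem _ hn₀)⟩
    have hgx : g * ι x * g⁻¹ ∈ (Tl : Subgroup (L)) := by
      rw [← hg ⟨x, hx⟩, hTl]
      exact ⟨_, rfl⟩
    rw [show n₀ * ι x * n₀⁻¹ = u₀⁻¹ * (g * ι x * g⁻¹) * u₀ by rw [hgun]; group]
    exact Subgroup.mul_mem _ (Subgroup.mul_mem _ (Subgroup.inv_mem _ hu₀C) (hTC hgx)) hu₀C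
  have hDp : IsPGroup p Dn :=
    ((((hS.to_le hTS).to_le (Subgroup.map_subtype_le (D.subgroupOf (FusionSystem.normalizerIn S Y)))).of_equiv
      ((Subgroup.equivMapOfInjective _ (FusionSystem.normalizerIn S Y).subtype (FusionSystem.normalizerIn S Y).subtype_injective).symm)).map ι).map _
  obtain ⟨R, hR⟩ := (hDp.comap_subtype (K := M)).exists_le_sylow
  obtain ⟨m, hm⟩ := MulAction.exists_smul_eq M R
    (Tl.subtype (le_inf hTC hTN : (Tl : Subgroup (L)) ≤ M))
  set n := (m : L) * n₀ with hndef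
  set u := u₀ * (m : L)⁻¹ with hudef
  have hgun' : g = u * n := by rw [hudef, hndef, hgun]; group
  have hnJ : n ∈ Subgroup.normalizer (JL : Set (L)) := mul_mem m.2.2 hn₀
  have huC : u ∈ Subgroup.centralizer Z := Subgroup.mul_mem _ hu₀C (Subgroup.inv_mem _ m.2.1)
  have hnD : ∀ x : D, n * ι ⟨x, hDT x.2⟩ * n⁻¹ ∈ ι.range := by
    intro x
    have h1 : n₀ * ι ⟨x, hDT x.2⟩ * n₀⁻¹ ∈ Dn :=
      ⟨_, ⟨⟨x, hDT x.2⟩, x.2, rfl⟩, rfl⟩
    have h2 : (⟨_, hDM h1⟩ : M) ∈ (R : Subgroup M) := hR (Subgroup.mem_subgroupOf.mpr h1)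
    have h3 : m * ⟨_, hDM h1⟩ * m⁻¹ ∈ ((Tl.subtype (le_inf hTC hTN :
        (Tl : Subgroup (L)) ≤ M)) : Subgroup M) := by
      rw [← hm, Sylow.coe_subgroup_smul]
      exact Subgroup.mem_map_of_mem (MulDistribMulAction.toMonoidEnd _ _ (MulAut.conj m)) h2
    rw [Sylow.coe_subtype, Subgroup.mem_subgroupOf, hTl] at h3
    rw [hndef, show ((m : L) * n₀) * ι ⟨x, hDT x.2⟩ * (↑m * n₀)⁻¹ =
      ↑m * (n₀ * ι ⟨x, hDT x.2⟩ * n₀⁻¹) * (↑m)⁻¹ by group]
    exact h3
  -- the thompson subgroup of `(FusionSystem.normalizerIn S Y)` in the model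
  set J := thomJ 0 (FusionSystem.normalizerIn S Y) with hJ
  have hJT : J ≤ (FusionSystem.normalizerIn S Y) := thomJ_le (FusionSystem.normalizerIn S Y)
  have hJι : JL = (J.subgroupOf (FusionSystem.normalizerIn S Y)).map ι := by
    have h1 : J.subgroupOf (FusionSystem.normalizerIn S Y) = thomJ 0 (⊤ : Subgroup (FusionSystem.normalizerIn S Y)) := by
      have h2 := thomJ_map (n := 0) (FusionSystem.normalizerIn S Y).subtype_injective (⊤ : Subgroup (FusionSystem.normalizerIn S Y))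
      rw [← MonoidHom.range_eq_map, Subgroup.range_subtype] at h2
      rw [hJ, h2]
      exact Subgroup.comap_map_eq_self_of_injective (FusionSystem.normalizerIn S Y).subtype_injective _
    rw [h1, ← thomJ_map hι.1, ← MonoidHom.range_eq_map, hJL, hTl]
  have hnP : ∀ x : ↥(D ⊔ J), n * ι ⟨x, (sup_le hDT hJT) x.2⟩ * n⁻¹ ∈ ι.range := by
    intro x
    have hle : D ⊔ J ≤ (((ι.range.comap (MulAut.conj n).toMonoidHom)).comap ι).map (FusionSystem.normalizerIn S Y).subtype := by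
      refine sup_le (fun y hy => ⟨⟨y, hDT hy⟩, hnD ⟨y, hy⟩, rfl⟩)
        fun y hy => ⟨⟨y, hJT hy⟩, ?_, rfl⟩
      show n * ι ⟨y, hJT hy⟩ * n⁻¹ ∈ ι.range
      rw [← hTl]
      refine thomJ_le _ ((Subgroup.mem_normalizer_iff.mp hnJ _).mp ?_)
      show _ ∈ JL
      rw [hJι]
      exact ⟨_, hy, rfl⟩
    obtain ⟨⟨y, hyT⟩, hy, hyx⟩ := hle x.2
    obtain rfl : y = (x : Ω) := hyx
    exact hy
  obtain ⟨f₁, hf₁G, hf₁⟩ := exists_mor_of_realized hι (sup_le hDT hJT) n hnP
  have hf₁F : Mor F (D ⊔ J) f₁ := ((mor_normalizerSystem_iff hG).mp hf₁G).1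
  have hJim : im J f₁ = J := by
    refine (hf₁F.restrict_to le_sup_right).im_self fun y hy => ?_
    obtain ⟨hyT, hye⟩ := hf₁ ⟨y, Subgroup.mem_sup_right hy⟩
    have h1 : n * ι ⟨y, hJT hy⟩ * n⁻¹ ∈ JL :=
      (Subgroup.mem_normalizer_iff.mp hnJ _).mp (hJι ▸ ⟨_, hy, rfl⟩)
    rw [← hye, hJι] at h1
    obtain ⟨z, hz, hze⟩ := h1
    have hzy := hι.1 hze
    subst hzy
    exact hz
  have hVT : agemo p S ≤ (FusionSystem.normalizerIn S Y) := hVY.trans (le_normalizerIn hYS)
  have hVJ : agemo p S ≤ J := agemo_le_thomJ hTS hVT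
  have hf₁E : Mor E (D ⊔ J) f₁ := by
    rcases hTS.eq_or_lt with hTS' | hlt
    · have hJS : J = thomJ 0 S := by rw [hJ, hTS']
      rw [hJS] at hf₁F hJim ⊢
      exact mor_normJ hN hNE hf₁F hJim
    · have hTJ : FusionSystem.normalizerIn S (FusionSystem.normalizerIn S Y) ≤ FusionSystem.normalizerIn S J :=
        inf_le_inf_left _ (normalizer_le_thomJ (FusionSystem.normalizerIn S Y))
      have hcard : Nat.card (FusionSystem.normalizerIn S Y) < Nat.card (FusionSystem.normalizerIn S J) := by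
        haveI := finite_normalizerIn (S := S) J
        exact (card_lt_normalizerIn hS hlt).trans_le (Subgroup.card_le_of_le hTJ)
      exact hbig J (big_thomJ hS hYn) hcard D f₁ hf₁F
        ((hDT.trans (le_normalizerIn hTS)).trans hTJ) hJim hVJ
  -- the part centralizing `℧₁Z(S)`
  set D₁ := im D f₁ with hD₁
  have hf₁D : Mor F D f₁ := hf₁F.restrict_to le_sup_left
  have hD₁T : D₁ ≤ (FusionSystem.normalizerIn S Y) := im_le_iff.mpr fun x hx => (hf₁ ⟨x, Subgroup.mem_sup_left hx⟩).1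
  have hkey : ∀ x : D, ∃ hx : f₁ x ∈ (FusionSystem.normalizerIn S Y), u * ι ⟨f₁ x, hx⟩ * u⁻¹ = ι ⟨φ x, hφT x⟩ := by
    intro x
    obtain ⟨hxT, hxe⟩ := hf₁ ⟨x, Subgroup.mem_sup_left x.2⟩
    exact ⟨hxT, by rw [hxe, hg x, hgun']; group⟩
  have hVfix : ∀ (v : Ω) (hv : v ∈ agemo p S), u * ι ⟨v, hVT hv⟩ * u⁻¹ = ι ⟨v, hVT hv⟩ := by
    intro v hv
    let Lc : Subgroup (FusionSystem.normalizerIn S Y) := (Subgroup.centralizer ({u} : Set (L))).comap ι
    have hZT : S ⊓ Subgroup.centralizer (S : Set Ω) ≤ (FusionSystem.normalizerIn S Y) := fun z hz =>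
      ⟨hz.1, mem_normalizer_of_cj_le hYS fun y hy => by
        rwa [cj_apply, show z * y = y * z from
          (Subgroup.mem_centralizer_iff.mp hz.2 y (hYS hy)).symm, mul_inv_cancel_right]⟩
    have hle : agemo p S ≤ Lc.map (FusionSystem.normalizerIn S Y).subtype := by
      refine (Subgroup.closure_le _).mpr ?_
      rintro _ ⟨z, hz, rfl⟩
      refine ⟨⟨z, hZT hz⟩ ^ p, ?_, by simp⟩
      show ι (⟨z, hZT hz⟩ ^ p) ∈ Subgroup.centralizer ({u} : Set (L))
      rw [map_pow]
      refine Subgroup.mem_centralizer_singleton_iff.mpr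
        (Subgroup.mem_centralizer_iff.mp huC _ ⟨_, hTl ▸ ⟨_, rfl⟩, ?_, rfl⟩)
      intro s hs
      rw [hTl] at hs
      obtain ⟨w, rfl⟩ := hs
      rw [← map_mul, ← map_mul]
      exact congrArg ι (Subtype.ext
        (Subgroup.mem_centralizer_iff.mp hz.2 w (hTS w.2)).symm)
    obtain ⟨⟨w, hwT⟩, hw, hwv⟩ := hle hv
    obtain rfl : w = v := hwv
    rw [mul_inv_eq_iff_eq_mul]
    exact (Subgroup.mem_centralizer_singleton_iff.mp hw).symm
  have hP₂ : D₁ ⊔ agemo p S ≤ (FusionSystem.normalizerIn S Y) := sup_le hD₁T hVT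
  have huP : ∀ x : ↥(D₁ ⊔ agemo p S), u * ι ⟨x, hP₂ x.2⟩ * u⁻¹ ∈ ι.range := by
    intro x
    have hle : D₁ ⊔ agemo p S ≤
        ((ι.range.comap (MulAut.conj u).toMonoidHom).comap ι).map (FusionSystem.normalizerIn S Y).subtype := by
      refine sup_le (fun y hy => ?_) fun y hy => ⟨⟨y, hVT hy⟩, ?_, rfl⟩
      · obtain ⟨z, hz, rfl⟩ := hf₁D.mem_im.mp hy
        obtain ⟨hzT, hze⟩ := hkey ⟨z, hz⟩
        exact ⟨⟨f₁ z, hzT⟩, ⟨_, hze.symm⟩, rfl⟩
      · exact ⟨_, (hVfix y hy).symm⟩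
    obtain ⟨⟨y, hyT⟩, hy, hyx⟩ := hle x.2
    obtain rfl : y = (x : Ω) := hyx
    exact hy
  obtain ⟨f₂, hf₂G, hf₂⟩ := exists_mor_of_realized hι hP₂ u huP
  have hf₂F : Mor F (D₁ ⊔ agemo p S) f₂ := ((mor_normalizerSystem_iff hG).mp hf₂G).1
  have hf₂E : Mor E (D₁ ⊔ agemo p S) f₂ := mor_fix hC hCE hf₂F le_sup_right fun v hv => by
    obtain ⟨hvT, hve⟩ := hf₂ ⟨v, Subgroup.mem_sup_right hv⟩
    rw [hVfix v hv] at hve
    exact congrArg Subtype.val (hι.1 hve)
  refine (((hf₁E.restrict_to le_sup_left).comp hf₂E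
    fun x hx => Subgroup.mem_sup_left (apply_mem_im hx))).congr fun x hx => ?_
  obtain ⟨hxT, hxe⟩ := hkey ⟨x, hx⟩
  obtain ⟨h2T, h2e⟩ := hf₂ ⟨f₁ x, Subgroup.mem_sup_left (apply_mem_im hx)⟩
  show f₂ (f₁ x) = f x
  rw [← he ⟨x, hx⟩]
  exact congrArg Subtype.val (hι.1 (h2e.trans hxe))

theorem good_centric (hS : IsPGroup p S) (hF : F.IsSaturated p)
    (hC : F.IsCentralizerSystem (agemo p S) C) (hCE : C.IsSubsystemOf E)
    (hN : F.IsNormalizerSystem (Cfsg.thompsonSubgroupAOf S) N) (hNE : N.IsSubsystemOf E)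
    {Y : Subgroup Ω} (hYn : F.IsFullyNormalized Y) (hYc : F.IsCentric Y)
    (hbig : ∀ X : Subgroup Ω, Big F p X →
      Nat.card (FusionSystem.normalizerIn S Y) < Nat.card (FusionSystem.normalizerIn S X) →
      Good F E p X) : Good F E p Y := by
  intro A f hf hA him hVY
  have hYS := hYn.1
  set T := FusionSystem.normalizerIn S Y with hT
  have hTS : T ≤ S := inf_le_left
  haveI : Finite T := finite_normalizerIn Y
  set D := A ⊔ Y with hD
  have hDT : D ≤ T := sup_le hA (le_normalizerIn hYS)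
  obtain ⟨G, hG⟩ : ∃ G : FusionSystem T, F.IsNormalizerSystem Y G :=
    ⟨_, isNormalizerSystem_normalizerSystem Y hYS⟩
  have hfT : ∀ x ∈ D, f x ∈ T := by
    intro x hx
    refine ⟨hf.apply_mem hx, mem_normalizer_of_cj_le hYS fun y hy => ?_⟩
    obtain ⟨z, hz, rfl⟩ := (hf.restrict_to le_sup_right).mem_im.mp (him.symm ▸ hy)
    rw [← hf.map_cj hx (Subgroup.mem_sup_right hz)]
    exact him ▸ apply_mem_im (cj_mem_of_normalizer (hDT hx).2 hz)
  have hfG : Mor G D f := (mor_normalizerSystem_iff hG).mpr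
    ⟨hf, hDT, hfT, f, by rwa [hD, sup_assoc, sup_idem], fun _ _ => rfl, him⟩
  have h : FusionSysModel.Hyp p G Y :=
    ⟨hS.to_le hTS, FusionSysNormalizer.normalizerSystem_saturated hS hF hYn hG,
      FusionModelTools.normal_normalizerSystem hYS hG,
      FusionModelTools.centric_normalizerSystem hYc hG⟩
  haveI := FusionSysModel.k0_normal h
  obtain ⟨hfin, hι, ⟨Tl, hTl⟩, hLc⟩ :
      G.IsModel p (FusionSysModel.Model h) (FusionSysModel.iota h) := FusionSysModel.isModel h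
  haveI := hfin
  exact mor_model hS hC hCE hN hNE hYn hbig hG hι Tl hTl hLc hVY hfG

theorem generated (hS : IsPGroup p S) (hF : F.IsSaturated p)
    (hC : F.IsCentralizerSystem (agemo p S) C) (hCE : C.IsSubsystemOf E)
    (hN : F.IsNormalizerSystem (Cfsg.thompsonSubgroupAOf S) N) (hNE : N.IsSubsystemOf E) :
    ∀ {P : Subgroup Ω} {f : Ω → Ω}, Mor F P f → Mor E P f := by
  have hVS : agemo p S ≤ S := agemo_le.trans inf_le_left
  -- all maps from large subgroups, given `Good` for large normalizers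
  have hA : ∀ m, (∀ X : Subgroup Ω, Big F p X →
      m < Nat.card (FusionSystem.normalizerIn S X) → Good F E p X) →
      ∀ (P : Subgroup Ω) (f : Ω → Ω), Mor F P f → m ≤ Nat.card P → Mor E P f := by
    intro m hB P f hf hm
    refine mor_of_autGroup_bound hS hF E (m := m) (fun R hRn hmR α hα => ?_) hf hm
    have hRS := hRn.1
    have hα' : Mor F R (afun α) := (mem_autGroup hRS).mp hα
    rcases hRS.eq_or_lt with rfl | hlt
    · -- automorphisms of the whole group normalize `J`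
      haveI : Finite R := inferInstance
      have hJ : thomJ 0 R ≤ R := thomJ_le R
      have him : im (thomJ 0 R) (afun α) = thomJ 0 R := by
        refine (hα'.restrict_to hJ).im_self fun x hx => ?_
        have h2 := thomJ_map (n := 0) R.subtype_injective (⊤ : Subgroup R)
        rw [← MonoidHom.range_eq_map, Subgroup.range_subtype] at h2
        rw [h2] at hx ⊢
        obtain ⟨y, hy, rfl⟩ := hx
        refine ⟨α y, ?_, (afun_coe α y).symm⟩
        have h3 := thomJ_map (n := 0) (f := (α : R ≃* R).toMonoidHom) α.injective (⊤ : Subgroup R)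
        rw [Subgroup.map_top_of_surjective _ α.surjective] at h3
        rw [h3]
        exact ⟨y, hy, rfl⟩
      have h := mor_normJ hN hNE (A := R) (by rwa [sup_eq_left.mpr hJ]) him
      rwa [sup_eq_left.mpr hJ] at h
    · haveI := finite_normalizerIn (S := S) R
      obtain ⟨g, hg, hgα, hgC⟩ := exists_extension_centralizer
        (receptive_of_fullyNormalized hS hF hRn) hα' (im_afun α)
      set X := R ⊔ FusionSystem.centralizerIn S R with hX
      have hXS : X ≤ S := sup_le hRS inf_le_left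
      have hVX : agemo p S ≤ X := fun v hv => Subgroup.mem_sup_right (mem_centralizerIn.mpr
        ⟨hVS hv, fun r hr => by
          rw [cj_apply, mul_inv_eq_iff_eq_mul]
          exact (Subgroup.mem_centralizer_iff.mp (agemo_le hv).2 r (hRS hr)).symm⟩)
      have hTX : FusionSystem.normalizerIn S R ≤ FusionSystem.normalizerIn S X := by
        refine fun t ht => ⟨ht.1, mem_normalizer_of_cj_le hXS fun x hx => ?_⟩
        refine mor_sup_induction (mor_cj (F := F) hXS ht.1)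
          (fun a ha => Subgroup.mem_sup_left (cj_mem_of_normalizer ht.2 ha))
          (fun c hc => Subgroup.mem_sup_right (mem_centralizerIn.mpr
            ⟨cj_mem_S ht.1 (mem_centralizerIn.mp hc).1, fun r hr => ?_⟩)) hx
        have hr' : cj t⁻¹ r ∈ R := cj_mem_of_normalizer (inv_mem ht.2) hr
        conv_lhs => rw [← cj_cj_inv t r]
        rw [cj_cj, show cj t c * t = t * c by rw [cj_apply, inv_mul_cancel_right], ← cj_cj,
          (mem_centralizerIn.mp hc).2 _ hr', cj_cj_inv]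
      have hcard : m < Nat.card (FusionSystem.normalizerIn S X) := by
        haveI := finite_normalizerIn (S := S) X
        exact (hmR.trans_lt (card_lt_normalizerIn hS hlt)).trans_le (Subgroup.card_le_of_le hTX)
      have himX : im X g = X := hg.im_self fun x hx => mor_sup_induction hg
        (fun a ha => Subgroup.mem_sup_left (by rw [hgα a ha]; exact afun_mem α ha))
        (fun c hc => Subgroup.mem_sup_right (hgC c hc)) hx
      have hE := hB X (big_of_centric (isCentric_sup_centralizerIn hS hF hRn)) hcard X g (by rwa [sup_idem]) (le_normalizerIn hXS) himX hVX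
      rw [sup_idem] at hE
      exact (hE.restrict_to le_sup_left).congr hgα
  -- `Good` by downward induction on the normalizer
  have hB : ∀ (k : ℕ) (X : Subgroup Ω), Big F p X →
      Nat.card S - Nat.card (FusionSystem.normalizerIn S X) = k → Good F E p X := by
    intro k
    induction k using Nat.strong_induction_on with
    | _ k ih =>
    intro X hX hk
    set m := Nat.card (FusionSystem.normalizerIn S X) with hm
    have hle : ∀ X' : Subgroup Ω, Nat.card (FusionSystem.normalizerIn S X') ≤ Nat.card S :=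
      fun X' => Subgroup.card_le_of_le inf_le_left
    have hbig : ∀ X' : Subgroup Ω, Big F p X' →
        m < Nat.card (FusionSystem.normalizerIn S X') → Good F E p X' :=
      fun X' h1 h3 => ih _ (by have := hle X'; have := hle X; omega) X' h1 rfl
    have hEm := hA m hbig
    -- reduce to fully normalized subgroups
    have hred : ∀ X₁ : Subgroup Ω, Big F p X₁ →
        m ≤ Nat.card (FusionSystem.normalizerIn S X₁) →
        (∀ Y, F.IsFullyNormalized Y → F.IsConj X₁ Y → agemo p S ≤ Y →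
          Nat.card (FusionSystem.normalizerIn S Y) = m → Good F E p Y) → Good F E p X₁ := by
      intro X₁ h1 h3 h4
      obtain ⟨Y, hXY, hY⟩ := exists_fullyNormalized (F := F) h1.1
      obtain ⟨ψ, hψ, hψN, hψX⟩ := exists_map_to_fullyNormalized hS hF hY hXY
      have hψE : Mor E _ ψ := hEm _ ψ hψ h3
      have hVY : agemo p S ≤ Y := hψX ▸ h1.2 ψ hψ
      refine good_transport h1.1 ?_ hψ hψE hψN hψX hVY
      have hge : m ≤ Nat.card (FusionSystem.normalizerIn S Y) := h3.trans (hY.2 X₁ (isConj_symm hXY))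
      rcases hge.eq_or_lt with h | h
      · exact h4 Y hY hXY hVY h.symm
      · have hBY : Big F p Y := by
          refine ⟨hY.1, fun χ hχ => ?_⟩
          have h5 := h1.2 (χ ∘ ψ) (hψ.comp hχ hψN)
          rwa [← (hψ.restrict_to (le_normalizerIn h1.1)).im_comp, hψX] at h5
        exact hbig Y hBY h
    refine hred X hX le_rfl fun Y hY _ hVY hYm => ?_
    -- Frattini argument to `Y C_S(Y)`
    intro A f hf hA' him _
    set C' := FusionSystem.centralizerIn S Y with hC'
    haveI := finite_centralizerIn (S := S) Y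
    set N₀ := A ⊔ C' with hN₀
    have hN₀T : N₀ ≤ FusionSystem.normalizerIn S Y := sup_le hA' centralizerIn_le_normalizerIn
    have hfY := hf.restrict_to (le_sup_right : Y ≤ A ⊔ Y)
    obtain ⟨β, hβ, hβf⟩ := (receptive_iff.mp (receptive_of_fullyNormalized hS hF hY)).2 Y f N₀
      hfY him (hN₀T.trans inf_le_left) (hN₀T.trans inf_le_right) (fun g hg => by
        let L : Subgroup Ω :=
          { carrier := {g | g ∈ FusionSystem.normalizerIn S Y ∧
              ∃ t ∈ S, ∀ x ∈ Y, f (cj g x) = cj t (f x)}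
            one_mem' := ⟨one_mem _, 1, one_mem _, fun x hx => by rw [cj_one, cj_one]⟩
            mul_mem' := fun {a b} ha hb => by
              obtain ⟨s, hs, hs'⟩ := ha.2
              obtain ⟨t, ht, ht'⟩ := hb.2
              refine ⟨mul_mem ha.1 hb.1, s * t, S.mul_mem hs ht, fun x hx => ?_⟩
              rw [← cj_cj, hs' _ (cj_mem_of_normalizer hb.1.2 hx), ht' x hx, cj_cj]
            inv_mem' := fun {a} ha => by
              obtain ⟨s, hs, hs'⟩ := ha.2
              refine ⟨inv_mem ha.1, s⁻¹, S.inv_mem hs, fun x hx => ?_⟩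
              have h1 := hs' _ (cj_mem_of_normalizer (inv_mem ha.1).2 hx)
              rw [cj_cj_inv] at h1
              rw [h1, cj_inv_cj] }
        have hle' : N₀ ≤ L := sup_le
          (fun a ha => ⟨hA' ha, f a, hf.apply_mem (Subgroup.mem_sup_left ha), fun x hx =>
            hf.map_cj (Subgroup.mem_sup_left ha) (Subgroup.mem_sup_right hx)⟩)
          (fun c hc => ⟨centralizerIn_le_normalizerIn hc, 1, one_mem _, fun x hx => by
            rw [(mem_centralizerIn.mp hc).2 x hx, cj_one]⟩)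
        exact (hle' hg).2)
    set Y' := Y ⊔ C' with hY'
    have hY'S : Y' ≤ S := sup_le hY.1 inf_le_left
    have hY'D : Y' ≤ Y ⊔ N₀ := sup_le le_sup_left (le_sup_right.trans le_sup_right)
    have hβC : ∀ c ∈ C', β c ∈ C' := fun c hc => by
      have hc' : c ∈ Y ⊔ N₀ := hY'D (Subgroup.mem_sup_right hc)
      refine mem_centralizerIn.mpr ⟨hβ.apply_mem hc', fun y hy => ?_⟩
      obtain ⟨x, hx, rfl⟩ := hfY.mem_im.mp (him.symm ▸ hy)
      rw [← hβf x hx, ← hβ.map_cj hc' (Subgroup.mem_sup_left hx),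
        (mem_centralizerIn.mp hc).2 x hx]
    have hβCim : im C' β = C' :=
      (hβ.restrict_to ((le_sup_right : C' ≤ Y').trans hY'D)).im_self hβC
    have hTY : FusionSystem.normalizerIn S Y ≤ FusionSystem.normalizerIn S Y' := by
      refine fun t ht => ⟨ht.1, mem_normalizer_of_cj_le hY'S fun x hx => ?_⟩
      refine mor_sup_induction (mor_cj (F := F) hY'S ht.1)
        (fun a ha => Subgroup.mem_sup_left (cj_mem_of_normalizer ht.2 ha))
        (fun c hc => Subgroup.mem_sup_right (mem_centralizerIn.mpr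
          ⟨cj_mem_S ht.1 (mem_centralizerIn.mp hc).1, fun r hr => ?_⟩)) hx
      have hr' : cj t⁻¹ r ∈ Y := cj_mem_of_normalizer (inv_mem ht.2) hr
      conv_lhs => rw [← cj_cj_inv t r]
      rw [cj_cj, show cj t c * t = t * c by rw [cj_apply, inv_mul_cancel_right], ← cj_cj,
        (mem_centralizerIn.mp hc).2 _ hr', cj_cj_inv]
    have hgoodY' : Good F E p Y' := by
      haveI := finite_normalizerIn (S := S) Y'
      have hge : m ≤ Nat.card (FusionSystem.normalizerIn S Y') :=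
        hYm ▸ Subgroup.card_le_of_le hTY
      refine hred Y' (big_of_centric (isCentric_sup_centralizerIn hS hF hY)) hge
        fun Z hZ hZc _ hZm => ?_
      have hcZ : F.IsCentric Z :=
        ⟨hZ.1, fun Q hQ => (isCentric_sup_centralizerIn hS hF hY).2 Q (isConj_trans hZc hQ)⟩
      exact good_centric hS hF hC hCE hN hNE hZ hcZ
        fun X' h1 h3 => hbig X' h1 (hZm ▸ h3)
    have him' : im Y' β = Y' := (hβ.restrict_to hY'D).im_self fun x hx =>
      mor_sup_induction (hβ.restrict_to hY'D)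
        (fun a ha => Subgroup.mem_sup_left (by rw [hβf a ha]; exact him ▸ apply_mem_im ha))
        (fun c hc => Subgroup.mem_sup_right (hβC c hc)) hx
    have hβE : Mor E (Y ⊔ N₀) β := by
      have h := hgoodY' N₀ β (hβ.restrict_to (sup_le le_sup_right hY'D)) (hN₀T.trans hTY) him'
        (hVY.trans le_sup_left)
      exact h.restrict_to (sup_le ((le_sup_left : Y ≤ Y').trans le_sup_right) le_sup_left)
    -- `f = β ∘ χ` with `χ` fixing `Y`
    have hfD : ∀ x ∈ A ⊔ Y, f x ∈ im (Y ⊔ N₀) β := by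
      intro x hx
      refine mor_sup_induction (T := im (Y ⊔ N₀) β) hf (fun a ha => ?_)
        (fun y hy => (hβf y hy) ▸ apply_mem_im (Subgroup.mem_sup_left hy)) hx
      have ha' : a ∈ Y ⊔ N₀ := Subgroup.mem_sup_right (Subgroup.mem_sup_left ha)
      have hc : (β a)⁻¹ * f a ∈ C' := by
        refine mem_centralizerIn.mpr ⟨S.mul_mem (S.inv_mem (hβ.apply_mem ha'))
          (hf.apply_mem (Subgroup.mem_sup_left ha)), fun y hy => ?_⟩
        obtain ⟨x, hx, rfl⟩ := hfY.mem_im.mp (him.symm ▸ hy)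
        have hax : cj a x ∈ Y := cj_mem_of_normalizer (hA' ha).2 hx
        rw [← cj_cj, ← hf.map_cj (Subgroup.mem_sup_left ha) (Subgroup.mem_sup_right hx),
          ← hβf _ hax, hβ.map_cj ha' (Subgroup.mem_sup_left hx), cj_inv_cj, hβf x hx]
      rw [show f a = β a * ((β a)⁻¹ * f a) from (mul_inv_cancel_left _ _).symm]
      exact mul_mem (apply_mem_im ha')
        (im_mono ((le_sup_right : C' ≤ Y').trans hY'D) (hβCim.symm ▸ hc))
    obtain ⟨k', hk', hkl, hkr, -⟩ := hβ.exists_inv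
    have hχE : Mor E (A ⊔ Y) (k' ∘ f) := mor_fix hC hCE (hf.comp hk' hfD)
      (hVY.trans le_sup_right) fun v hv => by
      show k' (f v) = v
      rw [← hβf v (hVY hv)]
      exact hkl v (Subgroup.mem_sup_left (hVY hv))
    refine (hχE.comp hβE fun x hx => ?_).congr fun x hx => hkr _ (hfD x hx)
    obtain ⟨y, hy, hye⟩ := hβ.mem_im.mp (hfD x hx)
    show k' (f x) ∈ Y ⊔ N₀
    rw [← hye, hkl y hy]
    exact hy
  intro P f hf
  exact hA 0 (fun X h1 _ => hB _ X h1 rfl) P f hf (Nat.zero_le _)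

end Cfsg.Agent.FusionAgemoThompson
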