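import Cfsg.Agent.Lib.FusionMarks
import Cfsg.Agent.Lib.FusionSysSaturated

/-!
# A right-stable virtual biset for a saturated fusion system

A combination of transitive `S × S`-sets with point stabilisers twisted diagonals of the system,
whose number of fixed points at a twisted diagonal depends only on the second projection, and
whose degree is prime to `p` (a semicharacteristic biset).
-/

set_option autoImplicit false

namespace Cfsg.Agent.FusionBiset

open Cfsg Cfsg.FusionSystem Cfsg.Agent.FusionSysBasic Cfsg.Agent.FusionSysSaturated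
open Cfsg.Agent.FusionMarks

variable {Ω : Type*} [Group Ω] {S : Subgroup Ω} {F : FusionSystem S} {p : ℕ}

/-- The second projection of a subgroup of `S × S`. -/
abbrev sndImg (K : Subgroup (↥S × ↥S)) : Subgroup Ω :=
  (K.map (MonoidHom.snd ↥S ↥S)).map S.subtype

/-- The first projection of a subgroup of `S × S`. -/
abbrev fstImg (K : Subgroup (↥S × ↥S)) : Subgroup Ω :=
  (K.map (MonoidHom.fst ↥S ↥S)).map S.subtype

theorem mem_sndImg {K : Subgroup (↥S × ↥S)} {x : Ω} :
    x ∈ sndImg K ↔ ∃ q ∈ K, (q.2 : Ω) = x := by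
  simp only [sndImg, Subgroup.mem_map]
  constructor
  · rintro ⟨_, ⟨q, hq, rfl⟩, rfl⟩; exact ⟨q, hq, rfl⟩
  · rintro ⟨q, hq, rfl⟩; exact ⟨q.2, ⟨q, hq, rfl⟩, rfl⟩

theorem mem_fstImg {K : Subgroup (↥S × ↥S)} {x : Ω} :
    x ∈ fstImg K ↔ ∃ q ∈ K, (q.1 : Ω) = x := by
  simp only [fstImg, Subgroup.mem_map]
  constructor
  · rintro ⟨_, ⟨q, hq, rfl⟩, rfl⟩; exact ⟨q, hq, rfl⟩
  · rintro ⟨q, hq, rfl⟩; exact ⟨q.1, ⟨q, hq, rfl⟩, rfl⟩

theorem sndImg_le (K : Subgroup (↥S × ↥S)) : sndImg K ≤ S := Subgroup.map_subtype_le _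

theorem fstImg_le (K : Subgroup (↥S × ↥S)) : fstImg K ≤ S := Subgroup.map_subtype_le _

/-- `K` is a twisted diagonal of the system: first coordinates are images of the second ones. -/
def Diag (F : FusionSystem S) (K : Subgroup (↥S × ↥S)) : Prop :=
  ∃ f : Ω → Ω, Mor F (sndImg K) f ∧ ∀ q ∈ K, (q.1 : Ω) = f q.2

theorem diag_mono {K L : Subgroup (↥S × ↥S)} (h : Diag F L) (hle : K ≤ L) : Diag F K := by
  obtain ⟨f, hf, he⟩ := h
  exact ⟨f, hf.restrict_to (Subgroup.map_mono (Subgroup.map_mono hle)), fun q hq => he q (hle hq)⟩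

theorem eq_of_snd {K : Subgroup (↥S × ↥S)} (h : Diag F K) {q q' : ↥S × ↥S} (hq : q ∈ K)
    (hq' : q' ∈ K) (e : (q.2 : Ω) = q'.2) : q = q' := by
  obtain ⟨f, -, he⟩ := h
  exact Prod.ext (Subtype.ext (by rw [he q hq, he q' hq', e])) (Subtype.ext e)

theorem card_sndImg {K : Subgroup (↥S × ↥S)} (h : Diag F K) :
    Nat.card (sndImg K) = Nat.card K := by
  refine (Nat.card_congr (Equiv.ofBijective
    (fun q : K => (⟨((q : ↥S × ↥S).2 : Ω), mem_sndImg.mpr ⟨q, q.2, rfl⟩⟩ : sndImg K))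
    ⟨fun a b e => Subtype.ext (eq_of_snd h a.2 b.2 (congrArg (fun z : sndImg K => (z : Ω)) e :)), fun x => ?_⟩)).symm
  obtain ⟨q, hq, e⟩ := mem_sndImg.mp x.2
  exact ⟨⟨q, hq⟩, Subtype.ext e⟩

/-- The twisted diagonal of a map. -/
def graph {P : Subgroup Ω} {f : Ω → Ω} (hf : Mor F P f) : Subgroup (↥S × ↥S) where
  carrier := {q | (q.2 : Ω) ∈ P ∧ (q.1 : Ω) = f q.2}
  one_mem' := ⟨P.one_mem, hf.map_one.symm⟩
  mul_mem' {a b} := fun ⟨ha, ha'⟩ ⟨hb, hb'⟩ =>
    ⟨P.mul_mem ha hb, by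
      show (a.1 : Ω) * b.1 = f ((a.2 : Ω) * b.2)
      rw [ha', hb', hf.map_mul ha hb]⟩
  inv_mem' {a} := fun ⟨ha, ha'⟩ =>
    ⟨P.inv_mem ha, by
      show (a.1 : Ω)⁻¹ = f (a.2 : Ω)⁻¹
      rw [ha', hf.map_inv ha]⟩

theorem mem_graph {P : Subgroup Ω} {f : Ω → Ω} {hf : Mor F P f} {q : ↥S × ↥S} :
    q ∈ graph hf ↔ (q.2 : Ω) ∈ P ∧ (q.1 : Ω) = f q.2 :=
  Iff.rfl

theorem sndImg_graph {P : Subgroup Ω} {f : Ω → Ω} (hf : Mor F P f) : sndImg (graph hf) = P := by
  ext x
  rw [mem_sndImg]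
  exact ⟨fun ⟨q, hq, e⟩ => e ▸ hq.1,
    fun hx => ⟨(⟨f x, hf.apply_mem hx⟩, ⟨x, hf.le hx⟩), ⟨hx, rfl⟩, rfl⟩⟩

theorem diag_graph {P : Subgroup Ω} {f : Ω → Ω} (hf : Mor F P f) : Diag F (graph hf) :=
  ⟨f, by rwa [sndImg_graph], fun _ hq => hq.2⟩

theorem diag_cj {K : Subgroup (↥S × ↥S)} (h : Diag F K) (t : ↥S × ↥S) :
    Diag F (TransferAlperin.cj t K) := by
  obtain ⟨f, hf, he⟩ := h
  have hsub : ∀ x ∈ sndImg (TransferAlperin.cj t K), cj (t.2 : Ω)⁻¹ x ∈ sndImg K := by
    intro x hx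
    obtain ⟨q, hq, rfl⟩ := mem_sndImg.mp hx
    refine mem_sndImg.mpr ⟨t⁻¹ * q * t, TransferAlperin.mem_cj.mp hq, ?_⟩
    simp [cj_apply]
  refine ⟨cj (t.1 : Ω) ∘ (f ∘ cj (t.2 : Ω)⁻¹),
    ((mor_cj (sndImg_le _) (S.inv_mem t.2.2)).comp hf hsub).comp (mor_cj le_rfl t.1.2)
      (fun x hx => hf.apply_mem (hsub x hx)), fun q hq => ?_⟩
  have h1 := he _ (TransferAlperin.mem_cj.mp hq)
  simp only [Prod.fst_mul, Prod.snd_mul, Prod.fst_inv, Prod.snd_inv, Subgroup.coe_mul,
    Subgroup.coe_inv] at h1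
  show (q.1 : Ω) = cj (t.1 : Ω) (f (cj (t.2 : Ω)⁻¹ q.2))
  rw [cj_apply (t.2 : Ω)⁻¹, inv_inv, ← h1, cj_apply]
  group

theorem sndImg_cj (K : Subgroup (↥S × ↥S)) (t : ↥S × ↥S) :
    sndImg (TransferAlperin.cj t K) = TransferAlperin.cj (t.2 : Ω) (sndImg K) := by
  ext x
  rw [mem_sndImg, TransferAlperin.mem_cj, mem_sndImg]
  constructor
  · rintro ⟨q, hq, rfl⟩
    exact ⟨t⁻¹ * q * t, TransferAlperin.mem_cj.mp hq, by simp⟩
  · rintro ⟨q, hq, e⟩
    exact ⟨t * q * t⁻¹, TransferAlperin.conj_mem_cj hq, by simp [e, mul_assoc]⟩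

theorem mark_eq_zero_of_not_diag {L K : Subgroup (↥S × ↥S)} (hL : Diag F L) (hK : ¬ Diag F K) :
    mark L K = 0 := by
  by_contra h
  obtain ⟨t, ht⟩ := exists_le_cj_of_mark_ne_zero h
  exact hK (diag_mono (diag_cj hL t) ht)

variable [Finite S]

noncomputable instance : Fintype (Subgroup (↥S × ↥S)) := Fintype.ofFinite _

/-- The number of fixed points of a virtual biset. -/
noncomputable def marks (a : Subgroup (↥S × ↥S) → ℤ) (K : Subgroup (↥S × ↥S)) : ℤ :=
  ∑ L, a L * (mark L K : ℤ)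

theorem marks_eq_zero {a : Subgroup (↥S × ↥S) → ℤ} (ha : ∀ L, a L ≠ 0 → Diag F L)
    {K : Subgroup (↥S × ↥S)} (hK : ¬ Diag F K) : marks a K = 0 := by
  refine Finset.sum_eq_zero fun L _ => ?_
  rcases eq_or_ne (a L) 0 with h | h
  · rw [h, zero_mul]
  · rw [mark_eq_zero_of_not_diag (ha L h) hK, Nat.cast_zero, mul_zero]

theorem marks_cj (a : Subgroup (↥S × ↥S) → ℤ) (K : Subgroup (↥S × ↥S)) (t : ↥S × ↥S) :
    marks a (TransferAlperin.cj t K) = marks a K :=
  Finset.sum_congr rfl fun L _ => by rw [mark_cj]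

/-- Fixed points on twisted diagonals of order at least `n` depend only on the second projection. -/
def StableAbove (F : FusionSystem S) (a : Subgroup (↥S × ↥S) → ℤ) (n : ℕ) : Prop :=
  ∀ K K', Diag F K → Diag F K' → n ≤ Nat.card K → sndImg K = sndImg K' → marks a K = marks a K'

variable [hp : Fact p.Prime]

/-- The standard diagonal over `R`: the second projection is mapped to a fully normalized
subgroup with its normalizer. -/
def IsTop (F : FusionSystem S) {R : Subgroup Ω} (f : Ω → Ω) : Prop :=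
  Mor F (normalizerIn S R) f ∧ F.IsFullyNormalized (im R f) ∧
    ∀ x ∈ normalizerIn S R, f x ∈ normalizerIn S (im R f)

theorem exists_isTop (hS : IsPGroup p S) (hF : F.IsSaturated p) {R : Subgroup Ω} (hR : R ≤ S) :
    ∃ f, IsTop F (R := R) f := by
  obtain ⟨P, hP, hPn⟩ := exists_fullyNormalized (F := F) hR
  obtain ⟨f, hf, hfN, him⟩ := exists_map_to_fullyNormalized hS hF hPn hP
  exact ⟨f, hf, him ▸ hPn, fun x hx => him ▸ hfN x hx⟩

theorem dvd_marks_sub (hS : IsPGroup p S) (hF : F.IsSaturated p) {a : Subgroup (↥S × ↥S) → ℤ}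
    (ha : ∀ L, a L ≠ 0 → Diag F L) {n : ℕ} (hst : StableAbove F a (n + 1))
    {K : Subgroup (↥S × ↥S)} (hK : Diag F K) (hn : Nat.card K = n) {R : Subgroup Ω}
    (hR : sndImg K = R) {f : Ω → Ω} (hf : IsTop F (R := R) f) :
    (mark K K : ℤ) ∣ marks a K - marks a (graph (hf.1.restrict_to
      (le_normalizerIn (hR ▸ sndImg_le K)))) := by
  classical
  subst hR
  obtain ⟨hfN, hPn, hfmem⟩ := hf
  obtain ⟨f', hf', he'⟩ := hK
  set fK := hfN.restrict_to (le_normalizerIn (sndImg_le K))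
  set K₀ := graph fK
  set N := Subgroup.normalizer (K : Set (↥S × ↥S))
  -- conjugation by `N` on the two projections
  have hN2 : ∀ q ∈ N, (q.2 : Ω) ∈ normalizerIn S (sndImg K) := by
    intro q hq
    refine mem_normalizerIn.mpr ⟨q.2.2, mem_normalizer_of_cj_le (sndImg_le K) fun x hx => ?_⟩
    obtain ⟨k, hk, rfl⟩ := mem_sndImg.mp hx
    exact mem_sndImg.mpr ⟨q * k * q⁻¹, (Subgroup.mem_normalizer_iff.mp hq k).mp hk,
      by simp [cj_apply]⟩
  obtain ⟨j, hj, hjl, hjr, hjP⟩ := hf'.exists_inv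
  set P' := im (sndImg K) f'
  have hP' : ∀ k ∈ K, (k.1 : Ω) ∈ P' := fun k hk =>
    he' k hk ▸ apply_mem_im (mem_sndImg.mpr ⟨k, hk, rfl⟩)
  have hP'e : ∀ x ∈ P', ∃ k ∈ K, (k.1 : Ω) = x := by
    intro x hx
    obtain ⟨y, hy, rfl⟩ := hf'.mem_im.mp hx
    obtain ⟨k, hk, rfl⟩ := mem_sndImg.mp hy
    exact ⟨k, hk, he' k hk⟩
  have hjk : ∀ k ∈ K, j k.1 = k.2 := fun k hk => by
    rw [he' k hk, hjl _ (mem_sndImg.mpr ⟨k, hk, rfl⟩)]
  have hγ : Mor F P' (f ∘ j) := hj.comp fK hjP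
  have him : im P' (f ∘ j) = im (sndImg K) f := by
    rw [← hj.im_comp f]
    congr 1
    refine le_antisymm (im_le_iff.mpr hjP) fun x hx => ?_
    rw [← hjl x hx]
    exact apply_mem_im (apply_mem_im hx)
  have hN1 : fstImg N ≤ Subgroup.normalizer (P' : Set Ω) := by
    intro g hg
    obtain ⟨q, hq, rfl⟩ := mem_fstImg.mp hg
    refine mem_normalizer_of_cj_le hf'.im_le fun x hx => ?_
    obtain ⟨k, hk, rfl⟩ := hP'e x hx
    have := hP' _ ((Subgroup.mem_normalizer_iff.mp hq k).mp hk)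
    simpa [cj_apply] using this
  obtain ⟨-, hrec⟩ := receptive_iff.mp (receptive_of_fullyNormalized hS hF hPn)
  obtain ⟨γ, hγm, hγe⟩ := hrec P' (f ∘ j) (fstImg N) hγ him (fstImg_le N) hN1 (by
    intro g hg
    obtain ⟨q, hq, rfl⟩ := mem_fstImg.mp hg
    refine ⟨f q.2, hfN.apply_mem (hN2 q hq), fun x hx => ?_⟩
    obtain ⟨k, hk, rfl⟩ := hP'e x hx
    have hk' : q * k * q⁻¹ ∈ K := (Subgroup.mem_normalizer_iff.mp hq k).mp hk
    have e1 : j (cj (q.1 : Ω) k.1) = cj (q.2 : Ω) k.2 := by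
      have := hjk _ hk'
      simpa [cj_apply] using this
    show f (j (cj (q.1 : Ω) k.1)) = cj (f q.2) (f (j k.1))
    rw [e1, hjk k hk]
    exact hfN.map_cj (hN2 q hq) (le_normalizerIn (sndImg_le K) (mem_sndImg.mpr ⟨k, hk, rfl⟩)))
  have hNmem : ∀ q ∈ N, (q.1 : Ω) ∈ P' ⊔ fstImg N := fun q hq =>
    Subgroup.mem_sup_right (mem_fstImg.mpr ⟨q, hq, rfl⟩)
  -- the map on the normalizer
  let β : N →* ↥S × ↥S :=
    { toFun := fun q => (⟨γ (q : ↥S × ↥S).1, hγm.apply_mem (hNmem q q.2)⟩, (q : ↥S × ↥S).2)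
      map_one' := Prod.ext (Subtype.ext hγm.map_one) rfl
      map_mul' := fun a b => Prod.ext (Subtype.ext (hγm.map_mul (hNmem a a.2) (hNmem b b.2))) rfl }
  have hβi : Function.Injective β := by
    intro a b e
    refine Subtype.ext (Prod.ext (Subtype.ext ?_) (congrArg Prod.snd e :))
    exact hγm.injOn (hNmem a a.2) (hNmem b b.2) (congrArg (fun z => (z.1 : Ω)) e)
  have hKN : K ≤ N := Subgroup.le_normalizer
  have hβK : (K.subgroupOf N).map β = K₀ := by
    refine le_antisymm ?_ ?_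
    · rintro _ ⟨q, hq, rfl⟩
      refine ⟨mem_sndImg.mpr ⟨q, hq, rfl⟩, ?_⟩
      show γ (q : ↥S × ↥S).1 = f (q : ↥S × ↥S).2
      exact (hγe _ (hP' _ hq)).trans (congrArg f (hjk _ hq))
    · rintro q ⟨hq2, hq1⟩
      obtain ⟨k, hk, e⟩ := mem_sndImg.mp hq2
      refine ⟨⟨k, hKN hk⟩, hk, Prod.ext (Subtype.ext ?_) (Subtype.ext e)⟩
      show γ k.1 = q.1
      rw [hγe _ (hP' k hk), hq1, ← e]
      exact congrArg f (hjk k hk)
  set M := β.range
  have hMn : M ≤ Subgroup.normalizer (K₀ : Set (↥S × ↥S)) := by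
    rintro _ ⟨q, rfl⟩
    refine TransferAlperin.mem_normalizer_of_cj_eq ?_
    conv_rhs => rw [← hβK, ← TransferAlperin.cj_eq_self (g := q) (T := K.subgroupOf N)
      (Subgroup.normalizer_eq_top (H := K.subgroupOf N) ▸ Subgroup.mem_top q)]
    rw [← hβK]
    show _ = Subgroup.map β (Subgroup.map _ _)
    rw [TransferAlperin.cj, Subgroup.map_map, Subgroup.map_map]
    congr 1
    ext x <;> simp
  haveI : Fintype N := Fintype.ofFinite _
  haveI : Fintype M := Fintype.ofFinite _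
  let e := MonoidHom.ofInjective hβi
  -- transport of diagonals
  have hterm : ∀ w : N, (w : ↥S × ↥S) ∉ K →
      marks a (K ⊔ Subgroup.zpowers (w : ↥S × ↥S)) =
        marks a (K₀ ⊔ Subgroup.zpowers (β w)) := by
    intro w hw
    set L := K ⊔ Subgroup.zpowers (w : ↥S × ↥S)
    have hLN : L ≤ N := sup_le hKN (Subgroup.zpowers_le.mpr w.2)
    have hβL : (L.subgroupOf N).map β = K₀ ⊔ Subgroup.zpowers (β w) := by
      rw [← hβK, ← MonoidHom.map_zpowers, ← Subgroup.map_sup]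
      congr 1
      apply Subgroup.map_injective N.subtype_injective
      rw [Subgroup.map_sup, MonoidHom.map_zpowers, Subgroup.map_subgroupOf_eq_of_le hLN,
        Subgroup.map_subgroupOf_eq_of_le hKN]
      rfl
    rw [← hβL]
    set L₀ := (L.subgroupOf N).map β
    have hsnd : sndImg L₀ = sndImg L := by
      ext x
      rw [mem_sndImg, mem_sndImg]
      constructor
      · rintro ⟨_, ⟨q, hq, rfl⟩, rfl⟩
        exact ⟨q, hq, rfl⟩
      · rintro ⟨q, hq, rfl⟩
        exact ⟨_, ⟨⟨q, hLN hq⟩, hq, rfl⟩, rfl⟩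
    have hlt : n + 1 ≤ Nat.card L := by
      rw [← hn]
      refine Nat.lt_of_le_of_ne (Subgroup.card_le_of_le le_sup_left) fun h => hw ?_
      rw [Subgroup.eq_of_le_of_card_ge (le_sup_left : K ≤ L) h.ge]
      exact Subgroup.mem_sup_right (Subgroup.mem_zpowers _)
    by_cases hL : Diag F L
    · refine hst L L₀ hL ?_ hlt hsnd.symm
      obtain ⟨g, hg, hge⟩ := id hL
      have hgm : ∀ x ∈ sndImg L, g x ∈ P' ⊔ fstImg N := by
        intro x hx
        obtain ⟨q, hq, rfl⟩ := mem_sndImg.mp hx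
        rw [← hge q hq]
        exact hNmem q (hLN hq)
      refine ⟨γ ∘ g, hsnd.symm ▸ hg.comp hγm hgm, ?_⟩
      rintro _ ⟨q, hq, rfl⟩
      exact congrArg γ (hge q hq)
    · rw [marks_eq_zero ha hL, marks_eq_zero ha]
      intro hL₀
      refine hL ?_
      obtain ⟨g, hg, hge⟩ := id hL₀
      obtain ⟨i, hi, hil, -, -⟩ := hγm.exists_inv
      rw [hsnd] at hg
      have hgm : ∀ x ∈ sndImg L, g x ∈ im (P' ⊔ fstImg N) γ := by
        intro x hx
        obtain ⟨q, hq, rfl⟩ := mem_sndImg.mp hx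
        have e1 : γ q.1 = g q.2 := hge (β ⟨q, hLN hq⟩) ⟨_, hq, rfl⟩
        rw [← e1]
        exact apply_mem_im (hNmem q (hLN hq))
      refine ⟨i ∘ g, hg.comp hi hgm, fun q hq => ?_⟩
      have e1 : γ q.1 = g q.2 := hge (β ⟨q, hLN hq⟩) ⟨_, hq, rfl⟩
      show (q.1 : Ω) = i (g q.2)
      rw [← e1, hil _ (hNmem q (hLN hq))]
  have h1 : (Nat.card N : ℤ) ∣ ∑ w : N, marks a (K ⊔ Subgroup.zpowers (w : ↥S × ↥S)) := by
    simp only [marks]
    rw [Finset.sum_comm]
    refine Finset.dvd_sum fun L _ => ?_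
    rw [← Finset.mul_sum]
    exact dvd_mul_of_dvd_right (dvd_sum_mark L le_rfl) _
  have h2 : (Nat.card N : ℤ) ∣ ∑ w : N, marks a (K₀ ⊔ Subgroup.zpowers (β w)) := by
    have hc : Nat.card N = Nat.card M := Nat.card_congr e.toEquiv
    have he : ∑ w : N, marks a (K₀ ⊔ Subgroup.zpowers (β w)) =
        ∑ m : M, marks a (K₀ ⊔ Subgroup.zpowers (m : ↥S × ↥S)) :=
      Fintype.sum_equiv e.toEquiv _ _ (fun w => rfl)
    rw [hc, he]
    simp only [marks]
    rw [Finset.sum_comm]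
    refine Finset.dvd_sum fun L _ => ?_
    rw [← Finset.mul_sum]
    exact dvd_mul_of_dvd_right (dvd_sum_mark L hMn) _
  have h3 := dvd_sub h1 h2
  rw [← Finset.sum_sub_distrib, ← Finset.sum_subset
    (Finset.subset_univ (Finset.univ.filter fun w : N => (w : ↥S × ↥S) ∈ K)) (fun w _ hw => by
      rw [hterm w (fun h => hw (Finset.mem_filter.mpr ⟨Finset.mem_univ _, h⟩)), sub_self])] at h3
  rw [Finset.sum_congr rfl (g := fun _ => marks a K - marks a K₀) (fun w hw => by
    have hwK := (Finset.mem_filter.mp hw).2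
    have hwK₀ : β w ∈ K₀ := hβK ▸ ⟨w, hwK, rfl⟩
    rw [sup_eq_left.mpr (Subgroup.zpowers_le.mpr hwK),
      sup_eq_left.mpr (Subgroup.zpowers_le.mpr hwK₀)]), Finset.sum_const, nsmul_eq_mul] at h3
  have hcard : (Finset.univ.filter fun w : N => (w : ↥S × ↥S) ∈ K).card = Nat.card K := by
    rw [← Nat.card_congr (Subgroup.subgroupOfEquivOfLe hKN).toEquiv, Nat.card_eq_fintype_card,
      ← Fintype.card_subtype]
    rfl
  rw [hcard, show (Nat.card N) = Nat.card K * mark K K from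
    ((mul_comm _ _).trans (mark_self K)).symm, Nat.cast_mul] at h3
  exact (mul_dvd_mul_iff_left (by exact_mod_cast Nat.card_pos.ne')).mp h3


/-! ### Representatives of conjugacy classes -/

/-- Conjugacy of subgroups of `S × S`. -/
def pairConj (S : Subgroup Ω) : Setoid (Subgroup (↥S × ↥S)) where
  r K L := ∃ t : ↥S × ↥S, L = TransferAlperin.cj t K
  iseqv :=
    { refl := fun K => ⟨1, (TransferAlperin.cj_one K).symm⟩
      symm := fun ⟨t, h⟩ => ⟨t⁻¹, by rw [h, TransferAlperin.cj_inv_cj]⟩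
      trans := fun ⟨t, h⟩ ⟨u, h'⟩ => ⟨u * t, by rw [h', h, TransferAlperin.cj_mul]⟩ }

/-- Conjugacy of subgroups of `Ω` under `S`. -/
def baseConj (S : Subgroup Ω) : Setoid (Subgroup Ω) where
  r K L := ∃ g ∈ S, L = TransferAlperin.cj g K
  iseqv :=
    { refl := fun K => ⟨1, S.one_mem, (TransferAlperin.cj_one K).symm⟩
      symm := fun ⟨t, ht, h⟩ => ⟨t⁻¹, S.inv_mem ht, by rw [h, TransferAlperin.cj_inv_cj]⟩
      trans := fun ⟨t, ht, h⟩ ⟨u, hu, h'⟩ =>
        ⟨u * t, S.mul_mem hu ht, by rw [h', h, TransferAlperin.cj_mul]⟩ }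

/-- A chosen conjugate. -/
noncomputable def rep (K : Subgroup (↥S × ↥S)) : Subgroup (↥S × ↥S) :=
  (Quotient.mk (pairConj S) K).out

omit [Finite S] in
theorem rep_conj (K : Subgroup (↥S × ↥S)) : ∃ t : ↥S × ↥S, rep K = TransferAlperin.cj t K :=
  (pairConj S).symm (Quotient.mk_out (s := pairConj S) K)

omit [Finite S] in
theorem rep_cj (K : Subgroup (↥S × ↥S)) (t : ↥S × ↥S) : rep (TransferAlperin.cj t K) = rep K :=
  congrArg Quotient.out (Quotient.sound' ((pairConj S).symm ⟨t, rfl⟩))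

omit [Finite S] in
theorem rep_rep (K : Subgroup (↥S × ↥S)) : rep (rep K) = rep K := by
  obtain ⟨t, ht⟩ := rep_conj K
  conv_lhs => rw [ht, rep_cj]

theorem mark_self_cj (K : Subgroup (↥S × ↥S)) (t : ↥S × ↥S) :
    mark (TransferAlperin.cj t K) (TransferAlperin.cj t K) = mark K K := by
  refine Nat.eq_of_mul_eq_mul_right (Nat.card_pos (α := K)) ?_
  rw [mark_self K, ← TransferAlperin.card_cj t K, mark_self, ← TransferAlperin.cj_normalizer,
    TransferAlperin.card_cj]

/-- The marks of a combination of chosen representatives of subgroups of order `n`. -/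
theorem marks_reps {δ : Subgroup (↥S × ↥S) → ℤ} {n : ℕ}
    (hδ : ∀ L, δ L ≠ 0 → Nat.card L = n ∧ rep L = L) {K : Subgroup (↥S × ↥S)} :
    (n < Nat.card K → marks δ K = 0) ∧
      (Nat.card K = n → marks δ K = δ (rep K) * mark K K) := by
  refine ⟨fun hK => Finset.sum_eq_zero fun L _ => ?_, fun hK => ?_⟩
  · rcases eq_or_ne (δ L) 0 with h | h
    · rw [h, zero_mul]
    · rw [mark_eq_zero_of_card_lt ((hδ L h).1 ▸ hK), Nat.cast_zero, mul_zero]
  rw [marks, Finset.sum_eq_single (rep K)]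
  · obtain ⟨t, ht⟩ := rep_conj K
    congr 2
    rw [← mark_cj (rep K) K t, ← ht, ht, mark_self_cj]
  · intro L _ hne
    rcases eq_or_ne (δ L) 0 with h | h
    · rw [h, zero_mul]
    rw [Nat.cast_eq_zero.mpr (by_contra fun hm => hne ?_), mul_zero]
    obtain ⟨t, ht⟩ := eq_cj_of_mark_ne_zero hm (le_of_eq ((hδ L h).1.trans hK.symm))
    rw [ht, rep_cj, (hδ L h).2]
  · simp

omit [Finite S] in
theorem diag_rep {K : Subgroup (↥S × ↥S)} (h : Diag F K) : Diag F (rep K) := by
  obtain ⟨t, ht⟩ := rep_conj K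
  exact ht ▸ diag_cj h t

theorem card_rep (K : Subgroup (↥S × ↥S)) : Nat.card (rep K) = Nat.card K := by
  obtain ⟨t, ht⟩ := rep_conj K
  rw [ht, TransferAlperin.card_cj]

theorem card_le_of_diag {K : Subgroup (↥S × ↥S)} (h : Diag F K) : Nat.card K ≤ Nat.card S :=
  card_sndImg h ▸ Subgroup.card_le_of_le (sndImg_le K)

/-! ### The stabilisation step -/

theorem exists_step (hS : IsPGroup p S) (hF : F.IsSaturated p) {a : Subgroup (↥S × ↥S) → ℤ}
    (ha : ∀ L, a L ≠ 0 → Diag F L) {n : ℕ} (hst : StableAbove F a (n + 1)) :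
    ∃ a', (∀ L, a' L ≠ 0 → Diag F L) ∧ StableAbove F a' n ∧
      ∀ L : Subgroup (↥S × ↥S), Nat.card L ≠ n → a' L = a L := by
  classical
  choose g hg using fun R : {R : Subgroup Ω // R ≤ S} => exists_isTop (F := F) hS hF R.2
  have hR₀ : ∀ R : Subgroup Ω, R ≤ S → (Quotient.mk (baseConj S) R).out ≤ S := by
    intro R hR x hx
    obtain ⟨b, hb, e⟩ := (baseConj S).symm (Quotient.mk_out (s := baseConj S) R)
    rw [e, TransferAlperin.mem_cj] at hx
    have := cj_mem_S hb (hR hx)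
    simpa [cj_apply, mul_assoc] using this
  let target : Subgroup (↥S × ↥S) → ℤ := fun K =>
    marks a (graph ((hg ⟨_, hR₀ _ (sndImg_le K)⟩).1.restrict_to
      (le_normalizerIn (hR₀ _ (sndImg_le K)))))
  have htarget : ∀ K K', (Quotient.mk (baseConj S) (sndImg K)) = Quotient.mk _ (sndImg K') →
      target K = target K' := by
    intro K K' e
    have e' : (⟨_, hR₀ _ (sndImg_le K)⟩ : {R : Subgroup Ω // R ≤ S}) =
        ⟨_, hR₀ _ (sndImg_le K')⟩ := Subtype.ext (congrArg Quotient.out e)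
    exact congrArg (fun R : {R : Subgroup Ω // R ≤ S} =>
      marks a (graph ((hg R).1.restrict_to (le_normalizerIn R.2)))) e'
  have htcj : ∀ K t, target (TransferAlperin.cj t K) = target K := fun K t => by
    refine htarget _ _ (Quotient.sound' ((baseConj S).symm ⟨t.2, t.2.2, ?_⟩))
    exact sndImg_cj K t
  have hdvd : ∀ K, Diag F K → Nat.card K = n → (mark K K : ℤ) ∣ target K - marks a K := by
    intro K hK hn
    obtain ⟨b, hb, e⟩ := (baseConj S).symm (Quotient.mk_out (s := baseConj S) (sndImg K))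
    set t : ↥S × ↥S := (1, ⟨b, hb⟩)
    have e' : sndImg (TransferAlperin.cj t K) = (Quotient.mk (baseConj S) (sndImg K)).out := by
      rw [sndImg_cj]; exact e.symm
    have h := dvd_marks_sub hS hF ha hst (diag_cj hK t) (by rwa [TransferAlperin.card_cj]) e'
      (hg ⟨_, hR₀ _ (sndImg_le K)⟩)
    rw [mark_self_cj, marks_cj] at h
    exact dvd_sub_comm.mp h
  let δ : Subgroup (↥S × ↥S) → ℤ := fun L =>
    if Diag F L ∧ Nat.card L = n ∧ rep L = L then (target L - marks a L) / mark L L else 0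
  have hδ : ∀ L, δ L ≠ 0 → Diag F L ∧ Nat.card L = n ∧ rep L = L := fun L h =>
    by_contra fun hno => h (if_neg hno)
  refine ⟨fun L => a L + δ L, fun L h => ?_, fun K K' hK hK' hn hsnd => ?_, fun L hL => ?_⟩
  · by_cases h0 : a L = 0
    · exact (hδ L fun h1 => h (by simp only [h0, h1, add_zero])).1
    · exact ha L h0
  · have hadd : ∀ K, marks (fun L => a L + δ L) K = marks a K + marks δ K := fun K => by
      simp only [marks, add_mul, Finset.sum_add_distrib]
    have hm := fun K : Subgroup (↥S × ↥S) =>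
      marks_reps (δ := δ) (n := n) (fun L h => (hδ L h).2) (K := K)
    have hval : ∀ K : Subgroup (↥S × ↥S), Diag F K → Nat.card K = n → marks a K + marks δ K = target K := by
      intro K hK hn
      rw [(hm K).2 hn]
      obtain ⟨t, ht⟩ := rep_conj K
      have e : δ (rep K) = (target K - marks a K) / mark K K := by
        have h1 : target (rep K) = target K := by rw [ht, htcj]
        have h2 : marks a (rep K) = marks a K := by rw [ht, marks_cj]
        have h3 : mark (rep K) (rep K) = mark K K := by rw [ht, mark_self_cj]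
        simp only [δ]
        rw [if_pos ⟨diag_rep hK, (card_rep K).trans hn, rep_rep K⟩, h1, h2, h3]
      rw [e, Int.ediv_mul_cancel (hdvd K hK hn), add_sub_cancel]
    have hcard : Nat.card K = Nat.card K' := by
      rw [← card_sndImg hK, ← card_sndImg hK', hsnd]
    rw [hadd, hadd]
    rcases eq_or_lt_of_le hn with h | h
    · rw [hval K hK h.symm, hval K' hK' (hcard ▸ h.symm), htarget K K' (by rw [hsnd])]
    · rw [(hm K).1 h, (hm K').1 (hcard ▸ h), hst K K' hK hK' h hsnd]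
  · have : δ L = 0 := by_contra fun h => hL (hδ L h).2.1
    simp only [this, add_zero]

/-! ### The top level -/

theorem exists_top (hS : IsPGroup p S) (hF : F.IsSaturated p) :
    ∃ a : Subgroup (↥S × ↥S) → ℤ, (∀ L, a L ≠ 0 → Diag F L ∧ Nat.card L = Nat.card S) ∧
      StableAbove F a (Nat.card S) ∧ ¬ (p : ℤ) ∣ ∑ L, a L := by
  classical
  let a : Subgroup (↥S × ↥S) → ℤ := fun L =>
    if Diag F L ∧ Nat.card L = Nat.card S ∧ rep L = L then 1 else 0
  have hsupp : ∀ L, a L ≠ 0 → Diag F L ∧ Nat.card L = Nat.card S ∧ rep L = L := fun L h =>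
    by_contra fun hno => h (if_neg hno)
  let ψ : F.autGroup S → Subgroup (↥S × ↥S) := fun α =>
    graph ((mem_autGroup le_rfl).mp α.2)
  set I := autInducedBy S S with hI
  have hIA : I ≤ F.autGroup S := autInducedBy_le le_rfl
  -- conjugates are translates by inner automorphisms
  have hconj : ∀ (α : F.autGroup S) (L : Subgroup (↥S × ↥S)),
      (∃ t, L = TransferAlperin.cj t (ψ α)) ↔
        ∃ i : I, L = ψ (⟨i, hIA i.2⟩ * α) := by
    intro α L
    have key : ∀ (t : ↥S × ↥S) (i : I),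
        (∀ x ∈ S, afun (i : MulAut S) x =
          cj ((t.1 : Ω) * (afun (α : MulAut S) t.2)⁻¹) x) →
        TransferAlperin.cj t (ψ α) = ψ (⟨i, hIA i.2⟩ * α) := by
      intro t i hi
      have hm := (mem_autGroup (le_refl S)).mp α.2
      have hval : ∀ x ∈ S, afun ((⟨i, hIA i.2⟩ * α : F.autGroup S) : MulAut S) x =
          cj (t.1 : Ω) (afun (α : MulAut S) (cj (t.2 : Ω)⁻¹ x)) := by
        intro x hx
        rw [hm.map_cj (S.inv_mem t.2.2) hx, hm.map_inv t.2.2, cj_cj]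
        exact (afun_mul _ _ hx).trans (hi _ (afun_mem _ hx))
      ext q
      rw [TransferAlperin.mem_cj]
      simp only [ψ, mem_graph]
      have h2 : ((t⁻¹ * q * t).2 : Ω) = cj (t.2 : Ω)⁻¹ q.2 := by simp [cj_apply]
      have h1 : ((t⁻¹ * q * t).1 : Ω) = cj (t.1 : Ω)⁻¹ q.1 := by simp [cj_apply]
      refine and_congr ⟨fun _ => q.2.2, fun _ => (t⁻¹ * q * t).2.2⟩ ?_
      rw [hval _ q.2.2, h2, h1]
      refine ⟨fun e => ?_, fun e => ?_⟩
      · rw [← e, cj_cj_inv]
      · rw [e, cj_inv_cj]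
    constructor
    · rintro ⟨t, rfl⟩
      have hu : (t.1 : Ω) * (afun (α : MulAut S) t.2)⁻¹ ∈ S :=
        S.mul_mem t.1.2 (S.inv_mem (afun_mem _ t.2.2))
      exact ⟨⟨nHom S S ⟨_, hu, Subgroup.le_normalizer hu⟩,
        by rw [hI, autInducedBy_eq_range]; exact ⟨_, rfl⟩⟩,
        key t _ fun x hx => afun_nHom _ hx⟩
    · rintro ⟨i, rfl⟩
      obtain ⟨g, hg, -, he⟩ := mem_autInducedBy.mp i.2
      refine ⟨(⟨g, hg⟩, 1), (key _ i fun x hx => ?_).symm⟩
      rw [he x hx]
      simp [((mem_autGroup (le_refl S)).mp α.2).map_one]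
  have hψi : Function.Injective ψ := by
    intro α β e
    refine Subtype.ext (afun_ext fun x hx => ?_)
    have hq : ((⟨afun (α : MulAut S) x, afun_mem _ hx⟩, ⟨x, hx⟩) : ↥S × ↥S) ∈ ψ α := ⟨hx, rfl⟩
    rw [e] at hq
    exact hq.2
  have hψD : ∀ α, Diag F (ψ α) ∧ Nat.card (ψ α) = Nat.card S := fun α => by
    have h := (mem_autGroup (le_refl S)).mp α.2
    exact ⟨diag_graph h, by rw [← card_sndImg (diag_graph h), sndImg_graph]⟩
  have hsurj : ∀ K, Diag F K → Nat.card K = Nat.card S → ∃ α, ψ α = K := by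
    intro K hK hc
    have hs : sndImg K = S :=
      eq_of_le_of_card_ge le_rfl (sndImg_le K) (by rw [card_sndImg hK, hc])
    obtain ⟨f, hf, he⟩ := id hK
    rw [hs] at hf
    obtain ⟨α, hα, hαe⟩ := hf.exists_aut (hf.im_self fun x hx => hf.apply_mem hx)
    refine ⟨⟨α, hα⟩, (Subgroup.eq_of_le_of_card_ge ?_ (by rw [(hψD _).2, hc])).symm⟩
    intro q hq
    exact ⟨q.2.2, (he q hq).trans (hαe _ q.2.2).symm⟩
  -- every class has `|I|` members
  let D := Finset.univ.filter fun K : Subgroup (↥S × ↥S) => Diag F K ∧ Nat.card K = Nat.card S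
  let Reps := D.filter fun K => rep K = K
  haveI := finite_autGroup (F := F) S
  have hfib : ∀ L ∈ D, (D.filter fun K => rep K = rep L).card = Nat.card I := by
    intro L hL
    obtain ⟨hL1, hL2⟩ := (Finset.mem_filter.mp hL).2
    obtain ⟨α, rfl⟩ := hsurj L hL1 hL2
    rw [← Nat.card_eq_finsetCard]
    refine (Nat.card_congr (Equiv.ofBijective (fun i : I =>
      (⟨ψ (⟨i, hIA i.2⟩ * α), Finset.mem_filter.mpr
        ⟨Finset.mem_filter.mpr ⟨Finset.mem_univ _, hψD _⟩, by
          obtain ⟨t, ht⟩ := (hconj α _).mpr ⟨i, rfl⟩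
          rw [ht, rep_cj]⟩⟩ : {K // K ∈ D.filter fun K => rep K = rep (ψ α)}))
      ⟨fun i j e => ?_, fun K => ?_⟩)).symm
    · have := mul_right_cancel (hψi (congrArg Subtype.val e))
      exact Subtype.ext (congrArg (fun z : F.autGroup S => (z : MulAut S)) this :)
    · obtain ⟨K, hKm⟩ := K
      obtain ⟨-, hK⟩ := Finset.mem_filter.mp hKm
      have hh : ∃ t, K = TransferAlperin.cj t (ψ α) := by
        obtain ⟨t, ht⟩ := rep_conj K
        obtain ⟨u, hu⟩ := rep_conj (ψ α)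
        refine ⟨t⁻¹ * u, ?_⟩
        rw [TransferAlperin.cj_mul, ← hu, ← hK, ht, TransferAlperin.cj_inv_cj]
      obtain ⟨i, hi⟩ := (hconj α _).mp hh
      exact ⟨i, Subtype.ext hi.symm⟩
  -- equal marks
  have hmark : ∀ K ∈ D, Nat.card I * mark K K * Nat.card S = Nat.card (↥S × ↥S) := by
    intro K hK
    obtain ⟨hK1, hK2⟩ := (Finset.mem_filter.mp hK).2
    rw [mul_assoc, ← hK2, mark_self, ← hfib K hK]
    have horb : Nat.card {L // ∃ t, L = TransferAlperin.cj t K} =
        (Subgroup.normalizer (K : Set (↥S × ↥S))).index := by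
      refine (Nat.card_congr (Equiv.ofBijective
        (fun q : (↥S × ↥S) ⧸ Subgroup.normalizer (K : Set (↥S × ↥S)) =>
          (Quotient.liftOn' q (fun t => (⟨TransferAlperin.cj t K, t, rfl⟩ :
            {L // ∃ t, L = TransferAlperin.cj t K}))
            (fun a b h => Subtype.ext (TransferAlperin.cj_inj (g := a⁻¹) (by
              rw [← TransferAlperin.cj_mul, ← TransferAlperin.cj_mul, inv_mul_cancel,
                TransferAlperin.cj_one,
                TransferAlperin.cj_eq_self (QuotientGroup.leftRel_apply.mp h)])))))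
        ⟨fun x y e => ?_, fun L => ?_⟩)).symm
      · induction x using QuotientGroup.induction_on with
        | _ a => ?_
        induction y using QuotientGroup.induction_on with
        | _ b => ?_
        refine QuotientGroup.eq.mpr (TransferAlperin.mem_normalizer_of_cj_eq ?_)
        have e' : TransferAlperin.cj a K = TransferAlperin.cj b K := congrArg Subtype.val e
        rw [TransferAlperin.cj_mul, ← e', TransferAlperin.cj_inv_cj]
      · obtain ⟨t, ht⟩ := L.2
        refine ⟨QuotientGroup.mk t, Subtype.ext ?_⟩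
        exact ht.symm
    rw [← Subgroup.index_mul_card (Subgroup.normalizer (K : Set (↥S × ↥S))), ← horb]
    congr 1
    rw [← Nat.card_eq_finsetCard]
    refine Nat.card_congr (Equiv.subtypeEquivRight fun L => ?_)
    simp only [D, Finset.mem_filter, Finset.mem_univ, true_and]
    constructor
    · rintro ⟨-, h⟩
      obtain ⟨t, ht⟩ := rep_conj L
      obtain ⟨u, hu⟩ := rep_conj K
      refine ⟨t⁻¹ * u, ?_⟩
      rw [TransferAlperin.cj_mul, ← hu, ← h, ht, TransferAlperin.cj_inv_cj]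
    · rintro ⟨t, rfl⟩
      exact ⟨⟨diag_cj hK1 t, by rw [TransferAlperin.card_cj, hK2]⟩, rep_cj K t⟩
  refine ⟨a, fun L h => ⟨(hsupp L h).1, (hsupp L h).2.1⟩, fun K K' hK hK' hn hsnd => ?_, ?_⟩
  · have hc : ∀ K, Diag F K → Nat.card S ≤ Nat.card K → K ∈ D := fun K hK h =>
      Finset.mem_filter.mpr ⟨Finset.mem_univ _, hK, le_antisymm (card_le_of_diag hK) h⟩
    have hn' : Nat.card S ≤ Nat.card K' := by
      rwa [← card_sndImg hK', ← hsnd, card_sndImg hK]
    have key : ∀ K ∈ D, marks a K = mark K K := by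
      intro K hK
      obtain ⟨hK1, hK2⟩ := (Finset.mem_filter.mp hK).2
      rw [(marks_reps (δ := a) (n := Nat.card S) (fun L h => (hsupp L h).2)).2 hK2]
      simp only [a]
      rw [if_pos ⟨diag_rep hK1, (card_rep K).trans hK2, rep_rep K⟩, one_mul]
    rw [key K (hc K hK hn), key K' (hc K' hK' hn')]
    exact_mod_cast Nat.eq_of_mul_eq_mul_left Nat.card_pos (Nat.eq_of_mul_eq_mul_right
      Nat.card_pos ((hmark K (hc K hK hn)).trans (hmark K' (hc K' hK' hn')).symm))
  · have hsum : ∑ L, a L = (Reps.card : ℤ) := by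
      simp only [a, Finset.sum_boole, Reps, D, Finset.filter_filter, and_assoc]
    have hDc : D.card = Reps.card * Nat.card I := by
      rw [Finset.card_eq_sum_card_fiberwise (f := rep) (t := Reps) (fun K hK => by
        obtain ⟨hK1, hK2⟩ := (Finset.mem_filter.mp hK).2
        exact Finset.mem_filter.mpr ⟨Finset.mem_filter.mpr ⟨Finset.mem_univ _, diag_rep hK1,
          (card_rep K).trans hK2⟩, rep_rep K⟩), ← smul_eq_mul, ← Finset.sum_const]
      refine Finset.sum_congr rfl fun L hL => ?_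
      obtain ⟨hLD, hLr⟩ := Finset.mem_filter.mp hL
      rw [← hfib L hLD, hLr]
    have hA : Nat.card (F.autGroup S) = D.card := by
      rw [← Nat.card_eq_finsetCard]
      exact Nat.card_congr (Equiv.ofBijective
        (fun α => (⟨ψ α, Finset.mem_filter.mpr ⟨Finset.mem_univ _, hψD α⟩⟩ : {K // K ∈ D}))
        ⟨fun α β e => hψi (congrArg Subtype.val e), fun K => by
          obtain ⟨h1, h2⟩ := (Finset.mem_filter.mp K.2).2
          obtain ⟨α, hα⟩ := hsurj K h1 h2
          exact ⟨α, Subtype.ext hα⟩⟩)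
    rw [hsum]
    intro hd
    have hIc : Nat.card I = p ^ (Nat.card (F.autGroup S)).factorization p :=
      (sylIn_iff_card hIA).mp (fullyAutomized_of_fullyNormalized hS hF fullyNormalized_self).2
    have h1 : p ^ ((Nat.card (F.autGroup S)).factorization p + 1) ∣ Nat.card (F.autGroup S) := by
      conv_rhs => rw [hA, hDc, hIc]
      rw [pow_succ']
      exact mul_dvd_mul_right (by exact_mod_cast hd) _
    exact Nat.pow_succ_factorization_not_dvd Nat.card_pos.ne' hp.out h1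

/-- The degree of a virtual biset. -/
noncomputable def degree (a : Subgroup (↥S × ↥S) → ℤ) : ℤ :=
  ∑ L : Subgroup (↥S × ↥S), a L * ((Nat.card S / Nat.card L : ℕ) : ℤ)

/-- **Existence of a semicharacteristic virtual biset.** -/
theorem exists_biset (hS : IsPGroup p S) (hF : F.IsSaturated p) :
    ∃ a : Subgroup (↥S × ↥S) → ℤ, (∀ L, a L ≠ 0 → Diag F L) ∧ StableAbove F a 0 ∧
      ¬ (p : ℤ) ∣ degree a := by
  classical
  obtain ⟨a₀, hs₀, hst₀, hd₀⟩ := exists_top hS hF
  have hall : ∀ k, ∃ a, (∀ L, a L ≠ 0 → Diag F L) ∧ StableAbove F a (Nat.card S - k) ∧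
      ∀ L : Subgroup (↥S × ↥S), Nat.card L = Nat.card S → a L = a₀ L := by
    intro k
    induction k with
    | zero => exact ⟨a₀, fun L h => (hs₀ L h).1, hst₀, fun L _ => rfl⟩
    | succ k ih =>
      obtain ⟨a, h1, h2, h3⟩ := ih
      rcases Nat.lt_or_ge k (Nat.card S) with hk | hk
      · obtain ⟨a', h1', h2', h3'⟩ := exists_step hS hF h1
          (n := Nat.card S - (k + 1)) (by
            rwa [show Nat.card S - (k + 1) + 1 = Nat.card S - k by omega])
        exact ⟨a', h1', h2', fun L hL => (h3' L (by omega)).trans (h3 L hL)⟩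
      · exact ⟨a, h1, by rwa [show Nat.card S - (k + 1) = Nat.card S - k by omega], h3⟩
  obtain ⟨a, h1, h2, h3⟩ := hall (Nat.card S)
  refine ⟨a, h1, by simpa using h2, fun hd => hd₀ ?_⟩
  have key : ∀ L : Subgroup (↥S × ↥S), (p : ℤ) ∣ a L * ((Nat.card S / Nat.card L : ℕ) : ℤ) - a₀ L := by
    intro L
    rcases eq_or_ne (Nat.card L) (Nat.card S) with hc | hc
    · rw [h3 L hc, hc, Nat.div_self Nat.card_pos, Nat.cast_one, mul_one, sub_self]
      exact dvd_zero _
    have h0 : a₀ L = 0 := by_contra fun h => hc (hs₀ L h).2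
    rw [h0, sub_zero]
    rcases eq_or_ne (a L) 0 with h | h
    · rw [h, zero_mul]; exact dvd_zero _
    refine dvd_mul_of_dvd_right (Int.natCast_dvd_natCast.mpr ?_) _
    have hL := h1 L h
    obtain ⟨i, hi⟩ := IsPGroup.iff_card.mp hS
    have hdl : Nat.card L ∣ Nat.card S := by
      rw [← card_sndImg hL]
      exact Subgroup.card_dvd_of_le (sndImg_le L)
    obtain ⟨j, hj, hj'⟩ := (Nat.dvd_prime_pow hp.out).mp (hi ▸ hdl)
    rw [hi, hj', Nat.pow_div hj hp.out.pos]
    have hne : j ≠ i := fun e => hc (by rw [hj', hi, e])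
    exact dvd_pow_self p (by omega)
  have h4 := Finset.dvd_sum (s := Finset.univ) fun L _ => key L
  rw [Finset.sum_sub_distrib] at h4
  have h5 := dvd_sub hd h4
  rwa [degree, sub_sub_cancel] at h5

end Cfsg.Agent.FusionBiset
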