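import Mathlib
import Cfsg.Agent.S5132
import Cfsg.Agent.Lib.FusionMorph88
import Cfsg.Agent.Lib.FusionInduct88

/-!
Transport of fusion systems along isomorphisms of their `p`-groups (given as a pair of total
functions), and invariance of saturation, normal subsystems, subnormality, simplicity and
quasisimplicity.
-/

set_option autoImplicit false

namespace Cfsg.Agent.FusionIso88

open Cfsg Cfsg.FusionSystem Cfsg.Agent.FusionSysBasic Cfsg.Agent.FusionSysSaturated
  Cfsg.Agent.FusionSysNormal Cfsg.Agent.FusionMorph88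

variable {Ω Ω' : Type*} [Group Ω] [Group Ω'] {U : Subgroup Ω} {U' : Subgroup Ω'}
  {D : FusionSystem U} {D' : FusionSystem U'} {a : Ω → Ω'} {b : Ω' → Ω}

/-- `a` and `b` are inverse isomorphisms between `U` and `U'`. -/
structure Bij (U : Subgroup Ω) (U' : Subgroup Ω') (a : Ω → Ω') (b : Ω' → Ω) : Prop where
  map_mem : ∀ x ∈ U, a x ∈ U'
  inv_mem : ∀ y ∈ U', b y ∈ U
  left : ∀ x ∈ U, b (a x) = x
  right : ∀ y ∈ U', a (b y) = y
  map_mul : ∀ x ∈ U, ∀ y ∈ U, a (x * y) = a x * a y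

/-- The image of `P` under `a`. -/
def img (a : Ω → Ω') (P : Subgroup Ω) : Subgroup Ω' := Subgroup.closure (a '' (P : Set Ω))

theorem img_congr {P : Subgroup Ω} {a a' : Ω → Ω'} (h : ∀ x ∈ P, a x = a' x) :
    img a P = img a' P := by
  rw [img, img, Set.image_congr h]

theorem apply_mem_img {P : Subgroup Ω} {x : Ω} (h : x ∈ P) : a x ∈ img a P :=
  Subgroup.subset_closure ⟨x, h, rfl⟩

theorem img_le_iff {P : Subgroup Ω} {Q : Subgroup Ω'} : img a P ≤ Q ↔ ∀ x ∈ P, a x ∈ Q := by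
  rw [img, Subgroup.closure_le]
  exact ⟨fun h x hx => h ⟨x, hx, rfl⟩, fun h _ ⟨x, hx, e⟩ => e ▸ h x hx⟩

theorem img_mono {P Q : Subgroup Ω} (h : P ≤ Q) : img a P ≤ img a Q :=
  img_le_iff.2 fun _ hx => apply_mem_img (h hx)

namespace Bij

theorem map_one (h : Bij U U' a b) : a 1 = 1 := by
  have := h.map_mul 1 U.one_mem 1 U.one_mem
  rw [one_mul] at this
  exact left_eq_mul.1 this

theorem map_inv (h : Bij U U' a b) {x : Ω} (hx : x ∈ U) : a x⁻¹ = (a x)⁻¹ := by
  rw [eq_inv_iff_mul_eq_one, ← h.map_mul _ (U.inv_mem hx) _ hx, inv_mul_cancel, h.map_one]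

theorem symm (h : Bij U U' a b) : Bij U' U b a :=
  ⟨h.inv_mem, h.map_mem, h.right, h.left, fun x hx y hy => by
    conv_lhs => rw [← h.right x hx, ← h.right y hy, ← h.map_mul _ (h.inv_mem x hx) _ (h.inv_mem y hy)]
    exact h.left _ (U.mul_mem (h.inv_mem x hx) (h.inv_mem y hy))⟩

theorem map_cj (h : Bij U U' a b) {g x : Ω} (hg : g ∈ U) (hx : x ∈ U) :
    a (cj g x) = cj (a g) (a x) := by
  rw [cj_apply, cj_apply, h.map_mul _ (U.mul_mem hg hx) _ (U.inv_mem hg), h.map_mul _ hg _ hx,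
    h.map_inv hg]

theorem injOn (h : Bij U U' a b) {x y : Ω} (hx : x ∈ U) (hy : y ∈ U) (e : a x = a y) : x = y := by
  rw [← h.left x hx, e, h.left y hy]

theorem mem_img (h : Bij U U' a b) {P : Subgroup Ω} (hP : P ≤ U) {y : Ω'} :
    y ∈ img a P ↔ ∃ x ∈ P, a x = y := by
  refine ⟨fun hy => ?_, fun ⟨x, hx, e⟩ => e ▸ apply_mem_img hx⟩
  let K : Subgroup Ω' :=
    { carrier := {z | ∃ x ∈ P, a x = z}
      one_mem' := ⟨1, P.one_mem, h.map_one⟩
      mul_mem' := by
        rintro _ _ ⟨x, hx, rfl⟩ ⟨z, hz, rfl⟩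
        exact ⟨x * z, P.mul_mem hx hz, h.map_mul _ (hP hx) _ (hP hz)⟩
      inv_mem' := by
        rintro _ ⟨x, hx, rfl⟩
        exact ⟨x⁻¹, P.inv_mem hx, h.map_inv (hP hx)⟩ }
  exact (img_le_iff.2 fun x hx => (⟨x, hx, rfl⟩ : a x ∈ K) : img a P ≤ K) hy

theorem img_le (h : Bij U U' a b) {P : Subgroup Ω} (hP : P ≤ U) : img a P ≤ U' :=
  img_le_iff.2 fun x hx => h.map_mem x (hP hx)

theorem img_img (h : Bij U U' a b) {P : Subgroup Ω} (hP : P ≤ U) : img b (img a P) = P := by
  ext x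
  rw [h.symm.mem_img (h.img_le hP)]
  constructor
  · rintro ⟨y, hy, rfl⟩
    obtain ⟨z, hz, rfl⟩ := (h.mem_img hP).1 hy
    rwa [h.left z (hP hz)]
  · exact fun hx => ⟨a x, apply_mem_img hx, h.left x (hP hx)⟩

theorem img_self (h : Bij U U' a b) : img a U = U' :=
  le_antisymm (h.img_le le_rfl) fun y hy => h.right y hy ▸ apply_mem_img (h.inv_mem y hy)

theorem restrict (h : Bij U U' a b) {T : Subgroup Ω} (hT : T ≤ U) : Bij T (img a T) a b :=
  ⟨fun _ hx => apply_mem_img hx,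
    fun y hy => (h.img_img hT).le (apply_mem_img hy),
    fun x hx => h.left x (hT hx), fun y hy => h.right y (h.img_le hT hy),
    fun x hx y hy => h.map_mul x (hT hx) y (hT hy)⟩

theorem comp {Ω'' : Type*} [Group Ω''] {U'' : Subgroup Ω''} {a' : Ω' → Ω''} {b' : Ω'' → Ω'}
    (h : Bij U U' a b) (h' : Bij U' U'' a' b') : Bij U U'' (a' ∘ a) (b ∘ b') :=
  ⟨fun x hx => h'.map_mem _ (h.map_mem x hx), fun y hy => h.inv_mem _ (h'.inv_mem y hy),
    fun x hx => by rw [Function.comp_apply, Function.comp_apply, h'.left _ (h.map_mem x hx), h.left x hx],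
    fun y hy => by rw [Function.comp_apply, Function.comp_apply, h.right _ (h'.inv_mem y hy), h'.right y hy],
    fun x hx y hy => by
      rw [Function.comp_apply, h.map_mul x hx y hy, h'.map_mul _ (h.map_mem x hx) _ (h.map_mem y hy)]
      rfl⟩

end Bij

/-- `a` is an isomorphism of fusion systems from `D` to `D'`. -/
structure Tr (D : FusionSystem U) (D' : FusionSystem U') (a : Ω → Ω') (b : Ω' → Ω) : Prop where
  bij : Bij U U' a b
  mor : ∀ {P : Subgroup Ω} {f : Ω → Ω}, Mor D P f → Mor D' (img a P) (a ∘ f ∘ b)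
  mor' : ∀ {P : Subgroup Ω'} {f : Ω' → Ω'}, Mor D' P f → Mor D (img b P) (b ∘ f ∘ a)

theorem Tr.symm (h : Tr D D' a b) : Tr D' D b a := ⟨h.bij.symm, h.mor', h.mor⟩

theorem Tr.comp {Ω'' : Type*} [Group Ω''] {U'' : Subgroup Ω''} {D'' : FusionSystem U''}
    {a' : Ω' → Ω''} {b' : Ω'' → Ω'} (h : Tr D D' a b) (h' : Tr D' D'' a' b') :
    Tr D D'' (a' ∘ a) (b ∘ b') := by
  refine ⟨h.bij.comp h'.bij, fun {P f} hf => ?_, fun {P f} hf => ?_⟩
  · have e : img (a' ∘ a) P = img a' (img a P) := by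
      refine le_antisymm (img_le_iff.2 fun x hx => apply_mem_img (apply_mem_img hx)) (img_le_iff.2 ?_)
      intro y hy
      obtain ⟨x, hx, rfl⟩ := (h.bij.mem_img hf.le).1 hy
      exact apply_mem_img (a := a' ∘ a) hx
    rw [e]; exact h'.mor (h.mor hf)
  · have e : img (b ∘ b') P = img b (img b' P) := by
      refine le_antisymm (img_le_iff.2 fun x hx => apply_mem_img (apply_mem_img hx)) (img_le_iff.2 ?_)
      intro y hy
      obtain ⟨x, hx, rfl⟩ := (h'.bij.symm.mem_img hf.le).1 hy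
      exact apply_mem_img (a := b ∘ b') hx
    rw [e]; exact h.mor' (h'.mor' hf)

theorem Tr.mor_iff (h : Tr D D' a b) {P : Subgroup Ω} {f : Ω → Ω} (hP : P ≤ U)
    (hf : ∀ x ∈ P, f x ∈ U) : Mor D' (img a P) (a ∘ f ∘ b) ↔ Mor D P f := by
  refine ⟨fun hm => ?_, h.mor⟩
  have := h.mor' hm
  rw [h.bij.img_img hP] at this
  exact this.congr fun x hx => by
    simp only [Function.comp_apply, h.bij.left x (hP hx), h.bij.left _ (hf x hx)]

/-- Transported systems are unique. -/
theorem Tr.unique {E : FusionSystem U'} (h : Tr D D' a b) (h' : Tr D E a b) : D' = E := by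
  have key : ∀ {E₁ E₂ : FusionSystem U'}, Tr D E₁ a b → Tr D E₂ a b → ∀ {P f},
      Mor E₁ P f → Mor E₂ P f := by
    intro E₁ E₂ h₁ h₂ P f hf
    have := h₂.mor (h₁.mor' hf)
    rw [h₁.bij.symm.img_img hf.le] at this
    exact this.congr fun y hy => by
      simp only [Function.comp_apply, h.bij.right y (hf.le hy), h.bij.right _ (hf.apply_mem hy)]
  exact FusionSysAlperin.le_antisymm_hom (FusionSysAlperin.le_of_mor fun P f => key h h')
    (FusionSysAlperin.le_of_mor fun P f => key h' h)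

section Pieces

variable {T : Subgroup Ω} {E : FusionSystem T}

theorem Bij.im_img (h : Bij U U' a b) {P : Subgroup Ω} {f : Ω → Ω} (hf : Mor D P f) :
    im (img a P) (a ∘ f ∘ b) = img a (im P f) := by
  refine le_antisymm (im_le_iff.2 fun y hy => ?_) (img_le_iff.2 fun z hz => ?_)
  · obtain ⟨x, hx, rfl⟩ := (h.mem_img hf.le).1 hy
    simp only [Function.comp_apply, h.left x (hf.le hx)]
    exact apply_mem_img (apply_mem_im hx)
  · obtain ⟨x, hx, rfl⟩ := hf.mem_im.1 hz
    have := apply_mem_im (f := a ∘ f ∘ b) (apply_mem_img (a := a) hx)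
    simpa only [Function.comp_apply, h.left x (hf.le hx)] using this

theorem push_closed (h : Tr D D' a b) (hsub : E.IsSubsystemOf D) :
    FusionInduct88.Closed D' (U := img a T) (fun P f => P ≤ U' ∧ Mor E (img b P) (b ∘ f ∘ a)) := by
  have hT := FusionKit88.sub_le hsub
  have hB := h.bij
  have hle : ∀ {P : Subgroup Ω'}, P ≤ img a T → img b P ≤ T :=
    fun hP => (img_mono hP).trans (hB.img_img hT).le
  constructor
  · rintro P f g ⟨hPU, hf⟩ he
    refine ⟨hPU, hf.congr fun x hx => ?_⟩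
    obtain ⟨y, hy, rfl⟩ := (hB.symm.mem_img hPU).1 hx
    simp only [Function.comp_apply, hB.right y (hPU hy), he y hy]
  · intro P g hP hg
    refine ⟨hP.trans (hB.img_le hT), ?_⟩
    refine (mor_cj (F := E) (hle hP) ((hB.restrict hT).inv_mem g hg)).congr fun x hx => ?_
    obtain ⟨y, hy, rfl⟩ := (hB.symm.mem_img (hP.trans (hB.img_le hT))).1 hx
    have hyU := hB.img_le hT (hP hy)
    simp only [Function.comp_apply, hB.right y hyU]
    exact (hB.symm.map_cj (hB.img_le hT hg) hyU).symm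
  · rintro P Q f g hf hg hP hQ hfQ ⟨-, h1⟩ ⟨-, h2⟩
    have hPU := hP.trans (hB.img_le hT)
    refine ⟨hPU, ?_⟩
    refine (h1.comp h2 fun x hx => ?_).congr fun x hx => ?_
    · obtain ⟨y, hy, rfl⟩ := (hB.symm.mem_img hPU).1 hx
      simp only [Function.comp_apply, hB.right y (hPU hy)]
      exact apply_mem_img (hfQ y hy)
    · obtain ⟨y, hy, rfl⟩ := (hB.symm.mem_img hPU).1 hx
      simp only [Function.comp_apply, hB.right y (hPU hy),
        hB.right _ (hf.apply_mem hy)]
  · rintro P f g hf hg hP hgf ⟨-, h1⟩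
    have hPU := hP.trans (hB.img_le hT)
    refine ⟨hf.im_le, ?_⟩
    obtain ⟨i, hi, hi1, hi2⟩ := h1.exists_inv
    rw [hB.symm.im_img hf] at hi
    refine hi.congr fun x hx => ?_
    obtain ⟨z, hz, rfl⟩ := (hB.symm.mem_img hf.im_le).1 hx
    obtain ⟨y, hy, rfl⟩ := hf.mem_im.1 hz
    have e := hi1 (b y) (apply_mem_img hy)
    simp only [Function.comp_apply, hB.right y (hPU hy)] at e
    simp only [Function.comp_apply, hB.right _ (hf.apply_mem hy), hgf y hy, e]

end Pieces

end Cfsg.Agent.FusionIso88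

namespace Cfsg.Agent.FusionIso88

open Cfsg Cfsg.FusionSystem Cfsg.Agent.FusionSysBasic Cfsg.Agent.FusionSysSaturated
  Cfsg.Agent.FusionSysNormal Cfsg.Agent.FusionMorph88

variable {Ω Ω' : Type*} [Group Ω] [Group Ω'] {U : Subgroup Ω} {U' : Subgroup Ω'}
  {D : FusionSystem U} {D' : FusionSystem U'} {a : Ω → Ω'} {b : Ω' → Ω}

/-- The image of a subsystem. -/
noncomputable def push {T : Subgroup Ω} {E : FusionSystem T} (h : Tr D D' a b)
    (hsub : E.IsSubsystemOf D) : FusionSystem (img a T) :=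
  FusionInduct88.subSystem (h.bij.img_le (FusionKit88.sub_le hsub)) (push_closed h hsub)

theorem push_sub {T : Subgroup Ω} {E : FusionSystem T} (h : Tr D D' a b)
    (hsub : E.IsSubsystemOf D) : (push h hsub).IsSubsystemOf D' := fun _ _ hφ => hφ.1

theorem push_tr {T : Subgroup Ω} {E : FusionSystem T} (h : Tr D D' a b)
    (hsub : E.IsSubsystemOf D) : Tr E (push h hsub) a b := by
  have hT := FusionKit88.sub_le hsub
  refine ⟨h.bij.restrict hT, fun {P f} hf => ?_, fun {P f} hf => (FusionInduct88.mor_subSystem.1 hf).2.2.2.2⟩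
  refine FusionInduct88.mor_subSystem.2
    ⟨h.mor (FusionKit88.sub_mor hsub hf), img_mono hf.le, fun y hy => ?_,
      h.bij.img_le (hf.le.trans hT), ?_⟩
  · obtain ⟨x, hx, rfl⟩ := (h.bij.mem_img (hf.le.trans hT)).1 hy
    simp only [Function.comp_apply, h.bij.left x (hT (hf.le hx))]
    exact apply_mem_img (hf.apply_mem hx)
  · rw [h.bij.img_img (hf.le.trans hT)]
    exact hf.congr fun x hx => by
      simp only [Function.comp_apply, h.bij.left x (hT (hf.le hx)), h.bij.left _ (hT (hf.apply_mem hx))]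

theorem Tr.isConj (h : Tr D D' a b) {P Q : Subgroup Ω} (hc : D.IsConj P Q) :
    D'.IsConj (img a P) (img a Q) := by
  obtain ⟨f, hf, rfl⟩ := FusionSysBasic.isConj_iff.1 hc
  exact FusionSysBasic.isConj_iff.2 ⟨_, h.mor hf, h.bij.im_img hf⟩

theorem Tr.stronglyClosed (h : Tr D D' a b) {X : Subgroup Ω} (hX : D.StronglyClosed X) :
    D'.StronglyClosed (img a X) := by
  refine stronglyClosed_iff.2 ⟨h.bij.img_le hX.1, fun P f hP hf y hy => ?_⟩
  obtain ⟨x, hx, rfl⟩ := (h.bij.mem_img hX.1).1 (hP hy)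
  have h1 := h.mor' hf
  have h2 : b (a x) ∈ img b P := apply_mem_img hy
  rw [h.bij.left x (hX.1 hx)] at h2
  have h3 := stronglyClosed_invariant hX h1 h2 hx
  have h4 : a ((b ∘ f ∘ a) x) ∈ img a X := apply_mem_img h3
  rwa [Function.comp_apply, Function.comp_apply, h.bij.right _ (hf.apply_mem hy)] at h4

theorem Tr.isCentral (h : Tr D D' a b) {Q : Subgroup Ω} (hQ : D.IsCentral Q) :
    D'.IsCentral (img a Q) := by
  refine isCentral_iff.2 ⟨h.bij.img_le hQ.1, fun P f hf => ?_⟩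
  obtain ⟨f', hf', hag, hfix⟩ := (isCentral_iff.1 hQ).2 _ _ (h.mor' hf)
  have hbP : img b P ≤ U := h.bij.symm.img_le hf.le
  have h1 := h.mor hf'
  have hle : P ⊔ img a Q ≤ img a (img b P ⊔ Q) := sup_le
    (fun y hy => h.bij.right y (hf.le hy) ▸ apply_mem_img (Subgroup.mem_sup_left (apply_mem_img hy)))
    (img_mono le_sup_right)
  refine ⟨_, h1.restrict_to hle, fun y hy => ?_, fun y hy => ?_⟩
  · simp only [Function.comp_apply, hag (b y) (apply_mem_img hy), h.bij.right y (hf.le hy),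
      h.bij.right _ (hf.apply_mem hy)]
  · obtain ⟨x, hx, rfl⟩ := (h.bij.mem_img hQ.1).1 hy
    simp only [Function.comp_apply, h.bij.left x (hQ.1 hx), hfix x hx]

theorem Tr.center (h : Tr D D' a b) [Finite U] [Finite U'] : D'.center = img a D.center := by
  refine le_antisymm ?_ (le_center (h.isCentral center_isCentral))
  have h1 := le_center (h.symm.isCentral (center_isCentral (F := D')))
  calc D'.center = img a (img b D'.center) := (h.bij.symm.img_img center_isCentral.1).symm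
    _ ≤ _ := img_mono h1

/-- The homomorphism underlying an isomorphism. -/
def Tr.hom (h : Tr D D' a b) : U →* Ω' :=
  MonoidHom.mk' (fun x => a x) fun x y => h.bij.map_mul x x.2 y y.2

theorem Tr.app_hom (h : Tr D D' a b) {x : Ω} (hx : x ∈ U) : app h.hom x = a x := app_apply _ hx

theorem Tr.preimage_eq (h : Tr D D' a b) {P' : Subgroup Ω'} (hP' : P' ≤ U') :
    preimageAlong h.hom P' = img b P' := by
  ext x
  rw [mem_preimageAlong, h.bij.symm.mem_img hP']
  constructor
  · rintro ⟨hx, hxP⟩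
    exact ⟨a x, h.app_hom hx ▸ hxP, h.bij.left x hx⟩
  · rintro ⟨y, hy, rfl⟩
    exact ⟨h.bij.inv_mem y (hP' hy), by rw [h.app_hom (h.bij.inv_mem y (hP' hy)), h.bij.right y (hP' hy)]; exact hy⟩

theorem Tr.surjective (h : Tr D D' a b) : D.IsSurjectiveMorphism D' h.hom := by
  refine ⟨⟨fun s => h.bij.map_mem s s.2, fun P φ hφ => ?_⟩, ?_, fun P' hP' φ' hφ' => ?_⟩
  · have hP := (D.le_of_mem hφ).1
    have e : imageAlong h.hom P = img a P := by
      ext y
      rw [mem_imageAlong, h.bij.mem_img hP]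
      constructor
      · rintro ⟨x, hx, hxU, rfl⟩; exact ⟨x, hx, (h.app_hom hxU).symm⟩
      · rintro ⟨x, hx, rfl⟩; exact ⟨x, hx, hP hx, h.app_hom (hP hx)⟩
    obtain ⟨φ', hφ', he⟩ := e ▸ h.mor (mor_toFun hφ)
    refine ⟨φ', hφ', (inducedAlong_iff hP (D.le_of_mem hφ).2 (fun x => (toFun_coe φ x).symm) he).2
      fun x hx => ⟨app_mem_imageAlong hx hP, ?_⟩⟩
    rw [h.app_hom (hP hx), h.app_hom ((mor_toFun hφ).apply_mem hx)]
    simp only [Function.comp_apply, h.bij.left x (hP hx)]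
  · refine le_antisymm ?_ fun y hy => ⟨⟨b y, h.bij.inv_mem y hy⟩, h.bij.right y hy⟩
    rintro _ ⟨x, rfl⟩; exact h.bij.map_mem x x.2
  · have h1 := h.mor' (mor_toFun hφ')
    rw [← h.preimage_eq hP'] at h1
    obtain ⟨φ, hφ, he⟩ := h1
    refine ⟨φ, hφ, (inducedAlong_iff (preimageAlong_le _ P') (D.le_of_mem hφ).2 he
      (fun y => (toFun_coe φ' y).symm)).2 fun x hx => ⟨(mem_preimageAlong.1 hx).2, ?_⟩⟩
    obtain ⟨hxU, hxP⟩ := mem_preimageAlong.1 hx
    rw [h.app_hom hxU] at hxP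
    have hfm := (mor_toFun hφ').apply_mem hxP
    rw [h.app_hom hxU, h.app_hom (show (b ∘ toFun φ' ∘ a) x ∈ U from h.bij.inv_mem _ hfm)]
    simp only [Function.comp_apply, h.bij.right _ hfm]

theorem Tr.saturated (h : Tr D D' a b) [Finite U] {p : ℕ} [Fact p.Prime] (hU : IsPGroup p U)
    (hD : D.IsSaturated p) : D'.IsSaturated p :=
  saturated_of_surjective hU hD h.surjective

theorem Tr.finite (h : Tr D D' a b) [Finite U] : Finite U' :=
  Finite.of_injective (fun y : U' => (⟨b y, h.bij.inv_mem y y.2⟩ : U)) fun y z e => Subtype.ext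
    (h.bij.symm.injOn y.2 z.2 (congrArg Subtype.val e))

/-- Transport of automorphisms. -/
noncomputable def Tr.te (h : Tr D D' a b) {P : Subgroup Ω} (hP : P ≤ U) : P ≃* img a P where
  toFun x := ⟨a x, apply_mem_img x.2⟩
  invFun y := ⟨b y, (h.bij.img_img hP).le (apply_mem_img y.2)⟩
  left_inv x := Subtype.ext (h.bij.left x (hP x.2))
  right_inv y := Subtype.ext (h.bij.right y (h.bij.img_le hP y.2))
  map_mul' x y := Subtype.ext (h.bij.map_mul x (hP x.2) y (hP y.2))

theorem Tr.afun_te (h : Tr D D' a b) {P : Subgroup Ω} (hP : P ≤ U) (α : MulAut P) {x : Ω}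
    (hx : x ∈ P) : afun (MulAut.congr (h.te hP) α) (a x) = a (afun α x) := by
  rw [afun_apply _ (apply_mem_img (a := a) hx), afun_apply α hx]
  have e : (⟨a x, apply_mem_img hx⟩ : img a P) = h.te hP ⟨x, hx⟩ := rfl
  rw [e]
  show ((h.te hP (α ((h.te hP).symm (h.te hP ⟨x, hx⟩))) : img a P) : Ω') = _
  rw [MulEquiv.symm_apply_apply]
  rfl

theorem Tr.mem_autGroup (h : Tr D D' a b) {P : Subgroup Ω} (hP : P ≤ U) {α : MulAut P} :
    MulAut.congr (h.te hP) α ∈ D'.autGroup (img a P) ↔ α ∈ D.autGroup P := by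
  rw [FusionSysBasic.mem_autGroup (h.bij.img_le hP), FusionSysBasic.mem_autGroup hP,
    ← h.mor_iff hP fun x hx => hP (afun_mem α hx)]
  have e : ∀ y ∈ img a P, afun (MulAut.congr (h.te hP) α) y = (a ∘ afun α ∘ b) y := by
    intro y hy
    obtain ⟨x, hx, rfl⟩ := (h.bij.mem_img hP).1 hy
    rw [h.afun_te hP α hx, Function.comp_apply, Function.comp_apply, h.bij.left x (hP hx)]
  exact ⟨fun hm => hm.congr e, fun hm => hm.congr fun y hy => (e y hy).symm⟩

theorem Tr.hyperfocal (h : Tr D D' a b) {p : ℕ} :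
    D'.hyperfocalSubgroup p = img a (D.hyperfocalSubgroup p) := by
  refine le_antisymm ?_ ?_
  · refine (Subgroup.closure_le _).2 ?_
    rintro _ ⟨P', α', y, hP', hα', rfl⟩
    have hP : img b P' ≤ U := h.bij.symm.img_le hP'
    let t : D'.autGroup P' →* D.autGroup (img b P') :=
      ((MulAut.congr (h.symm.te hP')).toMonoidHom.comp (D'.autGroup P').subtype).codRestrict _
        fun β => (h.symm.mem_autGroup hP').2 β.2
    have hmem : (b y : Ω)⁻¹ * afun (t α' : MulAut (img b P')) (b y) ∈ D.hyperfocalSubgroup p := by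
      refine Subgroup.subset_closure ⟨_, t α', ⟨b y, apply_mem_img y.2⟩, hP,
        TransferPResidual.map_pResidual_le t ⟨α', hα', rfl⟩, ?_⟩
      rw [afun_apply _ (apply_mem_img y.2)]
    have h2 := apply_mem_img (a := a) hmem
    have e : afun (t α' : MulAut (img b P')) (b y) = b (((α' : MulAut P') y : P') : Ω') := by
      show afun (MulAut.congr (h.symm.te hP') (α' : MulAut P')) (b y) = _
      rw [h.symm.afun_te hP' _ y.2, afun_coe]
    have hy := h.bij.inv_mem _ (hP' y.2)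
    have hz := h.bij.inv_mem _ (hP' ((α' : MulAut P') y).2)
    rw [e, h.bij.map_mul _ (U.inv_mem hy) _ hz, h.bij.map_inv hy, h.bij.right _ (hP' y.2),
      h.bij.right _ (hP' ((α' : MulAut P') y).2)] at h2
    exact h2
  · have hle : D.hyperfocalSubgroup p ≤ U := by
      refine (Subgroup.closure_le _).2 ?_
      rintro _ ⟨P, α, x, hP, -, rfl⟩
      exact U.mul_mem (U.inv_mem (hP x.2)) (hP ((α : MulAut P) x).2)
    refine img_le_iff.2 fun z hz => ?_
    let K : Subgroup Ω :=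
      { carrier := {z | z ∈ U ∧ a z ∈ D'.hyperfocalSubgroup p}
        one_mem' := ⟨U.one_mem, h.bij.map_one ▸ one_mem _⟩
        mul_mem' := fun {u v} hu hv => ⟨U.mul_mem hu.1 hv.1, by
          rw [h.bij.map_mul _ hu.1 _ hv.1]; exact mul_mem hu.2 hv.2⟩
        inv_mem' := fun {u} hu => ⟨U.inv_mem hu.1, by
          rw [h.bij.map_inv hu.1]; exact inv_mem hu.2⟩ }
    refine ((Subgroup.closure_le K).2 ?_ hz).2
    rintro _ ⟨P, α, x, hP, hα, rfl⟩
    refine ⟨U.mul_mem (U.inv_mem (hP x.2)) (hP ((α : MulAut P) x).2), ?_⟩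
    let t : D.autGroup P →* D'.autGroup (img a P) :=
      ((MulAut.congr (h.te hP)).toMonoidHom.comp (D.autGroup P).subtype).codRestrict _
        fun β => (h.mem_autGroup hP).2 β.2
    refine Subgroup.subset_closure ⟨_, t α, ⟨a x, apply_mem_img x.2⟩, h.bij.img_le hP,
      TransferPResidual.map_pResidual_le t ⟨α, hα, rfl⟩, ?_⟩
    rw [← afun_coe (t α : MulAut (img a P))]
    show _ = (a x)⁻¹ * afun (MulAut.congr (h.te hP) (α : MulAut P)) (a x)
    rw [h.afun_te hP _ x.2, afun_coe, h.bij.map_mul _ (U.inv_mem (hP x.2)) _ (hP ((α : MulAut P) x).2),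
      h.bij.map_inv (hP x.2)]

/-- Conditions for invariance, for total functions. -/
theorem invariant_iff {T : Subgroup Ω} {E : FusionSystem T} :
    E.IsInvariantIn D ↔ E.IsSubsystemOf D ∧ D.StronglyClosed T ∧
      (∀ P f, Mor E P f → ∀ α ∈ D.autGroup T,
        ∃ f', Mor E (im P (afun α)) f' ∧ ∀ x ∈ P, f' (afun α x) = afun α (f x)) ∧
      ∀ P f, P ≤ T → Mor D P f → ∃ α ∈ D.autGroup T, ∃ f₀, Mor E P f₀ ∧ ∀ x ∈ P, f x = afun α (f₀ x) := by
  refine and_congr_right fun _ => and_congr_right fun hcl => and_congr ?_ ?_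
  · constructor
    · rintro h P f hf α hα
      obtain ⟨φ, hφ, he⟩ := id hf
      obtain ⟨χ, hχ, hce⟩ := h P hf.le φ hφ α hα
      have e : (P.subgroupOf T).map (T.subtype.comp α.toMonoidHom) = im P (afun α) := by
        refine le_antisymm ?_ (im_le_iff.2 fun x hx => ⟨⟨x, hf.le hx⟩, hx, (afun_apply α (hf.le hx)).symm⟩)
        rintro _ ⟨x, hx, rfl⟩
        show ((α x : T) : Ω) ∈ _
        rw [← afun_coe]; exact apply_mem_im hx
      refine ⟨toFun χ, e ▸ mor_toFun hχ, fun x hx => ?_⟩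
      have hfx := hf.apply_mem hx
      have hm : ((α ⟨x, hf.le hx⟩ : T) : Ω) ∈ (P.subgroupOf T).map (T.subtype.comp α.toMonoidHom) :=
        ⟨⟨x, hf.le hx⟩, hx, rfl⟩
      rw [afun_apply α (hf.le hx), toFun_apply χ hm,
        hce ⟨x, hx⟩ ((E.le_of_mem hφ).2 ⟨x, hx⟩) hm, ← he ⟨x, hx⟩,
        afun_apply α ((E.le_of_mem hφ).2 ⟨x, hx⟩)]
    · rintro h P hPT φ hφ α hα
      obtain ⟨f', hf', he'⟩ := h P (toFun φ) (mor_toFun hφ) α hα
      have e : (P.subgroupOf T).map (T.subtype.comp α.toMonoidHom) = im P (afun α) := by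
        refine le_antisymm ?_ (im_le_iff.2 fun x hx => ⟨⟨x, hPT hx⟩, hx, (afun_apply α (hPT hx)).symm⟩)
        rintro _ ⟨x, hx, rfl⟩
        show ((α x : T) : Ω) ∈ _
        rw [← afun_coe]; exact apply_mem_im hx
      obtain ⟨χ, hχ, hce⟩ := e.symm ▸ hf'
      refine ⟨χ, hχ, fun x hφx hαx => ?_⟩
      have h1 := he' x x.2
      rw [afun_apply α (hPT x.2), toFun_coe, afun_apply α hφx] at h1
      rw [hce]
      exact h1
  · constructor
    · intro h P f hP hf
      obtain ⟨φ, hφ, he⟩ := hf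
      obtain ⟨α, hα, φ₀, hφ₀, hfr⟩ := h P hP φ hφ
      refine ⟨α, hα, toFun φ₀, mor_toFun hφ₀, fun x hx => ?_⟩
      have h0 := (E.le_of_mem hφ₀).2 ⟨x, hx⟩
      rw [← he ⟨x, hx⟩, hfr ⟨x, hx⟩ h0, toFun_apply φ₀ hx, afun_apply α h0]
    · intro h P hP φ hφ
      obtain ⟨α, hα, f₀, ⟨φ₀, hφ₀, he⟩, hfr⟩ := h P (toFun φ) hP (mor_toFun hφ)
      refine ⟨α, hα, φ₀, hφ₀, fun x hx => ?_⟩
      rw [← toFun_coe φ x, hfr x x.2, ← he x, afun_apply α hx]

/-- Invariance is transported. -/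
theorem Tr.normalIn {T : Subgroup Ω} {T' : Subgroup Ω'} {E : FusionSystem T} {E' : FusionSystem T'}
    (h : Tr D D' a b) (hE : Tr E E' a b) [Finite U] {p : ℕ} [Fact p.Prime] (hU : IsPGroup p U)
    (hn : E.IsNormalIn D p) : E'.IsNormalIn D' p := by
  obtain ⟨⟨hEsat, hDsat, hinv⟩, hext⟩ := hn
  obtain ⟨hsub, hcl, hinv', hfrat⟩ := invariant_iff.1 hinv
  have hTU := hcl.1
  haveI := finite_of_le hTU
  have hT' : T' = img a T := hE.bij.img_self.symm
  subst hT'
  have hT'U := h.bij.img_le hTU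
  have hmem : ∀ β ∈ D'.autGroup (img a T), ∃ α ∈ D.autGroup T, ∀ x ∈ T, afun β (a x) = a (afun α x) := by
    intro β hβ
    refine ⟨(MulAut.congr (h.te hTU)).symm β, (h.mem_autGroup hTU).1 (by rwa [MulEquiv.apply_symm_apply]),
      fun x hx => ?_⟩
    rw [← h.afun_te hTU _ hx, MulEquiv.apply_symm_apply]
  refine ⟨⟨hE.saturated (hU.to_le hTU) hEsat, h.saturated hU hDsat, invariant_iff.2
    ⟨?_, h.stronglyClosed hcl, ?_, ?_⟩⟩, ?_⟩
  · intro P φ hφ
    have h1 := hE.mor' (mor_toFun hφ)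
    have h2 := h.mor (FusionKit88.sub_mor hsub h1)
    rw [h.bij.symm.img_img ((E'.le_of_mem hφ).1.trans hT'U)] at h2
    refine (mor_iff_hom fun x => (toFun_coe φ x).symm).1 (h2.congr fun y hy => ?_)
    have := (mor_toFun hφ).apply_mem hy
    simp only [Function.comp_apply, h.bij.right y (hT'U ((E'.le_of_mem hφ).1 hy)),
      h.bij.right _ (hT'U this)]
  · intro P f hf β hβ
    obtain ⟨α, hα, hαe⟩ := hmem β hβ
    obtain ⟨f', hf', he'⟩ := hinv' _ _ (hE.mor' hf) α hα
    have e : img a (im (img b P) (afun α)) = im P (afun β) := by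
      refine le_antisymm (img_le_iff.2 fun z hz => ?_) (im_le_iff.2 fun y hy => ?_)
      · obtain ⟨x, hx, rfl⟩ := ((FusionSysBasic.mem_autGroup hTU).1 hα |>.restrict_to
          (hE.bij.symm.img_le hf.le)).mem_im.1 hz
        rw [← hαe x (hE.bij.symm.img_le hf.le hx)]
        obtain ⟨y, hy, rfl⟩ := (hE.bij.symm.mem_img hf.le).1 hx
        rw [hE.bij.right y (hf.le hy)]
        exact apply_mem_im hy
      · rw [← hE.bij.right y (hf.le hy), hαe _ (hE.bij.inv_mem y (hf.le hy))]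
        exact apply_mem_img (apply_mem_im (apply_mem_img hy))
    refine ⟨_, e ▸ hE.mor hf', fun y hy => ?_⟩
    have hby := hE.bij.inv_mem y (hf.le hy)
    have hfy := hE.bij.inv_mem _ (hf.apply_mem hy)
    have e1 := hαe _ hby
    rw [hE.bij.right y (hf.le hy)] at e1
    have e2 := hαe _ hfy
    rw [hE.bij.right _ (hf.apply_mem hy)] at e2
    simp only [Function.comp_apply, e1, hE.bij.left _ (afun_mem α hby), he' _ (apply_mem_img hy),
      hE.bij.right y (hf.le hy), e2]
  · intro P f hP hf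
    obtain ⟨α, hα, f₀, hf₀, hfr⟩ := hfrat _ _ ((img_mono hP).trans (h.bij.img_img hTU).le) (h.mor' hf)
    have h0 := hE.mor hf₀
    rw [h.bij.symm.img_img hf.le] at h0
    refine ⟨_, (h.mem_autGroup hTU).2 hα, _, h0, fun y hy => ?_⟩
    simp only [Function.comp_apply]
    rw [h.afun_te hTU α (hf₀.apply_mem (apply_mem_img hy)), ← hfr _ (apply_mem_img hy)]
    simp only [Function.comp_apply, h.bij.right y (hf.le hy), h.bij.right _ (hf.apply_mem hy)]
  · intro α' hα'
    obtain ⟨α, hα, hαe⟩ : ∃ α ∈ E.autGroup T, ∀ x ∈ T, afun α' (a x) = a (afun α x) := by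
      refine ⟨(MulAut.congr (hE.te le_rfl)).symm α', (hE.mem_autGroup le_rfl).1 (by rwa [MulEquiv.apply_symm_apply]),
        fun x hx => ?_⟩
      rw [← hE.afun_te le_rfl _ hx, MulEquiv.apply_symm_apply]
    have hC : centralizerIn U' (img a T) = img a (centralizerIn U T) := by
      refine le_antisymm (fun y hy => ?_) (img_le_iff.2 fun c hc => ?_)
      · obtain ⟨hyU, hyc⟩ := mem_centralizerIn.1 hy
        rw [← h.bij.right y hyU]
        refine apply_mem_img (mem_centralizerIn.2 ⟨h.bij.inv_mem y hyU, fun t ht => ?_⟩)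
        refine h.bij.injOn (cj_mem_S (h.bij.inv_mem y hyU) (hTU ht)) (hTU ht) ?_
        rw [h.bij.map_cj (h.bij.inv_mem y hyU) (hTU ht), h.bij.right y hyU, hyc _ (apply_mem_img ht)]
      · obtain ⟨hcU, hcc⟩ := mem_centralizerIn.1 hc
        refine mem_centralizerIn.2 ⟨h.bij.map_mem c hcU, fun z hz => ?_⟩
        obtain ⟨t, ht, rfl⟩ := (h.bij.mem_img hTU).1 hz
        rw [← h.bij.map_cj hcU (hTU ht), hcc t ht]
    have hCU : centralizerIn U T ≤ U := inf_le_left
    obtain ⟨β, hβ, hβT, hβC⟩ := hext α hα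
    let V := T ⊔ centralizerIn U T
    have hVU : V ≤ U := sup_le hTU hCU
    have eV : img a V = img a T ⊔ centralizerIn U' (img a T) := by
      rw [hC]
      refine le_antisymm ?_ (sup_le (img_mono le_sup_left) (img_mono le_sup_right))
      refine img_le_iff.2 fun x hx => ?_
      let K : Subgroup Ω :=
        { carrier := {x | x ∈ U ∧ a x ∈ img a T ⊔ img a (centralizerIn U T)}
          one_mem' := ⟨U.one_mem, h.bij.map_one ▸ one_mem _⟩
          mul_mem' := fun {u v} hu hv => ⟨U.mul_mem hu.1 hv.1, by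
            rw [h.bij.map_mul _ hu.1 _ hv.1]; exact mul_mem hu.2 hv.2⟩
          inv_mem' := fun {u} hu => ⟨U.inv_mem hu.1, by
            rw [h.bij.map_inv hu.1]; exact inv_mem hu.2⟩ }
      exact ((sup_le (fun t ht => ⟨hTU ht, Subgroup.mem_sup_left (apply_mem_img ht)⟩)
        (fun c hc => ⟨hCU hc, Subgroup.mem_sup_right (apply_mem_img hc)⟩) : V ≤ K) hx).2
    have hβ'm := (h.mem_autGroup hVU).2 hβ
    obtain ⟨γ, hγ, hγe⟩ : ∃ γ ∈ D'.autGroup (img a T ⊔ centralizerIn U' (img a T)),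
        ∀ x ∈ V, afun γ (a x) = a (afun β x) := by
      rw [← eV]
      exact ⟨_, hβ'm, fun x hx => h.afun_te hVU β hx⟩
    refine ⟨γ, hγ, fun z => ?_, fun c hc => ?_⟩
    · obtain ⟨x, hx, he⟩ := (h.bij.mem_img hTU).1 z.2
      have := hβT ⟨x, hx⟩
      rw [← afun_coe, ← afun_coe] at this
      rw [← afun_coe γ, ← afun_coe α']
      show afun γ (z : Ω') = afun α' (z : Ω')
      rw [← he, hγe x (Subgroup.mem_sup_left hx), hαe x hx]
      exact congrArg a this
    · replace hc := hC.le hc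
      obtain ⟨d, hd, he⟩ := (h.bij.mem_img hCU).1 hc
      have hdV : d ∈ V := Subgroup.mem_sup_right hd
      have := hβC ⟨d, hdV⟩ hd
      rw [← afun_coe β] at this
      rw [← afun_coe γ, ← he, hγe d hdV]
      obtain ⟨w1, w2⟩ := this
      have hb : afun β d ∈ U := hVU (afun_mem β hdV)
      rw [← h.bij.map_inv (hCU hd), ← h.bij.map_mul _ (U.inv_mem (hCU hd)) _ hb]
      refine ⟨apply_mem_img w1, Subgroup.mem_centralizer_iff.2 fun z hz => ?_⟩
      obtain ⟨t, ht, rfl⟩ := (h.bij.mem_img hTU).1 hz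
      rw [← h.bij.map_mul _ (hTU ht) _ (hTU w1), ← h.bij.map_mul _ (hTU w1) _ (hTU ht)]
      exact congrArg a (Subgroup.mem_centralizer_iff.1 w2 t ht)

/-- Simplicity is transported. -/
theorem Tr.simple (h : Tr D D' a b) [Finite U] {p : ℕ} [Fact p.Prime] (hU : IsPGroup p U)
    (hs : D.IsSimple p) : D'.IsSimple p := by
  obtain ⟨hsat, hne, hsimp⟩ := hs
  haveI := h.finite
  have hU' : IsPGroup p U' := hU.of_surjective
    (h.hom.codRestrict U' fun x => h.bij.map_mem x x.2)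
    fun y => ⟨⟨b y, h.bij.inv_mem y y.2⟩, Subtype.ext (h.bij.right y y.2)⟩
  refine ⟨h.saturated hU hsat, fun e => hne ?_, fun T' E' hn => ?_⟩
  · refine (Subgroup.eq_bot_iff_forall _).2 fun x hx => h.bij.injOn hx U.one_mem ?_
    rw [h.bij.map_one]
    exact Subgroup.mem_bot.1 (e.le (h.bij.map_mem x hx))
  have hsub := hn.1.2.2.1
  have hp := push_tr h.symm hsub
  rcases hsimp _ _ (h.symm.normalIn hp hU' hn) with hT | ⟨hT, hom⟩
  · refine Or.inl ((Subgroup.eq_bot_iff_forall _).2 fun y hy => ?_)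
    have h1 : b y ∈ img b T' := apply_mem_img hy
    rw [hT, Subgroup.mem_bot] at h1
    rw [← h.bij.right y (FusionKit88.sub_le hsub hy), h1, h.bij.map_one]
  · have hT' : T' = U' := by
      refine le_antisymm (FusionKit88.sub_le hsub) fun y hy => ?_
      have h1 : b y ∈ img b T' := hT.ge (h.bij.inv_mem y hy)
      obtain ⟨z, hz, e⟩ := (hp.bij.mem_img le_rfl).1 h1
      rwa [← h.bij.symm.injOn (FusionKit88.sub_le hsub hz) hy e]
    refine Or.inr ⟨hT', fun P => Set.ext fun φ => ⟨fun hφ => hsub P hφ, fun hφ => ?_⟩⟩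
    have hm := mor_toFun hφ
    obtain ⟨ψ, hψ, hψe⟩ := h.mor' hm
    have h1 : Mor (push h.symm hsub) (img b P) (b ∘ toFun φ ∘ a) := ⟨ψ, (hom _).symm ▸ hψ, hψe⟩
    have h2 := hp.mor' h1
    rw [h.bij.symm.img_img hm.le] at h2
    refine (mor_iff_hom fun x => (toFun_coe φ x).symm).1 (h2.congr fun y hy => ?_)
    simp only [Function.comp_apply, h.bij.right y (hm.le hy), h.bij.right _ (hm.apply_mem hy)]

end Cfsg.Agent.FusionIso88

namespace Cfsg.Agent.FusionIso88

open Cfsg Cfsg.FusionSystem Cfsg.Agent.FusionSysBasic Cfsg.Agent.FusionSysSaturated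
  Cfsg.Agent.FusionSysNormal Cfsg.Agent.FusionMorph88

variable {Ω Ω' : Type*} [Group Ω] [Group Ω'] {U : Subgroup Ω} {U' : Subgroup Ω'}
  {D : FusionSystem U} {D' : FusionSystem U'} {a : Ω → Ω'} {b : Ω' → Ω}

/-- Factor systems of isomorphic systems are isomorphic. -/
theorem Tr.factor (h : Tr D D' a b) {Z : Subgroup Ω} {Z' : Subgroup Ω'} (hZ : Z' = img a Z)
    {Θ Θ' : Type*} [Group Θ] [Group Θ'] {V : Subgroup Θ} {V' : Subgroup Θ'} {θ : U →* Θ}
    {θ' : U' →* Θ'} {E : FusionSystem V} {E' : FusionSystem V'}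
    (hE : D.IsFactorSystem Z θ E) (hE' : D'.IsFactorSystem Z' θ' E') :
    ∃ (a' : Θ → Θ') (b' : Θ' → Θ), Tr E E' a' b' := by
  have hZU := hE.1
  have hwd : ∀ x ∈ U, ∀ y ∈ U, app θ x = app θ y → app θ' (a x) = app θ' (a y) := by
    intro x hx y hy e
    have hz : x⁻¹ * y ∈ Z := by
      rw [factor_stronglyClosed hE, mem_kerAlong]
      exact ⟨U.mul_mem (U.inv_mem hx) hy,
        by rw [app_mul (U.inv_mem hx) hy, app_inv hx, e, inv_mul_cancel]⟩
    have hz' : a (x⁻¹ * y) ∈ (θ'.ker).map U'.subtype := by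
      rw [← factor_stronglyClosed hE', hZ]
      exact apply_mem_img hz
    rw [show y = x * (x⁻¹ * y) from (mul_inv_cancel_left x y).symm, h.bij.map_mul x hx _ (hZU hz),
      app_mul (h.bij.map_mem x hx) (h.bij.map_mem _ (hZU hz)), (mem_kerAlong.1 hz').2, mul_one]
  have hwd' : ∀ x ∈ U', ∀ y ∈ U', app θ' x = app θ' y → app θ (b x) = app θ (b y) := by
    intro x hx y hy e
    have hz : x⁻¹ * y ∈ Z' := by
      rw [factor_stronglyClosed hE', mem_kerAlong]
      exact ⟨U'.mul_mem (U'.inv_mem hx) hy,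
        by rw [app_mul (U'.inv_mem hx) hy, app_inv hx, e, inv_mul_cancel]⟩
    have hz' : b (x⁻¹ * y) ∈ (θ.ker).map U.subtype := by
      rw [← factor_stronglyClosed hE, ← h.bij.img_img hZU, ← hZ]
      exact apply_mem_img hz
    rw [show y = x * (x⁻¹ * y) from (mul_inv_cancel_left x y).symm,
      h.bij.symm.map_mul x hx _ (hE'.1 hz),
      app_mul (h.bij.inv_mem x hx) (h.bij.inv_mem _ (hE'.1 hz)), (mem_kerAlong.1 hz').2, mul_one]
  let sec : Θ → Ω := Function.invFunOn (app θ) (U : Set Ω)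
  let sec' : Θ' → Ω' := Function.invFunOn (app θ') (U' : Set Ω')
  have hsec : ∀ y ∈ V, sec y ∈ U ∧ app θ (sec y) = y := by
    intro y hy
    obtain ⟨x, rfl⟩ := hE.2.2.1.ge hy
    have hex : ∃ x' ∈ (U : Set Ω), app θ x' = θ x := ⟨x, x.2, app_apply θ x.2⟩
    exact ⟨Function.invFunOn_mem hex, Function.invFunOn_eq hex⟩
  have hsec' : ∀ y ∈ V', sec' y ∈ U' ∧ app θ' (sec' y) = y := by
    intro y hy
    obtain ⟨x, rfl⟩ := hE'.2.2.1.ge hy
    have hex : ∃ x' ∈ (U' : Set Ω'), app θ' x' = θ' x := ⟨x, x.2, app_apply θ' x.2⟩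
    exact ⟨Function.invFunOn_mem hex, Function.invFunOn_eq hex⟩
  have happ : ∀ x ∈ U, app θ x ∈ V := fun x hx => hE.2.2.1 ▸ ⟨⟨x, hx⟩, (app_apply θ hx).symm⟩
  have happ' : ∀ x ∈ U', app θ' x ∈ V' := fun x hx => hE'.2.2.1 ▸ ⟨⟨x, hx⟩, (app_apply θ' hx).symm⟩
  let a' : Θ → Θ' := fun y => app θ' (a (sec y))
  let b' : Θ' → Θ := fun y => app θ (b (sec' y))
  have ea : ∀ x ∈ U, a' (app θ x) = app θ' (a x) := fun x hx =>
    hwd _ (hsec _ (happ x hx)).1 x hx (hsec _ (happ x hx)).2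
  have eb : ∀ x ∈ U', b' (app θ' x) = app θ (b x) := fun x hx =>
    hwd' _ (hsec' _ (happ' x hx)).1 x hx (hsec' _ (happ' x hx)).2
  have hB : Bij V V' a' b' := by
    refine ⟨fun y hy => happ' _ (h.bij.map_mem _ (hsec y hy).1),
      fun y hy => happ _ (h.bij.inv_mem _ (hsec' y hy).1), fun y hy => ?_, fun y hy => ?_, fun y hy z hz => ?_⟩
    · show b' (app θ' (a (sec y))) = y
      rw [eb _ (h.bij.map_mem _ (hsec y hy).1), h.bij.left _ (hsec y hy).1, (hsec y hy).2]
    · show a' (app θ (b (sec' y))) = y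
      rw [ea _ (h.bij.inv_mem _ (hsec' y hy).1), h.bij.right _ (hsec' y hy).1, (hsec' y hy).2]
    · conv_lhs => rw [← (hsec y hy).2, ← (hsec z hz).2, ← app_mul (hsec y hy).1 (hsec z hz).1]
      rw [ea _ (U.mul_mem (hsec y hy).1 (hsec z hz).1), h.bij.map_mul _ (hsec y hy).1 _ (hsec z hz).1,
        app_mul (h.bij.map_mem _ (hsec y hy).1) (h.bij.map_mem _ (hsec z hz).1)]
  refine ⟨a', b', hB, fun {P f'} hf' => ?_, fun {P f'} hf' => ?_⟩
  · obtain ⟨hP, f, hf, he⟩ := (factor_mor hE).1 hf'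
    have hpre : preimageAlong θ' (img a' P) ≤ img a (preimageAlong θ P) := fun x hx => by
      obtain ⟨hxU, hxP⟩ := mem_preimageAlong.1 hx
      obtain ⟨y, hy, e⟩ := (hB.mem_img hP).1 hxP
      rw [← h.bij.right x hxU]
      refine apply_mem_img (mem_preimageAlong.2 ⟨h.bij.inv_mem x hxU, ?_⟩)
      rw [← eb x hxU, ← e, hB.left y (hP hy)]
      exact hy
    refine (factor_mor hE').2 ⟨hB.img_le hP, a ∘ f ∘ b, (h.mor hf).restrict_to hpre, fun x hx => ?_⟩
    obtain ⟨x₀, hx₀, rfl⟩ := (h.bij.mem_img (preimageAlong_le θ P)).1 (hpre hx)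
    have hx₀U := preimageAlong_le θ P hx₀
    simp only [Function.comp_apply, h.bij.left x₀ hx₀U, eb _ (h.bij.map_mem _ hx₀U), he x₀ hx₀,
      ea _ (hf.apply_mem hx₀)]
  · obtain ⟨hP, f, hf, he⟩ := (factor_mor hE').1 hf'
    have hpre : preimageAlong θ (img b' P) ≤ img b (preimageAlong θ' P) := fun x hx => by
      obtain ⟨hxU, hxP⟩ := mem_preimageAlong.1 hx
      obtain ⟨y, hy, e⟩ := (hB.symm.mem_img hP).1 hxP
      rw [← h.bij.left x hxU]
      refine apply_mem_img (mem_preimageAlong.2 ⟨h.bij.map_mem x hxU, ?_⟩)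
      rw [← ea x hxU, ← e, hB.right y (hP hy)]
      exact hy
    refine (factor_mor hE).2 ⟨hB.symm.img_le hP, b ∘ f ∘ a, (h.mor' hf).restrict_to hpre, fun x hx => ?_⟩
    obtain ⟨x₀, hx₀, rfl⟩ := (h.bij.symm.mem_img (preimageAlong_le θ' P)).1 (hpre hx)
    have hx₀U := preimageAlong_le θ' P hx₀
    simp only [Function.comp_apply, h.bij.right x₀ hx₀U, ea _ (h.bij.inv_mem _ hx₀U), he x₀ hx₀,
      eb _ (hf.apply_mem hx₀)]

theorem center_normal (F : FusionSystem U) : (F.center.subgroupOf U).Normal := inferInstance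

/-- Quasisimplicity is transported. -/
theorem Tr.quasisimple (h : Tr D D' a b) [Finite U] {p : ℕ} [Fact p.Prime] (hU : IsPGroup p U)
    (hq : D.Quasisimple p) : D'.Quasisimple p := by
  obtain ⟨hsat, hhyp, hfac⟩ := hq
  haveI := h.finite
  refine ⟨h.saturated hU hsat, by rw [h.hyperfocal, hhyp, h.bij.img_self], fun E' hE' => ?_⟩
  have hcl : D.StronglyClosed D.center := stronglyClosed_iff.2 ⟨center_isCentral.1, fun P f hP hf x hx => by
    obtain ⟨g', hg', hag, hfix⟩ := (isCentral_iff.1 (center_isCentral (F := D))).2 P f hf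
    rw [← hag x hx, hfix x (hP hx)]
    exact hP hx⟩
  have hE : D.IsFactorSystem D.center (QuotientGroup.mk' (D.center.subgroupOf U))
      (S5132.factorSys D D.center hcl) := ⟨center_isCentral.1, fun s => by
    rw [← MonoidHom.mem_ker, QuotientGroup.ker_mk', Subgroup.mem_subgroupOf],
    QuotientGroup.range_mk' _, fun P' φ' => Iff.rfl⟩
  obtain ⟨a', b', ht⟩ := h.factor h.center hE hE'
  exact ht.simple ((hU.to_quotient _).to_subgroup ⊤) (hfac _ hE)

/-- An automorphism in `Aut_F(T)` preserves an invariant subsystem over `T`. -/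
theorem tr_of_aut {T : Subgroup Ω} {E : FusionSystem T} (hinv : E.IsInvariantIn D) {α : MulAut T}
    (hα : α ∈ D.autGroup T) : Tr E E (afun α) (afun α⁻¹) := by
  obtain ⟨-, hcl, hinv', -⟩ := invariant_iff.1 hinv
  have hB : ∀ β : MulAut T, Bij T T (afun β) (afun β⁻¹) := fun β => ⟨fun x hx => afun_mem β hx,
    fun x hx => afun_mem β⁻¹ hx, fun x hx => afun_inv_apply β hx, fun x hx => afun_apply_inv β hx,
    fun x hx y hy => afun_map_mul β hx hy⟩
  have key : ∀ β ∈ D.autGroup T, ∀ {P f}, Mor E P f → Mor E (img (afun β) P) (afun β ∘ f ∘ afun β⁻¹) := by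
    intro β hβ P f hf
    obtain ⟨f', hf', he⟩ := hinv' P f hf β hβ
    have e : img (afun β) P = im P (afun β) := rfl
    rw [e]
    refine hf'.congr fun y hy => ?_
    obtain ⟨x, hx, rfl⟩ := (hB β).mem_img hf.le |>.1 hy
    simp only [Function.comp_apply, afun_inv_apply β (hf.le hx), he x hx]
  refine ⟨hB α, fun hf => key α hα hf, fun hf => ?_⟩
  have := key α⁻¹ (inv_mem hα) hf
  rwa [inv_inv] at this

/-- A map of `D` on `U` preserves `D`. -/
theorem tr_of_mor [Finite U] {g g' : Ω → Ω} (hg : Mor D U g) (hB : Bij U U g g') : Tr D D g g' := by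
  obtain ⟨i, hi, hi1, hi2, -⟩ := hg.exists_inv
  have himU : im U g = U := hg.im_self fun x hx => hg.apply_mem hx
  rw [himU] at hi hi2
  have hg' : Mor D U g' := hi.congr fun y hy => by
    conv_lhs => rw [← hB.right y hy]
    exact hi1 _ (hB.inv_mem y hy)
  have key : ∀ {g g' : Ω → Ω}, Mor D U g → Mor D U g' → Bij U U g g' →
      ∀ {P f}, Mor D P f → Mor D (img g P) (g ∘ f ∘ g') := by
    intro g g' hg hg' hB P f hf
    refine (hg'.restrict_to (hB.img_le hf.le)).comp (hf.comp hg fun x hx => hf.apply_mem hx) ?_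
    intro y hy
    obtain ⟨x, hx, rfl⟩ := (hB.mem_img hf.le).1 hy
    rwa [hB.left x (hf.le hx)]
  exact ⟨hB, fun hf => key hg hg' hB hf, fun hf => key hg' hg hB.symm hf⟩

theorem subnormal_subsystem {T : Subgroup Ω} {C : FusionSystem T} {p : ℕ}
    (h : C.IsSubnormalIn D p) : C.IsSubsystemOf D := by
  induction h with
  | refl F p => exact fun _ _ h => h
  | step h1 h2 ih => exact fun P φ hφ => h2.1.2.2.1 P (ih P hφ)

theorem Tr.congr_left {a' : Ω → Ω'} (h : Tr D D' a b) (e : ∀ x ∈ U, a x = a' x) :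
    Tr D D' a' b := by
  have ei : ∀ {P : Subgroup Ω}, P ≤ U → img a' P = img a P := fun hP =>
    img_congr fun x hx => (e x (hP hx)).symm
  refine ⟨⟨fun x hx => e x hx ▸ h.bij.map_mem x hx, h.bij.inv_mem,
    fun x hx => by rw [← e x hx, h.bij.left x hx],
    fun y hy => by rw [← e _ (h.bij.inv_mem y hy), h.bij.right y hy],
    fun x hx y hy => by rw [← e _ (U.mul_mem hx hy), ← e x hx, ← e y hy, h.bij.map_mul x hx y hy]⟩,
    fun {P f} hf => ?_, fun {P f} hf => ?_⟩
  · rw [ei hf.le]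
    refine (h.mor hf).congr fun y hy => ?_
    obtain ⟨x, hx, rfl⟩ := (h.bij.mem_img hf.le).1 hy
    have := h.bij.left x (hf.le hx)
    simp only [Function.comp_apply, this]
    exact e _ (hf.apply_mem hx)
  · refine (h.mor' hf).congr fun x hx => ?_
    obtain ⟨y, hy, rfl⟩ := (h.bij.symm.mem_img hf.le).1 hx
    simp only [Function.comp_apply, e _ (h.bij.inv_mem y (hf.le hy))]

/-- Subnormality is transported. -/
theorem subnormal_transport {T : Subgroup Ω} {C : FusionSystem T} {p : ℕ}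
    (h : C.IsSubnormalIn D p) : Fact p.Prime → Finite U → IsPGroup p U →
    ∀ {U' : Subgroup Ω'} (D' : FusionSystem U') (a : Ω → Ω') (b : Ω' → Ω), Tr D D' a b →
    ∀ {T' : Subgroup Ω'} (C' : FusionSystem T'), Tr C C' a b → C'.IsSubnormalIn D' p := by
  induction h with
  | refl F p =>
    intro _ _ _ U' D' a b hD T' C' hC
    have e : T' = U' := hC.bij.img_self.symm.trans hD.bij.img_self
    subst e
    rw [hC.unique hD]
    exact FusionSystem.IsSubnormalIn.refl _ _
  | @step U₁ U₂ C D₁ F p hCD hDF ih =>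
    intro hp hfin hU U' D' a b hD T' C' hC
    have hsub := hDF.1.2.2.1
    have hUU := FusionKit88.sub_le hsub
    haveI := finite_of_le hUU
    have hpush := push_tr hD hsub
    exact FusionSystem.IsSubnormalIn.step
      (ih hp inferInstance (hU.to_le hUU) (push hD hsub) a b hpush C' hC)
      (hD.normalIn hpush hU hDF)

/-- Subsystems conjugate under a map of `D` to subnormal ones are subnormal. -/
theorem subnormal_conj {T : Subgroup Ω} {C : FusionSystem T} {p : ℕ}
    (h : C.IsSubnormalIn D p) : Fact p.Prime → Finite U → IsPGroup p U →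
    ∀ {T' : Subgroup Ω} (C' : FusionSystem T') (g g' : Ω → Ω), Mor D T g → Tr C C' g g' →
      C'.IsSubnormalIn D p := by
  induction h with
  | @refl F p =>
    intro _ _ _ T' C' g g' hg hC
    have himU := hg.im_self fun x hx => hg.apply_mem hx
    obtain rfl := hC.bij.img_self.symm.trans himU
    rw [hC.unique (tr_of_mor hg hC.bij)]
    exact FusionSystem.IsSubnormalIn.refl _ _
  | @step U₁ U₂ C D₁ F p hCD hDF ih =>
    intro hp hfin hU T' C' g g' hg hC
    obtain ⟨-, hcl, -, hfrat⟩ := invariant_iff.1 hDF.1.2.2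
    have hTU := FusionKit88.subnormal_le hCD
    have hUU := hcl.1
    haveI := finite_of_le hUU
    obtain ⟨α, hα, g₀, hg₀, hfr⟩ := hfrat T g hTU hg
    have hT'U : T' ≤ U₁ := hC.bij.img_self ▸ (img_le_iff.2 fun x hx => by
      rw [hfr x hx]; exact afun_mem α (hg₀.apply_mem hx))
    have himg : img (afun α⁻¹) T' = im T g₀ := by
      refine le_antisymm (img_le_iff.2 fun y hy => ?_) (im_le_iff.2 fun x hx => ?_)
      · rw [← hC.bij.right y hy, hfr _ (hC.bij.inv_mem y hy),
          afun_inv_apply α (hg₀.apply_mem (hC.bij.inv_mem y hy))]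
        exact apply_mem_im (hC.bij.inv_mem y hy)
      · rw [← afun_inv_apply α (hg₀.apply_mem hx), ← hfr x hx]
        exact apply_mem_img (hC.bij.map_mem x hx)
    have hA := tr_of_aut hDF.1.2.2 hα
    -- transport `C'` back by `α⁻¹`
    have hsubD : C'.IsSubsystemOf D₁ := fun P φ hφ => by
      have hf := mor_toFun hφ
      have h1 := FusionKit88.sub_mor (subnormal_subsystem hCD) (hC.mor' hf)
      obtain ⟨i, hi, hi1, -, -⟩ := hg₀.exists_inv
      have hmid : Mor D₁ (img (afun α⁻¹) P) (g₀ ∘ (g' ∘ toFun φ ∘ g) ∘ i) := by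
        refine (hi.restrict_to ((img_mono hf.le).trans himg.le)).comp
          (h1.comp hg₀ fun x hx => (hC.mor' hf).apply_mem hx) ?_
        intro y hy
        obtain ⟨z, hz, rfl⟩ := (hA.bij.symm.mem_img (hf.le.trans hT'U)).1 hy
        have hzT := hC.bij.inv_mem z (hf.le hz)
        have e2 : afun α⁻¹ z = g₀ (g' z) := by
          conv_lhs => rw [← hC.bij.right z (hf.le hz), hfr _ hzT]
          exact afun_inv_apply α (hg₀.apply_mem hzT)
        rw [e2, hi1 _ hzT]
        exact apply_mem_img hz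
      have h2 := hA.mor hmid
      rw [hA.bij.symm.img_img (hf.le.trans hT'U)] at h2
      refine (mor_iff_hom fun x => (toFun_coe φ x).symm).1 (h2.congr fun z hz => ?_)
      have hzT := hC.bij.inv_mem z (hf.le hz)
      have e2 : afun α⁻¹ z = g₀ (g' z) := by
        conv_lhs => rw [← hC.bij.right z (hf.le hz), hfr _ hzT]
        exact afun_inv_apply α (hg₀.apply_mem hzT)
      have hout := (hC.mor' hf).apply_mem (apply_mem_img hz)
      simp only [Function.comp_apply] at hout ⊢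
      rw [hC.bij.right z (hf.le hz)] at hout
      rw [e2, hi1 _ hzT, hC.bij.right z (hf.le hz), ← hfr _ hout, hC.bij.right _ (hf.apply_mem hz)]
    have hback := push_tr hA.symm hsubD
    have hC₀ : Tr C (push hA.symm hsubD) g₀ (g' ∘ afun α) := by
      have h0 := hC.comp hback
      have eg : ∀ x ∈ T, (afun α⁻¹ ∘ g) x = g₀ x := fun x hx => by
        rw [Function.comp_apply, hfr x hx, afun_inv_apply α (hg₀.apply_mem hx)]
      exact h0.congr_left eg
    have h3 := ih hp inferInstance (hU.to_le hUU) (push hA.symm hsubD) g₀ (g' ∘ afun α) hg₀ hC₀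
    exact FusionSystem.IsSubnormalIn.step
      (subnormal_transport h3 hp inferInstance (hU.to_le hUU) D₁ _ _ hA C' hback.symm) hDF

end Cfsg.Agent.FusionIso88

namespace Cfsg.Agent.FusionIso88

open Cfsg Cfsg.FusionSystem Cfsg.Agent.FusionSysBasic Cfsg.Agent.FusionSysSaturated
  Cfsg.Agent.FusionSysNormal Cfsg.Agent.FusionMorph88

variable {Ω Ω' : Type*} [Group Ω] [Group Ω'] {U : Subgroup Ω} {U' : Subgroup Ω'}
  {D : FusionSystem U} {D' : FusionSystem U'}

/-- The factor system by the trivial subgroup is an isomorphic copy. -/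
theorem exists_tr_of_factor_bot {θ : U →* Ω'} (h : D.IsFactorSystem ⊥ θ D') :
    ∃ b : Ω' → Ω, Tr D D' (app θ) b := by
  have hinj : Function.Injective θ := (injective_iff_map_eq_one θ).2 fun s hs => Subtype.ext ((h.2.1 s).1 hs)
  let b : Ω' → Ω := fun y => ((Function.invFun θ y : U) : Ω)
  have hB : Bij U U' (app θ) b := ⟨fun x hx => h.2.2.1 ▸ ⟨⟨x, hx⟩, (app_apply θ hx).symm⟩,
    fun y _ => (Function.invFun θ y : U).2,
    fun x hx => by
      show ((Function.invFun θ (app θ x) : U) : Ω) = x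
      rw [app_apply θ hx, Function.leftInverse_invFun hinj],
    fun y hy => by
      show app θ ((Function.invFun θ y : U) : Ω) = y
      rw [app_apply θ (Function.invFun θ y : U).2]
      exact Function.invFun_eq (h.2.2.1.ge hy),
    fun x hx y hy => app_mul hx hy⟩
  have hpre : ∀ {P : Subgroup Ω'}, P ≤ U' → preimageAlong θ P = img b P := by
    intro P hP
    ext x
    rw [mem_preimageAlong, hB.symm.mem_img hP]
    exact ⟨fun ⟨hx, hxP⟩ => ⟨_, hxP, hB.left x hx⟩,
      fun ⟨y, hy, e⟩ => e ▸ ⟨hB.inv_mem y (hP hy), (hB.right y (hP hy)).symm ▸ hy⟩⟩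
  refine ⟨b, hB, fun {P f} hf => (factor_mor h).2 ⟨hB.img_le hf.le, f, ?_, fun x hx => ?_⟩,
    fun {P f} hf => ?_⟩
  · rw [hpre (hB.img_le hf.le), hB.img_img hf.le]; exact hf
  · simp only [Function.comp_apply, hB.left x (preimageAlong_le θ _ hx)]
  · obtain ⟨hP, f₀, hf₀, he⟩ := (factor_mor h).1 hf
    rw [← hpre hP]
    exact hf₀.congr fun x hx => by
      simp only [Function.comp_apply, he x hx, hB.left _ (hf₀.apply_mem hx)]

end Cfsg.Agent.FusionIso88
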