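import Mathlib
import Cfsg.Agent.Lib.FusionSysAlperin
import Cfsg.Agent.Lib.FusionInduct88
import Cfsg.Agent.Lib.FusionFrattini88
import Cfsg.Agent.Lib.FusCentric

/-!
Subsystems containing the `p`-elements of the automizers of the centric subgroups: every map of `F`
is an automorphism of `S` followed by a map of such a subsystem.
-/

set_option autoImplicit false

namespace Cfsg.Agent.FusionPrimeIndex90

open Cfsg Cfsg.FusionSystem Cfsg.Agent.FusionSysBasic Cfsg.Agent.FusionSysSaturated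
open Cfsg.Agent.FusionInduct88

variable {Ω : Type*} [Group Ω] {S : Subgroup Ω} {F E : FusionSystem S} {p : ℕ}

/-- The maps all of whose conjugates under `Aut_F(S)` lie in `E`. -/
def Stable (F E : FusionSystem S) (P : Subgroup Ω) (f : Ω → Ω) : Prop :=
  P ≤ S ∧ ∀ γ ∈ F.autGroup S, Mor E (im P (afun γ)) (afun γ ∘ f ∘ afun γ⁻¹)

theorem aut_mor {γ : MulAut S} (hγ : γ ∈ F.autGroup S) {P : Subgroup Ω} (hP : P ≤ S) :
    Mor F P (afun γ) :=
  ((mem_autGroup le_rfl).1 hγ).restrict_to hP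

theorem closed_stable (hEF : E.IsSubsystemOf F) : Closed F (U := S) (Stable F E) where
  congr := fun {P f g} h he => ⟨h.1, fun γ hγ => by
    refine (h.2 γ hγ).congr fun y hy => ?_
    have hP := h.1
    obtain ⟨x, hx, rfl⟩ := (aut_mor hγ hP).mem_im.1 hy
    simp only [Function.comp_apply, afun_inv_apply γ (hP hx), he x hx]⟩
  conj := fun {P g} hP hg => ⟨hP, fun γ hγ => by
    have hm := aut_mor hγ hP
    refine (mor_cj (F := E) hm.im_le (afun_mem γ hg)).congr fun y hy => ?_
    obtain ⟨x, hx, rfl⟩ := hm.mem_im.1 hy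
    simp only [Function.comp_apply, afun_inv_apply γ (hP hx)]
    exact (((mem_autGroup le_rfl).1 hγ).map_cj hg (hP hx)).symm⟩
  comp := fun {P Q f g} hf _ hP _ hfQ ⟨_, h1⟩ ⟨_, h2⟩ => ⟨hP, fun γ hγ => by
    have hm := aut_mor hγ hP
    refine ((h1 γ hγ).comp (h2 γ hγ) fun y hy => ?_).congr fun y hy => ?_
    · obtain ⟨x, hx, rfl⟩ := hm.mem_im.1 hy
      simp only [Function.comp_apply, afun_inv_apply γ (hP hx)]
      exact apply_mem_im (hfQ x hx)
    · obtain ⟨x, hx, rfl⟩ := hm.mem_im.1 hy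
      simp only [Function.comp_apply, afun_inv_apply γ (hP hx),
        afun_inv_apply γ (hf.apply_mem hx)]⟩
  inv := fun {P f g} hf _ hP hgf ⟨_, h1⟩ => ⟨hf.im_le, fun γ hγ => by
    have hm := aut_mor hγ hP
    have hm' := aut_mor hγ hf.im_le
    obtain ⟨k, hk, hkf, -, -⟩ := (h1 γ hγ).exists_inv
    have e : im (im P (afun γ)) (afun γ ∘ f ∘ afun γ⁻¹) = im (im P f) (afun γ) := by
      rw [hm.im_comp, hf.im_comp]
      exact im_congr fun x hx => by
        simp only [Function.comp_apply, afun_inv_apply γ (hP hx)]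
    rw [e] at hk
    refine hk.congr fun y hy => ?_
    obtain ⟨z, hz, rfl⟩ := hm'.mem_im.1 hy
    obtain ⟨x, hx, rfl⟩ := hf.mem_im.1 hz
    simp only [Function.comp_apply, afun_inv_apply γ (hf.apply_mem hx), hgf x hx]
    have := hkf _ (apply_mem_im (f := afun γ) hx)
    simpa only [Function.comp_apply, afun_inv_apply γ (hP hx)] using this⟩

/-- The `Aut_F(S)`-stable part of `E`. -/
noncomputable def stableSub (hEF : E.IsSubsystemOf F) : FusionSystem S :=
  subSystem le_rfl (closed_stable hEF)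

theorem mor_stableSub {hEF : E.IsSubsystemOf F} {P : Subgroup Ω} {f : Ω → Ω} :
    Mor (stableSub hEF) P f ↔ Mor F P f ∧ Stable F E P f := by
  rw [stableSub, mor_subSystem]
  exact ⟨fun h => ⟨h.1, h.2.2.2⟩, fun h => ⟨h.1, h.1.le, fun x hx => h.1.apply_mem hx, h.2⟩⟩

theorem stableSub_le {hEF : E.IsSubsystemOf F} {P : Subgroup Ω} {f : Ω → Ω}
    (h : Mor (stableSub hEF) P f) : Mor E P f := by
  have hP := h.le
  have h1 := (mor_stableSub.1 h).2.2 1 (F.autGroup S).one_mem
  rw [show im P (afun (1 : MulAut S)) = P from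
    (im_congr fun x hx => afun_one (hP hx)).trans (im_id P)] at h1
  refine h1.congr fun x hx => ?_
  simp only [Function.comp_apply, inv_one, afun_one (hP hx)]
  exact afun_one (h.apply_mem hx)

theorem stableSub_invariant {hEF : E.IsSubsystemOf F} {P : Subgroup Ω} {f : Ω → Ω}
    (h : Mor (stableSub hEF) P f) {δ : MulAut S} (hδ : δ ∈ F.autGroup S) :
    Mor (stableSub hEF) (im P (afun δ)) (afun δ ∘ f ∘ afun δ⁻¹) := by
  have hP := h.le
  have hm := aut_mor hδ hP
  obtain ⟨hf, -, hst⟩ := mor_stableSub.1 h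
  refine mor_stableSub.2 ⟨?_, hm.im_le, fun γ hγ => ?_⟩
  · refine ((aut_mor (inv_mem hδ) hm.im_le).comp (hf.comp (aut_mor hδ hf.im_le)
      fun x hx => apply_mem_im hx) fun y hy => ?_)
    obtain ⟨x, hx, rfl⟩ := hm.mem_im.1 hy
    rwa [afun_inv_apply δ (hP hx)]
  · have h1 := hst (γ * δ) (mul_mem hγ hδ)
    have e : im P (afun (γ * δ)) = im (im P (afun δ)) (afun γ) := by
      rw [hm.im_comp]
      exact im_congr fun x hx => afun_mul γ δ (hP hx)
    rw [e] at h1
    refine h1.congr fun y hy => ?_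
    obtain ⟨z, hz, rfl⟩ := (aut_mor hγ hm.im_le).mem_im.1 hy
    have hzS := hm.im_le hz
    simp only [Function.comp_apply, mul_inv_rev, afun_mul _ _ (afun_mem γ hzS),
      afun_inv_apply γ hzS, afun_mul _ _ (hf.apply_mem (show afun δ⁻¹ z ∈ P by
        obtain ⟨x, hx, rfl⟩ := hm.mem_im.1 hz
        rwa [afun_inv_apply δ (hP hx)]))]

/-- `f` is an automorphism of `S` in `F` following a stable map of `E`. -/
def Factor (hEF : E.IsSubsystemOf F) (P : Subgroup Ω) (f : Ω → Ω) : Prop :=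
  ∃ α ∈ F.autGroup S, ∃ e : Ω → Ω, Mor (stableSub hEF) P e ∧ ∀ x ∈ P, f x = afun α (e x)

theorem closed_factor (hEF : E.IsSubsystemOf F) : Closed F (U := S) (Factor hEF) where
  congr := fun ⟨α, hα, e, he, hfe⟩ h => ⟨α, hα, e, he, fun x hx => (h x hx).symm.trans (hfe x hx)⟩
  conj := fun {P g} hP hg => ⟨1, one_mem _, cj g, mor_cj hP hg, fun x hx =>
    (afun_one (cj_mem_S hg (hP hx))).symm⟩
  comp := fun {P Q f g} _ _ hP hQ hfQ ⟨α, hα, e₁, he₁, h1⟩ ⟨β, hβ, e₂, he₂, h2⟩ => by
    have h3 := stableSub_invariant he₂ (inv_mem hα)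
    refine ⟨β * α, mul_mem hβ hα, _, he₁.comp h3 fun x hx => ?_, fun x hx => ?_⟩
    · have := apply_mem_im (f := afun α⁻¹) (hfQ x hx)
      rwa [h1 x hx, afun_inv_apply α (he₁.apply_mem hx)] at this
    · have hy : f x ∈ S := hQ (hfQ x hx)
      have h4 : afun α (e₁ x) = f x := (h1 x hx).symm
      simp only [Function.comp_apply, inv_inv, h4]
      rw [afun_mul _ _ (afun_mem _ (he₂.apply_mem (hfQ x hx))),
        afun_apply_inv α (he₂.apply_mem (hfQ x hx))]
      exact h2 _ (hfQ x hx)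
  inv := fun {P f g} hf _ hP hgf ⟨α, hα, e, he, h1⟩ => by
    obtain ⟨ei, hei, heie, -, -⟩ := he.exists_inv
    have h3 := stableSub_invariant hei hα
    have e' : im (im P e) (afun α) = im P f := by
      rw [he.im_comp]
      exact im_congr fun x hx => (h1 x hx).symm
    rw [e'] at h3
    refine ⟨α⁻¹, inv_mem hα, _, h3, fun y hy => ?_⟩
    obtain ⟨x, hx, rfl⟩ := hf.mem_im.1 hy
    simp only [Function.comp_apply, h1 x hx, afun_inv_apply α (he.apply_mem hx), heie x hx]
    rw [afun_inv_apply α (hP hx), ← h1 x hx, hgf x hx]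

variable [Finite S] [Fact p.Prime]

/-- The `p`-elements of the automizer of a centric subgroup are stable maps of `E`. -/
theorem pel_stable {hEF : E.IsSubsystemOf F}
    (h : ∀ P : Subgroup Ω, F.IsCentric P → ∀ m ∈ F.autGroup P,
      (∃ k, orderOf m = p ^ k) → m ∈ E.autGroup P)
    {R : Subgroup Ω} (hR : F.IsCentric R) {m : MulAut R} (hm : m ∈ F.autGroup R)
    (hp : ∃ k, orderOf m = p ^ k) : m ∈ (stableSub hEF).autGroup R := by
  refine mem_autGroup_of_mor (mor_stableSub.2 ⟨(mem_autGroup hR.1).1 hm, hR.1, fun γ hγ => ?_⟩)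
  have hg := aut_mor hγ hR.1
  have h1 : hg.transport rfl m ∈ E.autGroup (im R (afun γ)) := by
    refine h _ (FusCentric.centric_conj hR (isConj_iff.2 ⟨_, hg, rfl⟩)) _
      (hg.transport_mem rfl hm) ?_
    rwa [MulEquiv.orderOf_eq]
  refine ((mem_autGroup hg.im_le).1 h1).congr fun y hy => ?_
  obtain ⟨x, hx, rfl⟩ := hg.mem_im.1 hy
  rw [hg.afun_transport rfl m hx]
  simp only [Function.comp_apply, afun_inv_apply γ (hR.1 hx)]

/-- Every map of `F` is an automorphism of `S` following a stable map of `E`. -/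
theorem factor (hS : IsPGroup p S) (hF : F.IsSaturated p) (hEF : E.IsSubsystemOf F)
    (h : ∀ P : Subgroup Ω, F.IsCentric P → ∀ m ∈ F.autGroup P,
      (∃ k, orderOf m = p ^ k) → m ∈ E.autGroup P)
    {P : Subgroup Ω} {f : Ω → Ω} (hf : Mor F P f) : Factor hEF P f := by
  suffices ∀ (k : ℕ) {P : Subgroup Ω} {f : Ω → Ω}, Mor F P f →
      Nat.card S ≤ Nat.card P + k → Factor hEF P f from this _ hf (Nat.le_add_left _ _)
  intro k
  induction k using Nat.strong_induction_on with
  | _ k IH =>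
  intro P f hf hk
  have hc := closed_factor hEF
  let Φ : Subgroup Ω → (Ω → Ω) → Prop := fun P f =>
    Nat.card S ≤ Nat.card P + k → Factor hEF P f
  have hΦ : Closed F (U := S) Φ :=
    { congr := fun h1 he hcard => hc.congr (h1 hcard) he
      conj := fun hP hg _ => hc.conj hP hg
      comp := fun {P Q f g} hf hg hP hQ hfQ h1 h2 hcard => hc.comp hf hg hP hQ hfQ (h1 hcard)
        (h2 (hcard.trans (Nat.add_le_add_right (card_le_of_mor hf hQ hfQ) k)))
      inv := fun {P f g} hf hg hP hgf h1 hcard => hc.inv hf hg hP hgf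
        (h1 (by rwa [hf.card_im] at hcard)) }
  have key : ∀ R : Subgroup Ω, (R = S ∨ F.IsEssential p R) →
      F.autGroup R ≤ (subSystem le_rfl hΦ).autGroup R := by
    intro R hR α hα
    have hRS : R ≤ S := by
      rcases hR with rfl | hR
      exacts [le_rfl, hR.1.1]
    have hm := (mem_autGroup hRS).1 hα
    refine mem_autGroup_of_mor (mor_subSystem.2 ⟨hm, hRS, fun x hx => hm.apply_mem hx,
      fun hcard => ?_⟩)
    rcases hR with rfl | hess
    · exact ⟨α, hα, fun x => x, mor_id le_rfl, fun x _ => rfl⟩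
    have hlt := FusionSysAlperin.essential_lt hS hF hess
    obtain ⟨hcen, hfn, -⟩ := hess
    let M : Subgroup (MulAut R) :=
      Subgroup.closure {m | m ∈ F.autGroup R ∧ ∃ k, orderOf m = p ^ k}
    have hM : M ≤ (stableSub hEF).autGroup R :=
      (Subgroup.closure_le _).2 fun m hm => pel_stable h hcen hm.1 hm.2
    obtain ⟨β, hβ, m, hmM, hmA, rfl, g, hg, hgβ⟩ :=
      FusionFrattini88.frattini_ext hS hF hfn M (by
        intro a ha m hm _
        have hle : M ≤ M.comap (MulAut.conj a).toMonoidHom := by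
          refine (Subgroup.closure_le _).2 fun x hx => Subgroup.subset_closure ?_
          refine ⟨mul_mem (mul_mem ha hx.1) (inv_mem ha), ?_⟩
          obtain ⟨i, hi⟩ := hx.2
          exact ⟨i, by rw [← hi]; exact MulEquiv.orderOf_eq (MulAut.conj a) x⟩
        exact hle hm) (le_refl (normalizerIn S R)) (fun s hs => by
          refine Subgroup.subset_closure ⟨autInducedBy_le hRS
            ((autInducedBy_eq_range S R).ge ⟨_, rfl⟩), ?_⟩
          obtain ⟨i, hi⟩ := IsPGroup.iff_orderOf.1 (isPGroup_autInducedBy hS R)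
            ⟨_, (autInducedBy_eq_range S R).ge ⟨⟨s, hs⟩, rfl⟩⟩
          exact ⟨i, by rw [← hi, Subgroup.orderOf_mk]⟩) hα
    have hN : Nat.card R < Nat.card ↥(R ⊔ normalizerIn S R) := by
      rw [sup_normalizerIn hRS]
      exact FusionFrattini88.card_lt_normalizerIn hS le_rfl hlt
    have hbig : Nat.card ↥(R ⊔ normalizerIn S R) ≤ Nat.card S :=
      Subgroup.card_le_of_le hg.le
    obtain ⟨δ, hδ, e, he, hge⟩ :=
      IH (Nat.card S - Nat.card ↥(R ⊔ normalizerIn S R)) (by omega) hg (by omega)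
    have hm' := (mem_autGroup hRS).1 (hM hmM)
    refine ⟨δ, hδ, _, hm'.comp (he.restrict_to le_sup_left) fun x hx => afun_mem m hx,
      fun x hx => ?_⟩
    rw [afun_mul β m hx, ← hgβ _ (afun_mem m hx)]
    exact hge _ (Subgroup.mem_sup_left (afun_mem m hx))
  have hle := FusionSysAlperin.alperin hS hF key
  exact (mor_subSystem.1 (FusCentric.mor_mono hle hf)).2.2.2 hk

end Cfsg.Agent.FusionPrimeIndex90
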